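import Mathlib

/-!
# Noether normalization with integer-coefficient parameters (helper6)

`exists_int`: for a proper ideal `I` of `k[x_0..x_{n-1}]` there are `s ≤ n` and
`y : Fin s → k[x]`, each `y i` with integer coefficients, such that
`k[t_1..t_s] → k[x]/I`, `t_i ↦ [y_i]`, is injective and integral.  We reuse the (private)
pieces of Mathlib's proof of Noether normalization (Nagata's trick), whose substitutions are
`X_i ↦ X_i - X_0 ^ r_i`.
-/

open private NoetherNormalization.T NoetherNormalization.hom2 NoetherNormalization.hom2_isIntegral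
  NoetherNormalization.eqv1 NoetherNormalization.eqv2 from Mathlib.RingTheory.NoetherNormalization

set_option autoImplicit false

namespace Groth.Agent.Lib.NoetherInt

open MvPolynomial

variable {k : Type*} [Field k] {n : ℕ}

lemma finSuccEquiv_rename_succ (p : MvPolynomial (Fin n) k) :
    MvPolynomial.finSuccEquiv k n (rename Fin.succ p) = Polynomial.C p := by
  induction p using MvPolynomial.induction_on with
  | C a =>
    rw [rename_C, MvPolynomial.finSuccEquiv_apply, MvPolynomial.eval₂Hom_C]
    rfl
  | add p q hp hq => rw [map_add, map_add, hp, hq, Polynomial.C_add]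
  | mul_X p i hp =>
    rw [map_mul, map_mul, hp, rename_X, MvPolynomial.finSuccEquiv_X_succ, Polynomial.C_mul]

lemma hom2_apply (f : MvPolynomial (Fin (n + 1)) k) (I : Ideal (MvPolynomial (Fin (n + 1)) k))
    (p : MvPolynomial (Fin n) k) :
    NoetherNormalization.hom2 f I p =
      Ideal.Quotient.mk I (NoetherNormalization.T1 f (-1) (rename Fin.succ p)) := by
  unfold NoetherNormalization.hom2
  simp only [AlgHom.coe_comp, Function.comp_apply, AlgHom.coe_restrictScalars']
  show NoetherNormalization.eqv2 f I (NoetherNormalization.eqv1 f I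
    (Ideal.Quotient.mk _ (Polynomial.C p))) = _
  have h1 : NoetherNormalization.eqv1 f I (Ideal.Quotient.mk _ (Polynomial.C p)) =
      Ideal.Quotient.mk _ ((MvPolynomial.finSuccEquiv k n).symm (Polynomial.C p)) := rfl
  rw [h1]
  have h2 : ∀ q, NoetherNormalization.eqv2 f I (Ideal.Quotient.mk _ q) =
      Ideal.Quotient.mk _ ((NoetherNormalization.T f).symm q) := fun q => rfl
  rw [h2]
  have h3 : (MvPolynomial.finSuccEquiv k n).symm (Polynomial.C p) = rename Fin.succ p := by
    rw [AlgEquiv.symm_apply_eq, finSuccEquiv_rename_succ]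
  rw [h3]
  rfl

/-- The subring of polynomials with integer coefficients. -/
noncomputable def intRange (k : Type*) [Field k] (n : ℕ) : Subring (MvPolynomial (Fin n) k) :=
  (MvPolynomial.map (Int.castRingHom k)).range

lemma X_mem_intRange (i : Fin n) : (X i : MvPolynomial (Fin n) k) ∈ intRange k n :=
  ⟨X i, MvPolynomial.map_X _ _⟩

lemma T1_rename_mem (f : MvPolynomial (Fin (n + 1)) k) (p : MvPolynomial (Fin n) k)
    (hp : p ∈ intRange k n) :
    NoetherNormalization.T1 f (-1) (rename Fin.succ p) ∈ intRange k (n + 1) := by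
  obtain ⟨z, rfl⟩ := hp
  induction z using MvPolynomial.induction_on with
  | C a =>
    rw [MvPolynomial.map_C, rename_C, ← MvPolynomial.algebraMap_eq, AlgHom.commutes,
      MvPolynomial.algebraMap_eq]
    exact ⟨C a, MvPolynomial.map_C _ _⟩
  | add p q hp hq =>
    rw [map_add, map_add, map_add]
    exact Subring.add_mem _ hp hq
  | mul_X p i hp =>
    rw [map_mul, map_mul, map_mul, MvPolynomial.map_X, rename_X]
    refine Subring.mul_mem _ hp ?_
    rw [NoetherNormalization.T1, aeval_X, if_neg (Fin.succ_ne_zero i), neg_smul, one_smul]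
    exact Subring.add_mem _ (X_mem_intRange _)
      (Subring.neg_mem _ (Subring.pow_mem _ (X_mem_intRange _) _))

theorem exists_int (I : Ideal (MvPolynomial (Fin n) k)) (hi : I ≠ ⊤) :
    ∃ s ≤ n, ∃ y : Fin s → MvPolynomial (Fin n) k, (∀ i, y i ∈ intRange k n) ∧
      Function.Injective ((Ideal.Quotient.mkₐ k I).comp (aeval y)) ∧
      ((Ideal.Quotient.mkₐ k I).comp (aeval y)).IsIntegral := by
  induction n with
  | zero =>
    have hid : (aeval (fun i : Fin 0 => (i.elim0 : MvPolynomial (Fin 0) k))) =
        AlgHom.id k (MvPolynomial (Fin 0) k) := by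
      apply MvPolynomial.algHom_ext
      intro i
      exact i.elim0
    refine ⟨0, le_rfl, fun i => i.elim0, fun i => i.elim0, ?_, ?_⟩
    · rw [hid, AlgHom.comp_id]
      intro a b hab
      rw [Ideal.Quotient.mkₐ_eq_mk, Ideal.Quotient.eq] at hab
      by_contra ne
      have eq := eq_C_of_isEmpty (a - b)
      have ne : coeff 0 (a - b) ≠ 0 := fun h ↦ h ▸ eq ▸ sub_ne_zero_of_ne ne <| map_zero _
      obtain ⟨c, _, eqr⟩ := isUnit_iff_exists.mp ne.isUnit
      have one : c • (a - b) = 1 := by
        rw [MvPolynomial.smul_eq_C_mul, eq, ← map_mul, eqr, MvPolynomial.C_1]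
      exact hi ((Ideal.eq_top_iff_one I).mpr (one ▸ I.smul_of_tower_mem c hab))
    · rw [hid, AlgHom.comp_id]
      exact RingHom.isIntegral_of_surjective _ (Ideal.Quotient.mkₐ_surjective k I)
  | succ d hd =>
    by_cases eqi : I = ⊥
    · have bij : Function.Bijective (Ideal.Quotient.mkₐ k I) :=
        (Ideal.Quotient.mk_bijective_iff_eq_bot I).mpr eqi
      have hid : (aeval (fun i : Fin (d + 1) => (X i : MvPolynomial (Fin (d + 1)) k))) =
          AlgHom.id k (MvPolynomial (Fin (d + 1)) k) := by
        apply MvPolynomial.algHom_ext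
        intro i
        rw [aeval_X]; rfl
      refine ⟨d + 1, le_rfl, X, fun i => X_mem_intRange i, ?_, ?_⟩
      · rw [hid, AlgHom.comp_id]; exact bij.1
      · rw [hid, AlgHom.comp_id]; exact RingHom.isIntegral_of_surjective _ bij.2
    · obtain ⟨f, fi, fne⟩ := Submodule.exists_mem_ne_zero_of_ne_bot eqi
      have := Ideal.Quotient.nontrivial_iff.mpr hi
      obtain ⟨s, hs, y', hy'int, injg, intg⟩ :=
        hd (RingHom.ker <| NoetherNormalization.hom2 f I)
          (RingHom.ker_ne_top <| NoetherNormalization.hom2 f I)
      have comp : (Ideal.kerLiftAlg (NoetherNormalization.hom2 f I)).comp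
          (Ideal.Quotient.mkₐ k <| RingHom.ker <| NoetherNormalization.hom2 f I) =
          (NoetherNormalization.hom2 f I) :=
        AlgHom.ext fun a ↦ by
          simp only [AlgHom.coe_comp, Ideal.Quotient.mkₐ_eq_mk, Function.comp_apply,
            Ideal.kerLiftAlg_mk]
      have key : (Ideal.Quotient.mkₐ k I).comp
          (aeval fun i => NoetherNormalization.T1 f (-1) (rename Fin.succ (y' i))) =
          (Ideal.kerLiftAlg (NoetherNormalization.hom2 f I)).comp
            ((Ideal.Quotient.mkₐ k (RingHom.ker <| NoetherNormalization.hom2 f I)).comp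
              (aeval y')) := by
        apply MvPolynomial.algHom_ext
        intro i
        rw [← AlgHom.comp_assoc, comp]
        simp only [AlgHom.coe_comp, Function.comp_apply, aeval_X, Ideal.Quotient.mkₐ_eq_mk]
        rw [hom2_apply]
      refine ⟨s, by omega, fun i => NoetherNormalization.T1 f (-1) (rename Fin.succ (y' i)),
        fun i => T1_rename_mem f _ (hy'int i), ?_, ?_⟩
      · rw [key, AlgHom.coe_comp]
        exact (Ideal.kerLiftAlg_injective _).comp injg
      · rw [key]
        exact intg.trans _ _ <|
          (comp ▸ NoetherNormalization.hom2_isIntegral f I fne fi).tower_top _ _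

end Groth.Agent.Lib.NoetherInt
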