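import Mathlib
import Groth.Prelude.Def_NonAbH1

set_option autoImplicit false
set_option linter.style.haveILetI false
set_option linter.unusedSectionVars false

universe w' w v u

open CategoryTheory Opposite

namespace Groth.Agent.Lib.NonAb1H4

open NonAbH1

variable {C : Type u} [Category.{v} C] {J : GrothendieckTopology C}

/-! ### elementwise functoriality -/

theorem tmap_comp (P : Cᵒᵖ ⥤ Type w) {U V W : Cᵒᵖ} (f : U ⟶ V) (g : V ⟶ W) (x : P.obj U) :
    P.map (f ≫ g) x = P.map g (P.map f x) := by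
  rw [Functor.map_comp]; rfl

theorem tmap_id (P : Cᵒᵖ ⥤ Type w) (U : Cᵒᵖ) (x : P.obj U) : P.map (𝟙 U) x = x := by
  rw [CategoryTheory.Functor.map_id]; rfl

theorem gmap_comp (G : Cᵒᵖ ⥤ GrpCat.{w}) {U V W : Cᵒᵖ} (f : U ⟶ V) (g : V ⟶ W) (x : G.obj U) :
    G.map (f ≫ g) x = G.map g (G.map f x) := by
  rw [Functor.map_comp]; rfl

theorem gmap_id (G : Cᵒᵖ ⥤ GrpCat.{w}) (U : Cᵒᵖ) (x : G.obj U) : G.map (𝟙 U) x = x := by
  rw [CategoryTheory.Functor.map_id]; rfl

/-! ### sheaves of sets: separatedness and gluing -/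

theorem sep (R : Sheaf J (Type w)) {X : C} (S : Sieve X) (hS : S ∈ J X)
    {t₁ t₂ : R.obj.obj (op X)}
    (h : ∀ ⦃Y : C⦄ (f : Y ⟶ X), S f → R.obj.map f.op t₁ = R.obj.map f.op t₂) : t₁ = t₂ :=
  ((((isSheaf_iff_isSheaf_of_type J R.obj).1 R.property) S hS).isSeparatedFor).ext
    (fun Y f hf => h f hf)

theorem glue (R : Sheaf J (Type w)) {X : C} (S : Sieve X) (hS : S ∈ J X)
    (x : ∀ ⦃Y : C⦄ (f : Y ⟶ X), S f → R.obj.obj (op Y))
    (hx : ∀ ⦃Y Z : C⦄ (f : Y ⟶ X) (g : Z ⟶ Y) (hf : S f),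
      x (g ≫ f) (S.downward_closed hf g) = R.obj.map g.op (x f hf)) :
    ∃ t : R.obj.obj (op X), ∀ ⦃Y : C⦄ (f : Y ⟶ X) (hf : S f), R.obj.map f.op t = x f hf := by
  have hsh := ((isSheaf_iff_isSheaf_of_type J R.obj).1 R.property) S hS
  let x' : Presieve.FamilyOfElements R.obj (S : Presieve X) := fun Y f hf => x f hf
  have hc : x'.Compatible :=
    (Presieve.compatible_iff_sieveCompatible x').2 (fun Y Z f g hf => hx f g hf)
  exact ⟨hsh.amalgamate x' hc, fun Y f hf => hsh.valid_glue hc f hf⟩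

/-- The image of a sectionwise injective morphism of sheaves of sets is closed under local
membership. -/
theorem exists_of_local {R R' : Sheaf J (Type w)} (ι : R ⟶ R')
    (hinj : ∀ U : Cᵒᵖ, Function.Injective (ι.hom.app U))
    {X : C} (S : Sieve X) (hS : S ∈ J X) (g : R'.obj.obj (op X))
    (h : ∀ (V : C) (a : V ⟶ X), S a →
      ∃ x : R.obj.obj (op V), ι.hom.app (op V) x = R'.obj.map a.op g) :
    ∃ t : R.obj.obj (op X), ι.hom.app (op X) t = g := by
  choose x hx using h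
  obtain ⟨t, ht⟩ := glue R S hS (fun V a ha => x V a ha) (fun Y Z a b ha => by
    apply hinj (op Z)
    exact (hx Z (b ≫ a) _).trans ((tmap_comp R'.obj a.op b.op g).trans
      ((congrArg (fun z => R'.obj.map b.op z) (hx Y a ha)).symm.trans
        (NatTrans.naturality_apply ι.hom b.op (x Y a ha)).symm)))
  refine ⟨t, sep R' S hS (fun V a ha => ?_)⟩
  exact (NatTrans.naturality_apply ι.hom a.op t).symm.trans
    ((congrArg (fun z => ι.hom.app (op V) z) (ht a ha)).trans (hx V a ha))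

/-- A morphism of sheaves of sets from a natural family of functions. -/
def mkShHom {R R' : Sheaf J (Type w)} (θ : ∀ U : Cᵒᵖ, R.obj.obj U → R'.obj.obj U)
    (hnat : ∀ {U V : Cᵒᵖ} (a : U ⟶ V) (p : R.obj.obj U),
      θ V (R.obj.map a p) = R'.obj.map a (θ U p)) : R ⟶ R' :=
  ObjectProperty.homMk
    { app := fun U => TypeCat.ofHom (θ U)
      naturality := fun U V a => ConcreteCategory.hom_ext _ _ fun p => hnat a p }

theorem mkShHom_app {R R' : Sheaf J (Type w)} (θ : ∀ U : Cᵒᵖ, R.obj.obj U → R'.obj.obj U)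
    (hnat : ∀ {U V : Cᵒᵖ} (a : U ⟶ V) (p : R.obj.obj U),
      θ V (R.obj.map a p) = R'.obj.map a (θ U p)) (U : Cᵒᵖ) (p : R.obj.obj U) :
    (mkShHom θ hnat).hom.app U p = θ U p := rfl

variable {G : Sheaf J GrpCat.{w}}

/-- An equivariant morphism from a natural equivariant family of functions. -/
def mkHom {P Q : GSheaf G} (θ : ∀ U : Cᵒᵖ, P.P.obj.obj U → Q.P.obj.obj U)
    (hnat : ∀ {U V : Cᵒᵖ} (a : U ⟶ V) (p : P.P.obj.obj U),
      θ V (P.P.obj.map a p) = Q.P.obj.map a (θ U p))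
    (heq : ∀ {U : Cᵒᵖ} (g : G.obj.obj U) (p : P.P.obj.obj U),
      θ U (P.smul g p) = Q.smul g (θ U p)) : P ⟶ Q :=
  GSheaf.Hom.mk (P := P) (Q := Q) (mkShHom θ hnat) (fun g p => heq g p)

theorem mkHom_app {P Q : GSheaf G} (θ : ∀ U : Cᵒᵖ, P.P.obj.obj U → Q.P.obj.obj U)
    (hnat : ∀ {U V : Cᵒᵖ} (a : U ⟶ V) (p : P.P.obj.obj U),
      θ V (P.P.obj.map a p) = Q.P.obj.map a (θ U p))
    (heq : ∀ {U : Cᵒᵖ} (g : G.obj.obj U) (p : P.P.obj.obj U),
      θ U (P.smul g p) = Q.smul g (θ U p)) (U : Cᵒᵖ) (p : P.P.obj.obj U) :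
    (mkHom θ hnat heq).hom.hom.app U p = θ U p := rfl

/-! ### pseudo-torsors -/

theorem pt_inj {P : GSheaf G} (hP : P.IsPseudoTorsor) {U : Cᵒᵖ} (p : P.P.obj.obj U)
    {g h : G.obj.obj U} (e : P.smul g p = P.smul h p) : g = h :=
  (hP U p (P.smul h p)).unique e rfl

noncomputable def diff {P : GSheaf G} (hP : P.IsPseudoTorsor) {U : Cᵒᵖ} (p q : P.P.obj.obj U) :
    G.obj.obj U :=
  (hP U p q).exists.choose

theorem diff_smul {P : GSheaf G} (hP : P.IsPseudoTorsor) {U : Cᵒᵖ} (p q : P.P.obj.obj U) :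
    P.smul (diff hP p q) p = q :=
  (hP U p q).exists.choose_spec

theorem diff_eq {P : GSheaf G} (hP : P.IsPseudoTorsor) {U : Cᵒᵖ} {p q : P.P.obj.obj U}
    {g : G.obj.obj U} (e : P.smul g p = q) : diff hP p q = g :=
  (hP U p q).unique (diff_smul hP p q) e

theorem diff_map {P : GSheaf G} (hP : P.IsPseudoTorsor) {U V : Cᵒᵖ} (f : U ⟶ V)
    (p q : P.P.obj.obj U) :
    G.obj.map f (diff hP p q) = diff hP (P.P.obj.map f p) (P.P.obj.map f q) :=
  (diff_eq hP ((P.map_smul f _ _).symm.trans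
    (congrArg (fun z => P.P.obj.map f z) (diff_smul hP p q)))).symm

theorem hom_injective {P Q : GSheaf G} (hP : P.IsPseudoTorsor) (hQ : Q.IsPseudoTorsor)
    (f : P ⟶ Q) (U : Cᵒᵖ) : Function.Injective (f.hom.hom.app U) := by
  intro p p' h
  have h1 : Q.smul (diff hP p p') (f.hom.hom.app U p) = Q.smul 1 (f.hom.hom.app U p) :=
    ((f.map_smul _ _).symm.trans ((congrArg (fun z => f.hom.hom.app U z)
      (diff_smul hP p p')).trans h.symm)).trans (Q.one_smul _).symm
  have h2 : diff hP p p' = 1 := pt_inj hQ _ h1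
  have h3 := diff_smul hP p p'
  rw [h2, P.one_smul] at h3
  exact h3

theorem hom_surjective' {P Q : GSheaf G} (hP : P.IsTorsor) (hQ : Q.IsPseudoTorsor)
    (f : P ⟶ Q) (X : C) : Function.Surjective (f.hom.hom.app (op X)) := by
  intro q
  obtain ⟨S, hS, hne⟩ := hP.2 X
  refine exists_of_local f.hom (hom_injective hP.1 hQ f) S hS q (fun V a ha => ?_)
  obtain ⟨p⟩ := hne a ha
  exact ⟨P.smul (diff hQ (f.hom.hom.app (op V) p) (Q.P.obj.map a.op q)) p,
    (f.map_smul _ _).trans (diff_smul hQ _ _)⟩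

theorem hom_surjective {P Q : GSheaf G} (hP : P.IsTorsor) (hQ : Q.IsPseudoTorsor)
    (f : P ⟶ Q) (U : Cᵒᵖ) : Function.Surjective (f.hom.hom.app U) :=
  hom_surjective' hP hQ f (unop U)

theorem iso_of_bijective {P Q : GSheaf G} (f : P ⟶ Q)
    (hf : ∀ U : Cᵒᵖ, Function.Bijective (f.hom.hom.app U)) : Nonempty (P ≅ Q) := by
  let e : ∀ U : Cᵒᵖ, P.P.obj.obj U ≃ Q.P.obj.obj U := fun U => Equiv.ofBijective _ (hf U)
  have hinv : ∀ (U : Cᵒᵖ) (y : Q.P.obj.obj U), f.hom.hom.app U ((e U).symm y) = y :=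
    fun U y => (e U).apply_symm_apply y
  have hinv' : ∀ (U : Cᵒᵖ) (x : P.P.obj.obj U), (e U).symm (f.hom.hom.app U x) = x :=
    fun U x => (e U).symm_apply_apply x
  have hnat : ∀ {U V : Cᵒᵖ} (a : U ⟶ V) (y : Q.P.obj.obj U),
      (e V).symm (Q.P.obj.map a y) = P.P.obj.map a ((e U).symm y) := fun {U V} a y =>
    (hf V).1 ((hinv V _).trans ((congrArg (fun z => Q.P.obj.map a z) (hinv U y)).symm.trans
      (NatTrans.naturality_apply f.hom.hom a ((e U).symm y)).symm))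
  have hsm : ∀ {U : Cᵒᵖ} (γ : G.obj.obj U) (q : Q.P.obj.obj U),
      (e U).symm (Q.smul γ q) = P.smul γ ((e U).symm q) := fun {U} γ q =>
    (hf U).1 ((hinv U _).trans ((congrArg (fun z => Q.smul γ z) (hinv U q)).symm.trans
      (f.map_smul γ ((e U).symm q)).symm))
  let g : Q ⟶ P := mkHom (fun U => (e U).symm) hnat hsm
  exact ⟨{ hom := f, inv := g,
           hom_inv_id := GSheaf.hom_ext (Sheaf.hom_ext (NatTrans.ext (funext fun U =>
             ConcreteCategory.hom_ext _ _ fun x => hinv' U x)))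
           inv_hom_id := GSheaf.hom_ext (Sheaf.hom_ext (NatTrans.ext (funext fun U =>
             ConcreteCategory.hom_ext _ _ fun y => hinv U y))) }⟩

/-- Every equivariant morphism from a torsor to a pseudo-torsor is an isomorphism. -/
theorem iso_of_hom {P Q : GSheaf G} (hP : P.IsTorsor) (hQ : Q.IsPseudoTorsor) (f : P ⟶ Q) :
    Nonempty (P ≅ Q) :=
  iso_of_bijective f (fun U => ⟨hom_injective hP.1 hQ f U, hom_surjective hP hQ f U⟩)

/-! ### gluing an invariant of local sections -/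

theorem glue_invariant {T : GSheaf G} (hT : T.LocallyNonempty) (R : Sheaf J (Type w))
    (κ : ∀ U : Cᵒᵖ, T.P.obj.obj U → R.obj.obj U)
    (hκ : ∀ (U : Cᵒᵖ) (t t' : T.P.obj.obj U), κ U t = κ U t')
    (hnat : ∀ {U V : Cᵒᵖ} (a : U ⟶ V) (t : T.P.obj.obj U),
      R.obj.map a (κ U t) = κ V (T.P.obj.map a t)) :
    ∃ r : R.obj.sections, ∀ (U : Cᵒᵖ) (t : T.P.obj.obj U), r.1 U = κ U t := by
  have hex : ∀ X : C, ∃ r : R.obj.obj (op X), ∀ (Z : C) (d : Z ⟶ X) (p : T.P.obj.obj (op Z)),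
      R.obj.map d.op r = κ (op Z) p := by
    intro X
    obtain ⟨S, hS, hne⟩ := hT X
    let p : ∀ (V : C) (a : V ⟶ X), S a → T.P.obj.obj (op V) :=
      fun V a ha => Classical.choice (hne a ha)
    obtain ⟨r, hr⟩ := glue R S hS (fun V a ha => κ (op V) (p V a ha)) (fun Y Z a g ha =>
      (hκ _ _ _).trans (hnat g.op (p Y a ha)).symm)
    refine ⟨r, fun Z d q => ?_⟩
    refine sep R (S.pullback d) (J.pullback_stable d hS) (fun W e he => ?_)
    exact (tmap_comp R.obj d.op e.op r).symm.trans ((hr (e ≫ d) he).trans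
      ((hκ _ _ _).trans (hnat e.op q).symm))
  choose r hr using hex
  refine ⟨⟨fun U => r (unop U), ?_⟩, fun U t => ?_⟩
  · intro U V a
    obtain ⟨S, hS, hne⟩ := hT (unop V)
    refine sep R S hS (fun Z c hc => ?_)
    obtain ⟨q⟩ := hne c hc
    exact ((tmap_comp R.obj a c.op _).symm.trans (hr (unop U) Z (c ≫ a.unop) q)).trans
      (hr (unop V) Z c q).symm
  · exact (tmap_id R.obj U _).symm.trans (hr (unop U) (unop U) (𝟙 _) t)

/-! ### the Čech cocycle of a family of sections -/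

noncomputable def cocycleOf {P : GSheaf G} (hP : P.IsPseudoTorsor) {I : Type w'} (U : I → C)
    (s : ∀ i, P.P.obj.obj (op (U i))) : PresheafOfGroups.OneCocycle G.obj U :=
  { ev := fun i j T a b => diff hP (P.P.obj.map b.op (s j)) (P.P.obj.map a.op (s i))
    ev_precomp := fun i j T T' φ a b =>
      (diff_map hP φ.op _ _).trans (congrArg₂ (fun x y => diff hP x y)
        (tmap_comp P.P.obj b.op φ.op (s j)).symm (tmap_comp P.P.obj a.op φ.op (s i)).symm)
    ev_trans := fun i j k T a b c => by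
      refine (diff_eq hP ?_).symm
      rw [P.mul_smul, diff_smul, diff_smul] }

theorem isCocycleOf_cocycleOf {P : GSheaf G} (hP : P.IsPseudoTorsor) {I : Type w'} (U : I → C)
    (s : ∀ i, P.P.obj.obj (op (U i))) : P.IsCocycleOf U s (cocycleOf hP U s) :=
  fun i j T a b => diff_smul hP (P.P.obj.map b.op (s j)) (P.P.obj.map a.op (s i))

theorem class_unique {P : GSheaf G} (hP : P.IsPseudoTorsor) {I : Type w'} (U : I → C)
    {s s' : ∀ i, P.P.obj.obj (op (U i))} {γ γ' : PresheafOfGroups.OneCocycle G.obj U}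
    (h : P.IsCocycleOf U s γ) (h' : P.IsCocycleOf U s' γ') : γ.class = γ'.class := by
  refine PresheafOfGroups.OneCocycle.IsCohomologous.class_eq
    ⟨fun i => diff hP (s i) (s' i), ?_⟩
  intro i j T a b
  apply pt_inj hP (P.P.obj.map b.op (s j))
  have e1 : P.smul (G.obj.map a.op (diff hP (s i) (s' i)) * γ.ev i j a b)
      (P.P.obj.map b.op (s j)) = P.P.obj.map a.op (s' i) :=
    (P.mul_smul _ _ _).trans ((congrArg (fun z => P.smul _ z) (h i j a b)).trans
      ((P.map_smul a.op _ _).symm.trans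
        (congrArg (fun z => P.P.obj.map a.op z) (diff_smul hP (s i) (s' i)))))
  have e2 : P.smul (γ'.ev i j a b * G.obj.map b.op (diff hP (s j) (s' j)))
      (P.P.obj.map b.op (s j)) = P.P.obj.map a.op (s' i) :=
    (P.mul_smul _ _ _).trans ((congrArg (fun z => P.smul (γ'.ev i j a b) z)
      ((P.map_smul b.op _ _).symm.trans
        (congrArg (fun z => P.P.obj.map b.op z) (diff_smul hP (s j) (s' j))))).trans
      (h' i j a b))
  exact e1.trans e2.symm

theorem main16272 {G : Sheaf J GrpCat.{w}} (P : NonAbH1.Torsor G)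
    {I : Type w'} (U : I → C) (hP : P.TrivialisedBy U) :
    ∃! c : PresheafOfGroups.H1 G.obj U, P.HasCechClass U c := by
  let s : ∀ i, P.P.obj.obj (op (U i)) := fun i => Classical.choice (hP i)
  refine ⟨(cocycleOf P.isTorsor.1 U s).class,
    ⟨s, _, isCocycleOf_cocycleOf P.isTorsor.1 U s, rfl⟩, ?_⟩
  rintro c ⟨s', γ', h', rfl⟩
  exact class_unique P.isTorsor.1 U h' (isCocycleOf_cocycleOf P.isTorsor.1 U s)

end Groth.Agent.Lib.NonAb1H4
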