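import Mathlib
import Groth.Prelude.Def_NonAbH1
import Groth.Agent.Lib.NonAb1_helper4

set_option autoImplicit false
set_option linter.style.haveILetI false
set_option linter.unusedSectionVars false

universe w' w v u

open CategoryTheory Opposite

noncomputable section

namespace Groth.Agent.Lib.NonAb2H4

open NonAbH1 Groth.Agent.Lib.NonAb1H4

theorem grp4 {M : Type*} [Group M] (A B c : M) : (A * c) * (B * c)⁻¹ = A * B⁻¹ := by group

variable {C : Type u} [Category.{v} C] {J : GrothendieckTopology C}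

theorem isSheaf_forget (G : Sheaf J GrpCat.{w}) :
    Presieve.IsSheaf J (G.obj ⋙ forget GrpCat.{w}) :=
  Presieve.isSheaf_iso J (Functor.isoWhiskerLeft G.obj GrpCat.coyonedaObjIsoForget.{w})
    (G.property _)

/-- the underlying sheaf of sets of a sheaf of groups (no instance needed) -/
def gS (G : Sheaf J GrpCat.{w}) : Sheaf J (Type w) :=
  ⟨G.obj ⋙ forget GrpCat.{w}, (isSheaf_iff_isSheaf_of_type J _).2 (isSheaf_forget G)⟩

variable {G : Sheaf J GrpCat.{w}} {I : Type w'} {U : I → C}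

theorem sepG {X : C} (S : Sieve X) (hS : S ∈ J X) {g h : G.obj.obj (op X)}
    (e : ∀ ⦃Y : C⦄ (f : Y ⟶ X), S f → G.obj.map f.op g = G.obj.map f.op h) : g = h :=
  sep (gS G) S hS (t₁ := g) (t₂ := h) e

theorem glueG {X : C} (S : Sieve X) (hS : S ∈ J X)
    (x : ∀ ⦃Y : C⦄ (f : Y ⟶ X), S f → G.obj.obj (op Y))
    (hx : ∀ ⦃Y Z : C⦄ (f : Y ⟶ X) (g : Z ⟶ Y) (hf : S f),
      x (g ≫ f) (S.downward_closed hf g) = G.obj.map g.op (x f hf)) :
    ∃ t : G.obj.obj (op X), ∀ ⦃Y : C⦄ (f : Y ⟶ X) (hf : S f), G.obj.map f.op t = x f hf :=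
  glue (gS G) S hS x hx

/-! ### the twisted presheaf (in a large universe) -/

@[ext]
structure Tw (γ : PresheafOfGroups.OneCocycle G.obj U) (V : C) where
  x : ∀ ⦃T : C⦄ (_ : T ⟶ V) (i : I) (_ : T ⟶ U i), G.obj.obj (op T)
  pre : ∀ ⦃T T' : C⦄ (φ : T' ⟶ T) (a : T ⟶ V) (i : I) (b : T ⟶ U i),
    G.obj.map φ.op (x a i b) = x (φ ≫ a) i (φ ≫ b)
  tw : ∀ ⦃T : C⦄ (a : T ⟶ V) (i j : I) (b : T ⟶ U i) (b' : T ⟶ U j),
    x a j b' = x a i b * γ.ev i j b b'

variable {γ : PresheafOfGroups.OneCocycle G.obj U}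

theorem Tw.x_congr {V : C} (x : Tw γ V) {T : C} {a a' : T ⟶ V} (i : I)
    {b b' : T ⟶ U i} (ha : a = a') (hb : b = b') : x.x a i b = x.x a' i b' := by
  subst ha; subst hb; rfl

def Tw.res {V V' : C} (c : V' ⟶ V) (x : Tw γ V) : Tw γ V' where
  x := fun T a i b => x.x (a ≫ c) i b
  pre := fun T T' φ a i b => (x.pre φ (a ≫ c) i b).trans
    (congrArg (fun z => x.x z i (φ ≫ b)) (Category.assoc φ a c).symm)
  tw := fun T a i j b b' => x.tw (a ≫ c) i j b b'

def Tw.act {V : C} (g : G.obj.obj (op V)) (x : Tw γ V) : Tw γ V where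
  x := fun T a i b => G.obj.map a.op g * x.x a i b
  pre := fun T T' φ a i b => (map_mul _ _ _).trans
    (congrArg₂ (· * ·) (gmap_comp G.obj a.op φ.op g).symm (x.pre φ a i b))
  tw := fun T a i j b b' =>
    (congrArg (fun z => G.obj.map a.op g * z) (x.tw a i j b b')).trans (mul_assoc _ _ _).symm

theorem Tw.res_id {V : C} (x : Tw γ V) : Tw.res (𝟙 V) x = x :=
  Tw.ext (by funext T a i b; exact congrArg (fun z => x.x z i b) (Category.comp_id a))

theorem Tw.res_comp {V V' V'' : C} (c : V' ⟶ V) (c' : V'' ⟶ V') (x : Tw γ V) :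
    Tw.res (c' ≫ c) x = Tw.res c' (Tw.res c x) :=
  Tw.ext (by funext T a i b; exact congrArg (fun z => x.x z i b) (Category.assoc a c' c).symm)

theorem Tw.act_one {V : C} (x : Tw γ V) : Tw.act 1 x = x :=
  Tw.ext (by
    funext T a i b
    show G.obj.map a.op 1 * x.x a i b = x.x a i b
    rw [map_one, one_mul])

theorem Tw.act_mul {V : C} (g h : G.obj.obj (op V)) (x : Tw γ V) :
    Tw.act (g * h) x = Tw.act g (Tw.act h x) :=
  Tw.ext (by
    funext T a i b
    show G.obj.map a.op (g * h) * x.x a i b = G.obj.map a.op g * (G.obj.map a.op h * x.x a i b)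
    rw [map_mul, mul_assoc])

theorem Tw.res_act {V V' : C} (c : V' ⟶ V) (g : G.obj.obj (op V)) (x : Tw γ V) :
    Tw.res c (Tw.act g x) = Tw.act (G.obj.map c.op g) (Tw.res c x) :=
  Tw.ext (by
    funext T a i b
    exact congrArg (fun z => z * x.x (a ≫ c) i b) (gmap_comp G.obj c.op a.op g))

theorem Tw.res_act' {V V' : Cᵒᵖ} (f : V ⟶ V') (g : G.obj.obj V) (x : Tw γ (unop V)) :
    Tw.res f.unop (Tw.act g x) = Tw.act (G.obj.map f g) (Tw.res f.unop x) :=
  Tw.res_act f.unop g x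

/-- the canonical sections over the `U i` -/
def Tw.sec (γ : PresheafOfGroups.OneCocycle G.obj U) (i : I) : Tw γ (U i) where
  x := fun T a j b => γ.ev i j a b
  pre := fun T T' φ a j b => γ.ev_precomp i j φ a b
  tw := fun T a j k b b' => (γ.ev_trans i j k a b b').symm

theorem Tw.sec_cocycle (γ : PresheafOfGroups.OneCocycle G.obj U) (i j : I) {T : C}
    (a : T ⟶ U i) (b : T ⟶ U j) :
    Tw.act (γ.ev i j a b) (Tw.res b (Tw.sec γ j)) = Tw.res a (Tw.sec γ i) :=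
  Tw.ext (by
    funext T' e k d
    show G.obj.map e.op (γ.ev i j a b) * γ.ev j k (e ≫ b) d = γ.ev i k (e ≫ a) d
    rw [γ.ev_precomp, γ.ev_trans])

/-! ### sheaf condition for the twisted presheaf -/

theorem Tw.sep {V : C} (S : Sieve V) (hS : S ∈ J V) {x y : Tw γ V}
    (h : ∀ ⦃Y : C⦄ (c : Y ⟶ V), S c → Tw.res c x = Tw.res c y) : x = y :=
  Tw.ext (by
    funext T a i b
    refine sepG (S.pullback a) (J.pullback_stable a hS) (fun W e he => ?_)
    have he' : S (e ≫ a) := he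
    have h1 : x.x (𝟙 W ≫ e ≫ a) i (e ≫ b) = y.x (𝟙 W ≫ e ≫ a) i (e ≫ b) :=
      congrArg (fun z : Tw γ W => z.x (𝟙 W) i (e ≫ b)) (h (e ≫ a) he')
    have h2 : x.x (e ≫ a) i (e ≫ b) = y.x (e ≫ a) i (e ≫ b) :=
      ((Tw.x_congr x i (Category.id_comp (e ≫ a)) rfl).symm.trans h1).trans
        (Tw.x_congr y i (Category.id_comp (e ≫ a)) rfl)
    exact (x.pre e a i b).trans (h2.trans (y.pre e a i b).symm))

theorem Tw.glue {V : C} (S : Sieve V) (hS : S ∈ J V)
    (X : ∀ ⦃Y : C⦄ (c : Y ⟶ V), S c → Tw γ Y)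
    (hX : ∀ ⦃Y Z : C⦄ (c : Y ⟶ V) (d : Z ⟶ Y) (hc : S c),
      X (d ≫ c) (S.downward_closed hc d) = Tw.res d (X c hc)) :
    ∃ z : Tw γ V, ∀ ⦃Y : C⦄ (c : Y ⟶ V) (hc : S c), Tw.res c z = X c hc := by
  have Xc : ∀ {Y : C} {c c' : Y ⟶ V} (h : c = c') (hc : S c) (hc' : S c'),
      X c hc = X c' hc' := by
    intro Y c c' h hc hc'; subst h; rfl
  have hXe : ∀ ⦃Y Z : C⦄ (c : Y ⟶ V) (d : Z ⟶ Y) (hc : S c) (hdc : S (d ≫ c)) ⦃T : C⦄
      (a : T ⟶ Z) (i : I) (b : T ⟶ U i),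
      (X (d ≫ c) hdc).x a i b = (X c hc).x (a ≫ d) i b := by
    intro Y Z c d hc hdc T a i b
    exact congrArg (fun z : Tw γ Z => z.x a i b) (hX c d hc)
  have hex : ∀ (T : C) (a : T ⟶ V) (i : I) (b : T ⟶ U i), ∃ g : G.obj.obj (op T),
      ∀ ⦃W : C⦄ (e : W ⟶ T) (he : S (e ≫ a)),
        G.obj.map e.op g = (X (e ≫ a) he).x (𝟙 W) i (e ≫ b) := by
    intro T a i b
    refine glueG (S.pullback a) (J.pullback_stable a hS)
      (fun W e he => (X (e ≫ a) he).x (𝟙 W) i (e ≫ b)) ?_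
    intro W W' e e' he
    have he1 : S (e ≫ a) := he
    have he2 : S (e' ≫ (e ≫ a)) := S.downward_closed he1 e'
    have he3 : S ((e' ≫ e) ≫ a) := by rw [Category.assoc]; exact he2
    have A : (X ((e' ≫ e) ≫ a) he3).x (𝟙 W') i ((e' ≫ e) ≫ b) =
        (X (e' ≫ e ≫ a) he2).x (𝟙 W') i ((e' ≫ e) ≫ b) :=
      congrArg (fun z : Tw γ W' => z.x (𝟙 W') i ((e' ≫ e) ≫ b))
        (Xc (Category.assoc e' e a) he3 he2)
    have B := hXe (e ≫ a) e' he1 he2 (𝟙 W') i ((e' ≫ e) ≫ b)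
    have Cc : (X (e ≫ a) he1).x (𝟙 W' ≫ e') i ((e' ≫ e) ≫ b) =
        (X (e ≫ a) he1).x (e' ≫ 𝟙 W) i (e' ≫ e ≫ b) :=
      Tw.x_congr _ i ((Category.id_comp e').trans (Category.comp_id e').symm)
        (Category.assoc e' e b)
    have D := ((X (e ≫ a) he1).pre e' (𝟙 W) i (e ≫ b)).symm
    exact (A.trans B).trans (Cc.trans D)
  choose zx hz using hex
  let z : Tw γ V :=
    { x := fun T a i b => zx T a i b
      pre := fun T T' φ a i b => by
        refine sepG (S.pullback (φ ≫ a)) (J.pullback_stable (φ ≫ a) hS) (fun W e' he' => ?_)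
        have h1 : S (e' ≫ (φ ≫ a)) := he'
        have h2 : S ((e' ≫ φ) ≫ a) := by rw [Category.assoc]; exact h1
        have L := (gmap_comp G.obj φ.op e'.op (zx T a i b)).symm.trans
          (hz T a i b (e' ≫ φ) h2)
        have R := hz T' (φ ≫ a) i (φ ≫ b) e' h1
        have M : (X ((e' ≫ φ) ≫ a) h2).x (𝟙 W) i ((e' ≫ φ) ≫ b) =
            (X (e' ≫ φ ≫ a) h1).x (𝟙 W) i (e' ≫ φ ≫ b) :=
          (congrArg (fun z : Tw γ W => z.x (𝟙 W) i ((e' ≫ φ) ≫ b))
            (Xc (Category.assoc e' φ a) h2 h1)).trans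
            (Tw.x_congr _ i rfl (Category.assoc e' φ b))
        exact L.trans (M.trans R.symm)
      tw := fun T a i j b b' => by
        refine sepG (S.pullback a) (J.pullback_stable a hS) (fun W e he => ?_)
        have he' : S (e ≫ a) := he
        show G.obj.map e.op (zx T a j b') = G.obj.map e.op (zx T a i b * γ.ev i j b b')
        rw [map_mul, hz T a j b' e he', hz T a i b e he', γ.ev_precomp]
        exact (X (e ≫ a) he').tw (𝟙 W) i j (e ≫ b) (e ≫ b') }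
  refine ⟨z, fun Y c hc => Tw.ext (by
    funext T a i b
    have h0 : S (𝟙 T ≫ (a ≫ c)) := S.downward_closed (S.downward_closed hc a) (𝟙 T)
    have h1 := hz T (a ≫ c) i b (𝟙 T) h0
    have h2 : G.obj.map (𝟙 T).op (zx T (a ≫ c) i b) = zx T (a ≫ c) i b :=
      gmap_id G.obj (op T) _
    have h3 : (X (𝟙 T ≫ a ≫ c) h0).x (𝟙 T) i (𝟙 T ≫ b) =
        (X (a ≫ c) (S.downward_closed hc a)).x (𝟙 T) i (𝟙 T ≫ b) :=
      congrArg (fun z : Tw γ T => z.x (𝟙 T) i (𝟙 T ≫ b))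
        (Xc (Category.id_comp (a ≫ c)) h0 _)
    have h4 := hXe c a hc (S.downward_closed hc a) (𝟙 T) i (𝟙 T ≫ b)
    have h5 : (X c hc).x (𝟙 T ≫ a) i (𝟙 T ≫ b) = (X c hc).x a i b :=
      Tw.x_congr _ i (Category.id_comp a) (Category.id_comp b)
    exact h2.symm.trans (h1.trans (h3.trans (h4.trans h5))))⟩

/-! ### the action is simply transitive -/

theorem Tw.indep {V : C} (x y : Tw γ V) ⦃T : C⦄ (a : T ⟶ V) (i j : I) (b : T ⟶ U i)
    (b' : T ⟶ U j) : y.x a j b' * (x.x a j b')⁻¹ = y.x a i b * (x.x a i b)⁻¹ := by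
  rw [y.tw a i j b b', x.tw a i j b b', grp4]

theorem Tw.exists_act (hU : J.CoversTop U) {V : C} (x y : Tw γ V) :
    ∃ g : G.obj.obj (op V), Tw.act g x = y := by
  have hS : ∀ (T : C) (a : T ⟶ V), Sieve.ofObjects U V a → ∃ i : I, Nonempty (T ⟶ U i) :=
    fun T a ha => (Sieve.mem_ofObjects_iff U a).1 ha
  choose ii bb using hS
  let b₀ : ∀ (T : C) (a : T ⟶ V) (ha : Sieve.ofObjects U V a), T ⟶ U (ii T a ha) :=
    fun T a ha => Classical.choice (bb T a ha)
  obtain ⟨g, hg⟩ := glueG (Sieve.ofObjects U V) (hU V)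
    (fun T a ha => y.x a (ii T a ha) (b₀ T a ha) * (x.x a (ii T a ha) (b₀ T a ha))⁻¹)
    (fun T T' a φ ha => by
      beta_reduce
      rw [map_mul, map_inv, y.pre, x.pre]
      exact Tw.indep x y (φ ≫ a) _ _ _ _)
  refine ⟨g, Tw.ext (by
    funext T a i b
    have ha : Sieve.ofObjects U V a := (Sieve.mem_ofObjects_iff U a).2 ⟨i, ⟨b⟩⟩
    show G.obj.map a.op g * x.x a i b = y.x a i b
    rw [hg a ha, Tw.indep x y a i (ii T a ha) b (b₀ T a ha), inv_mul_cancel_right])⟩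

theorem Tw.act_inj (hU : J.CoversTop U) {V : C} (x : Tw γ V) {g g' : G.obj.obj (op V)}
    (h : Tw.act g x = Tw.act g' x) : g = g' := by
  refine sepG (Sieve.ofObjects U V) (hU V) (fun T a ha => ?_)
  obtain ⟨i, ⟨b⟩⟩ := (Sieve.mem_ofObjects_iff U a).1 ha
  have h1 : G.obj.map a.op g * x.x a i b = G.obj.map a.op g' * x.x a i b :=
    congrArg (fun z : Tw γ V => z.x a i b) h
  exact mul_right_cancel h1

theorem Tw.small (hU : J.CoversTop U) (γ : PresheafOfGroups.OneCocycle G.obj U) (V : C) :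
    Small.{w} (Tw γ V) := by
  by_cases hne : Nonempty (Tw γ V)
  · obtain ⟨x₀⟩ := hne
    choose d hd using (fun y : Tw γ V => Tw.exists_act hU x₀ y)
    refine small_of_injective (β := G.obj.obj (op V)) (f := d) (fun y y' h => ?_)
    exact (hd y).symm.trans ((congrArg (fun g => Tw.act g x₀) h).trans (hd y'))
  · haveI : Subsingleton (Tw γ V) := ⟨fun a => (hne ⟨a⟩).elim⟩
    infer_instance

/-! ### the small model -/

def PT (hU : J.CoversTop U) (γ : PresheafOfGroups.OneCocycle G.obj U) (V : C) : Type w :=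
  @Shrink.{w} (Tw γ V) (Tw.small hU γ V)

def PT.e (hU : J.CoversTop U) (γ : PresheafOfGroups.OneCocycle G.obj U) (V : C) :
    Tw γ V ≃ PT hU γ V :=
  @equivShrink.{w} (Tw γ V) (Tw.small hU γ V)

def PF (hU : J.CoversTop U) (γ : PresheafOfGroups.OneCocycle G.obj U) : Cᵒᵖ ⥤ Type w where
  obj V := PT hU γ (unop V)
  map {V V'} f := TypeCat.ofHom (fun s =>
    PT.e hU γ (unop V') (Tw.res f.unop ((PT.e hU γ (unop V)).symm s)))
  map_id V := ConcreteCategory.hom_ext _ _ fun s => by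
    show PT.e hU γ (unop V) (Tw.res (𝟙 (unop V)) ((PT.e hU γ (unop V)).symm s)) = s
    rw [Tw.res_id, Equiv.apply_symm_apply]
  map_comp {V V' V''} f g := ConcreteCategory.hom_ext _ _ fun s => by
    show PT.e hU γ (unop V'') (Tw.res (g.unop ≫ f.unop) ((PT.e hU γ (unop V)).symm s)) =
      PT.e hU γ (unop V'') (Tw.res g.unop ((PT.e hU γ (unop V')).symm
        (PT.e hU γ (unop V') (Tw.res f.unop ((PT.e hU γ (unop V)).symm s)))))
    rw [Equiv.symm_apply_apply, Tw.res_comp]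

theorem PF_isSheaf (hU : J.CoversTop U) (γ : PresheafOfGroups.OneCocycle G.obj U) :
    Presieve.IsSheaf J (PF hU γ) := by
  intro V S hS x hx
  have hx' := (Presieve.compatible_iff_sieveCompatible x).1 hx
  obtain ⟨z, hz⟩ := Tw.glue S hS (fun Y c hc => (PT.e hU γ Y).symm (x c hc))
    (fun Y Z c d hc => by
      have h := hx' c d hc
      show (PT.e hU γ Z).symm (x (d ≫ c) (S.downward_closed hc d)) =
        Tw.res d ((PT.e hU γ Y).symm (x c hc))
      rw [h]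
      exact Equiv.symm_apply_apply (PT.e hU γ Z) (Tw.res d ((PT.e hU γ Y).symm (x c hc))))
  have hz' : ∀ ⦃Y : C⦄ (c : Y ⟶ V) (hc : S c),
      Tw.res c z = (PT.e hU γ Y).symm (x c hc) := hz
  refine ⟨PT.e hU γ V z, ?_, ?_⟩
  · intro Y c hc
    show PT.e hU γ Y (Tw.res c ((PT.e hU γ V).symm (PT.e hU γ V z))) = x c hc
    rw [Equiv.symm_apply_apply, hz' c hc]
    exact Equiv.apply_symm_apply (PT.e hU γ Y) (x c hc)
  · intro t ht
    have key : (PT.e hU γ V).symm t = z := by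
      refine Tw.sep S hS (fun Y c hc => ?_)
      rw [hz' c hc]
      have h' : PT.e hU γ Y (Tw.res c ((PT.e hU γ V).symm t)) = x c hc := ht c hc
      rw [← h']
      exact (Equiv.symm_apply_apply (PT.e hU γ Y) _).symm
    rw [← key]
    exact (Equiv.apply_symm_apply (PT.e hU γ V) t).symm

def PSh (hU : J.CoversTop U) (γ : PresheafOfGroups.OneCocycle G.obj U) : Sheaf J (Type w) :=
  ⟨PF hU γ, (isSheaf_iff_isSheaf_of_type J _).2 (PF_isSheaf hU γ)⟩

/-- the twisted torsor as a `G`-sheaf -/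
def PG (hU : J.CoversTop U) (γ : PresheafOfGroups.OneCocycle G.obj U) : GSheaf G where
  P := PSh hU γ
  smul := fun {V} g s => PT.e hU γ (unop V) (Tw.act g ((PT.e hU γ (unop V)).symm s))
  one_smul := fun {V} s => by
    show PT.e hU γ (unop V) (Tw.act 1 ((PT.e hU γ (unop V)).symm s)) = s
    rw [Tw.act_one, Equiv.apply_symm_apply]
  mul_smul := fun {V} g h s => by
    show PT.e hU γ (unop V) (Tw.act (g * h) ((PT.e hU γ (unop V)).symm s)) =
      PT.e hU γ (unop V) (Tw.act g ((PT.e hU γ (unop V)).symm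
        (PT.e hU γ (unop V) (Tw.act h ((PT.e hU γ (unop V)).symm s)))))
    rw [Equiv.symm_apply_apply, Tw.act_mul]
  map_smul := fun {V V'} f g s => by
    show PT.e hU γ (unop V') (Tw.res f.unop ((PT.e hU γ (unop V)).symm
        (PT.e hU γ (unop V) (Tw.act g ((PT.e hU γ (unop V)).symm s))))) =
      PT.e hU γ (unop V') (Tw.act (G.obj.map f g) ((PT.e hU γ (unop V')).symm
        (PT.e hU γ (unop V') (Tw.res f.unop ((PT.e hU γ (unop V)).symm s)))))
    rw [Equiv.symm_apply_apply, Equiv.symm_apply_apply, Tw.res_act']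

theorem PG_pseudo (hU : J.CoversTop U) (γ : PresheafOfGroups.OneCocycle G.obj U) :
    (PG hU γ).IsPseudoTorsor := by
  intro V p q
  obtain ⟨g, hg⟩ := Tw.exists_act hU ((PT.e hU γ (unop V)).symm p)
    ((PT.e hU γ (unop V)).symm q)
  refine ⟨g, ?_, fun g' hg' => ?_⟩
  · show PT.e hU γ (unop V) (Tw.act g ((PT.e hU γ (unop V)).symm p)) = q
    rw [hg, Equiv.apply_symm_apply]
  · have h' : PT.e hU γ (unop V) (Tw.act g' ((PT.e hU γ (unop V)).symm p)) = q := hg'
    refine Tw.act_inj hU ((PT.e hU γ (unop V)).symm p) ?_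
    rw [hg, ← h', Equiv.symm_apply_apply]

theorem PG_locNonempty (hU : J.CoversTop U) (γ : PresheafOfGroups.OneCocycle G.obj U) :
    (PG hU γ).LocallyNonempty := by
  intro X
  refine ⟨Sieve.ofObjects U X, hU X, fun V f hf => ?_⟩
  obtain ⟨i, ⟨b⟩⟩ := (Sieve.mem_ofObjects_iff U f).1 hf
  exact ⟨PT.e hU γ V (Tw.res b (Tw.sec γ i))⟩

theorem PG_cocycle (hU : J.CoversTop U) (γ : PresheafOfGroups.OneCocycle G.obj U) :
    (PG hU γ).IsCocycleOf U (fun i => PT.e hU γ (U i) (Tw.sec γ i)) γ := by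
  intro i j T a b
  show PT.e hU γ T (Tw.act (γ.ev i j a b) ((PT.e hU γ T).symm (PT.e hU γ T (Tw.res b
      ((PT.e hU γ (U j)).symm (PT.e hU γ (U j) (Tw.sec γ j))))))) =
    PT.e hU γ T (Tw.res a ((PT.e hU γ (U i)).symm (PT.e hU γ (U i) (Tw.sec γ i))))
  simp only [Equiv.symm_apply_apply]
  rw [Tw.sec_cocycle]

theorem main16274 (G : Sheaf J GrpCat.{w}) {I : Type w'} (U : I → C) (hU : J.CoversTop U)
    (c : PresheafOfGroups.H1 G.obj U) :
    ∃ P : NonAbH1.Torsor G, P.TrivialisedBy U ∧ P.HasCechClass U c := by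
  obtain ⟨γ, rfl⟩ : ∃ γ : PresheafOfGroups.OneCocycle G.obj U, γ.class = c :=
    Quot.exists_rep c
  exact ⟨⟨PG hU γ, PG_pseudo hU γ, PG_locNonempty hU γ⟩,
    fun i => ⟨PT.e hU γ (U i) (Tw.sec γ i)⟩,
    ⟨fun i => PT.e hU γ (U i) (Tw.sec γ i), γ, PG_cocycle hU γ, rfl⟩⟩

/-! ### every torsor with cocycle `γ` is the twisted torsor -/

def coord {P : GSheaf G} (hP : P.IsPseudoTorsor) {s : ∀ i, P.P.obj.obj (op (U i))}
    (hs : P.IsCocycleOf U s γ) {V : C} (p : P.P.obj.obj (op V)) : Tw γ V where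
  x := fun T a i b => diff hP (P.P.obj.map b.op (s i)) (P.P.obj.map a.op p)
  pre := fun T T' φ a i b => (diff_map hP φ.op _ _).trans
    (congrArg₂ (fun x y => diff hP x y) (tmap_comp P.P.obj b.op φ.op (s i)).symm
      (tmap_comp P.P.obj a.op φ.op p).symm)
  tw := fun T a i j b b' => by
    refine diff_eq hP ?_
    rw [P.mul_smul, hs i j b b', diff_smul]

theorem coord_res {P : GSheaf G} (hP : P.IsPseudoTorsor) {s : ∀ i, P.P.obj.obj (op (U i))}
    (hs : P.IsCocycleOf U s γ) {V V' : C} (c : V' ⟶ V) (p : P.P.obj.obj (op V)) :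
    coord hP hs (P.P.obj.map c.op p) = Tw.res c (coord hP hs p) :=
  Tw.ext (by
    funext T a i b
    exact congrArg (fun z => diff hP (P.P.obj.map b.op (s i)) z)
      (tmap_comp P.P.obj c.op a.op p).symm)

theorem coord_act {P : GSheaf G} (hP : P.IsPseudoTorsor) {s : ∀ i, P.P.obj.obj (op (U i))}
    (hs : P.IsCocycleOf U s γ) {V : C} (g : G.obj.obj (op V)) (p : P.P.obj.obj (op V)) :
    coord hP hs (P.smul g p) = Tw.act g (coord hP hs p) :=
  Tw.ext (by
    funext T a i b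
    refine diff_eq hP ?_
    show P.smul (G.obj.map a.op g * diff hP (P.P.obj.map b.op (s i)) (P.P.obj.map a.op p))
      (P.P.obj.map b.op (s i)) = P.P.obj.map a.op (P.smul g p)
    rw [P.mul_smul, diff_smul, P.map_smul])

theorem iso_PG (hU : J.CoversTop U) {P : GSheaf G} (hP : P.IsTorsor)
    {s : ∀ i, P.P.obj.obj (op (U i))} (hs : P.IsCocycleOf U s γ) :
    Nonempty (P ≅ PG hU γ) := by
  refine iso_of_hom hP (PG_pseudo hU γ)
    (mkHom (fun V p => PT.e hU γ (unop V) (coord hP.1 hs p)) ?_ ?_)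
  · intro V V' f p
    show PT.e hU γ (unop V') (coord hP.1 hs (P.P.obj.map f p)) =
      PT.e hU γ (unop V') (Tw.res f.unop ((PT.e hU γ (unop V)).symm
        (PT.e hU γ (unop V) (coord hP.1 hs p))))
    rw [Equiv.symm_apply_apply]
    exact congrArg (fun t => PT.e hU γ (unop V') t) (coord_res hP.1 hs f.unop p)
  · intro V g p
    show PT.e hU γ (unop V) (coord hP.1 hs (P.smul g p)) =
      PT.e hU γ (unop V) (Tw.act g ((PT.e hU γ (unop V)).symm
        (PT.e hU γ (unop V) (coord hP.1 hs p))))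
    rw [Equiv.symm_apply_apply]
    exact congrArg (fun t => PT.e hU γ (unop V) t) (coord_act hP.1 hs g p)

theorem adjust {P : GSheaf G} {s : ∀ i, P.P.obj.obj (op (U i))}
    {γ γ' : PresheafOfGroups.OneCocycle G.obj U} (hs : P.IsCocycleOf U s γ)
    {α : PresheafOfGroups.ZeroCochain G.obj U}
    (hα : PresheafOfGroups.OneCohomologyRelation γ.toOneCochain γ'.toOneCochain α) :
    P.IsCocycleOf U (fun i => P.smul (α i) (s i)) γ' := by
  intro i j T a b
  show P.smul (γ'.ev i j a b) (P.P.obj.map b.op (P.smul (α j) (s j))) =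
    P.P.obj.map a.op (P.smul (α i) (s i))
  rw [P.map_smul, ← P.mul_smul, ← hα i j a b, P.mul_smul, hs i j a b, ← P.map_smul]

theorem main16273 {G : Sheaf J GrpCat.{w}} {I : Type w'} (U : I → C) (hU : J.CoversTop U)
    (P Q : NonAbH1.Torsor G) (c : PresheafOfGroups.H1 G.obj U)
    (hPc : P.HasCechClass U c) (hQc : Q.HasCechClass U c) :
    Nonempty (P.toGSheaf ≅ Q.toGSheaf) := by
  obtain ⟨s, γ, hs, hγ⟩ := hPc
  obtain ⟨t, γ', ht, hγ'⟩ := hQc
  obtain ⟨α, hα⟩ := (PresheafOfGroups.OneCocycle.class_eq_iff γ γ').1 (hγ.trans hγ'.symm)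
  obtain ⟨e1⟩ := iso_PG hU P.isTorsor (adjust hs hα)
  obtain ⟨e2⟩ := iso_PG hU Q.isTorsor ht
  exact ⟨e1 ≪≫ e2.symm⟩

end Groth.Agent.Lib.NonAb2H4
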