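import Mathlib
import Groth.Prelude.Def_NonAbH1
import Groth.Agent.Lib.NonAb1_helper4

set_option autoImplicit false
set_option linter.style.haveILetI false
set_option linter.unusedSectionVars false

universe w v u

open CategoryTheory Opposite

namespace Groth.Agent.Lib.NonAb3H4

open NonAbH1 Groth.Agent.Lib.NonAb1H4

theorem grp1 {M : Type*} [Group M] (A B x : M) : (A * x⁻¹) * (B * x⁻¹)⁻¹ = A * B⁻¹ := by group

variable {C : Type u} [Category.{v} C] {J : GrothendieckTopology C}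
  [J.HasSheafCompose (forget GrpCat.{w})] {F G : Sheaf J GrpCat.{w}}

theorem uSh_map {U V : Cᵒᵖ} (a : U ⟶ V) (x : (GSheaf.uSh G).obj.obj U) :
    GSheaf.toGrp ((GSheaf.uSh G).obj.map a x) = G.obj.map a (GSheaf.toGrp x) := rfl

theorem iota_nat {R : Sheaf J (Type w)} (ι : R ⟶ GSheaf.uSh G) {U V : Cᵒᵖ} (a : U ⟶ V)
    (t : R.obj.obj U) :
    GSheaf.toGrp (ι.hom.app V (R.obj.map a t)) = G.obj.map a (GSheaf.toGrp (ι.hom.app U t)) :=
  NatTrans.naturality_apply ι.hom a t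

theorem sec_nat (γ : (GSheaf.uSh G).obj.sections) {U V : Cᵒᵖ} (a : U ⟶ V) :
    G.obj.map a (GSheaf.toGrp (γ.1 U)) = GSheaf.toGrp (γ.1 V) := γ.2 a

/-- the unit global section of `G` -/
def oneSec : (GSheaf.uSh G).obj.sections :=
  ⟨fun U => GSheaf.ofGrp (1 : G.obj.obj U), fun {U V} a => by
    show G.obj.map a (1 : G.obj.obj U) = 1
    exact map_one _⟩

variable (u : F ⟶ G) {Q : GSheaf G} (π : GSheaf.trivial G ⟶ Q)

theorem pi_mul {U : Cᵒᵖ} (h g : G.obj.obj U) :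
    π.hom.hom.app U (GSheaf.ofGrp (h * g)) = Q.smul h (π.hom.hom.app U (GSheaf.ofGrp g)) :=
  π.map_smul h (GSheaf.ofGrp g)

theorem pi_nat {U V : Cᵒᵖ} (a : U ⟶ V) (g : G.obj.obj U) :
    Q.P.obj.map a (π.hom.hom.app U (GSheaf.ofGrp g)) =
      π.hom.hom.app V (GSheaf.ofGrp (G.obj.map a g)) :=
  (NatTrans.naturality_apply π.hom.hom a (GSheaf.ofGrp g)).symm

theorem fibre_isTorsor (hu : ∀ U : Cᵒᵖ, Function.Injective (u.hom.app U))
    (hQ : GSheaf.IsQuotientBy u π) (c : Q.P.obj.sections) (T : GSheaf F)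
    (hT : GSheaf.IsFibreOver u π c T) : T.IsTorsor := by
  obtain ⟨ι, hinj, him, heq⟩ := hT
  refine ⟨fun U p q => ?_, fun X => ?_⟩
  · have hp : π.hom.hom.app U (GSheaf.ofGrp (GSheaf.toGrp (ι.hom.app U p))) = c.1 U :=
      (him U _).1 ⟨p, rfl⟩
    have hq : π.hom.hom.app U (GSheaf.ofGrp (GSheaf.toGrp (ι.hom.app U q))) = c.1 U :=
      (him U _).1 ⟨q, rfl⟩
    obtain ⟨f, hf⟩ : ∃ f : F.obj.obj U, GSheaf.toGrp (ι.hom.app U q) =
        GSheaf.toGrp (ι.hom.app U p) * u.hom.app U f := (hQ.1 U _ _).1 (hp.trans hq.symm)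
    refine ⟨f⁻¹, hinj U ?_, fun g' hg' => ?_⟩
    · show GSheaf.toGrp (ι.hom.app U (T.smul f⁻¹ p)) = GSheaf.toGrp (ι.hom.app U q)
      rw [heq, hf, map_inv, inv_inv]
    · have hg'' : T.smul g' p = q := hg'
      have h1 := heq U g' p
      rw [hg'', hf] at h1
      have h2 := mul_left_cancel h1
      apply hu U
      rw [map_inv, h2, inv_inv]
  · obtain ⟨S, hS, hl⟩ := hQ.2 X (c.1 (op X))
    refine ⟨S, hS, fun V a ha => ?_⟩
    obtain ⟨g, hg⟩ := hl a ha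
    obtain ⟨t, _⟩ := (him (op V) g).2 (hg.trans (c.2 a.op))
    exact ⟨t⟩

/-! ### the sheaf of liftings -/

/-- the subfunctor of liftings of `c` -/
def fibSub (c : Q.P.obj.sections) : Subfunctor (GSheaf.uSh G).obj where
  obj U := {g | π.hom.hom.app U g = c.1 U}
  map := by
    intro U V i g hg
    have hg' : π.hom.hom.app U g = c.1 U := hg
    exact (NatTrans.naturality_apply π.hom.hom i g).trans
      ((congrArg (fun z => Q.P.obj.map i z) hg').trans (c.2 i))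

theorem fibSub_isSheaf (c : Q.P.obj.sections) : Presieve.IsSheaf J (fibSub π c).toFunctor := by
  refine ((fibSub π c).isSheaf_iff
    ((isSheaf_iff_isSheaf_of_type J _).1 (GSheaf.uSh G).property)).2 ?_
  intro U s hs
  show π.hom.hom.app U s = c.1 U
  refine sep Q.P ((fibSub π c).sieveOfSection s) hs (fun V f hf => ?_)
  have hf' : π.hom.hom.app (op V) ((GSheaf.uSh G).obj.map f.op s) = c.1 (op V) := hf
  exact (NatTrans.naturality_apply π.hom.hom f.op s).symm.trans (hf'.trans (c.2 f.op).symm)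

/-- the sheaf of liftings -/
def fibSh (c : Q.P.obj.sections) : Sheaf J (Type w) :=
  ⟨(fibSub π c).toFunctor, (isSheaf_iff_isSheaf_of_type J _).2 (fibSub_isSheaf π c)⟩

def fibMk (c : Q.P.obj.sections) {U : Cᵒᵖ} (g : (GSheaf.uSh G).obj.obj U)
    (hg : π.hom.hom.app U g = c.1 U) : (fibSh π c).obj.obj U := Subtype.mk g hg

def fibVal (c : Q.P.obj.sections) {U : Cᵒᵖ} (t : (fibSh π c).obj.obj U) :
    (GSheaf.uSh G).obj.obj U := Subtype.val t

theorem fibVal_prop (c : Q.P.obj.sections) {U : Cᵒᵖ} (t : (fibSh π c).obj.obj U) :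
    π.hom.hom.app U (fibVal π c t) = c.1 U := Subtype.property t

theorem fib_ext (c : Q.P.obj.sections) {U : Cᵒᵖ} {t t' : (fibSh π c).obj.obj U}
    (h : fibVal π c t = fibVal π c t') : t = t' := Subtype.ext h

theorem fib_mem (hQ : GSheaf.IsQuotientBy u π) (c : Q.P.obj.sections) {U : Cᵒᵖ}
    (φ : F.obj.obj U) (g : (GSheaf.uSh G).obj.obj U) (hg : π.hom.hom.app U g = c.1 U) :
    π.hom.hom.app U (GSheaf.ofGrp (GSheaf.toGrp g * (u.hom.app U φ)⁻¹)) = c.1 U :=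
  ((hQ.1 U (GSheaf.toGrp g) (GSheaf.toGrp g * (u.hom.app U φ)⁻¹)).2
    ⟨φ⁻¹, by rw [map_inv]⟩).symm.trans hg

/-- the `F`-sheaf of liftings of `c` -/
noncomputable def fibG (hQ : GSheaf.IsQuotientBy u π) (c : Q.P.obj.sections) : GSheaf F where
  P := fibSh π c
  smul := fun {U} φ t =>
    fibMk π c (GSheaf.ofGrp (GSheaf.toGrp (fibVal π c t) * (u.hom.app U φ)⁻¹))
      (fib_mem u π hQ c φ _ (fibVal_prop π c t))
  one_smul := fun {U} t => fib_ext π c (by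
    show GSheaf.toGrp (fibVal π c t) * (u.hom.app U 1)⁻¹ = GSheaf.toGrp (fibVal π c t)
    rw [map_one, inv_one, mul_one])
  mul_smul := fun {U} φ ψ t => fib_ext π c (by
    show GSheaf.toGrp (fibVal π c t) * (u.hom.app U (φ * ψ))⁻¹ =
      GSheaf.toGrp (fibVal π c t) * (u.hom.app U ψ)⁻¹ * (u.hom.app U φ)⁻¹
    rw [map_mul, mul_inv_rev, mul_assoc])
  map_smul := fun {U V} f φ t => fib_ext π c (by
    show G.obj.map f (GSheaf.toGrp (fibVal π c t) * (u.hom.app U φ)⁻¹) =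
      G.obj.map f (GSheaf.toGrp (fibVal π c t)) * (u.hom.app V (F.obj.map f φ))⁻¹
    rw [map_mul, map_inv, NatTrans.naturality_apply])

theorem fibG_isFibre (hQ : GSheaf.IsQuotientBy u π) (c : Q.P.obj.sections) :
    GSheaf.IsFibreOver u π c (fibG u π hQ c) := by
  refine ⟨mkShHom (fun U t => fibVal π c t) (fun a t => rfl), fun U a b h => fib_ext π c h,
    fun U g => ⟨?_, fun h => ⟨fibMk π c (GSheaf.ofGrp g) h, rfl⟩⟩, fun U f t => rfl⟩
  rintro ⟨t, rfl⟩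
  exact fibVal_prop π c t

/-- the torsor of liftings of `c` -/
noncomputable def fibT (hu : ∀ U : Cᵒᵖ, Function.Injective (u.hom.app U))
    (hQ : GSheaf.IsQuotientBy u π) (c : Q.P.obj.sections) : NonAbH1.Torsor F :=
  ⟨fibG u π hQ c, fibre_isTorsor u π hu hQ c _ (fibG_isFibre u π hQ c)⟩

theorem fib_iso (hu : ∀ U : Cᵒᵖ, Function.Injective (u.hom.app U))
    (hQ : GSheaf.IsQuotientBy u π) {c c' : Q.P.obj.sections} {T T' : GSheaf F}
    (hT : GSheaf.IsFibreOver u π c T) (hT' : GSheaf.IsFibreOver u π c' T')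
    (γ : (GSheaf.uSh G).obj.sections)
    (hγ : ∀ U : Cᵒᵖ, Q.smul (GSheaf.toGrp (γ.1 U)) (c.1 U) = c'.1 U) : Nonempty (T ≅ T') := by
  have tT := fibre_isTorsor u π hu hQ c T hT
  have tT' := fibre_isTorsor u π hu hQ c' T' hT'
  obtain ⟨ι, hinj, him, heq⟩ := hT
  obtain ⟨ι', hinj', him', heq'⟩ := hT'
  have hex : ∀ (U : Cᵒᵖ) (t : T.P.obj.obj U), ∃ t' : T'.P.obj.obj U,
      GSheaf.toGrp (ι'.hom.app U t') =
        GSheaf.toGrp (γ.1 U) * GSheaf.toGrp (ι.hom.app U t) := by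
    intro U t
    apply (him' U _).2
    have h5 : π.hom.hom.app U (GSheaf.ofGrp (GSheaf.toGrp (ι.hom.app U t))) = c.1 U :=
      (him U _).1 ⟨t, rfl⟩
    rw [pi_mul, h5, hγ]
  choose θ hθ using hex
  refine iso_of_hom tT tT'.1 (mkHom θ ?_ ?_)
  · intro U V a t
    apply hinj' V
    have e1 := hθ V (T.P.obj.map a t)
    have e2 := iota_nat ι a t
    have e3 := iota_nat ι' a (θ U t)
    have e4 := sec_nat γ a
    show GSheaf.toGrp (ι'.hom.app V (θ V (T.P.obj.map a t))) =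
      GSheaf.toGrp (ι'.hom.app V (T'.P.obj.map a (θ U t)))
    rw [e1, e2, e3, hθ U t, map_mul, e4]
  · intro U f t
    apply hinj' U
    show GSheaf.toGrp (ι'.hom.app U (θ U (T.smul f t))) =
      GSheaf.toGrp (ι'.hom.app U (T'.smul f (θ U t)))
    rw [hθ, heq, heq', hθ, mul_assoc]

theorem main8555 (hu : ∀ U : Cᵒᵖ, Function.Injective (u.hom.app U))
    (hQ : GSheaf.IsQuotientBy u π) (c : Q.P.obj.sections) :
    (∃ T : NonAbH1.Torsor F, GSheaf.IsFibreOver u π c T.toGSheaf) ∧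
      (∀ T : NonAbH1.GSheaf F, GSheaf.IsFibreOver u π c T → T.IsTorsor) ∧
      ∀ T T' : NonAbH1.GSheaf F, GSheaf.IsFibreOver u π c T →
        GSheaf.IsFibreOver u π c T' → Nonempty (T ≅ T') :=
  ⟨⟨fibT u π hu hQ c, fibG_isFibre u π hQ c⟩,
    fun T hT => fibre_isTorsor u π hu hQ c T hT,
    fun T T' hT hT' => fib_iso u π hu hQ hT hT' oneSec (fun U => Q.one_smul _)⟩

theorem main8557_mp (hu : ∀ U : Cᵒᵖ, Function.Injective (u.hom.app U))
    (hQ : GSheaf.IsQuotientBy u π) {c c' : Q.P.obj.sections} {T T' : GSheaf F}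
    (hT : GSheaf.IsFibreOver u π c T) (hT' : GSheaf.IsFibreOver u π c' T') (e : T ≅ T') :
    ∃ g : (GSheaf.uSh G).obj.sections,
      ∀ U : Cᵒᵖ, Q.smul (GSheaf.toGrp (g.1 U)) (c.1 U) = c'.1 U := by
  have tT := fibre_isTorsor u π hu hQ c T hT
  obtain ⟨ι, hinj, him, heq⟩ := hT
  obtain ⟨ι', hinj', him', heq'⟩ := hT'
  obtain ⟨γ, hγ⟩ := glue_invariant tT.2 (GSheaf.uSh G)
    (fun U t => GSheaf.ofGrp (GSheaf.toGrp (ι'.hom.app U (e.hom.hom.hom.app U t)) *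
      (GSheaf.toGrp (ι.hom.app U t))⁻¹))
    (fun U t t' => by
      obtain ⟨f, hf⟩ : ∃ f, T.smul f t = t' := ⟨_, diff_smul tT.1 t t'⟩
      subst hf
      show GSheaf.toGrp (ι'.hom.app U (e.hom.hom.hom.app U t)) *
          (GSheaf.toGrp (ι.hom.app U t))⁻¹ =
        GSheaf.toGrp (ι'.hom.app U (e.hom.hom.hom.app U (T.smul f t))) *
          (GSheaf.toGrp (ι.hom.app U (T.smul f t)))⁻¹
      rw [e.hom.map_smul, heq', heq, grp1])
    (fun {U V} a t => by
      show G.obj.map a (GSheaf.toGrp (ι'.hom.app U (e.hom.hom.hom.app U t)) *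
          (GSheaf.toGrp (ι.hom.app U t))⁻¹) =
        GSheaf.toGrp (ι'.hom.app V (e.hom.hom.hom.app V (T.P.obj.map a t))) *
          (GSheaf.toGrp (ι.hom.app V (T.P.obj.map a t)))⁻¹
      rw [map_mul, map_inv, NatTrans.naturality_apply e.hom.hom.hom a t, iota_nat ι',
        iota_nat ι])
  have key : ∀ X : C, Q.smul (GSheaf.toGrp (γ.1 (op X))) (c.1 (op X)) = c'.1 (op X) := by
    intro X
    obtain ⟨S, hS, hne⟩ := tT.2 X
    refine sep Q.P S hS (fun V a ha => ?_)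
    obtain ⟨t⟩ := hne a ha
    have h1 : Q.P.obj.map a.op (c.1 (op X)) = c.1 (op V) := c.2 a.op
    have h2 : Q.P.obj.map a.op (c'.1 (op X)) = c'.1 (op V) := c'.2 a.op
    have h3 : G.obj.map a.op (GSheaf.toGrp (γ.1 (op X))) = GSheaf.toGrp (γ.1 (op V)) :=
      γ.2 a.op
    have h4 : GSheaf.toGrp (γ.1 (op V)) =
        GSheaf.toGrp (ι'.hom.app (op V) (e.hom.hom.hom.app (op V) t)) *
          (GSheaf.toGrp (ι.hom.app (op V) t))⁻¹ := hγ (op V) t
    have h5 : π.hom.hom.app (op V) (GSheaf.ofGrp (GSheaf.toGrp (ι.hom.app (op V) t))) =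
        c.1 (op V) := (him (op V) _).1 ⟨t, rfl⟩
    have h6 : π.hom.hom.app (op V) (GSheaf.ofGrp (GSheaf.toGrp
        (ι'.hom.app (op V) (e.hom.hom.hom.app (op V) t)))) = c'.1 (op V) :=
      (him' (op V) _).1 ⟨_, rfl⟩
    rw [Q.map_smul, h1, h2, h3, h4, ← h5, ← pi_mul, inv_mul_cancel_right, h6]
  exact ⟨γ, fun U => key (unop U)⟩

theorem main8557 (hu : ∀ U : Cᵒᵖ, Function.Injective (u.hom.app U))
    (hQ : GSheaf.IsQuotientBy u π) (c c' : Q.P.obj.sections) (T T' : GSheaf F)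
    (hT : GSheaf.IsFibreOver u π c T) (hT' : GSheaf.IsFibreOver u π c' T') :
    Nonempty (T ≅ T') ↔
      ∃ g : (GSheaf.uSh G).obj.sections,
        ∀ U : Cᵒᵖ, Q.smul (GSheaf.toGrp (g.1 U)) (c.1 U) = c'.1 U :=
  ⟨fun ⟨e⟩ => main8557_mp u π hu hQ hT hT' e,
    fun ⟨g, hg⟩ => fib_iso u π hu hQ hT hT' g hg⟩

end Groth.Agent.Lib.NonAb3H4
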