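import Mathlib
import Groth.Prelude.Def_NonAbH1
import Groth.Agent.Lib.NonAb1_helper4
import Groth.Agent.Lib.NonAb3_helper4

set_option autoImplicit false
set_option linter.style.haveILetI false
set_option linter.unusedSectionVars false

universe w v u

open CategoryTheory Opposite

namespace Groth.Agent.Lib.NonAb3bH4

open NonAbH1 Groth.Agent.Lib.NonAb1H4 Groth.Agent.Lib.NonAb3H4

variable {C : Type u} [Category.{v} C] {J : GrothendieckTopology C}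
  [J.HasSheafCompose (forget GrpCat.{w})] {F G : Sheaf J GrpCat.{w}}

variable (u : F ⟶ G) {Q : GSheaf G} (π : GSheaf.trivial G ⟶ Q)

theorem main8556_mp (hu : ∀ U : Cᵒᵖ, Function.Injective (u.hom.app U))
    (hQ : GSheaf.IsQuotientBy u π) (T : NonAbH1.Torsor F)
    (f' : T.P ⟶ GSheaf.uSh G)
    (hf' : ∀ (U : Cᵒᵖ) (φ : F.obj.obj U) (t : T.P.obj.obj U),
      GSheaf.toGrp (f'.hom.app U (T.smul φ t)) =
        u.hom.app U φ * GSheaf.toGrp (f'.hom.app U t)) :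
    ∃ c : Q.P.obj.sections, GSheaf.IsFibreOver u π c T.toGSheaf := by
  let ι : T.P ⟶ GSheaf.uSh G :=
    mkShHom (fun U t => GSheaf.ofGrp ((GSheaf.toGrp (f'.hom.app U t))⁻¹))
      (fun {U V} a t => by
        show (GSheaf.toGrp (f'.hom.app V (T.P.obj.map a t)))⁻¹ =
          G.obj.map a ((GSheaf.toGrp (f'.hom.app U t))⁻¹)
        rw [map_inv, iota_nat f' a t])
  have hι : ∀ (U : Cᵒᵖ) (t : T.P.obj.obj U),
      GSheaf.toGrp (ι.hom.app U t) = (GSheaf.toGrp (f'.hom.app U t))⁻¹ := fun U t => rfl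
  have hι3 : ∀ (U : Cᵒᵖ) (φ : F.obj.obj U) (t : T.P.obj.obj U),
      GSheaf.toGrp (ι.hom.app U (T.smul φ t)) =
        GSheaf.toGrp (ι.hom.app U t) * (u.hom.app U φ)⁻¹ := by
    intro U φ t
    rw [hι, hι, hf', mul_inv_rev]
  have hinj : ∀ U : Cᵒᵖ, Function.Injective (ι.hom.app U) := by
    intro U t t' h
    have h0 : (GSheaf.toGrp (f'.hom.app U t))⁻¹ = (GSheaf.toGrp (f'.hom.app U t'))⁻¹ := h
    have h1 : GSheaf.toGrp (f'.hom.app U t) = GSheaf.toGrp (f'.hom.app U t') :=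
      inv_injective h0
    obtain ⟨φ, hφ⟩ : ∃ φ, T.smul φ t = t' := ⟨_, diff_smul T.isTorsor.1 t t'⟩
    subst hφ
    rw [hf'] at h1
    have h2 : u.hom.app U φ = 1 := (mul_right_cancel ((one_mul _).trans h1)).symm
    have h3 : φ = 1 := hu U (h2.trans (map_one _).symm)
    rw [h3, T.one_smul]
  obtain ⟨c, hc⟩ := glue_invariant T.isTorsor.2 Q.P
    (fun U t => π.hom.hom.app U (GSheaf.ofGrp ((GSheaf.toGrp (f'.hom.app U t))⁻¹)))
    (fun U t t' => by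
      obtain ⟨φ, hφ⟩ : ∃ φ, T.smul φ t = t' := ⟨_, diff_smul T.isTorsor.1 t t'⟩
      subst hφ
      show π.hom.hom.app U (GSheaf.ofGrp ((GSheaf.toGrp (f'.hom.app U t))⁻¹)) =
        π.hom.hom.app U (GSheaf.ofGrp ((GSheaf.toGrp (f'.hom.app U (T.smul φ t)))⁻¹))
      rw [hf', mul_inv_rev]
      exact (hQ.1 U _ _).2 ⟨φ⁻¹, by rw [map_inv]⟩)
    (fun {U V} a t => by
      show Q.P.obj.map a (π.hom.hom.app U
          (GSheaf.ofGrp ((GSheaf.toGrp (f'.hom.app U t))⁻¹))) =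
        π.hom.hom.app V (GSheaf.ofGrp ((GSheaf.toGrp (f'.hom.app V (T.P.obj.map a t)))⁻¹))
      rw [pi_nat, map_inv, iota_nat f' a t])
  have key : ∀ (X : C) (g : G.obj.obj (op X)),
      π.hom.hom.app (op X) (GSheaf.ofGrp g) = c.1 (op X) →
      ∃ t : T.P.obj.obj (op X), GSheaf.toGrp (ι.hom.app (op X) t) = g := by
    intro X g hg
    obtain ⟨S, hS, hne⟩ := T.isTorsor.2 X
    refine exists_of_local ι hinj S hS (GSheaf.ofGrp g) (fun V a ha => ?_)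
    obtain ⟨p⟩ := hne a ha
    have h1 : π.hom.hom.app (op V) (GSheaf.ofGrp (GSheaf.toGrp (ι.hom.app (op V) p))) =
        π.hom.hom.app (op V) (GSheaf.ofGrp (G.obj.map a.op g)) :=
      (hc (op V) p).symm.trans ((c.2 a.op).symm.trans
        ((congrArg (fun z => Q.P.obj.map a.op z) hg).symm.trans (pi_nat π a.op g)))
    obtain ⟨φ, hφ⟩ : ∃ φ : F.obj.obj (op V), G.obj.map a.op g =
        GSheaf.toGrp (ι.hom.app (op V) p) * u.hom.app (op V) φ := (hQ.1 (op V) _ _).1 h1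
    refine ⟨T.smul φ⁻¹ p, ?_⟩
    show GSheaf.toGrp (ι.hom.app (op V) (T.smul φ⁻¹ p)) = G.obj.map a.op g
    rw [hι3, map_inv, inv_inv, hφ]
  refine ⟨c, ι, hinj, fun U g => ⟨?_, fun hg => key (unop U) g hg⟩, hι3⟩
  rintro ⟨t, rfl⟩
  exact (hc U t).symm

theorem main8556 (hu : ∀ U : Cᵒᵖ, Function.Injective (u.hom.app U))
    (hQ : GSheaf.IsQuotientBy u π) (T : NonAbH1.Torsor F) :
    GSheaf.IsPushforwardAlong u T.toGSheaf (GSheaf.trivial G) ↔
      ∃ c : Q.P.obj.sections, GSheaf.IsFibreOver u π c T.toGSheaf := by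
  constructor
  · rintro ⟨f, hf⟩
    exact main8556_mp u π hu hQ T f (fun U φ t => hf U φ t)
  · rintro ⟨c, ι, hinj, him, heq⟩
    refine ⟨mkShHom (fun U t => GSheaf.ofGrp ((GSheaf.toGrp (ι.hom.app U t))⁻¹))
      (fun {U V} a t => by
        show (GSheaf.toGrp (ι.hom.app V (T.P.obj.map a t)))⁻¹ =
          G.obj.map a ((GSheaf.toGrp (ι.hom.app U t))⁻¹)
        rw [map_inv, iota_nat ι a t]), fun U φ t => ?_⟩
    show (GSheaf.toGrp (ι.hom.app U (T.smul φ t)))⁻¹ =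
      u.hom.app U φ * (GSheaf.toGrp (ι.hom.app U t))⁻¹
    rw [heq, mul_inv_rev, inv_inv]

theorem cl_eq_iff (P P' : NonAbH1.Torsor F) :
    P.cl = P'.cl ↔ Nonempty (P.toGSheaf ≅ P'.toGSheaf) := by
  have heqv : Equivalence (fun P Q : NonAbH1.Torsor F => Nonempty (P.toGSheaf ≅ Q.toGSheaf)) :=
    ⟨fun P => ⟨Iso.refl _⟩, fun ⟨e⟩ => ⟨e.symm⟩, fun ⟨e⟩ ⟨e'⟩ => ⟨e ≪≫ e'⟩⟩
  exact heqv.quot_mk_eq_iff P P'

theorem main8558 (hu : ∀ U : Cᵒᵖ, Function.Injective (u.hom.app U))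
    (hQ : GSheaf.IsQuotientBy u π) (c : Q.P.obj.sections) (T : NonAbH1.Torsor F)
    (hT : GSheaf.IsFibreOver u π c T.toGSheaf) :
    T.cl = 1 ↔
      ∃ g : (GSheaf.uSh G).obj.sections, ∀ U : Cᵒᵖ, π.hom.hom.app U (g.1 U) = c.1 U := by
  have h1 : T.cl = 1 ↔ Nonempty (T.toGSheaf ≅ (trivialTorsor F).toGSheaf) :=
    cl_eq_iff T (trivialTorsor F)
  rw [h1]
  obtain ⟨ι, hinj, him, heq⟩ := hT
  constructor
  · rintro ⟨e⟩
    let t₀ : ∀ U : Cᵒᵖ, T.P.obj.obj U :=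
      fun U => e.inv.hom.hom.app U (GSheaf.ofGrp (1 : F.obj.obj U))
    have ht₀ : ∀ {U V : Cᵒᵖ} (a : U ⟶ V), T.P.obj.map a (t₀ U) = t₀ V := fun {U V} a => by
      have hone : (GSheaf.uSh F).obj.map a (GSheaf.ofGrp (1 : F.obj.obj U)) =
          GSheaf.ofGrp (1 : F.obj.obj V) := by
        show F.obj.map a (1 : F.obj.obj U) = 1
        exact map_one _
      exact (NatTrans.naturality_apply e.inv.hom.hom a
        (GSheaf.ofGrp (1 : F.obj.obj U))).symm.trans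
        (congrArg (fun z => e.inv.hom.hom.app V z) hone)
    refine ⟨⟨fun U => ι.hom.app U (t₀ U), fun {U V} a => ?_⟩,
      fun U => (him U _).1 ⟨t₀ U, rfl⟩⟩
    exact (NatTrans.naturality_apply ι.hom a (t₀ U)).symm.trans
      (congrArg (fun z => ι.hom.app V z) (ht₀ a))
  · rintro ⟨g, hg⟩
    have hex : ∀ U : Cᵒᵖ, ∃ t : T.P.obj.obj U,
        GSheaf.toGrp (ι.hom.app U t) = GSheaf.toGrp (g.1 U) := fun U => (him U _).2 (hg U)
    choose t₀ ht₀ using hex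
    have hres : ∀ {U V : Cᵒᵖ} (a : U ⟶ V), T.P.obj.map a (t₀ U) = t₀ V := fun {U V} a => by
      apply hinj V
      show GSheaf.toGrp (ι.hom.app V (T.P.obj.map a (t₀ U))) =
        GSheaf.toGrp (ι.hom.app V (t₀ V))
      rw [iota_nat ι a, ht₀, ht₀, sec_nat g a]
    have hom : GSheaf.trivial F ⟶ T.toGSheaf :=
      mkHom (fun U φ => T.smul (GSheaf.toGrp φ) (t₀ U))
        (fun {U V} a φ => by
          show T.smul (F.obj.map a (GSheaf.toGrp φ)) (t₀ V) =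
            T.P.obj.map a (T.smul (GSheaf.toGrp φ) (t₀ U))
          rw [T.map_smul, hres a])
        (fun {U} ψ φ => T.mul_smul ψ (GSheaf.toGrp φ) (t₀ U))
    obtain ⟨e⟩ := iso_of_hom (GSheaf.isTorsor_trivial F) T.isTorsor.1 hom
    exact ⟨e.symm⟩

end Groth.Agent.Lib.NonAb3bH4
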