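import Mathlib
import Groth.Prelude.Def_NonAbH1
import Groth.Prelude.Def_EtBase

set_option autoImplicit false
set_option linter.style.haveILetI false
set_option linter.unusedSectionVars false
universe u
open CategoryTheory CategoryTheory.Limits AlgebraicGeometry Opposite NonAbH1

namespace Groth.Agent.Lib.NonAbPushH4

variable {X Y : Scheme.{u}}

/-- the sieve of arrows whose source maps to some member of the family -/
def famSieve {ι : Type u} (V : ι → Y.Etale) (U : Y.Etale) : Sieve U where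
  arrows W _ := ∃ i, Nonempty (W ⟶ V i)
  downward_closed := by
    rintro W W' a ⟨i, ⟨b⟩⟩ c
    exact ⟨i, ⟨c ≫ b⟩⟩

/-- the map to the final object of the small etale site -/
noncomputable def toTop (U : Y.Etale) : U ⟶ EtCoh.top Y :=
  MorphismProperty.Over.homMk U.hom (Category.comp_id _) trivial

theorem famSieve_top_mem {ι : Type u} (V : ι → Y.Etale) (hV : EtCoh.Covers V) :
    famSieve V (EtCoh.top Y) ∈ Y.smallEtaleTopology (EtCoh.top Y) := by
  have eY : Y.smallEtaleTopology =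
      (Y.smallPretopology (P := EtCoh.etaleMP) (Q := EtCoh.etaleMP)).toGrothendieck :=
    Scheme.smallGrothendieckTopology_eq_toGrothendieck_smallPretopology Y le_rfl
  rw [eY]
  refine (Scheme.mem_toGrothendieck_smallPretopology (EtCoh.top Y) _).2 ?_
  intro x
  obtain ⟨i, y, hy⟩ := hV x
  exact ⟨V i, toTop (V i), y, ⟨i, ⟨𝟙 _⟩⟩, (V i).prop, hy⟩

theorem famSieve_mem {ι : Type u} (V : ι → Y.Etale) (hV : EtCoh.Covers V) (U : Y.Etale) :
    famSieve V U ∈ Y.smallEtaleTopology U :=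
  Y.smallEtaleTopology.superset_covering (fun _ _ ha => ha)
    (Y.smallEtaleTopology.pullback_stable (toTop U) (famSieve_top_mem V hV))

theorem exists_family_of_mem {S : Sieve (EtCoh.top Y)}
    (hS : S ∈ Y.smallEtaleTopology (EtCoh.top Y)) :
    ∃ (V : (EtCoh.top Y).left → Y.Etale) (g : ∀ y, V y ⟶ EtCoh.top Y),
      EtCoh.Covers V ∧ ∀ y, S (g y) := by
  have eY : Y.smallEtaleTopology =
      (Y.smallPretopology (P := EtCoh.etaleMP) (Q := EtCoh.etaleMP)).toGrothendieck :=
    Scheme.smallGrothendieckTopology_eq_toGrothendieck_smallPretopology Y le_rfl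
  rw [eY] at hS
  have h := (Scheme.mem_toGrothendieck_smallPretopology (EtCoh.top Y) S).1 hS
  choose V g v hS' hP hv using h
  refine ⟨V, g, fun x => ⟨x, v x, ?_⟩, hS'⟩
  have hw : (V x).hom = (g x).left :=
    (MorphismProperty.Over.w (g x)).symm.trans (Category.comp_id _)
  rw [hw]
  exact hv x

variable (f : X ⟶ Y) [EtCoh.BCCont f]

/-- the direct image of a torsor as a sheaf with action of the direct image group -/
noncomputable def pushG (F : Sheaf X.smallEtaleTopology GrpCat.{u + 1}) (Q : NonAbH1.Torsor F) :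
    GSheaf (((EtCoh.bc f).sheafPushforwardContinuous GrpCat.{u + 1}
        Y.smallEtaleTopology X.smallEtaleTopology).obj F) where
  P := ((EtCoh.bc f).sheafPushforwardContinuous (Type (u + 1))
        Y.smallEtaleTopology X.smallEtaleTopology).obj Q.P
  smul {U} g p := Q.smul (U := (EtCoh.bc f).op.obj U) g p
  one_smul {U} p := Q.one_smul (U := (EtCoh.bc f).op.obj U) p
  mul_smul {U} g h p := Q.mul_smul (U := (EtCoh.bc f).op.obj U) g h p
  map_smul {U V} a g p := Q.map_smul ((EtCoh.bc f).op.map a) g p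

theorem pushG_isTorsor (F : Sheaf X.smallEtaleTopology GrpCat.{u + 1}) (Q : NonAbH1.Torsor F)
    {ι : Type u} (V : ι → Y.Etale) (hV : EtCoh.Covers V)
    (hne : ∀ i, Nonempty (Q.P.obj.obj (op ((EtCoh.bc f).obj (V i))))) :
    (pushG f F Q).IsTorsor := by
  refine ⟨fun U p q => Q.isTorsor.1 ((EtCoh.bc f).op.obj U) p q, fun U => ?_⟩
  refine ⟨famSieve V U, famSieve_mem V hV U, ?_⟩
  rintro W a ⟨i, ⟨b⟩⟩
  obtain ⟨s⟩ := hne i
  exact ⟨Q.P.obj.map ((EtCoh.bc f).map b).op s⟩

theorem main8562 (F : Sheaf X.smallEtaleTopology GrpCat.{u + 1}) (Q : NonAbH1.Torsor F) :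
    (∃ (P : NonAbH1.Torsor (((EtCoh.bc f).sheafPushforwardContinuous GrpCat.{u + 1}
        Y.smallEtaleTopology X.smallEtaleTopology).obj F))
      (φ : P.P ⟶ ((EtCoh.bc f).sheafPushforwardContinuous (Type (u + 1))
        Y.smallEtaleTopology X.smallEtaleTopology).obj Q.P),
      ∀ (V : Y.Etaleᵒᵖ) (g : F.obj.obj (op ((EtCoh.bc f).obj V.unop))) (s : P.P.obj.obj V),
        φ.hom.app V (P.smul g s) = Q.smul g (φ.hom.app V s)) ↔
    ∃ (ι : Type u) (V : ι → Y.Etale), EtCoh.Covers V ∧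
      ∀ i, Nonempty (Q.P.obj.obj (op ((EtCoh.bc f).obj (V i)))) := by
  constructor
  · rintro ⟨P, φ, -⟩
    obtain ⟨S, hS, hne⟩ := P.isTorsor.2 (EtCoh.top Y)
    obtain ⟨V, g, hV, hg⟩ := exists_family_of_mem hS
    refine ⟨_, V, hV, fun i => ?_⟩
    obtain ⟨s⟩ := hne (g i) (hg i)
    exact ⟨φ.hom.app (op (V i)) s⟩
  · rintro ⟨ι, V, hV, hne⟩
    exact ⟨⟨pushG f F Q, pushG_isTorsor f F Q V hV hne⟩, 𝟙 _, fun W g s => rfl⟩

end Groth.Agent.Lib.NonAbPushH4
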