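import Mathlib
import Groth.Agent.Lib.FibreRank_helper6
import Groth.Agent.Lib.KaehlerReg_helper3
import Groth.Agent.Lib.GeomRegAdic_helper3

/-!
# Nonsingular irreducible varieties over an algebraically closed field and `Ω` (helper6)
-/

set_option autoImplicit false
set_option maxHeartbeats 400000
universe u
open TensorProduct IsLocalRing

namespace Groth.Agent.Lib.SmVarReg_helper6

section General

variable (A : Type u) [CommRing A]

/-- `Spec (A / nil A) ≃o Spec A`. -/
noncomputable def specRedOrderIso : PrimeSpectrum (A ⧸ nilradical A) ≃o PrimeSpectrum A :=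
  (nilradical A).primeSpectrumQuotientOrderIsoZeroLocus.trans
    ((OrderIso.setCongr _ _ (by
      ext p
      simp only [PrimeSpectrum.mem_zeroLocus, Set.mem_univ, iff_true]
      exact nilradical_le_prime p.asIdeal)).trans OrderIso.Set.univ)

theorem specRedOrderIso_asIdeal (x : PrimeSpectrum (A ⧸ nilradical A)) :
    (specRedOrderIso A x).asIdeal = x.asIdeal.comap (Ideal.Quotient.mk (nilradical A)) := rfl

theorem ringKrullDim_quotient_nilradical :
    ringKrullDim (A ⧸ nilradical A) = ringKrullDim A :=
  Order.krullDim_eq_of_orderIso (specRedOrderIso A)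

end General

section

variable (k : Type u) [Field k] (A : Type u) [CommRing A] [Algebra k A]

theorem res_bij [IsAlgClosed k] [Algebra.FiniteType k A] (m : Ideal A) [hm : m.IsMaximal] :
    Function.Bijective (algebraMap k (ResidueField (Localization.AtPrime m))) := by
  letI : Field (A ⧸ m) := Ideal.Quotient.field m
  haveI : Module.Finite k (A ⧸ m) := finite_of_finite_type_of_isJacobsonRing k (A ⧸ m)
  haveI : Algebra.IsIntegral k (A ⧸ m) := Algebra.IsIntegral.of_finite k (A ⧸ m)
  have h1 : Function.Bijective (algebraMap k (A ⧸ m)) :=
    IsAlgClosed.algebraMap_bijective_of_isIntegral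
  have h2 := m.bijective_algebraMap_quotient_residueField
  have h3 : algebraMap k m.ResidueField =
      (algebraMap (A ⧸ m) m.ResidueField).comp (algebraMap k (A ⧸ m)) :=
    IsScalarTower.algebraMap_eq k (A ⧸ m) m.ResidueField
  show Function.Bijective (algebraMap k m.ResidueField)
  rw [h3, RingHom.coe_comp]
  exact h2.comp h1

theorem ringKrullDim_localization_maximal [Algebra.FiniteType k A]
    (hirr : (nilradical A).IsPrime) (n : ℕ) (hn : ringKrullDim A = n) (m : Ideal A)
    [hm : m.IsMaximal] :
    ringKrullDim (Localization.AtPrime m) = n := by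
  haveI := hirr
  haveI : m.IsPrime := hm.isPrime
  obtain ⟨d, -, -, hd3, hd4⟩ := Groth.Agent.DimFTH8.exists_dim_eq k (A ⧸ nilradical A)
  have hdn : (d : WithBot ℕ∞) = n := by
    rw [← hd3, ringKrullDim_quotient_nilradical, hn]
  let p : PrimeSpectrum A := ⟨m, inferInstance⟩
  let x : PrimeSpectrum (A ⧸ nilradical A) := (specRedOrderIso A).symm p
  have hx : x.asIdeal.comap (Ideal.Quotient.mk (nilradical A)) = m := by
    rw [← specRedOrderIso_asIdeal]
    show ((specRedOrderIso A) ((specRedOrderIso A).symm p)).asIdeal = m
    rw [OrderIso.apply_symm_apply]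
  have hxmax : x.asIdeal.IsMaximal := by
    have h1 : x.asIdeal = m.map (Ideal.Quotient.mk (nilradical A)) := by
      rw [← hx, Ideal.map_comap_of_surjective _ Ideal.Quotient.mk_surjective]
    rcases Ideal.map_eq_top_or_isMaximal_of_surjective (Ideal.Quotient.mk (nilradical A))
      Ideal.Quotient.mk_surjective hm with h2 | h2
    · exact absurd (h1.trans h2) x.isPrime.ne_top
    · rw [h1]
      exact h2
  have h1 : x.asIdeal.height = d := hd4 x.asIdeal
  have h2 : m.height = d := by
    have h3 : m.height = Order.height p := PrimeSpectrum.height_eq_orderHeight p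
    have h4 : Order.height p = Order.height x := by
      have := Order.height_orderIso (specRedOrderIso A) x
      rw [← this]
      show Order.height p = Order.height ((specRedOrderIso A) ((specRedOrderIso A).symm p))
      rw [OrderIso.apply_symm_apply]
    rw [h3, h4, ← PrimeSpectrum.height_eq_orderHeight, h1]
  rw [IsLocalization.AtPrime.ringKrullDim_eq_height m (Localization.AtPrime m), h2]
  exact hdn

theorem finrank_fibre_localization (P : Ideal A) [P.IsPrime] :
    Module.finrank (ResidueField (Localization.AtPrime P))
      (ResidueField (Localization.AtPrime P) ⊗[Localization.AtPrime P]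
        Ω[Localization.AtPrime P⁄k]) =
    Module.finrank P.ResidueField (P.ResidueField ⊗[A] Ω[A⁄k]) := by
  haveI : Algebra.FormallyEtale A (Localization.AtPrime P) :=
    Algebra.FormallyEtale.of_isLocalization P.primeCompl
  let e1 := KaehlerDifferential.tensorKaehlerEquivOfFormallyEtale k A (Localization.AtPrime P)
  let e2 : P.ResidueField ⊗[Localization.AtPrime P] (Localization.AtPrime P ⊗[A] Ω[A⁄k])
      ≃ₗ[P.ResidueField] P.ResidueField ⊗[Localization.AtPrime P] Ω[Localization.AtPrime P⁄k] :=
    TensorProduct.AlgebraTensorModule.congr (LinearEquiv.refl _ _) e1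
  let e3 := TensorProduct.AlgebraTensorModule.cancelBaseChange A (Localization.AtPrime P)
    P.ResidueField P.ResidueField (Ω[A⁄k])
  exact (e2.symm.trans e3).finrank_eq

theorem free_kaehler_localization [Algebra.FiniteType k A] [Module.Projective A (Ω[A⁄k])]
    (P : Ideal A) [P.IsPrime] :
    Module.Free (Localization.AtPrime P) (Ω[Localization.AtPrime P⁄k]) := by
  haveI : Algebra.FormallyEtale A (Localization.AtPrime P) :=
    Algebra.FormallyEtale.of_isLocalization P.primeCompl
  let e1 := KaehlerDifferential.tensorKaehlerEquivOfFormallyEtale k A (Localization.AtPrime P)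
  haveI : Module.Projective (Localization.AtPrime P) (Ω[Localization.AtPrime P⁄k]) :=
    Module.Projective.of_equiv' e1
  haveI : Algebra.EssFiniteType A (Localization.AtPrime P) :=
    Algebra.EssFiniteType.of_isLocalization _ P.primeCompl
  haveI : Algebra.EssFiniteType k (Localization.AtPrime P) :=
    Algebra.EssFiniteType.comp k A (Localization.AtPrime P)
  exact Module.free_of_flat_of_isLocalRing

theorem main [IsAlgClosed k] [Algebra.FiniteType k A]
    (hirr : (nilradical A).IsPrime) (n : ℕ) (hn : ringKrullDim A = n) :
    (IsReduced A ∧ IsRegularRing A) ↔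
      (Module.Projective A (Ω[A⁄k]) ∧
        ∀ (P : Ideal A) [P.IsPrime],
          Module.finrank P.ResidueField (P.ResidueField ⊗[A] Ω[A⁄k]) = n) := by
  haveI : IsNoetherianRing A := Algebra.FiniteType.isNoetherianRing k A
  haveI := hirr
  have hess : ∀ (P : Ideal A) [P.IsPrime], Algebra.EssFiniteType k (Localization.AtPrime P) := by
    intro P _
    haveI : Algebra.EssFiniteType A (Localization.AtPrime P) :=
      Algebra.EssFiniteType.of_isLocalization _ P.primeCompl
    exact Algebra.EssFiniteType.comp k A (Localization.AtPrime P)
  constructor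
  · rintro ⟨hred, hreg⟩
    have hmax : ∀ (m : Ideal A) [m.IsMaximal],
        Module.Free (Localization.AtPrime m) (Ω[Localization.AtPrime m⁄k]) ∧
          Module.finrank (Localization.AtPrime m) (Ω[Localization.AtPrime m⁄k]) = n := by
      intro m hm
      haveI := hm.isPrime
      haveI := hess m
      exact Groth.Agent.Lib.KaehlerRegH3.free_of_regular k (Localization.AtPrime m)
        (res_bij k A m) n (ringKrullDim_localization_maximal k A hirr n hn m)
    have hproj : Module.Projective A (Ω[A⁄k]) := by
      haveI : Module.FinitePresentation A (Ω[A⁄k]) := Module.finitePresentation_of_finite A _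
      refine Module.projective_of_localization_maximal'
        (Rₚ := fun I _ => Localization.AtPrime I)
        (Mₚ := fun I _ => Ω[Localization.AtPrime I⁄k])
        (f := fun I _ => KaehlerDifferential.map k k A (Localization.AtPrime I)) ?_
      intro I hI
      haveI := hI
      haveI := (hmax I).1
      infer_instance
    refine ⟨hproj, ?_⟩
    intro P hP
    obtain ⟨m, hm, hPm⟩ := Ideal.exists_le_maximal P hP.ne_top
    haveI := hm
    haveI := hm.isPrime
    apply le_antisymm
    · refine le_trans (Groth.Agent.Lib.FibreRank_helper6.finrank_fibre_le_of_le A (Ω[A⁄k]) P m hPm) ?_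
      haveI := (hmax m).1
      rw [← finrank_fibre_localization k A m, Module.finrank_baseChange, (hmax m).2]
    · refine Groth.Agent.Lib.FibreRank_helper6.le_finrank_fibre_kaehler k A n P (nilradical A)
        (nilradical_le_prime P) ?_
      rw [ringKrullDim_quotient_nilradical, hn]
  · rintro ⟨hproj, hrank⟩
    haveI := hproj
    have hmax : ∀ (m : Ideal A) [m.IsMaximal], IsRegularLocalRing (Localization.AtPrime m) := by
      intro m hm
      haveI := hm.isPrime
      haveI := hess m
      haveI := free_kaehler_localization k A m
      refine Groth.Agent.Lib.KaehlerRegH3.isRegularLocalRing_of_free k (Localization.AtPrime m)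
        (res_bij k A m) n (ringKrullDim_localization_maximal k A hirr n hn m) ?_
      rw [← Module.finrank_baseChange (R := ResidueField (Localization.AtPrime m)),
        finrank_fibre_localization k A m]
      exact hrank m
    have hreg : IsRegularRing A :=
      Groth.Agent.Lib.GeomRegAdicH3.isRegularRing_of_forall_maximal A hmax
    refine ⟨?_, hreg⟩
    apply isReduced_ofLocalizationMaximal
    intro J hJ
    haveI := hJ
    haveI := hmax J
    haveI : IsDomain (Localization.AtPrime J) := Groth.Agent.RegularLib.isDomain _
    infer_instance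

end

end Groth.Agent.Lib.SmVarReg_helper6
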