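import Mathlib
import Groth.Prelude
import Groth.Agent.Lib.SmVarReg_helper6
import Groth.Agent.Lib.OmegaRecQC_helper4
import Groth.Agent.Lib.FLF6_helper8
import Groth.Agent.Lib.SchFT_helper8
import Groth.Agent.Lib.SmoothFibDim_helper4
import Groth.Agent.Lib.LocDim_helper8

/-!
# Sheaf of differentials of an irreducible finite type scheme over an algebraically closed field:
locally free of rank `dim X` iff nonsingular (helper6).  Globalization of `SmVarReg_helper6.main`.
-/

set_option autoImplicit false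
universe u

open CategoryTheory CategoryTheory.Limits AlgebraicGeometry TopologicalSpace Opposite TensorProduct

namespace Groth.Agent.Lib.NonsingOmega_helper6

open Groth.Agent

section Kaehler

variable (k : Type u) [Field k] (X : Scheme.{u}) [X.Over (Spec (CommRingCat.of k))]

/-- Sections over an affine open of a universal sheaf of differentials over `Spec k` are the Kähler
differentials of the `k`-algebra of sections. -/
theorem exists_sections_equiv_kaehler (Ω : X.Modules)
    (d : OmegaSh.Der (X ↘ Spec (CommRingCat.of k)) Ω) (hd : OmegaSh.IsUniversal d)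
    {W : X.Opens} (hW : IsAffineOpen W) :
    letI := SchFTH8.secAlgebra k X W
    Nonempty (Γ(Ω, W) ≃ₗ[Γ(X, W)] Ω[Γ(X, W)⁄k]) := by
  letI algk := SchFTH8.secAlgebra k X W
  have hle : W ≤ (X ↘ Spec (CommRingCat.of k)) ⁻¹ᵁ ⊤ := le_top
  letI algK : Algebra Γ(Spec (CommRingCat.of k), ⊤) Γ(X, W) :=
    ((X ↘ Spec (CommRingCat.of k)).appLE ⊤ W hle).hom.toAlgebra
  obtain ⟨L, -⟩ := Groth.Agent.Lib.OmegaResH4.receptacleSections (X ↘ Spec (CommRingCat.of k)) d hd
    hW (isAffineOpen_top (Spec (CommRingCat.of k))) hle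
  letI algkK : Algebra k Γ(Spec (CommRingCat.of k), ⊤) :=
    ((Scheme.ΓSpecIso (CommRingCat.of k)).inv.hom).toAlgebra
  haveI : IsScalarTower k Γ(Spec (CommRingCat.of k), ⊤) Γ(X, W) :=
    IsScalarTower.of_algebraMap_eq (fun a => by
      show SchFTH8.secMap k X W a = _
      simp only [SchFTH8.secMap, Coh.toGlobal, Scheme.Hom.appLE, Scheme.Hom.appTop]
      rfl)
  have hsurj : Function.Surjective (algebraMap k Γ(Spec (CommRingCat.of k), ⊤)) :=
    (ConcreteCategory.bijective_of_isIso (Scheme.ΓSpecIso (CommRingCat.of k)).inv).2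
  haveI : Subsingleton Ω[Γ(Spec (CommRingCat.of k), ⊤)⁄k] :=
    KaehlerDifferential.subsingleton_of_surjective _ _ hsurj
  have hex := KaehlerDifferential.exact_mapBaseChange_map k Γ(Spec (CommRingCat.of k), ⊤) Γ(X, W)
  have hinj : Function.Injective
      (KaehlerDifferential.map k Γ(Spec (CommRingCat.of k), ⊤) Γ(X, W) Γ(X, W)) := by
    rw [injective_iff_map_eq_zero]
    intro x hx
    obtain ⟨y, rfl⟩ := (hex x).1 hx
    rw [Subsingleton.elim y 0, map_zero]
  have hsur : Function.Surjective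
      (KaehlerDifferential.map k Γ(Spec (CommRingCat.of k), ⊤) Γ(X, W) Γ(X, W)) :=
    KaehlerDifferential.map_surjective k Γ(Spec (CommRingCat.of k), ⊤) Γ(X, W)
  let e : Ω[Γ(X, W)⁄k] ≃ₗ[Γ(X, W)] Ω[Γ(X, W)⁄Γ(Spec (CommRingCat.of k), ⊤)] :=
    LinearEquiv.ofBijective
      (KaehlerDifferential.map k Γ(Spec (CommRingCat.of k), ⊤) Γ(X, W) Γ(X, W)) ⟨hinj, hsur⟩
  exact ⟨L.trans e.symm⟩

end Kaehler

section Dim

variable (k : Type u) [Field k] (X : Scheme.{u}) [X.Over (Spec (CommRingCat.of k))]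

/-- The prime of the generic point in an affine open of an irreducible scheme is the nilradical. -/
theorem primeIdealOf_genericPoint [IrreducibleSpace X] {W : X.Opens} (hW : IsAffineOpen W)
    (hη : genericPoint X ∈ W) :
    (hW.primeIdealOf ⟨genericPoint X, hη⟩).asIdeal = nilradical Γ(X, W) := by
  apply le_antisymm
  · rw [nilradical_eq_sInf]
    apply le_sInf
    intro p hp
    let q : PrimeSpectrum Γ(X, W) := ⟨p, hp⟩
    have hq := SchFTH8.fromSpec_mem hW q
    have h1 : genericPoint X ⤳ hW.fromSpec q := genericPoint_specializes _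
    have h2 := (SchFTH8.specializes_iff_primeIdealOf_le hW _ _ hη hq).1 h1
    rw [SchFTH8.primeIdealOf_fromSpec hW q hq] at h2
    exact h2
  · exact nilradical_le_prime _

theorem exists_dim_sections [IrreducibleSpace X]
    [LocallyOfFiniteType (X ↘ Spec (CommRingCat.of k))]
    {W : X.Opens} (hW : IsAffineOpen W) (hη : genericPoint X ∈ W) :
    ∃ d : ℕ, ringKrullDim Γ(X, W) = d ∧ (nilradical Γ(X, W)).IsPrime ∧
      @Algebra.trdeg k (X.residueField (genericPoint X)) _ _
        (Curv2.resAlgebra k X (genericPoint X)) = d := by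
  letI := SchFTH8.secAlgebra k X W
  haveI := SchFTH8.finiteType_sec k X W hW
  have hnil := primeIdealOf_genericPoint X hW hη
  have htr := SchFTH8.trdeg_residueField k hW (genericPoint X) hη
  haveI hprime : (nilradical Γ(X, W)).IsPrime := by
    rw [← hnil]
    exact (hW.primeIdealOf ⟨genericPoint X, hη⟩).2
  rw [hnil] at htr
  obtain ⟨d, -, hd2, hd3, -⟩ :=
    Groth.Agent.DimFTH8.exists_dim_eq k (Γ(X, W) ⧸ nilradical Γ(X, W))
  refine ⟨d, ?_, hprime, htr.trans hd2⟩
  rw [← Groth.Agent.Lib.SmVarReg_helper6.ringKrullDim_quotient_nilradical]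
  exact hd3

theorem ringKrullDim_sections_eq [IrreducibleSpace X]
    [LocallyOfFiniteType (X ↘ Spec (CommRingCat.of k))] (n : ℕ)
    (hn : topologicalKrullDim X = n) {W : X.Opens} (hW : IsAffineOpen W)
    (hne : (W : Set X).Nonempty) :
    ringKrullDim Γ(X, W) = n ∧ (nilradical Γ(X, W)).IsPrime := by
  have hηmem : ∀ V : X.Opens, (V : Set X).Nonempty → genericPoint X ∈ V := by
    intro V hV
    refine ((genericPoint_spec X).mem_open_set_iff V.isOpen).2 ?_
    simpa using hV
  obtain ⟨d, hd1, hprime, hd2⟩ := exists_dim_sections k X hW (hηmem W hne)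
  refine ⟨?_, hprime⟩
  have hall : ∀ (V : X.Opens) (hV : IsAffineOpen V), (V : Set X).Nonempty →
      ringKrullDim Γ(X, V) = d := by
    intro V hV hVne
    obtain ⟨d', hd1', -, hd2'⟩ := exists_dim_sections k X hV (hηmem V hVne)
    have h1 : ((d' : ℕ) : Cardinal) = ((d : ℕ) : Cardinal) := by rw [← hd2', hd2]
    have h2 : d' = d := by exact_mod_cast h1
    rw [hd1', h2]
  have h1 : topologicalKrullDim X = d := by
    apply le_antisymm
    · have hu := Groth.Agent.LocDimH8.topologicalKrullDim_opens X Set.univ isOpen_univ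
      have hhom : topologicalKrullDim ↥(Set.univ : Set X) = topologicalKrullDim X :=
        IsHomeomorph.topologicalKrullDim_eq _ (Homeomorph.Set.univ X).isHomeomorph
      rw [← hhom, hu]
      apply iSup_le
      rintro ⟨x, -⟩
      obtain ⟨_, ⟨V, hV', rfl⟩, hxV, -⟩ :=
        X.isBasis_affineOpens.exists_subset_of_mem_open (Set.mem_univ x) isOpen_univ
      have hV : IsAffineOpen V := hV'
      have h2 := SchFTH8.ringKrullDim_stalk_eq_height hV x hxV
      rw [AlgebraicGeometry.ringKrullDim_stalk_eq_coheight] at h2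
      show ((Order.coheight x : ℕ∞) : WithBot ℕ∞) ≤ _
      rw [h2, ← hall V hV ⟨x, hxV⟩]
      haveI := (hV.primeIdealOf ⟨x, hxV⟩).2
      exact Ideal.height_le_ringKrullDim_of_isPrime
    · rw [← hd1, ← Groth.Agent.Lib.SmoothFibDimH4.topDim_affineOpen hW]
      exact topologicalKrullDim_subspace_le X (W : Set X)
  rw [hd1]
  have h2 : ((d : ℕ) : WithBot ℕ∞) = n := by rw [← h1, hn]
  exact h2

end Dim

section Reg

variable {X : Scheme.{u}}

theorem regular_localization_iff {W : X.Opens} (hW : IsAffineOpen W)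
    (q : PrimeSpectrum Γ(X, W)) :
    IsRegularLocalRing (Localization.AtPrime q.asIdeal) ↔
      IsRegularLocalRing (X.presheaf.stalk (hW.fromSpec q)) := by
  have hz := SchFTH8.fromSpec_mem hW q
  have e := SchFTH8.primeIdealOf_fromSpec hW q hz
  letI := TopCat.Presheaf.algebra_section_stalk X.presheaf (⟨hW.fromSpec q, hz⟩ : W)
  haveI hloc : IsLocalization.AtPrime (X.presheaf.stalk (hW.fromSpec q)) q.asIdeal := by
    have h := hW.isLocalization_stalk ⟨hW.fromSpec q, hz⟩
    rwa [e] at h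
  let i : Localization.AtPrime q.asIdeal ≃ₐ[Γ(X, W)] X.presheaf.stalk (hW.fromSpec q) :=
    IsLocalization.algEquiv q.asIdeal.primeCompl _ _
  constructor
  · intro h
    exact IsRegularLocalRing.of_ringEquiv i.toRingEquiv
  · intro h
    exact IsRegularLocalRing.of_ringEquiv i.symm.toRingEquiv

end Reg

section Main

variable (k : Type u) [Field k] [IsAlgClosed k] (n : ℕ) (X : Scheme.{u})
  [X.Over (Spec (CommRingCat.of k))] [IrreducibleSpace X]
  [LocallyOfFiniteType (X ↘ Spec (CommRingCat.of k))]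

theorem key (hn : topologicalKrullDim X = n) (Ω : X.Modules)
    (d : OmegaSh.Der (X ↘ Spec (CommRingCat.of k)) Ω) (hd : OmegaSh.IsUniversal d)
    (W : X.Opens) (hW : IsAffineOpen W) (x : X) (hx : x ∈ W) :
    letI := SchFTH8.secAlgebra k X W
    ∃ (_ : Γ(Ω, W) ≃ₗ[Γ(X, W)] Ω[Γ(X, W)⁄k]),
      ((_root_.IsReduced Γ(X, W) ∧ IsRegularRing Γ(X, W)) ↔
      (Module.Projective Γ(X, W) (Ω[Γ(X, W)⁄k]) ∧
        ∀ (P : Ideal Γ(X, W)) [P.IsPrime],
          Module.finrank P.ResidueField (P.ResidueField ⊗[Γ(X, W)] Ω[Γ(X, W)⁄k]) = n)) := by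
  letI := SchFTH8.secAlgebra k X W
  haveI := SchFTH8.finiteType_sec k X W hW
  obtain ⟨hdim, hprime⟩ := ringKrullDim_sections_eq k X n hn hW ⟨x, hx⟩
  obtain ⟨L⟩ := exists_sections_equiv_kaehler k X Ω d hd hW
  exact ⟨L, Groth.Agent.Lib.SmVarReg_helper6.main k Γ(X, W) hprime n hdim⟩

theorem main (hn : topologicalKrullDim X = n) (Ω : X.Modules)
    (d : OmegaSh.Der (X ↘ Spec (CommRingCat.of k)) Ω) (hd : OmegaSh.IsUniversal d) :
    FlatMod.IsFinLocFreeOfRank n Ω ↔ ∀ x : X, IsRegularLocalRing (X.presheaf.stalk x) := by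
  haveI qc : Ω.IsQuasicoherent := Groth.Agent.Lib.OmegaRecQCH4.isQuasicoherent _ d hd
  constructor
  · intro hF x
    obtain ⟨_, ⟨W, hW', rfl⟩, hxW, -⟩ :=
      X.isBasis_affineOpens.exists_subset_of_mem_open (Set.mem_univ x) isOpen_univ
    have hW : IsAffineOpen W := hW'
    have hx : x ∈ W := hxW
    letI := SchFTH8.secAlgebra k X W
    haveI := SchFTH8.finiteType_sec k X W hW
    haveI : IsNoetherianRing Γ(X, W) := Algebra.FiniteType.isNoetherianRing k Γ(X, W)
    obtain ⟨L, hmain⟩ := key k n X hn Ω d hd W hW x hx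
    haveI : Module.Finite Γ(X, W) Ω[Γ(X, W)⁄k] := inferInstance
    haveI : Module.FinitePresentation Γ(X, W) Ω[Γ(X, W)⁄k] :=
      Module.finitePresentation_of_finite _ _
    haveI : Module.FinitePresentation Γ(X, W) Γ(Ω, W) := Module.FinitePresentation.of_equiv L.symm
    haveI : Module.Flat Γ(X, W) Γ(Ω, W) :=
      FLFH8.flat_sections_of_flat_stalks Ω hW (fun y _ => by
        haveI := (FLFH8.free_stalk_of_finLocFreeOfRank Ω hF y).1
        infer_instance)
    haveI : Module.Projective Γ(X, W) Γ(Ω, W) := Module.Flat.projective_of_finitePresentation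
    haveI : Module.Projective Γ(X, W) Ω[Γ(X, W)⁄k] := Module.Projective.of_equiv L
    have hrank : ∀ (P : Ideal Γ(X, W)) [P.IsPrime],
        Module.finrank P.ResidueField (P.ResidueField ⊗[Γ(X, W)] Ω[Γ(X, W)⁄k]) = n := by
      intro P hP
      refine (Module.rankAtStalk_eq (M := Ω[Γ(X, W)⁄k]) ⟨P, hP⟩).symm.trans ?_
      rw [← Module.rankAtStalk_eq_of_equiv L]
      have hz := SchFTH8.fromSpec_mem hW (⟨P, hP⟩ : PrimeSpectrum Γ(X, W))
      have h2 := FLFH8.rankAtStalk_sections Ω hW hz
      rw [SchFTH8.primeIdealOf_fromSpec hW _ hz] at h2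
      rw [h2]
      exact (FLFH8.free_stalk_of_finLocFreeOfRank Ω hF _).2
    obtain ⟨-, hreg⟩ := hmain.2 ⟨inferInstance, hrank⟩
    have h3 := (regular_localization_iff hW (hW.primeIdealOf ⟨x, hx⟩)).1
      (IsRegularRing.isRegularLocalRing_localization _)
    rwa [hW.fromSpec_primeIdealOf ⟨x, hx⟩] at h3
  · intro hreg x
    obtain ⟨_, ⟨W, hW', rfl⟩, hxW, -⟩ :=
      X.isBasis_affineOpens.exists_subset_of_mem_open (Set.mem_univ x) isOpen_univ
    have hW : IsAffineOpen W := hW'
    have hx : x ∈ W := hxW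
    letI := SchFTH8.secAlgebra k X W
    haveI := SchFTH8.finiteType_sec k X W hW
    haveI : IsNoetherianRing Γ(X, W) := Algebra.FiniteType.isNoetherianRing k Γ(X, W)
    obtain ⟨L, hmain⟩ := key k n X hn Ω d hd W hW x hx
    haveI : ∀ y : X, _root_.IsReduced (X.presheaf.stalk y) := fun y => by
      haveI := hreg y
      haveI : IsDomain (X.presheaf.stalk y) := Groth.Agent.RegularLib.isDomain _
      infer_instance
    haveI : AlgebraicGeometry.IsReduced X := isReduced_of_isReduced_stalk X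
    have hred : _root_.IsReduced Γ(X, W) := inferInstance
    have hregring : IsRegularRing Γ(X, W) :=
      { toIsNoetherian := inferInstance
        isRegularLocalRing_localization := fun p hp =>
          (regular_localization_iff hW ⟨p, hp⟩).2 (hreg _) }
    obtain ⟨hproj, hrank⟩ := hmain.1 ⟨hred, hregring⟩
    haveI := hproj
    haveI : Module.FinitePresentation Γ(X, W) Ω[Γ(X, W)⁄k] :=
      Module.finitePresentation_of_finite _ _
    haveI : Module.FinitePresentation Γ(X, W) Γ(Ω, W) := Module.FinitePresentation.of_equiv L.symm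
    haveI : Module.Projective Γ(X, W) Γ(Ω, W) := Module.Projective.of_equiv L.symm
    haveI : Module.Flat Γ(X, W) Γ(Ω, W) := inferInstance
    have hs : ∀ p ∈ ({hW.primeIdealOf ⟨x, hx⟩} : Finset (PrimeSpectrum Γ(X, W))),
        Module.rankAtStalk Γ(Ω, W) p = n := by
      intro p hp
      rw [Finset.mem_singleton] at hp
      subst hp
      rw [Module.rankAtStalk_eq_of_equiv L, Module.rankAtStalk_eq]
      exact hrank _
    obtain ⟨g, hg, ⟨b⟩⟩ := SemiLocH8.exists_basis_away
      ({hW.primeIdealOf ⟨x, hx⟩} : Finset (PrimeSpectrum Γ(X, W))) Γ(Ω, W) n hs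
    have hld : RelFPKit.LocData (X.presheaf.map (homOfLE (X.basicOpen_le g)).op).hom g
        (Ω.presheaf.map (homOfLE (X.basicOpen_le g)).op).hom :=
      RelFPAff.locData (F := Ω) hW g _ rfl
    obtain ⟨b2⟩ := FLFH8.basis_of_locData hld b
    refine ⟨X.basicOpen g, ?_,
      FLFH8.iso_of_basis Ω (hW.basicOpen g) (⇑b2) b2.span_eq b2.linearIndependent⟩
    exact FLFH8.mem_basicOpen_of_notMem_prime hW hx (hg _ (Finset.mem_singleton_self _))

end Main

end Groth.Agent.Lib.NonsingOmega_helper6
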