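import Groth.Agent.Lib.Norm1_helper8

/-!
# Normality descends along fibrations `O_Y ≅ f_* O_X` from locally Noetherian schemes (helper8)
-/

universe u

open AlgebraicGeometry CategoryTheory TopologicalSpace Opposite

namespace NormH8

variable {X : Scheme.{u}}

/-- A section over an open is zero if all its germs are zero. -/
theorem eq_zero_of_germ_eq_zero {W : X.Opens} (a : Γ(X, W))
    (h : ∀ x (hx : x ∈ W), X.presheaf.germ W x hx a = 0) : a = 0 := by
  refine TopCat.Presheaf.section_ext X.sheaf W a 0 (fun x hx => ?_)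
  rw [map_zero]
  exact h x hx

/-- On a Noetherian affine open, the kernel of the germ map at `x` is killed by a single function
invertible at `x`. -/
theorem exists_kill_ker_germ {W : X.Opens} (hW : IsAffineOpen W) [IsNoetherianRing Γ(X, W)]
    {x : X} (hx : x ∈ W) :
    ∃ s : Γ(X, W), x ∈ X.basicOpen s ∧
      ∀ a : Γ(X, W), X.presheaf.germ W x hx a = 0 → s * a = 0 := by
  classical
  letI := TopCat.Presheaf.algebra_section_stalk X.presheaf (U := W) ⟨x, hx⟩
  haveI := hW.isLocalization_stalk ⟨x, hx⟩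
  obtain ⟨K, hK⟩ : ∃ K : Ideal Γ(X, W), K = RingHom.ker (X.presheaf.germ W x hx).hom := ⟨_, rfl⟩
  have hKfg : K.FG := (isNoetherianRing_iff_ideal_fg _).1 inferInstance K
  obtain ⟨t, ht⟩ := hKfg
  have h1 : ∀ k ∈ t, ∃ u : Γ(X, W), x ∈ X.basicOpen u ∧ u * k = 0 := by
    intro k hk
    have hkK : k ∈ K := ht ▸ Ideal.subset_span hk
    rw [hK, RingHom.mem_ker] at hkK
    obtain ⟨m, hm⟩ := (IsLocalization.map_eq_zero_iff
      (hW.primeIdealOf ⟨x, hx⟩).asIdeal.primeCompl (X.presheaf.stalk x) k).1 hkK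
    refine ⟨m.1, ?_, hm⟩
    rw [Scheme.mem_basicOpen _ _ _ hx]
    exact IsLocalization.map_units (X.presheaf.stalk x) m
  choose! u hu1 hu2 using h1
  refine ⟨∏ k ∈ t, u k, ?_, ?_⟩
  · rw [Scheme.mem_basicOpen _ _ _ hx, map_prod]
    refine IsUnit.prod_iff.2 (fun k hk => ?_)
    rw [← Scheme.mem_basicOpen _ _ _ hx]
    exact hu1 k hk
  · intro a ha
    have haK : a ∈ Ideal.span (t : Set Γ(X, W)) := by
      rw [ht, hK, RingHom.mem_ker]; exact ha
    refine Submodule.span_induction (p := fun a _ => (∏ k ∈ t, u k) * a = 0) ?_ ?_ ?_ ?_ haK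
    · intro k hk
      rw [← Finset.mul_prod_erase t u hk, mul_comm (u k), mul_assoc, hu2 k hk, mul_zero]
    · exact mul_zero _
    · intro a b _ _ ha hb
      rw [mul_add, ha, hb, add_zero]
    · intro c a _ ha
      rw [smul_eq_mul, mul_left_comm, ha, mul_zero]

/-- With `s` as in `exists_kill_ker_germ` and a domain stalk at `x`, the germ map at `x` is
injective on `Γ(X, D(s))`. -/
theorem germ_injective_basicOpen {W : X.Opens} (hW : IsAffineOpen W) {x : X} (hx : x ∈ W)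
    (s : Γ(X, W)) (hxs : x ∈ X.basicOpen s)
    (hs : ∀ a : Γ(X, W), X.presheaf.germ W x hx a = 0 → s * a = 0) :
    Function.Injective (X.presheaf.germ (X.basicOpen s) x hxs) := by
  rw [injective_iff_map_eq_zero]
  intro v hv
  haveI := hW.isLocalization_basicOpen s
  obtain ⟨⟨a, m⟩, ha⟩ := IsLocalization.surj (Submonoid.powers s) v
  obtain ⟨n, hn⟩ := m.2
  -- `v * res (s^n) = res a`
  have hres : ∀ b : Γ(X, W), algebraMap Γ(X, W) Γ(X, X.basicOpen s) b =
      X.presheaf.map (homOfLE (X.basicOpen_le s)).op b := fun _ => rfl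
  have h1 : X.presheaf.germ W x hx a = 0 := by
    have h2 : X.presheaf.germ (X.basicOpen s) x hxs (algebraMap Γ(X, W) _ a) = 0 := by
      rw [← ha, map_mul, hv, zero_mul]
    rw [hres, TopCat.Presheaf.germ_res_apply] at h2
    exact h2
  have h3 : s * a = 0 := hs a h1
  have h4 : algebraMap Γ(X, W) Γ(X, X.basicOpen s) a = 0 := by
    have hu : IsUnit (algebraMap Γ(X, W) Γ(X, X.basicOpen s) s) :=
      IsLocalization.Away.algebraMap_isUnit s
    have h5 : algebraMap Γ(X, W) Γ(X, X.basicOpen s) s * algebraMap Γ(X, W) _ a = 0 := by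
      rw [← map_mul, h3, map_zero]
    exact (hu.mul_right_eq_zero).1 h5
  have hu2 : IsUnit (algebraMap Γ(X, W) Γ(X, X.basicOpen s) (m : Γ(X, W))) :=
    IsLocalization.map_units _ m
  rw [h4] at ha
  exact (hu2.mul_left_eq_zero).1 ha

/-- On a locally Noetherian scheme, a point with domain stalk has a basis of affine open
neighbourhoods `U` whose rings of sections are domains and embed into every stalk over `U`. -/
theorem exists_domain_nhd [IsLocallyNoetherian X] {x : X} [IsDomain (X.presheaf.stalk x)]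
    {W₀ : X.Opens} (hx₀ : x ∈ W₀) :
    ∃ U : X.Opens, IsAffineOpen U ∧ x ∈ U ∧ U ≤ W₀ ∧ IsDomain Γ(X, U) ∧
      ∀ x' (hx' : x' ∈ U), Function.Injective (X.presheaf.germ U x' hx') := by
  obtain ⟨_, ⟨W, hW, rfl⟩, hxW, hWW₀⟩ :=
    X.isBasis_affineOpens.exists_subset_of_mem_open hx₀ W₀.isOpen
  haveI : IsNoetherianRing Γ(X, W) := IsLocallyNoetherian.component_noetherian ⟨W, hW⟩
  obtain ⟨s, hxs, hs⟩ := exists_kill_ker_germ hW hxW
  have hinj := germ_injective_basicOpen hW hxW s hxs hs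
  haveI hdom : IsDomain Γ(X, X.basicOpen s) :=
    Function.Injective.isDomain (X.presheaf.germ (X.basicOpen s) x hxs).hom hinj
  refine ⟨X.basicOpen s, hW.basicOpen s, hxs, (X.basicOpen_le s).trans hWW₀, hdom, ?_⟩
  intro x' hx'
  letI := TopCat.Presheaf.algebra_section_stalk X.presheaf (U := X.basicOpen s) ⟨x', hx'⟩
  haveI := (hW.basicOpen s).isLocalization_stalk ⟨x', hx'⟩
  exact IsLocalization.injective (X.presheaf.stalk x')
    (Ideal.primeCompl_le_nonZeroDivisors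
      ((hW.basicOpen s).primeIdealOf ⟨x', hx'⟩).asIdeal)

/-- On a locally Noetherian scheme with domain stalks, the vanishing locus of a section is open and
closed: there is a function equal to `1` where the germ of `a` vanishes and `0` elsewhere. -/
theorem exists_indicator [IsLocallyNoetherian X] (hX : ∀ x : X, IsDomain (X.presheaf.stalk x))
    {W₀ : X.Opens} (a : Γ(X, W₀)) :
    ∃ e : Γ(X, W₀), ∀ x (hx : x ∈ W₀),
      (X.presheaf.germ W₀ x hx a = 0 → X.presheaf.germ W₀ x hx e = 1) ∧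
      (X.presheaf.germ W₀ x hx a ≠ 0 → X.presheaf.germ W₀ x hx e = 0) := by
  have hZo : IsOpen {x : X | ∃ hx : x ∈ W₀, X.presheaf.germ W₀ x hx a = 0} := by
    rw [isOpen_iff_forall_mem_open]
    rintro x ⟨hx, hax⟩
    have hax' : X.presheaf.germ W₀ x hx a = X.presheaf.germ W₀ x hx 0 := by rw [hax, map_zero]
    obtain ⟨W', hxW', i₁, i₂, hW'⟩ := TopCat.Presheaf.germ_eq X.presheaf x hx hx a 0 hax'
    refine ⟨W', fun x' hx' => ⟨i₁.le hx', ?_⟩, W'.isOpen, hxW'⟩
    rw [← TopCat.Presheaf.germ_res_apply X.presheaf i₁ x' hx' a, hW', map_zero, map_zero]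
  have hNo : IsOpen {x : X | ∃ hx : x ∈ W₀, X.presheaf.germ W₀ x hx a ≠ 0} := by
    rw [isOpen_iff_forall_mem_open]
    rintro x ⟨hx, hax⟩
    haveI := hX x
    obtain ⟨U, -, hxU, hUW, -, hinj⟩ := exists_domain_nhd (X := X) hx
    refine ⟨U, fun x' hx' => ⟨hUW hx', ?_⟩, U.isOpen, hxU⟩
    intro h0
    rw [← TopCat.Presheaf.germ_res_apply X.presheaf (homOfLE hUW) x' hx' a] at h0
    have h1 : X.presheaf.map (homOfLE hUW).op a = 0 := hinj x' hx' (by rw [h0, map_zero])
    apply hax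
    rw [← TopCat.Presheaf.germ_res_apply X.presheaf (homOfLE hUW) x hxU a, h1, map_zero]
  obtain ⟨Z, hZ⟩ : ∃ Z : X.Opens, (Z : Set X) =
      {x : X | ∃ hx : x ∈ W₀, X.presheaf.germ W₀ x hx a = 0} := ⟨⟨_, hZo⟩, rfl⟩
  obtain ⟨N, hN⟩ : ∃ N : X.Opens, (N : Set X) =
      {x : X | ∃ hx : x ∈ W₀, X.presheaf.germ W₀ x hx a ≠ 0} := ⟨⟨_, hNo⟩, rfl⟩
  have hZmem : ∀ x, x ∈ Z ↔ ∃ hx : x ∈ W₀, X.presheaf.germ W₀ x hx a = 0 := fun x => by
    change x ∈ (Z : Set X) ↔ _; rw [hZ]; rfl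
  have hNmem : ∀ x, x ∈ N ↔ ∃ hx : x ∈ W₀, X.presheaf.germ W₀ x hx a ≠ 0 := fun x => by
    change x ∈ (N : Set X) ↔ _; rw [hN]; rfl
  have hZW : Z ≤ W₀ := fun x hx => ((hZmem x).1 hx).1
  have hNW : N ≤ W₀ := fun x hx => ((hNmem x).1 hx).1
  have hdisj : ∀ x, x ∈ Z → x ∈ N → False := fun x h1 h2 => by
    obtain ⟨hx, h1⟩ := (hZmem x).1 h1
    obtain ⟨_, h2⟩ := (hNmem x).1 h2
    exact h2 h1
  let O : Bool → X.Opens := fun b => if b then Z else N
  let sec : ∀ b : Bool, Γ(X, O b) := fun b => if b then 1 else 0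
  have hOW : ∀ b, O b ≤ W₀ := fun b => by cases b <;> simp [O, hZW, hNW]
  have hcov : W₀ ≤ ⨆ b, O b := by
    intro x hx
    rw [Opens.mem_iSup]
    by_cases h : X.presheaf.germ W₀ x hx a = 0
    · exact ⟨true, (hZmem x).2 ⟨hx, h⟩⟩
    · exact ⟨false, (hNmem x).2 ⟨hx, h⟩⟩
  have hcompat : TopCat.Presheaf.IsCompatible X.presheaf O sec := by
    intro i j
    cases i <;> cases j
    · simp [sec]
    · refine TopCat.Presheaf.section_ext X.sheaf _ _ _ (fun x hx => ?_)
      exact (hdisj x hx.2 hx.1).elim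
    · refine TopCat.Presheaf.section_ext X.sheaf _ _ _ (fun x hx => ?_)
      exact (hdisj x hx.1 hx.2).elim
    · simp [sec]
  obtain ⟨e, he, -⟩ := TopCat.Sheaf.existsUnique_gluing' X.sheaf O W₀
    (fun b => homOfLE (hOW b)) hcov sec hcompat
  refine ⟨e, fun x hx => ⟨fun h => ?_, fun h => ?_⟩⟩
  · have hxZ : x ∈ O true := (hZmem x).2 ⟨hx, h⟩
    rw [← TopCat.Presheaf.germ_res_apply X.presheaf (homOfLE (hOW true)) x hxZ e]
    erw [he true]
    simp [sec]
  · have hxN : x ∈ O false := (hNmem x).2 ⟨hx, h⟩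
    rw [← TopCat.Presheaf.germ_res_apply X.presheaf (homOfLE (hOW false)) x hxN e]
    erw [he false]
    simp [sec]

section Fib

variable {Y : Scheme.{u}} [IsLocallyNoetherian X]
  (hX : ∀ x : X, IsDomain (X.presheaf.stalk x)) (f : X ⟶ Y)
  (hb : ∀ V : Y.Opens, Function.Bijective (f.app V))

include hX hb in
/-- If `a b = 0` on `V`, there is `e` on `V` with `e a = 0` and `(1 - e) b = 0`. -/
theorem exists_split {V : Y.Opens} (a b : Γ(Y, V)) (hab : a * b = 0) :
    ∃ e : Γ(Y, V), e * a = 0 ∧ (1 - e) * b = 0 := by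
  obtain ⟨e', he'⟩ := exists_indicator hX (f.app V a)
  obtain ⟨e, rfl⟩ := (hb V).2 e'
  have hAB : f.app V a * f.app V b = 0 := by rw [← map_mul, hab, map_zero]
  refine ⟨e, (hb V).1 ?_, (hb V).1 ?_⟩
  · rw [map_mul, map_zero]
    refine eq_zero_of_germ_eq_zero _ (fun x hx => ?_)
    rw [map_mul]
    by_cases h : X.presheaf.germ (f ⁻¹ᵁ V) x hx (f.app V a) = 0
    · rw [h, mul_zero]
    · rw [(he' x hx).2 h, zero_mul]
  · rw [map_mul, map_zero, map_sub, map_one]
    refine eq_zero_of_germ_eq_zero _ (fun x hx => ?_)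
    rw [map_mul, map_sub, map_one]
    by_cases h : X.presheaf.germ (f ⁻¹ᵁ V) x hx (f.app V a) = 0
    · rw [(he' x hx).1 h, sub_self, zero_mul]
    · haveI := hX x
      have h2 := congrArg (X.presheaf.germ (f ⁻¹ᵁ V) x hx) hAB
      rw [map_mul, map_zero] at h2
      rcases mul_eq_zero.1 h2 with h3 | h3
      · exact (h h3).elim
      · rw [h3, mul_zero]

include hX hb in
theorem isDomain_stalk_of_fibration (y : Y) : IsDomain (Y.presheaf.stalk y) := by
  haveI : NoZeroDivisors (Y.presheaf.stalk y) := by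
    refine ⟨fun {α β} hαβ => ?_⟩
    obtain ⟨V₁, hy₁, a₁, rfl⟩ := TopCat.Presheaf.exists_germ_eq (F := Y.presheaf) α
    obtain ⟨V₂, hy₂, b₂, rfl⟩ := TopCat.Presheaf.exists_germ_eq (F := Y.presheaf) β
    obtain ⟨V, hV⟩ : ∃ V : Y.Opens, V = V₁ ⊓ V₂ := ⟨_, rfl⟩
    have hyV : y ∈ V := hV ▸ ⟨hy₁, hy₂⟩
    have hV1 : V ≤ V₁ := hV ▸ inf_le_left
    have hV2 : V ≤ V₂ := hV ▸ inf_le_right
    obtain ⟨a, ha⟩ : ∃ a : Γ(Y, V), a = Y.presheaf.map (homOfLE hV1).op a₁ := ⟨_, rfl⟩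
    obtain ⟨b, hb'⟩ : ∃ b : Γ(Y, V), b = Y.presheaf.map (homOfLE hV2).op b₂ := ⟨_, rfl⟩
    have e1 : Y.presheaf.germ V₁ y hy₁ a₁ = Y.presheaf.germ V y hyV a := by
      rw [ha, TopCat.Presheaf.germ_res_apply]
    have e2 : Y.presheaf.germ V₂ y hy₂ b₂ = Y.presheaf.germ V y hyV b := by
      rw [hb', TopCat.Presheaf.germ_res_apply]
    rw [e1, e2] at hαβ ⊢
    have h0 : Y.presheaf.germ V y hyV (a * b) = Y.presheaf.germ V y hyV 0 := by
      rw [map_mul, hαβ, map_zero]
    obtain ⟨V', hyV', i₁, i₂, hV'⟩ := TopCat.Presheaf.germ_eq Y.presheaf y hyV hyV _ _ h0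
    rw [map_zero, map_mul] at hV'
    obtain ⟨e, he1, he2⟩ := exists_split hX f hb _ _ hV'
    have g1 : Y.presheaf.germ V y hyV a =
        Y.presheaf.germ V' y hyV' (Y.presheaf.map i₁.op a) :=
      (TopCat.Presheaf.germ_res_apply Y.presheaf i₁ y hyV' a).symm
    have g2 : Y.presheaf.germ V y hyV b =
        Y.presheaf.germ V' y hyV' (Y.presheaf.map i₁.op b) :=
      (TopCat.Presheaf.germ_res_apply Y.presheaf i₁ y hyV' b).symm
    rw [g1, g2]
    have k1 := congrArg (Y.presheaf.germ V' y hyV') he1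
    have k2 := congrArg (Y.presheaf.germ V' y hyV') he2
    rw [map_mul, map_zero] at k1 k2
    rw [map_sub, map_one] at k2
    rcases IsLocalRing.isUnit_or_isUnit_one_sub_self (Y.presheaf.germ V' y hyV' e) with hu | hu
    · exact Or.inl ((hu.mul_right_eq_zero).1 k1)
    · exact Or.inr ((hu.mul_right_eq_zero).1 k2)
  exact NoZeroDivisors.to_isDomain _

end Fib

end NormH8
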