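import Mathlib
import Groth.Prelude

/-!
# Irreducibility of a base change of a birational morphism (helper9, towards S12235).
APPEND-ONLY once landed.
-/

set_option autoImplicit false
universe u
open CategoryTheory CategoryTheory.Limits AlgebraicGeometry Opposite TopologicalSpace

namespace Groth.Agent.Lib.NormBC

/-- Let `ν : Y ⟶ Z` be an isomorphism over a nonempty open `V`, with `Y` irreducible, and
`g : Z' ⟶ Z` surjective and universally open with `Z'` irreducible.  Then `Y ×_Z Z'` is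
irreducible. -/
theorem irreducibleSpace_pullback {Y Z Z' : Scheme.{u}} (ν : Y ⟶ Z) (g : Z' ⟶ Z)
    [IrreducibleSpace Y] [IrreducibleSpace Z'] [UniversallyOpen g] [Surjective g]
    (V : Z.Opens) (hV : (V : Set Z).Nonempty) [IsIso (ν ∣_ V)] :
    IrreducibleSpace ↥(pullback ν g) := by
  have H : IsPullback (pullback.fst ν g) (pullback.snd ν g) ν g := IsPullback.of_hasPullback ν g
  obtain ⟨W, hW⟩ : ∃ W : (pullback ν g).Opens,
      W = (pullback.fst ν g) ⁻¹ᵁ (ν ⁻¹ᵁ V) ⊓ (pullback.snd ν g) ⁻¹ᵁ (g ⁻¹ᵁ V) := ⟨_, rfl⟩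
  have Hres := Scheme.Hom.isPullback_resLE H (US := V) (UT := g ⁻¹ᵁ V) (UX := ν ⁻¹ᵁ V)
    le_rfl le_rfl (UY := W) hW
  haveI : IsIso (ν.resLE V (ν ⁻¹ᵁ V) le_rfl) := by
    rw [Scheme.Hom.resLE_eq_morphismRestrict]; infer_instance
  haveI hiso := Hres.isIso_snd_of_isIso
  -- nonemptiness
  obtain ⟨z, hz⟩ := hV
  obtain ⟨z', rfl⟩ := g.surjective z
  have hz' : z' ∈ g ⁻¹ᵁ V := hz
  have hνV : ((ν ⁻¹ᵁ V : Y.Opens) : Set Y).Nonempty :=
    ⟨((inv (ν ∣_ V)) ⟨g z', hz⟩).1, ((inv (ν ∣_ V)) ⟨g z', hz⟩).2⟩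
  -- the open `V'` is preirreducible
  have hpre : IsPreirreducible ((g ⁻¹ᵁ V : Z'.Opens) : Set Z') :=
    (PreirreducibleSpace.isPreirreducible_univ (X := Z')).open_subset (g ⁻¹ᵁ V).2
      (Set.subset_univ _)
  haveI : PreirreducibleSpace ↥(g ⁻¹ᵁ V : Z'.Opens) := Subtype.preirreducibleSpace hpre
  let e : (g ⁻¹ᵁ V : Z'.Opens).toScheme ⟶ pullback ν g :=
    inv ((pullback.snd ν g).resLE (g ⁻¹ᵁ V) W (hW.le.trans inf_le_right)) ≫ W.ι
  have hrange : Set.range e = (W : Set ↥(pullback ν g)) := by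
    show Set.range (inv ((pullback.snd ν g).resLE (g ⁻¹ᵁ V) W _) ≫ W.ι) = _
    rw [Scheme.Hom.comp_base, TopCat.coe_comp, Set.range_comp,
      Set.range_eq_univ.mpr (inv ((pullback.snd ν g).resLE (g ⁻¹ᵁ V) W _)).surjective,
      Set.image_univ, Scheme.Opens.range_ι]
  have hWpre : IsPreirreducible (W : Set ↥(pullback ν g)) := by
    rw [← hrange, ← Set.image_univ]
    exact (PreirreducibleSpace.isPreirreducible_univ (X := ↥(g ⁻¹ᵁ V : Z'.Opens))).image e
      e.continuous.continuousOn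
  have hWne : (W : Set ↥(pullback ν g)).Nonempty := by
    rw [← hrange]
    exact ⟨e ⟨z', hz'⟩, ⟨_, rfl⟩⟩
  have hWdense : Dense (W : Set ↥(pullback ν g)) := by
    rw [dense_iff_inter_open]
    intro O hO hOne
    have h1 : IsOpen ((pullback.fst ν g) '' O) := (pullback.fst ν g).isOpenMap O hO
    obtain ⟨y, ⟨p, hpO, rfl⟩, hy2⟩ :=
      nonempty_preirreducible_inter h1 (ν ⁻¹ᵁ V).2 (hOne.image _) hνV
    refine ⟨p, hpO, ?_⟩
    rw [hW]
    refine ⟨hy2, ?_⟩
    show g ((pullback.snd ν g) p) ∈ V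
    have h2 : g ((pullback.snd ν g) p) = ν ((pullback.fst ν g) p) := by
      rw [← Scheme.Hom.comp_apply, ← Scheme.Hom.comp_apply, pullback.condition]
    rw [h2]
    exact hy2
  rw [irreducibleSpace_def]
  refine ⟨⟨hWne.some, trivial⟩, ?_⟩
  show IsPreirreducible (Set.univ : Set ↥(pullback ν g))
  rw [← hWdense.closure_eq]
  exact hWpre.closure

end Groth.Agent.Lib.NormBC
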