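import Mathlib
import Groth.Prelude
import Groth.Agent.Lib.NormBC1_helper9
import Groth.Agent.Lib.NormFieldFT_helper4
import Groth.Agent.Lib.GenusZero2_helper9
import Groth.Agent.Lib.H0Comp1_helper9
import Groth.Agent.Lib.EtaleReduced_helper7

/-!
# The smooth normalization of the reduction of a base change of a geometrically irreducible
curve has `H⁰ = K` (helper9, S12235).  APPEND-ONLY once landed.
-/

set_option autoImplicit false
universe u
open CategoryTheory CategoryTheory.Limits AlgebraicGeometry Opposite TopologicalSpace

namespace Groth.Agent.Lib.NormBC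

/-- the reduction of a scheme is surjective onto it -/
instance surjective_nilradical_subschemeι (T : Scheme.{u}) :
    Surjective T.nilradical.subschemeι := by
  refine ⟨fun x => ?_⟩
  have h := T.nilradical.range_subschemeι
  rw [T.support_nilradical] at h
  have hx : x ∈ Set.range T.nilradical.subschemeι := by rw [h]; trivial
  exact hx

/-- base change of the reduction of a geometrically irreducible scheme over a field is
irreducible -/
theorem irreducibleSpace_bc_red (K : Type u) [Field K] (T : Scheme.{u})
    (π : T ⟶ Spec (CommRingCat.of K)) [GeometricallyIrreducible π]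
    (L : Type u) [Field L] [Algebra K L] :
    IrreducibleSpace ↥(pullback (T.nilradical.subschemeι ≫ π)
      (Spec.map (CommRingCat.ofHom (algebraMap K L)))) := by
  haveI h1 : IrreducibleSpace ↥(pullback π (Spec.map (CommRingCat.ofHom (algebraMap K L)))) :=
    pullback_of_geometrically
      (GeometricallyIrreducible.geometrically_irreducibleSpace (f := π)) L
      (Spec.map (CommRingCat.ofHom (algebraMap K L)))
  rw [← (pullbackRightPullbackFstIso π (Spec.map (CommRingCat.ofHom (algebraMap K L)))
    T.nilradical.subschemeι).hom.homeomorph.irreducibleSpace_iff]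
  have hemb := (pullback.snd T.nilradical.subschemeι
    (pullback.fst π (Spec.map (CommRingCat.ofHom (algebraMap K L))))).isClosedEmbedding
  exact (hemb.isEmbedding.toHomeomorphOfSurjective
    (pullback.snd T.nilradical.subschemeι
      (pullback.fst π (Spec.map (CommRingCat.ofHom (algebraMap K L))))).surjective).irreducibleSpace_iff.mpr
    h1

/-- the general statement: `T` geometrically irreducible and proper over `K`, the normalization of
`T_red` smooth over `K`; then its global functions are `K` -/
theorem finrank_HH0_normalization_red (K : Type u) [Field K] (T : Scheme.{u})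
    (π : T ⟶ Spec (CommRingCat.of K)) [GeometricallyIrreducible π] [IsProper π]
    [IsIntegral T.nilradical.subscheme]
    [QuasiCompact (T.nilradical.subscheme.fromSpecStalk (genericPoint T.nilradical.subscheme))]
    [QuasiSeparated (T.nilradical.subscheme.fromSpecStalk (genericPoint T.nilradical.subscheme))]
    (hsm : Smooth (Curv2.normalizationι T.nilradical.subscheme ≫ T.nilradical.subschemeι ≫ π)) :
    letI : (Curv2.normalization T.nilradical.subscheme).Over (Spec (CommRingCat.of K)) :=
      ⟨Curv2.normalizationι T.nilradical.subscheme ≫ T.nilradical.subschemeι ≫ π⟩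
    Module.finrank K (Coh.HH (Curv2.normalization T.nilradical.subscheme)
      (Coh.structureModule (Curv2.normalization T.nilradical.subscheme)) 0) = 1 := by
  letI instY : (Curv2.normalization T.nilradical.subscheme).Over (Spec (CommRingCat.of K)) :=
    ⟨Curv2.normalizationι T.nilradical.subscheme ≫ T.nilradical.subschemeι ≫ π⟩
  letI instZ : T.nilradical.subscheme.Over (Spec (CommRingCat.of K)) :=
    ⟨T.nilradical.subschemeι ≫ π⟩
  haveI : LocallyOfFiniteType (T.nilradical.subscheme ↘ Spec (CommRingCat.of K)) :=
    inferInstanceAs (LocallyOfFiniteType (T.nilradical.subschemeι ≫ π))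
  obtain ⟨hfin, hdom, ⟨V, hVne, hVI⟩, hInt, hnorm⟩ :=
    Groth.Agent.Lib.NormFieldFTH4.main1585 K T.nilradical.subscheme
  haveI := hfin
  haveI := hInt
  haveI := hVI
  haveI : IsProper (Curv2.normalization T.nilradical.subscheme ↘ Spec (CommRingCat.of K)) :=
    inferInstanceAs (IsProper (Curv2.normalizationι T.nilradical.subscheme ≫
      T.nilradical.subschemeι ≫ π))
  haveI : Smooth (Curv2.normalization T.nilradical.subscheme ↘ Spec (CommRingCat.of K)) := hsm
  have h1 := GZ9.finrank_HH_structure_bc K (Curv2.normalization T.nilradical.subscheme)
    (AlgebraicClosure K) 0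
  rw [← h1]
  letI : (Curv2.bc K (Curv2.normalization T.nilradical.subscheme) (AlgebraicClosure K)).Over
      (Spec (CommRingCat.of (AlgebraicClosure K))) :=
    ⟨Curv2.bcSnd K (Curv2.normalization T.nilradical.subscheme) (AlgebraicClosure K)⟩
  haveI : IsProper (Curv2.bc K (Curv2.normalization T.nilradical.subscheme) (AlgebraicClosure K) ↘
      Spec (CommRingCat.of (AlgebraicClosure K))) :=
    inferInstanceAs (IsProper (pullback.snd
      (Curv2.normalization T.nilradical.subscheme ↘ Spec (CommRingCat.of K))
      (Spec.map (CommRingCat.ofHom (algebraMap K (AlgebraicClosure K))))))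
  haveI : Smooth (Curv2.bcSnd K (Curv2.normalization T.nilradical.subscheme)
      (AlgebraicClosure K)) :=
    inferInstanceAs (Smooth (pullback.snd
      (Curv2.normalization T.nilradical.subscheme ↘ Spec (CommRingCat.of K))
      (Spec.map (CommRingCat.ofHom (algebraMap K (AlgebraicClosure K))))))
  haveI : IsReduced (Curv2.bc K (Curv2.normalization T.nilradical.subscheme)
      (AlgebraicClosure K)) :=
    Groth.Agent.Lib.EtaleReduced_helper7.isReduced_of_smooth_scheme
      (Curv2.bcSnd K (Curv2.normalization T.nilradical.subscheme) (AlgebraicClosure K))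
  haveI hirr : IrreducibleSpace ↥(Curv2.bc K (Curv2.normalization T.nilradical.subscheme)
      (AlgebraicClosure K)) := by
    haveI := irreducibleSpace_bc_red K T π (AlgebraicClosure K)
    haveI : IrreducibleSpace ↥(Curv2.normalization T.nilradical.subscheme) := inferInstance
    have h2 := irreducibleSpace_pullback (Curv2.normalizationι T.nilradical.subscheme)
      (pullback.fst (T.nilradical.subschemeι ≫ π)
        (Spec.map (CommRingCat.ofHom (algebraMap K (AlgebraicClosure K))))) V hVne
    exact ((pullbackRightPullbackFstIso (T.nilradical.subschemeι ≫ π)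
      (Spec.map (CommRingCat.ofHom (algebraMap K (AlgebraicClosure K))))
      (Curv2.normalizationι T.nilradical.subscheme)).hom.homeomorph.irreducibleSpace_iff).mp h2
  haveI : Finite (_root_.ConnectedComponents ↥(Curv2.bc K
      (Curv2.normalization T.nilradical.subscheme) (AlgebraicClosure K))) := Finite.of_subsingleton
  rw [H0Comp.finrank_HH0 (AlgebraicClosure K)
    (Curv2.bc K (Curv2.normalization T.nilradical.subscheme) (AlgebraicClosure K))]
  exact Nat.card_unique

end Groth.Agent.Lib.NormBC
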