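import Mathlib
import Groth.Prelude
import Groth.Agent.Lib.NormBC2_helper9
import Groth.Agent.Lib.NormUniv_helper4
import Groth.Agent.Lib.DiscDeg5_helper9

/-!
# The smooth normalization commutes with field extensions (helper9, S12240).
APPEND-ONLY once landed.
-/

set_option autoImplicit false
universe u
open CategoryTheory CategoryTheory.Limits AlgebraicGeometry Opposite TopologicalSpace

namespace Groth.Agent.Lib.NormBC

/-- in an irreducible (sober) space a point whose closure is an irreducible component is the
generic point -/
theorem eq_genericPoint_of_closure_mem {Z : Type*} [TopologicalSpace Z] [QuasiSober Z]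
    [IrreducibleSpace Z] [T0Space Z] (z : Z) (hz : closure {z} ∈ irreducibleComponents Z) :
    z = genericPoint Z := by
  rw [irreducibleComponents_eq_singleton] at hz
  have h : closure {z} = Set.univ := hz
  have h1 : IsGenericPoint z Set.univ := h
  exact h1.eq (genericPoint_spec Z)

/-- a dominant morphism of irreducible schemes maps the generic point to the generic point -/
theorem map_genericPoint {Y X : Scheme.{u}} [IrreducibleSpace Y] [IrreducibleSpace X]
    (f : Y ⟶ X) [IsDominant f] : f (genericPoint Y) = genericPoint X := by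
  have h1 := (genericPoint_spec Y).image f.continuous
  have h2 : closure (f '' (Set.univ : Set Y)) = Set.univ := by
    rw [Set.image_univ]
    exact f.denseRange.closure_range
  rw [h2] at h1
  exact h1.eq (genericPoint_spec X)

/-- the dominance condition of the universal property of the normalization, for an irreducible
source and a dominant morphism -/
theorem hdom_of_isDominant {Y X : Scheme.{u}} [IrreducibleSpace Y] [IrreducibleSpace X]
    (f : Y ⟶ X) [IsDominant f] :
    ∀ z : Y, closure {z} ∈ irreducibleComponents ↥Y → f z = genericPoint ↥X := by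
  intro z hz
  rw [eq_genericPoint_of_closure_mem z hz]
  exact map_genericPoint f

/-- the nilradical is contained in the kernel of every morphism from a reduced scheme -/
theorem nilradical_le_ker {P T : Scheme.{u}} [IsReduced P] (m : P ⟶ T) :
    T.nilradical ≤ m.ker := by
  have h1 : m.ker = (Scheme.IdealSheafData.vanishingIdeal ⊤).map m := by
    rw [Scheme.IdealSheafData.vanishingIdeal_top, Scheme.nilradical_eq_bot,
      Scheme.IdealSheafData.map_bot]
  rw [h1, Scheme.IdealSheafData.map_vanishingIdeal, ← Scheme.IdealSheafData.vanishingIdeal_top]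
  exact Scheme.IdealSheafData.vanishingIdeal_antimono le_top

/-- a morphism from a reduced scheme factors through the reduction -/
theorem exists_lift_red {P T : Scheme.{u}} [IsReduced P] (m : P ⟶ T) :
    ∃ g : P ⟶ T.nilradical.subscheme, g ≫ T.nilradical.subschemeι = m := by
  have hker : T.nilradical.subschemeι.ker ≤ m.ker := by
    rw [Scheme.IdealSheafData.ker_subschemeι]
    exact nilradical_le_ker m
  exact ⟨IsClosedImmersion.lift T.nilradical.subschemeι m hker,
    IsClosedImmersion.lift_fac _ _ _⟩

section Main

variable (K : Type u) [Field K] (X : Scheme.{u}) (f : X ⟶ Spec (CommRingCat.of K))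
    [IsIntegral X] [QuasiCompact (X.fromSpecStalk (genericPoint X))]
    [QuasiSeparated (X.fromSpecStalk (genericPoint X))]
    (Ω : Type u) [Field Ω] (gΩ : Spec (CommRingCat.of Ω) ⟶ Spec (CommRingCat.of K))

/-- the base change of the normalization map, as a composite -/
theorem map_eq :
    pullback.map (Curv2.normalizationι X ≫ f) gΩ f gΩ (Curv2.normalizationι X) (𝟙 _) (𝟙 _)
        (Category.comp_id _) ((Category.comp_id _).trans (Category.id_comp _).symm) =
      (pullbackRightPullbackFstIso f gΩ (Curv2.normalizationι X)).inv ≫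
        pullback.snd (Curv2.normalizationι X) (pullback.fst f gΩ) := by
  apply pullback.hom_ext
  · rw [pullback.lift_fst, Category.assoc, pullback.condition.symm,
      pullbackRightPullbackFstIso_inv_fst_assoc]
  · rw [pullback.lift_snd, Category.assoc, pullbackRightPullbackFstIso_inv_snd_snd,
      Category.comp_id]

/-- S12240, general form -/
theorem main12240 [LocallyOfFiniteType f] [GeometricallyIrreducible f]
    (hsm : Smooth (Curv2.normalizationι X ≫ f))
    [IsIntegral (pullback f gΩ).nilradical.subscheme]
    [QuasiCompact ((pullback f gΩ).nilradical.subscheme.fromSpecStalk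
      (genericPoint (pullback f gΩ).nilradical.subscheme))]
    [QuasiSeparated ((pullback f gΩ).nilradical.subscheme.fromSpecStalk
      (genericPoint (pullback f gΩ).nilradical.subscheme))] :
    ∃ e : pullback (Curv2.normalizationι X ≫ f) gΩ ≅
        Curv2.normalization (pullback f gΩ).nilradical.subscheme,
      e.hom ≫ Curv2.normalizationι (pullback f gΩ).nilradical.subscheme ≫
          (pullback f gΩ).nilradical.subschemeι =
        pullback.map (Curv2.normalizationι X ≫ f) gΩ f gΩ (Curv2.normalizationι X) (𝟙 _) (𝟙 _)
          (Category.comp_id _) ((Category.comp_id _).trans (Category.id_comp _).symm) := by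
  letI instX : X.Over (Spec (CommRingCat.of K)) := ⟨f⟩
  haveI : LocallyOfFiniteType (X ↘ Spec (CommRingCat.of K)) :=
    inferInstanceAs (LocallyOfFiniteType f)
  obtain ⟨hfin, hdom, ⟨V, hVne, hVI⟩, hInt, hnorm⟩ := Groth.Agent.Lib.NormFieldFTH4.main1585 K X
  haveI := hfin
  haveI := hdom
  haveI := hInt
  haveI := hVI
  haveI := hsm
  -- the reduction of the base change, over `Ω`
  letI instZ : (pullback f gΩ).nilradical.subscheme.Over (Spec (CommRingCat.of Ω)) :=
    ⟨(pullback f gΩ).nilradical.subschemeι ≫ pullback.snd f gΩ⟩
  haveI : LocallyOfFiniteType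
      ((pullback f gΩ).nilradical.subscheme ↘ Spec (CommRingCat.of Ω)) :=
    inferInstanceAs (LocallyOfFiniteType
      ((pullback f gΩ).nilradical.subschemeι ≫ pullback.snd f gΩ))
  obtain ⟨hfinZ, hdomZ, -, hIntZ, hnormZ⟩ :=
    Groth.Agent.Lib.NormFieldFTH4.main1585 Ω (pullback f gΩ).nilradical.subscheme
  haveI := hfinZ
  haveI := hdomZ
  haveI := hIntZ
  -- `ν` is surjective
  haveI hνs : Surjective (Curv2.normalizationι X) :=
    surjective_of_isDominant_of_isClosed_range _
      (Curv2.normalizationι X).isClosedMap.isClosed_range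
  -- properties of `P`
  have hPn : Pi1.IsNormalScheme (pullback (Curv2.normalizationι X ≫ f) gΩ) :=
    DiscDeg.isNormalScheme_of_smooth Ω (pullback.snd (Curv2.normalizationι X ≫ f) gΩ)
  haveI hPr : IsReduced (pullback (Curv2.normalizationι X ≫ f) gΩ) :=
    Groth.Agent.Lib.EtaleReduced_helper7.isReduced_of_smooth_scheme
      (pullback.snd (Curv2.normalizationι X ≫ f) gΩ)
  haveI hTi : IrreducibleSpace ↥(pullback f gΩ) :=
    pullback_of_geometrically
      (GeometricallyIrreducible.geometrically_irreducibleSpace (f := f)) Ω gΩ
  haveI hPi : IrreducibleSpace ↥(pullback (Curv2.normalizationι X ≫ f) gΩ) := by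
    haveI : IrreducibleSpace ↥(Curv2.normalization X) := inferInstance
    have h2 := irreducibleSpace_pullback (Curv2.normalizationι X) (pullback.fst f gΩ) V hVne
    exact ((pullbackRightPullbackFstIso f gΩ
      (Curv2.normalizationι X)).hom.homeomorph.irreducibleSpace_iff).mp h2
  -- the map `m` and its lift `g`
  have hm := map_eq K X f Ω gΩ
  obtain ⟨m, hm0⟩ : ∃ m, m = pullback.map (Curv2.normalizationι X ≫ f) gΩ f gΩ
      (Curv2.normalizationι X) (𝟙 _) (𝟙 _)
      (Category.comp_id _) ((Category.comp_id _).trans (Category.id_comp _).symm) := ⟨_, rfl⟩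
  rw [← hm0] at hm ⊢
  have hm1 : m ≫ pullback.fst f gΩ =
      pullback.fst (Curv2.normalizationι X ≫ f) gΩ ≫ Curv2.normalizationι X := by
    rw [hm0, pullback.lift_fst]
  have hm2 : m ≫ pullback.snd f gΩ = pullback.snd (Curv2.normalizationι X ≫ f) gΩ := by
    rw [hm0, pullback.lift_snd, Category.comp_id]
  haveI hms : Surjective m := by
    rw [hm]; infer_instance
  obtain ⟨g, hg⟩ := exists_lift_red m
  haveI hgs : Surjective g := by
    refine ⟨fun z => ?_⟩
    obtain ⟨p, hp⟩ := m.surjective ((pullback f gΩ).nilradical.subschemeι z)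
    refine ⟨p, ?_⟩
    apply (pullback f gΩ).nilradical.subschemeι.isClosedEmbedding.injective
    rw [← hp, ← hg]
    rfl
  -- the lifts
  obtain ⟨h, hh, -⟩ := Groth.Agent.Lib.NormUnivH4.main9690
    (pullback f gΩ).nilradical.subscheme g hPn (hdom_of_isDominant g)
  obtain ⟨b, hb, -⟩ := Groth.Agent.Lib.NormUnivH4.main9690 X
    (Curv2.normalizationι (pullback f gΩ).nilradical.subscheme ≫
      (pullback f gΩ).nilradical.subschemeι ≫ pullback.fst f gΩ) hnormZ
    (hdom_of_isDominant _)
  have hcond : b ≫ Curv2.normalizationι X ≫ f =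
      (Curv2.normalizationι (pullback f gΩ).nilradical.subscheme ≫
        (pullback f gΩ).nilradical.subschemeι ≫ pullback.snd f gΩ) ≫ gΩ := by
    rw [← Category.assoc, hb]
    simp only [Category.assoc, pullback.condition]
  -- uniqueness statements
  have huX : ∀ y₁ y₂ : pullback (Curv2.normalizationι X ≫ f) gΩ ⟶ Curv2.normalization X,
      y₁ ≫ Curv2.normalizationι X =
        pullback.fst (Curv2.normalizationι X ≫ f) gΩ ≫ Curv2.normalizationι X →
      y₂ ≫ Curv2.normalizationι X =
        pullback.fst (Curv2.normalizationι X ≫ f) gΩ ≫ Curv2.normalizationι X → y₁ = y₂ :=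
    fun y₁ y₂ h1 h2 => (Groth.Agent.Lib.NormUnivH4.main9690 X
      (pullback.fst (Curv2.normalizationι X ≫ f) gΩ ≫ Curv2.normalizationι X) hPn
      (hdom_of_isDominant _)).unique h1 h2
  have huZ : ∀ y₁ y₂ : Curv2.normalization (pullback f gΩ).nilradical.subscheme ⟶
        Curv2.normalization (pullback f gΩ).nilradical.subscheme,
      y₁ ≫ Curv2.normalizationι (pullback f gΩ).nilradical.subscheme =
        Curv2.normalizationι (pullback f gΩ).nilradical.subscheme →
      y₂ ≫ Curv2.normalizationι (pullback f gΩ).nilradical.subscheme =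
        Curv2.normalizationι (pullback f gΩ).nilradical.subscheme → y₁ = y₂ :=
    fun y₁ y₂ h1 h2 => (Groth.Agent.Lib.NormUnivH4.main9690
      (pullback f gΩ).nilradical.subscheme
      (Curv2.normalizationι (pullback f gΩ).nilradical.subscheme) hnormZ
      (hdom_of_isDominant _)).unique h1 h2
  have hh'm : pullback.lift b (Curv2.normalizationι (pullback f gΩ).nilradical.subscheme ≫
        (pullback f gΩ).nilradical.subschemeι ≫ pullback.snd f gΩ) hcond ≫ m =
      Curv2.normalizationι (pullback f gΩ).nilradical.subscheme ≫
        (pullback f gΩ).nilradical.subschemeι := by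
    apply pullback.hom_ext
    · rw [Category.assoc, hm1, pullback.lift_fst_assoc, hb, Category.assoc]
    · rw [Category.assoc, hm2, pullback.lift_snd, Category.assoc]
  refine ⟨⟨h, pullback.lift b (Curv2.normalizationι (pullback f gΩ).nilradical.subscheme ≫
      (pullback f gΩ).nilradical.subschemeι ≫ pullback.snd f gΩ) hcond, ?_, ?_⟩, ?_⟩
  · apply pullback.hom_ext
    · rw [Category.assoc, pullback.lift_fst, Category.id_comp]
      refine huX _ _ ?_ rfl
      rw [Category.assoc, hb, ← Category.assoc, hh, ← Category.assoc, hg, hm1]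
    · rw [Category.assoc, pullback.lift_snd, Category.id_comp, ← Category.assoc, hh,
        ← Category.assoc, hg, hm2]
  · refine huZ _ _ ?_ (Category.id_comp _)
    rw [← cancel_mono (pullback f gΩ).nilradical.subschemeι, Category.assoc, Category.assoc,
      reassoc_of% hh, hg, hh'm]
  · show h ≫ _ = m
    rw [← Category.assoc, hh, hg]

end Main

end Groth.Agent.Lib.NormBC
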