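import Mathlib
import Groth.Prelude.Def_W4c5normfunctorschNorm

/-!
# The algebra map attached to the norm law commutes with base change (helper1)
-/

set_option autoImplicit false
universe u
open scoped TensorProduct

namespace Groth.Agent.Lib.NormBCH1

section bc

variable {R : Type u} [CommRing R] {Q : Type u} [CommRing Q] [Algebra R Q]
  {X : Type u} [AddCommGroup X] [Module R X]
  {Y : Type u} [AddCommGroup Y] [Module R Y] [Module Q Y] [IsScalarTower R Q Y]

theorem bcAlong_tmul (g : X →ₗ[R] Y) (P : Type u) [CommRing P] [Algebra R P] [Algebra Q P]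
    [IsScalarTower R Q P] (p : P) (x : X) :
    PolLaw.bcAlong g P (p ⊗ₜ[R] x) = p ⊗ₜ[Q] g x := by
  unfold PolLaw.bcAlong
  simp [TensorProduct.AlgebraTensorModule.cancelBaseChange_symm_tmul, LinearMap.liftBaseChange_tmul]

theorem lTensor_bcAlong {Z : Type u} [AddCommGroup Z] [Module R Z] [Module Q Z] [IsScalarTower R Q Z]
    (g : X →ₗ[R] Y) (h : Y →ₗ[Q] Z) (P : Type u) [CommRing P] [Algebra R P] [Algebra Q P]
    [IsScalarTower R Q P] (z : P ⊗[R] X) :
    h.lTensor P (PolLaw.bcAlong g P z) = PolLaw.bcAlong ((h.restrictScalars R).comp g) P z := by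
  induction z using TensorProduct.induction_on with
  | zero => simp
  | tmul p x => simp [bcAlong_tmul]
  | add a b ha hb => simp only [map_add, ha, hb]

variable (S : Type u) [CommRing S] [Algebra R S]

/-- `(Q ⊗ S) ⊗[Q] Q → S ⊗[R] Q`. -/
noncomputable def Phi (w : (Q ⊗[R] S) ⊗[Q] Q) : S ⊗[R] Q :=
  TensorProduct.comm R Q S (TensorProduct.rid Q (Q ⊗[R] S) w)

theorem Phi_add (w w' : (Q ⊗[R] S) ⊗[Q] Q) : Phi S (w + w') = Phi S w + Phi S w' := by
  simp [Phi]

theorem Phi_zero : Phi (R := R) (Q := Q) S 0 = 0 := by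
  simp [Phi]

theorem Phi_tmul (q : Q) (s : S) (q' : Q) :
    Phi S ((q ⊗ₜ[R] s) ⊗ₜ[Q] q') = s ⊗ₜ[R] (q' * q) := by
  simp [Phi, TensorProduct.smul_tmul']

theorem Phi_bcAlong {C : Type u} [AddCommGroup C] [Module R C] (g : C →ₗ[R] Q) (y : S ⊗[R] C) :
    Phi S (PolLaw.bcAlong g (Q ⊗[R] S)
      ((Algebra.TensorProduct.includeRight : S →ₐ[R] Q ⊗[R] S).toLinearMap.rTensor C y)) =
      g.lTensor S y := by
  induction y using TensorProduct.induction_on with
  | zero => simp [Phi_zero]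
  | tmul s c =>
    rw [LinearMap.rTensor_tmul, bcAlong_tmul]
    simp [Phi_tmul]
  | add a b ha hb => simp only [map_add, Phi_add, ha, hb]

end bc

section E

variable (R R' Q Q' : Type u) [CommRing R] [CommRing R'] [Algebra R R']
    [CommRing Q] [Algebra R Q] [CommRing Q'] [Algebra R Q'] [Algebra Q Q'] [Algebra R' Q']
    [IsScalarTower R Q Q'] [IsScalarTower R R' Q'] [Algebra.IsPushout R Q R' Q']
    (P : Type u) [CommRing P] [Algebra R P] [Algebra Q P] [IsScalarTower R Q P]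

/-- The comparison isomorphism `P ⊗[R] R' ≃ P ⊗[Q] Q'`. -/
noncomputable def E : P ⊗[R] R' ≃ₐ[P] P ⊗[Q] Q' :=
  (Algebra.TensorProduct.cancelBaseChange R Q P P R').symm.trans
    (Algebra.TensorProduct.congr AlgEquiv.refl (Algebra.IsPushout.equiv R Q R' Q'))

theorem E_tmul (p : P) (r : R') : E R R' Q Q' P (p ⊗ₜ[R] r) = p ⊗ₜ[Q] algebraMap R' Q' r := by
  simp [E, Algebra.IsPushout.equiv_tmul]

theorem bcAlong_eq_E (z : P ⊗[R] R') :
    PolLaw.bcAlong (IsScalarTower.toAlgHom R R' Q').toLinearMap P z = E R R' Q Q' P z := by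
  induction z using TensorProduct.induction_on with
  | zero => simp
  | tmul p x => rw [bcAlong_tmul, E_tmul]; rfl
  | add a b ha hb => simp only [map_add, ha, hb]

end E

section main

variable {R R' Q Q' : Type u} [CommRing R] [CommRing R'] [Algebra R R']
    [CommRing Q] [Algebra R Q] [CommRing Q'] [Algebra R Q'] [Algebra Q Q'] [Algebra R' Q']
    [IsScalarTower R Q Q'] [IsScalarTower R R' Q'] [Algebra.IsPushout R R' Q Q']
    [Module.Free R R'] [Module.Finite R R'] [Module.Free Q Q'] [Module.Finite Q Q']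

theorem key_ring (d : ℕ) (hd : Module.finrank R R' = d) (hd' : Module.finrank Q Q' = d)
    {C : Type u} [CommRing C] [Algebra R C] (γ : PolLaw.MulLaw R R' C d)
    (π : C →ₐ[R] R) (hπ : PolLaw.MulLaw.postcomp π γ = PolLaw.normLaw R R' d hd)
    {C' : Type u} [CommRing C'] [Algebra R C'] [Algebra Q C'] [IsScalarTower R Q C']
    (γ' : PolLaw.MulLaw Q Q' C' d)
    (π' : C' →ₐ[Q] Q) (hπ' : PolLaw.MulLaw.postcomp π' γ' = PolLaw.normLaw Q Q' d hd')
    (θ : C →ₐ[R] C')
    (hθ : ∀ (P : Type u) [CommRing P] [Algebra R P] [Algebra Q P] [IsScalarTower R Q P] (z : P ⊗[R] R'),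
      γ'.law.toFun' P (PolLaw.bcAlong (IsScalarTower.toAlgHom R R' Q').toLinearMap P z) =
        PolLaw.bcAlong θ.toLinearMap P (γ.law.toFun' P z))
    (S : Type u) [CommRing S] [Algebra R S] (x : S ⊗[R] R') :
    ((π'.restrictScalars R).comp θ).toLinearMap.lTensor S (γ.law.toFun' S x) =
      ((Algebra.ofId R Q).comp π).toLinearMap.lTensor S (γ.law.toFun' S x) := by
  haveI : Algebra.IsPushout R Q R' Q' := Algebra.IsPushout.symm inferInstance
  -- the right-hand side
  have hR : ((Algebra.ofId R Q).comp π).toLinearMap.lTensor S (γ.law.toFun' S x) =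
      Algebra.norm S x ⊗ₜ[R] (1 : Q) := by
    have h1 : π.toLinearMap.lTensor S (γ.law.toFun' S x) = Algebra.norm S x ⊗ₜ[R] (1 : R) := by
      have h2 : (PolLaw.MulLaw.postcomp π γ).law.toFun' S x =
          (PolLaw.normLaw R R' d hd).law.toFun' S x := by rw [hπ]
      rw [PolLaw.normLaw_apply] at h2
      exact h2
    have h3 : ((Algebra.ofId R Q).comp π).toLinearMap =
        (Algebra.ofId R Q).toLinearMap ∘ₗ π.toLinearMap := rfl
    rw [h3, LinearMap.lTensor_comp, LinearMap.comp_apply, h1, LinearMap.lTensor_tmul]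
    simp
  rw [hR]
  -- the left-hand side
  set ι : S →ₐ[R] Q ⊗[R] S := Algebra.TensorProduct.includeRight with hι
  set z : (Q ⊗[R] S) ⊗[R] R' := ι.toLinearMap.rTensor R' x with hz
  have hcompat : ι.toLinearMap.rTensor C (γ.law.toFun' S x) = γ.law.toFun' (Q ⊗[R] S) z := by
    rw [hz, PolynomialLaw.isCompat_apply']
  have hnorm : Algebra.norm (Q ⊗[R] S) z = ι (Algebra.norm S x) := by
    have h1 := PolLaw.detAct_map (A := R) (B := R') R' ι x
    rw [PolLaw.detAct_self, PolLaw.detAct_self, ← PolLaw.rTensor_algHom_apply] at h1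
    exact h1
  have hL := Phi_bcAlong (R := R) (Q := Q) S ((π'.restrictScalars R).comp θ).toLinearMap
    (γ.law.toFun' S x)
  rw [← hL, hcompat]
  have h4 : ((π'.restrictScalars R).comp θ).toLinearMap =
      (π'.toLinearMap.restrictScalars R).comp θ.toLinearMap := rfl
  rw [h4, ← lTensor_bcAlong (Q := Q) θ.toLinearMap π'.toLinearMap (Q ⊗[R] S), ← hθ (Q ⊗[R] S) z]
  have h5 : π'.toLinearMap.lTensor (Q ⊗[R] S) (γ'.law.toFun' (Q ⊗[R] S)
      (PolLaw.bcAlong (IsScalarTower.toAlgHom R R' Q').toLinearMap (Q ⊗[R] S) z)) =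
      Algebra.norm (Q ⊗[R] S) (PolLaw.bcAlong (Q := Q) (IsScalarTower.toAlgHom R R' Q').toLinearMap (Q ⊗[R] S) z)
        ⊗ₜ[Q] (1 : Q) := by
    have h6 : (PolLaw.MulLaw.postcomp π' γ').law.toFun' (Q ⊗[R] S)
        (PolLaw.bcAlong (IsScalarTower.toAlgHom R R' Q').toLinearMap (Q ⊗[R] S) z) =
        (PolLaw.normLaw Q Q' d hd').law.toFun' (Q ⊗[R] S)
        (PolLaw.bcAlong (IsScalarTower.toAlgHom R R' Q').toLinearMap (Q ⊗[R] S) z) := by rw [hπ']
    rw [PolLaw.normLaw_apply] at h6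
    exact h6
  rw [h5, bcAlong_eq_E, Algebra.norm_eq_of_algEquiv, hnorm, hι]
  rw [Algebra.TensorProduct.includeRight_apply, Phi_tmul]
  simp

theorem main17914 (d : ℕ) (hd : Module.finrank R R' = d) (hd' : Module.finrank Q Q' = d)
    {C : Type u} [CommRing C] [Algebra R C] (γ : PolLaw.MulLaw R R' C d) (hγ : PolLaw.IsGammaD γ)
    (π : C →ₐ[R] R) (hπ : PolLaw.MulLaw.postcomp π γ = PolLaw.normLaw R R' d hd)
    {C' : Type u} [CommRing C'] [Algebra R C'] [Algebra Q C'] [IsScalarTower R Q C']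
    (γ' : PolLaw.MulLaw Q Q' C' d)
    (π' : C' →ₐ[Q] Q) (hπ' : PolLaw.MulLaw.postcomp π' γ' = PolLaw.normLaw Q Q' d hd')
    (θ : C →ₐ[R] C')
    (hθ : ∀ (P : Type u) [CommRing P] [Algebra R P] [Algebra Q P] [IsScalarTower R Q P] (z : P ⊗[R] R'),
      γ'.law.toFun' P (PolLaw.bcAlong (IsScalarTower.toAlgHom R R' Q').toLinearMap P z) =
        PolLaw.bcAlong θ.toLinearMap P (γ.law.toFun' P z)) :
    ∀ c : C, π' (θ c) = algebraMap R Q (π c) := by
  have key : PolLaw.postcomp ((π'.restrictScalars R).comp θ).toLinearMap γ.law =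
      PolLaw.postcomp ((Algebra.ofId R Q).comp π).toLinearMap γ.law := by
    apply PolynomialLaw.ext
    funext S _ _ x0
    obtain ⟨n, ψ, p, rfl⟩ := PolynomialLaw.exists_lift (R := R) (M := R') x0
    rw [← PolynomialLaw.isCompat_apply', ← PolynomialLaw.isCompat_apply']
    congr 1
    exact key_ring d hd hd' γ π hπ γ' π' hπ' θ hθ (MvPolynomial (Fin n) R) p
  have h1 := (hγ Q (PolLaw.MulLaw.postcomp ((Algebra.ofId R Q).comp π) γ)).unique
    (y₁ := (π'.restrictScalars R).comp θ) key rfl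
  intro c
  have h2 := congrArg (fun f : C →ₐ[R] Q => f c) h1
  simpa using h2

end main

end Groth.Agent.Lib.NormBCH1
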