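import Mathlib
import Groth.Agent.Lib.McCoy_lead

/-!
# Norms on `L ⊗[k] R` over `K ⊗[k] R` (helper3)

For a finite free extension `K → L` with basis `b`, `L ⊗[k] R` is free over `K ⊗[k] R` with basis
`b i ⊗ 1`; the norm of an element of `B ⊗[k] R` (`B` the integral closure of an integrally closed
domain `A` with fraction field `K`) lies in `A ⊗[k] R`, and regularity is detected by the norm.
-/

namespace Groth.Agent.Lib.NormBCH3

open scoped TensorProduct
open Polynomial

universe u

section LemmaA

/-- The determinant of a matrix over an algebraically closed field which is integral over `R₀`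
(as an element of the matrix algebra) is integral over `R₀`. -/
theorem isIntegral_det_of_isAlgClosed {R₀ F ι : Type*} [CommRing R₀] [Field F] [IsAlgClosed F]
    [Algebra R₀ F] [Fintype ι] [DecidableEq ι] (G : Matrix ι ι F) (hG : IsIntegral R₀ G) :
    IsIntegral R₀ G.det := by
  obtain ⟨q, hqm, hq⟩ := hG
  rw [Matrix.det_eq_prod_roots_charpoly]
  refine IsIntegral.multiset_prod ?_
  intro μ hμ
  refine ⟨q, hqm, ?_⟩
  have hroot : G.charpoly.IsRoot μ := Polynomial.isRoot_of_mem_roots hμ
  have h1 : Module.End.HasEigenvalue (Matrix.toLin' G) μ := by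
    rw [Module.End.hasEigenvalue_iff_isRoot_charpoly, Matrix.charpoly_toLin']
    exact hroot
  have h2 : (minpoly F G).IsRoot μ := by
    have := (Module.End.hasEigenvalue_iff_isRoot).1 h1
    rwa [Matrix.minpoly_toLin'] at this
  have h3 : Polynomial.aeval G (q.map (algebraMap R₀ F)) = 0 := by
    rw [Polynomial.aeval_map_algebraMap]
    exact hq
  have h4 := minpoly.dvd F G h3
  have h5 : (q.map (algebraMap R₀ F)).IsRoot μ := h2.dvd h4
  rw [Polynomial.IsRoot.def, Polynomial.eval_map] at h5
  exact h5

theorem isIntegral_det_of_ringHom {R₀ S₀ F ι : Type*} [CommRing R₀] [CommRing S₀]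
    [Algebra R₀ S₀] [Field F] [IsAlgClosed F] (φ : S₀ →+* F) (hinj : Function.Injective φ)
    [Fintype ι] [DecidableEq ι] (G : Matrix ι ι S₀) (hG : IsIntegral R₀ G) :
    IsIntegral R₀ G.det := by
  letI iSF : Algebra S₀ F := φ.toAlgebra
  letI iRF : Algebra R₀ F := (φ.comp (algebraMap R₀ S₀)).toAlgebra
  haveI : IsScalarTower R₀ S₀ F := IsScalarTower.of_algebraMap_eq (fun _ => rfl)
  have hinj' : Function.Injective (algebraMap S₀ F) := hinj
  have h1 : IsIntegral R₀ ((IsScalarTower.toAlgHom R₀ S₀ F).mapMatrix G) := hG.map _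
  have h2 := isIntegral_det_of_isAlgClosed _ h1
  rw [← AlgHom.map_det] at h2
  exact (isIntegral_algebraMap_iff hinj').1 h2

/-- The determinant of a matrix over a domain `S₀` which is integral over `R₀` (as an element of
the matrix algebra) is integral over `R₀`. -/
theorem isIntegral_det {R₀ S₀ ι : Type*} [CommRing R₀] [CommRing S₀] [IsDomain S₀]
    [Algebra R₀ S₀] [Fintype ι] [DecidableEq ι] (G : Matrix ι ι S₀) (hG : IsIntegral R₀ G) :
    IsIntegral R₀ G.det :=
  isIntegral_det_of_ringHom
    ((algebraMap (FractionRing S₀) (AlgebraicClosure (FractionRing S₀))).comp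
      (algebraMap S₀ (FractionRing S₀)))
    ((algebraMap (FractionRing S₀) (AlgebraicClosure (FractionRing S₀))).injective.comp
      (IsFractionRing.injective S₀ (FractionRing S₀))) G hG

end LemmaA

section LemmaB

variable (k K L R : Type u) [CommRing k] [CommRing K] [CommRing L] [CommRing R]
  [Algebra k K] [Algebra k L] [Algebra K L] [IsScalarTower k K L] [Algebra k R]

/-- The algebra structure of `L ⊗[k] R` over `K ⊗[k] R`. -/
@[reducible] noncomputable def algST : Algebra (K ⊗[k] R) (L ⊗[k] R) :=
  (Algebra.TensorProduct.map (IsScalarTower.toAlgHom k K L) (AlgHom.id k R)).toRingHom.toAlgebra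

attribute [local instance] algST

variable {k K L R}

theorem tmul_smul_tmul (x : K) (r r' : R) (l : L) :
    (x ⊗ₜ[k] r : K ⊗[k] R) • (l ⊗ₜ[k] r' : L ⊗[k] R) = (x • l) ⊗ₜ[k] (r * r') := by
  rw [Algebra.smul_def, RingHom.algebraMap_toAlgebra]
  simp [Algebra.smul_def]

variable {ι : Type*} [Fintype ι] [DecidableEq ι] (b : Module.Basis ι K L)

/-- The `k`-linear equivalence `L ⊗ R ≃ (ι →₀ K ⊗ R)`. -/
noncomputable def eqv : (L ⊗[k] R) ≃ₗ[k] (ι →₀ K ⊗[k] R) :=
  (LinearEquiv.rTensor R (b.repr.restrictScalars k)) ≪≫ₗ TensorProduct.finsuppLeft k k K R ι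

theorem eqv_tmul (l : L) (r : R) (i : ι) :
    eqv (k := k) (R := R) b (l ⊗ₜ r) i = (b.repr l i) ⊗ₜ r := by
  simp [eqv, TensorProduct.finsuppLeft_apply_tmul_apply]

theorem eqv_linearCombination (v : ι →₀ K ⊗[k] R) :
    eqv (k := k) (R := R) b
      (Finsupp.linearCombination (K ⊗[k] R) (fun i => (b i ⊗ₜ[k] (1 : R) : L ⊗[k] R)) v) = v := by
  induction v using Finsupp.induction_linear with
  | zero => simp
  | add f g hf hg => rw [map_add, map_add, hf, hg]
  | single i s =>
    rw [Finsupp.linearCombination_single]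
    induction s using TensorProduct.induction_on with
    | zero => simp
    | add s t hs ht => rw [add_smul, map_add, hs, ht, Finsupp.single_add]
    | tmul x r =>
      rw [tmul_smul_tmul, mul_one]
      ext j
      rw [eqv_tmul]
      simp only [map_smul, Module.Basis.repr_self, Finsupp.smul_single, smul_eq_mul, mul_one]
      by_cases hij : i = j
      · subst hij
        simp
      · simp [Finsupp.single_eq_of_ne (Ne.symm hij), hij]

theorem linearCombination_eqv (t : L ⊗[k] R) :
    Finsupp.linearCombination (K ⊗[k] R) (fun i => (b i ⊗ₜ[k] (1 : R) : L ⊗[k] R))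
      (eqv (k := k) (R := R) b t) = t :=
  (eqv (k := k) (R := R) b).injective (eqv_linearCombination b _)

/-- The basis `b i ⊗ 1` of `L ⊗ R` over `K ⊗ R`. -/
noncomputable def basisST : Module.Basis ι (K ⊗[k] R) (L ⊗[k] R) :=
  Module.Basis.ofRepr (LinearEquiv.ofBijective
    (Finsupp.linearCombination (K ⊗[k] R) (fun i => (b i ⊗ₜ[k] (1 : R) : L ⊗[k] R)))
    ⟨fun v w h => by
      rw [← eqv_linearCombination (k := k) (R := R) b v, h, eqv_linearCombination],
     fun t => ⟨eqv b t, linearCombination_eqv b t⟩⟩).symm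

theorem basisST_apply (i : ι) : basisST (k := k) (R := R) b i = b i ⊗ₜ 1 := by
  simp [basisST]

theorem basisST_repr (t : L ⊗[k] R) :
    (basisST (k := k) (R := R) b).repr t = eqv b t := by
  show (LinearEquiv.ofBijective _ _).symm t = _
  rw [LinearEquiv.symm_apply_eq, LinearEquiv.ofBijective_apply, linearCombination_eqv]

theorem basisST_repr_tmul (l : L) (r : R) (i : ι) :
    (basisST (k := k) (R := R) b).repr (l ⊗ₜ r) i = (b.repr l i) ⊗ₜ r := by
  rw [basisST_repr, eqv_tmul]

theorem leftMulMatrix_tmul (c : L) (r : R) :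
    Algebra.leftMulMatrix (basisST (k := k) (R := R) b) (c ⊗ₜ r) =
      (Algebra.leftMulMatrix b c).map (fun x => (x ⊗ₜ[k] r : K ⊗[k] R)) := by
  ext i j
  rw [Algebra.leftMulMatrix_eq_repr_mul, basisST_apply, Algebra.TensorProduct.tmul_mul_tmul,
    mul_one, basisST_repr_tmul, Matrix.map_apply, Algebra.leftMulMatrix_eq_repr_mul]

end LemmaB

section LemmaC

attribute [local instance] MvPolynomial.algebraMvPolynomial

variable {A K L : Type u} [CommRing A] [Field K] [Algebra A K]
  [CommRing L] [Algebra K L] [Algebra A L] [IsScalarTower A K L]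
  {ι : Type*} [Fintype ι] [DecidableEq ι] (b : Module.Basis ι K L)
  {σ : Type*} [Fintype σ] (c : σ → L)

/-- The generic matrix `∑ j, X j • M (c j)`. -/
noncomputable def genMat : Matrix ι ι (MvPolynomial σ K) :=
  ∑ j, (MvPolynomial.X j : MvPolynomial σ K) • (Algebra.leftMulMatrix b (c j)).map MvPolynomial.C

theorem genMat_isIntegral (hc : ∀ j, IsIntegral A (c j)) :
    IsIntegral (MvPolynomial σ A) (genMat b c) := by
  classical
  let PK := MvPolynomial σ K
  let C := PK ⊗[K] L
  let β' : Module.Basis ι PK C := Algebra.TensorProduct.basis PK b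
  let Ψ : C →+* Matrix ι ι PK := (Algebra.leftMulMatrix β').toRingHom
  let f : MvPolynomial σ A →+* C := (algebraMap PK C).comp (MvPolynomial.map (algebraMap A K))
  let g : C := ∑ j, (MvPolynomial.X j : PK) ⊗ₜ[K] c j
  have hΨf : algebraMap (MvPolynomial σ A) (Matrix ι ι PK) = Ψ.comp f := by
    refine RingHom.ext fun p => ?_
    show _ = Algebra.leftMulMatrix β' (algebraMap PK C (MvPolynomial.map (algebraMap A K) p))
    rw [AlgHom.commutes, IsScalarTower.algebraMap_apply (MvPolynomial σ A) PK (Matrix ι ι PK)]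
    rfl
  have hg : f.IsIntegralElem g := by
    have hterm : ∀ j, f.IsIntegralElem ((MvPolynomial.X j : PK) ⊗ₜ[K] c j) := by
      intro j
      have h1 : ((MvPolynomial.X j : PK) ⊗ₜ[K] c j : C) =
          f (MvPolynomial.X j) * ((1 : PK) ⊗ₜ[K] c j) := by
        show _ = algebraMap PK C (MvPolynomial.map (algebraMap A K) (MvPolynomial.X j)) * _
        rw [MvPolynomial.map_X, Algebra.TensorProduct.algebraMap_apply,
          Algebra.TensorProduct.tmul_mul_tmul, one_mul, Algebra.algebraMap_self_apply, mul_one]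
      rw [h1]
      refine RingHom.IsIntegralElem.mul f (f.isIntegralElem_map) ?_
      obtain ⟨p, hpm, hpe⟩ := hc j
      refine ⟨p.map MvPolynomial.C, hpm.map _, ?_⟩
      rw [Polynomial.eval₂_map]
      have hfC : f.comp MvPolynomial.C =
          (Algebra.TensorProduct.includeRight : L →ₐ[K] C).toRingHom.comp (algebraMap A L) := by
        refine RingHom.ext fun a => ?_
        show algebraMap PK C (MvPolynomial.map (algebraMap A K) (MvPolynomial.C a)) =
          (1 : PK) ⊗ₜ[K] (algebraMap A L a)
        rw [MvPolynomial.map_C, Algebra.TensorProduct.algebraMap_apply,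
          IsScalarTower.algebraMap_apply A K L, Algebra.algebraMap_eq_smul_one (algebraMap A K a),
          ← TensorProduct.smul_tmul, ← MvPolynomial.algebraMap_eq,
          Algebra.algebraMap_eq_smul_one (algebraMap A K a)]
        rfl
      rw [hfC]
      have h2 : ((1 : PK) ⊗ₜ[K] c j : C) =
          (Algebra.TensorProduct.includeRight : L →ₐ[K] C).toRingHom (c j) := rfl
      rw [h2, ← Polynomial.hom_eval₂, hpe, map_zero]
    exact Finset.sum_induction _ f.IsIntegralElem
      (fun x y hx hy => RingHom.IsIntegralElem.add f hx hy) f.isIntegralElem_zero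
      (fun j _ => hterm j)
  have hΨg : Ψ g = genMat b c := by
    rw [map_sum, genMat]
    refine Finset.sum_congr rfl fun j _ => ?_
    refine Matrix.ext fun i l => ?_
    show Algebra.leftMulMatrix β' ((MvPolynomial.X j : PK) ⊗ₜ[K] c j) i l = _
    rw [Algebra.leftMulMatrix_eq_repr_mul, Algebra.TensorProduct.basis_apply,
      Algebra.TensorProduct.tmul_mul_tmul, mul_one, Algebra.TensorProduct.basis_repr_tmul,
      Finsupp.smul_apply, Finsupp.mapRange_apply, Matrix.smul_apply, Matrix.map_apply,
      Algebra.leftMulMatrix_eq_repr_mul, MvPolynomial.algebraMap_eq]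
  obtain ⟨p, hpm, hpe⟩ := hg
  refine ⟨p, hpm, ?_⟩
  rw [hΨf, ← hΨg, ← Polynomial.hom_eval₂, hpe, map_zero]

theorem det_genMat_mem [IsDomain A] [IsIntegrallyClosed A] [IsFractionRing A K]
    (hc : ∀ j, IsIntegral A (c j)) :
    (genMat b c).det ∈ Set.range (MvPolynomial.map (algebraMap A K) :
      MvPolynomial σ A → MvPolynomial σ K) := by
  classical
  have h1 := isIntegral_det _ (genMat_isIntegral b c hc)
  rw [MvPolynomial.mem_range_map_iff_coeffs_subset]
  intro x hx
  rw [Finset.mem_coe, MvPolynomial.mem_coeffs_iff] at hx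
  obtain ⟨n, -, rfl⟩ := hx
  exact IsIntegrallyClosed.isIntegral_iff.mp
    (MvPolynomial.isIntegral_iff_isIntegral_coeff.mp h1 n)

end LemmaC

section LemmaD

attribute [local instance] algST

variable {k A K L R : Type u} [Field k]
    [CommRing A] [IsDomain A] [IsIntegrallyClosed A] [Algebra k A]
    [Field K] [Algebra A K] [IsFractionRing A K] [Algebra k K] [IsScalarTower k A K]
    [Field L] [Algebra K L] [FiniteDimensional K L] [Algebra A L] [IsScalarTower A K L]
    [Algebra k L] [IsScalarTower k K L] [IsScalarTower k A L]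
    [CommRing R] [Algebra k R]

theorem norm_sum_tmul_mem {σ : Type*} [Fintype σ] (c : σ → L) (hc : ∀ j, IsIntegral A (c j))
    (r : σ → R) :
    Algebra.norm (K ⊗[k] R) (∑ j, (c j ⊗ₜ[k] r j : L ⊗[k] R)) ∈
      Set.range (Algebra.TensorProduct.map (IsScalarTower.toAlgHom k A K) (AlgHom.id k R)) := by
  classical
  let b := Module.finBasis K L
  rw [Algebra.norm_eq_matrix_det (basisST (k := k) (R := R) b)]
  obtain ⟨Q, hQ⟩ := det_genMat_mem b c hc
  let ev : MvPolynomial σ K →+* K ⊗[k] R :=
    MvPolynomial.eval₂Hom (algebraMap K (K ⊗[k] R)) (fun j => (1 : K) ⊗ₜ[k] r j)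
  let evA : MvPolynomial σ A →+* A ⊗[k] R :=
    MvPolynomial.eval₂Hom (algebraMap A (A ⊗[k] R)) (fun j => (1 : A) ⊗ₜ[k] r j)
  have hev : ev.mapMatrix (genMat b c) =
      Algebra.leftMulMatrix (basisST (k := k) (R := R) b) (∑ j, c j ⊗ₜ r j) := by
    rw [map_sum, genMat, map_sum]
    refine Finset.sum_congr rfl fun j _ => ?_
    rw [leftMulMatrix_tmul]
    refine Matrix.ext fun i l => ?_
    simp only [RingHom.mapMatrix_apply, Matrix.map_apply, Matrix.smul_apply, smul_eq_mul, map_mul]
    show MvPolynomial.eval₂ _ _ (MvPolynomial.X j) * MvPolynomial.eval₂ _ _ (MvPolynomial.C _) = _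
    rw [MvPolynomial.eval₂_X, MvPolynomial.eval₂_C, Algebra.TensorProduct.algebraMap_apply,
      Algebra.TensorProduct.tmul_mul_tmul, one_mul, mul_one, Algebra.algebraMap_self_apply]
  refine ⟨evA Q, ?_⟩
  rw [← hev, ← RingHom.map_det, ← hQ]
  have hcomp : (Algebra.TensorProduct.map (IsScalarTower.toAlgHom k A K)
      (AlgHom.id k R)).toRingHom.comp evA = ev.comp (MvPolynomial.map (algebraMap A K)) := by
    apply MvPolynomial.ringHom_ext
    · intro a
      simp [ev, evA, Algebra.TensorProduct.algebraMap_apply]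
    · intro j
      simp [ev, evA]
  exact RingHom.congr_fun hcomp Q

end LemmaD

section Regular

variable {S T : Type*} [CommRing S] [CommRing T] [Algebra S T] {n : ℕ}

theorem kills_of_mul_det_eq_zero {S : Type u} [CommRing S] (M : Matrix (Fin n) (Fin n) S) (c : S)
    (h : c * M.det = 0) : McCoy.Kills M c n := by
  classical
  intro f g
  by_cases hf : Function.Injective f
  · by_cases hg : Function.Injective g
    · have hfb := Finite.injective_iff_bijective.1 hf
      have hgb := Finite.injective_iff_bijective.1 hg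
      have hB : M.submatrix f g =
          (M.submatrix (Equiv.ofBijective f hfb) id).submatrix id (Equiv.ofBijective g hgb) := by
        ext a b
        simp
      rw [hB, Matrix.det_permute', Matrix.det_permute]
      have h3 : ∀ s₁ s₂ : S, c * (s₁ * (s₂ * M.det)) = s₁ * (s₂ * (c * M.det)) := by
        intro s₁ s₂
        ring
      rw [h3, h, mul_zero, mul_zero]
    · obtain ⟨a, b, hab, hne⟩ : ∃ a b, g a = g b ∧ a ≠ b := by
        by_contra hcon
        push_neg at hcon
        exact hg (fun a b h => hcon a b h)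
      rw [Matrix.det_zero_of_column_eq hne (fun k => by simp [hab]), mul_zero]
  · obtain ⟨a, b, hab, hne⟩ : ∃ a b, f a = f b ∧ a ≠ b := by
      by_contra hcon
      push_neg at hcon
      exact hf (fun a b h => hcon a b h)
    rw [Matrix.det_zero_of_row_eq hne (by ext k; simp [hab]), mul_zero]

theorem isRegular_norm_iff {S : Type u} [CommRing S] [Algebra S T]
    (β : Module.Basis (Fin n) S T) (x : T) :
    IsRegular (Algebra.norm S x) ↔ IsRegular x := by
  classical
  rw [Algebra.norm_eq_matrix_det β]
  constructor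
  · intro h
    rw [isRegular_iff_mem_nonZeroDivisors] at h
    rw [← isLeftRegular_iff_isRegular, isLeftRegular_iff_right_eq_zero_of_mul]
    intro y hy
    have h1 := Algebra.leftMulMatrix_mulVec_repr β x y
    rw [hy, map_zero, Finsupp.coe_zero] at h1
    have h2 := Matrix.eq_zero_of_det_mem_nonZeroDivisors_of_mulVec_eq_zero h h1
    have h3 : β.repr y = 0 := DFunLike.coe_injective h2
    exact β.repr.map_eq_zero_iff.1 h3
  · intro h
    rw [← isLeftRegular_iff_isRegular, isLeftRegular_iff_right_eq_zero_of_mul]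
    intro c hc
    by_contra hc0
    have hk := kills_of_mul_det_eq_zero (Algebra.leftMulMatrix β x) c
      (by rw [mul_comm]; exact hc)
    obtain ⟨v, hv0, hv⟩ := McCoy.exists_ne_zero_mulVec_eq_zero _ c hc0 hk
    have h1 := Algebra.leftMulMatrix_mulVec_repr β x (∑ i, v i • β i)
    rw [β.repr_sum_self, hv] at h1
    have h2 : β.repr (x * ∑ i, v i • β i) = 0 := DFunLike.coe_injective h1.symm
    have h3 : x * ∑ i, v i • β i = 0 := β.repr.map_eq_zero_iff.1 h2
    have h4 := (isLeftRegular_iff_right_eq_zero_of_mul.1 h.left) _ h3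
    apply hv0
    rw [← β.repr_sum_self v, h4, map_zero, Finsupp.coe_zero]

end Regular

section LemmaE

attribute [local instance] algST

variable {k A K L R : Type u} [Field k]
    [CommRing A] [IsDomain A] [IsIntegrallyClosed A] [Algebra k A]
    [Field K] [Algebra A K] [IsFractionRing A K] [Algebra k K] [IsScalarTower k A K]
    [Field L] [Algebra K L] [FiniteDimensional K L] [Algebra A L] [IsScalarTower A K L]
    [Algebra k L] [IsScalarTower k K L] [IsScalarTower k A L]
    [CommRing R] [Algebra k R]

variable (k A L R) in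
/-- The map `B ⊗ R → L ⊗ R`. -/
noncomputable abbrev jmap : (integralClosure A L) ⊗[k] R →ₐ[k] L ⊗[k] R :=
  Algebra.TensorProduct.map ((integralClosure A L).val.restrictScalars k) (AlgHom.id k R)

omit [IsDomain A] [IsIntegrallyClosed A] in
theorem jmap_injective : Function.Injective (jmap k A L R) := by
  have h := Module.Flat.rTensor_preserves_injective_linearMap (M := R)
    ((integralClosure A L).val.restrictScalars k).toLinearMap Subtype.val_injective
  have heq : ∀ x, jmap k A L R x =
      LinearMap.rTensor R ((integralClosure A L).val.restrictScalars k).toLinearMap x := by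
    intro x
    induction x using TensorProduct.induction_on with
    | zero => simp
    | tmul a r => simp
    | add x y hx hy => rw [map_add, map_add, hx, hy]
  intro x y hxy
  rw [heq, heq] at hxy
  exact h hxy

variable (K) in
include K in
theorem exists_denominator (t : L ⊗[k] R) :
    ∃ a : A, a ≠ 0 ∧ ∃ x : (integralClosure A L) ⊗[k] R,
      ((algebraMap A L a) ⊗ₜ[k] (1 : R)) * t = jmap k A L R x := by
  induction t using TensorProduct.induction_on with
  | zero => exact ⟨1, one_ne_zero, 0, by simp⟩
  | tmul l r =>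
    obtain ⟨a, ha, hal⟩ := exists_integral_multiples A K ({l} : Finset L)
    have h1 : IsIntegral A (a • l) := hal l (Finset.mem_singleton_self l)
    refine ⟨a, ha, (⟨a • l, h1⟩ : integralClosure A L) ⊗ₜ r, ?_⟩
    simp [Algebra.smul_def]
  | add t₁ t₂ h₁ h₂ =>
    obtain ⟨a₁, ha₁, x₁, hx₁⟩ := h₁
    obtain ⟨a₂, ha₂, x₂, hx₂⟩ := h₂
    have hj : ∀ a : A, jmap k A L R ((algebraMap A (integralClosure A L) a) ⊗ₜ[k] (1 : R)) =
        (algebraMap A L a) ⊗ₜ[k] (1 : R) := fun a => by
      simp only [Algebra.TensorProduct.map_tmul, AlgHom.coe_id, id_eq]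
      rfl
    refine ⟨a₁ * a₂, mul_ne_zero ha₁ ha₂,
      (algebraMap A (integralClosure A L) a₂ ⊗ₜ 1) * x₁ +
        (algebraMap A (integralClosure A L) a₁ ⊗ₜ 1) * x₂, ?_⟩
    simp only [map_add, map_mul]
    rw [← hx₁, ← hx₂, hj, hj]
    have h5 : (algebraMap A L a₁ * algebraMap A L a₂) ⊗ₜ[k] (1 : R) =
        (algebraMap A L a₁ ⊗ₜ[k] (1 : R)) * (algebraMap A L a₂ ⊗ₜ[k] (1 : R)) := by
      simp
    rw [h5]
    ring

variable (K) in
include K in
theorem isRegular_jmap_iff (x : (integralClosure A L) ⊗[k] R) :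
    IsRegular (jmap k A L R x) ↔ IsRegular x := by
  constructor
  · intro h
    rw [← isLeftRegular_iff_isRegular, isLeftRegular_iff_right_eq_zero_of_mul]
    intro y hy
    have h1 : jmap k A L R x * jmap k A L R y = 0 := by rw [← map_mul, hy, map_zero]
    have h2 := (isLeftRegular_iff_right_eq_zero_of_mul.1 h.left) _ h1
    exact jmap_injective (by rw [h2, map_zero])
  · intro h
    rw [← isLeftRegular_iff_isRegular, isLeftRegular_iff_right_eq_zero_of_mul]
    intro t ht
    obtain ⟨a, ha, y, hy⟩ := exists_denominator (A := A) K t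
    have h1 : jmap k A L R (x * y) = 0 := by rw [map_mul, ← hy, mul_left_comm, ht, mul_zero]
    have h2 : x * y = 0 := jmap_injective (by rw [h1, map_zero])
    have h3 : y = 0 := (isLeftRegular_iff_right_eq_zero_of_mul.1 h.left) _ h2
    rw [h3, map_zero] at hy
    have hinj : Function.Injective (algebraMap A L) := by
      rw [IsScalarTower.algebraMap_eq A K L]
      exact (algebraMap K L).injective.comp (IsFractionRing.injective A K)
    have ha' : algebraMap A L a ≠ 0 := (map_ne_zero_iff _ hinj).2 ha
    have h4 : ((algebraMap A L a)⁻¹ ⊗ₜ[k] (1 : R)) * ((algebraMap A L a ⊗ₜ[k] (1 : R)) * t) = t := by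
      rw [← mul_assoc, Algebra.TensorProduct.tmul_mul_tmul, inv_mul_cancel₀ ha', mul_one]
      exact one_mul t
    rw [← h4, hy, mul_zero]

theorem main (k A K L R : Type u) [Field k]
    [CommRing A] [IsDomain A] [IsIntegrallyClosed A] [Algebra k A]
    [Field K] [Algebra A K] [IsFractionRing A K] [Algebra k K] [IsScalarTower k A K]
    [Field L] [Algebra K L] [FiniteDimensional K L] [Algebra A L] [IsScalarTower A K L]
    [Algebra k L] [IsScalarTower k K L] [IsScalarTower k A L]
    [CommRing R] [Algebra k R] :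
    letI : Algebra (K ⊗[k] R) (L ⊗[k] R) :=
      (Algebra.TensorProduct.map (IsScalarTower.toAlgHom k K L) (AlgHom.id k R)).toRingHom.toAlgebra
    Module.Free (K ⊗[k] R) (L ⊗[k] R) ∧ Module.Finite (K ⊗[k] R) (L ⊗[k] R) ∧
      ∀ b : (integralClosure A L) ⊗[k] R,
        Algebra.norm (K ⊗[k] R)
            (Algebra.TensorProduct.map ((integralClosure A L).val.restrictScalars k) (AlgHom.id k R) b) ∈
          Set.range (Algebra.TensorProduct.map (IsScalarTower.toAlgHom k A K) (AlgHom.id k R)) ∧
        (IsRegular b ↔ IsRegular (Algebra.norm (K ⊗[k] R)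
            (Algebra.TensorProduct.map ((integralClosure A L).val.restrictScalars k) (AlgHom.id k R) b))) := by
  classical
  let β := basisST (k := k) (R := R) (Module.finBasis K L)
  refine ⟨Module.Free.of_basis β, Module.Finite.of_basis β, fun x => ⟨?_, ?_⟩⟩
  · obtain ⟨s, hs⟩ := TensorProduct.exists_finset x
    rw [hs, map_sum, ← Finset.sum_coe_sort s]
    simp only [Algebra.TensorProduct.map_tmul]
    exact norm_sum_tmul_mem (A := A) (fun j : s => ((j.1.1 : integralClosure A L) : L))
      (fun j => j.1.1.2) (fun j => j.1.2)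
  · exact ((isRegular_norm_iff β _).trans (isRegular_jmap_iff K x)).symm

end LemmaE

end Groth.Agent.Lib.NormBCH3
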