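import Mathlib
import Groth.Agent.Lib.Branches9_helper6

/-!
# Counting embeddings of residue fields (helper3)

`embCount φ` is the number of embeddings of a field extension into an algebraic closure.  For an
integral ring map `φ : A → B`, a prime `p` of `A` and an algebraically closed field `Ω` with a map
`j : κ(p) → Ω`, the number of ring maps `B → Ω` over `j` is the sum over the primes `P` of `B` over
`p` of the numbers of embeddings of `κ(P)/κ(p)`.
APPEND-ONLY once landed.
-/

set_option autoImplicit false
set_option maxSynthPendingDepth 3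
universe u v

namespace Groth.Agent.Lib.NormBranchH3

open IsLocalRing

section ENatSum

theorem enat_summable {ι : Type*} (f : ι → ℕ∞) : Summable f :=
  (hasSum_of_isLUB _ (isLUB_iSup)).summable

theorem enat_tsum_eq_top_of_infinite {ι : Type*} [Infinite ι] (f : ι → ℕ∞)
    (hf : ∀ i, 1 ≤ f i) : ∑' i, f i = ⊤ := by
  classical
  rw [ENat.eq_top_iff_forall_ge]
  intro n
  obtain ⟨s, hs⟩ := Infinite.exists_subset_card_eq ι n
  calc (n : ℕ∞) = ∑ i ∈ s, (1 : ℕ∞) := by simp [hs]
    _ ≤ ∑ i ∈ s, f i := Finset.sum_le_sum (fun i _ => hf i)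
    _ ≤ ∑' i, f i := (enat_summable f).sum_le_tsum s (fun i _ => zero_le)

theorem enat_card_sigma_eq_tsum {ι : Type u} (β : ι → Type v) (hne : ∀ i, Nonempty (β i)) :
    ENat.card (Σ i, β i) = ∑' i, ENat.card (β i) := by
  classical
  by_cases hfin : Finite ι
  · haveI := Fintype.ofFinite ι
    rw [tsum_fintype]
    exact Groth.Agent.Lib.Branches.enat_card_sigma β
  · haveI : Infinite ι := not_finite_iff_infinite.mp hfin
    haveI : Infinite (Σ i, β i) :=
      Infinite.of_injective (fun i => (⟨i, Classical.choice (hne i)⟩ : Σ i, β i))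
        (fun i j h => congrArg Sigma.fst h)
    rw [ENat.card_eq_top_of_infinite, enat_tsum_eq_top_of_infinite]
    intro i
    exact (ENat.one_le_card_iff_nonempty _).mpr (hne i)

/-- the cardinality of a type is the sum of the cardinalities of the fibres of a surjection -/
theorem enat_card_eq_tsum_fiber {α : Type u} {ι : Type v} (π : α → ι)
    (hπ : Function.Surjective π) :
    ENat.card α = ∑' i, ENat.card {a : α // π a = i} := by
  rw [← ENat.card_congr (Equiv.sigmaFiberEquiv π)]
  apply enat_card_sigma_eq_tsum
  intro i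
  obtain ⟨a, ha⟩ := hπ i
  exact ⟨⟨a, ha⟩⟩

end ENatSum

section EmbCount

/-- the number of embeddings of `E` over `F` into an algebraic closure of `E` -/
noncomputable def embCount {F E : Type u} [Field F] [Field E] (φ : F →+* E) : ℕ∞ :=
  letI := φ.toAlgebra
  ENat.card (Field.Emb F E)

theorem one_le_embCount {F E : Type u} [Field F] [Field E] (φ : F →+* E) : 1 ≤ embCount φ := by
  letI := φ.toAlgebra
  unfold embCount
  rw [ENat.one_le_card_iff_nonempty]
  exact ⟨IsScalarTower.toAlgHom F E (AlgebraicClosure E)⟩

theorem embCount_eq_card_hom {F E Ω : Type u} [Field F] [Field E] [Field Ω] [IsAlgClosed Ω]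
    (φ : F →+* E) (hφ : φ.IsIntegral) (j : F →+* Ω) :
    embCount φ = ENat.card {σ : E →+* Ω // σ.comp φ = j} := by
  letI := φ.toAlgebra
  letI := j.toAlgebra
  haveI : Algebra.IsIntegral F E := ⟨hφ⟩
  unfold embCount
  rw [ENat.card_congr (Field.embEquivOfIsAlgClosed F E Ω)]
  apply ENat.card_congr
  exact
    { toFun := fun σ => ⟨σ.toRingHom, RingHom.ext fun c => σ.commutes c⟩
      invFun := fun σ => { σ.1 with commutes' := fun c => RingHom.congr_fun σ.2 c }
      left_inv := fun σ => by ext; rfl
      right_inv := fun σ => by ext; rfl }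

theorem isIntegral_of_equiv {F E F' E' : Type u} [Field F] [Field E] [Field F'] [Field E']
    (φ : F →+* E) (φ' : F' →+* E') (e₁ : F ≃+* F') (e₂ : E ≃+* E')
    (h : ∀ c, φ' (e₁ c) = e₂ (φ c)) (hφ : φ.IsIntegral) : φ'.IsIntegral := by
  intro x'
  obtain ⟨p, hp, hpx⟩ := hφ (e₂.symm x')
  refine ⟨p.map e₁.toRingHom, hp.map _, ?_⟩
  rw [Polynomial.eval₂_map]
  have h1 : φ'.comp e₁.toRingHom = e₂.toRingHom.comp φ := RingHom.ext h
  have h2 : x' = e₂.toRingHom (e₂.symm x') := (e₂.apply_symm_apply x').symm
  rw [h1, h2, ← Polynomial.hom_eval₂, hpx, map_zero]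

theorem embCount_congr {F E F' E' : Type u} [Field F] [Field E] [Field F'] [Field E']
    (φ : F →+* E) (φ' : F' →+* E') (e₁ : F ≃+* F') (e₂ : E ≃+* E')
    (h : ∀ c, φ' (e₁ c) = e₂ (φ c)) (hφ : φ.IsIntegral) : embCount φ' = embCount φ := by
  have hφ' : φ'.IsIntegral := isIntegral_of_equiv φ φ' e₁ e₂ h hφ
  rw [embCount_eq_card_hom φ' hφ' ((algebraMap E' (AlgebraicClosure E')).comp φ'),
    embCount_eq_card_hom φ hφ
      (((algebraMap E' (AlgebraicClosure E')).comp φ').comp e₁.toRingHom)]
  apply ENat.card_congr
  exact
    { toFun := fun σ => ⟨σ.1.comp e₂.toRingHom, by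
        ext c
        have h1 := RingHom.congr_fun σ.2 (e₁ c)
        simp only [RingHom.comp_apply] at h1
        exact (congrArg σ.1 (h c).symm).trans h1⟩
      invFun := fun σ => ⟨σ.1.comp e₂.symm.toRingHom, by
        ext c'
        obtain ⟨c, rfl⟩ := e₁.surjective c'
        have h1 := RingHom.congr_fun σ.2 c
        simp only [RingHom.comp_apply] at h1
        have h3 : e₂.symm (φ' (e₁ c)) = φ c := by rw [h c, e₂.symm_apply_apply]
        exact (congrArg σ.1 h3).trans h1⟩
      left_inv := fun σ => by
        apply Subtype.ext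
        ext x
        show σ.1 (e₂ (e₂.symm x)) = σ.1 x
        rw [e₂.apply_symm_apply]
      right_inv := fun σ => by
        apply Subtype.ext
        ext x
        show σ.1 (e₂.symm (e₂ x)) = σ.1 x
        rw [e₂.symm_apply_apply] }

end EmbCount

section Fibre

variable {A B : Type u} [CommRing A] [CommRing B] (φ : A →+* B)

/-- residue field extensions of an integral map are algebraic -/
theorem isIntegral_residueFieldMap (hφ : φ.IsIntegral) (p : Ideal A) [p.IsPrime] (P : Ideal B)
    [P.IsPrime] (h : p = P.comap φ) : (Ideal.ResidueField.map p P φ h).IsIntegral := by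
  letI := (Ideal.ResidueField.map p P φ h).toAlgebra
  have hB : ∀ b : B, IsIntegral p.ResidueField (algebraMap B P.ResidueField b) := by
    intro b
    obtain ⟨q, hq, hqb⟩ := hφ b
    refine ⟨q.map (algebraMap A p.ResidueField), hq.map _, ?_⟩
    rw [Polynomial.eval₂_map]
    have h1 : (algebraMap p.ResidueField P.ResidueField).comp (algebraMap A p.ResidueField) =
        (algebraMap B P.ResidueField).comp φ := by
      ext a
      exact Ideal.ResidueField.map_algebraMap p P φ h a
    rw [h1, ← Polynomial.hom_eval₂, hqb, map_zero]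
  intro x
  show IsIntegral p.ResidueField x
  obtain ⟨y, rfl⟩ := residue_surjective x
  obtain ⟨b, s, rfl⟩ := IsLocalization.exists_mk'_eq P.primeCompl y
  have h2 : residue (Localization.AtPrime P) (IsLocalization.mk' (Localization.AtPrime P) b s) =
      algebraMap B P.ResidueField b * (algebraMap B P.ResidueField s)⁻¹ := by
    have hs : algebraMap B P.ResidueField s ≠ 0 := by
      intro h0
      have := (Ideal.algebraMap_residueField_eq_zero (I := P)).mp h0
      exact s.2 this
    rw [eq_mul_inv_iff_mul_eq₀ hs]
    show residue _ _ * residue _ (algebraMap B (Localization.AtPrime P) s) = residue _ _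
    rw [← map_mul, IsLocalization.mk'_spec]
  rw [h2]
  exact (hB b).mul (hB s).inv

theorem lift_comp_algebraMap {Ω : Type u} [Field Ω] (P : Ideal B) [P.IsPrime]
    (σ : P.ResidueField →+* Ω)
    (h1 : P ≤ RingHom.ker (σ.comp (algebraMap B P.ResidueField)))
    (h2 : P.primeCompl ≤ (IsUnit.submonoid Ω).comap (σ.comp (algebraMap B P.ResidueField))) :
    Ideal.ResidueField.lift P (σ.comp (algebraMap B P.ResidueField)) h1 h2 = σ := by
  apply Ideal.ResidueField.ringHom_ext
  ext b
  exact Ideal.ResidueField.lift_algebraMap P _ h1 h2 b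

/-- the number of points of `B` with values in an algebraically closed field over a given point
of `A`, for an integral map -/
theorem card_hom_eq_tsum {Ω : Type u} [Field Ω] [IsAlgClosed Ω] (hφ : φ.IsIntegral)
    (p : Ideal A) [p.IsPrime] (j : p.ResidueField →+* Ω) :
    ENat.card {τ : B →+* Ω // τ.comp φ = j.comp (algebraMap A p.ResidueField)} =
      ∑' P : {P : PrimeSpectrum B // P.asIdeal.comap φ = p},
        embCount (Ideal.ResidueField.map p P.1.asIdeal φ P.2.symm) := by
  classical
  have hkerθ : RingHom.ker (j.comp (algebraMap A p.ResidueField)) = p := by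
    ext a
    rw [RingHom.mem_ker, RingHom.comp_apply, map_eq_zero_iff j j.injective,
      Ideal.algebraMap_residueField_eq_zero]
  let π : {τ : B →+* Ω // τ.comp φ = j.comp (algebraMap A p.ResidueField)} →
      {P : PrimeSpectrum B // P.asIdeal.comap φ = p} := fun τ =>
    ⟨⟨RingHom.ker τ.1, RingHom.ker_isPrime τ.1⟩, by
      show (RingHom.ker τ.1).comap φ = p
      rw [RingHom.comap_ker, τ.2, hkerθ]⟩
  -- the fibres
  have hfib : ∀ P : {P : PrimeSpectrum B // P.asIdeal.comap φ = p},
      ENat.card {τ : {τ : B →+* Ω // τ.comp φ = j.comp (algebraMap A p.ResidueField)} //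
        π τ = P} = embCount (Ideal.ResidueField.map p P.1.asIdeal φ P.2.symm) := by
    intro P
    rw [embCount_eq_card_hom _ (isIntegral_residueFieldMap φ hφ p P.1.asIdeal P.2.symm) j]
    have hker : ∀ τ : {τ : {τ : B →+* Ω // τ.comp φ = j.comp (algebraMap A p.ResidueField)} //
        π τ = P}, RingHom.ker τ.1.1 = P.1.asIdeal := fun τ =>
      congrArg (fun Q : {P : PrimeSpectrum B // P.asIdeal.comap φ = p} => Q.1.asIdeal) τ.2
    have hunits : ∀ τ : {τ : {τ : B →+* Ω // τ.comp φ = j.comp (algebraMap A p.ResidueField)} //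
        π τ = P}, P.1.asIdeal.primeCompl ≤ (IsUnit.submonoid Ω).comap τ.1.1 := by
      intro τ b hb
      show IsUnit (τ.1.1 b)
      rw [isUnit_iff_ne_zero]
      intro h0
      apply hb
      rw [← hker τ]
      exact h0
    apply ENat.card_congr
    exact
      { toFun := fun τ =>
          ⟨Ideal.ResidueField.lift P.1.asIdeal τ.1.1 (le_of_eq (hker τ).symm) (hunits τ), by
            apply Ideal.ResidueField.ringHom_ext
            ext a
            simp only [RingHom.comp_apply]
            rw [Ideal.ResidueField.map_algebraMap, Ideal.ResidueField.lift_algebraMap]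
            exact RingHom.congr_fun τ.1.2 a⟩
        invFun := fun σ =>
          ⟨⟨σ.1.comp (algebraMap B P.1.asIdeal.ResidueField), by
            ext a
            have h1 := RingHom.congr_fun σ.2 (algebraMap A p.ResidueField a)
            simp only [RingHom.comp_apply] at h1 ⊢
            rw [← h1, Ideal.ResidueField.map_algebraMap]⟩, by
            apply Subtype.ext
            apply PrimeSpectrum.ext
            show RingHom.ker (σ.1.comp (algebraMap B P.1.asIdeal.ResidueField)) = P.1.asIdeal
            ext b
            rw [RingHom.mem_ker, RingHom.comp_apply, map_eq_zero_iff σ.1 σ.1.injective,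
              Ideal.algebraMap_residueField_eq_zero]⟩
        left_inv := fun τ => by
          apply Subtype.ext
          apply Subtype.ext
          ext b
          exact Ideal.ResidueField.lift_algebraMap P.1.asIdeal τ.1.1 (le_of_eq (hker τ).symm)
            (hunits τ) b
        right_inv := fun σ => by
          apply Subtype.ext
          have h1 : P.1.asIdeal ≤
              RingHom.ker (σ.1.comp (algebraMap B P.1.asIdeal.ResidueField)) := by
            intro b hb
            rw [RingHom.mem_ker, RingHom.comp_apply,
              (Ideal.algebraMap_residueField_eq_zero).mpr hb, map_zero]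
          have h2 : P.1.asIdeal.primeCompl ≤
              (IsUnit.submonoid Ω).comap (σ.1.comp (algebraMap B P.1.asIdeal.ResidueField)) := by
            intro b hb
            show IsUnit (σ.1 (algebraMap B _ b))
            rw [isUnit_iff_ne_zero, Ne, map_eq_zero_iff σ.1 σ.1.injective,
              Ideal.algebraMap_residueField_eq_zero]
            exact hb
          exact lift_comp_algebraMap P.1.asIdeal σ.1 h1 h2 }
  have hsurj : Function.Surjective π := by
    intro P
    have h1 := hfib P
    have h2 := one_le_embCount (Ideal.ResidueField.map p P.1.asIdeal φ P.2.symm)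
    rw [← h1, ENat.one_le_card_iff_nonempty] at h2
    obtain ⟨τ⟩ := h2
    exact ⟨τ.1, τ.2⟩
  rw [enat_card_eq_tsum_fiber π hsurj]
  exact tsum_congr hfib

end Fibre

end Groth.Agent.Lib.NormBranchH3
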