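import Mathlib
import Groth.Prelude.Def_Brnch
import Groth.Agent.Lib.NormBranch1_helper3
import Groth.Agent.Lib.Branches12_helper6
import Groth.Agent.Lib.Branches7_helper6

/-!
# Branches of a localization of a domain through its integral closure (helper3)

For a domain `A` with fraction field `K`, a prime `p` and a ring `B` isomorphic over `A` to the
integral closure of `A` in `K`: the number of branches of `A_p` is the number of primes of `B` over
`p`, and the number of geometric branches is the sum over these primes of the numbers of embeddings
of the residue field extensions.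
APPEND-ONLY once landed.
-/

set_option autoImplicit false
set_option maxSynthPendingDepth 3
universe u

namespace Groth.Agent.Lib.NormBranchH3

open IsLocalRing

section Generic

theorem card_hom_congr {R S S' Ω : Type u} [CommRing R] [CommRing S] [CommRing S'] [CommRing Ω]
    (e : S ≃+* S') (f : R →+* S) (f' : R →+* S') (h : ∀ a, e (f a) = f' a) (θ : R →+* Ω) :
    ENat.card {τ : S →+* Ω // τ.comp f = θ} = ENat.card {τ : S' →+* Ω // τ.comp f' = θ} := by
  apply ENat.card_congr
  exact
    { toFun := fun τ => ⟨τ.1.comp e.symm.toRingHom, by
        ext a
        have h1 := RingHom.congr_fun τ.2 a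
        simp only [RingHom.comp_apply] at h1
        have h2 : e.symm (f' a) = f a := by rw [← h a, e.symm_apply_apply]
        exact (congrArg τ.1 h2).trans h1⟩
      invFun := fun τ => ⟨τ.1.comp e.toRingHom, by
        ext a
        have h1 := RingHom.congr_fun τ.2 a
        simp only [RingHom.comp_apply] at h1
        exact (congrArg τ.1 (h a)).trans h1⟩
      left_inv := fun τ => by
        apply Subtype.ext
        ext x
        show τ.1 (e.symm (e x)) = τ.1 x
        rw [e.symm_apply_apply]
      right_inv := fun τ => by
        apply Subtype.ext
        ext x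
        show τ.1 (e (e.symm x)) = τ.1 x
        rw [e.apply_symm_apply] }

theorem ker_comp_mk {R Ω : Type u} [CommRing R] [Field Ω] (m : Ideal R) [hm : m.IsMaximal]
    (σ : R ⧸ m →+* Ω) : RingHom.ker (σ.comp (Ideal.Quotient.mk m)) = m := by
  letI := Ideal.Quotient.field m
  ext x
  rw [RingHom.mem_ker, RingHom.comp_apply, map_eq_zero_iff σ σ.injective,
    Ideal.Quotient.eq_zero_iff_mem]

end Generic

section L1

variable (O : Type u) [CommRing O] [IsLocalRing O]

theorem isIntegral_normRed : Algebra.IsIntegral O (CAlg2.normRed O) := by
  haveI : IsScalarTower O (CAlg2.red O) (CAlg2.normRed O) :=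
    IsScalarTower.of_algebraMap_eq (fun _ => rfl)
  haveI : Algebra.IsIntegral O (CAlg2.red O) :=
    Algebra.IsIntegral.of_surjective (Ideal.Quotient.mkₐ O (nilradical O))
      Ideal.Quotient.mk_surjective
  exact Algebra.IsIntegral.trans (R := O) (CAlg2.red O)

theorem ker_toClosure : RingHom.ker (Brnch.toClosure O) = maximalIdeal O := by
  ext x
  unfold Brnch.toClosure
  rw [RingHom.mem_ker, RingHom.comp_apply, map_eq_zero_iff _ (RingHom.injective _),
    residue_eq_zero_iff]

/-- the geometric branches as points with values in the algebraic closure of the residue field -/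
theorem card_sigma_emb_eq_card_hom :
    ENat.card (Σ m' : MaximalSpectrum (CAlg2.normRed O), Brnch.Emb O m') =
      ENat.card {τ : CAlg2.normRed O →+* AlgebraicClosure (ResidueField O) //
        τ.comp (algebraMap O (CAlg2.normRed O)) = Brnch.toClosure O} := by
  haveI := isIntegral_normRed O
  apply ENat.card_congr
  refine Equiv.ofBijective
    (fun x => ⟨x.2.1.comp (Ideal.Quotient.mk x.1.asIdeal),
      RingHom.ext fun a => RingHom.congr_fun x.2.2 a⟩) ⟨?_, ?_⟩
  · rintro ⟨m₁, σ₁⟩ ⟨m₂, σ₂⟩ h
    have h' : σ₁.1.comp (Ideal.Quotient.mk m₁.asIdeal) =
        σ₂.1.comp (Ideal.Quotient.mk m₂.asIdeal) := congrArg Subtype.val h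
    have hm : m₁ = m₂ := by
      apply MaximalSpectrum.ext
      haveI := m₁.isMaximal
      haveI := m₂.isMaximal
      rw [← ker_comp_mk m₁.asIdeal σ₁.1, h', ker_comp_mk m₂.asIdeal σ₂.1]
    subst hm
    have hσ : σ₁ = σ₂ := Subtype.ext (Ideal.Quotient.ringHom_ext h')
    rw [hσ]
  · rintro ⟨τ, hτ⟩
    haveI : (RingHom.ker τ).IsPrime := RingHom.ker_isPrime τ
    have hmax : (RingHom.ker τ).IsMaximal := by
      apply Ideal.isMaximal_of_isIntegral_of_isMaximal_comap (R := O) (RingHom.ker τ)
      rw [RingHom.comap_ker, hτ, ker_toClosure]
      exact maximalIdeal.isMaximal O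
    refine ⟨⟨⟨RingHom.ker τ, hmax⟩,
      ⟨Ideal.Quotient.lift (RingHom.ker τ) τ (fun a ha => ha), ?_⟩⟩, ?_⟩
    · ext a
      exact RingHom.congr_fun hτ a
    · apply Subtype.ext
      ext x
      rfl

end L1

section EquivGen

variable (O K : Type u) [CommRing O] [IsDomain O] [CommRing K] [Algebra O K] [IsFractionRing O K]

/-- the ring isomorphism between `normRed O` and the integral closure of `O` in `K` -/
theorem exists_equiv_gen :
    ∃ e : CAlg2.normRed O ≃+* integralClosure O K,
      ∀ a, e (algebraMap O _ a) = algebraMap _ _ a := by
  refine ⟨(Groth.Agent.Lib.Branches.normRedEquiv O).symm.trans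
    ((FractionRing.algEquiv O K).mapIntegralClosure).toRingEquiv, ?_⟩
  intro a
  have h1 : (Groth.Agent.Lib.Branches.normRedEquiv O).symm
      (algebraMap O (CAlg2.normRed O) a) = algebraMap O _ a := by
    rw [RingEquiv.symm_apply_eq]
    exact (Groth.Agent.Lib.Branches.normRedEquiv_algebraMap O a).symm
  show ((FractionRing.algEquiv O K).mapIntegralClosure)
    ((Groth.Agent.Lib.Branches.normRedEquiv O).symm _) = _
  rw [h1]
  exact AlgEquiv.commutes _ a

end EquivGen

section Loc

variable (A K : Type u) [CommRing A] [IsDomain A] [CommRing K] [Algebra A K] [IsFractionRing A K]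
  (p : Ideal A) [p.IsPrime]
  [Algebra (Localization.AtPrime p) K] [IsScalarTower A (Localization.AtPrime p) K]

/-- the inclusion of the integral closure of `A` into that of `A_p` -/
noncomputable def incl :
    integralClosure A K →+* integralClosure (Localization.AtPrime p) K :=
  ((integralClosure A K).val.toRingHom).codRestrict (integralClosure (Localization.AtPrime p) K)
    (fun x => x.2.tower_top)

theorem incl_algebraMap (a : A) :
    incl A K p (algebraMap A (integralClosure A K) a) =
      algebraMap A (integralClosure (Localization.AtPrime p) K) a := by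
  rfl

theorem isLocalization_incl :
    letI := (incl A K p).toAlgebra
    IsLocalization (Algebra.algebraMapSubmonoid (integralClosure A K) p.primeCompl)
      (integralClosure (Localization.AtPrime p) K) := by
  letI := (incl A K p).toAlgebra
  haveI : IsScalarTower (integralClosure A K) (integralClosure (Localization.AtPrime p) K) K :=
    IsScalarTower.of_algebraMap_eq (fun x => rfl)
  haveI : IsScalarTower A (integralClosure A K) (integralClosure (Localization.AtPrime p) K) :=
    IsScalarTower.of_algebraMap_eq (fun a => (incl_algebraMap A K p a).symm)
  haveI : IsLocalization (Algebra.algebraMapSubmonoid K p.primeCompl) K := by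
    apply IsLocalization.at_units
    rintro _ ⟨s, hs, rfl⟩
    show IsUnit (algebraMap A K s)
    have hs0 : s ≠ 0 := fun h0 => hs (h0 ▸ p.zero_mem)
    exact IsLocalization.map_units K (⟨s, mem_nonZeroDivisors_of_ne_zero hs0⟩ : nonZeroDivisors A)
  exact IsLocalization.integralClosure (R := A) (S := K) (Rf := Localization.AtPrime p) (Sf := K)
    p.primeCompl

theorem isFractionRing_loc : IsFractionRing (Localization.AtPrime p) K :=
  IsFractionRing.isFractionRing_of_isDomain_of_isLocalization p.primeCompl
    (Localization.AtPrime p) K

theorem comap_incl_comap (M : Ideal (integralClosure (Localization.AtPrime p) K)) :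
    (M.comap (incl A K p)).comap (algebraMap A (integralClosure A K)) =
      (M.comap (algebraMap (Localization.AtPrime p) _)).comap
        (algebraMap A (Localization.AtPrime p)) := by
  rw [Ideal.comap_comap, Ideal.comap_comap]
  congr 1
  ext a
  rw [RingHom.comp_apply, RingHom.comp_apply, incl_algebraMap, ← IsScalarTower.algebraMap_apply]

/-- the maximal ideals of the integral closure of `A_p` are the primes of the integral closure of
`A` over `p` -/
theorem card_maximalSpectrum_eq :
    ENat.card (MaximalSpectrum (integralClosure (Localization.AtPrime p) K)) =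
      ENat.card {P : PrimeSpectrum (integralClosure A K) //
        P.asIdeal.comap (algebraMap A (integralClosure A K)) = p} := by
  letI := (incl A K p).toAlgebra
  haveI := isLocalization_incl A K p
  have halg : algebraMap (integralClosure A K) (integralClosure (Localization.AtPrime p) K) =
      incl A K p := rfl
  have hmaxcomap : ∀ M : Ideal (integralClosure (Localization.AtPrime p) K), M.IsMaximal →
      M.comap (algebraMap (Localization.AtPrime p) _) = maximalIdeal (Localization.AtPrime p) := by
    intro M hM
    haveI := hM
    exact eq_maximalIdeal (Ideal.isMaximal_comap_of_isIntegral_of_isMaximal M)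
  apply ENat.card_congr
  refine Equiv.ofBijective
    (fun m' => ⟨⟨m'.asIdeal.comap (incl A K p),
      haveI := m'.isMaximal.isPrime; Ideal.comap_isPrime _ _⟩, ?_⟩) ⟨?_, ?_⟩
  · show (m'.asIdeal.comap (incl A K p)).comap (algebraMap A (integralClosure A K)) = p
    rw [comap_incl_comap, hmaxcomap _ m'.isMaximal]
    exact IsLocalization.AtPrime.comap_maximalIdeal (Localization.AtPrime p) p
  · intro m₁ m₂ h
    have h1 : m₁.asIdeal.comap (incl A K p) = m₂.asIdeal.comap (incl A K p) :=
      congrArg (fun P : {P : PrimeSpectrum (integralClosure A K) //
        P.asIdeal.comap (algebraMap A (integralClosure A K)) = p} => P.1.asIdeal) h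
    apply MaximalSpectrum.ext
    have e1 := IsLocalization.map_comap
      (Algebra.algebraMapSubmonoid (integralClosure A K) p.primeCompl)
      (integralClosure (Localization.AtPrime p) K) m₁.asIdeal
    have e2 := IsLocalization.map_comap
      (Algebra.algebraMapSubmonoid (integralClosure A K) p.primeCompl)
      (integralClosure (Localization.AtPrime p) K) m₂.asIdeal
    rw [halg] at e1 e2
    rw [← e1, ← e2]
    exact congrArg (Ideal.map (incl A K p)) h1
  · rintro ⟨P, hP⟩
    have hdisj : Disjoint
        ((Algebra.algebraMapSubmonoid (integralClosure A K) p.primeCompl : Submonoid _) :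
          Set (integralClosure A K)) (P.asIdeal : Set (integralClosure A K)) := by
      rw [Set.disjoint_left]
      rintro _ ⟨s, hs, rfl⟩ hsP
      apply hs
      rw [← hP]
      exact hsP
    have hprime := IsLocalization.isPrime_of_isPrime_disjoint
      (Algebra.algebraMapSubmonoid (integralClosure A K) p.primeCompl)
      (integralClosure (Localization.AtPrime p) K) P.asIdeal P.isPrime hdisj
    have hcomap := IsLocalization.comap_map_of_isPrime_disjoint
      (Algebra.algebraMapSubmonoid (integralClosure A K) p.primeCompl)
      (integralClosure (Localization.AtPrime p) K) P.isPrime hdisj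
    rw [halg] at hprime hcomap
    haveI := hprime
    have hq : ((P.asIdeal.map (incl A K p)).comap
        (algebraMap (Localization.AtPrime p) _)).comap (algebraMap A (Localization.AtPrime p)) =
        p := by
      rw [← comap_incl_comap]
      have : (P.asIdeal.map (incl A K p)).comap (incl A K p) = P.asIdeal := hcomap
      rw [this, hP]
    have hq2 : (P.asIdeal.map (incl A K p)).comap (algebraMap (Localization.AtPrime p) _) =
        maximalIdeal (Localization.AtPrime p) := by
      have e1 := IsLocalization.map_comap p.primeCompl (Localization.AtPrime p)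
        ((P.asIdeal.map (incl A K p)).comap (algebraMap (Localization.AtPrime p) _))
      have hq' : Ideal.under A ((P.asIdeal.map (incl A K p)).comap
          (algebraMap (Localization.AtPrime p) _)) = p := hq
      rw [hq', IsLocalization.AtPrime.map_eq_maximalIdeal] at e1
      exact e1.symm
    have hmax : (P.asIdeal.map (incl A K p)).IsMaximal := by
      apply Ideal.isMaximal_of_isIntegral_of_isMaximal_comap (R := Localization.AtPrime p)
      rw [hq2]
      exact maximalIdeal.isMaximal _
    refine ⟨⟨P.asIdeal.map (incl A K p), hmax⟩, ?_⟩
    apply Subtype.ext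
    apply PrimeSpectrum.ext
    exact hcomap

/-- the ring isomorphism between `normRed A_p` and the integral closure of `A_p` in `K` -/
theorem exists_equiv :
    ∃ e : CAlg2.normRed (Localization.AtPrime p) ≃+*
        integralClosure (Localization.AtPrime p) K,
      ∀ a, e (algebraMap (Localization.AtPrime p) _ a) = algebraMap _ _ a := by
  haveI := isFractionRing_loc A K p
  haveI : IsDomain K := IsFractionRing.isDomain A
  haveI : IsDomain (Localization.AtPrime p) :=
    Function.Injective.isDomain (algebraMap (Localization.AtPrime p) K)
      (IsFractionRing.injective _ K)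
  exact exists_equiv_gen (Localization.AtPrime p) K

theorem numBranches_eq_card_fibre :
    Brnch.numBranches (Localization.AtPrime p) =
      ENat.card {P : PrimeSpectrum (integralClosure A K) //
        P.asIdeal.comap (algebraMap A (integralClosure A K)) = p} := by
  haveI := isFractionRing_loc A K p
  haveI : IsDomain K := IsFractionRing.isDomain A
  haveI : IsDomain (Localization.AtPrime p) :=
    Function.Injective.isDomain (algebraMap (Localization.AtPrime p) K)
      (IsFractionRing.injective _ K)
  obtain ⟨e, -⟩ := exists_equiv A K p
  unfold Brnch.numBranches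
  rw [if_pos (Groth.Agent.Lib.Branches.finite_minimalPrimes_of_isDomain _),
    ENat.card_congr (Groth.Agent.Lib.Branches.maximalSpectrumCongr e)]
  exact card_maximalSpectrum_eq A K p

/-- restriction of points from the integral closure of `A_p` to that of `A` -/
theorem card_hom_incl {Ω : Type u} [Field Ω] (θ : Localization.AtPrime p →+* Ω) :
    ENat.card {τ : integralClosure (Localization.AtPrime p) K →+* Ω //
        τ.comp (algebraMap (Localization.AtPrime p) _) = θ} =
      ENat.card {τ : integralClosure A K →+* Ω //
        τ.comp (algebraMap A (integralClosure A K)) =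
          θ.comp (algebraMap A (Localization.AtPrime p))} := by
  letI := (incl A K p).toAlgebra
  haveI := isLocalization_incl A K p
  have halg : algebraMap (integralClosure A K) (integralClosure (Localization.AtPrime p) K) =
      incl A K p := rfl
  have hunits : ∀ τ : {τ : integralClosure A K →+* Ω //
        τ.comp (algebraMap A (integralClosure A K)) =
          θ.comp (algebraMap A (Localization.AtPrime p))},
      ∀ y : Algebra.algebraMapSubmonoid (integralClosure A K) p.primeCompl,
        IsUnit (τ.1 y) := by
    rintro τ ⟨_, s, hs, rfl⟩
    have h1 := RingHom.congr_fun τ.2 s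
    simp only [RingHom.comp_apply] at h1
    show IsUnit (τ.1 (algebraMap A (integralClosure A K) s))
    rw [h1]
    exact (IsLocalization.map_units (Localization.AtPrime p) (⟨s, hs⟩ : p.primeCompl)).map θ
  apply ENat.card_congr
  exact
    { toFun := fun τ => ⟨τ.1.comp (incl A K p), by
        ext a
        have h1 := RingHom.congr_fun τ.2 (algebraMap A (Localization.AtPrime p) a)
        simp only [RingHom.comp_apply] at h1 ⊢
        rw [incl_algebraMap, ← h1, ← IsScalarTower.algebraMap_apply]⟩
      invFun := fun τ => ⟨IsLocalization.lift (hunits τ), by
        apply IsLocalization.ringHom_ext p.primeCompl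
        ext a
        have h1 := RingHom.congr_fun τ.2 a
        simp only [RingHom.comp_apply] at h1 ⊢
        rw [← h1, ← IsScalarTower.algebraMap_apply, ← incl_algebraMap, ← halg,
          IsLocalization.lift_eq]⟩
      left_inv := fun τ => by
        apply Subtype.ext
        apply IsLocalization.ringHom_ext
          (Algebra.algebraMapSubmonoid (integralClosure A K) p.primeCompl)
        ext x
        simp only [RingHom.comp_apply]
        rw [IsLocalization.lift_eq]
        rfl
      right_inv := fun τ => by
        apply Subtype.ext
        ext x
        show IsLocalization.lift (hunits τ) (algebraMap _ _ x) = τ.1 x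
        rw [IsLocalization.lift_eq] }

theorem numGeomBranches_eq_card_hom :
    Brnch.numGeomBranches (Localization.AtPrime p) =
      ENat.card {τ : integralClosure A K →+* AlgebraicClosure p.ResidueField //
        τ.comp (algebraMap A (integralClosure A K)) =
          (Brnch.toClosure (Localization.AtPrime p)).comp
            (algebraMap A (Localization.AtPrime p))} := by
  haveI := isFractionRing_loc A K p
  haveI : IsDomain K := IsFractionRing.isDomain A
  haveI : IsDomain (Localization.AtPrime p) :=
    Function.Injective.isDomain (algebraMap (Localization.AtPrime p) K)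
      (IsFractionRing.injective _ K)
  obtain ⟨e, he⟩ := exists_equiv A K p
  unfold Brnch.numGeomBranches
  rw [if_pos (Groth.Agent.Lib.Branches.finite_minimalPrimes_of_isDomain _),
    card_sigma_emb_eq_card_hom,
    card_hom_congr e (algebraMap (Localization.AtPrime p) _) (algebraMap _ _) he]
  exact card_hom_incl A K p (Brnch.toClosure (Localization.AtPrime p))

end Loc

section Main

variable (A K : Type u) [CommRing A] [IsDomain A] [CommRing K] [Algebra A K] [IsFractionRing A K]
  (p : Ideal A) [p.IsPrime]

/-- The main ring-level statement, for a ring `B` isomorphic over `A` to the integral closure of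
`A` in `K`. -/
theorem main_ring (B : Type u) [CommRing B] (φ : A →+* B) (e : B ≃+* integralClosure A K)
    (he : ∀ a, e (φ a) = algebraMap A (integralClosure A K) a) :
    Brnch.numBranches (Localization.AtPrime p) =
        ENat.card {P : PrimeSpectrum B // P.asIdeal.comap φ = p} ∧
      Brnch.numGeomBranches (Localization.AtPrime p) =
        ∑' P : {P : PrimeSpectrum B // P.asIdeal.comap φ = p},
          embCount (Ideal.ResidueField.map p P.1.asIdeal φ P.2.symm) := by
  have hunitsK : ∀ y : p.primeCompl, IsUnit (algebraMap A K y) := by
    intro y
    have hs0 : (y : A) ≠ 0 := fun h0 => y.2 (h0 ▸ p.zero_mem)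
    exact IsLocalization.map_units K
      (⟨(y : A), mem_nonZeroDivisors_of_ne_zero hs0⟩ : nonZeroDivisors A)
  letI algOK : Algebra (Localization.AtPrime p) K := (IsLocalization.lift hunitsK).toAlgebra
  haveI : IsScalarTower A (Localization.AtPrime p) K :=
    IsScalarTower.of_algebraMap_eq (fun a => (IsLocalization.lift_eq hunitsK a).symm)
  have hφint : φ.IsIntegral := by
    have h1 : φ = e.symm.toRingHom.comp (algebraMap A (integralClosure A K)) := by
      ext a
      show φ a = e.symm (algebraMap A (integralClosure A K) a)
      rw [← he a, e.symm_apply_apply]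
    rw [h1]
    exact RingHom.IsIntegral.trans _ _ (algebraMap_isIntegral_iff.mpr inferInstance)
      (RingHom.isIntegral_of_surjective _ e.symm.surjective)
  constructor
  · rw [numBranches_eq_card_fibre A K p]
    apply ENat.card_congr
    refine Equiv.subtypeEquiv (PrimeSpectrum.comapEquiv e.symm).toEquiv ?_
    intro P
    show P.asIdeal.comap (algebraMap A (integralClosure A K)) = p ↔
      ((P.asIdeal.comap e.toRingHom).comap φ) = p
    rw [Ideal.comap_comap]
    have h2 : e.toRingHom.comp φ = algebraMap A (integralClosure A K) := RingHom.ext he
    rw [h2]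
  · rw [numGeomBranches_eq_card_hom A K p,
      ← card_hom_congr e φ (algebraMap A (integralClosure A K)) he]
    have h3 : (Brnch.toClosure (Localization.AtPrime p)).comp
        (algebraMap A (Localization.AtPrime p)) =
        (algebraMap p.ResidueField (AlgebraicClosure p.ResidueField)).comp
          (algebraMap A p.ResidueField) := by
      ext a
      rfl
    rw [h3]
    exact card_hom_eq_tsum φ hφint p _

end Main

end Groth.Agent.Lib.NormBranchH3
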