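import Mathlib
import Groth.Prelude.Def_Brnch
import Groth.Prelude.Def_Curv2
import Groth.Agent.Lib.NormBranch2_helper3
import Groth.Agent.Lib.NormDimOne2_helper7
import Groth.Agent.Lib.FibBranch1_helper3

/-!
# Branches of an integral scheme through the fibres of its normalization (helper3)

APPEND-ONLY once landed.
-/

set_option autoImplicit false
set_option maxSynthPendingDepth 3
universe u

namespace Groth.Agent.Lib.NormBranchH3

open AlgebraicGeometry CategoryTheory IsLocalRing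

section LocalArrow

/-- isomorphic local homomorphisms have the same number of embeddings of residue fields -/
theorem embCount_residueField_congr {R S R' S' : Type u} [CommRing R] [IsLocalRing R]
    [CommRing S] [IsLocalRing S] [CommRing R'] [IsLocalRing R'] [CommRing S'] [IsLocalRing S']
    (φ : R →+* S) [IsLocalHom φ] (φ' : R' →+* S') [IsLocalHom φ']
    (e₁ : R ≃+* R') (e₂ : S ≃+* S') (h : ∀ r, φ' (e₁ r) = e₂ (φ r))
    (hint : (ResidueField.map φ).IsIntegral) :
    embCount (ResidueField.map φ') = embCount (ResidueField.map φ) := by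
  refine embCount_congr _ _ (ResidueField.mapEquiv e₁) (ResidueField.mapEquiv e₂) ?_ hint
  intro c
  obtain ⟨r, rfl⟩ := residue_surjective c
  show ResidueField.map φ' (ResidueField.map (e₁ : R →+* R') (residue R r)) =
    ResidueField.map (e₂ : S →+* S') (ResidueField.map φ (residue R r))
  rw [ResidueField.map_residue, ResidueField.map_residue, ResidueField.map_residue,
    ResidueField.map_residue]
  exact congrArg _ (h r)

theorem embCount_map_congr {A B : Type u} [CommRing A] [CommRing B] (φ : A →+* B) (p : Ideal A)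
    [p.IsPrime] (P Q : Ideal B) [P.IsPrime] [Q.IsPrime] (hPQ : P = Q) (h : p = P.comap φ)
    (h' : p = Q.comap φ) :
    embCount (Ideal.ResidueField.map p P φ h) = embCount (Ideal.ResidueField.map p Q φ h') := by
  subst hPQ
  rfl

end LocalArrow

section Chart

variable {N X : Scheme.{u}} (f : N ⟶ X) {V : X.Opens} (hV : IsAffineOpen V)
  (hW : IsAffineOpen (f ⁻¹ᵁ V))

theorem primeIdealOf_fromSpec {Y : Scheme.{u}} {U : Y.Opens} (hU : IsAffineOpen U)
    (P : PrimeSpectrum Γ(Y, U)) (h : hU.fromSpec P ∈ U) :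
    hU.primeIdealOf ⟨hU.fromSpec P, h⟩ = P := by
  apply hU.fromSpec.isOpenEmbedding.injective
  exact hU.fromSpec_primeIdealOf ⟨hU.fromSpec P, h⟩

theorem fromSpec_mem {Y : Scheme.{u}} {U : Y.Opens} (hU : IsAffineOpen U)
    (P : PrimeSpectrum Γ(Y, U)) : hU.fromSpec P ∈ U := by
  have h1 : hU.fromSpec P ∈ Set.range hU.fromSpec := Set.mem_range_self P
  rw [hU.range_fromSpec] at h1
  exact h1

theorem primeIdealOf_injective {Y : Scheme.{u}} {U : Y.Opens} (hU : IsAffineOpen U)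
    (y₁ y₂ : U) (h : hU.primeIdealOf y₁ = hU.primeIdealOf y₂) : (y₁ : Y) = y₂ := by
  rw [← hU.fromSpec_primeIdealOf y₁, ← hU.fromSpec_primeIdealOf y₂, h]

include hV hW in
/-- the fibre of `f` over `x` in an affine chart -/
theorem exists_fibreEquiv (x : X) (hx : x ∈ V) :
    ∃ β : {x' : N // f.base x' = x} ≃
      {P : PrimeSpectrum Γ(N, f ⁻¹ᵁ V) //
        P.asIdeal.comap (f.appLE V (f ⁻¹ᵁ V) le_rfl).hom = (hV.primeIdealOf ⟨x, hx⟩).asIdeal},
      ∀ x' : {x' : N // f.base x' = x}, ∀ h : x'.1 ∈ f ⁻¹ᵁ V,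
        (β x').1 = hW.primeIdealOf ⟨x'.1, h⟩ := by
  have hmem : ∀ x' : {x' : N // f.base x' = x}, x'.1 ∈ f ⁻¹ᵁ V := by
    intro x'
    show f.base x'.1 ∈ V
    rw [x'.2]
    exact hx
  have hcomap : ∀ (x' : N) (h : x' ∈ f ⁻¹ᵁ V),
      (hW.primeIdealOf ⟨x', h⟩).comap (f.appLE V (f ⁻¹ᵁ V) le_rfl).hom =
        hV.primeIdealOf ⟨f.base x', h⟩ :=
    fun x' h => IsAffineOpen.comap_primeIdealOf_appLE V hV (f ⁻¹ᵁ V) hW le_rfl h
  have hcond : ∀ x' : {x' : N // f.base x' = x},
      (hW.primeIdealOf ⟨x'.1, hmem x'⟩).asIdeal.comap (f.appLE V (f ⁻¹ᵁ V) le_rfl).hom =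
        (hV.primeIdealOf ⟨x, hx⟩).asIdeal := by
    rintro ⟨x', rfl⟩
    exact congrArg PrimeSpectrum.asIdeal (hcomap x' _)
  refine ⟨Equiv.ofBijective (fun x' => ⟨hW.primeIdealOf ⟨x'.1, hmem x'⟩, hcond x'⟩) ⟨?_, ?_⟩,
    fun x' h => rfl⟩
  · intro x₁ x₂ h
    have h1 : hW.primeIdealOf ⟨x₁.1, hmem x₁⟩ = hW.primeIdealOf ⟨x₂.1, hmem x₂⟩ :=
      congrArg Subtype.val h
    exact Subtype.ext (primeIdealOf_injective hW _ _ h1)
  · rintro ⟨P, hP⟩
    have hP' : hW.fromSpec P ∈ f ⁻¹ᵁ V := fromSpec_mem hW P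
    have h2 : hV.primeIdealOf ⟨f.base (hW.fromSpec P), hP'⟩ = hV.primeIdealOf ⟨x, hx⟩ := by
      rw [← hcomap _ hP', primeIdealOf_fromSpec hW P hP']
      exact PrimeSpectrum.ext hP
    have h3 : f.base (hW.fromSpec P) = x := primeIdealOf_injective hV ⟨_, hP'⟩ ⟨x, hx⟩ h2
    refine ⟨⟨hW.fromSpec P, h3⟩, ?_⟩
    apply Subtype.ext
    exact primeIdealOf_fromSpec hW P _

include hV hW in
/-- the residue field extension at a point in an affine chart -/
theorem embCount_residueFieldMap (x' : N) (h : x' ∈ f ⁻¹ᵁ V)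
    (hint : (f.appLE V (f ⁻¹ᵁ V) le_rfl).hom.IsIntegral) :
    embCount (f.residueFieldMap x').hom =
      embCount (Ideal.ResidueField.map (hV.primeIdealOf ⟨f.base x', h⟩).asIdeal
        (hW.primeIdealOf ⟨x', h⟩).asIdeal (f.appLE V (f ⁻¹ᵁ V) le_rfl).hom
        congr($(IsAffineOpen.comap_primeIdealOf_appLE V hV (f ⁻¹ᵁ V) hW le_rfl h).1).symm) := by
  let i := IsAffineOpen.arrowStalkMapIso f V hV (f ⁻¹ᵁ V) hW le_rfl h
  haveI : IsLocalHom (Localization.localRingHom (hV.primeIdealOf ⟨f.base x', h⟩).asIdeal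
      (hW.primeIdealOf ⟨x', h⟩).asIdeal (f.appLE V (f ⁻¹ᵁ V) le_rfl).hom
      congr($(IsAffineOpen.comap_primeIdealOf_appLE V hV (f ⁻¹ᵁ V) hW le_rfl h).1).symm) :=
    Localization.isLocalHom_localRingHom _ _ _ _
  refine embCount_residueField_congr
    (Localization.localRingHom (hV.primeIdealOf ⟨f.base x', h⟩).asIdeal
      (hW.primeIdealOf ⟨x', h⟩).asIdeal (f.appLE V (f ⁻¹ᵁ V) le_rfl).hom
      congr($(IsAffineOpen.comap_primeIdealOf_appLE V hV (f ⁻¹ᵁ V) hW le_rfl h).1).symm)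
    (f.stalkMap x').hom
    (Arrow.leftFunc.mapIso i.symm).commRingCatIsoToRingEquiv
    (Arrow.rightFunc.mapIso i.symm).commRingCatIsoToRingEquiv ?_ ?_
  · intro r
    have hw := i.inv.w
    exact congr($(hw) r)
  · exact isIntegral_residueFieldMap _ hint _ _ _

end Chart

section Main

variable (X : Scheme.{u}) [IsIntegral X]
  [QuasiCompact (X.fromSpecStalk (genericPoint X))]
  [QuasiSeparated (X.fromSpecStalk (genericPoint X))]

theorem main7657' (x : X) :
    Brnch.numBranchesAt X x =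
        ENat.card {x' : ↥((X.fromSpecStalk (genericPoint X)).normalization) //
          (X.fromSpecStalk (genericPoint X)).fromNormalization.base x' = x} ∧
      Brnch.numGeomBranchesAt X x =
        ∑' x' : {x' : ↥((X.fromSpecStalk (genericPoint X)).normalization) //
          (X.fromSpecStalk (genericPoint X)).fromNormalization.base x' = x},
          embCount ((X.fromSpecStalk (genericPoint X)).fromNormalization.residueFieldMap
            x'.1).hom := by
  obtain ⟨_, ⟨V, hV, rfl⟩, hxV, -⟩ := X.isBasis_affineOpens.exists_subset_of_mem_open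
    (Set.mem_univ x) isOpen_univ
  haveI : Nonempty V := ⟨⟨x, hxV⟩⟩
  obtain ⟨ν, hνdef⟩ : ∃ ν : (X.fromSpecStalk (genericPoint X)).normalization ⟶ X,
      ν = (X.fromSpecStalk (genericPoint X)).fromNormalization := ⟨_, rfl⟩
  rw [← hνdef]
  haveI : IsIntegralHom ν := by
    rw [hνdef]
    infer_instance
  have hW : IsAffineOpen (ν ⁻¹ᵁ V) := hV.preimage ν
  letI algK : Algebra Γ(X, V)
      Γ(Spec X.functionField, (X.fromSpecStalk (genericPoint X)) ⁻¹ᵁ V) :=
    ((X.fromSpecStalk (genericPoint X)).app V).hom.toAlgebra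
  haveI := Groth.Agent.Lib.NormDimOne2H7.isFractionRing_app X V hV
  -- the isomorphism with the integral closure
  obtain ⟨e, he⟩ : ∃ e : Γ((X.fromSpecStalk (genericPoint X)).normalization, ν ⁻¹ᵁ V) ≃+*
      integralClosure Γ(X, V)
        Γ(Spec X.functionField, (X.fromSpecStalk (genericPoint X)) ⁻¹ᵁ V),
      ∀ a, e ((ν.appLE V (ν ⁻¹ᵁ V) le_rfl).hom a) = algebraMap _ _ a := by
    subst hνdef
    refine ⟨((X.fromSpecStalk (genericPoint X)).normalizationObjIso
      hV).commRingCatIsoToRingEquiv, ?_⟩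
    intro a
    have h := (X.fromSpecStalk (genericPoint X)).fromNormalization_app hV
    rw [← Scheme.Hom.app_eq_appLE]
    have h2 : ((X.fromSpecStalk (genericPoint X)).fromNormalization.app V).hom a =
        ((X.fromSpecStalk (genericPoint X)).normalizationObjIso hV).inv
          (algebraMap Γ(X, V) (integralClosure Γ(X, V)
            Γ(Spec X.functionField, (X.fromSpecStalk (genericPoint X)) ⁻¹ᵁ V)) a) :=
      congr($(h) a)
    rw [h2]
    exact congr($(((X.fromSpecStalk (genericPoint X)).normalizationObjIso hV).inv_hom_id) _)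
  have hint : (ν.appLE V (ν ⁻¹ᵁ V) le_rfl).hom.IsIntegral := by
    have h1 : (ν.appLE V (ν ⁻¹ᵁ V) le_rfl).hom = e.symm.toRingHom.comp (algebraMap Γ(X, V) _) := by
      ext a
      show _ = e.symm (algebraMap Γ(X, V) _ a)
      rw [← he a, e.symm_apply_apply]
    rw [h1]
    exact RingHom.IsIntegral.trans _ _ (algebraMap_isIntegral_iff.mpr inferInstance)
      (RingHom.isIntegral_of_surjective _ e.symm.surjective)
  obtain ⟨hR1, hR2⟩ := main_ring Γ(X, V)
    Γ(Spec X.functionField, (X.fromSpecStalk (genericPoint X)) ⁻¹ᵁ V)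
    (hV.primeIdealOf ⟨x, hxV⟩).asIdeal
    Γ((X.fromSpecStalk (genericPoint X)).normalization, ν ⁻¹ᵁ V)
    (ν.appLE V (ν ⁻¹ᵁ V) le_rfl).hom e he
  -- the stalk
  letI := X.presheaf.algebra_section_stalk ⟨x, hxV⟩
  haveI := hV.isLocalization_stalk ⟨x, hxV⟩
  let eO : X.presheaf.stalk x ≃+* Localization.AtPrime (hV.primeIdealOf ⟨x, hxV⟩).asIdeal :=
    (IsLocalization.algEquiv (hV.primeIdealOf ⟨x, hxV⟩).asIdeal.primeCompl
      (X.presheaf.stalk x) (Localization.AtPrime (hV.primeIdealOf ⟨x, hxV⟩).asIdeal)).toRingEquiv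
  obtain ⟨β, hβ⟩ := exists_fibreEquiv ν hV hW x hxV
  constructor
  · show Brnch.numBranches (X.presheaf.stalk x) = _
    rw [Groth.Agent.Lib.FibBranchH3.numBranches_eq_of_ringEquiv eO, hR1]
    exact (ENat.card_congr β).symm
  · show Brnch.numGeomBranches (X.presheaf.stalk x) = _
    rw [Groth.Agent.Lib.FibBranchH3.numGeomBranches_eq_of_ringEquiv eO, hR2, ← β.tsum_eq]
    apply tsum_congr
    rintro ⟨x', rfl⟩
    have hx' : x' ∈ ν ⁻¹ᵁ V := hxV
    rw [embCount_residueFieldMap ν hV hW x' hx' hint]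
    have hβ' := hβ ⟨x', rfl⟩ hx'
    have hPQ : (hW.primeIdealOf ⟨x', hx'⟩).asIdeal =
        (β ⟨x', rfl⟩).1.asIdeal := (congrArg PrimeSpectrum.asIdeal hβ').symm
    exact (embCount_map_congr (ν.appLE V (ν ⁻¹ᵁ V) le_rfl).hom
      (hV.primeIdealOf ⟨ν.base x', hxV⟩).asIdeal
      (hW.primeIdealOf ⟨x', hx'⟩).asIdeal (β ⟨x', rfl⟩).1.asIdeal hPQ _ _).symm

end Main

end Groth.Agent.Lib.NormBranchH3
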