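import Mathlib

/-!
# Separatedness descends along surjective universally closed morphisms (helper6)
APPEND-ONLY once landed.  Pure Mathlib.
-/

set_option autoImplicit false
set_option linter.all false

namespace Groth.Agent.Lib.NormBunH6

open AlgebraicGeometry CategoryTheory CategoryTheory.Limits TopologicalSpace Opposite

universe u

/-- If `g ≫ f` is separated with `g` surjective and universally closed, then `f` is separated. -/
theorem isSeparated_of_comp_surjective {X' X Y : Scheme.{u}} (g : X' ⟶ X) (f : X ⟶ Y)
    [Surjective g] [UniversallyClosed g] [IsSeparated (g ≫ f)] : IsSeparated f := by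
  rw [isSeparated_iff]
  apply IsClosedImmersion.of_isPreimmersion
  obtain ⟨G, hGdef⟩ : ∃ G : pullback (g ≫ f) (g ≫ f) ⟶ pullback f f,
      G = pullback.map (g ≫ f) (g ≫ f) f f g g (𝟙 Y) ((Category.comp_id _).trans rfl)
        ((Category.comp_id _).trans rfl) := ⟨_, rfl⟩
  have hG : UniversallyClosed G := by
    rw [hGdef]
    exact MorphismProperty.pullbackMap (P := @UniversallyClosed) inferInstance inferInstance rfl rfl
  have hcomm : pullback.diagonal (g ≫ f) ≫ G = g ≫ pullback.diagonal f := by
    rw [hGdef]
    ext
    · simp only [Category.assoc, pullback.lift_fst, pullback.diagonal_fst]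
      rw [← Category.assoc, pullback.diagonal_fst, Category.id_comp, Category.comp_id]
    · simp only [Category.assoc, pullback.lift_snd, pullback.diagonal_snd]
      rw [← Category.assoc, pullback.diagonal_snd, Category.id_comp, Category.comp_id]
  have hrange : Set.range (pullback.diagonal f) =
      G '' (Set.range (pullback.diagonal (g ≫ f))) := by
    have h1 : Set.range (g ≫ pullback.diagonal f) = Set.range (pullback.diagonal f) := by
      rw [Scheme.Hom.comp_base, TopCat.coe_comp, Set.range_comp, Set.range_eq_univ.mpr g.surjective,
        Set.image_univ]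
    rw [← h1, ← hcomm, Scheme.Hom.comp_base, TopCat.coe_comp, Set.range_comp]
  rw [hrange]
  exact G.isClosedMap _ (pullback.diagonal (g ≫ f)).isClosedEmbedding.isClosed_range

end Groth.Agent.Lib.NormBunH6
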