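import Mathlib
import Groth.Agent.S1556
import Groth.Agent.Lib.EtaleCurvePt_helper3

/-!
# Normal curves with separable residue fields are smooth (helper3)

APPEND-ONLY once landed.
-/

set_option autoImplicit false
universe u

open CategoryTheory CategoryTheory.Limits AlgebraicGeometry IsLocalRing

attribute [local instance] Curv2.resAlgebra

namespace Groth.Agent.Lib.NormCurveSmoothH3

/-- the local ring of a normal integral locally Noetherian scheme of dimension one at a closed
point is a discrete valuation ring -/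
theorem isDiscreteValuationRing_stalk {C : Scheme.{u}} [IsIntegral C] [IsLocallyNoetherian C]
    (hdim : topologicalKrullDim C = 1) (x : C) (hx : IsClosed ({x} : Set C))
    (hN : IsIntegrallyClosed (C.presheaf.stalk x)) :
    IsDiscreteValuationRing (C.presheaf.stalk x) := by
  have hne := Groth.Agent.Lib.EtaleCurvePtH3.maximalIdeal_ne_bot_of_isClosed hdim x hx
  have hnf : ¬ IsField (C.presheaf.stalk x) := fun h =>
    hne (IsLocalRing.isField_iff_maximalIdeal_eq.mp h)
  have hle : ringKrullDim (C.presheaf.stalk x) ≤ 1 := by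
    have := Groth.Agent.Lib.EtaleCurvePtH3.ringKrullDim_stalk_le C x
    rw [hdim] at this
    exact this
  haveI : Ring.KrullDimLE 1 (C.presheaf.stalk x) := Ring.krullDimLE_iff.mpr hle
  have h4 : IsIntegrallyClosed (C.presheaf.stalk x) ∧
      ∃! P : Ideal (C.presheaf.stalk x), P ≠ ⊥ ∧ P.IsPrime := by
    refine ⟨hN, maximalIdeal _, ⟨hne, inferInstance⟩, ?_⟩
    rintro P ⟨hP0, hP⟩
    exact IsLocalRing.eq_maximalIdeal (hP.isMaximal_of_ne_bot hP0)
  exact ((IsDiscreteValuationRing.TFAE (C.presheaf.stalk x) hnf).out 0 3).mpr h4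

theorem main13844 (K : Type u) [Field K] (C : Scheme.{u}) [C.Over (Spec (CommRingCat.of K))]
    [IsIntegral C] [IsSeparated (C ↘ (Spec (CommRingCat.of K)))]
    [LocallyOfFinitePresentation (C ↘ (Spec (CommRingCat.of K)))]
    [QuasiCompact (C ↘ (Spec (CommRingCat.of K)))]
    (hN : ∀ x : C, IsIntegrallyClosed (C.presheaf.stalk x))
    (hdim : topologicalKrullDim C = 1) (S : Set C)
    (hS : ∀ x ∈ S, IsClosed ({x} : Set C) ∧ Algebra.IsSeparable K (C.residueField x))
    (hsm : ∀ x : C, x ∉ S → x ∈ (C ↘ (Spec (CommRingCat.of K))).smoothLocus) :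
    AlgebraicGeometry.Smooth (C ↘ (Spec (CommRingCat.of K))) := by
  haveI : IsLocallyNoetherian C :=
    LocallyOfFiniteType.isLocallyNoetherian (C ↘ (Spec (CommRingCat.of K)))
  rw [← Scheme.Hom.smoothLocus_eq_top_iff, eq_top_iff]
  intro x _
  by_cases hxS : x ∈ S
  · obtain ⟨hcl, hsep⟩ := hS x hxS
    haveI := hsep
    exact (Groth.Agent.S1556.result K C hdim x hcl).mp
      (isDiscreteValuationRing_stalk hdim x hcl (hN x))
  · exact hsm x hxS

end Groth.Agent.Lib.NormCurveSmoothH3
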