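import Mathlib
import Groth.Prelude
import Groth.Agent.Lib.NormAmple1_helper5
import Groth.Agent.Lib.Tens17_helper8

/-!
# Descent of ampleness along a finite morphism carrying a weak norm (helper6)
APPEND-ONLY once landed.

A *weak norm* of degree `D` for `π : X ⟶ Y` is a family of multiplicative maps
`Γ(X, π⁻¹U) → Γ(Y, U)` compatible with restriction, with `N(π♯ g) = g ^ D`, such that every point
where `N(s)` does not vanish has a preimage where `s` does not vanish.  (For a norm in the sense of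
`Nrm.NormOfDegree` all preimages have this property.)

* `isAmple_of_wnorm`: if `π` is finite with a weak norm and `π^* M` is ample, then `M` is ample.
-/

set_option autoImplicit false
set_option linter.all false

namespace Groth.Agent.Lib.NormDescH6

open AlgebraicGeometry CategoryTheory CategoryTheory.Limits TopologicalSpace Opposite
open QcqsLoc GenLocH8 FLFH8 QCohExtn TensH8 PBH8
open NormSecH8 (locusDown mem_locusDown isUnit_rX_of_le_basicOpen le_basicOpen_of_isUnit_rX)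
open Groth.Agent.NormPic (pre_mono)

universe u

variable {X Y : Scheme.{u}}

/-- A weak norm of degree `D`. -/
structure WNorm (π : X ⟶ Y) (D : ℕ) where
  one_le : 1 ≤ D
  norm : ∀ U : Y.Opens, Γ(X, π ⁻¹ᵁ U) →* Γ(Y, U)
  norm_res : ∀ {U V : Y.Opens} (i : V ⟶ U) (s : Γ(X, π ⁻¹ᵁ U)),
    Y.presheaf.map i.op (norm U s) = norm V (X.presheaf.map ((Opens.map π.base).map i).op s)
  norm_app : ∀ (U : Y.Opens) (g : Γ(Y, U)), norm U (π.app U g) = g ^ D
  norm_mem : ∀ (U : Y.Opens) (s : Γ(X, π ⁻¹ᵁ U)) (y : Y), y ∈ Y.basicOpen (norm U s) →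
    ∃ x : X, π.base x = y ∧ x ∈ X.basicOpen s

variable (π : X ⟶ Y) {D : ℕ} (nm : WNorm π D)

theorem WNorm.norm_rX {U V : Y.Opens} (h : V ≤ U) (a : Γ(X, π ⁻¹ᵁ U)) :
    rX h (nm.norm U a) = nm.norm V (rX (X := X) (pre_mono π h) a) :=
  nm.norm_res (homOfLE h) a

include nm in
theorem WNorm.surjective : Function.Surjective π := by
  intro y
  have h1 : y ∈ Y.basicOpen (nm.norm ⊤ 1) := by
    rw [map_one, Y.basicOpen_of_isUnit isUnit_one]
    trivial
  obtain ⟨x, hx, -⟩ := nm.norm_mem ⊤ 1 y h1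
  exact ⟨x, hx⟩

/-- a point all of whose preimages lie in `D(a)` lies in `D(Nm a)`. -/
theorem WNorm.mem_basicOpen_norm (hcl : IsClosedMap π.base) (V : Y.Opens) (a : Γ(X, π ⁻¹ᵁ V))
    (y : Y) (hyV : y ∈ V) (h : ∀ x : X, π.base x = y → x ∈ X.basicOpen a) :
    y ∈ Y.basicOpen (nm.norm V a) := by
  let V' : Y.Opens := V ⊓ locusDown π (X.basicOpen a) hcl
  have hV' : V' ≤ V := inf_le_left
  have hyV' : y ∈ V' := ⟨hyV, mem_locusDown.2 h⟩
  have hle : π ⁻¹ᵁ V' ≤ X.basicOpen a := by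
    intro x hx
    exact mem_locusDown.1 hx.2 x rfl
  have h1 : IsUnit (rX (X := X) (pre_mono π hV') a) :=
    isUnit_rX_of_le_basicOpen a (pre_mono π hV') hle
  have h2 : IsUnit (rX hV' (nm.norm V a)) := by
    rw [nm.norm_rX]
    exact h1.map (nm.norm V')
  exact le_basicOpen_of_isUnit_rX _ hV' h2 hyV'

include nm in
/-- **Descent of ampleness along a finite morphism with a weak norm.** -/
theorem isAmple_of_wnorm [IsFinite π] {M : Y.Modules} (hM : PicF.IsInvertible M)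
    (hL' : CohB1.IsAmple ((Scheme.Modules.pullback π).obj M)) : CohB1.IsAmple M := by
  classical
  have hsurj : Function.Surjective π := nm.surjective π
  obtain ⟨hLinv, hc, -⟩ := id hL'
  haveI := hc
  haveI : CompactSpace Y := hsurj.compactSpace π.continuous
  have hcl : IsClosedMap π.base := π.isClosedMap
  -- trivialising affine opens downstairs
  have hloc : ∀ y : Y, ∃ V : Y.Opens, IsAffineOpen V ∧ y ∈ V ∧ ∃ e : Γ(M, V), IsGen M V e :=
    fun y => exists_isGen hM y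
  choose V hVaff hyV e he using hloc
  obtain ⟨L', hL'def⟩ : ∃ L' : X.Modules, L' = (Scheme.Modules.pullback π).obj M := ⟨_, rfl⟩
  rw [← hL'def] at hL' hLinv
  let U : Y → X.Opens := fun y => π ⁻¹ᵁ V y
  have he'ex : ∀ p : Y, ∃ e' : Γ(L', U p), IsGen L' (U p) e' ∧
      HEq e' (cUV π M (le_rfl : π ⁻¹ᵁ V p ≤ π ⁻¹ᵁ V p) (e p)) := by
    intro p
    subst hL'def
    exact ⟨_, isGen_cUV π hM (hVaff p) (he p), HEq.rfl⟩
  choose e' he' hee' using he'ex
  -- transitions downstairs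
  have hh : ∀ p q : Y, ∃ h : Γ(Y, V p ⊓ V q),
      rF M (inf_le_left : V p ⊓ V q ≤ V p) (e p) = h • rF M (inf_le_right : V p ⊓ V q ≤ V q) (e q) :=
    fun p q => ((he q).res inf_le_right).exists_coef _
  choose h hh using hh
  -- transitions upstairs
  let g : ∀ p q : Y, Γ(X, U p ⊓ U q) := fun p q => (π.app (V p ⊓ V q)).hom (h p q)
  have hg : ∀ p q : Y, rF L' (inf_le_left : U p ⊓ U q ≤ U p) (e' p) =
      g p q • rF L' (inf_le_right : U p ⊓ U q ≤ U q) (e' q) := by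
    intro p q
    subst hL'def
    rw [eq_of_heq (hee' p), eq_of_heq (hee' q)]
    have hl : V p ⊓ V q ≤ V p := inf_le_left
    have hr : V p ⊓ V q ≤ V q := inf_le_right
    have h' : U p ⊓ U q ≤ π ⁻¹ᵁ (V p ⊓ V q) := le_rfl
    have h1 := rF_cUV π M (le_rfl : π ⁻¹ᵁ V p ≤ π ⁻¹ᵁ V p)
      (inf_le_left : U p ⊓ U q ≤ U p) (e p)
    have h2 := rF_cUV π M (le_rfl : π ⁻¹ᵁ V q ≤ π ⁻¹ᵁ V q)
      (inf_le_right : U p ⊓ U q ≤ U q) (e q)
    have hgg : g p q = (π.appLE (V p ⊓ V q) (U p ⊓ U q) h').hom (h p q) := by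
      have := Scheme.Hom.appLE_eq_app (f := π) (U := V p ⊓ V q)
      exact (congrArg (fun ψ => ψ.hom (h p q)) this).symm
    refine h1.trans (Eq.trans ?_ (congrArg (fun z => g p q • z) h2.symm))
    calc cUV π M _ (e p) = cUV π M h' (rF M hl (e p)) := (cUV_resV π M hl h' (e p)).symm
      _ = cUV π M h' (h p q • rF M hr (e q)) := by rw [hh p q]
      _ = (π.appLE (V p ⊓ V q) (U p ⊓ U q) h').hom (h p q) • cUV π M h' (rF M hr (e q)) :=
          cUV_smul π M h' _ _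
      _ = g p q • cUV π M _ (e q) := by rw [cUV_resV π M hr h' (e q), hgg]
  have hVtop : iSup V = ⊤ := eq_top_iff.mpr (fun y _ => Opens.mem_iSup.mpr ⟨y, hyV y⟩)
  refine (isAmple_iff_isBasis hM).mpr ?_
  rw [Opens.isBasis_iff_nbhd]
  intro W y hyW
  have hZ : (π ⁻¹' {y}).Finite := π.finite_preimage_singleton y
  have hZW : π ⁻¹' {y} ⊆ (π ⁻¹ᵁ W : X.Opens) := by
    intro x hx
    show π.base x ∈ W
    rw [show π.base x = y from hx]
    exact hyW
  obtain ⟨n, s, hZs, hsW, -⟩ := exists_affine_genLocus_of_finite hL' _ hZ (π ⁻¹ᵁ W) hZW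
  -- coefficients
  let a : ∀ p : Y, Γ(X, U p) := fun p => (Frame.pow L' (n + 1)).coefHom s (U p) (e' p) (he' p)
  have ha : ∀ p, SecTwist.val s (U p) = a p • (Frame.pow L' (n + 1)).φ (U p) (e' p) :=
    fun p => (Frame.pow L' (n + 1)).coefHom_spec s (U p) (e' p) (he' p)
  have hloc_s : ∀ p, CohB1.genLocus _ s ⊓ U p = X.basicOpen (a p) :=
    fun p => genLocus_inf_eq s ((Frame.pow L' (n + 1)).isGen (he' p)) (a p) (ha p)
  -- relation between coefficients
  have hrel : ∀ p q, rX (inf_le_right : U p ⊓ U q ≤ U q) (a q) =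
      rX (inf_le_left : U p ⊓ U q ≤ U p) (a p) * g p q ^ (n + 1) := by
    intro p q
    apply IsGen.coef_ext ((Frame.pow L' (n + 1)).isGen
      ((he' q).res (inf_le_right : U p ⊓ U q ≤ U q)))
    have e1 := congrArg (rF (CohB1.tensorPow L' (n + 1)) (inf_le_left : U p ⊓ U q ≤ U p)) (ha p)
    have e2 := congrArg (rF (CohB1.tensorPow L' (n + 1)) (inf_le_right : U p ⊓ U q ≤ U q)) (ha q)
    rw [rF_val, rF_smul, (Frame.pow L' (n + 1)).res] at e1 e2
    rw [hg p q, (Frame.pow L' (n + 1)).smul, ← mul_smul] at e1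
    rw [← e2, ← e1]
  -- the target power
  obtain ⟨m, hm⟩ : ∃ m : ℕ, D * (n + 1) = m + 1 :=
    ⟨D * (n + 1) - 1, by have := nm.one_le; have : 0 < D * (n + 1) := by positivity
                         omega⟩
  -- the norm section
  have hcompat : ∀ p q, rF (CohB1.tensorPow M (m + 1)) (inf_le_left : V p ⊓ V q ≤ V p)
        (nm.norm (V p) (a p) • (Frame.pow M (m + 1)).φ (V p) (e p)) =
      rF (CohB1.tensorPow M (m + 1)) (inf_le_right : V p ⊓ V q ≤ V q)
        (nm.norm (V q) (a q) • (Frame.pow M (m + 1)).φ (V q) (e q)) := by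
    intro p q
    rw [rF_smul, rF_smul, (Frame.pow M (m + 1)).res, (Frame.pow M (m + 1)).res, hh p q,
      (Frame.pow M (m + 1)).smul, nm.norm_rX, nm.norm_rX, ← mul_smul]
    congr 1
    obtain ⟨x1, hx1⟩ : ∃ x1 : Γ(X, π ⁻¹ᵁ (V p ⊓ V q)),
        x1 = rX (inf_le_left : U p ⊓ U q ≤ U p) (a p) := ⟨_, rfl⟩
    obtain ⟨x2, hx2⟩ : ∃ x2 : Γ(X, π ⁻¹ᵁ (V p ⊓ V q)),
        x2 = rX (inf_le_right : U p ⊓ U q ≤ U q) (a q) := ⟨_, rfl⟩
    obtain ⟨g', hg'⟩ : ∃ g' : Γ(X, π ⁻¹ᵁ (V p ⊓ V q)), g' = (π.app (V p ⊓ V q)).hom (h p q) :=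
      ⟨_, rfl⟩
    have hrel' : x2 = x1 * g' ^ (n + 1) := by
      rw [hx1, hx2, hg']
      exact hrel p q
    have h3 : nm.norm (V p ⊓ V q) x2 = nm.norm (V p ⊓ V q) x1 * h p q ^ (m + 1) := by
      rw [hrel', map_mul, map_pow, hg', nm.norm_app, ← pow_mul, hm]
    rw [hx1, hx2] at h3
    exact h3.symm
  obtain ⟨σ, hσ⟩ := glue (CohB1.tensorPow M (m + 1)) V ⊤ (fun _ => le_top)
    (hVtop ▸ le_rfl) (fun p => nm.norm (V p) (a p) • (Frame.pow M (m + 1)).φ (V p) (e p)) hcompat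
  obtain ⟨t, htdef⟩ : ∃ t : Coh.structureModule Y ⟶ CohB1.tensorPow M (m + 1),
      t = homOfSec (CohB1.tensorPow M (m + 1)) σ := ⟨_, rfl⟩
  have hloc_t : ∀ p, CohB1.genLocus _ t ⊓ V p = Y.basicOpen (nm.norm (V p) (a p)) :=
    fun p => genLocus_inf_eq t ((Frame.pow M (m + 1)).isGen (he p)) _
      (by rw [htdef, val_homOfSec]; exact hσ p)
  refine ⟨CohB1.genLocus _ t, ⟨m, t, rfl⟩, ?_, ?_⟩
  · have h1 : y ∈ Y.basicOpen (nm.norm (V y) (a y)) :=
      nm.mem_basicOpen_norm π hcl (V y) (a y) y (hyV y) (fun x hx => by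
        have h2 : x ∈ CohB1.genLocus _ s ⊓ U y :=
          ⟨hZs hx, by show π.base x ∈ V y; rw [hx]; exact hyV y⟩
        rw [hloc_s y] at h2
        exact h2)
    rw [← hloc_t y] at h1
    exact h1.1
  · intro z hz
    have h1 : z ∈ CohB1.genLocus _ t ⊓ V z := ⟨hz, hyV _⟩
    rw [hloc_t] at h1
    obtain ⟨x, hxz, h2⟩ := nm.norm_mem _ _ z h1
    rw [← hloc_s] at h2
    have h3 : x ∈ (π ⁻¹ᵁ W : X.Opens) := hsW h2.1
    rw [← hxz]
    exact h3

end Groth.Agent.Lib.NormDescH6
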