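import Mathlib

/-!
# Ring-level lemmas on norms over a normal local ring (helper6)
APPEND-ONLY once landed.

* `isIntegral_charpoly_coeff`: the coefficients of the characteristic polynomial of a matrix killed
  by a monic polynomial over `R` are integral over `R`.
* `exists_denominator`: an element of `R_r` integral over the domain `R` is a fraction `a / b` with
  `b ∉ p` when `R_p` is integrally closed.
* `exists_mul_norm_eq`: the norm of an element of a finite algebra, computed over a free
  localization `R_r`, is such a fraction.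
* `exists_prime_over_not_mem`: if that norm is (up to a power) a unit of `R`, some prime over `p`
  does not contain the element.
-/

set_option autoImplicit false
set_option linter.all false

namespace Groth.Agent.Lib.NormDescH6

open Polynomial
universe u

theorem isIntegral_charpoly_coeff {R S : Type*} [CommRing R] [CommRing S] [IsDomain S] [Algebra R S]
    {n : Type*} [Fintype n] [DecidableEq n] (M : Matrix n n S) (P : Polynomial R) (hP : P.Monic)
    (hM : Polynomial.aeval M P = 0) (j : ℕ) : IsIntegral R (M.charpoly.coeff j) := by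
  let L := AlgebraicClosure (FractionRing S)
  have hinj : Function.Injective (algebraMap S L) := by
    rw [IsScalarTower.algebraMap_eq S (FractionRing S) L]
    exact (algebraMap (FractionRing S) L).injective.comp (IsFractionRing.injective S (FractionRing S))
  have : IsScalarTower R S L := inferInstance
  -- reduce to L
  rw [← isIntegral_algebraMap_iff hinj]
  let M' : Matrix n n L := M.map (algebraMap S L)
  have hch : M'.charpoly = M.charpoly.map (algebraMap S L) := Matrix.charpoly_map M _
  have hco : algebraMap S L (M.charpoly.coeff j) = M'.charpoly.coeff j := by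
    rw [hch, Polynomial.coeff_map]
  rw [hco]
  -- M' is killed by P
  have hM' : Polynomial.aeval M' P = 0 := by
    have := Polynomial.aeval_algHom_apply (AlgHom.mapMatrix (IsScalarTower.toAlgHom R S L)) M P
    rw [hM, map_zero] at this
    exact this
  -- roots are integral
  have hroots : ∀ μ ∈ M'.charpoly.roots, μ ∈ (algebraMap (integralClosure R L) L).range := by
    intro μ hμ
    have hr : M'.charpoly.IsRoot μ := (Polynomial.mem_roots'.mp hμ).2
    have hsp : μ ∈ spectrum L M' := Matrix.mem_spectrum_iff_isRoot_charpoly.mpr hr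
    have h1 := spectrum.subset_polynomial_aeval M' (P.map (algebraMap R L)) ⟨μ, hsp, rfl⟩
    rw [Polynomial.aeval_map_algebraMap, hM'] at h1
    have h2 : eval μ (P.map (algebraMap R L)) = 0 := by
      by_contra hne
      apply (spectrum.mem_iff.mp h1)
      rw [sub_zero]
      exact (IsUnit.mk0 _ hne).map (algebraMap L (Matrix n n L))
    have hint : IsIntegral R μ := ⟨P, hP, by rwa [Polynomial.eval_map] at h2⟩
    exact ⟨⟨μ, hint⟩, rfl⟩
  have hmem := (IsAlgClosed.splits M'.charpoly).mem_lift_of_roots_mem_range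
    (Matrix.charpoly_monic M') (algebraMap (integralClosure R L) L) hroots
  obtain ⟨q, hq⟩ := hmem
  rw [← hq, Polynomial.coe_mapRingHom, Polynomial.coeff_map]
  exact (q.coeff j).2

theorem exists_denominator {R R' Rp : Type u} [CommRing R] [IsDomain R] [CommRing R'] [CommRing Rp]
    (ρ : R →+* R') (r : R) (hr : r ≠ 0) (h1 : @IsLocalization.Away R _ r R' _ ρ.toAlgebra)
    (p : Ideal R) [p.IsPrime] [Algebra R Rp] [IsLocalization.AtPrime Rp p] [IsIntegrallyClosed Rp]
    (x : R') (hx : ρ.IsIntegralElem x) : ∃ a b : R, b ∉ p ∧ ρ b * x = ρ a := by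
  letI := ρ.toAlgebra
  haveI : IsLocalization (Submonoid.powers r) R' := h1
  let K := FractionRing R
  have hM : Submonoid.powers r ≤ nonZeroDivisors R :=
    Submonoid.powers_le.mpr (mem_nonZeroDivisors_of_ne_zero hr)
  have hP : p.primeCompl ≤ nonZeroDivisors R := p.primeCompl_le_nonZeroDivisors
  let f : R' →+* K := IsLocalization.map _ (T := nonZeroDivisors R) (RingHom.id R) hM
  let g : Rp →+* K := IsLocalization.map _ (T := nonZeroDivisors R) (RingHom.id R) hP
  algebraize [f, g]
  have : IsScalarTower R R' K := IsScalarTower.of_algebraMap_eq (fun a => by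
    have h := IsLocalization.map_eq (M := Submonoid.powers r) (S := R') (T := nonZeroDivisors R)
      (Q := K) (g := RingHom.id R) hM a
    exact h.symm)
  have : IsScalarTower R Rp K := IsScalarTower.of_algebraMap_eq (fun a => by
    have h := IsLocalization.map_eq (M := p.primeCompl) (S := Rp) (T := nonZeroDivisors R)
      (Q := K) (g := RingHom.id R) hP a
    exact h.symm)
  haveI : IsDomain R' := IsLocalization.isDomain_of_le_nonZeroDivisors R' hM
  haveI : IsDomain Rp := IsLocalization.isDomain_of_le_nonZeroDivisors Rp hP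
  haveI := IsFractionRing.isFractionRing_of_isDomain_of_isLocalization (Submonoid.powers r) R' K
  haveI := IsFractionRing.isFractionRing_of_isDomain_of_isLocalization p.primeCompl Rp K
  have hxi : IsIntegral R x := hx
  have h2 : IsIntegral R (algebraMap R' K x) := hxi.algebraMap
  have h3 : IsIntegral Rp (algebraMap R' K x) := h2.tower_top
  obtain ⟨y, hy⟩ := IsIntegrallyClosed.isIntegral_iff.mp h3
  obtain ⟨⟨a, b⟩, hab⟩ := IsLocalization.surj p.primeCompl y
  refine ⟨a, b.1, b.2, ?_⟩
  apply IsFractionRing.injective R' K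
  have h4 := congrArg (algebraMap Rp K) hab
  rw [map_mul, hy, ← IsScalarTower.algebraMap_apply, ← IsScalarTower.algebraMap_apply] at h4
  rw [map_mul, mul_comm]
  show algebraMap R' K x * algebraMap R' K (algebraMap R R' b.1) = algebraMap R' K (algebraMap R R' a)
  rw [← IsScalarTower.algebraMap_apply, ← IsScalarTower.algebraMap_apply]
  exact h4

theorem exists_charpoly {R S R' S' : Type u} [CommRing R] [CommRing S] [CommRing R'] [CommRing S']
    [IsDomain R']
    (φ : R →+* S) (φ' : R' →+* S') (ρ : R →+* R') (σ : S →+* S')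
    (hcomm : ∀ x, σ (φ x) = φ' (ρ x))
    (hfree : letI := φ'.toAlgebra; Module.Free R' S')
    (hfin' : letI := φ'.toAlgebra; Module.Finite R' S')
    (hint : φ.IsIntegral) (s : S) :
    ∃ χ : Polynomial R', χ.Monic ∧ (∀ j, ρ.IsIntegralElem (χ.coeff j)) ∧ χ.eval₂ φ' (σ s) = 0 ∧
      (letI := φ'.toAlgebra; Algebra.norm R' (σ s)) = (-1) ^ χ.natDegree * χ.coeff 0 := by
  classical
  letI := φ'.toAlgebra
  letI := ρ.toAlgebra
  haveI := hfree
  haveI := hfin'
  let b := Module.Free.chooseBasis R' S'
  let M := Algebra.leftMulMatrix b (σ s)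
  obtain ⟨P, hP, hPs⟩ := hint s
  have h0 : Polynomial.aeval (σ s) (P.map ρ) = 0 := by
    rw [Polynomial.aeval_def, Polynomial.eval₂_map]
    have : (algebraMap R' S').comp ρ = σ.comp φ := by
      ext x
      exact (hcomm x).symm
    rw [this, ← Polynomial.hom_eval₂, hPs, map_zero]
  have h1 : Polynomial.aeval M (P.map (algebraMap R R')) = 0 := by
    have := Polynomial.aeval_algHom_apply (Algebra.leftMulMatrix b) (σ s) (P.map ρ)
    rw [h0, map_zero] at this
    exact this
  rw [Polynomial.aeval_map_algebraMap] at h1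
  refine ⟨M.charpoly, Matrix.charpoly_monic M, fun j => isIntegral_charpoly_coeff M P hP h1 j, ?_, ?_⟩
  · have h2 := Polynomial.aeval_algHom_apply (Algebra.leftMulMatrix b) (σ s) M.charpoly
    rw [Matrix.aeval_self_charpoly] at h2
    have h3 : Polynomial.aeval (σ s) M.charpoly = 0 :=
      Algebra.leftMulMatrix_injective b (h2.symm.trans (map_zero _).symm)
    exact h3
  · rw [Algebra.norm_eq_matrix_det b, Matrix.det_eq_sign_charpoly_coeff, Matrix.charpoly_natDegree_eq_dim]

theorem exists_mul_norm_eq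
    {R S R' S' Rp : Type u} [CommRing R] [IsDomain R] [CommRing S] [CommRing R'] [CommRing S']
    [CommRing Rp]
    (φ : R →+* S) (φ' : R' →+* S') (ρ : R →+* R') (σ : S →+* S')
    (hcomm : ∀ x, σ (φ x) = φ' (ρ x)) (r : R) (hr : r ≠ 0)
    (h1 : @IsLocalization.Away R _ r R' _ ρ.toAlgebra)
    (hfree : letI := φ'.toAlgebra; Module.Free R' S')
    (hfin' : letI := φ'.toAlgebra; Module.Finite R' S')
    (hint : φ.IsIntegral)
    (p : Ideal R) [p.IsPrime] [Algebra R Rp] [IsLocalization.AtPrime Rp p] [IsIntegrallyClosed Rp]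
    (s : S) :
    ∃ a b : R, b ∉ p ∧ ρ b * (letI := φ'.toAlgebra; Algebra.norm R' (σ s)) = ρ a := by
  have hM : Submonoid.powers r ≤ nonZeroDivisors R :=
    Submonoid.powers_le.mpr (mem_nonZeroDivisors_of_ne_zero hr)
  haveI : IsDomain R' := by
    letI := ρ.toAlgebra
    haveI : IsLocalization (Submonoid.powers r) R' := h1
    exact IsLocalization.isDomain_of_le_nonZeroDivisors R' hM
  obtain ⟨χ, -, hχi, -, hn⟩ := exists_charpoly φ φ' ρ σ hcomm hfree hfin' hint s
  obtain ⟨a, b, hb, hab⟩ := exists_denominator (Rp := Rp) ρ r hr h1 p _ (hχi 0)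
  refine ⟨(-1) ^ χ.natDegree * a, b, hb, ?_⟩
  rw [hn, map_mul, map_pow, map_neg, map_one, ← hab]
  ring

theorem exists_prime_over_not_mem
    {R S R' S' Rp : Type u} [CommRing R] [IsDomain R] [CommRing S] [CommRing R'] [CommRing S']
    [CommRing Rp]
    (φ : R →+* S) (φ' : R' →+* S') (ρ : R →+* R') (σ : S →+* S')
    (hcomm : ∀ x, σ (φ x) = φ' (ρ x)) (r : R) (hr : r ≠ 0)
    (h1 : @IsLocalization.Away R _ r R' _ ρ.toAlgebra)
    (hfree : letI := φ'.toAlgebra; Module.Free R' S')
    (hfin' : letI := φ'.toAlgebra; Module.Finite R' S')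
    (hint : φ.IsIntegral)
    (p : Ideal R) [p.IsPrime] [Algebra R Rp] [IsLocalization.AtPrime Rp p] [IsIntegrallyClosed Rp]
    (hinj : Function.Injective φ)
    (h2 : @IsLocalization.Away S _ (φ r) S' _ σ.toAlgebra)
    (s : S) (e : ℕ) (he : 1 ≤ e) (t : R) (ht : IsUnit t)
    (hnorm : (letI := φ'.toAlgebra; Algebra.norm R' (σ s)) ^ e = ρ t) :
    ∃ q : Ideal S, q.IsPrime ∧ q.comap φ = p ∧ s ∉ q := by
  classical
  have hM : Submonoid.powers r ≤ nonZeroDivisors R :=
    Submonoid.powers_le.mpr (mem_nonZeroDivisors_of_ne_zero hr)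
  letI := ρ.toAlgebra
  haveI : IsLocalization (Submonoid.powers r) R' := h1
  haveI : IsDomain R' := IsLocalization.isDomain_of_le_nonZeroDivisors R' hM
  have hρinj : Function.Injective ρ := IsLocalization.injective R' hM
  obtain ⟨χ, hχm, hχi, hχ0, hn⟩ := exists_charpoly φ φ' ρ σ hcomm hfree hfin' hint s
  obtain ⟨N, hN⟩ : ∃ N : R', N = (letI := φ'.toAlgebra; Algebra.norm R' (σ s)) := ⟨_, rfl⟩
  rw [← hN] at hn hnorm
  -- a common denominator
  have hden : ∀ J : Finset ℕ, ∃ b : R, b ∉ p ∧ ∀ j ∈ J, ρ b * χ.coeff j ∈ Set.range ρ := by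
    intro J
    induction J using Finset.induction_on with
    | empty => exact ⟨1, fun h => ‹p.IsPrime›.ne_top ((Ideal.eq_top_iff_one _).mpr h), by simp⟩
    | insert j J hj ih =>
      obtain ⟨b, hb, hbJ⟩ := ih
      obtain ⟨a', b', hb', hab'⟩ := exists_denominator (Rp := Rp) ρ r hr h1 p _ (hχi j)
      refine ⟨b * b', fun h => (‹p.IsPrime›.mem_or_mem h).elim hb hb', ?_⟩
      intro i hi
      rcases Finset.mem_insert.mp hi with rfl | hi
      · exact ⟨b * a', by rw [map_mul, map_mul, ← hab']; ring⟩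
      · obtain ⟨c, hc⟩ := hbJ i hi
        exact ⟨b' * c, by rw [map_mul, map_mul, hc]; ring⟩
  obtain ⟨b, hb, hbJ⟩ := hden (Finset.range (χ.natDegree + 1))
  have hlift : Polynomial.C (ρ b) * χ ∈ Polynomial.lifts ρ := by
    rw [Polynomial.lifts_iff_coeff_lifts]
    intro j
    rw [Polynomial.coeff_C_mul]
    by_cases hj : j ∈ Finset.range (χ.natDegree + 1)
    · exact hbJ j hj
    · have : χ.coeff j = 0 := Polynomial.coeff_eq_zero_of_natDegree_lt (by
        rw [Finset.mem_range] at hj; omega)
      rw [this, mul_zero]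
      exact ⟨0, map_zero _⟩
  obtain ⟨Q, hQ⟩ := hlift
  rw [Polynomial.coe_mapRingHom] at hQ
  -- the element
  obtain ⟨c, hc⟩ : ∃ c : S, c = Q.eval₂ φ s := ⟨_, rfl⟩
  have hσc : σ c = 0 := by
    rw [hc, Polynomial.hom_eval₂]
    have : σ.comp φ = φ'.comp ρ := by
      ext x
      exact hcomm x
    rw [this, ← Polynomial.eval₂_map, hQ, Polynomial.eval₂_mul, hχ0, mul_zero]
  obtain ⟨k, hk⟩ : ∃ k : ℕ, φ r ^ k * c = 0 := by
    letI := σ.toAlgebra
    haveI : IsLocalization (Submonoid.powers (φ r)) S' := h2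
    have h3 : algebraMap S S' c = algebraMap S S' 0 := by rw [map_zero]; exact hσc
    obtain ⟨⟨_, k, rfl⟩, hk⟩ := (IsLocalization.eq_iff_exists (Submonoid.powers (φ r)) S').mp h3
    exact ⟨k, by simpa using hk⟩
  -- constant coefficient
  have ha0 : ρ (Q.coeff 0) = ρ b * χ.coeff 0 := by
    rw [← Polynomial.coeff_map, hQ, Polynomial.coeff_C_mul]
  have ha0p : Q.coeff 0 ∉ p := by
    intro hmem
    have hε : ((-1 : R') ^ χ.natDegree) * ((-1 : R') ^ χ.natDegree) = 1 := by
      rw [← mul_pow]; simp
    have hc0 : χ.coeff 0 = (-1 : R') ^ χ.natDegree * N := by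
      rw [hn, ← mul_assoc, hε, one_mul]
    have h4 : ρ (Q.coeff 0 ^ e) = ρ (b ^ e * ((-1) ^ χ.natDegree) ^ e * t) := by
      rw [map_pow, ha0, map_mul, map_mul, map_pow, map_pow, map_pow, map_neg, map_one, ← hnorm,
        hc0, mul_pow, mul_pow, mul_assoc]
    have h5 := hρinj h4
    have h6 : Q.coeff 0 ^ e ∈ p := Ideal.pow_mem_of_mem p hmem e (by omega)
    rw [h5] at h6
    rcases ‹p.IsPrime›.mem_or_mem h6 with h7 | h7
    · rcases ‹p.IsPrime›.mem_or_mem h7 with h8 | h8
      · exact hb (‹p.IsPrime›.mem_of_pow_mem e h8)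
      · have : IsUnit (((-1 : R) ^ χ.natDegree) ^ e) := (isUnit_one.neg.pow _).pow _
        exact ‹p.IsPrime›.ne_top (Ideal.eq_top_of_isUnit_mem _ h8 this)
    · exact ‹p.IsPrime›.ne_top (Ideal.eq_top_of_isUnit_mem _ h7 ht)
  have hsplit : c = φ (Q.coeff 0) + s * (Q.divX.eval₂ φ s) := by
    rw [hc]
    conv_lhs => rw [← Polynomial.X_mul_divX_add Q]
    rw [Polynomial.eval₂_add, Polynomial.eval₂_mul, Polynomial.eval₂_X, Polynomial.eval₂_C]
    ring
  by_contra hcon
  simp only [not_exists, not_and, not_not] at hcon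
  letI := φ.toAlgebra
  haveI : Algebra.IsIntegral R S := ⟨hint⟩
  by_cases hle : (Ideal.span {c}).comap (algebraMap R S) ≤ p
  · obtain ⟨q, hq, hqp, hqc⟩ :=
      Ideal.exists_ideal_over_prime_of_isIntegral p (Ideal.span {c}) hle
    have hs : s ∈ q := hcon q hqp hqc
    have hcq : c ∈ q := hq (Ideal.subset_span rfl)
    have h5 : φ (Q.coeff 0) ∈ q := by
      rw [hsplit] at hcq
      exact (Ideal.add_mem_iff_left q (q.mul_mem_right _ hs)).mp hcq
    have h6 : Q.coeff 0 ∈ q.comap (algebraMap R S) := h5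
    rw [hqc] at h6
    exact ha0p h6
  · obtain ⟨w, hw, hwp⟩ := SetLike.not_le_iff_exists.mp hle
    obtain ⟨m, hm⟩ := Ideal.mem_span_singleton'.mp hw
    have h5 : φ (r ^ k * w) = 0 := by
      have : algebraMap R S w = φ w := rfl
      rw [map_mul, map_pow, ← this, ← hm, mul_left_comm, hk, mul_zero]
    have h0 : r ^ k * w = 0 := hinj (h5.trans (map_zero φ).symm)
    rcases mul_eq_zero.mp h0 with h | h
    · exact pow_ne_zero k hr h
    · exact hwp (h ▸ p.zero_mem)

end Groth.Agent.Lib.NormDescH6
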