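import Mathlib
import Groth.Prelude
import Groth.Agent.Lib.FlatNorm_helper4
import Groth.Agent.Lib.FLF8_helper8
import Groth.Agent.Lib.Tens7_helper8

/-!
# Free opens of a finite morphism: density, ranks, a uniform degree (helper6)
APPEND-ONLY once landed.

For a finite morphism `π : X ⟶ Y` we use helper4's `FlatNormH4.IsFreeOpen π V` (affine opens `V` over
which `π_* O_X` is free).

* `exists_isFreeOpen_of_restrict`: a point near which `π_* O_X` is finite locally free has arbitrarily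
  small free open neighbourhoods.
* `exists_isFreeOpen_nonempty`: on a reduced locally Noetherian scheme every nonempty open contains a
  nonempty free open.
* `rk`, `rk_eq_of_mem`, `rk_pos`, `exists_degree`: ranks over free opens and a common multiple.
-/

set_option autoImplicit false
set_option linter.all false
universe u
open CategoryTheory AlgebraicGeometry TopologicalSpace Opposite
open FLFH8 TensH8

namespace Groth.Agent.Lib.NormDescH6

attribute [local instance] FlatNormH4.secAlg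
open FlatNormH4 (IsFreeOpen)

section Alg
variable {R S R' S' : Type u} [CommRing R] [CommRing S] [CommRing R'] [CommRing S']

theorem finrank_loc (φ : R →+* S) (φ' : R' →+* S') (ρ : R →+* R') (σ : S →+* S')
    (hcomm : ∀ x, σ (φ x) = φ' (ρ x)) (r : R)
    (h1 : @IsLocalization.Away R _ r R' _ ρ.toAlgebra)
    (h2 : @IsLocalization.Away S _ (φ r) S' _ σ.toAlgebra)
    (hfree : letI := φ.toAlgebra; Module.Free R S)
    (hfin : letI := φ.toAlgebra; Module.Finite R S) [Nontrivial R'] :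
    (letI := φ'.toAlgebra; Module.finrank R' S') = (letI := φ.toAlgebra; Module.finrank R S) := by
  letI iRS := φ.toAlgebra
  letI iR'S' := φ'.toAlgebra
  letI iRR' := ρ.toAlgebra
  letI iSS' := σ.toAlgebra
  letI iRS' : Algebra R S' := (φ'.comp ρ).toAlgebra
  haveI : IsScalarTower R R' S' := IsScalarTower.of_algebraMap_eq (fun _ => rfl)
  haveI : IsScalarTower R S S' := IsScalarTower.of_algebraMap_eq (fun x => (hcomm x).symm)
  haveI : IsLocalization (Submonoid.powers r) R' := h1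
  haveI : IsLocalization (Algebra.algebraMapSubmonoid S (Submonoid.powers r)) S' :=
    FlatNormH4.isLocalization_algebraMapSubmonoid_powers φ σ r h2
  haveI : Module.Free R S := hfree
  haveI : Module.Finite R S := hfin
  haveI : Nontrivial R := ρ.domain_nontrivial
  rw [Module.finrank_eq_card_basis ((Module.Free.chooseBasis R S).localizationLocalization R'
    (Submonoid.powers r) S'), Module.finrank_eq_card_basis (Module.Free.chooseBasis R S)]

/-- Over a reduced ring, a finitely presented module is free on a basic open neighbourhood of any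
minimal prime. -/
theorem exists_free_away_of_minimal {R : Type u} [CommRing R] [IsReduced R] {N : Type u}
    [AddCommGroup N] [Module R N] [Module.FinitePresentation R N] (p : Ideal R)
    (hp : p ∈ minimalPrimes R) :
    ∃ r : R, r ∉ p ∧ Module.Free (Localization (Submonoid.powers r))
      (LocalizedModule (Submonoid.powers r) N) := by
  haveI : p.IsPrime := hp.1.1
  haveI : Module.Finite R N := inferInstance
  have hmax : IsLocalRing.maximalIdeal (Localization.AtPrime p) = ⊥ := by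
    have h1 := IsLocalization.AtPrime.radical_map_of_mem_minimalPrimes (A := Localization.AtPrime p)
      p ⊥ hp
    rw [Ideal.map_bot, IsLocalization.AtPrime.map_eq_maximalIdeal p] at h1
    rw [← h1]
    exact nilradical_eq_zero _
  letI : Field (Localization.AtPrime p) :=
    IsField.toField (IsLocalRing.isField_iff_maximalIdeal_eq.mpr hmax)
  haveI : Module.Free (Localization.AtPrime p) (LocalizedModule p.primeCompl N) :=
    Module.Free.of_divisionRing _ _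
  obtain ⟨r, hr, hfree, -⟩ := Module.FinitePresentation.exists_free_localizedModule_powers
    p.primeCompl (LocalizedModule.mkLinearMap p.primeCompl N) (Localization.AtPrime p)
  exact ⟨r, hr, hfree⟩

end Alg

variable {X Y : Scheme.{u}}

theorem exists_isFreeOpen_of_restrict (π : X ⟶ Y) [IsFinite π] (T : Y.Opens)
    (hT : FlatMod.IsFinLocFree ((pushO π).restrict T.ι)) (y : Y) (hy : y ∈ T) (U : Y.Opens)
    (hyU : y ∈ U) :
    ∃ V, FlatNormH4.IsFreeOpen π V ∧ y ∈ V ∧ V ≤ U := by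
  haveI := isQuasicoherent_pushO π
  haveI : ((pushO π).restrict T.ι).IsQuasicoherent := inferInstance
  obtain ⟨_, ⟨V', hV' : IsAffineOpen V', rfl⟩, hyV', hV'U⟩ :=
    (T.toScheme.isBasis_affineOpens).exists_subset_of_mem_open
      (show (⟨y, hy⟩ : T.toScheme) ∈ ((T.ι ⁻¹ᵁ U : T.toScheme.Opens) : Set T.toScheme) from hyU)
      (T.ι ⁻¹ᵁ U).isOpen
  obtain ⟨V₀, hV₀def⟩ : ∃ V₀ : Y.Opens, V₀ = T.ι ''ᵁ V' := ⟨_, rfl⟩
  have hV₀ : IsAffineOpen V₀ := hV₀def ▸ hV'.image_of_isOpenImmersion T.ι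
  have hyV₀ : y ∈ V₀ := by
    rw [hV₀def]
    exact ⟨⟨y, hy⟩, hyV', rfl⟩
  have hV₀U : V₀ ≤ U := by
    rw [hV₀def]
    rintro _ ⟨z, hz, rfl⟩
    exact hV'U hz
  obtain ⟨h1, h2⟩ := fp_flat_sections_of_finLocFree ((pushO π).restrict T.ι) hT hV'
  haveI := h1
  haveI := h2
  have key : (π.app V₀).hom.Finite ∧ (π.app V₀).hom.Flat ∧ (π.app V₀).hom.FinitePresentation := by
    subst hV₀def
    refine ringHom_props_of_module (A := Γ(T.toScheme, V'))
      (N := Γ((pushO π).restrict T.ι, V')) (B := Γ(X, π ⁻¹ᵁ (T.ι ''ᵁ V')))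
      (π.app (T.ι ''ᵁ V')).hom (AddEquiv.refl _) (fun a n => ?_)
    rw [smul_restrict, Scheme.Opens.ι_appIso]
    rfl
  obtain ⟨hfin0, hflat0, hfp0⟩ := key
  haveI hfin : Module.Finite Γ(Y, V₀) Γ(X, π ⁻¹ᵁ V₀) := hfin0
  haveI hflat : Module.Flat Γ(Y, V₀) Γ(X, π ⁻¹ᵁ V₀) := hflat0
  haveI hfp : Algebra.FinitePresentation Γ(Y, V₀) Γ(X, π ⁻¹ᵁ V₀) := hfp0
  haveI : Module.FinitePresentation Γ(Y, V₀) Γ(X, π ⁻¹ᵁ V₀) :=
    Module.FinitePresentation.of_finite_of_finitePresentation _ _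
  obtain ⟨p, hp⟩ : ∃ p : PrimeSpectrum Γ(Y, V₀), hV₀.fromSpec p = y :=
    ⟨hV₀.primeIdealOf ⟨y, hyV₀⟩, hV₀.fromSpec_primeIdealOf ⟨y, hyV₀⟩⟩
  haveI : p.asIdeal.IsPrime := p.isPrime
  obtain ⟨r, hr, hfree⟩ := FlatNormH4.exists_free_away (R := Γ(Y, V₀)) (N := Γ(X, π ⁻¹ᵁ V₀)) p.asIdeal
  refine ⟨Y.basicOpen r, ⟨hV₀.basicOpen r, ?_⟩, ?_, (Y.basicOpen_le r).trans hV₀U⟩
  · obtain ⟨hcomm, h1, h2⟩ :=
      FlatNormH4.loc_data π V₀ hV₀ r (Y.basicOpen r) rfl (homOfLE (Y.basicOpen_le r))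
    exact FlatNormH4.free_transport (π.app V₀).hom (π.app (Y.basicOpen r)).hom _ _ hcomm r h1 h2 hfree
  · have h1 : p ∈ hV₀.fromSpec ⁻¹ᵁ Y.basicOpen r := by
      rw [hV₀.fromSpec_preimage_basicOpen r]; exact hr
    have h2 : hV₀.fromSpec p ∈ Y.basicOpen r := h1
    rwa [hp] at h2

/-- The locus of points having a free affine open neighbourhood. -/
def freeLocus (π : X ⟶ Y) : Y.Opens := ⨆ V : {V : Y.Opens // IsFreeOpen π V}, V.1

theorem mem_freeLocus {π : X ⟶ Y} {y : Y} :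
    y ∈ freeLocus π ↔ ∃ V : Y.Opens, IsFreeOpen π V ∧ y ∈ V := by
  unfold freeLocus
  rw [Opens.mem_iSup]
  constructor
  · rintro ⟨⟨V, hV⟩, hy⟩
    exact ⟨V, hV, hy⟩
  · rintro ⟨V, hV, hy⟩
    exact ⟨⟨V, hV⟩, hy⟩

theorem exists_isFreeOpen_le (π : X ⟶ Y) [IsFinite π] {y : Y} (hy : y ∈ freeLocus π)
    (U : Y.Opens) (hyU : y ∈ U) : ∃ V : Y.Opens, IsFreeOpen π V ∧ y ∈ V ∧ V ≤ U := by
  obtain ⟨V₁, hV₁, hyV₁⟩ := mem_freeLocus.mp hy
  obtain ⟨r, hr, hyr⟩ := hV₁.1.exists_basicOpen_le (V := U) ⟨y, hyU⟩ hyV₁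
  exact ⟨Y.basicOpen r,
    (FlatNormH4.isFreeOpen_basicOpen π V₁ hV₁ r _ rfl (homOfLE (Y.basicOpen_le r))).1, hyr, hr⟩

theorem nontrivial_of_nonempty {Z : Scheme.{u}} {V : Z.Opens} (h : (V : Set Z).Nonempty) :
    Nontrivial Γ(Z, V) := by
  obtain ⟨z, hz⟩ := h
  exact (Z.presheaf.germ V z hz).hom.domain_nontrivial

/-- On a reduced locally Noetherian scheme the free locus of a finite morphism is dense. -/
theorem exists_isFreeOpen_nonempty (π : X ⟶ Y) [IsFinite π] [IsReduced Y] [IsLocallyNoetherian Y]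
    (O : Y.Opens) (hO : (O : Set Y).Nonempty) :
    ∃ V : Y.Opens, IsFreeOpen π V ∧ V ≤ O ∧ (V : Set Y).Nonempty := by
  obtain ⟨y, hy⟩ := hO
  obtain ⟨_, ⟨V₀, hV₀ : IsAffineOpen V₀, rfl⟩, hyV₀, hV₀O⟩ :=
    (Y.isBasis_affineOpens).exists_subset_of_mem_open hy O.isOpen
  haveI : IsNoetherianRing Γ(Y, V₀) := IsLocallyNoetherian.component_noetherian ⟨V₀, hV₀⟩
  haveI : Nontrivial Γ(Y, V₀) := nontrivial_of_nonempty ⟨y, hyV₀⟩
  haveI hfin : Module.Finite Γ(Y, V₀) Γ(X, π ⁻¹ᵁ V₀) := FlatNormH4.finite_of_isAffineOpen π V₀ hV₀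
  haveI : Module.FinitePresentation Γ(Y, V₀) Γ(X, π ⁻¹ᵁ V₀) :=
    Module.finitePresentation_of_finite _ _
  obtain ⟨m, hm⟩ := Ideal.exists_maximal Γ(Y, V₀)
  obtain ⟨p, hp, -⟩ := Ideal.exists_minimalPrimes_le (I := ⊥) (J := m) bot_le
  haveI : p.IsPrime := hp.1.1
  obtain ⟨r, hr, hfree⟩ := exists_free_away_of_minimal (N := Γ(X, π ⁻¹ᵁ V₀)) p hp
  refine ⟨Y.basicOpen r, ⟨hV₀.basicOpen r, ?_⟩, (Y.basicOpen_le r).trans hV₀O, ?_⟩
  · obtain ⟨hcomm, h1, h2⟩ :=
      FlatNormH4.loc_data π V₀ hV₀ r (Y.basicOpen r) rfl (homOfLE (Y.basicOpen_le r))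
    exact FlatNormH4.free_transport (π.app V₀).hom (π.app (Y.basicOpen r)).hom _ _ hcomm r h1 h2 hfree
  · refine ⟨hV₀.fromSpec ⟨p, inferInstance⟩, ?_⟩
    have h1 : (⟨p, inferInstance⟩ : PrimeSpectrum Γ(Y, V₀)) ∈ hV₀.fromSpec ⁻¹ᵁ Y.basicOpen r := by
      rw [hV₀.fromSpec_preimage_basicOpen r]; exact hr
    exact h1

/-- The rank of `π_* O_X` over a (free) open. -/
noncomputable def rk (π : X ⟶ Y) (V : Y.Opens) : ℕ := Module.finrank Γ(Y, V) Γ(X, π ⁻¹ᵁ V)

theorem rk_basicOpen (π : X ⟶ Y) [IsFinite π] (V : Y.Opens) (hV : IsFreeOpen π V) (r : Γ(Y, V))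
    (W : Y.Opens) (hW : W = Y.basicOpen r) (hne : (W : Set Y).Nonempty) : rk π W = rk π V := by
  haveI : Nontrivial Γ(Y, W) := nontrivial_of_nonempty hne
  have hWV : W ≤ V := hW ▸ Y.basicOpen_le r
  obtain ⟨hcomm, h1, h2⟩ := FlatNormH4.loc_data π V hV.1 r W hW (homOfLE hWV)
  exact finrank_loc (π.app V).hom (π.app W).hom _ _ hcomm r h1 h2 hV.2
    (FlatNormH4.finite_of_isAffineOpen π V hV.1)

theorem rk_eq_of_mem (π : X ⟶ Y) [IsFinite π] {V V' : Y.Opens} (hV : IsFreeOpen π V)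
    (hV' : IsFreeOpen π V') {z : Y} (hz : z ∈ V) (hz' : z ∈ V') : rk π V = rk π V' := by
  obtain ⟨f, g, hfg, hzf⟩ := exists_basicOpen_le_affine_inter hV.1 hV'.1 z ⟨hz, hz'⟩
  rw [← rk_basicOpen π V hV f (Y.basicOpen f) rfl ⟨z, hzf⟩,
    ← rk_basicOpen π V' hV' g (Y.basicOpen f) hfg ⟨z, hzf⟩]

theorem rk_pos (π : X ⟶ Y) [IsFinite π] [Surjective π] {V : Y.Opens} (hV : IsFreeOpen π V)
    (hne : (V : Set Y).Nonempty) : 0 < rk π V := by
  haveI := hV.2
  haveI : Module.Finite Γ(Y, V) Γ(X, π ⁻¹ᵁ V) := FlatNormH4.finite_of_isAffineOpen π V hV.1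
  haveI : Nontrivial Γ(Y, V) := nontrivial_of_nonempty hne
  haveI : Nontrivial Γ(X, π ⁻¹ᵁ V) := by
    obtain ⟨z, hz⟩ := hne
    obtain ⟨x, hx⟩ := π.surjective z
    exact nontrivial_of_nonempty ⟨x, show π.base x ∈ V from hx ▸ hz⟩
  exact (Module.finrank_pos_iff_of_free (R := Γ(Y, V)) (M := Γ(X, π ⁻¹ᵁ V))).mpr inferInstance

theorem exists_degree (π : X ⟶ Y) [IsFinite π] [Surjective π] [IsNoetherian Y] :
    ∃ D : ℕ, 1 ≤ D ∧ ∀ V : Y.Opens, IsFreeOpen π V → (V : Set Y).Nonempty → rk π V ∣ D := by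
  classical
  have hc : IsCompact ((freeLocus π : Y.Opens) : Set Y) := NoetherianSpace.isCompact _
  have hex : ∀ y : freeLocus π, ∃ V : Y.Opens, IsFreeOpen π V ∧ y.1 ∈ V :=
    fun y => mem_freeLocus.mp y.2
  choose V hV hyV using hex
  obtain ⟨T, hT⟩ := hc.elim_finite_subcover (fun y : freeLocus π => ((V y : Y.Opens) : Set Y))
    (fun y => (V y).isOpen) (fun z hz => Set.mem_iUnion.mpr ⟨⟨z, hz⟩, hyV ⟨z, hz⟩⟩)
  refine ⟨∏ y ∈ T, rk π (V y), Finset.prod_pos (fun y _ => rk_pos π (hV y) ⟨y.1, hyV y⟩), ?_⟩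
  intro W hW ⟨z, hz⟩
  have hzF : z ∈ freeLocus π := mem_freeLocus.mpr ⟨W, hW, hz⟩
  obtain ⟨y, hy⟩ := Set.mem_iUnion.mp (hT hzF)
  obtain ⟨hyT, hzy⟩ := Set.mem_iUnion.mp hy
  rw [rk_eq_of_mem π hW (hV y) hz hzy]
  exact Finset.dvd_prod_of_mem (fun y => rk π (V y)) hyT

end Groth.Agent.Lib.NormDescH6
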