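import Mathlib
import Groth.Prelude
import Groth.Agent.Lib.NormDesc3_helper6
import Groth.Agent.Lib.NormSec3_helper8

/-!
# Normalised norms of functions along a finite morphism, characterised on free opens (helper6)
APPEND-ONLY once landed.

`IsNormOf π D U s t`: on every free open `V ≤ U` the restriction of `t` is the `(D / rank)`-th power
of the algebra norm of the restriction of `s`.
-/

set_option autoImplicit false
set_option linter.all false
universe u
open CategoryTheory AlgebraicGeometry TopologicalSpace Opposite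

namespace Groth.Agent.Lib.NormDescH6

attribute [local instance] FlatNormH4.secAlg
open FlatNormH4 (IsFreeOpen res_res app_res)

variable {X Y : Scheme.{u}} (π : X ⟶ Y) (D : ℕ)

/-- restriction of functions upstairs along an inclusion of opens downstairs -/
noncomputable abbrev resX {U V : Y.Opens} (i : V ⟶ U) (s : Γ(X, π ⁻¹ᵁ U)) : Γ(X, π ⁻¹ᵁ V) :=
  (X.presheaf.map ((Opens.map π.base).map i).op).hom s

/-- restriction of functions downstairs -/
noncomputable abbrev resY {U V : Y.Opens} (i : V ⟶ U) (t : Γ(Y, U)) : Γ(Y, V) :=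
  (Y.presheaf.map i.op).hom t

/-- The normalised norm over a (free) open. -/
noncomputable def nrmV (V : Y.Opens) (s : Γ(X, π ⁻¹ᵁ V)) : Γ(Y, V) :=
  Algebra.norm Γ(Y, V) s ^ (D / rk π V)

/-- `t` is a normalised norm of `s`. -/
def IsNormOf (U : Y.Opens) (s : Γ(X, π ⁻¹ᵁ U)) (t : Γ(Y, U)) : Prop :=
  ∀ (V : Y.Opens) (_ : IsFreeOpen π V) (i : V ⟶ U), resY i t = nrmV π D V (resX π i s)

theorem nrmV_one (V : Y.Opens) : nrmV π D V 1 = 1 := by
  unfold nrmV
  rw [map_one, one_pow]

theorem nrmV_mul (V : Y.Opens) (s s' : Γ(X, π ⁻¹ᵁ V)) :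
    nrmV π D V (s * s') = nrmV π D V s * nrmV π D V s' := by
  unfold nrmV
  rw [map_mul, mul_pow]

/-- Compatibility of the normalised norms over two free opens. -/
theorem nrmV_compat [IsFinite π] (U : Y.Opens) (s : Γ(X, π ⁻¹ᵁ U)) {V V' : Y.Opens}
    (hV : IsFreeOpen π V) (hV' : IsFreeOpen π V') (i : V ⟶ U) (i' : V' ⟶ U) (j : V' ⟶ V) :
    resY j (nrmV π D V (resX π i s)) = nrmV π D V' (resX π i' s) := by
  refine TopCat.Presheaf.section_ext Y.sheaf V' _ _ (fun z hz => ?_)
  have hzV : z ∈ V := j.le hz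
  obtain ⟨f, g, hfg, hzf⟩ := exists_basicOpen_le_affine_inter hV.1 hV'.1 z ⟨hzV, hz⟩
  have hWU : Y.basicOpen f ≤ U := (Y.basicOpen_le f).trans i.le
  have k1 := FlatNormH4.germ_loc π U s V hV i f (Y.basicOpen f) rfl (homOfLE hWU) z hzf hzV
  have k2 := FlatNormH4.germ_loc π U s V' hV' i' g (Y.basicOpen f) hfg (homOfLE hWU) z hzf hz
  have hrk : rk π V = rk π V' := rk_eq_of_mem π hV hV' hzV hz
  have e1 := Y.presheaf.germ_res_apply j z hz (nrmV π D V (resX π i s))
  have hL : (Y.presheaf.germ V z hzV).hom (nrmV π D V (resX π i s)) =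
      (Y.presheaf.germ V z hzV).hom (Algebra.norm Γ(Y, V) (resX π i s)) ^ (D / rk π V) :=
    map_pow _ _ _
  have hR : (Y.presheaf.germ V' z hz).hom (nrmV π D V' (resX π i' s)) =
      (Y.presheaf.germ V' z hz).hom (Algebra.norm Γ(Y, V') (resX π i' s)) ^ (D / rk π V') :=
    map_pow _ _ _
  refine e1.trans (hL.trans (Eq.trans ?_ hR.symm))
  rw [hrk]
  exact congrArg (· ^ (D / rk π V')) (k1.trans k2.symm)

/-- Over a free open the normalised norm is a norm. -/
theorem isNormOf_nrmV [IsFinite π] {V : Y.Opens} (hV : IsFreeOpen π V) (s : Γ(X, π ⁻¹ᵁ V)) :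
    IsNormOf π D V s (nrmV π D V s) := by
  intro V' hV' j
  have h := nrmV_compat π D V s hV hV' (𝟙 V) j j
  have e : resX π (𝟙 V) s = s := by
    show (X.presheaf.map (𝟙 (op (π ⁻¹ᵁ V)))).hom s = s
    rw [X.presheaf.map_id]
    rfl
  rw [e] at h
  exact h

theorem isNormOf_one (U : Y.Opens) : IsNormOf π D U 1 1 := by
  intro V hV i
  show resY i 1 = nrmV π D V (resX π i 1)
  rw [show resX π i (1 : Γ(X, π ⁻¹ᵁ U)) = 1 from map_one _, nrmV_one]
  exact map_one _

theorem isNormOf_mul (U : Y.Opens) (s s' : Γ(X, π ⁻¹ᵁ U)) (t t' : Γ(Y, U))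
    (h : IsNormOf π D U s t) (h' : IsNormOf π D U s' t') : IsNormOf π D U (s * s') (t * t') := by
  intro V hV i
  show resY i (t * t') = nrmV π D V (resX π i (s * s'))
  rw [show resX π i (s * s') = resX π i s * resX π i s' from map_mul _ _ _, nrmV_mul,
    ← h V hV i, ← h' V hV i]
  exact map_mul _ _ _

theorem isNormOf_res (U : Y.Opens) (s : Γ(X, π ⁻¹ᵁ U)) (t : Γ(Y, U))
    (h : IsNormOf π D U s t) {U' : Y.Opens} (j : U' ⟶ U) :
    IsNormOf π D U' (resX π j s) (resY j t) :=
  fun V hV i => (res_res Y j i (i ≫ j) t).trans ((h V hV (i ≫ j)).trans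
    (congrArg (nrmV π D V) (res_res X ((Opens.map π.base).map j)
      ((Opens.map π.base).map i) ((Opens.map π.base).map (i ≫ j)) s).symm))

theorem isNormOf_app [IsFinite π] (hD : ∀ V : Y.Opens, IsFreeOpen π V → (V : Set Y).Nonempty →
    rk π V ∣ D ∧ 0 < rk π V) (U : Y.Opens) (g : Γ(Y, U)) :
    IsNormOf π D U ((π.app U).hom g) (g ^ D) := by
  intro V hV i
  haveI := hV.2
  rcases (V : Set Y).eq_empty_or_nonempty with hemp | hne
  · have hV0 : V = ⊥ := Opens.ext (hemp.trans (Opens.coe_bot).symm)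
    subst hV0
    exact Subsingleton.elim _ _
  · obtain ⟨hdvd, hpos⟩ := hD V hV hne
    have e1 : resX π i ((π.app U).hom g) = (π.app V).hom (resY i g) := app_res π i g
    have e2 : Algebra.norm Γ(Y, V) ((π.app V).hom (resY i g))
        = (resY i g) ^ Module.finrank Γ(Y, V) Γ(X, π ⁻¹ᵁ V) :=
      Algebra.norm_algebraMap (resY i g)
    show resY i (g ^ D) = nrmV π D V (resX π i ((π.app U).hom g))
    unfold nrmV
    rw [e1, e2, ← pow_mul]
    have e3 : Module.finrank Γ(Y, V) Γ(X, π ⁻¹ᵁ V) * (D / rk π V) = D :=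
      Nat.mul_div_cancel' hdvd
    rw [e3]
    exact map_pow _ _ _

/-- `IsNormOf` is local on the base. -/
theorem isNormOf_of_local [IsFinite π] (U : Y.Opens) (s : Γ(X, π ⁻¹ᵁ U)) (t : Γ(Y, U))
    (h : ∀ y ∈ U, ∃ (U' : Y.Opens) (j : U' ⟶ U), y ∈ U' ∧
      IsNormOf π D U' (resX π j s) (resY j t)) : IsNormOf π D U s t := by
  intro V hV i
  refine TopCat.Presheaf.section_ext Y.sheaf V _ _ (fun z hz => ?_)
  obtain ⟨U', j, hzU', hU'⟩ := h z (i.le hz)
  have hzF : z ∈ freeLocus π := mem_freeLocus.mpr ⟨V, hV, hz⟩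
  obtain ⟨W, hW, hzW, hWle⟩ := exists_isFreeOpen_le π hzF (V ⊓ U') ⟨hz, hzU'⟩
  have hWV : W ≤ V := hWle.trans inf_le_left
  have hWU' : W ≤ U' := hWle.trans inf_le_right
  have h1 := hU' W hW (homOfLE hWU')
  have h2 := nrmV_compat π D U s hV hW i (homOfLE (hWV.trans i.le)) (homOfLE hWV)
  have h3 : resY (homOfLE hWU') (resY j t) = resY (homOfLE hWV) (resY i t) :=
    (res_res Y j (homOfLE hWU') (homOfLE (hWV.trans i.le)) t).trans
      (res_res Y i (homOfLE hWV) (homOfLE (hWV.trans i.le)) t).symm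
  have h4 : resX π (homOfLE hWU') (resX π j s) = resX π (homOfLE (hWV.trans i.le)) s :=
    res_res X ((Opens.map π.base).map j) ((Opens.map π.base).map (homOfLE hWU'))
      ((Opens.map π.base).map (homOfLE (hWV.trans i.le))) s
  have h5 : resY (homOfLE hWV) (resY i t) = resY (homOfLE hWV) (nrmV π D V (resX π i s)) := by
    rw [← h3, h1, h4, h2]
  have e1 := Y.presheaf.germ_res_apply (homOfLE hWV) z hzW (resY i t)
  have e2 := Y.presheaf.germ_res_apply (homOfLE hWV) z hzW (nrmV π D V (resX π i s))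
  exact e1.symm.trans ((congrArg (fun w => (Y.presheaf.germ W z hzW).hom w) h5).trans e2)

/-- Two functions agreeing on all free opens inside a dense open agree. -/
theorem eq_of_forall_free [IsFinite π] [IsReduced Y] [IsLocallyNoetherian Y] (V F₀ : Y.Opens)
    (hdense : ∀ O : Y.Opens, O ≤ V → (O : Set Y).Nonempty →
      ((O ⊓ F₀ : Y.Opens) : Set Y).Nonempty)
    (a b : Γ(Y, V))
    (h : ∀ (W : Y.Opens) (_ : IsFreeOpen π W) (j : W ⟶ V), W ≤ F₀ → resY j a = resY j b) :
    a = b := by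
  by_contra hne
  have hd : a - b ≠ 0 := sub_ne_zero.mpr hne
  have hO : Y.basicOpen (a - b) ≠ ⊥ := fun h0 => hd ((basicOpen_eq_bot_iff _).mp h0)
  have hOne : ((Y.basicOpen (a - b) : Y.Opens) : Set Y).Nonempty := by
    by_contra hemp
    apply hO
    exact Opens.ext ((Set.not_nonempty_iff_eq_empty.mp hemp).trans (Opens.coe_bot).symm)
  obtain ⟨W, hW, hWle, hWne⟩ := exists_isFreeOpen_nonempty π _
    (hdense _ (Y.basicOpen_le _) hOne)
  have hWO : W ≤ Y.basicOpen (a - b) := hWle.trans inf_le_left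
  have hWV : W ≤ V := hWO.trans (Y.basicOpen_le _)
  have h1 : resY (homOfLE hWV) (a - b) = 0 := by
    rw [show resY (homOfLE hWV) (a - b) = resY (homOfLE hWV) a - resY (homOfLE hWV) b from
      map_sub _ _ _, h W hW (homOfLE hWV) (hWle.trans inf_le_right), sub_self]
  have h2 : IsUnit (resY (homOfLE hWV) (a - b)) :=
    NormSecH8.isUnit_rX_of_le_basicOpen (a - b) hWV hWO
  haveI : Nontrivial Γ(Y, W) := nontrivial_of_nonempty hWne
  rw [h1] at h2
  exact not_isUnit_zero h2

/-- Uniqueness of normalised norms on a reduced locally Noetherian scheme. -/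
theorem isNormOf_unique [IsFinite π] [IsReduced Y] [IsLocallyNoetherian Y] (U : Y.Opens)
    (s : Γ(X, π ⁻¹ᵁ U)) (t t' : Γ(Y, U)) (h : IsNormOf π D U s t) (h' : IsNormOf π D U s t') :
    t = t' := by
  refine eq_of_forall_free π U U (fun O hO hne => ?_) t t'
    (fun W hW j _ => (h W hW j).trans (h' W hW j).symm)
  rwa [inf_eq_left.mpr hO]

/-- A norm over a dense open is a norm. -/
theorem isNormOf_of_dense [IsFinite π] [IsReduced Y] [IsLocallyNoetherian Y] (U F₀ : Y.Opens)
    (hF₀ : F₀ ≤ U)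
    (hdense : ∀ O : Y.Opens, O ≤ U → (O : Set Y).Nonempty →
      ((O ⊓ F₀ : Y.Opens) : Set Y).Nonempty)
    (s : Γ(X, π ⁻¹ᵁ U)) (t : Γ(Y, U))
    (h : IsNormOf π D F₀ (resX π (homOfLE hF₀) s) (resY (homOfLE hF₀) t)) :
    IsNormOf π D U s t := by
  intro V hV i
  refine eq_of_forall_free π V F₀ (fun O hO hne => hdense O (hO.trans i.le) hne) _ _
    (fun W hW j hWF => ?_)
  have h1 := h W hW (homOfLE hWF)
  have h2 := nrmV_compat π D U s hV hW i (homOfLE (j.le.trans i.le)) j
  have h3 : resY (homOfLE hWF) (resY (homOfLE hF₀) t) = resY j (resY i t) :=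
    (res_res Y (homOfLE hF₀) (homOfLE hWF) (homOfLE (j.le.trans i.le)) t).trans
      (res_res Y i j (homOfLE (j.le.trans i.le)) t).symm
  have h4 : resX π (homOfLE hWF) (resX π (homOfLE hF₀) s) =
      resX π (homOfLE (j.le.trans i.le)) s :=
    res_res X ((Opens.map π.base).map (homOfLE hF₀)) ((Opens.map π.base).map (homOfLE hWF))
      ((Opens.map π.base).map (homOfLE (j.le.trans i.le))) s
  rw [← h3, h1, h4, h2]

end Groth.Agent.Lib.NormDescH6
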