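import Mathlib
import Groth.Prelude
import Groth.Agent.Lib.NormDesc4_helper6
import Groth.Agent.Lib.NormDesc2_helper6
import Groth.Agent.Lib.Norm2_helper8

/-!
# Existence of normalised norms along a finite morphism which is free or normal at every point
(helper6)  APPEND-ONLY once landed.
-/

set_option autoImplicit false
set_option linter.all false
universe u
open CategoryTheory AlgebraicGeometry TopologicalSpace Opposite

namespace Groth.Agent.Lib.NormDescH6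

attribute [local instance] FlatNormH4.secAlg
open FlatNormH4 (IsFreeOpen res_res app_res)

variable {X Y : Scheme.{u}} (π : X ⟶ Y) (D : ℕ)

/-- Around a point with domain stalk: an affine open neighbourhood with domain sections and a
nonzero function whose basic open is free. -/
theorem exists_normal_data [IsFinite π] [IsLocallyNoetherian Y] {y : Y}
    [IsDomain (Y.presheaf.stalk y)] {U : Y.Opens} (hy : y ∈ U) :
    ∃ V : Y.Opens, IsAffineOpen V ∧ y ∈ V ∧ V ≤ U ∧ IsDomain Γ(Y, V) ∧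
      ∃ r : Γ(Y, V), r ≠ 0 ∧ IsFreeOpen π (Y.basicOpen r) := by
  obtain ⟨V, hV, hyV, hVU, hdom, -⟩ := NormH8.exists_domain_nhd (X := Y) hy
  haveI := hdom
  haveI : IsNoetherianRing Γ(Y, V) := IsLocallyNoetherian.component_noetherian ⟨V, hV⟩
  haveI hfin : Module.Finite Γ(Y, V) Γ(X, π ⁻¹ᵁ V) := FlatNormH4.finite_of_isAffineOpen π V hV
  haveI : Module.FinitePresentation Γ(Y, V) Γ(X, π ⁻¹ᵁ V) :=
    Module.finitePresentation_of_finite _ _
  have hbot : (⊥ : Ideal Γ(Y, V)) ∈ minimalPrimes Γ(Y, V) :=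
    ⟨⟨Ideal.isPrime_bot, bot_le⟩, fun q _ _ => bot_le⟩
  obtain ⟨r, hr, hfree⟩ := exists_free_away_of_minimal (N := Γ(X, π ⁻¹ᵁ V)) ⊥ hbot
  refine ⟨V, hV, hyV, hVU, hdom, r, fun h0 => hr (h0 ▸ Ideal.zero_mem _), hV.basicOpen r, ?_⟩
  obtain ⟨hcomm, h1, h2⟩ :=
    FlatNormH4.loc_data π V hV r (Y.basicOpen r) rfl (homOfLE (Y.basicOpen_le r))
  exact FlatNormH4.free_transport (π.app V).hom (π.app (Y.basicOpen r)).hom _ _ hcomm r h1 h2 hfree

/-- membership in a basic open of an affine open in terms of the prime ideal of the point -/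
theorem mem_basicOpen_iff_not_mem {V : Y.Opens} (hV : IsAffineOpen V) {y : Y} (hy : y ∈ V)
    (b : Γ(Y, V)) : y ∈ Y.basicOpen b ↔ b ∉ (hV.primeIdealOf ⟨y, hy⟩).asIdeal := by
  have h1 : (hV.primeIdealOf ⟨y, hy⟩ ∈ hV.fromSpec ⁻¹ᵁ Y.basicOpen b) ↔
      b ∉ (hV.primeIdealOf ⟨y, hy⟩).asIdeal := by
    rw [hV.fromSpec_preimage_basicOpen b]
    exact Iff.rfl
  rw [← h1]
  show y ∈ Y.basicOpen b ↔ hV.fromSpec (hV.primeIdealOf ⟨y, hy⟩) ∈ Y.basicOpen b
  rw [hV.fromSpec_primeIdealOf ⟨y, hy⟩]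

/-- In an integral affine open of a reduced scheme, a nonempty open meets the basic open of a
nonzero function. -/
theorem nonempty_inf_basicOpen [IsReduced Y] {V : Y.Opens} (hV : IsAffineOpen V) [IsDomain Γ(Y, V)]
    (c : Γ(Y, V)) (hc : c ≠ 0) (O : Y.Opens) (hO : O ≤ V) (hne : (O : Set Y).Nonempty) :
    ((O ⊓ Y.basicOpen c : Y.Opens) : Set Y).Nonempty := by
  obtain ⟨z, hz⟩ := hne
  obtain ⟨f, hfO, hzf⟩ := hV.exists_basicOpen_le (V := O) ⟨z, hz⟩ (hO hz)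
  have hf : f ≠ 0 := by
    rintro rfl
    rw [Y.basicOpen_zero] at hzf
    exact hzf
  have hfc : Y.basicOpen (f * c) ≠ ⊥ := fun h0 => mul_ne_zero hf hc ((basicOpen_eq_bot_iff _).mp h0)
  have hne' : ((Y.basicOpen (f * c) : Y.Opens) : Set Y).Nonempty := by
    by_contra hemp
    apply hfc
    exact Opens.ext ((Set.not_nonempty_iff_eq_empty.mp hemp).trans (Opens.coe_bot).symm)
  obtain ⟨w, hw⟩ := hne'
  rw [Y.basicOpen_mul] at hw
  exact ⟨w, hfO hw.1, hw.2⟩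

/-- Local existence of normalised norms near a normal point. -/
theorem exists_isNormOf_normal [IsFinite π] [IsReduced Y] [IsLocallyNoetherian Y] (U : Y.Opens)
    (s : Γ(X, π ⁻¹ᵁ U)) {y : Y} (hy : y ∈ U) [IsDomain (Y.presheaf.stalk y)]
    [IsIntegrallyClosed (Y.presheaf.stalk y)] :
    ∃ (V' : Y.Opens) (j : V' ⟶ U), y ∈ V' ∧ ∃ t' : Γ(Y, V'), IsNormOf π D V' (resX π j s) t' := by
  obtain ⟨V, hV, hyV, hVU, hdom, r, hr, hW₀⟩ := exists_normal_data π hy
  haveI := hdom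
  obtain ⟨W₀, hW₀def⟩ : ∃ W₀ : Y.Opens, W₀ = Y.basicOpen r := ⟨_, rfl⟩
  rw [← hW₀def] at hW₀
  have hW₀V : W₀ ≤ V := hW₀def ▸ Y.basicOpen_le r
  obtain ⟨hcomm, h1, h2⟩ := FlatNormH4.loc_data π V hV r W₀ hW₀def (homOfLE hW₀V)
  -- the stalk as a localization
  letI := TopCat.Presheaf.algebra_section_stalk Y.presheaf (U := V) ⟨y, hyV⟩
  haveI := hV.isLocalization_stalk ⟨y, hyV⟩
  have hint : (π.app V).hom.IsIntegral :=
    RingHom.IsIntegral.of_finite (FlatNormH4.finite_of_isAffineOpen π V hV)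
  obtain ⟨sV, hsV⟩ : ∃ sV : Γ(X, π ⁻¹ᵁ V), sV = resX π (homOfLE hVU) s := ⟨_, rfl⟩
  obtain ⟨a, b, hb, hab⟩ := exists_mul_norm_eq (Rp := Y.presheaf.stalk y) (π.app V).hom
    (π.app W₀).hom (Y.presheaf.map (homOfLE hW₀V).op).hom
    (X.presheaf.map ((Opens.map π.base).map (homOfLE hW₀V)).op).hom hcomm r hr h1 hW₀.2
    (FlatNormH4.finite_of_isAffineOpen π W₀ hW₀.1) hint (hV.primeIdealOf ⟨y, hyV⟩).asIdeal sV
  obtain ⟨N₀, hN₀⟩ : ∃ N₀ : Γ(Y, W₀), N₀ = Algebra.norm Γ(Y, W₀) (resX π (homOfLE hW₀V) sV) :=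
    ⟨_, rfl⟩
  have hab' : resY (homOfLE hW₀V) b * N₀ = resY (homOfLE hW₀V) a := by
    rw [hN₀]; exact hab
  -- the neighbourhood
  obtain ⟨V', hV'def⟩ : ∃ V' : Y.Opens, V' = Y.basicOpen b := ⟨_, rfl⟩
  have hV'V : V' ≤ V := hV'def ▸ Y.basicOpen_le b
  have hyV' : y ∈ V' := by
    rw [hV'def]
    exact (mem_basicOpen_iff_not_mem hV hyV b).mpr hb
  have hbu : IsUnit (resY (homOfLE hV'V) b) := by
    subst hV'def
    exact RingedSpace.isUnit_res_basicOpen Y.toRingedSpace b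
  obtain ⟨ub, hub⟩ := hbu
  obtain ⟨t₀, ht₀⟩ : ∃ t₀ : Γ(Y, V'), t₀ * resY (homOfLE hV'V) b = resY (homOfLE hV'V) a :=
    ⟨resY (homOfLE hV'V) a * ↑ub⁻¹, by rw [← hub, mul_assoc, Units.inv_mul, mul_one]⟩
  have hbne : b ≠ 0 := fun h0 => hb (h0 ▸ Ideal.zero_mem _)
  -- the dense free open
  obtain ⟨F₀, hF₀def⟩ : ∃ F₀ : Y.Opens, F₀ = Y.basicOpen (resY (homOfLE hW₀V) b) := ⟨_, rfl⟩
  have hF₀eq : F₀ = W₀ ⊓ Y.basicOpen b := by
    rw [hF₀def]; exact Y.basicOpen_res b (homOfLE hW₀V).op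
  have hF₀W₀ : F₀ ≤ W₀ := hF₀eq ▸ inf_le_left
  have hF₀V' : F₀ ≤ V' := by rw [hF₀eq, hV'def]; exact inf_le_right
  have hF₀free : IsFreeOpen π F₀ :=
    (FlatNormH4.isFreeOpen_basicOpen π W₀ hW₀ (resY (homOfLE hW₀V) b) F₀ hF₀def
      (homOfLE hF₀W₀)).1
  have hV'U : V' ≤ U := hV'V.trans hVU
  refine ⟨V', homOfLE hV'U, hyV', t₀ ^ (D / rk π W₀), ?_⟩
  refine isNormOf_of_dense π D V' F₀ hF₀V' (fun O hO hne => ?_) _ _ ?_
  · -- density
    have h3 := nonempty_inf_basicOpen hV (r * b) (mul_ne_zero hr hbne) O (hO.trans hV'V) hne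
    obtain ⟨w, hwO, hw⟩ := h3
    rw [Y.basicOpen_mul] at hw
    refine ⟨w, hwO, ?_⟩
    rw [hF₀eq, hW₀def]
    exact hw
  · -- the norm on the dense free open
    have h4 := isNormOf_nrmV π D hF₀free (resX π (homOfLE hF₀V') (resX π (homOfLE hV'U) s))
    have h5 : resY (homOfLE hF₀V') (t₀ ^ (D / rk π W₀)) =
        nrmV π D F₀ (resX π (homOfLE hF₀V') (resX π (homOfLE hV'U) s)) := by
      have e1 : resX π (homOfLE hF₀V') (resX π (homOfLE hV'U) s) =
          resX π (homOfLE (hF₀W₀.trans (hW₀V.trans hVU))) s :=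
        res_res X _ _ _ s
      have e2 : resX π (homOfLE hW₀V) sV = resX π (homOfLE (hW₀V.trans hVU)) s := by
        rw [hsV]; exact res_res X _ _ _ s
      have h6 := nrmV_compat π D U s hW₀ hF₀free (homOfLE (hW₀V.trans hVU))
        (homOfLE (hF₀W₀.trans (hW₀V.trans hVU))) (homOfLE hF₀W₀)
      rw [e1, ← h6]
      unfold nrmV
      rw [← e2, ← hN₀]
      show resY (homOfLE hF₀V') (t₀ ^ (D / rk π W₀)) = resY (homOfLE hF₀W₀) (N₀ ^ (D / rk π W₀))
      rw [show resY (homOfLE hF₀V') (t₀ ^ (D / rk π W₀)) = resY (homOfLE hF₀V') t₀ ^ (D / rk π W₀)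
        from map_pow _ _ _, show resY (homOfLE hF₀W₀) (N₀ ^ (D / rk π W₀)) =
          resY (homOfLE hF₀W₀) N₀ ^ (D / rk π W₀) from map_pow _ _ _]
      congr 1
      -- compare on `F₀`
      have hbF : resY (homOfLE hF₀V') (resY (homOfLE hV'V) b) =
          resY (homOfLE hF₀W₀) (resY (homOfLE hW₀V) b) :=
        (res_res Y _ _ (homOfLE (hF₀V'.trans hV'V)) b).trans
          (res_res Y _ _ (homOfLE (hF₀V'.trans hV'V)) b).symm
      have haF : resY (homOfLE hF₀V') (resY (homOfLE hV'V) a) =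
          resY (homOfLE hF₀W₀) (resY (homOfLE hW₀V) a) :=
        (res_res Y _ _ (homOfLE (hF₀V'.trans hV'V)) a).trans
          (res_res Y _ _ (homOfLE (hF₀V'.trans hV'V)) a).symm
      have k1 : resY (homOfLE hF₀V') t₀ * resY (homOfLE hF₀W₀) (resY (homOfLE hW₀V) b) =
          resY (homOfLE hF₀W₀) (resY (homOfLE hW₀V) a) := by
        rw [← hbF, ← haF, ← ht₀]
        exact (map_mul _ _ _).symm
      have k2 : resY (homOfLE hF₀W₀) N₀ * resY (homOfLE hF₀W₀) (resY (homOfLE hW₀V) b) =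
          resY (homOfLE hF₀W₀) (resY (homOfLE hW₀V) a) := by
        rw [← hab', mul_comm]
        exact (map_mul _ _ _).symm
      have hu : IsUnit (resY (homOfLE hF₀W₀) (resY (homOfLE hW₀V) b)) := by
        subst hF₀def
        exact RingedSpace.isUnit_res_basicOpen Y.toRingedSpace _
      exact hu.mul_left_injective (k1.trans k2.symm)
    rw [h5]
    exact h4

/-- the standing hypothesis: every point is in the free locus or normal -/
def NormalOrFree (π : X ⟶ Y) : Prop :=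
  ∀ y : Y, y ∈ freeLocus π ∨
    (IsDomain (Y.presheaf.stalk y) ∧ IsIntegrallyClosed (Y.presheaf.stalk y))

variable {π}

theorem exists_isNormOf [IsFinite π] [IsReduced Y] [IsLocallyNoetherian Y] (hN : NormalOrFree π)
    (U : Y.Opens) (s : Γ(X, π ⁻¹ᵁ U)) : ∃ t : Γ(Y, U), IsNormOf π D U s t := by
  have hloc : ∀ y : U, ∃ (V' : Y.Opens) (j : V' ⟶ U), y.1 ∈ V' ∧
      ∃ t' : Γ(Y, V'), IsNormOf π D V' (resX π j s) t' := by
    rintro ⟨y, hy⟩
    rcases hN y with hF | ⟨hd, hic⟩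
    · obtain ⟨V, hV, hyV, hVU⟩ := exists_isFreeOpen_le π hF U hy
      exact ⟨V, homOfLE hVU, hyV, _, isNormOf_nrmV π D hV _⟩
    · haveI := hd
      haveI := hic
      exact exists_isNormOf_normal π D U s hy
  choose V j hyV t ht using hloc
  have hcompat : TopCat.Presheaf.IsCompatible Y.presheaf V t := by
    intro y y'
    have h1 := isNormOf_res π D (V y) _ _ (ht y) (Opens.infLELeft (V y) (V y'))
    have h2 := isNormOf_res π D (V y') _ _ (ht y') (Opens.infLERight (V y) (V y'))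
    have e : resX π (Opens.infLELeft (V y) (V y')) (resX π (j y) s) =
        resX π (Opens.infLERight (V y) (V y')) (resX π (j y') s) :=
      (res_res X _ _ ((Opens.map π.base).map (Opens.infLELeft (V y) (V y') ≫ j y)) s).trans
        (res_res X _ _ ((Opens.map π.base).map (Opens.infLELeft (V y) (V y') ≫ j y)) s).symm
    rw [e] at h1
    exact isNormOf_unique π D _ _ _ _ h1 h2
  have hcover : U ≤ iSup V := fun y hy => Opens.mem_iSup.mpr ⟨⟨y, hy⟩, hyV ⟨y, hy⟩⟩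
  obtain ⟨t', ht', -⟩ := TopCat.Sheaf.existsUnique_gluing' Y.sheaf V U j hcover t hcompat
  refine ⟨t', isNormOf_of_local π D U s t' (fun y hy => ⟨V ⟨y, hy⟩, j ⟨y, hy⟩, hyV ⟨y, hy⟩, ?_⟩)⟩
  have := ht' ⟨y, hy⟩
  show IsNormOf π D (V ⟨y, hy⟩) (resX π (j ⟨y, hy⟩) s) (resY (j ⟨y, hy⟩) t')
  rw [show resY (j ⟨y, hy⟩) t' = t ⟨y, hy⟩ from this]
  exact ht ⟨y, hy⟩

end Groth.Agent.Lib.NormDescH6
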