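import Mathlib
import Groth.Prelude
import Groth.Agent.Lib.NormDesc5_helper6
import Groth.Agent.Lib.NormDesc1_helper6

/-!
# The weak norm of a finite surjective morphism which is free or normal at every point (helper6)
APPEND-ONLY once landed.
-/

set_option autoImplicit false
set_option linter.all false
universe u
open CategoryTheory AlgebraicGeometry TopologicalSpace Opposite

namespace Groth.Agent.Lib.NormDescH6

attribute [local instance] FlatNormH4.secAlg
open FlatNormH4 (IsFreeOpen res_res app_res)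

variable {X Y : Scheme.{u}} {π : X ⟶ Y} (D : ℕ)

noncomputable def normFun [IsFinite π] [IsReduced Y] [IsLocallyNoetherian Y] (hN : NormalOrFree π)
    (U : Y.Opens) (s : Γ(X, π ⁻¹ᵁ U)) : Γ(Y, U) :=
  Classical.choose (exists_isNormOf D hN U s)

theorem normFun_spec [IsFinite π] [IsReduced Y] [IsLocallyNoetherian Y] (hN : NormalOrFree π)
    (U : Y.Opens) (s : Γ(X, π ⁻¹ᵁ U)) : IsNormOf π D U s (normFun D hN U s) :=
  Classical.choose_spec (exists_isNormOf D hN U s)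

theorem normFun_eq [IsFinite π] [IsReduced Y] [IsLocallyNoetherian Y] (hN : NormalOrFree π)
    (U : Y.Opens) (s : Γ(X, π ⁻¹ᵁ U)) (t : Γ(Y, U)) (h : IsNormOf π D U s t) :
    normFun D hN U s = t :=
  isNormOf_unique π D U s _ _ (normFun_spec D hN U s) h

noncomputable def normHom [IsFinite π] [IsReduced Y] [IsLocallyNoetherian Y]
    (hN : NormalOrFree π) (U : Y.Opens) : Γ(X, π ⁻¹ᵁ U) →* Γ(Y, U) where
  toFun := normFun D hN U
  map_one' := normFun_eq D hN U 1 1 (isNormOf_one π D U)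
  map_mul' s s' := normFun_eq D hN U (s * s') _
    (isNormOf_mul π D U s s' _ _ (normFun_spec D hN U s) (normFun_spec D hN U s'))

theorem normHom_res [IsFinite π] [IsReduced Y] [IsLocallyNoetherian Y] (hN : NormalOrFree π)
    {U V : Y.Opens} (i : V ⟶ U) (s : Γ(X, π ⁻¹ᵁ U)) :
    resY i (normHom D hN U s) = normHom D hN V (resX π i s) :=
  (normFun_eq D hN V _ _ (isNormOf_res π D U s _ (normFun_spec D hN U s) i)).symm

theorem normHom_app [IsFinite π] [IsReduced Y] [IsLocallyNoetherian Y] (hN : NormalOrFree π)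
    (hD : ∀ V : Y.Opens, IsFreeOpen π V → (V : Set Y).Nonempty → rk π V ∣ D ∧ 0 < rk π V)
    (U : Y.Opens) (g : Γ(Y, U)) : normHom D hN U ((π.app U).hom g) = g ^ D :=
  normFun_eq D hN U _ _ (isNormOf_app π D hD U g)

/-- `π♯` is injective on sections when `π` is surjective and the target reduced. -/
theorem app_injective [Surjective π] [IsReduced Y] (V : Y.Opens) :
    Function.Injective (π.app V).hom := by
  rw [injective_iff_map_eq_zero]
  intro a ha
  rw [← basicOpen_eq_bot_iff]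
  have h1 : π ⁻¹ᵁ Y.basicOpen a = ⊥ := by
    rw [Scheme.preimage_basicOpen]
    show X.basicOpen ((π.app V).hom a) = ⊥
    rw [ha, X.basicOpen_zero]
  refine Opens.ext (Set.eq_empty_of_forall_notMem (fun y hy => ?_))
  obtain ⟨x, rfl⟩ := π.surjective y
  have : x ∈ π ⁻¹ᵁ Y.basicOpen a := hy
  rw [h1] at this
  exact this

/-- free case of `norm_mem` -/
theorem norm_mem_free [IsFinite π] [Surjective π] (hD1 : 1 ≤ D)
    (hD : ∀ V : Y.Opens, IsFreeOpen π V → (V : Set Y).Nonempty → rk π V ∣ D ∧ 0 < rk π V)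
    (U : Y.Opens) (s : Γ(X, π ⁻¹ᵁ U)) (t : Γ(Y, U)) (ht : IsNormOf π D U s t) (y : Y)
    (hyF : y ∈ freeLocus π) (hy : y ∈ Y.basicOpen t) :
    ∃ x : X, π.base x = y ∧ x ∈ X.basicOpen s := by
  have hyU : y ∈ U := Y.basicOpen_le t hy
  obtain ⟨V, hV, hyV, hVU⟩ := exists_isFreeOpen_le π hyF U hyU
  haveI := hV.2
  haveI : Module.Finite Γ(Y, V) Γ(X, π ⁻¹ᵁ V) := FlatNormH4.finite_of_isAffineOpen π V hV.1
  obtain ⟨hdvd, hpos⟩ := hD V hV ⟨y, hyV⟩
  have he : 0 < D / rk π V := Nat.div_pos (Nat.le_of_dvd (by omega) hdvd) hpos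
  obtain ⟨s', hs'⟩ : ∃ s' : Γ(X, π ⁻¹ᵁ V), s' = resX π (homOfLE hVU) s := ⟨_, rfl⟩
  obtain ⟨n, hn⟩ : ∃ n : Γ(Y, V), n = Algebra.norm Γ(Y, V) s' := ⟨_, rfl⟩
  have hres : resY (homOfLE hVU) t = n ^ (D / rk π V) := by
    rw [hn, hs']; exact ht V hV (homOfLE hVU)
  have h1 : y ∈ Y.basicOpen (resY (homOfLE hVU) t) := by
    have := Y.basicOpen_res t (homOfLE hVU).op
    rw [show Y.basicOpen (resY (homOfLE hVU) t) = V ⊓ Y.basicOpen t from this]
    exact ⟨hyV, hy⟩
  rw [hres, Y.basicOpen_pow n he] at h1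
  obtain ⟨x, rfl⟩ := π.surjective y
  refine ⟨x, rfl, ?_⟩
  have h2 : x ∈ π ⁻¹ᵁ Y.basicOpen n := h1
  rw [Scheme.preimage_basicOpen] at h2
  obtain ⟨c, hc⟩ := FlatNormH4.exists_mul_eq_norm (R := Γ(Y, V)) (S := Γ(X, π ⁻¹ᵁ V)) s'
  have hc' : (π.app V).hom n = s' * c := by rw [hn]; exact hc
  have h3 : x ∈ X.basicOpen (s' * c) := (congrArg (fun z => x ∈ X.basicOpen z) hc').mp h2
  have h4 : x ∈ X.basicOpen s' := ((congrArg (fun W => x ∈ W) (X.basicOpen_mul s' c)).mp h3).1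
  have h5 : X.basicOpen s' = π ⁻¹ᵁ V ⊓ X.basicOpen s := by
    rw [hs']
    exact X.basicOpen_res s ((Opens.map π.base).map (homOfLE hVU)).op
  rw [h5] at h4
  exact h4.2

/-- normal case of `norm_mem` -/
theorem norm_mem_normal [IsFinite π] [Surjective π] [IsReduced Y] [IsLocallyNoetherian Y]
    (hD1 : 1 ≤ D)
    (hD : ∀ V : Y.Opens, IsFreeOpen π V → (V : Set Y).Nonempty → rk π V ∣ D ∧ 0 < rk π V)
    (U : Y.Opens) (s : Γ(X, π ⁻¹ᵁ U)) (t : Γ(Y, U)) (ht : IsNormOf π D U s t) (y : Y)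
    [IsDomain (Y.presheaf.stalk y)] [IsIntegrallyClosed (Y.presheaf.stalk y)]
    (hy : y ∈ Y.basicOpen t) :
    ∃ x : X, π.base x = y ∧ x ∈ X.basicOpen s := by
  have hyU : y ∈ U := Y.basicOpen_le t hy
  obtain ⟨V, hV, hyV, hVle, hdom, r, hr, hW₀⟩ :=
    exists_normal_data π (U := Y.basicOpen t) hy
  have hVU : V ≤ U := hVle.trans (Y.basicOpen_le t)
  haveI := hdom
  obtain ⟨W₀, hW₀def⟩ : ∃ W₀ : Y.Opens, W₀ = Y.basicOpen r := ⟨_, rfl⟩
  rw [← hW₀def] at hW₀
  have hW₀V : W₀ ≤ V := hW₀def ▸ Y.basicOpen_le r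
  obtain ⟨hcomm, h1, h2⟩ := FlatNormH4.loc_data π V hV r W₀ hW₀def (homOfLE hW₀V)
  letI := TopCat.Presheaf.algebra_section_stalk Y.presheaf (U := V) ⟨y, hyV⟩
  haveI := hV.isLocalization_stalk ⟨y, hyV⟩
  have hint : (π.app V).hom.IsIntegral :=
    RingHom.IsIntegral.of_finite (FlatNormH4.finite_of_isAffineOpen π V hV)
  have hW₀ne : (W₀ : Set Y).Nonempty := by
    by_contra hemp
    apply hr
    rw [← basicOpen_eq_bot_iff, ← hW₀def]
    exact Opens.ext ((Set.not_nonempty_iff_eq_empty.mp hemp).trans (Opens.coe_bot).symm)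
  obtain ⟨hdvd, hpos⟩ := hD W₀ hW₀ hW₀ne
  have he : 1 ≤ D / rk π W₀ := Nat.div_pos (Nat.le_of_dvd (by omega) hdvd) hpos
  obtain ⟨sV, hsV⟩ : ∃ sV : Γ(X, π ⁻¹ᵁ V), sV = resX π (homOfLE hVU) s := ⟨_, rfl⟩
  obtain ⟨tV, htV⟩ : ∃ tV : Γ(Y, V), tV = resY (homOfLE hVU) t := ⟨_, rfl⟩
  have htu : IsUnit tV := by
    rw [htV]
    exact NormSecH8.isUnit_rX_of_le_basicOpen t hVU hVle
  have hnorm : Algebra.norm Γ(Y, W₀) (resX π (homOfLE hW₀V) sV) ^ (D / rk π W₀) =
      resY (homOfLE hW₀V) tV := by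
    have k := ht W₀ hW₀ (homOfLE (hW₀V.trans hVU))
    have e1 : resX π (homOfLE hW₀V) sV = resX π (homOfLE (hW₀V.trans hVU)) s := by
      rw [hsV]; exact res_res X _ _ _ s
    have e2 : resY (homOfLE hW₀V) tV = resY (homOfLE (hW₀V.trans hVU)) t := by
      rw [htV]; exact res_res Y _ _ _ t
    rw [e1, e2, k]
    rfl
  obtain ⟨q, hq, hqp, hsq⟩ := exists_prime_over_not_mem (Rp := Y.presheaf.stalk y) (π.app V).hom
    (π.app W₀).hom (Y.presheaf.map (homOfLE hW₀V).op).hom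
    (X.presheaf.map ((Opens.map π.base).map (homOfLE hW₀V)).op).hom hcomm r hr h1 hW₀.2
    (FlatNormH4.finite_of_isAffineOpen π W₀ hW₀.1) hint (hV.primeIdealOf ⟨y, hyV⟩).asIdeal
    (app_injective V) h2 sV (D / rk π W₀) he tV htu hnorm
  have hV' : IsAffineOpen (π ⁻¹ᵁ V) := hV.preimage π
  have sq : Spec.map (π.appLE V (π ⁻¹ᵁ V) le_rfl) ≫ hV.fromSpec = hV'.fromSpec ≫ π :=
    IsAffineOpen.SpecMap_appLE_fromSpec π hV hV' le_rfl
  have e : π.appLE V (π ⁻¹ᵁ V) le_rfl = π.app V := π.appLE_eq_app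
  rw [e] at sq
  obtain ⟨Q, hQ⟩ : ∃ Q : PrimeSpectrum Γ(X, π ⁻¹ᵁ V), Q = ⟨q, hq⟩ := ⟨_, rfl⟩
  refine ⟨hV'.fromSpec Q, ?_, ?_⟩
  · have k1 : π.base (hV'.fromSpec Q) = hV.fromSpec ((Spec.map (π.app V)) Q) := by
      have := congrArg (fun f : Spec Γ(X, π ⁻¹ᵁ V) ⟶ Y => f.base Q) sq
      exact this.symm
    have k2 : (Spec.map (π.app V)) Q = hV.primeIdealOf ⟨y, hyV⟩ := by
      apply PrimeSpectrum.ext
      rw [hQ]
      exact hqp
    rw [k1, k2]
    exact hV.fromSpec_primeIdealOf ⟨y, hyV⟩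
  · have k3 : Q ∈ hV'.fromSpec ⁻¹ᵁ X.basicOpen sV := by
      rw [hV'.fromSpec_preimage_basicOpen sV]
      show sV ∉ Q.asIdeal
      rw [hQ]
      exact hsq
    have k4 : hV'.fromSpec Q ∈ X.basicOpen sV := k3
    have h5 : X.basicOpen sV = π ⁻¹ᵁ V ⊓ X.basicOpen s := by
      rw [hsV]
      exact X.basicOpen_res s ((Opens.map π.base).map (homOfLE hVU)).op
    rw [h5] at k4
    exact k4.2

/-- The weak norm of a finite surjective morphism which is free or normal at every point of a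
reduced locally Noetherian target. -/
noncomputable def wnorm [IsFinite π] [Surjective π] [IsReduced Y] [IsLocallyNoetherian Y]
    (hN : NormalOrFree π) (hD1 : 1 ≤ D)
    (hD : ∀ V : Y.Opens, IsFreeOpen π V → (V : Set Y).Nonempty → rk π V ∣ D ∧ 0 < rk π V) :
    WNorm π D where
  one_le := hD1
  norm := normHom D hN
  norm_res := fun {U V} i s => normHom_res D hN i s
  norm_app := fun U g => normHom_app D hN hD U g
  norm_mem := fun U s y hy => by
    rcases hN y with hF | ⟨hd, hic⟩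
    · exact norm_mem_free D hD1 hD U s _ (normFun_spec D hN U s) y hF hy
    · haveI := hd
      haveI := hic
      exact norm_mem_normal D hD1 hD U s _ (normFun_spec D hN U s) y hy

/-- **Descent of ampleness** along a finite surjective morphism onto a reduced Noetherian scheme
which at every point is normal or over which the morphism is locally free (EGA II 6.6.2). -/
theorem isAmple_of_pullback_of_normalOrFree [IsFinite π] [Surjective π] [IsReduced Y]
    [IsNoetherian Y] (hN : NormalOrFree π) {M : Y.Modules} (hM : PicF.IsInvertible M)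
    (hL' : CohB1.IsAmple ((Scheme.Modules.pullback π).obj M)) : CohB1.IsAmple M := by
  obtain ⟨D, hD1, hD⟩ := exists_degree π
  exact isAmple_of_wnorm π
    (wnorm D hN hD1 (fun V hV hne => ⟨hD V hV hne, rk_pos π hV hne⟩)) hM hL'

end Groth.Agent.Lib.NormDescH6
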