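import Mathlib
import Groth.Agent.Lib.NormDimOne2_helper7

/-!
# Normalization of an integral locally Noetherian scheme of dimension one: main theorem (helper7)
-/

set_option autoImplicit false
universe u
open CategoryTheory CategoryTheory.Limits AlgebraicGeometry

namespace Groth.Agent.Lib.NormDimOne3H7

open Groth.Agent.Lib.NormDimOne2H7

theorem main (X : Scheme.{u}) [IsIntegral X] [IsLocallyNoetherian X]
    [QuasiCompact (X.fromSpecStalk (genericPoint X))]
    [QuasiSeparated (X.fromSpecStalk (genericPoint X))]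
    (hdim : topologicalKrullDim X ≤ 1) :
    (∀ x : X, Finite {x' : ↥(X.fromSpecStalk (genericPoint X)).normalization //
        (X.fromSpecStalk (genericPoint X)).fromNormalization.base x' = x}) ∧
      (∀ x' : ↥(X.fromSpecStalk (genericPoint X)).normalization,
        letI := ((X.fromSpecStalk (genericPoint X)).fromNormalization.residueFieldMap x').hom.toAlgebra
        Module.Finite (X.residueField ((X.fromSpecStalk (genericPoint X)).fromNormalization.base x'))
          ((X.fromSpecStalk (genericPoint X)).normalization.residueField x')) ∧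
      IsLocallyNoetherian (X.fromSpecStalk (genericPoint X)).normalization ∧
      (∀ U : (X.fromSpecStalk (genericPoint X)).normalization.affineOpens,
        ((U : (X.fromSpecStalk (genericPoint X)).normalization.Opens) :
          Set ↥(X.fromSpecStalk (genericPoint X)).normalization).Nonempty →
        IsDedekindDomain Γ((X.fromSpecStalk (genericPoint X)).normalization,
          (U : (X.fromSpecStalk (genericPoint X)).normalization.Opens))) := by
  haveI : IsDominant (X.fromSpecStalk (genericPoint X)) :=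
    Groth.Agent.Lib.OverFieldH7.isDominant_fromSpecStalk_genericPoint X
  have hL : IsField (X.presheaf.stalk (genericPoint X)) := Field.toIsField X.functionField
  obtain ⟨hInt, hnorm, -, -, hgen, hres⟩ :=
    Groth.Agent.Lib.NormalizationBiratH7.normalization_of_field_mono
      (X.presheaf.stalk (genericPoint X)) hL (X.fromSpecStalk (genericPoint X))
  set f := X.fromSpecStalk (genericPoint X) with hf
  set N := f.normalization with hN
  set ν : N ⟶ X := f.fromNormalization with hν
  have hcov : ∀ x : X, ∃ V : X.Opens, IsAffineOpen V ∧ x ∈ V := fun x => by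
    obtain ⟨_, ⟨V, hV, rfl⟩, hxV, -⟩ :=
      X.isBasis_affineOpens.exists_subset_of_mem_open (Set.mem_univ x) isOpen_univ
    exact ⟨V, hV, hxV⟩
  -- (3) locally Noetherian
  have hLN : IsLocallyNoetherian N := by
    choose V hV hxV using hcov
    refine isLocallyNoetherian_of_affine_cover
      (S := fun x : X => ⟨ν ⁻¹ᵁ V x, (hV x).preimage ν⟩) ?_ ?_
    · rw [eq_top_iff]
      intro z _
      exact TopologicalSpace.Opens.mem_iSup.mpr ⟨ν.base z, hxV _⟩
    · intro x
      haveI : Nonempty (V x) := ⟨⟨x, hxV x⟩⟩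
      letI := (ν.app (V x)).hom.toAlgebra
      obtain ⟨hD, -, -⟩ := facts X hdim (V x) (hV x)
      haveI := hD
      show IsNoetherianRing Γ(N, ν ⁻¹ᵁ V x)
      infer_instance
  refine ⟨?_, ?_, hLN, ?_⟩
  · -- (1) finite fibres
    intro x
    obtain ⟨V, hV, hxV⟩ := hcov x
    haveI : Nonempty V := ⟨⟨x, hxV⟩⟩
    letI := (ν.app V).hom.toAlgebra
    obtain ⟨hD, hfib, -⟩ := facts X hdim V hV
    have hW : IsAffineOpen (ν ⁻¹ᵁ V) := hV.preimage ν
    have hfin := hfib (hV.primeIdealOf ⟨x, hxV⟩)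
    haveI := hfin.to_subtype
    have hmem : ∀ x' : {x' : N // ν.base x' = x}, x'.1 ∈ ν ⁻¹ᵁ V := fun x' => by
      show ν.base x'.1 ∈ V
      rw [x'.2]
      exact hxV
    refine Finite.of_injective
      (β := ↥(PrimeSpectrum.comap (ν.app V).hom ⁻¹' {hV.primeIdealOf ⟨x, hxV⟩}))
      (fun x' => ⟨hW.primeIdealOf ⟨x'.1, hmem x'⟩, ?_⟩) ?_
    · rw [Set.mem_preimage, Set.mem_singleton_iff]
      have h := IsAffineOpen.comap_primeIdealOf_appLE (f := ν) V hV (ν ⁻¹ᵁ V) hW le_rfl (hmem x')
      rw [← Scheme.Hom.app_eq_appLE] at h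
      rw [h]
      congr 1
      exact Subtype.ext x'.2
    · intro a b hab
      have h1 : hW.primeIdealOf ⟨a.1, hmem a⟩ = hW.primeIdealOf ⟨b.1, hmem b⟩ :=
        congrArg Subtype.val hab
      have h2 := congrArg (fun q => hW.fromSpec q) h1
      simp only [hW.fromSpec_primeIdealOf] at h2
      exact Subtype.ext h2
  · -- (2) residue fields
    intro x'
    obtain ⟨V, hV, hxV⟩ := hcov (ν.base x')
    haveI : Nonempty V := ⟨⟨_, hxV⟩⟩
    have hW : IsAffineOpen (ν ⁻¹ᵁ V) := hV.preimage ν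
    have hx'W : x' ∈ ν ⁻¹ᵁ V := hxV
    haveI : Nonempty (ν ⁻¹ᵁ V) := ⟨⟨x', hx'W⟩⟩
    by_cases hx'gen : x' = genericPoint N
    · have key : ∀ z : N, z = genericPoint N →
          letI := (ν.residueFieldMap z).hom.toAlgebra
          Module.Finite (X.residueField (ν.base z)) (N.residueField z) := by
        rintro z rfl
        letI := (ν.residueFieldMap (genericPoint N)).hom.toAlgebra
        exact Module.Finite.of_surjective (Algebra.linearMap _ _) hres.2
      exact key x' hx'gen
    · letI algB : Algebra Γ(X, V) Γ(N, ν ⁻¹ᵁ V) := (ν.app V).hom.toAlgebra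
      obtain ⟨hD, -, hfinQ⟩ := facts X hdim V hV
      haveI := hD
      have hq0 : (hW.primeIdealOf ⟨x', hx'W⟩).asIdeal ≠ ⊥ := fun h0 =>
        hx'gen ((primeIdealOf_eq_bot_iff hW x' hx'W).mp h0)
      haveI hqmax : (hW.primeIdealOf ⟨x', hx'W⟩).asIdeal.IsMaximal :=
        Ring.DimensionLEOne.maximalOfPrime hq0 (hW.primeIdealOf ⟨x', hx'W⟩).isPrime
      have hfinq : Module.Finite Γ(X, V)
          (Γ(N, ν ⁻¹ᵁ V) ⧸ (hW.primeIdealOf ⟨x', hx'W⟩).asIdeal) := hfinQ _ hqmax
      let evN : Γ(N, ν ⁻¹ᵁ V) →+* N.residueField x' := (N.evaluation (ν ⁻¹ᵁ V) x' hx'W).hom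
      let evX : Γ(X, V) →+* X.residueField (ν.base x') := (X.evaluation V (ν.base x') hxV).hom
      let ρ : X.residueField (ν.base x') →+* N.residueField x' := (ν.residueFieldMap x').hom
      have hnat : ∀ a, ρ (evX a) = evN ((ν.app V).hom a) := fun a =>
        Scheme.evaluation_naturality_apply ν x' hxV a
      letI algS : Algebra Γ(N, ν ⁻¹ᵁ V) (N.presheaf.stalk x') :=
        TopCat.Presheaf.algebra_section_stalk N.presheaf ⟨x', hx'W⟩
      haveI hloc : IsLocalization.AtPrime (N.presheaf.stalk x')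
          (hW.primeIdealOf ⟨x', hx'W⟩).asIdeal := hW.isLocalization_stalk ⟨x', hx'W⟩
      have hker : ∀ b ∈ (hW.primeIdealOf ⟨x', hx'W⟩).asIdeal, evN b = 0 := by
        intro b hb
        show IsLocalRing.residue _ (algebraMap Γ(N, ν ⁻¹ᵁ V) (N.presheaf.stalk x') b) = 0
        rw [IsLocalRing.residue_eq_zero_iff,
          IsLocalization.AtPrime.to_map_mem_maximal_iff _ (hW.primeIdealOf ⟨x', hx'W⟩).asIdeal]
        exact hb
      have hsurj : Function.Surjective evN := by
        intro z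
        obtain ⟨b, hb⟩ := Ideal.Quotient.mk_surjective
          ((IsLocalization.AtPrime.equivQuotMaximalIdeal (hW.primeIdealOf ⟨x', hx'W⟩).asIdeal
            (N.presheaf.stalk x')).symm z)
        refine ⟨b, ?_⟩
        have h := IsLocalization.AtPrime.equivQuotMaximalIdeal_apply_mk
          (hW.primeIdealOf ⟨x', hx'W⟩).asIdeal (N.presheaf.stalk x') b
        rw [hb, RingEquiv.apply_symm_apply] at h
        exact h.symm
      let φ : Γ(N, ν ⁻¹ᵁ V) ⧸ (hW.primeIdealOf ⟨x', hx'W⟩).asIdeal →+* N.residueField x' :=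
        Ideal.Quotient.lift _ evN hker
      have hφsurj : Function.Surjective φ :=
        Ideal.Quotient.lift_surjective_of_surjective _ hker hsurj
      letI algRes : Algebra (X.residueField (ν.base x')) (N.residueField x') := ρ.toAlgebra
      letI algQ : Algebra (Γ(N, ν ⁻¹ᵁ V) ⧸ (hW.primeIdealOf ⟨x', hx'W⟩).asIdeal)
          (N.residueField x') := φ.toAlgebra
      letI algAX : Algebra Γ(X, V) (X.residueField (ν.base x')) := evX.toAlgebra
      letI algAN : Algebra Γ(X, V) (N.residueField x') := (ρ.comp evX).toAlgebra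
      haveI tw1 : IsScalarTower Γ(X, V) (X.residueField (ν.base x')) (N.residueField x') :=
        IsScalarTower.of_algebraMap_eq (fun a => rfl)
      haveI tw2 : IsScalarTower Γ(X, V)
          (Γ(N, ν ⁻¹ᵁ V) ⧸ (hW.primeIdealOf ⟨x', hx'W⟩).asIdeal) (N.residueField x') :=
        IsScalarTower.of_algebraMap_eq (fun a => by
          show ρ (evX a) = φ (algebraMap _ _ a)
          rw [hnat]
          rfl)
      haveI : Module.Finite (Γ(N, ν ⁻¹ᵁ V) ⧸ (hW.primeIdealOf ⟨x', hx'W⟩).asIdeal)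
          (N.residueField x') :=
        Module.Finite.of_surjective (Algebra.linearMap _ _) hφsurj
      haveI : Module.Finite Γ(X, V) (N.residueField x') :=
        Module.Finite.trans (Γ(N, ν ⁻¹ᵁ V) ⧸ (hW.primeIdealOf ⟨x', hx'W⟩).asIdeal) _
      exact Module.Finite.of_restrictScalars_finite Γ(X, V) _ _
  · -- (4) Dedekind
    rintro ⟨U', hU'⟩ ⟨u0, hu0⟩
    haveI : Nonempty U' := ⟨⟨u0, hu0⟩⟩
    haveI hdomR : IsDomain Γ(N, U') := inferInstance
    haveI hnoeR : IsNoetherianRing Γ(N, U') := hLN.component_noetherian ⟨U', hU'⟩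
    haveI hicR : IsIntegrallyClosed Γ(N, U') :=
      Groth.Agent.Lib.PushforwardNormalH7.isIntegrallyClosed_of_stalks (fun y => (hnorm y).2) hU'
    haveI hdimR : Ring.DimensionLEOne Γ(N, U') := by
      refine ⟨fun {p} hp0 hp => ?_⟩
      obtain ⟨m, hm, hpm⟩ := Ideal.exists_le_maximal p hp.ne_top
      have hspec : hU'.fromSpec (⟨p, hp⟩ : PrimeSpectrum Γ(N, U')) ⤳
          hU'.fromSpec (⟨m, hm.isPrime⟩ : PrimeSpectrum Γ(N, U')) :=
        ((PrimeSpectrum.le_iff_specializes (⟨p, hp⟩ : PrimeSpectrum Γ(N, U'))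
          ⟨m, hm.isPrime⟩).mp hpm).map hU'.fromSpec.continuous
      have hxU' : hU'.fromSpec (⟨p, hp⟩ : PrimeSpectrum Γ(N, U')) ∈ U' := by
        rw [← SetLike.mem_coe, ← hU'.range_fromSpec]
        exact ⟨_, rfl⟩
      generalize hx'def : hU'.fromSpec (⟨p, hp⟩ : PrimeSpectrum Γ(N, U')) = x' at hspec hxU'
      generalize hy'def : hU'.fromSpec (⟨m, hm.isPrime⟩ : PrimeSpectrum Γ(N, U')) = y' at hspec
      obtain ⟨V, hV, hyV⟩ := hcov (ν.base y')
      haveI : Nonempty V := ⟨⟨_, hyV⟩⟩
      have hW : IsAffineOpen (ν ⁻¹ᵁ V) := hV.preimage ν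
      have hy'W : y' ∈ ν ⁻¹ᵁ V := hyV
      have hx'W : x' ∈ ν ⁻¹ᵁ V := hspec.mem_open (ν ⁻¹ᵁ V).isOpen hy'W
      haveI : Nonempty (ν ⁻¹ᵁ V) := ⟨⟨y', hy'W⟩⟩
      letI algB : Algebra Γ(X, V) Γ(N, ν ⁻¹ᵁ V) := (ν.app V).hom.toAlgebra
      obtain ⟨hD, -, -⟩ := facts X hdim V hV
      haveI := hD
      have hq : hW.primeIdealOf ⟨x', hx'W⟩ ≤ hW.primeIdealOf ⟨y', hy'W⟩ := by
        rw [PrimeSpectrum.le_iff_specializes]
        refine (hW.fromSpec.isOpenEmbedding.isInducing.specializes_iff).mp ?_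
        show hW.fromSpec (hW.primeIdealOf ⟨x', hx'W⟩) ⤳ hW.fromSpec (hW.primeIdealOf ⟨y', hy'W⟩)
        rw [hW.fromSpec_primeIdealOf, hW.fromSpec_primeIdealOf]
        exact hspec
      have hqx0 : (hW.primeIdealOf ⟨x', hx'W⟩).asIdeal ≠ ⊥ := by
        intro h0
        have h2 : x' = genericPoint N := (primeIdealOf_eq_bot_iff hW x' hx'W).mp h0
        have h3 : (hU'.primeIdealOf ⟨x', hxU'⟩).asIdeal = ⊥ :=
          (primeIdealOf_eq_bot_iff hU' x' hxU').mpr h2
        have h4 : hU'.primeIdealOf ⟨x', hxU'⟩ = (⟨p, hp⟩ : PrimeSpectrum Γ(N, U')) := by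
          apply hU'.fromSpec.isOpenEmbedding.injective
          rw [hU'.fromSpec_primeIdealOf, hx'def]
        rw [h4] at h3
        exact hp0 h3
      have hqxmax : (hW.primeIdealOf ⟨x', hx'W⟩).asIdeal.IsMaximal :=
        Ring.DimensionLEOne.maximalOfPrime hqx0 (hW.primeIdealOf ⟨x', hx'W⟩).isPrime
      have hqeq : hW.primeIdealOf ⟨x', hx'W⟩ = hW.primeIdealOf ⟨y', hy'W⟩ :=
        PrimeSpectrum.ext (hqxmax.eq_of_le (hW.primeIdealOf ⟨y', hy'W⟩).isPrime.ne_top hq)
      have hxy : x' = y' := by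
        have h := congrArg (fun p => hW.fromSpec p) hqeq
        simp only [hW.fromSpec_primeIdealOf] at h
        exact h
      have hPM : (⟨p, hp⟩ : PrimeSpectrum Γ(N, U')) = ⟨m, hm.isPrime⟩ := by
        apply hU'.fromSpec.isOpenEmbedding.injective
        rw [hx'def, hy'def, hxy]
      have hpm' : p = m := congrArg PrimeSpectrum.asIdeal hPM
      rw [hpm']
      exact hm
    exact { hdomR, hnoeR, hdimR, hicR with }

end Groth.Agent.Lib.NormDimOne3H7
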