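import Mathlib

/-!
# A one-dimensional reduced Noetherian local ring integrally closed in an algebra where the
"punctured spectrum functions" are invertible is a DVR (helper7, for S9676)
APPEND-ONLY once landed.
-/

set_option backward.isDefEq.respectTransparency false
set_option backward.isDefEq.respectTransparency.types false
set_option linter.style.haveILetI false
set_option linter.unusedSectionVars false
set_option linter.unusedVariables false
set_option autoImplicit false
set_option maxHeartbeats 1600000
set_option maxSynthPendingDepth 3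

universe u v

open IsLocalRing

namespace Groth.Agent.Lib.NormDvrPtH7

/-- A submodule of a finitely generated submodule over a Noetherian ring is finitely generated. -/
theorem fg_of_le_of_fg {R M : Type*} [CommRing R] [IsNoetherianRing R] [AddCommGroup M]
    [Module R M] {S N : Submodule R M} (hN : N.FG) (hle : S ≤ N) : S.FG := by
  haveI : IsNoetherian R N := isNoetherian_of_fg_of_noetherian N hN
  have h1 : (Submodule.comap N.subtype S).FG := IsNoetherian.noetherian _
  have h2 := h1.map N.subtype
  rw [Submodule.map_comap_subtype] at h2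
  rwa [inf_eq_right.mpr hle] at h2

/-- The maximal ideal of a one-dimensional local ring is not a minimal prime. -/
theorem maximalIdeal_notMem_minimalPrimes (C : Type*) [CommRing C] [IsLocalRing C]
    (hdim : ringKrullDim C = 1) : maximalIdeal C ∉ minimalPrimes C := by
  intro hmin
  have h0 : Ring.KrullDimLE 0 C := by
    rw [Ring.krullDimLE_zero_iff]
    intro I hI
    have h1 : I ≤ maximalIdeal C := IsLocalRing.le_maximalIdeal hI.ne_top
    have h2 : maximalIdeal C ≤ I := hmin.2 ⟨hI, bot_le⟩ h1
    rw [le_antisymm h1 h2]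
    infer_instance
  have h1 := Ring.krullDimLE_iff.mp h0
  rw [hdim] at h1
  exact absurd h1 (by decide)

/-- Main algebra lemma. -/
theorem isDVR_of_integrallyClosedIn (C : Type u) (E : Type v) [CommRing C] [CommRing E]
    [Algebra C E] [IsNoetherianRing C] [IsLocalRing C] [IsReduced C]
    (hdim : ringKrullDim C = 1)
    (hinj : Function.Injective (algebraMap C E))
    (hic : ∀ e : E, IsIntegral C e → e ∈ Set.range (algebraMap C E))
    (hunit : ∀ t : C, (∀ q : Ideal C, q.IsPrime → t ∈ q → q = maximalIdeal C) →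
      IsUnit (algebraMap C E t)) :
    ∃ _ : IsDomain C, IsDiscreteValuationRing C := by
  haveI hK1 : Ring.KrullDimLE 1 C := Ring.krullDimLE_iff.mpr hdim.le
  have h1 := Ring.krullDimLE_one_iff.mp hK1
  have hmnot := maximalIdeal_notMem_minimalPrimes C hdim
  -- prime avoidance
  have hfin : (minimalPrimes C).Finite := minimalPrimes.finite_of_isNoetherianRing C
  obtain ⟨t, htm, htq⟩ : ∃ t ∈ maximalIdeal C, ∀ q ∈ minimalPrimes C, t ∉ q := by
    by_contra hcon
    push Not at hcon
    have hsub : ((maximalIdeal C : Ideal C) : Set C) ⊆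
        ⋃ q ∈ ((hfin.toFinset : Finset (Ideal C)) : Set (Ideal C)), ((id q : Ideal C) : Set C) := by
      intro x hx
      obtain ⟨q, hq, hxq⟩ := hcon x hx
      simp only [Set.mem_iUnion]
      exact ⟨q, by simpa using hq, hxq⟩
    classical
    by_cases hne : (hfin.toFinset : Finset (Ideal C)).Nonempty
    · obtain ⟨a, ha⟩ := hne
      rw [Ideal.subset_union_prime (s := hfin.toFinset) (f := id) a a
        (fun i hi _ _ => ((hfin.mem_toFinset).1 hi).1.1)] at hsub
      obtain ⟨q, hq, hle⟩ := hsub
      have hq' : q ∈ minimalPrimes C := (hfin.mem_toFinset).1 hq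
      have hqm : q ≤ maximalIdeal C := IsLocalRing.le_maximalIdeal hq'.1.1.ne_top
      have : q = maximalIdeal C := le_antisymm hqm hle
      exact hmnot (this ▸ hq')
    · rw [Finset.not_nonempty_iff_eq_empty] at hne
      obtain ⟨p, hp, -⟩ := Ideal.exists_minimalPrimes_le
        (bot_le : (⊥ : Ideal C) ≤ maximalIdeal C)
      have : p ∈ hfin.toFinset := (hfin.mem_toFinset).2 hp
      rw [hne] at this
      simp at this
  have hP : ∀ q : Ideal C, q.IsPrime → t ∈ q → q = maximalIdeal C := by
    intro q hq htq'
    rcases h1 q hq with hmin | hmax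
    · exact absurd htq' (htq q hmin)
    · exact IsLocalRing.eq_maximalIdeal hmax
  have hu := hunit t hP
  obtain ⟨u, hu⟩ := hu
  -- some power of the maximal ideal lies in (t)
  have hrad : maximalIdeal C ≤ (Ideal.span {t}).radical := by
    rw [Ideal.radical_eq_sInf]
    refine le_sInf ?_
    rintro J ⟨hJ, hJp⟩
    have : t ∈ J := hJ (Ideal.subset_span (Set.mem_singleton t))
    rw [hP J hJp this]
  have hex : ∃ k, maximalIdeal C ^ k ≤ Ideal.span {t} :=
    Ideal.exists_pow_le_of_le_radical_of_fg hrad (IsNoetherian.noetherian _)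
  classical
  have hk := Nat.find_spec hex
  have hkmin := fun m => Nat.find_min hex (m := m)
  have hk0 : Nat.find hex ≠ 0 := by
    intro h0
    rw [h0, pow_zero] at hk
    have h1t : (1 : C) ∈ Ideal.span {t} := hk (by simp)
    have : t ∣ 1 := Ideal.mem_span_singleton.mp h1t
    have htu : IsUnit t := isUnit_of_dvd_one this
    exact (IsLocalRing.mem_maximalIdeal t).1 htm htu
  obtain ⟨n, hn⟩ := Nat.exists_eq_succ_of_ne_zero hk0
  have hnot : ¬ maximalIdeal C ^ n ≤ Ideal.span {t} := hkmin n (by omega)
  obtain ⟨y, hyn, hyt⟩ := SetLike.not_le_iff_exists.mp hnot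
  -- the element z
  obtain ⟨z, hz⟩ : ∃ z : E, z = algebraMap C E y * ((u⁻¹ : Eˣ) : E) := ⟨_, rfl⟩
  have hzm : ∀ m ∈ maximalIdeal C, ∃ c : C, z * algebraMap C E m = algebraMap C E c := by
    intro m hm
    have hym : y * m ∈ maximalIdeal C ^ (n + 1) := by
      rw [pow_succ]
      exact Ideal.mul_mem_mul hyn hm
    rw [← Nat.succ_eq_add_one, ← hn] at hym
    obtain ⟨c, hc⟩ := Ideal.mem_span_singleton'.mp (hk hym)
    refine ⟨c, ?_⟩
    have h3 : algebraMap C E y * algebraMap C E m = algebraMap C E c * (u : E) := by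
      rw [hu, ← map_mul, ← map_mul, hc]
    rw [hz]
    calc algebraMap C E y * ((u⁻¹ : Eˣ) : E) * algebraMap C E m
        = (algebraMap C E y * algebraMap C E m) * ((u⁻¹ : Eˣ) : E) := by ring
      _ = algebraMap C E c * ((u : E) * ((u⁻¹ : Eˣ) : E)) := by rw [h3]; ring
      _ = algebraMap C E c := by rw [Units.mul_inv, mul_one]
  -- principal maximal ideal
  have hprinc : ∃ π : C, maximalIdeal C = Ideal.span {π} := by
    by_cases hcase : ∀ m ∈ maximalIdeal C, ∀ c : C, z * algebraMap C E m = algebraMap C E c →
        c ∈ maximalIdeal C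
    · exfalso
      -- z is integral
      let N : Submodule C E := Submodule.map
        ((LinearMap.mulLeft C (((u⁻¹ : Eˣ) : E))).comp (Algebra.linearMap C E))
        (maximalIdeal C)
      have hNfg : N.FG := Submodule.FG.map _ (IsNoetherian.noetherian _)
      have hmemN : ∀ e : E, e ∈ N ↔ ∃ m ∈ maximalIdeal C, ((u⁻¹ : Eˣ) : E) * algebraMap C E m = e := by
        intro e
        simp only [N, Submodule.mem_map]
        rfl
      have h1N : (1 : E) ∈ N := by
        rw [hmemN]
        refine ⟨t, htm, ?_⟩
        rw [← hu, Units.inv_mul]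
      have hzN : ∀ e ∈ N, z * e ∈ N := by
        intro e he
        rw [hmemN] at he ⊢
        obtain ⟨m, hm, rfl⟩ := he
        obtain ⟨c, hc⟩ := hzm m hm
        refine ⟨c, hcase m hm c hc, ?_⟩
        rw [← hc]
        ring
      have hpow : ∀ k : ℕ, z ^ k ∈ N := by
        intro k
        induction k with
        | zero => simpa using h1N
        | succ k ih =>
          rw [pow_succ']
          exact hzN _ ih
      have hle : (Algebra.adjoin C {z}).toSubmodule ≤ N := by
        rw [Algebra.adjoin_eq_span]
        rw [Submodule.span_le]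
        intro e he
        rw [SetLike.mem_coe, Submonoid.mem_closure_singleton] at he
        obtain ⟨k, rfl⟩ := he
        exact hpow k
      have hfg : (Algebra.adjoin C {z}).toSubmodule.FG := fg_of_le_of_fg hNfg hle
      have hzint : IsIntegral C z :=
        IsIntegral.of_mem_of_fg _ hfg z (Algebra.subset_adjoin (Set.mem_singleton z))
      obtain ⟨c, hc⟩ := hic z hzint
      apply hyt
      rw [Ideal.mem_span_singleton']
      refine ⟨c, ?_⟩
      apply hinj
      rw [map_mul, hc, hz, ← hu, mul_assoc, Units.inv_mul, mul_one]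
    · push Not at hcase
      obtain ⟨m₀, hm₀, c₀, hc₀, hc₀m⟩ := hcase
      have hc₀u : IsUnit c₀ := by
        by_contra h
        exact hc₀m ((IsLocalRing.mem_maximalIdeal c₀).2 h)
      refine ⟨m₀, le_antisymm ?_ ?_⟩
      · intro m hm
        obtain ⟨c, hc⟩ := hzm m hm
        have h5 : m * c₀ = c * m₀ := by
          apply hinj
          rw [map_mul, map_mul, ← hc₀, ← hc]
          ring
        obtain ⟨v, hv⟩ := hc₀u
        rw [Ideal.mem_span_singleton']
        refine ⟨c * ((v⁻¹ : Cˣ) : C), ?_⟩
        calc c * ((v⁻¹ : Cˣ) : C) * m₀ = (c * m₀) * ((v⁻¹ : Cˣ) : C) := by ring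
          _ = m * (c₀ * ((v⁻¹ : Cˣ) : C)) := by rw [← h5]; ring
          _ = m := by rw [← hv, Units.mul_inv, mul_one]
      · rw [Ideal.span_le, Set.singleton_subset_iff]
        exact hm₀
  obtain ⟨π, hπ⟩ := hprinc
  -- domain
  obtain ⟨q, hq, -⟩ := Ideal.exists_minimalPrimes_le (bot_le : (⊥ : Ideal C) ≤ maximalIdeal C)
  have hq' : q ∈ minimalPrimes C := hq
  haveI hqp : q.IsPrime := hq.1.1
  have hqne : q ≠ maximalIdeal C := fun h => hmnot (h ▸ hq')
  have hπq : π ∉ q := by
    intro hπq
    apply hqne
    apply le_antisymm (IsLocalRing.le_maximalIdeal hqp.ne_top)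
    rw [hπ, Ideal.span_le, Set.singleton_subset_iff]
    exact hπq
  have hqle : q ≤ maximalIdeal C • q := by
    intro x hx
    have hxm : x ∈ maximalIdeal C := IsLocalRing.le_maximalIdeal hqp.ne_top hx
    rw [hπ, Ideal.mem_span_singleton'] at hxm
    obtain ⟨a, ha⟩ := hxm
    have haq : a ∈ q := by
      have : a * π ∈ q := ha ▸ hx
      exact (hqp.mem_or_mem this).resolve_right hπq
    rw [← ha, smul_eq_mul, mul_comm a π]
    apply Ideal.mul_mem_mul _ haq
    rw [hπ]
    exact Ideal.subset_span (Set.mem_singleton π)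
  have hqbot : q = ⊥ :=
    Submodule.eq_bot_of_le_smul_of_le_jacobson_bot (maximalIdeal C) q (IsNoetherian.noetherian _)
      hqle (IsLocalRing.maximalIdeal_le_jacobson ⊥)
  haveI : (⊥ : Ideal C).IsPrime := hqbot ▸ hqp
  haveI hdom : IsDomain C := IsDomain.of_bot_isPrime C
  refine ⟨hdom, ?_⟩
  have hnf : ¬ IsField C := by
    intro hf
    apply hmnot
    rw [IsLocalRing.isField_iff_maximalIdeal_eq.1 hf, IsDomain.minimalPrimes_eq_singleton_bot]
    exact Set.mem_singleton _
  have hpr : (maximalIdeal C).IsPrincipal := ⟨⟨π, hπ⟩⟩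
  exact ((IsDiscreteValuationRing.TFAE C hnf).out 0 4).mpr hpr

end Groth.Agent.Lib.NormDvrPtH7
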