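import Mathlib

/-!
# Localization preserves "injective and integrally closed in" (helper7, for S9676)
APPEND-ONLY once landed.
-/

set_option backward.isDefEq.respectTransparency false
set_option backward.isDefEq.respectTransparency.types false
set_option linter.style.haveILetI false
set_option linter.unusedSectionVars false
set_option linter.unusedVariables false
set_option autoImplicit false
set_option maxHeartbeats 1600000
set_option maxSynthPendingDepth 3

universe u v

namespace Groth.Agent.Lib.NormDvrPtH7

/-- If `R → B` is injective and `R` is integrally closed in `B`, the same holds for the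
localizations `M⁻¹R → M⁻¹B`. -/
theorem integrallyClosed_localization {R B C E : Type*} [CommRing R] [CommRing B] [CommRing C]
    [CommRing E] [Algebra R B] [Algebra R C] [Algebra B E] [Algebra C E] [Algebra R E]
    [IsScalarTower R B E] [IsScalarTower R C E] (M : Submonoid R)
    [IsLocalization M C] [IsLocalization (Algebra.algebraMapSubmonoid B M) E]
    (hinj : Function.Injective (algebraMap R B))
    (hic : ∀ b : B, IsIntegral R b → b ∈ Set.range (algebraMap R B)) :
    Function.Injective (algebraMap C E) ∧
      ∀ e : E, IsIntegral C e → e ∈ Set.range (algebraMap C E) := by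
  have hunitE : ∀ m : R, m ∈ M → IsUnit (algebraMap R E m) := by
    intro m hm
    rw [IsScalarTower.algebraMap_apply R B E]
    exact IsLocalization.map_units E
      (⟨algebraMap R B m, Algebra.mem_algebraMapSubmonoid_of_mem ⟨m, hm⟩⟩ :
        Algebra.algebraMapSubmonoid B M)
  constructor
  · rw [injective_iff_map_eq_zero]
    intro c hc
    obtain ⟨r, m, rfl⟩ := IsLocalization.exists_mk'_eq M c
    have h1 : algebraMap C E (IsLocalization.mk' C r m) * algebraMap R E m = algebraMap R E r := by
      rw [IsScalarTower.algebraMap_apply R C E, IsScalarTower.algebraMap_apply R C E, ← map_mul,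
        IsLocalization.mk'_spec]
    rw [hc, zero_mul] at h1
    have h2 : algebraMap B E (algebraMap R B r) = 0 := by
      rw [← IsScalarTower.algebraMap_apply R B E, ← h1]
    rw [IsLocalization.map_eq_zero_iff (Algebra.algebraMapSubmonoid B M)] at h2
    obtain ⟨⟨b', hb'⟩, hb'0⟩ := h2
    obtain ⟨m', hm', hmb⟩ := Submonoid.mem_map.mp hb'
    have hmb' : algebraMap R B m' = b' := hmb
    have h3 : algebraMap R B (m' * r) = 0 := by
      rw [map_mul, hmb']
      exact hb'0
    have h4 : m' * r = 0 := hinj (by rw [h3, map_zero])
    rw [IsLocalization.mk'_eq_zero_iff]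
    exact ⟨⟨m', hm'⟩, h4⟩
  · intro e he
    obtain ⟨b, ⟨s, hs⟩, rfl⟩ := IsLocalization.exists_mk'_eq (Algebra.algebraMapSubmonoid B M) e
    obtain ⟨m₁, hm₁, hms⟩ := Submonoid.mem_map.mp hs
    have hms' : algebraMap R B m₁ = s := hms
    subst hms'
    set e := IsLocalization.mk' E b (⟨algebraMap R B m₁, hs⟩ : Algebra.algebraMapSubmonoid B M)
      with he_def
    have h1 : e * algebraMap R E m₁ = algebraMap B E b := by
      rw [IsScalarTower.algebraMap_apply R B E]
      exact IsLocalization.mk'_spec E b _
    have h2 : IsIntegral C (algebraMap B E b) := by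
      rw [← h1, IsScalarTower.algebraMap_apply R C E]
      exact he.mul isIntegral_algebraMap
    obtain ⟨⟨m₂, hm₂⟩, h3⟩ := IsIntegral.exists_multiple_integral_of_isLocalization M _ h2
    have h4 : IsIntegral R (algebraMap B E (m₂ • b)) := by
      have : (⟨m₂, hm₂⟩ : M) • algebraMap B E b = algebraMap B E (m₂ • b) := by
        rw [Submonoid.smul_def, Algebra.smul_def, Algebra.smul_def, map_mul,
          ← IsScalarTower.algebraMap_apply R B E]
      rwa [this] at h3
    obtain ⟨m₃, hm₃, h5⟩ := IsLocalization.exists_isIntegral_smul_of_isIntegral_map M h4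
    obtain ⟨r, hr⟩ := hic _ h5
    have hmM : m₃ * m₂ * m₁ ∈ M := M.mul_mem (M.mul_mem hm₃ hm₂) hm₁
    refine ⟨IsLocalization.mk' C r ⟨m₃ * m₂ * m₁, hmM⟩, ?_⟩
    have h6 : algebraMap C E (IsLocalization.mk' C r ⟨m₃ * m₂ * m₁, hmM⟩) *
        algebraMap R E (m₃ * m₂ * m₁) = algebraMap R E r := by
      rw [IsScalarTower.algebraMap_apply R C E, IsScalarTower.algebraMap_apply R C E, ← map_mul,
        IsLocalization.mk'_spec]
    have h7 : algebraMap R E r = e * algebraMap R E (m₃ * m₂ * m₁) := by
      rw [IsScalarTower.algebraMap_apply R B E, hr, Algebra.smul_def, Algebra.smul_def, map_mul,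
        map_mul, ← IsScalarTower.algebraMap_apply R B E, ← IsScalarTower.algebraMap_apply R B E,
        ← h1, map_mul, map_mul]
      ring
    rw [h7] at h6
    exact (hunitE _ hmM).mul_left_injective h6

end Groth.Agent.Lib.NormDvrPtH7
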