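import Mathlib
import Groth.Agent.Lib.AlgSpOnePt_helper7

/-!
# Sections of the base change of a qcqs open along a flat localization (helper7, for S9676)
(adapted from helper4's `NormUniv_helper4.isLocalization_sections`, which treats affine `W`)
APPEND-ONLY once landed.
-/

set_option backward.isDefEq.respectTransparency false
set_option backward.isDefEq.respectTransparency.types false
set_option linter.style.haveILetI false
set_option linter.unusedSectionVars false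
set_option linter.unusedVariables false
set_option autoImplicit false
set_option maxHeartbeats 1600000
set_option maxSynthPendingDepth 3

universe u

open AlgebraicGeometry CategoryTheory CategoryTheory.Limits TopologicalSpace Opposite

namespace Groth.Agent.Lib.NormDvrPtH7

theorem isLocalization_sections_qcqs {T X Z : Scheme.{u}} (h₁ : T ⟶ X) (g : Z ⟶ X) [IsAffine T]
    [Flat h₁]
    (U : X.Opens) (hU : IsAffineOpen U) (hTU : (⊤ : T.Opens) ≤ h₁ ⁻¹ᵁ U)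
    (W : Z.Opens) (hWc : IsCompact (W : Set Z)) (hWqs : IsQuasiSeparated (W : Set Z))
    (hWU : W ≤ g ⁻¹ᵁ U)
    (M : Submonoid Γ(X, U))
    (hloc : @IsLocalization Γ(X, U) _ M Γ(T, ⊤) _ (h₁.appLE U ⊤ hTU).hom.toAlgebra) :
    @IsLocalization Γ(Z, W) _ (M.map (g.appLE U W hWU).hom)
      Γ(pullback h₁ g, pullback.snd h₁ g ⁻¹ᵁ W) _
      ((pullback.snd h₁ g).appLE W (pullback.snd h₁ g ⁻¹ᵁ W) le_rfl).hom.toAlgebra := by
  have H : IsPullback (pullback.fst h₁ g) (pullback.snd h₁ g) h₁ g :=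
    IsPullback.of_hasPullback h₁ g
  have hUY : pullback.snd h₁ g ⁻¹ᵁ W = pullback.fst h₁ g ⁻¹ᵁ ⊤ ⊓ pullback.snd h₁ g ⁻¹ᵁ W :=
    le_antisymm (le_inf (fun _ _ => trivial) le_rfl) inf_le_right
  haveI hiso : IsIso (pushoutSection H hWU hTU hUY) :=
    isIso_pushoutSection_of_isQuasiSeparated_of_flat_left H hWU hTU hUY hU (isAffineOpen_top T)
      hWc hWqs
  have hpo := (isIso_pushoutSection_iff H hWU hTU hUY).mp hiso
  letI algAK : Algebra Γ(X, U) Γ(T, ⊤) := (h₁.appLE U ⊤ hTU).hom.toAlgebra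
  letI algAC : Algebra Γ(X, U) Γ(Z, W) := (g.appLE U W hWU).hom.toAlgebra
  letI algKB : Algebra Γ(T, ⊤) Γ(pullback h₁ g, pullback.snd h₁ g ⁻¹ᵁ W) :=
    ((pullback.fst h₁ g).appLE ⊤ (pullback.snd h₁ g ⁻¹ᵁ W) (fun _ _ => trivial)).hom.toAlgebra
  letI algCB : Algebra Γ(Z, W) Γ(pullback h₁ g, pullback.snd h₁ g ⁻¹ᵁ W) :=
    ((pullback.snd h₁ g).appLE W (pullback.snd h₁ g ⁻¹ᵁ W) le_rfl).hom.toAlgebra
  letI algAB : Algebra Γ(X, U) Γ(pullback h₁ g, pullback.snd h₁ g ⁻¹ᵁ W) :=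
    ((algebraMap Γ(Z, W) Γ(pullback h₁ g, pullback.snd h₁ g ⁻¹ᵁ W)).comp
      (algebraMap Γ(X, U) Γ(Z, W))).toAlgebra
  haveI st1 : IsScalarTower Γ(X, U) Γ(Z, W) Γ(pullback h₁ g, pullback.snd h₁ g ⁻¹ᵁ W) :=
    IsScalarTower.of_algebraMap_eq (fun _ => rfl)
  haveI st2 : IsScalarTower Γ(X, U) Γ(T, ⊤) Γ(pullback h₁ g, pullback.snd h₁ g ⁻¹ᵁ W) := by
    refine IsScalarTower.of_algebraMap_eq (fun a => ?_)
    exact (congrArg (fun m => m.hom a) hpo.w).symm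
  have hAP : Algebra.IsPushout Γ(X, U) Γ(T, ⊤) Γ(Z, W)
      Γ(pullback h₁ g, pullback.snd h₁ g ⁻¹ᵁ W) :=
    (CommRingCat.isPushout_iff_isPushout (R := Γ(X, U)) (R' := Γ(T, ⊤)) (S := Γ(Z, W))
      (S' := Γ(pullback h₁ g, pullback.snd h₁ g ⁻¹ᵁ W))).mp hpo
  haveI := hloc
  exact (Algebra.isLocalization_iff_isPushout M Γ(T, ⊤)).mpr hAP.symm

/-- The commutation `R → Γ(T) → E` equals `R → Γ(Z,W) → E`. -/
theorem appLE_comm {T X Z : Scheme.{u}} (h₁ : T ⟶ X) (g : Z ⟶ X)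
    (U : X.Opens) (hTU : (⊤ : T.Opens) ≤ h₁ ⁻¹ᵁ U) (W : Z.Opens) (hWU : W ≤ g ⁻¹ᵁ U) :
    h₁.appLE U ⊤ hTU ≫ (pullback.fst h₁ g).appLE ⊤ (pullback.snd h₁ g ⁻¹ᵁ W) (fun _ _ => trivial) =
      g.appLE U W hWU ≫ (pullback.snd h₁ g).appLE W (pullback.snd h₁ g ⁻¹ᵁ W) le_rfl := by
  rw [Scheme.Hom.appLE_comp_appLE, Scheme.Hom.appLE_comp_appLE]
  have key : ∀ (a b : pullback h₁ g ⟶ X) (hab : a = b) (V : (pullback h₁ g).Opens)
      (ha : V ≤ a ⁻¹ᵁ U) (hb : V ≤ b ⁻¹ᵁ U), a.appLE U V ha = b.appLE U V hb := by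
    intro a b hab V ha hb
    subst hab
    rfl
  exact key _ _ pullback.condition _ _ _

end Groth.Agent.Lib.NormDvrPtH7
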