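import Mathlib
import Groth.Prelude.Def_Found
import Groth.Agent.Lib.NormFinite_helper3
import Groth.Agent.Lib.NormDvrPt1_helper7
import Groth.Agent.Lib.NormDvrPt2_helper7
import Groth.Agent.Lib.NormDvrPt3_helper7

/-!
# S9676: the local ring of the relative normalization at a one-dimensional point outside the
image is a DVR (helper7)
APPEND-ONLY once landed.
-/

set_option backward.isDefEq.respectTransparency false
set_option backward.isDefEq.respectTransparency.types false
set_option linter.style.haveILetI false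
set_option linter.unusedSectionVars false
set_option linter.unusedVariables false
set_option autoImplicit false
set_option maxHeartbeats 1600000
set_option maxSynthPendingDepth 3

universe u

open AlgebraicGeometry CategoryTheory CategoryTheory.Limits TopologicalSpace Opposite

namespace Groth.Agent.Lib.NormDvrPtH7

variable {X Y : Scheme.{u}} (f : Y ⟶ X) [QuasiCompact f] [QuasiSeparated f]

/-- Sections of the normalization over the preimage of an affine open inject into the sections
of the source and are integrally closed there. -/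
theorem sections_data {U : X.Opens} (hU : IsAffineOpen U)
    (hle : f ⁻¹ᵁ U ≤ f.toNormalization ⁻¹ᵁ (f.fromNormalization ⁻¹ᵁ U)) :
    Function.Injective (f.toNormalization.appLE (f.fromNormalization ⁻¹ᵁ U) (f ⁻¹ᵁ U) hle).hom ∧
    ∀ b : Γ(Y, f ⁻¹ᵁ U),
      (f.toNormalization.appLE (f.fromNormalization ⁻¹ᵁ U) (f ⁻¹ᵁ U) hle).hom.IsIntegralElem b →
      b ∈ Set.range (f.toNormalization.appLE (f.fromNormalization ⁻¹ᵁ U) (f ⁻¹ᵁ U) hle).hom := by
  letI := (f.app U).hom.toAlgebra
  obtain ⟨ι, hιdef⟩ : ∃ ι : Γ(f.normalization, f.fromNormalization ⁻¹ᵁ U) →+* Γ(Y, f ⁻¹ᵁ U),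
      ι = (f.toNormalization.appLE _ _ hle).hom := ⟨_, rfl⟩
  rw [← hιdef]
  have hval := f.normalizationObjIso_hom_val hU
  have hι_apply : ∀ r, ι r =
      (((f.normalizationObjIso hU).hom.hom r : integralClosure Γ(X, U) Γ(Y, f ⁻¹ᵁ U)) :
        Γ(Y, f ⁻¹ᵁ U)) := by
    intro r
    rw [hιdef, ← hval]
    rfl
  have hιinj : Function.Injective ι := by
    intro r r' h
    rw [hι_apply, hι_apply] at h
    have h1 := Subtype.ext h
    exact (ConcreteCategory.bijective_of_isIso (f.normalizationObjIso hU).hom).1 h1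
  refine ⟨hιinj, ?_⟩
  intro b hb
  obtain ⟨p, hp, hp0⟩ := hb
  have h1 : IsIntegral (integralClosure Γ(X, U) Γ(Y, f ⁻¹ᵁ U)) b := by
    refine ⟨p.map (f.normalizationObjIso hU).hom.hom, hp.map _, ?_⟩
    rw [Polynomial.eval₂_map]
    have : (algebraMap (integralClosure Γ(X, U) Γ(Y, f ⁻¹ᵁ U)) Γ(Y, f ⁻¹ᵁ U)).comp
        (f.normalizationObjIso hU).hom.hom = ι := by
      ext r
      exact (hι_apply r).symm
    rw [this]
    exact hp0
  have h2 : IsIntegral Γ(X, U) b := isIntegral_trans b h1
  obtain ⟨r, hr⟩ := (ConcreteCategory.bijective_of_isIso (f.normalizationObjIso hU).hom).2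
    (⟨b, h2⟩ : integralClosure Γ(X, U) Γ(Y, f ⁻¹ᵁ U))
  refine ⟨r, ?_⟩
  rw [hι_apply]
  exact congrArg Subtype.val hr

/-- **S9676**. -/
theorem main9676 [LocallyOfFiniteType f] [AlgebraicGeometry.IsReduced Y]
    (hX : ∀ U : X.affineOpens, CAlg.IsNagata Γ(X, U))
    (x' : ↥f.normalization) (hdim : ringKrullDim (f.normalization.presheaf.stalk x') = 1)
    (hx' : x' ∉ Set.range f.toNormalization.base) :
    ∃ _ : IsDomain (f.normalization.presheaf.stalk x'),
      IsDiscreteValuationRing (f.normalization.presheaf.stalk x') := by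
  haveI : IsFinite f.fromNormalization :=
    Groth.Agent.Lib.NormFiniteH3.isFinite_fromNormalization f hX
  haveI : IsLocallyNoetherian X := ⟨fun U => (hX U).1⟩
  haveI : IsLocallyNoetherian f.normalization :=
    LocallyOfFiniteType.isLocallyNoetherian f.fromNormalization
  obtain ⟨_, ⟨(U : X.Opens), hU, rfl⟩, hyU, -⟩ :=
    X.isBasis_affineOpens.exists_subset_of_mem_open
      (Set.mem_univ (f.fromNormalization x')) isOpen_univ
  have hU' : IsAffineOpen (f.fromNormalization ⁻¹ᵁ U) := hU.preimage f.fromNormalization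
  have hx'U : x' ∈ f.fromNormalization ⁻¹ᵁ U := hyU
  have hle : f ⁻¹ᵁ U ≤ f.toNormalization ⁻¹ᵁ (f.fromNormalization ⁻¹ᵁ U) := by
    rw [← Scheme.Hom.comp_preimage, f.toNormalization_fromNormalization]
  have hWc : IsCompact ((f ⁻¹ᵁ U : Y.Opens) : Set Y) :=
    QuasiCompact.isCompact_preimage (f := f) _ U.isOpen hU.isCompact
  have hWqs : IsQuasiSeparated ((f ⁻¹ᵁ U : Y.Opens) : Set Y) :=
    f.isQuasiSeparated_preimage hU.isQuasiSeparated
  obtain ⟨hιinj, hιic⟩ := sections_data f hU hle
  -- the local scheme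
  haveI hflat : Flat (f.normalization.fromSpecStalk x') :=
    Groth.Agent.Lib.AlgSpOnePt_helper7.flat_fromSpecStalk _ _
  have hTU : (⊤ : (Spec (f.normalization.presheaf.stalk x')).Opens) ≤
      (f.normalization.fromSpecStalk x') ⁻¹ᵁ (f.fromNormalization ⁻¹ᵁ U) := by
    intro z _
    have hz : (f.normalization.fromSpecStalk x') z ⤳ x' := by
      have h0 : (f.normalization.fromSpecStalk x') z ∈
          Set.range (f.normalization.fromSpecStalk x') := ⟨z, rfl⟩
      rw [Scheme.range_fromSpecStalk] at h0
      exact h0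
    exact hz.mem_open (f.fromNormalization ⁻¹ᵁ U).2 hx'U
  have key : ∀ (r : Opposite.op (⊤ : (Spec (f.normalization.presheaf.stalk x')).Opens) ⟶
      Opposite.op ⊤), (Spec (f.normalization.presheaf.stalk x')).presheaf.map r = 𝟙 _ :=
    fun r => by rw [Subsingleton.elim r (𝟙 _), CategoryTheory.Functor.map_id]
  have hγ : (f.normalization.fromSpecStalk x').appLE (f.fromNormalization ⁻¹ᵁ U) ⊤ hTU =
      f.normalization.presheaf.germ (f.fromNormalization ⁻¹ᵁ U) x' hx'U ≫
        (Scheme.ΓSpecIso (f.normalization.presheaf.stalk x')).inv := by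
    rw [Scheme.Hom.appLE, Scheme.fromSpecStalk_app hx'U, Category.assoc, Category.assoc,
      ← Functor.map_comp, key, Category.comp_id]
  obtain ⟨e, he⟩ : ∃ e : f.normalization.presheaf.stalk x' ≃+*
      Γ(Spec (f.normalization.presheaf.stalk x'), ⊤),
      e = (Scheme.ΓSpecIso (f.normalization.presheaf.stalk x')).symm.commRingCatIsoToRingEquiv :=
    ⟨_, rfl⟩
  have hloc : @IsLocalization Γ(f.normalization, f.fromNormalization ⁻¹ᵁ U) _
      (hU'.primeIdealOf ⟨x', hx'U⟩).asIdeal.primeCompl
      Γ(Spec (f.normalization.presheaf.stalk x'), ⊤) _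
      ((f.normalization.fromSpecStalk x').appLE (f.fromNormalization ⁻¹ᵁ U) ⊤ hTU).hom.toAlgebra := by
    letI alg0 := TopCat.Presheaf.algebra_section_stalk f.normalization.presheaf
      (U := f.fromNormalization ⁻¹ᵁ U) ⟨x', hx'U⟩
    haveI := hU'.isLocalization_stalk ⟨x', hx'U⟩
    letI alg : Algebra Γ(f.normalization, f.fromNormalization ⁻¹ᵁ U)
        Γ(Spec (f.normalization.presheaf.stalk x'), ⊤) :=
      ((f.normalization.fromSpecStalk x').appLE (f.fromNormalization ⁻¹ᵁ U) ⊤ hTU).hom.toAlgebra
    have hcomm : ∀ a : Γ(f.normalization, f.fromNormalization ⁻¹ᵁ U),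
        e (algebraMap Γ(f.normalization, f.fromNormalization ⁻¹ᵁ U)
          (f.normalization.presheaf.stalk x') a) =
        algebraMap Γ(f.normalization, f.fromNormalization ⁻¹ᵁ U)
          Γ(Spec (f.normalization.presheaf.stalk x'), ⊤) a := fun a => by
      rw [he]
      exact (congrArg (fun m => m.hom a) hγ).symm
    exact IsLocalization.isLocalization_of_algEquiv
      (hU'.primeIdealOf ⟨x', hx'U⟩).asIdeal.primeCompl (AlgEquiv.ofRingEquiv (f := e) hcomm)
  -- algebra structures
  letI algRC : Algebra Γ(f.normalization, f.fromNormalization ⁻¹ᵁ U)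
      Γ(Spec (f.normalization.presheaf.stalk x'), ⊤) :=
    ((f.normalization.fromSpecStalk x').appLE (f.fromNormalization ⁻¹ᵁ U) ⊤ hTU).hom.toAlgebra
  letI algRB : Algebra Γ(f.normalization, f.fromNormalization ⁻¹ᵁ U) Γ(Y, f ⁻¹ᵁ U) :=
    (f.toNormalization.appLE (f.fromNormalization ⁻¹ᵁ U) (f ⁻¹ᵁ U) hle).hom.toAlgebra
  letI algCE : Algebra Γ(Spec (f.normalization.presheaf.stalk x'), ⊤)
      Γ(pullback (f.normalization.fromSpecStalk x') f.toNormalization,
        pullback.snd (f.normalization.fromSpecStalk x') f.toNormalization ⁻¹ᵁ (f ⁻¹ᵁ U)) :=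
    ((pullback.fst (f.normalization.fromSpecStalk x') f.toNormalization).appLE ⊤
      (pullback.snd (f.normalization.fromSpecStalk x') f.toNormalization ⁻¹ᵁ (f ⁻¹ᵁ U))
      (fun _ _ => trivial)).hom.toAlgebra
  letI algBE : Algebra Γ(Y, f ⁻¹ᵁ U)
      Γ(pullback (f.normalization.fromSpecStalk x') f.toNormalization,
        pullback.snd (f.normalization.fromSpecStalk x') f.toNormalization ⁻¹ᵁ (f ⁻¹ᵁ U)) :=
    ((pullback.snd (f.normalization.fromSpecStalk x') f.toNormalization).appLE (f ⁻¹ᵁ U)
      (pullback.snd (f.normalization.fromSpecStalk x') f.toNormalization ⁻¹ᵁ (f ⁻¹ᵁ U))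
      le_rfl).hom.toAlgebra
  letI algRE : Algebra Γ(f.normalization, f.fromNormalization ⁻¹ᵁ U)
      Γ(pullback (f.normalization.fromSpecStalk x') f.toNormalization,
        pullback.snd (f.normalization.fromSpecStalk x') f.toNormalization ⁻¹ᵁ (f ⁻¹ᵁ U)) :=
    ((algebraMap Γ(Y, f ⁻¹ᵁ U) _).comp
      (algebraMap Γ(f.normalization, f.fromNormalization ⁻¹ᵁ U) Γ(Y, f ⁻¹ᵁ U))).toAlgebra
  haveI st1 : IsScalarTower Γ(f.normalization, f.fromNormalization ⁻¹ᵁ U) Γ(Y, f ⁻¹ᵁ U)
      Γ(pullback (f.normalization.fromSpecStalk x') f.toNormalization,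
        pullback.snd (f.normalization.fromSpecStalk x') f.toNormalization ⁻¹ᵁ (f ⁻¹ᵁ U)) :=
    IsScalarTower.of_algebraMap_eq (fun _ => rfl)
  haveI st2 : IsScalarTower Γ(f.normalization, f.fromNormalization ⁻¹ᵁ U)
      Γ(Spec (f.normalization.presheaf.stalk x'), ⊤)
      Γ(pullback (f.normalization.fromSpecStalk x') f.toNormalization,
        pullback.snd (f.normalization.fromSpecStalk x') f.toNormalization ⁻¹ᵁ (f ⁻¹ᵁ U)) := by
    refine IsScalarTower.of_algebraMap_eq (fun a => ?_)
    exact (congrArg (fun m => m.hom a)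
      (appLE_comm (f.normalization.fromSpecStalk x') f.toNormalization
        (f.fromNormalization ⁻¹ᵁ U) hTU (f ⁻¹ᵁ U) hle)).symm
  haveI := hloc
  haveI hlocE : IsLocalization (Algebra.algebraMapSubmonoid Γ(Y, f ⁻¹ᵁ U)
      (hU'.primeIdealOf ⟨x', hx'U⟩).asIdeal.primeCompl)
      Γ(pullback (f.normalization.fromSpecStalk x') f.toNormalization,
        pullback.snd (f.normalization.fromSpecStalk x') f.toNormalization ⁻¹ᵁ (f ⁻¹ᵁ U)) :=
    isLocalization_sections_qcqs (f.normalization.fromSpecStalk x') f.toNormalization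
      (f.fromNormalization ⁻¹ᵁ U) hU' hTU (f ⁻¹ᵁ U) hWc hWqs hle _ hloc
  obtain ⟨hinjE, hicE⟩ := integrallyClosed_localization
    (C := Γ(Spec (f.normalization.presheaf.stalk x'), ⊤))
    (E := Γ(pullback (f.normalization.fromSpecStalk x') f.toNormalization,
        pullback.snd (f.normalization.fromSpecStalk x') f.toNormalization ⁻¹ᵁ (f ⁻¹ᵁ U)))
    (hU'.primeIdealOf ⟨x', hx'U⟩).asIdeal.primeCompl hιinj hιic
  -- algebra from the stalk
  letI algC₀E : Algebra (f.normalization.presheaf.stalk x')
      Γ(pullback (f.normalization.fromSpecStalk x') f.toNormalization,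
        pullback.snd (f.normalization.fromSpecStalk x') f.toNormalization ⁻¹ᵁ (f ⁻¹ᵁ U)) :=
    ((algebraMap Γ(Spec (f.normalization.presheaf.stalk x'), ⊤) _).comp e.toRingHom).toAlgebra
  have halg : ∀ c : f.normalization.presheaf.stalk x',
      algebraMap (f.normalization.presheaf.stalk x')
        Γ(pullback (f.normalization.fromSpecStalk x') f.toNormalization,
          pullback.snd (f.normalization.fromSpecStalk x') f.toNormalization ⁻¹ᵁ (f ⁻¹ᵁ U)) c =
      algebraMap Γ(Spec (f.normalization.presheaf.stalk x'), ⊤) _ (e c) := fun c => rfl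
  refine isDVR_of_integrallyClosedIn (f.normalization.presheaf.stalk x')
    Γ(pullback (f.normalization.fromSpecStalk x') f.toNormalization,
      pullback.snd (f.normalization.fromSpecStalk x') f.toNormalization ⁻¹ᵁ (f ⁻¹ᵁ U))
    hdim ?_ ?_ ?_
  · intro c c' h
    rw [halg, halg] at h
    exact e.injective (hinjE h)
  · intro z hz
    obtain ⟨p, hp, hp0⟩ := hz
    have h1 : IsIntegral Γ(Spec (f.normalization.presheaf.stalk x'), ⊤) z := by
      refine ⟨p.map e.toRingHom, hp.map _, ?_⟩
      rw [Polynomial.eval₂_map]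
      exact hp0
    obtain ⟨c, hc⟩ := hicE z h1
    refine ⟨e.symm c, ?_⟩
    rw [halg, RingEquiv.apply_symm_apply]
    exact hc
  · intro t ht
    rw [halg]
    -- pointwise unit
    have hsec : ∀ (z : ↥(pullback (f.normalization.fromSpecStalk x') f.toNormalization))
        (hz : z ∈ pullback.snd (f.normalization.fromSpecStalk x') f.toNormalization ⁻¹ᵁ (f ⁻¹ᵁ U)),
        z ∈ (pullback (f.normalization.fromSpecStalk x') f.toNormalization).basicOpen
          (((pullback.fst (f.normalization.fromSpecStalk x') f.toNormalization).appLE ⊤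
            (pullback.snd (f.normalization.fromSpecStalk x') f.toNormalization ⁻¹ᵁ (f ⁻¹ᵁ U))
            (fun _ _ => trivial)).hom (e t)) := by
      intro z hz
      rw [Scheme.basicOpen_appLE]
      refine ⟨hz, ?_⟩
      change (pullback.fst (f.normalization.fromSpecStalk x') f.toNormalization) z ∈
        (Spec (f.normalization.presheaf.stalk x')).basicOpen (e t)
      have het : e t = (Scheme.ΓSpecIso (f.normalization.presheaf.stalk x')).inv.hom t := by
        rw [he]
        rfl
      rw [het, basicOpen_eq_of_affine]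
      change t ∉ ((pullback.fst (f.normalization.fromSpecStalk x') f.toNormalization) z).asIdeal
      intro htz
      have h2 := ht _ ((pullback.fst (f.normalization.fromSpecStalk x') f.toNormalization) z).2 htz
      have h3 : (pullback.fst (f.normalization.fromSpecStalk x') f.toNormalization) z =
          IsLocalRing.closedPoint (f.normalization.presheaf.stalk x') := by
        apply PrimeSpectrum.ext
        exact h2
      apply hx'
      refine ⟨(pullback.snd (f.normalization.fromSpecStalk x') f.toNormalization) z, ?_⟩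
      have h4 : (pullback.fst (f.normalization.fromSpecStalk x') f.toNormalization ≫
          f.normalization.fromSpecStalk x') z =
          (pullback.snd (f.normalization.fromSpecStalk x') f.toNormalization ≫
            f.toNormalization) z := by
        rw [pullback.condition]
      have h5 : (f.normalization.fromSpecStalk x')
          ((pullback.fst (f.normalization.fromSpecStalk x') f.toNormalization) z) = x' := by
        rw [h3]
        exact Scheme.fromSpecStalk_closedPoint
      change f.toNormalization ((pullback.snd (f.normalization.fromSpecStalk x')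
        f.toNormalization) z) = x'
      exact h4.symm.trans h5
    apply AlgebraicGeometry.RingedSpace.isUnit_of_isUnit_germ
      (pullback (f.normalization.fromSpecStalk x') f.toNormalization).toRingedSpace
    intro z hz
    exact ((pullback (f.normalization.fromSpecStalk x') f.toNormalization).mem_basicOpen _ z hz).1
      (hsec z hz)

end Groth.Agent.Lib.NormDvrPtH7
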