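import Mathlib

/-!
# Unramified normalizations are etale (algebra part)

`etale_of_surjective`: a domain, torsion free over an integrally closed domain `A`, which is a
quotient of an etale `A`-algebra is etale over `A` (uses Mathlib's "smooth base change commutes
with integral closure").
`etale_of_unramified`: a domain of finite type and unramified over an integrally closed domain
`A` (with `A → B` injective) is etale over `A` (uses Mathlib's local structure of unramified
algebras).
-/

set_option autoImplicit false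
set_option linter.style.haveILetI false
universe u
open TensorProduct

namespace Groth.Agent.Lib.NormEt

/-- In a semisimple commutative ring every ideal is generated by an idempotent. -/
theorem exists_idempotent_of_semisimple {T : Type*} [CommRing T] [IsSemisimpleRing T]
    (I : Ideal T) : ∃ e : T, IsIdempotentElem e ∧ I = Ideal.span {e} := by
  obtain ⟨J, hJ⟩ := exists_isCompl I
  have h1 : (1 : T) ∈ I ⊔ J := by rw [hJ.sup_eq_top]; trivial
  obtain ⟨e, he, f, hf, hef⟩ := Submodule.mem_sup.mp h1
  have hdisj : ∀ x, x ∈ I → x ∈ J → x = 0 := fun x hxI hxJ => by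
    have : x ∈ I ⊓ J := ⟨hxI, hxJ⟩
    rw [hJ.inf_eq_bot] at this
    simpa using this
  have key : ∀ x ∈ I, x = x * e := fun x hx => by
    have h2 : x * f = 0 := hdisj _ (I.mul_mem_right f hx) (J.mul_mem_left x hf)
    calc x = x * (e + f) := by rw [hef, mul_one]
      _ = x * e := by rw [mul_add, h2, add_zero]
  refine ⟨e, (key e he).symm, le_antisymm ?_ ?_⟩
  · intro x hx
    rw [Ideal.mem_span_singleton']
    exact ⟨x, (key x hx).symm⟩
  · rw [Ideal.span_le]
    rintro _ rfl
    exact he


section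
variable {A : Type u} [CommRing A] [IsDomain A]
  {D : Type u} [CommRing D] [Algebra A D] [IsDomain D] [FaithfulSMul A D]

theorem tmul_one_injective :
    Function.Injective (fun d : D => d ⊗ₜ[A] (1 : FractionRing A)) := by
  have hadd : ∀ d₁ d₂ : D, (d₁ - d₂) ⊗ₜ[A] (1 : FractionRing A) =
      d₁ ⊗ₜ[A] (1 : FractionRing A) - d₂ ⊗ₜ[A] (1 : FractionRing A) := fun d₁ d₂ => by
    rw [TensorProduct.sub_tmul]
  intro d₁ d₂ h
  have h0 : (d₁ - d₂) ⊗ₜ[A] (1 : FractionRing A) = 0 := by
    rw [hadd]; exact sub_eq_zero.mpr h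
  have h1 : TensorProduct.mk A (FractionRing A) D 1 (d₁ - d₂) = 0 := by
    have := congrArg (TensorProduct.comm A D (FractionRing A)) h0
    simpa using this
  rw [IsLocalizedModule.eq_zero_iff (nonZeroDivisors A)] at h1
  obtain ⟨s, hs⟩ := h1
  have hs0 : (s : A) ≠ 0 := nonZeroDivisors.ne_zero s.2
  have : algebraMap A D s * (d₁ - d₂) = 0 := by
    rw [← Algebra.smul_def]; exact hs
  rcases mul_eq_zero.mp this with h | h
  · exact absurd ((FaithfulSMul.algebraMap_injective A D) (h.trans (map_zero _).symm)) hs0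
  · exact sub_eq_zero.mp h

end

section
variable {A : Type u} [CommRing A] [IsDomain A] [IsIntegrallyClosed A]
  {C D : Type u} [CommRing C] [CommRing D] [Algebra A C] [Algebra A D] [Algebra.Etale A C]
  [IsDomain D] [FaithfulSMul A D]

theorem toIntegralClosure_mem_range (t : C ⊗[A] integralClosure A (FractionRing A)) :
    ∃ c : C, ((TensorProduct.toIntegralClosure A C (FractionRing A) t : C ⊗[A] FractionRing A)) =
      c ⊗ₜ[A] (1 : FractionRing A) := by
  induction t with
  | zero => exact ⟨0, by simp⟩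
  | tmul x y =>
    obtain ⟨y, hy⟩ := y
    have hbot : integralClosure A (FractionRing A) = ⊥ :=
      IsIntegrallyClosed.integralClosure_eq_bot A (FractionRing A)
    have hy' : y ∈ (⊥ : Subalgebra A (FractionRing A)) := hbot ▸ hy
    obtain ⟨a, rfl⟩ := Algebra.mem_bot.mp hy'
    refine ⟨a • x, ?_⟩
    simp [TensorProduct.toIntegralClosure, Algebra.algebraMap_eq_smul_one, TensorProduct.smul_tmul]
  | add x y hx hy =>
    obtain ⟨c₁, h₁⟩ := hx
    obtain ⟨c₂, h₂⟩ := hy
    exact ⟨c₁ + c₂, by simp [map_add, h₁, h₂, TensorProduct.add_tmul]⟩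

theorem isSemisimpleRing_tensor : IsSemisimpleRing (C ⊗[A] FractionRing A) := by
  let K := FractionRing A
  haveI : Algebra.Etale K (K ⊗[A] C) := inferInstance
  haveI : Module.Finite K (K ⊗[A] C) := Algebra.FormallyUnramified.finite_of_free K (K ⊗[A] C)
  haveI : IsArtinianRing (K ⊗[A] C) := IsArtinianRing.of_finite K (K ⊗[A] C)
  haveI : IsReduced (K ⊗[A] C) := Algebra.FormallyUnramified.isReduced_of_field K (K ⊗[A] C)
  haveI : IsSemisimpleRing (K ⊗[A] C) := IsArtinianRing.isSemisimpleRing_of_isReduced _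
  exact (Algebra.TensorProduct.comm A K C).toRingEquiv.isSemisimpleRing

theorem exists_idem (φ : C →ₐ[A] D) :
    ∃ c : C, IsIdempotentElem c ∧ φ c = 1 ∧ ∀ x, φ x = 0 → x * c = 0 := by
  let K := FractionRing A
  let T := C ⊗[A] K
  have hι : Function.Injective (fun c : C => c ⊗ₜ[A] (1 : K)) :=
    Algebra.TensorProduct.includeLeft_injective (S := A) (IsFractionRing.injective A K)
  let φK : T →ₐ[A] D ⊗[A] K := Algebra.TensorProduct.map φ (AlgHom.id A K)
  haveI : IsSemisimpleRing T := isSemisimpleRing_tensor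
  obtain ⟨e', he', hker⟩ := exists_idempotent_of_semisimple (RingHom.ker φK.toRingHom)
  -- e := 1 - e'
  have he : IsIdempotentElem (1 - e') := he'.one_sub
  have hφe' : φK e' = 0 := by
    have : e' ∈ RingHom.ker φK.toRingHom := by rw [hker]; exact Ideal.mem_span_singleton_self e'
    exact this
  have hφe : φK (1 - e') = 1 := by rw [map_sub, hφe', map_one, sub_zero]
  have hint : IsIntegral C (1 - e' : T) := by
    refine ⟨Polynomial.X * (Polynomial.X - Polynomial.C 1), ?_, ?_⟩
    · exact (Polynomial.monic_X).mul (Polynomial.monic_X_sub_C 1)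
    · simp [mul_sub, he.eq]
  obtain ⟨t, ht⟩ := (TensorProduct.toIntegralClosure_bijective_of_smooth (R := A) (S := C)
    (B := K)).2 ⟨1 - e', hint⟩
  obtain ⟨c, hc⟩ := toIntegralClosure_mem_range t
  rw [ht] at hc
  change (1 - e' : T) = c ⊗ₜ[A] (1 : K) at hc
  have hc_idem : IsIdempotentElem c := by
    apply hι
    change (c * c) ⊗ₜ[A] (1 : K) = c ⊗ₜ[A] (1 : K)
    have : (c * c) ⊗ₜ[A] (1 : K) = (c ⊗ₜ[A] (1 : K)) * (c ⊗ₜ[A] (1 : K)) := by
      simp [Algebra.TensorProduct.tmul_mul_tmul]
    rw [this, ← hc, he.eq]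
  have hφc : φ c = 1 := by
    apply tmul_one_injective (A := A)
    change (φ c) ⊗ₜ[A] (1 : K) = (1 : D) ⊗ₜ[A] (1 : K)
    have : (φ c) ⊗ₜ[A] (1 : K) = φK (c ⊗ₜ[A] (1 : K)) :=
      (Algebra.TensorProduct.map_tmul φ (AlgHom.id A K) c 1).symm
    rw [this, ← hc, hφe]
    rfl
  refine ⟨c, hc_idem, hφc, fun x hx => ?_⟩
  apply hι
  change (x * c) ⊗ₜ[A] (1 : K) = (0 : C) ⊗ₜ[A] (1 : K)
  have hxk : (x ⊗ₜ[A] (1 : K) : T) ∈ RingHom.ker φK.toRingHom := by
    change φK (x ⊗ₜ[A] (1 : K)) = 0
    rw [show φK (x ⊗ₜ[A] (1 : K)) = (φ x) ⊗ₜ[A] ((AlgHom.id A K) 1) from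
      Algebra.TensorProduct.map_tmul φ (AlgHom.id A K) x 1, hx, zero_tmul]
  rw [hker, Ideal.mem_span_singleton'] at hxk
  obtain ⟨a, ha⟩ := hxk
  have : (x * c) ⊗ₜ[A] (1 : K) = (x ⊗ₜ[A] (1 : K)) * (c ⊗ₜ[A] (1 : K)) := by
    simp [Algebra.TensorProduct.tmul_mul_tmul]
  rw [this, ← hc, ← ha, mul_assoc, mul_sub, mul_one, he'.eq, sub_self, mul_zero, zero_tmul]

/-- A domain `D`, torsion free over an integrally closed domain `A`, which is a quotient of an
etale `A`-algebra, is etale over `A`. -/
theorem etale_of_surjective (φ : C →ₐ[A] D) (hφ : Function.Surjective φ) :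
    Algebra.Etale A D := by
  obtain ⟨c, hc, hφc, hker⟩ := exists_idem φ
  have hunit : ∀ y : Submonoid.powers c, IsUnit (φ y) := by
    rintro ⟨_, n, rfl⟩
    simp [hφc]
  let ψ : Localization.Away c →ₐ[A] D := IsLocalization.liftAlgHom (M := Submonoid.powers c)
    (f := φ) hunit
  have hψ : ∀ x : C, ψ (algebraMap C (Localization.Away c) x) = φ x := fun x => by
    simp [ψ]
  have hsurj : Function.Surjective ψ := fun d => by
    obtain ⟨x, rfl⟩ := hφ d
    exact ⟨_, hψ x⟩
  have hinj : Function.Injective ψ := by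
    rw [injective_iff_map_eq_zero]
    intro z hz
    obtain ⟨x, ⟨_, n, rfl⟩, rfl⟩ := IsLocalization.exists_mk'_eq (Submonoid.powers c) z
    have h1 : φ x = 0 := by
      have := IsLocalization.mk'_spec (Localization.Away c) x
        (⟨c ^ n, n, rfl⟩ : Submonoid.powers c)
      have h2 := congrArg ψ this
      rw [map_mul, hz, zero_mul, hψ] at h2
      exact h2.symm
    rw [IsLocalization.mk'_eq_zero_iff]
    exact ⟨⟨c, 1, pow_one c⟩, by rw [mul_comm]; exact hker x h1⟩
  exact Algebra.Etale.of_equiv (AlgEquiv.ofBijective ψ ⟨hinj, hsurj⟩)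

end

section
variable {A : Type u} [CommRing A] [IsDomain A] [IsIntegrallyClosed A]
  {B : Type u} [CommRing B] [Algebra A B] [IsDomain B] [FaithfulSMul A B]
  [Algebra.FiniteType A B] [Algebra.FormallyUnramified A B]

/-- A domain `B` of finite type and unramified over an integrally closed domain `A`, with `A → B`
injective, is etale over `A`. -/
theorem etale_of_unramified : Algebra.Etale A B := by
  have hloc : ∀ q : PrimeSpectrum B, ∃ f : B, f ∉ q.asIdeal ∧ Algebra.Etale A (Localization.Away f) := by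
    intro q
    haveI := q.isPrime
    haveI : Algebra.IsUnramifiedAt A q.asIdeal := inferInstance
    obtain ⟨f, hfq, P, φ, hφ⟩ := Algebra.IsUnramifiedAt.exists_hasStandardEtaleSurjectionOn
      (R := A) q.asIdeal
    have hf0 : f ≠ 0 := fun h => hfq (h ▸ q.asIdeal.zero_mem)
    have hle : Submonoid.powers f ≤ nonZeroDivisors B :=
      Submonoid.powers_le.mpr (mem_nonZeroDivisors_of_ne_zero hf0)
    haveI : IsDomain (Localization.Away f) :=
      IsLocalization.isDomain_localization hle
    haveI : FaithfulSMul A (Localization.Away f) := by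
      rw [faithfulSMul_iff_algebraMap_injective, IsScalarTower.algebraMap_eq A B]
      exact (IsLocalization.injective (Localization.Away f) hle).comp
        (FaithfulSMul.algebraMap_injective A B)
    exact ⟨f, hfq, etale_of_surjective φ hφ⟩
  choose f hfq hf using hloc
  have hspan : Ideal.span (Set.range f) = ⊤ := by
    by_contra H
    obtain ⟨m, hm, e⟩ := Ideal.exists_le_maximal _ H
    exact hfq ⟨m, hm.isPrime⟩ (e (Ideal.subset_span
      (Set.mem_range_self (f := f) (⟨m, hm.isPrime⟩ : PrimeSpectrum B))))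
  rw [← RingHom.etale_algebraMap]
  refine RingHom.Etale.ofLocalizationSpanTarget (algebraMap A B) (Set.range f) hspan ?_
  rintro ⟨_, q, rfl⟩
  rw [← IsScalarTower.algebraMap_eq, RingHom.etale_algebraMap]
  exact hf q

end

end Groth.Agent.Lib.NormEt
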