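import Mathlib
import Groth.Prelude.Def_Pi1
import Groth.Agent.Lib.NormEt1_helper5

/-!
# Unramified normalizations are etale (scheme part)

`etale_fromNormalization`: for a dominant qcqs morphism `g : T ⟶ X` of integral schemes with `X`
normal, if the relative normalization `g.fromNormalization` is unramified and locally of finite
type then it is etale.
-/

set_option autoImplicit false
set_option linter.style.haveILetI false
universe u
open CategoryTheory CategoryTheory.Limits AlgebraicGeometry TopologicalSpace

namespace Groth.Agent.Lib.NormEt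

/-- Sections over a nonempty affine open of an integral scheme with integrally closed stalks form
an integrally closed domain. -/
theorem isIntegrallyClosed_of_stalks {Y : Scheme.{u}} [IsIntegral Y]
    (hN : ∀ y : Y, IsIntegrallyClosed (Y.presheaf.stalk y)) {V : Y.Opens} (hV : IsAffineOpen V)
    [Nonempty V] : IsIntegrallyClosed Γ(Y, V) := by
  apply IsIntegrallyClosed.of_localization_maximal
  intro P _ hP
  have hy : hV.fromSpec ⟨P, hP.isPrime⟩ ∈ V := by
    have := hV.range_fromSpec
    rw [← SetLike.mem_coe, ← this]
    exact ⟨_, rfl⟩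
  letI := TopCat.Presheaf.algebra_section_stalk Y.presheaf ⟨hV.fromSpec ⟨P, hP.isPrime⟩, hy⟩
  haveI hloc : IsLocalization P.primeCompl (Y.presheaf.stalk (hV.fromSpec ⟨P, hP.isPrime⟩)) :=
    hV.isLocalization_stalk' ⟨P, hP.isPrime⟩ hy
  haveI := hN (hV.fromSpec ⟨P, hP.isPrime⟩)
  exact IsIntegrallyClosed.of_equiv (IsLocalization.algEquiv P.primeCompl
    (Y.presheaf.stalk (hV.fromSpec ⟨P, hP.isPrime⟩)) (Localization.AtPrime P)).toRingEquiv

/-- A dominant morphism to a reduced scheme is injective on sections. -/
theorem app_injective_of_isDominant {T X : Scheme.{u}} [IsReduced X] (g : T ⟶ X) [IsDominant g]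
    (U : X.Opens) : Function.Injective (g.app U).hom := by
  rw [injective_iff_map_eq_zero]
  intro s hs
  rw [← basicOpen_eq_bot_iff]
  by_contra hne
  have hne' : (X.basicOpen s : Set X).Nonempty := by
    rw [Set.nonempty_iff_ne_empty]
    intro h
    exact hne (Opens.ext h)
  obtain ⟨_, hx, t, rfl⟩ := g.denseRange.inter_open_nonempty _ (X.basicOpen s).isOpen hne'
  have h1 : t ∈ g ⁻¹ᵁ X.basicOpen s := hx
  rw [Scheme.preimage_basicOpen] at h1
  have h0 : (g.app U).hom s = 0 := hs
  have : T.basicOpen ((g.app U).hom s) = ⊥ := by rw [h0]; exact T.basicOpen_zero _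
  rw [this] at h1
  exact h1

/-- The sections of the normalization over the preimage of a nonempty affine open, as an algebra
over the sections of the base: etale if unramified and of finite type. -/
theorem etale_app_fromNormalization {X T : Scheme.{u}} [IsIntegral X] [IsIntegral T]
    (hX : Pi1.IsNormalScheme X) (g : T ⟶ X) [QuasiCompact g] [QuasiSeparated g] [IsDominant g]
    [FormallyUnramified g.fromNormalization] [LocallyOfFiniteType g.fromNormalization]
    {U : X.Opens} (hU : IsAffineOpen U) :
    (g.fromNormalization.app U).hom.Etale := by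
  have hV : IsAffineOpen (g.fromNormalization ⁻¹ᵁ U) := hU.preimage g.fromNormalization
  by_cases hne : Nonempty U
  swap
  · have hbot : U = ⊥ := by
      ext x; simp only [Opens.coe_bot, Set.mem_empty_iff_false, iff_false]
      exact fun hx => hne ⟨⟨x, hx⟩⟩
    subst hbot
    haveI : Subsingleton Γ(X, ⊥) := inferInstance
    haveI : Subsingleton Γ(g.normalization, g.fromNormalization ⁻¹ᵁ ⊥) := by
      rw [Scheme.Hom.preimage_bot]; infer_instance
    exact RingHom.Etale.of_bijective ⟨fun a b _ => Subsingleton.elim _ _,
      fun b => ⟨0, Subsingleton.elim _ _⟩⟩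
  haveI := hne
  haveI : Nonempty (g ⁻¹ᵁ U) := by
    obtain ⟨⟨x, hx⟩⟩ := hne
    obtain ⟨_, hx', t, rfl⟩ := g.denseRange.inter_open_nonempty _ U.isOpen ⟨x, hx⟩
    exact ⟨⟨t, hx'⟩⟩
  haveI : IsIntegrallyClosed Γ(X, U) := isIntegrallyClosed_of_stalks (fun x => (hX x).2) hU
  letI := (g.app U).hom.toAlgebra
  haveI : FaithfulSMul Γ(X, U) Γ(T, g ⁻¹ᵁ U) := by
    rw [faithfulSMul_iff_algebraMap_injective]
    exact app_injective_of_isDominant g U
  let B := integralClosure Γ(X, U) Γ(T, g ⁻¹ᵁ U)
  haveI : FaithfulSMul Γ(X, U) B := by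
    rw [faithfulSMul_iff_algebraMap_injective]
    intro a b hab
    apply FaithfulSMul.algebraMap_injective Γ(X, U) Γ(T, g ⁻¹ᵁ U)
    exact congrArg Subtype.val hab
  have happ := g.fromNormalization_app hU
  let e := g.normalizationObjIso hU
  have hcomp : (algebraMap Γ(X, U) B) = e.hom.hom.comp (g.fromNormalization.app U).hom := by
    rw [happ]
    ext a
    simp [e]
  have hft : (g.fromNormalization.app U).hom.FiniteType := by
    rw [Scheme.Hom.app_eq_appLE]
    exact LocallyOfFiniteType.finiteType_appLE (f := g.fromNormalization) hU hV _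
  have hunr : (g.fromNormalization.app U).hom.FormallyUnramified := by
    rw [Scheme.Hom.app_eq_appLE]
    exact FormallyUnramified.formallyUnramified_appLE (f := g.fromNormalization) hU hV _
  haveI : Algebra.FiniteType Γ(X, U) B := by
    rw [← RingHom.finiteType_algebraMap, hcomp]
    exact (RingHom.FiniteType.of_surjective _ e.commRingCatIsoToRingEquiv.surjective).comp hft
  haveI : Algebra.FormallyUnramified Γ(X, U) B := by
    rw [← RingHom.formallyUnramified_algebraMap, hcomp]
    exact RingHom.FormallyUnramified.comp hunr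
      (RingHom.FormallyUnramified.of_surjective e.commRingCatIsoToRingEquiv.surjective)
  have hB : Algebra.Etale Γ(X, U) B := etale_of_unramified
  rw [← RingHom.etale_algebraMap] at hB
  have h2 : (g.fromNormalization.app U).hom = e.inv.hom.comp (algebraMap Γ(X, U) B) := by
    rw [hcomp, ← RingHom.comp_assoc, ← CommRingCat.hom_comp, e.hom_inv_id]
    rfl
  rw [h2]
  exact RingHom.Etale.stableUnderComposition _ _ hB
    (RingHom.Etale.of_bijective e.symm.commRingCatIsoToRingEquiv.bijective)

/-- An affine morphism is etale as soon as it is etale on sections over affine opens. -/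
theorem etale_of_app {N X : Scheme.{u}} (ν : N ⟶ X) [IsAffineHom ν]
    (h : ∀ {U : X.Opens} (_ : IsAffineOpen U), (ν.app U).hom.Etale) : Etale ν := by
  rw [HasRingHomProperty.iff_appLE (P := @Etale)]
  intro U V e
  have hW : IsAffineOpen (ν ⁻¹ᵁ U.1) := U.2.preimage ν
  have h1 : ν.appLE U.1 V.1 e = ν.app U.1 ≫ N.presheaf.map (homOfLE e).op := rfl
  rw [h1, CommRingCat.hom_comp]
  refine RingHom.Etale.stableUnderComposition _ _ (h U.2) ?_
  have h2 := Etale.etale_appLE (𝟙 N) hW V.2 (by simpa using e)
  have h3 : (𝟙 N : N ⟶ N).appLE (ν ⁻¹ᵁ U.1) V.1 (by simpa using e) =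
      N.presheaf.map (homOfLE e).op := by
    simp only [Scheme.Hom.appLE, Scheme.Hom.id_app, Category.id_comp]
    rfl
  rwa [h3] at h2

theorem etale_fromNormalization {X T : Scheme.{u}} [IsIntegral X] [IsIntegral T]
    (hX : Pi1.IsNormalScheme X) (g : T ⟶ X) [QuasiCompact g] [QuasiSeparated g] [IsDominant g]
    [FormallyUnramified g.fromNormalization] [LocallyOfFiniteType g.fromNormalization] :
    Etale g.fromNormalization :=
  etale_of_app _ fun hU => etale_app_fromNormalization hX g hU

instance isDominant_generic {X : Scheme.{u}} [IsIntegral X] (L : Type u) [Field L]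
    [Algebra X.functionField L] :
    IsDominant (Spec.map (CommRingCat.ofHom (algebraMap X.functionField L)) ≫
      X.fromSpecStalk (genericPoint X)) := by
  constructor
  have hgen : genericPoint X ∈ Set.range (Spec.map (CommRingCat.ofHom
      (algebraMap X.functionField L)) ≫ X.fromSpecStalk (genericPoint X)) := by
    let t : Spec (CommRingCat.of L) := (⊥ : PrimeSpectrum L)
    refine ⟨t, ?_⟩
    have h1 : Set.range (X.fromSpecStalk (genericPoint X)) = {y | y ⤳ genericPoint X} :=
      Scheme.range_fromSpecStalk
    have h2 : (X.fromSpecStalk (genericPoint X))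
        (Spec.map (CommRingCat.ofHom (algebraMap X.functionField L)) t) ∈
        Set.range (X.fromSpecStalk (genericPoint X)) := ⟨_, rfl⟩
    rw [h1] at h2
    have h3 : genericPoint X ⤳ (X.fromSpecStalk (genericPoint X))
        (Spec.map (CommRingCat.ofHom (algebraMap X.functionField L)) t) :=
      genericPoint_specializes _
    exact (h2.antisymm h3).eq
  rw [DenseRange]
  refine Dense.mono (Set.singleton_subset_iff.mpr hgen) ?_
  rw [dense_iff_closure_eq]
  exact genericPoint_spec X

end Groth.Agent.Lib.NormEt
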