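import Mathlib
import Groth.Prelude.Def_Pi1
import Groth.Agent.Lib.NormEt2_helper5

/-!
# Normalization in a finite extension and the generic fibre

* `exists_algEquiv_integralClosure`: a finite etale algebra `C` over an integrally closed domain `A`
  with `C ⊗_A K` a field `L` is the integral closure of `A` in `L`.
* `exists_tensor_integralClosure_equiv`: `B ⊗_A K ≅ L` for the integral closure `B` of `A` in `L`.
* `isPullback_generic`: the pullback of an affine morphism along the generic point of an integral
  scheme, computed on a nonempty affine open.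
* `gen L`, `secIso`, `app_secIso`: the sections of `Spec L ⟶ X`.
-/

set_option autoImplicit false
set_option linter.style.haveILetI false
universe u
open CategoryTheory CategoryTheory.Limits AlgebraicGeometry TopologicalSpace TensorProduct
open nonZeroDivisors

namespace Groth.Agent.Lib.NormEt

section
variable {A : Type u} [CommRing A] [IsDomain A] [IsIntegrallyClosed A]
  (K : Type u) [Field K] [Algebra A K] [IsFractionRing A K]
  {C : Type u} [CommRing C] [Algebra A C]

theorem toIntegralClosure_mem_range' (t : C ⊗[A] integralClosure A K) :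
    ∃ c : C, ((TensorProduct.toIntegralClosure A C K t : C ⊗[A] K)) = c ⊗ₜ[A] (1 : K) := by
  induction t with
  | zero => exact ⟨0, by simp⟩
  | tmul x y =>
    obtain ⟨y, hy⟩ := y
    have hbot : integralClosure A K = ⊥ := IsIntegrallyClosed.integralClosure_eq_bot A K
    have hy' : y ∈ (⊥ : Subalgebra A K) := hbot ▸ hy
    obtain ⟨a, rfl⟩ := Algebra.mem_bot.mp hy'
    refine ⟨a • x, ?_⟩
    simp [TensorProduct.toIntegralClosure, Algebra.algebraMap_eq_smul_one, TensorProduct.smul_tmul]
  | add x y hx hy =>
    obtain ⟨c₁, h₁⟩ := hx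
    obtain ⟨c₂, h₂⟩ := hy
    exact ⟨c₁ + c₂, by simp [map_add, h₁, h₂, TensorProduct.add_tmul]⟩

variable [Algebra.Etale A C] [Module.Finite A C]
  {L : Type u} [Field L] [Algebra K L] [Algebra A L] [IsScalarTower A K L]

/-- If `C` is finite etale over the integrally closed domain `A` and `C ⊗_A K` is a field `L`,
then `C` is the integral closure of `A` in `L`. -/
theorem exists_algEquiv_integralClosure (ψ : C ⊗[A] K ≃+* L)
    (hψ : ∀ k : K, ψ ((1 : C) ⊗ₜ[A] k) = algebraMap K L k) :
    Nonempty (C ≃ₐ[A] integralClosure A L) := by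
  have hι : Function.Injective (fun c : C => c ⊗ₜ[A] (1 : K)) :=
    Algebra.TensorProduct.includeLeft_injective (S := A) (IsFractionRing.injective A K)
  let ρ : C →ₐ[A] L :=
    { toRingHom := ψ.toRingHom.comp (Algebra.TensorProduct.includeLeft (R := A) (S := A) (A := C)
        (B := K)).toRingHom
      commutes' := fun a => by
        change ψ ((algebraMap A C a) ⊗ₜ[A] (1 : K)) = algebraMap A L a
        rw [Algebra.algebraMap_eq_smul_one, TensorProduct.smul_tmul, hψ,
          ← Algebra.algebraMap_eq_smul_one, ← IsScalarTower.algebraMap_apply] }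
  have hρ : ∀ c, ρ c = ψ (c ⊗ₜ[A] (1 : K)) := fun c => rfl
  have hρinj : Function.Injective ρ := fun c₁ c₂ h => hι (ψ.injective h)
  have hint : ∀ c, ρ c ∈ integralClosure A L := fun c =>
    (Algebra.IsIntegral.isIntegral (R := A) c).map ρ
  let ρ' : C →ₐ[A] integralClosure A L := ρ.codRestrict _ hint
  refine ⟨AlgEquiv.ofBijective ρ' ⟨fun c₁ c₂ h => hρinj (congrArg Subtype.val h), ?_⟩⟩
  rintro ⟨b, hb⟩
  -- `ψ.symm b` is integral over `C`
  let ψA : (C ⊗[A] K) ≃ₐ[A] L := AlgEquiv.ofRingEquiv (f := ψ) (fun a => by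
    rw [Algebra.TensorProduct.algebraMap_apply]
    exact ρ.commutes a)
  have h1 : IsIntegral A (ψ.symm b) := by
    have := (show IsIntegral A b from hb).map ψA.symm.toAlgHom
    exact this
  have h2 : IsIntegral C (ψ.symm b) := h1.tower_top
  obtain ⟨t, ht⟩ := (TensorProduct.toIntegralClosure_bijective_of_smooth (R := A) (S := C)
    (B := K)).2 ⟨ψ.symm b, h2⟩
  obtain ⟨c, hc⟩ := toIntegralClosure_mem_range' K t
  rw [ht] at hc
  refine ⟨c, Subtype.ext ?_⟩
  change ρ c = b
  rw [hρ, ← hc]
  exact ψ.apply_symm_apply b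

end

section
variable {A : Type u} [CommRing A] [IsDomain A]
  (K : Type u) [Field K] [Algebra A K] [IsFractionRing A K]
  (L : Type u) [Field L] [Algebra K L] [Algebra A L] [IsScalarTower A K L]
  [Algebra.IsAlgebraic K L]

/-- For the integral closure `B` of `A` in an algebraic extension `L` of `K = Frac A`,
`B ⊗_A K ≅ L`. -/
theorem exists_tensor_integralClosure_equiv :
    ∃ ψ : (integralClosure A L) ⊗[A] K ≃+* L,
      (∀ k : K, ψ ((1 : integralClosure A L) ⊗ₜ[A] k) = algebraMap K L k) ∧
      (∀ b : integralClosure A L, ψ (b ⊗ₜ[A] (1 : K)) = b) := by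
  let B := integralClosure A L
  haveI : IsLocalization (Algebra.algebraMapSubmonoid B A⁰) L :=
    IsIntegralClosure.isLocalization A K L B
  haveI : IsLocalization (Algebra.algebraMapSubmonoid B A⁰) (B ⊗[A] K) :=
    IsLocalization.tensor K A⁰
  let ψ : (B ⊗[A] K) ≃ₐ[B] L := IsLocalization.algEquiv (Algebra.algebraMapSubmonoid B A⁰) _ _
  have hb : ∀ b : B, ψ (b ⊗ₜ[A] (1 : K)) = b := fun b => by
    have := ψ.commutes b
    rwa [Algebra.TensorProduct.algebraMap_apply, Algebra.algebraMap_self, RingHom.id_apply]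
      at this
  refine ⟨ψ.toRingEquiv, fun k => ?_, hb⟩
  change ψ ((1 : B) ⊗ₜ[A] k) = algebraMap K L k
  obtain ⟨a, s, rfl⟩ := IsLocalization.exists_mk'_eq A⁰ k
  have hs : algebraMap A L s ≠ 0 := by
    rw [IsScalarTower.algebraMap_apply A K L]
    intro h
    have h1 := (algebraMap K L).injective (h.trans (map_zero _).symm)
    exact nonZeroDivisors.ne_zero s.2 (IsFractionRing.injective A K (h1.trans (map_zero _).symm))
  have h1 : ψ ((1 : B) ⊗ₜ[A] IsLocalization.mk' K a s) * algebraMap A L s = algebraMap A L a := by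
    have e1 : algebraMap A L s = ψ ((algebraMap A B s) ⊗ₜ[A] (1 : K)) := by
      rw [hb]; rfl
    rw [e1, ← map_mul, Algebra.TensorProduct.tmul_mul_tmul, one_mul, mul_one,
      Algebra.algebraMap_eq_smul_one, TensorProduct.smul_tmul, Algebra.smul_def,
      IsLocalization.mk'_spec']
    rw [Algebra.algebraMap_eq_smul_one (A := K), ← TensorProduct.smul_tmul,
      ← Algebra.algebraMap_eq_smul_one, hb]
    rfl
  have h2 : algebraMap K L (IsLocalization.mk' K a s) * algebraMap A L s = algebraMap A L a := by
    rw [IsScalarTower.algebraMap_apply A K L, IsScalarTower.algebraMap_apply A K L, ← map_mul,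
      IsLocalization.mk'_spec]
  exact mul_right_cancel₀ hs (h1.trans h2.symm)

end

theorem generic_mem {X : Scheme.{u}} [IsIntegral X] (U : X.Opens) [h : Nonempty U] :
    genericPoint X ∈ U :=
  ((genericPoint_spec X).mem_open_set_iff U.isOpen).mpr (by
    obtain ⟨x, hx⟩ := h
    exact ⟨x, trivial, hx⟩)

/-- Pullback of an affine morphism along the generic point of an integral scheme, computed on a
nonempty affine open. -/
theorem isPullback_generic {Y X : Scheme.{u}} [IsIntegral X] (π : Y ⟶ X) [IsAffineHom π]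
    {U : X.Opens} (hU : IsAffineOpen U) [Nonempty U] :
    letI := (π.app U).hom.toAlgebra
    IsPullback
      (Spec.map (CommRingCat.ofHom (Algebra.TensorProduct.includeLeftRingHom
        (R := Γ(X, U)) (A := Γ(Y, π ⁻¹ᵁ U)) (B := X.functionField))) ≫
        (hU.preimage π).fromSpec)
      (Spec.map (CommRingCat.ofHom (Algebra.TensorProduct.includeRight
        (R := Γ(X, U)) (A := Γ(Y, π ⁻¹ᵁ U)) (B := X.functionField)).toRingHom))
      π (X.fromSpecStalk (genericPoint X)) := by
  letI := (π.app U).hom.toAlgebra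
  have hV := hU.preimage π
  have sq1 : IsPullback (hV.fromSpec) (Spec.map (π.app U)) π hU.fromSpec := by
    refine (IsOpenImmersion.isPullback (Spec.map (π.app U)) hV.fromSpec hU.fromSpec π ?_ ?_).flip
    · rw [Scheme.Hom.app_eq_appLE]
      exact (IsAffineOpen.SpecMap_appLE_fromSpec π hU hV _).symm
    · rw [hU.opensRange_fromSpec, hV.opensRange_fromSpec]
  have sq2 := isPullback_SpecMap_of_isPushout _ _ _ _
    (CommRingCat.isPushout_tensorProduct Γ(X, U) Γ(Y, π ⁻¹ᵁ U) X.functionField)
  have := sq2.paste_horiz sq1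
  have hj : Spec.map (CommRingCat.ofHom (algebraMap Γ(X, U) X.functionField)) ≫ hU.fromSpec =
      X.fromSpecStalk (genericPoint X) := by
    rw [← hU.fromSpecStalk_eq_fromSpecStalk (generic_mem U)]
    rfl
  rw [hj] at this
  exact this

section
variable {X : Scheme.{u}} [IsIntegral X] (L : Type u) [Field L] [Algebra X.functionField L]

/-- The generic point of `X` with values in `L`. -/
noncomputable abbrev gen : Spec (CommRingCat.of L) ⟶ X :=
  Spec.map (CommRingCat.ofHom (algebraMap X.functionField L)) ≫ X.fromSpecStalk (genericPoint X)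

theorem gen_preimage (U : X.Opens) [Nonempty U] : (gen L) ⁻¹ᵁ U = ⊤ := by
  ext t
  simp only [Opens.coe_top, Set.mem_univ, iff_true]
  change (gen L) t ∈ U
  have h1 : (X.fromSpecStalk (genericPoint X))
      (Spec.map (CommRingCat.ofHom (algebraMap X.functionField L)) t) ∈
      Set.range (X.fromSpecStalk (genericPoint X)) := ⟨_, rfl⟩
  rw [Scheme.range_fromSpecStalk] at h1
  exact h1.mem_open U.isOpen (generic_mem U)

/-- The sections of `Spec L` over the preimage of a nonempty open are `L`. -/
noncomputable def secIso (U : X.Opens) [Nonempty U] :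
    Γ(Spec (CommRingCat.of L), (gen L) ⁻¹ᵁ U) ≅ CommRingCat.of L :=
  (Spec (CommRingCat.of L)).presheaf.mapIso (eqToIso (gen_preimage L U).symm).op ≪≫
    Scheme.ΓSpecIso (CommRingCat.of L)

theorem app_secIso {U : X.Opens} (hU : IsAffineOpen U) [Nonempty U] :
    (gen L).app U ≫ (secIso L U).hom =
      X.germToFunctionField U ≫ CommRingCat.ofHom (algebraMap X.functionField L) := by
  have e : (⊤ : (Spec (CommRingCat.of L)).Opens) ≤ (gen L) ⁻¹ᵁ U := (gen_preimage L U).ge
  have h1 : (gen L).app U ≫ (secIso L U).hom =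
      (gen L).appLE U ⊤ e ≫ (Scheme.ΓSpecIso (CommRingCat.of L)).hom := by
    simp only [secIso, Iso.trans_hom, Functor.mapIso_hom, Iso.op_hom, eqToIso.hom,
      Scheme.Hom.appLE, Category.assoc]
    rfl
  rw [h1]
  have h2 := IsAffineOpen.SpecMap_appLE_fromSpec (gen L) hU (isAffineOpen_top _) e
  have h3 : gen L = Spec.map (X.germToFunctionField U ≫
      CommRingCat.ofHom (algebraMap X.functionField L)) ≫ hU.fromSpec := by
    rw [Spec.map_comp, Category.assoc]
    change _ = _ ≫ hU.fromSpecStalk (generic_mem U)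
    rw [hU.fromSpecStalk_eq_fromSpecStalk]
    rfl
  rw [IsAffineOpen.fromSpec_top, Scheme.isoSpec_Spec_inv] at h2
  conv_rhs at h2 => rw [h3]
  rw [← Category.assoc, cancel_mono, ← Spec.map_comp] at h2
  have h4 := Spec.map_injective h2
  rw [h4, Category.assoc, Iso.inv_hom_id, Category.comp_id]

end

end Groth.Agent.Lib.NormEt
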