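import Mathlib
import Groth.Prelude.Def_Pi1
import Groth.Agent.Lib.NormEt3_helper5

/-!
# Normalization in a finite extension is finite etale iff the extension comes from a cover

`essImage_of_etale_finite` / `etale_finite_of_essImage`: for a normal integral scheme `X` and a
finite extension `L` of its function field, `Spec L` is the restriction to the generic point of a
finite etale cover of `X` iff the normalization of `X` in `L` is finite etale.
-/

set_option autoImplicit false
set_option linter.style.haveILetI false
universe u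
open CategoryTheory CategoryTheory.Limits AlgebraicGeometry TopologicalSpace TensorProduct
open nonZeroDivisors

namespace Groth.Agent.Lib.NormEt

section
variable {X : Scheme.{u}} [IsIntegral X] (L : Type u) [Field L]
  [Algebra X.functionField L]

/-- The algebra structure on `L` over the sections on a nonempty open. -/
noncomputable abbrev algL (U : X.Opens) [Nonempty U] : Algebra Γ(X, U) L :=
  ((algebraMap X.functionField L).comp (algebraMap Γ(X, U) X.functionField)).toAlgebra

theorem isScalarTower_algL (U : X.Opens) [Nonempty U] :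
    letI := algL L U
    IsScalarTower Γ(X, U) X.functionField L :=
  letI := algL L U
  IsScalarTower.of_algebraMap_eq' rfl

variable [QuasiCompact (gen (X := X) L)] [QuasiSeparated (gen (X := X) L)]
  {U : X.Opens} (hU : IsAffineOpen U) [Nonempty U]

include hU in
theorem exists_algEquiv_sections :
    letI := ((gen L).fromNormalization.app U).hom.toAlgebra
    letI := algL L U
    Nonempty (Γ((gen L).normalization, (gen L).fromNormalization ⁻¹ᵁ U) ≃ₐ[Γ(X, U)]
      integralClosure Γ(X, U) L) := by
  letI algN := ((gen L).fromNormalization.app U).hom.toAlgebra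
  letI := algL L U
  letI algM : Algebra Γ(X, U) Γ(Spec (CommRingCat.of L), (gen L) ⁻¹ᵁ U) :=
    ((gen L).app U).hom.toAlgebra
  let μA : Γ(Spec (CommRingCat.of L), (gen L) ⁻¹ᵁ U) ≃ₐ[Γ(X, U)] L :=
    AlgEquiv.ofRingEquiv (f := (secIso L U).commRingCatIsoToRingEquiv) (fun a => by
      have := congrArg (fun m => m.hom a) (app_secIso L hU)
      exact this)
  let e1 := μA.mapIntegralClosure
  let eN : Γ((gen L).normalization, (gen L).fromNormalization ⁻¹ᵁ U) ≃ₐ[Γ(X, U)]
      integralClosure Γ(X, U) Γ(Spec (CommRingCat.of L), (gen L) ⁻¹ᵁ U) :=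
    AlgEquiv.ofRingEquiv (f := ((gen L).normalizationObjIso hU).commRingCatIsoToRingEquiv)
      (fun a => by
        have h := (gen L).fromNormalization_app hU
        have h2 : (gen L).fromNormalization.app U ≫ ((gen L).normalizationObjIso hU).hom =
            CommRingCat.ofHom (algebraMap _ _) := by
          rw [h, Category.assoc, Iso.inv_hom_id, Category.comp_id]
        exact congrArg (fun m => m.hom a) h2)
  exact ⟨eN.trans e1⟩


variable [FiniteDimensional X.functionField L]

include hU in
/-- `Γ(N, ν⁻¹U) ⊗ K ≅ L`. -/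
theorem exists_tensor_equiv :
    letI := ((gen L).fromNormalization.app U).hom.toAlgebra
    ∃ Ψ : (Γ((gen L).normalization, (gen L).fromNormalization ⁻¹ᵁ U) ⊗[Γ(X, U)]
        X.functionField) ≃+* L,
      ∀ k : X.functionField, Ψ (1 ⊗ₜ k) = algebraMap X.functionField L k := by
  letI algN := ((gen L).fromNormalization.app U).hom.toAlgebra
  letI := algL L U
  haveI := isScalarTower_algL L U
  haveI : IsFractionRing Γ(X, U) X.functionField :=
    functionField_isFractionRing_of_isAffineOpen (X := X) U hU
  obtain ⟨eN⟩ := exists_algEquiv_sections L hU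
  obtain ⟨ψ, hψ, -⟩ := exists_tensor_integralClosure_equiv (A := Γ(X, U)) X.functionField L
  let e2 := Algebra.TensorProduct.congr eN (AlgEquiv.refl (R := Γ(X, U)) (A₁ := X.functionField))
  refine ⟨e2.toRingEquiv.trans ψ, fun k => ?_⟩
  change ψ (e2 (1 ⊗ₜ k)) = _
  rw [Algebra.TensorProduct.congr_apply, Algebra.TensorProduct.map_tmul]
  simp only [AlgEquiv.coe_toAlgHom, map_one, AlgEquiv.coe_refl, id_eq]
  exact hψ k

include hU in
/-- If a finite etale algebra `C` over the sections on `U` has generic fibre `L`, then the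
normalization is finite etale over `U`. -/
theorem etale_finite_app_of_equiv (hX : Pi1.IsNormalScheme X) (C : Type u) [CommRing C]
    [Algebra Γ(X, U) C]
    [Algebra.Etale Γ(X, U) C] [Module.Finite Γ(X, U) C]
    (Ψ : C ⊗[Γ(X, U)] X.functionField ≃+* L)
    (hΨ : ∀ k : X.functionField, Ψ (1 ⊗ₜ k) = algebraMap X.functionField L k) :
    ((gen L).fromNormalization.app U).hom.Etale ∧
      ((gen L).fromNormalization.app U).hom.Finite := by
  letI algN := ((gen L).fromNormalization.app U).hom.toAlgebra
  letI := algL L U
  haveI := isScalarTower_algL L U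
  haveI : IsFractionRing Γ(X, U) X.functionField :=
    functionField_isFractionRing_of_isAffineOpen (X := X) U hU
  haveI : IsIntegrallyClosed Γ(X, U) := isIntegrallyClosed_of_stalks (fun x => (hX x).2) hU
  obtain ⟨eN⟩ := exists_algEquiv_sections L hU
  obtain ⟨eC⟩ := exists_algEquiv_integralClosure (A := Γ(X, U)) X.functionField Ψ hΨ
  let e := eC.trans eN.symm
  haveI : Algebra.Etale Γ(X, U) Γ((gen L).normalization, (gen L).fromNormalization ⁻¹ᵁ U) :=
    Algebra.Etale.of_equiv e
  haveI : Module.Finite Γ(X, U) Γ((gen L).normalization, (gen L).fromNormalization ⁻¹ᵁ U) :=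
    Module.Finite.equiv e.toLinearEquiv
  constructor
  · have := RingHom.etale_algebraMap.mpr ‹Algebra.Etale Γ(X, U)
      Γ((gen L).normalization, (gen L).fromNormalization ⁻¹ᵁ U)›
    exact this
  · have := RingHom.finite_algebraMap.mpr ‹Module.Finite Γ(X, U)
      Γ((gen L).normalization, (gen L).fromNormalization ⁻¹ᵁ U)›
    exact this

end

section
variable {X : Scheme.{u}} [IsIntegral X] (L : Type u) [Field L]
  [Algebra X.functionField L] [FiniteDimensional X.functionField L]
  [QuasiCompact (gen (X := X) L)] [QuasiSeparated (gen (X := X) L)]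

theorem exists_nonempty_affineOpen (X : Scheme.{u}) [IsIntegral X] :
    ∃ U : X.Opens, IsAffineOpen U ∧ Nonempty U := by
  obtain ⟨_, ⟨U, hU, rfl⟩, hxU, -⟩ := X.isBasis_affineOpens.exists_subset_of_mem_open
    (Set.mem_univ (genericPoint X)) isOpen_univ
  exact ⟨U, hU, ⟨⟨_, hxU⟩⟩⟩

/-- If the normalization of `X` in `L` is finite etale, then `Spec L` is the restriction of a
finite etale cover of `X`. -/
theorem essImage_of_etale_finite [Etale (gen (X := X) L).fromNormalization]
    [IsFinite (gen (X := X) L).fromNormalization]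
    (Y₀ : FEt.Cat (Spec X.functionField)) (e : Y₀.left ≅ Spec (CommRingCat.of L))
    (he : e.hom ≫ Spec.map (CommRingCat.ofHom (algebraMap X.functionField L)) = Y₀.hom) :
    (FEt.restrict (X.fromSpecStalk (genericPoint X))).essImage Y₀ := by
  obtain ⟨U, hU, hne⟩ := exists_nonempty_affineOpen X
  haveI := hne
  letI algN := ((gen L).fromNormalization.app U).hom.toAlgebra
  obtain ⟨Ψ, hΨ⟩ := exists_tensor_equiv L hU
  have H := isPullback_generic (gen L).fromNormalization hU
  let iso1 := H.isoPullback
  let iso2 : Spec (CommRingCat.of L) ≅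
      Spec (CommRingCat.of (Γ((gen L).normalization, (gen L).fromNormalization ⁻¹ᵁ U) ⊗[Γ(X, U)]
        X.functionField)) := Scheme.Spec.mapIso Ψ.toCommRingCatIso.op
  have h2 : iso2.hom ≫ Spec.map (CommRingCat.ofHom (Algebra.TensorProduct.includeRight
        (R := Γ(X, U)) (A := Γ((gen L).normalization, (gen L).fromNormalization ⁻¹ᵁ U))
        (B := X.functionField)).toRingHom) =
      Spec.map (CommRingCat.ofHom (algebraMap X.functionField L)) := by
    change Spec.map _ ≫ Spec.map _ = _
    rw [← Spec.map_comp]
    congr 1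
    ext k
    exact hΨ k
  refine ⟨MorphismProperty.Over.mk ⊤ (gen L).fromNormalization ⟨inferInstance, inferInstance⟩,
    ⟨MorphismProperty.Over.isoMk (iso1.symm ≪≫ iso2.symm ≪≫ e.symm) ?_⟩⟩
  change (iso1.inv ≫ iso2.inv ≫ e.inv) ≫ Y₀.hom = pullback.snd _ _
  rw [← he, Category.assoc, Category.assoc, Iso.inv_hom_id_assoc, ← h2, Iso.inv_hom_id_assoc]
  exact H.isoPullback_inv_snd


/-- If `Spec L` is the restriction of a finite etale cover of the normal scheme `X`, then the
normalization of `X` in `L` is finite etale. -/
theorem etale_finite_of_essImage (hX : Pi1.IsNormalScheme X)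
    (Y₀ : FEt.Cat (Spec X.functionField)) (e : Y₀.left ≅ Spec (CommRingCat.of L))
    (he : e.hom ≫ Spec.map (CommRingCat.ofHom (algebraMap X.functionField L)) = Y₀.hom)
    (h : (FEt.restrict (X.fromSpecStalk (genericPoint X))).essImage Y₀) :
    Etale (gen (X := X) L).fromNormalization ∧ IsFinite (gen (X := X) L).fromNormalization := by
  obtain ⟨Y, ⟨θ⟩⟩ := h
  let π : Y.left ⟶ X := Y.hom
  haveI : IsFinite π := Y.prop.1
  haveI : Etale π := Y.prop.2
  let θl : pullback π (X.fromSpecStalk (genericPoint X)) ≅ Y₀.left :=
    (MorphismProperty.Over.forget _ _ _ ⋙ CategoryTheory.Over.forget _).mapIso θ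
  have hθl : θl.hom ≫ Y₀.hom = pullback.snd π (X.fromSpecStalk (genericPoint X)) :=
    MorphismProperty.Over.w θ.hom
  have key : ∀ {U : X.Opens} (_ : IsAffineOpen U),
      ((gen L).fromNormalization.app U).hom.Etale ∧
      ((gen L).fromNormalization.app U).hom.Finite := by
    intro U hU
    by_cases hne : Nonempty U
    swap
    · have hbot : U = ⊥ := by
        ext x; simp only [Opens.coe_bot, Set.mem_empty_iff_false, iff_false]
        exact fun hx => hne ⟨⟨x, hx⟩⟩
      subst hbot
      haveI : Subsingleton Γ(X, ⊥) := inferInstance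
      haveI : Subsingleton Γ((gen (X := X) L).normalization,
          (gen (X := X) L).fromNormalization ⁻¹ᵁ ⊥) := by
        rw [Scheme.Hom.preimage_bot]; infer_instance
      have hb : Function.Bijective ((gen (X := X) L).fromNormalization.app ⊥).hom :=
        ⟨fun a b _ => Subsingleton.elim _ _, fun b => ⟨0, Subsingleton.elim _ _⟩⟩
      exact ⟨RingHom.Etale.of_bijective hb, RingHom.Finite.of_surjective _ hb.2⟩
    haveI := hne
    letI algC := (π.app U).hom.toAlgebra
    haveI : Algebra.Etale Γ(X, U) Γ(Y.left, π ⁻¹ᵁ U) := by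
      rw [← RingHom.etale_algebraMap]
      have := Etale.etale_appLE π hU (hU.preimage π) le_rfl
      rwa [← Scheme.Hom.app_eq_appLE] at this
    haveI : Module.Finite Γ(X, U) Γ(Y.left, π ⁻¹ᵁ U) := by
      rw [← RingHom.finite_algebraMap]
      exact IsFinite.finite_app π U hU
    have H := isPullback_generic π hU
    let φ : Spec (CommRingCat.of (Γ(Y.left, π ⁻¹ᵁ U) ⊗[Γ(X, U)] X.functionField)) ≅
        Spec (CommRingCat.of L) := H.isoPullback ≪≫ θl ≪≫ e
    have hφ : φ.hom ≫ Spec.map (CommRingCat.ofHom (algebraMap X.functionField L)) =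
        Spec.map (CommRingCat.ofHom (Algebra.TensorProduct.includeRight
        (R := Γ(X, U)) (A := Γ(Y.left, π ⁻¹ᵁ U)) (B := X.functionField)).toRingHom) := by
      change (H.isoPullback.hom ≫ θl.hom ≫ e.hom) ≫ _ = _
      rw [Category.assoc, Category.assoc, he, hθl]
      exact H.isoPullback_hom_snd
    let Ψc : CommRingCat.of (Γ(Y.left, π ⁻¹ᵁ U) ⊗[Γ(X, U)] X.functionField) ≅ CommRingCat.of L :=
      { hom := Spec.preimage φ.inv
        inv := Spec.preimage φ.hom
        hom_inv_id := by
          apply Spec.map_injective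
          rw [Spec.map_comp, Spec.map_preimage, Spec.map_preimage, Iso.hom_inv_id, Spec.map_id]
        inv_hom_id := by
          apply Spec.map_injective
          rw [Spec.map_comp, Spec.map_preimage, Spec.map_preimage, Iso.inv_hom_id, Spec.map_id] }
    have hΨ : ∀ k : X.functionField, Ψc.commRingCatIsoToRingEquiv (1 ⊗ₜ k) =
        algebraMap X.functionField L k := by
      intro k
      have h1 : CommRingCat.ofHom (Algebra.TensorProduct.includeRight
          (R := Γ(X, U)) (A := Γ(Y.left, π ⁻¹ᵁ U)) (B := X.functionField)).toRingHom ≫ Ψc.hom =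
          CommRingCat.ofHom (algebraMap X.functionField L) := by
        apply Spec.map_injective
        rw [Spec.map_comp, Spec.map_preimage, ← hφ, Iso.inv_hom_id_assoc]
      exact congrArg (fun m => m.hom k) h1
    exact etale_finite_app_of_equiv L hU hX _ Ψc.commRingCatIsoToRingEquiv hΨ
  exact ⟨etale_of_app _ (fun hU => (key hU).1), ⟨fun U hU => (key hU).2⟩⟩

end

end Groth.Agent.Lib.NormEt
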