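import Mathlib
import Groth.Prelude.Def_Found
import Groth.Agent.Lib.NormFinite_helper3
import Groth.Agent.Lib.NagataSmooth_helper3

/-!
# Finiteness of the relative normalization over Nagata bases, II (helper3)
APPEND-ONLY once landed.

The case of a reduced source with locally finitely many irreducible components whose generic
residue fields are essentially of finite type over the base.
-/

set_option autoImplicit false
universe u

open AlgebraicGeometry CategoryTheory TopologicalSpace Opposite

namespace Groth.Agent.Lib.NormFinite2H3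

/-- Ring-level statement, essentially-of-finite-type version. -/
theorem finite_integralClosure_of_ringHoms_ess {A B : Type u} [CommRing A] [CommRing B]
    [Algebra A B]
    (hA : CAlg.IsNagata A) {ι : Type*} [Finite ι] (C : ι → Type u) [∀ i, CommRing (C i)]
    [∀ i, _root_.IsReduced (C i)] (φ : ∀ i, B →+* C i)
    (hft : ∀ i, ((φ i).comp (algebraMap A B)).EssFiniteType)
    (hφ : ∀ b : B, (∀ i, φ i b = 0) → b = 0) :
    Module.Finite A (integralClosure A B) := by
  haveI : IsNoetherianRing A := hA.1
  letI : ∀ i, Algebra A (C i) := fun i => ((φ i).comp (algebraMap A B)).toAlgebra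
  haveI : ∀ i, Algebra.EssFiniteType A (C i) := fun i => hft i
  let φa : ∀ i, B →ₐ[A] C i := fun i => { φ i with commutes' := fun r => rfl }
  haveI : ∀ i, Module.Finite A (integralClosure A (C i)) := fun i =>
    Groth.Agent.Lib.NagataSmoothH3.finite_integralClosure A hA (C i)
  let ψ : integralClosure A B →ₗ[A] (∀ i, integralClosure A (C i)) :=
    { toFun := fun x i => ⟨φa i x.1, (x.2 : IsIntegral A x.1).map (φa i)⟩
      map_add' := fun x y => by
        funext i
        apply Subtype.ext
        simp
      map_smul' := fun r x => by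
        funext i
        apply Subtype.ext
        show φa i (r • x.1) = r • φa i x.1
        rw [map_smul] }
  have hψ : Function.Injective ψ := by
    intro x y hxy
    apply Subtype.ext
    rw [← sub_eq_zero]
    apply hφ
    intro i
    have h1 := congrFun hxy i
    have h2 : φa i x.1 = φa i y.1 := congrArg Subtype.val h1
    have h3 : φ i x.1 = φ i y.1 := h2
    rw [map_sub, h3, sub_self]
  cases nonempty_fintype ι
  haveI : IsNoetherian A (∀ i, integralClosure A (C i)) :=
    isNoetherian_of_isNoetherianRing_of_finite A _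
  exact Module.Finite.of_injective ψ hψ

/-- Evaluation at a point of an affine open is essentially of finite type. -/
theorem essFiniteType_evaluation {S : Scheme.{u}} {U : S.Opens} (hU : IsAffineOpen U) (y : S)
    (hy : y ∈ U) : (S.evaluation U y hy).hom.EssFiniteType := by
  have h1 : (S.presheaf.germ U y hy).hom.EssFiniteType := by
    letI : Algebra Γ(S, U) (S.presheaf.stalk y) :=
      TopCat.Presheaf.algebra_section_stalk S.presheaf ⟨y, hy⟩
    haveI := hU.isLocalization_stalk ⟨y, hy⟩
    exact Algebra.EssFiniteType.of_isLocalization (S.presheaf.stalk y)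
      (hU.primeIdealOf ⟨y, hy⟩).asIdeal.primeCompl
  have h2 : (S.residue y).hom.EssFiniteType :=
    (RingHom.FiniteType.of_surjective _ (S.residue_surjective y)).essFiniteType
  exact h1.comp h2

section Main

variable {X S : Scheme.{u}} (f : X ⟶ S) [QuasiCompact f] [QuasiSeparated f]
  [AlgebraicGeometry.IsReduced X]

theorem finite_integralClosure_app
    (hfin : LocallyFinite (fun Z : ↥(irreducibleComponents ↥X) => (Z : Set ↥X)))
    (hres : ∀ x : X, closure {x} ∈ irreducibleComponents ↥X →
      (f.residueFieldMap x).hom.EssFiniteType)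
    (U : S.affineOpens) (hU : CAlg.IsNagata Γ(S, U.1)) :
    letI := (f.app U.1).hom.toAlgebra
    Module.Finite Γ(S, U.1) (integralClosure Γ(S, U.1) Γ(X, f ⁻¹ᵁ U.1)) := by
  letI := (f.app U.1).hom.toAlgebra
  have hc : IsCompact ((f ⁻¹ᵁ U.1 : X.Opens) : Set X) :=
    QuasiCompact.isCompact_preimage (f := f) _ U.1.isOpen U.2.isCompact
  have hI : {Z : irreducibleComponents X |
      ((Z : Set X) ∩ ((f ⁻¹ᵁ U.1 : X.Opens) : Set X)).Nonempty}.Finite :=
    hfin.finite_nonempty_inter_compact hc
  let I : Set (irreducibleComponents X) := {Z : irreducibleComponents X |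
      ((Z : Set X) ∩ ((f ⁻¹ᵁ U.1 : X.Opens) : Set X)).Nonempty}
  haveI : Finite I := hI
  have hirr : ∀ Z : I, IsIrreducible (Z.1.1 : Set X) := fun Z => Z.1.2.1
  have hcl : ∀ Z : I, IsClosed (Z.1.1 : Set X) := fun Z =>
    isClosed_of_mem_irreducibleComponents _ Z.1.2
  let g : I → X := fun Z => (hirr Z).genericPoint
  have hg : ∀ Z : I, IsGenericPoint (g Z) (Z.1.1 : Set X) := fun Z =>
    (hirr Z).isGenericPoint_genericPoint (hcl Z)
  have hgU : ∀ Z : I, g Z ∈ f ⁻¹ᵁ U.1 := fun Z =>
    ((hg Z).mem_open_set_iff (f ⁻¹ᵁ U.1).isOpen).mpr Z.2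
  have hgc : ∀ Z : I, closure {g Z} ∈ irreducibleComponents X := fun Z => by
    rw [(hg Z).def]
    exact Z.1.2
  refine finite_integralClosure_of_ringHoms_ess hU (fun Z : I => X.residueField (g Z))
    (fun Z => (X.evaluation (f ⁻¹ᵁ U.1) (g Z) (hgU Z)).hom) ?_ ?_
  · intro Z
    have hnat := Scheme.evaluation_naturality f (g Z) (hgU Z)
    have : ((X.evaluation (f ⁻¹ᵁ U.1) (g Z) (hgU Z)).hom.comp
        (algebraMap Γ(S, U.1) Γ(X, f ⁻¹ᵁ U.1))) =
        (S.evaluation U.1 (f (g Z)) (hgU Z) ≫ f.residueFieldMap (g Z)).hom := by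
      rw [hnat]
      rfl
    rw [this]
    exact (essFiniteType_evaluation U.2 _ _).comp (hres _ (hgc Z))
  · intro b hb
    rw [← basicOpen_eq_bot_iff]
    by_contra hne
    obtain ⟨y, hy⟩ : ∃ y, y ∈ X.basicOpen b := by
      by_contra h
      push Not at h
      apply hne
      ext y
      simp [h y]
    have hyW : y ∈ f ⁻¹ᵁ U.1 := X.basicOpen_le b hy
    let Z₀ : irreducibleComponents X :=
      ⟨irreducibleComponent y, irreducibleComponent_mem_irreducibleComponents y⟩
    have hZ₀ : Z₀ ∈ I := ⟨y, mem_irreducibleComponent, hyW⟩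
    have h1 : g ⟨Z₀, hZ₀⟩ ∈ X.basicOpen b :=
      ((hg ⟨Z₀, hZ₀⟩).mem_open_set_iff (X.basicOpen b).isOpen).mpr
        ⟨y, mem_irreducibleComponent, hy⟩
    have h2 := hb ⟨Z₀, hZ₀⟩
    rw [Scheme.evaluation_eq_zero_iff_notMem_basicOpen] at h2
    exact h2 h1

/-- **S9674**. -/
theorem isFinite_fromNormalization
    (hS : ∀ U : S.affineOpens, CAlg.IsNagata Γ(S, U))
    (hfin : LocallyFinite (fun Z : ↥(irreducibleComponents ↥X) => (Z : Set ↥X)))
    (hres : ∀ x : X, closure {x} ∈ irreducibleComponents ↥X →
      (f.residueFieldMap x).hom.EssFiniteType) : IsFinite f.fromNormalization :=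
  Groth.Agent.Lib.NormFiniteH3.isFinite_fromNormalization_of_forall f fun U =>
    finite_integralClosure_app f hfin hres U (hS U)

end Main

end Groth.Agent.Lib.NormFinite2H3
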