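import Mathlib
import Groth.Prelude

set_option autoImplicit false
set_option linter.style.haveILetI false

universe u

open DirectSum

namespace Groth.Agent.Lib.NormFlatGrH4

variable {A : Type u} [CommRing A] (I : Ideal A) (M : Type u) [AddCommGroup M] [Module A M]

/-- the pieces. -/
abbrev P (n : ℕ) : Type u :=
  ↥(I ^ n • (⊤ : Submodule A M)) ⧸ (I • (⊤ : Submodule A ↥(I ^ n • (⊤ : Submodule A M))))

/-- `x ↦ class of x Xⁿ`, `A`-linear. -/
noncomputable def jA (n : ℕ) :
    ↥(I ^ n • (⊤ : Submodule A M)) →ₗ[A] AssocGr.GrMod (Rees.powFilt I M) where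
  toFun x := (AssocGr.inDegM (Rees.powFilt I M) n x : AssocGr.GrMod (Rees.powFilt I M))
  map_add' x y :=
    congrArg Subtype.val (map_add (AssocGr.inDegM (Rees.powFilt I M) n) x y)
  map_smul' a x := AssocGr.coe_inDegM_smul (Rees.powFilt I M) n a x

theorem jA_apply (n : ℕ) (x : ↥(I ^ n • (⊤ : Submodule A M))) :
    jA I M n x = (AssocGr.inDegM (Rees.powFilt I M) n x : AssocGr.GrMod (Rees.powFilt I M)) := rfl

theorem smul_top_le_ker (n : ℕ) :
    (I • (⊤ : Submodule A ↥(I ^ n • (⊤ : Submodule A M)))) ≤ LinearMap.ker (jA I M n) := by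
  rw [Submodule.smul_le]
  intro a ha x _
  rw [LinearMap.mem_ker, map_smul]
  have h := AssocGr.isTorsionBySet_base (Rees.powFilt I M)
  exact @h (jA I M n x) ⟨a, ha⟩

theorem ker_le_smul_top (n : ℕ) :
    LinearMap.ker (jA I M n) ≤ (I • (⊤ : Submodule A ↥(I ^ n • (⊤ : Submodule A M)))) := by
  intro x hx
  rw [LinearMap.mem_ker, jA_apply] at hx
  have h0 : AssocGr.inDegM (Rees.powFilt I M) n x = 0 := Subtype.ext hx
  have h1 : (x : M) ∈ (Rees.powFilt I M).N (n + 1) :=
    (AssocGr.inDegM_eq_zero_iff (Rees.powFilt I M) n x).mp h0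
  have h2 : (x : M) ∈ I • (I ^ n • (⊤ : Submodule A M)) := by
    have h3 : (x : M) ∈ I ^ (n + 1) • (⊤ : Submodule A M) := h1
    rwa [pow_succ', Submodule.mul_smul] at h3
  exact (Submodule.mem_smul_top_iff I (I ^ n • (⊤ : Submodule A M)) x).mpr h2

/-- the induced map on the quotient. -/
noncomputable def iotaA (n : ℕ) : P I M n →ₗ[A] AssocGr.GrMod (Rees.powFilt I M) :=
  Submodule.liftQ _ (jA I M n) (smul_top_le_ker I M n)

theorem iotaA_mk (n : ℕ) (x : ↥(I ^ n • (⊤ : Submodule A M))) :
    iotaA I M n (Submodule.Quotient.mk x) = jA I M n x := rfl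

theorem iotaA_injective (n : ℕ) : Function.Injective (iotaA I M n) :=
  LinearMap.ker_eq_bot.mp
    (Submodule.ker_liftQ_eq_bot _ (jA I M n) (smul_top_le_ker I M n) (ker_le_smul_top I M n))

theorem iotaA_mem (n : ℕ) (p : P I M n) :
    iotaA I M n p ∈ AssocGr.grM (Rees.powFilt I M) n := by
  obtain ⟨x, rfl⟩ := Submodule.mkQ_surjective _ p
  exact (AssocGr.inDegM (Rees.powFilt I M) n x).2

/-- the `A ⧸ I`-linear version. -/
noncomputable def iota (n : ℕ) : P I M n →ₗ[A ⧸ I] AssocGr.GrMod (Rees.powFilt I M) :=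
  LinearMap.extendScalarsOfSurjective Ideal.Quotient.mk_surjective (iotaA I M n)

theorem iota_apply (n : ℕ) (p : P I M n) : iota I M n p = iotaA I M n p := rfl

/-- the comparison map. -/
noncomputable def Psi : (⨁ n, P I M n) →ₗ[A ⧸ I] AssocGr.GrMod (Rees.powFilt I M) :=
  DirectSum.toModule (A ⧸ I) ℕ _ (iota I M)

theorem Psi_of (n : ℕ) (p : P I M n) :
    Psi I M (DirectSum.of (fun n => P I M n) n p) = iotaA I M n p :=
  DirectSum.toModule_lof (A ⧸ I) n p

/-- additive maps to the graded pieces. -/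
noncomputable def kHom (n : ℕ) : P I M n →+ ↥(AssocGr.grM (Rees.powFilt I M) n) where
  toFun p := ⟨iotaA I M n p, iotaA_mem I M n p⟩
  map_zero' := Subtype.ext (map_zero (iotaA I M n))
  map_add' p q := Subtype.ext (map_add (iotaA I M n) p q)

theorem kHom_injective (n : ℕ) : Function.Injective (kHom I M n) := fun p q h =>
  iotaA_injective I M n (congrArg Subtype.val h)

theorem decompose_Psi (z : ⨁ n, P I M n) :
    DirectSum.decompose (AssocGr.grM (Rees.powFilt I M)) (Psi I M z) =
      DirectSum.map (kHom I M) z := by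
  refine DirectSum.induction_on z ?_ ?_ ?_
  · rw [map_zero (Psi I M), DirectSum.decompose_zero, map_zero (DirectSum.map (kHom I M))]
  · intro n p
    rw [DirectSum.map_of, Psi_of]
    exact DirectSum.decompose_coe (AssocGr.grM (Rees.powFilt I M)) (kHom I M n p)
  · intro x y hx hy
    rw [map_add (Psi I M), DirectSum.decompose_add, hx, hy, map_add (DirectSum.map (kHom I M))]

theorem Psi_injective : Function.Injective (Psi I M) := by
  intro z z' h
  have h2 : DirectSum.map (kHom I M) z = DirectSum.map (kHom I M) z' := by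
    rw [← decompose_Psi, ← decompose_Psi, h]
  exact (DirectSum.map_injective (kHom I M)).mpr (kHom_injective I M) h2

theorem Psi_surjective : Function.Surjective (Psi I M) := by
  classical
  rw [← LinearMap.range_eq_top, eq_top_iff]
  intro x _
  rw [← DirectSum.sum_support_decompose (AssocGr.grM (Rees.powFilt I M)) x]
  refine Submodule.sum_mem _ fun n _ => ?_
  obtain ⟨y, hy⟩ := AssocGr.inDegM_surjective (Rees.powFilt I M) n
    (DirectSum.decompose (AssocGr.grM (Rees.powFilt I M)) x n)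
  refine ⟨DirectSum.of (fun n => P I M n) n (Submodule.Quotient.mk y), ?_⟩
  rw [Psi_of, iotaA_mk, jA_apply, hy]

theorem main16455 :
    EGA4.IsNormallyFlat I M ↔ Module.Flat (A ⧸ I) (AssocGr.GrMod (Rees.powFilt I M)) := by
  have e : (⨁ n, P I M n) ≃ₗ[A ⧸ I] AssocGr.GrMod (Rees.powFilt I M) :=
    LinearEquiv.ofBijective (Psi I M) ⟨Psi_injective I M, Psi_surjective I M⟩
  rw [← Module.Flat.equiv_iff e, Module.Flat.directSum_iff]
  rfl

end Groth.Agent.Lib.NormFlatGrH4
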