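import Mathlib
import Groth.Prelude.Def_CAlg
import Groth.Prelude.Def_EGA4b
import Groth.Agent.Lib.NormFlat_helper5
import Groth.Agent.Lib.GenDepth3_helper5
import Groth.Agent.Lib.DoubleLoc_helper6

/-!
# Normal flatness localizes; (S_n) and codepth along a nilpotent ideal (EGA IV 6.10.5) (helper5)
-/

set_option autoImplicit false
universe u
open TensorProduct

namespace Groth.Agent.Lib.NormFlatLocH5

section Transfer

variable {A : Type u} [CommRing A] (I : Ideal A) (S : Submonoid A)

/-- transfer of flatness over `A/I` to flatness over `B/IB`, `B = S⁻¹A`, for a localized module. -/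
theorem flat_of_isLocalizedModule
    {X : Type u} [AddCommGroup X] [Module A X] [Module (A ⧸ I) X] [IsScalarTower A (A ⧸ I) X]
    [hflat : Module.Flat (A ⧸ I) X]
    {B : Type u} [CommRing B] [Algebra A B] [IsLocalization S B]
    {Y : Type u} [AddCommGroup Y] [Module A Y] [Module B Y] [IsScalarTower A B Y]
    [Module (B ⧸ I.map (algebraMap A B)) Y] [IsScalarTower B (B ⧸ I.map (algebraMap A B)) Y]
    (h : X →ₗ[A] Y) [IsLocalizedModule S h] :
    Module.Flat (B ⧸ I.map (algebraMap A B)) Y := by
  set R := A ⧸ I
  set T := B ⧸ I.map (algebraMap A B)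
  letI : Module R Y := Module.compHom Y (algebraMap R T)
  haveI : IsScalarTower R T Y := IsScalarTower.of_algebraMap_smul fun a t => rfl
  haveI : IsScalarTower A R Y := by
    refine IsScalarTower.of_algebraMap_smul fun a y => ?_
    change (algebraMap R T (Ideal.Quotient.mk I a)) • y = a • y
    have h1 : algebraMap R T (Ideal.Quotient.mk I a) =
        algebraMap B T (algebraMap A B a) := rfl
    rw [h1, algebraMap_smul, algebraMap_smul]
  let hR : X →ₗ[R] Y := h.extendScalarsOfSurjective Ideal.Quotient.mk_surjective
  haveI : IsLocalizedModule S (hR.restrictScalars A) :=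
    inferInstanceAs (IsLocalizedModule S h)
  haveI hloc : IsLocalizedModule (Algebra.algebraMapSubmonoid R S) hR :=
    IsLocalizedModule.of_restrictScalars S hR
  exact Module.Flat.of_isLocalizedModule T (Algebra.algebraMapSubmonoid R S) hR

/-- **Normal flatness localizes.** -/
theorem isNormallyFlat_localization (M : Type u) [AddCommGroup M] [Module A M]
    (hM : EGA4.IsNormallyFlat I M) :
    EGA4.IsNormallyFlat (I.map (algebraMap A (Localization S))) (LocalizedModule S M) := by
  intro n
  have hQ : ((I.map (algebraMap A (Localization S))) ^ n •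
      (⊤ : Submodule (Localization S) (LocalizedModule S M))) =
      (I ^ n • (⊤ : Submodule A M)).localized' (Localization S) S
        (LocalizedModule.mkLinearMap S M) := by
    rw [Submodule.localized'_smul, Submodule.localized'_top, Ideal.localized'_eq_map, Ideal.map_pow]
  suffices H : ∀ Q : Submodule (Localization S) (LocalizedModule S M),
      Q = (I ^ n • (⊤ : Submodule A M)).localized' (Localization S) S
        (LocalizedModule.mkLinearMap S M) →
      Module.Flat (Localization S ⧸ I.map (algebraMap A (Localization S)))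
        (↥Q ⧸ ((I.map (algebraMap A (Localization S))) • ⊤ :
          Submodule (Localization S) ↥Q)) from H _ hQ
  intro Q hQ'
  subst hQ'
  let ℓ' := (I ^ n • (⊤ : Submodule A M)).toLocalized' (Localization S) S
    (LocalizedModule.mkLinearMap S M)
  have hK : (I • ⊤ : Submodule A ↥(I ^ n • (⊤ : Submodule A M))).localized' (Localization S)
      S ℓ' = ((I.map (algebraMap A (Localization S))) • ⊤) := by
    refine (Submodule.localized'_smul (S := Localization S) (p := S)
      (f := ℓ') (M' := ⊤) I).trans ?_
    rw [Submodule.localized'_top, Ideal.localized'_eq_map]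
  let h₁ := (I • ⊤ : Submodule A ↥(I ^ n • (⊤ : Submodule A M))).toLocalizedQuotient'
    (Localization S) S ℓ'
  let e₁ := Submodule.quotEquivOfEq _ _ hK
  let h := ((e₁.restrictScalars A).toLinearMap) ∘ₗ h₁
  haveI : IsLocalizedModule S h :=
    IsLocalizedModule.of_linearEquiv S h₁ (e₁.restrictScalars A)
  haveI : Module.Flat (A ⧸ I)
      (↥(I ^ n • (⊤ : Submodule A M)) ⧸ (I • ⊤ : Submodule A ↥(I ^ n • (⊤ : Submodule A M)))) :=
    hM n
  exact flat_of_isLocalizedModule I S h

end Transfer

section Main


open Groth.Agent.Lib.GenDepthH5 Groth.Agent.DepthLib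

variable {A : Type u} [CommRing A] [IsNoetherianRing A]

/-- pointwise: along a nilpotent normally flat ideal, `M_q` and `(A/I)_q` have the same dimension
and the same depth. -/
theorem pointwise (I : Ideal A) (hI : IsNilpotent I) (M : Type u) [AddCommGroup M] [Module A M]
    [Module.Finite A M] (hsupp : Module.support A M = Set.univ) (hM : EGA4.IsNormallyFlat I M)
    (q : Ideal A) [hq : q.IsPrime] :
    Module.supportDim (Localization.AtPrime q) (LocalizedModule q.primeCompl M) =
      Module.supportDim (Localization.AtPrime q) (LocalizedModule q.primeCompl (A ⧸ I)) ∧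
    LocCoh.depth (Localization.AtPrime q) (LocalizedModule q.primeCompl M) =
      LocCoh.depth (Localization.AtPrime q) (LocalizedModule q.primeCompl (A ⧸ I)) := by
  haveI := isNoetherianRing_loc q
  haveI := finite_loc q M
  haveI : Nontrivial (LocalizedModule q.primeCompl M) := by
    have h : (⟨q, hq⟩ : PrimeSpectrum A) ∈ Module.support A M := by rw [hsupp]; trivial
    exact Module.mem_support_iff.1 h
  have hJ : IsNilpotent (I.map (algebraMap A (Localization.AtPrime q))) := by
    obtain ⟨k, hk⟩ := hI
    refine ⟨k, ?_⟩
    rw [← Ideal.map_pow, hk, Ideal.zero_eq_bot, Ideal.map_bot]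
    rfl
  have hNF := isNormallyFlat_localization I q.primeCompl M hM
  obtain ⟨h1, h2⟩ := Groth.Agent.NormFlat.main (Localization.AtPrime q)
    (I.map (algebraMap A (Localization.AtPrime q))) (LocalizedModule q.primeCompl M) hJ hNF
  constructor
  · rw [h1, Module.supportDim_eq_of_equiv (locQuotEquiv q I),
      Module.supportDim_quotient_eq_ringKrullDim]
  · rw [h2]
    unfold LocCoh.depth
    exact (idealDepth_congr _ _ (locQuotEquiv q I)).symm


open Groth.Agent.Lib.DoubleLoc_helper6 in
theorem main4734 (n : ℕ) (I : Ideal A) (hI : IsNilpotent I) (M : Type u) [AddCommGroup M]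
    [Module A M] [Module.Finite A M]
    (hsupp : Module.support A M = Set.univ) (hM : EGA4.IsNormallyFlat I M) (p : Ideal A)
    [p.IsPrime] :
    (EGA4.HasSkAt n A M p ↔ EGA4.HasSkAt n A (A ⧸ I) p) ∧
      (Module.supportDim (Localization.AtPrime p) (LocalizedModule p.primeCompl M) ≤
          ((LocCoh.depth (Localization.AtPrime p) (LocalizedModule p.primeCompl M) : ℕ∞) :
            WithBot ℕ∞) + n ↔
        Module.supportDim (Localization.AtPrime p) (LocalizedModule p.primeCompl (A ⧸ I)) ≤
          ((LocCoh.depth (Localization.AtPrime p) (LocalizedModule p.primeCompl (A ⧸ I)) : ℕ∞) :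
            WithBot ℕ∞) + n) := by
  constructor
  · rw [hasSkAt_iff, hasSkAt_iff]
    refine forall_congr' fun q => ?_
    refine forall_congr' fun hq => ?_
    refine imp_congr_right fun _ => ?_
    obtain ⟨h1, h2⟩ := pointwise I hI M hsupp hM q
    unfold SkPt
    rw [h1, h2]
  · obtain ⟨h1, h2⟩ := pointwise I hI M hsupp hM p
    rw [h1, h2]

end Main

end Groth.Agent.Lib.NormFlatLocH5
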