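import Mathlib

/-!
# Regular sequences on the powers of an ideal along which a ring is normally flat (helper3)
-/

namespace Groth.Agent.Lib.NormFlatRegH3

open RingTheory.Sequence Function

universe u v

section General

variable {R : Type u} [CommRing R]

/-- Weak regularity on a subsingleton module is automatic. -/
theorem isWeaklyRegular_of_subsingleton (M : Type v) [AddCommGroup M] [Module R M]
    [Subsingleton M] (rs : List R) : IsWeaklyRegular M rs :=
  ⟨fun _ _ => fun _ _ _ => Subsingleton.elim _ _⟩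

/-- Weak regularity is closed under extensions. -/
theorem isWeaklyRegular_of_exact (rs : List R) :
    ∀ (M' M M'' : Type v) [AddCommGroup M'] [Module R M'] [AddCommGroup M] [Module R M]
      [AddCommGroup M''] [Module R M''] (i : M' →ₗ[R] M) (p : M →ₗ[R] M''),
      Injective i → Exact i p → Surjective p → IsWeaklyRegular M' rs → IsWeaklyRegular M'' rs →
      IsWeaklyRegular M rs := by
  induction rs with
  | nil =>
    intro M' M M'' _ _ _ _ _ _ i p _ _ _ _ _
    exact IsWeaklyRegular.nil R M
  | cons r rs ih =>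
    intro M' M M'' _ _ _ _ _ _ i p hi hex hp h' h''
    rw [isWeaklyRegular_cons_iff] at h' h'' ⊢
    refine ⟨isSMulRegular_of_range_eq_ker hi hex.linearMap_ker_eq.symm h'.1 h''.1, ?_⟩
    refine ih (QuotSMulTop r M') (QuotSMulTop r M) (QuotSMulTop r M'')
      (QuotSMulTop.map r i) (QuotSMulTop.map r p) ?_ (QuotSMulTop.map_exact r hex hp)
      (QuotSMulTop.map_surjective r hp) h'.2 h''.2
    have h0 : Exact (0 : M' →ₗ[R] M') i := (LinearMap.exact_zero_iff_injective M' i).2 hi
    have h1 := QuotSMulTop.map_first_exact_on_four_term_exact_of_isSMulRegular_last h0 hex h''.1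
    rw [map_zero] at h1
    exact (LinearMap.exact_zero_iff_injective _ _).1 h1

theorem map_smul_top_of_surjective {N N' : Type*} [AddCommGroup N] [Module R N] [AddCommGroup N']
    [Module R N'] (I : Ideal R) (f : N →ₗ[R] N') (hf : Surjective f) :
    Submodule.map f (I • (⊤ : Submodule R N)) = I • (⊤ : Submodule R N') := by
  rw [Submodule.map_smul'', Submodule.map_top, LinearMap.range_eq_top.2 hf]

/-- If a sequence is weakly regular on all `N / J^n N` with `J` in the Jacobson radical and `N`
finite over a Noetherian ring, it is weakly regular on `N`. -/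
theorem isWeaklyRegular_of_forall_quot [IsNoetherianRing R] (J : Ideal R)
    (hJ : J ≤ Ideal.jacobson ⊥) (N : Type v) [AddCommGroup N] [Module R N] [Module.Finite R N]
    (fs : List R)
    (h : ∀ n : ℕ, IsWeaklyRegular (N ⧸ (J ^ n • (⊤ : Submodule R N))) fs) :
    IsWeaklyRegular N fs := by
  refine ⟨fun i hi => ?_⟩
  set I := Ideal.ofList (fs.take i) with hI
  rw [isSMulRegular_quotient_iff_mem_of_smul_mem]
  intro x hx
  have hall : ∀ n : ℕ, x ∈ J ^ n • (⊤ : Submodule R N) ⊔ I • (⊤ : Submodule R N) := by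
    intro n
    have hn := (h n).regular_mod_prev i hi
    rw [isSMulRegular_quotient_iff_mem_of_smul_mem] at hn
    have hmap := map_smul_top_of_surjective I (J ^ n • (⊤ : Submodule R N)).mkQ
      (Submodule.mkQ_surjective _)
    have h1 : fs[i] • (J ^ n • (⊤ : Submodule R N)).mkQ x ∈
        I • (⊤ : Submodule R (N ⧸ (J ^ n • (⊤ : Submodule R N)))) := by
      rw [← hmap, ← map_smul]
      exact Submodule.mem_map_of_mem hx
    have h2 := hn _ h1
    rw [← hmap] at h2
    have h3 : x ∈ Submodule.comap (J ^ n • (⊤ : Submodule R N)).mkQ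
        (Submodule.map (J ^ n • (⊤ : Submodule R N)).mkQ (I • (⊤ : Submodule R N))) := h2
    rwa [Submodule.comap_map_mkQ] at h3
  have hkrull := Ideal.iInf_pow_smul_eq_bot_of_le_jacobson (M := N ⧸ (I • (⊤ : Submodule R N))) J hJ
  have h4 : (I • (⊤ : Submodule R N)).mkQ x ∈
      (⨅ n : ℕ, J ^ n • ⊤ : Submodule R (N ⧸ (I • (⊤ : Submodule R N)))) := by
    rw [Submodule.mem_iInf]
    intro n
    have h5 := Submodule.mem_map_of_mem (f := (I • (⊤ : Submodule R N)).mkQ) (hall n)
    rw [Submodule.map_sup, Submodule.mkQ_map_self, sup_bot_eq,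
      map_smul_top_of_surjective _ _ (Submodule.mkQ_surjective _)] at h5
    exact h5
  rw [hkrull, Submodule.mem_bot] at h4
  exact (Submodule.Quotient.mk_eq_zero _).1 h4

/-- A flat module over `R/J` inherits weak regularity from `R/J`. -/
theorem isWeaklyRegular_of_flat_quot (J : Ideal R) (G : Type v) [AddCommGroup G] [Module R G]
    [Module (R ⧸ J) G] [IsScalarTower R (R ⧸ J) G] [Module.Flat (R ⧸ J) G] (fs : List R)
    (hreg : IsWeaklyRegular (R ⧸ J) fs) : IsWeaklyRegular G fs := by
  have h0 : IsWeaklyRegular (R ⧸ J) (fs.map (algebraMap R (R ⧸ J))) :=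
    (isWeaklyRegular_map_algebraMap_iff (S := R ⧸ J) (M := R ⧸ J) fs).2 hreg
  have h1 := h0.isWeaklyRegular_lTensor (M₂ := G)
  have h2 := (LinearEquiv.isWeaklyRegular_congr (TensorProduct.rid (R ⧸ J) G) _).1 h1
  exact (isWeaklyRegular_map_algebraMap_iff (S := R ⧸ J) (M := G) fs).1 h2

end General

section Powers

variable {A : Type u} [CommRing A] (J : Ideal A)

theorem mem_pow_smul_top_iff (m k : ℕ) (x : ↥(J ^ k)) :
    x ∈ J ^ m • (⊤ : Submodule A ↥(J ^ k)) ↔ (x : A) ∈ J ^ (m + k) := by
  rw [Submodule.mem_smul_top_iff, smul_eq_mul, pow_add]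

theorem mem_smul_top_iff' (k : ℕ) (x : ↥(J ^ k)) :
    x ∈ J • (⊤ : Submodule A ↥(J ^ k)) ↔ (x : A) ∈ J ^ (k + 1) := by
  rw [Submodule.mem_smul_top_iff, smul_eq_mul, pow_succ']

theorem quot_pow_isWeaklyRegular (fs : List A)
    (hG : ∀ k, IsWeaklyRegular (↥(J ^ k) ⧸ (J • (⊤ : Submodule A ↥(J ^ k)))) fs) :
    ∀ n k, IsWeaklyRegular (↥(J ^ k) ⧸ (J ^ n • (⊤ : Submodule A ↥(J ^ k)))) fs := by
  intro n
  induction n with
  | zero =>
    intro k
    have : Subsingleton (↥(J ^ k) ⧸ (J ^ 0 • (⊤ : Submodule A ↥(J ^ k)))) := by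
      rw [pow_zero, Ideal.one_eq_top, Submodule.top_smul]
      exact Submodule.Quotient.subsingleton_iff.2 rfl
    exact isWeaklyRegular_of_subsingleton _ fs
  | succ n ih =>
    intro k
    have hle : J ^ (k + 1) ≤ J ^ k := Ideal.pow_le_pow_right (Nat.le_succ k)
    set ι : ↥(J ^ (k + 1)) →ₗ[A] ↥(J ^ k) := Submodule.inclusion hle with hι
    have hιcoe : ∀ x : ↥(J ^ (k + 1)), ((ι x : ↥(J ^ k)) : A) = (x : A) := fun x => rfl
    have h1 : J ^ n • (⊤ : Submodule A ↥(J ^ (k + 1))) ≤
        Submodule.comap ι (J ^ (n + 1) • (⊤ : Submodule A ↥(J ^ k))) := by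
      intro x hx
      rw [Submodule.mem_comap, mem_pow_smul_top_iff, hιcoe]
      rw [mem_pow_smul_top_iff] at hx
      have : n + 1 + k = n + (k + 1) := by ring
      rw [this]
      exact hx
    have h2 : J ^ (n + 1) • (⊤ : Submodule A ↥(J ^ k)) ≤
        Submodule.comap (LinearMap.id : ↥(J ^ k) →ₗ[A] ↥(J ^ k))
          (J • (⊤ : Submodule A ↥(J ^ k))) := by
      intro x hx
      rw [Submodule.mem_comap, LinearMap.id_apply, mem_smul_top_iff']
      rw [mem_pow_smul_top_iff] at hx
      exact Ideal.pow_le_pow_right (by omega) hx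
    set i := Submodule.mapQ _ _ ι h1 with hi
    set p := Submodule.mapQ _ _ (LinearMap.id : ↥(J ^ k) →ₗ[A] ↥(J ^ k)) h2 with hp
    refine isWeaklyRegular_of_exact fs _ _ _ i p ?_ ?_ ?_ (ih (k + 1)) (hG k)
    · rw [injective_iff_map_eq_zero]
      intro y hy
      induction y using Submodule.Quotient.induction_on with
      | H x =>
        rw [hi, Submodule.mapQ_apply, Submodule.Quotient.mk_eq_zero, mem_pow_smul_top_iff,
          hιcoe] at hy
        rw [Submodule.Quotient.mk_eq_zero, mem_pow_smul_top_iff]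
        have : n + 1 + k = n + (k + 1) := by ring
        rw [← this]
        exact hy
    · intro y
      induction y using Submodule.Quotient.induction_on with
      | H x =>
        rw [hp, Submodule.mapQ_apply, LinearMap.id_apply, Submodule.Quotient.mk_eq_zero,
          mem_smul_top_iff']
        constructor
        · intro hx
          refine ⟨Submodule.Quotient.mk ⟨(x : A), hx⟩, ?_⟩
          rw [hi, Submodule.mapQ_apply]
          rfl
        · rintro ⟨y', hy'⟩
          induction y' using Submodule.Quotient.induction_on with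
          | H x' =>
            rw [hi, Submodule.mapQ_apply, Submodule.Quotient.eq, mem_pow_smul_top_iff] at hy'
            have h3 : ((ι x' - x : ↥(J ^ k)) : A) ∈ J ^ (k + 1) :=
              Ideal.pow_le_pow_right (by omega) hy'
            have h4 : ((ι x' : ↥(J ^ k)) : A) ∈ J ^ (k + 1) := by
              rw [hιcoe]
              exact x'.2
            have h5 : (x : A) = ((ι x' : ↥(J ^ k)) : A) - ((ι x' - x : ↥(J ^ k)) : A) := by
              rw [Submodule.coe_sub]
              ring
            rw [h5]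
            exact Ideal.sub_mem _ h4 h3
    · intro y
      induction y using Submodule.Quotient.induction_on with
      | H x =>
        exact ⟨Submodule.Quotient.mk x, by rw [hp, Submodule.mapQ_apply]; rfl⟩

theorem main [IsLocalRing A] [IsNoetherianRing A] (hJ : J ≠ ⊤)
    (hflat : ∀ k : ℕ, Module.Flat (A ⧸ J) (↥(J ^ k) ⧸ (J • (⊤ : Submodule A ↥(J ^ k)))))
    (fs : List A) (hreg : IsWeaklyRegular (A ⧸ J) fs) (k : ℕ) :
    IsWeaklyRegular (↥(J ^ k)) fs ∧
      IsWeaklyRegular (↥(J ^ k) ⧸ (J • (⊤ : Submodule A ↥(J ^ k)))) fs := by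
  have hG : ∀ k, IsWeaklyRegular (↥(J ^ k) ⧸ (J • (⊤ : Submodule A ↥(J ^ k)))) fs := by
    intro k
    haveI := hflat k
    exact isWeaklyRegular_of_flat_quot J _ fs hreg
  refine ⟨?_, hG k⟩
  have hJjac : J ≤ Ideal.jacobson ⊥ :=
    (IsLocalRing.le_maximalIdeal hJ).trans (IsLocalRing.maximalIdeal_le_jacobson _)
  exact isWeaklyRegular_of_forall_quot J hJjac _ fs (fun n => quot_pow_isWeaklyRegular J fs hG n k)

end Powers

end Groth.Agent.Lib.NormFlatRegH3
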