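import Mathlib
import Groth.Prelude
import Groth.Agent.Lib.DeltaCok3_helper3
import Groth.Agent.Lib.NormFieldFT_helper4
import Groth.Agent.Lib.PushEdgeNat_helper9
import Groth.Agent.Lib.Snap1_helper9
import Groth.Agent.Lib.HHVan_helper9
import Groth.Agent.Lib.CohDev11_helper8
import Groth.Agent.Lib.CohKer_helper8
import Groth.Agent.Lib.Snap2_helper9

/-!
# The normalization of a genus-zero curve has genus zero (helper9)
APPEND-ONLY once landed.
-/

set_option autoImplicit false
universe u
open CategoryTheory CategoryTheory.Limits AlgebraicGeometry TopologicalSpace Opposite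

namespace NormGenus0

open Groth.Agent.Lib.GVanH2

/-- a closed subset of a scheme all of whose points are closed has dimension `≤ 0` -/
theorem dimC_lt_one_of_closed_points {X : Scheme.{u}} (Z : Closeds X)
    (h : ∀ x ∈ (Z : Set X), IsClosed ({x} : Set X)) :
    dimC (X := X.toTopCat) Z < ((1 : ℕ) : WithBot ℕ∞) := by
  have h0 : dimC (X := X.toTopCat) Z ≤ 0 := by
    unfold dimC
    rw [Order.krullDim_nonpos_iff_forall_isMax]
    intro T T' hTT'
    -- both are singletons
    have key : ∀ S : {T : IrreducibleCloseds X // (T : Set X) ⊆ (Z : Set X)},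
        ∃ ξ : X, (S.1 : Set X) = {ξ} := by
      intro S
      let ξ := S.1.isIrreducible'.genericPoint
      have hξ : closure ({ξ} : Set X) = (S.1 : Set X) := by
        have := S.1.isIrreducible'.isGenericPoint_genericPoint_closure
        rw [S.1.isClosed'.closure_eq] at this
        exact this.def
      have hξmem : ξ ∈ (S.1 : Set X) := hξ ▸ subset_closure rfl
      refine ⟨ξ, ?_⟩
      rw [← hξ, (h ξ (S.2 hξmem)).closure_eq]
    obtain ⟨a, ha⟩ := key T
    obtain ⟨b, hb⟩ := key T'
    have hle : T.1.carrier ⊆ T'.1.carrier := hTT'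
    have ha' : T.1.carrier = {a} := ha
    have hb' : T'.1.carrier = {b} := hb
    rw [ha', hb', Set.singleton_subset_iff, Set.mem_singleton_iff] at hle
    show T'.1.carrier ⊆ T.1.carrier
    rw [ha', hb', hle]
  refine lt_of_le_of_lt h0 ?_
  norm_num

theorem main (k : Type u) [Field k] (X : Scheme.{u}) [X.Over (Spec (CommRingCat.of k))]
    [IsIntegral X] [IsProper (X ↘ (Spec (CommRingCat.of k)))]
    [QuasiCompact (X.fromSpecStalk (genericPoint X))]
    [QuasiSeparated (X.fromSpecStalk (genericPoint X))]
    (hdim : topologicalKrullDim X = 1)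
    (h1 : Subsingleton (Coh.HH X (Coh.structureModule X) 1)) :
    Subsingleton (Coh.HH (Curv2.normalization X) (Coh.structureModule (Curv2.normalization X)) 1) := by
  haveI hfin : IsFinite (Curv2.normalizationι X) :=
    Groth.Agent.Lib.NormFieldFTH4.isFinite_normalizationι k X
  haveI : IsLocallyNoetherian X :=
    LocallyOfFiniteType.isLocallyNoetherian (X ↘ Spec (CommRingCat.of k))
  haveI : CompactSpace X :=
    QuasiCompact.compactSpace_of_compactSpace (X ↘ Spec (CommRingCat.of k))
  haveI hNoeth : AlgebraicGeometry.IsNoetherian X := {}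
  set ν := Curv2.normalizationι X with hν
  set A := (Scheme.Modules.pushforward ν).obj (Coh.structureModule (Curv2.normalization X)) with hA
  haveI hmono : Mono (ClSub.unitToPush ν) := Groth.Agent.Lib.DeltaSepH3.mono_unitToPush X
  have hAcoh : Coh.IsCoh A :=
    CohDevH8.isCoh_pushforward_of_isFinite ν (CohDevH8.isCoh_structureModule _)
  have hQcoh : Coh.IsCoh (cokernel (ClSub.unitToPush ν)) :=
    CohKerH8.isCoh_cokernel (CohDevH8.isCoh_structureModule X) hAcoh _
  -- the support of the cokernel consists of closed points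
  have hcl : IsClosed (CohB1.support (cokernel (ClSub.unitToPush ν))) :=
    @SuppFT.isClosed_support X (cokernel (ClSub.unitToPush ν)) hQcoh.2
  have hpts : ∀ x ∈ CohB1.support (cokernel (ClSub.unitToPush ν)), IsClosed ({x} : Set X) := by
    intro x hx
    by_contra hncl
    apply hx
    have hxg := Groth.Agent.Lib.DeltaSepH3.eq_genericPoint_of_not_isClosed X hdim x hncl
    have hF : IsField (X.presheaf.stalk x) := by
      rw [hxg]
      exact Field.toIsField X.functionField
    have h2 := Groth.Agent.Lib.DeltaSepH3.length_stalk_cokernel X x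
    rw [Groth.Agent.Lib.DeltaSepH3.deltaInv_of_isField _ hF] at h2
    exact Module.length_eq_zero_iff.mp h2
  have hQ1 : Subsingleton (Coh.HH X (cokernel (ClSub.unitToPush ν)) 1) :=
    Snap9.subsingleton_HH_of_dimC 1 ⟨_, hcl⟩ (dimC_lt_one_of_closed_points ⟨_, hcl⟩ hpts) _
      (le_refl _) 1 le_rfl
  have hS := Snap9.shortExact_cokernel (ClSub.unitToPush ν)
  have hA1 : Subsingleton (Coh.HH X A 1) :=
    Groth.Agent.HHVan.subsingleton_mid _ hS 1 h1 hQ1
  -- transfer to the normalization
  haveI : (Coh.structureModule (Curv2.normalization X)).IsQuasicoherent :=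
    (CohDevH8.isCoh_structureModule _).1
  have hbij := Groth.Agent.Lib.PushEdge2_helper7.pushEdge_bijective_of_isAffineHom ν
    (Coh.structureModule (Curv2.normalization X)) 1
  exact hbij.2.subsingleton

end NormGenus0
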