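import Mathlib
import Groth.Agent.Lib.IntegralHeight_helper5

/-!
# Image of `V(b)` under an integral extension of an integrally closed domain (helper6)
-/

set_option autoImplicit false
universe u
open Polynomial

namespace Groth.Agent.Lib.NormImage

/-- `N_{L/K}(β) = ((-1)^d c₀)^e` where `c₀` is the constant coefficient of the minimal polynomial. -/
theorem norm_eq_pow (K L : Type*) [Field K] [Field L] [Algebra K L] [FiniteDimensional K L]
    (β : L) : ∃ e : ℕ, 1 ≤ e ∧ ∃ d : ℕ,
      Algebra.norm K β = ((-1) ^ d * (minpoly K β).coeff 0) ^ e := by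
  have hβ : IsIntegral K β := Algebra.IsIntegral.isIntegral β
  let pb := IntermediateField.adjoin.powerBasis hβ
  refine ⟨Module.finrank (IntermediateField.adjoin K {β}) L, Module.finrank_pos, pb.dim, ?_⟩
  have h1 : Algebra.norm K pb.gen = (-1) ^ pb.dim * coeff (minpoly K pb.gen) 0 :=
    Algebra.PowerBasis.norm_gen_eq_coeff_zero_minpoly pb
  have hgen : pb.gen = IntermediateField.AdjoinSimple.gen K β :=
    IntermediateField.adjoin.powerBasis_gen hβ
  have hmin : minpoly K pb.gen = minpoly K β := by
    rw [hgen]; exact IntermediateField.minpoly_gen K β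
  rw [hmin] at h1
  have h2 : Algebra.norm K (Algebra.norm (IntermediateField.adjoin K {β}) β) = Algebra.norm K β :=
    Algebra.norm_norm
  have h3 : Algebra.norm (IntermediateField.adjoin K {β}) β =
      pb.gen ^ Module.finrank (IntermediateField.adjoin K {β}) L := by
    have hb : algebraMap (IntermediateField.adjoin K {β}) L pb.gen = β := by
      rw [hgen]; exact IntermediateField.AdjoinSimple.algebraMap_gen K β
    have h4 : Algebra.norm (IntermediateField.adjoin K {β})
        (algebraMap (IntermediateField.adjoin K {β}) L pb.gen) =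
        pb.gen ^ Module.finrank (IntermediateField.adjoin K {β}) L := Algebra.norm_algebraMap _
    rw [hb] at h4
    exact h4
  rw [← h2, h3, map_pow, h1]

section key

variable {A B : Type u} [CommRing A] [IsDomain A] [CommRing B] [IsDomain B] [Algebra A B]
  [Algebra.IsIntegral A B] [IsIntegrallyClosed A]

theorem algebraMap_coeff_zero_mem (b : B) (q : Ideal B) (hb : b ∈ q) :
    algebraMap A B ((minpoly A b).coeff 0) ∈ q := by
  have h0 : aeval b (minpoly A b) = 0 := minpoly.aeval A b
  have hdec : (minpoly A b).divX * X + C ((minpoly A b).coeff 0) = minpoly A b :=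
    Polynomial.divX_mul_X_add _
  rw [← hdec, map_add, map_mul, aeval_X, aeval_C] at h0
  have : algebraMap A B ((minpoly A b).coeff 0) = -(aeval b (minpoly A b).divX * b) := by
    rw [eq_neg_iff_add_eq_zero, add_comm]; exact h0
  rw [this]
  exact q.neg_mem (q.mul_mem_left _ hb)

theorem exists_prime_over (hinj : Function.Injective (algebraMap A B)) (b : B)
    (p : Ideal A) [p.IsPrime] (hc : (minpoly A b).coeff 0 ∈ p) :
    ∃ q : Ideal B, q.IsPrime ∧ b ∈ q ∧ q.comap (algebraMap A B) = p := by
  haveI : Module.IsTorsionFree A B := by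
    haveI : FaithfulSMul A B := (faithfulSMul_iff_algebraMap_injective A B).2 hinj
    infer_instance
  have hbint : IsIntegral A b := Algebra.IsIntegral.isIntegral b
  obtain ⟨f, hf⟩ : ∃ f : A[X], f = minpoly A b := ⟨_, rfl⟩
  rw [← hf] at hc
  have hroot : eval₂ (algebraMap A B) b f = 0 := by
    rw [hf, ← aeval_def]; exact minpoly.aeval A b
  let φ : AdjoinRoot f →+* B := AdjoinRoot.lift (algebraMap A B) b hroot
  have hφmk : ∀ g : A[X], φ (AdjoinRoot.mk f g) = aeval b g := by
    intro g
    rw [aeval_def]; exact AdjoinRoot.lift_mk hroot g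
  have hφinj : Function.Injective φ := by
    rw [injective_iff_map_eq_zero]
    intro x hx
    obtain ⟨g, rfl⟩ := AdjoinRoot.mk_surjective x
    rw [hφmk] at hx
    have hdvd : minpoly A b ∣ g := minpoly.isIntegrallyClosed_dvd hbint hx
    rw [← hf] at hdvd
    exact AdjoinRoot.mk_eq_zero.2 hdvd
  -- the point `X ↦ 0` of `A[X]/(f)` over `A/p`
  have hroot0 : eval₂ (Ideal.Quotient.mk p) 0 f = 0 := by
    rw [eval₂_at_zero]
    exact Ideal.Quotient.eq_zero_iff_mem.2 hc
  let θ : AdjoinRoot f →+* A ⧸ p := AdjoinRoot.lift (Ideal.Quotient.mk p) 0 hroot0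
  letI : Algebra (AdjoinRoot f) B := φ.toAlgebra
  haveI : IsScalarTower A (AdjoinRoot f) B := IsScalarTower.of_algebraMap_eq (fun a => by
    show algebraMap A B a = φ (AdjoinRoot.of f a)
    exact (AdjoinRoot.lift_of hroot).symm)
  haveI : Algebra.IsIntegral (AdjoinRoot f) B :=
    ⟨fun x => (Algebra.IsIntegral.isIntegral (R := A) x).tower_top⟩
  haveI hθprime : (RingHom.ker θ).IsPrime := RingHom.ker_isPrime θ
  have hker : RingHom.ker (algebraMap (AdjoinRoot f) B) ≤ RingHom.ker θ := by
    intro x hx
    have : x = 0 := hφinj (by rw [map_zero]; exact hx)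
    rw [this]; exact Ideal.zero_mem _
  obtain ⟨Q, hQprime, hQ⟩ :=
    Ideal.exists_ideal_over_prime_of_isIntegral_of_isDomain (S := B) (RingHom.ker θ) hker
  refine ⟨Q, hQprime, ?_, ?_⟩
  · have hrootmem : AdjoinRoot.root f ∈ RingHom.ker θ := by
      rw [RingHom.mem_ker]; exact AdjoinRoot.lift_root hroot0
    rw [← hQ, Ideal.mem_comap] at hrootmem
    have : algebraMap (AdjoinRoot f) B (AdjoinRoot.root f) = b := AdjoinRoot.lift_root hroot
    rwa [this] at hrootmem
  · ext a
    rw [Ideal.mem_comap]
    have h1 : algebraMap A B a = algebraMap (AdjoinRoot f) B (AdjoinRoot.of f a) :=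
      (AdjoinRoot.lift_of hroot).symm
    rw [h1, ← Ideal.mem_comap, hQ, RingHom.mem_ker]
    have h2 : θ (AdjoinRoot.of f a) = Ideal.Quotient.mk p a := AdjoinRoot.lift_of hroot0
    rw [h2, Ideal.Quotient.eq_zero_iff_mem]

end key

/-- `dim V(I) = dim R/I`. -/
theorem topologicalKrullDim_zeroLocus {R : Type u} [CommRing R] (I : Ideal R) :
    topologicalKrullDim ↥(PrimeSpectrum.zeroLocus (I : Set R)) = ringKrullDim (R ⧸ I) := by
  have hemb := PrimeSpectrum.isClosedEmbedding_comap_of_surjective (R ⧸ I) (Ideal.Quotient.mk I)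
    Ideal.Quotient.mk_surjective
  have hrange : Set.range (PrimeSpectrum.comap (Ideal.Quotient.mk I)) =
      PrimeSpectrum.zeroLocus (I : Set R) := by
    rw [range_comap_of_surjective _ _ Ideal.Quotient.mk_surjective, Ideal.mk_ker]
  let e : PrimeSpectrum (R ⧸ I) ≃ₜ ↥(PrimeSpectrum.zeroLocus (I : Set R)) :=
    hemb.isEmbedding.toHomeomorph.trans (Homeomorph.setCongr hrange)
  rw [← PrimeSpectrum.topologicalKrullDim_eq_ringKrullDim]
  exact (IsHomeomorph.topologicalKrullDim_eq e e.isHomeomorph).symm

end Groth.Agent.Lib.NormImage
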