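import Mathlib

/-!
# Length of `A ⧸ (products)` is bounded by the sum of lengths of `A ⧸ (factors)`

Elementary filtration argument:
`length A/(J + ab) ≤ length A/(J + a) + length A/(J + b)`.
-/

namespace Groth.Agent.Lib.NormLen

variable {A : Type*} [CommRing A]

/-- `length A/(J + ab) ≤ length A/(J + a) + length A/(J + b)`. -/
theorem length_quot_mul_le (J : Ideal A) (a b : A) :
    Module.length A (A ⧸ (J ⊔ Ideal.span {a * b})) ≤
      Module.length A (A ⧸ (J ⊔ Ideal.span {a})) +
        Module.length A (A ⧸ (J ⊔ Ideal.span {b})) := by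
  have h12 : J ⊔ Ideal.span {a * b} ≤ J ⊔ Ideal.span {a} :=
    sup_le le_sup_left ((Ideal.span_singleton_le_iff_mem _).2
      (Ideal.mul_mem_right _ _ (Ideal.mem_sup_right (Ideal.mem_span_singleton_self a))))
  have hφ : J ⊔ Ideal.span {b} ≤
      LinearMap.ker ((Submodule.mkQ (J ⊔ Ideal.span {a * b})).comp (LinearMap.mulLeft A a)) := by
    intro x hx
    rw [LinearMap.mem_ker, LinearMap.comp_apply, Submodule.mkQ_apply,
      Submodule.Quotient.mk_eq_zero, LinearMap.mulLeft_apply]
    obtain ⟨j, hj, y, hy, rfl⟩ := Submodule.mem_sup.1 hx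
    obtain ⟨c, rfl⟩ := Ideal.mem_span_singleton'.1 hy
    rw [mul_add]
    exact add_mem (Ideal.mem_sup_left (Ideal.mul_mem_left _ _ hj))
      (Ideal.mem_sup_right (Ideal.mem_span_singleton'.2 ⟨c, by ring⟩))
  let φ : (A ⧸ (J ⊔ Ideal.span {b})) →ₗ[A] (A ⧸ (J ⊔ Ideal.span {a * b})) :=
    Submodule.liftQ (J ⊔ Ideal.span {b})
      ((Submodule.mkQ (J ⊔ Ideal.span {a * b})).comp (LinearMap.mulLeft A a)) hφ
  let K : Submodule A (A ⧸ (J ⊔ Ideal.span {a * b})) :=
    Submodule.map (Submodule.mkQ (J ⊔ Ideal.span {a * b})) (J ⊔ Ideal.span {a})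
  have hK : K ≤ LinearMap.range φ := by
    rintro _ ⟨x, hx, rfl⟩
    obtain ⟨j, hj, y, hy, rfl⟩ := Submodule.mem_sup.1 hx
    obtain ⟨c, rfl⟩ := Ideal.mem_span_singleton'.1 hy
    refine ⟨Submodule.Quotient.mk c, ?_⟩
    change (Submodule.mkQ (J ⊔ Ideal.span {a * b})) (a * c) = _
    rw [Submodule.mkQ_apply, Submodule.mkQ_apply, Submodule.Quotient.eq]
    have : a * c - (j + c * a) = -j := by ring
    rw [this]
    exact neg_mem (Ideal.mem_sup_left hj)
  have h1 : Module.length A (A ⧸ (J ⊔ Ideal.span {a * b})) =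
      Module.length A K + Module.length A ((A ⧸ (J ⊔ Ideal.span {a * b})) ⧸ K) :=
    Module.length_eq_add_of_exact K.subtype K.mkQ K.injective_subtype K.mkQ_surjective
      (LinearMap.exact_subtype_mkQ K)
  have h2 : Module.length A ((A ⧸ (J ⊔ Ideal.span {a * b})) ⧸ K) =
      Module.length A (A ⧸ (J ⊔ Ideal.span {a})) :=
    (Submodule.quotientQuotientEquivQuotient _ _ h12).length_eq
  have h3 : Module.length A K ≤ Module.length A (A ⧸ (J ⊔ Ideal.span {b})) :=
    calc Module.length A K ≤ Module.length A (LinearMap.range φ) :=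
          Module.length_le_of_injective (Submodule.inclusion hK) (Submodule.inclusion_injective hK)
      _ ≤ Module.length A (A ⧸ (J ⊔ Ideal.span {b})) :=
          Module.length_le_of_surjective φ.rangeRestrict φ.surjective_rangeRestrict
  rw [h1, h2, add_comm (Module.length A K)]
  gcongr

/-- `length A/(J + ∏ f σ) ≤ ∑ length A/(J + f σ)`. -/
theorem length_quot_prod_le {κ : Type*} (J : Ideal A) (f : κ → A) (S : Finset κ) :
    Module.length A (A ⧸ (J ⊔ Ideal.span {∏ σ ∈ S, f σ})) ≤
      ∑ σ ∈ S, Module.length A (A ⧸ (J ⊔ Ideal.span {f σ})) := by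
  classical
  induction S using Finset.induction_on with
  | empty =>
    have htop : J ⊔ Ideal.span {∏ σ ∈ (∅ : Finset κ), f σ} = ⊤ := by
      rw [Finset.prod_empty, Ideal.span_singleton_one, sup_top_eq]
    have hs : Subsingleton (A ⧸ (J ⊔ Ideal.span {∏ σ ∈ (∅ : Finset κ), f σ})) :=
      Submodule.Quotient.subsingleton_iff.2 htop
    rw [Finset.sum_empty, nonpos_iff_eq_zero, Module.length_eq_zero_iff]
    exact hs
  | insert a S ha ih =>
    rw [Finset.prod_insert ha, Finset.sum_insert ha]
    refine (length_quot_mul_le J _ _).trans ?_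
    gcongr

theorem span_range_update {ι : Type*} [DecidableEq ι] (h : ι → A) (i₀ : ι) (x : A) :
    Ideal.span (Set.range (Function.update h i₀ x)) =
      Ideal.span (h '' {i₀}ᶜ) ⊔ Ideal.span {x} := by
  rw [← Ideal.span_union]
  congr 1
  ext y
  constructor
  · rintro ⟨i, rfl⟩
    by_cases hi : i = i₀
    · subst hi
      right
      simp
    · left
      exact ⟨i, hi, by rw [Function.update_of_ne hi]⟩
  · rintro (⟨i, hi, rfl⟩ | rfl)
    · exact ⟨i, by rw [Function.update_of_ne hi]⟩
    · exact ⟨i₀, by simp⟩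

/-- Multi-coordinate bound. -/
theorem length_le_aux {ι κ : Type*} [Fintype κ] [DecidableEq ι] (f : ι → κ → A) (c : ℕ∞)
    (T : Finset ι) :
    ∀ h : ι → A, (∀ i ∈ T, h i = ∏ σ, f i σ) →
      (∀ h' : ι → A, (∀ i ∈ T, ∃ σ, h' i = f i σ) → (∀ i, i ∉ T → h' i = h i) →
        Module.length A (A ⧸ Ideal.span (Set.range h')) ≤ c) →
      Module.length A (A ⧸ Ideal.span (Set.range h)) ≤ (Fintype.card κ) ^ T.card * c := by
  induction T using Finset.induction_on with
  | empty =>
    intro h _ H
    simpa using H h (by simp) (by simp)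
  | insert i₀ T hi₀ ih =>
    intro h hP H
    have hspan : Ideal.span (Set.range h) =
        Ideal.span (h '' {i₀}ᶜ) ⊔ Ideal.span {∏ σ, f i₀ σ} := by
      rw [← span_range_update h i₀, ← hP i₀ (Finset.mem_insert_self _ _),
        Function.update_eq_self]
    rw [hspan]
    refine (length_quot_prod_le _ (f i₀) Finset.univ).trans ?_
    have key : ∀ σ ∈ (Finset.univ : Finset κ),
        Module.length A (A ⧸ (Ideal.span (h '' {i₀}ᶜ) ⊔ Ideal.span {f i₀ σ})) ≤
          (Fintype.card κ) ^ T.card * c := by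
      intro σ _
      rw [← span_range_update h i₀]
      apply ih
      · intro i hi
        have hne : i ≠ i₀ := fun e => hi₀ (e ▸ hi)
        rw [Function.update_of_ne hne]
        exact hP i (Finset.mem_insert_of_mem hi)
      · intro h' h1 h2
        apply H
        · intro i hi
          rcases Finset.mem_insert.1 hi with rfl | hi
          · exact ⟨σ, by rw [h2 _ hi₀, Function.update_self]⟩
          · exact h1 i hi
        · intro i hi
          have hne : i ≠ i₀ := fun e => hi (e ▸ Finset.mem_insert_self _ _)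
          have hnT : i ∉ T := fun e => hi (Finset.mem_insert_of_mem e)
          rw [h2 i hnT, Function.update_of_ne hne]
    refine (Finset.sum_le_sum key).trans ?_
    rw [Finset.sum_const, Finset.card_univ, Finset.card_insert_of_notMem hi₀, pow_succ,
      nsmul_eq_mul]
    exact le_of_eq (by ring)

/-- The norm bound. -/
theorem length_quot_norms_le (A : Type*) [CommRing A] [IsLocalRing A]
    (G : Type*) [Group G] [Fintype G] [MulSemiringAction G A]
    (n : ℕ) (u : Fin n → A)
    (hu : ∀ τ : Fin n → G,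
      Ideal.span (Set.range fun i => τ i • u i) = IsLocalRing.maximalIdeal A) :
    Module.length A (A ⧸ Ideal.span (Set.range fun i => ∏ σ : G, σ • u i)) ≤
      (Fintype.card G ^ n : ℕ) := by
  classical
  have key := length_le_aux (A := A) (fun (i : Fin n) (σ : G) => σ • u i) 1 Finset.univ
    (fun i => ∏ σ : G, σ • u i) (fun i _ => rfl) ?_
  · simpa using key
  · intro h' h1 _
    choose τ hτ using fun i => h1 i (Finset.mem_univ i)
    have : h' = fun i => τ i • u i := funext hτ
    rw [this, hu τ]
    have : IsSimpleModule A (A ⧸ IsLocalRing.maximalIdeal A) :=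
      isSimpleModule_iff_isCoatom.2 (Ideal.isMaximal_def.1 inferInstance)
    rw [Module.length_eq_one]

end Groth.Agent.Lib.NormLen
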