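import Mathlib

set_option autoImplicit false
set_option linter.style.haveILetI false
universe u
open Polynomial

namespace Groth.Agent.Lib.NormPt


/-- Transitivity of a finite group on ring homomorphisms to a domain which agree on invariants
(the "generic element" trick). -/
theorem exists_smul_of_eq_on_invariants {G R W : Type*} [Group G] [Fintype G] [CommRing R]
    [MulSemiringAction G R] [CommRing W] [IsDomain W] (ψ ψ₀ : R →+* W)
    (H : ∀ c : R, (∀ g : G, g • c = c) → ψ c = ψ₀ c) :
    ∃ g : G, ∀ c : R, ψ c = ψ₀ (g • c) := by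
  classical
  by_contra hne
  push Not at hne
  choose c hc using hne
  let e : G ≃ Fin (Fintype.card G) := Fintype.equivFin G
  let P : R[X] := ∑ g : G, monomial (e g : ℕ) (c g)
  have hPcoeff : ∀ g : G, P.coeff (e g) = c g := by
    intro g
    simp only [P, finsetSum_coeff, coeff_monomial]
    rw [Finset.sum_eq_single g]
    · simp
    · intro g' _ hg'
      rw [if_neg]
      intro h
      exact hg' (e.injective (Fin.ext h))
    · intro h; exact absurd (Finset.mem_univ g) h
  let Q : Polynomial (Polynomial R) := MulSemiringAction.charpoly G P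
  let Ψ : R[X] →+* W[X] := mapRingHom ψ
  let Ψ₀ : R[X] →+* W[X] := mapRingHom ψ₀
  have hcoeff : ∀ n, Ψ (Q.coeff n) = Ψ₀ (Q.coeff n) := by
    intro n
    ext k
    simp only [Ψ, Ψ₀, coe_mapRingHom, coeff_map]
    apply H
    intro g
    have h1 : g • Q.coeff n = Q.coeff n := MulSemiringAction.smul_coeff_charpoly P n g
    have h2 := congrArg (fun p => p.coeff k) h1
    simp only [smul_eq_map, coeff_map] at h2
    exact h2
  have hQmap : Q.map Ψ = Q.map Ψ₀ := by
    ext1 n
    rw [coeff_map, coeff_map, hcoeff]
  have h0 : (Q.map Ψ).eval (Ψ P) = 0 := by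
    have h1 : Q.eval P = 0 := MulSemiringAction.eval_charpoly G P
    have h2 : (Q.map Ψ).eval (Ψ P) = Ψ (Q.eval P) := by
      rw [eval_map, eval, hom_eval₂, RingHom.comp_id]
    rw [h2, h1, map_zero]
  rw [hQmap] at h0
  have hQ : Q.map Ψ₀ = ∏ g : G, (X - Polynomial.C (Ψ₀ (g • P))) := by
    simp only [Q, MulSemiringAction.charpoly_eq, Polynomial.map_prod, Polynomial.map_sub,
      Polynomial.map_X, Polynomial.map_C]
  rw [hQ, eval_prod] at h0
  obtain ⟨g, -, hg⟩ := Finset.prod_eq_zero_iff.mp h0
  rw [eval_sub, eval_X, eval_C, sub_eq_zero] at hg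
  have h3 := congrArg (fun p => p.coeff (e g)) hg
  simp only [Ψ, Ψ₀, coe_mapRingHom, coeff_map, smul_eq_map, hPcoeff] at h3
  exact hc g h3




/-- Extension of a ring homomorphism to an algebraically closed field along an integral
extension. -/
theorem exists_extension_of_isIntegral {B C W : Type*} [CommRing B] [CommRing C] [Algebra B C]
    [Algebra.IsIntegral B C] [Field W] [IsAlgClosed W]
    (hinj : Function.Injective (algebraMap B C)) (φ : B →+* W) :
    ∃ ψ : C →+* W, ψ.comp (algebraMap B C) = φ := by
  let q : Ideal B := RingHom.ker φ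
  haveI : q.IsPrime := RingHom.ker_isPrime φ
  have hker : (⊥ : Ideal C).comap (algebraMap B C) ≤ q := by
    intro x hx
    have : algebraMap B C x = 0 := by simpa using hx
    have hx0 : x = 0 := hinj (this.trans (map_zero _).symm)
    rw [hx0]; exact q.zero_mem
  obtain ⟨Q, -, hQ, hQq⟩ := Ideal.exists_ideal_over_prime_of_isIntegral q (⊥ : Ideal C) hker
  haveI := hQ
  haveI : Q.LiesOver q := ⟨hQq.symm⟩
  -- `W` as an algebra over `B ⧸ q`
  let φ' : B ⧸ q →+* W := Ideal.Quotient.lift q φ (fun a ha => ha)
  have hφ'inj : Function.Injective φ' := by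
    rw [injective_iff_map_eq_zero]
    intro x hx
    obtain ⟨b, rfl⟩ := Ideal.Quotient.mk_surjective x
    rw [Ideal.Quotient.eq_zero_iff_mem]
    exact hx
  letI : Algebra (B ⧸ q) W := φ'.toAlgebra
  haveI : FaithfulSMul (B ⧸ q) W := (faithfulSMul_iff_algebraMap_injective _ _).mpr hφ'inj
  haveI : Algebra.IsIntegral (B ⧸ q) (C ⧸ Q) := inferInstance
  let f : (C ⧸ Q) →ₐ[B ⧸ q] W := IsAlgClosed.lift
  refine ⟨f.toRingHom.comp (Ideal.Quotient.mk Q), ?_⟩
  ext b
  change f (Ideal.Quotient.mk Q (algebraMap B C b)) = φ b
  have h1 : Ideal.Quotient.mk Q (algebraMap B C b) =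
      algebraMap (B ⧸ q) (C ⧸ Q) (Ideal.Quotient.mk q b) := rfl
  rw [h1, f.commutes]
  rfl




/-- In a normal extension, an element fixed by all automorphisms is purely inseparable over the
base. -/
theorem exists_pow_mem_of_fixed {K N : Type*} [Field K] [Field N] [Algebra K N] [Normal K N]
    (q : ℕ) [ExpChar K q] (x : N) (hx : ∀ g : N ≃ₐ[K] N, g x = x) :
    ∃ e : ℕ, x ^ q ^ e ∈ (algebraMap K N).range := by
  classical
  rw [← minpoly.natSepDegree_eq_one_iff_pow_mem q]
  have hint : IsIntegral K x := Normal.isIntegral inferInstance x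
  rw [natSepDegree_eq_of_splits _ (Normal.splits inferInstance x)]
  have : ((minpoly K x).aroots N).toFinset = {x} := by
    ext y
    rw [Multiset.mem_toFinset, ← isConjRoot_iff_mem_minpoly_aroots hint, Finset.mem_singleton]
    constructor
    · intro h
      obtain ⟨σ, hσ⟩ := h.exists_algEquiv
      rw [← hσ]
      have := hx σ.symm
      calc y = σ.symm (σ y) := (σ.symm_apply_apply y).symm
        _ = σ.symm x := by rw [hσ]
        _ = x := this
        _ = σ y := hσ.symm
    · rintro rfl
      exact isConjRoot_def.mpr rfl
  rw [this, Finset.card_singleton]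




/-- For finitely many pairwise distinct ring homomorphisms to a field there are points at which
their matrix of values is invertible. -/
theorem exists_det_ne_zero {B W : Type*} [CommRing B] [Field W] {n : ℕ}
    (φ : Fin n → (B →+* W)) (hφ : Function.Injective φ) :
    ∃ b : Fin n → B, (Matrix.of fun i j => φ j (b i)).det ≠ 0 := by
  classical
  -- linear independence of characters
  have hLI : LinearIndependent W (fun j : Fin n => ((φ j : B →+* W) : B → W)) := by
    have h1 := linearIndependent_monoidHom B W
    have h2 : Function.Injective (fun j : Fin n => ((φ j : B →+* W) : B →* W)) := by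
      intro i j hij
      apply hφ
      ext x
      exact congrArg (fun f : B →* W => f x) hij
    exact h1.comp _ h2
  -- the rows `r s = (φ j s)_j` span `W^n`
  let r : B → (Fin n → W) := fun s j => φ j s
  have hspan : Submodule.span W (Set.range r) = ⊤ := by
    by_contra hne
    obtain ⟨f, hf0, hf⟩ := Submodule.exists_le_ker_of_lt_top _ (lt_top_iff_ne_top.mpr hne)
    apply hf0
    have hzero : ∑ j : Fin n, f (Pi.single j 1) • ((φ j : B →+* W) : B → W) = 0 := by
      ext s
      have h1 : f (r s) = 0 := hf (Submodule.subset_span ⟨s, rfl⟩)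
      have h2 : r s = ∑ j : Fin n, (φ j s) • (Pi.single j (1 : W) : Fin n → W) := by
        ext k
        simp [r, Finset.sum_apply, Pi.single_apply]
      rw [h2, map_sum] at h1
      simp only [map_smul, smul_eq_mul] at h1
      simp only [Finset.sum_apply, Pi.smul_apply, smul_eq_mul, Pi.zero_apply]
      rw [← h1]
      exact Finset.sum_congr rfl (fun j _ => mul_comm _ _)
    have hcoef := (Fintype.linearIndependent_iff.mp hLI) _ hzero
    apply LinearMap.ext
    intro v
    have hv : v = ∑ j : Fin n, v j • (Pi.single j (1 : W) : Fin n → W) := by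
      ext k
      simp [Finset.sum_apply, Pi.single_apply]
    rw [hv, map_sum]
    simp [hcoef]
  -- extract a basis from the spanning set
  obtain ⟨t, ht, htspan, htLI⟩ := exists_linearIndependent W (Set.range r)
  rw [hspan] at htspan
  let bas : Module.Basis t W (Fin n → W) := Module.Basis.mk htLI (by
    rw [Subtype.range_coe_subtype]; exact htspan.ge)
  have hcard : Fintype.card (Fin n) = Nat.card t := by
    rw [← Module.finrank_eq_nat_card_basis bas]
    simp
  haveI : Finite t := Module.Finite.finite_basis bas
  haveI : Fintype t := Fintype.ofFinite t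
  have e : Fin n ≃ t := Fintype.equivOfCardEq (by rw [hcard, Nat.card_eq_fintype_card])
  choose s hs using fun i : Fin n => ht (e i).2
  refine ⟨s, ?_⟩
  have hrows : LinearIndependent W (fun i : Fin n => (Matrix.of fun i j => φ j (s i)) i) := by
    have : (fun i : Fin n => (Matrix.of fun i j => φ j (s i)) i) = fun i => ((e i : t) : Fin n → W) := by
      funext i
      rw [← hs i]
      rfl
    rw [this]
    exact htLI.comp _ e.injective
  have := Matrix.linearIndependent_rows_iff_isUnit.mp hrows
  exact (Matrix.isUnit_iff_isUnit_det _).mp this |>.ne_zero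


section
variable {A : Type u} [CommRing A] [IsDomain A] [IsIntegrallyClosed A]
  {K : Type u} [Field K] [Algebra A K] [IsFractionRing A K]
  {N : Type u} [Field N] [Algebra K N] [Algebra A N] [IsScalarTower A K N]
  [FiniteDimensional K N] [Normal K N]
  {W : Type u} [Field W]

/-- Two ring homomorphisms from the integral closure of `A` in a finite normal extension to a
field, agreeing on `A`, agree on the elements fixed by the Galois group. -/
theorem eq_of_fixed (ψ ψ₀ : integralClosure A N →+* W)
    (h : ∀ a : A, ψ (algebraMap A _ a) = ψ₀ (algebraMap A _ a))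
    (c : integralClosure A N) (hc : ∀ g : N ≃ₐ[K] N, g (c : N) = (c : N)) : ψ c = ψ₀ c := by
  have hKN : Function.Injective (algebraMap K N) := (algebraMap K N).injective
  -- the key: some `q^e`-th power of `c` lies in `A`
  have key : ∀ (q : ℕ) [ExpChar K q], ∃ (e : ℕ) (a : A), c ^ q ^ e = algebraMap A _ a := by
    intro q _
    obtain ⟨e, k, hk⟩ := exists_pow_mem_of_fixed q (c : N) hc
    have hint : IsIntegral A ((c : N) ^ q ^ e) := c.2.pow _
    rw [← hk, isIntegral_algebraMap_iff hKN] at hint
    obtain ⟨a, ha⟩ := IsIntegrallyClosed.algebraMap_eq_of_integral hint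
    refine ⟨e, a, Subtype.ext ?_⟩
    change (c : N) ^ q ^ e = algebraMap A N a
    rw [← hk, ← ha, ← IsScalarTower.algebraMap_apply]
  obtain ⟨q, hq⟩ := ExpChar.exists K
  haveI := hq
  obtain ⟨e, a, hea⟩ := key q
  cases hq with
  | zero =>
    rw [one_pow, pow_one] at hea
    rw [hea, h]
  | prime hprime =>
    have hqA : ((q : ℕ) : A) = 0 := by
      apply IsFractionRing.injective A K
      rw [map_natCast, map_zero]
      exact CharP.cast_eq_zero K q
    have hqW : ((q : ℕ) : W) = 0 := by
      have h2 : ((q : ℕ) : W) = ψ ((q : ℕ) : integralClosure A N) := (map_natCast ψ q).symm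
      rw [h2]
      have h3 : ((q : ℕ) : integralClosure A N) = algebraMap A _ ((q : ℕ) : A) :=
        (map_natCast (algebraMap A (integralClosure A N)) q).symm
      rw [h3, hqA, map_zero, map_zero]
    haveI : Fact q.Prime := ⟨hprime⟩
    haveI : CharP W q := by
      have := CharP.ringChar_of_prime_eq_zero hprime hqW
      exact this ▸ ringChar.charP W
    have h1 : ψ c ^ q ^ e = ψ₀ c ^ q ^ e := by
      rw [← map_pow, ← map_pow, hea, h]
    exact iterateFrobenius_inj W q e h1


/-- The Galois group of a finite normal extension acts transitively on the homomorphisms from the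
integral closure to a field extending a given one on the integrally closed base. -/
theorem exists_aut (ψ ψ₀ : integralClosure A N →+* W)
    (h : ∀ a : A, ψ (algebraMap A _ a) = ψ₀ (algebraMap A _ a)) :
    ∃ g : N ≃ₐ[K] N, ∀ c : integralClosure A N, ∀ c' : integralClosure A N,
      (c' : N) = g (c : N) → ψ c = ψ₀ c' := by
  classical
  letI := IsIntegralClosure.MulSemiringAction A K N (integralClosure A N)
  haveI : Fintype (N ≃ₐ[K] N) := Fintype.ofFinite _
  have hact : ∀ (g : N ≃ₐ[K] N) (c : integralClosure A N), ((g • c : integralClosure A N) : N) =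
      g (c : N) := fun g c => algebraMap_galRestrict_apply A g c
  obtain ⟨g, hg⟩ := exists_smul_of_eq_on_invariants (G := N ≃ₐ[K] N) ψ ψ₀ (fun c hc =>
    eq_of_fixed (K := K) ψ ψ₀ h c (fun g => by rw [← hact, hc g]))
  refine ⟨g, fun c c' hc' => ?_⟩
  rw [hg c]
  congr 1
  exact Subtype.ext ((hact g c).trans hc'.symm)


variable {L : Type u} [Field L] [Algebra K L] [Algebra A L] [IsScalarTower A K L]
  [IsAlgClosed W]

/-- The map on integral closures induced by a `K`-embedding. -/
noncomputable def mapIC (σ : L →ₐ[K] N) : integralClosure A L →+* integralClosure A N :=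
  ((σ.restrictScalars A).mapIntegralClosure).toRingHom

theorem mapIC_coe (σ : L →ₐ[K] N) (b : integralClosure A L) :
    ((mapIC (A := A) σ b : integralClosure A N) : N) = σ (b : L) := rfl

/-- Every homomorphism from the integral closure of `A` in `L` to an algebraically closed field
is, up to a `K`-embedding of `L` in the normal extension `N`, the restriction of a given one on the
integral closure in `N`. -/
theorem exists_embedding (ι : L →ₐ[K] N) (ξ : A →+* W) (ψ₀ : integralClosure A N →+* W)
    (hψ₀ : ∀ a : A, ψ₀ (algebraMap A _ a) = ξ a) (φ : integralClosure A L →+* W)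
    (hφ : ∀ a : A, φ (algebraMap A _ a) = ξ a) :
    ∃ σ : L →ₐ[K] N, ∀ b : integralClosure A L, φ b = ψ₀ (mapIC σ b) := by
  let j : integralClosure A L →+* integralClosure A N := mapIC ι
  letI : Algebra (integralClosure A L) (integralClosure A N) := j.toAlgebra
  haveI : IsScalarTower A (integralClosure A L) (integralClosure A N) :=
    IsScalarTower.of_algebraMap_eq (fun a => by
      apply Subtype.ext
      change algebraMap A N a = ι (algebraMap A L a)
      rw [IsScalarTower.algebraMap_apply A K L, AlgHom.commutes,
        ← IsScalarTower.algebraMap_apply])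
  haveI : Algebra.IsIntegral A (integralClosure A N) := inferInstance
  haveI : Algebra.IsIntegral (integralClosure A L) (integralClosure A N) :=
    Algebra.IsIntegral.tower_top (R := A)
  have hjinj : Function.Injective (algebraMap (integralClosure A L) (integralClosure A N)) := by
    intro b₁ b₂ hb
    apply Subtype.ext
    apply ι.injective
    exact congrArg Subtype.val hb
  obtain ⟨ψ, hψ⟩ := exists_extension_of_isIntegral hjinj φ
  have hψA : ∀ a : A, ψ (algebraMap A _ a) = ψ₀ (algebraMap A _ a) := by
    intro a
    rw [hψ₀, ← hφ, ← hψ, IsScalarTower.algebraMap_apply A (integralClosure A L)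
      (integralClosure A N)]
    rfl
  obtain ⟨g, hg⟩ := exists_aut (K := K) ψ ψ₀ hψA
  refine ⟨g.toAlgHom.comp ι, fun b => ?_⟩
  have h1 : φ b = ψ (j b) := by rw [← hψ]; rfl
  rw [h1]
  exact hg (j b) _ rfl

end


end Groth.Agent.Lib.NormPt
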