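import Groth.Agent.Lib.NormPt1_helper5
import Groth.Agent.Lib.TraceEtale_lead

set_option autoImplicit false
set_option linter.style.haveILetI false
universe u
open Polynomial

namespace Groth.Agent.Lib.NormPt

section
variable {A : Type u} [CommRing A] [IsDomain A] [IsIntegrallyClosed A]
  {K : Type u} [Field K] [Algebra A K] [IsFractionRing A K]
  {L : Type u} [Field L] [Algebra K L] [Algebra A L] [IsScalarTower A K L]
  [FiniteDimensional K L]
  {W : Type u} [Field W] [IsAlgClosed W]

/-- If the integral closure of `A` in `L` has `[L : K]` distinct homomorphisms to an algebraically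
closed field over a given `ξ`, then `L / K` is separable and there are integral elements whose
discriminant does not vanish at `ξ`. -/
theorem exists_discr_ne_zero (ξ : A →+* W)
    (φ : Fin (Module.finrank K L) → (integralClosure A L →+* W))
    (hφ : Function.Injective φ) (hφξ : ∀ i a, φ i (algebraMap A _ a) = ξ a) :
    Algebra.IsSeparable K L ∧ ∃ (b : Fin (Module.finrank K L) → L) (d : A),
      (∀ i, IsIntegral A (b i)) ∧ algebraMap A K d = Algebra.discr K b ∧ ξ d ≠ 0 := by
  classical
  let E := AlgebraicClosure K
  let N := IntermediateField.normalClosure K L E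
  let ι : L →ₐ[K] N := (normalClosure.algHomEquiv K L E).symm
    (IsAlgClosed.lift : L →ₐ[K] E)
  have hAN : Function.Injective (algebraMap A (integralClosure A N)) := by
    intro a a' h
    apply IsFractionRing.injective A K
    apply (algebraMap K N).injective
    rw [← IsScalarTower.algebraMap_apply, ← IsScalarTower.algebraMap_apply]
    exact congrArg Subtype.val h
  obtain ⟨ψ₀, hψ₀'⟩ := exists_extension_of_isIntegral hAN ξ
  have hψ₀ : ∀ a : A, ψ₀ (algebraMap A _ a) = ξ a := fun a => RingHom.congr_fun hψ₀' a
  choose s hs using fun i => exists_embedding (K := K) ι ξ ψ₀ hψ₀ (φ i) (hφξ i)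
  have hsinj : Function.Injective s := by
    intro i j hij
    apply hφ
    ext b
    rw [hs, hs, hij]
  let s' : Fin (Module.finrank K L) → (L →ₐ[K] E) := fun i => N.val.comp (s i)
  have hs'inj : Function.Injective s' := by
    intro i j hij
    apply hsinj
    ext x
    exact congrArg (fun f : L →ₐ[K] E => f x) hij
  have hcard1 : Field.finSepDegree K L = Nat.card (L →ₐ[K] E) :=
    Field.finSepDegree_eq_of_isAlgClosed K L E
  have hle : Module.finrank K L ≤ Nat.card (L →ₐ[K] E) := by
    have := Nat.card_le_card_of_injective s' hs'inj
    simpa using this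
  have hle2 : Field.finSepDegree K L ≤ Module.finrank K L := Field.finSepDegree_le_finrank K L
  have heq : Field.finSepDegree K L = Module.finrank K L := le_antisymm hle2 (hcard1 ▸ hle)
  have hsep : Algebra.IsSeparable K L := (Field.finSepDegree_eq_finrank_iff K L).1 heq
  refine ⟨hsep, ?_⟩
  have hbij : Function.Bijective s' := by
    apply hs'inj.bijective_of_nat_card_le
    rw [← hcard1, heq]
    simp
  let e : Fin (Module.finrank K L) ≃ (L →ₐ[K] E) := Equiv.ofBijective s' hbij
  obtain ⟨b', hb'⟩ := exists_det_ne_zero φ hφ
  let b : Fin (Module.finrank K L) → L := fun i => (b' i : L)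
  have hbint : ∀ i, IsIntegral A (b i) := fun i => (b' i).2
  obtain ⟨d, hd⟩ := IsIntegrallyClosed.algebraMap_eq_of_integral
    (Algebra.discr_isIntegral (R := A) K hbint)
  refine ⟨b, d, hbint, hd, ?_⟩
  have hdiscr := Algebra.discr_eq_det_embeddingsMatrixReindex_pow_two K E b e
  let M : Matrix (Fin (Module.finrank K L)) (Fin (Module.finrank K L)) (integralClosure A N) :=
    Matrix.of fun i j => mapIC (s j) (b' i)
  let θ : integralClosure A N →+* E :=
    (algebraMap N E).comp (integralClosure A N).val.toRingHom
  have hθinj : Function.Injective θ :=
    (algebraMap N E).injective.comp Subtype.val_injective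
  have hM : θ.mapMatrix M = Algebra.embeddingsMatrixReindex K E b e := by
    ext i j
    rfl
  have hdet : algebraMap A (integralClosure A N) d = M.det ^ 2 := by
    apply hθinj
    rw [map_pow, RingHom.map_det, hM, ← hdiscr, ← hd]
    change algebraMap N E (algebraMap A N d) = _
    rw [IsScalarTower.algebraMap_apply A K N, ← IsScalarTower.algebraMap_apply K N E]
  have hψM : ψ₀.mapMatrix M = Matrix.of fun i j => φ j (b' i) := by
    ext i j
    change ψ₀ (mapIC (s j) (b' i)) = φ j (b' i)
    rw [hs]
  rw [← hψ₀ d, hdet, map_pow, RingHom.map_det, hψM]
  exact pow_ne_zero 2 hb'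

end

section
variable {A : Type u} [CommRing A] [IsDomain A] [IsIntegrallyClosed A]
  {K : Type u} [Field K] [Algebra A K] [IsFractionRing A K]
  {L : Type u} [Field L] [Algebra K L] [Algebra A L] [IsScalarTower A K L]
  [FiniteDimensional K L] [Algebra.IsSeparable K L]

/-- Integral elements whose discriminant is a unit form a basis of the integral closure. -/
theorem exists_basis_of_isUnit_discr
    (b : Fin (Module.finrank K L) → L) (hb : ∀ i, IsIntegral A (b i)) (d : A)
    (hd : algebraMap A K d = Algebra.discr K b) (hdu : IsUnit d) :
    ∃ bB : Module.Basis (Fin (Module.finrank K L)) A (integralClosure A L),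
      ∀ i, ((bB i : integralClosure A L) : L) = b i := by
  classical
  have hAK : Function.Injective (algebraMap A K) := IsFractionRing.injective A K
  -- traces of integral elements come from `A`
  have htr : ∀ x : L, IsIntegral A x → ∃ a : A, algebraMap A K a = Algebra.trace K L x := by
    intro x hx
    exact IsIntegrallyClosed.algebraMap_eq_of_integral (Algebra.isIntegral_trace hx)
  choose T hT using fun i j => htr (b i * b j) ((hb i).mul (hb j))
  let TA : Matrix (Fin (Module.finrank K L)) (Fin (Module.finrank K L)) A := Matrix.of T
  have hTA : (algebraMap A K).mapMatrix TA = Algebra.traceMatrix K b := by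
    ext i j
    exact hT i j
  have hdet : TA.det = d := by
    apply hAK
    rw [RingHom.map_det, hTA, ← Algebra.discr_def, hd]
  have hTAu : IsUnit TA.det := hdet ▸ hdu
  -- `b` is a `K`-basis
  have hdne : Algebra.discr K b ≠ 0 := by
    rw [← hd]
    intro h0
    exact hdu.ne_zero (hAK (h0.trans (map_zero _).symm))
  have hliK : LinearIndependent K b := by
    by_contra hli
    exact hdne (Algebra.discr_zero_of_not_linearIndependent K hli)
  let bK : Module.Basis (Fin (Module.finrank K L)) K L :=
    basisOfLinearIndependentOfCardEqFinrank' b hliK (by simp)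
  have hbK : ∀ i, bK i = b i := fun i => by
    simp [bK]
  -- the lifted family
  let b' : Fin (Module.finrank K L) → integralClosure A L := fun i => ⟨b i, hb i⟩
  have hliA : LinearIndependent A b' := by
    have h1 : LinearIndependent A b := LinearIndependent.restrict_scalars' A hliK
    exact LinearIndependent.of_comp ((integralClosure A L).val.toLinearMap) h1
  have hspan : ⊤ ≤ Submodule.span A (Set.range b') := by
    intro z _
    choose t ht using fun i => htr ((z : L) * b i) (z.2.mul (hb i))
    let x : Fin (Module.finrank K L) → A := TA⁻¹.mulVec t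
    have hx : TA.mulVec x = t := by
      rw [Matrix.mulVec_mulVec, Matrix.mul_nonsing_inv _ hTAu, Matrix.one_mulVec]
    let z' : integralClosure A L := ∑ j, x j • b' j
    have hz' : z' ∈ Submodule.span A (Set.range b') :=
      Submodule.sum_mem _ fun j _ => Submodule.smul_mem _ _ (Submodule.subset_span ⟨j, rfl⟩)
    have hzz' : (z : L) = (z' : L) := by
      have hnd := traceForm_nondegenerate K L
      rw [← sub_eq_zero]
      apply hnd.1
      intro y
      -- enough on the basis
      have : Algebra.traceForm K L ((z : L) - (z' : L)) = 0 := by
        apply bK.ext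
        intro i
        rw [hbK, LinearMap.zero_apply, Algebra.traceForm_apply, sub_mul, map_sub, sub_eq_zero,
          ← ht i, ← hx]
        have hz'L : (z' : L) = ∑ j, algebraMap A K (x j) • b j := by
          change (integralClosure A L).val z' = _
          rw [map_sum]
          apply Finset.sum_congr rfl
          intro j _
          rw [map_smul, algebraMap_smul]
          rfl
        rw [hz'L, Finset.sum_mul, map_sum, Matrix.mulVec, dotProduct, map_sum]
        apply Finset.sum_congr rfl
        intro j _
        rw [smul_mul_assoc, map_smul, smul_eq_mul, map_mul, mul_comm]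
        congr 1
        rw [mul_comm (b j)]
        exact hT i j
      rw [this]
      rfl
    have : z = z' := Subtype.ext hzz'
    rw [this]
    exact hz'
  exact ⟨Module.Basis.mk hliA hspan, fun i => by rw [Module.Basis.mk_apply]⟩

/-- Integral elements with unit discriminant: the integral closure is finite étale. -/
theorem etale_finite_of_isUnit_discr
    (b : Fin (Module.finrank K L) → L) (hb : ∀ i, IsIntegral A (b i)) (d : A)
    (hd : algebraMap A K d = Algebra.discr K b) (hdu : IsUnit d) :
    Algebra.Etale A (integralClosure A L) ∧ Module.Finite A (integralClosure A L) := by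
  classical
  obtain ⟨bB, hbB⟩ := exists_basis_of_isUnit_discr b hb d hd hdu
  have hAK : Function.Injective (algebraMap A K) := IsFractionRing.injective A K
  haveI : IsLocalization (Algebra.algebraMapSubmonoid (integralClosure A L) (nonZeroDivisors A)) L :=
    IsIntegralClosure.isLocalization A K L (integralClosure A L)
  have h1 := Algebra.discr_localizationLocalization A (nonZeroDivisors A) L bB (Rₘ := K)
  have h2 : (bB.localizationLocalization K (nonZeroDivisors A) L : Fin (Module.finrank K L) → L)
      = b := by
    funext i
    rw [Module.Basis.localizationLocalization_apply]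
    exact hbB i
  rw [h2, ← hd] at h1
  have h3 : Algebra.discr A bB = d := (hAK h1).symm
  have h4 : IsUnit (Algebra.discr A bB) := h3 ▸ hdu
  exact ⟨TraceEtale.etale_of_isUnit_discr bB h4, Module.Finite.of_basis bB⟩

end

end Groth.Agent.Lib.NormPt
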