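import Mathlib
import Groth.Prelude.Def_Pi1
import Groth.Agent.Lib.NormEt4_helper5
import Groth.Agent.Lib.NormPt2_helper5

/-!
# Geometric points of a normalization and the discriminant (helper5)

`ptHom`: the ring homomorphism on sections attached to a field-valued point;
`exists_discr`: `[L : K]` distinct geometric points of the normalization over `ξ` give integral
elements whose discriminant does not vanish at `ξ`;
`etale_finite_app_of_discr`: unit discriminant gives finite étale sections;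
`etale_finite_pullback_of_app`: from sections over an affine open to the restriction.
-/

set_option autoImplicit false
set_option linter.style.haveILetI false
universe u
open CategoryTheory CategoryTheory.Limits AlgebraicGeometry TopologicalSpace
open Groth.Agent.Lib.NormEt

namespace Groth.Agent.Lib.NormPt

section
variable {W : Type u} [Field W]

/-- The ring homomorphism on sections over an open containing the image of a field-valued
point. -/
noncomputable def ptHom {Y : Scheme.{u}} (η : Spec (CommRingCat.of W) ⟶ Y) (V : Y.Opens)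
    (h : ⊤ ≤ η ⁻¹ᵁ V) : Γ(Y, V) →+* W :=
  ((Scheme.ΓSpecIso (CommRingCat.of W)).hom.hom).comp (η.appLE V ⊤ h).hom

theorem ptHom_injective {Y : Scheme.{u}} {V : Y.Opens} (hV : IsAffineOpen V)
    (η₁ η₂ : Spec (CommRingCat.of W) ⟶ Y) (h₁ : ⊤ ≤ η₁ ⁻¹ᵁ V) (h₂ : ⊤ ≤ η₂ ⁻¹ᵁ V)
    (h : ptHom η₁ V h₁ = ptHom η₂ V h₂) : η₁ = η₂ := by
  have h' : η₁.appLE V ⊤ h₁ = η₂.appLE V ⊤ h₂ := by
    ext a
    have hinj : Function.Injective (Scheme.ΓSpecIso (CommRingCat.of W)).hom.hom :=
      (Scheme.ΓSpecIso (CommRingCat.of W)).commRingCatIsoToRingEquiv.injective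
    apply hinj
    exact RingHom.congr_fun h a
  have e1 := IsAffineOpen.SpecMap_appLE_fromSpec η₁ hV (isAffineOpen_top _) h₁
  have e2 := IsAffineOpen.SpecMap_appLE_fromSpec η₂ hV (isAffineOpen_top _) h₂
  rw [h'] at e1
  have e3 := e1.symm.trans e2
  rw [IsAffineOpen.fromSpec_top] at e3
  exact (cancel_epi _).1 e3

theorem ptHom_comp {N X : Scheme.{u}} (ν : N ⟶ X) (η : Spec (CommRingCat.of W) ⟶ N)
    (U : X.Opens) (h : ⊤ ≤ (η ≫ ν) ⁻¹ᵁ U) :
    (ptHom η (ν ⁻¹ᵁ U) h).comp (ν.app U).hom = ptHom (η ≫ ν) U h := by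
  ext a
  simp only [ptHom, RingHom.comp_apply]
  rw [Scheme.Hom.comp_appLE]
  rfl

theorem le_preimage_basicOpen {X : Scheme.{u}} (ξ : Spec (CommRingCat.of W) ⟶ X) (U : X.Opens)
    (h : ⊤ ≤ ξ ⁻¹ᵁ U) (d : Γ(X, U)) (hd : ptHom ξ U h d ≠ 0) :
    ⊤ ≤ ξ ⁻¹ᵁ (X.basicOpen d) := by
  have hu : IsUnit (ξ.appLE U ⊤ h d) := by
    have h1 : IsUnit (ptHom ξ U h d) := isUnit_iff_ne_zero.2 hd
    have h2 := h1.map (Scheme.ΓSpecIso (CommRingCat.of W)).commRingCatIsoToRingEquiv.symm
    have h5 : (Scheme.ΓSpecIso (CommRingCat.of W)).commRingCatIsoToRingEquiv.symm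
        (ptHom ξ U h d) = ξ.appLE U ⊤ h d :=
      (Scheme.ΓSpecIso (CommRingCat.of W)).commRingCatIsoToRingEquiv.symm_apply_apply _
    rwa [h5] at h2
  have h3 := Scheme.basicOpen_of_isUnit _ hu
  have h4 : ξ.appLE U ⊤ h d = (Spec (CommRingCat.of W)).presheaf.map (homOfLE h).op (ξ.app U d) := rfl
  rw [h4, Scheme.basicOpen_res, ← Scheme.preimage_basicOpen] at h3
  rw [← h3]
  exact inf_le_right

theorem ptHom_congr {Y : Scheme.{u}} {η₁ η₂ : Spec (CommRingCat.of W) ⟶ Y} (e : η₁ = η₂)
    (V : Y.Opens) (h₁ : ⊤ ≤ η₁ ⁻¹ᵁ V) (h₂ : ⊤ ≤ η₂ ⁻¹ᵁ V) :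
    ptHom η₁ V h₁ = ptHom η₂ V h₂ := by
  subst e
  rfl

end

section
variable {X : Scheme.{u}} [IsIntegral X] (L : Type u) [Field L] [Algebra X.functionField L]
  [FiniteDimensional X.functionField L]
  [QuasiCompact (gen (X := X) L)] [QuasiSeparated (gen (X := X) L)]
  {W : Type u} [Field W] [IsAlgClosed W]

theorem exists_discr (hX : Pi1.IsNormalScheme X) {U : X.Opens} (hU : IsAffineOpen U) [Nonempty U]
    (ξ : Spec (CommRingCat.of W) ⟶ X) (hξ : ⊤ ≤ ξ ⁻¹ᵁ U)
    (hcard : Nonempty (Fin (Module.finrank X.functionField L) ↪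
      {η : Spec (CommRingCat.of W) ⟶ (gen (X := X) L).normalization //
        η ≫ (gen (X := X) L).fromNormalization = ξ})) :
    letI := algL L U
    Algebra.IsSeparable X.functionField L ∧
      ∃ (b : Fin (Module.finrank X.functionField L) → L) (d : Γ(X, U)),
      (∀ i, IsIntegral Γ(X, U) (b i)) ∧
      algebraMap Γ(X, U) X.functionField d = Algebra.discr X.functionField b ∧
      ptHom ξ U hξ d ≠ 0 := by
  letI algN := ((gen L).fromNormalization.app U).hom.toAlgebra
  letI := algL L U
  haveI := isScalarTower_algL L U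
  haveI : IsFractionRing Γ(X, U) X.functionField :=
    functionField_isFractionRing_of_isAffineOpen (X := X) U hU
  haveI : IsIntegrallyClosed Γ(X, U) := isIntegrallyClosed_of_stalks (fun x => (hX x).2) hU
  obtain ⟨eN⟩ := exists_algEquiv_sections L hU
  obtain ⟨emb⟩ := hcard
  have hη : ∀ i, ⊤ ≤ (emb i).1 ⁻¹ᵁ ((gen L).fromNormalization ⁻¹ᵁ U) := by
    intro i t _
    have h1 : (emb i).1 ≫ (gen L).fromNormalization = ξ := (emb i).2
    have h2 : t ∈ ξ ⁻¹ᵁ U := hξ (by trivial)
    rw [← h1] at h2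
    exact h2
  let φ' : Fin (Module.finrank X.functionField L) →
      (Γ((gen L).normalization, (gen L).fromNormalization ⁻¹ᵁ U) →+* W) :=
    fun i => ptHom (emb i).1 _ (hη i)
  let φ : Fin (Module.finrank X.functionField L) → (integralClosure Γ(X, U) L →+* W) :=
    fun i => (φ' i).comp (eN.symm : integralClosure Γ(X, U) L →+* _)
  have hφ : Function.Injective φ := by
    intro i j hij
    have h1 : φ' i = φ' j := by
      ext a
      have := RingHom.congr_fun hij (eN a)
      simpa [φ] using this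
    have h2 := ptHom_injective (hU.preimage _) _ _ _ _ h1
    exact emb.injective (Subtype.ext h2)
  have hφξ : ∀ i a, φ i (algebraMap Γ(X, U) _ a) = ptHom ξ U hξ a := by
    intro i a
    have h1 : (emb i).1 ≫ (gen L).fromNormalization = ξ := (emb i).2
    have h2 := ptHom_comp (gen L).fromNormalization (emb i).1 U (by rw [h1]; exact hξ)
    have h3 : φ i (algebraMap Γ(X, U) _ a) = φ' i (algebraMap Γ(X, U) _ a) := by
      change φ' i (eN.symm (algebraMap Γ(X, U) _ a)) = _
      rw [eN.symm.commutes]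
    rw [h3]
    have h4 := RingHom.congr_fun h2 a
    change φ' i (((gen L).fromNormalization.app U).hom a) = _
    rw [RingHom.comp_apply] at h4
    rw [h4]
    exact RingHom.congr_fun (ptHom_congr h1 U _ hξ) a
  exact exists_discr_ne_zero (ptHom ξ U hξ) φ hφ hφξ

theorem etale_finite_app_of_discr (hX : Pi1.IsNormalScheme X) {U : X.Opens}
    (hU : IsAffineOpen U) [Nonempty U] [Algebra.IsSeparable X.functionField L]
    (b : Fin (Module.finrank X.functionField L) → L)
    (hb : letI := algL L U; ∀ i, IsIntegral Γ(X, U) (b i)) (d : Γ(X, U))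
    (hd : algebraMap Γ(X, U) X.functionField d = Algebra.discr X.functionField b)
    (hdu : IsUnit d) :
    ((gen L).fromNormalization.app U).hom.Etale ∧
      ((gen L).fromNormalization.app U).hom.Finite := by
  letI algN := ((gen L).fromNormalization.app U).hom.toAlgebra
  letI := algL L U
  haveI := isScalarTower_algL L U
  haveI : IsFractionRing Γ(X, U) X.functionField :=
    functionField_isFractionRing_of_isAffineOpen (X := X) U hU
  haveI : IsIntegrallyClosed Γ(X, U) := isIntegrallyClosed_of_stalks (fun x => (hX x).2) hU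
  obtain ⟨eN⟩ := exists_algEquiv_sections L hU
  obtain ⟨hE, hF⟩ := etale_finite_of_isUnit_discr (A := Γ(X, U)) (K := X.functionField) b hb d hd hdu
  haveI := hE
  haveI := hF
  haveI : Algebra.Etale Γ(X, U) Γ((gen L).normalization, (gen L).fromNormalization ⁻¹ᵁ U) :=
    Algebra.Etale.of_equiv eN.symm
  haveI : Module.Finite Γ(X, U) Γ((gen L).normalization, (gen L).fromNormalization ⁻¹ᵁ U) :=
    Module.Finite.equiv eN.symm.toLinearEquiv
  constructor
  · have := RingHom.etale_algebraMap.mpr ‹Algebra.Etale Γ(X, U)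
      Γ((gen L).normalization, (gen L).fromNormalization ⁻¹ᵁ U)›
    exact this
  · have := RingHom.finite_algebraMap.mpr ‹Module.Finite Γ(X, U)
      Γ((gen L).normalization, (gen L).fromNormalization ⁻¹ᵁ U)›
    exact this

end

theorem etale_finite_pullback_of_app {N X : Scheme.{u}} (ν : N ⟶ X) {U : X.Opens}
    (hU : IsAffineOpen U) (hU' : IsAffineOpen (ν ⁻¹ᵁ U))
    (hE : (ν.app U).hom.Etale) (hF : (ν.app U).hom.Finite) :
    Etale (pullback.snd ν U.ι) ∧ IsFinite (pullback.snd ν U.ι) := by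
  haveI : IsAffine U.toScheme := hU
  haveI : IsAffine (ν ⁻¹ᵁ U).toScheme := hU'
  have happ := morphismRestrict_appTop ν U
  have hEF : ∀ V : X.Opens, V = U → (ν.app V).hom.Etale ∧ (ν.app V).hom.Finite := by
    rintro _ rfl
    exact ⟨hE, hF⟩
  obtain ⟨hE', hF'⟩ := hEF (U.ι ''ᵁ ⊤) (by simp)
  have hiso : Function.Bijective
      (N.presheaf.map (eqToHom (image_morphismRestrict_preimage ν U ⊤)).op).hom :=
    ConcreteCategory.bijective_of_isIso _
  have hc : ((ν ∣_ U).appTop).hom =
      (N.presheaf.map (eqToHom (image_morphismRestrict_preimage ν U ⊤)).op).hom.comp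
        (ν.app (U.ι ''ᵁ ⊤)).hom := by
    rw [happ]
    rfl
  have h1 : Etale (ν ∣_ U) := by
    rw [HasRingHomProperty.iff_of_isAffine (P := @Etale), hc]
    exact RingHom.Etale.stableUnderComposition _ _ hE' (RingHom.Etale.of_bijective hiso)
  have h2 : IsFinite (ν ∣_ U) := by
    rw [HasAffineProperty.iff_of_isAffine (P := @IsFinite)]
    refine ⟨inferInstance, ?_⟩
    rw [hc]
    exact RingHom.Finite.comp (RingHom.Finite.of_surjective _ hiso.2) hF'
  rw [← pullbackRestrictIsoRestrict_hom_morphismRestrict]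
  exact ⟨inferInstance, inferInstance⟩

end Groth.Agent.Lib.NormPt
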