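import Mathlib

set_option autoImplicit false
set_option maxHeartbeats 1000000

/-!
# Norm of a finite algebra over an algebraically closed field as a product over points (helper1)
-/

namespace NormPtsH1

universe u

section det

variable {k : Type u} [Field k]

theorem det_piMap_fin : ∀ (n : ℕ) (M : Fin n → Type u) [∀ i, AddCommGroup (M i)]
    [∀ i, Module k (M i)] [∀ i, Module.Finite k (M i)] (g : ∀ i, M i →ₗ[k] M i),
    LinearMap.det (LinearMap.piMap g) = ∏ i, LinearMap.det (g i) := by
  intro n
  induction n with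
  | zero =>
    intro M _ _ _ g
    rw [LinearMap.det_eq_one_of_subsingleton, Fin.prod_univ_zero]
  | succ n ih =>
    intro M _ _ _ g
    have hconj : LinearMap.piMap g =
        ((Fin.consLinearEquiv k M : _ →ₗ[k] _) ∘ₗ
          (LinearMap.prodMap (g 0) (LinearMap.piMap (fun i : Fin n => g i.succ))) ∘ₗ
          ((Fin.consLinearEquiv k M).symm : _ →ₗ[k] _)) := by
      apply LinearMap.ext
      intro x
      funext i
      refine Fin.cases ?_ ?_ i
      · simp [LinearMap.piMap]
      · intro j
        simp [LinearMap.piMap, Fin.tail]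
    rw [hconj, LinearMap.det_conj, LinearMap.det_prodMap, ih, Fin.prod_univ_succ]

theorem det_piMap {ι : Type u} [Fintype ι] (M : ι → Type u) [∀ i, AddCommGroup (M i)]
    [∀ i, Module k (M i)] [∀ i, Module.Finite k (M i)] (g : ∀ i, M i →ₗ[k] M i) :
    LinearMap.det (LinearMap.piMap g) = ∏ i, LinearMap.det (g i) := by
  obtain ⟨e⟩ : Nonempty (Fin (Fintype.card ι) ≃ ι) := ⟨(Fintype.equivFin ι).symm⟩
  have h1 := det_piMap_fin (k := k) (Fintype.card ι) (fun j => M (e j)) (fun j => g (e j))
  have hconj : LinearMap.piMap g = ((LinearEquiv.piCongrLeft k M e : _ →ₗ[k] _) ∘ₗ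
      (LinearMap.piMap (fun j => g (e j))) ∘ₗ
      ((LinearEquiv.piCongrLeft k M e).symm : _ →ₗ[k] _)) := by
    apply LinearMap.ext
    intro x
    apply (LinearEquiv.piCongrLeft k M e).symm.injective
    rw [LinearMap.comp_apply, LinearMap.comp_apply, LinearEquiv.coe_coe, LinearEquiv.coe_coe,
      LinearEquiv.symm_apply_apply]
    funext j
    show ((LinearEquiv.piCongrLeft k M e).symm (LinearMap.piMap g x)) j =
      g (e j) (((LinearEquiv.piCongrLeft k M e).symm x) j)
    rfl
  rw [hconj, LinearMap.det_conj, h1]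
  exact Fintype.prod_equiv e _ _ (fun j => rfl)

theorem norm_pi {ι : Type u} [Fintype ι] (B : ι → Type u) [∀ i, CommRing (B i)]
    [∀ i, Algebra k (B i)] [∀ i, Module.Finite k (B i)] (x : ∀ i, B i) :
    Algebra.norm k x = ∏ i, Algebra.norm k (x i) := by
  rw [Algebra.norm_apply]
  have h : Algebra.lmul k (∀ i, B i) x =
      LinearMap.piMap (fun i => Algebra.lmul k (B i) (x i)) := by
    apply LinearMap.ext
    intro y
    funext i
    rfl
  rw [h, det_piMap]
  rfl

end det

section loc

variable {k A : Type u} [Field k] [CommRing A] [Algebra k A] [Module.Finite k A]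

theorem finite_loc (p : Ideal A) [p.IsPrime] : Module.Finite k (Localization.AtPrime p) := by
  haveI : IsArtinianRing A := IsArtinianRing.of_finite k A
  exact Module.Finite.of_surjective
    (IsScalarTower.toAlgHom k A (Localization.AtPrime p)).toLinearMap
    (IsArtinianRing.localization_surjective p.primeCompl (Localization.AtPrime p))

theorem norm_local (φ : A →ₐ[k] k) (f : A) :
    Algebra.norm k (algebraMap A (Localization.AtPrime (Ideal.comap φ (⊥ : Ideal k))) f) =
      φ f ^ Module.finrank k (Localization.AtPrime (Ideal.comap φ (⊥ : Ideal k))) := by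
  obtain ⟨p, hp⟩ : ∃ p : Ideal A, p = Ideal.comap φ (⊥ : Ideal k) := ⟨_, rfl⟩
  haveI hpp : p.IsPrime := by rw [hp]; infer_instance
  have key : Algebra.norm k (algebraMap A (Localization.AtPrime p) f) =
      φ f ^ Module.finrank k (Localization.AtPrime p) := by
    haveI : Module.Finite k (Localization.AtPrime p) := finite_loc p
    haveI : IsArtinianRing (Localization.AtPrime p) :=
      IsArtinianRing.of_finite k (Localization.AtPrime p)
    obtain ⟨g, hg⟩ : ∃ g : A, g = f - algebraMap k A (φ f) := ⟨_, rfl⟩
    have hgp : g ∈ p := by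
      rw [hp, Ideal.mem_comap, Ideal.mem_bot, hg, map_sub, AlgHom.commutes]
      exact sub_self _
    have hgm : algebraMap A (Localization.AtPrime p) g ∈
        IsLocalRing.maximalIdeal (Localization.AtPrime p) :=
      (IsLocalization.AtPrime.to_map_mem_maximal_iff (Localization.AtPrime p) p g).mpr hgp
    have hnil : IsNilpotent (algebraMap A (Localization.AtPrime p) g) := by
      obtain ⟨N, hN⟩ := IsArtinianRing.isNilpotent_jacobson_bot (R := Localization.AtPrime p)
      rw [IsLocalRing.jacobson_eq_maximalIdeal ⊥ bot_ne_top] at hN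
      refine ⟨N, ?_⟩
      have h1 := Ideal.pow_mem_pow hgm N
      rw [hN] at h1
      exact h1
    have hnil' : IsNilpotent (Algebra.lmul k (Localization.AtPrime p)
        (-(algebraMap A (Localization.AtPrime p) g))) :=
      (hnil.neg).map (Algebra.lmul k (Localization.AtPrime p))
    have hf : Algebra.lmul k (Localization.AtPrime p) (algebraMap A (Localization.AtPrime p) f) =
        algebraMap k (Module.End k (Localization.AtPrime p)) (φ f) -
          Algebra.lmul k (Localization.AtPrime p)
            (-(algebraMap A (Localization.AtPrime p) g)) := by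
      have h2 : algebraMap A (Localization.AtPrime p) f =
          algebraMap k (Localization.AtPrime p) (φ f) +
            algebraMap A (Localization.AtPrime p) g := by
        rw [IsScalarTower.algebraMap_apply k A (Localization.AtPrime p), ← map_add, hg]
        congr 1
        ring
      rw [map_neg, sub_neg_eq_add, h2, map_add, AlgHom.commutes]
    rw [Algebra.norm_apply, hf, ← LinearMap.eval_charpoly,
      IsNilpotent.charpoly_eq_X_pow_finrank hnil', Polynomial.eval_pow, Polynomial.eval_X]
  subst hp
  exact key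

end loc

section main

variable {k A : Type u} [Field k] [IsAlgClosed k] [CommRing A] [Algebra k A] [Module.Finite k A]

noncomputable def toMS (φ : A →ₐ[k] k) : MaximalSpectrum A :=
  ⟨Ideal.comap φ (⊥ : Ideal k), by
    have hs : Function.Surjective φ := fun c => ⟨algebraMap k A c, by rw [AlgHom.commutes]; rfl⟩
    exact Ideal.comap_isMaximal_of_surjective φ hs⟩

omit [IsAlgClosed k] [Module.Finite k A] in
theorem toMS_injective : Function.Injective (toMS (k := k) (A := A)) := by
  intro φ ψ h
  have h' : Ideal.comap φ (⊥ : Ideal k) = Ideal.comap ψ ⊥ := congrArg MaximalSpectrum.asIdeal h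
  apply AlgHom.ext
  intro a
  have h1 : a - algebraMap k A (φ a) ∈ Ideal.comap φ (⊥ : Ideal k) := by
    rw [Ideal.mem_comap, Ideal.mem_bot, map_sub, AlgHom.commutes]
    exact sub_self _
  rw [h', Ideal.mem_comap, Ideal.mem_bot, map_sub, AlgHom.commutes, sub_eq_zero] at h1
  exact h1.symm

theorem toMS_surjective : Function.Surjective (toMS (k := k) (A := A)) := by
  intro m
  haveI := m.isMaximal
  letI : Field (A ⧸ m.asIdeal) := Ideal.Quotient.field m.asIdeal
  haveI : Module.Finite k (A ⧸ m.asIdeal) :=
    Module.Finite.of_surjective (Ideal.Quotient.mkₐ k m.asIdeal).toLinearMap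
      Ideal.Quotient.mk_surjective
  haveI : Algebra.IsIntegral k (A ⧸ m.asIdeal) := Algebra.IsIntegral.of_finite k _
  have hbij : Function.Bijective (algebraMap k (A ⧸ m.asIdeal)) :=
    IsAlgClosed.algebraMap_bijective_of_isIntegral
  obtain ⟨e, he⟩ : ∃ e : k ≃ₐ[k] (A ⧸ m.asIdeal), True :=
    ⟨AlgEquiv.ofBijective (Algebra.ofId k _) hbij, trivial⟩
  refine ⟨(e.symm : (A ⧸ m.asIdeal) →ₐ[k] k).comp (Ideal.Quotient.mkₐ k m.asIdeal), ?_⟩
  apply MaximalSpectrum.ext
  ext a
  show e.symm (Ideal.Quotient.mk m.asIdeal a) ∈ (⊥ : Ideal k) ↔ a ∈ m.asIdeal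
  rw [Ideal.mem_bot, map_eq_zero_iff e.symm e.symm.injective, Ideal.Quotient.eq_zero_iff_mem]

theorem main (f : A) :
    Algebra.norm k f =
      ∏ᶠ φ : A →ₐ[k] k,
        φ f ^ Module.finrank k (Localization.AtPrime (Ideal.comap φ (⊥ : Ideal k))) := by
  haveI : IsArtinianRing A := IsArtinianRing.of_finite k A
  haveI : Fintype (MaximalSpectrum A) := Fintype.ofFinite _
  haveI : ∀ m : MaximalSpectrum A, Module.Finite k (Localization.AtPrime m.asIdeal) :=
    fun m => finite_loc m.asIdeal
  obtain ⟨e, he⟩ : ∃ e : A ≃ₐ[k] (∀ m : MaximalSpectrum A, Localization.AtPrime m.asIdeal),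
      ∀ a m, e a m = algebraMap A (Localization.AtPrime m.asIdeal) a :=
    ⟨(MaximalSpectrum.toPiLocalizationEquiv A).restrictScalars k, fun _ _ => rfl⟩
  have h1 : Algebra.norm k f = ∏ m : MaximalSpectrum A,
      Algebra.norm k (algebraMap A (Localization.AtPrime m.asIdeal) f) := by
    rw [← Algebra.norm_eq_of_algEquiv e f, norm_pi]
    exact Finset.prod_congr rfl (fun m _ => by rw [he])
  rw [h1, ← finprod_eq_prod_of_fintype]
  symm
  apply finprod_eq_of_bijective toMS ⟨toMS_injective, toMS_surjective⟩
  intro φ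
  exact (norm_local φ f).symm

end main

end NormPtsH1
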