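import Mathlib
import Groth.Prelude
import Groth.Agent.Lib.NormSec4_helper8

/-!
# Relative ampleness and finite locally free surjective pullback (helper8)
APPEND-ONLY once landed.
-/

set_option autoImplicit false

namespace NormSecH8

open AlgebraicGeometry CategoryTheory CategoryTheory.Limits TopologicalSpace Opposite TensorProduct
open QcqsLoc MonoidalCategory GenLocH8 FLFH8 QCohExtn TensH8 PBH8

universe u

theorem isFinLocFree_pushO_restrict {X' X : Scheme.{u}} (g : X' ⟶ X) [IsFinite g]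
    (hfree : FlatMod.IsFinLocFree (pushO g)) (U : X.Opens) :
    FlatMod.IsFinLocFree (pushO (g ∣_ U)) := by
  obtain ⟨h1, h2, h3⟩ := (isFinLocFree_iff g).mp ⟨inferInstance, hfree⟩
  haveI := h2
  haveI := h3
  exact ((isFinLocFree_iff (g ∣_ U)).mpr ⟨inferInstance, inferInstance, inferInstance⟩).2

/-- EGA II 6.6.2 for a finite surjective morphism with finite locally free direct image. -/
theorem isRelAmple_iff_pullback {X X' Y : Scheme.{u}} (f : X ⟶ Y) [QuasiCompact f]
    (g : X' ⟶ X) [IsFinite g] [Surjective g]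
    (hfree : FlatMod.IsFinLocFree (pushO g)) (L : X.Modules) (hL : PicF.IsInvertible L) :
    RelAmple.IsRelAmple f L ↔
      RelAmple.IsRelAmple (g ≫ f) ((Scheme.Modules.pullback g).obj L) := by
  have hL' := isInvertible_pullback g hL
  constructor
  · rintro ⟨-, h⟩
    refine ⟨inferInstance, fun V => ?_⟩
    have h1 := (isAmple_restrict_ι_iff hL _).mp (h V)
    have hc : IsCompact (((g ≫ f) ⁻¹ᵁ V.1 : X'.Opens) : Set X') :=
      QuasiCompact.isCompact_preimage (f := g ≫ f) _ V.1.isOpen V.2.isCompact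
    have h2 := isAmpleOn_pullback_of_isAffineHom g hL h1 hc
    exact (isAmple_restrict_ι_iff hL' _).mpr h2
  · rintro ⟨-, h⟩
    refine ⟨inferInstance, fun V => ?_⟩
    have hc : IsCompact ((f ⁻¹ᵁ V.1 : X.Opens) : Set X) :=
      QuasiCompact.isCompact_preimage (f := f) _ V.1.isOpen V.2.isCompact
    haveI : CompactSpace (f ⁻¹ᵁ V.1).toScheme := isCompact_iff_compactSpace.mp hc
    have h1 : CohB1.IsAmple
        (((Scheme.Modules.pullback g).obj L).restrict (g ⁻¹ᵁ (f ⁻¹ᵁ V.1)).ι) := h V
    have h2 := (isAmple_congr (restrictPullbackIso g (f ⁻¹ᵁ V.1) L)).mp h1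
    haveI : Surjective (g ∣_ (f ⁻¹ᵁ V.1)) :=
      MorphismProperty.of_isPullback (P := @Surjective)
        (isPullback_morphismRestrict g (f ⁻¹ᵁ V.1)).flip inferInstance
    exact isAmple_of_pullback (g ∣_ (f ⁻¹ᵁ V.1)) (isFinLocFree_pushO_restrict g hfree _)
      (isInvertible_restrict (f ⁻¹ᵁ V.1).ι hL) h2

end NormSecH8
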