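import Mathlib
import Groth.Agent.Lib.NormSepCl_helper4
import Groth.Agent.Lib.EtLiftGlobal_lead

/-!
# Étale schemes over closed subschemes of a normal affine scheme with separably closed function
field (helper4)
-/

open AlgebraicGeometry CategoryTheory Limits TensorProduct

universe u

set_option linter.style.haveILetI false

namespace Groth.Agent.Lib.NormSepCl2H4

open Groth.Agent.Lib.NormSepClH4

section Ring

/-- Lifting an étale algebra along a surjection, as a pushout square of rings. -/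
theorem exists_etale_lift_of_surjective {A Ab Bb : Type u} [CommRing A] [CommRing Ab]
    [CommRing Bb] (α : A →+* Ab) (hα : Function.Surjective α) (β : Ab →+* Bb) (hβ : β.Etale) :
    ∃ (B : Type u) (_ : CommRing B) (a : A →+* B) (b : B →+* Bb), a.Etale ∧
      IsPushout (CommRingCat.ofHom α) (CommRingCat.ofHom a) (CommRingCat.ofHom β)
        (CommRingCat.ofHom b) := by
  let e₀ : A ⧸ RingHom.ker α ≃+* Ab := RingHom.quotientKerEquivOfSurjective hα
  letI : Algebra (A ⧸ RingHom.ker α) Bb := (β.comp e₀.toRingHom).toAlgebra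
  haveI : Algebra.Etale (A ⧸ RingHom.ker α) Bb :=
    RingHom.etale_algebraMap.mp
      (RingHom.Etale.stableUnderComposition _ _ (RingHom.Etale.of_bijective e₀.bijective) hβ)
  obtain ⟨B, _, _, hB, ⟨e⟩⟩ :=
    Groth.Agent.Lib.EtLiftGlobal.exists_etale_lift A (RingHom.ker α) Bb
  refine ⟨B, inferInstance, algebraMap A B,
    e.toRingEquiv.toRingHom.comp
      (Algebra.TensorProduct.includeRight : B →ₐ[A] (A ⧸ RingHom.ker α) ⊗[A] B).toRingHom,
    RingHom.etale_algebraMap.mpr hB, ?_⟩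
  refine (CommRingCat.isPushout_tensorProduct A (A ⧸ RingHom.ker α) B).of_iso (Iso.refl _)
    e₀.toCommRingCatIso (Iso.refl _) e.toRingEquiv.toCommRingCatIso ?_ ?_ ?_ ?_
  · ext r
    exact RingHom.quotientKerEquivOfSurjective_apply_mk hα r
  · rfl
  · ext x
    exact e.commutes x
  · ext c
    rfl

end Ring

section Scheme

/-- If `σ ≫ h` is an open immersion and `h` is étale then `σ` is an open immersion. -/
theorem isOpenImmersion_of_comp_etale {T P Y' : Scheme.{u}} (σ : T ⟶ P) (h : P ⟶ Y') [Etale h]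
    [IsOpenImmersion (σ ≫ h)] : IsOpenImmersion σ := by
  haveI : Etale σ := MorphismProperty.of_postcomp (W := @Etale)
    (W' := @LocallyOfFiniteType ⊓ @FormallyUnramified) σ h ⟨inferInstance, inferInstance⟩
    inferInstance
  haveI : Mono σ := mono_of_mono σ h
  exact IsOpenImmersion.of_flat_of_mono σ

/-- An affine étale scheme over a closed subscheme of an affine scheme is the base change of an
affine étale scheme over the ambient scheme. -/
theorem exists_global_lift {V Z X : Scheme.{u}} [IsAffine X] (i : Z ⟶ X) [IsClosedImmersion i]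
    (φ : V ⟶ Z) [Etale φ] [IsAffine V] :
    ∃ (Ut : Scheme.{u}) (p : Ut ⟶ X) (j : V ⟶ Ut), IsAffine Ut ∧ Etale p ∧
      IsPullback φ j i p := by
  haveI : IsAffine Z := isAffine_of_isAffineHom i
  have hα : Function.Surjective i.appTop.hom := i.app_surjective ⊤ (isAffineOpen_top X)
  have hβ : φ.appTop.hom.Etale :=
    (HasRingHomProperty.iff_of_isAffine (P := @Etale)).mp inferInstance
  obtain ⟨B, _, a, b, ha, hpo⟩ :=
    exists_etale_lift_of_surjective i.appTop.hom hα φ.appTop.hom hβ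
  have hpb := isPullback_SpecMap_of_isPushout _ _ _ _ hpo
  haveI : Etale (Spec.map (CommRingCat.ofHom a)) := HasRingHomProperty.Spec_iff.mpr ha
  refine ⟨Spec (CommRingCat.of B), Spec.map (CommRingCat.ofHom a) ≫ X.isoSpec.inv,
    V.isoSpec.hom ≫ Spec.map (CommRingCat.ofHom b), inferInstance, inferInstance, ?_⟩
  refine hpb.of_iso V.isoSpec.symm Z.isoSpec.symm (Iso.refl _) X.isoSpec.symm ?_ ?_ ?_ ?_
  · exact Scheme.isoSpec_inv_naturality φ
  · simp
  · exact Scheme.isoSpec_inv_naturality i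
  · simp

set_option maxHeartbeats 1600000 in
theorem exists_finite_decomposition {V Z X : Scheme.{u}} [IsAffine X] [IsIntegral X]
    (hN : ∀ x : X, IsIntegrallyClosed (X.presheaf.stalk x)) [IsSepClosed X.functionField]
    (i : Z ⟶ X) [IsClosedImmersion i] (φ : V ⟶ Z) [Etale φ] [IsAffine V] :
    ∃ (ι : Type u) (_ : Finite ι) (W : ι → Z.Opens) (ψ : ∀ k, (W k : Scheme.{u}) ⟶ V),
      (∀ k, IsOpenImmersion (ψ k)) ∧ (∀ k, ψ k ≫ φ = (W k).ι) ∧
      Pairwise (Function.onFun Disjoint (fun k => Set.range (ψ k))) ∧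
      (∀ v : V, ∃ k, v ∈ Set.range (ψ k)) := by
  obtain ⟨Ut, p, j, hUt, hp, hpb⟩ := exists_global_lift i φ
  haveI := hUt
  haveI := hp
  haveI : IsSeparated p := inferInstance
  obtain ⟨ι, V₀, ψ₀, hψ₀, hψ₀p, hdisj₀, hcov₀, hne₀⟩ := exists_decomposition hN p
  haveI := hψ₀
  haveI : CompactSpace Ut := inferInstance
  have hfin : Finite ι := by
    obtain ⟨t, ht⟩ := isCompact_univ.elim_finite_subcover (fun k => Set.range (ψ₀ k))
      (fun k => (ψ₀ k).isOpenEmbedding.isOpen_range)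
      (fun u _ => Set.mem_iUnion.mpr (hcov₀ u))
    have hall : ∀ k, k ∈ t := by
      intro k
      obtain ⟨y, hy⟩ := hne₀ k
      have := ht (Set.mem_univ y)
      simp only [Set.mem_iUnion] at this
      obtain ⟨l, hl, hyl⟩ := this
      by_contra hk
      have hkl : k ≠ l := fun h => hk (h ▸ hl)
      exact Set.disjoint_iff.mp (hdisj₀ hkl) ⟨hy, hyl⟩
    exact Finite.of_injective (fun k => (⟨k, hall k⟩ : t))
      (fun a b h => congrArg Subtype.val h)
  haveI : IsClosedImmersion j := MorphismProperty.of_isPullback hpb inferInstance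
  let W : ι → Z.Opens := fun k => i ⁻¹ᵁ (V₀ k)
  have hw : ∀ k, (W k).ι ≫ i = ((i ∣_ V₀ k) ≫ ψ₀ k) ≫ p := fun k => by
    rw [Category.assoc, hψ₀p, morphismRestrict_ι]
  let ψ : ∀ k, (W k : Scheme.{u}) ⟶ V := fun k =>
    hpb.lift (W k).ι ((i ∣_ V₀ k) ≫ ψ₀ k) (hw k)
  have hψφ : ∀ k, ψ k ≫ φ = (W k).ι := fun k => hpb.lift_fst _ _ _
  have hψj : ∀ k, ψ k ≫ j = (i ∣_ V₀ k) ≫ ψ₀ k := fun k => hpb.lift_snd _ _ _
  haveI : ∀ k, IsOpenImmersion (ψ k) := fun k => by
    haveI : IsOpenImmersion (ψ k ≫ φ) := by rw [hψφ]; infer_instance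
    exact isOpenImmersion_of_comp_etale (ψ k) φ
  refine ⟨ι, hfin, W, ψ, inferInstance, hψφ, ?_, ?_⟩
  · intro k l hkl
    change Disjoint (Set.range (ψ k)) (Set.range (ψ l))
    rw [Set.disjoint_iff]
    rintro v ⟨⟨z, hz⟩, ⟨z', hz'⟩⟩
    have h1 : j v ∈ Set.range (ψ₀ k) := by
      refine ⟨(i ∣_ V₀ k) z, ?_⟩
      rw [← hz]
      change ((i ∣_ V₀ k) ≫ ψ₀ k) z = (ψ k ≫ j) z
      rw [hψj]
    have h2 : j v ∈ Set.range (ψ₀ l) := by
      refine ⟨(i ∣_ V₀ l) z', ?_⟩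
      rw [← hz']
      change ((i ∣_ V₀ l) ≫ ψ₀ l) z' = (ψ l ≫ j) z'
      rw [hψj]
    exact Set.disjoint_iff.mp (hdisj₀ hkl) ⟨h1, h2⟩
  · intro v
    obtain ⟨k, y, hy⟩ := hcov₀ (j v)
    have h1 : i (φ v) = p (j v) := by
      change (φ ≫ i) v = (j ≫ p) v
      rw [hpb.w]
    have h2 : p (j v) = (V₀ k).ι y := by
      rw [← hy, ← hψ₀p]
      rfl
    have hzW : φ v ∈ W k := by
      change i (φ v) ∈ V₀ k
      rw [h1, h2]
      exact y.2
    refine ⟨k, ⟨φ v, hzW⟩, ?_⟩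
    apply j.isClosedEmbedding.injective
    change (ψ k ≫ j) ⟨φ v, hzW⟩ = j v
    rw [hψj, ← hy]
    change ψ₀ k ((i ∣_ V₀ k) ⟨φ v, hzW⟩) = ψ₀ k y
    congr 1
    apply (V₀ k).ι.isOpenEmbedding.injective
    change ((i ∣_ V₀ k) ≫ (V₀ k).ι) ⟨φ v, hzW⟩ = (V₀ k).ι y
    rw [morphismRestrict_ι, ← h2, ← h1]
    rfl

theorem main0624 {V Z X : Scheme.{u}} [IsAffine X] [IsIntegral X]
    (hN : ∀ x : X, IsIntegrallyClosed (X.presheaf.stalk x)) [IsSepClosed X.functionField]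
    (i : Z ⟶ X) [IsClosedImmersion i] (φ : V ⟶ Z) [AlgebraicGeometry.Etale φ] [IsAffine V] :
    ∃ (ι : Type u) (_ : Finite ι) (W : ι → Z.Opens) (e : (∐ fun k => (W k : Scheme.{u})) ≅ V),
      ∀ k, Sigma.ι (fun k => (W k : Scheme.{u})) k ≫ e.hom ≫ φ = (W k).ι := by
  obtain ⟨ι, hfin, W, ψ, hψ, hψφ, hdisj, hcov⟩ := exists_finite_decomposition hN i φ
  haveI := hψ
  haveI : IsOpenImmersion (Sigma.desc ψ) := isOpenImmersion_sigmaDesc _ ψ hdisj
  haveI : Surjective (Sigma.desc ψ) := ⟨fun v => by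
    obtain ⟨k, y, hy⟩ := hcov v
    refine ⟨(Sigma.ι (fun k => (W k : Scheme.{u})) k) y, ?_⟩
    rw [← Scheme.Hom.comp_apply, Sigma.ι_desc]
    exact hy⟩
  haveI : IsIso (Sigma.desc ψ) :=
    (isIso_iff_isOpenImmersion_and_surjective _).mpr ⟨inferInstance, inferInstance⟩
  refine ⟨ι, hfin, W, asIso (Sigma.desc ψ), fun k => ?_⟩
  rw [asIso_hom, Sigma.ι_desc_assoc]
  exact hψφ k

set_option maxHeartbeats 1600000 in
theorem main0625 {V Z X : Scheme.{u}} [IsAffine X] [IsIntegral X]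
    (hN : ∀ x : X, IsIntegrallyClosed (X.presheaf.stalk x)) [IsSepClosed X.functionField]
    (i : Z ⟶ X) [IsClosedImmersion i] (φ : V ⟶ Z) [AlgebraicGeometry.Etale φ] [IsFinite φ]
    [Surjective φ] : ∃ s : Z ⟶ V, s ≫ φ = 𝟙 Z := by
  classical
  haveI : IsAffine Z := isAffine_of_isAffineHom i
  haveI : IsAffine V := isAffine_of_isAffineHom φ
  obtain ⟨ι, hfin, W, ψ, hψ, hψφ, hdisj, hcov⟩ := exists_finite_decomposition hN i φ
  haveI := hψ
  haveI := hfin
  have hWimg : ∀ k, (W k : Set Z) = φ '' Set.range (ψ k) := fun k => by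
    rw [← Set.range_comp]
    change _ = Set.range (ψ k ≫ φ)
    rw [hψφ, Scheme.Opens.range_ι]
  have hrc : ∀ k, IsClosed (Set.range (ψ k)) := fun k => by
    have hcompl : (Set.range (ψ k))ᶜ = ⋃ l : {l // l ≠ k}, Set.range (ψ l.1) := by
      ext v
      simp only [Set.mem_compl_iff, Set.mem_iUnion]
      constructor
      · intro hv
        obtain ⟨l, hl⟩ := hcov v
        exact ⟨⟨l, fun h => hv (h ▸ hl)⟩, hl⟩
      · rintro ⟨⟨l, hlk⟩, hl⟩ hv
        exact Set.disjoint_iff.mp (hdisj hlk) ⟨hl, hv⟩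
    rw [← isOpen_compl_iff, hcompl]
    exact isOpen_iUnion fun l => (ψ l.1).isOpenEmbedding.isOpen_range
  have hWc : ∀ k, IsClosed (W k : Set Z) := fun k => by
    rw [hWimg]
    exact φ.isClosedMap _ (hrc k)
  have hWcov : ∀ z : Z, ∃ k, z ∈ W k := fun z => by
    obtain ⟨v, rfl⟩ := φ.surjective z
    obtain ⟨k, hk⟩ := hcov v
    refine ⟨k, ?_⟩
    change φ v ∈ (W k : Set Z)
    rw [hWimg]
    exact ⟨v, hk, rfl⟩
  obtain ⟨n, ⟨e⟩⟩ := Finite.exists_equiv_fin ι
  have hopen : ∀ k, IsOpen {z : Z | z ∈ W k ∧ ∀ l, e l < e k → z ∉ W l} := fun k => by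
    have h1 : {z : Z | z ∈ W k ∧ ∀ l, e l < e k → z ∉ W l} =
        (W k : Set Z) ∩ ⋂ l, {z | e l < e k → z ∉ W l} := by
      ext z
      simp only [Set.mem_setOf_eq, Set.mem_inter_iff, SetLike.mem_coe, Set.mem_iInter]
    rw [h1]
    refine (W k).2.inter (isOpen_iInter_of_finite fun l => ?_)
    by_cases hl : e l < e k
    · have h2 : {z : Z | e l < e k → z ∉ W l} = (W l : Set Z)ᶜ := by
        ext z
        simp only [Set.mem_setOf_eq, Set.mem_compl_iff, SetLike.mem_coe]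
        exact ⟨fun h => h hl, fun h _ => h⟩
      rw [h2]
      exact (hWc l).isOpen_compl
    · have h2 : {z : Z | e l < e k → z ∉ W l} = Set.univ := by
        ext z
        simp only [Set.mem_setOf_eq, Set.mem_univ, iff_true]
        exact fun h => absurd h hl
      rw [h2]
      exact isOpen_univ
  let Z' : ι → Z.Opens := fun k => ⟨{z | z ∈ W k ∧ ∀ l, e l < e k → z ∉ W l}, hopen k⟩
  have hZ'le : ∀ k, Z' k ≤ W k := fun k z hz => hz.1
  have hZ'disj : ∀ k l, k ≠ l → ∀ z, z ∈ Z' k → z ∈ Z' l → False := by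
    intro k l hkl z hzk hzl
    rcases lt_trichotomy (e k) (e l) with h | h | h
    · exact hzl.2 k h hzk.1
    · exact hkl (e.injective h)
    · exact hzk.2 l h hzl.1
  have hZ'cov : ∀ z : Z, ∃ k, z ∈ Z' k := by
    intro z
    have hne : ∃ m : ℕ, ∃ k, (e k : ℕ) = m ∧ z ∈ W k := by
      obtain ⟨k, hk⟩ := hWcov z
      exact ⟨_, k, rfl, hk⟩
    obtain ⟨k, hkm, hk⟩ := Nat.find_spec hne
    refine ⟨k, hk, fun l hl hzl => ?_⟩
    have hlt : (e l : ℕ) < Nat.find hne := by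
      rw [← hkm]
      exact hl
    exact Nat.find_min hne hlt ⟨l, rfl, hzl⟩
  let s' : ∀ k, (Z' k : Scheme.{u}) ⟶ V := fun k => Z.homOfLE (hZ'le k) ≫ ψ k
  have hs'φ : ∀ k, s' k ≫ φ = (Z' k).ι := fun k => by
    change (Z.homOfLE (hZ'le k) ≫ ψ k) ≫ φ = _
    rw [Category.assoc, hψφ, Scheme.homOfLE_ι]
  let c : ∀ k, (Z' k : Scheme.{u}) ⟶ Z := fun k => (Z' k).ι
  have hcdisj : Pairwise (Function.onFun Disjoint (fun k => Set.range (c k))) := by
    intro k l hkl
    change Disjoint (Set.range (Z' k).ι) (Set.range (Z' l).ι)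
    rw [Scheme.Opens.range_ι, Scheme.Opens.range_ι, Set.disjoint_iff]
    rintro z ⟨hzk, hzl⟩
    exact hZ'disj k l hkl z hzk hzl
  haveI : ∀ k, IsOpenImmersion (c k) := fun k => inferInstanceAs (IsOpenImmersion (Z' k).ι)
  haveI : IsOpenImmersion (Sigma.desc c) := isOpenImmersion_sigmaDesc _ c hcdisj
  haveI : Surjective (Sigma.desc c) := ⟨fun z => by
    obtain ⟨k, hk⟩ := hZ'cov z
    refine ⟨(Sigma.ι (fun k => (Z' k : Scheme.{u})) k) ⟨z, hk⟩, ?_⟩
    rw [← Scheme.Hom.comp_apply, Sigma.ι_desc]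
    rfl⟩
  haveI : IsIso (Sigma.desc c) :=
    (isIso_iff_isOpenImmersion_and_surjective _).mpr ⟨inferInstance, inferInstance⟩
  refine ⟨inv (Sigma.desc c) ≫ Sigma.desc s', ?_⟩
  rw [Category.assoc, IsIso.inv_comp_eq, Category.comp_id]
  apply Sigma.hom_ext
  intro k
  rw [Sigma.ι_desc_assoc, Sigma.ι_desc]
  exact hs'φ k

end Scheme

end Groth.Agent.Lib.NormSepCl2H4
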