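import Mathlib
import Groth.Prelude
import Groth.Agent.Lib.NormCurveK_helper4
import Groth.Agent.Lib.PushforwardNormal_helper7

/-!
# Finiteness of the normalization in a finite separable extension (S18426) — helper4
-/

set_option autoImplicit false
universe u
open CategoryTheory CategoryTheory.Limits AlgebraicGeometry TopologicalSpace Opposite

namespace Groth.Agent.Lib.NormSepFinH4

/-- Criterion: the normalization of an integral scheme `X` in a field `K` over its function field
is finite as soon as the integral closures of the rings of sections in `K` are finite. -/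
theorem isFinite_of_forall {X : Scheme.{u}} [IsIntegral X]
    (K : Type u) [Field K] (φ : X.functionField →+* K) (g : Spec (CommRingCat.of K) ⟶ X)
    (hg : g = Spec.map (CommRingCat.ofHom φ) ≫ X.fromSpecStalk (genericPoint X))
    [QuasiCompact g] [QuasiSeparated g]
    (H : ∀ (U : X.Opens) (_ : IsAffineOpen U) (hη : genericPoint X ∈ U),
      letI : Algebra Γ(X, U) K := (φ.comp (X.presheaf.germ U (genericPoint X) hη).hom).toAlgebra
      Module.Finite Γ(X, U) (integralClosure Γ(X, U) K)) :
    IsFinite g.fromNormalization := by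
  refine Groth.Agent.Lib.NormFiniteH3.isFinite_fromNormalization_of_forall g (fun U => ?_)
  letI alg : Algebra Γ(X, U.1) Γ(Spec (CommRingCat.of K), g ⁻¹ᵁ U.1) :=
    (g.app U.1).hom.toAlgebra
  by_cases hne : Nonempty ((U.1 : X.Opens) : Scheme.{u})
  · have hη : genericPoint X ∈ U.1 :=
      (genericPoint_specializes hne.some.1).mem_open U.1.2 hne.some.2
    obtain ⟨r, hr, hcomm⟩ := Groth.Agent.Lib.NormCurveKH4.sec_data K φ g hg U.1 hη
    letI algAK : Algebra Γ(X, U.1) K :=
      (φ.comp (X.presheaf.germ U.1 (genericPoint X) hη).hom).toAlgebra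
    have hfin : Module.Finite Γ(X, U.1) (integralClosure Γ(X, U.1) K) := H U.1 U.2 hη
    let ρ : K ≃ₐ[Γ(X, U.1)] Γ(Spec (CommRingCat.of K), g ⁻¹ᵁ U.1) :=
      AlgEquiv.ofBijective { r with commutes' := fun a => (hcomm a).symm } hr
    exact Module.Finite.equiv ρ.mapIntegralClosure.toLinearEquiv
  · have hU : U.1 = ⊥ := by
      by_contra hUne
      obtain ⟨u, hu⟩ := (Opens.ne_bot_iff_nonempty U.1).mp hUne
      exact hne ⟨⟨u, hu⟩⟩
    have hpre : g ⁻¹ᵁ U.1 = ⊥ := by rw [hU]; rfl
    haveI : Subsingleton Γ(Spec (CommRingCat.of K), g ⁻¹ᵁ U.1) := by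
      rw [hpre]; infer_instance
    haveI : Subsingleton (integralClosure Γ(X, U.1) Γ(Spec (CommRingCat.of K), g ⁻¹ᵁ U.1)) :=
      ⟨fun a b => Subtype.ext (Subsingleton.elim _ _)⟩
    exact Module.Finite.of_finite

theorem main18426 {X : Scheme.{u}} [IsIntegral X] [IsNoetherian X]
    (hX : Pi1.IsNormalScheme X) (L : Type u) [Field L] [Algebra X.functionField L]
    [FiniteDimensional X.functionField L] [Algebra.IsSeparable X.functionField L]
    [QuasiCompact (Spec.map (CommRingCat.ofHom (algebraMap X.functionField L)) ≫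
      X.fromSpecStalk (genericPoint X))]
    [QuasiSeparated (Spec.map (CommRingCat.ofHom (algebraMap X.functionField L)) ≫
      X.fromSpecStalk (genericPoint X))] :
    IsFinite (Spec.map (CommRingCat.ofHom (algebraMap X.functionField L)) ≫
      X.fromSpecStalk (genericPoint X)).fromNormalization := by
  refine isFinite_of_forall L (algebraMap X.functionField L) _ rfl (fun U hU hη => ?_)
  haveI hne : Nonempty ((U : X.Opens) : Scheme.{u}) := ⟨⟨_, hη⟩⟩
  haveI hne2 : Nonempty U := ⟨⟨_, hη⟩⟩
  letI algAL : Algebra Γ(X, U) L :=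
    ((algebraMap X.functionField L).comp (X.presheaf.germ U (genericPoint X) hη).hom).toAlgebra
  haveI hfr : IsFractionRing Γ(X, U) X.functionField :=
    functionField_isFractionRing_of_isAffineOpen X U hU
  haveI : IsScalarTower Γ(X, U) X.functionField L :=
    IsScalarTower.of_algebraMap_eq (fun _ => rfl)
  haveI : IsIntegrallyClosed Γ(X, U) :=
    Groth.Agent.Lib.PushforwardNormalH7.isIntegrallyClosed_of_stalks (fun y => (hX y).2) hU
  haveI : IsNoetherianRing Γ(X, U) := IsLocallyNoetherian.component_noetherian ⟨U, hU⟩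
  exact IsIntegralClosure.finite Γ(X, U) X.functionField L (integralClosure Γ(X, U) L)

end Groth.Agent.Lib.NormSepFinH4
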