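import Mathlib
import Groth.Agent.Lib.UnivHomeo8_helper6
import Groth.Agent.Lib.UnivHomeo12_helper6
set_option autoImplicit false
universe u

namespace Groth.Agent.Lib.UnivHomeo

section WN

open AlgebraicGeometry CategoryTheory

variable {A B : Type u} [CommRing A] [CommRing B] [Algebra A B]

/-- A subalgebra which is integral over `A` with uniqueness of field-valued points. -/
def UHs (S : Subalgebra A B) : Prop := (∀ x ∈ S, IsIntegral A x) ∧ PU A S

theorem PU_sup {S T : Subalgebra A B} (hS : PU A S) (hT : PU A T) : PU A ↥(S ⊔ T) := by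
  intro K _ ψ₁ ψ₂ h12
  have hle : S ⊔ T ≤ (eqLocusSubalgebra ψ₁ ψ₂ h12).map (S ⊔ T).val := by
    refine sup_le ?_ ?_
    · intro s hs
      have h := hS K (ψ₁.comp (Subalgebra.inclusion (le_sup_left : S ≤ S ⊔ T)).toRingHom)
        (ψ₂.comp (Subalgebra.inclusion (le_sup_left : S ≤ S ⊔ T)).toRingHom) (by
          ext a
          exact congr($h12 a))
      exact ⟨⟨s, le_sup_left (a := S) hs⟩, congr($h ⟨s, hs⟩), rfl⟩
    · intro t ht
      have h := hT K (ψ₁.comp (Subalgebra.inclusion (le_sup_right : T ≤ S ⊔ T)).toRingHom)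
        (ψ₂.comp (Subalgebra.inclusion (le_sup_right : T ≤ S ⊔ T)).toRingHom) (by
          ext a
          exact congr($h12 a))
      exact ⟨⟨t, le_sup_right (b := T) ht⟩, congr($h ⟨t, ht⟩), rfl⟩
  ext x
  obtain ⟨y, hy, hyx⟩ := hle x.2
  have : y = x := Subtype.ext hyx
  rw [← this]
  exact hy

theorem UHs.sup {S T : Subalgebra A B} (hS : UHs S) (hT : UHs T) : UHs (S ⊔ T) := by
  refine ⟨?_, PU_sup hS.2 hT.2⟩
  have : S ⊔ T ≤ integralClosure A B := sup_le (fun x hx => hS.1 x hx) (fun x hx => hT.1 x hx)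
  exact fun x hx => this hx

theorem PU_of_cover (S : Subalgebra A B)
    (h : ∀ x ∈ S, ∃ T : Subalgebra A B, ∃ hT : T ≤ S, PU A T ∧ x ∈ T) : PU A S := by
  intro K _ ψ₁ ψ₂ h12
  ext x
  obtain ⟨T, hTS, hT, hx⟩ := h x.1 x.2
  have h' := hT K (ψ₁.comp (Subalgebra.inclusion hTS).toRingHom)
    (ψ₂.comp (Subalgebra.inclusion hTS).toRingHom) (by
      ext a
      exact congr($h12 a))
  exact congr($h' ⟨x.1, hx⟩)

variable (A B) in
/-- The weak normalization of `A` in `B`: the union of all `UHs` subalgebras. -/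
def wnSubalgebra : Subalgebra A B where
  carrier := {b | ∃ S : Subalgebra A B, UHs S ∧ b ∈ S}
  mul_mem' := by
    rintro x y ⟨S, hS, hx⟩ ⟨T, hT, hy⟩
    exact ⟨S ⊔ T, hS.sup hT, mul_mem (le_sup_left (a := S) hx) (le_sup_right (b := T) hy)⟩
  add_mem' := by
    rintro x y ⟨S, hS, hx⟩ ⟨T, hT, hy⟩
    exact ⟨S ⊔ T, hS.sup hT, add_mem (le_sup_left (a := S) hx) (le_sup_right (b := T) hy)⟩
  algebraMap_mem' := fun r => ⟨⊥, ⟨fun x hx => by
      obtain ⟨a, rfl⟩ := Algebra.mem_bot.mp hx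
      exact isIntegral_algebraMap, by
      intro K _ ψ₁ ψ₂ h12
      ext x
      obtain ⟨a, ha⟩ := Algebra.mem_bot.mp x.2
      have : x = algebraMap A (⊥ : Subalgebra A B) a := Subtype.ext ha.symm
      rw [this]
      exact congr($h12 a)⟩, Subalgebra.algebraMap_mem _ r⟩

theorem le_wnSubalgebra {S : Subalgebra A B} (hS : UHs S) : S ≤ wnSubalgebra A B :=
  fun _ hx => ⟨S, hS, hx⟩

theorem UHs_wnSubalgebra : UHs (wnSubalgebra A B) := by
  refine ⟨?_, PU_of_cover _ ?_⟩
  · rintro x ⟨S, hS, hx⟩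
    exact hS.1 x hx
  · rintro x ⟨S, hS, hx⟩
    exact ⟨S, le_wnSubalgebra hS, hS.2, hx⟩

theorem UHs_range {C : Type u} [CommRing C] [Algebra A C] (g : C →ₐ[A] B)
    (hint : Algebra.IsIntegral A C) (hPU : PU A C) : UHs g.range := by
  constructor
  · rintro _ ⟨c, rfl⟩
    exact (hint.isIntegral c).map g
  · intro K _ ψ₁ ψ₂ h12
    have h := hPU K (ψ₁.comp g.rangeRestrict.toRingHom) (ψ₂.comp g.rangeRestrict.toRingHom) (by
      ext a
      simp only [RingHom.comp_apply]
      have e : g.rangeRestrict.toRingHom (algebraMap A C a) = algebraMap A g.range a := by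
        apply Subtype.ext
        exact g.commutes a
      rw [e]
      exact congr($h12 a))
    ext ⟨_, c, rfl⟩
    exact congr($h c)

theorem isUnivHomeo_of_UHs (hker : RingHom.ker (algebraMap A B) ≤ nilradical A)
    {S : Subalgebra A B} (hS : UHs S) :
    FlatMor.IsUnivHomeo (Spec.map (CommRingCat.ofHom (algebraMap A S))) := by
  rw [isUnivHomeo_iff_alg]
  refine ⟨⟨fun x => ?_⟩, hS.2, ?_⟩
  · exact (isIntegral_algHom_iff S.val Subtype.val_injective).mp (hS.1 x.1 x.2)
  · intro a ha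
    apply hker
    have : algebraMap A S a = 0 := ha
    exact congrArg Subtype.val this

theorem UHs_of_isUnivHomeo {S : Subalgebra A B}
    (hS : FlatMor.IsUnivHomeo (Spec.map (CommRingCat.ofHom (algebraMap A S)))) : UHs S := by
  obtain ⟨h1, h2, -⟩ := (isUnivHomeo_iff_alg A S).mp hS
  exact ⟨fun x hx => (isIntegral_algHom_iff S.val Subtype.val_injective).mpr
    (h1.isIntegral ⟨x, hx⟩), h2⟩

/-- Existence of the relative weak normalization. -/
theorem exists_wn (hker : RingHom.ker (algebraMap A B) ≤ nilradical A) :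
    ∃ B' : Subalgebra A B, FlatMor.IsUnivHomeo (Spec.map (CommRingCat.ofHom (algebraMap A B'))) ∧
      ∀ (C : Type u) [CommRing C] [Algebra A C] (g : C →ₐ[A] B),
        FlatMor.IsUnivHomeo (Spec.map (CommRingCat.ofHom (algebraMap A C))) → g.range ≤ B' := by
  refine ⟨wnSubalgebra A B, isUnivHomeo_of_UHs hker UHs_wnSubalgebra, ?_⟩
  intro C _ _ g hC
  obtain ⟨h1, h2, -⟩ := (isUnivHomeo_iff_alg A C).mp hC
  exact le_wnSubalgebra (UHs_range g h1 h2)

theorem ker_le_nilradical_of_isDominant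
    [IsDominant (Spec.map (CommRingCat.ofHom (algebraMap A B)))] :
    RingHom.ker (algebraMap A B) ≤ nilradical A := by
  have h : DenseRange (Spec.map (CommRingCat.ofHom (algebraMap A B))) :=
    (Spec.map (CommRingCat.ofHom (algebraMap A B))).denseRange
  exact (PrimeSpectrum.denseRange_comap_iff_ker_le_nilRadical (f := algebraMap A B)).mp h

end WN

end Groth.Agent.Lib.UnivHomeo
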