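import Mathlib
import Groth.Agent.Lib.UnivHomeo15_helper6
import Groth.Prelude.Def_HTop2
set_option autoImplicit false
universe u

namespace Groth.Agent.Lib.UnivHomeo

section AWNexists

open AlgebraicGeometry CategoryTheory

variable (A : Type u) [CommRing A]

/-- The product of the algebraic closures of all residue fields of `A`. -/
abbrev BigProd : Type u := ∀ 𝔭 : PrimeSpectrum A, AlgebraicClosure 𝔭.asIdeal.ResidueField

theorem ker_bigProd_le : RingHom.ker (algebraMap A (BigProd A)) ≤ nilradical A := by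
  intro a ha
  rw [mem_nilradical, nilpotent_iff_mem_prime]
  intro 𝔭 h𝔭
  have h1 : algebraMap A (BigProd A) a = 0 := ha
  have h2 : algebraMap A (AlgebraicClosure (⟨𝔭, h𝔭⟩ : PrimeSpectrum A).asIdeal.ResidueField) a = 0 :=
    congrFun h1 ⟨𝔭, h𝔭⟩
  rw [IsScalarTower.algebraMap_apply A 𝔭.ResidueField (AlgebraicClosure 𝔭.ResidueField),
    map_eq_zero_iff _ (algebraMap 𝔭.ResidueField (AlgebraicClosure 𝔭.ResidueField)).injective,
    Ideal.algebraMap_residueField_eq_zero] at h2
  exact h2

variable {A}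

/-- Residue field extensions of an integral ring map are algebraic. -/
theorem isAlgebraic_residueField {C : Type u} [CommRing C] [Algebra A C] [Algebra.IsIntegral A C]
    (𝔭 : Ideal A) [𝔭.IsPrime] (𝔮 : Ideal C) [𝔮.IsPrime] (h : 𝔭 = 𝔮.comap (algebraMap A C)) :
    letI : Algebra 𝔭.ResidueField 𝔮.ResidueField :=
      (Ideal.ResidueField.map 𝔭 𝔮 (algebraMap A C) h).toAlgebra
    Algebra.IsAlgebraic 𝔭.ResidueField 𝔮.ResidueField := by
  letI : Algebra 𝔭.ResidueField 𝔮.ResidueField :=
    (Ideal.ResidueField.map 𝔭 𝔮 (algebraMap A C) h).toAlgebra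
  have hm : ∀ a : A, algebraMap 𝔭.ResidueField 𝔮.ResidueField (algebraMap A 𝔭.ResidueField a) =
      algebraMap C 𝔮.ResidueField (algebraMap A C a) :=
    fun a => Ideal.ResidueField.map_algebraMap 𝔭 𝔮 (algebraMap A C) h a
  have hC : ∀ c : C, algebraMap C 𝔮.ResidueField c ∈
      integralClosure 𝔭.ResidueField 𝔮.ResidueField := by
    intro c
    obtain ⟨P, hP, hP0⟩ := Algebra.IsIntegral.isIntegral (R := A) c
    refine ⟨P.map (algebraMap A 𝔭.ResidueField), hP.map _, ?_⟩
    rw [Polynomial.eval₂_map]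
    have : (algebraMap 𝔭.ResidueField 𝔮.ResidueField).comp (algebraMap A 𝔭.ResidueField) =
        (algebraMap C 𝔮.ResidueField).comp (algebraMap A C) := by
      ext a; exact hm a
    rw [this, ← Polynomial.hom_eval₂, hP0, map_zero]
  refine ⟨fun y => ?_⟩
  obtain ⟨c, s, hs, hsy⟩ := residueField_exists_frac 𝔮 y
  have hs0 : algebraMap C 𝔮.ResidueField s ≠ 0 := by
    rwa [Ne, Ideal.algebraMap_residueField_eq_zero]
  have hy : y = algebraMap C 𝔮.ResidueField c / algebraMap C 𝔮.ResidueField s := by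
    rw [eq_div_iff hs0, mul_comm]
    exact hsy
  rw [hy]
  have h1 : IsAlgebraic 𝔭.ResidueField (algebraMap C 𝔮.ResidueField c) := (hC c).isAlgebraic
  have h2 : IsAlgebraic 𝔭.ResidueField (algebraMap C 𝔮.ResidueField s) := (hC s).isAlgebraic
  rw [div_eq_mul_inv]
  exact h1.mul h2.inv

/-- A point of `C` over each residue field of `A`, valued in the algebraic closure. -/
theorem exists_toAlgClosure {C : Type u} [CommRing C] [Algebra A C] [Algebra.IsIntegral A C]
    (hker : RingHom.ker (algebraMap A C) ≤ nilradical A) (𝔭 : PrimeSpectrum A) :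
    ∃ g : C →+* AlgebraicClosure 𝔭.asIdeal.ResidueField,
      g.comp (algebraMap A C) = algebraMap A (AlgebraicClosure 𝔭.asIdeal.ResidueField) := by
  haveI := 𝔭.isPrime
  have hle : (⊥ : Ideal C).comap (algebraMap A C) ≤ 𝔭.asIdeal := by
    intro a ha
    have h1 : a ∈ RingHom.ker (algebraMap A C) := ha
    have h2 := hker h1
    rw [mem_nilradical, nilpotent_iff_mem_prime] at h2
    exact h2 _ inferInstance
  obtain ⟨𝔮, -, h𝔮p, h𝔮⟩ := Ideal.exists_ideal_over_prime_of_isIntegral 𝔭.asIdeal
    (⊥ : Ideal C) hle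
  letI : Algebra 𝔭.asIdeal.ResidueField 𝔮.ResidueField :=
    (Ideal.ResidueField.map 𝔭.asIdeal 𝔮 (algebraMap A C) h𝔮.symm).toAlgebra
  have hm : ∀ a : A, algebraMap 𝔭.asIdeal.ResidueField 𝔮.ResidueField
      (algebraMap A 𝔭.asIdeal.ResidueField a) =
      algebraMap C 𝔮.ResidueField (algebraMap A C a) :=
    fun a => Ideal.ResidueField.map_algebraMap 𝔭.asIdeal 𝔮 (algebraMap A C) h𝔮.symm a
  haveI : Algebra.IsAlgebraic 𝔭.asIdeal.ResidueField 𝔮.ResidueField :=
    isAlgebraic_residueField 𝔭.asIdeal 𝔮 h𝔮.symm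
  let f : 𝔮.ResidueField →ₐ[𝔭.asIdeal.ResidueField] AlgebraicClosure 𝔭.asIdeal.ResidueField :=
    IsAlgClosed.lift
  refine ⟨f.toRingHom.comp (algebraMap C 𝔮.ResidueField), ?_⟩
  ext a
  simp only [RingHom.comp_apply]
  rw [← hm]
  change f (algebraMap 𝔭.asIdeal.ResidueField 𝔮.ResidueField
    (algebraMap A 𝔭.asIdeal.ResidueField a)) = _
  rw [f.commutes, ← IsScalarTower.algebraMap_apply]

variable (A)

/-- The absolute weak normalization of `A`, as a subalgebra of `BigProd A`. -/
noncomputable abbrev awn : Subalgebra A (BigProd A) := wnSubalgebra A (BigProd A)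

theorem isRingAWN_awn : HTop.IsRingAWN (algebraMap A (awn A)) := by
  refine ⟨isUnivHomeo_of_UHs (ker_bigProd_le A) UHs_wnSubalgebra, ?_⟩
  intro C _ ψ hψ
  letI : Algebra A C := ψ.toAlgebra
  have hψ' : FlatMor.IsUnivHomeo (Spec.map (CommRingCat.ofHom (algebraMap A C))) := hψ
  obtain ⟨hint, hPU, hker⟩ := (isUnivHomeo_iff_alg A C).mp hψ'
  choose g hg using fun 𝔭 : PrimeSpectrum A => exists_toAlgClosure (C := C) hker 𝔭
  let G : C →ₐ[A] BigProd A :=
    { Pi.ringHom g with
      commutes' := fun a => by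
        funext 𝔭
        exact congr($(hg 𝔭) a) }
  have hle : G.range ≤ awn A := le_wnSubalgebra (UHs_range G hint hPU)
  refine ⟨((Subalgebra.inclusion hle).comp G.rangeRestrict).toRingHom, ?_, ?_⟩
  · apply RingHom.ext
    intro a
    exact ((Subalgebra.inclusion hle).comp G.rangeRestrict).commutes a
  · intro χ hχ
    apply RingHom.ext
    intro c
    apply Subtype.ext
    funext 𝔭
    have h := hPU (AlgebraicClosure 𝔭.asIdeal.ResidueField)
      ((Pi.evalRingHom _ 𝔭).comp ((awn A).val.toRingHom.comp χ))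
      ((Pi.evalRingHom _ 𝔭).comp ((awn A).val.toRingHom.comp
        ((Subalgebra.inclusion hle).comp G.rangeRestrict).toRingHom)) (by
        ext a
        have e1 : χ (ψ a) = algebraMap A (awn A) a := congr($hχ a)
        have e2 : ((Subalgebra.inclusion hle).comp G.rangeRestrict) (algebraMap A C a) =
            algebraMap A (awn A) a :=
          ((Subalgebra.inclusion hle).comp G.rangeRestrict).commutes a
        simp only [RingHom.comp_apply]
        change Pi.evalRingHom _ 𝔭 ((awn A).val (χ (ψ a))) =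
          Pi.evalRingHom _ 𝔭 ((awn A).val
            (((Subalgebra.inclusion hle).comp G.rangeRestrict) (algebraMap A C a)))
        rw [e1, e2])
    exact congr($h c)

theorem exists_isRingAWN : ∃ (B : Type u) (_ : CommRing B) (φ : A →+* B), HTop.IsRingAWN φ :=
  ⟨awn A, inferInstance, algebraMap A (awn A), isRingAWN_awn A⟩

end AWNexists

end Groth.Agent.Lib.UnivHomeo
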