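import Mathlib
import Groth.Agent.Lib.UnivHomeo24_helper6
set_option autoImplicit false
universe u

namespace Groth.Agent.Lib.UnivHomeo

section SNLoc

open AlgebraicGeometry CategoryTheory MorphismProperty Limits

/-- In a reduced ring, the seminormality condition only needs existence. -/
theorem isSeminormalRing_of_exists {A : Type u} [CommRing A] [IsReduced A]
    (h : ∀ x y : A, x ^ 3 = y ^ 2 → ∃ a : A, x = a ^ 2 ∧ y = a ^ 3) : HTop.IsSeminormalRing A := by
  intro x y hxy
  obtain ⟨a, ha2, ha3⟩ := h x y hxy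
  refine ⟨a, ⟨ha2, ha3⟩, ?_⟩
  rintro b ⟨hb2, hb3⟩
  exact eq_of_sq_eq_of_cube_eq_of_isReduced (by rw [← hb2, ← ha2]) (by rw [← hb3, ← ha3])

/-- Localizations of seminormal rings are seminormal. -/
theorem isSeminormalRing_of_isLocalization {A B : Type u} [CommRing A] [CommRing B] [Algebra A B]
    (M : Submonoid A) [IsLocalization M B] (hA : HTop.IsSeminormalRing A) :
    HTop.IsSeminormalRing B := by
  haveI := isReduced_of_isSeminormalRing hA
  haveI : IsReduced B := isReduced_localizationPreserves M B inferInstance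
  apply isSeminormalRing_of_exists
  intro x y hxy
  obtain ⟨⟨a, s⟩, hs⟩ := IsLocalization.surj M x
  obtain ⟨⟨b, t⟩, ht⟩ := IsLocalization.surj M y
  simp only at hs ht
  -- common denominators
  have hx : x * algebraMap A B ((s * t : M) : A) ^ 2 = algebraMap A B (a * s * t ^ 2) := by
    simp only [Submonoid.coe_mul, map_mul, map_pow, ← hs]; ring
  have hy : y * algebraMap A B ((s * t : M) : A) ^ 3 = algebraMap A B (b * s ^ 3 * t ^ 2) := by
    simp only [Submonoid.coe_mul, map_mul, map_pow, ← ht]; ring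
  have h0 : algebraMap A B ((a * s * t ^ 2) ^ 3) = algebraMap A B ((b * s ^ 3 * t ^ 2) ^ 2) := by
    rw [map_pow, map_pow, ← hx, ← hy, mul_pow, mul_pow, hxy]; ring
  obtain ⟨m, hm⟩ := (IsLocalization.eq_iff_exists M B).mp h0
  have h1 : ((a * s * t ^ 2) * (m : A) ^ 2) ^ 3 = ((b * s ^ 3 * t ^ 2) * (m : A) ^ 3) ^ 2 := by
    have : ((a * s * t ^ 2) * (m : A) ^ 2) ^ 3 = (m : A) ^ 5 * ((m : A) * (a * s * t ^ 2) ^ 3) := by
      ring
    rw [this, hm]; ring
  obtain ⟨c, ⟨hc2, hc3⟩, -⟩ := hA _ _ h1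
  have hu : IsUnit (algebraMap A B ((s * t * m : M) : A)) := IsLocalization.map_units B (s * t * m)
  obtain ⟨v, hv⟩ := hu
  refine ⟨algebraMap A B c * ↑v⁻¹, ?_, ?_⟩
  · have e : x * (v : B) ^ 2 = algebraMap A B c ^ 2 := by
      rw [← map_pow, ← hc2, hv]
      simp only [Submonoid.coe_mul, map_mul, map_pow] at hx ⊢
      rw [← hs]; ring
    rw [mul_pow, ← e, ← Units.val_pow_eq_pow_val, ← Units.val_pow_eq_pow_val, mul_assoc,
      ← Units.val_mul, ← mul_pow, mul_inv_cancel, one_pow, Units.val_one, mul_one]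
  · have e : y * (v : B) ^ 3 = algebraMap A B c ^ 3 := by
      rw [← map_pow, ← hc3, hv]
      simp only [Submonoid.coe_mul, map_mul, map_pow] at hy ⊢
      rw [← ht]; ring
    rw [mul_pow, ← e, ← Units.val_pow_eq_pow_val, ← Units.val_pow_eq_pow_val, mul_assoc,
      ← Units.val_mul, ← mul_pow, mul_inv_cancel, one_pow, Units.val_one, mul_one]

/-- Open subschemes of seminormal schemes are seminormal. -/
theorem isSeminormal_opens {X : Scheme.{u}} (hX : HTop.IsSeminormal X) (U : X.Opens) :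
    HTop.IsSeminormal (U : Scheme.{u}) := by
  intro x
  obtain ⟨V, hxV, hV⟩ := hX (U.ι x)
  obtain ⟨f, hfU, hxf⟩ := V.2.exists_basicOpen_le (V := U) ⟨U.ι x, x.2⟩ hxV
  have hD : IsAffineOpen (X.basicOpen f) := V.2.basicOpen f
  have hle : X.basicOpen f ≤ U.ι.opensRange := by
    rw [Scheme.Opens.opensRange_ι]; exact hfU
  have hD' : IsAffineOpen (U.ι ⁻¹ᵁ X.basicOpen f) := hD.preimage_of_isOpenImmersion U.ι hle
  refine ⟨⟨U.ι ⁻¹ᵁ X.basicOpen f, hD'⟩, hxf, ?_⟩
  haveI := V.2.isLocalization_basicOpen f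
  have h1 : HTop.IsSeminormalRing Γ(X, X.basicOpen f) :=
    isSeminormalRing_of_isLocalization (Submonoid.powers f) hV
  haveI : IsIso (U.ι.app (X.basicOpen f)) := U.ι.isIso_app _ hle
  exact isSeminormalRing_of_ringEquiv
    (asIso (U.ι.app (X.basicOpen f))).commRingCatIsoToRingEquiv.symm h1

/-- A universal homeomorphism with trivial residue field extensions and seminormal source is a
seminormalization. -/
theorem isSeminormalization_of_isSeminormal {X' X : Scheme.{u}} (ν : X' ⟶ X)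
    (hU : FlatMor.IsUnivHomeo ν) (hres : HTop.ResidueFieldsIso ν) (hX' : HTop.IsSeminormal X') :
    HTop.IsSeminormalization ν := by
  refine ⟨⟨hU, hres⟩, ?_⟩
  intro Y π hπ hπres
  haveI : Surjective π := ((isUnivHomeo_iff _).mp hπ).2.2
  exact existsUnique_lift_of_isSeminormal hX' π hπ (fieldLift_of_residueFieldsIso π hπres) ν

theorem residueFieldsIso_morphismRestrict {X' X : Scheme.{u}} (ν : X' ⟶ X)
    (hres : HTop.ResidueFieldsIso ν) (U : X.Opens) : HTop.ResidueFieldsIso (ν ∣_ U) :=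
  isIso_residueFieldMap_of_comm (ν ∣_ U) U.ι (ν ⁻¹ᵁ U).ι ν (morphismRestrict_ι ν U)
    (fun _ => inferInstance) (fun _ => inferInstance) hres

end SNLoc

end Groth.Agent.Lib.UnivHomeo
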