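import Mathlib
import Groth.Agent.Lib.UnivHomeo18_helper6
import Groth.Agent.Lib.UnivHomeo16_helper6
import Groth.Agent.Lib.UnivHomeo25_helper6
set_option autoImplicit false
universe u

open TensorProduct

namespace Groth.Agent.Lib.UnivHomeo

section AWNfun

open AlgebraicGeometry CategoryTheory

/-- Ring maps out of the target of a `PU` map into a reduced ring are determined by their
restriction. -/
theorem ringHom_ext_of_PU {A C R : Type u} [CommRing A] [CommRing C] [CommRing R] [Algebra A C]
    [IsReduced R] (hPU : PU A C) (g₁ g₂ : C →+* R)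
    (h : g₁.comp (algebraMap A C) = g₂.comp (algebraMap A C)) : g₁ = g₂ := by
  ext c
  rw [← sub_eq_zero]
  have hn : IsNilpotent (g₁ c - g₂ c) := by
    rw [nilpotent_iff_mem_prime]
    intro 𝔮 h𝔮
    have := hPU 𝔮.ResidueField ((algebraMap R 𝔮.ResidueField).comp g₁)
      ((algebraMap R 𝔮.ResidueField).comp g₂) (by
        rw [RingHom.comp_assoc, RingHom.comp_assoc, h])
    have h2 : algebraMap R 𝔮.ResidueField (g₁ c - g₂ c) = 0 := by
      rw [map_sub, sub_eq_zero]
      exact congr($this c)
    exact Ideal.algebraMap_residueField_eq_zero.mp h2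
  exact hn.eq_zero

/-- Base change of universal homeomorphisms, ring level. -/
theorem isUnivHomeo_tensor {A C W : Type u} [CommRing A] [CommRing C] [CommRing W] [Algebra A C]
    [Algebra A W] (h : FlatMor.IsUnivHomeo (Spec.map (CommRingCat.ofHom (algebraMap A C)))) :
    FlatMor.IsUnivHomeo (Spec.map (CommRingCat.ofHom (algebraMap W (W ⊗[A] C)))) := by
  obtain ⟨hint, hPU, hker⟩ := (isUnivHomeo_iff_alg A C).mp h
  rw [isUnivHomeo_iff_alg]
  refine ⟨inferInstance, ?_, ?_⟩
  · intro K _ ψ₁ ψ₂ h12
    have hC : ψ₁.comp (Algebra.TensorProduct.includeRight (R := A) (A := W) (B := C)).toRingHom =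
        ψ₂.comp (Algebra.TensorProduct.includeRight (R := A) (A := W) (B := C)).toRingHom := by
      apply hPU
      ext a
      simp only [RingHom.comp_apply, AlgHom.toRingHom_eq_coe, RingHom.coe_coe,
        Algebra.TensorProduct.includeRight_apply]
      have e : (1 : W) ⊗ₜ[A] (algebraMap A C a) = algebraMap W (W ⊗[A] C) (algebraMap A W a) := by
        rw [Algebra.TensorProduct.algebraMap_apply, Algebra.algebraMap_self, RingHom.id_apply,
          Algebra.algebraMap_eq_smul_one, Algebra.algebraMap_eq_smul_one, smul_tmul]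
      rw [e]
      exact congr($h12 (algebraMap A W a))
    refine RingHom.ext fun t => ?_
    induction t using TensorProduct.induction_on with
    | zero => simp
    | tmul w c =>
      have e : w ⊗ₜ[A] c = algebraMap W (W ⊗[A] C) w *
          (Algebra.TensorProduct.includeRight (R := A) (A := W) (B := C)) c := by
        rw [Algebra.TensorProduct.algebraMap_apply, Algebra.algebraMap_self, RingHom.id_apply,
          Algebra.TensorProduct.includeRight_apply, Algebra.TensorProduct.tmul_mul_tmul, mul_one,
          one_mul]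
      rw [e, map_mul, map_mul]
      congr 1
      · exact congr($h12 w)
      · exact congr($hC c)
    | add x y hx hy => rw [map_add, map_add, hx, hy]
  · intro w hw
    rw [mem_nilradical, nilpotent_iff_mem_prime]
    intro 𝔮 h𝔮
    obtain ⟨K', _, ι, ψ', hψ'⟩ := exists_field_ext (A := A) (B := C) hker 𝔮.ResidueField
      ((algebraMap W 𝔮.ResidueField).comp (algebraMap A W))
    letI : Algebra A K' := (ι.comp ((algebraMap W 𝔮.ResidueField).comp (algebraMap A W))).toAlgebra
    let f₁ : W →ₐ[A] K' :=
      { ι.comp (algebraMap W 𝔮.ResidueField) with commutes' := fun a => rfl }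
    let f₂ : C →ₐ[A] K' := { ψ' with commutes' := fun a => congr($hψ' a) }
    have h0 : Algebra.TensorProduct.productMap f₁ f₂ (algebraMap W (W ⊗[A] C) w) = 0 := by
      rw [RingHom.mem_ker.mp hw, map_zero]
    rw [Algebra.TensorProduct.algebraMap_apply, Algebra.algebraMap_self, RingHom.id_apply,
      Algebra.TensorProduct.productMap_apply_tmul, map_one, mul_one] at h0
    have h1 : ι (algebraMap W 𝔮.ResidueField w) = 0 := h0
    have h2 : algebraMap W 𝔮.ResidueField w = 0 := (map_eq_zero ι).mp h1
    exact Ideal.algebraMap_residueField_eq_zero.mp h2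

theorem isUnivHomeo_quotient_nilradical (T : Type u) [CommRing T] :
    FlatMor.IsUnivHomeo (Spec.map (CommRingCat.ofHom (algebraMap T (T ⧸ nilradical T)))) := by
  rw [isUnivHomeo_iff_alg]
  refine ⟨⟨fun x => ?_⟩, ?_, ?_⟩
  · obtain ⟨w, rfl⟩ := Ideal.Quotient.mk_surjective x
    exact isIntegral_algebraMap
  · intro K _ ψ₁ ψ₂ h12
    exact Ideal.Quotient.ringHom_ext h12
  · intro w hw
    have : Ideal.Quotient.mk (nilradical T) w = 0 := hw
    exact Ideal.Quotient.eq_zero_iff_mem.mp this

instance isReduced_quotient_nilradical (T : Type u) [CommRing T] : IsReduced (T ⧸ nilradical T) :=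
  (Ideal.isRadical_iff_quotient_reduced _).mp (Ideal.radical_isRadical _)

/-- A universal homeomorphism onto an absolutely weakly normal ring is an absolute weak
normalization. -/
theorem isRingAWN_of_isAWNRing {A W : Type u} [CommRing A] [CommRing W] (ψ : A →+* W)
    (hψ : FlatMor.IsUnivHomeo (Spec.map (CommRingCat.ofHom ψ))) (hW : HTop.IsAWNRing W) :
    HTop.IsRingAWN ψ := by
  refine ⟨hψ, ?_⟩
  intro C _ θ hθ
  letI : Algebra A C := θ.toAlgebra
  letI : Algebra A W := ψ.toAlgebra
  haveI : IsReduced W := isReduced_of_isSeminormalRing hW.1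
  have hθ' : FlatMor.IsUnivHomeo (Spec.map (CommRingCat.ofHom (algebraMap A C))) := hθ
  have hT : FlatMor.IsUnivHomeo (Spec.map (CommRingCat.ofHom (algebraMap W (W ⊗[A] C)))) :=
    isUnivHomeo_tensor hθ'
  have hρ := isUnivHomeo_ringHom_comp _ _ hT (isUnivHomeo_quotient_nilradical (W ⊗[A] C))
  have hbij := bijective_of_isAWNRing _ hρ hW
  let e := RingEquiv.ofBijective _ hbij
  have hex : (e.symm.toRingHom.comp ((algebraMap (W ⊗[A] C) ((W ⊗[A] C) ⧸ nilradical (W ⊗[A] C))).comp
      (Algebra.TensorProduct.includeRight (R := A) (A := W) (B := C)).toRingHom)).comp θ = ψ := by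
    ext a
    apply e.injective
    simp only [RingHom.comp_apply, RingEquiv.toRingHom_eq_coe, RingHom.coe_coe,
      RingEquiv.apply_symm_apply, AlgHom.toRingHom_eq_coe, Algebra.TensorProduct.includeRight_apply]
    change _ = (algebraMap (W ⊗[A] C) ((W ⊗[A] C) ⧸ nilradical (W ⊗[A] C)))
      (algebraMap W (W ⊗[A] C) (ψ a))
    congr 1
    rw [Algebra.TensorProduct.algebraMap_apply, Algebra.algebraMap_self, RingHom.id_apply]
    change (1 : W) ⊗ₜ[A] (algebraMap A C a) = (algebraMap A W a) ⊗ₜ[A] (1 : C)
    rw [Algebra.algebraMap_eq_smul_one, Algebra.algebraMap_eq_smul_one, smul_tmul]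
  refine ⟨_, hex, ?_⟩
  intro χ hχ
  obtain ⟨-, hPU, -⟩ := (isUnivHomeo_iff_alg A C).mp hθ'
  exact ringHom_ext_of_PU hPU χ _ (hχ.trans hex.symm)

/-- Localizations of absolutely weakly normal rings are absolutely weakly normal. -/
theorem isAWNRing_of_isLocalization {A B : Type u} [CommRing A] [CommRing B] [Algebra A B]
    (M : Submonoid A) [IsLocalization M B] (hA : HTop.IsAWNRing A) : HTop.IsAWNRing B := by
  haveI := isReduced_of_isSeminormalRing hA.1
  haveI : IsReduced B := isReduced_localizationPreserves M B inferInstance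
  refine ⟨isSeminormalRing_of_isLocalization M hA.1, ?_⟩
  intro p hp x y hxy
  have hp0 : p ≠ 0 := hp.ne_zero
  obtain ⟨⟨a, s⟩, hs⟩ := IsLocalization.surj M x
  obtain ⟨⟨b, t⟩, ht⟩ := IsLocalization.surj M y
  simp only at hs ht
  -- common denominator u = s * t: x u^p = a s^(p-1) t^p, y u = b s
  have hx : x * algebraMap A B ((s * t : M) : A) ^ p =
      algebraMap A B (a * (s : A) ^ (p - 1) * (t : A) ^ p) := by
    obtain ⟨q, rfl⟩ : ∃ q, p = q + 1 := Nat.exists_eq_succ_of_ne_zero hp0
    simp only [Submonoid.coe_mul, map_mul, map_pow, ← hs, Nat.add_sub_cancel]; ring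
  have hy : y * algebraMap A B ((s * t : M) : A) = algebraMap A B (b * (s : A)) := by
    simp only [Submonoid.coe_mul, map_mul, ← ht]; ring
  have h0 : algebraMap A B ((p : A) ^ p * (a * (s : A) ^ (p - 1) * (t : A) ^ p)) =
      algebraMap A B ((b * (s : A)) ^ p) := by
    rw [map_mul, map_pow, map_natCast, ← hx, map_pow, ← hy, mul_pow, ← hxy]; ring
  obtain ⟨m, hm⟩ := (IsLocalization.eq_iff_exists M B).mp h0
  have h1 : (p : A) ^ p * ((a * (s : A) ^ (p - 1) * (t : A) ^ p) * (m : A) ^ p) =
      ((b * (s : A)) * (m : A)) ^ p := by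
    obtain ⟨q, rfl⟩ : ∃ q, p = q + 1 := Nat.exists_eq_succ_of_ne_zero hp0
    have e1 : ((q + 1 : ℕ) : A) ^ (q + 1) * ((a * (s : A) ^ (q + 1 - 1) * (t : A) ^ (q + 1)) *
        (m : A) ^ (q + 1)) = (m : A) ^ q * ((m : A) * (((q + 1 : ℕ) : A) ^ (q + 1) *
          (a * (s : A) ^ (q + 1 - 1) * (t : A) ^ (q + 1)))) := by ring
    rw [e1, hm]; ring
  obtain ⟨c, ⟨hc1, hc2⟩, -⟩ := hA.2 p hp _ _ h1
  have hu : IsUnit (algebraMap A B ((s * t * m : M) : A)) := IsLocalization.map_units B (s * t * m)
  obtain ⟨v, hv⟩ := hu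
  have ex : x * (v : B) ^ p = algebraMap A B c ^ p := by
    rw [← map_pow, ← hc1, hv]
    simp only [Submonoid.coe_mul, map_mul, map_pow] at hx ⊢
    rw [← hx]; ring
  have ey : y * (v : B) = (p : B) * algebraMap A B c := by
    rw [← map_natCast (algebraMap A B), ← map_mul, ← hc2, hv]
    simp only [Submonoid.coe_mul, map_mul] at hy ⊢
    rw [← hy]; ring
  refine ⟨algebraMap A B c * ↑v⁻¹, ⟨?_, ?_⟩, ?_⟩
  · rw [mul_pow, ← ex, ← Units.val_pow_eq_pow_val, ← Units.val_pow_eq_pow_val, mul_assoc,
      ← Units.val_mul, ← mul_pow, mul_inv_cancel, one_pow, Units.val_one, mul_one]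
  · rw [← mul_assoc, ← ey, mul_assoc, ← Units.val_mul, mul_inv_cancel, Units.val_one, mul_one]
  · rintro d ⟨hd1, hd2⟩
    apply eq_of_prime_mul_eq_of_pow_eq_of_isReduced p hp
    · rw [← hd2, ← mul_assoc, ← ey, mul_assoc, ← Units.val_mul, mul_inv_cancel, Units.val_one,
        mul_one]
    · rw [← hd1, mul_pow, ← ex, ← Units.val_pow_eq_pow_val, ← Units.val_pow_eq_pow_val, mul_assoc,
        ← Units.val_mul, ← mul_pow, mul_inv_cancel, one_pow, Units.val_one, mul_one]

theorem PU_awn (A : Type u) [CommRing A] : PU A (awn A) :=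
  ((isUnivHomeo_iff_alg A (awn A)).mp (isRingAWN_awn A).1).2.1

instance isReduced_awn (A : Type u) [CommRing A] : IsReduced (awn A) :=
  awn_isReduced (isRingAWN_awn A)

theorem existsUnique_awnMap {A B : Type u} [CommRing A] [CommRing B] (f : A →+* B) :
    ∃! g : awn A →+* awn B, g.comp (algebraMap A (awn A)) = (algebraMap B (awn B)).comp f := by
  letI : Algebra A B := f.toAlgebra
  have hT : FlatMor.IsUnivHomeo (Spec.map (CommRingCat.ofHom (algebraMap B (B ⊗[A] awn A)))) :=
    isUnivHomeo_tensor (isRingAWN_awn A).1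
  obtain ⟨χ, hχ, -⟩ := (isRingAWN_awn B).2 (B ⊗[A] awn A) (algebraMap B (B ⊗[A] awn A)) hT
  have hex : (χ.comp (Algebra.TensorProduct.includeRight (R := A) (A := B)
      (B := awn A)).toRingHom).comp (algebraMap A (awn A)) = (algebraMap B (awn B)).comp f := by
    refine RingHom.ext fun a => ?_
    simp only [RingHom.comp_apply, AlgHom.toRingHom_eq_coe, RingHom.coe_coe,
      Algebra.TensorProduct.includeRight_apply]
    have e : (1 : B) ⊗ₜ[A] (algebraMap A (awn A) a) = algebraMap B (B ⊗[A] awn A) (f a) := by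
      rw [Algebra.TensorProduct.algebraMap_apply, Algebra.algebraMap_self, RingHom.id_apply]
      change _ = (algebraMap A B a) ⊗ₜ[A] (1 : awn A)
      rw [Algebra.algebraMap_eq_smul_one, Algebra.algebraMap_eq_smul_one (A := B), smul_tmul]
    rw [e]
    exact congr($hχ (f a))
  refine ⟨_, hex, ?_⟩
  intro g hg
  exact ringHom_ext_of_PU (PU_awn A) g _ (hg.trans hex.symm)

/-- Functoriality of the absolute weak normalization. -/
noncomputable def awnMap {A B : Type u} [CommRing A] [CommRing B] (f : A →+* B) :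
    awn A →+* awn B := (existsUnique_awnMap f).choose

theorem awnMap_comp_algebraMap {A B : Type u} [CommRing A] [CommRing B] (f : A →+* B) :
    (awnMap f).comp (algebraMap A (awn A)) = (algebraMap B (awn B)).comp f :=
  (existsUnique_awnMap f).choose_spec.1

theorem awnMap_algebraMap {A B : Type u} [CommRing A] [CommRing B] (f : A →+* B) (a : A) :
    awnMap f (algebraMap A (awn A) a) = algebraMap B (awn B) (f a) :=
  congr($(awnMap_comp_algebraMap f) a)

theorem awnMap_unique {A B : Type u} [CommRing A] [CommRing B] (f : A →+* B)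
    (g : awn A →+* awn B)
    (hg : g.comp (algebraMap A (awn A)) = (algebraMap B (awn B)).comp f) : g = awnMap f :=
  (existsUnique_awnMap f).choose_spec.2 g hg

theorem awnMap_id (A : Type u) [CommRing A] : awnMap (RingHom.id A) = RingHom.id (awn A) :=
  (awnMap_unique (RingHom.id A) (RingHom.id (awn A)) (by
    rw [RingHom.id_comp, RingHom.comp_id])).symm

theorem awnMap_comp {A B C : Type u} [CommRing A] [CommRing B] [CommRing C] (f : A →+* B)
    (g : B →+* C) : awnMap (g.comp f) = (awnMap g).comp (awnMap f) :=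
  (awnMap_unique _ _ (by
    refine RingHom.ext fun a => ?_
    simp only [RingHom.comp_apply]
    rw [awnMap_algebraMap, awnMap_algebraMap])).symm

/-- The absolute weak normalization commutes with localization away from an element. -/
theorem isLocalization_awnMap {A A' : Type u} [CommRing A] [CommRing A'] [Algebra A A'] (f : A)
    [IsLocalization.Away f A'] :
    letI := (awnMap (algebraMap A A')).toAlgebra
    IsLocalization.Away (algebraMap A (awn A) f) (awn A') := by
  letI := (awnMap (algebraMap A A')).toAlgebra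
  -- the localization of `awn A`
  let W := Localization.Away (algebraMap A (awn A) f)
  have hfu : IsUnit ((algebraMap (awn A) W).comp (algebraMap A (awn A)) f) :=
    IsLocalization.Away.algebraMap_isUnit (algebraMap A (awn A) f)
  let ψ : A' →+* W := IsLocalization.Away.lift f hfu
  have hψ : ∀ a : A, ψ (algebraMap A A' a) = algebraMap (awn A) W (algebraMap A (awn A) a) :=
    fun a => IsLocalization.Away.lift_eq f hfu a
  obtain ⟨hintA, hPUA, hkerA⟩ := (isUnivHomeo_iff_alg A (awn A)).mp (isRingAWN_awn A).1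
  letI : Algebra A' W := ψ.toAlgebra
  have hψU : FlatMor.IsUnivHomeo (Spec.map (CommRingCat.ofHom ψ)) := by
    change FlatMor.IsUnivHomeo (Spec.map (CommRingCat.ofHom (algebraMap A' W)))
    rw [isUnivHomeo_iff_alg]
    refine ⟨⟨fun w => ?_⟩, ?_, ?_⟩
    · obtain ⟨⟨b, s⟩, hs⟩ := IsLocalization.surj (Submonoid.powers (algebraMap A (awn A) f)) w
      obtain ⟨n, hn⟩ := s.2
      simp only at hs hn
      have hb : IsIntegral A' (algebraMap (awn A) W b) :=
        IsIntegral.map_of_comp_eq (algebraMap A A') (algebraMap (awn A) W)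
          (RingHom.ext fun a => hψ a) (hintA.isIntegral b)
      obtain ⟨v, hv⟩ := IsLocalization.Away.algebraMap_isUnit (S := A') f
      have hw : w = algebraMap (awn A) W b * ψ (↑(v⁻¹ ^ n)) := by
        rw [← hs, ← hn, map_pow, ← hψ, ← hv, mul_assoc, ← map_pow, ← map_mul, ← Units.val_pow_eq_pow_val,
          ← Units.val_mul, ← mul_pow, mul_inv_cancel, one_pow, Units.val_one, map_one, mul_one]
      rw [hw]
      exact hb.mul isIntegral_algebraMap
    · intro K _ ψ₁ ψ₂ h12
      have h1 : ψ₁.comp (algebraMap (awn A) W) = ψ₂.comp (algebraMap (awn A) W) := by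
        apply hPUA
        refine RingHom.ext fun a => ?_
        simp only [RingHom.comp_apply]
        rw [← hψ]
        exact congr($h12 (algebraMap A A' a))
      exact IsLocalization.ringHom_ext (Submonoid.powers (algebraMap A (awn A) f)) h1
    · intro a' ha'
      obtain ⟨⟨a, s⟩, hs⟩ := IsLocalization.surj (Submonoid.powers f) a'
      obtain ⟨n, hn⟩ := s.2
      simp only at hs hn
      have h0 : algebraMap (awn A) W (algebraMap A (awn A) a) = 0 := by
        rw [← hψ, ← hs, map_mul]
        change algebraMap A' W a' * _ = 0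
        rw [RingHom.mem_ker.mp ha', zero_mul]
      obtain ⟨m, hm⟩ := (IsLocalization.map_eq_zero_iff
        (Submonoid.powers (algebraMap A (awn A) f)) W _).mp h0
      obtain ⟨k, hk⟩ := m.2
      simp only at hk
      have h1 : algebraMap A (awn A) (f ^ k * a) = 0 := by
        rw [map_mul, map_pow, hk]; exact hm
      have h2 : f ^ k * a ∈ nilradical A := hkerA (RingHom.mem_ker.mpr h1)
      obtain ⟨j, hj⟩ := mem_nilradical.mp h2
      rw [mem_nilradical]
      refine ⟨j, ?_⟩
      obtain ⟨v, hv⟩ := IsLocalization.Away.algebraMap_isUnit (S := A') f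
      have h3 : (algebraMap A A' f ^ k * (a' * algebraMap A A' ((s : A)))) ^ j = 0 := by
        rw [hs, ← map_pow, ← map_mul, ← map_pow, hj, map_zero]
      rw [← hn, map_pow, ← hv] at h3
      have h4 : ((v : A') ^ k * (a' * (v : A') ^ n)) ^ j = a' ^ j * ↑(v ^ ((k + n) * j)) := by
        rw [Units.val_pow_eq_pow_val]; ring
      rw [h4] at h3
      exact (Units.mul_left_eq_zero _).mp h3
  have hW : HTop.IsAWNRing W :=
    isAWNRing_of_isLocalization (Submonoid.powers (algebraMap A (awn A) f))
      (awn_isAWNRing (isRingAWN_awn A))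
  obtain ⟨χ, hχ, -⟩ := (isRingAWN_awn A').2 W ψ hψU
  have hbij : Function.Bijective χ :=
    (awn_comparison (algebraMap A' (awn A')) (isRingAWN_awn A') ψ hψU χ hχ).mpr hW
  have hcomm : χ.comp (algebraMap (awn A) W) = awnMap (algebraMap A A') := by
    apply awnMap_unique
    refine RingHom.ext fun a => ?_
    simp only [RingHom.comp_apply]
    rw [← hψ]
    exact congr($hχ (algebraMap A A' a))
  let e : W ≃ₐ[awn A] awn A' :=
    { RingEquiv.ofBijective χ hbij with
      commutes' := fun b => congr($hcomm b) }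
  exact IsLocalization.isLocalization_of_algEquiv
    (Submonoid.powers (algebraMap A (awn A) f)) e

end AWNfun

end Groth.Agent.Lib.UnivHomeo
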