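import Mathlib
import Groth.Agent.Lib.UnivHomeo27_helper6
import Groth.Agent.Lib.UnivHomeo4_helper6
set_option autoImplicit false
universe u

namespace Groth.Agent.Lib.UnivHomeo

section AWNglue

open AlgebraicGeometry CategoryTheory Limits Scheme.AffineZariskiSite

theorem awnMap_eq_id_of {A : Type u} [CommRing A] (f : A →+* A) (h : f = RingHom.id A) :
    awnMap f = RingHom.id (awn A) := by
  subst h; exact awnMap_id A

theorem awnMap_eq_comp_of {A B C : Type u} [CommRing A] [CommRing B] [CommRing C] (f : A →+* B)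
    (g : B →+* C) (h : A →+* C) (e : h = g.comp f) : awnMap h = (awnMap g).comp (awnMap f) := by
  subst e; exact awnMap_comp f g

variable (X : Scheme.{u})

/-- The presheaf of absolute weak normalizations on the affine Zariski site of `X`. -/
noncomputable def awnDiagram : X.AffineZariskiSiteᵒᵖ ⥤ CommRingCat.{u} where
  obj U := CommRingCat.of (awn Γ(X, U.unop.toOpens))
  map {U V} i := CommRingCat.ofHom (awnMap (A := Γ(X, U.unop.toOpens)) (B := Γ(X, V.unop.toOpens))
    (X.presheaf.map (homOfLE (toOpens_mono i.unop.le)).op).hom)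
  map_id U := by
    have : (homOfLE (toOpens_mono (𝟙 U).unop.le)).op = 𝟙 (Opposite.op U.unop.toOpens) :=
      Subsingleton.elim _ _
    exact congrArg CommRingCat.ofHom (awnMap_eq_id_of _ (by
      rw [this, X.presheaf.map_id]; rfl))
  map_comp {U V W} i j := by
    have : (homOfLE (toOpens_mono (i ≫ j).unop.le)).op =
        (homOfLE (toOpens_mono i.unop.le)).op ≫ (homOfLE (toOpens_mono j.unop.le)).op :=
      Subsingleton.elim _ _
    exact congrArg CommRingCat.ofHom (awnMap_eq_comp_of _ _ _ (by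
      rw [this, X.presheaf.map_comp]; rfl))

/-- The structure map of `awnDiagram`. -/
noncomputable def awnDiagramMap : (toOpensFunctor X).op ⋙ X.presheaf ⟶ awnDiagram X where
  app U := CommRingCat.ofHom (algebraMap Γ(X, U.unop.toOpens) (awn Γ(X, U.unop.toOpens)))
  naturality {U V} i := by
    ext x
    exact (awnMap_algebraMap (A := Γ(X, U.unop.toOpens)) (B := Γ(X, V.unop.toOpens)) _ x).symm

theorem coequifibered_awnDiagramMap : (awnDiagramMap X).Coequifibered := by
  refine coequifibered_iff_forall_isLocalizationAway.mpr fun U r => ?_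
  haveI : IsLocalization.Away r Γ(X, X.basicOpen r) := U.2.isLocalization_basicOpen r
  exact isLocalization_awnMap (A := Γ(X, U.toOpens)) (A' := Γ(X, X.basicOpen r)) r

/-- The gluing data for the absolute weak normalization. -/
noncomputable def awnGlueData := relativeGluingData (coequifibered_awnDiagramMap X)

/-- The absolute weak normalization of a scheme. -/
noncomputable def awnScheme : Scheme.{u} := (awnGlueData X).glued

/-- The structure morphism of the absolute weak normalization. -/
noncomputable def awnHom : awnScheme X ⟶ X := (awnGlueData X).toBase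

/-- Universal homeomorphisms can be detected on an open cover of the target. -/
theorem isUnivHomeo_of_forall_isPullback {Z Y : Scheme.{u}} (f : Z ⟶ Y) {ι : Type*}
    (U : ι → Y.Opens) (hU : iSup U = ⊤) (P : ι → Scheme.{u}) (fst : ∀ i, P i ⟶ (U i : Scheme.{u}))
    (snd : ∀ i, P i ⟶ Z) (h : ∀ i, IsPullback (fst i) (snd i) (U i).ι f)
    (hf : ∀ i, FlatMor.IsUnivHomeo (fst i)) : FlatMor.IsUnivHomeo f := by
  have key : ∀ i, FlatMor.IsUnivHomeo (f ∣_ U i) := by
    intro i
    have e := (isPullback_morphismRestrict f (U i)).isoIsPullback_hom_fst _ _ (h i)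
    have : (MorphismProperty.universally
        (AlgebraicGeometry.topologically (fun f => IsHomeomorph f))) (f ∣_ U i) := by
      rw [← e]
      exact (MorphismProperty.cancel_left_of_respectsIso _ _ _).mpr (hf i)
    exact this
  rw [isUnivHomeo_iff]
  refine ⟨?_, ?_, ?_⟩
  · exact IsZariskiLocalAtTarget.of_iSup_eq_top (P := @UniversallyClosed) U hU
      (fun i => ((isUnivHomeo_iff _).mp (key i)).1)
  · exact IsZariskiLocalAtTarget.of_iSup_eq_top (P := @UniversallyInjective) U hU
      (fun i => ((isUnivHomeo_iff _).mp (key i)).2.1)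
  · exact IsZariskiLocalAtTarget.of_iSup_eq_top (P := @Surjective) U hU
      (fun i => ((isUnivHomeo_iff _).mp (key i)).2.2)

theorem isUnivHomeo_of_isIso {Z Y : Scheme.{u}} (f : Z ⟶ Y) [IsIso f] : FlatMor.IsUnivHomeo f := by
  rw [isUnivHomeo_iff]
  exact ⟨inferInstance, inferInstance, inferInstance⟩

theorem isUnivHomeo_awnHom : FlatMor.IsUnivHomeo (awnHom X) := by
  refine isUnivHomeo_of_forall_isPullback (awnHom X)
    (fun U : X.AffineZariskiSite => U.toOpens) ?_ _ _ _
    (fun U => (awnGlueData X).isPullback_natTrans_ι_toBase U) ?_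
  · rw [eq_top_iff]
    rintro x -
    obtain ⟨U, hxU⟩ := TopologicalSpace.Opens.mem_iSup.mp
      ((iSup_affineOpens_eq_top X).ge (Set.mem_univ x))
    exact TopologicalSpace.Opens.mem_iSup.mpr ⟨U, hxU⟩
  · intro U
    change FlatMor.IsUnivHomeo (Spec.map ((awnDiagramMap X).app (.op U)) ≫ U.2.isoSpec.inv)
    exact isUnivHomeo_comp _ _ (isRingAWN_awn Γ(X, U.toOpens)).1 (isUnivHomeo_of_isIso _)

theorem isAWN_of_openCover_Spec {Z : Scheme.{u}} (𝒰 : Z.OpenCover)
    (R : 𝒰.I₀ → CommRingCat.{u}) (e : ∀ i, 𝒰.X i ≅ Spec (R i))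
    (hR : ∀ i, HTop.IsAWNRing (R i)) : HTop.IsAWN Z := by
  intro z
  obtain ⟨i, y, rfl⟩ := 𝒰.exists_eq z
  have hopen : IsOpenImmersion ((e i).inv ≫ 𝒰.f i) := inferInstance
  have haff : IsAffineOpen (((e i).inv ≫ 𝒰.f i) ''ᵁ ⊤) :=
    (isAffineOpen_top (Spec (R i))).image_of_isOpenImmersion _
  refine ⟨⟨_, haff⟩, ⟨(e i).hom y, trivial, ?_⟩, ?_⟩
  · change ((e i).hom ≫ (e i).inv ≫ 𝒰.f i) y = _
    rw [Iso.hom_inv_id_assoc]
  · exact isAWNRing_of_ringEquiv
      ((((e i).inv ≫ 𝒰.f i).appIso ⊤ ≪≫ Scheme.ΓSpecIso (R i)).commRingCatIsoToRingEquiv) (hR i)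

theorem isAWN_awnScheme : HTop.IsAWN (awnScheme X) :=
  isAWN_of_openCover_Spec (awnGlueData X).cover
    (fun U : X.AffineZariskiSite => CommRingCat.of (awn Γ(X, U.toOpens))) (fun U => Iso.refl _)
    (fun U => awn_isAWNRing (isRingAWN_awn Γ(X, U.toOpens)))

end AWNglue

end Groth.Agent.Lib.UnivHomeo
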