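import Mathlib
import Groth.Agent.Lib.GeomUnibranch_helper6
import Groth.Agent.Lib.UnivHomeo28_helper6
set_option autoImplicit false
universe u

/-!
# Normalization of a geometrically unibranch integral scheme in a purely inseparable extension
of its function field is a universal homeomorphism.
-/

namespace Groth.Agent.Lib.UnivHomeo

open AlgebraicGeometry CategoryTheory Limits Scheme.AffineZariskiSite

theorem isUnivHomeo_fromNormalization_of_forall {X Y : Scheme.{u}} (f : X ⟶ Y) [QuasiCompact f]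
    [QuasiSeparated f]
    (h : ∀ U : Y.affineOpens,
      FlatMor.IsUnivHomeo (Spec.map (f.normalizationDiagramMap.app (.op U.1)))) :
    FlatMor.IsUnivHomeo f.fromNormalization := by
  refine isUnivHomeo_of_forall_isPullback f.fromNormalization
    (fun U : Y.AffineZariskiSite => U.toOpens) ?_ _ _ _
    (fun U => f.normalizationGlueData.isPullback_natTrans_ι_toBase U) ?_
  · rw [eq_top_iff]
    rintro x -
    obtain ⟨U, hxU⟩ := TopologicalSpace.Opens.mem_iSup.mp
      ((iSup_affineOpens_eq_top Y).ge (Set.mem_univ x))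
    exact TopologicalSpace.Opens.mem_iSup.mpr ⟨U, hxU⟩
  · intro U
    change FlatMor.IsUnivHomeo (Spec.map (f.normalizationDiagramMap.app (.op U.toOpens)) ≫
      U.2.isoSpec.inv)
    exact isUnivHomeo_comp _ _ (h U) (isUnivHomeo_of_isIso _)

theorem isUnivHomeo_SpecMap_normalizationDiagramMap {X Y : Scheme.{u}} (f : X ⟶ Y) (U : Y.Opens)
    (hPU : letI := (f.app U).hom.toAlgebra
      PU Γ(Y, U) (integralClosure Γ(Y, U) Γ(X, f ⁻¹ᵁ U)))
    (hker : RingHom.ker (f.app U).hom ≤ nilradical Γ(Y, U)) :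
    FlatMor.IsUnivHomeo (Spec.map (f.normalizationDiagramMap.app (.op U))) := by
  letI := (f.app U).hom.toAlgebra
  change FlatMor.IsUnivHomeo (Spec.map (CommRingCat.ofHom
    (algebraMap Γ(Y, U) (integralClosure Γ(Y, U) Γ(X, f ⁻¹ᵁ U)))))
  rw [isUnivHomeo_iff_alg]
  refine ⟨inferInstance, hPU, ?_⟩
  intro a ha
  apply hker
  rw [RingHom.mem_ker] at ha ⊢
  have := congrArg (fun z : integralClosure Γ(Y, U) Γ(X, f ⁻¹ᵁ U) => (z : Γ(X, f ⁻¹ᵁ U))) ha
  exact this

theorem isUnivHomeo_fromNormalization_of_geomUnibranch (Y : Scheme.{u}) [IsIntegral Y]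
    (hY : ∀ y : Y, CAlg2.IsGeomUnibranch (Y.presheaf.stalk y))
    (Λ : CommRingCat.{u}) (hΛ : IsField Λ) (φ : Y.functionField ⟶ Λ)
    (hφ : ∀ x : Λ, ∃ n : ℕ, x ^ (ringExpChar Y.functionField) ^ n ∈ φ.hom.range)
    (f : Spec Λ ⟶ Y) (hf : f = Spec.map φ ≫ Y.fromSpecStalk (genericPoint Y))
    [QuasiCompact f] [QuasiSeparated f] :
    FlatMor.IsUnivHomeo f.fromNormalization := by
  classical
  letI : Field Λ := hΛ.toField
  apply isUnivHomeo_fromNormalization_of_forall
  intro U
  by_cases hne : Nonempty U.1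
  swap
  · -- empty affine open
    have hU : U.1 = ⊥ := by
      rw [← TopologicalSpace.Opens.not_nonempty_iff_eq_bot]
      intro h
      exact hne ⟨⟨h.some, h.some_mem⟩⟩
    have hsub : Subsingleton Γ(Y, U.1) := by rw [hU]; infer_instance
    apply isUnivHomeo_SpecMap_normalizationDiagramMap
    · letI := (f.app U.1).hom.toAlgebra
      intro Ω _ ψ₁ ψ₂ _
      exfalso
      have h10 : (1 : Γ(Y, U.1)) = 0 := Subsingleton.elim _ _
      have := congrArg (fun a => ψ₁ (algebraMap Γ(Y, U.1) _ a)) h10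
      simp at this
    · intro a _
      rw [Subsingleton.elim a 0]
      exact Ideal.zero_mem _
  · -- nonempty affine open
    haveI := hne
    have hηU : genericPoint Y ∈ U.1 :=
      ((genericPoint_spec Y).mem_open_set_iff U.1.isOpen).mpr (by simpa using hne)
    -- `f ⁻¹ᵁ U = ⊤`
    have hpre : f ⁻¹ᵁ U.1 = ⊤ := by
      rw [eq_top_iff]
      rintro z -
      show f z ∈ U.1
      have hz : f z = genericPoint Y := by
        rw [hf, Scheme.Hom.comp_apply]
        haveI : Subsingleton (Spec Y.functionField) :=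
          inferInstanceAs (Subsingleton (PrimeSpectrum Y.functionField))
        have : (Spec.map φ) z = IsLocalRing.closedPoint (Y.presheaf.stalk (genericPoint Y)) :=
          Subsingleton.elim (α := Spec Y.functionField) _ _
        rw [this, Scheme.fromSpecStalk_closedPoint]
      rw [hz]
      exact hηU
    have hiso : ∀ (V : (Spec Λ).Opens) (_ : V = ⊤),
        IsIso ((Spec Λ).presheaf.map (homOfLE (le_top : V ≤ ⊤)).op) := by
      rintro V rfl
      have : (homOfLE (le_top : (⊤ : (Spec Λ).Opens) ≤ ⊤)) = 𝟙 _ := Subsingleton.elim _ _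
      rw [this, op_id, CategoryTheory.Functor.map_id]
      infer_instance
    haveI := hiso _ hpre
    obtain ⟨ρ, hρ⟩ : ∃ ρ : Λ ⟶ Γ(Spec Λ, f ⁻¹ᵁ U.1), ρ = (Scheme.ΓSpecIso Λ).inv ≫
        (Spec Λ).presheaf.map (homOfLE (le_top : f ⁻¹ᵁ U.1 ≤ ⊤)).op := ⟨_, rfl⟩
    haveI : IsIso ρ := by rw [hρ]; infer_instance
    have hρbij : Function.Bijective ρ := ConcreteCategory.bijective_of_isIso ρ
    have happ : f.app U.1 = Y.presheaf.germ U.1 (genericPoint Y) hηU ≫ φ ≫ ρ := by
      subst hf
      rw [Scheme.Hom.comp_app, Scheme.fromSpecStalk_app hηU, hρ]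
      simp only [Category.assoc]
      rw [Scheme.Hom.naturality, Scheme.ΓSpecIso_inv_naturality_assoc φ]
      rfl
    have hgerminj : Function.Injective (Y.presheaf.germ U.1 (genericPoint Y) hηU) :=
      germ_injective_of_isIntegral Y _ hηU
    have hφinj : Function.Injective φ := by
      letI : Field Y.functionField := inferInstance
      exact (φ.hom : Y.functionField →+* Λ).injective
    have hfinj : Function.Injective (f.app U.1) := by
      rw [happ]
      exact hρbij.1.comp (hφinj.comp hgerminj)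
    have hfapply : ∀ a : Γ(Y, U.1), f.app U.1 a =
        ρ (φ (Y.presheaf.germ U.1 (genericPoint Y) hηU a)) := by
      intro a; rw [happ]; rfl
    apply isUnivHomeo_SpecMap_normalizationDiagramMap
    swap
    · intro a ha
      rw [RingHom.mem_ker] at ha
      have : a = 0 := hfinj (ha.trans (map_zero _).symm)
      rw [this]
      exact Ideal.zero_mem _
    letI := (f.app U.1).hom.toAlgebra
    have halg : ∀ a : Γ(Y, U.1), algebraMap Γ(Y, U.1) Γ(Spec Λ, f ⁻¹ᵁ U.1) a =
        ρ (φ (Y.presheaf.germ U.1 (genericPoint Y) hηU a)) := hfapply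
    haveI : IsFractionRing Γ(Y, U.1) Y.functionField :=
      functionField_isFractionRing_of_isAffineOpen Y U.1 U.2
    have hgermalg : ∀ a : Γ(Y, U.1), algebraMap Γ(Y, U.1) Y.functionField a =
        Y.presheaf.germ U.1 (genericPoint Y) hηU a := fun a => rfl
    obtain ⟨q, hq⟩ : ∃ q, q = ringExpChar Y.functionField := ⟨_, rfl⟩
    have hE : ExpChar Y.functionField q := hq ▸ ringExpChar.expChar _
    refine PU_integralClosure_of_geomUnibranch (A := Γ(Y, U.1)) (R := Γ(Spec Λ, f ⁻¹ᵁ U.1))
      ?_ hfinj q ?_ ?_ ?_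
    · exact MulEquiv.isField hΛ
        (RingEquiv.ofBijective ρ.hom hρbij).symm.toMulEquiv
    · cases hE with
      | zero => exact Or.inl rfl
      | prime hp =>
        refine Or.inr ⟨hp, ?_⟩
        apply hgerminj
        rw [map_natCast, map_zero]
        exact CharP.cast_eq_zero _ q
    · intro x
      obtain ⟨y, rfl⟩ := hρbij.2 x
      obtain ⟨n, k, hk⟩ := hφ y
      rw [← hq] at hk
      obtain ⟨⟨a, s⟩, has⟩ := IsLocalization.surj (nonZeroDivisors Γ(Y, U.1)) k
      refine ⟨n, a, s, nonZeroDivisors.ne_zero s.2, ?_⟩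
      rw [halg, halg, ← map_pow, ← hk, ← hgermalg, ← hgermalg, ← has, map_mul, map_mul]
    · intro 𝔭 h𝔭
      obtain ⟨y, rfl⟩ : ∃ y : PrimeSpectrum Γ(Y, U.1), y.asIdeal = 𝔭 := ⟨⟨𝔭, h𝔭⟩, rfl⟩
      have hx : U.2.fromSpec y ∈ U.1 := by
        have : U.2.fromSpec y ∈ Set.range U.2.fromSpec := ⟨y, rfl⟩
        rw [U.2.range_fromSpec] at this
        exact this
      refine ⟨Y.presheaf.stalk (U.2.fromSpec y), inferInstance, inferInstance,
        TopCat.Presheaf.algebra_section_stalk Y.presheaf ⟨U.2.fromSpec y, hx⟩, ?_, hY _⟩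
      exact U.2.isLocalization_stalk' y hx

end Groth.Agent.Lib.UnivHomeo
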