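import Mathlib
import Groth.Agent.Lib.HensIntDom_lead
import Groth.Agent.Lib.NormVal_helper1

/-!
# Unique algebraic lifts of residues over a complete DVR with perfect coefficient field (helper1, S11087)
-/

open IsLocalRing

universe u

namespace Groth.Agent.Lib.NormValH1

theorem main11087 (K A B : Type u) [Field K]
    [PerfectField K] [CommRing A] [IsDomain A] [IsDiscreteValuationRing A]
    [IsAdicComplete (IsLocalRing.maximalIdeal A) A]
    [Algebra K A] (hK : Function.Bijective ((IsLocalRing.residue A).comp (algebraMap K A)))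
    [CommRing B] [IsDedekindDomain B] [Algebra A B] [Module.Finite A B] [Module.IsTorsionFree A B]
    [Algebra K B] [IsScalarTower K A B]
    (M : Ideal B) [M.IsMaximal] (b : B) :
    ∃! c : B, IsAlgebraic K c ∧ b - c ∈ M := by
  obtain ⟨hlo, hM0, hset, hpow⟩ := local_structure A B M
  haveI := hlo
  haveI : HenselianLocalRing A := henselian_of_complete A
  haveI : IsLocalRing B := Groth.Agent.Lib.HensIntDom.isLocalRing_of_finite_domain A B
  haveI hBh : HenselianLocalRing B :=
    Groth.Agent.Lib.HensIntDom.henselian_of_integral_domain A B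
  have hMmax : M = maximalIdeal B := IsLocalRing.eq_maximalIdeal inferInstance
  letI : Field (B ⧸ M) := Ideal.Quotient.field M
  obtain ⟨f, hf⟩ : ∃ f : A →+* B ⧸ M, f = (Ideal.Quotient.mk M).comp (algebraMap A B) := ⟨_, rfl⟩
  obtain ⟨g, hg⟩ : ∃ g : K →+* B ⧸ M, g = algebraMap K (B ⧸ M) := ⟨_, rfl⟩
  have hgf : ∀ k, g k = f (algebraMap K A k) := by
    intro k
    rw [hf, hg]
    change Ideal.Quotient.mk M (algebraMap K B k) =
      Ideal.Quotient.mk M (algebraMap A B (algebraMap K A k))
    rw [← IsScalarTower.algebraMap_apply]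
  have hfm : ∀ a ∈ maximalIdeal A, f a = 0 := by
    intro a ha
    rw [hf, RingHom.comp_apply, Ideal.Quotient.eq_zero_iff_mem]
    have h1 : a ∈ M.under A := by rw [← hlo.over]; exact ha
    exact h1
  have hrange : ∀ a : A, f a ∈ Set.range g := by
    intro a
    obtain ⟨k, hk⟩ := hK.2 (IsLocalRing.residue A a)
    refine ⟨k, ?_⟩
    rw [hgf]
    have h1 : algebraMap K A k - a ∈ maximalIdeal A := by
      rw [← Ideal.Quotient.eq]
      exact hk
    have h2 := hfm _ h1
    rw [map_sub, sub_eq_zero] at h2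
    exact h2
  have hintb : IsIntegral K (Ideal.Quotient.mk M b) := by
    obtain ⟨p, hpm, hp0⟩ := Algebra.IsIntegral.isIntegral (R := A) b
    have hlift : p.map f ∈ Polynomial.lifts g := by
      rw [Polynomial.lifts_iff_coeff_lifts]
      intro n
      rw [Polynomial.coeff_map]
      exact hrange _
    obtain ⟨q, hq, -, hqm⟩ := Polynomial.lifts_and_natDegree_eq_and_monic hlift (hpm.map f)
    refine ⟨q, hqm, ?_⟩
    rw [← Polynomial.eval_map, ← hg, hq, Polynomial.eval_map, hf, ← Polynomial.hom_eval₂, hp0,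
      map_zero]
  obtain ⟨bbar, hbbar⟩ : ∃ bbar : B ⧸ M, bbar = Ideal.Quotient.mk M b := ⟨_, rfl⟩
  rw [← hbbar] at hintb
  obtain ⟨gp, hgp⟩ : ∃ gp : Polynomial K, gp = minpoly K bbar := ⟨_, rfl⟩
  have hirr : Irreducible gp := by rw [hgp]; exact minpoly.irreducible hintb
  have hgp0 : gp ≠ 0 := by rw [hgp]; exact minpoly.ne_zero hintb
  have hgpm : gp.Monic := by rw [hgp]; exact minpoly.monic hintb
  have hgpa : Polynomial.aeval bbar gp = 0 := by rw [hgp]; exact minpoly.aeval K bbar
  have hsep : gp.Separable := PerfectField.separable_of_irreducible hirr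
  have hder : Polynomial.aeval bbar (Polynomial.derivative gp) ≠ 0 :=
    hsep.aeval_derivative_ne_zero hgpa
  have hmk : ∀ P : Polynomial K, Ideal.Quotient.mk M ((P.map (algebraMap K B)).eval b) =
      Polynomial.aeval bbar P := by
    intro P
    rw [Polynomial.eval_map, Polynomial.hom_eval₂, Polynomial.aeval_def, hbbar]
    rfl
  have h1 : (gp.map (algebraMap K B)).eval b ∈ maximalIdeal B := by
    rw [← hMmax, ← Ideal.Quotient.eq_zero_iff_mem, hmk, hgpa]
  have h2 : IsUnit ((gp.map (algebraMap K B)).derivative.eval b) := by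
    rw [Polynomial.derivative_map]
    by_contra hnu
    have h3 : ((Polynomial.derivative gp).map (algebraMap K B)).eval b ∈ maximalIdeal B :=
      (IsLocalRing.mem_maximalIdeal _).mpr hnu
    rw [← hMmax, ← Ideal.Quotient.eq_zero_iff_mem, hmk] at h3
    exact hder h3
  obtain ⟨c, hc, hcb⟩ := HenselianLocalRing.is_henselian (gp.map (algebraMap K B))
    (hgpm.map _) b h1 h2
  have hcalg : IsAlgebraic K c :=
    ⟨gp, hgp0, by rw [Polynomial.aeval_def, ← Polynomial.eval_map]; exact hc⟩
  have hbc : b - c ∈ M := by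
    rw [hMmax, ← Ideal.neg_mem_iff, neg_sub]; exact hcb
  refine ⟨c, ⟨hcalg, hbc⟩, ?_⟩
  rintro c' ⟨hc'alg, hc'M⟩
  by_contra hne
  have hd : IsAlgebraic K (c' - c) := hc'alg.sub hcalg
  have hd0 : c' - c ≠ 0 := sub_ne_zero.mpr hne
  have hdu : IsUnit (c' - c) := (hd.isIntegral).isUnit hd0
  have hdM : c' - c ∈ M := by
    have h4 := Ideal.sub_mem _ hbc hc'M
    rwa [sub_sub_sub_cancel_left] at h4
  exact (Ideal.IsMaximal.ne_top inferInstance) (Ideal.eq_top_of_isUnit_mem _ hdM hdu)

end Groth.Agent.Lib.NormValH1
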