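import Mathlib

/-!
# Irreducible components through a point with integral local ring (helper7)
-/

universe u
open CategoryTheory AlgebraicGeometry TopologicalSpace

namespace Groth.Agent.Lib.SchIrredCompH7

/-- If `O_{X,x}` is a domain, every irreducible component through `x` is the closure of the
image of the generic point of `Spec O_{X,x}`. -/
theorem eq_closure_of_mem_irreducibleComponents (X : Scheme.{u}) (x : X)
    [IsDomain (X.presheaf.stalk x)] {Z : Set X} (hZ : Z ∈ irreducibleComponents X) (hx : x ∈ Z) :
    Z = closure {X.fromSpecStalk x (⊥ : PrimeSpectrum (X.presheaf.stalk x))} := by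
  have hZirr : IsIrreducible Z := hZ.1
  have hZcl : IsClosed Z := isClosed_of_mem_irreducibleComponents Z hZ
  obtain ⟨η, hη⟩ := QuasiSober.sober hZirr hZcl
  have hηx : η ⤳ x := by
    rw [specializes_iff_mem_closure, hη.def]; exact hx
  have hmem : η ∈ Set.range (X.fromSpecStalk x) := by
    rw [Scheme.range_fromSpecStalk]; exact hηx
  obtain ⟨q, rfl⟩ := hmem
  have hbq : (⊥ : PrimeSpectrum (X.presheaf.stalk x)) ⤳ (q : PrimeSpectrum (X.presheaf.stalk x)) :=
    (PrimeSpectrum.le_iff_specializes _ _).mp bot_le
  have hξη := hbq.map (X.fromSpecStalk x).continuous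
  have hsub : Z ⊆ closure {X.fromSpecStalk x (⊥ : PrimeSpectrum (X.presheaf.stalk x))} := by
    rw [← hη.def]; exact specializes_iff_closure_subset.mp hξη
  exact subset_antisymm hsub (hZ.2 isIrreducible_singleton.closure hsub)

theorem eq_of_mem_irreducibleComponents (X : Scheme.{u}) (x : X)
    [IsDomain (X.presheaf.stalk x)] {Z₁ Z₂ : Set X} (h₁ : Z₁ ∈ irreducibleComponents X)
    (h₂ : Z₂ ∈ irreducibleComponents X) (hx₁ : x ∈ Z₁) (hx₂ : x ∈ Z₂) : Z₁ = Z₂ :=
  (eq_closure_of_mem_irreducibleComponents X x h₁ hx₁).trans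
    (eq_closure_of_mem_irreducibleComponents X x h₂ hx₂).symm

/-- With integral local rings and finitely many irreducible components, the components are open. -/
theorem isOpen_of_mem_irreducibleComponents (X : Scheme.{u})
    (hX : ∀ x : X, IsDomain (X.presheaf.stalk x))
    (hfin : (irreducibleComponents X).Finite) {Z : Set X} (hZ : Z ∈ irreducibleComponents X) :
    IsOpen Z := by
  rw [← isClosed_compl_iff]
  have hc : Zᶜ = ⋃ Z' ∈ irreducibleComponents X \ {Z}, Z' := by
    ext y
    simp only [Set.mem_compl_iff, Set.mem_iUnion, Set.mem_diff, Set.mem_singleton_iff, exists_prop]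
    constructor
    · intro hy
      exact ⟨irreducibleComponent y, ⟨irreducibleComponent_mem_irreducibleComponents y,
        fun h => hy (h ▸ mem_irreducibleComponent)⟩, mem_irreducibleComponent⟩
    · rintro ⟨Z', ⟨hZ', hne⟩, hy⟩ hyZ
      haveI := hX y
      exact hne (eq_of_mem_irreducibleComponents X y hZ' hZ hy hyZ)
  rw [hc]
  exact (hfin.subset Set.diff_subset).isClosed_biUnion fun Z' hZ' =>
    isClosed_of_mem_irreducibleComponents Z' hZ'.1

end Groth.Agent.Lib.SchIrredCompH7
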