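import Mathlib
import Groth.Agent.Lib.DecentBirat5_helper7
import Groth.Agent.Lib.SchIrredComp_helper7
import Groth.Agent.Lib.IntBirat2_helper7

/-!
# Normal integral affine étale charts of a normal integral algebraic space (helper7)
-/

set_option autoImplicit false
set_option linter.style.haveILetI false
universe u
open CategoryTheory CategoryTheory.Limits AlgebraicGeometry Opposite TopologicalSpace

namespace Groth.Agent.Lib.NormalChartH7

open AlgSp Groth.Agent.Lib.AlgSpPoints_helper7 Groth.Agent.Lib.AlgSpOpenSub_helper7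
  Groth.Agent.Lib.AlgSpEtale_helper7 Groth.Agent.Lib.AlgSpPullback_helper7
  Groth.Agent.Lib.DecentIrredH7 Groth.Agent.Lib.DecentBirat2H7 Groth.Agent.Lib.AlgSpOpen_helper7
  Groth.Agent.Lib.DecentBirat3H7 Groth.Agent.Lib.DecentBirat4H7 Groth.Agent.Lib.AlgSpQC_helper7
  Groth.Agent.Lib.DecentGenericH7 Groth.Agent.Lib.DecentSoberH7 Groth.Agent.Lib.IntBirat2H7
  Groth.Agent.Lib.SchIrredComp2H7

variable {S : Scheme.{u}}

/-- An étale chart from a quasi-compact scheme to a decent space with finitely many irreducible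
components has finitely many irreducible components. -/
theorem finite_irreducibleComponents_chart (X : AlgSp.Space S) (hX : IsDecent X.obj)
    (hXf : (irreducibleComponents (Points X.obj)).Finite) {V : Over S} [CompactSpace ↥V.left]
    (b : (yon S).obj V ⟶ X.obj) (hb : RepWith @Etale b) :
    (irreducibleComponents ↥V.left).Finite := by
  haveI qsY : QuasiSober (Points X.obj) := main10339 X hX
  haveI t0Y : T0Space (Points X.obj) :=
    Groth.Agent.Lib.AlgSpT0_helper6.t0Space_points_of_isDecent X.property hX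
  have hGY : (genericPoints (Points X.obj)).Finite := genericPoints.finite hXf
  have hM' : (Points.ofPt b ⁻¹' genericPoints (Points X.obj)).Finite :=
    hGY.preimage' fun y _ => by
      obtain ⟨p, hp, -, hq⟩ := hX y
      rw [← hp]
      exact Groth.Agent.Lib.AlgSpFibre_helper6.finite_fibre_of_qc_point p hq b hb
  have hVmax : ∀ v : ↥V.left, closure {v} ∈ irreducibleComponents ↥V.left →
      Points.ofPt b v ∈ genericPoints (Points X.obj) := by
    intro v hv
    exact generic_of_isMax X hX b hb v (fun v' (h : v' ⤳ v) =>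
      (closure_singleton_mem_irreducibleComponents_iff v).mp hv v' h)
  refine (hM'.image fun v => closure {v}).subset ?_
  intro C hC
  obtain ⟨v, hv⟩ := QuasiSober.sober hC.1 (isClosed_of_mem_irreducibleComponents C hC)
  have hvC : closure {v} = C := hv.def
  exact ⟨v, hVmax v (by rw [hvC]; exact hC), hvC⟩

/-- Normality of local rings passes to open subschemes. -/
theorem stalk_normal_of_isOpenImmersion {A B : Scheme.{u}} (j : A ⟶ B) [IsOpenImmersion j] (a : A)
    (h : IsDomain (B.presheaf.stalk (j a)) ∧ IsIntegrallyClosed (B.presheaf.stalk (j a))) :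
    IsDomain (A.presheaf.stalk a) ∧ IsIntegrallyClosed (A.presheaf.stalk a) := by
  obtain ⟨hd, hc⟩ := h
  let e : B.presheaf.stalk (j a) ≃+* A.presheaf.stalk a :=
    (asIso (j.stalkMap a)).commRingCatIsoToRingEquiv
  haveI := hd
  haveI := hc
  exact ⟨e.symm.toMulEquiv.isDomain (B.presheaf.stalk (j a)), IsIntegrallyClosed.of_equiv e⟩

/-- In a scheme with normal local rings and finitely many irreducible components every point has an
affine open neighbourhood which is integral with integrally closed coordinate ring. -/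
theorem exists_affine_integral_normal_nbhd (V : Scheme.{u})
    (hN : ∀ v : V, IsDomain (V.presheaf.stalk v) ∧ IsIntegrallyClosed (V.presheaf.stalk v))
    (hfin : (irreducibleComponents V).Finite) (v₀ : V) :
    ∃ U : V.Opens, v₀ ∈ U ∧ IsAffine (U : Scheme.{u}) ∧ IsIntegral (U : Scheme.{u}) ∧
      IsIntegrallyClosed Γ((U : Scheme.{u}), ⊤) := by
  have hZ := irreducibleComponent_mem_irreducibleComponents v₀
  have hZo : IsOpen (irreducibleComponent v₀) :=
    Groth.Agent.Lib.SchIrredCompH7.isOpen_of_mem_irreducibleComponents V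
      (fun x => (hN x).1) hfin hZ
  obtain ⟨U, hU, hvU, hUZ⟩ : ∃ U : V.Opens, IsAffineOpen U ∧ v₀ ∈ U ∧
      (U : Set V) ⊆ irreducibleComponent v₀ := by
    obtain ⟨U, hU, h1, h2⟩ := Opens.isBasis_iff_nbhd.1 V.isBasis_affineOpens
      (show v₀ ∈ (⟨irreducibleComponent v₀, hZo⟩ : V.Opens) from mem_irreducibleComponent)
    exact ⟨U, hU, h1, h2⟩
  have hUirr : IsIrreducible (U : Set V) :=
    ⟨⟨v₀, hvU⟩, isIrreducible_irreducibleComponent.isPreirreducible.open_subset U.2 hUZ⟩
  haveI : IrreducibleSpace ↥(U : Scheme.{u}) := Subtype.irreducibleSpace hUirr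
  have hNU : ∀ w : (U : Scheme.{u}), IsDomain ((U : Scheme.{u}).presheaf.stalk w) ∧
      IsIntegrallyClosed ((U : Scheme.{u}).presheaf.stalk w) :=
    fun w => stalk_normal_of_isOpenImmersion U.ι w (hN (U.ι w))
  haveI : IsReduced (U : Scheme.{u}) := by
    haveI : ∀ w : (U : Scheme.{u}), _root_.IsReduced ((U : Scheme.{u}).presheaf.stalk w) :=
      fun w => by
        haveI := (hNU w).1
        infer_instance
    exact isReduced_of_isReduced_stalk _
  haveI : IsIntegral (U : Scheme.{u}) := isIntegral_of_irreducibleSpace_of_isReduced _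
  haveI : IsAffine (U : Scheme.{u}) := hU
  refine ⟨U, hvU, hU, inferInstance, ?_⟩
  apply IsIntegrallyClosed.of_localization_maximal
  intro p _ hp
  obtain ⟨w, hw⟩ := pt_surjective (U : Scheme.{u}) ⟨p, hp.isPrime⟩
  have hp' : p = (pt (U : Scheme.{u}) w).asIdeal := (congrArg PrimeSpectrum.asIdeal hw).symm
  subst hp'
  obtain ⟨hd, hc⟩ := hNU w
  letI := (U : Scheme.{u}).presheaf.algebra_section_stalk (U := ⊤) ⟨w, trivial⟩
  haveI := (isAffineOpen_top (U : Scheme.{u})).isLocalization_stalk ⟨w, trivial⟩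
  let e : (U : Scheme.{u}).presheaf.stalk w ≃ₐ[Γ((U : Scheme.{u}), ⊤)]
      Localization.AtPrime (pt (U : Scheme.{u}) w).asIdeal :=
    IsLocalization.algEquiv (pt (U : Scheme.{u}) w).asIdeal.primeCompl _ _
  haveI := hc
  exact IsIntegrallyClosed.of_equiv e.toRingEquiv

theorem main10492 (X : AlgSp.Space S) (hXi : AlgSp.IsIntegralSp X.obj)
    (hXn : AlgSp.EtaleLocally (fun U => ∀ u : ↥U, IsDomain ↥(U.presheaf.stalk u) ∧
      IsIntegrallyClosed ↥(U.presheaf.stalk u)) X.obj)
    (x : AlgSp.Points X.obj) :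
    ∃ (U : Over S) (a : (AlgSp.yon S).obj U ⟶ X.obj), AlgSp.RepWith @Etale a ∧ IsAffine U.left ∧
      IsIntegral U.left ∧ IsIntegrallyClosed ↥Γ(U.left, ⊤) ∧
        x ∈ Set.range (AlgSp.Points.ofPt a) := by
  obtain ⟨-, hdec, hirr⟩ := hXi
  haveI := hirr
  obtain ⟨U₁, p₁, hp₁e, hp₁s, hN⟩ := hXn
  obtain ⟨u₁, hu₁⟩ := ofPt_surjective p₁ hp₁s x
  obtain ⟨V, hV, hu₁V⟩ : ∃ V : U₁.left.Opens, IsAffineOpen V ∧ u₁ ∈ V := by
    obtain ⟨V, hV, h1, -⟩ := Opens.isBasis_iff_nbhd.1 U₁.left.isBasis_affineOpens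
      (show u₁ ∈ (⊤ : U₁.left.Opens) from trivial)
    exact ⟨V, hV, h1⟩
  let VO : Over S := Over.mk (V.ι ≫ U₁.hom)
  let jV : VO ⟶ U₁ := Over.homMk V.ι rfl
  haveI : IsAffine VO.left := hV
  have hb : RepWith @Etale ((yon S).map jV ≫ p₁) := repWith_etale_restrict p₁ hp₁e V
  have hNV : ∀ v : VO.left, IsDomain (VO.left.presheaf.stalk v) ∧
      IsIntegrallyClosed (VO.left.presheaf.stalk v) :=
    fun v => stalk_normal_of_isOpenImmersion V.ι v (hN (V.ι v))
  have hXf : (irreducibleComponents (Points X.obj)).Finite := by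
    rw [irreducibleComponents_eq_singleton]
    exact Set.finite_singleton _
  have hfin := finite_irreducibleComponents_chart X hdec hXf ((yon S).map jV ≫ p₁) hb
  obtain ⟨U, hvU, hU, hUint, hUic⟩ :=
    exists_affine_integral_normal_nbhd VO.left hNV hfin ⟨u₁, hu₁V⟩
  let UO : Over S := Over.mk (U.ι ≫ VO.hom)
  let jU : UO ⟶ VO := Over.homMk U.ι rfl
  have ha : RepWith @Etale ((yon S).map jU ≫ ((yon S).map jV ≫ p₁)) :=
    repWith_etale_restrict _ hb U
  refine ⟨UO, _, ha, hU, hUint, hUic, ⟨⟨⟨u₁, hu₁V⟩, hvU⟩, ?_⟩⟩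
  exact ((ofPt_comp jU _ _).trans (ofPt_comp jV p₁ _)).trans hu₁

end Groth.Agent.Lib.NormalChartH7
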