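import Mathlib

/-!
# The normal closure is a quotient of a tensor power (helper1)
-/

namespace Groth.Agent.Lib.NormalClosureTensorH1

universe u

open scoped TensorProduct
open IntermediateField

theorem exists_surj {K L M : Type u} [Field K] [Field L] [Field M]
    [Algebra K L] [Algebra K M] [Algebra L M] [IsScalarTower K L M] [FiniteDimensional K L]
    [IsNormalClosure K L M] :
    ∃ f : (⨂[K] _ : Fin (Field.finSepDegree K L), L) →ₐ[K] M, Function.Surjective f := by
  classical
  obtain ⟨hsplit, htop⟩ :=
    Algebra.IsAlgebraic.isNormalClosure_iff.mp (inferInstance : IsNormalClosure K L M)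
  have hcard : Field.finSepDegree K L = Nat.card (L →ₐ[K] M) :=
    Field.finSepDegree_eq_of_adjoin_splits K L M (S := Set.univ) (IntermediateField.adjoin_univ K L)
      (fun s _ => ⟨Algebra.IsIntegral.isIntegral s, hsplit s⟩)
  have e : Fin (Field.finSepDegree K L) ≃ (L →ₐ[K] M) := by
    rw [hcard]
    exact (Finite.equivFin _).symm
  let g : MultilinearMap K (fun _ : Fin (Field.finSepDegree K L) => L) M :=
    (MultilinearMap.mkPiAlgebra K (Fin (Field.finSepDegree K L)) M).compLinearMap
      (fun i => (e i).toLinearMap)
  have hg : ∀ x, g x = ∏ i, (e i) (x i) := by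
    intro x
    simp [g]
  have h1 : g 1 = 1 := by
    rw [hg]
    simp
  have hmul : ∀ x y, g (x * y) = g x * g y := by
    intro x y
    rw [hg, hg, hg, ← Finset.prod_mul_distrib]
    simp
  let f := PiTensorProduct.liftAlgHom g h1 hmul
  refine ⟨f, ?_⟩
  have : Normal K M := IsNormalClosure.normal (K := L)
  have hfield : IsField f.range := Subalgebra.isField_of_algebraic _
  have hle : (⊤ : IntermediateField K M) ≤ Subalgebra.toIntermediateField' f.range hfield := by
    rw [← htop, normalClosure_def]
    refine iSup_le fun σ => ?_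
    rintro y ⟨x, rfl⟩
    show σ x ∈ f.range
    refine ⟨PiTensorProduct.singleAlgHom (e.symm σ) x, ?_⟩
    show f (PiTensorProduct.tprod K (MonoidHom.mulSingle _ (e.symm σ) x)) = σ x
    simp only [f, PiTensorProduct.liftAlgHom_apply, PiTensorProduct.lift.tprod, hg]
    rw [Finset.prod_eq_single (e.symm σ)]
    · simp
    · intro j _ hj
      simp [Pi.mulSingle_eq_of_ne hj]
    · intro h
      exact absurd (Finset.mem_univ _) h
  intro y
  have := hle (IntermediateField.mem_top (x := y))
  exact this

end Groth.Agent.Lib.NormalClosureTensorH1
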