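import Mathlib

set_option autoImplicit false
open scoped TensorProduct

namespace Groth.Agent.Lib.NormalDVR

variable (R : Type*) [CommRing R] [IsDomain R] [IsDiscreteValuationRing R]
variable (A : Type*) [CommRing A] [Algebra R A]

/-- the canonical map `A → K ⊗ A`. -/
noncomputable def ι : A →ₐ[R] (FractionRing R ⊗[R] A) := Algebra.TensorProduct.includeRight

theorem ι_injective [Module.Flat R A] : Function.Injective (ι R A) :=
  Algebra.TensorProduct.includeRight_injective (IsFractionRing.injective R (FractionRing R))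

theorem exists_pow_mul (ϖ : R) (hϖ : Irreducible ϖ) (b : FractionRing R ⊗[R] A) :
    ∃ (n : ℕ) (a : A), ι R A a = algebraMap R (FractionRing R ⊗[R] A) ϖ ^ n * b := by
  induction b using TensorProduct.induction_on with
  | zero => exact ⟨0, 0, by simp⟩
  | tmul k a =>
    obtain ⟨r, s, hs, rfl⟩ := IsFractionRing.div_surjective (A := R) k
    have hs0 : s ≠ 0 := nonZeroDivisors.ne_zero hs
    obtain ⟨n, u, hu⟩ := IsDiscreteValuationRing.eq_unit_mul_pow_irreducible hs0 hϖ
    refine ⟨n, (r * ↑u⁻¹) • a, ?_⟩
    have hs' : algebraMap R (FractionRing R) s ≠ 0 :=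
      (map_ne_zero_iff _ (IsFractionRing.injective R (FractionRing R))).mpr hs0
    have hk : algebraMap R (FractionRing R) ϖ ^ n *
        (algebraMap R (FractionRing R) r / algebraMap R (FractionRing R) s)
        = algebraMap R (FractionRing R) (r * ↑u⁻¹) := by
      rw [mul_div_assoc', div_eq_iff hs', ← map_pow, ← map_mul, ← map_mul]
      congr 1
      rw [hu]
      have h1 : (↑u⁻¹ : R) * ↑u = 1 := Units.inv_mul u
      linear_combination (-(r * ϖ ^ n)) * h1
    rw [← map_pow, Algebra.TensorProduct.algebraMap_apply, Algebra.TensorProduct.tmul_mul_tmul,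
      one_mul, map_pow, hk]
    show (1 : FractionRing R) ⊗ₜ[R] ((r * ↑u⁻¹) • a) = _
    rw [Algebra.algebraMap_eq_smul_one, TensorProduct.smul_tmul]
  | add x y hx hy =>
    obtain ⟨n1, a1, h1⟩ := hx
    obtain ⟨n2, a2, h2⟩ := hy
    refine ⟨n1 + n2, algebraMap R A ϖ ^ n2 * a1 + algebraMap R A ϖ ^ n1 * a2, ?_⟩
    rw [map_add, map_mul, map_mul, map_pow, map_pow, AlgHom.commutes, h1, h2, pow_add]
    ring

theorem mem_span_of_pow_mem (ϖ : R) (hϖ : Irreducible ϖ)
    (hred : IsReduced (A ⧸ Ideal.map (algebraMap R A) (IsLocalRing.maximalIdeal R)))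
    (a : A) (d : ℕ) (h : a ^ d ∈ Ideal.span {algebraMap R A ϖ}) :
    a ∈ Ideal.span {algebraMap R A ϖ} := by
  have hI : Ideal.map (algebraMap R A) (IsLocalRing.maximalIdeal R)
      = Ideal.span {algebraMap R A ϖ} := by
    rw [hϖ.maximalIdeal_eq, Ideal.map_span, Set.image_singleton]
  rw [← hI] at h ⊢
  rw [← Ideal.Quotient.eq_zero_iff_mem] at h ⊢
  rw [map_pow] at h
  exact IsNilpotent.eq_zero ⟨d, h⟩

theorem main [Module.Flat R A] [IsDomain (FractionRing R ⊗[R] A)]
    [IsIntegrallyClosed (FractionRing R ⊗[R] A)]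
    (hred : IsReduced (A ⧸ Ideal.map (algebraMap R A) (IsLocalRing.maximalIdeal R))) :
    IsDomain A ∧ IsIntegrallyClosed A := by
  have hinj := ι_injective R A
  haveI hdom : IsDomain A := Function.Injective.isDomain (ι R A).toRingHom hinj
  refine ⟨hdom, ?_⟩
  obtain ⟨ϖ, hϖ⟩ := IsDiscreteValuationRing.exists_irreducible R
  obtain ⟨π, hπ⟩ : ∃ π : A, π = algebraMap R A ϖ := ⟨_, rfl⟩
  have hιπ : IsUnit (ι R A π) := by
    rw [hπ, AlgHom.commutes,
      IsScalarTower.algebraMap_apply R (FractionRing R) (FractionRing R ⊗[R] A)]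
    apply IsUnit.map
    exact IsUnit.mk0 _
      ((map_ne_zero_iff _ (IsFractionRing.injective R (FractionRing R))).mpr hϖ.ne_zero)
  have hπ0 : π ≠ 0 := fun h => by
    rw [h, map_zero] at hιπ; exact not_isUnit_zero hιπ
  have hπF : algebraMap A (FractionRing A) π ≠ 0 :=
    (map_ne_zero_iff _ (IsFractionRing.injective A _)).mpr hπ0
  -- Step B: induction on the exponent of the denominator
  have key : ∀ (n : ℕ) (x : FractionRing A), IsIntegral A x → ∀ a' : A,
      algebraMap A (FractionRing A) a' = algebraMap A (FractionRing A) π ^ n * x →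
      ∃ y, algebraMap A (FractionRing A) y = x := by
    intro n
    induction n with
    | zero => intro x _ a' h; exact ⟨a', by rw [h, pow_zero, one_mul]⟩
    | succ n ih =>
      intro x hx a' h
      have hmem : a' ∈ Ideal.span {π} := by
        obtain ⟨p, hpm, hpx⟩ := hx
        rw [hπ]
        apply mem_span_of_pow_mem R A ϖ hϖ hred a' p.natDegree
        rw [← hπ]
        have h0 := Polynomial.scaleRoots_eval₂_eq_zero (algebraMap A (FractionRing A))
          (s := π ^ (n + 1)) hpx
        rw [map_pow, ← h, Polynomial.eval₂_at_apply] at h0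
        have h1 : Polynomial.eval a' (Polynomial.scaleRoots p (π ^ (n + 1))) = 0 :=
          IsFractionRing.injective A (FractionRing A) (by rw [h0, map_zero])
        rw [Polynomial.eval_eq_sum_range, Polynomial.natDegree_scaleRoots,
          Finset.sum_range_succ] at h1
        have htop : (Polynomial.scaleRoots p (π ^ (n + 1))).coeff p.natDegree = 1 := by
          rw [Polynomial.coeff_scaleRoots, Nat.sub_self, pow_zero, mul_one]
          exact hpm.coeff_natDegree
        rw [htop, one_mul] at h1
        have hlow : ∑ i ∈ Finset.range p.natDegree,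
            (Polynomial.scaleRoots p (π ^ (n + 1))).coeff i * a' ^ i ∈ Ideal.span {π} := by
          refine Ideal.sum_mem _ fun i hi => ?_
          rw [Polynomial.coeff_scaleRoots, Ideal.mem_span_singleton]
          have hi' : p.natDegree - i ≠ 0 := by have := Finset.mem_range.mp hi; omega
          have hdvd : π ∣ (π ^ (n + 1)) ^ (p.natDegree - i) :=
            dvd_pow (dvd_pow_self π (Nat.succ_ne_zero n)) hi'
          exact Dvd.dvd.mul_right (Dvd.dvd.mul_left hdvd _) _
        rw [eq_neg_of_add_eq_zero_right h1]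
        exact neg_mem hlow
      obtain ⟨a'', rfl⟩ := Ideal.mem_span_singleton'.mp hmem
      apply ih x hx a''
      apply mul_right_cancel₀ hπF
      rw [← map_mul, h, pow_succ]
      ring
  rw [isIntegrallyClosed_iff (FractionRing A)]
  intro x hx
  -- Step A: the denominator of x may be taken to be a power of π
  let g : A →+* FractionRing (FractionRing R ⊗[R] A) :=
    (algebraMap (FractionRing R ⊗[R] A) (FractionRing (FractionRing R ⊗[R] A))).comp
      (ι R A).toRingHom
  have hg : Function.Injective g := fun a b hab =>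
    hinj (IsFractionRing.injective (FractionRing R ⊗[R] A)
      (FractionRing (FractionRing R ⊗[R] A)) hab)
  let j : FractionRing A →+* FractionRing (FractionRing R ⊗[R] A) := IsFractionRing.lift hg
  have hj : ∀ a : A, j (algebraMap A (FractionRing A) a) = g a :=
    IsFractionRing.lift_algebraMap hg
  have hjx : IsIntegral (FractionRing R ⊗[R] A) (j x) := by
    obtain ⟨p, hpm, hpx⟩ := hx
    refine ⟨p.map (ι R A).toRingHom, hpm.map _, ?_⟩
    rw [Polynomial.eval₂_map]
    have h2 := congrArg j hpx
    rw [Polynomial.hom_eval₂, map_zero] at h2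
    have hcomp : j.comp (algebraMap A (FractionRing A)) = g := RingHom.ext hj
    rw [hcomp] at h2
    exact h2
  obtain ⟨β, hβ⟩ := IsIntegrallyClosed.algebraMap_eq_of_integral hjx
  obtain ⟨n, a', ha'⟩ := exists_pow_mul R A ϖ hϖ β
  have hstepA : algebraMap A (FractionRing A) a' = algebraMap A (FractionRing A) π ^ n * x := by
    apply j.injective
    rw [hj, map_mul, map_pow, hj, ← hβ]
    show algebraMap _ (FractionRing (FractionRing R ⊗[R] A)) (ι R A a')
      = (algebraMap _ (FractionRing (FractionRing R ⊗[R] A)) (ι R A π)) ^ n * _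
    rw [ha', map_mul, map_pow, hπ, AlgHom.commutes]
  exact key n x hx a' hstepA

end Groth.Agent.Lib.NormalDVR
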