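import Mathlib
import Groth.Prelude.Def_CAlg
import Groth.Agent.Lib.FiniteCMFlat_helper9
import Groth.Agent.Lib.SerreNormal_helper5
import Groth.Agent.Lib.DepthLoc_helper5
import Groth.Agent.Lib.InertiaUnram_helper3
import Groth.Agent.Lib.PurityFinFlat_helper3
import Groth.Agent.Lib.IntegralHeight_helper5

/-!
# Normal two-dimensional rings over regular local rings (helper3)

* a Noetherian normal local domain of dimension `≤ 2` is Cohen–Macaulay;
* a normal domain of dimension `≤ 2` finite (and injective) over a regular local ring is flat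
  (any universes);
* if moreover a finite group acts with invariants the base, trivially on the residue field,
  and with trivial inertia at all non-maximal primes, then the action is trivial
  (purity of the branch locus + Nakayama).
-/

set_option autoImplicit false
universe u v w

namespace Groth.Agent.Lib.NormalDim2H3

open IsLocalRing

theorem isCM_of_normal_dim_le_two (S : Type u) [CommRing S] [IsNoetherianRing S] [IsLocalRing S]
    [IsDomain S] [IsIntegrallyClosed S] (h : ringKrullDim S ≤ 2) :
    LocCoh.IsCohenMacaulayLocalRing S := by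
  refine { supportDim_eq_depth := ?_ }
  have h1 := Groth.Agent.SerreLib.min_two_dim_le_depth S
  have h2 := Groth.Agent.DepthLib.depth_le_supportDim S S
  rw [Module.supportDim_self_eq_ringKrullDim] at h2 ⊢
  rw [min_eq_right h] at h1
  exact le_antisymm h1 h2

/-- same-universe version -/
theorem flat_same_universe (R S : Type u) [CommRing R] [CommRing S] [IsRegularLocalRing R]
    [IsDomain S] [IsIntegrallyClosed S] [Algebra R S] [Module.Finite R S]
    (hinj : Function.Injective (algebraMap R S)) (hdim : ringKrullDim S ≤ 2) :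
    Module.Flat R S := by
  haveI : IsNoetherianRing S := IsNoetherianRing.of_finite R S
  refine Groth.Agent.FiniteCMFlat.flat_of_finite_isCM R S hinj ?_
  intro q hq
  haveI : IsIntegrallyClosed (Localization.AtPrime q) :=
    isIntegrallyClosed_of_isLocalization (Localization.AtPrime q) q.primeCompl
      q.primeCompl_le_nonZeroDivisors
  refine isCM_of_normal_dim_le_two _ ?_
  rw [IsLocalization.AtPrime.ringKrullDim_eq_height q]
  exact Ideal.height_le_ringKrullDim_of_isPrime.trans hdim

/-- A normal domain of dimension `≤ 2`, finite and injective over a regular local ring, is flat. -/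
theorem flat_of_finite_normal (R : Type u) (A : Type v) [CommRing R] [CommRing A]
    [IsRegularLocalRing R] [IsDomain A] [IsIntegrallyClosed A] [Algebra R A] [Module.Finite R A]
    (hinj : Function.Injective (algebraMap R A)) (hdim : ringKrullDim A ≤ 2) :
    Module.Flat R A := by
  let R' := ULift.{v} R
  let A' := ULift.{u} A
  let eR : R ≃+* R' := ULift.ringEquiv.symm
  let eA : A ≃+* A' := ULift.ringEquiv.symm
  haveI : IsRegularLocalRing R' := IsRegularLocalRing.of_ringEquiv eR
  haveI : IsDomain A' := eA.symm.toMulEquiv.isDomain A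
  haveI : IsIntegrallyClosed A' := IsIntegrallyClosed.of_equiv eA
  letI algRA' : Algebra R' A' := ULift.algebra' R A'
  have hmap : ∀ x : R', algebraMap R' A' x = ULift.up (algebraMap R A x.down) := fun _ => rfl
  haveI : Module.Finite R' A' := by
    refine Module.Finite.of_equiv_equiv (A₁ := R) (B₁ := A) eR eA ?_
    ext x
    rfl
  have hinj' : Function.Injective (algebraMap R' A') := by
    intro x y hxy
    rw [hmap, hmap] at hxy
    have := hinj (ULift.up_injective hxy)
    exact ULift.down_injective this
  have hdim' : ringKrullDim A' ≤ 2 := by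
    rw [← ringKrullDim_eq_of_ringEquiv eA]
    exact hdim
  have hflat' : Module.Flat R' A' := flat_same_universe R' A' hinj' hdim'
  haveI : Module.Flat R R' :=
    Module.Flat.of_linearEquiv (ULift.moduleEquiv (R := R) (M := R))
  haveI : IsScalarTower R R' A' := by
    refine ⟨fun r x a => ?_⟩
    apply ULift.ext
    show (r • x.down) • a.down = r • (x.down • a.down)
    rw [smul_assoc]
  haveI : Module.Flat R A' := Module.Flat.trans R R' A'
  exact Module.Flat.of_linearEquiv (ULift.moduleEquiv (R := R) (M := A)).symm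

/-- Purity + Nakayama: a finite flat local extension of a Noetherian local ring of dimension `≥ 2`
with trivial residue extension, carrying a group action with invariants in the base and trivial
inertia away from the closed point, is trivial. -/
theorem algebraMap_surjective_of_trivial_inertia (R : Type u) (A : Type v) [CommRing R]
    [CommRing A] [IsNoetherianRing R] [IsLocalRing R] [IsLocalRing A] [Algebra R A]
    [Module.Finite R A] [Module.Flat R A] [IsLocalHom (algebraMap R A)]
    (hres : Function.Surjective (IsLocalRing.residue A ∘ algebraMap R A))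
    (hdim : (2 : WithBot ℕ∞) ≤ ringKrullDim R)
    (H : Type w) [Group H] [Fintype H] [MulSemiringAction H A] [SMulCommClass H R A]
    (htr : ∀ s : A, ∃ r : R, algebraMap R A r = ∑ τ : H, τ • s)
    (hin : ∀ P : Ideal A, P.IsPrime → P ≠ maximalIdeal A → ∀ τ : H, τ ≠ 1 →
      ∃ a : A, τ • a - a ∉ P) :
    Function.Surjective (algebraMap R A) := by
  classical
  have hcomap : (maximalIdeal A).comap (algebraMap R A) = maximalIdeal R := by
    ext x
    simp only [Ideal.mem_comap, mem_maximalIdeal, mem_nonunits_iff]
    exact not_congr (isUnit_map_iff (algebraMap R A) x)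
  haveI : Algebra.FinitePresentation R A :=
    Algebra.FinitePresentation.of_finiteType.mp inferInstance
  have het : Algebra.Etale R A := by
    refine Groth.Agent.Lib.PurityFFH3.etale_of_punctured hdim ?_
    intro q hq
    have hqm : q.asIdeal ≠ maximalIdeal A := by
      intro h
      apply hq
      rw [h, hcomap]
    haveI : q.asIdeal.IsPrime := q.2
    haveI : Algebra.IsUnramifiedAt R q.asIdeal :=
      Groth.Agent.Lib.InertiaUnramH3.isUnramifiedAt htr q.asIdeal (hin q.asIdeal q.2 hqm)
    exact Algebra.IsEtaleAt.of_isUnramifiedAt_of_flat q.asIdeal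
  haveI : Algebra.FormallyUnramified R A := inferInstance
  have hmap : (maximalIdeal R).map (algebraMap R A) = maximalIdeal A :=
    Algebra.FormallyUnramified.map_maximalIdeal
  have hsurj : ∀ a : A, ∃ b : R, a - algebraMap R A b ∈ maximalIdeal A := by
    intro a
    obtain ⟨c, hc⟩ := hres (residue A a)
    refine ⟨c, ?_⟩
    rw [← Ideal.Quotient.eq_zero_iff_mem, map_sub, sub_eq_zero]
    exact hc.symm
  have htop : (⊤ : Submodule R A) ≤ LinearMap.range (Algebra.linearMap R A) := by
    refine Submodule.le_of_le_smul_of_le_jacobson_bot (I := maximalIdeal R)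
      Module.Finite.fg_top (IsLocalRing.maximalIdeal_le_jacobson ⊥) ?_
    intro a _
    obtain ⟨b, hb⟩ := hsurj a
    have h1 : a = algebraMap R A b + (a - algebraMap R A b) := by ring
    rw [h1]
    refine Submodule.add_mem_sup ⟨b, rfl⟩ ?_
    rw [← hmap] at hb
    rw [Ideal.smul_top_eq_map]
    exact hb
  intro a
  obtain ⟨b, hb⟩ := htop (Submodule.mem_top (x := a))
  exact ⟨b, hb⟩

/-- cyclic group of order `p²`: a subgroup meeting the order-`p` subgroup trivially is trivial -/
theorem subgroup_eq_bot_of_cyclic {H : Type*} [Group H] [Finite H] (p : ℕ) [hp : Fact p.Prime]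
    (hcard : Nat.card H = p ^ 2) (Γ : Subgroup H) (hΓ : Nat.card Γ = p) (h : H) (hh : h ^ p ≠ 1)
    (I : Subgroup H) (hI : I ⊓ Γ = ⊥) : I = ⊥ := by
  classical
  have hord : orderOf h = p ^ 2 := by
    have hdvd : orderOf h ∣ p ^ 2 := hcard ▸ orderOf_dvd_natCard h
    obtain ⟨k, hk, hk'⟩ := (Nat.dvd_prime_pow hp.out).1 hdvd
    interval_cases k
    · exfalso
      rw [pow_zero, orderOf_eq_one_iff] at hk'
      exact hh (by rw [hk', one_pow])
    · exfalso
      rw [pow_one] at hk'
      exact hh (by rw [← hk', pow_orderOf_eq_one])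
    · exact hk'
  have htop : Subgroup.zpowers h = ⊤ := by
    refine Subgroup.eq_top_of_card_eq _ ?_
    rw [Nat.card_zpowers, hord, hcard]
  -- elements killed by `p` lie in `⟨h ^ p⟩`
  have hkill : ∀ g : H, g ^ p = 1 → g ∈ Subgroup.zpowers (h ^ p) := by
    intro g hg
    have hgm : g ∈ Subgroup.zpowers h := htop ▸ Subgroup.mem_top g
    obtain ⟨k, rfl⟩ := Subgroup.mem_zpowers_iff.1 hgm
    have h1 : h ^ (k * (p : ℤ)) = 1 := by
      rw [zpow_mul, zpow_natCast]
      exact hg
    have h2 : ((p ^ 2 : ℕ) : ℤ) ∣ k * (p : ℤ) := by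
      rw [← hord]
      exact (orderOf_dvd_iff_zpow_eq_one).2 h1
    have hp0 : (p : ℤ) ≠ 0 := by exact_mod_cast hp.out.ne_zero
    have h3 : (p : ℤ) ∣ k := by
      have h4 : (p : ℤ) * (p : ℤ) ∣ k * (p : ℤ) := by
        have : ((p ^ 2 : ℕ) : ℤ) = (p : ℤ) * (p : ℤ) := by push_cast; ring
        rwa [this] at h2
      exact (mul_dvd_mul_iff_right hp0).1 h4
    obtain ⟨m, rfl⟩ := h3
    rw [Subgroup.mem_zpowers_iff]
    refine ⟨m, ?_⟩
    rw [← zpow_natCast, ← zpow_mul]
  have hΓle : Γ ≤ Subgroup.zpowers (h ^ p) := by
    intro γ hγ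
    apply hkill
    have h1 : (⟨γ, hγ⟩ : Γ) ^ Nat.card Γ = 1 := pow_card_eq_one'
    rw [hΓ] at h1
    exact congrArg Subtype.val h1
  have hZcard : Nat.card (Subgroup.zpowers (h ^ p)) = p := by
    rw [Nat.card_zpowers, orderOf_pow, hord]
    have : Nat.gcd (p ^ 2) p = p := by
      rw [Nat.gcd_comm]
      exact Nat.gcd_eq_left (dvd_pow_self p two_ne_zero)
    rw [this, pow_two, Nat.mul_div_cancel _ hp.out.pos]
  have hΓeq : Γ = Subgroup.zpowers (h ^ p) :=
    Subgroup.eq_of_le_of_card_ge hΓle (by rw [hZcard, hΓ])
  rw [Subgroup.eq_bot_iff_forall]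
  intro g hg
  have hgp2 : (g ^ p) ^ p = 1 := by
    rw [← pow_mul, ← pow_two, ← hcard]
    exact pow_card_eq_one'
  have h1 : g ^ p ∈ I ⊓ Γ := ⟨I.pow_mem hg p, hΓeq ▸ hkill _ hgp2⟩
  rw [hI, Subgroup.mem_bot] at h1
  have h2 : g ∈ I ⊓ Γ := ⟨hg, hΓeq ▸ hkill _ h1⟩
  rw [hI, Subgroup.mem_bot] at h2
  exact h2

end Groth.Agent.Lib.NormalDim2H3
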