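import Mathlib
set_option autoImplicit false
set_option linter.style.haveILetI false

universe u

open CategoryTheory TensorProduct

namespace NormalFibProdH4

section flat

variable {V : Type u} [CommRing V]

lemma flat_of_fg_flat (h : ∀ J : Ideal V, J.FG → Module.Flat V J) (I : Ideal V) :
    Module.Flat V I := by
  rw [Module.Flat.iff_rTensor_injective]
  intro J hJ
  haveI := h J hJ
  have h1 : Function.Injective (LinearMap.lTensor J I.subtype) :=
    Module.Flat.lTensor_preserves_injective_linearMap _ Subtype.val_injective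
  have h2 : Function.Injective (LinearMap.rTensor V J.subtype) :=
    Module.Flat.rTensor_preserves_injective_linearMap _ Subtype.val_injective
  have h3 : (LinearMap.lTensor V I.subtype) ∘ₗ (LinearMap.rTensor I J.subtype) =
      (LinearMap.rTensor V J.subtype) ∘ₗ (LinearMap.lTensor J I.subtype) := by
    rw [LinearMap.lTensor_comp_rTensor, LinearMap.rTensor_comp_lTensor]
  have h4 : Function.Injective
      ((LinearMap.lTensor V I.subtype) ∘ (LinearMap.rTensor I J.subtype)) := by
    rw [← LinearMap.coe_comp, h3, LinearMap.coe_comp]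
    exact h2.comp h1
  exact Function.Injective.of_comp h4

end flat

section pi

variable {ι : Type u} (W : ι → Type u) [∀ i, CommRing (W i)] [∀ i, IsDomain (W i)]

lemma projective_span_singleton (c : Π i, W i) :
    Module.Projective (Π i, W i) (Ideal.span {c} : Ideal (Π i, W i)) := by
  classical
  let e : Π i, W i := fun i => if c i = 0 then 0 else 1
  have hec : e * c = c := by
    ext i
    by_cases h : c i = 0 <;> simp [e, h]
  have hann : ∀ x : Π i, W i, x * c = 0 → x * e = 0 := by
    intro x hx
    ext i
    have hxi : x i * c i = 0 := congrFun hx i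
    by_cases h : c i = 0
    · simp [e, h]
    · have : x i = 0 := (mul_eq_zero.mp hxi).resolve_right h
      simp [this]
  let π : (Π i, W i) →ₗ[Π i, W i] (Ideal.span {c} : Ideal (Π i, W i)) :=
    (LinearMap.toSpanSingleton (Π i, W i) (Π i, W i) c).codRestrict _
      (fun x => Ideal.mem_span_singleton'.mpr ⟨x, rfl⟩)
  have hex : ∀ y : (Ideal.span {c} : Ideal (Π i, W i)), ∃ x : Π i, W i, x * c = y.1 :=
    fun y => Ideal.mem_span_singleton'.mp y.2
  choose r hr using hex
  let s : (Ideal.span {c} : Ideal (Π i, W i)) →ₗ[Π i, W i] (Π i, W i) :=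
    { toFun := fun y => r y * e
      map_add' := fun y y' => by
        have h0 : (r (y + y') - r y - r y') * c = 0 := by
          rw [sub_mul, sub_mul, hr, hr, hr]
          simp
        have := hann _ h0
        linear_combination this
      map_smul' := fun a y => by
        have h0 : (r (a • y) - a * r y) * c = 0 := by
          rw [sub_mul, mul_assoc, hr, hr]
          simp
        have := hann _ h0
        simp only [RingHom.id_apply, smul_eq_mul]
        linear_combination this }
  refine Module.Projective.of_split s π (LinearMap.ext fun y => Subtype.ext ?_)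
  show ((r y * e) • c : Π i, W i) = y.1
  rw [smul_eq_mul, mul_assoc, hec, hr]

variable [∀ i, ValuationRing (W i)]

lemma exists_span_pair (a b : Π i, W i) :
    ∃ c : Π i, W i, (Ideal.span {a} ⊔ Ideal.span {b} : Ideal (Π i, W i)) = Ideal.span {c} := by
  classical
  have hab : ∀ i, a i ∣ b i ∨ b i ∣ a i := fun i => ValuationRing.dvd_total _ _
  let c : Π i, W i := fun i => if a i ∣ b i then a i else b i
  have hca : ∀ i, c i ∣ a i := fun i => by
    by_cases h : a i ∣ b i
    · simp [c, h]
    · simpa [c, h] using (hab i).resolve_left h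
  have hcb : ∀ i, c i ∣ b i := fun i => by
    by_cases h : a i ∣ b i
    · simp [c, h]
    · simp [c, h]
  choose u hu using hca
  choose v hv using hcb
  let e : Π i, W i := fun i => if a i ∣ b i then 1 else 0
  refine ⟨c, le_antisymm ?_ ?_⟩
  · rw [sup_le_iff, Ideal.span_singleton_le_span_singleton, Ideal.span_singleton_le_span_singleton]
    exact ⟨⟨u, funext hu⟩, ⟨v, funext hv⟩⟩
  · rw [Ideal.span_singleton_le_iff_mem]
    have hc : c = e * a + (1 - e) * b := by
      ext i
      by_cases h : a i ∣ b i <;> simp [c, e, h]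
    rw [hc]
    exact Ideal.add_mem _
      (Ideal.mul_mem_left _ _ (Ideal.mem_sup_left (Ideal.mem_span_singleton_self a)))
      (Ideal.mul_mem_left _ _ (Ideal.mem_sup_right (Ideal.mem_span_singleton_self b)))

lemma fg_principal (J : Ideal (Π i, W i)) (hJ : J.FG) :
    ∃ c : Π i, W i, J = Ideal.span {c} := by
  refine Submodule.fg_induction (R := Π i, W i) (M := Π i, W i)
    (motive := fun N _ => ∃ c : Π i, W i, N = Ideal.span {c}) ?_ ?_ J hJ
  · intro x
    exact ⟨x, rfl⟩
  · rintro N₁ N₂ _ _ ⟨a, rfl⟩ ⟨b, rfl⟩
    exact exists_span_pair W a b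

lemma flat_ideal_pi (I : Ideal (Π i, W i)) : Module.Flat (Π i, W i) I := by
  refine flat_of_fg_flat (fun J hJ => ?_) I
  obtain ⟨c, rfl⟩ := fg_principal W J hJ
  haveI := projective_span_singleton W c
  infer_instance

end pi

section main

variable (A K : Type u) [CommRing A] [IsDomain A] [Field K] [Algebra A K]
  [IsFractionRing A K] [IsIntegrallyClosed A]

lemma isIntegrallyClosedIn_range :
    IsIntegrallyClosedIn ((algebraMap A K).range : Subring K) K := by
  rw [isIntegrallyClosedIn_iff]
  refine ⟨Subtype.val_injective, fun {x} hx => ?_⟩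
  have hA : IsIntegrallyClosedIn A K := (isIntegrallyClosed_iff_isIntegrallyClosedIn K).mp inferInstance
  obtain ⟨p, hp, hpx⟩ := hx
  have hsurj : Function.Surjective (algebraMap A K).rangeRestrict :=
    (algebraMap A K).rangeRestrict_surjective
  obtain ⟨q, hq, -, hqm⟩ := Polynomial.lifts_and_natDegree_eq_and_monic
    ((Polynomial.mem_lifts p).mpr (Polynomial.map_surjective _ hsurj p)) hp
  have hint : IsIntegral A x := by
    refine ⟨q, hqm, ?_⟩
    have e : algebraMap A K =
        (algebraMap ((algebraMap A K).range : Subring K) K).comp (algebraMap A K).rangeRestrict :=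
      RingHom.ext fun a => rfl
    rw [e, ← Polynomial.eval₂_map, hq]
    exact hpx
  obtain ⟨y, hy⟩ := (isIntegrallyClosedIn_iff.mp hA).2 hint
  exact ⟨⟨x, ⟨y, hy⟩⟩, rfl⟩

set_option maxHeartbeats 1600000 in
theorem main7143 :
    ∃ (V L : Type u) (_ : CommRing V) (_ : CommRing L) (f : A →+* V) (g : V →+* L) (h : K →+* L),
      g.comp f = h.comp (algebraMap A K) ∧
      (∀ I : Ideal V, Module.Flat V I) ∧ g.Flat ∧ Function.Injective g ∧
      Epi (CommRingCat.ofHom g) ∧
      ∀ (v : V) (k : K), g v = h k → ∃! a : A, f a = v ∧ algebraMap A K a = k := by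
  classical
  let R₀ : Subring K := (algebraMap A K).range
  haveI hic : IsIntegrallyClosedIn R₀ K := isIntegrallyClosedIn_range A K
  let ι : Type u := {W : ValuationSubring K // R₀ ≤ W.toSubring}
  let Wf : ι → Type u := fun i => ↥(i.1)
  let V : Type u := Π i : ι, Wf i
  let L : Type u := ι → K
  let f : A →+* V := RingHom.pi (fun i : ι =>
    ((algebraMap A K).codRestrict i.1 (fun a => i.2 ⟨a, rfl⟩) : A →+* Wf i))
  let g : V →+* L := RingHom.pi (fun i : ι =>
    ((i.1.subtype : Wf i →+* K).comp (Pi.evalRingHom Wf i)))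
  let h : K →+* L := RingHom.pi (fun _ : ι => RingHom.id K)
  have hg_apply : ∀ (v : V) (i : ι), g v i = ((v i : Wf i) : K) := fun v i => rfl
  have hginj : Function.Injective g := by
    intro x y hxy
    funext i
    apply Subtype.ext
    have := congrFun hxy i
    rwa [hg_apply, hg_apply] at this
  -- localization
  let M : Submonoid V :=
    { carrier := {b | ∀ i, b i ≠ 0}
      one_mem' := fun i => one_ne_zero
      mul_mem' := fun {a b} ha hb i => mul_ne_zero (ha i) (hb i) }
  letI alg : Algebra V L := g.toAlgebra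
  haveI hloc : IsLocalization M L := by
    rw [isLocalization_iff]
    refine ⟨?_, ?_, ?_⟩
    · intro y
      show IsUnit (g y.1)
      rw [Pi.isUnit_iff]
      intro i
      rw [hg_apply]
      exact IsUnit.mk0 _ (fun h0 => y.2 i (Subtype.ext h0))
    · intro z
      have hz : ∀ i : ι, ∃ (x m : Wf i), m ≠ 0 ∧ z i * (m : K) = (x : K) := by
        intro i
        by_cases hzi : z i ∈ i.1
        · exact ⟨⟨z i, hzi⟩, 1, one_ne_zero, by simp⟩
        · have hinv : (z i)⁻¹ ∈ i.1 := (i.1.mem_or_inv_mem (z i)).resolve_left hzi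
          have hz0 : z i ≠ 0 := fun h0 => hzi (h0 ▸ i.1.zero_mem)
          refine ⟨1, ⟨(z i)⁻¹, hinv⟩, fun h0 => ?_, ?_⟩
          · exact inv_ne_zero hz0 (congrArg Subtype.val h0)
          · show z i * (z i)⁻¹ = ((1 : Wf i) : K)
            rw [mul_inv_cancel₀ hz0]
            rfl
      choose x m hm hxm using hz
      refine ⟨(x, ⟨m, hm⟩), ?_⟩
      funext i
      exact hxm i
    · intro x y hxy
      exact ⟨1, by rw [hginj hxy]⟩
  refine ⟨V, L, inferInstance, inferInstance, f, g, h, ?_, ?_, ?_, hginj, ?_, ?_⟩
  · exact RingHom.ext fun a => funext fun i => rfl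
  · exact fun I => flat_ideal_pi Wf I
  · exact IsLocalization.flat L M
  · exact IsLocalization.epi M L
  · intro v k hvk
    have hk : ∀ i : ι, ((v i : Wf i) : K) = k := fun i => by
      have := congrFun hvk i
      rwa [hg_apply] at this
    have hkR : k ∈ R₀ := by
      by_contra hkR
      obtain ⟨W, hW, hkW⟩ := Subring.exists_le_valuationSubring_of_isIntegrallyClosedIn hkR
      exact hkW (hk ⟨W, hW⟩ ▸ (v ⟨W, hW⟩).2)
    obtain ⟨a, ha⟩ := hkR
    refine ⟨a, ⟨?_, ha⟩, fun a' ha' => IsFractionRing.injective A K (ha'.2.trans ha.symm)⟩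
    funext i
    apply Subtype.ext
    show algebraMap A K a = ((v i : Wf i) : K)
    rw [ha, hk]

end main

end NormalFibProdH4
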