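import Mathlib
import Groth.Prelude.Def_EGA4b
import Groth.Prelude.Def_CAlg
import Groth.Agent.S2610
import Groth.Agent.Lib.SerreNormal_helper5
import Groth.Agent.Lib.NorLocus_helper3

/-!
# Normality via a finite extension (helper5)

* `normal_of_finite_ext`: `B → R` flat map of Noetherian rings, `B` normal, `C ⊇ B` a finite
  `B`-algebra with `R ⊗[B] C` normal; then `R` is normal.
APPEND-ONLY once landed.
-/

set_option autoImplicit false
universe u
open scoped TensorProduct

namespace Groth.Agent.Lib.NormalFinExtH5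


open RingTheory.Sequence

/-- depth does not decrease along a flat local homomorphism -/
theorem depth_le_of_flat_local (A' B' : Type u) [CommRing A'] [CommRing B'] [IsLocalRing A']
    [IsLocalRing B'] [Algebra A' B'] [Module.Flat A' B'] [IsLocalHom (algebraMap A' B')] :
    LocCoh.depth A' A' ≤ LocCoh.depth B' B' := by
  rw [← ENat.forall_natCast_le_iff_le]
  intro n hn
  unfold LocCoh.depth at hn ⊢
  rw [Groth.Agent.DepthLib.le_idealDepth_iff] at hn ⊢
  rcases hn with h | ⟨rs, h1, h2, h3⟩
  · exfalso
    have h1 : (1 : A') ∈ IsLocalRing.maximalIdeal A' • (⊤ : Submodule A' A') := by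
      rw [h]; trivial
    rw [Ideal.smul_top_eq_map, Algebra.algebraMap_self, Ideal.map_id] at h1
    exact (IsLocalRing.maximalIdeal.isMaximal A').ne_top ((Ideal.eq_top_iff_one _).2 h1)
  · right
    refine ⟨rs.map (algebraMap A' B'), IsWeaklyRegular.of_flat h1, ?_, ?_⟩
    · intro r hr
      obtain ⟨a, ha, rfl⟩ := List.mem_map.1 hr
      have h : (IsLocalRing.maximalIdeal A').map (algebraMap A' B') ≤ IsLocalRing.maximalIdeal B' :=
        ((IsLocalRing.local_hom_TFAE (algebraMap A' B')).out 0 2 rfl rfl).mp ‹_›
      exact h (Ideal.mem_map_of_mem _ (h2 a ha))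
    · rw [List.length_map, h3]



/-- A Noetherian local normal domain of dimension `≤ 1` is a principal ideal ring. -/
theorem isPrincipalIdealRing_of_normal_of_dim_le_one (S : Type u) [CommRing S] [IsNoetherianRing S]
    [IsLocalRing S] [IsDomain S] [IsIntegrallyClosed S] (h : ringKrullDim S ≤ 1) :
    IsPrincipalIdealRing S := by
  by_cases h1 : ringKrullDim S = 1
  · have hsurj : ∀ x : FractionRing S, IsIntegral S x →
        ∃ a, algebraMap S (FractionRing S) a = x :=
      fun x hx => IsIntegrallyClosed.isIntegral_iff.1 hx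
    haveI := Groth.Agent.Lib.DimOne3_helper3.isDVR_of_integral_surj h1 hsurj
    infer_instance
  · have h0 : ringKrullDim S ≤ 0 :=
      Groth.Agent.SerreLib.le_zero_of_lt_one (lt_of_le_of_ne h h1)
    haveI : Ring.KrullDimLE 0 S := Ring.krullDimLE_iff.2 (by exact_mod_cast h0)
    have hf : IsField S := Ring.KrullDimLE.isField_of_isDomain
    letI := hf.toField
    infer_instance



theorem normal_congr {A : Type u} [CommRing A] {p q : Ideal A} [p.IsPrime] [q.IsPrime]
    (h : p = q) :
    (IsDomain (Localization.AtPrime p) ∧ IsIntegrallyClosed (Localization.AtPrime p)) ↔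
      (IsDomain (Localization.AtPrime q) ∧ IsIntegrallyClosed (Localization.AtPrime q)) := by
  subst h
  exact Iff.rfl

section GoingDown

variable (B R : Type u) [CommRing B] [CommRing R] [Algebra B R] [Module.Flat B R]

/-- elements of `B` lying in a minimal prime of `R` below `q` die in `B_p`, `p = q ∩ B`, when `B_p`
is a domain. -/
theorem map_eq_zero_of_mem_minimal (p : Ideal B) [p.IsPrime] [IsDomain (Localization.AtPrime p)]
    (q₀ : Ideal R) (hq₀ : q₀ ∈ minimalPrimes R) (hle : q₀.comap (algebraMap B R) ≤ p) (b : B)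
    (hb : algebraMap B R b ∈ q₀) : algebraMap B (Localization.AtPrime p) b = 0 := by
  haveI : q₀.IsPrime := hq₀.1.1
  set p₀ := RingHom.ker (algebraMap B (Localization.AtPrime p)) with hp₀
  haveI : p₀.IsPrime := RingHom.ker_isPrime _
  set p' := q₀.comap (algebraMap B R) with hp'
  haveI : p'.IsPrime := Ideal.comap_isPrime _ _
  have h1 : p₀ ≤ p' := by
    intro x hx
    rw [hp₀, RingHom.mem_ker, IsLocalization.map_eq_zero_iff p.primeCompl] at hx
    obtain ⟨s, hs⟩ := hx
    have h2 : (s : B) * x ∈ p' := by rw [hs]; exact Ideal.zero_mem _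
    rcases Ideal.IsPrime.mem_or_mem inferInstance h2 with h3 | h3
    · exact absurd (hle h3) s.2
    · exact h3
  have h2 : p₀ = p' := by
    by_contra hne
    have hlt : p₀ < p' := lt_of_le_of_ne h1 hne
    haveI : q₀.LiesOver p' := ⟨rfl⟩
    obtain ⟨P, hPlt, hPprime, hPover⟩ := Ideal.exists_ideal_lt_liesOver_of_lt q₀ hlt
    exact absurd (hq₀.2 ⟨hPprime, bot_le⟩ hPlt.le) (not_le_of_gt hPlt)
  have : b ∈ p₀ := by rw [h2]; exact hb
  exact this

end GoingDown

section Flat

variable (B R C : Type u) [CommRing B] [CommRing R] [CommRing C] [Algebra B R] [Algebra B C]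

attribute [local instance] Algebra.TensorProduct.rightAlgebra

theorem flat_right [Module.Flat B R] : Module.Flat C (R ⊗[B] C) :=
  Module.Flat.of_linearEquiv (Algebra.TensorProduct.commRight B C R).symm.toLinearEquiv

/-- flatness of `C_P` over `B` -/
theorem flat_localization_of_pid (p : Ideal B) [p.IsPrime] (P : Ideal C) [P.IsPrime]
    (hpP : p = P.comap (algebraMap B C))
    [IsDomain (Localization.AtPrime p)] [IsPrincipalIdealRing (Localization.AtPrime p)]
    [IsDomain (Localization.AtPrime P)]
    (hinj : ∀ b : B, algebraMap B (Localization.AtPrime P) b = 0 →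
      algebraMap B (Localization.AtPrime p) b = 0) :
    Module.Flat B (Localization.AtPrime P) := by
  let φ : Localization.AtPrime p →+* Localization.AtPrime P :=
    Localization.localRingHom p P (algebraMap B C) hpP
  letI : Algebra (Localization.AtPrime p) (Localization.AtPrime P) := φ.toAlgebra
  haveI : IsScalarTower B (Localization.AtPrime p) (Localization.AtPrime P) := by
    refine IsScalarTower.of_algebraMap_eq fun b => ?_
    change _ = φ (algebraMap B (Localization.AtPrime p) b)
    rw [Localization.localRingHom_to_map, ← IsScalarTower.algebraMap_apply]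
  have hφinj : Function.Injective φ := by
    rw [injective_iff_map_eq_zero]
    intro x hx
    obtain ⟨b, s, rfl⟩ := IsLocalization.exists_mk'_eq p.primeCompl x
    have h1 : algebraMap B (Localization.AtPrime p) b =
        IsLocalization.mk' (Localization.AtPrime p) b s * algebraMap B (Localization.AtPrime p) s :=
      (IsLocalization.mk'_spec _ b s).symm
    have h2 : algebraMap B (Localization.AtPrime P) b = 0 := by
      rw [IsScalarTower.algebraMap_apply B (Localization.AtPrime p) (Localization.AtPrime P), h1,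
        map_mul]
      change φ _ * _ = 0
      rw [hx, zero_mul]
    have h3 := hinj b h2
    rw [IsLocalization.map_eq_zero_iff p.primeCompl] at h3
    rw [IsLocalization.mk'_eq_zero_iff]
    exact h3
  haveI : Module.IsTorsionFree (Localization.AtPrime p) (Localization.AtPrime P) := by
    refine ⟨fun r hr m m' h => ?_⟩
    have hr0 : φ r ≠ 0 := by
      intro h0
      have : r = 0 := hφinj (by rw [h0, map_zero])
      exact hr.ne_zero this
    simp only [Algebra.smul_def] at h
    exact mul_left_cancel₀ hr0 h
  haveI : Module.Flat (Localization.AtPrime p) (Localization.AtPrime P) := inferInstance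
  exact Module.Flat.trans B (Localization.AtPrime p) (Localization.AtPrime P)

end Flat

section ClaimQ

variable (B R C : Type u) [CommRing B] [CommRing R] [CommRing C] [Algebra B R] [Algebra B C]
  [IsNoetherianRing B] [IsNoetherianRing R] [Module.Flat B R] [Module.Finite B C]

attribute [local instance] Algebra.TensorProduct.rightAlgebra

theorem normal_at_of_height_le_one (hinj : Function.Injective (algebraMap B C))
    (hB : EGA4.IsNormalRing B) (hE : EGA4.IsNormalRing (R ⊗[B] C))
    (q : Ideal R) [q.IsPrime] (hq : (q.comap (algebraMap B R)).height ≤ 1) :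
    IsDomain (Localization.AtPrime q) ∧ IsIntegrallyClosed (Localization.AtPrime q) := by
  classical
  haveI : Module.Flat C (R ⊗[B] C) := flat_right B R C
  haveI : IsNoetherianRing (R ⊗[B] C) := IsNoetherianRing.of_finite R (R ⊗[B] C)
  haveI : IsNoetherianRing C := IsNoetherianRing.of_finite B C
  have hRE : Function.Injective (algebraMap R (R ⊗[B] C)) :=
    Algebra.TensorProduct.includeLeft_injective (S := R) hinj
  set p := q.comap (algebraMap B R) with hp
  haveI : p.IsPrime := Ideal.comap_isPrime _ _
  obtain ⟨q₀, hq₀, hq₀q⟩ := Ideal.exists_minimalPrimes_le (bot_le : (⊥ : Ideal R) ≤ q)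
  haveI : q₀.IsPrime := hq₀.1.1
  obtain ⟨Q₀, -, hQ₀prime, hQ₀⟩ :=
    Ideal.exists_ideal_over_prime_of_isIntegral (S := R ⊗[B] C) q₀ (⊥ : Ideal (R ⊗[B] C))
      (by
        intro x hx
        rw [Ideal.mem_comap, Ideal.mem_bot] at hx
        have : x = 0 := hRE (by rw [hx, map_zero])
        rw [this]; exact Ideal.zero_mem _)
  haveI := hQ₀prime
  obtain ⟨Q, hQ₀Q, hQprime, hQ⟩ :=
    Ideal.exists_ideal_over_prime_of_isIntegral_of_isPrime q Q₀ (by rw [hQ₀]; exact hq₀q)
  haveI := hQprime
  set P := Q.comap (algebraMap C (R ⊗[B] C)) with hP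
  haveI : P.IsPrime := Ideal.comap_isPrime _ _
  obtain ⟨hEd, hEic⟩ := hE Q
  haveI := hEd
  haveI := hEic
  obtain ⟨hCd, hCic⟩ := Groth.Agent.S2610.result C (R ⊗[B] C) Q
  haveI := hCd
  have hpP : p = P.comap (algebraMap B C) := by
    rw [hp, hP, ← hQ, Ideal.comap_comap, Ideal.comap_comap, ← IsScalarTower.algebraMap_eq,
      ← IsScalarTower.algebraMap_eq]
  obtain ⟨hBd, hBic⟩ := hB p
  haveI := hBd
  haveI := hBic
  haveI : IsPrincipalIdealRing (Localization.AtPrime p) := by
    apply isPrincipalIdealRing_of_normal_of_dim_le_one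
    rw [IsLocalization.AtPrime.ringKrullDim_eq_height p]
    exact_mod_cast hq
  -- flatness of `C_P` over `B`
  haveI hflatCP : Module.Flat B (Localization.AtPrime P) := by
    apply flat_localization_of_pid B C p P hpP
    intro b hb
    apply map_eq_zero_of_mem_minimal B R p q₀ hq₀ (Ideal.comap_mono hq₀q) b
    rw [IsScalarTower.algebraMap_apply B C (Localization.AtPrime P),
      IsLocalization.map_eq_zero_iff P.primeCompl] at hb
    obtain ⟨s, hs⟩ := hb
    have h1 : algebraMap C (R ⊗[B] C) (s : C) * algebraMap C (R ⊗[B] C) (algebraMap B C b) ∈ Q₀ := by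
      rw [← map_mul, hs, map_zero]; exact Ideal.zero_mem _
    have h2 : algebraMap C (R ⊗[B] C) (s : C) ∉ Q₀ := fun h => s.2 (hQ₀Q h)
    have h3 := (Ideal.IsPrime.mem_or_mem inferInstance h1).resolve_left h2
    rw [← IsScalarTower.algebraMap_apply, IsScalarTower.algebraMap_apply B R (R ⊗[B] C)] at h3
    rw [← hQ₀]
    exact h3
  -- the flat `R`-algebra `W = R ⊗ C_P`, a localization of `E`
  let ψ : (R ⊗[B] C) →ₐ[R] (R ⊗[B] Localization.AtPrime P) :=
    Algebra.TensorProduct.map (AlgHom.id R R) (IsScalarTower.toAlgHom B C (Localization.AtPrime P))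
  letI : Algebra (R ⊗[B] C) (R ⊗[B] Localization.AtPrime P) := ψ.toRingHom.toAlgebra
  haveI : IsScalarTower R (R ⊗[B] C) (R ⊗[B] Localization.AtPrime P) :=
    IsScalarTower.of_algebraMap_eq fun r => (ψ.commutes r).symm
  haveI hloc : IsLocalization (Algebra.algebraMapSubmonoid (R ⊗[B] C) P.primeCompl)
      (R ⊗[B] Localization.AtPrime P) := by
    refine IsLocalization.tensorProduct_tensorProduct_right B R P.primeCompl
      (Localization.AtPrime P) ?_
    ext c
    change ψ (1 ⊗ₜ c) = 1 ⊗ₜ (algebraMap C (Localization.AtPrime P) c)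
    simp [ψ]
  haveI : IsNoetherianRing (R ⊗[B] Localization.AtPrime P) :=
    IsLocalization.isNoetherianRing (Algebra.algebraMapSubmonoid (R ⊗[B] C) P.primeCompl) _
      inferInstance
  -- the prime of `W` above `Q`
  have hdisj : Disjoint (Algebra.algebraMapSubmonoid (R ⊗[B] C) P.primeCompl : Set (R ⊗[B] C))
      (Q : Set (R ⊗[B] C)) := by
    rw [Set.disjoint_left]
    rintro x ⟨c, hc, rfl⟩ hxQ
    exact hc hxQ
  set 𝔫 := Q.map (algebraMap (R ⊗[B] C) (R ⊗[B] Localization.AtPrime P)) with h𝔫
  haveI h𝔫prime : 𝔫.IsPrime :=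
    IsLocalization.isPrime_of_isPrime_disjoint
      (Algebra.algebraMapSubmonoid (R ⊗[B] C) P.primeCompl) _ Q inferInstance hdisj
  have h𝔫comap : 𝔫.comap (algebraMap (R ⊗[B] C) (R ⊗[B] Localization.AtPrime P)) = Q :=
    IsLocalization.comap_map_of_isPrime_disjoint
      (Algebra.algebraMapSubmonoid (R ⊗[B] C) P.primeCompl) _ inferInstance hdisj
  have hW : IsDomain (Localization.AtPrime 𝔫) ∧ IsIntegrallyClosed (Localization.AtPrime 𝔫) := by
    have h1 := (Groth.Agent.Lib.NorLocusH3.mem_norLocus_under_iff (R ⊗[B] C)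
      (Algebra.algebraMapSubmonoid (R ⊗[B] C) P.primeCompl) (R ⊗[B] Localization.AtPrime P)
      ⟨𝔫, h𝔫prime⟩).1
    apply h1
    change IsDomain (Localization.AtPrime
        (𝔫.comap (algebraMap (R ⊗[B] C) (R ⊗[B] Localization.AtPrime P)))) ∧
      IsIntegrallyClosed (Localization.AtPrime
        (𝔫.comap (algebraMap (R ⊗[B] C) (R ⊗[B] Localization.AtPrime P))))
    exact (normal_congr h𝔫comap).2 ⟨hEd, hEic⟩
  obtain ⟨hWd, hWic⟩ := hW
  haveI := hWd
  haveI := hWic
  have hfin := Groth.Agent.S2610.result R (R ⊗[B] Localization.AtPrime P) 𝔫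
  have hcomapR : 𝔫.comap (algebraMap R (R ⊗[B] Localization.AtPrime P)) = q := by
    rw [IsScalarTower.algebraMap_eq R (R ⊗[B] C) (R ⊗[B] Localization.AtPrime P),
      ← Ideal.comap_comap, h𝔫comap, hQ]
  exact (normal_congr hcomapR).1 hfin

omit [Module.Finite B C] in
theorem depth_localization_le (q : Ideal R) [q.IsPrime] :
    haveI : (q.comap (algebraMap B R)).IsPrime := Ideal.comap_isPrime _ _
    LocCoh.depth (Localization.AtPrime (q.comap (algebraMap B R)))
        (Localization.AtPrime (q.comap (algebraMap B R))) ≤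
      LocCoh.depth (Localization.AtPrime q) (Localization.AtPrime q) := by
  haveI : (q.comap (algebraMap B R)).IsPrime := Ideal.comap_isPrime _ _
  set p := q.comap (algebraMap B R) with hp
  let φ : Localization.AtPrime p →+* Localization.AtPrime q :=
    Localization.localRingHom p q (algebraMap B R) rfl
  letI : Algebra (Localization.AtPrime p) (Localization.AtPrime q) := φ.toAlgebra
  have hflat : φ.Flat :=
    RingHom.Flat.localRingHom (RingHom.flat_algebraMap_iff.mpr inferInstance) q p rfl
  haveI : Module.Flat (Localization.AtPrime p) (Localization.AtPrime q) := hflat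
  haveI : IsLocalHom (algebraMap (Localization.AtPrime p) (Localization.AtPrime q)) :=
    Localization.isLocalHom_localRingHom p q (algebraMap B R) rfl
  exact depth_le_of_flat_local _ _

theorem normal_of_finite_ext (hinj : Function.Injective (algebraMap B C))
    (hB : EGA4.IsNormalRing B) (hE : EGA4.IsNormalRing (R ⊗[B] C)) :
    EGA4.IsNormalRing R := by
  unfold EGA4.IsNormalRing
  rw [Groth.Agent.SerreLib.serre_criterion R]
  refine ⟨fun q hqprime hht => ?_, fun q hqprime => ?_⟩
  · haveI : (q.comap (algebraMap B R)).IsPrime := Ideal.comap_isPrime _ _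
    haveI : q.LiesOver (q.comap (algebraMap B R)) := ⟨rfl⟩
    have hp : (q.comap (algebraMap B R)).height ≤ 1 := by
      refine le_trans ?_ hht
      rw [Ideal.height_eq_height_add_of_liesOver_of_hasGoingDown (q.comap (algebraMap B R)) q]
      exact le_self_add
    obtain ⟨hd, hic⟩ := normal_at_of_height_le_one B R C hinj hB hE q hp
    refine Groth.Agent.SerreLib.regular_of_normal_of_dim_le_one (Localization.AtPrime q) ?_
    rw [IsLocalization.AtPrime.ringKrullDim_eq_height q]
    exact_mod_cast hht
  · rw [Groth.Agent.DepthLib.supportDim_locSelf, Groth.Agent.DepthLib.depth_locSelf]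
    haveI : (q.comap (algebraMap B R)).IsPrime := Ideal.comap_isPrime _ _
    by_cases hp : (q.comap (algebraMap B R)).height ≤ 1
    · obtain ⟨hd, hic⟩ := normal_at_of_height_le_one B R C hinj hB hE q hp
      have := Groth.Agent.SerreLib.min_two_dim_le_depth (Localization.AtPrime q)
      rwa [IsLocalization.AtPrime.ringKrullDim_eq_height q] at this
    · have hB2 := ((Groth.Agent.SerreLib.serre_criterion B).1 hB).2 (q.comap (algebraMap B R))
      rw [Groth.Agent.DepthLib.supportDim_locSelf, Groth.Agent.DepthLib.depth_locSelf] at hB2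
      have h2 : (2 : ℕ∞) ≤ (q.comap (algebraMap B R)).height := by
        rw [not_le] at hp
        exact Order.add_one_le_of_lt hp
      have h3 : ((2 : ℕ∞) : WithBot ℕ∞) ≤
          ((LocCoh.depth (Localization.AtPrime (q.comap (algebraMap B R)))
            (Localization.AtPrime (q.comap (algebraMap B R))) : ℕ∞) : WithBot ℕ∞) := by
        refine le_trans ?_ hB2
        rw [le_min_iff]
        exact ⟨le_rfl, by exact_mod_cast h2⟩
      refine le_trans (min_le_left _ _) (le_trans h3 ?_)
      exact_mod_cast depth_localization_le B R q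

end ClaimQ


end Groth.Agent.Lib.NormalFinExtH5
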