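import Mathlib
import Groth.Agent.Lib.GDomainSch_helper6

/-!
# Normality of local rings passes to generizations (helper9)
-/

set_option autoImplicit false

open AlgebraicGeometry CategoryTheory TopologicalSpace

namespace Groth.Agent.Lib.NormalGen

universe u

/-- If `x ⤳ x₀` then the stalk at `x` is a localization of the stalk at `x₀`; in particular,
normality passes to generizations. -/
theorem normal_of_specializes {X : Scheme.{u}} {x x₀ : X} (h : x ⤳ x₀)
    [IsDomain (X.presheaf.stalk x₀)] [IsIntegrallyClosed (X.presheaf.stalk x₀)] :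
    IsDomain (X.presheaf.stalk x) ∧ IsIntegrallyClosed (X.presheaf.stalk x) := by
  obtain ⟨_, ⟨U, hU : IsAffineOpen U, rfl⟩, hx₀U, -⟩ :=
    X.isBasis_affineOpens.exists_subset_of_mem_open (Set.mem_univ x₀) isOpen_univ
  have hxU : x ∈ U := h.mem_open U.2 hx₀U
  letI a0 : Algebra Γ(X, U) (X.presheaf.stalk x₀) := X.presheaf.algebra_section_stalk ⟨x₀, hx₀U⟩
  letI a1 : Algebra Γ(X, U) (X.presheaf.stalk x) := X.presheaf.algebra_section_stalk ⟨x, hxU⟩
  letI a01 : Algebra (X.presheaf.stalk x₀) (X.presheaf.stalk x) :=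
    (X.presheaf.stalkSpecializes h).hom.toAlgebra
  haveI : IsScalarTower Γ(X, U) (X.presheaf.stalk x₀) (X.presheaf.stalk x) :=
    IsScalarTower.of_algebraMap_eq' (by
      have := X.presheaf.germ_stalkSpecializes (U := U) hx₀U h
      exact congrArg CommRingCat.Hom.hom this.symm)
  haveI l0 : IsLocalization.AtPrime (X.presheaf.stalk x₀) (hU.primeIdealOf ⟨x₀, hx₀U⟩).asIdeal :=
    hU.isLocalization_stalk ⟨x₀, hx₀U⟩
  haveI l1 : IsLocalization.AtPrime (X.presheaf.stalk x) (hU.primeIdealOf ⟨x, hxU⟩).asIdeal :=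
    hU.isLocalization_stalk ⟨x, hxU⟩
  have hle : (hU.primeIdealOf ⟨x₀, hx₀U⟩).asIdeal.primeCompl ≤
      (hU.primeIdealOf ⟨x, hxU⟩).asIdeal.primeCompl := by
    have := (Groth.Agent.Lib.GDomain.primeIdealOf_le_iff hU hxU hx₀U).mpr h
    intro a ha ha'
    exact ha (this ha')
  haveI l01 := IsLocalization.isLocalization_of_submonoid_le (X.presheaf.stalk x₀)
    (X.presheaf.stalk x) _ _ hle
  have hM : ((hU.primeIdealOf ⟨x, hxU⟩).asIdeal.primeCompl.map
      (algebraMap Γ(X, U) (X.presheaf.stalk x₀))) ≤ nonZeroDivisors (X.presheaf.stalk x₀) := by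
    intro s hs
    rw [mem_nonZeroDivisors_iff_ne_zero]
    rintro rfl
    have := IsLocalization.map_units (X.presheaf.stalk x) (⟨0, hs⟩ : ((hU.primeIdealOf
      ⟨x, hxU⟩).asIdeal.primeCompl.map (algebraMap Γ(X, U) (X.presheaf.stalk x₀))))
    simp only [map_zero] at this
    exact not_isUnit_zero this
  exact ⟨IsLocalization.isDomain_of_le_nonZeroDivisors _ hM,
    isIntegrallyClosed_of_isLocalization _ _ hM⟩

end Groth.Agent.Lib.NormalGen
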