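import Mathlib

/-!
# Normal local domains with separably closed fraction field are strictly henselian (helper3)
-/

set_option autoImplicit false
universe u

namespace Groth.Agent.Lib.NormalSepClosedH3

open Polynomial IsLocalRing

variable (R : Type*) [CommRing R] [IsDomain R] [IsIntegrallyClosed R]
  (K : Type*) [Field K] [Algebra R K] [IsFractionRing R K] [IsSepClosed K]

include K in
theorem natDegree_eq_one_or_derivative_eq_zero {F : R[X]} (hF : F.Monic) (hirr : Irreducible F) :
    F.natDegree = 1 ∨ derivative F = 0 := by
  have hinj : Function.Injective (algebraMap R K) := IsFractionRing.injective R K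
  have h1 : Irreducible (F.map (algebraMap R K)) :=
    (hF.irreducible_iff_irreducible_map_fraction_map).mp hirr
  by_cases hd : derivative (F.map (algebraMap R K)) = 0
  · right
    rw [Polynomial.derivative_map] at hd
    exact Polynomial.map_injective _ hinj (hd.trans (Polynomial.map_zero _).symm)
  · left
    have hsep := (separable_iff_derivative_ne_zero h1).mpr hd
    have hdeg := IsSepClosed.degree_eq_one_of_irreducible K h1 hsep
    have h2 : (F.map (algebraMap R K)).natDegree = 1 := natDegree_eq_of_degree_eq_some hdeg
    rwa [natDegree_map_eq_of_injective hinj] at h2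

variable [IsLocalRing R]

include K in
theorem exists_root_aux (n : ℕ) : ∀ (F : R[X]), F.Monic → F.natDegree = n → ∀ a₀ : R,
    F.eval a₀ ∈ maximalIdeal R → IsUnit (F.derivative.eval a₀) →
    ∃ a : R, F.IsRoot a ∧ a - a₀ ∈ maximalIdeal R := by
  induction n using Nat.strong_induction_on with
  | _ n ih =>
    intro F hF hn a₀ h₁ h₂
    by_cases hirr : Irreducible F
    · rcases natDegree_eq_one_or_derivative_eq_zero R K hF hirr with h | h
      · have hF' : F = X + C (F.coeff 0) := hF.eq_X_add_C h
        refine ⟨-F.coeff 0, ?_, ?_⟩
        · rw [IsRoot.def]
          conv_lhs => rw [hF']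
          simp
        · have : F.eval a₀ = a₀ + F.coeff 0 := by
            conv_lhs => rw [hF']
            simp
          rw [this] at h₁
          have h3 : -F.coeff 0 - a₀ = -(a₀ + F.coeff 0) := by ring
          rw [h3]
          exact neg_mem h₁
      · rw [h, eval_zero] at h₂
        exact absurd h₂ not_isUnit_zero
    · have hne1 : F ≠ 1 := by
        rintro rfl
        rw [eval_one] at h₁
        exact (maximalIdeal.isMaximal R).ne_top ((Ideal.eq_top_iff_one _).mpr h₁)
      rw [hF.irreducible_iff_natDegree', not_and_or, not_not] at hirr
      rcases hirr with h | h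
      · exact absurd h hne1
      push_neg at h
      obtain ⟨G, H, hG, hH, hGH, hdeg⟩ := h
      rw [Finset.mem_Ioc] at hdeg
      have hnat : F.natDegree = G.natDegree + H.natDegree := by
        rw [← hGH, hG.natDegree_mul hH]
      have hHlt : H.natDegree < n := by omega
      have hGlt : G.natDegree < n := by omega
      have hev : F.eval a₀ = G.eval a₀ * H.eval a₀ := by rw [← hGH, eval_mul]
      have hder : F.derivative.eval a₀ =
          G.derivative.eval a₀ * H.eval a₀ + G.eval a₀ * H.derivative.eval a₀ := by
        rw [← hGH, derivative_mul, eval_add, eval_mul, eval_mul]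
      rw [hev] at h₁
      rcases (maximalIdeal.isMaximal R).isPrime.mem_or_mem h₁ with hg | hh
      · have h3 : IsUnit (G.derivative.eval a₀ * H.eval a₀) := by
          by_contra hcon
          have h4 : G.derivative.eval a₀ * H.eval a₀ ∈ maximalIdeal R := hcon
          have h5 : F.derivative.eval a₀ ∈ maximalIdeal R := by
            rw [hder]
            exact Ideal.add_mem _ h4 (Ideal.mul_mem_right _ _ hg)
          exact h5 h₂
        have h4 : IsUnit (G.derivative.eval a₀) := isUnit_of_mul_isUnit_left h3
        obtain ⟨a, ha, haa⟩ := ih G.natDegree hGlt G hG rfl a₀ hg h4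
        refine ⟨a, ?_, haa⟩
        rw [IsRoot.def, ← hGH, eval_mul, ha.eq_zero, zero_mul]
      · have h3 : IsUnit (G.eval a₀ * H.derivative.eval a₀) := by
          by_contra hcon
          have h4 : G.eval a₀ * H.derivative.eval a₀ ∈ maximalIdeal R := hcon
          have h5 : F.derivative.eval a₀ ∈ maximalIdeal R := by
            rw [hder]
            exact Ideal.add_mem _ (Ideal.mul_mem_left _ _ hh) h4
          exact h5 h₂
        have h4 : IsUnit (H.derivative.eval a₀) := isUnit_of_mul_isUnit_right h3
        obtain ⟨a, ha, haa⟩ := ih H.natDegree hHlt H hH rfl a₀ hh h4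
        refine ⟨a, ?_, haa⟩
        rw [IsRoot.def, ← hGH, eval_mul, ha.eq_zero, mul_zero]

include K in
/-- A normal local domain with separably closed fraction field is henselian. -/
theorem henselianLocalRing : HenselianLocalRing R :=
  ⟨fun F hF a₀ h₁ h₂ => exists_root_aux R K F.natDegree F hF rfl a₀ h₁ h₂⟩

include K in
theorem exists_root_residue_aux (n : ℕ) : ∀ (F : R[X]), F.Monic → F.natDegree = n → 0 < n →
    (F.map (residue R)).Separable → ∃ x : ResidueField R, (F.map (residue R)).eval x = 0 := by
  induction n using Nat.strong_induction_on with
  | _ n ih =>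
    intro F hF hn hpos hsep
    by_cases hirr : Irreducible F
    · rcases natDegree_eq_one_or_derivative_eq_zero R K hF hirr with h | h
      · have hF' : F = X + C (F.coeff 0) := hF.eq_X_add_C h
        refine ⟨-residue R (F.coeff 0), ?_⟩
        rw [hF']
        simp
      · exfalso
        have h1 : derivative (F.map (residue R)) = 0 := by
          rw [derivative_map, h, Polynomial.map_zero]
        have h2 : IsUnit (F.map (residue R)) := by
          have := hsep
          rw [Polynomial.separable_def, h1] at this
          exact isCoprime_zero_right.mp this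
        have h3 : (F.map (residue R)).natDegree = 0 := natDegree_eq_zero_of_isUnit h2
        rw [(hF.map (residue R)).natDegree_eq_zero] at h3
        have h4 : (F.map (residue R)).natDegree = F.natDegree := hF.natDegree_map _
        rw [h3, natDegree_one] at h4
        omega
    · have hne1 : F ≠ 1 := by
        rintro rfl
        rw [natDegree_one] at hn
        omega
      rw [hF.irreducible_iff_natDegree', not_and_or, not_not] at hirr
      rcases hirr with h | h
      · exact absurd h hne1
      push_neg at h
      obtain ⟨G, H, hG, hH, hGH, hdeg⟩ := h
      rw [Finset.mem_Ioc] at hdeg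
      have hnat : F.natDegree = G.natDegree + H.natDegree := by
        rw [← hGH, hG.natDegree_mul hH]
      have hHlt : H.natDegree < n := by omega
      have hmap : F.map (residue R) = G.map (residue R) * H.map (residue R) := by
        rw [← hGH, Polynomial.map_mul]
      have hsepH : (H.map (residue R)).Separable := by
        rw [hmap] at hsep
        exact hsep.of_mul_right
      obtain ⟨x, hx⟩ := ih H.natDegree hHlt H hH rfl hdeg.1 hsepH
      refine ⟨x, ?_⟩
      rw [hmap, eval_mul, hx, mul_zero]

include K in
/-- The residue field of a normal local domain with separably closed fraction field is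
separably closed. -/
theorem isSepClosed_residueField : IsSepClosed (ResidueField R) := by
  refine IsSepClosed.of_exists_root _ fun p hp hirr hsep => ?_
  have hlift : p ∈ Polynomial.lifts (residue R) := by
    rw [Polynomial.lifts_iff_coeff_lifts]
    intro n
    exact residue_surjective _
  obtain ⟨F, hFp, hFdeg, hFm⟩ := Polynomial.lifts_and_natDegree_eq_and_monic hlift hp
  have hpos : 0 < F.natDegree := by
    rw [hFdeg]
    exact hirr.natDegree_pos
  obtain ⟨x, hx⟩ := exists_root_residue_aux R K F.natDegree F hFm rfl hpos (hFp ▸ hsep)
  exact ⟨x, hFp ▸ hx⟩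

end Groth.Agent.Lib.NormalSepClosedH3
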