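import Groth.Agent.Lib.NormalSubSh_helper3

/-!
# Normal local subalgebras of essentially étale local algebras, II (helper3)
-/

set_option autoImplicit false
universe u

open TensorProduct IsLocalRing Polynomial

namespace Groth.Agent.Lib.NormalSubShH3

section Criteria

/-- A variant of the criterion `R = S ∩ Frac R`: a subring `R` of a normal domain `S` is integrally
closed if it contains every element of `S ∩ Frac R` which is integral over `R`. -/
theorem isIntegrallyClosed_of_div_integral {R S : Type u} [CommRing R] [IsDomain R] [CommRing S]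
    [IsDomain S] [IsIntegrallyClosed S] [Algebra R S] (hinj : Function.Injective (algebraMap R S))
    (h : ∀ (a b : R) (c : S), b ≠ 0 → c * algebraMap R S b = algebraMap R S a → IsIntegral R c →
      ∃ r : R, r * b = a) :
    IsIntegrallyClosed R := by
  have hfa : FaithfulSMul R (FractionRing S) := by
    rw [faithfulSMul_iff_algebraMap_injective, IsScalarTower.algebraMap_eq R S (FractionRing S)]
    exact (FaithfulSMul.algebraMap_injective S (FractionRing S)).comp hinj
  letI : Algebra (FractionRing R) (FractionRing S) :=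
    FractionRing.liftAlgebra R (FractionRing S)
  haveI : IsScalarTower R (FractionRing R) (FractionRing S) :=
    FractionRing.isScalarTower_liftAlgebra R (FractionRing S)
  refine (isIntegrallyClosed_iff (FractionRing R)).2 fun {x} hx => ?_
  obtain ⟨b₁, b₂, hb₂, rfl⟩ := IsFractionRing.div_surjective (A := R) x
  have hb₂0 : b₂ ≠ 0 := nonZeroDivisors.ne_zero hb₂
  have hb₂K : algebraMap R (FractionRing R) b₂ ≠ 0 := by
    rw [Ne, map_eq_zero_iff _ (IsFractionRing.injective _ _)]
    exact hb₂0
  have hb₂L : algebraMap S (FractionRing S) (algebraMap R S b₂) ≠ 0 := by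
    rw [Ne, map_eq_zero_iff _ (IsFractionRing.injective _ _), map_eq_zero_iff _ hinj]
    exact hb₂0
  have hyR : IsIntegral R (algebraMap (FractionRing R) (FractionRing S)
      (algebraMap _ _ b₁ / algebraMap _ _ b₂)) :=
    hx.map (IsScalarTower.toAlgHom R (FractionRing R) (FractionRing S))
  have hy : IsIntegral S (algebraMap (FractionRing R) (FractionRing S)
      (algebraMap _ _ b₁ / algebraMap _ _ b₂)) := hyR.tower_top
  obtain ⟨c, hc⟩ := IsIntegrallyClosed.algebraMap_eq_of_integral hy
  have hcR : IsIntegral R c := by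
    rw [← hc] at hyR
    exact (isIntegral_algHom_iff (IsScalarTower.toAlgHom R S (FractionRing S))
      (IsFractionRing.injective S (FractionRing S))).1 hyR
  have hrel : c * algebraMap R S b₂ = algebraMap R S b₁ := by
    apply IsFractionRing.injective S (FractionRing S)
    rw [map_mul, hc, map_div₀,
      ← IsScalarTower.algebraMap_apply R (FractionRing R) (FractionRing S),
      ← IsScalarTower.algebraMap_apply R (FractionRing R) (FractionRing S),
      IsScalarTower.algebraMap_apply R S (FractionRing S) b₁,
      IsScalarTower.algebraMap_apply R S (FractionRing S) b₂]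
    exact div_mul_cancel₀ _ hb₂L
  obtain ⟨r, hr⟩ := h b₁ b₂ c hb₂0 hrel hcR
  refine ⟨r, ?_⟩
  rw [eq_div_iff hb₂K, ← map_mul, hr]

/-- Lemma N: if `D ⊆ S` is an integrally closed domain, `b ∈ D` is a non-zero-divisor of `S` and
`c ∈ S` is integral over `D` with `c b ∈ D`, then `c ∈ D`. -/
theorem mem_of_integral_of_mul_mem {D S : Type u} [CommRing D] [IsDomain D] [IsIntegrallyClosed D]
    [CommRing S] [Algebra D S] (hinj : Function.Injective (algebraMap D S))
    (a b : D) (c : S) (hb : ∀ z : S, z * algebraMap D S b = 0 → z = 0)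
    (hcb : c * algebraMap D S b = algebraMap D S a) (hc : IsIntegral D c) :
    ∃ d : D, algebraMap D S d = c := by
  obtain ⟨p, hpm, hp⟩ := hc
  have hb0 : b ≠ 0 := by
    rintro rfl
    have := hb 1 (by rw [map_zero, mul_zero])
    have h10 : (1 : D) = 0 := hinj (by rw [map_one, map_zero]; exact this)
    exact one_ne_zero h10
  have hbK : algebraMap D (FractionRing D) b ≠ 0 := by
    rw [Ne, map_eq_zero_iff _ (IsFractionRing.injective _ _)]
    exact hb0
  -- the scaled polynomial vanishes at `a`
  have h1 : eval₂ (algebraMap D S) (algebraMap D S a) (scaleRoots p b) = 0 := by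
    rw [← hcb, mul_comm, scaleRoots_eval₂_mul, hp, mul_zero]
  have h2 : eval a (scaleRoots p b) = 0 := by
    apply hinj
    rw [map_zero, ← h1, eval₂_at_apply]
  -- so `a / b` is a root of `p` in the fraction field
  have h3 : eval₂ (algebraMap D (FractionRing D))
      (algebraMap D (FractionRing D) a / algebraMap D (FractionRing D) b) p = 0 := by
    have h4 : eval₂ (algebraMap D (FractionRing D)) (algebraMap D (FractionRing D) b *
        (algebraMap D (FractionRing D) a / algebraMap D (FractionRing D) b)) (scaleRoots p b) = 0 := by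
      rw [mul_div_cancel₀ _ hbK, eval₂_at_apply, h2, map_zero]
    rw [scaleRoots_eval₂_mul] at h4
    exact (mul_eq_zero.1 h4).resolve_left (pow_ne_zero _ hbK)
  have h5 : IsIntegral D
      (algebraMap D (FractionRing D) a / algebraMap D (FractionRing D) b) := ⟨p, hpm, h3⟩
  obtain ⟨d, hd⟩ := IsIntegrallyClosed.algebraMap_eq_of_integral h5
  refine ⟨d, ?_⟩
  have h6 : d * b = a := by
    apply IsFractionRing.injective D (FractionRing D)
    rw [map_mul, hd, div_mul_cancel₀ _ hbK]
  have h7 : (algebraMap D S d - c) * algebraMap D S b = 0 := by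
    rw [sub_mul, ← map_mul, h6, hcb, sub_self]
  exact sub_eq_zero.1 (hb _ h7)

end Criteria

section FinSep

variable (A E : Type u) [CommRing A] [IsLocalRing A] [CommRing E] [Algebra A E]
  (K F : Type u) [Field K] [Algebra A K] [IsFractionRing A K] [Field F] [Algebra E F]
  [IsFractionRing E F] [Algebra A F] [IsScalarTower A E F] [Algebra K F] [IsScalarTower A K F]

theorem finite_separable_of_essEtale (hE : EGA4loc.IsEssentiallyEtale A E) :
    Module.Finite K F ∧ Algebra.IsSeparable K F := by
  haveI := formallyUnramified_of_essEtale A E hE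
  haveI := essFiniteType_of_essEtale A E hE
  haveI : Algebra.FormallyUnramified E F :=
    Algebra.FormallyUnramified.of_isLocalization (nonZeroDivisors E)
  haveI : Algebra.FormallyUnramified A F := Algebra.FormallyUnramified.comp A E F
  haveI : Algebra.FormallyUnramified K F := Algebra.FormallyUnramified.of_restrictScalars A K F
  haveI : Algebra.EssFiniteType E F := Algebra.EssFiniteType.of_isLocalization F (nonZeroDivisors E)
  haveI : Algebra.EssFiniteType A F := Algebra.EssFiniteType.comp A E F
  haveI : Algebra.EssFiniteType K F := Algebra.EssFiniteType.of_comp A K F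
  exact ⟨Algebra.FormallyUnramified.finite_of_free K F, Algebra.FormallyUnramified.isSeparable K F⟩

end FinSep

section Core

variable (A : Type u) [CommRing A] [IsLocalRing A] [IsDomain A] [IsIntegrallyClosed A]
  [IsNoetherianRing A]
  (E : Type u) [CommRing E] [IsLocalRing E] [Algebra A E] [IsLocalHom (algebraMap A E)]

theorem finite_and_algebraic (hE : EGA4loc.IsEssentiallyEtale A E) :
    Module.Finite A (integralClosure A E) ∧ Algebra.IsAlgebraic A E ∧
      Function.Injective (algebraMap A E) := by
  obtain ⟨hdom, hic⟩ := isDomain_isIntegrallyClosed_of_essEtale A E hE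
  haveI := hdom
  haveI := hic
  haveI := flat_of_essEtale A E hE
  haveI : Module.FaithfullyFlat A E := Module.FaithfullyFlat.of_flat_of_isLocalHom
  have hAE : Function.Injective (algebraMap A E) := FaithfulSMul.algebraMap_injective A E
  haveI : FaithfulSMul A (FractionRing E) := by
    rw [faithfulSMul_iff_algebraMap_injective, IsScalarTower.algebraMap_eq A E (FractionRing E)]
    exact (IsFractionRing.injective E (FractionRing E)).comp hAE
  letI : Algebra (FractionRing A) (FractionRing E) := FractionRing.liftAlgebra A (FractionRing E)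
  haveI : IsScalarTower A (FractionRing A) (FractionRing E) :=
    FractionRing.isScalarTower_liftAlgebra A (FractionRing E)
  obtain ⟨hfin, hsep⟩ := finite_separable_of_essEtale A E (FractionRing A) (FractionRing E) hE
  haveI := hfin
  haveI := hsep
  haveI : IsNoetherian A (integralClosure A (FractionRing E)) :=
    IsIntegralClosure.isNoetherian A (FractionRing A) (FractionRing E)
      (integralClosure A (FractionRing E))
  let g : integralClosure A E →ₗ[A] integralClosure A (FractionRing E) :=
    { toFun := fun x => ⟨algebraMap E (FractionRing E) x,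
        (x.2 : IsIntegral A (x : E)).map (IsScalarTower.toAlgHom A E (FractionRing E))⟩
      map_add' := fun x y => Subtype.ext (map_add _ _ _)
      map_smul' := fun a x => Subtype.ext (by
        show algebraMap E (FractionRing E) (a • (x : E)) = a • algebraMap E (FractionRing E) (x : E)
        rw [Algebra.smul_def, map_mul, ← IsScalarTower.algebraMap_apply, Algebra.smul_def]) }
  have hg : Function.Injective g := by
    intro x y hxy
    have := congrArg Subtype.val hxy
    exact Subtype.ext (IsFractionRing.injective E (FractionRing E) this)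
  refine ⟨Module.Finite.of_injective g hg, ?_, hAE⟩
  haveI : Algebra.IsAlgebraic A (FractionRing A) :=
    IsLocalization.isAlgebraic (FractionRing A) (nonZeroDivisors A)
  haveI : Algebra.IsAlgebraic (FractionRing A) (FractionRing E) := Algebra.IsAlgebraic.of_finite _ _
  haveI : Algebra.IsAlgebraic A (FractionRing E) :=
    Algebra.IsAlgebraic.trans A (FractionRing A) (FractionRing E)
  refine ⟨fun x => ?_⟩
  exact (isAlgebraic_algebraMap_iff (IsFractionRing.injective E (FractionRing E))).1
    (Algebra.IsAlgebraic.isAlgebraic (R := A) (algebraMap E (FractionRing E) x))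

set_option maxHeartbeats 800000 in
theorem core (hE : EGA4loc.IsEssentiallyEtale A E) (B₀ : Subalgebra A E)
    (hint : ∀ x ∈ B₀, IsIntegral A x) [IsDomain B₀] [IsIntegrallyClosed B₀] :
    ∃ D' : Subalgebra A E, ∃ _ : IsLocalRing D', IsLocalHom (algebraMap D' E) ∧
      Algebra.EssFiniteType A D' ∧ Algebra.FormallyUnramified A D' ∧
      (∀ x ∈ D', ∃ y ∈ B₀, ∃ u ∈ B₀, IsUnit u ∧ x * u = y) ∧
      (∀ (x : E) (a : A), a ≠ 0 → a • x ∈ B₀ → x ∈ D') := by
  classical
  obtain ⟨hdom, hic⟩ := isDomain_isIntegrallyClosed_of_essEtale A E hE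
  haveI := hdom
  haveI := formallyUnramified_of_essEtale A E hE
  haveI := essFiniteType_of_essEtale A E hE
  haveI := flat_of_essEtale A E hE
  obtain ⟨hfin, -, hAE⟩ := finite_and_algebraic A E hE
  haveI := hfin
  haveI : IsNoetherian A (integralClosure A E) := isNoetherian_of_isNoetherianRing_of_finite A _
  have hle : B₀ ≤ integralClosure A E := fun x hx => hint x hx
  haveI : Module.Finite A B₀ :=
    Module.Finite.of_injective (Subalgebra.inclusion hle).toLinearMap
      (Subalgebra.inclusion_injective hle)
  -- the prime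
  let 𝔫 : Ideal B₀ := (maximalIdeal E).comap (algebraMap B₀ E)
  haveI h𝔫p : 𝔫.IsPrime := Ideal.comap_isPrime _ _
  have h𝔫 : ∀ y : B₀, y ∈ 𝔫 ↔ ¬ IsUnit (y : E) := by
    intro y
    show y ∈ (maximalIdeal E).comap (algebraMap B₀ E) ↔ _
    rw [Ideal.mem_comap, mem_maximalIdeal, mem_nonunits_iff]
    rfl
  have hu : ∀ y : 𝔫.primeCompl, IsUnit (B₀.val y) := by
    intro y
    have := y.2
    change (y : B₀) ∉ 𝔫 at this
    rwa [h𝔫, not_not] at this
  let j : Localization.AtPrime 𝔫 →ₐ[A] E :=
    IsLocalization.liftAlgHom (M := 𝔫.primeCompl) (f := B₀.val) hu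
  have hj : ∀ y : B₀, j (algebraMap _ _ y) = (y : E) := fun y => by
    rw [IsLocalization.liftAlgHom_apply, IsLocalization.lift_eq]
    rfl
  have hjmk : ∀ (y : B₀) (s : 𝔫.primeCompl),
      j (IsLocalization.mk' _ y s) * ((s : B₀) : E) = (y : E) := fun y s => by
    rw [← hj (s : B₀), ← map_mul, IsLocalization.mk'_spec, hj]
  have hjinj : Function.Injective j := by
    rw [injective_iff_map_eq_zero]
    intro x hx
    obtain ⟨y, s, rfl⟩ := IsLocalization.exists_mk'_eq 𝔫.primeCompl x
    have h1 := hjmk y s
    rw [hx, zero_mul] at h1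
    have hy0 : y = 0 := Subtype.ext h1.symm
    rw [hy0, IsLocalization.mk'_zero]
  haveI : IsDomain (Localization.AtPrime 𝔫) := IsLocalization.isDomain_of_local_atPrime h𝔫p
  haveI : IsIntegrallyClosed (Localization.AtPrime 𝔫) :=
    isIntegrallyClosed_of_isLocalization _ 𝔫.primeCompl 𝔫.primeCompl_le_nonZeroDivisors
  letI algBE : Algebra (Localization.AtPrime 𝔫) E := j.toRingHom.toAlgebra
  haveI : IsScalarTower A (Localization.AtPrime 𝔫) E :=
    IsScalarTower.of_algebraMap_eq fun a => (j.commutes a).symm
  have halg : ∀ z, algebraMap (Localization.AtPrime 𝔫) E z = j z := fun _ => rfl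
  -- flatness
  haveI : Module.Flat (Localization.AtPrime 𝔫) E := by
    obtain ⟨C, _, _, q, _, hC, -, ⟨e⟩⟩ := hE
    haveI := hC
    letI : Algebra C E := (e.symm.toRingEquiv.toRingHom.comp
      (algebraMap C (Localization.AtPrime q))).toAlgebra
    haveI : IsScalarTower A C E := IsScalarTower.of_algebraMap_eq fun a => by
      show algebraMap A E a = e.symm (algebraMap C (Localization.AtPrime q) (algebraMap A C a))
      rw [← IsScalarTower.algebraMap_apply A C (Localization.AtPrime q), e.symm.commutes]
    let e' : Localization.AtPrime q ≃ₐ[C] E :=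
      AlgEquiv.ofRingEquiv (f := e.symm.toRingEquiv) (fun _ => rfl)
    haveI : IsLocalization.AtPrime E q :=
      IsLocalization.isLocalization_of_algEquiv q.primeCompl e'
    exact flat_of_etale_localization A C E (Localization.AtPrime 𝔫) q hjinj
  haveI hlocBE : IsLocalHom (algebraMap (Localization.AtPrime 𝔫) E) := by
    refine ⟨fun x hx => ?_⟩
    have hx' : IsUnit (j x) := hx
    obtain ⟨y, s, rfl⟩ := IsLocalization.exists_mk'_eq 𝔫.primeCompl x
    have h1 := hjmk y s
    have h2 : IsUnit ((y : B₀) : E) := by
      rw [← h1]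
      exact hx'.mul (hu s)
    have h3 : y ∉ 𝔫 := by
      rw [h𝔫, not_not]
      exact h2
    exact (IsLocalization.AtPrime.isUnit_mk'_iff (Localization.AtPrime 𝔫) 𝔫 y s).2 h3
  haveI : Module.FaithfullyFlat (Localization.AtPrime 𝔫) E :=
    Module.FaithfullyFlat.of_flat_of_isLocalHom
  haveI : IsLocalHom (algebraMap A (Localization.AtPrime 𝔫)) := by
    refine ⟨fun a ha => ?_⟩
    have : IsUnit (algebraMap A E a) := by
      rw [IsScalarTower.algebraMap_apply A (Localization.AtPrime 𝔫) E]
      exact ha.map _
    exact isUnit_of_map_unit (algebraMap A E) a this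
  -- essentially of finite type
  haveI : Algebra.EssFiniteType B₀ (Localization.AtPrime 𝔫) :=
    Algebra.EssFiniteType.of_isLocalization _ 𝔫.primeCompl
  haveI : Algebra.EssFiniteType A (Localization.AtPrime 𝔫) := Algebra.EssFiniteType.comp A B₀ _
  -- the maximal ideal
  have hmax : (maximalIdeal A).map (algebraMap A (Localization.AtPrime 𝔫)) =
      maximalIdeal (Localization.AtPrime 𝔫) := by
    have h1 : (maximalIdeal A).map (algebraMap A E) = maximalIdeal E :=
      Algebra.FormallyUnramified.map_maximalIdeal
    have h2 := Ideal.comap_map_eq_self_of_faithfullyFlat (A := Localization.AtPrime 𝔫) (B := E)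
      ((maximalIdeal A).map (algebraMap A (Localization.AtPrime 𝔫)))
    rw [Ideal.map_map, ← IsScalarTower.algebraMap_eq, h1] at h2
    rw [← h2]
    exact ((local_hom_TFAE (algebraMap (Localization.AtPrime 𝔫) E)).out 0 4).mp hlocBE
  haveI : Algebra.IsSeparable (ResidueField A) (ResidueField (Localization.AtPrime 𝔫)) :=
    Algebra.isSeparable_tower_bot_of_isSeparable (ResidueField A)
      (ResidueField (Localization.AtPrime 𝔫)) (ResidueField E)
  haveI : Algebra.FormallyUnramified A (Localization.AtPrime 𝔫) :=
    Algebra.FormallyUnramified.of_map_maximalIdeal hmax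
  -- the subalgebra
  let eq : Localization.AtPrime 𝔫 ≃ₐ[A] j.range := AlgEquiv.ofInjective j hjinj
  have heq : ∀ z, ((eq z : j.range) : E) = j z := fun _ => rfl
  haveI hlocD : IsLocalRing j.range := eq.toRingEquiv.isLocalRing
  refine ⟨j.range, hlocD, ?_, (Algebra.EssFiniteType.iff_of_algEquiv eq).1 inferInstance,
    Algebra.FormallyUnramified.of_equiv eq, ?_, ?_⟩
  · refine ⟨fun x hx => ?_⟩
    have hx' : IsUnit ((x : j.range) : E) := hx
    obtain ⟨z, rfl⟩ := eq.surjective x
    rw [heq] at hx'
    have : IsUnit z := isUnit_of_map_unit (algebraMap (Localization.AtPrime 𝔫) E) z hx'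
    exact this.map eq
  · rintro x ⟨z, rfl⟩
    obtain ⟨y, s, rfl⟩ := IsLocalization.exists_mk'_eq 𝔫.primeCompl z
    exact ⟨(y : E), y.2, ((s : B₀) : E), (s : B₀).2, hu s, hjmk y s⟩
  · intro x a ha hax
    set aB : Localization.AtPrime 𝔫 := algebraMap A _ a with haB
    have hjaB : j aB = algebraMap A E a := j.commutes a
    have hmem : algebraMap B₀ (Localization.AtPrime 𝔫) ⟨a • x, hax⟩ ∈
        ((Ideal.span {aB}).map (algebraMap (Localization.AtPrime 𝔫) E)).comap
          (algebraMap (Localization.AtPrime 𝔫) E) := by
      rw [Ideal.mem_comap, halg, hj, Ideal.map_span, Set.image_singleton, halg, hjaB]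
      show a • x ∈ _
      rw [Algebra.smul_def]
      exact Ideal.mul_mem_right _ _ (Ideal.subset_span rfl)
    rw [Ideal.comap_map_eq_self_of_faithfullyFlat, Ideal.mem_span_singleton'] at hmem
    obtain ⟨z, hz⟩ := hmem
    refine ⟨z, ?_⟩
    have h1 : j z * algebraMap A E a = algebraMap A E a * x := by
      rw [← hjaB, ← map_mul, hz, hj]
      show a • x = _
      rw [Algebra.smul_def, hjaB]
    have ha0 : algebraMap A E a ≠ 0 := by
      rw [Ne, map_eq_zero_iff _ hAE]
      exact ha
    rw [mul_comm] at h1
    exact mul_left_cancel₀ ha0 h1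

end Core

end Groth.Agent.Lib.NormalSubShH3
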