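import Groth.Agent.Lib.NormalSubSh2_helper3
import Groth.Agent.Lib.StrictHens8_helper3

/-!
# Normal local subalgebras of a strict henselization (helper3)

Let `A` be a Noetherian normal local domain, `S` a local ind-étale `A`-algebra (e.g. the strict
henselization) and `D ⊆ S` a normal local domain dominated by `S`. Then `D` is a directed union of
essentially étale local `A`-algebras, and is itself essentially étale if its fraction field is
finitely generated over that of `A`.
-/

set_option autoImplicit false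
universe u

open TensorProduct IsLocalRing Polynomial

namespace Groth.Agent.Lib.NormalSubShH3

section SLevel

variable (A S : Type u) [CommRing A] [IsLocalRing A] [IsDomain A] [IsIntegrallyClosed A]
  [IsNoetherianRing A] [CommRing S] [IsLocalRing S] [Algebra A S] [IsLocalHom (algebraMap A S)]

set_option maxHeartbeats 800000 in
theorem main (hie : EtPBC.IsIndEtale A S) (D : Subalgebra A S) [IsLocalRing D]
    [IsLocalHom (algebraMap D S)] [IsDomain D] [IsIntegrallyClosed D]
    (s : Finset S) (hs : (s : Set S) ⊆ (D : Set S)) :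
    ∃ D' : Subalgebra A S, D' ≤ D ∧ (s : Set S) ⊆ (D' : Set S) ∧
      ∃ _ : IsLocalRing D', IsLocalHom (algebraMap D' S) ∧ Algebra.EssFiniteType A D' ∧
        Algebra.FormallyUnramified A D' ∧ EGA4loc.IsEssentiallyEtale A D' := by
  classical
  haveI : Module.Flat A S := Groth.Agent.Lib.IndEtaleH3.flat_of_isIndEtale hie
  haveI : Algebra.FiniteType A (Algebra.adjoin A (s : Set S)) :=
    (Subalgebra.fg_iff_finiteType _).1 (Subalgebra.fg_adjoin_finset s)
  obtain ⟨E₀, hDE, ⟨hlocE, hEe⟩, -⟩ :=
    Groth.Agent.Lib.ShUnramEssEtH3.exists_subalgebra_sat A S hie (Algebra.adjoin A (s : Set S))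
  haveI := hlocE
  haveI : IsLocalHom (algebraMap A E₀) := ⟨fun a ha => isUnit_of_map_unit (algebraMap A S) a (by
    have := ha.map (algebraMap E₀ S)
    rwa [← IsScalarTower.algebraMap_apply] at this)⟩
  haveI hfu := formallyUnramified_of_essEtale A E₀ hEe
  haveI heft := essFiniteType_of_essEtale A E₀ hEe
  obtain ⟨hdomE, hicE⟩ := isDomain_isIntegrallyClosed_of_essEtale A E₀ hEe
  haveI := hdomE
  haveI := hicE
  haveI hlocES : IsLocalHom (algebraMap E₀ S) := by
    refine ⟨fun x hx => ?_⟩
    by_contra hxu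
    have h1 : x ∈ maximalIdeal E₀ := hxu
    rw [← Algebra.FormallyUnramified.map_maximalIdeal (R := A) (S := E₀)] at h1
    have h2 : algebraMap E₀ S x ∈
        ((maximalIdeal A).map (algebraMap A E₀)).map (algebraMap E₀ S) :=
      Ideal.mem_map_of_mem _ h1
    rw [Ideal.map_map, ← IsScalarTower.algebraMap_eq] at h2
    have h3 : (maximalIdeal A).map (algebraMap A S) ≤ maximalIdeal S :=
      ((local_hom_TFAE (algebraMap A S)).out 0 2).mp ‹IsLocalHom (algebraMap A S)›
    exact (h3 h2) hx
  haveI : Module.Flat E₀ S := Groth.Agent.Lib.IndEtaleH3.flat_of_flat_of_unramified A E₀ S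
  -- the integral part
  let B₀ : Subalgebra A E₀ := (integralClosure A S ⊓ D).comap E₀.val
  have hB₀ : ∀ x : E₀, x ∈ B₀ ↔ IsIntegral A (x : S) ∧ (x : S) ∈ D := fun x => Iff.rfl
  have hint : ∀ x ∈ B₀, IsIntegral A x := fun x hx =>
    (isIntegral_algHom_iff E₀.val Subtype.val_injective).1 ((hB₀ x).1 hx).1
  haveI : Algebra.IsIntegral A B₀ :=
    ⟨fun x => (isIntegral_algHom_iff B₀.val Subtype.val_injective).1 (hint x x.2)⟩
  haveI : IsIntegrallyClosed B₀ := by
    refine isIntegrallyClosed_of_div_integral (R := B₀) (S := E₀) Subtype.val_injective ?_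
    intro a b c hb hcb hc
    have hcb' : c * (b : E₀) = (a : E₀) := hcb
    have hcA : IsIntegral A c := isIntegral_trans (R := A) (A := B₀) c hc
    have hcS : IsIntegral A (c : S) := hcA.map E₀.val
    have hbS : ∀ z : S, z * ((b : E₀) : S) = 0 → z = 0 := by
      have hb' : (b : E₀) ≠ 0 := fun h => hb (Subtype.ext h)
      have hreg : IsSMulRegular E₀ (b : E₀) := by
        rw [isSMulRegular_iff_right_eq_zero_of_smul]
        intro m hm
        rw [smul_eq_mul] at hm
        exact (mul_eq_zero.1 hm).resolve_left hb'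
      have hreg' : IsSMulRegular S (algebraMap E₀ S (b : E₀)) := hreg.of_flat
      intro z hz
      exact (isSMulRegular_iff_right_eq_zero_of_smul.1 hreg') z (by
        rw [smul_eq_mul, mul_comm]; exact hz)
    obtain ⟨d, hd⟩ := mem_of_integral_of_mul_mem (D := D) (S := S) Subtype.val_injective
      ⟨((a : E₀) : S), ((hB₀ a).1 a.2).2⟩ ⟨((b : E₀) : S), ((hB₀ b).1 b.2).2⟩ (c : S) hbS
      (congrArg (fun z : E₀ => (z : S)) hcb') hcS.tower_top
    have hcD : (c : S) ∈ D := by
      rw [← hd]
      exact d.2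
    exact ⟨⟨c, (hB₀ c).2 ⟨hcS, hcD⟩⟩, Subtype.ext hcb'⟩
  obtain ⟨D', hlocD', hlocD'E, heftD', hfuD', helt, hsat⟩ := core A E₀ hEe B₀ hint
  haveI := hlocD'
  haveI := hlocD'E
  let D'' : Subalgebra A S := D'.map E₀.val
  let eD : D' ≃ₐ[A] D'' := Subalgebra.equivMapOfInjective D' E₀.val Subtype.val_injective
  have heD : ∀ z : D', ((eD z : D'') : S) = ((z : E₀) : S) := fun z => rfl
  haveI hlocD'' : IsLocalRing D'' := eD.toRingEquiv.isLocalRing
  haveI : IsLocalHom (algebraMap D'' S) := by
    refine ⟨fun x hx => ?_⟩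
    obtain ⟨z, rfl⟩ := eD.surjective x
    have hx' : IsUnit (((z : D') : E₀) : S) := hx
    have h1 : IsUnit ((z : D') : E₀) := isUnit_of_map_unit (algebraMap E₀ S) _ hx'
    have h2 : IsUnit z := isUnit_of_map_unit (algebraMap D' E₀) z h1
    exact h2.map eD
  haveI : Algebra.EssFiniteType A D'' := (Algebra.EssFiniteType.iff_of_algEquiv eD).1 heftD'
  haveI : Algebra.FormallyUnramified A D'' := Algebra.FormallyUnramified.of_equiv eD
  refine ⟨D'', ?_, ?_, hlocD'', inferInstance, inferInstance, inferInstance,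
    Groth.Agent.Lib.ShUnramEssEtH3.main A S D''⟩
  · rintro x ⟨x', hx', rfl⟩
    obtain ⟨y, hy, u, hu, huu, hxu⟩ := helt x' hx'
    have hyD : (y : S) ∈ D := ((hB₀ y).1 hy).2
    have huD : (u : S) ∈ D := ((hB₀ u).1 hu).2
    have huS : IsUnit ((u : E₀) : S) := huu.map E₀.val
    have huD' : IsUnit (⟨(u : S), huD⟩ : D) := isUnit_of_map_unit (algebraMap D S) _ huS
    obtain ⟨v, hv⟩ := huD'.exists_right_inv
    have h1 : (x' : S) * (u : S) = (y : S) := congrArg (fun z : E₀ => (z : S)) hxu
    have h2 : (u : S) * (v : S) = 1 := congrArg (fun z : D => (z : S)) hv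
    have h3 : (x' : S) = (y : S) * (v : S) := by
      calc (x' : S) = (x' : S) * ((u : S) * (v : S)) := by rw [h2, mul_one]
        _ = (y : S) * (v : S) := by rw [← mul_assoc, h1]
    show (x' : S) ∈ D
    rw [h3]
    exact D.mul_mem hyD v.2
  · intro x hx
    have hxE : x ∈ E₀ := hDE (Algebra.subset_adjoin hx)
    have hxD : x ∈ D := hs hx
    obtain ⟨-, halg, -⟩ := finite_and_algebraic A E₀ hEe
    obtain ⟨a, ha, hax⟩ := IsAlgebraic.exists_integral_multiple (halg.isAlgebraic (⟨x, hxE⟩ : E₀))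
    have hmem : (⟨x, hxE⟩ : E₀) ∈ D' :=
      hsat _ a ha ((hB₀ _).2 ⟨hax.map E₀.val, D.smul_mem hxD a⟩)
    exact ⟨⟨x, hxE⟩, hmem, rfl⟩

set_option maxHeartbeats 800000 in
theorem main_fg (hie : EtPBC.IsIndEtale A S) (D : Subalgebra A S) [IsLocalRing D]
    [IsLocalHom (algebraMap D S)] [IsDomain D] [IsIntegrallyClosed D]
    (hfg : ∃ s : Finset D, Subfield.closure (Set.range (algebraMap A (FractionRing D)) ∪
        (algebraMap D (FractionRing D)) '' (s : Set D)) = ⊤) :
    EGA4loc.IsEssentiallyEtale A D := by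
  classical
  obtain ⟨s, hs⟩ := hfg
  haveI : Module.Flat A S := Groth.Agent.Lib.IndEtaleH3.flat_of_isIndEtale hie
  obtain ⟨D', hD'D, hsD', hloc, hlocS, heft, hfu, hEe⟩ :=
    main A S hie D (s.image (fun d : D => (d : S))) (by
      intro x hx
      rw [Finset.coe_image] at hx
      obtain ⟨d, -, rfl⟩ := hx
      exact d.2)
  haveI := hloc
  haveI := hlocS
  haveI := heft
  haveI := hfu
  haveI : Module.Flat D' S := Groth.Agent.Lib.IndEtaleH3.flat_of_flat_of_unramified A D' S
  haveI : Module.FaithfullyFlat D' S := Module.FaithfullyFlat.of_flat_of_isLocalHom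
  let ι : D' →ₐ[A] D := Subalgebra.inclusion hD'D
  have hι : Function.Injective ι := Subalgebra.inclusion_injective hD'D
  haveI : IsDomain D' := hι.isDomain ι.toRingHom
  let g : D' →+* FractionRing D := (algebraMap D (FractionRing D)).comp ι.toRingHom
  have hg : Function.Injective g := (IsFractionRing.injective D (FractionRing D)).comp hι
  let φ : FractionRing D' →+* FractionRing D := IsFractionRing.lift hg
  have hφ : ∀ z : D', φ (algebraMap D' (FractionRing D') z) =
      algebraMap D (FractionRing D) (ι z) := fun z => IsFractionRing.lift_algebraMap hg z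
  have htop : (⊤ : Subfield (FractionRing D)) ≤ φ.fieldRange := by
    rw [← hs, Subfield.closure_le]
    rintro x (⟨a, rfl⟩ | ⟨d, hd, rfl⟩)
    · refine ⟨algebraMap D' (FractionRing D') (algebraMap A D' a), ?_⟩
      rw [hφ, AlgHom.commutes, ← IsScalarTower.algebraMap_apply]
    · have hdD' : (d : S) ∈ D' := hsD' (Finset.mem_coe.2 (Finset.mem_image_of_mem _ hd))
      refine ⟨algebraMap D' (FractionRing D') ⟨(d : S), hdD'⟩, ?_⟩
      rw [hφ]
      rfl
  have hDD' : D ≤ D' := by
    intro x hx
    obtain ⟨z, hz⟩ := htop (Subfield.mem_top (algebraMap D (FractionRing D) ⟨x, hx⟩))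
    obtain ⟨b₁, b₂, hb₂, rfl⟩ := IsFractionRing.div_surjective (A := D') z
    have hb₂0 : b₂ ≠ 0 := nonZeroDivisors.ne_zero hb₂
    have hιb₂ : ι b₂ ≠ 0 := by
      rw [Ne, map_eq_zero_iff _ hι]
      exact hb₂0
    have h1 : (⟨x, hx⟩ : D) * ι b₂ = ι b₁ := by
      apply IsFractionRing.injective D (FractionRing D)
      rw [map_mul, ← hz, map_div₀, hφ, hφ]
      have : algebraMap D (FractionRing D) (ι b₂) ≠ 0 := by
        rw [Ne, map_eq_zero_iff _ (IsFractionRing.injective D (FractionRing D))]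
        exact hιb₂
      exact div_mul_cancel₀ _ this
    have h2 : x * (b₂ : S) = (b₁ : S) := congrArg (fun z : D => (z : S)) h1
    have hmem : b₁ ∈ ((Ideal.span {b₂}).map (algebraMap D' S)).comap (algebraMap D' S) := by
      rw [Ideal.mem_comap, Ideal.map_span, Set.image_singleton]
      show (b₁ : S) ∈ Ideal.span {(b₂ : S)}
      rw [← h2]
      exact Ideal.mul_mem_left _ _ (Ideal.subset_span rfl)
    rw [Ideal.comap_map_eq_self_of_faithfullyFlat, Ideal.mem_span_singleton'] at hmem
    obtain ⟨z', hz'⟩ := hmem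
    have h3 : (⟨x, hx⟩ : D) * ι b₂ = ι z' * ι b₂ := by rw [h1, ← map_mul, hz']
    have h4 : (⟨x, hx⟩ : D) = ι z' := mul_right_cancel₀ hιb₂ h3
    have h5 : x = (z' : S) := congrArg (fun z : D => (z : S)) h4
    rw [h5]
    exact z'.2
  obtain rfl : D' = D := le_antisymm hD'D hDD'
  exact hEe

end SLevel

end Groth.Agent.Lib.NormalSubShH3
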