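import Mathlib
import Groth.Prelude.Def_Hensel
import Groth.Prelude.Def_EssEt
import Groth.Prelude.Def_PBC
import Groth.Agent.Lib.ShEssEtSat_helper3
import Groth.Agent.Lib.EtNormal_helper4

/-!
# Normal local subalgebras of essentially étale local algebras (helper3)

Let `A` be a Noetherian normal local domain and `E` an essentially étale local `A`-algebra.
If `B₀ ⊆ E` is an integrally closed subalgebra, integral over `A`, then the localization `B` of `B₀`
at the prime under the maximal ideal of `E` is essentially étale over `A`, and `E` is faithfully flat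
over `B`.
-/

set_option autoImplicit false
universe u

open TensorProduct IsLocalRing

namespace Groth.Agent.Lib.NormalSubShH3

section Props

variable (A E : Type u) [CommRing A] [IsLocalRing A] [CommRing E] [Algebra A E]

theorem formallyUnramified_of_essEtale (hE : EGA4loc.IsEssentiallyEtale A E) :
    Algebra.FormallyUnramified A E := by
  obtain ⟨C, _, _, q, _, hC, -, ⟨e⟩⟩ := hE
  haveI := hC
  haveI : Algebra.FormallyUnramified C (Localization.AtPrime q) :=
    Algebra.FormallyUnramified.of_isLocalization q.primeCompl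
  haveI : Algebra.FormallyUnramified A (Localization.AtPrime q) :=
    Algebra.FormallyUnramified.comp A C _
  exact Algebra.FormallyUnramified.of_equiv e.symm

theorem essFiniteType_of_essEtale (hE : EGA4loc.IsEssentiallyEtale A E) :
    Algebra.EssFiniteType A E := by
  obtain ⟨C, _, _, q, _, hC, -, ⟨e⟩⟩ := hE
  haveI := hC
  haveI : Algebra.EssFiniteType C (Localization.AtPrime q) :=
    Algebra.EssFiniteType.of_isLocalization _ q.primeCompl
  haveI : Algebra.EssFiniteType A (Localization.AtPrime q) :=
    Algebra.EssFiniteType.comp A C _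
  exact (Algebra.EssFiniteType.iff_of_algEquiv e).2 inferInstance

theorem flat_of_essEtale (hE : EGA4loc.IsEssentiallyEtale A E) : Module.Flat A E := by
  obtain ⟨C, _, _, q, _, hC, -, ⟨e⟩⟩ := hE
  haveI := hC
  haveI : Module.Flat C (Localization.AtPrime q) := IsLocalization.flat _ q.primeCompl
  haveI : Module.Flat A (Localization.AtPrime q) := Module.Flat.trans A C _
  exact Module.Flat.of_linearEquiv e.toLinearEquiv

theorem isDomain_isIntegrallyClosed_of_essEtale [IsDomain A] [IsIntegrallyClosed A]
    (hE : EGA4loc.IsEssentiallyEtale A E) : IsDomain E ∧ IsIntegrallyClosed E := by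
  obtain ⟨C, _, _, q, _, hC, -, ⟨e⟩⟩ := hE
  haveI := hC
  obtain ⟨h1, h2⟩ := Groth.Agent.Lib.EtNormalH4.isDomain_and_isIntegrallyClosed (A := A) (B := C)
    (S := Localization.AtPrime q) q.primeCompl
  haveI := h1
  haveI := h2
  haveI : IsDomain E := e.toRingEquiv.toMulEquiv.isDomain _
  exact ⟨inferInstance, IsIntegrallyClosed.of_equiv e.symm.toRingEquiv⟩

end Props

section Denom

theorem exists_denom (B T : Type*) [CommRing B] [IsDomain B] [CommRing T] [Algebra B T]
    (y : T ⊗[B] FractionRing B) :
    ∃ (b : B) (t : T), b ≠ 0 ∧ b • y = t ⊗ₜ[B] (1 : FractionRing B) := by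
  induction y using TensorProduct.induction_on with
  | zero => exact ⟨1, 0, one_ne_zero, by simp⟩
  | tmul t k =>
    obtain ⟨a, b, hb, rfl⟩ := IsFractionRing.div_surjective (A := B) k
    refine ⟨b, a • t, nonZeroDivisors.ne_zero hb, ?_⟩
    rw [TensorProduct.smul_tmul, ← TensorProduct.tmul_smul]
    congr 1
    rw [Algebra.smul_def, Algebra.smul_def, mul_one]
    have : algebraMap B (FractionRing B) b ≠ 0 :=
      IsFractionRing.to_map_ne_zero_of_mem_nonZeroDivisors hb
    field_simp
  | add y₁ y₂ h₁ h₂ =>
    obtain ⟨b₁, t₁, hb₁, e₁⟩ := h₁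
    obtain ⟨b₂, t₂, hb₂, e₂⟩ := h₂
    refine ⟨b₁ * b₂, b₂ • t₁ + b₁ • t₂, mul_ne_zero hb₁ hb₂, ?_⟩
    rw [smul_add, mul_comm b₁ b₂, mul_smul, e₁, mul_comm b₂ b₁, mul_smul, e₂,
      TensorProduct.add_tmul, TensorProduct.smul_tmul', TensorProduct.smul_tmul']

end Denom

section LemmaF

/-- Let `E` be the localization of an étale `A`-algebra `C` at a prime and `B` an integrally closed
domain over `A` with an injective `A`-algebra map `B → E`. Then `E` is flat over `B`. -/
theorem flat_of_etale_localization
    (A C E B : Type u) [CommRing A] [CommRing C] [Algebra A C] [Algebra.Etale A C]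
    (q : Ideal C) [q.IsPrime] [CommRing E] [Algebra C E] [IsLocalization.AtPrime E q]
    [Algebra A E] [IsScalarTower A C E]
    [CommRing B] [IsDomain B] [IsIntegrallyClosed B] [Algebra A B] [Algebra B E]
    [IsScalarTower A B E] (hinj : Function.Injective (algebraMap B E)) : Module.Flat B E := by
  classical
  haveI : IsLocalRing E := IsLocalization.AtPrime.isLocalRing E q
  let μ : B ⊗[A] C →ₐ[B] E := Algebra.TensorProduct.lift (Algebra.ofId B E)
    (IsScalarTower.toAlgHom A C E) (fun _ _ => Commute.all _ _)
  have hμ : ∀ (b : B) (c : C), μ (b ⊗ₜ c) = algebraMap B E b * algebraMap C E c := fun b c => by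
    simp [μ, Algebra.ofId_apply]
  let Q' : Ideal (B ⊗[A] C) := (maximalIdeal E).comap μ.toRingHom
  haveI : Q'.IsPrime := Ideal.comap_isPrime _ _
  have hQ' : ∀ t : B ⊗[A] C, t ∈ Q' ↔ ¬ IsUnit (μ t) := by
    intro t
    show t ∈ (maximalIdeal E).comap μ.toRingHom ↔ _
    rw [Ideal.mem_comap, mem_maximalIdeal, mem_nonunits_iff]
    rfl
  have hu : ∀ y : Q'.primeCompl, IsUnit (μ y) := by
    intro y
    have := y.2
    change (y : B ⊗[A] C) ∉ Q' at this
    rwa [hQ', not_not] at this
  let μh : Localization.AtPrime Q' →ₐ[B] E :=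
    IsLocalization.liftAlgHom (M := Q'.primeCompl) (f := μ) hu
  have hμh : ∀ t : B ⊗[A] C, μh (algebraMap _ _ t) = μ t := fun t => by
    rw [IsLocalization.liftAlgHom_apply, IsLocalization.lift_eq]
    rfl
  -- surjective
  have hsurj : Function.Surjective μh := by
    intro e
    obtain ⟨c, s, rfl⟩ := IsLocalization.exists_mk'_eq q.primeCompl e
    have hs : IsUnit (algebraMap C E (s : C)) := IsLocalization.map_units E s
    have hs' : (1 : B) ⊗ₜ[A] (s : C) ∈ Q'.primeCompl := by
      show _ ∉ Q'
      rw [hQ', not_not, hμ, map_one, one_mul]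
      exact hs
    refine ⟨IsLocalization.mk' _ ((1 : B) ⊗ₜ[A] c) ⟨_, hs'⟩, ?_⟩
    apply hs.mul_left_injective
    show μh _ * algebraMap C E s = IsLocalization.mk' E c s * algebraMap C E s
    rw [IsLocalization.mk'_spec]
    have h1 : algebraMap C E (s : C) = μh (algebraMap _ _ ((1 : B) ⊗ₜ[A] (s : C))) := by
      rw [hμh, hμ, map_one, one_mul]
    rw [h1, ← map_mul, IsLocalization.mk'_spec, hμh, hμ, map_one, one_mul]
  -- domain and field
  obtain ⟨hdom, -⟩ := Groth.Agent.Lib.EtNormalH4.isDomain_and_isIntegrallyClosed (A := B)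
    (B := B ⊗[A] C) (S := Localization.AtPrime Q') Q'.primeCompl
  have hF : IsField (Localization.AtPrime Q' ⊗[B] FractionRing B) :=
    Groth.Agent.Lib.EtNormalH4.isField_tensor (A := B) (B := B ⊗[A] C)
      (S := Localization.AtPrime Q') Q'.primeCompl
  haveI : Module.Flat (B ⊗[A] C) (Localization.AtPrime Q') := IsLocalization.flat _ Q'.primeCompl
  haveI : Module.Flat B (Localization.AtPrime Q') := Module.Flat.trans B (B ⊗[A] C) _
  have hincl : Function.Injective
      (algebraMap (Localization.AtPrime Q') (Localization.AtPrime Q' ⊗[B] FractionRing B)) :=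
    Algebra.TensorProduct.includeLeft_injective (S := Localization.AtPrime Q')
      (IsFractionRing.injective B (FractionRing B))
  -- injective
  have hinj' : Function.Injective μh := by
    rw [injective_iff_map_eq_zero]
    intro x hx
    by_contra hx0
    have hx1 : algebraMap (Localization.AtPrime Q') (Localization.AtPrime Q' ⊗[B] FractionRing B) x
        ≠ 0 := fun h => hx0 (hincl (by rw [h, map_zero]))
    obtain ⟨y, hy⟩ := hF.mul_inv_cancel hx1
    obtain ⟨b, t, hb, hbt⟩ := exists_denom B (Localization.AtPrime Q') y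
    have h2 : algebraMap (Localization.AtPrime Q') (Localization.AtPrime Q' ⊗[B] FractionRing B)
        (x * t) = algebraMap _ _ (algebraMap B (Localization.AtPrime Q') b) := by
      rw [map_mul]
      have h3 : algebraMap (Localization.AtPrime Q')
          (Localization.AtPrime Q' ⊗[B] FractionRing B) t = b • y := by
        rw [hbt]
        rfl
      rw [h3, mul_smul_comm, hy]
      show b • ((1 : Localization.AtPrime Q') ⊗ₜ[B] (1 : FractionRing B)) =
        (algebraMap B (Localization.AtPrime Q') b) ⊗ₜ[B] (1 : FractionRing B)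
      rw [TensorProduct.smul_tmul', Algebra.smul_def, mul_one]
    have h4 := hincl h2
    have h5 : μh (x * t) = 0 := by rw [map_mul, hx, zero_mul]
    rw [h4, AlgHom.commutes] at h5
    exact hb (hinj (by rw [h5, map_zero]))
  let eq : Localization.AtPrime Q' ≃ₐ[B] E := AlgEquiv.ofBijective μh ⟨hinj', hsurj⟩
  exact Module.Flat.of_linearEquiv eq.symm.toLinearEquiv

end LemmaF

end Groth.Agent.Lib.NormalSubShH3
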