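import Mathlib
import Groth.Agent.Lib.NormalizationBirat2_helper7

set_option autoImplicit false
universe u
open CategoryTheory CategoryTheory.Limits AlgebraicGeometry

namespace Groth.Agent.Lib.NormalizationCharH7

/-- Abstract characterisation of the normalization `ι : X' ⟶ X` of an integral scheme among
`X`-schemes: normal, integral over `X` and birational. -/
theorem char_of_desc {X X' : Scheme.{u}} [IsIntegral X] [IsIntegral X'] (ι : X' ⟶ X)
    [IsIntegralHom ι] (hnorm : Pi1.IsNormalScheme X')
    (hgen : ι (genericPoint X') = genericPoint X)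
    (hiso : IsIso (ι.stalkMap (genericPoint X')))
    (hfib : ι.base ⁻¹' {genericPoint X} = {genericPoint X'})
    (hdesc : ∀ {Y : Scheme.{u}} (j : Spec (X.presheaf.stalk (genericPoint X)) ⟶ Y) (f : Y ⟶ X)
      [IsIntegralHom f], X.fromSpecStalk (genericPoint X) = j ≫ f →
      ∃ d : X' ⟶ Y, IsIntegralHom d ∧ d ≫ f = ι)
    {Y : Scheme.{u}} (f : Y ⟶ X) :
    (∃ e : Y ≅ X', e.hom ≫ ι = f) ↔
      Pi1.IsNormalScheme Y ∧ IsIntegralHom f ∧
        ∃ _ : IrreducibleSpace ↥Y, f.base ⁻¹' {genericPoint X} = {genericPoint Y} ∧
          IsIso (f.stalkMap (genericPoint Y)) := by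
  constructor
  · rintro ⟨e, rfl⟩
    haveI : Nonempty Y := ⟨e.inv (genericPoint X')⟩
    haveI : IsIntegral Y := isIntegral_of_isOpenImmersion e.hom
    have heη : e.hom (genericPoint Y) = genericPoint X' := genericPoint_eq_of_isOpenImmersion e.hom
    refine ⟨?_, inferInstance, inferInstance, ?_, ?_⟩
    · intro y
      haveI := (hnorm (e.hom y)).1
      haveI := (hnorm (e.hom y)).2
      let ε := (asIso (e.hom.stalkMap y)).commRingCatIsoToRingEquiv
      exact ⟨ε.symm.toMulEquiv.isDomain _, IsIntegrallyClosed.of_equiv ε⟩
    · ext y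
      constructor
      · intro hy
        have hy' : ι (e.hom y) = genericPoint X := hy
        have h1 : e.hom y ∈ ι.base ⁻¹' {genericPoint X} := hy'
        rw [hfib] at h1
        have h2 : e.hom y = genericPoint X' := h1
        exact e.hom.isOpenEmbedding.injective (h2.trans heη.symm)
      · intro hy
        rw [Set.mem_singleton_iff] at hy
        rw [hy]
        show ι (e.hom (genericPoint Y)) = genericPoint X
        rw [heη, hgen]
    · have key : ∀ z : X', z = genericPoint X' → IsIso (ι.stalkMap z) := by
        rintro z rfl; exact hiso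
      have h1 : IsIso (ι.stalkMap (e.hom (genericPoint Y))) := key _ heη
      have h2 : IsIso (e.hom.stalkMap (genericPoint Y)) := inferInstance
      rw [Scheme.Hom.stalkMap_comp]
      exact @IsIso.comp_isIso _ _ _ _ _ _ _ h1 h2
  · rintro ⟨hY, hfint, hirr, hfibY, hisoY⟩
    haveI := hirr
    haveI := hfint
    haveI : ∀ y : Y, _root_.IsReduced (Y.presheaf.stalk y) := fun y => by
      haveI := (hY y).1
      infer_instance
    haveI : IsReduced Y := isReduced_of_isReduced_stalk Y
    haveI : IsIntegral Y := isIntegral_of_irreducibleSpace_of_isReduced Y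
    have hfη : f (genericPoint Y) = genericPoint X := by
      have : genericPoint Y ∈ f.base ⁻¹' {genericPoint X} := by rw [hfibY]; rfl
      exact this
    haveI := hisoY
    obtain ⟨j, hj⟩ : ∃ j : Spec (X.presheaf.stalk (genericPoint X)) ⟶ Y,
        j = Spec.map (X.presheaf.stalkSpecializes (genericPoint_specializes (f (genericPoint Y)))) ≫
          Spec.map (inv (f.stalkMap (genericPoint Y))) ≫ Y.fromSpecStalk (genericPoint Y) :=
      ⟨_, rfl⟩
    have e1 : Spec.map (inv (f.stalkMap (genericPoint Y))) ≫ Y.fromSpecStalk (genericPoint Y) ≫ f =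
        X.fromSpecStalk (f (genericPoint Y)) := by
      rw [← Scheme.SpecMap_stalkMap_fromSpecStalk, ← Category.assoc, ← Spec.map_comp,
        IsIso.hom_inv_id, Spec.map_id, Category.id_comp]
    have hjf : X.fromSpecStalk (genericPoint X) = j ≫ f := by
      rw [hj, Category.assoc, Category.assoc, e1, Scheme.SpecMap_stalkSpecializes_fromSpecStalk]
    obtain ⟨d, hdint, hd⟩ := hdesc j f hjf
    haveI := hdint
    have hdη : d (genericPoint X') = genericPoint Y := by
      have : d (genericPoint X') ∈ f.base ⁻¹' {genericPoint X} := by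
        show f (d (genericPoint X')) = genericPoint X
        rw [← Scheme.Hom.comp_apply, hd, hgen]
      rw [hfibY] at this
      exact this
    have hdiso : IsIso (d.stalkMap (genericPoint X')) := by
      have key' : ∀ y : Y, y = genericPoint Y → IsIso (f.stalkMap y) := by
        rintro y rfl; exact hisoY
      have key'' : ∀ g : X' ⟶ X, g = ι → IsIso (g.stalkMap (genericPoint X')) := by
        rintro g rfl; exact hiso
      have h1 : IsIso (f.stalkMap (d (genericPoint X'))) := key' _ hdη
      have h2 : IsIso ((d ≫ f).stalkMap (genericPoint X')) := key'' _ hd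
      rw [Scheme.Hom.stalkMap_comp] at h2
      exact @IsIso.of_isIso_comp_left _ _ _ _ _ (f.stalkMap (d (genericPoint X')))
        (d.stalkMap (genericPoint X')) h1 h2
    have hN : ∀ y : Y, IsIntegrallyClosed (Y.presheaf.stalk y) := fun y => (hY y).2
    haveI : IsIso d := Groth.Agent.Lib.NormalBiratH7.isIso_of_isIntegralHom_of_birational hN d
      (genericPoint X') rfl hdη hdiso
    refine ⟨(asIso d).symm, ?_⟩
    rw [← hd]
    simp

end Groth.Agent.Lib.NormalizationCharH7
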