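import Mathlib
import Groth.Agent.Lib.NormalizationNormal_helper7
import Groth.Agent.Lib.CurveTop_helper7

set_option autoImplicit false
universe u
open CategoryTheory CategoryTheory.Limits AlgebraicGeometry

namespace Groth.Agent.Lib.NormalizationFieldH7

section Alg

variable {A F K : Type*} [CommRing A] [IsDomain A] [Field F] [Field K] [Algebra A F]
  [IsFractionRing A F] (φ : F →+* K)

theorem isIntegralElem_div {m1 m2 : K}
    (h1 : (φ.comp (algebraMap A F)).IsIntegralElem m1)
    (h2 : (φ.comp (algebraMap A F)).IsIntegralElem m2) : φ.IsIntegralElem (m1 / m2) := by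
  letI := φ.toAlgebra
  letI : Algebra A K := (φ.comp (algebraMap A F)).toAlgebra
  haveI : IsScalarTower A F K := IsScalarTower.of_algebraMap_eq' rfl
  have h1' : IsIntegral A m1 := h1
  have h2' : IsIntegral A m2 := h2
  have h1'' : IsIntegral F m1 := h1'.tower_top
  have h2'' : IsIntegral F m2 := h2'.tower_top
  rw [div_eq_mul_inv]
  exact h1''.mul h2''.inv

theorem exists_div_of_isIntegralElem {y : K} (hy : φ.IsIntegralElem y) :
    ∃ m1 m2 : K, m2 ≠ 0 ∧ (φ.comp (algebraMap A F)).IsIntegralElem m1 ∧
      (φ.comp (algebraMap A F)).IsIntegralElem m2 ∧ y = m1 / m2 := by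
  letI := φ.toAlgebra
  letI : Algebra A K := (φ.comp (algebraMap A F)).toAlgebra
  haveI : IsScalarTower A F K := IsScalarTower.of_algebraMap_eq' rfl
  have hy' : IsIntegral F y := hy
  obtain ⟨⟨m, hm⟩, hmy⟩ :=
    IsIntegral.exists_multiple_integral_of_isLocalization (nonZeroDivisors A) y hy'
  rw [Submonoid.smul_def, Algebra.smul_def] at hmy
  have hm0 : algebraMap A K m ≠ 0 := by
    intro h0
    have h1 : φ (algebraMap A F m) = 0 := h0
    have h2 : algebraMap A F m = 0 := φ.injective (by rw [map_zero]; exact h1)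
    exact nonZeroDivisors.ne_zero hm ((IsFractionRing.injective A F) (by rw [h2, map_zero]))
  exact ⟨algebraMap A K m * y, algebraMap A K m, hm0, hmy, isIntegral_algebraMap,
    (mul_div_cancel_left₀ y hm0).symm⟩

end Alg

section Sch

variable {X : Scheme.{u}} [IsIntegral X] (K : Type u) [Field K]

theorem isLocalHom_field (φ : X.functionField →+* K) :
    IsLocalHom (CommRingCat.ofHom φ).hom := by
  constructor
  intro a ha
  have ha' : IsUnit (φ a) := ha
  rw [isUnit_iff_ne_zero] at ha' ⊢
  rintro rfl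
  exact ha' (map_zero _)

theorem closedPoint_generic (φ : X.functionField →+* K) (g : Spec (CommRingCat.of K) ⟶ X)
    (hg : g = Spec.map (CommRingCat.ofHom φ) ≫ X.fromSpecStalk (genericPoint X)) :
    g (IsLocalRing.closedPoint K) = genericPoint X := by
  haveI := isLocalHom_field K φ
  subst hg
  rw [Scheme.Hom.comp_apply, Spec_closedPoint, Scheme.fromSpecStalk_closedPoint]

theorem germ_stalkClosedPointTo_generic (φ : X.functionField →+* K)
    (g : Spec (CommRingCat.of K) ⟶ X)
    (hg : g = Spec.map (CommRingCat.ofHom φ) ≫ X.fromSpecStalk (genericPoint X))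
    (V : X.Opens) (hgV : g (IsLocalRing.closedPoint K) ∈ V) (hξV : genericPoint X ∈ V) :
    X.presheaf.germ V (g (IsLocalRing.closedPoint K)) hgV ≫ Scheme.stalkClosedPointTo g =
      X.presheaf.germ V (genericPoint X) hξV ≫ CommRingCat.ofHom φ := by
  haveI := isLocalHom_field K φ
  subst hg
  exact Scheme.germ_stalkClosedPointTo_Spec_fromSpecStalk (CommRingCat.ofHom φ) V hgV

/-- Basic facts on the normalization of an integral scheme in a field. -/
theorem basic (g : Spec (CommRingCat.of K) ⟶ X)
    (hgpt : g (IsLocalRing.closedPoint K) = genericPoint X) [QuasiCompact g] [QuasiSeparated g] :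
    g.toNormalization (IsLocalRing.closedPoint K) = genericPoint g.normalization ∧
    g.fromNormalization (genericPoint g.normalization) = genericPoint X ∧
    Function.Injective (Scheme.stalkClosedPointTo g.toNormalization).hom := by
  have hK : IsField (CommRingCat.of K) := Field.toIsField K
  haveI : IsDominant g := by
    constructor
    have h1 : Dense ({genericPoint X} : Set X) :=
      dense_iff_closure_eq.mpr (genericPoint_spec X).def
    exact h1.mono (by rintro _ rfl; exact ⟨_, hgpt⟩)
  haveI : IsDominant (g.toNormalization ≫ g.fromNormalization) := by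
    rw [Scheme.Hom.toNormalization_fromNormalization]; infer_instance
  haveI : IsDominant g.fromNormalization :=
    IsDominant.of_comp g.toNormalization g.fromNormalization
  have hτ : g.toNormalization (IsLocalRing.closedPoint K) = genericPoint g.normalization := by
    rw [← Groth.Agent.Lib.CurveTopH7.map_genericPoint_of_isDominant g.toNormalization]
    congr 1
    exact Groth.Agent.Lib.NormalizationNormalH7.eq_of_isField_Spec _ hK _ _
  refine ⟨hτ, Groth.Agent.Lib.CurveTopH7.map_genericPoint_of_isDominant g.fromNormalization, ?_⟩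
  have key : ∀ z : g.normalization, z = genericPoint g.normalization →
      ∀ σ' : g.normalization.presheaf.stalk z ⟶ CommRingCat.of K,
        Function.Injective σ'.hom := by
    rintro z rfl σ'
    exact RingHom.injective (σ'.hom : g.normalization.functionField →+* K)
  exact key _ hτ _

/-- The generic point of the normalization is the only point above the generic point. -/
theorem fibre_subsingleton (g : Spec (CommRingCat.of K) ⟶ X) [QuasiCompact g] [QuasiSeparated g]
    (hgpt : g (IsLocalRing.closedPoint K) = genericPoint X) (x₁ x₂ : g.normalization)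
    (h₁ : g.fromNormalization x₁ = genericPoint X)
    (h₂ : g.fromNormalization x₂ = genericPoint X) : x₁ = x₂ := by
  obtain ⟨_, ⟨(V : X.Opens), hV, rfl⟩, hξV, -⟩ :=
    X.isBasis_affineOpens.exists_subset_of_mem_open (Set.mem_univ (genericPoint X)) isOpen_univ
  haveI : Nonempty V := ⟨⟨_, hξV⟩⟩
  letI := (g.app V).hom.toAlgebra
  have hptV : IsLocalRing.closedPoint K ∈ g ⁻¹ᵁ V := by
    show g _ ∈ V
    rw [hgpt]; exact hξV
  haveI : Nontrivial Γ(Spec (CommRingCat.of K), g ⁻¹ᵁ V) :=
    ((Spec (CommRingCat.of K)).presheaf.germ _ _ hptV).hom.domain_nontrivial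
  obtain ⟨hdom, -⟩ := Groth.Agent.Lib.NormalizationNormalH7.sections_Spec_of_isField
    (CommRingCat.of K) (Field.toIsField K) (g ⁻¹ᵁ V) inferInstance
  haveI := hdom
  let c : Spec (g.normalizationDiagram.obj (.op V)) ⟶ g.normalization :=
    g.normalizationOpenCover.f ⟨V, hV⟩
  haveI : IsOpenImmersion c :=
    inferInstanceAs (IsOpenImmersion (g.normalizationOpenCover.f ⟨V, hV⟩))
  have hc : c ≫ g.fromNormalization =
      Spec.map (g.normalizationDiagramMap.app (.op V)) ≫ hV.fromSpec :=
    g.ι_fromNormalization ⟨V, hV⟩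
  have hrange : g.fromNormalization ⁻¹ᵁ V = c.opensRange := g.fromNormalization_preimage ⟨V, hV⟩
  have key : ∀ x' : g.normalization, g.fromNormalization x' = genericPoint X →
      ∃ p' : Spec (g.normalizationDiagram.obj (.op V)),
        (p'.asIdeal : Ideal (integralClosure Γ(X, V) Γ(Spec (CommRingCat.of K), g ⁻¹ᵁ V))) = ⊥ ∧
        c p' = x' := by
    intro x' hx'
    have hx'W : x' ∈ g.fromNormalization ⁻¹ᵁ V := by
      show g.fromNormalization x' ∈ V
      rw [hx']; exact hξV
    rw [hrange] at hx'W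
    obtain ⟨p', hp'⟩ := hx'W
    refine ⟨p', ?_, hp'⟩
    have h1 : hV.fromSpec ((Spec.map (g.normalizationDiagramMap.app (.op V))) p') =
        genericPoint X := by
      rw [← Scheme.Hom.comp_apply, ← hc, Scheme.Hom.comp_apply, hp', hx']
    have h2 : hV.fromSpec (genericPoint (Spec Γ(X, V))) = genericPoint X :=
      genericPoint_eq_of_isOpenImmersion hV.fromSpec
    have h3 := hV.fromSpec.isOpenEmbedding.injective (h1.trans h2.symm)
    rw [genericPoint_eq_bot_of_affine] at h3
    let P : Ideal (integralClosure Γ(X, V) Γ(Spec (CommRingCat.of K), g ⁻¹ᵁ V)) := p'.asIdeal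
    have h4 : P.comap (algebraMap Γ(X, V)
        (integralClosure Γ(X, V) Γ(Spec (CommRingCat.of K), g ⁻¹ᵁ V))) = ⊥ :=
      congrArg PrimeSpectrum.asIdeal h3
    haveI : P.IsPrime := p'.isPrime
    exact Ideal.eq_bot_of_comap_eq_bot (I := P) h4
  obtain ⟨p₁, hp₁, rfl⟩ := key x₁ h₁
  obtain ⟨p₂, hp₂, rfl⟩ := key x₂ h₂
  congr 1
  exact PrimeSpectrum.ext (hp₁.trans hp₂.symm)

theorem range_stalkClosedPointTo (φ : X.functionField →+* K) (g : Spec (CommRingCat.of K) ⟶ X)
    (hg : g = Spec.map (CommRingCat.ofHom φ) ≫ X.fromSpecStalk (genericPoint X))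
    [QuasiCompact g] [QuasiSeparated g] :
    Set.range (Scheme.stalkClosedPointTo g.toNormalization).hom =
      {y : K | φ.IsIntegralElem y} := by
  have hgpt : g (IsLocalRing.closedPoint K) = genericPoint X := closedPoint_generic K φ g hg
  obtain ⟨hτ, hιη, -⟩ := basic K g hgpt
  obtain ⟨_, ⟨(V : X.Opens), hV, rfl⟩, hξV, -⟩ :=
    X.isBasis_affineOpens.exists_subset_of_mem_open (Set.mem_univ (genericPoint X)) isOpen_univ
  haveI : Nonempty V := ⟨⟨_, hξV⟩⟩
  haveI := functionField_isFractionRing_of_isAffineOpen X V hV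
  letI := (g.app V).hom.toAlgebra
  have hgV : g (IsLocalRing.closedPoint K) ∈ V := by rw [hgpt]; exact hξV
  have hW : IsAffineOpen (g.fromNormalization ⁻¹ᵁ V) := hV.preimage g.fromNormalization
  have hηW : genericPoint g.normalization ∈ g.fromNormalization ⁻¹ᵁ V := by
    show g.fromNormalization _ ∈ V
    rw [hιη]; exact hξV
  have hτW : g.toNormalization (IsLocalRing.closedPoint K) ∈ g.fromNormalization ⁻¹ᵁ V := by
    rw [hτ]; exact hηW
  let θ₁ := ((Spec (CommRingCat.of K)).presheaf.mapIso (eqToIso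
    (Scheme.preimage_eq_top_of_closedPoint_mem g.toNormalization hτW).symm).op ≪≫
      Scheme.ΓSpecIso (CommRingCat.of K))
  let β : Γ(g.normalization, g.fromNormalization ⁻¹ᵁ V) ⟶ CommRingCat.of K :=
    g.toNormalization.app _ ≫ θ₁.hom
  have hβ : g.normalization.presheaf.germ _ _ hτW ≫
      Scheme.stalkClosedPointTo g.toNormalization = β :=
    Scheme.germ_stalkClosedPointTo g.toNormalization _ hτW
  have stepA : Set.range (Scheme.stalkClosedPointTo g.toNormalization).hom =
      {y : K | ∃ a b, b ≠ 0 ∧ y = β.hom a / β.hom b} := by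
    have keyA : ∀ (z : g.normalization) (_ : z = genericPoint g.normalization)
        (hzW : z ∈ g.fromNormalization ⁻¹ᵁ V)
        (σ' : g.normalization.presheaf.stalk z ⟶ CommRingCat.of K),
        g.normalization.presheaf.germ _ z hzW ≫ σ' = β →
        Set.range σ'.hom = {y : K | ∃ a b, b ≠ 0 ∧ y = β.hom a / β.hom b} := by
      rintro z rfl hzW σ' hσ'
      haveI : Nonempty (g.fromNormalization ⁻¹ᵁ V) := ⟨⟨_, hzW⟩⟩
      haveI := functionField_isFractionRing_of_isAffineOpen g.normalization _ hW
      let σ'' : g.normalization.functionField →+* K := σ'.hom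
      have h1 : ∀ c, σ'' (algebraMap Γ(g.normalization, g.fromNormalization ⁻¹ᵁ V)
          g.normalization.functionField c) = β.hom c := by
        intro c
        rw [← hσ']
        rfl
      ext y
      constructor
      · rintro ⟨s, rfl⟩
        obtain ⟨a, b, hb, hab⟩ := IsFractionRing.div_surjective
          (A := Γ(g.normalization, g.fromNormalization ⁻¹ᵁ V))
          (s : g.normalization.functionField)
        refine ⟨a, b, nonZeroDivisors.ne_zero hb, ?_⟩
        change σ'' s = _
        rw [← hab, map_div₀, h1, h1]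
      · rintro ⟨a, b, hb, rfl⟩
        refine ⟨algebraMap _ g.normalization.functionField a /
          algebraMap _ g.normalization.functionField b, ?_⟩
        change σ'' _ = _
        rw [map_div₀, h1, h1]
    exact keyA _ hτ hτW _ hβ
  let e := g.normalizationObjIso hV
  have happ := g.toNormalization_app_preimage ⟨V, hV⟩
  let θ' : Γ(Spec (CommRingCat.of K), g ⁻¹ᵁ V) ⟶ CommRingCat.of K :=
    (Spec (CommRingCat.of K)).presheaf.map (eqToHom
      (show g.toNormalization ⁻¹ᵁ g.fromNormalization ⁻¹ᵁ V = g ⁻¹ᵁ V by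
        simp [← Scheme.Hom.comp_preimage])).op ≫ θ₁.hom
  haveI : IsIso θ' := by dsimp only [θ']; infer_instance
  have hβ2 : β = e.hom ≫ CommRingCat.ofHom
      (integralClosure Γ(X, V) Γ(Spec (CommRingCat.of K), g ⁻¹ᵁ V)).val.toRingHom ≫ θ' := by
    dsimp only [β, θ']
    rw [happ]
    simp only [Category.assoc]
    rfl
  have hθ' : g.app V ≫ θ' = X.germToFunctionField V ≫ CommRingCat.ofHom φ := by
    have L1 := Scheme.germ_stalkClosedPointTo g V hgV
    have L2 := germ_stalkClosedPointTo_generic K φ g hg V hgV hξV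
    rw [L1] at L2
    rw [← L2]
    congr 1
  let ψ : Γ(X, V) →+* K := φ.comp (algebraMap Γ(X, V) X.functionField)
  have hψ : (g.app V ≫ θ').hom = ψ := by rw [hθ']; rfl
  have stepB1 : ∀ a, ψ.IsIntegralElem (β.hom a) := by
    intro a
    obtain ⟨p, hp, hp0⟩ : (g.app V).hom.IsIntegralElem
      ((e.hom a : integralClosure Γ(X, V) Γ(Spec (CommRingCat.of K), g ⁻¹ᵁ V)) :
        Γ(Spec (CommRingCat.of K), g ⁻¹ᵁ V)) := (e.hom a).2
    refine ⟨p, hp, ?_⟩
    have h1 : β.hom a = θ'.hom ((e.hom a).1) := by rw [hβ2]; rfl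
    rw [h1, ← hψ, CommRingCat.hom_comp, ← Polynomial.hom_eval₂, hp0, map_zero]
  have stepB2 : ∀ k : K, ψ.IsIntegralElem k → ∃ a, β.hom a = k := by
    rintro k ⟨p, hp, hp0⟩
    obtain ⟨m, rfl⟩ := (ConcreteCategory.bijective_of_isIso θ').2 k
    have hm : m ∈ integralClosure Γ(X, V) Γ(Spec (CommRingCat.of K), g ⁻¹ᵁ V) := by
      refine ⟨p, hp, ?_⟩
      apply (ConcreteCategory.bijective_of_isIso θ').1
      rw [← hψ, CommRingCat.hom_comp, ← Polynomial.hom_eval₂] at hp0
      rw [map_zero]
      exact hp0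
    obtain ⟨a, ha⟩ := (ConcreteCategory.bijective_of_isIso e.hom).2 ⟨m, hm⟩
    refine ⟨a, ?_⟩
    have h1 : β.hom a = θ'.hom ((e.hom a).1) := by rw [hβ2]; rfl
    rw [h1]
    change θ'.hom ((ConcreteCategory.hom e.hom a).1) = _
    rw [ha]
  rw [stepA]
  ext y
  constructor
  · rintro ⟨a, b, -, rfl⟩
    exact isIntegralElem_div (A := Γ(X, V)) φ (stepB1 a) (stepB1 b)
  · intro hy
    obtain ⟨m1, m2, hm2, h1, h2, rfl⟩ := exists_div_of_isIntegralElem (A := Γ(X, V)) φ hy
    obtain ⟨a, rfl⟩ := stepB2 m1 h1
    obtain ⟨b, rfl⟩ := stepB2 m2 h2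
    refine ⟨a, b, ?_, rfl⟩
    rintro rfl
    exact hm2 (map_zero _)

end Sch

end Groth.Agent.Lib.NormalizationFieldH7
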