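import Mathlib
import Groth.Prelude
import Groth.Agent.Lib.Horrocks8_helper9
import Groth.Agent.Lib.Tens14_helper8
import Groth.Agent.Lib.QCohExact_helper9
import Groth.Agent.Lib.QCohCrit2_helper9

/-!
# A bundle of rank `> 1` on `P^n_k` with a section and a cosection is not simple (helper9)
APPEND-ONLY once landed.
-/

set_option autoImplicit false
universe u
open CategoryTheory CategoryTheory.Limits AlgebraicGeometry TopologicalSpace Opposite

namespace Groth.Agent.NotSimple

open Groth.Agent.Horrocks Groth.Agent.ProjTens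

section Stalk

variable {X : Scheme.{u}}

/-- the stalk maps of a monomorphism are injective -/
theorem stalkMapₗ_injective_of_mono {F G : X.Modules} (φ : F ⟶ G) [Mono φ] (x : X) :
    Function.Injective (RefHull.stalkMapₗ φ x) := by
  rw [injective_iff_map_eq_zero]
  intro a ha
  obtain ⟨U, hxU, m, rfl⟩ := TopCat.Presheaf.exists_germ_eq F.presheaf a
  rw [RefHull.stalkMapₗ_germ] at ha
  have h0 : G.presheaf.germ U x hxU (φ.app U m) = G.presheaf.germ U x hxU 0 := by
    rw [ha, map_zero]
  obtain ⟨W, hxW, iU, iV, hW⟩ := TopCat.Presheaf.germ_eq G.presheaf x hxU hxU _ _ h0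
  rw [map_zero] at hW
  have h1 : φ.app W (F.presheaf.map iU.op m) = 0 :=
    (QCohCrit.app_naturality φ iU m).trans hW
  have h2 : F.presheaf.map iU.op m = 0 :=
    QCohExact.app_injective_of_mono φ W (h1.trans (map_zero _).symm)
  rw [← TopCat.Presheaf.germ_res_apply F.presheaf iU x hxW m, h2, map_zero]

/-- a finite locally free module of rank `r` which embeds into the structure sheaf of a nonempty
scheme has `r ≤ 1` -/
theorem rank_le_one_of_mono [Nonempty X] {E : X.Modules} {r : ℕ}
    (hE : FlatMod.IsFinLocFreeOfRank r E) (t : E ⟶ Coh.structureModule X) [Mono t] : r ≤ 1 := by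
  obtain ⟨x⟩ := ‹Nonempty X›
  have hO : FlatMod.IsFinLocFreeOfRank 1 (Coh.structureModule X) := fun y =>
    FLFH8.finLocFreeOfRank_one_of_isInvertible TensH8.isInvertible_structureModule y
  obtain ⟨hf1, hr1⟩ := FLFH8.free_stalk_of_finLocFreeOfRank E hE x
  obtain ⟨hf2, hr2⟩ := FLFH8.free_stalk_of_finLocFreeOfRank (Coh.structureModule X) hO x
  haveI : Module.Finite (X.presheaf.stalk x) ((Coh.structureModule X).presheaf.stalk x) :=
    Module.finite_of_finrank_pos (by rw [hr2]; exact one_pos)
  have h := LinearMap.finrank_le_finrank_of_injective (stalkMapₗ_injective_of_mono t x)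
  rw [hr1, hr2] at h
  exact h

end Stalk

variable (k : Type u) [Field k] (n : ℕ)

/-- a finite locally free module of rank `> 1` on `P^n_k` with a nonzero section and a nonzero
cosection has an endomorphism which is not a homothety -/
theorem exists_not_homothety (r : ℕ) (hr : 1 < r) (E : (CohB1.ProjSpace n k).Modules)
    (hE : FlatMod.IsFinLocFreeOfRank r E)
    (s : Coh.structureModule (CohB1.ProjSpace n k) ⟶ E) (hs : s ≠ 0)
    (t : E ⟶ Coh.structureModule (CohB1.ProjSpace n k)) (ht : t ≠ 0) :
    ∃ φ : E ⟶ E, ∀ c : k, (SheafOfModules.toSheaf (CohB1.ProjSpace n k).ringCatSheaf).map φ ≠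
      Coh.smulAb E (Coh.toGlobal (CohB1.ProjSpace.toSpec n k) c) := by
  haveI := isIntegral_projSpace n k
  haveI hsm : Mono s := mono_of_ne_zero_flf TensH8.isInvertible_structureModule
    (FLFH8.IsFinLocFreeOfRank.isFinLocFree E hE) s hs
  refine ⟨t ≫ s, fun c hc => ?_⟩
  by_cases hc0 : c = 0
  · subst hc0
    rw [map_zero, Coh.smulAb_zero] at hc
    have h1 : t ≫ s = 0 :=
      (SheafOfModules.toSheaf (CohB1.ProjSpace n k).ringCatSheaf).map_injective
        (hc.trans (Functor.map_zero _ _ _).symm)
    exact ht ((cancel_mono s).mp (h1.trans zero_comp.symm))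
  · have h1 : (SheafOfModules.toSheaf (CohB1.ProjSpace n k).ringCatSheaf).map t ≫
        ((SheafOfModules.toSheaf (CohB1.ProjSpace n k).ringCatSheaf).map s ≫
          Coh.smulAb E (Coh.toGlobal (CohB1.ProjSpace.toSpec n k) c⁻¹)) = 𝟙 _ := by
      have h2 : (SheafOfModules.toSheaf (CohB1.ProjSpace n k).ringCatSheaf).map t ≫
          (SheafOfModules.toSheaf (CohB1.ProjSpace n k).ringCatSheaf).map s =
          Coh.smulAb E (Coh.toGlobal (CohB1.ProjSpace.toSpec n k) c) :=
        ((SheafOfModules.toSheaf (CohB1.ProjSpace n k).ringCatSheaf).map_comp t s).symm.trans hc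
      have h3 : Coh.smulAb E (Coh.toGlobal (CohB1.ProjSpace.toSpec n k) c) ≫
          Coh.smulAb E (Coh.toGlobal (CohB1.ProjSpace.toSpec n k) c⁻¹) = 𝟙 _ := by
        rw [← Coh.smulAb_mul, ← map_mul, inv_mul_cancel₀ hc0, map_one, Coh.smulAb_one]
      exact (Category.assoc _ _ _).symm.trans ((congrArg (fun f => f ≫
        Coh.smulAb E (Coh.toGlobal (CohB1.ProjSpace.toSpec n k) c⁻¹)) h2).trans h3)
    haveI : Mono ((SheafOfModules.toSheaf (CohB1.ProjSpace n k).ringCatSheaf).map t) :=
      mono_of_mono_fac h1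
    haveI : Mono t :=
      (SheafOfModules.toSheaf (CohB1.ProjSpace n k).ringCatSheaf).mono_of_mono_map this
    have := rank_le_one_of_mono hE t
    omega

end Groth.Agent.NotSimple
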