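import Mathlib
import Groth.Prelude.Def_Models

namespace Groth.Agent.Lib.NumType

open Finset

variable {n : ℕ} (T : Models.NumericalType n)

/-- adjacency in the dual graph -/
def Adj (i j : Fin n) : Prop := i ≠ j ∧ 0 < T.a i j

instance instDecAdj (i j : Fin n) : Decidable (Adj T i j) := by unfold Adj; infer_instance

theorem adj_symm {i j : Fin n} (h : Adj T i j) : Adj T j i := by
  refine ⟨h.1.symm, ?_⟩
  rw [T.symm.apply i j]
  exact h.2

theorem row_sum (i : Fin n) : ∑ j, T.a i j * T.m j = 0 := by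
  have := congrFun T.mulVec_m i
  simpa [Matrix.mulVec, dotProduct] using this

theorem row_split (i : Fin n) :
    T.a i i * T.m i + ∑ j, (if j ≠ i then T.a i j * T.m j else 0) = 0 := by
  have hrow := row_sum T i
  have hsplit : ∀ j, T.a i j * T.m j =
      (if j = i then T.a i i * T.m i else 0) + (if j ≠ i then T.a i j * T.m j else 0) := by
    intro j
    by_cases h : j = i
    · rw [h]; simp
    · simp [h]
  rw [Finset.sum_congr rfl (fun j _ => hsplit j), Finset.sum_add_distrib] at hrow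
  simp only [Finset.sum_ite_eq', Finset.mem_univ, if_true] at hrow
  exact hrow

theorem key_ineq (c : Fin n → ℤ) (hc : ∀ i, T.a i i = T.w i * c i) (i : Fin n) :
    ∑ j, (if Adj T i j then T.m j else 0) ≤ (- c i) * T.m i := by
  have hrow := row_split T i
  have hterm : ∀ j, (if Adj T i j then T.w i * T.m j else 0) ≤
      (if j ≠ i then T.a i j * T.m j else 0) := by
    intro j
    by_cases hji : j = i
    · have : ¬ Adj T i j := fun h => h.1 hji.symm
      rw [if_neg this, if_neg (not_not.mpr hji)]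
    · by_cases hA : Adj T i j
      · rw [if_pos hA, if_pos hji]
        have : T.w i ≤ T.a i j := Int.le_of_dvd hA.2 (T.w_dvd i j)
        exact mul_le_mul_of_nonneg_right this (T.m_pos j).le
      · rw [if_neg hA, if_pos hji]
        exact mul_nonneg (T.offDiag_nonneg i j (Ne.symm hji)) (T.m_pos j).le
  have hsum := Finset.sum_le_sum (s := univ) (fun j _ => hterm j)
  have hfac : ∑ j, (if Adj T i j then T.w i * T.m j else 0) =
      T.w i * ∑ j, (if Adj T i j then T.m j else 0) := by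
    rw [Finset.mul_sum]
    refine Finset.sum_congr rfl fun j _ => ?_
    split_ifs <;> simp
  rw [hfac] at hsum
  rw [hc i] at hrow
  have hw := T.w_pos i
  have : T.w i * ∑ j, (if Adj T i j then T.m j else 0) ≤ T.w i * ((- c i) * T.m i) := by
    nlinarith
  exact le_of_mul_le_mul_left this hw

theorem exists_adj (hn : 1 < n) (i : Fin n) : ∃ j, Adj T i j := by
  have hne : ({i} : Finset (Fin n)) ≠ univ := by
    intro h
    have := congrArg Finset.card h
    rw [Finset.card_singleton, Finset.card_univ, Fintype.card_fin] at this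
    omega
  obtain ⟨i', hi', j, hj, hij⟩ := T.connected {i} (Finset.singleton_nonempty i) hne
  have hi'' : i' = i := Finset.mem_singleton.mp hi'
  rw [hi''] at hij
  have hji : i ≠ j := by
    intro h; apply hj; rw [Finset.mem_singleton]; exact h.symm
  exact ⟨j, hji, lt_of_le_of_ne (T.offDiag_nonneg i j hji) (Ne.symm hij)⟩

theorem k_pos (hn : 1 < n) (c : Fin n → ℤ) (hc : ∀ i, T.a i i = T.w i * c i) (i : Fin n) :
    1 ≤ - c i := by
  obtain ⟨j, hj⟩ := exists_adj T hn i
  have h := key_ineq T c hc i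
  have h1 : (if Adj T i j then T.m j else 0) ≤ ∑ j, (if Adj T i j then T.m j else 0) :=
    Finset.single_le_sum (f := fun j => if Adj T i j then T.m j else 0)
      (fun j _ => by
        split_ifs
        · exact (T.m_pos j).le
        · exact le_rfl) (mem_univ j)
  rw [if_pos hj] at h1
  have hmj := T.m_pos j
  have hmi := T.m_pos i
  by_contra hlt
  push_neg at hlt
  have h0 : - c i ≤ 0 := by omega
  nlinarith [mul_nonneg (neg_nonneg.mpr h0) hmi.le]

theorem vertex_facts (hmin : T.IsMinimal) (c : Fin n → ℤ) (hc : ∀ i, T.a i i = T.w i * c i)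
    (i : Fin n) (hk : 1 ≤ - c i) :
    0 ≤ 2 * T.w i * (T.g i - 1) - T.a i i ∧
    (- c i) - 2 ≤ T.m i * (2 * T.w i * (T.g i - 1) - T.a i i) ∧
    (2 * T.w i * (T.g i - 1) - T.a i i ≤ T.m i * (2 * T.w i * (T.g i - 1) - T.a i i)) ∧
    (¬ T.IsMinusTwo i → 1 ≤ 2 * T.w i * (T.g i - 1) - T.a i i ∧
      2 * T.g i - 1 ≤ 2 * T.w i * (T.g i - 1) - T.a i i ∧
      T.w i * (- c i) ≤ 3 * (2 * T.w i * (T.g i - 1) - T.a i i)) := by
  have hm := T.m_pos i
  have hw := T.w_pos i
  have hg := T.g_nonneg i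
  have hm1 : 1 ≤ T.m i := hm
  have hw1 : 1 ≤ T.w i := hw
  have hκ : 2 * T.w i * (T.g i - 1) - T.a i i = T.w i * (2 * T.g i - 2 + (- c i)) := by
    rw [hc i]; ring
  rw [hκ]
  have ht : 0 ≤ 2 * T.g i - 2 + (- c i) ∧ (¬ T.IsMinusTwo i →
      1 ≤ 2 * T.g i - 2 + (- c i) ∧ (- c i) ≤ 3 * (2 * T.g i - 2 + (- c i))) := by
    by_cases hg0 : T.g i = 0
    · have hne1 : - c i ≠ 1 := by
        intro h1
        apply hmin i
        show T.g i = 0 ∧ T.a i i = - T.w i
        refine ⟨hg0, ?_⟩
        rw [hc i]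
        have : c i = -1 := by omega
        rw [this]; ring
      have hk2 : 2 ≤ - c i := by omega
      refine ⟨by omega, fun h2 => ?_⟩
      have hne2 : - c i ≠ 2 := by
        intro h
        apply h2
        show T.g i = 0 ∧ T.a i i = -2 * T.w i
        refine ⟨hg0, ?_⟩
        rw [hc i]
        have : c i = -2 := by omega
        rw [this]; ring
      omega
    · have : 1 ≤ T.g i := by omega
      exact ⟨by omega, fun _ => by omega⟩
  obtain ⟨ht0, ht2⟩ := ht
  have hmw : 1 ≤ T.m i * T.w i := by nlinarith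
  refine ⟨mul_nonneg hw.le ht0, ?_, ?_, ?_⟩
  · nlinarith [mul_nonneg (sub_nonneg.mpr hmw) ht0]
  · nlinarith [mul_nonneg (sub_nonneg.mpr hm1) (mul_nonneg hw.le ht0)]
  · intro h2
    obtain ⟨h1, h3⟩ := ht2 h2
    refine ⟨?_, ?_, ?_⟩
    · nlinarith
    · nlinarith [mul_nonneg (sub_nonneg.mpr hw1) ht0]
    · nlinarith [mul_le_mul_of_nonneg_left h3 hw.le]

theorem genus_bound :
    ∑ j, T.m j * (2 * T.w j * (T.g j - 1) - T.a j j) ≤ 2 * T.genus - 2 := by
  have h : ∑ j, T.m j * (2 * T.w j * (T.g j - 1) - T.a j j) =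
      2 * ∑ i, T.m i * T.w i * (T.g i - 1) - ∑ i, T.m i * T.a i i := by
    rw [Finset.mul_sum, ← Finset.sum_sub_distrib]
    exact Finset.sum_congr rfl fun i _ => by ring
  rw [h]
  unfold Models.NumericalType.genus
  generalize (∑ i, T.m i * T.w i * (T.g i - 1)) = S1
  generalize (∑ i, T.m i * T.a i i) = S2
  omega

theorem amgm (x y : ℚ) (hx : 0 < x) (hy : 0 < y) : 2 ≤ x / y + y / x := by
  rw [div_add_div _ _ hy.ne' hx.ne', le_div_iff₀ (mul_pos hy hx)]
  nlinarith [sq_nonneg (x - y)]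

theorem count_eq :
    ∑ i, ∑ j, (if Adj T i j then (2 : ℚ) else 0) = 4 * (T.edgeCount : ℚ) := by
  have hE : (T.edgeCount : ℚ) =
      ∑ i, ∑ j, (if i < j ∧ 0 < T.a i j then (1 : ℚ) else 0) := by
    unfold Models.NumericalType.edgeCount
    rw [Finset.card_filter]
    push_cast
    rw [Fintype.sum_prod_type]
  have hE2 : ∑ i, ∑ j, (if i < j ∧ 0 < T.a i j then (1 : ℚ) else 0) =
      ∑ i, ∑ j, (if j < i ∧ 0 < T.a i j then (1 : ℚ) else 0) := by
    rw [Finset.sum_comm]
    refine Finset.sum_congr rfl fun i _ => Finset.sum_congr rfl fun j _ => ?_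
    rw [T.symm.apply i j]
  have hpt : ∀ i j, (if Adj T i j then (2 : ℚ) else 0) =
      2 * (if i < j ∧ 0 < T.a i j then (1 : ℚ) else 0) +
      2 * (if j < i ∧ 0 < T.a i j then (1 : ℚ) else 0) := by
    intro i j
    unfold Adj
    rcases lt_trichotomy i j with h | h | h
    · have h' : ¬ j < i := not_lt.mpr h.le
      by_cases ha : 0 < T.a i j <;> simp [h, h', ha, h.ne]
    · rw [h]; simp
    · have h' : ¬ i < j := not_lt.mpr h.le
      by_cases ha : 0 < T.a i j <;> simp [h, h', ha, h.ne']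
  simp_rw [hpt, Finset.sum_add_distrib, ← Finset.mul_sum]
  rw [← hE2, ← hE]; ring

theorem sum_k_ge (c : Fin n → ℤ) (hc : ∀ i, T.a i i = T.w i * c i) :
    2 * (T.edgeCount : ℤ) ≤ ∑ i, (- c i) := by
  have hmq : ∀ i, (0 : ℚ) < (T.m i : ℚ) := fun i => by exact_mod_cast T.m_pos i
  have hI : ∀ i, ∑ j, (if Adj T i j then (T.m j : ℚ) / (T.m i : ℚ) else 0) ≤
      ((- c i : ℤ) : ℚ) := by
    intro i
    have h := key_ineq T c hc i
    have h' : (∑ j, (if Adj T i j then (T.m j : ℚ) else 0)) ≤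
        ((- c i : ℤ) : ℚ) * (T.m i : ℚ) := by
      exact_mod_cast h
    have e1 : ∑ j, (if Adj T i j then (T.m j : ℚ) / (T.m i : ℚ) else 0) =
        (∑ j, (if Adj T i j then (T.m j : ℚ) else 0)) / (T.m i : ℚ) := by
      rw [Finset.sum_div]
      refine Finset.sum_congr rfl fun j _ => ?_
      split_ifs <;> simp
    rw [e1, div_le_iff₀ (hmq i)]
    exact h'
  have hS1 := Finset.sum_le_sum (s := univ) (fun i _ => hI i)
  have hS2 : ∑ i, ∑ j, (if Adj T i j then (T.m j : ℚ) / (T.m i : ℚ) else 0) =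
      ∑ i, ∑ j, (if Adj T j i then (T.m i : ℚ) / (T.m j : ℚ) else 0) := Finset.sum_comm
  have hpair : ∀ i j, (if Adj T i j then (2 : ℚ) else 0) ≤
      (if Adj T i j then (T.m j : ℚ) / (T.m i : ℚ) else 0) +
      (if Adj T j i then (T.m i : ℚ) / (T.m j : ℚ) else 0) := by
    intro i j
    by_cases hA : Adj T i j
    · rw [if_pos hA, if_pos hA, if_pos (adj_symm T hA)]
      exact amgm _ _ (hmq j) (hmq i)
    · have hA' : ¬ Adj T j i := fun h => hA (adj_symm T h)
      rw [if_neg hA, if_neg hA, if_neg hA']; simp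
  have hS3 : ∑ i, ∑ j, (if Adj T i j then (2 : ℚ) else 0) ≤
      ∑ i, ∑ j, (if Adj T i j then (T.m j : ℚ) / (T.m i : ℚ) else 0) +
      ∑ i, ∑ j, (if Adj T j i then (T.m i : ℚ) / (T.m j : ℚ) else 0) := by
    rw [← Finset.sum_add_distrib]
    refine Finset.sum_le_sum fun i _ => ?_
    rw [← Finset.sum_add_distrib]
    exact Finset.sum_le_sum fun j _ => hpair i j
  rw [count_eq T, ← hS2] at hS3
  have hq : (2 : ℚ) * (T.edgeCount : ℚ) ≤ ∑ i, ((- c i : ℤ) : ℚ) := by linarith
  have : ((2 * (T.edgeCount : ℤ) : ℤ) : ℚ) ≤ ((∑ i, (- c i) : ℤ) : ℚ) := by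
    push_cast
    push_cast at hq
    linarith
  exact_mod_cast this

theorem main77 (hmin : T.IsMinimal) (hn : 1 < n) : T.topGenus ≤ T.genus := by
  choose c hc using fun i => T.w_dvd i i
  have hk : ∀ i, 1 ≤ - c i := k_pos T hn c hc
  have hsumk := sum_k_ge T c hc
  have hv : ∀ i, (- c i) - 2 ≤ T.m i * (2 * T.w i * (T.g i - 1) - T.a i i) :=
    fun i => (vertex_facts T hmin c hc i (hk i)).2.1
  have hsum := Finset.sum_le_sum (s := univ) (fun i _ => hv i)
  rw [Finset.sum_sub_distrib] at hsum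
  simp only [Finset.sum_const, Finset.card_univ, Fintype.card_fin, nsmul_eq_mul] at hsum
  have hgen := genus_bound T
  unfold Models.NumericalType.topGenus
  linarith

theorem main83 (hmin : T.IsMinimal) (hn : 1 < n) (hg : 2 ≤ T.genus)
    [DecidablePred fun j => ¬T.IsMinusTwo j] :
    ((univ.filter fun j => ¬T.IsMinusTwo j).card : ℤ) ≤ 2 * T.genus - 2 ∧
      ∀ j, ¬T.IsMinusTwo j →
        T.g j < T.genus ∧ T.m j * |T.a j j| ≤ 6 * T.genus - 6 ∧
          ∀ i, T.m i * T.a i j ≤ 6 * T.genus - 6 := by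
  choose c hc using fun i => T.w_dvd i i
  have hk : ∀ i, 1 ≤ - c i := k_pos T hn c hc
  have hgen := genus_bound T
  have hvf := fun i => vertex_facts T hmin c hc i (hk i)
  have hnonneg : ∀ i, 0 ≤ T.m i * (2 * T.w i * (T.g i - 1) - T.a i i) :=
    fun i => mul_nonneg (T.m_pos i).le (hvf i).1
  have hsingle : ∀ j, T.m j * (2 * T.w j * (T.g j - 1) - T.a j j) ≤ 2 * T.genus - 2 := by
    intro j
    have := Finset.single_le_sum
      (f := fun i => T.m i * (2 * T.w i * (T.g i - 1) - T.a i i))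
      (fun i _ => hnonneg i) (mem_univ j)
    exact le_trans this hgen
  refine ⟨?_, ?_⟩
  · have h1 : ((univ.filter fun j => ¬T.IsMinusTwo j).card : ℤ) =
        ∑ j ∈ univ.filter (fun j => ¬T.IsMinusTwo j), (1 : ℤ) := by simp
    rw [h1]
    refine le_trans (Finset.sum_le_sum
      (g := fun j => T.m j * (2 * T.w j * (T.g j - 1) - T.a j j)) ?_)
      (le_trans (Finset.sum_le_sum_of_subset_of_nonneg (Finset.filter_subset _ _)
        (fun i _ _ => hnonneg i)) hgen)
    intro j hj
    have hj' : ¬ T.IsMinusTwo j := (Finset.mem_filter.mp hj).2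
    have h2 := ((hvf j).2.2.2 hj').1
    have h3 := (hvf j).2.2.1
    linarith
  · intro j hj
    obtain ⟨hκ1, hκg, hκ3⟩ := (hvf j).2.2.2 hj
    have hle := (hvf j).2.2.1
    have hs := hsingle j
    have hajj : T.a j j < 0 := by
      rw [hc j]
      nlinarith [mul_pos (T.w_pos j) (by linarith [hk j] : 0 < - c j)]
    have habs : T.m j * |T.a j j| ≤ 6 * T.genus - 6 := by
      rw [abs_of_neg hajj]
      have h5 := mul_le_mul_of_nonneg_left hκ3 (T.m_pos j).le
      have h6 : T.a j j = T.w j * c j := hc j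
      nlinarith
    have hgj : 2 * T.g j - 1 ≤ 2 * T.genus - 2 := by linarith
    refine ⟨by omega, habs, ?_⟩
    intro i
    by_cases hij : i = j
    · rw [hij]
      nlinarith [mul_pos (T.m_pos j) (neg_pos.mpr hajj)]
    · have hrow := row_split T j
      have hterm : (if i ≠ j then T.a j i * T.m i else 0) ≤
          ∑ i', (if i' ≠ j then T.a j i' * T.m i' else 0) :=
        Finset.single_le_sum (f := fun i' => if i' ≠ j then T.a j i' * T.m i' else 0)
          (fun i' _ => by
            split_ifs with h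
            · exact mul_nonneg (T.offDiag_nonneg j i' (Ne.symm h)) (T.m_pos i').le
            · exact le_rfl) (mem_univ i)
      rw [if_pos hij] at hterm
      rw [abs_of_neg hajj] at habs
      rw [T.symm.apply i j] at hterm
      nlinarith

end Groth.Agent.Lib.NumType
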