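import Mathlib
import Groth.Prelude.Def_FlatCA
import Groth.Agent.Lib.FibAssAvoid_lead

/-!
# S1193: primes of the localization at the non-zero-divisors of the closed fibre module (lead)

Abstractly: `S → F` surjective with `F` Noetherian and `X` a finite `F`-module, regarded as an
`S`-module.  Then the primes of `S` missing `Σ = nzd_S(X)` are those inside an associated prime of
`X`, and `Σ⁻¹S` is semilocal with maximal ideals the maximal associated primes.
-/

set_option autoImplicit false
universe u

namespace Groth.Agent.Lib.NzdFiber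

open TensorProduct

section Abstract

variable {S F : Type u} [CommRing S] [CommRing F] [Algebra S F]
  (X : Type u) [AddCommGroup X] [Module F X] [Module S X] [IsScalarTower S F X]

theorem colon_comap (x : X) :
    ((⊥ : Submodule F X).colon {x}).comap (algebraMap S F) = (⊥ : Submodule S X).colon {x} := by
  ext s
  rw [Ideal.mem_comap, Submodule.mem_colon_singleton, Submodule.mem_colon_singleton,
    Submodule.mem_bot, Submodule.mem_bot, algebraMap_smul]

variable (hsurj : Function.Surjective (algebraMap S F))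

include hsurj in
theorem mem_ass_iff (q' : Ideal S) :
    q' ∈ associatedPrimes S X ↔
      ∃ P ∈ associatedPrimes F X, P.comap (algebraMap S F) = q' := by
  constructor
  · intro h
    obtain ⟨hq', x, hx⟩ := AssociatedPrimes.mem_iff.mp h
    haveI := hq'
    have hc : (((⊥ : Submodule F X).colon {x}).radical).comap (algebraMap S F) = q' := by
      rw [Ideal.comap_radical, colon_comap, hx]
    have hker : RingHom.ker (algebraMap S F) ≤ q' := by
      rw [← hc]
      exact Ideal.comap_mono bot_le
    refine ⟨((⊥ : Submodule F X).colon {x}).radical, ⟨?_, x, rfl⟩, hc⟩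
    rw [← Ideal.map_comap_of_surjective _ hsurj (((⊥ : Submodule F X).colon {x}).radical), hc]
    exact Ideal.map_isPrime_of_surjective hsurj hker
  · rintro ⟨P, hP, rfl⟩
    obtain ⟨hPp, x, hx⟩ := AssociatedPrimes.mem_iff.mp hP
    haveI := hPp
    exact ⟨Ideal.comap_isPrime _ P, x, by rw [hx, Ideal.comap_radical, colon_comap]⟩

theorem mem_nzd_iff [IsNoetherianRing F] (s : S) :
    s ∈ nonZeroSMulDivisors S X ↔ ∀ P ∈ associatedPrimes F X, algebraMap S F s ∉ P := by
  have hzd := biUnion_associatedPrimes_eq_zero_divisors F X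
  constructor
  · intro hs P hP hmem
    have h1 : algebraMap S F s ∈ ⋃ p ∈ associatedPrimes F X, (p : Set F) :=
      Set.mem_iUnion₂_of_mem hP hmem
    rw [hzd] at h1
    obtain ⟨x, hx0, hx⟩ := h1
    rw [algebraMap_smul] at hx
    exact hx0 ((mem_nonZeroSMulDivisors_iff.mp hs) x hx)
  · intro h
    rw [mem_nonZeroSMulDivisors_iff]
    intro x hx
    by_contra hx0
    have h1 : algebraMap S F s ∈ { r : F | ∃ x : X, x ≠ 0 ∧ r • x = 0 } :=
      ⟨x, hx0, by rw [algebraMap_smul]; exact hx⟩
    rw [← hzd] at h1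
    obtain ⟨P, hP, hmem⟩ := Set.mem_iUnion₂.mp h1
    exact h P hP hmem

variable [IsNoetherianRing F] [Module.Finite F X]

include hsurj in
theorem disjoint_iff (q : Ideal S) [q.IsPrime] :
    Disjoint (q : Set S) (nonZeroSMulDivisors S X : Set S) ↔
      ∃ q' ∈ associatedPrimes S X, q ≤ q' := by
  classical
  have hfin := associatedPrimes.finite F X
  have hprime : ∀ P ∈ hfin.toFinset, (Ideal.comap (algebraMap S F) P).IsPrime := by
    intro P hP
    haveI : P.IsPrime := (hfin.mem_toFinset.mp hP).isPrime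
    exact Ideal.comap_isPrime _ P
  constructor
  · intro hd
    have hsub : (q : Set S) ⊆ ⋃ P ∈ (hfin.toFinset : Set (Ideal F)),
        ((Ideal.comap (algebraMap S F) P : Ideal S) : Set S) := by
      intro s hs
      by_contra hcon
      have hsS : s ∈ nonZeroSMulDivisors S X := by
        rw [mem_nzd_iff (F := F) X s]
        intro P hP hmem
        apply hcon
        exact Set.mem_iUnion₂.mpr ⟨P, Finset.mem_coe.mpr (hfin.mem_toFinset.mpr hP),
          SetLike.mem_coe.mpr (Ideal.mem_comap.mpr hmem)⟩
      exact Set.disjoint_left.mp hd hs hsS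
    obtain ⟨P, hP, hle⟩ := (Ideal.subset_union_prime
      (f := fun P => Ideal.comap (algebraMap S F) P) ⊥ ⊥
      (fun P hP _ _ => hprime P hP)).mp hsub
    exact ⟨_, (mem_ass_iff X hsurj _).mpr ⟨P, hfin.mem_toFinset.mp hP, rfl⟩, hle⟩
  · rintro ⟨q', hq', hle⟩
    obtain ⟨P, hP, rfl⟩ := (mem_ass_iff X hsurj q').mp hq'
    rw [Set.disjoint_left]
    intro s hs hsS
    exact (mem_nzd_iff (F := F) X s).mp hsS P hP (Ideal.mem_comap.mp (hle hs))

include hsurj in
theorem ass_disjoint {q' : Ideal S} (hq' : q' ∈ associatedPrimes S X) :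
    Disjoint (nonZeroSMulDivisors S X : Set S) (q' : Set S) := by
  haveI := (AssociatedPrimes.mem_iff.mp hq').isPrime
  exact ((disjoint_iff X hsurj q').mpr ⟨q', hq', le_rfl⟩).symm

local notation "LL" => Localization (nonZeroSMulDivisors S X)

include hsurj in
theorem comap_maximal_of_isMaximal (Q : Ideal LL) (hQ : Q.IsMaximal) :
    Maximal (fun r => r ∈ associatedPrimes S X) (Q.comap (algebraMap S LL)) := by
  haveI hQp : Q.IsPrime := hQ.isPrime
  haveI : (Q.comap (algebraMap S LL)).IsPrime := Ideal.comap_isPrime _ Q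
  have hqd : Disjoint ((Q.comap (algebraMap S LL) : Ideal S) : Set S)
      (nonZeroSMulDivisors S X : Set S) := by
    rw [Set.disjoint_left]
    intro s hs hsS
    exact hQp.ne_top (Ideal.eq_top_of_isUnit_mem _ (Ideal.mem_comap.mp hs)
      (IsLocalization.map_units _ (⟨s, hsS⟩ : nonZeroSMulDivisors S X)))
  obtain ⟨q', hq', hle⟩ := (disjoint_iff X hsurj _).mp hqd
  have key : ∀ q'' ∈ associatedPrimes S X, Q.comap (algebraMap S LL) ≤ q'' →
      q'' = Q.comap (algebraMap S LL) := by
    intro q'' hq'' hle''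
    have hq''p : q''.IsPrime := (AssociatedPrimes.mem_iff.mp hq'').isPrime
    have hd'' := ass_disjoint X hsurj hq''
    have hprime'' : (q''.map (algebraMap S LL)).IsPrime :=
      IsLocalization.isPrime_of_isPrime_disjoint _ _ q'' hq''p hd''
    have hQle : Q ≤ q''.map (algebraMap S LL) := by
      have h1 := IsLocalization.map_comap (nonZeroSMulDivisors S X) LL Q
      calc Q = Ideal.map (algebraMap S LL) (Q.comap (algebraMap S LL)) := h1.symm
        _ ≤ q''.map (algebraMap S LL) := Ideal.map_mono hle''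
    have hQeq : Q = q''.map (algebraMap S LL) := hQ.eq_of_le hprime''.ne_top hQle
    have h2 := IsLocalization.comap_map_of_isPrime_disjoint (nonZeroSMulDivisors S X) LL
      hq''p hd''
    calc q'' = Ideal.comap (algebraMap S LL) (q''.map (algebraMap S LL)) := h2.symm
      _ = Q.comap (algebraMap S LL) := by rw [← hQeq]
  have hqq' : q' = Q.comap (algebraMap S LL) := key q' hq' hle
  exact ⟨hqq' ▸ hq', fun y hy hle' => (key y hy hle').le⟩

include hsurj in
theorem isMaximal_of (Q : Ideal LL) (hQp : Q.IsPrime)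
    (hmax : Maximal (fun r => r ∈ associatedPrimes S X) (Q.comap (algebraMap S LL))) :
    Q.IsMaximal := by
  obtain ⟨Q₁, hQ₁, hle⟩ := Ideal.exists_le_maximal Q hQp.ne_top
  have h1 := comap_maximal_of_isMaximal X hsurj Q₁ hQ₁
  have hc : Q.comap (algebraMap S LL) ≤ Q₁.comap (algebraMap S LL) := Ideal.comap_mono hle
  have hc' : Q₁.comap (algebraMap S LL) ≤ Q.comap (algebraMap S LL) := hmax.2 h1.1 hc
  have hle' : Q₁ ≤ Q := by
    have e1 := IsLocalization.map_comap (nonZeroSMulDivisors S X) LL Q₁
    have e2 := IsLocalization.map_comap (nonZeroSMulDivisors S X) LL Q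
    calc Q₁ = Ideal.map (algebraMap S LL) (Q₁.comap (algebraMap S LL)) := e1.symm
      _ ≤ Ideal.map (algebraMap S LL) (Q.comap (algebraMap S LL)) := Ideal.map_mono hc'
      _ = Q := e2
  rw [le_antisymm hle hle']
  exact hQ₁

include hsurj in
theorem finite_maximal : {Q : Ideal LL | Q.IsMaximal}.Finite := by
  have hfinS : (associatedPrimes S X).Finite := by
    refine ((associatedPrimes.finite F X).image (Ideal.comap (algebraMap S F))).subset ?_
    intro q' hq'
    obtain ⟨P, hP, rfl⟩ := (mem_ass_iff X hsurj q').mp hq'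
    exact ⟨P, hP, rfl⟩
  refine (hfinS.image (Ideal.map (algebraMap S LL))).subset ?_
  intro Q hQ
  exact ⟨Q.comap (algebraMap S LL), (comap_maximal_of_isMaximal X hsurj Q hQ).1,
    IsLocalization.map_comap (nonZeroSMulDivisors S X) LL Q⟩

include hsurj in
theorem main_abstract :
    (∀ (q : Ideal S) [q.IsPrime], Disjoint (q : Set S) (nonZeroSMulDivisors S X : Set S) ↔
        ∃ q' ∈ associatedPrimes S X, q ≤ q') ∧
    {Q : Ideal LL | Q.IsMaximal}.Finite ∧
    (∀ Q : Ideal LL, Q.IsMaximal ↔ (Q.IsPrime ∧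
        Maximal (fun r => r ∈ associatedPrimes S X) (Q.comap (algebraMap S LL)))) :=
  ⟨fun q _ => disjoint_iff X hsurj q, finite_maximal X hsurj, fun Q =>
    ⟨fun h => ⟨h.isPrime, comap_maximal_of_isMaximal X hsurj Q h⟩,
      fun h => isMaximal_of X hsurj Q h.1 h.2⟩⟩

end Abstract

section Concrete

open IsLocalRing

attribute [local instance] Algebra.TensorProduct.rightAlgebra

theorem algebraMap_fiber_surjective {R S : Type u} [CommRing R] [IsLocalRing R] [CommRing S]
    [Algebra R S] : Function.Surjective (algebraMap S ((maximalIdeal R).Fiber S)) := by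
  intro h
  obtain ⟨t, ht, g, e⟩ := Groth.Agent.Lib.FibAssAvoid.exists_smul_eq_one_tmul (maximalIdeal R) h
  obtain ⟨u, rfl⟩ := IsLocalRing.notMem_maximalIdeal.mp ht
  refine ⟨(↑u⁻¹ : R) • g, ?_⟩
  show (1 : (maximalIdeal R).ResidueField) ⊗ₜ[R] ((↑u⁻¹ : R) • g) = h
  rw [TensorProduct.tmul_smul, ← e, smul_smul, Units.inv_mul, one_smul]

theorem main {R S : Type u} [CommRing R] [IsLocalRing R] [CommRing S] [Algebra R S]
    (N : Type u) [AddCommGroup N] [Module S N] [Module R N] [IsScalarTower R S N]
    [IsNoetherianRing ((maximalIdeal R).Fiber S)]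
    [Module.Finite ((maximalIdeal R).Fiber S) (FlatCA.fiberMod (maximalIdeal R) S N)] :
    (∀ (q : Ideal S) [q.IsPrime], Disjoint (q : Set S) (FlatCA.nzdFiber R S N) ↔
        ∃ q' ∈ associatedPrimes S (FlatCA.fiberMod (maximalIdeal R) S N), q ≤ q') ∧
    {Q : Ideal (Localization (FlatCA.nzdFiber R S N)) | Q.IsMaximal}.Finite ∧
    (∀ Q : Ideal (Localization (FlatCA.nzdFiber R S N)), Q.IsMaximal ↔ (Q.IsPrime ∧
        Maximal (fun r => r ∈ associatedPrimes S (FlatCA.fiberMod (maximalIdeal R) S N))
          (Q.comap (algebraMap S (Localization (FlatCA.nzdFiber R S N)))))) := by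
  haveI : IsScalarTower S ((maximalIdeal R).Fiber S) (FlatCA.fiberMod (maximalIdeal R) S N) :=
    inferInstanceAs (IsScalarTower S ((maximalIdeal R).Fiber S)
      (((maximalIdeal R).Fiber S) ⊗[S] N))
  exact main_abstract (FlatCA.fiberMod (maximalIdeal R) S N)
    (algebraMap_fiber_surjective (R := R) (S := S))

end Concrete

end Groth.Agent.Lib.NzdFiber
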