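import Mathlib
import Groth.Agent.Lib.EtStalkHens_helper7
import Groth.Agent.Lib.MinPrimeColim_helper7

/-!
# Minimal primes of the étale local ring of an algebraic space at a geometric point (helper7)

`encard_minimalPrimes_OEtStalk`: the number of minimal primes of `O_{X, p̄}` is the supremum,
over the affine étale neighbourhoods `(U, ū)` of `p̄`, of the number of minimal primes of the
Zariski local ring `O_{U, u}`.
-/

set_option autoImplicit false
set_option backward.isDefEq.respectTransparency false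
set_option backward.isDefEq.respectTransparency.types false
set_option linter.style.haveILetI false
set_option linter.unusedSectionVars false
set_option linter.unusedVariables false
set_option maxHeartbeats 1600000

universe u
open CategoryTheory CategoryTheory.Limits AlgebraicGeometry Opposite
open AlgSp Groth.Agent.Lib.AlgSpPoints_helper7 Groth.Agent.Lib.EtNbhd_helper7
  Groth.Agent.Lib.EtStalkPt_helper7 Groth.Agent.Lib.EtStalkSupp_helper7
  Groth.Agent.Lib.StrictHens_helper7 Groth.Agent.Lib.EtStalkHens_helper7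
  Groth.Agent.Lib.MinPrimeColimH7

namespace Groth.Agent.Lib.OEtBranchesH7

section Scheme

/-- the algebra structure of a stalk over the ring of global functions -/
@[reducible] noncomputable def algTop (U : Scheme.{u}) (u : U) :
    Algebra Γ(U, ⊤) (U.presheaf.stalk u) :=
  U.presheaf.algebra_section_stalk (U := ⊤) ⟨u, trivial⟩

attribute [local instance] algTop

theorem algebraMap_top (U : Scheme.{u}) (u : U) (f : Γ(U, ⊤)) :
    algebraMap Γ(U, ⊤) (U.presheaf.stalk u) f = U.presheaf.germ ⊤ u trivial f := rfl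

/-- the prime ideal of global functions vanishing at a point of an affine scheme -/
noncomputable def primeAt (U : Scheme.{u}) [IsAffine U] (u : U) : Ideal Γ(U, ⊤) :=
  ((isAffineOpen_top U).primeIdealOf ⟨u, trivial⟩).asIdeal

instance primeAt_isPrime (U : Scheme.{u}) [IsAffine U] (u : U) : (primeAt U u).IsPrime :=
  PrimeSpectrum.isPrime _

instance isLocTop (U : Scheme.{u}) [IsAffine U] (u : U) :
    IsLocalization.AtPrime (U.presheaf.stalk u) (primeAt U u) :=
  (isAffineOpen_top U).isLocalization_stalk ⟨u, trivial⟩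

theorem mem_primeAt_iff (U : Scheme.{u}) [IsAffine U] (u : U) (f : Γ(U, ⊤)) :
    f ∈ primeAt U u ↔ u ∉ U.basicOpen f := by
  have h1 := IsLocalization.AtPrime.isUnit_to_map_iff (U.presheaf.stalk u) (primeAt U u) f
  rw [algebraMap_top, ← Scheme.mem_basicOpen_top] at h1
  rw [h1]
  show f ∈ primeAt U u ↔ ¬ (f ∉ primeAt U u)
  rw [not_not]

/-- evaluation at a field-valued point and basic opens -/
theorem ev_ne_zero_iff {K : Type u} [Field K] {U : Scheme.{u}}
    (ξ : Spec (CommRingCat.of K) ⟶ U) (f : Γ(U, ⊤)) :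
    ev ξ f ≠ 0 ↔ ξ (default : ↥(Spec (CommRingCat.of K))) ∈ U.basicOpen f := by
  constructor
  · intro hr
    have hu : IsUnit (ξ.appTop.hom f) := by
      have h0 : IsUnit (ev ξ f) := IsUnit.mk0 _ hr
      have := h0.map (Scheme.ΓSpecIso (CommRingCat.of K)).inv.hom
      rwa [inv_ev] at this
    have htop : ξ ⁻¹ᵁ (U.basicOpen f) = ⊤ := by
      rw [Scheme.preimage_basicOpen_top]; exact Scheme.basicOpen_of_isUnit _ hu
    have hx : (default : ↥(Spec (CommRingCat.of K))) ∈ ξ ⁻¹ᵁ (U.basicOpen f) := by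
      rw [htop]; trivial
    exact hx
  · intro hx hzero
    have hx' : (default : ↥(Spec (CommRingCat.of K))) ∈ ξ ⁻¹ᵁ (U.basicOpen f) := hx
    rw [Scheme.preimage_basicOpen_top] at hx'
    have h0 : ξ.appTop.hom f = 0 := by
      rw [← inv_ev, hzero, map_zero]
    rw [h0, Scheme.basicOpen_zero] at hx'
    exact hx'

theorem mem_primeAt_iff_ev {K : Type u} [Field K] {U : Scheme.{u}} [IsAffine U]
    (ξ : Spec (CommRingCat.of K) ⟶ U) (f : Γ(U, ⊤)) :
    f ∈ primeAt U (ξ (default : ↥(Spec (CommRingCat.of K)))) ↔ ev ξ f = 0 := by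
  rw [mem_primeAt_iff, ← ev_ne_zero_iff, not_not]

/-- the stalk map of an étale morphism, with target point prescribed up to equality -/
theorem exists_stalkMap {U V : Scheme.{u}} (t : V ⟶ U) [Etale t] (v : V) (u : U) (h : t v = u) :
    ∃ τ : U.presheaf.stalk u →+* V.presheaf.stalk v, τ.Flat ∧ (∀ a, IsUnit (τ a) → IsUnit a) ∧
      ∀ f : Γ(U, ⊤), τ (U.presheaf.germ ⊤ u trivial f) =
        V.presheaf.germ ⊤ v trivial (t.appTop.hom f) := by
  subst h
  refine ⟨(t.stalkMap v).hom, Flat.stalkMap t v, fun a ha => ?_, fun f => ?_⟩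
  · exact (isUnit_map_iff (t.stalkMap v).hom a).1 ha
  · exact Scheme.Hom.germ_stalkMap_apply t ⊤ v trivial f

end Scheme

attribute [local instance] algTop

variable {S : Scheme.{u}} {X : Sp S}

section Nbhd

variable {p : FieldPt X}

/-- an étale morphism to an étale neighbourhood with a lift of the point is an étale
neighbourhood -/
theorem exists_nbhd_of_etale (k : EtNbhd p) {V : Scheme.{u}} (g : V ⟶ k.1.obj.left.left)
    [hg : Etale g] (ξ' : Spec (CommRingCat.of p.K) ⟶ V) (hξ' : ξ' ≫ g = k.2.1.left) :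
    ∃ (j : EtNbhd p) (m : j ⟶ k) (e : j.1.obj.left.left ≅ V),
      m.1.hom.left.left = e.hom ≫ g ∧ j.2.1.left ≫ e.hom = ξ' := by
  obtain ⟨E, l⟩ := k
  let W : Over S := Over.mk (g ≫ E.obj.left.hom)
  let gO : W ⟶ E.obj.left := Over.homMk g rfl
  have hb : RepWith @Etale ((yon S).map gO ≫ E.obj.hom) :=
    (repWith_isMultiplicative (S := S) @Etale).comp_mem _ _
      ((repWith_yon_map_iff _ _).2 (show Etale gO.left from hg)) E.property
  let E' : EtOver X := EtOver.mk ((yon S).map gO ≫ E.obj.hom) hb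
  let m : E' ⟶ E := EtOver.homMk gO rfl
  have hw : ξ' ≫ W.hom = p.pt.hom := by
    show ξ' ≫ g ≫ E.obj.left.hom = _
    rw [← Category.assoc, hξ']
    exact Over.w l.1
  let u' : p.pt ⟶ W := Over.homMk ξ' hw
  have hu' : u' ≫ gO = l.1 := by
    ext
    exact hξ'
  let l' : (FieldPt.liftsTo p).obj E' := ⟨u', by
    show (yon S).map u' ≫ (yon S).map gO ≫ E.obj.hom = p.toHom
    rw [← Category.assoc, ← Functor.map_comp, hu']
    exact l.2⟩
  have hml : (FieldPt.liftsTo p).map m l' = l := Subtype.ext hu'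
  exact ⟨⟨E', l'⟩, ⟨m, hml⟩, Iso.refl V, (Category.id_comp g).symm, Category.comp_id ξ'⟩

/-- affine étale neighbourhoods -/
abbrev AffNbhd (p : FieldPt X) : Type (u + 1) := {i : EtNbhd p // IsAffine i.1.obj.left.left}

namespace AffNbhd

/-- the underlying scheme -/
noncomputable abbrev U (i : AffNbhd p) : Scheme.{u} := i.1.1.obj.left.left

instance (i : AffNbhd p) : IsAffine i.U := i.2

/-- the lift of the point -/
noncomputable abbrev ξ (i : AffNbhd p) : Spec (CommRingCat.of p.K) ⟶ i.U := i.1.2.1.left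

/-- the image point -/
noncomputable abbrev pt (i : AffNbhd p) : ↥i.U := i.ξ (default : ↥(Spec (CommRingCat.of p.K)))

end AffNbhd

theorem exists_affine_refinement (k : EtNbhd p) : ∃ j : AffNbhd p, Nonempty (j.1 ⟶ k) := by
  obtain ⟨V, hV, hxV, -⟩ := exists_isAffineOpen_mem_and_subset
    (x := k.2.1.left (default : ↥(Spec (CommRingCat.of p.K)))) (U := ⊤) trivial
  have hrange : Set.range k.2.1.left ⊆ Set.range V.ι := by
    rw [Scheme.Opens.range_ι]
    rintro _ ⟨x, rfl⟩
    have hx : x = (default : ↥(Spec (CommRingCat.of p.K))) :=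
      Subsingleton.elim (α := ↥(Spec (CommRingCat.of p.K))) _ _
    rw [hx]
    exact hxV
  have hfac : IsOpenImmersion.lift V.ι k.2.1.left hrange ≫ V.ι = k.2.1.left :=
    IsOpenImmersion.lift_fac _ _ _
  obtain ⟨j, m, e, -, -⟩ := exists_nbhd_of_etale k V.ι _ hfac
  haveI : IsAffine V.toScheme := hV
  haveI : IsAffine j.1.obj.left.left := IsAffine.of_isIso e.hom
  exact ⟨⟨j, this⟩, ⟨m⟩⟩

theorem map_pt {j i : EtNbhd p} (m : j ⟶ i) :
    m.1.hom.left.left (j.2.1.left (default : ↥(Spec (CommRingCat.of p.K)))) =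
      i.2.1.left (default : ↥(Spec (CommRingCat.of p.K))) := by
  have h2 : (FieldPt.liftsTo p).map m.1 j.2 = i.2 := m.2
  exact congrArg (fun l : (FieldPt.liftsTo p).obj i.1 =>
    l.1.left (default : ↥(Spec (CommRingCat.of p.K)))) h2

end Nbhd

variable (hX : IsAlgSpace X) (p : FieldPt X) [IsSepClosed p.K]

/-- germs with nonzero value at the point are units -/
theorem isUnit_of_stalkEv_ne_zero (r : ↥(OEtStalk p)) (h : stalkEv hX p r ≠ 0) : IsUnit r := by
  obtain ⟨i, hi⟩ := exists_common hX p {r}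
  obtain ⟨f, rfl⟩ := hi (Finset.mem_coe.2 (Finset.mem_singleton_self r))
  rw [stalkEv_germ] at h
  have hmem : i.2.1.left (default : ↥(Spec (CommRingCat.of p.K))) ∈
      i.1.obj.left.left.basicOpen f := (ev_ne_zero_iff _ f).1 h
  have hrange : Set.range i.2.1.left ⊆ Set.range (i.1.obj.left.left.basicOpen f).ι := by
    rw [Scheme.Opens.range_ι]
    rintro _ ⟨x, rfl⟩
    have hx : x = (default : ↥(Spec (CommRingCat.of p.K))) :=
      Subsingleton.elim (α := ↥(Spec (CommRingCat.of p.K))) _ _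
    rw [hx]
    exact hmem
  have hfac : IsOpenImmersion.lift (i.1.obj.left.left.basicOpen f).ι i.2.1.left hrange ≫
      (i.1.obj.left.left.basicOpen f).ι = i.2.1.left := IsOpenImmersion.lift_fac _ _ _
  obtain ⟨j, m, e, hm, -⟩ := exists_nbhd_of_etale i (i.1.obj.left.left.basicOpen f).ι _ hfac
  rw [← germ_elem hX p m f, hm, Scheme.Hom.comp_appTop]
  have hu : IsUnit ((i.1.obj.left.left.basicOpen f).ι.appTop.hom f) :=
    isUnit_appTop_of_range_subset _ f (by rw [Scheme.Opens.range_ι])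
  exact (hu.map e.hom.appTop.hom).map (germ hX p j.1 j.2)

theorem not_isUnit_of_stalkEv_eq_zero (r : ↥(OEtStalk p)) (h : stalkEv hX p r = 0) :
    ¬ IsUnit r := fun hu => (hu.map (stalkEv hX p)).ne_zero h

/-- ring version of `germ_eq_zero_iff` -/
theorem germ_eq_zero (E : EtOver X) (l : (FieldPt.liftsTo p).obj E) (f : Γ(E.obj.left.left, ⊤))
    (h : germ hX p E l f = 0) :
    ∃ (k : EtNbhd p) (m : k ⟶ (⟨E, l⟩ : EtNbhd p)), m.1.hom.left.left.appTop.hom f = 0 := by
  have h0 : (point hX p).toPresheafFiber E l (OEt X).obj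
      (0 : ↥((OEt X).obj.obj (op E))) = 0 := map_zero _
  rw [germ_apply, ← h0] at h
  obtain ⟨V, g, y, hy, heq⟩ := ((point hX p).toPresheafFiber_eq_iff' (P := (OEt X).obj) E l
    (ULift.up f : ↥((OEt X).obj.obj (op E))) (0 : ↥((OEt X).obj.obj (op E)))).1 h
  refine ⟨⟨V, y⟩, ⟨g, hy⟩, ?_⟩
  rw [map_zero] at heq
  exact congrArg ULift.down heq

/-- the data attached to a morphism of affine étale neighbourhoods -/
theorem germHom_data {i j : AffNbhd p} (m : j.1 ⟶ i.1) :
    ∃ τ : i.U.presheaf.stalk i.pt →+* j.U.presheaf.stalk j.pt,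
      (germ hX p j.1.1 j.1.2).comp m.1.hom.left.left.appTop.hom = germ hX p i.1.1 i.1.2 ∧
      τ.Flat ∧ (∀ a, IsUnit (τ a) → IsUnit a) ∧
      ∀ f : Γ(i.U, ⊤), τ (algebraMap Γ(i.U, ⊤) (i.U.presheaf.stalk i.pt) f) =
        algebraMap Γ(j.U, ⊤) (j.U.presheaf.stalk j.pt) (m.1.hom.left.left.appTop.hom f) := by
  haveI : Etale m.1.hom.left.left := EtOver.etale_left m.1
  obtain ⟨τ, h1, h2, h3⟩ := exists_stalkMap m.1.hom.left.left j.pt i.pt (map_pt m)
  refine ⟨τ, ?_, h1, h2, h3⟩
  ext f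
  exact germ_elem hX p m f

include hX in
/-- **The number of minimal primes of the étale local ring.** -/
theorem encard_minimalPrimes_OEtStalk :
    (minimalPrimes ↥(OEtStalk p)).encard =
      ⨆ i : AffNbhd p, (minimalPrimes ↥(i.U.presheaf.stalk i.pt)).encard := by
  haveI hloc : IsLocalRing ↥(OEtStalk p) := (isStrictlyHenselian_OEtStalk hX p).1
  haveI hcof := isCofiltered_etNbhd hX p
  haveI hne : Nonempty (AffNbhd p) := by
    obtain ⟨k⟩ := nonempty_etNbhd hX p
    obtain ⟨j, -⟩ := exists_affine_refinement k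
    exact ⟨j⟩
  refine encard_minimalPrimes_eq_iSup_of_germs (R := ↥(OEtStalk p)) (ι := AffNbhd p)
    (Γ := fun i => ↥Γ(i.U, ⊤)) (𝔭 := fun i => primeAt i.U i.pt)
    (A := fun i => ↥(i.U.presheaf.stalk i.pt)) (φ := fun i => germ hX p i.1.1 i.1.2) ?_ ?_ ?_ ?_
  · intro i f hf
    apply isUnit_of_stalkEv_ne_zero hX p
    rw [stalkEv_germ]
    intro h0
    exact hf ((mem_primeAt_iff_ev i.ξ f).2 h0)
  · intro i f hf
    apply not_isUnit_of_stalkEv_eq_zero hX p
    rw [stalkEv_germ]
    exact (mem_primeAt_iff_ev i.ξ f).1 hf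
  · intro i s
    obtain ⟨i', hi'⟩ := exists_common hX p s
    obtain ⟨j, ⟨mj⟩⟩ := exists_affine_refinement (IsCofiltered.min i.1 i')
    obtain ⟨τ, h1, h2, h3, h4⟩ := germHom_data hX p (i := i) (j := j)
      (mj ≫ IsCofiltered.minToLeft i.1 i')
    refine ⟨j, ⟨_, τ, h1, h2, h3, h4⟩, ?_⟩
    intro r hr
    obtain ⟨f, rfl⟩ := hi' hr
    exact ⟨(mj ≫ IsCofiltered.minToRight i.1 i').1.hom.left.left.appTop.hom f,
      germ_elem hX p (mj ≫ IsCofiltered.minToRight i.1 i') f⟩
  · intro i f hf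
    obtain ⟨k, mk, hk⟩ := germ_eq_zero hX p i.1.1 i.1.2 f hf
    obtain ⟨j, ⟨mj⟩⟩ := exists_affine_refinement k
    obtain ⟨τ, h1, h2, h3, h4⟩ := germHom_data hX p (i := i) (j := j) (mj ≫ mk)
    refine ⟨j, _, τ, h1, h2, h3, h4, ?_⟩
    show (mj ≫ mk).1.hom.left.left.appTop.hom f = 0
    have hcomp : (mj ≫ mk).1.hom.left.left = mj.1.hom.left.left ≫ mk.1.hom.left.left := rfl
    rw [hcomp, Scheme.Hom.comp_appTop]
    show mj.1.hom.left.left.appTop.hom (mk.1.hom.left.left.appTop.hom f) = 0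
    rw [hk, map_zero]

end Groth.Agent.Lib.OEtBranchesH7
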