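import Mathlib
import Groth.Agent.Lib.OEtBranches1_helper7
import Groth.Agent.Lib.BrEtNbhd6_helper3
import Groth.Agent.S9753
import Groth.Agent.S9236

/-!
# Geometric branches of an algebraic space at a point (helper7)

For a point `x` of an algebraic space `X`, let `M X x` be the supremum over all étale charts
`(U, u)` over `x` of the number of minimal primes of `O_{U,u}`.  Then
* `numGeomBranchesAt_eq_M`: for every chart `(U, u)` over `x` the number of geometric branches of
  `U` at `u` is `M X x`;
* `encard_minimalPrimes_OEtStalk_eq_M`: for every geometric point `p̄` over `x` the number of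
  minimal primes of `O_{X, p̄}` is `M X x`.
Then the two milestone statements `main10239`, `main10227`.
-/

set_option autoImplicit false
set_option backward.isDefEq.respectTransparency false
set_option backward.isDefEq.respectTransparency.types false
set_option linter.style.haveILetI false
set_option linter.unusedSectionVars false
set_option linter.unusedVariables false
set_option maxHeartbeats 1600000

universe u
open CategoryTheory CategoryTheory.Limits AlgebraicGeometry Opposite
open AlgSp Groth.Agent.Lib.AlgSpPoints_helper7 Groth.Agent.Lib.EtNbhd_helper7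
  Groth.Agent.Lib.EtStalkPt_helper7 Groth.Agent.Lib.EtStalkSupp_helper7
  Groth.Agent.Lib.StrictHens_helper7 Groth.Agent.Lib.EtStalkHens_helper7
  Groth.Agent.Lib.MinPrimeColimH7 Groth.Agent.Lib.BrEtNbhdH3

namespace Groth.Agent.Lib.OEtBranchesH7

section Scheme

/-- minimal primes of local rings along an étale morphism -/
theorem encard_stalk_le_of_etale {U W : Scheme.{u}} (g : W ⟶ U) [Etale g] (w : W) (u : U)
    (h : g w = u) :
    (minimalPrimes ↥(U.presheaf.stalk u)).encard ≤ (minimalPrimes ↥(W.presheaf.stalk w)).encard := by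
  obtain ⟨τ, h1, h2, -⟩ := exists_stalkMap g w u h
  exact encard_minimalPrimes_le_of_flat_local τ h1 ⟨h2⟩

/-- minimal primes of the local ring of an étale neighbourhood are bounded by the number of
geometric branches -/
theorem encard_stalk_le_numGeomBranchesAt {U W : Scheme.{u}} (g : W ⟶ U) [Etale g] (w : W) (u : U)
    (h : g w = u) :
    (minimalPrimes ↥(W.presheaf.stalk w)).encard ≤ Brnch.numGeomBranchesAt U u := by
  subst h
  rw [← encard_components_through_eq]
  exact count_le_numGeomBranchesAt g w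

end Scheme

variable {S : Scheme.{u}}

/-- étale charts through a point of `|X|` -/
structure Chart (X : Sp S) (x : Points X) : Type (u + 1) where
  /-- the scheme -/
  U : Over S
  /-- the chart -/
  a : (yon S).obj U ⟶ X
  /-- the point -/
  pt : ↥U.left
  ha : RepWith @Etale a
  hx : Points.ofPt a pt = x

variable {X : Sp S}

/-- the number of minimal primes of the local ring of a chart -/
noncomputable def Chart.N {x : Points X} (c : Chart X x) : ℕ∞ :=
  (minimalPrimes ↥(c.U.left.presheaf.stalk c.pt)).encard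

/-- the supremum over all charts -/
noncomputable def M (X : Sp S) (x : Points X) : ℕ∞ := ⨆ c : Chart X x, c.N

theorem Chart.N_le_M {x : Points X} (c : Chart X x) : c.N ≤ M X x :=
  le_iSup (fun c : Chart X x => c.N) c

theorem Chart.one_le_N {x : Points X} (c : Chart X x) : 1 ≤ c.N := by
  show 1 ≤ (minimalPrimes ↥(c.U.left.presheaf.stalk c.pt)).encard
  rw [Set.one_le_encard_iff_nonempty]
  obtain ⟨P, hP, -⟩ := Ideal.exists_minimalPrimes_le (I := (⊥ : Ideal ↥(c.U.left.presheaf.stalk c.pt)))
    (J := IsLocalRing.maximalIdeal ↥(c.U.left.presheaf.stalk c.pt)) bot_le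
  exact ⟨P, hP⟩

theorem nonempty_chart (hX : IsAlgSpace X) (x : Points X) : Nonempty (Chart X x) := by
  obtain ⟨T, a, hae, has⟩ := hX.atlas
  obtain ⟨t, ht⟩ := ofPt_surjective a has x
  exact ⟨⟨T, a, t, hae, ht⟩⟩

/-- **Claim A.** The number of geometric branches of any chart over `x` is `M X x`. -/
theorem numGeomBranchesAt_eq_M {x : Points X} (c : Chart X x) :
    Brnch.numGeomBranchesAt c.U.left c.pt = M X x := by
  apply le_antisymm
  · rw [Groth.Agent.S9753.result c.U.left c.pt]
    refine iSup_le fun V => iSup_le fun g => iSup_le fun v => iSup_le fun hgv => ?_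
    obtain ⟨hg, hv⟩ := hgv
    rw [encard_components_through_eq]
    let W : Over S := Over.mk (g ≫ c.U.hom)
    let gO : W ⟶ c.U := Over.homMk g rfl
    have hb : RepWith @Etale ((yon S).map gO ≫ c.a) :=
      (repWith_isMultiplicative (S := S) @Etale).comp_mem _ _
        ((repWith_yon_map_iff _ _).2 (show Etale gO.left from hg)) c.ha
    have hx' : Points.ofPt ((yon S).map gO ≫ c.a) v = x := by
      rw [ofPt_comp]
      show Points.ofPt c.a (g v) = x
      rw [hv]
      exact c.hx
    exact Chart.N_le_M (⟨W, (yon S).map gO ≫ c.a, v, hb, hx'⟩ : Chart X x)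
  · refine iSup_le fun c' => ?_
    obtain ⟨Q, snd, fst, sq⟩ := c.ha.1 c'.a
    obtain ⟨fst', hfst'⟩ := (yon S).map_surjective fst
    subst hfst'
    haveI hsnd : Etale snd.left := c.ha.2 c'.a _ snd sq
    haveI hfst : Etale fst'.left := c'.ha.2 c.a _ fst' sq.flip
    obtain ⟨w, hw1, hw2⟩ := exists_ofPt_eq_of_isPullback sq c.pt c'.pt (c.hx.trans c'.hx.symm)
    exact (encard_stalk_le_of_etale snd.left w c'.pt hw2).trans
      (encard_stalk_le_numGeomBranchesAt fst'.left w c.pt hw1)

/-- the supremum over the affine étale neighbourhoods of a geometric point is `M` -/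
theorem iSup_affNbhd_eq_M (hX : IsAlgSpace X) (p : FieldPt X) [IsSepClosed p.K] :
    (⨆ i : AffNbhd p, (minimalPrimes ↥(i.U.presheaf.stalk i.pt)).encard) = M X (Points.mk p) := by
  apply le_antisymm
  · refine iSup_le fun i => ?_
    exact Chart.N_le_M (⟨i.1.1.obj.left, i.1.1.obj.hom, i.pt, i.1.1.property,
      ofPt_lift p i.1.1 i.1.2⟩ : Chart X (Points.mk p))
  · refine iSup_le fun c => ?_
    obtain ⟨l, hl⟩ := exists_lift_of_ofPt_eq p (EtOver.mk c.a c.ha) c.pt c.hx
    obtain ⟨j, ⟨m⟩⟩ := exists_affine_refinement (⟨EtOver.mk c.a c.ha, l⟩ : EtNbhd p)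
    haveI : Etale m.1.hom.left.left := EtOver.etale_left m.1
    have hpt : m.1.hom.left.left j.pt = c.pt := (map_pt m).trans hl
    exact (encard_stalk_le_of_etale m.1.hom.left.left j.pt c.pt hpt).trans
      (le_iSup (fun i : AffNbhd p => (minimalPrimes ↥(i.U.presheaf.stalk i.pt)).encard) j)

/-- **Claim B.** The number of minimal primes of the étale local ring at a geometric point over
`x` is `M X x`. -/
theorem encard_minimalPrimes_OEtStalk_eq_M (hX : IsAlgSpace X) (p : FieldPt X) [IsSepClosed p.K] :
    (minimalPrimes ↥(OEtStalk p)).encard = M X (Points.mk p) := by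
  rw [encard_minimalPrimes_OEtStalk hX p, iSup_affNbhd_eq_M hX p]

/-- existence of a geometric point over a point with a chart -/
theorem exists_geometric_over {x : Points X} (c : Chart X x) :
    ∃ p : FieldPt X, p.IsGeometric ∧ Points.mk p = x := by
  obtain ⟨p, hp, l, hl⟩ := exists_geometric_lift (EtOver.mk c.a c.ha) c.pt
  refine ⟨p, hp, ?_⟩
  have h := ofPt_lift p (EtOver.mk c.a c.ha) l
  rw [hl] at h
  rw [← h]
  exact c.hx

theorem hasUniqueMinimalPrime_iff (A : Type*) [CommRing A] :
    (∃! 𝔭 : Ideal A, 𝔭 ∈ minimalPrimes A) ↔ (minimalPrimes A).encard = 1 := by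
  rw [Set.encard_eq_one]
  constructor
  · rintro ⟨P, hP, huniq⟩
    refine ⟨P, ?_⟩
    ext Q
    constructor
    · intro hQ
      exact huniq Q hQ
    · rintro rfl
      exact hP
  · rintro ⟨P, hP⟩
    refine ⟨P, ?_, ?_⟩
    · rw [hP]; exact Set.mem_singleton P
    · intro Q hQ
      rw [hP] at hQ
      exact hQ

/-- a finite supremum `≥ 1` is attained -/
theorem exists_N_eq {x : Points X} (hne : Nonempty (Chart X x)) (n : ℕ) (hM : M X x = n) :
    ∃ c : Chart X x, c.N = n := by
  by_contra hcon
  push Not at hcon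
  have hlt : ∀ c : Chart X x, c.N + 1 ≤ n := by
    intro c
    have h1 : c.N ≤ n := hM ▸ c.N_le_M
    have h2 : c.N < n := lt_of_le_of_ne h1 (hcon c)
    exact Order.add_one_le_of_lt h2
  obtain ⟨c₀⟩ := hne
  have hn1 : 1 ≤ n := by
    have h1 : (1 : ℕ∞) ≤ n := (c₀.one_le_N).trans (hM ▸ c₀.N_le_M)
    exact_mod_cast h1
  have hle : M X x ≤ ((n - 1 : ℕ) : ℕ∞) := by
    refine iSup_le fun c => ?_
    have h3 := hlt c
    have hfin : c.N ≠ ⊤ := fun htop => by
      rw [htop] at h3
      simp at h3
    obtain ⟨k, hk⟩ := ENat.ne_top_iff_exists.1 hfin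
    rw [← hk] at h3 ⊢
    have h4 : k + 1 ≤ n := by exact_mod_cast h3
    have h5 : k ≤ n - 1 := by omega
    exact_mod_cast h5
  rw [hM] at hle
  have h6 : n ≤ n - 1 := by exact_mod_cast hle
  omega

section Main

variable (hX : IsAlgSpace X) (x : Points X)

include hX in
theorem main10239_aux (n : ℕ) (hn : 1 ≤ n) :
    (((∀ (U : Over S) (a : (AlgSp.yon S).obj U ⟶ X) (u : ↥U.left),
        AlgSp.RepWith @Etale a → AlgSp.Points.ofPt a u = x →
          (minimalPrimes ↥(U.left.presheaf.stalk u)).encard ≤ n) ∧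
        AlgSp.HasAt (fun U u => (minimalPrimes ↥(U.presheaf.stalk u)).encard = n) X x) ↔
      (∀ (U : Over S) (a : (AlgSp.yon S).obj U ⟶ X) (u : ↥U.left),
        AlgSp.RepWith @Etale a → AlgSp.Points.ofPt a u = x →
          Brnch.numGeomBranchesAt U.left u = n)) ∧
    ((∀ (U : Over S) (a : (AlgSp.yon S).obj U ⟶ X) (u : ↥U.left),
        AlgSp.RepWith @Etale a → AlgSp.Points.ofPt a u = x →
          Brnch.numGeomBranchesAt U.left u = n) ↔
      ∀ p : AlgSp.FieldPt X, p.IsGeometric → AlgSp.Points.mk p = x →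
        (minimalPrimes ↥(AlgSp.OEtStalk p)).encard = n) := by
  have hne := nonempty_chart hX x
  have hA : (∀ (U : Over S) (a : (AlgSp.yon S).obj U ⟶ X) (u : ↥U.left),
        AlgSp.RepWith @Etale a → AlgSp.Points.ofPt a u = x →
          Brnch.numGeomBranchesAt U.left u = n) ↔ M X x = n := by
    constructor
    · intro h
      obtain ⟨c⟩ := hne
      rw [← numGeomBranchesAt_eq_M c]
      exact h c.U c.a c.pt c.ha c.hx
    · intro h U a u ha hu
      rw [← h]
      exact numGeomBranchesAt_eq_M (⟨U, a, u, ha, hu⟩ : Chart X x)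
  refine ⟨?_, ?_⟩
  · rw [hA]
    constructor
    · rintro ⟨h1, U, a, u, ha, hu, hN⟩
      apply le_antisymm
      · refine iSup_le fun c => ?_
        exact h1 c.U c.a c.pt c.ha c.hx
      · rw [← hN]
        exact Chart.N_le_M (⟨U, a, u, ha, hu⟩ : Chart X x)
    · intro h
      refine ⟨fun U a u ha hu => ?_, ?_⟩
      · rw [← h]
        exact Chart.N_le_M (⟨U, a, u, ha, hu⟩ : Chart X x)
      · obtain ⟨c, hc⟩ := exists_N_eq hne n h
        exact ⟨c.U, c.a, c.pt, c.ha, c.hx, hc⟩
  · rw [hA]
    constructor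
    · intro h p hp hpx
      haveI : IsAlgClosed p.K := hp
      subst hpx
      rw [encard_minimalPrimes_OEtStalk_eq_M hX p]
      exact h
    · intro h
      obtain ⟨c⟩ := hne
      obtain ⟨p, hp, hpx⟩ := exists_geometric_over c
      haveI : IsAlgClosed p.K := hp
      have h1 := h p hp hpx
      subst hpx
      rw [encard_minimalPrimes_OEtStalk_eq_M hX p] at h1
      exact h1

include hX in
theorem main10227_aux :
    ((∀ (U : Over S) (a : (AlgSp.yon S).obj U ⟶ X) (u : ↥U.left),
        AlgSp.RepWith @Etale a → AlgSp.Points.ofPt a u = x →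
          CAlgX.HasUniqueMinimalPrime ↥(U.left.presheaf.stalk u)) ↔
      (∀ (U : Over S) (a : (AlgSp.yon S).obj U ⟶ X) (u : ↥U.left),
        AlgSp.RepWith @Etale a → AlgSp.Points.ofPt a u = x →
          CAlg2.IsGeomUnibranch ↥(U.left.presheaf.stalk u))) ∧
    ((∀ (U : Over S) (a : (AlgSp.yon S).obj U ⟶ X) (u : ↥U.left),
        AlgSp.RepWith @Etale a → AlgSp.Points.ofPt a u = x →
          CAlgX.HasUniqueMinimalPrime ↥(U.left.presheaf.stalk u)) ↔
      ∀ p : AlgSp.FieldPt X, p.IsGeometric → AlgSp.Points.mk p = x →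
        CAlgX.HasUniqueMinimalPrime ↥(AlgSp.OEtStalk p)) := by
  have hne := nonempty_chart hX x
  have h1 : (∀ (U : Over S) (a : (AlgSp.yon S).obj U ⟶ X) (u : ↥U.left),
        AlgSp.RepWith @Etale a → AlgSp.Points.ofPt a u = x →
          CAlgX.HasUniqueMinimalPrime ↥(U.left.presheaf.stalk u)) ↔ M X x = 1 := by
    constructor
    · intro h
      apply le_antisymm
      · refine iSup_le fun c => ?_
        have := (hasUniqueMinimalPrime_iff _).1 (h c.U c.a c.pt c.ha c.hx)
        exact le_of_eq this
      · obtain ⟨c⟩ := hne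
        exact c.one_le_N.trans c.N_le_M
    · intro h U a u ha hu
      apply (hasUniqueMinimalPrime_iff _).2
      apply le_antisymm
      · rw [← h]
        exact Chart.N_le_M (⟨U, a, u, ha, hu⟩ : Chart X x)
      · exact Chart.one_le_N (⟨U, a, u, ha, hu⟩ : Chart X x)
  have h4 : (∀ (U : Over S) (a : (AlgSp.yon S).obj U ⟶ X) (u : ↥U.left),
        AlgSp.RepWith @Etale a → AlgSp.Points.ofPt a u = x →
          CAlg2.IsGeomUnibranch ↥(U.left.presheaf.stalk u)) ↔ M X x = 1 := by
    constructor
    · intro h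
      obtain ⟨c⟩ := hne
      rw [← numGeomBranchesAt_eq_M c]
      exact (Groth.Agent.S9236.result _).2 (h c.U c.a c.pt c.ha c.hx)
    · intro h U a u ha hu
      apply (Groth.Agent.S9236.result _).1
      rw [← h]
      exact numGeomBranchesAt_eq_M (⟨U, a, u, ha, hu⟩ : Chart X x)
  have h5 : (∀ p : AlgSp.FieldPt X, p.IsGeometric → AlgSp.Points.mk p = x →
        CAlgX.HasUniqueMinimalPrime ↥(AlgSp.OEtStalk p)) ↔ M X x = 1 := by
    constructor
    · intro h
      obtain ⟨c⟩ := hne
      obtain ⟨p, hp, hpx⟩ := exists_geometric_over c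
      haveI : IsAlgClosed p.K := hp
      have h6 := (hasUniqueMinimalPrime_iff _).1 (h p hp hpx)
      subst hpx
      rw [encard_minimalPrimes_OEtStalk_eq_M hX p] at h6
      exact h6
    · intro h p hp hpx
      haveI : IsAlgClosed p.K := hp
      subst hpx
      apply (hasUniqueMinimalPrime_iff _).2
      rw [encard_minimalPrimes_OEtStalk_eq_M hX p]
      exact h
  exact ⟨h1.trans h4.symm, h1.trans h5.symm⟩

end Main

end Groth.Agent.Lib.OEtBranchesH7
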