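import Mathlib
import Groth.Agent.Lib.OEtBranches1_helper7
import Groth.Agent.Lib.GermColim_helper7
import Groth.Agent.Lib.BrEtNbhd6_helper3

/-!
# Reducedness and dimension of the étale local ring of an algebraic space (helper7)

`main10225`: the étale local ring at a geometric point is reduced iff the local ring of some
(every) étale chart at a point over it is reduced; `main10224`: same for the Krull dimension.
-/

set_option autoImplicit false
set_option backward.isDefEq.respectTransparency false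
set_option backward.isDefEq.respectTransparency.types false
set_option linter.style.haveILetI false
set_option linter.unusedSectionVars false
set_option linter.unusedVariables false
set_option maxHeartbeats 1600000

universe u
open CategoryTheory CategoryTheory.Limits AlgebraicGeometry Opposite
open AlgSp Groth.Agent.Lib.AlgSpPoints_helper7 Groth.Agent.Lib.EtNbhd_helper7
  Groth.Agent.Lib.EtStalkPt_helper7 Groth.Agent.Lib.EtStalkSupp_helper7
  Groth.Agent.Lib.StrictHens_helper7 Groth.Agent.Lib.EtStalkHens_helper7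
  Groth.Agent.Lib.MinPrimeColimH7 Groth.Agent.Lib.GermColimH7 Groth.Agent.Lib.BrEtNbhdH3

namespace Groth.Agent.Lib.OEtBranchesH7

section Scheme

theorem stalkMap_quasiFinite {U W : Scheme.{u}} (g : W ⟶ U) [Etale g] (w : W) :
    letI := (g.stalkMap w).hom.toAlgebra
    Algebra.QuasiFinite (U.presheaf.stalk (g w)) (W.presheaf.stalk w) := by
  letI alg : Algebra (U.presheaf.stalk (g w)) (W.presheaf.stalk w) := (g.stalkMap w).hom.toAlgebra
  have h2 : Algebra.EssFiniteType (U.presheaf.stalk (g w)) (W.presheaf.stalk w) := by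
    rw [← RingHom.essFiniteType_algebraMap, RingHom.algebraMap_toAlgebra]
    exact LocallyOfFiniteType.stalkMap g w
  have h3 : Algebra.FormallyUnramified (U.presheaf.stalk (g w)) (W.presheaf.stalk w) := by
    rw [← RingHom.formallyUnramified_algebraMap, RingHom.algebraMap_toAlgebra]
    exact FormallyUnramified.stalkMap g w
  infer_instance

/-- the stalk map of an étale morphism, with all the properties used here -/
theorem exists_stalkMap' {U W : Scheme.{u}} (g : W ⟶ U) [Etale g] (w : W) (u : U) (h : g w = u) :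
    ∃ τ : U.presheaf.stalk u →+* W.presheaf.stalk w, τ.Flat ∧ (∀ a, IsUnit (τ a) → IsUnit a) ∧
      (∀ f : Γ(U, ⊤), τ (U.presheaf.germ ⊤ u trivial f) =
        W.presheaf.germ ⊤ w trivial (g.appTop.hom f)) ∧
      (IsReduced ↥(U.presheaf.stalk u) → IsReduced ↥(W.presheaf.stalk w)) ∧
      ringKrullDim ↥(W.presheaf.stalk w) = ringKrullDim ↥(U.presheaf.stalk u) := by
  subst h
  have hloc : ∀ a, IsUnit ((g.stalkMap w).hom a) → IsUnit a :=
    fun a ha => (isUnit_map_iff (g.stalkMap w).hom a).1 ha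
  refine ⟨(g.stalkMap w).hom, Flat.stalkMap g w, hloc,
    fun f => Scheme.Hom.germ_stalkMap_apply g ⊤ w trivial f, ?_, ?_⟩
  · intro hred
    letI alg : Algebra (U.presheaf.stalk (g w)) (W.presheaf.stalk w) :=
      (g.stalkMap w).hom.toAlgebra
    exact isReduced_of_essEtale (U.presheaf.stalk (g w)) (W.presheaf.stalk w)
      (isEssentiallyEtale_stalkMap g w)
  · letI alg : Algebra (U.presheaf.stalk (g w)) (W.presheaf.stalk w) :=
      (g.stalkMap w).hom.toAlgebra
    haveI hq : Algebra.QuasiFinite (U.presheaf.stalk (g w)) (W.presheaf.stalk w) :=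
      stalkMap_quasiFinite g w
    haveI hff : Module.FaithfullyFlat (U.presheaf.stalk (g w)) (W.presheaf.stalk w) :=
      faithfullyFlat_of_flat_local (g.stalkMap w).hom (Flat.stalkMap g w) ⟨hloc⟩
    exact le_antisymm (ringKrullDim_le_of_quasiFinite _ _) (ringKrullDim_le_of_faithfullyFlat _ _)

end Scheme

attribute [local instance] algTop

variable {S : Scheme.{u}} {X : Sp S}
variable (hX : IsAlgSpace X) (p : FieldPt X) [IsSepClosed p.K]

/-- the transition data attached to a morphism of affine étale neighbourhoods -/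
theorem transData {i j : AffNbhd p} (m : j.1 ⟶ i.1) :
    ∃ τ : i.U.presheaf.stalk i.pt →+* j.U.presheaf.stalk j.pt,
      TransData (R := ↥(OEtStalk p)) (fun i : AffNbhd p => ↥Γ(i.U, ⊤))
        (fun i : AffNbhd p => ↥(i.U.presheaf.stalk i.pt))
        (fun i : AffNbhd p => germ hX p i.1.1 i.1.2) i j m.1.hom.left.left.appTop.hom τ := by
  haveI : Etale m.1.hom.left.left := EtOver.etale_left m.1
  obtain ⟨τ, h1, h2, h3, h4, h5⟩ := exists_stalkMap' m.1.hom.left.left j.pt i.pt (map_pt m)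
  refine ⟨τ, ⟨?_, h1, h2, h3, h4, le_of_eq h5⟩⟩
  ext f
  exact germ_elem hX p m f

theorem hyp_unit (i : AffNbhd p) (f : Γ(i.U, ⊤)) (hf : f ∉ primeAt i.U i.pt) :
    IsUnit (germ hX p i.1.1 i.1.2 f) := by
  apply isUnit_of_stalkEv_ne_zero hX p
  rw [stalkEv_germ]
  intro h0
  exact hf ((mem_primeAt_iff_ev i.ξ f).2 h0)

theorem hyp_non (i : AffNbhd p) (f : Γ(i.U, ⊤)) (hf : f ∈ primeAt i.U i.pt) :
    ¬ IsUnit (germ hX p i.1.1 i.1.2 f) := by
  apply not_isUnit_of_stalkEv_eq_zero hX p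
  rw [stalkEv_germ]
  exact (mem_primeAt_iff_ev i.ξ f).1 hf

theorem hyp1 (i : AffNbhd p) (s : Finset ↥(OEtStalk p)) :
    ∃ (j : AffNbhd p) (t : Γ(i.U, ⊤) →+* Γ(j.U, ⊤))
      (τ : i.U.presheaf.stalk i.pt →+* j.U.presheaf.stalk j.pt),
      TransData (R := ↥(OEtStalk p)) (fun i : AffNbhd p => ↥Γ(i.U, ⊤))
        (fun i : AffNbhd p => ↥(i.U.presheaf.stalk i.pt))
        (fun i : AffNbhd p => germ hX p i.1.1 i.1.2) i j t τ ∧
      (s : Set ↥(OEtStalk p)) ⊆ Set.range (germ hX p j.1.1 j.1.2) := by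
  haveI hcof := isCofiltered_etNbhd hX p
  obtain ⟨i', hi'⟩ := exists_common hX p s
  obtain ⟨j, ⟨mj⟩⟩ := exists_affine_refinement (IsCofiltered.min i.1 i')
  obtain ⟨τ, hd⟩ := transData hX p (i := i) (j := j) (mj ≫ IsCofiltered.minToLeft i.1 i')
  refine ⟨j, _, τ, hd, ?_⟩
  intro r hr
  obtain ⟨f, rfl⟩ := hi' hr
  exact ⟨(mj ≫ IsCofiltered.minToRight i.1 i').1.hom.left.left.appTop.hom f,
    germ_elem hX p (mj ≫ IsCofiltered.minToRight i.1 i') f⟩

theorem hyp3 (i : AffNbhd p) (f : Γ(i.U, ⊤)) (hf : germ hX p i.1.1 i.1.2 f = 0) :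
    ∃ (j : AffNbhd p) (t : Γ(i.U, ⊤) →+* Γ(j.U, ⊤))
      (τ : i.U.presheaf.stalk i.pt →+* j.U.presheaf.stalk j.pt),
      TransData (R := ↥(OEtStalk p)) (fun i : AffNbhd p => ↥Γ(i.U, ⊤))
        (fun i : AffNbhd p => ↥(i.U.presheaf.stalk i.pt))
        (fun i : AffNbhd p => germ hX p i.1.1 i.1.2) i j t τ ∧ t f = 0 := by
  obtain ⟨k, mk, hk⟩ := germ_eq_zero hX p i.1.1 i.1.2 f hf
  obtain ⟨j, ⟨mj⟩⟩ := exists_affine_refinement k
  obtain ⟨τ, hd⟩ := transData hX p (i := i) (j := j) (mj ≫ mk)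
  refine ⟨j, _, τ, hd, ?_⟩
  show (mj ≫ mk).1.hom.left.left.appTop.hom f = 0
  have hcomp : (mj ≫ mk).1.hom.left.left = mj.1.hom.left.left ≫ mk.1.hom.left.left := rfl
  rw [hcomp, Scheme.Hom.comp_appTop]
  show mj.1.hom.left.left.appTop.hom (mk.1.hom.left.left.appTop.hom f) = 0
  rw [hk, map_zero]

include hX in
theorem isReduced_stalk_iff (i : AffNbhd p) :
    IsReduced ↥(i.U.presheaf.stalk i.pt) ↔ IsReduced ↥(OEtStalk p) := by
  haveI hloc : IsLocalRing ↥(OEtStalk p) := (isStrictlyHenselian_OEtStalk hX p).1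
  constructor
  · intro h
    exact isReduced_of_exists (R := ↥(OEtStalk p)) (fun i : AffNbhd p => ↥Γ(i.U, ⊤))
      (fun i : AffNbhd p => primeAt i.U i.pt) (fun i : AffNbhd p => ↥(i.U.presheaf.stalk i.pt))
      (fun i : AffNbhd p => germ hX p i.1.1 i.1.2) (hyp_unit hX p) (hyp_non hX p) (hyp1 hX p)
      (hyp3 hX p) i h
  · intro h
    exact isReduced_of_isReduced (R := ↥(OEtStalk p)) (fun i : AffNbhd p => ↥Γ(i.U, ⊤))
      (fun i : AffNbhd p => primeAt i.U i.pt) (fun i : AffNbhd p => ↥(i.U.presheaf.stalk i.pt))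
      (fun i : AffNbhd p => germ hX p i.1.1 i.1.2) (hyp_unit hX p) (hyp_non hX p) (hyp1 hX p)
      (hyp3 hX p) i

include hX in
theorem ringKrullDim_OEtStalk (i : AffNbhd p) :
    ringKrullDim ↥(OEtStalk p) = ringKrullDim ↥(i.U.presheaf.stalk i.pt) := by
  haveI hloc : IsLocalRing ↥(OEtStalk p) := (isStrictlyHenselian_OEtStalk hX p).1
  exact ringKrullDim_eq (R := ↥(OEtStalk p)) (fun i : AffNbhd p => ↥Γ(i.U, ⊤))
    (fun i : AffNbhd p => primeAt i.U i.pt) (fun i : AffNbhd p => ↥(i.U.presheaf.stalk i.pt))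
    (fun i : AffNbhd p => germ hX p i.1.1 i.1.2) (hyp_unit hX p) (hyp_non hX p) (hyp1 hX p)
    (hyp3 hX p) i

/-- an affine étale neighbourhood refining a chart through a point over `p`, with the induced
map on local rings -/
theorem exists_affNbhd_over_chart (U : Over S) (a : (yon S).obj U ⟶ X) (u : ↥U.left)
    (ha : RepWith @Etale a) (hu : Points.ofPt a u = Points.mk p) :
    ∃ (j : AffNbhd p) (g : j.U ⟶ U.left), Etale g ∧ g j.pt = u := by
  obtain ⟨l, hl⟩ := exists_lift_of_ofPt_eq p (EtOver.mk a ha) u hu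
  obtain ⟨j, ⟨m⟩⟩ := exists_affine_refinement (⟨EtOver.mk a ha, l⟩ : EtNbhd p)
  exact ⟨j, m.1.hom.left.left, EtOver.etale_left m.1, (map_pt m).trans hl⟩

include hX in
theorem nonempty_affNbhd : Nonempty (AffNbhd p) := by
  obtain ⟨k⟩ := nonempty_etNbhd hX p
  obtain ⟨j, -⟩ := exists_affine_refinement k
  exact ⟨j⟩

include hX in
theorem main10225_aux :
    AlgSp.HasAt (fun U u => _root_.IsReduced ↥(U.presheaf.stalk u)) X (AlgSp.Points.mk p) ↔
      _root_.IsReduced ↥(AlgSp.OEtStalk p) := by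
  constructor
  · rintro ⟨U, a, u, ha, hu, hred⟩
    obtain ⟨j, g, hg, hgu⟩ := exists_affNbhd_over_chart p U a u ha hu
    haveI := hg
    obtain ⟨τ, -, -, -, h4, -⟩ := exists_stalkMap' g j.pt u hgu
    exact (isReduced_stalk_iff hX p j).1 (h4 hred)
  · intro h
    obtain ⟨j⟩ := nonempty_affNbhd hX p
    exact ⟨j.1.1.obj.left, j.1.1.obj.hom, j.pt, j.1.1.property, ofPt_lift p j.1.1 j.1.2,
      (isReduced_stalk_iff hX p j).2 h⟩

include hX in
theorem main10224_aux (d : ℕ∞) :
    AlgSp.HasAt (fun U u => ringKrullDim ↥(U.presheaf.stalk u) = (d : WithBot ℕ∞)) X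
        (AlgSp.Points.mk p) ↔
      ringKrullDim ↥(AlgSp.OEtStalk p) = (d : WithBot ℕ∞) := by
  constructor
  · rintro ⟨U, a, u, ha, hu, hdim⟩
    obtain ⟨j, g, hg, hgu⟩ := exists_affNbhd_over_chart p U a u ha hu
    haveI := hg
    obtain ⟨τ, -, -, -, -, h5⟩ := exists_stalkMap' g j.pt u hgu
    rw [ringKrullDim_OEtStalk hX p j, h5]
    exact hdim
  · intro h
    obtain ⟨j⟩ := nonempty_affNbhd hX p
    refine ⟨j.1.1.obj.left, j.1.1.obj.hom, j.pt, j.1.1.property, ofPt_lift p j.1.1 j.1.2, ?_⟩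
    show ringKrullDim ↥(j.U.presheaf.stalk j.pt) = (d : WithBot ℕ∞)
    rw [← ringKrullDim_OEtStalk hX p j]
    exact h

end Groth.Agent.Lib.OEtBranchesH7
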