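import Mathlib
import Groth.Agent.Lib.OEtBranches2_helper7
import Groth.Agent.Lib.OEtBranches3_helper7
import Groth.Agent.Lib.GermColim2_helper7
import Groth.Agent.Lib.AlgSpNoethDesc_helper7
import Groth.Agent.Lib.AlgSpNoeth_helper6

/-!
# Noetherianity and regularity of the étale local ring of an algebraic space (helper7)

`main10226_aux`, `main10232_aux`, `main10231_aux`.
-/

set_option autoImplicit false
set_option backward.isDefEq.respectTransparency false
set_option backward.isDefEq.respectTransparency.types false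
set_option linter.style.haveILetI false
set_option linter.unusedSectionVars false
set_option linter.unusedVariables false
set_option maxHeartbeats 1600000

universe u
open CategoryTheory CategoryTheory.Limits AlgebraicGeometry Opposite
open AlgSp Groth.Agent.Lib.AlgSpPoints_helper7 Groth.Agent.Lib.EtNbhd_helper7
  Groth.Agent.Lib.EtStalkPt_helper7 Groth.Agent.Lib.EtStalkSupp_helper7
  Groth.Agent.Lib.StrictHens_helper7 Groth.Agent.Lib.EtStalkHens_helper7
  Groth.Agent.Lib.MinPrimeColimH7 Groth.Agent.Lib.GermColimH7 Groth.Agent.Lib.BrEtNbhdH3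

namespace Groth.Agent.Lib.OEtBranchesH7

section Scheme

/-- the stalk map of an étale morphism: unramifiedness, Noetherianity, regularity -/
theorem exists_stalkMap2 {U W : Scheme.{u}} (g : W ⟶ U) [Etale g] (w : W) (u : U) (h : g w = u) :
    ∃ τ : U.presheaf.stalk u →+* W.presheaf.stalk w, τ.Flat ∧ (∀ a, IsUnit (τ a) → IsUnit a) ∧
      (∀ f : Γ(U, ⊤), τ (U.presheaf.germ ⊤ u trivial f) =
        W.presheaf.germ ⊤ w trivial (g.appTop.hom f)) ∧
      (IsReduced ↥(U.presheaf.stalk u) → IsReduced ↥(W.presheaf.stalk w)) ∧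
      ringKrullDim ↥(W.presheaf.stalk w) = ringKrullDim ↥(U.presheaf.stalk u) ∧
      Ideal.map τ (IsLocalRing.maximalIdeal ↥(U.presheaf.stalk u)) =
        IsLocalRing.maximalIdeal ↥(W.presheaf.stalk w) ∧
      (IsNoetherianRing ↥(U.presheaf.stalk u) → IsNoetherianRing ↥(W.presheaf.stalk w)) ∧
      (IsNoetherianRing ↥(U.presheaf.stalk u) →
        (IsRegularLocalRing ↥(W.presheaf.stalk w) ↔ IsRegularLocalRing ↥(U.presheaf.stalk u))) := by
  obtain ⟨τ₀, -, -, -, h4, h5⟩ := exists_stalkMap' g w u h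
  subst h
  have hloc : ∀ a, IsUnit ((g.stalkMap w).hom a) → IsUnit a :=
    fun a ha => (isUnit_map_iff (g.stalkMap w).hom a).1 ha
  obtain ⟨p1, p2, p3⟩ := Groth.Agent.EtStalk.stalkMap_props g w
  letI alg : Algebra (U.presheaf.stalk (g w)) (W.presheaf.stalk w) := (g.stalkMap w).hom.toAlgebra
  have hN : IsNoetherianRing ↥(U.presheaf.stalk (g w)) → IsNoetherianRing ↥(W.presheaf.stalk w) := by
    intro hN
    have h2 : Algebra.EssFiniteType (U.presheaf.stalk (g w)) (W.presheaf.stalk w) := by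
      rw [← RingHom.essFiniteType_algebraMap, RingHom.algebraMap_toAlgebra]
      exact LocallyOfFiniteType.stalkMap g w
    exact Algebra.EssFiniteType.isNoetherianRing (U.presheaf.stalk (g w)) (W.presheaf.stalk w)
  refine ⟨(g.stalkMap w).hom, Flat.stalkMap g w, hloc,
    fun f => Scheme.Hom.germ_stalkMap_apply g ⊤ w trivial f, h4, h5, p3, hN, ?_⟩
  intro hNU
  haveI := hNU
  haveI := hN hNU
  haveI := p1
  haveI := p2
  exact Groth.Agent.EtStalk.isRegularLocalRing_iff_of_flat p3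

end Scheme

attribute [local instance] algTop

variable {S : Scheme.{u}} {X : Sp S}

section Germs

variable (hX : IsAlgSpace X) (p : FieldPt X) [IsSepClosed p.K]

/-- the transition data attached to a morphism of affine étale neighbourhoods -/
theorem transData2 {i j : AffNbhd p} (m : j.1 ⟶ i.1) :
    ∃ τ : i.U.presheaf.stalk i.pt →+* j.U.presheaf.stalk j.pt,
      TransData2 (R := ↥(OEtStalk p)) (fun i : AffNbhd p => ↥Γ(i.U, ⊤))
        (fun i : AffNbhd p => primeAt i.U i.pt)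
        (fun i : AffNbhd p => ↥(i.U.presheaf.stalk i.pt))
        (fun i : AffNbhd p => germ hX p i.1.1 i.1.2) i j m.1.hom.left.left.appTop.hom τ := by
  haveI : Etale m.1.hom.left.left := EtOver.etale_left m.1
  obtain ⟨τ, h1, h2, h3, h4, h5, h6, h7, -⟩ :=
    exists_stalkMap2 m.1.hom.left.left j.pt i.pt (map_pt m)
  refine ⟨τ, ⟨⟨?_, h1, h2, h3, h4, le_of_eq h5⟩, ?_, h7⟩⟩
  · ext f
    exact germ_elem hX p m f
  · intro b hb
    have hmax : Ideal.map (algebraMap Γ(i.U, ⊤) ↥(i.U.presheaf.stalk i.pt)) (primeAt i.U i.pt) =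
        IsLocalRing.maximalIdeal ↥(i.U.presheaf.stalk i.pt) :=
      IsLocalization.AtPrime.map_eq_maximalIdeal (primeAt i.U i.pt) _
    show b ∈ Ideal.map τ (Ideal.map (algebraMap Γ(i.U, ⊤) ↥(i.U.presheaf.stalk i.pt))
      (primeAt i.U i.pt))
    rw [hmax, h6]
    exact (IsLocalRing.mem_maximalIdeal b).2 (mem_nonunits_iff.2 hb)

theorem hyp1' (i : AffNbhd p) (s : Finset ↥(OEtStalk p)) :
    ∃ (j : AffNbhd p) (t : Γ(i.U, ⊤) →+* Γ(j.U, ⊤))
      (τ : i.U.presheaf.stalk i.pt →+* j.U.presheaf.stalk j.pt),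
      TransData2 (R := ↥(OEtStalk p)) (fun i : AffNbhd p => ↥Γ(i.U, ⊤))
        (fun i : AffNbhd p => primeAt i.U i.pt)
        (fun i : AffNbhd p => ↥(i.U.presheaf.stalk i.pt))
        (fun i : AffNbhd p => germ hX p i.1.1 i.1.2) i j t τ ∧
      (s : Set ↥(OEtStalk p)) ⊆ Set.range (germ hX p j.1.1 j.1.2) := by
  haveI hcof := isCofiltered_etNbhd hX p
  obtain ⟨i', hi'⟩ := exists_common hX p s
  obtain ⟨j, ⟨mj⟩⟩ := exists_affine_refinement (IsCofiltered.min i.1 i')
  obtain ⟨τ, hd⟩ := transData2 hX p (i := i) (j := j) (mj ≫ IsCofiltered.minToLeft i.1 i')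
  refine ⟨j, _, τ, hd, ?_⟩
  intro r hr
  obtain ⟨f, rfl⟩ := hi' hr
  exact ⟨(mj ≫ IsCofiltered.minToRight i.1 i').1.hom.left.left.appTop.hom f,
    germ_elem hX p (mj ≫ IsCofiltered.minToRight i.1 i') f⟩

include hX in
theorem isNoetherianRing_OEtStalk (i : AffNbhd p)
    (hN : IsNoetherianRing ↥(i.U.presheaf.stalk i.pt)) : IsNoetherianRing ↥(OEtStalk p) := by
  haveI hloc : IsLocalRing ↥(OEtStalk p) := (isStrictlyHenselian_OEtStalk hX p).1
  exact isNoetherianRing_of_germs (R := ↥(OEtStalk p)) (fun i : AffNbhd p => ↥Γ(i.U, ⊤))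
    (fun i : AffNbhd p => primeAt i.U i.pt) (fun i : AffNbhd p => ↥(i.U.presheaf.stalk i.pt))
    (fun i : AffNbhd p => germ hX p i.1.1 i.1.2) (hyp_unit hX p) (hyp_non hX p) (hyp1' hX p)
    (hyp3 hX p) i hN

include hX in
theorem isNoetherianRing_stalk_of_OEtStalk (hN : IsNoetherianRing ↥(OEtStalk p)) (i : AffNbhd p) :
    IsNoetherianRing ↥(i.U.presheaf.stalk i.pt) := by
  haveI hloc : IsLocalRing ↥(OEtStalk p) := (isStrictlyHenselian_OEtStalk hX p).1
  exact isNoetherianRing_member (R := ↥(OEtStalk p)) (fun i : AffNbhd p => ↥Γ(i.U, ⊤))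
    (fun i : AffNbhd p => primeAt i.U i.pt) (fun i : AffNbhd p => ↥(i.U.presheaf.stalk i.pt))
    (fun i : AffNbhd p => germ hX p i.1.1 i.1.2) (hyp_unit hX p) (hyp_non hX p) (hyp1' hX p)
    (hyp3 hX p) i

include hX in
theorem isRegularLocalRing_OEtStalk_iff (i : AffNbhd p)
    (hN : IsNoetherianRing ↥(i.U.presheaf.stalk i.pt)) :
    IsRegularLocalRing ↥(OEtStalk p) ↔ IsRegularLocalRing ↥(i.U.presheaf.stalk i.pt) := by
  haveI hloc : IsLocalRing ↥(OEtStalk p) := (isStrictlyHenselian_OEtStalk hX p).1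
  exact isRegularLocalRing_iff (R := ↥(OEtStalk p)) (fun i : AffNbhd p => ↥Γ(i.U, ⊤))
    (fun i : AffNbhd p => primeAt i.U i.pt) (fun i : AffNbhd p => ↥(i.U.presheaf.stalk i.pt))
    (fun i : AffNbhd p => germ hX p i.1.1 i.1.2) (hyp_unit hX p) (hyp_non hX p) (hyp1' hX p)
    (hyp3 hX p) i hN

include hX in
/-- regular at a chart implies regular étale local ring -/
theorem isRegularLocalRing_OEtStalk_of_chart (U : Over S) (a : (yon S).obj U ⟶ X) (u : ↥U.left)
    (ha : RepWith @Etale a) (hu : Points.ofPt a u = Points.mk p)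
    (hreg : IsRegularLocalRing ↥(U.left.presheaf.stalk u)) :
    IsRegularLocalRing ↥(OEtStalk p) := by
  obtain ⟨j, g, hg, hgu⟩ := exists_affNbhd_over_chart p U a u ha hu
  haveI := hg
  obtain ⟨τ, -, -, -, -, -, -, h7, h8⟩ := exists_stalkMap2 g j.pt u hgu
  have hNu : IsNoetherianRing ↥(U.left.presheaf.stalk u) := inferInstance
  exact (isRegularLocalRing_OEtStalk_iff hX p j (h7 hNu)).2 ((h8 hNu).2 hreg)

include hX in
/-- regular étale local ring implies regular at every affine étale neighbourhood -/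
theorem isRegularLocalRing_stalk_of_OEtStalk (hreg : IsRegularLocalRing ↥(OEtStalk p))
    (j : AffNbhd p) : IsRegularLocalRing ↥(j.U.presheaf.stalk j.pt) := by
  have hNR : IsNoetherianRing ↥(OEtStalk p) := inferInstance
  have hNj := isNoetherianRing_stalk_of_OEtStalk hX p hNR j
  exact (isRegularLocalRing_OEtStalk_iff hX p j hNj).1 hreg

end Germs

/-- étale charts of a locally Noetherian algebraic space are locally Noetherian -/
theorem isLocallyNoetherian_chart' (hN : IsLocNoethSp X) {U : Over S}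
    (a : (yon S).obj U ⟶ X) (ha : RepWith @Etale a) : IsLocallyNoetherian U.left := by
  obtain ⟨U1, g, hU1, hg, hsurj⟩ := Groth.Agent.Lib.AlgSpNoeth_helper6.exists_locNoeth_cover hN a ha
  haveI := hU1
  haveI := hg
  haveI : Surjective g := ⟨hsurj⟩
  exact Groth.Agent.Lib.AlgSpNoethDesc_helper7.isLocallyNoetherian_of_flat_of_surjective g
    g.isOpenMap

section Main

variable (hX : IsAlgSpace X)

include hX in
theorem main10226_aux (hN : IsLocNoethSp X) (p : FieldPt X) (hp : p.IsGeometric) :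
    IsNoetherianRing ↥(AlgSp.OEtStalk p) ∧ IsLocalRing ↥(AlgSp.OEtStalk p) := by
  haveI : IsAlgClosed p.K := hp
  refine ⟨?_, (isStrictlyHenselian_OEtStalk hX p).1⟩
  obtain ⟨j⟩ := nonempty_affNbhd hX p
  haveI : IsLocallyNoetherian j.1.1.obj.left.left :=
    isLocallyNoetherian_chart' hN j.1.1.obj.hom j.1.1.property
  exact isNoetherianRing_OEtStalk hX p j inferInstance

include hX in
theorem main10232_aux (x : Points X) :
    (AlgSp.HasAt (fun U u => IsRegularLocalRing ↥(U.presheaf.stalk u)) X x ↔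
      ∀ p : AlgSp.FieldPt X, p.IsGeometric → AlgSp.Points.mk p = x →
        IsRegularLocalRing ↥(AlgSp.OEtStalk p)) ∧
    (AlgSp.HasAt (fun U u => IsRegularLocalRing ↥(U.presheaf.stalk u)) X x ↔
      ∃ p : AlgSp.FieldPt X, p.IsGeometric ∧ AlgSp.Points.mk p = x ∧
        IsRegularLocalRing ↥(AlgSp.OEtStalk p)) := by
  have hA : AlgSp.HasAt (fun U u => IsRegularLocalRing ↥(U.presheaf.stalk u)) X x →
      ∀ p : AlgSp.FieldPt X, p.IsGeometric → AlgSp.Points.mk p = x →
        IsRegularLocalRing ↥(AlgSp.OEtStalk p) := by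
    rintro ⟨U, a, u, ha, hu, hreg⟩ p hp hpx
    haveI : IsAlgClosed p.K := hp
    subst hpx
    exact isRegularLocalRing_OEtStalk_of_chart hX p U a u ha hu hreg
  have hB : (∀ p : AlgSp.FieldPt X, p.IsGeometric → AlgSp.Points.mk p = x →
        IsRegularLocalRing ↥(AlgSp.OEtStalk p)) →
      ∃ p : AlgSp.FieldPt X, p.IsGeometric ∧ AlgSp.Points.mk p = x ∧
        IsRegularLocalRing ↥(AlgSp.OEtStalk p) := by
    intro h
    obtain ⟨c⟩ := nonempty_chart hX x
    obtain ⟨p, hp, hpx⟩ := exists_geometric_over c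
    exact ⟨p, hp, hpx, h p hp hpx⟩
  have hC : (∃ p : AlgSp.FieldPt X, p.IsGeometric ∧ AlgSp.Points.mk p = x ∧
        IsRegularLocalRing ↥(AlgSp.OEtStalk p)) →
      AlgSp.HasAt (fun U u => IsRegularLocalRing ↥(U.presheaf.stalk u)) X x := by
    rintro ⟨p, hp, hpx, hreg⟩
    haveI : IsAlgClosed p.K := hp
    subst hpx
    obtain ⟨j⟩ := nonempty_affNbhd hX p
    exact ⟨j.1.1.obj.left, j.1.1.obj.hom, j.pt, j.1.1.property, ofPt_lift p j.1.1 j.1.2,
      isRegularLocalRing_stalk_of_OEtStalk hX p hreg j⟩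
  exact ⟨⟨hA, fun h => hC (hB h)⟩, ⟨fun h => hB (hA h), hC⟩⟩

include hX in
theorem main10231_aux (hN : IsLocNoethSp X) :
    AlgSp.EtaleLocally (fun U => IsLocallyNoetherian U ∧
        ∀ u : ↥U, IsRegularLocalRing ↥(U.presheaf.stalk u)) X ↔
      ∀ p : AlgSp.FieldPt X, p.IsGeometric → IsRegularLocalRing ↥(AlgSp.OEtStalk p) := by
  constructor
  · rintro ⟨U₀, a₀, hae, has, hN₀, hreg⟩ p hp
    haveI : IsAlgClosed p.K := hp
    obtain ⟨u₀, hu₀⟩ := ofPt_surjective a₀ has (Points.mk p)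
    exact isRegularLocalRing_OEtStalk_of_chart hX p U₀ a₀ u₀ hae hu₀ (hreg u₀)
  · intro h
    obtain ⟨U₀, a₀, hae, has, hN₀⟩ := hN
    refine ⟨U₀, a₀, hae, has, hN₀, fun u => ?_⟩
    haveI : IsLocallyNoetherian U₀.left := hN₀
    obtain ⟨p, hp, l, hl⟩ := exists_geometric_lift (EtOver.mk a₀ hae) u
    haveI : IsAlgClosed p.K := hp
    obtain ⟨j, ⟨m⟩⟩ := exists_affine_refinement (⟨EtOver.mk a₀ hae, l⟩ : EtNbhd p)
    haveI : Etale m.1.hom.left.left := EtOver.etale_left m.1
    have hgu : m.1.hom.left.left j.pt = u := (map_pt m).trans hl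
    obtain ⟨τ, -, -, -, -, -, -, -, h8⟩ := exists_stalkMap2 m.1.hom.left.left j.pt u hgu
    have hNu : IsNoetherianRing ↥(U₀.left.presheaf.stalk u) := inferInstance
    exact (h8 hNu).1 (isRegularLocalRing_stalk_of_OEtStalk hX p (h p hp) j)

end Main

end Groth.Agent.Lib.OEtBranchesH7
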