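import Mathlib

/-!
# Hopf algebras whose augmentation ideal is free of rank one (group schemes of order 2)
-/

namespace Groth.Agent.Lib.OT2H4

open TensorProduct

universe u v

/-- `x` is a free generator of the augmentation ideal of the bialgebra `A`. -/
structure Gen (R : Type u) [CommRing R] (A : Type v) [CommRing A] [Bialgebra R A] (x : A) : Prop where
  hx : Bialgebra.counitAlgHom R A x = 0
  hgen : ∀ f : A, Bialgebra.counitAlgHom R A f = 0 → ∃ r : R, f = r • x
  hfree : ∀ r : R, r • x = 0 → r = 0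

section
variable {R : Type u} [CommRing R] {A : Type v} [CommRing A] [Bialgebra R A] {x : A}

theorem Gen.counit_x (h : Gen R A x) : Coalgebra.counit (R := R) x = 0 := h.hx

theorem Gen.exists_coord (h : Gen R A x) (f : A) :
    ∃ r : R, f = (Coalgebra.counit (R := R) f) • (1 : A) + r • x := by
  have h0 : Bialgebra.counitAlgHom R A (f - (Coalgebra.counit (R := R) f) • (1 : A)) = 0 := by
    rw [map_sub, map_smul, map_one]
    simp
  obtain ⟨r, hr⟩ := h.hgen _ h0
  exact ⟨r, by rw [← hr]; abel⟩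

theorem Gen.exists_decomp (h : Gen R A x) (f : A) :
    ∃ c r : R, f = c • (1 : A) + r • x := by
  obtain ⟨r, hr⟩ := h.exists_coord f
  exact ⟨_, r, hr⟩

theorem Gen.coord_unique (h : Gen R A x) {c c' r r' : R}
    (e : c • (1 : A) + r • x = c' • (1 : A) + r' • x) : c = c' ∧ r = r' := by
  have h1 := congrArg (Bialgebra.counitAlgHom R A) e
  simp only [map_add, map_smul, map_one, h.hx, smul_eq_mul, mul_one, mul_zero, add_zero] at h1
  subst h1
  refine ⟨rfl, ?_⟩
  have h2 : (r - r') • x = 0 := by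
    rw [sub_smul]; exact sub_eq_zero.mpr (add_left_cancel e)
  exact sub_eq_zero.mp (h.hfree _ h2)

theorem Gen.ext_lin {M : Type*} [AddCommMonoid M] [Module R M] (h : Gen R A x)
    {f g : A →ₗ[R] M} (h1 : f 1 = g 1) (hx : f x = g x) : f = g := by
  ext y
  obtain ⟨c, r, rfl⟩ := h.exists_decomp y
  simp only [map_add, map_smul, h1, hx]

/-- the coordinate functional: coefficient of `x`. -/
theorem Gen.exists_lam (h : Gen R A x) : ∃ lam : A →ₗ[R] R, lam 1 = 0 ∧ lam x = 1 := by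
  let T : (R × R) →ₗ[R] A :=
    (LinearMap.toSpanSingleton R A 1).coprod (LinearMap.toSpanSingleton R A x)
  have hT : ∀ c r : R, T (c, r) = c • (1 : A) + r • x := by
    intro c r
    simp [T, LinearMap.coprod_apply, LinearMap.toSpanSingleton_apply]
  have hbij : Function.Bijective T := by
    constructor
    · rintro ⟨c, r⟩ ⟨c', r'⟩ e
      rw [hT, hT] at e
      obtain ⟨h1, h2⟩ := h.coord_unique e
      rw [h1, h2]
    · intro f
      obtain ⟨c, r, hr⟩ := h.exists_decomp f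
      exact ⟨(c, r), by rw [hT]; exact hr.symm⟩
  let E : (R × R) ≃ₗ[R] A := LinearEquiv.ofBijective T hbij
  have hE : ∀ c r : R, E (c, r) = c • (1 : A) + r • x := hT
  refine ⟨(LinearMap.snd R R R) ∘ₗ E.symm.toLinearMap, ?_, ?_⟩
  · have : E.symm 1 = (1, 0) := by
      rw [LinearEquiv.symm_apply_eq, hE]; simp
    simp [this]
  · have : E.symm x = (0, 1) := by
      rw [LinearEquiv.symm_apply_eq, hE]; simp
    simp [this]

/-- the functional `lam ⊗ lam` on `A ⊗ A`. -/
noncomputable def Phi (lam : A →ₗ[R] R) : A ⊗[R] A →ₗ[R] R :=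
  LinearMap.mul' R R ∘ₗ TensorProduct.map lam lam

@[simp] theorem Phi_tmul (lam : A →ₗ[R] R) (f g : A) : Phi lam (f ⊗ₜ[R] g) = lam f * lam g := by
  simp [Phi]

theorem Gen.tmul_free (h : Gen R A x) (r : R) (hr : r • (x ⊗ₜ[R] x) = 0) : r = 0 := by
  obtain ⟨lam, h1, hx⟩ := h.exists_lam
  have := congrArg (Phi lam) hr
  simpa [hx] using this

/-- multiplicativity of a linear map can be checked on `x * x`. -/
theorem Gen.mul_hom (h : Gen R A x) {B : Type*} [CommRing B] [Algebra R B] (φ : A →ₗ[R] B)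
    (h1 : φ 1 = 1) (hxx : φ (x * x) = φ x * φ x) : ∀ f g, φ (f * g) = φ f * φ g := by
  intro f g
  have key : ∀ g, φ (x * g) = φ x * φ g := by
    intro g
    have := h.ext_lin (f := φ ∘ₗ LinearMap.mulLeft R x) (g := LinearMap.mulLeft R (φ x) ∘ₗ φ)
      (by simp [h1]) (by simpa using hxx)
    exact LinearMap.congr_fun this g
  have := h.ext_lin (f := φ ∘ₗ LinearMap.mulRight R g) (g := LinearMap.mulRight R (φ g) ∘ₗ φ)
    (by simp [h1]) (by simpa using key g)
  exact LinearMap.congr_fun this f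

/-- existence of a decomposition of elements of `A ⊗ A`. -/
theorem Gen.exists_decomp2 (h : Gen R A x) (z : A ⊗[R] A) :
    ∃ c00 c10 c01 c11 : R, z = c00 • ((1 : A) ⊗ₜ[R] (1 : A)) + c10 • (x ⊗ₜ[R] (1 : A))
      + c01 • ((1 : A) ⊗ₜ[R] x) + c11 • (x ⊗ₜ[R] x) := by
  induction z using TensorProduct.induction_on with
  | zero => exact ⟨0, 0, 0, 0, by simp⟩
  | tmul f g =>
    obtain ⟨c, r, rfl⟩ := h.exists_decomp f
    obtain ⟨c', r', rfl⟩ := h.exists_decomp g
    refine ⟨c * c', r * c', c * r', r * r', ?_⟩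
    simp only [TensorProduct.add_tmul, TensorProduct.tmul_add, TensorProduct.smul_tmul_smul]
    abel
  | add z w hz hw =>
    obtain ⟨a1, a2, a3, a4, rfl⟩ := hz
    obtain ⟨b1, b2, b3, b4, rfl⟩ := hw
    refine ⟨a1 + b1, a2 + b2, a3 + b3, a4 + b4, ?_⟩
    simp only [add_smul]
    abel

/-- `(ε ⊗ id)` followed by `R ⊗ A ≃ A`. -/
noncomputable def E1 (R : Type u) [CommRing R] (A : Type v) [CommRing A] [Bialgebra R A] :
    A ⊗[R] A →ₗ[R] A :=
  (TensorProduct.lid R A).toLinearMap ∘ₗ (Coalgebra.counit (R := R) (A := A)).rTensor A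

/-- `(id ⊗ ε)` followed by `A ⊗ R ≃ A`. -/
noncomputable def E2 (R : Type u) [CommRing R] (A : Type v) [CommRing A] [Bialgebra R A] :
    A ⊗[R] A →ₗ[R] A :=
  (TensorProduct.rid R A).toLinearMap ∘ₗ (Coalgebra.counit (R := R) (A := A)).lTensor A

@[simp] theorem E1_tmul (f g : A) : E1 R A (f ⊗ₜ[R] g) = (Coalgebra.counit (R := R) f) • g := by
  simp [E1]

@[simp] theorem E2_tmul (f g : A) : E2 R A (f ⊗ₜ[R] g) = (Coalgebra.counit (R := R) g) • f := by
  simp [E2]

theorem E1_comul (a : A) : E1 R A (Coalgebra.comul (R := R) a) = a := by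
  simp [E1, Coalgebra.rTensor_counit_comul]

theorem E2_comul (a : A) : E2 R A (Coalgebra.comul (R := R) a) = a := by
  simp [E2, Coalgebra.lTensor_counit_comul]

theorem Gen.exists_comul (h : Gen R A x) :
    ∃ b : R, Coalgebra.comul (R := R) x
      = x ⊗ₜ[R] (1 : A) + (1 : A) ⊗ₜ[R] x + b • (x ⊗ₜ[R] x) := by
  obtain ⟨c00, c10, c01, c11, hz⟩ := h.exists_decomp2 (Coalgebra.comul (R := R) x)
  have e1 := E1_comul (R := R) x
  have e2 := E2_comul (R := R) x
  rw [hz] at e1 e2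
  simp only [map_add, map_smul, E1_tmul, E2_tmul, Bialgebra.counit_one, h.counit_x, one_smul,
    zero_smul, smul_zero, add_zero] at e1 e2
  have u1 : c00 • (1 : A) + c01 • x = (0 : R) • (1 : A) + (1 : R) • x := by
    rw [e1]; simp
  have u2 : c00 • (1 : A) + c10 • x = (0 : R) • (1 : A) + (1 : R) • x := by
    rw [e2]; simp
  obtain ⟨p1, p2⟩ := h.coord_unique u1
  obtain ⟨_, p3⟩ := h.coord_unique u2
  refine ⟨c11, ?_⟩
  rw [hz, p1, p2, p3]
  simp

end

section Hopf
variable {R : Type u} [CommRing R] {A : Type v} [CommRing A] [HopfAlgebra R A] {x : A}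

theorem Gen.ab (h : Gen R A x) (a b : R) (hxa : x * x = a • x)
    (hxb : Coalgebra.comul (R := R) x
      = x ⊗ₜ[R] (1 : A) + (1 : A) ⊗ₜ[R] x + b • (x ⊗ₜ[R] x)) : a * b = -2 := by
  obtain ⟨lam, hl1, hlx⟩ := h.exists_lam
  -- Δ(x)^2 = a Δ(x)
  have hsq : Coalgebra.comul (R := R) x * Coalgebra.comul (R := R) x
      = a • Coalgebra.comul (R := R) x := by
    have := congrArg (Bialgebra.comulAlgHom R A) hxa
    rw [map_mul, map_smul] at this
    simpa using this
  rw [hxb] at hsq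
  have h1 := congrArg (Phi lam) hsq
  simp only [mul_add, add_mul, Algebra.TensorProduct.tmul_mul_tmul, smul_mul_assoc,
    mul_smul_comm, hxa, one_mul, mul_one, map_add, map_smul, Phi_tmul, hlx, hl1, smul_eq_mul,
    mul_zero, zero_mul, add_zero, zero_add] at h1
  -- antipode
  have hS0 : Bialgebra.counitAlgHom R A (HopfAlgebra.antipode R x) = 0 := by
    simp [h.counit_x]
  obtain ⟨c, hc⟩ := h.hgen _ hS0
  have h2 := HopfAlgebra.mul_antipode_rTensor_comul_apply (R := R) x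
  rw [hxb, h.counit_x, map_zero] at h2
  simp only [map_add, map_smul, LinearMap.rTensor_tmul, LinearMap.mul'_apply,
    HopfAlgebra.antipode_one, hc, mul_one, one_mul, smul_mul_assoc, hxa, smul_smul] at h2
  have h3 : (c + 1 + b * (c * a)) • x = 0 := by
    rw [add_smul, add_smul, one_smul]; exact h2
  have h4 := h.hfree _ h3
  linear_combination (-c) * h1 + (a * b + 2) * h4

end Hopf

section Iso
variable {R : Type u} [CommRing R] {A : Type v} [CommRing A] [Bialgebra R A] {x : A}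
  {A' : Type v} [CommRing A'] [Bialgebra R A'] {x' : A'}

theorem iso_imp (h : Gen R A x) (h' : Gen R A' x') (a b a' b' : R)
    (hxa : x * x = a • x)
    (hxb : Coalgebra.comul (R := R) x
      = x ⊗ₜ[R] (1 : A) + (1 : A) ⊗ₜ[R] x + b • (x ⊗ₜ[R] x))
    (hxa' : x' * x' = a' • x')
    (hxb' : Coalgebra.comul (R := R) x'
      = x' ⊗ₜ[R] (1 : A') + (1 : A') ⊗ₜ[R] x' + b' • (x' ⊗ₜ[R] x'))
    (e : A ≃ₐc[R] A') : ∃ s : Rˣ, a = a' * (s : R) ∧ b' = b * (s : R) := by
  have e0 : Bialgebra.counitAlgHom R A' (e x) = 0 := by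
    show Coalgebra.counit (R := R) (e x) = 0
    rw [CoalgHomClass.counit_comp_apply]; exact h.counit_x
  obtain ⟨s, hs⟩ := h'.hgen _ e0
  have e0' : Bialgebra.counitAlgHom R A (e.symm x') = 0 := by
    show Coalgebra.counit (R := R) (e.symm x') = 0
    rw [CoalgHomClass.counit_comp_apply]; exact h'.counit_x
  obtain ⟨t, ht⟩ := h.hgen _ e0'
  have hst : s * t = 1 := by
    have h1 : e.symm (e x) = x := e.symm_apply_apply x
    rw [hs, map_smul, ht, smul_smul] at h1
    have h3 : (s * t - 1) • x = 0 := by rw [sub_smul, one_smul, h1, sub_self]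
    exact sub_eq_zero.mp (h.hfree _ h3)
  obtain ⟨lam, hl1, hlx⟩ := h'.exists_lam
  have hmul : e (x * x) = e x * e x := map_mul e x x
  rw [hxa, map_smul, hs, smul_mul_smul_comm, hxa', smul_smul, smul_smul] at hmul
  have E1 : a * s = s * s * a' := by
    have := congrArg lam hmul
    simpa [hlx] using this
  obtain ⟨L, hLdef⟩ : ∃ L : A →ₗ[R] A', L = (e : A →ₗ[R] A') := ⟨_, rfl⟩
  have hL : ∀ y, L y = e y := by intro y; rw [hLdef]; rfl
  have hc : TensorProduct.map L L (Coalgebra.comul (R := R) x)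
      = Coalgebra.comul (R := R) (e x) := by
    rw [hLdef]; exact CoalgHomClass.map_comp_comul_apply e x
  rw [hxb, hs, map_smul, hxb'] at hc
  have E2 := congrArg (Phi lam) hc
  simp only [map_add, map_smul, TensorProduct.map_tmul, hL, hs, map_one, Phi_tmul,
    hlx, hl1, smul_eq_mul, mul_zero, zero_mul, add_zero, zero_add, mul_one] at E2
  refine ⟨⟨s, t, hst, by rw [mul_comm]; exact hst⟩, ?_, ?_⟩
  · show a = a' * s
    linear_combination t * E1 + (a' * s - a) * hst
  · show b' = b * s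
    linear_combination (-t) * E2 + (b * s - b') * hst

theorem Gen.exists_lin (h : Gen R A x) {B : Type*} [CommRing B] [Algebra R B] (y : B) :
    ∃ φ : A →ₗ[R] B, φ 1 = 1 ∧ φ x = y := by
  obtain ⟨lam, hl1, hlx⟩ := h.exists_lam
  refine ⟨(LinearMap.toSpanSingleton R B 1) ∘ₗ (Coalgebra.counit (R := R) (A := A))
    + (LinearMap.toSpanSingleton R B y) ∘ₗ lam, ?_, ?_⟩
  · simp [hl1, LinearMap.toSpanSingleton_apply]
  · simp [hlx, h.counit_x, LinearMap.toSpanSingleton_apply]

theorem Gen.exists_algHom (h : Gen R A x) {B : Type*} [CommRing B] [Algebra R B] (y : B) (a : R)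
    (hxa : x * x = a • x) (hya : y * y = a • y) :
    ∃ φ : A →ₐ[R] B, φ x = y := by
  obtain ⟨φ, h1, hx⟩ := h.exists_lin y
  have hm := h.mul_hom φ h1 (by rw [hxa, map_smul, hx, hya])
  exact ⟨AlgHom.ofLinearMap φ h1 hm, hx⟩

theorem imp_iso (h : Gen R A x) (h' : Gen R A' x') (a b a' b' : R)
    (hxa : x * x = a • x)
    (hxb : Coalgebra.comul (R := R) x
      = x ⊗ₜ[R] (1 : A) + (1 : A) ⊗ₜ[R] x + b • (x ⊗ₜ[R] x))
    (hxa' : x' * x' = a' • x')
    (hxb' : Coalgebra.comul (R := R) x'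
      = x' ⊗ₜ[R] (1 : A') + (1 : A') ⊗ₜ[R] x' + b' • (x' ⊗ₜ[R] x'))
    (s : Rˣ) (ha : a = a' * (s : R)) (hb : b' = b * (s : R)) : Nonempty (A ≃ₐc[R] A') := by
  have hst : (s : R) * ((s⁻¹ : Rˣ) : R) = 1 := by simp
  obtain ⟨φ, hφ⟩ := h.exists_algHom ((s : R) • x') a hxa (by
    rw [smul_mul_smul_comm, hxa', smul_smul, smul_smul, ha]; congr 1; ring)
  obtain ⟨ψ, hψ⟩ := h'.exists_algHom (((s⁻¹ : Rˣ) : R) • x) a' hxa' (by
    rw [smul_mul_smul_comm, hxa, smul_smul, smul_smul, ha]; congr 1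
    linear_combination (a' * ((s⁻¹ : Rˣ) : R)) * hst)
  have h1 : φ.comp ψ = AlgHom.id R A' := by
    apply AlgHom.toLinearMap_injective
    apply h'.ext_lin
    · simp
    · simp only [AlgHom.toLinearMap_apply, AlgHom.comp_apply, AlgHom.id_apply, hψ, map_smul, hφ,
        smul_smul]
      rw [mul_comm, hst, one_smul]
  have h2 : ψ.comp φ = AlgHom.id R A := by
    apply AlgHom.toLinearMap_injective
    apply h.ext_lin
    · simp
    · simp only [AlgHom.toLinearMap_apply, AlgHom.comp_apply, AlgHom.id_apply, hψ, map_smul, hφ,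
        smul_smul]
      rw [hst, one_smul]
  let f : A ≃ₐ[R] A' := AlgEquiv.ofAlgHom φ ψ h1 h2
  have hf : ∀ y, f y = φ y := fun _ => rfl
  refine ⟨BialgEquiv.ofAlgEquiv f ?_ ?_⟩
  · apply AlgHom.toLinearMap_injective
    apply h.ext_lin
    · simp only [AlgHom.toLinearMap_apply, map_one]
    · simp only [AlgHom.toLinearMap_apply, AlgHom.comp_apply, AlgHom.coe_coe, AlgEquiv.coe_toAlgHom,
        hf, hφ, map_smul, h'.hx, h.hx, smul_zero]
  · apply AlgHom.toLinearMap_injective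
    apply h.ext_lin
    · simp only [AlgHom.toLinearMap_apply, map_one]
    · simp only [AlgHom.toLinearMap_apply, AlgHom.comp_apply, AlgHom.coe_coe, AlgEquiv.coe_toAlgHom,
        Bialgebra.comulAlgHom_apply, hxb, map_add, map_smul, Algebra.TensorProduct.map_tmul,
        map_one, hf, hφ, hxb', hb]
      simp only [TensorProduct.smul_tmul', TensorProduct.tmul_smul, smul_add, smul_smul]
      congr 2
      ring

end Iso

section Main
variable {R : Type u} [CommRing R] {A : Type v} [CommRing A] [HopfAlgebra R A]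

theorem main79 (x : A) (hx : Bialgebra.counitAlgHom R A x = 0)
    (hgen : ∀ f : A, Bialgebra.counitAlgHom R A f = 0 → ∃ r : R, f = r • x)
    (hfree : ∀ r : R, r • x = 0 → r = 0) :
    ∃ a b : R, x * x = a • x ∧
      Bialgebra.comulAlgHom R A x = x ⊗ₜ[R] 1 + 1 ⊗ₜ[R] x + b • (x ⊗ₜ[R] x) ∧ a * b = -2 := by
  have h : Gen R A x := ⟨hx, hgen, hfree⟩
  obtain ⟨a, ha⟩ := hgen (x * x) (by rw [map_mul, hx, mul_zero])
  obtain ⟨b, hb⟩ := h.exists_comul
  exact ⟨a, b, ha, hb, h.ab a b ha hb⟩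

theorem main80 (x : A) (hx : Bialgebra.counitAlgHom R A x = 0)
    (hgen : ∀ f : A, Bialgebra.counitAlgHom R A f = 0 → ∃ r : R, f = r • x)
    (hfree : ∀ r : R, r • x = 0 → r = 0)
    (a b : R) (hxa : x * x = a • x)
    (hxb : Bialgebra.comulAlgHom R A x = x ⊗ₜ[R] 1 + 1 ⊗ₜ[R] x + b • (x ⊗ₜ[R] x))
    (A' : Type v) [CommRing A'] [HopfAlgebra R A']
    (x' : A') (hx' : Bialgebra.counitAlgHom R A' x' = 0)
    (hgen' : ∀ f : A', Bialgebra.counitAlgHom R A' f = 0 → ∃ r : R, f = r • x')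
    (hfree' : ∀ r : R, r • x' = 0 → r = 0)
    (a' b' : R) (hxa' : x' * x' = a' • x')
    (hxb' : Bialgebra.comulAlgHom R A' x' = x' ⊗ₜ[R] 1 + 1 ⊗ₜ[R] x' + b' • (x' ⊗ₜ[R] x')) :
    Nonempty (A ≃ₐc[R] A') ↔ ∃ s : Rˣ, a = a' * (s : R) ∧ b' = b * (s : R) := by
  have h : Gen R A x := ⟨hx, hgen, hfree⟩
  have h' : Gen R A' x' := ⟨hx', hgen', hfree'⟩
  constructor
  · rintro ⟨e⟩
    exact iso_imp h h' a b a' b' hxa hxb hxa' hxb' e
  · rintro ⟨s, ha, hb⟩
    exact imp_iso h h' a b a' b' hxa hxb hxa' hxb' s ha hb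

end Main

end Groth.Agent.Lib.OT2H4
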