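import Mathlib
import Groth.Prelude.Def_CartDual
import Groth.Prelude.Def_W4c5ffgsreadingcourseOT

set_option autoImplicit false
set_option maxHeartbeats 1000000

/-!
# Oort–Tate: duality between eigenspaces of the augmentation ideals of `A` and `A^D` (helper1)
-/

namespace OTDualH1

open TensorProduct WithConv

universe u

section pow

variable (R : Type u) [CommRing R] (H : Type u) [CommRing H] [HopfAlgebra R H]

theorem comp_one {H' : Type u} [CommRing H'] [Algebra R H'] (g : H →ₐ[R] H') :
    g.comp (1 : WithConv (H →ₐ[R] H)).ofConv = (1 : WithConv (H →ₐ[R] H')).ofConv := by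
  apply AlgHom.ext
  intro x
  show g (algebraMap R H (Coalgebra.counit (R := R) x)) =
    algebraMap R H' (Coalgebra.counit (R := R) x)
  rw [AlgHom.commutes]

theorem comp_pow {H' : Type u} [CommRing H'] [Algebra R H'] (g : H →ₐ[R] H')
    (f : WithConv (H →ₐ[R] H)) (n : ℕ) :
    g.comp (f ^ n).ofConv = ((toConv (g.comp f.ofConv)) ^ n).ofConv := by
  induction n with
  | zero =>
    rw [pow_zero, pow_zero]
    exact comp_one R H g
  | succ n ih =>
    rw [pow_succ, pow_succ, AlgHom.comp_convMul_distrib, ih]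

theorem counit_comp_powConv (n : ℕ) :
    (Bialgebra.counitAlgHom R H).comp (SGA3b.powConv R H n) = Bialgebra.counitAlgHom R H := by
  have h1 : toConv ((Bialgebra.counitAlgHom R H).comp (toConv (AlgHom.id R H)).ofConv) =
      (1 : WithConv (H →ₐ[R] R)) := by
    apply WithConv.ext
    apply AlgHom.ext
    intro x
    rfl
  show (Bialgebra.counitAlgHom R H).comp ((toConv (AlgHom.id R H)) ^ n).ofConv = _
  rw [comp_pow, h1, one_pow]
  apply AlgHom.ext
  intro x
  rfl

theorem counit_powConv (n : ℕ) (a : H) :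
    Coalgebra.counit (R := R) (SGA3b.powConv R H n a) = Coalgebra.counit (R := R) a :=
  AlgHom.congr_fun (counit_comp_powConv R H n) a

theorem powConv_comp (m n : ℕ) :
    (SGA3b.powConv R H m).comp (SGA3b.powConv R H n) = SGA3b.powConv R H (m * n) := by
  show (ofConv ((toConv (AlgHom.id R H)) ^ m)).comp ((toConv (AlgHom.id R H)) ^ n).ofConv =
    ofConv ((toConv (AlgHom.id R H)) ^ (m * n))
  rw [comp_pow]
  have h : toConv ((ofConv ((toConv (AlgHom.id R H)) ^ m)).comp
      (toConv (AlgHom.id R H)).ofConv) = (toConv (AlgHom.id R H)) ^ m := by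
    apply WithConv.ext
    exact AlgHom.comp_id _
  rw [h, ← pow_mul]

theorem powConv_mod (p : ℕ) (hp : (toConv (AlgHom.id R H)) ^ p = 1) (n : ℕ) :
    SGA3b.powConv R H n = SGA3b.powConv R H (n % p) := by
  show ofConv ((toConv (AlgHom.id R H)) ^ n) = ofConv ((toConv (AlgHom.id R H)) ^ (n % p))
  rw [pow_eq_pow_mod n hp]

theorem powConv_succ_apply (n : ℕ) (a : H) :
    SGA3b.powConv R H (n + 1) a = Algebra.TensorProduct.lmul' R (S := H)
      (Algebra.TensorProduct.map (SGA3b.powConv R H n) (AlgHom.id R H)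
        (Coalgebra.comul (R := R) a)) := by
  show (ofConv ((toConv (AlgHom.id R H)) ^ (n + 1))) a = _
  rw [pow_succ, AlgHom.convMul_def]
  rfl

theorem lmul_map_eq (G : H →ₐ[R] H) (t : H ⊗[R] H) :
    Algebra.TensorProduct.lmul' R (S := H) (Algebra.TensorProduct.map G (AlgHom.id R H) t) =
      LinearMap.mul' R H (TensorProduct.map G.toLinearMap LinearMap.id t) := by
  induction t using TensorProduct.induction_on with
  | zero => simp
  | add x y hx hy => rw [map_add, map_add, hx, hy, map_add, map_add]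
  | tmul a b => rfl

end pow

section units

variable (p : ℕ) [Fact p.Prime] (R : Type u) [CommRing R] (H : Type u) [CommRing H]
  [HopfAlgebra R H] (hp : (toConv (AlgHom.id R H)) ^ p = 1)

include hp in
theorem powConv_units (m m' : (ZMod p)ˣ) (a : H) :
    SGA3b.powConv R H (m : ZMod p).val (SGA3b.powConv R H (m' : ZMod p).val a) =
      SGA3b.powConv R H ((m * m' : (ZMod p)ˣ) : ZMod p).val a := by
  have h := AlgHom.congr_fun (powConv_comp R H (m : ZMod p).val (m' : ZMod p).val) a
  rw [AlgHom.comp_apply] at h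
  rw [h, powConv_mod R H p hp, Units.val_mul, ZMod.val_mul]

end units

section dual

variable (R : Type u) [CommRing R] (A : Type u) [CommRing A] [HopfAlgebra R A]
  [Coalgebra.IsCocomm R A] [Module.Finite R A] [Module.Projective R A]

theorem L1a (G : A →ₗ[R] A) (y1 y2 : CartDual.D R A) (t : A ⊗[R] A) :
    LinearMap.mul' R R (TensorProduct.map (y1.ofConv ∘ₗ G) y2.ofConv t) =
      CartDual.ev₂ R A (y1 ⊗ₜ[R] y2) (TensorProduct.map G LinearMap.id t) := by
  induction t using TensorProduct.induction_on with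
  | zero => simp
  | add x y hx hy => rw [map_add, map_add, hx, hy, map_add, map_add]
  | tmul a b =>
    rw [TensorProduct.map_tmul, LinearMap.mul'_apply, TensorProduct.map_tmul, CartDual.ev₂_tmul]
    rfl

theorem L1 (F : CartDual.D R A →ₐ[R] CartDual.D R A) (G : A →ₗ[R] A)
    (hFG : ∀ y : CartDual.D R A, (F y).ofConv = y.ofConv ∘ₗ G)
    (z : CartDual.D R A ⊗[R] CartDual.D R A) (a : A) :
    (Algebra.TensorProduct.lmul' R (S := CartDual.D R A)
      (Algebra.TensorProduct.map F (AlgHom.id R (CartDual.D R A)) z)).ofConv a =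
      CartDual.ev₂ R A z (TensorProduct.map G LinearMap.id (Coalgebra.comul (R := R) a)) := by
  induction z using TensorProduct.induction_on with
  | zero => simp
  | add x y hx hy =>
    rw [map_add, map_add, WithConv.ofConv_add, LinearMap.add_apply, hx, hy, map_add,
      LinearMap.add_apply]
  | tmul y1 y2 =>
    rw [Algebra.TensorProduct.map_tmul, Algebra.TensorProduct.lmul'_apply_tmul, ← L1a, ← hFG]
    rfl

theorem powConv_dual (n : ℕ) (x : CartDual.D R A) :
    (SGA3b.powConv R (CartDual.D R A) n x).ofConv =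
      x.ofConv ∘ₗ (SGA3b.powConv R A n).toLinearMap := by
  induction n generalizing x with
  | zero =>
    apply LinearMap.ext
    intro a
    simp only [SGA3b.powConv, pow_zero]
    show ((algebraMap R (CartDual.D R A) (Coalgebra.counit (R := R) x)) : CartDual.D R A).ofConv a
      = x.ofConv (algebraMap R A (Coalgebra.counit (R := R) a))
    rw [Algebra.algebraMap_eq_smul_one, Algebra.algebraMap_eq_smul_one, WithConv.ofConv_smul,
      LinearMap.smul_apply, map_smul, CartDual.coalgebra_counit_apply, smul_eq_mul, smul_eq_mul]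
    show x.ofConv 1 * (algebraMap R R (Coalgebra.counit (R := R) a)) =
      Coalgebra.counit (R := R) a * x.ofConv 1
    exact mul_comm _ _
  | succ n ih =>
    apply LinearMap.ext
    intro a
    rw [powConv_succ_apply, L1 R A (SGA3b.powConv R (CartDual.D R A) n)
      (SGA3b.powConv R A n).toLinearMap ih]
    show CartDual.ev₂ R A (CartDual.comul R A x) _ = _
    rw [CartDual.ev₂_comul, LinearMap.comp_apply, LinearMap.comp_apply, AlgHom.toLinearMap_apply,
      powConv_succ_apply, lmul_map_eq]

theorem powConv_dual_apply (n : ℕ) (x : CartDual.D R A) (a : A) :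
    (SGA3b.powConv R (CartDual.D R A) n x).ofConv a = x.ofConv (SGA3b.powConv R A n a) := by
  rw [powConv_dual]
  rfl

end dual

section proj

variable (p : ℕ) [Fact p.Prime] (R : Type u) [CommRing R] (u : R)
  (hu : u * ((p - 1 : ℕ) : R) = 1)
  (χ : (ZMod p)ˣ →* Rˣ) (H : Type u) [CommRing H] [HopfAlgebra R H]
  (hp : (toConv (AlgHom.id R H)) ^ p = 1) (i : ℕ)

theorem mem_eigenAug (a : H) : a ∈ OortTate.eigenAug R H p χ i ↔
    Coalgebra.counit (R := R) a = 0 ∧ ∀ m : (ZMod p)ˣ,
      SGA3b.powConv R H (m : ZMod p).val a = (((χ m : Rˣ) : R) ^ i) • a := by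
  unfold OortTate.eigenAug
  rw [Submodule.mem_inf, LinearMap.mem_ker, Submodule.mem_iInf]
  constructor
  · rintro ⟨h1, h2⟩
    exact ⟨h1, fun m => Module.End.mem_eigenspace_iff.mp (h2 m)⟩
  · rintro ⟨h1, h2⟩
    exact ⟨h1, fun m => Module.End.mem_eigenspace_iff.mpr (h2 m)⟩

/-- the averaging operator -/
noncomputable def av : H →ₗ[R] H :=
  u • ∑ m : (ZMod p)ˣ, (((χ m⁻¹ : Rˣ) : R) ^ i) •
    (SGA3b.powConv R H (m : ZMod p).val).toLinearMap

theorem av_apply (a : H) : av p R u χ H i a =
    u • ∑ m : (ZMod p)ˣ, (((χ m⁻¹ : Rˣ) : R) ^ i) • SGA3b.powConv R H (m : ZMod p).val a := by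
  unfold av
  rw [LinearMap.smul_apply, LinearMap.sum_apply]
  rfl

theorem counit_av (b : H) (hb : Coalgebra.counit (R := R) b = 0) :
    Coalgebra.counit (R := R) (av p R u χ H i b) = 0 := by
  rw [av_apply, map_smul, map_sum, Finset.sum_eq_zero, smul_zero]
  intro m _
  rw [map_smul, counit_powConv, hb, smul_zero]

include hp in
theorem pow_av (m' : (ZMod p)ˣ) (b : H) :
    SGA3b.powConv R H (m' : ZMod p).val (av p R u χ H i b) =
      (((χ m' : Rˣ) : R) ^ i) • av p R u χ H i b := by
  rw [av_apply, map_smul, map_sum, smul_comm]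
  congr 1
  rw [Finset.smul_sum]
  have h1 : ∀ m : (ZMod p)ˣ, SGA3b.powConv R H (m' : ZMod p).val
      ((((χ m⁻¹ : Rˣ) : R) ^ i) • SGA3b.powConv R H (m : ZMod p).val b) =
      (((χ m⁻¹ : Rˣ) : R) ^ i) • SGA3b.powConv R H ((m' * m : (ZMod p)ˣ) : ZMod p).val b := by
    intro m
    rw [map_smul, powConv_units p R H hp]
  rw [Finset.sum_congr rfl (fun m _ => h1 m)]
  refine Fintype.sum_equiv (Equiv.mulLeft m') _ _ (fun m => ?_)
  show _ = (((χ m' : Rˣ) : R) ^ i) • ((((χ (m' * m)⁻¹ : Rˣ) : R) ^ i) •
    SGA3b.powConv R H ((m' * m : (ZMod p)ˣ) : ZMod p).val b)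
  rw [smul_smul, ← mul_pow, ← Units.val_mul, ← map_mul, mul_inv_rev, mul_comm m⁻¹ m'⁻¹,
    mul_inv_cancel_left]

include hu in
theorem av_eig (a : H) (ha : ∀ m : (ZMod p)ˣ,
    SGA3b.powConv R H (m : ZMod p).val a = (((χ m : Rˣ) : R) ^ i) • a) :
    av p R u χ H i a = a := by
  rw [av_apply]
  have h1 : ∀ m : (ZMod p)ˣ, (((χ m⁻¹ : Rˣ) : R) ^ i) • SGA3b.powConv R H (m : ZMod p).val a
      = a := by
    intro m
    rw [ha m, smul_smul, ← mul_pow, ← Units.val_mul, ← map_mul, inv_mul_cancel, map_one,
      Units.val_one, one_pow, one_smul]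
  rw [Finset.sum_congr rfl (fun m _ => h1 m), Finset.sum_const, Finset.card_univ,
    ZMod.card_units_eq_totient, Nat.totient_prime Fact.out, ← Nat.cast_smul_eq_nsmul R,
    smul_smul, hu, one_smul]

include hp in
theorem av_comm (m' : (ZMod p)ˣ) (b : H) :
    av p R u χ H i (SGA3b.powConv R H (m' : ZMod p).val b) =
      SGA3b.powConv R H (m' : ZMod p).val (av p R u χ H i b) := by
  rw [av_apply, av_apply, map_smul, map_sum]
  congr 1
  refine Finset.sum_congr rfl (fun m _ => ?_)
  rw [map_smul, powConv_units p R H hp, powConv_units p R H hp, mul_comm]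

/-- removing the constant term -/
noncomputable def q : H →ₗ[R] H :=
  LinearMap.id - (Algebra.linearMap R H) ∘ₗ (Coalgebra.counit (R := R) (A := H))

theorem q_apply (a : H) : q R H a = a - algebraMap R H (Coalgebra.counit (R := R) a) := rfl

theorem counit_q (a : H) : Coalgebra.counit (R := R) (q R H a) = 0 := by
  rw [q_apply, map_sub, Bialgebra.counit_algebraMap, sub_self]

theorem q_one : q R H 1 = 0 := by
  rw [q_apply, Bialgebra.counit_one, map_one, sub_self]

theorem q_of_counit (a : H) (ha : Coalgebra.counit (R := R) a = 0) : q R H a = a := by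
  rw [q_apply, ha, map_zero, sub_zero]

theorem q_comm (n : ℕ) (a : H) :
    q R H (SGA3b.powConv R H n a) = SGA3b.powConv R H n (q R H a) := by
  rw [q_apply, q_apply, map_sub, AlgHom.commutes, counit_powConv]

/-- the projector onto the `χ^i`-eigenspace of the augmentation ideal -/
noncomputable def Pi : H →ₗ[R] H := av p R u χ H i ∘ₗ q R H

theorem Pi_apply (a : H) : Pi p R u χ H i a = av p R u χ H i (q R H a) := rfl

include hp in
theorem Pi_mem (a : H) : Pi p R u χ H i a ∈ OortTate.eigenAug R H p χ i := by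
  rw [mem_eigenAug]
  refine ⟨?_, fun m => ?_⟩
  · rw [Pi_apply]
    exact counit_av p R u χ H i _ (counit_q R H a)
  · rw [Pi_apply]
    exact pow_av p R u χ H hp i m _

include hu in
theorem Pi_eig (a : H) (ha : a ∈ OortTate.eigenAug R H p χ i) : Pi p R u χ H i a = a := by
  rw [mem_eigenAug] at ha
  rw [Pi_apply, q_of_counit R H a ha.1]
  exact av_eig p R u hu χ H i a ha.2

include hp in
theorem Pi_comm (m : (ZMod p)ˣ) (a : H) :
    Pi p R u χ H i (SGA3b.powConv R H (m : ZMod p).val a) =
      SGA3b.powConv R H (m : ZMod p).val (Pi p R u χ H i a) := by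
  rw [Pi_apply, Pi_apply, q_comm, av_comm p R u χ H hp]

theorem Pi_one : Pi p R u χ H i 1 = 0 := by
  rw [Pi_apply, q_one, map_zero]

end proj

section main

variable (p : ℕ) [Fact p.Prime] (R : Type u) [CommRing R] (u : R)
  (hu : u * ((p - 1 : ℕ) : R) = 1)
  (χ : (ZMod p)ˣ →* Rˣ)
  (A : Type u) [CommRing A] [HopfAlgebra R A] [Coalgebra.IsCocomm R A]
  [Module.Finite R A] [Module.Projective R A]
  (hp : (WithConv.toConv (AlgHom.id R A)) ^ p = 1) (i : ℕ)

include hu in
theorem Q1 (x : CartDual.D R A) (hx : x ∈ OortTate.eigenAug R (CartDual.D R A) p χ i) (a : A) :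
    x.ofConv a = x.ofConv (Pi p R u χ A i a) := by
  rw [mem_eigenAug] at hx
  obtain ⟨hx0, hxm⟩ := hx
  have hx1 : x.ofConv 1 = 0 := hx0
  have h1 : ∀ (m : (ZMod p)ˣ) (b : A), x.ofConv (SGA3b.powConv R A (m : ZMod p).val b) =
      (((χ m : Rˣ) : R) ^ i) * x.ofConv b := by
    intro m b
    rw [← powConv_dual_apply, hxm m, WithConv.ofConv_smul, LinearMap.smul_apply, smul_eq_mul]
  have h2 : ∀ m : (ZMod p)ˣ, x.ofConv ((((χ m⁻¹ : Rˣ) : R) ^ i) •
      SGA3b.powConv R A (m : ZMod p).val (q R A a)) = x.ofConv (q R A a) := by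
    intro m
    rw [map_smul, h1, smul_eq_mul, ← mul_assoc, ← mul_pow, ← Units.val_mul, ← map_mul,
      inv_mul_cancel, map_one, Units.val_one, one_pow, one_mul]
  rw [Pi_apply, av_apply, map_smul, map_sum, Finset.sum_congr rfl (fun m _ => h2 m),
    Finset.sum_const, Finset.card_univ, ZMod.card_units_eq_totient, Nat.totient_prime Fact.out,
    nsmul_eq_mul, smul_eq_mul, ← mul_assoc, hu, one_mul, q_apply, map_sub,
    Algebra.algebraMap_eq_smul_one, map_smul, hx1, smul_zero, sub_zero]

include hu hp in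
theorem main :
    Function.Bijective (fun f : OortTate.eigenAug R (CartDual.D R A) p χ i =>
      ((CartDual.toDual R A) (f : CartDual.D R A)).comp
        (OortTate.eigenAug R A p χ i).subtype) := by
  constructor
  · intro f f' hff
    apply Subtype.ext
    apply WithConv.ext
    apply LinearMap.ext
    intro a
    have h := LinearMap.congr_fun hff ⟨Pi p R u χ A i a, Pi_mem p R u χ A hp i a⟩
    have h' : (f : CartDual.D R A).ofConv (Pi p R u χ A i a) =
        (f' : CartDual.D R A).ofConv (Pi p R u χ A i a) := h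
    rw [Q1 p R u hu χ A i f f.2 a, Q1 p R u hu χ A i f' f'.2 a, h']
  · intro lam
    obtain ⟨P', hP'⟩ : ∃ P' : A →ₗ[R] OortTate.eigenAug R A p χ i,
        ∀ a, (P' a : A) = Pi p R u χ A i a :=
      ⟨LinearMap.codRestrict _ (Pi p R u χ A i) (Pi_mem p R u χ A hp i), fun _ => rfl⟩
    have hmem : (toConv (lam ∘ₗ P') : CartDual.D R A) ∈
        OortTate.eigenAug R (CartDual.D R A) p χ i := by
      rw [mem_eigenAug]
      refine ⟨?_, fun m => ?_⟩
      · rw [CartDual.coalgebra_counit_apply]
        show lam (P' 1) = 0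
        have h0 : P' 1 = 0 := by
          apply Subtype.ext
          rw [hP', Pi_one]
          rfl
        rw [h0, map_zero]
      · apply WithConv.ext
        apply LinearMap.ext
        intro a
        rw [powConv_dual_apply, WithConv.ofConv_smul, LinearMap.smul_apply]
        show lam (P' (SGA3b.powConv R A (m : ZMod p).val a)) = _ • lam (P' a)
        have h0 : P' (SGA3b.powConv R A (m : ZMod p).val a) =
            (((χ m : Rˣ) : R) ^ i) • P' a := by
          apply Subtype.ext
          rw [hP', Pi_comm p R u χ A hp i m a]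
          have hm := ((mem_eigenAug p R χ A i _).mp (Pi_mem p R u χ A hp i a)).2 m
          rw [hm, Submodule.coe_smul, hP']
        rw [h0, map_smul]
    refine ⟨⟨toConv (lam ∘ₗ P'), hmem⟩, ?_⟩
    apply LinearMap.ext
    intro a
    show lam (P' (a : A)) = lam a
    congr 1
    apply Subtype.ext
    rw [hP']
    exact Pi_eig p R u hu χ A i a a.2

end main

end OTDualH1
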