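import Mathlib

/-!
# Character idempotents in the group algebra of `(ZMod p)ˣ` (helper9)
-/

set_option autoImplicit false
universe u

namespace OTIdem9

section General

variable {G : Type*} [Group G] [Fintype G] {R : Type*} [CommRing R]

theorem sum_smul_of_mul (a b : G → R) :
    (∑ m, a m • MonoidAlgebra.of R G m) * (∑ n, b n • MonoidAlgebra.of R G n) =
      ∑ l, (∑ m, a m * b (m⁻¹ * l)) • MonoidAlgebra.of R G l := by
  rw [Finset.sum_mul]
  simp_rw [Finset.mul_sum, smul_mul_smul_comm, ← map_mul]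
  have h : ∀ m, ∑ n, (a m * b n) • MonoidAlgebra.of R G (m * n) =
      ∑ l, (a m * b (m⁻¹ * l)) • MonoidAlgebra.of R G l := by
    intro m
    exact Fintype.sum_equiv (Equiv.mulLeft m) _ _ (fun n => by simp)
  simp_rw [h]
  rw [Finset.sum_comm]
  simp_rw [← Finset.sum_smul]

theorem sum_eq_zero_of_mul (ψ : G → R) (hψ : ∀ x y, ψ (x * y) = ψ x * ψ y) (m₀ : G)
    (h : IsUnit (ψ m₀ - 1)) : ∑ m, ψ m = 0 := by
  have h1 : ∑ m, ψ m = ψ m₀ * ∑ m, ψ m := by
    rw [Finset.mul_sum]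
    simp_rw [← hψ]
    exact (Fintype.sum_equiv (Equiv.mulLeft m₀) _ _ (fun _ => rfl)).symm
  have h2 : (ψ m₀ - 1) * ∑ m, ψ m = 0 := by rw [sub_mul, one_mul, ← h1, sub_self]
  exact (h.mul_right_eq_zero).mp h2

end General

section Main

variable (p : ℕ) [Fact p.Prime] (R : Type u) [CommRing R] (u : R)
  (hu : u * ((p - 1 : ℕ) : R) = 1)
  (χ : (ZMod p)ˣ →* Rˣ) (hχ : ∀ m : (ZMod p)ˣ, m ≠ 1 → IsUnit ((χ m : R) - 1))

/-- the coefficient `χ(m⁻¹)^i` -/
noncomputable def coef (i : ℕ) (m : (ZMod p)ˣ) : R := ((χ m⁻¹ : Rˣ) : R) ^ i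

/-- the sums `Σ_m χ(m⁻¹)^i [m]` -/
noncomputable def S (i : ℕ) : MonoidAlgebra R (ZMod p)ˣ :=
  ∑ m : (ZMod p)ˣ, coef p R χ i m • MonoidAlgebra.of R (ZMod p)ˣ m

/-- `c_{ij} = Σ_m χ(m⁻¹)^i χ(m)^j` -/
noncomputable def cc (i j : ℕ) : R := ∑ m : (ZMod p)ˣ, ((χ m⁻¹ : Rˣ) : R) ^ i * ((χ m : Rˣ) : R) ^ j

theorem coef_mul (i j : ℕ) (m l : (ZMod p)ˣ) :
    coef p R χ i m * coef p R χ j (m⁻¹ * l) =
      coef p R χ j l * (((χ m⁻¹ : Rˣ) : R) ^ i * ((χ m : Rˣ) : R) ^ j) := by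
  unfold coef
  have h1 : (m⁻¹ * l)⁻¹ = l⁻¹ * m := by rw [mul_inv_rev, inv_inv]
  rw [h1, map_mul, Units.val_mul, mul_pow]
  ring

theorem S_mul_S (i j : ℕ) : S p R χ i * S p R χ j = cc p R χ i j • S p R χ j := by
  unfold S
  rw [sum_smul_of_mul, Finset.smul_sum]
  apply Finset.sum_congr rfl
  intro l _
  rw [smul_smul]
  congr 1
  simp_rw [coef_mul]
  rw [← Finset.mul_sum, mul_comm]
  rfl

theorem cc_self (i : ℕ) : cc p R χ i i = ((p - 1 : ℕ) : R) := by
  unfold cc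
  have h : ∀ m : (ZMod p)ˣ, ((χ m⁻¹ : Rˣ) : R) ^ i * ((χ m : Rˣ) : R) ^ i = 1 := by
    intro m
    rw [← mul_pow, ← Units.val_mul, ← map_mul, inv_mul_cancel, map_one, Units.val_one, one_pow]
  simp_rw [h]
  rw [Finset.sum_const, Finset.card_univ, ZMod.card_units p, nsmul_eq_mul, mul_one]

include hχ in
theorem cc_ne (i j : ℕ) (hi : i < p - 1) (hj : j < p - 1) (hij : i ≠ j) : cc p R χ i j = 0 := by
  unfold cc
  obtain ⟨g, hg⟩ := IsCyclic.exists_generator (α := (ZMod p)ˣ)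
  have hord : orderOf g = p - 1 := by
    rw [orderOf_eq_card_of_forall_mem_zpowers hg, Nat.card_eq_fintype_card, ZMod.card_units p]
  apply sum_eq_zero_of_mul (fun m => ((χ m⁻¹ : Rˣ) : R) ^ i * ((χ m : Rˣ) : R) ^ j) ?_ g
  · have hx : (g⁻¹) ^ i * g ^ j ≠ 1 := by
      intro h
      rw [inv_pow, inv_mul_eq_one] at h
      have := pow_injOn_Iio_orderOf (x := g) (by rw [Set.mem_Iio, hord]; exact hi)
        (by rw [Set.mem_Iio, hord]; exact hj) h
      exact hij this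
    have := hχ _ hx
    have e : ((χ ((g⁻¹) ^ i * g ^ j) : Rˣ) : R) = ((χ g⁻¹ : Rˣ) : R) ^ i * ((χ g : Rˣ) : R) ^ j := by
      rw [map_mul, map_pow, map_pow, Units.val_mul, Units.val_pow_eq_pow_val, Units.val_pow_eq_pow_val]
    rw [e] at this
    exact this
  · intro x y
    simp only [mul_inv_rev, map_mul, Units.val_mul, mul_pow]
    ring

include hu hχ in
theorem complete :
    CompleteOrthogonalIdempotents (fun i : Fin (p - 1) => u • S p R χ (i : ℕ)) := by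
  have hmul : ∀ i j : ℕ, (u • S p R χ i) * (u • S p R χ j) = (u * u * cc p R χ i j) • S p R χ j := by
    intro i j
    rw [smul_mul_smul_comm, S_mul_S, smul_smul]
  refine ⟨⟨?_, ?_⟩, ?_⟩
  · intro i
    show (u • S p R χ i) * (u • S p R χ i) = u • S p R χ i
    rw [hmul, cc_self, mul_assoc, hu, mul_one]
  · intro i j hij
    show (u • S p R χ i) * (u • S p R χ j) = 0
    rw [hmul, cc_ne p R χ hχ i j i.2 j.2 (fun h => hij (Fin.ext h)), mul_zero, zero_smul]
  · show ∑ i : Fin (p - 1), u • S p R χ (i : ℕ) = 1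
    rw [← Finset.smul_sum, Fin.sum_univ_eq_sum_range (fun i => S p R χ i) (p - 1)]
    unfold S
    rw [Finset.sum_comm]
    simp_rw [← Finset.sum_smul]
    have hcoef : ∀ m : (ZMod p)ˣ, ∑ i ∈ Finset.range (p - 1), coef p R χ i m =
        if m = 1 then ((p - 1 : ℕ) : R) else 0 := by
      intro m
      unfold coef
      split_ifs with hm
      · subst hm
        simp
      · have hm' : m⁻¹ ≠ 1 := fun h => hm (inv_eq_one.mp h)
        have hunit := hχ _ hm'
        have h1 := mul_geom_sum ((χ m⁻¹ : Rˣ) : R) (p - 1)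
        have h2 : ((χ m⁻¹ : Rˣ) : R) ^ (p - 1) = 1 := by
          rw [← Units.val_pow_eq_pow_val, ← map_pow, ZMod.units_pow_card_sub_one_eq_one, map_one,
            Units.val_one]
        rw [h2, sub_self] at h1
        exact (hunit.mul_right_eq_zero).mp h1
    simp_rw [hcoef]
    rw [Finset.sum_eq_single (1 : (ZMod p)ˣ)]
    · rw [if_pos rfl, smul_smul, hu, one_smul, map_one]
    · intro m _ hm
      rw [if_neg hm, zero_smul]
    · intro h; exact absurd (Finset.mem_univ _) h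

end Main

end OTIdem9
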