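import Groth.Prelude.Def_W4c5ffgsreadingcourseOT
import Groth.Agent.Lib.OTIdem_helper9

/-!
# Eigenspace decomposition of the augmentation ideal of a group scheme killed by `p` (helper9)
-/

set_option autoImplicit false
universe u
open WithConv

namespace OTEigen9

open OTIdem9

section Pow

variable {R : Type u} [CommRing R] {A : Type u} [CommRing A] [HopfAlgebra R A]
variable {B : Type*} [CommRing B] [Algebra R B]

theorem comp_one (h : A →ₐ[R] B) :
    toConv (h.comp (1 : WithConv (A →ₐ[R] A)).ofConv) = 1 := by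
  apply WithConv.ofConv_injective
  apply AlgHom.ext
  intro a
  show h ((1 : WithConv (A →ₐ[R] A)) a) = (1 : WithConv (A →ₐ[R] B)) a
  rw [AlgHom.convOne_apply, AlgHom.convOne_apply, AlgHom.commutes]

theorem comp_pow (h : A →ₐ[R] B) (y : WithConv (A →ₐ[R] A)) (n : ℕ) :
    toConv (h.comp (y ^ n).ofConv) = (toConv (h.comp y.ofConv)) ^ n := by
  induction n with
  | zero => rw [pow_zero, pow_zero]; exact comp_one h
  | succ n ih =>
    rw [pow_succ, pow_succ, AlgHom.comp_convMul_distrib, toConv_ofConv, ih]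

theorem powConv_comp (a b : ℕ) :
    (SGA3b.powConv R A a).comp (SGA3b.powConv R A b) = SGA3b.powConv R A (a * b) := by
  unfold SGA3b.powConv
  have h := comp_pow (WithConv.ofConv ((toConv (AlgHom.id R A)) ^ a)) (toConv (AlgHom.id R A)) b
  rw [ofConv_toConv, AlgHom.comp_id, toConv_ofConv, ← pow_mul] at h
  exact congrArg WithConv.ofConv h

theorem counit_powConv (n : ℕ) :
    (Bialgebra.counitAlgHom R A).comp (SGA3b.powConv R A n) = Bialgebra.counitAlgHom R A := by
  unfold SGA3b.powConv
  have h := comp_pow (Bialgebra.counitAlgHom R A) (toConv (AlgHom.id R A)) n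
  rw [ofConv_toConv, AlgHom.comp_id] at h
  have h1 : toConv (Bialgebra.counitAlgHom R A) = (1 : WithConv (A →ₐ[R] R)) := by
    rw [AlgHom.convOne_def]
    congr 1
  rw [h1, one_pow] at h
  have h2 := congrArg WithConv.ofConv h
  rw [ofConv_toConv] at h2
  rw [h2, ← h1, ofConv_toConv]

end Pow

section Main

variable (p : ℕ) [Fact p.Prime] (R : Type u) [CommRing R] (u : R)
  (hu : u * ((p - 1 : ℕ) : R) = 1)
  (χ : (ZMod p)ˣ →* Rˣ) (hχ : ∀ m : (ZMod p)ˣ, m ≠ 1 → IsUnit ((χ m : R) - 1))
  (A : Type u) [CommRing A] [HopfAlgebra R A]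
  (hp : (WithConv.toConv (AlgHom.id R A)) ^ p = 1)

omit [Fact p.Prime] in
include hp in
theorem powConv_add_mul (a t : ℕ) : SGA3b.powConv R A (p * t + a) = SGA3b.powConv R A a := by
  unfold SGA3b.powConv
  rw [pow_add, pow_mul, hp, one_pow, one_mul]

include hp in
theorem powConv_units_mul (m n : (ZMod p)ˣ) :
    (SGA3b.powConv R A (m : ZMod p).val).comp (SGA3b.powConv R A (n : ZMod p).val) =
      SGA3b.powConv R A ((m * n : (ZMod p)ˣ) : ZMod p).val := by
  rw [powConv_comp]
  have h1 : ((m * n : (ZMod p)ˣ) : ZMod p).val = ((m : ZMod p).val * (n : ZMod p).val) % p := by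
    rw [Units.val_mul, ZMod.val_mul]
  have h2 := Nat.div_add_mod ((m : ZMod p).val * (n : ZMod p).val) p
  rw [h1]
  conv_lhs => rw [← h2]
  exact powConv_add_mul p R A hp _ _

/-- `m ↦ [m]` as a monoid homomorphism into `End A` -/
noncomputable def phi : (ZMod p)ˣ →* Module.End R A where
  toFun m := (SGA3b.powConv R A (m : ZMod p).val).toLinearMap
  map_one' := by
    have h1 : ((1 : (ZMod p)ˣ) : ZMod p).val = 1 := by
      rw [Units.val_one]
      haveI : Fact (1 < p) := ⟨(Fact.out : p.Prime).one_lt⟩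
      exact ZMod.val_one p
    rw [h1]
    unfold SGA3b.powConv
    rw [pow_one, ofConv_toConv]
    rfl
  map_mul' m n := by
    rw [← powConv_units_mul p R A hp m n]
    rfl

/-- the algebra map from the group algebra to `End A` -/
noncomputable def Theta : MonoidAlgebra R (ZMod p)ˣ →ₐ[R] Module.End R A :=
  MonoidAlgebra.lift R (Module.End R A) (ZMod p)ˣ (phi p R A hp)

theorem Theta_of (m : (ZMod p)ˣ) :
    Theta p R A hp (MonoidAlgebra.of R (ZMod p)ˣ m) =
      (SGA3b.powConv R A (m : ZMod p).val).toLinearMap := by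
  unfold Theta
  rw [MonoidAlgebra.lift_of]
  rfl

theorem Theta_S (i : ℕ) :
    Theta p R A hp (u • S p R χ i) = OortTate.proj R A p u χ i := by
  unfold S OortTate.proj coef
  rw [map_smul, map_sum]
  congr 1
  apply Finset.sum_congr rfl
  intro m _
  rw [map_smul, Theta_of]

theorem of_mul_S (n : (ZMod p)ˣ) (i : ℕ) :
    MonoidAlgebra.of R (ZMod p)ˣ n * S p R χ i = (((χ n : Rˣ) : R) ^ i) • S p R χ i := by
  unfold S
  rw [Finset.mul_sum, Finset.smul_sum]
  simp_rw [mul_smul_comm, ← map_mul]
  rw [← Fintype.sum_equiv (Equiv.mulLeft n)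
    (fun m => coef p R χ i m • MonoidAlgebra.of R (ZMod p)ˣ (n * m))
    (fun l => (((χ n : Rˣ) : R) ^ i) • coef p R χ i l • MonoidAlgebra.of R (ZMod p)ˣ l)]
  intro m
  simp only [Equiv.coe_mulLeft]
  rw [smul_smul]
  congr 1
  unfold coef
  have h1 : (χ n : Rˣ) * χ ((n * m)⁻¹) = χ m⁻¹ := by
    rw [← map_mul, mul_inv_rev, mul_comm m⁻¹, mul_inv_cancel_left]
  rw [← mul_pow, ← Units.val_mul, h1]

include hu hχ hp in
theorem proj_complete :
    CompleteOrthogonalIdempotents (fun i : Fin (p - 1) => OortTate.proj R A p u χ (i : ℕ)) := by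
  have h := (OTIdem9.complete p R u hu χ hχ).map (Theta p R A hp).toRingHom
  convert h using 1
  funext i
  exact (Theta_S p R u χ A hp i).symm

include hp in
theorem powConv_proj (n : (ZMod p)ˣ) (i : ℕ) (f : A) :
    SGA3b.powConv R A (n : ZMod p).val (OortTate.proj R A p u χ i f) =
      (((χ n : Rˣ) : R) ^ i) • OortTate.proj R A p u χ i f := by
  have h0 : u • (MonoidAlgebra.of R (ZMod p)ˣ n * S p R χ i) =
      u • ((((χ n : Rˣ) : R) ^ i) • S p R χ i) := congrArg (fun x => u • x) (of_mul_S p R χ n i)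
  have h := congrArg (Theta p R A hp) h0
  rw [← mul_smul_comm, map_mul, Theta_of, Theta_S, smul_comm, map_smul, Theta_S] at h
  exact LinearMap.congr_fun h f

theorem counit_proj (i : ℕ) (f : A) (hf : Bialgebra.counitAlgHom R A f = 0) :
    Bialgebra.counitAlgHom R A (OortTate.proj R A p u χ i f) = 0 := by
  unfold OortTate.proj
  rw [LinearMap.smul_apply, LinearMap.sum_apply, map_smul, map_sum]
  have : ∀ m : (ZMod p)ˣ, Bialgebra.counitAlgHom R A
      (((((χ m⁻¹ : Rˣ) : R) ^ i) • (SGA3b.powConv R A (m : ZMod p).val).toLinearMap) f) = 0 := by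
    intro m
    rw [LinearMap.smul_apply, map_smul, AlgHom.toLinearMap_apply, ← AlgHom.comp_apply, counit_powConv,
      hf, smul_zero]
  simp_rw [this]
  rw [Finset.sum_const_zero, smul_zero]

include hu in
theorem proj_of_mem_eigenAug (i : ℕ) (f : A) (hf : f ∈ OortTate.eigenAug R A p χ i) :
    OortTate.proj R A p u χ i f = f := by
  unfold OortTate.eigenAug at hf
  have hf2 := (Submodule.mem_inf.mp hf).2
  rw [Submodule.mem_iInf] at hf2
  unfold OortTate.proj
  rw [LinearMap.smul_apply, LinearMap.sum_apply]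
  have : ∀ m : (ZMod p)ˣ, ((((χ m⁻¹ : Rˣ) : R) ^ i) •
      (SGA3b.powConv R A (m : ZMod p).val).toLinearMap) f = f := by
    intro m
    have h1 := Module.End.mem_eigenspace_iff.mp (hf2 m)
    rw [LinearMap.smul_apply, h1, smul_smul, ← mul_pow, ← Units.val_mul, ← map_mul, inv_mul_cancel,
      map_one, Units.val_one, one_pow, one_smul]
  simp_rw [this]
  rw [Finset.sum_const, Finset.card_univ, ZMod.card_units p, ← Nat.cast_smul_eq_nsmul R, smul_smul, hu,
    one_smul]

include hu hp in
theorem eigenAug_eq (i : ℕ) :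
    OortTate.eigenAug R A p χ i =
      Submodule.map (OortTate.proj R A p u χ i)
        (LinearMap.ker (Bialgebra.counitAlgHom R A).toLinearMap) := by
  apply le_antisymm
  · intro f hf
    refine ⟨f, (Submodule.mem_inf.mp hf).1, proj_of_mem_eigenAug p R u hu χ A i f hf⟩
  · rintro _ ⟨g, hg, rfl⟩
    unfold OortTate.eigenAug
    refine Submodule.mem_inf.mpr ⟨?_, ?_⟩
    · exact counit_proj p R u χ A i g hg
    · rw [Submodule.mem_iInf]
      intro m
      rw [Module.End.mem_eigenspace_iff]
      exact powConv_proj p R u χ A hp m i g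

include hu hχ hp in
theorem decomposition :
    iSupIndep (fun i : Fin (p - 1) => OortTate.eigenAug R A p χ (i : ℕ)) ∧
      (⨆ i : Fin (p - 1), OortTate.eigenAug R A p χ (i : ℕ)) =
        LinearMap.ker (Bialgebra.counitAlgHom R A).toLinearMap := by
  have hcoi := proj_complete p R u hu χ hχ A hp
  constructor
  · rw [iSupIndep_def]
    intro i
    rw [Submodule.disjoint_def]
    intro x hx hx'
    have h1 : OortTate.proj R A p u χ (i : ℕ) x = x := proj_of_mem_eigenAug p R u hu χ A i x hx
    have h2 : (⨆ j, ⨆ (_ : j ≠ i), OortTate.eigenAug R A p χ (j : ℕ)) ≤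
        LinearMap.ker (OortTate.proj R A p u χ (i : ℕ)) := by
      apply iSup_le
      intro j
      apply iSup_le
      intro hji
      intro y hy
      rw [LinearMap.mem_ker, ← proj_of_mem_eigenAug p R u hu χ A j y hy]
      have := hcoi.ortho (Ne.symm hji)
      exact LinearMap.congr_fun this y
    have h3 := h2 hx'
    rw [LinearMap.mem_ker, h1] at h3
    exact h3
  · apply le_antisymm
    · apply iSup_le
      intro i
      exact fun f hf => (Submodule.mem_inf.mp hf).1
    · intro f hf
      have h1 : f = ∑ i : Fin (p - 1), OortTate.proj R A p u χ (i : ℕ) f := by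
        have := LinearMap.congr_fun hcoi.complete f
        rw [LinearMap.sum_apply] at this
        exact this.symm
      rw [h1]
      apply Submodule.sum_mem
      intro i _
      apply Submodule.mem_iSup_of_mem i
      rw [eigenAug_eq p R u hu χ A hp]
      exact ⟨f, hf, rfl⟩

end Main

end OTEigen9
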