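import Mathlib

namespace Groth.Agent.Lib.PthClosed
open Polynomial

universe u v

section poly
variable {k : Type*} [Field k] (p : ℕ) [hp : Fact p.Prime] [CharP k p]

/-- the recursive polynomials -/
noncomputable def Xp (a : ℕ → k) : ℕ → k[X]
  | 0 => C (a 0) * X ^ p
  | (i + 1) => (Xp a i) ^ p + C (a (i + 1)) * X ^ p

lemma Xp_zero (a : ℕ → k) : Xp p a 0 = C (a 0) * X ^ p := rfl
lemma Xp_succ (a : ℕ → k) (i : ℕ) : Xp p a (i + 1) = (Xp p a i) ^ p + C (a (i + 1)) * X ^ p := rfl

lemma Xp_eval_zero (a : ℕ → k) (i : ℕ) : (Xp p a i).eval 0 = 0 := by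
  have hp0 : p ≠ 0 := hp.out.ne_zero
  induction i with
  | zero => simp [Xp_zero, hp0]
  | succ i ih => simp [Xp_succ, ih, hp0]

lemma Xp_derivative (a : ℕ → k) (i : ℕ) : derivative (Xp p a i) = 0 := by
  have hpk' : ((p : ℕ) : k) = 0 := CharP.cast_eq_zero k p
  have hpk : ((p : ℕ) : k[X]) = 0 := by
    rw [← C_eq_natCast, hpk', C_0]
  cases i with
  | zero => simp [Xp_zero, derivative_X_pow, hpk, hpk']
  | succ i => simp [Xp_succ, derivative_pow, derivative_X_pow, hpk, hpk']

lemma Xp_ne_zero_or (a : ℕ → k) (i : ℕ) :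
    (Xp p a i ≠ 0 → p ≤ (Xp p a i).natDegree) ∧ (Xp p a i = 0 → ∀ j ≤ i, a j = 0) := by
  have hp0 : p ≠ 0 := hp.out.ne_zero
  have hp2 : 2 ≤ p := hp.out.two_le
  have base : ∀ b : k, (C b * X ^ p : k[X]) ≠ 0 → p ≤ (C b * X ^ p : k[X]).natDegree := by
    intro b hb
    have hb0 : b ≠ 0 := by rintro rfl; simp at hb
    rw [natDegree_C_mul_X_pow p b hb0]
  have base0 : ∀ b : k, (C b * X ^ p : k[X]) = 0 → b = 0 := by
    intro b hb
    by_contra hb0
    have := natDegree_C_mul_X_pow p b hb0
    rw [hb, natDegree_zero] at this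
    exact hp0 this.symm
  induction i with
  | zero =>
    refine ⟨base _, fun h j hj => ?_⟩
    obtain rfl : j = 0 := Nat.le_zero.mp hj
    exact base0 _ h
  | succ i ih =>
    by_cases hY : Xp p a i = 0
    · have hX : Xp p a (i + 1) = C (a (i + 1)) * X ^ p := by
        rw [Xp_succ, hY, zero_pow hp0, zero_add]
      rw [hX]
      refine ⟨base _, fun h j hj => ?_⟩
      rcases Nat.le_succ_iff.mp hj with hj' | rfl
      · exact ih.2 hY j hj'
      · exact base0 _ h
    · have hdeg := ih.1 hY
      have h1 : (C (a (i + 1)) * X ^ p : k[X]).natDegree < ((Xp p a i) ^ p).natDegree := by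
        rw [natDegree_pow]
        calc (C (a (i + 1)) * X ^ p : k[X]).natDegree ≤ p := natDegree_C_mul_X_pow_le _ _
          _ < p * 2 := by omega
          _ ≤ p * (Xp p a i).natDegree := Nat.mul_le_mul_left p (by omega)
      have h2 : (Xp p a (i + 1)).natDegree = ((Xp p a i) ^ p).natDegree := by
        rw [Xp_succ]
        exact natDegree_add_eq_left_of_natDegree_lt h1
      have h3 : p ≤ (Xp p a (i + 1)).natDegree := by
        rw [h2, natDegree_pow]
        calc p ≤ p * 2 := by omega
          _ ≤ p * (Xp p a i).natDegree := Nat.mul_le_mul_left p (by omega)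
      refine ⟨fun _ => h3, fun h => ?_⟩
      rw [h, natDegree_zero] at h3
      exact absurd (Nat.le_zero.mp h3) hp0

lemma exists_root [IsAlgClosed k] (a : ℕ → k) (m : ℕ) (ha : ∃ j ≤ m, a j ≠ 0) :
    ∃ t : k, t ≠ 0 ∧ (Xp p a m).eval t = t := by
  have hP0 : (Xp p a m - X).coeff 0 = 0 := by
    rw [coeff_zero_eq_eval_zero, eval_sub, Xp_eval_zero, eval_X, sub_zero]
  obtain ⟨Q, hQ⟩ := X_dvd_iff.mpr hP0
  have hder : derivative (Xp p a m - X) = -1 := by
    rw [derivative_sub, Xp_derivative, derivative_X, zero_sub]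
  have hQ0 : Q.eval 0 = -1 := by
    have := congrArg (eval 0) hder
    rw [hQ, derivative_mul, derivative_X, one_mul, eval_add, eval_mul, eval_X, zero_mul,
      add_zero, eval_neg, eval_one] at this
    exact this
  have hQdeg : Q.degree ≠ 0 := by
    intro hdeg
    have hQC : Q = C (Q.coeff 0) := eq_C_of_degree_eq_zero hdeg
    have hc : Q.coeff 0 = -1 := by rw [coeff_zero_eq_eval_zero]; exact hQ0
    rw [hc] at hQC
    have hX0 : Xp p a m = 0 := by
      have h1 : Xp p a m - X = X * C (-1) := by rw [← hQC]; exact hQ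
      have h2 : Xp p a m = X * C (-1) + X := by rw [← h1]; ring
      rw [h2]; simp
    obtain ⟨j, hj, hj0⟩ := ha
    exact hj0 ((Xp_ne_zero_or p a m).2 hX0 j hj)
  obtain ⟨t, ht⟩ := IsAlgClosed.exists_root Q hQdeg
  have ht' : Q.eval t = 0 := ht
  refine ⟨t, ?_, ?_⟩
  · rintro rfl
    rw [hQ0] at ht'
    exact absurd ht' (neg_ne_zero.mpr one_ne_zero)
  · have h1 : (Xp p a m - X).eval t = 0 := by rw [hQ, eval_mul, ht', mul_zero]
    rw [eval_sub, eval_X, sub_eq_zero] at h1
    exact h1

end poly

theorem main (k : Type u) [Field k] [IsAlgClosed k]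
    (p : ℕ) [Fact p.Prime] [CharP k p] (V : Type v) [AddCommGroup V] [Module k V]
    [FiniteDimensional k V]
    (g : Submodule k (Module.End k V)) (hg : ∀ u ∈ g, u ^ p ∈ g) (hne : g ≠ ⊥) :
    ∃ u ∈ g, u ≠ 0 ∧ ∃ c : k, u ^ p = c • u := by
  classical
  obtain ⟨u0, hu0g, hu0⟩ := Submodule.exists_mem_ne_zero_of_ne_bot hne
  let e : ℕ → Module.End k V := fun i => u0 ^ (p ^ i)
  have he0 : e 0 = u0 := by simp [e]
  have he_succ : ∀ i, e (i + 1) = (e i) ^ p := fun i => by
    show u0 ^ (p ^ (i + 1)) = (u0 ^ (p ^ i)) ^ p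
    rw [pow_succ, pow_mul]
  have heg : ∀ i, e i ∈ g := by
    intro i
    induction i with
    | zero => rw [he0]; exact hu0g
    | succ i ih => rw [he_succ]; exact hg _ ih
  by_cases hzero : ∃ i, e i = 0
  · have hi0 : e (Nat.find hzero) = 0 := Nat.find_spec hzero
    have hi0pos : Nat.find hzero ≠ 0 := by
      intro h
      rw [h, he0] at hi0
      exact hu0 hi0
    obtain ⟨j, hj⟩ := Nat.exists_eq_succ_of_ne_zero hi0pos
    have hjne : e j ≠ 0 := fun h => Nat.find_min hzero (by omega : j < Nat.find hzero) h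
    refine ⟨e j, heg j, hjne, 0, ?_⟩
    rw [zero_smul, ← he_succ, ← Nat.succ_eq_add_one, ← hj]
    exact hi0
  · push_neg at hzero
    have hex : ∃ n, e n ∈ Submodule.span k (Set.range fun i : Fin n => e i) := by
      by_contra hcon
      push_neg at hcon
      let Wn : ℕ →o Submodule k (Module.End k V) :=
        ⟨fun n => Submodule.span k (Set.range fun i : Fin n => e i), fun a b hab =>
          Submodule.span_mono (Set.range_subset_iff.mpr fun i => ⟨Fin.castLE hab i, rfl⟩)⟩
      obtain ⟨n, hn⟩ := monotone_stabilizes_iff_noetherian.mpr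
        (inferInstance : IsNoetherian k (Module.End k V)) Wn
      have h1 : e n ∈ Wn (n + 1) := Submodule.subset_span ⟨Fin.last n, rfl⟩
      rw [← hn (n + 1) (Nat.le_succ n)] at h1
      exact hcon n h1
    obtain ⟨n, hn_spec, hn_min⟩ : ∃ n, e n ∈ Submodule.span k (Set.range fun i : Fin n => e i) ∧
        ∀ m < n, e m ∉ Submodule.span k (Set.range fun i : Fin m => e i) :=
      ⟨Nat.find hex, Nat.find_spec hex, fun m hm => Nat.find_min hex hm⟩
    cases n with
    | zero =>
      exfalso
      simp at hn_spec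
      exact hzero 0 hn_spec
    | succ m =>
      obtain ⟨c, hc⟩ := (Submodule.mem_span_range_iff_exists_fun k).mp hn_spec
      let a : ℕ → k := fun i => if h : i < m + 1 then c ⟨i, h⟩ else 0
      have ha_sum : ∑ i ∈ Finset.range (m + 1), a i • e i = e (m + 1) := by
        rw [Finset.sum_range, ← hc]
        refine Finset.sum_congr rfl (fun i _ => ?_)
        simp only [a, dif_pos i.2]
      have ha_ne : ∃ j ≤ m, a j ≠ 0 := by
        by_contra hall
        push_neg at hall
        apply hzero (m + 1)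
        rw [← ha_sum]
        refine Finset.sum_eq_zero (fun i hi => ?_)
        rw [hall i (Nat.lt_succ_iff.mp (Finset.mem_range.mp hi)), zero_smul]
      obtain ⟨t, ht0, ht⟩ := exists_root p a m ha_ne
      let x : ℕ → k := fun i => (Xp p a i).eval t
      have hx0 : x 0 = a 0 * t ^ p := by simp [x, Xp_zero]
      have hxs : ∀ i, x (i + 1) = x i ^ p + a (i + 1) * t ^ p := fun i => by
        simp [x, Xp_succ]
      have hxm : x m = t := ht
      let uu : Module.End k V := ∑ i ∈ Finset.range (m + 1), x i • e i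
      have huu_mem : uu ∈ g := Submodule.sum_mem _ (fun i _ => g.smul_mem _ (heg i))
      have huu_ne : uu ≠ 0 := by
        intro h0
        apply hn_min m (Nat.lt_succ_self m)
        have h1 : ∑ i ∈ Finset.range m, x i • e i + t • e m = 0 := by
          have := h0
          simp only [uu] at this
          rw [Finset.sum_range_succ, hxm] at this
          exact this
        have h2 : e m = ∑ i ∈ Finset.range m, (-(t⁻¹ * x i)) • e i := by
          have h3 : t • e m = -∑ i ∈ Finset.range m, x i • e i := by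
            rw [eq_neg_iff_add_eq_zero, add_comm]; exact h1
          have h4 : e m = t⁻¹ • (t • e m) := by rw [smul_smul, inv_mul_cancel₀ ht0, one_smul]
          rw [h4, h3, smul_neg, Finset.smul_sum, ← Finset.sum_neg_distrib]
          refine Finset.sum_congr rfl (fun i _ => ?_)
          rw [smul_smul, neg_smul]
        rw [h2]
        refine Submodule.sum_mem _ (fun i hi => Submodule.smul_mem _ _ ?_)
        exact Submodule.subset_span ⟨⟨i, Finset.mem_range.mp hi⟩, rfl⟩
      have hUp : uu ^ p = ∑ i ∈ Finset.range (m + 1), (x i) ^ p • e (i + 1) := by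
        haveI : ExpChar k[X] p := ExpChar.prime (Fact.out : p.Prime)
        have h1 : uu = aeval u0
            (∑ i ∈ Finset.range (m + 1), C (x i) * X ^ (p ^ i) : k[X]) := by
          rw [map_sum]
          refine Finset.sum_congr rfl (fun i _ => ?_)
          rw [map_mul, aeval_C, aeval_X_pow, Algebra.smul_def]
        rw [h1, ← map_pow, sum_pow_char, map_sum]
        refine Finset.sum_congr rfl (fun i _ => ?_)
        rw [mul_pow, ← C_pow, ← pow_mul, ← pow_succ, map_mul, aeval_C, aeval_X_pow,
          Algebra.smul_def]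
      refine ⟨uu, huu_mem, huu_ne, 1, ?_⟩
      rw [one_smul, hUp]
      -- algebra
      rw [Finset.sum_range_succ, hxm, ← ha_sum]
      show _ = ∑ i ∈ Finset.range (m + 1), x i • e i
      rw [Finset.sum_range_succ' (fun i => x i • e i), Finset.sum_range_succ' (fun i => a i • e i),
        hx0]
      simp only [hxs, add_smul, Finset.sum_add_distrib, smul_add, Finset.smul_sum, smul_smul]
      have h5 : ∀ i, (t ^ p * a (i + 1)) • e (i + 1) = (a (i + 1) * t ^ p) • e (i + 1) :=
        fun i => by rw [mul_comm]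
      simp only [h5]
      rw [mul_comm (t ^ p) (a 0)]
      abel

end Groth.Agent.Lib.PthClosed
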