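import Mathlib
import Groth.Prelude.Def_AlphaP
import Groth.Prelude.Def_ConstGrp
import Groth.Agent.Lib.PrimeOrder_helper1
import Groth.Agent.Lib.PthClosed_lead

set_option autoImplicit false
set_option maxHeartbeats 1000000

/-!
# Classification of group schemes of prime order over an algebraically closed field (helper1)

`exists_bialgHom`: uniform comparison of a bialgebra with an ε-derivation `D`, `D^p = c D`, with a
model `M` (α_p or μ_p) having an ε-derivation `E`, `E^p = c E`, whose powers span the dual.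
-/

namespace PrimeClassH1

open TensorProduct WithConv Coalgebra PrimeOrderH1

universe u v w

section General

variable {k : Type*} {A : Type*} [Field k] [CommRing A] [Bialgebra k A]

/-- ε-derivations -/
def IsDer (D : A →ₗ[k] k) : Prop :=
  ∀ a b, D (a * b) = counit (R := k) a * D b + D a * counit (R := k) b

theorem one_ap (a : A) : (1 : WithConv (A →ₗ[k] k)) a = counit (R := k) a := rfl

theorem smul_ap (c : k) (F : WithConv (A →ₗ[k] k)) (a : A) : (c • F) a = c * F a := rfl

theorem add_ap (F G : WithConv (A →ₗ[k] k)) (a : A) : (F + G) a = F a + G a := rfl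

theorem glike_pow (F : WithConv (A →ₗ[k] k)) {g : A} (hg1 : counit (R := k) g = 1)
    (hg : comul (R := k) g = g ⊗ₜ[k] g) (n : ℕ) : (F ^ n) g = (F g) ^ n := by
  induction n with
  | zero =>
    rw [pow_zero, pow_zero, one_ap, hg1]
  | succ n ih =>
    rw [pow_succ, pow_succ, LinearMap.convMul_apply, hg, TensorProduct.map_tmul,
      LinearMap.mul'_apply]
    exact congrArg (fun t => t * F g) ih

theorem deriv_one (D : A →ₗ[k] k) (hD : IsDer D) : D 1 = 0 := by
  have h := hD 1 1
  rw [mul_one, Bialgebra.counit_one, one_mul, mul_one] at h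
  linear_combination (-1 : k) * h

theorem pow_one_apply (D : A →ₗ[k] k) (hD : IsDer D) (i : ℕ) :
    ((toConv D : WithConv (A →ₗ[k] k)) ^ i) 1 = (0 : k) ^ i := by
  rw [glike_pow _ (Bialgebra.counit_one) (by rw [Bialgebra.comul_one, Algebra.TensorProduct.one_def])]
  show (D 1) ^ i = 0 ^ i
  rw [deriv_one D hD]

theorem pow_p_deriv (p : ℕ) [hp : Fact p.Prime] [CharP k p] (D : A →ₗ[k] k) (hD : IsDer D) :
    IsDer ((toConv D : WithConv (A →ₗ[k] k)) ^ p).ofConv := by
  intro a b
  show ((toConv D : WithConv (A →ₗ[k] k)) ^ p) (a * b) =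
    counit (R := k) a * ((toConv D : WithConv (A →ₗ[k] k)) ^ p) b +
      ((toConv D : WithConv (A →ₗ[k] k)) ^ p) a * counit (R := k) b
  rw [leibniz D hD p a b, Finset.sum_eq_add (0 : ℕ) p hp.out.pos.ne]
  · rw [Nat.choose_zero_right, Nat.cast_one, one_mul, Nat.sub_zero, Nat.choose_self, Nat.cast_one,
      one_mul, Nat.sub_self, pow_zero, one_ap, one_ap]
  · intro m hm hne
    have hmlt : m < p := by
      have := Finset.mem_range.mp hm
      omega
    have hdvd : p ∣ p.choose m := hp.out.dvd_choose_self hne.1 hmlt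
    rw [(CharP.cast_eq_zero_iff k p _).mpr hdvd, zero_mul]
  · intro h
    exact absurd (Finset.mem_range.mpr (Nat.succ_pos p)) h
  · intro h
    exact absurd (Finset.mem_range.mpr (Nat.lt_succ_self p)) h

theorem prim_pow (D : A →ₗ[k] k) (hD : IsDer D) {x : A}
    (hx : comul (R := k) x = x ⊗ₜ[k] 1 + 1 ⊗ₜ[k] x) (n : ℕ) (hn : 2 ≤ n) :
    ((toConv D : WithConv (A →ₗ[k] k)) ^ n) x = 0 := by
  obtain ⟨m, rfl⟩ : ∃ m, n = (m + 1) + 1 := ⟨n - 2, by omega⟩
  rw [pow_succ, LinearMap.convMul_apply, hx, map_add, map_add, TensorProduct.map_tmul,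
    TensorProduct.map_tmul, LinearMap.mul'_apply, LinearMap.mul'_apply]
  have h1 : (toConv D : WithConv (A →ₗ[k] k)).ofConv 1 = 0 := deriv_one D hD
  have h2 : ((toConv D : WithConv (A →ₗ[k] k)) ^ (m + 1)).ofConv 1 = 0 := by
    have := pow_one_apply D hD (m + 1)
    rw [zero_pow (Nat.succ_ne_zero m)] at this
    exact this
  rw [h1, h2, mul_zero, zero_mul, add_zero]

theorem deriv_pow_zero (F : A →ₗ[k] k) (hF : IsDer F) {x : A} (hx : counit (R := k) x = 0)
    (hFx : F x = 0) (j : ℕ) : F (x ^ j) = 0 := by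
  induction j with
  | zero => rw [pow_zero]; exact deriv_one F hF
  | succ j ih => rw [pow_succ, hF, hFx, hx, mul_zero, mul_zero, add_zero]

/-- the comparison map `a ↦ (D^i a)_{i<p}` -/
noncomputable def Phi (p : ℕ) (D : A →ₗ[k] k) : A →ₗ[k] (Fin p → k) :=
  LinearMap.pi (fun i => ((toConv D : WithConv (A →ₗ[k] k)) ^ (i : ℕ)).ofConv)

theorem Phi_apply (p : ℕ) (D : A →ₗ[k] k) (a : A) (i : Fin p) :
    Phi p D a i = ((toConv D : WithConv (A →ₗ[k] k)) ^ (i : ℕ)) a := rfl

theorem Phi_inj (p : ℕ) (D : A →ₗ[k] k)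
    (hspan : Submodule.span k (Set.range
      (fun i : Fin p => (toConv D : WithConv (A →ₗ[k] k)) ^ (i : ℕ))) = ⊤) :
    Function.Injective (Phi p D) := by
  rw [injective_iff_map_eq_zero]
  intro a ha
  have h1 : ∀ F : WithConv (A →ₗ[k] k), F a = 0 := by
    intro F
    have hF : F ∈ Submodule.span k (Set.range
        (fun i : Fin p => (toConv D : WithConv (A →ₗ[k] k)) ^ (i : ℕ))) := by
      rw [hspan]
      exact Submodule.mem_top
    induction hF using Submodule.span_induction with
    | mem x hx =>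
      obtain ⟨i, rfl⟩ := hx
      exact congrFun ha i
    | zero => rfl
    | add x y _ _ hx hy => rw [add_ap, hx, hy, add_zero]
    | smul c x _ hx => rw [smul_ap, hx, mul_zero]
  exact (Module.forall_dual_apply_eq_zero_iff k a).mp (fun φ => h1 (toConv φ))

theorem li_pows (p : ℕ) [hp : Fact p.Prime] [CharP k p] (D : A →ₗ[k] k) (hD : IsDer D) {x : A}
    (hx : x ∈ InfOrderH1.augI k A) (hDx : D x = 1) :
    LinearIndependent k (fun i : Fin p => (toConv D : WithConv (A →ₗ[k] k)) ^ (i : ℕ)) := by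
  rw [Fintype.linearIndependent_iff]
  intro c hc
  let M : Matrix (Fin p) (Fin p) k :=
    fun i j => ((toConv D : WithConv (A →ₗ[k] k)) ^ (i : ℕ)) (x ^ (j : ℕ))
  have hM : M.BlockTriangular OrderDual.toDual := by
    intro i j hij
    have hij' : (i : ℕ) < (j : ℕ) := hij
    exact pow_vanish D hD i _
      (Ideal.pow_le_pow_right (by omega) (Ideal.pow_mem_pow hx j))
  have hdet : M.det ≠ 0 := by
    rw [Matrix.det_of_lowerTriangular M hM, Finset.prod_ne_zero_iff]
    intro i _
    show ((toConv D : WithConv (A →ₗ[k] k)) ^ (i : ℕ)) (x ^ (i : ℕ)) ≠ 0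
    rw [pow_diag D hD hx hDx]
    intro h0
    rw [CharP.cast_eq_zero_iff k p, hp.out.dvd_factorial] at h0
    exact absurd i.isLt (not_lt.mpr h0)
  have hv : Matrix.vecMul c M = 0 := by
    funext j
    have h5 := congrArg (fun Z : WithConv (A →ₗ[k] k) => Z (x ^ (j : ℕ))) hc
    simp only [eval_sum] at h5
    exact h5
  have h6 := Matrix.eq_zero_of_vecMul_eq_zero hdet hv
  intro i
  exact congrFun h6 i

theorem Phi_surj (p : ℕ) (D : A →ₗ[k] k)
    (hli : LinearIndependent k (fun i : Fin p => (toConv D : WithConv (A →ₗ[k] k)) ^ (i : ℕ))) :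
    Function.Surjective (Phi p D) := by
  classical
  rw [← LinearMap.range_eq_top]
  by_contra hne
  obtain ⟨f, hf0, hf⟩ := Submodule.exists_le_ker_of_lt_top _ (lt_top_iff_ne_top.mpr hne)
  apply hf0
  have hsum : ∑ i : Fin p, f (fun j => if i = j then 1 else 0) •
      ((toConv D : WithConv (A →ₗ[k] k)) ^ (i : ℕ)) = 0 := by
    apply WithConv.ext
    apply LinearMap.ext
    intro a
    have h1 : f (Phi p D a) = 0 := hf (LinearMap.mem_range_self _ a)
    rw [LinearMap.pi_apply_eq_sum_univ f (Phi p D a)] at h1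
    show (∑ i : Fin p, f (fun j => if i = j then 1 else 0) •
      ((toConv D : WithConv (A →ₗ[k] k)) ^ (i : ℕ))) a = 0
    rw [eval_sum]
    refine Eq.trans ?_ h1
    apply Finset.sum_congr rfl
    intro i _
    rw [smul_eq_mul, mul_comm]
    rfl
  have hc := Fintype.linearIndependent_iff.mp hli _ hsum
  apply LinearMap.ext
  intro x
  rw [LinearMap.pi_apply_eq_sum_univ f x, LinearMap.zero_apply]
  apply Finset.sum_eq_zero
  intro i _
  rw [hc i, smul_zero]

theorem exists_x (D : A →ₗ[k] k) (hD : IsDer D) (hne : D ≠ 0) :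
    ∃ x ∈ InfOrderH1.augI k A, D x = 1 := by
  obtain ⟨a, ha⟩ : ∃ a, D a ≠ 0 := by
    by_contra hcon
    push Not at hcon
    exact hne (LinearMap.ext hcon)
  have hD1 : D 1 = 0 := deriv_one D hD
  refine ⟨(D a)⁻¹ • (a - algebraMap k A (counit (R := k) a)), ?_, ?_⟩
  · rw [InfOrderH1.mem_augI, map_smul, map_sub, Bialgebra.counit_algebraMap, sub_self, smul_zero]
  · rw [map_smul, map_sub, Algebra.algebraMap_eq_smul_one, map_smul, hD1, smul_zero, sub_zero,
      smul_eq_mul, inv_mul_cancel₀ ha]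

end General

section Span

variable {k : Type*} [Field k]

theorem map_mul_of_span {E F : Type*} [Ring E] [Algebra k E] [Ring F] [Algebra k F]
    (T : E →ₗ[k] F) (S : Set E) (hS : Submodule.span k S = ⊤)
    (h : ∀ a ∈ S, ∀ b ∈ S, T (a * b) = T a * T b) : ∀ f g, T (f * g) = T f * T g := by
  intro f g
  have hf : f ∈ Submodule.span k S := hS ▸ Submodule.mem_top
  have hg : g ∈ Submodule.span k S := hS ▸ Submodule.mem_top
  induction hf using Submodule.span_induction with
  | mem a ha =>
    induction hg using Submodule.span_induction with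
    | mem b hb => exact h a ha b hb
    | zero => rw [mul_zero, map_zero, mul_zero]
    | add x y _ _ hx hy => rw [mul_add, map_add, hx, hy, map_add, mul_add]
    | smul c x _ hx => rw [mul_smul_comm, map_smul, hx, map_smul, mul_smul_comm]
  | zero => rw [zero_mul, map_zero, zero_mul]
  | add x y _ _ hx hy => rw [add_mul, map_add, hx, hy, map_add, add_mul]
  | smul c x _ hx => rw [smul_mul_assoc, map_smul, hx, map_smul, smul_mul_assoc]

variable {A M : Type*} [AddCommGroup A] [Module k A] [Coalgebra k A]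
  [AddCommGroup M] [Module k M] [Coalgebra k M] [Module.Finite k M]

/-- a linear map is compatible with comultiplication as soon as its transpose is multiplicative on
a spanning set -/
theorem comul_compat (ψ : A →ₗ[k] M) (S : Set (WithConv (M →ₗ[k] k)))
    (hS : Submodule.span k S = ⊤)
    (h : ∀ f ∈ S, ∀ g ∈ S, (toConv ((f * g).ofConv ∘ₗ ψ) : WithConv (A →ₗ[k] k)) =
        toConv (f.ofConv ∘ₗ ψ) * toConv (g.ofConv ∘ₗ ψ)) :
    TensorProduct.map ψ ψ ∘ₗ comul = comul ∘ₗ ψ := by
  let T : WithConv (M →ₗ[k] k) →ₗ[k] WithConv (A →ₗ[k] k) :=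
    { toFun := fun f => toConv (f.ofConv ∘ₗ ψ)
      map_add' := fun f g => by
        apply WithConv.ext
        apply LinearMap.ext
        intro x
        rfl
      map_smul' := fun c f => by
        apply WithConv.ext
        apply LinearMap.ext
        intro x
        rfl }
  have hT : ∀ f g, T (f * g) = T f * T g := map_mul_of_span T S hS h
  apply LinearMap.ext
  intro a
  rw [← sub_eq_zero]
  apply sep
  intro f g
  rw [map_sub, map_sub, sub_eq_zero]
  have h1 := congrArg (fun F : WithConv (A →ₗ[k] k) => F a) (hT (toConv f) (toConv g))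
  show LinearMap.mul' k k (TensorProduct.map f g (TensorProduct.map ψ ψ (comul a))) =
    LinearMap.mul' k k (TensorProduct.map f g (comul (ψ a)))
  rw [← LinearMap.comp_apply (TensorProduct.map f g), ← TensorProduct.map_comp]
  exact h1.symm

end Span

section Compare

variable {k : Type*} {A M : Type*} [Field k] [CommRing A] [Bialgebra k A] [CommRing M]
  [Bialgebra k M] [Module.Finite k M]

theorem transfer (p : ℕ) (hp2 : 2 ≤ p) (c : k) (D : WithConv (A →ₗ[k] k))
    (E : WithConv (M →ₗ[k] k)) (hDp : D ^ p = c • D) (hEp : E ^ p = c • E) (ψ : A →ₗ[k] M)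
    (h : ∀ i, i < p → ∀ a, (E ^ i) (ψ a) = (D ^ i) a) : ∀ n a, (E ^ n) (ψ a) = (D ^ n) a := by
  intro n
  induction n using Nat.strong_induction_on with
  | _ n ih =>
    intro a
    rcases lt_or_ge n p with hn | hn
    · exact h n hn a
    · have hD' : D ^ n = c • D ^ (n - p + 1) := by
        have h1 : D ^ n = D ^ (n - p) * D ^ p := by
          rw [← pow_add]
          congr 1
          omega
        rw [h1, hDp, mul_smul_comm, ← pow_succ]
      have hE' : E ^ n = c • E ^ (n - p + 1) := by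
        have h1 : E ^ n = E ^ (n - p) * E ^ p := by
          rw [← pow_add]
          congr 1
          omega
        rw [h1, hEp, mul_smul_comm, ← pow_succ]
      rw [hD', hE', smul_ap, smul_ap, ih (n - p + 1) (by omega) a]

theorem exists_bialgHom (p : ℕ) [hp : Fact p.Prime] [CharP k p] (c : k)
    (D : A →ₗ[k] k) (hD : IsDer D) (E : M →ₗ[k] k) (hE : IsDer E)
    (hDp : (toConv D : WithConv (A →ₗ[k] k)) ^ p = c • toConv D)
    (hEp : (toConv E : WithConv (M →ₗ[k] k)) ^ p = c • toConv E)
    (hfr : Module.finrank k M = p) {xM : M} (hxM : xM ∈ InfOrderH1.augI k M) (hExM : E xM = 1) :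
    ∃ ψ : A →ₐc[k] M, (Function.Injective (Phi p D) → Function.Injective ψ) ∧
      (Function.Surjective (Phi p D) → Function.Surjective ψ) := by
  have hspanE := span_pows p hfr E hE hxM hExM
  have hinjE : Function.Injective (Phi p E) := Phi_inj p E hspanE
  have hsurjE : Function.Surjective (Phi p E) :=
    (LinearMap.injective_iff_surjective_of_finrank_eq_finrank
      (by rw [hfr, Module.finrank_fin_fun])).mp hinjE
  let eM := LinearEquiv.ofBijective (Phi p E) ⟨hinjE, hsurjE⟩
  let ψ : A →ₗ[k] M := eM.symm.toLinearMap ∘ₗ Phi p D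
  have hψ : ∀ a, Phi p E (ψ a) = Phi p D a := fun a => eM.apply_symm_apply (Phi p D a)
  have hψi : ∀ i, i < p → ∀ a, ((toConv E : WithConv (M →ₗ[k] k)) ^ i) (ψ a) =
      ((toConv D : WithConv (A →ₗ[k] k)) ^ i) a := fun i hi a => congrFun (hψ a) ⟨i, hi⟩
  have hall := transfer p hp.out.two_le c (toConv D) (toConv E) hDp hEp ψ hψi
  have h1 : ψ 1 = 1 := by
    apply hinjE
    funext i
    rw [hψ, Phi_apply, Phi_apply, pow_one_apply D hD, pow_one_apply E hE]
  have hmul : ∀ a b, ψ (a * b) = ψ a * ψ b := by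
    intro a b
    apply hinjE
    funext i
    rw [hψ, Phi_apply, Phi_apply, leibniz D hD, leibniz E hE]
    apply Finset.sum_congr rfl
    intro m hm
    have hm' := Finset.mem_range.mp hm
    have hi := i.isLt
    rw [hψi m (by omega) a, hψi (i - m) (by omega) b]
  have hcounit : ∀ a, counit (R := k) (ψ a) = counit (R := k) a := by
    intro a
    have h0 := hψi 0 hp.out.pos a
    rw [pow_zero, pow_zero, one_ap, one_ap] at h0
    exact h0
  have key : ∀ n, (toConv (((toConv E : WithConv (M →ₗ[k] k)) ^ n).ofConv ∘ₗ ψ) :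
      WithConv (A →ₗ[k] k)) = (toConv D) ^ n := by
    intro n
    apply WithConv.ext
    apply LinearMap.ext
    intro a
    exact hall n a
  have hcomul : TensorProduct.map ψ ψ ∘ₗ comul = comul ∘ₗ ψ := by
    apply comul_compat ψ _ hspanE
    rintro _ ⟨i, rfl⟩ _ ⟨j, rfl⟩
    show (toConv ((((toConv E : WithConv (M →ₗ[k] k)) ^ (i : ℕ)) *
        ((toConv E) ^ (j : ℕ))).ofConv ∘ₗ ψ) : WithConv (A →ₗ[k] k)) =
      toConv (((toConv E : WithConv (M →ₗ[k] k)) ^ (i : ℕ)).ofConv ∘ₗ ψ) *
        toConv (((toConv E : WithConv (M →ₗ[k] k)) ^ (j : ℕ)).ofConv ∘ₗ ψ)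
    rw [← pow_add, key, key, key, pow_add]
  let ψc : A →ₗc[k] M :=
    { ψ with
      counit_comp := LinearMap.ext hcounit
      map_comp_comul := hcomul }
  let ψb : A →ₐc[k] M :=
    { ψc with
      map_one' := h1
      map_mul' := hmul }
  have hψb : ∀ a, ψb a = ψ a := fun a => rfl
  refine ⟨ψb, ?_, ?_⟩
  · intro hinjD a b hab
    apply hinjD
    rw [← hψ a, ← hψ b, ← hψb, ← hψb, hab]
  · intro hsurjD m
    obtain ⟨a, ha⟩ := hsurjD (Phi p E m)
    refine ⟨a, ?_⟩
    apply hinjE
    rw [hψb, hψ, ha]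

end Compare

section Dual

variable {k : Type*} {M : Type*} [Field k] [CommRing M] [Bialgebra k M]

/-- the ε-derivation attached to an algebra map to the dual numbers lifting the counit -/
noncomputable def Eof (φ : M →ₐ[k] DualNumber k) : M →ₗ[k] k :=
  TrivSqZeroExt.sndHom k k ∘ₗ φ.toLinearMap

theorem Eof_apply (φ : M →ₐ[k] DualNumber k) (a : M) : Eof φ a = TrivSqZeroExt.snd (φ a) := rfl

theorem Eof_deriv (φ : M →ₐ[k] DualNumber k)
    (hfst : ∀ a, TrivSqZeroExt.fst (φ a) = counit (R := k) a) : IsDer (Eof φ) := by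
  intro a b
  rw [Eof_apply, Eof_apply, Eof_apply, map_mul, DualNumber.snd_mul, hfst, hfst]

end Dual

section Alpha

variable (p : ℕ) [hp : Fact p.Prime] (k : Type u) [Field k] [CharP k p]

theorem eps_pow : (DualNumber.eps : DualNumber k) ^ p = 0 := by
  obtain ⟨m, hm⟩ := Nat.exists_eq_add_of_le hp.out.two_le
  rw [hm, pow_add, DualNumber.eps_pow_two, zero_mul]

noncomputable def phiA : AlphaP.A p k →ₐ[k] DualNumber k :=
  AlphaP.lift p k DualNumber.eps (eps_pow p k)

theorem phiA_x : phiA p k (AlphaP.x p k) = DualNumber.eps := AlphaP.lift_x _ _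

theorem phiA_fst (a : AlphaP.A p k) : TrivSqZeroExt.fst (phiA p k a) = counit (R := k) a := by
  have h : (TrivSqZeroExt.fstHom k k k).comp (phiA p k) =
      Bialgebra.counitAlgHom k (AlphaP.A p k) := by
    apply AlphaP.algHom_ext
    rw [AlgHom.comp_apply, phiA_x]
    show TrivSqZeroExt.fst (DualNumber.eps : DualNumber k) = counit (R := k) (AlphaP.x p k)
    rw [AlphaP.counit_x, DualNumber.fst_eps]
  exact AlgHom.congr_fun h a

noncomputable def EA : AlphaP.A p k →ₗ[k] k := Eof (phiA p k)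

theorem EA_deriv : IsDer (EA p k) := Eof_deriv _ (phiA_fst p k)

theorem EA_x : EA p k (AlphaP.x p k) = 1 := by
  rw [EA, Eof_apply, phiA_x, DualNumber.snd_eps]

theorem x_mem : AlphaP.x p k ∈ InfOrderH1.augI k (AlphaP.A p k) :=
  (InfOrderH1.mem_augI _).mpr (AlphaP.counit_x p k)

theorem EA_pow : (toConv (EA p k) : WithConv (AlphaP.A p k →ₗ[k] k)) ^ p =
    (0 : k) • toConv (EA p k) := by
  rw [zero_smul]
  apply WithConv.ext
  apply (AlphaP.basis p k).ext
  intro i
  rw [AlphaP.basis_apply]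
  show ((toConv (EA p k) : WithConv (AlphaP.A p k →ₗ[k] k)) ^ p).ofConv
    (AlphaP.x p k ^ (i : ℕ)) = 0
  apply deriv_pow_zero _ (pow_p_deriv p (EA p k) (EA_deriv p k)) (AlphaP.counit_x p k)
  exact prim_pow (EA p k) (EA_deriv p k) (AlphaP.comul_x p k) p hp.out.two_le

end Alpha

section Mu

variable (p : ℕ) [hp : Fact p.Prime] (k : Type u) [Field k] [CharP k p]

noncomputable def muHom : Multiplicative (ZMod p) →* DualNumber k where
  toFun g := TrivSqZeroExt.inl 1 + TrivSqZeroExt.inr (ZMod.castHom (dvd_refl p) k g.toAdd)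
  map_one' := by
    apply TrivSqZeroExt.ext
    · simp
    · simp
  map_mul' a b := by
    apply TrivSqZeroExt.ext
    · simp
    · simp [add_comm]

theorem muHom_apply (g : Multiplicative (ZMod p)) : muHom p k g =
    TrivSqZeroExt.inl 1 + TrivSqZeroExt.inr (ZMod.castHom (dvd_refl p) k g.toAdd) := rfl

noncomputable def phiM : MonoidAlgebra k (Multiplicative (ZMod p)) →ₐ[k] DualNumber k :=
  MonoidAlgebra.lift k (DualNumber k) (Multiplicative (ZMod p)) (muHom p k)

theorem phiM_single (g : Multiplicative (ZMod p)) :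
    phiM p k (MonoidAlgebra.single g 1) = muHom p k g := by
  rw [phiM, MonoidAlgebra.lift_single, one_smul]

theorem phiM_fst (a : MonoidAlgebra k (Multiplicative (ZMod p))) :
    TrivSqZeroExt.fst (phiM p k a) = counit (R := k) a := by
  have h : (TrivSqZeroExt.fstHom k k k).comp (phiM p k) =
      Bialgebra.counitAlgHom k (MonoidAlgebra k (Multiplicative (ZMod p))) := by
    apply MonoidAlgebra.algHom_ext
    · intro g
      rw [AlgHom.comp_apply, phiM_single, muHom_apply]
      show TrivSqZeroExt.fst (TrivSqZeroExt.inl (1 : k) +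
        TrivSqZeroExt.inr (ZMod.castHom (dvd_refl p) k g.toAdd)) =
          counit (R := k) (MonoidAlgebra.single g (1 : k))
      rw [(MonoidAlgebra.isGroupLikeElem_single_one (R := k) (A := k) g).counit_eq_one,
        TrivSqZeroExt.fst_add, TrivSqZeroExt.fst_inl, TrivSqZeroExt.fst_inr, add_zero]
    · exact Subsingleton.elim _ _
  exact AlgHom.congr_fun h a

noncomputable def EM : MonoidAlgebra k (Multiplicative (ZMod p)) →ₗ[k] k := Eof (phiM p k)

theorem EM_deriv : IsDer (EM p k) := Eof_deriv _ (phiM_fst p k)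

theorem EM_single (g : Multiplicative (ZMod p)) :
    EM p k (MonoidAlgebra.single g 1) = ZMod.castHom (dvd_refl p) k g.toAdd := by
  rw [EM, Eof_apply, phiM_single, muHom_apply, TrivSqZeroExt.snd_add, TrivSqZeroExt.snd_inl,
    TrivSqZeroExt.snd_inr, zero_add]

/-- the element `g - 1`, `g` a generator -/
noncomputable def xM : MonoidAlgebra k (Multiplicative (ZMod p)) :=
  MonoidAlgebra.single (Multiplicative.ofAdd (1 : ZMod p)) 1 - 1

theorem xM_mem : xM p k ∈ InfOrderH1.augI k (MonoidAlgebra k (Multiplicative (ZMod p))) := by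
  rw [InfOrderH1.mem_augI, xM, map_sub,
    (MonoidAlgebra.isGroupLikeElem_single_one (R := k) (A := k) _).counit_eq_one,
    Bialgebra.counit_one, sub_self]

theorem EM_xM : EM p k (xM p k) = 1 := by
  rw [xM, map_sub, EM_single, deriv_one (EM p k) (EM_deriv p k), sub_zero]
  show ZMod.castHom (dvd_refl p) k (1 : ZMod p) = 1
  exact map_one _

theorem EM_pow : (toConv (EM p k) :
    WithConv (MonoidAlgebra k (Multiplicative (ZMod p)) →ₗ[k] k)) ^ p =
      (1 : k) • toConv (EM p k) := by
  rw [one_smul]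
  apply WithConv.ext
  apply MonoidAlgebra.lhom_ext'
  intro g
  apply LinearMap.ext_ring
  show ((toConv (EM p k) : WithConv (MonoidAlgebra k (Multiplicative (ZMod p)) →ₗ[k] k)) ^ p)
    (MonoidAlgebra.single g 1) = EM p k (MonoidAlgebra.single g 1)
  rw [glike_pow _ (MonoidAlgebra.isGroupLikeElem_single_one (R := k) (A := k) g).counit_eq_one
    (MonoidAlgebra.isGroupLikeElem_single_one (R := k) (A := k) g).comul_eq_tmul_self]
  show (EM p k (MonoidAlgebra.single g 1)) ^ p = EM p k (MonoidAlgebra.single g 1)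
  rw [EM_single, ← map_pow, ZMod.pow_card]

theorem finrank_M : Module.finrank k (MonoidAlgebra k (Multiplicative (ZMod p))) = p := by
  rw [Module.finrank_eq_card_basis (MonoidAlgebra.basis (Multiplicative (ZMod p)) k),
    Fintype.card_multiplicative, ZMod.card]

theorem finite_M : Module.Finite k (MonoidAlgebra k (Multiplicative (ZMod p))) :=
  Module.Finite.of_basis (MonoidAlgebra.basis (Multiplicative (ZMod p)) k)

end Mu

section Closed

variable {k : Type u} {A : Type v} [Field k] [IsAlgClosed k] (p : ℕ) [hp : Fact p.Prime]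
  [CharP k p] [CommRing A] [Bialgebra k A] [Module.Finite k A]

theorem exists_pclosed (D₀ : A →ₗ[k] k) (hD₀ : IsDer D₀) (hne : D₀ ≠ 0) :
    ∃ (D : A →ₗ[k] k) (c : k), D ≠ 0 ∧ IsDer D ∧
      (toConv D : WithConv (A →ₗ[k] k)) ^ p = c • toConv D := by
  haveI : Module.Finite k (WithConv (A →ₗ[k] k)) :=
    Module.Finite.equiv (WithConv.linearEquiv k (A →ₗ[k] k)).symm
  let Lie : Submodule k (WithConv (A →ₗ[k] k)) :=
    { carrier := {F | IsDer F.ofConv}
      add_mem' := by
        intro F G hF hG a b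
        show F.ofConv (a * b) + G.ofConv (a * b) =
          counit (R := k) a * (F.ofConv b + G.ofConv b) +
            (F.ofConv a + G.ofConv a) * counit (R := k) b
        rw [hF a b, hG a b]
        ring
      zero_mem' := by
        intro a b
        show (0 : k) = counit (R := k) a * 0 + 0 * counit (R := k) b
        ring
      smul_mem' := by
        intro c F hF a b
        show c * F.ofConv (a * b) =
          counit (R := k) a * (c * F.ofConv b) + (c * F.ofConv a) * counit (R := k) b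
        rw [hF a b]
        ring }
  let L : WithConv (A →ₗ[k] k) →ₐ[k] Module.End k (WithConv (A →ₗ[k] k)) :=
    Algebra.lmul k (WithConv (A →ₗ[k] k))
  have hLinj : Function.Injective L := Algebra.lmul_injective
  let g : Submodule k (Module.End k (WithConv (A →ₗ[k] k))) := Lie.map L.toLinearMap
  have hg : ∀ u ∈ g, u ^ p ∈ g := by
    rintro _ ⟨F, hF, rfl⟩
    refine ⟨F ^ p, ?_, map_pow L F p⟩
    exact pow_p_deriv p F.ofConv hF
  have hgne : g ≠ ⊥ := by
    intro hbot
    have hmem : L (toConv D₀) ∈ g := ⟨toConv D₀, hD₀, rfl⟩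
    rw [hbot, Submodule.mem_bot] at hmem
    have h0 := hLinj (hmem.trans (map_zero L).symm)
    exact hne (congrArg WithConv.ofConv h0)
  obtain ⟨u, hu, hu0, c, huc⟩ :=
    Groth.Agent.Lib.PthClosed.main k p (WithConv (A →ₗ[k] k)) g hg hgne
  obtain ⟨F, hF, rfl⟩ := hu
  refine ⟨F.ofConv, c, ?_, hF, ?_⟩
  · intro h0
    apply hu0
    have hF0 : F = 0 := WithConv.ext h0
    rw [hF0]
    exact map_zero L
  · apply hLinj
    show L (F ^ p) = L (c • F)
    rw [map_pow, map_smul]
    exact huc

theorem exists_hom_model (D₀ : A →ₗ[k] k) (hD₀ : IsDer D₀) (hne : D₀ ≠ 0) :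
    ∃ D : A →ₗ[k] k, IsDer D ∧ (∃ x ∈ InfOrderH1.augI k A, D x = 1) ∧
      ((∃ ψ : A →ₐc[k] MonoidAlgebra k (Multiplicative (ZMod p)),
          (Function.Injective (Phi p D) → Function.Injective ψ) ∧
            (Function.Surjective (Phi p D) → Function.Surjective ψ)) ∨
        (∃ ψ : A →ₐc[k] AlphaP.A p k,
          (Function.Injective (Phi p D) → Function.Injective ψ) ∧
            (Function.Surjective (Phi p D) → Function.Surjective ψ))) := by
  obtain ⟨D, c, hDne, hD, hDp⟩ := exists_pclosed p D₀ hD₀ hne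
  by_cases hc : c = 0
  · obtain ⟨x, hx, hDx⟩ := exists_x D hD hDne
    refine ⟨D, hD, ⟨x, hx, hDx⟩, Or.inr ?_⟩
    exact exists_bialgHom p c D hD (EA p k) (EA_deriv p k) hDp
      (by rw [hc]; exact EA_pow p k) (AlphaP.finrank_eq p k) (x_mem p k) (EA_x p k)
  · have hp2 := hp.out.two_le
    obtain ⟨lam, hlam⟩ := IsAlgClosed.exists_pow_nat_eq c⁻¹ (n := p - 1) (by omega)
    have hlam0 : lam ≠ 0 := by
      rintro rfl
      rw [zero_pow (by omega)] at hlam
      exact hc (inv_eq_zero.mp hlam.symm)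
    have hD' : IsDer (lam • D) := by
      intro a b
      show lam * D (a * b) = counit (R := k) a * (lam * D b) + (lam * D a) * counit (R := k) b
      rw [hD a b]
      ring
    have hlc : lam ^ p * c = lam := by
      have h1 : lam ^ p = lam ^ (p - 1) * lam := by
        rw [← pow_succ]
        congr 1
        omega
      rw [h1, hlam, mul_assoc, mul_comm lam c, ← mul_assoc, inv_mul_cancel₀ hc, one_mul]
    have hD'p : (toConv (lam • D) : WithConv (A →ₗ[k] k)) ^ p = (1 : k) • toConv (lam • D) := by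
      have h2 : (toConv (lam • D) : WithConv (A →ₗ[k] k)) = lam • toConv D := rfl
      rw [h2, smul_pow, hDp, smul_smul, one_smul, hlc]
    have hD'ne : lam • D ≠ 0 := smul_ne_zero hlam0 hDne
    obtain ⟨x, hx, hDx⟩ := exists_x (lam • D) hD' hD'ne
    refine ⟨lam • D, hD', ⟨x, hx, hDx⟩, Or.inl ?_⟩
    haveI := finite_M p k
    exact exists_bialgHom p 1 (lam • D) hD' (EM p k) (EM_deriv p k) hD'p (EM_pow p k)
      (finrank_M p k) (xM_mem p k) (EM_xM p k)

end Closed

section Chars

variable {k : Type*} {A : Type*} [Field k] [CommRing A] [Algebra k A] [Module.Finite k A]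
  [Fintype (WithConv (A →ₐ[k] k))]

theorem chars_sep (hcard : Fintype.card (WithConv (A →ₐ[k] k)) = Module.finrank k A) (a : A)
    (h : ∀ γ : WithConv (A →ₐ[k] k), γ.ofConv a = 0) : a = 0 := by
  have hli0 : LinearIndependent k (AlgHom.toLinearMap : (A →ₐ[k] k) → A →ₗ[k] k) :=
    linearIndependent_algHom_toLinearMap k A k
  have hli : LinearIndependent k (fun γ : WithConv (A →ₐ[k] k) => γ.ofConv.toLinearMap) :=
    hli0.comp (fun γ : WithConv (A →ₐ[k] k) => γ.ofConv) WithConv.ofConv_injective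
  have hspan := hli.span_eq_top_of_card_eq_finrank' (by rw [hcard, Subspace.dual_finrank_eq])
  apply (Module.forall_dual_apply_eq_zero_iff k a).mp
  intro f
  have hf : f ∈ Submodule.span k
      (Set.range (fun γ : WithConv (A →ₐ[k] k) => γ.ofConv.toLinearMap)) := by
    rw [hspan]
    exact Submodule.mem_top
  induction hf using Submodule.span_induction with
  | mem x hx =>
    obtain ⟨γ, rfl⟩ := hx
    exact h γ
  | zero => rfl
  | add x y _ _ hx hy => rw [LinearMap.add_apply, hx, hy, add_zero]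
  | smul c x _ hx => rw [LinearMap.smul_apply, hx, smul_zero]

theorem reduced_of_card (hcard : Fintype.card (WithConv (A →ₐ[k] k)) = Module.finrank k A) :
    IsReduced A := by
  constructor
  intro a ha
  apply chars_sep hcard a
  intro γ
  obtain ⟨n, hn⟩ := ha
  have h1 : (γ.ofConv a) ^ n = 0 := by rw [← map_pow, hn, map_zero]
  exact IsNilpotent.eq_zero ⟨n, h1⟩

end Chars

section NotSq

variable {k : Type u} {A : Type v} [Field k] [CommRing A] [Bialgebra k A]

theorem exists_not_sq {e : A} {N : ℕ} (h1N : 1 ≤ N)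
    (hJ : (Ideal.span {1 - e} : Ideal A) = (InfOrderH1.augI k A) ^ N)
    (hfr : Module.finrank k (A ⧸ (Ideal.span {1 - e} : Ideal A)) ≠ 1) :
    ∃ x ∈ InfOrderH1.augI k A, x ∉ (InfOrderH1.augI k A) ^ 2 := by
  by_contra hcon
  push Not at hcon
  have hI2 : (InfOrderH1.augI k A) ^ 2 = InfOrderH1.augI k A :=
    le_antisymm (Ideal.pow_le_self two_ne_zero) hcon
  have hpow : ∀ j, 1 ≤ j → (InfOrderH1.augI k A) ^ j = InfOrderH1.augI k A := by
    intro j hj
    induction j with
    | zero => omega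
    | succ j ih =>
      rcases Nat.eq_zero_or_pos j with rfl | hjpos
      · rw [zero_add, pow_one]
      · rw [pow_succ, ih hjpos, ← pow_two, hI2]
  have hJI : (Ideal.span {1 - e} : Ideal A) = InfOrderH1.augI k A := by
    rw [hJ]
    exact hpow N h1N
  have e1 : (A ⧸ (Ideal.span {1 - e} : Ideal A)) ≃ₐ[k] (A ⧸ InfOrderH1.augI k A) :=
    Ideal.quotientEquivAlgOfEq k hJI
  have e2 : (A ⧸ InfOrderH1.augI k A) ≃ₐ[k] k :=
    Ideal.quotientKerAlgEquivOfSurjective (f := Bialgebra.counitAlgHom k A)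
      (fun c => ⟨algebraMap k A c, by simp⟩)
  have h3 := (e1.trans e2).toLinearEquiv.finrank_eq
  rw [Module.finrank_self] at h3
  exact hfr h3

end NotSq

section Etale

variable {k : Type u} [Field k] {G : Type w} [Group G] [Fintype G] [DecidableEq G]

theorem ev_mul_ev (g h : G) :
    (toConv (ConstGrp.ev k g).toLinearMap : WithConv (ConstGrp.F k G →ₗ[k] k)) *
      toConv (ConstGrp.ev k h).toLinearMap = toConv (ConstGrp.ev k (g * h)).toLinearMap := by
  apply WithConv.ext
  apply LinearMap.ext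
  intro f
  show LinearMap.mul' k k (TensorProduct.map (ConstGrp.ev k g).toLinearMap
    (ConstGrp.ev k h).toLinearMap (comul (R := k) f)) = f (g * h)
  rw [ConstGrp.comul_eq_sum, map_sum, map_sum, Finset.sum_eq_single g]
  · rw [map_sum, map_sum, Finset.sum_eq_single h]
    · rw [map_smul, map_smul, TensorProduct.map_tmul, LinearMap.mul'_apply]
      show f (g * h) • (ConstGrp.e k g g * ConstGrp.e k h h) = f (g * h)
      rw [ConstGrp.e_apply_self, ConstGrp.e_apply_self, mul_one, smul_eq_mul, mul_one]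
    · intro b _ hb
      rw [map_smul, map_smul, TensorProduct.map_tmul, LinearMap.mul'_apply]
      show f (g * b) • (ConstGrp.e k g g * ConstGrp.e k b h) = 0
      rw [ConstGrp.e_apply_of_ne (Ne.symm hb), mul_zero, smul_zero]
    · intro hh
      exact absurd (Finset.mem_univ h) hh
  · intro a _ ha
    rw [map_sum, map_sum]
    apply Finset.sum_eq_zero
    intro b _
    rw [map_smul, map_smul, TensorProduct.map_tmul, LinearMap.mul'_apply]
    show f (a * b) • (ConstGrp.e k a g * ConstGrp.e k b h) = 0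
    rw [ConstGrp.e_apply_of_ne (Ne.symm ha), zero_mul, smul_zero]
  · intro hg
    exact absurd (Finset.mem_univ g) hg

theorem ev_span : Submodule.span k (Set.range (fun g : G =>
    (toConv (ConstGrp.ev k g).toLinearMap : WithConv (ConstGrp.F k G →ₗ[k] k)))) = ⊤ := by
  rw [eq_top_iff]
  intro F _
  have hF : F = ∑ g : G, F (ConstGrp.e k g) •
      (toConv (ConstGrp.ev k g).toLinearMap : WithConv (ConstGrp.F k G →ₗ[k] k)) := by
    apply WithConv.ext
    apply ConstGrp.linearMap_ext
    intro h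
    show F (ConstGrp.e k h) = (∑ g : G, F (ConstGrp.e k g) •
      (toConv (ConstGrp.ev k g).toLinearMap : WithConv (ConstGrp.F k G →ₗ[k] k)))
        (ConstGrp.e k h)
    rw [eval_sum, Finset.sum_eq_single h]
    · show _ = F (ConstGrp.e k h) * (ConstGrp.e k h h)
      rw [ConstGrp.e_apply_self, mul_one]
    · intro g _ hg
      show F (ConstGrp.e k g) * (ConstGrp.e k h g) = 0
      rw [ConstGrp.e_apply_of_ne hg, mul_zero]
    · intro hh
      exact absurd (Finset.mem_univ h) hh
  rw [hF]
  exact Submodule.sum_mem _ (fun g _ => Submodule.smul_mem _ _ (Submodule.subset_span ⟨g, rfl⟩))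

variable {A : Type v} [CommRing A] [HopfAlgebra k A] [Module.Finite k A]

theorem etale_equiv (φ : G ≃* FinOrderH1.Chr k A)
    (hcard : Fintype.card G = Module.finrank k A) : Nonempty (A ≃ₐc[k] ConstGrp.F k G) := by
  haveI : Fintype (WithConv (A →ₐ[k] k)) := Fintype.ofEquiv G φ.toEquiv
  have hcard' : Fintype.card (WithConv (A →ₐ[k] k)) = Module.finrank k A := by
    rw [← hcard]
    exact (Fintype.card_congr φ.toEquiv).symm
  let Ψ : A →ₐ[k] ConstGrp.F k G :=
    (ConstGrp.equivFun k G).symm.toAlgHom.comp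
      (Pi.algHom k (fun _ : G => k) (fun g => (φ g).ofConv))
  have hΨ : ∀ a g, Ψ a g = (φ g).ofConv a := fun a g => rfl
  have hinj : Function.Injective Ψ := by
    rw [injective_iff_map_eq_zero]
    intro a ha
    apply chars_sep hcard' a
    intro γ
    have h1 := congrFun ha (φ.symm γ)
    rw [hΨ, φ.apply_symm_apply] at h1
    exact h1
  have hfr : Module.finrank k A = Module.finrank k (ConstGrp.F k G) := by
    rw [← hcard, Module.finrank_eq_card_basis (ConstGrp.basis k G)]
  have hsurj : Function.Surjective Ψ :=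
    (LinearMap.injective_iff_surjective_of_finrank_eq_finrank hfr (f := Ψ.toLinearMap)).mp hinj
  have hcounit : ∀ a, counit (R := k) (Ψ a) = counit (R := k) a := by
    intro a
    show Ψ a 1 = counit (R := k) a
    rw [hΨ, map_one, FinOrderH1.chr_one_apply]
  have hcomul : TensorProduct.map Ψ.toLinearMap Ψ.toLinearMap ∘ₗ comul =
      comul ∘ₗ Ψ.toLinearMap := by
    apply comul_compat Ψ.toLinearMap _ ev_span
    rintro _ ⟨g, rfl⟩ _ ⟨h, rfl⟩
    show (toConv (((toConv (ConstGrp.ev k g).toLinearMap :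
        WithConv (ConstGrp.F k G →ₗ[k] k)) * toConv (ConstGrp.ev k h).toLinearMap).ofConv ∘ₗ
          Ψ.toLinearMap) : WithConv (A →ₗ[k] k)) =
      toConv ((ConstGrp.ev k g).toLinearMap ∘ₗ Ψ.toLinearMap) *
        toConv ((ConstGrp.ev k h).toLinearMap ∘ₗ Ψ.toLinearMap)
    have hev : ∀ g : G, (toConv ((ConstGrp.ev k g).toLinearMap ∘ₗ Ψ.toLinearMap) :
        WithConv (A →ₗ[k] k)) = toConv (φ g).ofConv.toLinearMap := by
      intro g
      apply WithConv.ext
      apply LinearMap.ext
      intro a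
      rfl
    rw [ev_mul_ev]
    show (toConv ((ConstGrp.ev k (g * h)).toLinearMap ∘ₗ Ψ.toLinearMap) :
      WithConv (A →ₗ[k] k)) = _
    rw [hev, hev, hev, map_mul]
    exact AlgHom.toLinearMap_convMul (φ g) (φ h)
  let Ψc : A →ₗc[k] ConstGrp.F k G :=
    { Ψ.toLinearMap with
      counit_comp := LinearMap.ext hcounit
      map_comp_comul := hcomul }
  let Ψb : A →ₐc[k] ConstGrp.F k G :=
    { Ψc with
      map_one' := map_one Ψ
      map_mul' := map_mul Ψ }
  have hΨb : ∀ a, Ψb a = Ψ a := fun a => rfl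
  refine ⟨BialgEquiv.ofBijective Ψb ⟨?_, ?_⟩⟩
  · intro a b hab
    apply hinj
    rw [← hΨb, ← hΨb, hab]
  · intro y
    obtain ⟨a, ha⟩ := hsurj y
    exact ⟨a, by rw [hΨb, ha]⟩

end Etale

section Mains

open FinOrderH1

theorem main17330 (k : Type u) [Field k] [IsAlgClosed k]
    (p : ℕ) [Fact p.Prime] [CharP k p] (A : Type v) [CommRing A] [HopfAlgebra k A]
    [Module.Finite k A] (hA : ¬ IsReduced A) :
    (∃ f : A →ₐc[k] MonoidAlgebra k (Multiplicative (ZMod p)), Function.Surjective f) ∨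
      (∃ f : A →ₐc[k] AlphaP.A p k, Function.Surjective f) := by
  obtain ⟨e, N, he, h1N, hJ, hstab⟩ := FinOrderH1.exists_idem (K := k) (B := A)
  have hc0 := FinOrderH1.counit_e h1N hJ
  have hc1 := FinOrderH1.char_e he hJ
  haveI : Finite (FinOrderH1.Chr k A) := Finite.of_equiv _ (WithConv.equiv (A →ₐ[k] k)).symm
  haveI : Fintype (FinOrderH1.Chr k A) := Fintype.ofFinite _
  have hn := FinOrderH1.finrank_eq he hc1 hc0
  have hfr : Module.finrank k (A ⧸ (Ideal.span {1 - e} : Ideal A)) ≠ 1 := by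
    intro h1
    rw [h1, mul_one] at hn
    exact hA (reduced_of_card hn.symm)
  obtain ⟨x, hxI, hx2⟩ := exists_not_sq h1N hJ hfr
  obtain ⟨D₀, hD₀x, hD₀⟩ := exists_deriv hxI hx2
  have hD₀ne : D₀ ≠ 0 := by
    intro h
    rw [h, LinearMap.zero_apply] at hD₀x
    exact zero_ne_one hD₀x
  obtain ⟨D, hD, ⟨y, hy, hDy⟩, hor⟩ := exists_hom_model p D₀ hD₀ hD₀ne
  have hsurj := Phi_surj p D (li_pows p D hD hy hDy)
  rcases hor with ⟨ψ, -, hs⟩ | ⟨ψ, -, hs⟩
  · exact Or.inl ⟨ψ, hs hsurj⟩
  · exact Or.inr ⟨ψ, hs hsurj⟩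

theorem main17331 (k : Type u) [Field k] [IsAlgClosed k]
    (p : ℕ) [hp : Fact p.Prime] [CharP k p] (A : Type v) [CommRing A] [HopfAlgebra k A]
    (ℓ : ℕ) [hl : Fact ℓ.Prime] (hA : Module.finrank k A = ℓ) :
    (ℓ ≠ p → Nonempty (A ≃ₐc[k] ConstGrp.F k (Multiplicative (ZMod ℓ)))) ∧
      (ℓ = p → Nonempty (A ≃ₐc[k] ConstGrp.F k (Multiplicative (ZMod p))) ∨
        Nonempty (A ≃ₐc[k] MonoidAlgebra k (Multiplicative (ZMod p))) ∨
        Nonempty (A ≃ₐc[k] AlphaP.A p k)) := by
  haveI : Module.Finite k A := Module.finite_of_finrank_pos (by rw [hA]; exact hl.out.pos)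
  obtain ⟨e, N, he, h1N, hJ, hstab⟩ := FinOrderH1.exists_idem (K := k) (B := A)
  have hc0 := FinOrderH1.counit_e h1N hJ
  have hc1 := FinOrderH1.char_e he hJ
  haveI : Finite (FinOrderH1.Chr k A) := Finite.of_equiv _ (WithConv.equiv (A →ₐ[k] k)).symm
  haveI : Fintype (FinOrderH1.Chr k A) := Fintype.ofFinite _
  have hn := FinOrderH1.finrank_eq he hc1 hc0
  rw [hA] at hn
  haveI : ExpChar k p := ExpChar.prime hp.out
  obtain ⟨r, hr⟩ := FinOrderH1.finrank_quot p he hc1 hc0 h1N hJ
  have hdvd : Fintype.card (FinOrderH1.Chr k A) ∣ ℓ := ⟨_, hn⟩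
  have etale : Fintype.card (FinOrderH1.Chr k A) = ℓ →
      Nonempty (A ≃ₐc[k] ConstGrp.F k (Multiplicative (ZMod ℓ))) := by
    intro hcard
    have hN : Nat.card (FinOrderH1.Chr k A) = ℓ := by rw [Nat.card_eq_fintype_card, hcard]
    haveI : IsCyclic (FinOrderH1.Chr k A) := isCyclic_of_prime_card (p := ℓ) hN
    have e1 : Multiplicative (ZMod ℓ) ≃* FinOrderH1.Chr k A :=
      (AddEquiv.toMultiplicative (ZMod.ringEquivCongr hN.symm).toAddEquiv).trans
        (zmodCyclicMulEquiv inferInstance)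
    exact etale_equiv e1 (by rw [Fintype.card_multiplicative, ZMod.card, hA])
  rcases (Nat.dvd_prime hl.out).mp hdvd with h1 | h1
  · rw [h1, one_mul] at hn
    have hfrq : Module.finrank k (A ⧸ (Ideal.span {1 - e} : Ideal A)) = ℓ := hn.symm
    have hpl : p = ℓ ∧ r = 1 := (Nat.Prime.pow_eq_iff hl.out).mp (hr.symm.trans hfrq)
    refine ⟨fun hne => absurd hpl.1.symm hne, fun _ => Or.inr ?_⟩
    obtain ⟨hpl1, -⟩ := hpl
    subst hpl1
    have hfr : Module.finrank k (A ⧸ (Ideal.span {1 - e} : Ideal A)) ≠ 1 := by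
      rw [hfrq]
      exact hp.out.one_lt.ne'
    obtain ⟨x, hxI, hx2⟩ := exists_not_sq h1N hJ hfr
    obtain ⟨D₀, hD₀x, hD₀⟩ := exists_deriv hxI hx2
    have hD₀ne : D₀ ≠ 0 := by
      intro h
      rw [h, LinearMap.zero_apply] at hD₀x
      exact zero_ne_one hD₀x
    obtain ⟨D, hD, ⟨y, hy, hDy⟩, hor⟩ := exists_hom_model p D₀ hD₀ hD₀ne
    have hsurj := Phi_surj p D (li_pows p D hD hy hDy)
    have hinj := Phi_inj p D (span_pows p hA D hD hy hDy)
    rcases hor with ⟨ψ, hi, hs⟩ | ⟨ψ, hi, hs⟩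
    · exact Or.inl ⟨BialgEquiv.ofBijective ψ ⟨hi hinj, hs hsurj⟩⟩
    · exact Or.inr ⟨BialgEquiv.ofBijective ψ ⟨hi hinj, hs hsurj⟩⟩
  · refine ⟨fun _ => etale h1, fun hlp => Or.inl ?_⟩
    subst hlp
    exact etale h1

end Mains

end PrimeClassH1
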