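import Mathlib
import Groth.Agent.Lib.PrimeClass_helper1

set_option autoImplicit false
set_option maxHeartbeats 1000000

/-!
# A finite locally free group scheme of prime order is commutative (helper1)

Free case: structure constants `sc`; over `MvPolynomial (Fin p) R` the generic functional `xi` has
powers whose determinant `Dp` kills (squared) all commutators of the dual algebra; over geometric
points `Dp` does not vanish (the dual of a Hopf algebra of prime dimension over an algebraically
closed field is generated by one element).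
-/

namespace RankPH1

open TensorProduct WithConv Coalgebra

universe u v

section BC

variable {R : Type*} {A : Type*} [CommRing R] [CommRing A] [HopfAlgebra R A]
variable (S : Type*) [CommRing S] [Algebra R S]

/-- restriction of a functional on `S ⊗ A` to `A` -/
noncomputable def res (f : WithConv ((S ⊗[R] A) →ₗ[S] S)) : A →ₗ[R] S :=
  (f.ofConv.restrictScalars R) ∘ₗ (TensorProduct.mk R S A 1)

theorem res_apply (f : WithConv ((S ⊗[R] A) →ₗ[S] S)) (a : A) :
    res S f a = f ((1 : S) ⊗ₜ[R] a) := rfl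

theorem conv_one_tmul (f g : WithConv ((S ⊗[R] A) →ₗ[S] S)) (a : A) :
    (f * g) ((1 : S) ⊗ₜ[R] a) =
      LinearMap.mul' R S (TensorProduct.map (res S f) (res S g) (comul (R := R) a)) := by
  have key : ∀ y : A ⊗[R] A,
      LinearMap.mul' S S (TensorProduct.map f.ofConv g.ofConv
        (TensorProduct.AlgebraTensorModule.tensorTensorTensorComm R S R S S S A A
          (((1 : S) ⊗ₜ[S] (1 : S)) ⊗ₜ[R] y))) =
      LinearMap.mul' R S (TensorProduct.map (res S f) (res S g) y) := by
    intro y
    induction y using TensorProduct.induction_on with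
    | zero => simp
    | add x y hx hy =>
      rw [TensorProduct.tmul_add, map_add, map_add, map_add, hx, hy, map_add, map_add]
    | tmul a₁ a₂ =>
      rw [TensorProduct.AlgebraTensorModule.tensorTensorTensorComm_tmul, TensorProduct.map_tmul,
        LinearMap.mul'_apply, TensorProduct.map_tmul, LinearMap.mul'_apply]
      rfl
  exact key (comul (R := R) a)

theorem one_basis (a : A) : (1 : WithConv ((S ⊗[R] A) →ₗ[S] S)) ((1 : S) ⊗ₜ[R] a) =
    algebraMap R S (counit (R := R) a) := by
  show algebraMap S S (counit (R := S) ((1 : S) ⊗ₜ[R] a)) = _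
  rw [TensorProduct.counit_tmul, CommSemiring.counit_apply, Algebra.algebraMap_self,
    RingHom.id_apply, Algebra.algebraMap_eq_smul_one]

theorem eval_sumS {ι : Type*} (s : Finset ι) (c : ι → S)
    (F : ι → WithConv ((S ⊗[R] A) →ₗ[S] S)) (y : S ⊗[R] A) :
    (∑ i ∈ s, c i • F i) y = ∑ i ∈ s, c i * (F i) y := by
  show (∑ i ∈ s, c i • F i).ofConv y = _
  rw [ofConv_sum, LinearMap.sum_apply]
  rfl

variable {ι : Type*} [Fintype ι] [DecidableEq ι] (b : Module.Basis ι R A)

/-- structure constants of the comultiplication -/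
noncomputable def sc (j : ι) : ι × ι →₀ R := (b.tensorProduct b).repr (comul (R := R) (b j))

theorem comul_basis (j : ι) :
    comul (R := R) (b j) = ∑ x : ι × ι, sc b j x • (b x.1 ⊗ₜ[R] b x.2) := by
  conv_lhs => rw [← (b.tensorProduct b).sum_repr (comul (R := R) (b j))]
  apply Finset.sum_congr rfl
  rintro ⟨k, l⟩ _
  rw [Module.Basis.tensorProduct_apply]
  rfl

theorem conv_basis (f g : WithConv ((S ⊗[R] A) →ₗ[S] S)) (j : ι) :
    (f * g) ((1 : S) ⊗ₜ[R] b j) =
      ∑ x : ι × ι, sc b j x • (f ((1 : S) ⊗ₜ[R] b x.1) * g ((1 : S) ⊗ₜ[R] b x.2)) := by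
  rw [conv_one_tmul, comul_basis, map_sum, map_sum]
  apply Finset.sum_congr rfl
  intro x _
  rw [map_smul, map_smul, TensorProduct.map_tmul, LinearMap.mul'_apply]
  rfl

theorem pow_natural {S' : Type*} [CommRing S'] [Algebra R S'] (ψ : S →ₐ[R] S')
    (f : WithConv ((S ⊗[R] A) →ₗ[S] S)) (f' : WithConv ((S' ⊗[R] A) →ₗ[S'] S'))
    (h : ∀ j, ψ (f ((1 : S) ⊗ₜ[R] b j)) = f' ((1 : S') ⊗ₜ[R] b j)) (i : ℕ) :
    ∀ j, ψ ((f ^ i) ((1 : S) ⊗ₜ[R] b j)) = (f' ^ i) ((1 : S') ⊗ₜ[R] b j) := by
  induction i with
  | zero =>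
    intro j
    rw [pow_zero, pow_zero, one_basis, one_basis, AlgHom.commutes]
  | succ i ih =>
    intro j
    rw [pow_succ, pow_succ, conv_basis S b, conv_basis S' b, map_sum]
    apply Finset.sum_congr rfl
    intro x _
    rw [map_smul, map_mul, ih, h]

end BC

section Det

variable {R : Type*} {A : Type*} [CommRing R] [CommRing A] [HopfAlgebra R A]
variable (S : Type*) [CommRing S] [Algebra R S]
variable {p : ℕ} (b : Module.Basis (Fin p) R A)

/-- matrix of the first `p` powers of a functional -/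
noncomputable def powMat (ξ : WithConv ((S ⊗[R] A) →ₗ[S] S)) : Matrix (Fin p) (Fin p) S :=
  fun i j => (ξ ^ (i : ℕ)) ((1 : S) ⊗ₜ[R] b j)

theorem det_smul_eq (ξ f : WithConv ((S ⊗[R] A) →ₗ[S] S)) :
    (powMat S b ξ).det • f = ∑ i : Fin p,
      (Matrix.vecMul (fun j => f ((1 : S) ⊗ₜ[R] b j)) (powMat S b ξ).adjugate) i • ξ ^ (i : ℕ) := by
  apply WithConv.ext
  apply (Algebra.TensorProduct.basis S b).ext
  intro j
  rw [Algebra.TensorProduct.basis_apply]
  show (powMat S b ξ).det * f ((1 : S) ⊗ₜ[R] b j) = (∑ i : Fin p,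
    (Matrix.vecMul (fun j => f ((1 : S) ⊗ₜ[R] b j)) (powMat S b ξ).adjugate) i • ξ ^ (i : ℕ))
      ((1 : S) ⊗ₜ[R] b j)
  rw [eval_sumS]
  have h1 : ∑ i : Fin p,
      (Matrix.vecMul (fun j => f ((1 : S) ⊗ₜ[R] b j)) (powMat S b ξ).adjugate) i *
        (ξ ^ (i : ℕ)) ((1 : S) ⊗ₜ[R] b j) =
      Matrix.vecMul (Matrix.vecMul (fun j => f ((1 : S) ⊗ₜ[R] b j)) (powMat S b ξ).adjugate)
        (powMat S b ξ) j := rfl
  rw [h1, Matrix.vecMul_vecMul, Matrix.adjugate_mul, Matrix.vecMul_smul, Matrix.vecMul_one]
  rfl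

theorem comm_up_to_det (ξ f g : WithConv ((S ⊗[R] A) →ₗ[S] S)) :
    ((powMat S b ξ).det ^ 2) • (f * g) = ((powMat S b ξ).det ^ 2) • (g * f) := by
  have hcomm : ((powMat S b ξ).det • f) * ((powMat S b ξ).det • g) =
      ((powMat S b ξ).det • g) * ((powMat S b ξ).det • f) := by
    rw [det_smul_eq S b ξ f, det_smul_eq S b ξ g]
    apply Commute.eq
    apply Commute.sum_left
    intro i _
    apply Commute.sum_right
    intro i' _
    exact ((Commute.pow_pow_self ξ i i').smul_right _).smul_left _
  rw [sq, ← smul_mul_smul_comm, hcomm, smul_mul_smul_comm]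

theorem sc_symm_up_to (ξ : WithConv ((S ⊗[R] A) →ₗ[S] S)) (j k l : Fin p) :
    (powMat S b ξ).det ^ 2 * algebraMap R S (sc b j (k, l)) =
      (powMat S b ξ).det ^ 2 * algebraMap R S (sc b j (l, k)) := by
  have hcoord : ∀ k m : Fin p, (Algebra.TensorProduct.basis S b).coord k ((1 : S) ⊗ₜ[R] b m) =
      if m = k then 1 else 0 := by
    intro k m
    rw [← Algebra.TensorProduct.basis_apply, Module.Basis.coord_apply, Module.Basis.repr_self,
      Finsupp.single_apply]
  have hval : ∀ k l : Fin p,
      ((toConv ((Algebra.TensorProduct.basis S b).coord k) : WithConv ((S ⊗[R] A) →ₗ[S] S)) *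
        toConv ((Algebra.TensorProduct.basis S b).coord l)) ((1 : S) ⊗ₜ[R] b j) =
      algebraMap R S (sc b j (k, l)) := by
    intro k l
    rw [conv_basis S b, Finset.sum_eq_single (k, l)]
    · show sc b j (k, l) • ((Algebra.TensorProduct.basis S b).coord k ((1 : S) ⊗ₜ[R] b k) *
        (Algebra.TensorProduct.basis S b).coord l ((1 : S) ⊗ₜ[R] b l)) = _
      rw [hcoord, hcoord, if_pos rfl, if_pos rfl, mul_one, Algebra.algebraMap_eq_smul_one]
    · rintro ⟨k', l'⟩ _ hne
      show sc b j (k', l') • ((Algebra.TensorProduct.basis S b).coord k ((1 : S) ⊗ₜ[R] b k') *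
        (Algebra.TensorProduct.basis S b).coord l ((1 : S) ⊗ₜ[R] b l')) = 0
      rw [hcoord, hcoord]
      by_cases hk : k' = k
      · by_cases hl : l' = l
        · exact absurd (by rw [hk, hl]) hne
        · rw [if_neg hl, mul_zero, smul_zero]
      · rw [if_neg hk, zero_mul, smul_zero]
    · intro h
      exact absurd (Finset.mem_univ _) h
  have h := comm_up_to_det S b ξ (toConv ((Algebra.TensorProduct.basis S b).coord k))
    (toConv ((Algebra.TensorProduct.basis S b).coord l))
  have h2 := congrArg (fun F : WithConv ((S ⊗[R] A) →ₗ[S] S) => F ((1 : S) ⊗ₜ[R] b j)) h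
  have h3 : ∀ (d : S) (F : WithConv ((S ⊗[R] A) →ₗ[S] S)) (y : S ⊗[R] A),
      (d • F) y = d * F y := fun d F y => rfl
  simp only [h3, hval] at h2
  exact h2

end Det


section Gen

variable {K : Type u} {B : Type v} [Field K] [IsAlgClosed K] [CommRing B] [HopfAlgebra K B]
  [Module.Finite K B]

/-- the dual of a Hopf algebra of prime dimension over an algebraically closed field is generated
by one element -/
theorem exists_gen (p : ℕ) (hp : p.Prime) (hB : Module.finrank K B = p) :
    ∃ ξ : WithConv (B →ₗ[K] K),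
      Submodule.span K (Set.range (fun i : Fin p => ξ ^ (i : ℕ))) = ⊤ := by
  classical
  obtain ⟨e, N, he, h1N, hJ, hstab⟩ := FinOrderH1.exists_idem (K := K) (B := B)
  have hc0 := FinOrderH1.counit_e h1N hJ
  have hc1 := FinOrderH1.char_e he hJ
  haveI : Finite (FinOrderH1.Chr K B) := Finite.of_equiv _ (WithConv.equiv (B →ₐ[K] K)).symm
  haveI : Fintype (FinOrderH1.Chr K B) := Fintype.ofFinite _
  have hn := FinOrderH1.finrank_eq he hc1 hc0
  rw [hB] at hn
  have hdvd : Fintype.card (FinOrderH1.Chr K B) ∣ p := ⟨_, hn⟩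
  rcases (Nat.dvd_prime hp).mp hdvd with h1 | h1
  · rw [h1, one_mul] at hn
    obtain ⟨q, hq⟩ := ExpChar.exists K
    haveI := hq
    obtain ⟨r, hr⟩ := FinOrderH1.finrank_quot q he hc1 hc0 h1N hJ
    have hqr : q ^ r = p := by rw [← hr, ← hn]
    obtain ⟨hqp, hr1⟩ := (Nat.Prime.pow_eq_iff hp).mp hqr
    haveI : Fact p.Prime := ⟨hp⟩
    have hq' : ExpChar K p := hqp ▸ hq
    haveI : CharP K p := by
      cases hq' with
      | zero => exact absurd hp Nat.not_prime_one
      | prime hprime => infer_instance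
    have hfrq : Module.finrank K (B ⧸ (Ideal.span {1 - e} : Ideal B)) ≠ 1 := by
      rw [← hn]
      exact hp.one_lt.ne'
    obtain ⟨x, hxI, hx2⟩ := PrimeClassH1.exists_not_sq h1N hJ hfrq
    obtain ⟨D, hDx, hD⟩ := PrimeOrderH1.exists_deriv hxI hx2
    exact ⟨toConv D, PrimeOrderH1.span_pows p hB D hD hxI hDx⟩
  · have hli0 : LinearIndependent K (AlgHom.toLinearMap : (B →ₐ[K] K) → B →ₗ[K] K) :=
      linearIndependent_algHom_toLinearMap K B K
    have hli1 : LinearIndependent K (fun γ : FinOrderH1.Chr K B => γ.ofConv.toLinearMap) :=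
      hli0.comp (fun γ : FinOrderH1.Chr K B => γ.ofConv) WithConv.ofConv_injective
    have hli : LinearIndependent K (fun γ : FinOrderH1.Chr K B =>
        (toConv γ.ofConv.toLinearMap : WithConv (B →ₗ[K] K))) :=
      hli1.map' (WithConv.linearEquiv K (B →ₗ[K] K)).symm.toLinearMap (LinearEquiv.ker _)
    haveI : Module.Finite K (WithConv (B →ₗ[K] K)) :=
      Module.Finite.equiv (WithConv.linearEquiv K (B →ₗ[K] K)).symm
    have hspan := hli.span_eq_top_of_card_eq_finrank' (by
      rw [h1, (WithConv.linearEquiv K (B →ₗ[K] K)).finrank_eq, Subspace.dual_finrank_eq, hB])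
    haveI : Fact p.Prime := ⟨hp⟩
    haveI : IsCyclic (FinOrderH1.Chr K B) :=
      isCyclic_of_prime_card (p := p) (by rw [Nat.card_eq_fintype_card, h1])
    obtain ⟨γ₀, hγ₀⟩ := IsCyclic.exists_generator (α := FinOrderH1.Chr K B)
    refine ⟨toConv γ₀.ofConv.toLinearMap, ?_⟩
    rw [eq_top_iff, ← hspan]
    apply Submodule.span_mono
    rintro _ ⟨γ, rfl⟩
    have hord : orderOf γ₀ = p := by
      rw [orderOf_eq_card_of_forall_mem_zpowers hγ₀, Nat.card_eq_fintype_card, h1]
    obtain ⟨n, hn'⟩ : ∃ n : ℕ, γ₀ ^ n = γ := by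
      have h2 := hγ₀ γ
      rw [← mem_powers_iff_mem_zpowers] at h2
      exact (Submonoid.mem_powers_iff _ _).mp h2
    have hn'' : γ₀ ^ (n % p) = γ := by rw [← hord, pow_mod_orderOf, hn']
    refine ⟨⟨n % p, Nat.mod_lt _ hp.pos⟩, ?_⟩
    show (toConv γ₀.ofConv.toLinearMap : WithConv (B →ₗ[K] K)) ^ (n % p) =
      toConv γ.ofConv.toLinearMap
    rw [← AlgHom.toLinearMap_convPow, hn'']

end Gen

section DetNe

variable {R : Type*} {A : Type*} [CommRing R] [CommRing A] [HopfAlgebra R A]

theorem powMat_det_ne_zero (K : Type*) [Field K] [Algebra R K] {p : ℕ}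
    (b : Module.Basis (Fin p) R A) (ξ : WithConv ((K ⊗[R] A) →ₗ[K] K))
    (hspan : Submodule.span K (Set.range (fun i : Fin p => ξ ^ (i : ℕ))) = ⊤) :
    (powMat K b ξ).det ≠ 0 := by
  haveI : Module.Finite K (K ⊗[R] A) := Module.Finite.of_basis (Algebra.TensorProduct.basis K b)
  have hfr : Module.finrank K (WithConv ((K ⊗[R] A) →ₗ[K] K)) = p := by
    rw [(WithConv.linearEquiv K ((K ⊗[R] A) →ₗ[K] K)).finrank_eq, Subspace.dual_finrank_eq,
      Module.finrank_eq_card_basis (Algebra.TensorProduct.basis K b), Fintype.card_fin]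
  have hli : LinearIndependent K (fun i : Fin p => ξ ^ (i : ℕ)) :=
    linearIndependent_of_top_le_span_of_card_eq_finrank (le_of_eq hspan.symm)
      (by rw [Fintype.card_fin, hfr])
  intro hdet
  obtain ⟨v, hv0, hv⟩ := Matrix.exists_vecMul_eq_zero_iff.mpr hdet
  apply hv0
  have hsum : ∑ i : Fin p, v i • ξ ^ (i : ℕ) = 0 := by
    apply WithConv.ext
    apply (Algebra.TensorProduct.basis K b).ext
    intro j
    rw [Algebra.TensorProduct.basis_apply]
    show (∑ i : Fin p, v i • ξ ^ (i : ℕ)) ((1 : K) ⊗ₜ[R] b j) = 0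
    rw [eval_sumS]
    exact congrFun hv j
  funext i
  exact Fintype.linearIndependent_iff.mp hli v hsum i

end DetNe


section Free

variable {R : Type u} {A : Type v} [CommRing R] [CommRing A] [HopfAlgebra R A]
variable {p : ℕ} (b : Module.Basis (Fin p) R A)

local notation "SSp" => MvPolynomial (Fin p) R

/-- the generic functional -/
noncomputable def xi : WithConv ((SSp ⊗[R] A) →ₗ[SSp] SSp) :=
  toConv ((Algebra.TensorProduct.basis SSp b).constr SSp
    (fun j => (MvPolynomial.X j : SSp)))

theorem xi_basis (j : Fin p) : xi b ((1 : SSp) ⊗ₜ[R] b j) = MvPolynomial.X j := by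
  rw [← Algebra.TensorProduct.basis_apply]
  exact Module.Basis.constr_basis _ _ _ _

theorem det_coeff_notMem (hp : p.Prime) (m : Ideal R) [m.IsPrime] :
    ¬ ∀ n, MvPolynomial.coeff n ((powMat SSp b (xi b)).det ^ 2) ∈ m := by
  intro hcoeff
  haveI : Module.Finite (AlgebraicClosure m.ResidueField)
      (AlgebraicClosure m.ResidueField ⊗[R] A) :=
    Module.Finite.of_basis (Algebra.TensorProduct.basis (AlgebraicClosure m.ResidueField) b)
  have hfr : Module.finrank (AlgebraicClosure m.ResidueField)
      (AlgebraicClosure m.ResidueField ⊗[R] A) = p := by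
    rw [Module.finrank_eq_card_basis
      (Algebra.TensorProduct.basis (AlgebraicClosure m.ResidueField) b), Fintype.card_fin]
  obtain ⟨ξ', hspan⟩ := exists_gen (K := AlgebraicClosure m.ResidueField)
    (B := AlgebraicClosure m.ResidueField ⊗[R] A) p hp hfr
  have hdet := powMat_det_ne_zero (AlgebraicClosure m.ResidueField) b ξ' hspan
  let ev : SSp →ₐ[R] AlgebraicClosure m.ResidueField :=
    MvPolynomial.aeval (fun j => ξ' ((1 : AlgebraicClosure m.ResidueField) ⊗ₜ[R] b j))
  have hev : ∀ j, ev ((xi b) ((1 : SSp) ⊗ₜ[R] b j)) =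
      ξ' ((1 : AlgebraicClosure m.ResidueField) ⊗ₜ[R] b j) := by
    intro j
    rw [xi_basis]
    exact MvPolynomial.aeval_X _ _
  have hpow := pow_natural SSp b ev (xi b) ξ' hev
  have hevdet : ev ((powMat SSp b (xi b)).det) =
      (powMat (AlgebraicClosure m.ResidueField) b ξ').det := by
    rw [AlgHom.map_det]
    congr 1
    ext i j
    exact hpow i j
  have hmap : MvPolynomial.map (algebraMap R (AlgebraicClosure m.ResidueField))
      ((powMat SSp b (xi b)).det ^ 2) = 0 := by
    ext n
    rw [MvPolynomial.coeff_map, MvPolynomial.coeff_zero,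
      IsScalarTower.algebraMap_apply R m.ResidueField (AlgebraicClosure m.ResidueField),
      (Ideal.algebraMap_residueField_eq_zero).mpr (hcoeff n), map_zero]
  have hev0 : ev ((powMat SSp b (xi b)).det ^ 2) = 0 := by
    show MvPolynomial.aeval _ _ = 0
    rw [MvPolynomial.aeval_def, MvPolynomial.eval₂_eq_eval_map, hmap, map_zero]
  rw [map_pow, hevdet] at hev0
  exact hdet ((pow_eq_zero_iff two_ne_zero).mp hev0)

theorem sc_symm (hp : p.Prime) (j k l : Fin p) : sc b j (k, l) = sc b j (l, k) := by
  by_contra hne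
  have hr0 : sc b j (k, l) - sc b j (l, k) ≠ 0 := sub_ne_zero.mpr hne
  have hvan : MvPolynomial.C (sc b j (k, l) - sc b j (l, k)) *
      (powMat SSp b (xi b)).det ^ 2 = 0 := by
    have h1 := sc_symm_up_to SSp b (xi b) j k l
    rw [MvPolynomial.algebraMap_eq] at h1
    rw [mul_comm, map_sub, mul_sub, h1, sub_self]
  have hne_top : (LinearMap.ker (LinearMap.toSpanSingleton R R
      (sc b j (k, l) - sc b j (l, k))) : Ideal R) ≠ ⊤ := by
    intro htop
    have h1 : (1 : R) ∈ (LinearMap.ker (LinearMap.toSpanSingleton R R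
        (sc b j (k, l) - sc b j (l, k))) : Ideal R) := by
      rw [htop]
      trivial
    rw [LinearMap.mem_ker, LinearMap.toSpanSingleton_apply, one_smul] at h1
    exact hr0 h1
  obtain ⟨m, hm, h𝔞m⟩ := Ideal.exists_le_maximal _ hne_top
  haveI : m.IsPrime := hm.isPrime
  apply det_coeff_notMem b hp m
  intro n
  apply h𝔞m
  rw [LinearMap.mem_ker, LinearMap.toSpanSingleton_apply, smul_eq_mul, mul_comm,
    ← MvPolynomial.coeff_C_mul, hvan, MvPolynomial.coeff_zero]

include b in
theorem free_case (hp : p.Prime) : Coalgebra.IsCocomm R A := by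
  constructor
  apply b.ext
  intro j
  show TensorProduct.comm R A A (comul (R := R) (b j)) = comul (R := R) (b j)
  rw [comul_basis b j, map_sum]
  refine Fintype.sum_equiv (Equiv.prodComm (Fin p) (Fin p)) _ _ ?_
  rintro ⟨k, l⟩
  rw [map_smul, TensorProduct.comm_tmul, sc_symm b hp j k l]
  rfl

end Free


section Proj

variable {R : Type*} {A : Type*} [CommRing R] [AddCommGroup A] [Module R A]

theorem sepProj [Module.Finite R A] [Module.Projective R A] (w : A ⊗[R] A)
    (h : ∀ f g : A →ₗ[R] R, LinearMap.mul' R R (TensorProduct.map f g w) = 0) : w = 0 := by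
  obtain ⟨n, f, g, hf, hg, hfg⟩ := Module.Finite.exists_comp_eq_id_of_projective R A
  have hinj : TensorProduct.map f f (TensorProduct.map g g w) = w := by
    rw [TensorProduct.map_map, hfg, TensorProduct.map_id, LinearMap.id_apply]
  rw [← hinj]
  suffices h0 : TensorProduct.map g g w = 0 by rw [h0, map_zero]
  let b := Pi.basisFun R (Fin n)
  apply (b.tensorProduct b).ext_elem
  rintro ⟨i, j⟩
  rw [map_zero, Finsupp.zero_apply]
  have key : ∀ z : (Fin n → R) ⊗[R] (Fin n → R), (b.tensorProduct b).repr z (i, j) =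
      LinearMap.mul' R R (TensorProduct.map (b.coord i) (b.coord j) z) := by
    intro z
    induction z using TensorProduct.induction_on with
    | zero => simp
    | tmul m n =>
      rw [Module.Basis.tensorProduct_repr_tmul_apply, TensorProduct.map_tmul,
        LinearMap.mul'_apply, Module.Basis.coord_apply, Module.Basis.coord_apply, smul_eq_mul,
        mul_comm]
    | add x y hx hy => rw [map_add, Finsupp.add_apply, hx, hy, map_add, map_add]
  rw [key, TensorProduct.map_map]
  exact h _ _

variable [Coalgebra R A]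

theorem isCocomm_of_dual_comm' [Module.Finite R A] [Module.Projective R A]
    (h : ∀ f g : WithConv (A →ₗ[R] R), f * g = g * f) : IsCocomm R A := by
  constructor
  apply LinearMap.ext
  intro a
  show TensorProduct.comm R A A (comul a) = comul a
  rw [← sub_eq_zero]
  apply sepProj
  intro f g
  rw [map_sub, map_sub, sub_eq_zero]
  have h2 : ∀ z : A ⊗[R] A, LinearMap.mul' R R (TensorProduct.map f g
      (TensorProduct.comm R A A z)) = LinearMap.mul' R R (TensorProduct.map g f z) := by
    intro z
    induction z using TensorProduct.induction_on with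
    | zero => simp
    | tmul m n =>
      rw [TensorProduct.comm_tmul, TensorProduct.map_tmul, LinearMap.mul'_apply,
        TensorProduct.map_tmul, LinearMap.mul'_apply, mul_comm]
    | add x y hx hy => rw [map_add, map_add, map_add, hx, hy, map_add, map_add]
  rw [h2]
  show (toConv g * toConv f) a = (toConv f * toConv g) a
  rw [h]

end Proj

section Main

variable {R : Type u} {A : Type v} [CommRing R] [CommRing A] [HopfAlgebra R A]
variable (S : Type*) [CommRing S] [Algebra R S]

/-- base change of a functional -/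
noncomputable def bc (F : WithConv (A →ₗ[R] R)) : WithConv ((S ⊗[R] A) →ₗ[S] S) :=
  toConv (LinearMap.liftBaseChange S ((Algebra.linearMap R S) ∘ₗ F.ofConv))

theorem res_bc (F : WithConv (A →ₗ[R] R)) :
    res S (bc S F) = (Algebra.linearMap R S) ∘ₗ F.ofConv := by
  apply LinearMap.ext
  intro a
  rw [res_apply]
  show LinearMap.liftBaseChange S ((Algebra.linearMap R S) ∘ₗ F.ofConv) ((1 : S) ⊗ₜ[R] a) = _
  rw [LinearMap.liftBaseChange_tmul, one_smul]

theorem bc_mul (F G : WithConv (A →ₗ[R] R)) (a : A) :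
    (bc S F * bc S G) ((1 : S) ⊗ₜ[R] a) = algebraMap R S ((F * G) a) := by
  rw [conv_one_tmul, res_bc, res_bc]
  have key : ∀ y : A ⊗[R] A,
      LinearMap.mul' R S (TensorProduct.map ((Algebra.linearMap R S) ∘ₗ F.ofConv)
        ((Algebra.linearMap R S) ∘ₗ G.ofConv) y) =
      algebraMap R S (LinearMap.mul' R R (TensorProduct.map F.ofConv G.ofConv y)) := by
    intro y
    induction y using TensorProduct.induction_on with
    | zero => simp
    | add x y hx hy => rw [map_add, map_add, hx, hy, map_add, map_add, map_add]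
    | tmul a₁ a₂ =>
      rw [TensorProduct.map_tmul, LinearMap.mul'_apply, TensorProduct.map_tmul,
        LinearMap.mul'_apply, map_mul]
      rfl
  exact key (comul (R := R) a)

end Main

theorem dual_comm (R : Type u) [CommRing R] (p : ℕ) [hp : Fact p.Prime] (A : Type v)
    [CommRing A] [HopfAlgebra R A] [Module.Finite R A] [Module.Projective R A]
    (hrk : ∀ q : PrimeSpectrum R, Module.rankAtStalk A q = p) (F G : WithConv (A →ₗ[R] R)) :
    F * G = G * F := by
  apply WithConv.ext
  apply LinearMap.ext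
  intro a
  show (F * G) a = (G * F) a
  rw [← sub_eq_zero]
  apply eq_zero_of_localization
  intro J hJ
  rw [map_sub, sub_eq_zero, ← bc_mul, ← bc_mul]
  haveI : Module.Free (Localization.AtPrime J) (Localization.AtPrime J ⊗[R] A) :=
    Module.free_of_flat_of_isLocalRing
  have hfr : Module.finrank (Localization.AtPrime J) (Localization.AtPrime J ⊗[R] A) = p := by
    rw [← Module.rankAtStalk_eq_finrank_tensorProduct (M := A) ⟨J, hJ.isPrime⟩]
    exact hrk _
  haveI : Coalgebra.IsCocomm (Localization.AtPrime J) (Localization.AtPrime J ⊗[R] A) :=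
    free_case (Module.finBasisOfFinrankEq _ _ hfr) hp.out
  have hc : bc (Localization.AtPrime J) F * bc (Localization.AtPrime J) G =
      bc (Localization.AtPrime J) G * bc (Localization.AtPrime J) F := mul_comm _ _
  rw [hc]

theorem main15053 (R : Type u) [CommRing R] (p : ℕ) [Fact p.Prime] (A : Type v) [CommRing A]
    [HopfAlgebra R A] [Module.Finite R A] [Module.Projective R A]
    (hp : ∀ q : PrimeSpectrum R, Module.rankAtStalk A q = p) : Coalgebra.IsCocomm R A :=
  isCocomm_of_dual_comm' (dual_comm R p A hp)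

end RankPH1
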