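import Mathlib
import Groth.Prelude.Def_W4c5ffgsreadingcourseOT
import Groth.Agent.Lib.OTDual_helper1
import Groth.Agent.Lib.OTEigen_helper9
import Groth.Agent.Lib.RankP_helper1
import Groth.Agent.Lib.Deligne_helper1
import Groth.Agent.Lib.MultDense_helper1

set_option autoImplicit false
set_option maxHeartbeats 1000000

/-!
# Oort–Tate: the eigenspaces `I_i` of the augmentation ideal are invertible and `I_1^t = I_t` (helper1)

* module structure: `I_i` is a retract of `A` (`retr`), `A ≃ R × Π_{i<p-1} I_i` (`decomp`), so the ranks add up to `p`;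
* geometric fibres: over an algebraically closed field there is `x ∈ I_1` with `x^t ≠ 0` for `t < p`
  (`gc`: infinitesimal case via an ε-derivation `D` with `D x = 1`, étale case via characters);
* base change of the projector `Pi` gives positivity of all ranks and, with the rank-one identity
  `ψ(y) f = ψ(f) y`, the equality `I_1^t = I_t`.
-/

namespace OTRankH1

open TensorProduct WithConv Coalgebra

universe u

section Basic

variable (p : ℕ) [Fact p.Prime] (R : Type u) [CommRing R] (χ : (ZMod p)ˣ →* Rˣ)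
  (A : Type u) [CommRing A] [HopfAlgebra R A]

theorem mul_mem_eigenAug {i j : ℕ} {x y : A} (hx : x ∈ OortTate.eigenAug R A p χ i)
    (hy : y ∈ OortTate.eigenAug R A p χ j) : x * y ∈ OortTate.eigenAug R A p χ (i + j) := by
  rw [OTDualH1.mem_eigenAug] at hx hy ⊢
  refine ⟨?_, fun m => ?_⟩
  · rw [Bialgebra.counit_mul, hx.1, zero_mul]
  · rw [map_mul, hx.2 m, hy.2 m, smul_mul_smul_comm, pow_add]

theorem pow_le_eigenAug (t : ℕ) (ht : 1 ≤ t) :
    (OortTate.eigenAug R A p χ 1) ^ t ≤ OortTate.eigenAug R A p χ t := by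
  induction t with
  | zero => omega
  | succ t ih =>
    rcases Nat.eq_zero_or_pos t with rfl | htpos
    · rw [zero_add, pow_one]
    · rw [pow_succ]
      apply Submodule.mul_le.mpr
      intro a ha b hb
      exact mul_mem_eigenAug p R χ A (ih htpos ha) hb

theorem eigenAug_congr {i j : ℕ}
    (h : ∀ m : (ZMod p)ˣ, ((χ m : Rˣ) : R) ^ i = ((χ m : Rˣ) : R) ^ j) :
    OortTate.eigenAug R A p χ i = OortTate.eigenAug R A p χ j := by
  ext a
  rw [OTDualH1.mem_eigenAug, OTDualH1.mem_eigenAug]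
  constructor
  · rintro ⟨h1, h2⟩
    exact ⟨h1, fun m => by rw [h2 m, h m]⟩
  · rintro ⟨h1, h2⟩
    exact ⟨h1, fun m => by rw [h2 m, h m]⟩

theorem chi_pow_card (m : (ZMod p)ˣ) : ((χ m : Rˣ) : R) ^ (p - 1) = 1 := by
  rw [← Units.val_pow_eq_pow_val, ← map_pow, ZMod.units_pow_card_sub_one_eq_one, map_one,
    Units.val_one]

theorem eigenAug_mod (i : ℕ) :
    OortTate.eigenAug R A p χ i = OortTate.eigenAug R A p χ (i % (p - 1)) := by
  apply eigenAug_congr
  intro m
  conv_lhs => rw [← Nat.div_add_mod i (p - 1)]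
  rw [pow_add, pow_mul, chi_pow_card, one_pow, one_mul]

end Basic

section Mod

variable (p : ℕ) [Fact p.Prime] (R : Type u) [CommRing R] (u : R)
  (hu : u * ((p - 1 : ℕ) : R) = 1)
  (χ : (ZMod p)ˣ →* Rˣ) (A : Type u) [CommRing A] [HopfAlgebra R A]
  (hp : (toConv (AlgHom.id R A)) ^ p = 1) (i : ℕ)

/-- the retraction of `A` onto the eigenspace `I_i` -/
noncomputable def retr : A →ₗ[R] OortTate.eigenAug R A p χ i :=
  (OTDualH1.Pi p R u χ A i).codRestrict _ (OTDualH1.Pi_mem p R u χ A hp i)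

theorem retr_coe (a : A) : ((retr p R u χ A hp i a : OortTate.eigenAug R A p χ i) : A) =
    OTDualH1.Pi p R u χ A i a := rfl

include hu in
theorem retr_comp : (retr p R u χ A hp i) ∘ₗ (OortTate.eigenAug R A p χ i).subtype =
    LinearMap.id := by
  apply LinearMap.ext
  intro f
  apply Subtype.ext
  exact OTDualH1.Pi_eig p R u hu χ A i f f.2

include hu hp in
theorem finite_eigenAug [Module.Finite R A] : Module.Finite R (OortTate.eigenAug R A p χ i) :=
  Module.Finite.of_surjective (retr p R u χ A hp i)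
    (fun f => ⟨f, LinearMap.congr_fun (retr_comp p R u hu χ A hp i) f⟩)

include hu hp in
theorem projective_eigenAug [Module.Projective R A] :
    Module.Projective R (OortTate.eigenAug R A p χ i) :=
  Module.Projective.of_split (OortTate.eigenAug R A p χ i).subtype (retr p R u χ A hp i)
    (retr_comp p R u hu χ A hp i)

end Mod

section Decomp

variable (p : ℕ) [Fact p.Prime] (R : Type u) [CommRing R] (u : R)
  (hu : u * ((p - 1 : ℕ) : R) = 1)
  (χ : (ZMod p)ˣ →* Rˣ) (hχ : ∀ m : (ZMod p)ˣ, m ≠ 1 → IsUnit ((χ m : R) - 1))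
  (A : Type u) [CommRing A] [HopfAlgebra R A]
  (hp : (toConv (AlgHom.id R A)) ^ p = 1)

noncomputable def toFam :
    A →ₗ[R] R × (∀ i : Fin (p - 1), OortTate.eigenAug R A p χ (i : ℕ)) :=
  LinearMap.prod (Coalgebra.counit (R := R) (A := A))
    (LinearMap.pi (fun i : Fin (p - 1) => retr p R u χ A hp (i : ℕ)))

noncomputable def ofFam :
    R × (∀ i : Fin (p - 1), OortTate.eigenAug R A p χ (i : ℕ)) →ₗ[R] A :=
  LinearMap.coprod (Algebra.linearMap R A)
    (∑ i : Fin (p - 1), (OortTate.eigenAug R A p χ (i : ℕ)).subtype ∘ₗ LinearMap.proj i)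

theorem ofFam_apply (x : R × (∀ i : Fin (p - 1), OortTate.eigenAug R A p χ (i : ℕ))) :
    ofFam p R χ A x = algebraMap R A x.1 + ∑ i : Fin (p - 1), ((x.2 i : _) : A) := by
  unfold ofFam
  rw [LinearMap.coprod_apply, LinearMap.sum_apply]
  rfl

theorem Pi_eq_proj (i : ℕ) (a : A) :
    OTDualH1.Pi p R u χ A i a = OortTate.proj R A p u χ i (OTDualH1.q R A a) := rfl

include hu hχ in
theorem ofFam_toFam (a : A) : ofFam p R χ A (toFam p R u χ A hp a) = a := by
  have hcoi := OTEigen9.proj_complete p R u hu χ hχ A hp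
  rw [ofFam_apply]
  show algebraMap R A (Coalgebra.counit (R := R) a) +
    ∑ i : Fin (p - 1), OTDualH1.Pi p R u χ A (i : ℕ) a = a
  have h1 : ∑ i : Fin (p - 1), OTDualH1.Pi p R u χ A (i : ℕ) a = OTDualH1.q R A a := by
    have h2 := LinearMap.congr_fun hcoi.complete (OTDualH1.q R A a)
    rw [LinearMap.sum_apply] at h2
    exact h2
  rw [h1, OTDualH1.q_apply]
  ring

include hu hχ in
theorem toFam_ofFam (x : R × (∀ i : Fin (p - 1), OortTate.eigenAug R A p χ (i : ℕ))) :
    toFam p R u χ A hp (ofFam p R χ A x) = x := by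
  have hcoi := OTEigen9.proj_complete p R u hu χ hχ A hp
  obtain ⟨r, f⟩ := x
  have hcf : ∀ j : Fin (p - 1), Coalgebra.counit (R := R) ((f j : _) : A) = 0 := fun j =>
    ((OTDualH1.mem_eigenAug p R χ A (j : ℕ) _).mp (f j).2).1
  rw [ofFam_apply]
  apply Prod.ext
  · show Coalgebra.counit (R := R) (algebraMap R A r + ∑ i : Fin (p - 1), ((f i : _) : A)) = r
    rw [map_add, Bialgebra.counit_algebraMap, map_sum, Finset.sum_eq_zero (fun j _ => hcf j),
      add_zero]
  · funext i
    apply Subtype.ext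
    show OTDualH1.Pi p R u χ A (i : ℕ) (algebraMap R A r + ∑ j : Fin (p - 1), ((f j : _) : A)) =
      ((f i : _) : A)
    rw [map_add, Algebra.algebraMap_eq_smul_one, map_smul, OTDualH1.Pi_one, smul_zero, zero_add,
      map_sum, Finset.sum_eq_single i]
    · exact OTDualH1.Pi_eig p R u hu χ A (i : ℕ) _ (f i).2
    · intro j _ hji
      rw [Pi_eq_proj, OTDualH1.q_of_counit R A _ (hcf j),
        ← OTEigen9.proj_of_mem_eigenAug p R u hu χ A (j : ℕ) _ (f j).2]
      exact LinearMap.congr_fun (hcoi.ortho (Ne.symm hji)) _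
    · intro h
      exact absurd (Finset.mem_univ i) h

/-- `A ≃ R × Π_{i<p-1} I_i` -/
noncomputable def decomp (hu : u * ((p - 1 : ℕ) : R) = 1)
    (hχ : ∀ m : (ZMod p)ˣ, m ≠ 1 → IsUnit ((χ m : R) - 1)) :
    A ≃ₗ[R] R × (∀ i : Fin (p - 1), OortTate.eigenAug R A p χ (i : ℕ)) :=
  LinearEquiv.ofLinearMap (toFam p R u χ A hp) (ofFam p R χ A)
    (LinearMap.ext (toFam_ofFam p R u hu χ hχ A hp))
    (LinearMap.ext (ofFam_toFam p R u hu χ hχ A hp))

include hu hχ hp in
theorem rank_sum [Module.Finite R A] [Module.Projective R A] (q : PrimeSpectrum R) :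
    Module.rankAtStalk A q =
      1 + ∑ i : Fin (p - 1), Module.rankAtStalk (OortTate.eigenAug R A p χ (i : ℕ)) q := by
  haveI : Nontrivial R := q.nontrivial
  haveI : ∀ i : Fin (p - 1), Module.Finite R (OortTate.eigenAug R A p χ (i : ℕ)) :=
    fun i => finite_eigenAug p R u hu χ A hp i
  haveI : ∀ i : Fin (p - 1), Module.Projective R (OortTate.eigenAug R A p χ (i : ℕ)) :=
    fun i => projective_eigenAug p R u hu χ A hp i
  haveI : Module.Flat R (∀ i : Fin (p - 1), OortTate.eigenAug R A p χ (i : ℕ)) :=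
    Module.Flat.of_linearEquiv (DirectSum.linearEquivFunOnFintype R (Fin (p - 1))
      (fun i => OortTate.eigenAug R A p χ (i : ℕ))).symm
  rw [Module.rankAtStalk_eq_of_equiv (decomp p R u χ A hp hu hχ), Module.rankAtStalk_prod,
    Pi.add_apply, Module.rankAtStalk_self, Pi.one_apply, Module.rankAtStalk_pi,
    finsum_eq_sum_of_fintype]

end Decomp


section Smul

variable {R : Type u} [CommRing R] (S : Type u) [CommRing S] [Algebra R S]

theorem one_tmul_smul {M : Type*} [AddCommGroup M] [Module R M] (r : R) (a : M) :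
    (1 : S) ⊗ₜ[R] (r • a) = algebraMap R S r • ((1 : S) ⊗ₜ[R] a) := by
  rw [TensorProduct.smul_tmul', smul_eq_mul, mul_one, Algebra.algebraMap_eq_smul_one,
    TensorProduct.smul_tmul]

end Smul

section BC

variable (p : ℕ) [Fact p.Prime] {R : Type u} [CommRing R] (S : Type u) [CommRing S] [Algebra R S]
  (χ : (ZMod p)ˣ →* Rˣ) (A : Type u) [CommRing A] [HopfAlgebra R A]

/-- base change of the character -/
def chiS : (ZMod p)ˣ →* Sˣ := (Units.map (algebraMap R S : R →* S)).comp χ

theorem chiS_apply (m : (ZMod p)ˣ) :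
    ((chiS p S χ m : Sˣ) : S) = algebraMap R S ((χ m : Rˣ) : R) := rfl

theorem one_tmul_mem {i : ℕ} {f : A} (hf : f ∈ OortTate.eigenAug R A p χ i) :
    (1 : S) ⊗ₜ[R] f ∈ OortTate.eigenAug S (S ⊗[R] A) p (chiS p S χ) i := by
  rw [OTDualH1.mem_eigenAug] at hf ⊢
  refine ⟨?_, fun m => ?_⟩
  · rw [MultDenseH1.counit_one_tmul, hf.1, map_zero]
  · rw [MultFinH1.powConv_baseChange, hf.2 m, one_tmul_smul, chiS_apply, map_pow]

theorem Pi_bc (u : R) (i : ℕ) (a : A) :
    OTDualH1.Pi p S (algebraMap R S u) (chiS p S χ) (S ⊗[R] A) i ((1 : S) ⊗ₜ[R] a) =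
      (1 : S) ⊗ₜ[R] OTDualH1.Pi p R u χ A i a := by
  rw [OTDualH1.Pi_apply, OTDualH1.Pi_apply, OTDualH1.q_apply, OTDualH1.q_apply,
    MultFinH1.one_tmul_algebraMap (S := S), ← TensorProduct.tmul_sub, OTDualH1.av_apply,
    OTDualH1.av_apply, one_tmul_smul, TensorProduct.tmul_sum]
  congr 1
  apply Finset.sum_congr rfl
  intro m _
  rw [MultFinH1.powConv_baseChange, one_tmul_smul, chiS_apply, map_pow]

theorem eigenAug_bc_le (u : R) (hp : (toConv (AlgHom.id R A)) ^ p = 1)
    (huS : algebraMap R S u * ((p - 1 : ℕ) : S) = 1) (i : ℕ) :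
    OortTate.eigenAug S (S ⊗[R] A) p (chiS p S χ) i ≤
      Submodule.span S ((fun f : A => (1 : S) ⊗ₜ[R] f) ''
        (OortTate.eigenAug R A p χ i : Set A)) := by
  have key : ∀ z : S ⊗[R] A,
      OTDualH1.Pi p S (algebraMap R S u) (chiS p S χ) (S ⊗[R] A) i z ∈
        Submodule.span S ((fun f : A => (1 : S) ⊗ₜ[R] f) ''
          (OortTate.eigenAug R A p χ i : Set A)) := by
    intro z
    induction z using TensorProduct.induction_on with
    | zero =>
      rw [map_zero]
      exact Submodule.zero_mem _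
    | add x y hx hy =>
      rw [map_add]
      exact Submodule.add_mem _ hx hy
    | tmul s a =>
      have h1 : s ⊗ₜ[R] a = s • ((1 : S) ⊗ₜ[R] a) := by
        rw [TensorProduct.smul_tmul', smul_eq_mul, mul_one]
      rw [h1, map_smul, Pi_bc]
      apply Submodule.smul_mem
      apply Submodule.subset_span
      exact ⟨_, OTDualH1.Pi_mem p R u χ A hp i a, rfl⟩
  intro z hz
  have h2 := key z
  rwa [OTDualH1.Pi_eig p S (algebraMap R S u) huS (chiS p S χ) (S ⊗[R] A) i z hz] at h2

end BC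

section GC

variable {K : Type u} [Field K] [IsAlgClosed K] {B : Type u} [CommRing B] [HopfAlgebra K B]
  [Module.Finite K B]

omit [IsAlgClosed K] [Module.Finite K B] in
theorem der_powConv (D : B →ₗ[K] K) (hD : PrimeClassH1.IsDer D) (n : ℕ) :
    ∀ a : B, D (SGA3b.powConv K B n a) = (n : K) * D a := by
  induction n with
  | zero =>
    intro a
    show D (((toConv (AlgHom.id K B)) ^ 0).ofConv a) = _
    rw [pow_zero]
    show D (algebraMap K B (counit (R := K) a)) = ((0 : ℕ) : K) * D a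
    rw [Algebra.algebraMap_eq_smul_one, map_smul, PrimeClassH1.deriv_one D hD, smul_zero,
      Nat.cast_zero, zero_mul]
  | succ n ih =>
    intro a
    have key : ∀ y : B ⊗[K] B,
        D (LinearMap.mul' K B (TensorProduct.map (SGA3b.powConv K B n).toLinearMap
          LinearMap.id y)) =
        LinearMap.mul' K K (TensorProduct.map (1 : WithConv (B →ₗ[K] K)).ofConv D y) +
        LinearMap.mul' K K (TensorProduct.map (D ∘ₗ (SGA3b.powConv K B n).toLinearMap)
          (1 : WithConv (B →ₗ[K] K)).ofConv y) := by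
      intro y
      induction y using TensorProduct.induction_on with
      | zero => simp
      | add x y hx hy =>
        simp only [map_add, hx, hy]
        ring
      | tmul a₁ a₂ =>
        rw [TensorProduct.map_tmul, LinearMap.mul'_apply, TensorProduct.map_tmul,
          LinearMap.mul'_apply, TensorProduct.map_tmul, LinearMap.mul'_apply]
        show D (SGA3b.powConv K B n a₁ * a₂) =
          counit (R := K) a₁ * D a₂ + D (SGA3b.powConv K B n a₁) * counit (R := K) a₂
        rw [hD, OTDualH1.counit_powConv]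
    have h1 : D (SGA3b.powConv K B (n + 1) a) =
        ((1 : WithConv (B →ₗ[K] K)) * toConv D) a +
          ((toConv (D ∘ₗ (SGA3b.powConv K B n).toLinearMap) : WithConv (B →ₗ[K] K)) * 1) a := by
      rw [OTDualH1.powConv_succ_apply, OTDualH1.lmul_map_eq]
      exact key (comul (R := K) a)
    rw [h1, one_mul, mul_one]
    show D a + D (SGA3b.powConv K B n a) = _
    rw [ih a, Nat.cast_succ]
    ring

omit [IsAlgClosed K] [Module.Finite K B] in
theorem gc_inf (p : ℕ) [hpf : Fact p.Prime] [CharP K p] (u : K)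
    (hu : u * ((p - 1 : ℕ) : K) = 1) (χ : (ZMod p)ˣ →* Kˣ)
    (hχp : ∀ m : (ZMod p)ˣ, ((χ m : Kˣ) : K) - (((m : ZMod p).val : ℕ) : K) ∈
      Ideal.span ({(p : K)} : Set K))
    (hpB : (toConv (AlgHom.id K B)) ^ p = 1)
    (x₀ : B) (hx₀ : counit (R := K) x₀ = 0) (D : B →ₗ[K] K) (hD : PrimeClassH1.IsDer D)
    (hDx : D x₀ = 1) :
    ∃ x ∈ OortTate.eigenAug K B p χ 1, ∀ t, t < p → x ^ t ≠ 0 := by
  have hχeq : ∀ m : (ZMod p)ˣ, ((χ m : Kˣ) : K) = (((m : ZMod p).val : ℕ) : K) := by
    intro m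
    obtain ⟨a, ha⟩ := Ideal.mem_span_singleton'.mp (hχp m)
    rw [CharP.cast_eq_zero K p, mul_zero] at ha
    exact sub_eq_zero.mp ha.symm
  have hxmem : OTDualH1.Pi p K u χ B 1 x₀ ∈ OortTate.eigenAug K B p χ 1 :=
    OTDualH1.Pi_mem p K u χ B hpB 1 x₀
  have hxc : counit (R := K) (OTDualH1.Pi p K u χ B 1 x₀) = 0 :=
    ((OTDualH1.mem_eigenAug p K χ B 1 _).mp hxmem).1
  have hDx' : D (OTDualH1.Pi p K u χ B 1 x₀) = 1 := by
    rw [OTDualH1.Pi_apply, OTDualH1.q_of_counit K B x₀ hx₀, OTDualH1.av_apply, map_smul,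
      map_sum]
    have h1 : ∀ m : (ZMod p)ˣ,
        D ((((χ m⁻¹ : Kˣ) : K) ^ 1) • SGA3b.powConv K B (m : ZMod p).val x₀) = 1 := by
      intro m
      rw [map_smul, der_powConv D hD, hDx, mul_one, pow_one, smul_eq_mul, ← hχeq m,
        ← Units.val_mul, ← map_mul, inv_mul_cancel, map_one, Units.val_one]
    rw [Finset.sum_congr rfl (fun m _ => h1 m), Finset.sum_const, Finset.card_univ,
      ZMod.card_units_eq_totient, Nat.totient_prime hpf.out, smul_eq_mul, nsmul_eq_mul, mul_one,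
      hu]
  refine ⟨_, hxmem, ?_⟩
  intro t ht h0
  have h1 := PrimeOrderH1.pow_diag D hD ((InfOrderH1.mem_augI _).mpr hxc) hDx' t
  have h3 : ((toConv D : WithConv (B →ₗ[K] K)) ^ t) (0 : B) = 0 :=
    map_zero ((toConv D : WithConv (B →ₗ[K] K)) ^ t).ofConv
  rw [h0, h3] at h1
  have h2 : (p : ℕ) ∣ t.factorial := (CharP.cast_eq_zero_iff K p _).mp h1.symm
  rw [hpf.out.dvd_factorial] at h2
  omega

omit [IsAlgClosed K] in
theorem gc_et (p : ℕ) [hpf : Fact p.Prime] (χ : (ZMod p)ˣ →* Kˣ) [Fintype (FinOrderH1.Chr K B)]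
    (hcard : Fintype.card (FinOrderH1.Chr K B) = p) (hB : Module.finrank K B = p) :
    ∃ x ∈ OortTate.eigenAug K B p χ 1, ∀ t : ℕ, x ^ t ≠ 0 := by
  classical
  have hcard' : Fintype.card (WithConv (B →ₐ[K] K)) = Module.finrank K B := by
    rw [hB]
    exact hcard
  haveI : IsCyclic (FinOrderH1.Chr K B) :=
    isCyclic_of_prime_card (p := p) (by rw [Nat.card_eq_fintype_card, hcard])
  obtain ⟨γ₀, hγ₀⟩ := IsCyclic.exists_generator (α := FinOrderH1.Chr K B)
  have hord : orderOf γ₀ = p := by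
    rw [orderOf_eq_card_of_forall_mem_zpowers hγ₀, Nat.card_eq_fintype_card, hcard]
  let e : ZMod p → FinOrderH1.Chr K B := fun a => γ₀ ^ a.val
  have he_pow : ∀ n : ℕ, γ₀ ^ n = e (n : ZMod p) := by
    intro n
    show γ₀ ^ n = γ₀ ^ ((n : ZMod p).val)
    rw [ZMod.val_natCast, ← hord, pow_mod_orderOf]
  have hsurj : Function.Surjective e := by
    intro γ
    have h2 := hγ₀ γ
    rw [← mem_powers_iff_mem_zpowers] at h2
    obtain ⟨n, hn⟩ := (Submonoid.mem_powers_iff _ _).mp h2
    exact ⟨(n : ZMod p), by rw [← he_pow, hn]⟩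
  have hbij : Function.Bijective e :=
    (Fintype.bijective_iff_surjective_and_card e).mpr ⟨hsurj, by rw [ZMod.card, hcard]⟩
  have he_mul : ∀ (a : ZMod p) (n : ℕ), (e a) ^ n = e (a * (n : ZMod p)) := by
    intro a n
    show (γ₀ ^ a.val) ^ n = _
    rw [← pow_mul, he_pow, Nat.cast_mul, ZMod.natCast_zmod_val]
  let Ev : B →ₗ[K] (FinOrderH1.Chr K B → K) := LinearMap.pi (fun γ => γ.ofConv.toLinearMap)
  have hEv : ∀ b γ, Ev b γ = γ.ofConv b := fun b γ => rfl
  have hinj : Function.Injective Ev := by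
    rw [injective_iff_map_eq_zero]
    intro a ha
    apply PrimeClassH1.chars_sep hcard' a
    intro γ
    rw [← hEv, ha]
    rfl
  have hEvsurj : Function.Surjective Ev := by
    apply (LinearMap.injective_iff_surjective_of_finrank_eq_finrank _).mp hinj
    rw [Module.finrank_fintype_fun_eq_card, hcard, hB]
  let g : ZMod p → K := fun a => if h : a = 0 then 0 else ((χ (Units.mk0 a h) : Kˣ) : K)
  obtain ⟨x, hx⟩ := hEvsurj (fun γ => g ((Equiv.ofBijective e hbij).symm γ))
  have hxe : ∀ a : ZMod p, (e a).ofConv x = g a := by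
    intro a
    have h1 := congrFun hx (e a)
    rw [hEv] at h1
    rw [h1]
    show g ((Equiv.ofBijective e hbij).symm ((Equiv.ofBijective e hbij) a)) = g a
    rw [Equiv.symm_apply_apply]
  have hg_mul : ∀ (a : ZMod p) (m : (ZMod p)ˣ),
      g (a * (m : ZMod p)) = ((χ m : Kˣ) : K) * g a := by
    intro a m
    by_cases ha : a = 0
    · have h0 : a * (m : ZMod p) = 0 := by rw [ha, zero_mul]
      show (if h : a * (m : ZMod p) = 0 then (0 : K) else
        ((χ (Units.mk0 (a * (m : ZMod p)) h) : Kˣ) : K)) =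
        ((χ m : Kˣ) : K) * (if h : a = 0 then (0 : K) else ((χ (Units.mk0 a h) : Kˣ) : K))
      rw [dif_pos h0, dif_pos ha, mul_zero]
    · have h0 : a * (m : ZMod p) ≠ 0 := mul_ne_zero ha m.ne_zero
      show (if h : a * (m : ZMod p) = 0 then (0 : K) else
        ((χ (Units.mk0 (a * (m : ZMod p)) h) : Kˣ) : K)) =
        ((χ m : Kˣ) : K) * (if h : a = 0 then (0 : K) else ((χ (Units.mk0 a h) : Kˣ) : K))
      rw [dif_neg h0, dif_neg ha]
      have h3 : Units.mk0 (a * (m : ZMod p)) h0 = m * Units.mk0 a ha := by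
        apply Units.ext
        show a * (m : ZMod p) = (m : ZMod p) * a
        ring
      rw [h3, map_mul, Units.val_mul]
  refine ⟨x, ?_, ?_⟩
  · rw [OTDualH1.mem_eigenAug]
    constructor
    · have h1 := hxe 0
      have he0 : e 0 = 1 := by
        show γ₀ ^ (0 : ZMod p).val = 1
        rw [ZMod.val_zero, pow_zero]
      have hg0 : g 0 = 0 := dif_pos rfl
      rw [he0, hg0, FinOrderH1.chr_one_apply] at h1
      exact h1
    · intro m
      rw [← sub_eq_zero]
      apply PrimeClassH1.chars_sep hcard'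
      intro γ
      obtain ⟨a, rfl⟩ := hsurj γ
      rw [map_sub, map_smul, sub_eq_zero]
      have h1 : (e a).ofConv (SGA3b.powConv K B (m : ZMod p).val x) =
          (e (a * (m : ZMod p))).ofConv x := by
        have h2 := OTDualH1.comp_pow K B (e a).ofConv (toConv (AlgHom.id K B)) (m : ZMod p).val
        have h4 : toConv ((e a).ofConv.comp (toConv (AlgHom.id K B)).ofConv) = e a := by
          apply WithConv.ext
          exact AlgHom.comp_id _
        rw [h4, he_mul, ZMod.natCast_zmod_val] at h2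
        exact AlgHom.congr_fun h2 x
      rw [h1, hxe, hxe, hg_mul, pow_one, smul_eq_mul]
  · intro t h0
    have hg1 : g 1 = 1 := by
      have h10 : (1 : ZMod p) ≠ 0 := one_ne_zero
      show (if h : (1 : ZMod p) = 0 then (0 : K) else
        ((χ (Units.mk0 (1 : ZMod p) h) : Kˣ) : K)) = 1
      rw [dif_neg h10]
      have h11 : Units.mk0 (1 : ZMod p) h10 = 1 := Units.ext rfl
      rw [h11, map_one, Units.val_one]
    have h2 := congrArg (e 1).ofConv h0
    rw [map_pow, hxe, hg1, one_pow, map_zero] at h2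
    exact one_ne_zero h2

theorem gc (p : ℕ) [hpf : Fact p.Prime] (u : K) (hu : u * ((p - 1 : ℕ) : K) = 1)
    (χ : (ZMod p)ˣ →* Kˣ)
    (hχp : ∀ m : (ZMod p)ˣ, ((χ m : Kˣ) : K) - (((m : ZMod p).val : ℕ) : K) ∈
      Ideal.span ({(p : K)} : Set K))
    (hB : Module.finrank K B = p) :
    ∃ x ∈ OortTate.eigenAug K B p χ 1, ∀ t, 1 ≤ t → t ≤ p - 1 → x ^ t ≠ 0 := by
  classical
  have hp := hpf.out
  obtain ⟨e, N, he, h1N, hJ, hstab⟩ := FinOrderH1.exists_idem (K := K) (B := B)
  have hc0 := FinOrderH1.counit_e h1N hJ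
  have hc1 := FinOrderH1.char_e he hJ
  haveI : Finite (FinOrderH1.Chr K B) := Finite.of_equiv _ (WithConv.equiv (B →ₐ[K] K)).symm
  haveI : Fintype (FinOrderH1.Chr K B) := Fintype.ofFinite _
  have hn := FinOrderH1.finrank_eq he hc1 hc0
  rw [hB] at hn
  have hdvd : Fintype.card (FinOrderH1.Chr K B) ∣ p := ⟨_, hn⟩
  rcases (Nat.dvd_prime hp).mp hdvd with h1 | h1
  · rw [h1, one_mul] at hn
    obtain ⟨q, hq⟩ := ExpChar.exists K
    haveI := hq
    obtain ⟨r, hr⟩ := FinOrderH1.finrank_quot q he hc1 hc0 h1N hJ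
    have hqr : q ^ r = p := by rw [← hr, ← hn]
    obtain ⟨hqp, hr1⟩ := (Nat.Prime.pow_eq_iff hp).mp hqr
    have hq' : ExpChar K p := hqp ▸ hq
    haveI : CharP K p := by
      cases hq' with
      | zero => exact absurd hp Nat.not_prime_one
      | prime hprime => infer_instance
    have hfrq : Module.finrank K (B ⧸ (Ideal.span {1 - e} : Ideal B)) ≠ 1 := by
      rw [← hn]
      exact hp.one_lt.ne'
    obtain ⟨x₀, hxI, hx2⟩ := PrimeClassH1.exists_not_sq h1N hJ hfrq
    obtain ⟨D, hDx, hD⟩ := PrimeOrderH1.exists_deriv hxI hx2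
    have hpB : (toConv (AlgHom.id K B)) ^ p = 1 := by
      have h5 := FinOrderH1.closed_case K B
      rwa [hB] at h5
    obtain ⟨x, hxm, hxt⟩ := gc_inf p u hu χ hχp hpB x₀ ((InfOrderH1.mem_augI x₀).mp hxI) D hD hDx
    exact ⟨x, hxm, fun t _ ht => hxt t (by have := hp.one_lt; omega)⟩
  · obtain ⟨x, hxm, hxt⟩ := gc_et p χ h1 hB
    exact ⟨x, hxm, fun t _ _ => hxt t⟩

end GC


section SpanPow

variable {R : Type u} [CommRing R] (S : Type u) [CommRing S] [Algebra R S]
  {A : Type u} [CommRing A] [Algebra R A]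

/-- the `S`-span of `1 ⊗ N` -/
def WW (N : Submodule R A) : Submodule S (S ⊗[R] A) :=
  Submodule.span S ((fun f : A => (1 : S) ⊗ₜ[R] f) '' (N : Set A))

theorem WW_mul_le (N₁ N₂ : Submodule R A) : WW S N₁ * WW S N₂ ≤ WW S (N₁ * N₂) := by
  unfold WW
  rw [Submodule.span_mul_span]
  apply Submodule.span_mono
  rintro _ ⟨_, ⟨a, ha, rfl⟩, _, ⟨b, hb, rfl⟩, rfl⟩
  refine ⟨a * b, Submodule.mul_mem_mul ha hb, ?_⟩
  show (1 : S) ⊗ₜ[R] (a * b) = ((1 : S) ⊗ₜ[R] a) * ((1 : S) ⊗ₜ[R] b)
  rw [Algebra.TensorProduct.tmul_mul_tmul, mul_one]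

theorem WW_pow_le (N : Submodule R A) (t : ℕ) (ht : 1 ≤ t) : (WW S N) ^ t ≤ WW S (N ^ t) := by
  induction t with
  | zero => omega
  | succ t ih =>
    rcases Nat.eq_zero_or_pos t with rfl | htpos
    · rw [zero_add, pow_one, pow_one]
    · rw [pow_succ, pow_succ]
      exact le_trans (mul_le_mul' (ih htpos) (le_refl _)) (WW_mul_le S _ _)

theorem WW_eq_bot (N : Submodule R A) (h : ∀ y ∈ N, (1 : S) ⊗ₜ[R] y = 0) : WW S N = ⊥ := by
  rw [eq_bot_iff]
  unfold WW
  rw [Submodule.span_le]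
  rintro _ ⟨y, hy, rfl⟩
  exact (Submodule.mem_bot S).mpr (h y hy)

end SpanPow

section RankOne

theorem rank_one_identity (R : Type u) [CommRing R] {M : Type u} [AddCommGroup M] [Module R M]
    [Module.Finite R M] [Module.Projective R M]
    (h1 : ∀ q : PrimeSpectrum R, Module.rankAtStalk M q = 1) (ψ : M →ₗ[R] R) (y f : M) :
    ψ y • f = ψ f • y := by
  rw [← sub_eq_zero]
  apply Module.eq_zero_of_localization_maximal
    (fun P _ => Localization.AtPrime P ⊗[R] M)
    (fun P _ => TensorProduct.mk R (Localization.AtPrime P) M 1)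
  intro P hP
  show (1 : Localization.AtPrime P) ⊗ₜ[R] (ψ y • f - ψ f • y) = 0
  haveI : Module.Free (Localization.AtPrime P) (Localization.AtPrime P ⊗[R] M) :=
    Module.free_of_flat_of_isLocalRing
  have hfr : Module.finrank (Localization.AtPrime P) (Localization.AtPrime P ⊗[R] M) = 1 := by
    rw [← Module.rankAtStalk_eq_finrank_tensorProduct (M := M) ⟨P, hP.isPrime⟩]
    exact h1 _
  let b := Module.finBasisOfFinrankEq (Localization.AtPrime P)
    (Localization.AtPrime P ⊗[R] M) hfr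
  let ψS : (Localization.AtPrime P ⊗[R] M) →ₗ[Localization.AtPrime P] Localization.AtPrime P :=
    LinearMap.liftBaseChange (Localization.AtPrime P)
      ((Algebra.linearMap R (Localization.AtPrime P)) ∘ₗ ψ)
  have hψS : ∀ m : M, ψS ((1 : Localization.AtPrime P) ⊗ₜ[R] m) =
      algebraMap R (Localization.AtPrime P) (ψ m) := by
    intro m
    show LinearMap.liftBaseChange (Localization.AtPrime P)
      ((Algebra.linearMap R (Localization.AtPrime P)) ∘ₗ ψ)
        ((1 : Localization.AtPrime P) ⊗ₜ[R] m) = _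
    rw [LinearMap.liftBaseChange_tmul, one_smul]
    rfl
  have hrep : ∀ Y : Localization.AtPrime P ⊗[R] M, ∃ c : Localization.AtPrime P, Y = c • b 0 := by
    intro Y
    refine ⟨b.repr Y 0, ?_⟩
    conv_lhs => rw [← b.sum_repr Y]
    rw [Fin.sum_univ_one]
  have hgen : ∀ Y F : Localization.AtPrime P ⊗[R] M, ψS Y • F = ψS F • Y := by
    intro Y F
    obtain ⟨cY, rfl⟩ := hrep Y
    obtain ⟨cF, rfl⟩ := hrep F
    rw [map_smul, map_smul, smul_eq_mul, smul_eq_mul, smul_smul, smul_smul]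
    congr 1
    ring
  rw [TensorProduct.tmul_sub, one_tmul_smul (Localization.AtPrime P),
    one_tmul_smul (Localization.AtPrime P), ← hψS, ← hψS, sub_eq_zero]
  exact hgen _ _

theorem exists_dual_notMem (R : Type u) [CommRing R] (A : Type u) [AddCommGroup A] [Module R A]
    [Module.Projective R A] (m : Ideal R) [m.IsPrime] (y : A)
    (hy : (1 : AlgebraicClosure m.ResidueField) ⊗ₜ[R] y ≠ 0) :
    ∃ ψ : A →ₗ[R] R, ψ y ∉ m := by
  by_contra hcon
  push Not at hcon
  apply hy
  obtain ⟨s, hs⟩ := (Module.projective_def' (R := R) (P := A)).mp inferInstance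
  have hy' : y = Finsupp.linearCombination R id (s y) := (LinearMap.congr_fun hs y).symm
  rw [hy', Finsupp.linearCombination_apply, Finsupp.sum, TensorProduct.tmul_sum]
  apply Finset.sum_eq_zero
  intro a _
  have h1 : (s y) a ∈ m := hcon ((Finsupp.lapply a) ∘ₗ s)
  show (1 : AlgebraicClosure m.ResidueField) ⊗ₜ[R] ((s y) a • a) = 0
  rw [one_tmul_smul,
    IsScalarTower.algebraMap_apply R m.ResidueField (AlgebraicClosure m.ResidueField),
    (Ideal.algebraMap_residueField_eq_zero).mpr h1, map_zero, zero_smul]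

end RankOne


section Fibre

variable (p : ℕ) [hpf : Fact p.Prime] (R : Type u) [CommRing R] (u : R)
  (hu : u * ((p - 1 : ℕ) : R) = 1)
  (χ : (ZMod p)ˣ →* Rˣ)
  (hχ : ∀ m : (ZMod p)ˣ, m ≠ 1 → IsUnit ((χ m : R) - 1))
  (hχp : ∀ m : (ZMod p)ˣ, ((χ m : Rˣ) : R) - (((m : ZMod p).val : ℕ) : R) ∈
    Ideal.span ({(p : R)} : Set R))
  (A : Type u) [CommRing A] [HopfAlgebra R A] [Module.Finite R A] [Module.Projective R A]
  (hrk : ∀ q : PrimeSpectrum R, Module.rankAtStalk A q = p)
  (hp : (toConv (AlgHom.id R A)) ^ p = 1)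

include hu hχp hrk hp in
theorem exists_fibre_pow (q : Ideal R) [q.IsPrime] (t : ℕ) (h1t : 1 ≤ t) (htp : t ≤ p - 1) :
    ∃ y ∈ (OortTate.eigenAug R A p χ 1) ^ t,
      (1 : AlgebraicClosure q.ResidueField) ⊗ₜ[R] y ≠ 0 := by
  have huK : algebraMap R (AlgebraicClosure q.ResidueField) u *
      ((p - 1 : ℕ) : AlgebraicClosure q.ResidueField) = 1 := by
    rw [← map_natCast (algebraMap R (AlgebraicClosure q.ResidueField)), ← map_mul, hu, map_one]
  have hχpK : ∀ m : (ZMod p)ˣ,
      ((chiS p (AlgebraicClosure q.ResidueField) χ m : (AlgebraicClosure q.ResidueField)ˣ) :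
        AlgebraicClosure q.ResidueField) -
        (((m : ZMod p).val : ℕ) : AlgebraicClosure q.ResidueField) ∈
      Ideal.span ({(p : AlgebraicClosure q.ResidueField)} :
        Set (AlgebraicClosure q.ResidueField)) := by
    intro m
    obtain ⟨a, ha⟩ := Ideal.mem_span_singleton'.mp (hχp m)
    refine Ideal.mem_span_singleton'.mpr
      ⟨algebraMap R (AlgebraicClosure q.ResidueField) a, ?_⟩
    rw [chiS_apply, ← map_natCast (algebraMap R (AlgebraicClosure q.ResidueField)) p, ← map_mul,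
      ha, map_sub, map_natCast]
  have hfr : Module.finrank (AlgebraicClosure q.ResidueField)
      (AlgebraicClosure q.ResidueField ⊗[R] A) = p := by
    have h1 := Module.rankAtStalk_baseChange (R := R) (M := A)
      (S := AlgebraicClosure q.ResidueField) ⟨⊥, Ideal.isPrime_bot⟩
    rw [hrk] at h1
    have h2 := congrFun (Module.rankAtStalk_eq_finrank_of_free
      (R := AlgebraicClosure q.ResidueField)
      (M := AlgebraicClosure q.ResidueField ⊗[R] A)) ⟨⊥, Ideal.isPrime_bot⟩
    rw [h1] at h2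
    simpa using h2.symm
  obtain ⟨x, hxm, hxt⟩ := gc (K := AlgebraicClosure q.ResidueField)
    (B := AlgebraicClosure q.ResidueField ⊗[R] A) p
    (algebraMap R (AlgebraicClosure q.ResidueField) u) huK
    (chiS p (AlgebraicClosure q.ResidueField) χ) hχpK hfr
  have hxW : x ∈ WW (AlgebraicClosure q.ResidueField) (OortTate.eigenAug R A p χ 1) :=
    eigenAug_bc_le p (AlgebraicClosure q.ResidueField) χ A u hp huK 1 hxm
  have hxtW : x ^ t ∈ WW (AlgebraicClosure q.ResidueField)
      ((OortTate.eigenAug R A p χ 1) ^ t) :=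
    WW_pow_le (AlgebraicClosure q.ResidueField) _ t h1t (Submodule.pow_mem_pow _ hxW t)
  by_contra hcon
  push Not at hcon
  apply hxt t h1t htp
  rw [WW_eq_bot (AlgebraicClosure q.ResidueField) _ hcon] at hxtW
  exact (Submodule.mem_bot _).mp hxtW

include hu hχp hrk hp in
theorem rank_pos (q : PrimeSpectrum R) (i : ℕ) :
    0 < Module.rankAtStalk (OortTate.eigenAug R A p χ i) q := by
  haveI : q.asIdeal.IsPrime := q.isPrime
  haveI : Module.Finite R (OortTate.eigenAug R A p χ i) := finite_eigenAug p R u hu χ A hp i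
  haveI : Module.Projective R (OortTate.eigenAug R A p χ i) :=
    projective_eigenAug p R u hu χ A hp i
  have hp1 : 1 ≤ p - 1 := by
    have := hpf.out.one_lt
    omega
  obtain ⟨t, h1t, htp, hti⟩ : ∃ t, 1 ≤ t ∧ t ≤ p - 1 ∧ t % (p - 1) = i % (p - 1) := by
    by_cases h0 : i % (p - 1) = 0
    · exact ⟨p - 1, hp1, le_refl _, by rw [Nat.mod_self, h0]⟩
    · exact ⟨i % (p - 1), Nat.pos_of_ne_zero h0, (Nat.mod_lt _ hp1).le, Nat.mod_mod _ _⟩
  obtain ⟨y, hy, hy0⟩ := exists_fibre_pow p R u hu χ hχp A hrk hp q.asIdeal t h1t htp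
  have hyi : y ∈ OortTate.eigenAug R A p χ i := by
    have h2 := pow_le_eigenAug p R χ A t h1t hy
    rw [eigenAug_mod p R χ A t, hti, ← eigenAug_mod p R χ A i] at h2
    exact h2
  rw [Module.rankAtStalk_pos_iff_mem_support, Module.mem_support_iff_exists_annihilator]
  refine ⟨⟨y, hyi⟩, ?_⟩
  intro r hr
  rw [Submodule.mem_annihilator_span_singleton] at hr
  have h2 : r • y = 0 := congrArg Subtype.val hr
  have h3 : algebraMap R (AlgebraicClosure q.asIdeal.ResidueField) r •
      ((1 : AlgebraicClosure q.asIdeal.ResidueField) ⊗ₜ[R] y) = 0 := by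
    rw [← one_tmul_smul, h2, TensorProduct.tmul_zero]
  rcases smul_eq_zero.mp h3 with h4 | h4
  · rw [IsScalarTower.algebraMap_apply R q.asIdeal.ResidueField
      (AlgebraicClosure q.asIdeal.ResidueField),
      map_eq_zero_iff _ (algebraMap q.asIdeal.ResidueField
        (AlgebraicClosure q.asIdeal.ResidueField)).injective,
      Ideal.algebraMap_residueField_eq_zero] at h4
    exact h4
  · exact absurd h4 hy0

include hu hχ hχp hrk hp in
theorem rank_eq_one_fin (i : Fin (p - 1)) (q : PrimeSpectrum R) :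
    Module.rankAtStalk (OortTate.eigenAug R A p χ (i : ℕ)) q = 1 := by
  have hs := rank_sum p R u hu χ hχ A hp q
  rw [hrk] at hs
  have hpos : ∀ j : Fin (p - 1),
      1 ≤ Module.rankAtStalk (OortTate.eigenAug R A p χ (j : ℕ)) q :=
    fun j => rank_pos p R u hu χ hχp A hrk hp q (j : ℕ)
  by_contra hne
  have hlt : 1 < Module.rankAtStalk (OortTate.eigenAug R A p χ (i : ℕ)) q :=
    lt_of_le_of_ne (hpos i) (Ne.symm hne)
  have hsum : ∑ _j : Fin (p - 1), 1 <
      ∑ j : Fin (p - 1), Module.rankAtStalk (OortTate.eigenAug R A p χ (j : ℕ)) q :=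
    Finset.sum_lt_sum (fun j _ => hpos j) ⟨i, Finset.mem_univ i, hlt⟩
  rw [Finset.sum_const, Finset.card_univ, Fintype.card_fin, smul_eq_mul, mul_one] at hsum
  have := hpf.out.one_lt
  omega

include hu hχ hχp hrk hp in
theorem rank_eq_one (i : ℕ) (q : PrimeSpectrum R) :
    Module.rankAtStalk (OortTate.eigenAug R A p χ i) q = 1 := by
  have hp1 : 0 < p - 1 := by
    have := hpf.out.one_lt
    omega
  rw [Module.rankAtStalk_eq_of_equiv (LinearEquiv.ofEq _ _ (eigenAug_mod p R χ A i))]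
  exact rank_eq_one_fin p R u hu χ hχ hχp A hrk hp ⟨i % (p - 1), Nat.mod_lt _ hp1⟩ q

include hu hχ hχp hrk hp in
theorem pow_eq (t : ℕ) (h1t : 1 ≤ t) (htp : t ≤ p - 1) :
    (OortTate.eigenAug R A p χ 1) ^ t = OortTate.eigenAug R A p χ t := by
  apply le_antisymm (pow_le_eigenAug p R χ A t h1t)
  intro f hf
  have hc : ∀ r : R, r ∈ ((OortTate.eigenAug R A p χ 1) ^ t).comap
      (LinearMap.toSpanSingleton R A f) ↔ r • f ∈ (OortTate.eigenAug R A p χ 1) ^ t := by
    intro r
    rw [Submodule.mem_comap, LinearMap.toSpanSingleton_apply]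
  by_cases htop : ((OortTate.eigenAug R A p χ 1) ^ t).comap
      (LinearMap.toSpanSingleton R A f) = (⊤ : Ideal R)
  · have h1 : (1 : R) ∈ ((OortTate.eigenAug R A p χ 1) ^ t).comap
        (LinearMap.toSpanSingleton R A f) := by
      rw [htop]
      trivial
    rw [hc, one_smul] at h1
    exact h1
  · exfalso
    obtain ⟨m, hm, hcm⟩ := Ideal.exists_le_maximal _ htop
    haveI : m.IsPrime := hm.isPrime
    obtain ⟨y, hy, hy0⟩ := exists_fibre_pow p R u hu χ hχp A hrk hp m t h1t htp
    obtain ⟨ψ, hψ⟩ := exists_dual_notMem R A m y hy0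
    apply hψ
    apply hcm
    rw [hc]
    have hyt : y ∈ OortTate.eigenAug R A p χ t := pow_le_eigenAug p R χ A t h1t hy
    haveI : Module.Finite R (OortTate.eigenAug R A p χ t) := finite_eigenAug p R u hu χ A hp t
    haveI : Module.Projective R (OortTate.eigenAug R A p χ t) :=
      projective_eigenAug p R u hu χ A hp t
    have hid := rank_one_identity R (M := OortTate.eigenAug R A p χ t)
      (rank_eq_one p R u hu χ hχ hχp A hrk hp t)
      (ψ ∘ₗ (OortTate.eigenAug R A p χ t).subtype) ⟨y, hyt⟩ ⟨f, hf⟩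
    have hid' : ψ y • f = ψ f • y := congrArg Subtype.val hid
    rw [hid']
    exact Submodule.smul_mem _ _ hy

end Fibre

theorem main18469 (p : ℕ) [Fact p.Prime] (R : Type u) [CommRing R] (u : R)
    (hu : u * ((p - 1 : ℕ) : R) = 1)
    (χ : (ZMod p)ˣ →* Rˣ) (hχ : ∀ m : (ZMod p)ˣ, m ≠ 1 → IsUnit ((χ m : R) - 1))
    (hχp : ∀ m : (ZMod p)ˣ, ((χ m : Rˣ) : R) - (((m : ZMod p).val : ℕ) : R) ∈
      Ideal.span ({(p : R)} : Set R))
    (A : Type u) [CommRing A] [HopfAlgebra R A] [Module.Finite R A] [Module.Projective R A]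
    (hrk : ∀ q : PrimeSpectrum R, Module.rankAtStalk A q = p) :
    (∀ i : ℕ, Module.Finite R (OortTate.eigenAug R A p χ i) ∧
        Module.Projective R (OortTate.eigenAug R A p χ i) ∧
        ∀ q : PrimeSpectrum R, Module.rankAtStalk (↥(OortTate.eigenAug R A p χ i)) q = 1) ∧
      ∀ t : ℕ, 1 ≤ t → t ≤ p - 1 →
        (OortTate.eigenAug R A p χ 1) ^ t = OortTate.eigenAug R A p χ t := by
  haveI : Coalgebra.IsCocomm R A := RankPH1.main15053 R p A hrk
  have hp := DeligneH1.main15048 R A p hrk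
  exact ⟨fun i => ⟨finite_eigenAug p R u hu χ A hp i, projective_eigenAug p R u hu χ A hp i,
    fun q => rank_eq_one p R u hu χ hχ hχp A hrk hp i q⟩,
    fun t h1 h2 => pow_eq p R u hu χ hχ hχp A hrk hp t h1 h2⟩

end OTRankH1
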