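import Mathlib
import Groth.Agent.Lib.OTRank_helper1

set_option autoImplicit false
set_option maxHeartbeats 1000000

/-!
# Oort–Tate: `A` is the tensor algebra of `I_1` modulo the relations `x_1 ⋯ x_p = g` (helper1)

Generic part: for a submodule `I` of a commutative algebra `A` which is, near every maximal ideal,
generated by one element `x` up to a scalar outside the maximal ideal (`LocData`), the tensor algebra
of `I` is commutative and the kernel of `T(I) → A` is the left ideal spanned by the relations.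
-/

namespace OTTensorH1

universe u

section LG

variable {R : Type u} [CommRing R] {M : Type*} [AddCommGroup M] [Module R M]

theorem mem_of_forall_maximal (N : Submodule R M) (z : M)
    (h : ∀ m : Ideal R, m.IsMaximal → ∃ s : R, s ∉ m ∧ s • z ∈ N) : z ∈ N := by
  have hc : ∀ r : R, r ∈ N.comap (LinearMap.toSpanSingleton R M z) ↔ r • z ∈ N := by
    intro r
    rw [Submodule.mem_comap, LinearMap.toSpanSingleton_apply]
  by_cases htop : N.comap (LinearMap.toSpanSingleton R M z) = (⊤ : Ideal R)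
  · have h1 : (1 : R) ∈ N.comap (LinearMap.toSpanSingleton R M z) := by
      rw [htop]
      trivial
    rw [hc, one_smul] at h1
    exact h1
  · exfalso
    obtain ⟨m, hm, hcm⟩ := Ideal.exists_le_maximal _ htop
    obtain ⟨s, hs, hsz⟩ := h m hm
    exact hs (hcm ((hc s).mpr hsz))

/-- elements which a scalar outside `m` moves into `N` -/
def Loc (m : Ideal R) [hm : m.IsPrime] (N : Submodule R M) : Submodule R M where
  carrier := {w | ∃ s : R, s ∉ m ∧ s • w ∈ N}
  add_mem' := by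
    rintro a b ⟨s, hs, hsa⟩ ⟨s', hs', hsb⟩
    refine ⟨s * s', fun h => (hm.mem_or_mem h).elim hs hs', ?_⟩
    have e : (s * s') • (a + b) = s' • (s • a) + s • (s' • b) := by
      rw [smul_add, mul_smul, mul_smul, smul_comm s s' a]
    rw [e]
    exact N.add_mem (N.smul_mem _ hsa) (N.smul_mem _ hsb)
  zero_mem' := ⟨1, (Ideal.ne_top_iff_one m).mp hm.ne_top, by rw [smul_zero]; exact N.zero_mem⟩
  smul_mem' := by
    rintro c a ⟨s, hs, hsa⟩
    exact ⟨s, hs, by rw [smul_comm]; exact N.smul_mem c hsa⟩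

theorem mem_Loc (m : Ideal R) [m.IsPrime] (N : Submodule R M) (w : M) :
    w ∈ Loc m N ↔ ∃ s : R, s ∉ m ∧ s • w ∈ N := Iff.rfl

end LG

section Generic

variable {R : Type u} [CommRing R] {A : Type u} [CommRing A] [Algebra R A] (I : Submodule R A)

/-- the relations `ι x₁ ⋯ ι x_p - ι g` with `g = x₁ ⋯ x_p` -/
def rels (p : ℕ) : Set (TensorAlgebra R I) :=
  {x | ∃ (f : Fin p → I) (g : I), (g : A) = ∏ i, (f i : A) ∧
      x = (List.ofFn fun i => TensorAlgebra.ι R (f i)).prod - TensorAlgebra.ι R g}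

/-- the canonical map -/
noncomputable def phi : TensorAlgebra R I →ₐ[R] A := TensorAlgebra.lift R I.subtype

theorem phi_ι (f : I) : phi I (TensorAlgebra.ι R f) = (f : A) := by
  unfold phi
  rw [TensorAlgebra.lift_ι_apply]
  rfl

theorem span_le_ker (p : ℕ) : Ideal.span (rels I p) ≤ RingHom.ker (phi I) := by
  rw [Ideal.span_le]
  rintro _ ⟨f, g, hg, rfl⟩
  rw [SetLike.mem_coe, RingHom.mem_ker, map_sub, map_list_prod, List.map_ofFn, phi_ι, hg,
    sub_eq_zero, List.prod_ofFn]
  apply Finset.prod_congr rfl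
  intro i _
  exact phi_ι I (f i)

/-- local structure of `I` near a prime `m` -/
structure LocData (m : Ideal R) (p : ℕ) where
  x : I
  ψ : I →ₗ[R] R
  hψx : ψ x ∉ m
  hψ : ∀ f : I, ψ x • f = ψ f • x
  xp : I
  hxp : (xp : A) = (x : A) ^ p
  lam : Fin p → (A →ₗ[R] R)
  hlam : ∀ j : Fin p, lam j ((x : A) ^ (j : ℕ)) ∉ m
  hlam0 : ∀ j k : Fin p, k ≠ j → lam j ((x : A) ^ (k : ℕ)) = 0

theorem ι_comm (h : ∀ m : Ideal R, m.IsMaximal →
      ∃ (x : I) (ψ : I →ₗ[R] R), ψ x ∉ m ∧ ∀ f : I, ψ x • f = ψ f • x) (f g : I) :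
    TensorAlgebra.ι R f * TensorAlgebra.ι R g = TensorAlgebra.ι R g * TensorAlgebra.ι R f := by
  rw [← sub_eq_zero]
  have h0 := mem_of_forall_maximal (⊥ : Submodule R (TensorAlgebra R I))
    (TensorAlgebra.ι R f * TensorAlgebra.ι R g - TensorAlgebra.ι R g * TensorAlgebra.ι R f) ?_
  · exact (Submodule.mem_bot R).mp h0
  · intro m hm
    obtain ⟨x, ψ, hψx, hψ⟩ := h m hm
    refine ⟨ψ x * ψ x, fun hmem => hψx ((hm.isPrime.mem_or_mem hmem).elim id id), ?_⟩
    rw [Submodule.mem_bot]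
    have e1 : ∀ f' : I, ψ x • TensorAlgebra.ι R f' = ψ f' • TensorAlgebra.ι R x := by
      intro f'
      rw [← map_smul, ← map_smul, hψ]
    rw [smul_sub, ← smul_mul_smul_comm, ← smul_mul_smul_comm, e1 f, e1 g, smul_mul_smul_comm,
      smul_mul_smul_comm, mul_comm (ψ g) (ψ f), sub_self]

theorem mul_comm' (hι : ∀ f g : I,
      TensorAlgebra.ι R f * TensorAlgebra.ι R g = TensorAlgebra.ι R g * TensorAlgebra.ι R f) :
    ∀ a b : TensorAlgebra R I, a * b = b * a := by
  have h1 : ∀ (f : I) (b : TensorAlgebra R I),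
      TensorAlgebra.ι R f * b = b * TensorAlgebra.ι R f := by
    intro f b
    induction b using TensorAlgebra.induction with
    | algebraMap r => exact (Algebra.commutes r _).symm
    | ι g => exact hι f g
    | mul b c hb hc => rw [← mul_assoc, hb, mul_assoc, hc, mul_assoc]
    | add b c hb hc => rw [mul_add, add_mul, hb, hc]
  intro a b
  induction a using TensorAlgebra.induction with
  | algebraMap r => exact Algebra.commutes r b
  | ι f => exact h1 f b
  | mul a c ha hc => rw [mul_assoc, hc, ← mul_assoc, ha, mul_assoc]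
  | add a c ha hc => rw [add_mul, mul_add, ha, hc]

end Generic


section Main

open Pointwise

variable {R : Type u} [CommRing R] {A : Type u} [CommRing A] [Algebra R A] (I : Submodule R A)

/-- the left ideal of relations as an `R`-submodule -/
def JJ (p : ℕ) : Submodule R (TensorAlgebra R I) := (Ideal.span (rels I p)).restrictScalars R

theorem JJ_mul_left {p : ℕ} {j : TensorAlgebra R I} (hj : j ∈ JJ I p) (t : TensorAlgebra R I) :
    t * j ∈ JJ I p := Ideal.mul_mem_left (Ideal.span (rels I p)) t hj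

variable (m : Ideal R) [hm : m.IsPrime] (p : ℕ) (hp2 : 2 ≤ p) (d : LocData I m p)
  (hcomm : ∀ a b : TensorAlgebra R I, a * b = b * a)

/-- span of the powers `Y^j`, `j < p` -/
def LL : Submodule R (TensorAlgebra R I) :=
  Submodule.span R (Set.range fun j : Fin p => (TensorAlgebra.ι R d.x) ^ (j : ℕ))

omit hm in
theorem hrel : d.ψ d.x • (TensorAlgebra.ι R d.x) ^ p - d.ψ d.xp • TensorAlgebra.ι R d.x ∈
    JJ I p := by
  have h1 : (TensorAlgebra.ι R d.x) ^ p - TensorAlgebra.ι R d.xp ∈ Ideal.span (rels I p) := by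
    apply Ideal.subset_span
    refine ⟨fun _ => d.x, d.xp, ?_, ?_⟩
    · rw [d.hxp, Finset.prod_const, Finset.card_univ, Fintype.card_fin]
    · rw [List.ofFn_const, List.prod_replicate]
  have h2 : d.ψ d.x • TensorAlgebra.ι R d.xp = d.ψ d.xp • TensorAlgebra.ι R d.x := by
    rw [← map_smul, ← map_smul, d.hψ]
  have e : d.ψ d.x • (TensorAlgebra.ι R d.x) ^ p - d.ψ d.xp • TensorAlgebra.ι R d.x =
      d.ψ d.x • ((TensorAlgebra.ι R d.x) ^ p - TensorAlgebra.ι R d.xp) := by
    rw [smul_sub, h2]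
  rw [e]
  exact Submodule.smul_mem (JJ I p) _ h1

theorem le_Loc (N : Submodule R (TensorAlgebra R I)) : N ≤ Loc m N := by
  intro w hw
  exact ⟨1, (Ideal.ne_top_iff_one m).mp hm.ne_top, by rw [one_smul]; exact hw⟩

include hp2 in
theorem pow_mem_Loc (k : ℕ) :
    (TensorAlgebra.ι R d.x) ^ k ∈ Loc m (JJ I p ⊔ LL I m p d) := by
  induction k using Nat.strong_induction_on with
  | _ k ih =>
    by_cases hk : k < p
    · apply le_Loc
      exact Submodule.mem_sup_right (Submodule.subset_span ⟨⟨k, hk⟩, rfl⟩)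
    · have hk' : k - p + 1 < k := by omega
      obtain ⟨s', hs', hs'N⟩ := ih (k - p + 1) hk'
      refine ⟨s' * d.ψ d.x, fun h => (hm.mem_or_mem h).elim hs' d.hψx, ?_⟩
      have hY1 : (TensorAlgebra.ι R d.x) ^ (k - p) * (TensorAlgebra.ι R d.x) ^ p =
          (TensorAlgebra.ι R d.x) ^ k := by
        rw [← pow_add]
        congr 1
        omega
      have hY2 : (TensorAlgebra.ι R d.x) ^ (k - p) * TensorAlgebra.ι R d.x =
          (TensorAlgebra.ι R d.x) ^ (k - p + 1) := (pow_succ _ _).symm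
      have e : (s' * d.ψ d.x) • (TensorAlgebra.ι R d.x) ^ k =
          s' • ((TensorAlgebra.ι R d.x) ^ (k - p) *
            (d.ψ d.x • (TensorAlgebra.ι R d.x) ^ p - d.ψ d.xp • TensorAlgebra.ι R d.x)) +
          d.ψ d.xp • (s' • (TensorAlgebra.ι R d.x) ^ (k - p + 1)) := by
        simp only [mul_sub, mul_smul_comm, hY1, hY2, smul_sub, smul_smul]
        rw [mul_comm (d.ψ d.xp) s', sub_add_cancel]
      rw [e]
      exact Submodule.add_mem _
        (Submodule.mem_sup_left (Submodule.smul_mem _ _ (JJ_mul_left I (hrel I m p d) _)))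
        (Submodule.smul_mem _ _ hs'N)

include hp2 hcomm in
theorem mul_mem_Loc {w w' : TensorAlgebra R I} (hw : w ∈ Loc m (JJ I p ⊔ LL I m p d))
    (hw' : w' ∈ Loc m (JJ I p ⊔ LL I m p d)) : w * w' ∈ Loc m (JJ I p ⊔ LL I m p d) := by
  obtain ⟨s, hs, hsw⟩ := hw
  obtain ⟨s', hs', hsw'⟩ := hw'
  obtain ⟨j, hj, l, hl, hjl⟩ := Submodule.mem_sup.mp hsw
  obtain ⟨j', hj', l', hl', hjl'⟩ := Submodule.mem_sup.mp hsw'
  have hLL : LL I m p d * LL I m p d ≤ Loc m (JJ I p ⊔ LL I m p d) := by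
    have h1 : LL I m p d * LL I m p d = Submodule.span R
        ((Set.range fun j : Fin p => (TensorAlgebra.ι R d.x) ^ (j : ℕ)) *
          (Set.range fun j : Fin p => (TensorAlgebra.ι R d.x) ^ (j : ℕ))) :=
      Submodule.span_mul_span _ _ _
    rw [h1, Submodule.span_le]
    rintro _ ⟨_, ⟨i, rfl⟩, _, ⟨j, rfl⟩, rfl⟩
    show (TensorAlgebra.ι R d.x) ^ (i : ℕ) * (TensorAlgebra.ι R d.x) ^ (j : ℕ) ∈
      Loc m (JJ I p ⊔ LL I m p d)
    rw [← pow_add]
    exact pow_mem_Loc I m p hp2 d _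
  obtain ⟨s'', hs'', hll⟩ := hLL (Submodule.mul_mem_mul hl hl')
  refine ⟨s'' * (s * s'), ?_, ?_⟩
  · intro h
    rcases hm.mem_or_mem h with h | h
    · exact hs'' h
    · exact (hm.mem_or_mem h).elim hs hs'
  · have e : (s'' * (s * s')) • (w * w') =
        s'' • (j * (j' + l') + l * j') + s'' • (l * l') := by
      rw [mul_smul, ← smul_mul_smul_comm, ← hjl, ← hjl', ← smul_add]
      congr 1
      rw [add_mul, mul_add l, ← add_assoc]
    rw [e]
    apply Submodule.add_mem _ _ hll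
    apply Submodule.mem_sup_left
    apply Submodule.smul_mem
    apply Submodule.add_mem
    · rw [hcomm]
      exact JJ_mul_left I hj _
    · exact JJ_mul_left I hj' _

include hp2 hcomm in
theorem all_mem_Loc (w : TensorAlgebra R I) : w ∈ Loc m (JJ I p ⊔ LL I m p d) := by
  induction w using TensorAlgebra.induction with
  | algebraMap r =>
    apply le_Loc
    apply Submodule.mem_sup_right
    rw [Algebra.algebraMap_eq_smul_one]
    exact Submodule.smul_mem _ r (Submodule.subset_span ⟨⟨0, by omega⟩, pow_zero _⟩)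
  | ι f =>
    refine ⟨d.ψ d.x, d.hψx, ?_⟩
    have h2 : d.ψ d.x • TensorAlgebra.ι R f = d.ψ f • TensorAlgebra.ι R d.x := by
      rw [← map_smul, ← map_smul, d.hψ]
    rw [h2]
    apply Submodule.mem_sup_right
    exact Submodule.smul_mem _ _ (Submodule.subset_span ⟨⟨1, by omega⟩, pow_one _⟩)
  | mul a b ha hb => exact mul_mem_Loc I m p hp2 d hcomm ha hb
  | add a b ha hb => exact Submodule.add_mem _ ha hb

include hp2 hcomm d in
theorem exists_smul_mem_JJ (z : TensorAlgebra R I) (hz : phi I z = 0) :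
    ∃ s : R, s ∉ m ∧ s • z ∈ JJ I p := by
  obtain ⟨s, hs, hsz⟩ := all_mem_Loc I m p hp2 d hcomm z
  obtain ⟨j, hj, l, hl, hjl⟩ := Submodule.mem_sup.mp hsz
  have hφj : phi I j = 0 := RingHom.mem_ker.mp (span_le_ker I p hj)
  have hφl : phi I l = 0 := by
    have h1 := congrArg (phi I) hjl
    rw [map_add, hφj, zero_add, map_smul, hz, smul_zero] at h1
    exact h1
  obtain ⟨c, hc⟩ := (Submodule.mem_span_range_iff_exists_fun R).mp hl
  have hsum : ∑ k : Fin p, c k • (d.x : A) ^ (k : ℕ) = 0 := by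
    rw [← hφl, ← hc, map_sum]
    apply Finset.sum_congr rfl
    intro k _
    rw [map_smul, map_pow, phi_ι]
  have hkill : ∀ j : Fin p, c j * d.lam j ((d.x : A) ^ (j : ℕ)) = 0 := by
    intro j
    have h1 := congrArg (d.lam j) hsum
    rw [map_sum, map_zero, Finset.sum_eq_single j] at h1
    · rw [map_smul, smul_eq_mul] at h1
      exact h1
    · intro k _ hkj
      rw [map_smul, d.hlam0 j k hkj, smul_zero]
    · intro h
      exact absurd (Finset.mem_univ j) h
  have hS'm : ∏ j : Fin p, d.lam j ((d.x : A) ^ (j : ℕ)) ∉ m := by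
    rw [Ideal.IsPrime.prod_mem_iff]
    rintro ⟨j, _, hj⟩
    exact d.hlam j hj
  have hS'c : ∀ j : Fin p, (∏ j : Fin p, d.lam j ((d.x : A) ^ (j : ℕ))) * c j = 0 := by
    intro j
    obtain ⟨e, he⟩ := Finset.dvd_prod_of_mem (fun j : Fin p => d.lam j ((d.x : A) ^ (j : ℕ)))
      (Finset.mem_univ j)
    rw [he]
    have h3 : d.lam j ((d.x : A) ^ (j : ℕ)) * e * c j =
        e * (c j * d.lam j ((d.x : A) ^ (j : ℕ))) := by ring
    rw [h3, hkill j, mul_zero]
  have hS'l : (∏ j : Fin p, d.lam j ((d.x : A) ^ (j : ℕ))) • l = 0 := by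
    rw [← hc, Finset.smul_sum]
    apply Finset.sum_eq_zero
    intro k _
    rw [smul_smul, hS'c k, zero_smul]
  refine ⟨(∏ j : Fin p, d.lam j ((d.x : A) ^ (j : ℕ))) * s,
    fun h => (hm.mem_or_mem h).elim hS'm hs, ?_⟩
  rw [mul_smul, ← hjl, smul_add, hS'l, add_zero]
  exact Submodule.smul_mem _ _ hj

end Main

section Ker

variable {R : Type u} [CommRing R] {A : Type u} [CommRing A] [Algebra R A] (I : Submodule R A)

theorem ker_le (p : ℕ) (hp2 : 2 ≤ p)
    (h : ∀ m : Ideal R, m.IsMaximal → Nonempty (LocData I m p)) :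
    RingHom.ker (phi I) ≤ Ideal.span (rels I p) := by
  have hι := ι_comm I (fun m hm => by
    obtain ⟨d⟩ := h m hm
    exact ⟨d.x, d.ψ, d.hψx, d.hψ⟩)
  have hcomm := mul_comm' I hι
  intro z hz
  exact mem_of_forall_maximal (JJ I p) z (fun m hm => by
    haveI := hm.isPrime
    obtain ⟨d⟩ := h m hm
    exact exists_smul_mem_JJ I m p hp2 d hcomm z (RingHom.mem_ker.mp hz))

end Ker


section Scale

variable {R : Type u} [CommRing R] {A : Type u} [CommRing A] [Algebra R A]

theorem pow_scale (I : Submodule R A) (x : A) (s : R) (ψ : I →ₗ[R] R)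
    (hψ : ∀ f : I, s • (f : A) = ψ f • x) :
    ∀ t : ℕ, ∀ y ∈ I ^ t, ∃ c : R, s ^ t • y = c • x ^ t := by
  intro t
  induction t with
  | zero =>
    intro y hy
    rw [pow_zero, Submodule.mem_one] at hy
    obtain ⟨r, rfl⟩ := hy
    exact ⟨r, by rw [pow_zero, one_smul, pow_zero, Algebra.algebraMap_eq_smul_one]⟩
  | succ t ih =>
    intro y hy
    rw [pow_succ] at hy
    refine Submodule.mul_induction_on hy ?_ ?_
    · intro a ha b hb
      obtain ⟨c, hc⟩ := ih a ha
      have hb' : s • b = ψ ⟨b, hb⟩ • x := hψ ⟨b, hb⟩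
      refine ⟨c * ψ ⟨b, hb⟩, ?_⟩
      rw [pow_succ, ← smul_mul_smul_comm, hc, hb', smul_mul_smul_comm, ← pow_succ]
    · rintro a b ⟨c, hc⟩ ⟨c', hc'⟩
      exact ⟨c + c', by rw [smul_add, hc, hc', add_smul]⟩

end Scale

section Specific

open TensorProduct WithConv Coalgebra OTRankH1

variable (p : ℕ) [hpf : Fact p.Prime] (R : Type u) [CommRing R] (u : R)
  (hu : u * ((p - 1 : ℕ) : R) = 1)
  (χ : (ZMod p)ˣ →* Rˣ)
  (hχ : ∀ m : (ZMod p)ˣ, m ≠ 1 → IsUnit ((χ m : R) - 1))
  (hχp : ∀ m : (ZMod p)ˣ, ((χ m : Rˣ) : R) - (((m : ZMod p).val : ℕ) : R) ∈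
    Ideal.span ({(p : R)} : Set R))
  (A : Type u) [CommRing A] [HopfAlgebra R A] [Module.Finite R A] [Module.Projective R A]
  (hrk : ∀ q : PrimeSpectrum R, Module.rankAtStalk A q = p)
  (hp : (toConv (AlgHom.id R A)) ^ p = 1)

include hu hχ hp in
theorem Pi_ortho (i i' : ℕ) (hi : i < p - 1) (hi' : i' < p - 1) (hne : i ≠ i') (f : A)
    (hf : f ∈ OortTate.eigenAug R A p χ i') : OTDualH1.Pi p R u χ A i f = 0 := by
  have hcoi := OTEigen9.proj_complete p R u hu χ hχ A hp
  have h1 : OTDualH1.Pi p R u χ A i f = OortTate.proj R A p u χ i f := by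
    rw [OTDualH1.Pi_apply, OTDualH1.q_of_counit R A _
      ((OTDualH1.mem_eigenAug p R χ A i' f).mp hf).1]
    rfl
  have h2 : OortTate.proj R A p u χ i' f = f := OTEigen9.proj_of_mem_eigenAug p R u hu χ A i' f hf
  rw [h1, ← h2]
  exact LinearMap.congr_fun (hcoi.ortho (i := ⟨i, hi⟩) (j := ⟨i', hi'⟩)
    (fun h => hne (congrArg Fin.val h))) f

include hu hχ hχp hrk hp in
theorem exists_locData (m : Ideal R) (hm : m.IsMaximal) :
    Nonempty (LocData (OortTate.eigenAug R A p χ 1) m p) := by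
  haveI : m.IsPrime := hm.isPrime
  have hp2 := hpf.out.two_le
  have hp1 : 1 ≤ p - 1 := by omega
  obtain ⟨x, hx1, hx0⟩ := exists_fibre_pow p R u hu χ hχp A hrk hp m 1 (le_refl 1) hp1
  rw [pow_one] at hx1
  obtain ⟨ψA, hψA⟩ := exists_dual_notMem R A m x hx0
  haveI : Module.Finite R (OortTate.eigenAug R A p χ 1) := finite_eigenAug p R u hu χ A hp 1
  haveI : Module.Projective R (OortTate.eigenAug R A p χ 1) :=
    projective_eigenAug p R u hu χ A hp 1
  have hψ : ∀ f : OortTate.eigenAug R A p χ 1,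
      (ψA ∘ₗ (OortTate.eigenAug R A p χ 1).subtype) ⟨x, hx1⟩ • f =
        (ψA ∘ₗ (OortTate.eigenAug R A p χ 1).subtype) f •
          (⟨x, hx1⟩ : OortTate.eigenAug R A p χ 1) :=
    fun f => rank_one_identity R (rank_eq_one p R u hu χ hχ hχp A hrk hp 1)
      (ψA ∘ₗ (OortTate.eigenAug R A p χ 1).subtype) ⟨x, hx1⟩ f
  have hψ' : ∀ f : OortTate.eigenAug R A p χ 1,
      ψA x • (f : A) = (ψA ∘ₗ (OortTate.eigenAug R A p χ 1).subtype) f • x :=
    fun f => congrArg Subtype.val (hψ f)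
  have hxc : Coalgebra.counit (R := R) x = 0 :=
    ((OTDualH1.mem_eigenAug p R χ A 1 x).mp hx1).1
  have hxp : x ^ p ∈ OortTate.eigenAug R A p χ 1 := by
    have h1 := pow_le_eigenAug p R χ A p hpf.out.pos (Submodule.pow_mem_pow _ hx1 p)
    have h2 : OortTate.eigenAug R A p χ p = OortTate.eigenAug R A p χ 1 := by
      apply eigenAug_congr
      intro m'
      have h3 : ((χ m' : Rˣ) : R) ^ p = ((χ m' : Rˣ) : R) ^ ((p - 1) + 1) := by
        congr 1
        omega
      rw [h3, pow_succ, chi_pow_card, one_mul, pow_one]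
    rw [h2] at h1
    exact h1
  have hxt_mem : ∀ t, 1 ≤ t → t ≤ p - 1 →
      x ^ t ∈ OortTate.eigenAug R A p χ (if t = p - 1 then 0 else t) := by
    intro t h1t htp
    have h1 := pow_le_eigenAug p R χ A t h1t (Submodule.pow_mem_pow _ hx1 t)
    by_cases ht : t = p - 1
    · rw [if_pos ht]
      have h2 : OortTate.eigenAug R A p χ t = OortTate.eigenAug R A p χ 0 := by
        apply eigenAug_congr
        intro m'
        rw [ht, chi_pow_card, pow_zero]
      rw [h2] at h1
      exact h1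
    · rw [if_neg ht]
      exact h1
  have hxt : ∀ t, 1 ≤ t → t ≤ p - 1 →
      (1 : AlgebraicClosure m.ResidueField) ⊗ₜ[R] (x ^ t) ≠ 0 := by
    intro t h1t htp h0
    obtain ⟨y, hy, hy0⟩ := exists_fibre_pow p R u hu χ hχp A hrk hp m t h1t htp
    obtain ⟨c, hc⟩ := pow_scale (OortTate.eigenAug R A p χ 1) x (ψA x)
      (ψA ∘ₗ (OortTate.eigenAug R A p χ 1).subtype) hψ' t y hy
    apply hy0
    have h2 : algebraMap R (AlgebraicClosure m.ResidueField) (ψA x) ^ t •
        ((1 : AlgebraicClosure m.ResidueField) ⊗ₜ[R] y) = 0 := by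
      rw [← map_pow, ← one_tmul_smul, hc, one_tmul_smul, h0, smul_zero]
    rcases smul_eq_zero.mp h2 with h3 | h3
    · exfalso
      have h4 := (pow_eq_zero_iff (n := t) (by omega)).mp h3
      rw [IsScalarTower.algebraMap_apply R m.ResidueField (AlgebraicClosure m.ResidueField),
        map_eq_zero_iff _ (algebraMap m.ResidueField
          (AlgebraicClosure m.ResidueField)).injective,
        Ideal.algebraMap_residueField_eq_zero] at h4
      exact hψA h4
    · exact h3
  have hψt : ∀ t, 1 ≤ t → t ≤ p - 1 → ∃ ψt : A →ₗ[R] R, ψt (x ^ t) ∉ m :=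
    fun t h1 h2 => exists_dual_notMem R A m (x ^ t) (hxt t h1 h2)
  choose! ψt hψt using hψt
  refine ⟨{
    x := ⟨x, hx1⟩
    ψ := ψA ∘ₗ (OortTate.eigenAug R A p χ 1).subtype
    hψx := hψA
    hψ := hψ
    xp := ⟨x ^ p, hxp⟩
    hxp := rfl
    lam := fun j => if (j : ℕ) = 0 then Coalgebra.counit (R := R) (A := A) else
      (ψt j) ∘ₗ (OTDualH1.Pi p R u χ A (if (j : ℕ) = p - 1 then 0 else (j : ℕ)))
    hlam := ?_
    hlam0 := ?_ }⟩
  · intro j
    show (if (j : ℕ) = 0 then Coalgebra.counit (R := R) (A := A) else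
      (ψt j) ∘ₗ (OTDualH1.Pi p R u χ A (if (j : ℕ) = p - 1 then 0 else (j : ℕ)))) (x ^ (j : ℕ)) ∉ m
    by_cases hj0 : (j : ℕ) = 0
    · rw [if_pos hj0, hj0, pow_zero, Bialgebra.counit_one]
      exact (Ideal.ne_top_iff_one m).mp hm.ne_top
    · rw [if_neg hj0]
      have hj1 : 1 ≤ (j : ℕ) := Nat.pos_of_ne_zero hj0
      have hjp : (j : ℕ) ≤ p - 1 := by have := j.isLt; omega
      show ψt j (OTDualH1.Pi p R u χ A (if (j : ℕ) = p - 1 then 0 else (j : ℕ)) (x ^ (j : ℕ))) ∉ m
      rw [OTDualH1.Pi_eig p R u hu χ A _ _ (hxt_mem j hj1 hjp)]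
      exact hψt j hj1 hjp
  · intro j k hkj
    show (if (j : ℕ) = 0 then Coalgebra.counit (R := R) (A := A) else
      (ψt j) ∘ₗ (OTDualH1.Pi p R u χ A (if (j : ℕ) = p - 1 then 0 else (j : ℕ)))) (x ^ (k : ℕ)) = 0
    have hkj' : (k : ℕ) ≠ (j : ℕ) := fun h => hkj (Fin.ext h)
    by_cases hj0 : (j : ℕ) = 0
    · rw [if_pos hj0]
      have hk0 : (k : ℕ) ≠ 0 := fun h => hkj' (h.trans hj0.symm)
      have h5 : Coalgebra.counit (R := R) (x ^ (k : ℕ)) =
          (Coalgebra.counit (R := R) x) ^ (k : ℕ) := map_pow (Bialgebra.counitAlgHom R A) x k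
      rw [h5, hxc, zero_pow hk0]
    · rw [if_neg hj0]
      show ψt j (OTDualH1.Pi p R u χ A (if (j : ℕ) = p - 1 then 0 else (j : ℕ)) (x ^ (k : ℕ))) = 0
      by_cases hk0 : (k : ℕ) = 0
      · rw [hk0, pow_zero, OTDualH1.Pi_one, map_zero]
      · have hk1 : 1 ≤ (k : ℕ) := Nat.pos_of_ne_zero hk0
        have hkp : (k : ℕ) ≤ p - 1 := by have := k.isLt; omega
        have hj1 : 1 ≤ (j : ℕ) := Nat.pos_of_ne_zero hj0
        have hjp : (j : ℕ) ≤ p - 1 := by have := j.isLt; omega
        rw [Pi_ortho p R u hu χ hχ A hp _ (if (k : ℕ) = p - 1 then 0 else (k : ℕ)) ?_ ?_ ?_ _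
          (hxt_mem k hk1 hkp), map_zero]
        · split_ifs <;> omega
        · split_ifs <;> omega
        · split_ifs <;> omega

include hu hχ hχp hrk hp in
theorem phi_surjective : Function.Surjective (phi (OortTate.eigenAug R A p χ 1)) := by
  have hp2 := hpf.out.two_le
  have hp1 : 1 ≤ p - 1 := by omega
  have hpow : ∀ t : ℕ, (OortTate.eigenAug R A p χ 1) ^ t ≤
      Subalgebra.toSubmodule (phi (OortTate.eigenAug R A p χ 1)).range := by
    intro t
    induction t with
    | zero =>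
      rw [pow_zero, Submodule.one_le]
      exact Subalgebra.one_mem _
    | succ t ih =>
      rw [pow_succ]
      apply Submodule.mul_le.mpr
      intro a ha b hb
      exact Subalgebra.mul_mem _ (ih ha) ⟨TensorAlgebra.ι R ⟨b, hb⟩, phi_ι _ _⟩
  intro a
  have ha := ofFam_toFam p R u hu χ hχ A hp a
  rw [ofFam_apply] at ha
  have hmem : a ∈ (phi (OortTate.eigenAug R A p χ 1)).range := by
    rw [← ha]
    apply Subalgebra.add_mem
    · exact Subalgebra.algebraMap_mem _ _
    · apply Subalgebra.sum_mem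
      intro i _
      have hle : OortTate.eigenAug R A p χ (i : ℕ) ≤
          Subalgebra.toSubmodule (phi (OortTate.eigenAug R A p χ 1)).range := by
        by_cases h0 : (i : ℕ) = 0
        · rw [h0, eigenAug_congr p R χ A (i := 0) (j := p - 1)
            (fun m' => by rw [pow_zero, chi_pow_card]),
            ← pow_eq p R u hu χ hχ hχp A hrk hp (p - 1) hp1 (le_refl _)]
          exact hpow _
        · rw [← pow_eq p R u hu χ hχ hχp A hrk hp (i : ℕ) (Nat.pos_of_ne_zero h0)
            (by have := i.isLt; omega)]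
          exact hpow _
      exact hle ((toFam p R u χ A hp a).2 i).2
  exact hmem

end Specific

theorem main18474 (p : ℕ) [hpf : Fact p.Prime] (R : Type u) [CommRing R] (u : R)
    (hu : u * ((p - 1 : ℕ) : R) = 1)
    (χ : (ZMod p)ˣ →* Rˣ) (hχ : ∀ m : (ZMod p)ˣ, m ≠ 1 → IsUnit ((χ m : R) - 1))
    (hχp : ∀ m : (ZMod p)ˣ, ((χ m : Rˣ) : R) - (((m : ZMod p).val : ℕ) : R) ∈
      Ideal.span ({(p : R)} : Set R))
    (A : Type u) [CommRing A] [HopfAlgebra R A] [Module.Finite R A] [Module.Projective R A]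
    (hrk : ∀ q : PrimeSpectrum R, Module.rankAtStalk A q = p) :
    Function.Surjective (TensorAlgebra.lift R (OortTate.eigenAug R A p χ 1).subtype) ∧
      RingHom.ker (TensorAlgebra.lift R (OortTate.eigenAug R A p χ 1).subtype) =
        Ideal.span {x : TensorAlgebra R (OortTate.eigenAug R A p χ 1) |
          ∃ (f : Fin p → OortTate.eigenAug R A p χ 1) (g : OortTate.eigenAug R A p χ 1),
            (g : A) = ∏ i, (f i : A) ∧
            x = (List.ofFn fun i => TensorAlgebra.ι R (f i)).prod - TensorAlgebra.ι R g} := by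
  haveI : Coalgebra.IsCocomm R A := RankPH1.main15053 R p A hrk
  have hp := DeligneH1.main15048 R A p hrk
  refine ⟨phi_surjective p R u hu χ hχ hχp A hrk hp, ?_⟩
  apply le_antisymm
  · exact ker_le (OortTate.eigenAug R A p χ 1) p hpf.out.two_le
      (exists_locData p R u hu χ hχ hχp A hrk hp)
  · exact span_le_ker (OortTate.eigenAug R A p χ 1) p

end OTTensorH1
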