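import Mathlib
import Groth.Agent.Lib.OTTensor_helper1

set_option autoImplicit false
set_option maxHeartbeats 1000000

/-!
# Oort–Tate: the group algebra of `ℤ/p` (`μ_p`) (helper1)

The general theory (`OTRankH1`, `OTTensorH1`) applied to `R[ℤ/p]`: `I_i = R y_i`, the `y_i` are a basis
of the augmentation ideal, `y_1` generates the algebra and `y_1^p = w y_1`.
-/

namespace OTMuH1

open TensorProduct WithConv Coalgebra OTRankH1 OTTensorH1

universe u

section Faithful

theorem smul_eq_zero_of_rank_one (R : Type u) [CommRing R] {M : Type u} [AddCommGroup M]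
    [Module R M] [Module.Finite R M] [Module.Projective R M]
    (h1 : ∀ q : PrimeSpectrum R, Module.rankAtStalk M q = 1) (c : R)
    (hc : ∀ m : M, c • m = 0) : c = 0 := by
  apply eq_zero_of_localization
  intro J hJ
  haveI : Module.Free (Localization.AtPrime J) (Localization.AtPrime J ⊗[R] M) :=
    Module.free_of_flat_of_isLocalRing
  have hfr : Module.finrank (Localization.AtPrime J) (Localization.AtPrime J ⊗[R] M) = 1 := by
    rw [← Module.rankAtStalk_eq_finrank_tensorProduct (M := M) ⟨J, hJ.isPrime⟩]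
    exact h1 _
  let b := Module.finBasisOfFinrankEq (Localization.AtPrime J)
    (Localization.AtPrime J ⊗[R] M) hfr
  have hall : ∀ z : Localization.AtPrime J ⊗[R] M,
      algebraMap R (Localization.AtPrime J) c • z = 0 := by
    intro z
    induction z using TensorProduct.induction_on with
    | zero => rw [smul_zero]
    | add x y hx hy => rw [smul_add, hx, hy, add_zero]
    | tmul s m =>
      rw [algebraMap_smul, ← TensorProduct.tmul_smul, hc, TensorProduct.tmul_zero]
  have h2 := hall (b 0)
  have h3 := congrArg (fun z => b.repr z 0) h2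
  simp only [map_smul, Module.Basis.repr_self, Finsupp.smul_apply, Finsupp.single_eq_same,
    smul_eq_mul, mul_one, map_zero, Finsupp.zero_apply] at h3
  exact h3

end Faithful

section Mu

variable (p : ℕ) [hpf : Fact p.Prime] (R : Type u) [CommRing R] (u : R)
  (hu : u * ((p - 1 : ℕ) : R) = 1)
  (χ : (ZMod p)ˣ →* Rˣ)
  (hχ : ∀ m : (ZMod p)ˣ, m ≠ 1 → IsUnit ((χ m : R) - 1))
  (hχp : ∀ m : (ZMod p)ˣ, ((χ m : Rˣ) : R) - (((m : ZMod p).val : ℕ) : R) ∈
    Ideal.span ({(p : R)} : Set R))

local notation "MM" => MonoidAlgebra R (Multiplicative (ZMod p))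

instance finiteMM : Module.Finite R MM :=
  Module.Finite.of_basis (MonoidAlgebra.basis (Multiplicative (ZMod p)) R)

theorem rank_MM (q : PrimeSpectrum R) : Module.rankAtStalk MM q = p := by
  haveI : Nontrivial R := q.nontrivial
  rw [Module.rankAtStalk_eq_finrank_of_free, Pi.natCast_apply,
    Module.finrank_eq_card_basis (MonoidAlgebra.basis (Multiplicative (ZMod p)) R),
    Fintype.card_multiplicative, ZMod.card, Nat.cast_id]

theorem hpMM : (toConv (AlgHom.id R MM)) ^ p = 1 := by
  haveI : Coalgebra.IsCocomm R MM := RankPH1.main15053 R p MM (rank_MM p R)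
  exact DeligneH1.main15048 R MM p (rank_MM p R)

theorem glike_of (g : Multiplicative (ZMod p)) :
    IsGroupLikeElem R (MonoidAlgebra.of R (Multiplicative (ZMod p)) g) :=
  MonoidAlgebra.isGroupLikeElem_of (R := R) (A := R) g

theorem counit_T_sub_one : Coalgebra.counit (R := R) (OortTate.muT R p - 1) = 0 := by
  rw [map_sub, Bialgebra.counit_one, (glike_of p R _).counit_eq_one, sub_self]

theorem ygen_eq (i : ℕ) :
    OortTate.ygen R p u χ i = OTDualH1.Pi p R u χ MM i (OortTate.muT R p - 1) := by
  rw [OTDualH1.Pi_apply, OTDualH1.q_of_counit R MM _ (counit_T_sub_one p R)]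
  rfl

theorem ygen_mem (i : ℕ) : OortTate.ygen R p u χ i ∈ OortTate.eigenAug R MM p χ i := by
  rw [ygen_eq]
  exact OTDualH1.Pi_mem p R u χ MM (hpMM p R) i _

theorem Pi_T (i : ℕ) : OTDualH1.Pi p R u χ MM i (OortTate.muT R p) = OortTate.ygen R p u χ i := by
  have h1 : OortTate.muT R p = (OortTate.muT R p - 1) + 1 := by ring
  conv_lhs => rw [h1]
  rw [map_add, OTDualH1.Pi_one, add_zero, ygen_eq]

theorem of_eq_powConv (m : (ZMod p)ˣ) :
    MonoidAlgebra.of R (Multiplicative (ZMod p)) (Multiplicative.ofAdd (m : ZMod p)) =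
      SGA3b.powConv R MM (m : ZMod p).val (OortTate.muT R p) := by
  rw [MultFinH1.powConv_groupLike _ (glike_of p R _)]
  show _ = (MonoidAlgebra.of R (Multiplicative (ZMod p)) (Multiplicative.ofAdd 1)) ^ _
  rw [← map_pow, ← ofAdd_nsmul, nsmul_eq_mul, mul_one, ZMod.natCast_zmod_val]

theorem Pi_mem_span (i : ℕ) (x : MM) :
    OTDualH1.Pi p R u χ MM i x ∈ Submodule.span R {OortTate.ygen R p u χ i} := by
  induction x using MonoidAlgebra.induction_linear with
  | zero =>
    rw [map_zero]
    exact Submodule.zero_mem _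
  | add x y hx hy =>
    rw [map_add]
    exact Submodule.add_mem _ hx hy
  | single g r =>
    have h1 : MonoidAlgebra.single g r = r • MonoidAlgebra.of R (Multiplicative (ZMod p)) g := by
      rw [MonoidAlgebra.of_apply, MonoidAlgebra.smul_single', mul_one]
    rw [h1, map_smul]
    apply Submodule.smul_mem
    by_cases hg : Multiplicative.toAdd g = 0
    · have hg1 : g = 1 := hg
      rw [hg1, map_one, OTDualH1.Pi_one]
      exact Submodule.zero_mem _
    · have hg2 : g = Multiplicative.ofAdd ((Units.mk0 (Multiplicative.toAdd g) hg : (ZMod p)ˣ) :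
          ZMod p) := rfl
      rw [hg2, of_eq_powConv, OTDualH1.Pi_comm p R u χ MM (hpMM p R), Pi_T,
        ((OTDualH1.mem_eigenAug p R χ MM i _).mp (ygen_mem p R u χ i)).2]
      exact Submodule.smul_mem _ _ (Submodule.mem_span_singleton_self _)

include hu in
theorem eigenAug_eq_span (i : ℕ) :
    OortTate.eigenAug R MM p χ i = Submodule.span R {OortTate.ygen R p u χ i} := by
  apply le_antisymm
  · intro f hf
    rw [← OTDualH1.Pi_eig p R u hu χ MM i f hf]
    exact Pi_mem_span p R u χ i f
  · rw [Submodule.span_le, Set.singleton_subset_iff]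
    exact ygen_mem p R u χ i

include hu hχ hχp in
theorem ygen_smul_eq_zero (i : ℕ) (c : R) (h : c • OortTate.ygen R p u χ i = 0) : c = 0 := by
  haveI : Module.Finite R (OortTate.eigenAug R MM p χ i) :=
    finite_eigenAug p R u hu χ MM (hpMM p R) i
  haveI : Module.Projective R (OortTate.eigenAug R MM p χ i) :=
    projective_eigenAug p R u hu χ MM (hpMM p R) i
  apply smul_eq_zero_of_rank_one R (M := OortTate.eigenAug R MM p χ i)
    (rank_eq_one p R u hu χ hχ hχp MM (rank_MM p R) (hpMM p R) i) c
  intro f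
  apply Subtype.ext
  have hf : (f : MM) ∈ Submodule.span R {OortTate.ygen R p u χ i} := by
    rw [← eigenAug_eq_span p R u hu χ i]
    exact f.2
  obtain ⟨r, hr⟩ := Submodule.mem_span_singleton.mp hf
  show c • (f : MM) = 0
  rw [← hr, smul_comm, h, smul_zero]

include hu hχ hχp in
theorem linearIndependent_ygen :
    LinearIndependent R (fun i : Fin (p - 1) => OortTate.ygen R p u χ (i : ℕ)) := by
  rw [Fintype.linearIndependent_iff]
  intro c hc j
  have h1 := congrArg (OTDualH1.Pi p R u χ MM (j : ℕ)) hc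
  rw [map_sum, map_zero, Finset.sum_eq_single j] at h1
  · rw [map_smul, OTDualH1.Pi_eig p R u hu χ MM (j : ℕ) _ (ygen_mem p R u χ (j : ℕ))] at h1
    exact ygen_smul_eq_zero p R u hu χ hχ hχp (j : ℕ) _ h1
  · intro i _ hij
    rw [map_smul, Pi_ortho p R u hu χ hχ MM (hpMM p R) (j : ℕ) (i : ℕ) j.isLt i.isLt
      (fun h => hij (Fin.ext h.symm)) _ (ygen_mem p R u χ (i : ℕ)), smul_zero]
  · intro h
    exact absurd (Finset.mem_univ j) h

include hu hχ in
theorem span_ygen :
    Submodule.span R (Set.range (fun i : Fin (p - 1) => OortTate.ygen R p u χ (i : ℕ))) =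
      LinearMap.ker (Bialgebra.counitAlgHom R MM).toLinearMap := by
  apply le_antisymm
  · rw [Submodule.span_le]
    rintro _ ⟨i, rfl⟩
    show Coalgebra.counit (R := R) (OortTate.ygen R p u χ (i : ℕ)) = 0
    exact ((OTDualH1.mem_eigenAug p R χ MM (i : ℕ) _).mp (ygen_mem p R u χ (i : ℕ))).1
  · intro f hf
    have hf0 : Coalgebra.counit (R := R) f = 0 := hf
    have ha := ofFam_toFam p R u hu χ hχ MM (hpMM p R) f
    rw [ofFam_apply] at ha
    rw [← ha]
    apply Submodule.add_mem
    · show algebraMap R MM (Coalgebra.counit (R := R) f) ∈ _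
      rw [hf0, map_zero]
      exact Submodule.zero_mem _
    · apply Submodule.sum_mem
      intro i _
      have hle : OortTate.eigenAug R MM p χ (i : ℕ) ≤ Submodule.span R
          (Set.range (fun i : Fin (p - 1) => OortTate.ygen R p u χ (i : ℕ))) := by
        rw [eigenAug_eq_span p R u hu χ (i : ℕ)]
        exact Submodule.span_mono (Set.singleton_subset_iff.mpr ⟨i, rfl⟩)
      exact hle ((toFam p R u χ MM (hpMM p R) f).2 i).2

include hu hχ hχp in
theorem adjoin_ygen :
    Algebra.adjoin R ({OortTate.ygen R p u χ 1} : Set MM) = ⊤ := by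
  have key : ∀ z : TensorAlgebra R (OortTate.eigenAug R MM p χ 1),
      phi (OortTate.eigenAug R MM p χ 1) z ∈
        Algebra.adjoin R ({OortTate.ygen R p u χ 1} : Set MM) := by
    intro z
    induction z using TensorAlgebra.induction with
    | algebraMap r =>
      rw [AlgHom.commutes]
      exact Subalgebra.algebraMap_mem _ r
    | ι f =>
      rw [phi_ι]
      have hf : (f : MM) ∈ Submodule.span R {OortTate.ygen R p u χ 1} := by
        rw [← eigenAug_eq_span p R u hu χ 1]
        exact f.2
      obtain ⟨r, hr⟩ := Submodule.mem_span_singleton.mp hf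
      rw [← hr]
      exact Subalgebra.smul_mem _ (Algebra.subset_adjoin (Set.mem_singleton _)) r
    | mul a b ha hb =>
      rw [map_mul]
      exact Subalgebra.mul_mem _ ha hb
    | add a b ha hb =>
      rw [map_add]
      exact Subalgebra.add_mem _ ha hb
  rw [eq_top_iff]
  intro a _
  obtain ⟨z, rfl⟩ := phi_surjective p R u hu χ hχ hχp MM (rank_MM p R) (hpMM p R) a
  exact key z

include hu hχ hχp in
theorem existsUnique_w :
    ∃! w : R, OortTate.ygen R p u χ 1 ^ p = w • OortTate.ygen R p u χ 1 := by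
  have hp2 := hpf.out.two_le
  have hmem : OortTate.ygen R p u χ 1 ^ p ∈ OortTate.eigenAug R MM p χ 1 := by
    have h1 := pow_le_eigenAug p R χ MM p hpf.out.pos
      (Submodule.pow_mem_pow _ (ygen_mem p R u χ 1) p)
    have h2 : OortTate.eigenAug R MM p χ p = OortTate.eigenAug R MM p χ 1 := by
      apply eigenAug_congr
      intro m'
      have h3 : ((χ m' : Rˣ) : R) ^ p = ((χ m' : Rˣ) : R) ^ ((p - 1) + 1) := by
        congr 1
        omega
      rw [h3, pow_succ, chi_pow_card, one_mul, pow_one]
    rw [h2] at h1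
    exact h1
  rw [eigenAug_eq_span p R u hu χ 1] at hmem
  obtain ⟨w, hw⟩ := Submodule.mem_span_singleton.mp hmem
  refine ⟨w, hw.symm, ?_⟩
  intro w' hw'
  have h4 : (w' - w) • OortTate.ygen R p u χ 1 = 0 := by
    rw [sub_smul, ← hw', hw, sub_self]
  exact sub_eq_zero.mp (ygen_smul_eq_zero p R u hu χ hχ hχp 1 _ h4)

end Mu

theorem main18473 (p : ℕ) [Fact p.Prime] (R : Type u) [CommRing R] (u : R)
    (hu : u * ((p - 1 : ℕ) : R) = 1)
    (χ : (ZMod p)ˣ →* Rˣ) (hχ : ∀ m : (ZMod p)ˣ, m ≠ 1 → IsUnit ((χ m : R) - 1))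
    (hχp : ∀ m : (ZMod p)ˣ, ((χ m : Rˣ) : R) - (((m : ZMod p).val : ℕ) : R) ∈
      Ideal.span ({(p : R)} : Set R)) :
    LinearIndependent R (fun i : Fin (p - 1) => OortTate.ygen R p u χ (i : ℕ)) ∧
      Submodule.span R (Set.range (fun i : Fin (p - 1) => OortTate.ygen R p u χ (i : ℕ))) =
        LinearMap.ker (Bialgebra.counitAlgHom R
          (MonoidAlgebra R (Multiplicative (ZMod p)))).toLinearMap ∧
      Algebra.adjoin R ({OortTate.ygen R p u χ 1} :
        Set (MonoidAlgebra R (Multiplicative (ZMod p)))) = ⊤ ∧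
      ∃! w : R, OortTate.ygen R p u χ 1 ^ p = w • OortTate.ygen R p u χ 1 :=
  ⟨linearIndependent_ygen p R u hu χ hχ hχp, span_ygen p R u hu χ hχ,
    adjoin_ygen p R u hu χ hχ hχp, existsUnique_w p R u hu χ hχ hχp⟩

end OTMuH1
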