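import Mathlib
import Groth.Prelude.Def_CartDual
import Groth.Agent.Lib.OTMu_helper1

set_option autoImplicit false
set_option maxHeartbeats 1000000

/-!
# Oort–Tate: the Cartier pairing `μ_p → A ⊗ A^D` on the `χ`-eigenspaces (helper1)

`PsiE : A ⊗ A^D ≃ End_R(A)` is an algebra map to the convolution algebra of `End_R(A)`; it sends the
canonical element `δ` to `id`, hence `ϕ(T^n)` to the power map `[n]` and `ϕ(y_1)` to the projector `Pi_1`
onto `I_1(A)`.
-/

namespace OTPairH1

open TensorProduct WithConv Coalgebra OTRankH1 OTTensorH1 OTMuH1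

universe u

section Psi

variable (R : Type u) [CommRing R] (A : Type u) [CommRing A] [HopfAlgebra R A]
  [Coalgebra.IsCocomm R A] [Module.Finite R A] [Module.Projective R A]

/-- search shortcut (same structure as Mathlib's, found by `inferInstance`) -/
noncomputable instance instSemiringAD : Semiring (A ⊗[R] CartDual.D R A) := inferInstance

/-- `A ⊗ A^D ≃ End(A)`, `b ⊗ ξ ↦ (a ↦ ξ(a) b)` -/
noncomputable def PsiE : A ⊗[R] CartDual.D R A ≃ₗ[R] (A →ₗ[R] A) :=
  (TensorProduct.congr (LinearEquiv.refl R A) (CartDual.toDual R A)) ≪≫ₗ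
    (TensorProduct.comm R A (Module.Dual R A)) ≪≫ₗ dualTensorHomEquiv R A A

theorem PsiE_tmul (b : A) (ξ : CartDual.D R A) (a : A) :
    PsiE R A (b ⊗ₜ[R] ξ) a = ξ.ofConv a • b := by
  simp [PsiE]

theorem Ev_eq (a : A) (z : A ⊗[R] CartDual.D R A) :
    TensorProduct.rid R A (LinearMap.lTensor A
      ((Module.Dual.eval R A a) ∘ₗ (CartDual.toDual R A).toLinearMap) z) = PsiE R A z a := by
  induction z using TensorProduct.induction_on with
  | zero => simp
  | add x y hx hy => rw [map_add, map_add, hx, hy, map_add, LinearMap.add_apply]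
  | tmul b ξ =>
    rw [LinearMap.lTensor_tmul, TensorProduct.rid_tmul, PsiE_tmul]
    rfl

/-- `PsiE` with values in the convolution algebra -/
noncomputable def PsiLin : A ⊗[R] CartDual.D R A →ₗ[R] WithConv (A →ₗ[R] A) :=
  (WithConv.linearEquiv R (A →ₗ[R] A)).symm.toLinearMap ∘ₗ (PsiE R A).toLinearMap

theorem PsiLin_apply (z : A ⊗[R] CartDual.D R A) (a : A) :
    (PsiLin R A z).ofConv a = PsiE R A z a := rfl

theorem PsiLin_one : PsiLin R A 1 = 1 := by
  apply WithConv.ext
  apply LinearMap.ext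
  intro a
  rw [PsiLin_apply, Algebra.TensorProduct.one_def, PsiE_tmul]
  show (algebraMap R R (counit (R := R) a)) • (1 : A) = algebraMap R A (counit (R := R) a)
  rw [Algebra.algebraMap_self, RingHom.id_apply, Algebra.algebraMap_eq_smul_one]

theorem PsiLin_tmul_mul (b b' : A) (ξ ξ' : CartDual.D R A) :
    PsiLin R A ((b ⊗ₜ[R] ξ) * (b' ⊗ₜ[R] ξ')) = PsiLin R A (b ⊗ₜ[R] ξ) * PsiLin R A (b' ⊗ₜ[R] ξ') := by
  apply WithConv.ext
  apply LinearMap.ext
  intro a
  rw [Algebra.TensorProduct.tmul_mul_tmul, PsiLin_apply, PsiE_tmul]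
  have key : ∀ y : A ⊗[R] A,
      LinearMap.mul' R A (TensorProduct.map (PsiLin R A (b ⊗ₜ[R] ξ)).ofConv
        (PsiLin R A (b' ⊗ₜ[R] ξ')).ofConv y) =
      (LinearMap.mul' R R (TensorProduct.map ξ.ofConv ξ'.ofConv y)) • (b * b') := by
    intro y
    induction y using TensorProduct.induction_on with
    | zero => simp
    | add x y hx hy => rw [map_add, map_add, hx, hy, map_add, map_add, add_smul]
    | tmul a₁ a₂ =>
      rw [TensorProduct.map_tmul, LinearMap.mul'_apply, TensorProduct.map_tmul,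
        LinearMap.mul'_apply, PsiLin_apply, PsiLin_apply, PsiE_tmul, PsiE_tmul,
        smul_mul_smul_comm]
  exact (key (comul (R := R) a)).symm

theorem PsiLin_mul (z z' : A ⊗[R] CartDual.D R A) :
    PsiLin R A (z * z') = PsiLin R A z * PsiLin R A z' := by
  induction z using TensorProduct.induction_on with
  | zero => rw [zero_mul, map_zero, zero_mul]
  | add x y hx hy => rw [add_mul, map_add, hx, hy, map_add, add_mul]
  | tmul b ξ =>
    induction z' using TensorProduct.induction_on with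
    | zero => rw [mul_zero, map_zero, mul_zero]
    | add x y hx hy => rw [mul_add, map_add, hx, hy, map_add, mul_add]
    | tmul b' ξ' => exact PsiLin_tmul_mul R A b b' ξ ξ'

/-- `PsiE` as an algebra map into the convolution algebra of `End(A)` -/
noncomputable def PsiAlg : A ⊗[R] CartDual.D R A →ₐ[R] WithConv (A →ₗ[R] A) :=
  AlgHom.ofLinearMap (PsiLin R A) (PsiLin_one R A) (PsiLin_mul R A)

theorem PsiAlg_apply (z : A ⊗[R] CartDual.D R A) (a : A) :
    (PsiAlg R A z).ofConv a = PsiE R A z a := rfl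

theorem toConv_id_pow (n : ℕ) :
    (toConv (LinearMap.id : A →ₗ[R] A)) ^ n = toConv (SGA3b.powConv R A n).toLinearMap :=
  (AlgHom.toLinearMap_convPow (toConv (AlgHom.id R A)) n).symm

end Psi

section Zero

variable (R : Type u) [CommRing R] (H : Type u) [CommRing H] [HopfAlgebra R H]

theorem powConv_zero_apply (a : H) :
    SGA3b.powConv R H 0 a = algebraMap R H (counit (R := R) a) := by
  simp only [SGA3b.powConv, pow_zero]
  rfl

end Zero

section Main

variable (p : ℕ) [Fact p.Prime] (R : Type u) [CommRing R] (u : R)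
  (hu : u * ((p - 1 : ℕ) : R) = 1)
  (χ : (ZMod p)ˣ →* Rˣ)
  (hχ : ∀ m : (ZMod p)ˣ, m ≠ 1 → IsUnit ((χ m : R) - 1))
  (hχp : ∀ m : (ZMod p)ˣ, ((χ m : Rˣ) : R) - (((m : ZMod p).val : ℕ) : R) ∈
    Ideal.span ({(p : R)} : Set R))
  (A : Type u) [CommRing A] [HopfAlgebra R A] [Coalgebra.IsCocomm R A] [Module.Finite R A]
  [Module.Projective R A] (hrk : ∀ q : PrimeSpectrum R, Module.rankAtStalk A q = p)
  (δ : A ⊗[R] CartDual.D R A)
  (hδ : ∀ a : A, TensorProduct.rid R A
    (LinearMap.lTensor A ((Module.Dual.eval R A a) ∘ₗ (CartDual.toDual R A).toLinearMap) δ) = a)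
  (ϕ : MonoidAlgebra R (Multiplicative (ZMod p)) →ₐ[R] A ⊗[R] CartDual.D R A)
  (hϕ : ϕ (OortTate.muT R p) = δ)

include hδ in
theorem Psi_delta : PsiAlg R A δ = toConv (LinearMap.id : A →ₗ[R] A) := by
  apply WithConv.ext
  apply LinearMap.ext
  intro a
  rw [PsiAlg_apply, ← Ev_eq, hδ]
  rfl

include hδ hϕ in
theorem Psi_phi_T_pow (n : ℕ) (a : A) :
    PsiE R A (ϕ (OortTate.muT R p ^ n)) a = SGA3b.powConv R A n a := by
  rw [← PsiAlg_apply, map_pow, hϕ, map_pow, Psi_delta R A δ hδ, toConv_id_pow]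
  rfl

include hδ hϕ in
theorem Psi_phi_ygen (i : ℕ) :
    PsiE R A (ϕ (OortTate.ygen R p u χ i)) = OTDualH1.Pi p R u χ A i := by
  apply LinearMap.ext
  intro a
  have hy : OortTate.ygen R p u χ i = u • ∑ m : (ZMod p)ˣ, (((χ m⁻¹ : Rˣ) : R) ^ i) •
      (OortTate.muT R p ^ (m : ZMod p).val - 1) := by
    rw [ygen_eq, OTDualH1.Pi_apply, OTDualH1.q_of_counit _ _ _ (counit_T_sub_one p R),
      OTDualH1.av_apply]
    congr 1
    refine Finset.sum_congr rfl (fun m _ => ?_)
    rw [map_sub, map_one, MultFinH1.powConv_groupLike _ (glike_of p R _)]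
  have h1 : PsiE R A (ϕ 1) a = algebraMap R A (counit (R := R) a) := by
    rw [map_one, ← PsiLin_apply, PsiLin_one]
    rfl
  have h2 : ∀ n : ℕ, PsiE R A (ϕ (OortTate.muT R p ^ n - 1)) a =
      SGA3b.powConv R A n a - algebraMap R A (counit (R := R) a) := by
    intro n
    rw [map_sub, map_sub, LinearMap.sub_apply, Psi_phi_T_pow p R A δ hδ ϕ hϕ, h1]
  rw [hy, map_smul, map_smul, LinearMap.smul_apply, map_sum, map_sum, LinearMap.sum_apply,
    OTDualH1.Pi_apply, OTDualH1.av_apply, OTDualH1.q_apply]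
  congr 1
  refine Finset.sum_congr rfl (fun m _ => ?_)
  rw [map_smul, map_smul, LinearMap.smul_apply, h2, map_sub, AlgHom.commutes]

theorem q_dual (ξ : CartDual.D R A) (a : A) :
    (OTDualH1.q R (CartDual.D R A) ξ).ofConv a = ξ.ofConv (OTDualH1.q R A a) := by
  rw [OTDualH1.q_apply, OTDualH1.q_apply, ← powConv_zero_apply R (CartDual.D R A) ξ,
    ← powConv_zero_apply R A a, WithConv.ofConv_sub, LinearMap.sub_apply, map_sub,
    OTDualH1.powConv_dual_apply]

theorem Pi_dual (i : ℕ) (ξ : CartDual.D R A) (a : A) :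
    (OTDualH1.Pi p R u χ (CartDual.D R A) i ξ).ofConv a =
      ξ.ofConv (OTDualH1.Pi p R u χ A i a) := by
  rw [OTDualH1.Pi_apply, OTDualH1.Pi_apply, OTDualH1.av_apply, OTDualH1.av_apply,
    WithConv.ofConv_smul, LinearMap.smul_apply, WithConv.ofConv_sum, LinearMap.sum_apply,
    map_smul, map_sum]
  congr 1
  refine Finset.sum_congr rfl (fun m _ => ?_)
  rw [WithConv.ofConv_smul, LinearMap.smul_apply, map_smul, OTDualH1.powConv_dual_apply,
    q_dual, OTDualH1.q_comm]

theorem hpD (hp : (toConv (AlgHom.id R A)) ^ p = 1) :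
    (toConv (AlgHom.id R (CartDual.D R A))) ^ p = 1 := by
  have h0 : SGA3b.powConv R A p = SGA3b.powConv R A 0 := by
    unfold SGA3b.powConv
    rw [hp, pow_zero]
  have h1 : SGA3b.powConv R (CartDual.D R A) p = SGA3b.powConv R (CartDual.D R A) 0 := by
    apply AlgHom.ext
    intro ξ
    apply WithConv.ext
    apply LinearMap.ext
    intro a
    rw [OTDualH1.powConv_dual_apply, OTDualH1.powConv_dual_apply, h0]
  have h2 := congrArg WithConv.toConv h1
  unfold SGA3b.powConv at h2
  rw [WithConv.toConv_ofConv, WithConv.toConv_ofConv, pow_zero] at h2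
  exact h2

include hu hχ hχp hrk hδ hϕ in
theorem main18477 :
    Submodule.span R {ϕ (OortTate.ygen R p u χ 1)} =
        LinearMap.range (TensorProduct.map (OortTate.eigenAug R A p χ 1).subtype
          (OortTate.eigenAug R (CartDual.D R A) p χ 1).subtype) ∧
      ∀ r : R, r • ϕ (OortTate.ygen R p u χ 1) = 0 → r = 0 := by
  have hp := DeligneH1.main15048 R A p hrk
  have hpd := hpD p R A hp
  obtain ⟨hF, hP, h1⟩ := (OTRankH1.main18469 p R u hu χ hχ hχp A hrk).1 1
  haveI := hF
  haveI := hP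
  have hPw0 := Psi_phi_ygen p R u χ A δ hδ ϕ hϕ 1
  obtain ⟨w, hwdef⟩ : ∃ w, w = ϕ (OortTate.ygen R p u χ 1) := ⟨_, rfl⟩
  rw [← hwdef] at hPw0 ⊢
  have hPw : PsiE R A w = OTDualH1.Pi p R u χ A 1 := hPw0
  have hidem : ∀ a : A, OTDualH1.Pi p R u χ A 1 (OTDualH1.Pi p R u χ A 1 a) =
      OTDualH1.Pi p R u χ A 1 a :=
    fun a => OTDualH1.Pi_eig p R u hu χ A 1 _ (OTDualH1.Pi_mem p R u χ A hp 1 a)
  have hmap : ∀ (z : A ⊗[R] CartDual.D R A) (a : A),
      PsiE R A (TensorProduct.map (OTDualH1.Pi p R u χ A 1)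
        (OTDualH1.Pi p R u χ (CartDual.D R A) 1) z) a =
        OTDualH1.Pi p R u χ A 1 (PsiE R A z (OTDualH1.Pi p R u χ A 1 a)) := by
    intro z a
    induction z using TensorProduct.induction_on with
    | zero => simp
    | add x y hx hy =>
      rw [map_add, map_add, LinearMap.add_apply, hx, hy, map_add, LinearMap.add_apply, map_add]
    | tmul b ξ =>
      rw [TensorProduct.map_tmul, PsiE_tmul, PsiE_tmul, Pi_dual, map_smul]
  have hw : TensorProduct.map (OTDualH1.Pi p R u χ A 1)
      (OTDualH1.Pi p R u χ (CartDual.D R A) 1) w = w := by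
    apply (PsiE R A).injective
    apply LinearMap.ext
    intro a
    rw [hmap, hPw, hidem, hidem]
  have e1 : (OortTate.eigenAug R A p χ 1).subtype ∘ₗ OTRankH1.retr p R u χ A hp 1 =
      OTDualH1.Pi p R u χ A 1 := by
    apply LinearMap.ext
    intro x
    rfl
  have e2 : (OortTate.eigenAug R (CartDual.D R A) p χ 1).subtype ∘ₗ
      OTRankH1.retr p R u χ (CartDual.D R A) hpd 1 =
      OTDualH1.Pi p R u χ (CartDual.D R A) 1 := by
    apply LinearMap.ext
    intro x
    rfl
  have hwr : w ∈ LinearMap.range (TensorProduct.map (OortTate.eigenAug R A p χ 1).subtype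
      (OortTate.eigenAug R (CartDual.D R A) p χ 1).subtype) := by
    rw [← hw, ← e1, ← e2, TensorProduct.map_comp, LinearMap.comp_apply]
    exact LinearMap.mem_range_self _ _
  have htm : ∀ (x : OortTate.eigenAug R A p χ 1)
      (ξ : OortTate.eigenAug R (CartDual.D R A) p χ 1),
      (x : A) ⊗ₜ[R] (ξ : CartDual.D R A) = ((ξ : CartDual.D R A).ofConv (x : A)) • w := by
    intro x ξ
    apply (PsiE R A).injective
    apply LinearMap.ext
    intro a
    rw [PsiE_tmul, map_smul, LinearMap.smul_apply, hPw,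
      OTDualH1.Q1 p R u hu χ A 1 (ξ : CartDual.D R A) ξ.2 a]
    have h := OTRankH1.rank_one_identity R (M := OortTate.eigenAug R A p χ 1) h1
      (((CartDual.toDual R A) (ξ : CartDual.D R A)) ∘ₗ (OortTate.eigenAug R A p χ 1).subtype) x
      ⟨OTDualH1.Pi p R u χ A 1 a, OTDualH1.Pi_mem p R u χ A hp 1 a⟩
    exact (congrArg Subtype.val h).symm
  have hle : LinearMap.range (TensorProduct.map (OortTate.eigenAug R A p χ 1).subtype
      (OortTate.eigenAug R (CartDual.D R A) p χ 1).subtype) ≤ Submodule.span R {w} := by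
    rintro _ ⟨t, rfl⟩
    induction t using TensorProduct.induction_on with
    | zero =>
      rw [map_zero]
      exact Submodule.zero_mem _
    | add x y hx hy =>
      rw [map_add]
      exact Submodule.add_mem _ hx hy
    | tmul x ξ =>
      rw [TensorProduct.map_tmul, Submodule.subtype_apply, Submodule.subtype_apply, htm]
      exact Submodule.smul_mem _ _ (Submodule.mem_span_singleton_self _)
  refine ⟨le_antisymm ((Submodule.span_singleton_le_iff_mem _ _).mpr hwr) hle, ?_⟩
  intro r hr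
  apply OTMuH1.smul_eq_zero_of_rank_one R (M := OortTate.eigenAug R A p χ 1) h1 r
  intro x
  apply Subtype.ext
  have h2 : PsiE R A (r • w) (x : A) = 0 := by rw [hr, map_zero, LinearMap.zero_apply]
  rw [map_smul, LinearMap.smul_apply, hPw, OTDualH1.Pi_eig p R u hu χ A 1 _ x.2] at h2
  exact h2

end Main

end OTPairH1
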