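import Mathlib
import Groth.Prelude.Def_CartDual
import Groth.Agent.Lib.OTPair_helper1
import Groth.Agent.Lib.DualRank_helper1

set_option autoImplicit false
set_option maxHeartbeats 1000000

/-!
# Oort–Tate: the pairing formula `⟨ξ₁⋯ξ_k, a₁⋯a_k⟩ = w_k ∏ ⟨ξ_i, a_i⟩` on the `χ`-eigenspaces (helper1)
-/

namespace OTPFH1

open TensorProduct WithConv Coalgebra OTRankH1 OTTensorH1 OTMuH1 OTPairH1

universe u

section ZP

variable (p : ℕ) [Fact p.Prime] {M : Type*} [Monoid M]

/-- the monoid map `ℤ/p → M`, `n ↦ t ^ n`, for `t ^ p = 1` -/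
noncomputable def zpHom (t : M) (ht : t ^ p = 1) : Multiplicative (ZMod p) →* M where
  toFun g := t ^ (Multiplicative.toAdd g).val
  map_one' := by
    show t ^ (Multiplicative.toAdd (1 : Multiplicative (ZMod p))).val = 1
    rw [toAdd_one, ZMod.val_zero, pow_zero]
  map_mul' g h := by
    show t ^ (Multiplicative.toAdd (g * h)).val =
      t ^ (Multiplicative.toAdd g).val * t ^ (Multiplicative.toAdd h).val
    rw [toAdd_mul, ZMod.val_add, ← pow_add, ← pow_eq_pow_mod _ ht]

theorem zpHom_ofAdd_one (t : M) (ht : t ^ p = 1) :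
    zpHom p t ht (Multiplicative.ofAdd 1) = t := by
  show t ^ (Multiplicative.toAdd (Multiplicative.ofAdd (1 : ZMod p))).val = t
  rw [toAdd_ofAdd, ZMod.val_one, pow_one]

end ZP

section SpanProd

theorem span_prod_eq_pow {R A : Type*} [CommSemiring R] [CommSemiring A] [Algebra R A]
    (N : Submodule R A) (t : ℕ) :
    N ^ t = Submodule.span R {z : A | ∃ f : Fin t → N, z = ∏ i, (f i : A)} := by
  rw [Submodule.pow_eq_span_pow_set]
  congr 1
  ext z
  rw [Set.mem_pow]
  constructor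
  · rintro ⟨f, rfl⟩
    exact ⟨fun i => ⟨(f i : A), (f i).2⟩, List.prod_ofFn⟩
  · rintro ⟨f, rfl⟩
    exact ⟨fun i => ⟨(f i : A), (f i).2⟩, List.prod_ofFn⟩

end SpanProd

section Phi

variable (p : ℕ) [Fact p.Prime] (R : Type u) [CommRing R] (u : R) (χ : (ZMod p)ˣ →* Rˣ)
  (A : Type u) [CommRing A] [HopfAlgebra R A] [Coalgebra.IsCocomm R A]
  (hp : (toConv (AlgHom.id R A)) ^ p = 1)

include hp in
theorem toConv_id_pow_p : (toConv (LinearMap.id : A →ₗ[R] A)) ^ p = 1 := by
  have h := (AlgHom.toLinearMap_convPow (toConv (AlgHom.id R A)) p).symm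
  rw [hp] at h
  exact h

/-- `R[μ_p] → End(A)` (convolution algebra), `T ↦ id` -/
noncomputable def Phi : MonoidAlgebra R (Multiplicative (ZMod p)) →ₐ[R] WithConv (A →ₗ[R] A) :=
  MonoidAlgebra.lift R (WithConv (A →ₗ[R] A)) (Multiplicative (ZMod p))
    (zpHom p (toConv (LinearMap.id : A →ₗ[R] A)) (toConv_id_pow_p p R A hp))

theorem Phi_T : Phi p R A hp (OortTate.muT R p) = toConv (LinearMap.id : A →ₗ[R] A) := by
  unfold Phi
  rw [MonoidAlgebra.lift_of, zpHom_ofAdd_one]

theorem toConv_id_pow' (n : ℕ) :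
    (toConv (LinearMap.id : A →ₗ[R] A)) ^ n = toConv (SGA3b.powConv R A n).toLinearMap :=
  (AlgHom.toLinearMap_convPow (toConv (AlgHom.id R A)) n).symm

theorem Phi_T_pow (n : ℕ) (a : A) :
    (Phi p R A hp (OortTate.muT R p ^ n)).ofConv a = SGA3b.powConv R A n a := by
  rw [map_pow, Phi_T, toConv_id_pow']
  rfl

theorem Phi_ygen (i : ℕ) :
    Phi p R A hp (OortTate.ygen R p u χ i) = toConv (OTDualH1.Pi p R u χ A i) := by
  apply WithConv.ext
  apply LinearMap.ext
  intro a
  have hy : OortTate.ygen R p u χ i = u • ∑ m : (ZMod p)ˣ, (((χ m⁻¹ : Rˣ) : R) ^ i) •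
      (OortTate.muT R p ^ (m : ZMod p).val - 1) := by
    rw [ygen_eq, OTDualH1.Pi_apply, OTDualH1.q_of_counit _ _ _ (counit_T_sub_one p R),
      OTDualH1.av_apply]
    congr 1
    refine Finset.sum_congr rfl (fun m _ => ?_)
    rw [map_sub, map_one, MultFinH1.powConv_groupLike _ (glike_of p R _)]
  have h2 : ∀ n : ℕ, (Phi p R A hp (OortTate.muT R p ^ n - 1)).ofConv a =
      SGA3b.powConv R A n a - algebraMap R A (counit (R := R) a) := by
    intro n
    rw [map_sub, map_one, WithConv.ofConv_sub, LinearMap.sub_apply, Phi_T_pow]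
    rfl
  rw [hy, map_smul, map_sum, WithConv.ofConv_smul, LinearMap.smul_apply, WithConv.ofConv_sum,
    LinearMap.sum_apply]
  show _ = OTDualH1.Pi p R u χ A i a
  rw [OTDualH1.Pi_apply, OTDualH1.av_apply, OTDualH1.q_apply]
  congr 1
  refine Finset.sum_congr rfl (fun m _ => ?_)
  rw [map_smul, WithConv.ofConv_smul, LinearMap.smul_apply, h2, map_sub, AlgHom.commutes]

end Phi

section PsiProd

variable (R : Type u) [CommRing R] (A : Type u) [CommRing A] [HopfAlgebra R A]
  [Coalgebra.IsCocomm R A] [Module.Finite R A] [Module.Projective R A]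

theorem PsiAlg_prod {ι : Type*} (s : Finset ι) (x : ι → A) (ξ : ι → CartDual.D R A) :
    PsiAlg R A ((∏ i ∈ s, x i) ⊗ₜ[R] (∏ i ∈ s, ξ i)) = ∏ i ∈ s, PsiAlg R A (x i ⊗ₜ[R] ξ i) := by
  classical
  induction s using Finset.induction_on with
  | empty =>
    rw [Finset.prod_empty, Finset.prod_empty, Finset.prod_empty,
      ← Algebra.TensorProduct.one_def, map_one]
  | insert i s hi ih =>
    rw [Finset.prod_insert hi, Finset.prod_insert hi, Finset.prod_insert hi, ← ih,
      ← Algebra.TensorProduct.tmul_mul_tmul, map_mul]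

end PsiProd

section PF

variable (p : ℕ) [hpf : Fact p.Prime] (R : Type u) [CommRing R] (u : R)
  (hu : u * ((p - 1 : ℕ) : R) = 1)
  (χ : (ZMod p)ˣ →* Rˣ)
  (hχ : ∀ m : (ZMod p)ˣ, m ≠ 1 → IsUnit ((χ m : R) - 1))
  (hχp : ∀ m : (ZMod p)ˣ, ((χ m : Rˣ) : R) - (((m : ZMod p).val : ℕ) : R) ∈
    Ideal.span ({(p : R)} : Set R))
  (A : Type u) [CommRing A] [HopfAlgebra R A] [Coalgebra.IsCocomm R A] [Module.Finite R A]
  [Module.Projective R A] (hrk : ∀ q : PrimeSpectrum R, Module.rankAtStalk A q = p)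
  (hp : (toConv (AlgHom.id R A)) ^ p = 1)

include hu in
theorem exists_w (k : ℕ) (hk : 1 ≤ k) :
    ∃ w : R, OortTate.ygen R p u χ 1 ^ k = w • OortTate.ygen R p u χ k := by
  have hmem : OortTate.ygen R p u χ 1 ^ k ∈
      OortTate.eigenAug R (MonoidAlgebra R (Multiplicative (ZMod p))) p χ k :=
    pow_le_eigenAug p R χ (MonoidAlgebra R (Multiplicative (ZMod p))) k hk
      (Submodule.pow_mem_pow _ (ygen_mem p R u χ 1) k)
  rw [eigenAug_eq_span p R u hu χ k] at hmem
  obtain ⟨w, hw⟩ := Submodule.mem_span_singleton.mp hmem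
  exact ⟨w, hw.symm⟩

include hu hχ hχp hrk hp in
theorem tmul_eq (x : OortTate.eigenAug R A p χ 1)
    (ξ : OortTate.eigenAug R (CartDual.D R A) p χ 1) :
    PsiAlg R A ((x : A) ⊗ₜ[R] (ξ : CartDual.D R A)) =
      ((ξ : CartDual.D R A).ofConv (x : A)) • toConv (OTDualH1.Pi p R u χ A 1) := by
  haveI := finite_eigenAug p R u hu χ A hp 1
  haveI := projective_eigenAug p R u hu χ A hp 1
  have h1 := rank_eq_one p R u hu χ hχ hχp A hrk hp 1
  apply WithConv.ext
  apply LinearMap.ext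
  intro a
  rw [PsiAlg_apply, PsiE_tmul, WithConv.ofConv_smul, LinearMap.smul_apply]
  show _ = (ξ : CartDual.D R A).ofConv (x : A) • OTDualH1.Pi p R u χ A 1 a
  rw [OTDualH1.Q1 p R u hu χ A 1 (ξ : CartDual.D R A) ξ.2 a]
  have h := OTRankH1.rank_one_identity R (M := OortTate.eigenAug R A p χ 1) h1
    (((CartDual.toDual R A) (ξ : CartDual.D R A)) ∘ₗ (OortTate.eigenAug R A p χ 1).subtype) x
    ⟨OTDualH1.Pi p R u χ A 1 a, OTDualH1.Pi_mem p R u χ A hp 1 a⟩
  exact (congrArg Subtype.val h).symm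

theorem prod_mem_eigenAug (H : Type u) [CommRing H] [HopfAlgebra R H] (k : ℕ) (hk : 1 ≤ k)
    (a : Fin k → OortTate.eigenAug R H p χ 1) :
    (∏ i, (a i : H)) ∈ OortTate.eigenAug R H p χ k := by
  apply pow_le_eigenAug p R χ H k hk
  rw [span_prod_eq_pow]
  exact Submodule.subset_span ⟨a, rfl⟩

include hu hχ hχp hrk hp in
theorem pairing_formula (k : ℕ) (hk1 : 1 ≤ k) (hk2 : k ≤ p - 1) (w : R)
    (hw : OortTate.ygen R p u χ 1 ^ k = w • OortTate.ygen R p u χ k)
    (ξ : Fin k → OortTate.eigenAug R (CartDual.D R A) p χ 1)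
    (a : Fin k → OortTate.eigenAug R A p χ 1) :
    (∏ i, (ξ i : CartDual.D R A)).ofConv (∏ i, (a i : A)) =
      w * ∏ i, (ξ i : CartDual.D R A).ofConv (a i : A) := by
  haveI := finite_eigenAug p R u hu χ A hp 1
  haveI := projective_eigenAug p R u hu χ A hp 1
  haveI := finite_eigenAug p R u hu χ A hp k
  haveI := projective_eigenAug p R u hu χ A hp k
  have h1 := rank_eq_one p R u hu χ hχ hχp A hrk hp 1
  have hk := rank_eq_one p R u hu χ hχ hχp A hrk hp k
  have key : ∀ (x : Fin k → OortTate.eigenAug R A p χ 1) (b : A),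
      (∏ i, (ξ i : CartDual.D R A)).ofConv b • ∏ i, (x i : A) =
        ((∏ i, (ξ i : CartDual.D R A).ofConv (x i : A)) * w) • OTDualH1.Pi p R u χ A k b := by
    intro x b
    have e1 := PsiAlg_prod R A Finset.univ (fun i => (x i : A))
      (fun i => (ξ i : CartDual.D R A))
    have e2 : ∏ i, PsiAlg R A ((x i : A) ⊗ₜ[R] (ξ i : CartDual.D R A)) =
        ((∏ i, (ξ i : CartDual.D R A).ofConv (x i : A)) * w) •
          toConv (OTDualH1.Pi p R u χ A k) := by
      rw [Finset.prod_congr rfl (fun i _ => tmul_eq p R u hu χ hχ hχp A hrk hp (x i) (ξ i)),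
        Finset.prod_smul, Finset.prod_const, Finset.card_univ, Fintype.card_fin,
        ← Phi_ygen p R u χ A hp 1, ← map_pow, hw, map_smul, Phi_ygen, smul_smul]
    have e3 : (PsiAlg R A ((∏ i, (x i : A)) ⊗ₜ[R] (∏ i, (ξ i : CartDual.D R A)))).ofConv b =
        (((∏ i, (ξ i : CartDual.D R A).ofConv (x i : A)) * w) •
          toConv (OTDualH1.Pi p R u χ A k)).ofConv b := by
      rw [e1, e2]
    rw [PsiAlg_apply, PsiE_tmul, WithConv.ofConv_smul, LinearMap.smul_apply] at e3
    exact e3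
  have hbk : (∏ i, (a i : A)) ∈ OortTate.eigenAug R A p χ k :=
    prod_mem_eigenAug p R χ A k hk1 a
  have hswap : ∀ (x : Fin k → OortTate.eigenAug R A p χ 1),
      (∏ i, (ξ i : CartDual.D R A).ofConv (x i : A)) • ∏ i, (a i : A) =
        (∏ i, (ξ i : CartDual.D R A).ofConv (a i : A)) • ∏ i, (x i : A) := by
    intro x
    rw [← Finset.prod_smul, ← Finset.prod_smul]
    refine Finset.prod_congr rfl (fun i _ => ?_)
    have h := OTRankH1.rank_one_identity R (M := OortTate.eigenAug R A p χ 1) h1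
      (((CartDual.toDual R A) (ξ i : CartDual.D R A)) ∘ₗ
        (OortTate.eigenAug R A p χ 1).subtype) (x i) (a i)
    exact congrArg Subtype.val h
  have hkill : ∀ z ∈ OortTate.eigenAug R A p χ k,
      ((∏ i, (ξ i : CartDual.D R A)).ofConv (∏ i, (a i : A)) -
        w * ∏ i, (ξ i : CartDual.D R A).ofConv (a i : A)) • z = 0 := by
    intro z hz
    rw [← pow_eq p R u hu χ hχ hχp A hrk hp k hk1 hk2, span_prod_eq_pow] at hz
    induction hz using Submodule.span_induction with
    | mem z hz =>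
      obtain ⟨x, rfl⟩ := hz
      have e := key x (∏ i, (a i : A))
      rw [OTDualH1.Pi_eig p R u hu χ A k _ hbk] at e
      rw [sub_smul, e, mul_comm _ w, mul_smul, mul_smul, hswap x, sub_self]
    | zero => rw [smul_zero]
    | add x y _ _ hx hy => rw [smul_add, hx, hy, add_zero]
    | smul c x _ hx => rw [smul_comm, hx, smul_zero]
  have hz := smul_eq_zero_of_rank_one R (M := OortTate.eigenAug R A p χ k) hk _
    (fun z => Subtype.ext (hkill z z.2))
  exact sub_eq_zero.mp hz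

end PF

end OTPFH1
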