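import Mathlib
import Groth.Prelude.Def_CartDual
import Groth.Agent.Lib.OTPF_helper1

set_option autoImplicit false
set_option maxHeartbeats 1000000

/-!
# Oort–Tate: injectivity of the classification map `G ↦ (I_1, a, b)` (helper1)

An isomorphism `θ : I_1(A) ≅ I_1(A')` compatible with the `p`-fold products on `A` and (by transposition) on the
duals extends to an isomorphism of bialgebras `A ≅ A'`.
-/

namespace OTInjH1

open TensorProduct WithConv Coalgebra OTRankH1 OTTensorH1 OTMuH1 OTPairH1 OTPFH1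

universe u

section Basic

variable (p : ℕ) [hpf : Fact p.Prime] (R : Type u) [CommRing R] (χ : (ZMod p)ˣ →* Rˣ)
  (H : Type u) [CommRing H] [HopfAlgebra R H]

theorem eigenAug_p : OortTate.eigenAug R H p χ p = OortTate.eigenAug R H p χ 1 := by
  apply eigenAug_congr
  intro m'
  have h3 : ((χ m' : Rˣ) : R) ^ p = ((χ m' : Rˣ) : R) ^ ((p - 1) + 1) := by
    congr 1
    have := hpf.out.pos
    omega
  rw [h3, pow_succ, chi_pow_card, one_mul, pow_one]

theorem prod_mem_one (a : Fin p → OortTate.eigenAug R H p χ 1) :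
    (∏ i, (a i : H)) ∈ OortTate.eigenAug R H p χ 1 := by
  exact (eigenAug_p p R χ H).le (prod_mem_eigenAug p R χ H p hpf.out.pos a)

end Basic

section Comul

theorem comul_compat_ring {R : Type*} [CommRing R] {A A' : Type*} [AddCommGroup A] [Module R A]
    [Coalgebra R A] [AddCommGroup A'] [Module R A'] [Coalgebra R A'] [Module.Finite R A']
    [Module.Projective R A'] (ψ : A →ₗ[R] A')
    (h : ∀ f g : WithConv (A' →ₗ[R] R), (toConv ((f * g).ofConv ∘ₗ ψ) : WithConv (A →ₗ[R] R)) =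
        toConv (f.ofConv ∘ₗ ψ) * toConv (g.ofConv ∘ₗ ψ)) (a : A) :
    TensorProduct.map ψ ψ (comul a) = comul (ψ a) := by
  rw [← sub_eq_zero]
  apply RankPH1.sepProj
  intro f g
  rw [map_sub, map_sub, sub_eq_zero]
  have h1 := congrArg (fun F : WithConv (A →ₗ[R] R) => F.ofConv a) (h (toConv f) (toConv g))
  show LinearMap.mul' R R (TensorProduct.map f g (TensorProduct.map ψ ψ (comul a))) =
    LinearMap.mul' R R (TensorProduct.map f g (comul (ψ a)))
  rw [← LinearMap.comp_apply (TensorProduct.map f g), ← TensorProduct.map_comp]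
  exact h1.symm

end Comul

section One

variable (p : ℕ) [hpf : Fact p.Prime] (R : Type u) [CommRing R] (u : R)
  (hu : u * ((p - 1 : ℕ) : R) = 1)
  (χ : (ZMod p)ˣ →* Rˣ)
  (hχ : ∀ m : (ZMod p)ˣ, m ≠ 1 → IsUnit ((χ m : R) - 1))
  (hχp : ∀ m : (ZMod p)ˣ, ((χ m : Rˣ) : R) - (((m : ZMod p).val : ℕ) : R) ∈
    Ideal.span ({(p : R)} : Set R))
  (A : Type u) [CommRing A] [HopfAlgebra R A] [Module.Finite R A]
  [Module.Projective R A] (hrk : ∀ q : PrimeSpectrum R, Module.rankAtStalk A q = p)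
  (hp : (toConv (AlgHom.id R A)) ^ p = 1)

include hu hχ hχp hrk hp in
theorem ext_on_products {N : Type*} [AddCommGroup N] [Module R N] (L1 L2 : A →ₗ[R] N)
    (h1 : L1 1 = L2 1)
    (h2 : ∀ t, 1 ≤ t → t ≤ p - 1 → ∀ f : Fin t → OortTate.eigenAug R A p χ 1,
      L1 (∏ i, (f i : A)) = L2 (∏ i, (f i : A))) : L1 = L2 := by
  have hp2 := hpf.out.two_le
  have hpow : ∀ t, 1 ≤ t → t ≤ p - 1 → ∀ z ∈ OortTate.eigenAug R A p χ t, L1 z = L2 z := by
    intro t ht1 ht2 z hz
    rw [← pow_eq p R u hu χ hχ hχp A hrk hp t ht1 ht2, span_prod_eq_pow] at hz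
    induction hz using Submodule.span_induction with
    | mem z hz =>
      obtain ⟨f, rfl⟩ := hz
      exact h2 t ht1 ht2 f
    | zero => rw [map_zero, map_zero]
    | add x y _ _ hx hy => rw [map_add, map_add, hx, hy]
    | smul c x _ hx => rw [map_smul, map_smul, hx]
  apply LinearMap.ext
  intro a
  obtain ⟨x, rfl⟩ : ∃ x, ofFam p R χ A x = a := ⟨_, ofFam_toFam p R u hu χ hχ A hp a⟩
  rw [ofFam_apply, map_add, map_add, map_sum, map_sum]
  congr 1
  · rw [Algebra.algebraMap_eq_smul_one, map_smul, map_smul, h1]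
  · refine Finset.sum_congr rfl (fun i _ => ?_)
    by_cases hi : (i : ℕ) = 0
    · have hle : OortTate.eigenAug R A p χ (i : ℕ) ≤ OortTate.eigenAug R A p χ (p - 1) := by
        rw [eigenAug_mod p R χ A (p - 1), Nat.mod_self, hi]
      exact hpow (p - 1) (by omega) le_rfl _ (hle (x.2 i).2)
    · exact hpow i (by omega) (by have := i.isLt; omega) _ (x.2 i).2

include hu hχ hχp hrk hp in
theorem algHom_ext_I1 {B : Type*} [Semiring B] [Algebra R B] (h1 h2 : A →ₐ[R] B)
    (h : ∀ x : OortTate.eigenAug R A p χ 1, h1 (x : A) = h2 (x : A)) : h1 = h2 := by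
  have hs := phi_surjective p R u hu χ hχ hχp A hrk hp
  have hc : h1.comp (phi (OortTate.eigenAug R A p χ 1)) =
      h2.comp (phi (OortTate.eigenAug R A p χ 1)) := by
    apply TensorAlgebra.hom_ext
    apply LinearMap.ext
    intro x
    show h1 (phi (OortTate.eigenAug R A p χ 1) (TensorAlgebra.ι R x)) =
      h2 (phi (OortTate.eigenAug R A p χ 1) (TensorAlgebra.ι R x))
    rw [phi_ι]
    exact h x
  apply AlgHom.ext
  intro a
  obtain ⟨z, rfl⟩ := hs a
  exact AlgHom.congr_fun hc z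

include hu hχ hχp hrk hp in
theorem exists_algHom {B : Type*} [CommRing B] [Algebra R B]
    (θ : OortTate.eigenAug R A p χ 1 →ₗ[R] B)
    (hθ : ∀ (f : Fin p → OortTate.eigenAug R A p χ 1) (g : OortTate.eigenAug R A p χ 1),
      (g : A) = ∏ i, (f i : A) → θ g = ∏ i, θ (f i)) :
    ∃ F : A →ₐ[R] B, ∀ x : OortTate.eigenAug R A p χ 1, F (x : A) = θ x := by
  have hp2 := hpf.out.two_le
  have hs := phi_surjective p R u hu χ hχ hχp A hrk hp
  have hker : RingHom.ker (phi (OortTate.eigenAug R A p χ 1)) =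
      Ideal.span (rels (OortTate.eigenAug R A p χ 1) p) :=
    le_antisymm (ker_le (OortTate.eigenAug R A p χ 1) p hp2
      (exists_locData p R u hu χ hχ hχp A hrk hp)) (span_le_ker (OortTate.eigenAug R A p χ 1) p)
  obtain ⟨G, hGdef⟩ : ∃ G : TensorAlgebra R (OortTate.eigenAug R A p χ 1) →ₐ[R] B,
      ∀ x, G (TensorAlgebra.ι R x) = θ x :=
    ⟨TensorAlgebra.lift R θ, fun x => TensorAlgebra.lift_ι_apply θ x⟩
  have hspan : Ideal.span (rels (OortTate.eigenAug R A p χ 1) p) ≤ RingHom.ker G := by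
    rw [Ideal.span_le]
    rintro _ ⟨f, g, hg, rfl⟩
    rw [SetLike.mem_coe, RingHom.mem_ker, map_sub, map_list_prod, List.map_ofFn, List.prod_ofFn,
      sub_eq_zero, hGdef, hθ f g hg]
    exact Finset.prod_congr rfl (fun i _ => hGdef (f i))
  have hle : RingHom.ker ((phi (OortTate.eigenAug R A p χ 1) :
      TensorAlgebra R (OortTate.eigenAug R A p χ 1) →ₐ[R] A) :
      TensorAlgebra R (OortTate.eigenAug R A p χ 1) →+* A) ≤
      RingHom.ker (G : TensorAlgebra R (OortTate.eigenAug R A p χ 1) →+* B) := by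
    intro z hz
    have hz1 : z ∈ RingHom.ker (phi (OortTate.eigenAug R A p χ 1)) :=
      RingHom.mem_ker.mpr (RingHom.mem_ker.mp hz)
    rw [hker] at hz1
    exact RingHom.mem_ker.mpr (RingHom.mem_ker.mp (hspan hz1))
  have hs' : Function.Surjective ((phi (OortTate.eigenAug R A p χ 1) :
      TensorAlgebra R (OortTate.eigenAug R A p χ 1) →ₐ[R] A) :
      TensorAlgebra R (OortTate.eigenAug R A p χ 1) →+* A) := hs
  obtain ⟨F0, hF0⟩ : ∃ F0 : A →+* B, ∀ z, F0 (phi (OortTate.eigenAug R A p χ 1) z) = G z :=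
    ⟨RingHom.liftOfSurjective _ hs' ⟨(G : _ →+* B), hle⟩,
      fun z => RingHom.liftOfSurjective_comp_apply _ hs' ⟨(G : _ →+* B), hle⟩ z⟩
  refine ⟨{ F0 with commutes' := fun r => ?_ }, fun x => ?_⟩
  · have h := hF0 (algebraMap R _ r)
    rw [AlgHom.commutes, AlgHom.commutes] at h
    exact h
  · have h := hF0 (TensorAlgebra.ι R x)
    rw [phi_ι, hGdef] at h
    exact h

end One

section Res

variable (p : ℕ) [hpf : Fact p.Prime] (R : Type u) [CommRing R] (u : R)
  (hu : u * ((p - 1 : ℕ) : R) = 1)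
  (χ : (ZMod p)ˣ →* Rˣ)
  (hχ : ∀ m : (ZMod p)ˣ, m ≠ 1 → IsUnit ((χ m : R) - 1))
  (A : Type u) [CommRing A] [HopfAlgebra R A] [Coalgebra.IsCocomm R A] [Module.Finite R A]
  [Module.Projective R A]
  (hp : (toConv (AlgHom.id R A)) ^ p = 1)

/-- restriction `I_1(A^D) → I_1(A)^∨` -/
noncomputable def resLin : OortTate.eigenAug R (CartDual.D R A) p χ 1 →ₗ[R]
    (OortTate.eigenAug R A p χ 1 →ₗ[R] R) where
  toFun f := ((CartDual.toDual R A) (f : CartDual.D R A)).comp
    (OortTate.eigenAug R A p χ 1).subtype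
  map_add' f g := by
    apply LinearMap.ext
    intro x
    rfl
  map_smul' c f := by
    apply LinearMap.ext
    intro x
    rfl

theorem resLin_apply (f : OortTate.eigenAug R (CartDual.D R A) p χ 1)
    (x : OortTate.eigenAug R A p χ 1) :
    resLin p R χ A f x = (f : CartDual.D R A).ofConv (x : A) := rfl

include hu hp in
theorem resLin_bijective : Function.Bijective (resLin p R χ A) :=
  OTDualH1.main p R u hu χ A hp 1

/-- restriction as a linear equivalence -/
noncomputable def resEquiv (hu : u * ((p - 1 : ℕ) : R) = 1)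
    (hp : (toConv (AlgHom.id R A)) ^ p = 1) :
    OortTate.eigenAug R (CartDual.D R A) p χ 1 ≃ₗ[R] (OortTate.eigenAug R A p χ 1 →ₗ[R] R) :=
  LinearEquiv.ofBijective (resLin p R χ A) (resLin_bijective p R u hu χ A hp)

include hu hχ hp in
theorem ortho (t k : ℕ) (ht1 : 1 ≤ t) (ht2 : t ≤ p - 1) (hk1 : 1 ≤ k) (hk2 : k ≤ p - 1)
    (hne : t ≠ k) (ψ : CartDual.D R A) (hψ : ψ ∈ OortTate.eigenAug R (CartDual.D R A) p χ t)
    (b : A) (hb : b ∈ OortTate.eigenAug R A p χ k) : ψ.ofConv b = 0 := by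
  have hp2 := hpf.out.two_le
  have hp1 : 0 < p - 1 := by omega
  rw [eigenAug_mod p R χ (CartDual.D R A) t] at hψ
  rw [eigenAug_mod p R χ A k] at hb
  have hmod : t % (p - 1) ≠ k % (p - 1) := by
    rcases Nat.lt_or_ge t (p - 1) with h1 | h1
    · rcases Nat.lt_or_ge k (p - 1) with h2 | h2
      · rw [Nat.mod_eq_of_lt h1, Nat.mod_eq_of_lt h2]
        exact hne
      · have hk : k = p - 1 := le_antisymm hk2 h2
        rw [Nat.mod_eq_of_lt h1, hk, Nat.mod_self]
        omega
    · have ht : t = p - 1 := le_antisymm ht2 h1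
      rcases Nat.lt_or_ge k (p - 1) with h2 | h2
      · rw [ht, Nat.mod_self, Nat.mod_eq_of_lt h2]
        omega
      · have hk : k = p - 1 := le_antisymm hk2 h2
        omega
  rw [OTDualH1.Q1 p R u hu χ A (t % (p - 1)) ψ hψ b,
    Pi_ortho p R u hu χ hχ A hp (t % (p - 1)) (k % (p - 1)) (Nat.mod_lt _ hp1)
      (Nat.mod_lt _ hp1) hmod b hb, map_zero]

theorem prod_ofConv_one (t : ℕ) (ht : 1 ≤ t)
    (φ : Fin t → OortTate.eigenAug R (CartDual.D R A) p χ 1) :
    (∏ i, (φ i : CartDual.D R A)).ofConv 1 = 0 := by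
  have h := prod_mem_eigenAug p R χ (CartDual.D R A) t ht φ
  exact ((OTDualH1.mem_eigenAug p R χ (CartDual.D R A) t _).mp h).1

end Res

section Theta

variable (p : ℕ) [hpf : Fact p.Prime] (R : Type u) [CommRing R] (u : R)
  (hu : u * ((p - 1 : ℕ) : R) = 1)
  (χ : (ZMod p)ˣ →* Rˣ)
  (A : Type u) [CommRing A] [HopfAlgebra R A] [Coalgebra.IsCocomm R A] [Module.Finite R A]
  [Module.Projective R A]
  (hp : (toConv (AlgHom.id R A)) ^ p = 1)
  (A' : Type u) [CommRing A'] [HopfAlgebra R A'] [Coalgebra.IsCocomm R A'] [Module.Finite R A']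
  [Module.Projective R A']
  (θ : OortTate.eigenAug R A p χ 1 →ₗ[R] OortTate.eigenAug R A' p χ 1)

/-- the transpose of `θ`, `I_1(A'^D) → I_1(A^D)` -/
noncomputable def thetaD (hu : u * ((p - 1 : ℕ) : R) = 1)
    (hp : (toConv (AlgHom.id R A)) ^ p = 1) :
    OortTate.eigenAug R (CartDual.D R A') p χ 1 →ₗ[R] OortTate.eigenAug R (CartDual.D R A) p χ 1 :=
  (resEquiv p R u χ A hu hp).symm.toLinearMap ∘ₗ
    ({ toFun := fun ψ => ψ ∘ₗ θ
       map_add' := fun _ _ => rfl
       map_smul' := fun _ _ => rfl } :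
      (OortTate.eigenAug R A' p χ 1 →ₗ[R] R) →ₗ[R] (OortTate.eigenAug R A p χ 1 →ₗ[R] R)) ∘ₗ
    resLin p R χ A'

theorem thetaD_spec (η' : OortTate.eigenAug R (CartDual.D R A') p χ 1)
    (x : OortTate.eigenAug R A p χ 1) :
    ((thetaD p R u χ A A' θ hu hp η' : OortTate.eigenAug R (CartDual.D R A) p χ 1) :
      CartDual.D R A).ofConv (x : A) =
      (η' : CartDual.D R A').ofConv ((θ x : OortTate.eigenAug R A' p χ 1) : A') := by
  have h := LinearEquiv.apply_symm_apply (resEquiv p R u χ A hu hp)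
    ((resLin p R χ A' η') ∘ₗ θ)
  exact LinearMap.congr_fun h x

end Theta

theorem core (p : ℕ) [hpf : Fact p.Prime] (R : Type u) [CommRing R] (u : R)
    (hu : u * ((p - 1 : ℕ) : R) = 1)
    (χ : (ZMod p)ˣ →* Rˣ) (hχ : ∀ m : (ZMod p)ˣ, m ≠ 1 → IsUnit ((χ m : R) - 1))
    (hχp : ∀ m : (ZMod p)ˣ, ((χ m : Rˣ) : R) - (((m : ZMod p).val : ℕ) : R) ∈
      Ideal.span ({(p : R)} : Set R))
    (A : Type u) [CommRing A] [HopfAlgebra R A] [Coalgebra.IsCocomm R A] [Module.Finite R A]
    [Module.Projective R A] (hrk : ∀ q : PrimeSpectrum R, Module.rankAtStalk A q = p)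
    (A' : Type u) [CommRing A'] [HopfAlgebra R A'] [Coalgebra.IsCocomm R A'] [Module.Finite R A']
    [Module.Projective R A'] (hrk' : ∀ q : PrimeSpectrum R, Module.rankAtStalk A' q = p)
    (θ : OortTate.eigenAug R A p χ 1 →ₗ[R] OortTate.eigenAug R A' p χ 1)
    (hθ : ∀ (f : Fin p → OortTate.eigenAug R A p χ 1) (g : OortTate.eigenAug R A p χ 1),
      (g : A) = ∏ i, (f i : A) →
        ((θ g : OortTate.eigenAug R A' p χ 1) : A') = ∏ i, ((θ (f i) : _) : A'))
    (hθD : ∀ (φ : Fin p → OortTate.eigenAug R (CartDual.D R A) p χ 1)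
      (φ' : Fin p → OortTate.eigenAug R (CartDual.D R A') p χ 1)
      (ψ : OortTate.eigenAug R (CartDual.D R A) p χ 1)
      (ψ' : OortTate.eigenAug R (CartDual.D R A') p χ 1),
      (∀ i, ∀ x : OortTate.eigenAug R A p χ 1,
        CartDual.toDual R A (φ i : CartDual.D R A) (x : A) =
          CartDual.toDual R A' (φ' i : CartDual.D R A')
            ((θ x : OortTate.eigenAug R A' p χ 1) : A')) →
      (ψ : CartDual.D R A) = ∏ i, (φ i : CartDual.D R A) →
      (ψ' : CartDual.D R A') = ∏ i, (φ' i : CartDual.D R A') →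
      ∀ x : OortTate.eigenAug R A p χ 1,
        CartDual.toDual R A (ψ : CartDual.D R A) (x : A) =
          CartDual.toDual R A' (ψ' : CartDual.D R A')
            ((θ x : OortTate.eigenAug R A' p χ 1) : A')) :
    ∃ F : A →ₐc[R] A', ∀ x : OortTate.eigenAug R A p χ 1,
      F (x : A) = ((θ x : OortTate.eigenAug R A' p χ 1) : A') := by
  have hp2 := hpf.out.two_le
  have hp := DeligneH1.main15048 R A p hrk
  have hp' := DeligneH1.main15048 R A' p hrk'
  have hpd := hpD p R A hp
  have hpd' := hpD p R A' hp'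
  have hrkD : ∀ q : PrimeSpectrum R, Module.rankAtStalk (CartDual.D R A) q = p := fun q => by
    rw [Module.rankAtStalk_eq_of_equiv (CartDual.toDual R A), DualRankH1.rankAtStalk_dual]
    exact hrk q
  have hrkD' : ∀ q : PrimeSpectrum R, Module.rankAtStalk (CartDual.D R A') q = p := fun q => by
    rw [Module.rankAtStalk_eq_of_equiv (CartDual.toDual R A'), DualRankH1.rankAtStalk_dual]
    exact hrk' q
  -- the algebra map `f`
  obtain ⟨f, hf⟩ := exists_algHom p R u hu χ hχ hχp A hrk hp (B := A')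
    ((OortTate.eigenAug R A' p χ 1).subtype ∘ₗ θ) (fun fam g hg => hθ fam g hg)
  have hf' : ∀ x : OortTate.eigenAug R A p χ 1,
      f (x : A) = ((θ x : OortTate.eigenAug R A' p χ 1) : A') := hf
  -- the transpose
  obtain ⟨θD, hθDspec⟩ : ∃ θD : OortTate.eigenAug R (CartDual.D R A') p χ 1 →ₗ[R]
      OortTate.eigenAug R (CartDual.D R A) p χ 1,
      ∀ (η' : OortTate.eigenAug R (CartDual.D R A') p χ 1) (x : OortTate.eigenAug R A p χ 1),
        ((θD η' : OortTate.eigenAug R (CartDual.D R A) p χ 1) : CartDual.D R A).ofConv (x : A) =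
          (η' : CartDual.D R A').ofConv ((θ x : OortTate.eigenAug R A' p χ 1) : A') :=
    ⟨thetaD p R u χ A A' θ hu hp, thetaD_spec p R u hu χ A hp A' θ⟩
  have hθD' : ∀ (φ' : Fin p → OortTate.eigenAug R (CartDual.D R A') p χ 1)
      (ψ' : OortTate.eigenAug R (CartDual.D R A') p χ 1),
      (ψ' : CartDual.D R A') = ∏ i, (φ' i : CartDual.D R A') →
      ((OortTate.eigenAug R (CartDual.D R A) p χ 1).subtype ∘ₗ θD) ψ' =
        ∏ i, ((OortTate.eigenAug R (CartDual.D R A) p χ 1).subtype ∘ₗ θD) (φ' i) := by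
    intro φ' ψ' hψ'
    have hmem := prod_mem_one p R χ (CartDual.D R A) (fun i => θD (φ' i))
    have h1 := hθD (fun i => θD (φ' i)) φ' ⟨_, hmem⟩ ψ' (fun i x => hθDspec (φ' i) x) rfl hψ'
    have h2 : θD ψ' = ⟨_, hmem⟩ := by
      apply (resEquiv p R u χ A hu hp).injective
      apply LinearMap.ext
      intro x
      show ((θD ψ' : _) : CartDual.D R A).ofConv (x : A) =
        (∏ i, ((θD (φ' i) : _) : CartDual.D R A)).ofConv (x : A)
      rw [hθDspec]
      exact (h1 x).symm
    show ((θD ψ' : _) : CartDual.D R A) = ∏ i, ((θD (φ' i) : _) : CartDual.D R A)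
    rw [h2]
  obtain ⟨G, hG⟩ := exists_algHom p R u hu χ hχ hχp (CartDual.D R A') hrkD' hpd'
    (B := CartDual.D R A)
    ((OortTate.eigenAug R (CartDual.D R A) p χ 1).subtype ∘ₗ θD) hθD'
  have hG' : ∀ η' : OortTate.eigenAug R (CartDual.D R A') p χ 1,
      G (η' : CartDual.D R A') = ((θD η' : _) : CartDual.D R A) := hG
  have hcounit : (Bialgebra.counitAlgHom R A').comp f = Bialgebra.counitAlgHom R A := by
    apply algHom_ext_I1 p R u hu χ hχ hχp A hrk hp
    intro x
    rw [AlgHom.comp_apply, hf' x]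
    show counit (R := R) ((θ x : _) : A') = counit (R := R) (x : A)
    rw [((OTDualH1.mem_eigenAug p R χ A' 1 _).mp (θ x).2).1,
      ((OTDualH1.mem_eigenAug p R χ A 1 _).mp x.2).1]
  have hfprod : ∀ (k : ℕ) (a : Fin k → OortTate.eigenAug R A p χ 1),
      f (∏ i, (a i : A)) = ∏ i, ((θ (a i) : _) : A') := by
    intro k a
    rw [map_prod]
    exact Finset.prod_congr rfl (fun i _ => hf' (a i))
  have hGprod : ∀ (t : ℕ) (φ' : Fin t → OortTate.eigenAug R (CartDual.D R A') p χ 1),
      G (∏ i, (φ' i : CartDual.D R A')) = ∏ i, ((θD (φ' i) : _) : CartDual.D R A) := by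
    intro t φ'
    rw [map_prod]
    exact Finset.prod_congr rfl (fun i _ => hG' (φ' i))
  have KEY : ∀ η' : CartDual.D R A',
      (toConv (η'.ofConv ∘ₗ f.toLinearMap) : CartDual.D R A) = G η' := by
    obtain ⟨T, hTdef⟩ : ∃ T : CartDual.D R A' →ₗ[R] CartDual.D R A,
        ∀ η', T η' = toConv (η'.ofConv ∘ₗ f.toLinearMap) :=
      ⟨{ toFun := fun η' => toConv (η'.ofConv ∘ₗ f.toLinearMap)
         map_add' := fun _ _ => rfl
         map_smul' := fun _ _ => rfl }, fun _ => rfl⟩
    have hT : T = G.toLinearMap := by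
      apply ext_on_products p R u hu χ hχ hχp (CartDual.D R A') hrkD' hpd'
      · rw [hTdef, AlgHom.toLinearMap_apply, map_one]
        apply WithConv.ext
        apply LinearMap.ext
        intro a
        show algebraMap R R (counit (R := R) (f a)) = algebraMap R R (counit (R := R) a)
        have h := AlgHom.congr_fun hcounit a
        exact congrArg _ h
      · intro t ht1 ht2 φ'
        rw [hTdef, AlgHom.toLinearMap_apply, hGprod]
        apply WithConv.ext
        show (∏ i, (φ' i : CartDual.D R A')).ofConv ∘ₗ f.toLinearMap =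
          (∏ i, ((θD (φ' i) : _) : CartDual.D R A)).ofConv
        apply ext_on_products p R u hu χ hχ hχp A hrk hp
        · show (∏ i, (φ' i : CartDual.D R A')).ofConv (f 1) =
            (∏ i, ((θD (φ' i) : _) : CartDual.D R A)).ofConv 1
          rw [map_one, prod_ofConv_one p R χ A' t ht1 φ',
            prod_ofConv_one p R χ A t ht1 (fun i => θD (φ' i))]
        · intro k hk1 hk2 a
          show (∏ i, (φ' i : CartDual.D R A')).ofConv (f (∏ i, (a i : A))) =
            (∏ i, ((θD (φ' i) : _) : CartDual.D R A)).ofConv (∏ i, (a i : A))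
          rw [hfprod]
          by_cases hkt : t = k
          · subst hkt
            obtain ⟨w, hw⟩ := exists_w p R u hu χ t ht1
            have e1 := pairing_formula p R u hu χ hχ hχp A' hrk' hp' t ht1 ht2 w hw φ'
              (fun i => θ (a i))
            have e2 := pairing_formula p R u hu χ hχ hχp A hrk hp t ht1 ht2 w hw
              (fun i => θD (φ' i)) a
            rw [e1, e2]
            congr 1
            exact Finset.prod_congr rfl (fun i _ => (hθDspec (φ' i) (a i)).symm)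
          · have e1 := ortho p R u hu χ hχ A' hp' t k ht1 ht2 hk1 hk2 hkt _
              (prod_mem_eigenAug p R χ (CartDual.D R A') t ht1 φ') _
              (prod_mem_eigenAug p R χ A' k hk1 (fun i => θ (a i)))
            have e2 := ortho p R u hu χ hχ A hp t k ht1 ht2 hk1 hk2 hkt _
              (prod_mem_eigenAug p R χ (CartDual.D R A) t ht1 (fun i => θD (φ' i))) _
              (prod_mem_eigenAug p R χ A k hk1 a)
            rw [e1, e2]
    intro η'
    rw [← hTdef, hT]
    rfl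
  have hcomul : ∀ a : A,
      TensorProduct.map f.toLinearMap f.toLinearMap (comul a) = comul (R := R) (f a) := by
    intro a
    apply comul_compat_ring f.toLinearMap
    intro f' g'
    rw [KEY, KEY, KEY, map_mul]
  refine ⟨BialgHom.ofAlgHom f hcounit ?_, fun x => hf' x⟩
  apply AlgHom.ext
  intro a
  exact hcomul a

theorem main18478 (p : ℕ) [Fact p.Prime] (R : Type u) [CommRing R] (u : R)
    (hu : u * ((p - 1 : ℕ) : R) = 1)
    (χ : (ZMod p)ˣ →* Rˣ) (hχ : ∀ m : (ZMod p)ˣ, m ≠ 1 → IsUnit ((χ m : R) - 1))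
    (hχp : ∀ m : (ZMod p)ˣ, ((χ m : Rˣ) : R) - (((m : ZMod p).val : ℕ) : R) ∈
      Ideal.span ({(p : R)} : Set R))
    (A : Type u) [CommRing A] [HopfAlgebra R A] [Coalgebra.IsCocomm R A] [Module.Finite R A]
    [Module.Projective R A] (hrk : ∀ q : PrimeSpectrum R, Module.rankAtStalk A q = p)
    (A' : Type u) [CommRing A'] [HopfAlgebra R A'] [Coalgebra.IsCocomm R A'] [Module.Finite R A']
    [Module.Projective R A'] (hrk' : ∀ q : PrimeSpectrum R, Module.rankAtStalk A' q = p)
    (θ : OortTate.eigenAug R A p χ 1 ≃ₗ[R] OortTate.eigenAug R A' p χ 1)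
    (hθ : ∀ (f : Fin p → OortTate.eigenAug R A p χ 1) (g : OortTate.eigenAug R A p χ 1),
      (g : A) = ∏ i, (f i : A) →
        ((θ g : OortTate.eigenAug R A' p χ 1) : A') = ∏ i, ((θ (f i)) : A'))
    (hθD : ∀ (φ : Fin p → OortTate.eigenAug R (CartDual.D R A) p χ 1)
      (φ' : Fin p → OortTate.eigenAug R (CartDual.D R A') p χ 1)
      (ψ : OortTate.eigenAug R (CartDual.D R A) p χ 1)
      (ψ' : OortTate.eigenAug R (CartDual.D R A') p χ 1),
      (∀ i, ∀ x : OortTate.eigenAug R A p χ 1,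
        CartDual.toDual R A (φ i : CartDual.D R A) (x : A) =
          CartDual.toDual R A' (φ' i : CartDual.D R A')
            ((θ x : OortTate.eigenAug R A' p χ 1) : A')) →
      (ψ : CartDual.D R A) = ∏ i, (φ i : CartDual.D R A) →
      (ψ' : CartDual.D R A') = ∏ i, (φ' i : CartDual.D R A') →
      ∀ x : OortTate.eigenAug R A p χ 1,
        CartDual.toDual R A (ψ : CartDual.D R A) (x : A) =
          CartDual.toDual R A' (ψ' : CartDual.D R A')
            ((θ x : OortTate.eigenAug R A' p χ 1) : A')) :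
    Nonempty (A ≃ₐc[R] A') := by
  have hp := DeligneH1.main15048 R A p hrk
  have hp' := DeligneH1.main15048 R A' p hrk'
  obtain ⟨F, hF⟩ := core p R u hu χ hχ hχp A hrk A' hrk' θ.toLinearMap hθ hθD
  have hF' : ∀ x : OortTate.eigenAug R A p χ 1,
      F (x : A) = ((θ x : OortTate.eigenAug R A' p χ 1) : A') := hF
  have hθs : ∀ (f' : Fin p → OortTate.eigenAug R A' p χ 1) (g' : OortTate.eigenAug R A' p χ 1),
      (g' : A') = ∏ i, (f' i : A') →
      ((OortTate.eigenAug R A p χ 1).subtype ∘ₗ θ.symm.toLinearMap) g' =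
        ∏ i, ((OortTate.eigenAug R A p χ 1).subtype ∘ₗ θ.symm.toLinearMap) (f' i) := by
    intro f' g' hg'
    have hmem := prod_mem_one p R χ A (fun i => θ.symm (f' i))
    have h1 := hθ (fun i => θ.symm (f' i)) ⟨_, hmem⟩ rfl
    have h2 : θ ⟨_, hmem⟩ = g' := by
      apply Subtype.ext
      rw [h1, hg']
      exact Finset.prod_congr rfl (fun i _ => by rw [LinearEquiv.apply_symm_apply])
    show ((θ.symm g' : _) : A) = ∏ i, ((θ.symm (f' i) : _) : A)
    rw [← h2, LinearEquiv.symm_apply_apply]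
  obtain ⟨g, hg⟩ := exists_algHom p R u hu χ hχ hχp A' hrk' hp' (B := A)
    ((OortTate.eigenAug R A p χ 1).subtype ∘ₗ θ.symm.toLinearMap) hθs
  have hg' : ∀ y : OortTate.eigenAug R A' p χ 1,
      g (y : A') = ((θ.symm y : OortTate.eigenAug R A p χ 1) : A) := hg
  have hgf : g.comp (F : A →ₐ[R] A') = AlgHom.id R A := by
    apply algHom_ext_I1 p R u hu χ hχ hχp A hrk hp
    intro x
    show g (F (x : A)) = (x : A)
    rw [hF' x, hg' (θ x), LinearEquiv.symm_apply_apply]
  have hfg : (F : A →ₐ[R] A').comp g = AlgHom.id R A' := by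
    apply algHom_ext_I1 p R u hu χ hχ hχp A' hrk' hp'
    intro y
    show F (g (y : A')) = (y : A')
    rw [hg' y, hF' (θ.symm y), LinearEquiv.apply_symm_apply]
  refine ⟨BialgEquiv.ofBijective F ⟨?_, ?_⟩⟩
  · exact Function.LeftInverse.injective (g := g) (fun a => AlgHom.congr_fun hgf a)
  · exact Function.RightInverse.surjective (g := g) (fun b => AlgHom.congr_fun hfg b)

end OTInjH1
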