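import Mathlib
import Groth.Prelude.Def_CartDual
import Groth.Agent.Lib.OTInj_helper1

set_option autoImplicit false
set_option maxHeartbeats 1000000

/-!
# Oort–Tate: injectivity of the classification map, the case of free `I_1` (helper1)
-/

namespace OTFreeH1

open TensorProduct WithConv Coalgebra

universe u

theorem main18475
    (p : ℕ) [hpf : Fact p.Prime] (R : Type u) [CommRing R] (u : R)
    (hu : u * ((p - 1 : ℕ) : R) = 1)
    (χ : (ZMod p)ˣ →* Rˣ) (hχ : ∀ m : (ZMod p)ˣ, m ≠ 1 → IsUnit ((χ m : R) - 1))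
    (hχp : ∀ m : (ZMod p)ˣ, ((χ m : Rˣ) : R) - (((m : ZMod p).val : ℕ) : R) ∈
      Ideal.span ({(p : R)} : Set R))
    (A : Type u) [CommRing A] [HopfAlgebra R A] [Coalgebra.IsCocomm R A] [Module.Finite R A]
    [Module.Projective R A] (hrk : ∀ q : PrimeSpectrum R, Module.rankAtStalk A q = p)
    (A' : Type u) [CommRing A'] [HopfAlgebra R A'] [Coalgebra.IsCocomm R A'] [Module.Finite R A']
    [Module.Projective R A'] (hrk' : ∀ q : PrimeSpectrum R, Module.rankAtStalk A' q = p)
    (x : A) (hx : Submodule.span R {x} = OortTate.eigenAug R A p χ 1)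
    (ξ : CartDual.D R A) (hξ : Submodule.span R {ξ} = OortTate.eigenAug R (CartDual.D R A) p χ 1)
    (hxξ : CartDual.toDual R A ξ x = 1)
    (x' : A') (hx' : Submodule.span R {x'} = OortTate.eigenAug R A' p χ 1)
    (ξ' : CartDual.D R A')
    (hξ' : Submodule.span R {ξ'} = OortTate.eigenAug R (CartDual.D R A') p χ 1)
    (hxξ' : CartDual.toDual R A' ξ' x' = 1)
    (α β α' β' : R) (hα : x ^ p = α • x) (hβ : ξ ^ p = β • ξ) (hα' : x' ^ p = α' • x')
    (hβ' : ξ' ^ p = β' • ξ')
    (v : Rˣ) (hαv : α' = ((v ^ (p - 1) : Rˣ) : R) * α)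
    (hβv : β' = ((v⁻¹ ^ (p - 1) : Rˣ) : R) * β) :
    Nonempty (A ≃ₐc[R] A') := by
  have hpp : 0 < p := hpf.out.pos
  obtain ⟨c, d, hcd, hα2, hβ2⟩ : ∃ c d : R, c * d = 1 ∧ α' = d ^ (p - 1) * α ∧
      β' = c ^ (p - 1) * β :=
    ⟨((v⁻¹ : Rˣ) : R), (v : R), by rw [← Units.val_mul, inv_mul_cancel, Units.val_one],
      by rw [hαv, Units.val_pow_eq_pow_val], by rw [hβv, Units.val_pow_eq_pow_val]⟩
  have hdc : d * c = 1 := by rw [mul_comm, hcd]
  have hcp : c ^ p = c ^ (p - 1) * c := by
    rw [← pow_succ]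
    congr 1
    omega
  have hcd1 : c ^ (p - 1) * d ^ (p - 1) = 1 := by rw [← mul_pow, hcd, one_pow]
  have h1 : ξ.ofConv x = 1 := hxξ
  have h1' : ξ'.ofConv x' = 1 := hxξ'
  have hxI : x ∈ OortTate.eigenAug R A p χ 1 := by
    rw [← hx]
    exact Submodule.mem_span_singleton_self x
  have hxI' : x' ∈ OortTate.eigenAug R A' p χ 1 := by
    rw [← hx']
    exact Submodule.mem_span_singleton_self x'
  have hdecA : ∀ a : OortTate.eigenAug R A p χ 1, (a : A) = (ξ.ofConv (a : A)) • x := by
    intro a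
    have ha : (a : A) ∈ Submodule.span R {x} := by
      rw [hx]
      exact a.2
    obtain ⟨r, hr⟩ := Submodule.mem_span_singleton.mp ha
    rw [← hr, map_smul, h1, smul_eq_mul, mul_one]
  have hdecA' : ∀ a : OortTate.eigenAug R A' p χ 1, (a : A') = (ξ'.ofConv (a : A')) • x' := by
    intro a
    have ha : (a : A') ∈ Submodule.span R {x'} := by
      rw [hx']
      exact a.2
    obtain ⟨r, hr⟩ := Submodule.mem_span_singleton.mp ha
    rw [← hr, map_smul, h1', smul_eq_mul, mul_one]
  have hdecD : ∀ φ : OortTate.eigenAug R (CartDual.D R A) p χ 1,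
      (φ : CartDual.D R A) = ((φ : CartDual.D R A).ofConv x) • ξ := by
    intro φ
    have hφ : (φ : CartDual.D R A) ∈ Submodule.span R {ξ} := by
      rw [hξ]
      exact φ.2
    obtain ⟨s, hs⟩ := Submodule.mem_span_singleton.mp hφ
    rw [← hs, WithConv.ofConv_smul, LinearMap.smul_apply, h1, smul_eq_mul, mul_one]
  have hdecD' : ∀ φ : OortTate.eigenAug R (CartDual.D R A') p χ 1,
      (φ : CartDual.D R A') = ((φ : CartDual.D R A').ofConv x') • ξ' := by
    intro φ
    have hφ : (φ : CartDual.D R A') ∈ Submodule.span R {ξ'} := by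
      rw [hξ']
      exact φ.2
    obtain ⟨s, hs⟩ := Submodule.mem_span_singleton.mp hφ
    rw [← hs, WithConv.ofConv_smul, LinearMap.smul_apply, h1', smul_eq_mul, mul_one]
  obtain ⟨θ, hθdef⟩ : ∃ θ : OortTate.eigenAug R A p χ 1 ≃ₗ[R] OortTate.eigenAug R A' p χ 1,
      ∀ a : OortTate.eigenAug R A p χ 1,
        ((θ a : OortTate.eigenAug R A' p χ 1) : A') = (ξ.ofConv (a : A) * c) • x' := by
    refine ⟨LinearEquiv.ofLinear
      ((LinearMap.toSpanSingleton R _ (c • (⟨x', hxI'⟩ : OortTate.eigenAug R A' p χ 1))) ∘ₗ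
        ((CartDual.toDual R A ξ) ∘ₗ (OortTate.eigenAug R A p χ 1).subtype))
      ((LinearMap.toSpanSingleton R _ (d • (⟨x, hxI⟩ : OortTate.eigenAug R A p χ 1))) ∘ₗ
        ((CartDual.toDual R A' ξ') ∘ₗ (OortTate.eigenAug R A' p χ 1).subtype)) ?_ ?_, ?_⟩
    · apply LinearMap.ext
      intro b
      apply Subtype.ext
      show (ξ.ofConv ((ξ'.ofConv (b : A')) • d • x)) • c • x' = (b : A')
      rw [map_smul, map_smul, h1, smul_eq_mul, smul_eq_mul, mul_one, smul_smul, mul_assoc, hdc,
        mul_one]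
      exact (hdecA' b).symm
    · apply LinearMap.ext
      intro a
      apply Subtype.ext
      show (ξ'.ofConv ((ξ.ofConv (a : A)) • c • x')) • d • x = (a : A)
      rw [map_smul, map_smul, h1', smul_eq_mul, smul_eq_mul, mul_one, smul_smul, mul_assoc, hcd,
        mul_one]
      exact (hdecA a).symm
    · intro a
      show (ξ.ofConv (a : A)) • c • x' = (ξ.ofConv (a : A) * c) • x'
      rw [smul_smul]
  have hθ : ∀ (f : Fin p → OortTate.eigenAug R A p χ 1) (g : OortTate.eigenAug R A p χ 1),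
      (g : A) = ∏ i, (f i : A) →
        ((θ g : OortTate.eigenAug R A' p χ 1) : A') = ∏ i, ((θ (f i)) : A') := by
    intro f g hg
    have e1 : ∏ i, (f i : A) = ((∏ i, ξ.ofConv (f i : A)) * α) • x := by
      rw [Finset.prod_congr rfl (fun i _ => hdecA (f i)), Finset.prod_smul, Finset.prod_const,
        Finset.card_univ, Fintype.card_fin, hα, smul_smul]
    have e2 : ξ.ofConv (g : A) = (∏ i, ξ.ofConv (f i : A)) * α := by
      rw [hg, e1, map_smul, h1, smul_eq_mul, mul_one]
    rw [hθdef, e2, Finset.prod_congr rfl (fun i _ => hθdef (f i)), Finset.prod_smul,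
      Finset.prod_const, Finset.card_univ, Fintype.card_fin, hα', smul_smul,
      Finset.prod_mul_distrib, Finset.prod_const, Finset.card_univ, Fintype.card_fin, hα2, hcp]
    congr 1
    generalize (∏ i, ξ.ofConv (f i : A)) = P
    linear_combination (-(P * α * c)) * hcd1
  have hθD : ∀ (φ : Fin p → OortTate.eigenAug R (CartDual.D R A) p χ 1)
      (φ' : Fin p → OortTate.eigenAug R (CartDual.D R A') p χ 1)
      (ψ : OortTate.eigenAug R (CartDual.D R A) p χ 1)
      (ψ' : OortTate.eigenAug R (CartDual.D R A') p χ 1),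
      (∀ i, ∀ a : OortTate.eigenAug R A p χ 1,
        CartDual.toDual R A (φ i : CartDual.D R A) (a : A) =
          CartDual.toDual R A' (φ' i : CartDual.D R A')
            ((θ a : OortTate.eigenAug R A' p χ 1) : A')) →
      (ψ : CartDual.D R A) = ∏ i, (φ i : CartDual.D R A) →
      (ψ' : CartDual.D R A') = ∏ i, (φ' i : CartDual.D R A') →
      ∀ a : OortTate.eigenAug R A p χ 1,
        CartDual.toDual R A (ψ : CartDual.D R A) (a : A) =
          CartDual.toDual R A' (ψ' : CartDual.D R A')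
            ((θ a : OortTate.eigenAug R A' p χ 1) : A') := by
    intro φ φ' ψ ψ' hrel hψ hψ' a
    have hs : ∀ i, (φ i : CartDual.D R A).ofConv x = (φ' i : CartDual.D R A').ofConv x' * c := by
      intro i
      have h' : (φ i : CartDual.D R A).ofConv x =
          (φ' i : CartDual.D R A').ofConv ((θ ⟨x, hxI⟩ : OortTate.eigenAug R A' p χ 1) : A') :=
        hrel i ⟨x, hxI⟩
      have e' : ((θ ⟨x, hxI⟩ : OortTate.eigenAug R A' p χ 1) : A') = (ξ.ofConv x * c) • x' :=
        hθdef ⟨x, hxI⟩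
      rw [h', e', h1, one_mul, map_smul, smul_eq_mul, mul_comm]
    have eψ : (ψ : CartDual.D R A) = ((∏ i, (φ i : CartDual.D R A).ofConv x) * β) • ξ := by
      rw [hψ, Finset.prod_congr rfl (fun i _ => hdecD (φ i)), Finset.prod_smul, Finset.prod_const,
        Finset.card_univ, Fintype.card_fin, hβ, smul_smul]
    have eψ' : (ψ' : CartDual.D R A') =
        ((∏ i, (φ' i : CartDual.D R A').ofConv x') * β') • ξ' := by
      rw [hψ', Finset.prod_congr rfl (fun i _ => hdecD' (φ' i)), Finset.prod_smul,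
        Finset.prod_const, Finset.card_univ, Fintype.card_fin, hβ', smul_smul]
    show (ψ : CartDual.D R A).ofConv (a : A) =
      (ψ' : CartDual.D R A').ofConv ((θ a : OortTate.eigenAug R A' p χ 1) : A')
    rw [eψ, eψ', hθdef, WithConv.ofConv_smul, WithConv.ofConv_smul, LinearMap.smul_apply,
      LinearMap.smul_apply, map_smul, h1', Finset.prod_congr rfl (fun i _ => hs i),
      Finset.prod_mul_distrib, Finset.prod_const, Finset.card_univ, Fintype.card_fin, hβ2, hcp]
    simp only [smul_eq_mul]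
    ring
  exact OTInjH1.main18478 p R u hu χ hχ hχp A hrk A' hrk' θ hθ hθD

end OTFreeH1
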