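import Mathlib
import Groth.Prelude.Def_W4bk4hartshdef114Obs

/-!
# Obstruction theories bound the number of generators
-/

namespace Groth.Agent.Lib.ObsBoundH4

open IsLocalRing TensorProduct W4bk4hartshdef114

universe u

section local_lemmas

variable {R : Type u} [CommRing R] [IsLocalRing R]

lemma mk_mem_nonunits (𝔞 : Ideal R) (h𝔞 : 𝔞 ≤ maximalIdeal R) (y : R)
    (hy : y ∈ maximalIdeal R) : Ideal.Quotient.mk 𝔞 y ∈ nonunits (R ⧸ 𝔞) := by
  rw [mem_nonunits_iff]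
  intro hu
  obtain ⟨w', hw'⟩ := hu.exists_right_inv
  obtain ⟨w, rfl⟩ := Ideal.Quotient.mk_surjective w'
  rw [← map_mul, ← map_one (Ideal.Quotient.mk 𝔞), Ideal.Quotient.eq] at hw'
  have h1 : y * w - 1 ∈ maximalIdeal R := h𝔞 hw'
  have h2 : y * w ∈ maximalIdeal R := Ideal.mul_mem_right _ _ hy
  have h3 : (1 : R) ∈ maximalIdeal R := by
    have h4 := Ideal.sub_mem _ h2 h1
    rwa [sub_sub_cancel] at h4
  exact (Ideal.ne_top_iff_one _).mp (maximalIdeal.isMaximal R).ne_top h3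

lemma mem_of_mk_mem_nonunits (𝔞 : Ideal R) (y : R)
    (hy : Ideal.Quotient.mk 𝔞 y ∈ nonunits (R ⧸ 𝔞)) : y ∈ maximalIdeal R := by
  rw [mem_maximalIdeal, mem_nonunits_iff]
  intro hu
  exact hy (hu.map (Ideal.Quotient.mk 𝔞))

theorem isSmallExt_quot (k : Type u) [Field k] [Algebra k R]
    (hres : ∀ x : R, ∃ c : k, x - algebraMap k R c ∈ maximalIdeal R)
    (𝔞 𝔧 : Ideal R) (h𝔞 : 𝔞 ≤ maximalIdeal R) (h𝔧 : 𝔧 ≤ maximalIdeal R)
    (hm : maximalIdeal R * 𝔧 ≤ 𝔞) (hArt : IsArtinianRing (R ⧸ 𝔞)) :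
    IsSmallExt k (R ⧸ 𝔞) (𝔧.map (Ideal.Quotient.mkₐ k 𝔞)) := by
  have hne : 𝔞 ≠ ⊤ := fun h =>
    (maximalIdeal.isMaximal R).ne_top (top_le_iff.mp (h ▸ h𝔞))
  haveI : Nontrivial (R ⧸ 𝔞) := Ideal.Quotient.nontrivial_iff.mpr hne
  refine ⟨IsLocalRing.of_surjective' (Ideal.Quotient.mk 𝔞) Ideal.Quotient.mk_surjective,
    hArt, ?_, ?_, ?_⟩
  · intro x
    obtain ⟨y, rfl⟩ := Ideal.Quotient.mk_surjective x
    obtain ⟨c, hc⟩ := hres y
    refine ⟨c, ?_⟩
    have h1 := mk_mem_nonunits 𝔞 h𝔞 _ hc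
    rw [map_sub] at h1
    exact h1
  · intro x j hx hj
    obtain ⟨y, rfl⟩ := Ideal.Quotient.mk_surjective x
    obtain ⟨i, hi, rfl⟩ :=
      (Ideal.mem_map_iff_of_surjective _ (Ideal.Quotient.mkₐ_surjective k 𝔞)).mp hj
    have hy := mem_of_mk_mem_nonunits 𝔞 y hx
    rw [Ideal.Quotient.mkₐ_eq_mk, ← map_mul, Ideal.Quotient.eq_zero_iff_mem]
    exact hm (Ideal.mul_mem_mul hy hi)
  · intro htop
    have h1 : (1 : R ⧸ 𝔞) ∈ 𝔧.map (Ideal.Quotient.mkₐ k 𝔞) := by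
      rw [htop]
      trivial
    obtain ⟨i, hi, hi1⟩ :=
      (Ideal.mem_map_iff_of_surjective _ (Ideal.Quotient.mkₐ_surjective k 𝔞)).mp h1
    rw [Ideal.Quotient.mkₐ_eq_mk, ← map_one (Ideal.Quotient.mk 𝔞), Ideal.Quotient.eq] at hi1
    have h2 : i - 1 ∈ maximalIdeal R := h𝔞 hi1
    have h3 : (1 : R) ∈ maximalIdeal R := by
      have h4 := Ideal.sub_mem _ (h𝔧 hi) h2
      rwa [sub_sub_cancel] at h4
    exact (Ideal.ne_top_iff_one _).mp (maximalIdeal.isMaximal R).ne_top h3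

end local_lemmas

lemma lTensor_eq_zero_of_ker_le {k : Type u} [Field k] {V J X Y : Type u} [AddCommGroup V]
    [Module k V] [AddCommGroup J] [Module k J] [AddCommGroup X] [Module k X] [AddCommGroup Y]
    [Module k Y] (g : J →ₗ[k] Y) (f : J →ₗ[k] X) (hg : Function.Surjective g)
    (hle : LinearMap.ker g ≤ LinearMap.ker f) (t : V ⊗[k] J)
    (ht : LinearMap.lTensor V g t = 0) : LinearMap.lTensor V f t = 0 := by
  have hex := lTensor_exact V (LinearMap.exact_subtype_ker_map g) hg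
  obtain ⟨w, rfl⟩ := (hex t).mp ht
  rw [← LinearMap.lTensor_comp_apply]
  have h0 : f ∘ₗ (LinearMap.ker g).subtype = 0 := by
    ext y
    exact LinearMap.mem_ker.mp (hle y.2)
  rw [h0, LinearMap.lTensor_zero, LinearMap.zero_apply]

section kerIdeal

variable {k : Type u} [Field k] {C' : Type u} [CommRing C'] [Algebra k C'] (J : Ideal C')
  (hSE : IsSmallExt k C' J) (φ : ↥J →ₗ[k] k)

/-- the kernel of a functional on `J`, as an ideal of `C'`. -/
def kerIdeal : Ideal C' where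
  carrier := {x | ∃ h : x ∈ J, φ ⟨x, h⟩ = 0}
  zero_mem' := ⟨J.zero_mem, by
    have h0 : (⟨0, J.zero_mem⟩ : ↥J) = 0 := rfl
    rw [h0, map_zero]⟩
  add_mem' := by
    rintro a b ⟨ha, ha'⟩ ⟨hb, hb'⟩
    refine ⟨J.add_mem ha hb, ?_⟩
    have h0 : (⟨a + b, J.add_mem ha hb⟩ : ↥J) = ⟨a, ha⟩ + ⟨b, hb⟩ := rfl
    rw [h0, map_add, ha', hb', add_zero]
  smul_mem' := by
    rintro c x ⟨hx, hx'⟩
    obtain ⟨c₀, hc₀⟩ := hSE.2.2.1 c
    have h0 : (c - algebraMap k C' c₀) * x = 0 := hSE.2.2.2.1 _ _ hc₀ hx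
    have h1 : c • x = algebraMap k C' c₀ * x := by
      rw [smul_eq_mul]
      have h2 : c * x = (c - algebraMap k C' c₀) * x + algebraMap k C' c₀ * x := by ring
      rw [h2, h0, zero_add]
    refine ⟨J.smul_mem c hx, ?_⟩
    have h3 : (⟨c • x, J.smul_mem c hx⟩ : ↥J) = c₀ • (⟨x, hx⟩ : ↥J) := by
      apply Subtype.ext
      show c • x = ((c₀ • (⟨x, hx⟩ : ↥J) : ↥J) : C')
      rw [Submodule.coe_smul_of_tower, h1]
      exact (Algebra.smul_def c₀ x).symm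
    rw [h3, map_smul, hx', smul_zero]

lemma kerIdeal_le : kerIdeal J hSE φ ≤ J := fun _ hx => hx.1

end kerIdeal

section key

variable {k : Type u} [Field k] {P : Type u} [CommRing P] [IsLocalRing P] [Algebra k P]
  (hres : ∀ p : P, ∃ c : k, p - algebraMap k P c ∈ maximalIdeal P)
  (I 𝔟 : Ideal P) (hI : I ≤ maximalIdeal P ^ 2) (h𝔟m : 𝔟 ≤ maximalIdeal P)
  (hmI : maximalIdeal P * I ≤ 𝔟) (hArt : IsArtinianRing (P ⧸ 𝔟))
  {V : Type u} [AddCommGroup V] [Module k V] (T : ObsTheory k (P ⧸ I) V)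

local notation "JJ" => Ideal.map (Ideal.Quotient.mkₐ k 𝔟) I

include hres hI h𝔟m hmI hArt in
lemma hSE : IsSmallExt k (P ⧸ 𝔟) JJ :=
  isSmallExt_quot k hres 𝔟 I h𝔟m (hI.trans (Ideal.pow_le_self two_ne_zero)) hmI hArt

include hres hI h𝔟m hmI hArt in
theorem key (u : (P ⧸ I) →ₐ[k] (P ⧸ 𝔟) ⧸ JJ)
    (hu : ∀ p : P, u (Ideal.Quotient.mk I p) =
      Ideal.Quotient.mk JJ (Ideal.Quotient.mk 𝔟 p))
    (φ : ↥JJ →ₗ[k] k)
    (hφ : LinearMap.lTensor V φ (T.obs (P ⧸ 𝔟) JJ u) = 0) : φ = 0 := by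
  have hse := hSE hres I 𝔟 hI h𝔟m hmI hArt
  by_contra hφ0
  have hKJ := kerIdeal_le JJ hse φ
  have hsurj : Function.Surjective φ := by
    obtain ⟨j, hj⟩ : ∃ j, φ j ≠ 0 := by
      by_contra hall
      push_neg at hall
      exact hφ0 (LinearMap.ext hall)
    intro c
    refine ⟨(c / φ j) • j, ?_⟩
    rw [map_smul, smul_eq_mul, div_mul_cancel₀ _ hj]
  have hker : LinearMap.ker φ ≤ LinearMap.ker (idealToQuot k JJ (kerIdeal JJ hse φ)) := by
    intro j hj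
    rw [LinearMap.mem_ker] at hj ⊢
    apply Subtype.ext
    show Ideal.Quotient.mk (kerIdeal JJ hse φ) (j : P ⧸ 𝔟) = 0
    rw [Ideal.Quotient.eq_zero_iff_mem]
    exact ⟨j.2, hj⟩
  have h1 := T.obs_quot (P ⧸ 𝔟) JJ (kerIdeal JJ hse φ) hse hKJ u
  rw [lTensor_eq_zero_of_ker_le φ _ hsurj hker _ hφ] at h1
  haveI := hse.1
  have hres' : ∀ x : P ⧸ 𝔟, ∃ c : k, x - algebraMap k (P ⧸ 𝔟) c ∈ maximalIdeal (P ⧸ 𝔟) := by
    intro x
    obtain ⟨c, hc⟩ := hse.2.2.1 x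
    exact ⟨c, (mem_maximalIdeal _).mpr hc⟩
  have hJm : JJ ≤ maximalIdeal (P ⧸ 𝔟) := le_maximalIdeal hse.2.2.2.2
  have hmJ : maximalIdeal (P ⧸ 𝔟) * JJ ≤ kerIdeal JJ hse φ := by
    rw [Ideal.mul_le]
    intro x hx j hj
    rw [hse.2.2.2.1 x j ((mem_maximalIdeal _).mp hx) hj]
    exact Ideal.zero_mem _
  have hse' : IsSmallExt k ((P ⧸ 𝔟) ⧸ kerIdeal JJ hse φ)
      (Ideal.map (Ideal.Quotient.mkₐ k (kerIdeal JJ hse φ)) JJ) :=
    isSmallExt_quot k hres' (kerIdeal JJ hse φ) JJ (hKJ.trans hJm) hJm hmJ inferInstance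
  obtain ⟨w, hw⟩ := (T.obs_eq_zero_iff _ _ hse' _).mp h1
  obtain ⟨α, hα⟩ : ∃ α : P →ₐ[k] ((P ⧸ 𝔟) ⧸ kerIdeal JJ hse φ),
      ∀ p, α p = Ideal.Quotient.mk _ (Ideal.Quotient.mk 𝔟 p) :=
    ⟨(Ideal.Quotient.mkₐ k _).comp (Ideal.Quotient.mkₐ k 𝔟), fun _ => rfl⟩
  obtain ⟨β, hβ⟩ : ∃ β : P →ₐ[k] ((P ⧸ 𝔟) ⧸ kerIdeal JJ hse φ),
      ∀ p, β p = w (Ideal.Quotient.mk I p) :=
    ⟨w.comp (Ideal.Quotient.mkₐ k I), fun _ => rfl⟩
  haveI := hse'.1
  have hdiff : ∀ p, α p - β p ∈ Ideal.map (Ideal.Quotient.mkₐ k (kerIdeal JJ hse φ)) JJ := by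
    intro p
    rw [← Ideal.Quotient.eq, hα, hβ]
    have h2 := AlgHom.congr_fun hw (Ideal.Quotient.mk I p)
    simp only [AlgHom.comp_apply, hu] at h2
    exact h2.symm
  have hαm : ∀ p ∈ maximalIdeal P, α p ∈ maximalIdeal ((P ⧸ 𝔟) ⧸ kerIdeal JJ hse φ) := by
    intro p hp
    rw [hα, mem_maximalIdeal]
    apply mk_mem_nonunits _ (hKJ.trans hJm)
    rw [mem_maximalIdeal]
    exact mk_mem_nonunits 𝔟 h𝔟m p hp
  have hJ'm : Ideal.map (Ideal.Quotient.mkₐ k (kerIdeal JJ hse φ)) JJ ≤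
      maximalIdeal ((P ⧸ 𝔟) ⧸ kerIdeal JJ hse φ) := le_maximalIdeal hse'.2.2.2.2
  have hβm : ∀ p ∈ maximalIdeal P, β p ∈ maximalIdeal ((P ⧸ 𝔟) ⧸ kerIdeal JJ hse φ) := by
    intro p hp
    have h2 : β p = α p - (α p - β p) := by ring
    rw [h2]
    exact Ideal.sub_mem _ (hαm p hp) (hJ'm (hdiff p))
  have hmul : ∀ p ∈ maximalIdeal P, ∀ q ∈ maximalIdeal P, α (p * q) = β (p * q) := by
    intro p hp q hq
    have e1 : α p * (α q - β q) = 0 :=
      hse'.2.2.2.1 _ _ ((mem_maximalIdeal _).mp (hαm p hp)) (hdiff q)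
    have e2 : β q * (α p - β p) = 0 :=
      hse'.2.2.2.1 _ _ ((mem_maximalIdeal _).mp (hβm q hq)) (hdiff p)
    rw [map_mul, map_mul]
    have h2 : α p * α q - β p * β q = α p * (α q - β q) + β q * (α p - β p) := by ring
    rw [← sub_eq_zero, h2, e1, e2, add_zero]
  have hI2 : ∀ i ∈ I, α i = β i := by
    intro i hi
    have hi2 : i ∈ maximalIdeal P • maximalIdeal P := by
      rw [smul_eq_mul, ← pow_two]
      exact hI hi
    refine Submodule.smul_induction_on hi2 (fun p hp q hq => ?_) (fun x y hx hy => ?_)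
    · rw [smul_eq_mul]
      exact hmul p hp q hq
    · rw [map_add, map_add, hx, hy]
  apply hφ0
  apply LinearMap.ext
  intro j
  obtain ⟨i, hi, hij⟩ :=
    (Ideal.mem_map_iff_of_surjective _ (Ideal.Quotient.mkₐ_surjective k 𝔟)).mp j.2
  have h3 : α i = 0 := by
    rw [hI2 i hi, hβ, Ideal.Quotient.eq_zero_iff_mem.mpr hi, map_zero]
  rw [hα, Ideal.Quotient.eq_zero_iff_mem] at h3
  obtain ⟨h4, h5⟩ := h3
  rw [LinearMap.zero_apply]
  have h6 : j = ⟨Ideal.Quotient.mk 𝔟 i, h4⟩ := Subtype.ext hij.symm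
  rw [h6]
  exact h5

end key

section main

variable (k : Type u) [Field k] (P : Type u) [CommRing P] [IsLocalRing P] [IsNoetherianRing P]
  [Algebra k P]

theorem spanFinrank_le (hres : Function.Surjective (algebraMap k (IsLocalRing.ResidueField P)))
    (I : Ideal P) (hI : I ≤ maximalIdeal P ^ 2)
    (V : Type u) [AddCommGroup V] [Module k V] [Module.Finite k V]
    (T : ObsTheory k (P ⧸ I) V) : I.spanFinrank ≤ Module.finrank k V := by
  have hres' : ∀ p : P, ∃ c : k, p - algebraMap k P c ∈ maximalIdeal P := by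
    intro p
    obtain ⟨c, hc⟩ := hres (IsLocalRing.residue P p)
    refine ⟨c, ?_⟩
    rw [← IsLocalRing.residue_eq_zero_iff, map_sub, sub_eq_zero, ← hc]
    rfl
  obtain ⟨k₀, hk₀⟩ := Ideal.exists_pow_inf_eq_pow_smul (maximalIdeal P) (I : Submodule P P)
  have hAR : maximalIdeal P ^ (k₀ + 1) ⊓ I ≤ maximalIdeal P * I := by
    have h := hk₀ (k₀ + 1) (Nat.le_succ _)
    rw [Nat.add_sub_cancel_left, pow_one] at h
    intro x hx
    have hx' : x ∈ (maximalIdeal P ^ (k₀ + 1) • ⊤ ⊓ I : Submodule P P) := by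
      refine ⟨?_, hx.2⟩
      rw [smul_eq_mul, Ideal.mul_top]
      exact hx.1
    rw [h] at hx'
    exact Submodule.smul_mono le_rfl inf_le_right hx'
  obtain ⟨𝔟, h𝔟⟩ : ∃ 𝔟 : Ideal P, 𝔟 = maximalIdeal P * I ⊔ maximalIdeal P ^ (k₀ + 1) :=
    ⟨_, rfl⟩
  have h𝔟m : 𝔟 ≤ maximalIdeal P := by
    rw [h𝔟]
    exact sup_le Ideal.mul_le_left (Ideal.pow_le_self (Nat.succ_ne_zero _))
  have hmI : maximalIdeal P * I ≤ 𝔟 := by
    rw [h𝔟]
    exact le_sup_left
  have hpow : maximalIdeal P ^ (k₀ + 1) ≤ 𝔟 := by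
    rw [h𝔟]
    exact le_sup_right
  have hArt : IsArtinianRing (P ⧸ 𝔟) := by
    have hne : 𝔟 ≠ ⊤ := fun h =>
      (maximalIdeal.isMaximal P).ne_top (top_le_iff.mp (h ▸ h𝔟m))
    haveI : Nontrivial (P ⧸ 𝔟) := Ideal.Quotient.nontrivial_iff.mpr hne
    haveI : IsLocalRing (P ⧸ 𝔟) :=
      IsLocalRing.of_surjective' (Ideal.Quotient.mk 𝔟) Ideal.Quotient.mk_surjective
    rw [isArtinianRing_iff_isNilpotent_maximalIdeal]
    refine ⟨k₀ + 1, ?_⟩
    rw [Ideal.zero_eq_bot, eq_bot_iff]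
    have hle : maximalIdeal (P ⧸ 𝔟) ≤ (maximalIdeal P).map (Ideal.Quotient.mk 𝔟) := by
      intro x hx
      obtain ⟨y, rfl⟩ := Ideal.Quotient.mk_surjective x
      exact Ideal.mem_map_of_mem _ (mem_of_mk_mem_nonunits 𝔟 y ((mem_maximalIdeal _).mp hx))
    calc maximalIdeal (P ⧸ 𝔟) ^ (k₀ + 1)
        ≤ ((maximalIdeal P).map (Ideal.Quotient.mk 𝔟)) ^ (k₀ + 1) := Ideal.pow_right_mono hle _
      _ = (maximalIdeal P ^ (k₀ + 1)).map (Ideal.Quotient.mk 𝔟) := (Ideal.map_pow _ _ _).symm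
      _ ≤ ⊥ := by
        rw [Ideal.map_le_iff_le_comap]
        intro x hx
        rw [Ideal.mem_comap, Ideal.mem_bot, Ideal.Quotient.eq_zero_iff_mem]
        exact hpow hx
  obtain ⟨u, hu⟩ : ∃ u : (P ⧸ I) →ₐ[k] (P ⧸ 𝔟) ⧸ I.map (Ideal.Quotient.mkₐ k 𝔟),
      ∀ p : P, u (Ideal.Quotient.mk I p) =
        Ideal.Quotient.mk (I.map (Ideal.Quotient.mkₐ k 𝔟)) (Ideal.Quotient.mk 𝔟 p) := by
    refine ⟨Ideal.Quotient.liftₐ I ((Ideal.Quotient.mkₐ k _).comp (Ideal.Quotient.mkₐ k 𝔟)) ?_,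
      fun p => rfl⟩
    intro a ha
    rw [AlgHom.comp_apply, Ideal.Quotient.mkₐ_eq_mk, Ideal.Quotient.eq_zero_iff_mem]
    exact Ideal.mem_map_of_mem _ ha
  have hkey := key hres' I 𝔟 hI h𝔟m hmI hArt T u hu
  obtain ⟨c, hc⟩ := TensorProduct.eq_repr_basis_left (Module.finBasis k V)
    (T.obs (P ⧸ 𝔟) (I.map (Ideal.Quotient.mkₐ k 𝔟)) u)
  have htop : Submodule.span k (Set.range c) = ⊤ := by
    by_contra hne
    obtain ⟨φ, hφ0, hle⟩ := Submodule.exists_le_ker_of_lt_top _ (lt_top_iff_ne_top.mpr hne)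
    apply hφ0
    apply hkey φ
    rw [← hc, Finsupp.sum, map_sum]
    apply Finset.sum_eq_zero
    intro a _
    rw [LinearMap.lTensor_tmul]
    have h0 : φ (c a) = 0 := LinearMap.mem_ker.mp (hle (Submodule.subset_span ⟨a, rfl⟩))
    rw [h0, TensorProduct.tmul_zero]
  have hlift : ∀ a, ∃ x ∈ I, Ideal.Quotient.mk 𝔟 x = (c a : P ⧸ 𝔟) := fun a => by
    obtain ⟨x, hx, hxa⟩ :=
      (Ideal.mem_map_iff_of_surjective _ (Ideal.Quotient.mkₐ_surjective k 𝔟)).mp (c a).2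
    exact ⟨x, hx, hxa⟩
  choose x hxI hxc using hlift
  have hNak : I ≤ Ideal.span (Set.range x) := by
    apply Submodule.le_of_le_smul_of_le_jacobson_bot (IsNoetherian.noetherian I)
      (I := maximalIdeal P)
    · rw [IsLocalRing.jacobson_eq_maximalIdeal ⊥ bot_ne_top]
    · intro i hi
      have hmem : (⟨Ideal.Quotient.mk 𝔟 i, Ideal.mem_map_of_mem _ hi⟩ :
          ↥(I.map (Ideal.Quotient.mkₐ k 𝔟))) ∈ Submodule.span k (Set.range c) := by
        rw [htop]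
        trivial
      obtain ⟨r, hr⟩ := (Submodule.mem_span_range_iff_exists_fun k).mp hmem
      have hr' := congrArg Subtype.val hr
      rw [AddSubmonoidClass.coe_finsetSum] at hr'
      simp only [Submodule.coe_smul_of_tower] at hr'
      have hsum : Ideal.Quotient.mk 𝔟 (∑ a, algebraMap k P (r a) * x a) =
          ∑ a, r a • (c a : P ⧸ 𝔟) := by
        rw [map_sum]
        refine Finset.sum_congr rfl (fun a _ => ?_)
        rw [map_mul, hxc, Algebra.smul_def]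
        rfl
      have he : i - ∑ a, algebraMap k P (r a) * x a ∈ 𝔟 := by
        rw [← Ideal.Quotient.eq_zero_iff_mem, map_sub, hsum, hr', sub_self]
      have heI : i - ∑ a, algebraMap k P (r a) * x a ∈ I :=
        I.sub_mem hi (I.sum_mem fun a _ => I.mul_mem_left _ (hxI a))
      have hemI : i - ∑ a, algebraMap k P (r a) * x a ∈ maximalIdeal P * I := by
        rw [h𝔟] at he
        obtain ⟨e₁, he₁, e₂, he₂, hee⟩ := Submodule.mem_sup.mp he
        have he₂I : e₂ ∈ I := by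
          have h7 : e₂ = (i - ∑ a, algebraMap k P (r a) * x a) - e₁ := by
            rw [← hee]
            ring
          rw [h7]
          exact I.sub_mem heI (Ideal.mul_le_right he₁)
        rw [← hee]
        exact Ideal.add_mem _ he₁ (hAR ⟨he₂, he₂I⟩)
      have h8 : i = ∑ a, algebraMap k P (r a) * x a +
          (i - ∑ a, algebraMap k P (r a) * x a) := by ring
      rw [h8]
      refine Submodule.add_mem_sup ?_ hemI
      exact Submodule.sum_mem _ fun a _ =>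
        Ideal.mul_mem_left _ _ (Ideal.subset_span ⟨a, rfl⟩)
  have hle : Ideal.span (Set.range x) ≤ I := Ideal.span_le.mpr (by
    rintro _ ⟨a, rfl⟩
    exact hxI a)
  have heq : I = Ideal.span (Set.range x) := le_antisymm hNak hle
  rw [heq]
  calc (Ideal.span (Set.range x)).spanFinrank ≤ (Set.range x).ncard :=
        Submodule.spanFinrank_span_le_ncard_of_finite (Set.finite_range x)
    _ ≤ Module.finrank k V := by
      have h9 := Set.ncard_image_le (f := x) (s := Set.univ) Set.finite_univ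
      rw [Set.image_univ, Set.ncard_univ] at h9
      simpa using h9

theorem dim_bound (hres : Function.Surjective (algebraMap k (IsLocalRing.ResidueField P)))
    (I : Ideal P) (hI : I ≤ maximalIdeal P ^ 2)
    (V : Type u) [AddCommGroup V] [Module k V] [Module.Finite k V]
    (T : ObsTheory k (P ⧸ I) V) :
    ringKrullDim P ≤ ringKrullDim (P ⧸ I) + (Module.finrank k V : WithBot ℕ∞) ∧
      (ringKrullDim (P ⧸ I) + (Module.finrank k V : WithBot ℕ∞) = ringKrullDim P →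
        ∃ s : Finset P, Ideal.span (s : Set P) = I ∧
          ringKrullDim (P ⧸ I) + (s.card : WithBot ℕ∞) = ringKrullDim P) := by
  have h1 := spanFinrank_le k P hres I hI V T
  have hIj : I ≤ Ring.jacobson P := by
    rw [IsLocalRing.ringJacobson_eq_maximalIdeal]
    exact hI.trans (Ideal.pow_le_self two_ne_zero)
  have h2 := ringKrullDim_le_ringKrullDim_quotient_add_spanFinrank I hIj
  have h3 : ringKrullDim (P ⧸ I) + (I.spanFinrank : WithBot ℕ∞) ≤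
      ringKrullDim (P ⧸ I) + (Module.finrank k V : WithBot ℕ∞) :=
    add_le_add le_rfl (by exact_mod_cast h1)
  constructor
  · exact h2.trans h3
  · intro heq
    obtain ⟨s, hs1, hs2⟩ :=
      Submodule.FG.exists_span_finset_card_eq_spanFinrank (IsNoetherian.noetherian I)
    refine ⟨s, hs2, ?_⟩
    rw [hs1]
    apply le_antisymm
    · rw [← heq]
      exact h3
    · exact h2

end main

end Groth.Agent.Lib.ObsBoundH4
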