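import Mathlib
import Groth.Agent.Lib.ObsT2b_helper3

/-!
# The obstruction cocycle: abstract two-ring lemma (helper3)

`ρ : S → R₀` a surjection of rings with kernel `𝔨`, `t : τ → S` a finite family in `𝔨` with `𝔨 t_a = 0`
which is "free modulo `𝔨`" (`Σ z_a t_a = 0 ⇒ z_a ∈ 𝔨`), `F : σ → S` lifting `f : σ → R₀`, and
`β₀ : R₀ → Q` an `R₀`-linear map killing the `f_s`.  Under the two flatness-type hypotheses `H1`, `H2`
there is a unique `R₀`-linear map `cocycle : ker (ev f) → (τ → Q)` with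
`ev F r = Σ z_a t_a ⇒ cocycle (ρ r) = (β₀ (ρ z_a))_a`.  We record its behaviour under change of `F` by
multiples of the `t_a`, its vanishing when relations lift, the correction of `F` when it is a
coboundary, and its functoriality.
-/

set_option autoImplicit false
set_option linter.unusedSectionVars false

namespace Groth.Agent.Lib.ObsGenH3

open Finsupp
open Groth.Agent.Lib.ObsT2H3 (qσ qσ_apply qσ_smul qσ_surjective ev_qσ exists_linearMap_of_rel)

section Abstract

variable {S R₀ : Type*} [CommRing S] [CommRing R₀] (ρ : S →+* R₀)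
  {σ τ : Type*} [Fintype τ] (f : σ → R₀) (F : σ → S) (t : τ → S)
  {Q : Type*} [AddCommGroup Q] [Module R₀ Q] (β₀ : R₀ →ₗ[R₀] Q)

/-- relations modulo the ideal spanned by `t` -/
noncomputable def RelB : Submodule S (σ →₀ S) :=
  Submodule.comap (linearCombination S F) (Ideal.span (Set.range t))

/-- the value relation -/
def IsVal (r : σ →₀ S) (v : τ → Q) : Prop :=
  ∃ z : τ → S, linearCombination S F r = ∑ a, z a * t a ∧ v = fun a => β₀ (ρ (z a))

/-- the hypotheses of the abstract lemma -/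
structure Hyp : Prop where
  hρ : Function.Surjective ρ
  hF : ∀ s, ρ (F s) = f s
  t_mem : ∀ a, ρ (t a) = 0
  ann : ∀ (a : τ) (x : S), ρ x = 0 → x * t a = 0
  indep : ∀ z : τ → S, ∑ a, z a * t a = 0 → ∀ a, ρ (z a) = 0
  β_rel : ∀ s, β₀ (f s) = 0
  H1 : ∀ r : σ →₀ S, ρ (linearCombination S F r) = 0 →
    ∃ r' : σ →₀ S, qσ ρ r' = qσ ρ r ∧ linearCombination S F r' ∈ Ideal.span (Set.range t)
  H2 : ∀ r : σ →₀ S, linearCombination S F r ∈ Ideal.span (Set.range t) → qσ ρ r = 0 →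
    r ∈ RingHom.ker ρ • RelB F t ⊔ Ideal.span (Set.range t) • (⊤ : Submodule S (σ →₀ S))

variable {ρ f F t β₀}

theorem ev_f_qσ (hF : ∀ s, ρ (F s) = f s) (r : σ →₀ S) :
    linearCombination R₀ f (qσ ρ r) = ρ (linearCombination S F r) := by
  rw [← ev_qσ]
  have : (fun s => ρ (F s)) = f := funext hF
  rw [this]

theorem β₀_ev (hβ : ∀ s, β₀ (f s) = 0) (κ : σ →₀ R₀) : β₀ (linearCombination R₀ f κ) = 0 := by
  rw [Finsupp.linearCombination_apply, Finsupp.sum, map_sum]
  refine Finset.sum_eq_zero fun s _ => ?_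
  rw [map_smul, hβ, smul_zero]

theorem β₀_ρ_lc (g : σ → S) (r : σ →₀ S) :
    β₀ (ρ (linearCombination S g r)) =
      linearCombination R₀ (fun s => β₀ (ρ (g s))) (qσ ρ r) := by
  induction r using Finsupp.induction_linear with
  | zero => simp
  | add x y hx hy => rw [map_add, map_add, map_add, map_add, map_add, hx, hy]
  | single s a =>
    have : qσ ρ (Finsupp.single s a) = Finsupp.single s (ρ a) := by
      ext s'
      rw [qσ_apply]
      by_cases h : s = s'
      · subst h; simp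
      · simp [h]
    rw [this, Finsupp.linearCombination_single, Finsupp.linearCombination_single, smul_eq_mul,
      map_mul, ← smul_eq_mul, map_smul]

theorem lc_sub_sum (g : τ → σ → S) (r : σ →₀ S) :
    linearCombination S (fun s => F s - ∑ a, g a s * t a) r =
      linearCombination S F r - ∑ a, linearCombination S (g a) r * t a := by
  induction r using Finsupp.induction_linear with
  | zero => simp
  | add x y hx hy =>
    rw [map_add, map_add, hx, hy]
    have : ∀ a, linearCombination S (g a) (x + y) * t a =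
        linearCombination S (g a) x * t a + linearCombination S (g a) y * t a := by
      intro a
      rw [map_add, add_mul]
    simp only [this, Finset.sum_add_distrib]
    ring
  | single s a =>
    simp only [Finsupp.linearCombination_single, smul_eq_mul]
    rw [mul_sub, Finset.mul_sum]
    congr 1
    refine Finset.sum_congr rfl fun b _ => ?_
    ring

namespace IsVal

theorem mem_span {r : σ →₀ S} {v : τ → Q} (h : IsVal ρ F t β₀ r v) :
    linearCombination S F r ∈ Ideal.span (Set.range t) := by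
  obtain ⟨z, hz, -⟩ := h
  rw [hz]
  exact Ideal.mem_span_range_iff_exists_fun.2 ⟨z, rfl⟩

theorem uniq (hy : Hyp ρ f F t β₀) {r : σ →₀ S} {v v' : τ → Q}
    (h : IsVal ρ F t β₀ r v) (h' : IsVal ρ F t β₀ r v') : v = v' := by
  obtain ⟨z, hz, rfl⟩ := h
  obtain ⟨z', hz', rfl⟩ := h'
  funext a
  have h0 : ∑ a, (z a - z' a) * t a = 0 := by
    simp only [sub_mul, Finset.sum_sub_distrib]
    rw [← hz, ← hz', sub_self]
  have := hy.indep _ h0 a
  rw [map_sub, sub_eq_zero] at this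
  rw [this]

theorem add {r r' : σ →₀ S} {v v' : τ → Q}
    (h : IsVal ρ F t β₀ r v) (h' : IsVal ρ F t β₀ r' v') :
    IsVal ρ F t β₀ (r + r') (v + v') := by
  obtain ⟨z, hz, rfl⟩ := h
  obtain ⟨z', hz', rfl⟩ := h'
  refine ⟨z + z', ?_, ?_⟩
  · rw [map_add, hz, hz', ← Finset.sum_add_distrib]
    exact Finset.sum_congr rfl fun a _ => by rw [Pi.add_apply, add_mul]
  · funext a
    simp only [Pi.add_apply, map_add]

theorem smul (x : S) {r : σ →₀ S} {v : τ → Q} (h : IsVal ρ F t β₀ r v) :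
    IsVal ρ F t β₀ (x • r) (ρ x • v) := by
  obtain ⟨z, hz, rfl⟩ := h
  refine ⟨fun a => x * z a, ?_, ?_⟩
  · rw [map_smul, hz, smul_eq_mul, Finset.mul_sum]
    exact Finset.sum_congr rfl fun a _ => by rw [mul_assoc]
  · funext a
    rw [Pi.smul_apply, map_mul, ← smul_eq_mul, map_smul]

theorem neg {r : σ →₀ S} {v : τ → Q} (h : IsVal ρ F t β₀ r v) :
    IsVal ρ F t β₀ (-r) (-v) := by
  obtain ⟨z, hz, rfl⟩ := h
  refine ⟨fun a => -z a, ?_, ?_⟩
  · rw [map_neg, hz, ← Finset.sum_neg_distrib]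
    exact Finset.sum_congr rfl fun a _ => by rw [neg_mul]
  · funext a
    simp only [Pi.neg_apply, map_neg]

theorem sub {r r' : σ →₀ S} {v v' : τ → Q}
    (h : IsVal ρ F t β₀ r v) (h' : IsVal ρ F t β₀ r' v') :
    IsVal ρ F t β₀ (r - r') (v - v') := by
  rw [sub_eq_add_neg, sub_eq_add_neg]
  exact h.add h'.neg

end IsVal

theorem isVal_zero {r : σ →₀ S} (h : linearCombination S F r = 0) :
    IsVal ρ F t β₀ r 0 := by
  refine ⟨0, ?_, ?_⟩
  · rw [h]
    simp
  · funext a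
    simp

theorem exists_isVal_of_mem {r : σ →₀ S}
    (h : linearCombination S F r ∈ Ideal.span (Set.range t)) : ∃ v, IsVal ρ F t β₀ r v := by
  obtain ⟨z, hz⟩ := Ideal.mem_span_range_iff_exists_fun.1 h
  exact ⟨_, z, hz.symm, rfl⟩

variable (ρ F t β₀) in
/-- the submodule of vectors with value zero -/
def N0 : Submodule S (σ →₀ S) where
  carrier := {r | IsVal ρ F t β₀ r 0}
  add_mem' := by
    intro a b ha hb
    have := IsVal.add ha hb
    rwa [add_zero] at this
  zero_mem' := isVal_zero (map_zero _)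
  smul_mem' := by
    intro c x hx
    have := IsVal.smul c hx
    rwa [smul_zero] at this

theorem le_N0 (hy : Hyp ρ f F t β₀) :
    RingHom.ker ρ • RelB F t ⊔ Ideal.span (Set.range t) • (⊤ : Submodule S (σ →₀ S)) ≤
      N0 ρ F t β₀ := by
  refine sup_le ?_ ?_
  · rw [Submodule.smul_le]
    intro x hx r hr
    obtain ⟨z, hz⟩ := Ideal.mem_span_range_iff_exists_fun.1 hr
    apply isVal_zero
    rw [map_smul, ← hz, smul_eq_mul, Finset.mul_sum]
    refine Finset.sum_eq_zero fun a _ => ?_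
    rw [mul_left_comm, hy.ann a x hx, mul_zero]
  · rw [Submodule.smul_le]
    intro j hj r _
    obtain ⟨w, hw⟩ := Ideal.mem_span_range_iff_exists_fun.1 hj
    refine ⟨fun a => w a * linearCombination S F r, ?_, ?_⟩
    · rw [map_smul, ← hw, smul_eq_mul, Finset.sum_mul]
      exact Finset.sum_congr rfl fun a _ => by ring
    · funext a
      show (0 : Q) = β₀ (ρ (w a * linearCombination S F r))
      rw [map_mul, ← ev_f_qσ hy.hF, ← smul_eq_mul, map_smul, β₀_ev hy.β_rel, smul_zero]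

theorem qσ_mem_ker (hy : Hyp ρ f F t β₀) {r : σ →₀ S}
    (h : linearCombination S F r ∈ Ideal.span (Set.range t)) :
    qσ ρ r ∈ LinearMap.ker (linearCombination R₀ f) := by
  obtain ⟨z, hz⟩ := Ideal.mem_span_range_iff_exists_fun.1 h
  rw [LinearMap.mem_ker, ev_f_qσ hy.hF, ← hz, map_sum]
  refine Finset.sum_eq_zero fun a _ => ?_
  rw [map_mul, hy.t_mem, mul_zero]

theorem exists_rep (hy : Hyp ρ f F t β₀) (κ : σ →₀ R₀)
    (hκ : κ ∈ LinearMap.ker (linearCombination R₀ f)) :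
    ∃ (r : σ →₀ S) (v : τ → Q), qσ ρ r = κ ∧ IsVal ρ F t β₀ r v := by
  obtain ⟨r₀, rfl⟩ := qσ_surjective (σ := σ) ρ hy.hρ κ
  have h0 : ρ (linearCombination S F r₀) = 0 := by
    rw [← ev_f_qσ hy.hF]
    exact hκ
  obtain ⟨r', hr', hmem⟩ := hy.H1 r₀ h0
  obtain ⟨v, hv⟩ := exists_isVal_of_mem (ρ := ρ) (β₀ := β₀) hmem
  exact ⟨r', v, hr', hv⟩

theorem isVal_unique (hy : Hyp ρ f F t β₀) {r r' : σ →₀ S} {v v' : τ → Q}
    (hq : qσ ρ r = qσ ρ r') (h : IsVal ρ F t β₀ r v) (h' : IsVal ρ F t β₀ r' v') : v = v' := by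
  have h1 : linearCombination S F (r - r') ∈ Ideal.span (Set.range t) := by
    rw [map_sub]
    exact Ideal.sub_mem _ h.mem_span h'.mem_span
  have h2 : qσ ρ (r - r') = 0 := by rw [map_sub, hq, sub_self]
  have h3 : IsVal ρ F t β₀ (r - r') 0 := le_N0 hy (hy.H2 _ h1 h2)
  have h4 := IsVal.uniq hy (h.sub h') h3
  exact sub_eq_zero.1 h4

theorem exists_cocycle (hy : Hyp ρ f F t β₀) :
    ∃ h : LinearMap.ker (linearCombination R₀ f) →ₗ[R₀] (τ → Q),
      ∀ (r : σ →₀ S) (v : τ → Q), IsVal ρ F t β₀ r v →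
        ∀ hr : qσ ρ r ∈ LinearMap.ker (linearCombination R₀ f), h ⟨qσ ρ r, hr⟩ = v := by
  let Rl : (σ →₀ R₀) → (τ → Q) → Prop := fun κ v =>
    ∃ r : σ →₀ S, qσ ρ r = κ ∧ IsVal ρ F t β₀ r v
  have Rl_uniq : ∀ κ v v', Rl κ v → Rl κ v' → v = v' := by
    rintro κ v v' ⟨r, hr, hv⟩ ⟨r', hr', hv'⟩
    exact isVal_unique hy (hr.trans hr'.symm) hv hv'
  obtain ⟨h, hh⟩ := exists_linearMap_of_rel (S := R₀)
    (LinearMap.ker (linearCombination R₀ f)) Rl
    (by
      intro κ hκ
      obtain ⟨r, v, hr, hv⟩ := exists_rep hy κ hκ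
      exact ⟨v, r, hr, hv⟩)
    Rl_uniq
    (by
      rintro κ κ' v v' ⟨r, hr, hv⟩ ⟨r', hr', hv'⟩
      exact ⟨r + r', by rw [map_add, hr, hr'], hv.add hv'⟩)
    (by
      rintro a₀ κ v ⟨r, hr, hv⟩
      obtain ⟨a, rfl⟩ := hy.hρ a₀
      exact ⟨a • r, by rw [qσ_smul, hr], hv.smul a⟩)
  refine ⟨h, fun r v hv hr => ?_⟩
  exact Rl_uniq _ _ _ (hh ⟨qσ ρ r, hr⟩) ⟨r, rfl, hv⟩

/-- the obstruction cocycle -/
noncomputable def cocycle (hy : Hyp ρ f F t β₀) :
    LinearMap.ker (linearCombination R₀ f) →ₗ[R₀] (τ → Q) :=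
  (exists_cocycle hy).choose

theorem cocycle_spec (hy : Hyp ρ f F t β₀) {r : σ →₀ S} {v : τ → Q}
    (hv : IsVal ρ F t β₀ r v) (hr : qσ ρ r ∈ LinearMap.ker (linearCombination R₀ f)) :
    cocycle hy ⟨qσ ρ r, hr⟩ = v :=
  (exists_cocycle hy).choose_spec r v hv hr

theorem cocycle_spec' (hy : Hyp ρ f F t β₀) (κ : LinearMap.ker (linearCombination R₀ f))
    {r : σ →₀ S} {v : τ → Q} (hq : qσ ρ r = κ) (hv : IsVal ρ F t β₀ r v) :
    cocycle hy κ = v := by
  obtain ⟨κ, hκ⟩ := κ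
  subst hq
  exact cocycle_spec hy hv hκ

/-- the cocycle kills the Koszul relations -/
theorem cocycle_koszul (hy : Hyp ρ f F t β₀) (a b : σ →₀ R₀)
    (hκ : linearCombination R₀ f a • b - linearCombination R₀ f b • a ∈
      LinearMap.ker (linearCombination R₀ f)) :
    cocycle hy ⟨_, hκ⟩ = 0 := by
  obtain ⟨a', rfl⟩ := qσ_surjective (σ := σ) ρ hy.hρ a
  obtain ⟨b', rfl⟩ := qσ_surjective (σ := σ) ρ hy.hρ b
  have hr0 : linearCombination S F
      (linearCombination S F a' • b' - linearCombination S F b' • a') = 0 := by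
    rw [map_sub, map_smul, map_smul, smul_eq_mul, smul_eq_mul, mul_comm, sub_self]
  have hq : qσ ρ (linearCombination S F a' • b' - linearCombination S F b' • a') =
      linearCombination R₀ f (qσ ρ a') • qσ ρ b' - linearCombination R₀ f (qσ ρ b') • qσ ρ a' := by
    rw [map_sub, qσ_smul, qσ_smul, ev_f_qσ hy.hF, ev_f_qσ hy.hF]
  exact cocycle_spec' hy ⟨_, hκ⟩ hq (isVal_zero hr0)

/-- the cocycle vanishes when relations lift -/
theorem cocycle_eq_zero_of_lift (hy : Hyp ρ f F t β₀)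
    (hl : ∀ r : σ →₀ S, linearCombination S F r ∈ Ideal.span (Set.range t) →
      ∃ r' : σ →₀ S, linearCombination S F r' = 0 ∧ qσ ρ r' = qσ ρ r) :
    cocycle hy = 0 := by
  apply LinearMap.ext
  intro κ
  obtain ⟨r, v, hr, hv⟩ := exists_rep hy κ.1 κ.2
  obtain ⟨r', hr'0, hr'q⟩ := hl r hv.mem_span
  exact cocycle_spec' hy κ (hr'q.trans hr) (isVal_zero hr'0)

/-- change of the lift `F` by multiples of the `t_a` -/
theorem cocycle_change (hy : Hyp ρ f F t β₀) (g : τ → σ → S)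
    (hy' : Hyp ρ f (fun s => F s - ∑ a, g a s * t a) t β₀)
    (κ : LinearMap.ker (linearCombination R₀ f)) (a : τ) :
    cocycle hy' κ a =
      cocycle hy κ a - linearCombination R₀ (fun s => β₀ (ρ (g a s))) (κ : σ →₀ R₀) := by
  obtain ⟨r, v, hr, hv⟩ := exists_rep hy κ.1 κ.2
  obtain ⟨z, hz, rfl⟩ := hv
  have h1 : cocycle hy κ = fun a => β₀ (ρ (z a)) := cocycle_spec' hy κ hr ⟨z, hz, rfl⟩
  have h2 : IsVal ρ (fun s => F s - ∑ a, g a s * t a) t β₀ r
      (fun a => β₀ (ρ (z a - linearCombination S (g a) r))) := by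
    refine ⟨fun a => z a - linearCombination S (g a) r, ?_, rfl⟩
    rw [lc_sub_sum, hz, ← Finset.sum_sub_distrib]
    exact Finset.sum_congr rfl fun a _ => by rw [sub_mul]
  have h3 := cocycle_spec' hy' κ hr h2
  rw [h3, h1]
  show β₀ (ρ (z a - linearCombination S (g a) r)) = _
  rw [map_sub, map_sub, β₀_ρ_lc, hr]

/-- if the cocycle is a coboundary, the lift can be corrected -/
theorem exists_correction (hy : Hyp ρ f F t β₀) (hβs : Function.Surjective β₀)
    (hc : ∀ a, ∃ c : σ → Q, ∀ κ : LinearMap.ker (linearCombination R₀ f),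
      cocycle hy κ a = linearCombination R₀ c (κ : σ →₀ R₀)) :
    ∃ g : τ → σ → S, ∀ z : τ → S,
      ∑ a, z a * t a ∈ Ideal.span (Set.range fun s => F s - ∑ a, g a s * t a) →
        ∀ a, β₀ (ρ (z a)) = 0 := by
  choose c hc using hc
  have hsurj : ∀ q : Q, ∃ x : S, β₀ (ρ x) = q := by
    intro q
    obtain ⟨y, rfl⟩ := hβs q
    obtain ⟨x, rfl⟩ := hy.hρ y
    exact ⟨x, rfl⟩
  choose g hg using fun (a : τ) (s : σ) => hsurj (c a s)
  refine ⟨g, fun z hz a => ?_⟩
  rw [Ideal.span, ← Finsupp.range_linearCombination] at hz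
  obtain ⟨r, hr⟩ := hz
  rw [lc_sub_sum] at hr
  have hev : linearCombination S F r = ∑ a, (z a + linearCombination S (g a) r) * t a := by
    have : linearCombination S F r =
        ∑ a, z a * t a + ∑ a, linearCombination S (g a) r * t a := by
      rw [← hr]; ring
    rw [this, ← Finset.sum_add_distrib]
    exact Finset.sum_congr rfl fun a _ => by rw [add_mul]
  have hv : IsVal ρ F t β₀ r (fun a => β₀ (ρ (z a + linearCombination S (g a) r))) :=
    ⟨_, hev, rfl⟩
  have hmem : qσ ρ r ∈ LinearMap.ker (linearCombination R₀ f) := qσ_mem_ker hy hv.mem_span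
  have h1 := cocycle_spec hy hv hmem
  have h2 := congrFun h1 a
  rw [hc a] at h2
  simp only at h2
  rw [map_add, map_add, β₀_ρ_lc] at h2
  have hgc : (fun s => β₀ (ρ (g a s))) = c a := funext fun s => hg a s
  rw [hgc] at h2
  have h3 : β₀ (ρ (z a)) + linearCombination R₀ (c a) (qσ ρ r) =
      linearCombination R₀ (c a) (qσ ρ r) := h2.symm
  exact add_eq_right.1 h3

end Abstract

section Functorial

variable {S S' R₀ : Type*} [CommRing S] [CommRing S'] [CommRing R₀] {ρ : S →+* R₀}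
  {ρ' : S' →+* R₀} {σ τ τ' : Type*} [Fintype τ] [Fintype τ'] {f : σ → R₀} {F : σ → S}
  {t : τ → S} {t' : τ' → S'}
  {Q : Type*} [AddCommGroup Q] [Module R₀ Q] {β₀ : R₀ →ₗ[R₀] Q}

/-- functoriality of the cocycle -/
theorem cocycle_functorial (hy : Hyp ρ f F t β₀) (Ψ : S →+* S') (hΨ : ∀ x, ρ' (Ψ x) = ρ x)
    (hy' : Hyp ρ' f (fun s => Ψ (F s)) t' β₀)
    (M : τ → τ' → S') (m : τ → τ' → R₀) (hM : ∀ a, Ψ (t a) = ∑ b, M a b * t' b)
    (hm : ∀ a b, ρ' (M a b) = m a b)
    (κ : LinearMap.ker (linearCombination R₀ f)) (b : τ') :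
    cocycle hy' κ b = ∑ a, m a b • cocycle hy κ a := by
  obtain ⟨r, v, hr, hv⟩ := exists_rep hy κ.1 κ.2
  obtain ⟨z, hz, rfl⟩ := hv
  have h1 : cocycle hy κ = fun a => β₀ (ρ (z a)) := cocycle_spec' hy κ hr ⟨z, hz, rfl⟩
  have hq : qσ ρ' (qσ Ψ r) = κ := by
    rw [← hr]
    ext s
    rw [qσ_apply, qσ_apply, qσ_apply, hΨ]
  have hev : linearCombination S' (fun s => Ψ (F s)) (qσ Ψ r) =
      ∑ b, (∑ a, Ψ (z a) * M a b) * t' b := by
    rw [ev_qσ, hz, map_sum]
    have : ∀ a, Ψ (z a * t a) = ∑ b, Ψ (z a) * M a b * t' b := by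
      intro a
      rw [map_mul, hM, Finset.mul_sum]
      exact Finset.sum_congr rfl fun b _ => by rw [mul_assoc]
    simp only [this]
    rw [Finset.sum_comm]
    exact Finset.sum_congr rfl fun b _ => by rw [Finset.sum_mul]
  have h2 := cocycle_spec' hy' κ hq ⟨_, hev, rfl⟩
  rw [h2, h1]
  show β₀ (ρ' (∑ a, Ψ (z a) * M a b)) = ∑ a, m a b • β₀ (ρ (z a))
  rw [map_sum, map_sum]
  refine Finset.sum_congr rfl fun a _ => ?_
  rw [map_mul, hΨ, hm, mul_comm, ← smul_eq_mul, map_smul]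

end Functorial

end Groth.Agent.Lib.ObsGenH3
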