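import Mathlib
import Groth.Prelude.Def_CotT
import Groth.Agent.Lib.ObsGenA_helper3
import Groth.Agent.Lib.ObsT2e_helper3

/-!
# The hypotheses of the abstract obstruction lemma for polynomial rings over a semismall extension (helper3)
-/

set_option autoImplicit false
set_option linter.unusedSectionVars false
set_option linter.style.haveILetI false

universe u

namespace Groth.Agent.Lib.ObsGenH3

open MvPolynomial Finsupp CotT
open Groth.Agent.Lib.ObsT2H3 (qσ qσ_apply qσ_smul qσ_surjective ev_qσ flat_R1 flat_R2
  coords_le_smul_top)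

section Concrete

variable {k : Type u} [Field k] {B₀ : Type u} [CommRing B₀] [Algebra k B₀] {ι σ : Type u}
  (P : Algebra.Presentation k B₀ ι σ)
  {A' A : Type u} [CommRing A'] [CommRing A]
  (res' : A' →+* k) (res : A →+* k) (p : A' →+* A) (hres : ∀ a, res (p a) = res' a)
  (hsres : Function.Surjective res) (hp : Function.Surjective p)
  {T : Type*} [Fintype T]
  (τ : T → A') (hτker : RingHom.ker p = Ideal.span (Set.range τ))
  (hτann : ∀ a x, res' x = 0 → x * τ a = 0)
  (hτind : ∀ c : T → A', ∑ a, c a * τ a = 0 → ∀ a, res' (c a) = 0)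

include hτker in
theorem ker_map_eq_span :
    RingHom.ker (map p : MvPolynomial ι A' →+* MvPolynomial ι A) =
      Ideal.span (Set.range fun a => (C (τ a) : MvPolynomial ι A')) := by
  rw [ker_map, hτker, Ideal.map_span, ← Set.range_comp]
  rfl

include hres in
theorem map_res_map_p (x : MvPolynomial ι A') : map res (map p x) = map res' x := by
  rw [MvPolynomial.map_map]
  have : res.comp p = res' := RingHom.ext fun a => hres a
  rw [this]

include hres hτker in
theorem res'_τ (a : T) : res' (τ a) = 0 := by
  have : τ a ∈ RingHom.ker p := by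
    rw [hτker]; exact Ideal.subset_span ⟨a, rfl⟩
  rw [← hres, (RingHom.mem_ker).1 this, map_zero]

include hτann in
theorem ann_C (a : T) (x : MvPolynomial ι A') (hx : map res' x = 0) :
    x * C (τ a) = 0 := by
  apply MvPolynomial.ext
  intro m
  rw [mul_comm, coeff_C_mul, coeff_zero, mul_comm]
  apply hτann
  rw [← coeff_map, hx, coeff_zero]

include hτind in
theorem indep_C (z : T → MvPolynomial ι A') (hz : ∑ a, z a * C (τ a) = 0) (a : T) :
    map res' (z a) = 0 := by
  apply MvPolynomial.ext
  intro m
  rw [coeff_map, coeff_zero]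
  apply hτind (fun a => coeff m (z a))
  have := congrArg (coeff m) hz
  rw [coeff_sum, coeff_zero] at this
  rw [← this]
  exact Finset.sum_congr rfl fun a _ => by rw [mul_comm (z a), coeff_C_mul, mul_comm]

variable (E : Type u) [CommRing E] (γ : A →+* E) (hflat : γ.Flat) (b : ι → E)
  (FA : σ → MvPolynomial ι A) (hφs : Function.Surjective (eval₂Hom γ b))
  (hFArel : ∀ s, map res (FA s) = P.relation s)
  (hFAgen : Ideal.span (Set.range FA) = RingHom.ker (eval₂Hom γ b))
  (F' : σ → MvPolynomial ι A') (hF' : ∀ s, map p (F' s) = FA s)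

include hres hsres hp hτker hτann hτind hflat hφs hFArel hFAgen hF' in
theorem hyp_concrete :
    Hyp (R₀ := P.toExtension.Ring) (map res' : MvPolynomial ι A' →+* P.toExtension.Ring) (rel P) F'
      (fun a => (C (τ a) : MvPolynomial ι A'))
      (Algebra.linearMap P.toExtension.Ring B₀) := by
  letI : Algebra A E := γ.toAlgebra
  haveI : Module.Flat A E := hflat
  let φ : MvPolynomial ι A →ₐ[A] E := aeval b
  have hφs' : Function.Surjective φ := hφs
  have hFAgen' : Ideal.span (Set.range FA) = RingHom.ker (φ : MvPolynomial ι A →+* E) := hFAgen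
  have hsres' : Function.Surjective res' := by
    intro c
    obtain ⟨a, rfl⟩ := hsres c
    obtain ⟨a', rfl⟩ := hp a
    exact ⟨a', (hres a').symm⟩
  let q : MvPolynomial ι A' →+* MvPolynomial ι A := map p
  have hq : Function.Surjective q := map_surjective p hp
  have hqF : (fun s => q (F' s)) = FA := funext hF'
  have hkerq : RingHom.ker q = Ideal.span (Set.range fun a => (C (τ a) : MvPolynomial ι A')) :=
    ker_map_eq_span p τ hτker
  have hρq : ∀ z : MvPolynomial ι A', map res (q z) = map res' z :=
    fun z => map_res_map_p res' res p hres z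
  have hkerres : RingHom.ker (map res : MvPolynomial ι A →+* MvPolynomial ι k) =
      (RingHom.ker res).map (algebraMap A (MvPolynomial ι A)) := ker_map res
  refine
    { hρ := map_surjective res' hsres'
      hF := fun s => by
        show map res' (F' s) = P.relation s
        rw [← hρq, hF', hFArel]
      t_mem := fun a => by
        show map res' (C (τ a)) = 0
        rw [map_C, res'_τ res' res p hres τ hτker, map_zero]
      ann := fun a x hx => ann_C res' τ hτann a x hx
      indep := fun z hz a => indep_C res' τ hτind z hz a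
      β_rel := fun s => by
        rw [Algebra.linearMap_apply]
        exact algebraMap_rel P s
      H1 := ?_
      H2 := ?_ }
  · intro r hr
    have h1 : linearCombination _ FA (qσ q r) ∈
        (RingHom.ker res).map (algebraMap A (MvPolynomial ι A)) := by
      rw [← hqF, ev_qσ, ← hkerres, RingHom.mem_ker, hρq]
      exact hr
    obtain ⟨ρ', hρ'0, hρ'd⟩ := flat_R1 φ hφs' (RingHom.ker res) FA hFAgen' _ h1
    obtain ⟨r', rfl⟩ := qσ_surjective (σ := σ) q hq ρ'
    refine ⟨r', ?_, ?_⟩
    · ext s
      rw [qσ_apply, qσ_apply]
      show map res' (r' s) = map res' (r s)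
      rw [← hρq, ← hρq, ← sub_eq_zero, ← map_sub, ← RingHom.mem_ker, hkerres]
      have := hρ'd s
      rw [qσ_apply, qσ_apply] at this
      rw [← Ideal.neg_mem_iff, neg_sub]
      exact this
    · rw [← hkerq, RingHom.mem_ker, ← ev_qσ, hqF]
      exact hρ'0
  · intro r hrB hrK
    have h0 : linearCombination _ FA (qσ q r) = 0 := by
      rw [← hqF, ev_qσ, ← RingHom.mem_ker, hkerq]
      exact hrB
    have hc : ∀ s, qσ q r s ∈ (RingHom.ker res).map (algebraMap A (MvPolynomial ι A)) := by
      intro s
      rw [← hkerres, RingHom.mem_ker, qσ_apply, hρq]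
      have := congrArg (fun x : σ →₀ P.toExtension.Ring => x s) hrK
      exact this
    have h1 := flat_R2 φ hφs' (RingHom.ker res) FA hFAgen' (qσ q r) h0 hc
    have key : ∀ x ∈ (RingHom.ker res).map (algebraMap A (MvPolynomial ι A)) •
          LinearMap.ker (linearCombination (MvPolynomial ι A) FA),
        ∀ r : σ →₀ MvPolynomial ι A', qσ q r = x →
          r ∈ RingHom.ker (map res' : MvPolynomial ι A' →+* P.toExtension.Ring) •
              RelB F' (fun a => (C (τ a) : MvPolynomial ι A')) ⊔
            Ideal.span (Set.range fun a => (C (τ a) : MvPolynomial ι A')) •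
              (⊤ : Submodule (MvPolynomial ι A') (σ →₀ MvPolynomial ι A')) := by
      intro x hx
      refine Submodule.smul_induction_on hx ?_ ?_
      · intro a' ha' ρ' hρ' r hr
        obtain ⟨a, rfl⟩ := hq a'
        obtain ⟨ρ, rfl⟩ := qσ_surjective (σ := σ) q hq ρ'
        have hρB : ρ ∈ RelB F' (fun a => (C (τ a) : MvPolynomial ι A')) := by
          show linearCombination _ F' ρ ∈ Ideal.span _
          rw [← hkerq, RingHom.mem_ker, ← ev_qσ, hqF]
          exact hρ'
        have ha : a ∈ RingHom.ker (map res' : MvPolynomial ι A' →+* P.toExtension.Ring) := by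
          rw [RingHom.mem_ker]
          show map res' a = 0
          rw [← hρq, ← RingHom.mem_ker, hkerres]
          exact ha'
        have hd : r - a • ρ ∈ Ideal.span (Set.range fun a => (C (τ a) : MvPolynomial ι A')) •
            (⊤ : Submodule (MvPolynomial ι A') (σ →₀ MvPolynomial ι A')) := by
          refine coords_le_smul_top _ fun s => ?_
          show (r - a • ρ) s ∈ Ideal.span _
          rw [← hkerq, RingHom.mem_ker, ← qσ_apply, map_sub, hr, qσ_smul, sub_self]
          rfl
        have : r = a • ρ + (r - a • ρ) := by abel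
        rw [this]
        exact Submodule.add_mem_sup (Submodule.smul_mem_smul ha hρB) hd
      · intro x y hx hy r hr
        obtain ⟨r₁, rfl⟩ := qσ_surjective (σ := σ) q hq x
        have h2 : qσ q (r - r₁) = y := by rw [map_sub, hr, add_sub_cancel_left]
        have : r = r₁ + (r - r₁) := by abel
        rw [this]
        exact Submodule.add_mem _ (hx r₁ rfl) (hy _ h2)
    exact key _ h1 r rfl

end Concrete

end Groth.Agent.Lib.ObsGenH3
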