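import Mathlib
import Groth.Prelude.Def_CotT

/-!
# The class in `T²` of a cocycle on the relation module (helper3)

`Z2 P` : `R`-linear maps `relKer P → B` killing the trivial relations; `clsHom : Z2 P →+ T2 P B`; it is
zero exactly on the maps `q ↦ Σ q_s c_s`.
-/

set_option autoImplicit false
set_option linter.unusedSectionVars false

universe u v w t

namespace Groth.Agent.Lib.ObsGenH3

open CotT TensorProduct

variable {A : Type u} {B : Type v} {ι : Type w} {σ : Type t}
variable [CommRing A] [CommRing B] [Algebra A B]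
variable (P : Algebra.Presentation A B ι σ)

/-- cocycles: linear maps on the relation module killing the trivial relations -/
def Z2 : Submodule P.toExtension.Ring (relKer P →ₗ[P.toExtension.Ring] B) where
  carrier := {h | ∀ q : relKer P, (q : relMod P) ∈ trivRel P → h q = 0}
  add_mem' := fun {h h'} hh hh' q hq => by
    rw [LinearMap.add_apply, hh q hq, hh' q hq, add_zero]
  zero_mem' := fun q _ => rfl
  smul_mem' := fun a h hh q hq => by
    rw [LinearMap.smul_apply, hh q hq, smul_zero]

/-- the induced map on `L₂` -/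
noncomputable def psi (h : Z2 P) : L2 P →ₗ[B] B :=
  Submodule.liftQ _ (LinearMap.liftBaseChange B h.1) (by
    rw [LinearMap.range_le_ker_iff]
    refine TensorProduct.AlgebraTensorModule.ext fun b k => ?_
    simp only [LinearMap.coe_comp, Function.comp_apply, LinearMap.baseChange_tmul,
      Submodule.coe_subtype, LinearMap.zero_apply]
    show LinearMap.liftBaseChange B h.1 (b ⊗ₜ (k : relKer P)) = 0
    rw [LinearMap.liftBaseChange_tmul, h.2 _ k.2, smul_zero])

theorem psi_mk_tmul (h : Z2 P) (b : B) (q : relKer P) :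
    psi P h (Submodule.Quotient.mk (b ⊗ₜ q)) = b • h.1 q := by
  show LinearMap.liftBaseChange B h.1 (b ⊗ₜ q) = _
  rw [LinearMap.liftBaseChange_tmul]

theorem L2_hom_ext {f g : L2 P →ₗ[B] B}
    (h : ∀ (b : B) (q : relKer P), f (Submodule.Quotient.mk (b ⊗ₜ q)) =
      g (Submodule.Quotient.mk (b ⊗ₜ q))) : f = g := by
  refine Submodule.linearMap_qext _ ?_
  refine TensorProduct.AlgebraTensorModule.ext fun b q => ?_
  exact h b q

theorem psi_add (h h' : Z2 P) : psi P (h + h') = psi P h + psi P h' := by
  apply L2_hom_ext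
  intro b q
  rw [LinearMap.add_apply, psi_mk_tmul, psi_mk_tmul, psi_mk_tmul]
  show b • ((h.1 + h'.1) q) = _
  rw [LinearMap.add_apply, smul_add]

theorem psi_zero : psi P 0 = 0 := by
  apply L2_hom_ext
  intro b q
  rw [psi_mk_tmul]
  show b • ((0 : relKer P →ₗ[P.toExtension.Ring] B) q) = _
  rw [LinearMap.zero_apply, smul_zero, LinearMap.zero_apply]

theorem psi_smul (a : P.toExtension.Ring) (h : Z2 P) :
    psi P (a • h) = algebraMap P.toExtension.Ring B a • psi P h := by
  apply L2_hom_ext
  intro b q
  rw [LinearMap.smul_apply, psi_mk_tmul, psi_mk_tmul]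
  show b • ((a • h.1) q) = _
  rw [LinearMap.smul_apply, algebraMap_smul, smul_comm]

/-- the class in `T²` -/
noncomputable def clsHom : Z2 P →+ T2 P B where
  toFun h := Submodule.Quotient.mk (psi P h)
  map_zero' := by rw [psi_zero, Submodule.Quotient.mk_zero]
  map_add' h h' := by rw [psi_add, Submodule.Quotient.mk_add]

theorem clsHom_apply (h : Z2 P) : clsHom P h = Submodule.Quotient.mk (psi P h) := rfl

theorem clsHom_smul (a : P.toExtension.Ring) (h : Z2 P) :
    clsHom P (a • h) = algebraMap P.toExtension.Ring B a • clsHom P h := by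
  rw [clsHom_apply, clsHom_apply, psi_smul, Submodule.Quotient.mk_smul]

theorem L1_apply_one_tmul (φ₁ : L1 P →ₗ[B] B) (f : relMod P) :
    φ₁ ((1 : B) ⊗ₜ f) =
      Finsupp.linearCombination P.toExtension.Ring
        (fun s => φ₁ ((1 : B) ⊗ₜ Finsupp.single s 1)) f := by
  induction f using Finsupp.induction_linear with
  | zero => simp
  | add f g hf hg => rw [TensorProduct.tmul_add, map_add, map_add, hf, hg]
  | single s a =>
    rw [Finsupp.linearCombination_single]
    have : (Finsupp.single s a : relMod P) = a • Finsupp.single s 1 := by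
      rw [Finsupp.smul_single, smul_eq_mul, mul_one]
    rw [this, TensorProduct.tmul_smul, ← algebraMap_smul B a ((1 : B) ⊗ₜ[P.toExtension.Ring]
      (Finsupp.single s (1 : P.toExtension.Ring) : relMod P)), map_smul, algebraMap_smul]

theorem clsHom_eq_zero_iff (h : Z2 P) :
    clsHom P h = 0 ↔ ∃ c : σ → B, ∀ q : relKer P,
      h.1 q = Finsupp.linearCombination P.toExtension.Ring c (q : relMod P) := by
  constructor
  · intro h0
    rw [clsHom_apply, Submodule.Quotient.mk_eq_zero] at h0
    obtain ⟨φ₁, hφ₁⟩ := h0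
    refine ⟨fun s => φ₁ ((1 : B) ⊗ₜ Finsupp.single s 1), fun q => ?_⟩
    have h1 : h.1 q = psi P h (Submodule.Quotient.mk ((1 : B) ⊗ₜ q)) := by
      rw [psi_mk_tmul, one_smul]
    rw [h1, ← hφ₁, d2Star_apply, LinearMap.comp_apply, d2_mk_tmul]
    exact L1_apply_one_tmul P φ₁ q
  · rintro ⟨c, hc⟩
    rw [clsHom_apply, Submodule.Quotient.mk_eq_zero]
    refine ⟨(L1basis P).constr B c, ?_⟩
    rw [d2Star_apply]
    apply L2_hom_ext
    intro b q
    rw [LinearMap.comp_apply, d2_mk_tmul, psi_mk_tmul, hc]
    have h1 : (b ⊗ₜ[P.toExtension.Ring] (q : relMod P) : L1 P) =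
        b • ((1 : B) ⊗ₜ[P.toExtension.Ring] (q : relMod P)) := by
      rw [TensorProduct.smul_tmul', smul_eq_mul, mul_one]
    rw [h1, map_smul, L1_apply_one_tmul]
    have hfun : (fun s => (L1basis P).constr B c
        ((1 : B) ⊗ₜ[P.toExtension.Ring] (Finsupp.single s (1 : P.toExtension.Ring) : relMod P))) = c := by
      funext s
      rw [← L1basis_apply, Module.Basis.constr_basis]
    rw [hfun]

end Groth.Agent.Lib.ObsGenH3
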