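import Mathlib
import Groth.Prelude.Def_CotT
import Groth.Agent.Lib.ObsGenB_helper3
import Groth.Agent.Lib.ObsGenC_helper3
import Groth.Agent.Lib.ObsT2g_helper3

/-!
# The obstruction classes of a deformation along a semismall extension: ring level (helper3)

* `family_rTensor_injective` : `J ⊗ M → M` is injective when `J` is spanned by a family `τ` killed by `𝔪`
  and `Σ τ_a y_a = 0 ⇒ y_a ∈ 𝔪 M`;
* `DefData`, `ExtData` : the ring-level context; `omega X D F' hF' : T → T2 P B₀` the obstruction classes;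
* `omega_indep` : independence of the lift `F'`;
* `exists_lift_of_tor`, `exists_lift_of_omega_eq_zero` : vanishing implies a flat lift.
-/

set_option autoImplicit false
set_option linter.unusedSectionVars false
set_option linter.style.haveILetI false

universe u

namespace Groth.Agent.Lib.ObsGenH3

open MvPolynomial Finsupp CotT TensorProduct
open Groth.Agent.Lib.ObsT2H3 (qσ qσ_apply qσ_smul qσ_surjective ev_qσ flat_inter_ideal
  flat_baseChange_quot_of_surjective exists_coords_of_mem_mul)

section Tensor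

variable {A : Type*} [CommRing A] {T : Type*} [Fintype T] (τ : T → A)
  (M : Type*) [AddCommGroup M] [Module A M]

theorem exists_sum_tmul_eq (x : (Ideal.span (Set.range τ) : Ideal A) ⊗[A] M) :
    ∃ y : T → M, x = ∑ a, (⟨τ a, Ideal.subset_span ⟨a, rfl⟩⟩ :
      (Ideal.span (Set.range τ) : Ideal A)) ⊗ₜ[A] y a := by
  induction x using TensorProduct.induction_on with
  | zero => exact ⟨0, by simp⟩
  | tmul j m =>
    obtain ⟨j, hj⟩ := j
    obtain ⟨c, hc⟩ := Ideal.mem_span_range_iff_exists_fun.1 hj
    refine ⟨fun a => c a • m, ?_⟩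
    have h1 : (⟨j, hj⟩ : (Ideal.span (Set.range τ) : Ideal A)) =
        ∑ a, c a • (⟨τ a, Ideal.subset_span ⟨a, rfl⟩⟩ : (Ideal.span (Set.range τ) : Ideal A)) := by
      apply Subtype.ext
      show j = ((∑ a, c a • (⟨τ a, Ideal.subset_span ⟨a, rfl⟩⟩ :
        (Ideal.span (Set.range τ) : Ideal A)) : (Ideal.span (Set.range τ) : Ideal A)) : A)
      rw [Submodule.coe_sum, ← hc]
      exact Finset.sum_congr rfl fun a _ => rfl
    rw [h1, TensorProduct.sum_tmul]
    exact Finset.sum_congr rfl fun a _ => by rw [TensorProduct.smul_tmul]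
  | add x y hx hy =>
    obtain ⟨u, rfl⟩ := hx
    obtain ⟨v, rfl⟩ := hy
    refine ⟨u + v, ?_⟩
    rw [← Finset.sum_add_distrib]
    exact Finset.sum_congr rfl fun a _ => by rw [Pi.add_apply, TensorProduct.tmul_add]

theorem family_rTensor_injective (𝔪 : Ideal A) (h𝔪 : ∀ a, ∀ x ∈ 𝔪, x * τ a = 0)
    (h : ∀ y : T → M, ∑ a, τ a • y a = 0 → ∀ a, y a ∈ 𝔪 • (⊤ : Submodule A M)) :
    Function.Injective ((Ideal.span (Set.range τ) : Ideal A).subtype.rTensor M) := by
  rw [injective_iff_map_eq_zero]
  intro x hx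
  obtain ⟨y, rfl⟩ := exists_sum_tmul_eq τ M x
  have h1 : ∑ a, τ a • y a = 0 := by
    have := congrArg (TensorProduct.lid A M) hx
    simpa using this
  have h2 := h y h1
  refine Finset.sum_eq_zero fun a _ => ?_
  refine Submodule.smul_induction_on
    (p := fun m => (⟨τ a, Ideal.subset_span ⟨a, rfl⟩⟩ :
      (Ideal.span (Set.range τ) : Ideal A)) ⊗ₜ[A] m = 0) (h2 a) ?_ ?_
  · intro c hc m _
    rw [← TensorProduct.smul_tmul]
    have : c • (⟨τ a, Ideal.subset_span ⟨a, rfl⟩⟩ : (Ideal.span (Set.range τ) : Ideal A)) = 0 :=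
      Subtype.ext (by simpa [smul_eq_mul] using h𝔪 a c hc)
    rw [this, zero_tmul]
  · intro m m' hm hm'
    rw [tmul_add, hm, hm', add_zero]

end Tensor

variable {k : Type u} [Field k] {B₀ : Type u} [CommRing B₀] [Algebra k B₀] {ι σ : Type u}
  (P : Algebra.Presentation k B₀ ι σ)

/-- a deformation over `A` together with generators and relations -/
structure DefData {A : Type u} [CommRing A] (res : A →+* k) where
  E : Type u
  [ring : CommRing E]
  γ : A →+* E
  α : E →+* B₀
  hflat : γ.Flat
  hα : Function.Surjective α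
  hkerα : RingHom.ker α = (RingHom.ker res).map γ
  hcomp : ∀ a, α (γ a) = algebraMap k B₀ (res a)
  b : ι → E
  FA : σ → MvPolynomial ι A
  hαφ : ∀ x : MvPolynomial ι A, α (eval₂Hom γ b x) = aeval P.val (map res x)
  hφs : Function.Surjective (eval₂Hom γ b)
  hFArel : ∀ s, map res (FA s) = P.relation s
  hFAgen : Ideal.span (Set.range FA) = RingHom.ker (eval₂Hom γ b)

attribute [instance] DefData.ring

/-- a semismall extension with a basis of its kernel -/
structure ExtData {A' A : Type u} [CommRing A'] [CommRing A] (res' : A' →+* k) (res : A →+* k)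
    (p : A' →+* A) (T : Type) [Fintype T] : Type u where
  hres : ∀ a, res (p a) = res' a
  hsres : Function.Surjective res
  hp : Function.Surjective p
  τ : T → A'
  hτker : RingHom.ker p = Ideal.span (Set.range τ)
  hτann : ∀ a x, res' x = 0 → x * τ a = 0
  hτind : ∀ c : T → A', ∑ a, c a * τ a = 0 → ∀ a, res' (c a) = 0

section Omega

variable {P}
variable {A' A : Type u} [CommRing A'] [CommRing A] {res' : A' →+* k} {res : A →+* k}
  {p : A' →+* A} {T : Type} [Fintype T] (X : ExtData res' res p T) (D : DefData P res)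
  (F' : σ → MvPolynomial ι A') (hF' : ∀ s, map p (F' s) = D.FA s)

include D hF' in
theorem hyp : Hyp (R₀ := P.toExtension.Ring)
    (map res' : MvPolynomial ι A' →+* P.toExtension.Ring) (rel P) F'
    (fun a => (C (X.τ a) : MvPolynomial ι A')) (Algebra.linearMap P.toExtension.Ring B₀) :=
  hyp_concrete P res' res p X.hres X.hsres X.hp X.τ X.hτker X.hτann X.hτind D.E D.γ D.hflat D.b D.FA
    D.hφs D.hFArel D.hFAgen F' hF'

/-- the vector valued cocycle on the relation module -/
noncomputable def coc : relKer P →ₗ[P.toExtension.Ring] (T → B₀) :=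
  cocycle (hyp X D F' hF')

theorem coc_triv (q : relKer P) (hq : (q : relMod P) ∈ trivRel P) : coc X D F' hF' q = 0 := by
  have key : ∀ y (_ : y ∈ trivRel P) (hy' : y ∈ relKer P), coc X D F' hF' ⟨y, hy'⟩ = 0 := by
    intro y hy
    refine Submodule.span_induction
      (p := fun y _ => ∀ hy' : y ∈ relKer P, coc X D F' hF' ⟨y, hy'⟩ = 0) ?_ ?_ ?_ ?_ hy
    · rintro _ ⟨a₀, b₀, rfl⟩ hy'
      exact cocycle_koszul (hyp X D F' hF') a₀ b₀ hy'
    · intro hy'
      exact map_zero (coc X D F' hF')
    · intro x y hx hy ihx ihy hxy'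
      have hx' : x ∈ relKer P := trivRel_le_relKer P hx
      have hy' : y ∈ relKer P := trivRel_le_relKer P hy
      have : (⟨x + y, hxy'⟩ : relKer P) = ⟨x, hx'⟩ + ⟨y, hy'⟩ := rfl
      rw [this, map_add, ihx hx', ihy hy', add_zero]
    · intro a x hx ihx hax'
      have hx' : x ∈ relKer P := trivRel_le_relKer P hx
      have : (⟨a • x, hax'⟩ : relKer P) = a • ⟨x, hx'⟩ := rfl
      rw [this, map_smul, ihx hx', smul_zero]
  exact key q hq q.2

/-- the components of the cocycle -/
noncomputable def comp (a : T) : Z2 P :=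
  ⟨(LinearMap.proj a : (T → B₀) →ₗ[P.toExtension.Ring] B₀) ∘ₗ coc X D F' hF', fun q hq => by
    show coc X D F' hF' q a = 0
    rw [coc_triv X D F' hF' q hq]
    rfl⟩

theorem comp_apply (a : T) (q : relKer P) : (comp X D F' hF' a).1 q = coc X D F' hF' q a := rfl

/-- the obstruction classes -/
noncomputable def omega (a : T) : T2 P B₀ := clsHom P (comp X D F' hF' a)

end Omega

end Groth.Agent.Lib.ObsGenH3
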