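import Mathlib
import Groth.Prelude.Def_CotT
import Groth.Agent.Lib.ObsGenD_helper3

/-!
# Independence of the lift and "vanishing implies lifting" (helper3)
-/

set_option autoImplicit false
set_option linter.unusedSectionVars false
set_option linter.style.haveILetI false

universe u

namespace Groth.Agent.Lib.ObsGenH3

open MvPolynomial Finsupp CotT TensorProduct
open Groth.Agent.Lib.ObsT2H3 (qσ qσ_apply qσ_smul qσ_surjective ev_qσ flat_inter_ideal
  flat_baseChange_quot_of_surjective exists_coords_of_mem_mul)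

variable {k : Type u} [Field k] {B₀ : Type u} [CommRing B₀] [Algebra k B₀] {ι σ : Type u}
  {P : Algebra.Presentation k B₀ ι σ}
  {A' A : Type u} [CommRing A'] [CommRing A] {res' : A' →+* k} {res : A →+* k}
  {p : A' →+* A} {T : Type} [Fintype T] (X : ExtData res' res p T) (D : DefData P res)

section Indep

variable (F' : σ → MvPolynomial ι A') (hF' : ∀ s, map p (F' s) = D.FA s)

include X in
theorem map_p_C_τ (a : T) : (map p : MvPolynomial ι A' →+* MvPolynomial ι A) (C (X.τ a)) = 0 := by
  have : X.τ a ∈ RingHom.ker p := by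
    rw [X.hτker]; exact Ideal.subset_span ⟨a, rfl⟩
  rw [map_C, (RingHom.mem_ker).1 this, map_zero]

include X hF' in
theorem hF'_change (g : T → σ → MvPolynomial ι A') (s : σ) :
    map p (F' s - ∑ a, g a s * C (X.τ a)) = D.FA s := by
  rw [map_sub, map_sum, hF']
  have : ∀ a ∈ Finset.univ, (map p : MvPolynomial ι A' →+* MvPolynomial ι A)
      (g a s * C (X.τ a)) = 0 := by
    intro a _
    rw [map_mul, map_p_C_τ X a, mul_zero]
  rw [Finset.sum_eq_zero this, sub_zero]

theorem omega_change (g : T → σ → MvPolynomial ι A') (a : T) :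
    omega X D (fun s => F' s - ∑ a, g a s * C (X.τ a)) (hF'_change X D F' hF' g) a =
      omega X D F' hF' a := by
  unfold omega
  rw [← sub_eq_zero, ← map_sub, clsHom_eq_zero_iff]
  refine ⟨fun s => -(Algebra.linearMap P.toExtension.Ring B₀
    ((map res' : MvPolynomial ι A' →+* P.toExtension.Ring) (g a s))), fun q => ?_⟩
  show (comp X D _ _ a).1 q - (comp X D F' hF' a).1 q = _
  rw [comp_apply, comp_apply]
  have h := cocycle_change (hyp X D F' hF') g
    (hyp X D (fun s => F' s - ∑ a, g a s * C (X.τ a)) (hF'_change X D F' hF' g)) q a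
  have h' : coc X D (fun s => F' s - ∑ a, g a s * C (X.τ a)) (hF'_change X D F' hF' g) q a =
      coc X D F' hF' q a - linearCombination P.toExtension.Ring
        (fun s => Algebra.linearMap P.toExtension.Ring B₀
          ((map res' : MvPolynomial ι A' →+* P.toExtension.Ring) (g a s))) (q : relMod P) := h
  rw [h', sub_sub_cancel_left]
  rw [Finsupp.linearCombination_apply, Finsupp.linearCombination_apply, Finsupp.sum, Finsupp.sum,
    ← Finset.sum_neg_distrib]
  exact Finset.sum_congr rfl fun s _ => by rw [smul_neg]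

theorem omega_indep (F'' : σ → MvPolynomial ι A') (hF'' : ∀ s, map p (F'' s) = D.FA s) (a : T) :
    omega X D F'' hF'' a = omega X D F' hF' a := by
  have hex : ∀ s, ∃ g : T → MvPolynomial ι A', ∑ a, g a * C (X.τ a) = F' s - F'' s := by
    intro s
    apply Ideal.mem_span_range_iff_exists_fun.1
    rw [← ker_map_eq_span p X.τ X.hτker, RingHom.mem_ker, map_sub, hF', hF'', sub_self]
  choose g hg using hex
  have hfun : F'' = fun s => F' s - ∑ a, g s a * C (X.τ a) := by
    funext s
    rw [hg]; ring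
  subst hfun
  exact omega_change X D F' hF' (fun a s => g s a) a

end Indep

section Lift

variable (F' : σ → MvPolynomial ι A') (hF' : ∀ s, map p (F' s) = D.FA s)

set_option maxHeartbeats 1600000 in
include X hF' in
theorem exists_lift_of_tor
    (htor : ∀ z : T → MvPolynomial ι A', ∑ a, z a * C (X.τ a) ∈ Ideal.span (Set.range F') →
      ∀ a, algebraMap P.toExtension.Ring B₀
        ((map res' : MvPolynomial ι A' →+* P.toExtension.Ring) (z a)) = 0) :
    ∃ (E' : Type u) (_ : CommRing E') (γ' : A' →+* E') (α' : E' →+* B₀) (π : E' →+* D.E),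
      γ'.Flat ∧ Function.Surjective α' ∧ RingHom.ker α' = (RingHom.ker res').map γ' ∧
      (∀ a, α' (γ' a) = algebraMap k B₀ (res' a)) ∧ (∀ a, π (γ' a) = D.γ (p a)) ∧
      Function.Surjective π ∧ RingHom.ker π = (RingHom.ker p).map γ' ∧ ∀ y, D.α (π y) = α' y := by
  letI : Algebra A D.E := D.γ.toAlgebra
  haveI : Module.Flat A D.E := D.hflat
  let φ : MvPolynomial ι A →ₐ[A] D.E := aeval D.b
  have hφe : ∀ x, φ x = eval₂Hom D.γ D.b x := fun x => rfl
  have hφs' : Function.Surjective φ := D.hφs
  have hFAgen' : Ideal.span (Set.range D.FA) = RingHom.ker (φ : MvPolynomial ι A →+* D.E) :=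
    D.hFAgen
  have hFAker : ∀ s, φ (D.FA s) = 0 := by
    intro s
    have : D.FA s ∈ RingHom.ker (φ : MvPolynomial ι A →+* D.E) := by
      rw [← hFAgen']; exact Ideal.subset_span ⟨s, rfl⟩
    exact this
  let q : MvPolynomial ι A' →+* MvPolynomial ι A := map p
  have hq : Function.Surjective q := map_surjective p X.hp
  have hqF : (fun s => q (F' s)) = D.FA := funext hF'
  have hkerq : RingHom.ker q = Ideal.span (Set.range fun a => (C (X.τ a) : MvPolynomial ι A')) :=
    ker_map_eq_span p X.τ X.hτker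
  let ρ : MvPolynomial ι A' →+* P.toExtension.Ring := map res'
  have hρq : ∀ z, ρ z = map res (q z) := fun z => (map_res_map_p res' res p X.hres z).symm
  have hsres' : Function.Surjective res' := by
    intro c
    obtain ⟨a, rfl⟩ := X.hsres c
    obtain ⟨a', rfl⟩ := X.hp a
    exact ⟨a', (X.hres a').symm⟩
  have hρs : Function.Surjective ρ := map_surjective res' hsres'
  have hρF : ∀ s, ρ (F' s) = P.relation s := by
    intro s
    rw [hρq, hF', D.hFArel]
  have hρτ : ∀ a, ρ (C (X.τ a)) = 0 := by
    intro a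
    show map res' (C (X.τ a)) = 0
    rw [map_C, res'_τ res' res p X.hres X.τ X.hτker, map_zero]
  -- the module structure on `B₀`
  let βr : MvPolynomial ι A' →+* B₀ := (algebraMap P.toExtension.Ring B₀).comp ρ
  have hβs : Function.Surjective βr := by
    intro y
    obtain ⟨x₀, hx₀⟩ := P.algebraMap_surjective y
    obtain ⟨x, rfl⟩ := hρs x₀
    exact ⟨x, hx₀⟩
  have hkerP : ∀ x : P.toExtension.Ring, algebraMap P.toExtension.Ring B₀ x = 0 →
      x ∈ Ideal.span (Set.range P.relation) := by
    intro x hx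
    rw [P.span_range_relation_eq_ker]
    exact hx
  have hβ : ∀ z, βr z = 0 → z ∈ RingHom.ker ρ ⊔ Ideal.span (Set.range F') := by
    intro z hz
    have hz' : algebraMap P.toExtension.Ring B₀ (ρ z) = 0 := hz
    have h1 := hkerP _ hz'
    rw [Ideal.span, ← Finsupp.range_linearCombination] at h1
    obtain ⟨c₀, hc₀⟩ := h1
    obtain ⟨c, rfl⟩ := qσ_surjective (σ := σ) ρ hρs c₀
    have hrelfun : (fun s => ρ (F' s)) = P.relation := funext hρF
    have h2 : ρ (Finsupp.linearCombination _ F' c) = ρ z := by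
      rw [← ev_qσ, hrelfun]
      exact hc₀
    have h3 : z - Finsupp.linearCombination _ F' c ∈ RingHom.ker ρ := by
      rw [RingHom.mem_ker, map_sub, h2, sub_self]
    have : z = (z - Finsupp.linearCombination _ F' c) + Finsupp.linearCombination _ F' c := by
      abel
    rw [this]
    refine Submodule.add_mem_sup h3 ?_
    rw [Ideal.span, ← Finsupp.range_linearCombination]
    exact LinearMap.mem_range_self _ _
  -- the lifted algebra
  let J : Ideal (MvPolynomial ι A') := Ideal.span (Set.range F')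
  let mk : MvPolynomial ι A' →+* MvPolynomial ι A' ⧸ J := Ideal.Quotient.mk J
  let γ' : A' →+* MvPolynomial ι A' ⧸ J := algebraMap A' (MvPolynomial ι A' ⧸ J)
  have hγ'mk : ∀ a, γ' a = mk (C a) := fun a => rfl
  have hβrF : ∀ s, βr (F' s) = 0 := by
    intro s
    show algebraMap P.toExtension.Ring B₀ (ρ (F' s)) = 0
    rw [hρF]
    exact P.relation_mem_ker s
  have hJβ : ∀ x ∈ J, βr x = 0 := by
    intro x hx
    have : J ≤ RingHom.ker βr := by
      rw [Ideal.span_le]
      rintro _ ⟨s, rfl⟩
      exact hβrF s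
    exact this hx
  let α' : MvPolynomial ι A' ⧸ J →+* B₀ := Ideal.Quotient.lift J βr hJβ
  let φq : MvPolynomial ι A' →+* D.E := (φ : MvPolynomial ι A →+* D.E).comp q
  have hJφ : ∀ x ∈ J, φq x = 0 := by
    intro x hx
    have : J ≤ RingHom.ker φq := by
      rw [Ideal.span_le]
      rintro _ ⟨s, rfl⟩
      show φ (q (F' s)) = 0
      rw [hF', hFAker]
    exact this hx
  let π : MvPolynomial ι A' ⧸ J →+* D.E := Ideal.Quotient.lift J φq hJφ
  have hα'mk : ∀ z, α' (mk z) = βr z := fun z => Ideal.Quotient.lift_mk J βr hJβ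
  have hπmk : ∀ z, π (mk z) = φ (q z) := fun z => Ideal.Quotient.lift_mk J φq hJφ
  have hmks : Function.Surjective mk := Ideal.Quotient.mk_surjective
  have hmapmk : (RingHom.ker ρ).map mk = (RingHom.ker res').map γ' := by
    have : RingHom.ker ρ = (RingHom.ker res').map (C : A' →+* MvPolynomial ι A') := ker_map res'
    rw [this, Ideal.map_map]
    congr 1
  have hK3 : ∀ z, z ∈ RingHom.ker ρ ⊔ J → mk z ∈ (RingHom.ker res').map γ' := by
    intro z hz
    obtain ⟨z₁, hz₁, z₂, hz₂, rfl⟩ := Submodule.mem_sup.1 hz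
    rw [map_add, (Ideal.Quotient.eq_zero_iff_mem).2 hz₂, add_zero, ← hmapmk]
    exact Ideal.mem_map_of_mem _ hz₁
  have hα'γ' : ∀ a, α' (γ' a) = algebraMap k B₀ (res' a) := by
    intro a
    rw [hγ'mk, hα'mk]
    show algebraMap P.toExtension.Ring B₀ (map res' (C a)) = _
    rw [CotT.algebraMap_toExtension, map_C, aeval_C]
  have hπγ' : ∀ a, π (γ' a) = D.γ (p a) := by
    intro a
    rw [hγ'mk, hπmk]
    show φ (map p (C a)) = _
    rw [map_C]
    exact aeval_C _ _
  have hπs : Function.Surjective π := by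
    intro y
    obtain ⟨x, rfl⟩ := hφs' y
    obtain ⟨z, rfl⟩ := hq x
    exact ⟨mk z, hπmk z⟩
  have hkerα' : RingHom.ker α' = (RingHom.ker res').map γ' := by
    apply le_antisymm
    · intro y hy
      obtain ⟨z, rfl⟩ := hmks y
      rw [RingHom.mem_ker, hα'mk] at hy
      exact hK3 z (hβ z hy)
    · rw [Ideal.map_le_iff_le_comap]
      intro a ha
      rw [Ideal.mem_comap, RingHom.mem_ker, hα'γ', (RingHom.mem_ker).1 ha, map_zero]
  have hmkτ : ∀ a, mk (C (X.τ a)) ∈ (RingHom.ker p).map γ' := by
    intro a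
    have : X.τ a ∈ RingHom.ker p := by
      rw [X.hτker]; exact Ideal.subset_span ⟨a, rfl⟩
    exact Ideal.mem_map_of_mem γ' this
  have hkerπ : RingHom.ker π = (RingHom.ker p).map γ' := by
    apply le_antisymm
    · intro y hy
      obtain ⟨z, rfl⟩ := hmks y
      rw [RingHom.mem_ker, hπmk] at hy
      have h1 : q z ∈ Ideal.span (Set.range D.FA) := by rw [hFAgen']; exact hy
      rw [Ideal.span, ← Finsupp.range_linearCombination] at h1
      obtain ⟨c', hc'⟩ := h1
      obtain ⟨c, rfl⟩ := qσ_surjective (σ := σ) q hq c'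
      have h2 : q (Finsupp.linearCombination _ F' c) = q z := by
        rw [← ev_qσ, hqF]; exact hc'
      have h3 : z - Finsupp.linearCombination _ F' c ∈
          Ideal.span (Set.range fun a => (C (X.τ a) : MvPolynomial ι A')) := by
        rw [← hkerq, RingHom.mem_ker, map_sub, h2, sub_self]
      obtain ⟨w, hw⟩ := Ideal.mem_span_range_iff_exists_fun.1 h3
      have h4 : Finsupp.linearCombination _ F' c ∈ J := by
        show _ ∈ Ideal.span (Set.range F')
        rw [Ideal.span, ← Finsupp.range_linearCombination]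
        exact LinearMap.mem_range_self _ _
      have h5 : mk z = mk (z - Finsupp.linearCombination _ F' c) := by
        rw [map_sub, (Ideal.Quotient.eq_zero_iff_mem).2 h4, sub_zero]
      rw [h5, ← hw, map_sum]
      refine Ideal.sum_mem _ fun a _ => ?_
      rw [map_mul]
      exact Ideal.mul_mem_left _ _ (hmkτ a)
    · rw [Ideal.map_le_iff_le_comap]
      intro a ha
      rw [Ideal.mem_comap, RingHom.mem_ker, hπγ', (RingHom.mem_ker).1 ha, map_zero]
  have hαπ : ∀ y, D.α (π y) = α' y := by
    intro y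
    obtain ⟨z, rfl⟩ := hmks y
    rw [hπmk, hα'mk, hφe, D.hαφ, ← hρq]
    exact (CotT.algebraMap_toExtension P (ρ z)).symm
  -- flatness
  have hflat' : γ'.Flat := by
    rw [RingHom.flat_algebraMap_iff]
    have hsmul : ∀ (a : A') (y : MvPolynomial ι A' ⧸ J), a • y = γ' a * y :=
      fun a y => Algebra.smul_def a y
    have hnilp : IsNilpotent (RingHom.ker p) := by
      refine ⟨2, ?_⟩
      rw [Ideal.zero_eq_bot, eq_bot_iff, pow_two, Ideal.mul_le]
      intro x hx y hy
      rw [X.hτker] at hy
      obtain ⟨c, rfl⟩ := Ideal.mem_span_range_iff_exists_fun.1 hy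
      rw [Ideal.mem_bot, Finset.mul_sum]
      refine Finset.sum_eq_zero fun a _ => ?_
      have hx0 : res' x = 0 := by rw [← X.hres, (RingHom.mem_ker).1 hx, map_zero]
      rw [mul_left_comm, X.hτann a x hx0, mul_zero]
    haveI : Module.Flat (A' ⧸ RingHom.ker p)
        ((A' ⧸ RingHom.ker p) ⊗[A'] (MvPolynomial ι A' ⧸ J)) := by
      refine flat_baseChange_quot_of_surjective p X.hp (MvPolynomial ι A' ⧸ J) D.E
        (π : (MvPolynomial ι A' ⧸ J) →+ D.E) hπs ?_ ?_
      · intro a y
        show π (a • y) = D.γ (p a) * π y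
        rw [hsmul, map_mul, hπγ']
      · intro y hy
        have hy' : y ∈ RingHom.ker π := hy
        rw [hkerπ] at hy'
        rw [Ideal.smul_top_eq_map]
        exact hy'
    refine Groth.Agent.Lib.LocalCrit4.flat_of_nilpotent (RingHom.ker p) hnilp
      (MvPolynomial ι A' ⧸ J) ?_
    rw [X.hτker]
    refine family_rTensor_injective X.τ (MvPolynomial ι A' ⧸ J) (RingHom.ker res')
      (fun a x hx => X.hτann a x hx) ?_
    intro y hy a
    choose z hz using fun a => hmks (y a)
    have h1 : ∑ a, z a * C (X.τ a) ∈ Ideal.span (Set.range F') := by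
      show _ ∈ J
      rw [← Ideal.Quotient.eq_zero_iff_mem, map_sum, ← hy]
      refine Finset.sum_congr rfl fun a _ => ?_
      rw [hsmul, hγ'mk, ← hz a, ← map_mul, mul_comm]
    have h2 := htor z h1 a
    have h3 : z a ∈ RingHom.ker ρ ⊔ J := hβ (z a) h2
    rw [Ideal.smul_top_eq_map, ← hz a]
    exact hK3 (z a) h3
  exact ⟨MvPolynomial ι A' ⧸ J, inferInstance, γ', α', π, hflat',
    fun y => by
      obtain ⟨z, hz⟩ := hβs y
      exact ⟨mk z, (hα'mk z).trans hz⟩,
    hkerα', hα'γ', hπγ', hπs, hkerπ, hαπ⟩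

include X in
theorem exists_lift_of_omega_eq_zero (h0 : ∀ a, omega X D F' hF' a = 0) :
    ∃ (E' : Type u) (_ : CommRing E') (γ' : A' →+* E') (α' : E' →+* B₀) (π : E' →+* D.E),
      γ'.Flat ∧ Function.Surjective α' ∧ RingHom.ker α' = (RingHom.ker res').map γ' ∧
      (∀ a, α' (γ' a) = algebraMap k B₀ (res' a)) ∧ (∀ a, π (γ' a) = D.γ (p a)) ∧
      Function.Surjective π ∧ RingHom.ker π = (RingHom.ker p).map γ' ∧ ∀ y, D.α (π y) = α' y := by
  have hc : ∀ a, ∃ c : σ → B₀, ∀ κ : LinearMap.ker (linearCombination P.toExtension.Ring (rel P)),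
      cocycle (hyp X D F' hF') κ a = linearCombination P.toExtension.Ring c
        (κ : σ →₀ P.toExtension.Ring) := by
    intro a
    obtain ⟨c, hc⟩ := (clsHom_eq_zero_iff P (comp X D F' hF' a)).1 (h0 a)
    exact ⟨c, fun κ => hc κ⟩
  have hβs : Function.Surjective (Algebra.linearMap P.toExtension.Ring B₀) :=
    P.algebraMap_surjective
  obtain ⟨g, hg⟩ := exists_correction (hyp X D F' hF') hβs hc
  exact exists_lift_of_tor X D (fun s => F' s - ∑ a, g a s * C (X.τ a))
    (hF'_change X D F' hF' g) (fun z hz a => hg z hz a)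

end Lift

end Groth.Agent.Lib.ObsGenH3
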