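import Mathlib
import Groth.Prelude.Def_CotT
import Groth.Agent.Lib.ObsGenE_helper3

/-!
# A flat lift kills the obstruction classes; functoriality in the extension (helper3)
-/

set_option autoImplicit false
set_option linter.unusedSectionVars false
set_option linter.style.haveILetI false

universe u

namespace Groth.Agent.Lib.ObsGenH3

open MvPolynomial Finsupp CotT TensorProduct
open Groth.Agent.Lib.ObsT2H3 (qσ qσ_apply qσ_smul qσ_surjective ev_qσ flat_inter_ideal
  exists_coords_of_mem_mul)

variable {k : Type u} [Field k] {B₀ : Type u} [CommRing B₀] [Algebra k B₀] {ι σ : Type u}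
  {P : Algebra.Presentation k B₀ ι σ}
  {A' A : Type u} [CommRing A'] [CommRing A] {res' : A' →+* k} {res : A →+* k}
  {p : A' →+* A} {T : Type} [Fintype T] (X : ExtData res' res p T) (D : DefData P res)

include X in
theorem ExtData.ker_sq : RingHom.ker p * RingHom.ker p = ⊥ := by
  rw [eq_bot_iff, Ideal.mul_le]
  intro x hx y hy
  rw [X.hτker] at hy
  obtain ⟨c, rfl⟩ := Ideal.mem_span_range_iff_exists_fun.1 hy
  rw [Ideal.mem_bot, Finset.mul_sum]
  refine Finset.sum_eq_zero fun a _ => ?_
  have hx0 : res' x = 0 := by rw [← X.hres, (RingHom.mem_ker).1 hx, map_zero]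
  rw [mul_left_comm, X.hτann a x hx0, mul_zero]

include X in
theorem ExtData.isNilpotent_ker : IsNilpotent (RingHom.ker p) :=
  ⟨2, by rw [pow_two, X.ker_sq]; rfl⟩

section Lift

variable (F' : σ → MvPolynomial ι A') (hF' : ∀ s, map p (F' s) = D.FA s)

set_option maxHeartbeats 1600000 in
theorem omega_eq_zero_of_lift
    (E' : Type u) [CommRing E'] (γ' : A' →+* E') (hflat' : γ'.Flat) (π : E' →+* D.E)
    (hπγ : ∀ a, π (γ' a) = D.γ (p a)) (hπs : Function.Surjective π)
    (hkerπ : RingHom.ker π = (RingHom.ker p).map γ') (a : T) :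
    omega X D F' hF' a = 0 := by
  letI : Algebra A D.E := D.γ.toAlgebra
  let φ : MvPolynomial ι A →ₐ[A] D.E := aeval D.b
  have hFAgen' : Ideal.span (Set.range D.FA) = RingHom.ker (φ : MvPolynomial ι A →+* D.E) :=
    D.hFAgen
  have hFAker : ∀ s, φ (D.FA s) = 0 := by
    intro s
    have : D.FA s ∈ RingHom.ker (φ : MvPolynomial ι A →+* D.E) := by
      rw [← hFAgen']; exact Ideal.subset_span ⟨s, rfl⟩
    exact this
  let q : MvPolynomial ι A' →+* MvPolynomial ι A := map p
  have hq : Function.Surjective q := map_surjective p X.hp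
  have hkerq : RingHom.ker q = (RingHom.ker p).map (C : A' →+* MvPolynomial ι A') := ker_map p
  have hkerq' : RingHom.ker q =
      Ideal.span (Set.range fun a => (C (X.τ a) : MvPolynomial ι A')) :=
    ker_map_eq_span p X.τ X.hτker
  letI : Algebra A' E' := γ'.toAlgebra
  haveI : Module.Flat A' E' := hflat'
  choose b' hb' using fun i => hπs (D.b i)
  let G' : MvPolynomial ι A' →ₐ[A'] E' := aeval b'
  have hπG : ∀ x, π (G' x) = φ (q x) := by
    intro x
    have : (π.comp (G' : MvPolynomial ι A' →+* E')) =
        (φ : MvPolynomial ι A →+* D.E).comp q := by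
      apply MvPolynomial.ringHom_ext
      · intro c
        show π (G' (C c)) = φ (map p (C c))
        rw [show G' (C c) = γ' c from aeval_C _ c, hπγ, map_C]
        exact (aeval_C _ _).symm
      · intro i
        show π (G' (MvPolynomial.X i)) = φ (map p (MvPolynomial.X i))
        rw [show G' (MvPolynomial.X i) = b' i from aeval_X _ i, hb', map_X]
        exact (aeval_X _ i).symm
    exact congrArg (fun f => f x) this
  have hnilp : IsNilpotent (RingHom.ker p) := X.isNilpotent_ker
  have hG's : Function.Surjective G' := by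
    refine Groth.Agent.Lib.DefoIsoH7.surjective_of_nilpotent (RingHom.ker p) hnilp
      G'.toLinearMap ?_
    intro y
    obtain ⟨x₀, hx₀⟩ := D.hφs (π y)
    obtain ⟨x, rfl⟩ := hq x₀
    refine ⟨x, ?_⟩
    rw [Ideal.smul_top_eq_map]
    show y - G' x ∈ (RingHom.ker p).map (algebraMap A' E')
    have : y - G' x ∈ RingHom.ker π := by
      rw [RingHom.mem_ker, map_sub, hπG, sub_eq_zero]
      exact hx₀.symm
    rw [hkerπ] at this
    exact this
  -- the adapted lift of the relations
  have hmapG : (RingHom.ker p).map γ' = ((RingHom.ker p).map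
      (C : A' →+* MvPolynomial ι A')).map (G' : MvPolynomial ι A' →+* E') := by
    rw [Ideal.map_map]
    congr 1
    apply RingHom.ext
    intro c
    exact (aeval_C b' c).symm
  have hex : ∀ s, ∃ n : MvPolynomial ι A', n ∈ RingHom.ker q ∧ G' n = G' (F' s) := by
    intro s
    have h1 : G' (F' s) ∈ RingHom.ker π := by
      rw [RingHom.mem_ker, hπG, hF', hFAker]
    rw [hkerπ, hmapG] at h1
    obtain ⟨n, hn, hn'⟩ :=
      (Ideal.mem_map_iff_of_surjective (G' : MvPolynomial ι A' →+* E') hG's).1 h1
    exact ⟨n, by rw [hkerq]; exact hn, hn'⟩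
  choose n hn hGn using hex
  let F'' : σ → MvPolynomial ι A' := fun s => F' s - n s
  have hF'' : ∀ s, map p (F'' s) = D.FA s := by
    intro s
    show q (F' s - n s) = D.FA s
    rw [map_sub, (RingHom.mem_ker).1 (hn s), sub_zero]
    exact hF' s
  have hGF'' : ∀ s, G' (F'' s) = 0 := by
    intro s
    show G' (F' s - n s) = 0
    rw [map_sub, hGn, sub_self]
  rw [← omega_indep X D F' hF' F'' hF'' a]
  -- the cocycle of `F''` vanishes
  have hqF : (fun s => q (F'' s)) = D.FA := funext hF''
  have hjj : RingHom.ker q * RingHom.ker q = ⊥ := by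
    rw [hkerq, ← Ideal.map_mul, X.ker_sq, Ideal.map_bot]
  have hkerG : RingHom.ker (G' : MvPolynomial ι A' →+* E') ≤
      Ideal.span (Set.range F'') ⊔ RingHom.ker q := by
    intro w hw
    have hw0 : G' w = 0 := hw
    have h1 : q w ∈ Ideal.span (Set.range D.FA) := by
      rw [hFAgen', RingHom.mem_ker]
      show φ (q w) = 0
      rw [← hπG, hw0, map_zero]
    rw [Ideal.span, ← Finsupp.range_linearCombination] at h1
    obtain ⟨c', hc'⟩ := h1
    obtain ⟨c, rfl⟩ := qσ_surjective (σ := σ) q hq c'
    have h2 : q (Finsupp.linearCombination _ F'' c) = q w := by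
      rw [← ev_qσ, hqF]; exact hc'
    have h3 : w - Finsupp.linearCombination _ F'' c ∈ RingHom.ker q := by
      rw [RingHom.mem_ker, map_sub, h2, sub_self]
    have : w = Finsupp.linearCombination _ F'' c + (w - Finsupp.linearCombination _ F'' c) := by
      abel
    rw [this]
    refine Submodule.add_mem_sup ?_ h3
    rw [Ideal.span, ← Finsupp.range_linearCombination]
    exact LinearMap.mem_range_self _ _
  have hcoc : coc X D F'' hF'' = 0 := by
    apply cocycle_eq_zero_of_lift
    intro r hr
    have hy : linearCombination _ F'' r ∈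
        (RingHom.ker p).map (algebraMap A' (MvPolynomial ι A')) := by
      rw [← hkerq'] at hr
      rw [hkerq] at hr
      exact hr
    have hy0 : G' (linearCombination _ F'' r) = 0 := by
      rw [Finsupp.linearCombination_apply, Finsupp.sum, map_sum]
      refine Finset.sum_eq_zero fun s _ => ?_
      rw [smul_eq_mul, map_mul, hGF'', mul_zero]
    have h1 := flat_inter_ideal G' hG's (RingHom.ker p) hy hy0
    have h2 : (RingHom.ker p).map (algebraMap A' (MvPolynomial ι A')) *
        RingHom.ker (G' : MvPolynomial ι A' →+* E') ≤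
        RingHom.ker q * Ideal.span (Set.range F'') := by
      have e : (RingHom.ker p).map (algebraMap A' (MvPolynomial ι A')) = RingHom.ker q :=
        hkerq.symm
      rw [e]
      calc RingHom.ker q * RingHom.ker (G' : MvPolynomial ι A' →+* E')
          ≤ RingHom.ker q * (Ideal.span (Set.range F'') ⊔ RingHom.ker q) :=
            Ideal.mul_mono_right hkerG
        _ = RingHom.ker q * Ideal.span (Set.range F'') ⊔ RingHom.ker q * RingHom.ker q :=
            Ideal.mul_sup _ _ _
        _ = RingHom.ker q * Ideal.span (Set.range F'') := by rw [hjj, sup_bot_eq]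
    obtain ⟨m, hm, hm'⟩ := exists_coords_of_mem_mul (RingHom.ker q) F'' (h2 h1)
    refine ⟨r - m, by rw [map_sub, hm', sub_self], ?_⟩
    rw [map_sub]
    refine sub_eq_self.2 ?_
    refine Finsupp.ext fun s => ?_
    rw [qσ_apply]
    show map res' (m s) = 0
    rw [← map_res_map_p res' res p X.hres, (RingHom.mem_ker).1 (hm s), map_zero]
  unfold omega
  have hcomp0 : comp X D F'' hF'' a = 0 := by
    apply Subtype.ext
    apply LinearMap.ext
    intro κ
    show coc X D F'' hF'' κ a = 0
    rw [hcoc]
    rfl
  rw [hcomp0, map_zero]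

end Lift

end Groth.Agent.Lib.ObsGenH3
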