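import Mathlib
import Groth.Prelude.Def_CotT
import Groth.Agent.Lib.ObsGenF_helper3

/-!
# Functoriality of the obstruction classes in the extension (helper3)
-/

set_option autoImplicit false
set_option linter.unusedSectionVars false
set_option linter.style.haveILetI false

universe u

namespace Groth.Agent.Lib.ObsGenH3

open MvPolynomial Finsupp CotT TensorProduct

variable {k : Type u} [Field k] {B₀ : Type u} [CommRing B₀] [Algebra k B₀] {ι σ : Type u}
  {P : Algebra.Presentation k B₀ ι σ}
  {A' A'' A : Type u} [CommRing A'] [CommRing A''] [CommRing A] {res' : A' →+* k}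
  {res'' : A'' →+* k} {res : A →+* k} {p : A' →+* A} {p'' : A'' →+* A}
  {T T'' : Type} [Fintype T] [Fintype T'']
  (X : ExtData res' res p T) (X'' : ExtData res'' res p'' T'') (D : DefData P res)
  (ψ : A' →+* A'') (hψp : ∀ a, p'' (ψ a) = p a)
  (M₀ : T → T'' → A'') (hM : ∀ a, ψ (X.τ a) = ∑ b, M₀ a b * X''.τ b)
  (F' : σ → MvPolynomial ι A') (hF' : ∀ s, map p (F' s) = D.FA s)
  (F'' : σ → MvPolynomial ι A'') (hF'' : ∀ s, map p'' (F'' s) = D.FA s)

include hψp hM in
theorem omega_functorial (b : T'') :
    omega X'' D F'' hF'' b = ∑ a, res'' (M₀ a b) • omega X D F' hF' a := by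
  have hpp : p''.comp ψ = p := RingHom.ext hψp
  have hrr : res''.comp ψ = res' := by
    apply RingHom.ext
    intro a
    show res'' (ψ a) = res' a
    rw [← X''.hres, hψp, X.hres]
  let F₂ : σ → MvPolynomial ι A'' := fun s => map ψ (F' s)
  have hF₂ : ∀ s, map p'' (F₂ s) = D.FA s := by
    intro s
    show map p'' (map ψ (F' s)) = D.FA s
    rw [MvPolynomial.map_map, hpp, hF']
  rw [omega_indep X'' D F₂ hF₂ F'' hF'' b]
  have hΨ : ∀ x : MvPolynomial ι A',
      (map res'' : MvPolynomial ι A'' →+* P.toExtension.Ring) (map ψ x) =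
        (map res' : MvPolynomial ι A' →+* P.toExtension.Ring) x := by
    intro x
    show map res'' (map ψ x) = map res' x
    rw [MvPolynomial.map_map, hrr]
  have hM' : ∀ a, (map ψ : MvPolynomial ι A' →+* MvPolynomial ι A'') (C (X.τ a)) =
      ∑ b, (C (M₀ a b) : MvPolynomial ι A'') * C (X''.τ b) := by
    intro a
    rw [map_C, hM, map_sum]
    exact Finset.sum_congr rfl fun b _ => by rw [map_mul]
  have hfun := cocycle_functorial (hyp X D F' hF') (map ψ) hΨ (hyp X'' D F₂ hF₂)
    (fun a b => (C (M₀ a b) : MvPolynomial ι A''))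
    (fun a b => algebraMap k P.toExtension.Ring (res'' (M₀ a b))) hM'
    (fun a b => by
      show map res'' (C (M₀ a b)) = algebraMap k (MvPolynomial ι k) (res'' (M₀ a b))
      rw [map_C, MvPolynomial.algebraMap_eq])
  have hcomp : comp X'' D F₂ hF₂ b =
      ∑ a, algebraMap k P.toExtension.Ring (res'' (M₀ a b)) • comp X D F' hF' a := by
    apply Subtype.ext
    rw [Submodule.coe_sum]
    apply LinearMap.ext
    intro κ
    rw [LinearMap.sum_apply]
    show coc X'' D F₂ hF₂ κ b = _
    refine (hfun κ b).trans ?_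
    exact Finset.sum_congr rfl fun a _ => rfl
  unfold omega
  rw [hcomp, map_sum]
  refine Finset.sum_congr rfl fun a _ => ?_
  rw [clsHom_smul]
  rw [← IsScalarTower.algebraMap_apply, algebraMap_smul]

end Groth.Agent.Lib.ObsGenH3
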