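import Mathlib
import Groth.Prelude.Def_ArtFun3
import Groth.Prelude.Def_ArtFun4
import Groth.Prelude.Def_CotT
import Groth.Agent.Lib.ObsGenG_helper3
import Groth.Agent.Lib.AffDef3_helper3
import Groth.Agent.Lib.ObsPS_helper1
import Groth.Agent.Lib.DefRing1_helper3

/-!
# The obstruction element of a deformation of an affine scheme along a semismall extension (helper3)
-/

set_option autoImplicit false
set_option linter.unusedSectionVars false
set_option linter.style.haveILetI false

universe u

namespace Groth.Agent.Lib.ObsGenH3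

open CategoryTheory CategoryTheory.Limits AlgebraicGeometry MvPolynomial CotT TensorProduct
open ArtFun ArtFun.Art
open Groth.Agent.Lib.AffDefH3 (FF DRing)

section Pushout

theorem ker_of_isPushout_cat {R S R' S' : Type u} [CommRing R] [CommRing S] [CommRing R']
    [CommRing S'] (γ : R →+* S) (p : R →+* R') (π : S →+* S') (γ' : R' →+* S')
    (hpo : IsPushout (CommRingCat.ofHom γ) (CommRingCat.ofHom p) (CommRingCat.ofHom π)
      (CommRingCat.ofHom γ')) (hp : Function.Surjective p) :
    RingHom.ker π = (RingHom.ker p).map γ := by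
  let _ : Algebra R S := γ.toAlgebra
  let _ : Algebra R R' := p.toAlgebra
  let _ : Algebra S S' := π.toAlgebra
  let _ : Algebra R' S' := γ'.toAlgebra
  let _ : Algebra R S' := (π.comp γ).toAlgebra
  haveI : IsScalarTower R S S' := IsScalarTower.of_algebraMap_eq fun _ => rfl
  haveI : IsScalarTower R R' S' := IsScalarTower.of_algebraMap_eq fun r =>
    Groth.Agent.Lib.AffDefH3.comm_of_isPushout γ p π γ' hpo r
  have hP : Algebra.IsPushout R S R' S' := CommRingCat.isPushout_iff_isPushout.mp hpo
  haveI := hP
  exact Groth.Agent.MilnorAlg.ker_eq_map (A' := R) (A := R') (C' := S) (C := S') hp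

end Pushout

variable {k : Type u} [Field k] {B₀ : Type u} [CommRing B₀] [Algebra k B₀] {ι σ : Type u}
  (P : Algebra.Presentation k B₀ ι σ)

theorem isNilpotent_ker_res (C : Art k k) : IsNilpotent (RingHom.ker C.res.toRingHom) := by
  rw [Groth.Agent.Lib.DefRingLH3.ker_res]
  exact Groth.Agent.Lib.DefTrivArtH3.isNilpotent_maximalIdeal

/-- the deformation data (with chosen generators and relations) of ring data -/
noncomputable def defData {C : Art k k} (D : DRing B₀ C) : DefData P C.res.toRingHom :=
  let h := Groth.Agent.Lib.ObsT2H3.exists_setup P C.res.toRingHom C.res_surjective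
    (isNilpotent_ker_res C) D.E D.γ D.α D.flat D.surj D.ker' D.comp
  { E := D.E
    γ := D.γ
    α := D.α
    hflat := D.flat
    hα := D.surj
    hkerα := D.ker'
    hcomp := D.comp
    b := h.choose
    FA := h.choose_spec.choose
    hαφ := h.choose_spec.choose_spec.1
    hφs := h.choose_spec.choose_spec.2.1
    hFArel := h.choose_spec.choose_spec.2.2.1
    hFAgen := h.choose_spec.choose_spec.2.2.2 }

section Ext

variable {C' C : Art k k} (p : C' ⟶ C) (hp : IsSemismallExt p)

/-- a basis of the kernel -/
noncomputable def kerBasis :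
    Module.Basis (Fin (Module.finrank k ↥(RingHom.ker p.toAlgHom))) k
      ↥(RingHom.ker p.toAlgHom) :=
  haveI := Groth.Agent.Lib.ObsH1.finite_ker p
  Module.finBasis k _

theorem ker_eq_span_kerBasis :
    RingHom.ker p.toAlgHom.toRingHom =
      Ideal.span (Set.range fun a => ((kerBasis p a : ↥(RingHom.ker p.toAlgHom)) : C')) := by
  apply le_antisymm
  · intro x hx
    have hx' : x ∈ RingHom.ker p.toAlgHom := hx
    have h1 := (kerBasis p).sum_repr ⟨x, hx'⟩
    have h2 := congrArg (fun j : ↥(RingHom.ker p.toAlgHom) => (j : C')) h1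
    simp only [Submodule.coe_sum, Submodule.coe_smul_of_tower] at h2
    rw [← h2]
    refine Ideal.sum_mem _ fun a _ => ?_
    rw [Algebra.smul_def]
    exact Ideal.mul_mem_left _ _ (Ideal.subset_span ⟨a, rfl⟩)
  · rw [Ideal.span_le]
    rintro _ ⟨a, rfl⟩
    exact (kerBasis p a).2

include hp in
theorem ann_kerBasis (a : Fin (Module.finrank k ↥(RingHom.ker p.toAlgHom))) (x : C')
    (hx : C'.res.toRingHom x = 0) :
    x * ((kerBasis p a : ↥(RingHom.ker p.toAlgHom)) : C') = 0 := by
  have hx' : x ∈ IsLocalRing.maximalIdeal C' := (Art.mem_maximalIdeal_iff C' x).2 hx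
  exact Groth.Agent.Lib.ObsH1.mul_eq_zero_of_semismall p hp hx'
    ((RingHom.mem_ker).1 (kerBasis p a).2)

include hp in
theorem indep_kerBasis (c : Fin (Module.finrank k ↥(RingHom.ker p.toAlgHom)) → C')
    (hc : ∑ a, c a * ((kerBasis p a : ↥(RingHom.ker p.toAlgHom)) : C') = 0)
    (a : Fin (Module.finrank k ↥(RingHom.ker p.toAlgHom))) : C'.res.toRingHom (c a) = 0 := by
  have h1 : ∀ a, c a * ((kerBasis p a : ↥(RingHom.ker p.toAlgHom)) : C') =
      algebraMap k C' (C'.res (c a)) * ((kerBasis p a : ↥(RingHom.ker p.toAlgHom)) : C') := by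
    intro a
    rw [← sub_eq_zero, ← sub_mul]
    apply ann_kerBasis p hp
    show C'.res (c a - algebraMap k C' (C'.res (c a))) = 0
    rw [map_sub, AlgHom.commutes, sub_eq_zero]
    rfl
  have h2 : ∑ a, C'.res (c a) • kerBasis p a = 0 := by
    apply Subtype.ext
    rw [Submodule.coe_sum]
    simp only [Submodule.coe_smul_of_tower, Submodule.coe_zero]
    rw [← hc]
    refine Finset.sum_congr rfl fun a _ => ?_
    rw [h1 a, Algebra.smul_def]
  exact Fintype.linearIndependent_iff.1 (kerBasis p).linearIndependent _ h2 a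

/-- the ring-level extension data of a semismall extension -/
noncomputable def extData : ExtData C'.res.toRingHom C.res.toRingHom p.toAlgHom.toRingHom
    (Fin (Module.finrank k ↥(RingHom.ker p.toAlgHom))) where
  hres := fun a => Art.res_app p a
  hsres := C.res_surjective
  hp := hp.1
  τ := fun a => ((kerBasis p a : ↥(RingHom.ker p.toAlgHom)) : C')
  hτker := ker_eq_span_kerBasis p
  hτann := fun a x hx => ann_kerBasis p hp a x hx
  hτind := fun c hc a => indep_kerBasis p hp c hc a

include hp in
theorem exists_liftF (FA : σ → MvPolynomial ι C) :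
    ∃ F' : σ → MvPolynomial ι C', ∀ s, map p.toAlgHom.toRingHom (F' s) = FA s := by
  choose F' hF' using fun s => map_surjective p.toAlgHom.toRingHom hp.1 (FA s)
  exact ⟨F', hF'⟩

/-- the obstruction element of ring data -/
noncomputable def obsOf (D : DRing B₀ C) : T2 P B₀ ⊗[k] ↥(RingHom.ker p.toAlgHom) :=
  ∑ a, omega (extData p hp) (defData P D) (exists_liftF p hp (defData P D).FA).choose
    (exists_liftF p hp (defData P D).FA).choose_spec a ⊗ₜ[k] kerBasis p a

theorem sum_tmul_kerBasis_eq_zero_iff
    (v : Fin (Module.finrank k ↥(RingHom.ker p.toAlgHom)) → T2 P B₀) :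
    ∑ a, v a ⊗ₜ[k] kerBasis p a = 0 ↔ ∀ a, v a = 0 := by
  constructor
  · intro h a
    have h' : ((Finsupp.equivFunOnFinite.symm v).sum fun i m => m ⊗ₜ[k] kerBasis p i) = 0 := by
      rw [Finsupp.sum_fintype (Finsupp.equivFunOnFinite.symm v)
        (fun i m => m ⊗ₜ[k] kerBasis p i) (fun i => TensorProduct.zero_tmul _ _)]
      exact h
    have h2 := TensorProduct.sum_tmul_basis_right_eq_zero (kerBasis p) _ h'
    have h3 := congrArg (fun f : Fin (Module.finrank k ↥(RingHom.ker p.toAlgHom)) →₀ T2 P B₀ =>
      f a) h2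
    exact h3
  · intro h
    refine Finset.sum_eq_zero fun a _ => ?_
    rw [h a, TensorProduct.zero_tmul]

end Ext

end Groth.Agent.Lib.ObsGenH3
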