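import Mathlib
import Groth.Prelude.Def_ArtFun3
import Groth.Prelude.Def_ArtFun4
import Groth.Prelude.Def_CotT
import Groth.Agent.Lib.ObsGenH_helper3

/-!
# The obstruction theory of `Def_{Spec B₀}` with values in `T²(B₀/k, B₀)` (helper3)
-/

set_option autoImplicit false
set_option linter.unusedSectionVars false
set_option linter.style.haveILetI false

universe u

namespace Groth.Agent.Lib.ObsGenH3

open CategoryTheory CategoryTheory.Limits AlgebraicGeometry MvPolynomial CotT TensorProduct
open ArtFun ArtFun.Art
open Groth.Agent.Lib.AffDefH3 (FF DRing)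

variable {k : Type u} [Field k] {B₀ : Type u} [CommRing B₀] [Algebra k B₀] {ι σ : Type u}
  (P : Algebra.Presentation k B₀ ι σ)

section Ext

variable {C' C : Art k k} (p : C' ⟶ C) (hp : IsSemismallExt p)

theorem obsOf_eq_zero_iff (D : DRing B₀ C) :
    obsOf P p hp D = 0 ↔ ∃ u' : (FF k k B₀).obj C', (FF k k B₀).map p u' = D.cl := by
  unfold obsOf
  rw [sum_tmul_kerBasis_eq_zero_iff]
  constructor
  · intro h0
    obtain ⟨E', _, γ', α', π, hflat', hα', hkerα', hcomp', hπγ, hπs, hkerπ, hαπ⟩ :=
      exists_lift_of_omega_eq_zero (extData p hp) (defData P D) _ _ h0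
    let D' : DRing B₀ C' :=
      { E := E'
        γ := γ'
        α := α'
        flat := hflat'
        surj := hα'
        ker := by rw [hkerα', Groth.Agent.Lib.DefRingLH3.ker_res]
        comp := hcomp' }
    have hpo := Groth.Agent.Lib.DefRingH3.isPushout_of_surjective γ' p.toAlgHom.toRingHom
      (π : E' →+* D.E) D.γ hπγ hp.1 hπs hkerπ
    exact ⟨D'.cl, DRing.map_cl_of_isPushout p D' D π hαπ hpo⟩
  · rintro ⟨u', hu'⟩ a
    obtain ⟨D', rfl⟩ := DRing.exists_rep u'
    rw [DRing.map_cl] at hu'
    obtain ⟨e⟩ := DRing.equiv_of_cl_eq hu'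
    let π : D'.E →+* D.E := (e.Φ : (D'.bc p).E →+* D.E).comp (D'.bcMap p)
    have hpo := D'.bc_isPushout p
    have hπγ : ∀ a, π (D'.γ a) = D.γ (p.toAlgHom.toRingHom a) := by
      intro a
      show e.Φ (D'.bcMap p (D'.γ a)) = _
      rw [Groth.Agent.Lib.AffDefH3.comm_of_isPushout _ _ _ _ hpo, e.hγ]
    have hπs : Function.Surjective π :=
      e.Φ.surjective.comp
        (Groth.Agent.Lib.AffDefH3.surjective_of_isPushout_cat _ _ _ _ hpo hp.1)
    have hkerπ : RingHom.ker π = (RingHom.ker p.toAlgHom.toRingHom).map D'.γ := by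
      rw [← ker_of_isPushout_cat _ _ _ _ hpo hp.1]
      ext x
      rw [RingHom.mem_ker, RingHom.mem_ker]
      show e.Φ (D'.bcMap p x) = 0 ↔ _
      rw [map_eq_zero_iff _ e.Φ.injective]
    exact omega_eq_zero_of_lift (extData p hp) (defData P D) _ _ D'.E D'.γ D'.flat π hπγ hπs
      hkerπ a

theorem obsOf_quot (D : DRing B₀ C) (K : Ideal C') (hK : K ≤ IsLocalRing.maximalIdeal C')
    (hKJ : K ≤ RingHom.ker p.toAlgHom) (hq : IsSemismallExt (quotFactor hK p hKJ)) :
    obsOf P (quotFactor hK p hKJ) hq D =
      LinearMap.lTensor (T2 P B₀) ((kerToQuot hK p hKJ).restrictScalars k) (obsOf P p hp D) := by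
  unfold obsOf
  rw [map_sum]
  simp only [LinearMap.lTensor_tmul, LinearMap.restrictScalars_apply]
  -- coordinates of the images of the basis vectors
  let r : Fin (Module.finrank k ↥(RingHom.ker p.toAlgHom)) →
      Fin (Module.finrank k ↥(RingHom.ker (quotFactor hK p hKJ).toAlgHom)) → k :=
    fun a b => (kerBasis (quotFactor hK p hKJ)).repr (kerToQuot hK p hKJ (kerBasis p a)) b
  have hr : ∀ a, kerToQuot hK p hKJ (kerBasis p a) =
      ∑ b, r a b • kerBasis (quotFactor hK p hKJ) b := fun a =>
    ((kerBasis (quotFactor hK p hKJ)).sum_repr _).symm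
  have hfun : ∀ b, omega (extData (quotFactor hK p hKJ) hq) (defData P D)
      (exists_liftF (quotFactor hK p hKJ) hq (defData P D).FA).choose
      (exists_liftF (quotFactor hK p hKJ) hq (defData P D).FA).choose_spec b =
      ∑ a, r a b • omega (extData p hp) (defData P D) (exists_liftF p hp (defData P D).FA).choose
        (exists_liftF p hp (defData P D).FA).choose_spec a := by
    intro b
    have h := omega_functorial (extData p hp) (extData (quotFactor hK p hKJ) hq) (defData P D)
      (quotMk C' K hK).toAlgHom.toRingHom (fun _ => rfl)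
      (fun a b => algebraMap k (quot C' K hK) (r a b))
      (fun a => by
        have h1 := congrArg
          (fun j : ↥(RingHom.ker (quotFactor hK p hKJ).toAlgHom) => (j : quot C' K hK)) (hr a)
        simp only [Submodule.coe_sum, Submodule.coe_smul_of_tower] at h1
        refine Eq.trans ?_ (h1.trans ?_)
        · rfl
        · exact Finset.sum_congr rfl fun b _ => by rw [Algebra.smul_def]; rfl)
      (exists_liftF p hp (defData P D).FA).choose
      (exists_liftF p hp (defData P D).FA).choose_spec
      (exists_liftF (quotFactor hK p hKJ) hq (defData P D).FA).choose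
      (exists_liftF (quotFactor hK p hKJ) hq (defData P D).FA).choose_spec b
    rw [h]
    refine Finset.sum_congr rfl fun a _ => ?_
    congr 1
    show (quot C' K hK).res (algebraMap k (quot C' K hK) (r a b)) = r a b
    rw [AlgHom.commutes]
    rfl
  simp only [hfun, hr, TensorProduct.tmul_sum, TensorProduct.sum_tmul, TensorProduct.tmul_smul,
    TensorProduct.smul_tmul']
  rw [Finset.sum_comm]

end Ext

/-- the obstruction theory of `Def_{Spec B₀}` with values in `T²` -/
noncomputable def obsTheory : ArtFun.ObsTheory (FF k k B₀) (T2 P B₀) where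
  obs p hp u := obsOf P p hp (DRing.exists_rep u).choose
  obs_eq_zero_iff p hp u := by
    rw [obsOf_eq_zero_iff, (DRing.exists_rep u).choose_spec]
  obs_quot p hp K hK hKJ hq u := obsOf_quot P p hp _ K hK hKJ hq

end Groth.Agent.Lib.ObsGenH3
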