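import Mathlib
import Groth.Prelude.Def_ArtFun3
import Groth.Prelude.Def_ArtFun4
import Groth.Prelude.Def_CotT
import Groth.Agent.Lib.CotKaehler_lead
import Groth.Agent.Lib.ArtFunMin_helper1

/-!
# The tangent space of a complete local `k`-algebra with residue field `k` (helper3)

`finrank_der_eq : dim_k Der_k(R, k) = embdim R` for a Noetherian local `k`-algebra with an
augmentation `R → k`.
-/

set_option autoImplicit false
set_option linter.unusedSectionVars false
set_option linter.style.haveILetI false

universe u

namespace Groth.Agent.Lib.ObsGenH3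

open IsLocalRing Groth.Agent.Lib.MinH1

section DerDim

variable {k : Type u} [Field k] {R : Type u} [CommRing R] [IsLocalRing R] [IsNoetherianRing R]
  [Algebra k R] (res : R →ₐ[k] k)

theorem res_algebraMap (c : k) : res (algebraMap k R c) = c := by
  rw [AlgHom.commutes]
  rfl

theorem ker_res_eq : RingHom.ker (res : R →+* k) = maximalIdeal R := by
  have hs : Function.Surjective (res : R →+* k) :=
    fun c => ⟨algebraMap k R c, res_algebraMap res c⟩
  haveI := RingHom.ker_isMaximal_of_surjective (res : R →+* k) hs
  exact IsLocalRing.eq_maximalIdeal this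

theorem res_eq_zero_of_mem {m : R} (hm : m ∈ maximalIdeal R) : res m = 0 := by
  rw [← ker_res_eq res] at hm
  exact hm

theorem sub_res_mem (r : R) : r - algebraMap k R (res r) ∈ maximalIdeal R := by
  rw [← ker_res_eq res, RingHom.mem_ker]
  show res (r - algebraMap k R (res r)) = 0
  rw [map_sub, res_algebraMap, sub_self]

include res in
theorem algebraMap_residueField_bijective :
    Function.Bijective (algebraMap k (ResidueField R)) := by
  refine ⟨(algebraMap k (ResidueField R)).injective, fun x => ?_⟩
  obtain ⟨r, rfl⟩ := IsLocalRing.residue_surjective x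
  refine ⟨res r, ?_⟩
  have h1 : residue R (r - algebraMap k R (res r)) = 0 :=
    (residue_eq_zero_iff _).2 (sub_res_mem res r)
  rw [map_sub, sub_eq_zero] at h1
  rw [h1]
  exact IsScalarTower.algebraMap_apply k R (ResidueField R) (res r)

theorem der_eq_zero_of_gens (s : Set R) (hs : Ideal.span s = maximalIdeal R) (D : Der res)
    (h : ∀ g ∈ s, D.1 g = 0) : D = 0 := by
  have hm : ∀ m ∈ maximalIdeal R, D.1 m = 0 := by
    intro m hm
    rw [← hs] at hm
    refine Submodule.span_induction (p := fun x _ => D.1 x = 0) ?_ ?_ ?_ ?_ hm
    · intro x hx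
      exact h x hx
    · exact der_zero res D
    · intro x y _ _ hx hy
      rw [der_add, hx, hy, add_zero]
    · intro a x hx hx0
      have h0 : res x = 0 := res_eq_zero_of_mem res (hs ▸ hx)
      rw [smul_eq_mul, der_mul, hx0, mul_zero, zero_add, h0, zero_mul]
  apply Subtype.ext
  funext r
  have h2 : D.1 r = D.1 (algebraMap k R (res r)) + D.1 (r - algebraMap k R (res r)) := by
    rw [← der_add]
    exact congrArg D.1 (by ring)
  show D.1 r = 0
  rw [h2, der_alg, zero_add]
  exact hm _ (sub_res_mem res r)

/-- evaluation of derivations on a finite set -/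
noncomputable def evGens (s : Finset R) : Der res →ₗ[k] (s → k) where
  toFun D := fun g => D.1 g.1
  map_add' _ _ := rfl
  map_smul' _ _ := rfl

theorem evGens_injective (s : Finset R) (hs : Ideal.span (s : Set R) = maximalIdeal R) :
    Function.Injective (evGens res s) := by
  rw [← LinearMap.ker_eq_bot, LinearMap.ker_eq_bot']
  intro D hD
  apply der_eq_zero_of_gens res (s : Set R) hs D
  intro g hg
  exact congrFun hD ⟨g, hg⟩

theorem finite_der : Module.Finite k (Der res) := by
  obtain ⟨s, -, hspan⟩ := Submodule.FG.exists_span_finset_card_eq_spanFinrank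
    (IsNoetherian.noetherian (maximalIdeal R))
  exact Module.Finite.of_injective (evGens res s) (evGens_injective res s hspan)

theorem finrank_der_le : Module.finrank k (Der res) ≤ (maximalIdeal R).spanFinrank := by
  obtain ⟨s, hs, hspan⟩ := Submodule.FG.exists_span_finset_card_eq_spanFinrank
    (IsNoetherian.noetherian (maximalIdeal R))
  have h := LinearMap.finrank_le_finrank_of_injective (evGens_injective res s hspan)
  rw [Module.finrank_fintype_fun_eq_card, Fintype.card_coe, hs] at h
  exact h

/-- projection to the maximal ideal -/
noncomputable def δm (r : R) : maximalIdeal R :=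
  ⟨r - algebraMap k R (res r), sub_res_mem res r⟩

theorem δm_add (r s : R) : δm res (r + s) = δm res r + δm res s := by
  apply Subtype.ext
  show r + s - algebraMap k R (res (r + s)) =
    (r - algebraMap k R (res r)) + (s - algebraMap k R (res s))
  rw [map_add, map_add]
  ring

theorem δm_mul (r s : R) :
    δm res (r * s) = r • δm res s + algebraMap k R (res s) • δm res r := by
  apply Subtype.ext
  show r * s - algebraMap k R (res (r * s)) =
    r * (s - algebraMap k R (res s)) +
      algebraMap k R (res s) * (r - algebraMap k R (res r))
  rw [map_mul, map_mul]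
  ring

theorem δm_algebraMap (c : k) : δm res (algebraMap k R c) = 0 := by
  apply Subtype.ext
  show algebraMap k R c - algebraMap k R (res (algebraMap k R c)) = 0
  rw [res_algebraMap, sub_self]

theorem δm_of_mem (m : maximalIdeal R) : δm res m.1 = m := by
  apply Subtype.ext
  show m.1 - algebraMap k R (res m.1) = m.1
  rw [res_eq_zero_of_mem res m.2, map_zero, sub_zero]

theorem smul_cot (r : R) (v : CotangentSpace R) : r • v = res r • v := by
  have h := Ideal.Cotangent.smul_eq_zero_of_mem (sub_res_mem res r) v
  rw [sub_smul, sub_eq_zero, algebraMap_smul] at h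
  exact h

/-- functionals on the cotangent space give derivations -/
noncomputable def dualToDer' : Module.Dual k (CotangentSpace R) →ₗ[k] Der res where
  toFun ℓ := ⟨fun r => ℓ ((maximalIdeal R).toCotangent (δm res r)), by
    rw [mem_Der]
    refine ⟨fun s t => ?_, fun s t => ?_, fun c => ?_⟩
    · rw [δm_add, map_add, map_add]
    · have e1 : (maximalIdeal R).toCotangent (δm res (s * t)) =
          res s • (maximalIdeal R).toCotangent (δm res t) +
            res t • (maximalIdeal R).toCotangent (δm res s) := by
        rw [δm_mul, map_add, map_smul, map_smul, smul_cot res s, algebraMap_smul]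
      rw [e1, map_add, map_smul, map_smul, smul_eq_mul, smul_eq_mul]
    · rw [δm_algebraMap, map_zero, map_zero]⟩
  map_add' _ _ := rfl
  map_smul' _ _ := rfl

theorem dualToDer'_injective : Function.Injective (dualToDer' res) := by
  rw [← LinearMap.ker_eq_bot, LinearMap.ker_eq_bot']
  intro ℓ hℓ
  apply LinearMap.ext
  intro v
  obtain ⟨m, rfl⟩ := Ideal.toCotangent_surjective _ v
  have h2 : (dualToDer' res ℓ).1 m.1 = 0 := by
    rw [hℓ]
    rfl
  change ℓ ((maximalIdeal R).toCotangent (δm res m.1)) = 0 at h2
  rw [δm_of_mem] at h2
  exact h2

/-- the tangent space of `R` has dimension the embedding dimension -/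
theorem finrank_der_eq : Module.finrank k (Der res) = (maximalIdeal R).spanFinrank := by
  apply le_antisymm (finrank_der_le res)
  have hbij := algebraMap_residueField_bijective res
  haveI := Groth.Agent.Lib.CotKaehler.tower_cot k R
  have h1 : Module.finrank k (CotangentSpace R) =
      Module.finrank (ResidueField R) (CotangentSpace R) :=
    Groth.Agent.Lib.CotKaehler.finrank_eq_of_bij k _ _ hbij
  rw [spanFinrank_maximalIdeal_eq_finrank_cotangentSpace, ← h1, ← Subspace.dual_finrank_eq]
  haveI := finite_der res
  exact LinearMap.finrank_le_finrank_of_injective (dualToDer'_injective res)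

end DerDim

end Groth.Agent.Lib.ObsGenH3
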