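import Mathlib
import Groth.Prelude.Def_ArtFun3
import Groth.Prelude.Def_ArtFun4
import Groth.Prelude.Def_CotT
import Groth.Agent.Lib.ObsGenI_helper3
import Groth.Agent.Lib.ObsGenJ_helper3
import Groth.Agent.Lib.AffDef10_helper3
import Groth.Agent.Lib.ObsDim_helper1
import Groth.Agent.Lib.ArtFunMin_helper1
import Groth.Agent.Lib.ArtFunHull_helper1
import Groth.Agent.Lib.ArtFunKT_helper1
import Groth.Agent.Lib.RegPS_helper3
import Groth.Agent.S12289

/-!
# Dimension of the hull of `Def_{Spec B₀}` (helper3)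

`dim R̄ ≤ dim T¹`, `dim T¹ ≤ dim R̄ + dim T²`, and `dim R̄ = dim T¹ ↔ Def` unobstructed.
-/

set_option autoImplicit false
set_option linter.unusedSectionVars false
set_option linter.style.haveILetI false

universe u v

namespace Groth.Agent.Lib.ObsGenH3

open CategoryTheory IsLocalRing CotT
open ArtFun ArtFun.Art
open Groth.Agent.Lib.AffDefH3 (FF DRing QT HasLifts tauEquiv tangentStr hasLifts_presentation')
open Groth.Agent.Lib.MinH1 (Der toHom ofHom toHom_ofHom ofHom_toHom theta theta_apply)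

section Smooth

variable {Λ : Type u} {k : Type u} [CommRing Λ] [Field k] [Algebra Λ k]
  {F : Art Λ k ⥤ Type v}

theorem smoothFunctor_iff_hR {R : Type u} [CommRing R] [Algebra Λ R] {resR : R →ₐ[Λ] k}
    (ξ : Family R resR F) (hv : IsVersal ξ) (hsurj : ∀ A, Function.Surjective (ξ.app A)) :
    IsSmoothFunctor F ↔ IsSmoothFunctor (hR R resR) := by
  constructor
  · intro hs B A μ hμ φ
    obtain ⟨y, hy⟩ := hs μ hμ (ξ.app A φ)
    obtain ⟨ψ, hψ, -⟩ := hv μ hμ φ y hy
    exact ⟨ψ, hψ⟩
  · intro hs B A μ hμ x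
    obtain ⟨φ, rfl⟩ := hsurj A x
    obtain ⟨ψ, hψ⟩ := hs μ hμ φ
    refine ⟨ξ.app B ψ, ?_⟩
    rw [← ξ.natural]
    exact congrArg (ξ.app A) hψ

end Smooth

section Main

variable {k : Type u} [Field k] {B₀ : Type u} [CommRing B₀] [Algebra k B₀] {ι σ : Type u}
  (P : Algebra.Presentation k B₀ ι σ)

/-- `Hom(I/I², B₀)/Hom(Ω_P ⊗ B₀, B₀) ≃ T¹` -/
noncomputable def qtEquivT1 : QT P.toExtension ≃ₗ[k] CotT.T1 P B₀ :=
  ((Submodule.quotEquivOfEq _ _ (Groth.Agent.S12289.result k B₀ ι σ P B₀).2.1.symm) ≪≫ₗ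
    (CotT.homToT1 P B₀).quotKerEquivOfSurjective
      (Groth.Agent.S12289.result k B₀ ι σ P B₀).2.2).restrictScalars k

theorem toHom_bijective {R : Type u} [CommRing R] [Algebra k R] (res : R →ₐ[k] k) :
    Function.Bijective (toHom (Λ := k) res) :=
  Function.bijective_iff_has_inverse.2 ⟨ofHom res, ofHom_toHom res, toHom_ofHom res⟩

theorem finrank_T1_eq (H : ArtFun.Hull (FF k k B₀)) :
    Module.finrank k (CotT.T1 P B₀) = (maximalIdeal H.ring.carrier).spanFinrank := by
  have hl := hasLifts_presentation' P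
  letI := tangentStr (Λ := k) hl
  have e1 : ArtFun.TangentSpace (FF k k B₀) ≃ₗ[k] QT P.toExtension :=
    Equiv.linearEquiv k (tauEquiv hl)
  have hθ : Function.Bijective (theta H.family) := by
    have h1 : ⇑(theta H.family) = (H.family.app (dual k k)) ∘ (toHom H.ring.res) := by
      funext D
      exact theta_apply _ D
    rw [h1]
    exact H.miniversal.2.comp (toHom_bijective H.ring.res)
  have e2 := LinearEquiv.ofBijective (theta H.family) hθ
  rw [← finrank_der_eq H.ring.res, e2.finrank_eq, e1.finrank_eq, (qtEquivT1 P).finrank_eq]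

theorem isAdicComplete_field : IsAdicComplete (maximalIdeal k) k := by
  rw [IsLocalRing.maximalIdeal_eq_bot]
  infer_instance

theorem main12268 [Module.Finite k (CotT.T1 P B₀)] (H : ArtFun.Hull (FF k k B₀)) :
    ringKrullDim H.ring.carrier ≤ ((Module.finrank k (CotT.T1 P B₀) : ℕ∞) : WithBot ℕ∞) ∧
      (Module.Finite k (CotT.T2 P B₀) →
        ((Module.finrank k (CotT.T1 P B₀) : ℕ∞) : WithBot ℕ∞) ≤
          ringKrullDim H.ring.carrier +
            ((Module.finrank k (CotT.T2 P B₀) : ℕ∞) : WithBot ℕ∞)) ∧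
      (ringKrullDim H.ring.carrier = ((Module.finrank k (CotT.T1 P B₀) : ℕ∞) : WithBot ℕ∞) ↔
        ArtFun.IsSmoothFunctor (FF k k B₀)) := by
  have hT1 := finrank_T1_eq P H
  rw [hT1]
  have hcast : ∀ n : ℕ, ((n : ℕ∞) : WithBot ℕ∞) = (n : WithBot ℕ∞) := fun n => rfl
  rw [hcast, hcast]
  haveI := isAdicComplete_field (k := k)
  haveI := H.ring.isAdicComplete
  have hk : Function.Surjective (algebraMap k k) := fun c => ⟨c, rfl⟩
  have h0 : H0 (FF k k B₀) := Groth.Agent.Lib.MinH1.h0_of_hull H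
  have hsurj : ∀ A : Art k k, Function.Surjective (H.family.app A) := fun A =>
    Groth.Agent.Lib.SchlH1.family_surjective H.family H.miniversal.1 h0
      ⟨⟨H.ring.res, AlgHom.id_comp _⟩⟩ A
  have hsm := smoothFunctor_iff_hR H.family H.miniversal.1 hsurj
  have hps := Groth.Agent.Lib.ArtFunKT.smooth_iff_ps hk H.ring
  refine ⟨ringKrullDim_le_spanFinrank_maximalIdeal _, ?_, ?_⟩
  · intro hfin
    have h := (Groth.Agent.Lib.ObsDimH1.dim_bounds (CotT.T2 P B₀) (obsTheory P) H.ring H.family
      H.miniversal.1).2.1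
    rw [← spanFinrank_maximalIdeal_eq_finrank_cotangentSpace] at h
    exact h
  · rw [hsm, hps]
    constructor
    · intro hdim
      haveI : IsRegularLocalRing H.ring.carrier :=
        IsRegularLocalRing.of_spanFinrank_maximalIdeal_le _ hdim.ge
      have hk' : Function.Surjective
          ((residue H.ring.carrier).comp (algebraMap k H.ring.carrier)) := by
        intro x
        obtain ⟨c, hc⟩ := (algebraMap_residueField_bijective H.ring.res).2 x
        refine ⟨c, ?_⟩
        rw [← hc]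
        exact (IsScalarTower.algebraMap_apply k H.ring.carrier (ResidueField H.ring.carrier) c).symm
      obtain ⟨d, -, ⟨e⟩⟩ :=
        Groth.Agent.Lib.RegPSH3.exists_algEquiv_of_regular_complete H.ring.carrier k hk'
      exact ⟨d, ⟨e⟩⟩
    · rintro ⟨n, ⟨e⟩⟩
      haveI : IsRegularLocalRing (MvPowerSeries (Fin n) k) :=
        Groth.Agent.Lib.RegPSH3.isRegularLocalRing_mvPowerSeries k n
      haveI : IsRegularLocalRing H.ring.carrier :=
        IsRegularLocalRing.of_ringEquiv e.symm.toRingEquiv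
      exact (IsRegularLocalRing.spanFinrank_maximalIdeal (R := H.ring.carrier)).symm

end Main

end Groth.Agent.Lib.ObsGenH3
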