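import Mathlib
import Groth.Prelude

set_option autoImplicit false
set_option linter.style.haveILetI false

universe u v

open CategoryTheory
open scoped TensorProduct
open ArtFun ArtFun.Art

namespace Groth.Agent.Lib.ObsSpanH4

variable {k : Type u} [Field k]

section general

variable {C' C : ArtFun.Art k k} (p : C' ⟶ C) (hp : ArtFun.Art.IsSemismallExt p)

include hp in
lemma mul_eq_res_smul (c : C') (j : C') (hj : j ∈ RingHom.ker p.toAlgHom) :
    c * j = (C'.res c) • j := by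
  have h1 : c - algebraMap k C' (C'.res c) ∈ IsLocalRing.maximalIdeal C' := by
    rw [ArtFun.Art.mem_maximalIdeal_iff, map_sub, AlgHom.commutes]
    show C'.res c - C'.res c = 0
    exact sub_self _
  have h2 : (c - algebraMap k C' (C'.res c)) * j
      ∈ IsLocalRing.maximalIdeal C' * RingHom.ker p.toAlgHom := Ideal.mul_mem_mul h1 hj
  rw [hp.2] at h2
  have h3 : (c - algebraMap k C' (C'.res c)) * j = 0 := (Submodule.mem_bot _).mp h2
  rw [sub_mul, sub_eq_zero] at h3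
  rw [h3, Algebra.smul_def]

lemma ker_le_max : RingHom.ker p.toAlgHom ≤ IsLocalRing.maximalIdeal C' :=
  IsLocalRing.le_maximalIdeal (RingHom.ker_ne_top _)

variable (K : Ideal C') (hK : K ≤ IsLocalRing.maximalIdeal C') (hKJ : K ≤ RingHom.ker p.toAlgHom)

include hp in
lemma quotFactor_surjective : Function.Surjective (ArtFun.Art.quotFactor hK p hKJ) := by
  intro c
  obtain ⟨x, hx⟩ := hp.1 c
  exact ⟨Ideal.Quotient.mk K x, hx⟩

lemma kerToQuot_surjective : Function.Surjective (ArtFun.Art.kerToQuot hK p hKJ) := by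
  rintro ⟨y, hy⟩
  obtain ⟨x, rfl⟩ := Ideal.Quotient.mk_surjective y
  have hx : x ∈ RingHom.ker p.toAlgHom := by
    rw [RingHom.mem_ker] at hy ⊢
    exact hy
  exact ⟨⟨x, hx⟩, Subtype.ext rfl⟩

include hp in
lemma quot_semismall : ArtFun.Art.IsSemismallExt (ArtFun.Art.quotFactor hK p hKJ) := by
  refine ⟨quotFactor_surjective p hp K hK hKJ, ?_⟩
  rw [eq_bot_iff, Ideal.mul_le]
  intro z hz y hy
  obtain ⟨c, rfl⟩ := Ideal.Quotient.mk_surjective z
  obtain ⟨x, rfl⟩ := Ideal.Quotient.mk_surjective y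
  have hc : c ∈ IsLocalRing.maximalIdeal C' := by
    rw [ArtFun.Art.mem_maximalIdeal_iff] at hz ⊢
    exact hz
  have hx : x ∈ RingHom.ker p.toAlgHom := by
    rw [RingHom.mem_ker] at hy ⊢
    exact hy
  have h0 : c * x = 0 := by
    have h := Ideal.mul_mem_mul hc hx
    rw [hp.2] at h
    exact (Submodule.mem_bot _).mp h
  rw [Ideal.mem_bot]
  show Ideal.Quotient.mk K c * Ideal.Quotient.mk K x = 0
  rw [← map_mul, h0, map_zero]

end general

section specific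

variable {C' C : ArtFun.Art k k} (p : C' ⟶ C) (hp : ArtFun.Art.IsSemismallExt p)
  (ℓ : ↥(RingHom.ker p.toAlgHom) →ₗ[k] k)

include hp in
/-- The kernel of `ℓ`, as an ideal of `C'`. -/
def K : Ideal C' where
  carrier := {x | ∃ hx : x ∈ RingHom.ker p.toAlgHom, ℓ ⟨x, hx⟩ = 0}
  zero_mem' := ⟨Submodule.zero_mem _, by
    have h : (⟨0, Submodule.zero_mem _⟩ : ↥(RingHom.ker p.toAlgHom)) = 0 := rfl
    rw [h, map_zero]⟩
  add_mem' := by
    rintro a b ⟨ha, ha'⟩ ⟨hb, hb'⟩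
    refine ⟨Submodule.add_mem _ ha hb, ?_⟩
    have h : (⟨a + b, Submodule.add_mem _ ha hb⟩ : ↥(RingHom.ker p.toAlgHom))
        = ⟨a, ha⟩ + ⟨b, hb⟩ := rfl
    rw [h, map_add, ha', hb', add_zero]
  smul_mem' := by
    rintro c x ⟨hx, hx'⟩
    have hcx : c • x ∈ RingHom.ker p.toAlgHom := Ideal.mul_mem_left _ c hx
    refine ⟨hcx, ?_⟩
    have h : (⟨c • x, hcx⟩ : ↥(RingHom.ker p.toAlgHom)) = (C'.res c) • ⟨x, hx⟩ :=
      Subtype.ext (mul_eq_res_smul p hp c x hx)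
    rw [h, map_smul, hx', smul_zero]

lemma mem_K {x : C'} : x ∈ K p hp ℓ ↔ ∃ hx : x ∈ RingHom.ker p.toAlgHom, ℓ ⟨x, hx⟩ = 0 :=
  Iff.rfl

lemma K_le_ker : K p hp ℓ ≤ RingHom.ker p.toAlgHom := fun _ hx => ((mem_K p hp ℓ).mp hx).1

variable (j₀ : ↥(RingHom.ker p.toAlgHom)) (hj₀ : ℓ j₀ = 1)
  (hK : K p hp ℓ ≤ IsLocalRing.maximalIdeal C') (hKJ : K p hp ℓ ≤ RingHom.ker p.toAlgHom)

include hj₀ in
lemma sub_mem_K (j : ↥(RingHom.ker p.toAlgHom)) :
    ((j - ℓ j • j₀ : ↥(RingHom.ker p.toAlgHom)) : C') ∈ K p hp ℓ := by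
  refine (mem_K p hp ℓ).mpr ⟨(j - ℓ j • j₀).2, ?_⟩
  show ℓ (j - ℓ j • j₀) = 0
  rw [map_sub, map_smul, hj₀, smul_eq_mul, mul_one, sub_self]

include hj₀ in
lemma kerToQuot_eq (j : ↥(RingHom.ker p.toAlgHom)) :
    ArtFun.Art.kerToQuot hK p hKJ j = ℓ j • ArtFun.Art.kerToQuot hK p hKJ j₀ := by
  have h : ArtFun.Art.kerToQuot hK p hKJ (j - ℓ j • j₀) = 0 := by
    apply Subtype.ext
    show Ideal.Quotient.mk (K p hp ℓ) ((j - ℓ j • j₀ : ↥(RingHom.ker p.toAlgHom)) : C') = 0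
    exact Ideal.Quotient.eq_zero_iff_mem.mpr (sub_mem_K p hp ℓ j₀ hj₀ j)
  rw [map_sub, map_smul, sub_eq_zero] at h
  exact h

include hj₀ in
lemma kerToQuot_ne : ArtFun.Art.kerToQuot hK p hKJ j₀ ≠ 0 := by
  intro h
  have h1 : Ideal.Quotient.mk (K p hp ℓ) (j₀ : C') = 0 := congrArg Subtype.val h
  rw [Ideal.Quotient.eq_zero_iff_mem] at h1
  obtain ⟨hx, hx'⟩ := (mem_K p hp ℓ).mp h1
  have h2 : ℓ j₀ = 0 := hx'
  rw [hj₀] at h2
  exact one_ne_zero h2

include hj₀ in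
lemma quot_small : ArtFun.Art.IsSmallExt (ArtFun.Art.quotFactor hK p hKJ) := by
  refine ⟨quotFactor_surjective p hp _ hK hKJ, ?_, ?_, (quot_semismall p hp _ hK hKJ).2⟩
  · intro h
    have hgen : ∀ (I : Ideal (ArtFun.Art.quot C' (K p hp ℓ) hK)), I = ⊥ → ∀ z ∈ I, z = 0 := by
      rintro I rfl z hz
      exact Ideal.mem_bot.mp hz
    have hmem := hgen _ h _ (ArtFun.Art.kerToQuot hK p hKJ j₀).2
    exact kerToQuot_ne p hp ℓ j₀ hj₀ hK hKJ (Subtype.ext hmem)
  · refine ⟨⟨(ArtFun.Art.kerToQuot hK p hKJ j₀).1, ?_⟩⟩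
    apply le_antisymm
    · intro y hy
      obtain ⟨j, hj⟩ := kerToQuot_surjective p _ hK hKJ ⟨y, hy⟩
      rw [Submodule.mem_span_singleton]
      refine ⟨algebraMap k _ (ℓ j), ?_⟩
      have h1 := congrArg Subtype.val (kerToQuot_eq p hp ℓ j₀ hj₀ hK hKJ j)
      have h2 : (ArtFun.Art.kerToQuot hK p hKJ j).1 = y := congrArg Subtype.val hj
      rw [← h2, h1, smul_eq_mul, ← Algebra.smul_def]
      rfl
    · rw [Submodule.span_le, Set.singleton_subset_iff]
      exact (ArtFun.Art.kerToQuot hK p hKJ j₀).2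

include hj₀ in
lemma toSpan_bijective : Function.Bijective
    (LinearMap.toSpanSingleton k _ (ArtFun.Art.kerToQuot hK p hKJ j₀)) := by
  constructor
  · rw [← LinearMap.ker_eq_bot, LinearMap.ker_eq_bot']
    intro c hc
    have hc' : c • ArtFun.Art.kerToQuot hK p hKJ j₀ = 0 := hc
    rcases smul_eq_zero.mp hc' with h | h
    · exact h
    · exact absurd h (kerToQuot_ne p hp ℓ j₀ hj₀ hK hKJ)
  · intro y
    obtain ⟨j, rfl⟩ := kerToQuot_surjective p _ hK hKJ y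
    exact ⟨ℓ j, (kerToQuot_eq p hp ℓ j₀ hj₀ hK hKJ j).symm⟩

/-- The identification of the kernel of `C'/K → C` with `k`. -/
noncomputable def phi : ↥(RingHom.ker (ArtFun.Art.quotFactor hK p hKJ).toAlgHom) ≃ₗ[k] k :=
  (LinearEquiv.ofBijective _ (toSpan_bijective p hp ℓ j₀ hj₀ hK hKJ)).symm

lemma phi_kerToQuot (j : ↥(RingHom.ker p.toAlgHom)) :
    phi p hp ℓ j₀ hj₀ hK hKJ (ArtFun.Art.kerToQuot hK p hKJ j) = ℓ j := by
  rw [phi, LinearEquiv.symm_apply_eq]
  exact kerToQuot_eq p hp ℓ j₀ hj₀ hK hKJ j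

include hj₀ in
theorem rid_mem_gen {F : ArtFun.Art k k ⥤ Type v} {V : Type u} [AddCommGroup V] [Module k V]
    (T : ArtFun.ObsTheory F V) (u : F.obj C) :
    TensorProduct.rid k V (LinearMap.lTensor V ℓ (T.obs p hp u)) ∈
      {v : V | ∃ (B' B : ArtFun.Art k k) (t : B' ⟶ B) (ht : ArtFun.Art.IsSmallExt t)
          (w : F.obj B) (φ : ↥(RingHom.ker t.toAlgHom) ≃ₗ[k] k),
          v = TensorProduct.rid k V (LinearMap.lTensor V φ.toLinearMap
            (T.obs t ht.isSemismallExt w))} := by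
  have hK : K p hp ℓ ≤ IsLocalRing.maximalIdeal C' := (K_le_ker p hp ℓ).trans (ker_le_max p)
  have hKJ : K p hp ℓ ≤ RingHom.ker p.toAlgHom := K_le_ker p hp ℓ
  have hsm := quot_small p hp ℓ j₀ hj₀ hK hKJ
  refine ⟨ArtFun.Art.quot C' (K p hp ℓ) hK, C, ArtFun.Art.quotFactor hK p hKJ, hsm, u,
    phi p hp ℓ j₀ hj₀ hK hKJ, ?_⟩
  rw [T.obs_quot p hp (K p hp ℓ) hK hKJ hsm.isSemismallExt u, ← LinearMap.lTensor_comp_apply]
  have hℓ : ℓ = (phi p hp ℓ j₀ hj₀ hK hKJ).toLinearMap ∘ₗ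
      ((ArtFun.Art.kerToQuot hK p hKJ).restrictScalars k) :=
    LinearMap.ext (fun j => (phi_kerToQuot p hp ℓ j₀ hj₀ hK hKJ j).symm)
  exact congrArg (fun f => TensorProduct.rid k V (LinearMap.lTensor V f (T.obs p hp u))) hℓ

end specific

theorem main13978 {F : ArtFun.Art k k ⥤ Type v} {V : Type u} [AddCommGroup V] [Module k V]
    (T : ArtFun.ObsTheory F V) {C' C : ArtFun.Art k k} (p : C' ⟶ C)
    (hp : ArtFun.Art.IsSemismallExt p) (u : F.obj C) :
    T.obs p hp u ∈ LinearMap.range (LinearMap.rTensor (↥(RingHom.ker p.toAlgHom))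
      (Submodule.span k {v : V | ∃ (B' B : ArtFun.Art k k) (t : B' ⟶ B)
          (ht : ArtFun.Art.IsSmallExt t)
          (w : F.obj B) (φ : ↥(RingHom.ker t.toAlgHom) ≃ₗ[k] k),
          v = TensorProduct.rid k V (LinearMap.lTensor V φ.toLinearMap
            (T.obs t ht.isSemismallExt w))}).subtype) := by
  classical
  let b := Module.Basis.ofVectorSpace k ↥(RingHom.ker p.toAlgHom)
  have hω := (TensorProduct.equivFinsuppOfBasisRight (M := V) b).symm_apply_apply (T.obs p hp u)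
  rw [TensorProduct.equivFinsuppOfBasisRight_symm_apply] at hω
  rw [← hω, Finsupp.sum]
  apply Submodule.sum_mem
  intro i _
  have hmem : (TensorProduct.equivFinsuppOfBasisRight (M := V) b (T.obs p hp u)) i ∈
      Submodule.span k {v : V | ∃ (B' B : ArtFun.Art k k) (t : B' ⟶ B)
          (ht : ArtFun.Art.IsSmallExt t)
          (w : F.obj B) (φ : ↥(RingHom.ker t.toAlgHom) ≃ₗ[k] k),
          v = TensorProduct.rid k V (LinearMap.lTensor V φ.toLinearMap
            (T.obs t ht.isSemismallExt w))} := by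
    rw [TensorProduct.equivFinsuppOfBasisRight_apply]
    exact Submodule.subset_span (rid_mem_gen p hp (b.coord i) (b i)
      (by simp [Module.Basis.coord_apply]) T u)
  exact ⟨⟨_, hmem⟩ ⊗ₜ[k] b i, rfl⟩

end Groth.Agent.Lib.ObsSpanH4
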