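import Mathlib
import Groth.Agent.Lib.ObsT2g_helper3
import Groth.Agent.Lib.DefRing1_helper3

/-!
# `T² = 0` implies unobstructedness for affine schemes (helper3): assembly
-/

set_option autoImplicit false
set_option linter.unusedSectionVars false
set_option linter.style.haveILetI false

universe u

open CategoryTheory CategoryTheory.Limits AlgebraicGeometry

namespace Groth.Agent.Lib.ObsT2H3

open Groth.Agent.Lib.DefRingH3

theorem main12264 {k : Type u} [Field k] (B₀ : Type u) [CommRing B₀] [Algebra k B₀] {ι σ : Type u}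
    (P : Algebra.Presentation k B₀ ι σ)
    (hT2 : Subsingleton (CotT.T2 P B₀))
    {A' A : ArtFun.Art k k} (p : A' ⟶ A) (hp : ArtFun.Art.IsSmallExt p) :
    Function.Surjective ((ArtFun.defFunctor (Λ := k) (Spec (CommRingCat.of B₀))
      (Spec.map (CommRingCat.ofHom (algebraMap k B₀)))).map p) := by
  intro c
  obtain ⟨ξ, rfl⟩ := Quotient.exists_rep c
  obtain ⟨E, _, γ, α, hflat, hα, hker, hcomp, ⟨iso⟩⟩ := exists_ofRing ξ
  obtain ⟨hps, hne, hprin, hmk⟩ := hp
  obtain ⟨t, ht⟩ := hprin.principal
  have ht' : RingHom.ker p.toAlgHom.toRingHom = Ideal.span {t} := ht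
  have htne : t ≠ 0 := by
    intro h0
    apply hne
    rw [ht, h0]
    exact Ideal.span_singleton_eq_bot.2 rfl
  have hann : ∀ a : A', a * t = 0 ↔ A'.res.toRingHom a = 0 := by
    intro a
    constructor
    · intro h
      by_contra hres
      have hu : IsUnit a := by
        by_contra hnu
        have : a ∈ IsLocalRing.maximalIdeal A' := (IsLocalRing.mem_maximalIdeal a).2 hnu
        rw [ArtFun.Art.mem_maximalIdeal_iff] at this
        exact hres this
      obtain ⟨u, rfl⟩ := hu
      exact htne (by simpa using congrArg (fun x => (↑u⁻¹ : A') * x) h)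
    · intro h
      have ha : a ∈ IsLocalRing.maximalIdeal A' := (ArtFun.Art.mem_maximalIdeal_iff A' a).2 h
      have htk : t ∈ RingHom.ker p.toAlgHom := by rw [ht]; exact Ideal.subset_span rfl
      have : a * t ∈ IsLocalRing.maximalIdeal A' * RingHom.ker p.toAlgHom :=
        Ideal.mul_mem_mul ha htk
      rw [hmk] at this
      exact this
  have hnil : IsNilpotent (RingHom.ker A.res.toRingHom) := by
    rw [ker_res]
    exact Groth.Agent.Lib.DefTrivArtH3.isNilpotent_maximalIdeal
  have hkerα : RingHom.ker α = (RingHom.ker A.res.toRingHom).map γ := by rw [hker, ker_res]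
  obtain ⟨E', _, γ', α', π, hflat', hα', hkerα', hcomp', hπγ, hπs, hkerπ, hαπ⟩ :=
    exists_lift P hT2 A'.res.toRingHom A.res.toRingHom p.toAlgHom.toRingHom
      (fun a => ArtFun.Art.res_app p a) A.res_surjective hps t ht' hann hnil E γ α hflat hα hkerα
      hcomp
  have hkerα'' : RingHom.ker α' = (IsLocalRing.maximalIdeal A').map γ' := by
    rw [hkerα', ker_res]
  let ξ' := ofRing A' E' γ' α' hflat' hα' hkerα'' hcomp'
  obtain ⟨iso'⟩ := baseChange_ofRing p E' γ' α' hflat' hα' hkerα'' hcomp' E γ α hflat hα hker hcomp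
    hps π hπγ hπs hkerπ hαπ
  refine ⟨ξ'.cl, ?_⟩
  rw [ArtFun.defFunctor_map_cl]
  exact Quotient.sound ⟨iso'.trans iso.symm⟩

end Groth.Agent.Lib.ObsT2H3
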