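import Mathlib
import Groth.Prelude
import Groth.Agent.Lib.OmField_helper9
import Groth.Agent.Lib.P1Iso4_helper9
import Groth.Agent.Lib.CurveTens4_helper9

/-!
# Genus zero smooth curves with an odd degree invertible module (helper9)
APPEND-ONLY once landed.
-/

set_option autoImplicit false
universe u
open AlgebraicGeometry CategoryTheory CategoryTheory.Limits TopologicalSpace Opposite

namespace OddDeg

open Groth.Agent.TensInv CohB1

theorem geomConn_of_geomIrred {X S : Scheme.{u}} (f : X ⟶ S) [GeometricallyIrreducible f] :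
    GeometricallyConnected f := by
  refine ⟨?_⟩
  have h := GeometricallyIrreducible.geometrically_irreducibleSpace (f := f)
  intro K _ y T fst snd hpb
  haveI : IrreducibleSpace T := h y fst snd hpb
  infer_instance

section

variable (k : Type u) [Field k] (X : Scheme.{u}) [X.Over (Spec (CommRingCat.of k))]
  [IsIntegral X] [IsProper (X ↘ Spec (CommRingCat.of k))]

/-- adding multiples of the degree of an invertible module -/
theorem exists_deg_add (hdim : topologicalKrullDim X = 1) {L A : X.Modules}
    (hL : PicF.IsInvertible L) (hA : PicF.IsInvertible A) (n : ℕ) :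
    ∃ N : X.Modules, PicF.IsInvertible N ∧
      Curv2.deg k X N 1 = Curv2.deg k X L 1 + n * Curv2.deg k X A 1 := by
  induction n with
  | zero => exact ⟨L, hL, by simp⟩
  | succ n ih =>
    obtain ⟨N, hN, hd⟩ := ih
    refine ⟨tensorMod N A, TensH8.isInvertible_tensorMod hN hA, ?_⟩
    rw [CurveTens.deg_tensorMod k X hdim.le hN hA, hd]
    push_cast
    ring

/-- the degree of a tensor inverse -/
theorem deg_inverse (hdim : topologicalKrullDim X = 1) {A A' : X.Modules}
    (hA : PicF.IsInvertible A) (hA' : PicF.IsInvertible A')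
    (e : tensorMod A A' ≅ Coh.structureModule X) :
    Curv2.deg k X A' 1 = - Curv2.deg k X A 1 := by
  have h := CurveTens.deg_tensorMod k X hdim.le hA hA'
  rw [CurveTens.deg_of_iso k X e 1, CurveDeg.deg_structureModule] at h
  linarith

end

/-- **statement of S6544** -/
theorem main6544 (k : Type u) [Field k] (X : Scheme.{u}) [X.Over (Spec (CommRingCat.of k))]
    [IsIntegral X] [IsProper (X ↘ (Spec (CommRingCat.of k)))] (hdim : topologicalKrullDim X = 1)
    [Smooth (X ↘ (Spec (CommRingCat.of k)))]
    [GeometricallyIrreducible (X ↘ (Spec (CommRingCat.of k)))] (hg : Curv2.genus k X = 0)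
    (L : X.Modules) (hL : PicF.IsInvertible L) (hodd : Odd (Curv2.deg k X L 1)) :
    ∃ e : X ≅ CohB1.ProjSpace 1 k,
      e.hom ≫ CohB1.ProjSpace.toSpec 1 k = X ↘ (Spec (CommRingCat.of k)) := by
  haveI := geomConn_of_geomIrred (X ↘ (Spec (CommRingCat.of k)))
  have hΩ := OmField.isInvertible_Omega k X hdim
  have hdΩ := OmField.deg_Omega k X hdim
  rw [hg] at hdΩ
  obtain ⟨T, hT, ⟨eT⟩⟩ := Groth.Agent.InvTensP.exists_inverse _ hΩ
  have hdT := deg_inverse k X hdim hΩ hT eT
  rw [hdΩ] at hdT
  haveI : Module.Finite k (Coh.HH X (Coh.structureModule X) 1) :=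
    ProperFinH9.finite_HH_of_proper k X _ (CohDevH8.isCoh_structureModule X) 1
  have h1 : Subsingleton (Coh.HH X (Coh.structureModule X) 1) := by
    have : Module.finrank k (Coh.HH X (Coh.structureModule X) 1) = 0 := hg
    exact Module.finrank_zero_iff.mp this
  obtain ⟨m, hm⟩ := hodd
  obtain ⟨N, hN, hdN⟩ : ∃ N : X.Modules, PicF.IsInvertible N ∧ Curv2.deg k X N 1 = 1 := by
    rcases le_total 0 m with h | h
    · obtain ⟨n, rfl⟩ := Int.eq_ofNat_of_zero_le h
      obtain ⟨N, hN, hd⟩ := exists_deg_add k X hdim hL hΩ n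
      refine ⟨N, hN, ?_⟩
      rw [hd, hm, hdΩ]
      push_cast
      ring
    · obtain ⟨n, hn⟩ := Int.eq_ofNat_of_zero_le (neg_nonneg.mpr h)
      obtain ⟨N, hN, hd⟩ := exists_deg_add k X hdim hL hT n
      refine ⟨N, hN, ?_⟩
      rw [hd, hm, hdT, ← hn]
      ring
  exact P1Iso.iso_P1_of_genus_zero k X hdim h1 N hN hdN

end OddDeg
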