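import Groth.Agent.Lib.OfPshIso_lead
import Groth.Agent.Lib.AlgStEquivInv_lead
import Groth.Agent.Lib.AlgStEquivP_lead
import Groth.Agent.Lib.AlgStMono_lead
import Groth.Agent.Lib.AlgSpRepBySp_helper7
import Groth.Agent.Lib.FibCat12_helper6
import Groth.Agent.Lib.AlgStSetoid_lead

/-!
# Representability by algebraic spaces: presheaves versus categories over `(Sch/S)` (lead)
-/

set_option autoImplicit false

universe u

open CategoryTheory CategoryTheory.Limits AlgebraicGeometry Opposite FibCat Stk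

namespace Groth.Agent.Lib.OfPshAlgSt

open AlgSt Groth.Agent.Lib.FibCat_helper6 Groth.Agent.Lib.FibCat3_helper6
  Groth.Agent.Lib.FibCat14_helper6 Groth.Agent.Lib.FibCatPaste Groth.Agent.Lib.FibCatSwap
  Groth.Agent.Lib.OfPshCalc Groth.Agent.Lib.OfPshIso Groth.Agent.Lib.AlgStBC
  Groth.Agent.Lib.AlgStEquiv Groth.Agent.Lib.AlgStEquivP Groth.Agent.Lib.AlgStEquivInv

variable {S : Scheme.{u}}

theorem ofOverCat_isEquivOver (U : Over S) : IsEquivOver (AlgSt.ofOverCat U) :=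
  ⟨AlgSt.toOverCat U, ⟨Iso.refl _⟩, ⟨Iso.refl _⟩⟩

/-- A map of presheaves representable by algebraic spaces induces a functor representable by
algebraic spaces. -/
theorem repByAlgSp1_of_repBySp {F G : AlgSp.PSp S} (a : F ⟶ G) (h : AlgSp.RepBySp a) :
    AlgSt.RepByAlgSp1 (Stk.ofPshMap a) := by
  intro U y
  let y' : Stk.ofPsh ((AlgSp.pyon S).obj U) ⥤ᵇ Stk.ofPsh G :=
    BasedFunctor.comp (AlgSt.toOverCat U) y
  let ξ : (AlgSp.pyon S).obj U ⟶ G := mapOf y'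
  have sq := IsPullback.of_hasPullback a ξ
  obtain ⟨hs, hA⟩ := h ξ _ _ sq
  let A : AlgSp.Space S := ⟨⟨pullback a ξ, hs⟩, hA⟩
  have e1 := pbFun_isEquivOver sq.flip
  have e3 := isoFun₁_isEquivOver (isoOf y').symm (Stk.ofPshMap a)
  have e4 := precomp₁_isEquivOver (AlgSt.toOverCat U) (toOverCat_isEquivOver U) y
    (Stk.ofPshMap a)
  exact ⟨A, BasedFunctor.comp (pbFun sq.flip)
    (BasedFunctor.comp (isoFun₁ (isoOf y').symm (Stk.ofPshMap a))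
      (precomp₁ (AlgSt.toOverCat U) y (Stk.ofPshMap a))),
    isEquivOver_comp e1 (isEquivOver_comp e3 e4)⟩

/-- Conversely. -/
theorem repBySp_of_repByAlgSp1 {F G : AlgSp.PSp S} (a : F ⟶ G)
    (h : AlgSt.RepByAlgSp1 (Stk.ofPshMap a)) : AlgSp.RepBySp a := by
  intro U ξ F' fst snd sq
  let y : FibCat.overCat U ⥤ᵇ Stk.ofPsh G :=
    BasedFunctor.comp (AlgSt.ofOverCat U) (Stk.ofPshMap ξ)
  obtain ⟨A, e, he⟩ := h U y
  have e1 := pbFun_isEquivOver sq.flip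
  have e2 := precomp₁_isEquivOver (AlgSt.ofOverCat U) (ofOverCat_isEquivOver U)
    (Stk.ofPshMap ξ) (Stk.ofPshMap a)
  obtain ⟨E1', ⟨η1⟩, ⟨ε1⟩⟩ := e1
  have e1' : IsEquivOver E1' := isEquivOver_inverse η1 ε1
  have hE : IsEquivOver (BasedFunctor.comp e
      (BasedFunctor.comp (precomp₁ (AlgSt.ofOverCat U) (Stk.ofPshMap ξ) (Stk.ofPshMap a)) E1')) :=
    isEquivOver_comp he (isEquivOver_comp e2 e1')
  obtain ⟨ι⟩ := nonempty_iso_of_isEquivOver _ hE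
  exact ((AlgSp.isAlgSpaceP_obj_iff A.obj).2 A.property).of_iso ι

theorem repBySp_iff {F G : AlgSp.PSp S} (a : F ⟶ G) :
    AlgSp.RepBySp a ↔ AlgSt.RepByAlgSp1 (Stk.ofPshMap a) :=
  ⟨repByAlgSp1_of_repBySp a, repBySp_of_repByAlgSp1 a⟩

section fibreProduct

variable {𝒳 𝒴 : AlgSt.Cat S}

theorem isFibSetoid_fp_ofSp (h𝒳 : IsFibGrpd 𝒳.p) (h𝒴 : IsFibGrpd 𝒴.p) (f : 𝒳 ⥤ᵇ 𝒴)
    (hf : RepByAlgSp1 f) (F : AlgSp.Sp S) (g' : ofSp F ⥤ᵇ 𝒴) : IsFibSetoid (fp g' f).p := by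
  have hW : IsFibGrpd (fp g' f).p := Groth.Agent.Lib.FibCat12_helper6.isFibGrpd_fp g' f (Stk.isFibGrpd_ofPsh F.obj) h𝒳 h𝒴
  have := Groth.Agent.Lib.AlgStMono.faithful_of_repByAlgSp1 h𝒳 h𝒴 f hf
  refine ⟨hW, fun U => fun A B => ⟨fun φ ψ => ?_⟩⟩
  apply Functor.Fiber.hom_ext
  have hφ : (fp g' f).p.IsHomLift (𝟙 U) φ.1 := φ.2
  have hψ : (fp g' f).p.IsHomLift (𝟙 U) ψ.1 := ψ.2
  have h1 : (Stk.EltObj.forget F.obj).IsHomLift (𝟙 U) φ.1.hom.fst := fp_isHomLift_fst φ.1 (𝟙 U)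
  have h2 : (Stk.EltObj.forget F.obj).IsHomLift (𝟙 U) ψ.1.hom.fst := fp_isHomLift_fst ψ.1 (𝟙 U)
  have e1 : φ.1.hom.fst = ψ.1.hom.fst :=
    Groth.Agent.Lib.AlgStSetoid.eltHom_ext_of_lifts _ _ (𝟙 U) h1 h2
  have w1 : g'.toFunctor.map φ.1.hom.fst ≫ B.1.obj.iso.hom =
      A.1.obj.iso.hom ≫ f.toFunctor.map φ.1.hom.snd := φ.1.hom.w
  have w2 : g'.toFunctor.map ψ.1.hom.fst ≫ B.1.obj.iso.hom =
      A.1.obj.iso.hom ≫ f.toFunctor.map ψ.1.hom.snd := ψ.1.hom.w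
  have e2 : f.toFunctor.map φ.1.hom.snd = f.toFunctor.map ψ.1.hom.snd := by
    have : A.1.obj.iso.hom ≫ f.toFunctor.map φ.1.hom.snd =
        A.1.obj.iso.hom ≫ f.toFunctor.map ψ.1.hom.snd := by
      rw [← w1, ← w2, e1]
    exact (cancel_epi A.1.obj.iso.hom).1 this
  exact fp_hom_ext e1 (f.toFunctor.map_injective e2)

/-- The 2-fibre product of the category of an algebraic space with a functor representable by
algebraic spaces is representable by an algebraic space. -/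
theorem repByAlgSp_fp_ofSp (h𝒳 : IsFibGrpd 𝒳.p) (h𝒴 : IsFibGrpd 𝒴.p) (f : 𝒳 ⥤ᵇ 𝒴)
    (hf : RepByAlgSp1 f) (F : AlgSp.Space S) (g' : ofSp F.obj ⥤ᵇ 𝒴) :
    RepByAlgSp (fp g' f) := by
  have hs : IsFibSetoid (fp g' f).p := isFibSetoid_fp_ofSp h𝒳 h𝒴 f hf F.obj g'
  let P : AlgSp.PSp S := isoPsh hs.1
  have hΦ : IsEquivOver (toIsoPsh hs.1) := toIsoPsh_isEquivOver hs
  obtain ⟨Φ', ⟨η⟩, ⟨ε⟩⟩ := hΦ
  have hΦ' : IsEquivOver Φ' := isEquivOver_inverse η ε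
  let π' : Stk.ofPsh P ⥤ᵇ Stk.ofPsh F.obj.obj := BasedFunctor.comp Φ' (fpFst g' f)
  let a : P ⟶ F.obj.obj := mapOf π'
  have r1 : RepByAlgSpWith ⊤ (fpFst g' f) :=
    repWith_baseChange ⊤ f g' ((repByAlgSp1_iff_top f).1 hf)
  have r2 : RepByAlgSpWith ⊤ π' := repWith_precomp_equiv ⊤ Φ' hΦ' (fpFst g' f) r1
  have r3 : RepByAlgSpWith ⊤ (Stk.ofPshMap a) := repWith_of_iso ⊤ (isoOf π') r2
  have ha : AlgSp.RepBySp a :=
    repBySp_of_repByAlgSp1 a ((repByAlgSp1_iff_top (Stk.ofPshMap a)).2 r3)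
  have hP : AlgSp.IsAlgSpaceP P :=
    Groth.Agent.Lib.AlgSpRepBySp_helper7.isAlgSpaceP_of_repBySp a ha
      ((AlgSp.isAlgSpaceP_obj_iff F.obj).2 F.property)
  obtain ⟨hsh, hAlg⟩ := hP
  exact ⟨⟨⟨P, hsh⟩, hAlg⟩, Φ', hΦ'⟩

variable {𝒵 : AlgSt.Cat S}

theorem repByAlgSp_fp (h𝒳 : IsFibGrpd 𝒳.p) (h𝒴 : IsFibGrpd 𝒴.p) (f : 𝒳 ⥤ᵇ 𝒴)
    (g : 𝒵 ⥤ᵇ 𝒴) (hf : RepByAlgSp1 f) (hZ : RepByAlgSp 𝒵) : RepByAlgSp (fp g f) := by
  obtain ⟨F, e, he⟩ := hZ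
  obtain ⟨A, e', he'⟩ := repByAlgSp_fp_ofSp h𝒳 h𝒴 f hf F (BasedFunctor.comp e g)
  exact ⟨A, BasedFunctor.comp e' (precomp₁ e g f),
    isEquivOver_comp he' (precomp₁_isEquivOver e he g f)⟩

end fibreProduct

section both

variable {𝒳 𝒴 : AlgSt.Cat S}

/-- A functor between categories representable by algebraic spaces is representable by
algebraic spaces. -/
theorem repByAlgSp1_of_repByAlgSp (hX : RepByAlgSp 𝒳) (hY : RepByAlgSp 𝒴) (f : 𝒳 ⥤ᵇ 𝒴) :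
    RepByAlgSp1 f := by
  obtain ⟨F, eX, heX⟩ := hX
  obtain ⟨G, eY, heY⟩ := hY
  have heY0 := heY
  obtain ⟨eY', ⟨η⟩, ⟨ε⟩⟩ := heY0
  let f' : Stk.ofPsh F.obj.obj ⥤ᵇ Stk.ofPsh G.obj.obj :=
    BasedFunctor.comp eX (BasedFunctor.comp f eY')
  let a : F.obj.obj ⟶ G.obj.obj := mapOf f'
  have ha : AlgSp.RepBySp a :=
    Groth.Agent.Lib.AlgSpRepBySp_helper7.repBySp_of_isAlgSpaceP
      ((AlgSp.isAlgSpaceP_obj_iff F.obj).2 F.property)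
      ((AlgSp.isAlgSpaceP_obj_iff G.obj).2 G.property) a
  have r1 : RepByAlgSpWith ⊤ (Stk.ofPshMap a) :=
    (repByAlgSp1_iff_top _).1 (repByAlgSp1_of_repBySp a ha)
  have r2 : RepByAlgSpWith ⊤ f' := repWith_of_iso ⊤ (isoOf f').symm r1
  have iso : BasedFunctor.comp f' eY ≅ BasedFunctor.comp eX f :=
    Groth.Agent.Lib.LiftSqBC.whiskerLeftIso (BasedFunctor.comp eX f) ε
  exact (repByAlgSp1_iff_top f).2
    ((repWith_equiv_square ⊤ f f' eX eY heX heY iso).2 r2)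

end both

section all

variable {𝒳 : AlgSt.Cat S}

theorem repByAlgSp_overCat (U : Over S) : RepByAlgSp (FibCat.overCat U) :=
  ⟨⟨(AlgSp.yon S).obj U, AlgSp.IsAlgSpace.yon_obj U⟩, AlgSt.toOverCat U,
    toOverCat_isEquivOver U⟩

theorem forall_scheme_iff_forall_space (h𝒳 : IsFibGrpd 𝒳.p) :
    (∀ (U : Over S) (x : FibCat.overCat U ⥤ᵇ 𝒳), AlgSt.RepByAlgSp1 x) ↔
      ∀ (𝒰 : AlgSt.Cat S), FibCat.IsFibGrpd 𝒰.p → AlgSt.RepByAlgSp 𝒰 →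
        ∀ (x : 𝒰 ⥤ᵇ 𝒳), AlgSt.RepByAlgSp1 x := by
  constructor
  · intro h 𝒰 h𝒰 hU x U y
    obtain ⟨A, e, he⟩ := repByAlgSp_fp (isFibGrpd_over_forget U) h𝒳 y x (h U y) hU
    exact ⟨A, BasedFunctor.comp e (swap x y), isEquivOver_comp he (swap_isEquivOver x y)⟩
  · intro h U x
    exact h (FibCat.overCat U) (isFibGrpd_over_forget U) (repByAlgSp_overCat U) x

end all

end Groth.Agent.Lib.OfPshAlgSt
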