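import Groth.Agent.Lib.OfPshAlgSt_lead
import Groth.Agent.Lib.AlgSpLocP_helper7
import Groth.Agent.Lib.AlgSpPoints_helper7
import Groth.Agent.Lib.FibCatProd_lead

/-!
# Properties of morphisms representable by algebraic spaces: presheaves versus stacks, algebraic
spaces as test objects, composition, products (lead)
-/

set_option autoImplicit false

universe v₅ u₅ v₄ u₄ v₃ u₃ v₂ u₂ v₁ u₁ u

open CategoryTheory CategoryTheory.Limits AlgebraicGeometry Opposite FibCat Stk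

namespace Groth.Agent.Lib.OfPshWith

open AlgSt Groth.Agent.Lib.FibCat_helper6 Groth.Agent.Lib.FibCat3_helper6
  Groth.Agent.Lib.FibCat14_helper6 Groth.Agent.Lib.FibCatPaste Groth.Agent.Lib.FibCatSwap
  Groth.Agent.Lib.OfPshCalc Groth.Agent.Lib.OfPshIso Groth.Agent.Lib.AlgStBC
  Groth.Agent.Lib.AlgStEquiv Groth.Agent.Lib.AlgStEquivP Groth.Agent.Lib.AlgStEquivInv
  Groth.Agent.Lib.OfPshAlgSt Groth.Agent.Lib.LiftSqBC Groth.Agent.Lib.LiftSqComp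

section generic

variable {C : Type u₁} [Category.{v₁} C]
variable {𝒰 : BasedCategory.{v₂, u₂} C} {𝒳 : BasedCategory.{v₃, u₃} C}
  {𝒴 : BasedCategory.{v₄, u₄} C} {𝒵 : BasedCategory.{v₅, u₅} C}

theorem precomp₁_comp_fpFst {𝒲 : BasedCategory.{v₃, u₃} C} {ℰ : BasedCategory.{v₄, u₄} C}
    (L : 𝒲 ⥤ᵇ 𝒰) (z : 𝒰 ⥤ᵇ 𝒵) (π : ℰ ⥤ᵇ 𝒵) :
    BasedFunctor.comp (precomp₁ L z π) (fpFst z π) =
      BasedFunctor.comp (fpFst (BasedFunctor.comp L z) π) L := rfl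

theorem isoFun₁_comp_fpFst {ℰ : BasedCategory.{v₄, u₄} C} {z z' : 𝒰 ⥤ᵇ 𝒵} (ι : z ≅ z')
    (π : ℰ ⥤ᵇ 𝒵) :
    BasedFunctor.comp (isoFun₁ ι π) (fpFst z' π) = fpFst z π := rfl

variable (z : 𝒰 ⥤ᵇ 𝒵) (g : 𝒴 ⥤ᵇ 𝒵) (f : 𝒳 ⥤ᵇ 𝒴)

/-- `(u, x, φ) ↦ ((u, f x, φ), x, 𝟙)`, assembled from the pasting equivalence and swaps. -/
def unpaste : fp z (BasedFunctor.comp f g) ⥤ᵇ fp (fpSnd z g) f :=
  BasedFunctor.comp (swap z (BasedFunctor.comp f g))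
    (BasedFunctor.comp (paste f g z)
      (BasedFunctor.comp (swap f (fpFst g z))
        (precomp₁ (swap g z) (fpSnd z g) f)))

theorem unpaste_isEquivOver : IsEquivOver (unpaste z g f) :=
  isEquivOver_comp (swap_isEquivOver _ _)
    (isEquivOver_comp (paste_isEquivOver f g z)
      (isEquivOver_comp (swap_isEquivOver _ _)
        (precomp₁_isEquivOver (swap g z) (swap_isEquivOver g z) (fpSnd z g) f)))

def unpasteFstIso : BasedFunctor.comp (unpaste z g f)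
    (BasedFunctor.comp (fpFst (fpSnd z g) f) (fpFst z g)) ≅ fpFst z (BasedFunctor.comp f g) :=
  Iso.refl _

end generic

variable {S : Scheme.{u}}

/-! ### `spMapOfOver` in terms of `mapOf` -/

theorem spMapOfOver_hom {A : AlgSp.Sp S} {U : Over S} (Φ : AlgSt.ofSp A ⥤ᵇ FibCat.overCat U) :
    (AlgSt.spMapOfOver Φ).hom = mapOf (BasedFunctor.comp Φ (AlgSt.ofOverCat U)) := by
  ext T x
  apply ULift.ext
  rfl

theorem spMapOfOver_comp_ofSpMap {A B : AlgSp.Sp S} {U : Over S} (a : A ⟶ B)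
    (Φ : AlgSt.ofSp B ⥤ᵇ FibCat.overCat U) :
    AlgSt.spMapOfOver (BasedFunctor.comp (AlgSt.ofSpMap a) Φ) = a ≫ AlgSt.spMapOfOver Φ := by
  apply ObjectProperty.hom_ext
  apply NatTrans.ext
  funext T
  ext x
  apply ULift.ext
  rfl

/-! ### Presheaves versus stacks -/

/-- Invariance of `Q` under isomorphisms of the source, between algebraic spaces. -/
def IsoInv (Q : MorphismProperty (AlgSp.Sp S)) : Prop :=
  ∀ ⦃X X' Y : AlgSp.Sp S⦄ (i : X ≅ X') (f : X' ⟶ Y), AlgSp.IsAlgSpace X → AlgSp.IsAlgSpace X' →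
    AlgSp.IsAlgSpace Y → Q (i.hom ≫ f) → Q f

theorem isoInv_of_respectsIso (Q : MorphismProperty (AlgSp.Sp S)) [Q.RespectsIso] : IsoInv Q :=
  fun _ _ _ i f _ _ _ h => (Q.cancel_left_of_respectsIso i.hom f).1 h

theorem isoInv_of_bc (P : MorphismProperty (AlgSp.Sp S))
    (hPb : ∀ ⦃X₁ Y₁ X₂ Y₂ : AlgSp.Sp S⦄, AlgSp.IsAlgSpace X₁ → AlgSp.IsAlgSpace Y₁ →
      AlgSp.IsAlgSpace X₂ → AlgSp.IsAlgSpace Y₂ →
      ∀ (a : X₁ ⟶ Y₁) (b : Y₂ ⟶ Y₁) (a' : X₂ ⟶ Y₂) (b' : X₂ ⟶ X₁),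
      IsPullback b' a' a b → P a → P a') : IsoInv P := by
  intro X X' Y i f hX hX' hY h
  refine hPb hX hY hX' hY (i.hom ≫ f) (𝟙 Y) f i.inv ?_ h
  exact IsPullback.of_horiz_isIso ⟨by simp⟩

theorem repByAlgSpWith_of_repBySpWith (Q : MorphismProperty (AlgSp.Sp S)) {F G : AlgSp.PSp S}
    (a : F ⟶ G) (h : AlgSp.RepBySpWith Q a) : AlgSt.RepByAlgSpWith Q (Stk.ofPshMap a) := by
  intro U y
  let y' : Stk.ofPsh ((AlgSp.pyon S).obj U) ⥤ᵇ Stk.ofPsh G :=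
    BasedFunctor.comp (AlgSt.toOverCat U) y
  let ξ : (AlgSp.pyon S).obj U ⟶ G := mapOf y'
  have sq := IsPullback.of_hasPullback a ξ
  obtain ⟨hs, hA, hq⟩ := h ξ _ _ sq
  let A : AlgSp.Space S := ⟨⟨pullback a ξ, hs⟩, hA⟩
  have e1 := pbFun_isEquivOver sq.flip
  have e3 := isoFun₁_isEquivOver (isoOf y').symm (Stk.ofPshMap a)
  have e4 := precomp₁_isEquivOver (AlgSt.toOverCat U) (toOverCat_isEquivOver U) y
    (Stk.ofPshMap a)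
  let E0 : AlgSt.ofSp A.obj ⥤ᵇ fp y (Stk.ofPshMap a) :=
    BasedFunctor.comp (pbFun sq.flip)
      (BasedFunctor.comp (isoFun₁ (isoOf y').symm (Stk.ofPshMap a))
        (precomp₁ (AlgSt.toOverCat U) y (Stk.ofPshMap a)))
  refine ⟨A, E0, isEquivOver_comp e1 (isEquivOver_comp e3 e4), ?_⟩
  let s : A.obj ⟶ (AlgSp.yon S).obj U := ObjectProperty.homMk (pullback.snd a ξ)
  have iso : BasedFunctor.comp E0 (fpFst y (Stk.ofPshMap a)) ≅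
      BasedFunctor.comp (AlgSt.ofSpMap s) (AlgSt.toOverCat U) := Iso.refl _
  have hk : AlgSt.spMapOfOver (BasedFunctor.comp E0 (fpFst y (Stk.ofPshMap a))) = s :=
    (spMapOfOver_congr iso.hom).trans ((spMapOfOver_comp_ofSpMap s _).trans (by
      rw [spMapOfOver_toOverCat, Category.comp_id]))
  rw [hk]
  exact hq

theorem repBySpWith_of_repByAlgSpWith (Q : MorphismProperty (AlgSp.Sp S)) (hQ : IsoInv Q)
    {F G : AlgSp.PSp S} (a : F ⟶ G) (h : AlgSt.RepByAlgSpWith Q (Stk.ofPshMap a)) :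
    AlgSp.RepBySpWith Q a := by
  intro U ξ F' fst snd sq
  let y : FibCat.overCat U ⥤ᵇ Stk.ofPsh G :=
    BasedFunctor.comp (AlgSt.ofOverCat U) (Stk.ofPshMap ξ)
  obtain ⟨A, e, he, hq⟩ := h U y
  have e1 := pbFun_isEquivOver sq.flip
  have e2 := precomp₁_isEquivOver (AlgSt.ofOverCat U) (ofOverCat_isEquivOver U)
    (Stk.ofPshMap ξ) (Stk.ofPshMap a)
  obtain ⟨E1', ⟨η1⟩, ⟨ε1⟩⟩ := e1
  have e1' : IsEquivOver E1' := isEquivOver_inverse η1 ε1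
  let E : Stk.ofPsh A.obj.obj ⥤ᵇ Stk.ofPsh F' := BasedFunctor.comp e
    (BasedFunctor.comp (precomp₁ (AlgSt.ofOverCat U) (Stk.ofPshMap ξ) (Stk.ofPshMap a)) E1')
  have hE : IsEquivOver E := isEquivOver_comp he (isEquivOver_comp e2 e1')
  obtain ⟨E', ⟨η⟩, ⟨ε⟩⟩ := hE
  let ι : A.obj.obj ≅ F' := isoOfEquiv E E' η ε
  obtain ⟨hsh, hAlg⟩ := ((AlgSp.isAlgSpaceP_obj_iff A.obj).2 A.property).of_iso ι
  refine ⟨hsh, hAlg, ?_⟩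
  let X' : AlgSp.Sp S := ⟨F', hsh⟩
  let ι' : A.obj ≅ X' := ObjectProperty.isoMk _ ι
  let s : X' ⟶ (AlgSp.yon S).obj U := ObjectProperty.homMk snd
  have iso : BasedFunctor.comp E (Stk.ofPshMap snd) ≅
      BasedFunctor.comp (BasedFunctor.comp e (fpFst y (Stk.ofPshMap a))) (AlgSt.ofOverCat U) :=
    whiskerLeftIso (BasedFunctor.comp e
      (precomp₁ (AlgSt.ofOverCat U) (Stk.ofPshMap ξ) (Stk.ofPshMap a)))
      (whiskerRightIso ε1 (fpFst (Stk.ofPshMap ξ) (Stk.ofPshMap a)))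
  have h1 : (AlgSt.spMapOfOver (BasedFunctor.comp e (fpFst y (Stk.ofPshMap a)))).hom =
      mapOf (BasedFunctor.comp E (Stk.ofPshMap snd)) :=
    (spMapOfOver_hom _).trans (mapOf_congr iso).symm
  have h2 : mapOf (BasedFunctor.comp E (Stk.ofPshMap snd)) = mapOf E ≫ snd := by
    rw [mapOf_comp, mapOf_ofPshMap]
  have key : ι'.hom ≫ s =
      AlgSt.spMapOfOver (BasedFunctor.comp e (fpFst y (Stk.ofPshMap a))) := by
    apply ObjectProperty.hom_ext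
    exact (h1.trans h2).symm
  have hq' : Q (ι'.hom ≫ s) := by rw [key]; exact hq
  exact hQ ι' s A.property hAlg (AlgSp.IsAlgSpace.yon_obj U) hq'

/-! ### From schemes to algebraic spaces as test objects -/

open Groth.Agent.Lib.AlgSpLocP_helper7 Groth.Agent.Lib.AlgSpPoints_helper7 in
theorem prop_of_repBySpWith (Q : MorphismProperty (AlgSp.Sp S))
    (hP : AlgSp.IsLocalOnBase AlgSp.IsFppfCover Q) {V Z : AlgSp.Sp S} (hV : AlgSp.IsAlgSpace V)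
    (hZ : AlgSp.IsAlgSpace Z) (a : V ⟶ Z) (ha : AlgSp.RepBySpWith Q a.hom) : Q a := by
  obtain ⟨T, p, hpe, hps⟩ := hZ.atlas
  let ξ : (AlgSp.pyon S).obj T ⟶ Z.obj := p.hom
  have sq : IsPullback (pullback.fst a.hom ξ) (pullback.snd a.hom ξ) a.hom ξ :=
    IsPullback.of_hasPullback a.hom ξ
  obtain ⟨hs, hA, hq⟩ := ha ξ _ _ sq
  let X' : AlgSp.Sp S := ⟨pullback a.hom ξ, hs⟩
  let q : X' ⟶ V := ObjectProperty.homMk (pullback.fst a.hom ξ)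
  let r : X' ⟶ (AlgSp.yon S).obj T := ObjectProperty.homMk (pullback.snd a.hom ξ)
  have sq' : IsPullback q r a p := by
    refine IsPullback.of_map (sheafToPresheaf (AlgSp.J S) (Type (u + 1))) ?_ sq
    apply ObjectProperty.hom_ext
    exact sq.w
  have hE1 : ∀ ⦃A B : Scheme.{u}⦄ (g : A ⟶ B), Etale g → Flat g :=
    fun A B g hg => inferInstance
  have hE2 : ∀ ⦃A B : Scheme.{u}⦄ (g : A ⟶ B), Etale g → LocallyOfFinitePresentation g :=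
    fun A B g hg => inferInstance
  have hcov : AlgSp.IsFppfCover (fun _ : PUnit.{u + 1} => (AlgSp.yon S).obj T) (fun _ => p) := by
    refine ⟨fun _ => ⟨?_, ?_⟩, fun x => ⟨PUnit.unit, ?_⟩⟩
    · exact locP_of_repWith @Flat hE1 p (repWith_mono (fun A B g hg => hE1 g hg) hpe)
    · exact locP_of_repWith @LocallyOfFinitePresentation hE2 p
        (repWith_mono (fun A B g hg => hE2 g hg) hpe)
    · exact isSurjectiveMor_of_repWith p hps x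
  exact (hP (fun _ : PUnit.{u + 1} => (AlgSp.yon S).obj T) (fun _ => p) hZ
    (fun _ => AlgSp.IsAlgSpace.yon_obj T) hcov a hV (fun _ => X') (fun _ => r) (fun _ => q)
    (fun _ => hA) (fun _ => sq')).2 (fun _ => hq)

section stk

variable {𝒳 𝒴 𝒵 : AlgSt.Cat S}

theorem exists_space_of_repWith (h𝒳 : IsFibGrpd 𝒳.p) (h𝒴 : IsFibGrpd 𝒴.p)
    (P : MorphismProperty (AlgSp.Sp S))
    (hPb : ∀ ⦃X₁ Y₁ X₂ Y₂ : AlgSp.Sp S⦄, AlgSp.IsAlgSpace X₁ → AlgSp.IsAlgSpace Y₁ →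
      AlgSp.IsAlgSpace X₂ → AlgSp.IsAlgSpace Y₂ →
      ∀ (a : X₁ ⟶ Y₁) (b : Y₂ ⟶ Y₁) (a' : X₂ ⟶ Y₂) (b' : X₂ ⟶ X₁),
      IsPullback b' a' a b → P a → P a')
    (hP : AlgSp.IsLocalOnBase AlgSp.IsFppfCover P)
    (f : 𝒳 ⥤ᵇ 𝒴) (hf : AlgSt.RepByAlgSpWith P f) (Z : AlgSp.Space S)
    (z : AlgSt.ofSp Z.obj ⥤ᵇ 𝒴) :
    ∃ (V : AlgSp.Space S) (a : V ⟶ Z) (e : AlgSt.ofSp V.obj ⥤ᵇ FibCat.fp z f),
      FibCat.IsEquivOver e ∧
        Nonempty (BasedFunctor.comp e (FibCat.fpFst z f) ≅ AlgSt.ofSpMap a.hom) ∧ P a.hom := by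
  have hf1 : AlgSt.RepByAlgSp1 f := fun U y => by
    obtain ⟨F, e, he, _⟩ := hf U y
    exact ⟨F, e, he⟩
  obtain ⟨V, e, he⟩ := repByAlgSp_fp_ofSp h𝒳 h𝒴 f hf1 Z z
  let π' : Stk.ofPsh V.obj.obj ⥤ᵇ Stk.ofPsh Z.obj.obj := BasedFunctor.comp e (fpFst z f)
  let a₀ : V.obj.obj ⟶ Z.obj.obj := mapOf π'
  let a : V ⟶ Z := ObjectProperty.homMk (ObjectProperty.homMk a₀)
  have r1 : AlgSt.RepByAlgSpWith P (fpFst z f) := repWith_baseChange P f z hf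
  have r2 : AlgSt.RepByAlgSpWith P π' := repWith_precomp_equiv P e he (fpFst z f) r1
  have r3 : AlgSt.RepByAlgSpWith P (Stk.ofPshMap a₀) := repWith_of_iso P (isoOf π') r2
  have r4 : AlgSp.RepBySpWith P a₀ :=
    repBySpWith_of_repByAlgSpWith P (isoInv_of_bc P hPb) a₀ r3
  have r5 : P a.hom := prop_of_repBySpWith P hP V.property Z.property a.hom r4
  exact ⟨V, a, e, he, ⟨isoOf π'⟩, r5⟩

theorem repWith_of_forall_space (P : MorphismProperty (AlgSp.Sp S)) (f : 𝒳 ⥤ᵇ 𝒴)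
    (H : ∀ (Z : AlgSp.Space S) (z : AlgSt.ofSp Z.obj ⥤ᵇ 𝒴),
        ∃ (V : AlgSp.Space S) (a : V ⟶ Z) (e : AlgSt.ofSp V.obj ⥤ᵇ FibCat.fp z f),
          FibCat.IsEquivOver e ∧
            Nonempty (BasedFunctor.comp e (FibCat.fpFst z f) ≅ AlgSt.ofSpMap a.hom) ∧ P a.hom) :
    AlgSt.RepByAlgSpWith P f := by
  intro U y
  let Z : AlgSp.Space S := ⟨(AlgSp.yon S).obj U, AlgSp.IsAlgSpace.yon_obj U⟩
  obtain ⟨V, a, e, he, ⟨i⟩, hPa⟩ := H Z (BasedFunctor.comp (AlgSt.toOverCat U) y)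
  refine ⟨V, BasedFunctor.comp e (precomp₁ (AlgSt.toOverCat U) y f),
    isEquivOver_comp he (precomp₁_isEquivOver _ (toOverCat_isEquivOver U) y f), ?_⟩
  have iso : BasedFunctor.comp (BasedFunctor.comp e (precomp₁ (AlgSt.toOverCat U) y f))
      (fpFst y f) ≅ BasedFunctor.comp (AlgSt.ofSpMap a.hom) (AlgSt.toOverCat U) :=
    whiskerRightIso i (AlgSt.toOverCat U)
  have hk : AlgSt.spMapOfOver (BasedFunctor.comp
      (BasedFunctor.comp e (precomp₁ (AlgSt.toOverCat U) y f)) (fpFst y f)) = a.hom :=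
    (spMapOfOver_congr iso.hom).trans ((spMapOfOver_comp_ofSpMap a.hom _).trans (by
      rw [spMapOfOver_toOverCat, Category.comp_id]))
  rw [hk]
  exact hPa

/-- Composition of morphisms representable by algebraic spaces with property `P`. -/
theorem repWith_comp (h𝒳 : IsFibGrpd 𝒳.p) (h𝒴 : IsFibGrpd 𝒴.p)
    (P : MorphismProperty (AlgSp.Sp S))
    (hPb : ∀ ⦃X₁ Y₁ X₂ Y₂ : AlgSp.Sp S⦄, AlgSp.IsAlgSpace X₁ → AlgSp.IsAlgSpace Y₁ →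
      AlgSp.IsAlgSpace X₂ → AlgSp.IsAlgSpace Y₂ →
      ∀ (a : X₁ ⟶ Y₁) (b : Y₂ ⟶ Y₁) (a' : X₂ ⟶ Y₂) (b' : X₂ ⟶ X₁),
      IsPullback b' a' a b → P a → P a')
    (hPc : ∀ ⦃X Y Z : AlgSp.Sp S⦄, AlgSp.IsAlgSpace X → AlgSp.IsAlgSpace Y → AlgSp.IsAlgSpace Z →
      ∀ (a : X ⟶ Y) (b : Y ⟶ Z), P a → P b → P (a ≫ b))
    (hP : AlgSp.IsLocalOnBase AlgSp.IsFppfCover P)
    (f : 𝒳 ⥤ᵇ 𝒴) (g : 𝒴 ⥤ᵇ 𝒵) (hf : AlgSt.RepByAlgSpWith P f)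
    (hg : AlgSt.RepByAlgSpWith P g) : AlgSt.RepByAlgSpWith P (BasedFunctor.comp f g) := by
  intro U z
  obtain ⟨F₁, e₁, he₁, hP₁⟩ := hg U z
  obtain ⟨V, a, e₂, he₂, ⟨i₂⟩, hPa⟩ :=
    exists_space_of_repWith h𝒳 h𝒴 P hPb hP f hf F₁ (BasedFunctor.comp e₁ (fpSnd z g))
  have hpre := precomp₁_isEquivOver e₁ he₁ (fpSnd z g) f
  obtain ⟨Θ, ⟨η⟩, ⟨ε⟩⟩ := unpaste_isEquivOver z g f
  have hΘ : IsEquivOver Θ := isEquivOver_inverse η ε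
  refine ⟨V, BasedFunctor.comp e₂ (BasedFunctor.comp (precomp₁ e₁ (fpSnd z g) f) Θ),
    isEquivOver_comp he₂ (isEquivOver_comp hpre hΘ), ?_⟩
  have κ : BasedFunctor.comp Θ (fpFst z (BasedFunctor.comp f g)) ≅
      BasedFunctor.comp (fpFst (fpSnd z g) f) (fpFst z g) :=
    whiskerLeftIso Θ (unpasteFstIso z g f).symm ≪≫
      whiskerRightIso ε (BasedFunctor.comp (fpFst (fpSnd z g) f) (fpFst z g))
  have iso : BasedFunctor.comp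
      (BasedFunctor.comp e₂ (BasedFunctor.comp (precomp₁ e₁ (fpSnd z g) f) Θ))
      (fpFst z (BasedFunctor.comp f g)) ≅
      BasedFunctor.comp (AlgSt.ofSpMap a.hom) (BasedFunctor.comp e₁ (fpFst z g)) :=
    whiskerLeftIso (BasedFunctor.comp e₂ (precomp₁ e₁ (fpSnd z g) f)) κ ≪≫
      whiskerRightIso i₂ (BasedFunctor.comp e₁ (fpFst z g))
  have hk : AlgSt.spMapOfOver (BasedFunctor.comp
      (BasedFunctor.comp e₂ (BasedFunctor.comp (precomp₁ e₁ (fpSnd z g) f) Θ))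
      (fpFst z (BasedFunctor.comp f g))) =
      a.hom ≫ AlgSt.spMapOfOver (BasedFunctor.comp e₁ (fpFst z g)) :=
    (spMapOfOver_congr iso.hom).trans (spMapOfOver_comp_ofSpMap a.hom _)
  rw [hk]
  exact hPc V.property F₁.property (AlgSp.IsAlgSpace.yon_obj U) a.hom _ hPa hP₁

end stk

section products

open Groth.Agent.Lib.FibCatProd

variable {𝒳₁ 𝒳₂ 𝒴₁ 𝒴₂ : AlgSt.Cat S}

theorem repWith_prod (h𝒳₁ : IsFibGrpd 𝒳₁.p) (h𝒳₂ : IsFibGrpd 𝒳₂.p) (h𝒴₁ : IsFibGrpd 𝒴₁.p)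
    (P : MorphismProperty (AlgSp.Sp S))
    (hPb : ∀ ⦃X₁ Y₁ X₂ Y₂ : AlgSp.Sp S⦄, AlgSp.IsAlgSpace X₁ → AlgSp.IsAlgSpace Y₁ →
      AlgSp.IsAlgSpace X₂ → AlgSp.IsAlgSpace Y₂ →
      ∀ (a : X₁ ⟶ Y₁) (b : Y₂ ⟶ Y₁) (a' : X₂ ⟶ Y₂) (b' : X₂ ⟶ X₁),
      IsPullback b' a' a b → P a → P a')
    (hPc : ∀ ⦃X Y Z : AlgSp.Sp S⦄, AlgSp.IsAlgSpace X → AlgSp.IsAlgSpace Y → AlgSp.IsAlgSpace Z →
      ∀ (a : X ⟶ Y) (b : Y ⟶ Z), P a → P b → P (a ≫ b))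
    (hP : AlgSp.IsLocalOnBase AlgSp.IsFppfCover P)
    (f₁ : 𝒳₁ ⥤ᵇ 𝒴₁) (f₂ : 𝒳₂ ⥤ᵇ 𝒴₂) (hf₁ : AlgSt.RepByAlgSpWith P f₁)
    (hf₂ : AlgSt.RepByAlgSpWith P f₂)
    (e : BasedFunctor.comp (BasedFunctor.comp (fpFst (toSelf 𝒳₁) (toSelf 𝒳₂)) f₁) (toSelf 𝒴₁) ≅
      BasedFunctor.comp (BasedFunctor.comp (fpSnd (toSelf 𝒳₁) (toSelf 𝒳₂)) f₂) (toSelf 𝒴₂)) :
    AlgSt.RepByAlgSpWith P (fpLift (BasedFunctor.comp (fpFst (toSelf 𝒳₁) (toSelf 𝒳₂)) f₁)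
      (BasedFunctor.comp (fpSnd (toSelf 𝒳₁) (toSelf 𝒳₂)) f₂) e) := by
  have h1 : AlgSt.RepByAlgSpWith P (mapL (𝒵 := 𝒳₂) f₁
      (toSelfIso (BasedFunctor.comp (fpFst (toSelf 𝒳₁) (toSelf 𝒳₂)) f₁)
        (fpSnd (toSelf 𝒳₁) (toSelf 𝒳₂)))) :=
    repWith_of_twoCart P (g := fpFst (toSelf 𝒴₁) (toSelf 𝒳₂)) (f := f₁) _
      (fpFst (toSelf 𝒳₁) (toSelf 𝒳₂))
      (Iso.refl (BasedFunctor.comp (fpFst (toSelf 𝒳₁) (toSelf 𝒳₂)) f₁))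
      (cmpL_isEquivOver f₁ _) hf₁
  have h2 : AlgSt.RepByAlgSpWith P (mapR (𝒵 := 𝒴₁) f₂
      (toSelfIso (fpFst (toSelf 𝒴₁) (toSelf 𝒳₂))
        (BasedFunctor.comp (fpSnd (toSelf 𝒴₁) (toSelf 𝒳₂)) f₂))) :=
    repWith_of_twoCart P (g := fpSnd (toSelf 𝒴₁) (toSelf 𝒴₂)) (f := f₂) _
      (fpSnd (toSelf 𝒴₁) (toSelf 𝒳₂))
      (Iso.refl (BasedFunctor.comp (fpSnd (toSelf 𝒴₁) (toSelf 𝒳₂)) f₂))
      (cmpR_isEquivOver f₂ _) hf₂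
  have h3 := repWith_comp (Groth.Agent.Lib.FibCat12_helper6.isFibGrpd_prod h𝒳₁ h𝒳₂)
    (Groth.Agent.Lib.FibCat12_helper6.isFibGrpd_prod h𝒴₁ h𝒳₂) P hPb hPc hP _ _ h1 h2
  have ι : BasedFunctor.comp
      (mapL (𝒵 := 𝒳₂) f₁ (toSelfIso (BasedFunctor.comp (fpFst (toSelf 𝒳₁) (toSelf 𝒳₂)) f₁)
        (fpSnd (toSelf 𝒳₁) (toSelf 𝒳₂))))
      (mapR (𝒵 := 𝒴₁) f₂ (toSelfIso (fpFst (toSelf 𝒴₁) (toSelf 𝒳₂))
        (BasedFunctor.comp (fpSnd (toSelf 𝒴₁) (toSelf 𝒳₂)) f₂))) ≅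
      fpLift (BasedFunctor.comp (fpFst (toSelf 𝒳₁) (toSelf 𝒳₂)) f₁)
        (BasedFunctor.comp (fpSnd (toSelf 𝒳₁) (toSelf 𝒳₂)) f₂) e :=
    prodIsoMk2 (Iso.refl _) (Iso.refl _)
  exact repWith_of_iso P ι h3

end products

end Groth.Agent.Lib.OfPshWith
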