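import Mathlib
import Groth.Prelude
import Groth.Agent.Lib.OmField2_helper9
import Groth.Agent.Lib.OmGG_helper9
import Groth.Agent.Lib.ProjSpaceProper_helper4
import Groth.Agent.Lib.Snap32_helper9

/-!
# The canonical module of a curve of positive genus over an arbitrary field is globally
generated (helper9)
APPEND-ONLY once landed.
-/

set_option autoImplicit false
universe u
open AlgebraicGeometry CategoryTheory CategoryTheory.Limits TopologicalSpace Opposite

namespace OmGG

open Groth.Agent.TensInv CohB1 CurveGG AlgEq CurveAmple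

section Pt

variable (k : Type u) [Field k] (X : Scheme.{u}) [X.Over (Spec (CommRingCat.of k))]
  [IsIntegral X] [IsProper (X ↘ Spec (CommRingCat.of k))]

/-- the structure sheaf of a closed point has a nonzero global section -/
theorem finrank_HH0_quotMod_pos (x : X) (hx : IsClosed ({x} : Set X)) :
    0 < Module.finrank k (Coh.HH X
      (ClSub.quotMod (Scheme.IdealSheafData.vanishingIdeal ⟨{x}, hx⟩)) 0) := by
  haveI : IsLocallyNoetherian X :=
    LocallyOfFiniteType.isLocallyNoetherian (X ↘ Spec (CommRingCat.of k))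
  have hsupp : CohB1.support (ClSub.quotMod (Scheme.IdealSheafData.vanishingIdeal ⟨{x}, hx⟩)) =
      {x} := by
    rw [Snap9.support_quotMod, Scheme.IdealSheafData.coe_support_vanishingIdeal]
    rfl
  by_contra h
  have h0 : Module.finrank k (Coh.HH X
      (ClSub.quotMod (Scheme.IdealSheafData.vanishingIdeal ⟨{x}, hx⟩)) 0) = 0 := by omega
  have hQc := CurveIdeal.isCoh_quotMod (Scheme.IdealSheafData.vanishingIdeal ⟨{x}, hx⟩)
  haveI := ProperFinH9.finite_HH_of_proper k X _ hQc 0
  haveI : Subsingleton (Coh.HH X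
      (ClSub.quotMod (Scheme.IdealSheafData.vanishingIdeal ⟨{x}, hx⟩)) 0) :=
    (Module.finrank_eq_zero_iff_of_free k _).mp h0
  have hΓ : Subsingleton Γ(ClSub.quotMod (Scheme.IdealSheafData.vanishingIdeal ⟨{x}, hx⟩), ⊤) :=
    (Sheaf.H.equiv₀ (Coh.toAb (ClSub.quotMod
      (Scheme.IdealSheafData.vanishingIdeal ⟨{x}, hx⟩))) isTerminalTop).symm.toEquiv.subsingleton
  have hz := CurveDeg.isZero_of_closed_support X _ hQc
    (fun y hy => by
      rw [hsupp] at hy
      rw [Set.mem_singleton_iff.mp hy]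
      exact hx) hΓ
  have hempty := CycLenH8.support_eq_empty_of_isZero hz
  rw [hsupp] at hempty
  exact Set.singleton_ne_empty x hempty

/-- the ideal sheaf of a closed point has negative degree -/
theorem deg_idealMod_point_neg (x : X) (hx : IsClosed ({x} : Set X)) :
    Curv2.deg k X (ClSub.idealMod (Scheme.IdealSheafData.vanishingIdeal ⟨{x}, hx⟩)) 1 < 0 := by
  haveI : IsLocallyNoetherian X :=
    LocallyOfFiniteType.isLocallyNoetherian (X ↘ Spec (CommRingCat.of k))
  have hZ : topologicalKrullDim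
      ((Scheme.IdealSheafData.vanishingIdeal ⟨{x}, hx⟩).support : Set X) ≤ 0 := by
    have h2 : ((Scheme.IdealSheafData.vanishingIdeal ⟨{x}, hx⟩).support : Set X) = {x} :=
      Scheme.IdealSheafData.coe_support_vanishingIdeal _
    rw [h2]
    exact CurveSpec.dim_le_zero_of_closed_points {x} hx
      (fun y hy => by rw [Set.mem_singleton_iff.mp hy]; exact hx)
  have e := CurveIdeal.euler_structureModule_eq k X _ hZ
  have hpos := finrank_HH0_quotMod_pos k X x hx
  have hpos' : (0 : ℤ) < (Module.finrank k (Coh.HH X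
      (ClSub.quotMod (Scheme.IdealSheafData.vanishingIdeal ⟨{x}, hx⟩)) 0) : ℤ) := by
    exact_mod_cast hpos
  unfold Curv2.deg
  push_cast
  linarith

end Pt

section Om

variable (k : Type u) [Field k] (C : Scheme.{u})
  [C.Over (Spec (CommRingCat.of k))] [IsProper (C ↘ Spec (CommRingCat.of k))]
  [Smooth (C ↘ Spec (CommRingCat.of k))] [GeometricallyConnected (C ↘ Spec (CommRingCat.of k))]

/-- `h⁰(Ω(-x)) < h⁰(Ω)` on a curve of positive genus over an arbitrary field -/
theorem finrank_HH0_Omega_twist_point_lt' (hdim : topologicalKrullDim C = 1)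
    (hg : 1 ≤ Curv2.genus k C) (x : C) (hx : IsClosed ({x} : Set C)) :
    Module.finrank k (Coh.HH C (tensorMod (Ipt C x hx)
      (Omega.sheaf (C ↘ Spec (CommRingCat.of k)))) 0) <
    Module.finrank k (Coh.HH C (Omega.sheaf (C ↘ Spec (CommRingCat.of k))) 0) := by
  haveI := OmField.isIntegral k C
  haveI : IsLocallyNoetherian C :=
    LocallyOfFiniteType.isLocallyNoetherian (C ↘ Spec (CommRingCat.of k))
  have hreg := OmDual.hreg_of_smooth k C
  have hI : PicF.IsInvertible (Ipt C x hx) :=
    CurvePtInv.isInvertible_idealMod_point hdim hx (hreg x)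
  have hΩ := OmField.isInvertible_Omega k C hdim
  obtain ⟨J, hJ, ⟨eJ⟩⟩ := Groth.Agent.InvTensP.exists_inverse _ hI
  obtain ⟨T, hT, ⟨eT⟩⟩ := Groth.Agent.InvTensP.exists_inverse _ hΩ
  -- `Ω ⊗ (J ⊗ T) ≅ J`
  have u : tensorMod (Omega.sheaf (C ↘ Spec (CommRingCat.of k))) (tensorMod J T) ≅ J :=
    (assoc _ _ _).symm ≪≫ mapR (comm _ _) T ≪≫ assoc _ _ _ ≪≫ mapL J eT ≪≫ rightUnit J
  -- `(I ⊗ Ω) ⊗ (J ⊗ T) ≅ O`
  have e : tensorMod (tensorMod (Ipt C x hx) (Omega.sheaf (C ↘ Spec (CommRingCat.of k))))
      (tensorMod J T) ≅ Coh.structureModule C :=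
    assoc _ _ _ ≪≫ mapL _ u ≪≫ eJ
  have hM := TensH8.isInvertible_tensorMod hI hΩ
  have hd := OmField.finrank_HH1_eq_HH0_Omega_twist k C hdim hM e
  rw [(Groth.Agent.HypConn.hhEquivOfIso (A := k) u 0).finrank_eq] at hd
  -- `deg J = - deg I > 0`
  have dIJ := CurveTens.deg_tensorMod k C hdim.le hI hJ
  rw [CurveTens.deg_of_iso k C eJ 1, CurveDeg.deg_structureModule] at dIJ
  have dIneg := deg_idealMod_point_neg k C x hx
  have h0 := OmField.finrank_HH0_structureModule k C
  -- `h⁰(J) ≤ deg J`
  have hle : (Module.finrank k (Coh.HH C J 0) : ℤ) ≤ Curv2.deg k C J 1 := by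
    by_cases hs : Nontrivial (Coh.HH C J 0)
    · obtain ⟨h1, h2⟩ := CurveLin.h0_le_deg_add_one k C hdim h0 hJ hs
      by_contra hgt
      push Not at hgt
      have h3 : (Module.finrank k (Coh.HH C J 0) : ℤ) = Curv2.deg k C J 1 + 1 := by linarith
      have := h2 h3 (by linarith)
      omega
    · rw [not_nontrivial_iff_subsingleton] at hs
      rw [Module.finrank_zero_of_subsingleton]
      push_cast
      linarith
  have dM := CurveTens.deg_tensorMod k C hdim.le hI hΩ
  rw [OmField.deg_Omega k C hdim] at dM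
  haveI : (tensorMod (Ipt C x hx) (Omega.sheaf (C ↘ Spec (CommRingCat.of k)))).IsQuasicoherent :=
    TensH8.isQuasicoherent_of_isInvertible hM
  haveI : (Coh.structureModule C).IsQuasicoherent := TensH8.isQuasicoherent_structureModule
  have hgg : (Module.finrank k (Coh.HH C (Coh.structureModule C) 1) : ℤ) =
      (Curv2.genus k C : ℤ) := rfl
  have hRR : Curv2.deg k C (tensorMod (Ipt C x hx)
      (Omega.sheaf (C ↘ Spec (CommRingCat.of k)))) 1 =
      (Module.finrank k (Coh.HH C (tensorMod (Ipt C x hx)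
        (Omega.sheaf (C ↘ Spec (CommRingCat.of k)))) 0) : ℤ) -
      (Module.finrank k (Coh.HH C (tensorMod (Ipt C x hx)
        (Omega.sheaf (C ↘ Spec (CommRingCat.of k)))) 1) : ℤ) - (1 - (Curv2.genus k C : ℤ)) := by
    unfold Curv2.deg
    rw [CurveRR.euler_eq_sub k C hdim.le _,
      CurveRR.euler_eq_sub k C hdim.le (Coh.structureModule C), h0, hgg]
    push_cast
    ring
  rw [OmField.finrank_HH0_Omega k C hdim]
  have hd' : (Module.finrank k (Coh.HH C (tensorMod (Ipt C x hx)
      (Omega.sheaf (C ↘ Spec (CommRingCat.of k)))) 1) : ℤ) =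
      (Module.finrank k (Coh.HH C J 0) : ℤ) := by exact_mod_cast hd
  have : (Module.finrank k (Coh.HH C (tensorMod (Ipt C x hx)
      (Omega.sheaf (C ↘ Spec (CommRingCat.of k)))) 0) : ℤ) < (Curv2.genus k C : ℤ) := by
    have dIneg' : Curv2.deg k C (Ipt C x hx) 1 < 0 := dIneg
    linarith
  exact_mod_cast this

/-- **the canonical module of a smooth proper geometrically connected curve of positive genus over
an arbitrary field is globally generated** -/
theorem isGloballyGenerated_Omega' (hdim : topologicalKrullDim C = 1)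
    (hg : 1 ≤ Curv2.genus k C) :
    Curv2.IsGloballyGenerated (Omega.sheaf (C ↘ Spec (CommRingCat.of k))) := by
  haveI := OmField.isIntegral k C
  apply isGloballyGenerated_of_closed k C
  intro x hx
  exact exists_section_genAt_of_lt k C (OmField.isInvertible_Omega k C hdim) hx
    (finrank_HH0_Omega_twist_point_lt' k C hdim hg x hx)

end Om

section Proj

variable (k : Type u) [Field k] (X : Scheme.{u}) [X.Over (Spec (CommRingCat.of k))]

/-- **statement of S11578** -/
theorem main11578
    (hprojX : ∃ (N : ℕ) (i : X ⟶ CohB1.ProjSpace N k), IsClosedImmersion i ∧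
      i ≫ CohB1.ProjSpace.toSpec N k = X ↘ (Spec (CommRingCat.of k)))
    [IsIntegral X] (hdX : topologicalKrullDim X = 1) [Smooth (X ↘ (Spec (CommRingCat.of k)))]
    (hX0 : Module.finrank k (Coh.HH X (Coh.structureModule X) 0) = 1)
    (hg : 1 ≤ Curv2.genus k X) :
    Curv2.IsGloballyGenerated (Omega.sheaf (X ↘ (Spec (CommRingCat.of k)))) := by
  obtain ⟨N, i, hi, hcomp⟩ := hprojX
  haveI := hi
  haveI : IsProper (CohB1.ProjSpace.toSpec N k) :=
    Groth.Agent.Lib.ProjSpaceProperH4.isProper_toSpec N k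
  haveI : IsProper (X ↘ Spec (CommRingCat.of k)) := by
    rw [← hcomp]
    infer_instance
  haveI : IsLocallyNoetherian X :=
    LocallyOfFiniteType.isLocallyNoetherian (X ↘ Spec (CommRingCat.of k))
  haveI : CompactSpace X :=
    QuasiCompact.compactSpace_of_compactSpace (X ↘ Spec (CommRingCat.of k))
  haveI : QuasiSeparatedSpace X := inferInstance
  haveI := OmField.geometricallyConnected_of_finrank_HH0 k X hX0
  exact isGloballyGenerated_Omega' k X hdX hg

end Proj

end OmGG
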