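import Mathlib
import Groth.Prelude
import Groth.Agent.Lib.OmGG_helper9
import Groth.Agent.Lib.CurveSpec1_helper9

/-!
# `k`-very ampleness of the canonical module via Riemann–Roch and duality (helper9)
APPEND-ONLY once landed.
-/

set_option autoImplicit false
universe u
open AlgebraicGeometry CategoryTheory CategoryTheory.Limits TopologicalSpace Opposite

namespace OmVA

open Groth.Agent.TensInv CohB1

section Main

variable (k : Type u) [Field k] [IsAlgClosed k] (X : Scheme.{u})
  [X.Over (Spec (CommRingCat.of k))] [IsIntegral X]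
  [IsProper (X ↘ Spec (CommRingCat.of k))] [Smooth (X ↘ Spec (CommRingCat.of k))]

include k in
/-- a nontrivial finite subscheme of a smooth curve has an invertible ideal -/
theorem isInvertible_idealMod (hdim : topologicalKrullDim X = 1) (I : X.IdealSheafData)
    (hZ : topologicalKrullDim (I.support : Set X) ≤ 0) :
    PicF.IsInvertible (ClSub.idealMod I) := by
  haveI : IsLocallyNoetherian X :=
    LocallyOfFiniteType.isLocallyNoetherian (X ↘ Spec (CommRingCat.of k))
  apply CurvePtInv.isInvertible_idealMod_of_support hdim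
  intro x hx
  refine ⟨?_, OmDual.hreg_of_smooth k X x⟩
  rw [← CycLenH8.closure_singleton_of_dim_zero I.support.isClosed hZ hx]
  exact isClosed_closure

/-- **`h⁰(Ω ⊗ I) = g - 1 - deg Z + h⁰(O(Z))`** -/
theorem finrank_HH0_Omega_ideal (hdim : topologicalKrullDim X = 1) (I : X.IdealSheafData)
    (hZ : topologicalKrullDim (I.support : Set X) ≤ 0) (M : X.Modules)
    (eM : tensorMod (ClSub.idealMod I) M ≅ Coh.structureModule X) :
    (Module.finrank k (Coh.HH X (tensorMod (Omega.sheaf (X ↘ Spec (CommRingCat.of k)))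
      (ClSub.idealMod I)) 0) : ℤ) +
      (Module.finrank k (Coh.HH X (ClSub.quotMod I) 0) : ℤ) + 1 =
    (Curv2.genus k X : ℤ) + (Module.finrank k (Coh.HH X M 0) : ℤ) := by
  haveI : IsLocallyNoetherian X :=
    LocallyOfFiniteType.isLocallyNoetherian (X ↘ Spec (CommRingCat.of k))
  have hI := isInvertible_idealMod k X hdim I hZ
  have hΩ := OmDual.isInvertible_Omega k X hdim
  obtain ⟨T, hT, ⟨eT⟩⟩ := Groth.Agent.InvTensP.exists_inverse _ hΩ
  -- `Ω ⊗ (M ⊗ T) ≅ M`
  have u : tensorMod (Omega.sheaf (X ↘ Spec (CommRingCat.of k))) (tensorMod M T) ≅ M :=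
    (assoc _ _ _).symm ≪≫ mapR (comm _ _) T ≪≫ assoc _ _ _ ≪≫ mapL M eT ≪≫ rightUnit M
  -- `(I ⊗ Ω) ⊗ (M ⊗ T) ≅ O`
  have e : tensorMod (tensorMod (ClSub.idealMod I) (Omega.sheaf (X ↘ Spec (CommRingCat.of k))))
      (tensorMod M T) ≅ Coh.structureModule X :=
    assoc _ _ _ ≪≫ mapL _ u ≪≫ eM
  have hN := TensH8.isInvertible_tensorMod hI hΩ
  have hd := OmDual.finrank_HH1_eq_HH0_Omega_twist k X hdim hN e
  rw [(Groth.Agent.HypConn.hhEquivOfIso (A := k) u 0).finrank_eq] at hd
  have hχ := CurveIdeal.euler_eq_add k X I hZ hΩ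
  haveI : (tensorMod (ClSub.idealMod I)
      (Omega.sheaf (X ↘ Spec (CommRingCat.of k)))).IsQuasicoherent :=
    TensH8.isQuasicoherent_of_isInvertible hN
  haveI : (Omega.sheaf (X ↘ Spec (CommRingCat.of k))).IsQuasicoherent :=
    TensH8.isQuasicoherent_of_isInvertible hΩ
  rw [CurveRR.euler_eq_sub k X hdim.le _, CurveRR.euler_eq_sub k X hdim.le
    (tensorMod (ClSub.idealMod I) (Omega.sheaf (X ↘ Spec (CommRingCat.of k)))),
    OmDual.finrank_HH0_Omega k X hdim, OmDual.finrank_HH1_Omega k X hdim, hd] at hχ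
  rw [(Groth.Agent.HypConn.hhEquivOfIso (A := k)
    (comm (Omega.sheaf (X ↘ Spec (CommRingCat.of k))) (ClSub.idealMod I)) 0).finrank_eq]
  push_cast at hχ
  linarith

/-- **statement of S18805** -/
theorem main18805 (hdim : topologicalKrullDim X = 1) :
    (∀ (I : X.IdealSheafData), Module.finrank k (Coh.HH X (ClSub.quotMod I) 0) = 4 →
      Module.finrank k (Coh.HH X (CohB1.tensorMod (Omega.sheaf (X ↘ Spec (CommRingCat.of k)))
        (ClSub.idealMod I)) 0) + 4 =
        Module.finrank k (Coh.HH X (Omega.sheaf (X ↘ Spec (CommRingCat.of k))) 0)) ↔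
    (∀ (I : X.IdealSheafData), Module.finrank k (Coh.HH X (ClSub.quotMod I) 0) = 4 →
      ∀ (M : X.Modules), ClSub.IsInverseOf (ClSub.idealMod I) M →
        Module.finrank k (Coh.HH X M 0) = 1) := by
  have h0 := CurveSpec.finrank_HH0_structureModule k X hdim
  have hZ : ∀ I : X.IdealSheafData, Module.finrank k (Coh.HH X (ClSub.quotMod I) 0) = 4 →
      topologicalKrullDim (I.support : Set X) ≤ 0 := fun I hI =>
    CurveSpec.dim_support_le_zero k X hdim.le I (by rw [h0, hI]; decide)
  constructor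
  · intro H I hI M ⟨eM⟩
    have h1 := finrank_HH0_Omega_ideal k X hdim I (hZ I hI) M eM
    have h2 := H I hI
    rw [OmDual.finrank_HH0_Omega k X hdim] at h2
    rw [hI] at h1
    have h2' : (Module.finrank k (Coh.HH X (CohB1.tensorMod
        (Omega.sheaf (X ↘ Spec (CommRingCat.of k))) (ClSub.idealMod I)) 0) : ℤ) + 4 =
        (Curv2.genus k X : ℤ) := by exact_mod_cast h2
    have : (Module.finrank k (Coh.HH X M 0) : ℤ) = 1 := by push_cast at h1; linarith
    exact_mod_cast this
  · intro H I hI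
    obtain ⟨M, -, ⟨eM⟩⟩ := Groth.Agent.InvTensP.exists_inverse _
      (isInvertible_idealMod k X hdim I (hZ I hI))
    have h1 := finrank_HH0_Omega_ideal k X hdim I (hZ I hI) M eM
    have h2 := H I hI M ⟨eM⟩
    rw [OmDual.finrank_HH0_Omega k X hdim]
    rw [hI, h2] at h1
    have : (Module.finrank k (Coh.HH X (CohB1.tensorMod
        (Omega.sheaf (X ↘ Spec (CommRingCat.of k))) (ClSub.idealMod I)) 0) : ℤ) + 4 =
        (Curv2.genus k X : ℤ) := by push_cast at h1; linarith
    exact_mod_cast this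

end Main

end OmVA
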