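import Mathlib
import Groth.Agent.Lib.KaehlerReg_helper3

/-!
# Fibre of Kähler differentials at a rational point and dimension (helper3)

Pure algebra for S14443: for `A → B → R` with `R` a local ring "essentially a quotient of `B`"
at a maximal ideal `q` with residue field `k`, such that the image of `A` in `R` is `k`:
`dim R ≤ dim_k (Ω[B/A] / q Ω[B/A])`.

APPEND-ONLY once landed.
-/

universe u

open TensorProduct KaehlerDifferential IsLocalRing

namespace Groth.Agent.Lib.OmegaFibreH3

/-- semilinear bijections preserve `finrank`. -/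
theorem finrank_eq_of_bij {k k' : Type*} {V W : Type u} [Semiring k] [Semiring k']
    [AddCommMonoid V] [AddCommMonoid W] [Module k V] [Module k' W]
    (i : k → k') (j : V ≃+ W) (hi : Function.Bijective i)
    (hc : ∀ (c : k) (v : V), j (c • v) = i c • j v) :
    Module.finrank k V = Module.finrank k' W := by
  unfold Module.finrank
  rw [rank_eq_of_equiv_equiv i j hi hc]

/-- additive surjections compatible with scalars do not increase `finrank`. -/
theorem finrank_le_of_surj {k : Type*} {V W : Type*} [Field k] [AddCommGroup V] [AddCommGroup W]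
    [Module k V] [Module k W] [Module.Finite k V] (f : V →+ W) (hf : Function.Surjective f)
    (hc : ∀ (c : k) (v : V), f (c • v) = c • f v) :
    Module.finrank k W ≤ Module.finrank k V :=
  LinearMap.finrank_le_finrank_of_surjective
    (f := ({ toFun := f, map_add' := f.map_add, map_smul' := hc } : V →ₗ[k] W)) hf

section Dim

variable (k R : Type u) [Field k] [CommRing R] [IsLocalRing R] [IsNoetherianRing R] [Algebra k R]

/-- `dim R ≤ dim_k Ω[R/k] / m Ω[R/k]` for a Noetherian local `k`-algebra with residue field `k`. -/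
theorem ringKrullDim_le_finrank_quot
    (hres : Function.Bijective (algebraMap k (ResidueField R))) :
    ringKrullDim R ≤
      (Module.finrank k (Ω[R⁄k] ⧸ (maximalIdeal R • ⊤ : Submodule R Ω[R⁄k])) : ℕ) := by
  have h1 := ringKrullDim_le_spanFinrank_maximalIdeal R
  rw [spanFinrank_maximalIdeal_eq_finrank_cotangentSpace R,
    ← Groth.Agent.Lib.KaehlerRegH3.finrank_tensor_eq k R hres] at h1
  have h2 : Module.finrank k (Ω[R⁄k] ⧸ (maximalIdeal R • ⊤ : Submodule R Ω[R⁄k])) =
      Module.finrank (ResidueField R) (ResidueField R ⊗[R] Ω[R⁄k]) := by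
    let e : (ResidueField R ⊗[R] Ω[R⁄k]) ≃ₗ[R]
        (Ω[R⁄k] ⧸ (maximalIdeal R • ⊤ : Submodule R Ω[R⁄k])) :=
      quotTensorEquivQuotSMul Ω[R⁄k] (maximalIdeal R)
    refine finrank_eq_of_bij (algebraMap k (ResidueField R)) e.symm.toAddEquiv hres ?_
    intro c w
    show e.symm (c • w) = algebraMap k (ResidueField R) c • e.symm w
    have h3 : e.symm (c • w) = algebraMap k R c • e.symm w := by
      rw [← algebraMap_smul R c w, map_smul]
    rw [h3, IsScalarTower.algebraMap_apply k R (ResidueField R)]
    exact (algebraMap_smul (ResidueField R) (algebraMap k R c) (e.symm w)).symm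
  rw [h2]
  exact h1

end Dim

section BaseImage

variable (k A R : Type u) [CommRing k] [CommRing A] [CommRing R] [Algebra k A] [Algebra k R]
  [Algebra A R] [IsScalarTower k A R]

/-- `Ω[R/k] → Ω[R/A]` is bijective when `A` and `k` have the same image in `R`. -/
theorem map_bijective_of_range_le
    (h : ∀ a : A, ∃ c : k, algebraMap A R a = algebraMap k R c) :
    Function.Bijective (KaehlerDifferential.map k A R R) := by
  refine ⟨?_, KaehlerDifferential.map_surjective k A R⟩
  rw [← LinearMap.ker_eq_bot, ← KaehlerDifferential.range_mapBaseChange, LinearMap.range_eq_bot]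
  have hmap : ∀ y : Ω[A⁄k], KaehlerDifferential.map k k A R y = 0 := by
    intro y
    have hy : y ∈ Submodule.span A (Set.range (KaehlerDifferential.D k A)) := by
      rw [KaehlerDifferential.span_range_derivation]; trivial
    induction hy using Submodule.span_induction with
    | mem x hx =>
      obtain ⟨a, rfl⟩ := hx
      rw [KaehlerDifferential.map_D]
      obtain ⟨c, hc⟩ := h a
      rw [hc]
      exact (KaehlerDifferential.D k R).map_algebraMap c
    | zero => exact map_zero _
    | add x y _ _ hx hy => rw [map_add, hx, hy, add_zero]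
    | smul a x _ hx => rw [map_smul, hx, smul_zero]
  refine LinearMap.ext fun z => ?_
  induction z using TensorProduct.induction_on with
  | zero => simp
  | tmul x y => rw [KaehlerDifferential.mapBaseChange_tmul, hmap, smul_zero]; rfl
  | add x y hx hy => rw [map_add, hx, hy]; simp

end BaseImage

section Span

variable (A B R : Type u) [CommRing A] [CommRing B] [CommRing R] [Algebra A B] [Algebra A R]
  [Algebra B R] [IsScalarTower A B R]

/-- if every element of `R` is a fraction of elements of `B`, the differentials of elements of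
`B` span `Ω[R/A]`. -/
theorem span_range_D_algebraMap
    (hfrac : ∀ r : R, ∃ b s : B, IsUnit (algebraMap B R s) ∧
      r * algebraMap B R s = algebraMap B R b) :
    Submodule.span R (Set.range fun b : B => KaehlerDifferential.D A R (algebraMap B R b)) = ⊤ := by
  rw [eq_top_iff, ← KaehlerDifferential.span_range_derivation A R, Submodule.span_le]
  rintro _ ⟨r, rfl⟩
  obtain ⟨b, s, hs, hrs⟩ := hfrac r
  set N := Submodule.span R (Set.range fun b : B => KaehlerDifferential.D A R (algebraMap B R b))
    with hN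
  have hb : KaehlerDifferential.D A R (algebraMap B R b) ∈ N := Submodule.subset_span ⟨b, rfl⟩
  have hs' : KaehlerDifferential.D A R (algebraMap B R s) ∈ N := Submodule.subset_span ⟨s, rfl⟩
  have h1 : algebraMap B R s • KaehlerDifferential.D A R r =
      KaehlerDifferential.D A R (algebraMap B R b) -
        r • KaehlerDifferential.D A R (algebraMap B R s) := by
    rw [← hrs, Derivation.leibniz]
    abel
  have h2 : algebraMap B R s • KaehlerDifferential.D A R r ∈ N := by
    rw [h1]
    exact N.sub_mem hb (N.smul_mem r hs')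
  obtain ⟨u, hu⟩ := hs
  have h3 : KaehlerDifferential.D A R r =
      ((u⁻¹ : Rˣ) : R) • (algebraMap B R s • KaehlerDifferential.D A R r) := by
    rw [smul_smul, ← hu, Units.inv_mul, one_smul]
  show KaehlerDifferential.D A R r ∈ N
  rw [h3]
  exact N.smul_mem _ h2

variable [IsLocalRing R]

/-- the induced map on fibres `Ω[B/A]/q → Ω[R/A]/m` is surjective. -/
theorem exists_fibre_surj (q : Ideal B)
    (hq : ∀ b ∈ q, algebraMap B R b ∈ maximalIdeal R)
    (hfrac : ∀ r : R, ∃ b s : B, IsUnit (algebraMap B R s) ∧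
      r * algebraMap B R s = algebraMap B R b)
    (hres : ∀ r : R, ∃ b : B, r - algebraMap B R b ∈ maximalIdeal R) :
    ∃ φ : (Ω[B⁄A] ⧸ (q • ⊤ : Submodule B Ω[B⁄A])) →ₗ[B]
        (Ω[R⁄A] ⧸ (maximalIdeal R • ⊤ : Submodule R Ω[R⁄A])), Function.Surjective φ := by
  let G : Ω[B⁄A] →ₗ[B] (Ω[R⁄A] ⧸ (maximalIdeal R • ⊤ : Submodule R Ω[R⁄A])) :=
    ((maximalIdeal R • ⊤ : Submodule R Ω[R⁄A]).mkQ.restrictScalars B) ∘ₗ
      (KaehlerDifferential.map A A B R)
  have hG : ∀ ω, G ω = Submodule.Quotient.mk (KaehlerDifferential.map A A B R ω) := fun _ => rfl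
  have hle : (q • ⊤ : Submodule B Ω[B⁄A]) ≤ LinearMap.ker G := by
    rw [Submodule.smul_le]
    intro b hb ω _
    rw [LinearMap.mem_ker, hG, map_smul, ← algebraMap_smul R b, Submodule.Quotient.mk_eq_zero]
    exact Submodule.smul_mem_smul (hq b hb) Submodule.mem_top
  refine ⟨Submodule.liftQ _ G hle, ?_⟩
  intro w
  obtain ⟨ω', rfl⟩ := Submodule.Quotient.mk_surjective _ w
  suffices h : ∃ ω, G ω = Submodule.Quotient.mk ω' by
    obtain ⟨ω, hω⟩ := h
    exact ⟨Submodule.Quotient.mk ω, by rw [← hω]; rfl⟩
  have hmem : ω' ∈ Submodule.span R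
      (Set.range fun b : B => KaehlerDifferential.D A R (algebraMap B R b)) := by
    rw [span_range_D_algebraMap A B R hfrac]; trivial
  induction hmem using Submodule.span_induction with
  | mem x hx =>
    obtain ⟨b, rfl⟩ := hx
    exact ⟨KaehlerDifferential.D A B b, by rw [hG, KaehlerDifferential.map_D]⟩
  | zero => exact ⟨0, by rw [map_zero]; rfl⟩
  | add x y _ _ hx hy =>
    obtain ⟨ω₁, h₁⟩ := hx
    obtain ⟨ω₂, h₂⟩ := hy
    exact ⟨ω₁ + ω₂, by rw [map_add, h₁, h₂]; rfl⟩
  | smul r x _ hx =>
    obtain ⟨ω, hω⟩ := hx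
    obtain ⟨b, hb⟩ := hres r
    refine ⟨b • ω, ?_⟩
    rw [map_smul, hω]
    have h1 : (Submodule.Quotient.mk (r • x) :
        Ω[R⁄A] ⧸ (maximalIdeal R • ⊤ : Submodule R Ω[R⁄A])) =
        Submodule.Quotient.mk (algebraMap B R b • x) := by
      rw [Submodule.Quotient.eq, ← sub_smul]
      exact Submodule.smul_mem_smul hb Submodule.mem_top
    rw [h1, algebraMap_smul]
    rfl

end Span

section Finite

variable (k B : Type u) [Field k] [CommRing B] [Algebra k B]

/-- a finite `B`-module modulo a maximal ideal with residue field `k` is finite over `k`. -/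
theorem finite_quot (M : Type u) [AddCommGroup M] [Module B M] [Module k M] [IsScalarTower k B M]
    [Module.Finite B M] (q : Ideal B) (hk : ∀ b : B, ∃ c : k, b - algebraMap k B c ∈ q) :
    Module.Finite k (M ⧸ (q • ⊤ : Submodule B M)) := by
  classical
  obtain ⟨S, hS⟩ := (Module.Finite.fg_top : (⊤ : Submodule B M).FG)
  refine ⟨⟨S.image (Submodule.Quotient.mk (p := (q • ⊤ : Submodule B M))), ?_⟩⟩
  rw [eq_top_iff]
  rintro w -
  obtain ⟨m, rfl⟩ := Submodule.Quotient.mk_surjective _ w
  have hm : m ∈ Submodule.span B (S : Set M) := by rw [hS]; trivial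
  set N := Submodule.span k
    (↑(S.image (Submodule.Quotient.mk (p := (q • ⊤ : Submodule B M)))) :
      Set (M ⧸ (q • ⊤ : Submodule B M))) with hN
  induction hm using Submodule.span_induction with
  | mem x hx =>
    exact Submodule.subset_span (Finset.mem_coe.2 (Finset.mem_image_of_mem _ hx))
  | zero => exact N.zero_mem
  | add x y _ _ hx hy => exact N.add_mem hx hy
  | smul b x _ hx =>
    obtain ⟨c, hc⟩ := hk b
    have h1 : (Submodule.Quotient.mk (b • x) : M ⧸ (q • ⊤ : Submodule B M)) =
        c • Submodule.Quotient.mk x := by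
      rw [← Submodule.Quotient.mk_smul, Submodule.Quotient.eq, ← algebraMap_smul B c x,
        ← sub_smul]
      exact Submodule.smul_mem_smul hc Submodule.mem_top
    rw [h1]
    exact N.smul_mem c hx

end Finite

section Main

variable (k A B R : Type u) [Field k] [CommRing A] [CommRing B] [CommRing R] [IsLocalRing R]
  [IsNoetherianRing R] [Algebra k A] [Algebra k B] [Algebra A B] [IsScalarTower k A B]
  [Algebra k R] [Algebra A R] [Algebra B R] [IsScalarTower A B R] [IsScalarTower k B R]
  [IsScalarTower k A R] [Module.Finite B Ω[B⁄A]]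

/-- **Main algebraic statement for S14443.** -/
theorem alg_main (q : Ideal B)
    (hq : ∀ b ∈ q, algebraMap B R b ∈ maximalIdeal R)
    (hk : ∀ b : B, ∃ c : k, b - algebraMap k B c ∈ q)
    (hfrac : ∀ r : R, ∃ b s : B, IsUnit (algebraMap B R s) ∧
      r * algebraMap B R s = algebraMap B R b)
    (hA : ∀ a : A, algebraMap A B a ∈ q → algebraMap A R a = 0) :
    ringKrullDim R ≤ (Module.finrank k (Ω[B⁄A] ⧸ (q • ⊤ : Submodule B Ω[B⁄A])) : ℕ) := by
  have hresB : ∀ b : B, ∃ c : k, algebraMap B R b - algebraMap k R c ∈ maximalIdeal R := by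
    intro b
    obtain ⟨c, hc⟩ := hk b
    refine ⟨c, ?_⟩
    have := hq _ hc
    rwa [map_sub, ← IsScalarTower.algebraMap_apply k B R] at this
  have hresk : ∀ r : R, ∃ c : k, r - algebraMap k R c ∈ maximalIdeal R := by
    intro r
    obtain ⟨b, s, hs, hrs⟩ := hfrac r
    obtain ⟨cb, hcb⟩ := hresB b
    obtain ⟨cs, hcs⟩ := hresB s
    have hcs0 : cs ≠ 0 := by
      rintro rfl
      rw [map_zero, sub_zero] at hcs
      exact (mem_maximalIdeal _).1 hcs hs
    refine ⟨cb / cs, ?_⟩
    have h1 : (r - algebraMap k R (cb / cs)) * algebraMap B R s ∈ maximalIdeal R := by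
      have h2 : (r - algebraMap k R (cb / cs)) * algebraMap B R s =
          (algebraMap B R b - algebraMap k R cb) -
            algebraMap k R (cb / cs) * (algebraMap B R s - algebraMap k R cs) := by
        have h3 : algebraMap k R (cb / cs) * algebraMap k R cs = algebraMap k R cb := by
          rw [← map_mul, div_mul_cancel₀ cb hcs0]
        rw [sub_mul, hrs, mul_sub, h3]
        ring
      rw [h2]
      exact Ideal.sub_mem _ hcb (Ideal.mul_mem_left _ _ hcs)
    exact ((maximalIdeal.isMaximal R).isPrime.mem_or_mem h1).resolve_right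
      (fun h => (mem_maximalIdeal _).1 h hs)
  have hres : Function.Bijective (algebraMap k (ResidueField R)) := by
    refine ⟨(algebraMap k (ResidueField R)).injective, fun y => ?_⟩
    obtain ⟨r, rfl⟩ := IsLocalRing.residue_surjective y
    obtain ⟨c, hc⟩ := hresk r
    refine ⟨c, ?_⟩
    rw [IsScalarTower.algebraMap_apply k R (ResidueField R)]
    exact ((Ideal.Quotient.eq).2 hc).symm
  have hAk : ∀ a : A, ∃ c : k, algebraMap A R a = algebraMap k R c := by
    intro a
    obtain ⟨c, hc⟩ := hk (algebraMap A B a)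
    refine ⟨c, ?_⟩
    have h1 : algebraMap A B (a - algebraMap k A c) ∈ q := by
      rwa [map_sub, ← IsScalarTower.algebraMap_apply k A B]
    have h2 := hA _ h1
    rw [map_sub, ← IsScalarTower.algebraMap_apply k A R, sub_eq_zero] at h2
    exact h2
  have h1 := ringKrullDim_le_finrank_quot k R hres
  let E : Ω[R⁄k] ≃ₗ[R] Ω[R⁄A] := LinearEquiv.ofBijective (KaehlerDifferential.map k A R R)
    (map_bijective_of_range_le k A R hAk)
  have hE : (maximalIdeal R • ⊤ : Submodule R Ω[R⁄k]).map (E : Ω[R⁄k] →ₗ[R] Ω[R⁄A]) =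
      maximalIdeal R • ⊤ := by
    rw [Submodule.map_smul'', Submodule.map_top, LinearEquiv.range]
  have h2 : Module.finrank k (Ω[R⁄k] ⧸ (maximalIdeal R • ⊤ : Submodule R Ω[R⁄k])) =
      Module.finrank k (Ω[R⁄A] ⧸ (maximalIdeal R • ⊤ : Submodule R Ω[R⁄A])) :=
    ((Submodule.Quotient.equiv _ _ E hE).restrictScalars k).finrank_eq
  obtain ⟨φ, hφ⟩ := exists_fibre_surj A B R q hq hfrac (fun r => by
    obtain ⟨c, hc⟩ := hresk r
    exact ⟨algebraMap k B c, by rwa [← IsScalarTower.algebraMap_apply k B R]⟩)
  haveI := finite_quot k B Ω[B⁄A] q hk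
  have h3 : Module.finrank k (Ω[R⁄A] ⧸ (maximalIdeal R • ⊤ : Submodule R Ω[R⁄A])) ≤
      Module.finrank k (Ω[B⁄A] ⧸ (q • ⊤ : Submodule B Ω[B⁄A])) :=
    LinearMap.finrank_le_finrank_of_surjective (f := φ.restrictScalars k) hφ
  refine h1.trans ?_
  rw [h2]
  exact_mod_cast h3

end Main

end Groth.Agent.Lib.OmegaFibreH3
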