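import Mathlib
import Groth.Prelude
import Groth.Agent.Lib.WeakAssSch_helper4

/-!
# The fibre of a quasi-coherent module at a closed point of an affine chart (helper3)

`F(x) = F_x / m_x F_x` is `Γ(F, U) / q Γ(F, U)` for `q` the (maximal) ideal of `x` in `Γ(X, U)`.

APPEND-ONLY once landed.
-/

set_option autoImplicit false
universe u

namespace Groth.Agent.Lib.OmegaFibreH3

open AlgebraicGeometry CategoryTheory TopologicalSpace Opposite
open Groth.Agent.Lib.QCohLoc_helper4 Groth.Agent.Lib.WeakAssSch_helper4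

section Abstract

variable {A : Type*} [CommRing A] (p : Ideal A) [hp : p.IsMaximal] {M : Type*} [AddCommGroup M]
  [Module A M] {B : Type*} [CommRing B] [IsLocalRing B] {N : Type*} [AddCommGroup N] [Module B N]
  (ρ : A →+* B) (γ : M →+ N)

/-- Abstract form: if `N` over the local ring `B` is the localization of `M` at the maximal ideal
`p`, then `M / pM ≃ N / m_B N`. -/
theorem exists_quot_equiv_of_loc
    (hunit : ∀ a, a ∉ p → IsUnit (ρ a)) (hmem : ∀ a ∈ p, ρ a ∈ IsLocalRing.maximalIdeal B)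
    (hB : ∀ b : B, ∃ (s a : A), s ∉ p ∧ ρ s * b = ρ a)
    (hγ : ∀ a m, γ (a • m) = ρ a • γ m)
    (hN : ∀ z : N, ∃ (s : A) (m : M), s ∉ p ∧ ρ s • z = γ m)
    (hker : ∀ m, γ m = 0 → ∃ s, s ∉ p ∧ s • m = 0) :
    ∃ j : (M ⧸ (p • ⊤ : Submodule A M)) ≃+
        (N ⧸ (IsLocalRing.maximalIdeal B • ⊤ : Submodule B N)),
      ∀ (a : A) (n : M ⧸ (p • ⊤ : Submodule A M)), j (a • n) = ρ a • j n := by
  letI modA : Module A (N ⧸ (IsLocalRing.maximalIdeal B • ⊤ : Submodule B N)) :=
    Module.compHom _ ρ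
  let G : M →ₗ[A] (N ⧸ (IsLocalRing.maximalIdeal B • ⊤ : Submodule B N)) :=
    { toFun := fun m => Submodule.Quotient.mk (γ m)
      map_add' := fun m₁ m₂ => by rw [map_add]; rfl
      map_smul' := fun a m => by
        rw [hγ]; rfl }
  have hG : ∀ m, G m = Submodule.Quotient.mk (γ m) := fun _ => rfl
  have hle : (p • ⊤ : Submodule A M) ≤ LinearMap.ker G := by
    rw [Submodule.smul_le]
    intro a ha m _
    rw [LinearMap.mem_ker, hG, hγ, Submodule.Quotient.mk_eq_zero]
    exact Submodule.smul_mem_smul (hmem a ha) Submodule.mem_top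
  -- key: elements of `m_B N` come from `pM` up to a unit
  have keyA : ∀ z ∈ (IsLocalRing.maximalIdeal B • ⊤ : Submodule B N),
      ∃ (c : A) (m : M), c ∉ p ∧ m ∈ (p • ⊤ : Submodule A M) ∧ ρ c • z = γ m := by
    intro z hz
    refine Submodule.smul_induction_on hz ?_ ?_
    · intro b hb n _
      obtain ⟨s, a, hs, hsb⟩ := hB b
      obtain ⟨s', m, hs', hsm⟩ := hN n
      have ha : a ∈ p := by
        by_contra hap
        have h1 : IsUnit (ρ s * b) := hsb ▸ hunit a hap
        exact (IsLocalRing.mem_maximalIdeal b).mp hb (isUnit_of_mul_isUnit_right h1)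
      refine ⟨s * s', a • m, ?_, Submodule.smul_mem_smul ha Submodule.mem_top, ?_⟩
      · intro h
        rcases hp.isPrime.mem_or_mem h with h | h
        · exact hs h
        · exact hs' h
      · rw [hγ, ← hsm, ← hsb, map_mul, smul_smul, smul_smul]
        congr 1
        ring
    · intro z₁ z₂ h₁ h₂
      obtain ⟨c₁, m₁, hc₁, hm₁, e₁⟩ := h₁
      obtain ⟨c₂, m₂, hc₂, hm₂, e₂⟩ := h₂
      refine ⟨c₁ * c₂, c₂ • m₁ + c₁ • m₂, ?_, Submodule.add_mem _ (Submodule.smul_mem _ _ hm₁)
        (Submodule.smul_mem _ _ hm₂), ?_⟩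
      · intro h
        rcases hp.isPrime.mem_or_mem h with h | h
        · exact hc₁ h
        · exact hc₂ h
      · rw [map_add, hγ, hγ, ← e₁, ← e₂, smul_add, map_mul, smul_smul, smul_smul, mul_comm]
  let j₀ := Submodule.liftQ (p • ⊤ : Submodule A M) G hle
  have hj₀ : ∀ m, j₀ (Submodule.Quotient.mk m) = Submodule.Quotient.mk (γ m) := fun _ => rfl
  have hinj : Function.Injective j₀ := by
    rw [← LinearMap.ker_eq_bot, eq_bot_iff]
    intro n hn
    obtain ⟨m, rfl⟩ := Submodule.Quotient.mk_surjective _ n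
    rw [LinearMap.mem_ker, hj₀, Submodule.Quotient.mk_eq_zero] at hn
    obtain ⟨c, m', hc, hm', e⟩ := keyA _ hn
    have h0 : γ (c • m - m') = 0 := by rw [map_sub, hγ, e, sub_self]
    obtain ⟨s, hs, hsm⟩ := hker _ h0
    have h1 : (s * c) • m ∈ (p • ⊤ : Submodule A M) := by
      have : (s * c) • m = s • m' := by
        rw [mul_smul]
        rw [smul_sub, sub_eq_zero] at hsm
        exact hsm
      rw [this]
      exact Submodule.smul_mem _ _ hm'
    have hsc : s * c ∉ p := by
      intro h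
      rcases hp.isPrime.mem_or_mem h with h | h
      · exact hs h
      · exact hc h
    obtain ⟨y, i, hi, hyi⟩ := hp.exists_inv hsc
    rw [Submodule.mem_bot, Submodule.Quotient.mk_eq_zero]
    have h2 : m = y • ((s * c) • m) + i • m := by
      rw [smul_smul, ← add_smul, hyi, one_smul]
    rw [h2]
    exact Submodule.add_mem _ (Submodule.smul_mem _ _ h1)
      (Submodule.smul_mem_smul hi Submodule.mem_top)
  have hsurj : Function.Surjective j₀ := by
    intro w
    obtain ⟨z, rfl⟩ := Submodule.Quotient.mk_surjective _ w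
    obtain ⟨s, m, hs, hsm⟩ := hN z
    obtain ⟨y, i, hi, hyi⟩ := hp.exists_inv hs
    refine ⟨Submodule.Quotient.mk (y • m), ?_⟩
    rw [hj₀, hγ, ← hsm, smul_smul, Submodule.Quotient.eq, ← map_mul]
    have h1 : ρ (y * s) = 1 - ρ i := by
      have := congrArg ρ hyi
      rw [map_add, map_one] at this
      rw [← this]; ring
    rw [h1, sub_smul, one_smul, sub_sub_cancel_left]
    exact Submodule.neg_mem _ (Submodule.smul_mem_smul (hmem i hi) Submodule.mem_top)
  refine ⟨AddEquiv.ofBijective j₀.toAddMonoidHom ⟨hinj, hsurj⟩, ?_⟩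
  intro a n
  exact j₀.map_smul a n

end Abstract

section Bridge

variable {X : Scheme.{u}} (F : X.Modules) [F.IsQuasicoherent] {U : X.Opens} (hU : IsAffineOpen U)

include hU in
/-- `Γ(F, U)/q ≃ F(x)` for a closed point `x` of an affine chart `U`, semilinear along the germ
map. -/
theorem exists_fiber_equiv {x : X} (hx : x ∈ U)
    (hmax : (hU.primeIdealOf ⟨x, hx⟩).asIdeal.IsMaximal) :
    ∃ j : (Γ(F, U) ⧸ ((hU.primeIdealOf ⟨x, hx⟩).asIdeal • ⊤ : Submodule Γ(X, U) Γ(F, U))) ≃+
        FixPt.fiber F x,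
      ∀ (b : Γ(X, U)) (n : Γ(F, U) ⧸
          ((hU.primeIdealOf ⟨x, hx⟩).asIdeal • ⊤ : Submodule Γ(X, U) Γ(F, U))),
        j (b • n) = (X.presheaf.germ U x hx).hom b • j n := by
  have h := locOn_of_isQuasicoherent F hU
  let _ := TopCat.Presheaf.algebra_section_stalk X.presheaf (⟨x, hx⟩ : U)
  have hloc := hU.isLocalization_stalk ⟨x, hx⟩
  haveI := hmax
  refine exists_quot_equiv_of_loc (hU.primeIdealOf ⟨x, hx⟩).asIdeal (X.presheaf.germ U x hx).hom
    (F.presheaf.germ U x hx).hom ?_ ?_ ?_ ?_ ?_ ?_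
  · intro a ha
    exact (Scheme.mem_basicOpen _ _ _ hx).mp ((notMem_primeIdealOf_iff hU hx a).mp ha)
  · intro a ha
    exact (mem_primeIdealOf_iff hU hx a).mp ha
  · intro b
    obtain ⟨⟨a, s⟩, hs⟩ := IsLocalization.surj (hU.primeIdealOf ⟨x, hx⟩).asIdeal.primeCompl b
    exact ⟨s.1, a, s.2, (mul_comm _ _).trans hs⟩
  · intro a m
    exact germ_smul F U x hx a m
  · intro z
    obtain ⟨g, t, hg, hgt⟩ := h.exists_germ_eq_smul hU hx z
    exact ⟨g, t, (notMem_primeIdealOf_iff hU hx g).mpr hg, hgt.symm⟩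
  · intro m hm
    obtain ⟨g, hg, hgm⟩ := h.exists_smul_eq_zero_of_germ_eq_zero hU hx m hm
    exact ⟨g, (notMem_primeIdealOf_iff hU hx g).mpr hg, hgm⟩

end Bridge

end Groth.Agent.Lib.OmegaFibreH3
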