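import Mathlib
import Groth.Prelude
import Groth.Agent.Lib.OmegaFibre1_helper3
import Groth.Agent.Lib.OmegaFibre2_helper3
import Groth.Agent.Lib.OmegaStalk_helper4
import Groth.Agent.Lib.TameSep2_helper3
import Groth.Agent.Lib.SchFT_helper8

/-!
# The fibre of `Ω_{X/Y}` at a closed point, in an affine chart (helper3)

APPEND-ONLY once landed.
-/

set_option autoImplicit false
set_option linter.style.haveILetI false
universe u

attribute [local instance] FixPt.fiberModule

namespace Groth.Agent.Lib.OmegaFibreH3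

open AlgebraicGeometry CategoryTheory TopologicalSpace Opposite Groth.Agent.SchFTH8

variable (k : Type u) [Field k] {X Y : Scheme.{u}} [X.Over (Spec (CommRingCat.of k))]
  [Y.Over (Spec (CommRingCat.of k))] (f : X ⟶ Y)
  (hf : f ≫ (Y ↘ Spec (CommRingCat.of k)) = X ↘ Spec (CommRingCat.of k))

include hf in
/-- compatibility of the `k`-structures on sections along a `k`-morphism. -/
theorem appLE_secMap {U : X.Opens} {V : Y.Opens} (e : U ≤ f ⁻¹ᵁ V) (c : k) :
    (f.appLE V U e).hom (secMap k Y V c) = secMap k X U c := by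
  have h2 : Y.presheaf.map (homOfLE (le_top : V ≤ ⊤)).op ≫ f.appLE V U e =
      f.appTop ≫ X.presheaf.map (homOfLE (le_top : U ≤ ⊤)).op := by
    rw [Scheme.Hom.map_appLE]
    rfl
  simp only [secMap, Coh.toGlobal, RingHom.comp_apply]
  rw [← hf, Scheme.Hom.comp_appTop]
  exact congr($h2 _)

variable [LocallyOfFiniteType (X ↘ Spec (CommRingCat.of k))]

include hf in
/-- The fibre of `Ω_{X/Y}` at a closed point `x` has the dimension of `Ω[B/A]/q`. -/
theorem finrank_fiber_eq {U : X.Opens} (hU : IsAffineOpen U) {V : Y.Opens} (hV : IsAffineOpen V)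
    (e : U ≤ f ⁻¹ᵁ V) (x : X) (hx : x ∈ U)
    (hmax : (hU.primeIdealOf ⟨x, hx⟩).asIdeal.IsMaximal) :
    letI algAB : Algebra Γ(Y, V) Γ(X, U) := (f.appLE V U e).hom.toAlgebra
    letI algkB : Algebra k Γ(X, U) := secAlgebra k X U
    letI algkA : Algebra k Γ(Y, V) := secAlgebra k Y V
    haveI towkAB : IsScalarTower k Γ(Y, V) Γ(X, U) :=
      IsScalarTower.of_algebraMap_eq (fun c => (appLE_secMap k f hf e c).symm)
    Module.finrank k (FixPt.fiber (Omega.sheaf f) x) =
      Module.finrank k (Ω[Γ(X, U)⁄Γ(Y, V)] ⧸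
        ((hU.primeIdealOf ⟨x, hx⟩).asIdeal • ⊤ : Submodule Γ(X, U) Ω[Γ(X, U)⁄Γ(Y, V)])) := by
  letI algAB : Algebra Γ(Y, V) Γ(X, U) := (f.appLE V U e).hom.toAlgebra
  letI algkB : Algebra k Γ(X, U) := secAlgebra k X U
  letI algkA : Algebra k Γ(Y, V) := secAlgebra k Y V
  haveI towkAB : IsScalarTower k Γ(Y, V) Γ(X, U) :=
    IsScalarTower.of_algebraMap_eq (fun c => (appLE_secMap k f hf e c).symm)
  haveI : IsLocallyNoetherian X :=
    LocallyOfFiniteType.isLocallyNoetherian (X ↘ Spec (CommRingCat.of k))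
  haveI := Groth.Agent.Lib.OmegaFittH4.isQuasicoherent_omega f
  obtain ⟨L⟩ := Groth.Agent.Lib.OmegaSecH4.omegaSections f hU hV e
  obtain ⟨j, hj⟩ := exists_fiber_equiv (Omega.sheaf f) hU hx hmax
  have hL : ((hU.primeIdealOf ⟨x, hx⟩).asIdeal • ⊤ : Submodule Γ(X, U) Γ(Omega.sheaf f, U)).map
      (L : Γ(Omega.sheaf f, U) →ₗ[Γ(X, U)] Ω[Γ(X, U)⁄Γ(Y, V)]) =
      (hU.primeIdealOf ⟨x, hx⟩).asIdeal • ⊤ := by
    rw [Submodule.map_smul'', Submodule.map_top, LinearEquiv.range]
  let L' := Submodule.Quotient.equiv _ _ L hL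
  symm
  refine finrank_eq_of_bij id (L'.symm.toAddEquiv.trans j) Function.bijective_id ?_
  intro c w
  show j (L'.symm (c • w)) = c • j (L'.symm w)
  have h1 : c • w = algebraMap k Γ(X, U) c • w := (algebraMap_smul Γ(X, U) c w).symm
  rw [h1, map_smul, hj]
  show _ = Curv2.stalkMap k X x c • j (L'.symm w)
  congr 1
  show (X.presheaf.germ U x hx).hom (secMap k X U c) = Curv2.stalkMap k X x c
  simp only [Curv2.stalkMap, secMap, RingHom.comp_apply]
  exact TopCat.Presheaf.germ_res_apply X.presheaf (homOfLE (le_top : U ≤ ⊤)) x hx _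

end Groth.Agent.Lib.OmegaFibreH3
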