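import Mathlib
import Groth.Agent.Lib.CotDom1_helper3
import Groth.Agent.Lib.TopDim_lead
import Groth.Agent.Lib.AffDim3_helper8

/-!
# Rank of the tangent map: algebra and topology (helper3)

* `indep_of_map`: independence modulo `m²` descends along a local homomorphism.
* `finrank_cotangentSpace_le_of_rank`: a commutative square of local rings
  `A → B`, `A ↠ A'`, `B ↠ B'`, `A' → B'` with `A' → B'` injective on cotangent spaces and residually
  trivial: if no `r + 1` elements of `m_A` stay independent in `B` then `embdim A' ≤ r`.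
* `not_indep_of_subset_span`: `r + 1` vectors in a span of `≤ r` vectors are dependent.
* `exists_irreducible_dense`: Noetherian minimal-closed-set argument.
* `dim_le_of_forall_height_le`: dimension of a closed subset of a scheme via heights of its points.
APPEND-ONLY once landed.
-/

set_option autoImplicit false
set_option maxHeartbeats 1600000
universe u

namespace Groth.Agent.Lib.TanRankH3

open IsLocalRing Module Groth.Agent.Lib.CotFlatH3 Groth.Agent.Lib.CotSmoothH3

section Alg

/-- independence modulo `m²` descends along a local homomorphism. -/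
theorem indep_of_map {B B' : Type u} [CommRing B] [CommRing B'] [IsLocalRing B] [IsLocalRing B']
    (β : B →+* B') [IsLocalHom β] {ι : Type*} [Fintype ι] (b : ι → B)
    (h : Indep (fun i => β (b i))) : Indep b := by
  intro c hc
  have hle : (maximalIdeal B).map β ≤ maximalIdeal B' :=
    ((IsLocalRing.local_hom_TFAE β).out 0 2 rfl rfl).1 ‹_›
  have h1 : β (∑ i, c i * b i) ∈ maximalIdeal B' ^ 2 := by
    have h2 : β (∑ i, c i * b i) ∈ (maximalIdeal B ^ 2).map β := Ideal.mem_map_of_mem _ hc
    rw [Ideal.map_pow] at h2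
    exact Ideal.pow_right_mono hle 2 h2
  rw [map_sum] at h1
  have h3 : ∑ i, β (c i) * β (b i) ∈ maximalIdeal B' ^ 2 := by
    simpa only [map_mul] using h1
  have h4 := h (fun i => β (c i)) h3
  intro i
  by_contra hi
  rw [mem_maximalIdeal, mem_nonunits_iff, not_not] at hi
  exact (mem_nonunits_iff.1 ((mem_maximalIdeal _).1 (h4 i))) (hi.map β)

/-- a subfamily of an independent family is independent. -/
theorem indep_comp {R : Type u} [CommRing R] [IsLocalRing R] {ι κ : Type*} [Fintype ι] [Fintype κ]
    (z : ι → R) (hz : ∀ i, z i ∈ maximalIdeal R) (e : κ → ι) (he : Function.Injective e)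
    (h : Indep z) : Indep (z ∘ e) := by
  rw [indep_iff (z ∘ e) (fun j => hz (e j))]
  have h1 := (indep_iff z hz).1 h
  exact h1.comp e he

variable {A B A' B' : Type u} [CommRing A] [CommRing B] [CommRing A'] [CommRing B']
  [IsLocalRing A] [IsLocalRing B] [IsLocalRing A'] [IsLocalRing B'] [IsNoetherianRing A']

/-- the key algebraic lemma. -/
theorem finrank_cotangentSpace_le_of_rank (φ : A →+* B) (α : A →+* A') (β : B →+* B')
    (φ' : A' →+* B') [IsLocalHom α] [IsLocalHom β] [IsLocalHom φ']
    (hα : Function.Surjective α) (hcomm : β.comp φ = φ'.comp α)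
    (hres : ∀ b : B', ∃ a : A', b - φ' a ∈ maximalIdeal B')
    (hinj : ∀ a ∈ maximalIdeal A', φ' a ∈ maximalIdeal B' ^ 2 → a ∈ maximalIdeal A' ^ 2)
    (r : ℕ)
    (hrank : ∀ a : Fin (r + 1) → A, (∀ i, a i ∈ maximalIdeal A) → ¬ Indep (fun i => φ (a i))) :
    finrank (ResidueField A') (CotangentSpace A') ≤ r := by
  classical
  by_contra hlt
  rw [not_le] at hlt
  obtain ⟨x, hxm, -, hxind⟩ := exists_good A'
  have hle : r + 1 ≤ finrank (ResidueField A') (CotangentSpace A') := hlt
  let e : Fin (r + 1) → Fin (finrank (ResidueField A') (CotangentSpace A')) := Fin.castLE hle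
  have he : Function.Injective e := Fin.castLE_injective hle
  have hx'ind : Indep (x ∘ e) := indep_comp x hxm e he hxind
  have hx'm : ∀ j, (x ∘ e) j ∈ maximalIdeal A' := fun j => hxm (e j)
  choose a ha using fun j => hα ((x ∘ e) j)
  have ham : ∀ j, a j ∈ maximalIdeal A := by
    intro j
    by_contra hj
    rw [mem_maximalIdeal, mem_nonunits_iff, not_not] at hj
    have := hj.map α
    rw [ha j] at this
    exact (mem_nonunits_iff.1 ((mem_maximalIdeal _).1 (hx'm j))) this
  letI : Algebra A' B' := φ'.toAlgebra
  haveI : IsLocalHom (algebraMap A' B') := ‹IsLocalHom φ'›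
  have h1 : Indep (fun j => algebraMap A' B' ((x ∘ e) j)) :=
    indep_map_of_cotInj (A := A') (B := B') hres hinj (x ∘ e) hx'm hx'ind
  have h2 : (fun j => algebraMap A' B' ((x ∘ e) j)) = fun j => β (φ (a j)) := by
    funext j
    show φ' ((x ∘ e) j) = β (φ (a j))
    rw [← ha j]
    exact (congrFun (congrArg DFunLike.coe hcomm) (a j)).symm
  rw [h2] at h1
  exact hrank a ham (indep_of_map β (fun j => φ (a j)) h1)

/-- `r + 1` elements of `m` whose classes lie in the span of at most `r` cotangent vectors are not
independent. -/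
theorem not_indep_of_subset_span {R : Type u} [CommRing R] [IsLocalRing R] (r : ℕ)
    (S : Finset (CotangentSpace R)) (hS : S.card ≤ r) (z : Fin (r + 1) → R)
    (hz : ∀ i, z i ∈ maximalIdeal R)
    (h : ∀ i, cot z hz i ∈ Submodule.span (ResidueField R) (S : Set (CotangentSpace R))) :
    ¬ Indep z := by
  intro hind
  have hli := (indep_iff z hz).1 hind
  let N := Submodule.span (ResidueField R) (S : Set (CotangentSpace R))
  let v : Fin (r + 1) → N := fun i => ⟨cot z hz i, h i⟩
  have hv : LinearIndependent (ResidueField R) v := by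
    apply LinearIndependent.of_comp N.subtype
    exact hli
  have h1 := hv.fintype_card_le_finrank
  have h2 : finrank (ResidueField R) N ≤ S.card := finrank_span_finset_le_card S
  rw [Fintype.card_fin] at h1
  omega

end Alg

section Top

open TopologicalSpace Topology

/-- Noetherian minimal-closed-set argument: every point of the closure of `f '' T` lies in the
closure of `f ζ` for a point `ζ` in whose closure `T` is dense. -/
theorem exists_irreducible_dense {X Y : Type*} [TopologicalSpace X] [TopologicalSpace Y]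
    [NoetherianSpace X] [QuasiSober X] (f : X → Y) (hf : Continuous f) (T : Set X) (w : Y)
    (hw : w ∈ closure (f '' T)) :
    ∃ ζ : X, closure {ζ} ⊆ closure (T ∩ closure {ζ}) ∧ w ∈ closure {f ζ} := by
  classical
  let P : Closeds X → Prop := fun Z => w ∈ closure (f '' (T ∩ (Z : Set X)))
  have hP : P ⊤ := by
    show w ∈ closure (f '' (T ∩ ((⊤ : Closeds X) : Set X)))
    rw [Closeds.coe_top, Set.inter_univ]
    exact hw
  obtain ⟨Z, hZ, hmin⟩ := WellFounded.has_min (wellFounded_lt (α := Closeds X)) {Z | P Z} ⟨⊤, hP⟩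
  have hZ' : w ∈ closure (f '' (T ∩ (Z : Set X))) := hZ
  have hmin' : ∀ Z' : Closeds X, w ∈ closure (f '' (T ∩ (Z' : Set X))) → Z' ≤ Z → Z' = Z := by
    intro Z' hZ'P hle
    by_contra hne
    exact hmin Z' hZ'P (lt_of_le_of_ne hle hne)
  -- nonempty
  have hne : (Z : Set X).Nonempty := by
    by_contra hemp
    rw [Set.not_nonempty_iff_eq_empty] at hemp
    rw [hemp, Set.inter_empty, Set.image_empty, closure_empty] at hZ'
    exact hZ'
  -- irreducible
  have hirr : IsPreirreducible (Z : Set X) := by
    rw [isPreirreducible_iff_isClosed_union_isClosed]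
    intro z₁ z₂ hz₁ hz₂ hsub
    let Z₁ : Closeds X := ⟨(Z : Set X) ∩ z₁, Z.isClosed.inter hz₁⟩
    let Z₂ : Closeds X := ⟨(Z : Set X) ∩ z₂, Z.isClosed.inter hz₂⟩
    have hcov : (Z : Set X) = (Z₁ : Set X) ∪ (Z₂ : Set X) := by
      show (Z : Set X) = (Z : Set X) ∩ z₁ ∪ (Z : Set X) ∩ z₂
      rw [← Set.inter_union_distrib_left]
      exact (Set.inter_eq_left.2 hsub).symm
    have h1 : w ∈ closure (f '' (T ∩ (Z₁ : Set X))) ∪ closure (f '' (T ∩ (Z₂ : Set X))) := by
      rw [← closure_union, ← Set.image_union, ← Set.inter_union_distrib_left, ← hcov]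
      exact hZ'
    rcases h1 with h1 | h1
    · left
      have := hmin' Z₁ h1 (fun x hx => hx.1)
      intro x hx
      have hx' : x ∈ (Z₁ : Set X) := by rw [this]; exact hx
      exact hx'.2
    · right
      have := hmin' Z₂ h1 (fun x hx => hx.1)
      intro x hx
      have hx' : x ∈ (Z₂ : Set X) := by rw [this]; exact hx
      exact hx'.2
  -- dense
  have hdense : (Z : Set X) ⊆ closure (T ∩ (Z : Set X)) := by
    let Z' : Closeds X := ⟨closure (T ∩ (Z : Set X)), isClosed_closure⟩
    have hle : Z' ≤ Z := by
      intro x hx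
      exact (closure_minimal Set.inter_subset_right Z.isClosed) hx
    have hZ'P : w ∈ closure (f '' (T ∩ (Z' : Set X))) := by
      refine closure_mono (Set.image_mono ?_) hZ'
      intro x hx
      exact ⟨hx.1, subset_closure hx⟩
    have := hmin' Z' hZ'P hle
    intro x hx
    have hx' : x ∈ (Z' : Set X) := by rw [this]; exact hx
    exact hx'
  obtain ⟨ζ, hζ⟩ := QuasiSober.sober ⟨hne, hirr⟩ Z.isClosed
  have hcl : closure ({ζ} : Set X) = (Z : Set X) := hζ.def
  refine ⟨ζ, ?_, ?_⟩
  · rw [hcl]
    exact hdense
  · have h1 : f '' (T ∩ (Z : Set X)) ⊆ closure {f ζ} := by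
      rintro _ ⟨x, hx, rfl⟩
      have hx2 : x ∈ closure ({ζ} : Set X) := by rw [hcl]; exact hx.2
      have := image_closure_subset_closure_image hf ⟨x, hx2, rfl⟩
      rwa [Set.image_singleton] at this
    exact (closure_minimal h1 isClosed_closure) hZ'

/-- dimension of a closed subset of a scheme via the heights of its points. -/
theorem dim_le_of_forall_height_le (Y : AlgebraicGeometry.Scheme.{u}) (S : Set Y) (hS : IsClosed S)
    (r : ℕ) (h : ∀ w ∈ S, Order.height w ≤ (r : ℕ∞)) :
    topologicalKrullDim ↥S ≤ (r : WithBot ℕ∞) := by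
  apply Groth.Agent.TopDimLead.dim_le_of_forall
  intro l
  have hemb : IsClosedEmbedding (Subtype.val : ↥S → Y) := hS.isClosedEmbedding_subtypeVal
  haveI : QuasiSober ↥S := hemb.quasiSober
  obtain ⟨c, hc⟩ := QuasiSober.sober l.last.isIrreducible l.last.isClosed
  have h1 := Groth.Agent.TopDimLead.length_le_dim_of_last_subset (l.last : Set ↥S) l subset_rfl
  rw [← hc.def, Groth.Agent.Lib.AffDimH8.dim_closure_subtype S hS c] at h1
  refine h1.trans ?_
  exact_mod_cast h c.1 c.2

end Top

end Groth.Agent.Lib.TanRankH3
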