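import Mathlib
import Groth.Prelude
import Groth.Agent.Lib.TanRank1_helper3
import Groth.Agent.Lib.CotDom2_helper3
import Groth.Agent.Lib.SectionExt_helper7
import Groth.Agent.Lib.AffDim5_helper8

/-!
# Rank of the tangent map and the dimension of the image (helper3)
APPEND-ONLY once landed.
-/

set_option autoImplicit false
set_option maxHeartbeats 1600000
universe u

open CategoryTheory CategoryTheory.Limits AlgebraicGeometry TopologicalSpace Opposite IsLocalRing

namespace Groth.Agent.Lib.TanRankH3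

open Groth.Agent.Lib.CotSmoothH3 Groth.Agent.Lib.CotFlatH3

section Dict

variable {X Y : Scheme.{u}} (f : X ⟶ Y) (x : X)

theorem stalkMap_mem_maximalIdeal (a : Y.presheaf.stalk (f x))
    (ha : a ∈ maximalIdeal (Y.presheaf.stalk (f x))) :
    (f.stalkMap x).hom a ∈ maximalIdeal (X.presheaf.stalk x) := by
  have hle := FixPt.maximalIdeal_le_comap_stalkMapAt f x (f x) rfl
  have := hle ha
  rwa [Ideal.mem_comap, stalkMapAt_rfl] at this

theorem cotangentMapAt_toCotangent (a : Y.presheaf.stalk (f x))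
    (ha : a ∈ maximalIdeal (Y.presheaf.stalk (f x))) :
    FixPt.cotangentMapAt f x (f x) rfl ((maximalIdeal _).toCotangent ⟨a, ha⟩) =
      (maximalIdeal _).toCotangent ⟨(f.stalkMap x).hom a, stalkMap_mem_maximalIdeal f x a ha⟩ := by
  unfold FixPt.cotangentMapAt
  rw [Ideal.mapCotangent_toCotangent]
  congr 2
  exact congrFun (congrArg DFunLike.coe (stalkMapAt_rfl f x)) a

/-- the set of closed points where the cotangent map has rank at most `r`. -/
def lowRank (r : ℕ) : Set X :=
  {x : ↥X | IsClosed ({x} : Set ↥X) ∧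
    ∃ S : Finset (IsLocalRing.CotangentSpace (X.presheaf.stalk x)), S.card ≤ r ∧
      (LinearMap.range (FixPt.cotangentMapAt f x (f.base x) rfl) :
        Set (IsLocalRing.CotangentSpace (X.presheaf.stalk x))) ⊆
        (Submodule.span (IsLocalRing.ResidueField (X.presheaf.stalk x))
          (S : Set (IsLocalRing.CotangentSpace (X.presheaf.stalk x))) :
            Set (IsLocalRing.CotangentSpace (X.presheaf.stalk x)))}

/-- at a point of `lowRank`, no `r + 1` elements of the maximal ideal of the target stay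
independent. -/
theorem not_indep_of_mem_lowRank (r : ℕ) (hx : x ∈ lowRank f r)
    (a : Fin (r + 1) → Y.presheaf.stalk (f x))
    (ha : ∀ i, a i ∈ maximalIdeal (Y.presheaf.stalk (f x))) :
    ¬ Indep (fun i => (f.stalkMap x).hom (a i)) := by
  obtain ⟨-, S, hS, hsub⟩ := hx
  refine not_indep_of_subset_span r S hS _
    (fun i => stalkMap_mem_maximalIdeal f x (a i) (ha i)) (fun i => ?_)
  apply hsub
  exact ⟨(maximalIdeal _).toCotangent ⟨a i, ha i⟩, cotangentMapAt_toCotangent f x (a i) (ha i)⟩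

end Dict

section GenSm

variable {k : Type u} [Field k] [CharZero k] {X Y : Scheme.{u}}
  (qX : X ⟶ Spec (CommRingCat.of k)) (qY : Y ⟶ Spec (CommRingCat.of k))
  [LocallyOfFiniteType qX] [QuasiCompact qX] [LocallyOfFiniteType qY]
  (u : X ⟶ Y) (hu : u ≫ qY = qX)

include hu in
/-- generic smoothness: a dominant morphism from a reduced scheme of finite type over a field of
characteristic zero to an integral scheme is smooth on a nonempty open. -/
theorem exists_open_le_smoothLocus [IsReduced X] [IsIntegral Y] [IsDominant u]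
    [LocallyOfFinitePresentation u] :
    ∃ U : X.Opens, (U : Set X).Nonempty ∧ U ≤ u.smoothLocus := by
  haveI : PerfectField k := PerfectField.ofCharZero
  haveI : LocallyOfFiniteType (u ≫ qY) := by rw [hu]; infer_instance
  haveI : IsLocallyNoetherian Y := LocallyOfFiniteType.isLocallyNoetherian qY
  haveI : IsLocallyNoetherian X := LocallyOfFiniteType.isLocallyNoetherian qX
  haveI : LocallyOfFinitePresentation qX :=
    Groth.Agent.Lib.CotDomH3.lfp_of_over qX (𝟙 (Spec (CommRingCat.of k))) qX (Category.comp_id _)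
  haveI : QuasiCompact (u ≫ qY) := by rw [hu]; infer_instance
  haveI : QuasiCompact u := QuasiCompact.of_comp u qY
  have hWd : Dense (qX.smoothLocus : Set X) := Scheme.Hom.dense_smoothLocus_of_perfectField qX
  haveI : Smooth (qX.smoothLocus.ι ≫ qX) := Groth.Agent.Lib.CotDomH3.smooth_smoothLocus_ι qX
  have hreg : ∀ x : qX.smoothLocus.toScheme,
      IsRegularLocalRing (qX.smoothLocus.toScheme.presheaf.stalk x) := fun x =>
    Groth.Agent.Lib.JacDimSchH3.regular_stalk_of_smooth_field k (qX.smoothLocus.ι ≫ qX) x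
  obtain ⟨φ, -⟩ := Groth.Agent.Lib.SmoothRegFieldH3.exists_bijective_stalk_spec_field k
    (qY (genericPoint Y))
  let ψ : k →+* Y.functionField := (qY.stalkMap (genericPoint Y)).hom.comp φ
  haveI : CharZero Y.functionField := charZero_of_injective_ringHom ψ.injective
  haveI : PerfectField Y.functionField := PerfectField.ofCharZero
  obtain ⟨V, hηV, hVle⟩ := Groth.Agent.Lib.GenSmoothRegH6.exists_open_preimage_le
    (qX.smoothLocus.ι ≫ u) (qX.smoothLocus.ι ≫ u).smoothLocus
    (fun x hx => Groth.Agent.Lib.GenSmoothRegH6.mem_smoothLocus_of_regular_of_perfect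
      (qX.smoothLocus.ι ≫ u) x hx (hreg x))
  have hdr : DenseRange (qX.smoothLocus.ι ≫ u) := by
    have h1 : DenseRange qX.smoothLocus.ι := by
      rw [DenseRange, Scheme.Opens.range_ι]
      exact hWd
    exact (IsDominant.denseRange (f := u)).comp h1 u.continuous
  obtain ⟨x', hx'⟩ := hdr.exists_mem_open V.2
    (show (V : Set Y).Nonempty from ⟨genericPoint Y, hηV⟩)
  refine ⟨⟨qX.smoothLocus.ι ''
      (((qX.smoothLocus.ι ≫ u) ⁻¹ᵁ V : qX.smoothLocus.toScheme.Opens) : Set qX.smoothLocus),
    qX.smoothLocus.ι.isOpenEmbedding.isOpenMap _ ((qX.smoothLocus.ι ≫ u) ⁻¹ᵁ V).2⟩,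
    ⟨qX.smoothLocus.ι x', ⟨x', hx', rfl⟩⟩, ?_⟩
  rintro _ ⟨P', hP'T, rfl⟩
  have h1 : P' ∈ (qX.smoothLocus.ι ≫ u).smoothLocus := hVle hP'T
  rw [← Scheme.Hom.preimage_smoothLocus_eq] at h1
  exact h1

end GenSm

section Square

variable {k : Type u} [Field k] [IsAlgClosed k] {X Y X' Y' : Scheme.{u}}
  (qX : X ⟶ Spec (CommRingCat.of k)) (qY : Y ⟶ Spec (CommRingCat.of k))
  [LocallyOfFiniteType qX] [LocallyOfFiniteType qY]
  (f : X ⟶ Y) (hf : f ≫ qY = qX)
  (i : X' ⟶ X) [IsClosedImmersion i] (j : Y' ⟶ Y) [IsClosedImmersion j]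
  (g' : X' ⟶ Y') (hsq : g' ≫ j = i ≫ f)

include hf hsq in
/-- the local computation. -/
theorem ringKrullDim_stalk_le_of_mem_lowRank [LocallyOfFinitePresentation g'] (r : ℕ) (x' : X')
    (hx'c : IsClosed ({x'} : Set X')) (hsm : x' ∈ g'.smoothLocus)
    (hlow : i x' ∈ lowRank f r) :
    ringKrullDim (Y'.presheaf.stalk (g' x')) ≤ (r : WithBot ℕ∞) := by
  haveI : LocallyOfFiniteType (i ≫ qX) := inferInstance
  haveI : LocallyOfFiniteType (j ≫ qY) := inferInstance
  haveI : IsLocallyNoetherian Y' := LocallyOfFiniteType.isLocallyNoetherian (j ≫ qY)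
  haveI : IsLocallyNoetherian X' := LocallyOfFiniteType.isLocallyNoetherian (i ≫ qX)
  have hg' : g' ≫ (j ≫ qY) = i ≫ qX := by
    rw [← Category.assoc, hsq, Category.assoc, hf]
  rw [Scheme.Hom.mem_smoothLocus] at hsm
  have hcot : ∀ a ∈ maximalIdeal (Y'.presheaf.stalk (g' x')),
      (g'.stalkMap x').hom a ∈ maximalIdeal (X'.presheaf.stalk x') ^ 2 →
        a ∈ maximalIdeal (Y'.presheaf.stalk (g' x')) ^ 2 := by
    letI : Algebra (Y'.presheaf.stalk (g' x')) (X'.presheaf.stalk x') :=
      (g'.stalkMap x').hom.toAlgebra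
    haveI : IsLocalHom (algebraMap (Y'.presheaf.stalk (g' x')) (X'.presheaf.stalk x')) :=
      inferInstanceAs (IsLocalHom (g'.stalkMap x').hom)
    haveI : Algebra.FormallySmooth (Y'.presheaf.stalk (g' x')) (X'.presheaf.stalk x') := hsm
    exact Groth.Agent.Lib.CotDomH3.cotInj_of_formallySmooth _ _
  have hres := exists_sub_mem_of_isClosed (i ≫ qX) (j ≫ qY) g' hg' x' hx'c
  -- the commutative square of local rings
  obtain ⟨c, hciso, hc⟩ : ∃ c : Y.presheaf.stalk (f (i x')) ⟶ Y.presheaf.stalk (j (g' x')),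
      IsIso c ∧ f.stalkMap (i x') ≫ i.stalkMap x' =
        c ≫ j.stalkMap (g' x') ≫ g'.stalkMap x' := by
    have h1 := Scheme.Hom.stalkMap_congr_hom (i ≫ f) (g' ≫ j) hsq.symm x'
    rw [Scheme.Hom.stalkMap_comp, Scheme.Hom.stalkMap_comp] at h1
    refine ⟨_, ?_, h1⟩
    infer_instance
  have hα : Function.Surjective (c ≫ j.stalkMap (g' x')).hom := by
    rw [CommRingCat.hom_comp]
    exact (j.stalkMap_surjective (g' x')).comp (ConcreteCategory.bijective_of_isIso c).2
  have hβ : Function.Surjective (i.stalkMap x').hom := i.stalkMap_surjective x'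
  haveI : IsLocalHom (c ≫ j.stalkMap (g' x')).hom := IsLocalHom.of_surjective _ hα
  haveI : IsLocalHom (i.stalkMap x').hom := IsLocalHom.of_surjective _ hβ
  have hcomm : (i.stalkMap x').hom.comp (f.stalkMap (i x')).hom =
      (g'.stalkMap x').hom.comp (c ≫ j.stalkMap (g' x')).hom := by
    rw [← CommRingCat.hom_comp, ← CommRingCat.hom_comp, hc, Category.assoc]
  have hfin := finrank_cotangentSpace_le_of_rank (f.stalkMap (i x')).hom
    (c ≫ j.stalkMap (g' x')).hom (i.stalkMap x').hom (g'.stalkMap x').hom hα hcomm hres hcot r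
    (not_indep_of_mem_lowRank f (i x') r hlow)
  calc ringKrullDim (Y'.presheaf.stalk (g' x'))
      ≤ ((maximalIdeal (Y'.presheaf.stalk (g' x'))).spanFinrank : WithBot ℕ∞) :=
        ringKrullDim_le_spanFinrank_maximalIdeal _
    _ ≤ (r : WithBot ℕ∞) := by
        rw [spanFinrank_maximalIdeal_eq_finrank_cotangentSpace]
        exact_mod_cast hfin

end Square

section Dim

/-- an irreducible scheme locally of finite type over a field has the dimension of its local ring
at any closed point. -/
theorem topDim_le_of_stalk {k : Type u} [Field k] (T : Scheme.{u})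
    (π : T ⟶ Spec (CommRingCat.of k)) [LocallyOfFiniteType π] [IrreducibleSpace ↥T] (t : T)
    (ht : IsClosed ({t} : Set T)) (r : ℕ)
    (h : ringKrullDim (T.presheaf.stalk t) ≤ (r : WithBot ℕ∞)) :
    topologicalKrullDim ↥T ≤ (r : WithBot ℕ∞) := by
  obtain ⟨d, hd, hloc⟩ := Groth.Agent.Lib.AffDimH8.exists_dim_nat_of_irreducible k T π
  letI ov : T.Over (Spec (CommRingCat.of k)) := ⟨π⟩
  haveI : LocallyOfFiniteType (T ↘ Spec (CommRingCat.of k)) := ‹LocallyOfFiniteType π›
  have h1 := hloc t
  rw [LocDimProdH8.localDim_eq k T t] at h1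
  have h0 : Order.height t = 0 := by
    rw [Order.height_eq_zero]
    intro s hs
    have h2 : t ⤳ s := Scheme.le_iff_specializes.1 hs
    have h3 : s ∈ closure ({t} : Set T) := specializes_iff_mem_closure.1 h2
    rw [ht.closure_eq, Set.mem_singleton_iff] at h3
    rw [h3]
  rw [h0, add_zero] at h1
  rw [AlgebraicGeometry.ringKrullDim_stalk_eq_coheight] at h
  rw [hd, ← h1]
  exact h

end Dim

section Main

variable {k : Type u} [Field k] [IsAlgClosed k] [CharZero k] {X Y : Scheme.{u}}
  (qX : X ⟶ Spec (CommRingCat.of k)) (qY : Y ⟶ Spec (CommRingCat.of k))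
  [LocallyOfFiniteType qX] [QuasiCompact qX] [LocallyOfFiniteType qY] [QuasiCompact qY]
  (f : X ⟶ Y) (hf : f ≫ qY = qX) (r : ℕ)

include hf in
theorem height_le_aux (ζ : X)
    (hζ : closure ({ζ} : Set X) ⊆ closure (lowRank f r ∩ closure {ζ}))
    {X' Y' : Scheme.{u}} (i : X' ⟶ X) [IsClosedImmersion i] (j : Y' ⟶ Y) [IsClosedImmersion j]
    (g' : X' ⟶ Y') (hsq : g' ≫ j = i ≫ f) [IsIntegral X'] [IsIntegral Y'] [IsDominant g']
    (hri : Set.range i = closure {ζ}) (hrj : Set.range j = closure {f ζ}) :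
    Order.height (f ζ) ≤ (r : ℕ∞) := by
  haveI : LocallyOfFiniteType (i ≫ qX) := inferInstance
  haveI : LocallyOfFiniteType (j ≫ qY) := inferInstance
  haveI : QuasiCompact (i ≫ qX) := inferInstance
  have hg' : g' ≫ (j ≫ qY) = i ≫ qX := by
    rw [← Category.assoc, hsq, Category.assoc, hf]
  haveI : LocallyOfFinitePresentation g' :=
    Groth.Agent.Lib.CotDomH3.lfp_of_over (i ≫ qX) (j ≫ qY) g' hg'
  obtain ⟨U, ⟨u₀, hu₀⟩, hUle⟩ := exists_open_le_smoothLocus (i ≫ qX) (j ≫ qY) g' hg'
  obtain ⟨O, hO, hOU⟩ := i.isClosedEmbedding.isEmbedding.isInducing.isOpen_iff.1 U.2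
  have hz₀ : i u₀ ∈ closure ({ζ} : Set X) := by rw [← hri]; exact ⟨u₀, rfl⟩
  have hz₀O : i u₀ ∈ O := by
    have : u₀ ∈ i ⁻¹' O := by rw [hOU]; exact hu₀
    exact this
  obtain ⟨x, hxO, hxT, hxZ⟩ := mem_closure_iff.1 (hζ hz₀) O hO hz₀O
  rw [← hri] at hxZ
  obtain ⟨x', rfl⟩ := hxZ
  have hx'U : x' ∈ U := by
    have : x' ∈ i ⁻¹' O := hxO
    rw [hOU] at this
    exact this
  have hx'c : IsClosed ({x'} : Set X') := by
    have h1 : ({x'} : Set X') = i ⁻¹' {i x'} := by
      ext z
      simp only [Set.mem_singleton_iff, Set.mem_preimage]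
      exact ⟨fun h => by rw [h], fun h => i.isClosedEmbedding.injective h⟩
    rw [h1]
    exact hxT.1.preimage i.continuous
  have hdimst := ringKrullDim_stalk_le_of_mem_lowRank qX qY f hf i j g' hsq r x' hx'c
    (hUle hx'U) hxT
  haveI : JacobsonSpace Y' := LocallyOfFiniteType.jacobsonSpace (j ≫ qY)
  haveI : LocallyOfFiniteType (g' ≫ (j ≫ qY)) := by rw [hg']; infer_instance
  haveI : LocallyOfFiniteType g' := locallyOfFiniteType_of_comp g' (j ≫ qY)
  have hy'c : IsClosed ({g' x'} : Set Y') :=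
    g'.closePoints_subset_preimage_closedPoints hx'c
  have hdimY' := topDim_le_of_stalk Y' (j ≫ qY) (g' x') hy'c r hdimst
  have h1 : topologicalKrullDim ↥Y' = topologicalKrullDim ↥(Set.range j) :=
    IsHomeomorph.topologicalKrullDim_eq _
      (j.isClosedEmbedding.isEmbedding.toHomeomorph).isHomeomorph
  have h2 : ((Order.height (f ζ) : ℕ∞) : WithBot ℕ∞) ≤ (r : WithBot ℕ∞) := by
    rw [← Groth.Agent.ClosHtH8.topologicalKrullDim_closure_singleton Y (f ζ), ← hrj, ← h1]
    exact hdimY'
  exact_mod_cast h2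

include hf in
theorem height_le_of_dense (ζ : X)
    (hζ : closure ({ζ} : Set X) ⊆ closure (lowRank f r ∩ closure {ζ})) :
    Order.height (f ζ) ≤ (r : ℕ∞) := by
  haveI : LocallyOfFiniteType (f ≫ qY) := by rw [hf]; infer_instance
  haveI : IsLocallyNoetherian Y := LocallyOfFiniteType.isLocallyNoetherian qY
  haveI : QuasiCompact (f ≫ qY) := by rw [hf]; infer_instance
  haveI : QuasiCompact f := QuasiCompact.of_comp f qY
  haveI : QuasiCompact (X.fromSpecResidueField ζ) :=
    Groth.Agent.Lib.SectionExtH7.quasiCompact_of_subsingleton _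
  haveI : IsIntegral (X.fromSpecResidueField ζ).image :=
    Groth.Agent.Lib.SectionExtH7.isIntegral_image _
  have hri : Set.range (X.fromSpecResidueField ζ).imageι = closure {ζ} := by
    rw [Scheme.IdealSheafData.range_subschemeι, Scheme.Hom.support_ker,
      Scheme.range_fromSpecResidueField]
  haveI : QuasiCompact ((X.fromSpecResidueField ζ).imageι ≫ f) := inferInstance
  haveI : IsIntegral ((X.fromSpecResidueField ζ).imageι ≫ f).image :=
    Groth.Agent.Lib.SectionExtH7.isIntegral_image _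
  have hrj : Set.range ((X.fromSpecResidueField ζ).imageι ≫ f).imageι = closure {f ζ} := by
    rw [Scheme.IdealSheafData.range_subschemeι, Scheme.Hom.support_ker, Scheme.Hom.comp_base,
      TopCat.coe_comp, Set.range_comp, hri, closure_image_closure f.continuous,
      Set.image_singleton]
  exact height_le_aux qX qY f hf r ζ hζ (X.fromSpecResidueField ζ).imageι
    ((X.fromSpecResidueField ζ).imageι ≫ f).imageι
    ((X.fromSpecResidueField ζ).imageι ≫ f).toImage
    ((X.fromSpecResidueField ζ).imageι ≫ f).toImage_imageι hri hrj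

include hf in
/-- S10938. -/
theorem main10938 :
    topologicalKrullDim ↥(closure (f.base '' lowRank f r)) ≤ (r : WithBot ℕ∞) := by
  haveI : IsLocallyNoetherian X := LocallyOfFiniteType.isLocallyNoetherian qX
  haveI : CompactSpace X := QuasiCompact.compactSpace_of_compactSpace qX
  haveI : IsNoetherian X := { }
  apply dim_le_of_forall_height_le Y _ isClosed_closure r
  intro w hw
  obtain ⟨ζ, hζ, hwζ⟩ := exists_irreducible_dense f.base f.continuous (lowRank f r) w hw
  have h1 := height_le_of_dense qX qY f hf r ζ hζ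
  have h2 : w ≤ f ζ := Scheme.le_iff_specializes.2 (specializes_iff_mem_closure.2 hwζ)
  exact (Order.height_mono h2).trans h1

end Main

end Groth.Agent.Lib.TanRankH3
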