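import Mathlib
import Groth.Prelude
import Groth.Agent.Lib.OmegaFibre3_helper3
import Groth.Agent.Lib.TanRank2_helper3

/-!
# S14443: the dimension of a fibre component through a closed point is bounded by the fibre of
`Ω_{X/Y}` (helper3)

APPEND-ONLY once landed.
-/

set_option autoImplicit false
set_option linter.style.haveILetI false
universe u

attribute [local instance] FixPt.fiberModule

namespace Groth.Agent.Lib.OmegaFibreH3

open AlgebraicGeometry CategoryTheory TopologicalSpace Opposite Groth.Agent.SchFTH8 IsLocalRing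

/-- the residue field of a maximal ideal of a f.g. algebra over an alg. closed field is `k`. -/
theorem exists_const_sub_mem (k : Type u) [Field k] [IsAlgClosed k] (B : Type u) [CommRing B]
    [Algebra k B] [Algebra.FiniteType k B] (q : Ideal B) [hq : q.IsMaximal] (b : B) :
    ∃ c : k, b - algebraMap k B c ∈ q := by
  letI := Ideal.Quotient.field q
  haveI : Algebra.FiniteType k (B ⧸ q) :=
    Algebra.FiniteType.of_surjective (Ideal.Quotient.mkₐ k q) (Ideal.Quotient.mkₐ_surjective k q)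
  haveI := finite_of_finite_type_of_isJacobsonRing k (B ⧸ q)
  have hbij : Function.Bijective (algebraMap k (B ⧸ q)) :=
    IsAlgClosed.algebraMap_bijective_of_isIntegral
  obtain ⟨c, hc⟩ := hbij.2 (Ideal.Quotient.mk q b)
  refine ⟨c, ?_⟩
  rw [← Ideal.Quotient.eq]
  exact hc.symm

variable (k : Type u) [Field k] [IsAlgClosed k] {X Y : Scheme.{u}}
  [X.Over (Spec (CommRingCat.of k))] [Y.Over (Spec (CommRingCat.of k))]
  [LocallyOfFiniteType (X ↘ Spec (CommRingCat.of k))]
  (f : X ⟶ Y) (hf : f ≫ (Y ↘ Spec (CommRingCat.of k)) = X ↘ Spec (CommRingCat.of k))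

include hf in
/-- Core: for an integral closed subscheme `ι : T → X` contained in the fibre of `f` through the
closed point `ι t`, `dim O_{T,t} ≤ dim_k Ω_{X/Y}(ι t)`. -/
theorem ringKrullDim_stalk_le {T : Scheme.{u}} (ι : T ⟶ X) [IsClosedImmersion ι] [IsReduced T]
    (t : T) (hcl : IsClosed ({ι t} : Set X))
    (hfib : ∀ t' : T, f (ι t') = f (ι t)) :
    ringKrullDim (T.presheaf.stalk t) ≤
      (Module.finrank k (FixPt.fiber (Omega.sheaf f) (ι t)) : ℕ) := by
  haveI : LocallyOfFiniteType (f ≫ (Y ↘ Spec (CommRingCat.of k))) := by rw [hf]; infer_instance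
  haveI : LocallyOfFiniteType f := locallyOfFiniteType_of_comp f (Y ↘ Spec (CommRingCat.of k))
  haveI : IsLocallyNoetherian X :=
    LocallyOfFiniteType.isLocallyNoetherian (X ↘ Spec (CommRingCat.of k))
  haveI : LocallyOfFiniteType (ι ≫ (X ↘ Spec (CommRingCat.of k))) := inferInstance
  haveI : IsLocallyNoetherian T :=
    LocallyOfFiniteType.isLocallyNoetherian (ι ≫ (X ↘ Spec (CommRingCat.of k)))
  obtain ⟨V, hV, hfxV, -⟩ := (Opens.isBasis_iff_nbhd.mp Y.isBasis_affineOpens)
    (show f (ι t) ∈ (⊤ : Y.Opens) from trivial)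
  obtain ⟨U, hU, hx, e⟩ := (Opens.isBasis_iff_nbhd.mp X.isBasis_affineOpens)
    (show ι t ∈ f ⁻¹ᵁ V from hfxV)
  have hmax := Groth.Agent.Lib.TameSepH3.isMaximal_primeIdealOf hU (ι t) hx hcl
  rw [finrank_fiber_eq k f hf hU hV e (ι t) hx hmax]
  letI algAB : Algebra Γ(Y, V) Γ(X, U) := (f.appLE V U e).hom.toAlgebra
  letI algkB : Algebra k Γ(X, U) := secAlgebra k X U
  letI algkA : Algebra k Γ(Y, V) := secAlgebra k Y V
  haveI towkAB : IsScalarTower k Γ(Y, V) Γ(X, U) :=
    IsScalarTower.of_algebraMap_eq (fun c => (appLE_secMap k f hf e c).symm)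
  let ψ : Γ(X, U) →+* T.presheaf.stalk t := (X.presheaf.germ U (ι t) hx ≫ ι.stalkMap t).hom
  letI algBR : Algebra Γ(X, U) (T.presheaf.stalk t) := ψ.toAlgebra
  letI algAR : Algebra Γ(Y, V) (T.presheaf.stalk t) :=
    (ψ.comp (algebraMap Γ(Y, V) Γ(X, U))).toAlgebra
  letI algkR : Algebra k (T.presheaf.stalk t) := (ψ.comp (algebraMap k Γ(X, U))).toAlgebra
  haveI towABR : IsScalarTower Γ(Y, V) Γ(X, U) (T.presheaf.stalk t) :=
    IsScalarTower.of_algebraMap_eq' rfl
  haveI towkBR : IsScalarTower k Γ(X, U) (T.presheaf.stalk t) :=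
    IsScalarTower.of_algebraMap_eq' rfl
  haveI towkAR : IsScalarTower k Γ(Y, V) (T.presheaf.stalk t) :=
    IsScalarTower.of_algebraMap_eq (fun c => by
      show ψ (algebraMap k Γ(X, U) c) = ψ (algebraMap Γ(Y, V) Γ(X, U) (algebraMap k Γ(Y, V) c))
      rw [← IsScalarTower.algebraMap_apply k Γ(Y, V) Γ(X, U)])
  haveI : Algebra.FiniteType k Γ(X, U) := finiteType_sec k X U hU
  haveI : Algebra.FiniteType Γ(Y, V) Γ(X, U) := Scheme.Hom.finiteType_appLE f hV hU e
  haveI := hmax
  have hψ : ∀ b, ψ b = (ι.stalkMap t).hom ((X.presheaf.germ U (ι t) hx).hom b) := fun _ => rfl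
  have hmemq : ∀ b : Γ(X, U), b ∈ (hU.primeIdealOf ⟨ι t, hx⟩).asIdeal ↔
      (X.presheaf.germ U (ι t) hx).hom b ∈ maximalIdeal (X.presheaf.stalk (ι t)) :=
    fun b => Groth.Agent.Lib.WeakAssSch_helper4.mem_primeIdealOf_iff hU hx b
  refine alg_main k Γ(Y, V) Γ(X, U) (T.presheaf.stalk t) (hU.primeIdealOf ⟨ι t, hx⟩).asIdeal
    ?_ ?_ ?_ ?_
  · -- hq
    intro b hb
    show ψ b ∈ maximalIdeal (T.presheaf.stalk t)
    rw [hψ, mem_maximalIdeal, mem_nonunits_iff]
    intro hu
    exact (mem_maximalIdeal _).1 ((hmemq b).1 hb) (isUnit_of_map_unit (ι.stalkMap t).hom _ hu)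
  · -- hk
    intro b
    exact exists_const_sub_mem k Γ(X, U) _ b
  · -- hfrac
    intro r
    obtain ⟨ρ, rfl⟩ := ι.stalkMap_surjective t r
    letI := TopCat.Presheaf.algebra_section_stalk X.presheaf (⟨ι t, hx⟩ : U)
    haveI hloc := hU.isLocalization_stalk ⟨ι t, hx⟩
    obtain ⟨⟨b, s⟩, hs⟩ := IsLocalization.surj (hU.primeIdealOf ⟨ι t, hx⟩).asIdeal.primeCompl ρ
    refine ⟨b, s.1, ?_, ?_⟩
    · show IsUnit (ψ s.1)
      rw [hψ]
      refine IsUnit.map _ ?_
      have h1 : (X.presheaf.germ U (ι t) hx).hom s.1 ∉ maximalIdeal (X.presheaf.stalk (ι t)) :=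
        fun h => s.2 ((hmemq s.1).2 h)
      rw [mem_maximalIdeal, mem_nonunits_iff, not_not] at h1
      exact h1
    · show (ι.stalkMap t).hom ρ * ψ s.1 = ψ b
      rw [hψ, hψ, ← map_mul]
      exact congrArg _ hs
  · -- hA
    intro a ha
    show ψ ((f.appLE V U e).hom a) = 0
    have h1 : (X.presheaf.germ U (ι t) hx).hom ((f.appLE V U e).hom a) =
        (f.stalkMap (ι t)).hom ((Y.presheaf.germ V (f (ι t)) (e hx)).hom a) :=
      congr($(Groth.Agent.Lib.OmegaStalkH4.germ_comp f e hx) a)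
    have h2 : (Y.presheaf.germ V (f (ι t)) (e hx)).hom a ∈
        maximalIdeal (Y.presheaf.stalk (f (ι t))) := by
      rw [mem_maximalIdeal, mem_nonunits_iff]
      intro hu
      have h3 : (X.presheaf.germ U (ι t) hx).hom ((f.appLE V U e).hom a) ∈
          maximalIdeal (X.presheaf.stalk (ι t)) := (hmemq _).1 ha
      rw [h1] at h3
      exact (mem_maximalIdeal _).1 h3 (hu.map _)
    have h3 : (f (ι t)) ∉ Y.basicOpen a := by
      rw [Scheme.mem_basicOpen Y a (f (ι t)) hfxV]
      exact (mem_maximalIdeal _).1 h2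
    -- the pulled back section vanishes on the reduced scheme `T`
    have h4 : (ι ≫ f).app V a = 0 := by
      rw [← AlgebraicGeometry.basicOpen_eq_bot_iff, ← Scheme.preimage_basicOpen]
      ext t'
      simp only [Opens.coe_bot, Set.mem_empty_iff_false, iff_false]
      intro ht'
      have h5 : (ι ≫ f) t' ∈ Y.basicOpen a := ht'
      have h6 : (ι ≫ f) t' = f (ι t) := hfib t'
      rw [h6] at h5
      exact h3 h5
    rw [hψ, h1]
    have h7 : (ι.stalkMap t).hom ((f.stalkMap (ι t)).hom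
        ((Y.presheaf.germ V (f (ι t)) (e hx)).hom a)) =
        ((ι ≫ f).stalkMap t).hom ((Y.presheaf.germ V ((ι ≫ f) t) (e hx)).hom a) := by
      rw [Scheme.Hom.stalkMap_comp]
      rfl
    rw [h7]
    have h8 := Scheme.Hom.germ_stalkMap_apply (ι ≫ f) V t (e hx) a
    refine h8.trans ?_
    rw [h4, map_zero]

include hf in
/-- **S14443.** -/
theorem main14443 (x : X) (hx : IsClosed ({x} : Set X)) (Z : Set X) (hZ : IsIrreducible Z)
    (hZc : IsClosed Z) (hxZ : x ∈ Z) (hZf : Z ⊆ f.base ⁻¹' {f.base x}) (r : ℕ)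
    (hr : topologicalKrullDim ↥Z = (r : WithBot ℕ∞)) :
    r ≤ Module.finrank k (FixPt.fiber (Omega.sheaf f) x) := by
  obtain ⟨ζ, hζ⟩ := QuasiSober.sober hZ hZc
  haveI : QuasiCompact (X.fromSpecResidueField ζ) :=
    Groth.Agent.Lib.SectionExtH7.quasiCompact_of_subsingleton _
  haveI : IsIntegral (X.fromSpecResidueField ζ).image :=
    Groth.Agent.Lib.SectionExtH7.isIntegral_image _
  have hri : Set.range (X.fromSpecResidueField ζ).imageι = Z := by
    rw [Scheme.IdealSheafData.range_subschemeι, Scheme.Hom.support_ker,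
      Scheme.range_fromSpecResidueField]
    exact hζ.def
  subst hri
  obtain ⟨t, rfl⟩ := hxZ
  have hfib : ∀ t', f ((X.fromSpecResidueField ζ).imageι t') =
      f ((X.fromSpecResidueField ζ).imageι t) := fun t' => hZf ⟨t', rfl⟩
  have h1 := ringKrullDim_stalk_le k f hf (X.fromSpecResidueField ζ).imageι t hx hfib
  have ht : IsClosed ({t} : Set (X.fromSpecResidueField ζ).image) := by
    have h0 : ({t} : Set (X.fromSpecResidueField ζ).image) =
        (X.fromSpecResidueField ζ).imageι ⁻¹' {(X.fromSpecResidueField ζ).imageι t} := by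
      ext z
      simp only [Set.mem_singleton_iff, Set.mem_preimage]
      exact ⟨fun h => by rw [h],
        fun h => (X.fromSpecResidueField ζ).imageι.isClosedEmbedding.injective h⟩
    rw [h0]
    exact hx.preimage (X.fromSpecResidueField ζ).imageι.continuous
  haveI : LocallyOfFiniteType
      ((X.fromSpecResidueField ζ).imageι ≫ (X ↘ Spec (CommRingCat.of k))) := inferInstance
  have h2 := Groth.Agent.Lib.TanRankH3.topDim_le_of_stalk (X.fromSpecResidueField ζ).image
    ((X.fromSpecResidueField ζ).imageι ≫ (X ↘ Spec (CommRingCat.of k))) t ht _ h1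
  have h3 : topologicalKrullDim ↥(X.fromSpecResidueField ζ).image =
      topologicalKrullDim ↥(Set.range (X.fromSpecResidueField ζ).imageι) :=
    IsHomeomorph.topologicalKrullDim_eq _
      ((X.fromSpecResidueField ζ).imageι.isClosedEmbedding.isEmbedding.toHomeomorph).isHomeomorph
  rw [h3, hr] at h2
  exact_mod_cast h2

end Groth.Agent.Lib.OmegaFibreH3
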