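import Groth.Agent.Lib.OmegaBC_helper4

/-!
# Base change of `ω_{B/A} = Hom_A(B, A)` for finite free `B` along an arbitrary `A → A₁` (helper6)

Same as helper4's `OmegaBCH4.β₀_bij` but with `B'` finite free and `A₁` arbitrary (not flat).
APPEND-ONLY once landed.
-/

set_option autoImplicit false
set_option linter.style.haveILetI false
universe u
open TensorProduct QFDual

namespace Groth.Agent.Lib.OmegaFreeBCH6

open Groth.Agent.Lib.OmegaBCH4

attribute [local instance] modA modB'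

variable {A B' A₁ B'₁ : Type u} [CommRing A] [CommRing B'] [CommRing A₁] [CommRing B'₁]
  [Algebra A B'] [Algebra A A₁] [Algebra B' B'₁] [Algebra A₁ B'₁] [Algebra A B'₁]
  [IsScalarTower A A₁ B'₁] [IsScalarTower A B' B'₁]
  [Module.Free A B'] [Module.Finite A B'] (h : Algebra.IsPushout A A₁ B' B'₁)

/-- The base change isomorphism for linear forms (finite free case). -/
noncomputable def Θ' : A₁ ⊗[A] (B' →ₗ[A] A) ≃ₗ[A₁] (B'₁ →ₗ[A₁] A₁) :=
  (h.out.dual).equiv

lemma Θ'_tmul (a : A₁) (f : B' →ₗ[A] A) : Θ' h (a ⊗ₜ f) = a • h.out.toDual f :=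
  IsBaseChange.equiv_tmul _ _ _

lemma β₀_eq' (y : A₁ ⊗[A] Disc.Omega A B') :
    β₀ h ((Algebra.IsPushout.cancelBaseChange A A₁ B' B'₁ (Disc.Omega A B')).symm y) =
      (⟨Θ' h ((unwrap A B').baseChange A A₁ _ _ y)⟩ : Disc.Omega A₁ B'₁) := by
  induction y using TensorProduct.induction_on with
  | zero =>
    rw [map_zero, map_zero, map_zero, map_zero]
    rfl
  | tmul a φ =>
    rw [Algebra.IsPushout.cancelBaseChange_symm_tmul, β₀_tmul, LinearEquiv.baseChange_tmul, Θ'_tmul]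
    apply Disc.Omega.ext
    apply LinearMap.ext
    intro x
    show (bcFin h φ).toLinearMap (algebraMap A₁ B'₁ a * x) = a • (h.out.toDual φ.toLinearMap) x
    rw [← Algebra.smul_def, map_smul]
    rfl
  | add x y hx hy =>
    rw [map_add, map_add, map_add, map_add, hx, hy]
    rfl

theorem β₀_bij' : Function.Bijective (β₀ h) := by
  have e : ⇑(β₀ h) = (fun f : B'₁ →ₗ[A₁] A₁ => (⟨f⟩ : Disc.Omega A₁ B'₁)) ∘ ⇑(Θ' h) ∘
      ⇑((unwrap A B').baseChange A A₁ _ _) ∘
      ⇑(Algebra.IsPushout.cancelBaseChange A A₁ B' B'₁ (Disc.Omega A B')) := by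
    funext x
    have hx := β₀_eq' h (Algebra.IsPushout.cancelBaseChange A A₁ B' B'₁ (Disc.Omega A B') x)
    rw [LinearEquiv.symm_apply_apply] at hx
    exact hx
  rw [e]
  have hW : Function.Bijective (fun f : B'₁ →ₗ[A₁] A₁ => (⟨f⟩ : Disc.Omega A₁ B'₁)) :=
    Function.bijective_iff_has_inverse.2 ⟨fun ω => ω.toLinearMap, fun _ => rfl, fun _ => rfl⟩
  exact hW.comp ((LinearEquiv.bijective _).comp
    ((LinearEquiv.bijective _).comp (LinearEquiv.bijective _)))

/-- base change of `ω` for a finite free algebra -/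
noncomputable def βEquiv : (B'₁ ⊗[B'] Disc.Omega A B') ≃ₗ[B'₁] Disc.Omega A₁ B'₁ :=
  LinearEquiv.ofBijective (β₀ h) (β₀_bij' h)

end Groth.Agent.Lib.OmegaFreeBCH6
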