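import Mathlib
import Groth.Agent.Lib.JetReg2_helper8
import Groth.Agent.Lib.CartierRing_helper6

/-!
# `Ω_{R/k}` free of rank `n` implies regular of dimension `n` (helper8)
APPEND-ONLY once landed.
-/

set_option autoImplicit false
set_option maxHeartbeats 400000
universe u

namespace Groth.Agent.Lib.OmegaFreeH8

open IsLocalRing
open Groth.Agent.Lib.AnIndH8 Groth.Agent.Lib.JetRegH8

variable {k R : Type u} [Field k] [CommRing R] [Algebra k R] [IsLocalRing R]

theorem D_mul {c : R →ₐ[k] k} (hc : ∀ r, r - algebraMap k R (c r) ∈ maximalIdeal R)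
    (D : R →ₗ[k] k) (hD1 : D 1 = 0) (hD2 : ∀ r ∈ maximalIdeal R ^ 2, D r = 0) (r s : R) :
    D (r * s) = c r * D s + c s * D r := by
  have hDk : ∀ d : k, D (algebraMap k R d) = 0 := by
    intro d
    rw [Algebra.algebraMap_eq_smul_one, map_smul, hD1, smul_zero]
  have hDm : ∀ r, D (r - algebraMap k R (c r)) = D r := by
    intro r; rw [map_sub, hDk, sub_zero]
  have e : r * s = (r - algebraMap k R (c r)) * (s - algebraMap k R (c s))
      + (c r) • (s - algebraMap k R (c s)) + (c s) • (r - algebraMap k R (c r))
      + algebraMap k R (c r * c s) := by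
    simp only [Algebra.smul_def, map_mul]; ring
  have h2 : D ((r - algebraMap k R (c r)) * (s - algebraMap k R (c s))) = 0 := by
    apply hD2
    rw [pow_two]
    exact Ideal.mul_mem_mul (hc r) (hc s)
  conv_lhs => rw [e]
  rw [map_add, map_add, map_add, h2, map_smul, map_smul, hDk, hDm, hDm]
  simp only [smul_eq_mul]; ring

theorem residue_eq {c : R →ₐ[k] k} (hc : ∀ r, r - algebraMap k R (c r) ∈ maximalIdeal R) (r : R) :
    residue R r = algebraMap k (ResidueField R) (c r) := by
  have := hc r
  rw [← residue_eq_zero_iff, map_sub, sub_eq_zero] at this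
  rw [this]
  exact (IsScalarTower.algebraMap_apply k R (ResidueField R) _).symm

/-- A tangent functional induces a linear functional on `Ω`. -/
theorem exists_lift (hres : Function.Surjective (algebraMap k (ResidueField R)))
    (D₀ : R →ₗ[k] k) (hD1 : D₀ 1 = 0) (hD2 : ∀ r ∈ maximalIdeal R ^ 2, D₀ r = 0) :
    ∃ ℓ : Ω[R⁄k] →ₗ[R] ResidueField R,
      ∀ r, ℓ (KaehlerDifferential.D k R r) = algebraMap k (ResidueField R) (D₀ r) := by
  obtain ⟨c, hc⟩ := exists_res (k := k) (R := R) hres
  let f : R →ₗ[k] ResidueField R := (Algebra.linearMap k (ResidueField R)) ∘ₗ D₀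
  have hleib : ∀ a b, f (a * b) = a • f b + b • f a := by
    intro a b
    simp only [f, LinearMap.comp_apply, Algebra.linearMap_apply]
    rw [D_mul hc D₀ hD1 hD2, map_add, map_mul, map_mul, Algebra.smul_def, Algebra.smul_def,
      IsLocalRing.ResidueField.algebraMap_eq, residue_eq hc a, residue_eq hc b]
  let δ : Derivation k R (ResidueField R) := Derivation.mk' f hleib
  refine ⟨δ.liftKaehlerDifferential, fun r => ?_⟩
  rw [Derivation.liftKaehlerDifferential_comp_D]
  rfl

section main
variable {n : ℕ} (e : Ω[R⁄k] ≃ₗ[R] (Fin n → R))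

theorem e_symm_eq_sum (w : Fin n → R) :
    e.symm w = ∑ i, w i • e.symm (Pi.single i 1) := by
  conv_lhs => rw [← (Pi.basisFun R (Fin n)).sum_repr w]
  rw [map_sum]
  refine Finset.sum_congr rfl fun i _ => ?_
  rw [map_smul]
  simp

theorem hinj (hres : Function.Surjective (algebraMap k (ResidueField R)))
    {m : R} (hm : m ∈ maximalIdeal R)
    (hP : ∀ i, (e (KaehlerDifferential.D k R m)) i ∈ maximalIdeal R) :
    m ∈ maximalIdeal R ^ 2 := by
  by_contra hm2
  have hmU : m ∉ U k R := by
    intro hU
    obtain ⟨u, hu, w, hw, huw⟩ := Submodule.mem_sup.1 hU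
    obtain ⟨d, rfl⟩ := Submodule.mem_span_singleton.1 hw
    have hu' : u ∈ maximalIdeal R ^ 2 := hu
    have hd : d = 0 := by
      by_contra hne
      have h1 : d • (1 : R) ∈ maximalIdeal R := by
        have e1 : d • (1 : R) = m - u := by rw [← huw]; ring
        rw [e1]
        exact Ideal.sub_mem _ hm (Ideal.pow_le_self two_ne_zero hu')
      rw [← Algebra.algebraMap_eq_smul_one] at h1
      exact (mem_maximalIdeal _).1 h1 ((isUnit_iff_ne_zero.2 hne).map _)
    rw [hd, zero_smul, add_zero] at huw
    exact hm2 (huw ▸ hu')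
  obtain ⟨D₀, hD₀m, hD₀U⟩ := Submodule.exists_dual_map_eq_bot_of_notMem hmU inferInstance
  have hker : ∀ r ∈ U k R, D₀ r = 0 := by
    intro r hr
    have : D₀ r ∈ (U k R).map D₀ := Submodule.mem_map_of_mem hr
    rw [hD₀U] at this
    simpa using this
  have hD1 : D₀ 1 = 0 :=
    hker 1 (Submodule.mem_sup_right (Submodule.mem_span_singleton_self _))
  have hD2 : ∀ r ∈ maximalIdeal R ^ 2, D₀ r = 0 := fun r hr =>
    hker r (Submodule.mem_sup_left hr)
  obtain ⟨ℓ, hℓ⟩ := exists_lift hres D₀ hD1 hD2
  have h1 : ℓ (KaehlerDifferential.D k R m) ≠ 0 := by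
    rw [hℓ]
    exact fun h => hD₀m ((map_eq_zero_iff _ (algebraMap k (ResidueField R)).injective).1 h)
  apply h1
  have h2 : KaehlerDifferential.D k R m
      = ∑ i, (e (KaehlerDifferential.D k R m)) i • e.symm (Pi.single i 1) := by
    rw [← e_symm_eq_sum, LinearEquiv.symm_apply_apply]
  rw [h2, map_sum]
  refine Finset.sum_eq_zero fun i _ => ?_
  rw [map_smul, Algebra.smul_def, IsLocalRing.ResidueField.algebraMap_eq,
    (residue_eq_zero_iff _).2 (hP i), zero_mul]

theorem hsurj (hres : Function.Surjective (algebraMap k (ResidueField R))) (l : Fin n) :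
    ∃ x ∈ maximalIdeal R, ∀ i, (e (KaehlerDifferential.D k R x)) i
      - (if i = l then 1 else 0) ∈ maximalIdeal R := by
  obtain ⟨c, hc⟩ := exists_res (k := k) (R := R) hres
  have claim : ∀ ω ∈ Submodule.span R (Set.range (KaehlerDifferential.D k R)),
      ∃ x ∈ maximalIdeal R, ∀ i, (e (ω - KaehlerDifferential.D k R x)) i ∈ maximalIdeal R := by
    intro ω hω
    induction hω using Submodule.span_induction with
    | mem ω h =>
      obtain ⟨r, rfl⟩ := h
      refine ⟨r - algebraMap k R (c r), hc r, fun i => ?_⟩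
      have hDx : KaehlerDifferential.D k R (r - algebraMap k R (c r))
          = KaehlerDifferential.D k R r := by
        rw [map_sub, Derivation.map_algebraMap, sub_zero]
      rw [hDx, sub_self, map_zero]
      exact Ideal.zero_mem _
    | zero =>
      exact ⟨0, Ideal.zero_mem _, fun i => by simp⟩
    | add ω₁ ω₂ _ _ h₁ h₂ =>
      obtain ⟨x₁, hx₁, h₁⟩ := h₁
      obtain ⟨x₂, hx₂, h₂⟩ := h₂
      refine ⟨x₁ + x₂, Ideal.add_mem _ hx₁ hx₂, fun i => ?_⟩
      have : ω₁ + ω₂ - KaehlerDifferential.D k R (x₁ + x₂)
          = (ω₁ - KaehlerDifferential.D k R x₁) + (ω₂ - KaehlerDifferential.D k R x₂) := by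
        rw [map_add]; abel
      rw [this, map_add]
      exact Ideal.add_mem _ (h₁ i) (h₂ i)
    | smul a ω _ h =>
      obtain ⟨x, hx, h⟩ := h
      refine ⟨algebraMap k R (c a) * x, Ideal.mul_mem_left _ _ hx, fun i => ?_⟩
      have h1 : KaehlerDifferential.D k R (algebraMap k R (c a) * x)
          = algebraMap k R (c a) • KaehlerDifferential.D k R x := by
        rw [Derivation.leibniz, Derivation.map_algebraMap, smul_zero, add_zero]
      have : a • ω - KaehlerDifferential.D k R (algebraMap k R (c a) * x)
          = a • (ω - KaehlerDifferential.D k R x)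
            + (a - algebraMap k R (c a)) • KaehlerDifferential.D k R x := by
        rw [h1, smul_sub, sub_smul]; abel
      rw [this, map_add, map_smul, map_smul]
      exact Ideal.add_mem _ (Ideal.mul_mem_left _ _ (h i)) (Ideal.mul_mem_right _ _ (hc a))
  obtain ⟨x, hx, h⟩ := claim (e.symm (Pi.single l 1))
    (by rw [KaehlerDifferential.span_range_derivation]; trivial)
  refine ⟨x, hx, fun i => ?_⟩
  have h1 := h i
  rw [map_sub, LinearEquiv.apply_symm_apply] at h1
  have h2 : (e (KaehlerDifferential.D k R x)) i - (if i = l then 1 else 0)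
      = - (((Pi.single l 1 : Fin n → R) - e (KaehlerDifferential.D k R x)) i) := by
    rw [Pi.sub_apply, Pi.single_apply]; ring
  rw [h2]
  exact Ideal.neg_mem_iff _ |>.2 h1

end main

section final

theorem main7767 [CharZero k] [IsNoetherianRing R]
    (hres : Function.Surjective (algebraMap k (ResidueField R)))
    (n : ℕ) (e : Ω[R⁄k] ≃ₗ[R] (Fin n → R)) :
    IsRegularLocalRing R ∧ ringKrullDim R = n := by
  obtain ⟨c, hc⟩ := exists_res (k := k) (R := R) hres
  choose x hxm hxδ using hsurj e hres
  -- generation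
  have hx : Ideal.span (Set.range x) = maximalIdeal R := by
    refine le_antisymm (Ideal.span_le.2 ?_) ?_
    · rintro _ ⟨i, rfl⟩
      exact hxm i
    · refine Submodule.le_of_le_smul_of_le_jacobson_bot (I := maximalIdeal R)
        (IsNoetherian.noetherian _) ?_ ?_
      · rw [IsLocalRing.jacobson_eq_maximalIdeal ⊥ bot_ne_top]
      · intro m hm
        set a : Fin n → R := e (KaehlerDifferential.D k R m) with ha
        have hsum : ∑ l, algebraMap k R (c (a l)) * x l ∈ Ideal.span (Set.range x) :=
          Ideal.sum_mem _ fun l _ => Ideal.mul_mem_left _ _ (Ideal.subset_span ⟨l, rfl⟩)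
        have hm' : m - ∑ l, algebraMap k R (c (a l)) * x l ∈ maximalIdeal R :=
          Ideal.sub_mem _ hm (Ideal.sum_mem _ fun l _ => Ideal.mul_mem_left _ _ (hxm l))
        have hP : ∀ i, (e (KaehlerDifferential.D k R
            (m - ∑ l, algebraMap k R (c (a l)) * x l))) i ∈ maximalIdeal R := by
          intro i
          have h1 : ∀ l, KaehlerDifferential.D k R (algebraMap k R (c (a l)) * x l)
              = algebraMap k R (c (a l)) • KaehlerDifferential.D k R (x l) := by
            intro l
            rw [Derivation.leibniz, Derivation.map_algebraMap, smul_zero, add_zero]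
          rw [map_sub, map_sum, map_sub, map_sum, Pi.sub_apply, Finset.sum_apply]
          simp only [h1, map_smul, Pi.smul_apply, smul_eq_mul]
          have h2 : a i - ∑ l, algebraMap k R (c (a l)) * (e (KaehlerDifferential.D k R (x l))) i
              = (a i - algebraMap k R (c (a i)))
                - ∑ l, algebraMap k R (c (a l)) * ((e (KaehlerDifferential.D k R (x l))) i
                    - (if i = l then 1 else 0)) := by
            simp only [mul_sub, Finset.sum_sub_distrib, mul_ite, mul_one, mul_zero,
              Finset.sum_ite_eq, Finset.mem_univ, if_true]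
            ring
          rw [← ha, h2]
          exact Ideal.sub_mem _ (hc _)
            (Ideal.sum_mem _ fun l _ => Ideal.mul_mem_left _ _ (hxδ l i))
        have h2 := hinj e hres hm' hP
        have : m = ∑ l, algebraMap k R (c (a l)) * x l
            + (m - ∑ l, algebraMap k R (c (a l)) * x l) := by ring
        rw [this]
        refine Submodule.add_mem _ (Submodule.mem_sup_left hsum) (Submodule.mem_sup_right ?_)
        rw [smul_eq_mul, ← pow_two]
        exact h2
  -- analytic independence
  have hAI : AI (k := k) x := by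
    intro j G hG hmem
    refine Groth.Agent.Lib.CartierRingH6.quasiRegular c x hxm ?_ j G hG hmem
    intro a i
    let p : Ω[R⁄k] →ₗ[R] R := (LinearMap.proj i) ∘ₗ e.toLinearMap
    let q : R →ₗ[R] (R ⧸ maximalIdeal R ^ (a + 1)) :=
      (Ideal.Quotient.mkₐ R (maximalIdeal R ^ (a + 1))).toLinearMap
    refine ⟨q.compDer (p.compDer (KaehlerDifferential.D k R)), fun l => ?_⟩
    have h1 : (q.compDer (p.compDer (KaehlerDifferential.D k R))) (x l)
        = Ideal.Quotient.mk (maximalIdeal R ^ (a + 1)) ((e (KaehlerDifferential.D k R (x l))) i) :=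
      rfl
    have h2 : (if i = l then (1 : R ⧸ maximalIdeal R ^ (a + 1)) else 0)
        = Ideal.Quotient.mk (maximalIdeal R ^ (a + 1)) (if i = l then 1 else 0) := by
      split_ifs <;> simp
    rw [h1, h2, ← map_sub]
    exact Ideal.mem_map_of_mem _ (hxδ l i)
  have hdim := le_ringKrullDim n R hres x hx hAI
  have h1 : (maximalIdeal R).spanFinrank ≤ n := by
    rw [← hx]
    refine (Submodule.spanFinrank_span_le_ncard_of_finite (Set.finite_range x)).trans ?_
    have := Set.ncard_image_le (f := x) (Set.finite_univ (α := Fin n))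
    simpa using this
  have hreg : IsRegularLocalRing R :=
    IsRegularLocalRing.of_spanFinrank_maximalIdeal_le R
      (le_trans (by exact_mod_cast h1) hdim)
  refine ⟨hreg, le_antisymm ?_ hdim⟩
  rw [← (isRegularLocalRing_iff R).1 hreg]
  exact_mod_cast h1

end final

end Groth.Agent.Lib.OmegaFreeH8
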