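import Groth.Agent.Lib.OmegaLocFree1_helper6
import Groth.Prelude.Def_QFDual

/-!
# Gram determinant of a form and base change to a field (helper6)
APPEND-ONLY once landed.
-/

set_option autoImplicit false
universe u

namespace Groth.Agent.Lib.OmegaLocFreeH6

open Matrix

section PartD

variable {A B A₁ B₁ : Type u} [CommRing A] [CommRing B] [Field A₁] [CommRing B₁]
  [Algebra A B] [Algebra A A₁] [Algebra B B₁] [Algebra A₁ B₁] [Algebra A B₁]
  [IsScalarTower A A₁ B₁] [IsScalarTower A B B₁] (h : Algebra.IsPushout A A₁ B B₁)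
  {ι : Type*} [Fintype ι] [DecidableEq ι] (v : Module.Basis ι A B) (e : Disc.Omega A B)

omit [Fintype ι] [DecidableEq ι] in
theorem gram_baseChange :
    gram (h.out.basis v) (QFDual.bcFin h e) = (gram v e).map (algebraMap A A₁) := by
  ext i j
  rw [gram_apply, Matrix.map_apply, gram_apply, IsBaseChange.basis_apply,
    IsBaseChange.basis_apply]
  show (QFDual.bcFin h e).toLinearMap (algebraMap B B₁ (v i) * algebraMap B B₁ (v j)) = _
  rw [← map_mul, QFDual.bcFin_apply_algebraMap]

/-- if `c ↦ c • e₁` is injective for the base change `e₁` of `e` to a field, the Gram determinant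
of `e` does not vanish in that field -/
theorem det_gram_ne_zero (hinj : Function.Injective (hmap (QFDual.bcFin h e))) :
    algebraMap A A₁ (gram v e).det ≠ 0 := by
  intro hdet
  have hdet' : (gram (h.out.basis v) (QFDual.bcFin h e)).det = 0 := by
    rw [gram_baseChange, ← RingHom.mapMatrix_apply, ← RingHom.map_det]
    exact hdet
  obtain ⟨w, hw0, hw⟩ := Matrix.exists_mulVec_eq_zero_iff.2 hdet'
  apply hw0
  have hc : hmap (QFDual.bcFin h e) ((h.out.basis v).equivFun.symm w) = 0 := by
    apply Disc.Omega.ext
    apply (h.out.basis v).ext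
    intro l
    rw [hmap_apply, mul_comm, ← gram_mulVec, LinearEquiv.apply_symm_apply, hw]
    rfl
  have h1 := hinj (hc.trans (map_zero _).symm)
  have h2 := congrArg (h.out.basis v).equivFun h1
  rwa [LinearEquiv.apply_symm_apply, map_zero] at h2

end PartD

end Groth.Agent.Lib.OmegaLocFreeH6
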