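import Groth.Agent.Lib.OmegaLocFree2_helper6
import Groth.Agent.Lib.OmegaFreeBC_helper6

/-!
# Lifting a generator of `ω` of the fibre over `κ(p)` to a form with Gram determinant outside `p` (helper6)
APPEND-ONLY once landed.
-/

set_option autoImplicit false
set_option linter.style.haveILetI false
universe u

namespace Groth.Agent.Lib.OmegaLocFreeH6

open TensorProduct

section PartE

variable {A : Type u} [CommRing A] (p : Ideal A) [p.IsPrime]

theorem residueField_exists_mul (x : p.ResidueField) :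
    ∃ s : A, s ∉ p ∧ ∃ a : A, algebraMap A p.ResidueField s * x = algebraMap A p.ResidueField a := by
  obtain ⟨y, rfl⟩ := IsLocalRing.residue_surjective x
  obtain ⟨a, s, rfl⟩ := IsLocalization.exists_mk'_eq p.primeCompl y
  refine ⟨s, s.2, a, ?_⟩
  rw [IsScalarTower.algebraMap_apply A (Localization.AtPrime p) p.ResidueField,
    IsScalarTower.algebraMap_apply A (Localization.AtPrime p) p.ResidueField,
    IsLocalRing.ResidueField.algebraMap_eq, ← map_mul, IsLocalization.mk'_spec']

theorem tensor_exists_smul {N : Type u} [AddCommGroup N] [Module A N] (y : p.ResidueField ⊗[A] N) :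
    ∃ t : A, t ∉ p ∧ ∃ n : N, (algebraMap A p.ResidueField t) • y = 1 ⊗ₜ[A] n := by
  induction y using TensorProduct.induction_on with
  | zero => exact ⟨1, fun h => (Ideal.IsPrime.ne_top ‹_›) ((Ideal.eq_top_iff_one p).2 h), 0, by simp⟩
  | tmul x n =>
    obtain ⟨s, hs, a, ha⟩ := residueField_exists_mul p x
    refine ⟨s, hs, a • n, ?_⟩
    rw [TensorProduct.smul_tmul', smul_eq_mul, ha, Algebra.algebraMap_eq_smul_one,
      TensorProduct.smul_tmul]
  | add y₁ y₂ h₁ h₂ =>
    obtain ⟨t₁, ht₁, n₁, hn₁⟩ := h₁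
    obtain ⟨t₂, ht₂, n₂, hn₂⟩ := h₂
    refine ⟨t₁ * t₂, fun h => (Ideal.IsPrime.mem_or_mem ‹_› h).elim ht₁ ht₂,
      t₂ • n₁ + t₁ • n₂, ?_⟩
    have e1 : algebraMap A p.ResidueField (t₁ * t₂) • y₁ =
        algebraMap A p.ResidueField t₂ • ((1 : p.ResidueField) ⊗ₜ[A] n₁) := by
      rw [← hn₁, smul_smul, ← map_mul, mul_comm]
    have e2 : algebraMap A p.ResidueField (t₁ * t₂) • y₂ =
        algebraMap A p.ResidueField t₁ • ((1 : p.ResidueField) ⊗ₜ[A] n₂) := by
      rw [← hn₂, smul_smul, ← map_mul]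
    have e3 : ∀ (t : A) (n : N), algebraMap A p.ResidueField t • ((1 : p.ResidueField) ⊗ₜ[A] n) =
        1 ⊗ₜ[A] (t • n) := by
      intro t n
      rw [TensorProduct.smul_tmul', smul_eq_mul, mul_one, Algebra.algebraMap_eq_smul_one,
        TensorProduct.smul_tmul]
    rw [smul_add, e1, e2, e3, e3, TensorProduct.tmul_add]

end PartE

section PartE2

variable {A B B₁ : Type u} [CommRing A] [CommRing B] [CommRing B₁] (p : Ideal A) [p.IsPrime]
  [Algebra A B] [Algebra B B₁] [Algebra p.ResidueField B₁] [Algebra A B₁]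
  [IsScalarTower A p.ResidueField B₁] [IsScalarTower A B B₁]
  [Module.Free A B] [Module.Finite A B] (h : Algebra.IsPushout A p.ResidueField B B₁)

open Groth.Agent.Lib.OmegaFreeBCH6 in
theorem exists_lift_form (η : Disc.Omega p.ResidueField B₁) :
    ∃ (t : A) (e : Disc.Omega A B), t ∉ p ∧
      QFDual.bcFin h e =
        (algebraMap p.ResidueField B₁ (algebraMap A p.ResidueField t)) • η := by
  obtain ⟨y, hy⟩ := (Θ' h).surjective η.toLinearMap
  obtain ⟨t, ht, f, hf⟩ := tensor_exists_smul p y
  refine ⟨t, ⟨f⟩, ht, ?_⟩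
  apply Disc.Omega.ext
  have h1 : Θ' h ((algebraMap A p.ResidueField t) • y) =
      (algebraMap A p.ResidueField t) • η.toLinearMap := by rw [map_smul, hy]
  rw [hf, Θ'_tmul, one_smul] at h1
  show h.out.toDual f = _
  rw [h1]
  apply LinearMap.ext
  intro z
  show algebraMap A p.ResidueField t • η.toLinearMap z =
    η.toLinearMap (algebraMap p.ResidueField B₁ (algebraMap A p.ResidueField t) * z)
  rw [← Algebra.smul_def, map_smul]

include h in
theorem exists_gram_det_notMem (ε : B₁ ≃ₗ[B₁] Disc.Omega p.ResidueField B₁)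
    {ι : Type*} [Fintype ι] [DecidableEq ι] (v : Module.Basis ι A B) :
    ∃ e : Disc.Omega A B, (gram v e).det ∉ p := by
  obtain ⟨t, e, ht, he⟩ := exists_lift_form p h (ε 1)
  refine ⟨e, fun hmem => ?_⟩
  have ht0 : algebraMap A p.ResidueField t ≠ 0 := fun h0 =>
    ht ((Ideal.algebraMap_residueField_eq_zero).1 h0)
  have hu : IsUnit (algebraMap p.ResidueField B₁ (algebraMap A p.ResidueField t)) :=
    (IsUnit.mk0 _ ht0).map _
  have hinj : Function.Injective (hmap (QFDual.bcFin h e)) := by
    rw [← LinearMap.ker_eq_bot, LinearMap.ker_eq_bot']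
    intro c hc
    have h2 : hmap (QFDual.bcFin h e) c =
        ε (algebraMap p.ResidueField B₁ (algebraMap A p.ResidueField t) * c) := by
      show c • QFDual.bcFin h e = _
      have h4 : ∀ x : B₁, ε x = x • ε 1 := fun x => by
        rw [← map_smul, smul_eq_mul, mul_one]
      rw [he, smul_smul, h4 (_ * c), mul_comm]
    rw [h2] at hc
    have h3 := ε.injective (hc.trans (map_zero ε).symm)
    exact hu.mul_right_eq_zero.1 h3
  exact det_gram_ne_zero h v e hinj ((Ideal.algebraMap_residueField_eq_zero).2 hmem)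

end PartE2

end Groth.Agent.Lib.OmegaLocFreeH6
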