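import Mathlib
import Groth.Prelude

set_option autoImplicit false
set_option linter.style.haveILetI false

universe u

open TensorProduct QFDual

namespace Groth.Agent.Lib.OmegaProdDualH4

variable {A B' B C' C : Type u} [CommRing A] [CommRing B'] [CommRing B] [CommRing C'] [CommRing C]
  [Algebra A B'] [Algebra B' B] [Algebra A B] [IsScalarTower A B' B]
  [Algebra A C'] [Algebra C' C] [Algebra A C] [IsScalarTower A C' C]

/-- Restriction of a form to the first factor. -/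
def pL (φ : Disc.Omega A (B' × C')) : Disc.Omega A B' :=
  ⟨φ.toLinearMap ∘ₗ LinearMap.inl A B' C'⟩

/-- Restriction of a form to the second factor. -/
def pR (φ : Disc.Omega A (B' × C')) : Disc.Omega A C' :=
  ⟨φ.toLinearMap ∘ₗ LinearMap.inr A B' C'⟩

/-- Extension of a form from the first factor. -/
def iL (ψ : Disc.Omega A B') : Disc.Omega A (B' × C') :=
  ⟨ψ.toLinearMap ∘ₗ LinearMap.fst A B' C'⟩

/-- Extension of a form from the second factor. -/
def iR (ψ : Disc.Omega A C') : Disc.Omega A (B' × C') :=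
  ⟨ψ.toLinearMap ∘ₗ LinearMap.snd A B' C'⟩

lemma pL_add (φ ψ : Disc.Omega A (B' × C')) : pL (φ + ψ) = pL φ + pL ψ :=
  Disc.Omega.ext (LinearMap.ext fun _ => rfl)

lemma pR_add (φ ψ : Disc.Omega A (B' × C')) : pR (φ + ψ) = pR φ + pR ψ :=
  Disc.Omega.ext (LinearMap.ext fun _ => rfl)

lemma iL_add (φ ψ : Disc.Omega A B') : iL (C' := C') (φ + ψ) = iL φ + iL ψ :=
  Disc.Omega.ext (LinearMap.ext fun _ => rfl)

lemma iR_add (φ ψ : Disc.Omega A C') : iR (B' := B') (φ + ψ) = iR φ + iR ψ :=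
  Disc.Omega.ext (LinearMap.ext fun _ => rfl)

lemma pL_smul (r : B' × C') (φ : Disc.Omega A (B' × C')) : pL (r • φ) = r.1 • pL φ := by
  apply Disc.Omega.ext
  apply LinearMap.ext
  intro y
  show φ.toLinearMap (r * (y, 0)) = φ.toLinearMap (r.1 * y, 0)
  congr 1
  exact Prod.ext rfl (mul_zero _)

lemma pR_smul (r : B' × C') (φ : Disc.Omega A (B' × C')) : pR (r • φ) = r.2 • pR φ := by
  apply Disc.Omega.ext
  apply LinearMap.ext
  intro y
  show φ.toLinearMap (r * (0, y)) = φ.toLinearMap (0, r.2 * y)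
  congr 1
  exact Prod.ext (mul_zero _) rfl

lemma iL_smul (b' : B') (ψ : Disc.Omega A B') :
    iL (C' := C') (b' • ψ) = ((b', 0) : B' × C') • iL ψ :=
  Disc.Omega.ext (LinearMap.ext fun _ => rfl)

lemma iR_smul (c' : C') (ψ : Disc.Omega A C') :
    iR (B' := B') (c' • ψ) = ((0, c') : B' × C') • iR ψ :=
  Disc.Omega.ext (LinearMap.ext fun _ => rfl)

lemma pL_iL (ψ : Disc.Omega A B') : pL (iL (C' := C') ψ) = ψ :=
  Disc.Omega.ext (LinearMap.ext fun _ => rfl)

lemma pR_iR (ψ : Disc.Omega A C') : pR (iR (B' := B') ψ) = ψ :=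
  Disc.Omega.ext (LinearMap.ext fun _ => rfl)

lemma pR_iL (ψ : Disc.Omega A B') : pR (iL (C' := C') ψ) = 0 := by
  apply Disc.Omega.ext
  apply LinearMap.ext
  intro y
  show ψ.toLinearMap 0 = 0
  exact map_zero _

lemma pL_iR (ψ : Disc.Omega A C') : pL (iR (B' := B') ψ) = 0 := by
  apply Disc.Omega.ext
  apply LinearMap.ext
  intro y
  show ψ.toLinearMap 0 = 0
  exact map_zero _

lemma iL_pL (φ : Disc.Omega A (B' × C')) : iL (pL φ) = ((1, 0) : B' × C') • φ := by
  apply Disc.Omega.ext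
  apply LinearMap.ext
  intro y
  show φ.toLinearMap (y.1, 0) = φ.toLinearMap ((1, 0) * y)
  congr 1
  exact Prod.ext (one_mul _).symm (zero_mul _).symm

lemma iR_pR (φ : Disc.Omega A (B' × C')) : iR (pR φ) = ((0, 1) : B' × C') • φ := by
  apply Disc.Omega.ext
  apply LinearMap.ext
  intro y
  show φ.toLinearMap (0, y.2) = φ.toLinearMap ((0, 1) * y)
  congr 1
  exact Prod.ext (zero_mul _).symm (one_mul _).symm

variable [Algebra (B' × C') (B × C)] [IsScalarTower A (B' × C') (B × C)]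
  (halg : algebraMap (B' × C') (B × C) = (algebraMap B' B).prodMap (algebraMap C' C))

include halg in
lemma smul_prod (r : B' × C') (s : B × C) : r • s = (r.1 • s.1, r.2 • s.2) := by
  rw [Algebra.smul_def, halg]
  apply Prod.ext
  · show algebraMap B' B r.1 * s.1 = r.1 • s.1
    rw [Algebra.smul_def]
  · show algebraMap C' C r.2 * s.2 = r.2 • s.2
    rw [Algebra.smul_def]

/-- The forward map, additive. -/
noncomputable def fwd₀ :
    (B × C) ⊗[B' × C'] Disc.Omega A (B' × C') →+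
      (B ⊗[B'] Disc.Omega A B') × (C ⊗[C'] Disc.Omega A C') :=
  TensorProduct.liftAddHom
    (AddMonoidHom.mk' (fun s : B × C => AddMonoidHom.mk'
      (fun φ : Disc.Omega A (B' × C') =>
        ((s.1 ⊗ₜ[B'] pL φ, s.2 ⊗ₜ[C'] pR φ) :
          (B ⊗[B'] Disc.Omega A B') × (C ⊗[C'] Disc.Omega A C')))
      (fun φ ψ => by rw [pL_add, pR_add, tmul_add, tmul_add]; rfl))
      (fun s t => by
        apply AddMonoidHom.ext
        intro φ
        show ((s + t).1 ⊗ₜ[B'] pL φ, (s + t).2 ⊗ₜ[C'] pR φ) =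
          (s.1 ⊗ₜ[B'] pL φ, s.2 ⊗ₜ[C'] pR φ) + (t.1 ⊗ₜ[B'] pL φ, t.2 ⊗ₜ[C'] pR φ)
        rw [Prod.fst_add, Prod.snd_add, add_tmul, add_tmul]
        rfl))
    (fun r s φ => by
      show ((r • s).1 ⊗ₜ[B'] pL φ, (r • s).2 ⊗ₜ[C'] pR φ) =
        (s.1 ⊗ₜ[B'] pL (r • φ), s.2 ⊗ₜ[C'] pR (r • φ))
      rw [smul_prod halg, pL_smul, pR_smul, smul_tmul, smul_tmul])

lemma fwd₀_tmul (s : B × C) (φ : Disc.Omega A (B' × C')) :
    fwd₀ halg (s ⊗ₜ φ) = (s.1 ⊗ₜ[B'] pL φ, s.2 ⊗ₜ[C'] pR φ) := rfl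

/-- The backward map on the first factor, additive. -/
noncomputable def bwdL₀ :
    B ⊗[B'] Disc.Omega A B' →+ (B × C) ⊗[B' × C'] Disc.Omega A (B' × C') :=
  TensorProduct.liftAddHom
    (AddMonoidHom.mk' (fun b : B => AddMonoidHom.mk'
      (fun ψ : Disc.Omega A B' => (((b, 0) : B × C) ⊗ₜ[B' × C'] iL ψ))
      (fun φ ψ => by rw [iL_add, tmul_add]))
      (fun s t => by
        apply AddMonoidHom.ext
        intro φ
        show (((s + t, 0) : B × C) ⊗ₜ[B' × C'] iL φ) =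
          ((s, 0) : B × C) ⊗ₜ[B' × C'] iL φ + ((t, 0) : B × C) ⊗ₜ[B' × C'] iL φ
        rw [← add_tmul]
        congr 1
        exact Prod.ext rfl (add_zero _).symm))
    (fun r b ψ => by
      show (((r • b, 0) : B × C) ⊗ₜ[B' × C'] iL ψ) = ((b, 0) : B × C) ⊗ₜ[B' × C'] iL (r • ψ)
      rw [iL_smul, ← smul_tmul, smul_prod halg]
      congr 1
      exact Prod.ext rfl (smul_zero _).symm)

lemma bwdL₀_tmul (b : B) (ψ : Disc.Omega A B') :
    bwdL₀ (C := C) (C' := C') halg (b ⊗ₜ ψ) = ((b, 0) : B × C) ⊗ₜ[B' × C'] iL ψ := rfl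

/-- The backward map on the second factor, additive. -/
noncomputable def bwdR₀ :
    C ⊗[C'] Disc.Omega A C' →+ (B × C) ⊗[B' × C'] Disc.Omega A (B' × C') :=
  TensorProduct.liftAddHom
    (AddMonoidHom.mk' (fun c : C => AddMonoidHom.mk'
      (fun ψ : Disc.Omega A C' => (((0, c) : B × C) ⊗ₜ[B' × C'] iR ψ))
      (fun φ ψ => by rw [iR_add, tmul_add]))
      (fun s t => by
        apply AddMonoidHom.ext
        intro φ
        show (((0, s + t) : B × C) ⊗ₜ[B' × C'] iR φ) =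
          ((0, s) : B × C) ⊗ₜ[B' × C'] iR φ + ((0, t) : B × C) ⊗ₜ[B' × C'] iR φ
        rw [← add_tmul]
        congr 1
        exact Prod.ext (add_zero _).symm rfl))
    (fun r c ψ => by
      show (((0, r • c) : B × C) ⊗ₜ[B' × C'] iR ψ) = ((0, c) : B × C) ⊗ₜ[B' × C'] iR (r • ψ)
      rw [iR_smul, ← smul_tmul, smul_prod halg]
      congr 1
      exact Prod.ext (smul_zero _).symm rfl)

lemma bwdR₀_tmul (c : C) (ψ : Disc.Omega A C') :
    bwdR₀ (B := B) (B' := B') halg (c ⊗ₜ ψ) = ((0, c) : B × C) ⊗ₜ[B' × C'] iR ψ := rfl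

lemma fwd_bwdL (x : B ⊗[B'] Disc.Omega A B') :
    fwd₀ halg (bwdL₀ (C := C) (C' := C') halg x) = (x, 0) := by
  induction x using TensorProduct.induction_on with
  | zero => rw [map_zero, map_zero]; rfl
  | tmul b ψ => rw [bwdL₀_tmul, fwd₀_tmul, pL_iL, pR_iL, tmul_zero]
  | add x y hx hy =>
    rw [map_add, map_add, hx, hy]
    exact Prod.ext rfl (add_zero _)

lemma fwd_bwdR (x : C ⊗[C'] Disc.Omega A C') :
    fwd₀ halg (bwdR₀ (B := B) (B' := B') halg x) = (0, x) := by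
  induction x using TensorProduct.induction_on with
  | zero => rw [map_zero, map_zero]; rfl
  | tmul c ψ => rw [bwdR₀_tmul, fwd₀_tmul, pL_iR, pR_iR, tmul_zero]
  | add x y hx hy =>
    rw [map_add, map_add, hx, hy]
    exact Prod.ext (add_zero _) rfl

lemma bwd_fwd (x : (B × C) ⊗[B' × C'] Disc.Omega A (B' × C')) :
    bwdL₀ halg (fwd₀ halg x).1 + bwdR₀ halg (fwd₀ halg x).2 = x := by
  induction x using TensorProduct.induction_on with
  | zero => rw [map_zero]; show bwdL₀ halg 0 + bwdR₀ halg 0 = 0; rw [map_zero, map_zero, add_zero]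
  | tmul s φ =>
    rw [fwd₀_tmul]
    show bwdL₀ halg (s.1 ⊗ₜ[B'] pL φ) + bwdR₀ halg (s.2 ⊗ₜ[C'] pR φ) = s ⊗ₜ φ
    rw [bwdL₀_tmul, bwdR₀_tmul, iL_pL, iR_pR, ← smul_tmul, ← smul_tmul, smul_prod halg,
      smul_prod halg, ← add_tmul]
    congr 1
    apply Prod.ext
    · show (1 : B') • s.1 + (0 : B') • (0 : B) = s.1
      rw [one_smul, smul_zero, add_zero]
    · show (0 : C') • (0 : C) + (1 : C') • s.2 = s.2
      rw [one_smul, smul_zero, zero_add]
  | add x y hx hy =>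
    rw [map_add]
    show bwdL₀ halg ((fwd₀ halg x).1 + (fwd₀ halg y).1) +
      bwdR₀ halg ((fwd₀ halg x).2 + (fwd₀ halg y).2) = x + y
    rw [map_add, map_add]
    nth_rewrite 3 [← hx]
    nth_rewrite 3 [← hy]
    abel

include halg in
theorem main : ∃ e : QFDual.omega A (B' × C') (B × C) ≃ₗ[A]
      QFDual.omega A B' B × QFDual.omega A C' C,
    ∀ (b : B) (c : C) (φ : Disc.Omega A (B' × C')),
      e ((b, c) ⊗ₜ[B' × C'] φ) =
        (b ⊗ₜ[B'] Disc.Omega.mk (φ.toLinearMap ∘ₗ LinearMap.inl A B' C'),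
          c ⊗ₜ[C'] Disc.Omega.mk (φ.toLinearMap ∘ₗ LinearMap.inr A B' C')) := by
  have hsmul : ∀ (a : A) (x : (B × C) ⊗[B' × C'] Disc.Omega A (B' × C')),
      fwd₀ halg (a • x) = a • fwd₀ halg x := by
    intro a x
    induction x using TensorProduct.induction_on with
    | zero => rw [smul_zero, map_zero, smul_zero]
    | tmul s φ =>
      rw [smul_tmul', fwd₀_tmul, fwd₀_tmul]
      show ((a • s.1) ⊗ₜ[B'] pL φ, (a • s.2) ⊗ₜ[C'] pR φ) =
        (a • (s.1 ⊗ₜ[B'] pL φ), a • (s.2 ⊗ₜ[C'] pR φ))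
      rw [smul_tmul', smul_tmul']
    | add x y hx hy => rw [smul_add, map_add, map_add, hx, hy, smul_add]
  refine ⟨{ toFun := fwd₀ halg
            map_add' := map_add (fwd₀ halg)
            map_smul' := hsmul
            invFun := fun p => bwdL₀ halg p.1 + bwdR₀ halg p.2
            left_inv := bwd_fwd halg
            right_inv := fun p => ?_ }, fun b c φ => rfl⟩
  show fwd₀ halg (bwdL₀ halg p.1 + bwdR₀ halg p.2) = p
  rw [map_add, fwd_bwdL, fwd_bwdR]
  exact Prod.ext (add_zero _) (zero_add _)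

end Groth.Agent.Lib.OmegaProdDualH4
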