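import Mathlib
import Groth.Prelude
import Groth.Agent.Lib.OmegaSplit1_helper7
import Groth.Agent.Lib.UnivThickTrans2_helper7
import Groth.Agent.Lib.ConormDiff_helper4
import Groth.Agent.Lib.OmegaFSmooth_helper4

/-!
# The conormal / conormal / differentials sequence of a formally smooth morphism: sections
(helper7)

Sections over a good affine open of the sequence `C_{Z/Z''} → C_{Z/Z'} → (i')^* Ω_{Z'/Z''}` for the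
universal thickenings `Z'` of `Z → X` and `Z''` of `Z → X → Y` with `X → Y` formally smooth.
APPEND-ONLY once landed.
-/

set_option autoImplicit false
set_option linter.style.haveILetI false

universe u

open CategoryTheory CategoryTheory.Limits AlgebraicGeometry Opposite TopologicalSpace
open QcqsLoc QCohExtn

namespace Groth.Agent.Lib.OmegaSplitH7

open PBH8 Groth.Agent.Lib.RegSecIsoH7 Groth.Agent.Lib.ConormSeqH4 Groth.Agent.Lib.OmegaCompat2H4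
open Groth.Agent.Lib.ConormDiffH4 Groth.Agent.Lib.OmegaAffH4 Groth.Agent.Lib.ConormTransH7
open Groth.Agent.Lib.UnivThickTransH7 TensorProduct

theorem pullSect_id_smul {Z : Scheme.{u}} (F : Z.Modules) (O : Z.Opens) (c : Γ(Z, O))
    (y : Γ(F, O)) (z : Γ((Scheme.Modules.pullback (𝟙 Z)).obj F, O))
    (hz : z = OmegaSh.pullSect (𝟙 Z) F O y) :
    OmegaSh.pullSect (𝟙 Z) F O (c • y) = c • z := by
  subst hz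
  have h1 := PBH8.cUV_smul (𝟙 Z) F (le_refl ((𝟙 Z) ⁻¹ᵁ O)) c y
  rw [cUV_rfl, cUV_rfl] at h1
  have h2 : (((𝟙 Z : Z ⟶ Z).appLE O ((𝟙 Z) ⁻¹ᵁ O) (le_refl _)) c : Γ(Z, (𝟙 Z) ⁻¹ᵁ O)) = c := by
    have e1 : (𝟙 Z : Z ⟶ Z).appLE O ((𝟙 Z) ⁻¹ᵁ O) (le_refl _) = (𝟙 Z : Z ⟶ Z).app O :=
      Scheme.Hom.appLE_eq_app _
    rw [e1]
    rfl
  exact h1.trans (congrArg (fun t : Γ(Z, (𝟙 Z) ⁻¹ᵁ O) =>
    t • (OmegaSh.pullSect (𝟙 Z) F O y)) h2)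

set_option maxHeartbeats 6400000 in
theorem sections9786 {Z X Y Z' Z'' : Scheme.{u}} (i : Z ⟶ X) (p : X ⟶ Y)
    (hp : MoreMor.IsFormallySmoothHom p)
    (i' : Z ⟶ Z') (a : Z' ⟶ X) (hZ' : OmegaSh.IsUnivThickening i i' a)
    (b : Z'' ⟶ Y) (k : Z' ⟶ Z'') (hZ'' : OmegaSh.IsUnivThickening (i ≫ p) (i' ≫ k) b)
    (hk₂ : k ≫ b = a ≫ p)
    (Ω : Z'.Modules) (d : OmegaSh.Der k Ω) (hd : OmegaSh.IsUniversal d)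
    (ψ : (Scheme.Modules.pullback (𝟙 Z)).obj (Omega.conormal (i' ≫ k)) ⟶ Omega.conormal i')
    (hψ : OmegaSh.IsConormalMap i' (i' ≫ k) k (𝟙 Z) ψ)
    (φ : Omega.conormal i' ⟶ (Scheme.Modules.pullback i').obj Ω)
    (hφ : OmegaSh.IsConormalDiff i' d φ)
    {W'' : Z''.Opens} {T : Y.Opens} {V : X.Opens} (hW'' : IsAffineOpen W'')
    (hT : IsAffineOpen T) (hV : IsAffineOpen V) (hW''T : W'' ≤ b ⁻¹ᵁ T) (hVT : V ≤ p ⁻¹ᵁ T)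
    (hW'V : k ⁻¹ᵁ W'' ≤ a ⁻¹ᵁ V) (O : Z.Opens) (hOe : O = i' ⁻¹ᵁ (k ⁻¹ᵁ W'')) :
    (∀ x, φ.app O (ψ.app O x) = 0) ∧
    (∀ m, φ.app O m = 0 → ∃ x, ψ.app O x = m) ∧
    Function.Surjective (φ.app O) ∧
    ∃ R₀ : Γ(Omega.conormal i', O) →ₗ[Γ(Z, O)]
        Γ((Scheme.Modules.pullback (𝟙 Z)).obj (Omega.conormal (i' ≫ k)), O),
      ∀ x, R₀ (ψ.app O x) = x := by
  subst hOe
  haveI ci' : IsClosedImmersion i' := hZ'.1.1.1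
  haveI si' : Surjective i' := hZ'.1.1.2
  haveI ci'' : IsClosedImmersion (i' ≫ k) := hZ''.1.1.1
  have hia : i' ≫ a = i := hZ'.2.1
  have hib : (i' ≫ k) ≫ b = i ≫ p := hZ''.2.1
  have hO : IsAffineOpen (i' ⁻¹ᵁ (k ⁻¹ᵁ W'')) := hW''.preimage (i' ≫ k)
  have hW' : IsAffineOpen (k ⁻¹ᵁ W'') :=
    Groth.Agent.Lib.ThickAffH6.isAffineOpen_of_thickening i' (k ⁻¹ᵁ W'') hO
  -- inclusions
  have eOV : i' ⁻¹ᵁ (k ⁻¹ᵁ W'') ≤ i ⁻¹ᵁ V := by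
    intro z hz
    have hz' : i' z ∈ k ⁻¹ᵁ W'' := hz
    have h1 : a (i' z) ∈ V := hW'V hz'
    have h2 : a (i' z) = i z := congrArg (fun q : Z ⟶ X => q z) hia
    show i z ∈ V
    rw [← h2]
    exact h1
  have eOT : i' ⁻¹ᵁ (k ⁻¹ᵁ W'') ≤ (i ≫ p) ⁻¹ᵁ T := by
    intro z hz
    have hz' : (i' ≫ k) z ∈ W'' := hz
    have h1 : b ((i' ≫ k) z) ∈ T := hW''T hz'
    have h2 : b ((i' ≫ k) z) = (i ≫ p) z := congrArg (fun q : Z ⟶ Y => q z) hib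
    show (i ≫ p) z ∈ T
    rw [← h2]
    exact h1
  have e1 : k ⁻¹ᵁ W'' ≤ k ⁻¹ᵁ W'' := le_refl _
  have e2 : i' ⁻¹ᵁ (k ⁻¹ᵁ W'') ≤ i' ⁻¹ᵁ (k ⁻¹ᵁ W'') := le_refl _
  have e3 : i' ⁻¹ᵁ (k ⁻¹ᵁ W'') ≤ (i' ≫ k) ⁻¹ᵁ W'' := le_of_eq rfl
  -- rings
  letI aYX : Algebra Γ(Y, T) Γ(X, V) := (p.appLE T V hVT).hom.toAlgebra
  letI aXC : Algebra Γ(X, V) Γ(Z, i' ⁻¹ᵁ (k ⁻¹ᵁ W'')) :=
    (i.appLE V (i' ⁻¹ᵁ (k ⁻¹ᵁ W'')) eOV).hom.toAlgebra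
  letI aXA : Algebra Γ(X, V) Γ(Z', k ⁻¹ᵁ W'') := (a.appLE V (k ⁻¹ᵁ W'') hW'V).hom.toAlgebra
  letI aYC : Algebra Γ(Y, T) Γ(Z, i' ⁻¹ᵁ (k ⁻¹ᵁ W'')) :=
    ((i ≫ p).appLE T (i' ⁻¹ᵁ (k ⁻¹ᵁ W'')) eOT).hom.toAlgebra
  letI aYR : Algebra Γ(Y, T) Γ(Z'', W'') := (b.appLE T W'' hW''T).hom.toAlgebra
  haveI fs : Algebra.FormallySmooth Γ(Y, T) Γ(X, V) :=
    Groth.Agent.Lib.OmegaFSmoothH4.formallySmooth_appLE p hp hV hT hVT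
  obtain ⟨π', hπ', hA⟩ := ringUniv hZ' hW' hV hW'V (i' ⁻¹ᵁ (k ⁻¹ᵁ W'')) rfl eOV
  obtain ⟨π'', hπ'', hR⟩ := ringUniv hZ'' hW'' hT hW''T (i' ⁻¹ᵁ (k ⁻¹ᵁ W'')) rfl eOT
  have hYXC : ∀ y : Γ(Y, T), algebraMap Γ(X, V) Γ(Z, i' ⁻¹ᵁ (k ⁻¹ᵁ W''))
      (algebraMap Γ(Y, T) Γ(X, V) y) = algebraMap Γ(Y, T) Γ(Z, i' ⁻¹ᵁ (k ⁻¹ᵁ W'')) y :=
    fun y => appLE_triangle i p (i ≫ p) rfl hVT eOV eOT y
  have hκπ : ∀ r : Γ(Z'', W''), π' ((k.appLE W'' (k ⁻¹ᵁ W'') e1).hom r) = π'' r := fun r =>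
    (hπ' _).trans ((appLE_triangle i' k (i' ≫ k) rfl e1 e2 e3 r).trans (hπ'' r).symm)
  have hκY : ∀ y : Γ(Y, T), (k.appLE W'' (k ⁻¹ᵁ W'') e1).hom (algebraMap Γ(Y, T) Γ(Z'', W'') y) =
      algebraMap Γ(X, V) Γ(Z', k ⁻¹ᵁ W'') (algebraMap Γ(Y, T) Γ(X, V) y) := fun y =>
    appLE_square k b a p hk₂ hW''T e1 hVT hW'V y
  obtain ⟨ρ, hρ1, hρ2⟩ := ring9786 hA hR hYXC (k.appLE W'' (k ⁻¹ᵁ W'') e1).hom hκπ hκY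
  letI aRA : Algebra Γ(Z'', W'') Γ(Z', k ⁻¹ᵁ W'') :=
    (k.appLE W'' (k ⁻¹ᵁ W'') (le_refl _)).hom.toAlgebra
  letI aAC : Algebra Γ(Z', k ⁻¹ᵁ W'') Γ(Z, i' ⁻¹ᵁ (k ⁻¹ᵁ W'')) :=
    (i'.appLE (k ⁻¹ᵁ W'') (i' ⁻¹ᵁ (k ⁻¹ᵁ W'')) le_rfl).hom.toAlgebra
  letI mA : Module Γ(Z', k ⁻¹ᵁ W'') Γ(Omega.conormal i', i' ⁻¹ᵁ (k ⁻¹ᵁ W'')) :=
    Module.compHom _ (i'.appLE (k ⁻¹ᵁ W'') (i' ⁻¹ᵁ (k ⁻¹ᵁ W'')) le_rfl).hom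
  haveI tow : IsScalarTower Γ(Z', k ⁻¹ᵁ W'') Γ(Z, i' ⁻¹ᵁ (k ⁻¹ᵁ W''))
      Γ(Omega.conormal i', i' ⁻¹ᵁ (k ⁻¹ᵁ W'')) :=
    IsScalarTower.of_algebraMap_smul fun _ _ => rfl
  have hACπ : ∀ x : Γ(Z', k ⁻¹ᵁ W''),
      algebraMap Γ(Z', k ⁻¹ᵁ W'') Γ(Z, i' ⁻¹ᵁ (k ⁻¹ᵁ W'')) x = π' x := fun x => (hπ' x).symm
  have hsurjAC : Function.Surjective
      (algebraMap Γ(Z', k ⁻¹ᵁ W'') Γ(Z, i' ⁻¹ᵁ (k ⁻¹ᵁ W''))) := by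
    intro c
    obtain ⟨x, hx⟩ := hA.1 c
    exact ⟨x, (hACπ x).trans hx⟩
  have hkerEq : RingHom.ker (algebraMap Γ(Z', k ⁻¹ᵁ W'') Γ(Z, i' ⁻¹ᵁ (k ⁻¹ᵁ W''))) =
      RingHom.ker π'.toRingHom := by
    ext x
    rw [RingHom.mem_ker, RingHom.mem_ker]
    exact ⟨fun h => (hACπ x).symm.trans h, fun h => (hACπ x).trans h⟩
  have hI : RingHom.ker (algebraMap Γ(Z', k ⁻¹ᵁ W'') Γ(Z, i' ⁻¹ᵁ (k ⁻¹ᵁ W''))) ^ 2 = ⊥ := by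
    rw [hkerEq]
    exact hA.2.1
  have hρκ : ∀ r : Γ(Z'', W''), ρ (algebraMap Γ(Z'', W'') Γ(Z', k ⁻¹ᵁ W'') r) = r :=
    fun r => hρ1 r
  have hρπ : ∀ x : Γ(Z', k ⁻¹ᵁ W''),
      algebraMap Γ(Z', k ⁻¹ᵁ W'') Γ(Z, i' ⁻¹ᵁ (k ⁻¹ᵁ W''))
        (algebraMap Γ(Z'', W'') Γ(Z', k ⁻¹ᵁ W'') (ρ x)) =
      algebraMap Γ(Z', k ⁻¹ᵁ W'') Γ(Z, i' ⁻¹ᵁ (k ⁻¹ᵁ W'')) x := fun x =>
    (hACπ _).trans ((hκπ (ρ x)).trans ((hρ2 x).trans (hACπ x).symm))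
  obtain ⟨hE1, hS⟩ := ring_split hsurjAC hI ρ hρκ hρπ
  have hsurj0 : Function.Surjective (i'.app (k ⁻¹ᵁ W'')).hom :=
    i'.app_surjective (k ⁻¹ᵁ W'') hW'
  obtain ⟨L, Θ, E, hL, hE, hΘ, hmem, hex, hform⟩ :=
    conormalDiff_sections i' k Ω d hd φ hφ hW' hO hsurj0 hW'' (le_refl _)
  have hκapp : ∀ r : Γ(Z'', W''),
      (k.app W'').hom r = algebraMap Γ(Z'', W'') Γ(Z', k ⁻¹ᵁ W'') r := fun r =>
    congrArg (fun q => q.hom r) (Scheme.Hom.app_eq_appLE k)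
  have hπ''app : ∀ r : Γ(Z'', W''), π'' r = ((i' ≫ k).app W'').hom r := fun r =>
    (hπ'' r).trans (congrArg (fun q => q.hom r) (Scheme.Hom.app_eq_appLE (i' ≫ k))).symm
  -- `ρ` maps the ideal of `Z` in `Z'` into the ideal of `Z` in `Z''`
  have hρmem : ∀ s' : Γ(ClSub.idealMod i'.ker, k ⁻¹ᵁ W''),
      ρ (OmegaSh.idealSect i'.ker (k ⁻¹ᵁ W'') s') ∈ (i' ≫ k).ker.ideal ⟨W'', hW''⟩ := by
    intro s'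
    rw [mem_I_iff (i' ≫ k) hW'']
    have h4 : π'' (ρ (OmegaSh.idealSect i'.ker (k ⁻¹ᵁ W'') s')) = 0 :=
      (hρ2 _).trans ((hACπ _).symm.trans ((RingHom.mem_ker).mp (hmem s')))
    exact (hπ''app _).symm.trans h4
  -- the basic computation of `ψ`
  have K1 : ∀ s'' : Γ(ClSub.idealMod (i' ≫ k).ker, W''),
      ∃ s' : Γ(ClSub.idealMod i'.ker, k ⁻¹ᵁ W''),
        OmegaSh.idealSect i'.ker (k ⁻¹ᵁ W'') s' =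
          algebraMap Γ(Z'', W'') Γ(Z', k ⁻¹ᵁ W'')
            (OmegaSh.idealSect (i' ≫ k).ker W'' s'') ∧
        ψ.app (i' ⁻¹ᵁ (k ⁻¹ᵁ W'')) (OmegaSh.pullSect (𝟙 Z) (Omega.conormal (i' ≫ k))
          (i' ⁻¹ᵁ (k ⁻¹ᵁ W'')) (cY (i' ≫ k) W'' s'')) = cJ i' (k ⁻¹ᵁ W'') s' := by
    intro s''
    have h0 : ((i' ≫ k).app W'').hom (OmegaSh.idealSect (i' ≫ k).ker W'' s'') = 0 :=
      (mem_I_iff (i' ≫ k) hW'' _).mp (TensH8.idealModι_mem (i' ≫ k).ker hW'' s'')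
    have h1 : (k.app W'').hom (OmegaSh.idealSect (i' ≫ k).ker W'' s'') ∈
        i'.ker.ideal ⟨k ⁻¹ᵁ W'', hW'⟩ := by
      rw [mem_I_iff i' hW', ← comp_app_apply k i' W'' _]
      exact h0
    obtain ⟨s', hs'⟩ := TensH8.exists_idealMod_section i'.ker hW' _ h1
    have hs'' : OmegaSh.idealSect i'.ker (k ⁻¹ᵁ W'') s' =
        (k.app W'').hom (OmegaSh.idealSect (i' ≫ k).ker W'' s'') := hs'
    exact ⟨s', hs''.trans (hκapp _), psi2F i' k ψ hψ W'' s'' s' hs''⟩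
  -- the basic computation of `φ`
  have hφcJ : ∀ s' : Γ(ClSub.idealMod i'.ker, k ⁻¹ᵁ W''),
      φ.app (i' ⁻¹ᵁ (k ⁻¹ᵁ W'')) (cJ i' (k ⁻¹ᵁ W'') s') =
        E ((1 : Γ(Z, i' ⁻¹ᵁ (k ⁻¹ᵁ W''))) ⊗ₜ[Γ(Z', k ⁻¹ᵁ W'')]
          KaehlerDifferential.D Γ(Z'', W'') Γ(Z', k ⁻¹ᵁ W'')
            (OmegaSh.idealSect i'.ker (k ⁻¹ᵁ W'') s')) := by
    intro s'
    have h1 := hform (cJ i' (k ⁻¹ᵁ W'') s')
    have h2 : Θ (cJ i' (k ⁻¹ᵁ W'') s') =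
        Ideal.toCotangent _ ⟨OmegaSh.idealSect i'.ker (k ⁻¹ᵁ W'') s', hmem s'⟩ :=
      hΘ s' (hmem s')
    exact h1.trans (congrArg (fun t => E (KaehlerDifferential.kerCotangentToTensor
      Γ(Z'', W'') Γ(Z', k ⁻¹ᵁ W'') Γ(Z, i' ⁻¹ᵁ (k ⁻¹ᵁ W'')) t)) h2)
  refine ⟨?_, ?_, ?_, ?_⟩
  · -- the composite vanishes
    intro x
    obtain ⟨y, rfl⟩ := (pullSect_id_bijective (Omega.conormal (i' ≫ k))
      (i' ⁻¹ᵁ (k ⁻¹ᵁ W''))).2 x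
    obtain ⟨s'', rfl⟩ := cY_surj (i' ≫ k) hW'' y
    obtain ⟨s', hs', hψs⟩ := K1 s''
    rw [hψs, hφcJ, hs', Derivation.map_algebraMap, TensorProduct.tmul_zero, map_zero]
  · -- exactness
    intro m hm
    obtain ⟨s', rfl⟩ := cJ_surj i' hW' m
    rw [hφcJ] at hm
    have h1 : (1 : Γ(Z, i' ⁻¹ᵁ (k ⁻¹ᵁ W''))) ⊗ₜ[Γ(Z', k ⁻¹ᵁ W'')]
        KaehlerDifferential.D Γ(Z'', W'') Γ(Z', k ⁻¹ᵁ W'')
          (OmegaSh.idealSect i'.ker (k ⁻¹ᵁ W'') s') = 0 :=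
      E.injective (hm.trans (map_zero E).symm)
    have h2 : OmegaSh.idealSect i'.ker (k ⁻¹ᵁ W'') s' =
        algebraMap Γ(Z'', W'') Γ(Z', k ⁻¹ᵁ W'')
          (ρ (OmegaSh.idealSect i'.ker (k ⁻¹ᵁ W'') s')) :=
      hE1 ⟨OmegaSh.idealSect i'.ker (k ⁻¹ᵁ W'') s', hmem s'⟩ h1
    obtain ⟨s'', hs''⟩ := TensH8.exists_idealMod_section (i' ≫ k).ker hW'' _ (hρmem s')
    have hs''' : OmegaSh.idealSect (i' ≫ k).ker W'' s'' =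
        ρ (OmegaSh.idealSect i'.ker (k ⁻¹ᵁ W'') s') := hs''
    refine ⟨OmegaSh.pullSect (𝟙 Z) (Omega.conormal (i' ≫ k)) (i' ⁻¹ᵁ (k ⁻¹ᵁ W''))
      (cY (i' ≫ k) W'' s''), ?_⟩
    refine psi2F i' k ψ hψ W'' s'' s' ?_
    rw [hs''', hκapp]
    exact h2
  · -- surjectivity of `φ`
    intro y
    obtain ⟨t, rfl⟩ := E.surjective y
    obtain ⟨m₀, rfl⟩ := hS t
    obtain ⟨m, rfl⟩ := Θ.surjective m₀
    exact ⟨m, hform m⟩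
  · -- the retraction
    haveI qc1 : (ClSub.idealMod i'.ker).IsQuasicoherent := isQuasicoherent_idealMod _
    letI mA' : Module Γ(Z', k ⁻¹ᵁ W'')
        Γ((Scheme.Modules.pullback i').obj (ClSub.idealMod i'.ker), i' ⁻¹ᵁ (k ⁻¹ᵁ W'')) :=
      Module.compHom _ (i'.appLE (k ⁻¹ᵁ W'') (i' ⁻¹ᵁ (k ⁻¹ᵁ W'')) le_rfl).hom
    haveI tow' : IsScalarTower Γ(Z', k ⁻¹ᵁ W'') Γ(Z, i' ⁻¹ᵁ (k ⁻¹ᵁ W''))
        Γ((Scheme.Modules.pullback i').obj (ClSub.idealMod i'.ker), i' ⁻¹ᵁ (k ⁻¹ᵁ W'')) :=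
      IsScalarTower.of_algebraMap_smul fun _ _ => rfl
    have hbc : IsBaseChange Γ(Z, i' ⁻¹ᵁ (k ⁻¹ᵁ W''))
        (PBH8.cUVLin i' (ClSub.idealMod i'.ker) (le_refl (i' ⁻¹ᵁ (k ⁻¹ᵁ W'')))) :=
      PBH8.isBaseChange_cUV i' (ClSub.idealMod i'.ker) (le_refl _) hO hW'
    let c₂ : Γ(ClSub.idealMod (i' ≫ k).ker, W'') →+
        Γ((Scheme.Modules.pullback (𝟙 Z)).obj (Omega.conormal (i' ≫ k)),
          i' ⁻¹ᵁ (k ⁻¹ᵁ W'')) :=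
      AddMonoidHom.mk' (fun n => OmegaSh.pullSect (𝟙 Z) (Omega.conormal (i' ≫ k))
          (i' ⁻¹ᵁ (k ⁻¹ᵁ W'')) (cY (i' ≫ k) W'' n))
        (fun n₁ n₂ => by
          rw [cY_add]
          exact map_add (OmegaSh.pullSect (𝟙 Z) (Omega.conormal (i' ≫ k))
            (i' ⁻¹ᵁ (k ⁻¹ᵁ W''))).hom _ _)
    have hc₂ : ∀ (r : Γ(Z'', W'')) (n : Γ(ClSub.idealMod (i' ≫ k).ker, W'')),
        c₂ (r • n) = π''.toRingHom r • c₂ n := by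
      intro r n
      have q1 : cY (i' ≫ k) W'' (r • n) =
          ((i' ≫ k).app W'').hom r • cY (i' ≫ k) W'' n := cY_smul (i' ≫ k) W'' r n
      have q2 := pullSect_id_smul (Omega.conormal (i' ≫ k)) ((i' ≫ k) ⁻¹ᵁ W'')
        (((i' ≫ k).app W'').hom r) (cY (i' ≫ k) W'' n) _ rfl
      have q3 : π''.toRingHom r = ((i' ≫ k).app W'').hom r := hπ''app r
      rw [q3]
      show OmegaSh.pullSect (𝟙 Z) (Omega.conormal (i' ≫ k)) _ (cY (i' ≫ k) W'' (r • n)) = _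
      rw [q1]
      exact q2
    have H : ∀ n₁ : Γ(ClSub.idealMod i'.ker, k ⁻¹ᵁ W''),
        ∃ n₂ : Γ(ClSub.idealMod (i' ≫ k).ker, W''),
          OmegaSh.idealSect (i' ≫ k).ker W'' n₂ =
            ρ (OmegaSh.idealSect i'.ker (k ⁻¹ᵁ W'') n₁) := by
      intro n₁
      exact TensH8.exists_idealMod_section (i' ≫ k).ker hW'' _ (hρmem n₁)
    obtain ⟨R₀, hR₀⟩ := exists_retraction ρ π''.toRingHom
      (fun x => (hρ2 x).trans (hACπ x).symm)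
      (PBH8.cUVLin i' (ClSub.idealMod i'.ker) (le_refl (i' ⁻¹ᵁ (k ⁻¹ᵁ W'')))) hbc
      (OmegaSh.idealSect i'.ker (k ⁻¹ᵁ W''))
      (fun x n => TensH8.idealModι_smul i'.ker x n)
      (OmegaSh.idealSect (i' ≫ k).ker W'')
      (fun r n => TensH8.idealModι_smul (i' ≫ k).ker r n)
      (fun s t h => TensH8.idealModι_injective (i' ≫ k).ker W'' h) c₂ hc₂ H
    refine ⟨R₀, fun x => ?_⟩
    obtain ⟨y, rfl⟩ := (pullSect_id_bijective (Omega.conormal (i' ≫ k))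
      (i' ⁻¹ᵁ (k ⁻¹ᵁ W''))).2 x
    obtain ⟨s'', rfl⟩ := cY_surj (i' ≫ k) hW'' y
    obtain ⟨s', hs', hψs⟩ := K1 s''
    rw [hψs]
    have h5 : OmegaSh.idealSect (i' ≫ k).ker W'' s'' =
        ρ (OmegaSh.idealSect i'.ker (k ⁻¹ᵁ W'') s') := by
      rw [hs', hρκ]
    exact hR₀ s' s'' h5

end Groth.Agent.Lib.OmegaSplitH7
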