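import Mathlib
import Groth.Prelude
import Groth.Agent.Lib.OmegaSplit2_helper7
import Groth.Agent.Lib.LimHomGlue_helper2
import Groth.Agent.Lib.FCompl1_helper8
import Groth.Agent.Lib.UnivThickSch1_helper7

/-!
# The conormal / conormal / differentials sequence of a formally smooth morphism (helper7)

`0 → C_{Z/Z''} → C_{Z/Z'} → (i')^* Ω_{Z'/Z''} → 0` is short exact and locally split, for the
universal thickenings `Z'` of `Z → X` and `Z''` of `Z → X → Y` with `X → Y` formally smooth.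
APPEND-ONLY once landed.
-/

set_option autoImplicit false
set_option linter.style.haveILetI false

universe u

open CategoryTheory CategoryTheory.Limits AlgebraicGeometry Opposite TopologicalSpace
open QcqsLoc QCohExtn

namespace Groth.Agent.Lib.OmegaSplitH7

open PBH8 Groth.Agent.Lib.ConormSeqH4 Groth.Agent.Lib.OmegaCompat2H4
open Groth.Agent.Lib.ConormDiffH4 Groth.Agent.Lib.OmegaAffH4 Groth.Agent.Lib.ConormTransH7
open Groth.Agent.Lib.UnivThickTransH7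

section Restrict

/-- A linear retraction on the sections over an affine open `U` of a morphism of quasi-coherent
modules gives a retraction of the restriction to `U`. -/
theorem exists_retraction_restrict {X : Scheme.{u}} (M N : X.Modules) [M.IsQuasicoherent]
    [N.IsQuasicoherent] (ψ : N ⟶ M) (U : X.Opens) (hU : IsAffineOpen U) (O : X.Opens)
    (hO : O = U.ι ''ᵁ ⊤) (R₀ : Γ(M, O) →ₗ[Γ(X, O)] Γ(N, O))
    (hR₀ : ∀ x, R₀ (ψ.app O x) = x) :
    ∃ r : (Scheme.Modules.restrictFunctor U.ι).obj M ⟶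
        (Scheme.Modules.restrictFunctor U.ι).obj N,
      (Scheme.Modules.restrictFunctor U.ι).map ψ ≫ r = 𝟙 _ := by
  subst hO
  haveI hUa : IsAffine (U : Scheme.{u}) := hU
  let r₀ : Γ((Scheme.Modules.restrictFunctor U.ι).obj M, (⊤ : (U : Scheme.{u}).Opens))
      →ₗ[Γ((U : Scheme.{u}), (⊤ : (U : Scheme.{u}).Opens))]
      Γ((Scheme.Modules.restrictFunctor U.ι).obj N, (⊤ : (U : Scheme.{u}).Opens)) :=
    { toFun := fun m => R₀ m
      map_add' := fun x y => R₀.map_add x y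
      map_smul' := fun c m => R₀.map_smul ((U.ι.appIso ⊤).inv.hom c) m }
  have hr₀ : ∀ m, r₀ m = R₀ m := fun _ => rfl
  have hrfM : ∀ s : Γ((Scheme.Modules.restrictFunctor U.ι).obj M,
      (⊤ : (U : Scheme.{u}).Opens)),
      rF ((Scheme.Modules.restrictFunctor U.ι).obj M)
        (le_refl (⊤ : (U : Scheme.{u}).Opens)) s = s :=
    fun s => map_homOfLE_rfl _ _ s
  have hrfN : ∀ s : Γ((Scheme.Modules.restrictFunctor U.ι).obj N,
      (⊤ : (U : Scheme.{u}).Opens)),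
      rF ((Scheme.Modules.restrictFunctor U.ι).obj N)
        (le_refl (⊤ : (U : Scheme.{u}).Opens)) s = s :=
    fun s => map_homOfLE_rfl _ _ s
  obtain ⟨r, hr⟩ := Groth.Agent.Lib.LimMod.exists_hom_of_charts
    ((Scheme.Modules.restrictFunctor U.ι).obj M) ((Scheme.Modules.restrictFunctor U.ι).obj N)
    (fun _ : Unit => (⊤ : (U : Scheme.{u}).Opens)) (fun _ => isAffineOpen_top _)
    (fun _ => r₀) (fun _ => True) (fun x => ⟨(), trivial, trivial⟩)
    (fun _ _ _ _ x _ _ => ⟨(), trivial, le_refl _, le_refl _,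
      fun s => (congrArg r₀ (hrfM s)).trans (hrfN (r₀ s)).symm,
      fun s => (congrArg r₀ (hrfM s)).trans (hrfN (r₀ s)).symm⟩)
  have hr' : ∀ s : Γ((Scheme.Modules.restrictFunctor U.ι).obj M,
      (⊤ : (U : Scheme.{u}).Opens)), r.app ⊤ s = r₀ s := fun s => hr () trivial s
  refine ⟨r, ?_⟩
  have hu : (Scheme.Modules.restrictFunctor U.ι).map ψ ≫ r - 𝟙 _ = 0 := by
    refine hom_eq_zero_of_basis (fun _ => True) (fun O z hz => ⟨O, trivial, hz, le_refl _⟩) _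
      (fun W _ y => ?_)
    have hs : ∀ m : Γ((Scheme.Modules.restrictFunctor U.ι).obj N,
        (⊤ : (U : Scheme.{u}).Opens)),
        (1 : Γ((U : Scheme.{u}), (⊤ : (U : Scheme.{u}).Opens))) •
          ap ((Scheme.Modules.restrictFunctor U.ι).map ψ ≫ r - 𝟙 _) ⊤ m = 0 := by
      intro m
      rw [one_smul]
      show r.app ⊤ (((Scheme.Modules.restrictFunctor U.ι).map ψ).app ⊤ m) - m = 0
      rw [hr', hr₀]
      exact sub_eq_zero.mpr (hR₀ m)
    have h1 : (U : Scheme.{u}).basicOpen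
        (1 : Γ((U : Scheme.{u}), (⊤ : (U : Scheme.{u}).Opens))) = ⊤ :=
      Scheme.basicOpen_of_isUnit _ isUnit_one
    exact FComplH8.ap_eq_zero_of_le_basicOpen _ (isAffineOpen_top _) 1 hs W
      (by rw [h1]; exact le_top) y
  exact sub_eq_zero.mp hu

end Restrict

section Main

set_option maxHeartbeats 3200000 in
theorem main9786 {Z X Y Z' Z'' : Scheme.{u}} (i : Z ⟶ X) (p : X ⟶ Y)
    (hp : MoreMor.IsFormallySmoothHom p)
    (i' : Z ⟶ Z') (a : Z' ⟶ X) (hZ' : OmegaSh.IsUnivThickening i i' a)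
    (i'' : Z ⟶ Z'') (b : Z'' ⟶ Y) (hZ'' : OmegaSh.IsUnivThickening (i ≫ p) i'' b)
    (k : Z' ⟶ Z'') (hk₁ : i' ≫ k = i'') (hk₂ : k ≫ b = a ≫ p)
    (Ω : Z'.Modules) (d : OmegaSh.Der k Ω) (hd : OmegaSh.IsUniversal d)
    (ψ : (Scheme.Modules.pullback (𝟙 Z)).obj (Omega.conormal i'') ⟶ Omega.conormal i')
    (hψ : OmegaSh.IsConormalMap i' i'' k (𝟙 Z) ψ)
    (φ : Omega.conormal i' ⟶ (Scheme.Modules.pullback i').obj Ω)
    (hφ : OmegaSh.IsConormalDiff i' d φ) :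
    ∃ w : ψ ≫ φ = 0, (ShortComplex.mk ψ φ w).ShortExact ∧
      ∀ z : Z, ∃ (U : Z.Opens)
        (r : (Scheme.Modules.restrictFunctor U.ι).obj (Omega.conormal i') ⟶
          (Scheme.Modules.restrictFunctor U.ι).obj
            ((Scheme.Modules.pullback (𝟙 Z)).obj (Omega.conormal i''))),
        z ∈ U ∧ (Scheme.Modules.restrictFunctor U.ι).map ψ ≫ r = 𝟙 _ := by
  subst hk₁
  haveI ci' : IsClosedImmersion i' := hZ'.1.1.1
  haveI si' : Surjective i' := hZ'.1.1.2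
  haveI ci'' : IsClosedImmersion (i' ≫ k) := hZ''.1.1.1
  let P : Z.Opens → Prop := fun O => ∃ (W'' : Z''.Opens) (T : Y.Opens) (V : X.Opens),
    IsAffineOpen W'' ∧ IsAffineOpen T ∧ IsAffineOpen V ∧ W'' ≤ b ⁻¹ᵁ T ∧ V ≤ p ⁻¹ᵁ T ∧
      k ⁻¹ᵁ W'' ≤ a ⁻¹ᵁ V ∧ O = i' ⁻¹ᵁ (k ⁻¹ᵁ W'')
  have hP : ∀ (O : Z.Opens) (z : Z), z ∈ O → ∃ W : Z.Opens, P W ∧ z ∈ W ∧ W ≤ O := by
    intro O z hz
    obtain ⟨O'', hO''⟩ :=
      Groth.Agent.Lib.UnivThickSch1_helper7.exists_opens_preimage_eq (i' ≫ k) hZ''.1 O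
    obtain ⟨_, ⟨T, hT : IsAffineOpen T, rfl⟩, hzT, -⟩ :=
      Y.isBasis_affineOpens.exists_subset_of_mem_open
        (Set.mem_univ (b ((i' ≫ k) z))) isOpen_univ
    have hpz : p (a (i' z)) = b ((i' ≫ k) z) := by
      have h1 : (i' ≫ (k ≫ b)) z = (i' ≫ (a ≫ p)) z := by rw [hk₂]
      exact h1.symm
    have hzV0 : a (i' z) ∈ p ⁻¹ᵁ T := by
      show p (a (i' z)) ∈ T
      rw [hpz]
      exact hzT
    obtain ⟨_, ⟨V, hV : IsAffineOpen V, rfl⟩, hzV, hVle⟩ :=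
      X.isBasis_affineOpens.exists_subset_of_mem_open hzV0 (p ⁻¹ᵁ T).isOpen
    obtain ⟨Q'', hQ''⟩ :=
      Groth.Agent.Lib.UnivThickSch1_helper7.exists_opens_preimage_eq (i' ≫ k) hZ''.1
        (i' ⁻¹ᵁ (a ⁻¹ᵁ V))
    have hzW0 : (i' ≫ k) z ∈ O'' ⊓ b ⁻¹ᵁ T ⊓ Q'' := by
      refine ⟨⟨?_, hzT⟩, ?_⟩
      · have h1 : z ∈ (i' ≫ k) ⁻¹ᵁ O'' := by
          rw [hO'']
          exact hz
        exact h1
      · have h1 : z ∈ (i' ≫ k) ⁻¹ᵁ Q'' := by
          rw [hQ'']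
          exact hzV
        exact h1
    obtain ⟨_, ⟨W'', hW'' : IsAffineOpen W'', rfl⟩, hzW'', hW''le⟩ :=
      Z''.isBasis_affineOpens.exists_subset_of_mem_open hzW0 (O'' ⊓ b ⁻¹ᵁ T ⊓ Q'').isOpen
    refine ⟨i' ⁻¹ᵁ (k ⁻¹ᵁ W''), ⟨W'', T, V, hW'', hT, hV, fun x hx => (hW''le hx).1.2, hVle,
      ?_, rfl⟩, hzW'', ?_⟩
    · intro z' hz'
      obtain ⟨z₀, rfl⟩ := i'.surjective z'
      have h1 : (i' ≫ k) z₀ ∈ Q'' := (hW''le hz').2
      have h2 : z₀ ∈ (i' ≫ k) ⁻¹ᵁ Q'' := h1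
      rw [hQ''] at h2
      exact h2
    · intro x hx
      have h1 : (i' ≫ k) x ∈ O'' := (hW''le hx).1.1
      have h2 : x ∈ (i' ≫ k) ⁻¹ᵁ O'' := h1
      rw [hO''] at h2
      exact h2
  have hsec : ∀ W, P W →
      (∀ x, φ.app W (ψ.app W x) = 0) ∧
      (∀ m, φ.app W m = 0 → ∃ x, ψ.app W x = m) ∧
      Function.Surjective (φ.app W) ∧
      ∃ R₀ : Γ(Omega.conormal i', W) →ₗ[Γ(Z, W)]
          Γ((Scheme.Modules.pullback (𝟙 Z)).obj (Omega.conormal (i' ≫ k)), W),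
        ∀ x, R₀ (ψ.app W x) = x := by
    rintro W ⟨W'', T, V, hW'', hT, hV, h1, h2, h3, rfl⟩
    exact sections9786 i p hp i' a hZ' b k hZ'' hk₂ Ω d hd ψ hψ φ hφ hW'' hT hV h1 h2 h3 _ rfl
  have hPaff : ∀ W, P W → IsAffineOpen W := by
    rintro W ⟨W'', T, V, hW'', -, -, -, -, -, rfl⟩
    exact hW''.preimage (i' ≫ k)
  have w : ψ ≫ φ = 0 := hom_eq_zero_of_basis P hP _ (fun W hW s => (hsec W hW).1 s)
  have hinj : ∀ W, P W → Function.Injective (ψ.app W) := by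
    intro W hW x₁ x₂ h
    obtain ⟨R₀, hR₀⟩ := (hsec W hW).2.2.2
    exact (hR₀ x₁).symm.trans ((congrArg R₀ h).trans (hR₀ x₂))
  refine ⟨w, ShortComplex.ShortExact.mk'
    (exact_of_basis P hP ψ φ w (fun W hW m hm => (hsec W hW).2.1 m hm))
    (mono_of_injective_basis ψ P hP hinj)
    (epi_of_surjective_basis φ P hP (fun W hW => (hsec W hW).2.2.1)), ?_⟩
  intro z
  obtain ⟨U, hPU, hzU, -⟩ := hP ⊤ z trivial
  have hUaff : IsAffineOpen U := hPaff U hPU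
  obtain ⟨R₀, hR₀⟩ := (hsec U hPU).2.2.2
  haveI q1 : (ClSub.idealMod i'.ker).IsQuasicoherent := isQuasicoherent_idealMod _
  haveI q2 : (ClSub.idealMod (i' ≫ k).ker).IsQuasicoherent := isQuasicoherent_idealMod _
  haveI q3 : (Omega.conormal i').IsQuasicoherent := by
    unfold Omega.conormal
    infer_instance
  haveI q4 : (Omega.conormal (i' ≫ k)).IsQuasicoherent := by
    unfold Omega.conormal
    infer_instance
  haveI q5 : ((Scheme.Modules.pullback (𝟙 Z)).obj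
      (Omega.conormal (i' ≫ k))).IsQuasicoherent := inferInstance
  obtain ⟨r, hr⟩ := exists_retraction_restrict (Omega.conormal i')
    ((Scheme.Modules.pullback (𝟙 Z)).obj (Omega.conormal (i' ≫ k))) ψ U hUaff U
    (Scheme.Opens.ι_image_top U).symm R₀ hR₀
  exact ⟨U, r, hzU, hr⟩

end Main

end Groth.Agent.Lib.OmegaSplitH7
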