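import Mathlib
import Groth.Prelude
import Groth.Agent.Lib.OneDim2_helper9

/-!
# Two sections from charts (helper9).  APPEND-ONLY once landed.

`OneDimG9.exists_invertible_two_sections_of_charts`: the chart construction of
`OneDim9.exists_invertible_section_of_charts` with a second global section.
-/

set_option autoImplicit false
universe u
open CategoryTheory CategoryTheory.Limits AlgebraicGeometry Opposite TopologicalSpace

namespace OneDimG9

open QcqsLoc QCohExtn GenLocH8 TensH8 Groth.Agent.CocycMod OneDim9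

section Part1

variable {X : Scheme.{u}} (U : X.Opens)

/-- from charts `V x ∋ x` meeting the complement of `U` at most in `x`, with functions `f x` such
that `V x ∩ U = D(f x)`, and a second family of functions `g x` with `g i * f j = g j * f i` on the
overlaps, one gets an invertible module with a section whose non-vanishing locus is `U` and a
second section whose non-vanishing locus meets `V z` in `D(g z)` -/
theorem exists_invertible_two_sections_of_charts (V : X → X.Opens) (f g : ∀ x, Γ(X, V x))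
    (hxV : ∀ x, x ∈ V x) (hbo : ∀ x, X.basicOpen (f x) = V x ⊓ U)
    (hpt : ∀ x, ∀ y ∈ V x, y ∉ U → y = x)
    (hfg : ∀ i j, rX (inf_le_left : V i ⊓ V j ≤ V i) (g i) *
        rX (inf_le_right : V i ⊓ V j ≤ V j) (f j) =
      rX (inf_le_right : V i ⊓ V j ≤ V j) (g j) * rX (inf_le_left : V i ⊓ V j ≤ V i) (f i)) :
    ∃ (L : X.Modules) (s t : Coh.structureModule X ⟶ L),
      PicF.IsInvertible L ∧ CohB1.genLocus L s = U ∧
      ∀ z, CohB1.genLocus L t ⊓ V z = X.basicOpen (g z) := by
  classical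
  have hdisj : ∀ i j, i ≠ j → V i ⊓ V j ≤ U := by
    intro i j hij z hz
    by_contra hzU
    exact hij ((hpt i z hz.1 hzU).symm.trans (hpt j z hz.2 hzU))
  have hunit : ∀ i (W : X.Opens) (hW : W ≤ V i), W ≤ U → IsUnit (rX hW (f i)) := by
    intro i W hW hWU
    have hle : W ≤ X.basicOpen (f i) := by rw [hbo]; exact le_inf hW hWU
    have h1 : IsUnit (rX (X.basicOpen_le (f i)) (f i)) :=
      X.toRingedSpace.isUnit_res_basicOpen (f i)
    have h2 : rX hW (f i) = rX hle (rX (X.basicOpen_le (f i)) (f i)) := (rX_rX _ _ _).symm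
    rw [h2]
    exact h1.map _
  let η₀ : ∀ i j, Γ(X, V i ⊓ V j) := fun i j =>
    if h : i = j then 1
    else rX (inf_le_right : V i ⊓ V j ≤ V j) (f j) *
      Ring.inverse (rX (inf_le_left : V i ⊓ V j ≤ V i) (f i))
  have hkey : ∀ i j, η₀ i j * rX (inf_le_left : V i ⊓ V j ≤ V i) (f i) =
      rX (inf_le_right : V i ⊓ V j ≤ V j) (f j) := by
    intro i j
    by_cases h : i = j
    · subst h
      simp only [η₀, dif_pos rfl, one_mul]
    · simp only [η₀, dif_neg h]
      rw [mul_assoc, Ring.inverse_mul_cancel _ (hunit i _ inf_le_left (hdisj i j h)), mul_one]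
  have hη₀u : ∀ i j, IsUnit (η₀ i j) := by
    intro i j
    by_cases h : i = j
    · simp only [η₀, dif_pos h]
      exact isUnit_one
    · simp only [η₀, dif_neg h]
      exact (hunit j _ inf_le_right (hdisj i j h)).mul
        (IsUnit.ringInverse (hunit i _ inf_le_left (hdisj i j h)))
  let η : ∀ i j, (Γ(X, V i ⊓ V j))ˣ := fun i j => (hη₀u i j).unit
  have hηval : ∀ i j, (η i j : Γ(X, V i ⊓ V j)) = η₀ i j := fun i j => IsUnit.unit_spec _
  have hcoc : Cocycle V η := by
    intro i j k
    show rX _ (η i k : Γ(X, V i ⊓ V k)) = rX _ (η i j : Γ(X, V i ⊓ V j)) *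
      rX _ (η j k : Γ(X, V j ⊓ V k))
    rw [hηval, hηval, hηval]
    by_cases hall : i = j ∧ j = k
    · obtain ⟨rfl, rfl⟩ := hall
      simp only [η₀, dif_pos rfl, map_one, mul_one]
    · have hT : V i ⊓ V j ⊓ V k ≤ U := by
        by_cases hij : i = j
        · have hjk : j ≠ k := fun h => hall ⟨hij, h⟩
          exact (inf_le_inf_right (V k) inf_le_right).trans (hdisj j k hjk)
        · exact inf_le_left.trans (hdisj i j hij)
      have hu := hunit i (V i ⊓ V j ⊓ V k) (inf_le_left.trans inf_le_left) hT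
      apply hu.mul_right_cancel
      have e1 := congrArg (rX (inf_le_inf_right (V k) inf_le_left :
        V i ⊓ V j ⊓ V k ≤ V i ⊓ V k)) (hkey i k)
      have e2 := congrArg (rX (inf_le_left : V i ⊓ V j ⊓ V k ≤ V i ⊓ V j)) (hkey i j)
      have e3 := congrArg (rX (inf_le_inf_right (V k) inf_le_right :
        V i ⊓ V j ⊓ V k ≤ V j ⊓ V k)) (hkey j k)
      rw [map_mul, rX_rX, rX_rX] at e1 e2 e3
      rw [e1, mul_comm (rX _ (η₀ i j)), mul_assoc, e2, e3]
  have hsup : iSup V = ⊤ := top_le_iff.mp (fun x _ => Opens.mem_iSup.mpr ⟨x, hxV x⟩)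
  have hL : PicF.IsInvertible (Groth.Agent.CocycMod.L V η id hxV hcoc) :=
    isInvertible_L V η id hxV hcoc hsup
  have hσ : ∀ i j, rF (Groth.Agent.CocycMod.L V η id hxV hcoc) (inf_le_left : V i ⊓ V j ≤ V i)
      (f i • sec V η id hxV hcoc i) =
      rF (Groth.Agent.CocycMod.L V η id hxV hcoc) (inf_le_right : V i ⊓ V j ≤ V j)
      (f j • sec V η id hxV hcoc j) := by
    intro i j
    rw [rF_smul, rF_smul, rF_sec V η id hxV hcoc i j, ← mul_smul, hηval, mul_comm, hkey]
  obtain ⟨τ, hτ⟩ := TensH8.glue (Groth.Agent.CocycMod.L V η id hxV hcoc) V ⊤ (fun _ => le_top)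
    (by rw [hsup]) (fun i => f i • sec V η id hxV hcoc i) hσ
  have hσ' : ∀ i j, rF (Groth.Agent.CocycMod.L V η id hxV hcoc) (inf_le_left : V i ⊓ V j ≤ V i)
      (g i • sec V η id hxV hcoc i) =
      rF (Groth.Agent.CocycMod.L V η id hxV hcoc) (inf_le_right : V i ⊓ V j ≤ V j)
      (g j • sec V η id hxV hcoc j) := by
    intro i j
    rw [rF_smul, rF_smul, rF_sec V η id hxV hcoc i j, ← mul_smul, hηval]
    congr 1
    by_cases h : i = j
    · subst h
      simp only [η₀, dif_pos rfl, mul_one]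
    · have hu := hunit i _ (inf_le_left : V i ⊓ V j ≤ V i) (hdisj i j h)
      apply hu.mul_right_cancel
      rw [mul_assoc, hkey, hfg]
  obtain ⟨τ', hτ'⟩ := TensH8.glue (Groth.Agent.CocycMod.L V η id hxV hcoc) V ⊤ (fun _ => le_top)
    (by rw [hsup]) (fun i => g i • sec V η id hxV hcoc i) hσ'
  refine ⟨Groth.Agent.CocycMod.L V η id hxV hcoc, homOfSec _ τ, homOfSec _ τ', hL, ?_,
    fun z => genLocus_inf_eq (homOfSec _ τ') (isGen_sec V η id hxV hcoc z) (g z)
      (by rw [val_homOfSec, hτ'])⟩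
  have h1 : ∀ z, CohB1.genLocus _ (homOfSec (Groth.Agent.CocycMod.L V η id hxV hcoc) τ) ⊓ V z =
      X.basicOpen (f z) := fun z =>
    genLocus_inf_eq (homOfSec _ τ) (isGen_sec V η id hxV hcoc z) (f z)
      (by rw [val_homOfSec, hτ])
  apply le_antisymm
  · intro z hz
    have : z ∈ CohB1.genLocus _ (homOfSec (Groth.Agent.CocycMod.L V η id hxV hcoc) τ) ⊓ V z := ⟨hz, hxV z⟩
    rw [h1, hbo] at this
    exact this.2
  · intro z hz
    have : z ∈ X.basicOpen (f z) := by rw [hbo]; exact ⟨hxV z, hz⟩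
    rw [← h1] at this
    exact this.1

end Part1

end OneDimG9
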