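import Mathlib
import Groth.Agent.Lib.KrullAkizuki5_helper6
import Groth.Agent.Lib.GlueDimOne2_helper6
import Groth.Agent.Lib.GlueDimOne3_helper6
import Groth.Agent.Lib.GlueDimOne6_helper6

/-!
# Overrings of a one-dimensional Noetherian domain inside its fraction field (helper6)

For `A ≤ C` subrings of a field `K = Frac A` with `A` Noetherian of dimension one:
`C` is Noetherian, has fraction field `K`, and if `C ≠ ⊤` it has dimension one and is contained in a
discrete valuation ring of `K`.
-/

set_option autoImplicit false
universe u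

namespace Groth.Agent.Lib.Overring

open IsDedekindDomain

variable (K : Type u) [Field K] (A C : Subring K) [IsFractionRing A K]

theorem isFractionRing_of_ge (hAC : A ≤ C) : IsFractionRing C K := by
  apply Groth.Agent.Lib.GlueDimOne.isLocalization_of_forall_exists
  · exact Subtype.val_injective
  · intro m hm
    have hm0 : m ≠ 0 := nonZeroDivisors.ne_zero hm
    refine isUnit_iff_ne_zero.2 ?_
    intro h0
    exact hm0 (Subtype.ext h0)
  · intro w
    obtain ⟨a, b, hb, rfl⟩ := IsFractionRing.div_surjective (A := A) w
    have hb0 : (b : K) ≠ 0 := by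
      intro h0
      exact nonZeroDivisors.ne_zero hb (Subtype.ext h0)
    refine ⟨⟨b, hAC b.2⟩, ?_, ⟨a, hAC a.2⟩, ?_⟩
    · rw [mem_nonZeroDivisors_iff_ne_zero]
      intro h0
      exact hb0 (congrArg Subtype.val h0)
    · show (a : K) = (b : K) * ((a : K) / (b : K))
      field_simp

variable [IsNoetherianRing A]

theorem isNoetherianRing_of_ge (hdim : ringKrullDim A = 1) (hAC : A ≤ C) : IsNoetherianRing C := by
  letI : Algebra A C := (Subring.inclusion hAC).toAlgebra
  haveI : IsScalarTower A C K := IsScalarTower.of_algebraMap_eq (fun _ => rfl)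
  exact Groth.Agent.Lib.KA.krull_akizuki K K (le_of_eq hdim) Subtype.val_injective

theorem dimensionLEOne_of_ge (hdim : ringKrullDim A = 1) (hAC : A ≤ C) :
    Ring.DimensionLEOne C := by
  letI : Algebra A C := (Subring.inclusion hAC).toAlgebra
  haveI : IsScalarTower A C K := IsScalarTower.of_algebraMap_eq (fun _ => rfl)
  refine ⟨fun {q} hq0 hq => ?_⟩
  obtain ⟨c, hcq, hc0⟩ := Submodule.exists_mem_ne_zero_of_ne_bot hq0
  obtain ⟨a, b, hb, hab⟩ := IsFractionRing.div_surjective (A := A) (c : K)
  have hb0 : (b : K) ≠ 0 := by
    intro h0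
    exact nonZeroDivisors.ne_zero hb (Subtype.ext h0)
  have hcK : (c : K) ≠ 0 := fun h => hc0 (Subtype.ext h)
  have ha0 : a ≠ 0 := by
    rintro rfl
    apply hcK
    rw [← hab]
    simp
  have haq : algebraMap A C a ∈ q := by
    have : algebraMap A C a = c * algebraMap A C b := by
      apply Subtype.ext
      show (a : K) = (c : K) * (b : K)
      have h1 : (a : K) / (b : K) = (c : K) := hab
      rw [← h1]
      field_simp
    rw [this]
    exact Ideal.mul_mem_right _ _ hcq
  haveI := hq
  exact Groth.Agent.Lib.KA.isMaximal_of_mem K K (le_of_eq hdim) Subtype.val_injective a ha0 q haq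

theorem not_isField_of_ne_top (hAC : A ≤ C) (hC : C ≠ ⊤) : ¬ IsField C := by
  haveI := isFractionRing_of_ge K A C hAC
  intro hf
  apply hC
  rw [eq_top_iff]
  intro w _
  have hsurj : Function.Surjective (algebraMap C K) :=
    (IsFractionRing.surjective_iff_isField (R := C) (K := K)).2 hf
  obtain ⟨c, rfl⟩ := hsurj w
  exact c.2

theorem ringKrullDim_eq_one_of_ge (hdim : ringKrullDim A = 1) (hAC : A ≤ C) (hC : C ≠ ⊤) :
    ringKrullDim C = 1 :=
  Groth.Agent.Lib.GlueDimOne.ringKrullDim_eq_one_of_dimensionLEOne
    (not_isField_of_ne_top K A C hAC hC) (dimensionLEOne_of_ge K A C hdim hAC)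

/-- A proper overring of a one-dimensional Noetherian domain lies in a discrete valuation ring. -/
theorem exists_dvr_of_ge (hdim : ringKrullDim A = 1) (hAC : A ≤ C) (hC : C ≠ ⊤) :
    ∃ O : ValuationSubring K, IsDiscreteValuationRing O ∧ C ≤ O.toSubring := by
  haveI := isFractionRing_of_ge K A C hAC
  haveI := isNoetherianRing_of_ge K A C hdim hAC
  have hdimC := ringKrullDim_eq_one_of_ge K A C hdim hAC hC
  haveI hDed : IsDedekindDomain (integralClosure C K) :=
    Groth.Agent.Lib.GlueDimOne.isDedekindDomain_integralClosure C K hdimC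
  haveI hfrac : IsFractionRing (integralClosure C K) K :=
    Groth.Agent.Lib.GlueDimOne.isFractionRing_integralClosure C K
  have hnf : ¬ IsField (integralClosure C K) := by
    intro hf
    apply not_isField_of_ne_top K A C hAC hC
    have hinj : Function.Injective (algebraMap C (integralClosure C K)) := by
      intro a a' h
      apply Subtype.ext
      have := congrArg (fun t : integralClosure C K => (t : K)) h
      exact this
    exact isField_of_isIntegral_of_isField hinj hf
  obtain ⟨P, hP0, hPprime⟩ := Ring.not_isField_iff_exists_prime.1 hnf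
  let w : HeightOneSpectrum (integralClosure C K) := ⟨P, hPprime, hP0⟩
  refine ⟨(w.valuation K).valuationSubring, inferInstance, ?_⟩
  intro c hc
  show w.valuation K c ≤ 1
  have : c = algebraMap (integralClosure C K) K (algebraMap C (integralClosure C K) ⟨c, hc⟩) := rfl
  rw [this]
  exact w.valuation_le_one _

end Groth.Agent.Lib.Overring
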