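import Mathlib
import Groth.Prelude
import Groth.Agent.Lib.OneDimG1_helper9
import Groth.Agent.Lib.Overring_helper6
import Groth.Agent.S1640
import Groth.Agent.Lib.Tens22_helper8

/-!
# A globally generated invertible module cutting out an affine open with one-dimensional
complement (helper9).  APPEND-ONLY once landed.

* `OneDimG9.sup_range_eq_top` : on an integral separated scheme, the ring of functions of an affine
  open `U` and the (Noetherian one-dimensional) local ring of a point outside `U` generate the
  function field.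
* `OneDimG9.main1645` : S1645.
-/

set_option autoImplicit false
universe u
open CategoryTheory CategoryTheory.Limits AlgebraicGeometry Opposite TopologicalSpace

namespace OneDimG9

section Alg

/-- the image of a domain in its fraction field has that field as fraction field -/
theorem isFractionRing_range {R K : Type*} [CommRing R] [IsDomain R] [Field K] [Algebra R K]
    [IsFractionRing R K] : IsFractionRing (algebraMap R K).range K := by
  apply Groth.Agent.Lib.GlueDimOne.isLocalization_of_forall_exists
  · exact Subtype.val_injective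
  · intro m hm
    have hm0 : m ≠ 0 := nonZeroDivisors.ne_zero hm
    refine isUnit_iff_ne_zero.2 ?_
    intro h0
    exact hm0 (Subtype.ext h0)
  · intro w
    obtain ⟨a, b, hb, rfl⟩ := IsFractionRing.div_surjective (A := R) w
    have hb0 : algebraMap R K b ≠ 0 :=
      IsFractionRing.to_map_ne_zero_of_mem_nonZeroDivisors hb
    refine ⟨⟨algebraMap R K b, b, rfl⟩, ?_, ⟨algebraMap R K a, a, rfl⟩, ?_⟩
    · rw [mem_nonZeroDivisors_iff_ne_zero]
      intro h0
      exact hb0 (congrArg Subtype.val h0)
    · show algebraMap R K a = algebraMap R K b * (algebraMap R K a / algebraMap R K b)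
      field_simp

/-- a domain is isomorphic to its image in its fraction field -/
noncomputable def rangeEquiv (R K : Type*) [CommRing R] [Field K] [Algebra R K]
    [IsFractionRing R K] : R ≃+* (algebraMap R K).range :=
  RingEquiv.ofBijective (algebraMap R K).rangeRestrict
    ⟨fun _ _ h => IsFractionRing.injective R K (congrArg Subtype.val h),
      (algebraMap R K).rangeRestrict_surjective⟩

theorem rangeEquiv_apply {R K : Type*} [CommRing R] [Field K] [Algebra R K]
    [IsFractionRing R K] (a : R) : ((rangeEquiv R K a : (algebraMap R K).range) : K) =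
      algebraMap R K a := rfl

end Alg

section Sep

variable (X : Scheme.{u}) [IsIntegral X] [X.IsSeparated]

/-- on an integral separated scheme the functions on an affine open `U` and the germs at a point
outside `U` whose local ring is Noetherian of dimension one generate the function field -/
theorem sup_range_eq_top (U : X.Opens) (hU : IsAffineOpen U) [Nonempty U] (x₀ : X) (hx₀ : x₀ ∉ U)
    [IsNoetherianRing (X.presheaf.stalk x₀)] (hdim : ringKrullDim (X.presheaf.stalk x₀) = 1) :
    (algebraMap Γ(X, U) X.functionField).range ⊔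
      (algebraMap (X.presheaf.stalk x₀) X.functionField).range = ⊤ := by
  classical
  by_contra hne
  haveI : IsFractionRing (algebraMap (X.presheaf.stalk x₀) X.functionField).range
      X.functionField := isFractionRing_range
  haveI : IsNoetherianRing (algebraMap (X.presheaf.stalk x₀) X.functionField).range :=
    isNoetherianRing_of_ringEquiv _ (rangeEquiv (X.presheaf.stalk x₀) X.functionField)
  have hdimB : ringKrullDim (algebraMap (X.presheaf.stalk x₀) X.functionField).range = 1 := by
    rw [← ringKrullDim_eq_of_ringEquiv (rangeEquiv (X.presheaf.stalk x₀) X.functionField)]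
    exact hdim
  obtain ⟨O, hO, hle⟩ := Groth.Agent.Lib.Overring.exists_dvr_of_ge X.functionField
    (algebraMap (X.presheaf.stalk x₀) X.functionField).range _ hdimB le_sup_right hne
  haveI := hO
  let ψ₁ : Γ(X, U) →+* O := (algebraMap Γ(X, U) X.functionField).codRestrict O
    (fun a => hle (le_sup_left (a := (algebraMap Γ(X, U) X.functionField).range) ⟨a, rfl⟩))
  let ψ₂ : X.presheaf.stalk x₀ →+* O :=
    (algebraMap (X.presheaf.stalk x₀) X.functionField).codRestrict O
    (fun b => hle (le_sup_right (b := (algebraMap (X.presheaf.stalk x₀) X.functionField).range)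
      ⟨b, rfl⟩))
  let φ₁ : Spec (CommRingCat.of O) ⟶ X := Spec.map (CommRingCat.ofHom ψ₁) ≫ hU.fromSpec
  let φ₂ : Spec (CommRingCat.of O) ⟶ X := Spec.map (CommRingCat.ofHom ψ₂) ≫ X.fromSpecStalk x₀
  let jO : CommRingCat.of O ⟶ X.functionField := CommRingCat.ofHom O.subtype
  let ι : Spec X.functionField ⟶ Spec (CommRingCat.of O) := Spec.map jO
  haveI : IsDominant ι := by
    refine ⟨?_⟩
    have : DenseRange (PrimeSpectrum.comap O.subtype) := by
      rw [PrimeSpectrum.denseRange_comap_iff_ker_le_nilRadical]
      intro a ha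
      have h0 : a = 0 := Subtype.ext ha
      rw [h0]
      exact Ideal.zero_mem _
    exact this
  have hη : genericPoint X ∈ U :=
    ((genericPoint_spec X).mem_open_set_iff U.isOpen).mpr (by simpa using ‹Nonempty U›)
  have h12 : φ₁ = φ₂ := by
    apply ext_of_isDominant ι
    have e1 : CommRingCat.ofHom ψ₁ ≫ jO = X.presheaf.germ U (genericPoint X) hη := by
      ext a
      rfl
    have e2 : CommRingCat.ofHom ψ₂ ≫ jO =
        X.presheaf.stalkSpecializes ((genericPoint_spec X).specializes trivial) := by
      ext a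
      rfl
    show Spec.map jO ≫ Spec.map (CommRingCat.ofHom ψ₁) ≫ hU.fromSpec =
      Spec.map jO ≫ Spec.map (CommRingCat.ofHom ψ₂) ≫ X.fromSpecStalk x₀
    rw [← Spec.map_comp_assoc, ← Spec.map_comp_assoc, e1, e2,
      Scheme.SpecMap_stalkSpecializes_fromSpecStalk]
    exact hU.fromSpecStalk_eq_fromSpecStalk hη
  have h1 : φ₁ (IsLocalRing.closedPoint O) ∈ U := OneDim9.fromSpec_mem hU _
  by_cases hq : (IsLocalRing.maximalIdeal O).comap ψ₂ =
      IsLocalRing.maximalIdeal (X.presheaf.stalk x₀)
  · -- the closed point goes to `x₀`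
    have h2 : (Spec.map (CommRingCat.ofHom ψ₂)) (IsLocalRing.closedPoint O) =
        IsLocalRing.closedPoint (X.presheaf.stalk x₀) := PrimeSpectrum.ext hq
    have h3 : φ₂ (IsLocalRing.closedPoint O) = x₀ := by
      show X.fromSpecStalk x₀ ((Spec.map (CommRingCat.ofHom ψ₂)) (IsLocalRing.closedPoint O)) = x₀
      rw [h2]
      exact Scheme.fromSpecStalk_closedPoint
    rw [h12, h3] at h1
    exact hx₀ h1
  · -- the contraction is zero, so `O` is everything
    haveI : ((IsLocalRing.maximalIdeal O).comap ψ₂).IsPrime := Ideal.comap_isPrime _ _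
    have hmin := OneDim9.mem_minimalPrimes_of_ne_maximalIdeal (le_of_eq hdim) _ hq
    rw [IsDomain.minimalPrimes_eq_singleton_bot, Set.mem_singleton_iff] at hmin
    have hunit : ∀ b : X.presheaf.stalk x₀, b ≠ 0 → IsUnit (ψ₂ b) := by
      intro b hb
      by_contra hnu
      have : b ∈ (IsLocalRing.maximalIdeal O).comap ψ₂ :=
        (IsLocalRing.mem_maximalIdeal _).mpr hnu
      rw [hmin] at this
      exact hb this
    have hall : ∀ z : X.functionField, z ∈ O := by
      intro z
      obtain ⟨a, b, hb, rfl⟩ := IsFractionRing.div_surjective (A := X.presheaf.stalk x₀) z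
      have hb0 : b ≠ 0 := nonZeroDivisors.ne_zero hb
      obtain ⟨u, hu⟩ := hunit b hb0
      have h5 : ((u⁻¹ : Oˣ) : O) * ψ₂ b = 1 := by rw [← hu]; exact u.inv_mul
      have h6 : (((u⁻¹ : Oˣ) : O) : X.functionField) *
          algebraMap (X.presheaf.stalk x₀) X.functionField b = 1 := congrArg Subtype.val h5
      have hbK : algebraMap (X.presheaf.stalk x₀) X.functionField b ≠ 0 :=
        IsFractionRing.to_map_ne_zero_of_mem_nonZeroDivisors hb
      have h7 : algebraMap (X.presheaf.stalk x₀) X.functionField a /
          algebraMap (X.presheaf.stalk x₀) X.functionField b =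
          ((ψ₂ a * ((u⁻¹ : Oˣ) : O) : O) : X.functionField) := by
        show _ = algebraMap (X.presheaf.stalk x₀) X.functionField a *
          (((u⁻¹ : Oˣ) : O) : X.functionField)
        rw [div_eq_mul_inv, ← eq_inv_of_mul_eq_one_left h6]
      rw [h7]
      exact (ψ₂ a * ((u⁻¹ : Oˣ) : O) : O).2
    obtain ⟨ϖ, hϖ⟩ := IsDiscreteValuationRing.exists_irreducible O
    apply hϖ.not_isUnit
    have hϖ0 : (ϖ : X.functionField) ≠ 0 := fun h => hϖ.ne_zero (Subtype.ext h)
    refine IsUnit.of_mul_eq_one ⟨(ϖ : X.functionField)⁻¹, hall _⟩ ?_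
    apply Subtype.ext
    show (ϖ : X.functionField) * (ϖ : X.functionField)⁻¹ = 1
    exact mul_inv_cancel₀ hϖ0

end Sep

section Main

open QcqsLoc

variable (X : Scheme.{u}) [IsIntegral X]

/-- the points outside a nonempty open all of whose outside local rings have dimension one are
closed -/
theorem isClosed_singleton_of_notMem (U : X.Opens) (hne : (U : Set X).Nonempty)
    (hloc : ∀ x : X, x ∉ U → ringKrullDim (X.presheaf.stalk x) = 1) (y : X) (hy : y ∉ U) :
    IsClosed ({y} : Set X) := by
  rw [← closure_subset_iff_isClosed]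
  intro z hz
  have hyz : y ⤳ z := specializes_iff_mem_closure.mpr hz
  by_contra hne'
  have hzy : z ≠ y := hne'
  have hzU : z ∉ U := fun h => hy (hyz.mem_open U.isOpen h)
  have hηU : genericPoint X ∈ U :=
    ((genericPoint_spec X).mem_open_set_iff U.isOpen).mpr
      (by obtain ⟨w, hw⟩ := hne; exact ⟨w, trivial, hw⟩)
  have hηy : genericPoint X ⤳ y := (genericPoint_spec X).specializes trivial
  have h1 : z < y := lt_of_le_not_ge (show z ≤ y from hyz)
    (fun h : y ≤ z => hzy ((hyz.antisymm (show z ⤳ y from h)).eq.symm))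
  have h2 : y < genericPoint X := by
    refine lt_of_le_not_ge (show y ≤ genericPoint X from hηy) ?_
    intro h
    have h' : genericPoint X = y := (hηy.antisymm (show y ⤳ genericPoint X from h)).eq
    exact hy (h' ▸ hηU)
  have h3 := Order.coheight_add_one_le h1
  have h4 := Order.coheight_add_one_le h2
  have h5 : ringKrullDim (X.presheaf.stalk z) = Order.coheight z :=
    AlgebraicGeometry.ringKrullDim_stalk_eq_coheight z
  rw [hloc z hzU] at h5
  have h6 : Order.coheight z = 1 := by
    have : ((1 : ℕ∞) : WithBot ℕ∞) = ((Order.coheight z : ℕ∞) : WithBot ℕ∞) := by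
      exact_mod_cast h5
    exact_mod_cast this.symm
  rw [h6] at h3
  have h8 : (1 : ℕ∞) ≤ Order.coheight y := le_trans le_add_self h4
  have h7 : (1 : ℕ∞) + 1 ≤ 1 := by
    calc (1 : ℕ∞) + 1 ≤ Order.coheight y + 1 := by gcongr
      _ ≤ 1 := h3
  exact absurd h7 (by decide)

variable [X.IsSeparated]

/-- **S1645** -/
theorem main1645 (U : X.Opens) (hU : IsAffineOpen U) (hne : (U : Set X).Nonempty)
    (hfin : ((U : Set X)ᶜ).Finite)
    (hloc : ∀ x : X, x ∉ U → IsNoetherianRing (X.presheaf.stalk x) ∧
      ringKrullDim (X.presheaf.stalk x) = 1) :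
    ∃ (L : X.Modules) (s : Coh.structureModule X ⟶ L), PicF.IsInvertible L ∧
      Curv2.IsGloballyGenerated L ∧ CohB1.genLocus L s = U := by
  classical
  haveI : Nonempty U := hne.to_subtype
  haveI : Finite ↥((U : Set X)ᶜ) := hfin.to_subtype
  let e : ↥((U : Set X)ᶜ) ≃ Fin (Nat.card ↥((U : Set X)ᶜ)) := Finite.equivFin _
  let pt : Fin (Nat.card ↥((U : Set X)ᶜ)) → X := fun i => (e.symm i).1
  have hptU : ∀ i, pt i ∉ U := fun i => (e.symm i).2
  haveI : IsFractionRing Γ(X, U) X.functionField :=
    functionField_isFractionRing_of_isAffineOpen X U hU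
  haveI : IsDomain Γ(X, U) :=
    (IsFractionRing.injective Γ(X, U) X.functionField).isDomain _
  haveI : IsFractionRing (algebraMap Γ(X, U) X.functionField).range X.functionField :=
    isFractionRing_range
  haveI hN : ∀ i, IsNoetherianRing (X.presheaf.stalk (pt i)) := fun i => (hloc _ (hptU i)).1
  haveI : ∀ i, IsNoetherianRing
      ((fun i => (algebraMap (X.presheaf.stalk (pt i)) X.functionField).range) i) := fun i =>
    isNoetherianRing_of_ringEquiv _ (rangeEquiv (X.presheaf.stalk (pt i)) X.functionField)
  haveI : ∀ i, IsFractionRing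
      ((fun i => (algebraMap (X.presheaf.stalk (pt i)) X.functionField).range) i)
      X.functionField := fun i => isFractionRing_range
  have hdim : ∀ i, ringKrullDim
      ((fun i => (algebraMap (X.presheaf.stalk (pt i)) X.functionField).range) i) = 1 := by
    intro i
    show ringKrullDim (algebraMap (X.presheaf.stalk (pt i)) X.functionField).range = 1
    rw [← ringKrullDim_eq_of_ringEquiv (rangeEquiv (X.presheaf.stalk (pt i)) X.functionField)]
    exact (hloc _ (hptU i)).2
  have hsl : ∀ i, Finite (MaximalSpectrum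
      ((fun i => (algebraMap (X.presheaf.stalk (pt i)) X.functionField).range) i)) := by
    intro i
    haveI : IsLocalRing (algebraMap (X.presheaf.stalk (pt i)) X.functionField).range :=
      (rangeEquiv (X.presheaf.stalk (pt i)) X.functionField).isLocalRing
    show Finite (MaximalSpectrum (algebraMap (X.presheaf.stalk (pt i)) X.functionField).range)
    infer_instance
  have hgen : ∀ i, (algebraMap Γ(X, U) X.functionField).range ⊔
      (fun i => (algebraMap (X.presheaf.stalk (pt i)) X.functionField).range) i = ⊤ := fun i =>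
    sup_range_eq_top X U hU (pt i) (hptU i) (hloc _ (hptU i)).2
  obtain ⟨x, hxA, hx0, hx⟩ := Groth.Agent.S1640.result X.functionField
    (algebraMap Γ(X, U) X.functionField).range _
    (fun i => (algebraMap (X.presheaf.stalk (pt i)) X.functionField).range) hdim hsl hgen
  obtain ⟨F, hF⟩ := hxA
  -- germs of `x⁻¹` at the points outside `U`
  have hP : ∀ z : X, z ∉ U → ∃ b : X.presheaf.stalk z,
      algebraMap (X.presheaf.stalk z) X.functionField b = x⁻¹ ∧ ¬ IsUnit b := by
    intro z hz
    obtain ⟨i, rfl⟩ : ∃ i, z = pt i := ⟨e ⟨z, hz⟩, by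
      show z = (e.symm (e ⟨z, hz⟩)).1
      rw [Equiv.symm_apply_apply]⟩
    obtain ⟨hxi, hjac⟩ := hx i
    have hxi' := hxi
    obtain ⟨b, hb⟩ := hxi'
    refine ⟨b, hb, ?_⟩
    intro hbu
    have h1 : (⟨x⁻¹, hxi⟩ : (algebraMap (X.presheaf.stalk (pt i)) X.functionField).range) =
        rangeEquiv (X.presheaf.stalk (pt i)) X.functionField b := Subtype.ext hb.symm
    have h2 : IsUnit (⟨x⁻¹, hxi⟩ :
        (algebraMap (X.presheaf.stalk (pt i)) X.functionField).range) := by
      rw [h1]
      exact hbu.map _
    obtain ⟨u, hu⟩ := h2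
    have h3 := Ideal.mem_jacobson_bot.mp hjac (-((u⁻¹ : _ˣ) : _))
    rw [← hu, mul_neg, Units.mul_inv, neg_add_cancel] at h3
    exact not_isUnit_zero h3
  have hclosed : ∀ y : X, y ∉ U → IsClosed ({y} : Set X) :=
    isClosed_singleton_of_notMem X U hne (fun z hz => (hloc z hz).2)
  have hηU : genericPoint X ∈ U :=
    ((genericPoint_spec X).mem_open_set_iff U.isOpen).mpr
      (by obtain ⟨w, hw⟩ := hne; exact ⟨w, trivial, hw⟩)
  have hFη : X.presheaf.germ U (genericPoint X) hηU F = x := hF
  -- the charts
  have key : ∀ z : X, ∃ (Vz : X.Opens) (hη : genericPoint X ∈ Vz) (fz gz : Γ(X, Vz)), z ∈ Vz ∧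
      X.basicOpen fz = Vz ⊓ U ∧ (∀ y ∈ Vz, y ∉ U → y = z) ∧
      X.presheaf.germ Vz (genericPoint X) hη gz = x * X.presheaf.germ Vz (genericPoint X) hη fz ∧
      (z ∉ U → z ∈ X.basicOpen gz) := by
    intro z
    by_cases hz : z ∈ U
    · refine ⟨U, hηU, 1, F, hz, ?_, fun y hy hyU => absurd hy hyU, ?_, fun h => absurd hz h⟩
      · rw [Scheme.basicOpen_of_isUnit X isUnit_one, inf_idem]
      · rw [map_one, mul_one]
        exact hFη
    · obtain ⟨b, hb, hbu⟩ := hP z hz
      obtain ⟨V', hzV', G', hG'⟩ := X.presheaf.exists_germ_eq b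
      have hScl : IsClosed ((U : Set X)ᶜ \ {z}) := by
        have h1 : ((U : Set X)ᶜ \ {z}) = ⋃ y ∈ ((U : Set X)ᶜ \ {z}), ({y} : Set X) :=
          (Set.biUnion_of_singleton _).symm
        rw [h1]
        exact (hfin.subset Set.diff_subset).isClosed_biUnion (fun y hy => hclosed y hy.1)
      let W : X.Opens := V' ⊓ ⟨((U : Set X)ᶜ \ {z})ᶜ, hScl.isOpen_compl⟩
      have hzW : z ∈ W := ⟨hzV', fun h => h.2 rfl⟩
      have hWpt : ∀ y ∈ W, y ∉ U → y = z := by
        intro y hy hyU
        by_contra hyz
        exact hy.2 ⟨hyU, hyz⟩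
      have hηW : genericPoint X ∈ W :=
        ((genericPoint_spec X).mem_open_set_iff W.isOpen).mpr ⟨z, trivial, hzW⟩
      haveI : Nonempty W := ⟨⟨z, hzW⟩⟩
      have hWV' : W ≤ V' := inf_le_left
      have hgermz : X.presheaf.germ W z hzW (rX hWV' G') = b := by
        rw [← hG']
        exact X.presheaf.germ_res_apply (homOfLE hWV') z hzW G'
      have hgermη : X.presheaf.germ W (genericPoint X) hηW (rX hWV' G') = x⁻¹ := by
        have h1 := Scheme.algebraMap_germ_eq_germToFunctionField (X := X) hzW (rX hWV' G')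
        rw [hgermz, hb] at h1
        exact h1.symm
      refine ⟨W, hηW, rX hWV' G', 1, hzW, ?_, hWpt, ?_, fun _ => ?_⟩
      · apply le_antisymm
        · intro y hy
          have hyW : y ∈ W := X.basicOpen_le _ hy
          refine ⟨hyW, ?_⟩
          by_contra hyU
          have hyz := hWpt y hyW hyU
          rw [hyz] at hy
          rw [Scheme.mem_basicOpen _ _ _ hzW, hgermz] at hy
          exact hbu hy
        · intro y hy
          have hT : W ⊓ U ≤ W := inf_le_left
          have hTU : W ⊓ U ≤ U := inf_le_right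
          have hηT : genericPoint X ∈ W ⊓ U := ⟨hηW, hηU⟩
          have hmul : rX hT (rX hWV' G') * rX hTU F = 1 := by
            apply germ_injective_of_isIntegral X (genericPoint X) hηT
            rw [map_mul, map_one]
            have e1 : X.presheaf.germ (W ⊓ U) (genericPoint X) hηT (rX hT (rX hWV' G')) = x⁻¹ := by
              rw [← hgermη]
              exact X.presheaf.germ_res_apply (homOfLE hT) _ hηT _
            have e2 : X.presheaf.germ (W ⊓ U) (genericPoint X) hηT (rX hTU F) = x := by
              rw [← hFη]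
              exact X.presheaf.germ_res_apply (homOfLE hTU) _ hηT _
            rw [e1, e2]
            exact inv_mul_cancel₀ hx0
          have hu : IsUnit (rX hT (rX hWV' G')) := IsUnit.of_mul_eq_one _ hmul
          have h1 : X.basicOpen (rX hT (rX hWV' G')) = W ⊓ U := Scheme.basicOpen_of_isUnit X hu
          have h2 : X.basicOpen (rX hT (rX hWV' G')) ≤ X.basicOpen (rX hWV' G') := by
            have := Scheme.basicOpen_res X (rX hWV' G') (homOfLE hT).op
            rw [show X.basicOpen (rX hT (rX hWV' G')) = (W ⊓ U) ⊓ X.basicOpen (rX hWV' G') from this]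
            exact inf_le_right
          exact h2 (by rw [h1]; exact hy)
      · rw [map_one, hgermη]
        exact (mul_inv_cancel₀ hx0).symm
      · rw [Scheme.basicOpen_of_isUnit X isUnit_one]
        exact hzW
  choose V hη f g hzV hbo hpt hgerm hgz using key
  have hfg : ∀ i j, rX (inf_le_left : V i ⊓ V j ≤ V i) (g i) *
        rX (inf_le_right : V i ⊓ V j ≤ V j) (f j) =
      rX (inf_le_right : V i ⊓ V j ≤ V j) (g j) * rX (inf_le_left : V i ⊓ V j ≤ V i) (f i) := by
    intro i j
    have hηT : genericPoint X ∈ V i ⊓ V j := ⟨hη i, hη j⟩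
    apply germ_injective_of_isIntegral X (genericPoint X) hηT
    rw [map_mul, map_mul]
    have e1 : ∀ a : Γ(X, V i), X.presheaf.germ (V i ⊓ V j) (genericPoint X) hηT
        (rX (inf_le_left : V i ⊓ V j ≤ V i) a) = X.presheaf.germ (V i) (genericPoint X) (hη i) a :=
      fun a => X.presheaf.germ_res_apply (homOfLE inf_le_left) _ hηT a
    have e2 : ∀ a : Γ(X, V j), X.presheaf.germ (V i ⊓ V j) (genericPoint X) hηT
        (rX (inf_le_right : V i ⊓ V j ≤ V j) a) = X.presheaf.germ (V j) (genericPoint X) (hη j) a :=
      fun a => X.presheaf.germ_res_apply (homOfLE inf_le_right) _ hηT a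
    rw [e1, e2, e2, e1, hgerm i, hgerm j]
    ring
  obtain ⟨L, s, t, hL, hs, ht⟩ :=
    exists_invertible_two_sections_of_charts U V f g hzV hbo hpt hfg
  refine ⟨L, s, hL, ?_, hs⟩
  apply TensH8.isGloballyGenerated_of_ptGen
  intro z
  by_cases hz : z ∈ U
  · exact ⟨s, hs ▸ hz⟩
  · refine ⟨t, ?_⟩
    have h1 : z ∈ CohB1.genLocus L t ⊓ V z := by
      rw [ht z]
      exact hgz z hz
    exact h1.1

end Main

end OneDimG9
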