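import Mathlib
import Groth.Prelude
import Groth.Agent.Lib.OneDim2_helper9
import Groth.Agent.Lib.HComp2_helper9

/-!
# Retrocompact opens of schemes with Noetherian local rings of dimension at most one are affine
over the scheme (helper9).  APPEND-ONLY once landed.

* `OpenAff9.exists_f_t_gen` : commutative algebra (prime avoidance + nilpotence modulo `f`).
* `OpenAff9.exists_chart_gen` : for a retrocompact open `U` and a point `x ∉ U` with finitely many
  proper generizations there is an affine open `V ∋ x` and a function `f` on `V` with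
  `V ∩ U = D(f)`.
* `OpenAff9.isAffineHom_ι` : the inclusion of a retrocompact open is an affine morphism when all
  local rings are Noetherian of dimension at most one.
* `OpenAff9.main1663` : S1663.
-/

set_option autoImplicit false
universe u
open CategoryTheory AlgebraicGeometry TopologicalSpace Opposite

namespace OpenAff9

open OneDim9

section Alg

variable {A : Type u} [CommRing A]

/-- if only finitely many primes lie strictly below the prime `m` and `G ⊆ m` is finite, there are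
`f` in the ideal generated by `G` and `t ∉ m` such that on `D(t)` the open `D(f)` is the union of
the `D(g)`, `g ∈ G` -/
theorem exists_f_t_gen (m : Ideal A) [m.IsPrime]
    (hfin : {q : PrimeSpectrum A | q.asIdeal < m}.Finite) (G : Finset A)
    (hGm : ∀ g ∈ G, g ∈ m) :
    ∃ f ∈ Ideal.span (G : Set A), ∃ t, t ∉ m ∧
      ∀ q : PrimeSpectrum A, t ∉ q.asIdeal → ∀ g ∈ G, g ∉ q.asIdeal → f ∉ q.asIdeal := by
  classical
  set I : Ideal A := Ideal.span (G : Set A) with hI
  set T : Finset (PrimeSpectrum A) := hfin.toFinset.filter (fun q => ¬ I ≤ q.asIdeal) with hT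
  -- prime avoidance
  obtain ⟨f, hfI, hf⟩ : ∃ f ∈ I, ∀ q ∈ T, f ∉ q.asIdeal := by
    by_contra hcon
    push Not at hcon
    have hsub : (I : Set A) ⊆ ⋃ q ∈ (↑T : Set (PrimeSpectrum A)), (q.asIdeal : Set A) := by
      intro f hf
      obtain ⟨q, hq, hfq⟩ := hcon f hf
      simp only [Set.mem_iUnion]
      exact ⟨q, by simpa using hq, hfq⟩
    by_cases hne : T.Nonempty
    · obtain ⟨a, ha⟩ := hne
      obtain ⟨q, hq, hIq⟩ := (Ideal.subset_union_prime (s := T)
        (f := fun q => q.asIdeal) a a (fun q _ _ _ => q.isPrime)).mp hsub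
      exact (Finset.mem_filter.mp hq).2 hIq
    · rw [Finset.not_nonempty_iff_eq_empty] at hne
      obtain ⟨q, hq, -⟩ := hcon 0 I.zero_mem
      rw [hne] at hq
      simp at hq
  have hstep : ∀ g ∈ G, ∃ t, t ∉ m ∧ ∃ n : ℕ, t * g ^ n ∈ Ideal.span {f} := by
    intro g hg
    by_contra hcon
    push Not at hcon
    have hdisj : Disjoint ((Ideal.span {f} : Ideal A) : Set A)
        ((m.primeCompl ⊔ Submonoid.powers g : Submonoid A) : Set A) := by
      rw [Set.disjoint_left]
      intro a ha hT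
      obtain ⟨t, ht, p, ⟨n, rfl⟩, rfl⟩ := Submonoid.mem_sup.mp hT
      exact hcon t ht n ha
    obtain ⟨P, hP, hfP, hPT⟩ := Ideal.exists_le_prime_disjoint _ _ hdisj
    have hPm : P ≤ m := by
      intro a ha
      by_contra ham
      exact Set.disjoint_left.mp hPT ha
        ((le_sup_left : m.primeCompl ≤ m.primeCompl ⊔ Submonoid.powers g) ham)
    have hgP : g ∉ P := fun hgP => Set.disjoint_left.mp hPT hgP
      ((le_sup_right : Submonoid.powers g ≤ m.primeCompl ⊔ Submonoid.powers g)
        (Submonoid.mem_powers g))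
    have hfP' : f ∈ P := hfP (Ideal.mem_span_singleton_self f)
    by_cases hPeq : P = m
    · exact hgP (hPeq ▸ hGm g hg)
    · have hlt : P < m := lt_of_le_of_ne hPm hPeq
      have hmemfin : (⟨P, hP⟩ : PrimeSpectrum A) ∈ hfin.toFinset := by
        rw [Set.Finite.mem_toFinset]
        exact hlt
      have hIP : I ≤ P := by
        by_contra hIP
        exact hf ⟨P, hP⟩ (Finset.mem_filter.mpr ⟨hmemfin, hIP⟩) hfP'
      exact hgP (hIP (Ideal.subset_span hg))
  choose! t ht n hn using hstep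
  refine ⟨f, hfI, ∏ g ∈ G, t g, ?_, ?_⟩
  · intro hprod
    obtain ⟨g, hg, hgm⟩ := (Ideal.IsPrime.prod_mem_iff (hp := inferInstance)).mp hprod
    exact ht g hg hgm
  · intro q htq g hgG hgq hfq
    have h1 : t g * g ^ n g ∈ q.asIdeal :=
      (Ideal.span_singleton_le_iff_mem (I := q.asIdeal)).mpr hfq (hn g hgG)
    rcases q.isPrime.mem_or_mem h1 with h2 | h2
    · exact htq (Ideal.mem_of_dvd _ (Finset.dvd_prod_of_mem t hgG) h2)
    · exact hgq (q.isPrime.mem_of_pow_mem _ h2)

end Alg

section Chart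

variable {X : Scheme.{u}}

/-- **charts at a point outside a retrocompact open**: an affine neighbourhood `V` of `x` and a
function `f` on `V` with `V ∩ U = D(f)` -/
theorem exists_chart_gen (U : X.Opens) [QuasiCompact U.ι] (x : X) (hx : x ∉ U)
    (hgen : {y : X | y ⤳ x ∧ y ≠ x}.Finite) :
    ∃ (V : X.Opens) (f : Γ(X, V)), IsAffineOpen V ∧ x ∈ V ∧ X.basicOpen f = V ⊓ U := by
  classical
  obtain ⟨_, ⟨V₀, hV₀ : IsAffineOpen V₀, rfl⟩, hxV₀, -⟩ :=
    (X.isBasis_affineOpens).exists_subset_of_mem_open (Set.mem_univ x) isOpen_univ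
  -- compactness of `V₀ ∩ U`
  have hK : IsCompact ((V₀ : Set X) ∩ (U : Set X)) := by
    have h2 : IsCompact (U.ι ⁻¹' (V₀ : Set X)) :=
      QuasiCompact.isCompact_preimage (f := U.ι) _ V₀.isOpen hV₀.isCompact
    have h3 := h2.image U.ι.continuous
    rwa [Set.image_preimage_eq_inter_range, Scheme.Opens.range_ι] at h3
  obtain ⟨T, hT⟩ := hK.elim_finite_subcover
    (fun g : {g : Γ(X, V₀) // X.basicOpen g ≤ U} => ((X.basicOpen g.1 : X.Opens) : Set X))
    (fun g => (X.basicOpen g.1).isOpen) (by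
      rintro y ⟨hyV, hyU⟩
      obtain ⟨g, hgU, hyg⟩ := hV₀.exists_basicOpen_le (V := U) ⟨y, hyU⟩ hyV
      exact Set.mem_iUnion.mpr ⟨⟨g, hgU⟩, hyg⟩)
  have hcov : ∀ y, y ∈ V₀ → y ∈ U → ∃ g ∈ T, y ∈ X.basicOpen g.1 := by
    intro y hyV hyU
    have := hT ⟨hyV, hyU⟩
    simp only [Set.mem_iUnion] at this
    obtain ⟨g, hg, hyg⟩ := this
    exact ⟨g, hg, hyg⟩
  set m := ptIdeal V₀ x hxV₀ with hm
  have hfin : {q : PrimeSpectrum Γ(X, V₀) | q.asIdeal < m}.Finite := by
    refine (hgen.preimage (hV₀.fromSpec.isOpenEmbedding.injective.injOn)).subset ?_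
    intro (q : PrimeSpectrum Γ(X, V₀)) hq
    have hq' : q.asIdeal < m := hq
    refine ⟨?_, ?_⟩
    · apply specializes_of_ptIdeal_le hV₀ (fromSpec_mem hV₀ q) hxV₀
      rw [ptIdeal_fromSpec]
      exact hq'.le
    · intro heq
      have := ptIdeal_congr heq (fromSpec_mem hV₀ q) hxV₀
      rw [ptIdeal_fromSpec] at this
      exact hq'.ne this
  have hGm : ∀ g ∈ T.image Subtype.val, g ∈ m := by
    intro g hg
    obtain ⟨g', -, rfl⟩ := Finset.mem_image.mp hg
    rw [hm, mem_ptIdeal_iff]
    exact fun hxg => hx (g'.2 hxg)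
  obtain ⟨f, hfI, t, htm, H⟩ := exists_f_t_gen m hfin (T.image Subtype.val) hGm
  have hxt : x ∈ X.basicOpen t := by
    by_contra h
    exact htm ((mem_ptIdeal_iff hxV₀ t).mpr h)
  refine ⟨X.basicOpen t, (X.presheaf.map (homOfLE (X.basicOpen_le t)).op).hom f, hV₀.basicOpen t,
    hxt, ?_⟩
  have hres : X.basicOpen ((X.presheaf.map (homOfLE (X.basicOpen_le t)).op).hom f) =
      X.basicOpen t ⊓ X.basicOpen f := Scheme.basicOpen_res X f (homOfLE (X.basicOpen_le t)).op
  rw [hres]
  apply le_antisymm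
  · rintro y ⟨hyt, hyf⟩
    refine ⟨hyt, ?_⟩
    have hyV : y ∈ V₀ := X.basicOpen_le t hyt
    -- some generator does not vanish at `y`
    have h1 : ¬ (Ideal.span ((T.image Subtype.val : Finset Γ(X, V₀)) : Set Γ(X, V₀)) ≤
        ptIdeal V₀ y hyV) := by
      intro hle
      have := hle hfI
      rw [mem_ptIdeal_iff] at this
      exact this hyf
    rw [Ideal.span_le] at h1
    obtain ⟨g, hgG, hgy⟩ := Set.not_subset.mp h1
    obtain ⟨g', -, rfl⟩ := Finset.mem_image.mp (Finset.mem_coe.mp hgG)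
    have hgy' : g'.1 ∉ ptIdeal V₀ y hyV := hgy
    rw [mem_ptIdeal_iff, not_not] at hgy'
    exact g'.2 hgy'
  · rintro y ⟨hyt, hyU⟩
    refine ⟨hyt, ?_⟩
    have hyV : y ∈ V₀ := X.basicOpen_le t hyt
    obtain ⟨g, hgT, hyg⟩ := hcov y hyV hyU
    have h5 : t ∉ ptIdeal V₀ y hyV := by
      rw [mem_ptIdeal_iff, not_not]
      exact hyt
    have h6 : g.1 ∉ ptIdeal V₀ y hyV := by
      rw [mem_ptIdeal_iff, not_not]
      exact hyg
    have h7 := H ⟨ptIdeal V₀ y hyV, inferInstance⟩ h5 g.1
      (Finset.mem_image.mpr ⟨g, hgT, rfl⟩) h6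
    have h8 : f ∉ ptIdeal V₀ y hyV := h7
    rw [mem_ptIdeal_iff, not_not] at h8
    exact h8

end Chart

section Main

variable (X : Scheme.{u})

/-- the inclusion of a retrocompact open is an affine morphism when all local rings of the scheme
are Noetherian of dimension at most one -/
theorem isAffineHom_ι
    (hX : ∀ x : X, IsNoetherianRing (X.presheaf.stalk x) ∧ ringKrullDim (X.presheaf.stalk x) ≤ 1)
    (U : X.Opens) [QuasiCompact U.ι] : IsAffineHom U.ι := by
  apply isAffineHom_of_forall_exists_isAffineOpen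
  intro x
  by_cases hx : x ∈ U
  · obtain ⟨_, ⟨W, hW : IsAffineOpen W, rfl⟩, hxW, hle⟩ :=
      (X.isBasis_affineOpens).exists_subset_of_mem_open hx U.isOpen
    refine ⟨W, hxW, hW, ?_⟩
    apply (U.ι.isAffineOpen_iff_of_isOpenImmersion).mp
    rw [Scheme.Hom.image_preimage_eq_opensRange_inf, Scheme.Opens.opensRange_ι]
    have : U ⊓ W = W := inf_eq_right.mpr hle
    rw [this]
    exact hW
  · haveI := (hX x).1
    obtain ⟨V, f, hV, hxV, hbo⟩ := exists_chart_gen U x hx (finite_generizations x (hX x).2)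
    refine ⟨V, hxV, hV, ?_⟩
    apply (U.ι.isAffineOpen_iff_of_isOpenImmersion).mp
    rw [Scheme.Hom.image_preimage_eq_opensRange_inf, Scheme.Opens.opensRange_ι, inf_comm, ← hbo]
    exact hV.basicOpen f

/-- **S1663** -/
theorem main1663
    (hX : ∀ x : X, IsNoetherianRing (X.presheaf.stalk x) ∧ ringKrullDim (X.presheaf.stalk x) ≤ 1)
    (U : X.Opens) [QuasiCompact U.ι] [HasInjectiveResolutions (U : Scheme.{u}).Modules]
    (F : (U : Scheme.{u}).Modules) (hF : Coh.IsQCoh F) (p : ℕ) (hp : 0 < p) :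
    Limits.IsZero ((Coh.Rpush U.ι p).obj F) := by
  haveI := isAffineHom_ι X hX U
  haveI : F.IsQuasicoherent := hF
  exact Groth.Agent.Lib.HComp.acyc_of_isAffineHom U.ι F p hp

end Main

end OpenAff9
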