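import Mathlib

open Filter Topology

namespace Groth.Agent.Lib.OpenMapNA

universe u

variable {N M : Type u} [AddCommGroup N] [AddCommGroup M] [UniformSpace N] [IsUniformAddGroup N]
  [TopologicalSpace M] [IsTopologicalAddGroup M] [T2Space M] [T2Space N] [CompleteSpace N]
  [NonarchimedeanAddGroup N] [FirstCountableTopology N]

noncomputable def Vseq (V₀ : OpenAddSubgroup N) (W : ℕ → OpenAddSubgroup N) : ℕ → OpenAddSubgroup N
  | 0 => V₀ ⊓ W 0
  | (n+1) => Vseq V₀ W n ⊓ W (n+1)

def sseq (g : ℕ → N → N) : ℕ → N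
  | 0 => 0
  | (n+1) => g n (sseq g n)

theorem closure_mem_nhds (u : N →+ M) (V : OpenAddSubgroup N)
    (h : ¬ IsNowhereDense (u '' (V : Set N))) : closure (u '' (V : Set N)) ∈ 𝓝 (0 : M) := by
  have hH : (((V : AddSubgroup N).map u).topologicalClosure : Set M) =
      closure (u '' (V : Set N)) := by
    first
      | rfl
      | (rw [AddSubgroup.topologicalClosure_coe, AddSubgroup.coe_map]; rfl)
  have hne : (interior (closure (u '' (V : Set N)))).Nonempty := by
    rw [Set.nonempty_iff_ne_empty]; exact h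
  obtain ⟨z, hz⟩ := hne
  have hz' : (((V : AddSubgroup N).map u).topologicalClosure : Set M) ∈ 𝓝 z := by
    rw [hH]; exact mem_interior_iff_mem_nhds.mp hz
  have hopen : IsOpen (((V : AddSubgroup N).map u).topologicalClosure : Set M) :=
    AddSubgroup.isOpen_of_mem_nhds _ hz'
  rw [← hH]
  exact hopen.mem_nhds (zero_mem _)

theorem image_mem_nhds (u : N →+ M) (hu : Continuous u)
    (h : ∀ V : OpenAddSubgroup N, ¬ IsNowhereDense (u '' (V : Set N))) (V₀ : OpenAddSubgroup N) :
    u '' (V₀ : Set N) ∈ 𝓝 (0 : M) := by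
  obtain ⟨B, hB⟩ := (𝓝 (0 : N)).exists_antitone_basis
  have hBV : ∀ n, ∃ W : OpenAddSubgroup N, (W : Set N) ⊆ B n :=
    fun n => NonarchimedeanAddGroup.is_nonarchimedean _ (hB.toHasBasis.mem_of_mem trivial)
  choose W hW using hBV
  set V : ℕ → OpenAddSubgroup N := Vseq V₀ W with hVdef
  have hV0 : V 0 = V₀ ⊓ W 0 := rfl
  have hVs : ∀ n, V (n+1) = V n ⊓ W (n+1) := fun n => rfl
  have hVanti : Antitone V := antitone_nat_of_succ_le (fun n => by rw [hVs]; exact inf_le_left)
  have hVW : ∀ n, V n ≤ W n := by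
    intro n
    cases n with
    | zero => rw [hV0]; exact inf_le_right
    | succ k => rw [hVs]; exact inf_le_right
  have hVb : ∀ T ∈ 𝓝 (0 : N), ∃ n, ∀ m, n ≤ m → (V m : Set N) ⊆ T := by
    intro T hT
    obtain ⟨n, -, hn⟩ := hB.toHasBasis.mem_iff.mp hT
    exact ⟨n, fun m hm x hx => hn (hW n (hVW n (hVanti hm hx)))⟩
  have hC : ∀ n, closure (u '' (V n : Set N)) ∈ 𝓝 (0 : M) :=
    fun n => closure_mem_nhds u (V n) (h (V n))
  have hsub0 : closure (u '' (V 0 : Set N)) ⊆ u '' (V₀ : Set N) := by
    intro y hy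
    have step : ∀ n (s : N), y - u s ∈ closure (u '' (V n : Set N)) →
        ∃ s' : N, s' - s ∈ V n ∧ y - u s' ∈ closure (u '' (V (n+1) : Set N)) := by
      intro n s hs
      have hnb : {w : M | (y - u s) - w ∈ closure (u '' (V (n+1) : Set N))} ∈ 𝓝 (y - u s) := by
        have hc : ContinuousAt (fun w : M => (y - u s) - w) (y - u s) :=
          (continuous_const.sub continuous_id).continuousAt
        have h0 : closure (u '' (V (n+1) : Set N)) ∈ 𝓝 ((fun w : M => (y - u s) - w) (y - u s)) := by
          simpa using hC (n+1)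
        exact hc.preimage_mem_nhds h0
      obtain ⟨w, hw1, hw2⟩ := mem_closure_iff_nhds.mp hs _ hnb
      obtain ⟨x, hx, rfl⟩ := hw2
      refine ⟨s + x, by simpa using hx, ?_⟩
      have e : y - u (s + x) = (y - u s) - u x := by rw [map_add]; abel
      rw [e]; exact hw1
    choose! g hg1 hg2 using step
    set s : ℕ → N := sseq g with hsdef
    have hs0 : s 0 = 0 := rfl
    have hss : ∀ n, s (n+1) = g n (s n) := fun n => rfl
    have hinv : ∀ n, y - u (s n) ∈ closure (u '' (V n : Set N)) := by
      intro n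
      induction n with
      | zero => rw [hs0, map_zero, sub_zero]; exact hy
      | succ k ih => rw [hss]; exact hg2 k (s k) ih
    have hdiff : ∀ n, s (n+1) - s n ∈ V n := fun n => by rw [hss]; exact hg1 n (s n) (hinv n)
    have hmem : ∀ n m, n ≤ m → s m - s n ∈ V n := by
      intro n m hnm
      induction m, hnm using Nat.le_induction with
      | base => simp
      | succ m hm ih =>
        have e : s (m+1) - s n = (s (m+1) - s m) + (s m - s n) := by abel
        rw [e]
        exact add_mem (hVanti hm (hdiff m)) ih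
    have hcau : CauchySeq s := by
      rw [cauchySeq_iff_tendsto, uniformity_eq_comap_nhds_zero N, tendsto_comap_iff]
      intro T hT
      obtain ⟨n, hn⟩ := hVb T hT
      rw [mem_map, mem_atTop_sets]
      refine ⟨(n, n), fun p hp => ?_⟩
      have h1 := hmem n p.1 hp.1
      have h2 := hmem n p.2 hp.2
      have e : s p.2 - s p.1 = (s p.2 - s n) - (s p.1 - s n) := by abel
      show s p.2 - s p.1 ∈ T
      rw [e]
      exact hn n le_rfl (sub_mem h2 h1)
    obtain ⟨t, ht⟩ := cauchySeq_tendsto_of_complete hcau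
    have hsV0 : ∀ n, s n ∈ (V 0 : Set N) := fun n => by
      have := hmem 0 n (Nat.zero_le n)
      rw [hs0, sub_zero] at this
      exact this
    have htV0 : t ∈ (V 0 : Set N) :=
      (V 0).isClosed.mem_of_tendsto ht (Eventually.of_forall hsV0)
    have hlim1 : Tendsto (fun n => y - u (s n)) atTop (𝓝 (y - u t)) :=
      tendsto_const_nhds.sub ((hu.tendsto t).comp ht)
    have hlim2 : Tendsto (fun n => y - u (s n)) atTop (𝓝 0) := by
      intro T hT
      obtain ⟨T', hT', hT'c, hT'T⟩ := exists_mem_nhds_isClosed_subset hT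
      have hpre : u ⁻¹' T' ∈ 𝓝 (0 : N) := by
        have hc := hu.continuousAt (x := (0:N))
        exact hc.preimage_mem_nhds (by simpa using hT')
      obtain ⟨n, hn⟩ := hVb _ hpre
      rw [mem_map, mem_atTop_sets]
      refine ⟨n, fun m hm => hT'T ?_⟩
      have hsub : closure (u '' (V m : Set N)) ⊆ T' := by
        apply hT'c.closure_subset_iff.mpr
        rintro _ ⟨x, hx, rfl⟩
        exact hn m hm hx
      exact hsub (hinv m)
    have hyt : y - u t = 0 := tendsto_nhds_unique hlim1 hlim2
    refine ⟨t, ?_, ?_⟩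
    · have hle : V 0 ≤ V₀ := by rw [hV0]; exact inf_le_left
      exact hle htV0
    · rw [sub_eq_zero] at hyt; exact hyt.symm
  exact Filter.mem_of_superset (hC 0) hsub0

theorem isOpenMap_of (u : N →+ M) (hu : Continuous u)
    (h : ∀ V : OpenAddSubgroup N, ¬ IsNowhereDense (u '' (V : Set N))) : IsOpenMap u := by
  rw [isOpenMap_iff_nhds_le]
  intro a S hS
  rw [mem_map] at hS
  have h0 : {z : N | a + z ∈ u ⁻¹' S} ∈ 𝓝 (0 : N) := by
    have hc : ContinuousAt (fun z : N => a + z) 0 :=
      (continuous_const.add continuous_id).continuousAt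
    have h1 : u ⁻¹' S ∈ 𝓝 ((fun z : N => a + z) 0) := by simpa using hS
    exact hc.preimage_mem_nhds h1
  obtain ⟨V, hV⟩ := NonarchimedeanAddGroup.is_nonarchimedean _ h0
  have h1 := image_mem_nhds u hu h V
  have h2 : {w : M | w - u a ∈ u '' (V : Set N)} ∈ 𝓝 (u a) := by
    have hc : ContinuousAt (fun w : M => w - u a) (u a) :=
      (continuous_id.sub continuous_const).continuousAt
    have h3 : u '' (V : Set N) ∈ 𝓝 ((fun w : M => w - u a) (u a)) := by simpa using h1
    exact hc.preimage_mem_nhds h3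
  refine Filter.mem_of_superset h2 ?_
  intro w hw
  obtain ⟨v, hv, hvw⟩ := hw
  have h3 : u (a + v) ∈ S := hV hv
  rw [map_add, hvw] at h3
  simpa using h3

theorem main (u : N →+ M) (hu : Continuous u) :
    Xor (IsOpenMap u) (∃ V : OpenAddSubgroup N, IsNowhereDense (u '' (V : Set N))) := by
  by_cases h : ∃ V : OpenAddSubgroup N, IsNowhereDense (u '' (V : Set N))
  · right
    refine ⟨h, fun hopen => ?_⟩
    obtain ⟨V, hV⟩ := h
    have ho : IsOpen (u '' (V : Set N)) := hopen _ V.isOpen
    have hsub : u '' (V : Set N) ⊆ interior (closure (u '' (V : Set N))) :=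
      interior_maximal subset_closure ho
    have h0 : (0 : M) ∈ u '' (V : Set N) := ⟨0, zero_mem V, map_zero u⟩
    have h1 := hsub h0
    have hV' : interior (closure (u '' (V : Set N))) = ∅ := hV
    rw [hV'] at h1
    exact Set.notMem_empty _ h1
  · left
    push_neg at h
    exact ⟨isOpenMap_of u hu h, fun h' => by obtain ⟨V, hV⟩ := h'; exact h V hV⟩

end Groth.Agent.Lib.OpenMapNA
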