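import Mathlib
import Groth.Prelude
import Groth.Agent.Lib.PerfMorPush_helper3
import Groth.Agent.Lib.HomVan3_lead
import Groth.Agent.Lib.RDerTri_helper3
import Groth.Agent.Lib.LpullAdj_helper3
import Groth.Agent.Lib.RpushCohD_helper3

/-!
# Higher direct images from an open subscheme of a proper scheme (helper3; S5186)

* `isCohD_Rpush_of_isProper`: `Rf_*` preserves `D^b_Coh` for `f` proper over a locally Noetherian
  base.
* `main5186`.
-/

set_option autoImplicit false
set_option linter.all false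
set_option maxHeartbeats 1600000
set_option backward.isDefEq.respectTransparency false
set_option backward.isDefEq.respectTransparency.types false
set_option backward.defeqAttrib.useBackward true

universe u
open CategoryTheory CategoryTheory.Limits AlgebraicGeometry Opposite TopologicalSpace
open DerivedCategory CategoryTheory.Pretriangulated

attribute [local instance] HasDerivedCategory.standard

namespace Groth.Agent.Lib.OpenProperCohH3

open Groth.Agent.Lib.DCohLocLead Groth.Agent.Lib.RelPCPropH3 Groth.Agent.Lib.BCOpenL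
  Groth.Agent.Lib.HomVanL

noncomputable section

variable {X S : Scheme.{u}}

/-- `Rf_*` preserves `D^b_Coh` for `f` proper over a locally Noetherian base -/
theorem isCohD_Rpush_of_isProper [IsLocallyNoetherian S] (f : X ⟶ S) [IsProper f]
    [DCoh.HasRpush f] (E : DCoh.D X) (a b : ℤ) (ha : E.IsGE a) (hb : E.IsLE b)
    (hE : DCoh.IsCohD E) : DCoh.IsCohD ((DCoh.Rpush f).obj E) := by
  haveI : IsLocallyNoetherian X := LocallyOfFiniteType.isLocallyNoetherian f
  have key : ∀ V : S.affineOpens,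
      DCoh.IsCohD ((DD V.1.ι).obj ((DCoh.Rpush f).obj E)) := by
    intro V
    haveI : CompactSpace (V.1 : Scheme.{u}) := isCompact_iff_compactSpace.mp V.2.isCompact
    haveI : IsNoetherian (V.1 : Scheme.{u}) := {}
    haveI : IsProper (f ∣_ V.1) :=
      IsZariskiLocalAtTarget.restrict (P := @IsProper) inferInstance V.1
    haveI := hasRpush (f ∣_ V.1)
    obtain ⟨b1⟩ := main6508 f V.1
    let E' : DCoh.D ((f ⁻¹ᵁ V.1 : X.Opens) : Scheme.{u}) := (DD (f ⁻¹ᵁ V.1).ι).obj E
    have e : (DD V.1.ι).obj ((DCoh.Rpush f).obj E) ≅ (DCoh.Rpush (f ∣_ V.1)).obj E' :=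
      b1.app E
    haveI : E'.IsGE a := isGE_DD _ E a ha
    haveI : E'.IsLE b := isLE_DD _ E b hb
    have hcoh' : DCoh.IsCohD E' := isCohD_DD _ E hE
    obtain ⟨h1, -, -⟩ := Groth.Agent.Lib.RpushCohDH3.main1001 (f ∣_ V.1) E' a b hcoh'
      (fun i => isProperOver_support _ _ (hcoh' i).2)
    exact isCohD_of_iso e.symm h1
  apply isCohD_of_forall_point
  intro y
  obtain ⟨V, hV, hyV, -⟩ := Opens.isBasis_iff_nbhd.mp S.isBasis_affineOpens (Opens.mem_top y)
  exact ⟨V, hyV, key ⟨V, hV⟩⟩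

/-- **S5186** -/
theorem main5186 (f : X ⟶ S) [IsProper f] [IsLocallyNoetherian S] (U : X.Opens)
    [HasInjectiveResolutions (U : Scheme.{u}).Modules] [HasInjectiveResolutions X.Modules]
    (F : (U : Scheme.{u}).Modules) (n : ℕ)
    (hg : ∀ i : ℕ, i ≤ n → Coh.IsCoh ((Coh.Rpush U.ι i).obj F)) (i : ℕ) (hi : i ≤ n) :
    Coh.IsCoh ((Coh.Rpush (U.ι ≫ f) i).obj F) := by
  haveI : IsLocallyNoetherian X := LocallyOfFiniteType.isLocallyNoetherian f
  haveI := Groth.Agent.Lib.MVPushL.grothendieck_modules X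
  haveI := hasRpush f
  haveI := hasRpush U.ι
  haveI := hasRpush (U.ι ≫ f)
  let F₀ : DCoh.D (U : Scheme.{u}) := DCoh.inD (U : Scheme.{u}) F
  let E : DCoh.D X := (DCoh.Rpush U.ι).obj F₀
  haveI hE0 : E.IsGE 0 := Groth.Agent.Lib.RpushCohDH3.isGE_Rpush U.ι F₀ 0
  -- the truncation triangle
  let T := ((tX X).triangleLEGE (n : ℤ) (n + 1) rfl).obj E
  have hT : T ∈ distTriang (DCoh.D X) := (tX X).triangleLEGE_distinguished (n : ℤ) (n + 1) rfl E
  let A : DCoh.D X := T.obj₁
  let B : DCoh.D X := T.obj₃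
  haveI hAle : A.IsLE (n : ℤ) := by
    show (tX X).IsLE (((tX X).truncLE (n : ℤ)).obj E) (n : ℤ)
    infer_instance
  haveI hBge : B.IsGE ((n : ℤ) + 1) := by
    show (tX X).IsGE (((tX X).truncGE ((n : ℤ) + 1)).obj E) ((n : ℤ) + 1)
    infer_instance
  have hAiso : ∀ j : ℤ, j ≤ n → IsIso ((homologyFunctor X.Modules j).map T.mor₁) := fun j hj =>
    Groth.Agent.Lib.TruncSect_helper7.isIso_homology_truncLTι E ((n : ℤ) + 1) j (by omega)
  -- `A` is in `D^b_Coh`
  have hEcoh : ∀ j : ℤ, j ≤ n → Coh.IsCoh (DCoh.HD E j) := by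
    intro j hj
    by_cases hj0 : j < 0
    · exact CohDevH8.isCoh_of_isZero (DerivedCategory.isZero_of_isGE E 0 j hj0)
    · obtain ⟨k, rfl⟩ := Int.eq_ofNat_of_zero_le (not_lt.mp hj0)
      obtain ⟨e⟩ := Groth.Agent.Lib.RpushCohDH3.nonempty_HD_Rpush_inD_iso U.ι F k
      exact isCoh_of_iso e (hg k (by exact_mod_cast hj))
  have hAcoh : DCoh.IsCohD A := by
    intro j
    by_cases hj : j ≤ n
    · haveI := hAiso j hj
      exact isCoh_of_iso (asIso ((homologyFunctor X.Modules j).map T.mor₁)) (hEcoh j hj)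
    · exact CohDevH8.isCoh_of_isZero (DerivedCategory.isZero_of_isLE A n j (by omega))
  have hAge : A.IsGE 0 := by
    rw [DerivedCategory.isGE_iff]
    intro j hj
    haveI := hAiso j (by omega)
    exact IsZero.of_iso (DerivedCategory.isZero_of_isGE E 0 j hj)
      (asIso ((homologyFunctor X.Modules j).map T.mor₁))
  have hRA : DCoh.IsCohD ((DCoh.Rpush f).obj A) :=
    isCohD_Rpush_of_isProper f A 0 n hAge hAle hAcoh
  -- the image triangle
  obtain ⟨T', hT', e₁, e₂, e₃, hc1, -⟩ :=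
    Groth.Agent.Lib.RDerTriH3.exists_distTriang (Scheme.Modules.pushforward f) T hT
  haveI hRBge : ((DCoh.Rpush f).obj B).IsGE ((n : ℤ) + 1) :=
    Groth.Agent.Lib.RpushCohDH3.isGE_Rpush f B ((n : ℤ) + 1)
  have hz : ∀ j : ℤ, j < (n : ℤ) + 1 → IsZero ((homologyFunctor S.Modules j).obj T'.obj₃) :=
    fun j hj => IsZero.of_iso
      (DerivedCategory.isZero_of_isGE ((DCoh.Rpush f).obj B) ((n : ℤ) + 1) j hj)
      ((homologyFunctor S.Modules j).mapIso e₃)
  have hj : ((i : ℕ) : ℤ) < (n : ℤ) + 1 := by exact_mod_cast Nat.lt_succ_of_le hi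
  haveI : Mono ((homologyFunctor S.Modules (i : ℤ)).map T'.mor₁) :=
    (HomologySequence.mono_homologyMap_mor₁_iff _ hT' ((i : ℤ) - 1) i (by omega)).2
      ((hz ((i : ℤ) - 1) (by omega)).eq_of_src _ _)
  haveI : Epi ((homologyFunctor S.Modules (i : ℤ)).map T'.mor₁) :=
    (HomologySequence.epi_homologyMap_mor₁_iff _ hT' (i : ℤ)).2 ((hz i hj).eq_of_tgt _ _)
  haveI : IsIso ((homologyFunctor S.Modules (i : ℤ)).map T'.mor₁) := isIso_of_mono_of_epi _
  have h1 : Coh.IsCoh ((homologyFunctor S.Modules (i : ℤ)).obj T'.obj₁) :=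
    isCoh_of_iso ((homologyFunctor S.Modules (i : ℤ)).mapIso e₁) (hRA i)
  have h2 : Coh.IsCoh ((homologyFunctor S.Modules (i : ℤ)).obj T'.obj₂) :=
    isCoh_of_iso (asIso ((homologyFunctor S.Modules (i : ℤ)).map T'.mor₁)).symm h1
  have h3 : Coh.IsCoh (DCoh.HD ((DCoh.Rpush f).obj E) i) :=
    isCoh_of_iso ((homologyFunctor S.Modules (i : ℤ)).mapIso e₂).symm h2
  obtain ⟨c⟩ := Groth.Agent.Lib.LpullAdjH3.nonempty_Rpush_comp_iso U.ι f
  have h4 : Coh.IsCoh (DCoh.HD ((DCoh.Rpush (U.ι ≫ f)).obj F₀) i) :=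
    isCoh_of_iso ((homologyFunctor S.Modules (i : ℤ)).mapIso (c.app F₀)).symm h3
  obtain ⟨e⟩ := Groth.Agent.Lib.RpushCohDH3.nonempty_HD_Rpush_inD_iso (U.ι ≫ f) F i
  exact isCoh_of_iso e.symm h4

end

end Groth.Agent.Lib.OpenProperCohH3
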