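import Groth.Statements.S19519
import Groth.Agent.Lib.OrbitProper_lead
import Groth.Agent.Lib.KPtsOrbit_lead
import Groth.Agent.Lib.AffDim6_helper8
import Groth.Agent.Lib.WeilCohG3_helper9
import Groth.Agent.Lib.TopDim_lead
import Groth.Agent.Lib.AbSubvar_lead

/-! # An orbit of minimal dimension is closed (lead) -/

set_option backward.isDefEq.respectTransparency false
set_option backward.isDefEq.respectTransparency.types false
set_option linter.unusedSimpArgs false
set_option linter.unusedVariables false
set_option linter.unusedSectionVars false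
set_option linter.style.longLine false
set_option linter.style.haveILetI false
set_option maxHeartbeats 800000

universe u

open CategoryTheory CategoryTheory.Limits MonoidalCategory CartesianMonoidalCategory MonObj GrpObj
  AlgebraicGeometry Opposite Topology TopologicalSpace

namespace Groth.Agent.Lib.OrbitMinDim

open Groth.Agent.Lib.TorsorSeq Groth.Agent.Lib.GenFlatHom Groth.Agent.Lib.ClosedOrbit
  Groth.Agent.TopDimLead

section top

variable {T : Type u} [TopologicalSpace T]

/-- a nonempty subsingleton space has dimension 0 -/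
theorem dim_subsingleton [Subsingleton T] [Nonempty T] : topologicalKrullDim T = 0 := by
  apply le_antisymm
  · apply dim_le_of_forall
    intro l
    have hl : l.length = 0 := by
      by_contra h
      have h0 : (0 : Fin (l.length + 1)) < Fin.last l.length :=
        Fin.lt_iff_val_lt_val.mpr (by simp only [Fin.val_zero, Fin.val_last]; omega)
      have hlt : l 0 < l (Fin.last _) := l.strictMono h0
      apply hlt.ne
      apply IrreducibleCloseds.ext
      ext t
      constructor
      · intro _
        obtain ⟨s, hs⟩ := (l (Fin.last _)).isIrreducible.nonempty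
        rwa [Subsingleton.elim t s]
      · intro _
        obtain ⟨s, hs⟩ := (l 0).isIrreducible.nonempty
        rwa [Subsingleton.elim t s]
    rw [hl]; simp
  · exact dim_nonneg_of_nonempty

theorem exists_longer [NoetherianSpace T] (W : Set T) (hW : IsOpen W) (hd : Dense W)
    (l : LTSeries (IrreducibleCloseds T)) (hl : (l.last : Set T) ⊆ Wᶜ) :
    ((l.length + 1 : ℕ) : WithBot ℕ∞) ≤ topologicalKrullDim T := by
  obtain ⟨C, hCpre, hZC, hCmax⟩ :=
    exists_preirreducible (l.last : Set T) l.last.isIrreducible.isPreirreducible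
  have hCne : C.Nonempty := l.last.isIrreducible.nonempty.mono hZC
  have hCirr : IsIrreducible C := ⟨hCne, hCpre⟩
  have hCcl : IsClosed C := by
    have := hCmax (closure C) hCpre.closure subset_closure
    rw [← this]; exact isClosed_closure
  have hCW : (C ∩ W).Nonempty := by
    have hfin : (irreducibleComponents T).Finite := NoetherianSpace.finite_irreducibleComponents
    have hfin' : (irreducibleComponents T \ {C}).Finite := hfin.subset Set.diff_subset
    obtain ⟨R, hR⟩ : ∃ R : Set T, R = ⋃ s ∈ (irreducibleComponents T \ {C}), s := ⟨_, rfl⟩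
    have hRcl : IsClosed R := by
      rw [hR]
      exact Set.Finite.isClosed_biUnion hfin'
        (fun s hs => isClosed_of_mem_irreducibleComponents s hs.1)
    have hCR : ¬ C ⊆ R := by
      intro hsub
      obtain ⟨z, hz, hCz⟩ := (isIrreducible_iff_sUnion_isClosed.mp hCirr) hfin'.toFinset
        (by
          intro z hz
          rw [Set.Finite.mem_toFinset] at hz
          exact isClosed_of_mem_irreducibleComponents z hz.1)
        (by
          intro t ht
          have ht' := hsub ht
          rw [hR] at ht'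
          obtain ⟨s, hs, hts⟩ := Set.mem_iUnion₂.mp ht'
          exact Set.mem_sUnion.mpr ⟨s, by simpa using hs, hts⟩)
      rw [Set.Finite.mem_toFinset] at hz
      have hzirr : IsIrreducible z := hz.1.1
      have := hCmax z hzirr.isPreirreducible hCz
      exact hz.2 (Set.mem_singleton_iff.mpr this)
    obtain ⟨c, hcC, hcR⟩ := Set.not_subset.mp hCR
    have hRC : Rᶜ ⊆ C := by
      intro t ht
      have h1 : t ∈ ⋃₀ irreducibleComponents T := by rw [sUnion_irreducibleComponents]; trivial
      obtain ⟨C', hC', htC'⟩ := h1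
      by_cases h : C' = C
      · rw [← h]; exact htC'
      · exfalso
        apply ht
        rw [hR]
        exact Set.mem_iUnion₂.mpr ⟨C', ⟨hC', h⟩, htC'⟩
    obtain ⟨w, hwR, hwW⟩ := hd.inter_open_nonempty Rᶜ hRcl.isOpen_compl ⟨c, hcR⟩
    exact ⟨w, hRC hwR, hwW⟩
  have hle : l.last ≤ (⟨C, hCirr, hCcl⟩ : IrreducibleCloseds T) := fun t ht => hZC ht
  have hlt : l.last < (⟨C, hCirr, hCcl⟩ : IrreducibleCloseds T) := by
    refine lt_of_le_of_ne hle ?_
    intro heq
    obtain ⟨w, hwC, hwW⟩ := hCW
    have h2 : (l.last : Set T) = C :=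
      congrArg (fun z : IrreducibleCloseds T => (z : Set T)) heq
    have : w ∈ (l.last : Set T) := by rw [h2]; exact hwC
    exact hl this hwW
  have := Order.LTSeries.length_le_krullDim (l.snoc ⟨C, hCirr, hCcl⟩ hlt)
  rw [RelSeries.snoc_length] at this
  exact this

theorem dim_compl_lt [NoetherianSpace T] [Nonempty T] (W : Set T) (hW : IsOpen W) (hd : Dense W)
    (hfin : topologicalKrullDim T < ⊤) :
    topologicalKrullDim ↥(Wᶜ) < topologicalKrullDim T := by
  obtain ⟨d, hdim⟩ :=
    Groth.Agent.Lib.AbSubvar.nat_of_bounds _ (dim_nonneg_of_nonempty (X := T)) hfin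
  by_contra hcon
  rw [not_lt, hdim] at hcon
  have hcon' : ((d : ℕ) : WithBot ℕ∞) ≤ Order.krullDim (IrreducibleCloseds ↥(Wᶜ)) := by
    exact_mod_cast hcon
  obtain ⟨l, hl⟩ := Order.le_krullDim_iff.mp hcon'
  have hWc : IsClosed (Wᶜ : Set T) := hW.isClosed_compl
  let g : IrreducibleCloseds ↥(Wᶜ) → IrreducibleCloseds T := fun Z =>
    ⟨Subtype.val '' (Z : Set ↥(Wᶜ)), Z.isIrreducible.image _ continuous_subtype_val.continuousOn,
      hWc.isClosedEmbedding_subtypeVal.isClosedMap _ Z.isClosed⟩
  have hg : StrictMono g := by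
    intro Z1 Z2 h12
    have hle : (Z1 : Set ↥(Wᶜ)) ⊆ Z2 := h12.le
    have hle' : g Z1 ≤ g Z2 := fun t ht => Set.image_mono hle ht
    refine lt_of_le_of_ne hle' ?_
    intro heq
    apply h12.ne
    apply IrreducibleCloseds.ext
    have h2 : Subtype.val '' (Z1 : Set ↥(Wᶜ)) = Subtype.val '' (Z2 : Set ↥(Wᶜ)) :=
      congrArg (fun z : IrreducibleCloseds T => (z : Set T)) heq
    exact Set.image_injective.mpr Subtype.val_injective h2
  have hlast : ((l.map g hg).last : Set T) ⊆ Wᶜ := by
    rw [LTSeries.last_map]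
    rintro _ ⟨z, -, rfl⟩
    exact z.2
  have h3 := exists_longer W hW hd (l.map g hg) hlast
  rw [LTSeries.map_length, hl, hdim] at h3
  have : (d + 1 : ℕ) ≤ d := by exact_mod_cast h3
  omega

end top

section sch

variable (k : Type u) [Field k]

theorem main19519 [IsAlgClosed k]
    (G X : Over (Spec (CommRingCat.of k))) [GrpObj G] [Smooth G.hom] [QuasiCompact G.hom]
    [LocallyOfFiniteType X.hom] [QuasiCompact X.hom] (a : AlgGrp.Action G X)
    (x : 𝟙_ (Over (Spec (CommRingCat.of k))) ⟶ X)
    (hmin : ∀ y : 𝟙_ (Over (Spec (CommRingCat.of k))) ⟶ X,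
      topologicalKrullDim (Set.range (a.orbitMap x).left.base) ≤
        topologicalKrullDim (Set.range (a.orbitMap y).left.base)) :
    IsClosed (Set.range (a.orbitMap x).left.base) := by
  haveI : LocallyOfFiniteType G.hom := inferInstance
  haveI : IsNoetherian X.left := isNoetherian_of_ft X
  haveI : NoetherianSpace X.left := inferInstance
  haveI : Subsingleton ↥(Spec (CommRingCat.of k)) :=
    inferInstanceAs (Subsingleton (PrimeSpectrum k))
  have hopen : IsOpenMap (snd G X).left := by
    haveI : UniversallyOpen G.hom := inferInstance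
    haveI : UniversallyOpen (pullback.snd G.hom X.hom) := inferInstance
    exact (pullback.snd G.hom X.hom).isOpenMap
  obtain ⟨O, hO⟩ : ∃ O : Set X.left, O = Set.range (a.orbitMap x).left := ⟨_, rfl⟩
  have hOb : Set.range (a.orbitMap x).left.base = O := by rw [hO]
  rw [hOb]
  have hOst : Stable a O := by rw [hO]; exact st_orbit a x
  have hOne : O.Nonempty := by
    rw [hO]
    obtain ⟨t⟩ : Nonempty ↥(Spec (CommRingCat.of k)) :=
      inferInstanceAs (Nonempty (PrimeSpectrum k))
    exact ⟨_, ⟨(η[G]).left t, rfl⟩⟩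
  have hlc : IsLocallyClosed O := by
    rw [hO]; exact Groth.Agent.Lib.KPtsOrbit.main7984 k G X a x
  obtain ⟨U, Z, hU, hZ, hUZ⟩ := hlc
  obtain ⟨F, hF⟩ : ∃ F : Set X.left, F = closure O := ⟨_, rfl⟩
  have hFcl : IsClosed F := by rw [hF]; exact isClosed_closure
  have hFst : Stable a F := by rw [hF]; exact st_closure a hopen hOst
  have hOF : O ⊆ F := by rw [hF]; exact subset_closure
  have hFZ : F ⊆ Z := by
    rw [hF]; exact closure_minimal (hUZ ▸ Set.inter_subset_right) hZ
  have hFU : F ∩ U = O := by
    apply Set.Subset.antisymm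
    · rintro t ⟨htF, htU⟩
      rw [hUZ]; exact ⟨htU, hFZ htF⟩
    · intro t ht
      refine ⟨hOF ht, ?_⟩
      rw [hUZ] at ht; exact ht.1
  by_contra hncl
  have hDne : (F ∩ Uᶜ).Nonempty := by
    by_contra hempty
    apply hncl
    have hFO : F ⊆ O := by
      intro t ht
      by_contra htO
      apply hempty
      refine ⟨t, ht, fun htU => htO ?_⟩
      rw [← hFU]; exact ⟨ht, htU⟩
    rw [Set.Subset.antisymm hOF hFO]; exact hFcl
  have hDcl : IsClosed (F ∩ Uᶜ) := hFcl.inter hU.isClosed_compl
  have hDeq : F ∩ Uᶜ = F ∩ Oᶜ := by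
    ext t
    constructor
    · rintro ⟨h1, h2⟩
      exact ⟨h1, fun h3 => h2 (by rw [← hFU] at h3; exact h3.2)⟩
    · rintro ⟨h1, h2⟩
      exact ⟨h1, fun h3 => h2 (by rw [← hFU]; exact ⟨h1, h3⟩)⟩
  have hDst : Stable a (F ∩ Uᶜ) := by
    rw [hDeq]; exact st_inter a hFst (st_compl a hOst)
  obtain ⟨y₁, hy₁D, hy₁cl⟩ := hDcl.exists_closed_singleton hDne
  obtain ⟨y, hy⟩ : ∃ y : 𝟙_ (Over (Spec (CommRingCat.of k))) ⟶ X,
      ∀ t : (𝟙_ (Over (Spec (CommRingCat.of k)))).left, y.left t = y₁ :=
    ⟨Over.homMk (pointOfClosedPoint X.hom y₁ hy₁cl)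
      (by simpa using pointOfClosedPoint_comp X.hom y₁ hy₁cl),
      fun t => pointOfClosedPoint_apply X.hom y₁ hy₁cl t⟩
  have hOy : Set.range (a.orbitMap y).left ⊆ F ∩ Uᶜ :=
    orbit_sub a hDst y (fun t => by rw [hy t]; exact hy₁D)
  have h1 : topologicalKrullDim ↥O ≤ topologicalKrullDim ↥(F ∩ Uᶜ) := by
    have h := hmin y
    rw [hOb] at h
    exact h.trans (dim_mono hOy)
  -- the reduced scheme structure on `F`
  obtain ⟨F', j, hj1, hj2, hj3⟩ := Groth.Agent.Lib.OrbitProper.exists_red_sub X F hFcl
  haveI := hj1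
  haveI : LocallyOfFiniteType F'.hom := by
    have h : LocallyOfFiniteType (j.left ≫ X.hom) := inferInstance
    rwa [Over.w j] at h
  haveI : QuasiCompact F'.hom := by
    have h : QuasiCompact (j.left ≫ X.hom) := inferInstance
    rwa [Over.w j] at h
  haveI : IsNoetherian F'.left := isNoetherian_of_ft F'
  haveI : NoetherianSpace F'.left := inferInstance
  haveI : CompactSpace F'.left := inferInstance
  obtain ⟨f₀, hf₀⟩ := hOne
  haveI : Nonempty F'.left := by
    have h : f₀ ∈ Set.range j.left.base := by rw [hj3]; exact hOF hf₀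
    obtain ⟨t, -⟩ := h
    exact ⟨t⟩
  have hemb : Topology.IsClosedEmbedding j.left.base := j.left.isClosedEmbedding
  obtain ⟨U', hU'⟩ : ∃ U' : F'.left.Opens, (U' : Set F'.left) = j.left.base ⁻¹' U :=
    ⟨j.left ⁻¹ᵁ ⟨U, hU⟩, rfl⟩
  have hdense : Dense (U' : Set F'.left) := by
    intro t
    rw [hemb.isEmbedding.isInducing.closure_eq_preimage_closure_image, hU']
    show j.left.base t ∈ closure (j.left.base '' (j.left.base ⁻¹' U))
    have h2 : j.left.base '' (j.left.base ⁻¹' U) = O := by
      rw [Set.image_preimage_eq_inter_range, hj3, Set.inter_comm U F, hFU]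
    rw [h2, ← hF, ← hj3]
    exact ⟨t, rfl⟩
  have hrι : Set.range U'.ι.base = (U' : Set F'.left) := Scheme.Opens.range_ι U'
  -- dimension of the dense open
  have hdimU : topologicalKrullDim ↥U'.toScheme = topologicalKrullDim F'.left := by
    haveI : NoetherianSpace ↥U'.toScheme := U'.ι.isOpenEmbedding.isInducing.noetherianSpace
    haveI : QuasiCompact U'.ι := inferInstance
    have h := Groth.Agent.Lib.AffDimH8.main10884 k F'.hom U'.ι
      (by
        show Dense (Set.range U'.ι.base)
        rw [hrι]; exact hdense) 0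
      (by
        intro y hne
        haveI : Subsingleton ↥(U'.ι.base ⁻¹' {y}) :=
          Set.subsingleton_coe _ |>.mpr
            (Set.subsingleton_singleton.preimage U'.ι.isOpenEmbedding.injective)
        haveI : Nonempty ↥(U'.ι.base ⁻¹' {y}) := hne.to_subtype
        rw [dim_subsingleton]; simp)
    rw [h]; simp
  have hdimO : topologicalKrullDim ↥O = topologicalKrullDim ↥U'.toScheme := by
    have he : Topology.IsEmbedding (fun u : ↥U'.toScheme => j.left.base (U'.ι.base u)) :=
      hemb.isEmbedding.comp U'.ι.isOpenEmbedding.isEmbedding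
    have hr : Set.range (fun u : ↥U'.toScheme => j.left.base (U'.ι.base u)) = O := by
      ext t
      constructor
      · rintro ⟨u, rfl⟩
        rw [← hFU]
        refine ⟨?_, ?_⟩
        · rw [← hj3]; exact ⟨_, rfl⟩
        · have h3 : U'.ι.base u ∈ (U' : Set F'.left) := by rw [← hrι]; exact ⟨u, rfl⟩
          rw [hU'] at h3
          exact h3
      · intro ht
        rw [← hFU] at ht
        obtain ⟨htF, htU⟩ := ht
        rw [← hj3] at htF
        obtain ⟨p, rfl⟩ := htF
        have h3 : p ∈ (U' : Set F'.left) := by rw [hU']; exact htU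
        rw [← hrι] at h3
        obtain ⟨u, rfl⟩ := h3
        exact ⟨u, rfl⟩
    exact (IsHomeomorph.topologicalKrullDim_eq _
      (he.toHomeomorph.trans (Homeomorph.setCongr hr)).isHomeomorph).symm
  have hdimD : topologicalKrullDim ↥(F ∩ Uᶜ) = topologicalKrullDim ↥((U' : Set F'.left)ᶜ) := by
    have he : Topology.IsEmbedding (fun d : ↥((U' : Set F'.left)ᶜ) => j.left.base d.1) :=
      hemb.isEmbedding.comp Topology.IsEmbedding.subtypeVal
    have hr : Set.range (fun d : ↥((U' : Set F'.left)ᶜ) => j.left.base d.1) = F ∩ Uᶜ := by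
      ext t
      constructor
      · rintro ⟨d, rfl⟩
        refine ⟨?_, ?_⟩
        · rw [← hj3]; exact ⟨_, rfl⟩
        · intro htU
          exact d.2 ((Set.ext_iff.mp hU' d.1).mpr htU)
      · rintro ⟨htF, htU⟩
        rw [← hj3] at htF
        obtain ⟨p, rfl⟩ := htF
        refine ⟨⟨p, ?_⟩, rfl⟩
        intro hp
        rw [hU'] at hp
        exact htU hp
    exact (IsHomeomorph.topologicalKrullDim_eq _
      (he.toHomeomorph.trans (Homeomorph.setCongr hr)).isHomeomorph).symm
  have hfin : topologicalKrullDim F'.left < ⊤ := Groth.Agent.WCF9.topDim_lt_top F'.left F'.hom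
  have h2 := dim_compl_lt (U' : Set F'.left) U'.isOpen hdense hfin
  have h3 : topologicalKrullDim F'.left ≤ topologicalKrullDim ↥((U' : Set F'.left)ᶜ) := by
    rw [← hdimU, ← hdimO, ← hdimD]; exact h1
  exact lt_irrefl _ (lt_of_le_of_lt h3 h2)

end sch

end Groth.Agent.Lib.OrbitMinDim
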