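import Groth.Statements.S16131
import Groth.Agent.Lib.OrbitMinDim_lead

/-! # The boundary of an orbit has smaller dimension (lead) -/

set_option backward.isDefEq.respectTransparency false
set_option backward.isDefEq.respectTransparency.types false
set_option linter.unusedSimpArgs false
set_option linter.unusedVariables false
set_option linter.unusedSectionVars false
set_option linter.style.longLine false
set_option linter.style.haveILetI false
set_option maxHeartbeats 800000

universe u

open CategoryTheory CategoryTheory.Limits MonoidalCategory CartesianMonoidalCategory MonObj GrpObj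
  AlgebraicGeometry Opposite Topology TopologicalSpace

namespace Groth.Agent.Lib.OrbitBoundary

open Groth.Agent.Lib.TorsorSeq Groth.Agent.Lib.GenFlatHom Groth.Agent.Lib.ClosedOrbit
  Groth.Agent.TopDimLead Groth.Agent.Lib.OrbitMinDim

variable (k : Type u) [Field k]

theorem main16131 [IsAlgClosed k]
    (G X : Over (Spec (CommRingCat.of k))) [GrpObj G] [LocallyOfFiniteType G.hom]
    [QuasiCompact G.hom]
    [LocallyOfFiniteType X.hom] [QuasiCompact X.hom] (a : AlgGrp.Action G X)
    (x : 𝟙_ (Over (Spec (CommRingCat.of k))) ⟶ X) :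
    topologicalKrullDim ↥(closure (Set.range (a.orbitMap x).left.base) \
        Set.range (a.orbitMap x).left.base) <
      topologicalKrullDim ↥(Set.range (a.orbitMap x).left.base) := by
  haveI : IsNoetherian X.left := isNoetherian_of_ft X
  haveI : NoetherianSpace X.left := inferInstance
  haveI : Subsingleton ↥(Spec (CommRingCat.of k)) :=
    inferInstanceAs (Subsingleton (PrimeSpectrum k))
  obtain ⟨O, hO⟩ : ∃ O : Set X.left, O = Set.range (a.orbitMap x).left := ⟨_, rfl⟩
  have hOb : Set.range (a.orbitMap x).left.base = O := by rw [hO]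
  rw [hOb]
  have hOne : O.Nonempty := by
    rw [hO]
    obtain ⟨t⟩ : Nonempty ↥(Spec (CommRingCat.of k)) :=
      inferInstanceAs (Nonempty (PrimeSpectrum k))
    exact ⟨_, ⟨(η[G]).left t, rfl⟩⟩
  have hlc : IsLocallyClosed O := by
    rw [hO]; exact Groth.Agent.Lib.KPtsOrbit.main7984 k G X a x
  obtain ⟨U, Z, hU, hZ, hUZ⟩ := hlc
  obtain ⟨F, hF⟩ : ∃ F : Set X.left, F = closure O := ⟨_, rfl⟩
  rw [← hF]
  have hFcl : IsClosed F := by rw [hF]; exact isClosed_closure
  have hOF : O ⊆ F := by rw [hF]; exact subset_closure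
  have hFZ : F ⊆ Z := by
    rw [hF]; exact closure_minimal (hUZ ▸ Set.inter_subset_right) hZ
  have hFU : F ∩ U = O := by
    apply Set.Subset.antisymm
    · rintro t ⟨htF, htU⟩
      rw [hUZ]; exact ⟨htU, hFZ htF⟩
    · intro t ht
      refine ⟨hOF ht, ?_⟩
      rw [hUZ] at ht; exact ht.1
  have hDeq : F \ O = F ∩ Uᶜ := by
    ext t
    constructor
    · rintro ⟨h1, h2⟩
      exact ⟨h1, fun h3 => h2 (by rw [← hFU]; exact ⟨h1, h3⟩)⟩
    · rintro ⟨h1, h2⟩
      exact ⟨h1, fun h3 => h2 (by rw [← hFU] at h3; exact h3.2)⟩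
  rw [hDeq]
  -- the reduced scheme structure on `F`
  obtain ⟨F', j, hj1, hj2, hj3⟩ := Groth.Agent.Lib.OrbitProper.exists_red_sub X F hFcl
  haveI := hj1
  haveI : LocallyOfFiniteType F'.hom := by
    have h : LocallyOfFiniteType (j.left ≫ X.hom) := inferInstance
    rwa [Over.w j] at h
  haveI : QuasiCompact F'.hom := by
    have h : QuasiCompact (j.left ≫ X.hom) := inferInstance
    rwa [Over.w j] at h
  haveI : IsNoetherian F'.left := isNoetherian_of_ft F'
  haveI : NoetherianSpace F'.left := inferInstance
  haveI : CompactSpace F'.left := inferInstance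
  obtain ⟨f₀, hf₀⟩ := hOne
  haveI : Nonempty F'.left := by
    have h : f₀ ∈ Set.range j.left.base := by rw [hj3]; exact hOF hf₀
    obtain ⟨t, -⟩ := h
    exact ⟨t⟩
  have hemb : Topology.IsClosedEmbedding j.left.base := j.left.isClosedEmbedding
  obtain ⟨U', hU'⟩ : ∃ U' : F'.left.Opens, (U' : Set F'.left) = j.left.base ⁻¹' U :=
    ⟨j.left ⁻¹ᵁ ⟨U, hU⟩, rfl⟩
  have hdense : Dense (U' : Set F'.left) := by
    intro t
    rw [hemb.isEmbedding.isInducing.closure_eq_preimage_closure_image, hU']
    show j.left.base t ∈ closure (j.left.base '' (j.left.base ⁻¹' U))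
    have h2 : j.left.base '' (j.left.base ⁻¹' U) = O := by
      rw [Set.image_preimage_eq_inter_range, hj3, Set.inter_comm U F, hFU]
    rw [h2, ← hF, ← hj3]
    exact ⟨t, rfl⟩
  have hrι : Set.range U'.ι.base = (U' : Set F'.left) := Scheme.Opens.range_ι U'
  -- dimension of the dense open
  have hdimU : topologicalKrullDim ↥U'.toScheme = topologicalKrullDim F'.left := by
    haveI : NoetherianSpace ↥U'.toScheme := U'.ι.isOpenEmbedding.isInducing.noetherianSpace
    haveI : QuasiCompact U'.ι := inferInstance
    have h := Groth.Agent.Lib.AffDimH8.main10884 k F'.hom U'.ι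
      (by
        show Dense (Set.range U'.ι.base)
        rw [hrι]; exact hdense) 0
      (by
        intro y hne
        haveI : Subsingleton ↥(U'.ι.base ⁻¹' {y}) :=
          Set.subsingleton_coe _ |>.mpr
            (Set.subsingleton_singleton.preimage U'.ι.isOpenEmbedding.injective)
        haveI : Nonempty ↥(U'.ι.base ⁻¹' {y}) := hne.to_subtype
        rw [dim_subsingleton]; simp)
    rw [h]; simp
  have hdimO : topologicalKrullDim ↥O = topologicalKrullDim ↥U'.toScheme := by
    have he : Topology.IsEmbedding (fun u : ↥U'.toScheme => j.left.base (U'.ι.base u)) :=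
      hemb.isEmbedding.comp U'.ι.isOpenEmbedding.isEmbedding
    have hr : Set.range (fun u : ↥U'.toScheme => j.left.base (U'.ι.base u)) = O := by
      ext t
      constructor
      · rintro ⟨u, rfl⟩
        rw [← hFU]
        refine ⟨?_, ?_⟩
        · rw [← hj3]; exact ⟨_, rfl⟩
        · have h3 : U'.ι.base u ∈ (U' : Set F'.left) := by rw [← hrι]; exact ⟨u, rfl⟩
          rw [hU'] at h3
          exact h3
      · intro ht
        rw [← hFU] at ht
        obtain ⟨htF, htU⟩ := ht
        rw [← hj3] at htF
        obtain ⟨p, rfl⟩ := htF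
        have h3 : p ∈ (U' : Set F'.left) := by rw [hU']; exact htU
        rw [← hrι] at h3
        obtain ⟨u, rfl⟩ := h3
        exact ⟨u, rfl⟩
    exact (IsHomeomorph.topologicalKrullDim_eq _
      (he.toHomeomorph.trans (Homeomorph.setCongr hr)).isHomeomorph).symm
  have hdimD : topologicalKrullDim ↥(F ∩ Uᶜ) = topologicalKrullDim ↥((U' : Set F'.left)ᶜ) := by
    have he : Topology.IsEmbedding (fun d : ↥((U' : Set F'.left)ᶜ) => j.left.base d.1) :=
      hemb.isEmbedding.comp Topology.IsEmbedding.subtypeVal
    have hr : Set.range (fun d : ↥((U' : Set F'.left)ᶜ) => j.left.base d.1) = F ∩ Uᶜ := by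
      ext t
      constructor
      · rintro ⟨d, rfl⟩
        refine ⟨?_, ?_⟩
        · rw [← hj3]; exact ⟨_, rfl⟩
        · intro htU
          exact d.2 ((Set.ext_iff.mp hU' d.1).mpr htU)
      · rintro ⟨htF, htU⟩
        rw [← hj3] at htF
        obtain ⟨p, rfl⟩ := htF
        refine ⟨⟨p, ?_⟩, rfl⟩
        intro hp
        rw [hU'] at hp
        exact htU hp
    exact (IsHomeomorph.topologicalKrullDim_eq _
      (he.toHomeomorph.trans (Homeomorph.setCongr hr)).isHomeomorph).symm
  have hfin : topologicalKrullDim F'.left < ⊤ := Groth.Agent.WCF9.topDim_lt_top F'.left F'.hom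
  have h2 := dim_compl_lt (U' : Set F'.left) U'.isOpen hdense hfin
  rw [hdimD, hdimO, hdimU]; exact h2

end Groth.Agent.Lib.OrbitBoundary
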