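import Mathlib
import Groth.Agent.S19394

set_option autoImplicit false
set_option linter.unusedVariables false
set_option linter.unusedTactic false
set_option linter.unreachableTactic false
set_option linter.unusedSectionVars false
set_option maxHeartbeats 800000

universe u

open Module

namespace Groth.Agent.Lib.OrbitClosureSSH4

variable {k : Type u} [Field k]

/-- Two semisimple endomorphisms of a finite-dimensional space over an algebraically closed field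
with the same characteristic polynomial are conjugate. -/
theorem exists_equiv_of_charpoly_eq [IsAlgClosed k] {V : Type*} [AddCommGroup V] [Module k V]
    [FiniteDimensional k V]
    (f₁ f₂ : Module.End k V) (h₁ : f₁.IsSemisimple) (h₂ : f₂.IsSemisimple)
    (hc : LinearMap.charpoly f₁ = LinearMap.charpoly f₂) :
    ∃ e : V ≃ₗ[k] V, ∀ v, e (f₁ v) = f₂ (e v) := by
  classical
  have hd₁ : ∀ μ : k, finrank k (f₁.eigenspace μ) = (LinearMap.charpoly f₁).rootMultiplicity μ :=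
    fun μ =>
    (congrArg (fun S : Submodule k V => finrank k S)
      ((Module.End.isFinitelySemisimple_iff_isSemisimple.mpr h₁).maxGenEigenspace_eq_eigenspace
        μ)).symm.trans (LinearMap.finrank_maxGenEigenspace_eq f₁ μ)
  have hd₂ : ∀ μ : k, finrank k (f₂.eigenspace μ) = (LinearMap.charpoly f₁).rootMultiplicity μ :=
    fun μ =>
    ((congrArg (fun S : Submodule k V => finrank k S)
      ((Module.End.isFinitelySemisimple_iff_isSemisimple.mpr h₂).maxGenEigenspace_eq_eigenspace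
        μ)).symm.trans (LinearMap.finrank_maxGenEigenspace_eq f₂ μ)).trans (by rw [hc])
  have I₁ : DirectSum.IsInternal f₁.eigenspace :=
    DirectSum.isInternal_submodule_of_iSupIndep_of_iSup_eq_top f₁.eigenspaces_iSupIndep
      h₁.iSup_eigenspace_eq_top
  have I₂ : DirectSum.IsInternal f₂.eigenspace :=
    DirectSum.isInternal_submodule_of_iSupIndep_of_iSup_eq_top f₂.eigenspaces_iSupIndep
      h₂.iSup_eigenspace_eq_top
  let v₁ : ∀ μ : k, Basis (Fin ((LinearMap.charpoly f₁).rootMultiplicity μ)) k (f₁.eigenspace μ) :=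
    fun μ => Module.finBasisOfFinrankEq k _ (hd₁ μ)
  let v₂ : ∀ μ : k, Basis (Fin ((LinearMap.charpoly f₁).rootMultiplicity μ)) k (f₂.eigenspace μ) :=
    fun μ => Module.finBasisOfFinrankEq k _ (hd₂ μ)
  let b₁ := I₁.collectedBasis v₁
  let b₂ := I₂.collectedBasis v₂
  have key : (↑(b₁.equiv b₂ (Equiv.refl _)) : V →ₗ[k] V) ∘ₗ f₁
      = f₂ ∘ₗ (↑(b₁.equiv b₂ (Equiv.refl _)) : V →ₗ[k] V) := by
    apply b₁.ext
    intro a
    have m₁ : f₁ (b₁ a) = a.1 • b₁ a :=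
      Module.End.mem_eigenspace_iff.mp (I₁.collectedBasis_mem v₁ a)
    have m₂ : f₂ (b₂ a) = a.1 • b₂ a :=
      Module.End.mem_eigenspace_iff.mp (I₂.collectedBasis_mem v₂ a)
    show (b₁.equiv b₂ (Equiv.refl _)) (f₁ (b₁ a)) = f₂ ((b₁.equiv b₂ (Equiv.refl _)) (b₁ a))
    rw [m₁, map_smul, Basis.equiv_apply, Equiv.refl_apply, m₂]
  exact ⟨b₁.equiv b₂ (Equiv.refl _), fun v => LinearMap.congr_fun key v⟩

theorem conj_of_charpoly_eq [IsAlgClosed k] {n : ℕ} (S₁ S₂ : Matrix (Fin n) (Fin n) k)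
    (hS₁ : Module.End.IsSemisimple (Matrix.toLin' S₁))
    (hS₂ : Module.End.IsSemisimple (Matrix.toLin' S₂))
    (hc : S₁.charpoly = S₂.charpoly) :
    ∃ A : Matrix (Fin n) (Fin n) k, IsUnit A.det ∧ A * S₁ * A⁻¹ = S₂ := by
  obtain ⟨e, he⟩ := exists_equiv_of_charpoly_eq (Matrix.toLin' S₁) (Matrix.toLin' S₂) hS₁ hS₂
    (by rw [Matrix.charpoly_toLin', Matrix.charpoly_toLin', hc])
  have hcomp : (e : (Fin n → k) →ₗ[k] (Fin n → k)) ∘ₗ Matrix.toLin' S₁
      = Matrix.toLin' S₂ ∘ₗ (e : (Fin n → k) →ₗ[k] (Fin n → k)) :=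
    LinearMap.ext he
  have hmat0 : LinearMap.toMatrix' ((e : (Fin n → k) →ₗ[k] (Fin n → k)) ∘ₗ Matrix.toLin' S₁)
      = LinearMap.toMatrix' (Matrix.toLin' S₂ ∘ₗ (e : (Fin n → k) →ₗ[k] (Fin n → k))) := by
    rw [hcomp]
  have hmat : LinearMap.toMatrix' (e : (Fin n → k) →ₗ[k] (Fin n → k)) * S₁
      = S₂ * LinearMap.toMatrix' (e : (Fin n → k) →ₗ[k] (Fin n → k)) := by
    rwa [LinearMap.toMatrix'_comp, LinearMap.toMatrix'_comp, LinearMap.toMatrix'_toLin',
      LinearMap.toMatrix'_toLin'] at hmat0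
  have hinv : LinearMap.toMatrix' (e : (Fin n → k) →ₗ[k] (Fin n → k))
      * LinearMap.toMatrix' (e.symm : (Fin n → k) →ₗ[k] (Fin n → k)) = 1 := by
    rw [← LinearMap.toMatrix'_comp, LinearEquiv.comp_symm, LinearMap.toMatrix'_id]
  have hdet : IsUnit (LinearMap.toMatrix' (e : (Fin n → k) →ₗ[k] (Fin n → k))).det :=
    Matrix.isUnit_det_of_right_inverse hinv
  exact ⟨_, hdet, by rw [hmat, Matrix.mul_nonsing_inv_cancel_right _ _ hdet]⟩

lemma eval_charpoly_coeff {n : ℕ} (X : Matrix (Fin n) (Fin n) k) (j : ℕ) :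
    MvPolynomial.eval (fun p : Fin n × Fin n => X p.1 p.2)
      ((Matrix.mvPolynomialX (Fin n) (Fin n) k).charpoly.coeff j) = X.charpoly.coeff j := by
  have h1 : (Matrix.mvPolynomialX (Fin n) (Fin n) k).map
      (MvPolynomial.eval fun p : Fin n × Fin n => X p.1 p.2) = X :=
    Matrix.mvPolynomialX_mapMatrix_eval X
  rw [← Polynomial.coeff_map, ← Matrix.charpoly_map, h1]

lemma charpoly_conj {n : ℕ} (A B : Matrix (Fin n) (Fin n) k) (hA : IsUnit A.det) :
    (A * B * A⁻¹).charpoly = B.charpoly := by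
  rw [mul_assoc, Matrix.charpoly_mul_comm, mul_assoc, Matrix.nonsing_inv_mul A hA, mul_one]

lemma charpoly_eq_of_mem_closure {n : ℕ} (B C : Matrix (Fin n) (Fin n) k)
    (h : ∀ F : MvPolynomial (Fin n × Fin n) k,
      (∀ A : Matrix (Fin n) (Fin n) k, IsUnit A.det →
        MvPolynomial.eval (fun p => (A * B * A⁻¹) p.1 p.2) F = 0) →
      MvPolynomial.eval (fun p => C p.1 p.2) F = 0) :
    C.charpoly = B.charpoly := by
  refine Polynomial.ext (fun j => ?_)
  have hF : ∀ A : Matrix (Fin n) (Fin n) k, IsUnit A.det →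
      MvPolynomial.eval (fun p => (A * B * A⁻¹) p.1 p.2)
        ((Matrix.mvPolynomialX (Fin n) (Fin n) k).charpoly.coeff j
          - MvPolynomial.C (B.charpoly.coeff j)) = 0 := by
    intro A hA
    rw [map_sub, eval_charpoly_coeff (A * B * A⁻¹) j, MvPolynomial.eval_C, charpoly_conj A B hA,
      sub_self]
  have h0 := h _ hF
  rw [map_sub, eval_charpoly_coeff C j, MvPolynomial.eval_C] at h0
  exact sub_eq_zero.mp h0

lemma conj_pow' {M : Type*} [Monoid M] (a a' x : M) (h : a' * a = 1) (h' : a * a' = 1) (j : ℕ) :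
    (a * x * a') ^ j = a * x ^ j * a' := by
  induction j with
  | zero => rw [pow_zero, pow_zero, mul_one, h']
  | succ j ih =>
    rw [pow_succ, ih, pow_succ]
    calc a * x ^ j * a' * (a * x * a') = a * x ^ j * (a' * a) * x * a' := by
          simp only [mul_assoc]
      _ = a * (x ^ j * x) * a' := by rw [h, mul_one]; simp only [mul_assoc]

lemma conj_mul' {M : Type*} [Monoid M] (a a' x y : M) (h : a' * a = 1) :
    (a * x * a') * (a * y * a') = a * (x * y) * a' := by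
  calc a * x * a' * (a * y * a') = a * x * (a' * a) * y * a' := by simp only [mul_assoc]
    _ = a * (x * y) * a' := by rw [h, mul_one]; simp only [mul_assoc]

theorem backward [IsAlgClosed k] {n : ℕ} (B₁ S₁ N₁ S₂ A : Matrix (Fin n) (Fin n) k)
    (hS₂ : Module.End.IsSemisimple (Matrix.toLin' S₂)) (hN₁ : IsNilpotent N₁)
    (hc₁ : Commute S₁ N₁) (hB₁ : B₁ = S₁ + N₁) (hA : IsUnit A.det) (hAS : A * S₁ * A⁻¹ = S₂)
    (F : MvPolynomial (Fin n × Fin n) k)
    (hF : ∀ A' : Matrix (Fin n) (Fin n) k, IsUnit A'.det →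
      MvPolynomial.eval (fun p => (A' * B₁ * A'⁻¹) p.1 p.2) F = 0) :
    MvPolynomial.eval (fun p => S₂ p.1 p.2) F = 0 := by
  have hi : A⁻¹ * A = 1 := Matrix.nonsing_inv_mul A hA
  have hi' : A * A⁻¹ = 1 := Matrix.mul_nonsing_inv A hA
  subst hAS
  refine Groth.Agent.S19394.result k n (A * B₁ * A⁻¹) (A * S₁ * A⁻¹) (A * N₁ * A⁻¹) hS₂
    ?_ ?_ ?_ F ?_
  · obtain ⟨m, hm⟩ := hN₁
    exact ⟨m, by rw [conj_pow' A A⁻¹ N₁ hi hi' m, hm, mul_zero, zero_mul]⟩
  · show (A * S₁ * A⁻¹) * (A * N₁ * A⁻¹) = (A * N₁ * A⁻¹) * (A * S₁ * A⁻¹)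
    rw [conj_mul' A A⁻¹ S₁ N₁ hi, conj_mul' A A⁻¹ N₁ S₁ hi, hc₁.eq]
  · rw [hB₁, mul_add, add_mul]
  · intro A' hA'
    have e : A' * (A * B₁ * A⁻¹) * A'⁻¹ = (A' * A) * B₁ * (A' * A)⁻¹ := by
      rw [Matrix.mul_inv_rev]; simp only [mul_assoc]
    rw [e]
    exact hF (A' * A) (by rw [Matrix.det_mul]; exact hA'.mul hA)

theorem main19395 [IsAlgClosed k]
    (n : ℕ) (B₁ S₁ N₁ B₂ S₂ N₂ : Matrix (Fin n) (Fin n) k)
    (hS₁ : Module.End.IsSemisimple (Matrix.toLin' S₁)) (hN₁ : IsNilpotent N₁) (hc₁ : Commute S₁ N₁)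
    (hB₁ : B₁ = S₁ + N₁)
    (hS₂ : Module.End.IsSemisimple (Matrix.toLin' S₂)) (hN₂ : IsNilpotent N₂) (hc₂ : Commute S₂ N₂)
    (hB₂ : B₂ = S₂ + N₂) :
    (∃ C : Matrix (Fin n) (Fin n) k,
        (∀ F : MvPolynomial (Fin n × Fin n) k,
          (∀ A : Matrix (Fin n) (Fin n) k, IsUnit A.det →
            MvPolynomial.eval (fun p => (A * B₁ * A⁻¹) p.1 p.2) F = 0) →
          MvPolynomial.eval (fun p => C p.1 p.2) F = 0) ∧
        (∀ F : MvPolynomial (Fin n × Fin n) k,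
          (∀ A : Matrix (Fin n) (Fin n) k, IsUnit A.det →
            MvPolynomial.eval (fun p => (A * B₂ * A⁻¹) p.1 p.2) F = 0) →
          MvPolynomial.eval (fun p => C p.1 p.2) F = 0)) ↔
      ∃ A : Matrix (Fin n) (Fin n) k, IsUnit A.det ∧ A * S₁ * A⁻¹ = S₂ := by
  constructor
  · rintro ⟨C, hC₁, hC₂⟩
    have e₁ : C.charpoly = B₁.charpoly := charpoly_eq_of_mem_closure B₁ C hC₁
    have e₂ : C.charpoly = B₂.charpoly := charpoly_eq_of_mem_closure B₂ C hC₂
    have s₁ : S₁.charpoly = B₁.charpoly := charpoly_eq_of_mem_closure B₁ S₁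
      (fun F hF => Groth.Agent.S19394.result k n B₁ S₁ N₁ hS₁ hN₁ hc₁ hB₁ F hF)
    have s₂ : S₂.charpoly = B₂.charpoly := charpoly_eq_of_mem_closure B₂ S₂
      (fun F hF => Groth.Agent.S19394.result k n B₂ S₂ N₂ hS₂ hN₂ hc₂ hB₂ F hF)
    exact conj_of_charpoly_eq S₁ S₂ hS₁ hS₂ (s₁.trans (e₁.symm.trans (e₂.trans s₂.symm)))
  · rintro ⟨A, hA, hAS⟩
    exact ⟨S₂, fun F hF => backward B₁ S₁ N₁ S₂ A hS₂ hN₁ hc₁ hB₁ hA hAS F hF,
      fun F hF => Groth.Agent.S19394.result k n B₂ S₂ N₂ hS₂ hN₂ hc₂ hB₂ F hF⟩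

end Groth.Agent.Lib.OrbitClosureSSH4
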