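import Groth.Agent.Lib.GenFlatHom_lead

/-! # Connectedness from a surjective orbit map with connected stabilizer (lead) -/

set_option backward.isDefEq.respectTransparency false
set_option backward.isDefEq.respectTransparency.types false
set_option linter.unusedSimpArgs false
set_option linter.unusedVariables false
set_option linter.unusedSectionVars false
set_option linter.style.longLine false
set_option linter.style.haveILetI false
set_option maxHeartbeats 800000

universe u

open CategoryTheory CategoryTheory.Limits MonoidalCategory CartesianMonoidalCategory MonObj GrpObj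
  AlgebraicGeometry Opposite Topology

namespace Groth.Agent.Lib.OrbitConn

open Groth.Agent.Lib.AssocBundle Groth.Agent.Lib.IsogKernel Groth.Agent.Lib.HomogTower
  Groth.Agent.Lib.TorsorSeq Groth.Agent.Lib.GenFlatHom Groth.Agent.Lib.ExtProps

section general

variable {S : Scheme.{u}} {G X H : Over S} [GrpObj G] (a : AlgGrp.Action G X)
  (x₀ : 𝟙_ (Over S) ⟶ X) (i : H ⟶ G) [Mono i]
  (hH : ∀ (T : Over S) (g : T ⟶ G),
    (∃ h : T ⟶ H, h ≫ i = g) ↔ g ≫ a.orbitMap x₀ = toUnit T ≫ x₀)

include hH in
/-- the orbit map is a torsor under the stabilizer -/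
theorem orbit_sq : IsPullback (fst G H) ((G ◁ i) ≫ μ[G]) (a.orbitMap x₀) (a.orbitMap x₀) := by
  have h1pt : ∀ T : Over S, (1 : T ⟶ G) ≫ a.orbitMap x₀ = toUnit T ≫ x₀ := by
    intro T; rw [orbit_pt, act_one' a]
  have hfix : ∀ (T : Over S) (h : T ⟶ H), (h ≫ i) ≫ a.orbitMap x₀ = toUnit T ≫ x₀ :=
    fun T h => (hH T (h ≫ i)).1 ⟨h, rfl⟩
  apply isPullback_of_exists_unique
  · have e : ((G ◁ i) ≫ μ[G]) = fst G H * (snd G H ≫ i) := by
      have h := mulr_pt i (fst G H) (snd G H)
      rwa [lift_fst_snd, Category.id_comp] at h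
    rw [e, orbit_mul a x₀, hfix, ← orbit_pt]
  · intro T a' b hab
    have hh : (a'⁻¹ * b) ≫ a.orbitMap x₀ = toUnit T ≫ x₀ := by
      rw [orbit_mul a x₀, ← hab, ← orbit_mul a x₀, _root_.inv_mul_cancel, h1pt]
    obtain ⟨h, hh'⟩ := (hH T (a'⁻¹ * b)).2 hh
    refine ⟨lift a' h, lift_fst _ _, ?_⟩
    rw [mulr_pt, hh', _root_.mul_inv_cancel_left]
  · intro T l l' h1 h2
    apply CartesianMonoidalCategory.hom_ext
    · exact h1
    · have e : ∀ m : T ⟶ G ⊗ H,
          m ≫ (G ◁ i) ≫ μ[G] = (m ≫ fst G H) * ((m ≫ snd G H) ≫ i) := by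
        intro m
        rw [← mulr_pt i (m ≫ fst G H) (m ≫ snd G H), lift_comp_fst_snd]
      rw [e l, e l', h1] at h2
      have h3 := mul_left_cancel h2
      exact (cancel_mono i).1 h3

end general

section field

variable {k : Type u} [Field k] {G X H : Over (Spec (CommRingCat.of k))} [GrpObj G] [GrpObj H]
  (a : AlgGrp.Action G X) (x₀ : 𝟙_ (Over (Spec (CommRingCat.of k))) ⟶ X) (i : H ⟶ G) [Mono i]
  (hH : ∀ (T : Over (Spec (CommRingCat.of k))) (g : T ⟶ G),
    (∃ h : T ⟶ H, h ≫ i = g) ↔ g ≫ a.orbitMap x₀ = toUnit T ≫ x₀)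

include hH in
theorem connected_of_orbit [LocallyOfFiniteType G.hom] [QuasiCompact G.hom]
    [LocallyOfFiniteType X.hom] [IsReduced X.left] [ConnectedSpace ↥X.left]
    [Surjective (a.orbitMap x₀).left] [ConnectedSpace ↥H.left] : ConnectedSpace ↥G.left := by
  haveI : Flat (a.orbitMap x₀).left := flat_orbit a x₀
  haveI : IsNoetherianRing (CommRingCat.of k) := inferInstanceAs (IsNoetherianRing k)
  haveI : IsLocallyNoetherian X.left := LocallyOfFiniteType.isLocallyNoetherian X.hom
  haveI : LocallyOfFiniteType (a.orbitMap x₀).left := lft_hom (a.orbitMap x₀)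
  haveI : LocallyOfFinitePresentation (a.orbitMap x₀).left := inferInstance
  haveI : UniversallyOpen (a.orbitMap x₀).left := inferInstance
  haveI hHgc : GeometricallyConnected H.hom := geomConn_grp H
  haveI : GeometricallyConnected (fst G H).left :=
    MorphismProperty.of_isPullback (P := @GeometricallyConnected)
      (IsPullback.of_hasPullback G.hom H.hom :
        IsPullback (fst G H).left (snd G H).left G.hom H.hom).flip hHgc
  have sq' : IsPullback (fst G H).left ((G ◁ i) ≫ μ[G]).left (a.orbitMap x₀).left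
      (a.orbitMap x₀).left := (orbit_sq a x₀ i hH).map (Over.forget _)
  haveI : GeometricallyConnected (a.orbitMap x₀).left := geomConn_descends sq'
  exact GeometricallyConnected.connectedSpace (a.orbitMap x₀).left
    (a.orbitMap x₀).left.isOpenMap

end field

end Groth.Agent.Lib.OrbitConn
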