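import Groth.Statements.S11244
import Groth.Agent.Lib.OrbitDim_lead
import Groth.Agent.Lib.OrbitBoundary_lead
import Groth.Agent.Lib.AffDim10_helper8

/-! # Upper semicontinuity of the orbit dimension (lead) -/

set_option backward.isDefEq.respectTransparency false
set_option backward.isDefEq.respectTransparency.types false
set_option linter.unusedSimpArgs false
set_option linter.unusedVariables false
set_option linter.unusedSectionVars false
set_option linter.style.longLine false
set_option linter.style.haveILetI false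
set_option linter.unnecessarySimpa false
set_option maxHeartbeats 800000

universe u

open CategoryTheory CategoryTheory.Limits MonoidalCategory CartesianMonoidalCategory MonObj GrpObj
  AlgebraicGeometry Opposite Topology TopologicalSpace

namespace Groth.Agent.Lib.OrbitDimUSC

open Groth.Agent.Lib.AssocBundle Groth.Agent.Lib.TorsorSeq Groth.Agent.Lib.GenFlatHom
  Groth.Agent.Lib.ClosedOrbit Groth.Agent.TopDimLead Groth.Agent.Lib.OrbitMinDim
  Groth.Agent.Lib.OrbitDim

section stab

variable {S : Scheme.{u}} {G X : Over S} [GrpObj G] (a : AlgGrp.Action G X)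

/-- the stabiliser group scheme over `X` -/
noncomputable def Stab : Over S := pullback (lift a.act (snd G X)) (lift (𝟙 X) (𝟙 X))

noncomputable def stabι : Stab a ⟶ G ⊗ X := pullback.fst _ _

noncomputable def stabp : Stab a ⟶ X := pullback.snd _ _

theorem stab_act : stabι a ≫ a.act = stabp a := by
  have h := congrArg (fun t => t ≫ fst X X)
    (pullback.condition (f := lift a.act (snd G X)) (g := lift (𝟙 X) (𝟙 X)))
  unfold stabι stabp
  simpa only [Category.assoc, lift_fst, Category.comp_id] using h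

theorem stab_snd : stabι a ≫ snd G X = stabp a := by
  have h := congrArg (fun t => t ≫ snd X X)
    (pullback.condition (f := lift a.act (snd G X)) (g := lift (𝟙 X) (𝟙 X)))
  unfold stabι stabp
  simpa only [Category.assoc, lift_snd, Category.comp_id] using h

noncomputable def stabe : X ⟶ Stab a :=
  pullback.lift (lift (toUnit X ≫ η[G]) (𝟙 X)) (𝟙 X)
    (by rw [comp_lift, lift_snd, ← Hom.one_def, act_one', Category.id_comp])

theorem stabe_p : stabe a ≫ stabp a = 𝟙 X := by
  unfold stabe stabp; exact pullback.lift_snd _ _ _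

theorem stabe_ι : stabe a ≫ stabι a = lift (toUnit X ≫ η[G]) (𝟙 X) := by
  unfold stabe stabι; exact pullback.lift_fst _ _ _

variable (x : 𝟙_ (Over S) ⟶ X) {St : Over S} (s : St ⟶ G)
  (hs : s ≫ a.orbitMap x = toUnit St ≫ x)

noncomputable def stabj : St ⟶ Stab a :=
  pullback.lift (lift s (toUnit St ≫ x)) (toUnit St ≫ x)
    (by rw [comp_lift, comp_lift, lift_snd, Category.comp_id, ← orbit_pt a x s, hs])

@[reassoc]
theorem stabj_p : stabj a x s hs ≫ stabp a = toUnit St ≫ x := by
  unfold stabj stabp; exact pullback.lift_snd _ _ _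

@[reassoc]
theorem stabj_ι : stabj a x s hs ≫ stabι a = lift s (toUnit St ≫ x) := by
  unfold stabj stabι; exact pullback.lift_fst _ _ _

theorem isPullback_stabj [Mono s]
    (hlift : ∀ (T : Over S) (g : T ⟶ G), g ≫ a.orbitMap x = toUnit T ≫ x →
      ∃ t : T ⟶ St, t ≫ s = g) :
    IsPullback (stabj a x s hs) (toUnit St) (stabp a) x := by
  apply isPullback_of_exists_unique
  · exact stabj_p a x s hs
  · intro T u c huc
    rw [toUnit_unique c (toUnit T)] at huc
    obtain ⟨g, hg⟩ : ∃ g : T ⟶ G, g = u ≫ stabι a ≫ fst G X := ⟨_, rfl⟩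
    have hu : u ≫ stabι a = lift g (toUnit T ≫ x) := by
      apply CartesianMonoidalCategory.hom_ext
      · rw [lift_fst, hg, Category.assoc]
      · rw [lift_snd, Category.assoc, stab_snd, huc]
    have hgx : g ≫ a.orbitMap x = toUnit T ≫ x := by
      rw [orbit_pt, ← hu, Category.assoc, stab_act, huc]
    obtain ⟨t, ht⟩ := hlift T g hgx
    refine ⟨t, ?_, toUnit_unique _ _⟩
    have et : t ≫ toUnit St ≫ x = toUnit T ≫ x := by
      rw [← Category.assoc, toUnit_unique (t ≫ toUnit St) (toUnit T)]
    apply pullback.hom_ext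
    · show (t ≫ stabj a x s hs) ≫ stabι a = u ≫ stabι a
      rw [Category.assoc, stabj_ι, comp_lift, ht, hu, et]
    · show (t ≫ stabj a x s hs) ≫ stabp a = u ≫ stabp a
      rw [Category.assoc, stabj_p, huc, et]
  · intro T l l' h1 _
    rw [← cancel_mono s]
    have := congrArg (fun t => t ≫ stabι a ≫ fst G X) h1
    simpa only [Category.assoc, stabj_ι_assoc, lift_fst] using this

theorem pt_stabj (e₀ : 𝟙_ (Over S) ⟶ St) (he₀ : e₀ ≫ s = η[G]) :
    e₀ ≫ stabj a x s hs = x ≫ stabe a := by
  have e1 : e₀ ≫ toUnit St ≫ x = x := by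
    rw [← Category.assoc, toUnit_unique (e₀ ≫ toUnit St) (𝟙 _), Category.id_comp]
  have e2 : x ≫ toUnit X ≫ η[G] = η[G] := by
    rw [← Category.assoc, toUnit_unique (x ≫ toUnit X) (𝟙 _), Category.id_comp]
  apply pullback.hom_ext
  · show (e₀ ≫ stabj a x s hs) ≫ stabι a = (x ≫ stabe a) ≫ stabι a
    rw [Category.assoc, stabj_ι, Category.assoc, stabe_ι, comp_lift, comp_lift, he₀, e1, e2,
      Category.comp_id]
  · show (e₀ ≫ stabj a x s hs) ≫ stabp a = (x ≫ stabe a) ≫ stabp a
    rw [Category.assoc, stabj_p, Category.assoc, stabe_p, Category.comp_id, e1]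

end stab

variable (k : Type u) [Field k]

/-- the closure of an orbit has the dimension of the orbit -/
theorem dim_closure_orbit [IsAlgClosed k]
    (G X : Over (Spec (CommRingCat.of k))) [GrpObj G] [LocallyOfFiniteType G.hom]
    [QuasiCompact G.hom]
    [LocallyOfFiniteType X.hom] [QuasiCompact X.hom] (a : AlgGrp.Action G X)
    (x : 𝟙_ (Over (Spec (CommRingCat.of k))) ⟶ X) :
    topologicalKrullDim ↥(closure (Set.range (a.orbitMap x).left.base)) =
      topologicalKrullDim ↥(Set.range (a.orbitMap x).left.base) := by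
  haveI : IsNoetherian X.left := isNoetherian_of_ft X
  haveI : NoetherianSpace X.left := inferInstance
  haveI : Subsingleton ↥(Spec (CommRingCat.of k)) :=
    inferInstanceAs (Subsingleton (PrimeSpectrum k))
  obtain ⟨O, hO⟩ : ∃ O : Set X.left, O = Set.range (a.orbitMap x).left := ⟨_, rfl⟩
  have hOb : Set.range (a.orbitMap x).left.base = O := by rw [hO]
  rw [hOb]
  have hOne : O.Nonempty := by
    rw [hO]
    obtain ⟨t⟩ : Nonempty ↥(Spec (CommRingCat.of k)) :=
      inferInstanceAs (Nonempty (PrimeSpectrum k))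
    exact ⟨_, ⟨(η[G]).left t, rfl⟩⟩
  have hlc : IsLocallyClosed O := by
    rw [hO]; exact Groth.Agent.Lib.KPtsOrbit.main7984 k G X a x
  obtain ⟨U, Z, hU, hZ, hUZ⟩ := hlc
  obtain ⟨F, hF⟩ : ∃ F : Set X.left, F = closure O := ⟨_, rfl⟩
  rw [← hF]
  have hFcl : IsClosed F := by rw [hF]; exact isClosed_closure
  have hOF : O ⊆ F := by rw [hF]; exact subset_closure
  have hFZ : F ⊆ Z := by
    rw [hF]; exact closure_minimal (hUZ ▸ Set.inter_subset_right) hZ
  have hFU : F ∩ U = O := by
    apply Set.Subset.antisymm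
    · rintro t ⟨htF, htU⟩
      rw [hUZ]; exact ⟨htU, hFZ htF⟩
    · intro t ht
      refine ⟨hOF ht, ?_⟩
      rw [hUZ] at ht; exact ht.1
  -- the reduced scheme structure on `F`
  obtain ⟨F', j, hj1, hj2, hj3⟩ := Groth.Agent.Lib.OrbitProper.exists_red_sub X F hFcl
  haveI := hj1
  haveI : LocallyOfFiniteType F'.hom := by
    have h : LocallyOfFiniteType (j.left ≫ X.hom) := inferInstance
    rwa [Over.w j] at h
  haveI : QuasiCompact F'.hom := by
    have h : QuasiCompact (j.left ≫ X.hom) := inferInstance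
    rwa [Over.w j] at h
  haveI : IsNoetherian F'.left := isNoetherian_of_ft F'
  haveI : NoetherianSpace F'.left := inferInstance
  haveI : CompactSpace F'.left := inferInstance
  obtain ⟨f₀, hf₀⟩ := hOne
  haveI : Nonempty F'.left := by
    have h : f₀ ∈ Set.range j.left.base := by rw [hj3]; exact hOF hf₀
    obtain ⟨t, -⟩ := h
    exact ⟨t⟩
  have hemb : Topology.IsClosedEmbedding j.left.base := j.left.isClosedEmbedding
  obtain ⟨U', hU'⟩ : ∃ U' : F'.left.Opens, (U' : Set F'.left) = j.left.base ⁻¹' U :=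
    ⟨j.left ⁻¹ᵁ ⟨U, hU⟩, rfl⟩
  have hdense : Dense (U' : Set F'.left) := by
    intro t
    rw [hemb.isEmbedding.isInducing.closure_eq_preimage_closure_image, hU']
    show j.left.base t ∈ closure (j.left.base '' (j.left.base ⁻¹' U))
    have h2 : j.left.base '' (j.left.base ⁻¹' U) = O := by
      rw [Set.image_preimage_eq_inter_range, hj3, Set.inter_comm U F, hFU]
    rw [h2, ← hF, ← hj3]
    exact ⟨t, rfl⟩
  have hrι : Set.range U'.ι.base = (U' : Set F'.left) := Scheme.Opens.range_ι U'
  -- dimension of the dense open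
  have hdimU : topologicalKrullDim ↥U'.toScheme = topologicalKrullDim F'.left := by
    haveI : NoetherianSpace ↥U'.toScheme := U'.ι.isOpenEmbedding.isInducing.noetherianSpace
    haveI : QuasiCompact U'.ι := inferInstance
    have h := Groth.Agent.Lib.AffDimH8.main10884 k F'.hom U'.ι
      (by
        show Dense (Set.range U'.ι.base)
        rw [hrι]; exact hdense) 0
      (by
        intro y hne
        haveI : Subsingleton ↥(U'.ι.base ⁻¹' {y}) :=
          Set.subsingleton_coe _ |>.mpr
            (Set.subsingleton_singleton.preimage U'.ι.isOpenEmbedding.injective)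
        haveI : Nonempty ↥(U'.ι.base ⁻¹' {y}) := hne.to_subtype
        rw [dim_subsingleton]; simp)
    rw [h]; simp
  have hdimO : topologicalKrullDim ↥O = topologicalKrullDim ↥U'.toScheme := by
    have he : Topology.IsEmbedding (fun u : ↥U'.toScheme => j.left.base (U'.ι.base u)) :=
      hemb.isEmbedding.comp U'.ι.isOpenEmbedding.isEmbedding
    have hr : Set.range (fun u : ↥U'.toScheme => j.left.base (U'.ι.base u)) = O := by
      ext t
      constructor
      · rintro ⟨u, rfl⟩
        rw [← hFU]
        refine ⟨?_, ?_⟩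
        · rw [← hj3]; exact ⟨_, rfl⟩
        · have h3 : U'.ι.base u ∈ (U' : Set F'.left) := by rw [← hrι]; exact ⟨u, rfl⟩
          rw [hU'] at h3
          exact h3
      · intro ht
        rw [← hFU] at ht
        obtain ⟨htF, htU⟩ := ht
        rw [← hj3] at htF
        obtain ⟨p, rfl⟩ := htF
        have h3 : p ∈ (U' : Set F'.left) := by rw [hU']; exact htU
        rw [← hrι] at h3
        obtain ⟨u, rfl⟩ := h3
        exact ⟨u, rfl⟩
    exact (IsHomeomorph.topologicalKrullDim_eq _
      (he.toHomeomorph.trans (Homeomorph.setCongr hr)).isHomeomorph).symm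
  have hdimF : topologicalKrullDim ↥F = topologicalKrullDim F'.left :=
    (IsHomeomorph.topologicalKrullDim_eq _
      (hemb.isEmbedding.toHomeomorph.trans (Homeomorph.setCongr hj3)).isHomeomorph).symm
  rw [hdimF, hdimO, hdimU]

theorem main11244 [IsAlgClosed k]
    (G : Over (Spec (CommRingCat.of k))) [GrpObj G] [Smooth G.hom] [QuasiCompact G.hom]
    (X : Over (Spec (CommRingCat.of k))) [LocallyOfFiniteType X.hom] [QuasiCompact X.hom]
    (a : AlgGrp.Action G X) (r : ℕ) :
    ∃ Z : Set ↥X.left, IsClosed Z ∧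
      ∀ x : 𝟙_ (Over (Spec (CommRingCat.of k))) ⟶ X,
        topologicalKrullDim ↥(closure (Set.range ⇑(a.orbitMap x).left.base)) ≤
            (r : WithBot ℕ∞) ↔
          Set.range ⇑x.left.base ⊆ Z := by
  haveI : LocallyOfFiniteType G.hom := inferInstance
  haveI hsub : Subsingleton ↥(Spec (CommRingCat.of k)) :=
    inferInstanceAs (Subsingleton (PrimeSpectrum k))
  haveI hsub' : Subsingleton ↥(𝟙_ (Over (Spec (CommRingCat.of k)))).left := hsub
  obtain ⟨pt⟩ : Nonempty ↥(Spec (CommRingCat.of k)) :=
    inferInstanceAs (Nonempty (PrimeSpectrum k))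
  obtain ⟨nG, hnG⟩ := Groth.Agent.Lib.AbSubvar.exists_nat_dim G
  haveI : LocallyOfFiniteType (snd G X).left :=
    (inferInstance : LocallyOfFiniteType (pullback.snd G.hom X.hom))
  haveI : LocallyOfFiniteType (G ⊗ X).hom := by
    rw [← Over.w (snd G X)]; infer_instance
  have sq0 : IsPullback (stabι a).left (stabp a).left (lift a.act (snd G X)).left
      (lift (𝟙 X) (𝟙 X)).left :=
    (IsPullback.of_hasPullback (lift a.act (snd G X)) (lift (𝟙 X) (𝟙 X))).map (Over.forget _)
  haveI : LocallyOfFiniteType (stabp a).left :=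
    MorphismProperty.of_isPullback (P := @LocallyOfFiniteType) sq0 (lft_hom _)
  refine ⟨(stabe a).left.base ⁻¹'
    {c | ((nG - r : ℕ) : WithBot ℕ∞) ≤ FlatMor.fibreDimAt (stabp a).left c}, ?_, ?_⟩
  · exact (Groth.Agent.Lib.AffDimH8.isClosed_fibreDimAt_ge (stabp a).left (nG - r)).preimage
      (stabe a).left.continuous
  intro x
  obtain ⟨St, s, hmono, hs, hlift, sqS⟩ := Groth.Agent.Lib.OrbitSmooth.exists_stab a x
  haveI := hmono
  obtain ⟨grp, hmon⟩ := Groth.Agent.Lib.OrbitSmooth.exists_grpObj a x s hs hlift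
  letI : GrpObj St := grp
  haveI : IsMonHom s := hmon
  haveI : LocallyOfFiniteType x.left := by
    haveI : LocallyOfFiniteType (x.left ≫ X.hom) := by
      rw [Over.w x]
      show LocallyOfFiniteType (𝟙 _)
      infer_instance
    exact locallyOfFiniteType_of_comp x.left X.hom
  haveI : LocallyOfFiniteType s.left :=
    MorphismProperty.of_isPullback (P := @LocallyOfFiniteType) sqS.flip inferInstance
  haveI : LocallyOfFiniteType St.hom := by
    rw [← Over.w s]; infer_instance
  obtain ⟨nS, hnS⟩ := Groth.Agent.Lib.AbSubvar.exists_nat_dim St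
  have hdimSt : topologicalKrullDim ↥St.left =
      topologicalKrullDim ↥(Limits.pullback (a.orbitMap x).left x.left) :=
    IsHomeomorph.topologicalKrullDim_eq _ (Scheme.homeoOfIso sqS.isoPullback).isHomeomorph
  have hdim := Groth.Agent.Lib.OrbitDim.main16130 G X a x
  rw [← hdimSt, hnS, hnG, add_comm] at hdim
  obtain ⟨hle, hO⟩ := wb_arith nG nS _ hdim
  rw [dim_closure_orbit k G X a x, hO]
  -- the fibre dimension at the unit section
  obtain ⟨z₀, hz₀⟩ : ∃ z₀ : St.left, z₀ = (η[St]).left pt := ⟨_, rfl⟩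
  have sqJ : IsPullback (stabj a x s hs).left (toUnit St).left (stabp a).left x.left :=
    (isPullback_stabj a x s hs hlift).map (Over.forget _)
  have h := FieldExtH8.fibreDimAt_baseChange (stabp a).left x.left (stabj a x s hs).left
    (toUnit St).left sqJ z₀
  rw [FieldBaseH8.fibreDimAt_to_field, GrpDimH8.localDim_eq_dim k St z₀, hnS] at h
  have hpt : (stabj a x s hs).left z₀ = (stabe a).left (x.left pt) := by
    rw [hz₀, ← comp_pt, ← comp_pt, pt_stabj a x s hs η[St] (IsMonHom.one_hom (f := s))]
  rw [hpt] at h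
  have hZiff : Set.range ⇑x.left.base ⊆ (stabe a).left.base ⁻¹'
      {c | ((nG - r : ℕ) : WithBot ℕ∞) ≤ FlatMor.fibreDimAt (stabp a).left c} ↔
      ((nG - r : ℕ) : WithBot ℕ∞) ≤ ((nS : ℕ∞) : WithBot ℕ∞) := by
    rw [h]
    constructor
    · intro hh; exact hh ⟨pt, rfl⟩
    · intro hh
      rintro _ ⟨t, rfl⟩
      rw [Subsingleton.elim t pt]
      exact hh
  rw [hZiff]
  have ec : ∀ m : ℕ, ((m : ℕ) : WithBot ℕ∞) = (((m : ℕ) : ℕ∞) : WithBot ℕ∞) := fun m => rfl
  constructor
  · intro hh
    have h' : nG - nS ≤ r := by exact_mod_cast hh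
    have : nG - r ≤ nS := by omega
    rw [ec, WithBot.coe_le_coe, Nat.cast_le]; exact this
  · intro hh
    rw [ec, WithBot.coe_le_coe, Nat.cast_le] at hh
    have : nG - nS ≤ r := by omega
    exact_mod_cast this

end Groth.Agent.Lib.OrbitDimUSC
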