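import Groth.Agent.Lib.ComodFlag_helper9

/-!
# Subcoalgebras of a coalgebra over a field

`IsSubcoalg B`: `Δ(B) ⊆ B ⊗ B` (image in `C ⊗ C`).  Characterisation through functionals:
`B` is a subcoalgebra iff it is stable under `c ↦ (id ⊗ φ)Δc` and `c ↦ (φ ⊗ id)Δc`.
-/

set_option autoImplicit false
universe u v w w'
open TensorProduct

namespace Groth.Agent.Lib.Subcoalg_helper9

open Groth.Agent.Lib.Comod_helper9 Groth.Agent.Lib.ComodDual_helper9

section Evl

variable {k : Type u} [CommRing k] {C : Type v} [AddCommGroup C] [Module k C]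
variable {V : Type w} [AddCommGroup V] [Module k V]

/-- `v ⊗ c ↦ ψ v • c`. -/
noncomputable def evl (C : Type v) [AddCommGroup C] [Module k C] (ψ : V →ₗ[k] k) : V ⊗[k] C →ₗ[k] C :=
  (TensorProduct.lid k C).toLinearMap ∘ₗ ψ.rTensor C

@[simp] theorem evl_tmul (ψ : V →ₗ[k] k) (v : V) (c : C) : evl C ψ (v ⊗ₜ[k] c) = ψ v • c := by
  simp [evl]

theorem evl_lTensor {D : Type w'} [AddCommGroup D] [Module k D] (ψ : V →ₗ[k] k) (g : C →ₗ[k] D)
    (x : V ⊗[k] C) : evl D ψ (g.lTensor V x) = g (evl C ψ x) := by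
  induction x using TensorProduct.induction_on with
  | zero => simp
  | add x y hx hy => simp only [map_add, hx, hy]
  | tmul v c => simp

theorem evl_rTensor {W : Type w'} [AddCommGroup W] [Module k W] (ψ : W →ₗ[k] k) (f : V →ₗ[k] W)
    (x : V ⊗[k] C) : evl C ψ (f.rTensor C x) = evl C (ψ ∘ₗ f) x := by
  induction x using TensorProduct.induction_on with
  | zero => simp
  | add x y hx hy => simp only [map_add, hx, hy]
  | tmul v c => simp

theorem ev_lTensor {D : Type w'} [AddCommGroup D] [Module k D] (φ : D →ₗ[k] k) (g : C →ₗ[k] D)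
    (x : V ⊗[k] C) : ev V φ (g.lTensor V x) = ev V (φ ∘ₗ g) x := by
  induction x using TensorProduct.induction_on with
  | zero => simp
  | add x y hx hy => simp only [map_add, hx, hy]
  | tmul v c => simp

theorem evl_eq_ev_comm (ψ : V →ₗ[k] k) (x : V ⊗[k] C) :
    evl C ψ x = ev C ψ (TensorProduct.comm k V C x) := by
  induction x using TensorProduct.induction_on with
  | zero => simp
  | add x y hx hy => simp only [map_add, hx, hy]
  | tmul v c => simp

/-- functionals on `V` separate the points of `V ⊗ C` when `V` is free. -/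
theorem eq_zero_of_forall_evl [Module.Free k V] (x : V ⊗[k] C) (h : ∀ ψ : V →ₗ[k] k, evl C ψ x = 0) :
    x = 0 := by
  have : TensorProduct.comm k V C x = 0 := by
    apply eq_zero_of_forall_ev
    intro ψ
    rw [← evl_eq_ev_comm]; exact h ψ
  exact (TensorProduct.comm k V C).injective (by rw [this, map_zero])

theorem mem_range_lTensor_subtype_iff (D : Submodule k C) (x : V ⊗[k] C) :
    x ∈ LinearMap.range (D.subtype.lTensor V) ↔ D.mkQ.lTensor V x = 0 := by
  have h := lTensor_exact V (LinearMap.exact_subtype_mkQ D) (Submodule.mkQ_surjective D)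
  rw [← LinearMap.mem_ker, LinearMap.exact_iff.mp h]

theorem mem_range_lTensor_subtype_of_evl [Module.Free k V] (D : Submodule k C) (x : V ⊗[k] C)
    (h : ∀ ψ : V →ₗ[k] k, evl C ψ x ∈ D) : x ∈ LinearMap.range (D.subtype.lTensor V) := by
  rw [mem_range_lTensor_subtype_iff]
  apply eq_zero_of_forall_evl
  intro ψ
  rw [evl_lTensor, Submodule.mkQ_apply, Submodule.Quotient.mk_eq_zero]
  exact h ψ

theorem evl_mem_of_mem_range_lTensor_subtype (D : Submodule k C) (x : V ⊗[k] C)
    (hx : x ∈ LinearMap.range (D.subtype.lTensor V)) (ψ : V →ₗ[k] k) : evl C ψ x ∈ D := by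
  obtain ⟨y, rfl⟩ := hx
  rw [evl_lTensor]
  exact (evl D ψ y).2

theorem mem_range_rTensor_subtype_of_ev [Module.Free k C] (W : Submodule k V) (x : V ⊗[k] C)
    (h : ∀ φ : C →ₗ[k] k, ev V φ x ∈ W) : x ∈ LinearMap.range (W.subtype.rTensor C) := by
  rw [mem_range_subtype_rTensor_iff]
  apply eq_zero_of_forall_ev
  intro φ
  rw [ev_rTensor, Submodule.mkQ_apply, Submodule.Quotient.mk_eq_zero]
  exact h φ

theorem ev_mem_of_mem_range_rTensor_subtype (W : Submodule k V) (x : V ⊗[k] C)
    (hx : x ∈ LinearMap.range (W.subtype.rTensor C)) (φ : C →ₗ[k] k) : ev V φ x ∈ W := by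
  obtain ⟨y, rfl⟩ := hx
  rw [ev_rTensor]
  exact (ev W φ y).2

end Evl

section MapSubtype

variable {k : Type u} [Field k] {C : Type v} [AddCommGroup C] [Module k C]
variable {V : Type w} [AddCommGroup V] [Module k V]

omit [Field k] in
theorem map_eq_rTensor_lTensor {k : Type u} [CommRing k] {C : Type v} [AddCommGroup C] [Module k C]
    {V : Type w} [AddCommGroup V] [Module k V] {V' : Type*} [AddCommGroup V'] [Module k V']
    {C' : Type*} [AddCommGroup C'] [Module k C'] (f : V' →ₗ[k] V) (g : C' →ₗ[k] C) (z : V' ⊗[k] C') :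
    TensorProduct.map f g z = f.rTensor C (g.lTensor V' z) := by
  induction z using TensorProduct.induction_on with
  | zero => simp
  | add x y hx hy => simp only [map_add, hx, hy]
  | tmul v c => simp

omit [Field k] in
theorem map_eq_lTensor_rTensor {k : Type u} [CommRing k] {C : Type v} [AddCommGroup C] [Module k C]
    {V : Type w} [AddCommGroup V] [Module k V] {V' : Type*} [AddCommGroup V'] [Module k V']
    {C' : Type*} [AddCommGroup C'] [Module k C'] (f : V' →ₗ[k] V) (g : C' →ₗ[k] C) (z : V' ⊗[k] C') :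
    TensorProduct.map f g z = g.lTensor V (f.rTensor C' z) := by
  induction z using TensorProduct.induction_on with
  | zero => simp
  | add x y hx hy => simp only [map_add, hx, hy]
  | tmul v c => simp

/-- An element of `V ⊗ C` lies in the image of `W ⊗ D` iff all its "right slices" lie in `W` and all
its "left slices" lie in `D`. -/
theorem mem_range_map_subtype_iff (W : Submodule k V) (D : Submodule k C) (x : V ⊗[k] C) :
    x ∈ LinearMap.range (TensorProduct.map W.subtype D.subtype) ↔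
      (∀ φ : C →ₗ[k] k, ev V φ x ∈ W) ∧ (∀ ψ : V →ₗ[k] k, evl C ψ x ∈ D) := by
  constructor
  · rintro ⟨z, rfl⟩
    constructor
    · intro φ
      rw [map_eq_rTensor_lTensor, ev_rTensor]
      exact (ev W φ _).2
    · intro ψ
      rw [map_eq_lTensor_rTensor, evl_lTensor]
      exact (evl D ψ _).2
  · rintro ⟨h1, h2⟩
    obtain ⟨y, rfl⟩ := mem_range_rTensor_subtype_of_ev W x h1
    have hy : y ∈ LinearMap.range (D.subtype.lTensor W) := by
      rw [mem_range_lTensor_subtype_iff]
      have hinj : Function.Injective (W.subtype.rTensor (C ⧸ D)) :=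
        Module.Flat.rTensor_preserves_injective_linearMap _ W.injective_subtype
      apply hinj
      rw [map_zero]
      have h3 : D.mkQ.lTensor V (W.subtype.rTensor C y) = 0 := by
        apply eq_zero_of_forall_evl
        intro ψ
        rw [evl_lTensor, Submodule.mkQ_apply, Submodule.Quotient.mk_eq_zero]
        exact h2 ψ
      rw [← h3]
      exact (ComodTens.lTensor_rTensor_comm D.mkQ W.subtype y).symm
    obtain ⟨z, rfl⟩ := hy
    exact ⟨z, map_eq_rTensor_lTensor _ _ z⟩

end MapSubtype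

section Subcoalg

variable {k : Type u} [Field k] {C : Type v} [AddCommGroup C] [Module k C] [Coalgebra k C]

/-- `B` is a subcoalgebra of `C`: `Δ(B) ⊆ B ⊗ B`. -/
def IsSubcoalg (B : Submodule k C) : Prop :=
  ∀ b ∈ B, CoalgebraStruct.comul (R := k) b ∈ LinearMap.range (TensorProduct.map B.subtype B.subtype)

/-- `D` is a simple subcoalgebra. -/
def IsSimpleSubcoalg (D : Submodule k C) : Prop :=
  D ≠ ⊥ ∧ IsSubcoalg D ∧ ∀ B : Submodule k C, B ≤ D → IsSubcoalg B → B = ⊥ ∨ B = D

theorem isSubcoalg_iff (B : Submodule k C) :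
    IsSubcoalg B ↔ ∀ b ∈ B, (∀ φ : C →ₗ[k] k, ev C φ (CoalgebraStruct.comul (R := k) b) ∈ B) ∧
      (∀ ψ : C →ₗ[k] k, evl C ψ (CoalgebraStruct.comul (R := k) b) ∈ B) := by
  unfold IsSubcoalg
  simp only [mem_range_map_subtype_iff]

theorem isSubcoalg_bot : IsSubcoalg (⊥ : Submodule k C) := by
  intro b hb
  rw [(Submodule.mem_bot k).mp hb, map_zero]
  exact Submodule.zero_mem _

theorem isSubcoalg_inf (B B' : Submodule k C) (hB : IsSubcoalg B) (hB' : IsSubcoalg B') :
    IsSubcoalg (B ⊓ B') := by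
  rw [isSubcoalg_iff] at hB hB' ⊢
  intro b hb
  exact ⟨fun φ => ⟨(hB b hb.1).1 φ, (hB' b hb.2).1 φ⟩, fun ψ => ⟨(hB b hb.1).2 ψ, (hB' b hb.2).2 ψ⟩⟩

theorem isSubcoalg_iSup {ι : Sort*} (B : ι → Submodule k C) (hB : ∀ i, IsSubcoalg (B i)) :
    IsSubcoalg (⨆ i, B i) := by
  rw [isSubcoalg_iff]
  intro b hb
  refine Submodule.iSup_induction B (motive := fun b =>
    (∀ φ : C →ₗ[k] k, ev C φ (CoalgebraStruct.comul (R := k) b) ∈ ⨆ i, B i) ∧
      (∀ ψ : C →ₗ[k] k, evl C ψ (CoalgebraStruct.comul (R := k) b) ∈ ⨆ i, B i)) hb ?_ ?_ ?_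
  · intro i x hx
    have := (isSubcoalg_iff (B i)).mp (hB i) x hx
    exact ⟨fun φ => Submodule.mem_iSup_of_mem i (this.1 φ), fun ψ => Submodule.mem_iSup_of_mem i (this.2 ψ)⟩
  · simp
  · intro x y hx hy
    simp only [map_add]
    exact ⟨fun φ => Submodule.add_mem _ (hx.1 φ) (hy.1 φ), fun ψ => Submodule.add_mem _ (hx.2 ψ) (hy.2 ψ)⟩

/-- A subcoalgebra is a subcomodule of the right regular comodule. -/
theorem isSubcomod_of_isSubcoalg (B : Submodule k C) (hB : IsSubcoalg B) :
    HopfRep.IsSubcomod (k := k) (A := C) B := by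
  intro b hb
  apply mem_range_rTensor_subtype_of_ev
  exact ((isSubcoalg_iff B).mp hB b hb).1

/-- If the coaction of `V` lands in `V ⊗ D₁` and in `V ⊗ D₂`, it lands in `V ⊗ (D₁ ⊓ D₂)`. -/
theorem mem_range_lTensor_subtype_inf {V : Type w} [AddCommGroup V] [Module k V]
    (D₁ D₂ : Submodule k C) (x : V ⊗[k] C)
    (h1 : x ∈ LinearMap.range (D₁.subtype.lTensor V)) (h2 : x ∈ LinearMap.range (D₂.subtype.lTensor V)) :
    x ∈ LinearMap.range ((D₁ ⊓ D₂).subtype.lTensor V) := by
  apply mem_range_lTensor_subtype_of_evl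
  intro ψ
  exact ⟨evl_mem_of_mem_range_lTensor_subtype D₁ x h1 ψ, evl_mem_of_mem_range_lTensor_subtype D₂ x h2 ψ⟩

/-- Two distinct simple subcoalgebras intersect trivially. -/
theorem inf_eq_bot_of_isSimpleSubcoalg_of_ne (D₁ D₂ : Submodule k C) (h₁ : IsSimpleSubcoalg D₁)
    (h₂ : IsSimpleSubcoalg D₂) (hne : D₁ ≠ D₂) : D₁ ⊓ D₂ = ⊥ := by
  have hsub := isSubcoalg_inf D₁ D₂ h₁.2.1 h₂.2.1
  rcases h₁.2.2 _ inf_le_left hsub with h | h
  · exact h
  · rcases h₂.2.2 _ inf_le_right hsub with h' | h'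
    · exact h'
    · exact absurd (h.symm.trans h') hne

/-- An element with zero coaction is zero. -/
theorem eq_zero_of_coact_eq_zero {V : Type w} [AddCommGroup V] [Module k V] [HopfRep.Comod k C V]
    (v : V) (h : HopfRep.Comod.coact (k := k) (A := C) v = 0) : v = 0 := by
  have hc := LinearMap.congr_fun (HopfRep.Comod.counit_comp (k := k) (A := C) (V := V)) v
  simp only [LinearMap.coe_comp, Function.comp_apply, LinearMap.flip_apply, TensorProduct.mk_apply] at hc
  rw [h, map_zero] at hc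
  have := congrArg (TensorProduct.rid k V) hc
  simpa using this.symm

end Subcoalg

end Groth.Agent.Lib.Subcoalg_helper9
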