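import Groth.Agent.Lib.InvRey2_helper9
import Groth.Agent.Lib.Subcoalg_helper9

/-!
# The span of the orbit of a vector under the rational points (reduced group, alg. closed field)

helper9.  APPEND-ONLY once landed.
-/

set_option autoImplicit false

universe u v w

open TensorProduct

namespace Groth.Agent.Lib.OrbitSpan_helper9

open Groth.Agent.Lib.ComodDual_helper9 Groth.Agent.Lib.Subcoalg_helper9
  Groth.Agent.Lib.InvRey2_helper9

section

variable {k : Type u} [CommRing k] {C : Type v} [AddCommGroup C] [Module k C]
variable {V : Type w} [AddCommGroup V] [Module k V]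

theorem apply_ev_eq (ξ : V →ₗ[k] k) (φ : C →ₗ[k] k) (x : V ⊗[k] C) :
    ξ (ev V φ x) = φ (evl C ξ x) := by
  induction x using TensorProduct.induction_on with
  | zero => simp
  | add x y hx hy => simp only [map_add, hx, hy]
  | tmul v c =>
    rw [ev_tmul, evl_tmul, map_smul, map_smul, smul_eq_mul, smul_eq_mul, mul_comm]

end

section

variable (k : Type u) [Field k] [IsAlgClosed k] (A : Type v) [CommRing A] [HopfAlgebra k A]
  [Algebra.FiniteType k A] [IsReduced A]
variable (V : Type w) [AddCommGroup V] [Module k V] [HopfRep.Comod k A V]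

theorem span_orbit (v : V) :
    Submodule.span k (Set.range fun g : A →ₐ[k] k => HopfRep.Comod.act k A V g v) =
      cyclicSub (k := k) (C := A) v := by
  apply le_antisymm
  · apply Submodule.span_le.mpr
    rintro _ ⟨g, rfl⟩
    exact ⟨g.toLinearMap, rfl⟩
  · intro w hw
    by_contra hne
    obtain ⟨ξ, hξw, hξE⟩ := Submodule.exists_dual_map_eq_bot_of_notMem hne inferInstance
    obtain ⟨φ, rfl⟩ := (mem_cyclicSub v w).mp hw
    have ha : ∀ g : A →ₐ[k] k,
        g (evl A ξ (HopfRep.Comod.coact (k := k) (A := A) v)) = 0 := by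
      intro g
      have h1 : HopfRep.Comod.act k A V g v ∈
          Submodule.span k (Set.range fun g : A →ₐ[k] k => HopfRep.Comod.act k A V g v) :=
        Submodule.subset_span ⟨g, rfl⟩
      have h2 : ξ (HopfRep.Comod.act k A V g v) = 0 := by
        have h3 := Submodule.mem_map_of_mem (f := ξ) h1
        rw [hξE] at h3
        exact (Submodule.mem_bot k).mp h3
      rw [← h2]
      exact (apply_ev_eq ξ g.toLinearMap _).symm
    have hnil := isNilpotent_of_forall_point k A _ ha
    have h0 : evl A ξ (HopfRep.Comod.coact (k := k) (A := A) v) = 0 := hnil.eq_zero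
    apply hξw
    show ξ (act φ v) = 0
    rw [act_apply, apply_ev_eq, h0, map_zero]

end

end Groth.Agent.Lib.OrbitSpan_helper9
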