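import Mathlib
import Groth.Prelude.Def_QuadSing
import Groth.Agent.Lib.LubinTate_helper1
import Groth.Agent.Lib.FGInv_helper1
import Groth.Agent.Lib.Morse_helper1

set_option autoImplicit false
set_option maxHeartbeats 1000000

universe u v w

open MvPowerSeries Finsupp

namespace Groth.Agent.Lib.VanCycMorseH1

open Groth.Agent.Lib.LubinTateH1 Groth.Agent.Lib.MorseH1 Groth.Agent.Lib.FGInvH1

section Quad
variable {σ : Type v} [Fintype σ] [DecidableEq σ] {R : Type u} [CommRing R]

lemma quad_van' {τ : Type w} (q : MvPolynomial σ R) (hq : q.IsHomogeneous 2) (s : ℕ)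
    (ε : σ → MvPowerSeries τ R) (hε : ∀ i, Van s (ε i)) :
    Van (s + s) (MvPolynomial.aeval ε q) := by
  refine quad_induction (P := fun q => Van (s + s) (MvPolynomial.aeval ε q)) ?_ ?_ ?_ q hq
  · show Van (s + s) (MvPolynomial.aeval ε (0 : MvPolynomial σ R))
    rw [map_zero]; exact van_zero _
  · intro p q hp hq
    show Van (s + s) (MvPolynomial.aeval ε (p + q))
    rw [map_add]; exact Van.add hp hq
  · intro a b c
    show Van (s + s) (MvPolynomial.aeval ε (MvPolynomial.C c * MvPolynomial.X a * MvPolynomial.X b))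
    rw [map_mul, map_mul, MvPolynomial.aeval_C, MvPolynomial.aeval_X, MvPolynomial.aeval_X,
      mul_assoc]
    exact ((hε a).mul (hε b)).mul_left _

lemma quad_cong' {τ : Type w} (q : MvPolynomial σ R) (hq : q.IsHomogeneous 2) (s : ℕ)
    (ε ε' : σ → MvPowerSeries τ R) (hε : ∀ i, Van s (ε i)) (hε' : ∀ i, Van s (ε' i)) (n : ℕ)
    (h : ∀ i, Van (n + s) (ε i - ε' i)) :
    Van (n + s + s) (MvPolynomial.aeval ε q - MvPolynomial.aeval ε' q) := by
  refine quad_induction
    (P := fun q => Van (n + s + s) (MvPolynomial.aeval ε q - MvPolynomial.aeval ε' q))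
    ?_ ?_ ?_ q hq
  · show Van (n + s + s) (MvPolynomial.aeval ε (0 : MvPolynomial σ R) - MvPolynomial.aeval ε' 0)
    rw [map_zero, map_zero, sub_zero]; exact van_zero _
  · intro p q hp hq
    show Van (n + s + s) (MvPolynomial.aeval ε (p + q) - MvPolynomial.aeval ε' (p + q))
    have e : MvPolynomial.aeval ε (p + q) - MvPolynomial.aeval ε' (p + q)
        = (MvPolynomial.aeval ε p - MvPolynomial.aeval ε' p)
          + (MvPolynomial.aeval ε q - MvPolynomial.aeval ε' q) := by
      rw [map_add, map_add]; ring
    rw [e]; exact Van.add hp hq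
  · intro a b c
    show Van (n + s + s)
      (MvPolynomial.aeval ε (MvPolynomial.C c * MvPolynomial.X a * MvPolynomial.X b)
      - MvPolynomial.aeval ε' (MvPolynomial.C c * MvPolynomial.X a * MvPolynomial.X b))
    have e : MvPolynomial.aeval ε (MvPolynomial.C c * MvPolynomial.X a * MvPolynomial.X b)
      - MvPolynomial.aeval ε' (MvPolynomial.C c * MvPolynomial.X a * MvPolynomial.X b)
      = algebraMap R (MvPowerSeries τ R) c * ((ε a - ε' a) * ε b + ε' a * (ε b - ε' b)) := by
      simp only [map_mul, MvPolynomial.aeval_C, MvPolynomial.aeval_X]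
      ring
    rw [e]
    refine Van.mul_left _ (Van.add ?_ ?_)
    · exact ((h a).mul (hε b)).mono (by omega)
    · exact ((hε' a).mul (h b)).mono (by omega)

lemma aeval_X_eq_coe' (p : MvPolynomial σ R) :
    MvPolynomial.aeval (X : σ → MvPowerSeries σ R) p = (p : MvPowerSeries σ R) := by
  have h1 := subst_coe (a := (X : σ → MvPowerSeries σ R)) p
  rw [subst_self] at h1
  exact h1.symm

/-- substituting `X + h` with `h` of order `≥ 2` is a bijection of the power series ring -/
lemma subst_sub_self_van (h : σ → MvPowerSeries σ R) (hh : ∀ i, Van 2 (h i))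
    (g : MvPowerSeries σ R) (d : ℕ) (hg : Van d g) :
    Van (d + 1) (subst (fun i => X i + h i) g - g) := by
  have h0 : ∀ i, constantCoeff (X i + h i) = 0 := fun i => by
    rw [map_add, constantCoeff_X, zero_add]
    exact van_one_iff.mp ((hh i).mono (by omega))
  have := subst_congr_van (n := 1) g hg (fun i => X i + h i) (fun i => (X i : MvPowerSeries σ R))
    h0 (fun i => constantCoeff_X i) (fun i => by
      have e : (X i + h i) - X i = h i := by ring
      rw [e]; exact hh i)
  have e2 : subst (fun i => (X i : MvPowerSeries σ R)) g = g := by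
    have := subst_self (σ := σ) (R := R)
    exact congrFun this g
  rw [e2] at this
  exact this.mono (by omega)

lemma subst_bijective (h : σ → MvPowerSeries σ R) (hh : ∀ i, Van 2 (h i)) :
    Function.Bijective
      (subst (fun i => X i + h i) : MvPowerSeries σ R → MvPowerSeries σ R) := by
  have h0 : ∀ i, constantCoeff (X i + h i) = 0 := fun i => by
    rw [map_add, constantCoeff_X, zero_add]
    exact van_one_iff.mp ((hh i).mono (by omega))
  have hs : HasSubst (fun i => X i + h i) := hasSubst_of_constantCoeff_zero h0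
  constructor
  · intro g g' hgg
    rw [← sub_eq_zero]
    have h1 : subst (fun i => X i + h i) (g - g') = 0 := by
      rw [subst_sub hs, hgg, sub_self]
    apply eq_zero_of_forall_van
    intro d
    induction d with
    | zero => exact van_zero_left _
    | succ d ih =>
      have := subst_sub_self_van h hh (g - g') d ih
      rw [h1, zero_sub] at this
      have := this.neg
      rwa [neg_neg] at this
  · intro t
    let T : (Unit → MvPowerSeries σ R) → (Unit → MvPowerSeries σ R) :=
      fun g _ => g () + t - subst (fun i => X i + h i) (g ())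
    obtain ⟨g, _, hfix⟩ := exists_fixed_tuple 0 T (fun g _ i => van_zero_left _) (by
      intro n g g' _ _ hgg i
      have e : T g i - T g' i
          = -(subst (fun i => X i + h i) (g () - g' ()) - (g () - g' ())) := by
        show (g () + t - subst (fun i => X i + h i) (g ()))
          - (g' () + t - subst (fun i => X i + h i) (g' ())) = _
        rw [subst_sub hs]; ring
      rw [e]
      exact (subst_sub_self_van h hh _ (n + 0) (hgg ())).neg)
    refine ⟨g (), ?_⟩
    have := congrFun hfix ()
    have e : g () + t - subst (fun i => X i + h i) (g ()) = g () := this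
    linear_combination -e

end Quad

section Main
variable {A : Type u} [CommRing A] {n : ℕ}

lemma quadPoly_hom (q : Fin n → Fin n → A) : (VanCyc.quadPoly q).IsHomogeneous 2 := by
  unfold VanCyc.quadPoly
  apply MvPolynomial.IsHomogeneous.sum
  intro i _
  apply MvPolynomial.IsHomogeneous.sum
  intro j _
  split_ifs
  · exact ((MvPolynomial.isHomogeneous_C _ _).mul (MvPolynomial.isHomogeneous_X _ _)).mul
      (MvPolynomial.isHomogeneous_X _ _)
  · exact MvPolynomial.isHomogeneous_zero _ _ _

lemma polar_split (q : Fin n → Fin n → A) (i j : Fin n) :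
    VanCyc.polarMatrix q i j = (if i ≤ j then q i j else 0) + (if j ≤ i then q j i else 0) := by
  unfold VanCyc.polarMatrix
  rcases lt_trichotomy i j with h | h | h
  · have h1 : i ≠ j := ne_of_lt h
    have h2 : i ≤ j := le_of_lt h
    have h3 : ¬ j ≤ i := not_le.mpr h
    simp [h1, h, h2, h3]
  · subst h; simp [two_mul]
  · have h1 : i ≠ j := (ne_of_lt h).symm
    have h2 : ¬ i < j := not_lt.mpr (le_of_lt h)
    have h3 : ¬ i ≤ j := not_le.mpr h
    simp [h1, h2, h3, le_of_lt h]

lemma taylor_quadPoly {S : Type*} [CommRing S] [Algebra A S] (q : Fin n → Fin n → A)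
    (x y : Fin n → S) :
    MvPolynomial.aeval (fun i => x i + y i) (VanCyc.quadPoly q)
      = MvPolynomial.aeval x (VanCyc.quadPoly q)
        + ∑ i, (∑ j, algebraMap A S (VanCyc.polarMatrix q i j) * x j) * y i
        + MvPolynomial.aeval y (VanCyc.quadPoly q) := by
  have hmid : ∑ i, (∑ j, algebraMap A S (VanCyc.polarMatrix q i j) * x j) * y i
      = ∑ i, ∑ j, (if i ≤ j then algebraMap A S (q i j) * (x j * y i + x i * y j) else 0) := by
    calc ∑ i, (∑ j, algebraMap A S (VanCyc.polarMatrix q i j) * x j) * y i
        = ∑ i, ∑ j, ((if i ≤ j then algebraMap A S (q i j) * x j * y i else 0)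
            + (if j ≤ i then algebraMap A S (q j i) * x j * y i else 0)) := by
          refine Finset.sum_congr rfl fun i _ => ?_
          rw [Finset.sum_mul]
          refine Finset.sum_congr rfl fun j _ => ?_
          rw [polar_split, map_add]
          split_ifs <;> (try simp only [map_zero, add_zero, zero_add, zero_mul]) <;> ring
      _ = ∑ i, ∑ j, (if i ≤ j then algebraMap A S (q i j) * x j * y i else 0)
            + ∑ i, ∑ j, (if j ≤ i then algebraMap A S (q j i) * x j * y i else 0) := by
          simp only [Finset.sum_add_distrib]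
      _ = ∑ i, ∑ j, (if i ≤ j then algebraMap A S (q i j) * x j * y i else 0)
            + ∑ i, ∑ j, (if i ≤ j then algebraMap A S (q i j) * x i * y j else 0) := by
          congr 1
          rw [Finset.sum_comm]
      _ = _ := by
          rw [← Finset.sum_add_distrib]
          refine Finset.sum_congr rfl fun i _ => ?_
          rw [← Finset.sum_add_distrib]
          refine Finset.sum_congr rfl fun j _ => ?_
          split_ifs <;> ring
  rw [hmid]
  unfold VanCyc.quadPoly
  simp only [map_sum]
  rw [← Finset.sum_add_distrib, ← Finset.sum_add_distrib]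
  refine Finset.sum_congr rfl fun i _ => ?_
  rw [← Finset.sum_add_distrib, ← Finset.sum_add_distrib]
  refine Finset.sum_congr rfl fun j _ => ?_
  split_ifs
  · simp only [map_mul, MvPolynomial.aeval_C, MvPolynomial.aeval_X]
    ring
  · simp

theorem morse_ring (m : ℕ) (hm : 2 ≤ m) (q : Fin n → Fin n → A) (hq : VanCyc.QuadNondeg q)
    (a : A) (F : MvPowerSeries (Fin n) A)
    (hF : Van (m + 1) (F - ((VanCyc.quadPoly q + MvPolynomial.C a : MvPolynomial (Fin n) A) :
      MvPowerSeries (Fin n) A))) :
    ∃ h : Fin n → MvPowerSeries (Fin n) A, (∀ i, Van m (h i)) ∧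
      subst (fun i => X i + h i) F
        = ((VanCyc.quadPoly q + MvPolynomial.C a : MvPolynomial (Fin n) A) :
          MvPowerSeries (Fin n) A) := by
  classical
  set Qp : MvPolynomial (Fin n) A := VanCyc.quadPoly q with hQp
  have hQh : Qp.IsHomogeneous 2 := quadPoly_hom q
  set E : MvPowerSeries (Fin n) A := F - ((Qp + MvPolynomial.C a : MvPolynomial (Fin n) A) :
      MvPowerSeries (Fin n) A) with hE
  let P : Matrix (Fin n) (Fin n) A := VanCyc.polarMatrix q
  have hPu : IsUnit P.det := hq
  let c : Matrix (Fin n) (Fin n) A := P⁻¹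
  have hcP : c * P = 1 := Matrix.nonsing_inv_mul P hPu
  let aM := algebraMap A (MvPowerSeries (Fin n) A)
  let ℓ : Fin n → MvPowerSeries (Fin n) A := fun i => ∑ l, aM (P i l) * X l
  have hc : ∀ j, ∑ i, aM (c j i) * ℓ i = X j := by
    intro j
    calc ∑ i, aM (c j i) * ℓ i = ∑ l, (∑ i, aM (c j i) * aM (P i l)) * X l := by
          simp only [ℓ, Finset.mul_sum, Finset.sum_mul]
          rw [Finset.sum_comm]
          refine Finset.sum_congr rfl fun l _ => Finset.sum_congr rfl fun i _ => by ring
      _ = ∑ l, aM ((c * P) j l) * X l := by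
          refine Finset.sum_congr rfl fun l _ => ?_
          rw [Matrix.mul_apply, map_sum]
          simp only [map_mul]
      _ = X j := by
          rw [hcP]
          simp only [Matrix.one_apply]
          rw [Finset.sum_eq_single j]
          · rw [if_pos rfl, map_one, one_mul]
          · intro l _ hl
            rw [if_neg (Ne.symm hl), map_zero, zero_mul]
          · intro hj; exact absurd (Finset.mem_univ j) hj
  have hm1 : 1 ≤ m := by omega
  have h0 : ∀ (h : Fin n → MvPowerSeries (Fin n) A), (∀ i, Van m (h i)) →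
      ∀ i, constantCoeff (X i + h i) = 0 := fun h hh i => by
    rw [map_add, constantCoeff_X, zero_add]
    exact van_one_iff.mp ((hh i).mono hm1)
  let G : (Fin n → MvPowerSeries (Fin n) A) → MvPowerSeries (Fin n) A :=
    fun h => -(MvPolynomial.aeval h Qp) - subst (fun i => X i + h i) E
  let T : (Fin n → MvPowerSeries (Fin n) A) → (Fin n → MvPowerSeries (Fin n) A) :=
    fun h i => ∑ j, aM (c j i) * Q j (G h)
  have hGv : ∀ h, (∀ i, Van m (h i)) → Van (m + 1) (G h) := by
    intro h hh
    refine Van.sub ((quad_van' Qp hQh m h hh).mono (by omega)).neg ?_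
    exact Van.subst (h0 h hh) hF
  have hT0 : ∀ g, (∀ i, Van m (g i)) → ∀ i, Van m (T g i) := by
    intro g hg i
    apply van_sum
    intro j _
    exact (Q_van j (hGv g hg)).mul_left _
  have hT : ∀ N g g', (∀ i, Van m (g i)) → (∀ i, Van m (g' i)) →
      (∀ i, Van (N + m) (g i - g' i)) → ∀ i, Van (N + m + 1) (T g i - T g' i) := by
    intro N g g' hg hg' hgg i
    have e : T g i - T g' i = ∑ j, aM (c j i) * Q j (G g - G g') := by
      show ∑ j, aM (c j i) * Q j (G g) - ∑ j, aM (c j i) * Q j (G g') = _
      rw [← Finset.sum_sub_distrib]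
      refine Finset.sum_congr rfl fun j _ => ?_
      rw [← mul_sub, ← Q_sub]
    rw [e]
    apply van_sum
    intro j _
    refine Van.mul_left _ ?_
    have hGG : Van (N + m + m) (G g - G g') := by
      have e2 : G g - G g' = -(MvPolynomial.aeval g Qp - MvPolynomial.aeval g' Qp)
          - (subst (fun i => X i + g i) E - subst (fun i => X i + g' i) E) := by
        simp only [G]; ring
      rw [e2]
      refine Van.sub (quad_cong' Qp hQh m g g' hg hg' N hgg).neg ?_
      have := subst_congr_van (n := N + m - 1) E hF (fun i => X i + g i) (fun i => X i + g' i)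
        (h0 g hg) (h0 g' hg') (fun i => by
          have e3 : (X i + g i) - (X i + g' i) = g i - g' i := by ring
          rw [e3]
          exact (hgg i).mono (by omega))
      exact this.mono (by omega)
    have hGG' : Van (N + m + m - 1 + 1) (G g - G g') := hGG.mono (by omega)
    exact (Q_van j hGG').mono (by omega)
  obtain ⟨h, hhm, hfix⟩ := exists_fixed_tuple m T hT0 hT
  have hG0 : constantCoeff (G h) = 0 := van_one_iff.mp ((hGv h hhm).mono (by omega))
  have hsum : ∑ i, ℓ i * h i = G h := by
    have hfi : ∀ i, h i = ∑ j, aM (c j i) * Q j (G h) := fun i => (congrFun hfix i).symm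
    calc ∑ i, ℓ i * h i = ∑ i, ℓ i * ∑ j, aM (c j i) * Q j (G h) := by
          refine Finset.sum_congr rfl fun i _ => ?_
          rw [← hfi i]
      _ = ∑ j, (∑ i, aM (c j i) * ℓ i) * Q j (G h) := by
          simp only [Finset.mul_sum, Finset.sum_mul]
          rw [Finset.sum_comm]
          refine Finset.sum_congr rfl fun j _ => Finset.sum_congr rfl fun i _ => by ring
      _ = ∑ j, X j * Q j (G h) := by simp only [hc]
      _ = G h := sum_X_mul_Q _ hG0
  have hs : HasSubst (fun i => X i + h i) := hasSubst_of_constantCoeff_zero (h0 h hhm)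
  refine ⟨h, hhm, ?_⟩
  have hFE : F = ((Qp + MvPolynomial.C a : MvPolynomial (Fin n) A) : MvPowerSeries (Fin n) A) + E := by
    rw [hE]; ring
  have htay := taylor_quadPoly q (X : Fin n → MvPowerSeries (Fin n) A) h
  rw [← hQp] at htay
  have hsum' : ∑ i, (∑ j, algebraMap A (MvPowerSeries (Fin n) A) (VanCyc.polarMatrix q i j) * X j)
      * h i = G h := hsum
  rw [hsum', aeval_X_eq_coe'] at htay
  conv_lhs => rw [hFE]
  rw [subst_add hs, subst_coe, map_add, htay, MvPolynomial.aeval_C, MvPolynomial.coe_add,
    MvPolynomial.coe_C, ← c_eq_algebraMap]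
  simp only [G]
  ring

theorem main16230
    (A : Type u) [CommRing A] [IsLocalRing A] (n m : ℕ) (hm : 2 ≤ m)
    (q : Fin n → Fin n → A) (hq : VanCyc.QuadNondeg q) (a : A)
    (F : MvPowerSeries (Fin n) A)
    (hF : ∀ e : Fin n →₀ ℕ, e.degree ≤ m →
      MvPowerSeries.coeff e F = MvPowerSeries.coeff e ((VanCyc.quadPoly q + MvPolynomial.C a : MvPolynomial (Fin n) A) : MvPowerSeries (Fin n) A)) :
    ∃ h : Fin n → MvPowerSeries (Fin n) A,
      (∀ (i : Fin n) (e : Fin n →₀ ℕ), e.degree < m → MvPowerSeries.coeff e (h i) = 0) ∧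
      MvPowerSeries.HasSubst (fun i => MvPowerSeries.X i + h i) ∧
      MvPowerSeries.subst (fun i => MvPowerSeries.X i + h i) F = ((VanCyc.quadPoly q + MvPolynomial.C a : MvPolynomial (Fin n) A) : MvPowerSeries (Fin n) A) ∧
      Nonempty ((MvPowerSeries (Fin n) A ⧸ Ideal.span {F}) ≃ₐ[A]
        (MvPowerSeries (Fin n) A ⧸ Ideal.span {((VanCyc.quadPoly q + MvPolynomial.C a : MvPolynomial (Fin n) A) : MvPowerSeries (Fin n) A)})) := by
  have hF' : Van (m + 1) (F - ((VanCyc.quadPoly q + MvPolynomial.C a : MvPolynomial (Fin n) A) :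
      MvPowerSeries (Fin n) A)) := by
    intro e he
    rw [map_sub, hF e (by omega), sub_self]
  obtain ⟨h, hhm, hsub⟩ := morse_ring m hm q hq a F hF'
  have h0 : ∀ i, constantCoeff (X i + h i) = 0 := fun i => by
    rw [map_add, constantCoeff_X, zero_add]
    exact van_one_iff.mp ((hhm i).mono (by omega))
  have hs : HasSubst (fun i => X i + h i) := hasSubst_of_constantCoeff_zero h0
  refine ⟨h, hhm, hs, hsub, ?_⟩
  have hbij := subst_bijective h (fun i => (hhm i).mono hm)
  let φ : MvPowerSeries (Fin n) A ≃ₐ[A] MvPowerSeries (Fin n) A :=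
    AlgEquiv.ofBijective (substAlgHom hs) (by rw [coe_substAlgHom]; exact hbij)
  refine ⟨Ideal.quotientEquivAlg _ _ φ ?_⟩
  rw [Ideal.map_span, Set.image_singleton]
  congr 2
  show _ = (substAlgHom hs) F
  rw [coe_substAlgHom, hsub]

end Main

end Groth.Agent.Lib.VanCycMorseH1
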