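import Mathlib
import Groth.Prelude.Def_QuadSing
import Groth.Agent.Lib.VanCycMorse_helper1

/-!
# Linear algebra of ordinary quadratic forms (helper5)

For an ordinary quadratic form `Q` in `N` variables over an algebraically closed field (any
characteristic), with polar matrix `P` and partial derivatives `ℓ_i = Σ_l P_{il} x_l`:
every monomial `x_α x_β` is a `k`-linear combination of `Q` and the products `ℓ_i x_j`
(`key_identity`).  In the degenerate case (characteristic two, `N` odd) the kernel of `P` is a line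
`k·e` with `Q(e) ≠ 0` (`ker_polar`) and the range of `P` is `e^⊥` (`exists_mulVec_eq`).
-/

set_option autoImplicit false
set_option maxHeartbeats 1000000
universe u

open Matrix Module

namespace Groth.Agent.Lib.OrdMorseLinH5


variable {k : Type u} [Field k] {N : ℕ}

/-- a symmetric matrix with one-dimensional kernel `k·e` has range `e^⊥`. -/
theorem exists_mulVec_eq (P : Matrix (Fin N) (Fin N) k) (hP : P.IsSymm) (e : Fin N → k)
    (he : e ≠ 0) (hPe : P *ᵥ e = 0) (hker : ∀ e', P *ᵥ e' = 0 → ∃ s : k, e' = s • e)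
    (y : Fin N → k) (hy : y ⬝ᵥ e = 0) : ∃ c, P *ᵥ c = y := by
  classical
  let φ : (Fin N → k) →ₗ[k] (Fin N → k) := P.mulVecLin
  let ψ : (Fin N → k) →ₗ[k] k :=
    { toFun := fun y => y ⬝ᵥ e
      map_add' := fun a b => add_dotProduct a b e
      map_smul' := fun c a => smul_dotProduct c a e }
  have hψ : ∀ y, ψ y = y ⬝ᵥ e := fun y => rfl
  have hφ : ∀ x, φ x = P *ᵥ x := fun x => rfl
  obtain ⟨i₀, hi₀⟩ : ∃ i₀, e i₀ ≠ 0 := by
    by_contra h
    push Not at h
    exact he (funext h)
  have hψsurj : LinearMap.range ψ = ⊤ := by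
    rw [LinearMap.range_eq_top]
    intro z
    refine ⟨Pi.single i₀ (z / e i₀), ?_⟩
    rw [hψ, single_dotProduct, div_mul_cancel₀ _ hi₀]
  have h1 : finrank k (LinearMap.ker ψ) + 1 = N := by
    have := LinearMap.finrank_range_add_finrank_ker ψ
    rw [hψsurj, finrank_top, Module.finrank_self, Module.finrank_fin_fun] at this
    omega
  have hkerφ : LinearMap.ker φ = Submodule.span k {e} := by
    ext x
    rw [LinearMap.mem_ker, hφ, Submodule.mem_span_singleton]
    constructor
    · intro h
      obtain ⟨s, hs⟩ := hker x h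
      exact ⟨s, hs.symm⟩
    · rintro ⟨s, rfl⟩
      rw [mulVec_smul, hPe, smul_zero]
  have h2 : finrank k (LinearMap.range φ) + 1 = N := by
    have := LinearMap.finrank_range_add_finrank_ker φ
    rw [hkerφ, finrank_span_singleton he, Module.finrank_fin_fun] at this
    exact this
  have hle : LinearMap.range φ ≤ LinearMap.ker ψ := by
    rintro _ ⟨x, rfl⟩
    rw [LinearMap.mem_ker, hψ, hφ, dotProduct_comm, dotProduct_mulVec, ← mulVec_transpose,
      hP.eq, hPe, zero_dotProduct]
  have heq : LinearMap.range φ = LinearMap.ker ψ :=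
    Submodule.eq_of_le_of_finrank_eq hle (by omega)
  have hy' : y ∈ LinearMap.range φ := by
    rw [heq, LinearMap.mem_ker, hψ, hy]
  obtain ⟨c, hc⟩ := hy'
  exact ⟨c, hc⟩




theorem aeval_quadPoly (a : Fin N → Fin N → k) (v : Fin N → k) :
    MvPolynomial.aeval v (VanCyc.quadPoly a) = VanCyc.quadEval a v := by
  unfold VanCyc.quadPoly VanCyc.quadEval
  simp only [map_sum]
  refine Finset.sum_congr rfl fun i _ => Finset.sum_congr rfl fun j _ => ?_
  split_ifs
  · simp only [map_mul, MvPolynomial.aeval_C, MvPolynomial.aeval_X]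
    rfl
  · simp

theorem quadEval_add (a : Fin N → Fin N → k) (u v : Fin N → k) :
    VanCyc.quadEval a (u + v) = VanCyc.quadEval a u + (VanCyc.polarMatrix a *ᵥ u) ⬝ᵥ v
      + VanCyc.quadEval a v := by
  have h := Groth.Agent.Lib.VanCycMorseH1.taylor_quadPoly (S := k) a u v
  simp only [aeval_quadPoly] at h
  have e : (fun i => u i + v i) = u + v := rfl
  rw [e] at h
  rw [h]
  rfl

theorem quadEval_smul (a : Fin N → Fin N → k) (s : k) (u : Fin N → k) :
    VanCyc.quadEval a (s • u) = s * s * VanCyc.quadEval a u := by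
  unfold VanCyc.quadEval
  rw [Finset.mul_sum]
  refine Finset.sum_congr rfl fun i _ => ?_
  rw [Finset.mul_sum]
  refine Finset.sum_congr rfl fun j _ => ?_
  split_ifs
  · simp only [Pi.smul_apply, smul_eq_mul]; ring
  · simp

/-- for an ordinary form over an algebraically closed field, the kernel of the polar matrix is at
most a line on which the form does not vanish. -/
theorem ker_polar [IsAlgClosed k] (a : Fin N → Fin N → k) (ha : VanCyc.QuadOrd a)
    (e : Fin N → k) (he : e ≠ 0) (hPe : VanCyc.polarMatrix a *ᵥ e = 0) :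
    VanCyc.quadEval a e ≠ 0 ∧
      ∀ e', VanCyc.polarMatrix a *ᵥ e' = 0 → ∃ s : k, e' = s • e := by
  have hq : VanCyc.quadEval a e ≠ 0 := fun h => he (ha e h hPe)
  refine ⟨hq, fun e' he' => ?_⟩
  obtain ⟨z, hz⟩ := IsAlgClosed.exists_eq_mul_self (-(VanCyc.quadEval a e') / VanCyc.quadEval a e)
  have h1 : VanCyc.quadEval a (z • e + e') = 0 := by
    rw [quadEval_add, quadEval_smul, mulVec_smul, hPe, smul_zero, zero_dotProduct, add_zero,
      ← hz, div_mul_cancel₀ _ hq]
    ring
  have h2 : VanCyc.polarMatrix a *ᵥ (z • e + e') = 0 := by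
    rw [mulVec_add, mulVec_smul, hPe, he', smul_zero, add_zero]
  have h3 := ha _ h1 h2
  refine ⟨-z, ?_⟩
  rw [neg_smul]
  exact eq_neg_of_add_eq_zero_right h3

theorem polar_isSymm (a : Fin N → Fin N → k) : (VanCyc.polarMatrix a).IsSymm := by
  ext i j
  rw [Matrix.transpose_apply]
  unfold VanCyc.polarMatrix
  rcases lt_trichotomy i j with h | h | h
  · rw [if_neg (ne_of_gt h), if_neg (not_lt.mpr (le_of_lt h)), if_neg (ne_of_lt h), if_pos h]
  · subst h; rfl
  · rw [if_neg (ne_of_lt h), if_pos h, if_neg (ne_of_gt h), if_neg (not_lt.mpr (le_of_lt h))]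




section Key

open MvPolynomial

variable (a : Fin N → Fin N → k)

/-- the linear form `∂Q/∂x_i` -/
noncomputable def ell (i : Fin N) : MvPolynomial (Fin N) k :=
  ∑ l, C (VanCyc.polarMatrix a i l) * X l

/-- the linear form with coefficient vector `y` -/
noncomputable def lin (y : Fin N → k) : MvPolynomial (Fin N) k := ∑ i, C (y i) * X i

/-- the span of `Q` and the products `ℓ_i x_j` -/
noncomputable def U : Submodule k (MvPolynomial (Fin N) k) :=
  Submodule.span k (insert (VanCyc.quadPoly a)
    (Set.range fun ij : Fin N × Fin N => ell a ij.1 * X ij.2))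

theorem quad_mem : VanCyc.quadPoly a ∈ U a :=
  Submodule.subset_span (Set.mem_insert _ _)

theorem ell_mul_X_mem (i j : Fin N) : ell a i * X j ∈ U a :=
  Submodule.subset_span (Set.mem_insert_of_mem _ ⟨(i, j), rfl⟩)

theorem C_mul_mem {p : MvPolynomial (Fin N) k} (c : k) (hp : p ∈ U a) : C c * p ∈ U a := by
  rw [← MvPolynomial.smul_eq_C_mul]
  exact (U a).smul_mem c hp

theorem comb_eq (c : Fin N → k) :
    ∑ l, C (c l) * ell a l = lin (VanCyc.polarMatrix a *ᵥ c) := by
  unfold ell lin
  simp only [Finset.mul_sum]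
  rw [Finset.sum_comm]
  refine Finset.sum_congr rfl fun j _ => ?_
  rw [Matrix.mulVec, dotProduct, map_sum, Finset.sum_mul]
  refine Finset.sum_congr rfl fun l _ => ?_
  have hs : VanCyc.polarMatrix a l j = VanCyc.polarMatrix a j l := by
    have := (polar_isSymm a).apply j l
    exact this
  rw [hs, map_mul]
  ring

theorem lin_mul_X_mem (y : Fin N → k) (hy : ∃ c, VanCyc.polarMatrix a *ᵥ c = y) (j : Fin N) :
    lin y * X j ∈ U a := by
  obtain ⟨c, rfl⟩ := hy
  rw [← comb_eq, Finset.sum_mul]
  refine Submodule.sum_mem _ fun l _ => ?_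
  rw [mul_assoc]
  exact C_mul_mem a _ (ell_mul_X_mem a l j)

theorem lin_single (α : Fin N) : lin (Pi.single α (1 : k)) = X α := by
  unfold lin
  rw [Finset.sum_eq_single α]
  · rw [Pi.single_eq_same, map_one, one_mul]
  · intro b _ hb
    rw [Pi.single_eq_of_ne hb, map_zero, zero_mul]
  · intro h; exact absurd (Finset.mem_univ α) h

theorem lin_sub_smul (α s₀ : Fin N) (c : k) :
    lin (Pi.single α (1 : k) - c • Pi.single s₀ (1 : k)) = X α - C c * X s₀ := by
  rw [← lin_single α, ← lin_single s₀]
  unfold lin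
  rw [Finset.mul_sum, ← Finset.sum_sub_distrib]
  refine Finset.sum_congr rfl fun i _ => ?_
  simp only [Pi.sub_apply, Pi.smul_apply, smul_eq_mul, map_sub, map_mul]
  ring

variable [IsAlgClosed k]

theorem X_mul_X_mem (ha : VanCyc.QuadOrd a) (α β : Fin N) : X α * X β ∈ U a := by
  classical
  by_cases hdet : (VanCyc.polarMatrix a).det = 0
  · -- degenerate polar form
    obtain ⟨e₀, he₀, hPe₀⟩ := Matrix.exists_mulVec_eq_zero_iff.mpr hdet
    obtain ⟨s₀, hs₀⟩ : ∃ i₀, e₀ i₀ ≠ 0 := by
      by_contra h
      push Not at h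
      exact he₀ (funext h)
    obtain ⟨e, hedef⟩ : ∃ e : Fin N → k, e = (e₀ s₀)⁻¹ • e₀ := ⟨_, rfl⟩
    have hes : e s₀ = 1 := by
      rw [hedef, Pi.smul_apply, smul_eq_mul, inv_mul_cancel₀ hs₀]
    have he : e ≠ 0 := by
      intro h
      have := congrFun h s₀
      rw [hes] at this
      exact one_ne_zero this
    have hPe : VanCyc.polarMatrix a *ᵥ e = 0 := by
      rw [hedef, mulVec_smul, hPe₀, smul_zero]
    obtain ⟨hq, hker⟩ := ker_polar a ha e he hPe
    have hL : ∀ α j : Fin N, (X α - C (e α) * X s₀) * X j ∈ U a := by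
      intro α j
      rw [← lin_sub_smul]
      refine lin_mul_X_mem a _ ?_ j
      apply exists_mulVec_eq _ (polar_isSymm a) e he hPe hker
      rw [sub_dotProduct, smul_dotProduct, single_dotProduct, single_dotProduct, one_mul, one_mul,
        hes, smul_eq_mul, mul_one, sub_self]
    have hterm : ∀ i j : Fin N, C (a i j) * X i * X j
        - C (a i j * e i * e j) * (X s₀ * X s₀) ∈ U a := by
      intro i j
      have e1 : C (a i j) * X i * X j - C (a i j * e i * e j) * (X s₀ * X s₀)
          = C (a i j) * ((X i - C (e i) * X s₀) * X j)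
            + C (a i j * e i) * ((X j - C (e j) * X s₀) * X s₀) := by
        simp only [map_mul]
        ring
      rw [e1]
      exact (U a).add_mem (C_mul_mem a _ (hL i j)) (C_mul_mem a _ (hL j s₀))
    have hw : C (VanCyc.quadEval a e) * (X s₀ * X s₀) ∈ U a := by
      have e2 : C (VanCyc.quadEval a e) * (X s₀ * X s₀)
          = VanCyc.quadPoly a - ∑ i, ∑ j, (if i ≤ j then C (a i j) * X i * X j
              - C (a i j * e i * e j) * (X s₀ * X s₀) else 0) := by
        unfold VanCyc.quadPoly VanCyc.quadEval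
        rw [← Finset.sum_sub_distrib, map_sum, Finset.sum_mul]
        refine Finset.sum_congr rfl fun i _ => ?_
        rw [← Finset.sum_sub_distrib, map_sum, Finset.sum_mul]
        refine Finset.sum_congr rfl fun j _ => ?_
        split_ifs
        · ring
        · simp
      rw [e2]
      refine (U a).sub_mem (quad_mem a) (Submodule.sum_mem _ fun i _ =>
        Submodule.sum_mem _ fun j _ => ?_)
      split_ifs
      · exact hterm i j
      · exact (U a).zero_mem
    have hww : X s₀ * X s₀ ∈ U a := by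
      have := C_mul_mem a (VanCyc.quadEval a e)⁻¹ hw
      rwa [← mul_assoc, ← map_mul, inv_mul_cancel₀ hq, map_one, one_mul] at this
    have e3 : X α * X β = (X α - C (e α) * X s₀) * X β
        + C (e α) * ((X β - C (e β) * X s₀) * X s₀) + C (e α * e β) * (X s₀ * X s₀) := by
      simp only [map_mul]
      ring
    rw [e3]
    exact (U a).add_mem ((U a).add_mem (hL α β) (C_mul_mem a _ (hL β s₀))) (C_mul_mem a _ hww)
  · -- non-degenerate polar form
    rw [← lin_single α]
    refine lin_mul_X_mem a _ ⟨(VanCyc.polarMatrix a)⁻¹ *ᵥ Pi.single α 1, ?_⟩ β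
    rw [Matrix.mulVec_mulVec, Matrix.mul_nonsing_inv _ (isUnit_iff_ne_zero.mpr hdet),
      Matrix.one_mulVec]

/-- **the key identity**: `x_α x_β = λ Q + Σ_{i,j} M_{ij} ℓ_i x_j`. -/
theorem key_identity (ha : VanCyc.QuadOrd a) (α β : Fin N) :
    ∃ (lam : k) (M : Fin N → Fin N → k),
      (X α * X β : MvPolynomial (Fin N) k) = C lam * VanCyc.quadPoly a
        + ∑ i, ∑ j, C (M i j) * (ell a i * X j) := by
  have h := X_mul_X_mem a ha α β
  unfold U at h
  rw [Submodule.mem_span_insert] at h
  obtain ⟨lam, z, hz, hx⟩ := h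
  obtain ⟨c, hc⟩ := (Submodule.mem_span_range_iff_exists_fun k).mp hz
  refine ⟨lam, fun i j => c (i, j), ?_⟩
  rw [hx, ← hc, Fintype.sum_prod_type, MvPolynomial.smul_eq_C_mul]
  congr 1
  refine Finset.sum_congr rfl fun i _ => Finset.sum_congr rfl fun j _ => ?_
  rw [MvPolynomial.smul_eq_C_mul]

end Key

end Groth.Agent.Lib.OrdMorseLinH5
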