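import Mathlib

/-!
# Translation of formal power series over a complete local ring (helper5)

For a local ring `A` complete for its maximal-adic topology and `c ∈ 𝔪^n`: evaluation of power
series at `c`, the translation automorphism `x ↦ x + c` of `A[[x]]`, and first-order Taylor
formulas.  Built on Mathlib's topological evaluation `MvPowerSeries.aeval`.
-/

set_option autoImplicit false
set_option maxHeartbeats 1000000
set_option linter.unusedVariables false
set_option warn.classDefReducibility false
universe u

open MvPowerSeries IsLocalRing Filter Topology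
open scoped MvPowerSeries.WithPiTopology

namespace Groth.Agent.Lib.PSTransH5

/-- the maximal-adic topology -/
noncomputable def wI (A : Type u) [CommRing A] [IsLocalRing A] : WithIdeal A := ⟨maximalIdeal A⟩

section Top

attribute [local instance] wI

variable {A : Type u} [CommRing A] [IsLocalRing A]

theorem isAdic_max : IsAdic (maximalIdeal A) := rfl

theorem isOpen_pow (k : ℕ) : IsOpen (((maximalIdeal A) ^ k : Ideal A) : Set A) :=
  (isAdic_iff.1 (isAdic_max (A := A))).1 k

theorem isClosed_pow (k : ℕ) : IsClosed (((maximalIdeal A) ^ k : Ideal A) : Set A) :=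
  AddSubgroup.isClosed_of_isOpen ((maximalIdeal A) ^ k).toAddSubgroup (isOpen_pow k)

theorem tn_of_mem {a : A} (ha : a ∈ maximalIdeal A) : IsTopologicallyNilpotent a := by
  show Tendsto (fun k => a ^ k) atTop (𝓝 0)
  rw [(isAdic_max (A := A)).hasBasis_nhds_zero.tendsto_right_iff]
  intro i _
  filter_upwards [eventually_ge_atTop i] with k hk
  exact Ideal.pow_le_pow_right hk (Ideal.pow_mem_pow ha k)

variable [IsAdicComplete (maximalIdeal A) A]

theorem completeA : CompleteSpace A ∧ T2Space A :=
  (IsAdic.isAdicComplete_iff (I := maximalIdeal A) rfl).1 inferInstance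

theorem instCompleteA : CompleteSpace A := completeA.1
theorem instT2A : T2Space A := completeA.2

attribute [local instance] instCompleteA instT2A

variable {n : ℕ}

theorem hasEval_pt (c : Fin n → A) (hc : ∀ i, c i ∈ maximalIdeal A) : HasEval c where
  hpow i := tn_of_mem (hc i)
  tendsto_zero := by simp [Filter.cofinite_eq_bot]

theorem hasEval_trans (c : Fin n → A) (hc : ∀ i, c i ∈ maximalIdeal A) :
    HasEval (fun i => (X i + C (c i) : MvPowerSeries (Fin n) A)) where
  hpow i := by
    apply MvPowerSeries.LinearTopology.isTopologicallyNilpotent_of_constantCoeff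
    simpa using tn_of_mem (hc i)
  tendsto_zero := by simp [Filter.cofinite_eq_bot]

/-- evaluation at a point of `𝔪^n` -/
noncomputable def evalAt (c : Fin n → A) (hc : ∀ i, c i ∈ maximalIdeal A) :
    MvPowerSeries (Fin n) A →ₐ[A] A := aeval (hasEval_pt c hc)

/-- translation by a point of `𝔪^n` -/
noncomputable def trans (c : Fin n → A) (hc : ∀ i, c i ∈ maximalIdeal A) :
    MvPowerSeries (Fin n) A →ₐ[A] MvPowerSeries (Fin n) A := aeval (hasEval_trans c hc)

theorem continuous_evalAt (c : Fin n → A) (hc : ∀ i, c i ∈ maximalIdeal A) :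
    Continuous (evalAt c hc) := continuous_aeval _

theorem continuous_trans (c : Fin n → A) (hc : ∀ i, c i ∈ maximalIdeal A) :
    Continuous (trans c hc) := continuous_aeval _

theorem evalAt_coe (c : Fin n → A) (hc : ∀ i, c i ∈ maximalIdeal A) (p : MvPolynomial (Fin n) A) :
    evalAt c hc (p : MvPowerSeries (Fin n) A) = MvPolynomial.eval c p := by
  unfold evalAt
  rw [aeval_coe]
  rfl

theorem trans_coe (c : Fin n → A) (hc : ∀ i, c i ∈ maximalIdeal A) (p : MvPolynomial (Fin n) A) :
    trans c hc (p : MvPowerSeries (Fin n) A)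
      = MvPolynomial.aeval (fun i => (X i + C (c i) : MvPowerSeries (Fin n) A)) p := by
  unfold trans
  rw [aeval_coe]

theorem trans_X (c : Fin n → A) (hc : ∀ i, c i ∈ maximalIdeal A) (i : Fin n) :
    trans c hc (X i) = X i + C (c i) := by
  have := trans_coe c hc (MvPolynomial.X i)
  rwa [MvPolynomial.coe_X, MvPolynomial.aeval_X] at this

/-- density principle: a closed property holding on polynomials holds for all power series -/
theorem dense_induction {P : MvPowerSeries (Fin n) A → Prop}
    (hP : IsClosed {f | P f}) (hp : ∀ p : MvPolynomial (Fin n) A, P (p : MvPowerSeries (Fin n) A))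
    (f : MvPowerSeries (Fin n) A) : P f :=
  (WithPiTopology.denseRange_toMvPowerSeries (σ := Fin n) (R := A)).induction_on f hP hp

theorem aeval_congr {a b : Fin n → MvPowerSeries (Fin n) A} (ha : HasEval a) (hb : HasEval b)
    (h : a = b) : (aeval ha : MvPowerSeries (Fin n) A →ₐ[A] MvPowerSeries (Fin n) A) = aeval hb := by
  subst h; rfl

theorem aeval_congr' {a b : Fin n → A} (ha : HasEval a) (hb : HasEval b)
    (h : a = b) : (aeval ha : MvPowerSeries (Fin n) A →ₐ[A] A) = aeval hb := by
  subst h; rfl

/-! ### translation is an automorphism -/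

theorem neg_mem_max {c : Fin n → A} (hc : ∀ i, c i ∈ maximalIdeal A) :
    ∀ i, (fun i => - c i) i ∈ maximalIdeal A := fun i => neg_mem (hc i)

theorem trans_comp_trans (c c' : Fin n → A) (hc : ∀ i, c i ∈ maximalIdeal A)
    (hc' : ∀ i, c' i ∈ maximalIdeal A) (h : ∀ i, c' i + c i = 0) :
    (trans c' hc').comp (trans c hc) = AlgHom.id A _ := by
  unfold trans
  rw [comp_aeval (hasEval_trans c hc) (ε := aeval (hasEval_trans c' hc')) (continuous_aeval _)]
  rw [← aeval_unique (ε := AlgHom.id A (MvPowerSeries (Fin n) A)) continuous_id]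
  apply aeval_congr
  funext i
  have h1 := trans_X c' hc' i
  unfold trans at h1
  have h2 : (aeval (hasEval_trans c' hc')) (C (c i) : MvPowerSeries (Fin n) A) = C (c i) :=
    (aeval (hasEval_trans c' hc')).commutes (c i)
  show (aeval (hasEval_trans c' hc')) (X i + C (c i)) = (AlgHom.id A _) (X i)
  rw [map_add, h1, h2, add_assoc, ← map_add, h i, map_zero, add_zero]
  rfl

/-- translation as an algebra automorphism -/
noncomputable def transEquiv (c : Fin n → A) (hc : ∀ i, c i ∈ maximalIdeal A) :
    MvPowerSeries (Fin n) A ≃ₐ[A] MvPowerSeries (Fin n) A :=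
  AlgEquiv.ofAlgHom (trans c hc) (trans (fun i => - c i) (neg_mem_max hc))
    (trans_comp_trans _ _ _ _ (fun i => by simp))
    (trans_comp_trans _ _ _ _ (fun i => by simp))

theorem transEquiv_apply (c : Fin n → A) (hc : ∀ i, c i ∈ maximalIdeal A)
    (f : MvPowerSeries (Fin n) A) : transEquiv c hc f = trans c hc f := rfl

/-! ### polynomial computations -/

theorem constantCoeff_aeval_poly (c : Fin n → A) (p : MvPolynomial (Fin n) A) :
    constantCoeff (MvPolynomial.aeval (fun i => (X i + C (c i) : MvPowerSeries (Fin n) A)) p)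
      = MvPolynomial.eval c p := by
  have h : (constantCoeff (σ := Fin n) (R := A)).comp
      (MvPolynomial.aeval (fun i => (X i + C (c i) : MvPowerSeries (Fin n) A))).toRingHom
      = MvPolynomial.eval c := by
    apply MvPolynomial.ringHom_ext
    · intro a
      simp [← c_eq_algebraMap]
    · intro i
      simp
  exact RingHom.congr_fun h p

theorem map_aeval_poly (c : Fin n → A) (hc : ∀ i, c i ∈ maximalIdeal A)
    (p : MvPolynomial (Fin n) A) :
    MvPowerSeries.map (Ideal.Quotient.mk (maximalIdeal A))
      (MvPolynomial.aeval (fun i => (X i + C (c i) : MvPowerSeries (Fin n) A)) p)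
      = MvPowerSeries.map (Ideal.Quotient.mk (maximalIdeal A)) (p : MvPowerSeries (Fin n) A) := by
  have h : (MvPowerSeries.map (σ := Fin n) (Ideal.Quotient.mk (maximalIdeal A))).comp
      (MvPolynomial.aeval (fun i => (X i + C (c i) : MvPowerSeries (Fin n) A))).toRingHom
      = (MvPowerSeries.map (σ := Fin n) (Ideal.Quotient.mk (maximalIdeal A))).comp
        (MvPolynomial.coeToMvPowerSeries.ringHom) := by
    apply MvPolynomial.ringHom_ext
    · intro a
      simp [← c_eq_algebraMap]
    · intro i
      have : Ideal.Quotient.mk (maximalIdeal A) (c i) = 0 :=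
        Ideal.Quotient.eq_zero_iff_mem.mpr (hc i)
      simp [this]
  exact RingHom.congr_fun h p

theorem coeff_aeval_poly_sub (c : Fin n → A) (hc : ∀ i, c i ∈ maximalIdeal A)
    (p : MvPolynomial (Fin n) A) (e : Fin n →₀ ℕ) :
    coeff e (MvPolynomial.aeval (fun i => (X i + C (c i) : MvPowerSeries (Fin n) A)) p)
      - coeff e (p : MvPowerSeries (Fin n) A) ∈ maximalIdeal A := by
  have h := congrArg (coeff e) (map_aeval_poly c hc p)
  rw [coeff_map, coeff_map] at h
  exact Ideal.Quotient.eq.mp h

/-- translation does not change coefficients modulo `𝔪`. -/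
theorem coeff_trans_sub (c : Fin n → A) (hc : ∀ i, c i ∈ maximalIdeal A)
    (e : Fin n →₀ ℕ) (f : MvPowerSeries (Fin n) A) :
    coeff e (trans c hc f) - coeff e f ∈ maximalIdeal A := by
  refine dense_induction (P := fun f => coeff e (trans c hc f) - coeff e f ∈ maximalIdeal A)
    ?_ ?_ f
  · have hcl : IsClosed ((maximalIdeal A : Ideal A) : Set A) := by
      have := isClosed_pow (A := A) 1
      rwa [pow_one] at this
    have hcont : Continuous (fun f : MvPowerSeries (Fin n) A =>
        coeff e (trans c hc f) - coeff e f) :=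
      ((WithPiTopology.continuous_coeff A e).comp (continuous_trans c hc)).sub
        (WithPiTopology.continuous_coeff A e)
    exact hcl.preimage hcont
  · intro p
    show coeff e (trans c hc (p : MvPowerSeries (Fin n) A)) - coeff e (p : MvPowerSeries (Fin n) A)
      ∈ maximalIdeal A
    rw [trans_coe]
    exact coeff_aeval_poly_sub c hc p e

theorem continuous_pderiv (i : Fin n) :
    Continuous (fun f : MvPowerSeries (Fin n) A => pderiv A i f) := by
  apply continuous_pi
  intro d
  have : (fun f : MvPowerSeries (Fin n) A => (pderiv A i f) d)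
      = fun f => coeff (d + Finsupp.single i 1) f * ((d i : A) + 1) := by
    funext f; exact coeff_pderiv f d
  rw [this]
  exact (WithPiTopology.continuous_coeff A _).mul continuous_const

theorem coeff_single_mul_X' (h : MvPowerSeries (Fin n) A) (l j : Fin n) :
    coeff (Finsupp.single j 1) (h * X l) = if l = j then constantCoeff h else 0 := by
  classical
  rw [X_def, coeff_mul_monomial]
  by_cases hlj : l = j
  · subst hlj
    rw [if_pos le_rfl, if_pos rfl, tsub_self, mul_one, coeff_zero_eq_constantCoeff_apply]
  · rw [if_neg hlj, if_neg]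
    intro hle
    have := hle l
    simp [hlj] at this

theorem coeff_one_aeval_poly (c : Fin n → A) (p : MvPolynomial (Fin n) A) (i : Fin n) :
    coeff (Finsupp.single i 1)
      (MvPolynomial.aeval (fun i => (X i + C (c i) : MvPowerSeries (Fin n) A)) p)
      = MvPolynomial.eval c (MvPolynomial.pderiv i p) := by
  classical
  induction p using MvPolynomial.induction_on with
  | C a =>
    rw [MvPolynomial.aeval_C, MvPolynomial.pderiv_C, map_zero]
    show coeff (Finsupp.single i 1) (C a : MvPowerSeries (Fin n) A) = 0
    rw [coeff_C, if_neg]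
    intro h
    have := congrArg (fun f => f i) h
    simp at this
  | add p q hp hq => rw [map_add, map_add, map_add, map_add, hp, hq]
  | mul_X p j hp =>
    rw [map_mul, MvPolynomial.aeval_X, mul_add, map_add, coeff_single_mul_X', coeff_mul_C, hp,
      constantCoeff_aeval_poly, Derivation.leibniz, MvPolynomial.pderiv_X, map_add]
    simp only [smul_eq_mul, map_mul, MvPolynomial.eval_X, Pi.single_apply]
    by_cases hji : j = i
    · subst hji; simp; ring
    · have hij : ¬ i = j := fun h => hji h.symm
      simp [hji]; ring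

/-- first-order Taylor coefficient of a translate -/
theorem coeff_one_trans (c : Fin n → A) (hc : ∀ i, c i ∈ maximalIdeal A) (i : Fin n)
    (f : MvPowerSeries (Fin n) A) :
    coeff (Finsupp.single i 1) (trans c hc f) = evalAt c hc (pderiv A i f) := by
  refine dense_induction
    (P := fun f => coeff (Finsupp.single i 1) (trans c hc f) = evalAt c hc (pderiv A i f)) ?_ ?_ f
  · exact isClosed_eq ((WithPiTopology.continuous_coeff A _).comp (continuous_trans c hc))
      ((continuous_evalAt c hc).comp (continuous_pderiv i))
  · intro p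
    show coeff (Finsupp.single i 1) (trans c hc (p : MvPowerSeries (Fin n) A))
      = evalAt c hc (pderiv A i (p : MvPowerSeries (Fin n) A))
    rw [trans_coe, pderiv_coe, evalAt_coe]
    exact coeff_one_aeval_poly c p i

/-! ### evaluation and truncation -/

theorem prod_pow_mem (c : Fin n → A) (hc : ∀ i, c i ∈ maximalIdeal A) (d : Fin n →₀ ℕ) :
    (d.prod fun s e => c s ^ e) ∈ (maximalIdeal A) ^ d.degree := by
  rw [Finsupp.degree_apply, ← Finset.prod_pow_eq_pow_sum]
  exact Ideal.prod_mem_prod fun i _ => Ideal.pow_mem_pow (hc i) _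

/-- a power series without terms of degree `< k` takes values in `𝔪^k` on `𝔪^n`. -/
theorem evalAt_mem_pow (c : Fin n → A) (hc : ∀ i, c i ∈ maximalIdeal A) (k : ℕ)
    (R : MvPowerSeries (Fin n) A) (hR : ∀ d : Fin n →₀ ℕ, d.degree < k → coeff d R = 0) :
    evalAt c hc R ∈ (maximalIdeal A) ^ k := by
  have hs := hasSum_aeval (hasEval_pt c hc) R
  refine (isClosed_pow k).mem_of_tendsto hs (Filter.Eventually.of_forall fun S => ?_)
  apply Ideal.sum_mem
  intro d _
  by_cases hd : d.degree < k
  · rw [hR d hd, zero_smul]; exact zero_mem _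
  · rw [smul_eq_mul]
    exact Ideal.mul_mem_left _ _ (Ideal.pow_le_pow_right (not_lt.mp hd) (prod_pow_mem c hc d))

theorem evalAt_sub_truncTotal (c : Fin n → A) (hc : ∀ i, c i ∈ maximalIdeal A) (k : ℕ)
    (f : MvPowerSeries (Fin n) A) :
    evalAt c hc f - MvPolynomial.eval c (truncTotal k f) ∈ (maximalIdeal A) ^ k := by
  rw [← evalAt_coe c hc, ← map_sub]
  apply evalAt_mem_pow
  intro d hd
  rw [map_sub, MvPolynomial.coeff_coe, coeff_truncTotal _ hd, sub_self]

/-- polynomial version -/
theorem eval_mem_pow (c : Fin n → A) (hc : ∀ i, c i ∈ maximalIdeal A) (k : ℕ)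
    (p : MvPolynomial (Fin n) A) (hp : ∀ d : Fin n →₀ ℕ, d.degree < k → MvPolynomial.coeff d p = 0) :
    MvPolynomial.eval c p ∈ (maximalIdeal A) ^ k := by
  rw [← evalAt_coe c hc]
  apply evalAt_mem_pow
  intro d hd
  rw [MvPolynomial.coeff_coe, hp d hd]

end Top

end Groth.Agent.Lib.PSTransH5
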