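import Mathlib
import Groth.Agent.Lib.PSTrans_helper5
import Groth.Agent.Lib.GabberMultiHensel_lead
import Groth.Agent.Lib.HenselPairOps_lead

/-!
# Multivariable Hensel lemma for power series over a complete local ring (helper5)

`G_1, …, G_n ∈ A[[x_1..x_n]]` with `G_j(0) ∈ 𝔪` and unit Jacobian at the origin have a common zero
in `𝔪^n`.  Proof: polynomial multi-Hensel (lead) for the pairs `(A, 𝔪^(k+1))` applied to the
total-degree truncations, then pass to the limit.
-/

set_option autoImplicit false
set_option maxHeartbeats 1000000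
set_option linter.unusedVariables false
universe u

open MvPowerSeries IsLocalRing

namespace Groth.Agent.Lib.PSHenselH5

open Groth.Agent.Lib.PSTransH5

variable {A : Type u} [CommRing A]

/-- polynomial congruence -/
theorem eval_congr_mod {n : ℕ} (I : Ideal A) (c c' : Fin n → A) (h : ∀ i, c i - c' i ∈ I)
    (p : MvPolynomial (Fin n) A) :
    MvPolynomial.eval c p - MvPolynomial.eval c' p ∈ I := by
  rw [← Ideal.Quotient.eq]
  have h1 : ∀ c : Fin n → A, Ideal.Quotient.mk I (MvPolynomial.eval c p)
      = MvPolynomial.eval₂ (Ideal.Quotient.mk I) (Ideal.Quotient.mk I ∘ c) p := by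
    intro c
    show Ideal.Quotient.mk I (MvPolynomial.eval₂ (RingHom.id A) c p) = _
    rw [MvPolynomial.eval₂_comp_left (Ideal.Quotient.mk I) (RingHom.id A) c p]
    rfl
  rw [h1, h1]
  congr 1
  funext i
  exact Ideal.Quotient.eq.mpr (h i)

theorem det_sub_mem {n : ℕ} (I : Ideal A) (M N : Matrix (Fin n) (Fin n) A)
    (h : ∀ i j, M i j - N i j ∈ I) : M.det - N.det ∈ I := by
  rw [← Ideal.Quotient.eq, RingHom.map_det, RingHom.map_det]
  congr 1
  ext i j
  simp only [RingHom.mapMatrix_apply, Matrix.map_apply]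
  exact Ideal.Quotient.eq.mpr (h i j)

variable [IsLocalRing A]

theorem isUnit_of_sub_mem {a b : A} (hb : IsUnit b) (h : a - b ∈ maximalIdeal A) : IsUnit a := by
  by_contra ha
  have ha' : a ∈ maximalIdeal A := (IsLocalRing.mem_maximalIdeal a).mpr ha
  have hb' : b ∈ maximalIdeal A := by
    have := sub_mem ha' h
    simpa using this
  exact (IsLocalRing.mem_maximalIdeal b).mp hb' hb

variable [IsAdicComplete (maximalIdeal A) A] {n : ℕ}

theorem eval_sub_constantCoeff_mem (c : Fin n → A) (hc : ∀ i, c i ∈ maximalIdeal A)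
    (p : MvPolynomial (Fin n) A) :
    MvPolynomial.eval c p - MvPolynomial.coeff 0 p ∈ maximalIdeal A := by
  have h := eval_mem_pow c hc 1 (p - MvPolynomial.C (MvPolynomial.coeff 0 p)) (by
    intro d hd
    have hd0 : d = 0 := by
      have : d.degree = 0 := by omega
      exact (Finsupp.degree_eq_zero_iff d).mp this
    subst hd0
    simp)
  rw [pow_one, map_sub, MvPolynomial.eval_C] at h
  exact h

/-- the invariant of the iteration -/
structure Good (G : Fin n → MvPowerSeries (Fin n) A) (k : ℕ) (c : Fin n → A) : Prop where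
  mem : ∀ i, c i ∈ maximalIdeal A
  ev : ∀ j, MvPolynomial.eval c (truncTotal (k + 1) (G j)) ∈ (maximalIdeal A) ^ (k + 1)

theorem good_zero (G : Fin n → MvPowerSeries (Fin n) A)
    (hG0 : ∀ j, constantCoeff (G j) ∈ maximalIdeal A) : Good G 0 (0 : Fin n → A) := by
  refine ⟨fun i => zero_mem _, fun j => ?_⟩
  have h : MvPolynomial.eval (0 : Fin n → A) (truncTotal (0 + 1) (G j))
      = constantCoeff (G j) := by
    rw [MvPolynomial.eval_zero, constantCoeff_truncTotal_eq_ite, if_pos (by norm_num)]
  rw [h, zero_add, pow_one]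
  exact hG0 j

theorem step (G : Fin n → MvPowerSeries (Fin n) A)
    (hJ : IsUnit (Matrix.det (Matrix.of fun i j : Fin n => coeff (Finsupp.single i 1) (G j))))
    (k : ℕ) (c : Fin n → A) (h : Good G k c) :
    ∃ c' : Fin n → A, Good G (k + 1) c' ∧ ∀ i, c' i - c i ∈ (maximalIdeal A) ^ (k + 1) := by
  classical
  have hc := h.mem
  have hHens : HenselianRing A ((maximalIdeal A) ^ (k + 1)) :=
    Groth.Agent.Lib.HenselPairOpsLead.henselian_of_le (Ideal.pow_le_self (Nat.succ_ne_zero k))
      (inferInstance : HenselianRing A (maximalIdeal A))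
  have h0 : ∀ j, MvPolynomial.eval c (truncTotal (k + 1 + 1) (G j)) ∈ (maximalIdeal A) ^ (k + 1) := by
    intro j
    have e : MvPolynomial.eval c (truncTotal (k + 1 + 1) (G j))
        = MvPolynomial.eval c (truncTotal (k + 1) (G j))
          + MvPolynomial.eval c (truncTotal (k + 1 + 1) (G j) - truncTotal (k + 1) (G j)) := by
      rw [map_sub]; ring
    rw [e]
    refine add_mem (h.ev j) (eval_mem_pow c hc (k + 1) _ ?_)
    intro d hd
    rw [MvPolynomial.coeff_sub, coeff_truncTotal _ hd, coeff_truncTotal _ (by omega), sub_self]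
  have hent : ∀ i j, (Matrix.of fun i j : Fin n =>
        MvPolynomial.eval c (MvPolynomial.pderiv i (truncTotal (k + 1 + 1) (G j)))) i j
      - (Matrix.of fun i j : Fin n => coeff (Finsupp.single i 1) (G j)) i j ∈ maximalIdeal A := by
    intro i j
    simp only [Matrix.of_apply]
    have h1 := eval_sub_constantCoeff_mem c hc
      (MvPolynomial.pderiv i (truncTotal (k + 1 + 1) (G j)))
    rw [MvPolynomial.coeff_pderiv, zero_add, coeff_truncTotal _ (by
      rw [Finsupp.degree_single]; omega)] at h1
    simpa using h1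
  have hdet : IsUnit (Matrix.det (Matrix.of fun i j : Fin n =>
      MvPolynomial.eval c (MvPolynomial.pderiv i (truncTotal (k + 1 + 1) (G j))))) :=
    isUnit_of_sub_mem hJ (det_sub_mem _ _ _ hent)
  obtain ⟨c', hc'0, hc'1⟩ := Groth.Agent.Lib.GabberMultiHensel.exists_solution hHens
    (fun j => truncTotal (k + 1 + 1) (G j)) c h0 (hdet.map _)
  have hc'm : ∀ i, c' i ∈ maximalIdeal A := by
    intro i
    have := add_mem (Ideal.pow_le_self (Nat.succ_ne_zero k) (hc'1 i)) (hc i)
    simpa using this
  refine ⟨c', ⟨hc'm, fun j => ?_⟩, hc'1⟩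
  rw [hc'0 j]
  exact zero_mem _

/-- **Hensel's lemma for systems of power series** over a complete local ring. -/
theorem exists_zero (G : Fin n → MvPowerSeries (Fin n) A)
    (hG0 : ∀ j, constantCoeff (G j) ∈ maximalIdeal A)
    (hJ : IsUnit (Matrix.det (Matrix.of fun i j : Fin n => coeff (Finsupp.single i 1) (G j)))) :
    ∃ (c : Fin n → A) (hc : ∀ i, c i ∈ maximalIdeal A), ∀ j, evalAt c hc (G j) = 0 := by
  classical
  choose! next hnext using (fun (k : ℕ) (c : Fin n → A) (h : Good G k c) => step G hJ k c h)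
  obtain ⟨s, hs⟩ : ∃ s : ℕ → (Fin n → A), s = fun k =>
      Nat.rec (0 : Fin n → A) (fun k c => next k c) k := ⟨_, rfl⟩
  have hs0 : s 0 = 0 := by subst hs; rfl
  have hss : ∀ k, s (k + 1) = next k (s k) := fun k => by subst hs; rfl
  have hgood : ∀ k, Good G k (s k) := by
    intro k
    induction k with
    | zero => rw [hs0]; exact good_zero G hG0
    | succ k ih => rw [hss]; exact (hnext k (s k) ih).1
  have hstep : ∀ k i, s (k + 1) i - s k i ∈ (maximalIdeal A) ^ (k + 1) := by
    intro k i
    rw [hss]
    exact (hnext k (s k) (hgood k)).2 i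
  have hle : ∀ m k, m ≤ k → ∀ i, s k i - s m i ∈ (maximalIdeal A) ^ m := by
    intro m k hmk
    induction k, hmk using Nat.le_induction with
    | base => intro i; rw [sub_self]; exact zero_mem _
    | succ k hmk ih =>
      intro i
      have e : s (k + 1) i - s m i = (s (k + 1) i - s k i) + (s k i - s m i) := by ring
      rw [e]
      exact add_mem (Ideal.pow_le_pow_right (by omega) (hstep k i)) (ih i)
  have hlim : ∀ i, ∃ L : A, ∀ k, s k i - L ∈ (maximalIdeal A) ^ k := by
    intro i
    obtain ⟨L, hL⟩ := IsPrecomplete.prec (inferInstance : IsPrecomplete (maximalIdeal A) A)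
      (f := fun k => s k i) (by
        intro m k hmk
        rw [SModEq.sub_mem, smul_eq_mul, Ideal.mul_top]
        have := hle m k hmk i
        rw [← neg_sub]
        exact neg_mem this)
    refine ⟨L, fun k => ?_⟩
    have := hL k
    rwa [SModEq.sub_mem, smul_eq_mul, Ideal.mul_top] at this
  choose L hL using hlim
  have hLm : ∀ i, L i ∈ maximalIdeal A := by
    intro i
    have h1 := hL i 1
    rw [pow_one] at h1
    have := sub_mem ((hgood 1).mem i) h1
    simpa using this
  refine ⟨L, hLm, fun j => ?_⟩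
  have hk : ∀ k, evalAt L hLm (G j) ∈ (maximalIdeal A) ^ k := by
    intro k
    have h1 := Ideal.pow_le_pow_right (Nat.le_succ k) (evalAt_sub_truncTotal L hLm (k + 1) (G j))
    have h2 := eval_congr_mod ((maximalIdeal A) ^ k) L (s k)
      (fun i => by rw [← neg_sub]; exact neg_mem (hL i k)) (truncTotal (k + 1) (G j))
    have h3 := Ideal.pow_le_pow_right (Nat.le_succ k) ((hgood k).ev j)
    have := add_mem (add_mem h1 h2) h3
    have e : evalAt L hLm (G j) - MvPolynomial.eval L (truncTotal (k + 1) (G j))
        + (MvPolynomial.eval L (truncTotal (k + 1) (G j))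
          - MvPolynomial.eval (s k) (truncTotal (k + 1) (G j)))
        + MvPolynomial.eval (s k) (truncTotal (k + 1) (G j)) = evalAt L hLm (G j) := by ring
    rwa [e] at this
  apply IsHausdorff.haus (inferInstance : IsHausdorff (maximalIdeal A) A)
  intro k
  rw [SModEq.sub_mem, sub_zero, smul_eq_mul, Ideal.mul_top]
  exact hk k

end Groth.Agent.Lib.PSHenselH5
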