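import Mathlib
import Groth.Prelude.Def_QuadSing
import Groth.Agent.Lib.PSTrans_helper5
import Groth.Agent.Lib.PSHensel_helper5
import Groth.Agent.Lib.VanCycMorse_helper1
import Groth.Agent.S16230

/-!
# Morse lemma with linear terms over a complete local ring (helper5)

`F = a + Σ ℓ_i x_i + Q(x) + (higher)` with `a, ℓ_i ∈ 𝔪`, `Q` nondegenerate: translate to the
critical point (power-series Hensel), then apply the formal Morse lemma S16230.
-/

set_option autoImplicit false
set_option maxHeartbeats 1000000
set_option linter.unusedVariables false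
universe u

open MvPowerSeries IsLocalRing

namespace Groth.Agent.Lib.VanCycTransH5

open Groth.Agent.Lib.PSTransH5 Groth.Agent.Lib.PSHenselH5

section Coeff

variable {R : Type u} [CommRing R] {n : ℕ}

theorem pair_eq {i j a b : Fin n}
    (h : (Finsupp.single i 1 + Finsupp.single j 1 : Fin n →₀ ℕ)
      = Finsupp.single a 1 + Finsupp.single b 1)
    (hij : i ≤ j) (hab : a ≤ b) : i = a ∧ j = b := by
  have hi : i = a ∨ i = b := by
    have := DFunLike.congr_fun h i
    simp only [Finsupp.add_apply, Finsupp.single_apply, if_true] at this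
    by_contra hne
    push Not at hne
    rw [if_neg (Ne.symm hne.1), if_neg (Ne.symm hne.2)] at this
    omega
  have hj : j = a ∨ j = b := by
    have := DFunLike.congr_fun h j
    simp only [Finsupp.add_apply, Finsupp.single_apply, if_true] at this
    by_contra hne
    push Not at hne
    rw [if_neg (Ne.symm hne.1), if_neg (Ne.symm hne.2)] at this
    omega
  have ha : a = i ∨ a = j := by
    have := DFunLike.congr_fun h a
    simp only [Finsupp.add_apply, Finsupp.single_apply, if_true] at this
    by_contra hne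
    push Not at hne
    rw [if_neg (Ne.symm hne.1), if_neg (Ne.symm hne.2)] at this
    omega
  have hb : b = i ∨ b = j := by
    have := DFunLike.congr_fun h b
    simp only [Finsupp.add_apply, Finsupp.single_apply, if_true] at this
    by_contra hne
    push Not at hne
    rw [if_neg (Ne.symm hne.1), if_neg (Ne.symm hne.2)] at this
    omega
  rcases hi with rfl | rfl
  · rcases hj with rfl | rfl
    · rcases hb with rfl | rfl <;> exact ⟨rfl, rfl⟩
    · exact ⟨rfl, rfl⟩
  · rcases hj with rfl | rfl
    · have : j = i := le_antisymm hab hij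
      subst this; exact ⟨rfl, rfl⟩
    · rcases ha with rfl | rfl <;> exact ⟨rfl, rfl⟩

theorem mono_eq (r : R) (i j : Fin n) :
    MvPolynomial.C r * MvPolynomial.X i * MvPolynomial.X j
      = MvPolynomial.monomial (Finsupp.single i 1 + Finsupp.single j 1) r := by
  rw [MvPolynomial.X, MvPolynomial.X, mul_assoc, MvPolynomial.monomial_mul, one_mul,
    MvPolynomial.C_mul_monomial, mul_one]

theorem coeff_quadPoly (q : Fin n → Fin n → R) (a b : Fin n) (hab : a ≤ b) :
    MvPolynomial.coeff (Finsupp.single a 1 + Finsupp.single b 1) (VanCyc.quadPoly q) = q a b := by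
  classical
  have hterm : ∀ i j : Fin n, MvPolynomial.coeff (Finsupp.single a 1 + Finsupp.single b 1)
      (if i ≤ j then MvPolynomial.C (q i j) * MvPolynomial.X i * MvPolynomial.X j else 0)
      = if i = a then (if j = b then q a b else 0) else 0 := by
    intro i j
    by_cases h1 : i ≤ j
    · rw [if_pos h1, mono_eq, MvPolynomial.coeff_monomial]
      by_cases h2 : (Finsupp.single i 1 + Finsupp.single j 1 : Fin n →₀ ℕ)
          = Finsupp.single a 1 + Finsupp.single b 1
      · obtain ⟨rfl, rfl⟩ := pair_eq h2 h1 hab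
        rw [if_pos rfl, if_pos rfl, if_pos rfl]
      · rw [if_neg h2]
        by_cases hia : i = a
        · rw [if_pos hia]
          by_cases hjb : j = b
          · exact absurd (by rw [hia, hjb]) h2
          · rw [if_neg hjb]
        · rw [if_neg hia]
    · rw [if_neg h1, MvPolynomial.coeff_zero]
      by_cases hia : i = a
      · rw [if_pos hia]
        by_cases hjb : j = b
        · exact absurd (by rw [hia, hjb]; exact hab) h1
        · rw [if_neg hjb]
      · rw [if_neg hia]
  unfold VanCyc.quadPoly
  rw [MvPolynomial.coeff_sum]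
  simp only [MvPolynomial.coeff_sum, hterm]
  simp

theorem quadPart_of_le (G : MvPowerSeries (Fin n) R) (a b : Fin n) (hab : a ≤ b) :
    VanCyc.quadPart G a b = coeff (Finsupp.single a 1 + Finsupp.single b 1) G := by
  unfold VanCyc.quadPart
  by_cases h : a = b
  · subst h
    rw [if_pos rfl, ← Finsupp.single_add]
  · rw [if_neg h, if_pos (lt_of_le_of_ne hab h)]

/-- a power series without linear terms agrees up to degree two with its quadratic part plus its
constant term. -/
theorem lowdeg_eq (G : MvPowerSeries (Fin n) R)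
    (hlin : ∀ i, coeff (Finsupp.single i 1) G = 0) (e : Fin n →₀ ℕ) (he : e.degree ≤ 2) :
    coeff e G = coeff e ((VanCyc.quadPoly (VanCyc.quadPart G)
      + MvPolynomial.C (constantCoeff G) : MvPolynomial (Fin n) R) : MvPowerSeries (Fin n) R) := by
  classical
  rw [MvPolynomial.coeff_coe, MvPolynomial.coeff_add]
  have hhom := Groth.Agent.Lib.VanCycMorseH1.quadPoly_hom (VanCyc.quadPart G)
  rcases Nat.lt_or_ge e.degree 2 with h2 | h2
  · rw [hhom.coeff_eq_zero (by omega), zero_add]
    rcases Groth.Agent.Lib.LubinTateH1.degree_lt_two e h2 with rfl | ⟨i, rfl⟩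
    · rw [MvPolynomial.coeff_C, if_pos rfl]; rfl
    · rw [hlin, MvPolynomial.coeff_C, if_neg]
      intro h
      have := DFunLike.congr_fun h i
      simp at this
  · have h2' : e.degree = 2 := le_antisymm he h2
    obtain ⟨a, b, rfl⟩ := Groth.Agent.Lib.MorseH1.deg_two e h2'
    have hC : MvPolynomial.coeff (Finsupp.single a 1 + Finsupp.single b 1)
        (MvPolynomial.C (constantCoeff G) : MvPolynomial (Fin n) R) = 0 := by
      rw [MvPolynomial.coeff_C, if_neg]
      intro h
      have := DFunLike.congr_fun h a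
      simp at this
      omega
    rw [hC, add_zero]
    rcases le_total a b with hab | hab
    · rw [coeff_quadPoly _ a b hab, quadPart_of_le G a b hab]
    · rw [add_comm (Finsupp.single a 1) (Finsupp.single b 1), coeff_quadPoly _ b a hab,
        quadPart_of_le G b a hab]

/-- low-degree coefficients of `Q + Σ ℓ_i x_i + a` -/
theorem coeff_model (q : Fin n → Fin n → R) (ℓ : Fin n → R) (a : R) (e : Fin n →₀ ℕ) :
    MvPolynomial.coeff e (VanCyc.quadPoly q + ∑ i, MvPolynomial.C (ℓ i) * MvPolynomial.X i
      + MvPolynomial.C a : MvPolynomial (Fin n) R)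
      = MvPolynomial.coeff e (VanCyc.quadPoly q)
        + (∑ i, if Finsupp.single i 1 = e then ℓ i else 0) + if 0 = e then a else 0 := by
  classical
  rw [MvPolynomial.coeff_add, MvPolynomial.coeff_add, MvPolynomial.coeff_sum, MvPolynomial.coeff_C]
  congr 2
  refine Finset.sum_congr rfl fun i _ => ?_
  rw [MvPolynomial.coeff_C_mul, MvPolynomial.coeff_X]
  split_ifs <;> simp

theorem model_zero (q : Fin n → Fin n → R) (ℓ : Fin n → R) (a : R) :
    MvPolynomial.coeff 0 (VanCyc.quadPoly q + ∑ i, MvPolynomial.C (ℓ i) * MvPolynomial.X i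
      + MvPolynomial.C a : MvPolynomial (Fin n) R) = a := by
  classical
  rw [coeff_model, (Groth.Agent.Lib.VanCycMorseH1.quadPoly_hom q).coeff_eq_zero (by simp),
    if_pos rfl, zero_add]
  rw [Finset.sum_eq_zero, zero_add]
  intro i _
  rw [if_neg]
  intro h
  have := DFunLike.congr_fun h i
  simp at this

theorem model_one (q : Fin n → Fin n → R) (ℓ : Fin n → R) (a : R) (j : Fin n) :
    MvPolynomial.coeff (Finsupp.single j 1)
      (VanCyc.quadPoly q + ∑ i, MvPolynomial.C (ℓ i) * MvPolynomial.X i
      + MvPolynomial.C a : MvPolynomial (Fin n) R) = ℓ j := by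
  classical
  rw [coeff_model, (Groth.Agent.Lib.VanCycMorseH1.quadPoly_hom q).coeff_eq_zero (by simp),
    zero_add, if_neg, add_zero]
  · rw [Finset.sum_eq_single j]
    · rw [if_pos rfl]
    · intro i _ hij
      rw [if_neg]
      intro h
      exact hij (Finsupp.single_left_injective one_ne_zero h)
    · intro h; exact absurd (Finset.mem_univ j) h
  · intro h
    have := DFunLike.congr_fun h j
    simp at this

theorem model_two (q : Fin n → Fin n → R) (ℓ : Fin n → R) (a : R) (i j : Fin n) (hij : i ≤ j) :
    MvPolynomial.coeff (Finsupp.single i 1 + Finsupp.single j 1)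
      (VanCyc.quadPoly q + ∑ i, MvPolynomial.C (ℓ i) * MvPolynomial.X i
      + MvPolynomial.C a : MvPolynomial (Fin n) R) = q i j := by
  classical
  rw [coeff_model, coeff_quadPoly q i j hij, if_neg, add_zero]
  · rw [Finset.sum_eq_zero, add_zero]
    intro k _
    rw [if_neg]
    intro h
    have := congrArg Finsupp.degree h
    rw [map_add, Finsupp.degree_single, Finsupp.degree_single, Finsupp.degree_single] at this
    omega
  · intro h
    have := DFunLike.congr_fun h i
    simp at this
    omega

theorem jac_eq (F : MvPowerSeries (Fin n) R) (q : Fin n → Fin n → R)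
    (hF2 : ∀ a b, a ≤ b → coeff (Finsupp.single a 1 + Finsupp.single b 1) F = q a b)
    (i j : Fin n) :
    coeff (Finsupp.single i 1) (pderiv R j F) = VanCyc.polarMatrix q i j := by
  rw [coeff_pderiv]
  unfold VanCyc.polarMatrix
  by_cases hij : i = j
  · subst hij
    rw [if_pos rfl, hF2 i i le_rfl]
    simp only [Finsupp.single_eq_same, Nat.cast_one]
    ring
  · have hji : j ≠ i := Ne.symm hij
    rw [if_neg hij, Finsupp.single_eq_of_ne hji, Nat.cast_zero, zero_add, mul_one]
    by_cases hlt : i < j
    · rw [if_pos hlt, hF2 i j (le_of_lt hlt)]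
    · rw [if_neg hlt, add_comm, hF2 j i (not_lt.mp hlt)]

theorem polar_sub_mem (I : Ideal R) (q q' : Fin n → Fin n → R)
    (h : ∀ a b, a ≤ b → q' a b - q a b ∈ I) (i j : Fin n) :
    VanCyc.polarMatrix q' i j - VanCyc.polarMatrix q i j ∈ I := by
  unfold VanCyc.polarMatrix
  by_cases hij : i = j
  · subst hij
    rw [if_pos rfl, if_pos rfl, ← mul_sub]
    exact Ideal.mul_mem_left _ _ (h i i le_rfl)
  · rw [if_neg hij, if_neg hij]
    by_cases hlt : i < j
    · rw [if_pos hlt, if_pos hlt]; exact h i j (le_of_lt hlt)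
    · rw [if_neg hlt, if_neg hlt]; exact h j i (not_lt.mp hlt)

end Coeff

theorem main16231
    (A : Type u) [CommRing A] [IsLocalRing A]
    [IsAdicComplete (IsLocalRing.maximalIdeal A) A] (n : ℕ)
    (q : Fin n → Fin n → A) (hq : VanCyc.QuadNondeg q)
    (a : A) (ha : a ∈ IsLocalRing.maximalIdeal A)
    (ℓ : Fin n → A) (hℓ : ∀ i, ℓ i ∈ IsLocalRing.maximalIdeal A)
    (F : MvPowerSeries (Fin n) A)
    (hF : ∀ e : Fin n →₀ ℕ, e.degree ≤ 2 →
      MvPowerSeries.coeff e F = MvPowerSeries.coeff e ((VanCyc.quadPoly q + ∑ i, MvPolynomial.C (ℓ i) * MvPolynomial.X i + MvPolynomial.C a : MvPolynomial (Fin n) A) : MvPowerSeries (Fin n) A)) :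
    ∃ (a' : A) (q' : Fin n → Fin n → A), a' ∈ IsLocalRing.maximalIdeal A ∧ VanCyc.QuadNondeg q' ∧
      Nonempty ((MvPowerSeries (Fin n) A ⧸ Ideal.span {F}) ≃ₐ[A]
        (MvPowerSeries (Fin n) A ⧸ Ideal.span {((VanCyc.quadPoly q' + MvPolynomial.C a' : MvPolynomial (Fin n) A) : MvPowerSeries (Fin n) A)})) := by
  classical
  have hF0 : constantCoeff F = a := by
    rw [← coeff_zero_eq_constantCoeff_apply, hF 0 (by simp), MvPolynomial.coeff_coe, model_zero]
  have hF1 : ∀ j, coeff (Finsupp.single j 1) F = ℓ j := by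
    intro j
    rw [hF _ (by rw [Finsupp.degree_single]; norm_num), MvPolynomial.coeff_coe, model_one]
  have hF2 : ∀ i j, i ≤ j → coeff (Finsupp.single i 1 + Finsupp.single j 1) F = q i j := by
    intro i j hij
    rw [hF _ (by rw [map_add, Finsupp.degree_single, Finsupp.degree_single]), MvPolynomial.coeff_coe,
      model_two _ _ _ _ _ hij]
  -- the critical point
  have hG0 : ∀ j, constantCoeff (pderiv A j F) ∈ maximalIdeal A := by
    intro j
    rw [← coeff_zero_eq_constantCoeff_apply, coeff_pderiv, zero_add, hF1]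
    exact Ideal.mul_mem_right _ _ (hℓ j)
  have hJ : IsUnit (Matrix.det (Matrix.of fun i j : Fin n =>
      coeff (Finsupp.single i 1) (pderiv A j F))) := by
    have e : (Matrix.of fun i j : Fin n => coeff (Finsupp.single i 1) (pderiv A j F))
        = VanCyc.polarMatrix q := by
      ext i j
      exact jac_eq F q hF2 i j
    rw [e]
    exact hq
  obtain ⟨c, hc, hzero⟩ := exists_zero (fun j => pderiv A j F) hG0 hJ
  obtain ⟨G, hGdef⟩ : ∃ G, G = trans c hc F := ⟨_, rfl⟩
  have hlin : ∀ i, coeff (Finsupp.single i 1) G = 0 := by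
    intro i
    rw [hGdef, coeff_one_trans]
    exact hzero i
  have hcoe : ∀ e, coeff e G - coeff e F ∈ maximalIdeal A := by
    intro e
    rw [hGdef]
    exact coeff_trans_sub c hc e F
  have ha' : constantCoeff G ∈ maximalIdeal A := by
    have h0 := hcoe 0
    rw [coeff_zero_eq_constantCoeff_apply, coeff_zero_eq_constantCoeff_apply, hF0] at h0
    have := add_mem h0 ha
    simpa using this
  have hq' : VanCyc.QuadNondeg (VanCyc.quadPart G) := by
    unfold VanCyc.QuadNondeg
    refine isUnit_of_sub_mem hq (det_sub_mem _ _ _ (polar_sub_mem _ q _ ?_))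
    intro i j hij
    rw [quadPart_of_le G i j hij, ← hF2 i j hij]
    exact hcoe _
  obtain ⟨_, _, _, _, ⟨e2⟩⟩ := Groth.Agent.S16230.result A n 2 le_rfl (VanCyc.quadPart G) hq'
    (constantCoeff G) G (lowdeg_eq G hlin)
  refine ⟨constantCoeff G, VanCyc.quadPart G, ha', hq',
    ⟨(Ideal.quotientEquivAlg _ _ (transEquiv c hc) ?_).trans e2⟩⟩
  rw [Ideal.map_span, Set.image_singleton, hGdef]
  rfl

end Groth.Agent.Lib.VanCycTransH5
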