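import Mathlib
import Groth.Prelude.Def_QuadSing
import Groth.Agent.Lib.LubinTate_helper1
import Groth.Agent.Lib.FGInv_helper1
import Groth.Agent.Lib.Morse_helper1
import Groth.Agent.Lib.VanCycMorse_helper1
import Groth.Agent.Lib.VanCycTrans_helper5
import Groth.Agent.Lib.OrdMorseLin_helper5

/-!
# Formal Morse lemma for ordinary quadratic singularities (helper5)

Over an algebraically closed field `k` (any characteristic): if `F = Q + (order ≥ 3)` with `Q` an
ordinary quadratic form, there are a coordinate change `x ↦ x + h(x)` (`h` of order `≥ 2`) and a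
unit `1 + w` with `F(x + h) = (1 + w) Q(x)`; hence `k[[x]]/(F) ≃ k[[x]]/(Q)`.
-/

set_option autoImplicit false
set_option maxHeartbeats 1000000
universe u

open MvPowerSeries Finsupp

namespace Groth.Agent.Lib.OrdMorseH5

open Groth.Agent.Lib.LubinTateH1 Groth.Agent.Lib.MorseH1 Groth.Agent.Lib.FGInvH1
  Groth.Agent.Lib.VanCycMorseH1 Groth.Agent.Lib.OrdMorseLinH5

variable {k : Type u} [Field k] {n : ℕ}

/-- double division: a series of order `≥ 2` is `Σ x_α x_β · Q_β(Q_α g)`. -/
theorem sum_X_X_mul_Q (g : MvPowerSeries (Fin n) k) (hg : Van 2 g) :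
    ∑ α, ∑ β, X α * X β * Q β (Q α g) = g := by
  have h0 : constantCoeff g = 0 := van_one_iff.mp (hg.mono (by omega))
  have h1 : ∀ α, constantCoeff (Q α g) = 0 := fun α =>
    van_one_iff.mp (Q_van α (r := 1) hg)
  calc ∑ α, ∑ β, X α * X β * Q β (Q α g) = ∑ α, X α * ∑ β, X β * Q β (Q α g) := by
        refine Finset.sum_congr rfl fun α _ => ?_
        rw [Finset.mul_sum]
        refine Finset.sum_congr rfl fun β _ => by ring
    _ = ∑ α, X α * Q α g := by
        refine Finset.sum_congr rfl fun α _ => ?_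
        rw [sum_X_mul_Q _ (h1 α)]
    _ = g := sum_X_mul_Q _ h0

theorem ord_morse [IsAlgClosed k] (q : Fin n → Fin n → k) (hq : VanCyc.QuadOrd q)
    (F : MvPowerSeries (Fin n) k)
    (hF : Van 3 (F - ((VanCyc.quadPoly q : MvPolynomial (Fin n) k) : MvPowerSeries (Fin n) k))) :
    ∃ (h : Fin n → MvPowerSeries (Fin n) k) (w : MvPowerSeries (Fin n) k),
      (∀ i, Van 2 (h i)) ∧ Van 1 w ∧
      subst (fun i => X i + h i) F
        = (1 + w) * ((VanCyc.quadPoly q : MvPolynomial (Fin n) k) : MvPowerSeries (Fin n) k) := by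
  classical
  set Qp : MvPolynomial (Fin n) k := VanCyc.quadPoly q with hQp
  have hQh : Qp.IsHomogeneous 2 := quadPoly_hom q
  set E : MvPowerSeries (Fin n) k := F - (Qp : MvPowerSeries (Fin n) k) with hE
  let P : Matrix (Fin n) (Fin n) k := VanCyc.polarMatrix q
  let aM := algebraMap k (MvPowerSeries (Fin n) k)
  let ℓ : Fin n → MvPowerSeries (Fin n) k := fun i => ∑ l, aM (P i l) * X l
  choose lam M hM using key_identity q hq
  let mm : Fin n → Fin n → Fin n → MvPowerSeries (Fin n) k :=
    fun α β i => ∑ j, aM (M α β i j) * X j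
  -- the power series form of the key identity
  have hkey : ∀ α β : Fin n, (X α * X β : MvPowerSeries (Fin n) k)
      = aM (lam α β) * (Qp : MvPowerSeries (Fin n) k) + ∑ i, ℓ i * mm α β i := by
    intro α β
    have h1 := congrArg (MvPolynomial.coeToMvPowerSeries.ringHom (R := k) (σ := Fin n)) (hM α β)
    simp only [map_mul, map_add, map_sum, ell, MvPolynomial.coeToMvPowerSeries.ringHom_apply,
      MvPolynomial.coe_X, MvPolynomial.coe_C, c_eq_algebraMap] at h1
    rw [h1]
    congr 1
    refine Finset.sum_congr rfl fun i _ => ?_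
    simp only [mm, ℓ, Finset.mul_sum, Finset.sum_mul]
    refine Finset.sum_congr rfl fun j _ => ?_
    refine Finset.sum_congr rfl fun l _ => ?_
    ring
  have hX1 : ∀ j : Fin n, Van 1 (X j : MvPowerSeries (Fin n) k) := fun j =>
    van_one_iff.mpr (constantCoeff_X j)
  have hmm1 : ∀ α β i, Van 1 (mm α β i) := by
    intro α β i
    apply van_sum
    intro j _
    exact (hX1 j).mul_left _
  have h0 : ∀ (h : Fin n → MvPowerSeries (Fin n) k), (∀ i, Van 2 (h i)) →
      ∀ i, constantCoeff (X i + h i) = 0 := fun h hh i => by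
    rw [map_add, constantCoeff_X, zero_add]
    exact van_one_iff.mp ((hh i).mono (by omega))
  let G : (Fin n → MvPowerSeries (Fin n) k) → MvPowerSeries (Fin n) k :=
    fun h => -(MvPolynomial.aeval h Qp) - subst (fun i => X i + h i) E
  let T : (Fin n → MvPowerSeries (Fin n) k) → (Fin n → MvPowerSeries (Fin n) k) :=
    fun h i => ∑ α, ∑ β, mm α β i * Q β (Q α (G h))
  have hGv : ∀ h, (∀ i, Van 2 (h i)) → Van 3 (G h) := by
    intro h hh
    refine Van.sub ((quad_van' Qp hQh 2 h hh).mono (by omega)).neg ?_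
    exact Van.subst (h0 h hh) hF
  have hT0 : ∀ g, (∀ i, Van 2 (g i)) → ∀ i, Van 2 (T g i) := by
    intro g hg i
    apply van_sum
    intro α _
    apply van_sum
    intro β _
    have h1 : Van 1 (Q β (Q α (G g))) := Q_van β (Q_van α (r := 2) (hGv g hg))
    exact (hmm1 α β i).mul h1
  have hT : ∀ N g g', (∀ i, Van 2 (g i)) → (∀ i, Van 2 (g' i)) →
      (∀ i, Van (N + 2) (g i - g' i)) → ∀ i, Van (N + 2 + 1) (T g i - T g' i) := by
    intro N g g' hg hg' hgg i
    have e : T g i - T g' i = ∑ α, ∑ β, mm α β i * Q β (Q α (G g - G g')) := by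
      show ∑ α, ∑ β, mm α β i * Q β (Q α (G g)) - ∑ α, ∑ β, mm α β i * Q β (Q α (G g')) = _
      rw [← Finset.sum_sub_distrib]
      refine Finset.sum_congr rfl fun α _ => ?_
      rw [← Finset.sum_sub_distrib]
      refine Finset.sum_congr rfl fun β _ => ?_
      rw [← mul_sub, ← Q_sub, ← Q_sub]
    rw [e]
    have hGG : Van (N + 2 + 2) (G g - G g') := by
      have e2 : G g - G g' = -(MvPolynomial.aeval g Qp - MvPolynomial.aeval g' Qp)
          - (subst (fun i => X i + g i) E - subst (fun i => X i + g' i) E) := by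
        simp only [G]; ring
      rw [e2]
      refine Van.sub (quad_cong' Qp hQh 2 g g' hg hg' N hgg).neg ?_
      have := subst_congr_van (n := N + 2 - 1) E hF (fun i => X i + g i) (fun i => X i + g' i)
        (h0 g hg) (h0 g' hg') (fun i => by
          have e3 : (X i + g i) - (X i + g' i) = g i - g' i := by ring
          rw [e3]
          exact (hgg i).mono (by omega))
      exact this.mono (by omega)
    apply van_sum
    intro α _
    apply van_sum
    intro β _
    have h1 : Van (N + 2) (Q β (Q α (G g - G g'))) :=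
      Q_van β (Q_van α (r := N + 2 + 1) hGG)
    exact ((hmm1 α β i).mul h1).mono (by omega)
  obtain ⟨h, hh2, hfix⟩ := exists_fixed_tuple 2 T hT0 hT
  have hfi : ∀ i, h i = ∑ α, ∑ β, mm α β i * Q β (Q α (G h)) := fun i => (congrFun hfix i).symm
  obtain ⟨w, hwdef⟩ : ∃ w : MvPowerSeries (Fin n) k,
      w = -∑ α, ∑ β, aM (lam α β) * Q β (Q α (G h)) := ⟨_, rfl⟩
  have hw1 : Van 1 w := by
    rw [hwdef]
    apply Van.neg
    apply van_sum
    intro α _
    apply van_sum
    intro β _
    exact (Q_van β (Q_van α (r := 2) (hGv h hh2))).mul_left _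
  -- decomposition of `G h`
  have hdec : G h = -w * (Qp : MvPowerSeries (Fin n) k) + ∑ i, ℓ i * h i := by
    have h1 := (sum_X_X_mul_Q (G h) ((hGv h hh2).mono (by omega))).symm
    have h2 : ∑ α, ∑ β, X α * X β * Q β (Q α (G h))
        = ∑ α, ∑ β, (aM (lam α β) * Q β (Q α (G h)) * (Qp : MvPowerSeries (Fin n) k)
          + ∑ i, ℓ i * (mm α β i * Q β (Q α (G h)))) := by
      refine Finset.sum_congr rfl fun α _ => Finset.sum_congr rfl fun β _ => ?_
      rw [hkey α β, add_mul, Finset.sum_mul]
      congr 1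
      · ring
      · refine Finset.sum_congr rfl fun i _ => by ring
    rw [h1, h2]
    simp only [Finset.sum_add_distrib]
    congr 1
    · rw [hwdef, neg_neg, Finset.sum_mul]
      refine Finset.sum_congr rfl fun α _ => ?_
      rw [Finset.sum_mul]
    · calc ∑ α, ∑ β, ∑ i, ℓ i * (mm α β i * Q β (Q α (G h)))
          = ∑ α, ∑ i, ∑ β, ℓ i * (mm α β i * Q β (Q α (G h))) := by
            refine Finset.sum_congr rfl fun α _ => ?_
            rw [Finset.sum_comm]
        _ = ∑ i, ∑ α, ∑ β, ℓ i * (mm α β i * Q β (Q α (G h))) := by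
            rw [Finset.sum_comm]
        _ = ∑ i, ℓ i * h i := by
            refine Finset.sum_congr rfl fun i _ => ?_
            rw [hfi i, Finset.mul_sum]
            refine Finset.sum_congr rfl fun α _ => ?_
            rw [Finset.mul_sum]
  have hs : HasSubst (fun i => X i + h i) := hasSubst_of_constantCoeff_zero (h0 h hh2)
  refine ⟨h, w, hh2, hw1, ?_⟩
  have hFE : F = (Qp : MvPowerSeries (Fin n) k) + E := by
    rw [hE]; ring
  have htay := taylor_quadPoly q (X : Fin n → MvPowerSeries (Fin n) k) h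
  rw [← hQp] at htay
  have hsum' : ∑ i, (∑ j, algebraMap k (MvPowerSeries (Fin n) k) (VanCyc.polarMatrix q i j) * X j)
      * h i = ∑ i, ℓ i * h i := rfl
  rw [hsum', aeval_X_eq_coe'] at htay
  conv_lhs => rw [hFE]
  rw [subst_add hs, subst_coe, htay]
  have hG : subst (fun i => X i + h i) E = -(MvPolynomial.aeval h Qp) - G h := by
    simp only [G]; ring
  rw [hG, hdec]
  ring

/-- the quotient rings by `F` and by its ordinary quadratic part are isomorphic. -/
theorem quot_equiv [IsAlgClosed k] (q : Fin n → Fin n → k) (hq : VanCyc.QuadOrd q)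
    (F : MvPowerSeries (Fin n) k)
    (hF : Van 3 (F - ((VanCyc.quadPoly q : MvPolynomial (Fin n) k) : MvPowerSeries (Fin n) k))) :
    Nonempty ((MvPowerSeries (Fin n) k ⧸ Ideal.span {F}) ≃ₐ[k]
      (MvPowerSeries (Fin n) k ⧸ Ideal.span
        {((VanCyc.quadPoly q : MvPolynomial (Fin n) k) : MvPowerSeries (Fin n) k)})) := by
  obtain ⟨h, w, hh2, hw1, hsub⟩ := ord_morse q hq F hF
  have h0 : ∀ i, constantCoeff (X i + h i) = 0 := fun i => by
    rw [map_add, constantCoeff_X, zero_add]
    exact van_one_iff.mp ((hh2 i).mono (by omega))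
  have hs : HasSubst (fun i => X i + h i) := hasSubst_of_constantCoeff_zero h0
  have hbij := subst_bijective h hh2
  let φ : MvPowerSeries (Fin n) k ≃ₐ[k] MvPowerSeries (Fin n) k :=
    AlgEquiv.ofBijective (substAlgHom hs) (by rw [coe_substAlgHom]; exact hbij)
  have hu : IsUnit (1 + w) := by
    rw [MvPowerSeries.isUnit_iff_constantCoeff, map_add, map_one, van_one_iff.mp hw1, add_zero]
    exact isUnit_one
  refine ⟨Ideal.quotientEquivAlg _ _ φ ?_⟩
  rw [Ideal.map_span, Set.image_singleton]
  have e1 : (φ : MvPowerSeries (Fin n) k →+* MvPowerSeries (Fin n) k) F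
      = (1 + w) * ((VanCyc.quadPoly q : MvPolynomial (Fin n) k) : MvPowerSeries (Fin n) k) := by
    show (substAlgHom hs) F = _
    rw [coe_substAlgHom, hsub]
  rw [e1, Ideal.span_singleton_mul_left_unit hu]

/-- a power series without constant or linear terms agrees with its quadratic part up to order
three. -/
theorem van_three_of_noLowTerms (f : MvPowerSeries (Fin n) k) (hf : VanCyc.NoLowTerms f) :
    Van 3 (f - ((VanCyc.quadPoly (VanCyc.quadPart f) : MvPolynomial (Fin n) k) :
      MvPowerSeries (Fin n) k)) := by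
  intro e he
  have h := Groth.Agent.Lib.VanCycTransH5.lowdeg_eq f hf.2 e (by omega)
  rw [hf.1, map_zero, add_zero] at h
  rw [map_sub, h, sub_self]

/-- **formal normal form of an ordinary quadratic singularity**. -/
theorem ordQuad_equiv [IsAlgClosed k] (f : MvPowerSeries (Fin n) k) (hf : VanCyc.OrdQuadSeries f) :
    Nonempty ((MvPowerSeries (Fin n) k ⧸ Ideal.span {f}) ≃ₐ[k]
      (MvPowerSeries (Fin n) k ⧸ Ideal.span
        {((VanCyc.quadPoly (VanCyc.quadPart f) : MvPolynomial (Fin n) k) :
          MvPowerSeries (Fin n) k)})) :=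
  quot_equiv _ hf.2 f (van_three_of_noLowTerms f hf.1)

end Groth.Agent.Lib.OrdMorseH5
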