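import Mathlib
import Groth.Prelude.Def_QuadSing
import Groth.Prelude.Def_Hensel
import Groth.Agent.Lib.HypCompl_helper5
import Groth.Agent.Lib.OrdMorse_helper5
import Groth.Agent.Lib.EtApxSch5_helper5
import Groth.Agent.Lib.EtApxSch3_helper5
import Groth.Agent.Lib.ArtinApx9_helper5
import Groth.Agent.Lib.EtLocalStd_lead
import Groth.Agent.Lib.HensNbhd_helper5

/-!
# The henselization of an ordinary quadratic singularity (helper5)

* `model_completion`: the completion of the local ring of the quadric cone `k[x]/(Q)` at the origin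
  is `k[[x]]/(Q)`.
* `hens_equiv_of_completion_equiv`: a local ring essentially of finite type over a field `k` (with
  residue field `k`) and a local ring of a finite type `k`-algebra with `k`-isomorphic completions
  have `k`-isomorphic henselizations (Artin approximation: a common étale neighbourhood).
* `main4007`: the henselization of an ordinary quadratic singularity over an algebraically closed
  field is the henselization of the quadric cone of its quadratic part at the origin.
-/

set_option autoImplicit false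
set_option maxHeartbeats 1600000
set_option maxSynthPendingDepth 3
universe u

open IsLocalRing

namespace Groth.Agent.Lib.OrdQuadHensH5

open Groth.Agent.Lib.HypComplH5 Groth.Agent.Lib.EtApxSchH5 Groth.Agent.Lib.HensNbhdH5



variable {k : Type u} [Field k] {N : ℕ}

theorem eval_zero_quadPoly (a : Fin N → Fin N → k) :
    MvPolynomial.eval (0 : Fin N → k) (VanCyc.quadPoly a - MvPolynomial.C 0) = 0 := by
  unfold VanCyc.quadPoly
  simp only [map_sub, map_sum, MvPolynomial.eval_C, sub_zero]
  refine Finset.sum_eq_zero fun i _ => Finset.sum_eq_zero fun j _ => ?_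
  split_ifs
  · simp
  · simp

/-- membership in the origin ideal of the quadric cone -/
theorem mem_originQuot_iff (a : Fin N → Fin N → k) (q : MvPolynomial (Fin N) k) :
    Ideal.Quotient.mk (Ideal.span {VanCyc.quadPoly a - MvPolynomial.C 0}) q
      ∈ VanCyc.originQuot k a 0 ↔ MvPolynomial.eval (0 : Fin N → k) q = 0 := by
  have hI : VanCyc.originIdeal k (N := N) = MvPolynomial.idealOfVars (Fin N) k := by
    unfold VanCyc.originIdeal
    rw [IsLocalRing.maximalIdeal_eq_bot, Ideal.map_bot, bot_sup_eq]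
  have hle : MvPolynomial.idealOfVars (Fin N) k ⊔ Ideal.span {VanCyc.quadPoly a - MvPolynomial.C 0}
      ≤ RingHom.ker (MvPolynomial.eval (0 : Fin N → k)) := by
    rw [sup_le_iff]
    constructor
    · rw [MvPolynomial.idealOfVars, Ideal.span_le]
      rintro _ ⟨i, rfl⟩
      rw [SetLike.mem_coe, RingHom.mem_ker, MvPolynomial.eval_X]
      rfl
    · rw [Ideal.span_le, Set.singleton_subset_iff, SetLike.mem_coe, RingHom.mem_ker]
      exact eval_zero_quadPoly a
  unfold VanCyc.originQuot
  rw [hI]
  constructor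
  · intro h
    rw [Ideal.mem_quotient_iff_mem_sup] at h
    exact RingHom.mem_ker.mp (hle h)
  · intro h
    apply Ideal.mem_map_of_mem
    have h1 := (MvPolynomial.mem_pow_idealOfVars_iff' (σ := Fin N) (R := k) 1 q).mpr (by
      intro x hx
      have hx0 : x = 0 := by
        rw [← Finsupp.degree_eq_zero_iff]
        omega
      rw [hx0, ← MvPolynomial.constantCoeff_eq, ← MvPolynomial.eval_zero]
      exact h)
    rwa [pow_one] at h1

theorem originQuot_isMaximal (a : Fin N → Fin N → k) : (VanCyc.originQuot k a 0).IsMaximal := by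
  let ev : VanCyc.quadRing k a 0 →+* k :=
    Ideal.Quotient.lift _ (MvPolynomial.eval (0 : Fin N → k)) (by
      intro x hx
      obtain ⟨c, rfl⟩ := Ideal.mem_span_singleton'.mp hx
      rw [map_mul, eval_zero_quadPoly, mul_zero])
  have hev : ∀ q, ev (Ideal.Quotient.mk _ q) = MvPolynomial.eval (0 : Fin N → k) q := fun q => rfl
  have hsurj : Function.Surjective ev := by
    intro c
    exact ⟨Ideal.Quotient.mk _ (MvPolynomial.C c), by rw [hev, MvPolynomial.eval_C]⟩
  have hker : RingHom.ker ev = VanCyc.originQuot k a 0 := by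
    ext x
    obtain ⟨q, rfl⟩ := Ideal.Quotient.mk_surjective x
    rw [RingHom.mem_ker, hev, mem_originQuot_iff]
  rw [← hker]
  exact RingHom.ker_isMaximal_of_surjective ev hsurj

theorem φ₀_zero (q : MvPolynomial (Fin N) k) :
    φ₀ (0 : Fin N → k) q = (q : MvPowerSeries (Fin N) k) := by
  have h : φ₀ (0 : Fin N → k) = MvPolynomial.aeval (MvPowerSeries.X : Fin N → MvPowerSeries (Fin N) k) := by
    unfold φ₀
    congr 1
    funext i
    rw [Pi.zero_apply, map_zero, add_zero]
  rw [h, Groth.Agent.Lib.VanCycMorseH1.aeval_X_eq_coe']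

/-- the completion of the local ring of the quadric cone at the origin -/
theorem model_completion (a : Fin N → Fin N → k) [(VanCyc.originQuot k a 0).IsPrime]
    (L : Type u) [CommRing L] [IsLocalRing L] [Algebra (VanCyc.quadRing k a 0) L]
    [IsLocalization.AtPrime L (VanCyc.originQuot k a 0)] [Algebra k L]
    [IsScalarTower k (VanCyc.quadRing k a 0) L] :
    Nonempty (AdicCompletion (maximalIdeal L) L ≃ₐ[k]
      (MvPowerSeries (Fin N) k ⧸ Ideal.span
        {((VanCyc.quadPoly a : MvPolynomial (Fin N) k) : MvPowerSeries (Fin N) k)})) := by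
  haveI := originQuot_isMaximal a
  obtain ⟨e, -⟩ := exists_completion_equiv (0 : Fin N → k) (VanCyc.quadPoly a - MvPolynomial.C 0)
    (VanCyc.originQuot k a 0) (mem_originQuot_iff a) L
  have hI : Ideal.span {φ₀ (0 : Fin N → k) (VanCyc.quadPoly a - MvPolynomial.C 0)}
      = Ideal.span {((VanCyc.quadPoly a : MvPolynomial (Fin N) k) : MvPowerSeries (Fin N) k)} := by
    rw [φ₀_zero, map_zero, sub_zero]
  exact ⟨e.trans (Ideal.quotientEquivAlgOfEq k hI)⟩




/-- **isomorphic completions ⇒ isomorphic henselizations** (for a local ring essentially of finite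
type over a field `k` with residue field `k` and the local ring of a finite type `k`-algebra at a
prime). -/
theorem hens_equiv_of_completion_equiv (k : Type u) [Field k]
    (O : Type u) [CommRing O] [IsLocalRing O] [Algebra k O] [Algebra.EssFiniteType k O]
    (hk : ∀ y : O, ∃ c : k, y - algebraMap k O c ∈ maximalIdeal O)
    (Oh : Type u) [CommRing Oh] [IsLocalRing Oh] [Algebra O Oh] [IsLocalHom (algebraMap O Oh)]
    [Hensel.IsHenselization O Oh] [Algebra k Oh] [IsScalarTower k O Oh]
    (B : Type u) [CommRing B] [Algebra k B] [Algebra.FiniteType k B] (𝔮 : Ideal B) [𝔮.IsPrime]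
    (OY : Type u) [CommRing OY] [IsLocalRing OY] [Algebra B OY] [IsLocalization.AtPrime OY 𝔮]
    [Algebra k OY] [IsScalarTower k B OY]
    (φ : AdicCompletion (maximalIdeal OY) OY ≃ₐ[k] AdicCompletion (maximalIdeal O) O)
    (C : Type u) [CommRing C] [IsLocalRing C] [Algebra (Localization.AtPrime 𝔮) C]
    [IsLocalHom (algebraMap (Localization.AtPrime 𝔮) C)]
    [Hensel.IsHenselization (Localization.AtPrime 𝔮) C] [Algebra k C]
    [IsScalarTower k (Localization.AtPrime 𝔮) C] :
    Nonempty (Oh ≃ₐ[k] C) := by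
  classical
  -- the finite type model of `O`
  let A₀ := Algebra.EssFiniteType.subalgebra k O
  let 𝔭 : Ideal A₀ := Groth.Agent.Lib.EtLocalStd.q k O
  haveI : 𝔭.IsPrime := Ideal.comap_isPrime _ _
  haveI : IsLocalization.AtPrime O 𝔭 := Groth.Agent.Lib.EtLocalStd.atPrime k O
  have hG : CAlg.IsGRing O :=
    isGRing_of_essFiniteType' k (Groth.Agent.Lib.ArtinApxH5.isGRing_of_field k) O
  haveI : IsNoetherianRing O := hG.1
  haveI : IsNoetherianRing B := Algebra.FiniteType.isNoetherianRing k B
  haveI : IsNoetherianRing OY := IsLocalization.isNoetherianRing 𝔮.primeCompl OY inferInstance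
  have hφ : ∀ l : k, φ.toRingEquiv (algebraMap OY (AdicCompletion (maximalIdeal OY) OY)
        (algebraMap B OY (algebraMap k B l))) =
      algebraMap O (AdicCompletion (maximalIdeal O) O) (algebraMap A₀ O (algebraMap k A₀ l)) := by
    intro l
    rw [← IsScalarTower.algebraMap_apply k B OY, ← IsScalarTower.algebraMap_apply k A₀ O]
    have h1 : algebraMap OY (AdicCompletion (maximalIdeal OY) OY) (algebraMap k OY l)
        = algebraMap k (AdicCompletion (maximalIdeal OY) OY) l := rfl
    have h2 : algebraMap O (AdicCompletion (maximalIdeal O) O) (algebraMap k O l)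
        = algebraMap k (AdicCompletion (maximalIdeal O) O) l := rfl
    rw [h1, h2]
    exact φ.commutes l
  obtain ⟨R', iR1, iR2, het, ψ, p', hp', hψ, hcomap, hfrac, hψp, t, htet, htΛ, ht⟩ :=
    approx_alg_etale (Λ := k) (A := A₀) (B := B) (K := O) (OY := OY) 𝔭 hG 𝔮 φ.toRingEquiv hφ 2
      le_rfl
  haveI := hp'
  haveI := het
  -- `p'` lies over `𝔮`
  let φ₀ : OY →+* AdicCompletion (maximalIdeal O) O :=
    (φ.toRingEquiv : _ →+* _).comp (algebraMap OY (AdicCompletion (maximalIdeal OY) OY))
  have hφloc : ∀ b ∈ maximalIdeal OY, φ₀ b ∈ (maximalIdeal O).map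
      (algebraMap O (AdicCompletion (maximalIdeal O) O)) := fun b hb =>
    equiv_comp_local φ.toRingEquiv b hb
  have hmem : ∀ β : B, t β ∈ p' ↔ β ∈ 𝔮 :=
    mem_iff_of_local 𝔭 𝔮 φ₀ hφloc ψ p' hψ hcomap hfrac hψp t 2 (by omega) ht
  letI algBR : Algebra B R' := t.toAlgebra
  haveI : Algebra.Etale B R' := htet
  have hq₁ : 𝔭 = p'.comap (algebraMap A₀ R') := hcomap.symm
  have hκ₁ := bijective_of_frac 𝔭 p' hq₁ hfrac
  have hq₂ : 𝔮 = p'.comap (algebraMap B R') := by
    ext β
    exact (hmem β).symm
  -- residue field of `p'` is `k`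
  have hres : ∀ r : A₀, ∃ c : k, r - algebraMap k A₀ c ∈ 𝔭 := by
    intro r
    obtain ⟨c, hc⟩ := hk (algebraMap A₀ O r)
    refine ⟨c, ?_⟩
    show algebraMap A₀ O (r - algebraMap k A₀ c) ∈ maximalIdeal O
    rw [map_sub, ← IsScalarTower.algebraMap_apply k A₀ O]
    exact hc
  have hmemp : ∀ r : A₀, r ∈ 𝔭 → algebraMap A₀ R' r ∈ p' := by
    intro r hr
    rw [hq₁] at hr
    exact hr
  have hfrac₂ : ∀ x : R', ∃ r s : B, s ∉ 𝔮 ∧ algebraMap B R' s * x - algebraMap B R' r ∈ p' := by
    intro x
    obtain ⟨r, s, hs, hx⟩ := hfrac x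
    obtain ⟨cr, hcr⟩ := hres r
    obtain ⟨cs, hcs⟩ := hres s
    have hcs0 : cs ≠ 0 := by
      intro h0
      rw [h0, map_zero, sub_zero] at hcs
      exact hs hcs
    refine ⟨algebraMap k B cr, algebraMap k B cs, ?_, ?_⟩
    · intro h
      have hu : IsUnit (algebraMap k B cs) := (isUnit_iff_ne_zero.mpr hcs0).map _
      exact (Ideal.IsPrime.ne_top inferInstance) (Ideal.eq_top_of_isUnit_mem _ h hu)
    · show t (algebraMap k B cs) * x - t (algebraMap k B cr) ∈ p'
      rw [htΛ, htΛ]
      have e1 : algebraMap A₀ R' (algebraMap k A₀ cs) * x - algebraMap A₀ R' (algebraMap k A₀ cr)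
          = (algebraMap A₀ R' s * x - algebraMap A₀ R' r)
            - algebraMap A₀ R' (s - algebraMap k A₀ cs) * x
            + algebraMap A₀ R' (r - algebraMap k A₀ cr) := by
        rw [map_sub, map_sub]; ring
      rw [e1]
      exact Ideal.add_mem _ (Ideal.sub_mem _ hx (Ideal.mul_mem_right _ _ (hmemp _ hcs)))
        (hmemp _ hcr)
  have hκ₂ := bijective_of_frac 𝔮 p' hq₂ hfrac₂
  -- `Oh` as a henselization of `Localization.AtPrime 𝔭`
  let e₀ : Localization.AtPrime 𝔭 ≃ₐ[A₀] O := IsLocalization.algEquiv 𝔭.primeCompl _ _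
  letI algLO : Algebra (Localization.AtPrime 𝔭) Oh :=
    ((algebraMap O Oh).comp (e₀.toRingEquiv : Localization.AtPrime 𝔭 →+* O)).toAlgebra
  have hcompat : ∀ x, algebraMap (Localization.AtPrime 𝔭) Oh x
      = algebraMap O Oh (e₀.toRingEquiv x) := fun x => rfl
  haveI : IsLocalHom (algebraMap (Localization.AtPrime 𝔭) Oh) :=
    isLocalHom_of_equiv e₀.toRingEquiv Oh hcompat
  haveI : Hensel.IsHenselization (Localization.AtPrime 𝔭) Oh :=
    isHenselization_of_equiv e₀.toRingEquiv Oh hcompat
  haveI : IsScalarTower A₀ (Localization.AtPrime 𝔭) Oh :=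
    IsScalarTower.of_algebraMap_eq (fun r => by
      show algebraMap O Oh (algebraMap A₀ O r)
        = algebraMap O Oh (e₀ (algebraMap A₀ (Localization.AtPrime 𝔭) r))
      rw [e₀.commutes])
  letI algBC : Algebra B C :=
    ((algebraMap (Localization.AtPrime 𝔮) C).comp (algebraMap B (Localization.AtPrime 𝔮))).toAlgebra
  haveI : IsScalarTower B (Localization.AtPrime 𝔮) C :=
    IsScalarTower.of_algebraMap_eq (fun r => rfl)
  obtain ⟨e, f₁, f₂, hef⟩ := exists_equiv_of_common A₀ 𝔭 Oh B 𝔮 C p' hq₁ hκ₁ hq₂ hκ₂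
  have hcomm : ∀ l : k, e (algebraMap k Oh l) = algebraMap k C l := by
    intro l
    have h1 : algebraMap k Oh l = f₁ (t (algebraMap k B l)) := by
      rw [htΛ, f₁.commutes, IsScalarTower.algebraMap_apply k O Oh,
        IsScalarTower.algebraMap_apply k A₀ O]
      rfl
    have h2 : f₂ (t (algebraMap k B l)) = algebraMap k C l := by
      have : t (algebraMap k B l) = algebraMap B R' (algebraMap k B l) := rfl
      rw [this, f₂.commutes, IsScalarTower.algebraMap_apply k (Localization.AtPrime 𝔮) C,
        IsScalarTower.algebraMap_apply k B (Localization.AtPrime 𝔮)]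
      rfl
    rw [h1, hef, h2]
  exact ⟨AlgEquiv.ofRingEquiv (f := e) hcomm⟩


/-- **S4007** -/
theorem main4007 (k : Type u) [Field k] [IsAlgClosed k]
    (O : Type u) [CommRing O] [IsLocalRing O] [Algebra k O] [Algebra.EssFiniteType k O]
    (hk : ∀ y : O, ∃ c : k, y - algebraMap k O c ∈ IsLocalRing.maximalIdeal O)
    (n : ℕ) (hq : VanCyc.IsOrdQuadSing k O n)
    (Oh : Type u) [CommRing Oh] [IsLocalRing Oh] [Algebra O Oh] [IsLocalHom (algebraMap O Oh)]
    [Hensel.IsHenselization O Oh] [Algebra k Oh] [IsScalarTower k O Oh] :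
    ∃ a : Fin (n + 1) → Fin (n + 1) → k, VanCyc.QuadOrd a ∧
      ∀ [(VanCyc.originQuot k a 0).IsPrime] (C : Type u) [CommRing C] [IsLocalRing C]
        [Algebra (Localization.AtPrime (VanCyc.originQuot k a 0)) C]
        [IsLocalHom (algebraMap (Localization.AtPrime (VanCyc.originQuot k a 0)) C)]
        [Hensel.IsHenselization (Localization.AtPrime (VanCyc.originQuot k a 0)) C]
        [Algebra k C] [IsScalarTower k (Localization.AtPrime (VanCyc.originQuot k a 0)) C],
        Nonempty (Oh ≃ₐ[k] C) := by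
  obtain ⟨f, hf, ⟨ε⟩⟩ := hq
  refine ⟨VanCyc.quadPart f, hf.2, ?_⟩
  intro hprime C _ _ _ _ _ _ _
  obtain ⟨ε₂⟩ := Groth.Agent.Lib.OrdMorseH5.ordQuad_equiv f hf
  obtain ⟨ε₃⟩ := model_completion (VanCyc.quadPart f)
    (Localization.AtPrime (VanCyc.originQuot k (VanCyc.quadPart f) 0))
  exact hens_equiv_of_completion_equiv k O hk Oh (VanCyc.quadRing k (VanCyc.quadPart f) 0)
    (VanCyc.originQuot k (VanCyc.quadPart f) 0)
    (Localization.AtPrime (VanCyc.originQuot k (VanCyc.quadPart f) 0))
    (ε₃.trans (ε₂.symm.trans ε.symm)) C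

end Groth.Agent.Lib.OrdQuadHensH5
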