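import Mathlib

set_option autoImplicit false
universe u v w x

namespace Groth.Agent.Lib.OreDerH1

section ore

variable (K : Type u) [Field K] (O : Type v) [CommRing O] [Algebra K O]

/-- normal form map `c ↦ Σ φ(c_i) t^i` -/
noncomputable def nf {T : Type*} [Ring T] [Algebra K T] (φ : O →ₐ[K] T) (t : T) :
    (ℕ →₀ O) →ₗ[K] T :=
  Finsupp.lsum K (fun i => (LinearMap.mulRight K (t ^ i)).comp φ.toLinearMap)

theorem nf_single {T : Type*} [Ring T] [Algebra K T] (φ : O →ₐ[K] T) (t : T) (i : ℕ) (g : O) :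
    nf K O φ t (Finsupp.single i g) = φ g * t ^ i := by
  simp [nf]

theorem nf_apply {T : Type*} [Ring T] [Algebra K T] (φ : O →ₐ[K] T) (t : T) (c : ℕ →₀ O) :
    nf K O φ t c = c.sum (fun i f => φ f * t ^ i) := by
  show Finsupp.lsum K _ c = _
  rw [Finsupp.lsum_apply]
  rfl

variable {K O}
variable (δ : Derivation K O O) {D : Type w} [Ring D] [Algebra K D] (ι : O →ₐ[K] D) (d : D)

theorem exists_algHom
    (hd : ∀ f : O, d * ι f = ι f * d + ι (δ f))
    (hbij : Function.Bijective (nf K O ι d))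
    {T : Type*} [Ring T] [Algebra K T] (φ : O →ₐ[K] T) (t : T)
    (ht : ∀ f : O, t * φ f = φ f * t + φ (δ f)) :
    ∃ Φ : D →ₐ[K] T, (∀ f, Φ (ι f) = φ f) ∧ Φ d = t := by
  let e := LinearEquiv.ofBijective (nf K O ι d) hbij
  let Φ₀ : D →ₗ[K] T := (nf K O φ t).comp e.symm.toLinearMap
  have hΦ : ∀ c, Φ₀ (nf K O ι d c) = nf K O φ t c := by
    intro c
    show nf K O φ t (e.symm (e c)) = _
    rw [e.symm_apply_apply]
  have h1 : Φ₀ 1 = 1 := by
    have : (1 : D) = nf K O ι d (Finsupp.single 0 1) := by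
      rw [nf_single, map_one, pow_zero, mul_one]
    rw [this, hΦ, nf_single, map_one, pow_zero, mul_one]
  have hι : ∀ f P, Φ₀ (ι f * P) = φ f * Φ₀ P := by
    intro f P
    obtain ⟨c, rfl⟩ := hbij.2 P
    induction c using Finsupp.induction_linear with
    | zero => simp
    | add c₁ c₂ h₁ h₂ => simp only [map_add, mul_add, h₁, h₂]
    | single i g =>
      rw [nf_single, ← mul_assoc, ← map_mul, ← nf_single K O ι d, hΦ, ← nf_single K O ι d, hΦ,
        nf_single, nf_single, map_mul, mul_assoc]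
  have hdm : ∀ P, Φ₀ (d * P) = t * Φ₀ P := by
    intro P
    obtain ⟨c, rfl⟩ := hbij.2 P
    induction c using Finsupp.induction_linear with
    | zero => simp
    | add c₁ c₂ h₁ h₂ => simp only [map_add, mul_add, h₁, h₂]
    | single i g =>
      have e1 : d * nf K O ι d (Finsupp.single i g) =
          nf K O ι d (Finsupp.single (i + 1) g + Finsupp.single i (δ g)) := by
        rw [map_add, nf_single, nf_single, nf_single, ← mul_assoc, hd, add_mul, mul_assoc,
          ← pow_succ']
      rw [e1, hΦ, hΦ, map_add, nf_single, nf_single, nf_single, ← mul_assoc, ht, add_mul,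
        mul_assoc, ← pow_succ']
  have hdp : ∀ i P, Φ₀ (d ^ i * P) = t ^ i * Φ₀ P := by
    intro i
    induction i with
    | zero => intro P; simp
    | succ i ih => intro P; rw [pow_succ', mul_assoc, hdm, ih, pow_succ', mul_assoc]
  have hmul : ∀ P Q, Φ₀ (P * Q) = Φ₀ P * Φ₀ Q := by
    intro P Q
    obtain ⟨c, rfl⟩ := hbij.2 P
    induction c using Finsupp.induction_linear with
    | zero => simp
    | add c₁ c₂ h₁ h₂ => simp only [map_add, add_mul, h₁, h₂]
    | single i g => rw [hΦ, nf_single, nf_single, mul_assoc, hι, hdp, mul_assoc]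
  refine ⟨AlgHom.ofLinearMap Φ₀ h1 hmul, ?_, ?_⟩
  · intro f
    show Φ₀ (ι f) = φ f
    rw [← mul_one (ι f), hι, h1, mul_one]
  · show Φ₀ d = t
    rw [← mul_one d, hdm, h1, mul_one]

theorem algHom_ext {T : Type*} [Ring T] [Algebra K T] (Φ₁ Φ₂ : D →ₐ[K] T)
    (hι : ∀ f, Φ₁ (ι f) = Φ₂ (ι f)) (hd' : Φ₁ d = Φ₂ d)
    (hsurj : Function.Surjective (nf K O ι d)) : Φ₁ = Φ₂ := by
  apply AlgHom.ext
  intro P
  obtain ⟨c, rfl⟩ := hsurj P
  induction c using Finsupp.induction_linear with
  | zero => simp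
  | add c₁ c₂ h₁ h₂ => simp only [map_add, h₁, h₂]
  | single i g => rw [nf_single, map_mul, map_mul, map_pow, map_pow, hι, hd']

theorem der_ext {E : Type x} [AddCommGroup E] [Module K E] (ρ : D →ₐ[K] Module.End K E)
    (s₁ s₂ : D →ₗ[K] Module.End K E)
    (h₁ : ∀ P Q, s₁ (P * Q) = s₁ P * ρ Q + ρ P * s₁ Q)
    (h₂ : ∀ P Q, s₂ (P * Q) = s₂ P * ρ Q + ρ P * s₂ Q)
    (hι : ∀ f, s₁ (ι f) = s₂ (ι f)) (hd' : s₁ d = s₂ d)
    (hsurj : Function.Surjective (nf K O ι d)) : s₁ = s₂ := by
  have one₁ : s₁ 1 = 0 := by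
    have := h₁ 1 1
    rw [mul_one, map_one ρ, mul_one, one_mul] at this
    simpa using this
  have one₂ : s₂ 1 = 0 := by
    have := h₂ 1 1
    rw [mul_one, map_one ρ, mul_one, one_mul] at this
    simpa using this
  have hp : ∀ i, s₁ (d ^ i) = s₂ (d ^ i) := by
    intro i
    induction i with
    | zero => rw [pow_zero, one₁, one₂]
    | succ i ih => rw [pow_succ', h₁, h₂, hd', ih]
  apply LinearMap.ext
  intro P
  obtain ⟨c, rfl⟩ := hsurj P
  induction c using Finsupp.induction_linear with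
  | zero => simp
  | add c₁ c₂ e₁ e₂ => simp only [map_add, e₁, e₂]
  | single i g => rw [nf_single, h₁, h₂, hι, hp]

end ore

theorem main19974
    (K : Type u) [Field K] [CharZero K]
    (O : Type v) [CommRing O] [Algebra K O] (δ : Derivation K O O)
    (D : Type w) [Ring D] [Algebra K D] (ι : O →ₐ[K] D) (d : D)
    (hd : ∀ f : O, d * ι f = ι f * d + ι (δ f))
    (hbasis : Function.Bijective (fun c : ℕ →₀ O => c.sum (fun i f => ι f * d ^ i)))
    (E : Type x) [AddCommGroup E] [Module K E] (ρ : D →ₐ[K] Module.End K E)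
    (hE : ∃ (n : ℕ) (b : Fin n → E), Function.Bijective (fun c : Fin n → O => ∑ i, ρ (ι (c i)) (b i))) :
    (∀ s : D →ₗ[K] Module.End K E, (∀ P Q : D, s (P * Q) = s P * ρ Q + ρ P * s Q) →
      ∀ f : O, (s (ι f) * ρ d - ρ d * s (ι f)) + (ρ (ι f) * s d - s d * ρ (ι f)) + s (ι (δ f)) = 0) ∧
    ∀ (r : O →ₗ[K] Module.End K E) (v : Module.End K E),
      (∀ f g : O, r (f * g) = r f * ρ (ι g) + ρ (ι f) * r g) →
      (∀ f : O, (r f * ρ d - ρ d * r f) + (ρ (ι f) * v - v * ρ (ι f)) + r (δ f) = 0) →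
      ∃! s : D →ₗ[K] Module.End K E,
        (∀ P Q : D, s (P * Q) = s P * ρ Q + ρ P * s Q) ∧ s ∘ₗ ι.toLinearMap = r ∧ s d = v := by
  have hbij : Function.Bijective (nf K O ι d) := by
    have : (nf K O ι d : (ℕ →₀ O) → D) = fun c : ℕ →₀ O => c.sum (fun i f => ι f * d ^ i) := by
      funext c
      exact nf_apply K O ι d c
    rw [this]
    exact hbasis
  refine ⟨?_, ?_⟩
  · intro s hs f
    have h := congrArg s (hd f)
    rw [hs, map_add, hs] at h
    have h' : s (ι f) * ρ d + ρ (ι f) * s d + s (ι (δ f)) - (s d * ρ (ι f) + ρ d * s (ι f)) = 0 := by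
      rw [h, sub_self]
    rw [← h']
    abel
  · intro r v hr hv
    have hr1 : r 1 = 0 := by
      have := hr 1 1
      rw [mul_one, map_one ι, map_one ρ, mul_one, one_mul] at this
      simpa using this
    let φl : O →ₗ[K] TrivSqZeroExt (Module.End K E) (Module.End K E) :=
      { toFun := fun f => TrivSqZeroExt.inl (ρ (ι f)) + TrivSqZeroExt.inr (r f)
        map_add' := by
          intro f g
          apply TrivSqZeroExt.ext <;> simp
        map_smul' := by
          intro c f
          apply TrivSqZeroExt.ext <;> simp }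
    have hφl : ∀ f, φl f = TrivSqZeroExt.inl (ρ (ι f)) + TrivSqZeroExt.inr (r f) := fun f => rfl
    let φ : O →ₐ[K] TrivSqZeroExt (Module.End K E) (Module.End K E) :=
      AlgHom.ofLinearMap φl
        (by
          rw [hφl, map_one, map_one, hr1]
          apply TrivSqZeroExt.ext <;> simp)
        (by
          intro f g
          rw [hφl, hφl, hφl]
          apply TrivSqZeroExt.ext
          · simp
          · simp only [TrivSqZeroExt.snd_add, TrivSqZeroExt.snd_inl, TrivSqZeroExt.snd_inr,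
              zero_add, TrivSqZeroExt.snd_mul, TrivSqZeroExt.fst_add, TrivSqZeroExt.fst_inl,
              TrivSqZeroExt.fst_inr, add_zero, smul_eq_mul, MulOpposite.smul_eq_mul_unop,
              MulOpposite.unop_op]
            rw [hr f g, add_comm])
    have hφ : ∀ f, φ f = TrivSqZeroExt.inl (ρ (ι f)) + TrivSqZeroExt.inr (r f) := fun f => rfl
    obtain ⟨t, ht⟩ : ∃ t : TrivSqZeroExt (Module.End K E) (Module.End K E),
        t = TrivSqZeroExt.inl (ρ d) + TrivSqZeroExt.inr v := ⟨_, rfl⟩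
    have htrel : ∀ f : O, t * φ f = φ f * t + φ (δ f) := by
      intro f
      rw [hφ, hφ, ht]
      apply TrivSqZeroExt.ext
      · simp only [TrivSqZeroExt.fst_mul, TrivSqZeroExt.fst_add, TrivSqZeroExt.fst_inl,
          TrivSqZeroExt.fst_inr, add_zero]
        rw [← map_mul, ← map_mul, ← map_add, hd]
      · simp only [TrivSqZeroExt.snd_add, TrivSqZeroExt.snd_inl, TrivSqZeroExt.snd_inr,
          zero_add, TrivSqZeroExt.snd_mul, TrivSqZeroExt.fst_add, TrivSqZeroExt.fst_inl,
          TrivSqZeroExt.fst_inr, add_zero, smul_eq_mul, MulOpposite.smul_eq_mul_unop,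
          MulOpposite.unop_op]
        have h := hv f
        have h' : ρ (ι f) * v + r f * ρ d + r (δ f) - (ρ d * r f + v * ρ (ι f)) = 0 := by
          rw [← h]
          abel
        exact (sub_eq_zero.mp h').symm
    obtain ⟨Φ, hΦι, hΦd⟩ := exists_algHom δ ι d hd hbij φ t htrel
    have hfst : (TrivSqZeroExt.fstHom K (Module.End K E) (Module.End K E)).comp Φ = ρ := by
      apply algHom_ext ι d _ _ _ _ hbij.2
      · intro f
        rw [AlgHom.comp_apply, hΦι, hφ]
        simp
      · rw [AlgHom.comp_apply, hΦd, ht]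
        simp
    have hfst' : ∀ P, (Φ P).fst = ρ P := fun P => congrArg (fun Ψ => Ψ P) hfst
    let s : D →ₗ[K] Module.End K E :=
      { toFun := fun P => (Φ P).snd
        map_add' := by intro P Q; simp
        map_smul' := by intro c P; simp }
    have hs : ∀ P, s P = (Φ P).snd := fun P => rfl
    have hsL : ∀ P Q : D, s (P * Q) = s P * ρ Q + ρ P * s Q := by
      intro P Q
      rw [hs, hs, hs, map_mul, TrivSqZeroExt.snd_mul, hfst', hfst', smul_eq_mul,
        MulOpposite.smul_eq_mul_unop, MulOpposite.unop_op, add_comm]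
    have hsι : ∀ f, s (ι f) = r f := by
      intro f
      rw [hs, hΦι, hφ]
      simp
    have hsd : s d = v := by
      rw [hs, hΦd, ht]
      simp
    refine ⟨s, ⟨hsL, ?_, hsd⟩, ?_⟩
    · apply LinearMap.ext
      intro f
      exact hsι f
    · rintro s' ⟨hs'L, hs'ι, hs'd⟩
      apply der_ext ι d ρ s' s hs'L hsL _ (hs'd.trans hsd.symm) hbij.2
      intro f
      rw [hsι, ← hs'ι]
      rfl

end Groth.Agent.Lib.OreDerH1
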