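import Mathlib.CategoryTheory.Triangulated.Orthogonal
import Mathlib.CategoryTheory.Triangulated.Triangulated

/-!
# Orthogonal decompositions in triangulated categories (helper2)

For two triangulated subcategories `𝒜`, `ℬ` of a triangulated category with `Hom(𝒜, ℬ) = 0`,
the class of objects `X` sitting in a distinguished triangle `A → X → B → A⟦1⟧` with `A ∈ 𝒜`,
`B ∈ ℬ` is a triangulated subcategory.

Used by S0976 (and generalises S6607).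
-/

set_option autoImplicit false
universe v u
open CategoryTheory CategoryTheory.Limits

namespace Groth.Agent.Lib.OrthDecomp_helper2

open CategoryTheory.Pretriangulated ZeroObject

variable {D : Type u} [Category.{v} D] [Preadditive D] [HasZeroObject D] [HasShift D ℤ]
    [∀ n : ℤ, (shiftFunctor D n).Additive] [Pretriangulated D]

/-- The property of admitting a decomposition `A → X → B` with `A ∈ 𝒜`, `B ∈ ℬ`. -/
def decomp (𝒜 ℬ : ObjectProperty D) : ObjectProperty D := fun X : D =>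
  ∃ (A B : D) (f : A ⟶ X) (g : X ⟶ B) (h : B ⟶ (shiftFunctor D (1 : ℤ)).obj A),
      Triangle.mk f g h ∈ distinguishedTriangles ∧ 𝒜 A ∧ ℬ B

variable (𝒜 ℬ : ObjectProperty D) [𝒜.IsTriangulated] [ℬ.IsTriangulated]

set_option backward.defeqAttrib.useBackward true in
lemma decomp_zero : ∃ Z : D, IsZero Z ∧ decomp 𝒜 ℬ Z := by
  obtain ⟨Z, hZ, hBZ⟩ := ObjectProperty.ContainsZero.exists_zero (P := ℬ)
  obtain ⟨Z', hZ', hAZ'⟩ := ObjectProperty.ContainsZero.exists_zero (P := 𝒜)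
  have hT : Triangle.mk (0 : Z' ⟶ Z) (𝟙 Z) (0 : Z ⟶ (shiftFunctor D (1 : ℤ)).obj Z') ∈
      distTriang D := by
    refine isomorphic_distinguished _ (contractible_distinguished₁ Z)
      (Triangle.mk (0 : Z' ⟶ Z) (𝟙 Z) (0 : Z ⟶ (shiftFunctor D (1 : ℤ)).obj Z')) ?_
    exact Triangle.isoMk _ _ (hZ'.iso (isZero_zero D)) (Iso.refl _) (Iso.refl _)
      (hZ'.eq_of_src _ _) (by simp) (hZ.eq_of_src _ _)
  exact ⟨Z, hZ, Z', Z, 0, 𝟙 Z, 0, hT, hAZ', hBZ⟩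

lemma decomp_shift (X : D) (n : ℤ) (hX : decomp 𝒜 ℬ X) : decomp 𝒜 ℬ (X⟦n⟧) := by
  obtain ⟨A, Y, f, g, h, hT, hA, hY⟩ := hX
  have := Triangle.shift_distinguished _ hT n
  exact ⟨A⟦n⟧, Y⟦n⟧, _, _, _, this, 𝒜.le_shift n _ hA, ℬ.le_shift n _ hY⟩

/-- Replace the first vertex of a distinguished triangle by an isomorphic object. -/
lemma distinguished_of_iso₁ {A A' X Y : D} (f : A ⟶ X) (g : X ⟶ Y)
    (h : Y ⟶ (shiftFunctor D (1 : ℤ)).obj A) (hT : Triangle.mk f g h ∈ distTriang D)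
    (φ : A' ≅ A) :
    Triangle.mk (φ.hom ≫ f) g (h ≫ (shiftFunctor D (1 : ℤ)).map φ.inv) ∈ distTriang D := by
  refine isomorphic_distinguished _ hT _ ?_
  refine Triangle.isoMk _ _ φ (Iso.refl _) (Iso.refl _) ?_ ?_ ?_
  · show (φ.hom ≫ f) ≫ 𝟙 X = φ.hom ≫ f
    rw [Category.comp_id]
  · show g ≫ 𝟙 Y = 𝟙 X ≫ g
    rw [Category.comp_id, Category.id_comp]
  · show (h ≫ (shiftFunctor D (1 : ℤ)).map φ.inv) ≫ (shiftFunctor D (1 : ℤ)).map φ.hom = 𝟙 Y ≫ h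
    rw [Category.assoc, ← Functor.map_comp, φ.inv_hom_id, CategoryTheory.Functor.map_id,
      Category.comp_id, Category.id_comp]

variable (hAB : ∀ (a b : D), 𝒜 a → ℬ b → ∀ f : a ⟶ b, f = 0)

include hAB in
set_option backward.defeqAttrib.useBackward true in
lemma decomp_ext₃ [IsTriangulated D] {X₁ X₂ X₃ : D} (u : X₁ ⟶ X₂) (v : X₂ ⟶ X₃)
    (w : X₃ ⟶ X₁⟦(1 : ℤ)⟧) (hT : Triangle.mk u v w ∈ distTriang D)
    (h₁ : decomp 𝒜 ℬ X₁) (h₂ : decomp 𝒜 ℬ X₂) : decomp 𝒜 ℬ X₃ := by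
  obtain ⟨A₁, Y₁, a₁, b₁, c₁, hT₁, hA₁, hY₁⟩ := h₁
  obtain ⟨A₂, Y₂, a₂, b₂, c₂, hT₂, hA₂, hY₂⟩ := h₂
  -- Step 0
  obtain ⟨β, hβ⟩ : ∃ β : Y₁ ⟶ Y₂, u ≫ b₂ = b₁ ≫ β :=
    Triangle.yoneda_exact₂ _ hT₁ (u ≫ b₂) (hAB _ _ hA₁ hY₂ _)
  -- Step 1
  obtain ⟨Y₃, γ, ε, hT₃, hY₃⟩ : ∃ (Y₃ : D) (γ : Y₂ ⟶ Y₃) (ε : Y₃ ⟶ Y₁⟦(1 : ℤ)⟧),
      Triangle.mk β γ ε ∈ distTriang D ∧ ℬ Y₃ := by
    obtain ⟨Y₃, γ, ε, h⟩ := distinguished_cocone_triangle β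
    obtain ⟨Y₃', hY₃', ⟨e⟩⟩ := ℬ.ext_of_isTriangulatedClosed₃' _ h hY₁ hY₂
    refine ⟨Y₃', γ ≫ e.hom, e.inv ≫ ε, isomorphic_distinguished _ h _
      (Triangle.isoMk _ _ (Iso.refl _) (Iso.refl _) e.symm ?_ ?_ ?_), hY₃'⟩
    · simp
    · simp
    · simp
  -- Step 2
  obtain ⟨C, p, q, hC⟩ := distinguished_cocone_triangle (b₁ ≫ β)
  have oct₁ := Triangulated.someOctahedron hβ hT (rot_of_distTriang _ hT₂) hC
  have oct₂ := Triangulated.someOctahedron rfl (rot_of_distTriang _ hT₁) hT₃ hC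
  -- Step 3
  obtain ⟨A₃, f₃, h₃, hT₃'⟩ := distinguished_cocone_triangle₁ (oct₁.m₁ ≫ oct₂.m₃)
  have oct₃ := Triangulated.someOctahedron rfl oct₁.mem (rot_of_distTriang _ oct₂.mem)
    (rot_of_distTriang _ hT₃')
  obtain ⟨A', hA', ⟨e⟩⟩ : 𝒜.isoClosure (A₃⟦(1 : ℤ)⟧) :=
    𝒜.ext_of_isTriangulatedClosed₂' _ oct₃.mem
      (𝒜.le_shift 1 _ hA₂) (𝒜.le_shift 1 _ (𝒜.le_shift 1 _ hA₁))
  -- `A₃ ≅ A'⟦-1⟧`
  let φ : A'⟦(-1 : ℤ)⟧ ≅ A₃ :=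
    (shiftFunctor D (-1 : ℤ)).mapIso e.symm ≪≫ (shiftFunctorCompIsoId D (1 : ℤ) (-1) (by omega)).app A₃
  exact ⟨A'⟦(-1 : ℤ)⟧, Y₃, _, _, _, distinguished_of_iso₁ _ _ _ hT₃' φ, 𝒜.le_shift (-1) _ hA', hY₃⟩

include hAB in
lemma decomp_ext₂ [IsTriangulated D] (T : Triangle D) (hT : T ∈ distTriang D)
    (h₁ : decomp 𝒜 ℬ T.obj₁) (h₃ : decomp 𝒜 ℬ T.obj₃) : decomp 𝒜 ℬ T.obj₂ :=
  decomp_ext₃ 𝒜 ℬ hAB _ _ _ (inv_rot_of_distTriang _ hT) (decomp_shift 𝒜 ℬ _ (-1) h₃) h₁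

include hAB in
/-- The class of objects admitting an `(𝒜, ℬ)`-decomposition is a triangulated subcategory. -/
theorem decomp_isTriangulated [IsTriangulated D] : (decomp 𝒜 ℬ).IsTriangulated :=
  { exists_zero := decomp_zero 𝒜 ℬ
    isStableUnderShiftBy := fun n => ⟨fun X hX => decomp_shift 𝒜 ℬ X n hX⟩
    ext₂' := fun T hT h₁ h₃ => ObjectProperty.le_isoClosure _ _ (decomp_ext₂ 𝒜 ℬ hAB T hT h₁ h₃) }

end Groth.Agent.Lib.OrthDecomp_helper2
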