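import Mathlib
import Groth.Prelude.Def_BigSite
import Groth.Agent.Lib.BigSmall2_helper7
import Groth.Agent.Lib.BigSmall3_helper7
import Groth.Agent.Lib.DerivedComm_helper8

/-!
# Base change for big sites (helper7)
-/

set_option autoImplicit false
set_option backward.isDefEq.respectTransparency false
universe v' u' u
open CategoryTheory CategoryTheory.Limits Opposite

namespace Groth.Agent.Lib.OverBC_helper7

section General

variable {𝒞 : Type*} [Category 𝒞] [HasPullbacks 𝒞] {S T S' T' : 𝒞} {f : T ⟶ S} {g : S' ⟶ S}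
  {g' : T' ⟶ T} {f' : T' ⟶ S'}

theorem pasted (hsq : IsPullback g' f' f g) (W : Over S') :
    IsPullback (pullback.fst W.hom f') (pullback.snd W.hom f' ≫ g') (W.hom ≫ g) f :=
  ((IsPullback.of_hasPullback W.hom f').flip.paste_horiz hsq).flip

/-- Beck–Chevalley for slice categories. -/
noncomputable def bcIso (hsq : IsPullback g' f' f g) :
    Over.pullback f' ⋙ Over.map g' ≅ Over.map g ⋙ Over.pullback f :=
  NatIso.ofComponents (fun W => Over.isoMk ((pasted hsq W).isoPullback)
    (by
      show (pasted hsq W).isoPullback.hom ≫ pullback.snd (W.hom ≫ g) f = _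
      rw [IsPullback.isoPullback_hom_snd]
      rfl)) (by
    intro W W' φ
    ext
    apply pullback.hom_ext
    · simp
    · simp)

end General

section Scheme

open AlgebraicGeometry

variable {S T S' T' : Scheme.{u}} {f : T ⟶ S} {g : S' ⟶ S} {g' : T' ⟶ T} {f' : T' ⟶ S'}
  (hsq : IsPullback g' f' f g) (K : Precoverage Scheme.{u}) (A : Type u') [Category.{v'} A]

/-- `g_big⁻¹ f_big,* ≅ f'_big,* g'_big⁻¹`. -/
noncomputable def pushPullIso :
    BigSite.pushBig K f A ⋙ BigSite.pullBig K g A ≅
      BigSite.pullBig K g' A ⋙ BigSite.pushBig K f' A :=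
  haveI : (Over.pullback f' ⋙ Over.map g').IsContinuous (QuotSh.J K S') (QuotSh.J K T) :=
    Functor.isContinuous_comp _ _ _ (QuotSh.J K T') _
  Functor.sheafPushforwardContinuousComp' (F := Over.map g) (G := Over.pullback f)
      (FG := Over.pullback f' ⋙ Over.map g') (bcIso hsq).symm A
      (QuotSh.J K S') (QuotSh.J K S) (QuotSh.J K T) ≪≫
    (Functor.sheafPushforwardContinuousComp' (F := Over.pullback f') (G := Over.map g')
      (FG := Over.pullback f' ⋙ Over.map g') (Iso.refl _) A
      (QuotSh.J K S') (QuotSh.J K T') (QuotSh.J K T)).symm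

/-- `i_g⁻¹ f_big,* ≅ f'_small,* i_{g'}⁻¹`. -/
noncomputable def pushResAlongIso [BigSite.AEtCont K S'] [BigSite.AEtCont K T'] :
    BigSite.pushBig K f AddCommGrpCat.{u+1} ⋙ BigSite.resEtAlong K g ≅
      BigSite.resEtAlong K g' ⋙ EtCoh.push f' :=
  (Functor.associator _ _ _).symm ≪≫
    Functor.isoWhiskerRight (pushPullIso hsq K AddCommGrpCat.{u+1}) _ ≪≫
    Functor.associator _ _ _ ≪≫
    Functor.isoWhiskerLeft _ (Groth.Agent.Lib.BigSmall2_helper7.pushResIso K f') ≪≫
    (Functor.associator _ _ _).symm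

variable {K}

instance pullBig_preservesFiniteLimits {X Y : Scheme.{u}} (h : X ⟶ Y) :
    PreservesFiniteLimits (BigSite.pullBig K h AddCommGrpCat.{u+1}) := by
  haveI : PreservesLimitsOfSize.{0, 0} (BigSite.pullBig K h AddCommGrpCat.{u+1}) :=
    (BigSite.shriekAbAdj K h).rightAdjoint_preservesLimits
  exact PreservesLimitsOfSize.preservesFiniteLimits _

instance pullBig_preservesFiniteColimits {X Y : Scheme.{u}} (h : X ⟶ Y) :
    PreservesFiniteColimits (BigSite.pullBig K h AddCommGrpCat.{u+1}) := by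
  haveI : PreservesColimitsOfSize.{0, 0} (BigSite.pullBig K h AddCommGrpCat.{u+1}) :=
    (BigSite.bigAdj K h AddCommGrpCat.{u+1}).leftAdjoint_preservesColimits
  exact PreservesColimitsOfSize.preservesFiniteColimits _

variable (K)

include hsq in
theorem RpushBig_pull (F : BigSite.Ab K T) (q : ℕ) :
    Nonempty ((BigSite.pullBig K g AddCommGrpCat.{u + 1}).obj ((BigSite.RpushBig K f q).obj F) ≅
      (BigSite.RpushBig K f' q).obj ((BigSite.pullBig K g' AddCommGrpCat.{u + 1}).obj F)) := by
  haveI := Groth.Agent.Lib.OverMapExact_helper7.pullBig_preservesInjectives g' K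
  exact ⟨(Groth.Agent.Lib.DerivedCommH8.rightDerivedBaseChange
    (BigSite.pushBig K f AddCommGrpCat.{u+1}) (BigSite.pushBig K f' AddCommGrpCat.{u+1})
    (BigSite.pullBig K g' AddCommGrpCat.{u+1}) (BigSite.pullBig K g AddCommGrpCat.{u+1})
    (pushPullIso hsq K AddCommGrpCat.{u+1}) q).app F⟩

include hsq in
theorem RpushBig_resAlong [BigSite.AEtCont K S'] [BigSite.AEtCont K T'] [BigSite.AEtCocont K S']
    [BigSite.AEtCocont K T'] (F : BigSite.Ab K T) (q : ℕ) :
    Nonempty ((BigSite.resEtAlong K g).obj ((BigSite.RpushBig K f q).obj F) ≅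
      (EtCoh.Rpush f' q).obj ((BigSite.resEtAlong K g').obj F)) := by
  haveI := Groth.Agent.Lib.OverMapExact_helper7.pullBig_preservesInjectives g' K
  haveI := Groth.Agent.Lib.BigSmall_helper7.resEt_preservesInjectives T' K
  haveI := Groth.Agent.Lib.BigSmall_helper7.resEt_preservesFiniteLimits T' K
  haveI := Groth.Agent.Lib.BigSmall_helper7.resEt_preservesFiniteColimits T' K
  haveI := Groth.Agent.Lib.BigSmall_helper7.resEt_preservesFiniteLimits S' K
  haveI := Groth.Agent.Lib.BigSmall_helper7.resEt_preservesFiniteColimits S' K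
  exact ⟨(Groth.Agent.Lib.DerivedCommH8.rightDerivedBaseChange
    (BigSite.pushBig K f AddCommGrpCat.{u+1}) (EtCoh.push f')
    (BigSite.resEtAlong K g') (BigSite.resEtAlong K g)
    (pushResAlongIso hsq K) q).app F⟩

end Scheme

end Groth.Agent.Lib.OverBC_helper7
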