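import Mathlib
import Groth.Prelude.Def_CohSite
import Groth.Agent.Lib.OverShriek_helper2
import Groth.Agent.Lib.CechSiteLeray_helper2
import Groth.Agent.Lib.ExtCompare_helper2

/-!
# `H^n(U, F)` is the cohomology of the restriction of `F` to `Over U`
-/

set_option autoImplicit false
universe u
open CategoryTheory Limits Opposite Abelian

namespace Groth.Agent.Lib.OverCoh

open Groth.Agent.Lib.OverShriek Groth.Agent.Lib.CechSite

variable {C : Type u} [SmallCategory C] (J : GrothendieckTopology C) (U : C)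

/-- the constant sheaf `ℤ` on `Over U` -/
noncomputable abbrev GB : Sheaf (J.over U) AddCommGrpCat.{u} :=
  (constantSheaf (J.over U) AddCommGrpCat.{u}).obj (AddCommGrpCat.of (ULift ℤ))

/-- maps out of the constant sheaf are sections over the terminal object -/
noncomputable def e2 (G : Sheaf (J.over U) AddCommGrpCat.{u}) :
    (GB J U ⟶ G) ≃+ G.obj.obj (op (Over.mk (𝟙 U))) :=
  (Ext.addEquiv₀ (X := GB J U) (Y := G)).symm.trans (Sheaf.H.equiv₀ G Over.mkIdTerminal)

lemma e2_comp {G G' : Sheaf (J.over U) AddCommGrpCat.{u}} (x : GB J U ⟶ G) (ψ : G ⟶ G') :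
    e2 J U G' (x ≫ ψ) = (ψ.hom.app (op (Over.mk (𝟙 U)))).hom (e2 J U G x) := by
  have h := Sheaf.H.equiv₀_naturality (T := Over.mk (𝟙 U)) Over.mkIdTerminal ψ (Ext.mk₀ x)
  have h2 : Sheaf.H.map ψ 0 (Ext.mk₀ x) = Ext.mk₀ (x ≫ ψ) := by
    rw [Sheaf.H.map_apply, Ext.mk₀_comp_mk₀]
  rw [h2] at h
  exact h.symm

lemma e2_symm_comp {G G' : Sheaf (J.over U) AddCommGrpCat.{u}}
    (s : G.obj.obj (op (Over.mk (𝟙 U)))) (ψ : G ⟶ G') :
    (e2 J U G).symm s ≫ ψ = (e2 J U G').symm ((ψ.hom.app (op (Over.mk (𝟙 U)))).hom s) := by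
  apply (e2 J U G').injective
  rw [e2_comp, AddEquiv.apply_symm_apply, AddEquiv.apply_symm_apply]

/-- sections over `U` on both sides -/
noncomputable def e (F : Sheaf J AddCommGrpCat.{u}) :
    (fr J U ⟶ F) ≃+ (GB J U ⟶ (restr U J).obj F) :=
  (secAddEquiv J U F).trans (e2 J U ((restr U J).obj F)).symm

lemma e_comp {F F' : Sheaf J AddCommGrpCat.{u}} (f : fr J U ⟶ F) (φ : F ⟶ F') :
    e J U F' (f ≫ φ) = e J U F f ≫ (restr U J).map φ := by
  show (e2 J U ((restr U J).obj F')).symm (secAddEquiv J U F' (f ≫ φ)) =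
    (e2 J U ((restr U J).obj F)).symm (secAddEquiv J U F f) ≫ (restr U J).map φ
  rw [secAddEquiv_comp, e2_symm_comp]
  rfl

theorem nonempty_ext_addEquiv (F : Sheaf J AddCommGrpCat.{u}) (n : ℕ) :
    Nonempty (Ext (fr J U) F n ≃+ Ext (GB J U) ((restr U J).obj F) n) :=
  Groth.Agent.Lib.ExtCompare.nonempty_ext_addEquiv (restr U J) (restr_shortExact U J)
    (fr J U) (GB J U) (e J U) (fun f φ => e_comp J U f φ)
    (fun I hI n ξ => by
      haveI := hI
      exact Ext.eq_zero_of_injective ξ) n F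

theorem main (F : Sheaf J AddCommGrpCat.{u}) (n : ℕ) :
    Nonempty (CohSite.HU F n U ≃+ Sheaf.H.{u} (F.over U) n) :=
  nonempty_ext_addEquiv J U F n

end Groth.Agent.Lib.OverCoh
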