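import Mathlib

set_option autoImplicit false
set_option linter.style.haveILetI false
set_option linter.unusedSectionVars false

universe v₁ v₂ v₃ u₁ u₂ u₃

open CategoryTheory

namespace Groth.Agent.Lib.OverLocH4

variable {C : Type u₁} [Category.{v₁} C] (W : MorphismProperty C) [W.HasRightCalculusOfFractions]
  (S : C)

instance overRightCalculus : (W.inverseImage (Over.forget S)).HasRightCalculusOfFractions where
  exists_rightFraction X Y φ := by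
    obtain ⟨ψ, hψ⟩ := MorphismProperty.HasRightCalculusOfFractions.exists_rightFraction (W := W)
      (MorphismProperty.LeftFraction.mk φ.f.left φ.s.left φ.hs)
    have hψ' : ψ.s ≫ φ.f.left = ψ.f ≫ φ.s.left := hψ
    have hw : ψ.f ≫ Y.hom = ψ.s ≫ X.hom := by
      rw [← Over.w φ.s, ← Category.assoc, ← hψ', Category.assoc, Over.w φ.f]
    refine ⟨MorphismProperty.RightFraction.mk (X' := Over.mk (ψ.s ≫ X.hom))
      (Over.homMk ψ.s rfl) ψ.hs (Over.homMk ψ.f hw), ?_⟩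
    ext
    simpa using hψ'
  ext X Y Y' f₁ f₂ s hs eq := by
    have eq' : f₁.left ≫ s.left = f₂.left ≫ s.left := by
      rw [← Over.comp_left, eq, Over.comp_left]
    obtain ⟨X', t, ht, h⟩ := MorphismProperty.HasRightCalculusOfFractions.ext (W := W) f₁.left f₂.left s.left hs eq'
    refine ⟨Over.mk (t ≫ X.hom), Over.homMk t rfl, ht, ?_⟩
    ext
    simpa using h

variable {D : Type u₂} [Category.{v₂} D] (L : C ⥤ D) [L.IsLocalization W]
  {E : Type u₃} [Category.{v₃} E] (L' : Over S ⥤ E)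
  [L'.IsLocalization (W.inverseImage (Over.forget S))]
  (Φ : E ⥤ Over (L.obj S)) (e : L' ⋙ Φ ≅ Over.post L)

include W L' e in
theorem essSurj : Φ.EssSurj where
  mem_essImage Y := by
    haveI := Localization.essSurj L W
    obtain ⟨ψ, hψ⟩ := Localization.exists_rightFraction L W
      ((L.objObjPreimageIso Y.left).hom ≫ Y.hom)
    haveI : IsIso (L.map ψ.s) := Localization.inverts L W _ ψ.hs
    have h1 : L.map ψ.s ≫ (L.objObjPreimageIso Y.left).hom ≫ Y.hom = L.map ψ.f := by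
      rw [hψ]; exact ψ.map_s_comp_map L _
    obtain ⟨i1, hi1⟩ : ∃ i1 : L.obj ψ.X' ≅ L.obj (L.objPreimage Y.left),
      i1.hom = L.map ψ.s := ⟨asIso (L.map ψ.s), rfl⟩
    refine ⟨L'.obj (Over.mk ψ.f), ⟨e.app (Over.mk ψ.f) ≪≫
      Over.isoMk (i1 ≪≫ L.objObjPreimageIso Y.left) ?_⟩⟩
    show (i1 ≪≫ L.objObjPreimageIso Y.left).hom ≫ Y.hom = L.map ψ.f
    rw [Iso.trans_hom, hi1, Category.assoc]
    exact h1

include W in
lemma key_surj (X Y : Over S) (ψ : (Over.post L).obj X ⟶ (Over.post L).obj Y) :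
    ∃ φ : L'.obj X ⟶ L'.obj Y, e.inv.app X ≫ Φ.map φ ≫ e.hom.app Y = ψ := by
  obtain ⟨ψl, hψl⟩ : ∃ ψl : L.obj X.left ⟶ L.obj Y.left, ψl = ψ.left := ⟨_, rfl⟩
  have hw : ψl ≫ L.map Y.hom = L.map X.hom := by rw [hψl]; exact Over.w ψ
  obtain ⟨ρ, hρ⟩ := Localization.exists_rightFraction L W ψl
  haveI : IsIso (L.map ρ.s) := Localization.inverts L W _ ρ.hs
  have h1 : L.map ρ.s ≫ ψl = L.map ρ.f := by rw [hρ]; exact ρ.map_s_comp_map L _
  have h2 : L.map (ρ.f ≫ Y.hom) = L.map (ρ.s ≫ X.hom) := by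
    rw [L.map_comp, L.map_comp, ← h1, Category.assoc, hw]
  obtain ⟨X'', t, ht, h3⟩ := (MorphismProperty.map_eq_iff_precomp L W _ _).1 h2
  obtain ⟨st, hst⟩ : ∃ st : Over.mk (t ≫ ρ.s ≫ X.hom) ⟶ X, st = Over.homMk (t ≫ ρ.s) (by simp) :=
    ⟨_, rfl⟩
  obtain ⟨gt, hgt⟩ : ∃ gt : Over.mk (t ≫ ρ.s ≫ X.hom) ⟶ Y, gt = Over.homMk (t ≫ ρ.f)
    (by simpa using h3) := ⟨_, rfl⟩
  have hWs : (W.inverseImage (Over.forget S)) st := by
    rw [hst]; exact W.comp_mem _ _ ht ρ.hs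
  haveI : IsIso (L'.map st) := Localization.inverts L' _ _ hWs
  have hpost : ∀ {A B : Over S} (h : A ⟶ B),
      e.inv.app A ≫ Φ.map (L'.map h) ≫ e.hom.app B = (Over.post L).map h :=
    fun h => NatIso.naturality_1 e h
  haveI : IsIso ((Over.post L).map st) := by rw [← hpost st]; infer_instance
  refine ⟨inv (L'.map st) ≫ L'.map gt, ?_⟩
  rw [← cancel_epi ((Over.post L).map st)]
  have lhs : (Over.post L).map st ≫ e.inv.app X ≫ Φ.map (inv (L'.map st) ≫ L'.map gt) ≫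
      e.hom.app Y = (Over.post L).map gt := by
    rw [← hpost st, ← hpost gt]
    simp only [Category.assoc, Iso.hom_inv_id_app_assoc]
    rw [← Φ.map_comp_assoc, IsIso.hom_inv_id_assoc]
  rw [lhs]
  ext
  have hLL : L.map (t ≫ ρ.f) = L.map (t ≫ ρ.s) ≫ ψl := by
    rw [L.map_comp, L.map_comp, Category.assoc, h1]
  subst hst hgt
  show L.map (t ≫ ρ.f) = L.map (t ≫ ρ.s) ≫ ψ.left
  rw [← hψl]; exact hLL

include W L e in
lemma key_inj (X Y : Over S) (φ₁ φ₂ : L'.obj X ⟶ L'.obj Y) (h : Φ.map φ₁ = Φ.map φ₂) :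
    φ₁ = φ₂ := by
  obtain ⟨ρ₁, h₁⟩ := Localization.exists_rightFraction L' (W.inverseImage (Over.forget S)) φ₁
  obtain ⟨ρ₂, h₂⟩ := Localization.exists_rightFraction L' (W.inverseImage (Over.forget S)) φ₂
  obtain ⟨ψ, hψ⟩ := MorphismProperty.HasRightCalculusOfFractions.exists_rightFraction
    (W := W.inverseImage (Over.forget S)) (MorphismProperty.LeftFraction.mk ρ₁.s ρ₂.s ρ₂.hs)
  have hψ' : ψ.s ≫ ρ₁.s = ψ.f ≫ ρ₂.s := hψ
  have hs : (W.inverseImage (Over.forget S)) (ψ.s ≫ ρ₁.s) :=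
    (W.inverseImage (Over.forget S)).comp_mem _ _ ψ.hs ρ₁.hs
  haveI : IsIso (L'.map (ψ.s ≫ ρ₁.s)) := Localization.inverts L' _ _ hs
  have e₁ : L'.map (ψ.s ≫ ρ₁.s) ≫ φ₁ = L'.map (ψ.s ≫ ρ₁.f) := by
    rw [h₁, L'.map_comp, Category.assoc, ρ₁.map_s_comp_map, ← L'.map_comp]
  have e₂ : L'.map (ψ.s ≫ ρ₁.s) ≫ φ₂ = L'.map (ψ.f ≫ ρ₂.f) := by
    rw [hψ', h₂, L'.map_comp, Category.assoc, ρ₂.map_s_comp_map, ← L'.map_comp]
  have e₃ : Φ.map (L'.map (ψ.s ≫ ρ₁.f)) = Φ.map (L'.map (ψ.f ≫ ρ₂.f)) := by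
    rw [← e₁, ← e₂, Φ.map_comp, Φ.map_comp, h]
  have e₄ : (Over.post L).map (ψ.s ≫ ρ₁.f) = (Over.post L).map (ψ.f ≫ ρ₂.f) := by
    rw [← NatIso.naturality_1 e, ← NatIso.naturality_1 e]
    simp only [Functor.comp_map]
    rw [e₃]
  have e₅ : L.map (ψ.s ≫ ρ₁.f).left = L.map (ψ.f ≫ ρ₂.f).left :=
    congrArg CommaMorphism.left e₄
  obtain ⟨Z', t, ht, h5⟩ := (MorphismProperty.map_eq_iff_precomp L W _ _).1 e₅
  obtain ⟨tt, htt⟩ : ∃ tt : Over.mk (t ≫ ψ.X'.hom) ⟶ ψ.X', tt = Over.homMk t rfl := ⟨_, rfl⟩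
  have hWt : (W.inverseImage (Over.forget S)) tt := by rw [htt]; exact ht
  haveI : IsIso (L'.map tt) := Localization.inverts L' _ _ hWt
  have e₆ : tt ≫ (ψ.s ≫ ρ₁.f) = tt ≫ (ψ.f ≫ ρ₂.f) := by
    ext
    simpa [htt] using h5
  have e₇ : L'.map (ψ.s ≫ ρ₁.f) = L'.map (ψ.f ≫ ρ₂.f) := by
    rw [← cancel_epi (L'.map tt), ← L'.map_comp, ← L'.map_comp, e₆]
  rw [← cancel_epi (L'.map (ψ.s ≫ ρ₁.s)), e₁, e₂, e₇]

include W L e in
theorem main : Φ.IsEquivalence := by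
  haveI : L'.EssSurj := Localization.essSurj L' (W.inverseImage (Over.forget S))
  refine { faithful := ⟨?_⟩, full := ⟨?_⟩, essSurj := essSurj W S L L' Φ e }
  · intro A B f g hfg
    have := key_inj W S L L' Φ e (L'.objPreimage A) (L'.objPreimage B)
      ((L'.objObjPreimageIso A).hom ≫ f ≫ (L'.objObjPreimageIso B).inv)
      ((L'.objObjPreimageIso A).hom ≫ g ≫ (L'.objObjPreimageIso B).inv)
      (by simp only [Φ.map_comp, hfg])
    have h2 := (cancel_epi _).1 this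
    exact (cancel_mono _).1 h2
  · intro A B ψ
    obtain ⟨φ, hφ⟩ := key_surj W S L L' Φ e (L'.objPreimage A) (L'.objPreimage B)
      (e.inv.app _ ≫ (Φ.map (L'.objObjPreimageIso A).hom ≫ ψ ≫
        Φ.map (L'.objObjPreimageIso B).inv) ≫ e.hom.app _)
    have h2 := (cancel_epi _).1 hφ
    have h3 : Φ.map φ = Φ.map (L'.objObjPreimageIso A).hom ≫ ψ ≫
        Φ.map (L'.objObjPreimageIso B).inv := (cancel_mono _).1 h2
    refine ⟨(L'.objObjPreimageIso A).inv ≫ φ ≫ (L'.objObjPreimageIso B).hom, ?_⟩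
    rw [Φ.map_comp, Φ.map_comp, h3]
    simp only [Category.assoc, ← Φ.map_comp, Iso.inv_hom_id, Φ.map_id, Category.comp_id]
    rw [← Φ.map_comp_assoc, Iso.inv_hom_id, Φ.map_id, Category.id_comp]

end Groth.Agent.Lib.OverLocH4
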