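import Mathlib
import Groth.Prelude.Def_CohCx
import Groth.Agent.Lib.PushTot_helper2
import Groth.Agent.Lib.OverShriek_helper2
import Groth.Agent.Lib.ExtCompare_helper2

/-!
# Restriction of totally acyclic sheaves to a localized site
-/

set_option autoImplicit false
universe u
open CategoryTheory Limits Opposite Abelian

namespace Groth.Agent.Lib.OverTot
open Groth.Agent.Lib.CechAcyc Groth.Agent.Lib.CechTot Groth.Agent.Lib.PushTot
  Groth.Agent.Lib.OverShriek

/-- precomposition with an isomorphism, as an additive equivalence -/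
def precompAddEquiv {𝒜 : Type*} [Category 𝒜] [Preadditive 𝒜] {X Y : 𝒜} (i : X ≅ Y) (F : 𝒜) :
    (Y ⟶ F) ≃+ (X ⟶ F) where
  toFun f := i.hom ≫ f
  invFun g := i.inv ≫ g
  left_inv f := by simp
  right_inv g := by simp
  map_add' f g := by simp

section General

variable {C D : Type u} [SmallCategory C] [SmallCategory D] (J : GrothendieckTopology C)
  (K : GrothendieckTopology D) (u : D ⥤ C) [u.IsContinuous K J]

/-- `Hom(ℤ[u^* L], F) ≃+ Hom(ℤ[L], u_* F)` -/
noncomputable def e (L : Sheaf K (Type u)) (F : Sheaf J AddCommGrpCat.{u}) :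
    ((G (J := J)).obj ((pullS J K u).obj L) ⟶ F) ≃+
      ((G (J := K)).obj L ⟶ (CohSite.push J K u).obj F) :=
  (precompAddEquiv ((α J K u).app L) F).trans
    ((u.sheafAdjunctionContinuous AddCommGrpCat.{u} K J).homAddEquiv ((G (J := K)).obj L) F)

lemma e_comp (L : Sheaf K (Type u)) {F F' : Sheaf J AddCommGrpCat.{u}}
    (f : (G (J := J)).obj ((pullS J K u).obj L) ⟶ F) (φ : F ⟶ F') :
    e J K u L F' (f ≫ φ) = e J K u L F f ≫ (CohSite.push J K u).map φ := by
  change (u.sheafAdjunctionContinuous AddCommGrpCat.{u} K J).homEquiv _ _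
      (((α J K u).app L).hom ≫ f ≫ φ) =
    (u.sheafAdjunctionContinuous AddCommGrpCat.{u} K J).homEquiv _ _
      (((α J K u).app L).hom ≫ f) ≫ _
  rw [← Category.assoc, Adjunction.homEquiv_naturality_right]

/-- if `u_*` is exact and preserves injectives, it preserves totally acyclic sheaves -/
theorem push_totallyAcyclic_of_exact
    (hΦ : ∀ S : ShortComplex (Sheaf J AddCommGrpCat.{u}), S.ShortExact →
      (S.map (CohSite.push J K u)).ShortExact)
    (hinj : ∀ I : Sheaf J AddCommGrpCat.{u}, Injective I →
      Injective ((CohSite.push J K u).obj I))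
    (F : Sheaf J AddCommGrpCat.{u}) (hF : CohCx.IsTotallyAcyclic F) :
    CohCx.IsTotallyAcyclic ((CohSite.push J K u).obj F) := by
  intro L p
  obtain ⟨e1⟩ := Groth.Agent.Lib.ExtCompare.nonempty_ext_addEquiv (CohSite.push J K u) hΦ
    ((G (J := J)).obj ((pullS J K u).obj L)) ((G (J := K)).obj L) (e J K u L)
    (fun f φ => e_comp J K u L f φ)
    (fun I hI n ξ => by
      haveI := hinj I hI
      exact Ext.eq_zero_of_injective ξ) (p + 1) F
  haveI : Subsingleton (Ext ((G (J := J)).obj ((pullS J K u).obj L)) F (p + 1)) :=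
    hF ((pullS J K u).obj L) p
  exact e1.symm.toEquiv.subsingleton

end General

/-- S3094 -/
theorem over_totallyAcyclic {C : Type u} [SmallCategory C] (J : GrothendieckTopology C) (X : C)
    (F : Sheaf J AddCommGrpCat.{u}) (hF : CohCx.IsTotallyAcyclic F) :
    CohCx.IsTotallyAcyclic
      (((Over.forget X).sheafPushforwardContinuous AddCommGrpCat.{u} (J.over X) J).obj F) :=
  push_totallyAcyclic_of_exact J (J.over X) (Over.forget X)
    (fun S hS => restr_shortExact X J S hS)
    (fun I hI => by
      haveI := hI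
      exact restr_injective X J I) F hF

end Groth.Agent.Lib.OverTot
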