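import Mathlib
import Groth.Prelude
import Groth.Agent.Lib.Dehom_helper4

/-!
# Clopen subsets of `P^1_S` are unions of fibres; finite flat covers of `P^1_S` (helper4).
APPEND-ONLY once landed.
-/

set_option autoImplicit false
set_option linter.style.haveILetI false
set_option linter.unusedVariables false

universe u

open CategoryTheory CategoryTheory.Limits AlgebraicGeometry TopologicalSpace Opposite

namespace Groth.Agent.Lib.P1ConnH4

open Groth.Agent.Lib

abbrev R0 : Type u := P1.R0.{u}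
abbrev MP : Type u := MvPolynomial (Fin (1 + 1)) R0.{u}
abbrev Aw (i : Fin (1 + 1)) : Type u :=
  HomogeneousLocalization.Away (CohB1.polyGrading 1 R0.{u}) (MvPolynomial.X i : MP.{u})

theorem ulift_int_hom_ext {B : Type*} [Semiring B] (f g : ULift.{u} ℤ →+* B) : f = g := by
  have h := RingHom.ext_int (f.comp (ULift.ringEquiv.symm : ℤ ≃+* ULift.{u} ℤ).toRingHom)
    (g.comp (ULift.ringEquiv.symm : ℤ ≃+* ULift.{u} ℤ).toRingHom)
  refine RingHom.ext (fun x => ?_)
  have h2 := DFunLike.congr_fun h (ULift.ringEquiv x)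
  have e : (ULift.ringEquiv.symm : ℤ ≃+* ULift.{u} ℤ) (ULift.ringEquiv x) = x :=
    RingEquiv.symm_apply_apply _ x
  have h3 : f ((ULift.ringEquiv.symm : ℤ ≃+* ULift.{u} ℤ) (ULift.ringEquiv x)) =
      g ((ULift.ringEquiv.symm : ℤ ≃+* ULift.{u} ℤ) (ULift.ringEquiv x)) := h2
  rw [e] at h3
  exact h3

section Ring

variable {B : Type u} [CommRing B] (i : Fin (1 + 1)) (G : MP.{u} →+* B)
  (hG : IsUnit (G (MvPolynomial.X i)))

theorem lift_u (hG1 : G (MvPolynomial.X i) = 1) :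
    (IsLocalization.Away.lift (S := Localization.Away (MvPolynomial.X i : MP.{u}))
      (MvPolynomial.X i : MP.{u}) (g := G) hG) (DehomH4.u 1 R0.{u} i) = 1 := by
  have h := congrArg (IsLocalization.Away.lift (S := Localization.Away (MvPolynomial.X i : MP.{u}))
      (MvPolynomial.X i : MP.{u}) (g := G) hG) (DehomH4.X_mul_u 1 R0.{u} i)
  rw [map_mul, map_one] at h
  have h2 := IsLocalization.Away.lift_eq (S := Localization.Away (MvPolynomial.X i : MP.{u}))
      (MvPolynomial.X i : MP.{u}) hG (MvPolynomial.X i)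
  rw [h2, hG1, one_mul] at h
  exact h

theorem lift_val_Φ_X (hG1 : G (MvPolynomial.X i) = 1) (j : {j : Fin (1 + 1) // j ≠ i}) :
    (IsLocalization.Away.lift (S := Localization.Away (MvPolynomial.X i : MP.{u}))
      (MvPolynomial.X i : MP.{u}) (g := G) hG) ((DehomH4.Φ 1 R0.{u} i (MvPolynomial.X j)).val) =
      G (MvPolynomial.X j.1) := by
  rw [DehomH4.val_Φ_X, map_mul, lift_u i G hG hG1, mul_one]
  exact IsLocalization.Away.lift_eq (S := Localization.Away (MvPolynomial.X i : MP.{u}))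
      (MvPolynomial.X i : MP.{u}) hG (MvPolynomial.X j.1)

theorem lift_mk (hG1 : G (MvPolynomial.X i) = 1) (a : MP.{u}) (n : ℕ)
    (hs : (MvPolynomial.X i : MP.{u}) ^ n ∈ Submonoid.powers (MvPolynomial.X i : MP.{u})) :
    (IsLocalization.Away.lift (S := Localization.Away (MvPolynomial.X i : MP.{u}))
      (MvPolynomial.X i : MP.{u}) (g := G) hG)
      (Localization.mk a ⟨(MvPolynomial.X i : MP.{u}) ^ n, hs⟩) = G a := by
  have e1 := DehomH4.mk_eq 1 R0.{u} i a ⟨(MvPolynomial.X i : MP.{u}) ^ n, hs⟩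
  have e2 : algebraMap MP.{u} (DehomH4.Loc 1 R0.{u} i) ((MvPolynomial.X i : MP.{u}) ^ n) *
      Localization.mk 1 ⟨(MvPolynomial.X i : MP.{u}) ^ n, hs⟩ = 1 := by
    rw [← DehomH4.mk_eq 1 R0.{u} i ((MvPolynomial.X i : MP.{u}) ^ n)
      ⟨(MvPolynomial.X i : MP.{u}) ^ n, hs⟩]
    exact Localization.mk_self (⟨(MvPolynomial.X i : MP.{u}) ^ n, hs⟩ :
      Submonoid.powers (MvPolynomial.X i : MP.{u}))
  have h := congrArg (IsLocalization.Away.lift (S := Localization.Away (MvPolynomial.X i : MP.{u}))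
      (MvPolynomial.X i : MP.{u}) (g := G) hG) e2
  have h2 := IsLocalization.Away.lift_eq (S := Localization.Away (MvPolynomial.X i : MP.{u}))
      (MvPolynomial.X i : MP.{u}) hG ((MvPolynomial.X i : MP.{u}) ^ n)
  rw [map_mul, map_one, h2, map_pow, hG1, one_pow, one_mul] at h
  rw [e1, map_mul, h, mul_one]
  exact IsLocalization.Away.lift_eq (S := Localization.Away (MvPolynomial.X i : MP.{u}))
      (MvPolynomial.X i : MP.{u}) hG a

end Ring

section Chart

variable (i : Fin (1 + 1)) (B : Type u) [CommRing B] (b : B)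

noncomputable abbrev Gc : MP.{u} →+* B :=
  MvPolynomial.eval₂Hom ((Int.castRingHom B).comp ULift.ringEquiv.toRingHom)
    (Function.update (fun _ => b) i 1)

theorem Gc_X_self : Gc.{u} i B b (MvPolynomial.X i) = 1 := by
  rw [MvPolynomial.eval₂Hom_X', Function.update_self]

theorem Gc_X_ne (j : Fin (1 + 1)) (h : j ≠ i) : Gc.{u} i B b (MvPolynomial.X j) = b := by
  rw [MvPolynomial.eval₂Hom_X', Function.update_of_ne h]

theorem chartMap_apply (hG : IsUnit (Gc.{u} i B b (MvPolynomial.X i))) (x : Aw.{u} i) :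
    P1.chartMap i B b x =
      (IsLocalization.Away.lift (S := Localization.Away (MvPolynomial.X i : MP.{u}))
        (MvPolynomial.X i : MP.{u}) (g := Gc.{u} i B b) hG) x.val := rfl

theorem chartMap_Φ_X (j : {j : Fin (1 + 1) // j ≠ i}) :
    P1.chartMap i B b (DehomH4.Φ 1 R0.{u} i (MvPolynomial.X j)) = b := by
  have hG1 := Gc_X_self.{u} i B b
  have hG : IsUnit (Gc.{u} i B b (MvPolynomial.X i)) := by rw [hG1]; exact isUnit_one
  rw [chartMap_apply i B b hG, lift_val_Φ_X i _ hG hG1 j, Gc_X_ne i B b j.1 j.2]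

noncomputable abbrev Ge : MP.{u} →+* R0.{u} :=
  (MvPolynomial.aeval (Pi.single i (1 : R0.{u}) : Fin (1 + 1) → R0.{u})).toRingHom

theorem Ge_X_self : Ge.{u} i (MvPolynomial.X i) = 1 := by
  show (MvPolynomial.aeval (Pi.single i (1 : R0.{u}) : Fin (1 + 1) → R0.{u})) (MvPolynomial.X i) = 1
  rw [MvPolynomial.aeval_X, Pi.single_eq_same]

theorem Ge_X_ne (j : Fin (1 + 1)) (h : j ≠ i) : Ge.{u} i (MvPolynomial.X j) = 0 := by
  show (MvPolynomial.aeval (Pi.single i (1 : R0.{u}) : Fin (1 + 1) → R0.{u})) (MvPolynomial.X j) = 0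
  rw [MvPolynomial.aeval_X, Pi.single_eq_of_ne h]

theorem evalAway_apply (hG : IsUnit (Ge.{u} i (MvPolynomial.X i))) (x : Aw.{u} i) :
    P1.evalAway i x =
      (IsLocalization.Away.lift (S := Localization.Away (MvPolynomial.X i : MP.{u}))
        (MvPolynomial.X i : MP.{u}) (g := Ge.{u} i) hG) x.val := rfl

theorem evalAway_Φ_X (j : {j : Fin (1 + 1) // j ≠ i}) :
    P1.evalAway i (DehomH4.Φ 1 R0.{u} i (MvPolynomial.X j)) = 0 := by
  have hG1 := Ge_X_self.{u} i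
  have hG : IsUnit (Ge.{u} i (MvPolynomial.X i)) := by rw [hG1]; exact isUnit_one
  rw [evalAway_apply i hG, lift_val_Φ_X i _ hG hG1 j, Ge_X_ne i j.1 j.2]

variable {B}

theorem ringHom_ext_away (φ φ' : Aw.{u} i →+* B)
    (h : ∀ j : {j : Fin (1 + 1) // j ≠ i},
      φ (DehomH4.Φ 1 R0.{u} i (MvPolynomial.X j)) = φ' (DehomH4.Φ 1 R0.{u} i (MvPolynomial.X j))) :
    φ = φ' := by
  have h1 : φ.comp (DehomH4.Φ 1 R0.{u} i) = φ'.comp (DehomH4.Φ 1 R0.{u} i) := by
    refine MvPolynomial.ringHom_ext (fun r => ?_) (fun j => h j)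
    exact DFunLike.congr_fun (ulift_int_hom_ext.{u}
      ((φ.comp (DehomH4.Φ 1 R0.{u} i)).comp MvPolynomial.C)
      ((φ'.comp (DehomH4.Φ 1 R0.{u} i)).comp MvPolynomial.C)) r
  refine RingHom.ext (fun x => ?_)
  obtain ⟨p, rfl⟩ := DehomH4.surj 1 R0.{u} i x
  exact DFunLike.congr_fun h1 p

def other : {j : Fin (1 + 1) // j ≠ i} :=
  ⟨if i = 0 then 1 else 0, by
    by_cases h : i = 0
    · rw [if_pos h, h]; decide
    · rw [if_neg h]; exact fun h' => h h'.symm⟩

theorem eq_other (j : {j : Fin (1 + 1) // j ≠ i}) : j = other i := by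
  apply Subtype.ext
  have h1 := j.2
  have h2 := (other i).2
  have a1 := j.1.isLt
  have a2 := (other i).1.isLt
  have a3 := i.isLt
  rw [Ne, Fin.ext_iff] at h1 h2
  apply Fin.ext
  omega

theorem eq_chartMap (ψ : Aw.{u} i →+* B) :
    ψ = P1.chartMap i B (ψ (DehomH4.Φ 1 R0.{u} i (MvPolynomial.X (other i)))) := by
  refine ringHom_ext_away i _ _ (fun j => ?_)
  rw [chartMap_Φ_X, eq_other i j]

theorem chartMap_nat {B' : Type u} [CommRing B'] (e : B →+* B') (b : B) :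
    e.comp (P1.chartMap i B b) = P1.chartMap i B' (e b) := by
  refine ringHom_ext_away i _ _ (fun j => ?_)
  rw [RingHom.comp_apply, chartMap_Φ_X, chartMap_Φ_X]

theorem chartMap_zero (ιB : R0.{u} →+* B) :
    P1.chartMap i B 0 = ιB.comp (P1.evalAway i) := by
  refine ringHom_ext_away i _ _ (fun j => ?_)
  rw [RingHom.comp_apply, chartMap_Φ_X, evalAway_Φ_X, map_zero]

theorem chartMap_locElem (B : Type u) [CommRing B] :
    P1.chartMap 0 B 1 (HomogeneousLocalization.Away.isLocalizationElem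
      (𝒜 := P1.grading.{u}) (P1.X_mem.{u} 0) (P1.X_mem.{u} 1)) = 1 := by
  have hG1 := Gc_X_self.{u} 0 B 1
  have hG : IsUnit (Gc.{u} 0 B 1 (MvPolynomial.X 0)) := by rw [hG1]; exact isUnit_one
  rw [chartMap_apply 0 B 1 hG]
  refine (lift_mk 0 _ hG hG1 ((MvPolynomial.X 1 : MP.{u}) ^ 1) 1 _).trans ?_
  rw [map_pow, Gc_X_ne 0 B 1 1 (by decide), one_pow]

end Chart

section Sch

variable (S : Scheme.{u})

noncomputable abbrev aι (i : Fin (1 + 1)) :
    Spec (CommRingCat.of (Aw.{u} i)) ⟶ Proj P1.grading.{u} :=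
  Proj.awayι P1.grading.{u} (P1.T.{u} i) (P1.X_mem.{u} i) one_pos

noncomputable def pr₁ : CohB1.ProjSpaceOver 1 S ⟶ Proj P1.grading.{u} :=
  pullback.fst (CohB1.ProjSpace.toSpec 1 R0.{u}) (specULiftZIsTerminal.from S)

noncomputable def prS : CohB1.ProjSpaceOver 1 S ⟶ S :=
  pullback.snd (CohB1.ProjSpace.toSpec 1 R0.{u}) (specULiftZIsTerminal.from S)

theorem P_hom_ext {Y : Scheme.{u}} (f g : Y ⟶ CohB1.ProjSpaceOver 1 S)
    (h1 : f ≫ pr₁ S = g ≫ pr₁ S) (h2 : f ≫ prS S = g ≫ prS S) : f = g :=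
  pullback.hom_ext h1 h2

noncomputable def pt (i : Fin (1 + 1)) {B : Type u} [CommRing B]
    (τ : Spec (CommRingCat.of B) ⟶ S) (b : B) :
    Spec (CommRingCat.of B) ⟶ CohB1.ProjSpaceOver 1 S :=
  pullback.lift (f := CohB1.ProjSpace.toSpec 1 R0.{u}) (g := specULiftZIsTerminal.from S)
    (Spec.map (CommRingCat.ofHom (P1.chartMap i B b)) ≫ aι.{u} i) τ
    (specULiftZIsTerminal.hom_ext _ _)

theorem pt_fst (i : Fin (1 + 1)) {B : Type u} [CommRing B]
    (τ : Spec (CommRingCat.of B) ⟶ S) (b : B) :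
    pt S i τ b ≫ pr₁ S = Spec.map (CommRingCat.ofHom (P1.chartMap i B b)) ≫ aι.{u} i :=
  pullback.lift_fst _ _ _

theorem pt_snd (i : Fin (1 + 1)) {B : Type u} [CommRing B]
    (τ : Spec (CommRingCat.of B) ⟶ S) (b : B) :
    pt S i τ b ≫ prS S = τ :=
  pullback.lift_snd _ _ _

theorem pt_congr (i : Fin (1 + 1)) {B : Type u} [CommRing B]
    {τ τ' : Spec (CommRingCat.of B) ⟶ S} {b b' : B} (hτ : τ = τ') (hb : b = b') :
    pt S i τ b = pt S i τ' b' := by
  rw [hτ, hb]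

theorem map_pt (i : Fin (1 + 1)) {B B' : Type u} [CommRing B] [CommRing B'] (e : B →+* B')
    (τ : Spec (CommRingCat.of B) ⟶ S) (b : B) :
    Spec.map (CommRingCat.ofHom e) ≫ pt S i τ b =
      pt S i (Spec.map (CommRingCat.ofHom e) ≫ τ) (e b) := by
  refine P_hom_ext S _ _ ?_ ?_
  · have h : Spec.map (CommRingCat.ofHom e) ≫ Spec.map (CommRingCat.ofHom (P1.chartMap i B b)) =
        Spec.map (CommRingCat.ofHom (P1.chartMap i B' (e b))) := by
      rw [← Spec.map_comp, ← CommRingCat.ofHom_comp, chartMap_nat]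
    rw [Category.assoc, pt_fst, pt_fst, ← Category.assoc, h]
  · rw [Category.assoc, pt_snd, pt_snd]

theorem sect_eq (i : Fin (1 + 1)) {B : Type u} [CommRing B]
    (τ : Spec (CommRingCat.of B) ⟶ S) : τ ≫ P1.sect S i = pt S i τ 0 := by
  refine P_hom_ext S _ _ ?_ ?_
  · have h1 : P1.sect S i ≫ pr₁ S =
        specULiftZIsTerminal.from S ≫
          (Spec.map (CommRingCat.ofHom (P1.evalAway.{u} i)) ≫ aι.{u} i) :=
      pullback.lift_fst _ _ _
    have h2 : τ ≫ specULiftZIsTerminal.from S =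
        Spec.map (CommRingCat.ofHom ((Int.castRingHom B).comp
          (ULift.ringEquiv : ULift.{u} ℤ ≃+* ℤ).toRingHom)) :=
      specULiftZIsTerminal.hom_ext _ _
    have h3 : Spec.map (CommRingCat.ofHom ((Int.castRingHom B).comp
          (ULift.ringEquiv : ULift.{u} ℤ ≃+* ℤ).toRingHom)) ≫
        Spec.map (CommRingCat.ofHom (P1.evalAway.{u} i)) =
        Spec.map (CommRingCat.ofHom (P1.chartMap i B 0)) := by
      rw [← Spec.map_comp, ← CommRingCat.ofHom_comp, ← chartMap_zero i]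
    rw [Category.assoc, h1, ← Category.assoc, h2, ← Category.assoc, h3, pt_fst]
  · have h1 : P1.sect S i ≫ prS S = 𝟙 S := pullback.lift_snd _ _ _
    rw [Category.assoc, h1, Category.comp_id, pt_snd]

theorem exists_pt (i : Fin (1 + 1)) {K : Type u} [Field K]
    (ι : Spec (CommRingCat.of K) ⟶ CohB1.ProjSpaceOver 1 S)
    (hι : ∀ y, (pr₁ S) (ι y) ∈ Proj.basicOpen P1.grading.{u} (P1.T.{u} i)) :
    ∃ c : K, ι = pt S i (ι ≫ prS S) c := by
  have H : Set.range (ι ≫ pr₁ S) ⊆ Set.range (aι.{u} i) := by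
    rintro _ ⟨y, rfl⟩
    have h1 := hι y
    rw [← Proj.opensRange_awayι P1.grading.{u} (P1.T.{u} i) (P1.X_mem.{u} i) one_pos] at h1
    exact h1
  have hl : IsOpenImmersion.lift (aι.{u} i) (ι ≫ pr₁ S) H ≫ aι.{u} i = ι ≫ pr₁ S :=
    IsOpenImmersion.lift_fac _ _ H
  have hψ : Spec.map (CommRingCat.ofHom
      (Spec.preimage (IsOpenImmersion.lift (aι.{u} i) (ι ≫ pr₁ S) H)).hom) =
      IsOpenImmersion.lift (aι.{u} i) (ι ≫ pr₁ S) H := by
    rw [CommRingCat.ofHom_hom, Spec.map_preimage]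
  refine ⟨(Spec.preimage (IsOpenImmersion.lift (aι.{u} i) (ι ≫ pr₁ S) H)).hom
    (DehomH4.Φ 1 R0.{u} i (MvPolynomial.X (other i))), ?_⟩
  refine P_hom_ext S _ _ ?_ ?_
  · rw [pt_fst, ← eq_chartMap i
      (Spec.preimage (IsOpenImmersion.lift (aι.{u} i) (ι ≫ pr₁ S) H)).hom, hψ, hl]
  · rw [pt_snd]

theorem path_aux (Z : Set (CohB1.ProjSpaceOver 1 S)) (hZ : IsClopen Z) {K : Type u} [Field K]
    (γ : Spec (CommRingCat.of (Polynomial K)) ⟶ CohB1.ProjSpaceOver 1 S)
    (x₁ x₀ : Spec (CommRingCat.of (Polynomial K))) (h1 : γ x₁ ∈ Z) : γ x₀ ∈ Z := by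
  haveI : IrreducibleSpace (Spec (CommRingCat.of (Polynomial K))) :=
    inferInstanceAs (IrreducibleSpace (PrimeSpectrum (Polynomial K)))
  have hcl : IsClopen (γ ⁻¹' Z) := hZ.preimage γ.continuous
  rcases isClopen_iff.mp hcl with he | hu
  · exfalso
    have hx1 : x₁ ∈ γ ⁻¹' Z := h1
    rw [he] at hx1
    exact hx1
  · have hx0 : x₀ ∈ γ ⁻¹' Z := by rw [hu]; trivial
    exact hx0

theorem claimA (i : Fin (1 + 1)) (Z : Set (CohB1.ProjSpaceOver 1 S)) (hZ : IsClopen Z)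
    {K : Type u} [Field K] (ι : Spec (CommRingCat.of K) ⟶ CohB1.ProjSpaceOver 1 S)
    (hι : ∀ y, (pr₁ S) (ι y) ∈ Proj.basicOpen P1.grading.{u} (P1.T.{u} i))
    (y₀ : Spec (CommRingCat.of K)) (hy : ι y₀ ∈ Z) :
    (P1.sect S i) ((prS S) (ι y₀)) ∈ Z := by
  obtain ⟨c, hc⟩ := exists_pt S i ι hι
  have hid : ∀ a : K, Spec.map (CommRingCat.ofHom (Polynomial.evalRingHom a)) ≫
      Spec.map (CommRingCat.ofHom (Polynomial.C : K →+* Polynomial K)) = 𝟙 _ := by
    intro a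
    have h : (Polynomial.evalRingHom a).comp (Polynomial.C : K →+* Polynomial K) =
        RingHom.id K := by
      ext x; simp
    rw [← Spec.map_comp, ← CommRingCat.ofHom_comp, h, CommRingCat.ofHom_id, Spec.map_id]
  have h1 : Spec.map (CommRingCat.ofHom (Polynomial.evalRingHom (1 : K))) ≫
      pt S i (Spec.map (CommRingCat.ofHom (Polynomial.C : K →+* Polynomial K)) ≫ (ι ≫ prS S))
        (Polynomial.X * Polynomial.C c) = ι := by
    rw [map_pt]
    refine (pt_congr S i ?_ ?_).trans hc.symm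
    · rw [← Category.assoc, hid 1, Category.id_comp]
    · simp
  have h0 : Spec.map (CommRingCat.ofHom (Polynomial.evalRingHom (0 : K))) ≫
      pt S i (Spec.map (CommRingCat.ofHom (Polynomial.C : K →+* Polynomial K)) ≫ (ι ≫ prS S))
        (Polynomial.X * Polynomial.C c) = (ι ≫ prS S) ≫ P1.sect S i := by
    rw [map_pt, sect_eq]
    refine pt_congr S i ?_ ?_
    · rw [← Category.assoc, hid 0, Category.id_comp]
    · simp
  have e1 := congrArg (fun f : Spec (CommRingCat.of K) ⟶ CohB1.ProjSpaceOver 1 S => f y₀) h1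
  have e0 := congrArg (fun f : Spec (CommRingCat.of K) ⟶ CohB1.ProjSpaceOver 1 S => f y₀) h0
  have k1 : (pt S i (Spec.map (CommRingCat.ofHom (Polynomial.C : K →+* Polynomial K)) ≫
      (ι ≫ prS S)) (Polynomial.X * Polynomial.C c))
      ((Spec.map (CommRingCat.ofHom (Polynomial.evalRingHom (1 : K)))) y₀) ∈ Z := by
    have e1' : (pt S i (Spec.map (CommRingCat.ofHom (Polynomial.C : K →+* Polynomial K)) ≫
      (ι ≫ prS S)) (Polynomial.X * Polynomial.C c))
      ((Spec.map (CommRingCat.ofHom (Polynomial.evalRingHom (1 : K)))) y₀) = ι y₀ := e1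
    rw [e1']
    exact hy
  have k0 := path_aux S Z hZ _ _
    ((Spec.map (CommRingCat.ofHom (Polynomial.evalRingHom (0 : K)))) y₀) k1
  have e0' : (pt S i (Spec.map (CommRingCat.ofHom (Polynomial.C : K →+* Polynomial K)) ≫
      (ι ≫ prS S)) (Polynomial.X * Polynomial.C c))
      ((Spec.map (CommRingCat.ofHom (Polynomial.evalRingHom (0 : K)))) y₀) =
      (P1.sect S i) ((prS S) (ι y₀)) := e0
  rw [← e0']
  exact k0

theorem claimA_iff (i : Fin (1 + 1)) (Z : Set (CohB1.ProjSpaceOver 1 S)) (hZ : IsClopen Z)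
    {K : Type u} [Field K] (ι : Spec (CommRingCat.of K) ⟶ CohB1.ProjSpaceOver 1 S)
    (hι : ∀ y, (pr₁ S) (ι y) ∈ Proj.basicOpen P1.grading.{u} (P1.T.{u} i))
    (y₀ : Spec (CommRingCat.of K)) :
    ι y₀ ∈ Z ↔ (P1.sect S i) ((prS S) (ι y₀)) ∈ Z := by
  constructor
  · exact claimA S i Z hZ ι hι y₀
  · intro h
    by_contra hn
    exact claimA S i Zᶜ hZ.compl ι hι y₀ hn h

theorem claimB_gen (Z : Set (CohB1.ProjSpaceOver 1 S)) (hZ : IsClopen Z)
    {K : Type u} [Field K] (τ : Spec (CommRingCat.of K) ⟶ S) (y₀ : Spec (CommRingCat.of K)) :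
    (P1.sect S 0) (τ y₀) ∈ Z ↔ (P1.sect S 1) (τ y₀) ∈ Z := by
  have hfst : ∀ y, (pr₁ S) ((pt S 0 τ (1 : K)) y) =
      (aι.{u} 0) ((Spec.map (CommRingCat.ofHom (P1.chartMap 0 K 1))) y) := fun y =>
    congrArg (fun f : Spec (CommRingCat.of K) ⟶ Proj P1.grading.{u} => f y) (pt_fst S 0 τ (1 : K))
  have hsnd : (prS S) ((pt S 0 τ (1 : K)) y₀) = τ y₀ :=
    congrArg (fun f : Spec (CommRingCat.of K) ⟶ S => f y₀) (pt_snd S 0 τ (1 : K))
  have hι0 : ∀ y, (pr₁ S) ((pt S 0 τ (1 : K)) y) ∈ Proj.basicOpen P1.grading.{u} (P1.T.{u} 0) := by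
    intro y
    rw [hfst y, ← Proj.opensRange_awayι P1.grading.{u} (P1.T.{u} 0) (P1.X_mem.{u} 0) one_pos]
    exact ⟨_, rfl⟩
  have hι1 : ∀ y, (pr₁ S) ((pt S 0 τ (1 : K)) y) ∈ Proj.basicOpen P1.grading.{u} (P1.T.{u} 1) := by
    intro y
    rw [hfst y]
    have hmem : (Spec.map (CommRingCat.ofHom (P1.chartMap 0 K 1))) y ∈
        (aι.{u} 0) ⁻¹ᵁ Proj.basicOpen P1.grading.{u} (P1.T.{u} 1) := by
      rw [Proj.awayι_preimage_basicOpen P1.grading.{u} (P1.X_mem.{u} 0) one_pos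
        (P1.X_mem.{u} 1) one_pos]
      intro hmem
      have h2 : P1.chartMap 0 K 1 (HomogeneousLocalization.Away.isLocalizationElem
          (𝒜 := P1.grading.{u}) (P1.X_mem.{u} 0) (P1.X_mem.{u} 1)) ∈ y.asIdeal := hmem
      rw [chartMap_locElem] at h2
      exact y.isPrime.ne_top ((Ideal.eq_top_iff_one _).mpr h2)
    exact hmem
  have A0 := claimA_iff S 0 Z hZ (pt S 0 τ (1 : K)) hι0 y₀
  have A1 := claimA_iff S 1 Z hZ (pt S 0 τ (1 : K)) hι1 y₀
  rw [hsnd] at A0 A1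
  exact A0.symm.trans A1

theorem claimB (Z : Set (CohB1.ProjSpaceOver 1 S)) (hZ : IsClopen Z) (s : S) :
    (P1.sect S 0) s ∈ Z ↔ (P1.sect S 1) s ∈ Z := by
  have key := claimB_gen S Z hZ (K := (S.residueField s)) (S.fromSpecResidueField s)
    (show PrimeSpectrum (S.residueField s) from ⟨⊥, Ideal.bot_prime⟩)
  have e : (S.fromSpecResidueField s)
      (show PrimeSpectrum (S.residueField s) from ⟨⊥, Ideal.bot_prime⟩) = s :=
    Scheme.fromSpecResidueField_apply s _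
  rw [e] at key
  exact key

theorem claimA_res (i : Fin (1 + 1)) (Z : Set (CohB1.ProjSpaceOver 1 S)) (hZ : IsClopen Z)
    (q : CohB1.ProjSpaceOver 1 S)
    (hi : (pr₁ S) q ∈ Proj.basicOpen P1.grading.{u} (P1.T.{u} i)) (hq : q ∈ Z) :
    (P1.sect S i) ((prS S) q) ∈ Z := by
  have e : ∀ y, ((CohB1.ProjSpaceOver 1 S).fromSpecResidueField q) y = q := fun y =>
    Scheme.fromSpecResidueField_apply q y
  have key := claimA S i Z hZ (K := ((CohB1.ProjSpaceOver 1 S).residueField q))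
    ((CohB1.ProjSpaceOver 1 S).fromSpecResidueField q)
    (fun y => by rw [e y]; exact hi)
    (show PrimeSpectrum ((CohB1.ProjSpaceOver 1 S).residueField q) from ⟨⊥, Ideal.bot_prime⟩)
    (by rw [e]; exact hq)
  rw [e] at key
  exact key

theorem sect0_mem (Z : Set (CohB1.ProjSpaceOver 1 S)) (hZ : IsClopen Z)
    (q : CohB1.ProjSpaceOver 1 S) (hq : q ∈ Z) : (P1.sect S 0) ((prS S) q) ∈ Z := by
  have hcov := DehomH4.cover 1 R0.{u}
  have hq' : (pr₁ S) q ∈ (⨆ i : Fin (1 + 1),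
      Proj.basicOpen (CohB1.polyGrading 1 R0.{u}) (MvPolynomial.X i)) := by
    rw [hcov]; trivial
  obtain ⟨i, hi⟩ := TopologicalSpace.Opens.mem_iSup.mp hq'
  have hA := claimA_res S i Z hZ q hi hq
  by_cases h0 : i = 0
  · rw [h0] at hA
    exact hA
  · have h1 : i = 1 := Fin.eq_one_of_ne_zero i h0
    rw [h1] at hA
    exact (claimB S Z hZ ((prS S) q)).mpr hA

theorem clopen_univ (X : Scheme.{u}) (g : X ⟶ CohB1.ProjSpaceOver 1 S) [IsFinite g] [Flat g]
    [LocallyOfFinitePresentation g] (W : Set X) (hW : IsClopen W)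
    (h0 : ∀ x : X, g x ∈ Set.range (P1.sect S 0) → x ∈ W) : W = Set.univ := by
  by_contra hne
  obtain ⟨x, hx⟩ := (Set.ne_univ_iff_exists_notMem W).mp hne
  have hZ : IsClopen (g '' Wᶜ) :=
    ⟨g.isClosedMap _ hW.compl.isClosed, g.isOpenMap _ hW.compl.isOpen⟩
  have hq : g x ∈ g '' Wᶜ := ⟨x, hx, rfl⟩
  obtain ⟨y, hy, hgy⟩ := sect0_mem S (g '' Wᶜ) hZ (g x) hq
  exact hy (h0 y ⟨_, hgy.symm⟩)

theorem finrank_const (X T : Scheme.{u}) (g : X ⟶ CohB1.ProjSpaceOver 1 S) (f : T ⟶ X)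
    [IsFinite g] [Flat g] [LocallyOfFinitePresentation g]
    [IsFinite f] [Flat f] [LocallyOfFinitePresentation f] (r : ℕ)
    (h : ∀ x : X, g x ∈ Set.range (P1.sect S 0) → f.finrank x = r) (x : X) :
    f.finrank x = r := by
  have hW : IsClopen {x : X | f.finrank x = r} :=
    (Scheme.Hom.isLocallyConstant_finrank f).isClopen_fiber r
  have hu := clopen_univ S X g {x : X | f.finrank x = r} hW h
  have hx : x ∈ {x : X | f.finrank x = r} := by rw [hu]; trivial
  exact hx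

end Sch

end Groth.Agent.Lib.P1ConnH4
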