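import Mathlib
import Groth.Prelude
import Groth.Agent.Lib.P1Conn_helper4

/-!
# `P^1_S` is connected for connected `S`; connected components of finite flat covers (helper4).
APPEND-ONLY once landed.
-/

set_option autoImplicit false
set_option linter.style.haveILetI false
set_option linter.unusedVariables false

universe u

open CategoryTheory CategoryTheory.Limits AlgebraicGeometry TopologicalSpace Opposite

namespace Groth.Agent.Lib.P1Conn2H4

open Groth.Agent.Lib.P1ConnH4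

variable (S : Scheme.{u})

theorem preconnected_P1 [PreconnectedSpace S] : PreconnectedSpace (CohB1.ProjSpaceOver 1 S) := by
  rw [preconnectedSpace_iff_clopen]
  intro Z hZ
  have hcl : IsClopen ((P1.sect S 0) ⁻¹' Z) := hZ.preimage (P1.sect S 0).continuous
  have key : ∀ q, q ∈ Z ↔ (prS S) q ∈ (P1.sect S 0) ⁻¹' Z := by
    intro q
    constructor
    · exact sect0_mem S Z hZ q
    · intro h
      by_contra hn
      exact sect0_mem S Zᶜ hZ.compl q hn h
  rcases isClopen_iff.mp hcl with he | hu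
  · left
    ext q
    rw [key q, he]
    simp
  · right
    ext q
    rw [key q, hu]
    simp

theorem surj_of_clopen [PreconnectedSpace S] (X : Scheme.{u}) (g : X ⟶ CohB1.ProjSpaceOver 1 S)
    [IsFinite g] [Flat g] [LocallyOfFinitePresentation g]
    (D : Set X) (hD : IsClopen D) (hne : D.Nonempty) (p : CohB1.ProjSpaceOver 1 S) :
    ∃ d ∈ D, g d = p := by
  haveI := preconnected_P1 S
  have hZ : IsClopen (g '' D) := ⟨g.isClosedMap _ hD.isClosed, g.isOpenMap _ hD.isOpen⟩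
  rcases isClopen_iff.mp hZ with he | hu
  · exfalso
    obtain ⟨d, hd⟩ := hne
    have h1 : g d ∈ g '' D := ⟨d, hd, rfl⟩
    rw [he] at h1
    exact h1
  · have h1 : p ∈ g '' D := by rw [hu]; trivial
    obtain ⟨d, hd, hgd⟩ := h1
    exact ⟨d, hd, hgd⟩

theorem clopen_piece {α : Type*} [TopologicalSpace α] (Q u v : Set α) (hQ : IsClopen Q)
    (hu : IsOpen u) (hv : IsOpen v) (hQuv : Q ⊆ u ∪ v) (hdisj : Q ∩ (u ∩ v) = ∅) :
    IsClopen (Q ∩ u) := by
  refine ⟨?_, hQ.isOpen.inter hu⟩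
  have h1 : Q ∩ u = Q ∩ vᶜ := by
    ext z
    constructor
    · rintro ⟨hzQ, hzu⟩
      refine ⟨hzQ, fun hzv => ?_⟩
      have h2 : z ∈ Q ∩ (u ∩ v) := ⟨hzQ, hzu, hzv⟩
      rw [hdisj] at h2
      exact h2
    · rintro ⟨hzQ, hzv⟩
      rcases hQuv hzQ with h | h
      · exact ⟨hzQ, h⟩
      · exact absurd h hzv
  rw [h1]
  exact hQ.isClosed.inter hv.isClosed_compl

theorem main13901 [PreconnectedSpace S] (X : Scheme.{u}) (g : X ⟶ CohB1.ProjSpaceOver 1 S)
    [IsFinite g] [Flat g] [LocallyOfFinitePresentation g]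
    (x : X) (p : CohB1.ProjSpaceOver 1 S) : ∃ y ∈ connectedComponent x, g y = p := by
  classical
  have hF : (g ⁻¹' {p}).Finite := g.finite_preimage_singleton p
  have sub : ∀ (A B : Set X), IsClopen A → IsClopen B →
      A ∩ g ⁻¹' {p} = B ∩ g ⁻¹' {p} → A ⊆ B := by
    intro A B hA hB hAB a ha
    by_contra hab
    have hDne : (A \ B).Nonempty := ⟨a, ha, hab⟩
    obtain ⟨d, hd, hgd⟩ := surj_of_clopen S X g (A \ B) (hA.diff hB) hDne p
    have h1 : d ∈ A ∩ g ⁻¹' {p} := ⟨hd.1, hgd⟩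
    rw [hAB] at h1
    exact hd.2 h1.1
  have hinj : Set.InjOn (fun W : Set X => W ∩ g ⁻¹' {p}) {W : Set X | IsClopen W ∧ x ∈ W} := by
    intro W hW W' hW' hEq
    exact Set.Subset.antisymm (sub W W' hW.1 hW'.1 hEq) (sub W' W hW'.1 hW.1 hEq.symm)
  have hfin : {W : Set X | IsClopen W ∧ x ∈ W}.Finite := by
    refine Set.Finite.of_finite_image ?_ hinj
    refine (hF.finite_subsets).subset ?_
    rintro _ ⟨W, -, rfl⟩
    exact Set.inter_subset_right
  have hQ : IsClopen (⋂ W ∈ {W : Set X | IsClopen W ∧ x ∈ W}, W) :=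
    hfin.isClopen_biInter (fun W hW => hW.1)
  have hxQ : x ∈ (⋂ W ∈ {W : Set X | IsClopen W ∧ x ∈ W}, W) :=
    Set.mem_iInter₂.mpr (fun W hW => hW.2)
  have hmin : ∀ W : Set X, IsClopen W → x ∈ W →
      (⋂ W ∈ {W : Set X | IsClopen W ∧ x ∈ W}, W) ⊆ W := fun W hW hx =>
    Set.biInter_subset_of_mem (show W ∈ {W : Set X | IsClopen W ∧ x ∈ W} from ⟨hW, hx⟩)
  have hpre : _root_.IsPreconnected (⋂ W ∈ {W : Set X | IsClopen W ∧ x ∈ W}, W) := by
    intro u v hu hv hQuv hQu hQv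
    by_contra hcon
    have hdisj := Set.not_nonempty_iff_eq_empty.mp hcon
    have hdisj' : (⋂ W ∈ {W : Set X | IsClopen W ∧ x ∈ W}, W) ∩ (v ∩ u) = ∅ := by
      rw [Set.inter_comm v u]; exact hdisj
    have hA := clopen_piece _ u v hQ hu hv hQuv hdisj
    have hB := clopen_piece _ v u hQ hv hu (by rw [Set.union_comm]; exact hQuv) hdisj'
    rcases hQuv hxQ with hxu | hxv
    · have h1 := hmin _ hA ⟨hxQ, hxu⟩
      obtain ⟨z, hzQ, hzv⟩ := hQv
      have h2 : z ∈ (⋂ W ∈ {W : Set X | IsClopen W ∧ x ∈ W}, W) ∩ (u ∩ v) :=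
        ⟨hzQ, (h1 hzQ).2, hzv⟩
      rw [hdisj] at h2
      exact h2
    · have h1 := hmin _ hB ⟨hxQ, hxv⟩
      obtain ⟨z, hzQ, hzu⟩ := hQu
      have h2 : z ∈ (⋂ W ∈ {W : Set X | IsClopen W ∧ x ∈ W}, W) ∩ (u ∩ v) :=
        ⟨hzQ, hzu, (h1 hzQ).2⟩
      rw [hdisj] at h2
      exact h2
  have hsub := hpre.subset_connectedComponent hxQ
  obtain ⟨d, hd, hgd⟩ := surj_of_clopen S X g _ hQ ⟨x, hxQ⟩ p
  exact ⟨d, hsub hd, hgd⟩

end Groth.Agent.Lib.P1Conn2H4
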