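import Mathlib
import Groth.Prelude.Def_CohB1
import Groth.Agent.Lib.ProjGamma_helper5

/-!
# The projective line over a field is not affine (helper6)
-/

set_option autoImplicit false
universe u

open CategoryTheory AlgebraicGeometry

namespace Groth.Agent.Lib.P1NotAffine_helper6

theorem not_X_dvd_X (k : Type u) [Field k] (i j : Fin 2) (hij : i ≠ j) :
    ¬ ((MvPolynomial.X i : MvPolynomial (Fin 2) k) ∣ MvPolynomial.X j) := by
  rintro ⟨q, hq⟩
  have h := congrArg (MvPolynomial.eval (fun a : Fin 2 => if a = i then (0 : k) else 1)) hq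
  simp [Ne.symm hij] at h

/-- the point `(X_i)` of the projective line -/
noncomputable def pt (k : Type u) [Field k] (i j : Fin 2) (hij : i ≠ j) :
    ProjectiveSpectrum (CohB1.polyGrading 1 k) where
  asHomogeneousIdeal := ⟨Ideal.span {MvPolynomial.X i}, Ideal.homogeneous_span _ _ (by
    intro x hx
    rw [Set.mem_singleton_iff] at hx
    subst hx
    exact ⟨1, Groth.Agent.ProjGamma5.X_mem 1 k i⟩)⟩
  isPrime := (Ideal.span_singleton_prime (MvPolynomial.X_ne_zero i)).2 MvPolynomial.X_prime
  not_irrelevant_le := by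
    intro hle
    have h1 := ((HomogeneousIdeal.irrelevant_le _).1 hle) 1 Nat.one_pos
    have h2 : (MvPolynomial.X j : MvPolynomial (Fin 2) k) ∈
        Ideal.span {(MvPolynomial.X i : MvPolynomial (Fin 2) k)} :=
      h1 (show (MvPolynomial.X j : MvPolynomial (Fin 2) k) ∈
        AddSubmonoid.ofClass (CohB1.polyGrading 1 k 1) from Groth.Agent.ProjGamma5.X_mem 1 k j)
    rw [Ideal.mem_span_singleton] at h2
    exact not_X_dvd_X k i j hij h2

theorem pt_ne (k : Type u) [Field k] :
    pt k 0 1 (by decide) ≠ pt k 1 0 (by decide) := by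
  intro h
  have h1 := congrArg (fun p => p.asHomogeneousIdeal.toIdeal) h
  have h2 : Ideal.span {(MvPolynomial.X 0 : MvPolynomial (Fin 2) k)} =
      Ideal.span {(MvPolynomial.X 1 : MvPolynomial (Fin 2) k)} := h1
  have h3 : (MvPolynomial.X 0 : MvPolynomial (Fin 2) k) ∈
      Ideal.span {(MvPolynomial.X 1 : MvPolynomial (Fin 2) k)} := by
    rw [← h2]
    exact Ideal.mem_span_singleton_self _
  rw [Ideal.mem_span_singleton] at h3
  exact not_X_dvd_X k 1 0 (by decide) h3

theorem main (k : Type u) [Field k] : ¬ IsAffine (CohB1.ProjSpace 1 k) := by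
  intro haff
  have hG : IsIso (CohB1.ProjSpace.toSpec 1 k).appTop := Groth.Agent.ProjGamma5.isIso_appTop 1 k
  have hiso : IsIso (CohB1.ProjSpace.toSpec 1 k) :=
    (HasAffineProperty.iff_of_isAffine (P := MorphismProperty.isomorphisms Scheme)
      (f := CohB1.ProjSpace.toSpec 1 k)).2 ⟨haff, hG⟩
  haveI : Subsingleton ↥(Spec (CommRingCat.of k)) :=
    (inferInstance : Subsingleton (PrimeSpectrum k))
  haveI : Subsingleton ↥(CohB1.ProjSpace 1 k) :=
    (Scheme.Hom.homeomorph (CohB1.ProjSpace.toSpec 1 k)).injective.subsingleton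
  let x0 : ↥(CohB1.ProjSpace 1 k) := pt k 0 1 (by decide)
  let x1 : ↥(CohB1.ProjSpace 1 k) := pt k 1 0 (by decide)
  have h01 : x0 = x1 := Subsingleton.elim x0 x1
  exact pt_ne k h01

end Groth.Agent.Lib.P1NotAffine_helper6
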