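import Groth.Agent.Lib.PAdmissible_helper3

/-!
# `⋂ k_α(K^p) = k₀(K^p)` passes to extensions with finite imperfection (EGA 0_IV 21.8.4) (helper3)
-/

set_option autoImplicit false
set_option maxSynthPendingDepth 3

namespace Groth.Agent.Lib.PBasisH3

universe u

open EGA41 KaehlerDifferential TensorProduct

section Ext

variable (p : ℕ) [hp : Fact p.Prime] {k₀ K L : Type u} [Field k₀] [Field K] [Field L]
  [Algebra k₀ K] [Algebra K L] [Algebra k₀ L] [IsScalarTower k₀ K L]

include hp in
theorem mem_pPower_of_mem_map_sup (k' : IntermediateField k₀ K) (y : L)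
    (hy : y ∈ k'.map (IsScalarTower.toAlgHom k₀ K L) ⊔ PK p k₀ L) :
    y ∈ pPowerSubalgebra p k' L := by
  let E' : IntermediateField k₀ L :=
    { toSubalgebra := (pPowerSubalgebra p k' L).restrictScalars k₀
      inv_mem' := fun c hc => inv_mem_pPower p k' c hc }
  have hle : k'.map (IsScalarTower.toAlgHom k₀ K L) ⊔ PK p k₀ L ≤ E' := by
    refine sup_le ?_ ?_
    · rintro _ ⟨a, ha, rfl⟩
      exact (pPowerSubalgebra p k' L).algebraMap_mem ⟨a, ha⟩
    · rw [IntermediateField.adjoin_le_iff]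
      rintro _ ⟨z, rfl⟩
      exact pow_mem_pPower p z
  exact hle hy

variable [CharP L p]

include hp in
theorem exists_preimage_of_mem_pPower (k' : IntermediateField k₀ K) (y : L)
    (hy : y ∈ pPowerSubalgebra p k' L) :
    ∃ η : L ⊗[K] Ω[K⁄k₀], mapBaseChange k₀ K L η = D k₀ L y ∧
      ((KaehlerDifferential.map k₀ k' K K).restrictScalars K).baseChange L η = 0 := by
  induction hy using Algebra.adjoin_induction with
  | mem z hz =>
    obtain ⟨w, rfl⟩ := hz
    refine ⟨0, ?_, map_zero _⟩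
    rw [map_zero, Derivation.leibniz_pow, ← Nat.cast_smul_eq_nsmul L, CharP.cast_eq_zero,
      zero_smul]
  | algebraMap c =>
    refine ⟨(1 : L) ⊗ₜ[K] D k₀ K (c : K), ?_, ?_⟩
    · rw [mapBaseChange_tmul, one_smul, KaehlerDifferential.map_D]
      rfl
    · rw [LinearMap.baseChange_tmul, LinearMap.restrictScalars_apply, KaehlerDifferential.map_D]
      have : D k' K ((algebraMap K K) (c : K)) = D k' K (algebraMap k' K c) := rfl
      rw [this, Derivation.map_algebraMap, tmul_zero]
  | add a b _ _ ha hb =>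
    obtain ⟨η₁, h₁, h₁'⟩ := ha
    obtain ⟨η₂, h₂, h₂'⟩ := hb
    exact ⟨η₁ + η₂, by rw [map_add, map_add, h₁, h₂], by rw [map_add, h₁', h₂', add_zero]⟩
  | mul a b _ _ ha hb =>
    obtain ⟨η₁, h₁, h₁'⟩ := ha
    obtain ⟨η₂, h₂, h₂'⟩ := hb
    refine ⟨a • η₂ + b • η₁, ?_, ?_⟩
    · rw [map_add, map_smul, map_smul, h₁, h₂, Derivation.leibniz]
    · rw [map_add, map_smul, map_smul, h₁', h₂', smul_zero, smul_zero, add_zero]

variable [CharP K p]

include hp in
/-- **EGA 0_IV 21.8.4**. -/
theorem iInf_map_sup_eq {ι : Type*} [Nonempty ι]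
    (k : ι → IntermediateField k₀ K) (hdir : ∀ a b, ∃ c, k c ≤ k a ⊓ k b)
    (hint : (⨅ i, k i ⊔ PK p k₀ K) = PK p k₀ K)
    [Module.Finite L (EGA41.imperfection k₀ K L)] :
    (⨅ i, (k i).map (IsScalarTower.toAlgHom k₀ K L) ⊔ PK p k₀ L) = PK p k₀ L := by
  classical
  apply le_antisymm
  · intro y hy
    by_contra hyP
    have hne := D_ne_zero_of_notMem p (k₀ := k₀) y hyP
    have hyi : ∀ i, y ∈ (k i).map (IsScalarTower.toAlgHom k₀ K L) ⊔ PK p k₀ L := by
      intro i
      have := (SetLike.mem_coe.2 hy)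
      rw [IntermediateField.coe_iInf, Set.mem_iInter] at this
      exact this i
    have hη : ∀ i, ∃ η : L ⊗[K] Ω[K⁄k₀], mapBaseChange k₀ K L η = D k₀ L y ∧
        ((KaehlerDifferential.map k₀ (k i) K K).restrictScalars K).baseChange L η = 0 :=
      fun i => exists_preimage_of_mem_pPower p (k i) y (mem_pPower_of_mem_map_sup p (k i) y (hyi i))
    choose η hη1 hη2 using hη
    obtain ⟨B, hB⟩ := Groth.Agent.Lib.SepSmoothH3.exists_pBasis_field p k₀ K
    obtain ⟨b, hb⟩ := exists_basis_D p (Subtype.val : B → K) hB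
    obtain ⟨J₀, hJ₀⟩ := exists_finset_support (b.baseChange L) (EGA41.imperfection k₀ K L)
      (Module.Finite.iff_fg.1 inferInstance)
    obtain ⟨i₁⟩ := ‹Nonempty ι›
    set J : Finset B := J₀ ∪ ((b.baseChange L).repr (η i₁)).support with hJdef
    have hsupp : ∀ i, ((((b.baseChange L).repr (η i)).support : Finset B) : Set B) ⊆ J := by
      intro i β hβ
      have hmem : η i - η i₁ ∈ EGA41.imperfection k₀ K L := by
        show mapBaseChange k₀ K L (η i - η i₁) = 0
        rw [map_sub, hη1, hη1, sub_self]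
      have h1 := hJ₀ _ hmem
      rw [Finset.mem_coe, Finsupp.mem_support_iff] at hβ
      rw [hJdef, Finset.coe_union]
      by_cases hβ1 : β ∈ ((b.baseChange L).repr (η i₁)).support
      · exact Or.inr (Finset.mem_coe.2 hβ1)
      · refine Or.inl (h1 (Finset.mem_coe.2 (Finsupp.mem_support_iff.2 ?_)))
        rw [map_sub, Finsupp.sub_apply, Finsupp.notMem_support_iff.1 hβ1, sub_zero]
        exact hβ
    have hxJ : IsPIndependent p k₀ ((Subtype.val : B → K) ∘ (Subtype.val : J → B)) :=
      isPIndependent_comp p (Subtype.val : B → K) hB.1 (Subtype.val : J → B)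
        Subtype.val_injective
    obtain ⟨i₂, hi₂⟩ := exists_isPIndependent_of_iInf p k hdir hint
      ((Subtype.val : B → K) ∘ (Subtype.val : J → B)) hxJ
    have h0 := eq_zero_of_support_subset p B b hb (k i₂) J hi₂ (η i₂) (hsupp i₂) (hη2 i₂)
    apply hne
    rw [← hη1 i₂, h0, map_zero]
  · exact le_iInf fun i => le_sup_right

end Ext

end Groth.Agent.Lib.PBasisH3
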