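import Groth.Agent.Lib.PDescent_helper3
import Groth.Agent.Lib.SepSmooth_helper3

/-!
# Admissible subfields of finite codegree (EGA 0_IV 21.8.5) (helper3)
-/

set_option autoImplicit false
set_option maxSynthPendingDepth 3

namespace Groth.Agent.Lib.PBasisH3

universe u

open EGA41 KaehlerDifferential TensorProduct

section KJ

variable (p : ℕ) [hp : Fact p.Prime] {k₀ K : Type u} [Field k₀] [Field K] [Algebra k₀ K]
  [CharP K p] (B : Set K)

/-- `k₀(K^p)(β : β ∈ B ∖ J)` -/
noncomputable def kJ (J : Finset B) : IntermediateField k₀ K :=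
  IntermediateField.adjoin k₀
    ((Set.range fun y : K => y ^ p) ∪ (Subtype.val : B → K) '' {β | β ∉ J})

omit hp [CharP K p] in
theorem pow_mem_kJ (J : Finset B) (y : K) : y ^ p ∈ kJ (k₀ := k₀) p B J :=
  IntermediateField.subset_adjoin k₀ _ (Or.inl ⟨y, rfl⟩)

omit hp [CharP K p] in
theorem mem_kJ_of_notMem (J : Finset B) (β : B) (hβ : β ∉ J) : (β : K) ∈ kJ (k₀ := k₀) p B J :=
  IntermediateField.subset_adjoin k₀ _ (Or.inr ⟨β, hβ, rfl⟩)

include hp in
omit [CharP K p] in
theorem PK_le_kJ (J : Finset B) : PK p k₀ K ≤ kJ (k₀ := k₀) p B J :=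
  IntermediateField.adjoin.mono k₀ _ _ Set.subset_union_left

include hp in
/-- the remaining part of the `p`-basis is `p`-independent over `kJ` -/
theorem isPIndependent_kJ (hB : IsPBasis p k₀ (Subtype.val : B → K)) (J : Finset B) :
    IsPIndependent p (kJ (k₀ := k₀) p B J) (fun j : J => ((j : B) : K)) := by
  classical
  apply isPIndependent_of_notMem_others p
  intro a hmem
  have hnot := notMem_others_of_isPIndependent p (Subtype.val : B → K) hB.1 (a : B)
  apply hnot
  have h1 : kJ (k₀ := k₀) p B J ≤ others p k₀ (Subtype.val : B → K) (a : B) := by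
    unfold kJ
    rw [IntermediateField.adjoin_le_iff]
    rintro z (⟨y, rfl⟩ | ⟨β, hβ, rfl⟩)
    · exact IntermediateField.subset_adjoin k₀ _ (Or.inl ⟨y, rfl⟩)
    · refine IntermediateField.subset_adjoin k₀ _ (Or.inr ⟨β, ?_, rfl⟩)
      intro hβa
      exact hβ (hβa ▸ a.2)
  have h2 : others p (kJ (k₀ := k₀) p B J) (fun j : J => ((j : B) : K)) a ≤
      IntermediateField.extendScalars h1 := by
    rw [IntermediateField.adjoin_le_iff]
    rintro z (⟨y, rfl⟩ | ⟨b, hb, rfl⟩)
    · exact IntermediateField.subset_adjoin k₀ _ (Or.inl ⟨y, rfl⟩)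
    · refine IntermediateField.subset_adjoin k₀ _ (Or.inr ⟨(b : B), ?_, rfl⟩)
      intro hba
      exact hb (Subtype.ext hba)
  exact h2 hmem

include hp in
omit [CharP K p] in
/-- `K` is finite over `kJ` -/
theorem finite_kJ (hB : IsPBasis p k₀ (Subtype.val : B → K)) (J : Finset B) :
    Module.Finite (kJ (k₀ := k₀) p B J) K := by
  classical
  haveI : Algebra.IsIntegral (kJ (k₀ := k₀) p B J) K := ⟨fun y => by
    refine ⟨Polynomial.X ^ p - Polynomial.C (⟨y ^ p, pow_mem_kJ p B J y⟩ : kJ (k₀ := k₀) p B J),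
      Polynomial.monic_X_pow_sub_C _ hp.out.ne_zero, ?_⟩
    simp⟩
  have hadj : Algebra.adjoin (pPowerSubalgebra p k₀ K) (Set.range (Subtype.val : B → K)) = ⊤ :=
    adjoin_eq_top_of_span_red p (Subtype.val : B → K) hB.2
  have htop : Algebra.adjoin (kJ (k₀ := k₀) p B J)
      ((Finset.univ.image fun j : J => ((j : B) : K) : Finset K) : Set K) = ⊤ := by
    rw [eq_top_iff]
    intro y _
    have hy : y ∈ Algebra.adjoin (pPowerSubalgebra p k₀ K) (Set.range (Subtype.val : B → K)) :=
      hadj ▸ Algebra.mem_top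
    induction hy using Algebra.adjoin_induction with
    | mem z hz =>
      obtain ⟨β, rfl⟩ := hz
      by_cases hβ : β ∈ J
      · refine Algebra.subset_adjoin ?_
        rw [Finset.coe_image]
        exact ⟨⟨β, hβ⟩, Finset.mem_coe.2 (Finset.mem_univ _), rfl⟩
      · exact Subalgebra.algebraMap_mem _ (⟨(β : K), mem_kJ_of_notMem p B J β hβ⟩ :
          kJ (k₀ := k₀) p B J)
    | algebraMap c =>
      have hc : (c : K) ∈ kJ (k₀ := k₀) p B J := PK_le_kJ p B J ((mem_pPower_iff p (c : K)).1 c.2)
      exact Subalgebra.algebraMap_mem _ (⟨(c : K), hc⟩ : kJ (k₀ := k₀) p B J)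
    | add a b _ _ ha hb => exact add_mem (ha trivial) (hb trivial)
    | mul a b _ _ ha hb => exact mul_mem (ha trivial) (hb trivial)
  haveI : Algebra.FiniteType (kJ (k₀ := k₀) p B J) K := ⟨⟨_, htop⟩⟩
  exact Algebra.IsIntegral.finite

end KJ

section Adm

variable (p : ℕ) [hp : Fact p.Prime] {k₀ K L : Type u} [Field k₀] [Field K] [Field L]
  [Algebra k₀ K] [Algebra K L] [Algebra k₀ L] [IsScalarTower k₀ K L] [CharP K p]

include hp in
/-- injectivity of `L ⊗ Ω_{K/k₀} → L ⊗ Ω_{K/k}` on elements supported (w.r.t. the basis `d β`) on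
a finite set `J` of `p`-basis elements which stay `p`-independent over `k`. -/
theorem eq_zero_of_support_subset (B : Set K)
    (b : Module.Basis B K (Ω[K⁄k₀])) (hb : ∀ β : B, b β = D k₀ K (β : K))
    (k : IntermediateField k₀ K) (J : Finset B)
    (hJ : IsPIndependent p k (fun j : J => ((j : B) : K)))
    (ω : L ⊗[K] Ω[K⁄k₀]) (hω : (((b.baseChange L).repr ω).support : Set B) ⊆ J)
    (h0 : ((KaehlerDifferential.map k₀ k K K).restrictScalars K).baseChange L ω = 0) : ω = 0 := by
  classical
  have hli := linearIndependent_D_of_isPIndependent p _ hJ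
  have hliL : LinearIndependent L
      (fun j : J => (1 : L) ⊗ₜ[K] D k K (((j : B) : K))) :=
    Module.Flat.linearIndependent_one_tmul hli
  rw [Fintype.linearIndependent_iff] at hliL
  set c := (b.baseChange L).repr ω with hc
  have hωsum : ω = ∑ β ∈ J, c β • (b.baseChange L) β := by
    conv_lhs => rw [← (b.baseChange L).linearCombination_repr ω]
    rw [Finsupp.linearCombination_apply, Finsupp.sum]
    refine Finset.sum_subset (fun β hβ => Finset.mem_coe.1 (hω (Finset.mem_coe.2 hβ))) ?_
    intro β _ hβ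
    rw [Finsupp.notMem_support_iff.1 hβ, zero_smul]
  have h2 : ∑ j : J, c (j : B) • ((1 : L) ⊗ₜ[K] D k K (((j : B) : K))) = 0 := by
    rw [← h0, hωsum, map_sum, ← Finset.sum_coe_sort J]
    refine Finset.sum_congr rfl fun j _ => ?_
    rw [map_smul, Module.Basis.baseChange_apply, LinearMap.baseChange_tmul, hb,
      LinearMap.restrictScalars_apply, KaehlerDifferential.map_D]
    rfl
  have h3 := hliL (fun j : J => c (j : B)) h2
  have hc0 : c = 0 := by
    ext β
    by_cases hβ : β ∈ J
    · exact h3 ⟨β, hβ⟩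
    · by_contra hne
      exact hβ (Finset.mem_coe.1 (hω (Finset.mem_coe.2 (Finsupp.mem_support_iff.2 hne))))
  exact (b.baseChange L).repr.map_eq_zero_iff.1 hc0

/-- a finitely generated submodule is supported on finitely many basis vectors -/
theorem exists_finset_support {ι V : Type*} [AddCommGroup V] [Module L V]
    (bL : Module.Basis ι L V) (N : Submodule L V) (hN : N.FG) :
    ∃ J : Finset ι, ∀ ω ∈ N, ((bL.repr ω).support : Set ι) ⊆ J := by
  classical
  obtain ⟨s, hs⟩ := hN
  refine ⟨s.biUnion fun ω => (bL.repr ω).support, ?_⟩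
  intro ω hω
  let W : Submodule L V := (Finsupp.supported L L
    ((s.biUnion fun ω => (bL.repr ω).support : Finset ι) : Set ι)).comap bL.repr.toLinearMap
  have hsW : (s : Set V) ⊆ W := by
    intro η hη
    show bL.repr η ∈ Finsupp.supported L L _
    rw [Finsupp.mem_supported]
    intro i hi
    exact Finset.mem_coe.2 (Finset.mem_biUnion.2 ⟨η, hη, hi⟩)
  have hle : N ≤ W := by
    rw [← hs]
    exact Submodule.span_le.2 hsW
  have := hle hω
  exact (Finsupp.mem_supported L _).1 this

include hp in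
/-- **EGA 0_IV 21.8.5**: existence of admissible subfields of finite codegree. -/
theorem exists_admissible [Module.Finite L (EGA41.imperfection k₀ K L)] :
    ∃ k : IntermediateField k₀ K, (∀ y : K, y ^ p ∈ k) ∧ Module.Finite k K ∧
      ∀ ω ∈ EGA41.imperfection k₀ K L,
        ((KaehlerDifferential.map k₀ k K K).restrictScalars K).baseChange L ω = 0 → ω = 0 := by
  classical
  obtain ⟨B, hB⟩ := Groth.Agent.Lib.SepSmoothH3.exists_pBasis_field p k₀ K
  obtain ⟨b, hb⟩ := exists_basis_D p (Subtype.val : B → K) hB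
  obtain ⟨J, hJ⟩ := exists_finset_support (b.baseChange L) (EGA41.imperfection k₀ K L)
    (Module.Finite.iff_fg.1 inferInstance)
  refine ⟨kJ p B J, pow_mem_kJ p B J, finite_kJ p B hB J, fun ω hω h0 => ?_⟩
  exact eq_zero_of_support_subset p B b hb (kJ p B J) J (isPIndependent_kJ p B hB J) ω (hJ ω hω) h0

end Adm

end Groth.Agent.Lib.PBasisH3
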