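import Groth.Agent.Lib.PB11_helper8

/-!
# Transition maps `f^* u^* F ⟶ u'^* F` and their associativity (helper8)
APPEND-ONLY once landed.
-/

set_option autoImplicit false
open CategoryTheory AlgebraicGeometry Opposite TopologicalSpace
open AlgebraicGeometry.Scheme.Modules
universe u
namespace PBH8

section
variable {X' X Y S : Scheme.{u}}

/-- transition: `f^* u^* F ⟶ u'^* F` for `f ≫ u = u'` -/
noncomputable def sig (f : X ⟶ Y) (u : Y ⟶ S) (u' : X ⟶ S) (w : f ≫ u = u') (F : S.Modules) :
    (Scheme.Modules.pullback f).obj ((Scheme.Modules.pullback u).obj F) ⟶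
      (Scheme.Modules.pullback u').obj F :=
  (pullbackComp f u).hom.app F ≫ eqToHom (congrArg (fun h => (Scheme.Modules.pullback h).obj F) w)

instance (f : X ⟶ Y) (u : Y ⟶ S) (u' : X ⟶ S) (w : f ≫ u = u') (F : S.Modules) :
    IsIso (sig f u u' w F) := by
  unfold sig
  infer_instance

lemma sig_assoc (k : X' ⟶ X) (f : X ⟶ Y) (u : Y ⟶ S) (u' : X ⟶ S) (u'' : X' ⟶ S)
    (w : f ≫ u = u') (w' : k ≫ u' = u'') (F : S.Modules) :
    (pullbackComp k f).hom.app ((Scheme.Modules.pullback u).obj F) ≫
        sig (k ≫ f) u u'' (by rw [Category.assoc, w, w']) F =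
      (Scheme.Modules.pullback k).map (sig f u u' w F) ≫ sig k u' u'' w' F := by
  subst w
  subst w'
  have h := congrArg (fun α => α.app F) (pseudofunctor_associativity k f u)
  simp only [NatTrans.comp_app, Functor.whiskerRight_app, Functor.associator_hom_app,
    Functor.whiskerLeft_app, Category.id_comp, eqToHom_app] at h
  unfold sig
  have h2 : (pullbackComp k f).hom.app ((Scheme.Modules.pullback u).obj F) ≫
        (pullbackComp (k ≫ f) u).hom.app F =
      (Scheme.Modules.pullback k).map ((pullbackComp f u).hom.app F) ≫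
        (pullbackComp k (f ≫ u)).hom.app F ≫
          eqToHom (congrArg (fun h => (Scheme.Modules.pullback h).obj F)
            (Category.assoc k f u).symm) := by
    rw [← h]
    simp only [Iso.hom_inv_id_app_assoc]
    rw [← Functor.map_comp_assoc, Iso.hom_inv_id_app, CategoryTheory.Functor.map_id,
      Category.id_comp]
  rw [reassoc_of% h2]
  simp

lemma sig_id (u : X ⟶ S) (F : S.Modules) :
    sig (𝟙 X) u u (Category.id_comp u) F =
      (pullbackId X).hom.app ((Scheme.Modules.pullback u).obj F) := by
  have h := congrArg (fun α => α.app F) (pseudofunctor_right_unitality u)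
  simp only [NatTrans.comp_app, Functor.whiskerLeft_app, Functor.rightUnitor_hom_app,
    eqToHom_app] at h
  unfold sig
  rw [← h, Iso.hom_inv_id_app_assoc]
  exact Category.comp_id _

lemma unit_pullbackId (M : X.Modules) :
    (pullbackPushforwardAdjunction (𝟙 X)).unit.app M ≫
      (Scheme.Modules.pushforward (𝟙 X)).map ((pullbackId X).hom.app M) =
    (pushforwardId X).inv.app M := by
  have h := unit_conjugateEquiv Adjunction.id (pullbackPushforwardAdjunction (𝟙 X))
    (pullbackId X).hom M
  rw [conjugateEquiv_pullbackId_hom] at h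
  rw [← h]
  simp

lemma cUV_id (M : X.Modules) {V V' : X.Opens} (h : V' ≤ (𝟙 X) ⁻¹ᵁ V) (h' : V' ≤ V)
    (x : Γ(M, V)) :
    ((pullbackId X).hom.app M).app V' (cUV (𝟙 X) M h x) = M.presheaf.map (homOfLE h').op x := by
  unfold cUV
  have h1 := congrArg (fun φ => (Scheme.Modules.Hom.app φ V) x) (unit_pullbackId M)
  simp only [Scheme.Modules.Hom.comp_app] at h1
  simp at h1
  rw [QCohCrit.app_naturality ((pullbackId X).hom.app M) (homOfLE h)]
  exact congrArg (M.presheaf.map (homOfLE h').op) h1

end

section OpenImm
variable {X Y : Scheme.{u}} (f : X ⟶ Y) [IsOpenImmersion f] (M : Y.Modules)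

lemma unit_restrictIso :
    (restrictAdjunction f).unit.app M ≫
      (Scheme.Modules.pushforward f).map ((restrictFunctorIsoPullback f).hom.app M) =
    (pullbackPushforwardAdjunction f).unit.app M :=
  Adjunction.unit_leftAdjointUniq_hom_app (restrictAdjunction f)
    (pullbackPushforwardAdjunction f) M

/-- the canonical map for an open immersion is restriction followed by an isomorphism -/
lemma cUV_openImmersion {V' : X.Opens} {U : Y.Opens} (h : V' ≤ f ⁻¹ᵁ U) (h' : f ''ᵁ V' ≤ U)
    (x : Γ(M, U)) :
    cUV f M h x = ((restrictFunctorIsoPullback f).hom.app M).app V'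
      (M.presheaf.map (homOfLE h').op x) := by
  unfold cUV
  have h1 : ((pullbackPushforwardAdjunction f).unit.app M).app U x =
      ((restrictFunctorIsoPullback f).hom.app M).app (f ⁻¹ᵁ U)
        (M.presheaf.map (homOfLE (f.image_preimage_le U)).op x) :=
    (congrArg (fun φ => (Scheme.Modules.Hom.app φ U) x) (unit_restrictIso f M)).symm
  refine (congrArg (((Scheme.Modules.pullback f).obj M).presheaf.map (homOfLE h).op) h1).trans ?_
  have h2 := QCohCrit.app_naturality ((restrictFunctorIsoPullback f).hom.app M) (homOfLE h)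
    (M.presheaf.map (homOfLE (f.image_preimage_le U)).op x)
  refine h2.symm.trans ?_
  congr 1
  have h3 := congrArg (fun ψ => ψ x)
    (M.presheaf.map_comp (homOfLE (f.image_preimage_le U)).op
      (homOfLE (f.image_mono h)).op)
  exact h3.symm

theorem cUV_bijective_of_isOpenImmersion (V' : X.Opens) (h : V' ≤ f ⁻¹ᵁ (f ''ᵁ V')) :
    Function.Bijective (cUV f M h) := by
  have h1 : (cUV f M h : _ → _) = fun x =>
      ((restrictFunctorIsoPullback f).hom.app M).app V' x := by
    funext x
    rw [cUV_openImmersion f M h le_rfl x]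
    congr 1
    exact congrArg (fun ψ => ψ x) (M.presheaf.map_id _)
  rw [h1]
  exact ConcreteCategory.bijective_of_isIso
    (((restrictFunctorIsoPullback f).hom.app M).app V')

end OpenImm
end PBH8
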