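import Mathlib
set_option autoImplicit false
open CategoryTheory AlgebraicGeometry Opposite TopologicalSpace
open AlgebraicGeometry.Scheme.Modules
universe u
namespace PBH8

section
variable {X Y U' V' : Scheme.{u}} (f : X ⟶ Y) (j : U' ⟶ X) (i : V' ⟶ Y) (g : U' ⟶ V')
  [IsOpenImmersion j] [IsOpenImmersion i] (comm : j ≫ f = g ≫ i)

noncomputable def adjA : Scheme.Modules.pullback f ⋙ restrictFunctor j ⊣
    Scheme.Modules.pushforward j ⋙ Scheme.Modules.pushforward f :=
  (pullbackPushforwardAdjunction f).comp (restrictAdjunction j)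

noncomputable def adjB : restrictFunctor i ⋙ Scheme.Modules.pullback g ⊣
    Scheme.Modules.pushforward g ⋙ Scheme.Modules.pushforward i :=
  (restrictAdjunction i).comp (pullbackPushforwardAdjunction g)

noncomputable def rho : Scheme.Modules.pushforward g ⋙ Scheme.Modules.pushforward i ≅
    Scheme.Modules.pushforward j ⋙ Scheme.Modules.pushforward f :=
  pushforwardComp g i ≪≫ pushforwardCongr comm.symm ≪≫ (pushforwardComp j f).symm

include comm in
noncomputable def beta : Scheme.Modules.pullback f ⋙ restrictFunctor j ≅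
    restrictFunctor i ⋙ Scheme.Modules.pullback g :=
  (conjugateIsoEquiv (adjB i g) (adjA f j)).symm (rho f j i g comm)

lemma unit_beta (F : Y.Modules) :
    (adjB i g).unit.app F ≫ (rho f j i g comm).hom.app _ =
      (adjA f j).unit.app F ≫
        (Scheme.Modules.pushforward j ⋙ Scheme.Modules.pushforward f).map
          ((beta f j i g comm).hom.app F) := by
  have := unit_conjugateEquiv (adjB i g) (adjA f j) (beta f j i g comm).hom F
  rw [← this]
  congr 2
  simp [beta]

end
end PBH8

namespace PBH8
section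
variable {X Y U' V' : Scheme.{u}} (f : X ⟶ Y) (j : U' ⟶ X) (i : V' ⟶ Y) (g : U' ⟶ V')
  [IsOpenImmersion j] [IsOpenImmersion i] (comm : j ≫ f = g ≫ i)

lemma adjA_unit_app_app (F : Y.Modules) (W : Y.Opens) :
    ((adjA f j).unit.app F).app W =
      ((pullbackPushforwardAdjunction f).unit.app F).app W ≫
        ((Scheme.Modules.pullback f).obj F).presheaf.map
          (homOfLE (j.image_preimage_le (f ⁻¹ᵁ W))).op := by
  simp [adjA, Adjunction.comp_unit_app]
  rfl

lemma adjB_unit_app_app (F : Y.Modules) (W : Y.Opens) :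
    ((adjB i g).unit.app F).app W =
      F.presheaf.map (homOfLE (i.image_preimage_le W)).op ≫
        ((pullbackPushforwardAdjunction g).unit.app (F.restrict i)).app (i ⁻¹ᵁ W) := by
  simp [adjB, Adjunction.comp_unit_app]
  rfl

end
end PBH8

namespace PBH8
section
variable {X Y U' V' : Scheme.{u}} (f : X ⟶ Y) (j : U' ⟶ X) (i : V' ⟶ Y) (g : U' ⟶ V')
  [IsOpenImmersion j] [IsOpenImmersion i] (comm : j ≫ f = g ≫ i)

include comm in
lemma preimage_comm (W : Y.Opens) : j ⁻¹ᵁ (f ⁻¹ᵁ W) = g ⁻¹ᵁ (i ⁻¹ᵁ W) := by
  rw [← Scheme.Hom.comp_preimage, ← Scheme.Hom.comp_preimage, comm]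

lemma rho_hom_app_app (N : U'.Modules) (W : Y.Opens) :
    ((rho f j i g comm).hom.app N).app W =
      N.presheaf.map (eqToHom (preimage_comm f j i g comm W)).op := by
  simp [rho]

/-- Key compatibility of `beta` with the units, on sections. -/
lemma unit_beta_app (F : Y.Modules) (W : Y.Opens) :
    (F.presheaf.map (homOfLE (i.image_preimage_le W)).op ≫
        ((pullbackPushforwardAdjunction g).unit.app (F.restrict i)).app (i ⁻¹ᵁ W)) ≫
      ((Scheme.Modules.pullback g).obj (F.restrict i)).presheaf.map
        (eqToHom (preimage_comm f j i g comm W)).op =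
    (((pullbackPushforwardAdjunction f).unit.app F).app W ≫
        ((Scheme.Modules.pullback f).obj F).presheaf.map
          (homOfLE (j.image_preimage_le (f ⁻¹ᵁ W))).op) ≫
      ((beta f j i g comm).hom.app F).app (j ⁻¹ᵁ (f ⁻¹ᵁ W)) := by
  have h := congrArg (fun φ => Scheme.Modules.Hom.app φ W) (unit_beta f j i g comm F)
  simp only [Scheme.Modules.Hom.comp_app] at h
  rw [adjA_unit_app_app, adjB_unit_app_app, rho_hom_app_app] at h
  exact h

end
end PBH8
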