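import Groth.Agent.Lib.PB3_helper8
import Groth.Agent.Lib.PB4_helper8
set_option autoImplicit false
open CategoryTheory AlgebraicGeometry Opposite TopologicalSpace
open AlgebraicGeometry.Scheme.Modules
universe u
namespace PBH8

section
variable {X Y : Scheme.{u}} (f : X ⟶ Y) {A B : CommRingCat.{u}}
  (j : Spec B ⟶ X) (i : Spec A ⟶ Y) (φ : A ⟶ B)
  [IsOpenImmersion j] [IsOpenImmersion i] (comm : j ≫ f = Spec.map φ ≫ i)

include comm in
lemma image_top_le : j ''ᵁ ⊤ ≤ f ⁻¹ᵁ (i ''ᵁ ⊤) := by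
  rintro _ ⟨x, -, rfl⟩
  change f (j x) ∈ i ''ᵁ ⊤
  have : f (j x) = i (Spec.map φ x) := by
    rw [← Scheme.Hom.comp_apply, comm, Scheme.Hom.comp_apply]
  rw [this]
  exact ⟨_, trivial, rfl⟩

/-- the canonical map `Γ(F, V) → Γ(f^* F, U)`, `V = i(Spec A)`, `U = j(Spec B)`. -/
noncomputable def cF (F : Y.Modules) (x : Γ(F, i ''ᵁ ⊤)) :
    Γ((Scheme.Modules.pullback f).obj F, j ''ᵁ ⊤) :=
  ((Scheme.Modules.pullback f).obj F).presheaf.map (homOfLE (image_top_le f j i φ comm)).op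
    (((pullbackPushforwardAdjunction f).unit.app F).app (i ''ᵁ ⊤) x)

end
end PBH8

namespace PBH8
section
variable {X Y : Scheme.{u}} (f : X ⟶ Y) {A B : CommRingCat.{u}}
  (j : Spec B ⟶ X) (i : Spec A ⟶ Y) (φ : A ⟶ B)
  [IsOpenImmersion j] [IsOpenImmersion i] (comm : j ≫ f = Spec.map φ ≫ i)

include comm in
lemma preimage_eq_top : j ⁻¹ᵁ (f ⁻¹ᵁ (i ''ᵁ ⊤)) = ⊤ := by
  rw [eq_top_iff]
  intro x _
  exact image_top_le f j i φ comm ⟨x, trivial, rfl⟩

lemma c0_eq_beta_cF (F : Y.Modules) (x : Γ(F, i ''ᵁ ⊤)) :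
    c0 φ (F.restrict i) x =
      ((beta f j i (Spec.map φ) comm).hom.app F).app ⊤ (cF f j i φ comm F x) := by
  set N := F.restrict i with hN
  set G := (Scheme.Modules.pullback f).obj F with hG
  set P := (Scheme.Modules.pullback (Spec.map φ)).obj N with hP
  have key := congrArg (fun ψ => ψ x) (unit_beta_app f j i (Spec.map φ) comm F (i ''ᵁ ⊤ : Y.Opens))
  -- the inclusion of `j⁻¹ f⁻¹ (i ''ᵁ ⊤ : Y.Opens)` in `⊤`
  have htop : j ⁻¹ᵁ (f ⁻¹ᵁ (i ''ᵁ ⊤ : Y.Opens)) = ⊤ := preimage_eq_top f j i φ comm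
  let ι : (j ⁻¹ᵁ (f ⁻¹ᵁ (i ''ᵁ ⊤ : Y.Opens))) ⟶ (⊤ : (Spec B).Opens) := homOfLE le_top
  haveI : IsIso ι := by
    rw [show ι = eqToHom htop from Subsingleton.elim _ _]
    infer_instance
  have hinj : Function.Injective (P.presheaf.map ι.op) := by
    haveI : IsIso (P.presheaf.map ι.op) := inferInstance
    exact ((ConcreteCategory.isIso_iff_bijective (P.presheaf.map ι.op)).mp inferInstance).1
  apply hinj
  -- the unit for `g`
  set η := (pullbackPushforwardAdjunction (Spec.map φ)).unit.app N with hη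
  set b := (beta f j i (Spec.map φ) comm).hom.app F with hb
  let ι' : (i ⁻¹ᵁ (i ''ᵁ ⊤ : Y.Opens)) ⟶ (⊤ : (Spec A).Opens) := homOfLE le_top
  have hL : P.presheaf.map ι.op (c0 φ N x) =
      P.presheaf.map (eqToHom (preimage_comm f j i (Spec.map φ) comm (i ''ᵁ ⊤ : Y.Opens))).op
        (η.app (i ⁻¹ᵁ (i ''ᵁ ⊤ : Y.Opens)) (F.presheaf.map (homOfLE (i.image_preimage_le (i ''ᵁ ⊤ : Y.Opens))).op x)) := by
    have h1 := congrArg (fun ψ => ψ x) (η.mapPresheaf.naturality ι'.op)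
    simp only [Scheme.Modules.mapPresheaf_app] at h1
    have h2 : η.app (i ⁻¹ᵁ (i ''ᵁ ⊤ : Y.Opens)) (F.presheaf.map (homOfLE (i.image_preimage_le (i ''ᵁ ⊤ : Y.Opens))).op x) =
        P.presheaf.map ((Opens.map (Spec.map φ).base).map ι').op (c0 φ N x) := h1
    rw [h2]
    have h3 := congrArg (fun ψ => ψ (c0 φ N x)) (P.presheaf.map_comp
      ((Opens.map (Spec.map φ).base).map ι').op
      (eqToHom (preimage_comm f j i (Spec.map φ) comm (i ''ᵁ ⊤ : Y.Opens))).op)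
    refine Eq.trans ?_ h3
    congr 2
  have hR : P.presheaf.map ι.op (b.app ⊤ (cF f j i φ comm F x)) =
      b.app (j ⁻¹ᵁ (f ⁻¹ᵁ (i ''ᵁ ⊤ : Y.Opens)))
        (G.presheaf.map (homOfLE (j.image_preimage_le (f ⁻¹ᵁ (i ''ᵁ ⊤ : Y.Opens)))).op
          (((pullbackPushforwardAdjunction f).unit.app F).app (i ''ᵁ ⊤ : Y.Opens) x)) := by
    have h1 := congrArg (fun ψ => ψ (cF f j i φ comm F x)) (b.mapPresheaf.naturality ι.op)
    simp only [Scheme.Modules.mapPresheaf_app] at h1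
    refine Eq.trans h1.symm ?_
    change b.app (j ⁻¹ᵁ (f ⁻¹ᵁ (i ''ᵁ ⊤ : Y.Opens))) _ = b.app (j ⁻¹ᵁ (f ⁻¹ᵁ (i ''ᵁ ⊤ : Y.Opens))) _
    congr 1
    have h3 := congrArg (fun ψ => ψ (((pullbackPushforwardAdjunction f).unit.app F).app (i ''ᵁ ⊤ : Y.Opens) x))
      (G.presheaf.map_comp (homOfLE (image_top_le f j i φ comm)).op
        ((Scheme.Hom.opensFunctor j).map ι).op)
    exact h3.symm
  exact hL.trans (Eq.trans key hR.symm)

end
end PBH8

namespace PBH8
section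
open TensorProduct
variable {X Y : Scheme.{u}} (f : X ⟶ Y) {A B : CommRingCat.{u}}
  (j : Spec B ⟶ X) (i : Spec A ⟶ Y) (φ : A ⟶ B)
  [IsOpenImmersion j] [IsOpenImmersion i] (comm : j ≫ f = Spec.map φ ≫ i)

omit [IsOpenImmersion j] [IsOpenImmersion i] in
lemma iso_hom_inv_app {Z : Scheme.{u}} {M N : Z.Modules} (e : M ≅ N) (U : Z.Opens) (y : Γ(M, U)) :
    e.inv.app U (e.hom.app U y) = y :=
  congrArg (fun ψ => (Scheme.Modules.Hom.app ψ U) y) e.hom_inv_id

omit [IsOpenImmersion j] [IsOpenImmersion i] in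
lemma iso_inv_hom_app {Z : Scheme.{u}} {M N : Z.Modules} (e : M ≅ N) (U : Z.Opens) (y : Γ(N, U)) :
    e.hom.app U (e.inv.app U y) = y :=
  congrArg (fun ψ => (Scheme.Modules.Hom.app ψ U) y) e.inv_hom_id

/-- `A`-module structure on `Γ(F, i(Spec A))`. -/
noncomputable abbrev modI (F : Y.Modules) : Module A Γ(F, i ''ᵁ ⊤) :=
  (inferInstance : Module A Γ(F.restrict i, ⊤))

lemma modI_smul (F : Y.Modules) (a : A) (x : Γ(F, i ''ᵁ ⊤)) :
    letI := modI i F
    a • x = ((i.appIso ⊤).inv ((Scheme.ΓSpecIso A).inv a)) • x := by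
  letI := modI i F
  change (a • (show Γ(F.restrict i, ⊤) from x)) = _
  rw [Scheme.Modules.smul_Spec_def]
  have : ((Spec A).presheaf.map (⊤ : (Spec A).Opens).leTop.op) = 𝟙 _ := by
    rw [show (⊤ : (Spec A).Opens).leTop.op = 𝟙 _ from rfl, (Spec A).presheaf.map_id]
  rw [this]
  rfl

/-- The comparison equivalence `B ⊗ Γ(F, V) ≃ Γ(f^*F, U)`. -/
noncomputable def pbEquiv (F : Y.Modules) [F.IsQuasicoherent] :
    letI := φ.hom.toAlgebra
    letI := modI i F
    letI := modI j ((Scheme.Modules.pullback f).obj F)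
    (B ⊗[A] Γ(F, i ''ᵁ ⊤)) ≃ₗ[B] Γ((Scheme.Modules.pullback f).obj F, j ''ᵁ ⊤) :=
  letI := φ.hom.toAlgebra
  letI := modI i F
  letI := modI j ((Scheme.Modules.pullback f).obj F)
  ((specIso φ (F.restrict i)) ≪≫ (moduleSpecΓFunctor (R := B)).mapIso
    ((beta f j i (Spec.map φ) comm).app F).symm).toLinearEquiv

lemma pbEquiv_one_tmul (F : Y.Modules) [F.IsQuasicoherent] (x : Γ(F, i ''ᵁ ⊤)) :
    letI := φ.hom.toAlgebra
    letI := modI i F
    letI := modI j ((Scheme.Modules.pullback f).obj F)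
    pbEquiv f j i φ comm F ((1 : B) ⊗ₜ[A] x) = cF f j i φ comm F x := by
  letI := φ.hom.toAlgebra
  letI := modI i F
  letI := modI j ((Scheme.Modules.pullback f).obj F)
  have h1 := specIso_hom_one_tmul φ (F.restrict i) x
  have h2 := c0_eq_beta_cF f j i φ comm F x
  have h3 : ((beta f j i (Spec.map φ) comm).inv.app F).app ⊤
      (((beta f j i (Spec.map φ) comm).hom.app F).app ⊤ (cF f j i φ comm F x)) =
      cF f j i φ comm F x :=
    iso_hom_inv_app (Z := Spec B) (M := ((Scheme.Modules.pullback f).obj F).restrict j)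
      ((beta f j i (Spec.map φ) comm).app F) ⊤ (cF f j i φ comm F x)
  refine Eq.trans ?_ h3
  refine congrArg (((beta f j i (Spec.map φ) comm).inv.app F).app ⊤) ?_
  exact h1.trans h2

end
end PBH8

namespace PBH8
section
open TensorProduct
variable {X Y : Scheme.{u}} (f : X ⟶ Y) {A B : CommRingCat.{u}}
  (j : Spec B ⟶ X) (i : Spec A ⟶ Y) (φ : A ⟶ B)
  [IsOpenImmersion j] [IsOpenImmersion i] (comm : j ≫ f = Spec.map φ ≫ i)

/-- `cF` as an `A`-linear map. -/
noncomputable def cFLin (F : Y.Modules) [F.IsQuasicoherent] :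
    letI := φ.hom.toAlgebra
    letI := modI i F
    letI := modI j ((Scheme.Modules.pullback f).obj F)
    letI : Module A Γ((Scheme.Modules.pullback f).obj F, j ''ᵁ ⊤) := Module.compHom _ φ.hom
    Γ(F, i ''ᵁ ⊤) →ₗ[A] Γ((Scheme.Modules.pullback f).obj F, j ''ᵁ ⊤) :=
  letI := φ.hom.toAlgebra
  letI := modI i F
  letI := modI j ((Scheme.Modules.pullback f).obj F)
  letI : Module A Γ((Scheme.Modules.pullback f).obj F, j ''ᵁ ⊤) := Module.compHom _ φ.hom
  haveI : IsScalarTower A B Γ((Scheme.Modules.pullback f).obj F, j ''ᵁ ⊤) :=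
    IsScalarTower.of_algebraMap_smul fun _ _ => rfl
  ((pbEquiv f j i φ comm F).toLinearMap.restrictScalars A).comp
    ((TensorProduct.mk A B Γ(F, i ''ᵁ ⊤)) 1)

lemma cFLin_apply (F : Y.Modules) [F.IsQuasicoherent] (x : Γ(F, i ''ᵁ ⊤)) :
    cFLin f j i φ comm F x = cF f j i φ comm F x :=
  pbEquiv_one_tmul f j i φ comm F x

theorem isBaseChange_cFLin (F : Y.Modules) [F.IsQuasicoherent] :
    letI := φ.hom.toAlgebra
    letI := modI i F
    letI := modI j ((Scheme.Modules.pullback f).obj F)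
    letI : Module A Γ((Scheme.Modules.pullback f).obj F, j ''ᵁ ⊤) := Module.compHom _ φ.hom
    haveI : IsScalarTower A B Γ((Scheme.Modules.pullback f).obj F, j ''ᵁ ⊤) :=
      IsScalarTower.of_algebraMap_smul fun _ _ => rfl
    IsBaseChange B (cFLin f j i φ comm F) := by
  letI := φ.hom.toAlgebra
  letI := modI i F
  letI := modI j ((Scheme.Modules.pullback f).obj F)
  letI : Module A Γ((Scheme.Modules.pullback f).obj F, j ''ᵁ ⊤) := Module.compHom _ φ.hom
  haveI : IsScalarTower A B Γ((Scheme.Modules.pullback f).obj F, j ''ᵁ ⊤) :=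
    IsScalarTower.of_algebraMap_smul fun _ _ => rfl
  exact IsBaseChange.of_equiv (pbEquiv f j i φ comm F) (fun x => rfl)

end
end PBH8
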