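import Groth.Agent.Lib.NoethFlatModel_helper2

/-!
# Noetherian models of proper flat families: transfer to the image subalgebra (helper2)
APPEND-ONLY once landed.
-/

set_option autoImplicit false
set_option maxHeartbeats 1000000
set_option linter.style.haveILetI false
set_option linter.unusedSectionVars false
set_option linter.unusedVariables false
universe u

open CategoryTheory CategoryTheory.Limits AlgebraicGeometry TopologicalSpace Opposite TensorProduct

namespace Groth.Agent.Lib.PBCH2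

open Groth.Agent.Lib.LimBaseChangeH7 Groth.Agent.Lib.LimDescFPH7 Groth.Agent.Lib.LimMod
  Groth.Agent.Lib.NoethFlatModel

/-- Transfer of a proper model with module from a finite type `ℤ`-algebra `B ⟶ A` to the
subalgebra `range (B ⟶ A)` of `A`. -/
theorem model_of_stage_mod_proper (A : Type u) [CommRing A] (B : CommRingCat.{u})
    (ι : B ⟶ CommRingCat.of A) (hft : Algebra.FiniteType ℤ B) {X Xj : Scheme.{u}}
    (f : X ⟶ Spec (CommRingCat.of A)) (fj : Xj ⟶ Spec B) (q : X ⟶ Xj)
    [LocallyOfFinitePresentation fj] [IsProper fj]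
    (hpb : IsPullback q f fj (Spec.map ι)) (Fj : Xj.Modules) [Fj.IsQuasicoherent]
    [SheafOfModules.IsFinitePresentation (R := Xj.ringCatSheaf) Fj] :
    ∃ (A₀ : Subalgebra ℤ A) (_ : A₀.FG) (X₀ : Scheme.{u})
      (f₀ : X₀ ⟶ Spec (CommRingCat.of ↥A₀)) (_ : IsProper f₀)
      (F₀ : X₀.Modules) (_ : Coh.IsCoh F₀) (q₀ : X ⟶ X₀)
      (_ : IsPullback q₀ f f₀ (Spec.map (CommRingCat.ofHom A₀.val.toRingHom)))
      (_ : (Scheme.Modules.pullback q₀).obj F₀ ≅ (Scheme.Modules.pullback q).obj Fj)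
      (r : X₀ ⟶ Xj), q₀ ≫ r = q ∧
        ∀ x₀ : X₀, FlatMod.IsFlatOverAt fj Fj (r x₀) → FlatMod.IsFlatOverAt f₀ F₀ x₀ := by
  let φ' : B →ₐ[ℤ] A := ι.hom.toIntAlgHom
  have hfg : φ'.range.FG := by
    have h1 : (⊤ : Subalgebra ℤ B).FG := hft.out
    have h2 := h1.map φ'
    rwa [Algebra.map_top] at h2
  let ψc : B ⟶ CommRingCat.of φ'.range := CommRingCat.ofHom φ'.rangeRestrict.toRingHom
  have hψ : ψc ≫ CommRingCat.ofHom φ'.range.val.toRingHom = ι := by
    ext x
    rfl
  have hw : q ≫ fj = (f ≫ Spec.map (CommRingCat.ofHom φ'.range.val.toRingHom)) ≫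
      Spec.map ψc := by
    rw [Category.assoc, ← Spec.map_comp, hψ]
    exact hpb.w
  have hsq := IsPullback.of_hasPullback fj (Spec.map ψc)
  haveI : LocallyOfFinitePresentation (pullback.snd fj (Spec.map ψc)) :=
    MorphismProperty.pullback_snd _ _ inferInstance
  have hF₀ : Coh.IsCoh ((Scheme.Modules.pullback (pullback.fst fj (Spec.map ψc))).obj Fj) := by
    haveI := FpqcH8.isFP_pullback (pullback.fst fj (Spec.map ψc)) Fj
    exact ⟨PBH8.isQuasicoherent_pullback _ Fj, inferInstance⟩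
  refine ⟨φ'.range, hfg, pullback fj (Spec.map ψc), pullback.snd _ _,
    MorphismProperty.pullback_snd _ _ inferInstance,
    (Scheme.Modules.pullback (pullback.fst fj (Spec.map ψc))).obj Fj, hF₀,
    pullback.lift q (f ≫ Spec.map (CommRingCat.ofHom φ'.range.val.toRingHom)) hw, ?_,
    (DescH8.pbIso _ (pullback.fst fj (Spec.map ψc)) q (pullback.lift_fst _ _ _)).app Fj,
    pullback.fst _ _, pullback.lift_fst _ _ _, ?_⟩
  · refine IsPullback.of_right ?_ (pullback.lift_snd _ _ _) (IsPullback.of_hasPullback fj _)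
    rw [pullback.lift_fst, ← Spec.map_comp, hψ]
    exact hpb
  · intro x₀ h
    exact FlatBC2H8.isFlatOverAt_pullback hsq Fj x₀ h

end Groth.Agent.Lib.PBCH2
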