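import Mathlib

/-!
# Poincaré–Birkhoff–Witt theorem (helper4)

For a Lie algebra `L` over a field `k` with a basis `b` indexed by a linearly ordered type,
the ordered monomials in `ι (b i)` form a basis of the universal enveloping algebra.
The proof follows the classical construction of a representation of `L` on the polynomial
ring `k[X_i]` (Humphreys 17.4 / Jacobson).
-/

set_option autoImplicit false
set_option linter.unusedSectionVars false

namespace Groth.Agent.Lib.PBWRingH1

open MvPolynomial

universe u v w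

section Fin

variable {ι : Type w} [LinearOrder ι]

/-- the smallest element of the support of `m` (default `j` when `m = 0`). -/
noncomputable def lo (m : ι →₀ ℕ) (j : ι) : ι :=
  if hm : m = 0 then j else m.support.min' (Finsupp.support_nonempty_iff.mpr hm)

lemma lo_mem {m : ι →₀ ℕ} (hm : m ≠ 0) (j : ι) : lo m j ∈ m.support := by
  rw [lo, dif_neg hm]; exact Finset.min'_mem _ _

lemma lo_le {m : ι →₀ ℕ} (hm : m ≠ 0) (j : ι) {a : ι} (ha : a ∈ m.support) : lo m j ≤ a := by
  rw [lo, dif_neg hm]; exact Finset.min'_le _ _ ha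

lemma lo_eq {m : ι →₀ ℕ} {i : ι} (j : ι) (hi : i ∈ m.support) (h : ∀ a ∈ m.support, i ≤ a) :
    lo m j = i := by
  have hm : m ≠ 0 := by
    rintro rfl
    simp at hi
  exact le_antisymm (lo_le hm j hi) (h _ (lo_mem hm j))

lemma degree_eq_sum' (m : ι →₀ ℕ) : m.degree = m.sum fun _ e => e := rfl

lemma degree_sub_single {m : ι →₀ ℕ} {i : ι} (hi : i ∈ m.support) :
    (m - Finsupp.single i 1).degree + 1 = m.degree := by
  have h : m i ≠ 0 := Finsupp.mem_support_iff.mp hi
  have e := Finsupp.sub_add_single_one_cancel h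
  have := congrArg Finsupp.degree e
  rw [map_add, Finsupp.degree_single] at this
  exact this

lemma le_support_single_add {i j : ι} {m : ι →₀ ℕ} (hij : i ≤ j) (h : ∀ a ∈ m.support, i ≤ a) :
    ∀ a ∈ (Finsupp.single j 1 + m).support, i ≤ a := by
  intro a ha
  rcases Finset.mem_union.mp (Finsupp.support_add ha) with h1 | h1
  · have := Finsupp.support_single_subset h1
    rw [Finset.mem_singleton] at this
    rw [this]; exact hij
  · exact h a h1

end Fin

section Main

variable {k : Type u} [CommRing k] {L : Type v} [LieRing L] [LieAlgebra k L]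
  {ι : Type w} [LinearOrder ι] (b : Module.Basis ι k L)

lemma X_mul_mono (j : ι) (m : ι →₀ ℕ) :
    (X j : MvPolynomial ι k) * monomial m 1 = monomial (Finsupp.single j 1 + m) 1 := by
  rw [monomial_single_add, pow_one]

lemma mono_deg_le {m : ι →₀ ℕ} {n : ℕ} (h : m.degree ≤ n) :
    (monomial m (1 : k)).totalDegree ≤ n := by
  have := totalDegree_monomial_le m (1 : k)
  rw [degree_eq_sum'] at h
  exact this.trans h

lemma gen1 (N : Submodule k (MvPolynomial ι k))
    (f : MvPolynomial ι k →ₗ[k] MvPolynomial ι k) (d : ℕ)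
    (h : ∀ m : ι →₀ ℕ, m.degree ≤ d → f (monomial m 1) ∈ N)
    (p : MvPolynomial ι k) (hp : p.totalDegree ≤ d) : f p ∈ N := by
  have e : f p = ∑ v ∈ p.support, coeff v p • f (monomial v 1) := by
    conv_lhs => rw [p.as_sum]
    rw [map_sum]
    refine Finset.sum_congr rfl fun v _ => ?_
    rw [← map_smul, smul_monomial, smul_eq_mul, mul_one]
  rw [e]
  refine N.sum_mem fun v hv => N.smul_mem _ (h v ?_)
  rw [degree_eq_sum']
  exact (le_totalDegree hv).trans hp

lemma gen2 (N : Submodule k (MvPolynomial ι k))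
    (f : L →ₗ[k] MvPolynomial ι k →ₗ[k] MvPolynomial ι k) (d : ℕ)
    (h : ∀ (j : ι) (m : ι →₀ ℕ), m.degree ≤ d → f (b j) (monomial m 1) ∈ N)
    (x : L) (p : MvPolynomial ι k) (hp : p.totalDegree ≤ d) : f x p ∈ N := by
  have hx : x ∈ Submodule.span k (Set.range b) := by rw [b.span_eq]; trivial
  induction hx using Submodule.span_induction with
  | mem y hy =>
    obtain ⟨j, rfl⟩ := hy
    exact gen1 N (f (b j)) d (h j) p hp
  | zero => rw [map_zero, LinearMap.zero_apply]; exact N.zero_mem
  | add y z _ _ hy hz => rw [map_add, LinearMap.add_apply]; exact N.add_mem hy hz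
  | smul c y _ hy => rw [map_smul, LinearMap.smul_apply]; exact N.smul_mem _ hy

lemma gen3 (N : Submodule k (MvPolynomial ι k))
    (f : L →ₗ[k] L →ₗ[k] MvPolynomial ι k →ₗ[k] MvPolynomial ι k) (d : ℕ)
    (h : ∀ (i j : ι) (m : ι →₀ ℕ), m.degree ≤ d → f (b i) (b j) (monomial m 1) ∈ N)
    (x y : L) (p : MvPolynomial ι k) (hp : p.totalDegree ≤ d) : f x y p ∈ N := by
  refine gen2 b N (f x) d (fun j m hm => ?_) y p hp
  have := gen2 b N (f.flip (b j)) d (fun i m' hm' => by
    rw [LinearMap.flip_apply]; exact h i j m' hm') x (monomial m 1) (mono_deg_le hm)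
  rwa [LinearMap.flip_apply] at this

/-- the linear map `L → k[X]` sending `b j` to `X j`. -/
noncomputable def sig : L →ₗ[k] MvPolynomial ι k :=
  b.constr k (fun j => (X j : MvPolynomial ι k))

lemma sig_basis (j : ι) : sig b (b j) = X j := by
  rw [sig, Module.Basis.constr_basis]

lemma sig_deg (x : L) : (sig b x).totalDegree ≤ 1 := by
  have hx : x ∈ Submodule.span k (Set.range b) := by rw [b.span_eq]; trivial
  induction hx using Submodule.span_induction with
  | mem y hy =>
    obtain ⟨j, rfl⟩ := hy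
    rw [sig_basis]
    have := totalDegree_monomial_le (Finsupp.single j 1) (1 : k)
    rw [Finsupp.sum_single_index rfl] at this
    exact this
  | zero => rw [map_zero, totalDegree_zero]; exact Nat.zero_le _
  | add y z _ _ hy hz => rw [map_add]; exact (totalDegree_add _ _).trans (max_le hy hz)
  | smul c y _ hy => rw [map_smul]; exact (totalDegree_smul_le _ _).trans hy

lemma sig_mul_deg (x : L) (p : MvPolynomial ι k) (d : ℕ) (hp : p.totalDegree ≤ d) :
    (sig b x * p).totalDegree ≤ d + 1 := by
  have := totalDegree_mul (sig b x) p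
  have h1 := sig_deg b x
  omega

/-- one step of the recursive definition. -/
noncomputable def stepVal (r : L →ₗ[k] MvPolynomial ι k →ₗ[k] MvPolynomial ι k) (n : ℕ) (j : ι)
    (m : ι →₀ ℕ) : MvPolynomial ι k :=
  if m.degree ≤ n then r (b j) (monomial m 1)
  else if j ≤ lo m j then X j * monomial m 1
  else X j * monomial m 1
    + r (b (lo m j)) (r (b j) (monomial (m - Finsupp.single (lo m j) 1) 1)
        - X j * monomial (m - Finsupp.single (lo m j) 1) 1)
    + r ⁅b j, b (lo m j)⁆ (monomial (m - Finsupp.single (lo m j) 1) 1)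

lemma constr_mono (g : (ι →₀ ℕ) → MvPolynomial ι k) (m : ι →₀ ℕ) :
    (basisMonomials ι k).constr k g (monomial m 1) = g m := by
  have h2 := (basisMonomials ι k).constr_basis k g m
  simpa only [coe_basisMonomials] using h2

noncomputable def stepLin (r : L →ₗ[k] MvPolynomial ι k →ₗ[k] MvPolynomial ι k) (n : ℕ) :
    L →ₗ[k] MvPolynomial ι k →ₗ[k] MvPolynomial ι k :=
  b.constr k (fun j => (basisMonomials ι k).constr k (fun m => stepVal b r n j m))

lemma stepLin_apply (r : L →ₗ[k] MvPolynomial ι k →ₗ[k] MvPolynomial ι k) (n : ℕ) (j : ι)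
    (m : ι →₀ ℕ) : stepLin b r n (b j) (monomial m 1) = stepVal b r n j m := by
  rw [stepLin, Module.Basis.constr_basis, constr_mono]

noncomputable def rn : ℕ → (L →ₗ[k] MvPolynomial ι k →ₗ[k] MvPolynomial ι k)
  | 0 => (LinearMap.mul k (MvPolynomial ι k)).comp (sig b)
  | n + 1 => stepLin b (rn n) n

lemma rn_zero_apply (x : L) (p : MvPolynomial ι k) : rn b 0 x p = sig b x * p := by
  simp [rn]

lemma rn_succ_apply (n : ℕ) (j : ι) (m : ι →₀ ℕ) :
    rn b (n + 1) (b j) (monomial m 1) = stepVal b (rn b n) n j m := by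
  rw [rn, stepLin_apply]

/-- the representation. -/
noncomputable def rho : L →ₗ[k] MvPolynomial ι k →ₗ[k] MvPolynomial ι k :=
  b.constr k (fun j => (basisMonomials ι k).constr k
    (fun m => rn b m.degree (b j) (monomial m 1)))

lemma rho_apply (j : ι) (m : ι →₀ ℕ) :
    rho b (b j) (monomial m 1) = rn b m.degree (b j) (monomial m 1) := by
  rw [rho, Module.Basis.constr_basis, constr_mono]

lemma B_to_B' (r : L →ₗ[k] MvPolynomial ι k →ₗ[k] MvPolynomial ι k)
    (h : ∀ (x : L) (d : ℕ) (p : MvPolynomial ι k), p.totalDegree ≤ d →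
      (r x p - sig b x * p).totalDegree ≤ d)
    (x : L) (d : ℕ) (p : MvPolynomial ι k) (hp : p.totalDegree ≤ d) :
    (r x p).totalDegree ≤ d + 1 := by
  have h1 := h x d p hp
  have h2 := sig_mul_deg b x p d hp
  have e : r x p = (r x p - sig b x * p) + sig b x * p := by ring
  rw [e]
  exact (totalDegree_add _ _).trans (max_le (h1.trans (Nat.le_succ d)) h2)

lemma rn_B (n : ℕ) : ∀ (x : L) (d : ℕ) (p : MvPolynomial ι k), p.totalDegree ≤ d →
    (rn b n x p - sig b x * p).totalDegree ≤ d := by
  induction n with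
  | zero =>
    intro x d p _
    rw [rn_zero_apply, sub_self, totalDegree_zero]; exact Nat.zero_le _
  | succ n ih =>
    intro x d p hp
    have hbase : ∀ (j : ι) (m : ι →₀ ℕ), m.degree ≤ d →
        (rn b (n + 1) - (LinearMap.mul k (MvPolynomial ι k)).comp (sig b)) (b j) (monomial m 1)
          ∈ restrictTotalDegree ι k d := by
      intro j m hm
      rw [mem_restrictTotalDegree]
      simp only [LinearMap.sub_apply, LinearMap.comp_apply, LinearMap.mul_apply', sig_basis]
      rw [rn_succ_apply]
      unfold stepVal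
      split_ifs with h1 h2
      · have := ih (b j) d (monomial m 1) (mono_deg_le hm)
        rwa [sig_basis] at this
      · rw [sub_self, totalDegree_zero]; exact Nat.zero_le _
      · have hm0 : m ≠ 0 := by
          rintro rfl
          exact h1 (by rw [map_zero]; exact Nat.zero_le _)
        have hi := lo_mem hm0 j
        have hdeg := degree_sub_single hi
        have hy : (rn b n (b j) (monomial (m - Finsupp.single (lo m j) 1) 1)
            - X j * monomial (m - Finsupp.single (lo m j) 1) 1).totalDegree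
              ≤ (m - Finsupp.single (lo m j) 1).degree := by
          have := ih (b j) _ (monomial (m - Finsupp.single (lo m j) 1) 1) (mono_deg_le le_rfl)
          rwa [sig_basis] at this
        have hA := B_to_B' b (rn b n) ih (b (lo m j)) _ _ hy
        have hB := B_to_B' b (rn b n) ih ⁅b j, b (lo m j)⁆ _ _
          (mono_deg_le (le_refl (m - Finsupp.single (lo m j) 1).degree))
        have e : ∀ A B C : MvPolynomial ι k, A + B + C - A = B + C := by intro A B C; ring
        rw [e]
        refine (totalDegree_add _ _).trans (max_le (hA.trans ?_) (hB.trans ?_)) <;> omega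
    have key := gen2 b (restrictTotalDegree ι k d) _ d hbase x p hp
    rw [mem_restrictTotalDegree] at key
    simpa only [LinearMap.sub_apply, LinearMap.comp_apply, LinearMap.mul_apply'] using key

lemma rn_stab_succ (n : ℕ) (j : ι) (m : ι →₀ ℕ) (h : m.degree ≤ n) :
    rn b (n + 1) (b j) (monomial m 1) = rn b n (b j) (monomial m 1) := by
  rw [rn_succ_apply, stepVal, if_pos h]

lemma rn_stab (n N : ℕ) (j : ι) (m : ι →₀ ℕ) (h : m.degree ≤ n) (hN : n ≤ N) :
    rn b N (b j) (monomial m 1) = rn b n (b j) (monomial m 1) := by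
  induction N, hN using Nat.le_induction with
  | base => rfl
  | succ N hN ih => rw [rn_stab_succ b N j m (h.trans hN), ih]

lemma rn_eq_rho_mono (n : ℕ) (j : ι) (m : ι →₀ ℕ) (h : m.degree ≤ n) :
    rn b n (b j) (monomial m 1) = rho b (b j) (monomial m 1) := by
  rw [rho_apply, rn_stab b m.degree n j m le_rfl h]

lemma rn_eq_rho (n : ℕ) (x : L) (p : MvPolynomial ι k) (hp : p.totalDegree ≤ n) :
    rn b n x p = rho b x p := by
  have := gen2 b ⊥ (rn b n - rho b) n (fun j m hm => by
    rw [Submodule.mem_bot, LinearMap.sub_apply, LinearMap.sub_apply,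
      rn_eq_rho_mono b n j m hm, sub_self]) x p hp
  rw [Submodule.mem_bot, LinearMap.sub_apply, LinearMap.sub_apply, sub_eq_zero] at this
  exact this

lemma rho_B (x : L) (d : ℕ) (p : MvPolynomial ι k) (hp : p.totalDegree ≤ d) :
    (rho b x p - sig b x * p).totalDegree ≤ d := by
  rw [← rn_eq_rho b d x p hp]; exact rn_B b d x d p hp

lemma rho_zero (j : ι) : rho b (b j) (monomial 0 1) = X j * monomial 0 1 := by
  have h0 : (0 : ι →₀ ℕ).degree = 0 := map_zero _
  rw [rho_apply, h0, rn_zero_apply, sig_basis]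

lemma rho_unfold (j : ι) (m : ι →₀ ℕ) (hm : m ≠ 0) :
    rho b (b j) (monomial m 1) =
      if j ≤ lo m j then X j * monomial m 1
      else X j * monomial m 1
        + rho b (b (lo m j)) (rho b (b j) (monomial (m - Finsupp.single (lo m j) 1) 1)
            - X j * monomial (m - Finsupp.single (lo m j) 1) 1)
        + rho b ⁅b j, b (lo m j)⁆ (monomial (m - Finsupp.single (lo m j) 1) 1) := by
  have hi : lo m j ∈ m.support := lo_mem hm j
  have hdeg := degree_sub_single hi
  obtain ⟨n, hn⟩ : ∃ n, m.degree = n + 1 := ⟨_, hdeg.symm⟩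
  have hn' : (m - Finsupp.single (lo m j) 1).degree = n := by omega
  have hnot : ¬ m.degree ≤ n := by omega
  rw [rho_apply, hn, rn_succ_apply]
  unfold stepVal
  rw [if_neg hnot]
  split_ifs with h
  · rfl
  · have hP : (monomial (m - Finsupp.single (lo m j) 1) (1 : k)).totalDegree ≤ n :=
      mono_deg_le hn'.le
    have e1 : rn b n (b j) (monomial (m - Finsupp.single (lo m j) 1) 1)
        = rho b (b j) (monomial (m - Finsupp.single (lo m j) 1) 1) :=
      rn_eq_rho_mono b n j _ hn'.le
    have hy : (rho b (b j) (monomial (m - Finsupp.single (lo m j) 1) 1)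
        - X j * monomial (m - Finsupp.single (lo m j) 1) 1).totalDegree ≤ n := by
      have := rho_B b (b j) n _ hP
      rwa [sig_basis] at this
    rw [e1, rn_eq_rho b n _ _ hy, rn_eq_rho b n _ _ hP]

lemma rho_A (j : ι) (m : ι →₀ ℕ) (h : ∀ a ∈ m.support, j ≤ a) :
    rho b (b j) (monomial m 1) = X j * monomial m 1 := by
  by_cases hm : m = 0
  · subst hm; exact rho_zero b j
  · rw [rho_unfold b j m hm, if_pos (h _ (lo_mem hm j))]

lemma rho_C1 (i j : ι) (m' : ι →₀ ℕ) (hij : i < j) (h : ∀ a ∈ m'.support, i ≤ a) :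
    rho b (b j) (rho b (b i) (monomial m' 1)) =
      rho b (b i) (rho b (b j) (monomial m' 1)) + rho b ⁅b j, b i⁆ (monomial m' 1) := by
  have hA : rho b (b i) (monomial m' 1) = monomial (Finsupp.single i 1 + m') 1 := by
    rw [rho_A b i m' h, X_mul_mono]
  have him : i ∈ (Finsupp.single i 1 + m').support := by
    rw [Finsupp.mem_support_iff, Finsupp.add_apply, Finsupp.single_eq_same]; omega
  have hmin : ∀ a ∈ (Finsupp.single i 1 + m').support, i ≤ a := le_support_single_add le_rfl h
  have hm0 : Finsupp.single i 1 + m' ≠ 0 := by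
    intro h0; rw [h0] at him; simp at him
  have hlo : lo (Finsupp.single i 1 + m') j = i := lo_eq j him hmin
  have hsub : Finsupp.single i 1 + m' - Finsupp.single i 1 = m' := add_tsub_cancel_left _ _
  have h2 : rho b (b i) (X j * monomial m' 1) = X j * monomial (Finsupp.single i 1 + m') 1 := by
    rw [X_mul_mono j m', rho_A b i _ (le_support_single_add hij.le h), X_mul_mono i,
      X_mul_mono j (Finsupp.single i 1 + m'), add_left_comm]
  rw [hA, rho_unfold b j _ hm0, hlo, if_neg (not_le.mpr hij), hsub, map_sub, h2]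
  abel

/-- the trilinear "commutator defect". -/
noncomputable def commMap : L →ₗ[k] L →ₗ[k] MvPolynomial ι k →ₗ[k] MvPolynomial ι k :=
  LinearMap.mk₂ k
    (fun x y => (rho b x).comp (rho b y) - (rho b y).comp (rho b x) - rho b ⁅x, y⁆)
    (fun x x' y => by
      refine LinearMap.ext fun p => ?_
      simp only [map_add, add_lie, LinearMap.sub_apply, LinearMap.comp_apply, LinearMap.add_apply]
      abel)
    (fun c x y => by
      refine LinearMap.ext fun p => ?_
      simp only [map_smul, smul_lie, LinearMap.sub_apply, LinearMap.comp_apply,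
        LinearMap.smul_apply, smul_sub])
    (fun x y y' => by
      refine LinearMap.ext fun p => ?_
      simp only [map_add, lie_add, LinearMap.sub_apply, LinearMap.comp_apply, LinearMap.add_apply]
      abel)
    (fun c x y => by
      refine LinearMap.ext fun p => ?_
      simp only [map_smul, lie_smul, LinearMap.sub_apply, LinearMap.comp_apply,
        LinearMap.smul_apply, smul_sub])

lemma commMap_apply (x y : L) (p : MvPolynomial ι k) :
    commMap b x y p = rho b x (rho b y p) - rho b y (rho b x p) - rho b ⁅x, y⁆ p := by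
  simp only [commMap, LinearMap.mk₂_apply, LinearMap.sub_apply, LinearMap.comp_apply]

/-- the commutation relation on polynomials of degree `≤ d`. -/
def Comm (d : ℕ) : Prop :=
  ∀ (x y : L) (p : MvPolynomial ι k), p.totalDegree ≤ d →
    rho b x (rho b y p) = rho b y (rho b x p) + rho b ⁅x, y⁆ p

lemma Comm_of_basis (d : ℕ)
    (h : ∀ (i j : ι) (m : ι →₀ ℕ), m.degree ≤ d →
      rho b (b i) (rho b (b j) (monomial m 1)) =
        rho b (b j) (rho b (b i) (monomial m 1)) + rho b ⁅b i, b j⁆ (monomial m 1)) :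
    Comm b d := by
  intro x y p hp
  have := gen3 b ⊥ (commMap b) d (fun i j m hm => by
    rw [Submodule.mem_bot, commMap_apply, h i j m hm]; abel) x y p hp
  rw [Submodule.mem_bot, commMap_apply, sub_sub, sub_eq_zero] at this
  exact this

lemma star (e : ℕ) (IH : Comm b e) (l n mu : ι) (Ψ : ι →₀ ℕ) (hΨ : Ψ.degree ≤ e)
    (hnl : n < l) (hnm : n ≤ mu) (hn : ∀ a ∈ Ψ.support, n ≤ a) :
    rho b (b l) (rho b (b n) (rho b (b mu) (monomial Ψ 1))) =
      rho b (b n) (rho b (b l) (rho b (b mu) (monomial Ψ 1)))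
        + rho b ⁅b l, b n⁆ (rho b (b mu) (monomial Ψ 1)) := by
  obtain ⟨w, hwdeg, hsplit⟩ : ∃ w : MvPolynomial ι k, w.totalDegree ≤ e ∧
      rho b (b mu) (monomial Ψ 1) = X mu * monomial Ψ 1 + w := by
    refine ⟨rho b (b mu) (monomial Ψ 1) - X mu * monomial Ψ 1, ?_, by ring⟩
    have := rho_B b (b mu) e (monomial Ψ 1) (mono_deg_le hΨ)
    rwa [sig_basis] at this
  have h1 := rho_C1 b n l (Finsupp.single mu 1 + Ψ) hnl (le_support_single_add hnm hn)
  rw [← X_mul_mono] at h1
  have h2 := IH (b l) (b n) w hwdeg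
  rw [hsplit]
  simp only [map_add]
  rw [h1, h2]
  abel

/-- the relation for basis elements and a monomial. -/
def Rel (l mu : ι) (T : ι →₀ ℕ) : Prop :=
  rho b (b l) (rho b (b mu) (monomial T 1)) =
    rho b (b mu) (rho b (b l) (monomial T 1)) + rho b ⁅b l, b mu⁆ (monomial T 1)

lemma rel_symm {l mu : ι} {T : ι →₀ ℕ} (h : Rel b l mu T) : Rel b mu l T := by
  unfold Rel at h ⊢
  have e : ⁅b mu, b l⁆ = -⁅b l, b mu⁆ := (lie_skew (b mu) (b l)).symm
  rw [e, map_neg, LinearMap.neg_apply, h]
  abel

lemma rel_self (l : ι) (T : ι →₀ ℕ) : Rel b l l T := by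
  unfold Rel
  rw [lie_self, map_zero, LinearMap.zero_apply, add_zero]

lemma rel_C1 {l mu : ι} {T : ι →₀ ℕ} (h : mu < l) (hT : ∀ a ∈ T.support, mu ≤ a) :
    Rel b l mu T :=
  rho_C1 b mu l T h hT

lemma rel_hard' (e : ℕ) (IHe : Comm b e) (l mu n : ι) (Ψ : ι →₀ ℕ) (hΨ : Ψ.degree ≤ e)
    (hnl : n < l) (hnm : n < mu) (hΨn : ∀ a ∈ Ψ.support, n ≤ a) :
    Rel b l mu (Finsupp.single n 1 + Ψ) := by
  have hP : (monomial Ψ (1 : k)).totalDegree ≤ e := mono_deg_le hΨ
  have h1 : rho b (b n) (monomial Ψ 1) = monomial (Finsupp.single n 1 + Ψ) 1 := by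
    rw [rho_A b n Ψ hΨn, X_mul_mono]
  unfold Rel
  rw [← h1]
  have C1m := rho_C1 b n mu Ψ hnm hΨn
  have C1l := rho_C1 b n l Ψ hnl hΨn
  have e1 : rho b (b l) (rho b (b mu) (rho b (b n) (monomial Ψ 1))) =
      rho b (b l) (rho b (b n) (rho b (b mu) (monomial Ψ 1)))
        + rho b (b l) (rho b ⁅b mu, b n⁆ (monomial Ψ 1)) := by
    rw [C1m, map_add]
  have e2 : rho b (b mu) (rho b (b l) (rho b (b n) (monomial Ψ 1))) =
      rho b (b mu) (rho b (b n) (rho b (b l) (monomial Ψ 1)))
        + rho b (b mu) (rho b ⁅b l, b n⁆ (monomial Ψ 1)) := by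
    rw [C1l, map_add]
  have e3 := star b e IHe l n mu Ψ hΨ hnl hnm.le hΨn
  have e4 := star b e IHe mu n l Ψ hΨ hnm hnl.le hΨn
  have e5 := IHe (b l) ⁅b mu, b n⁆ (monomial Ψ 1) hP
  have e6 := IHe (b mu) ⁅b l, b n⁆ (monomial Ψ 1) hP
  have e7 : rho b (b n) (rho b (b l) (rho b (b mu) (monomial Ψ 1))) =
      rho b (b n) (rho b (b mu) (rho b (b l) (monomial Ψ 1)))
        + rho b (b n) (rho b ⁅b l, b mu⁆ (monomial Ψ 1)) := by
    rw [IHe (b l) (b mu) (monomial Ψ 1) hP, map_add]
  have e8 := IHe (b n) ⁅b l, b mu⁆ (monomial Ψ 1) hP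
  have jac : ⁅b n, ⁅b l, b mu⁆⁆ + ⁅b l, ⁅b mu, b n⁆⁆ = ⁅b mu, ⁅b l, b n⁆⁆ := by
    have h := lie_jacobi (b l) (b mu) (b n)
    rw [← lie_skew (b n) (b l), lie_neg] at h
    calc ⁅b n, ⁅b l, b mu⁆⁆ + ⁅b l, ⁅b mu, b n⁆⁆
        = (⁅b l, ⁅b mu, b n⁆⁆ + -⁅b mu, ⁅b l, b n⁆⁆ + ⁅b n, ⁅b l, b mu⁆⁆)
            + ⁅b mu, ⁅b l, b n⁆⁆ := by abel
      _ = ⁅b mu, ⁅b l, b n⁆⁆ := by rw [h, zero_add]
  have e9 : rho b ⁅b n, ⁅b l, b mu⁆⁆ (monomial Ψ 1) + rho b ⁅b l, ⁅b mu, b n⁆⁆ (monomial Ψ 1) =
      rho b ⁅b mu, ⁅b l, b n⁆⁆ (monomial Ψ 1) := by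
    rw [← jac, map_add, LinearMap.add_apply]
  linear_combination e1 - e2 + e3 + e5 - e4 - e6 + e7 + e8 + e9

theorem comm_all (d : ℕ) : Comm b d := by
  induction d using Nat.strong_induction_on with
  | _ d IH =>
    apply Comm_of_basis
    intro l mu T hT
    change Rel b l mu T
    by_cases hT0 : T = 0
    · subst hT0
      have hv : ∀ (c : ι), ∀ a ∈ (0 : ι →₀ ℕ).support, c ≤ a := by
        intro c a ha; simp at ha
      rcases lt_trichotomy l mu with h | h | h
      · exact rel_symm b (rel_C1 b h (hv l))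
      · subst h; exact rel_self b l 0
      · exact rel_C1 b h (hv mu)
    · have key : ∀ (l mu : ι), lo T l < l → lo T l < mu → Rel b l mu T := by
        intro l mu hnl hnm
        have hn : lo T l ∈ T.support := lo_mem hT0 l
        have hdeg := degree_sub_single hn
        have hΨn : ∀ a ∈ (T - Finsupp.single (lo T l) 1).support, lo T l ≤ a :=
          fun a ha => lo_le hT0 l (Finsupp.support_tsub ha)
        have hTeq : Finsupp.single (lo T l) 1 + (T - Finsupp.single (lo T l) 1) = T := by
          rw [add_comm]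
          exact Finsupp.sub_add_single_one_cancel (Finsupp.mem_support_iff.mp hn)
        have := rel_hard' b _ (IH (T - Finsupp.single (lo T l) 1).degree (by omega)) l mu
          (lo T l) _ le_rfl hnl hnm hΨn
        rwa [hTeq] at this
      rcases lt_trichotomy l mu with h | h | h
      · by_cases hl : l ≤ lo T l
        · exact rel_symm b (rel_C1 b h (fun a ha => hl.trans (lo_le hT0 l ha)))
        · exact key l mu (not_le.mp hl) ((not_le.mp hl).trans h)
      · subst h; exact rel_self b l T
      · by_cases hm : mu ≤ lo T l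
        · exact rel_C1 b h (fun a ha => hm.trans (lo_le hT0 l ha))
        · exact key l mu ((not_le.mp hm).trans h) (not_le.mp hm)

end Main


section Inj

variable {k : Type u} [CommRing k] {L : Type v} [LieRing L] [LieAlgebra k L]
  {ι : Type w} [LinearOrder ι] (b : Module.Basis ι k L)

attribute [local instance 100] LieRing.ofAssociativeRing

/-- `rho` as a Lie algebra homomorphism into `End k[X]`. -/
noncomputable def rhoLie : L →ₗ⁅k⁆ Module.End k (MvPolynomial ι k) :=
  { (rho b : L →ₗ[k] Module.End k (MvPolynomial ι k)) with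
    map_lie' := by
      intro x y
      show rho b ⁅x, y⁆ = ⁅(rho b x : Module.End k (MvPolynomial ι k)), rho b y⁆
      refine LinearMap.ext fun p => ?_
      rw [LieRing.of_associative_ring_bracket]
      show rho b ⁅x, y⁆ p = rho b x (rho b y p) - rho b y (rho b x p)
      rw [comm_all b p.totalDegree x y p le_rfl]
      abel }

lemma rhoLie_apply (x : L) : rhoLie b x = rho b x := rfl

/-- evaluation of the action at `1`. -/
noncomputable def ev : UniversalEnvelopingAlgebra k L →ₗ[k] MvPolynomial ι k :=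
  (LinearMap.applyₗ (1 : MvPolynomial ι k)).comp
    (UniversalEnvelopingAlgebra.lift k (rhoLie b)).toLinearMap

lemma ev_apply (u : UniversalEnvelopingAlgebra k L) :
    ev b u = (UniversalEnvelopingAlgebra.lift k (rhoLie b) u) 1 := rfl

lemma ev_ι (x : L) : ev b (UniversalEnvelopingAlgebra.ι k x) = sig b x := by
  rw [ev_apply, UniversalEnvelopingAlgebra.lift_ι_apply]
  show rho b x 1 = sig b x
  have hx : x ∈ Submodule.span k (Set.range b) := by rw [b.span_eq]; trivial
  induction hx using Submodule.span_induction with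
  | mem y hy =>
    obtain ⟨j, rfl⟩ := hy
    have := rho_zero b j
    rw [sig_basis]
    simpa using this
  | zero => simp
  | add y z _ _ hy hz => rw [map_add, LinearMap.add_apply, hy, hz, map_add]
  | smul c y _ hy => rw [map_smul, LinearMap.smul_apply, hy, map_smul]

lemma sig_injective : Function.Injective (sig b) := by
  rw [← LinearMap.ker_eq_bot, LinearMap.ker_eq_bot']
  intro x hx
  have hrepr : ∀ j, b.repr x j = 0 := by
    intro j
    have h1 : sig b x = ∑ i ∈ (b.repr x).support, b.repr x i • (X i : MvPolynomial ι k) := by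
      conv_lhs => rw [← b.linearCombination_repr x, Finsupp.linearCombination_apply, Finsupp.sum,
        map_sum]
      refine Finset.sum_congr rfl fun i _ => ?_
      rw [map_smul, sig_basis]
    have h2 := congrArg (coeff (Finsupp.single j 1)) h1
    rw [hx, coeff_zero, coeff_sum] at h2
    simp only [coeff_smul, coeff_X', smul_eq_mul, mul_ite, mul_one, mul_zero] at h2
    rw [Finset.sum_eq_single j] at h2
    · simpa using h2.symm
    · intro i _ hij
      rw [if_neg]
      intro h
      exact hij (Finsupp.single_left_injective one_ne_zero h)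
    · intro hj
      rw [if_pos rfl]
      simpa using hj
  apply b.repr.injective
  ext j
  simp [hrepr j]

/-- PBW corollary over a commutative ring: for a free Lie algebra module, `L → U(L)` is injective. -/
theorem ι_injective {ι : Type w} [LinearOrder ι] (b : Module.Basis ι k L) :
    Function.Injective (UniversalEnvelopingAlgebra.ι k : L → UniversalEnvelopingAlgebra k L) := by
  intro x y h
  apply sig_injective b
  rw [← ev_ι, ← ev_ι, h]

end Inj

end Groth.Agent.Lib.PBWRingH1
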