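import Mathlib
import Groth.Prelude.Def_EGA41

/-!
# p-generators and p-independence in towers (helper3)

`A → C → B` with `C → B` injective and `B^p` contained in the image of `A`.
-/

set_option autoImplicit false
universe u
open EGA41

namespace Groth.Agent.Lib.PBasisTowerH3

section RInd
variable {R M : Type*} [CommRing R] [CommRing M] [Algebra R M]

/-- coefficientwise independence over the image of `R` in `M`. -/
def RInd (R : Type*) {M : Type*} [CommRing R] [CommRing M] [Algebra R M] {I : Type*} (v : I → M) : Prop :=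
  ∀ (s : Finset I) (g : I → R), ∑ i ∈ s, g i • v i = 0 → ∀ i ∈ s, algebraMap R M (g i) = 0

theorem linearIndependent_iff_rind (U : Subalgebra R M)
    (hU : Function.Surjective (algebraMap R U)) {I : Type*} (v : I → M) :
    LinearIndependent U v ↔ RInd R v := by
  rw [linearIndependent_iff']
  constructor
  · intro h s g hg i hi
    have h1 := h s (fun i => algebraMap R U (g i)) (by
      rw [← hg]
      refine Finset.sum_congr rfl fun j _ => ?_
      rw [algebraMap_smul]) i hi
    have h2 := congrArg (Subtype.val) h1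
    simpa using h2
  · intro h s g hg i hi
    choose γ hγ using hU
    have h1 := h s (fun i => γ (g i)) (by
      rw [← hg]
      refine Finset.sum_congr rfl fun j _ => ?_
      conv_rhs => rw [← hγ (g j)]
      rw [algebraMap_smul]) i hi
    apply Subtype.ext
    rw [← hγ (g i)]
    simpa using h1

theorem span_eq_top_iff (U : Subalgebra R M)
    (hU : Function.Surjective (algebraMap R U)) (s : Set M) :
    Submodule.span U s = ⊤ ↔ Submodule.span R s = ⊤ := by
  rw [← Submodule.restrictScalars_span R U hU s]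
  exact (Submodule.restrictScalars_eq_top_iff _ _ _).symm

end RInd

section PPower
variable (p : ℕ) {A B : Type u} [CommRing A] [CommRing B] [Algebra A B]

theorem surjective_algebraMap_pPower
    (hpow : ∀ b : B, b ^ p ∈ Set.range (algebraMap A B)) :
    Function.Surjective (algebraMap A (pPowerSubalgebra p A B)) := by
  have hbot : pPowerSubalgebra p A B = ⊥ := by
    refine le_bot_iff.mp (Algebra.adjoin_le ?_)
    rintro _ ⟨b, rfl⟩
    obtain ⟨a, ha⟩ := hpow b
    exact Algebra.mem_bot.mpr ⟨a, ha⟩
  rintro ⟨u, hu⟩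
  rw [hbot] at hu
  obtain ⟨a, ha⟩ := Algebra.mem_bot.mp hu
  exact ⟨a, Subtype.ext ha⟩

end PPower

section Tower
variable {A C B : Type*} [CommRing A] [CommRing C] [CommRing B] [Algebra A C] [Algebra C B]
  [Algebra A B] [IsScalarTower A C B]

theorem rind_tower (hinj : Function.Injective (algebraMap C B)) {E F : Type*}
    (a : E → C) (b : F → B) (ha : RInd A a) (hb : RInd C b) :
    RInd A (fun q : E × F => algebraMap C B (a q.1) * b q.2) := by
  classical
  intro s g hg q hq
  set s₁ := s.image Prod.fst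
  set s₂ := s.image Prod.snd
  set G : E × F → A := fun q => if q ∈ s then g q else 0 with hG
  have hsub : s ⊆ s₁ ×ˢ s₂ := by
    intro q hq
    exact Finset.mem_product.mpr ⟨Finset.mem_image_of_mem _ hq, Finset.mem_image_of_mem _ hq⟩
  have h1 : ∑ f ∈ s₂, (∑ e ∈ s₁, G (e, f) • a e) • b f = 0 := by
    have e1 : ∀ f, (∑ e ∈ s₁, G (e, f) • a e) • b f
        = ∑ e ∈ s₁, G (e, f) • (algebraMap C B (a e) * b f) := by
      intro f
      rw [Finset.sum_smul]
      refine Finset.sum_congr rfl fun e _ => ?_
      rw [smul_assoc, Algebra.smul_def (a e)]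
    simp_rw [e1]
    rw [Finset.sum_comm, ← Finset.sum_product (s := s₁) (t := s₂)
      (f := fun q => G q • (algebraMap C B (a q.1) * b q.2))]
    rw [← hg]
    symm
    rw [← Finset.sum_subset hsub (f := fun q => G q • (algebraMap C B (a q.1) * b q.2))]
    · refine Finset.sum_congr rfl fun q hq => ?_
      simp [hG, hq]
    · intro q _ hq
      simp [hG, hq]
  have hq1 : q.1 ∈ s₁ := Finset.mem_image_of_mem _ hq
  have hq2 : q.2 ∈ s₂ := Finset.mem_image_of_mem _ hq
  have h2 := hb s₂ (fun f => ∑ e ∈ s₁, G (e, f) • a e) h1 q.2 hq2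
  have h3 : ∑ e ∈ s₁, G (e, q.2) • a e = 0 := hinj (by rw [h2, map_zero])
  have h4 := ha s₁ (fun e => G (e, q.2)) h3 q.1 hq1
  have h5 : G (q.1, q.2) = g q := by simp [hG, hq]
  rw [h5] at h4
  rw [IsScalarTower.algebraMap_apply A C B, h4, map_zero]

theorem rind_of_tower {E F : Type*} (a : E → C) (b : F → B)
    (hspan : Submodule.span A (Set.range a) = ⊤)
    (hw : RInd A (fun q : E × F => algebraMap C B (a q.1) * b q.2)) : RInd C b := by
  classical
  intro s g hg f₀ hf₀
  have hex : ∀ f, ∃ l : E →₀ A, ∑ e ∈ l.support, l e • a e = g f := by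
    intro f
    have : g f ∈ Submodule.span A (Set.range a) := hspan ▸ Submodule.mem_top
    obtain ⟨l, hl⟩ := Finsupp.mem_span_range_iff_exists_finsupp.mp this
    exact ⟨l, hl⟩
  choose l hl using hex
  set t : Finset E := s.biUnion (fun f => (l f).support)
  have hl' : ∀ f ∈ s, ∑ e ∈ t, l f e • a e = g f := by
    intro f hf
    rw [← hl f]
    symm
    apply Finset.sum_subset (Finset.subset_biUnion_of_mem (fun f => (l f).support) hf)
    intro e _ he
    rw [Finsupp.notMem_support_iff.mp he, zero_smul]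
  have h1 : ∑ q ∈ t ×ˢ s, l q.2 q.1 • (algebraMap C B (a q.1) * b q.2) = 0 := by
    rw [Finset.sum_product_right (s := t) (t := s)
      (f := fun q => l q.2 q.1 • (algebraMap C B (a q.1) * b q.2))]
    rw [← hg]
    refine Finset.sum_congr rfl fun f hf => ?_
    rw [← hl' f hf, Finset.sum_smul]
    refine Finset.sum_congr rfl fun e _ => ?_
    rw [smul_assoc, Algebra.smul_def (a e)]
  have h2 := hw (t ×ˢ s) (fun q => l q.2 q.1) h1
  rw [← hl' f₀ hf₀, map_sum]
  refine Finset.sum_eq_zero fun e he => ?_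
  have := h2 (e, f₀) (Finset.mem_product.mpr ⟨he, hf₀⟩)
  rw [Algebra.smul_def, map_mul, ← IsScalarTower.algebraMap_apply, this, zero_mul]

end Tower

section Idx
variable (p : ℕ) {ι κ : Type u}

/-- reduced exponent vectors on a disjoint union. -/
noncomputable def idxEquiv : {e : (ι ⊕ κ) →₀ ℕ // ∀ i, e i < p} ≃
    {e : ι →₀ ℕ // ∀ i, e i < p} × {f : κ →₀ ℕ // ∀ i, f i < p} where
  toFun e := (⟨(Finsupp.sumFinsuppEquivProdFinsupp e.1).1, fun i => by
      rw [Finsupp.fst_sumFinsuppEquivProdFinsupp]; exact e.2 _⟩,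
    ⟨(Finsupp.sumFinsuppEquivProdFinsupp e.1).2, fun i => by
      rw [Finsupp.snd_sumFinsuppEquivProdFinsupp]; exact e.2 _⟩)
  invFun q := ⟨Finsupp.sumFinsuppEquivProdFinsupp.symm (q.1.1, q.2.1), fun i => by
    cases i with
    | inl i => rw [Finsupp.sumFinsuppEquivProdFinsupp_symm_inl]; exact q.1.2 i
    | inr i => rw [Finsupp.sumFinsuppEquivProdFinsupp_symm_inr]; exact q.2.2 i⟩
  left_inv e := by
    apply Subtype.ext
    simp
  right_inv q := by
    rcases q with ⟨⟨e, he⟩, ⟨f, hf⟩⟩
    simp

theorem pMonomial_sumElim {B : Type u} [CommRing B] (X : ι → B) (y : κ → B)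
    (e : (ι ⊕ κ) →₀ ℕ) :
    pMonomial (Sum.elim X y) e = pMonomial X (Finsupp.sumFinsuppEquivProdFinsupp e).1 *
      pMonomial y (Finsupp.sumFinsuppEquivProdFinsupp e).2 := by
  classical
  set e₁ := (Finsupp.sumFinsuppEquivProdFinsupp e).1 with he₁
  set e₂ := (Finsupp.sumFinsuppEquivProdFinsupp e).2 with he₂
  have h1 : ∀ i, e₁ i = e (Sum.inl i) := Finsupp.fst_sumFinsuppEquivProdFinsupp e
  have h2 : ∀ i, e₂ i = e (Sum.inr i) := Finsupp.snd_sumFinsuppEquivProdFinsupp e
  unfold pMonomial Finsupp.prod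
  have hsub : e.support ⊆ e₁.support.disjSum e₂.support := by
    intro i hi
    rw [Finsupp.mem_support_iff] at hi
    cases i with
    | inl i => exact Finset.inl_mem_disjSum.mpr (Finsupp.mem_support_iff.mpr (by rwa [h1]))
    | inr i => exact Finset.inr_mem_disjSum.mpr (Finsupp.mem_support_iff.mpr (by rwa [h2]))
  rw [Finset.prod_subset hsub (fun i _ hi => by simp only [Finsupp.notMem_support_iff.mp hi, pow_zero]),
    Finset.prod_disjSum]
  simp only [Sum.elim_inl, Sum.elim_inr, h1, h2]

theorem pMonomial_map {C B : Type u} [CommRing C] [CommRing B] [Algebra C B] (x : ι → C)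
    (e : ι →₀ ℕ) :
    pMonomial (fun i => algebraMap C B (x i)) e = algebraMap C B (pMonomial x e) := by
  unfold pMonomial
  rw [map_finsuppProd]
  simp only [map_pow]

end Idx

section Main

theorem main (p : ℕ) [Fact p.Prime] {A C B : Type u} [CommRing A] [CommRing C]
    [CommRing B] [Algebra A C] [Algebra C B] [Algebra A B] [IsScalarTower A C B] [CharP B p]
    (hinj : Function.Injective (algebraMap C B))
    (hpow : ∀ b : B, b ^ p ∈ Set.range (algebraMap A B))
    {ι κ : Type u} (x : ι → C) (y : κ → B) :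
    (EGA41.IsPGenerating p A x → EGA41.IsPGenerating p C y →
      EGA41.IsPGenerating p A (Sum.elim (fun i => algebraMap C B (x i)) y)) ∧
    (EGA41.IsPBasis p A x →
      (EGA41.IsPIndependent p C y ↔
        EGA41.IsPIndependent p A (Sum.elim (fun i => algebraMap C B (x i)) y))) := by
  have hpowC : ∀ c : C, c ^ p ∈ Set.range (algebraMap A C) := by
    intro c
    obtain ⟨a, ha⟩ := hpow (algebraMap C B c)
    refine ⟨a, hinj ?_⟩
    rw [← IsScalarTower.algebraMap_apply, ha, map_pow]
  have hpowCB : ∀ b : B, b ^ p ∈ Set.range (algebraMap C B) := by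
    intro b
    obtain ⟨a, ha⟩ := hpow b
    exact ⟨algebraMap A C a, by rw [← IsScalarTower.algebraMap_apply, ha]⟩
  have sAB := surjective_algebraMap_pPower p hpow
  have sAC := surjective_algebraMap_pPower p hpowC
  have sCB := surjective_algebraMap_pPower p hpowCB
  set a : {e : ι →₀ ℕ // ∀ i, e i < p} → C := fun e => pMonomial x e.1 with ha
  set b : {f : κ →₀ ℕ // ∀ i, f i < p} → B := fun f => pMonomial y f.1 with hb
  have hw : (fun e : {e : (ι ⊕ κ) →₀ ℕ // ∀ i, e i < p} =>
      pMonomial (Sum.elim (fun i => algebraMap C B (x i)) y) e.1)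
      = (fun q => algebraMap C B (a q.1) * b q.2) ∘ idxEquiv p := by
    funext e
    simp only [Function.comp_apply, ha, hb, idxEquiv, Equiv.coe_fn_mk]
    rw [pMonomial_sumElim, pMonomial_map]
  refine ⟨?_, ?_⟩
  · intro hX hY
    unfold IsPGenerating at hX hY ⊢
    rw [span_eq_top_iff _ sAC] at hX
    rw [span_eq_top_iff _ sCB] at hY
    rw [span_eq_top_iff _ sAB, hw, (idxEquiv p).surjective.range_comp]
    have h1 := Submodule.span_smul_of_span_eq_top hX (Set.range b)
    rw [hY, Submodule.restrictScalars_top] at h1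
    rw [eq_top_iff, ← h1]
    apply Submodule.span_mono
    rintro _ ⟨_, ⟨e, rfl⟩, _, ⟨f, rfl⟩, rfl⟩
    exact ⟨(e, f), by simp [Algebra.smul_def, ha]⟩
  · rintro ⟨hind, hgen⟩
    unfold IsPIndependent at hind ⊢
    unfold IsPGenerating at hgen
    rw [span_eq_top_iff _ sAC] at hgen
    rw [linearIndependent_iff_rind _ sAC] at hind
    rw [hw, linearIndependent_equiv, linearIndependent_iff_rind _ sAB,
      linearIndependent_iff_rind _ sCB]
    exact ⟨fun h => rind_tower hinj a b hind h, fun h => rind_of_tower a b hgen h⟩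

end Main

end Groth.Agent.Lib.PBasisTowerH3
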