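import Mathlib
import Groth.Prelude.Def_EGA41
import Groth.Agent.Lib.PBasis4_helper3
import Groth.Agent.Lib.PBasisTower_helper3

/-!
# The imperfection module of a reduced ring over a subring containing the p-th powers (helper3)
-/

set_option autoImplicit false
set_option maxSynthPendingDepth 3
universe u v
open EGA41 KaehlerDifferential TensorProduct
open Groth.Agent.Lib.PBasisH3 Groth.Agent.Lib.PBasisTowerH3

namespace Groth.Agent.Lib.PBasisImperfH3

section Transfer
variable {R₀ R M : Type*} [CommRing R₀] [CommRing R] [CommRing M] [Algebra R₀ M] [Algebra R M]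

theorem linearIndependent_iff_rind' (U : Subalgebra R₀ M)
    (h1 : ∀ r : R, algebraMap R M r ∈ U) (h2 : ∀ u ∈ U, ∃ r : R, algebraMap R M r = u)
    {I : Type*} (v : I → M) : LinearIndependent U v ↔ RInd R v := by
  rw [linearIndependent_iff']
  constructor
  · intro h s g hg i hi
    have h3 := h s (fun i => ⟨algebraMap R M (g i), h1 _⟩) (by
      rw [← hg]
      refine Finset.sum_congr rfl fun j _ => ?_
      show (algebraMap R M (g j)) • v j = g j • v j
      rw [smul_eq_mul, Algebra.smul_def]) i hi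
    exact congrArg Subtype.val h3
  · intro h s g hg i hi
    choose γ hγ using h2
    have h3 := h s (fun i => γ (g i) (g i).2) (by
      rw [← hg]
      refine Finset.sum_congr rfl fun j _ => ?_
      show γ (g j) (g j).2 • v j = ((g j : U) : M) • v j
      rw [smul_eq_mul, Algebra.smul_def, hγ]) i hi
    apply Subtype.ext
    rw [hγ] at h3
    exact h3

theorem span_eq_top_iff' (U : Subalgebra R₀ M)
    (h1 : ∀ r : R, algebraMap R M r ∈ U) (h2 : ∀ u ∈ U, ∃ r : R, algebraMap R M r = u)
    (s : Set M) : Submodule.span U s = ⊤ ↔ Submodule.span R s = ⊤ := by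
  constructor
  · intro h
    rw [eq_top_iff]
    intro m hm0
    clear hm0
    have hm : m ∈ Submodule.span U s := h ▸ Submodule.mem_top
    induction hm using Submodule.span_induction with
    | mem x hx => exact Submodule.subset_span hx
    | zero => exact zero_mem _
    | add x y _ _ hx hy => exact add_mem hx hy
    | smul u x _ hx =>
      obtain ⟨r, hr⟩ := h2 u.1 u.2
      have : u • x = r • x := by
        show (u : M) • x = r • x
        rw [smul_eq_mul, ← hr, Algebra.smul_def]
      rw [this]; exact Submodule.smul_mem _ _ hx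
  · intro h
    rw [eq_top_iff]
    intro m hm0
    clear hm0
    have hm : m ∈ Submodule.span R s := h ▸ Submodule.mem_top
    induction hm using Submodule.span_induction with
    | mem x hx => exact Submodule.subset_span hx
    | zero => exact zero_mem _
    | add x y _ _ hx hy => exact add_mem hx hy
    | smul r x _ hx =>
      have : r • x = (⟨algebraMap R M r, h1 r⟩ : U) • x := by
        show r • x = (algebraMap R M r) • x
        rw [smul_eq_mul, Algebra.smul_def]
      rw [this]; exact Submodule.smul_mem _ _ hx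

end Transfer

section CharP

theorem exists_pow_eq_of_mem_adjoin_int (p : ℕ) [Fact p.Prime] {A : Type*} [CommRing A] [CharP A p]
    (a : A) (ha : a ∈ Algebra.adjoin ℤ (Set.range fun b : A => b ^ p)) : ∃ c, c ^ p = a := by
  induction ha using Algebra.adjoin_induction with
  | mem a ha => obtain ⟨c, rfl⟩ := ha; exact ⟨c, rfl⟩
  | algebraMap n =>
    refine ⟨(n : A), ?_⟩
    have := map_intCast (frobenius A p) n
    rw [frobenius_def] at this
    rw [eq_intCast (algebraMap ℤ A) n]
    exact this
  | add a b _ _ ha hb =>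
    obtain ⟨c, rfl⟩ := ha; obtain ⟨d, rfl⟩ := hb; exact ⟨c + d, add_pow_char c d p⟩
  | mul a b _ _ ha hb =>
    obtain ⟨c, rfl⟩ := ha; obtain ⟨d, rfl⟩ := hb; exact ⟨c * d, mul_pow c d p⟩

theorem pMonomial_pow {B : Type u} [CommRing B] {ι : Type u} (p : ℕ) (x : ι → B) (e : ι →₀ ℕ) :
    pMonomial (fun i => x i ^ p) e = (pMonomial x e) ^ p := by
  unfold pMonomial Finsupp.prod
  rw [← Finset.prod_pow]
  refine Finset.prod_congr rfl fun i _ => ?_
  show (x i ^ p) ^ (e i) = (x i ^ (e i)) ^ p
  rw [← pow_mul, ← pow_mul, mul_comm]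

end CharP

section Kaehler

variable (p : ℕ) [hp : Fact p.Prime] {A : Type v} {B : Type u} [CommRing A] [CommRing B]
  [Algebra A B] [CharP B p] {ι : Type u} (x : ι → B)

omit hp in
theorem D_eq_zero_of_mem_adjoin (c : B)
    (hc : c ∈ Algebra.adjoin A (Set.range fun b : B => b ^ p)) : D A B c = 0 := by
  induction hc using Algebra.adjoin_induction with
  | mem c hc =>
    obtain ⟨y, rfl⟩ := hc
    rw [Derivation.leibniz_pow, ← Nat.cast_smul_eq_nsmul B, CharP.cast_eq_zero, zero_smul]
  | algebraMap a => exact Derivation.map_algebraMap _ a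
  | add a b _ _ ha hb => rw [map_add, ha, hb, add_zero]
  | mul a b _ _ ha hb => rw [Derivation.leibniz, ha, hb, smul_zero, smul_zero, add_zero]

/-- universe-polymorphic form of `exists_basis_D`. -/
theorem exists_basis_D'
    (hli : LinearIndependent (Algebra.adjoin A (Set.range fun b : B => b ^ p)) (redMon p x))
    (hsp : Submodule.span (Algebra.adjoin A (Set.range fun b : B => b ^ p))
      (Set.range (redMon p x)) = ⊤) :
    ∃ b : Module.Basis ι B (Ω[B⁄A]), ∀ i, b i = D A B (x i) := by
  classical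
  let P : Subalgebra A B := Algebra.adjoin A (Set.range fun b : B => b ^ p)
  let a : ι → P := fun i => ⟨x i ^ p, Algebra.subset_adjoin ⟨x i, rfl⟩⟩
  have ha : ∀ i, algebraMap P B (a i) = x i ^ p := fun i => rfl
  -- the coordinate derivation
  obtain ⟨Δ0, ⟨hΔ0C, hΔ0x⟩, -⟩ := existsUnique_derivation p x a ha hli hsp (ι →₀ B)
    (0 : Derivation ℤ P (ι →₀ B)) (fun i => rfl)
    (fun i => Finsupp.single i (1 : B))
  let Δ : Derivation A B (ι →₀ B) :=
    { toLinearMap :=
        { toFun := fun b => Δ0 b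
          map_add' := fun b b' => map_add Δ0 b b'
          map_smul' := fun r b => by
            show Δ0 (r • b) = r • Δ0 b
            rw [Algebra.smul_def, Derivation.leibniz]
            have h1 : Δ0 (algebraMap A B r) = 0 := by
              have := hΔ0C (algebraMap A P r)
              simpa using this
            rw [h1, smul_zero, add_zero, algebraMap_smul] }
      map_one_eq_zero' := Δ0.map_one_eq_zero
      leibniz' := fun b b' => Δ0.leibniz b b' }
  have hΔ : ∀ b, Δ b = Δ0 b := fun b => rfl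
  let φ : (ι →₀ B) →ₗ[B] Ω[B⁄A] := Finsupp.linearCombination B (fun i => D A B (x i))
  let ψ : Ω[B⁄A] →ₗ[B] (ι →₀ B) := Δ.liftKaehlerDifferential
  have hψ : ∀ b, ψ (D A B b) = Δ b := fun b => Derivation.liftKaehlerDifferential_comp_D Δ b
  have hφ : ∀ i, φ (Finsupp.single i 1) = D A B (x i) := fun i => by
    simp [φ]
  have h1 : ψ.comp φ = LinearMap.id := by
    apply Finsupp.lhom_ext'
    intro i
    apply LinearMap.ext_ring
    show ψ (φ (Finsupp.single i 1)) = Finsupp.single i 1
    rw [hφ, hψ, hΔ, hΔ0x]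
  have h2 : φ.comp ψ = LinearMap.id := by
    apply Derivation.liftKaehlerDifferential_unique
    ext b
    show φ (ψ (D A B b)) = D A B b
    rw [hψ, hΔ]
    have huniq := existsUnique_derivation p x a ha hli hsp (Ω[B⁄A])
      (0 : Derivation ℤ P (Ω[B⁄A])) (fun i => rfl)
      (fun i => D A B (x i))
    let d1 : Derivation ℤ B (Ω[B⁄A]) := (D A B).restrictScalars ℤ
    let d2 : Derivation ℤ B (Ω[B⁄A]) := φ.compDer Δ0
    have e : d2 = d1 := by
      refine huniq.unique ⟨?_, ?_⟩ ⟨?_, ?_⟩
      · intro c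
        show φ (Δ0 (algebraMap _ B c)) = 0
        rw [hΔ0C]
        simp
      · intro i
        show φ (Δ0 (x i)) = D A B (x i)
        rw [hΔ0x, hφ]
      · intro c
        show D A B (c : B) = 0
        exact D_eq_zero_of_mem_adjoin p (c : B) c.2
      · intro i
        rfl
    exact congrArg (fun d : Derivation ℤ B (Ω[B⁄A]) => d b) e
  let e : (ι →₀ B) ≃ₗ[B] Ω[B⁄A] := LinearEquiv.ofLinear φ ψ h2 h1
  refine ⟨Module.Basis.ofRepr e.symm, ?_⟩
  intro i
  show e (Finsupp.single i 1) = D A B (x i)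
  exact hφ i

end Kaehler

section Ker

theorem sum_support_sum {S P : Type*} [CommRing S] [AddCommGroup P] [Module S P] {Λ M : Type*}
    (c : (Λ ⊕ M) →₀ S) (F : Λ ⊕ M → P) :
    ∑ i ∈ c.support, c i • F i =
      ∑ l ∈ (Finsupp.sumFinsuppEquivProdFinsupp c).1.support, c (Sum.inl l) • F (Sum.inl l) +
      ∑ m ∈ (Finsupp.sumFinsuppEquivProdFinsupp c).2.support, c (Sum.inr m) • F (Sum.inr m) := by
  classical
  set c₁ := (Finsupp.sumFinsuppEquivProdFinsupp c).1 with hc₁
  set c₂ := (Finsupp.sumFinsuppEquivProdFinsupp c).2 with hc₂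
  have h1 : ∀ i, c₁ i = c (Sum.inl i) := Finsupp.fst_sumFinsuppEquivProdFinsupp c
  have h2 : ∀ i, c₂ i = c (Sum.inr i) := Finsupp.snd_sumFinsuppEquivProdFinsupp c
  have hsub : c.support ⊆ c₁.support.disjSum c₂.support := by
    intro i hi
    rw [Finsupp.mem_support_iff] at hi
    cases i with
    | inl i => exact Finset.inl_mem_disjSum.mpr (Finsupp.mem_support_iff.mpr (by rwa [h1]))
    | inr i => exact Finset.inr_mem_disjSum.mpr (Finsupp.mem_support_iff.mpr (by rwa [h2]))
  rw [Finset.sum_subset hsub (fun i _ hi => by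
    rw [Finsupp.notMem_support_iff.mp hi, zero_smul]), Finset.sum_disjSum]

theorem exists_basis_ker {S N N' : Type*} [CommRing S] [AddCommGroup N] [Module S N]
    [AddCommGroup N'] [Module S N'] {Λ M : Type*} (β : Module.Basis (Λ ⊕ M) S N)
    (φ : N →ₗ[S] N') (h0 : ∀ i, φ (β (Sum.inl i)) = 0)
    (hli : LinearIndependent S (fun μ => φ (β (Sum.inr μ)))) :
    ∃ b : Module.Basis Λ S (LinearMap.ker φ), ∀ i, (b i : N) = β (Sum.inl i) := by
  classical
  let v : Λ → LinearMap.ker φ := fun i => ⟨β (Sum.inl i), h0 i⟩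
  have hv : LinearIndependent S v := by
    apply LinearIndependent.of_comp (LinearMap.ker φ).subtype
    exact β.linearIndependent.comp _ Sum.inl_injective
  have hsp : ⊤ ≤ Submodule.span S (Set.range v) := by
    rintro ⟨n, hn⟩ -
    set c := β.repr n with hc
    set c₁ := (Finsupp.sumFinsuppEquivProdFinsupp c).1 with hc₁
    set c₂ := (Finsupp.sumFinsuppEquivProdFinsupp c).2 with hc₂
    have h1 : ∀ i, c₁ i = c (Sum.inl i) := Finsupp.fst_sumFinsuppEquivProdFinsupp c
    have h2 : ∀ i, c₂ i = c (Sum.inr i) := Finsupp.snd_sumFinsuppEquivProdFinsupp c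
    have hn1 : n = ∑ i ∈ c.support, c i • β i := by
      conv_lhs => rw [← β.linearCombination_repr n]
      rw [Finsupp.linearCombination_apply, Finsupp.sum]
    have hφn : φ n = ∑ i ∈ c.support, c i • φ (β i) := by
      conv_lhs => rw [hn1]
      rw [map_sum]
      refine Finset.sum_congr rfl fun i _ => ?_
      rw [map_smul]
    rw [sum_support_sum c (fun i => φ (β i))] at hφn
    have hz : ∑ l ∈ c₁.support, c (Sum.inl l) • φ (β (Sum.inl l)) = 0 :=
      Finset.sum_eq_zero fun l _ => by rw [h0, smul_zero]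
    rw [hz, zero_add, LinearMap.mem_ker.mp hn] at hφn
    have hc2 : ∀ m ∈ c₂.support, c (Sum.inr m) = 0 :=
      linearIndependent_iff'.mp hli c₂.support (fun m => c (Sum.inr m)) hφn.symm
    have hc2' : ∀ m, c (Sum.inr m) = 0 := by
      intro m
      by_cases hm : m ∈ c₂.support
      · exact hc2 m hm
      · rw [← h2]; exact Finsupp.notMem_support_iff.mp hm
    have hn2 : n = ∑ l ∈ c₁.support, c (Sum.inl l) • β (Sum.inl l) := by
      conv_lhs => rw [hn1]
      rw [sum_support_sum c (fun i => β i)]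
      have : ∑ m ∈ c₂.support, c (Sum.inr m) • β (Sum.inr m) = 0 :=
        Finset.sum_eq_zero fun m _ => by rw [hc2', zero_smul]
      rw [this, add_zero]
    have hn3 : (⟨n, hn⟩ : LinearMap.ker φ) = ∑ l ∈ c₁.support, c (Sum.inl l) • v l := by
      apply Subtype.ext
      rw [AddSubmonoidClass.coe_finset_sum]
      exact hn2
    rw [hn3]
    exact Submodule.sum_mem _ fun l _ =>
      Submodule.smul_mem _ _ (Submodule.subset_span ⟨l, rfl⟩)
  exact ⟨Module.Basis.mk hv hsp, fun i => by simp [v]⟩

end Ker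

section Main

theorem main (p : ℕ) [Fact p.Prime] {R A B : Type u} [CommRing R] [CommRing A]
    [CommRing B] [IsReduced B] [Algebra R A] [Algebra A B] [Algebra R B] [IsScalarTower R A B]
    [CharP B p]
    (hinj : Function.Injective (algebraMap A B))
    (hpow : ∀ b : B, b ^ p ∈ Set.range (algebraMap A B))
    (hR : Set.range (algebraMap R B) = Set.range fun b : B => b ^ p)
    {Λ M : Type u} (x : Λ → B) (hx : EGA41.IsPBasis p A x) (x' : Λ → A)
    (hx' : ∀ i, algebraMap A B (x' i) = x i ^ p)
    (y : M → A) (hy : EGA41.IsPBasis p R y) :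
    ∃ b : Module.Basis Λ B (EGA41.imperfection ℤ A B),
      ∀ i, (b i : B ⊗[A] Ω[A⁄ℤ]) = (1 : B) ⊗ₜ[A] KaehlerDifferential.D ℤ A (x' i) := by
  classical
  have hp : p.Prime := Fact.out
  haveI : CharP A p := (algebraMap A B).charP hinj p
  have hpowR : ∀ b : B, b ^ p ∈ Set.range (algebraMap R B) := by
    intro b; rw [hR]; exact ⟨b, rfl⟩
  have hpowRA : ∀ a : A, a ^ p ∈ Set.range (algebraMap R A) := by
    intro a
    obtain ⟨r, hr⟩ := hpowR (algebraMap A B a)
    exact ⟨r, hinj (by rw [← IsScalarTower.algebraMap_apply, hr, map_pow])⟩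
  have hRpow : ∀ r : R, ∃ b : B, b ^ p = algebraMap R B r := by
    intro r
    have : algebraMap R B r ∈ Set.range (fun b : B => b ^ p) := hR ▸ ⟨r, rfl⟩
    exact this
  -- canonical forms of the hypotheses
  have hxind : RInd A (redMon p x) :=
    (linearIndependent_iff_rind _ (surjective_algebraMap_pPower p hpow) _).mp hx.1
  have hxspan : Submodule.span A (Set.range (redMon p x)) = ⊤ :=
    (span_eq_top_iff _ (surjective_algebraMap_pPower p hpow) _).mp hx.2
  -- ### the `B`-side
  obtain ⟨hgenB, hindB⟩ := PBasisTowerH3.main p (A := R) (C := A) (B := B) hinj hpowR y x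
  have genB := hgenB hy.2 hx.2
  have indB := (hindB hy).mp hx.1
  set zB : M ⊕ Λ → B := Sum.elim (fun i => algebraMap A B (y i)) x with hzB
  let UB : Subalgebra ℤ B := Algebra.adjoin ℤ (Set.range fun b : B => b ^ p)
  have hUB1 : ∀ r : R, algebraMap R B r ∈ UB := by
    intro r
    obtain ⟨b, hb⟩ := hRpow r
    rw [← hb]
    exact Algebra.subset_adjoin ⟨b, rfl⟩
  have hUB2 : ∀ u ∈ UB, ∃ r : R, algebraMap R B r = u := by
    intro u hu
    obtain ⟨c, rfl⟩ := exists_pow_eq_of_mem_adjoin_int p u hu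
    exact hpowR c
  have liB : LinearIndependent UB (redMon p zB) := by
    rw [linearIndependent_iff_rind' UB hUB1 hUB2]
    exact (linearIndependent_iff_rind _ (surjective_algebraMap_pPower p hpowR) _).mp indB
  have spB : Submodule.span UB (Set.range (redMon p zB)) = ⊤ := by
    rw [span_eq_top_iff' UB hUB1 hUB2]
    exact (span_eq_top_iff _ (surjective_algebraMap_pPower p hpowR) _).mp genB
  obtain ⟨bB, hbB⟩ := exists_basis_D' p zB liB spB
  -- ### the `A`-side
  let U₁ : Subalgebra ℤ A := Algebra.adjoin ℤ (Set.range fun b : A => b ^ p)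
  let U₂ : Subalgebra R A := pPowerSubalgebra p R A
  have hU₁₂ : ∀ a ∈ U₁, a ∈ U₂ := by
    intro a ha
    obtain ⟨c, rfl⟩ := exists_pow_eq_of_mem_adjoin_int p a ha
    exact Algebra.subset_adjoin ⟨c, rfl⟩
  let j : U₁ →+* U₂ := RingHom.codRestrict (algebraMap U₁ A) U₂ (fun a => hU₁₂ a.1 a.2)
  letI : Algebra U₁ U₂ := j.toAlgebra
  haveI : IsScalarTower U₁ U₂ A := IsScalarTower.of_algebraMap_eq (fun a => rfl)
  have hsurjU₂ := surjective_algebraMap_pPower p hpowRA
  have hx'mem : ∀ i, x' i ∈ U₂ := by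
    intro i
    obtain ⟨r, hr⟩ := hpowR (x i)
    have : x' i = algebraMap R A r := hinj (by
      rw [hx', ← IsScalarTower.algebraMap_apply, hr])
    rw [this]
    exact Subalgebra.algebraMap_mem _ r
  let x'' : Λ → U₂ := fun i => ⟨x' i, hx'mem i⟩
  let a : {e : Λ →₀ ℕ // ∀ i, e i < p} → U₂ := fun e => pMonomial x'' e.1
  let b : {f : M →₀ ℕ // ∀ i, f i < p} → A := fun f => pMonomial y f.1
  have ha_val : ∀ e, algebraMap U₂ A (a e) = pMonomial x' e.1 := fun e =>
    (pMonomial_map (C := U₂) (B := A) x'' e.1).symm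
  have hmonB : ∀ e : Λ →₀ ℕ, algebraMap A B (pMonomial x' e) = (pMonomial x e) ^ p := by
    intro e
    rw [← pMonomial_map, ← pMonomial_pow]
    congr 1
    funext i
    exact hx' i
  -- Claim 1
  have Claim1 : RInd U₁ a := by
    intro s g hg e he
    have hroot : ∀ e, ∃ c : A, c ^ p = ((g e : U₁) : A) := fun e =>
      exists_pow_eq_of_mem_adjoin_int p _ (g e).2
    choose h hh using hroot
    have hgA : ∑ e ∈ s, ((g e : U₁) : A) * pMonomial x' e.1 = 0 := by
      have h1 := congrArg (fun c : U₂ => (c : A)) hg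
      simp only [AddSubmonoidClass.coe_finset_sum, ZeroMemClass.coe_zero] at h1
      rw [← h1]
      refine Finset.sum_congr rfl fun e _ => ?_
      rw [← ha_val]
      rfl
    have hgB : (∑ e ∈ s, algebraMap A B (h e) * pMonomial x e.1) ^ p = 0 := by
      rw [sum_pow_char]
      have h2 := congrArg (algebraMap A B) hgA
      rw [map_sum, map_zero] at h2
      rw [← h2]
      refine Finset.sum_congr rfl fun e _ => ?_
      rw [map_mul, hmonB, ← hh, map_pow, mul_pow]
    have hgB' : ∑ e ∈ s, h e • redMon p x e = 0 := by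
      have := IsNilpotent.eq_zero ⟨p, hgB⟩
      rw [← this]
      refine Finset.sum_congr rfl fun e _ => ?_
      rw [Algebra.smul_def]
    have h3 := hxind s h hgB' e he
    have h4 : ((g e : U₁) : A) = 0 := by
      apply hinj
      rw [← hh, map_pow, h3, zero_pow hp.ne_zero, map_zero]
    apply Subtype.ext
    exact h4
  -- Claim 2
  have Claim2 : Submodule.span U₁ (Set.range a) = ⊤ := by
    rw [eq_top_iff]
    rintro ⟨c, hc⟩ -
    obtain ⟨r, hr⟩ := hsurjU₂ ⟨c, hc⟩
    have hr' : algebraMap R A r = c := congrArg Subtype.val hr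
    obtain ⟨b₀, hb₀⟩ : ∃ b₀ : B, b₀ ^ p = algebraMap A B c := by
      obtain ⟨b₀, hb₀⟩ := hRpow r
      exact ⟨b₀, by rw [hb₀, ← hr', ← IsScalarTower.algebraMap_apply]⟩
    have hb₀span : b₀ ∈ Submodule.span A (Set.range (redMon p x)) := hxspan ▸ Submodule.mem_top
    obtain ⟨l, hl⟩ := Finsupp.mem_span_range_iff_exists_finsupp.mp hb₀span
    have hc_eq : c = ∑ e ∈ l.support, (l e) ^ p * pMonomial x' e.1 := by
      apply hinj
      rw [← hb₀, ← hl, Finsupp.sum, sum_pow_char, map_sum]
      refine Finset.sum_congr rfl fun e _ => ?_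
      rw [map_mul, map_pow, Algebra.smul_def, mul_pow, hmonB]
    have hmemU₁ : ∀ e, (l e) ^ p ∈ U₁ := fun e => Algebra.subset_adjoin ⟨l e, rfl⟩
    have hsum : (⟨c, hc⟩ : U₂) = ∑ e ∈ l.support, (⟨(l e) ^ p, hmemU₁ e⟩ : U₁) • a e := by
      apply Subtype.ext
      rw [AddSubmonoidClass.coe_finset_sum]
      show c = _
      rw [hc_eq]
      refine Finset.sum_congr rfl fun e _ => ?_
      rw [← ha_val]
      rfl
    rw [hsum]
    exact Submodule.sum_mem _ fun e _ =>
      Submodule.smul_mem _ _ (Submodule.subset_span ⟨e, rfl⟩)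
  have hyInd : RInd U₂ b :=
    (linearIndependent_iff_rind' U₂ (fun u => u.2) (fun u hu => ⟨⟨u, hu⟩, rfl⟩) _).mp hy.1
  have hySpan : Submodule.span U₂ (Set.range b) = ⊤ := hy.2
  have hT := rind_tower (A := U₁) (C := U₂) (B := A) Subtype.val_injective a b Claim1 hyInd
  set zA : Λ ⊕ M → A := Sum.elim x' y with hzA
  have hwA : redMon p zA = (fun q => algebraMap U₂ A (a q.1) * b q.2) ∘ idxEquiv p := by
    funext e
    show pMonomial (Sum.elim x' y) e.1 = _
    rw [pMonomial_sumElim]
    simp only [Function.comp_apply, idxEquiv, Equiv.coe_fn_mk]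
    congr 1
    exact (ha_val ⟨_, _⟩).symm
  have liA : LinearIndependent U₁ (redMon p zA) := by
    rw [hwA, linearIndependent_equiv]
    exact (linearIndependent_iff_rind' U₁ (fun u => u.2) (fun u hu => ⟨⟨u, hu⟩, rfl⟩) _).mpr hT
  have spA : Submodule.span U₁ (Set.range (redMon p zA)) = ⊤ := by
    rw [hwA, (idxEquiv p).surjective.range_comp]
    have h1 := Submodule.span_smul_of_span_eq_top Claim2 (Set.range b)
    rw [hySpan, Submodule.restrictScalars_top] at h1
    rw [eq_top_iff, ← h1]
    apply Submodule.span_mono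
    rintro _ ⟨_, ⟨e, rfl⟩, _, ⟨f, rfl⟩, rfl⟩
    exact ⟨(e, f), by simp [Algebra.smul_def]⟩
  obtain ⟨bA, hbA⟩ := exists_basis_D' p zA liA spA
  -- ### the kernel
  let β : Module.Basis (Λ ⊕ M) B (B ⊗[A] Ω[A⁄ℤ]) := bA.baseChange B
  have hβ : ∀ i, β i = (1 : B) ⊗ₜ[A] D ℤ A (zA i) := by
    intro i
    rw [Module.Basis.baseChange_apply, hbA]
  have h0 : ∀ i, KaehlerDifferential.mapBaseChange ℤ A B (β (Sum.inl i)) = 0 := by
    intro i
    rw [hβ, KaehlerDifferential.mapBaseChange_tmul, KaehlerDifferential.map_D, one_smul]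
    show D ℤ B (algebraMap A B (x' i)) = 0
    rw [hx']
    exact D_eq_zero_of_mem_adjoin p _ (Algebra.subset_adjoin ⟨x i, rfl⟩)
  have hli : LinearIndependent B
      (fun μ => KaehlerDifferential.mapBaseChange ℤ A B (β (Sum.inr μ))) := by
    have : (fun μ => KaehlerDifferential.mapBaseChange ℤ A B (β (Sum.inr μ)))
        = bB ∘ Sum.inl := by
      funext μ
      rw [hβ, KaehlerDifferential.mapBaseChange_tmul, KaehlerDifferential.map_D, one_smul]
      show D ℤ B (algebraMap A B (y μ)) = bB (Sum.inl μ)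
      rw [hbB]
      rfl
    rw [this]
    exact bB.linearIndependent.comp _ Sum.inl_injective
  obtain ⟨bK, hbK⟩ := exists_basis_ker β (KaehlerDifferential.mapBaseChange ℤ A B) h0 hli
  refine ⟨bK, fun i => ?_⟩
  refine (hbK i).trans ?_
  rw [hβ]
  rfl

end Main

end Groth.Agent.Lib.PBasisImperfH3
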