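import Groth.Agent.Lib.PBasis6_helper3

/-!
# Algebras with a `p`-basis: lifting of homomorphisms (EGA 0_IV 21.2)
-/

set_option autoImplicit false
set_option maxSynthPendingDepth 3

namespace Groth.Agent.Lib.PBasisH3

universe u

open EGA41

section FrobLift

variable (p : ℕ) [hp : Fact p.Prime] {E : Type*} [CommRing E]

/-- the `p`-power map as a ring hom when `p = 0` in `E` -/
def powHom (hpE : (p : E) = 0) : E →+* E where
  toFun e := e ^ p
  map_one' := one_pow p
  map_mul' a b := mul_pow a b p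
  map_zero' := zero_pow hp.out.ne_zero
  map_add' a b := by
    rw [add_pow_prime_eq hp.out, hpE]
    ring

omit hp in
theorem sq_zero_pow (hp2 : 2 ≤ p) (I : Ideal E) (hI : I ^ 2 = ⊥) (i : E) (hi : i ∈ I) :
    i ^ p = 0 := by
  have h2 : i ^ 2 = 0 := by
    have : i ^ 2 ∈ I ^ 2 := Ideal.pow_mem_pow hi 2
    rw [hI] at this
    exact this
  obtain ⟨m, hm⟩ : ∃ m, p = 2 + m := ⟨p - 2, by omega⟩
  rw [hm, pow_add, h2, zero_mul]

/-- lifted Frobenius `E/I → E` for a square-zero ideal -/
noncomputable def frobLift (hpE : (p : E) = 0) (I : Ideal E) (hI : I ^ 2 = ⊥) : E ⧸ I →+* E :=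
  Ideal.Quotient.lift I (powHom p hpE) (fun i hi => sq_zero_pow p hp.out.two_le I hI i hi)

theorem frobLift_mk (hpE : (p : E) = 0) (I : Ideal E) (hI : I ^ 2 = ⊥) (e : E) :
    frobLift p hpE I hI (Ideal.Quotient.mk I e) = e ^ p := rfl

theorem mk_frobLift (hpE : (p : E) = 0) (I : Ideal E) (hI : I ^ 2 = ⊥) (y : E ⧸ I) :
    Ideal.Quotient.mk I (frobLift p hpE I hI y) = y ^ p := by
  obtain ⟨e, rfl⟩ := Ideal.Quotient.mk_surjective y
  rw [frobLift_mk, map_pow]

end FrobLift

section Step

variable (p : ℕ) [hp : Fact p.Prime] {C B : Type u} [CommRing C] [CommRing B] [Algebra C B]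
  {ι : Type u} (x : ι → B) (a : ι → C) (ha : ∀ i, algebraMap C B (a i) = x i ^ p)
  (hli : LinearIndependent C (redMon p x))
  (hsp : Submodule.span C (Set.range (redMon p x)) = ⊤)

include ha hli hsp in
theorem exists_ringHom_lift {E : Type u} [CommRing E] (w₀ : C →+* E) (z : ι → E)
    (hzp : ∀ i, z i ^ p = w₀ (a i)) :
    ∃ w : B →+* E, (∀ c, w (algebraMap C B c) = w₀ c) ∧ ∀ i, w (x i) = z i := by
  letI : Algebra C E := w₀.toAlgebra
  obtain ⟨v', hv', -⟩ := existsUnique_algHom p x a ha hli hsp z hzp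
  exact ⟨v'.toRingHom, fun c => v'.commutes c, hv'⟩

omit hp in
include hsp in
theorem ringHom_ext_of_pBasis {E : Type*} [CommRing E] (w w' : B →+* E)
    (h1 : ∀ c, w (algebraMap C B c) = w' (algebraMap C B c)) (h2 : ∀ i, w (x i) = w' (x i)) :
    w = w' := by
  have hadj := adjoin_eq_top_of_span_red p x hsp
  refine RingHom.ext fun b => ?_
  have hb : b ∈ Algebra.adjoin C (Set.range x) := hadj ▸ Algebra.mem_top
  induction hb using Algebra.adjoin_induction with
  | mem b hb =>
    obtain ⟨i, rfl⟩ := hb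
    exact h2 i
  | algebraMap c => exact h1 c
  | add b b' _ _ h h' => rw [map_add, map_add, h, h']
  | mul b b' _ _ h h' => rw [map_mul, map_mul, h, h']

end Step

section Nilp

variable {A B : Type u} [CommRing A] [CommRing B] [Algebra A B] {ι : Type u} (x : ι → B)

/-- the unique lifting property against `(E, R)` -/
def ULP (E : Type u) [CommRing E] [Algebra A E] (R : Ideal E) : Prop :=
  ∀ (v : B →ₐ[A] E ⧸ R) (z : ι → E), (∀ i, Ideal.Quotient.mk R (z i) = v (x i)) →
    ∃! w : B →ₐ[A] E, (Ideal.Quotient.mkₐ A R).comp w = v ∧ ∀ i, w (x i) = z i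

theorem ulp_of_sq_zero
    (h : ∀ (E : Type u) [CommRing E] [Algebra A E] (I : Ideal E), I ^ 2 = ⊥ → ULP (A := A) x E I)
    (E : Type u) [CommRing E] [Algebra A E] (R : Ideal E) (hR : IsNilpotent R) :
    ULP (A := A) x E R := by
  revert ‹Algebra A E›
  apply Ideal.IsNilpotent.induction_on (S := E) R hR
  · intro S _ I hI _
    exact h S I hI
  · intro S _ I J hIJ h₁ h₂ _
    intro v z hz
    let φ : ((S ⧸ I) ⧸ J.map (Ideal.Quotient.mk I)) ≃ₐ[A] S ⧸ J :=
      { (DoubleQuot.quotQuotEquivQuotSup I J).trans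
          (Ideal.quotEquivOfEq (sup_eq_right.mpr hIJ)) with
        commutes' := fun x => rfl }
    have hφ : ∀ s : S, φ (Ideal.Quotient.mk _ (Ideal.Quotient.mk I s)) = Ideal.Quotient.mk J s :=
      fun s => rfl
    have hφs : ∀ s : S, φ.symm (Ideal.Quotient.mk J s) =
        Ideal.Quotient.mk _ (Ideal.Quotient.mk I s) := by
      intro s
      rw [AlgEquiv.symm_apply_eq, hφ]
    obtain ⟨w₁, ⟨hw₁a, hw₁b⟩, hw₁u⟩ := h₂ (φ.symm.toAlgHom.comp v)
      (fun i => Ideal.Quotient.mk I (z i)) (by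
        intro i
        show _ = φ.symm (v (x i))
        rw [← hz i, hφs])
    obtain ⟨w, ⟨hwa, hwb⟩, hwu⟩ := h₁ w₁ z (fun i => (hw₁b i).symm)
    refine ⟨w, ⟨?_, hwb⟩, ?_⟩
    · refine AlgHom.ext fun b => ?_
      have e1 : Ideal.Quotient.mk I (w b) = w₁ b := AlgHom.congr_fun hwa b
      have e2 : Ideal.Quotient.mk _ (w₁ b) = φ.symm (v b) := AlgHom.congr_fun hw₁a b
      show Ideal.Quotient.mk J (w b) = v b
      rw [← hφ, e1, e2, AlgEquiv.apply_symm_apply]
    · rintro w' ⟨hw'a, hw'b⟩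
      apply hwu
      refine ⟨?_, hw'b⟩
      apply hw₁u
      refine ⟨?_, ?_⟩
      · refine AlgHom.ext fun b => ?_
        have e1 : Ideal.Quotient.mk J (w' b) = v b := AlgHom.congr_fun hw'a b
        show Ideal.Quotient.mk _ (Ideal.Quotient.mk I (w' b)) = φ.symm (v b)
        rw [← e1, hφs]
      · intro i
        show Ideal.Quotient.mk I (w' (x i)) = _
        rw [hw'b]

end Nilp

section Perfect

variable (p : ℕ) [hp : Fact p.Prime] {A B : Type u} [CommRing A] [CharP A p]
  [PerfectRing A p] [CommRing B] [Algebra A B] [CharP B p] [IsReduced B]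
  {ι : Type u} (x : ι → B)

include hp in
omit [CharP A p] [PerfectRing A p] [Algebra A B] in
theorem frobenius_injective_of_isReduced (b b' : B) (h : b ^ p = b' ^ p) : b = b' := by
  have h1 : (b - b') ^ p = 0 := by rw [sub_pow_char b b', h, sub_self]
  exact sub_eq_zero.1 (IsReduced.eq_zero _ ⟨p, h1⟩)

omit [IsReduced B] in
theorem exists_pow_eq_of_mem_pPower (c : B) (hc : c ∈ pPowerSubalgebra p A B) :
    ∃ b : B, b ^ p = c := by
  unfold pPowerSubalgebra at hc
  induction hc using Algebra.adjoin_induction with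
  | mem c hc =>
    obtain ⟨y, rfl⟩ := hc
    exact ⟨y, rfl⟩
  | algebraMap r =>
    exact ⟨algebraMap A B ((frobeniusEquiv A p).symm r), by
      rw [← map_pow, frobeniusEquiv_symm_pow_p]⟩
  | add c d _ _ hc hd =>
    obtain ⟨y, rfl⟩ := hc
    obtain ⟨y', rfl⟩ := hd
    exact ⟨y + y', add_pow_char y y' p⟩
  | mul c d _ _ hc hd =>
    obtain ⟨y, rfl⟩ := hc
    obtain ⟨y', rfl⟩ := hd
    exact ⟨y * y', mul_pow y y' p⟩

/-- Frobenius as an isomorphism `B ≃ A[B^p]` -/
noncomputable def frobEquiv : B ≃+* pPowerSubalgebra p A B :=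
  RingEquiv.ofBijective
    ((frobenius B p).codRestrict (pPowerSubalgebra p A B) (fun b => pow_mem_pPower p b))
    ⟨fun b b' h => frobenius_injective_of_isReduced p b b' (congrArg Subtype.val h),
     fun c => by
      obtain ⟨b, hb⟩ := exists_pow_eq_of_mem_pPower p c.1 c.2
      exact ⟨b, Subtype.ext hb⟩⟩

theorem frobEquiv_apply (b : B) : ((frobEquiv (A := A) p b : pPowerSubalgebra p A B) : B) = b ^ p :=
  rfl

/-- square-zero step of EGA 0_IV 21.2.7 -/
theorem ulp_sq_zero_of_perfect (hx : IsPBasis p A x)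
    (E : Type u) [CommRing E] [Algebra A E] (I : Ideal E) (hI : I ^ 2 = ⊥) :
    ULP (A := A) x E I := by
  classical
  intro v z hz
  have hpE : (p : E) = 0 := by
    have h0 : (p : A) = 0 := CharP.cast_eq_zero A p
    rw [← map_natCast (algebraMap A E), h0, map_zero]
  let e := frobEquiv (A := A) (B := B) p
  let ψ : B →+* E := (frobLift p hpE I hI).comp v.toRingHom
  let w₀ : pPowerSubalgebra p A B →+* E := ψ.comp e.symm.toRingHom
  have hw₀ : ∀ b : B, w₀ (e b) = ψ b := by
    intro b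
    show ψ (e.symm (e b)) = ψ b
    rw [RingEquiv.symm_apply_apply]
  have hψ : ∀ (b : B) (eb : E), Ideal.Quotient.mk I eb = v b → ψ b = eb ^ p := by
    intro b eb h
    show frobLift p hpE I hI (v b) = eb ^ p
    rw [← h, frobLift_mk]
  have hemap : ∀ b : B, algebraMap (pPowerSubalgebra p A B) B (e b) = b ^ p := fun b => rfl
  let a : ι → pPowerSubalgebra p A B := fun i => e (x i)
  have ha : ∀ i, algebraMap (pPowerSubalgebra p A B) B (a i) = x i ^ p := fun i => rfl
  have hzp : ∀ i, z i ^ p = w₀ (a i) := by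
    intro i
    rw [hw₀, hψ (x i) (z i) (hz i)]
  obtain ⟨w, hw1, hw2⟩ := exists_ringHom_lift p x a ha hx.1 hx.2 w₀ z hzp
  -- `w` lifts `v`
  have hlift : (Ideal.Quotient.mk I).comp w = v.toRingHom := by
    refine ringHom_ext_of_pBasis (C := pPowerSubalgebra p A B) p x hx.2 _ _ ?_ ?_
    · intro c
      obtain ⟨b, rfl⟩ := e.surjective c
      show Ideal.Quotient.mk I (w (algebraMap _ B (e b))) = v (algebraMap _ B (e b))
      rw [hw1, hw₀, hemap, map_pow]
      exact mk_frobLift p hpE I hI (v b)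
    · intro i
      show Ideal.Quotient.mk I (w (x i)) = v (x i)
      rw [hw2, hz]
  -- `A`-linearity
  have hcomm : ∀ r : A, w (algebraMap A B r) = algebraMap A E r := by
    intro r
    set r' := (frobeniusEquiv A p).symm r with hr'
    have hr : r = r' ^ p := (frobeniusEquiv_symm_pow_p A p r).symm
    have h1 : algebraMap A B r = algebraMap (pPowerSubalgebra p A B) B (e (algebraMap A B r')) := by
      rw [hemap, ← map_pow, ← hr]
    rw [h1, hw1, hw₀, hψ (algebraMap A B r') (algebraMap A E r') (by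
      rw [AlgHom.commutes]; rfl), ← map_pow, ← hr]
  let wA : B →ₐ[A] E := { w with commutes' := hcomm }
  refine ⟨wA, ⟨?_, hw2⟩, ?_⟩
  · refine AlgHom.ext fun b => ?_
    exact RingHom.congr_fun hlift b
  · rintro w' ⟨hw'a, hw'b⟩
    have : w'.toRingHom = w := by
      refine ringHom_ext_of_pBasis (C := pPowerSubalgebra p A B) p x hx.2 _ _ ?_ ?_
      · intro c
        obtain ⟨b, rfl⟩ := e.surjective c
        show w' (algebraMap _ B (e b)) = w (algebraMap _ B (e b))
        rw [hw1, hw₀, hemap, map_pow]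
        exact (hψ b (w' b) (AlgHom.congr_fun hw'a b)).symm
      · intro i
        show w' (x i) = w (x i)
        rw [hw2, hw'b]
    refine AlgHom.ext fun b => ?_
    exact RingHom.congr_fun this b

theorem ulp_of_perfect (hx : IsPBasis p A x)
    (E : Type u) [CommRing E] [Algebra A E] (R : Ideal E) (hR : IsNilpotent R) :
    ULP (A := A) x E R :=
  ulp_of_sq_zero x (fun E _ _ I hI => ulp_sq_zero_of_perfect p x hx E I hI) E R hR

theorem formallySmooth_of_perfect (hx : IsPBasis p A x) : Algebra.FormallySmooth A B := by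
  refine Algebra.FormallySmooth.of_comp_surjective fun E _ _ I hI f => ?_
  choose z hz using fun i => Ideal.Quotient.mk_surjective (f (x i))
  obtain ⟨w, ⟨hw, -⟩, -⟩ := ulp_sq_zero_of_perfect p x hx E I hI f z hz
  exact ⟨w, hw⟩

end Perfect

end Groth.Agent.Lib.PBasisH3
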