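import Mathlib
import Groth.Prelude.Def_PCoh

/-!
# `n`-quasi-isomorphisms and the mapping cone

A morphism of cochain complexes `u : E ⟶ F` is an `n`-quasi-isomorphism if it is an isomorphism on
`H^i` for `i > n` and an epimorphism on `H^n`.  Equivalently the mapping cone of `u` is acyclic in
degrees `≥ n`.
-/

set_option autoImplicit false
universe v u
open CategoryTheory Limits HomologicalComplex CochainComplex

namespace Groth.Agent.Lib.PCohNQI

variable {C : Type u} [Category.{v} C] [Abelian C]

/-- `u` is an `n`-quasi-isomorphism -/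
def NQI (n : ℤ) {E F : CochainComplex C ℤ} (u : E ⟶ F) : Prop :=
  (∀ i : ℤ, n < i → IsIso (homologyMap u i)) ∧ Epi (homologyMap u n)

section Cone

variable {E F : CochainComplex C ℤ} (u : E ⟶ F)

lemma dist : letI := HasDerivedCategory.standard C
    DerivedCategory.Q.mapTriangle.obj (mappingCone.triangle u) ∈
      Pretriangulated.distinguishedTriangles := by
  letI := HasDerivedCategory.standard C
  exact DerivedCategory.mappingCone_triangle_distinguished u

lemma isZero_cone_homology (i j : ℤ) (hij : i + 1 = j) (hepi : Epi (homologyMap u i))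
    (hmono : Mono (homologyMap u j)) : IsZero ((mappingCone u).homology i) := by
  letI := HasDerivedCategory.standard C
  have h2 := CochainComplex.homologyMap_exact₂_of_distTriang (mappingCone.triangle u) (dist u) i
  have h3 := CochainComplex.homologyMap_exact₃_of_distTriang (mappingCone.triangle u) (dist u) i j hij
  have h1 := CochainComplex.homologyMap_exact₁_of_distTriang (mappingCone.triangle u) (dist u) i j hij
  have e2 : homologyMap (mappingCone.inr u) i = 0 := (h2.epi_f_iff).1 hepi
  have e3 : Mono (CochainComplex.homologyδOfTriangle (mappingCone.triangle u) i j hij) :=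
    (h3.mono_g_iff).2 e2
  have e1 : CochainComplex.homologyδOfTriangle (mappingCone.triangle u) i j hij = 0 :=
    (h1.mono_g_iff).1 hmono
  rw [IsZero.iff_id_eq_zero]
  have e4 : 𝟙 ((mappingCone.triangle u).obj₃.homology i) ≫
      CochainComplex.homologyδOfTriangle (mappingCone.triangle u) i j hij =
      0 ≫ CochainComplex.homologyδOfTriangle (mappingCone.triangle u) i j hij := by
    rw [e1, comp_zero, comp_zero]
  exact e3.right_cancellation _ _ e4

lemma epi_of_isZero_cone (i : ℤ) (h : IsZero ((mappingCone u).homology i)) :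
    Epi (homologyMap u i) := by
  letI := HasDerivedCategory.standard C
  have h2 := CochainComplex.homologyMap_exact₂_of_distTriang (mappingCone.triangle u) (dist u) i
  exact (h2.epi_f_iff).2 (h.eq_of_tgt _ _)

lemma mono_of_isZero_cone (i j : ℤ) (hij : i + 1 = j)
    (h : IsZero ((mappingCone u).homology i)) : Mono (homologyMap u j) := by
  letI := HasDerivedCategory.standard C
  have h1 := CochainComplex.homologyMap_exact₁_of_distTriang (mappingCone.triangle u) (dist u) i j hij
  exact (h1.mono_g_iff).2 (h.eq_of_src _ _)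

/-- the cone criterion -/
theorem nqi_iff_cone (n : ℤ) :
    NQI n u ↔ ∀ i : ℤ, n ≤ i → IsZero ((mappingCone u).homology i) := by
  constructor
  · rintro ⟨hiso, hepi⟩ i hi
    have he : Epi (homologyMap u i) := by
      rcases hi.lt_or_eq with h | h
      · haveI := hiso i h
        infer_instance
      · subst h
        exact hepi
    haveI := hiso (i + 1) (by omega)
    exact isZero_cone_homology u i (i + 1) rfl he inferInstance
  · intro h
    refine ⟨fun i hi => ?_, epi_of_isZero_cone u n (h n le_rfl)⟩
    haveI := epi_of_isZero_cone u i (h i hi.le)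
    haveI := mono_of_isZero_cone u (i - 1) i (by omega) (h (i - 1) (by omega))
    exact isIso_of_mono_of_epi _

end Cone

section Basic

variable {E F G : CochainComplex C ℤ}

lemma nqi_of_quasiIso (n : ℤ) (u : E ⟶ F) [QuasiIso u] : NQI n u :=
  ⟨fun i _ => inferInstance, inferInstance⟩

lemma nqi_mono {n m : ℤ} (hnm : n ≤ m) {u : E ⟶ F} (h : NQI n u) : NQI m u := by
  refine ⟨fun i hi => h.1 i (by omega), ?_⟩
  rcases hnm.lt_or_eq with h' | h'
  · haveI := h.1 m h'
    infer_instance
  · subst h'
    exact h.2

lemma nqi_comp_quasiIso (n : ℤ) (u : E ⟶ F) (w : F ⟶ G) [QuasiIso w] (h : NQI n u) :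
    NQI n (u ≫ w) := by
  refine ⟨fun i hi => ?_, ?_⟩
  · haveI := h.1 i hi
    rw [homologyMap_comp]
    infer_instance
  · haveI := h.2
    rw [homologyMap_comp]
    infer_instance

lemma nqi_quasiIso_comp (n : ℤ) (w : E ⟶ F) (u : F ⟶ G) [QuasiIso w] (h : NQI n u) :
    NQI n (w ≫ u) := by
  refine ⟨fun i hi => ?_, ?_⟩
  · haveI := h.1 i hi
    rw [homologyMap_comp]
    infer_instance
  · haveI := h.2
    rw [homologyMap_comp]
    infer_instance

lemma nqi_of_comp_quasiIso (n : ℤ) (u : E ⟶ F) (w : F ⟶ G) [QuasiIso w] (h : NQI n (u ≫ w)) :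
    NQI n u := by
  refine ⟨fun i hi => ?_, ?_⟩
  · have := h.1 i hi
    rw [homologyMap_comp] at this
    exact IsIso.of_isIso_comp_right (homologyMap u i) (homologyMap w i)
  · have := h.2
    rw [homologyMap_comp] at this
    have e : homologyMap u n = (homologyMap u n ≫ homologyMap w n) ≫ inv (homologyMap w n) := by
      simp
    rw [e]
    infer_instance

lemma quasiIso_of_forall_nqi (u : E ⟶ F) (h : ∀ n : ℤ, NQI n u) : QuasiIso u := by
  rw [quasiIso_iff]
  intro i
  rw [quasiIsoAt_iff_isIso_homologyMap]
  exact (h (i - 1)).1 i (by omega)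

end Basic

end Groth.Agent.Lib.PCohNQI
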