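import Mathlib
import Groth.Agent.Lib.PCohNQI_helper2
import Groth.Agent.Lib.PerfectCx_helper2

/-!
# Perfect amplitude: the first term (SGA 6 I 4.?)
-/

set_option autoImplicit false
universe w v u
open CategoryTheory Limits HomologicalComplex CochainComplex

namespace Groth.Agent.Lib.PCohAmp
open Groth.Agent.Lib.PCohNQI Groth.Agent.PerfectCx DerivedCategory

variable {C : Type u} [Category.{v} C] [Abelian C]

/-- the short exact sequence `0 ⟶ Z^i ⟶ K^i ⟶ Z^j ⟶ 0` of a complex exact at `j = i + 1` -/
lemma shortExact_cycles (K : CochainComplex C ℤ) (i j : ℤ) (hij : i + 1 = j) (h : K.ExactAt j) :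
    (ShortComplex.mk (K.iCycles i) (K.toCycles i j) (by
      rw [← cancel_mono (K.iCycles j), Category.assoc, HomologicalComplex.toCycles_i,
        HomologicalComplex.iCycles_d, zero_comp])).ShortExact := by
  have hz : IsZero (K.homology j) :=
    (HomologicalComplex.exactAt_iff_isZero_homology _ _).1 h
  haveI : Epi (K.toCycles i j) :=
    Preadditive.epi_of_isZero_cokernel' _ (K.homologyIsCokernel i j (by simp [← hij])) hz
  exact
    { exact := ShortComplex.exact_of_f_is_kernel _
        (isKernelOfComp (K.iCycles j) (K.d i j)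
          (K.cyclesIsKernel i j (by simp [← hij])) _ (K.toCycles_i i j)) }

section Core

variable (P : ObjectProperty C) [P.IsClosedUnderIsomorphisms] [P.ContainsZero]
  (hsum : ∀ X Y : C, P X → P Y → P (X ⨯ Y))
  (hlift : ∀ (E F : C) (u : E ⟶ F), Epi u → P F → IsSplitEpi u)
  (hst : ∀ (E F : C) (u : E ⟶ F), Epi u → P E → P F → P (kernel u))

include hst in
omit [P.ContainsZero] in
/-- in a short exact sequence with the last two terms in `P`, the first is in `P` -/
lemma prop_X₁ (S : ShortComplex C) (hS : S.ShortExact) (h2 : P S.X₂) (h3 : P S.X₃) : P S.X₁ := by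
  haveI := hS.epi_g
  haveI := hS.mono_f
  have hk := hst _ _ S.g inferInstance h2 h3
  exact P.prop_of_iso (IsLimit.conePointUniqueUpToIso (limit.isLimit _) hS.fIsKernel) hk

include hst in
/-- the cycles of an acyclic bounded above complex with terms in `P` above `a` are in `P` -/
lemma prop_cycles (M : CochainComplex C ℤ) (hM : ∀ i : ℤ, M.ExactAt i) (a b : ℤ)
    (hb : ∀ i : ℤ, b < i → IsZero (M.X i)) (hP : ∀ i : ℤ, a < i → P (M.X i)) :
    ∀ (k : ℕ) (i : ℤ), i + k = b + 1 → a + 1 ≤ i → P (M.cycles i) := by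
  intro k
  induction k with
  | zero =>
    intro i hi _
    exact P.prop_of_isZero (IsZero.of_mono (M.iCycles i) (hb i (by push_cast at hi; omega)))
  | succ k ih =>
    intro i hi hai
    have h1 := ih (i + 1) (by push_cast at hi ⊢; omega) (by omega)
    exact prop_X₁ P hst _ (shortExact_cycles M i (i + 1) rfl (hM _)) (hP i (by omega)) h1

variable [HasDerivedCategory.{w} C]

include hsum hlift hst in
/-- S5621 -/
theorem prop_first_term (a b : ℤ) (hab : a ≤ b) (F : CochainComplex C ℤ)
    (hvan : ∀ i : ℤ, i < a ∨ b < i → IsZero (F.X i)) (hP : ∀ i : ℤ, a < i → P (F.X i))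
    (hamp : ∃ E : CochainComplex C ℤ, (∀ i : ℤ, P (E.X i)) ∧
      (∀ i : ℤ, i < a ∨ b < i → IsZero (E.X i)) ∧ Nonempty (Q.obj E ≅ Q.obj F)) :
    P (F.X a) := by
  obtain ⟨E, hE, hEvan, ⟨e⟩⟩ := hamp
  haveI : E.IsKProjective :=
    isKProjective_of_hlift P hlift E b (fun i hi => hEvan i (Or.inr hi)) hE
  obtain ⟨f, hf, -⟩ := exists_quasiIso_of_iso E F e
  haveI := hf
  -- the cone of `f` is acyclic
  have hM : ∀ i : ℤ, (mappingCone f).ExactAt i := fun i => by
    rw [HomologicalComplex.exactAt_iff_isZero_homology]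
    exact (nqi_iff_cone f i).1 (nqi_of_quasiIso i f) i le_rfl
  have hMP : ∀ i : ℤ, a < i → P ((mappingCone f).X i) := fun i hi =>
    P.prop_of_iso (mappingConeXIso f i).symm (prop_biprod P hsum _ _ (hE _) (hP i hi))
  have hMb : ∀ i : ℤ, b < i → IsZero ((mappingCone f).X i) := fun i hi =>
    isZero_mappingCone_X f i (hEvan _ (Or.inr (by omega))) (hvan i (Or.inr hi))
  have hZ : P ((mappingCone f).cycles (a + 1)) :=
    prop_cycles P hst (mappingCone f) hM a b hMb hMP (b - a).toNat (a + 1) (by omega) le_rfl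
  -- `Z^a ≅ M^{a-1}`
  have hZa : P ((mappingCone f).cycles a) := by
    have hS := shortExact_cycles (mappingCone f) (a - 1) a (by omega) (hM a)
    haveI : Epi ((mappingCone f).toCycles (a - 1) a) := hS.epi_g
    have hex := hM (a - 1)
    rw [HomologicalComplex.exactAt_iff' _ (a - 2) (a - 1) a (by simp; omega) (by simp)] at hex
    have h0 : ((mappingCone f).sc' (a - 2) (a - 1) a).f = 0 :=
      (isZero_mappingCone_X f (a - 2) (hEvan _ (Or.inl (by omega)))
        (hvan _ (Or.inl (by omega)))).eq_of_src _ _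
    haveI : Mono ((mappingCone f).d (a - 1) a) := (ShortComplex.exact_iff_mono _ h0).1 hex
    haveI : Mono ((mappingCone f).toCycles (a - 1) a) :=
      mono_of_mono_fac ((mappingCone f).toCycles_i (a - 1) a)
    haveI : IsIso ((mappingCone f).toCycles (a - 1) a) := isIso_of_mono_of_epi _
    have h1 : P ((mappingCone f).X (a - 1)) :=
      P.prop_of_iso (mappingConeXIso f (a - 1)).symm
        (prop_biprod P hsum _ _ (hE _) (P.prop_of_isZero (hvan _ (Or.inl (by omega)))))
    exact P.prop_of_iso (asIso ((mappingCone f).toCycles (a - 1) a)) h1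
  -- `M^a ≅ Z^a ⊞ Z^{a+1}`
  have hMa : P ((mappingCone f).X a) := by
    have hS := shortExact_cycles (mappingCone f) a (a + 1) rfl (hM _)
    haveI := hS.epi_g
    haveI := hS.mono_f
    obtain ⟨⟨σ, hσ⟩⟩ := hlift _ _ ((mappingCone f).toCycles a (a + 1)) hS.epi_g hZ
    exact P.prop_of_iso
      (ShortComplex.Splitting.ofExactOfSection _ hS.exact σ hσ hS.mono_f).isoBinaryBiproduct.symm
      (prop_biprod P hsum _ _ hZa hZ)
  -- `F^a` is the kernel of the projection `M^a ⟶ E^{a+1}`
  let σ : (ShortComplex.mk ((mappingCone.inr f).f a)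
      ((mappingCone.fst f).1.v a (a + 1) rfl) (by simp)).Splitting :=
    { r := (mappingCone.snd f).v a a (add_zero a)
      s := (mappingCone.inl f).v (a + 1) a (by omega)
      f_r := by simp
      s_g := by simp
      id := by
        dsimp
        rw [add_comm]
        exact mappingCone.id_X f a (a + 1) rfl }
  exact prop_X₁ P hst _ σ.shortExact hMa (hE _)

end Core

end Groth.Agent.Lib.PCohAmp
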