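import Mathlib
import Groth.Agent.Lib.PCohNQI_helper2

/-!
# The mapping cylinder and modification of a complex along a map into the cone

For `u : E ⟶ F` and `κ : K ⟶ mappingCone u` we construct a factorization `u = v ≫ u'` with a short
exact sequence `0 ⟶ E ⟶ E' ⟶ K ⟶ 0` such that `u'` is an `m`-quasi-isomorphism whenever `κ` is.
-/

set_option autoImplicit false
universe v u
open CategoryTheory Limits HomologicalComplex CochainComplex

namespace Groth.Agent.Lib.PCohCyl
open Groth.Agent.Lib.PCohNQI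

variable {C : Type u} [Category.{v} C] [Abelian C]

section Five
open ComposableArrows Abelian HomologySequence

variable {S₁ S₂ : ShortComplex (CochainComplex C ℤ)} (φ : S₁ ⟶ S₂)
  (hS₁ : S₁.ShortExact) (hS₂ : S₂.ShortExact)

include hS₁ hS₂ in
lemma nqi_τ₂ (m : ℤ) [IsIso φ.τ₁] (h₃ : NQI m φ.τ₃) : NQI m φ.τ₂ := by
  have he : ∀ j : ℤ, m ≤ j → Epi (homologyMap φ.τ₂ j) := by
    intro j hj
    have hij : (ComplexShape.up ℤ).Rel j (j + 1) := by simp
    have h3e : Epi (homologyMap φ.τ₃ j) := by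
      rcases hj.lt_or_eq with h | h
      · haveI := h₃.1 j h
        infer_instance
      · subst h
        exact h₃.2
    apply epi_of_epi_of_epi_of_mono
      ((δlastFunctor ⋙ δlastFunctor).map (mapComposableArrows₅ φ hS₁ hS₂ j (j + 1) hij))
    · exact (composableArrows₅_exact hS₁ j (j + 1) hij).δlast.δlast
    · exact (composableArrows₅_exact hS₂ j (j + 1) hij).δlast.δlast
    · exact (inferInstance : Epi (homologyMap φ.τ₁ j))
    · exact h3e
    · exact (inferInstance : Mono (homologyMap φ.τ₁ (j + 1)))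
  refine ⟨fun j hj => ?_, he m le_rfl⟩
  have hm : Mono (homologyMap φ.τ₂ j) := by
    have hij : (ComplexShape.up ℤ).Rel (j - 1) j := by simp
    have h3e : Epi (homologyMap φ.τ₃ (j - 1)) := by
      rcases (show m ≤ j - 1 by omega).lt_or_eq with h | h
      · haveI := h₃.1 (j - 1) h
        infer_instance
      · rw [← h]
        exact h₃.2
    haveI := h₃.1 j hj
    apply mono_of_epi_of_mono_of_mono
      ((δ₀Functor ⋙ δ₀Functor).map (mapComposableArrows₅ φ hS₁ hS₂ (j - 1) j hij))
    · exact (composableArrows₅_exact hS₁ (j - 1) j hij).δ₀.δ₀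
    · exact (composableArrows₅_exact hS₂ (j - 1) j hij).δ₀.δ₀
    · exact h3e
    · exact (inferInstance : Mono (homologyMap φ.τ₁ j))
    · exact (inferInstance : Mono (homologyMap φ.τ₃ j))
  haveI := he j hj.le
  exact isIso_of_mono_of_epi _

end Five

section Cyl

variable {E F : CochainComplex C ℤ}

@[reassoc (attr := simp)]
lemma inl_f_fst_f (i : ℤ) :
    (biprod.inl : E ⟶ E ⊞ F).f i ≫ (biprod.fst : E ⊞ F ⟶ E).f i = 𝟙 _ := by
  rw [← HomologicalComplex.comp_f, biprod.inl_fst, HomologicalComplex.id_f]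

@[reassoc (attr := simp)]
lemma inl_f_snd_f (i : ℤ) :
    (biprod.inl : E ⟶ E ⊞ F).f i ≫ (biprod.snd : E ⊞ F ⟶ F).f i = 0 := by
  rw [← HomologicalComplex.comp_f, biprod.inl_snd, HomologicalComplex.zero_f]

@[reassoc (attr := simp)]
lemma inr_f_fst_f (i : ℤ) :
    (biprod.inr : F ⟶ E ⊞ F).f i ≫ (biprod.fst : E ⊞ F ⟶ E).f i = 0 := by
  rw [← HomologicalComplex.comp_f, biprod.inr_fst, HomologicalComplex.zero_f]

@[reassoc (attr := simp)]
lemma inr_f_snd_f (i : ℤ) :
    (biprod.inr : F ⟶ E ⊞ F).f i ≫ (biprod.snd : E ⊞ F ⟶ F).f i = 𝟙 _ := by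
  rw [← HomologicalComplex.comp_f, biprod.inr_snd, HomologicalComplex.id_f]

lemma total_f (i : ℤ) :
    (biprod.fst : E ⊞ F ⟶ E).f i ≫ (biprod.inl : E ⟶ E ⊞ F).f i +
      (biprod.snd : E ⊞ F ⟶ F).f i ≫ (biprod.inr : F ⟶ E ⊞ F).f i = 𝟙 _ := by
  rw [← HomologicalComplex.comp_f, ← HomologicalComplex.comp_f, ← HomologicalComplex.add_f_apply,
    biprod.total, HomologicalComplex.id_f]

variable (u : E ⟶ F)

/-- `(1, -u) : E ⟶ E ⊞ F` -/
noncomputable def jj : E ⟶ E ⊞ F := biprod.lift (𝟙 E) (-u)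
/-- `(u, 1) : E ⊞ F ⟶ F` -/
noncomputable def rr : E ⊞ F ⟶ F := biprod.desc u (𝟙 F)

lemma jj_rr : jj u ≫ rr u = 0 := by simp [jj, rr]

/-- the split short exact sequence `E ⟶ E ⊞ F ⟶ F` -/
noncomputable def S₀ : ShortComplex (CochainComplex C ℤ) := ShortComplex.mk (jj u) (rr u) (jj_rr u)

lemma S₀_id : biprod.fst ≫ biprod.lift (𝟙 E) (-u) + biprod.desc u (𝟙 F) ≫ biprod.inr =
    𝟙 (E ⊞ F) := by
  apply biprod.hom_ext' <;> apply biprod.hom_ext <;>
    simp [Preadditive.comp_add, Preadditive.add_comp]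

noncomputable def S₀splitting : (S₀ u).Splitting where
  r := biprod.fst
  s := biprod.inr
  f_r := by simp [S₀, jj]
  s_g := by simp [S₀, rr]
  id := by
    exact S₀_id u

lemma S₀_shortExact : (S₀ u).ShortExact := (S₀splitting u).shortExact

/-- the mapping cylinder -/
noncomputable abbrev cyl : CochainComplex C ℤ := mappingCone (jj u)

noncomputable def p : cyl u ⟶ F := mappingCone.descShortComplex (S₀ u)

instance : QuasiIso (p u) := mappingCone.quasiIso_descShortComplex (S₀_shortExact u)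

noncomputable def iE : E ⟶ cyl u := biprod.inl ≫ mappingCone.inr (jj u)

lemma iE_p : iE u ≫ p u = u := by
  have h : mappingCone.inr (jj u) ≫ p u = rr u := mappingCone.inr_descShortComplex (S₀ u)
  dsimp only [iE]
  rw [Category.assoc, h]
  simp [rr]

noncomputable def q : cyl u ⟶ mappingCone u :=
  mappingCone.map (jj u) u (𝟙 E) (-biprod.snd) (by simp [jj])

lemma iE_q : iE u ≫ q u = 0 := by
  dsimp only [iE, q, mappingCone.map]
  rw [Category.assoc, mappingCone.inr_desc]
  simp

@[reassoc (attr := simp)]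
lemma inl_v_q_f (i j : ℤ) (h : i + (-1) = j) :
    (mappingCone.inl (jj u)).v i j h ≫ (q u).f j = (mappingCone.inl u).v i j h := by
  simp [q, mappingCone.map, cyl]

@[reassoc (attr := simp)]
lemma inr_f_q_f (i : ℤ) :
    (mappingCone.inr (jj u)).f i ≫ (q u).f i =
      -(biprod.snd : E ⊞ F ⟶ F).f i ≫ (mappingCone.inr u).f i := by
  simp [q, mappingCone.map, cyl]

noncomputable def Scyl : ShortComplex (CochainComplex C ℤ) := ShortComplex.mk (iE u) (q u) (iE_q u)

noncomputable def ScylSplitting (i : ℤ) :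
    (ShortComplex.mk ((iE u).f i) ((q u).f i)
      (by rw [← HomologicalComplex.comp_f, iE_q, HomologicalComplex.zero_f])).Splitting where
  r := (mappingCone.snd (jj u)).v i i (add_zero i) ≫ (biprod.fst : E ⊞ F ⟶ E).f i
  s := (mappingCone.fst u).1.v i (i + 1) rfl ≫ (mappingCone.inl (jj u)).v (i + 1) i (by omega) +
      (mappingCone.snd u).v i i (add_zero i) ≫ (-(biprod.inr : F ⟶ E ⊞ F).f i) ≫
        (mappingCone.inr (jj u)).f i
  f_r := by
    dsimp [iE]
    simp
  s_g := by
    dsimp
    rw [Preadditive.add_comp]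
    simp only [Category.assoc, inl_v_q_f, inr_f_q_f]
    simp
    exact mappingCone.id_X u i (i + 1) rfl
  id := by
    dsimp
    apply mappingCone.ext_from (jj u) (i + 1) i rfl
    · simp [iE]
    · simp [iE]
      rw [← Category.assoc, ← Category.assoc, ← Preadditive.add_comp, total_f, Category.id_comp]

lemma Scyl_shortExact : (Scyl u).ShortExact :=
  HomologicalComplex.shortExact_of_degreewise_shortExact _
    (fun i => (ScylSplitting u i).shortExact)

section Pull

variable {K : CochainComplex C ℤ} (κ : K ⟶ mappingCone u)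

noncomputable abbrev E' : CochainComplex C ℤ := pullback (q u) κ

noncomputable def vv : E ⟶ E' u κ := pullback.lift (iE u) 0 (by rw [iE_q, zero_comp])

noncomputable def ππ : E' u κ ⟶ K := pullback.snd (q u) κ

noncomputable def u' : E' u κ ⟶ F := pullback.fst (q u) κ ≫ p u

lemma vv_fst : vv u κ ≫ pullback.fst (q u) κ = iE u := pullback.lift_fst _ _ _

lemma vv_ππ : vv u κ ≫ ππ u κ = 0 := pullback.lift_snd _ _ _

lemma vv_u' : vv u κ ≫ u' u κ = u := by
  dsimp only [u']
  rw [← Category.assoc, vv_fst, iE_p]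

noncomputable def Sκ : ShortComplex (CochainComplex C ℤ) :=
  ShortComplex.mk (vv u κ) (ππ u κ) (vv_ππ u κ)

lemma Sκ_shortExact : (Sκ u κ).ShortExact := by
  have hS := Scyl_shortExact u
  haveI : Epi (q u) := hS.epi_g
  haveI : Mono (iE u) := hS.mono_f
  haveI : Mono (vv u κ) := mono_of_mono_fac (vv_fst u κ)
  haveI : Epi (ππ u κ) := by
    dsimp only [ππ]
    infer_instance
  have hlift : ∀ {T : CochainComplex C ℤ} (t : T ⟶ E' u κ), t ≫ ππ u κ = 0 →
      ∃ l : T ⟶ E, l ≫ vv u κ = t := by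
    intro T t ht
    have h0 : (t ≫ pullback.fst (q u) κ) ≫ q u = 0 := by
      rw [Category.assoc, pullback.condition, ← Category.assoc]
      have : t ≫ pullback.snd (q u) κ = 0 := ht
      rw [this, zero_comp]
    obtain ⟨l, hl⟩ := KernelFork.IsLimit.lift' hS.fIsKernel (t ≫ pullback.fst (q u) κ) h0
    have hl' : l ≫ iE u = t ≫ pullback.fst (q u) κ := hl
    refine ⟨l, ?_⟩
    apply pullback.hom_ext
    · rw [Category.assoc, vv_fst]
      exact hl'
    · have h1 : vv u κ ≫ pullback.snd (q u) κ = 0 := vv_ππ u κ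
      have h2 : t ≫ pullback.snd (q u) κ = 0 := ht
      rw [Category.assoc, h1, comp_zero, h2]
  haveI : Mono (Sκ u κ).f := ‹Mono (vv u κ)›
  haveI : Epi (Sκ u κ).g := ‹Epi (ππ u κ)›
  refine ⟨ShortComplex.exact_of_f_is_kernel _ ?_⟩
  exact KernelFork.IsLimit.ofι _ _ (fun {T} t ht => (hlift t ht).choose)
    (fun {T} t ht => (hlift t ht).choose_spec)
    (fun {T} t ht l hl => by
      exact (cancel_mono (vv u κ)).1 (hl.trans (hlift t ht).choose_spec.symm))

noncomputable def Φκ : Sκ u κ ⟶ Scyl u :=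
  ShortComplex.homMk (𝟙 E) (pullback.fst (q u) κ) κ
    (by
      dsimp [Sκ, Scyl]
      rw [Category.id_comp, vv_fst])
    (by
      dsimp [Sκ, Scyl, ππ]
      exact pullback.condition)

instance : IsIso (Φκ u κ).τ₁ := by
  change IsIso (𝟙 E)
  infer_instance

lemma nqi_u' (m : ℤ) (h : NQI m κ) : NQI m (u' u κ) := by
  have h2 : NQI m (Φκ u κ).τ₂ :=
    nqi_τ₂ (Φκ u κ) (Sκ_shortExact u κ) (Scyl_shortExact u) m h
  exact nqi_comp_quasiIso m _ (p u) h2

end Pull

end Cyl

/-- modification of `E` along a morphism into the mapping cone -/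
theorem exists_factor {E F K : CochainComplex C ℤ} (u : E ⟶ F) (κ : K ⟶ mappingCone u) :
    ∃ (E' : CochainComplex C ℤ) (v : E ⟶ E') (u' : E' ⟶ F) (π : E' ⟶ K) (w : v ≫ π = 0),
      v ≫ u' = u ∧ (ShortComplex.mk v π w).ShortExact ∧ ∀ m : ℤ, NQI m κ → NQI m u' :=
  ⟨E' u κ, vv u κ, u' u κ, ππ u κ, vv_ππ u κ, vv_u' u κ, Sκ_shortExact u κ,
    fun m h => nqi_u' u κ m h⟩

lemma degreewise {E E' K : CochainComplex C ℤ} (v : E ⟶ E') (π : E' ⟶ K) (w : v ≫ π = 0)
    (hS : (ShortComplex.mk v π w).ShortExact) (i : ℤ) :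
    (ShortComplex.mk (v.f i) (π.f i)
      (by rw [← HomologicalComplex.comp_f, w, HomologicalComplex.zero_f])).ShortExact :=
  hS.map_of_exact (HomologicalComplex.eval C (ComplexShape.up ℤ) i)

/-- an `n`-quasi-isomorphism factors as a degreewise monomorphism which is an isomorphism in degrees
`≥ n`, followed by a quasi-isomorphism -/
theorem factor_quasiIso {E F : CochainComplex C ℤ} (n : ℤ) (u : E ⟶ F) (h : NQI n u) :
    ∃ (E' : CochainComplex C ℤ) (v : E ⟶ E') (u' : E' ⟶ F), v ≫ u' = u ∧ QuasiIso u' ∧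
      (∀ i : ℤ, Mono (v.f i)) ∧ (∀ i : ℤ, n ≤ i → IsIso (v.f i)) := by
  haveI : (mappingCone u).IsLE (n - 1) := by
    rw [CochainComplex.isLE_iff]
    intro i hi
    rw [HomologicalComplex.exactAt_iff_isZero_homology]
    exact (nqi_iff_cone u n).1 h i (by omega)
  obtain ⟨E', v, u', π, w, hvu, hS, hn⟩ := exists_factor u ((mappingCone u).ιTruncLE (n - 1))
  refine ⟨E', v, u', hvu, ?_, fun i => (degreewise v π w hS i).mono_f, fun i hi => ?_⟩
  · exact quasiIso_of_forall_nqi _ (fun m => hn m (nqi_of_quasiIso m _))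
  · have hSi := degreewise v π w hS i
    haveI := hSi.mono_f
    have hz : IsZero (((mappingCone u).truncLE (n - 1)).X i) :=
      CochainComplex.isZero_of_isStrictlyLE _ (n - 1) i (by omega)
    haveI : Epi (v.f i) := hSi.exact.epi_f (hz.eq_of_tgt _ _)
    exact isIso_of_mono_of_epi _

/-- adding an object of `P` in degree `n` to turn an `(n+1)`-quasi-isomorphism into an
`n`-quasi-isomorphism -/
theorem factor_add (P : ObjectProperty C) [P.IsClosedUnderIsomorphisms]
    (hql : PCoh.IsQuasiLiftable P) {E F : CochainComplex C ℤ} (n : ℤ) (u : E ⟶ F)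
    (h : NQI (n + 1) u) (hcone : PCoh.IsOfFiniteType P ((mappingCone u).homology n)) :
    ∃ (E' : CochainComplex C ℤ) (v : E ⟶ E') (u' : E' ⟶ F), v ≫ u' = u ∧
      (∀ i : ℤ, Mono (v.f i)) ∧ (∀ i : ℤ, i ≠ n → IsIso (v.f i)) ∧ P (cokernel (v.f n)) ∧
      NQI n u' := by
  obtain ⟨P₀, π₀, hP₀, hπ₀⟩ := hcone
  haveI := hπ₀
  obtain ⟨P', t, hP', ht⟩ := hql (pullback ((mappingCone u).homologyπ n) π₀) P₀
    (pullback.snd _ _) inferInstance hP₀
  haveI := ht
  let z : P' ⟶ (mappingCone u).cycles n := t ≫ pullback.fst _ _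
  have hz : Epi (z ≫ (mappingCone u).homologyπ n) := by
    have e : z ≫ (mappingCone u).homologyπ n = (t ≫ pullback.snd _ _) ≫ π₀ := by
      simp only [z, Category.assoc, pullback.condition]
    rw [e]
    infer_instance
  let κ : (HomologicalComplex.single C (ComplexShape.up ℤ) n).obj P' ⟶ mappingCone u :=
    HomologicalComplex.mkHomFromSingle (z ≫ (mappingCone u).iCycles n) (by
      intro k _
      rw [Category.assoc, HomologicalComplex.iCycles_d, comp_zero])
  have hκ : NQI n κ := by
    refine ⟨fun i hi => ?_, ?_⟩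
    · have h1 : IsZero (((HomologicalComplex.single C (ComplexShape.up ℤ) n).obj P').homology i) :=
        HomologicalComplex.isZero_single_obj_homology _ _ _ _ (by omega)
      have h2 : IsZero ((mappingCone u).homology i) := (nqi_iff_cone u (n + 1)).1 h i (by omega)
      exact ⟨⟨0, h1.eq_of_src _ _, h2.eq_of_src _ _⟩⟩
    · have e : (HomologicalComplex.singleObjCyclesSelfIso (ComplexShape.up ℤ) n P').inv ≫
          HomologicalComplex.cyclesMap κ n = z := by
        rw [← cancel_mono ((mappingCone u).iCycles n), Category.assoc,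
          HomologicalComplex.cyclesMap_i,
          HomologicalComplex.singleObjCyclesSelfIso_inv_iCycles_assoc,
          HomologicalComplex.mkHomFromSingle_f, Iso.inv_hom_id_assoc]
      have e2 : ((HomologicalComplex.single C (ComplexShape.up ℤ) n).obj P').homologyπ n ≫
          HomologicalComplex.homologyMap κ n =
          (HomologicalComplex.singleObjCyclesSelfIso (ComplexShape.up ℤ) n P').hom ≫
            z ≫ (mappingCone u).homologyπ n := by
        rw [HomologicalComplex.homologyπ_naturality, ← e, Category.assoc, Iso.hom_inv_id_assoc]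
      haveI : Epi (((HomologicalComplex.single C (ComplexShape.up ℤ) n).obj P').homologyπ n ≫
          HomologicalComplex.homologyMap κ n) := by
        rw [e2]
        infer_instance
      exact epi_of_epi
        (((HomologicalComplex.single C (ComplexShape.up ℤ) n).obj P').homologyπ n) _
  obtain ⟨E', v, u', π, w, hvu, hS, hn⟩ := exists_factor u κ
  refine ⟨E', v, u', hvu, fun i => (degreewise v π w hS i).mono_f, fun i hi => ?_, ?_, hn n hκ⟩
  · have hSi := degreewise v π w hS i
    haveI := hSi.mono_f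
    have hz : IsZero (((HomologicalComplex.single C (ComplexShape.up ℤ) n).obj P').X i) :=
      HomologicalComplex.isZero_single_obj_X _ _ _ _ hi
    haveI : Epi (v.f i) := hSi.exact.epi_f (hz.eq_of_tgt _ _)
    exact isIso_of_mono_of_epi _
  · have hSn := degreewise v π w hS n
    let e : cokernel (v.f n) ≅ ((HomologicalComplex.single C (ComplexShape.up ℤ) n).obj P').X n :=
      (colimit.isColimit (parallelPair (v.f n) 0)).coconePointUniqueUpToIso hSn.gIsCokernel
    exact P.prop_of_iso (e ≪≫ HomologicalComplex.singleObjXSelf (ComplexShape.up ℤ) n P').symm hP'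

end Groth.Agent.Lib.PCohCyl
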