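import Mathlib
import Groth.Agent.Lib.PCohCyl_helper2

/-!
# Degreewise splitting of the modification of a complex along a map into the cone
-/

set_option autoImplicit false
universe v u
open CategoryTheory Limits HomologicalComplex CochainComplex

namespace Groth.Agent.Lib.PCohCyl
open Groth.Agent.Lib.PCohNQI

variable {C : Type u} [Category.{v} C] [Abelian C]

lemma exists_section {E F K : CochainComplex C ℤ} (u : E ⟶ F) (κ : K ⟶ mappingCone u) (i : ℤ) :
    ∃ σ : K.X i ⟶ (E' u κ).X i, σ ≫ (ππ u κ).f i = 𝟙 _ := by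
  have hlim := isLimitOfHasPullbackOfPreservesLimit
    (HomologicalComplex.eval C (ComplexShape.up ℤ) i) (q u) κ
  let s : (mappingCone u).X i ⟶ (cyl u).X i := (ScylSplitting u i).s
  have hs : s ≫ (q u).f i = 𝟙 _ := (ScylSplitting u i).s_g
  have hcomm : (κ.f i ≫ s) ≫ (q u).f i = 𝟙 (K.X i) ≫ κ.f i := by
    rw [Category.assoc, hs, Category.comp_id, Category.id_comp]
  obtain ⟨l, -, hl⟩ := PullbackCone.IsLimit.lift' hlim (κ.f i ≫ s) (𝟙 (K.X i)) hcomm
  exact ⟨l, hl⟩

/-- `exists_factor` with degreewise sections -/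
theorem exists_factor_split {E F K : CochainComplex C ℤ} (u : E ⟶ F) (κ : K ⟶ mappingCone u) :
    ∃ (E' : CochainComplex C ℤ) (v : E ⟶ E') (u' : E' ⟶ F) (π : E' ⟶ K) (w : v ≫ π = 0),
      v ≫ u' = u ∧ (ShortComplex.mk v π w).ShortExact ∧ (∀ m : ℤ, NQI m κ → NQI m u') ∧
      ∀ i : ℤ, ∃ σ : K.X i ⟶ E'.X i, σ ≫ π.f i = 𝟙 _ :=
  ⟨E' u κ, vv u κ, u' u κ, ππ u κ, vv_ππ u κ, vv_u' u κ, Sκ_shortExact u κ,
    fun m h => nqi_u' u κ m h, fun i => exists_section u κ i⟩

/-- a degreewise short exact sequence with a section gives a biproduct decomposition -/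
lemma nonempty_iso_biprod {E E' K : CochainComplex C ℤ} (v : E ⟶ E') (π : E' ⟶ K)
    (w : v ≫ π = 0) (hS : (ShortComplex.mk v π w).ShortExact) (i : ℤ)
    (σ : K.X i ⟶ E'.X i) (hσ : σ ≫ π.f i = 𝟙 _) : Nonempty (E'.X i ≅ E.X i ⊞ K.X i) := by
  have hSi := degreewise v π w hS i
  haveI := hSi.mono_f
  exact ⟨(ShortComplex.Splitting.ofExactOfSection _ hSi.exact σ hσ hSi.mono_f).isoBinaryBiproduct⟩

/-- `factor_add` with the degree `n` term a biproduct -/
theorem factor_add_split (P : ObjectProperty C) [P.IsClosedUnderIsomorphisms]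
    (hql : PCoh.IsQuasiLiftable P) {E F : CochainComplex C ℤ} (n : ℤ) (u : E ⟶ F)
    (h : NQI (n + 1) u) (hcone : PCoh.IsOfFiniteType P ((mappingCone u).homology n)) :
    ∃ (E' : CochainComplex C ℤ) (v : E ⟶ E') (u' : E' ⟶ F), v ≫ u' = u ∧
      (∀ i : ℤ, Mono (v.f i)) ∧ (∀ i : ℤ, i ≠ n → IsIso (v.f i)) ∧
      (∃ P' : C, P P' ∧ Nonempty (E'.X n ≅ E.X n ⊞ P')) ∧ NQI n u' := by
  obtain ⟨P₀, π₀, hP₀, hπ₀⟩ := hcone
  haveI := hπ₀
  obtain ⟨P', t, hP', ht⟩ := hql (pullback ((mappingCone u).homologyπ n) π₀) P₀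
    (pullback.snd _ _) inferInstance hP₀
  haveI := ht
  let z : P' ⟶ (mappingCone u).cycles n := t ≫ pullback.fst _ _
  have hz : Epi (z ≫ (mappingCone u).homologyπ n) := by
    have e : z ≫ (mappingCone u).homologyπ n = (t ≫ pullback.snd _ _) ≫ π₀ := by
      simp only [z, Category.assoc, pullback.condition]
    rw [e]
    infer_instance
  let κ : (HomologicalComplex.single C (ComplexShape.up ℤ) n).obj P' ⟶ mappingCone u :=
    HomologicalComplex.mkHomFromSingle (z ≫ (mappingCone u).iCycles n) (by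
      intro k _
      rw [Category.assoc, HomologicalComplex.iCycles_d, comp_zero])
  have hκ : NQI n κ := by
    refine ⟨fun i hi => ?_, ?_⟩
    · have h1 : IsZero (((HomologicalComplex.single C (ComplexShape.up ℤ) n).obj P').homology i) :=
        HomologicalComplex.isZero_single_obj_homology _ _ _ _ (by omega)
      have h2 : IsZero ((mappingCone u).homology i) := (nqi_iff_cone u (n + 1)).1 h i (by omega)
      exact ⟨⟨0, h1.eq_of_src _ _, h2.eq_of_src _ _⟩⟩
    · have e : (HomologicalComplex.singleObjCyclesSelfIso (ComplexShape.up ℤ) n P').inv ≫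
          HomologicalComplex.cyclesMap κ n = z := by
        rw [← cancel_mono ((mappingCone u).iCycles n), Category.assoc,
          HomologicalComplex.cyclesMap_i,
          HomologicalComplex.singleObjCyclesSelfIso_inv_iCycles_assoc,
          HomologicalComplex.mkHomFromSingle_f, Iso.inv_hom_id_assoc]
      have e2 : ((HomologicalComplex.single C (ComplexShape.up ℤ) n).obj P').homologyπ n ≫
          HomologicalComplex.homologyMap κ n =
          (HomologicalComplex.singleObjCyclesSelfIso (ComplexShape.up ℤ) n P').hom ≫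
            z ≫ (mappingCone u).homologyπ n := by
        rw [HomologicalComplex.homologyπ_naturality, ← e, Category.assoc, Iso.hom_inv_id_assoc]
      haveI : Epi (((HomologicalComplex.single C (ComplexShape.up ℤ) n).obj P').homologyπ n ≫
          HomologicalComplex.homologyMap κ n) := by
        rw [e2]
        infer_instance
      exact epi_of_epi
        (((HomologicalComplex.single C (ComplexShape.up ℤ) n).obj P').homologyπ n) _
  obtain ⟨E', v, u', π, w, hvu, hS, hn, hsec⟩ := exists_factor_split u κ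
  refine ⟨E', v, u', hvu, fun i => (degreewise v π w hS i).mono_f, fun i hi => ?_, ?_, hn n hκ⟩
  · have hSi := degreewise v π w hS i
    haveI := hSi.mono_f
    have hz : IsZero (((HomologicalComplex.single C (ComplexShape.up ℤ) n).obj P').X i) :=
      HomologicalComplex.isZero_single_obj_X _ _ _ _ hi
    haveI : Epi (v.f i) := hSi.exact.epi_f (hz.eq_of_tgt _ _)
    exact isIso_of_mono_of_epi _
  · obtain ⟨σ, hσ⟩ := hsec n
    obtain ⟨e⟩ := nonempty_iso_biprod v π w hS n σ hσ
    exact ⟨P', hP', ⟨e ≪≫ biprod.mapIso (Iso.refl _)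
      (HomologicalComplex.singleObjXSelf (ComplexShape.up ℤ) n P')⟩⟩

end Groth.Agent.Lib.PCohCyl
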