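import Mathlib
import Groth.Agent.Lib.PCohCyl_helper2

/-!
# Pseudo-coherence over an abelian category: replacing by strictly pseudo-coherent complexes
-/

set_option autoImplicit false
universe v u
open CategoryTheory Limits HomologicalComplex CochainComplex

namespace Groth.Agent.Lib.PCohStab
open Groth.Agent.Lib.PCohNQI Groth.Agent.Lib.PCohCyl PCoh

variable {C : Type u} [Category.{v} C] [Abelian C]

lemma isOfFiniteType_of_iso (P : ObjectProperty C) {X Y : C} (e : X ≅ Y)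
    (h : IsOfFiniteType P X) : IsOfFiniteType P Y := by
  obtain ⟨Q, π, hQ, hπ⟩ := h
  haveI := hπ
  exact ⟨Q, π ≫ e.hom, hQ, inferInstance⟩

lemma isOfFiniteType_of_epi (P : ObjectProperty C) {X Y : C} (f : X ⟶ Y) [Epi f]
    (h : IsOfFiniteType P X) : IsOfFiniteType P Y := by
  obtain ⟨Q, π, hQ, hπ⟩ := h
  haveI := hπ
  exact ⟨Q, π ≫ f, hQ, inferInstance⟩

lemma isIso_cokernel_π_of_eq_zero {X Y : C} (f : X ⟶ Y) (h : f = 0) : IsIso (cokernel.π f) := by
  subst h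
  infer_instance

section Aug

variable (E : CochainComplex C ℤ) (n : ℤ)

/-- the objects of the augmented complex `Z^n ⟶ E^n ⟶ E^{n+1} ⟶ ⋯` -/
noncomputable def augX : ℕ → C
  | 0 => E.cycles n
  | (k + 1) => E.X (n + (k : ℤ))

/-- the differentials of the augmented complex -/
noncomputable def augD : ∀ k : ℕ, augX E n k ⟶ augX E n (k + 1)
  | 0 => E.iCycles n ≫ (E.XIsoOfEq (show n = n + ((0 : ℕ) : ℤ) by simp)).hom
  | (k + 1) => E.d (n + (k : ℤ)) (n + ((k + 1 : ℕ) : ℤ))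

lemma augD_sq : ∀ k : ℕ, augD E n k ≫ augD E n (k + 1) = 0
  | 0 => by
    change (E.iCycles n ≫ (E.XIsoOfEq _).hom) ≫ E.d (n + ((0 : ℕ) : ℤ)) (n + ((0 + 1 : ℕ) : ℤ)) = 0
    rw [Category.assoc, HomologicalComplex.XIsoOfEq_hom_comp_d, HomologicalComplex.iCycles_d]
  | (k + 1) => by
    change E.d (n + (k : ℤ)) (n + ((k + 1 : ℕ) : ℤ)) ≫
      E.d (n + ((k + 1 : ℕ) : ℤ)) (n + ((k + 1 + 1 : ℕ) : ℤ)) = 0
    exact E.d_comp_d _ _ _

/-- the augmented complex -/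
noncomputable def aug : CochainComplex C ℕ := CochainComplex.of (augX E n) (augD E n) (augD_sq E n)

lemma aug_d (k : ℕ) : (aug E n).d k (k + 1) = augD E n k := CochainComplex.of_d _ _ _

lemma aug_exact_zero : (aug E n).ExactAt 0 := by
  rw [HomologicalComplex.exactAt_iff' _ 0 0 1 (by simp) (by simp)]
  have hf : ((aug E n).sc' 0 0 1).f = 0 := by
    change (aug E n).d 0 0 = 0
    exact (aug E n).shape 0 0 (by simp)
  rw [ShortComplex.exact_iff_mono _ hf]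
  change Mono ((aug E n).d 0 (0 + 1))
  rw [aug_d]
  change Mono (E.iCycles n ≫ (E.XIsoOfEq _).hom)
  infer_instance

lemma aug_exact_one : (aug E n).ExactAt 1 := by
  rw [HomologicalComplex.exactAt_iff' _ 0 1 2 (by simp) (by simp)]
  have h0 : (ShortComplex.mk (E.iCycles n) (E.d n (n + 1)) (E.iCycles_d n (n + 1))).Exact :=
    ShortComplex.exact_of_f_is_kernel _ (E.cyclesIsKernel n (n + 1) (by simp))
  have e1 : n = n + ((0 : ℕ) : ℤ) := by simp
  have e2 : n + 1 = n + ((0 + 1 : ℕ) : ℤ) := by simp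
  have hd0 : (aug E n).d 0 1 = E.iCycles n ≫ (E.XIsoOfEq e1).hom := aug_d E n 0
  have hd1 : (aug E n).d 1 2 = E.d (n + ((0 : ℕ) : ℤ)) (n + ((0 + 1 : ℕ) : ℤ)) := aug_d E n 1
  have e : ShortComplex.mk (E.iCycles n) (E.d n (n + 1)) (E.iCycles_d n (n + 1)) ≅
      (aug E n).sc' 0 1 2 := by
    refine ShortComplex.isoMk (Iso.refl _) (E.XIsoOfEq e1) (E.XIsoOfEq e2) ?_ ?_
    · change 𝟙 _ ≫ (aug E n).d 0 1 = E.iCycles n ≫ (E.XIsoOfEq e1).hom
      rw [Category.id_comp, hd0]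
    · have key : (E.XIsoOfEq e1).hom ≫ E.d (n + ((0 : ℕ) : ℤ)) (n + ((0 + 1 : ℕ) : ℤ)) =
          E.d n (n + 1) ≫ (E.XIsoOfEq e2).hom := by
        rw [HomologicalComplex.XIsoOfEq_hom_comp_d, HomologicalComplex.d_comp_XIsoOfEq_hom]
      change (E.XIsoOfEq e1).hom ≫ (aug E n).d 1 2 = E.d n (n + 1) ≫ (E.XIsoOfEq e2).hom
      rw [hd1]
      exact key
  exact ShortComplex.exact_of_iso e h0
  /-
  · change 𝟙 _ ≫ (aug E n).d 0 1 = E.iCycles n ≫ (E.XIsoOfEq e1).hom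
    rw [Category.id_comp, hd0]
  · change (E.XIsoOfEq e1).hom ≫ (aug E n).d 1 2 = E.d n (n + 1) ≫ (E.XIsoOfEq e2).hom
    rw [hd1, HomologicalComplex.XIsoOfEq_hom_comp_d, HomologicalComplex.d_comp_XIsoOfEq_hom] -/

lemma aug_exact_succ (k : ℕ) (h : E.ExactAt (n + ((k + 1 : ℕ) : ℤ))) :
    (aug E n).ExactAt (k + 2) := by
  rw [HomologicalComplex.exactAt_iff' _ (k + 1) (k + 2) (k + 3) (by simp) (by simp)]
  rw [HomologicalComplex.exactAt_iff' _ (n + (k : ℤ)) (n + ((k + 1 : ℕ) : ℤ))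
    (n + ((k + 1 + 1 : ℕ) : ℤ)) (by simp; ring) (by simp; ring)] at h
  have hd1 : (aug E n).d (k + 1) (k + 2) = E.d (n + (k : ℤ)) (n + ((k + 1 : ℕ) : ℤ)) :=
    aug_d E n (k + 1)
  have hd2 : (aug E n).d (k + 2) (k + 3) =
      E.d (n + ((k + 1 : ℕ) : ℤ)) (n + ((k + 1 + 1 : ℕ) : ℤ)) := aug_d E n (k + 2)
  have e : E.sc' (n + (k : ℤ)) (n + ((k + 1 : ℕ) : ℤ)) (n + ((k + 1 + 1 : ℕ) : ℤ)) ≅
      (aug E n).sc' (k + 1) (k + 2) (k + 3) := by
    refine ShortComplex.isoMk (Iso.refl _) (Iso.refl _) (Iso.refl _) ?_ ?_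
    · change 𝟙 _ ≫ (aug E n).d (k + 1) (k + 2) = E.d (n + (k : ℤ)) (n + ((k + 1 : ℕ) : ℤ)) ≫ 𝟙 _
      rw [Category.id_comp, Category.comp_id, hd1]
    · change 𝟙 _ ≫ (aug E n).d (k + 2) (k + 3) =
        E.d (n + ((k + 1 : ℕ) : ℤ)) (n + ((k + 1 + 1 : ℕ) : ℤ)) ≫ 𝟙 _
      rw [Category.id_comp, Category.comp_id, hd2]
  exact ShortComplex.exact_of_iso e h

end Aug

/-- (C): the top cohomology of a strictly `n`-pseudo-coherent complex acyclic above `n` is of finite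
type -/
theorem finiteType_homology (P : ObjectProperty C) (hqs : IsQuasiStableUnderKernels P)
    (n : ℤ) (E : CochainComplex C ℤ) (hE : IsStrictPC P n E)
    (hac : ∀ i : ℤ, n < i → IsZero (E.homology i)) : IsOfFiniteType P (E.homology n) := by
  obtain ⟨⟨b, hb⟩, hP⟩ := hE
  have hex : ∀ i : ℕ, (aug E n).ExactAt i := by
    intro i
    match i with
    | 0 => exact aug_exact_zero E n
    | 1 => exact aug_exact_one E n
    | (k + 2) =>
      apply aug_exact_succ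
      rw [HomologicalComplex.exactAt_iff_isZero_homology]
      exact hac _ (by push_cast; omega)
  have hbd : ∃ N : ℕ, ∀ i : ℕ, N < i → IsZero ((aug E n).X i) := by
    refine ⟨(b - n).toNat + 1, fun i hi => ?_⟩
    obtain ⟨k, rfl⟩ := Nat.exists_eq_succ_of_ne_zero (show i ≠ 0 by omega)
    exact hb (n + (k : ℤ)) (by omega)
  have hPX : ∀ i : ℕ, 1 ≤ i → P ((aug E n).X i) := by
    intro i hi
    obtain ⟨k, rfl⟩ := Nat.exists_eq_succ_of_ne_zero (show i ≠ 0 by omega)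
    exact hP (n + (k : ℤ)) (by omega)
  have h0 : IsOfFiniteType P (E.cycles n) := hqs (aug E n) hex hbd hPX
  exact isOfFiniteType_of_epi P (E.homologyπ n) h0

end Groth.Agent.Lib.PCohStab
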