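import Mathlib
import Groth.Agent.Lib.PCohStab_helper2
import Groth.Agent.Lib.PerfectCx_helper2

/-!
# Resolutions by strictly pseudo-coherent complexes (SGA 6 I 2.2)
-/

set_option autoImplicit false
universe v u
open CategoryTheory Limits HomologicalComplex CochainComplex

namespace Groth.Agent.Lib.PCohRes
open Groth.Agent.Lib.PCohNQI Groth.Agent.Lib.PCohCyl Groth.Agent.Lib.PCohStab PCoh
open Groth.Agent.PerfectCx ZeroObject

variable {C : Type u} [Category.{v} C] [Abelian C]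

lemma quasiIso_map {K₁ L₁ K₂ L₂ : CochainComplex C ℤ} (φ₁ : K₁ ⟶ L₁) (φ₂ : K₂ ⟶ L₂)
    (a : K₁ ⟶ K₂) (b : L₁ ⟶ L₂) (comm : φ₁ ≫ b = a ≫ φ₂) [QuasiIso a] [QuasiIso b] :
    QuasiIso (mappingCone.map φ₁ φ₂ a b comm) := by
  letI := HasDerivedCategory.standard C
  rw [← DerivedCategory.isIso_Q_map_iff_quasiIso]
  have h1 : IsIso (DerivedCategory.Q.map a) := by
    rw [DerivedCategory.isIso_Q_map_iff_quasiIso]
    infer_instance
  have h2 : IsIso (DerivedCategory.Q.map b) := by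
    rw [DerivedCategory.isIso_Q_map_iff_quasiIso]
    infer_instance
  exact Pretriangulated.isIso₃_of_isIso₁₂
    (DerivedCategory.Q.mapTriangle.map (mappingCone.triangleMap φ₁ φ₂ a b comm))
    (dist φ₁) (dist φ₂) h1 h2

lemma isZero_homology_of_isZero_X (K : CochainComplex C ℤ) (i : ℤ) (h : IsZero (K.X i)) :
    IsZero (K.homology i) :=
  (HomologicalComplex.exactAt_iff_isZero_homology _ _).1 (ShortComplex.exact_of_isZero_X₂ _ h)

/-- the inductive invariant: a complex with terms in `P`, concentrated in `[m, b]`, with an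
`m`-quasi-isomorphism to `E` -/
def Inv (P : ObjectProperty C) (E : CochainComplex C ℤ) (b m : ℤ) : Prop :=
  ∃ (F' : CochainComplex C ℤ) (v : F' ⟶ E), (∀ i : ℤ, P (F'.X i)) ∧
    (∀ i : ℤ, b < i → IsZero (F'.X i)) ∧ (∀ i : ℤ, i < m → IsZero (F'.X i)) ∧ NQI m v

lemma inv_base (P : ObjectProperty C) [P.IsClosedUnderIsomorphisms] [P.ContainsZero]
    (E : CochainComplex C ℤ) (b : ℤ) (hE : ∀ i : ℤ, b < i → IsZero (E.homology i)) :
    Inv P E b (b + 1) := by
  have hz : ∀ i : ℤ, IsZero ((0 : CochainComplex C ℤ).X i) := fun i =>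
    (HomologicalComplex.eval C (ComplexShape.up ℤ) i).map_isZero (isZero_zero _)
  refine ⟨0, 0, fun i => P.prop_of_isZero (hz i), fun i _ => hz i, fun i _ => hz i,
    fun i hi => ?_, ?_⟩
  · have h1 : IsZero ((0 : CochainComplex C ℤ).homology i) :=
      isZero_homology_of_isZero_X _ i (hz i)
    have h2 := hE i (by omega)
    exact ⟨⟨0, h1.eq_of_src _ _, h2.eq_of_src _ _⟩⟩
  · exact (hE (b + 1) (by omega)).epi _

lemma inv_step (P : ObjectProperty C) [P.IsClosedUnderIsomorphisms]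
    (hsum : ∀ X Y : C, P X → P Y → P (X ⨯ Y))
    (hqs : IsQuasiStableUnderKernels P) (hql : IsQuasiLiftable P)
    {E F : CochainComplex C ℤ} (u : E ⟶ F) [QuasiIso u] (n : ℤ) (hF : IsStrictPC P n F)
    (b m : ℤ) (hnm : n ≤ m) (hmb : m ≤ b) (h : Inv P E b (m + 1)) : Inv P E b m := by
  obtain ⟨⟨b₀, hb₀⟩, hFP⟩ := hF
  obtain ⟨F', v, hP', hb', hm', hv⟩ := h
  have hM : IsStrictPC P m (mappingCone (v ≫ u)) := by
    refine ⟨⟨max b b₀, fun i hi => ?_⟩, fun i hi => ?_⟩
    · exact isZero_mappingCone_X _ i (hb' _ (by omega)) (hb₀ i (by omega))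
    · exact P.prop_of_iso (mappingConeXIso _ i).symm
        (prop_biprod P hsum _ _ (hP' _) (hFP i (by omega)))
  have hvu : NQI (m + 1) (v ≫ u) := nqi_comp_quasiIso (m + 1) v u hv
  have hac : ∀ i : ℤ, m < i → IsZero ((mappingCone (v ≫ u)).homology i) :=
    fun i hi => (nqi_iff_cone _ (m + 1)).1 hvu i (by omega)
  have hft := finiteType_homology P hqs m _ hM hac
  have comm : v ≫ u = 𝟙 F' ≫ v ≫ u := by simp
  haveI : QuasiIso (mappingCone.map v (v ≫ u) (𝟙 F') u comm) := quasiIso_map _ _ _ _ _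
  have hft' : IsOfFiniteType P ((mappingCone v).homology m) :=
    isOfFiniteType_of_iso P
      (asIso (homologyMap (mappingCone.map v (v ≫ u) (𝟙 F') u comm) m)).symm hft
  obtain ⟨F'', v', u'', h1, h2, h3, h4, h5⟩ := factor_add P hql m v hv hft'
  have hiso : ∀ i : ℤ, i ≠ m → (F'.X i ≅ F''.X i) := fun i hi => by
    haveI := h3 i hi
    exact asIso (v'.f i)
  refine ⟨F'', u'', fun i => ?_, fun i hi => ?_, fun i hi => ?_, h5⟩
  · by_cases him : i = m
    · subst him
      have h0 : v'.f i = 0 := (hm' i (by omega)).eq_of_src _ _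
      haveI := isIso_cokernel_π_of_eq_zero _ h0
      exact P.prop_of_iso (asIso (cokernel.π (v'.f i))).symm h4
    · exact P.prop_of_iso (hiso i him) (hP' i)
  · exact IsZero.of_iso (hb' i hi) (hiso i (by omega)).symm
  · exact IsZero.of_iso (hm' i (by omega)) (hiso i (by omega)).symm

theorem inv_main (P : ObjectProperty C) [P.IsClosedUnderIsomorphisms] [P.ContainsZero]
    (hsum : ∀ X Y : C, P X → P Y → P (X ⨯ Y))
    (hqs : IsQuasiStableUnderKernels P) (hql : IsQuasiLiftable P)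
    {E F : CochainComplex C ℤ} (u : E ⟶ F) [QuasiIso u] (n : ℤ) (hF : IsStrictPC P n F)
    (b : ℤ) (hnb : n ≤ b + 1) (hE : ∀ i : ℤ, b < i → IsZero (E.homology i)) : Inv P E b n := by
  have key : ∀ k : ℕ, ∀ m : ℤ, m + k = b + 1 → n ≤ m → Inv P E b m := by
    intro k
    induction k with
    | zero =>
      intro m hm _
      have : m = b + 1 := by simpa using hm
      subst this
      exact inv_base P E b hE
    | succ k ih =>
      intro m hm hnm
      exact inv_step P hsum hqs hql u n hF b m hnm (by push_cast at hm; omega)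
        (ih (m + 1) (by push_cast at hm; omega) (by omega))
  exact key (b + 1 - n).toNat n (by omega) le_rfl

/-- Core theorem: if `E` is quasi-isomorphic to a strictly `n`-pseudo-coherent complex and is acyclic
above `b ≥ n - 1`, then it receives a quasi-isomorphism from a strictly `n`-pseudo-coherent complex
vanishing above `b`. -/
theorem exists_quasiIso_strictPC (P : ObjectProperty C) [P.IsClosedUnderIsomorphisms]
    [P.ContainsZero] (hsum : ∀ X Y : C, P X → P Y → P (X ⨯ Y))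
    (hqs : IsQuasiStableUnderKernels P) (hql : IsQuasiLiftable P)
    {E F : CochainComplex C ℤ} (u : E ⟶ F) [QuasiIso u] (n : ℤ) (hF : IsStrictPC P n F)
    (b : ℤ) (hnb : n ≤ b + 1) (hE : ∀ i : ℤ, b < i → IsZero (E.homology i)) :
    ∃ (F' : CochainComplex C ℤ) (v : F' ⟶ E), QuasiIso v ∧ (∀ i : ℤ, n ≤ i → P (F'.X i)) ∧
      (∀ i : ℤ, b < i → IsZero (F'.X i)) := by
  obtain ⟨F', v, hP', hb', -, hv⟩ := inv_main P hsum hqs hql u n hF b hnb hE
  obtain ⟨F'', w, v', -, h2, -, h4⟩ := factor_quasiIso n v hv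
  refine ⟨F'', v', h2, fun i hi => ?_, fun i hi => ?_⟩
  · haveI := h4 i hi
    exact P.prop_of_iso (asIso (w.f i)) (hP' i)
  · haveI := h4 i (by omega)
    exact IsZero.of_iso (hb' i hi) (asIso (w.f i)).symm

/-- S5597 -/
theorem exists_strictPC_quasiIso (P : ObjectProperty C) [P.IsClosedUnderIsomorphisms]
    [P.ContainsZero] (hsum : ∀ X Y : C, P X → P Y → P (X ⨯ Y))
    (hqs : IsQuasiStableUnderKernels P) (hql : IsQuasiLiftable P)
    {E F : CochainComplex C ℤ} (u : E ⟶ F) [QuasiIso u] (n : ℤ) (hF : IsStrictPC P n F) :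
    ∃ (F' : CochainComplex C ℤ) (v : F' ⟶ E), IsStrictPC P n F' ∧ QuasiIso v := by
  obtain ⟨b₀, hb₀⟩ := hF.1
  have hE : ∀ i : ℤ, max b₀ (n - 1) < i → IsZero (E.homology i) := fun i hi =>
    IsZero.of_iso (isZero_homology_of_isZero_X F i (hb₀ i (by omega)))
      (asIso (homologyMap u i))
  obtain ⟨F', v, hv, hP', hb'⟩ :=
    exists_quasiIso_strictPC P hsum hqs hql u n hF (max b₀ (n - 1)) (by omega) hE
  exact ⟨F', v, ⟨⟨_, hb'⟩, hP'⟩, hv⟩

end Groth.Agent.Lib.PCohRes
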