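import Mathlib
import Groth.Agent.Lib.PCohRes_helper2

/-!
# `n`-pseudo-coherent objects of the derived category (SGA 6 I 2)
-/

set_option autoImplicit false
universe w v u
open CategoryTheory Limits HomologicalComplex CochainComplex

namespace Groth.Agent.Lib.PCohDer
open Groth.Agent.Lib.PCohNQI Groth.Agent.Lib.PCohCyl Groth.Agent.Lib.PCohStab
open Groth.Agent.Lib.PCohRes PCoh Groth.Agent.PerfectCx ZeroObject DerivedCategory

variable {C : Type u} [Category.{v} C] [Abelian C]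

/-- finding a map from a single object of `P` which is an `n`-quasi-isomorphism -/
lemma exists_single_nqi (P : ObjectProperty C) (hql : IsQuasiLiftable P) (M : CochainComplex C ℤ)
    (n : ℤ) (hac : ∀ i : ℤ, n < i → IsZero (M.homology i))
    (hft : IsOfFiniteType P (M.homology n)) :
    ∃ (P' : C) (κ : (HomologicalComplex.single C (ComplexShape.up ℤ) n).obj P' ⟶ M),
      P P' ∧ NQI n κ := by
  obtain ⟨P₀, π₀, hP₀, hπ₀⟩ := hft
  haveI := hπ₀
  obtain ⟨P', t, hP', ht⟩ := hql (pullback (M.homologyπ n) π₀) P₀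
    (pullback.snd _ _) inferInstance hP₀
  haveI := ht
  let z : P' ⟶ M.cycles n := t ≫ pullback.fst _ _
  have hz : Epi (z ≫ M.homologyπ n) := by
    have e : z ≫ M.homologyπ n = (t ≫ pullback.snd _ _) ≫ π₀ := by
      simp only [z, Category.assoc, pullback.condition]
    rw [e]
    infer_instance
  let κ : (HomologicalComplex.single C (ComplexShape.up ℤ) n).obj P' ⟶ M :=
    HomologicalComplex.mkHomFromSingle (z ≫ M.iCycles n) (by
      intro k _
      rw [Category.assoc, HomologicalComplex.iCycles_d, comp_zero])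
  refine ⟨P', κ, hP', fun i hi => ?_, ?_⟩
  · have h1 : IsZero (((HomologicalComplex.single C (ComplexShape.up ℤ) n).obj P').homology i) :=
      HomologicalComplex.isZero_single_obj_homology _ _ _ _ (by omega)
    have h2 : IsZero (M.homology i) := hac i hi
    exact ⟨⟨0, h1.eq_of_src _ _, h2.eq_of_src _ _⟩⟩
  · have e : (HomologicalComplex.singleObjCyclesSelfIso (ComplexShape.up ℤ) n P').inv ≫
        HomologicalComplex.cyclesMap κ n = z := by
      rw [← cancel_mono (M.iCycles n), Category.assoc,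
        HomologicalComplex.cyclesMap_i,
        HomologicalComplex.singleObjCyclesSelfIso_inv_iCycles_assoc,
        HomologicalComplex.mkHomFromSingle_f, Iso.inv_hom_id_assoc]
    have e2 : ((HomologicalComplex.single C (ComplexShape.up ℤ) n).obj P').homologyπ n ≫
        HomologicalComplex.homologyMap κ n =
        (HomologicalComplex.singleObjCyclesSelfIso (ComplexShape.up ℤ) n P').hom ≫
          z ≫ M.homologyπ n := by
      rw [HomologicalComplex.homologyπ_naturality, ← e, Category.assoc, Iso.hom_inv_id_assoc]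
    haveI : Epi (((HomologicalComplex.single C (ComplexShape.up ℤ) n).obj P').homologyπ n ≫
        HomologicalComplex.homologyMap κ n) := by
      rw [e2]
      infer_instance
    exact epi_of_epi
      (((HomologicalComplex.single C (ComplexShape.up ℤ) n).obj P').homologyπ n) _

/-- (B) repackaged: the target of an `n`-quasi-isomorphism from a strictly `n`-pseudo-coherent
complex is quasi-isomorphic to a strictly `n`-pseudo-coherent complex -/
lemma exists_strictPC_of_nqi (P : ObjectProperty C) [P.IsClosedUnderIsomorphisms]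
    {E F : CochainComplex C ℤ} (n : ℤ) (g : E ⟶ F) (hg : NQI n g) (hE : IsStrictPC P n E) :
    ∃ (E' : CochainComplex C ℤ) (u' : E' ⟶ F), IsStrictPC P n E' ∧ QuasiIso u' ∧
      ∀ b : ℤ, n ≤ b + 1 → (∀ i : ℤ, b < i → IsZero (E.X i)) → ∀ i : ℤ, b < i → IsZero (E'.X i) := by
  obtain ⟨⟨b₀, hb₀⟩, hP⟩ := hE
  obtain ⟨E', v, u', -, h2, -, h4⟩ := factor_quasiIso n g hg
  have hb : ∀ b : ℤ, n ≤ b + 1 → (∀ i : ℤ, b < i → IsZero (E.X i)) →
      ∀ i : ℤ, b < i → IsZero (E'.X i) := by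
    intro b hnb hb i hi
    haveI := h4 i (by omega)
    exact IsZero.of_iso (hb i hi) (asIso (v.f i)).symm
  refine ⟨E', u', ⟨⟨max b₀ (n - 1), ?_⟩, fun i hi => ?_⟩, h2, hb⟩
  · exact hb _ (by omega) (fun i hi => hb₀ i (by omega))
  · haveI := h4 i hi
    exact P.prop_of_iso (asIso (v.f i)) (hP i hi)

variable [HasDerivedCategory.{w} C]

/-- `F ∈ D(C)` is `n`-pseudo-coherent -/
def IsNPC (P : ObjectProperty C) (n : ℤ) (F : DerivedCategory C) : Prop :=
  ∃ E : CochainComplex C ℤ, IsStrictPC P n E ∧ Nonempty (Q.obj E ≅ F)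

lemma IsNPC.of_iso {P : ObjectProperty C} {n : ℤ} {F G : DerivedCategory C} (e : F ≅ G)
    (h : IsNPC P n F) : IsNPC P n G := by
  obtain ⟨E, hE, ⟨e'⟩⟩ := h
  exact ⟨E, hE, ⟨e' ≪≫ e⟩⟩

lemma IsNPC.mono {P : ObjectProperty C} {n m : ℤ} (hnm : n ≤ m) {F : DerivedCategory C}
    (h : IsNPC P n F) : IsNPC P m F := by
  obtain ⟨E, ⟨hb, hP⟩, he⟩ := h
  exact ⟨E, ⟨hb, fun i hi => hP i (by omega)⟩, he⟩

lemma quasiIso_of_isIso_Q_map {E F : CochainComplex C ℤ} (f : E ⟶ F) (h : IsIso (Q.map f)) :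
    QuasiIso f := (isIso_Q_map_iff_quasiIso C f).1 h

instance isIso_Q_map_of_quasiIso {E F : CochainComplex C ℤ} (f : E ⟶ F) [QuasiIso f] :
    IsIso (Q.map f) := (isIso_Q_map_iff_quasiIso C f).2 inferInstance

/-- `H^i(Q E) ≅ H^i(E)` -/
noncomputable def homologyIso (E : CochainComplex C ℤ) (i : ℤ) :
    (DerivedCategory.homologyFunctor C i).obj (Q.obj E) ≅ E.homology i :=
  (homologyFunctorFactors C i).app E

lemma isIso_homology_Q_map_iff {E F : CochainComplex C ℤ} (g : E ⟶ F) (i : ℤ) :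
    IsIso ((DerivedCategory.homologyFunctor C i).map (Q.map g)) ↔ IsIso (homologyMap g i) :=
  NatIso.isIso_map_iff (homologyFunctorFactors C i) g

lemma epi_homology_Q_map_iff {E F : CochainComplex C ℤ} (g : E ⟶ F) (i : ℤ) :
    Epi ((DerivedCategory.homologyFunctor C i).map (Q.map g)) ↔ Epi (homologyMap g i) := by
  have h := homologyFunctorFactors_hom_naturality g i
  have := (MorphismProperty.epimorphisms C).arrow_mk_iso_iff
    (Arrow.isoMk ((homologyFunctorFactors C i).app E) ((homologyFunctorFactors C i).app F) h.symm :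
      Arrow.mk ((DerivedCategory.homologyFunctor C i).map (Q.map g)) ≅
        Arrow.mk (homologyMap g i))
  simpa only [MorphismProperty.epimorphisms.iff] using this

/-- `n`-isomorphisms in the derived category -/
def NIso (n : ℤ) {F G : DerivedCategory C} (α : F ⟶ G) : Prop :=
  (∀ i : ℤ, n < i → IsIso ((DerivedCategory.homologyFunctor C i).map α)) ∧
    Epi ((DerivedCategory.homologyFunctor C n).map α)

lemma nIso_Q_map_iff {E F : CochainComplex C ℤ} (g : E ⟶ F) (n : ℤ) :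
    NIso n (Q.map g) ↔ NQI n g := by
  constructor
  · rintro ⟨h1, h2⟩
    exact ⟨fun i hi => (isIso_homology_Q_map_iff g i).1 (h1 i hi),
      (epi_homology_Q_map_iff g n).1 h2⟩
  · rintro ⟨h1, h2⟩
    exact ⟨fun i hi => (isIso_homology_Q_map_iff g i).2 (h1 i hi),
      (epi_homology_Q_map_iff g n).2 h2⟩

lemma NIso.comp_iso {n : ℤ} {F G H : DerivedCategory C} {α : F ⟶ G} (h : NIso n α) (β : G ⟶ H)
    [IsIso β] : NIso n (α ≫ β) := by
  refine ⟨fun i hi => ?_, ?_⟩
  · haveI := h.1 i hi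
    rw [Functor.map_comp]
    infer_instance
  · haveI := h.2
    rw [Functor.map_comp]
    infer_instance

lemma NIso.iso_comp {n : ℤ} {F G H : DerivedCategory C} (β : F ⟶ G) [IsIso β] {α : G ⟶ H}
    (h : NIso n α) : NIso n (β ≫ α) := by
  refine ⟨fun i hi => ?_, ?_⟩
  · haveI := h.1 i hi
    rw [Functor.map_comp]
    infer_instance
  · haveI := h.2
    rw [Functor.map_comp]
    infer_instance

section Core

variable (P : ObjectProperty C) [P.IsClosedUnderIsomorphisms] [P.ContainsZero]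
  (hsum : ∀ X Y : C, P X → P Y → P (X ⨯ Y))
  (hqs : IsQuasiStableUnderKernels P) (hql : IsQuasiLiftable P)

include hsum hqs hql

/-- If `Q.obj E` is `n`-pseudo-coherent, `E` receives a quasi-isomorphism from a strictly
`n`-pseudo-coherent complex (with control of the upper bound). -/
theorem exists_quasiIso_of_isNPC (E : CochainComplex C ℤ) (n : ℤ) (h : IsNPC P n (Q.obj E))
    (b : ℤ) (hnb : n ≤ b + 1) (hE : ∀ i : ℤ, b < i → IsZero (E.homology i)) :
    ∃ (F' : CochainComplex C ℤ) (v : F' ⟶ E), QuasiIso v ∧ (∀ i : ℤ, n ≤ i → P (F'.X i)) ∧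
      (∀ i : ℤ, b < i → IsZero (F'.X i)) := by
  obtain ⟨F, hF, ⟨e⟩⟩ := h
  obtain ⟨G, s, hs, g, hg⟩ := right_fac e.hom
  haveI : QuasiIso s := quasiIso_of_isIso_Q_map s hs
  haveI : QuasiIso g := by
    apply quasiIso_of_isIso_Q_map
    have : Q.map g = Q.map s ≫ e.hom := by rw [hg, IsIso.hom_inv_id_assoc]
    rw [this]
    infer_instance
  have hG : ∀ i : ℤ, b < i → IsZero (G.homology i) := fun i hi =>
    IsZero.of_iso (hE i hi) (asIso (homologyMap g i))
  obtain ⟨F', v, hv, hP', hb'⟩ := exists_quasiIso_strictPC P hsum hqs hql s n hF b hnb hG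
  haveI := hv
  exact ⟨F', v ≫ g, inferInstance, hP', hb'⟩

theorem exists_quasiIso_of_isNPC' (E : CochainComplex C ℤ) (n : ℤ) (h : IsNPC P n (Q.obj E)) :
    ∃ (F' : CochainComplex C ℤ) (v : F' ⟶ E), QuasiIso v ∧ IsStrictPC P n F' := by
  obtain ⟨F, hF, ⟨e⟩⟩ := h
  obtain ⟨b₀, hb₀⟩ := hF.1
  have hE : ∀ i : ℤ, max b₀ (n - 1) < i → IsZero (E.homology i) := fun i hi =>
    IsZero.of_iso (isZero_homology_of_isZero_X F i (hb₀ i (by omega)))
      ((homologyIso E i).symm ≪≫ (DerivedCategory.homologyFunctor C i).mapIso e.symm ≪≫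
        homologyIso F i)
  obtain ⟨F', v, hv, hP', hb'⟩ := exists_quasiIso_of_isNPC P hsum hqs hql E n ⟨F, hF, ⟨e⟩⟩
    (max b₀ (n - 1)) (by omega) hE
  exact ⟨F', v, hv, ⟨_, hb'⟩, hP'⟩

/-- S5617 -/
theorem exists_strictPC_vanishing (n m : ℤ) (hnm : n < m) (F : DerivedCategory C)
    (hF : IsNPC P n F)
    (hac : ∀ i : ℤ, m ≤ i → IsZero ((DerivedCategory.homologyFunctor C i).obj F)) :
    ∃ E : CochainComplex C ℤ, IsStrictPC P n E ∧ (∀ i : ℤ, m ≤ i → IsZero (E.X i)) ∧
      Nonempty (Q.obj E ≅ F) := by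
  obtain ⟨E₀, hE₀, ⟨e⟩⟩ := hF
  have hE : ∀ i : ℤ, m - 1 < i → IsZero (E₀.homology i) := fun i hi =>
    IsZero.of_iso (hac i (by omega))
      ((homologyIso E₀ i).symm ≪≫ (DerivedCategory.homologyFunctor C i).mapIso e)
  obtain ⟨F', v, hv, hP', hb'⟩ := exists_quasiIso_of_isNPC P hsum hqs hql E₀ n
    ⟨E₀, hE₀, ⟨Iso.refl _⟩⟩ (m - 1) (by omega) hE
  haveI := hv
  exact ⟨F', ⟨⟨m - 1, hb'⟩, hP'⟩, fun i hi => hb' i (by omega), ⟨asIso (Q.map v) ≪≫ e⟩⟩

omit hsum hqs in
/-- S5603, `⇐` -/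
theorem isNPC_of_finiteType (n : ℤ) (F : DerivedCategory C)
    (hac : ∀ i : ℤ, n < i → IsZero ((DerivedCategory.homologyFunctor C i).obj F))
    (hft : IsOfFiniteType P ((DerivedCategory.homologyFunctor C n).obj F)) : IsNPC P n F := by
  let F₁ := Q.objPreimage F
  let e : Q.obj F₁ ≅ F := Q.objObjPreimageIso F
  have hac₁ : ∀ i : ℤ, n < i → IsZero (F₁.homology i) := fun i hi =>
    IsZero.of_iso (hac i hi)
      ((homologyIso F₁ i).symm ≪≫ (DerivedCategory.homologyFunctor C i).mapIso e)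
  have hft₁ : IsOfFiniteType P (F₁.homology n) :=
    isOfFiniteType_of_iso P
      ((homologyIso F₁ n).symm ≪≫ (DerivedCategory.homologyFunctor C n).mapIso e).symm hft
  obtain ⟨P', κ, hP', hκ⟩ := exists_single_nqi P hql F₁ n hac₁ hft₁
  have hS : IsStrictPC P n ((HomologicalComplex.single C (ComplexShape.up ℤ) n).obj P') := by
    refine ⟨⟨n, fun i hi => HomologicalComplex.isZero_single_obj_X _ _ _ _ (by omega)⟩,
      fun i hi => ?_⟩
    by_cases h : i = n
    · subst h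
      exact P.prop_of_iso (HomologicalComplex.singleObjXSelf (ComplexShape.up ℤ) i P').symm hP'
    · exact P.prop_of_isZero (HomologicalComplex.isZero_single_obj_X _ _ _ _ h)
  obtain ⟨E', u', hE', hu', -⟩ := exists_strictPC_of_nqi P n κ hκ hS
  haveI := hu'
  exact ⟨E', hE', ⟨asIso (Q.map u') ≪≫ e⟩⟩

omit hsum hql in
/-- S5603, `⇒` -/
theorem finiteType_of_isNPC (n : ℤ) (F : DerivedCategory C)
    (hac : ∀ i : ℤ, n < i → IsZero ((DerivedCategory.homologyFunctor C i).obj F))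
    (h : IsNPC P n F) : IsOfFiniteType P ((DerivedCategory.homologyFunctor C n).obj F) := by
  obtain ⟨E, hE, ⟨e⟩⟩ := h
  have hacE : ∀ i : ℤ, n < i → IsZero (E.homology i) := fun i hi =>
    IsZero.of_iso (hac i hi)
      ((homologyIso E i).symm ≪≫ (DerivedCategory.homologyFunctor C i).mapIso e)
  have := finiteType_homology P hqs n E hE hacE
  exact isOfFiniteType_of_iso P
    ((homologyIso E n).symm ≪≫ (DerivedCategory.homologyFunctor C n).mapIso e) this

/-- S5598, `⇒` -/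
theorem exists_nIso_of_isNPC (n : ℤ) (F : DerivedCategory C) (h : IsNPC P n F) :
    ∃ (E : CochainComplex C ℤ) (a b : ℤ) (α : Q.obj E ⟶ F),
      (∀ i : ℤ, i < a ∨ b < i → IsZero (E.X i)) ∧ (∀ i : ℤ, P (E.X i)) ∧ NIso n α := by
  obtain ⟨E₀, hE₀, ⟨e⟩⟩ := h
  obtain ⟨b₀, hb₀⟩ := hE₀.1
  have hE : ∀ i : ℤ, max b₀ (n - 1) < i → IsZero (E₀.homology i) := fun i hi =>
    isZero_homology_of_isZero_X E₀ i (hb₀ i (by omega))
  obtain ⟨F', v, hP', hb', hm', hv⟩ := inv_main P hsum hqs hql (𝟙 E₀) n hE₀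
    (max b₀ (n - 1)) (by omega) hE
  refine ⟨F', n, max b₀ (n - 1), Q.map v ≫ e.hom, ?_, hP', ?_⟩
  · rintro i (hi | hi)
    · exact hm' i hi
    · exact hb' i hi
  · exact ((nIso_Q_map_iff v n).2 hv).comp_iso e.hom

/-- S5598, `⇐` -/
theorem isNPC_of_nIso (n : ℤ) (F : DerivedCategory C) (E : CochainComplex C ℤ)
    (hE : IsStrictPC P n E) (α : Q.obj E ⟶ F) (hα : NIso n α) : IsNPC P n F := by
  let F₁ := Q.objPreimage F
  let e : Q.obj F₁ ≅ F := Q.objObjPreimageIso F
  obtain ⟨G, s, hs, g, hg⟩ := right_fac (α ≫ e.inv)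
  haveI : QuasiIso s := quasiIso_of_isIso_Q_map s hs
  have hg' : Q.map g = Q.map s ≫ α ≫ e.inv := by rw [hg, IsIso.hom_inv_id_assoc]
  have hgn : NQI n g := by
    rw [← nIso_Q_map_iff, hg']
    exact NIso.iso_comp _ (hα.comp_iso _)
  obtain ⟨E'', w, hE'', hw⟩ := exists_strictPC_quasiIso P hsum hqs hql s n hE
  haveI := hw
  have hwg : NQI n (w ≫ g) := nqi_quasiIso_comp n w g hgn
  obtain ⟨E', u', hE', hu', -⟩ := exists_strictPC_of_nqi P n (w ≫ g) hwg hE''
  haveI := hu'
  exact ⟨E', hE', ⟨asIso (Q.map u') ≪≫ e⟩⟩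

end Core

end Groth.Agent.Lib.PCohDer
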