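import Mathlib
import Groth.Agent.Lib.PCohDer_helper2
import Groth.Agent.S5601

/-!
# `n`-pseudo-coherence and distinguished triangles (SGA 6 I 2.5)
-/

set_option autoImplicit false
universe w v u
open CategoryTheory Limits HomologicalComplex CochainComplex Pretriangulated

namespace Groth.Agent.Lib.PCohTri
open Groth.Agent.Lib.PCohNQI Groth.Agent.Lib.PCohCyl Groth.Agent.Lib.PCohStab
open Groth.Agent.Lib.PCohRes Groth.Agent.Lib.PCohDer PCoh Groth.Agent.PerfectCx ZeroObject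
open DerivedCategory

variable {C : Type u} [Category.{v} C] [Abelian C]

lemma isStrictPC_mappingCone (P : ObjectProperty C) [P.IsClosedUnderIsomorphisms]
    (hsum : ∀ X Y : C, P X → P Y → P (X ⨯ Y)) {E F : CochainComplex C ℤ} (f : E ⟶ F) (n : ℤ)
    (hE : IsStrictPC P (n + 1) E) (hF : IsStrictPC P n F) : IsStrictPC P n (mappingCone f) := by
  obtain ⟨⟨b₁, hb₁⟩, hP₁⟩ := hE
  obtain ⟨⟨b₂, hb₂⟩, hP₂⟩ := hF
  refine ⟨⟨max b₁ b₂, fun i hi => ?_⟩, fun i hi => ?_⟩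
  · exact isZero_mappingCone_X _ i (hb₁ _ (by omega)) (hb₂ i (by omega))
  · exact P.prop_of_iso (mappingConeXIso _ i).symm
      (prop_biprod P hsum _ _ (hP₁ _ (by omega)) (hP₂ i hi))

variable [HasDerivedCategory.{w} C]

section Core

variable (P : ObjectProperty C) [P.IsClosedUnderIsomorphisms] [P.ContainsZero]
  (hsum : ∀ X Y : C, P X → P Y → P (X ⨯ Y))
  (hqs : IsQuasiStableUnderKernels P) (hql : IsQuasiLiftable P)

include hsum hqs hql

/-- S5599 (1) -/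
theorem isNPC_obj₃ (T : Triangle (DerivedCategory C)) (hT : T ∈ distTriang _) (n : ℤ)
    (h₁ : IsNPC P (n + 1) T.obj₁) (h₂ : IsNPC P n T.obj₂) : IsNPC P n T.obj₃ := by
  obtain ⟨E₁, hE₁, ⟨e₁⟩⟩ := h₁
  obtain ⟨F₀, hF₀, ⟨e₂⟩⟩ := h₂
  obtain ⟨G, s, hs, g, hg⟩ := right_fac (e₁.hom ≫ T.mor₁ ≫ e₂.inv)
  haveI : QuasiIso s := quasiIso_of_isIso_Q_map s hs
  obtain ⟨E₂, w, hE₂, hw⟩ := exists_strictPC_quasiIso P hsum hqs hql s (n + 1) hE₁
  haveI := hw
  have hg' : Q.map g = Q.map s ≫ e₁.hom ≫ T.mor₁ ≫ e₂.inv := by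
    rw [hg, IsIso.hom_inv_id_assoc]
  let e₁' : Q.obj E₂ ≅ T.obj₁ := asIso (Q.map (w ≫ s)) ≪≫ e₁
  have comm : Q.map (w ≫ g) ≫ e₂.hom = e₁'.hom ≫ T.mor₁ := by
    dsimp [e₁']
    rw [Q.map_comp, Q.map_comp, hg']
    simp
  have hT' := DerivedCategory.mappingCone_triangle_distinguished (w ≫ g)
  have iso := isoTriangleOfIso₁₂ _ _ hT' hT e₁' e₂ comm
  exact ⟨mappingCone (w ≫ g), isStrictPC_mappingCone P hsum _ n hE₂ hF₀,
    ⟨Triangle.π₃.mapIso iso⟩⟩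

/-- S5599 (3) -/
theorem isNPC_obj₁ (T : Triangle (DerivedCategory C)) (hT : T ∈ distTriang _) (n : ℤ)
    (h₂ : IsNPC P (n + 1) T.obj₂) (h₃ : IsNPC P n T.obj₃) : IsNPC P (n + 1) T.obj₁ := by
  have h := isNPC_obj₃ P hsum hqs hql T.rotate (rot_of_distTriang T hT) n h₂ h₃
  have h' := Groth.Agent.S5601.result P hsum hqs hql n _ h (-1)
  have hn : n - (-1) = n + 1 := by ring
  rw [hn] at h'
  exact IsNPC.of_iso
    ((shiftFunctorCompIsoId (DerivedCategory C) (1 : ℤ) (-1) (by norm_num)).app T.obj₁) h'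

/-- S5599 (2) -/
theorem isNPC_obj₂ (T : Triangle (DerivedCategory C)) (hT : T ∈ distTriang _) (n : ℤ)
    (h₁ : IsNPC P n T.obj₁) (h₃ : IsNPC P n T.obj₃) : IsNPC P n T.obj₂ := by
  have h' := Groth.Agent.S5601.result P hsum hqs hql n _ h₃ (-1)
  have hn : n - (-1) = n + 1 := by ring
  rw [hn] at h'
  exact isNPC_obj₃ P hsum hqs hql T.invRotate (inv_rot_of_distTriang T hT) n h' h₁

end Core

end Groth.Agent.Lib.PCohTri
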