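import Mathlib
import Groth.Agent.Lib.PCohTri_helper2

/-!
# `n`-pseudo-coherence and direct sums (SGA 6 I 2.6)
-/

set_option autoImplicit false
universe w v u
open CategoryTheory Limits HomologicalComplex CochainComplex Pretriangulated

namespace Groth.Agent.Lib.PCohSum
open Groth.Agent.Lib.PCohNQI Groth.Agent.Lib.PCohCyl Groth.Agent.Lib.PCohStab
open Groth.Agent.Lib.PCohRes Groth.Agent.Lib.PCohDer Groth.Agent.Lib.PCohTri PCoh
open Groth.Agent.PerfectCx ZeroObject DerivedCategory

variable {C : Type u} [Category.{v} C] [Abelian C]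

lemma isOfFiniteType_of_isZero (P : ObjectProperty C) [P.IsClosedUnderIsomorphisms]
    [P.ContainsZero] {X : C} (h : IsZero X) : IsOfFiniteType P X :=
  ⟨0, 0, P.prop_of_isZero (isZero_zero _), h.epi _⟩

section Additive

variable {A B : Type*} [Category A] [Category B] [Preadditive A] [Preadditive B]
  [HasBinaryBiproducts A] [HasBinaryBiproducts B] (H : A ⥤ B) [H.Additive]
  [PreservesBinaryBiproducts H]

lemma map_biprod_map {W X Y Z : A} (a : W ⟶ Y) (b : X ⟶ Z) :
    H.map (biprod.map a b) = (H.mapBiprod W X).hom ≫ biprod.map (H.map a) (H.map b) ≫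
      (H.mapBiprod Y Z).inv := by
  rw [← cancel_mono (H.mapBiprod Y Z).hom]
  simp only [Category.assoc, Iso.inv_hom_id, Category.comp_id]
  apply biprod.hom_ext
  · simp only [Functor.mapBiprod_hom, Category.assoc, biprod.lift_fst, biprod.map_fst,
      biprod.lift_fst_assoc]
    rw [← H.map_comp, biprod.map_fst, H.map_comp]
  · simp only [Functor.mapBiprod_hom, Category.assoc, biprod.lift_snd, biprod.map_snd,
      biprod.lift_snd_assoc]
    rw [← H.map_comp, biprod.map_snd, H.map_comp]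

lemma isIso_map_biprod_map {W X Y Z : A} (a : W ⟶ Y) (b : X ⟶ Z) [IsIso (H.map a)]
    [IsIso (H.map b)] : IsIso (H.map (biprod.map a b)) := by
  rw [map_biprod_map]
  haveI : IsIso (biprod.map (H.map a) (H.map b)) :=
    (biprod.mapIso (asIso (H.map a)) (asIso (H.map b))).isIso_hom
  infer_instance

lemma epi_map_biprod_map {W X Y Z : A} (a : W ⟶ Y) (b : X ⟶ Z) [Epi (H.map a)]
    [Epi (H.map b)] : Epi (H.map (biprod.map a b)) := by
  rw [map_biprod_map]
  infer_instance

end Additive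

lemma nqi_biprod_map {E₁ E₂ F₁ F₂ : CochainComplex C ℤ} (m : ℤ) (a : E₁ ⟶ F₁) (b : E₂ ⟶ F₂)
    (ha : NQI m a) (hb : NQI m b) : NQI m (biprod.map a b) := by
  haveI : ∀ i : ℤ, PreservesBinaryBiproducts
      (HomologicalComplex.homologyFunctor C (ComplexShape.up ℤ) i) := fun i =>
    preservesBinaryBiproducts_of_preservesBiproducts _
  refine ⟨fun i hi => ?_, ?_⟩
  · haveI : IsIso ((HomologicalComplex.homologyFunctor C (ComplexShape.up ℤ) i).map a) := ha.1 i hi
    haveI : IsIso ((HomologicalComplex.homologyFunctor C (ComplexShape.up ℤ) i).map b) := hb.1 i hi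
    exact isIso_map_biprod_map (HomologicalComplex.homologyFunctor C (ComplexShape.up ℤ) i) a b
  · haveI : Epi ((HomologicalComplex.homologyFunctor C (ComplexShape.up ℤ) m).map a) := ha.2
    haveI : Epi ((HomologicalComplex.homologyFunctor C (ComplexShape.up ℤ) m).map b) := hb.2
    exact epi_map_biprod_map (HomologicalComplex.homologyFunctor C (ComplexShape.up ℤ) m) a b

/-- the cone of the first summand is a retract of the cone of the direct sum -/
lemma epi_homologyMap_cone_fst {E₁ E₂ F₁ F₂ : CochainComplex C ℤ} (a : E₁ ⟶ F₁) (b : E₂ ⟶ F₂)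
    (m : ℤ) : Epi (homologyMap (mappingCone.map (biprod.map a b) a biprod.fst biprod.fst
      (biprod.map_fst a b)) m) := by
  have h : mappingCone.map a (biprod.map a b) biprod.inl biprod.inl (biprod.inl_map a b).symm ≫
      mappingCone.map (biprod.map a b) a biprod.fst biprod.fst (biprod.map_fst a b) = 𝟙 _ := by
    rw [← mappingCone.map_comp]
    simp [mappingCone.map_id]
  have h' := congrArg (fun t => homologyMap t m) h
  simp only [homologyMap_comp, homologyMap_id] at h'
  exact epi_of_epi_fac h'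

lemma epi_homologyMap_cone_snd {E₁ E₂ F₁ F₂ : CochainComplex C ℤ} (a : E₁ ⟶ F₁) (b : E₂ ⟶ F₂)
    (m : ℤ) : Epi (homologyMap (mappingCone.map (biprod.map a b) b biprod.snd biprod.snd
      (biprod.map_snd a b)) m) := by
  have h : mappingCone.map b (biprod.map a b) biprod.inr biprod.inr (biprod.inr_map a b).symm ≫
      mappingCone.map (biprod.map a b) b biprod.snd biprod.snd (biprod.map_snd a b) = 𝟙 _ := by
    rw [← mappingCone.map_comp]
    simp [mappingCone.map_id]
  have h' := congrArg (fun t => homologyMap t m) h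
  simp only [homologyMap_comp, homologyMap_id] at h'
  exact epi_of_epi_fac h'

/-- the inductive step with the finite type hypothesis as input -/
lemma inv_step_of_finiteType (P : ObjectProperty C) [P.IsClosedUnderIsomorphisms]
    (hql : IsQuasiLiftable P) {E : CochainComplex C ℤ} (b m : ℤ) (hmb : m ≤ b)
    (F' : CochainComplex C ℤ) (v : F' ⟶ E) (hP' : ∀ i : ℤ, P (F'.X i))
    (hb' : ∀ i : ℤ, b < i → IsZero (F'.X i)) (hm' : ∀ i : ℤ, i < m + 1 → IsZero (F'.X i))
    (hv : NQI (m + 1) v) (hft' : IsOfFiniteType P ((mappingCone v).homology m)) :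
    Inv P E b m := by
  obtain ⟨F'', v', u'', h1, h2, h3, h4, h5⟩ := factor_add P hql m v hv hft'
  have hiso : ∀ i : ℤ, i ≠ m → (F'.X i ≅ F''.X i) := fun i hi => by
    haveI := h3 i hi
    exact asIso (v'.f i)
  refine ⟨F'', u'', fun i => ?_, fun i hi => ?_, fun i hi => ?_, h5⟩
  · by_cases him : i = m
    · subst him
      have h0 : v'.f i = 0 := (hm' i (by omega)).eq_of_src _ _
      haveI := isIso_cokernel_π_of_eq_zero _ h0
      exact P.prop_of_iso (asIso (cokernel.π (v'.f i))).symm h4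
    · exact P.prop_of_iso (hiso i him) (hP' i)
  · exact IsZero.of_iso (hb' i hi) (hiso i (by omega)).symm
  · exact IsZero.of_iso (hm' i (by omega)) (hiso i (by omega)).symm

variable [HasDerivedCategory.{w} C]

omit [HasDerivedCategory.{w} C] in
lemma isStrictPC_of_inv_data (P : ObjectProperty C) (m b : ℤ) (F' : CochainComplex C ℤ)
    (hP' : ∀ i : ℤ, P (F'.X i)) (hb' : ∀ i : ℤ, b < i → IsZero (F'.X i)) : IsStrictPC P m F' :=
  ⟨⟨b, hb'⟩, fun i _ => hP' i⟩

lemma isNPC_of_inv (P : ObjectProperty C) [P.IsClosedUnderIsomorphisms] {E : CochainComplex C ℤ}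
    (b m : ℤ) (h : Inv P E b m) : IsNPC P m (Q.obj E) := by
  obtain ⟨F', v, hP', hb', -, hv⟩ := h
  obtain ⟨E', u', hE', hu', -⟩ := exists_strictPC_of_nqi P m v hv
    (isStrictPC_of_inv_data P m b F' hP' hb')
  haveI := hu'
  exact ⟨E', hE', ⟨asIso (Q.map u')⟩⟩

section Core

variable (P : ObjectProperty C) [P.IsClosedUnderIsomorphisms] [P.ContainsZero]
  (hsum : ∀ X Y : C, P X → P Y → P (X ⨯ Y))
  (hqs : IsQuasiStableUnderKernels P) (hql : IsQuasiLiftable P)

include hsum hqs hql

theorem exists_inv_of_isNPC (E : CochainComplex C ℤ) (n : ℤ) (h : IsNPC P n (Q.obj E))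
    (b : ℤ) (hnb : n ≤ b + 1) (hE : ∀ i : ℤ, b < i → IsZero (E.homology i)) : Inv P E b n := by
  obtain ⟨F, hF, ⟨e⟩⟩ := h
  obtain ⟨G, s, hs, g, hg⟩ := right_fac e.hom
  haveI : QuasiIso s := quasiIso_of_isIso_Q_map s hs
  haveI : QuasiIso g := by
    apply quasiIso_of_isIso_Q_map
    have : Q.map g = Q.map s ≫ e.hom := by rw [hg, IsIso.hom_inv_id_assoc]
    rw [this]
    infer_instance
  have hG : ∀ i : ℤ, b < i → IsZero (G.homology i) := fun i hi =>
    IsZero.of_iso (hE i hi) (asIso (homologyMap g i))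
  obtain ⟨F', v, hP', hb', hm', hv⟩ := inv_main P hsum hqs hql s n hF b hnb hG
  exact ⟨F', v ≫ g, hP', hb', hm', nqi_comp_quasiIso n v g hv⟩

/-- S5605, `⇒` at the level of complexes -/
theorem isNPC_of_biprod_Q (n : ℤ) (F₁ F₂ : CochainComplex C ℤ)
    (h : IsNPC P n (Q.obj (F₁ ⊞ F₂))) : IsNPC P n (Q.obj F₁) ∧ IsNPC P n (Q.obj F₂) := by
  obtain ⟨E_G, hE_G, ⟨eE⟩⟩ := h
  obtain ⟨b₀, hb₀⟩ := hE_G.1
  have hacG : ∀ i : ℤ, max b₀ (n - 1) < i → IsZero ((F₁ ⊞ F₂).homology i) := fun i hi =>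
    IsZero.of_iso (isZero_homology_of_isZero_X E_G i (hb₀ i (by omega)))
      ((homologyIso (F₁ ⊞ F₂) i).symm ≪≫ (DerivedCategory.homologyFunctor C i).mapIso eE.symm ≪≫
        homologyIso E_G i)
  have hac₁ : ∀ i : ℤ, max b₀ (n - 1) < i → IsZero (F₁.homology i) := fun i hi => by
    have e : homologyMap (biprod.inl : F₁ ⟶ F₁ ⊞ F₂) i ≫ homologyMap biprod.fst i = 𝟙 _ := by
      rw [← homologyMap_comp, biprod.inl_fst, homologyMap_id]
    rw [IsZero.iff_id_eq_zero, ← e, (hacG i hi).eq_of_tgt (homologyMap biprod.inl i) 0, zero_comp]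
  have hac₂ : ∀ i : ℤ, max b₀ (n - 1) < i → IsZero (F₂.homology i) := fun i hi => by
    have e : homologyMap (biprod.inr : F₂ ⟶ F₁ ⊞ F₂) i ≫ homologyMap biprod.snd i = 𝟙 _ := by
      rw [← homologyMap_comp, biprod.inr_snd, homologyMap_id]
    rw [IsZero.iff_id_eq_zero, ← e, (hacG i hi).eq_of_tgt (homologyMap biprod.inr i) 0, zero_comp]
  have hG : IsNPC P n (Q.obj (F₁ ⊞ F₂)) := ⟨E_G, hE_G, ⟨eE⟩⟩
  have key : ∀ k : ℕ, ∀ m : ℤ, m + k = max b₀ (n - 1) + 1 → n ≤ m →
      IsNPC P m (Q.obj F₁) ∧ IsNPC P m (Q.obj F₂) := by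
    intro k
    induction k with
    | zero =>
      intro m hm _
      have hm' : m = max b₀ (n - 1) + 1 := by simpa using hm
      constructor
      · apply isNPC_of_finiteType P hql m
        · intro i hi
          exact IsZero.of_iso (hac₁ i (by omega)) (homologyIso F₁ i)
        · exact isOfFiniteType_of_isZero P
            (IsZero.of_iso (hac₁ m (by omega)) (homologyIso F₁ m))
      · apply isNPC_of_finiteType P hql m
        · intro i hi
          exact IsZero.of_iso (hac₂ i (by omega)) (homologyIso F₂ i)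
        · exact isOfFiniteType_of_isZero P
            (IsZero.of_iso (hac₂ m (by omega)) (homologyIso F₂ m))
    | succ k ih =>
      intro m hm hnm
      obtain ⟨ih₁, ih₂⟩ := ih (m + 1) (by push_cast at hm; omega) (by omega)
      have hmb : m ≤ max b₀ (n - 1) := by push_cast at hm; omega
      obtain ⟨T₁, t₁, hP₁, hb₁, hm₁, ht₁⟩ := exists_inv_of_isNPC P hsum hqs hql F₁ (m + 1) ih₁
        (max b₀ (n - 1)) (by omega) hac₁
      obtain ⟨T₂, t₂, hP₂, hb₂, hm₂, ht₂⟩ := exists_inv_of_isNPC P hsum hqs hql F₂ (m + 1) ih₂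
        (max b₀ (n - 1)) (by omega) hac₂
      have hf : NQI (m + 1) (biprod.map t₁ t₂) := nqi_biprod_map (m + 1) t₁ t₂ ht₁ ht₂
      have hT : IsStrictPC P (m + 1) (T₁ ⊞ T₂) := by
        refine ⟨⟨max b₀ (n - 1), fun i hi => ?_⟩, fun i _ => ?_⟩
        · refine IsZero.of_iso ?_ (HomologicalComplex.biprodXIso T₁ T₂ i)
          rw [biprod_isZero_iff]
          exact ⟨hb₁ i hi, hb₂ i hi⟩
        · exact P.prop_of_iso (HomologicalComplex.biprodXIso T₁ T₂ i).symm (prop_biprod P hsum _ _ (hP₁ i) (hP₂ i))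
      have hM₁ : IsNPC P m (Q.obj (mappingCone (biprod.map t₁ t₂))) :=
        isNPC_obj₃ P hsum hqs hql _
          (DerivedCategory.mappingCone_triangle_distinguished (biprod.map t₁ t₂)) m
          ⟨T₁ ⊞ T₂, hT, ⟨Iso.refl _⟩⟩ (hG.mono hnm)
      have hM₂ : ∀ i : ℤ, m < i → IsZero ((mappingCone (biprod.map t₁ t₂)).homology i) :=
        fun i hi => (nqi_iff_cone _ (m + 1)).1 hf i (by omega)
      have hft : IsOfFiniteType P ((mappingCone (biprod.map t₁ t₂)).homology m) :=
        isOfFiniteType_of_iso P (homologyIso _ m)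
          (finiteType_of_isNPC P hqs m _
            (fun i hi => IsZero.of_iso (hM₂ i hi) (homologyIso _ i)) hM₁)
      constructor
      · haveI := epi_homologyMap_cone_fst t₁ t₂ m
        have hft' := isOfFiniteType_of_epi P (homologyMap (mappingCone.map (biprod.map t₁ t₂) t₁
          biprod.fst biprod.fst (biprod.map_fst t₁ t₂)) m) hft
        exact isNPC_of_inv P _ m
          (inv_step_of_finiteType P hql _ m hmb T₁ t₁ hP₁ hb₁ hm₁ ht₁ hft')
      · haveI := epi_homologyMap_cone_snd t₁ t₂ m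
        have hft' := isOfFiniteType_of_epi P (homologyMap (mappingCone.map (biprod.map t₁ t₂) t₂
          biprod.snd biprod.snd (biprod.map_snd t₁ t₂)) m) hft
        exact isNPC_of_inv P _ m
          (inv_step_of_finiteType P hql _ m hmb T₂ t₂ hP₂ hb₂ hm₂ ht₂ hft')
  exact key (max b₀ (n - 1) + 1 - n).toNat n (by omega) le_rfl

/-- S5605 -/
theorem isNPC_biprod_iff (n : ℤ) (F' F'' : DerivedCategory C) [HasBinaryBiproduct F' F''] :
    IsNPC P n (F' ⊞ F'') ↔ IsNPC P n F' ∧ IsNPC P n F'' := by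
  constructor
  · intro h
    let e' : Q.obj (Q.objPreimage F') ≅ F' := Q.objObjPreimageIso F'
    let e'' : Q.obj (Q.objPreimage F'') ≅ F'' := Q.objObjPreimageIso F''
    haveI : PreservesBinaryBiproducts (Q : CochainComplex C ℤ ⥤ DerivedCategory C) :=
      preservesBinaryBiproducts_of_preservesBiproducts _
    have eG : Q.obj (Q.objPreimage F' ⊞ Q.objPreimage F'') ≅ F' ⊞ F'' :=
      Q.mapBiprod _ _ ≪≫ biprod.mapIso e' e''
    obtain ⟨h₁, h₂⟩ := isNPC_of_biprod_Q P hsum hqs hql n _ _ (h.of_iso eG.symm)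
    exact ⟨h₁.of_iso e', h₂.of_iso e''⟩
  · rintro ⟨h₁, h₂⟩
    exact isNPC_obj₂ P hsum hqs hql (binaryBiproductTriangle F' F'')
      (binaryBiproductTriangle_distinguished F' F'') n h₁ h₂

end Core

end Groth.Agent.Lib.PCohSum
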