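import Mathlib
import Groth.Agent.Lib.PCohSum_helper2

/-!
# `n`-pseudo-coherence of a complex from its terms (SGA 6 I 2.5 b)
-/

set_option autoImplicit false
universe w v u
open CategoryTheory Limits HomologicalComplex CochainComplex Pretriangulated

namespace Groth.Agent.Lib.PCohTerm
open Groth.Agent.Lib.PCohNQI Groth.Agent.Lib.PCohCyl Groth.Agent.Lib.PCohStab
open Groth.Agent.Lib.PCohRes Groth.Agent.Lib.PCohDer Groth.Agent.Lib.PCohTri PCoh
open Groth.Agent.Lib.PCohSum Groth.Agent.PerfectCx ZeroObject DerivedCategory

variable {C : Type u} [Category.{v} C] [Abelian C] [HasDerivedCategory.{w} C]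

lemma isNPC_of_isZero (P : ObjectProperty C) [P.IsClosedUnderIsomorphisms] [P.ContainsZero]
    (m : ℤ) {Z : DerivedCategory C} (hZ : IsZero Z) : IsNPC P m Z := by
  have hz : ∀ i : ℤ, IsZero ((0 : CochainComplex C ℤ).X i) := fun i =>
    (HomologicalComplex.eval C (ComplexShape.up ℤ) i).map_isZero (isZero_zero _)
  exact ⟨0, ⟨⟨0, fun i _ => hz i⟩, fun i _ => P.prop_of_isZero (hz i)⟩,
    ⟨IsZero.iso (Q.map_isZero (isZero_zero _)) hZ⟩⟩

/-- `Q` of a single complex in degree `b` is a shift of the single functor in degree `0` -/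
noncomputable def singleShiftIso (X : C) (b : ℤ) :
    (CategoryTheory.shiftFunctor (DerivedCategory C) (-b)).obj
      ((DerivedCategory.singleFunctor C 0).obj X) ≅
      Q.obj ((HomologicalComplex.single C (ComplexShape.up ℤ) b).obj X) :=
  ((DerivedCategory.singleFunctors C).shiftIso (-b) b 0 (by omega)).app X ≪≫
    (singleFunctorIsoCompQ C b).app X

section Core

variable (P : ObjectProperty C) [P.IsClosedUnderIsomorphisms] [P.ContainsZero]
  (hsum : ∀ X Y : C, P X → P Y → P (X ⨯ Y))
  (hqs : IsQuasiStableUnderKernels P) (hql : IsQuasiLiftable P)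

include hsum hqs hql

lemma isNPC_single (n b : ℤ) (X : C)
    (h : IsNPC P (n - b) ((DerivedCategory.singleFunctor C 0).obj X)) :
    IsNPC P n (Q.obj ((HomologicalComplex.single C (ComplexShape.up ℤ) b).obj X)) := by
  have h' := Groth.Agent.S5601.result P hsum hqs hql (n - b) _ h (-b)
  have hn : n - b - (-b) = n := by ring
  rw [hn] at h'
  exact IsNPC.of_iso (singleShiftIso X b) h'

theorem isNPC_of_termwise_aux (n : ℤ) : ∀ (k : ℕ) (F : CochainComplex C ℤ) (b : ℤ),
    b + 1 - n ≤ k → (∀ i : ℤ, b < i → IsZero (F.X i)) →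
    (∀ i : ℤ, n ≤ i → IsNPC P (n - i) ((DerivedCategory.singleFunctor C 0).obj (F.X i))) →
    IsNPC P n (Q.obj F) := by
  intro k
  induction k with
  | zero =>
    intro F b hk hb _
    exact ⟨F, ⟨⟨b, hb⟩, fun i hi => P.prop_of_isZero (hb i (by omega))⟩, ⟨Iso.refl _⟩⟩
  | succ k ih =>
    intro F b hk hb hfp
    by_cases hbn : b < n
    · exact ⟨F, ⟨⟨b, hb⟩, fun i hi => P.prop_of_isZero (hb i (by omega))⟩, ⟨Iso.refl _⟩⟩
    · have hnb : n ≤ b := by omega
      let ι : (HomologicalComplex.single C (ComplexShape.up ℤ) b).obj (F.X b) ⟶ F :=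
        HomologicalComplex.mkHomFromSingle (𝟙 (F.X b)) (fun j hj => by
          have : b + 1 = j := hj
          exact (hb j (by omega)).eq_of_tgt _ _)
      haveI : Mono ι := by
        apply HomologicalComplex.mono_of_mono_f
        intro i
        by_cases hi : i = b
        · subst hi
          have : ι.f i = (HomologicalComplex.singleObjXSelf (ComplexShape.up ℤ) i (F.X i)).hom ≫
              𝟙 (F.X i) := HomologicalComplex.mkHomFromSingle_f _ _
          rw [this]
          infer_instance
        · exact (HomologicalComplex.isZero_single_obj_X (ComplexShape.up ℤ) b (F.X b) i hi).mono _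
      have hS : (ShortComplex.mk ι (cokernel.π ι) (cokernel.condition ι)).ShortExact :=
        { exact := ShortComplex.exact_of_g_is_cokernel _ (cokernelIsCokernel ι) }
      have hdeg := fun i => degreewise ι (cokernel.π ι) (cokernel.condition ι) hS i
      have hQb : IsZero ((cokernel ι).X b) := by
        have h1 := hdeg b
        haveI : IsIso (ι.f b) := by
          have : ι.f b = (HomologicalComplex.singleObjXSelf (ComplexShape.up ℤ) b (F.X b)).hom ≫
              𝟙 (F.X b) := HomologicalComplex.mkHomFromSingle_f _ _
          rw [this]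
          infer_instance
        have h2 : (cokernel.π ι).f b = 0 := (h1.exact.epi_f_iff).1 inferInstance
        haveI := h1.epi_g
        exact IsZero.of_epi_eq_zero _ h2
      have hQiso : ∀ i : ℤ, i ≠ b → IsIso ((cokernel.π ι).f i) := by
        intro i hi
        have h1 := hdeg i
        haveI := h1.epi_g
        haveI : Mono ((cokernel.π ι).f i) :=
          h1.exact.mono_g ((HomologicalComplex.isZero_single_obj_X (ComplexShape.up ℤ) b (F.X b) i
            hi).eq_of_src _ _)
        exact isIso_of_mono_of_epi _
      have h₁ : IsNPC P n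
          (Q.obj ((HomologicalComplex.single C (ComplexShape.up ℤ) b).obj (F.X b))) :=
        isNPC_single P hsum hqs hql n b _ (hfp b hnb)
      have h₃ : IsNPC P n (Q.obj (cokernel ι)) := by
        apply ih (cokernel ι) (b - 1) (by push_cast at hk; omega)
        · intro i hi
          by_cases hib : i = b
          · subst hib
            exact hQb
          · haveI := hQiso i hib
            exact IsZero.of_iso (hb i (by omega)) (asIso ((cokernel.π ι).f i)).symm
        · intro i hi
          by_cases hib : i = b
          · subst hib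
            exact isNPC_of_isZero P _
              ((DerivedCategory.singleFunctor C 0).map_isZero hQb)
          · haveI := hQiso i hib
            exact IsNPC.of_iso
              ((DerivedCategory.singleFunctor C 0).mapIso (asIso ((cokernel.π ι).f i)))
              (hfp i hi)
      exact isNPC_obj₂ P hsum hqs hql (triangleOfSES hS) (triangleOfSES_distinguished hS) n h₁ h₃

/-- S5619 -/
theorem isNPC_of_termwise (n : ℤ) (F : CochainComplex C ℤ) (b : ℤ)
    (hb : ∀ i : ℤ, b < i → IsZero (F.X i))
    (hfp : ∀ i : ℤ, n ≤ i → IsNPC P (n - i) ((DerivedCategory.singleFunctor C 0).obj (F.X i))) :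
    IsNPC P n (Q.obj F) :=
  isNPC_of_termwise_aux P hsum hqs hql n (b + 1 - n).toNat F b (by omega) hb hfp

end Core

end Groth.Agent.Lib.PCohTerm
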