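import Mathlib
import Groth.Agent.Lib.PCohTerm_helper2

/-!
# `n`-pseudo-coherence of an object of `D(C)` from its cohomology objects (SGA 6 I 2.5 b)
-/

set_option autoImplicit false
universe w v u
open CategoryTheory Limits HomologicalComplex CochainComplex Pretriangulated

namespace Groth.Agent.Lib.PCohHom
open Groth.Agent.Lib.PCohNQI Groth.Agent.Lib.PCohCyl Groth.Agent.Lib.PCohStab
open Groth.Agent.Lib.PCohRes Groth.Agent.Lib.PCohDer Groth.Agent.Lib.PCohTri PCoh
open Groth.Agent.Lib.PCohSum Groth.Agent.Lib.PCohTerm Groth.Agent.PerfectCx ZeroObject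
open DerivedCategory

variable {C : Type u} [Category.{v} C] [Abelian C] [HasDerivedCategory.{w} C]

/-- `H^b` of the single functor in degree `b` -/
noncomputable def homologySingleIso (Y : C) (b : ℤ) :
    (DerivedCategory.homologyFunctor C b).obj ((DerivedCategory.singleFunctor C b).obj Y) ≅ Y :=
  homologyIso ((HomologicalComplex.single C (ComplexShape.up ℤ) b).obj Y) b ≪≫
    HomologicalComplex.singleObjHomologySelfIso (ComplexShape.up ℤ) b Y

lemma exists_truncation_triangle (F : DerivedCategory C) (b : ℤ) :
    ∃ (A B : DerivedCategory C) (f : A ⟶ F) (g : F ⟶ B) (h : B ⟶ A⟦(1 : ℤ)⟧),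
      Triangle.mk f g h ∈ distTriang _ ∧ A.IsLE (b - 1) ∧ B.IsGE b := by
  let t := (DerivedCategory.TStructure.t : Triangulated.TStructure (DerivedCategory C))
  exact ⟨_, _, _, _, _, t.triangleLTGE_distinguished b F,
    (inferInstance : t.IsLE ((t.triangleLTGE b).obj F).obj₁ (b - 1)),
    (inferInstance : t.IsGE ((t.triangleLTGE b).obj F).obj₃ b)⟩

section Core

variable (P : ObjectProperty C) [P.IsClosedUnderIsomorphisms] [P.ContainsZero]
  (hsum : ∀ X Y : C, P X → P Y → P (X ⨯ Y))
  (hqs : IsQuasiStableUnderKernels P) (hql : IsQuasiLiftable P)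

include hsum hqs hql

theorem isNPC_of_homology_aux (n : ℤ) : ∀ (k : ℕ) (F : DerivedCategory C) (b : ℤ),
    b + 1 - n ≤ k → (∀ i : ℤ, b < i → IsZero ((DerivedCategory.homologyFunctor C i).obj F)) →
    (∀ i : ℤ, n ≤ i → IsNPC P (n - i) ((DerivedCategory.singleFunctor C 0).obj
      ((DerivedCategory.homologyFunctor C i).obj F))) →
    IsNPC P n F := by
  intro k
  induction k with
  | zero =>
    intro F b hk hb _
    exact isNPC_of_finiteType P hql n F (fun i hi => hb i (by omega))
      (isOfFiniteType_of_isZero P (hb n (by omega)))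
  | succ k ih =>
    intro F b hk hb hfp
    by_cases hbn : b < n
    · exact isNPC_of_finiteType P hql n F (fun i hi => hb i (by omega))
        (isOfFiniteType_of_isZero P (hb n (by omega)))
    · have hnb : n ≤ b := by omega
      obtain ⟨A, B, f, g, h, hT, hALE, hBGE⟩ := exists_truncation_triangle F b
      have hA : ∀ i : ℤ, b - 1 < i → IsZero ((DerivedCategory.homologyFunctor C i).obj A) :=
        fun i hi => DerivedCategory.isZero_of_isLE A (b - 1) i hi
      have hB : ∀ i : ℤ, i < b → IsZero ((DerivedCategory.homologyFunctor C i).obj B) :=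
        fun i hi => DerivedCategory.isZero_of_isGE B b i hi
      have hB' : ∀ i : ℤ, b < i → IsZero ((DerivedCategory.homologyFunctor C i).obj B) := by
        intro i hi
        have hg0 : (DerivedCategory.homologyFunctor C i).map g = 0 := (hb i hi).eq_of_src _ _
        have hδ0 : HomologySequence.δ (Triangle.mk f g h) i (i + 1) rfl = 0 :=
          (hA (i + 1) (by omega)).eq_of_tgt _ _
        exact (HomologySequence.exact₃ (Triangle.mk f g h) hT i (i + 1) rfl).isZero_of_both_zeros
          hg0 hδ0
      haveI : B.IsLE b := (DerivedCategory.isLE_iff _ _).2 hB'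
      obtain ⟨Y, ⟨eY⟩⟩ := DerivedCategory.exists_iso_singleFunctor_obj_of_isGE_of_isLE B b
      -- `H^b(F) ≅ H^b(B)`
      haveI : Mono ((DerivedCategory.homologyFunctor C b).map g) :=
        (HomologySequence.mono_homologyMap_mor₂_iff (Triangle.mk f g h) hT b).2
          ((hA b (by omega)).eq_of_src _ _)
      haveI : Epi ((DerivedCategory.homologyFunctor C b).map g) :=
        (HomologySequence.epi_homologyMap_mor₂_iff (Triangle.mk f g h) hT b (b + 1) rfl).2
          ((hA (b + 1) (by omega)).eq_of_tgt _ _)
      haveI : IsIso ((DerivedCategory.homologyFunctor C b).map g) :=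
        isIso_of_mono_of_epi _
      let eH : (DerivedCategory.homologyFunctor C b).obj F ≅ Y :=
        asIso ((DerivedCategory.homologyFunctor C b).map g) ≪≫
          (DerivedCategory.homologyFunctor C b).mapIso eY ≪≫ homologySingleIso Y b
      have h₃ : IsNPC P n B := by
        have h1 : IsNPC P (n - b) ((DerivedCategory.singleFunctor C 0).obj Y) :=
          IsNPC.of_iso ((DerivedCategory.singleFunctor C 0).mapIso eH) (hfp b hnb)
        exact IsNPC.of_iso eY.symm (isNPC_single P hsum hqs hql n b Y h1)
      -- `H^i(A) ≅ H^i(F)` for `i < b`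
      have hAF : ∀ i : ℤ, i < b → IsIso ((DerivedCategory.homologyFunctor C i).map f) := by
        intro i hi
        haveI : Mono ((DerivedCategory.homologyFunctor C i).map f) :=
          (HomologySequence.mono_homologyMap_mor₁_iff (Triangle.mk f g h) hT (i - 1) i
            (by omega)).2 ((hB (i - 1) (by omega)).eq_of_src _ _)
        haveI : Epi ((DerivedCategory.homologyFunctor C i).map f) :=
          (HomologySequence.epi_homologyMap_mor₁_iff (Triangle.mk f g h) hT i).2
            ((hB i hi).eq_of_tgt _ _)
        exact isIso_of_mono_of_epi _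
      have h₁ : IsNPC P n A := by
        apply ih A (b - 1) (by push_cast at hk; omega) hA
        intro i hi
        by_cases hib : i < b
        · haveI := hAF i hib
          exact IsNPC.of_iso ((DerivedCategory.singleFunctor C 0).mapIso
            (asIso ((DerivedCategory.homologyFunctor C i).map f)).symm) (hfp i hi)
        · exact isNPC_of_isZero P _
            ((DerivedCategory.singleFunctor C 0).map_isZero (hA i (by omega)))
      exact isNPC_obj₂ P hsum hqs hql (Triangle.mk f g h) hT n h₁ h₃

/-- S5604 -/
theorem isNPC_of_homology (n : ℤ) (F : DerivedCategory C) (b : ℤ)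
    (hb : ∀ i : ℤ, b < i → IsZero ((DerivedCategory.homologyFunctor C i).obj F))
    (hfp : ∀ i : ℤ, n ≤ i → IsNPC P (n - i) ((DerivedCategory.singleFunctor C 0).obj
      ((DerivedCategory.homologyFunctor C i).obj F))) : IsNPC P n F :=
  isNPC_of_homology_aux P hsum hqs hql n (b + 1 - n).toNat F b (by omega) hb hfp

end Core

end Groth.Agent.Lib.PCohHom
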