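import Mathlib
import Groth.Agent.Lib.PCohCyl2_helper2
import Groth.Agent.Lib.PCohHom_helper2

/-!
# Factorisation of an `i`-quasi-isomorphism between `n`-pseudo-coherent complexes (SGA 6 I 2.2 c)
-/

set_option autoImplicit false
universe w v u
open CategoryTheory Limits HomologicalComplex CochainComplex Pretriangulated

namespace Groth.Agent.Lib.PCohFac
open Groth.Agent.Lib.PCohNQI Groth.Agent.Lib.PCohCyl Groth.Agent.Lib.PCohStab
open Groth.Agent.Lib.PCohRes Groth.Agent.Lib.PCohDer Groth.Agent.Lib.PCohTri PCoh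
open Groth.Agent.Lib.PCohSum Groth.Agent.Lib.PCohTerm Groth.Agent.PerfectCx ZeroObject
open DerivedCategory

variable {C : Type u} [Category.{v} C] [Abelian C] [HasDerivedCategory.{w} C]

section Core

variable (P : ObjectProperty C) [P.IsClosedUnderIsomorphisms] [P.ContainsZero]
  (hsum : ∀ X Y : C, P X → P Y → P (X ⨯ Y))
  (hqs : IsQuasiStableUnderKernels P) (hql : IsQuasiLiftable P)

include hsum hqs hql

/-- the cone of an `(m+1)`-quasi-isomorphism from a strictly `n`-pseudo-coherent complex to an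
`n`-pseudo-coherent one has `H^m` of finite type (`n ≤ m`) -/
lemma finiteType_cone (n m : ℤ) (hnm : n ≤ m) {E F : CochainComplex C ℤ} (hE : IsStrictPC P n E)
    (hF : IsNPC P n (Q.obj F)) (u : E ⟶ F) (hu : NQI (m + 1) u) :
    IsOfFiniteType P ((mappingCone u).homology m) := by
  have h₁ : IsNPC P (n + 1) (Q.obj E) :=
    ⟨E, ⟨hE.1, fun i hi => hE.2 i (by omega)⟩, ⟨Iso.refl _⟩⟩
  have hM : IsNPC P n (Q.obj (mappingCone u)) :=
    isNPC_obj₃ P hsum hqs hql _ (DerivedCategory.mappingCone_triangle_distinguished u) n h₁ hF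
  have hac : ∀ i : ℤ, m < i → IsZero ((mappingCone u).homology i) :=
    fun i hi => (nqi_iff_cone u (m + 1)).1 hu i (by omega)
  exact isOfFiniteType_of_iso P (homologyIso _ m)
    (finiteType_of_isNPC P hqs m _ (fun i hi => IsZero.of_iso (hac i hi) (homologyIso _ i))
      (hM.mono hnm))

lemma stage (n i : ℤ) (E F : CochainComplex C ℤ) (hE : IsStrictPC P n E)
    (hF : IsNPC P n (Q.obj F)) (u : E ⟶ F) (hu : NQI i u) :
    ∀ (k : ℕ) (m : ℤ), m + k = i → n ≤ m →
      ∃ (E_m : CochainComplex C ℤ) (v : E ⟶ E_m) (u_m : E_m ⟶ F), v ≫ u_m = u ∧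
        IsStrictPC P n E_m ∧ NQI m u_m ∧ (∀ j : ℤ, Mono (v.f j)) ∧
        (∀ j : ℤ, i ≤ j → IsIso (v.f j)) := by
  intro k
  induction k with
  | zero =>
    intro m hm _
    have : m = i := by simpa using hm
    subst this
    exact ⟨E, 𝟙 E, u, Category.id_comp u, hE, hu, fun j => by
      rw [HomologicalComplex.id_f]
      infer_instance, fun j _ => by
      rw [HomologicalComplex.id_f]
      infer_instance⟩
  | succ k ih =>
    intro m hm hnm
    obtain ⟨E₁, v₁, u₁, h1, hE₁, hu₁, hmono₁, hiso₁⟩ :=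
      ih (m + 1) (by push_cast at hm; omega) (by omega)
    have hft := finiteType_cone P hsum hqs hql n m hnm hE₁ hF u₁ hu₁
    obtain ⟨E₂, w, u₂, h2, hmono₂, hiso₂, ⟨P', hP', ⟨e⟩⟩, hu₂⟩ :=
      factor_add_split P hql m u₁ hu₁ hft
    obtain ⟨⟨B, hB⟩, hP₁⟩ := hE₁
    refine ⟨E₂, v₁ ≫ w, u₂, by rw [Category.assoc, h2, h1], ⟨⟨max B m, fun j hj => ?_⟩,
      fun j hj => ?_⟩, hu₂, fun j => ?_, fun j hj => ?_⟩
    · haveI := hiso₂ j (by omega)
      exact IsZero.of_iso (hB j (by omega)) (asIso (w.f j)).symm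
    · by_cases hjm : j = m
      · subst hjm
        exact P.prop_of_iso e.symm (prop_biprod P hsum _ _ (hP₁ j hj) hP')
      · haveI := hiso₂ j hjm
        exact P.prop_of_iso (asIso (w.f j)) (hP₁ j hj)
    · haveI := hmono₁ j
      haveI := hmono₂ j
      rw [HomologicalComplex.comp_f]
      infer_instance
    · haveI := hiso₁ j hj
      haveI := hiso₂ j (by push_cast at hm; omega)
      rw [HomologicalComplex.comp_f]
      infer_instance

/-- S12100 -/
theorem exists_strictPC_factorisation (n i : ℤ) (E F : CochainComplex C ℤ)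
    (hE : IsStrictPC P n E) (hF : IsNPC P n (Q.obj F)) (u : E ⟶ F) (hu : NQI i u) :
    ∃ (E' : CochainComplex C ℤ) (v : E ⟶ E') (u' : E' ⟶ F), v ≫ u' = u ∧ IsStrictPC P n E' ∧
      QuasiIso u' ∧ (∀ j : ℤ, Mono (v.f j)) ∧ (∀ j : ℤ, i ≤ j → IsIso (v.f j)) := by
  by_cases hin : i ≤ n
  · obtain ⟨E', v, u', h1, h2, h3, h4⟩ := factor_quasiIso i u hu
    obtain ⟨⟨B, hB⟩, hP⟩ := hE
    refine ⟨E', v, u', h1, ⟨⟨max B (i - 1), fun j hj => ?_⟩, fun j hj => ?_⟩, h2, h3, h4⟩
    · haveI := h4 j (by omega)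
      exact IsZero.of_iso (hB j (by omega)) (asIso (v.f j)).symm
    · haveI := h4 j (by omega)
      exact P.prop_of_iso (asIso (v.f j)) (hP j hj)
  · obtain ⟨E₁, v₁, u₁, h1, hE₁, hu₁, hmono₁, hiso₁⟩ :=
      stage P hsum hqs hql n i E F hE hF u hu (i - n).toNat n (by omega) le_rfl
    obtain ⟨E', w, u', h2, h3, h4, h5⟩ := factor_quasiIso n u₁ hu₁
    obtain ⟨⟨B, hB⟩, hP⟩ := hE₁
    refine ⟨E', v₁ ≫ w, u', by rw [Category.assoc, h2, h1],
      ⟨⟨max B (n - 1), fun j hj => ?_⟩, fun j hj => ?_⟩, h3, fun j => ?_, fun j hj => ?_⟩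
    · haveI := h5 j (by omega)
      exact IsZero.of_iso (hB j (by omega)) (asIso (w.f j)).symm
    · haveI := h5 j hj
      exact P.prop_of_iso (asIso (w.f j)) (hP j hj)
    · haveI := hmono₁ j
      haveI := h4 j
      rw [HomologicalComplex.comp_f]
      infer_instance
    · haveI := hiso₁ j hj
      haveI := h5 j (by omega)
      rw [HomologicalComplex.comp_f]
      infer_instance

end Core

end Groth.Agent.Lib.PCohFac
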