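import Mathlib

/-!
# Colimits of degreewise eventually constant towers of cochain complexes

A tower `A 0 ⟶ A 1 ⟶ ⋯` of cochain complexes such that in each degree the transition maps are
eventually isomorphisms has a colimit in any (pre)additive category, computed degreewise.
-/

set_option autoImplicit false
universe v u
open CategoryTheory Limits HomologicalComplex

namespace Groth.Agent.Lib.Tower

variable {C : Type u} [Category.{v} C]

section

variable [Abelian C]

/-- a chain map which is an isomorphism in degrees `i - 1`, `i`, `i + 1` is an isomorphism on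
`H^i` -/
lemma isIso_homologyMap_of_isIso_f {K L : CochainComplex C ℤ} (f : K ⟶ L) (i : ℤ)
    (h₁ : IsIso (f.f (i - 1))) (h₂ : IsIso (f.f i)) (h₃ : IsIso (f.f (i + 1))) :
    IsIso (homologyMap f i) := by
  have hq : QuasiIsoAt f i := by
    rw [quasiIsoAt_iff' f (i - 1) i (i + 1) (by simp) (by simp)]
    haveI : IsIso ((shortComplexFunctor' C (ComplexShape.up ℤ) (i - 1) i (i + 1)).map f).τ₁ := h₁
    haveI : IsIso ((shortComplexFunctor' C (ComplexShape.up ℤ) (i - 1) i (i + 1)).map f).τ₂ := h₂
    haveI : IsIso ((shortComplexFunctor' C (ComplexShape.up ℤ) (i - 1) i (i + 1)).map f).τ₃ := h₃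
    haveI := ShortComplex.isIso_of_isIso
      ((shortComplexFunctor' C (ComplexShape.up ℤ) (i - 1) i (i + 1)).map f)
    infer_instance
  exact (quasiIsoAt_iff_isIso_homologyMap f i).1 hq

end

variable [Preadditive C]

/-- the colimit of a degreewise eventually constant tower -/
theorem exists_colimit (A : ℕ → CochainComplex C ℤ) (t : ∀ k, A k ⟶ A (k + 1)) (κ : ℤ → ℕ)
    (hκ : ∀ (j : ℤ) (k : ℕ), κ j ≤ k → IsIso ((t k).f j)) :
    ∃ (L : CochainComplex C ℤ) (ι : ∀ k, A k ⟶ L), (∀ k, t k ≫ ι (k + 1) = ι k) ∧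
      (∀ (j : ℤ) (k : ℕ), κ j ≤ k → IsIso ((ι k).f j)) ∧
      (∀ (F : CochainComplex C ℤ) (u : ∀ k, A k ⟶ F), (∀ k, t k ≫ u (k + 1) = u k) →
        ∃ u' : L ⟶ F, ∀ k, ι k ≫ u' = u k) := by
  let Φ : ℕ ⥤ CochainComplex C ℤ := Functor.ofSequence t
  have hΦ : ∀ k, Φ.map (homOfLE (Nat.le_add_right k 1)) = t k :=
    fun k => Functor.ofSequence_map_homOfLE_succ t k
  -- transition maps are eventually isomorphisms
  have hiso : ∀ (j : ℤ) (d k : ℕ), κ j ≤ k →
      IsIso ((Φ.map (homOfLE (Nat.le_add_right k d))).f j) := by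
    intro j d
    induction d with
    | zero =>
      intro k _
      have : homOfLE (Nat.le_add_right k 0) = 𝟙 k := Subsingleton.elim _ _
      rw [this, Φ.map_id, HomologicalComplex.id_f]
      infer_instance
    | succ d ih =>
      intro k hk
      have e : homOfLE (Nat.le_add_right k (d + 1)) =
          homOfLE (Nat.le_add_right k d) ≫ homOfLE (Nat.le_add_right (k + d) 1) :=
        Subsingleton.elim _ _
      rw [e, Φ.map_comp, hΦ, HomologicalComplex.comp_f]
      exact IsIso.comp_isIso' (ih k hk) (hκ j (k + d) (by omega))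
  have hec : ∀ j : ℤ, (Φ ⋙ HomologicalComplex.eval C (ComplexShape.up ℤ) j).IsEventuallyConstantFrom
      (κ j) := by
    intro j l f
    obtain ⟨d, hd⟩ := Nat.exists_eq_add_of_le (leOfHom f)
    subst hd
    have : f = homOfLE (Nat.le_add_right (κ j) d) := Subsingleton.elim _ _
    rw [this]
    exact hiso j d (κ j) le_rfl
  haveI : ∀ j : ℤ, HasColimit (Φ ⋙ HomologicalComplex.eval C (ComplexShape.up ℤ) j) :=
    fun j => (hec j).hasColimit
  refine ⟨colimit Φ, fun k => colimit.ι Φ k, fun k => ?_, fun j k hk => ?_, fun F u hu => ?_⟩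
  · rw [← hΦ k]
    exact colimit.w Φ (homOfLE (Nat.le_add_right k 1))
  · have hc := isColimitOfPreserves (HomologicalComplex.eval C (ComplexShape.up ℤ) j)
      (colimit.isColimit Φ)
    exact (hec j).isIso_ι_of_isColimit' hc k (homOfLE hk)
  · let α : Φ ⟶ (Functor.const ℕ).obj F := NatTrans.ofSequence u (fun k => by
      rw [hΦ k]
      dsimp
      rw [Category.comp_id]
      exact hu k)
    exact ⟨colimit.desc Φ ⟨F, α⟩, fun k => colimit.ι_desc _ _⟩

/-- monomorphy of the legs of the colimit cocone -/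
lemma mono_of_tower {A : ℕ → CochainComplex C ℤ} (t : ∀ k, A k ⟶ A (k + 1)) (κ : ℤ → ℕ)
    {L : CochainComplex C ℤ} (ι : ∀ k, A k ⟶ L) (h1 : ∀ k, t k ≫ ι (k + 1) = ι k)
    (h2 : ∀ (j : ℤ) (k : ℕ), κ j ≤ k → IsIso ((ι k).f j))
    (hm : ∀ (k : ℕ) (j : ℤ), Mono ((t k).f j)) (j : ℤ) : ∀ k : ℕ, Mono ((ι k).f j) := by
  have key : ∀ (d k : ℕ), κ j ≤ k + d → Mono ((ι k).f j) := by
    intro d
    induction d with
    | zero =>
      intro k hk
      haveI := h2 j k (by omega)
      infer_instance
    | succ d ih =>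
      intro k hk
      haveI := ih (k + 1) (by omega)
      haveI := hm k j
      rw [← h1 k, HomologicalComplex.comp_f]
      infer_instance
  intro k
  exact key (κ j) k (by omega)

end Groth.Agent.Lib.Tower
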