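import Mathlib
import Groth.Agent.Lib.Tower_helper2
import Groth.Agent.Lib.PCohFac_helper2

/-!
# Strictly pseudo-coherent resolutions of pseudo-coherent complexes (SGA 6 I 2.2 c), infinite case)
-/

set_option autoImplicit false
universe w v u
open CategoryTheory Limits HomologicalComplex CochainComplex Pretriangulated

namespace Groth.Agent.Lib.PCohInf
open Groth.Agent.Lib.PCohNQI Groth.Agent.Lib.PCohCyl Groth.Agent.Lib.PCohStab
open Groth.Agent.Lib.PCohRes Groth.Agent.Lib.PCohDer Groth.Agent.Lib.PCohTri PCoh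
open Groth.Agent.Lib.PCohSum Groth.Agent.Lib.PCohTerm Groth.Agent.Lib.PCohFac
open Groth.Agent.Lib.Tower Groth.Agent.PerfectCx ZeroObject DerivedCategory

variable {C : Type u} [Category.{v} C] [Abelian C]

/-- dependent choice along `ℕ` -/
lemma exists_seq {St : ℕ → Type*} (R : ∀ k, St k → St (k + 1) → Prop)
    (h : ∀ k (S : St k), ∃ S' : St (k + 1), R k S S') (S₀ : St 0) :
    ∃ seq : ∀ k, St k, seq 0 = S₀ ∧ ∀ k, R k (seq k) (seq (k + 1)) :=
  ⟨fun k => Nat.rec S₀ (fun k S => (h k S).choose) k, rfl, fun k => (h k _).choose_spec⟩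

/-- a stage of the construction: a complex with terms in `P`, zero above `B`, with an
`(n - k)`-quasi-isomorphism to `F` -/
structure Stage (P : ObjectProperty C) (F : CochainComplex C ℤ) (B n : ℤ) (k : ℕ) where
  E : CochainComplex C ℤ
  u : E ⟶ F
  hP : ∀ i : ℤ, P (E.X i)
  hB : ∀ i : ℤ, B < i → IsZero (E.X i)
  hu : NQI (n - k) u

variable [HasDerivedCategory.{w} C]

section Core

variable (P : ObjectProperty C) [P.IsClosedUnderIsomorphisms] [P.ContainsZero]
  (hsum : ∀ X Y : C, P X → P Y → P (X ⨯ Y))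
  (hqs : IsQuasiStableUnderKernels P) (hql : IsQuasiLiftable P)
  (F : CochainComplex C ℤ) (hF : ∀ m : ℤ, IsNPC P m (Q.obj F)) (B n : ℤ) (hnB : n - 1 ≤ B)

include hsum hqs hql hF hnB

lemma exists_next (k : ℕ) (S : Stage P F B n k) :
    ∃ S' : Stage P F B n (k + 1), ∃ t : S.E ⟶ S'.E, t ≫ S'.u = S.u ∧
      (∀ j : ℤ, Mono (t.f j)) ∧ (∀ j : ℤ, j ≠ n - k - 1 → IsIso (t.f j)) := by
  have hu' : NQI (n - k - 1 + 1) S.u := by
    have e : n - (k : ℤ) - 1 + 1 = n - k := by ring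
    rw [e]
    exact S.hu
  have hft := finiteType_cone P hsum hqs hql (n - k - 1) (n - k - 1) le_rfl
    (⟨⟨B, S.hB⟩, fun i _ => S.hP i⟩ : IsStrictPC P (n - k - 1) S.E) (hF _) S.u hu'
  obtain ⟨E₂, w, u₂, h2, hmono₂, hiso₂, ⟨P', hP', ⟨e⟩⟩, hu₂⟩ :=
    factor_add_split P hql (n - k - 1) S.u hu' hft
  refine ⟨⟨E₂, u₂, fun j => ?_, fun j hj => ?_, ?_⟩, w, h2, hmono₂, hiso₂⟩
  · by_cases hjm : j = n - k - 1
    · subst hjm
      exact P.prop_of_iso e.symm (prop_biprod P hsum _ _ (S.hP _) hP')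
    · haveI := hiso₂ j hjm
      exact P.prop_of_iso (asIso (w.f j)) (S.hP j)
  · haveI := hiso₂ j (by omega)
    exact IsZero.of_iso (S.hB j hj) (asIso (w.f j)).symm
  · have e : n - ((k + 1 : ℕ) : ℤ) = n - k - 1 := by push_cast; ring
    rw [e]
    exact hu₂

/-- the infinite construction -/
theorem exists_resolution (S₀ : Stage P F B n 0) :
    ∃ (L : CochainComplex C ℤ) (v : S₀.E ⟶ L) (u' : L ⟶ F), v ≫ u' = S₀.u ∧
      (∀ i : ℤ, P (L.X i)) ∧ (∀ i : ℤ, B < i → IsZero (L.X i)) ∧ QuasiIso u' ∧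
      (∀ j : ℤ, Mono (v.f j)) ∧ (∀ j : ℤ, n ≤ j → IsIso (v.f j)) := by
  obtain ⟨seq, rfl, hseq⟩ := exists_seq
    (fun k (S : Stage P F B n k) (S' : Stage P F B n (k + 1)) => ∃ t : S.E ⟶ S'.E,
      t ≫ S'.u = S.u ∧ (∀ j : ℤ, Mono (t.f j)) ∧ (∀ j : ℤ, j ≠ n - k - 1 → IsIso (t.f j)))
    (exists_next P hsum hqs hql F hF B n hnB) S₀
  choose t ht1 ht2 ht3 using hseq
  obtain ⟨L, ι, h1, h2, h3⟩ := exists_colimit (fun k => (seq k).E) t (fun j => (n - j).toNat)
    (fun j k hk => ht3 k j (by omega))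
  obtain ⟨u', hu'⟩ := h3 F (fun k => (seq k).u) ht1
  have hmono := fun j => mono_of_tower t (fun j => (n - j).toNat) ι h1 h2 ht2 j
  refine ⟨L, ι 0, u', hu' 0, fun i => ?_, fun i hi => ?_, ?_, fun j => hmono j 0,
    fun j hj => h2 j 0 (by omega)⟩
  · haveI := h2 i (n - i).toNat le_rfl
    exact P.prop_of_iso (asIso ((ι (n - i).toNat).f i)) ((seq _).hP i)
  · haveI := h2 i (n - i).toNat le_rfl
    exact IsZero.of_iso ((seq _).hB i hi) (asIso ((ι (n - i).toNat).f i)).symm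
  · rw [quasiIso_iff]
    intro i
    rw [quasiIsoAt_iff_isIso_homologyMap]
    have hι : IsIso (homologyMap (ι (n - i + 1).toNat) i) :=
      isIso_homologyMap_of_isIso_f _ i (h2 _ _ (by omega)) (h2 _ _ (by omega))
        (h2 _ _ (by omega))
    have hu : IsIso (homologyMap (seq (n - i + 1).toNat).u i) :=
      (seq (n - i + 1).toNat).hu.1 i (by omega)
    have e : homologyMap (ι (n - i + 1).toNat) i ≫ homologyMap u' i =
        homologyMap (seq (n - i + 1).toNat).u i := by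
      rw [← homologyMap_comp, hu']
    rw [← e] at hu
    exact IsIso.of_isIso_comp_left (homologyMap (ι (n - i + 1).toNat) i) (homologyMap u' i)

end Core

end Groth.Agent.Lib.PCohInf
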