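import Mathlib
import Groth.Agent.Lib.PCohInf_helper2

/-!
# Consequences of the existence of strictly pseudo-coherent resolutions
-/

set_option autoImplicit false
universe w v u
open CategoryTheory Limits HomologicalComplex CochainComplex Pretriangulated

namespace Groth.Agent.Lib.PCohInf
open Groth.Agent.Lib.PCohNQI Groth.Agent.Lib.PCohCyl Groth.Agent.Lib.PCohStab
open Groth.Agent.Lib.PCohRes Groth.Agent.Lib.PCohDer Groth.Agent.Lib.PCohTri PCoh
open Groth.Agent.Lib.PCohSum Groth.Agent.Lib.PCohTerm Groth.Agent.Lib.PCohFac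
open Groth.Agent.Lib.Tower Groth.Agent.PerfectCx ZeroObject DerivedCategory

variable {C : Type u} [Category.{v} C] [Abelian C] [HasDerivedCategory.{w} C]

section Core

variable (P : ObjectProperty C) [P.IsClosedUnderIsomorphisms] [P.ContainsZero]
  (hsum : ∀ X Y : C, P X → P Y → P (X ⨯ Y))
  (hqs : IsQuasiStableUnderKernels P) (hql : IsQuasiLiftable P)

include hsum hqs hql

/-- S12101 -/
theorem exists_strictPCAll_factorisation (n : ℤ) (E F : CochainComplex C ℤ)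
    (hE : IsStrictPCAll P E) (hF : ∀ m : ℤ, IsNPC P m (Q.obj F)) (u : E ⟶ F) (hu : NQI n u) :
    ∃ (E' : CochainComplex C ℤ) (v : E ⟶ E') (u' : E' ⟶ F), v ≫ u' = u ∧ IsStrictPCAll P E' ∧
      QuasiIso u' ∧ (∀ j : ℤ, Mono (v.f j)) ∧ (∀ j : ℤ, n ≤ j → IsIso (v.f j)) := by
  obtain ⟨⟨b, hb⟩, hP⟩ := hE
  have hu0 : NQI (n - ((0 : ℕ) : ℤ)) u := by simpa using hu
  obtain ⟨L, v, u', h1, h2, h3, h4, h5, h6⟩ := exists_resolution P hsum hqs hql F hF
    (max b (n - 1)) n (by omega) ⟨E, u, hP, fun i hi => hb i (by omega), hu0⟩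
  exact ⟨L, v, u', h1, ⟨⟨_, h3⟩, h2⟩, h4, h5, h6⟩

/-- the zero stage -/
lemma exists_resolution_zero (G : CochainComplex C ℤ) (hG : ∀ m : ℤ, IsNPC P m (Q.obj G))
    (m : ℤ) (hac : ∀ i : ℤ, m ≤ i → IsZero (G.homology i)) :
    ∃ (L : CochainComplex C ℤ) (u' : L ⟶ G), (∀ i : ℤ, P (L.X i)) ∧
      (∀ i : ℤ, m ≤ i → IsZero (L.X i)) ∧ QuasiIso u' := by
  have hz : ∀ i : ℤ, IsZero ((0 : CochainComplex C ℤ).X i) := fun i =>
    (HomologicalComplex.eval C (ComplexShape.up ℤ) i).map_isZero (isZero_zero _)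
  have hu0 : NQI (m - ((0 : ℕ) : ℤ)) (0 : (0 : CochainComplex C ℤ) ⟶ G) := by
    refine ⟨fun i hi => ?_, ?_⟩
    · have h1 : IsZero ((0 : CochainComplex C ℤ).homology i) :=
        isZero_homology_of_isZero_X _ i (hz i)
      have h2 := hac i (by push_cast at hi; omega)
      exact ⟨⟨0, h1.eq_of_src _ _, h2.eq_of_src _ _⟩⟩
    · exact (hac _ (by push_cast; omega)).epi _
  obtain ⟨L, v, u', -, h2, h3, h4, -, -⟩ := exists_resolution P hsum hqs hql G hG
    (m - 1) m le_rfl ⟨0, 0, fun i => P.prop_of_isZero (hz i), fun i _ => hz i, hu0⟩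
  exact ⟨L, u', h2, fun i hi => h3 i (by omega), h4⟩

/-- chain level version of S4295 -/
theorem exists_strictPCAll_quasiIso (G : CochainComplex C ℤ)
    (hG : ∀ m : ℤ, IsNPC P m (Q.obj G)) :
    ∃ (L : CochainComplex C ℤ) (u' : L ⟶ G), IsStrictPCAll P L ∧ QuasiIso u' := by
  obtain ⟨E₀, ⟨⟨b, hb⟩, -⟩, ⟨e⟩⟩ := hG 0
  have hac : ∀ i : ℤ, b + 1 ≤ i → IsZero (G.homology i) := fun i hi =>
    IsZero.of_iso (isZero_homology_of_isZero_X E₀ i (hb i (by omega)))
      ((homologyIso G i).symm ≪≫ (DerivedCategory.homologyFunctor C i).mapIso e.symm ≪≫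
        homologyIso E₀ i)
  obtain ⟨L, u', h1, h2, h3⟩ := exists_resolution_zero P hsum hqs hql G hG (b + 1) hac
  exact ⟨L, u', ⟨⟨b, fun i hi => h2 i (by omega)⟩, h1⟩, h3⟩

/-- S4295 -/
theorem exists_strictPCAll_iso (F : DerivedCategory C) (hF : ∀ m : ℤ, IsNPC P m F) :
    ∃ E : CochainComplex C ℤ, IsStrictPCAll P E ∧ Nonempty (Q.obj E ≅ F) := by
  have hG : ∀ m : ℤ, IsNPC P m (Q.obj (Q.objPreimage F)) := fun m =>
    (hF m).of_iso (Q.objObjPreimageIso F).symm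
  obtain ⟨L, u', h1, h2⟩ := exists_strictPCAll_quasiIso P hsum hqs hql _ hG
  haveI := h2
  exact ⟨L, h1, ⟨asIso (Q.map u') ≪≫ Q.objObjPreimageIso F⟩⟩

/-- S5618 -/
theorem exists_strictPCAll_iso_vanishing (m : ℤ) (F : DerivedCategory C)
    (hF : ∀ k : ℤ, IsNPC P k F)
    (hac : ∀ i : ℤ, m ≤ i → IsZero ((DerivedCategory.homologyFunctor C i).obj F)) :
    ∃ E : CochainComplex C ℤ, (∀ i : ℤ, P (E.X i)) ∧ (∀ i : ℤ, m ≤ i → IsZero (E.X i)) ∧
      Nonempty (Q.obj E ≅ F) := by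
  have hG : ∀ k : ℤ, IsNPC P k (Q.obj (Q.objPreimage F)) := fun k =>
    (hF k).of_iso (Q.objObjPreimageIso F).symm
  have hac' : ∀ i : ℤ, m ≤ i → IsZero ((Q.objPreimage F).homology i) := fun i hi =>
    IsZero.of_iso (hac i hi)
      ((homologyIso _ i).symm ≪≫
        (DerivedCategory.homologyFunctor C i).mapIso (Q.objObjPreimageIso F))
  obtain ⟨L, u', h1, h2, h3⟩ := exists_resolution_zero P hsum hqs hql _ hG m hac'
  haveI := h3
  exact ⟨L, h1, h2, ⟨asIso (Q.map u') ≪≫ Q.objObjPreimageIso F⟩⟩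

omit hsum hqs hql in
lemma isNPC_of_strictPCAll {E : CochainComplex C ℤ} (hE : IsStrictPCAll P E) (m : ℤ) :
    IsNPC P m (Q.obj E) := ⟨E, ⟨hE.1, fun i _ => hE.2 i⟩, ⟨Iso.refl _⟩⟩

/-- S4296 -/
theorem exists_roof (E E' : CochainComplex C ℤ) (hE : IsStrictPCAll P E)
    (α : Q.obj E ⟶ Q.obj E') :
    ∃ (E'' : CochainComplex C ℤ) (s : E'' ⟶ E) (f : E'' ⟶ E'), IsStrictPCAll P E'' ∧ QuasiIso s ∧
      Q.map s ≫ α = Q.map f := by
  obtain ⟨G, s, hs, g, hg⟩ := right_fac α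
  haveI : QuasiIso s := quasiIso_of_isIso_Q_map s hs
  have hG : ∀ m : ℤ, IsNPC P m (Q.obj G) := fun m =>
    (isNPC_of_strictPCAll P hE m).of_iso (asIso (Q.map s)).symm
  obtain ⟨L, u', h1, h2⟩ := exists_strictPCAll_quasiIso P hsum hqs hql G hG
  haveI := h2
  refine ⟨L, u' ≫ s, u' ≫ g, h1, inferInstance, ?_⟩
  rw [hg, Q.map_comp, Q.map_comp, Category.assoc, IsIso.hom_inv_id_assoc]

/-- S4297 -/
theorem exists_homotopy (E E' : CochainComplex C ℤ) (hE : IsStrictPCAll P E)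
    (f g : E ⟶ E') (hfg : Q.map f = Q.map g) :
    ∃ (E'' : CochainComplex C ℤ) (s : E'' ⟶ E), IsStrictPCAll P E'' ∧ QuasiIso s ∧
      Nonempty (Homotopy (s ≫ f) (s ≫ g)) := by
  have h1 : Qh.map ((HomotopyCategory.quotient C (ComplexShape.up ℤ)).map f) =
      Qh.map ((HomotopyCategory.quotient C (ComplexShape.up ℤ)).map g) := by
    have e1 := quotientCompQhIso_hom_naturality f
    have e2 := quotientCompQhIso_hom_naturality g
    rw [hfg, ← e2] at e1
    exact (cancel_mono _).1 e1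
  rw [MorphismProperty.map_eq_iff_precomp Qh
    (HomotopyCategory.quasiIso C (ComplexShape.up ℤ))] at h1
  obtain ⟨Z, s, hs, fac⟩ := h1
  obtain ⟨G, rfl⟩ := HomotopyCategory.quotient_obj_surjective Z
  obtain ⟨s, rfl⟩ := (HomotopyCategory.quotient _ _).map_surjective s
  rw [HomotopyCategory.quotient_map_mem_quasiIso_iff, HomologicalComplex.mem_quasiIso_iff] at hs
  haveI : QuasiIso s := hs
  have hG : ∀ m : ℤ, IsNPC P m (Q.obj G) := fun m =>
    (isNPC_of_strictPCAll P hE m).of_iso (asIso (Q.map s)).symm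
  obtain ⟨L, u', h2, h3⟩ := exists_strictPCAll_quasiIso P hsum hqs hql G hG
  haveI := h3
  have hH : Homotopy (s ≫ f) (s ≫ g) := HomotopyCategory.homotopyOfEq _ _ (by
    rw [Functor.map_comp, Functor.map_comp]
    exact fac)
  exact ⟨L, u' ≫ s, h2, inferInstance, ⟨by
    simpa only [Category.assoc] using hH.compLeft u'⟩⟩

end Core

end Groth.Agent.Lib.PCohInf
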