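import Mathlib
import Groth.Agent.Lib.PCohAmp_helper2
import Groth.Agent.Lib.PCohInf2_helper2

/-!
# Perfect amplitude: direct sums and direct summands (SGA 6 I 4.?)
-/

set_option autoImplicit false
universe w v u
open CategoryTheory Limits HomologicalComplex CochainComplex

namespace Groth.Agent.Lib.PCohAmp
open Groth.Agent.Lib.PCohNQI Groth.Agent.PerfectCx DerivedCategory PCoh
open Groth.Agent.Lib.PCohDer Groth.Agent.Lib.PCohSum Groth.Agent.Lib.PCohInf Groth.Agent.Lib.PCohRes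

variable {C : Type u} [Category.{v} C] [Abelian C]

/-- the short exact sequence `0 ⟶ Z^i ⟶ K^i ⟶ Z^j ⟶ 0` of a complex exact at `j`, any shape -/
lemma shortExact_cycles' {ι : Type*} {c : ComplexShape ι} (K : HomologicalComplex C c) (i j : ι)
    (hij : c.Rel i j) (h : K.ExactAt j) :
    (ShortComplex.mk (K.iCycles i) (K.toCycles i j) (by
      rw [← cancel_mono (K.iCycles j), Category.assoc, HomologicalComplex.toCycles_i,
        HomologicalComplex.iCycles_d, zero_comp])).ShortExact := by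
  have hz : IsZero (K.homology j) :=
    (HomologicalComplex.exactAt_iff_isZero_homology _ _).1 h
  haveI : Epi (K.toCycles i j) :=
    Preadditive.epi_of_isZero_cokernel' _ (K.homologyIsCokernel i j (c.prev_eq' hij)) hz
  exact
    { exact := ShortComplex.exact_of_f_is_kernel _
        (isKernelOfComp (K.iCycles j) (K.d i j)
          (K.cyclesIsKernel i j (c.next_eq' hij)) _ (K.toCycles_i i j)) }

section Core

variable (P : ObjectProperty C) [P.IsClosedUnderIsomorphisms] [P.ContainsZero]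
  (hsum : ∀ X Y : C, P X → P Y → P (X ⨯ Y))
  (hlift : ∀ (E F : C) (u : E ⟶ F), Epi u → P F → IsSplitEpi u)
  (hst : ∀ (E F : C) (u : E ⟶ F), Epi u → P E → P F → P (kernel u))

include hlift in
omit [P.IsClosedUnderIsomorphisms] [P.ContainsZero] in
lemma hql_of_hlift : IsQuasiLiftable P := by
  intro E F u hu hF
  obtain ⟨⟨σ, hσ⟩⟩ := hlift E F u hu hF
  refine ⟨F, σ, hF, ?_⟩
  rw [hσ]
  infer_instance

include hst in
lemma hqs_of_hst : IsQuasiStableUnderKernels P := by
  rintro K hex ⟨n, hn⟩ hP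
  have key : ∀ (k : ℕ) (i : ℕ), i + k = n + 1 → 1 ≤ i → P (K.cycles i) := by
    intro k
    induction k with
    | zero =>
      intro i hi _
      exact P.prop_of_isZero (IsZero.of_mono (K.iCycles i) (hn i (by omega)))
    | succ k ih =>
      intro i hi h1
      have h2 := ih (i + 1) (by omega) (by omega)
      exact prop_X₁ P hst _ (shortExact_cycles' K i (i + 1) (by simp) (hex _)) (hP i h1) h2
  have hZ1 : P (K.cycles 1) := key n 1 (by omega) le_rfl
  have h0 := hex 0
  rw [HomologicalComplex.exactAt_iff' _ 0 0 1 (by simp) (by simp)] at h0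
  have hf : (K.sc' 0 0 1).f = 0 := K.shape 0 0 (by simp)
  haveI : Mono (K.d 0 1) := (ShortComplex.exact_iff_mono _ hf).1 h0
  haveI : Mono (K.toCycles 0 1) := mono_of_mono_fac (K.toCycles_i 0 1)
  haveI : Epi (K.toCycles 0 1) := (shortExact_cycles' K 0 1 (by simp) (hex 1)).epi_g
  haveI : IsIso (K.toCycles 0 1) := isIso_of_mono_of_epi _
  exact ⟨K.X 0, 𝟙 _, P.prop_of_iso (asIso (K.toCycles 0 1)).symm hZ1, inferInstance⟩

omit [P.ContainsZero] in
/-- lower canonical truncation -/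
lemma exists_truncGE (a b : ℤ) (hab : a ≤ b) (L : CochainComplex C ℤ) (hL : ∀ i, P (L.X i))
    (hb : ∀ i, b < i → IsZero (L.X i)) (ha : ∀ i, i < a → IsZero (L.homology i)) :
    ∃ (E : CochainComplex C ℤ) (π : L ⟶ E), QuasiIso π ∧
      (∀ i, i < a ∨ b < i → IsZero (E.X i)) ∧ (∀ i, a < i → P (E.X i)) := by
  haveI : L.IsGE a := (isGE_iff L a).2 (fun i hi =>
    (HomologicalComplex.exactAt_iff_isZero_homology _ _).2 (ha i hi))
  refine ⟨L.truncGE a, L.πTruncGE a, inferInstance, ?_, ?_⟩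
  · rintro i (hi | hi)
    · exact (L.truncGE a).isZero_of_isStrictlyGE a i hi
    · exact IsZero.of_iso (hb i hi) (L.truncGEXIso a i (by omega))
  · intro i hi
    exact P.prop_of_iso (L.truncGEXIso a i hi).symm (hL i)

variable [HasDerivedCategory.{w} C]

/-- the cohomology of a direct summand of `Q E` vanishes where `E` does -/
lemma isZero_homology_of_summand (F' F'' : DerivedCategory C) [HasBinaryBiproduct F' F'']
    (E : CochainComplex C ℤ) (e : Q.obj E ≅ F' ⊞ F'') (i : ℤ) (hi : IsZero (E.X i)) :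
    IsZero ((DerivedCategory.homologyFunctor C i).obj F') ∧
      IsZero ((DerivedCategory.homologyFunctor C i).obj F'') := by
  have hz : IsZero ((DerivedCategory.homologyFunctor C i).obj (F' ⊞ F'')) :=
    IsZero.of_iso (isZero_homology_of_isZero_X E i hi)
      ((DerivedCategory.homologyFunctor C i).mapIso e.symm ≪≫ homologyIso E i)
  constructor
  · rw [IsZero.iff_id_eq_zero]
    have h1 : (DerivedCategory.homologyFunctor C i).map (biprod.inl : F' ⟶ F' ⊞ F'') ≫
        (DerivedCategory.homologyFunctor C i).map biprod.fst = 𝟙 _ := by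
      rw [← CategoryTheory.Functor.map_comp, biprod.inl_fst, CategoryTheory.Functor.map_id]
    rw [← h1, hz.eq_of_tgt ((DerivedCategory.homologyFunctor C i).map biprod.inl) 0, zero_comp]
  · rw [IsZero.iff_id_eq_zero]
    have h1 : (DerivedCategory.homologyFunctor C i).map (biprod.inr : F'' ⟶ F' ⊞ F'') ≫
        (DerivedCategory.homologyFunctor C i).map biprod.snd = 𝟙 _ := by
      rw [← CategoryTheory.Functor.map_comp, biprod.inr_snd, CategoryTheory.Functor.map_id]
    rw [← h1, hz.eq_of_tgt ((DerivedCategory.homologyFunctor C i).map biprod.inr) 0, zero_comp]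

/-- `Q (E' ⊞ E'') ≅ F' ⊞ F''` -/
lemma nonempty_Q_biprod_iso (E' E'' : CochainComplex C ℤ) (F' F'' : DerivedCategory C)
    [HasBinaryBiproduct F' F''] (e' : Q.obj E' ≅ F') (e'' : Q.obj E'' ≅ F'') :
    Nonempty (Q.obj (E' ⊞ E'') ≅ F' ⊞ F'') := by
  haveI : PreservesBinaryBiproducts (Q : CochainComplex C ℤ ⥤ DerivedCategory C) :=
    preservesBinaryBiproducts_of_preservesBiproducts _
  exact ⟨Q.mapBiprod _ _ ≪≫ biprod.mapIso e' e''⟩

include hsum in
omit [P.ContainsZero] in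
/-- direct sums of complexes of perfect amplitude in `[a, b]` -/
theorem amp_biprod (a b : ℤ) (F' F'' : DerivedCategory C) [HasBinaryBiproduct F' F'']
    (h' : ∃ E : CochainComplex C ℤ, (∀ i : ℤ, P (E.X i)) ∧
      (∀ i : ℤ, i < a ∨ b < i → IsZero (E.X i)) ∧ Nonempty (Q.obj E ≅ F'))
    (h'' : ∃ E : CochainComplex C ℤ, (∀ i : ℤ, P (E.X i)) ∧
      (∀ i : ℤ, i < a ∨ b < i → IsZero (E.X i)) ∧ Nonempty (Q.obj E ≅ F'')) :
    ∃ E : CochainComplex C ℤ, (∀ i : ℤ, P (E.X i)) ∧
      (∀ i : ℤ, i < a ∨ b < i → IsZero (E.X i)) ∧ Nonempty (Q.obj E ≅ (F' ⊞ F'')) := by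
  obtain ⟨E', hP', hv', ⟨e'⟩⟩ := h'
  obtain ⟨E'', hP'', hv'', ⟨e''⟩⟩ := h''
  refine ⟨E' ⊞ E'', fun i => ?_, fun i hi => ?_, nonempty_Q_biprod_iso E' E'' F' F'' e' e''⟩
  · exact P.prop_of_iso (biprodXIso E' E'' i).symm (prop_biprod P hsum _ _ (hP' i) (hP'' i))
  · refine IsZero.of_iso ?_ (biprodXIso E' E'' i)
    rw [biprod_isZero_iff]
    exact ⟨hv' i hi, hv'' i hi⟩

include hsum hlift hst in
/-- direct summands of complexes of perfect amplitude in `[a, b]` -/
theorem amp_summand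
    (hfac : ∀ (E' E'' : C) [HasBinaryBiproduct E' E''], P (E' ⊞ E'') → P E' ∧ P E'')
    (a b : ℤ) (hab : a ≤ b) (F' F'' : DerivedCategory C) [HasBinaryBiproduct F' F'']
    (h : ∃ E : CochainComplex C ℤ, (∀ i : ℤ, P (E.X i)) ∧
      (∀ i : ℤ, i < a ∨ b < i → IsZero (E.X i)) ∧ Nonempty (Q.obj E ≅ (F' ⊞ F''))) :
    (∃ E : CochainComplex C ℤ, (∀ i : ℤ, P (E.X i)) ∧
      (∀ i : ℤ, i < a ∨ b < i → IsZero (E.X i)) ∧ Nonempty (Q.obj E ≅ F')) ∧
    (∃ E : CochainComplex C ℤ, (∀ i : ℤ, P (E.X i)) ∧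
      (∀ i : ℤ, i < a ∨ b < i → IsZero (E.X i)) ∧ Nonempty (Q.obj E ≅ F'')) := by
  obtain ⟨E, hE, hEvan, ⟨e⟩⟩ := h
  have hql := hql_of_hlift P hlift
  have hqs := hqs_of_hst P hst
  have hEall : IsStrictPCAll P E := ⟨⟨b, fun i hi => hEvan i (Or.inr hi)⟩, hE⟩
  have hN : ∀ m : ℤ, IsNPC P m F' ∧ IsNPC P m F'' := fun m =>
    (isNPC_biprod_iff P hsum hqs hql m F' F'').1 ((isNPC_of_strictPCAll P hEall m).of_iso e)
  have hH : ∀ i : ℤ, i < a ∨ b < i →
      IsZero ((DerivedCategory.homologyFunctor C i).obj F') ∧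
      IsZero ((DerivedCategory.homologyFunctor C i).obj F'') := fun i hi =>
    isZero_homology_of_summand F' F'' E e i (hEvan i hi)
  -- resolutions bounded above by `b`
  obtain ⟨L', hL'P, hL'b, ⟨eL'⟩⟩ := exists_strictPCAll_iso_vanishing P hsum hqs hql (b + 1) F'
    (fun k => (hN k).1) (fun i hi => (hH i (Or.inr (by omega))).1)
  obtain ⟨L'', hL''P, hL''b, ⟨eL''⟩⟩ := exists_strictPCAll_iso_vanishing P hsum hqs hql (b + 1) F''
    (fun k => (hN k).2) (fun i hi => (hH i (Or.inr (by omega))).2)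
  have hL'a : ∀ i, i < a → IsZero (L'.homology i) := fun i hi =>
    IsZero.of_iso (hH i (Or.inl hi)).1
      ((homologyIso L' i).symm ≪≫ (DerivedCategory.homologyFunctor C i).mapIso eL')
  have hL''a : ∀ i, i < a → IsZero (L''.homology i) := fun i hi =>
    IsZero.of_iso (hH i (Or.inl hi)).2
      ((homologyIso L'' i).symm ≪≫ (DerivedCategory.homologyFunctor C i).mapIso eL'')
  obtain ⟨E', π', hπ', hE'van, hE'P⟩ := exists_truncGE P a b hab L' hL'P
    (fun i hi => hL'b i (by omega)) hL'a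
  obtain ⟨E'', π'', hπ'', hE''van, hE''P⟩ := exists_truncGE P a b hab L'' hL''P
    (fun i hi => hL''b i (by omega)) hL''a
  haveI := hπ'
  haveI := hπ''
  let e' : Q.obj E' ≅ F' := (asIso (Q.map π')).symm ≪≫ eL'
  let e'' : Q.obj E'' ≅ F'' := (asIso (Q.map π'')).symm ≪≫ eL''
  -- the first term of the sum
  obtain ⟨eG⟩ := nonempty_Q_biprod_iso E' E'' F' F'' e' e''
  have hG : P ((E' ⊞ E'').X a) := by
    refine prop_first_term P hsum hlift hst a b hab (E' ⊞ E'') (fun i hi => ?_) (fun i hi => ?_)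
      ⟨E, hE, hEvan, ⟨e ≪≫ eG.symm⟩⟩
    · refine IsZero.of_iso ?_ (biprodXIso E' E'' i)
      rw [biprod_isZero_iff]
      exact ⟨hE'van i hi, hE''van i hi⟩
    · exact P.prop_of_iso (biprodXIso E' E'' i).symm
        (prop_biprod P hsum _ _ (hE'P i hi) (hE''P i hi))
  obtain ⟨hE'a, hE''a⟩ := hfac (E'.X a) (E''.X a) (P.prop_of_iso (biprodXIso E' E'' a) hG)
  constructor
  · refine ⟨E', fun i => ?_, hE'van, ⟨e'⟩⟩
    rcases lt_trichotomy i a with hi | rfl | hi
    · exact P.prop_of_isZero (hE'van i (Or.inl hi))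
    · exact hE'a
    · exact hE'P i hi
  · refine ⟨E'', fun i => ?_, hE''van, ⟨e''⟩⟩
    rcases lt_trichotomy i a with hi | rfl | hi
    · exact P.prop_of_isZero (hE''van i (Or.inl hi))
    · exact hE''a
    · exact hE''P i hi

end Core

end Groth.Agent.Lib.PCohAmp
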