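import Mathlib
import Groth.Agent.Lib.PCohHom_helper2
import Groth.Agent.S12099

/-!
# `n`-pseudo-coherence when the objects of `C₀` are coherent (SGA 6 I 3.5)
-/

set_option autoImplicit false
universe w v u
open CategoryTheory Limits HomologicalComplex CochainComplex Pretriangulated

namespace Groth.Agent.Lib.PCohCoh
open Groth.Agent.Lib.PCohNQI Groth.Agent.Lib.PCohCyl Groth.Agent.Lib.PCohStab
open Groth.Agent.Lib.PCohRes Groth.Agent.Lib.PCohDer Groth.Agent.Lib.PCohTri PCoh
open Groth.Agent.Lib.PCohSum Groth.Agent.Lib.PCohTerm Groth.Agent.Lib.PCohHom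
open Groth.Agent.PerfectCx ZeroObject DerivedCategory

variable {C : Type u} [Category.{v} C] [Abelian C]

/-- precoherence relative to `P` -/
def Precoh (P : ObjectProperty C) (X : C) : Prop :=
  ∀ (E : C) (u : E ⟶ X), P E → IsOfFiniteType P (kernel u)

lemma Precoh.of_mono {P : ObjectProperty C} {X Y : C} (m : X ⟶ Y) [Mono m] (h : Precoh P Y) :
    Precoh P X := fun E u hE =>
  isOfFiniteType_of_iso P (kernelCompMono u m) (h E (u ≫ m) hE)

lemma Precoh.of_iso {P : ObjectProperty C} {X Y : C} (e : X ≅ Y) (h : Precoh P Y) : Precoh P X :=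
  Precoh.of_mono e.hom h

lemma isOfFiniteType_of_prop (P : ObjectProperty C) {X : C} (h : P X) : IsOfFiniteType P X :=
  ⟨X, 𝟙 X, h, inferInstance⟩

section

variable (P : ObjectProperty C) [P.IsClosedUnderIsomorphisms]
  (hcoh : ∀ (X E : C) (u : E ⟶ X), P X → P E → IsOfFiniteType P (kernel u))

include hcoh

lemma precoh_of_prop {X : C} (h : P X) : Precoh P X := fun E u hE => hcoh X E u h hE

lemma hqs_of_hcoh : IsQuasiStableUnderKernels P := by
  intro K hex _ hP
  have h0 := hex 0
  rw [HomologicalComplex.exactAt_iff' _ 0 0 1 (by simp) (by simp)] at h0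
  have h1 := hex 1
  rw [HomologicalComplex.exactAt_iff' _ 0 1 2 (by simp) (by simp)] at h1
  have hf : (K.sc' 0 0 1).f = 0 := K.shape 0 0 (by simp)
  haveI : Mono (K.d 0 1) := (ShortComplex.exact_iff_mono _ hf).1 h0
  haveI : Mono (K.sc' 0 1 2).f := ‹Mono (K.d 0 1)›
  have hk : IsLimit (KernelFork.ofι (K.d 0 1) (K.d_comp_d 0 1 2)) := h1.fIsKernel
  let e : K.X 0 ≅ kernel (K.d 1 2) := IsLimit.conePointUniqueUpToIso hk (limit.isLimit _)
  exact isOfFiniteType_of_iso P e.symm (hcoh _ _ (K.d 1 2) (hP 2 (by omega)) (hP 1 le_rfl))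

lemma isOfFiniteType_cycles (E : CochainComplex C ℤ) (i : ℤ) (h1 : P (E.X i))
    (h2 : P (E.X (i + 1))) : IsOfFiniteType P (E.cycles i) := by
  let e : E.cycles i ≅ kernel (E.d i (i + 1)) :=
    IsLimit.conePointUniqueUpToIso (E.cyclesIsKernel i (i + 1) (by simp)) (limit.isLimit _)
  exact isOfFiniteType_of_iso P e.symm (hcoh _ _ _ h2 h1)

end

section Homology

variable (P : ObjectProperty C) [P.IsClosedUnderIsomorphisms] [P.ContainsZero]
  (hsum : ∀ X Y : C, P X → P Y → P (X ⨯ Y)) (hql : IsQuasiLiftable P)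
  (hcoh : ∀ (X E : C) (u : E ⟶ X), P X → P E → IsOfFiniteType P (kernel u))

include hsum hql hcoh

lemma precoh_homology (E : CochainComplex C ℤ) (i : ℤ) (h0 : P (E.X (i - 1))) (h1 : P (E.X i)) :
    Precoh P (E.homology i) := by
  have hS : (ShortComplex.mk (E.toCycles (i - 1) i) (E.homologyπ i)
      (E.toCycles_comp_homologyπ (i - 1) i)).Exact :=
    ShortComplex.exact_of_g_is_cokernel _ (E.homologyIsCokernel (i - 1) i (by simp))
  exact Groth.Agent.S12099.result P hsum hql _ hS
    (inferInstanceAs (Epi (E.homologyπ i)))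
    (isOfFiniteType_of_prop P h0)
    (Precoh.of_mono (E.iCycles i) (precoh_of_prop P hcoh h1))

end Homology

variable [HasDerivedCategory.{w} C]

section Core

variable (P : ObjectProperty C) [P.IsClosedUnderIsomorphisms] [P.ContainsZero]
  (hsum : ∀ X Y : C, P X → P Y → P (X ⨯ Y)) (hql : IsQuasiLiftable P)
  (hcoh : ∀ (X E : C) (u : E ⟶ X), P X → P E → IsOfFiniteType P (kernel u))

include hsum hql hcoh

lemma isNPC_single_zero (X : C) (h : IsOfFiniteType P X) :
    IsNPC P 0 ((DerivedCategory.singleFunctor C 0).obj X) := by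
  apply isNPC_of_finiteType P hql 0
  · intro i hi
    exact DerivedCategory.isZero_of_isLE _ 0 i hi
  · exact isOfFiniteType_of_iso P (homologySingleIso X 0).symm h

lemma isNPC_single_prop (X : C) (h : P X) (m : ℤ) :
    IsNPC P m ((DerivedCategory.singleFunctor C 0).obj X) := by
  refine ⟨(HomologicalComplex.single C (ComplexShape.up ℤ) 0).obj X,
    ⟨⟨0, fun i hi => HomologicalComplex.isZero_single_obj_X _ _ _ _ (by omega)⟩, fun i _ => ?_⟩,
    ⟨Iso.refl _⟩⟩
  by_cases hi : i = 0
  · subst hi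
    exact P.prop_of_iso (HomologicalComplex.singleObjXSelf (ComplexShape.up ℤ) 0 X).symm h
  · exact P.prop_of_isZero (HomologicalComplex.isZero_single_obj_X _ _ _ _ hi)

lemma isNPC_single_of_coherent : ∀ (k : ℕ) (X : C), IsOfFiniteType P X → Precoh P X →
    IsNPC P (-(k : ℤ)) ((DerivedCategory.singleFunctor C 0).obj X) := by
  intro k
  induction k with
  | zero =>
    intro X h1 _
    simpa using isNPC_single_zero P hsum hql hcoh X h1
  | succ k ih =>
    intro X h1 h2
    obtain ⟨P₀, π, hP₀, hπ⟩ := h1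
    haveI := hπ
    have hS : (ShortComplex.mk (kernel.ι π) π (kernel.condition π)).ShortExact :=
      { exact := ShortComplex.exact_of_f_is_kernel _ (kernelIsKernel π) }
    have hK1 : IsOfFiniteType P (kernel π) := h2 P₀ π hP₀
    have hK2 : Precoh P (kernel π) := Precoh.of_mono (kernel.ι π) (precoh_of_prop P hcoh hP₀)
    have hK := ih (kernel π) hK1 hK2
    have hn : -((k : ℤ)) = -((k + 1 : ℕ) : ℤ) + 1 := by push_cast; ring
    rw [hn] at hK
    exact isNPC_obj₃ P hsum (hqs_of_hcoh P hcoh) hql hS.singleTriangle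
      hS.singleTriangle_distinguished _ hK (isNPC_single_prop P hsum hql hcoh P₀ hP₀ _)

/-- S5608 -/
theorem isNPC_iff_coherent_homology (n : ℤ) (F : DerivedCategory C) (b : ℤ)
    (hb : ∀ i : ℤ, b < i → IsZero ((DerivedCategory.homologyFunctor C i).obj F)) :
    IsNPC P n F ↔
      (IsOfFiniteType P ((DerivedCategory.homologyFunctor C n).obj F) ∧
        ∀ i : ℤ, n < i → (IsOfFiniteType P ((DerivedCategory.homologyFunctor C i).obj F) ∧
          Precoh P ((DerivedCategory.homologyFunctor C i).obj F))) := by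
  constructor
  · rintro ⟨E, ⟨-, hP⟩, ⟨e⟩⟩
    have eH : ∀ i : ℤ, (DerivedCategory.homologyFunctor C i).obj F ≅ E.homology i := fun i =>
      (DerivedCategory.homologyFunctor C i).mapIso e.symm ≪≫ homologyIso E i
    have hft : ∀ i : ℤ, n ≤ i → IsOfFiniteType P (E.homology i) := fun i hi =>
      isOfFiniteType_of_epi P (E.homologyπ i)
        (isOfFiniteType_cycles P hcoh E i (hP i hi) (hP (i + 1) (by omega)))
    refine ⟨isOfFiniteType_of_iso P (eH n).symm (hft n le_rfl), fun i hi =>
      ⟨isOfFiniteType_of_iso P (eH i).symm (hft i hi.le), ?_⟩⟩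
    exact Precoh.of_iso (eH i)
      (precoh_homology P hsum hql hcoh E i (hP (i - 1) (by omega)) (hP i hi.le))
  · rintro ⟨h1, h2⟩
    apply isNPC_of_homology P hsum (hqs_of_hcoh P hcoh) hql n F b hb
    intro i hi
    rcases hi.lt_or_eq with hi' | hi'
    · obtain ⟨h3, h4⟩ := h2 i hi'
      have := isNPC_single_of_coherent P hsum hql hcoh (i - n).toNat _ h3 h4
      have hn : -(((i - n).toNat : ℕ) : ℤ) = n - i := by omega
      rw [hn] at this
      exact this
    · subst hi'
      have := isNPC_single_zero P hsum hql hcoh _ h1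
      rw [sub_self]
      exact this

end Core

end Groth.Agent.Lib.PCohCoh
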