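import Mathlib
import Groth.Agent.Lib.PCohCoh_helper2

/-!
# An intermediate subcategory `C₀ ⊆ C₁` of pseudo-coherent objects (SGA 6 I 2.7)
-/

set_option autoImplicit false
universe w v u
open CategoryTheory Limits HomologicalComplex CochainComplex Pretriangulated

namespace Groth.Agent.Lib.PCohInter
open Groth.Agent.Lib.PCohNQI Groth.Agent.Lib.PCohCyl Groth.Agent.Lib.PCohStab
open Groth.Agent.Lib.PCohRes Groth.Agent.Lib.PCohDer Groth.Agent.Lib.PCohTri PCoh
open Groth.Agent.Lib.PCohSum Groth.Agent.Lib.PCohTerm Groth.Agent.Lib.PCohHom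
open Groth.Agent.PerfectCx ZeroObject DerivedCategory

variable {C : Type u} [Category.{v} C] [Abelian C]

/-- the short exact sequence `0 ⟶ Z^i ⟶ K^i ⟶ Z^{i+1} ⟶ 0` of a complex exact at `i + 1` -/
lemma shortExact_cycles (K : CochainComplex C ℕ) (i : ℕ) (h : K.ExactAt (i + 1)) :
    (ShortComplex.mk (K.iCycles i) (K.toCycles i (i + 1)) (by
      rw [← cancel_mono (K.iCycles (i + 1)), Category.assoc, HomologicalComplex.toCycles_i,
        HomologicalComplex.iCycles_d, zero_comp])).ShortExact := by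
  have hz : IsZero (K.homology (i + 1)) :=
    (HomologicalComplex.exactAt_iff_isZero_homology _ _).1 h
  haveI : Epi (K.toCycles i (i + 1)) :=
    Preadditive.epi_of_isZero_cokernel' _ (K.homologyIsCokernel i (i + 1) (by simp)) hz
  exact
    { exact := ShortComplex.exact_of_f_is_kernel _
        (isKernelOfComp (K.iCycles (i + 1)) (K.d i (i + 1))
          (K.cyclesIsKernel i (i + 1) (by simp)) _ (K.toCycles_i i (i + 1))) }

variable [HasDerivedCategory.{w} C]

section Core

variable (P : ObjectProperty C) [P.IsClosedUnderIsomorphisms] [P.ContainsZero]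
  (hsum : ∀ X Y : C, P X → P Y → P (X ⨯ Y))
  (hqs : IsQuasiStableUnderKernels P) (hql : IsQuasiLiftable P)
  (P₁ : ObjectProperty C) (hle : ∀ X : C, P X → P₁ X)
  (hpc : ∀ X : C, P₁ X → ∀ m : ℤ, IsNPC P m ((DerivedCategory.singleFunctor C 0).obj X))

include hsum hqs hql hpc

omit hsum hql in
lemma finiteType_of_mem (X : C) (hX : P₁ X) : IsOfFiniteType P X := by
  have h := finiteType_of_isNPC P hqs 0 _
    (fun i hi => DerivedCategory.isZero_of_isLE _ 0 i hi) (hpc X hX 0)
  exact isOfFiniteType_of_iso P (homologySingleIso X 0) h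

include hle

omit hsum in
theorem quasiLiftable : IsQuasiLiftable P₁ := by
  intro E F u hu hF
  haveI := hu
  obtain ⟨P₀, π₀, hP₀, hπ₀⟩ := finiteType_of_mem P hqs P₁ hpc F hF
  haveI := hπ₀
  obtain ⟨P', t, hP', ht⟩ := hql (pullback u π₀) P₀ (pullback.snd _ _) inferInstance hP₀
  haveI := ht
  refine ⟨P', t ≫ pullback.fst _ _, hle _ hP', ?_⟩
  have e : (t ≫ pullback.fst u π₀) ≫ u = (t ≫ pullback.snd u π₀) ≫ π₀ := by
    simp only [Category.assoc, pullback.condition]
  rw [e]
  infer_instance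

theorem quasiStable : IsQuasiStableUnderKernels P₁ := by
  intro K hex hbd hP
  obtain ⟨N, hN⟩ := hbd
  have key : ∀ (k : ℕ) (i : ℕ), i + k = N + 1 → 1 ≤ i →
      ∀ m : ℤ, IsNPC P m ((DerivedCategory.singleFunctor C 0).obj (K.cycles i)) := by
    intro k
    induction k with
    | zero =>
      intro i hi _ m
      have hz : IsZero (K.cycles i) := IsZero.of_mono (K.iCycles i) (hN i (by omega))
      exact isNPC_of_isZero P m ((DerivedCategory.singleFunctor C 0).map_isZero hz)
    | succ k ih =>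
      intro i hi h1 m
      have hS := shortExact_cycles K i (hex (i + 1))
      have h₂ := hpc (K.X i) (hP i h1) (m - 1 + 1)
      have h₃ := ih (i + 1) (by omega) (by omega) (m - 1)
      have := isNPC_obj₁ P hsum hqs hql hS.singleTriangle hS.singleTriangle_distinguished
        (m - 1) h₂ h₃
      have hm : m - 1 + 1 = m := by ring
      rw [hm] at this
      exact this
  -- `K.X 0 ≅ K.cycles 1`
  have h0 := hex 0
  rw [HomologicalComplex.exactAt_iff' _ 0 0 1 (by simp) (by simp)] at h0
  have hf : (K.sc' 0 0 1).f = 0 := K.shape 0 0 (by simp)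
  haveI : Mono (K.d 0 1) := (ShortComplex.exact_iff_mono _ hf).1 h0
  haveI : Mono (K.toCycles 0 1) := mono_of_mono_fac (K.toCycles_i 0 1)
  haveI : Epi (K.toCycles 0 1) := (shortExact_cycles K 0 (hex 1)).epi_g
  haveI : IsIso (K.toCycles 0 1) := isIso_of_mono_of_epi _
  have hpc0 : IsNPC P 0 ((DerivedCategory.singleFunctor C 0).obj (K.X 0)) :=
    IsNPC.of_iso ((DerivedCategory.singleFunctor C 0).mapIso (asIso (K.toCycles 0 1)).symm)
      (key N 1 (by omega) le_rfl 0)
  have hft : IsOfFiniteType P (K.X 0) :=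
    isOfFiniteType_of_iso P (homologySingleIso (K.X 0) 0)
      (finiteType_of_isNPC P hqs 0 _
        (fun i hi => DerivedCategory.isZero_of_isLE _ 0 i hi) hpc0)
  obtain ⟨Q₀, π, hQ₀, hπ⟩ := hft
  exact ⟨Q₀, π, hle _ hQ₀, hπ⟩

end Core

end Groth.Agent.Lib.PCohInter
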