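import Mathlib
import Groth.Agent.Lib.PCohInter_helper2

/-!
# Pseudo-coherence and triangulated functors (SGA 6 I 2.9 / 4.?)
-/

set_option autoImplicit false
universe w w' v v' u u'
open CategoryTheory Limits HomologicalComplex CochainComplex Pretriangulated

namespace Groth.Agent.Lib.PCohFun
open Groth.Agent.Lib.PCohNQI Groth.Agent.Lib.PCohCyl Groth.Agent.Lib.PCohStab
open Groth.Agent.Lib.PCohRes Groth.Agent.Lib.PCohDer Groth.Agent.Lib.PCohTri PCoh
open Groth.Agent.Lib.PCohSum Groth.Agent.Lib.PCohTerm Groth.Agent.Lib.PCohHom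
open Groth.Agent.PerfectCx ZeroObject DerivedCategory

variable {C : Type u} [Category.{v} C] [Abelian C]

/-- peeling off the top term of a bounded above complex -/
lemma exists_peel (E : CochainComplex C ℤ) (c : ℤ) (hc : ∀ i : ℤ, c < i → IsZero (E.X i)) :
    ∃ (E' : CochainComplex C ℤ)
      (ι : (HomologicalComplex.single C (ComplexShape.up ℤ) c).obj (E.X c) ⟶ E) (π : E ⟶ E')
      (w : ι ≫ π = 0), (ShortComplex.mk ι π w).ShortExact ∧ IsZero (E'.X c) ∧
        ∀ i : ℤ, i ≠ c → IsIso (π.f i) := by
  let ι : (HomologicalComplex.single C (ComplexShape.up ℤ) c).obj (E.X c) ⟶ E :=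
    HomologicalComplex.mkHomFromSingle (𝟙 (E.X c)) (fun j hj => by
      have : c + 1 = j := hj
      exact (hc j (by omega)).eq_of_tgt _ _)
  haveI : Mono ι := by
    apply HomologicalComplex.mono_of_mono_f
    intro i
    by_cases hi : i = c
    · subst hi
      have : ι.f i = (HomologicalComplex.singleObjXSelf (ComplexShape.up ℤ) i (E.X i)).hom ≫
          𝟙 (E.X i) := HomologicalComplex.mkHomFromSingle_f _ _
      rw [this]
      infer_instance
    · exact (HomologicalComplex.isZero_single_obj_X (ComplexShape.up ℤ) c (E.X c) i hi).mono _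
  have hS : (ShortComplex.mk ι (cokernel.π ι) (cokernel.condition ι)).ShortExact :=
    { exact := ShortComplex.exact_of_g_is_cokernel _ (cokernelIsCokernel ι) }
  have hdeg := fun i => degreewise ι (cokernel.π ι) (cokernel.condition ι) hS i
  refine ⟨cokernel ι, ι, cokernel.π ι, cokernel.condition ι, hS, ?_, ?_⟩
  · have h1 := hdeg c
    haveI : IsIso (ι.f c) := by
      have : ι.f c = (HomologicalComplex.singleObjXSelf (ComplexShape.up ℤ) c (E.X c)).hom ≫
          𝟙 (E.X c) := HomologicalComplex.mkHomFromSingle_f _ _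
      rw [this]
      infer_instance
    have h2 : (cokernel.π ι).f c = 0 := (h1.exact.epi_f_iff).1 inferInstance
    haveI := h1.epi_g
    exact IsZero.of_epi_eq_zero _ h2
  · intro i hi
    have h1 := hdeg i
    haveI := h1.epi_g
    haveI : Mono ((cokernel.π ι).f i) :=
      h1.exact.mono_g ((HomologicalComplex.isZero_single_obj_X (ComplexShape.up ℤ) c (E.X c) i
        hi).eq_of_src _ _)
    exact isIso_of_mono_of_epi _

variable [HasDerivedCategory.{w} C]
  {C' : Type u'} [Category.{v'} C'] [Abelian C'] [HasDerivedCategory.{w'} C']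

section IsLE

variable (F : DerivedCategory C ⥤ DerivedCategory C') [F.CommShift ℤ] (b : ℤ)
  (hii : ∀ G : DerivedCategory C, G.IsLE 0 → (F.obj G).IsLE b)

include hii

lemma isLE_map (G : DerivedCategory C) (c : ℤ) (hG : G.IsLE c) : (F.obj G).IsLE (c + b) := by
  have h1 : (G⟦c⟧).IsLE 0 :=
    ((DerivedCategory.TStructure.t).isLE_shift_iff G c c 0 (by omega)).2 hG
  have h2 : (F.obj (G⟦c⟧)).IsLE b := hii _ h1
  haveI : (DerivedCategory.TStructure.t).IsLE
      ((CategoryTheory.shiftFunctor (DerivedCategory C) c ⋙ F).obj G) b := h2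
  have h3 : ((F.obj G)⟦c⟧).IsLE b :=
    (DerivedCategory.TStructure.t).isLE_of_iso ((F.commShiftIso c).app G) b
  exact ((DerivedCategory.TStructure.t).isLE_shift_iff (F.obj G) (c + b) c b (by omega)).1 h3

end IsLE

section Core

variable (P : ObjectProperty C) [P.IsClosedUnderIsomorphisms] [P.ContainsZero]
  (P' : ObjectProperty C') [P'.IsClosedUnderIsomorphisms] [P'.ContainsZero]
  (hsum' : ∀ X Y : C', P' X → P' Y → P' (X ⨯ Y))
  (hqs' : IsQuasiStableUnderKernels P') (hql' : IsQuasiLiftable P')
  (F : DerivedCategory C ⥤ DerivedCategory C') [F.CommShift ℤ] [F.IsTriangulated] (a b : ℤ)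
  (hi : ∀ E : C, P E → IsNPC P' a (F.obj ((DerivedCategory.singleFunctor C 0).obj E)))
  (hii : ∀ G : DerivedCategory C, G.IsLE 0 → (F.obj G).IsLE b)

include hql' in
omit [P'.IsClosedUnderIsomorphisms] in
lemma isNPC_of_isLE [P'.IsClosedUnderIsomorphisms] (N : ℤ) (G : DerivedCategory C')
    (hG : G.IsLE (N - 1)) : IsNPC P' N G :=
  isNPC_of_finiteType P' hql' N G
    (fun i hi => DerivedCategory.isZero_of_isLE G (N - 1) i (by omega))
    (isOfFiniteType_of_isZero P' (DerivedCategory.isZero_of_isLE G (N - 1) N (by omega)))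

include hsum' hqs' hql' hi in
lemma isNPC_map_single (E : C) (hE : P E) (c : ℤ) :
    IsNPC P' (a + c)
      (F.obj (Q.obj ((HomologicalComplex.single C (ComplexShape.up ℤ) c).obj E))) := by
  have h1 := Groth.Agent.S5601.result P' hsum' hqs' hql' a _ (hi E hE) (-c)
  have hn : a - (-c) = a + c := by ring
  rw [hn] at h1
  exact IsNPC.of_iso (((F.commShiftIso (-c)).app _).symm ≪≫ F.mapIso (singleShiftIso E c)) h1

include hsum' hqs' hql' hi hii in
theorem isNPC_map_aux (m n : ℤ) : ∀ (k : ℕ) (E : CochainComplex C ℤ) (c : ℤ),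
    c + 1 - m ≤ k → c ≤ n → (∀ i : ℤ, c < i → IsZero (E.X i)) → (∀ i : ℤ, m ≤ i → P (E.X i)) →
    IsNPC P' (max (m + b) (n + a)) (F.obj (Q.obj E)) := by
  have small : ∀ (E : CochainComplex C ℤ) (c : ℤ), c < m → (∀ i : ℤ, c < i → IsZero (E.X i)) →
      IsNPC P' (max (m + b) (n + a)) (F.obj (Q.obj E)) := by
    intro E c hcm hc
    have h1 : (Q.obj E).IsLE (m - 1) := by
      rw [DerivedCategory.isLE_iff]
      intro i hi
      exact IsZero.of_iso (isZero_homology_of_isZero_X E i (hc i (by omega))) (homologyIso E i)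
    have h2 : (F.obj (Q.obj E)).IsLE (m - 1 + b) := isLE_map F b hii _ _ h1
    apply isNPC_of_isLE P' hql'
    exact (DerivedCategory.TStructure.t).isLE_of_le _ (m - 1 + b) _ (by omega)
  intro k
  induction k with
  | zero =>
    intro E c hk _ hc _
    exact small E c (by omega) hc
  | succ k ih =>
    intro E c hk hcn hc hP
    by_cases hcm : c < m
    · exact small E c hcm hc
    · obtain ⟨E', ι, π, w, hS, hz, hiso⟩ := exists_peel E c hc
      have h₁ : IsNPC P' (max (m + b) (n + a))
          (F.obj (Q.obj ((HomologicalComplex.single C (ComplexShape.up ℤ) c).obj (E.X c)))) :=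
        (isNPC_map_single P P' hsum' hqs' hql' F a hi (E.X c) (hP c (by omega)) c).mono
          (by omega)
      have h₃ : IsNPC P' (max (m + b) (n + a)) (F.obj (Q.obj E')) := by
        apply ih E' (c - 1) (by push_cast at hk; omega) (by omega)
        · intro i hi
          by_cases hic : i = c
          · subst hic
            exact hz
          · haveI := hiso i hic
            exact IsZero.of_iso (hc i (by omega)) (asIso (π.f i)).symm
        · intro i hi
          by_cases hic : i = c
          · subst hic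
            exact P.prop_of_isZero hz
          · haveI := hiso i hic
            exact P.prop_of_iso (asIso (π.f i)) (hP i hi)
      exact isNPC_obj₂ P' hsum' hqs' hql' (F.mapTriangle.obj (triangleOfSES hS))
        (F.map_distinguished _ (triangleOfSES_distinguished hS)) _ h₁ h₃

end Core

section Main

variable (P : ObjectProperty C) [P.IsClosedUnderIsomorphisms] [P.ContainsZero]
  (hsum : ∀ X Y : C, P X → P Y → P (X ⨯ Y))
  (hqs : IsQuasiStableUnderKernels P) (hql : IsQuasiLiftable P)
  (P' : ObjectProperty C') [P'.IsClosedUnderIsomorphisms] [P'.ContainsZero]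
  (hsum' : ∀ X Y : C', P' X → P' Y → P' (X ⨯ Y))
  (hqs' : IsQuasiStableUnderKernels P') (hql' : IsQuasiLiftable P')
  (F : DerivedCategory C ⥤ DerivedCategory C') [F.CommShift ℤ] [F.IsTriangulated] (a b : ℤ)
  (hi : ∀ E : C, P E → IsNPC P' a (F.obj ((DerivedCategory.singleFunctor C 0).obj E)))
  (hii : ∀ G : DerivedCategory C, G.IsLE 0 → (F.obj G).IsLE b)

include hsum hqs hql hsum' hqs' hql' hi hii in
/-- S5620 -/
theorem isNPC_map (m n : ℤ) (G : DerivedCategory C) (hG : IsNPC P m G) (hac : G.IsLE n) :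
    IsNPC P' (max (m + b) (n + a)) (F.obj G) ∧ (F.obj G).IsLE (n + b) := by
  refine ⟨?_, isLE_map F b hii G n hac⟩
  by_cases hmn : m ≤ n
  · obtain ⟨E, ⟨-, hP⟩, hz, ⟨e⟩⟩ := exists_strictPC_vanishing P hsum hqs hql m (n + 1)
      (by omega) G hG (fun i hi => DerivedCategory.isZero_of_isLE G n i (by omega))
    exact IsNPC.of_iso (F.mapIso e)
      (isNPC_map_aux P P' hsum' hqs' hql' F a b hi hii m n (n + 1 - m).toNat E n (by omega)
        le_rfl (fun i hi => hz i (by omega)) hP)
  · apply isNPC_of_isLE P' hql'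
    have h := isLE_map F b hii G n hac
    exact (DerivedCategory.TStructure.t).isLE_of_le _ (n + b) _ (by omega)

end Main

end Groth.Agent.Lib.PCohFun
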