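import Mathlib
import Groth.Prelude
import Groth.Agent.Lib.PCohStalk1_lead

/-!
# Spreading out an isomorphism of stalks of pseudo-coherent complexes, II (lead)

If the cohomology sheaves of a pseudo-coherent, cohomologically bounded above object vanish at
a point in degrees `≥ m`, then they vanish on a neighbourhood of that point in degrees `≥ m`.
APPEND-ONLY once landed.
-/

set_option autoImplicit false
set_option linter.all false
set_option maxHeartbeats 1600000
set_option backward.isDefEq.respectTransparency false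
set_option backward.isDefEq.respectTransparency.types false
set_option backward.defeqAttrib.useBackward true

universe u

open CategoryTheory CategoryTheory.Limits AlgebraicGeometry TopologicalSpace Opposite
open CategoryTheory.Pretriangulated

attribute [local instance] HasDerivedCategory.standard

namespace Groth.Agent.Lib.DCohLocLead

open DerSch Groth.Agent.Lib.TorAmpIdL

noncomputable section

open DerivedCategory

section Vanish

variable {Z : Scheme.{u}}

theorem subsingleton_stalk_of_iso {M N : Z.Modules} (e : M ≅ N) (w : Z)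
    (h : Subsingleton (M.presheaf.stalk w)) : Subsingleton (N.presheaf.stalk w) := by
  haveI h1 : Subsingleton ((stalkFunctor Z w).obj M) := h
  have h2 : Subsingleton ((stalkFunctor Z w).obj N) :=
    (((stalkFunctor Z w).mapIso e).toLinearEquiv.symm.toEquiv).subsingleton
  exact h2

theorem isZero_restrict_of_stalks (M : Z.Modules) (W : Z.Opens)
    (h : ∀ w ∈ W, Subsingleton (M.presheaf.stalk w)) :
    IsZero ((Scheme.Modules.restrictFunctor W.ι).obj M) := by
  apply CohDevH8.isZero_of_support_eq_empty
  ext w'
  simp only [Set.mem_empty_iff_false, iff_false]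
  intro hw'
  apply hw'
  haveI : Subsingleton (M.presheaf.stalk (W.ι.base w')) := h (W.ι.base w') w'.2
  exact (RestrStalkH8.restrictStalkEquiv W.ι M w').toEquiv.subsingleton

theorem subsingleton_stalk_HD_of_Lt (K : DCoh.D Z) (z : Z) (m : ℤ)
    (h : Lt m ((stalkFunctor Z z).mapDerivedCategory.obj K)) (i : ℤ) (hi : m ≤ i) :
    Subsingleton ((DCoh.HD K i).presheaf.stalk z) := by
  obtain ⟨e⟩ := nonempty_homology_mapExact_iso (stalkFunctor Z z) K i
  have h1 : IsZero ((stalkFunctor Z z).obj (DCoh.HD K i)) := (h i hi).of_iso e.symm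
  exact ModuleCat.subsingleton_of_isZero h1

theorem Lt_DD_of_stalks (K : DCoh.D Z) (W : Z.Opens) (m : ℤ)
    (h : ∀ i, m ≤ i → ∀ w ∈ W, Subsingleton ((DCoh.HD K i).presheaf.stalk w)) :
    Lt m ((DD W.ι).obj K) := by
  intro i hi
  obtain ⟨e⟩ := nonempty_HD_restrict_iso W.ι K i
  exact IsZero.of_iso (isZero_restrict_of_stalks (DCoh.HD K i) W (h i hi)) e

/-- Cohomology sheaves of a pseudo-coherent, bounded above object which vanish at a point in
degrees `≥ m` vanish near that point in degrees `≥ m`. -/
theorem exists_nhd_stalk_zero (K : DCoh.D Z)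
    (hpc : ∀ n : ℤ, DCoh.IsPseudoCoherentD n K) (N : ℤ) (hN : Lt N K) (m : ℤ) (z : Z)
    (hz : ∀ i, m ≤ i → Subsingleton ((DCoh.HD K i).presheaf.stalk z)) :
    ∃ W : Z.Opens, z ∈ W ∧
      ∀ i, m ≤ i → ∀ w ∈ W, Subsingleton ((DCoh.HD K i).presheaf.stalk w) := by
  have key : ∀ k : ℕ, ∃ W : Z.Opens, z ∈ W ∧
      ∀ i, m ≤ i → N - (k : ℤ) ≤ i → ∀ w ∈ W,
        Subsingleton ((DCoh.HD K i).presheaf.stalk w) := by
    intro k
    induction k with
    | zero =>
      refine ⟨⊤, trivial, fun i _ hi w _ => ?_⟩
      exact CycLenH8.subsingleton_stalk_of_isZero (hN i (by simpa using hi)) w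
    | succ k ih =>
      obtain ⟨W, hzW, hW⟩ := ih
      by_cases hmn : m ≤ N - ((k : ℤ) + 1)
      · obtain ⟨n, hn⟩ : ∃ n : ℤ, n = N - ((k : ℤ) + 1) := ⟨_, rfl⟩
        have hmn' : m ≤ n := by omega
        let K' : DCoh.D (W : Scheme.{u}) := (DD W.ι).obj K
        have e : ∀ i, Nonempty (DCoh.HD K' i ≅
            (Scheme.Modules.restrictFunctor W.ι).obj (DCoh.HD K i)) :=
          fun i => nonempty_HD_restrict_iso W.ι K i
        have hzero : ∀ i, n < i → IsZero (DCoh.HD K' i) := by
          intro i hi
          obtain ⟨ei⟩ := e i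
          exact IsZero.of_iso (isZero_restrict_of_stalks (DCoh.HD K i) W
            (fun w hw => hW i (by omega) (by omega) w hw)) ei
        have hpc' : ∀ n' : ℤ, DCoh.IsPseudoCoherentD n' K' :=
          fun n' => isPC_restrict (hpc n') W.ι
        have hFT : CohB1.IsFT (DCoh.HD K' n) := (main890 n K' (hpc' n)).1 hzero
        haveI hQC : (DCoh.HD K' n).IsQuasicoherent :=
          (main7240 (n - 1) K' (hpc' (n - 1))).1 n (by omega)
        haveI : SheafOfModules.IsFiniteType (R := (W : Scheme.{u}).ringCatSheaf)
          (DCoh.HD K' n) := hFT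
        have hcl : IsClosed (CohB1.support (DCoh.HD K' n)) :=
          SupportCoh.isClosed_support (DCoh.HD K' n)
        let z' : (W : Scheme.{u}) := (⟨z, hzW⟩ : W)
        have hz'S : Subsingleton ((DCoh.HD K' n).presheaf.stalk z') := by
          obtain ⟨en⟩ := e n
          haveI : Subsingleton ((DCoh.HD K n).presheaf.stalk (W.ι.base z')) := hz n hmn'
          have h1 : Subsingleton
              (((Scheme.Modules.restrictFunctor W.ι).obj (DCoh.HD K n)).presheaf.stalk z') :=
            (RestrStalkH8.restrictStalkEquiv W.ι (DCoh.HD K n) z').toEquiv.subsingleton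
          exact subsingleton_stalk_of_iso en.symm z' h1
        have hz' : z' ∈ (CohB1.support (DCoh.HD K' n))ᶜ := fun hc => hc hz'S
        let O' : (W : Scheme.{u}).Opens :=
          ⟨(CohB1.support (DCoh.HD K' n))ᶜ, hcl.isOpen_compl⟩
        refine ⟨W.ι ''ᵁ O', ⟨z', hz', rfl⟩, fun i hmi hi w hw => ?_⟩
        obtain ⟨w', hw', rfl⟩ := hw
        rcases (show n < i ∨ i = n by omega) with h | h
        · exact hW i hmi (by omega) _ w'.2
        · obtain ⟨en⟩ := e n
          have h1 : Subsingleton ((DCoh.HD K' n).presheaf.stalk w') := by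
            by_contra hc
            exact hw' hc
          have h2 : Subsingleton
              (((Scheme.Modules.restrictFunctor W.ι).obj (DCoh.HD K n)).presheaf.stalk w') :=
            subsingleton_stalk_of_iso en w' h1
          rw [h]
          haveI := h2
          exact (RestrStalkH8.restrictStalkEquiv W.ι (DCoh.HD K n) w').symm.toEquiv.subsingleton
      · exact ⟨W, hzW, fun i hmi hi w hw => hW i hmi (by omega) w hw⟩
  obtain ⟨k, hk⟩ : ∃ k : ℕ, N - (k : ℤ) ≤ m :=
    ⟨(N - m).toNat, by have := Int.self_le_toNat (N - m); omega⟩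
  obtain ⟨W, hzW, hW⟩ := key k
  exact ⟨W, hzW, fun i hi w hw => hW i hi (by omega) w hw⟩

end Vanish

end

end Groth.Agent.Lib.DCohLocLead
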