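import Mathlib
import Groth.Prelude
import Groth.Agent.Lib.PCohStalk1_lead
import Groth.Agent.Lib.RefHull2_helper8

/-!
# Spreading out an isomorphism of stalks of pseudo-coherent complexes, III (lead)

A morphism from the complex of stalks of a bounded complex of finite free modules to the complex
of stalks of an arbitrary complex spreads out to a morphism of complexes over a neighbourhood.
APPEND-ONLY once landed.
-/

set_option autoImplicit false
set_option linter.all false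
set_option maxHeartbeats 1600000
set_option backward.isDefEq.respectTransparency false
set_option backward.isDefEq.respectTransparency.types false
set_option backward.defeqAttrib.useBackward true

universe u

open CategoryTheory CategoryTheory.Limits AlgebraicGeometry TopologicalSpace Opposite
open CategoryTheory.Pretriangulated

attribute [local instance] HasDerivedCategory.standard

namespace Groth.Agent.Lib.DCohLocLead

open DerSch Groth.Agent.Lib.TorAmpIdL
open FLFH8 SDivGenH8 SDivFreeH8 QcqsLoc QCohExtn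

noncomputable section

open DerivedCategory

/-! ### Finite families of germs of sections of modules -/

section Germs2

variable {Y : Scheme.{u}}

theorem exists_sections_of_germs_mod (y : Y) {ι : Type*} [Finite ι] (G : ι → Y.Modules)
    (c : ∀ j, (G j).presheaf.stalk y) :
    ∃ (V : Y.Opens) (hy : y ∈ V) (s : ∀ j, Γ(G j, V)),
      ∀ j, (G j).presheaf.germ V y hy (s j) = c j := by
  choose V0 hy0 s0 hs0 using
    fun j => TopCat.Presheaf.exists_germ_eq (F := (G j).presheaf) (c j)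
  obtain ⟨W, hyW, hW⟩ := exists_common_open y V0 hy0
  exact ⟨W, hyW, fun j => rF (G j) (hW j) (s0 j), fun j => by rw [SecOrdH8.germ_rF, hs0]⟩

theorem exists_common_eq (y : Y) {ι : Type*} [Finite ι] (G : ι → Y.Modules) (V : Y.Opens)
    (hy : y ∈ V) (u v : ∀ j, Γ(G j, V))
    (h : ∀ j, (G j).presheaf.germ V y hy (u j) = (G j).presheaf.germ V y hy (v j)) :
    ∃ (W : Y.Opens) (hW : W ≤ V), y ∈ W ∧ ∀ j, rF (G j) hW (u j) = rF (G j) hW (v j) := by
  have h1 : ∀ j, ∃ (W : Y.Opens) (hW : W ≤ V), y ∈ W ∧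
      rF (G j) hW (u j) = rF (G j) hW (v j) := by
    intro j
    obtain ⟨W, hyW, iU, iV, hW⟩ :=
      TopCat.Presheaf.germ_eq (G j).presheaf y hy hy (u j) (v j) (h j)
    refine ⟨W, iU.le, hyW, ?_⟩
    rw [show iU = homOfLE iU.le from Subsingleton.elim _ _,
      show iV = homOfLE iU.le from Subsingleton.elim _ _] at hW
    exact hW
  choose W0 hW0 hy0 h0 using h1
  obtain ⟨W, hyW, hW⟩ := exists_common_open y W0 hy0
  refine ⟨W ⊓ V, inf_le_right, ⟨hyW, hy⟩, fun j => ?_⟩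
  have hle : W ⊓ V ≤ W0 j := inf_le_left.trans (hW j)
  have h2 := rF_rF (G j) hle (hW0 j) (u j)
  have h3 := rF_rF (G j) hle (hW0 j) (v j)
  rw [← h2, ← h3, h0 j]

end Germs2

/-! ### A complex of free modules and the coefficients of its differential -/

section FreeCx2

variable {Y : Scheme.{u}} (n : ℤ → ℕ)
  (D : ∀ i, FlatMod.freeMod Y (n i) ⟶ FlatMod.freeMod Y (n (i + 1)))
  (hD : ∀ i, D i ≫ D (i + 1) = 0)

/-- the complex of free modules with differentials `D` -/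
abbrev fCx : CochainComplex Y.Modules ℤ :=
  CochainComplex.of (fun i => FlatMod.freeMod Y (n i)) D hD

theorem fCx_d (i : ℤ) : (fCx n D hD).d i (i + 1) = D i :=
  CochainComplex.of_d (fun i => FlatMod.freeMod Y (n i)) D i

/-- the coefficients of the differential -/
def cf (i : ℤ) (k : Fin (n i)) (l : Fin (n (i + 1))) : Γ(Y, ⊤) :=
  ofM ((projM l).app ⊤ (ap (D i) ⊤ (stdSec (n i) ⊤ k)))

theorem D_stdSec (i : ℤ) (k : Fin (n i)) :
    ap (D i) ⊤ (stdSec (n i) ⊤ k) = ∑ l, cf n D i k l • stdSec (n (i + 1)) ⊤ l :=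
  section_eq_sum_stdSec (n (i + 1)) ⊤ _

theorem stalk_D_gS (y : Y) (i : ℤ) (k : Fin (n i)) :
    (stalkFunctor Y y).map (D i) (gS (n i) y k) =
      ∑ l, Y.presheaf.germ ⊤ y trivial (cf n D i k l) • gS (n (i + 1)) y l := by
  have h1 : (stalkFunctor Y y).map (D i) (gS (n i) y k) =
      (FlatMod.freeMod Y (n (i + 1))).presheaf.germ ⊤ y trivial
        (ap (D i) ⊤ (stdSec (n i) ⊤ k)) :=
    DerSch.stalkFunctor_map_germ y (D i) ⊤ trivial (stdSec (n i) ⊤ k)
  rw [h1, D_stdSec]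
  exact germ_sum_stdSec (n (i + 1)) y ⊤ trivial (fun l => cf n D i k l)

end FreeCx2

/-! ### Direct image of the restriction to an open subscheme -/

section PB

variable {Y : Scheme.{u}} (W : Y.Opens)

/-- `j_* j^*` for the inclusion of an open subscheme -/
abbrev PBo (G : Y.Modules) : Y.Modules :=
  (Scheme.Modules.pushforward W.ι).obj ((Scheme.Modules.restrictFunctor W.ι).obj G)

/-- `j_* j^*` on morphisms -/
abbrev PBm {G H : Y.Modules} (φ : G ⟶ H) : PBo W G ⟶ PBo W H :=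
  (Scheme.Modules.pushforward W.ι).map ((Scheme.Modules.restrictFunctor W.ι).map φ)

/-- the open set over which the global sections of `j_* j^* G` live -/
abbrev Wt : Y.Opens := W.ι ''ᵁ (W.ι ⁻¹ᵁ ⊤)

theorem Wt_le : Wt W ≤ W := W.ι_image_le _

/-- a global section of `j_* j^* G` as a section of `G` -/
def ofPB (G : Y.Modules) : Γ(PBo W G, ⊤) →+ Γ(G, Wt W) := AddMonoidHom.id _

/-- a section of `G` as a global section of `j_* j^* G` -/
def toPB (G : Y.Modules) : Γ(G, Wt W) →+ Γ(PBo W G, ⊤) := AddMonoidHom.id _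

theorem ofPB_toPB (G : Y.Modules) (t : Γ(G, Wt W)) : ofPB W G (toPB W G t) = t := rfl

theorem PB_smul (G : Y.Modules) (r : Γ(Y, ⊤)) (t : Γ(PBo W G, ⊤)) :
    ofPB W G (r • t) = rX (le_top : Wt W ≤ ⊤) r • ofPB W G t := by
  have h1 := QCohCrit.push_smul W.ι ((Scheme.Modules.restrictFunctor W.ι).obj G) ⊤ r t
  have h2 := RefHullH8.restrict_smul_eq G W (W.ι ⁻¹ᵁ ⊤) ((W.ι.app ⊤).hom r) t
  exact h1.trans h2

theorem PBm_app_top {G H : Y.Modules} (φ : G ⟶ H) (t : Γ(PBo W G, ⊤)) :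
    ofPB W H (ap (PBm W φ) ⊤ t) = ap φ (Wt W) (ofPB W G t) := rfl

end PB

/-! ### The spread out morphism -/

section Spread

variable {Y : Scheme.{u}} (n : ℤ → ℕ)
  (D : ∀ i, FlatMod.freeMod Y (n i) ⟶ FlatMod.freeMod Y (n (i + 1)))
  (hD : ∀ i, D i ≫ D (i + 1) = 0)
  (W : Y.Opens) (B : CochainComplex Y.Modules ℤ) {V : Y.Opens} (hWV : W ≤ V)
  (s : ∀ i, Fin (n i) → Γ(B.X i, V))

/-- the morphism `O_Y^{n i} ⟶ j_* j^* B^i` given by the sections `s` -/
def gMap (i : ℤ) : FlatMod.freeMod Y (n i) ⟶ PBo W (B.X i) :=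
  freeHom (PBo W (B.X i))
    (fun k => toPB W (B.X i) (rF (B.X i) ((Wt_le W).trans hWV) (s i k)))

theorem gMap_stdSec (i : ℤ) (k : Fin (n i)) :
    ap (gMap n W B hWV s i) ⊤ (stdSec (n i) ⊤ k) =
      toPB W (B.X i) (rF (B.X i) ((Wt_le W).trans hWV) (s i k)) :=
  freeHom_app_top _ k

theorem gMap_comm
    (hs : ∀ i (k : Fin (n i)),
      rF (B.X (i + 1)) hWV (ap (B.d i (i + 1)) V (s i k)) =
      rF (B.X (i + 1)) hWV (∑ l, rX (le_top : V ≤ ⊤) (cf n D i k l) • s (i + 1) l))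
    (i : ℤ) :
    gMap n W B hWV s i ≫ PBm W (B.d i (i + 1)) = D i ≫ gMap n W B hWV s (i + 1) := by
  apply free_hom_ext
  intro k
  have hle : Wt W ≤ V := (Wt_le W).trans hWV
  have hL : ofPB W (B.X (i + 1))
      (ap (gMap n W B hWV s i ≫ PBm W (B.d i (i + 1))) ⊤ (stdSec (n i) ⊤ k)) =
      rF (B.X (i + 1)) hle (ap (B.d i (i + 1)) V (s i k)) := by
    have h1 : ap (gMap n W B hWV s i ≫ PBm W (B.d i (i + 1))) ⊤ (stdSec (n i) ⊤ k) =
        ap (PBm W (B.d i (i + 1))) ⊤ (ap (gMap n W B hWV s i) ⊤ (stdSec (n i) ⊤ k)) := rfl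
    rw [h1, gMap_stdSec, PBm_app_top, ofPB_toPB]
    exact ap_rF (B.d i (i + 1)) hle (s i k)
  have hR : ofPB W (B.X (i + 1))
      (ap (D i ≫ gMap n W B hWV s (i + 1)) ⊤ (stdSec (n i) ⊤ k)) =
      rF (B.X (i + 1)) hle (∑ l, rX (le_top : V ≤ ⊤) (cf n D i k l) • s (i + 1) l) := by
    have h1 : ap (D i ≫ gMap n W B hWV s (i + 1)) ⊤ (stdSec (n i) ⊤ k) =
        ap (gMap n W B hWV s (i + 1)) ⊤ (ap (D i) ⊤ (stdSec (n i) ⊤ k)) := rfl
    rw [h1, D_stdSec, map_sum, map_sum, map_sum]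
    refine Finset.sum_congr rfl (fun l _ => ?_)
    rw [ap_smul, gMap_stdSec, PB_smul, ofPB_toPB, rF_smul, rX_rX]
  have e1 := rF_rF (B.X (i + 1)) (Wt_le W) hWV (ap (B.d i (i + 1)) V (s i k))
  have e2 := rF_rF (B.X (i + 1)) (Wt_le W) hWV
    (∑ l, rX (le_top : V ≤ ⊤) (cf n D i k l) • s (i + 1) l)
  have hfin : ofPB W (B.X (i + 1))
      (ap (gMap n W B hWV s i ≫ PBm W (B.d i (i + 1))) ⊤ (stdSec (n i) ⊤ k)) =
      ofPB W (B.X (i + 1)) (ap (D i ≫ gMap n W B hWV s (i + 1)) ⊤ (stdSec (n i) ⊤ k)) :=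
    hL.trans (e1.symm.trans ((congrArg (fun t => rF (B.X (i + 1)) (Wt_le W) t) (hs i k)).trans
      (e2.trans hR.symm)))
  exact hfin

/-- the spread out morphism of complexes -/
def spreadMap
    (hs : ∀ i (k : Fin (n i)),
      rF (B.X (i + 1)) hWV (ap (B.d i (i + 1)) V (s i k)) =
      rF (B.X (i + 1)) hWV (∑ l, rX (le_top : V ≤ ⊤) (cf n D i k l) • s (i + 1) l)) :
    (RC W.ι).obj (fCx n D hD) ⟶ (RC W.ι).obj B where
  f i := (Scheme.Modules.restrictFunctor W.ι).map (gMap n W B hWV s i) ≫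
    (Scheme.Modules.restrictAdjunction W.ι).counit.app
      ((Scheme.Modules.restrictFunctor W.ι).obj (B.X i))
  comm' i k hik := by
    obtain rfl : i + 1 = k := hik
    have hc := (Scheme.Modules.restrictAdjunction W.ι).counit.naturality
      ((Scheme.Modules.restrictFunctor W.ι).map (B.d i (i + 1)))
    have hc' : (Scheme.Modules.restrictAdjunction W.ι).counit.app
          ((Scheme.Modules.restrictFunctor W.ι).obj (B.X i)) ≫
        (Scheme.Modules.restrictFunctor W.ι).map (B.d i (i + 1)) =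
        (Scheme.Modules.restrictFunctor W.ι).map (PBm W (B.d i (i + 1))) ≫
          (Scheme.Modules.restrictAdjunction W.ι).counit.app
            ((Scheme.Modules.restrictFunctor W.ι).obj (B.X (i + 1))) := hc.symm
    have hg := gMap_comm n D W B hWV s hs i
    show ((Scheme.Modules.restrictFunctor W.ι).map (gMap n W B hWV s i) ≫
        (Scheme.Modules.restrictAdjunction W.ι).counit.app
          ((Scheme.Modules.restrictFunctor W.ι).obj (B.X i))) ≫
        (Scheme.Modules.restrictFunctor W.ι).map (B.d i (i + 1)) =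
      (Scheme.Modules.restrictFunctor W.ι).map ((fCx n D hD).d i (i + 1)) ≫
        ((Scheme.Modules.restrictFunctor W.ι).map (gMap n W B hWV s (i + 1)) ≫
          (Scheme.Modules.restrictAdjunction W.ι).counit.app
            ((Scheme.Modules.restrictFunctor W.ι).obj (B.X (i + 1))))
    rw [fCx_d, Category.assoc, hc', ← Category.assoc, ← Functor.map_comp, hg, Functor.map_comp,
      Category.assoc]

theorem spreadMap_app_stdSec
    (hs : ∀ i (k : Fin (n i)),
      rF (B.X (i + 1)) hWV (ap (B.d i (i + 1)) V (s i k)) =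
      rF (B.X (i + 1)) hWV (∑ l, rX (le_top : V ≤ ⊤) (cf n D i k l) • s (i + 1) l))
    (i : ℤ) (k : Fin (n i)) :
    (ap ((spreadMap n D hD W B hWV s hs).f i) ⊤
        (stdSec (n i) (W.ι ''ᵁ ⊤) k : Γ((FlatMod.freeMod Y (n i)).restrict W.ι, ⊤)) :
      Γ(B.X i, W.ι ''ᵁ ⊤)) =
      rF (B.X i) ((W.ι_image_le ⊤).trans hWV) (s i k) := by
  have hO : W.ι ''ᵁ ⊤ ≤ W.ι ''ᵁ (W.ι ⁻¹ᵁ (W.ι ''ᵁ ⊤)) := by
    rw [W.ι.preimage_image_eq]
  have hC : W.ι ''ᵁ (W.ι ⁻¹ᵁ (W.ι ''ᵁ ⊤)) ≤ Wt W :=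
    W.ι.image_mono (W.ι.preimage_mono le_top)
  have hle : Wt W ≤ V := (Wt_le W).trans hWV
  have hA : (ap ((spreadMap n D hD W B hWV s hs).f i) ⊤
        (stdSec (n i) (W.ι ''ᵁ ⊤) k : Γ((FlatMod.freeMod Y (n i)).restrict W.ι, ⊤)) :
      Γ(B.X i, W.ι ''ᵁ ⊤)) =
      rF (B.X i) hO
        (ap (gMap n W B hWV s i) (W.ι ''ᵁ ⊤) (stdSec (n i) (W.ι ''ᵁ ⊤) k) :
          Γ(B.X i, W.ι ''ᵁ (W.ι ⁻¹ᵁ (W.ι ''ᵁ ⊤)))) := rfl
  have hB : ap (gMap n W B hWV s i) (W.ι ''ᵁ ⊤) (stdSec (n i) (W.ι ''ᵁ ⊤) k) =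
      rF (PBo W (B.X i)) (le_top : W.ι ''ᵁ ⊤ ≤ ⊤)
        (toPB W (B.X i) (rF (B.X i) hle (s i k))) := by
    rw [← rF_stdSec (n i) (le_top : W.ι ''ᵁ ⊤ ≤ ⊤) k, ap_rF, gMap_stdSec]
  have hCe : (rF (PBo W (B.X i)) (le_top : W.ι ''ᵁ ⊤ ≤ ⊤)
        (toPB W (B.X i) (rF (B.X i) hle (s i k))) :
      Γ(B.X i, W.ι ''ᵁ (W.ι ⁻¹ᵁ (W.ι ''ᵁ ⊤)))) =
      rF (B.X i) hC (rF (B.X i) hle (s i k)) := rfl
  exact hA.trans ((congrArg
    (fun t : Γ(B.X i, W.ι ''ᵁ (W.ι ⁻¹ᵁ (W.ι ''ᵁ ⊤))) => rF (B.X i) hO t) (hB.trans hCe)).trans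
      ((rF_rF (B.X i) hO hC _).trans (rF_rF (B.X i) (hO.trans hC) hle (s i k))))

theorem spread_compat
    (hs : ∀ i (k : Fin (n i)),
      rF (B.X (i + 1)) hWV (ap (B.d i (i + 1)) V (s i k)) =
      rF (B.X (i + 1)) hWV (∑ l, rX (le_top : V ≤ ⊤) (cf n D i k l) • s (i + 1) l))
    (y' : (W : Scheme.{u}))
    (ψ : (stalkCx (W.ι.base y')).obj (fCx n D hD) ⟶ (stalkCx (W.ι.base y')).obj B)
    (hψ : ∀ i (k : Fin (n i)),
      (B.X i).presheaf.germ V (W.ι.base y') (hWV y'.2) (s i k) =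
        (ψ.f i) (gS (n i) (W.ι.base y') k))
    (i : ℤ) (x : ((FlatMod.freeMod Y (n i)).restrict W.ι).presheaf.stalk y') :
    RestrStalkH8.restrictStalkEquiv W.ι (B.X i) y'
        ((stalkFunctor (W : Scheme.{u}) y').map ((spreadMap n D hD W B hWV s hs).f i) x) =
      (ψ.f i) (RestrStalkH8.restrictStalkEquiv W.ι (FlatMod.freeMod Y (n i)) y' x) := by
  have hmem : W.ι.base y' ∈ W.ι ''ᵁ (⊤ : (W : Scheme.{u}).Opens) := ⟨y', trivial, rfl⟩
  have hβ : ∀ k, RestrStalkH8.restrictStalkEquiv W.ι (FlatMod.freeMod Y (n i)) y'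
      (((FlatMod.freeMod Y (n i)).restrict W.ι).presheaf.germ ⊤ y' trivial
        (stdSec (n i) (W.ι ''ᵁ ⊤) k : Γ((FlatMod.freeMod Y (n i)).restrict W.ι, ⊤))) =
      gS (n i) (W.ι.base y') k := by
    intro k
    have h1 := RestrStalkH8.restrictStalkEquiv_germ W.ι (FlatMod.freeMod Y (n i)) y' ⊤ trivial
      (stdSec (n i) (W.ι ''ᵁ ⊤) k : Γ((FlatMod.freeMod Y (n i)).restrict W.ι, ⊤))
    exact h1.trans (gS_eq (n i) (W.ι.base y') k (W.ι ''ᵁ ⊤) hmem).symm
  have hkey : ∀ k, RestrStalkH8.restrictStalkEquiv W.ι (B.X i) y'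
      ((stalkFunctor (W : Scheme.{u}) y').map ((spreadMap n D hD W B hWV s hs).f i)
        (((FlatMod.freeMod Y (n i)).restrict W.ι).presheaf.germ ⊤ y' trivial
          (stdSec (n i) (W.ι ''ᵁ ⊤) k : Γ((FlatMod.freeMod Y (n i)).restrict W.ι, ⊤)))) =
      (ψ.f i) (gS (n i) (W.ι.base y') k) := by
    intro k
    have h1 := DerSch.stalkFunctor_map_germ y' ((spreadMap n D hD W B hWV s hs).f i) ⊤ trivial
      (stdSec (n i) (W.ι ''ᵁ ⊤) k : Γ((FlatMod.freeMod Y (n i)).restrict W.ι, ⊤))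
    have h2 := RestrStalkH8.restrictStalkEquiv_germ W.ι (B.X i) y' ⊤ trivial
      (ap ((spreadMap n D hD W B hWV s hs).f i) ⊤
        (stdSec (n i) (W.ι ''ᵁ ⊤) k : Γ((FlatMod.freeMod Y (n i)).restrict W.ι, ⊤)))
    have h3 := spreadMap_app_stdSec n D hD W B hWV s hs i k
    have h4 := SecOrdH8.germ_rF (B.X i) ((W.ι_image_le ⊤).trans hWV) (W.ι.base y') hmem (s i k)
    exact ((congrArg (fun t => RestrStalkH8.restrictStalkEquiv W.ι (B.X i) y' t) h1).trans
      (h2.trans ((congrArg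
        (fun t => (B.X i).presheaf.germ (W.ι ''ᵁ ⊤) (W.ι.base y') hmem t) h3).trans h4))).trans
      (hψ i k)
  obtain ⟨c, hc⟩ := exists_coeff_gS (n i) (W.ι.base y')
    (RestrStalkH8.restrictStalkEquiv W.ι (FlatMod.freeMod Y (n i)) y' x)
  have hx : x = ∑ l, RestrStalkH8.stalkRingEquiv W.ι y' (c l) •
      ((FlatMod.freeMod Y (n i)).restrict W.ι).presheaf.germ ⊤ y' trivial
        (stdSec (n i) (W.ι ''ᵁ ⊤) l : Γ((FlatMod.freeMod Y (n i)).restrict W.ι, ⊤)) := by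
    apply (RestrStalkH8.restrictStalkEquiv W.ι (FlatMod.freeMod Y (n i)) y').injective
    refine hc.trans ?_
    refine Eq.trans ?_
      (map_sum (RestrStalkH8.restrictStalkEquiv W.ι (FlatMod.freeMod Y (n i)) y') _ _).symm
    refine Finset.sum_congr rfl (fun l _ => ?_)
    refine Eq.trans ?_
      (RestrStalkH8.restrictStalkEquiv_smul W.ι (FlatMod.freeMod Y (n i)) y' _ _).symm
    rw [RingEquiv.symm_apply_apply]
    exact congrArg (fun t => c l • t) (hβ l).symm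
  have hL1 : (stalkFunctor (W : Scheme.{u}) y').map ((spreadMap n D hD W B hWV s hs).f i) x =
      ∑ l, RestrStalkH8.stalkRingEquiv W.ι y' (c l) •
        (stalkFunctor (W : Scheme.{u}) y').map ((spreadMap n D hD W B hWV s hs).f i)
          (((FlatMod.freeMod Y (n i)).restrict W.ι).presheaf.germ ⊤ y' trivial
            (stdSec (n i) (W.ι ''ᵁ ⊤) l : Γ((FlatMod.freeMod Y (n i)).restrict W.ι, ⊤))) := by
    refine (congrArg (fun t =>
      (stalkFunctor (W : Scheme.{u}) y').map ((spreadMap n D hD W B hWV s hs).f i) t) hx).trans ?_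
    refine (map_sum
      ((stalkFunctor (W : Scheme.{u}) y').map ((spreadMap n D hD W B hWV s hs).f i)).hom _ _).trans ?_
    refine Finset.sum_congr rfl (fun l _ => ?_)
    exact ((stalkFunctor (W : Scheme.{u}) y').map
      ((spreadMap n D hD W B hWV s hs).f i)).hom.map_smul _ _
  have hL2 : RestrStalkH8.restrictStalkEquiv W.ι (B.X i) y'
      ((stalkFunctor (W : Scheme.{u}) y').map ((spreadMap n D hD W B hWV s hs).f i) x) =
      ∑ l, c l • (ψ.f i) (gS (n i) (W.ι.base y') l) := by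
    refine (congrArg (fun t => RestrStalkH8.restrictStalkEquiv W.ι (B.X i) y' t) hL1).trans ?_
    refine (map_sum (RestrStalkH8.restrictStalkEquiv W.ι (B.X i) y') _ _).trans ?_
    refine Finset.sum_congr rfl (fun l _ => ?_)
    refine (RestrStalkH8.restrictStalkEquiv_smul W.ι (B.X i) y' _ _).trans ?_
    rw [RingEquiv.symm_apply_apply]
    exact congrArg (fun t => c l • t) (hkey l)
  have hR1 : (ψ.f i) (RestrStalkH8.restrictStalkEquiv W.ι (FlatMod.freeMod Y (n i)) y' x) =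
      ∑ l, c l • (ψ.f i) (gS (n i) (W.ι.base y') l) := by
    refine (congrArg (fun t => (ψ.f i) t) hc).trans ?_
    refine (map_sum (ψ.f i).hom _ _).trans ?_
    refine Finset.sum_congr rfl (fun l _ => ?_)
    exact (ψ.f i).hom.map_smul _ _
  exact hL2.trans hR1.symm

end Spread

/-! ### The spreading out theorem -/

section Main

variable {Y : Scheme.{u}} (n : ℤ → ℕ)
  (D : ∀ i, FlatMod.freeMod Y (n i) ⟶ FlatMod.freeMod Y (n (i + 1)))
  (hD : ∀ i, D i ≫ D (i + 1) = 0)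

theorem exists_spread (y : Y) (a b : ℤ) (hn : ∀ i, i < a ∨ b < i → n i = 0)
    (B : CochainComplex Y.Modules ℤ)
    (ψ : (stalkCx y).obj (fCx n D hD) ⟶ (stalkCx y).obj B) :
    ∃ (W : Y.Opens) (hy : y ∈ W) (ψ' : (RC W.ι).obj (fCx n D hD) ⟶ (RC W.ι).obj B),
      ∀ m : ℤ, IsApprox m (Q.map ψ) →
        IsApprox m (Q.map ((stalkCx (show (W : Scheme.{u}) from (⟨y, hy⟩ : W))).map ψ')) := by
  classical
  obtain ⟨V, hyV, s0, hs0⟩ := exists_sections_of_germs_mod y
    (ι := Σ i : ↥(Finset.Icc a b), Fin (n i.1)) (fun p => B.X p.1.1)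
    (fun p => (ψ.f p.1.1) (gS (n p.1.1) y p.2))
  let s : ∀ i, Fin (n i) → Γ(B.X i, V) := fun i k =>
    if h : a ≤ i ∧ i ≤ b then s0 ⟨⟨i, Finset.mem_Icc.2 h⟩, k⟩ else 0
  have hs : ∀ i (k : Fin (n i)),
      (B.X i).presheaf.germ V y hyV (s i k) = (ψ.f i) (gS (n i) y k) := by
    intro i k
    by_cases h : a ≤ i ∧ i ≤ b
    · have e : s i k = s0 ⟨⟨i, Finset.mem_Icc.2 h⟩, k⟩ := dif_pos h
      rw [e]
      exact hs0 ⟨⟨i, Finset.mem_Icc.2 h⟩, k⟩
    · exfalso
      have h1 := hn i (by omega)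
      have h2 := k.2
      omega
  have hgerm : ∀ i (k : Fin (n i)),
      (B.X (i + 1)).presheaf.germ V y hyV (ap (B.d i (i + 1)) V (s i k)) =
      (B.X (i + 1)).presheaf.germ V y hyV
        (∑ l, rX (le_top : V ≤ ⊤) (cf n D i k l) • s (i + 1) l) := by
    intro i k
    have hc := ψ.comm i (i + 1)
    have h0 := ConcreteCategory.congr_hom hc (gS (n i) y k)
    rw [ConcreteCategory.comp_apply, ConcreteCategory.comp_apply] at h0
    have h0' : (stalkFunctor Y y).map (B.d i (i + 1)) ((ψ.f i) (gS (n i) y k)) =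
        (ψ.f (i + 1)) ((stalkFunctor Y y).map ((fCx n D hD).d i (i + 1)) (gS (n i) y k)) := h0
    rw [fCx_d] at h0'
    have h5 := stalk_D_gS n D y i k
    have hL : (B.X (i + 1)).presheaf.germ V y hyV (ap (B.d i (i + 1)) V (s i k)) =
        (stalkFunctor Y y).map (B.d i (i + 1)) ((ψ.f i) (gS (n i) y k)) := by
      rw [← hs i k]
      exact (DerSch.stalkFunctor_map_germ y (B.d i (i + 1)) V hyV (s i k)).symm
    have hM : (ψ.f (i + 1)) ((stalkFunctor Y y).map (D i) (gS (n i) y k)) =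
        ∑ l, Y.presheaf.germ ⊤ y trivial (cf n D i k l) •
          (ψ.f (i + 1)) (gS (n (i + 1)) y l) := by
      refine (congrArg (fun t => (ψ.f (i + 1)) t) h5).trans ?_
      refine (map_sum (ψ.f (i + 1)).hom _ _).trans ?_
      refine Finset.sum_congr rfl (fun l _ => ?_)
      exact (ψ.f (i + 1)).hom.map_smul _ _
    have hR : (B.X (i + 1)).presheaf.germ V y hyV
        (∑ l, rX (le_top : V ≤ ⊤) (cf n D i k l) • s (i + 1) l) =
        ∑ l, Y.presheaf.germ ⊤ y trivial (cf n D i k l) •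
          (ψ.f (i + 1)) (gS (n (i + 1)) y l) := by
      refine (map_sum ((B.X (i + 1)).presheaf.germ V y hyV).hom _ _).trans ?_
      refine Finset.sum_congr rfl (fun l _ => ?_)
      refine (Groth.Agent.Lib.QCohLoc_helper4.germ_smul (B.X (i + 1)) V y hyV
        (rX (le_top : V ≤ ⊤) (cf n D i k l)) (s (i + 1) l)).trans ?_
      rw [SecOrdH8.germ_rX, hs (i + 1) l]
    exact hL.trans (h0'.trans (hM.trans hR.symm))
  obtain ⟨W, hWV, hyW, hW⟩ := exists_common_eq y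
    (ι := Σ i : ↥(Finset.Icc a b), Fin (n i.1)) (fun p => B.X (p.1.1 + 1)) V hyV
    (fun p => ap (B.d p.1.1 (p.1.1 + 1)) V (s p.1.1 p.2))
    (fun p => ∑ l, rX (le_top : V ≤ ⊤) (cf n D p.1.1 p.2 l) • s (p.1.1 + 1) l)
    (fun p => hgerm p.1.1 p.2)
  have hs' : ∀ i (k : Fin (n i)),
      rF (B.X (i + 1)) hWV (ap (B.d i (i + 1)) V (s i k)) =
      rF (B.X (i + 1)) hWV (∑ l, rX (le_top : V ≤ ⊤) (cf n D i k l) • s (i + 1) l) := by
    intro i k
    by_cases h : a ≤ i ∧ i ≤ b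
    · exact hW ⟨⟨i, Finset.mem_Icc.2 h⟩, k⟩
    · exfalso
      have h1 := hn i (by omega)
      have h2 := k.2
      omega
  refine ⟨W, hyW, spreadMap n D hD W B hWV s hs', fun m hm => ?_⟩
  refine isApprox_of_compat W.ι (show (W : Scheme.{u}) from (⟨y, hyW⟩ : W)) ψ _ ?_ hm
  apply HomologicalComplex.hom_ext
  intro i
  apply ModuleCat.hom_ext
  apply LinearMap.ext
  intro x
  exact spread_compat n D hD W B hWV s hs' (show (W : Scheme.{u}) from (⟨y, hyW⟩ : W)) ψ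
    (fun i k => hs i k) i x

end Main

end

end Groth.Agent.Lib.DCohLocLead
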