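import Mathlib
import Groth.Prelude
import Groth.Agent.Lib.PCohStalk2_lead
import Groth.Agent.Lib.PCohStalk3_lead

/-!
# Spreading out an isomorphism of stalks of pseudo-coherent complexes, IV (lead)

If two cohomologically bounded pseudo-coherent complexes have isomorphic complexes of stalks at a
point (in the derived category of the local ring), they are isomorphic in the derived category
over a neighbourhood of that point (S6195).
APPEND-ONLY once landed.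
-/

set_option autoImplicit false
set_option linter.all false
set_option maxHeartbeats 1600000
set_option backward.isDefEq.respectTransparency false
set_option backward.isDefEq.respectTransparency.types false
set_option backward.defeqAttrib.useBackward true

universe u

open CategoryTheory CategoryTheory.Limits AlgebraicGeometry TopologicalSpace Opposite
open CategoryTheory.Pretriangulated

attribute [local instance] HasDerivedCategory.standard

namespace Groth.Agent.Lib.DCohLocLead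

open DerSch Groth.Agent.Lib.TorAmpIdL

noncomputable section

open DerivedCategory

section Core

variable {Y : Scheme.{u}}

theorem isStrictlyFree_fCx (n : ℤ → ℕ)
    (D : ∀ i, FlatMod.freeMod Y (n i) ⟶ FlatMod.freeMod Y (n (i + 1)))
    (hD : ∀ i, D i ≫ D (i + 1) = 0) (a b : ℤ) (hn : ∀ i, i < a ∨ b < i → n i = 0) :
    IsStrictlyFree (fCx n D hD) := by
  refine ⟨⟨a, b, fun i hi => ?_⟩, fun i => ⟨n i, ⟨Iso.refl _⟩⟩⟩
  show IsZero (FlatMod.freeMod Y (n i))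
  rw [hn i hi]
  exact isZero_freeMod_zero Y

theorem isKProjective_stalkCx_fCx (n : ℤ → ℕ)
    (D : ∀ i, FlatMod.freeMod Y (n i) ⟶ FlatMod.freeMod Y (n (i + 1)))
    (hD : ∀ i, D i ≫ D (i + 1) = 0) (b : ℤ) (hn : ∀ i, b < i → n i = 0) (y : Y) :
    ((stalkCx y).obj (fCx n D hD)).IsKProjective := by
  haveI : ((stalkCx y).obj (fCx n D hD)).IsStrictlyLE b := by
    rw [CochainComplex.isStrictlyLE_iff]
    intro i hi
    refine (stalkFunctor Y y).map_isZero ?_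
    show IsZero (FlatMod.freeMod Y (n i))
    rw [hn i hi]
    exact isZero_freeMod_zero Y
  haveI : ∀ i, Projective (((stalkCx y).obj (fCx n D hD)).X i) := by
    intro i
    have hflf : FlatMod.IsFinLocFree (FlatMod.freeMod Y (n i)) :=
      FLFH8.isFinLocFree_of_iso_free (Iso.refl _)
    haveI := FLFH8.isQuasicoherent_of_finLocFree _ hflf
    haveI : Module.Free (Y.presheaf.stalk y) ((FlatMod.freeMod Y (n i)).presheaf.stalk y) :=
      FLFH8.free_stalk_of_finLocFree (FlatMod.freeMod Y (n i)) hflf y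
    show Projective (ModuleCat.of (Y.presheaf.stalk y)
      ((FlatMod.freeMod Y (n i)).presheaf.stalk y))
    infer_instance
  exact CochainComplex.isKProjective_of_projective _ b

/-- the core of S6195: all the data are global on `Y` -/
theorem core (y : Y) (A B : CochainComplex Y.Modules ℤ) (c d : ℤ)
    [A.IsGE c] [B.IsGE c] [B.IsLE d]
    (hB : ∀ m : ℤ, DCoh.IsPseudoCoherentD m (Q.obj B))
    (P : CochainComplex Y.Modules ℤ) (hP : IsStrictlyFree P) (α : P ⟶ A)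
    (hα : IsApprox (c - 1) (Q.map α))
    (φ : DRing.toD ((stalkCx y).obj A) ≅ DRing.toD ((stalkCx y).obj B)) :
    ∃ (Z : Scheme.{u}) (k : Z ⟶ Y) (_ : IsOpenImmersion k), (∃ z : Z, k.base z = y) ∧
      Nonempty (Q.obj ((RC k).obj A) ≅ Q.obj ((RC k).obj B)) := by
  classical
  obtain ⟨⟨a, b, hv⟩, hfr⟩ := hP
  have hfr' : ∀ i, ∃ n : ℕ, Nonempty (P.X i ≅ FlatMod.freeMod Y n) ∧
      (i < a ∨ b < i → n = 0) := by
    intro i
    by_cases h : i < a ∨ b < i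
    · exact ⟨0, ⟨(hv i h).iso (isZero_freeMod_zero Y)⟩, fun _ => rfl⟩
    · obtain ⟨n, hn⟩ := hfr i
      exact ⟨n, hn, fun h' => absurd h' h⟩
  choose n he hn using hfr'
  let e : ∀ i, P.X i ≅ FlatMod.freeMod Y (n i) := fun i => (he i).some
  let D : ∀ i, FlatMod.freeMod Y (n i) ⟶ FlatMod.freeMod Y (n (i + 1)) := fun i =>
    (e i).inv ≫ P.d i (i + 1) ≫ (e (i + 1)).hom
  have hD : ∀ i, D i ≫ D (i + 1) = 0 := by
    intro i
    show ((e i).inv ≫ P.d i (i + 1) ≫ (e (i + 1)).hom) ≫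
      ((e (i + 1)).inv ≫ P.d (i + 1) (i + 1 + 1) ≫ (e (i + 1 + 1)).hom) = 0
    simp
  let κ : fCx n D hD ≅ P := HomologicalComplex.Hom.isoOfComponents (fun i => (e i).symm) (by
    intro i k hik
    obtain rfl : i + 1 = k := hik
    rw [fCx_d]
    show (e i).inv ≫ P.d i (i + 1) =
      ((e i).inv ≫ P.d i (i + 1) ≫ (e (i + 1)).hom) ≫ (e (i + 1)).inv
    simp)
  let α' : fCx n D hD ⟶ A := κ.hom ≫ α
  have hα' : IsApprox (c - 1) (Q.map α') := by
    show IsApprox (c - 1) (Q.map (κ.hom ≫ α))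
    rw [Functor.map_comp]
    exact (IsApprox.of_isIso _).comp hα
  have hαy : IsApprox (c - 1) (Q.map ((stalkCx y).map α')) :=
    isApprox_Q_map_mapHC (stalkFunctor Y y) α' hα'
  haveI : ((stalkCx y).obj (fCx n D hD)).IsKProjective :=
    isKProjective_stalkCx_fCx n D hD b (fun i hi => hn i (Or.inr hi)) y
  obtain ⟨ψ, hψ⟩ := exists_chainMap_of_isKProjective ((stalkCx y).obj (fCx n D hD))
    ((stalkCx y).obj B) (Q.map ((stalkCx y).map α') ≫ φ.hom)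
  have hψa : IsApprox (c - 1) (Q.map ψ) := by
    rw [hψ]
    exact hαy.comp (IsApprox.of_isIso _)
  obtain ⟨W, hyW, ψ', hψ'⟩ := exists_spread n D hD y a b hn B ψ
  have hψ'a := hψ' (c - 1) hψa
  let y1 : (W : Scheme.{u}) := (⟨y, hyW⟩ : W)
  let P1 : CochainComplex (W : Scheme.{u}).Modules ℤ := (RC W.ι).obj (fCx n D hD)
  let B1 : CochainComplex (W : Scheme.{u}).Modules ℤ := (RC W.ι).obj B
  obtain ⟨C, p, q, hT⟩ := distinguished_cocone_triangle (Q.map ψ')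
  have hP1 : DCoh.IsStrictlyPerfect P1 :=
    isStrictlyPerfect_RC W.ι (isStrictlyFree_fCx n D hD a b hn).isStrictlyPerfect
  have hpcP1 : ∀ m : ℤ, DCoh.IsPseudoCoherentD m (Q.obj P1) :=
    fun m => isPC_of_isPerfect (isPerfect_Q_obj P1 hP1) m
  have hpcB1 : ∀ m : ℤ, DCoh.IsPseudoCoherentD m (Q.obj B1) := fun m => isPC_RC W.ι B (hB m)
  have hpcC : ∀ m : ℤ, DCoh.IsPseudoCoherentD m C :=
    fun m => isPC_obj₃ m _ hT (hpcP1 (m + 1)) (hpcB1 m)
  have hLtP1 : Lt (max b d + 1) (Q.obj P1) :=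
    Lt_Q_obj_of_isZero P1 (max b d + 1) (fun i hi => by
      refine (Scheme.Modules.restrictFunctor W.ι).map_isZero ?_
      show IsZero (FlatMod.freeMod Y (n i))
      rw [hn i (Or.inr (by have := le_max_left b d; omega))]
      exact isZero_freeMod_zero Y)
  haveI : B1.IsLE d := isLE_RC W.ι B d
  have hLtB1 : Lt (max b d + 1) (Q.obj B1) :=
    (Lt_Q_obj_of_isLE B1 d).mono (by have := le_max_right b d; omega)
  have hLtC : Lt (max b d + 1) C :=
    Lt_of_isApprox _ _ hT (isApprox_of_Lt_of_Lt _ hLtP1 hLtB1)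
  have hLtS : Lt (c - 1) ((stalkFunctor (W : Scheme.{u}) y1).mapDerivedCategory.obj C) := by
    have hT' := (stalkFunctor (W : Scheme.{u}) y1).mapDerivedCategory.map_distinguished _ hT
    refine Lt_of_isApprox (c - 1) _ hT' ?_
    exact isApprox_mapDerived_of_Q_map (stalkFunctor (W : Scheme.{u}) y1) ψ' hψ'a
  have hz : ∀ i, c - 1 ≤ i → Subsingleton ((DCoh.HD C i).presheaf.stalk y1) :=
    fun i hi => subsingleton_stalk_HD_of_Lt C y1 (c - 1) hLtS i hi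
  obtain ⟨W', hyW', hW'⟩ := exists_nhd_stalk_zero C hpcC (max b d + 1) hLtC (c - 1) y1 hz
  have hLtC' : Lt (c - 1) ((DD W'.ι).obj C) := Lt_DD_of_stalks C W' (c - 1) hW'
  have hT2 := (DD W'.ι).map_distinguished _ hT
  have hβ0 : IsApprox (c - 1) ((DD W'.ι).map (Q.map ψ')) :=
    isApprox_of_Lt (c - 1) _ hT2 hLtC'
  let β : (RC W'.ι).obj P1 ⟶ (RC W'.ι).obj B1 := (RC W'.ι).map ψ'
  have hβ : IsApprox (c - 1) (Q.map β) :=
    isApprox_Q_map_of_mapDerived (Scheme.Modules.restrictFunctor W'.ι) ψ' hβ0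
  let A2 : CochainComplex (W' : Scheme.{u}).Modules ℤ := (RC W'.ι).obj ((RC W.ι).obj A)
  let B2 : CochainComplex (W' : Scheme.{u}).Modules ℤ := (RC W'.ι).obj B1
  let α2 : (RC W'.ι).obj P1 ⟶ A2 := (RC W'.ι).map ((RC W.ι).map α')
  have hα2 : IsApprox (c - 1) (Q.map α2) :=
    isApprox_Q_map_mapHC (Scheme.Modules.restrictFunctor W'.ι) _
      (isApprox_Q_map_mapHC (Scheme.Modules.restrictFunctor W.ι) α' hα')
  haveI : ((RC W.ι).obj A).IsGE c := isGE_RC W.ι A c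
  haveI : A2.IsGE c := isGE_RC W'.ι ((RC W.ι).obj A) c
  haveI : B1.IsGE c := isGE_RC W.ι B c
  haveI : B2.IsGE c := isGE_RC W'.ι B1 c
  have hqa : ∀ i, c ≤ i → QuasiIsoAt α2 i :=
    fun i hi => quasiIsoAt_of_isApprox α2 (c - 1) hα2 i (by omega)
  have hqb : ∀ i, c ≤ i → QuasiIsoAt β i :=
    fun i hi => quasiIsoAt_of_isApprox β (c - 1) hβ i (by omega)
  haveI : QuasiIso (CochainComplex.truncGEMap α2 c) :=
    (CochainComplex.quasiIso_truncGEMap_iff α2 c).2 hqa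
  haveI : QuasiIso (CochainComplex.truncGEMap β c) :=
    (CochainComplex.quasiIso_truncGEMap_iff β c).2 hqb
  let iso : Q.obj A2 ≅ Q.obj B2 :=
    asIso (Q.map (A2.πTruncGE c)) ≪≫ (asIso (Q.map (CochainComplex.truncGEMap α2 c))).symm ≪≫
      asIso (Q.map (CochainComplex.truncGEMap β c)) ≪≫ (asIso (Q.map (B2.πTruncGE c))).symm
  refine ⟨(W' : Scheme.{u}), W'.ι ≫ W.ι, inferInstance, ⟨(⟨y1, hyW'⟩ : W'), rfl⟩, ?_⟩
  exact ⟨Q.mapIso (rcComp W.ι W'.ι A) ≪≫ iso ≪≫ Q.mapIso (rcComp W.ι W'.ι B).symm⟩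

end Core

/-! ### S6195 -/

theorem main6195 {X : Scheme.{u}} (x : X)
    (E F : CochainComplex X.Modules ℤ) (c d : ℤ) [(DCoh.toD X E).IsGE c] [(DCoh.toD X E).IsLE d]
    [(DCoh.toD X F).IsGE c] [(DCoh.toD X F).IsLE d]
    (hE : ∀ m : ℤ, DCoh.IsPseudoCoherentD m (DCoh.toD X E))
    (hF : ∀ m : ℤ, DCoh.IsPseudoCoherentD m (DCoh.toD X F))
    (hx : Nonempty (DRing.toD ((stalkCx x).obj E) ≅ DRing.toD ((stalkCx x).obj F))) :
    ∃ U : X.Opens, x ∈ U ∧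
      Nonempty (Q.obj ((DCoh.restrictCx U).obj E) ≅ Q.obj ((DCoh.restrictCx U).obj F)) := by
  haveI : E.IsGE c := (DerivedCategory.isGE_Q_obj_iff E c).1 inferInstance
  haveI : F.IsGE c := (DerivedCategory.isGE_Q_obj_iff F c).1 inferInstance
  haveI : F.IsLE d := (DerivedCategory.isLE_Q_obj_iff F d).1 inferInstance
  obtain ⟨φ⟩ := hx
  obtain ⟨V, hxV, W, hxW, E', β, hE', hq⟩ := exists_approx_chain_map E (c - 2) (hE (c - 2)) x
  let xV : (V : Scheme.{u}) := (⟨x, hxV⟩ : V)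
  let xW : (W : Scheme.{u}) := (⟨xV, hxW⟩ : W)
  obtain ⟨U, hxU, hfree⟩ := exists_opens_isStrictlyFree (isStrictlyPerfect_RC W.ι hE') xW
  let xU : (U : Scheme.{u}) := (⟨xW, hxU⟩ : U)
  let E3 : CochainComplex (U : Scheme.{u}).Modules ℤ :=
    (RC U.ι).obj ((RC W.ι).obj ((RC V.ι).obj E))
  let F3 : CochainComplex (U : Scheme.{u}).Modules ℤ :=
    (RC U.ι).obj ((RC W.ι).obj ((RC V.ι).obj F))
  let α : (RC U.ι).obj ((RC W.ι).obj E') ⟶ E3 := (RC U.ι).map β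
  have hβa : IsApprox (c - 1) (Q.map β) :=
    isApprox_of_quasiIsoAt β (c - 1) (fun i hi => hq i (by omega))
  have hα : IsApprox (c - 1) (Q.map α) :=
    isApprox_Q_map_mapHC (Scheme.Modules.restrictFunctor U.ι) β hβa
  obtain ⟨φ1⟩ := nonempty_stalk_iso_restrict V.ι xV E F φ
  obtain ⟨φ2⟩ := nonempty_stalk_iso_restrict W.ι xW _ _ φ1
  obtain ⟨φ3⟩ := nonempty_stalk_iso_restrict U.ι xU _ _ φ2
  haveI : ((RC V.ι).obj E).IsGE c := isGE_RC V.ι E c
  haveI : ((RC W.ι).obj ((RC V.ι).obj E)).IsGE c := isGE_RC W.ι _ c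
  haveI : E3.IsGE c := isGE_RC U.ι _ c
  haveI : ((RC V.ι).obj F).IsGE c := isGE_RC V.ι F c
  haveI : ((RC W.ι).obj ((RC V.ι).obj F)).IsGE c := isGE_RC W.ι _ c
  haveI : F3.IsGE c := isGE_RC U.ι _ c
  haveI : ((RC V.ι).obj F).IsLE d := isLE_RC V.ι F d
  haveI : ((RC W.ι).obj ((RC V.ι).obj F)).IsLE d := isLE_RC W.ι _ d
  haveI : F3.IsLE d := isLE_RC U.ι _ d
  have hF3 : ∀ m : ℤ, DCoh.IsPseudoCoherentD m (Q.obj F3) :=
    fun m => isPC_RC U.ι _ (isPC_RC W.ι _ (isPC_RC V.ι F (hF m)))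
  obtain ⟨Z, k, hk, ⟨z, hz⟩, ⟨iso⟩⟩ := core xU E3 F3 c d hF3 _ hfree α hα φ3
  haveI := hk
  let cE : (RC (k ≫ U.ι ≫ W.ι ≫ V.ι)).obj E ≅ (RC k).obj E3 :=
    rcComp (U.ι ≫ W.ι ≫ V.ι) k E ≪≫
      (RC k).mapIso (rcComp (W.ι ≫ V.ι) U.ι E ≪≫ (RC U.ι).mapIso (rcComp V.ι W.ι E))
  let cF : (RC (k ≫ U.ι ≫ W.ι ≫ V.ι)).obj F ≅ (RC k).obj F3 :=
    rcComp (U.ι ≫ W.ι ≫ V.ι) k F ≪≫
      (RC k).mapIso (rcComp (W.ι ≫ V.ι) U.ι F ≪≫ (RC U.ι).mapIso (rcComp V.ι W.ι F))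
  have isoT : Q.obj ((RC (k ≫ U.ι ≫ W.ι ≫ V.ι)).obj E) ≅
      Q.obj ((RC (k ≫ U.ι ≫ W.ι ≫ V.ι)).obj F) :=
    Q.mapIso cE ≪≫ iso ≪≫ Q.mapIso cF.symm
  obtain ⟨isoU⟩ := nonempty_iso_opensRange (k ≫ U.ι ≫ W.ι ≫ V.ι) isoT
  have hmem : ∃ z' : Z, (k ≫ U.ι ≫ W.ι ≫ V.ι).base z' = x := by
    refine ⟨z, ?_⟩
    have h1 : (k ≫ U.ι ≫ W.ι ≫ V.ι).base z = (U.ι ≫ W.ι ≫ V.ι).base (k.base z) := rfl
    rw [h1, hz]
    rfl
  exact ⟨(k ≫ U.ι ≫ W.ι ≫ V.ι).opensRange, hmem, ⟨isoU⟩⟩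

end

end Groth.Agent.Lib.DCohLocLead
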