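import Mathlib
import Groth.Agent.Lib.PDFibre2_helper8
import Groth.Agent.Lib.TorBal2_helper5

/-!
# Projective dimension equals Tor-dimension for flat finitely presented modules over flat
finitely presented algebras
-/

namespace Groth.Agent.Lib.PDFibreH8

open TensorProduct CategoryTheory Groth.Agent.TorLES Groth.Agent.TorBal

universe u

/-- flatness from the vanishing of `Tor₁` in the first variable. -/
theorem flat_of_torZero_one {R : Type u} [CommRing R] (M : Type u) [AddCommGroup M] [Module R M]
    (h : ∀ N : ModuleCat.{u} R, Limits.IsZero (((Tor (ModuleCat.{u} R) 1).obj (ModuleCat.of R M)).obj N)) :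
    Module.Flat R M := by
  rw [Module.Flat.iff_rTensor_injective']
  intro I
  have h1 : TorZero R 1 (R ⧸ I) M := (torZero_symm 1 (R ⧸ I) M).mpr (h (ModuleCat.of R (R ⧸ I)))
  exact rTensor_injective_of_torZero_one I.subtype I.mkQ M I.injective_subtype
    (LinearMap.exact_subtype_mkQ I) (Submodule.mkQ_surjective I) h1

/-- the key equivalence between projective dimension bounds and vanishing of `Tor`. -/
theorem hasPDLT_iff_tor (A B : Type u) [CommRing A] [CommRing B] [Algebra A B]
    [Algebra.FinitePresentation A B] [Module.Flat A B] :
    ∀ (i : ℕ) (M : Type u) [AddCommGroup M] [Module B M] [Module A M] [IsScalarTower A B M]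
      [Module.FinitePresentation B M] [Module.Flat A M],
      HasProjectiveDimensionLT (ModuleCat.of B M) i ↔
        ∀ N : ModuleCat.{u} B,
          Limits.IsZero (((Tor (ModuleCat.{u} B) i).obj (ModuleCat.of B M)).obj N) := by
  intro i
  induction i with
  | zero =>
    intro M _ _ _ _ _ _
    rw [hasProjectiveDimensionLT_zero_iff_isZero, ModuleCat.isZero_of_iff_subsingleton]
    constructor
    · intro h N
      rw [ModuleCat.isZero_iff_subsingleton]
      exact (torZeroEquiv (R := B) N M).toEquiv.subsingleton
    · intro h
      have h1 := h (ModuleCat.of B B)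
      rw [ModuleCat.isZero_iff_subsingleton] at h1
      exact ((torZeroEquiv (R := B) B M).trans (TensorProduct.rid B M)).symm.toEquiv.subsingleton
  | succ i ih =>
    intro M _ _ _ _ _ _
    cases i with
    | zero =>
      rw [zero_add, ← projective_iff_hasProjectiveDimensionLT_one, ← IsProjective.iff_projective]
      constructor
      · intro h N
        exact torZero_succ_of_flat_left N M 0
      · intro h
        haveI : Module.Flat B M := flat_of_torZero_one M h
        exact Module.Flat.projective_of_finitePresentation
    | succ m =>
      obtain ⟨k, p, hp, hfp, hflat⟩ := exists_syzygy A B M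
      haveI := hfp
      haveI := hflat
      rw [hasPDLT_succ_iff (LinearMap.ker p).subtype p (LinearMap.ker p).subtype_injective hp
        (LinearMap.exact_subtype_ker_map p) m, ih (LinearMap.ker p)]
      refine forall_congr' fun N => ?_
      exact (torZero_shift (LinearMap.ker p).subtype p N (LinearMap.ker p).subtype_injective
        (LinearMap.exact_subtype_ker_map p) hp m).symm

/-- **Projective dimension equals Tor-dimension.** -/
theorem projectiveDimension_eq_torDimension (A B M : Type u) [CommRing A] [CommRing B]
    [Algebra A B] [Algebra.FinitePresentation A B] [Module.Flat A B] [AddCommGroup M] [Module B M]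
    [Module A M] [IsScalarTower A B M] [Module.FinitePresentation B M] [Module.Flat A M] :
    projectiveDimension (ModuleCat.of B M) =
      sInf {n : WithBot ℕ∞ | ∀ i : ℕ, n < i → ∀ N : ModuleCat.{u} B,
        Limits.IsZero (((Tor (ModuleCat.{u} B) i).obj (ModuleCat.of B M)).obj N)} := by
  unfold projectiveDimension
  congr 1
  ext n
  simp only [Set.mem_ofPred_eq]
  refine forall_congr' fun i => forall_congr' fun _ => ?_
  exact hasPDLT_iff_tor A B i M

end Groth.Agent.Lib.PDFibreH8
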