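import Mathlib

/-!
# `O⟦X⟧` is finite free over itself through `X ↦ f` iff `f ≢ 0` modulo the maximal ideal (helper1)
-/

set_option autoImplicit false
set_option maxHeartbeats 1000000

universe u

open PowerSeries

namespace Groth.Agent.Lib.PDivH1

section Gen

variable {O : Type u} [CommRing O]

/-- the combination `Σ c_i(f) X^i` -/
noncomputable def Psi (f : PowerSeries O) (h : ℕ) (c : Fin h → PowerSeries O) : PowerSeries O :=
  ∑ i : Fin h, PowerSeries.subst f (c i) * X ^ (i : ℕ)

/-- coefficient shift -/
noncomputable def shift (s : PowerSeries O) : PowerSeries O :=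
  PowerSeries.mk fun j => coeff (j + 1) s

lemma subst_decomp (f : PowerSeries O) (hf0 : constantCoeff f = 0) (s : PowerSeries O) :
    PowerSeries.subst f s = f * PowerSeries.subst f (shift s) + C (constantCoeff s) := by
  have hs : PowerSeries.HasSubst f := PowerSeries.HasSubst.of_constantCoeff_zero' hf0
  have h1 : s = X * shift s + C (constantCoeff s) := PowerSeries.eq_X_mul_shift_add_const s
  conv_lhs => rw [h1]
  rw [PowerSeries.subst_add hs, PowerSeries.subst_mul hs, PowerSeries.subst_X hs,
    PowerSeries.subst_C]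
  rfl

lemma Psi_decomp (f : PowerSeries O) (hf0 : constantCoeff f = 0) (h : ℕ)
    (c : Fin h → PowerSeries O) :
    Psi f h c = f * Psi f h (fun i => shift (c i)) +
      ∑ i : Fin h, C (constantCoeff (c i)) * X ^ (i : ℕ) := by
  unfold Psi
  rw [Finset.mul_sum, ← Finset.sum_add_distrib]
  refine Finset.sum_congr rfl fun i _ => ?_
  rw [subst_decomp f hf0 (c i)]
  ring

lemma Psi_sub (f : PowerSeries O) (hf0 : constantCoeff f = 0) (h : ℕ)
    (c c' : Fin h → PowerSeries O) : Psi f h (c - c') = Psi f h c - Psi f h c' := by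
  have hs : PowerSeries.HasSubst f := PowerSeries.HasSubst.of_constantCoeff_zero' hf0
  unfold Psi
  rw [← Finset.sum_sub_distrib]
  refine Finset.sum_congr rfl fun i _ => ?_
  rw [Pi.sub_apply, PowerSeries.subst_sub hs, sub_mul]

lemma coe_eq_sum (h : ℕ) (r : Polynomial O) (hr : r.degree < h) :
    (r : PowerSeries O) = ∑ i : Fin h, C (r.coeff i) * X ^ (i : ℕ) := by
  ext m
  rw [Polynomial.coeff_coe, map_sum]
  simp only [PowerSeries.coeff_C_mul, PowerSeries.coeff_X_pow]
  rw [Fin.sum_univ_eq_sum_range (fun i => r.coeff i * if m = i then (1 : O) else 0) h]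
  by_cases hm : m < h
  · rw [Finset.sum_eq_single m]
    · simp
    · intro b _ hb
      rw [if_neg (Ne.symm hb), mul_zero]
    · intro hmem
      exact absurd (Finset.mem_range.mpr hm) hmem
  · have h0 : r.coeff m = 0 := by
      apply Polynomial.coeff_eq_zero_of_degree_lt
      exact lt_of_lt_of_le hr (by exact_mod_cast not_lt.mp hm)
    rw [h0]
    symm
    apply Finset.sum_eq_zero
    intro b hb
    have : m ≠ b := by
      have := Finset.mem_range.mp hb
      omega
    rw [if_neg this, mul_zero]

/-- the polynomial `Σ a_i X^i` -/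
noncomputable def polyOf (h : ℕ) (a : Fin h → O) : Polynomial O :=
  ∑ i : Fin h, Polynomial.monomial (i : ℕ) (a i)

lemma polyOf_coeff (h : ℕ) (a : Fin h → O) (i : Fin h) : (polyOf h a).coeff i = a i := by
  unfold polyOf
  rw [Polynomial.finset_sum_coeff]
  simp only [Polynomial.coeff_monomial]
  rw [Finset.sum_eq_single i]
  · simp
  · intro b _ hb
    rw [if_neg]
    intro hc
    exact hb (Fin.ext hc)
  · intro hmem
    exact absurd (Finset.mem_univ i) hmem

lemma polyOf_coeff_ge (h : ℕ) (a : Fin h → O) (m : ℕ) (hm : h ≤ m) : (polyOf h a).coeff m = 0 := by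
  unfold polyOf
  rw [Polynomial.finset_sum_coeff]
  apply Finset.sum_eq_zero
  intro i _
  rw [Polynomial.coeff_monomial, if_neg]
  have := i.2
  omega

lemma polyOf_degree (h : ℕ) (a : Fin h → O) : (polyOf h a).degree < h := by
  rw [Polynomial.degree_lt_iff_coeff_zero]
  intro m hm
  exact polyOf_coeff_ge h a m hm

lemma polyOf_coe (h : ℕ) (a : Fin h → O) :
    ((polyOf h a : Polynomial O) : PowerSeries O) = ∑ i : Fin h, C (a i) * X ^ (i : ℕ) := by
  rw [coe_eq_sum h _ (polyOf_degree h a)]
  refine Finset.sum_congr rfl fun i _ => ?_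
  rw [polyOf_coeff]

end Gen

section Main

variable {O : Type u} [CommRing O] [IsDomain O] [IsDiscreteValuationRing O]
  [IsAdicComplete (IsLocalRing.maximalIdeal O) O]

theorem forward (f : PowerSeries O) (hf0 : constantCoeff f = 0)
    (hne : ∃ n : ℕ, coeff n f ∉ IsLocalRing.maximalIdeal O) :
    ∃ (n : ℕ) (b : Fin n → PowerSeries O), ∀ g : PowerSeries O, ∃! c : Fin n → PowerSeries O,
      g = ∑ i, PowerSeries.subst f (c i) * b i := by
  have hg : f.map (IsLocalRing.residue O) ≠ 0 := by
    intro h0
    obtain ⟨n, hn⟩ := hne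
    apply hn
    have := congrArg (coeff n) h0
    rw [PowerSeries.coeff_map, map_zero, IsLocalRing.residue_eq_zero_iff] at this
    exact this
  obtain ⟨h, hh⟩ : ∃ h : ℕ, h = (f.map (IsLocalRing.residue O)).order.toNat := ⟨_, rfl⟩
  have hXf : (X : PowerSeries O) ∣ f := PowerSeries.X_dvd_iff.mpr hf0
  have hh' : (h : WithBot ℕ) =
      ((f.map (Ideal.Quotient.mk (IsLocalRing.maximalIdeal O))).order.toNat : WithBot ℕ) := by
    rw [hh]; rfl
  -- uniqueness
  have hU : ∀ (j : ℕ) (c : Fin h → PowerSeries O), Psi f h c = 0 → ∀ i, coeff j (c i) = 0 := by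
    intro j
    induction j with
    | zero =>
      intro c hc i
      rw [Psi_decomp f hf0, ← polyOf_coe] at hc
      have H : PowerSeries.IsWeierstrassDivision 0 f (Psi f h (fun i => shift (c i)))
          (polyOf h fun i => constantCoeff (c i)) :=
        ⟨by rw [← hh']; exact polyOf_degree h _, hc.symm⟩
      have h2 := (PowerSeries.IsWeierstrassDivision.eq_zero hg H).2
      have h3 := polyOf_coeff h (fun i => constantCoeff (c i)) i
      rw [h2, Polynomial.coeff_zero] at h3
      rw [PowerSeries.coeff_zero_eq_constantCoeff_apply]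
      exact h3.symm
    | succ j ih =>
      intro c hc i
      rw [Psi_decomp f hf0, ← polyOf_coe] at hc
      have H : PowerSeries.IsWeierstrassDivision 0 f (Psi f h (fun i => shift (c i)))
          (polyOf h fun i => constantCoeff (c i)) :=
        ⟨by rw [← hh']; exact polyOf_degree h _, hc.symm⟩
      have h1 := (PowerSeries.IsWeierstrassDivision.eq_zero hg H).1
      have := ih (fun i => shift (c i)) h1 i
      unfold shift at this
      rwa [PowerSeries.coeff_mk] at this
  -- existence
  obtain ⟨qd, hqd⟩ : ∃ qd : PowerSeries O → PowerSeries O, ∀ g, qd g = g /ʷ f := ⟨_, fun _ => rfl⟩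
  obtain ⟨rm, hrm⟩ : ∃ rm : PowerSeries O → Polynomial O, ∀ g, rm g = g %ʷ f := ⟨_, fun _ => rfl⟩
  have hdiv : ∀ g, g = f * qd g + (rm g : PowerSeries O) := by
    intro g
    rw [hqd, hrm]
    exact PowerSeries.eq_mul_weierstrassDiv_add_weierstrassMod g hg
  have hdeg : ∀ g, (rm g).degree < h := by
    intro g
    rw [hrm, hh]
    exact PowerSeries.degree_weierstrassMod_lt g f
  obtain ⟨cc, hcc⟩ : ∃ cc : PowerSeries O → Fin h → PowerSeries O,
      ∀ g i, cc g i = PowerSeries.mk fun j => (rm (qd^[j] g)).coeff i := ⟨_, fun _ _ => rfl⟩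
  have hcc0 : ∀ g i, constantCoeff (cc g i) = (rm g).coeff i := by
    intro g i
    rw [hcc, ← PowerSeries.coeff_zero_eq_constantCoeff_apply, PowerSeries.coeff_mk]
    rfl
  have hccs : ∀ g, (fun i => shift (cc g i)) = cc (qd g) := by
    intro g
    funext i
    rw [hcc, hcc]
    unfold shift
    ext j
    rw [PowerSeries.coeff_mk, PowerSeries.coeff_mk, PowerSeries.coeff_mk,
      Function.iterate_succ_apply]
  have hΔ : ∀ g, g - Psi f h (cc g) = f * (qd g - Psi f h (cc (qd g))) := by
    intro g
    rw [Psi_decomp f hf0, hccs]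
    have : ∑ i : Fin h, C (constantCoeff (cc g i)) * X ^ (i : ℕ) = (rm g : PowerSeries O) := by
      rw [coe_eq_sum h _ (hdeg g)]
      refine Finset.sum_congr rfl fun i _ => ?_
      rw [hcc0]
    rw [this]
    have e : g - (f * Psi f h (cc (qd g)) + (rm g : PowerSeries O)) =
        (f * qd g + (rm g : PowerSeries O)) - (f * Psi f h (cc (qd g)) + (rm g : PowerSeries O)) := by
      rw [← hdiv g]
    rw [e]
    ring
  have hΔN : ∀ (N : ℕ) (g : PowerSeries O), (X : PowerSeries O) ^ N ∣ g - Psi f h (cc g) := by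
    intro N
    induction N with
    | zero => intro g; simp
    | succ N ih =>
      intro g
      rw [hΔ g, pow_succ']
      exact mul_dvd_mul hXf (ih (qd g))
  have hE : ∀ g, g = Psi f h (cc g) := by
    intro g
    rw [← sub_eq_zero]
    ext N
    rw [map_zero]
    exact PowerSeries.X_pow_dvd_iff.mp (hΔN (N + 1) g) N (Nat.lt_succ_self N)
  refine ⟨h, fun i => X ^ (i : ℕ), fun g => ⟨cc g, hE g, ?_⟩⟩
  intro c' hc'
  have h0 : Psi f h (c' - cc g) = 0 := by
    rw [Psi_sub f hf0, sub_eq_zero]
    exact hc'.symm.trans (hE g)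
  funext i
  ext j
  have := hU j _ h0 i
  rwa [Pi.sub_apply, map_sub, sub_eq_zero] at this

theorem backward (f : PowerSeries O) (hf0 : constantCoeff f = 0)
    (hb : ∃ (n : ℕ) (b : Fin n → PowerSeries O), ∀ g : PowerSeries O,
      ∃ c : Fin n → PowerSeries O, g = ∑ i, PowerSeries.subst f (c i) * b i) :
    ∃ n : ℕ, coeff n f ∉ IsLocalRing.maximalIdeal O := by
  by_contra hall
  push Not at hall
  obtain ⟨n, b, hb⟩ := hb
  have hfbar : f.map (IsLocalRing.residue O) = 0 := by
    ext m
    rw [PowerSeries.coeff_map, map_zero, IsLocalRing.residue_eq_zero_iff]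
    exact hall m
  have hs : PowerSeries.HasSubst f := PowerSeries.HasSubst.of_constantCoeff_zero' hf0
  let κ := IsLocalRing.ResidueField O
  let bbar : Fin n → PowerSeries κ := fun i => (b i).map (IsLocalRing.residue O)
  let W : Submodule κ (PowerSeries κ) := Submodule.span κ (Set.range bbar)
  have hmem : ∀ g : PowerSeries O, g.map (IsLocalRing.residue O) ∈ W := by
    intro g
    obtain ⟨c, hc⟩ := hb g
    rw [hc, map_sum]
    refine Submodule.sum_mem _ fun i _ => ?_
    rw [map_mul]
    have h1 : PowerSeries.map (IsLocalRing.residue O) (PowerSeries.subst f (c i)) =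
        C (constantCoeff ((c i).map (IsLocalRing.residue O))) := by
      have e := PowerSeries.map_subst hs (h := IsLocalRing.residue O) (c i)
      have hfbar' : MvPowerSeries.map (IsLocalRing.residue O) f = 0 := hfbar
      rw [hfbar'] at e
      exact e.trans PowerSeries.subst_zero_eq_C_constantCoeff
    rw [h1, ← PowerSeries.smul_eq_C_mul]
    exact Submodule.smul_mem _ _ (Submodule.subset_span ⟨i, rfl⟩)
  have hli : LinearIndependent κ (fun j : Fin (n + 1) => (⟨(X : PowerSeries κ) ^ (j : ℕ), by
      have := hmem ((X : PowerSeries O) ^ (j : ℕ))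
      rwa [map_pow, PowerSeries.map_X] at this⟩ : W)) := by
    rw [Fintype.linearIndependent_iff]
    intro a ha j
    have h1 := congrArg (fun w : W => coeff (j : ℕ) (w : PowerSeries κ)) ha
    simp only [Submodule.coe_sum, Submodule.coe_smul, map_sum, PowerSeries.coeff_smul,
      PowerSeries.coeff_X_pow, Submodule.coe_zero, map_zero] at h1
    rw [Finset.sum_eq_single j] at h1
    · simpa using h1
    · intro i _ hi
      rw [if_neg, smul_zero]
      intro hc
      exact hi (Fin.ext hc.symm)
    · intro hmem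
      exact absurd (Finset.mem_univ j) hmem
  haveI : Module.Finite κ W := Module.Finite.span_of_finite κ (Set.finite_range bbar)
  have h1 := hli.fintype_card_le_finrank
  have h2 : Module.finrank κ W ≤ n := by
    have := finrank_range_le_card (R := κ) bbar
    rw [Fintype.card_fin] at this
    exact this
  rw [Fintype.card_fin] at h1
  omega

theorem main18476
    (p : ℕ) [Fact p.Prime]
    (F : FormalGroup O) :
    (∃ n : ℕ, PowerSeries.coeff n
        ((p • (show F.Point Unit from ⟨PowerSeries.X, PowerSeries.HasSubst.X'⟩)).val) ∉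
          IsLocalRing.maximalIdeal O) ↔
      ∃ (n : ℕ) (b : Fin n → PowerSeries O), ∀ g : PowerSeries O, ∃! c : Fin n → PowerSeries O,
        g = ∑ i, PowerSeries.subst
          ((p • (show F.Point Unit from ⟨PowerSeries.X, PowerSeries.HasSubst.X'⟩)).val) (c i) * b i := by
  obtain ⟨f, hf⟩ : ∃ f : PowerSeries O,
      f = (p • (show F.Point Unit from ⟨PowerSeries.X, PowerSeries.HasSubst.X'⟩)).val := ⟨_, rfl⟩
  have hf0 : constantCoeff f = 0 := by
    have h1 : PowerSeries.HasSubst f := by
      rw [hf]
      exact (p • (show F.Point Unit from ⟨PowerSeries.X, PowerSeries.HasSubst.X'⟩)).prop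
    exact IsNilpotent.eq_zero h1
  rw [← hf]
  constructor
  · exact forward f hf0
  · rintro ⟨n, b, hb⟩
    exact backward f hf0 ⟨n, b, fun g => (hb g).exists⟩

end Main

end Groth.Agent.Lib.PDivH1
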