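import Mathlib

/-!
# Purely inseparable-type tensor products have at most one prime (helper8)
APPEND-ONLY once landed.
-/

set_option autoImplicit false
universe u
open TensorProduct

namespace Groth.Agent.Lib.RadSteinH8

section

variable {A B L : Type u} [CommRing A] [CommRing B] [Field L] [Algebra A B] [Algebra A L]
  (p : ℕ) [ExpChar L p]

/-- every element of `B ⊗[A] L` has a `p^e`-th power in the image of `L` -/
theorem exists_pow_eq_one_tmul [Nontrivial (B ⊗[A] L)]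
    (hpow : ∀ b : B, ∃ e : ℕ, ∃ a₁ a₂ : A, algebraMap A L a₂ ≠ 0 ∧
      a₂ • b ^ (p ^ e) = algebraMap A B a₁) (t : B ⊗[A] L) :
    ∃ (e : ℕ) (l : L), t ^ (p ^ e) = (1 : B) ⊗ₜ[A] l := by
  haveI : ExpChar (B ⊗[A] L) p := by
    have hinj : Function.Injective (Algebra.TensorProduct.includeRight (R := A) (A := B) (B := L)) :=
      (Algebra.TensorProduct.includeRight (R := A) (A := B) (B := L)).toRingHom.injective
    exact expChar_of_injective_ringHom
      (f := (Algebra.TensorProduct.includeRight (R := A) (A := B) (B := L)).toRingHom) hinj p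
  induction t using TensorProduct.induction_on with
  | zero =>
    refine ⟨0, 0, ?_⟩
    rw [pow_zero, pow_one, TensorProduct.tmul_zero]
  | tmul b l =>
    obtain ⟨e, a₁, a₂, ha₂, hb⟩ := hpow b
    refine ⟨e, a₁ • ((algebraMap A L a₂)⁻¹ * l ^ (p ^ e)), ?_⟩
    rw [Algebra.TensorProduct.tmul_pow]
    have h1 : l ^ (p ^ e) = a₂ • ((algebraMap A L a₂)⁻¹ * l ^ (p ^ e)) := by
      rw [Algebra.smul_def, ← mul_assoc, mul_inv_cancel₀ ha₂, one_mul]
    calc (b ^ (p ^ e)) ⊗ₜ[A] (l ^ (p ^ e))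
        = (b ^ (p ^ e)) ⊗ₜ[A] (a₂ • ((algebraMap A L a₂)⁻¹ * l ^ (p ^ e))) :=
          congrArg (fun m => (b ^ (p ^ e)) ⊗ₜ[A] m) h1
      _ = (a₂ • b ^ (p ^ e)) ⊗ₜ[A] ((algebraMap A L a₂)⁻¹ * l ^ (p ^ e)) :=
          (TensorProduct.smul_tmul _ _ _).symm
      _ = (a₁ • (1 : B)) ⊗ₜ[A] ((algebraMap A L a₂)⁻¹ * l ^ (p ^ e)) := by
          rw [hb, Algebra.algebraMap_eq_smul_one]
      _ = (1 : B) ⊗ₜ[A] (a₁ • ((algebraMap A L a₂)⁻¹ * l ^ (p ^ e))) :=
          TensorProduct.smul_tmul _ _ _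
  | add t₁ t₂ h₁ h₂ =>
    obtain ⟨e₁, l₁, h₁⟩ := h₁
    obtain ⟨e₂, l₂, h₂⟩ := h₂
    refine ⟨e₁ + e₂, l₁ ^ (p ^ e₂) + l₂ ^ (p ^ e₁), ?_⟩
    rw [add_pow_expChar_pow, pow_add, pow_mul, h₁, mul_comm, pow_mul, h₂,
      Algebra.TensorProduct.tmul_pow, Algebra.TensorProduct.tmul_pow, one_pow, one_pow,
      TensorProduct.tmul_add]

/-- `Spec (B ⊗[A] L)` has at most one point -/
theorem subsingleton_primeSpectrum_tensor
    (hpow : ∀ b : B, ∃ e : ℕ, ∃ a₁ a₂ : A, algebraMap A L a₂ ≠ 0 ∧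
      a₂ • b ^ (p ^ e) = algebraMap A B a₁) :
    Subsingleton (PrimeSpectrum (B ⊗[A] L)) := by
  rcases subsingleton_or_nontrivial (B ⊗[A] L) with hs | hn
  · exact ⟨fun P Q => (P.isPrime.ne_top (Ideal.eq_top_iff_one _ |>.mpr
      (by rw [Subsingleton.elim (1 : B ⊗[A] L) 0]; exact Ideal.zero_mem _))).elim⟩
  · have key : ∀ P Q : PrimeSpectrum (B ⊗[A] L), P.asIdeal ≤ Q.asIdeal := by
      intro P Q t ht
      obtain ⟨e, l, hl⟩ := exists_pow_eq_one_tmul p hpow t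
      have h1 : (1 : B) ⊗ₜ[A] l ∈ P.asIdeal := by
        rw [← hl]; exact Ideal.pow_mem_of_mem _ ht _ (pow_pos (expChar_pos L p) e)
      have hl0 : l = 0 := by
        by_contra hne
        apply P.isPrime.ne_top
        rw [Ideal.eq_top_iff_one]
        have h2 : ((1 : B) ⊗ₜ[A] l⁻¹) * ((1 : B) ⊗ₜ[A] l) = 1 := by
          rw [Algebra.TensorProduct.tmul_mul_tmul, one_mul, inv_mul_cancel₀ hne]
          rfl
        rw [← h2]
        exact Ideal.mul_mem_left _ _ h1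
      rw [hl0, TensorProduct.tmul_zero] at hl
      exact Q.isPrime.mem_of_pow_mem _ (hl ▸ Ideal.zero_mem _)
    exact ⟨fun P Q => PrimeSpectrum.ext (le_antisymm (key P Q) (key Q P))⟩

end

end Groth.Agent.Lib.RadSteinH8
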