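import Mathlib
import Groth.Prelude
import Groth.Agent.Lib.RadStein1_helper8

/-!
# Base change of an affine morphism to a field-valued point as `Spec` of a tensor product (helper8)
APPEND-ONLY once landed.
-/

set_option autoImplicit false
universe u
open CategoryTheory CategoryTheory.Limits AlgebraicGeometry TopologicalSpace Opposite TensorProduct

namespace Groth.Agent.Lib.RadSteinH8

section

variable {Y' Y : Scheme.{u}} (g : Y' ⟶ Y) [IsAffineHom g] {V : Y.Opens} (hV : IsAffineOpen V)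

theorem isPullback_fromSpec :
    IsPullback (Spec.map (g.app V)) (hV.preimage g).fromSpec hV.fromSpec g := by
  apply IsOpenImmersion.isPullback
  · have := IsAffineOpen.SpecMap_appLE_fromSpec g hV (hV.preimage g) le_rfl
    rw [← Scheme.Hom.app_eq_appLE] at this
    exact this.symm
  · rw [hV.opensRange_fromSpec, (hV.preimage g).opensRange_fromSpec]

variable {L : Type u} [Field L] (ψ : Γ(Y, V) →+* L)

/-- `Y' ×_Y Spec L ≅ Spec (Γ(Y', g⁻¹V) ⊗_{Γ(Y,V)} L)` -/
theorem nonempty_pullback_iso :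
    letI := (g.app V).hom.toAlgebra
    letI := ψ.toAlgebra
    Nonempty (pullback g (Spec.map (CommRingCat.ofHom ψ) ≫ hV.fromSpec) ≅
      Spec (CommRingCat.of (Γ(Y', g ⁻¹ᵁ V) ⊗[Γ(Y, V)] L))) := by
  letI := (g.app V).hom.toAlgebra
  letI := ψ.toAlgebra
  have hpo := CommRingCat.isPushout_tensorProduct Γ(Y, V) Γ(Y', g ⁻¹ᵁ V) L
  have sqL := isPullback_SpecMap_of_isPushout _ _ _ _ hpo
  have e1 : CommRingCat.ofHom (algebraMap Γ(Y, V) Γ(Y', g ⁻¹ᵁ V)) = g.app V := rfl
  have e2 : CommRingCat.ofHom (algebraMap Γ(Y, V) L) = CommRingCat.ofHom ψ := rfl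
  rw [e1, e2] at sqL
  have sqR := isPullback_fromSpec g hV
  have big := sqL.flip.paste_vert sqR
  exact ⟨(big.flip.isoPullback).symm⟩

end

end Groth.Agent.Lib.RadSteinH8
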