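import Mathlib
import Groth.Prelude
import Groth.Agent.Lib.RadStein2_helper8
import Groth.Agent.Lib.ZConn5_helper8
import Groth.Agent.Lib.FibPts3_helper8
import Groth.Agent.Lib.PushforwardNormal_helper7

/-!
# The finite part of the Stein factorization is radicial under universal openness (helper8)
APPEND-ONLY once landed.
-/

set_option autoImplicit false
universe u
open CategoryTheory CategoryTheory.Limits AlgebraicGeometry TopologicalSpace Opposite TensorProduct

namespace Groth.Agent.Lib.RadSteinH8

/-- irreducible components of the target of a surjection dominate whenever those of the source do -/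
theorem dense_image_of_mem_irreducibleComponents {W Z S : Type*} [TopologicalSpace W]
    [TopologicalSpace Z] [TopologicalSpace S] [QuasiSober Z] (φ : W → Z) (hφ : Continuous φ)
    (hφs : Function.Surjective φ) (q : Z → S)
    (hW : ∀ W₀ ∈ irreducibleComponents W, Dense ((q ∘ φ) '' W₀))
    (Z₀ : Set Z) (hZ₀ : Z₀ ∈ irreducibleComponents Z) : Dense (q '' Z₀) := by
  have hirr : IsIrreducible Z₀ := hZ₀.1
  have hcl : IsClosed Z₀ := isClosed_of_mem_irreducibleComponents Z₀ hZ₀
  obtain ⟨ζ, hζ⟩ := QuasiSober.sober hirr hcl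
  obtain ⟨w, rfl⟩ := hφs ζ
  have hW₀ := irreducibleComponent_mem_irreducibleComponents w
  have hw : w ∈ irreducibleComponent w := mem_irreducibleComponent
  have hirr' : IsIrreducible (closure (φ '' irreducibleComponent w)) :=
    (isIrreducible_irreducibleComponent.image φ hφ.continuousOn).closure
  have hsub : Z₀ ⊆ closure (φ '' irreducibleComponent w) := by
    rw [← hζ.def]
    exact closure_minimal (Set.singleton_subset_iff.mpr (subset_closure ⟨w, hw, rfl⟩))
      isClosed_closure
  have hle : closure (φ '' irreducibleComponent w) ⊆ Z₀ := hZ₀.2 hirr' hsub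
  have h1 : φ '' irreducibleComponent w ⊆ Z₀ := subset_closure.trans hle
  refine (hW _ hW₀).mono ?_
  rw [Set.image_comp]
  exact Set.image_mono h1

section Norm

variable {X Y : Scheme.{u}} [IsIntegral X] [IsLocallyNoetherian Y] (f : X ⟶ Y) [IsProper f]

theorem isIntegral_normalization : IsIntegral f.normalization := by
  haveI : IrreducibleSpace ↥f.normalization := by
    have h1 := (IrreducibleSpace.isIrreducible_univ X).image f.toNormalization
      f.toNormalization.continuous.continuousOn
    rw [Set.image_univ, (ZConnH8.surjective_toNormalization f).range_eq] at h1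
    exact (irreducibleSpace_def _).mpr h1
  haveI : IsReduced f.normalization := by
    constructor
    intro U
    haveI := Groth.Agent.S1340.result f U
    have hinj : Function.Injective (f.toNormalization.app U).hom :=
      (ConcreteCategory.bijective_of_isIso (f.toNormalization.app U)).1
    exact isReduced_of_injective (f.toNormalization.app U).hom hinj
  exact isIntegral_of_irreducibleSpace_of_isReduced _

theorem toNormalization_genericPoint [IsIntegral f.normalization] :
    f.toNormalization (genericPoint X) = genericPoint f.normalization := by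
  have h1 : IsGenericPoint (f.toNormalization (genericPoint X))
      (closure (f.toNormalization '' Set.univ)) :=
    (genericPoint_spec X).image f.toNormalization.continuous
  rw [Set.image_univ, (ZConnH8.surjective_toNormalization f).range_eq, closure_univ] at h1
  exact ((genericPoint_spec f.normalization).eq h1).symm

variable [IsIntegral Y] (hdom : f (genericPoint X) ⤳ genericPoint Y)

include hdom in
omit [IsLocallyNoetherian Y] [IsProper f] in
theorem map_genericPoint : f (genericPoint X) = genericPoint Y :=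
  hdom.antisymm (genericPoint_specializes _) |>.eq

include hdom in
theorem fromNormalization_genericPoint [IsIntegral f.normalization] :
    f.fromNormalization (genericPoint f.normalization) = genericPoint Y := by
  rw [← toNormalization_genericPoint f, ← Scheme.Hom.comp_apply,
    f.toNormalization_fromNormalization]
  exact map_genericPoint f hdom

end Norm

section Generic

variable {X Y' Y : Scheme.{u}} [IsIntegral X] [IsIntegral Y'] [IsIntegral Y]
  (h : X ⟶ Y') (g : Y' ⟶ Y) [IsIntegralHom g]

omit [IsIntegral X] in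
/-- the only point of `Y'` over the generic point of `Y` is the generic point -/
theorem eq_genericPoint_of_map_eq (hg : g (genericPoint Y') = genericPoint Y)
    (y'' : Y') (hy'' : g y'' = genericPoint Y) : y'' = genericPoint Y' := by
  obtain ⟨_, ⟨V, hV, rfl⟩, hηV, -⟩ := Y.isBasis_affineOpens.exists_subset_of_mem_open
    (Set.mem_univ (genericPoint Y)) isOpen_univ
  have hy''V : y'' ∈ g ⁻¹ᵁ V := by show g y'' ∈ V; rw [hy'']; exact hηV
  have hη'V : genericPoint Y' ∈ g ⁻¹ᵁ V := by show g (genericPoint Y') ∈ V; rw [hg]; exact hηV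
  haveI : Nonempty V := ⟨⟨_, hηV⟩⟩
  haveI : IsDomain Γ(Y', g ⁻¹ᵁ V) :=
    @IsIntegral.component_integral Y' _ (g ⁻¹ᵁ V) ⟨⟨_, hη'V⟩⟩
  have key : ∀ (t : Y') (ht : t ∈ g ⁻¹ᵁ V), g t = genericPoint Y →
      ((hV.preimage g).primeIdealOf ⟨t, ht⟩).asIdeal = ⊥ := by
    intro t ht hgt
    have h1 := IsAffineOpen.comap_primeIdealOf_appLE (f := g) (x := t) V hV (g ⁻¹ᵁ V)
      (hV.preimage g) le_rfl ht
    have h2 := congrArg PrimeSpectrum.asIdeal h1
    rw [← Scheme.Hom.app_eq_appLE] at h2
    have h3 : hV.primeIdealOf ⟨g t, ht⟩ = genericPoint (Spec Γ(Y, V)) := by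
      rw [← hV.primeIdealOf_genericPoint]
      exact congrArg hV.primeIdealOf (Subtype.ext hgt)
    rw [h3, genericPoint_eq_bot_of_affine] at h2
    letI := (g.app V).hom.toAlgebra
    haveI : Algebra.IsIntegral Γ(Y, V) Γ(Y', g ⁻¹ᵁ V) := ⟨IsIntegralHom.isIntegral_app g V hV⟩
    exact Ideal.eq_bot_of_comap_eq_bot h2
  have h1 : (hV.preimage g).primeIdealOf ⟨y'', hy''V⟩ =
      (hV.preimage g).primeIdealOf ⟨genericPoint Y', hη'V⟩ :=
    PrimeSpectrum.ext ((key y'' hy''V hy'').trans (key _ hη'V hg).symm)
  have := congrArg (hV.preimage g).fromSpec h1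
  rwa [IsAffineOpen.fromSpec_primeIdealOf, IsAffineOpen.fromSpec_primeIdealOf] at this

omit [IsIntegral Y'] in
/-- sections of `Y'` have `p`-power multiples coming from `Y` -/
theorem exists_pow_mul_eq
    (hdom : (h ≫ g) (genericPoint X) ⤳ genericPoint Y)
    (hrad : ∀ x : X.functionField,
      (∃ q : Polynomial Y.functionField, q ≠ 0 ∧
        Polynomial.eval₂ (CohIII.stalkToFunctionField (h ≫ g) (genericPoint Y) hdom) x q = 0) →
      ∃ e : ℕ, x ^ (ringExpChar X.functionField ^ e) ∈
        Set.range (CohIII.stalkToFunctionField (h ≫ g) (genericPoint Y) hdom))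
    {V : Y.Opens} (hV : IsAffineOpen V) (hηV' : h (genericPoint X) ∈ g ⁻¹ᵁ V)
    (hηV : genericPoint Y ∈ V) (hinj : Function.Injective (h.app (g ⁻¹ᵁ V)).hom)
    (b : Γ(Y', g ⁻¹ᵁ V)) :
    ∃ (e : ℕ) (a₁ a₂ : Γ(Y, V)), a₂ ≠ 0 ∧
      (g.app V).hom a₂ * b ^ (ringExpChar X.functionField ^ e) = (g.app V).hom a₁ := by
  haveI : Nonempty V := ⟨⟨_, hηV⟩⟩
  haveI : IsFractionRing Γ(Y, V) Y.functionField :=
    functionField_isFractionRing_of_isAffineOpen Y V hV
  have hmem := FibPtsH8.betaFF_mem h g hV hηV' (genericPoint Y) hηV hdom b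
  obtain ⟨P, hP, hPb⟩ := (FibPtsH8.mem_integralClosureStalk_iff _ _ hdom _).mp hmem
  obtain ⟨e, k, hk⟩ := hrad _ ⟨P, hP.ne_zero, hPb⟩
  obtain ⟨⟨a₁, a₂⟩, hka⟩ := IsLocalization.surj (nonZeroDivisors Γ(Y, V)) k
  refine ⟨e, a₁, a₂.1, nonZeroDivisors.ne_zero a₂.2, ?_⟩
  have hβinj : Function.Injective (FibPtsH8.betaFF h g V hηV') := by
    intro b b' hbb
    apply hinj
    exact germ_injective_of_isIntegral X (genericPoint X) hηV' hbb
  apply hβinj
  have happ : ∀ a : Γ(Y, V), FibPtsH8.betaFF h g V hηV' ((g.app V).hom a) =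
      CohIII.stalkToFunctionField (h ≫ g) (genericPoint Y) hdom
        (algebraMap Γ(Y, V) Y.functionField a) :=
    fun a => FibPtsH8.betaFF_app h g V hηV' (genericPoint Y) hηV hdom a
  rw [map_mul, map_pow, happ, happ, ← hk, ← map_mul, mul_comm]
  exact congrArg _ hka

/-- the generic fibre of the second projection `Y' ×_Y Y' ⟶ Y'` has at most one point -/
theorem subsingleton_pullback_generic
    (hdom : (h ≫ g) (genericPoint X) ⤳ genericPoint Y)
    (hrad : ∀ x : X.functionField,
      (∃ q : Polynomial Y.functionField, q ≠ 0 ∧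
        Polynomial.eval₂ (CohIII.stalkToFunctionField (h ≫ g) (genericPoint Y) hdom) x q = 0) →
      ∃ e : ℕ, x ^ (ringExpChar X.functionField ^ e) ∈
        Set.range (CohIII.stalkToFunctionField (h ≫ g) (genericPoint Y) hdom))
    (hinj : ∀ U : Y'.Opens, Function.Injective (h.app U).hom)
    (hg : g (genericPoint Y') = genericPoint Y) (hh : h (genericPoint X) = genericPoint Y') :
    Subsingleton ↥(pullback g (Y'.fromSpecResidueField (genericPoint Y') ≫ g)) := by
  obtain ⟨_, ⟨V, hV, rfl⟩, hηV, -⟩ := Y.isBasis_affineOpens.exists_subset_of_mem_open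
    (Set.mem_univ (genericPoint Y)) isOpen_univ
  have hη'V : genericPoint Y' ∈ g ⁻¹ᵁ V := by show g (genericPoint Y') ∈ V; rw [hg]; exact hηV
  have hηV' : h (genericPoint X) ∈ g ⁻¹ᵁ V := by rw [hh]; exact hη'V
  obtain ⟨ψc, hψc⟩ : ∃ ψc : Γ(Y, V) ⟶ Y'.residueField (genericPoint Y'),
      ψc = g.app V ≫ Y'.presheaf.germ (g ⁻¹ᵁ V) (genericPoint Y') hη'V ≫
        Y'.residue (genericPoint Y') := ⟨_, rfl⟩
  have hξ : Spec.map (CommRingCat.ofHom ψc.hom) ≫ hV.fromSpec =
      Y'.fromSpecResidueField (genericPoint Y') ≫ g := by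
    have h0 : CommRingCat.ofHom ψc.hom = ψc := rfl
    have h1 := IsAffineOpen.SpecMap_appLE_fromSpec g hV (hV.preimage g) le_rfl
    rw [← Scheme.Hom.app_eq_appLE] at h1
    rw [h0, hψc, Spec.map_comp, Spec.map_comp, Category.assoc, Category.assoc, h1,
      ← Category.assoc (Spec.map (Y'.presheaf.germ (g ⁻¹ᵁ V) (genericPoint Y') hη'V))]
    have h2 : Spec.map (Y'.presheaf.germ (g ⁻¹ᵁ V) (genericPoint Y') hη'V) ≫
        (hV.preimage g).fromSpec = Y'.fromSpecStalk (genericPoint Y') :=
      (hV.preimage g).fromSpecStalk_eq_fromSpecStalk hη'V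
    rw [h2]
    rfl
  obtain ⟨e⟩ := nonempty_pullback_iso g hV ψc.hom
  rw [hξ] at e
  -- injectivity
  have hφinj : Function.Injective (g.app V).hom := by
    have h1 : Function.Injective ((h ≫ g).app V).hom :=
      PushforwardNormalH7.app_injective (h ≫ g) hdom V ⟨_, hηV⟩
    intro a a' haa
    apply h1
    show (h.app (g ⁻¹ᵁ V)).hom ((g.app V).hom a) = (h.app (g ⁻¹ᵁ V)).hom ((g.app V).hom a')
    rw [haa]
  have hψinj : Function.Injective ψc.hom := by
    intro a a' haa
    apply hφinj
    apply germ_injective_of_isIntegral Y' (genericPoint Y') hη'V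
    apply (Y'.residue (genericPoint Y')).hom.injective
    rw [hψc] at haa
    exact haa
  -- exponential characteristic
  haveI : ExpChar X.functionField (ringExpChar X.functionField) := ringExpChar.expChar _
  have hβφ : Function.Injective ((FibPtsH8.betaFF h g V hηV').comp (g.app V).hom) := by
    intro a a' haa
    apply hφinj
    apply hinj
    exact germ_injective_of_isIntegral X (genericPoint X) hηV' haa
  haveI : ExpChar Γ(Y, V) (ringExpChar X.functionField) :=
    RingHom.expChar _ hβφ _
  haveI : ExpChar (Y'.residueField (genericPoint Y')) (ringExpChar X.functionField) :=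
    expChar_of_injective_ringHom hψinj _
  letI := (g.app V).hom.toAlgebra
  letI := ψc.hom.toAlgebra
  have hsub : Subsingleton (PrimeSpectrum (Γ(Y', g ⁻¹ᵁ V) ⊗[Γ(Y, V)]
      (Y'.residueField (genericPoint Y')))) := by
    apply subsingleton_primeSpectrum_tensor (ringExpChar X.functionField)
    intro b
    obtain ⟨e', a₁, a₂, ha₂, hab⟩ := exists_pow_mul_eq h g hdom hrad hV hηV' hηV (hinj _) b
    refine ⟨e', a₁, a₂, ?_, hab⟩
    intro h0
    apply ha₂
    apply hψinj
    rw [map_zero]
    exact h0
  have hsub' : Subsingleton ↥(Spec (CommRingCat.of (Γ(Y', g ⁻¹ᵁ V) ⊗[Γ(Y, V)]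
      (Y'.residueField (genericPoint Y'))))) := hsub
  exact @Function.Injective.subsingleton _ _ _ (Scheme.homeoOfIso e).injective hsub'

/-- the diagonal of `g` is surjective when every irreducible component of `Y' ×_Y Y'` dominates
the second factor -/
theorem surjective_diagonal [IsSeparated g]
    (hdom : (h ≫ g) (genericPoint X) ⤳ genericPoint Y)
    (hrad : ∀ x : X.functionField,
      (∃ q : Polynomial Y.functionField, q ≠ 0 ∧
        Polynomial.eval₂ (CohIII.stalkToFunctionField (h ≫ g) (genericPoint Y) hdom) x q = 0) →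
      ∃ e : ℕ, x ^ (ringExpChar X.functionField ^ e) ∈
        Set.range (CohIII.stalkToFunctionField (h ≫ g) (genericPoint Y) hdom))
    (hinj : ∀ U : Y'.Opens, Function.Injective (h.app U).hom)
    (hg : g (genericPoint Y') = genericPoint Y) (hh : h (genericPoint X) = genericPoint Y')
    (hcomp : ∀ Z₀ ∈ irreducibleComponents ↥(pullback g g),
      Dense ((pullback.snd g g) '' Z₀)) :
    Function.Surjective (pullback.diagonal g) := by
  have hsub := subsingleton_pullback_generic h g hdom hrad hinj hg hh
  obtain ⟨ζ, hζ⟩ : ∃ ζ : Spec (Y'.residueField (genericPoint Y')) ⟶ Y',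
      ζ = Y'.fromSpecResidueField (genericPoint Y') := ⟨_, rfl⟩
  rw [← hζ] at hsub
  have hpb : IsPullback (pullback.fst (pullback.snd g g) ζ ≫ pullback.fst g g)
      (pullback.snd (pullback.snd g g) ζ) g (ζ ≫ g) :=
    ((IsPullback.of_hasPullback (pullback.snd g g) ζ).flip.paste_vert
      (IsPullback.of_hasPullback g g).flip).flip
  have hsub2 : Subsingleton ↥(pullback (pullback.snd g g) ζ) :=
    @Function.Injective.subsingleton _ _ _ (Scheme.homeoOfIso hpb.isoPullback).injective hsub
  have key : ∀ z z' : ↥(pullback g g), (pullback.snd g g) z = genericPoint Y' →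
      (pullback.snd g g) z' = genericPoint Y' → z = z' := by
    intro z z' hz hz'
    obtain ⟨pt⟩ : Nonempty ↥(Spec (Y'.residueField (genericPoint Y'))) :=
      ⟨IsLocalRing.closedPoint _⟩
    have hpt : ζ pt = genericPoint Y' := by
      rw [hζ]; exact Scheme.fromSpecResidueField_apply _ _
    obtain ⟨w, hw, -⟩ := Scheme.Pullback.exists_preimage_pullback (f := pullback.snd g g)
      (g := ζ) z pt (by rw [hz, hpt])
    obtain ⟨w', hw', -⟩ := Scheme.Pullback.exists_preimage_pullback (f := pullback.snd g g)
      (g := ζ) z' pt (by rw [hz', hpt])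
    rw [← hw, ← hw', Subsingleton.elim w w']
  intro z
  have hmem := irreducibleComponent_mem_irreducibleComponents z
  have hirr : IsIrreducible (irreducibleComponent z) := isIrreducible_irreducibleComponent
  have hcl : IsClosed (irreducibleComponent z) := isClosed_irreducibleComponent
  obtain ⟨z₀, hz₀⟩ := QuasiSober.sober hirr hcl
  have hgen : (pullback.snd g g) z₀ = genericPoint Y' := by
    have h1 : Dense ((pullback.snd g g) '' irreducibleComponent z) := hcomp _ hmem
    have h2 : (pullback.snd g g) '' irreducibleComponent z ⊆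
        closure {(pullback.snd g g) z₀} := by
      rw [← hz₀.def]
      refine (image_closure_subset_closure_image (pullback.snd g g).continuous).trans ?_
      rw [Set.image_singleton]
    have h3 : closure {(pullback.snd g g) z₀} = Set.univ := by
      apply Set.eq_univ_of_univ_subset
      rw [← h1.closure_eq]
      exact closure_minimal h2 isClosed_closure
    have h4 : IsGenericPoint ((pullback.snd g g) z₀) Set.univ := h3
    exact ((genericPoint_spec Y').eq h4).symm
  have hΔ : (pullback.snd g g) ((pullback.diagonal g) (genericPoint Y')) = genericPoint Y' := by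
    rw [← Scheme.Hom.comp_apply, pullback.diagonal_snd]
    rfl
  have hz₀Δ : z₀ = (pullback.diagonal g) (genericPoint Y') := key _ _ hgen hΔ
  have hclosed : IsClosed (Set.range (pullback.diagonal g)) :=
    (pullback.diagonal g).isClosedEmbedding.isClosed_range
  have hsubset : irreducibleComponent z ⊆ Set.range (pullback.diagonal g) := by
    rw [← hz₀.def]
    exact closure_minimal (Set.singleton_subset_iff.mpr ⟨_, hz₀Δ.symm⟩) hclosed
  exact hsubset mem_irreducibleComponent

end Generic

end Groth.Agent.Lib.RadSteinH8
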