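import Mathlib
import Groth.Prelude

/-!
# Unibranch local domains and purely inseparable integral closures (helper8)
APPEND-ONLY once landed.
-/

set_option autoImplicit false
universe u

namespace Groth.Agent.Lib.UnibrH8

section NormRed

variable (A : Type u) [CommRing A] [IsDomain A] (K : Type u) [Field K] [Algebra A K]
  [IsFractionRing A K]

/-- for a domain, `normRed A` is the integral closure of `A` in its fraction field -/
theorem nonempty_normRed_equiv : Nonempty (CAlg2.normRed A ≃+* integralClosure A K) := by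
  have hnil : nilradical A = ⊥ := nilradical_eq_zero A
  obtain ⟨e₀⟩ : Nonempty (CAlg2.red A ≃+* A) :=
    ⟨(Ideal.quotEquivOfEq hnil).trans (RingEquiv.quotientBot A)⟩
  haveI : IsDomain (CAlg2.red A) := e₀.toMulEquiv.isDomain
  have H : Submonoid.map e₀.toMonoidHom (nonZeroDivisors (CAlg2.red A)) = nonZeroDivisors A :=
    MulEquivClass.map_nonZeroDivisors e₀
  obtain ⟨ε, hε⟩ : ∃ ε : FractionRing (CAlg2.red A) ≃+* K,
      ∀ x, ε (algebraMap (CAlg2.red A) (FractionRing (CAlg2.red A)) x) = algebraMap A K (e₀ x) :=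
    ⟨IsLocalization.ringEquivOfRingEquiv (FractionRing (CAlg2.red A)) K e₀ H,
      fun x => IsLocalization.ringEquivOfRingEquiv_eq H x⟩
  have hε' : ∀ a : A, ε.symm (algebraMap A K a) =
      algebraMap (CAlg2.red A) (FractionRing (CAlg2.red A)) (e₀.symm a) := by
    intro a
    rw [RingEquiv.symm_apply_eq, hε, RingEquiv.apply_symm_apply]
  have h1 : ∀ x : FractionRing (CAlg2.red A),
      x ∈ integralClosure (CAlg2.red A) (FractionRing (CAlg2.red A)) →
      ε x ∈ integralClosure A K := by
    rintro x ⟨P, hP, hPx⟩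
    refine ⟨P.map e₀.toRingHom, hP.map _, ?_⟩
    rw [Polynomial.eval₂_map]
    have : (algebraMap A K).comp e₀.toRingHom =
        ε.toRingHom.comp (algebraMap (CAlg2.red A) (FractionRing (CAlg2.red A))) := by
      ext t; exact (hε t).symm
    rw [this]
    have h2 := Polynomial.hom_eval₂ P (algebraMap (CAlg2.red A) (FractionRing (CAlg2.red A)))
      ε.toRingHom x
    exact h2.symm.trans (by rw [hPx, map_zero])
  have h2 : ∀ x : K, x ∈ integralClosure A K →
      ε.symm x ∈ integralClosure (CAlg2.red A) (FractionRing (CAlg2.red A)) := by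
    rintro x ⟨P, hP, hPx⟩
    refine ⟨P.map e₀.symm.toRingHom, hP.map _, ?_⟩
    rw [Polynomial.eval₂_map]
    have : (algebraMap (CAlg2.red A) (FractionRing (CAlg2.red A))).comp e₀.symm.toRingHom =
        ε.symm.toRingHom.comp (algebraMap A K) := by
      ext t; exact (hε' t).symm
    rw [this]
    have h2 := Polynomial.hom_eval₂ P (algebraMap A K) ε.symm.toRingHom x
    exact h2.symm.trans (by rw [hPx, map_zero])
  refine ⟨{ toFun := fun x => ⟨ε x.1, h1 x.1 x.2⟩
            invFun := fun x => ⟨ε.symm x.1, h2 x.1 x.2⟩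
            left_inv := fun x => Subtype.ext (ε.symm_apply_apply x.1)
            right_inv := fun x => Subtype.ext (ε.apply_symm_apply x.1)
            map_mul' := fun x x' => Subtype.ext (map_mul ε x.1 x'.1)
            map_add' := fun x x' => Subtype.ext (map_add ε x.1 x'.1) }⟩

theorem isLocalRing_integralClosure_of_isUnibranch [IsLocalRing A] (hA : CAlg2.IsUnibranch A) :
    IsLocalRing (integralClosure A K) := by
  obtain ⟨e⟩ := nonempty_normRed_equiv A K
  haveI := hA.2
  exact e.isLocalRing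

end NormRed

section Insep

variable {A : Type u} [CommRing A] [IsDomain A] {K : Type u} [Field K] [Algebra A K]
  [IsFractionRing A K] {L : Type u} [Field L] (ι : K →+* L) (φ : A →+* L)
  (hφ : φ = ι.comp (algebraMap A K)) (C : Subring L) (hC : ∀ x, x ∈ C ↔ φ.IsIntegralElem x)

include hφ hC in
theorem map_mem_of_integral (b : integralClosure A K) : ι b.1 ∈ C := by
  rw [hC]
  obtain ⟨P, hP, hPb⟩ := b.2
  refine ⟨P, hP, ?_⟩
  rw [hφ, ← Polynomial.hom_eval₂, hPb, map_zero]

include hφ hC in
theorem mem_integral_of_map_mem (a : K) (ha : ι a ∈ C) : a ∈ integralClosure A K := by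
  rw [hC] at ha
  obtain ⟨P, hP, hPa⟩ := ha
  refine ⟨P, hP, ?_⟩
  apply ι.injective
  rw [map_zero, Polynomial.hom_eval₂, ← hφ]
  exact hPa

include hφ hC in
/-- if a positive power of `c ∈ C` is the image of a unit of the integral closure, `c` is a unit -/
theorem isUnit_of_pow_eq (c : C) (n : ℕ) (hn : n ≠ 0) (a : integralClosure A K)
    (hca : ι a.1 = (c : L) ^ n) (ha : IsUnit a) : IsUnit c := by
  obtain ⟨b, hab⟩ := ha.exists_right_inv
  have h1 : ι a.1 * ι b.1 = 1 := by
    rw [← map_mul]
    have : a.1 * b.1 = 1 := congrArg Subtype.val hab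
    rw [this, map_one]
  have hbC : ι b.1 ∈ C := map_mem_of_integral ι φ hφ C hC b
  obtain ⟨k, rfl⟩ : ∃ k, n = k + 1 := Nat.exists_eq_succ_of_ne_zero hn
  refine IsUnit.of_mul_eq_one (⟨(c : L) ^ k * ι b.1, C.mul_mem (C.pow_mem c.2 k) hbC⟩ : C) ?_
  apply Subtype.ext
  show (c : L) * ((c : L) ^ k * ι b.1) = 1
  rw [← mul_assoc, ← pow_succ', ← hca, h1]

include hφ hC in
/-- `C` is local when the integral closure of `A` in `K` is local and `C` is purely inseparable
over it -/
theorem isLocalRing_of_purelyInsep [IsLocalRing (integralClosure A K)]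
    (hrad : ∀ x ∈ C, ∃ e : ℕ, x ^ (ringExpChar L ^ e) ∈ Set.range ι) :
    IsLocalRing C := by
  haveI : ExpChar L (ringExpChar L) := ringExpChar.expChar L
  have hpos : ∀ e : ℕ, ringExpChar L ^ e ≠ 0 := fun e =>
    pow_ne_zero e (expChar_pos L (ringExpChar L)).ne'
  apply IsLocalRing.of_isUnit_or_isUnit_one_sub_self
  intro c
  obtain ⟨e, a, ha⟩ := hrad c.1 c.2
  have haC : ι a ∈ C := by rw [ha]; exact C.pow_mem c.2 _
  have haint : a ∈ integralClosure A K := mem_integral_of_map_mem ι φ hφ C hC a haC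
  rcases IsLocalRing.isUnit_or_isUnit_one_sub_self (⟨a, haint⟩ : integralClosure A K) with hu | hu
  · left
    exact isUnit_of_pow_eq ι φ hφ C hC c _ (hpos e) ⟨a, haint⟩ ha hu
  · right
    refine isUnit_of_pow_eq ι φ hφ C hC (1 - c) _ (hpos e) (1 - ⟨a, haint⟩) ?_ hu
    show ι (1 - a) = ((1 : L) - (c : L)) ^ (ringExpChar L ^ e)
    rw [sub_pow_expChar_pow, one_pow, map_sub, map_one, ha]

end Insep

end Groth.Agent.Lib.UnibrH8
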