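import Mathlib
import Groth.Prelude
import Groth.Agent.Lib.Unibr1_helper8
import Groth.Agent.Lib.FibPts3_helper8

/-!
# Connectedness of fibres over unibranch points (purely inseparable case) (helper8)
APPEND-ONLY once landed.
-/

set_option autoImplicit false
universe u
open CategoryTheory CategoryTheory.Limits AlgebraicGeometry TopologicalSpace Opposite

namespace Groth.Agent.Lib.UnibrH8

theorem preconnectedSpace_of_subsingleton {α : Type*} [TopologicalSpace α]
    [Subsingleton (_root_.ConnectedComponents α)] : PreconnectedSpace α := by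
  rcases isEmpty_or_nonempty α with hα | ⟨⟨x₀⟩⟩
  · exact ⟨by rw [Set.univ_eq_empty_iff.mpr hα]; exact isPreconnected_empty⟩
  · have h1 : connectedComponent x₀ = Set.univ := by
      apply Set.eq_univ_of_forall
      intro y
      have h2 : (y : _root_.ConnectedComponents α) = x₀ := Subsingleton.elim _ _
      exact ConnectedComponents.coe_eq_coe'.mp h2
    exact ⟨by rw [← h1]; exact isPreconnected_connectedComponent⟩

theorem surjective_of_isProper_of_dominant {X Y : Scheme.{u}} [IrreducibleSpace X]
    [IrreducibleSpace Y] (f : X ⟶ Y) [IsProper f]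
    (hdom : f (genericPoint X) ⤳ genericPoint Y) : Function.Surjective f := by
  intro y
  have hcl : IsClosed (Set.range f) := f.isClosedMap.isClosed_range
  have h1 : genericPoint Y ∈ Set.range f :=
    hdom.mem_closed hcl ⟨_, rfl⟩
  exact (genericPoint_specializes y).mem_closed hcl h1

section

variable {X Y : Scheme.{u}} [IsIntegral X] [IsIntegral Y] [IsLocallyNoetherian Y]
  (f : X ⟶ Y) [IsProper f] (hdom : f (genericPoint X) ⤳ genericPoint Y)

omit [IsLocallyNoetherian Y] [IsProper f] in
theorem stalkToFunctionField_eq_comp (y : Y) (hs : f (genericPoint X) ⤳ y) :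
    CohIII.stalkToFunctionField f y hs =
      (CohIII.stalkToFunctionField f (genericPoint Y) hdom).comp
        (algebraMap (Y.presheaf.stalk y) Y.functionField) := by
  unfold CohIII.stalkToFunctionField
  rw [RingHom.comp_assoc]
  congr 1
  simp only [RingHom.algebraMap_toAlgebra]
  rw [← CommRingCat.hom_comp, TopCat.Presheaf.stalkSpecializes_comp]

include hdom in
theorem isLocalRing_integralClosureStalk
    (hrad : ∀ x : X.functionField,
      (∃ q : Polynomial Y.functionField, q ≠ 0 ∧
        Polynomial.eval₂ (CohIII.stalkToFunctionField f (genericPoint Y) hdom) x q = 0) →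
      ∃ e : ℕ, x ^ (ringExpChar X.functionField ^ e) ∈
        Set.range (CohIII.stalkToFunctionField f (genericPoint Y) hdom))
    (y : Y) (hy : CAlg2.IsUnibranch (Y.presheaf.stalk y)) (hs : f (genericPoint X) ⤳ y) :
    IsLocalRing ↥(CohIII.integralClosureStalk f y hs) := by
  haveI : IsLocalRing (integralClosure (Y.presheaf.stalk y) Y.functionField) :=
    isLocalRing_integralClosure_of_isUnibranch (Y.presheaf.stalk y) Y.functionField hy
  refine isLocalRing_of_purelyInsep (A := Y.presheaf.stalk y) (K := Y.functionField)
    (CohIII.stalkToFunctionField f (genericPoint Y) hdom)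
    (CohIII.stalkToFunctionField f y hs) (stalkToFunctionField_eq_comp f hdom y hs)
    (CohIII.integralClosureStalk f y hs) (fun x => Iff.rfl) ?_
  intro x hx
  apply hrad
  obtain ⟨P, hP, hPx⟩ := (FibPtsH8.mem_integralClosureStalk_iff f y hs x).mp hx
  refine ⟨P.map (algebraMap (Y.presheaf.stalk y) Y.functionField), (hP.map _).ne_zero, ?_⟩
  rw [Polynomial.eval₂_map, ← stalkToFunctionField_eq_comp f hdom y hs]
  exact hPx

include hdom in
theorem connectedSpace_fiber_of_purelyInsep
    (hrad : ∀ x : X.functionField,
      (∃ q : Polynomial Y.functionField, q ≠ 0 ∧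
        Polynomial.eval₂ (CohIII.stalkToFunctionField f (genericPoint Y) hdom) x q = 0) →
      ∃ e : ℕ, x ^ (ringExpChar X.functionField ^ e) ∈
        Set.range (CohIII.stalkToFunctionField f (genericPoint Y) hdom))
    (y : Y) (hy : CAlg2.IsUnibranch (Y.presheaf.stalk y)) :
    ConnectedSpace ↥(f.fiber y) := by
  have hs : f (genericPoint X) ⤳ y := hdom.trans (genericPoint_specializes y)
  haveI := isLocalRing_integralClosureStalk f hdom hrad y hy hs
  have hsub : Subsingleton (MaximalSpectrum ↥(CohIII.integralClosureStalk f y hs)) :=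
    ⟨fun m m' => MaximalSpectrum.ext (by
      rw [IsLocalRing.eq_maximalIdeal m.isMaximal, IsLocalRing.eq_maximalIdeal m'.isMaximal])⟩
  have h1 := FibPtsH8.card_connectedComponents_le f y hs
  have h2 : Cardinal.mk (MaximalSpectrum ↥(CohIII.integralClosureStalk f y hs)) ≤ 1 :=
    Cardinal.le_one_iff_subsingleton.mpr hsub
  haveI : Subsingleton (_root_.ConnectedComponents ↥(f.fiber y)) :=
    Cardinal.le_one_iff_subsingleton.mp (h1.trans h2)
  haveI : PreconnectedSpace ↥(f.fiber y) := preconnectedSpace_of_subsingleton
  obtain ⟨x, hx⟩ := surjective_of_isProper_of_dominant f hdom y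
  haveI : Nonempty ↥(f.fiber y) := ⟨(f.fiberHomeo y).symm ⟨x, hx⟩⟩
  exact { toPreconnectedSpace := inferInstance, toNonempty := inferInstance }

end

end Groth.Agent.Lib.UnibrH8
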