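import Mathlib
import Groth.Prelude
import Groth.Agent.Lib.RadStein3_helper8
import Groth.Agent.Lib.Unibr2_helper8

/-!
# Geometric connectedness of the fibres of a universally open proper morphism whose function
field extension has purely inseparable algebraic part (helper8)
APPEND-ONLY once landed.
-/

set_option autoImplicit false
universe u
open CategoryTheory CategoryTheory.Limits AlgebraicGeometry TopologicalSpace Opposite TensorProduct

namespace Groth.Agent.Lib.RadSteinH8

section ClaimB

variable {X Y : Scheme.{u}} [IsLocallyNoetherian Y] (f : X ⟶ Y) [IsProper f]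

/-- if the finite part of the Stein factorization is radicial and `f` is surjective, all
geometric fibres of `f` are connected -/
theorem connectedSpace_pullback_of_universallyInjective
    [UniversallyInjective f.fromNormalization] (hsurj : Function.Surjective f)
    (L : Type u) [Field L] (ξ : Spec (CommRingCat.of L) ⟶ Y) :
    ConnectedSpace ↥(pullback f ξ) := by
  have hT : Subsingleton ↥(pullback f.fromNormalization ξ) := by
    haveI : UniversallyInjective (pullback.snd f.fromNormalization ξ) :=
      MorphismProperty.pullback_snd (P := @UniversallyInjective) _ _ inferInstance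
    have hinj : Function.Injective (pullback.snd f.fromNormalization ξ) :=
      (pullback.snd f.fromNormalization ξ).injective
    have hL : Subsingleton ↥(Spec (CommRingCat.of L)) :=
      inferInstanceAs (Subsingleton (PrimeSpectrum L))
    exact @Function.Injective.subsingleton _ _ _ hinj hL
  haveI : Surjective f := ⟨hsurj⟩
  obtain ⟨x₀, -⟩ := (pullback.snd f ξ).surjective (⊥ : PrimeSpectrum L)
  have h1 := ZConnH8.isConnected_nu_fibre f ξ ((ZConnH8.nu f ξ) x₀)
  have h2 : (ZConnH8.nu f ξ) ⁻¹' {(ZConnH8.nu f ξ) x₀} = Set.univ := by
    apply Set.eq_univ_of_forall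
    intro x
    exact Subsingleton.elim _ _
  rw [h2] at h1
  exact connectedSpace_iff_univ.mpr h1

end ClaimB

section Main

variable {X Y : Scheme.{u}} [IsIntegral X] [IsIntegral Y] [IsLocallyNoetherian Y]
  (f : X ⟶ Y) [IsProper f] (hdom : f (genericPoint X) ⤳ genericPoint Y)

include hdom in
theorem universallyInjective_fromNormalization
    (hopen : ∀ (Y' : Scheme.{u}) (g : Y' ⟶ Y), IrreducibleSpace ↥Y' → IsLocallyNoetherian Y' →
      IsDominant g → ∀ Z ∈ irreducibleComponents ↥(pullback f g),
        Dense ((pullback.snd f g) '' Z))
    (hrad : ∀ x : X.functionField,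
      (∃ q : Polynomial Y.functionField, q ≠ 0 ∧
        Polynomial.eval₂ (CohIII.stalkToFunctionField f (genericPoint Y) hdom) x q = 0) →
      ∃ e : ℕ, x ^ (ringExpChar X.functionField ^ e) ∈
        Set.range (CohIII.stalkToFunctionField f (genericPoint Y) hdom)) :
    UniversallyInjective f.fromNormalization := by
  haveI hYint : IsIntegral f.normalization := isIntegral_normalization f
  haveI hYn : IsLocallyNoetherian f.normalization := ZConnH8.isLocallyNoetherian_normalization f
  have hg := fromNormalization_genericPoint f hdom
  have hh := toNormalization_genericPoint f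
  have hgdom : IsDominant f.fromNormalization := by
    constructor
    rw [DenseRange, dense_iff_closure_eq, ← Set.univ_subset_iff, ← (genericPoint_spec Y).def]
    exact closure_mono (Set.singleton_subset_iff.mpr ⟨_, hg⟩)
  have hW := hopen f.normalization f.fromNormalization inferInstance inferInstance hgdom
  have hcomp : ∀ Z₀ ∈ irreducibleComponents ↥(pullback f.fromNormalization f.fromNormalization),
      Dense ((pullback.snd f.fromNormalization f.fromNormalization) '' Z₀) := by
    intro Z₀ hZ₀
    refine dense_image_of_mem_irreducibleComponents (ZConnH8.nu f f.fromNormalization)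
      (ZConnH8.nu f f.fromNormalization).continuous
      (ZConnH8.surjective_nu f f.fromNormalization)
      (pullback.snd f.fromNormalization f.fromNormalization) ?_ Z₀ hZ₀
    intro W₀ hW₀
    have h1 : (⇑(pullback.snd f.fromNormalization f.fromNormalization) ∘
        ⇑(ZConnH8.nu f f.fromNormalization)) = ⇑(pullback.snd f f.fromNormalization) := by
      funext w
      rw [Function.comp_apply, ← Scheme.Hom.comp_apply, ZConnH8.nu_snd]
    rw [h1]
    exact hW W₀ hW₀
  have hinj : ∀ U : f.normalization.Opens, Function.Injective (f.toNormalization.app U).hom := by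
    intro U
    haveI := Groth.Agent.S1340.result f U
    exact (ConcreteCategory.bijective_of_isIso (f.toNormalization.app U)).1
  haveI : IsFinite f.fromNormalization := SteinFinH3.main1297 f
  haveI : IsSeparated f.fromNormalization := inferInstance
  obtain ⟨Y', h, g, hfac, hYint', hgint, hgsep, hinj', hg', hh', hcomp', hres⟩ :
      ∃ (Y' : Scheme.{u}) (h : X ⟶ Y') (g : Y' ⟶ Y), h ≫ g = f ∧
      ∃ (_ : IsIntegral Y') (_ : IsIntegralHom g) (_ : IsSeparated g),
        (∀ U : Y'.Opens, Function.Injective (h.app U).hom) ∧
        g (genericPoint Y') = genericPoint Y ∧ h (genericPoint X) = genericPoint Y' ∧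
        (∀ Z₀ ∈ irreducibleComponents ↥(pullback g g), Dense ((pullback.snd g g) '' Z₀)) ∧
        (UniversallyInjective g → UniversallyInjective f.fromNormalization) :=
    ⟨f.normalization, f.toNormalization, f.fromNormalization,
      f.toNormalization_fromNormalization, hYint, inferInstance, inferInstance, hinj, hg, hh,
      hcomp, id⟩
  subst hfac
  apply hres
  rw [UniversallyInjective.iff_diagonal]
  exact ⟨surjective_diagonal h g hdom hrad hinj' hg' hh' hcomp'⟩

include hdom in
/-- **Main**: all fibres are geometrically connected -/
theorem geometricallyConnected_fiber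
    (hopen : ∀ (Y' : Scheme.{u}) (g : Y' ⟶ Y), IrreducibleSpace ↥Y' → IsLocallyNoetherian Y' →
      IsDominant g → ∀ Z ∈ irreducibleComponents ↥(pullback f g),
        Dense ((pullback.snd f g) '' Z))
    (hrad : ∀ x : X.functionField,
      (∃ q : Polynomial Y.functionField, q ≠ 0 ∧
        Polynomial.eval₂ (CohIII.stalkToFunctionField f (genericPoint Y) hdom) x q = 0) →
      ∃ e : ℕ, x ^ (ringExpChar X.functionField ^ e) ∈
        Set.range (CohIII.stalkToFunctionField f (genericPoint Y) hdom))
    (y : Y) : GeometricallyConnected (f.fiberToSpecResidueField y) := by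
  haveI := universallyInjective_fromNormalization f hdom hopen hrad
  have hsurj := UnibrH8.surjective_of_isProper_of_dominant f hdom
  refine ⟨?_⟩
  intro K _ ξ Z fst snd hpbZ
  have hpb : IsPullback (f.fiberι y) (f.fiberToSpecResidueField y) f
      (Y.fromSpecResidueField y) := IsPullback.of_hasPullback f (Y.fromSpecResidueField y)
  have hbig : IsPullback (fst ≫ f.fiberι y) snd f (ξ ≫ Y.fromSpecResidueField y) :=
    hpbZ.paste_horiz hpb
  haveI := connectedSpace_pullback_of_universallyInjective f hsurj K
    (ξ ≫ Y.fromSpecResidueField y)
  exact Function.Surjective.connectedSpace (Scheme.homeoOfIso hbig.isoPullback.symm).surjective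
    (Scheme.homeoOfIso hbig.isoPullback.symm).continuous

end Main

end Groth.Agent.Lib.RadSteinH8
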