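import Mathlib
import Groth.Prelude
import Groth.Agent.Lib.RadStein4_helper8

/-!
# Radicial finite part of the Stein factorization ⟺ field-point fibres preconnected (helper8)
APPEND-ONLY once landed.
-/

set_option autoImplicit false
universe u
open CategoryTheory CategoryTheory.Limits AlgebraicGeometry TopologicalSpace Opposite

namespace Groth.Agent.Lib.PISteinH8

section B

variable {X Y : Scheme.{u}} [IsAffine Y] (f : X ⟶ Y) [UniversallyClosed f] [QuasiSeparated f]
  [QuasiCompact f]

theorem universallyInjective_fromNormalization_iff :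
    UniversallyInjective f.fromNormalization ↔ UniversallyInjective (Spec.map f.appTop) := by
  haveI : IsAffine f.normalization := isAffine_of_isAffineHom f.fromNormalization
  haveI : IsIso f.toNormalization.appTop :=
    Groth.Agent.Lib.SteinSectionsH7.isIso_toNormalization_app f ⊤
  have h1 : Spec.map f.appTop =
      Spec.map f.toNormalization.appTop ≫ Spec.map f.fromNormalization.appTop := by
    rw [← Spec.map_comp, ← Scheme.Hom.comp_appTop, f.toNormalization_fromNormalization]
  have h2 : f.fromNormalization = f.normalization.isoSpec.hom ≫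
      Spec.map f.fromNormalization.appTop ≫ Y.isoSpec.inv := by
    rw [← Category.assoc, Scheme.isoSpec_hom_naturality, Category.assoc, Iso.hom_inv_id,
      Category.comp_id]
  have h3 : UniversallyInjective (Spec.map f.appTop) ↔
      UniversallyInjective (Spec.map f.fromNormalization.appTop) := by
    rw [h1, MorphismProperty.cancel_left_of_respectsIso @UniversallyInjective]
  have h4 : UniversallyInjective (f.normalization.isoSpec.hom ≫
      Spec.map f.fromNormalization.appTop ≫ Y.isoSpec.inv) ↔
      UniversallyInjective (Spec.map f.fromNormalization.appTop) := by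
    rw [MorphismProperty.cancel_left_of_respectsIso @UniversallyInjective,
      MorphismProperty.cancel_right_of_respectsIso @UniversallyInjective]
  rw [h3, ← h4, ← h2]

end B

section Alg

theorem retraction_unique {R k : Type*} [CommRing R] [CommRing k] [IsDomain k]
    [Subsingleton (PrimeSpectrum R)] (ι : k →+* R) (φ₁ φ₂ : R →+* k)
    (h₁ : φ₁.comp ι = RingHom.id k) (h₂ : φ₂.comp ι = RingHom.id k) : φ₁ = φ₂ := by
  have hk : RingHom.ker φ₁ = RingHom.ker φ₂ := by
    have := Subsingleton.elim (⟨RingHom.ker φ₁, RingHom.ker_isPrime φ₁⟩ : PrimeSpectrum R)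
      ⟨RingHom.ker φ₂, RingHom.ker_isPrime φ₂⟩
    exact congrArg PrimeSpectrum.asIdeal this
  ext r
  have h3 : r - ι (φ₁ r) ∈ RingHom.ker φ₁ := by
    rw [RingHom.mem_ker, map_sub]
    have : φ₁ (ι (φ₁ r)) = φ₁ r := RingHom.congr_fun h₁ (φ₁ r)
    rw [this, sub_self]
  rw [hk, RingHom.mem_ker, map_sub] at h3
  have : φ₂ (ι (φ₁ r)) = φ₁ r := RingHom.congr_fun h₂ (φ₁ r)
  rw [this, sub_eq_zero] at h3
  exact h3.symm

end Alg

section C

variable {X Y : Scheme.{u}} [IsLocallyNoetherian Y] (f : X ⟶ Y) [IsProper f]

theorem preconnectedSpace_pullback_of_universallyInjective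
    [UniversallyInjective f.fromNormalization]
    (L : Type u) [Field L] (ξ : Spec (CommRingCat.of L) ⟶ Y) :
    PreconnectedSpace ↥(pullback f ξ) := by
  have hT : Subsingleton ↥(pullback f.fromNormalization ξ) := by
    haveI : UniversallyInjective (pullback.snd f.fromNormalization ξ) :=
      MorphismProperty.pullback_snd (P := @UniversallyInjective) _ _ inferInstance
    have hinj : Function.Injective (pullback.snd f.fromNormalization ξ) :=
      (pullback.snd f.fromNormalization ξ).injective
    have hL : Subsingleton ↥(Spec (CommRingCat.of L)) :=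
      inferInstanceAs (Subsingleton (PrimeSpectrum L))
    exact @Function.Injective.subsingleton _ _ _ hinj hL
  rcases isEmpty_or_nonempty ↥(pullback f ξ) with hE | ⟨⟨x₀⟩⟩
  · exact ⟨by rw [Set.univ_eq_empty_iff.mpr hE]; exact isPreconnected_empty⟩
  · have h1 := ZConnH8.isConnected_nu_fibre f ξ ((ZConnH8.nu f ξ) x₀)
    have h2 : (ZConnH8.nu f ξ) ⁻¹' {(ZConnH8.nu f ξ) x₀} = Set.univ := by
      apply Set.eq_univ_of_forall
      intro x
      exact Subsingleton.elim _ _
    rw [h2] at h1
    exact ⟨h1.isPreconnected⟩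

theorem universallyInjective_fromNormalization_of_preconnected
    (h : ∀ (K : Type u) [Field K] (ξ : Spec (CommRingCat.of K) ⟶ Y),
      PreconnectedSpace ↥(pullback f ξ)) :
    UniversallyInjective f.fromNormalization := by
  haveI : IsFinite f.fromNormalization := SteinFinH3.main1297 f
  apply ((tfae_universallyInjective f.fromNormalization).out 0 1).mpr
  intro K _ a₁ a₂ ha
  replace ha : a₁ ≫ f.fromNormalization = a₂ ≫ f.fromNormalization := ha
  let ξ := a₁ ≫ f.fromNormalization
  let σ₁ : Spec (CommRingCat.of K) ⟶ pullback f.fromNormalization ξ :=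
    pullback.lift a₁ (𝟙 _) (by simp [ξ])
  let σ₂ : Spec (CommRingCat.of K) ⟶ pullback f.fromNormalization ξ :=
    pullback.lift a₂ (𝟙 _) (by simp [ξ, ha])
  suffices hσ : σ₁ = σ₂ by
    have h1 : σ₁ ≫ pullback.fst f.fromNormalization ξ = a₁ := pullback.lift_fst _ _ _
    have h2 : σ₂ ≫ pullback.fst f.fromNormalization ξ = a₂ := pullback.lift_fst _ _ _
    rw [← h1, ← h2, hσ]
  haveI := h K ξ
  have hF : PreconnectedSpace ↥(pullback f.fromNormalization ξ) := by
    have h1 : _root_.IsPreconnected (Set.range (ZConnH8.nu f ξ)) :=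
      isPreconnected_range (ZConnH8.nu f ξ).continuous
    rw [(ZConnH8.surjective_nu f ξ).range_eq] at h1
    exact ⟨h1⟩
  haveI : IsFinite (pullback.snd f.fromNormalization ξ) :=
    MorphismProperty.pullback_snd (P := @IsFinite) _ _ inferInstance
  haveI : IsLocallyArtinian (Spec (CommRingCat.of K)) := by
    rw [Scheme.isLocallyArtinianScheme_Spec]; infer_instance
  haveI : IsLocallyArtinian (pullback f.fromNormalization ξ) :=
    .of_locallyQuasiFinite (pullback.snd f.fromNormalization ξ)
  haveI : DiscreteTopology ↥(pullback f.fromNormalization ξ) := inferInstance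
  have hsub : Subsingleton ↥(pullback f.fromNormalization ξ) :=
    PreconnectedSpace.trivial_of_discrete
  haveI : IsAffine (pullback f.fromNormalization ξ) :=
    isAffine_of_isAffineHom (pullback.snd f.fromNormalization ξ)
  apply ext_of_isAffine
  have hπ₁ : σ₁ ≫ pullback.snd f.fromNormalization ξ = 𝟙 _ := pullback.lift_snd _ _ _
  have hπ₂ : σ₂ ≫ pullback.snd f.fromNormalization ξ = 𝟙 _ := pullback.lift_snd _ _ _
  haveI : Subsingleton (PrimeSpectrum Γ(pullback f.fromNormalization ξ, ⊤)) :=
    (pullback f.fromNormalization ξ).isoSpec.hom.homeomorph.symm.toEquiv.subsingleton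
  haveI : IsDomain Γ(Spec (CommRingCat.of K), ⊤) :=
    (Scheme.ΓSpecIso (CommRingCat.of K)).commRingCatIsoToRingEquiv.toMulEquiv.isDomain
  have key := retraction_unique (pullback.snd f.fromNormalization ξ).appTop.hom
    σ₁.appTop.hom σ₂.appTop.hom
    (by rw [← CommRingCat.hom_comp, ← Scheme.Hom.comp_appTop, hπ₁]; rfl)
    (by rw [← CommRingCat.hom_comp, ← Scheme.Hom.comp_appTop, hπ₂]; rfl)
  exact CommRingCat.hom_ext key

end C

end Groth.Agent.Lib.PISteinH8
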