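import Mathlib

/-!
# Finite purely inseparable extensions are towers of `p`-th root extensions (helper1)
-/

namespace Groth.Agent.Lib.PITowerH1

universe u

open IntermediateField Polynomial

theorem tower_aux (E : Type u) [Field E] (p : ℕ) [Fact p.Prime] : ∀ d : ℕ,
    ∀ (F : Type u) [Field F] [Algebra F E] [CharP F p] [FiniteDimensional F E]
      [IsPurelyInseparable F E], Module.finrank F E = d →
    ∃ (n : ℕ) (a : Fin n → E), adjoin F (Set.range a) = ⊤ ∧
      (∀ i : Fin n, a i ^ p ∈ adjoin F (a '' {j | j < i}) ∧ a i ∉ adjoin F (a '' {j | j < i})) ∧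
      Module.finrank F E = p ^ n := by
  classical
  intro d
  induction d using Nat.strong_induction_on with
  | _ d ih =>
  intro F _ _ _ _ _ hd
  have hp : p.Prime := Fact.out
  by_cases hbt : (⊥ : IntermediateField F E) = ⊤
  · refine ⟨0, Fin.elim0, ?_, fun i => i.elim0, ?_⟩
    · have : Set.range (Fin.elim0 : Fin 0 → E) = ∅ := Set.range_eq_empty _
      rw [this, adjoin_empty, hbt]
    · rw [pow_zero, ← IntermediateField.finrank_top', ← hbt, IntermediateField.finrank_bot]
  · have : ExpChar F p := ExpChar.prime hp
    have : CharP E p := charP_of_injective_algebraMap (algebraMap F E).injective p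
    obtain ⟨x, hx⟩ : ∃ x : E, x ∉ (⊥ : IntermediateField F E) := by
      by_contra hcon
      push Not at hcon
      exact hbt (eq_top_iff.mpr fun y _ => hcon y)
    have hxr : x ∉ (algebraMap F E).range := fun h => hx (IntermediateField.mem_bot.mpr h)
    have hex := IsPurelyInseparable.pow_mem F p x
    have hk0 : Nat.find hex ≠ 0 := by
      intro h0
      have := Nat.find_spec hex
      rw [h0, pow_zero, pow_one] at this
      exact hxr this
    obtain ⟨k', hk'⟩ := Nat.exists_eq_succ_of_ne_zero hk0
    have hb1 : x ^ p ^ k' ∉ (algebraMap F E).range := Nat.find_min hex (m := k') (by omega)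
    have hb2 : (x ^ p ^ k') ^ p ∈ (algebraMap F E).range := by
      have := Nat.find_spec hex
      rw [hk', pow_succ, pow_mul] at this
      exact this
    generalize x ^ p ^ k' = b at hb1 hb2
    obtain ⟨c, hc⟩ := hb2
    have hirr : Irreducible (X ^ p - C c : F[X]) := by
      apply X_pow_sub_C_irreducible_of_prime hp
      intro c' hc'
      apply hb1
      refine ⟨c', ?_⟩
      apply frobenius_inj E p
      rw [frobenius_def, frobenius_def, ← map_pow, hc', hc]
    have hroot : aeval b (X ^ p - C c : F[X]) = 0 := by
      simp [hc]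
    have hmin : (X ^ p - C c : F[X]) = minpoly F b :=
      minpoly.eq_of_irreducible_of_monic hirr hroot (monic_X_pow_sub_C c hp.ne_zero)
    have hint : IsIntegral F b := Algebra.IsIntegral.isIntegral b
    have hfr : Module.finrank F F⟮b⟯ = p := by
      rw [adjoin.finrank hint, ← hmin, natDegree_X_pow_sub_C]
    have : CharP F⟮b⟯ p := charP_of_injective_algebraMap (algebraMap F F⟮b⟯).injective p
    have : FiniteDimensional F⟮b⟯ E := FiniteDimensional.right F F⟮b⟯ E
    have : IsPurelyInseparable F⟮b⟯ E := IsPurelyInseparable.tower_top F F⟮b⟯ E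
    have hmul : Module.finrank F F⟮b⟯ * Module.finrank F⟮b⟯ E = Module.finrank F E :=
      Module.finrank_mul_finrank F F⟮b⟯ E
    have hpos : 0 < Module.finrank F⟮b⟯ E := Module.finrank_pos
    have hlt : Module.finrank F⟮b⟯ E < d := by
      rw [← hd, ← hmul, hfr]
      have := hp.two_le
      nlinarith
    obtain ⟨n', a', h1, h2, h3⟩ := ih _ hlt F⟮b⟯ rfl
    have hins : ∀ T : Set E, adjoin F (insert b T) = (adjoin F⟮b⟯ T).restrictScalars F := by
      intro T
      rw [Set.insert_eq, ← adjoin_adjoin_left F {b} T]
    refine ⟨n' + 1, Fin.cons b a', ?_, ?_, ?_⟩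
    · rw [Fin.range_cons, hins, h1, restrictScalars_top]
    · intro i
      cases i using Fin.cases with
      | zero =>
        have hempty : (Fin.cons b a' : Fin (n' + 1) → E) '' {j | j < 0} = ∅ := by
          ext y
          simp
        rw [hempty, adjoin_empty, Fin.cons_zero]
        constructor
        · rw [IntermediateField.mem_bot]
          exact ⟨c, hc⟩
        · rw [IntermediateField.mem_bot]
          exact hb1
      | succ i' =>
        have himg : (Fin.cons b a' : Fin (n' + 1) → E) '' {j | j < i'.succ} =
            insert b (a' '' {j | j < i'}) := by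
          ext y
          constructor
          · rintro ⟨j, hj, rfl⟩
            cases j using Fin.cases with
            | zero => simp
            | succ j' =>
              right
              exact ⟨j', Fin.succ_lt_succ_iff.mp hj, by simp⟩
          · rintro (rfl | ⟨j', hj', rfl⟩)
            · exact ⟨0, Fin.succ_pos _, by simp⟩
            · exact ⟨j'.succ, Fin.succ_lt_succ_iff.mpr hj', by simp⟩
        rw [himg, hins, Fin.cons_succ]
        exact h2 i'
    · rw [← hmul, hfr, h3, pow_succ, mul_comm]

theorem tower {F E : Type u} [Field F] [Field E] [Algebra F E] (p : ℕ)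
    [Fact p.Prime] [CharP F p] [FiniteDimensional F E] [IsPurelyInseparable F E] :
    ∃ (n : ℕ) (a : Fin n → E), adjoin F (Set.range a) = ⊤ ∧
      (∀ i : Fin n, a i ^ p ∈ adjoin F (a '' {j | j < i}) ∧ a i ∉ adjoin F (a '' {j | j < i})) ∧
      Module.finrank F E = p ^ n :=
  tower_aux E p _ F rfl

end Groth.Agent.Lib.PITowerH1
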