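import Groth.Agent.Lib.PBasis6_helper3

/-!
# `p`-independence via "no element is generated by the others" (EGA 0_IV 21.4.2)
-/

set_option autoImplicit false
set_option maxSynthPendingDepth 3

namespace Groth.Agent.Lib.PBasisH3

universe u

open EGA41 KaehlerDifferential

section Crit

variable (p : ℕ) [hp : Fact p.Prime] {k K : Type u} [Field k] [Field K] [Algebra k K]
  [CharP K p] {ι : Type u} (x : ι → K)

variable (k) in
/-- the subfield `k(K^p, x_b (b ≠ a))` -/
noncomputable abbrev others (a : ι) : IntermediateField k K :=
  IntermediateField.adjoin k ((Set.range fun y : K => y ^ p) ∪ x '' {b | b ≠ a})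

include hp in
theorem notMem_others_of_isPIndependent (hx : IsPIndependent p k x) (a : ι) :
    x a ∉ others p k x a := by
  classical
  letI : Field (pPowerSubalgebra p k K) := (isField_pPower p).toField
  have hpow : ∀ y : K, y ^ p ∈ Set.range (algebraMap (pPowerSubalgebra p k K) K) := fun y =>
    ⟨⟨y ^ p, pow_mem_pPower p y⟩, rfl⟩
  haveI : Algebra.IsAlgebraic (pPowerSubalgebra p k K) K := isAlgebraic_of_pow p hpow
  have hli := linearIndependent_D_of_isPIndependent p x hx
  intro hmem
  set T : Set K := x '' {b | b ≠ a} with hT
  -- `others ≤ F(T)`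
  have hle : others p k x a ≤
      (IntermediateField.adjoin (pPowerSubalgebra p k K) T).restrictScalars k := by
    rw [IntermediateField.adjoin_le_iff]
    rintro z (⟨y, rfl⟩ | hz)
    · exact (IntermediateField.adjoin (pPowerSubalgebra p k K) T).algebraMap_mem
        ⟨y ^ p, pow_mem_pPower p y⟩
    · exact IntermediateField.subset_adjoin _ _ hz
  have h1 : x a ∈ IntermediateField.adjoin (pPowerSubalgebra p k K) T := hle hmem
  have h2 : x a ∈ (IntermediateField.adjoin (pPowerSubalgebra p k K) T).toSubalgebra := h1
  rw [IntermediateField.adjoin_toSubalgebra] at h2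
  have h3 := D_mem_span_of_mem_adjoin p T (x a) h2
  have h4 : (fun t => D k K t) '' T = (fun i => D k K (x i)) '' {b | b ≠ a} := by
    rw [hT, Set.image_image]
  rw [h4] at h3
  exact hli.notMem_span_image (s := {b | b ≠ a}) (x := a) (fun h => h rfl) h3

include hp in
theorem isPIndependent_of_notMem_others (h : ∀ a, x a ∉ others p k x a) :
    IsPIndependent p k x := by
  classical
  letI : Field (pPowerSubalgebra p k K) := (isField_pPower p).toField
  have hpow : ∀ y : K, y ^ p ∈ Set.range (algebraMap (pPowerSubalgebra p k K) K) := fun y =>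
    ⟨⟨y ^ p, pow_mem_pPower p y⟩, rfl⟩
  -- injectivity
  have hinj : Function.Injective x := by
    intro a b hab
    by_contra hne
    apply h a
    apply IntermediateField.subset_adjoin
    right
    exact ⟨b, fun hba => hne hba.symm, hab.symm⟩
  -- finite subsets
  have hfin : ∀ T₀ : Set K, T₀.Finite → T₀ ⊆ Set.range x → PIon p (pPowerSubalgebra p k K) T₀ := by
    intro T₀ hT₀
    induction T₀, hT₀ using Set.Finite.induction_on with
    | empty => intro _; exact pIon_empty p
    | @insert s T₁ hs _ ih =>
      intro hsub
      have hT₁ : T₁ ⊆ Set.range x := fun t ht => hsub (Set.mem_insert_of_mem s ht)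
      obtain ⟨a, rfl⟩ := hsub (Set.mem_insert s T₁)
      refine pIon_insert p hpow (ih hT₁) (x a) ?_
      intro hmem
      apply h a
      -- `F(T₁) ≤ others`
      let E' : IntermediateField (pPowerSubalgebra p k K) K :=
        { (others p k x a).toSubfield with
          algebraMap_mem' := fun c => by
            show (c : K) ∈ others p k x a
            have hc : (c : K) ∈ Algebra.adjoin k (Set.range fun b : K => b ^ p) := c.2
            have hle : Algebra.adjoin k (Set.range fun b : K => b ^ p) ≤
                (others p k x a).toSubalgebra :=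
              Algebra.adjoin_le (fun z hz => IntermediateField.subset_adjoin _ _ (Or.inl hz))
            exact hle hc }
      have hle : IntermediateField.adjoin (pPowerSubalgebra p k K) T₁ ≤ E' := by
        rw [IntermediateField.adjoin_le_iff]
        intro t ht
        obtain ⟨b, rfl⟩ := hT₁ ht
        show x b ∈ others p k x a
        apply IntermediateField.subset_adjoin
        right
        refine ⟨b, fun hba => hs ?_, rfl⟩
        have hba' : b = a := hba
        rw [hba'] at ht
        exact ht
      exact hle hmem
  -- all of `range x`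
  have hall : PIon p (pPowerSubalgebra p k K) (Set.range x) := by
    let c : Set (Set K) := {T₀ | T₀.Finite ∧ T₀ ⊆ Set.range x}
    have hdir : DirectedOn (· ⊆ ·) (MT p '' c) := by
      rintro _ ⟨T, hT, rfl⟩ _ ⟨T', hT', rfl⟩
      exact ⟨MT p (T ∪ T'), ⟨T ∪ T', ⟨hT.1.union hT'.1, Set.union_subset hT.2 hT'.2⟩, rfl⟩,
        MT_mono p Set.subset_union_left, MT_mono p Set.subset_union_right⟩
    have hbig : LinearIndepOn (pPowerSubalgebra p k K) (mon p) (⋃₀ (MT p '' c)) := by
      apply linearIndepOn_sUnion_of_directed hdir
      rintro _ ⟨T, hT, rfl⟩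
      exact hfin T hT.1 hT.2
    refine LinearIndepOn.mono hbig ?_
    intro e he
    refine ⟨MT p (e.1.support : Set K), ⟨(e.1.support : Set K), ⟨e.1.support.finite_toSet, he⟩,
      rfl⟩, ?_⟩
    exact Set.Subset.refl _
  exact (pIon_range_iff (F := pPowerSubalgebra p k K) p x hinj).1 hall

end Crit

end Groth.Agent.Lib.PBasisH3
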