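import Groth.Agent.Lib.Jacobson_helper1

/-!
# `p`-maps from embeddings into associative algebras; three-dimensional examples (helper1)
-/

set_option autoImplicit false
set_option maxHeartbeats 1000000

universe u v w

namespace Groth.Agent.Lib.PLie3H1

open Groth.Agent.Lib.JacobsonH1 PLie

section Embed

variable {R : Type u} [CommRing R] {p : ℕ} [Fact p.Prime] [CharP R p]
variable {L : Type v} [LieRing L] [LieAlgebra R L] {A : Type w} [Ring A] [Algebra R A]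

lemma map_bracketWord (e : L →ₗ[R] A) (hbr : ∀ x y : L, e ⁅x, y⁆ = e x * e y - e y * e x)
    (x : Bool → L) (x₁ : L) :
    ∀ w : List Bool, e (bracketWord x x₁ w) = cw (fun i => e (x i)) (e x₁) w
  | [] => rfl
  | i :: w => by
    rw [bracketWord_cons, hbr, map_bracketWord e hbr x x₁ w, cw_cons]; rfl

lemma map_jacobson (e : L →ₗ[R] A) (hbr : ∀ x y : L, e ⁅x, y⁆ = e x * e y - e y * e x)
    (x₀ x₁ : L) :
    e (PLie.jacobson R p x₀ x₁) = ∑ t : Fin (p - 1) → Bool,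
      (ZMod.castHom (dvd_refl p) R ((Fintype.card {i // t i = false} : ZMod p)⁻¹)) •
        cw (pr (e x₀) (e x₁)) (e x₁) (List.ofFn t) := by
  unfold PLie.jacobson
  rw [map_sum]
  refine Finset.sum_congr rfl fun t _ => ?_
  have hx : (fun i => e (PLie.pair x₀ x₁ i)) = pr (e x₀) (e x₁) := by
    funext i; cases i <;> rfl
  rw [map_smul, map_bracketWord e hbr, hx]

lemma map_ad_pow (e : L →ₗ[R] A) (hbr : ∀ x y : L, e ⁅x, y⁆ = e x * e y - e y * e x) (x : L) :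
    ∀ (n : ℕ) (y : L), e ((LieAlgebra.ad R L x ^ n) y) =
      ((LinearMap.mulLeft ℤ (e x) - LinearMap.mulRight ℤ (e x)) ^ n) (e y)
  | 0, y => by simp
  | n + 1, y => by
    rw [pow_succ' (LieAlgebra.ad R L x) n, Module.End.mul_apply, LieAlgebra.ad_apply, hbr,
      map_ad_pow e hbr x n y, pow_succ', Module.End.mul_apply]
    simp

/-- a `p`-map induced by an embedding into an associative algebra stable under `p`-th powers. -/
noncomputable def pmapOfEmbedding (e : L →ₗ[R] A) (hinj : Function.Injective e)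
    (hbr : ∀ x y : L, e ⁅x, y⁆ = e x * e y - e y * e x) (φ₀ : L → L)
    (hφ : ∀ x, e (φ₀ x) = e x ^ p) : PLie.PMap R p L where
  toFun := φ₀
  map_smul c x := by
    apply hinj
    rw [hφ, map_smul, map_smul, hφ, smul_pow]
  ad_map x := by
    apply LinearMap.ext
    intro y
    apply hinj
    rw [LieAlgebra.ad_apply, hbr, hφ, map_ad_pow e hbr x p y,
      ad_pow_prime p (natCast_eq_zero_algebra (R := R) p)]
  map_add x₀ x₁ := by
    apply hinj
    rw [hφ, map_add, jacobson_assoc (R := R) p (e x₀) (e x₁), map_sub, map_add, hφ, hφ,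
      map_jacobson e hbr]

lemma pmapOfEmbedding_apply (e : L →ₗ[R] A) (hinj : Function.Injective e)
    (hbr : ∀ x y : L, e ⁅x, y⁆ = e x * e y - e y * e x) (φ₀ : L → L)
    (hφ : ∀ x, e (φ₀ x) = e x ^ p) (x : L) :
    (pmapOfEmbedding e hinj hbr φ₀ hφ) x = φ₀ x := rfl

end Embed

section Basis3

variable {R : Type u} [CommRing R] {L : Type v} [AddCommGroup L] [Module R L]
  (bs : Module.Basis (Fin 3) R L)

lemma expand (u : L) :
    u = bs.repr u 0 • bs 0 + bs.repr u 1 • bs 1 + bs.repr u 2 • bs 2 := by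
  conv_lhs => rw [← bs.sum_repr u, Fin.sum_univ_three]

lemma repr_comb (c₀ c₁ c₂ : R) :
    bs.repr (c₀ • bs 0 + c₁ • bs 1 + c₂ • bs 2) 0 = c₀ ∧
    bs.repr (c₀ • bs 0 + c₁ • bs 1 + c₂ • bs 2) 1 = c₁ ∧
    bs.repr (c₀ • bs 0 + c₁ • bs 1 + c₂ • bs 2) 2 = c₂ := by
  refine ⟨?_, ?_, ?_⟩ <;> simp [Finsupp.single_apply]

end Basis3

/-! ### the family `l_t` (S13776) -/

section L3

variable {R : Type u} [CommRing R]

/-- the matrix of `α x + β y + γ z`. -/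
def Mat (t α β γ : R) : Matrix (Fin 3) (Fin 3) R := !![α, 0, β; 0, α * t, γ; 0, 0, 0]

lemma Mat_mul (t α β γ α' β' γ' : R) :
    Mat t α β γ * Mat t α' β' γ' =
      !![α * α', 0, α * β'; 0, (α * t) * (α' * t), (α * t) * γ'; 0, 0, 0] := by
  ext i j
  fin_cases i <;> fin_cases j <;> simp [Mat, Matrix.mul_apply, Fin.sum_univ_three]

lemma Mat_pow (t α β γ : R) (n : ℕ) :
    Mat t α β γ ^ (n + 1) =
      !![α ^ (n + 1), 0, α ^ n * β; 0, (α * t) ^ (n + 1), (α * t) ^ n * γ; 0, 0, 0] := by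
  induction n with
  | zero =>
    ext i j
    fin_cases i <;> fin_cases j <;> simp [Mat]
  | succ n ih =>
    rw [pow_succ, ih]
    ext i j
    fin_cases i <;> fin_cases j <;> simp [Mat, Matrix.mul_apply, Fin.sum_univ_three] <;> ring

variable {L : Type v} [LieRing L] [LieAlgebra R L] (t : R) (bs : Module.Basis (Fin 3) R L)

/-- the embedding into `3 × 3` matrices. -/
noncomputable def emb : L →ₗ[R] Matrix (Fin 3) (Fin 3) R :=
  bs.constr R ![Mat t 1 0 0, Mat t 0 1 0, Mat t 0 0 1]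

lemma emb_comb (u₀ u₁ u₂ : R) :
    emb t bs (u₀ • bs 0 + u₁ • bs 1 + u₂ • bs 2) = Mat t u₀ u₁ u₂ := by
  rw [map_add, map_add, map_smul, map_smul, map_smul, emb, Module.Basis.constr_basis,
    Module.Basis.constr_basis, Module.Basis.constr_basis]
  ext i j
  fin_cases i <;> fin_cases j <;> simp [Mat]

lemma bracket_comb (hxy : ⁅bs 0, bs 1⁆ = bs 1) (hxz : ⁅bs 0, bs 2⁆ = t • bs 2)
    (hyz : ⁅bs 1, bs 2⁆ = 0) (u₀ u₁ u₂ v₀ v₁ v₂ : R) :
    ⁅u₀ • bs 0 + u₁ • bs 1 + u₂ • bs 2, v₀ • bs 0 + v₁ • bs 1 + v₂ • bs 2⁆ =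
      (0 : R) • bs 0 + (u₀ * v₁ - u₁ * v₀) • bs 1 + (t * (u₀ * v₂ - u₂ * v₀)) • bs 2 := by
  have hyx : ⁅bs 1, bs 0⁆ = -bs 1 := by rw [← lie_skew, hxy]
  have hzx : ⁅bs 2, bs 0⁆ = -(t • bs 2) := by rw [← lie_skew, hxz]
  have hzy : ⁅bs 2, bs 1⁆ = 0 := by rw [← lie_skew, hyz, neg_zero]
  simp only [add_lie, lie_add, smul_lie, lie_smul, lie_self, hxy, hxz, hyz, hyx, hzx, hzy]
  module

theorem main13776 (p : ℕ) [Fact p.Prime] [CharP R p]
    (hxy : ⁅bs 0, bs 1⁆ = bs 1) (hxz : ⁅bs 0, bs 2⁆ = t • bs 2) (hyz : ⁅bs 1, bs 2⁆ = 0) :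
    Nonempty (PLie.PMap R p L) ↔ t ^ p = t := by
  constructor
  · rintro ⟨φ⟩
    have hzy : ⁅bs 2, bs 1⁆ = 0 := by rw [← lie_skew, hyz, neg_zero]
    have hpow : ∀ n : ℕ, (LieAlgebra.ad R L (bs 0) ^ n) (bs 2) = t ^ n • bs 2 := by
      intro n
      induction n with
      | zero => simp
      | succ n ih =>
        rw [pow_succ' (LieAlgebra.ad R L (bs 0)) n, Module.End.mul_apply, ih, LieAlgebra.ad_apply,
          lie_smul, hxz, smul_smul, ← pow_succ]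
    have hpow1 : ∀ n : ℕ, (LieAlgebra.ad R L (bs 0) ^ n) (bs 1) = bs 1 := by
      intro n
      induction n with
      | zero => simp
      | succ n ih =>
        rw [pow_succ' (LieAlgebra.ad R L (bs 0)) n, Module.End.mul_apply, ih, LieAlgebra.ad_apply,
          hxy]
    have h1 : ⁅φ (bs 0), bs 2⁆ = t ^ p • bs 2 := by
      rw [← LieAlgebra.ad_apply (R := R), φ.ad_map, hpow]
    have h2 : ⁅φ (bs 0), bs 1⁆ = bs 1 := by
      rw [← LieAlgebra.ad_apply (R := R), φ.ad_map, hpow1]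
    obtain ⟨α, β, γ, hw⟩ : ∃ α β γ : R, φ (bs 0) = α • bs 0 + β • bs 1 + γ • bs 2 :=
      ⟨_, _, _, expand bs _⟩
    rw [hw] at h1 h2
    simp only [add_lie, smul_lie, hxz, hyz, lie_self, smul_zero, add_zero] at h1
    simp only [add_lie, smul_lie, hxy, hzy, lie_self, smul_zero, add_zero] at h2
    have h2' := congrArg (fun z => bs.repr z 1) h2
    have h1' := congrArg (fun z => bs.repr z 2) h1
    simp at h1' h2'
    rw [h2', one_mul] at h1'
    exact h1'.symm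
  · intro ht
    have hbr : ∀ x y : L, emb t bs ⁅x, y⁆ = emb t bs x * emb t bs y - emb t bs y * emb t bs x := by
      intro x y
      obtain ⟨u₀, u₁, u₂, rfl⟩ : ∃ a b c : R, x = a • bs 0 + b • bs 1 + c • bs 2 :=
        ⟨_, _, _, expand bs x⟩
      obtain ⟨v₀, v₁, v₂, rfl⟩ : ∃ a b c : R, y = a • bs 0 + b • bs 1 + c • bs 2 :=
        ⟨_, _, _, expand bs y⟩
      rw [bracket_comb t bs hxy hxz hyz, emb_comb, emb_comb, emb_comb, Mat_mul, Mat_mul]
      ext i j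
      fin_cases i <;> fin_cases j <;> simp [Mat] <;> ring
    have hinj : Function.Injective (emb t bs) := by
      rw [injective_iff_map_eq_zero]
      intro x hx
      obtain ⟨u₀, u₁, u₂, rfl⟩ : ∃ a b c : R, x = a • bs 0 + b • bs 1 + c • bs 2 :=
        ⟨_, _, _, expand bs x⟩
      rw [emb_comb] at hx
      have h0 := congrFun (congrFun hx 0) 0
      have h1 := congrFun (congrFun hx 0) 2
      have h2 := congrFun (congrFun hx 1) 2
      simp [Mat] at h0 h1 h2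
      rw [h0, h1, h2]; simp
    let φ₀ : L → L := fun u => (bs.repr u 0) ^ p • bs 0 +
      ((bs.repr u 0) ^ (p - 1) * bs.repr u 1) • bs 1 +
      ((bs.repr u 0 * t) ^ (p - 1) * bs.repr u 2) • bs 2
    have hφ : ∀ x, emb t bs (φ₀ x) = emb t bs x ^ p := by
      intro x
      obtain ⟨u₀, u₁, u₂, rfl⟩ : ∃ a b c : R, x = a • bs 0 + b • bs 1 + c • bs 2 :=
        ⟨_, _, _, expand bs x⟩
      have hr := repr_comb bs u₀ u₁ u₂
      show emb t bs ((bs.repr (u₀ • bs 0 + u₁ • bs 1 + u₂ • bs 2) 0) ^ p • bs 0 +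
        ((bs.repr (u₀ • bs 0 + u₁ • bs 1 + u₂ • bs 2) 0) ^ (p - 1) *
          bs.repr (u₀ • bs 0 + u₁ • bs 1 + u₂ • bs 2) 1) • bs 1 +
        ((bs.repr (u₀ • bs 0 + u₁ • bs 1 + u₂ • bs 2) 0 * t) ^ (p - 1) *
          bs.repr (u₀ • bs 0 + u₁ • bs 1 + u₂ • bs 2) 2) • bs 2) = _
      rw [hr.1, hr.2.1, hr.2.2, emb_comb, emb_comb]
      obtain ⟨n, hn⟩ : ∃ n, p = n + 1 := ⟨p - 1, by have := (Fact.out : p.Prime).one_le; omega⟩
      have ht' : t ^ (n + 1) = t := by rw [← hn]; exact ht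
      rw [hn, Mat_pow, Nat.add_sub_cancel]
      ext i j
      fin_cases i <;> fin_cases j <;> simp [Mat, mul_pow, ht']
    exact ⟨pmapOfEmbedding (emb t bs) hinj hbr φ₀ hφ⟩

end L3

/-! ### the form `f_3` (S13779) -/

section F3

variable {R : Type u} [CommRing R]

/-- the matrix of `α x + β y + γ z`. -/
def Mat' (t α β γ : R) : Matrix (Fin 3) (Fin 3) R := !![0, α * t, β; α, 0, γ; 0, 0, 0]

lemma Mat'_mul (t α β γ α' β' γ' : R) :
    Mat' t α β γ * Mat' t α' β' γ' =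
      !![α * t * α', 0, α * t * γ'; 0, α * (α' * t), α * β'; 0, 0, 0] := by
  ext i j
  fin_cases i <;> fin_cases j <;> simp [Mat', Matrix.mul_apply, Fin.sum_univ_three]

lemma Mat'_cube (t α β γ : R) :
    Mat' t α β γ * (Mat' t α β γ * Mat' t α β γ) = (α ^ 2 * t) • Mat' t α β γ := by
  rw [Mat'_mul]
  ext i j
  fin_cases i <;> fin_cases j <;> simp [Mat', Matrix.mul_apply, Fin.sum_univ_three] <;> ring

lemma Mat'_pow (t α β γ : R) (m : ℕ) :
    Mat' t α β γ ^ (2 * m + 1) = (α ^ 2 * t) ^ m • Mat' t α β γ := by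
  induction m with
  | zero => simp
  | succ m ih =>
    have e : 2 * (m + 1) + 1 = (2 * m + 1) + 2 := by ring
    rw [e, pow_add, ih, smul_mul_assoc, pow_two (Mat' t α β γ), Mat'_cube, smul_smul]
    congr 1
    ring

variable {L : Type v} [LieRing L] [LieAlgebra R L] (t : R) (bs : Module.Basis (Fin 3) R L)

/-- the embedding into `3 × 3` matrices. -/
noncomputable def emb' : L →ₗ[R] Matrix (Fin 3) (Fin 3) R :=
  bs.constr R ![Mat' t 1 0 0, Mat' t 0 1 0, Mat' t 0 0 1]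

lemma emb'_comb (u₀ u₁ u₂ : R) :
    emb' t bs (u₀ • bs 0 + u₁ • bs 1 + u₂ • bs 2) = Mat' t u₀ u₁ u₂ := by
  rw [map_add, map_add, map_smul, map_smul, map_smul, emb', Module.Basis.constr_basis,
    Module.Basis.constr_basis, Module.Basis.constr_basis]
  ext i j
  fin_cases i <;> fin_cases j <;> simp [Mat']

lemma bracket_comb' (hxy : ⁅bs 0, bs 1⁆ = bs 2) (hxz : ⁅bs 0, bs 2⁆ = t • bs 1)
    (hyz : ⁅bs 1, bs 2⁆ = 0) (u₀ u₁ u₂ v₀ v₁ v₂ : R) :
    ⁅u₀ • bs 0 + u₁ • bs 1 + u₂ • bs 2, v₀ • bs 0 + v₁ • bs 1 + v₂ • bs 2⁆ =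
      (0 : R) • bs 0 + (t * (u₀ * v₂ - u₂ * v₀)) • bs 1 + (u₀ * v₁ - u₁ * v₀) • bs 2 := by
  have hyx : ⁅bs 1, bs 0⁆ = -bs 2 := by rw [← lie_skew, hxy]
  have hzx : ⁅bs 2, bs 0⁆ = -(t • bs 1) := by rw [← lie_skew, hxz]
  have hzy : ⁅bs 2, bs 1⁆ = 0 := by rw [← lie_skew, hyz, neg_zero]
  simp only [add_lie, lie_add, smul_lie, lie_smul, lie_self, hxy, hxz, hyz, hyx, hzx, hzy]
  module

theorem main13779 (p : ℕ) [Fact p.Prime] [CharP R p] (hp : p ≠ 2)
    (hxy : ⁅bs 0, bs 1⁆ = bs 2) (hxz : ⁅bs 0, bs 2⁆ = t • bs 1) (hyz : ⁅bs 1, bs 2⁆ = 0) :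
    ∃ φ : PLie.PMap R p L, φ (bs 0) = t ^ ((p - 1) / 2) • bs 0 ∧ φ (bs 1) = 0 ∧ φ (bs 2) = 0 := by
  have hbr : ∀ x y : L,
      emb' t bs ⁅x, y⁆ = emb' t bs x * emb' t bs y - emb' t bs y * emb' t bs x := by
    intro x y
    obtain ⟨u₀, u₁, u₂, rfl⟩ : ∃ a b c : R, x = a • bs 0 + b • bs 1 + c • bs 2 :=
      ⟨_, _, _, expand bs x⟩
    obtain ⟨v₀, v₁, v₂, rfl⟩ : ∃ a b c : R, y = a • bs 0 + b • bs 1 + c • bs 2 :=
      ⟨_, _, _, expand bs y⟩
    rw [bracket_comb' t bs hxy hxz hyz, emb'_comb, emb'_comb, emb'_comb, Mat'_mul, Mat'_mul]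
    ext i j
    fin_cases i <;> fin_cases j <;> simp [Mat'] <;> ring
  have hinj : Function.Injective (emb' t bs) := by
    rw [injective_iff_map_eq_zero]
    intro x hx
    obtain ⟨u₀, u₁, u₂, rfl⟩ : ∃ a b c : R, x = a • bs 0 + b • bs 1 + c • bs 2 :=
      ⟨_, _, _, expand bs x⟩
    rw [emb'_comb] at hx
    have h0 := congrFun (congrFun hx 1) 0
    have h1 := congrFun (congrFun hx 0) 2
    have h2 := congrFun (congrFun hx 1) 2
    simp [Mat'] at h0 h1 h2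
    rw [h0, h1, h2]; simp
  obtain ⟨m, hm⟩ : ∃ m, p = 2 * m + 1 := by
    have hodd := (Fact.out : p.Prime).odd_of_ne_two hp
    obtain ⟨m, hm⟩ := hodd
    exact ⟨m, hm⟩
  have hm2 : (p - 1) / 2 = m := by omega
  have hm0 : m ≠ 0 := by
    intro h0
    have := (Fact.out : p.Prime).two_le
    omega
  let φ₀ : L → L := fun u => ((bs.repr u 0) ^ 2 * t) ^ m • u
  have hφ : ∀ x, emb' t bs (φ₀ x) = emb' t bs x ^ p := by
    intro x
    obtain ⟨u₀, u₁, u₂, rfl⟩ : ∃ a b c : R, x = a • bs 0 + b • bs 1 + c • bs 2 :=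
      ⟨_, _, _, expand bs x⟩
    have hr := repr_comb bs u₀ u₁ u₂
    show emb' t bs (((bs.repr (u₀ • bs 0 + u₁ • bs 1 + u₂ • bs 2) 0) ^ 2 * t) ^ m •
      (u₀ • bs 0 + u₁ • bs 1 + u₂ • bs 2)) = _
    rw [hr.1, map_smul, emb'_comb, hm, Mat'_pow]
  refine ⟨pmapOfEmbedding (emb' t bs) hinj hbr φ₀ hφ, ?_, ?_, ?_⟩
  · show ((bs.repr (bs 0) 0) ^ 2 * t) ^ m • bs 0 = t ^ ((p - 1) / 2) • bs 0
    rw [hm2]; simp
  · show ((bs.repr (bs 1) 0) ^ 2 * t) ^ m • bs 1 = 0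
    simp [hm0]
  · show ((bs.repr (bs 2) 0) ^ 2 * t) ^ m • bs 2 = 0
    simp [hm0]

end F3

end Groth.Agent.Lib.PLie3H1
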