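import Groth.Agent.Lib.PLieJac_helper1

/-!
# `p`-maps on three-dimensional Lie algebras via structure matrices (helper1)

For a Lie algebra free of rank 3 with basis `bs`, a `p`-map exists iff each `(ad (bs j))^p` is an
inner derivation `ad w`; through `toMatrixAlgEquiv bs` this is an identity of `3 × 3` matrices.
-/

set_option autoImplicit false
set_option maxHeartbeats 1000000

universe u v

namespace Groth.Agent.Lib.PLieDef3H1

open PLie

section Generic

variable {R : Type u} [CommRing R] {L : Type v} [LieRing L] [LieAlgebra R L]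
  (bs : Module.Basis (Fin 3) R L)

/-- matrix of an endomorphism in the basis `bs`. -/
noncomputable abbrev T : Module.End R L ≃ₐ[R] Matrix (Fin 3) (Fin 3) R :=
  LinearMap.toMatrixAlgEquiv bs

lemma ad_sum (w : Fin 3 → R) :
    LieAlgebra.ad R L (∑ i, w i • bs i) = ∑ i, w i • LieAlgebra.ad R L (bs i) := by
  ext m
  simp [sum_lie, smul_lie, LinearMap.sum_apply]

lemma T_ad_lie (x y : L) :
    T bs (LieAlgebra.ad R L x) * T bs (LieAlgebra.ad R L y) =
      T bs (LieAlgebra.ad R L ⁅x, y⁆) + T bs (LieAlgebra.ad R L y) * T bs (LieAlgebra.ad R L x) := by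
  rw [← map_mul (T bs), ← map_mul (T bs), ← map_add (T bs)]
  congr 1
  ext m
  simp only [Module.End.mul_apply, LieAlgebra.ad_apply, LinearMap.add_apply]
  exact leibniz_lie x y m

variable (P Q S : Fin 3 → R)

/-- structure matrices of `ad (bs 0)`, `ad (bs 1)`, `ad (bs 2)`. -/
def adM : Fin 3 → Matrix (Fin 3) (Fin 3) R
  | 0 => Matrix.of fun r s => ![0, P r, Q r] s
  | 1 => Matrix.of fun r s => ![-P r, 0, S r] s
  | 2 => Matrix.of fun r s => ![-Q r, -S r, 0] s

variable {P Q S}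

lemma T_ad (h01 : ⁅bs 0, bs 1⁆ = ∑ i, P i • bs i) (h02 : ⁅bs 0, bs 2⁆ = ∑ i, Q i • bs i)
    (h12 : ⁅bs 1, bs 2⁆ = ∑ i, S i • bs i) (j : Fin 3) :
    T bs (LieAlgebra.ad R L (bs j)) = adM P Q S j := by
  ext r s
  rw [LinearMap.toMatrixAlgEquiv_apply, LieAlgebra.ad_apply]
  fin_cases j
  · fin_cases s
    · show bs.repr ⁅bs 0, bs 0⁆ r = 0
      rw [lie_self, map_zero, Finsupp.zero_apply]
    · show bs.repr ⁅bs 0, bs 1⁆ r = P r
      rw [h01, Module.Basis.repr_sum_self]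
    · show bs.repr ⁅bs 0, bs 2⁆ r = Q r
      rw [h02, Module.Basis.repr_sum_self]
  · fin_cases s
    · show bs.repr ⁅bs 1, bs 0⁆ r = -P r
      rw [← lie_skew (bs 1) (bs 0), h01, map_neg, Finsupp.neg_apply, Module.Basis.repr_sum_self]
    · show bs.repr ⁅bs 1, bs 1⁆ r = 0
      rw [lie_self, map_zero, Finsupp.zero_apply]
    · show bs.repr ⁅bs 1, bs 2⁆ r = S r
      rw [h12, Module.Basis.repr_sum_self]
  · fin_cases s
    · show bs.repr ⁅bs 2, bs 0⁆ r = -Q r
      rw [← lie_skew (bs 2) (bs 0), h02, map_neg, Finsupp.neg_apply, Module.Basis.repr_sum_self]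
    · show bs.repr ⁅bs 2, bs 1⁆ r = -S r
      rw [← lie_skew (bs 2) (bs 1), h12, map_neg, Finsupp.neg_apply, Module.Basis.repr_sum_self]
    · show bs.repr ⁅bs 2, bs 2⁆ r = 0
      rw [lie_self, map_zero, Finsupp.zero_apply]

lemma T_ad_sum (A : Fin 3 → Matrix (Fin 3) (Fin 3) R)
    (hA : ∀ j, T bs (LieAlgebra.ad R L (bs j)) = A j) (w : Fin 3 → R) :
    T bs (LieAlgebra.ad R L (∑ i, w i • bs i)) = ∑ i, w i • A i := by
  rw [ad_sum, map_sum]
  refine Finset.sum_congr rfl fun i _ => ?_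
  rw [map_smul, hA]

theorem nonempty_pmap_iff {p : ℕ} [Fact p.Prime] [CharP R p]
    (A : Fin 3 → Matrix (Fin 3) (Fin 3) R)
    (hA : ∀ j, T bs (LieAlgebra.ad R L (bs j)) = A j) :
    Nonempty (PLie.PMap R p L) ↔ ∀ j, ∃ w : Fin 3 → R, A j ^ p = ∑ i, w i • A i := by
  constructor
  · rintro ⟨φ⟩ j
    refine ⟨fun i => bs.repr (φ (bs j)) i, ?_⟩
    rw [← T_ad_sum bs A hA, bs.sum_repr, φ.ad_map, map_pow, hA]
  · intro h
    choose w hw using h
    have hy : ∀ j : Fin 3, LieAlgebra.ad R L (bs j) ^ p =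
        LieAlgebra.ad R L (∑ i, w j i • bs i) := by
      intro j
      apply (T bs).injective
      rw [map_pow, hA, hw j, T_ad_sum bs A hA]
    obtain ⟨φ, _, _⟩ := Groth.Agent.Lib.PLieJacH1.main13773 bs (fun j => ∑ i, w j i • bs i) hy
    exact ⟨φ⟩

/-- the Jacobi identity in matrix form. -/
lemma jacobi_mat (A : Fin 3 → Matrix (Fin 3) (Fin 3) R)
    (hA : ∀ j, T bs (LieAlgebra.ad R L (bs j)) = A j) (i j : Fin 3) (w : Fin 3 → R)
    (hw : ⁅bs i, bs j⁆ = ∑ l, w l • bs l) :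
    A i * A j = ∑ l, w l • A l + A j * A i := by
  have := T_ad_lie bs (bs i) (bs j)
  rw [hA, hA, hw, T_ad_sum bs A hA] at this
  exact this

end Generic

end Groth.Agent.Lib.PLieDef3H1
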