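import Groth.Agent.Lib.PLieDef3_helper1

/-!
# Restrictability of first-order deformations of three-dimensional Lie algebras (helper1)
-/

set_option autoImplicit false
set_option maxHeartbeats 1000000

universe u v

namespace Groth.Agent.Lib.PLieDual3H1

open DualNumber TrivSqZeroExt PLie Groth.Agent.Lib.PLieDef3H1

section Basics

variable {K : Type u} [Field K]

/-- the dual number `u + v ε`. -/
noncomputable def dn (u v : K) : DualNumber K := inl u + inr v

@[simp] lemma fst_dn (u v : K) : (dn u v).fst = u := by simp [dn]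
@[simp] lemma snd_dn (u v : K) : (dn u v).snd = v := by simp [dn]

/-- geometric sum. -/
noncomputable def sg (t : K) (n : ℕ) : K := ∑ i ∈ Finset.range n, t ^ i

/-- the matrix of `ad x` for the deformations of `l_t`. -/
noncomputable def XM (a b c d e f t : K) : Matrix (Fin 3) (Fin 3) (DualNumber K) :=
  !![0, dn 0 a, dn 0 d; 0, dn 1 b, dn 0 e; 0, dn 0 c, dn t f]

lemma XM_pow (a b c d e f t : K) (m : ℕ) :
    XM a b c d e f t ^ (m + 1) =
      !![0, dn 0 a, dn 0 (d * t ^ m);
         0, dn 1 ((m + 1 : ℕ) * b), dn 0 (e * sg t (m + 1));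
         0, dn 0 (c * sg t (m + 1)), dn (t ^ (m + 1)) ((m + 1 : ℕ) * t ^ m * f)] := by
  induction m with
  | zero =>
    simp [XM, sg]
  | succ m ih =>
    rw [pow_succ, ih]
    have h1 : sg t (m + 1 + 1) = sg t (m + 1) + t ^ (m + 1) := Finset.sum_range_succ _ _
    have h2 : sg t (m + 1 + 1) = t * sg t (m + 1) + 1 := geom_sum_succ
    ext r s : 1
    fin_cases r <;> fin_cases s <;> apply TrivSqZeroExt.ext <;>
      simp [XM, Matrix.mul_apply, Fin.sum_univ_three] <;>
      first | done | ring1 | (rw [h1]; ring1) | (rw [h2]; ring1) | (push_cast; ring1)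

/-- structure vectors. -/
noncomputable def P3 (a b c : K) : Fin 3 → DualNumber K := ![a • ε, 1 + b • ε, c • ε]
noncomputable def Q3 (d e f t : K) : Fin 3 → DualNumber K :=
  ![d • ε, e • ε, algebraMap K (DualNumber K) t + f • ε]
noncomputable def S3 (g h i : K) : Fin 3 → DualNumber K := ![g • ε, h • ε, i • ε]

end Basics

section L3

variable {K : Type u} [Field K]

theorem main13778 (p : ℕ) [Fact p.Prime] [CharP K p] [CharP (DualNumber K) p]
    (t a b c d e f g h i : K) (ht : t ^ p = t)
    {L : Type v} [LieRing L] [LieAlgebra (DualNumber K) L]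
    (bs : Module.Basis (Fin 3) (DualNumber K) L)
    (hxy : ⁅bs 0, bs 1⁆ = (a • ε : DualNumber K) • bs 0 + (1 + b • ε : DualNumber K) • bs 1 +
      (c • ε : DualNumber K) • bs 2)
    (hxz : ⁅bs 0, bs 2⁆ = (d • ε : DualNumber K) • bs 0 + (e • ε : DualNumber K) • bs 1 +
      (algebraMap K (DualNumber K) t + f • ε) • bs 2)
    (hyz : ⁅bs 1, bs 2⁆ = (g • ε : DualNumber K) • bs 0 + (h • ε : DualNumber K) • bs 1 +
      (i • ε : DualNumber K) • bs 2) :
    Nonempty (PLie.PMap (DualNumber K) p L) ↔
      (b * t = f ∧ (t = 1 → c = 0 ∧ e = 0) ∧ (p = 2 → g = 0)) := by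
  have h01 : ⁅bs 0, bs 1⁆ = ∑ l, P3 a b c l • bs l := by rw [Fin.sum_univ_three]; exact hxy
  have h02 : ⁅bs 0, bs 2⁆ = ∑ l, Q3 d e f t l • bs l := by rw [Fin.sum_univ_three]; exact hxz
  have h12 : ⁅bs 1, bs 2⁆ = ∑ l, S3 g h i l • bs l := by rw [Fin.sum_univ_three]; exact hyz
  have hA := T_ad bs h01 h02 h12
  rw [nonempty_pmap_iff bs _ hA]
  have hp := (Fact.out : p.Prime)
  have hpK : (p : K) = 0 := CharP.cast_eq_zero K p
  obtain ⟨m, hm⟩ : ∃ m, p = m + 1 := ⟨p - 1, by have := hp.one_le; omega⟩
  have hX : adM (P3 a b c) (Q3 d e f t) (S3 g h i) 0 = XM a b c d e f t := by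
    ext r s : 1
    fin_cases r <;> fin_cases s <;> apply TrivSqZeroExt.ext <;>
      simp [adM, P3, Q3, S3, XM, TrivSqZeroExt.algebraMap_eq_inl]
  have hXp : adM (P3 a b c) (Q3 d e f t) (S3 g h i) 0 ^ p =
      !![0, dn 0 a, dn 0 (d * t ^ m); 0, dn 1 0, dn 0 (e * sg t p);
         0, dn 0 (c * sg t p), dn t 0] := by
    have h1 : ((m + 1 : ℕ) : K) = 0 := by rw [← hm]; exact hpK
    have h2 : t ^ (m + 1) = t := by rw [← hm]; exact ht
    rw [hX, hm, XM_pow, h1, h2]
    simp
  have hsg : sg t p * (t - 1) = t - 1 := by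
    unfold sg
    rw [geom_sum_mul, ht]
  constructor
  · intro H
    obtain ⟨w, hw⟩ := H 0
    obtain ⟨w', hw'⟩ := H 1
    rw [hXp] at hw
    have E := fun (r s : Fin 3) => congrFun (congrFun hw r) s
    have e11f := congrArg TrivSqZeroExt.fst (E 1 1)
    have e11s := congrArg TrivSqZeroExt.snd (E 1 1)
    have e22s := congrArg TrivSqZeroExt.snd (E 2 2)
    have e20f := congrArg TrivSqZeroExt.fst (E 2 0)
    have e10f := congrArg TrivSqZeroExt.fst (E 1 0)
    have e12s := congrArg TrivSqZeroExt.snd (E 1 2)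
    have e21s := congrArg TrivSqZeroExt.snd (E 2 1)
    simp [Fin.sum_univ_three, adM, P3, Q3, S3, TrivSqZeroExt.algebraMap_eq_inl, -mul_eq_zero,
      -zero_eq_mul] at e11f e11s e22s e20f e10f e12s e21s
    refine ⟨?_, ?_, ?_⟩
    · linear_combination (-t) * e11s + e22s + h * e20f + i * e10f + (b * t - f) * e11f
    · intro ht1
      have hs : sg t p = 0 := by
        rw [ht1]; simp [sg, hpK]
      have ht1' : t - 1 = 0 := by rw [ht1, sub_self]
      constructor
      · linear_combination c * e11f - e21s + c * hs + i * e20f - (i * (w 2).fst) * ht1'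
      · linear_combination e * e11f - e12s + e * hs - h * e10f
    · intro hp2
      rw [hp2, pow_two] at hw'
      have E' := fun (r s : Fin 3) => congrFun (congrFun hw' r) s
      have e12s' := congrArg TrivSqZeroExt.snd (E' 1 2)
      have e11f' := congrArg TrivSqZeroExt.fst (E' 1 1)
      have e10f' := congrArg TrivSqZeroExt.fst (E' 1 0)
      simp [Matrix.mul_apply, Fin.sum_univ_three, adM, P3, Q3, S3,
        TrivSqZeroExt.algebraMap_eq_inl, -mul_eq_zero, -zero_eq_mul] at e12s' e11f' e10f'
      linear_combination -e12s' + e * e11f' - h * e10f'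
  · rintro ⟨hf, h1, h2⟩ j
    have hJ := jacobi_mat bs _ hA 0 1 (P3 a b c) h01
    have hd := congrArg TrivSqZeroExt.snd (congrFun (congrFun hJ 1) 2)
    simp [Matrix.mul_apply, Fin.sum_univ_three, adM, P3, Q3, S3,
        TrivSqZeroExt.algebraMap_eq_inl, -mul_eq_zero, -zero_eq_mul] at hd
    have h2' : t ^ (m + 1) = t := by rw [← hm]; exact ht
    have hsg1 : t ≠ 1 → sg t p = 1 := by
      intro hne
      have h3 : (sg t p - 1) * (t - 1) = 0 := by linear_combination hsg
      rcases mul_eq_zero.mp h3 with h4 | h4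
      · linear_combination h4
      · exact absurd (sub_eq_zero.mp h4) hne
    have he : e * sg t p = e := by
      by_cases ht1 : t = 1
      · rw [(h1 ht1).2]; simp
      · rw [hsg1 ht1, mul_one]
    have hc : c * sg t p = c := by
      by_cases ht1 : t = 1
      · rw [(h1 ht1).1]; simp
      · rw [hsg1 ht1, mul_one]
    have h3le : p ≠ 2 → 3 ≤ p := by
      intro hne
      have := hp.two_le
      omega
    fin_cases j
    · refine ⟨![dn 1 (-b), 0, 0], ?_⟩
      show adM (P3 a b c) (Q3 d e f t) (S3 g h i) 0 ^ p = _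
      rw [hXp]
      ext r s : 1
      fin_cases r <;> fin_cases s <;> apply TrivSqZeroExt.ext <;>
        simp [Fin.sum_univ_three, adM, P3, Q3, S3, TrivSqZeroExt.algebraMap_eq_inl]
      all_goals first | exact he | exact hc | linear_combination hf |
        linear_combination (-(t ^ m - 1)) * hd + h * h2'
    · show ∃ w, adM (P3 a b c) (Q3 d e f t) (S3 g h i) 1 ^ p = _
      by_cases hp2 : p = 2
      · have hg := h2 hp2
        refine ⟨![0, dn 0 (-a), 0], ?_⟩
        rw [hp2, pow_two]
        ext r s : 1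
        fin_cases r <;> fin_cases s <;> apply TrivSqZeroExt.ext <;>
          simp [Matrix.mul_apply, Fin.sum_univ_three, adM, P3, Q3, S3,
            TrivSqZeroExt.algebraMap_eq_inl, hg] <;>
          first | done | ring1
      · refine ⟨fun _ => 0, ?_⟩
        have h3 : adM (P3 a b c) (Q3 d e f t) (S3 g h i) 1 ^ 3 = 0 := by
          rw [pow_succ, pow_two]
          ext r s : 1
          fin_cases r <;> fin_cases s <;> apply TrivSqZeroExt.ext <;>
            simp [Matrix.mul_apply, Fin.sum_univ_three, adM, P3, Q3, S3,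
              TrivSqZeroExt.algebraMap_eq_inl] <;>
            first | done | ring1
        obtain ⟨k, hk⟩ := Nat.exists_eq_add_of_le (h3le hp2)
        rw [hk, pow_add, h3, zero_mul]
        simp
    · show ∃ w, adM (P3 a b c) (Q3 d e f t) (S3 g h i) 2 ^ p = _
      by_cases hp2 : p = 2
      · have hg := h2 hp2
        refine ⟨![0, 0, dn 0 (-d)], ?_⟩
        rw [hp2, pow_two]
        ext r s : 1
        fin_cases r <;> fin_cases s <;> apply TrivSqZeroExt.ext <;>
          simp [Matrix.mul_apply, Fin.sum_univ_three, adM, P3, Q3, S3,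
            TrivSqZeroExt.algebraMap_eq_inl, hg] <;>
          first | done | ring1
      · refine ⟨fun _ => 0, ?_⟩
        have h3 : adM (P3 a b c) (Q3 d e f t) (S3 g h i) 2 ^ 3 = 0 := by
          rw [pow_succ, pow_two]
          ext r s : 1
          fin_cases r <;> fin_cases s <;> apply TrivSqZeroExt.ext <;>
            simp [Matrix.mul_apply, Fin.sum_univ_three, adM, P3, Q3, S3,
              TrivSqZeroExt.algebraMap_eq_inl] <;>
            first | done | ring1
        obtain ⟨k, hk⟩ := Nat.exists_eq_add_of_le (h3le hp2)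
        rw [hk, pow_add, h3, zero_mul]
        simp

end L3

section H3

variable {K : Type u} [Field K]

/-- structure vectors for the deformations of the Heisenberg algebra. -/
noncomputable def P3h (a b c : K) : Fin 3 → DualNumber K := ![a • ε, b • ε, c • ε]
noncomputable def S3h (g h i : K) : Fin 3 → DualNumber K := ![1 + g • ε, h • ε, i • ε]

theorem main19868 (p : ℕ) [Fact p.Prime] [CharP K p] [CharP (DualNumber K) p]
    (a b c d e f g h i : K)
    {L : Type v} [LieRing L] [LieAlgebra (DualNumber K) L]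
    (bs : Module.Basis (Fin 3) (DualNumber K) L)
    (hxy : ⁅bs 0, bs 1⁆ = (a • ε : DualNumber K) • bs 0 + (b • ε : DualNumber K) • bs 1 +
      (c • ε : DualNumber K) • bs 2)
    (hxz : ⁅bs 0, bs 2⁆ = (d • ε : DualNumber K) • bs 0 + (e • ε : DualNumber K) • bs 1 +
      (f • ε : DualNumber K) • bs 2)
    (hyz : ⁅bs 1, bs 2⁆ = (1 + g • ε : DualNumber K) • bs 0 + (h • ε : DualNumber K) • bs 1 +
      (i • ε : DualNumber K) • bs 2) :
    Nonempty (PLie.PMap (DualNumber K) p L) ↔ (p = 2 → b = 0 ∧ c = 0 ∧ e = 0) := by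
  have h01 : ⁅bs 0, bs 1⁆ = ∑ l, P3h a b c l • bs l := by rw [Fin.sum_univ_three]; exact hxy
  have h02 : ⁅bs 0, bs 2⁆ = ∑ l, P3h d e f l • bs l := by rw [Fin.sum_univ_three]; exact hxz
  have h12 : ⁅bs 1, bs 2⁆ = ∑ l, S3h g h i l • bs l := by rw [Fin.sum_univ_three]; exact hyz
  have hA := T_ad bs h01 h02 h12
  rw [nonempty_pmap_iff bs _ hA]
  have hp := (Fact.out : p.Prime)
  constructor
  · intro H hp2
    obtain ⟨w, hw⟩ := H 1
    obtain ⟨w', hw'⟩ := H 2
    rw [hp2, pow_two] at hw hw'
    have E := fun (r s : Fin 3) => congrFun (congrFun hw r) s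
    have E' := fun (r s : Fin 3) => congrFun (congrFun hw' r) s
    have e02f := congrArg TrivSqZeroExt.fst (E 0 2)
    have e01f := congrArg TrivSqZeroExt.fst (E 0 1)
    have e00s := congrArg TrivSqZeroExt.snd (E 0 0)
    have e12s := congrArg TrivSqZeroExt.snd (E 1 2)
    have e02f' := congrArg TrivSqZeroExt.fst (E' 0 2)
    have e01f' := congrArg TrivSqZeroExt.fst (E' 0 1)
    have e00s' := congrArg TrivSqZeroExt.snd (E' 0 0)
    simp [Matrix.mul_apply, Fin.sum_univ_three, adM, P3h, S3h, -mul_eq_zero,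
      -zero_eq_mul] at e02f e01f e00s e12s e02f' e01f' e00s'
    have he0 : e = 0 := by linear_combination e00s' + a * e02f' - d * e01f'
    refine ⟨?_, ?_, he0⟩
    · linear_combination -e12s - (w 0).fst * he0 + h * e02f
    · linear_combination -e00s - a * e02f + d * e01f
  · intro hcond j
    have hJ := jacobi_mat bs _ hA 0 1 (P3h a b c) h01
    have hfb := congrArg TrivSqZeroExt.snd (congrFun (congrFun hJ 0) 2)
    simp [Matrix.mul_apply, Fin.sum_univ_three, adM, P3h, S3h, -mul_eq_zero,
      -zero_eq_mul] at hfb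
    have h4le : p ≠ 2 → p ≠ 3 → 4 ≤ p := by
      intro h2 h3
      have := hp.two_le
      omega
    fin_cases j
    · show ∃ w, adM (P3h a b c) (P3h d e f) (S3h g h i) 0 ^ p = _
      refine ⟨fun _ => 0, ?_⟩
      have h2 : adM (P3h a b c) (P3h d e f) (S3h g h i) 0 ^ 2 = 0 := by
        rw [pow_two]
        ext r s : 1
        fin_cases r <;> fin_cases s <;> apply TrivSqZeroExt.ext <;>
          simp [Matrix.mul_apply, Fin.sum_univ_three, adM, P3h, S3h] <;>
          first | done | ring1
      obtain ⟨k, hk⟩ := Nat.exists_eq_add_of_le hp.two_le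
      rw [hk, pow_add, h2, zero_mul]
      simp
    · show ∃ w, adM (P3h a b c) (P3h d e f) (S3h g h i) 1 ^ p = _
      by_cases hp2 : p = 2
      · obtain ⟨hb, hc, he⟩ := hcond hp2
        refine ⟨![0, dn 0 (i - a), 0], ?_⟩
        rw [hp2, pow_two]
        ext r s : 1
        fin_cases r <;> fin_cases s <;> apply TrivSqZeroExt.ext <;>
          simp [Matrix.mul_apply, Fin.sum_univ_three, adM, P3h, S3h, hb, hc] <;>
          first | done | ring1
      · by_cases hp3 : p = 3
        · refine ⟨![0, dn 0 (-c), 0], ?_⟩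
          rw [hp3, pow_succ, pow_two]
          ext r s : 1
          fin_cases r <;> fin_cases s <;> apply TrivSqZeroExt.ext <;>
            simp [Matrix.mul_apply, Fin.sum_univ_three, adM, P3h, S3h] <;>
            first | done | ring1
        · refine ⟨fun _ => 0, ?_⟩
          have h4 : adM (P3h a b c) (P3h d e f) (S3h g h i) 1 ^ 4 = 0 := by
            rw [show (4 : ℕ) = 2 + 2 from rfl, pow_add, pow_two]
            ext r s : 1
            fin_cases r <;> fin_cases s <;> apply TrivSqZeroExt.ext <;>
              simp [Matrix.mul_apply, Fin.sum_univ_three, adM, P3h, S3h] <;>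
              first | done | ring1
          obtain ⟨k, hk⟩ := Nat.exists_eq_add_of_le (h4le hp2 hp3)
          rw [hk, pow_add, h4, zero_mul]
          simp
    · show ∃ w, adM (P3h a b c) (P3h d e f) (S3h g h i) 2 ^ p = _
      by_cases hp2 : p = 2
      · obtain ⟨hb, hc, he⟩ := hcond hp2
        have hf0 : f = 0 := by linear_combination -hfb - hb
        refine ⟨![0, 0, dn 0 (-(h + d))], ?_⟩
        rw [hp2, pow_two]
        ext r s : 1
        fin_cases r <;> fin_cases s <;> apply TrivSqZeroExt.ext <;>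
          simp [Matrix.mul_apply, Fin.sum_univ_three, adM, P3h, S3h, he, hf0] <;>
          first | done | ring1
      · by_cases hp3 : p = 3
        · refine ⟨![0, 0, dn 0 e], ?_⟩
          rw [hp3, pow_succ, pow_two]
          ext r s : 1
          fin_cases r <;> fin_cases s <;> apply TrivSqZeroExt.ext <;>
            simp [Matrix.mul_apply, Fin.sum_univ_three, adM, P3h, S3h] <;>
            first | done | ring1
        · refine ⟨fun _ => 0, ?_⟩
          have h4 : adM (P3h a b c) (P3h d e f) (S3h g h i) 2 ^ 4 = 0 := by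
            rw [show (4 : ℕ) = 2 + 2 from rfl, pow_add, pow_two]
            ext r s : 1
            fin_cases r <;> fin_cases s <;> apply TrivSqZeroExt.ext <;>
              simp [Matrix.mul_apply, Fin.sum_univ_three, adM, P3h, S3h] <;>
              first | done | ring1
          obtain ⟨k, hk⟩ := Nat.exists_eq_add_of_le (h4le hp2 hp3)
          rw [hk, pow_add, h4, zero_mul]
          simp

end H3

end Groth.Agent.Lib.PLieDual3H1
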