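import Groth.Agent.Lib.PLie3_helper1
import Groth.Agent.Lib.PBWRing_helper1

/-!
# Jacobson's theorem on the existence of `p`-maps (helper1)

For a Lie algebra `L` over a commutative ring `R` of characteristic `p`, free with basis `b`, and
`y i` with `ad (b i) ^ p = ad (y i)`, there is exactly one `p`-map with `φ (b i) = y i`.
Proof: in `U(L)` the elements `z i = (b i)^p - y i` commute with `L`; `x^p - Σ (xᵢ)^p z i` lies in
(the image of) `L` by Jacobson's formula, and `L → U(L)` is injective (PBW over a ring,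
`PBWRing_helper1`, generalising helper4's `PBW_helper4`).
-/

set_option autoImplicit false
set_option maxHeartbeats 1000000

universe u v w

namespace Groth.Agent.Lib.PLieJacH1

open Groth.Agent.Lib.JacobsonH1 Groth.Agent.Lib.PLie3H1 PLie

attribute [local instance 100] LieRing.ofAssociativeRing

section Jac

variable {R : Type u} [CommRing R] {p : ℕ} [Fact p.Prime] [CharP R p]
variable {L : Type v} [LieRing L] [LieAlgebra R L] {ι : Type w} (b : Module.Basis ι R L) (y : ι → L)

/-- `L → U(L)` as a linear map. -/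
noncomputable def eL : L →ₗ[R] UniversalEnvelopingAlgebra R L :=
  (UniversalEnvelopingAlgebra.ι R : L →ₗ⁅R⁆ UniversalEnvelopingAlgebra R L).toLinearMap

lemma eL_br (x x' : L) : eL (R := R) ⁅x, x'⁆ = eL (R := R) x * eL x' - eL x' * eL x := by
  show (UniversalEnvelopingAlgebra.ι R) ⁅x, x'⁆ = _
  rw [LieHom.map_lie, LieRing.of_associative_ring_bracket]
  rfl

include b in
lemma eL_inj : Function.Injective (eL (R := R) (L := L)) := by
  letI : LinearOrder ι := IsWellOrder.linearOrder WellOrderingRel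
  exact Groth.Agent.Lib.PBWRingH1.ι_injective b

/-- the central elements `z i = (b i)^p - y i`. -/
noncomputable def zz (i : ι) : UniversalEnvelopingAlgebra R L :=
  eL (R := R) (b i) ^ p - eL (y i)

include p in
lemma natCast_U : ((p : ℕ) : UniversalEnvelopingAlgebra R L) = 0 :=
  natCast_eq_zero_algebra (R := R) p

lemma zz_comm (hy : ∀ i : ι, LieAlgebra.ad R L (b i) ^ p = LieAlgebra.ad R L (y i)) (i : ι)
    (w : L) : zz (p := p) b y i * eL w = eL w * zz (p := p) b y i := by
  have h1 := map_ad_pow (R := R) (eL (R := R) (L := L)) eL_br (b i) p w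
  rw [ad_pow_prime p (natCast_U (R := R) (p := p) (L := L)), hy i, LieAlgebra.ad_apply, eL_br] at h1
  unfold zz
  rw [sub_mul, mul_sub, sub_eq_sub_iff_add_eq_add]
  rw [sub_eq_sub_iff_add_eq_add] at h1
  rw [← h1, add_comm]

/-- the Frobenius-semilinear combination `Σ (xᵢ)^p z i`. -/
noncomputable def FF (x : L) : UniversalEnvelopingAlgebra R L :=
  (b.repr x).sum fun i c => c ^ p • zz (p := p) b y i

lemma FF_add (x x' : L) : FF (p := p) b y (x + x') = FF (p := p) b y x + FF (p := p) b y x' := by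
  unfold FF
  rw [map_add, Finsupp.sum_add_index']
  · intro i
    rw [zero_pow (Fact.out : p.Prime).ne_zero, zero_smul]
  · intro i c c'
    rw [add_pow_char c c', add_smul]

lemma FF_smul (c : R) (x : L) : FF (p := p) b y (c • x) = c ^ p • FF (p := p) b y x := by
  unfold FF
  rw [map_smul, Finsupp.sum_smul_index, Finsupp.smul_sum]
  · refine Finsupp.sum_congr fun i _ => ?_
    rw [mul_pow, mul_smul]
  · intro i
    rw [zero_pow (Fact.out : p.Prime).ne_zero, zero_smul]

lemma FF_basis (i : ι) : FF (p := p) b y (b i) = zz (p := p) b y i := by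
  unfold FF
  rw [b.repr_self, Finsupp.sum_single_index, one_pow, one_smul]
  rw [zero_pow (Fact.out : p.Prime).ne_zero, zero_smul]

lemma FF_zero : FF (p := p) b y 0 = 0 := by
  unfold FF
  rw [map_zero, Finsupp.sum_zero_index]

lemma FF_comm (hy : ∀ i : ι, LieAlgebra.ad R L (b i) ^ p = LieAlgebra.ad R L (y i)) (x w : L) :
    FF (p := p) b y x * eL w = eL w * FF (p := p) b y x := by
  unfold FF Finsupp.sum
  rw [Finset.sum_mul, Finset.mul_sum]
  refine Finset.sum_congr rfl fun i _ => ?_
  rw [smul_mul_assoc, mul_smul_comm, zz_comm b y hy]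

lemma exists_pre (x : L) : ∃ l : L, eL (R := R) l = eL x ^ p - FF (p := p) b y x := by
  have hx : x ∈ Submodule.span R (Set.range b) := by rw [b.span_eq]; trivial
  induction hx using Submodule.span_induction with
  | mem x hx =>
    obtain ⟨i, rfl⟩ := hx
    refine ⟨y i, ?_⟩
    rw [FF_basis]
    unfold zz
    abel
  | zero =>
    refine ⟨0, ?_⟩
    rw [map_zero, FF_zero, zero_pow (Fact.out : p.Prime).ne_zero, sub_zero]
  | add x x' _ _ hx hx' =>
    obtain ⟨l, hl⟩ := hx
    obtain ⟨l', hl'⟩ := hx'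
    refine ⟨l + l' - PLie.jacobson R p x x', ?_⟩
    rw [map_sub, map_add, hl, hl', map_jacobson (eL (R := R) (L := L)) eL_br, map_add,
      jacobson_assoc (R := R) p (eL x) (eL x'), FF_add]
    abel
  | smul c x _ hx =>
    obtain ⟨l, hl⟩ := hx
    refine ⟨c ^ p • l, ?_⟩
    rw [map_smul, hl, map_smul, smul_pow, FF_smul, smul_sub]

/-- the `p`-map of Jacobson's theorem, as a function. -/
noncomputable def phi0 (x : L) : L := Classical.choose (exists_pre (p := p) b y x)

lemma phi0_spec (x : L) :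
    eL (R := R) (phi0 (p := p) b y x) = eL x ^ p - FF (p := p) b y x :=
  Classical.choose_spec (exists_pre (p := p) b y x)

/-- the `p`-map of Jacobson's theorem. -/
noncomputable def phi (hy : ∀ i : ι, LieAlgebra.ad R L (b i) ^ p = LieAlgebra.ad R L (y i)) :
    PLie.PMap R p L where
  toFun := phi0 (p := p) b y
  map_smul c x := by
    apply eL_inj b
    rw [phi0_spec, map_smul, map_smul, phi0_spec, smul_pow, FF_smul, smul_sub]
  ad_map x := by
    apply LinearMap.ext
    intro w
    apply eL_inj b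
    rw [LieAlgebra.ad_apply, eL_br, phi0_spec, map_ad_pow (R := R) (eL (R := R) (L := L)) eL_br x p w,
      ad_pow_prime p (natCast_U (R := R) (p := p) (L := L)), sub_mul, mul_sub, FF_comm b y hy]
    abel
  map_add x x' := by
    apply eL_inj b
    rw [map_sub, map_add, phi0_spec, phi0_spec, phi0_spec,
      map_jacobson (eL (R := R) (L := L)) eL_br, map_add,
      jacobson_assoc (R := R) p (eL x) (eL x'), FF_add]
    abel

lemma phi_basis (hy : ∀ i : ι, LieAlgebra.ad R L (b i) ^ p = LieAlgebra.ad R L (y i)) (i : ι) :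
    phi b y hy (b i) = y i := by
  apply eL_inj b
  show eL (R := R) (phi0 (p := p) b y (b i)) = _
  rw [phi0_spec, FF_basis]
  unfold zz
  abel

lemma pmap_ext (φ ψ : PLie.PMap R p L) (h : ∀ x, φ x = ψ x) : φ = ψ := by
  cases φ; cases ψ; congr; funext x; exact h x

lemma pmap_zero (φ : PLie.PMap R p L) : φ 0 = 0 := by
  have := φ.map_smul 0 0
  rw [zero_smul, zero_pow (Fact.out : p.Prime).ne_zero, zero_smul] at this
  exact this

lemma pmap_unique (φ ψ : PLie.PMap R p L) (h : ∀ i, φ (b i) = ψ (b i)) : φ = ψ := by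
  refine pmap_ext φ ψ fun x => ?_
  have hx : x ∈ Submodule.span R (Set.range b) := by rw [b.span_eq]; trivial
  induction hx using Submodule.span_induction with
  | mem x hx =>
    obtain ⟨i, rfl⟩ := hx
    exact h i
  | zero => rw [pmap_zero, pmap_zero]
  | add x x' _ _ hx hx' =>
    have h1 := φ.map_add x x'
    have h2 := ψ.map_add x x'
    show φ.toFun (x + x') = ψ.toFun (x + x')
    rw [h1, h2]
    show φ x + φ x' - _ = ψ x + ψ x' - _
    rw [hx, hx']
  | smul c x _ hx =>
    show φ.toFun (c • x) = ψ.toFun (c • x)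
    rw [φ.map_smul, ψ.map_smul]
    show c ^ p • φ x = c ^ p • ψ x
    rw [hx]

theorem main13773 (hy : ∀ i : ι, LieAlgebra.ad R L (b i) ^ p = LieAlgebra.ad R L (y i)) :
    ∃! φ : PLie.PMap R p L, ∀ i : ι, φ (b i) = y i := by
  refine ⟨phi b y hy, phi_basis b y hy, fun ψ hψ => ?_⟩
  refine pmap_unique b ψ (phi b y hy) fun i => ?_
  rw [hψ i, phi_basis b y hy i]

end Jac

section RankOne

variable {R : Type u} [CommRing R] {p : ℕ} [Fact p.Prime] [CharP R p]
variable {L : Type v} [LieRing L] [LieAlgebra R L] {ι : Type w} (b : Module.Basis ι R L)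

lemma ad_pow_rankOne (v : L) (f : L →ₗ[R] L →ₗ[R] R) (hf : ∀ x y : L, ⁅x, y⁆ = f x y • v)
    (x w : L) : ∀ n : ℕ, (LieAlgebra.ad R L x ^ (n + 1)) w = (f x w * (f x v) ^ n) • v
  | 0 => by rw [zero_add, pow_one, LieAlgebra.ad_apply, hf, pow_zero, mul_one]
  | n + 1 => by
    rw [pow_succ' (LieAlgebra.ad R L x) (n + 1), Module.End.mul_apply, ad_pow_rankOne v f hf x w n,
      LieAlgebra.ad_apply, lie_smul, hf x v, smul_smul, pow_succ, mul_assoc]

theorem main13774 (v : L) (f : L →ₗ[R] L →ₗ[R] R) (hf : ∀ x y : L, ⁅x, y⁆ = f x y • v) :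
    ∃ φ : PLie.PMap R p L, ∀ i : ι, φ (b i) = (f (b i) v) ^ (p - 1) • b i := by
  have hp := (Fact.out : p.Prime)
  have hy : ∀ i : ι, LieAlgebra.ad R L (b i) ^ p =
      LieAlgebra.ad R L ((f (b i) v) ^ (p - 1) • b i) := by
    intro i
    apply LinearMap.ext
    intro w
    have hp1 : p = (p - 1) + 1 := by have := hp.one_le; omega
    have h1 := ad_pow_rankOne v f hf (b i) w (p - 1)
    rw [← hp1] at h1
    rw [h1, LieAlgebra.ad_apply, smul_lie, hf, smul_smul, mul_comm]
  obtain ⟨φ, hφ, _⟩ := main13773 b (fun i => (f (b i) v) ^ (p - 1) • b i) hy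
  exact ⟨φ, hφ⟩

end RankOne

end Groth.Agent.Lib.PLieJacH1
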