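import Mathlib
import Groth.Prelude.Def_PLie

set_option autoImplicit false
set_option linter.style.haveILetI false
set_option linter.unusedVariables false
set_option linter.unusedSectionVars false
set_option maxHeartbeats 800000

universe u v

namespace Groth.Agent.Lib.PLieKillingH4

variable {k : Type u} [Field k] {L : Type v} [LieRing L] [LieAlgebra k L]

theorem ad_iterate (p : ℕ) [CharP k p] (φ : PLie.PMap k p L) (x : L) (n : ℕ) :
    LieAlgebra.ad k L (φ.toFun^[n] x) = LieAlgebra.ad k L x ^ (p ^ n) := by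
  induction n with
  | zero => simp
  | succ n ih => rw [Function.iterate_succ_apply', φ.ad_map, ih, ← pow_mul, pow_succ]

theorem ad_nilpotent_of_pNilpotent (p : ℕ) [CharP k p] (φ : PLie.PMap k p L) (x : L)
    (hx : PLie.IsPNilpotent φ x) : IsNilpotent (LieAlgebra.ad k L x) := by
  obtain ⟨n, hn⟩ := hx
  refine ⟨p ^ n, ?_⟩
  rw [← ad_iterate p φ x n, hn, map_zero]

/-- If `H` normalizes `U` and `U` consists of ad-nilpotent elements, then `H ⟂ U` for the
Killing form. -/
theorem killing_zero_of_normalizes [Module.Finite k L] (U H : LieSubalgebra k L)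
    (hnorm : ∀ h ∈ H, ∀ u ∈ U, ⁅h, u⁆ ∈ U)
    (hnil : ∀ u ∈ U, IsNilpotent (LieAlgebra.ad k L u))
    (h : L) (hh : h ∈ H) (x : L) (hx : x ∈ U) : killingForm k L h x = 0 := by
  have hUnil : LieModule.IsNilpotent ↥U L := by
    have hE : LieAlgebra.IsEngelian k ↥U := LieAlgebra.isEngelian_of_isNoetherian
    apply hE L
    intro u
    have h1 : LieModule.toEnd k ↥U L u = LieAlgebra.ad k L (u : L) := by
      ext m
      rfl
    rw [h1]
    exact hnil u u.2
  obtain ⟨n, hn⟩ := (LieModule.isNilpotent_iff k ↥U L).mp hUnil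
  have hpres : ∀ i, ∀ m ∈ LieModule.lowerCentralSeries k ↥U L i,
      ⁅h, m⁆ ∈ LieModule.lowerCentralSeries k ↥U L i := by
    intro i
    induction i with
    | zero =>
      intro m _
      rw [LieModule.lowerCentralSeries_zero]
      exact LieSubmodule.mem_top _
    | succ i ih =>
      intro m hm
      rw [LieModule.lowerCentralSeries_succ] at hm ⊢
      have hm' : m ∈ ((⁅(⊤ : LieIdeal k ↥U), LieModule.lowerCentralSeries k ↥U L i⁆ :
          LieSubmodule k ↥U L) : Submodule k L) := hm
      rw [LieSubmodule.lieIdeal_oper_eq_linear_span] at hm'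
      show ⁅h, m⁆ ∈ ((⁅(⊤ : LieIdeal k ↥U), LieModule.lowerCentralSeries k ↥U L i⁆ :
          LieSubmodule k ↥U L) : Submodule k L)
      rw [LieSubmodule.lieIdeal_oper_eq_linear_span]
      clear hm
      induction hm' using Submodule.span_induction with
      | mem y hy =>
        obtain ⟨u, m', rfl⟩ := hy
        have e1 : ⁅((u : ↥U)), (m' : L)⁆ = ⁅(((u : ↥U)) : L), (m' : L)⁆ :=
          LieSubalgebra.coe_bracket_of_module U (u : ↥U) (m' : L)
        rw [e1, leibniz_lie]
        refine Submodule.add_mem _ ?_ ?_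
        · have hmemU : ⁅h, (((u : ↥U)) : L)⁆ ∈ U := hnorm h hh _ (u : ↥U).2
          refine Submodule.subset_span
            ⟨⟨⟨⁅h, (((u : ↥U)) : L)⁆, hmemU⟩, LieSubmodule.mem_top _⟩, m', ?_⟩
          rfl
        · refine Submodule.subset_span ⟨u, ⟨⁅h, (m' : L)⁆, ih _ m'.2⟩, ?_⟩
          rfl
      | zero => rw [lie_zero]; exact Submodule.zero_mem _
      | add a b _ _ ha hb => rw [lie_add]; exact Submodule.add_mem _ ha hb
      | smul c a _ ha => rw [lie_smul]; exact Submodule.smul_mem _ c ha
  obtain ⟨T, hT⟩ : ∃ T : Module.End k L,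
      T = LieModule.toEnd k L L h ∘ₗ LieModule.toEnd k L L x := ⟨_, rfl⟩
  have hTapp : ∀ v, T v = ⁅h, ⁅x, v⁆⁆ := by
    intro v
    rw [hT, LinearMap.comp_apply, LieModule.toEnd_apply_apply, LieModule.toEnd_apply_apply]
  have hTpow : ∀ i v, (T ^ i) v ∈ LieModule.lowerCentralSeries k ↥U L i := by
    intro i
    induction i with
    | zero =>
      intro v
      rw [LieModule.lowerCentralSeries_zero]
      exact LieSubmodule.mem_top _
    | succ i ih =>
      intro v
      rw [pow_succ', Module.End.mul_apply, hTapp]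
      apply hpres
      rw [LieModule.lowerCentralSeries_succ]
      have e2 : ⁅x, (T ^ i) v⁆ = ⁅(⟨x, hx⟩ : ↥U), (T ^ i) v⁆ := rfl
      rw [e2]
      exact LieSubmodule.lie_mem_lie (LieSubmodule.mem_top _) (ih v)
  have hTnil : IsNilpotent T := by
    refine ⟨n, ?_⟩
    ext v
    have h2 := hTpow n v
    rw [hn] at h2
    exact (LieSubmodule.mem_bot _).mp h2
  have htr : LinearMap.trace k L T = 0 :=
    (LinearMap.isNilpotent_trace_of_isNilpotent hTnil).eq_zero
  have h3 : killingForm k L h x = LinearMap.trace k L T := by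
    rw [hT]
    exact LieModule.traceForm_apply_apply k L L h x
  rw [h3, htr]

theorem main14875
    (k : Type u) [Field k] (p : ℕ) [Fact p.Prime] [CharP k p]
    (L : Type v) [LieRing L] [LieAlgebra k L] [Module.Finite k L]
    (φ : PLie.PMap k p L) (hκ : (killingForm k L).Nondegenerate)
    (U H : LieSubalgebra k L) (hH : H = U.normalizer)
    (hU : ∀ x : L, x ∈ U ↔ ∃ hx : x ∈ H, (⟨x, hx⟩ : ↥H) ∈ LieAlgebra.radical k ↥H ∧ PLie.IsPNilpotent φ x)
    (hperp : ∀ a b : L, (∀ y ∈ U, killingForm k L a y = 0) → (∀ y ∈ U, killingForm k L b y = 0) →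
      ∀ y ∈ U, killingForm k L ⁅a, b⁆ y = 0) :
    ∀ x : L, x ∈ U ↔ ∀ h ∈ H, killingForm k L h x = 0 := by
  have hsymm : ∀ a b : L, killingForm k L a b = killingForm k L b a :=
    fun a b => (LieModule.traceForm_isSymm k L L).eq a b
  have hrefl : (killingForm k L).IsRefl := (LieModule.traceForm_isSymm k L L).isRefl
  have hdd := LinearMap.BilinForm.orthogonal_orthogonal hκ hrefl U.toSubmodule
  have key : ∀ y : L,
      (∀ q ∈ (killingForm k L).orthogonal U.toSubmodule, killingForm k L q y = 0) → y ∈ U := by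
    intro y hy
    have h1 : y ∈ (killingForm k L).orthogonal ((killingForm k L).orthogonal U.toSubmodule) :=
      LinearMap.BilinForm.mem_orthogonal_iff.mpr hy
    rw [hdd] at h1
    exact h1
  have hQ : ∀ q ∈ (killingForm k L).orthogonal U.toSubmodule, ∀ y ∈ U, killingForm k L q y = 0 := by
    intro q hq y hy
    rw [hsymm]
    exact LinearMap.BilinForm.mem_orthogonal_iff.mp hq y hy
  have hQH : ∀ q ∈ (killingForm k L).orthogonal U.toSubmodule, q ∈ H := by
    intro q hq
    rw [hH, LieSubalgebra.mem_normalizer_iff]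
    intro u hu
    apply key
    intro q' hq'
    have h1 : killingForm k L q' ⁅q, u⁆ = killingForm k L ⁅q', q⁆ u :=
      (LieModule.traceForm_apply_lie_apply k L L q' q u).symm
    rw [h1]
    exact hperp q' q (hQ q' hq') (hQ q hq) u hu
  intro x
  constructor
  · intro hx h hh
    refine killing_zero_of_normalizes U H ?_ ?_ h hh x hx
    · intro h' hh' u hu
      rw [hH] at hh'
      exact (LieSubalgebra.mem_normalizer_iff U h').mp hh' u hu
    · intro u hu
      obtain ⟨_, _, hpn⟩ := (hU u).mp hu
      exact ad_nilpotent_of_pNilpotent p φ u hpn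
  · intro hx
    apply key
    intro q hq
    exact hx q (hQH q hq)

end Groth.Agent.Lib.PLieKillingH4
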