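import Groth.Agent.Lib.PLieJac_helper1

/-!
# A faithful finite-dimensional restricted representation (helper1)

For a finite-dimensional restricted Lie algebra `(L, φ)` over a field of characteristic `p`, the PBW
representation `ρ` of `L` on `S = k[X₁,…,Xₙ]` has commuting operators `ζ i = ρ(bᵢ)^p - ρ(φ bᵢ)`
commuting with `ρ(L)`; `S / Σ ζ i (S)` is a finite-dimensional faithful representation on which
`φ x` acts as the `p`-th power of `x` (the restricted enveloping algebra acting on itself).
-/

set_option autoImplicit false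
set_option maxHeartbeats 1000000

universe u v

namespace Groth.Agent.Lib.PLieRepH1

open MvPolynomial Groth.Agent.Lib.PBWRingH1 Groth.Agent.Lib.PLieJacH1 PLie

attribute [local instance 100] LieRing.ofAssociativeRing

section Ops

variable {k : Type u} [Field k] {p : ℕ} [Fact p.Prime] [CharP k p]
variable {L : Type v} [LieRing L] [LieAlgebra k L] {n : ℕ} (b : Module.Basis (Fin n) k L)
  (φ : PLie.PMap k p L)

/-- the algebra map `U(L) → End k[X]`. -/
noncomputable def rhoU :
    UniversalEnvelopingAlgebra k L →ₐ[k] Module.End k (MvPolynomial (Fin n) k) :=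
  UniversalEnvelopingAlgebra.lift k (rhoLie b)

lemma rhoU_eL (x : L) : rhoU b (eL (R := k) x) = rho b x := by
  show UniversalEnvelopingAlgebra.lift k (rhoLie b) (UniversalEnvelopingAlgebra.ι k x) = _
  rw [UniversalEnvelopingAlgebra.lift_ι_apply]
  rfl

/-- the operators `ζ i = ρ(b i)^p - ρ(φ (b i))`. -/
noncomputable def zeta (i : Fin n) : Module.End k (MvPolynomial (Fin n) k) :=
  rho b (b i) ^ p - rho b (φ (b i))

lemma rhoU_zz (i : Fin n) : rhoU b (zz (p := p) b (fun j => φ (b j)) i) = zeta b φ i := by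
  unfold zz zeta
  rw [map_sub, map_pow, rhoU_eL, rhoU_eL]

lemma hy (i : Fin n) : LieAlgebra.ad k L (b i) ^ p = LieAlgebra.ad k L (φ (b i)) :=
  (φ.ad_map (b i)).symm

lemma zeta_comm_rho (i : Fin n) (x : L) : zeta b φ i * rho b x = rho b x * zeta b φ i := by
  have := zz_comm (p := p) b (fun j => φ (b j)) (hy b φ) i x
  have h2 := congrArg (rhoU b) this
  rwa [map_mul, map_mul, rhoU_zz, rhoU_eL] at h2

lemma zeta_comm (i j : Fin n) : Commute (zeta b φ i) (zeta b φ j) := by
  have h : ∀ x : L, Commute (zeta b φ i) (rho b x) := fun x => zeta_comm_rho b φ i x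
  show Commute (zeta b φ i) (rho b (b j) ^ p - rho b (φ (b j)))
  exact ((h _).pow_right p).sub_right (h _)

lemma key_identity (x : L) :
    rho b x ^ p - rho b (φ x) = (b.repr x).sum fun i c => c ^ p • zeta b φ i := by
  have hφ : φ = phi b (fun j => φ (b j)) (hy b φ) :=
    pmap_unique b φ _ (fun i => (phi_basis b _ (hy b φ) i).symm)
  have hx : φ x = phi0 (p := p) b (fun j => φ (b j)) x :=
    congrFun (congrArg PLie.PMap.toFun hφ) x
  have h1 : eL (R := k) (φ x) = eL x ^ p - FF (p := p) b (fun j => φ (b j)) x := by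
    rw [hx]
    exact phi0_spec b _ x
  have h2 := congrArg (rhoU b) h1
  rw [map_sub, map_pow, rhoU_eL, rhoU_eL] at h2
  rw [h2, sub_sub_cancel]
  unfold FF
  rw [map_finsuppSum]
  refine Finsupp.sum_congr fun i _ => ?_
  rw [map_smul, rhoU_zz]

/-! ### degree estimates -/

lemma rho_le (x : L) (d : ℕ) (f : MvPolynomial (Fin n) k) (hf : f.totalDegree ≤ d) :
    (rho b x f).totalDegree ≤ d + 1 :=
  B_to_B' b (rho b) (rho_B b) x d f hf

lemma rho_pow_le (x : L) : ∀ (m d : ℕ) (f : MvPolynomial (Fin n) k), f.totalDegree ≤ d →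
    ((rho b x ^ m) f).totalDegree ≤ d + m
  | 0, d, f, hf => by simpa using hf
  | m + 1, d, f, hf => by
    rw [pow_succ', Module.End.mul_apply]
    exact rho_le b x (d + m) _ (rho_pow_le x m d f hf)

lemma X_pow_mul_le (i : Fin n) (m d : ℕ) (f : MvPolynomial (Fin n) k) (hf : f.totalDegree ≤ d) :
    (X i ^ m * f).totalDegree ≤ m + d :=
  (totalDegree_mul _ _).trans (add_le_add (by rw [totalDegree_X_pow]) hf)

lemma rho_pow_lead (i : Fin n) : ∀ (m d : ℕ) (f : MvPolynomial (Fin n) k), f.totalDegree ≤ d →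
    ((rho b (b i) ^ (m + 1)) f - X i ^ (m + 1) * f).totalDegree ≤ d + m
  | 0, d, f, hf => by
    have := rho_B b (b i) d f hf
    rw [sig_basis] at this
    simpa using this
  | m + 1, d, f, hf => by
    have ih := rho_pow_lead i m d f hf
    have e : (rho b (b i) ^ (m + 1 + 1)) f - X i ^ (m + 1 + 1) * f =
        rho b (b i) ((rho b (b i) ^ (m + 1)) f - X i ^ (m + 1) * f) +
          (rho b (b i) (X i ^ (m + 1) * f) - X i * (X i ^ (m + 1) * f)) := by
      rw [pow_succ' (rho b (b i)) (m + 1), Module.End.mul_apply, map_sub,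
        pow_succ' (X i : MvPolynomial (Fin n) k) (m + 1)]
      ring
    rw [e]
    refine (totalDegree_add _ _).trans (max_le ?_ ?_)
    · exact rho_le b (b i) (d + m) _ ih
    · have h1 : (X i ^ (m + 1) * f).totalDegree ≤ (m + 1) + d := X_pow_mul_le i (m + 1) d f hf
      have := rho_B b (b i) ((m + 1) + d) _ h1
      rw [sig_basis] at this
      exact this.trans (by omega)

lemma zeta_lead (i : Fin n) (d : ℕ) (f : MvPolynomial (Fin n) k) (hf : f.totalDegree ≤ d) :
    (zeta b φ i f - X i ^ p * f).totalDegree ≤ d + (p - 1) := by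
  have hp2 := (Fact.out : p.Prime).two_le
  obtain ⟨m, hm⟩ : ∃ m, p = m + 1 := ⟨p - 1, by omega⟩
  have e : zeta b φ i f - X i ^ p * f =
      ((rho b (b i) ^ p) f - X i ^ p * f) - rho b (φ (b i)) f := by
    unfold zeta
    rw [LinearMap.sub_apply]
    abel
  rw [e]
  refine (totalDegree_sub _ _).trans (max_le ?_ ?_)
  · have := rho_pow_lead b i m d f hf
    rw [← hm] at this
    exact this.trans (by omega)
  · exact (rho_le b _ d f hf).trans (by omega)

lemma zeta_le (i : Fin n) (d : ℕ) (f : MvPolynomial (Fin n) k) (hf : f.totalDegree ≤ d) :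
    (zeta b φ i f).totalDegree ≤ d + p := by
  have hp2 := (Fact.out : p.Prime).two_le
  have e : zeta b φ i f = (zeta b φ i f - X i ^ p * f) + X i ^ p * f := by ring
  rw [e]
  refine (totalDegree_add _ _).trans (max_le ((zeta_lead b φ i d f hf).trans (by omega)) ?_)
  exact (X_pow_mul_le i p d f hf).trans (by omega)

end Ops

section PhiSec

variable {k : Type u} [Field k] {p : ℕ} [Fact p.Prime] [CharP k p]
variable {L : Type v} [LieRing L] [LieAlgebra k L] {n : ℕ} (b : Module.Basis (Fin n) k L)
  (φ : PLie.PMap k p L)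

lemma zpow_comm : Pairwise fun i j : Fin n => ∀ x y : Multiplicative ℕ,
    Commute (powersHom (Module.End k (MvPolynomial (Fin n) k)) (zeta b φ i) x)
      (powersHom (Module.End k (MvPolynomial (Fin n) k)) (zeta b φ j) y) := by
  intro i j _ x y
  simp only [powersHom_apply]
  exact (zeta_comm b φ i j).pow_pow _ _

/-- monomials in the commuting operators `ζ i`. -/
noncomputable def zpow : (Fin n → Multiplicative ℕ) →* Module.End k (MvPolynomial (Fin n) k) :=
  MonoidHom.noncommPiCoprod
    (fun i => powersHom (Module.End k (MvPolynomial (Fin n) k)) (zeta b φ i)) (zpow_comm b φ)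

lemma zpow_mulSingle (i : Fin n) :
    zpow b φ (Pi.mulSingle i (Multiplicative.ofAdd 1)) = zeta b φ i := by
  unfold zpow
  rw [MonoidHom.noncommPiCoprod_mulSingle, powersHom_apply]
  simp

/-- quotients of the exponents by `p`. -/
def al (p : ℕ) (γ : Fin n →₀ ℕ) : Fin n → Multiplicative ℕ :=
  fun i => Multiplicative.ofAdd (γ i / p)

/-- remainders of the exponents mod `p`. -/
noncomputable def be (p : ℕ) (γ : Fin n →₀ ℕ) : Fin n →₀ ℕ := γ.mapRange (· % p) (Nat.zero_mod p)

/-- the comparison map `X^(pα+β) ↦ ζ^α X^β`. -/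
noncomputable def Phi : MvPolynomial (Fin n) k →ₗ[k] MvPolynomial (Fin n) k :=
  (basisMonomials (Fin n) k).constr k fun γ => zpow b φ (al p γ) (monomial (be p γ) 1)

lemma Phi_monomial (γ : Fin n →₀ ℕ) :
    Phi b φ (monomial γ 1) = zpow b φ (al p γ) (monomial (be p γ) 1) := by
  have := (basisMonomials (Fin n) k).constr_basis k
    (fun γ => zpow b φ (al p γ) (monomial (be p γ) (1 : k))) γ
  unfold Phi
  simpa [coe_basisMonomials] using this

omit [CharP k p] in
lemma al_add_single (γ : Fin n →₀ ℕ) (i : Fin n) :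
    al p (γ + Finsupp.single i p) = Pi.mulSingle i (Multiplicative.ofAdd 1) * al p γ := by
  have hp := (Fact.out : p.Prime).pos
  funext j
  by_cases hj : j = i
  · subst hj
    simp only [al, Finsupp.add_apply, Finsupp.single_eq_same, Pi.mul_apply, Pi.mulSingle_eq_same]
    rw [Nat.add_div_right _ hp, ← ofAdd_add, add_comm]
  · have h0 : (Finsupp.single i p) j = 0 := by simp [Finsupp.single_apply, Ne.symm hj]
    simp only [al, Finsupp.add_apply, Pi.mul_apply, h0, add_zero, Pi.mulSingle_eq_of_ne hj,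
      one_mul]

omit [Fact p.Prime] [CharP k p] in
lemma be_add_single (γ : Fin n →₀ ℕ) (i : Fin n) : be p (γ + Finsupp.single i p) = be p γ := by
  ext j
  simp only [be, Finsupp.mapRange_apply, Finsupp.add_apply]
  by_cases hj : j = i
  · subst hj; simp
  · simp [Finsupp.single_apply, Ne.symm hj]

lemma Phi_shift_mono (γ : Fin n →₀ ℕ) (i : Fin n) :
    Phi b φ (monomial (γ + Finsupp.single i p) 1) = zeta b φ i (Phi b φ (monomial γ 1)) := by
  rw [Phi_monomial, Phi_monomial, al_add_single, be_add_single, map_mul, zpow_mulSingle,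
    Module.End.mul_apply]

lemma Phi_shift (i : Fin n) (h : MvPolynomial (Fin n) k) :
    Phi b φ (X i ^ p * h) = zeta b φ i (Phi b φ h) := by
  have : (Phi b φ) ∘ₗ (LinearMap.mulLeft k (X i ^ p : MvPolynomial (Fin n) k)) =
      (zeta b φ i) ∘ₗ (Phi b φ) := by
    apply (basisMonomials (Fin n) k).ext
    intro γ
    simp only [coe_basisMonomials, LinearMap.comp_apply, LinearMap.mulLeft_apply]
    rw [← monomial_single_add, add_comm, Phi_shift_mono]
  exact LinearMap.congr_fun this h

lemma Phi_restricted (γ : Fin n →₀ ℕ) (hγ : ∀ i, γ i < p) :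
    Phi b φ (monomial γ 1) = monomial γ 1 := by
  rw [Phi_monomial]
  have h1 : al p γ = 1 := by
    funext i
    simp [al, Nat.div_eq_of_lt (hγ i)]
  have h2 : be p γ = γ := by
    ext i
    simp [be, Nat.mod_eq_of_lt (hγ i)]
  rw [h1, h2, map_one, Module.End.one_apply]

lemma Phi_lead : ∀ (D : ℕ) (γ : Fin n →₀ ℕ), γ.degree = D →
    Phi b φ (monomial γ 1) - monomial γ 1 = 0 ∨
      (Phi b φ (monomial γ 1) - monomial γ 1).totalDegree < γ.degree := by
  intro D
  induction D using Nat.strong_induction_on with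
  | _ D ih =>
    intro γ hD
    have hp2 := (Fact.out : p.Prime).two_le
    by_cases hγ : ∀ i, γ i < p
    · left
      rw [Phi_restricted b φ γ hγ, sub_self]
    · right
      push Not at hγ
      obtain ⟨i, hi⟩ := hγ
      obtain ⟨γ', rfl⟩ : ∃ γ', γ = γ' + Finsupp.single i p :=
        ⟨γ - Finsupp.single i p, (tsub_add_cancel_of_le (Finsupp.single_le_iff.mpr hi)).symm⟩
      have hdeg : (γ' + Finsupp.single i p).degree = γ'.degree + p := by
        rw [map_add, Finsupp.degree_single]
      have ih' := ih γ'.degree (by omega) γ' rfl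
      rw [Phi_shift_mono, hdeg]
      have e2 : zeta b φ i (Phi b φ (monomial γ' 1)) - monomial (γ' + Finsupp.single i p) 1 =
          (zeta b φ i (monomial γ' 1) - X i ^ p * monomial γ' 1) +
            zeta b φ i (Phi b φ (monomial γ' 1) - monomial γ' 1) := by
        rw [add_comm γ', monomial_single_add, map_sub]
        abel
      rw [e2]
      have hm : (monomial γ' (1 : k)).totalDegree ≤ γ'.degree := mono_deg_le le_rfl
      have h1 := zeta_lead b φ i γ'.degree _ hm
      refine lt_of_le_of_lt (totalDegree_add _ _) (max_lt (by omega) ?_)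
      rcases ih' with h0 | hlt
      · rw [h0, map_zero, totalDegree_zero]; omega
      · have := zeta_le b φ i (γ'.degree - 1) (Phi b φ (monomial γ' 1) - monomial γ' 1) (by omega)
        omega

lemma Phi_sub_self (f : MvPolynomial (Fin n) k) :
    Phi b φ f - f = 0 ∨ (Phi b φ f - f).totalDegree < f.totalDegree := by
  have e : Phi b φ f - f =
      ∑ γ ∈ f.support, coeff γ f • (Phi b φ (monomial γ 1) - monomial γ 1) := by
    conv_lhs => rw [f.as_sum]
    rw [map_sum, ← Finset.sum_sub_distrib]
    refine Finset.sum_congr rfl fun γ _ => ?_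
    rw [smul_sub, ← map_smul, smul_monomial, smul_eq_mul, mul_one]
  have hdeg : ∀ γ ∈ f.support, γ.degree ≤ f.totalDegree := fun γ hγ => by
    rw [degree_eq_sum']; exact le_totalDegree hγ
  by_cases hD : f.totalDegree = 0
  · left
    rw [e]
    refine Finset.sum_eq_zero fun γ hγ => ?_
    have h0 : γ.degree = 0 := by have := hdeg γ hγ; omega
    rcases Phi_lead b φ _ γ rfl with h | h
    · rw [h, smul_zero]
    · omega
  · right
    rw [e]
    have : (∑ γ ∈ f.support, coeff γ f • (Phi b φ (monomial γ 1) - monomial γ 1)).totalDegree ≤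
        f.totalDegree - 1 := by
      refine totalDegree_finsetSum_le fun γ hγ => ?_
      refine (totalDegree_smul_le _ _).trans ?_
      rcases Phi_lead b φ _ γ rfl with h | h
      · rw [h, totalDegree_zero]; omega
      · have := hdeg γ hγ; omega
    omega

lemma Phi_injective : Function.Injective (Phi b φ) := by
  rw [← LinearMap.ker_eq_bot, LinearMap.ker_eq_bot']
  intro f hf
  rcases Phi_sub_self b φ f with h0 | hlt
  · rw [hf, zero_sub, neg_eq_zero] at h0; exact h0
  · rw [hf, zero_sub, totalDegree_neg] at hlt; exact absurd hlt (lt_irrefl _)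

lemma Phi_surjective : Function.Surjective (Phi b φ) := by
  have key : ∀ (D : ℕ) (f : MvPolynomial (Fin n) k), f.totalDegree = D →
      ∃ g, Phi b φ g = f := by
    intro D
    induction D using Nat.strong_induction_on with
    | _ D ih =>
      intro f hD
      rcases Phi_sub_self b φ f with h0 | hlt
      · exact ⟨f, by rwa [sub_eq_zero] at h0⟩
      · obtain ⟨g, hg⟩ := ih _ (hD ▸ hlt) (Phi b φ f - f) rfl
        exact ⟨f - g, by rw [map_sub, hg]; abel⟩
  exact fun f => key _ f rfl

lemma Phi_sig (x : L) : Phi b φ (sig b x) = sig b x := by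
  have hp2 := (Fact.out : p.Prime).two_le
  have : (Phi b φ) ∘ₗ (sig b) = sig b := by
    apply b.ext
    intro j
    rw [LinearMap.comp_apply, sig_basis]
    show Phi b φ (monomial (Finsupp.single j 1) 1) = _
    refine Phi_restricted b φ _ (fun i => ?_)
    have : (Finsupp.single j 1 : Fin n →₀ ℕ) i ≤ 1 := by
      rw [Finsupp.single_apply]; split_ifs <;> omega
    omega
  exact LinearMap.congr_fun this x

omit [Fact p.Prime] [CharP k p] in
lemma coeff_sig (x : L) (j : Fin n) : coeff (Finsupp.single j 1) (sig b x) = b.repr x j := by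
  have h1 : sig b x = ∑ i ∈ (b.repr x).support, b.repr x i • (X i : MvPolynomial (Fin n) k) := by
    conv_lhs => rw [← b.linearCombination_repr x, Finsupp.linearCombination_apply, Finsupp.sum,
      map_sum]
    refine Finset.sum_congr rfl fun i _ => ?_
    rw [map_smul, sig_basis]
  rw [h1, coeff_sum]
  simp only [coeff_smul, coeff_X', smul_eq_mul, mul_ite, mul_one, mul_zero]
  rw [Finset.sum_eq_single j]
  · simp
  · intro i _ hij
    rw [if_neg]
    intro h
    exact hij (Finsupp.single_left_injective one_ne_zero h)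
  · intro hj
    rw [if_pos rfl]
    simpa using hj

/-- the subspace `Σ ζ i (S)`. -/
noncomputable def W : Submodule k (MvPolynomial (Fin n) k) := ⨆ i, LinearMap.range (zeta b φ i)

lemma mem_W_imp (w : MvPolynomial (Fin n) k) (hw : w ∈ W b φ) :
    ∃ h : MvPolynomial (Fin n) k, Phi b φ h = w ∧ ∀ j, coeff (Finsupp.single j 1) h = 0 := by
  have hp2 := (Fact.out : p.Prime).two_le
  unfold W at hw
  refine Submodule.iSup_induction _ (motive := fun w => ∃ h : MvPolynomial (Fin n) k,
    Phi b φ h = w ∧ ∀ j, coeff (Finsupp.single j 1) h = 0) hw ?_ ?_ ?_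
  · rintro i _ ⟨f, rfl⟩
    obtain ⟨h0, rfl⟩ := Phi_surjective b φ f
    refine ⟨X i ^ p * h0, Phi_shift b φ i h0, fun j => ?_⟩
    rw [X_pow_eq_monomial, coeff_monomial_mul', if_neg]
    intro hle
    have h1 := Finsupp.single_le_iff.mp hle
    have h2 : (Finsupp.single j 1 : Fin n →₀ ℕ) i ≤ 1 := by
      rw [Finsupp.single_apply]; split_ifs <;> omega
    omega
  · exact ⟨0, map_zero _, fun j => by simp⟩
  · rintro x y ⟨h1, rfl, h1'⟩ ⟨h2, rfl, h2'⟩
    exact ⟨h1 + h2, map_add _ _ _, fun j => by rw [coeff_add, h1', h2', add_zero]⟩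

lemma sig_mem_W (x : L) (hx : sig b x ∈ W b φ) : x = 0 := by
  obtain ⟨h, hh, hc⟩ := mem_W_imp b φ _ hx
  have h1 : h = sig b x := Phi_injective b φ (hh.trans (Phi_sig b φ x).symm)
  apply b.repr.injective
  ext j
  rw [← coeff_sig, ← h1, hc j]
  simp

omit [Fact p.Prime] [CharP k p] in
lemma finite_restricted : {β : Fin n →₀ ℕ | ∀ i, β i < p}.Finite := by
  have : {β : Fin n →₀ ℕ | ∀ i, β i < p} ⊆ Set.range
      (fun g : Fin n → Fin p => (Finsupp.equivFunOnFinite.symm (fun i => (g i : ℕ)) : Fin n →₀ ℕ)) := by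
    intro β hβ
    refine ⟨fun i => ⟨β i, hβ i⟩, ?_⟩
    ext i
    simp
  exact (Set.finite_range _).subset this

lemma sup_eq_top :
    Submodule.span k ((fun β => monomial β (1 : k)) '' {β : Fin n →₀ ℕ | ∀ i, β i < p}) ⊔ W b φ =
      ⊤ := by
  rw [eq_top_iff]
  intro f _
  obtain ⟨h, rfl⟩ := Phi_surjective b φ f
  rw [h.as_sum, map_sum]
  refine Submodule.sum_mem _ fun γ _ => ?_
  have : monomial γ (coeff γ h) = coeff γ h • monomial γ 1 := by
    rw [smul_monomial, smul_eq_mul, mul_one]
  rw [this, map_smul]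
  refine Submodule.smul_mem _ _ ?_
  by_cases hγ : ∀ i, γ i < p
  · rw [Phi_restricted b φ γ hγ]
    exact Submodule.mem_sup_left (Submodule.subset_span ⟨γ, hγ, rfl⟩)
  · push Not at hγ
    obtain ⟨i, hi⟩ := hγ
    have hp2 := (Fact.out : p.Prime).two_le
    obtain ⟨γ', rfl⟩ : ∃ γ', γ = γ' + Finsupp.single i p :=
      ⟨γ - Finsupp.single i p, (tsub_add_cancel_of_le (Finsupp.single_le_iff.mpr hi)).symm⟩
    rw [Phi_shift_mono]
    exact Submodule.mem_sup_right (Submodule.mem_iSup_of_mem i ⟨_, rfl⟩)

lemma finite_quot : Module.Finite k (MvPolynomial (Fin n) k ⧸ W b φ) := by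
  set R := Submodule.span k
    ((fun β => monomial β (1 : k)) '' {β : Fin n →₀ ℕ | ∀ i, β i < p}) with hR
  haveI : Module.Finite k R :=
    Module.Finite.span_of_finite k ((finite_restricted (p := p)).image _)
  have hsurj : Function.Surjective ((W b φ).mkQ ∘ₗ R.subtype) := by
    intro v
    obtain ⟨f, rfl⟩ := (W b φ).mkQ_surjective v
    have hf : f ∈ R ⊔ W b φ := by rw [hR, sup_eq_top]; trivial
    obtain ⟨r, hr, w, hw, rfl⟩ := Submodule.mem_sup.mp hf
    refine ⟨⟨r, hr⟩, ?_⟩
    show (W b φ).mkQ r = (W b φ).mkQ (r + w)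
    rw [map_add, Submodule.mkQ_apply _ w, (Submodule.Quotient.mk_eq_zero _).mpr hw, add_zero]
  exact Module.Finite.of_surjective _ hsurj

end PhiSec

section RepSec

variable {k : Type u} [Field k] {p : ℕ} [Fact p.Prime] [CharP k p]
variable {L : Type v} [LieRing L] [LieAlgebra k L] {n : ℕ} (b : Module.Basis (Fin n) k L)
  (φ : PLie.PMap k p L)

lemma W_stable (x : L) : W b φ ≤ (W b φ).comap (rho b x) := by
  unfold W
  refine iSup_le fun i => ?_
  rintro _ ⟨f, rfl⟩
  rw [Submodule.mem_comap]
  have := LinearMap.congr_fun (zeta_comm_rho b φ i x) f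
  simp only [Module.End.mul_apply] at this
  rw [← this]
  exact Submodule.mem_iSup_of_mem i ⟨_, rfl⟩

/-- the representation on the quotient. -/
noncomputable def rbar : L →ₗ[k] Module.End k (MvPolynomial (Fin n) k ⧸ W b φ) where
  toFun x := (W b φ).mapQ (W b φ) (rho b x) (W_stable b φ x)
  map_add' x y := by
    apply LinearMap.ext
    intro v
    obtain ⟨f, rfl⟩ := (W b φ).mkQ_surjective v
    simp only [Submodule.mkQ_apply, Submodule.mapQ_apply, LinearMap.add_apply, map_add,
      Submodule.Quotient.mk_add]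
  map_smul' c x := by
    apply LinearMap.ext
    intro v
    obtain ⟨f, rfl⟩ := (W b φ).mkQ_surjective v
    simp only [Submodule.mkQ_apply, Submodule.mapQ_apply, LinearMap.smul_apply, map_smul,
      Submodule.Quotient.mk_smul, RingHom.id_apply]

lemma rbar_mk (x : L) (f : MvPolynomial (Fin n) k) :
    rbar b φ x (Submodule.Quotient.mk f) = Submodule.Quotient.mk (rho b x f) := rfl

lemma rbar_pow_mk (x : L) : ∀ (m : ℕ) (f : MvPolynomial (Fin n) k),
    (rbar b φ x ^ m) (Submodule.Quotient.mk f) = Submodule.Quotient.mk ((rho b x ^ m) f)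
  | 0, f => rfl
  | m + 1, f => by
    rw [pow_succ', Module.End.mul_apply, rbar_pow_mk x m f, rbar_mk, pow_succ',
      Module.End.mul_apply]

lemma rbar_lie (x y : L) :
    rbar b φ ⁅x, y⁆ = rbar b φ x * rbar b φ y - rbar b φ y * rbar b φ x := by
  apply LinearMap.ext
  intro v
  obtain ⟨f, rfl⟩ := (W b φ).mkQ_surjective v
  simp only [Submodule.mkQ_apply, LinearMap.sub_apply, Module.End.mul_apply, rbar_mk]
  rw [comm_all b f.totalDegree x y f le_rfl, ← Submodule.Quotient.mk_sub]
  congr 1
  abel

lemma rbar_p (x : L) : rbar b φ (φ x) = rbar b φ x ^ p := by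
  apply LinearMap.ext
  intro v
  obtain ⟨f, rfl⟩ := (W b φ).mkQ_surjective v
  simp only [Submodule.mkQ_apply]
  rw [rbar_pow_mk, rbar_mk, eq_comm, Submodule.Quotient.eq]
  have h := LinearMap.congr_fun (key_identity b φ x) f
  rw [LinearMap.sub_apply] at h
  rw [h]
  unfold Finsupp.sum
  rw [LinearMap.sum_apply]
  refine Submodule.sum_mem _ fun i _ => ?_
  rw [LinearMap.smul_apply]
  exact Submodule.smul_mem _ _ (Submodule.mem_iSup_of_mem i ⟨f, rfl⟩)

lemma rbar_injective : Function.Injective (rbar b φ) := by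
  rw [← LinearMap.ker_eq_bot, LinearMap.ker_eq_bot']
  intro x hx
  have h1 := LinearMap.congr_fun hx (Submodule.Quotient.mk 1)
  rw [rbar_mk, LinearMap.zero_apply, Submodule.Quotient.mk_eq_zero] at h1
  have h2 : rho b x 1 = sig b x := by
    have := ev_ι b x
    rw [ev_apply, UniversalEnvelopingAlgebra.lift_ι_apply] at this
    exact this
  rw [h2] at h1
  exact sig_mem_W b φ x h1

end RepSec

theorem main17337 (k : Type u) [Field k] (p : ℕ) [Fact p.Prime] [CharP k p]
    (L : Type v) [LieRing L] [LieAlgebra k L] [Module.Finite k L] (φ : PLie.PMap k p L) :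
    ∃ (n : ℕ) (e : L →ₗ[k] Matrix (Fin n) (Fin n) k), PLie.IsPSubOfAssoc φ e := by
  let b := Module.finBasis k L
  haveI := finite_quot b φ
  let bV := Module.finBasis k (MvPolynomial (Fin (Module.finrank k L)) k ⧸ W b φ)
  let T := LinearMap.toMatrixAlgEquiv bV
  refine ⟨_, T.toLinearMap ∘ₗ rbar b φ, ?_, ?_, ?_⟩
  · exact T.injective.comp (rbar_injective b φ)
  · intro x y
    simp only [LinearMap.comp_apply, AlgEquiv.toLinearMap_apply]
    rw [rbar_lie, map_sub, map_mul, map_mul]
  · intro x
    simp only [LinearMap.comp_apply, AlgEquiv.toLinearMap_apply]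
    rw [rbar_p, map_pow]

end Groth.Agent.Lib.PLieRepH1
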