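import Groth.Agent.Lib.PLinDecomp_helper1

/-!
# Fixed vectors of a `p`-linear map under extension of algebraically closed fields (helper1)
-/

set_option autoImplicit false

namespace Groth.Agent.Lib.PLinBCH1

open TensorProduct

universe u

theorem main6639 {k k' V : Type u} [Field k] [IsAlgClosed k] [Field k']
    [IsAlgClosed k'] [Algebra k k'] (p : ℕ) [Fact p.Prime] [CharP k p]
    [AddCommGroup V] [Module k V] [FiniteDimensional k V] (F : V →+ V)
    (hF : ∀ (c : k) (v : V), F (c • v) = c ^ p • F v)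
    (F' : k' ⊗[k] V →+ k' ⊗[k] V) (hF' : ∀ (c : k') (v : V), F' (c ⊗ₜ[k] v) = (c ^ p) ⊗ₜ[k] F v) :
    Set.BijOn (fun v : V => (1 : k') ⊗ₜ[k] v) {v : V | F v = v} {w : k' ⊗[k] V | F' w = w} := by
  classical
  haveI : CharP k' p := charP_of_injective_algebraMap (algebraMap k k').injective p
  refine ⟨?_, ?_, ?_⟩
  · intro v hv
    show F' ((1 : k') ⊗ₜ[k] v) = (1 : k') ⊗ₜ[k] v
    rw [hF', one_pow, hv]
  · intro v _ v' _ h
    exact Module.Flat.tensorProduct_mk_injective k V k' h
  · intro w hw
    have hw' : F' w = w := hw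
    obtain ⟨hcompl, -⟩ := Groth.Agent.Lib.PLinDecompH1.main p k V F hF
    obtain ⟨s, hs_sub, hs_span, hs_li⟩ := exists_linearIndependent k {v : V | F v = v}
    obtain ⟨t, ht_sub, ht_span, ht_li⟩ :=
      exists_linearIndependent k {v : V | ∃ m : ℕ, (⇑F)^[m] v = 0}
    have hli : LinearIndependent k (Sum.elim (fun x : s => (x : V)) (fun y : t => (y : V))) := by
      apply LinearIndependent.sum_type hs_li ht_li
      rw [Subtype.range_coe, Subtype.range_coe, hs_span, ht_span]
      exact hcompl.disjoint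
    have hsp : ⊤ ≤ Submodule.span k
        (Set.range (Sum.elim (fun x : s => (x : V)) (fun y : t => (y : V)))) := by
      rw [Set.Sum.elim_range, Submodule.span_union, Subtype.range_coe, Subtype.range_coe, hs_span,
        ht_span, hcompl.sup_eq_top]
    let B : Module.Basis (s ⊕ t) k V := Module.Basis.mk hli hsp
    haveI : Fintype (s ⊕ t) := FiniteDimensional.fintypeBasisIndex B
    have hBl : ∀ x : s, B (Sum.inl x) = (x : V) := fun x => by simp [B]
    have hBr : ∀ y : t, B (Sum.inr y) = (y : V) := fun y => by simp [B]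
    have hfixB : ∀ x : s, F (B (Sum.inl x)) = B (Sum.inl x) := fun x => by
      rw [hBl]; exact hs_sub x.2
    have hnil : ∀ y : t, ∃ m, (⇑F)^[m] (B (Sum.inr y)) = 0 := fun y => by
      rw [hBr]; exact ht_sub y.2
    choose mm hmm using hnil
    obtain ⟨m, hm⟩ : ∃ m : ℕ, ∀ y : t, (⇑F)^[m] (B (Sum.inr y)) = 0 :=
      ⟨Finset.univ.sup (Sum.elim (fun _ : s => 0) mm), fun y =>
        Groth.Agent.Lib.PLinDecompH1.iter_zero_of_le F (hmm y)
          (Finset.le_sup (f := Sum.elim (fun _ : s => 0) mm) (Finset.mem_univ (Sum.inr y)))⟩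
    let B' : Module.Basis (s ⊕ t) k' (k' ⊗[k] V) := Algebra.TensorProduct.basis k' B
    have hB' : ∀ x, B' x = (1 : k') ⊗ₜ[k] B x :=
      fun x => Algebra.TensorProduct.basis_apply _ x
    have hiter : ∀ (m' : ℕ) (c : k') (v : V),
        (⇑F')^[m'] (c ⊗ₜ[k] v) = (c ^ (p ^ m')) ⊗ₜ[k] ((⇑F)^[m'] v) := by
      intro m'
      induction m' with
      | zero => intro c v; simp
      | succ m' ih =>
        intro c v
        rw [Function.iterate_succ_apply', ih, hF', Function.iterate_succ_apply', ← pow_mul,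
          ← pow_succ]
    have hsmulB : ∀ (c : k') x, c • B' x = c ⊗ₜ[k] B x := by
      intro c x
      rw [hB', TensorProduct.smul_tmul', smul_eq_mul, mul_one]
    obtain ⟨c, hc⟩ : ∃ c : s ⊕ t → k', ∀ x, c x = B'.repr w x := ⟨_, fun _ => rfl⟩
    have hwsum : w = ∑ x, c x • B' x := by
      simp only [hc]; exact (B'.sum_repr w).symm
    have hgen : ∀ m' : ℕ, (⇑F')^[m'] w =
        ∑ x, (c x) ^ (p ^ m') • ((1 : k') ⊗ₜ[k] ((⇑F)^[m'] (B x))) := by
      intro m'
      conv_lhs => rw [hwsum]
      rw [Groth.Agent.Lib.PLinDecompH1.iter_sum]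
      refine Finset.sum_congr rfl (fun x _ => ?_)
      rw [hsmulB, hiter, TensorProduct.smul_tmul', smul_eq_mul, mul_one]
    have hwm : (⇑F')^[m] w = w := Function.iterate_fixed hw' m
    have hcr : ∀ y : t, c (Sum.inr y) = 0 := by
      intro y
      obtain ⟨d, hd⟩ : ∃ d : s ⊕ t → k', d = Sum.elim (fun i : s => c (Sum.inl i) ^ (p ^ m))
          (fun _ : t => (0 : k')) := ⟨_, rfl⟩
      have h1 : (⇑F')^[m] w = ∑ x, d x • B' x := by
        rw [hgen m]
        refine Finset.sum_congr rfl (fun x _ => ?_)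
        rcases x with i | j
        · rw [Function.iterate_fixed (hfixB i), ← hB', hd]; rfl
        · rw [hm j, TensorProduct.tmul_zero, smul_zero, hd]
          simp
      have h2 : ⇑(B'.repr ((⇑F')^[m] w)) = d := by rw [h1]; exact B'.repr_sum_self d
      have h3 := congrFun h2 (Sum.inr y)
      rw [hwm, ← hc, hd] at h3
      exact h3
    have hcl : ∀ x, c x ^ p = c x := by
      intro x
      have h1 : F' w = ∑ x, (c x) ^ p • B' x := by
        have h0 := hgen 1
        rw [Function.iterate_one] at h0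
        rw [h0]
        refine Finset.sum_congr rfl (fun x _ => ?_)
        rcases x with i | j
        · rw [Function.iterate_one, pow_one, hfixB i, ← hB']
        · rw [hcr j, pow_one, zero_pow (Fact.out : p.Prime).ne_zero, zero_smul, zero_smul]
      have h2 : ⇑(B'.repr (F' w)) = fun x => (c x) ^ p := by
        rw [h1]; exact B'.repr_sum_self _
      have h3 := congrFun h2 x
      rw [hw', ← hc] at h3
      exact h3.symm
    have hmem : ∀ x, ∃ n : ℤ, (n : k') = c x := fun x =>
      (mem_bot_iff_intCast p k').mp ((Subfield.mem_bot_iff_pow_eq_self k' p).mpr (hcl x))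
    choose n hn using hmem
    obtain ⟨n', hn'⟩ : ∃ n' : s ⊕ t → ℤ, n' = Sum.elim (fun i : s => n (Sum.inl i))
        (fun _ : t => (0 : ℤ)) := ⟨_, rfl⟩
    refine ⟨∑ x, n' x • B x, ?_, ?_⟩
    · show F (∑ x, n' x • B x) = ∑ x, n' x • B x
      rw [map_sum]
      refine Finset.sum_congr rfl (fun x _ => ?_)
      rw [map_zsmul]
      rcases x with i | j
      · rw [hfixB i]
      · rw [hn']; simp
    · show (1 : k') ⊗ₜ[k] (∑ x, n' x • B x) = w
      rw [TensorProduct.tmul_sum, hwsum]
      refine Finset.sum_congr rfl (fun x _ => ?_)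
      rw [TensorProduct.tmul_smul, ← hB']
      rcases x with i | j
      · rw [← hn (Sum.inl i), hn']
        exact (Int.cast_smul_eq_zsmul k' _ _).symm
      · rw [hcr j, hn']; simp

end Groth.Agent.Lib.PLinBCH1
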