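import Mathlib

/-!
# Decomposition of a `p`-linear endomorphism over an algebraically closed field (helper1)
-/

set_option autoImplicit false

namespace Groth.Agent.Lib.PLinDecompH1

open Polynomial

universe u

section basics

variable {p : ℕ} [hp : Fact p.Prime] {k : Type u} [Field k] [CharP k p]
  {V : Type u} [AddCommGroup V] [Module k V] (F : V →+ V)
  (hF : ∀ (a : k) (v : V), F (a • v) = a ^ p • F v)

include hF in
theorem iter_smul (m : ℕ) (a : k) (v : V) : (⇑F)^[m] (a • v) = a ^ (p ^ m) • (⇑F)^[m] v := by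
  induction m with
  | zero => simp
  | succ m ih =>
    rw [Function.iterate_succ_apply', ih, hF, Function.iterate_succ_apply', ← pow_mul, ← pow_succ]

theorem iter_zero_of_le {x : V} {m m' : ℕ} (h : (⇑F)^[m] x = 0) (hle : m ≤ m') :
    (⇑F)^[m'] x = 0 := by
  obtain ⟨d, rfl⟩ := Nat.exists_eq_add_of_le' hle
  rw [Function.iterate_add_apply, h, iterate_map_zero]

theorem iter_sum {ι : Type*} (s : Finset ι) (g : ι → V) (m : ℕ) :
    (⇑F)^[m] (∑ i ∈ s, g i) = ∑ i ∈ s, (⇑F)^[m] (g i) := by
  classical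
  induction s using Finset.induction_on with
  | empty => simp [iterate_map_zero]
  | insert a s ha ih => rw [Finset.sum_insert ha, Finset.sum_insert ha, iterate_map_add, ih]

include hF in
theorem nil_of_mem_span {x : V}
    (hx : x ∈ Submodule.span k {v : V | ∃ m : ℕ, (⇑F)^[m] v = 0}) : ∃ m : ℕ, (⇑F)^[m] x = 0 := by
  induction hx using Submodule.span_induction with
  | mem x h => exact h
  | zero => exact ⟨0, rfl⟩
  | add x y _ _ ihx ihy =>
    obtain ⟨m, hm⟩ := ihx
    obtain ⟨n, hn⟩ := ihy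
    refine ⟨max m n, ?_⟩
    rw [iterate_map_add, iter_zero_of_le F hm (le_max_left _ _),
      iter_zero_of_le F hn (le_max_right _ _), add_zero]
  | smul a x _ ih =>
    obtain ⟨m, hm⟩ := ih
    exact ⟨m, by rw [iter_smul F hF, hm, smul_zero]⟩

include hF in
theorem indep {ι : Type*} [Fintype ι] (v : ι → V) (hv : ∀ i, F (v i) = v i)
    (hind : ∀ c : ι → ℤ, ∑ i, c i • v i = 0 → ∀ i, (p : ℤ) ∣ c i) :
    LinearIndependent k v := by
  classical
  rw [Fintype.linearIndependent_iff]
  have key : ∀ n : ℕ, ∀ g : ι → k, (Finset.univ.filter (fun i => g i ≠ 0)).card = n →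
      ∑ i, g i • v i = 0 → ∀ i, g i = 0 := by
    intro n
    induction n using Nat.strong_induction_on with
    | _ n ih =>
      intro g hcard hsum
      by_contra hne
      push Not at hne
      obtain ⟨i0, hi0⟩ := hne
      obtain ⟨g1, hg1⟩ : ∃ g1 : ι → k, ∀ i, g1 i = (g i0)⁻¹ * g i := ⟨_, fun _ => rfl⟩
      have hg1i0 : g1 i0 = 1 := by rw [hg1]; exact inv_mul_cancel₀ hi0
      have hsum1 : ∑ i, g1 i • v i = 0 := by
        have : ∑ i, g1 i • v i = (g i0)⁻¹ • ∑ i, g i • v i := by
          rw [Finset.smul_sum]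
          refine Finset.sum_congr rfl (fun i _ => ?_)
          rw [smul_smul, hg1]
        rw [this, hsum, smul_zero]
      obtain ⟨g2, hg2⟩ : ∃ g2 : ι → k, ∀ i, g2 i = g1 i ^ p - g1 i := ⟨_, fun _ => rfl⟩
      have hsum2 : ∑ i, g2 i • v i = 0 := by
        have hFs : F (∑ i, g1 i • v i) = ∑ i, (g1 i ^ p) • v i := by
          rw [map_sum]
          refine Finset.sum_congr rfl (fun i _ => ?_)
          rw [hF, hv]
        have : ∑ i, g2 i • v i = ∑ i, (g1 i ^ p) • v i - ∑ i, g1 i • v i := by
          rw [← Finset.sum_sub_distrib]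
          refine Finset.sum_congr rfl (fun i _ => ?_)
          rw [hg2, sub_smul]
        rw [this, ← hFs, hsum1, map_zero, sub_zero]
      have hsubset : (Finset.univ.filter (fun i => g2 i ≠ 0)) ⊆
          (Finset.univ.filter (fun i => g i ≠ 0)) := by
        intro i hi
        simp only [Finset.mem_filter, Finset.mem_univ, true_and] at hi ⊢
        intro h0
        apply hi
        rw [hg2, hg1, h0, mul_zero, zero_pow hp.out.ne_zero, sub_zero]
      have hsub : (Finset.univ.filter (fun i => g2 i ≠ 0)) ⊂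
          (Finset.univ.filter (fun i => g i ≠ 0)) :=
        (Finset.ssubset_iff_of_subset hsubset).2 ⟨i0, by simp [hi0], by simp [hg2, hg1i0]⟩
      have hg2z : ∀ i, g2 i = 0 :=
        ih _ (by rw [← hcard]; exact Finset.card_lt_card hsub) g2 rfl hsum2
      have hpow : ∀ i, g1 i ^ p = g1 i := fun i => sub_eq_zero.1 (by rw [← hg2]; exact hg2z i)
      have hmem : ∀ i, ∃ n : ℤ, (n : k) = g1 i := fun i =>
        (mem_bot_iff_intCast p k).mp ((Subfield.mem_bot_iff_pow_eq_self k p).mpr (hpow i))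
      choose c hc using hmem
      have hz : ∑ i, c i • v i = 0 := by
        rw [← hsum1]
        refine Finset.sum_congr rfl (fun i _ => ?_)
        rw [← hc i, Int.cast_smul_eq_zsmul]
      have hdvd := hind c hz i0
      have h0 : ((c i0 : ℤ) : k) = 0 := (CharP.intCast_eq_zero_iff k p _).2 hdvd
      rw [hc i0, hg1i0] at h0
      exact one_ne_zero h0
  intro g hg i
  exact key _ g rfl hg i

include hF in
theorem disjoint_fix_nil :
    Disjoint (Submodule.span k {v : V | F v = v})
      (Submodule.span k {v : V | ∃ m : ℕ, (⇑F)^[m] v = 0}) := by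
  classical
  rw [Submodule.disjoint_def]
  intro x hx0 hxn
  obtain ⟨m, hm⟩ := nil_of_mem_span F hF hxn
  obtain ⟨b, hbsub, hbspan, hbli⟩ := exists_linearIndependent k {v : V | F v = v}
  rw [← hbspan] at hx0
  obtain ⟨l, rfl⟩ := (Finsupp.mem_span_iff_linearCombination k b x).1 hx0
  rw [Finsupp.linearCombination_apply, Finsupp.sum] at hm ⊢
  have hiter : (⇑F)^[m] (∑ i ∈ l.support, l i • (i : V)) =
      ∑ i ∈ l.support, (l i) ^ (p ^ m) • (i : V) := by
    rw [iter_sum]
    refine Finset.sum_congr rfl (fun i _ => ?_)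
    rw [iter_smul F hF, Function.iterate_fixed (hbsub i.2)]
  rw [hiter] at hm
  have hz := linearIndependent_iff'.1 hbli l.support (fun i => l i ^ (p ^ m)) hm
  refine Finset.sum_eq_zero (fun i hi => ?_)
  have h1 := hz i hi
  rw [pow_eq_zero_iff (pow_pos hp.out.pos m).ne'] at h1
  rw [h1, zero_smul]

include hF in
theorem exists_fixed [IsAlgClosed k] [FiniteDimensional k V] (hinj : Function.Injective F)
    (v : V) (hv : v ≠ 0) : ∃ x : V, x ≠ 0 ∧ F x = x := by
  classical
  have hp2 : 2 ≤ p := hp.out.two_le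
  obtain ⟨q, hq⟩ : ∃ q, p = q + 1 := ⟨p - 1, by omega⟩
  have hq0 : q ≠ 0 := by omega
  have hpq : p * q ≠ 0 := Nat.mul_ne_zero (by omega) hq0
  obtain ⟨e, he⟩ : ∃ e : ℕ → V, ∀ i, e i = (⇑F)^[i] v := ⟨_, fun _ => rfl⟩
  have hesucc : ∀ i, e (i + 1) = F (e i) := fun i => by
    rw [he, he, Function.iterate_succ_apply']
  have hene : ∀ i, e i ≠ 0 := by
    intro i h
    rw [he] at h
    apply hv
    apply (hinj.iterate i)
    rw [h, iterate_map_zero]
  -- a relation
  have hex : ∃ r, ∃ c : ℕ → k, e r = ∑ j ∈ Finset.range r, c j • e j := by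
    obtain ⟨Wf, hWf⟩ : ∃ Wf : ℕ → Submodule k V,
        ∀ r, Wf r = Submodule.span k (Set.range fun i : Fin r => e i) := ⟨_, fun _ => rfl⟩
    have hmono : Monotone Wf := by
      intro a b hab
      rw [hWf, hWf]
      apply Submodule.span_mono
      rintro _ ⟨i, rfl⟩
      exact ⟨⟨i, lt_of_lt_of_le i.2 hab⟩, rfl⟩
    obtain ⟨r, hr⟩ := (monotone_stabilizes_iff_noetherian.2
      (inferInstance : IsNoetherian k V)) ⟨Wf, hmono⟩
    have hr' : Wf r = Wf (r + 1) := hr (r + 1) (Nat.le_succ r)
    have h1 : e r ∈ Wf (r + 1) := by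
      rw [hWf]
      exact Submodule.subset_span ⟨Fin.last r, by simp⟩
    rw [← hr', hWf] at h1
    obtain ⟨c, hc⟩ := (Submodule.mem_span_range_iff_exists_fun k).1 h1
    refine ⟨r, fun j => if h : j < r then c ⟨j, h⟩ else 0, ?_⟩
    calc e r = ∑ i : Fin r, c i • e i := hc.symm
      _ = ∑ i : Fin r, (fun j => (if h : j < r then c ⟨j, h⟩ else 0) • e j) i.val :=
          Finset.sum_congr rfl (fun i _ => by simp [i.2])
      _ = _ := Fin.sum_univ_eq_sum_range
          (fun j => (if h : j < r then c ⟨j, h⟩ else 0) • e j) r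
  obtain ⟨r, hr, hmin⟩ : ∃ r, (∃ c : ℕ → k, e r = ∑ j ∈ Finset.range r, c j • e j) ∧
      ∀ m, m < r → ¬ ∃ c : ℕ → k, e m = ∑ j ∈ Finset.range m, c j • e j :=
    ⟨Nat.find hex, Nat.find_spec hex, fun m hm => Nat.find_min hex hm⟩
  obtain ⟨c, hc⟩ := hr
  have hr0 : r ≠ 0 := by
    intro h0
    rw [h0, Finset.sum_range_zero] at hc
    exact hene 0 hc
  obtain ⟨m, rfl⟩ : ∃ m, r = m + 1 := Nat.exists_eq_succ_of_ne_zero hr0
  have hcne : ∃ j, j ≤ m ∧ c j ≠ 0 := by
    by_contra hall
    push Not at hall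
    apply hene (m + 1)
    rw [hc]
    refine Finset.sum_eq_zero (fun j hj => ?_)
    rw [hall j (Nat.lt_succ_iff.1 (Finset.mem_range.1 hj)), zero_smul]
  -- the polynomials
  obtain ⟨Qs, hQ0, hQs⟩ : ∃ Qs : ℕ → k[X], Qs 0 = C (c 0) ∧
      ∀ j, Qs (j + 1) = X ^ (p * q) * Qs j ^ p + C (c (j + 1)) :=
    ⟨fun j => Nat.rec (C (c 0)) (fun j Q => X ^ (p * q) * Q ^ p + C (c (j + 1))) j, rfl,
      fun _ => rfl⟩
  have hQz : ∀ j, Qs j = 0 → ∀ j0, j0 ≤ j → c j0 = 0 := by
    intro j
    induction j with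
    | zero =>
      intro h j0 hj0
      rw [hQ0, C_eq_zero] at h
      rw [Nat.le_zero.1 hj0]; exact h
    | succ j ih =>
      intro h j0 hj0
      have hc1 : c (j + 1) = 0 := by
        have h' := congrArg (Polynomial.eval 0) h
        rw [hQs, eval_add, eval_mul, eval_pow, eval_X, zero_pow hpq, zero_mul, zero_add, eval_C,
          eval_zero] at h'
        exact h'
      have hQj : Qs j = 0 := by
        rw [hQs, hc1, C_0, add_zero] at h
        rcases mul_eq_zero.1 h with h1 | h1
        · exact absurd h1 (pow_ne_zero _ X_ne_zero)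
        · exact (pow_eq_zero_iff hp.out.ne_zero).1 h1
      rcases Nat.lt_or_ge j0 (j + 1) with hlt | hge
      · exact ih hQj j0 (Nat.lt_succ_iff.1 hlt)
      · rw [le_antisymm hj0 hge]; exact hc1
  have hQm : Qs m ≠ 0 := by
    intro h
    obtain ⟨j, hj, hcj⟩ := hcne
    exact hcj (hQz m h j hj)
  obtain ⟨H, hH⟩ : ∃ H : k[X], H = X ^ q * Qs m - 1 := ⟨_, rfl⟩
  have hHdeg : H.degree ≠ 0 := by
    intro hd
    have h1 : H = C (H.coeff 0) := eq_C_of_degree_eq_zero hd
    have h2 : X ^ q * Qs m = C (H.coeff 0 + 1) := by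
      rw [C_add, C_1, ← h1, hH]; ring
    have h3 : H.coeff 0 + 1 = 0 := by
      have h' := congrArg (Polynomial.eval 0) h2
      rw [eval_mul, eval_pow, eval_X, zero_pow hq0, zero_mul, eval_C] at h'
      exact h'.symm
    rw [h3, C_0] at h2
    rcases mul_eq_zero.1 h2 with h | h
    · exact pow_ne_zero _ X_ne_zero h
    · exact hQm h
  obtain ⟨t, ht⟩ := IsAlgClosed.exists_root H hHdeg
  have htQ : t ^ q * (Qs m).eval t = 1 := by
    have h' : H.eval t = 0 := ht
    rw [hH, eval_sub, eval_mul, eval_pow, eval_X, eval_one] at h'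
    exact sub_eq_zero.1 h'
  have ht0 : t ≠ 0 := by
    rintro rfl
    rw [zero_pow hq0, zero_mul] at htQ
    exact zero_ne_one htQ
  obtain ⟨xs, hxs⟩ : ∃ xs : ℕ → k, ∀ j, xs j = t ^ p * (Qs j).eval t := ⟨_, fun _ => rfl⟩
  have hx0 : xs 0 = t ^ p * c 0 := by rw [hxs, hQ0, eval_C]
  have hxsucc : ∀ j, xs (j + 1) = xs j ^ p + t ^ p * c (j + 1) := by
    intro j
    rw [hxs, hxs, hQs, eval_add, eval_mul, eval_pow, eval_pow, eval_X, eval_C]
    have h1 : t ^ p * t ^ (p * q) = (t ^ p) ^ p := by
      rw [← pow_add, ← pow_mul]; congr 1; rw [hq]; ring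
    rw [mul_add, ← mul_assoc, h1, mul_pow]
  have hxm : xs m = t := by
    rw [hxs]
    have h1 : t ^ p = t * t ^ q := by rw [hq, pow_succ']
    rw [h1, mul_assoc, htQ, mul_one]
  refine ⟨∑ j ∈ Finset.range (m + 1), xs j • e j, ?_, ?_⟩
  · intro h0
    rw [Finset.sum_range_succ, hxm] at h0
    apply hmin m (Nat.lt_succ_self m)
    refine ⟨fun j => -(t⁻¹) * xs j, ?_⟩
    have h1 : t • e m = -∑ j ∈ Finset.range m, xs j • e j := eq_neg_of_add_eq_zero_right h0
    calc e m = t⁻¹ • (t • e m) := (inv_smul_smul₀ ht0 _).symm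
      _ = ∑ j ∈ Finset.range m, (-(t⁻¹) * xs j) • e j := by
        rw [h1, smul_neg, Finset.smul_sum, ← Finset.sum_neg_distrib]
        refine Finset.sum_congr rfl (fun j _ => ?_)
        rw [smul_smul, neg_mul, neg_smul]
  · rw [map_sum]
    have hL : ∑ j ∈ Finset.range (m + 1), F (xs j • e j) =
        ∑ j ∈ Finset.range m, (xs j ^ p) • e (j + 1) +
          t ^ p • ∑ j ∈ Finset.range (m + 1), c j • e j := by
      rw [Finset.sum_range_succ, hF, ← hesucc, hxm, ← hc]
      congr 1
      refine Finset.sum_congr rfl (fun j _ => ?_)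
      rw [hF, ← hesucc]
    rw [hL, Finset.sum_range_succ' (fun j => xs j • e j),
      Finset.sum_range_succ' (fun j => c j • e j)]
    simp only [hxsucc, hx0, add_smul, Finset.sum_add_distrib, Finset.smul_sum, smul_add,
      smul_smul]
    abel

include hF in
theorem exists_v0 [IsAlgClosed k] [FiniteDimensional k V] (hV : ∃ v : V, v ≠ 0) :
    ∃ v0 : V, v0 ≠ 0 ∧ (F v0 = 0 ∨ F v0 = v0) := by
  by_cases hinj : Function.Injective F
  · obtain ⟨v, hv⟩ := hV
    obtain ⟨x, hx, hfx⟩ := exists_fixed F hF hinj v hv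
    exact ⟨x, hx, Or.inr hfx⟩
  · rw [Function.Injective] at hinj
    push Not at hinj
    obtain ⟨a, b, hab, hne⟩ := hinj
    exact ⟨a - b, sub_ne_zero.2 hne, Or.inl (by rw [map_sub, hab, sub_self])⟩

end basics

theorem sup_eq_top (p : ℕ) [hp : Fact p.Prime] (k : Type u) [Field k] [IsAlgClosed k]
    [CharP k p] :
    ∀ n : ℕ, ∀ (V : Type u) [AddCommGroup V] [Module k V] [FiniteDimensional k V] (F : V →+ V)
      (_ : ∀ (a : k) (v : V), F (a • v) = a ^ p • F v), Module.finrank k V = n →
      Submodule.span k {v : V | F v = v} ⊔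
        Submodule.span k {v : V | ∃ m : ℕ, (⇑F)^[m] v = 0} = ⊤ := by
  intro n
  induction n using Nat.strong_induction_on with
  | _ n ih =>
    intro V _ _ _ F hF hn
    by_cases hV : ∃ v : V, v ≠ 0
    swap
    · push Not at hV
      rw [eq_top_iff]
      intro x _
      rw [hV x]
      exact zero_mem _
    obtain ⟨v0, hv0, hFv0⟩ := exists_v0 F hF hV
    set S := Submodule.span k {v : V | F v = v} ⊔
        Submodule.span k {v : V | ∃ m : ℕ, (⇑F)^[m] v = 0} with hS
    have hfixS : ∀ w, F w = w → w ∈ S := fun w hw =>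
      Submodule.mem_sup_left (Submodule.subset_span hw)
    have hnilS : ∀ w m, (⇑F)^[m] w = 0 → w ∈ S := fun w m hw =>
      Submodule.mem_sup_right (Submodule.subset_span ⟨m, hw⟩)
    have hv0S : v0 ∈ S := by
      rcases hFv0 with h | h
      · exact hnilS v0 1 (by simpa using h)
      · exact hfixS v0 h
    let K : Submodule k V := Submodule.span k {v0}
    have hKS : K ≤ S := Submodule.span_le.2 (by simpa using hv0S)
    let Fs : V →ₛₗ[frobenius k p] V :=
      { toFun := F
        map_add' := F.map_add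
        map_smul' := fun a v => by simpa [frobenius_def] using hF a v }
    have hFK : ∀ a : k, F (a • v0) ∈ K := by
      intro a
      rw [hF]
      rcases hFv0 with h | h
      · rw [h, smul_zero]; exact zero_mem _
      · rw [h]; exact Submodule.smul_mem _ _ (Submodule.mem_span_singleton_self v0)
    have hKle : K ≤ K.comap Fs := by
      intro x hx
      obtain ⟨a, rfl⟩ := Submodule.mem_span_singleton.1 hx
      exact hFK a
    let Fb : (V ⧸ K) →ₛₗ[frobenius k p] (V ⧸ K) := K.mapQ K Fs hKle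
    have hFb : ∀ w, Fb.toAddMonoidHom (Submodule.Quotient.mk w) =
        Submodule.Quotient.mk (F w) := fun w => rfl
    have hFbs : ∀ (a : k) (y : V ⧸ K),
        Fb.toAddMonoidHom (a • y) = a ^ p • Fb.toAddMonoidHom y := by
      intro a y
      show Fb (a • y) = a ^ p • Fb y
      rw [map_smulₛₗ, frobenius_def]
    have hrank : Module.finrank k (V ⧸ K) < n := by
      have h1 := Submodule.finrank_quotient_add_finrank K
      have h2 : Module.finrank k K = 1 := finrank_span_singleton hv0
      omega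
    have IH := ih _ hrank (V ⧸ K) Fb.toAddMonoidHom hFbs rfl
    have hiter : ∀ m w, (⇑Fb.toAddMonoidHom)^[m] (Submodule.Quotient.mk w) =
        Submodule.Quotient.mk ((⇑F)^[m] w) := by
      intro m
      induction m with
      | zero => intro w; rfl
      | succ m ihm =>
        intro w
        rw [Function.iterate_succ_apply', Function.iterate_succ_apply', ihm]
        exact hFb _
    have hAS : ∀ a : k, ∃ b : k, b ^ p - b + a = 0 := by
      intro a
      have hdeg : (X ^ p - X + C a : k[X]).degree ≠ 0 := by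
        intro h
        have h1 : (X ^ p - X + C a : k[X]).natDegree = p := by
          rw [natDegree_add_C]
          exact FiniteField.X_pow_card_sub_X_natDegree_eq k hp.out.one_lt
        have h2 : (X ^ p - X + C a : k[X]).natDegree = 0 :=
          natDegree_eq_zero_iff_degree_le_zero.2 h.le
        have := hp.out.two_le
        omega
      obtain ⟨b, hb⟩ := IsAlgClosed.exists_root _ hdeg
      refine ⟨b, ?_⟩
      simpa [IsRoot.def] using hb
    have hf3 : ∀ w : V, Fb.toAddMonoidHom (Submodule.Quotient.mk w) =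
        Submodule.Quotient.mk w → w ∈ S := by
      intro w hw
      rw [hFb, Submodule.Quotient.eq] at hw
      obtain ⟨a, ha⟩ := Submodule.mem_span_singleton.1 hw
      have hFw : F w = w + a • v0 := by rw [ha]; abel
      rcases hFv0 with h | h
      · have hfix : F (F w) = F w := by
          conv_lhs => rw [hFw, map_add, hF, h, smul_zero, add_zero]
        have h1 : w = F w - a • v0 := by rw [hFw]; abel
        rw [h1]
        exact sub_mem (hfixS _ hfix) (Submodule.smul_mem _ _ hv0S)
      · obtain ⟨b, hb⟩ := hAS a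
        have hfix : F (w + b • v0) = w + b • v0 := by
          rw [map_add, hF, h, hFw, add_assoc, ← add_smul]
          congr 2
          linear_combination hb
        have h1 : w = (w + b • v0) - b • v0 := by abel
        rw [h1]
        exact sub_mem (hfixS _ hfix) (Submodule.smul_mem _ _ hv0S)
    have hf4 : ∀ (w : V) (m : ℕ),
        (⇑Fb.toAddMonoidHom)^[m] (Submodule.Quotient.mk w) = 0 → w ∈ S := by
      intro w m hw
      rw [hiter, Submodule.Quotient.mk_eq_zero] at hw
      obtain ⟨a, ha⟩ := Submodule.mem_span_singleton.1 hw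
      rcases hFv0 with h | h
      · refine hnilS w (m + 1) ?_
        rw [Function.iterate_succ_apply', ← ha, hF, h, smul_zero]
      · obtain ⟨b, hb⟩ := IsAlgClosed.exists_pow_nat_eq a (pow_pos hp.out.pos m)
        have hnil : (⇑F)^[m] (w - b • v0) = 0 := by
          rw [iterate_map_sub, iter_smul F hF, hb, Function.iterate_fixed h, ha, sub_self]
        have h1 : w = (w - b • v0) + b • v0 := by abel
        rw [h1]
        exact add_mem (hnilS _ m hnil) (Submodule.smul_mem _ _ hv0S)
    rw [eq_top_iff]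
    intro x _
    have hx : (Submodule.Quotient.mk x : V ⧸ K) ∈ (⊤ : Submodule k (V ⧸ K)) :=
      Submodule.mem_top
    rw [← IH] at hx
    have hle : Submodule.span k {y : V ⧸ K | Fb.toAddMonoidHom y = y} ⊔
        Submodule.span k {y : V ⧸ K | ∃ m : ℕ, (⇑Fb.toAddMonoidHom)^[m] y = 0} ≤
        S.map K.mkQ := by
      refine sup_le (Submodule.span_le.2 ?_) (Submodule.span_le.2 ?_)
      · intro y hy
        obtain ⟨w, rfl⟩ := Submodule.Quotient.mk_surjective K y
        exact Submodule.mem_map.2 ⟨w, hf3 w hy, rfl⟩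
      · rintro y ⟨m, hy⟩
        obtain ⟨w, rfl⟩ := Submodule.Quotient.mk_surjective K y
        exact Submodule.mem_map.2 ⟨w, hf4 w m hy, rfl⟩
    obtain ⟨s, hs, hsx⟩ := Submodule.mem_map.1 (hle hx)
    have hxs : x - s ∈ K := by
      rw [← Submodule.Quotient.eq]
      exact hsx.symm
    have h1 : x = s + (x - s) := by abel
    rw [h1]
    exact add_mem hs (hKS hxs)

theorem main (p : ℕ) [Fact p.Prime] (k : Type u) [Field k]
    [IsAlgClosed k] [CharP k p] (V : Type u) [AddCommGroup V] [Module k V] [FiniteDimensional k V]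
    (F : V →+ V) (hF : ∀ (a : k) (v : V), F (a • v) = a ^ p • F v) :
    IsCompl (Submodule.span k {v : V | F v = v})
        (Submodule.span k {v : V | ∃ m : ℕ, (⇑F)^[m] v = 0}) ∧
      ∀ (s : Finset V), (∀ v ∈ s, F v = v) →
        (∀ c : s → ℤ, (∑ v : s, c v • (v : V)) = 0 → ∀ v : s, (p : ℤ) ∣ c v) →
          LinearIndependent k (fun v : s => (v : V)) := by
  refine ⟨⟨disjoint_fix_nil F hF, codisjoint_iff.2 (sup_eq_top p k _ V F hF rfl)⟩, ?_⟩
  intro s hs hind
  exact indep F hF (fun v : s => (v : V)) (fun v => hs v v.2) hind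

end Groth.Agent.Lib.PLinDecompH1
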