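import Mathlib

/-!
# Traces of "multiplication by X" on ℂ[X]-modules: additivity, subquotients, complexes
(helper1; used for S14284 / S14283)
-/

set_option autoImplicit false
set_option linter.unusedVariables false
set_option linter.unusedSectionVars false
set_option linter.style.longLine false
set_option maxHeartbeats 1600000

universe u

open CategoryTheory CategoryTheory.Limits Polynomial

namespace Groth.Agent.Lib.SpSeqTraceH1

/-! ### Pure linear algebra -/
section LA

variable {K : Type*} [Field K]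

/-- Additivity of the trace along an equivariant short exact sequence. -/
theorem trace_eq_add_of_exact {V₁ V₂ V₃ : Type*} [AddCommGroup V₁] [Module K V₁]
    [AddCommGroup V₂] [Module K V₂] [AddCommGroup V₃] [Module K V₃] [FiniteDimensional K V₂]
    (ι : V₁ →ₗ[K] V₂) (π : V₂ →ₗ[K] V₃) (hι : Function.Injective ι) (hπ : Function.Surjective π)
    (hex : Function.Exact ι π)
    (φ₁ : V₁ →ₗ[K] V₁) (φ₂ : V₂ →ₗ[K] V₂) (φ₃ : V₃ →ₗ[K] V₃)
    (h₁ : ι ∘ₗ φ₁ = φ₂ ∘ₗ ι) (h₂ : π ∘ₗ φ₂ = φ₃ ∘ₗ π) :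
    LinearMap.trace K V₂ φ₂ = LinearMap.trace K V₁ φ₁ + LinearMap.trace K V₃ φ₃ := by
  haveI : Module.Finite K V₁ := Module.Finite.of_injective ι hι
  haveI : Module.Finite K V₃ := Module.Finite.of_surjective π hπ
  obtain ⟨s, hs⟩ := π.exists_rightInverse_of_surjective (LinearMap.range_eq_top.2 hπ)
  have hs' : ∀ y, π (s y) = y := fun y => LinearMap.congr_fun hs y
  have hmem : ∀ x : V₂, ((LinearMap.id : V₂ →ₗ[K] V₂) - s ∘ₗ π) x ∈ LinearMap.range ι := by
    intro x
    have h0 : π (((LinearMap.id : V₂ →ₗ[K] V₂) - s ∘ₗ π) x) = 0 := by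
      simp only [LinearMap.sub_apply, LinearMap.id_apply, LinearMap.comp_apply, map_sub, hs',
        sub_self]
    exact (hex _).1 h0
  let e := LinearEquiv.ofInjective ι hι
  let q : V₂ →ₗ[K] LinearMap.range ι :=
    LinearMap.codRestrict (LinearMap.range ι) ((LinearMap.id : V₂ →ₗ[K] V₂) - s ∘ₗ π) hmem
  let ρ : V₂ →ₗ[K] V₁ := e.symm.toLinearMap ∘ₗ q
  have hρ : ∀ x, ι (ρ x) = x - s (π x) := by
    intro x
    have h := e.apply_symm_apply (q x)
    have h2 := congrArg Subtype.val h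
    exact h2
  have hdecomp : ι ∘ₗ ρ + s ∘ₗ π = LinearMap.id := by
    apply LinearMap.ext
    intro x
    simp only [LinearMap.add_apply, LinearMap.comp_apply, LinearMap.id_apply]
    rw [hρ]
    exact sub_add_cancel _ _
  have hρι : ρ ∘ₗ ι = LinearMap.id := by
    apply LinearMap.ext
    intro x
    apply hι
    simp only [LinearMap.comp_apply, LinearMap.id_apply]
    rw [hρ, hex.apply_apply_eq_zero, map_zero, sub_zero]
  have hA : ρ ∘ₗ (φ₂ ∘ₗ ι) = φ₁ := by
    rw [← h₁, ← LinearMap.comp_assoc, hρι, LinearMap.id_comp]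
  have hB : π ∘ₗ (φ₂ ∘ₗ s) = φ₃ := by
    rw [← LinearMap.comp_assoc, h₂, LinearMap.comp_assoc, hs, LinearMap.comp_id]
  calc LinearMap.trace K V₂ φ₂ = LinearMap.trace K V₂ (φ₂ ∘ₗ (ι ∘ₗ ρ + s ∘ₗ π)) := by
        rw [hdecomp, LinearMap.comp_id]
    _ = LinearMap.trace K V₂ ((φ₂ ∘ₗ ι) ∘ₗ ρ) + LinearMap.trace K V₂ ((φ₂ ∘ₗ s) ∘ₗ π) := by
        rw [LinearMap.comp_add, map_add, LinearMap.comp_assoc, LinearMap.comp_assoc]
    _ = LinearMap.trace K V₁ (ρ ∘ₗ (φ₂ ∘ₗ ι)) + LinearMap.trace K V₃ (π ∘ₗ (φ₂ ∘ₗ s)) := by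
        rw [LinearMap.trace_comp_comm' ρ (φ₂ ∘ₗ ι), LinearMap.trace_comp_comm' π (φ₂ ∘ₗ s)]
    _ = LinearMap.trace K V₁ φ₁ + LinearMap.trace K V₃ φ₃ := by rw [hA, hB]

theorem hasEigenvalue_of_injective {V₁ V₂ : Type*} [AddCommGroup V₁] [Module K V₁]
    [AddCommGroup V₂] [Module K V₂] (ι : V₁ →ₗ[K] V₂) (hι : Function.Injective ι)
    (φ₁ : V₁ →ₗ[K] V₁) (φ₂ : V₂ →ₗ[K] V₂) (hcomm : ι ∘ₗ φ₁ = φ₂ ∘ₗ ι) (μ : K)
    (h : Module.End.HasEigenvalue φ₁ μ) : Module.End.HasEigenvalue φ₂ μ := by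
  obtain ⟨v, hv⟩ := h.exists_hasEigenvector
  refine Module.End.hasEigenvalue_of_hasEigenvector (x := ι v)
    (Module.End.hasEigenvector_iff.2 ⟨?_, ?_⟩)
  · rw [Module.End.mem_eigenspace_iff]
    have h3 := LinearMap.congr_fun hcomm v
    simp only [LinearMap.comp_apply] at h3
    rw [← h3, hv.apply_eq_smul, map_smul]
  · intro h0
    exact (Module.End.hasEigenvector_iff.1 hv).2 (hι (h0.trans (map_zero ι).symm))

theorem hasEigenvalue_of_surjective {V₂ V₃ : Type*} [AddCommGroup V₂] [Module K V₂]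
    [AddCommGroup V₃] [Module K V₃] [FiniteDimensional K V₂] (π : V₂ →ₗ[K] V₃)
    (hπ : Function.Surjective π) (φ₂ : V₂ →ₗ[K] V₂) (φ₃ : V₃ →ₗ[K] V₃)
    (hcomm : π ∘ₗ φ₂ = φ₃ ∘ₗ π) (μ : K) (h : Module.End.HasEigenvalue φ₃ μ) :
    Module.End.HasEigenvalue φ₂ μ := by
  haveI : Module.Finite K V₃ := Module.Finite.of_surjective π hπ
  by_contra hcon
  have hker : LinearMap.ker (φ₂ - μ • (1 : Module.End K V₂)) = ⊥ := by
    by_contra hne
    apply hcon
    rw [Module.End.hasEigenvalue_iff, Module.End.eigenspace_def]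
    exact hne
  have hinj : Function.Injective (φ₂ - μ • (1 : Module.End K V₂)) := LinearMap.ker_eq_bot.1 hker
  have hsurj : Function.Surjective (φ₂ - μ • (1 : Module.End K V₂)) :=
    LinearMap.injective_iff_surjective.1 hinj
  have hsurj3 : Function.Surjective (φ₃ - μ • (1 : Module.End K V₃)) := by
    intro y
    obtain ⟨x, rfl⟩ := hπ y
    obtain ⟨x', rfl⟩ := hsurj x
    refine ⟨π x', ?_⟩
    have h3 := LinearMap.congr_fun hcomm x'
    simp only [LinearMap.comp_apply] at h3
    simp [h3]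
  have hinj3 : Function.Injective (φ₃ - μ • (1 : Module.End K V₃)) :=
    LinearMap.injective_iff_surjective.2 hsurj3
  obtain ⟨w, hw⟩ := h.exists_hasEigenvector
  apply (Module.End.hasEigenvector_iff.1 hw).2
  apply hinj3
  rw [map_zero, LinearMap.sub_apply, hw.apply_eq_smul]
  simp

/-- The middle term of a short exact sequence with finite outer terms is finite. -/
theorem finite_of_exact {V₁ V₂ V₃ : Type*} [AddCommGroup V₁] [Module K V₁]
    [AddCommGroup V₂] [Module K V₂] [AddCommGroup V₃] [Module K V₃]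
    [Module.Finite K V₁] [Module.Finite K V₃]
    (ι : V₁ →ₗ[K] V₂) (π : V₂ →ₗ[K] V₃) (hex : Function.Exact ι π) : Module.Finite K V₂ := by
  haveI h1 : Module.Finite K (LinearMap.ker π) := by
    have : LinearMap.ker π = LinearMap.range ι := (LinearMap.exact_iff.1 hex)
    rw [this]
    exact Module.Finite.range ι
  haveI h2 : Module.Finite K (V₂ ⧸ LinearMap.ker π) :=
    Module.Finite.of_injective ((LinearMap.ker π).liftQ π le_rfl)
      (by
        rw [← LinearMap.ker_eq_bot]
        exact Submodule.ker_liftQ_eq_bot _ _ _ le_rfl)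
  exact Module.Finite.of_submodule_quotient (LinearMap.ker π)

end LA

/-! ### The trace of `X` on a `ℂ[X]`-module -/

/-- Restriction of scalars to `ℂ`. -/
noncomputable abbrev FC : ModuleCat.{u} ℂ[X] ⥤ ModuleCat.{u} ℂ :=
  ModuleCat.restrictScalars (algebraMap ℂ ℂ[X])

/-- Multiplication by `X` as a `ℂ`-linear endomorphism. -/
noncomputable abbrev PhiC (M : ModuleCat.{u} ℂ[X]) : (FC.obj M) →ₗ[ℂ] (FC.obj M) :=
  (FC.map ((X : ℂ[X]) • 𝟙 M)).hom

/-- The trace of multiplication by `X`. -/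
noncomputable def T (M : ModuleCat.{u} ℂ[X]) : ℂ := LinearMap.trace ℂ _ (PhiC M)

theorem PhiC_comm {M N : ModuleCat.{u} ℂ[X]} (g : M ⟶ N) :
    (FC.map g).hom ∘ₗ PhiC M = PhiC N ∘ₗ (FC.map g).hom := by
  apply LinearMap.ext
  intro x
  exact map_smul g.hom (X : ℂ[X]) x

theorem T_congr {M N : ModuleCat.{u} ℂ[X]} (e : M ≅ N) : T M = T N := by
  let e' : (FC.obj M) ≃ₗ[ℂ] (FC.obj N) := (FC.mapIso e).toLinearEquiv
  have h : e'.conj (PhiC M) = PhiC N := by
    apply LinearMap.ext
    intro x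
    rw [LinearEquiv.conj_apply_apply]
    have h3 := LinearMap.congr_fun (PhiC_comm e.hom) (e'.symm x)
    simp only [LinearMap.comp_apply] at h3
    have h4 : (FC.map e.hom).hom (e'.symm x) = x := e'.apply_symm_apply x
    rw [h4] at h3
    exact h3
  unfold T
  rw [← h, LinearMap.trace_conj']

theorem T_of_isZero {M : ModuleCat.{u} ℂ[X]} (h : IsZero M) : T M = 0 := by
  haveI hM : Subsingleton M := ModuleCat.subsingleton_of_isZero h
  haveI : Subsingleton (FC.obj M) := hM
  have h0 : PhiC M = 0 := LinearMap.ext fun x => Subsingleton.elim _ _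
  unfold T
  rw [h0, map_zero]

theorem T_add_of_exact {M₁ M₂ M₃ : ModuleCat.{u} ℂ[X]} (f : M₁ ⟶ M₂) (g : M₂ ⟶ M₃)
    (hf : Function.Injective f.hom) (hg : Function.Surjective g.hom)
    (hex : Function.Exact f.hom g.hom) [Module.Finite ℂ (FC.obj M₂)] :
    T M₂ = T M₁ + T M₃ :=
  trace_eq_add_of_exact (FC.map f).hom (FC.map g).hom hf hg hex (PhiC M₁) (PhiC M₂) (PhiC M₃)
    (PhiC_comm f) (PhiC_comm g)

theorem fin_of_injective {M N : ModuleCat.{u} ℂ[X]} (f : M ⟶ N) (hf : Function.Injective f.hom)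
    [Module.Finite ℂ (FC.obj N)] : Module.Finite ℂ (FC.obj M) :=
  Module.Finite.of_injective (FC.map f).hom hf

theorem fin_of_surjective {M N : ModuleCat.{u} ℂ[X]} (f : M ⟶ N)
    (hf : Function.Surjective f.hom) [Module.Finite ℂ (FC.obj M)] :
    Module.Finite ℂ (FC.obj N) :=
  Module.Finite.of_surjective (FC.map f).hom hf

theorem fin_of_exact {M₁ M₂ M₃ : ModuleCat.{u} ℂ[X]} (f : M₁ ⟶ M₂) (g : M₂ ⟶ M₃)
    (hex : Function.Exact f.hom g.hom) [Module.Finite ℂ (FC.obj M₁)]
    [Module.Finite ℂ (FC.obj M₃)] : Module.Finite ℂ (FC.obj M₂) :=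
  finite_of_exact (FC.map f).hom (FC.map g).hom hex

theorem eig_of_injective {M N : ModuleCat.{u} ℂ[X]} (f : M ⟶ N) (hf : Function.Injective f.hom)
    (μ : ℂ) (h : Module.End.HasEigenvalue (PhiC M) μ) : Module.End.HasEigenvalue (PhiC N) μ :=
  hasEigenvalue_of_injective (FC.map f).hom hf (PhiC M) (PhiC N) (PhiC_comm f) μ h

theorem eig_of_surjective {M N : ModuleCat.{u} ℂ[X]} (f : M ⟶ N)
    (hf : Function.Surjective f.hom) [Module.Finite ℂ (FC.obj M)]
    (μ : ℂ) (h : Module.End.HasEigenvalue (PhiC N) μ) : Module.End.HasEigenvalue (PhiC M) μ :=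
  hasEigenvalue_of_surjective (FC.map f).hom hf (PhiC M) (PhiC N) (PhiC_comm f) μ h

theorem finrank_le_of_injective {M N : ModuleCat.{u} ℂ[X]} (f : M ⟶ N)
    (hf : Function.Injective f.hom) [Module.Finite ℂ (FC.obj N)] :
    Module.finrank ℂ (FC.obj M) ≤ Module.finrank ℂ (FC.obj N) :=
  LinearMap.finrank_le_finrank_of_injective (f := (FC.map f).hom) hf

theorem finrank_le_of_surjective {M N : ModuleCat.{u} ℂ[X]} (f : M ⟶ N)
    (hf : Function.Surjective f.hom) [Module.Finite ℂ (FC.obj M)] :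
    Module.finrank ℂ (FC.obj N) ≤ Module.finrank ℂ (FC.obj M) :=
  LinearMap.finrank_le_finrank_of_surjective (f := (FC.map f).hom) hf

theorem injective_of_mono {M N : ModuleCat.{u} ℂ[X]} (f : M ⟶ N) [Mono f] :
    Function.Injective f.hom :=
  (ModuleCat.mono_iff_injective f).1 inferInstance

theorem surjective_of_epi {M N : ModuleCat.{u} ℂ[X]} (f : M ⟶ N) [Epi f] :
    Function.Surjective f.hom :=
  (ModuleCat.epi_iff_surjective f).1 inferInstance

/-- Transport of the finiteness / eigenvalue / dimension data along an isomorphism. -/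
theorem iso_props {M N : ModuleCat.{u} ℂ[X]} (e : M ≅ N) [Module.Finite ℂ (FC.obj M)] :
    Module.Finite ℂ (FC.obj N) ∧
    (∀ μ, Module.End.HasEigenvalue (PhiC N) μ → Module.End.HasEigenvalue (PhiC M) μ) ∧
    Module.finrank ℂ (FC.obj N) ≤ Module.finrank ℂ (FC.obj M) :=
  ⟨fin_of_surjective e.hom (surjective_of_epi _),
    fun μ h => eig_of_surjective e.hom (surjective_of_epi _) μ h,
    finrank_le_of_surjective e.hom (surjective_of_epi _)⟩

/-- The homology of a short complex is a subquotient of the middle term. -/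
theorem homology_props (S : ShortComplex (ModuleCat.{u} ℂ[X])) [Module.Finite ℂ (FC.obj S.X₂)] :
    Module.Finite ℂ (FC.obj S.homology) ∧
    (∀ μ, Module.End.HasEigenvalue (PhiC S.homology) μ →
      Module.End.HasEigenvalue (PhiC S.X₂) μ) ∧
    Module.finrank ℂ (FC.obj S.homology) ≤ Module.finrank ℂ (FC.obj S.X₂) := by
  haveI hc : Module.Finite ℂ (FC.obj S.cycles) :=
    fin_of_injective S.iCycles (injective_of_mono _)
  refine ⟨fin_of_surjective S.homologyπ (surjective_of_epi _), ?_, ?_⟩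
  · intro μ h
    exact eig_of_injective S.iCycles (injective_of_mono _) μ
      (eig_of_surjective S.homologyπ (surjective_of_epi _) μ h)
  · exact (finrank_le_of_surjective S.homologyπ (surjective_of_epi _)).trans
      (finrank_le_of_injective S.iCycles (injective_of_mono _))

/-- The trace of `X` on the image of a morphism. -/
noncomputable def R {M N : ModuleCat.{u} ℂ[X]} (f : M ⟶ N) : ℂ :=
  T (ModuleCat.of ℂ[X] (LinearMap.range f.hom))

/-- The image is a quotient of the source. -/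
theorem range_props {M N : ModuleCat.{u} ℂ[X]} (f : M ⟶ N) [Module.Finite ℂ (FC.obj M)] :
    Module.Finite ℂ (FC.obj (ModuleCat.of ℂ[X] (LinearMap.range f.hom))) ∧
    (∀ μ, Module.End.HasEigenvalue (PhiC (ModuleCat.of ℂ[X] (LinearMap.range f.hom))) μ →
      Module.End.HasEigenvalue (PhiC M) μ) ∧
    Module.finrank ℂ (FC.obj (ModuleCat.of ℂ[X] (LinearMap.range f.hom))) ≤
      Module.finrank ℂ (FC.obj M) :=
  ⟨fin_of_surjective (ModuleCat.ofHom f.hom.rangeRestrict) (LinearMap.surjective_rangeRestrict _),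
    fun μ h => eig_of_surjective (ModuleCat.ofHom f.hom.rangeRestrict)
      (LinearMap.surjective_rangeRestrict _) μ h,
    finrank_le_of_surjective (ModuleCat.ofHom f.hom.rangeRestrict)
      (LinearMap.surjective_rangeRestrict _)⟩

theorem isZero_range_of_isZero {M N : ModuleCat.{u} ℂ[X]} (f : M ⟶ N) (h : IsZero M) :
    IsZero (ModuleCat.of ℂ[X] (LinearMap.range f.hom)) := by
  haveI : Subsingleton M := ModuleCat.subsingleton_of_isZero h
  haveI : Subsingleton (LinearMap.range f.hom) :=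
    (LinearMap.surjective_rangeRestrict f.hom).subsingleton
  exact ModuleCat.isZero_of_subsingleton _

theorem R_of_isZero {M N : ModuleCat.{u} ℂ[X]} (f : M ⟶ N) (h : IsZero M) : R f = 0 :=
  T_of_isZero (isZero_range_of_isZero f h)

theorem R_iso_comp {M' M N : ModuleCat.{u} ℂ[X]} (e : M' ≅ M) (f : M ⟶ N) :
    R (e.hom ≫ f) = R f := by
  have hr : LinearMap.range (e.hom ≫ f).hom = LinearMap.range f.hom := by
    rw [ModuleCat.hom_comp]
    apply LinearMap.range_comp_of_range_eq_top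
    exact LinearMap.range_eq_top.2 e.toLinearEquiv.surjective
  unfold R
  rw [hr]

theorem R_comp_iso {M N N' : ModuleCat.{u} ℂ[X]} (f : M ⟶ N) (e : N ≅ N') :
    R (f ≫ e.hom) = R f := by
  have hr : LinearMap.range (f ≫ e.hom).hom = (LinearMap.range f.hom).map e.hom.hom := by
    rw [ModuleCat.hom_comp, LinearMap.range_comp]
  unfold R
  rw [hr]
  exact (T_congr (LinearEquiv.toModuleIso (Submodule.equivMapOfInjective e.hom.hom
    e.toLinearEquiv.injective (LinearMap.range f.hom)))).symm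

theorem R_d_congr {ι : Type*} {c : ComplexShape ι}
    (K : HomologicalComplex (ModuleCat.{u} ℂ[X]) c) (i : ι) {j j' : ι} (h : j = j') :
    R (K.d i j) = R (K.d i j') := by
  subst h
  rfl

/-- Euler–Poincaré for a short complex. -/
theorem T_X₂_eq (S : ShortComplex (ModuleCat.{u} ℂ[X])) [Module.Finite ℂ (FC.obj S.X₂)] :
    T S.X₂ = T S.homology + R S.f + R S.g := by
  have h1 : T S.X₂ = T (ModuleCat.of ℂ[X] (LinearMap.ker S.g.hom)) + R S.g := by
    refine T_add_of_exact (ModuleCat.ofHom (LinearMap.ker S.g.hom).subtype)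
      (ModuleCat.ofHom S.g.hom.rangeRestrict) ?_ ?_ ?_
    · exact Subtype.val_injective
    · exact LinearMap.surjective_rangeRestrict _
    · intro y
      constructor
      · intro hy
        exact ⟨⟨y, LinearMap.mem_ker.2 (congrArg Subtype.val hy)⟩, rfl⟩
      · rintro ⟨z, rfl⟩
        exact Subtype.ext (LinearMap.mem_ker.1 z.2)
  haveI : Module.Finite ℂ (FC.obj (ModuleCat.of ℂ[X] (LinearMap.ker S.g.hom))) :=
    fin_of_injective (ModuleCat.ofHom (LinearMap.ker S.g.hom).subtype) Subtype.val_injective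
  have h2 : T (ModuleCat.of ℂ[X] (LinearMap.ker S.g.hom)) =
      T (ModuleCat.of ℂ[X] (LinearMap.range S.moduleCatToCycles)) +
      T (ModuleCat.of ℂ[X] (LinearMap.ker S.g.hom ⧸ LinearMap.range S.moduleCatToCycles)) :=
    T_add_of_exact (ModuleCat.ofHom (LinearMap.range S.moduleCatToCycles).subtype)
      (ModuleCat.ofHom (LinearMap.range S.moduleCatToCycles).mkQ) Subtype.val_injective
      (Submodule.mkQ_surjective _) (LinearMap.exact_subtype_mkQ _)
  have h3 : T (ModuleCat.of ℂ[X] (LinearMap.range S.moduleCatToCycles)) = R S.f := by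
    have hcomp : (LinearMap.ker S.g.hom).subtype ∘ₗ S.moduleCatToCycles = S.f.hom :=
      LinearMap.ext fun x => rfl
    have hr : (LinearMap.range S.moduleCatToCycles).map (LinearMap.ker S.g.hom).subtype =
        LinearMap.range S.f.hom := by
      rw [← LinearMap.range_comp, hcomp]
    unfold R
    rw [← hr]
    exact T_congr (LinearEquiv.toModuleIso (Submodule.equivMapOfInjective
      (LinearMap.ker S.g.hom).subtype Subtype.val_injective
      (LinearMap.range S.moduleCatToCycles)))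
  have h4 : T (ModuleCat.of ℂ[X]
      (LinearMap.ker S.g.hom ⧸ LinearMap.range S.moduleCatToCycles)) = T S.homology :=
    (T_congr S.moduleCatHomologyIso).symm
  rw [h1, h2, h3, h4]
  ring

/-- Euler–Poincaré at one spot of a complex of shape `up' v`. -/
theorem T_X_eq (v : ℤ × ℤ) (K : HomologicalComplex (ModuleCat.{u} ℂ[X]) (ComplexShape.up' v))
    (pq : ℤ × ℤ) [hfin : Module.Finite ℂ (FC.obj (K.X pq))] :
    T (K.X pq) = T (K.homology pq) + R (K.d (pq - v) (pq - v + v)) + R (K.d pq (pq + v)) := by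
  have hrel1 : (ComplexShape.up' v).Rel (pq - v) pq := sub_add_cancel pq v
  have hrel2 : (ComplexShape.up' v).Rel pq (pq + v) := rfl
  haveI : Module.Finite ℂ (FC.obj (K.sc pq).X₂) := hfin
  have h := T_X₂_eq (K.sc pq)
  have hf : R (K.sc pq).f = R (K.d (pq - v) (pq - v + v)) := by
    have h5 : K.dTo pq = (K.xPrevIso hrel1).hom ≫ K.d (pq - v) pq := K.dTo_eq hrel1
    show R (K.dTo pq) = _
    rw [h5]
    exact (R_iso_comp (K.xPrevIso hrel1) (K.d (pq - v) pq)).trans
      (R_d_congr K _ (sub_add_cancel pq v).symm)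
  have hg : R (K.sc pq).g = R (K.d pq (pq + v)) := by
    have h5 : K.dFrom pq = K.d pq (pq + v) ≫ (K.xNextIso hrel2).inv := K.dFrom_eq hrel2
    show R (K.dFrom pq) = _
    rw [h5]
    exact R_comp_iso (K.d pq (pq + v)) (K.xNextIso hrel2).symm
  rw [hf, hg] at h
  exact h

/-- Additivity of `T` along a short exact sequence of `ℂ[X]`-modules. -/
theorem T_add_of_shortExact (S : ShortComplex (ModuleCat.{u} ℂ[X])) (hS : S.ShortExact)
    [Module.Finite ℂ (FC.obj S.X₂)] : T S.X₂ = T S.X₁ + T S.X₃ :=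
  T_add_of_exact S.f S.g hS.moduleCat_injective_f hS.moduleCat_surjective_g
    ((ShortComplex.ShortExact.moduleCat_exact_iff_function_exact S).1 hS.exact)

theorem fin_of_shortExact (S : ShortComplex (ModuleCat.{u} ℂ[X])) (hS : S.ShortExact)
    [Module.Finite ℂ (FC.obj S.X₁)] [Module.Finite ℂ (FC.obj S.X₃)] :
    Module.Finite ℂ (FC.obj S.X₂) :=
  fin_of_exact S.f S.g ((ShortComplex.ShortExact.moduleCat_exact_iff_function_exact S).1 hS.exact)

end Groth.Agent.Lib.SpSeqTraceH1
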