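import Mathlib
import Groth.Agent.Lib.SpSeqTrace1_helper1

/-!
# Fixed points of p-linear maps over an algebraically closed field (helper1, for S8618)
-/

namespace Groth.Agent.Lib.PLinFixH1

open Polynomial

universe u v

section Fp

variable {K : Type v} [Field K] (p : ℕ) [Fact p.Prime] [CharP K p]

lemma exists_natCast_of_pow_eq (c : K) (hc : c ^ p = c) : ∃ n : ℕ, c = (n : K) := by
  classical
  have hp : p.Prime := Fact.out
  have hP0 : (X ^ p - X : K[X]) ≠ 0 := FiniteField.X_pow_card_sub_X_ne_zero K hp.one_lt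
  have hdeg : (X ^ p - X : K[X]).natDegree = p :=
    FiniteField.X_pow_card_sub_X_natDegree_eq K hp.one_lt
  have hroot : ∀ x : K, x ∈ (X ^ p - X : K[X]).roots.toFinset ↔ x ^ p = x := by
    intro x
    rw [Multiset.mem_toFinset, Polynomial.mem_roots hP0, Polynomial.IsRoot.def, eval_sub,
      eval_pow, eval_X, sub_eq_zero]
  have hTcard : ((Finset.range p).image (fun n : ℕ => (n : K))).card = p := by
    rw [Finset.card_image_of_injOn, Finset.card_range]
    intro a ha b hb hab
    exact CharP.natCast_injOn_Iio K p (Finset.mem_range.mp (Finset.mem_coe.mp ha))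
      (Finset.mem_range.mp (Finset.mem_coe.mp hb)) hab
  have hTsub : (Finset.range p).image (fun n : ℕ => (n : K)) ⊆
      (X ^ p - X : K[X]).roots.toFinset := by
    intro x hx
    obtain ⟨n, _, rfl⟩ := Finset.mem_image.mp hx
    rw [hroot]
    have h1 := map_natCast (frobenius K p) n
    rwa [frobenius_def] at h1
  have hcard : (X ^ p - X : K[X]).roots.toFinset.card ≤
      ((Finset.range p).image (fun n : ℕ => (n : K))).card := by
    rw [hTcard]
    calc (X ^ p - X : K[X]).roots.toFinset.card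
        ≤ Multiset.card (X ^ p - X : K[X]).roots := Multiset.toFinset_card_le _
      _ ≤ (X ^ p - X : K[X]).natDegree := Polynomial.card_roots' _
      _ = p := hdeg
  have hEq := Finset.eq_of_subset_of_card_le hTsub hcard
  have hcmem : c ∈ (X ^ p - X : K[X]).roots.toFinset := (hroot c).mpr hc
  rw [← hEq] at hcmem
  obtain ⟨n, _, hn⟩ := Finset.mem_image.mp hcmem
  exact ⟨n, hn.symm⟩

end Fp

section Indep

variable {K : Type v} [Field K] (p : ℕ) [Fact p.Prime] [CharP K p]
variable {U : Type u} [AddCommGroup U] [Module K U]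

lemma fix_indep {ι : Type*} [DecidableEq ι] (ψ : U →ₛₗ[frobenius K p] U) (v : ι → U)
    (hv : ∀ i, ψ (v i) = v i) (s : Finset ι)
    (h : ∀ c : ι → K, (∀ i, c i ^ p = c i) → ∑ i ∈ s, c i • v i = 0 → ∀ i ∈ s, c i = 0) :
    ∀ c : ι → K, ∑ i ∈ s, c i • v i = 0 → ∀ i ∈ s, c i = 0 := by
  have hp0 : p ≠ 0 := (Fact.out : p.Prime).ne_zero
  induction s using Finset.induction_on with
  | empty =>
    intro c _ i hi
    exact absurd hi (Finset.notMem_empty i)
  | insert a s ha ih =>
    have hs : ∀ c : ι → K, (∀ i, c i ^ p = c i) → ∑ i ∈ s, c i • v i = 0 →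
        ∀ i ∈ s, c i = 0 := by
      intro c hcp hsum i hi
      obtain ⟨c', hc'⟩ : ∃ c' : ι → K, ∀ j, c' j = if j = a then 0 else c j :=
        ⟨_, fun _ => rfl⟩
      have hc'p : ∀ j, c' j ^ p = c' j := by
        intro j
        rw [hc' j]
        by_cases hj : j = a
        · rw [if_pos hj, zero_pow hp0]
        · rw [if_neg hj, hcp j]
      have hsum' : ∑ j ∈ insert a s, c' j • v j = 0 := by
        rw [Finset.sum_insert ha, hc' a, if_pos rfl, zero_smul, zero_add, ← hsum]
        apply Finset.sum_congr rfl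
        intro j hj
        have hja : j ≠ a := fun h => ha (h ▸ hj)
        rw [hc' j, if_neg hja]
      have h1 := h c' hc'p hsum' i (Finset.mem_insert_of_mem hi)
      have hia : i ≠ a := fun h => ha (h ▸ hi)
      rwa [hc' i, if_neg hia] at h1
    have ih' := ih hs
    intro c hsum
    by_cases hca : c a = 0
    · have hsum_s : ∑ i ∈ s, c i • v i = 0 := by
        rw [Finset.sum_insert ha, hca, zero_smul, zero_add] at hsum
        exact hsum
      intro i hi
      rcases Finset.mem_insert.mp hi with hia | hi'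
      · rw [hia]
        exact hca
      · exact ih' c hsum_s i hi'
    · exfalso
      obtain ⟨d, hd⟩ : ∃ d : ι → K, ∀ i, d i = (c a)⁻¹ * c i := ⟨_, fun _ => rfl⟩
      have hd_a : d a = 1 := by rw [hd a, inv_mul_cancel₀ hca]
      have hdsum : ∑ i ∈ insert a s, d i • v i = 0 := by
        have h1 : ∑ i ∈ insert a s, d i • v i = (c a)⁻¹ • ∑ i ∈ insert a s, c i • v i := by
          rw [Finset.smul_sum]
          apply Finset.sum_congr rfl
          intro i _
          rw [hd i, smul_smul]
        rw [h1, hsum, smul_zero]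
      have hψsum : ∑ i ∈ insert a s, (d i ^ p) • v i = 0 := by
        have h1 := congrArg ψ hdsum
        rw [map_sum, map_zero] at h1
        rw [← h1]
        apply Finset.sum_congr rfl
        intro i _
        rw [LinearMap.map_smulₛₗ, frobenius_def, hv i]
      have hdiff : ∑ i ∈ s, (d i ^ p - d i) • v i = 0 := by
        have h1 : ∑ i ∈ insert a s, (d i ^ p - d i) • v i = 0 := by
          have h2 : ∀ i ∈ insert a s, (d i ^ p - d i) • v i = (d i ^ p) • v i - d i • v i :=
            fun i _ => sub_smul _ _ _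
          rw [Finset.sum_congr rfl h2, Finset.sum_sub_distrib, hψsum, hdsum, sub_zero]
        rw [Finset.sum_insert ha, hd_a, one_pow, sub_self, zero_smul, zero_add] at h1
        exact h1
      have hdp : ∀ i ∈ s, d i ^ p = d i := fun i hi => sub_eq_zero.mp (ih' _ hdiff i hi)
      obtain ⟨d', hd'⟩ : ∃ d' : ι → K, ∀ i, d' i = if i ∈ insert a s then d i else 0 :=
        ⟨_, fun _ => rfl⟩
      have hd'p : ∀ i, d' i ^ p = d' i := by
        intro i
        rw [hd' i]
        by_cases hi : i ∈ insert a s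
        · rw [if_pos hi]
          rcases Finset.mem_insert.mp hi with hia | hi'
          · rw [hia, hd_a, one_pow]
          · exact hdp i hi'
        · rw [if_neg hi, zero_pow hp0]
      have hd'sum : ∑ i ∈ insert a s, d' i • v i = 0 := by
        rw [← hdsum]
        apply Finset.sum_congr rfl
        intro i hi
        rw [hd' i, if_pos hi]
      have h1 := h d' hd'p hd'sum a (Finset.mem_insert_self a s)
      rw [hd' a, if_pos (Finset.mem_insert_self a s), hd_a] at h1
      exact one_ne_zero h1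

lemma iter_zero (ψ : U →ₛₗ[frobenius K p] U) (j : ℕ) : (⇑ψ)^[j] 0 = 0 := by
  induction j with
  | zero => rfl
  | succ j ih => rw [Function.iterate_succ_apply, map_zero, ih]

end Indep

section Poly

variable {K : Type v} [Field K] (p : ℕ) [Fact p.Prime]

/-- auxiliary polynomials: `Qs 0 = a₀ X`, `Qs (i+1) = (Qs i)^p + a_{i+1} X` -/
noncomputable def Qs (a : ℕ → K) : ℕ → K[X]
  | 0 => C (a 0) * X
  | (i + 1) => (Qs a i) ^ p + C (a (i + 1)) * X

lemma Qs_zero (a : ℕ → K) : Qs p a 0 = C (a 0) * X := rfl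

lemma Qs_succ (a : ℕ → K) (i : ℕ) : Qs p a (i + 1) = (Qs p a i) ^ p + C (a (i + 1)) * X := rfl

lemma Qs_eval_zero (a : ℕ → K) (i : ℕ) : (Qs p a i).eval 0 = 0 := by
  induction i with
  | zero => rw [Qs_zero, eval_mul, eval_X, mul_zero]
  | succ i ih =>
    rw [Qs_succ, eval_add, eval_pow, ih, zero_pow (Fact.out : p.Prime).ne_zero, eval_mul, eval_X,
      mul_zero, add_zero]

lemma Qs_natDegree (a : ℕ → K) (ha0 : a 0 ≠ 0) (i : ℕ) : 1 ≤ (Qs p a i).natDegree := by
  have hp := (Fact.out : p.Prime)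
  induction i with
  | zero => rw [Qs_zero, natDegree_C_mul_X _ ha0]
  | succ i ih =>
    have h0 : 1 < p * (Qs p a i).natDegree := by
      calc 1 < p * 1 := by have := hp.two_le; omega
        _ ≤ p * (Qs p a i).natDegree := Nat.mul_le_mul_left p ih
    have h1 : (C (a (i + 1)) * X : K[X]).natDegree < ((Qs p a i) ^ p).natDegree := by
      rw [natDegree_pow]
      calc (C (a (i + 1)) * X : K[X]).natDegree ≤ (X : K[X]).natDegree := natDegree_C_mul_le _ _
        _ = 1 := natDegree_X
        _ < p * (Qs p a i).natDegree := h0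
    rw [Qs_succ, natDegree_add_eq_left_of_natDegree_lt h1, natDegree_pow]
    exact le_of_lt h0

lemma exists_root_ne_zero [IsAlgClosed K] (Q : K[X]) (hQ0 : Q.eval 0 = 0)
    (hQd : 1 ≤ Q.natDegree) : ∃ z : K, z ≠ 0 ∧ Q.eval (z ^ p) = z := by
  have hp := (Fact.out : p.Prime)
  have hc0 : (expand K p Q - X).coeff 0 = 0 := by
    rw [coeff_sub, coeff_expand hp.pos, if_pos (dvd_zero p), Nat.zero_div,
      coeff_zero_eq_eval_zero, hQ0, coeff_X_zero, sub_zero]
  have hnd : ¬ p ∣ 1 := by
    intro h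
    have h1 := Nat.le_of_dvd one_pos h
    have h2 := hp.two_le
    omega
  have hc1 : (expand K p Q - X).coeff 1 = -1 := by
    rw [coeff_sub, coeff_expand hp.pos, if_neg hnd, coeff_X_one, zero_sub]
  have hdegE : (1 : ℕ) < (expand K p Q).natDegree := by
    rw [natDegree_expand]
    calc 1 < 1 * p := by have := hp.two_le; omega
      _ ≤ Q.natDegree * p := Nat.mul_le_mul_right p hQd
  have hdegP : (expand K p Q - X).natDegree = Q.natDegree * p := by
    rw [natDegree_sub_eq_left_of_natDegree_lt (by rw [natDegree_X]; exact hdegE),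
      natDegree_expand]
  obtain ⟨Q', hQ'⟩ : X ∣ (expand K p Q - X) := X_dvd_iff.mpr hc0
  have hQ'0 : Q' ≠ 0 := by
    intro h
    rw [h, mul_zero] at hQ'
    rw [hQ', coeff_zero] at hc1
    exact one_ne_zero (neg_eq_zero.mp hc1.symm)
  have hQ'deg : Q'.degree ≠ 0 := by
    have h1 : (expand K p Q - X).natDegree = Q'.natDegree + 1 := by
      rw [hQ', natDegree_X_mul hQ'0]
    have h2 : 0 < Q'.natDegree := by
      rw [hdegP] at h1
      rw [natDegree_expand] at hdegE
      omega
    exact ne_of_gt (natDegree_pos_iff_degree_pos.mp h2)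
  obtain ⟨z, hz⟩ := IsAlgClosed.exists_root Q' hQ'deg
  have hz' : Q'.eval z = 0 := hz
  refine ⟨z, ?_, ?_⟩
  · intro hz0
    rw [hz0] at hz'
    have h1 : Q'.coeff 0 = 0 := by rw [coeff_zero_eq_eval_zero]; exact hz'
    have h2 : (expand K p Q - X).coeff 1 = Q'.coeff 0 := by
      rw [hQ']
      exact coeff_X_mul Q' 0
    rw [hc1, h1] at h2
    exact one_ne_zero (neg_eq_zero.mp h2)
  · have h1 : (expand K p Q - X).eval z = 0 := by rw [hQ', eval_mul, hz', mul_zero]
    rw [eval_sub, expand_eval, eval_X, sub_eq_zero] at h1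
    exact h1

end Poly

section Lang

variable {K : Type v} [Field K] [IsAlgClosed K] (p : ℕ) [Fact p.Prime] [CharP K p]
variable {U : Type u} [AddCommGroup U] [Module K U]

lemma exists_fixed_of_relation (ψ : U →ₛₗ[frobenius K p] U) (u : U) (m : ℕ) (a : ℕ → K)
    (ha0 : a 0 ≠ 0)
    (hrel : (⇑ψ)^[m + 1] u = ∑ i ∈ Finset.range (m + 1), a i • (⇑ψ)^[i] u)
    (hind : LinearIndependent K (fun i : Fin (m + 1) => (⇑ψ)^[(i : ℕ)] u)) :
    ∃ w : U, w ≠ 0 ∧ ψ w = w := by
  obtain ⟨z, hz0, hz⟩ := exists_root_ne_zero p (Qs p a m) (Qs_eval_zero p a m)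
    (Qs_natDegree p a ha0 m)
  obtain ⟨x, hx⟩ : ∃ x : ℕ → K, ∀ i, x i = (Qs p a i).eval (z ^ p) := ⟨_, fun _ => rfl⟩
  have hx0 : x 0 = a 0 * z ^ p := by rw [hx 0, Qs_zero, eval_mul, eval_C, eval_X]
  have hxs : ∀ i, x (i + 1) = x i ^ p + a (i + 1) * z ^ p := by
    intro i
    rw [hx (i + 1), hx i, Qs_succ, eval_add, eval_pow, eval_mul, eval_C, eval_X]
  have hxm : x m = z := by rw [hx m]; exact hz
  refine ⟨∑ i ∈ Finset.range (m + 1), x i • (⇑ψ)^[i] u, ?_, ?_⟩
  · intro h0
    have e0 : ∑ i : Fin (m + 1), x (i : ℕ) • (⇑ψ)^[(i : ℕ)] u =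
        ∑ i ∈ Finset.range (m + 1), x i • (⇑ψ)^[i] u :=
      Fin.sum_univ_eq_sum_range (fun i => x i • (⇑ψ)^[i] u) (m + 1)
    rw [← e0] at h0
    have h1 := (Fintype.linearIndependent_iff.mp hind) (fun i => x (i : ℕ)) h0 (Fin.last m)
    have h2 : x m = 0 := by simpa using h1
    rw [hxm] at h2
    exact hz0 h2
  · have e1 : ψ (∑ i ∈ Finset.range (m + 1), x i • (⇑ψ)^[i] u) =
        ∑ i ∈ Finset.range (m + 1), (x i ^ p) • (⇑ψ)^[i + 1] u := by
      rw [map_sum]
      apply Finset.sum_congr rfl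
      intro i _
      rw [LinearMap.map_smulₛₗ, frobenius_def, Function.iterate_succ_apply']
    have e2 : ∑ i ∈ Finset.range (m + 1), (x i ^ p) • (⇑ψ)^[i + 1] u =
        ∑ i ∈ Finset.range m, (x i ^ p) • (⇑ψ)^[i + 1] u + (z ^ p) • (⇑ψ)^[m + 1] u := by
      rw [Finset.sum_range_succ, hxm]
    have e3 : ∑ i ∈ Finset.range (m + 1), a i • (⇑ψ)^[i] u =
        ∑ i ∈ Finset.range m, a (i + 1) • (⇑ψ)^[i + 1] u + a 0 • u :=
      Finset.sum_range_succ' _ _
    have e4 : ∑ i ∈ Finset.range (m + 1), x i • (⇑ψ)^[i] u =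
        ∑ i ∈ Finset.range m, x (i + 1) • (⇑ψ)^[i + 1] u + x 0 • u :=
      Finset.sum_range_succ' _ _
    have e5 : ∑ i ∈ Finset.range m, x (i + 1) • (⇑ψ)^[i + 1] u =
        ∑ i ∈ Finset.range m, (x i ^ p) • (⇑ψ)^[i + 1] u +
          z ^ p • ∑ i ∈ Finset.range m, a (i + 1) • (⇑ψ)^[i + 1] u := by
      rw [Finset.smul_sum, ← Finset.sum_add_distrib]
      apply Finset.sum_congr rfl
      intro i _
      rw [hxs i, add_smul, smul_smul, mul_comm]
    rw [e1, e2, hrel, e3, e4, e5, hx0, smul_add, smul_smul, mul_comm (z ^ p) (a 0), add_assoc]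

lemma exists_min_relation [FiniteDimensional K U] (ψ : U →ₛₗ[frobenius K p] U) (u : U) :
    ∃ m : ℕ, m ≤ Module.finrank K U ∧
      LinearIndependent K (fun i : Fin m => (⇑ψ)^[(i : ℕ)] u) ∧
      (⇑ψ)^[m] u ∈ Submodule.span K (Set.range (fun i : Fin m => (⇑ψ)^[(i : ℕ)] u)) := by
  by_contra hcon
  push_neg at hcon
  have hall : ∀ m, m ≤ Module.finrank K U + 1 →
      LinearIndependent K (fun i : Fin m => (⇑ψ)^[(i : ℕ)] u) := by
    intro m
    induction m with
    | zero =>
      intro _
      exact linearIndependent_empty_type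
    | succ m ih =>
      intro hm
      have hm' : m ≤ Module.finrank K U := by omega
      have hli := ih (by omega)
      have hnot := hcon m hm' hli
      have hsn : (fun i : Fin (m + 1) => (⇑ψ)^[(i : ℕ)] u) =
          (Fin.snoc (fun i : Fin m => (⇑ψ)^[(i : ℕ)] u) ((⇑ψ)^[m] u) : Fin (m + 1) → U) := by
        funext i
        refine Fin.lastCases ?_ (fun j => ?_) i
        · simp
        · simp
      rw [hsn]
      exact linearIndependent_finSnoc.mpr ⟨hli, hnot⟩
  have h1 := (hall (Module.finrank K U + 1) le_rfl).fintype_card_le_finrank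
  rw [Fintype.card_fin] at h1
  omega

lemma iterate_eq_zero_of_relation (ψ : U →ₛₗ[frobenius K p] U)
    (hno : ∀ w, ψ w = w → w = 0) :
    ∀ (m : ℕ) (u : U), LinearIndependent K (fun i : Fin m => (⇑ψ)^[(i : ℕ)] u) →
      (⇑ψ)^[m] u ∈ Submodule.span K (Set.range (fun i : Fin m => (⇑ψ)^[(i : ℕ)] u)) →
      (⇑ψ)^[m] u = 0 := by
  intro m
  induction m with
  | zero =>
    intro u _ hmem
    have h1 : Set.range (fun i : Fin 0 => (⇑ψ)^[(i : ℕ)] u) = ∅ := Set.range_eq_empty _
    rw [h1, Submodule.span_empty, Submodule.mem_bot] at hmem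
    exact hmem
  | succ m ih =>
    intro u hli hmem
    obtain ⟨c, hc⟩ := (Submodule.mem_span_range_iff_exists_fun K).mp hmem
    obtain ⟨a, ha⟩ : ∃ a : ℕ → K, ∀ i, a i = if h : i < m + 1 then c ⟨i, h⟩ else 0 :=
      ⟨_, fun _ => rfl⟩
    have e0 : ∑ i : Fin (m + 1), a (i : ℕ) • (⇑ψ)^[(i : ℕ)] u =
        ∑ i ∈ Finset.range (m + 1), a i • (⇑ψ)^[i] u :=
      Fin.sum_univ_eq_sum_range (fun i => a i • (⇑ψ)^[i] u) (m + 1)
    have hrel : (⇑ψ)^[m + 1] u = ∑ i ∈ Finset.range (m + 1), a i • (⇑ψ)^[i] u := by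
      rw [← e0, ← hc]
      apply Finset.sum_congr rfl
      intro i _
      rw [ha (i : ℕ), dif_pos i.2]
    by_cases ha0 : a 0 = 0
    · have hli' : LinearIndependent K (fun i : Fin m => (⇑ψ)^[(i : ℕ)] (ψ u)) := by
        have h1 : (fun i : Fin m => (⇑ψ)^[(i : ℕ)] (ψ u)) =
            (fun i : Fin (m + 1) => (⇑ψ)^[(i : ℕ)] u) ∘ Fin.succ := by
          funext i
          rw [Function.comp_apply, Fin.val_succ, Function.iterate_succ_apply]
        rw [h1]
        exact hli.comp Fin.succ (Fin.succ_injective m)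
      have e3 : ∑ i ∈ Finset.range (m + 1), a i • (⇑ψ)^[i] u =
          ∑ i ∈ Finset.range m, a (i + 1) • (⇑ψ)^[i + 1] u + a 0 • u :=
        Finset.sum_range_succ' _ _
      have h1 : (⇑ψ)^[m] (ψ u) = ∑ i ∈ Finset.range m, a (i + 1) • (⇑ψ)^[i] (ψ u) := by
        calc (⇑ψ)^[m] (ψ u) = (⇑ψ)^[m + 1] u := rfl
          _ = ∑ i ∈ Finset.range m, a (i + 1) • (⇑ψ)^[i + 1] u + a 0 • u := by rw [hrel, e3]
          _ = ∑ i ∈ Finset.range m, a (i + 1) • (⇑ψ)^[i] (ψ u) := by
            rw [ha0, zero_smul, add_zero]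
            rfl
      have hmem' : (⇑ψ)^[m] (ψ u) ∈
          Submodule.span K (Set.range (fun i : Fin m => (⇑ψ)^[(i : ℕ)] (ψ u))) := by
        rw [h1]
        apply Submodule.sum_mem
        intro i hi
        apply Submodule.smul_mem
        apply Submodule.subset_span
        exact ⟨⟨i, Finset.mem_range.mp hi⟩, rfl⟩
      exact ih (ψ u) hli' hmem'
    · exfalso
      obtain ⟨w, hw0, hw⟩ := exists_fixed_of_relation p ψ u m a ha0 hrel hli
      exact hw0 (hno w hw)

lemma nilpotent_of_no_fixed [FiniteDimensional K U] (ψ : U →ₛₗ[frobenius K p] U)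
    (hno : ∀ w, ψ w = w → w = 0) (u : U) : (⇑ψ)^[Module.finrank K U] u = 0 := by
  obtain ⟨m, hm, hli, hmem⟩ := exists_min_relation p ψ u
  have h1 := iterate_eq_zero_of_relation p ψ hno m u hli hmem
  obtain ⟨j, hj⟩ := Nat.exists_eq_add_of_le hm
  rw [hj, Nat.add_comm, Function.iterate_add_apply, h1, iter_zero]

theorem exists_iterate_mem_span_fixed :
    ∀ (n : ℕ) (U : Type u) [AddCommGroup U] [Module K U] [FiniteDimensional K U]
      (ψ : U →ₛₗ[frobenius K p] U), Module.finrank K U = n →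
      ∃ N : ℕ, ∀ y : U, (⇑ψ)^[N] y ∈ Submodule.span K {w : U | ψ w = w} := by
  intro n
  induction n with
  | zero =>
    intro U _ _ _ ψ hn
    refine ⟨0, fun y => ?_⟩
    have h1 : y = 0 := (finrank_zero_iff_forall_zero.mp hn) y
    rw [h1]
    exact Submodule.zero_mem _
  | succ n ih =>
    intro U _ _ _ ψ hn
    by_cases hex : ∃ w : U, w ≠ 0 ∧ ψ w = w
    · obtain ⟨w, hw0, hw⟩ := hex
      have hS : (K ∙ w) ≤ (K ∙ w).comap ψ := by
        intro x hx
        obtain ⟨b, rfl⟩ := Submodule.mem_span_singleton.mp hx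
        rw [Submodule.mem_comap, LinearMap.map_smulₛₗ, hw]
        exact Submodule.smul_mem _ _ (Submodule.mem_span_singleton_self w)
      have hfr : Module.finrank K (U ⧸ (K ∙ w)) = n := by
        have h1 := (K ∙ w).finrank_quotient_add_finrank
        rw [finrank_span_singleton hw0, hn] at h1
        omega
      obtain ⟨N, hN⟩ := ih (U ⧸ (K ∙ w)) ((K ∙ w).mapQ (K ∙ w) ψ hS) hfr
      refine ⟨N, fun y => ?_⟩
      have hiter : ∀ (j : ℕ) (y : U),
          (⇑((K ∙ w).mapQ (K ∙ w) ψ hS))^[j] ((K ∙ w).mkQ y) = (K ∙ w).mkQ ((⇑ψ)^[j] y) := by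
        intro j
        induction j with
        | zero =>
          intro y
          rfl
        | succ j ihj =>
          intro y
          rw [Function.iterate_succ_apply, Function.iterate_succ_apply]
          have h1 : ((K ∙ w).mapQ (K ∙ w) ψ hS) ((K ∙ w).mkQ y) = (K ∙ w).mkQ (ψ y) := rfl
          rw [h1, ihj]
      have hle : Submodule.span K
          {v : U ⧸ (K ∙ w) | ((K ∙ w).mapQ (K ∙ w) ψ hS) v = v} ≤
          (Submodule.span K {v : U | ψ v = v}).map (K ∙ w).mkQ := by
        apply Submodule.span_le.mpr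
        intro ū hū
        obtain ⟨ũ, rfl⟩ := (K ∙ w).mkQ_surjective ū
        have h1 : (K ∙ w).mkQ (ψ ũ) = (K ∙ w).mkQ ũ := hū
        have h2 : ψ ũ - ũ ∈ (K ∙ w) := (Submodule.Quotient.eq (K ∙ w)).mp h1
        obtain ⟨b, hb⟩ := Submodule.mem_span_singleton.mp h2
        have hp := (Fact.out : p.Prime)
        have hdeg : (X ^ p - X + C b : K[X]).degree ≠ 0 := by
          have h3 : (X ^ p - X + C b : K[X]).natDegree = p := by
            rw [natDegree_add_C, FiniteField.X_pow_card_sub_X_natDegree_eq K hp.one_lt]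
          exact ne_of_gt (natDegree_pos_iff_degree_pos.mp (by rw [h3]; exact hp.pos))
        obtain ⟨c, hc⟩ := IsAlgClosed.exists_root _ hdeg
        have hc' : c ^ p - c + b = 0 := by
          have h3 : (X ^ p - X + C b : K[X]).eval c = 0 := hc
          rw [eval_add, eval_sub, eval_pow, eval_X, eval_C] at h3
          exact h3
        have h6 : b + c ^ p = c := by linear_combination hc'
        have h3 : ψ ũ = ũ + b • w := by
          rw [hb]
          abel
        have hfix : ψ (ũ + c • w) = ũ + c • w := by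
          rw [map_add, LinearMap.map_smulₛₗ, frobenius_def, hw, h3, add_assoc, ← add_smul, h6]
        refine Submodule.mem_map.mpr ⟨ũ + c • w, Submodule.subset_span hfix, ?_⟩
        have h7 : (K ∙ w).mkQ w = 0 :=
          (Submodule.Quotient.mk_eq_zero _).mpr (Submodule.mem_span_singleton_self w)
        rw [map_add, map_smul, h7, smul_zero, add_zero]
      have h3 : (K ∙ w).mkQ ((⇑ψ)^[N] y) ∈
          (Submodule.span K {v : U | ψ v = v}).map (K ∙ w).mkQ := by
        apply hle
        rw [← hiter N y]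
        exact hN _
      obtain ⟨v, hv, hvy⟩ := Submodule.mem_map.mp h3
      have h4 : (⇑ψ)^[N] y - v ∈ (K ∙ w) := (Submodule.Quotient.eq (K ∙ w)).mp hvy.symm
      obtain ⟨b', hb'⟩ := Submodule.mem_span_singleton.mp h4
      have h5 : (⇑ψ)^[N] y = v + b' • w := by
        rw [hb']
        abel
      rw [h5]
      exact Submodule.add_mem _ hv (Submodule.smul_mem _ _ (Submodule.subset_span hw))
    · refine ⟨n + 1, fun y => ?_⟩
      have hno : ∀ w, ψ w = w → w = 0 := by
        intro w hw
        by_contra h0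
        exact hex ⟨w, h0, hw⟩
      have h1 := nilpotent_of_no_fixed p ψ hno y
      rw [hn] at h1
      rw [h1]
      exact Submodule.zero_mem _

end Lang

section Trace

variable {K : Type v} [Field K] [IsAlgClosed K] (p : ℕ) [Fact p.Prime] [CharP K p]
variable {U : Type u} [AddCommGroup U] [Module K U] [FiniteDimensional K U]

lemma trace_eq_trace_restrict (FK : U →ₗ[K] U) (U' : Submodule K U)
    (hinv : ∀ x ∈ U', FK x ∈ U') (N : ℕ) (hpow : ∀ y, (FK ^ N) y ∈ U') :
    LinearMap.trace K U FK = LinearMap.trace K U' (FK.restrict hinv) := by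
  have hle : U' ≤ U'.comap FK := fun x hx => hinv x hx
  have htr := Groth.Agent.Lib.SpSeqTraceH1.trace_eq_add_of_exact U'.subtype U'.mkQ
    U'.injective_subtype U'.mkQ_surjective (LinearMap.exact_subtype_mkQ U')
    (FK.restrict hinv) FK (U'.mapQ U' FK hle) (by ext x; rfl) (by ext x; rfl)
  have hpowq : ∀ (j : ℕ) (y : U),
      ((U'.mapQ U' FK hle) ^ j) (U'.mkQ y) = U'.mkQ ((FK ^ j) y) := by
    intro j
    induction j with
    | zero =>
      intro y
      rfl
    | succ j ihj =>
      intro y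
      rw [pow_succ, pow_succ, Module.End.mul_apply, Module.End.mul_apply]
      have h1 : (U'.mapQ U' FK hle) (U'.mkQ y) = U'.mkQ (FK y) := rfl
      rw [h1, ihj]
  have hnil : IsNilpotent (U'.mapQ U' FK hle) := by
    refine ⟨N, ?_⟩
    apply LinearMap.ext
    intro yq
    obtain ⟨y, rfl⟩ := U'.mkQ_surjective yq
    rw [hpowq, LinearMap.zero_apply]
    exact (Submodule.Quotient.mk_eq_zero U').mpr (hpow y)
  have h0 : LinearMap.trace K (U ⧸ U') (U'.mapQ U' FK hle) = 0 :=
    (LinearMap.isNilpotent_trace_of_isNilpotent hnil).eq_zero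
  rw [htr, h0, add_zero]

lemma trace_restrict_span (FK : U →ₗ[K] U) {d : ℕ} (w : Fin d → U)
    (hli : LinearIndependent K w) (G : Matrix (Fin d) (Fin d) K)
    (hG : ∀ j, FK (w j) = ∑ i, G i j • w i)
    (hinv : ∀ x ∈ Submodule.span K (Set.range w), FK x ∈ Submodule.span K (Set.range w)) :
    LinearMap.trace K (Submodule.span K (Set.range w)) (FK.restrict hinv) = ∑ i, G i i := by
  have hb : ∀ i, ((Module.Basis.span hli i : Submodule.span K (Set.range w)) : U) = w i :=
    fun i => congrArg Subtype.val (Module.Basis.span_apply hli i)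
  rw [LinearMap.trace_eq_matrix_trace K (Module.Basis.span hli), Matrix.trace]
  apply Finset.sum_congr rfl
  intro j _
  rw [Matrix.diag_apply, LinearMap.toMatrix_apply]
  have h1 : (FK.restrict hinv) (Module.Basis.span hli j) =
      ∑ i, G i j • Module.Basis.span hli i := by
    apply Subtype.ext
    rw [LinearMap.restrict_coe_apply, hb j, hG j, Submodule.coe_sum]
    apply Finset.sum_congr rfl
    intro i _
    rw [Submodule.coe_smul, hb i]
  rw [h1, Module.Basis.repr_sum_self]

theorem trace_eq_of_fixed_basis (ψ : U →ₛₗ[frobenius K p] U) (FK : U →ₗ[K] U)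
    (hH : ∀ (N : ℕ) (y : U), (FK ^ N) y ∈ Submodule.span K (Set.range (⇑ψ)^[N]))
    {d : ℕ} (w : Fin d → U) (hli : LinearIndependent K w)
    (hspan : ∀ y, ψ y = y → y ∈ Submodule.span K (Set.range w))
    (G : Matrix (Fin d) (Fin d) K) (hG : ∀ j, FK (w j) = ∑ i, G i j • w i) :
    LinearMap.trace K U FK = ∑ i, G i i := by
  have hle : Submodule.span K (Set.range w) ≤ (Submodule.span K (Set.range w)).comap FK := by
    rw [← Submodule.map_le_iff_le_comap, Submodule.map_span_le]
    rintro _ ⟨j, rfl⟩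
    rw [hG j]
    exact Submodule.sum_mem _
      (fun i _ => Submodule.smul_mem _ _ (Submodule.subset_span ⟨i, rfl⟩))
  have hinv : ∀ x ∈ Submodule.span K (Set.range w), FK x ∈ Submodule.span K (Set.range w) :=
    fun x hx => hle hx
  obtain ⟨N, hN⟩ := exists_iterate_mem_span_fixed p (Module.finrank K U) U ψ rfl
  have hfixle : Submodule.span K {v : U | ψ v = v} ≤ Submodule.span K (Set.range w) :=
    Submodule.span_le.mpr (fun v hv => hspan v hv)
  have hpowmem : ∀ y, (FK ^ N) y ∈ Submodule.span K (Set.range w) := by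
    intro y
    have h1 : Submodule.span K (Set.range (⇑ψ)^[N]) ≤ Submodule.span K (Set.range w) := by
      apply Submodule.span_le.mpr
      rintro _ ⟨y', rfl⟩
      exact hfixle (hN y')
    exact h1 (hH N y)
  rw [trace_eq_trace_restrict FK _ hinv N hpowmem, trace_restrict_span FK w hli G hG hinv]

end Trace

end Groth.Agent.Lib.PLinFixH1
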