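import Mathlib
import Groth.Agent.Lib.PLinFix1_helper1

/-!
# Trace of Frobenius on fixed points of a p-linear map (helper1, S8618): concrete part
-/

namespace Groth.Agent.Lib.PLinFixH1

open TensorProduct

universe u

section Main

variable {p : ℕ} [Fact p.Prime] (k : Type u) [Field k] [CharP k p]
  (K : Type u) [Field K] [Algebra k K]
  (V : Type u) [AddCommGroup V] [Module k V]
  (φ : V →ₛₗ[frobenius k p] V) (F : V →ₗ[k] V)
  (φK : K ⊗[k] V →+ K ⊗[k] V)
  (hφK : ∀ (μ : K) (v : V), φK (μ ⊗ₜ[k] v) = (μ ^ p) ⊗ₜ[k] φ v)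

include hφK in
lemma phiK_smul (μ : K) (y : K ⊗[k] V) : φK (μ • y) = (μ ^ p) • φK y := by
  induction y using TensorProduct.induction_on with
  | zero => rw [smul_zero, map_zero, smul_zero]
  | tmul a v =>
    rw [TensorProduct.smul_tmul', smul_eq_mul, hφK, hφK, mul_pow, TensorProduct.smul_tmul',
      smul_eq_mul]
  | add x y hx hy => rw [smul_add, map_add, hx, hy, map_add, smul_add]

/-- `φK` as a Frobenius-semilinear map -/
noncomputable def psi [CharP K p]
    (hsl : ∀ (μ : K) (y : K ⊗[k] V), φK (μ • y) = (μ ^ p) • φK y) :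
    (K ⊗[k] V) →ₛₗ[frobenius K p] (K ⊗[k] V) where
  toFun := φK
  map_add' := map_add φK
  map_smul' := fun μ y => by
    rw [hsl]
    rfl

lemma psi_apply [CharP K p]
    (hsl : ∀ (μ : K) (y : K ⊗[k] V), φK (μ • y) = (μ ^ p) • φK y) (y : K ⊗[k] V) :
    psi k K V φK hsl y = φK y := rfl

variable (f : ℕ) (hF : ∀ x, F x = (⇑φ)^[f] x)

include hφK hF in
lemma phiK_comm (y : K ⊗[k] V) : φK (F.baseChange K y) = F.baseChange K (φK y) := by
  induction y using TensorProduct.induction_on with
  | zero => rw [map_zero, map_zero, map_zero]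
  | tmul a v =>
    rw [LinearMap.baseChange_tmul, hφK, hφK, LinearMap.baseChange_tmul, hF, hF,
      ← Function.iterate_succ_apply, Function.iterate_succ_apply']
  | add x y hx hy => rw [map_add, map_add, hx, hy, map_add, map_add]

include hφK in
lemma phiK_iter_one_tmul (j : ℕ) (v : V) :
    (⇑φK)^[j] ((1 : K) ⊗ₜ[k] v) = (1 : K) ⊗ₜ[k] (⇑φ)^[j] v := by
  induction j generalizing v with
  | zero => rfl
  | succ j ih =>
    rw [Function.iterate_succ_apply, hφK, one_pow, ih, ← Function.iterate_succ_apply]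

include hF in
lemma F_pow_apply (N : ℕ) (v : V) : (F ^ N) v = (⇑φ)^[f * N] v := by
  induction N generalizing v with
  | zero => rfl
  | succ N ih =>
    rw [pow_succ, Module.End.mul_apply, ih, hF, ← Function.iterate_add_apply, Nat.mul_succ]

lemma baseChange_pow_tmul (N : ℕ) (a : K) (v : V) :
    ((F.baseChange K) ^ N) (a ⊗ₜ[k] v) = a ⊗ₜ[k] (F ^ N) v := by
  induction N generalizing v with
  | zero => rfl
  | succ N ih =>
    rw [pow_succ, Module.End.mul_apply, LinearMap.baseChange_tmul, ih, pow_succ,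
      Module.End.mul_apply]

include hφK hF in
lemma hH_holds (hf : f ≠ 0) (N : ℕ) (y : K ⊗[k] V) :
    ((F.baseChange K) ^ N) y ∈ Submodule.span K (Set.range (⇑φK)^[N]) := by
  obtain ⟨f', rfl⟩ := Nat.exists_eq_succ_of_ne_zero hf
  induction y using TensorProduct.induction_on with
  | zero =>
    rw [map_zero]
    exact Submodule.zero_mem _
  | tmul a v =>
    rw [baseChange_pow_tmul, F_pow_apply k V φ F (f' + 1) hF]
    have h1 : a ⊗ₜ[k] (⇑φ)^[(f' + 1) * N] v =
        a • ((⇑φK)^[N] ((⇑φK)^[f' * N] ((1 : K) ⊗ₜ[k] v))) := by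
      rw [← Function.iterate_add_apply, phiK_iter_one_tmul k K V φ φK hφK,
        TensorProduct.smul_tmul', smul_eq_mul, mul_one]
      have h2 : (f' + 1) * N = N + f' * N := by ring
      rw [h2]
    rw [h1]
    exact Submodule.smul_mem _ _ (Submodule.subset_span ⟨_, rfl⟩)
  | add x y hx hy =>
    rw [map_add]
    exact Submodule.add_mem _ hx hy

variable (F₀ : Subfield k)

lemma bot_smul (a : F₀) (y : K ⊗[k] V) :
    a • y = (algebraMap k K (a : k)) • y := by
  rw [algebraMap_smul]
  rfl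

lemma natCast_bot (n : ℕ) :
    algebraMap k K (((n : F₀) : k)) = (n : K) := by
  simp

variable (W : Submodule (↥F₀) (K ⊗[k] V)) (hW : ∀ y, y ∈ W ↔ φK y = y)

include hφK hW in
lemma li_K_of_li_bot [CharP K p] {ι : Type*} [Fintype ι] (v : ι → W)
    (hv : LinearIndependent (↥F₀) v) :
    LinearIndependent K (fun i => ((v i : W) : K ⊗[k] V)) := by
  classical
  rw [Fintype.linearIndependent_iff]
  intro c hsum i
  refine fix_indep p (psi k K V φK (phiK_smul k K V φ φK hφK))
    (fun i => ((v i : W) : K ⊗[k] V)) (fun i => (hW _).mp (v i).2) Finset.univ ?_ c hsum i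
    (Finset.mem_univ i)
  intro c hcp hsum i _
  choose n hn using fun i => exists_natCast_of_pow_eq p (c i) (hcp i)
  have h2 : ((n i : ℕ) : (↥F₀)) = 0 := by
    refine ((Fintype.linearIndependent_iff (R := ↥F₀) (M := ↥W) (v := v)).mp hv)
      (fun i => ((n i : ℕ) : (↥F₀))) ?_ i
    apply Subtype.ext
    rw [Submodule.coe_sum, Submodule.coe_zero, ← hsum]
    apply Finset.sum_congr rfl
    intro i _
    rw [Submodule.coe_smul, bot_smul, natCast_bot, hn i]
  rw [hn i, ← natCast_bot k K F₀ (n i), h2]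
  simp

include hφK hW in
lemma finite_W [CharP K p] [FiniteDimensional k V] : Module.Finite (↥F₀) ↥W := by
  haveI : Module.Free (↥F₀) ↥W := @Module.Free.of_divisionRing (↥F₀) ↥W _ _ _
  rw [← Module.rank_lt_aleph0_iff (R := ↥F₀) (M := ↥W)]
  refine lt_of_le_of_lt (rank_le (R := ↥F₀) (M := ↥W) (n := Module.finrank K (K ⊗[k] V)) ?_)
    (Cardinal.nat_lt_aleph0 _)
  intro s hs
  have h1 := li_K_of_li_bot k K V φ φK hφK F₀ W hW (fun i : s => (i : W)) hs
  have h2 := h1.fintype_card_le_finrank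
  rwa [Fintype.card_coe] at h2

include hφK hF hW in
theorem main8618 [CharP K p] [IsAlgClosed K] [FiniteDimensional k V] (hf : f ≠ 0) :
    (∀ y, φK y = y → φK (F.baseChange K y) = F.baseChange K y) ∧
    Module.Finite (↥F₀) ↥W ∧
    ∀ (G : ↥W →ₗ[↥F₀] ↥W), (∀ y : ↥W, (↑(G y) : K ⊗[k] V) = F.baseChange K ↑y) →
      algebraMap k K (algebraMap (↥F₀) k (LinearMap.trace (↥F₀) ↥W G)) =
        algebraMap k K (LinearMap.trace k V F) := by
  have hfin : Module.Finite (↥F₀) ↥W := finite_W k K V φ φK hφK F₀ W hW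
  refine ⟨?_, hfin, ?_⟩
  · intro y hy
    rw [phiK_comm k K V φ F φK hφK f hF, hy]
  · intro G hG
    haveI : Module.Free (↥F₀) ↥W := @Module.Free.of_divisionRing (↥F₀) ↥W _ _ _
    obtain ⟨d, ⟨b⟩⟩ : ∃ d : ℕ, Nonempty (Module.Basis (Fin d) (↥F₀) ↥W) :=
      ⟨_, ⟨Module.finBasis (↥F₀) ↥W⟩⟩
    have hli := li_K_of_li_bot k K V φ φK hφK F₀ W hW (fun i => b i) b.linearIndependent
    have hsl := phiK_smul k K V φ φK hφK
    have hspan : ∀ y, (psi k K V φK hsl) y = y →
        y ∈ Submodule.span K (Set.range (fun i => ((b i : W) : K ⊗[k] V))) := by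
      intro y hy
      have hyW : y ∈ W := (hW y).mpr hy
      have h1 := b.sum_repr ⟨y, hyW⟩
      have h3 : ((∑ i, b.repr ⟨y, hyW⟩ i • b i : W) : K ⊗[k] V) = y := congrArg Subtype.val h1
      rw [Submodule.coe_sum] at h3
      have h2 : y = ∑ i, (algebraMap k K ((b.repr ⟨y, hyW⟩ i : F₀) : k)) •
          ((b i : W) : K ⊗[k] V) := by
        refine h3.symm.trans ?_
        apply Finset.sum_congr rfl
        intro i _
        rw [Submodule.coe_smul, bot_smul]
      rw [h2]
      exact Submodule.sum_mem _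
        (fun i _ => Submodule.smul_mem _ _ (Submodule.subset_span ⟨i, rfl⟩))
    have hGK : ∀ j, (F.baseChange K) ((b j : W) : K ⊗[k] V) =
        ∑ i, (Matrix.of fun i j => algebraMap k K ((b.repr (G (b j)) i : F₀) : k)) i j •
          ((b i : W) : K ⊗[k] V) := by
      intro j
      rw [← hG (b j)]
      have h1 := b.sum_repr (G (b j))
      have h3 : ((∑ i, b.repr (G (b j)) i • b i : W) : K ⊗[k] V) = ((G (b j) : W) : K ⊗[k] V) :=
        congrArg Subtype.val h1
      rw [Submodule.coe_sum] at h3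
      refine h3.symm.trans ?_
      apply Finset.sum_congr rfl
      intro i _
      rw [Submodule.coe_smul, bot_smul]
      rfl
    have htr := trace_eq_of_fixed_basis p (psi k K V φK hsl) (F.baseChange K)
      (fun N y => hH_holds k K V φ F φK hφK f hF hf N y)
      (fun i => ((b i : W) : K ⊗[k] V)) hli hspan
      (Matrix.of fun i j => algebraMap k K ((b.repr (G (b j)) i : F₀) : k)) hGK
    rw [LinearMap.trace_baseChange] at htr
    have e := LinearMap.trace_eq_matrix_trace (↥F₀) b G
    rw [htr, e, Matrix.trace, map_sum, map_sum]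
    apply Finset.sum_congr rfl
    intro i _
    rw [Matrix.diag_apply, LinearMap.toMatrix_apply]
    rfl

end Main

end Groth.Agent.Lib.PLinFixH1
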