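import Mathlib
import Groth.Prelude.Def_PP16
import Groth.Agent.Lib.PP16Smooth_helper1

/-! Characteristic zero: free differentials imply differential smoothness (helper1). -/

set_option autoImplicit false
set_option maxHeartbeats 1000000

universe u

open TensorProduct

namespace Groth.Agent.Lib.PP16Char0H1

open Groth.Agent.Lib.SymPowH1 Groth.Agent.Lib.PP16SmoothH1

section Der

/-- derivations lower the adic filtration by at most one -/
theorem der_pow_mem {R : Type*} [CommRing R] (I : Ideal R) (δ : R → R)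
    (hadd : ∀ x y, δ (x + y) = δ x + δ y) (hmul : ∀ x y, δ (x * y) = x * δ y + y * δ x) :
    ∀ (k : ℕ) (x : R), x ∈ I ^ (k + 1) → δ x ∈ I ^ k := by
  intro k
  induction k with
  | zero =>
    intro x _
    rw [pow_zero, Ideal.one_eq_top]
    trivial
  | succ k ih =>
    intro x hx
    have hx' : x ∈ I ^ (k + 1) • I := by rwa [smul_eq_mul, ← pow_succ]
    refine Submodule.smul_induction_on hx' (fun m hm n hn => ?_) (fun x y hx hy => ?_)
    · rw [smul_eq_mul, hmul]
      apply Ideal.add_mem
      · exact Ideal.mul_mem_right _ _ hm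
      · rw [pow_succ']
        exact Ideal.mul_mem_mul hn (ih m hm)
    · rw [hadd]
      exact Ideal.add_mem _ hx hy

variable (A B : Type u) [CommRing A] [CommRing B] [Algebra A B]

/-- the derivation `id ⊗ d` of the tensor square -/
noncomputable def delta (d : Derivation A B B) : B ⊗[A] B →ₗ[B] B ⊗[A] B :=
  TensorProduct.AlgebraTensorModule.lTensor B B d.toLinearMap

theorem delta_tmul (d : Derivation A B B) (b b' : B) :
    delta A B d (b ⊗ₜ[A] b') = b ⊗ₜ[A] d b' := rfl

theorem delta_mul (d : Derivation A B B) (x y : B ⊗[A] B) :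
    delta A B d (x * y) = x * delta A B d y + y * delta A B d x := by
  induction x using TensorProduct.induction_on with
  | zero => rw [zero_mul, map_zero, zero_mul, mul_zero, add_zero]
  | add x₁ x₂ h₁ h₂ =>
    rw [add_mul, map_add, h₁, h₂, map_add]
    ring
  | tmul a b =>
    induction y using TensorProduct.induction_on with
    | zero => rw [mul_zero, map_zero, mul_zero, zero_mul, add_zero]
    | add y₁ y₂ h₁ h₂ =>
      rw [mul_add, map_add, h₁, h₂, map_add]
      ring
    | tmul c e =>
      have h1 : d (b * e) = b * d e + e * d b := by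
        rw [Derivation.leibniz, smul_eq_mul, smul_eq_mul]
      rw [Algebra.TensorProduct.tmul_mul_tmul, delta_tmul, delta_tmul, delta_tmul, h1,
        TensorProduct.tmul_add, Algebra.TensorProduct.tmul_mul_tmul,
        Algebra.TensorProduct.tmul_mul_tmul, mul_comm c a]

theorem mu_delta (d : Derivation A B B) (x : B ⊗[A] B) :
    Algebra.TensorProduct.lmul' A (delta A B d x) = d.tensorProductTo x := by
  induction x using TensorProduct.induction_on with
  | zero => rw [map_zero, map_zero, map_zero]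
  | tmul b b' =>
    rw [delta_tmul, Algebra.TensorProduct.lmul'_apply_tmul, Derivation.tensorProductTo_tmul,
      smul_eq_mul]
  | add x y hx hy => rw [map_add, map_add, hx, hy, map_add]

theorem mu_delta_of_mem (f : Ω[B⁄A] →ₗ[B] B) (y : KaehlerDifferential.ideal A B) :
    Algebra.TensorProduct.lmul' A
      (delta A B (f.compDer (KaehlerDifferential.D A B)) (y : B ⊗[A] B)) =
      f (KaehlerDifferential.fromIdeal A B y) := by
  rw [mu_delta]
  have h1 : (f.compDer (KaehlerDifferential.D A B)).liftKaehlerDifferential = f :=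
    Derivation.liftKaehlerDifferential_unique _ _ (Derivation.liftKaehlerDifferential_comp _)
  rw [← Derivation.liftKaehlerDifferential_apply, h1]
  rfl

end Der

section Coord

variable (A B : Type u) [CommRing A] [CommRing B] [Algebra A B]
variable {X : Type u} (bΩ : Module.Basis X B Ω[B⁄A])

/-- lifts of the basis elements -/
noncomputable def Y (x : X) : KaehlerDifferential.ideal A B := out A B (bΩ x)

/-- evaluation of polynomials at the lifts -/
noncomputable def EY : MvPolynomial X B →ₐ[B] B ⊗[A] B :=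
  MvPolynomial.aeval (fun x => (Y A B bΩ x : B ⊗[A] B))

theorem EY_X (x : X) : EY A B bΩ (MvPolynomial.X x) = (Y A B bΩ x : B ⊗[A] B) :=
  MvPolynomial.aeval_X _ _

theorem EY_C (a : B) : EY A B bΩ (MvPolynomial.C a) = a ⊗ₜ[A] (1 : B) := by
  rw [EY, MvPolynomial.aeval_C]
  rfl

theorem EY_mem_pow (f : MvPolynomial X B) (k : ℕ)
    (hf : f ∈ MvPolynomial.idealOfVars X B ^ k) :
    EY A B bΩ f ∈ KaehlerDifferential.ideal A B ^ k := by
  have h1 : (MvPolynomial.idealOfVars X B ^ k).map
      (EY A B bΩ : MvPolynomial X B →+* B ⊗[A] B) ≤ KaehlerDifferential.ideal A B ^ k := by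
    rw [Ideal.map_pow]
    apply Ideal.pow_right_mono
    rw [MvPolynomial.idealOfVars, Ideal.map_span, Ideal.span_le]
    rintro _ ⟨_, ⟨i, rfl⟩, rfl⟩
    show EY A B bΩ (MvPolynomial.X i) ∈ _
    rw [EY_X]
    exact (Y A B bΩ i).2
  exact h1 (Ideal.mem_map_of_mem _ hf)

theorem EY_mem_one (f : MvPolynomial X B) (hf : f ∈ MvPolynomial.idealOfVars X B) :
    EY A B bΩ f ∈ KaehlerDifferential.ideal A B := by
  have := EY_mem_pow A B bΩ f 1 (by rwa [pow_one])
  rwa [pow_one] at this

variable (x' : X)

/-- the derivation attached to a coordinate -/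
noncomputable def dX : Derivation A B B := (bΩ.coord x').compDer (KaehlerDifferential.D A B)

/-- defect between differentiating after or before evaluation -/
noncomputable def Psi (f : MvPolynomial X B) : B ⊗[A] B :=
  delta A B (dX A B bΩ x') (EY A B bΩ f) - EY A B bΩ (MvPolynomial.pderiv x' f)

theorem Psi_zero : Psi A B bΩ x' 0 = 0 := by
  unfold Psi
  rw [map_zero, map_zero, map_zero, map_zero, sub_zero]

theorem Psi_add (f g : MvPolynomial X B) :
    Psi A B bΩ x' (f + g) = Psi A B bΩ x' f + Psi A B bΩ x' g := by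
  unfold Psi
  rw [map_add, map_add, map_add, map_add]
  ring

theorem Psi_mul (f g : MvPolynomial X B) :
    Psi A B bΩ x' (f * g) =
      EY A B bΩ f * Psi A B bΩ x' g + EY A B bΩ g * Psi A B bΩ x' f := by
  unfold Psi
  rw [map_mul, delta_mul, MvPolynomial.pderiv_mul, map_add, map_mul, map_mul]
  ring

theorem Psi_X_mem (x : X) :
    Psi A B bΩ x' (MvPolynomial.X x) ∈ KaehlerDifferential.ideal A B := by
  classical
  rw [RingHom.mem_ker]
  unfold Psi
  rw [map_sub, EY_X]
  have h0 : (Algebra.TensorProduct.lmul' A : B ⊗[A] B →ₐ[A] B)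
      (delta A B (dX A B bΩ x') (Y A B bΩ x : B ⊗[A] B)) = bΩ.coord x' (bΩ x) := by
    rw [dX, mu_delta_of_mem, Y, fromIdeal_out]
  rw [h0, Module.Basis.coord_apply, Module.Basis.repr_self, Finsupp.single_apply]
  by_cases hx : x = x'
  · subst hx
    rw [if_pos rfl, MvPolynomial.pderiv_X_self, map_one, map_one, sub_self]
  · rw [if_neg hx, MvPolynomial.pderiv_X_of_ne hx, map_zero, map_zero, sub_zero]

theorem Psi_mem_one (h : MvPolynomial X B) (hh : h ∈ MvPolynomial.idealOfVars X B) :
    Psi A B bΩ x' h ∈ KaehlerDifferential.ideal A B := by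
  induction hh using Submodule.span_induction with
  | mem g hg =>
    obtain ⟨x, rfl⟩ := hg
    exact Psi_X_mem A B bΩ x' x
  | zero =>
    rw [Psi_zero]
    exact zero_mem _
  | add g g' _ _ hg hg' =>
    rw [Psi_add]
    exact add_mem hg hg'
  | smul a g hg' hg =>
    rw [smul_eq_mul, Psi_mul]
    exact add_mem (Ideal.mul_mem_left _ _ hg)
      (Ideal.mul_mem_right _ _ (EY_mem_one A B bΩ g hg'))

theorem Psi_mem_pow : ∀ (k : ℕ) (f : MvPolynomial X B),
    f ∈ MvPolynomial.idealOfVars X B ^ k →
      Psi A B bΩ x' f ∈ KaehlerDifferential.ideal A B ^ k := by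
  intro k
  induction k with
  | zero =>
    intro f _
    rw [pow_zero, Ideal.one_eq_top]
    trivial
  | succ k ih =>
    intro f hf
    have hf' : f ∈ MvPolynomial.idealOfVars X B ^ k • MvPolynomial.idealOfVars X B := by
      rwa [smul_eq_mul, ← pow_succ]
    refine Submodule.smul_induction_on hf' (fun g hg h hh => ?_) (fun g h hg hh => ?_)
    · rw [smul_eq_mul, Psi_mul, pow_succ]
      apply Ideal.add_mem
      · exact Ideal.mul_mem_mul (EY_mem_pow A B bΩ g k hg) (Psi_mem_one A B bΩ x' h hh)
      · rw [mul_comm (EY A B bΩ h)]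
        exact Ideal.mul_mem_mul (ih g hg) (EY_mem_one A B bΩ h hh)
    · rw [Psi_add]
      exact Ideal.add_mem _ hg hh

theorem mu_EY (f : MvPolynomial X B) :
    (Algebra.TensorProduct.lmul' A : B ⊗[A] B →ₐ[A] B) (EY A B bΩ f) =
      MvPolynomial.coeff 0 f := by
  have hcomp : ((Algebra.TensorProduct.lmul' A : B ⊗[A] B →ₐ[A] B) : B ⊗[A] B →+* B).comp
      (EY A B bΩ : MvPolynomial X B →+* B ⊗[A] B) =
      ((MvPolynomial.aeval (fun _ : X => (0 : B)) : MvPolynomial X B →ₐ[B] B) :
        MvPolynomial X B →+* B) := by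
    apply MvPolynomial.ringHom_ext
    · intro r
      show Algebra.TensorProduct.lmul' A (EY A B bΩ (MvPolynomial.C r)) =
        MvPolynomial.aeval (fun _ : X => (0 : B)) (MvPolynomial.C r)
      rw [EY_C, Algebra.TensorProduct.lmul'_apply_tmul, mul_one, MvPolynomial.aeval_C]
      rfl
    · intro x
      show Algebra.TensorProduct.lmul' A (EY A B bΩ (MvPolynomial.X x)) =
        MvPolynomial.aeval (fun _ : X => (0 : B)) (MvPolynomial.X x)
      rw [EY_X, MvPolynomial.aeval_X]
      exact (RingHom.mem_ker).mp (Y A B bΩ x).2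
  have h1 := RingHom.congr_fun hcomp f
  have h2 : MvPolynomial.aeval (fun _ : X => (0 : B)) f = MvPolynomial.coeff 0 f := by
    rw [MvPolynomial.aeval_zero', MvPolynomial.constantCoeff_eq]
    rfl
  rw [← h2]
  exact h1

theorem mem_pow_succ_of_EY_mem [Algebra ℚ B] : ∀ (n : ℕ) (f : MvPolynomial X B),
    f ∈ MvPolynomial.idealOfVars X B ^ n →
      EY A B bΩ f ∈ KaehlerDifferential.ideal A B ^ (n + 1) →
        f ∈ MvPolynomial.idealOfVars X B ^ (n + 1) := by
  intro n
  induction n with
  | zero =>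
    intro f _ hE
    rw [MvPolynomial.mem_pow_idealOfVars_iff']
    intro q hq
    have hq0 : q = 0 := by
      have : q.degree = 0 := by omega
      exact (Finsupp.degree_eq_zero_iff q).mp this
    subst hq0
    rw [zero_add, pow_one, RingHom.mem_ker] at hE
    rw [← mu_EY A B bΩ f]
    exact hE
  | succ n ih =>
    intro f hf hE
    have hpd : ∀ x' : X, MvPolynomial.pderiv x' f ∈ MvPolynomial.idealOfVars X B ^ (n + 1) := by
      intro x'
      apply ih
      · rw [MvPolynomial.mem_pow_idealOfVars_iff']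
        intro q hq
        rw [MvPolynomial.coeff_pderiv,
          (MvPolynomial.mem_pow_idealOfVars_iff' _ _).mp hf (q + Finsupp.single x' 1) (by
            rw [map_add, Finsupp.degree_single]
            omega), zero_mul]
      · have h1 := der_pow_mem (KaehlerDifferential.ideal A B) (delta A B (dX A B bΩ x'))
          (fun x y => map_add _ x y) (delta_mul A B _) (n + 1) _ hE
        have h2 := Psi_mem_pow A B bΩ x' (n + 1) f hf
        have h3 : EY A B bΩ (MvPolynomial.pderiv x' f) =
            delta A B (dX A B bΩ x') (EY A B bΩ f) - Psi A B bΩ x' f := by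
          unfold Psi
          ring
        rw [h3]
        exact Ideal.sub_mem _ h1 h2
    rw [MvPolynomial.mem_pow_idealOfVars_iff']
    intro q hq
    rcases Nat.lt_succ_iff_lt_or_eq.mp hq with hlt | heq
    · exact (MvPolynomial.mem_pow_idealOfVars_iff' _ _).mp hf q hlt
    · have hq0 : q ≠ 0 := by
        intro h0
        rw [h0, map_zero] at heq
        omega
      obtain ⟨x', hx'⟩ : ∃ x', q x' ≠ 0 := by
        by_contra hcon
        push Not at hcon
        exact hq0 (Finsupp.ext hcon)
      have h2 : q - Finsupp.single x' 1 + Finsupp.single x' 1 = q :=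
        tsub_add_cancel_of_le (Finsupp.single_le_iff.mpr (Nat.one_le_iff_ne_zero.mpr hx'))
      have hdeg : (q - Finsupp.single x' 1).degree < n + 1 := by
        have h3 := congrArg Finsupp.degree h2
        rw [map_add, Finsupp.degree_single] at h3
        omega
      have h1 := (MvPolynomial.mem_pow_idealOfVars_iff' _ _).mp (hpd x')
        (q - Finsupp.single x' 1) hdeg
      rw [MvPolynomial.coeff_pderiv, h2, ← Nat.cast_succ] at h1
      have hu : ∀ k : ℕ, IsUnit ((k.succ : ℕ) : B) := by
        intro k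
        have h4 : IsUnit ((k.succ : ℕ) : ℚ) :=
          isUnit_iff_ne_zero.mpr (Nat.cast_ne_zero.mpr (Nat.succ_ne_zero _))
        have h5 := h4.map (algebraMap ℚ B)
        rwa [map_natCast] at h5
      exact (IsUnit.mul_left_eq_zero (hu _)).mp h1

end Coord

section Inj

variable (A B : Type u) [CommRing A] [CommRing B] [Algebra A B]
variable {X : Type u} (bΩ : Module.Basis X B Ω[B⁄A])

/-- `B`-linear section of `I → Ω` determined by the basis -/
noncomputable def sec : Ω[B⁄A] →ₗ[B] KaehlerDifferential.ideal A B :=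
  bΩ.constr B (fun x => Y A B bΩ x)

theorem fromIdeal_sec (ω : Ω[B⁄A]) :
    KaehlerDifferential.fromIdeal A B (sec A B bΩ ω) = ω := by
  have h : ((KaehlerDifferential.fromIdeal A B).restrictScalars B) ∘ₗ sec A B bΩ =
      LinearMap.id := by
    apply bΩ.ext
    intro x
    rw [LinearMap.comp_apply, sec, Module.Basis.constr_basis, LinearMap.id_apply]
    exact fromIdeal_out A B (bΩ x)
  exact LinearMap.congr_fun h ω

/-- product map into the tensor square -/
noncomputable def kap (ι' : Type u) [Fintype ι'] : Sym[B] ι' Ω[B⁄A] →ₗ[B] B ⊗[A] B :=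
  prodMap (((KaehlerDifferential.ideal A B).subtype.restrictScalars B) ∘ₗ sec A B bΩ)

theorem kap_tprod {ι' : Type u} [Fintype ι'] (ω : ι' → Ω[B⁄A]) :
    kap A B bΩ ι' (SymmetricPower.tprod B ω) = ∏ i, (sec A B bΩ (ω i) : B ⊗[A] B) := by
  rw [kap, prodMap_tprod]
  rfl

/-- the comparison map to polynomials -/
noncomputable def kmap (ι' : Type u) [Fintype ι'] :
    Sym[B] ι' Ω[B⁄A] →ₗ[B] MvPolynomial X B :=
  prodMap (lin X ∘ₗ bΩ.repr.toLinearMap)

theorem kmap_tprod {ι' : Type u} [Fintype ι'] (ω : ι' → Ω[B⁄A]) :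
    kmap A B bΩ ι' (SymmetricPower.tprod B ω) = ∏ i, lin X (bΩ.repr (ω i)) := by
  rw [kmap, prodMap_tprod]
  rfl

theorem kmap_eq {ι' : Type u} [Fintype ι'] :
    kmap A B bΩ ι' = prodMap (lin X) ∘ₗ SymPowH1.map bΩ.repr.toLinearMap := by
  apply hom_ext
  intro ω
  rw [kmap_tprod, LinearMap.comp_apply, map_tprod, prodMap_tprod]
  rfl

theorem lin_mem (f : X →₀ B) : lin X f ∈ MvPolynomial.idealOfVars X B := by
  rw [lin, Finsupp.linearCombination_apply, Finsupp.sum]
  apply Ideal.sum_mem
  intro x _
  apply Submodule.smul_of_tower_mem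
  exact Ideal.subset_span ⟨x, rfl⟩

theorem kmap_mem {ι' : Type u} [Fintype ι'] (u : Sym[B] ι' Ω[B⁄A]) :
    kmap A B bΩ ι' u ∈ MvPolynomial.idealOfVars X B ^ Fintype.card ι' := by
  have hall : (⊤ : Submodule B (Sym[B] ι' Ω[B⁄A])) ≤ Submodule.comap (kmap A B bΩ ι')
      ((MvPolynomial.idealOfVars X B ^ Fintype.card ι').restrictScalars B) := by
    rw [← SymmetricPower.span_tprod_eq_top, Submodule.span_le]
    rintro _ ⟨ω, rfl⟩
    show kmap A B bΩ ι' (SymmetricPower.tprod B ω) ∈
      MvPolynomial.idealOfVars X B ^ Fintype.card ι'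
    rw [kmap_tprod]
    have := PP16.prod_mem_pow (MvPolynomial.idealOfVars X B) Finset.univ
      (fun i : ι' => lin X (bΩ.repr (ω i))) (fun i _ => lin_mem B _)
    simpa using this
  exact hall trivial

theorem EY_lin_repr :
    (EY A B bΩ).toLinearMap ∘ₗ lin X ∘ₗ bΩ.repr.toLinearMap =
      ((KaehlerDifferential.ideal A B).subtype.restrictScalars B) ∘ₗ sec A B bΩ := by
  apply bΩ.ext
  intro x
  show EY A B bΩ (lin X (bΩ.repr (bΩ x))) =
    ((sec A B bΩ (bΩ x) : KaehlerDifferential.ideal A B) : B ⊗[A] B)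
  rw [Module.Basis.repr_self, lin_single, EY_X, sec, Module.Basis.constr_basis]

theorem kap_eq {ι' : Type u} [Fintype ι'] :
    kap A B bΩ ι' = (EY A B bΩ).toLinearMap ∘ₗ kmap A B bΩ ι' := by
  apply hom_ext
  intro ω
  rw [kap_tprod, LinearMap.comp_apply, kmap_tprod, AlgHom.toLinearMap_apply, map_prod]
  apply Finset.prod_congr rfl
  intro i _
  exact (LinearMap.congr_fun (EY_lin_repr A B bΩ) (ω i)).symm

/-- the graded piece inside the ring of principal parts -/
noncomputable def jmap (n : ℕ) : PP16.grI A B n →ₗ[B] PP16.P n A B :=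
  Submodule.liftQ _
    ((Ideal.Quotient.mkₐ B (KaehlerDifferential.ideal A B ^ (n + 1))).toLinearMap ∘ₗ
      ((KaehlerDifferential.ideal A B ^ n).restrictScalars B).subtype)
    (by
      intro x hx
      rw [LinearMap.mem_ker, LinearMap.comp_apply]
      exact Ideal.Quotient.eq_zero_iff_mem.mpr hx)

theorem jmap_prodCls {ι' : Type u} [Fintype ι'] (y : ι' → KaehlerDifferential.ideal A B) :
    jmap A B (Fintype.card ι') (prodCls A B y) =
      Ideal.Quotient.mk (KaehlerDifferential.ideal A B ^ (Fintype.card ι' + 1))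
        (∏ i, (y i : B ⊗[A] B)) := rfl

theorem jmap_phi {ι' : Type u} [Fintype ι'] :
    jmap A B (Fintype.card ι') ∘ₗ phi A B (ι := ι') =
      (Ideal.Quotient.mkₐ B (KaehlerDifferential.ideal A B ^ (Fintype.card ι' + 1))).toLinearMap ∘ₗ
        kap A B bΩ ι' := by
  apply hom_ext
  intro ω
  rw [LinearMap.comp_apply, LinearMap.comp_apply, phi_tprod, kap_tprod]
  have h : prodCls A B (fun i => out A B (ω i)) = prodCls A B (fun i => sec A B bΩ (ω i)) := by
    apply prodCls_congr
    intro i
    rw [fromIdeal_out, fromIdeal_sec]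
  rw [h, jmap_prodCls]
  rfl

include bΩ in
theorem phi_injective [Algebra ℚ B] {ι' : Type u} [Fintype ι'] :
    Function.Injective (phi A B (ι := ι')) := by
  rw [injective_iff_map_eq_zero]
  intro u hu
  have h1 := LinearMap.congr_fun (jmap_phi A B bΩ (ι' := ι')) u
  rw [LinearMap.comp_apply, LinearMap.comp_apply, hu, map_zero] at h1
  have h1' : Ideal.Quotient.mk (KaehlerDifferential.ideal A B ^ (Fintype.card ι' + 1))
      (kap A B bΩ ι' u) = 0 := h1.symm
  have h2 : kap A B bΩ ι' u ∈ KaehlerDifferential.ideal A B ^ (Fintype.card ι' + 1) :=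
    Ideal.Quotient.eq_zero_iff_mem.mp h1'
  rw [kap_eq, LinearMap.comp_apply] at h2
  have h3 := mem_pow_succ_of_EY_mem A B bΩ _ _ (kmap_mem A B bΩ u) h2
  have hlam : lam (ι := ι') X (kmap A B bΩ ι' u) = 0 := lam_eq_zero_of_mem X _ h3
  have h4 : SymPowH1.map bΩ.repr.toLinearMap u = 0 := by
    have h5 := LinearMap.congr_fun (lam_prodMap_lin (R := B) (ι := ι') X)
      (SymPowH1.map bΩ.repr.toLinearMap u)
    rw [LinearMap.comp_apply, LinearMap.id_apply] at h5
    rw [← h5]
    rw [kmap_eq, LinearMap.comp_apply] at hlam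
    exact hlam
  have h6 : (SymPowH1.map bΩ.repr.symm.toLinearMap ∘ₗ SymPowH1.map bΩ.repr.toLinearMap :
      Sym[B] ι' Ω[B⁄A] →ₗ[B] Sym[B] ι' Ω[B⁄A]) = LinearMap.id := by
    apply hom_ext
    intro ω
    rw [LinearMap.comp_apply, map_tprod, map_tprod, LinearMap.id_apply]
    congr 1
    funext i
    exact bΩ.repr.symm_apply_apply (ω i)
  have h7 := LinearMap.congr_fun h6 u
  rw [LinearMap.comp_apply, h4, map_zero, LinearMap.id_apply] at h7
  exact h7.symm

theorem main [Algebra ℚ B] (hΩ : Module.Free B Ω[B⁄A]) : PP16.IsDiffSmooth A B := by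
  haveI := hΩ
  refine ⟨inferInstance, ?_⟩
  intro ι' _
  exact ⟨phi A B, fun b => phi_tprod_D A B b,
    ⟨phi_injective A B (Module.Free.chooseBasis B Ω[B⁄A]), phi_surjective A B⟩⟩

end Inj

end Groth.Agent.Lib.PP16Char0H1
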