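import Mathlib

/-!
# Faithfully flat descent of finite projective modules (helper6)
-/

namespace Groth.Agent.Lib.ProjDescent

open scoped TensorProduct

theorem finite_of_faithfullyFlat (R : Type*) [CommRing R] (S : Type*) [CommRing S] [Algebra R S]
    [Module.FaithfullyFlat R S] (M : Type*) [AddCommGroup M] [Module R M]
    [Module.Finite S (S ⊗[R] M)] : Module.Finite R M :=
  Module.Finite.of_finite_tensorProduct_of_faithfullyFlat S

theorem projective_of_faithfullyFlat (R : Type*) [CommRing R] (S : Type*) [CommRing S]
    [Algebra R S] [Module.FaithfullyFlat R S] (M : Type*) [AddCommGroup M] [Module R M]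
    [Module.Finite S (S ⊗[R] M)] [Module.Projective S (S ⊗[R] M)] : Module.Projective R M := by
  haveI := finite_of_faithfullyFlat R S M
  haveI : Module.Flat R M := Module.Flat.of_flat_tensorProduct R M S
  obtain ⟨n, g, hg⟩ := Module.Finite.exists_fin' R M
  -- the kernel is finitely generated
  haveI : Module.FinitePresentation S (S ⊗[R] M) := Module.finitePresentation_of_projective S _
  have hsurj : Function.Surjective (g.baseChange S) := by
    rw [LinearMap.baseChange_eq_ltensor]
    exact LinearMap.lTensor_surjective S hg
  have hfgker : (LinearMap.ker (g.baseChange S)).FG :=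
    Module.FinitePresentation.fg_ker (g.baseChange S) hsurj
  have hinj : Function.Injective ((LinearMap.ker g).subtype.baseChange S) := by
    rw [LinearMap.baseChange_eq_ltensor]
    exact Module.Flat.lTensor_preserves_injective_linearMap _ (Submodule.subtype_injective _)
  have hex : Function.Exact ((LinearMap.ker g).subtype.lTensor S) (g.lTensor S) :=
    lTensor_exact S (LinearMap.exact_subtype_ker_map g) hg
  have hrange : LinearMap.range ((LinearMap.ker g).subtype.baseChange S) =
      LinearMap.ker (g.baseChange S) := by
    ext x
    rw [LinearMap.mem_range, LinearMap.mem_ker]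
    have := hex x
    rw [LinearMap.baseChange_eq_ltensor, LinearMap.baseChange_eq_ltensor]
    constructor
    · rintro ⟨y, hy⟩
      exact this.2 ⟨y, hy⟩
    · intro hx
      exact this.1 hx
  haveI : Module.Finite S (S ⊗[R] (LinearMap.ker g)) := by
    have e := LinearEquiv.ofInjective ((LinearMap.ker g).subtype.baseChange S) hinj
    rw [hrange] at e
    haveI : Module.Finite S (LinearMap.ker (g.baseChange S)) :=
      Module.Finite.iff_fg.2 hfgker
    exact Module.Finite.equiv e.symm
  haveI : Module.Finite R (LinearMap.ker g) :=
    Module.Finite.of_finite_tensorProduct_of_faithfullyFlat S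
  have hK : (LinearMap.ker g).FG := Module.Finite.iff_fg.1 inferInstance
  haveI : Module.FinitePresentation R M := Module.finitePresentation_of_surjective g hg hK
  exact Module.Flat.projective_of_finitePresentation

end Groth.Agent.Lib.ProjDescent
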