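import Mathlib
import Groth.Prelude.Def_PP16
import Groth.Agent.Lib.PP16Char0_helper1
import Groth.Agent.Lib.PP16e_lead
import Groth.Agent.Lib.ProjDescent_helper6

/-! Differential smoothness and base change (helper1). -/

set_option autoImplicit false
set_option maxHeartbeats 1000000

universe u v

open TensorProduct

namespace Groth.Agent.Lib.PP16BCH1

open Groth.Agent.Lib.SymPowH1 Groth.Agent.Lib.PP16SmoothH1

attribute [local instance] PP16.mapAlgebra PP16.isScalarTower_mapAlgebra

section SpanTprod

variable {R ι : Type u} [CommRing R] {M : Type v} [AddCommMonoid M] [Module R M]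

/-- symmetric products of generators span the symmetric power -/
theorem span_tprod_of_span [Fintype ι] (G : Set M) (hG : Submodule.span R G = ⊤) :
    Submodule.span R {t : Sym[R] ι M | ∃ g : ι → M, (∀ i, g i ∈ G) ∧
      t = SymmetricPower.tprod R g} = ⊤ := by
  classical
  obtain ⟨N, hN⟩ : ∃ N : Submodule R (Sym[R] ι M), N = Submodule.span R
      {t : Sym[R] ι M | ∃ g : ι → M, (∀ i, g i ∈ G) ∧ t = SymmetricPower.tprod R g} := ⟨_, rfl⟩
  rw [← hN]
  have key : ∀ s : Finset ι, ∀ m : ι → M, (∀ i, i ∉ s → m i ∈ G) →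
      SymmetricPower.tprod R m ∈ N := by
    intro s
    induction s using Finset.induction_on with
    | empty =>
      intro m hm
      rw [hN]
      exact Submodule.subset_span ⟨m, fun i => hm i (Finset.notMem_empty i), rfl⟩
    | insert a s ha ih =>
      intro m hm
      have hsub : (⊤ : Submodule R M) ≤ Submodule.comap
          ((SymmetricPower.tprod R (ι := ι) (M := M)).toLinearMap m a) N := by
        rw [← hG, Submodule.span_le]
        intro g hg
        show (SymmetricPower.tprod R (ι := ι) (M := M)).toLinearMap m a g ∈ N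
        rw [MultilinearMap.toLinearMap_apply]
        apply ih
        intro i hi
        by_cases hia : i = a
        · subst hia
          rw [Function.update_self]
          exact hg
        · rw [Function.update_of_ne hia]
          exact hm i (fun h => (Finset.mem_insert.mp h).elim hia hi)
      have h1 := hsub (Submodule.mem_top : m a ∈ (⊤ : Submodule R M))
      rw [Submodule.mem_comap, MultilinearMap.toLinearMap_apply, Function.update_eq_self] at h1
      exact h1
  rw [eq_top_iff, ← SymmetricPower.span_tprod_eq_top, Submodule.span_le]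
  rintro _ ⟨m, rfl⟩
  exact key Finset.univ m (fun i hi => absurd (Finset.mem_univ i) hi)

end SpanTprod

section SymProj

variable {R ι : Type u} [CommRing R] [Fintype ι] {M : Type u} [AddCommGroup M] [Module R M]

/-- symmetric powers of projective modules are projective -/
theorem sym_projective [Module.Projective R M] : Module.Projective R (Sym[R] ι M) := by
  obtain ⟨s, hs⟩ := Module.projective_def'.mp (inferInstance : Module.Projective R M)
  have hpi : (SymPowH1.map (Finsupp.linearCombination R id) ∘ₗ lam (ι := ι) M) ∘ₗ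
      (prodMap (lin M) ∘ₗ SymPowH1.map s) =
      (LinearMap.id : Sym[R] ι M →ₗ[R] Sym[R] ι M) := by
    apply hom_ext
    intro m
    show SymPowH1.map (Finsupp.linearCombination R id) (lam (ι := ι) M (prodMap (lin M)
      (SymPowH1.map s (SymmetricPower.tprod R m)))) = _
    have h1 := LinearMap.congr_fun (lam_prodMap_lin (R := R) (ι := ι) M)
      (SymPowH1.map s (SymmetricPower.tprod R m))
    rw [LinearMap.comp_apply, LinearMap.id_apply] at h1
    rw [h1, map_tprod, map_tprod, LinearMap.id_apply]
    congr 1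
    funext j
    exact LinearMap.congr_fun hs (m j)
  exact Module.Projective.of_split _ _ hpi

end SymProj

section Retract

variable (A B : Type u) [CommRing A] [CommRing B] [Algebra A B]

theorem span_tprod_D (ι' : Type u) [Fintype ι'] :
    Submodule.span B {t : Sym[B] ι' Ω[B⁄A] | ∃ g : ι' → Ω[B⁄A],
      (∀ i, g i ∈ Set.range (KaehlerDifferential.D A B)) ∧
        t = SymmetricPower.tprod B g} = ⊤ :=
  span_tprod_of_span _ (KaehlerDifferential.span_range_derivation A B)

theorem phi_eq_of {ι' : Type u} [Fintype ι']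
    (φ : Sym[B] ι' Ω[B⁄A] →ₗ[B] PP16.grI A B (Fintype.card ι'))
    (hφ : ∀ b : ι' → B, φ (SymmetricPower.tprod B (fun i => KaehlerDifferential.D A B (b i))) =
      PP16.zetaProd A B b) : φ = phi A B := by
  apply LinearMap.ext_on (span_tprod_D A B ι')
  rintro _ ⟨g, hg, rfl⟩
  choose b hb using hg
  have h : g = fun i => KaehlerDifferential.D A B (b i) := funext (fun i => (hb i).symm)
  rw [h, hφ, phi_tprod_D]

theorem phi_bijective (hB : PP16.IsDiffSmooth A B) {ι' : Type u} [Fintype ι'] :
    Function.Bijective (phi A B (ι := ι')) := by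
  obtain ⟨φ, hφ, hbij⟩ := hB.2 ι'
  rw [← phi_eq_of A B φ hφ]
  exact hbij

theorem phi_injective_card_zero' {ι' : Type u} [Fintype ι'] (h0 : Fintype.card ι' = 0) :
    Function.Injective (phi A B (ι := ι')) := by
  haveI : IsEmpty ι' := Fintype.card_eq_zero_iff.mp h0
  rw [injective_iff_map_eq_zero]
  intro u hu
  have hspan : u ∈ Submodule.span B
      {SymmetricPower.tprod B (fun i : ι' => (isEmptyElim i : Ω[B⁄A]))} := by
    have : Set.range (SymmetricPower.tprod B (ι := ι') (M := Ω[B⁄A])) =
        {SymmetricPower.tprod B (fun i : ι' => (isEmptyElim i : Ω[B⁄A]))} := by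
      ext t
      constructor
      · rintro ⟨m, rfl⟩
        rw [Set.mem_singleton_iff]
        congr 1
        funext i
        exact isEmptyElim i
      · rintro rfl
        exact ⟨_, rfl⟩
    rw [← this, SymmetricPower.span_tprod_eq_top]
    trivial
  obtain ⟨c, rfl⟩ := Submodule.mem_span_singleton.mp hspan
  rw [map_smul, phi_tprod, prodCls, ← Submodule.Quotient.mk_smul, Submodule.Quotient.mk_eq_zero,
    Submodule.mem_comap] at hu
  have h1 : c • (∏ i : ι', ((out A B (isEmptyElim i : Ω[B⁄A]) : KaehlerDifferential.ideal A B) :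
      B ⊗[A] B)) ∈ KaehlerDifferential.ideal A B ^ (Fintype.card ι' + 1) := hu
  rw [Finset.univ_eq_empty, Finset.prod_empty, h0, zero_add, pow_one, RingHom.mem_ker] at h1
  have h2 : (Algebra.TensorProduct.lmul' A) (c • (1 : B ⊗[A] B)) = c := by
    rw [Algebra.TensorProduct.one_def, TensorProduct.smul_tmul',
      Algebra.TensorProduct.lmul'_apply_tmul, smul_eq_mul, mul_one, mul_one]
  rw [h2] at h1
  rw [h1, zero_smul]

theorem gr_projective (hB : PP16.IsDiffSmooth A B) (n : ℕ) :
    Module.Projective B (PP16.grI A B n) := by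
  obtain ⟨ι', _, hc⟩ : ∃ (ι' : Type u) (_ : Fintype ι'), Fintype.card ι' = n :=
    ⟨ULift.{u} (Fin n), inferInstance, by simp⟩
  subst hc
  haveI := hB.1
  haveI : Module.Projective B (Sym[B] ι' Ω[B⁄A]) := sym_projective
  exact Module.Projective.of_equiv (LinearEquiv.ofBijective (phi A B) (phi_bijective A B hB))

theorem jmap_injective (n : ℕ) : Function.Injective (PP16Char0H1.jmap A B n) := by
  rw [injective_iff_map_eq_zero]
  intro y hy
  obtain ⟨⟨x, hx⟩, rfl⟩ := Submodule.Quotient.mk_surjective _ y
  have h1 : Ideal.Quotient.mk (KaehlerDifferential.ideal A B ^ (n + 1)) x = 0 := hy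
  rw [Ideal.Quotient.eq_zero_iff_mem] at h1
  exact (Submodule.Quotient.mk_eq_zero _).mpr h1

theorem piP_le (n : ℕ) : KaehlerDifferential.ideal A B ^ (n + 1) ≤
    KaehlerDifferential.ideal A B ^ (n - 1 + 1) :=
  Ideal.pow_le_pow_right (by omega)

/-- truncation of principal parts -/
noncomputable def piP (n : ℕ) : PP16.P n A B →ₐ[B] PP16.P (n - 1) A B :=
  Ideal.Quotient.factorₐ B (piP_le A B n)

theorem piP_mk (n : ℕ) (x : B ⊗[A] B) :
    piP A B n (Ideal.Quotient.mk _ x) = Ideal.Quotient.mk _ x := rfl

theorem piP_surjective (n : ℕ) : Function.Surjective (piP A B n) :=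
  Ideal.Quotient.factor_surjective (piP_le A B n)

theorem piP_jmap (n : ℕ) (hn : 1 ≤ n) (y : PP16.grI A B n) :
    piP A B n (PP16Char0H1.jmap A B n y) = 0 := by
  obtain ⟨⟨c, hc⟩, rfl⟩ := Submodule.Quotient.mk_surjective _ y
  show piP A B n (Ideal.Quotient.mk _ c) = 0
  rw [piP_mk, Ideal.Quotient.eq_zero_iff_mem]
  have hn' : n - 1 + 1 = n := by omega
  rw [hn']
  exact hc

theorem exists_retraction (n : ℕ) (hn : 1 ≤ n) [Module.Projective B (PP16.P (n - 1) A B)] :
    ∃ (r : PP16.P n A B →ₗ[B] PP16.grI A B n) (s : PP16.P (n - 1) A B →ₗ[B] PP16.P n A B),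
      (∀ y, r (PP16Char0H1.jmap A B n y) = y) ∧
      (∀ x, PP16Char0H1.jmap A B n (r x) + s (piP A B n x) = x) := by
  obtain ⟨s, hs⟩ := Module.projective_lifting_property (piP A B n).toLinearMap
    (LinearMap.id : PP16.P (n - 1) A B →ₗ[B] PP16.P (n - 1) A B) (piP_surjective A B n)
  have hs' : ∀ p, piP A B n (s p) = p := fun p => LinearMap.congr_fun hs p
  obtain ⟨q, hq⟩ : ∃ q : PP16.P n A B →ₗ[B] PP16.P n A B, ∀ x, q x = x - s (piP A B n x) :=
    ⟨LinearMap.id - s ∘ₗ (piP A B n).toLinearMap, fun x => rfl⟩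
  have hker : ∀ x : PP16.P n A B, q x ∈ LinearMap.range (PP16Char0H1.jmap A B n) := by
    intro x
    have h0 : piP A B n (x - s (piP A B n x)) = 0 := by
      rw [map_sub, sub_eq_zero, hs']
    obtain ⟨c, hc⟩ := Ideal.Quotient.mk_surjective (x - s (piP A B n x))
    rw [← hc, piP_mk, Ideal.Quotient.eq_zero_iff_mem] at h0
    have hn' : n - 1 + 1 = n := by omega
    rw [hn'] at h0
    rw [hq]
    exact ⟨Submodule.Quotient.mk ⟨c, h0⟩, hc⟩
  refine ⟨(LinearEquiv.ofInjective (PP16Char0H1.jmap A B n) (jmap_injective A B n)).symm.toLinearMap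
    ∘ₗ LinearMap.codRestrict _ q hker, s, ?_, ?_⟩
  · intro y
    apply jmap_injective A B n
    show PP16Char0H1.jmap A B n ((LinearEquiv.ofInjective (PP16Char0H1.jmap A B n)
      (jmap_injective A B n)).symm (LinearMap.codRestrict _ q hker
        (PP16Char0H1.jmap A B n y))) = _
    rw [LinearEquiv.ofInjective_symm_apply]
    show q (PP16Char0H1.jmap A B n y) = _
    rw [hq, piP_jmap A B n hn, map_zero, sub_zero]
  · intro x
    show PP16Char0H1.jmap A B n ((LinearEquiv.ofInjective (PP16Char0H1.jmap A B n)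
      (jmap_injective A B n)).symm (LinearMap.codRestrict _ q hker x)) + s (piP A B n x) = x
    rw [LinearEquiv.ofInjective_symm_apply]
    show q x + s (piP A B n x) = x
    rw [hq, sub_add_cancel]

theorem P_zero_projective : Module.Projective B (PP16.P 0 A B) := by
  have hinj : Function.Injective (Algebra.linearMap B (PP16.P 0 A B)) := by
    rw [injective_iff_map_eq_zero]
    intro b hb
    have h1 : Ideal.Quotient.mk (KaehlerDifferential.ideal A B ^ (0 + 1)) (b ⊗ₜ[A] (1 : B)) = 0 := hb
    rw [Ideal.Quotient.eq_zero_iff_mem, zero_add, pow_one, RingHom.mem_ker,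
      Algebra.TensorProduct.lmul'_apply_tmul, mul_one] at h1
    exact h1
  have hsurj : Function.Surjective (Algebra.linearMap B (PP16.P 0 A B)) := by
    intro x
    obtain ⟨c, rfl⟩ := Ideal.Quotient.mk_surjective x
    refine ⟨Algebra.TensorProduct.lmul' A c, ?_⟩
    show Ideal.Quotient.mk (KaehlerDifferential.ideal A B ^ (0 + 1))
      ((Algebra.TensorProduct.lmul' A c) ⊗ₜ[A] (1 : B)) = Ideal.Quotient.mk _ c
    rw [Ideal.Quotient.eq, zero_add, pow_one, RingHom.mem_ker, map_sub,
      Algebra.TensorProduct.lmul'_apply_tmul, mul_one, sub_self]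
  exact Module.Projective.of_equiv (LinearEquiv.ofBijective _ ⟨hinj, hsurj⟩)

theorem P_projective (hB : PP16.IsDiffSmooth A B) : ∀ k : ℕ, Module.Projective B (PP16.P k A B) := by
  intro k
  induction k with
  | zero => exact P_zero_projective A B
  | succ k ih =>
    haveI : Module.Projective B (PP16.P (k + 1 - 1) A B) := ih
    haveI := gr_projective A B hB (k + 1)
    obtain ⟨r, s, -, hrs⟩ := exists_retraction A B (k + 1) (by omega)
    refine Module.Projective.of_split
      (M := PP16.grI A B (k + 1) × PP16.P (k + 1 - 1) A B)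
      (r.prod (piP A B (k + 1)).toLinearMap) ((PP16Char0H1.jmap A B (k + 1)).coprod s) ?_
    apply LinearMap.ext
    intro x
    rw [LinearMap.comp_apply, LinearMap.prod_apply, LinearMap.coprod_apply, LinearMap.id_apply]
    exact hrs x

end Retract

section BC

variable (A B A' B' : Type u) [CommRing A] [CommRing B] [Algebra A B]
  [CommRing A'] [CommRing B'] [Algebra A' B'] [Algebra A A'] [Algebra B B'] [Algebra A B']
  [IsScalarTower A A' B'] [IsScalarTower A B B']
variable (ι' : Type u) [Fintype ι']

/-- restriction of scalars on the symmetric power -/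
@[instance_reducible]
noncomputable def symModule : Module B (Sym[B'] ι' Ω[B'⁄A']) :=
  Module.compHom _ (algebraMap B B')

attribute [local instance] symModule

theorem symTower : IsScalarTower B B' (Sym[B'] ι' Ω[B'⁄A']) :=
  IsScalarTower.of_algebraMap_smul (fun _ _ => rfl)

attribute [local instance] symTower

/-- the multilinear map underlying the comparison of symmetric powers -/
noncomputable def symMul :
    MultilinearMap B (fun _ : ι' => Ω[B⁄A]) (Sym[B'] ι' Ω[B'⁄A']) :=
  ((SymmetricPower.tprod B' (ι := ι') (M := Ω[B'⁄A'])).restrictScalars B).compLinearMap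
    (fun _ => KaehlerDifferential.map A A' B B')

theorem symMul_apply (ω : ι' → Ω[B⁄A]) :
    symMul A B A' B' ι' ω =
      SymmetricPower.tprod B' (fun i => KaehlerDifferential.map A A' B B' (ω i)) := rfl

/-- the semilinear comparison map of symmetric powers -/
noncomputable def symB : Sym[B] ι' Ω[B⁄A] →ₗ[B] Sym[B'] ι' Ω[B'⁄A'] :=
  SymPowH1.lift (symMul A B A' B' ι')
    (fun e ω => show symMul A B A' B' ι' (fun i => ω (e i)) = symMul A B A' B' ι' ω from
      SymmetricPower.tprod_equiv e (fun i => KaehlerDifferential.map A A' B B' (ω i)))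

theorem symB_tprod (ω : ι' → Ω[B⁄A]) :
    symB A B A' B' ι' (SymmetricPower.tprod B ω) =
      SymmetricPower.tprod B' (fun i => KaehlerDifferential.map A A' B B' (ω i)) := by
  rw [symB, lift_tprod, symMul_apply]

theorem tensorMap_zeta (b : B) :
    PP16.tensorMap A B A' B' (zeta A B b : B ⊗[A] B) =
      (zeta A' B' (algebraMap B B' b) : B' ⊗[A'] B') := by
  show PP16.tensorMap A B A' B' ((1 : B) ⊗ₜ[A] b - b ⊗ₜ[A] (1 : B)) =
    (1 : B') ⊗ₜ[A'] algebraMap B B' b - algebraMap B B' b ⊗ₜ[A'] (1 : B')
  rw [map_sub, PP16.tensorMap_tmul, PP16.tensorMap_tmul, map_one]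

theorem map_smul_P (n : ℕ) (c : B) (p : PP16.P n A B) :
    PP16.map n A B A' B' (c • p) = algebraMap B B' c • PP16.map n A B A' B' p := by
  rw [Algebra.smul_def, map_mul, PP16.map_algebraMap, Algebra.smul_def]

theorem compat (u : Sym[B] ι' Ω[B⁄A]) :
    PP16Char0H1.jmap A' B' (Fintype.card ι') (phi A' B' (symB A B A' B' ι' u)) =
      PP16.map (Fintype.card ι') A B A' B'
        (PP16Char0H1.jmap A B (Fintype.card ι') (phi A B u)) := by
  have hu : u ∈ (⊤ : Submodule B (Sym[B] ι' Ω[B⁄A])) := trivial
  rw [← span_tprod_D A B ι'] at hu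
  induction hu using Submodule.span_induction with
  | mem t ht =>
    obtain ⟨g, hg, rfl⟩ := ht
    choose b hb using hg
    have h : g = fun i => KaehlerDifferential.D A B (b i) := funext (fun i => (hb i).symm)
    have h2 : (fun i => KaehlerDifferential.map A A' B B' (KaehlerDifferential.D A B (b i))) =
        fun i => KaehlerDifferential.D A' B' (algebraMap B B' (b i)) :=
      funext (fun i => KaehlerDifferential.map_D A A' B B' (b i))
    rw [h, symB_tprod, h2, phi_tprod_D, phi_tprod_D, zetaProd_eq, zetaProd_eq,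
      PP16Char0H1.jmap_prodCls, PP16Char0H1.jmap_prodCls, PP16.map_mk,
      map_prod (PP16.tensorMap A B A' B')]
    congr 1
    apply Finset.prod_congr rfl
    intro i _
    exact (tensorMap_zeta A B A' B' (b i)).symm
  | zero => simp only [map_zero]
  | add x y _ _ hx hy => simp only [map_add, hx, hy]
  | smul c x _ hx =>
    rw [(symB A B A' B' ι').map_smul c x, (phi A B).map_smul,
      (PP16Char0H1.jmap A B _).map_smul, map_smul_P, ← hx]
    show PP16Char0H1.jmap A' B' _ (phi A' B' (algebraMap B B' c • symB A B A' B' ι' x)) = _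
    rw [(phi A' B').map_smul, (PP16Char0H1.jmap A' B' _).map_smul]

theorem span_D_algebraMap [Algebra.IsPushout A B A' B'] :
    Submodule.span B' (Set.range fun b : B => KaehlerDifferential.D A' B' (algebraMap B B' b)) =
      ⊤ := by
  have h : IsBaseChange A' (IsScalarTower.toAlgHom A B B').toLinearMap :=
    (Algebra.IsPushout.symm (inferInstance : Algebra.IsPushout A B A' B')).out
  rw [eq_top_iff, ← KaehlerDifferential.span_range_derivation A' B', Submodule.span_le]
  rintro _ ⟨x, rfl⟩
  refine h.inductionOn x (fun x => KaehlerDifferential.D A' B' x ∈ Submodule.span B'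
    (Set.range fun b : B => KaehlerDifferential.D A' B' (algebraMap B B' b))) ?_ ?_ ?_ ?_
  · rw [map_zero]
    exact zero_mem _
  · intro b
    exact Submodule.subset_span ⟨b, rfl⟩
  · intro a' y hy
    rw [Derivation.map_smul]
    exact Submodule.smul_of_tower_mem _ a' hy
  · intro y₁ y₂ h₁ h₂
    rw [map_add]
    exact add_mem h₁ h₂

theorem omega_projective [Algebra.IsPushout A B A' B'] (hB : PP16.IsDiffSmooth A B) :
    Module.Projective B' Ω[B'⁄A'] := by
  haveI := hB.1
  haveI : Algebra.IsPushout A A' B B' := Algebra.IsPushout.symm inferInstance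
  have h1 : Module.Projective B' (B' ⊗[B] Ω[B⁄A]) := inferInstance
  exact Module.Projective.of_equiv' (M := B' ⊗[B] Ω[B⁄A])
    (KaehlerDifferential.tensorKaehlerEquiv A A' B B')

theorem phi_injective_bc [Algebra.IsPushout A B A' B'] (hB : PP16.IsDiffSmooth A B) :
    Function.Injective (phi A' B' (ι := ι')) := by
  rcases Nat.eq_zero_or_pos (Fintype.card ι') with h0 | hpos
  · exact phi_injective_card_zero' A' B' h0
  haveI := P_projective A B hB (Fintype.card ι' - 1)
  obtain ⟨r, s, hr, -⟩ := exists_retraction A B (Fintype.card ι') hpos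
  have hbij := phi_bijective A B hB (ι' := ι')
  obtain ⟨φinv, hφinv⟩ : ∃ φinv : PP16.grI A B (Fintype.card ι') →ₗ[B] Sym[B] ι' Ω[B⁄A],
      ∀ u, φinv (phi A B u) = u :=
    ⟨(LinearEquiv.ofBijective (phi A B) hbij).symm.toLinearMap,
      fun u => (LinearEquiv.ofBijective (phi A B) hbij).symm_apply_apply u⟩
  have hbc : IsBaseChange B' (IsScalarTower.toAlgHom B (PP16.P (Fintype.card ι') A B)
      (PP16.P (Fintype.card ι') A' B')).toLinearMap :=
    (Algebra.IsPushout.symm
      (Groth.Agent.Lib.PP16L.BC.isPushout_result (Fintype.card ι') A B A' B')).out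
  obtain ⟨Θ, hΘ⟩ : ∃ Θ : PP16.P (Fintype.card ι') A' B' →ₗ[B'] Sym[B'] ι' Ω[B'⁄A'],
      ∀ p, Θ (PP16.map (Fintype.card ι') A B A' B' p) = symB A B A' B' ι' (φinv (r p)) :=
    ⟨hbc.lift (symB A B A' B' ι' ∘ₗ φinv ∘ₗ r), fun p => hbc.lift_eq _ p⟩
  have hid : Θ ∘ₗ PP16Char0H1.jmap A' B' (Fintype.card ι') ∘ₗ phi A' B' (ι := ι') =
      LinearMap.id := by
    apply LinearMap.ext_on (span_tprod_of_span _ (span_D_algebraMap A B A' B'))
    rintro _ ⟨g, hg, rfl⟩
    choose b hb using hg
    have h : g = fun i => KaehlerDifferential.D A' B' (algebraMap B B' (b i)) :=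
      funext (fun i => (hb i).symm)
    have h2 : SymmetricPower.tprod B' g = symB A B A' B' ι'
        (SymmetricPower.tprod B (fun i => KaehlerDifferential.D A B (b i))) := by
      rw [symB_tprod, h]
      congr 1
      funext i
      exact (KaehlerDifferential.map_D A A' B B' (b i)).symm
    rw [LinearMap.comp_apply, LinearMap.comp_apply, LinearMap.id_apply, h2, compat, hΘ, hr,
      hφinv]
  rw [injective_iff_map_eq_zero]
  intro u' hu'
  have h3 := LinearMap.congr_fun hid u'
  rw [LinearMap.comp_apply, LinearMap.comp_apply, hu', map_zero, map_zero,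
    LinearMap.id_apply] at h3
  exact h3.symm

theorem main_bc [Algebra.IsPushout A B A' B'] (hB : PP16.IsDiffSmooth A B) :
    PP16.IsDiffSmooth A' B' := by
  refine ⟨omega_projective A B A' B' hB, ?_⟩
  intro κ _
  exact ⟨phi A' B', fun b => phi_tprod_D A' B' b,
    ⟨phi_injective_bc A B A' B' κ hB, phi_surjective A' B'⟩⟩

section Desc

omit [Algebra A B'] [IsScalarTower A A' B'] [IsScalarTower A B B'] [Algebra A A'] [Algebra A' B']
  [Algebra A B] [CommRing A] [CommRing A'] in
theorem map_lin (X : Type u) (f : X →₀ B) :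
    MvPolynomial.map (algebraMap B B') (lin X f) =
      lin X (Finsupp.mapRange.linearMap (Algebra.linearMap B B') f) := by
  induction f using Finsupp.induction_linear with
  | zero => rw [map_zero, map_zero, map_zero, map_zero]
  | add f g hf hg => rw [map_add, map_add, map_add, map_add, hf, hg]
  | single x c =>
    have e1 : lin (R := B) X (Finsupp.single x c) = c • MvPolynomial.X x := by
      rw [lin, Finsupp.linearCombination_single]
    have e2 : lin (R := B') X (Finsupp.single x (algebraMap B B' c)) =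
        algebraMap B B' c • MvPolynomial.X x := by
      rw [lin, Finsupp.linearCombination_single]
    rw [e1, Finsupp.mapRange.linearMap_apply, Finsupp.mapRange_single]
    show _ = lin (R := B') X (Finsupp.single x (algebraMap B B' c))
    rw [e2, MvPolynomial.smul_eq_C_mul, map_mul, MvPolynomial.map_C, MvPolynomial.map_X,
      MvPolynomial.smul_eq_C_mul]

omit [Algebra A B'] [IsScalarTower A A' B'] [IsScalarTower A B B'] [Algebra A A'] [Algebra A' B']
  [Algebra A B] [CommRing A] [CommRing A'] in
theorem map_smul_poly (X : Type u) (c : B) (p : MvPolynomial X B) :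
    MvPolynomial.map (algebraMap B B') (c • p) =
      algebraMap B B' c • MvPolynomial.map (algebraMap B B') p := by
  rw [MvPolynomial.smul_eq_C_mul, map_mul, MvPolynomial.map_C, MvPolynomial.smul_eq_C_mul]

theorem prodMap_lin_injective {R κ : Type u} [CommRing R] [Fintype κ] {M : Type u}
    [AddCommGroup M] [Module R M] (s : M →ₗ[R] (M →₀ R))
    (hs : Finsupp.linearCombination R id ∘ₗ s = LinearMap.id) :
    Function.Injective (prodMap (lin M ∘ₗ s) : Sym[R] κ M →ₗ[R] MvPolynomial M R) := by
  have hpi : (SymPowH1.map (Finsupp.linearCombination R id) ∘ₗ lam (ι := κ) M) ∘ₗ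
      (prodMap (lin M ∘ₗ s)) = (LinearMap.id : Sym[R] κ M →ₗ[R] Sym[R] κ M) := by
    apply hom_ext
    intro m
    rw [LinearMap.comp_apply, prodMap_tprod, LinearMap.id_apply]
    have h0 : ∏ i, (lin M ∘ₗ s) (m i) =
        prodMap (lin M) (SymmetricPower.tprod R (fun i => s (m i))) := by
      rw [prodMap_tprod]
      rfl
    rw [h0, LinearMap.comp_apply]
    have h1 := LinearMap.congr_fun (lam_prodMap_lin (R := R) (ι := κ) M)
      (SymmetricPower.tprod R (fun i => s (m i)))
    rw [LinearMap.comp_apply, LinearMap.id_apply] at h1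
    rw [h1, map_tprod]
    congr 1
    funext j
    exact LinearMap.congr_fun hs (m j)
  intro u v huv
  have hu := LinearMap.congr_fun hpi u
  have hv := LinearMap.congr_fun hpi v
  rw [LinearMap.comp_apply, LinearMap.id_apply] at hu hv
  rw [← hu, ← hv, huv]

theorem key_desc (s : Ω[B⁄A] →ₗ[B] (Ω[B⁄A] →₀ B)) (s' : Ω[B'⁄A'] →ₗ[B'] (Ω[B⁄A] →₀ B'))
    (hs' : ∀ a : B, s' (KaehlerDifferential.D A' B' (algebraMap B B' a)) =
      Finsupp.mapRange.linearMap (Algebra.linearMap B B') (s (KaehlerDifferential.D A B a)))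
    (u : Sym[B] ι' Ω[B⁄A]) :
    prodMap (lin Ω[B⁄A] ∘ₗ s') (symB A B A' B' ι' u) =
      MvPolynomial.map (algebraMap B B') (prodMap (lin Ω[B⁄A] ∘ₗ s) u) := by
  have hu : u ∈ (⊤ : Submodule B (Sym[B] ι' Ω[B⁄A])) := trivial
  rw [← span_tprod_D A B ι'] at hu
  induction hu using Submodule.span_induction with
  | mem t ht =>
    obtain ⟨g, hg, rfl⟩ := ht
    choose b hb using hg
    have h : g = fun i => KaehlerDifferential.D A B (b i) := funext (fun i => (hb i).symm)
    have h2 : (fun i => KaehlerDifferential.map A A' B B' (KaehlerDifferential.D A B (b i))) =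
        fun i => KaehlerDifferential.D A' B' (algebraMap B B' (b i)) :=
      funext (fun i => KaehlerDifferential.map_D A A' B B' (b i))
    rw [h, symB_tprod, h2, prodMap_tprod, prodMap_tprod, map_prod]
    apply Finset.prod_congr rfl
    intro i _
    rw [LinearMap.comp_apply, LinearMap.comp_apply, hs', map_lin]
  | zero => simp only [map_zero]
  | add x y _ _ hx hy => simp only [map_add, hx, hy]
  | smul c x _ hx =>
    rw [(symB A B A' B' ι').map_smul c x, (prodMap (lin Ω[B⁄A] ∘ₗ s)).map_smul, map_smul_poly,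
      ← hx]
    show prodMap (lin Ω[B⁄A] ∘ₗ s') (algebraMap B B' c • symB A B A' B' ι' x) = _
    rw [(prodMap (lin Ω[B⁄A] ∘ₗ s')).map_smul]

theorem phi_injective_desc [Algebra.IsPushout A B A' B'] [Module.Projective B Ω[B⁄A]]
    (hβ : Function.Injective (algebraMap B B')) (h : PP16.IsDiffSmooth A' B') :
    Function.Injective (phi A B (ι := ι')) := by
  rw [injective_iff_map_eq_zero]
  intro u hu
  have h1 := compat A B A' B' ι' u
  rw [hu, map_zero, map_zero] at h1
  have h2 : phi A' B' (symB A B A' B' ι' u) = 0 :=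
    jmap_injective A' B' _ (by rw [h1, map_zero])
  have h3 : symB A B A' B' ι' u = 0 := (phi_bijective A' B' h).1 (by rw [h2, map_zero])
  obtain ⟨s, hs⟩ := Module.projective_def'.mp (inferInstance : Module.Projective B Ω[B⁄A])
  haveI : Algebra.IsPushout A A' B B' := Algebra.IsPushout.symm inferInstance
  obtain ⟨s', hs'⟩ : ∃ s' : Ω[B'⁄A'] →ₗ[B'] (Ω[B⁄A] →₀ B'),
      ∀ a : B, s' (KaehlerDifferential.D A' B' (algebraMap B B' a)) =
        Finsupp.mapRange.linearMap (Algebra.linearMap B B') (s (KaehlerDifferential.D A B a)) := by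
    refine ⟨(LinearMap.liftBaseChange B'
      ((Finsupp.mapRange.linearMap (Algebra.linearMap B B')) ∘ₗ s)) ∘ₗ
        (KaehlerDifferential.tensorKaehlerEquiv A A' B B').symm.toLinearMap, fun a => ?_⟩
    have h6 : (KaehlerDifferential.tensorKaehlerEquiv A A' B B').symm
        (KaehlerDifferential.D A' B' (algebraMap B B' a)) =
        (1 : B') ⊗ₜ[B] KaehlerDifferential.D A B a := by
      rw [LinearEquiv.symm_apply_eq, KaehlerDifferential.tensorKaehlerEquiv_tmul_D, one_smul]
    rw [LinearMap.comp_apply, LinearEquiv.coe_coe, h6, LinearMap.liftBaseChange_tmul, one_smul,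
      LinearMap.comp_apply]
  have h4 := key_desc A B A' B' ι' s s' hs' u
  rw [h3, map_zero] at h4
  have h5 : prodMap (lin Ω[B⁄A] ∘ₗ s) u = 0 :=
    MvPolynomial.map_injective _ hβ (by rw [← h4, map_zero])
  exact prodMap_lin_injective s hs (by rw [h5, map_zero])

theorem main_desc [Algebra.IsPushout A B A' B'] [Module.FaithfullyFlat A A']
    (h : PP16.IsDiffSmooth A' B') (hfin : Module.Finite B' Ω[B'⁄A']) :
    PP16.IsDiffSmooth A B ∧ Module.Finite B Ω[B⁄A] := by
  haveI : Algebra.IsPushout A A' B B' := Algebra.IsPushout.symm inferInstance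
  haveI hff : Module.FaithfullyFlat B B' := by
    have hbc : IsBaseChange B (IsScalarTower.toAlgHom A A' B').toLinearMap :=
      (inferInstance : Algebra.IsPushout A B A' B').out
    exact Module.FaithfullyFlat.of_linearEquiv B (B ⊗[A] A') hbc.equiv.symm
  haveI : Module.Finite B' (B' ⊗[B] Ω[B⁄A]) :=
    Module.Finite.equiv (KaehlerDifferential.tensorKaehlerEquiv A A' B B').symm
  haveI : Module.Projective B' (B' ⊗[B] Ω[B⁄A]) := by
    haveI := h.1
    exact Module.Projective.of_equiv' (KaehlerDifferential.tensorKaehlerEquiv A A' B B').symm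
  haveI hfinB : Module.Finite B Ω[B⁄A] :=
    Groth.Agent.Lib.ProjDescent.finite_of_faithfullyFlat B B' Ω[B⁄A]
  haveI hproj : Module.Projective B Ω[B⁄A] :=
    Groth.Agent.Lib.ProjDescent.projective_of_faithfullyFlat B B' Ω[B⁄A]
  refine ⟨⟨hproj, ?_⟩, hfinB⟩
  intro κ _
  exact ⟨phi A B, fun b => phi_tprod_D A B b,
    ⟨phi_injective_desc A B A' B' κ (FaithfulSMul.algebraMap_injective B B') h,
      phi_surjective A B⟩⟩

end Desc

end BC

end Groth.Agent.Lib.PP16BCH1
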