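import Mathlib
import Groth.Prelude.Def_PP16
import Groth.Agent.Lib.PP16Smooth_helper1

/-! Monomial bases of principal parts of a differentially smooth algebra (helper1). -/

set_option autoImplicit false
set_option maxHeartbeats 1000000

universe u

open TensorProduct

namespace Groth.Agent.Lib.PP16BasisH1

open Groth.Agent.Lib.SymPowH1 Groth.Agent.Lib.PP16SmoothH1

section

variable (A B : Type u) [CommRing A] [CommRing B] [Algebra A B]

theorem prod_zeta_mem {ι' : Type u} [Fintype ι'] (b : ι' → B) :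
    ∏ i, (zeta A B (b i) : B ⊗[A] B) ∈
      (KaehlerDifferential.ideal A B ^ Fintype.card ι').restrictScalars B := by
  have := PP16.prod_mem_pow (KaehlerDifferential.ideal A B) Finset.univ
    (fun i : ι' => (zeta A B (b i) : B ⊗[A] B)) (fun i _ => (zeta A B _).2)
  simpa using this

/-- injectivity of the symbol maps, in elementwise form -/
theorem sum_smul_tprod_eq_zero (hB : PP16.IsDiffSmooth A B) {ι' : Type u} [Fintype ι']
    {σ : Type*} (s : Finset σ) (c : σ → B) (b : σ → ι' → B)
    (h : ∑ r ∈ s, c r • ∏ i, (zeta A B (b r i) : B ⊗[A] B) ∈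
      KaehlerDifferential.ideal A B ^ (Fintype.card ι' + 1)) :
    ∑ r ∈ s, c r • SymmetricPower.tprod B (fun i => KaehlerDifferential.D A B (b r i)) = 0 := by
  obtain ⟨φ, hφ, hinj, -⟩ := hB.2 ι'
  apply hinj
  rw [map_zero, map_sum]
  let t : σ → ↥((KaehlerDifferential.ideal A B ^ Fintype.card ι').restrictScalars B) :=
    fun r => ⟨∏ i, (zeta A B (b r i) : B ⊗[A] B), prod_zeta_mem A B (b r)⟩
  have h1 : ∀ r, PP16.zetaProd A B (b r) = Submodule.mkQ _ (t r) := fun r => rfl
  simp only [map_smul, hφ, h1]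
  simp only [← map_smul, ← map_sum]
  rw [Submodule.mkQ_apply, Submodule.Quotient.mk_eq_zero, Submodule.mem_comap]
  show ((∑ r ∈ s, c r • t r : ↥((KaehlerDifferential.ideal A B ^
    Fintype.card ι').restrictScalars B)) : B ⊗[A] B) ∈
    KaehlerDifferential.ideal A B ^ (Fintype.card ι' + 1)
  rw [Submodule.coe_sum]
  simp only [Submodule.coe_smul]
  exact h

variable {ι : Type} [Fintype ι] [DecidableEq ι] (z : ι → B)

/-- evaluation of polynomials at the elements `ζ(z_i)` -/
noncomputable def E : MvPolynomial ι B →ₐ[B] B ⊗[A] B :=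
  MvPolynomial.aeval (fun i => (zeta A B (z i) : B ⊗[A] B))

theorem E_X (i : ι) : E A B z (MvPolynomial.X i) = (zeta A B (z i) : B ⊗[A] B) :=
  MvPolynomial.aeval_X _ _

theorem E_mem_pow (f : MvPolynomial ι B) (k : ℕ)
    (hf : f ∈ MvPolynomial.idealOfVars ι B ^ k) :
    E A B z f ∈ KaehlerDifferential.ideal A B ^ k := by
  have h1 : (MvPolynomial.idealOfVars ι B ^ k).map
      (E A B z : MvPolynomial ι B →+* B ⊗[A] B) ≤ KaehlerDifferential.ideal A B ^ k := by
    rw [Ideal.map_pow]
    apply Ideal.pow_right_mono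
    rw [MvPolynomial.idealOfVars, Ideal.map_span, Ideal.span_le]
    rintro _ ⟨_, ⟨i, rfl⟩, rfl⟩
    show E A B z (MvPolynomial.X i) ∈ _
    rw [E_X]
    exact (zeta A B (z i)).2
  exact h1 (Ideal.mem_map_of_mem _ hf)

theorem monomial_mem_pow (p : ι →₀ ℕ) (k : ℕ) (hk : k ≤ p.degree) :
    (MvPolynomial.monomial p (1 : B)) ∈ MvPolynomial.idealOfVars ι B ^ k := by
  rw [MvPolynomial.mem_pow_idealOfVars_iff']
  intro x hx
  rw [MvPolynomial.coeff_monomial, if_neg]
  rintro rfl
  omega

theorem E_monomial (p : ι →₀ ℕ) (c : B) :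
    E A B z (MvPolynomial.monomial p c) = c • ∏ i, (zeta A B (z i) : B ⊗[A] B) ^ p i := by
  rw [E, MvPolynomial.aeval_monomial, Finsupp.prod_pow, Algebra.smul_def]

theorem E_prod_X {k : ℕ} (x : Fin k → ι) (p : ι →₀ ℕ)
    (hx : ∑ j, Finsupp.single (x j) 1 = p) :
    E A B z (MvPolynomial.monomial p 1) = ∏ j, (zeta A B (z (x j)) : B ⊗[A] B) := by
  rw [← hx, MvPolynomial.monomial_sum_one, map_prod]
  apply Finset.prod_congr rfl
  intro j _
  exact E_X A B z (x j)

variable (bΩ : Module.Basis ι B Ω[B⁄A]) (hb : ∀ i, bΩ i = KaehlerDifferential.D A B (z i))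

include hb in
theorem exists_poly_sub_mem (k : ℕ) (y : B ⊗[A] B)
    (hy : y ∈ KaehlerDifferential.ideal A B ^ k) :
    ∃ f : MvPolynomial ι B, y - E A B z f ∈ KaehlerDifferential.ideal A B ^ (k + 1) := by
  obtain ⟨y', hy', hyy'⟩ := exists_span_sub_mem A B k y hy
  have key : ∀ w ∈ Submodule.span B (Zset A B k),
      ∃ f : MvPolynomial ι B, w - E A B z f ∈ KaehlerDifferential.ideal A B ^ (k + 1) := by
    intro w hw
    induction hw using Submodule.span_induction with
    | mem w hw =>
      obtain ⟨b, rfl⟩ := hw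
      -- the linear forms
      let W : Fin k → KaehlerDifferential.ideal A B := fun j =>
        ∑ i, (algebraMap B (B ⊗[A] B) (bΩ.repr (KaehlerDifferential.D A B (b j)) i)) •
          zeta A B (z i)
      let ℓ : Fin k → MvPolynomial ι B := fun j =>
        ∑ i, MvPolynomial.C (bΩ.repr (KaehlerDifferential.D A B (b j)) i) * MvPolynomial.X i
      have hW : ∀ j, KaehlerDifferential.fromIdeal A B (W j) =
          KaehlerDifferential.fromIdeal A B (zeta A B (b j)) := by
        intro j
        have h0 : ∀ i, KaehlerDifferential.fromIdeal A B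
            ((algebraMap B (B ⊗[A] B) (bΩ.repr (KaehlerDifferential.D A B (b j)) i)) •
              zeta A B (z i)) = bΩ.repr (KaehlerDifferential.D A B (b j)) i • bΩ i := by
          intro i
          rw [map_smul, fromIdeal_zeta, algebraMap_smul, hb]
        rw [fromIdeal_zeta]
        show KaehlerDifferential.fromIdeal A B (∑ i,
          (algebraMap B (B ⊗[A] B) (bΩ.repr (KaehlerDifferential.D A B (b j)) i)) •
            zeta A B (z i)) = _
        rw [map_sum, Finset.sum_congr rfl (fun i _ => h0 i)]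
        exact bΩ.sum_repr _
      have hEℓ : ∀ j, E A B z (ℓ j) = (W j : B ⊗[A] B) := by
        intro j
        rw [map_sum, Submodule.coe_sum]
        apply Finset.sum_congr rfl
        intro i _
        rw [map_mul, E_X, Submodule.coe_smul, smul_eq_mul]
        congr 1
        exact MvPolynomial.aeval_C _ _
      refine ⟨∏ j, ℓ j, ?_⟩
      rw [map_prod]
      simp only [hEℓ]
      have h1 := prod_sub_prod_mem (KaehlerDifferential.ideal A B) Finset.univ
        (fun j => (zeta A B (b j) : B ⊗[A] B)) (fun j => (W j : B ⊗[A] B))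
        (fun j _ => (zeta A B (b j)).2) (fun j _ => (W j).2)
        (fun j _ => (fromIdeal_eq_iff A B _ _).mp (hW j).symm)
      rwa [Finset.card_univ, Fintype.card_fin] at h1
    | zero => exact ⟨0, by rw [map_zero, sub_zero]; exact zero_mem _⟩
    | add u v _ _ hu hv =>
      obtain ⟨fu, hfu⟩ := hu
      obtain ⟨fv, hfv⟩ := hv
      refine ⟨fu + fv, ?_⟩
      have e : u + v - E A B z (fu + fv) = (u - E A B z fu) + (v - E A B z fv) := by
        rw [map_add]
        ring
      rw [e]
      exact Ideal.add_mem _ hfu hfv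
    | smul c u _ hu =>
      obtain ⟨fu, hfu⟩ := hu
      refine ⟨c • fu, ?_⟩
      rw [map_smul, ← smul_sub, Algebra.smul_def]
      exact Ideal.mul_mem_left _ _ hfu
  obtain ⟨f, hf⟩ := key y' hy'
  refine ⟨f, ?_⟩
  have e : y - E A B z f = (y - y') + (y' - E A B z f) := by ring
  rw [e]
  exact Ideal.add_mem _ hyy' hf

include hb in
theorem exists_poly_sub_mem_all (m : ℕ) (c : B ⊗[A] B) :
    ∃ f : MvPolynomial ι B, c - E A B z f ∈ KaehlerDifferential.ideal A B ^ (m + 1) := by
  induction m with
  | zero =>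
    exact exists_poly_sub_mem A B z bΩ hb 0 c (by rw [pow_zero, Ideal.one_eq_top]; trivial)
  | succ m ih =>
    obtain ⟨f, hf⟩ := ih
    obtain ⟨g, hg⟩ := exists_poly_sub_mem A B z bΩ hb (m + 1) _ hf
    refine ⟨f + g, ?_⟩
    have e : c - E A B z (f + g) = c - E A B z f - E A B z g := by
      rw [map_add]
      ring
    rw [e]
    exact hg

include hb in
theorem coeff_eq_zero_of_E_mem (hB : PP16.IsDiffSmooth A B) (m : ℕ) (f : MvPolynomial ι B)
    (hf : E A B z f ∈ KaehlerDifferential.ideal A B ^ (m + 1)) :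
    ∀ (k : ℕ), k ≤ m → ∀ p : ι →₀ ℕ, p.degree = k → MvPolynomial.coeff p f = 0 := by
  classical
  intro k
  induction k using Nat.strong_induction_on with
  | _ k ih =>
    intro hkm p₀ hp₀
    by_cases hp₀s : p₀ ∈ f.support
    swap
    · exact MvPolynomial.notMem_support_iff.mp hp₀s
    -- split the support
    obtain ⟨sk, hsk⟩ : ∃ sk : Finset (ι →₀ ℕ), sk = f.support.filter (fun p => p.degree = k) :=
      ⟨_, rfl⟩
    have hrest : ∀ p ∈ f.support, p ∉ sk → k + 1 ≤ p.degree := by
      intro p hp hpk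
      by_contra hlt
      have hle : p.degree ≤ k := by omega
      rcases Nat.lt_or_eq_of_le hle with h1 | h1
      · exact (MvPolynomial.mem_support_iff.mp hp) (ih _ h1 (by omega) p rfl)
      · exact hpk (by rw [hsk]; exact Finset.mem_filter.mpr ⟨hp, h1⟩)
    have hsplit : E A B z f = ∑ p ∈ sk, MvPolynomial.coeff p f • E A B z (MvPolynomial.monomial p 1) +
        ∑ p ∈ f.support \ sk, MvPolynomial.coeff p f • E A B z (MvPolynomial.monomial p 1) := by
      have hsub : sk ⊆ f.support := by
        rw [hsk]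
        exact Finset.filter_subset _ _
      rw [add_comm, Finset.sum_sdiff hsub]
      conv_lhs => rw [← MvPolynomial.support_sum_monomial_coeff f]
      rw [map_sum]
      apply Finset.sum_congr rfl
      intro p _
      rw [E_monomial, E_monomial, one_smul]
    have h2 : ∑ p ∈ f.support \ sk, MvPolynomial.coeff p f •
        E A B z (MvPolynomial.monomial p 1) ∈ KaehlerDifferential.ideal A B ^ (k + 1) := by
      apply Ideal.sum_mem
      intro p hp
      rw [Finset.mem_sdiff] at hp
      rw [Algebra.smul_def]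
      exact Ideal.mul_mem_left _ _ (E_mem_pow A B z _ _
        (monomial_mem_pow B p (k + 1) (hrest p hp.1 hp.2)))
    have h3 : ∑ p ∈ sk, MvPolynomial.coeff p f • E A B z (MvPolynomial.monomial p 1) ∈
        KaehlerDifferential.ideal A B ^ (k + 1) := by
      have h4 : E A B z f ∈ KaehlerDifferential.ideal A B ^ (k + 1) :=
        Ideal.pow_le_pow_right (by omega) hf
      rw [hsplit] at h4
      exact (Ideal.add_mem_iff_left _ h2).mp h4
    -- enumerations
    have hdeg : ∀ r : {p // p ∈ sk}, r.1.degree = k := by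
      intro r
      have h' : (r : ι →₀ ℕ) ∈ Finset.filter (fun p => p.degree = k) f.support := by
        rw [← hsk]
        exact r.2
      exact (Finset.mem_filter.mp h').2
    let x : {p // p ∈ sk} → Fin k → ι := fun r =>
      Classical.choose (exists_enum_fin ι k r.1 (hdeg r))
    have hx : ∀ r, ∑ j, Finsupp.single (x r j) 1 = r.1 := fun r =>
      Classical.choose_spec (exists_enum_fin ι k r.1 (hdeg r))
    have h5 : ∑ r ∈ sk.attach, MvPolynomial.coeff r.1 f •
        ∏ j' : ULift.{u} (Fin k), (zeta A B (z (x r j'.down)) : B ⊗[A] B) ∈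
        KaehlerDifferential.ideal A B ^ (Fintype.card (ULift.{u} (Fin k)) + 1) := by
      rw [Fintype.card_ulift, Fintype.card_fin]
      have e : ∀ r : {p // p ∈ sk}, ∏ j' : ULift.{u} (Fin k),
          (zeta A B (z (x r j'.down)) : B ⊗[A] B) = E A B z (MvPolynomial.monomial r.1 1) := by
        intro r
        rw [E_prod_X A B z (x r) r.1 (hx r)]
        exact Equiv.prod_comp Equiv.ulift (fun j => (zeta A B (z (x r j)) : B ⊗[A] B))
      simp only [e]
      rw [Finset.sum_attach sk (fun p => MvPolynomial.coeff p f •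
        E A B z (MvPolynomial.monomial p 1))]
      exact h3
    have h6 := sum_smul_tprod_eq_zero A B hB (ι' := ULift.{u} (Fin k)) sk.attach
      (fun r => MvPolynomial.coeff r.1 f)
      (fun r (j' : ULift.{u} (Fin k)) => z (x r j'.down)) h5
    -- apply the polynomial map
    have h7 := congrArg (prodMap (bΩ.constr B (fun i => (MvPolynomial.X i : MvPolynomial ι B)))) h6
    rw [map_zero, map_sum] at h7
    simp only [map_smul, prodMap_tprod, ← hb, Module.Basis.constr_basis] at h7
    have e2 : ∀ r : {p // p ∈ sk}, ∏ j' : ULift.{u} (Fin k),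
        (MvPolynomial.X (x r j'.down) : MvPolynomial ι B) = MvPolynomial.monomial r.1 1 := by
      intro r
      have e3 : ∏ j' : ULift.{u} (Fin k), (MvPolynomial.X (x r j'.down) : MvPolynomial ι B) =
          ∏ j, (MvPolynomial.X (x r j) : MvPolynomial ι B) :=
        Equiv.prod_comp Equiv.ulift (fun j => (MvPolynomial.X (x r j) : MvPolynomial ι B))
      rw [e3]
      conv_rhs => rw [← hx r]
      rw [MvPolynomial.monomial_sum_one]
      rfl
    simp only [e2] at h7
    rw [Finset.sum_attach sk (fun p => MvPolynomial.coeff p f •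
      (MvPolynomial.monomial p (1 : B)))] at h7
    have h8 := congrArg (MvPolynomial.coeff p₀) h7
    rw [MvPolynomial.coeff_sum, MvPolynomial.coeff_zero] at h8
    simp only [MvPolynomial.coeff_smul, MvPolynomial.coeff_monomial, smul_eq_mul, mul_ite, mul_one,
      mul_zero] at h8
    rw [Finset.sum_ite_eq' sk p₀, if_pos (by rw [hsk]; exact Finset.mem_filter.mpr ⟨hp₀s, hp₀⟩)] at h8
    exact h8

end

section Main

variable (A B : Type u) [CommRing A] [CommRing B] [Algebra A B]

variable {ι : Type} [Fintype ι] [DecidableEq ι] (z : ι → B)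

theorem mk_smul' (m : ℕ) (c : B) (x : B ⊗[A] B) :
    Ideal.Quotient.mk (KaehlerDifferential.ideal A B ^ (m + 1)) (c • x) =
      c • Ideal.Quotient.mk (KaehlerDifferential.ideal A B ^ (m + 1)) x :=
  map_smul (Ideal.Quotient.mkₐ B (KaehlerDifferential.ideal A B ^ (m + 1))) c x

theorem dn_sub_algebraMap (m : ℕ) (i : ι) :
    PP16.dn m A B (z i) - algebraMap B (PP16.P m A B) (z i) =
      Ideal.Quotient.mk _ (zeta A B (z i) : B ⊗[A] B) := by
  show Ideal.Quotient.mk (KaehlerDifferential.ideal A B ^ (m + 1)) ((1 : B) ⊗ₜ[A] z i) -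
    Ideal.Quotient.mk (KaehlerDifferential.ideal A B ^ (m + 1)) (z i ⊗ₜ[A] (1 : B)) = _
  rw [← map_sub]
  rfl

theorem v_eq (m : ℕ) (p : ι → ℕ) :
    ∏ i, (PP16.dn m A B (z i) - algebraMap B (PP16.P m A B) (z i)) ^ (p i) =
      Ideal.Quotient.mk _
        (E A B z (MvPolynomial.monomial (Finsupp.equivFunOnFinite.symm p) 1)) := by
  rw [E_monomial, one_smul, map_prod]
  apply Finset.prod_congr rfl
  intro i _
  rw [map_pow, dn_sub_algebraMap]
  rfl

theorem main (hB : PP16.IsDiffSmooth A B)
    (hz : ∃ b : Module.Basis ι B Ω[B⁄A], ∀ i, b i = KaehlerDifferential.D A B (z i)) (m : ℕ) :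
    ∃ b : Module.Basis {p : ι → ℕ // ∑ i, p i ≤ m} B (PP16.P m A B),
      ∀ p, b p = ∏ i, (PP16.dn m A B (z i) - algebraMap B (PP16.P m A B) (z i)) ^ (p.1 i) := by
  classical
  obtain ⟨bΩ, hb⟩ := hz
  obtain ⟨v, hvdef⟩ : ∃ v : {p : ι → ℕ // ∑ i, p i ≤ m} → PP16.P m A B,
      v = fun p => ∏ i, (PP16.dn m A B (z i) - algebraMap B (PP16.P m A B) (z i)) ^ (p.1 i) :=
    ⟨_, rfl⟩
  have hv : ∀ p, v p = Ideal.Quotient.mk _
      (E A B z (MvPolynomial.monomial (Finsupp.equivFunOnFinite.symm p.1) 1)) := by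
    intro p
    rw [hvdef]
    exact v_eq A B z m p.1
  have hdeg : ∀ p : {p : ι → ℕ // ∑ i, p i ≤ m},
      (Finsupp.equivFunOnFinite.symm p.1).degree ≤ m := by
    intro p
    rw [Finsupp.degree_eq_sum]
    exact p.2
  have hli : LinearIndependent B v := by
    rw [linearIndependent_iff']
    intro s g hsum p₀ hp₀
    obtain ⟨f, hfdef⟩ : ∃ f : MvPolynomial ι B, f = ∑ p ∈ s,
        MvPolynomial.monomial (Finsupp.equivFunOnFinite.symm p.1) (g p) := ⟨_, rfl⟩
    have hEf : E A B z f ∈ KaehlerDifferential.ideal A B ^ (m + 1) := by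
      rw [← Ideal.Quotient.eq_zero_iff_mem, ← hsum, hfdef, map_sum, map_sum]
      apply Finset.sum_congr rfl
      intro p _
      rw [hv, E_monomial, E_monomial, one_smul, mk_smul']
    have h0 := coeff_eq_zero_of_E_mem A B z bΩ hb hB m f hEf _ (hdeg p₀)
      (Finsupp.equivFunOnFinite.symm p₀.1) rfl
    rw [hfdef, MvPolynomial.coeff_sum] at h0
    simp only [MvPolynomial.coeff_monomial] at h0
    have hinj : ∀ p : {p : ι → ℕ // ∑ i, p i ≤ m},
        Finsupp.equivFunOnFinite.symm p.1 = Finsupp.equivFunOnFinite.symm p₀.1 ↔ p = p₀ := by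
      intro p
      rw [EmbeddingLike.apply_eq_iff_eq, Subtype.ext_iff]
    simp only [hinj] at h0
    rw [Finset.sum_ite_eq' s p₀, if_pos hp₀] at h0
    exact h0
  have hsp : ⊤ ≤ Submodule.span B (Set.range v) := by
    intro x _
    obtain ⟨c, rfl⟩ := Ideal.Quotient.mk_surjective x
    obtain ⟨f, hf⟩ := exists_poly_sub_mem_all A B z bΩ hb m c
    have h1 : Ideal.Quotient.mk (KaehlerDifferential.ideal A B ^ (m + 1)) c =
        Ideal.Quotient.mk _ (E A B z f) := by
      rw [Ideal.Quotient.eq]
      exact hf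
    rw [h1, ← MvPolynomial.support_sum_monomial_coeff f, map_sum, map_sum]
    apply Submodule.sum_mem
    intro p _
    by_cases hp : p.degree ≤ m
    · have hp' : ∑ i, p i ≤ m := by
        rw [← Finsupp.degree_eq_sum]
        exact hp
      have e : Ideal.Quotient.mk (KaehlerDifferential.ideal A B ^ (m + 1))
          (E A B z (MvPolynomial.monomial p (MvPolynomial.coeff p f))) =
          MvPolynomial.coeff p f • v ⟨⇑p, hp'⟩ := by
        rw [hv, E_monomial, E_monomial, one_smul, mk_smul']
        rfl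
      rw [e]
      exact Submodule.smul_mem _ _ (Submodule.subset_span ⟨_, rfl⟩)
    · have e : Ideal.Quotient.mk (KaehlerDifferential.ideal A B ^ (m + 1))
          (E A B z (MvPolynomial.monomial p (MvPolynomial.coeff p f))) = 0 := by
        rw [Ideal.Quotient.eq_zero_iff_mem]
        have e2 : MvPolynomial.monomial p (MvPolynomial.coeff p f) =
            MvPolynomial.C (MvPolynomial.coeff p f) * MvPolynomial.monomial p 1 := by
          rw [MvPolynomial.C_mul_monomial, mul_one]
        rw [e2, map_mul]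
        exact Ideal.mul_mem_left _ _ (E_mem_pow A B z _ _
          (monomial_mem_pow B p (m + 1) (by omega)))
      rw [e]
      exact zero_mem _
  refine ⟨Module.Basis.mk hli hsp, fun p => ?_⟩
  rw [Module.Basis.mk_apply, hvdef]

end Main

end Groth.Agent.Lib.PP16BasisH1
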