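import Mathlib
import Groth.Prelude.Def_PP16
import Groth.Prelude.Def_DiffOp
import Groth.Agent.Lib.PP16Basis_helper1
import Groth.Agent.Lib.DiffOp3_lead

/-! Differential smoothness with coordinates and divided-power operators (helper1). -/

set_option autoImplicit false
set_option maxHeartbeats 1000000

universe u

open TensorProduct

namespace Groth.Agent.Lib.PP16DivPowH1

open Groth.Agent.Lib.SymPowH1 Groth.Agent.Lib.PP16SmoothH1 Groth.Agent.Lib.PP16BasisH1
open Groth.Agent.Lib.DiffOp Diff16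

section Fwd

variable (A B : Type u) [CommRing A] [CommRing B] [Algebra A B]

/-- the operator `c ∘ d^m` attached to a functional on principal parts -/
noncomputable def opOf (m : ℕ) (c : PP16.P m A B →ₗ[B] B) : B →ₗ[A] B :=
  (c.restrictScalars A) ∘ₗ (PP16.dn m A B).toLinearMap

theorem opOf_apply (m : ℕ) (c : PP16.P m A B →ₗ[B] B) (t : B) :
    opOf A B m c t = c (PP16.dn m A B t) := rfl

theorem mk_tmul_mul_dn (m : ℕ) (b b' t : B) :
    Ideal.Quotient.mk (KaehlerDifferential.ideal A B ^ (m + 1)) (b ⊗ₜ[A] b') * PP16.dn m A B t =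
      b • PP16.dn m A B (b' * t) := by
  have e : b ⊗ₜ[A] b' = (b ⊗ₜ[A] (1 : B)) * ((1 : B) ⊗ₜ[A] b') := by
    rw [Algebra.TensorProduct.tmul_mul_tmul, mul_one, one_mul]
  rw [e, map_mul, map_mul, Algebra.smul_def, mul_assoc]
  rfl

theorem Phi_opOf (m : ℕ) (c : PP16.P m A B →ₗ[B] B) (x : B ⊗[A] B) (t : B) :
    Phi A B B B x (opOf A B m c) t =
      c (Ideal.Quotient.mk (KaehlerDifferential.ideal A B ^ (m + 1)) x * PP16.dn m A B t) := by
  induction x using TensorProduct.induction_on with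
  | zero => rw [map_zero, LinearMap.zero_apply, LinearMap.zero_apply, map_zero, zero_mul, map_zero]
  | tmul b b' =>
    rw [Phi_tmul, opOf_apply, mk_tmul_mul_dn, smul_eq_mul b' t]
    exact (map_smul c b _).symm
  | add x y hx hy =>
    rw [map_add, LinearMap.add_apply, LinearMap.add_apply, hx, hy, map_add, add_mul, map_add]

theorem opOf_isDiffOpLE (m : ℕ) (c : PP16.P m A B →ₗ[B] B) :
    IsDiffOpLE A B B B m (opOf A B m c) := by
  apply isDiffOpLE_of_Phi_pow
  intro x hx
  apply LinearMap.ext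
  intro t
  rw [Phi_opOf, Ideal.Quotient.eq_zero_iff_mem.mpr hx, zero_mul, map_zero]
  rfl

variable {ι : Type} [Fintype ι] [DecidableEq ι] (z : ι → B)

theorem dn_mon (m : ℕ) (q : ι → ℕ) :
    PP16.dn m A B (∏ i, z i ^ q i) =
      ∑ p' ∈ Fintype.piFinset (fun i => Finset.range (q i + 1)),
        (∏ i, ((Nat.choose (q i) (p' i) : B) * z i ^ (q i - p' i))) •
          ∏ i, (PP16.dn m A B (z i) - algebraMap B (PP16.P m A B) (z i)) ^ (p' i) := by
  rw [map_prod]
  have h1 : ∀ i, PP16.dn m A B (z i ^ q i) = ∑ k ∈ Finset.range (q i + 1),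
      (PP16.dn m A B (z i) - algebraMap B (PP16.P m A B) (z i)) ^ k *
        algebraMap B (PP16.P m A B) (z i) ^ (q i - k) * (Nat.choose (q i) k : PP16.P m A B) := by
    intro i
    rw [map_pow, ← add_pow, sub_add_cancel]
  simp only [h1]
  rw [Finset.prod_univ_sum]
  apply Finset.sum_congr rfl
  intro p' _
  rw [Algebra.smul_def, map_prod, ← Finset.prod_mul_distrib]
  apply Finset.prod_congr rfl
  intro i _
  rw [map_mul, map_pow, map_natCast]
  ring

include z in
theorem exists_Dp (hB : PP16.IsDiffSmooth A B) (bΩ : Module.Basis ι B Ω[B⁄A])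
    (hb : ∀ i, bΩ i = KaehlerDifferential.D A B (z i)) :
    ∃ Dp : (ι → ℕ) → (B →ₗ[A] B),
      (∀ p, ∃ k : ℕ, IsDiffOpLE A B B B k (Dp p)) ∧
      ∀ p q : ι → ℕ, Dp p (∏ i, z i ^ q i) =
        ((∏ i, Nat.choose (q i) (p i) : ℕ) : B) * ∏ i, z i ^ (q i - p i) := by
  classical
  have H : ∀ p : ι → ℕ, ∃ c : PP16.P (∑ i, p i) A B →ₗ[B] B, ∀ p' : ι → ℕ,
      c (∏ i, (PP16.dn (∑ i, p i) A B (z i) -
        algebraMap B (PP16.P (∑ i, p i) A B) (z i)) ^ (p' i)) = if p' = p then 1 else 0 := by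
    intro p
    obtain ⟨𝔟, h𝔟⟩ := PP16BasisH1.main A B z hB ⟨bΩ, hb⟩ (∑ i, p i)
    refine ⟨𝔟.coord ⟨p, le_refl _⟩, fun p' => ?_⟩
    by_cases hle : ∑ i, p' i ≤ ∑ i, p i
    · rw [← h𝔟 ⟨p', hle⟩, Module.Basis.coord_apply, Module.Basis.repr_self, Finsupp.single_apply]
      by_cases hpp : p' = p
      · subst hpp
        rw [if_pos rfl, if_pos rfl]
      · rw [if_neg hpp, if_neg]
        intro h
        exact hpp (congrArg Subtype.val h)
    · have h0 : ∏ i, (PP16.dn (∑ i, p i) A B (z i) -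
          algebraMap B (PP16.P (∑ i, p i) A B) (z i)) ^ (p' i) = 0 := by
        rw [v_eq, Ideal.Quotient.eq_zero_iff_mem]
        apply E_mem_pow
        apply monomial_mem_pow
        rw [Finsupp.degree_eq_sum]
        have : ∀ i, (Finsupp.equivFunOnFinite.symm p') i = p' i := fun i => rfl
        simp only [this]
        omega
      rw [h0, map_zero, if_neg]
      rintro rfl
      exact hle (le_refl _)
  choose c hc using H
  refine ⟨fun p => opOf A B (∑ i, p i) (c p), fun p => ⟨_, opOf_isDiffOpLE A B _ _⟩, fun p q => ?_⟩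
  rw [opOf_apply, dn_mon, map_sum]
  simp only [map_smul, hc, smul_eq_mul, mul_ite, mul_one, mul_zero]
  rw [Finset.sum_ite_eq' (Fintype.piFinset (fun i => Finset.range (q i + 1))) p, Tm_eq]
  by_cases hp : p ∈ Fintype.piFinset (fun i => Finset.range (q i + 1))
  · rw [if_pos hp]
    rfl
  · rw [if_neg hp, Tm_eq_zero]
    intro hle
    apply hp
    rw [Fintype.mem_piFinset]
    intro i
    rw [Finset.mem_range]
    exact Nat.lt_succ_of_le (hle i)

end Fwd

section Bwd

variable (A B : Type u) [CommRing A] [CommRing B] [Algebra A B]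

/-- the pairing functional attached to an operator: `x ↦ (x · D)(1)` -/
noncomputable def Lfun (D : B →ₗ[A] B) : B ⊗[A] B →ₗ[B] B where
  toFun x := Phi A B B B x D 1
  map_add' x y := by rw [map_add, LinearMap.add_apply, LinearMap.add_apply]
  map_smul' c x := by
    have h : c • x = (c ⊗ₜ[A] (1 : B)) * x := by
      rw [Algebra.smul_def]
      rfl
    rw [h, Phi_mul_apply, Phi_tmul, one_smul, RingHom.id_apply]

theorem Lfun_apply (D : B →ₗ[A] B) (x : B ⊗[A] B) : Lfun A B D x = Phi A B B B x D 1 := rfl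

theorem Lfun_eq_zero (n : ℕ) (D : B →ₗ[A] B) (hD : IsDiffOpLE A B B B n D) (x : B ⊗[A] B)
    (hx : x ∈ KaehlerDifferential.ideal A B ^ (n + 1)) : Lfun A B D x = 0 := by
  rw [Lfun_apply, Phi_pow_eq_zero n D hD x hx, LinearMap.zero_apply]

/-- functionals on the graded pieces -/
noncomputable def grLift (n : ℕ) (L : B ⊗[A] B →ₗ[B] B)
    (hL : ∀ x ∈ KaehlerDifferential.ideal A B ^ (n + 1), L x = 0) : PP16.grI A B n →ₗ[B] B :=
  Submodule.liftQ _ (L ∘ₗ ((KaehlerDifferential.ideal A B ^ n).restrictScalars B).subtype)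
    (by
      intro x hx
      rw [LinearMap.mem_ker, LinearMap.comp_apply]
      exact hL _ hx)

theorem grLift_prodCls {ι' : Type u} [Fintype ι'] (L : B ⊗[A] B →ₗ[B] B)
    (hL : ∀ x ∈ KaehlerDifferential.ideal A B ^ (Fintype.card ι' + 1), L x = 0)
    (y : ι' → KaehlerDifferential.ideal A B) :
    grLift A B (Fintype.card ι') L hL (prodCls A B y) = L (∏ i, (y i : B ⊗[A] B)) := rfl

variable {X : Type u} [Fintype X] [DecidableEq X] (z : X → B)

/-- evaluation of polynomials at the `ζ(z_x)` -/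
noncomputable def EX : MvPolynomial X B →ₐ[B] B ⊗[A] B :=
  MvPolynomial.aeval (fun x => (PP16SmoothH1.zeta A B (z x) : B ⊗[A] B))

theorem EX_X (x : X) :
    EX A B z (MvPolynomial.X x) = (PP16SmoothH1.zeta A B (z x) : B ⊗[A] B) :=
  MvPolynomial.aeval_X _ _

theorem EX_C (a : B) : EX A B z (MvPolynomial.C a) = a ⊗ₜ[A] (1 : B) := by
  rw [EX, MvPolynomial.aeval_C]
  rfl

theorem coe_comb (f : X → B) :
    ((∑ x, algebraMap B (B ⊗[A] B) (f x) • PP16SmoothH1.zeta A B (z x) :
      KaehlerDifferential.ideal A B) : B ⊗[A] B) =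
    ∑ x, algebraMap B (B ⊗[A] B) (f x) * (PP16SmoothH1.zeta A B (z x) : B ⊗[A] B) := by
  rw [Submodule.coe_sum]
  rfl

theorem fromIdeal_comb (f : X → B) :
    KaehlerDifferential.fromIdeal A B
      (∑ x, algebraMap B (B ⊗[A] B) (f x) • PP16SmoothH1.zeta A B (z x)) =
    ∑ x, f x • KaehlerDifferential.D A B (z x) := by
  rw [map_sum]
  apply Finset.sum_congr rfl
  intro x _
  rw [map_smul, algebraMap_smul, fromIdeal_zeta]

theorem EX_lin (f : X →₀ B) :
    EX A B z (lin X f) =
      ((∑ x, algebraMap B (B ⊗[A] B) (f x) • PP16SmoothH1.zeta A B (z x) :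
        KaehlerDifferential.ideal A B) : B ⊗[A] B) := by
  rw [coe_comb, lin, Finsupp.linearCombination_apply,
    Finsupp.sum_fintype f (fun i a => a • (MvPolynomial.X i : MvPolynomial X B))
      (fun _ => zero_smul _ _), map_sum]
  apply Finset.sum_congr rfl
  intro x _
  rw [map_smul, EX_X, Algebra.smul_def]

omit [Fintype X] [DecidableEq X] in
theorem lin_mem (f : X →₀ B) : lin X f ∈ MvPolynomial.idealOfVars X B := by
  rw [lin, Finsupp.linearCombination_apply, Finsupp.sum]
  apply Ideal.sum_mem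
  intro x _
  apply Submodule.smul_of_tower_mem
  exact Ideal.subset_span ⟨x, rfl⟩

theorem coeff_lin (f : X →₀ B) (y : X) :
    MvPolynomial.coeff (Finsupp.single y 1) (lin X f) = f y := by
  rw [lin, Finsupp.linearCombination_apply,
    Finsupp.sum_fintype f (fun i a => a • (MvPolynomial.X i : MvPolynomial X B))
      (fun _ => zero_smul _ _),
    MvPolynomial.coeff_sum, Finset.sum_eq_single y]
  · rw [MvPolynomial.coeff_smul, MvPolynomial.coeff_X, if_pos rfl, smul_eq_mul, mul_one]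
  · intro x _ hxy
    rw [MvPolynomial.coeff_smul, MvPolynomial.coeff_X, if_neg, smul_zero]
    intro h
    exact hxy ((Finsupp.single_left_inj one_ne_zero).mp h)
  · intro h
    exact absurd (Finset.mem_univ y) h

variable (Dp : (X → ℕ) → (B →ₗ[A] B))

theorem Dp_one (hDz : ∀ p q, Dp p (mon z q) = Tm z q p) (p : X → ℕ) :
    Dp p 1 = if p = 0 then 1 else 0 := by
  have h1 : mon z (0 : X → ℕ) = 1 := by
    unfold mon
    apply Finset.prod_eq_one
    intro i _
    rw [Pi.zero_apply, pow_zero]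
  have h2 := hDz p 0
  rw [h1] at h2
  rw [h2]
  by_cases hp : p = 0
  · rw [if_pos hp, hp, Tm_self]
  · rw [if_neg hp, Tm_eq_zero]
    intro hle
    apply hp
    funext i
    exact Nat.le_zero.mp (hle i)

theorem comm_Dp
    (hz : Submodule.span B (Set.range fun i => KaehlerDifferential.D A B (z i)) = ⊤)
    (hD : ∀ p, ∃ k : ℕ, IsDiffOpLE A B B B k (Dp p))
    (hDz : ∀ p q, Dp p (mon z q) = Tm z q p) (p : X → ℕ) (i : X) :
    commutator A B B B (Dp p) (z i) =
      if p i = 0 then 0 else Dp (Function.update p i (p i - 1)) := by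
  obtain ⟨k, hk⟩ := hD p
  by_cases hpi : p i = 0
  · rw [if_pos hpi]
    apply eq_zero_of_vanish_on_monomials' z hz k _ (commutator_isDiffOpLE hk (z i))
    intro r
    have h1 := commutator_Dp_mon z Dp hDz p r i
    rw [if_pos hpi] at h1
    exact h1
  · rw [if_neg hpi]
    obtain ⟨k', hk'⟩ := hD (Function.update p i (p i - 1))
    have h1 := eq_zero_of_vanish_on_monomials' z hz (max k k')
      (commutator A B B B (Dp p) (z i) - Dp (Function.update p i (p i - 1)))
      (isDiffOpLE_sub (isDiffOpLE_of_le (le_max_left _ _) (commutator_isDiffOpLE hk (z i)))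
        (isDiffOpLE_of_le (le_max_right _ _) hk'))
      (fun r => by
        rw [LinearMap.sub_apply, sub_eq_zero]
        have h2 := commutator_Dp_mon z Dp hDz p r i
        rw [if_neg hpi] at h2
        exact h2)
    exact sub_eq_zero.mp h1

theorem Lfun_EX
    (hz : Submodule.span B (Set.range fun i => KaehlerDifferential.D A B (z i)) = ⊤)
    (hD : ∀ p, ∃ k : ℕ, IsDiffOpLE A B B B k (Dp p))
    (hDz : ∀ p q, Dp p (mon z q) = Tm z q p) (g : MvPolynomial X B) :
    ∀ m : X →₀ ℕ, Lfun A B (Dp ⇑m) (EX A B z g) = MvPolynomial.coeff m g := by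
  induction g using MvPolynomial.induction_on with
  | C a =>
    intro m
    rw [EX_C, Lfun_apply, Phi_tmul, one_smul, Dp_one A B z Dp hDz, MvPolynomial.coeff_C,
      smul_eq_mul]
    by_cases hm : m = 0
    · subst hm
      rw [if_pos rfl, if_pos Finsupp.coe_zero, mul_one]
    · rw [if_neg (fun h => hm (Finsupp.coe_eq_zero.mp h)), if_neg (fun h => hm h.symm), mul_zero]
  | add g g' hg hg' =>
    intro m
    rw [map_add, map_add, hg, hg', MvPolynomial.coeff_add]
  | mul_X g x hg =>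
    intro m
    rw [map_mul, EX_X, Lfun_apply, Phi_mul_apply]
    have h1 : Phi A B B B (PP16SmoothH1.zeta A B (z x) : B ⊗[A] B) (Dp ⇑m) =
        commutator A B B B (Dp ⇑m) (z x) := Phi_comm_apply (z x) (Dp ⇑m)
    rw [h1, comm_Dp A B z Dp hz hD hDz, MvPolynomial.coeff_mul_X']
    by_cases hmx : m x = 0
    · rw [if_pos hmx, map_zero, LinearMap.zero_apply, if_neg]
      rw [Finsupp.mem_support_iff]
      exact fun h => h hmx
    · rw [if_neg hmx, if_pos (Finsupp.mem_support_iff.mpr hmx)]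
      have h2 : Function.update (⇑m) x (m x - 1) =
          ((m - Finsupp.single x 1 : X →₀ ℕ) : X → ℕ) := by
        funext j
        rw [Finsupp.tsub_apply, Finsupp.single_apply]
        by_cases hj : j = x
        · subst hj
          rw [Function.update_self, if_pos rfl]
        · rw [Function.update_of_ne hj, if_neg (fun h => hj h.symm), Nat.sub_zero]
      rw [h2, ← Lfun_apply]
      exact hg _

theorem linIndep
    (hz : Submodule.span B (Set.range fun i => KaehlerDifferential.D A B (z i)) = ⊤)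
    (hD : ∀ p, ∃ k : ℕ, IsDiffOpLE A B B B k (Dp p))
    (hDz : ∀ p q, Dp p (mon z q) = Tm z q p) :
    LinearIndependent B (fun x => KaehlerDifferential.D A B (z x)) := by
  rw [Fintype.linearIndependent_iff]
  intro c hc y
  have h1 : KaehlerDifferential.fromIdeal A B
      (∑ x, algebraMap B (B ⊗[A] B) (c x) • PP16SmoothH1.zeta A B (z x)) =
      KaehlerDifferential.fromIdeal A B 0 := by
    rw [fromIdeal_comb, hc, map_zero]
  have h2 := (fromIdeal_eq_iff A B _ _).mp h1
  rw [ZeroMemClass.coe_zero, sub_zero] at h2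
  have hf : ∀ x, (Finsupp.equivFunOnFinite.symm c) x = c x := fun x => rfl
  have h3 : EX A B z (lin X (Finsupp.equivFunOnFinite.symm c)) ∈
      KaehlerDifferential.ideal A B ^ (1 + 1) := by
    rw [EX_lin]
    simp only [hf]
    exact h2
  have hsum : ∑ i, (⇑(Finsupp.single y 1 : X →₀ ℕ)) i = 1 := by
    simp [Finsupp.single_apply]
  have hord := Dp_order z hz Dp hD hDz 1 (⇑(Finsupp.single y 1 : X →₀ ℕ)) hsum
  have h4 := Lfun_eq_zero A B 1 _ hord _ h3
  rw [Lfun_EX A B z Dp hz hD hDz, coeff_lin] at h4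
  exact h4

/-- the comparison map to polynomials -/
noncomputable def kmap (bΩ : Module.Basis X B Ω[B⁄A]) (ι' : Type u) [Fintype ι'] :
    Sym[B] ι' Ω[B⁄A] →ₗ[B] MvPolynomial X B :=
  prodMap (lin X ∘ₗ bΩ.repr.toLinearMap)

omit [DecidableEq X] in
theorem kmap_tprod (bΩ : Module.Basis X B Ω[B⁄A]) {ι' : Type u} [Fintype ι']
    (ω : ι' → Ω[B⁄A]) :
    kmap A B bΩ ι' (SymmetricPower.tprod B ω) = ∏ i, lin X (bΩ.repr (ω i)) := by
  rw [kmap, prodMap_tprod]
  rfl

theorem kmap_eq (bΩ : Module.Basis X B Ω[B⁄A]) {ι' : Type u} [Fintype ι'] :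
    kmap A B bΩ ι' = prodMap (lin X) ∘ₗ SymPowH1.map bΩ.repr.toLinearMap := by
  apply hom_ext
  intro ω
  rw [kmap_tprod, LinearMap.comp_apply, map_tprod, prodMap_tprod]
  rfl

theorem kmap_mem (bΩ : Module.Basis X B Ω[B⁄A]) {ι' : Type u} [Fintype ι']
    (u : Sym[B] ι' Ω[B⁄A]) :
    kmap A B bΩ ι' u ∈ MvPolynomial.idealOfVars X B ^ Fintype.card ι' := by
  have hall : (⊤ : Submodule B (Sym[B] ι' Ω[B⁄A])) ≤ Submodule.comap (kmap A B bΩ ι')
      ((MvPolynomial.idealOfVars X B ^ Fintype.card ι').restrictScalars B) := by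
    rw [← SymmetricPower.span_tprod_eq_top, Submodule.span_le]
    rintro _ ⟨ω, rfl⟩
    show kmap A B bΩ ι' (SymmetricPower.tprod B ω) ∈
      MvPolynomial.idealOfVars X B ^ Fintype.card ι'
    rw [kmap_tprod]
    have := PP16.prod_mem_pow (MvPolynomial.idealOfVars X B) Finset.univ
      (fun i : ι' => lin X (bΩ.repr (ω i))) (fun i _ => lin_mem B _)
    simpa using this
  exact hall trivial

theorem coeff_kmap
    (hz : Submodule.span B (Set.range fun i => KaehlerDifferential.D A B (z i)) = ⊤)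
    (hD : ∀ p, ∃ k : ℕ, IsDiffOpLE A B B B k (Dp p))
    (hDz : ∀ p q, Dp p (mon z q) = Tm z q p)
    (bΩ : Module.Basis X B Ω[B⁄A]) (hb : ∀ x, bΩ x = KaehlerDifferential.D A B (z x))
    {ι' : Type u} [Fintype ι'] (u : Sym[B] ι' Ω[B⁄A]) (hu : phi A B u = 0)
    (m : X →₀ ℕ) (hm : ∑ x, m x = Fintype.card ι') :
    MvPolynomial.coeff m (kmap A B bΩ ι' u) = 0 := by
  have hord := Dp_order z hz Dp hD hDz (Fintype.card ι') (⇑m) hm
  have hL : ∀ x ∈ KaehlerDifferential.ideal A B ^ (Fintype.card ι' + 1),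
      Lfun A B (Dp ⇑m) x = 0 := fun x hx => Lfun_eq_zero A B _ _ hord x hx
  have hcomp : grLift A B (Fintype.card ι') (Lfun A B (Dp ⇑m)) hL ∘ₗ phi A B (ι := ι') =
      MvPolynomial.lcoeff B m ∘ₗ kmap A B bΩ ι' := by
    apply hom_ext
    intro ω
    rw [LinearMap.comp_apply, LinearMap.comp_apply, phi_tprod, grLift_prodCls,
      MvPolynomial.lcoeff_apply, kmap_tprod, ← Lfun_EX A B z Dp hz hD hDz,
      map_prod (EX A B z)]
    have hmemI : ∀ i, EX A B z (lin X (bΩ.repr (ω i))) ∈ KaehlerDifferential.ideal A B := by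
      intro i
      rw [EX_lin]
      exact Subtype.property _
    have h1 := prod_sub_prod_mem (KaehlerDifferential.ideal A B) Finset.univ
      (fun i => ((out A B (ω i) : KaehlerDifferential.ideal A B) : B ⊗[A] B))
      (fun i => EX A B z (lin X (bΩ.repr (ω i))))
      (fun i _ => (out A B (ω i)).2) (fun i _ => hmemI i) (fun i _ => by
        show ((out A B (ω i) : KaehlerDifferential.ideal A B) : B ⊗[A] B) -
          EX A B z (lin X (bΩ.repr (ω i))) ∈ KaehlerDifferential.ideal A B ^ 2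
        rw [EX_lin]
        apply (fromIdeal_eq_iff A B _ _).mp
        rw [fromIdeal_out, fromIdeal_comb]
        have h3 := bΩ.sum_repr (ω i)
        simp only [hb] at h3
        exact h3.symm)
    rw [Finset.card_univ] at h1
    have h2 := hL _ h1
    rw [map_sub, sub_eq_zero] at h2
    exact h2
  have h3 := LinearMap.congr_fun hcomp u
  rw [LinearMap.comp_apply, LinearMap.comp_apply, hu, map_zero, MvPolynomial.lcoeff_apply] at h3
  exact h3.symm

theorem phi_injective
    (hz : Submodule.span B (Set.range fun i => KaehlerDifferential.D A B (z i)) = ⊤)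
    (hD : ∀ p, ∃ k : ℕ, IsDiffOpLE A B B B k (Dp p))
    (hDz : ∀ p q, Dp p (mon z q) = Tm z q p)
    (bΩ : Module.Basis X B Ω[B⁄A]) (hb : ∀ x, bΩ x = KaehlerDifferential.D A B (z x))
    {ι' : Type u} [Fintype ι'] : Function.Injective (phi A B (ι := ι')) := by
  rw [injective_iff_map_eq_zero]
  intro u hu
  have hmem' : kmap A B bΩ ι' u ∈ MvPolynomial.idealOfVars X B ^ (Fintype.card ι' + 1) := by
    rw [MvPolynomial.mem_pow_idealOfVars_iff']
    intro m hm
    rcases Nat.lt_succ_iff_lt_or_eq.mp hm with hlt | heq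
    · exact (MvPolynomial.mem_pow_idealOfVars_iff' _ _).mp (kmap_mem A B bΩ u) m hlt
    · apply coeff_kmap A B z Dp hz hD hDz bΩ hb u hu
      rw [← heq, Finsupp.degree_eq_sum]
  have hlam : lam (ι := ι') X (kmap A B bΩ ι' u) = 0 := lam_eq_zero_of_mem X _ hmem'
  have h4 : SymPowH1.map bΩ.repr.toLinearMap u = 0 := by
    have h5 := LinearMap.congr_fun (lam_prodMap_lin (R := B) (ι := ι') X)
      (SymPowH1.map bΩ.repr.toLinearMap u)
    rw [LinearMap.comp_apply, LinearMap.id_apply] at h5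
    rw [← h5]
    rw [kmap_eq, LinearMap.comp_apply] at hlam
    exact hlam
  have h6 : (SymPowH1.map bΩ.repr.symm.toLinearMap ∘ₗ SymPowH1.map bΩ.repr.toLinearMap :
      Sym[B] ι' Ω[B⁄A] →ₗ[B] Sym[B] ι' Ω[B⁄A]) = LinearMap.id := by
    apply hom_ext
    intro ω
    rw [LinearMap.comp_apply, map_tprod, map_tprod, LinearMap.id_apply]
    congr 1
    funext i
    exact bΩ.repr.symm_apply_apply (ω i)
  have h7 := LinearMap.congr_fun h6 u
  rw [LinearMap.comp_apply, h4, map_zero, LinearMap.id_apply] at h7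
  exact h7.symm

theorem bwdX
    (hz : Submodule.span B (Set.range fun i => KaehlerDifferential.D A B (z i)) = ⊤)
    (hD : ∀ p, ∃ k : ℕ, IsDiffOpLE A B B B k (Dp p))
    (hDz : ∀ p q, Dp p (mon z q) = Tm z q p) :
    PP16.IsDiffSmooth A B ∧
      ∃ b : Module.Basis X B Ω[B⁄A], ∀ x, b x = KaehlerDifferential.D A B (z x) := by
  have hli := linIndep A B z Dp hz hD hDz
  obtain ⟨bΩ, hb⟩ : ∃ b : Module.Basis X B Ω[B⁄A],
      ∀ x, b x = KaehlerDifferential.D A B (z x) :=
    ⟨Module.Basis.mk hli hz.ge, fun x => Module.Basis.mk_apply hli hz.ge x⟩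
  refine ⟨⟨Module.Projective.of_basis bΩ, ?_⟩, bΩ, hb⟩
  intro ι' _
  exact ⟨phi A B, fun b => phi_tprod_D A B b,
    ⟨phi_injective A B z Dp hz hD hDz bΩ hb, phi_surjective A B⟩⟩

end Bwd

section Final

variable (A B : Type u) [CommRing A] [CommRing B] [Algebra A B]
variable {ι : Type} [Fintype ι] [DecidableEq ι] (z : ι → B)

theorem bwd
    (hz : Submodule.span B (Set.range fun i => KaehlerDifferential.D A B (z i)) = ⊤)
    (Dp : (ι → ℕ) → (B →ₗ[A] B))
    (hD : ∀ p, ∃ k : ℕ, IsDiffOpLE A B B B k (Dp p))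
    (hDz0 : ∀ p q : ι → ℕ, Dp p (∏ i, z i ^ q i) =
        ((∏ i, Nat.choose (q i) (p i) : ℕ) : B) * ∏ i, z i ^ (q i - p i)) :
    PP16.IsDiffSmooth A B ∧
      ∃ b : Module.Basis ι B Ω[B⁄A], ∀ i, b i = KaehlerDifferential.D A B (z i) := by
  have hrange : (Set.range fun x : ULift.{u} ι => KaehlerDifferential.D A B (z x.down)) =
      Set.range fun i => KaehlerDifferential.D A B (z i) :=
    ULift.down_surjective.range_comp (fun i => KaehlerDifferential.D A B (z i))
  have hzX : Submodule.span B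
      (Set.range fun x : ULift.{u} ι => KaehlerDifferential.D A B (z x.down)) = ⊤ := by
    rw [hrange]
    exact hz
  have hDzX : ∀ p q : ULift.{u} ι → ℕ,
      (fun p' : ULift.{u} ι → ℕ => Dp (fun i => p' ⟨i⟩)) p (mon (fun x => z x.down) q) =
        Tm (fun x => z x.down) q p := by
    intro p q
    have e1 : mon (fun x : ULift.{u} ι => z x.down) q = ∏ i, z i ^ q ⟨i⟩ :=
      Equiv.prod_comp Equiv.ulift (fun i => z i ^ q ⟨i⟩)
    have e2 : Tm (fun x : ULift.{u} ι => z x.down) q p =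
        ∏ i, ((Nat.choose (q ⟨i⟩) (p ⟨i⟩) : B) * z i ^ (q ⟨i⟩ - p ⟨i⟩)) :=
      Equiv.prod_comp Equiv.ulift
        (fun i => (Nat.choose (q ⟨i⟩) (p ⟨i⟩) : B) * z i ^ (q ⟨i⟩ - p ⟨i⟩))
    rw [e1, e2]
    show Dp (fun i => p ⟨i⟩) (∏ i, z i ^ q ⟨i⟩) = _
    rw [hDz0, Tm_eq]
    rfl
  obtain ⟨hB, bX, hbX⟩ := bwdX A B (fun x : ULift.{u} ι => z x.down)
    (fun p' => Dp (fun i => p' ⟨i⟩)) hzX (fun p' => hD _) hDzX
  refine ⟨hB, bX.reindex Equiv.ulift, fun i => ?_⟩
  rw [Module.Basis.reindex_apply]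
  exact hbX _

end Final

end Groth.Agent.Lib.PP16DivPowH1
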