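import Mathlib
import Groth.Prelude.Def_PP16
import Groth.Agent.Lib.PP16b_lead

/-! Principal parts: finiteness, localization of the base, universal operator, polynomial algebras. -/

namespace Groth.Agent.Lib.PP16L

open TensorProduct PP16 Diff16 Groth.Agent.Lib.DiffOp

universe u

section finite
variable (n : ℕ) (A B : Type u) [CommRing A] [CommRing B] [Algebra A B]

theorem isIntegral_dn (c : B) : IsIntegral B (dn n A B c) := by
  have h1 : dn n A B c = algebraMap B (P n A B) c + (dn n A B c - algebraMap B (P n A B) c) := by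
    ring
  rw [h1]
  refine IsIntegral.add isIntegral_algebraMap ?_
  refine IsIntegral.of_pow (Nat.succ_pos n) ?_
  have h2 : (dn n A B c - algebraMap B (P n A B) c) ^ (n + 1) = 0 := by
    have := Ideal.pow_mem_pow (dn_sub_algebraMap_mem n A B c) (n + 1)
    rw [augIdeal_pow] at this
    exact (Submodule.mem_bot _).mp this
  rw [h2]
  exact isIntegral_zero

theorem isIntegral_P : Algebra.IsIntegral B (P n A B) := by
  refine ⟨fun x => ?_⟩
  obtain ⟨y, rfl⟩ := Ideal.Quotient.mk_surjective x
  induction y using TensorProduct.induction_on with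
  | zero => rw [map_zero]; exact isIntegral_zero
  | tmul b c => rw [mk_tmul]; exact IsIntegral.mul isIntegral_algebraMap (isIntegral_dn n A B c)
  | add x y hx hy => rw [map_add]; exact IsIntegral.add hx hy

theorem finiteType_P [Algebra.FiniteType A B] : Algebra.FiniteType B (P n A B) :=
  Algebra.FiniteType.of_surjective
    (Ideal.Quotient.mkₐ B (KaehlerDifferential.ideal A B ^ (n + 1)))
    (Ideal.Quotient.mkₐ_surjective B _)

theorem finite_P [Algebra.FiniteType A B] : Module.Finite B (P n A B) := by
  haveI := isIntegral_P n A B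
  haveI := finiteType_P n A B
  exact Algebra.IsIntegral.finite

theorem finitePresentation_P [Algebra.FinitePresentation A B] :
    Module.FinitePresentation B (P n A B) := by
  haveI : Algebra.FiniteType A B := inferInstance
  haveI := finite_P n A B
  haveI : Algebra.FinitePresentation B (P n A B) :=
    Algebra.FinitePresentation.quotient (Ideal.FG.pow (KaehlerDifferential.ideal_fg A B))
  exact Module.FinitePresentation.of_finite_of_finitePresentation B (P n A B)

end finite

section loc
variable (n : ℕ) (A A' B' : Type u) [CommRing A] [CommRing A'] [CommRing B']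
  [Algebra A A'] [Algebra A' B'] [Algebra A B'] [IsScalarTower A A' B']
  (R : Submonoid A) [IsLocalization R A']
include R

noncomputable def gLoc : B' ⊗[A'] B' →+ B' ⊗[A] B' :=
  haveI hc : TensorProduct.CompatibleSMul A A' B' B' :=
    IsLocalization.tensorProduct_compatibleSMul R A' B' B'
  TensorProduct.liftAddHom
    (LinearMap.toAddMonoidHom'.comp (TensorProduct.mk A B' B').toAddMonoidHom)
    (fun r b c => hc.smul_tmul r b c)

theorem gLoc_tensorMap (w : B' ⊗[A] B') : gLoc A A' B' R (tensorMap A B' A' B' w) = w := by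
  induction w using TensorProduct.induction_on with
  | zero => rw [map_zero, map_zero]
  | tmul c c' =>
    rw [tensorMap_tmul, Algebra.algebraMap_self, RingHom.id_apply, RingHom.id_apply]
    rfl
  | add x y hx hy => rw [map_add, map_add, hx, hy]

theorem map_bijective_of_isLocalization : Function.Bijective (PP16.map n A B' A' B') := by
  have hs : Function.Surjective (algebraMap B' B') := fun x => ⟨x, rfl⟩
  refine ⟨?_, map_surjective_of_surjective n A B' A' B' hs⟩
  have hker : RingHom.ker (tensorMap A B' A' B') = ⊥ :=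
    (RingHom.injective_iff_ker_eq_bot _).mp
      (Function.LeftInverse.injective (gLoc_tensorMap A A' B' R))
  refine (RingHom.injective_iff_ker_eq_bot (PP16.map n A B' A' B')).mpr ?_
  rw [ker_map_eq n A B' A' B' hs, hker, Ideal.map_bot]

end loc

section universal
variable (k : ℕ) (R S : Type u) [CommRing R] [CommRing S] [Algebra R S] (M : Type u)
    [AddCommGroup M] [Module S M] [Module R M] [IsScalarTower R S M]

theorem isDiffOpLE_of_exists {N : Type u} [AddCommGroup N] [Module R N] [Module S N]
    [IsScalarTower R S N] {D : M →ₗ[R] N} (u : PM k R S M →+ N)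
    (h1 : ∀ (b : S) (t : PM k R S M), u (algebraMap S (P k R S) b • t) = b • u t)
    (h2 : ∀ m : M, u (dM k R S M m) = D m) : IsDiffOpLE R S M N k D := by
  rw [isDiffOpLE_iff_prod]
  intro b
  ext m
  rw [← eq_of_props u h1 h2, LinearMap.zero_apply]
  have hz : (Ideal.Quotient.mk (KaehlerDifferential.ideal R S ^ (k + 1))
      (∏ i, ((1 : S) ⊗ₜ[R] b i - b i ⊗ₜ[R] (1 : S))) : P k R S) = 0 :=
    Ideal.Quotient.eq_zero_iff_mem.mpr (prod_mem_ideal_pow k b)
  rw [hz, toPr_zero, TensorProduct.zero_tmul, map_zero]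

/-- `P^k(M)` with its first-factor module structures. -/
def PML : Type u := PM k R S M

noncomputable instance : AddCommGroup (PML k R S M) :=
  inferInstanceAs (AddCommGroup (PM k R S M))

noncomputable instance instModulePPML : Module (P k R S) (PML k R S M) :=
  inferInstanceAs (Module (P k R S) (PM k R S M))

noncomputable instance instModuleSPML : Module S (PML k R S M) :=
  Module.compHom (PML k R S M) (algebraMap S (P k R S))

noncomputable instance instModuleRPML : Module R (PML k R S M) :=
  Module.compHom (PML k R S M) (algebraMap R (P k R S))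

theorem PML_smul_S (s : S) (t : PML k R S M) : s • t = algebraMap S (P k R S) s • t := rfl

theorem PML_smul_R (r : R) (t : PML k R S M) : r • t = algebraMap R (P k R S) r • t := rfl

instance : IsScalarTower R S (PML k R S M) :=
  IsScalarTower.of_algebraMap_smul fun r t => by
    show algebraMap S (P k R S) (algebraMap R S r) • t = algebraMap R (P k R S) r • t
    rw [← IsScalarTower.algebraMap_apply R S (P k R S)]

noncomputable def dML : M →ₗ[R] PML k R S M where
  toFun m := dM k R S M m
  map_add' x y := map_add _ x y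
  map_smul' r m := by
    show (1 : Pr k R S) ⊗ₜ[S] (r • m) = algebraMap R (P k R S) r • ((1 : Pr k R S) ⊗ₜ[S] m)
    rw [← algebraMap_smul S r m, ← TensorProduct.smul_tmul, TensorProduct.smul_tmul']
    congr 1
    show dn k R S (algebraMap R S r) * 1 = algebraMap R (P k R S) r * 1
    rw [AlgHom.commutes]

theorem dML_isDiffOpLE : IsDiffOpLE R S M (PML k R S M) k (dML k R S M) :=
  isDiffOpLE_of_exists k R S M (N := PML k R S M)
    (AddMonoidHom.mk' (fun t : PM k R S M => (t : PML k R S M)) (fun _ _ => rfl))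
    (fun b t => rfl) (fun m => rfl)

theorem dML_universal (N : Type u) [AddCommGroup N] [Module S N] [Module R N]
    [IsScalarTower R S N] (D' : M →ₗ[R] N) (hD' : IsDiffOpLE R S M N k D') :
    ∃! α : PML k R S M →ₗ[S] N, α.restrictScalars R ∘ₗ dML k R S M = D' := by
  obtain ⟨u, ⟨h1, h2⟩, huniq⟩ := (isDiffOpLE_iff_existsUnique k D').mp hD'
  refine ⟨{ toFun := fun t => u t, map_add' := fun x y => map_add u x y,
            map_smul' := fun b t => h1 b t }, ?_, ?_⟩
  · exact LinearMap.ext fun m => h2 m
  · intro α' hα'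
    have h3 := huniq (AddMonoidHom.mk' (fun t : PM k R S M => α' (t : PML k R S M))
      (fun x y => map_add α' _ _))
      ⟨fun b t => α'.map_smul b t, fun m => LinearMap.congr_fun hα' m⟩
    refine LinearMap.ext fun t => ?_
    exact DFunLike.congr_fun h3 t

theorem universal_result :
    ∃ (P : Type u) (_ : AddCommGroup P) (_ : Module S P) (_ : Module R P) (_ : IsScalarTower R S P)
      (D : M →ₗ[R] P), Diff16.IsDiffOpLE R S M P k D ∧
        ∀ (N : Type u) [AddCommGroup N] [Module S N] [Module R N] [IsScalarTower R S N]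
          (D' : M →ₗ[R] N),
          Diff16.IsDiffOpLE R S M N k D' → ∃! α : P →ₗ[S] N, α.restrictScalars R ∘ₗ D = D' :=
  ⟨PML k R S M, inferInstance, inferInstance, inferInstance, inferInstance, dML k R S M,
    dML_isDiffOpLE k R S M, fun N _ _ _ _ D' hD' => dML_universal k R S M N D' hD'⟩

end universal

section poly
variable (n : ℕ) (A : Type u) [CommRing A] (σ : Type u)

open MvPolynomial in
theorem mem_span_X_of_constantCoeff_eq_zero {R : Type*} [CommRing R] (x : MvPolynomial σ R)
    (h : constantCoeff x = 0) : x ∈ Ideal.span (Set.range (X : σ → MvPolynomial σ R)) := by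
  rw [← Set.image_univ, mem_ideal_span_X_image]
  intro m hm
  by_contra hne
  push Not at hne
  have h0 : m = 0 := Finsupp.ext (fun i => by simpa using hne i (Set.mem_univ i))
  subst h0
  rw [mem_support_iff] at hm
  exact hm h

/-- the shift `T ↦ T + U`. -/
noncomputable def shiftPoly : MvPolynomial σ A →ₐ[A] MvPolynomial σ (MvPolynomial σ A) :=
  MvPolynomial.aeval (fun i => MvPolynomial.C (MvPolynomial.X i) + MvPolynomial.X i)

/-- Θ : B ⊗[A] B →ₐ[B] B[U], b ⊗ c ↦ C b * c(T + U). -/
noncomputable def thetaPoly : MvPolynomial σ A ⊗[A] MvPolynomial σ A →ₐ[MvPolynomial σ A]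
    MvPolynomial σ (MvPolynomial σ A) :=
  Algebra.TensorProduct.lift (Algebra.ofId (MvPolynomial σ A) (MvPolynomial σ (MvPolynomial σ A)))
    (shiftPoly A σ) (fun _ _ => Commute.all _ _)

theorem thetaPoly_tmul (b c : MvPolynomial σ A) :
    thetaPoly A σ (b ⊗ₜ[A] c) = MvPolynomial.C b * shiftPoly A σ c := rfl

noncomputable def thetaPolyInv : MvPolynomial σ (MvPolynomial σ A) →ₐ[MvPolynomial σ A]
    MvPolynomial σ A ⊗[A] MvPolynomial σ A :=
  MvPolynomial.aeval (fun i => (1 : MvPolynomial σ A) ⊗ₜ[A] MvPolynomial.X i -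
    MvPolynomial.X i ⊗ₜ[A] (1 : MvPolynomial σ A))

theorem shiftPoly_X (i : σ) :
    shiftPoly A σ (MvPolynomial.X i) = MvPolynomial.C (MvPolynomial.X i) + MvPolynomial.X i := by
  rw [shiftPoly, MvPolynomial.aeval_X]

theorem thetaPolyInv_X (i : σ) :
    thetaPolyInv A σ (MvPolynomial.X i) = (1 : MvPolynomial σ A) ⊗ₜ[A] MvPolynomial.X i -
      MvPolynomial.X i ⊗ₜ[A] (1 : MvPolynomial σ A) := by
  rw [thetaPolyInv, MvPolynomial.aeval_X]

theorem thetaPolyInv_C (b : MvPolynomial σ A) :
    thetaPolyInv A σ (MvPolynomial.C b) = b ⊗ₜ[A] (1 : MvPolynomial σ A) := by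
  rw [thetaPolyInv, MvPolynomial.aeval_C]
  rfl

theorem thetaPoly_comp_inv :
    (thetaPoly A σ).comp (thetaPolyInv A σ) = AlgHom.id _ _ := by
  apply MvPolynomial.algHom_ext
  intro i
  rw [AlgHom.comp_apply, thetaPolyInv_X, map_sub, thetaPoly_tmul, thetaPoly_tmul, shiftPoly_X,
    map_one, map_one, one_mul, mul_one, add_sub_cancel_left, AlgHom.id_apply]

theorem thetaPolyInv_shift (c : MvPolynomial σ A) :
    thetaPolyInv A σ (shiftPoly A σ c) = (1 : MvPolynomial σ A) ⊗ₜ[A] c := by
  have h : ((thetaPolyInv A σ).restrictScalars A).comp (shiftPoly A σ) =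
      Algebra.TensorProduct.includeRight := by
    apply MvPolynomial.algHom_ext
    intro i
    rw [AlgHom.comp_apply, shiftPoly_X, AlgHom.restrictScalars_apply, map_add, thetaPolyInv_C,
      thetaPolyInv_X, Algebra.TensorProduct.includeRight_apply]
    abel
  exact DFunLike.congr_fun h c

theorem thetaPolyInv_comp :
    (thetaPolyInv A σ).comp (thetaPoly A σ) = AlgHom.id _ _ := by
  apply Algebra.TensorProduct.ext'
  intro b c
  rw [AlgHom.comp_apply, thetaPoly_tmul, map_mul, thetaPolyInv_C, thetaPolyInv_shift,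
    Algebra.TensorProduct.tmul_mul_tmul, mul_one, one_mul, AlgHom.id_apply]

noncomputable def thetaEquiv : (MvPolynomial σ A ⊗[A] MvPolynomial σ A) ≃ₐ[MvPolynomial σ A]
    MvPolynomial σ (MvPolynomial σ A) :=
  AlgEquiv.ofAlgHom (thetaPoly A σ) (thetaPolyInv A σ) (thetaPoly_comp_inv A σ)
    (thetaPolyInv_comp A σ)

theorem constantCoeff_shift (b : MvPolynomial σ A) :
    MvPolynomial.constantCoeff (shiftPoly A σ b) = b := by
  have h : ((MvPolynomial.aeval (0 : σ → MvPolynomial σ A) :
      MvPolynomial σ (MvPolynomial σ A) →ₐ[MvPolynomial σ A] MvPolynomial σ A).restrictScalars A).comp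
      (shiftPoly A σ) = AlgHom.id A _ := by
    apply MvPolynomial.algHom_ext
    intro i
    rw [AlgHom.comp_apply, shiftPoly_X, AlgHom.restrictScalars_apply, map_add,
      MvPolynomial.aeval_C, MvPolynomial.aeval_X, Pi.zero_apply, add_zero, AlgHom.id_apply]
    rfl
  have h2 := DFunLike.congr_fun h b
  rw [AlgHom.comp_apply, AlgHom.restrictScalars_apply, MvPolynomial.aeval_zero,
    AlgHom.id_apply] at h2
  exact h2

theorem map_thetaPoly_ideal :
    (KaehlerDifferential.ideal A (MvPolynomial σ A)).map (thetaPoly A σ) =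
      Ideal.span (Set.range (MvPolynomial.X : σ → MvPolynomial σ (MvPolynomial σ A))) := by
  apply le_antisymm
  · rw [Ideal.map_le_iff_le_comap, ← KaehlerDifferential.span_range_eq_ideal A (MvPolynomial σ A),
      Ideal.span_le]
    rintro _ ⟨b, rfl⟩
    show thetaPoly A σ ((1 : MvPolynomial σ A) ⊗ₜ[A] b - b ⊗ₜ[A] (1 : MvPolynomial σ A)) ∈
      Ideal.span (Set.range (MvPolynomial.X : σ → MvPolynomial σ (MvPolynomial σ A)))
    apply mem_span_X_of_constantCoeff_eq_zero
    rw [map_sub, thetaPoly_tmul, thetaPoly_tmul, map_one, map_one, one_mul, mul_one, map_sub,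
      constantCoeff_shift, MvPolynomial.constantCoeff_C, sub_self]
  · rw [Ideal.span_le]
    rintro _ ⟨i, rfl⟩
    have e : (MvPolynomial.X i : MvPolynomial σ (MvPolynomial σ A)) =
        thetaPoly A σ ((1 : MvPolynomial σ A) ⊗ₜ[A] MvPolynomial.X i -
          MvPolynomial.X i ⊗ₜ[A] (1 : MvPolynomial σ A)) := by
      rw [map_sub, thetaPoly_tmul, thetaPoly_tmul, shiftPoly_X, map_one, map_one, one_mul, mul_one,
        add_sub_cancel_left]
    rw [SetLike.mem_coe, e]
    exact Ideal.mem_map_of_mem _ (KaehlerDifferential.one_smul_sub_smul_one_mem_ideal A _)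

theorem poly_result :
    ∃ e : PP16.P n A (MvPolynomial σ A) ≃ₐ[MvPolynomial σ A]
        (MvPolynomial σ (MvPolynomial σ A) ⧸
          Ideal.span (Set.range (MvPolynomial.X : σ → MvPolynomial σ (MvPolynomial σ A))) ^ (n + 1)),
      ∀ i : σ, e (PP16.dn n A (MvPolynomial σ A) (MvPolynomial.X i)) =
        Ideal.Quotient.mk _ (MvPolynomial.C (MvPolynomial.X i : MvPolynomial σ A) +
          (MvPolynomial.X i : MvPolynomial σ (MvPolynomial σ A))) := by
  have hIJ : Ideal.span (Set.range (MvPolynomial.X : σ → MvPolynomial σ (MvPolynomial σ A))) ^ (n + 1) =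
      (KaehlerDifferential.ideal A (MvPolynomial σ A) ^ (n + 1)).map
        ((thetaEquiv A σ : (MvPolynomial σ A ⊗[A] MvPolynomial σ A) ≃ₐ[MvPolynomial σ A]
          MvPolynomial σ (MvPolynomial σ A)) :
          (MvPolynomial σ A ⊗[A] MvPolynomial σ A) →+* MvPolynomial σ (MvPolynomial σ A)) := by
    rw [Ideal.map_pow, ← map_thetaPoly_ideal]
    rfl
  refine ⟨Ideal.quotientEquivAlg _ _ (thetaEquiv A σ) hIJ, fun i => ?_⟩
  show Ideal.Quotient.mk _ (thetaPoly A σ ((1 : MvPolynomial σ A) ⊗ₜ[A] MvPolynomial.X i)) = _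
  rw [thetaPoly_tmul, shiftPoly_X, map_one, one_mul]

end poly

end Groth.Agent.Lib.PP16L
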