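import Mathlib
import Groth.Prelude.Def_PP16
import Groth.Agent.Lib.PP16c_lead

/-! Principal parts of a symmetric algebra. -/

namespace Groth.Agent.Lib.PP16L

open TensorProduct PP16

universe u

section sym
variable (n : ℕ) (A : Type u) [CommRing A] (E : Type u) [AddCommGroup E] [Module A E]

local notation "SB" => SymmetricAlgebra A E

noncomputable def deltaP : SB →ₐ[A] SB ⊗[A] SB :=
  SymmetricAlgebra.lift
    ((Algebra.TensorProduct.includeLeft : SB →ₐ[A] SB ⊗[A] SB).toLinearMap ∘ₗ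
        SymmetricAlgebra.ι A E +
      (Algebra.TensorProduct.includeRight : SB →ₐ[A] SB ⊗[A] SB).toLinearMap ∘ₗ
        SymmetricAlgebra.ι A E)

noncomputable def deltaM : SB →ₐ[A] SB ⊗[A] SB :=
  SymmetricAlgebra.lift
    ((Algebra.TensorProduct.includeRight : SB →ₐ[A] SB ⊗[A] SB).toLinearMap ∘ₗ
        SymmetricAlgebra.ι A E -
      (Algebra.TensorProduct.includeLeft : SB →ₐ[A] SB ⊗[A] SB).toLinearMap ∘ₗ
        SymmetricAlgebra.ι A E)

theorem deltaP_ι (t : E) : deltaP A E (SymmetricAlgebra.ι A E t) =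
    SymmetricAlgebra.ι A E t ⊗ₜ[A] (1 : SB) + (1 : SB) ⊗ₜ[A] SymmetricAlgebra.ι A E t := by
  rw [deltaP, SymmetricAlgebra.lift_ι_apply]
  rfl

theorem deltaM_ι (t : E) : deltaM A E (SymmetricAlgebra.ι A E t) =
    (1 : SB) ⊗ₜ[A] SymmetricAlgebra.ι A E t - SymmetricAlgebra.ι A E t ⊗ₜ[A] (1 : SB) := by
  rw [deltaM, SymmetricAlgebra.lift_ι_apply]
  rfl

noncomputable def thetaP : SB ⊗[A] SB →ₐ[SB] SB ⊗[A] SB :=
  Algebra.TensorProduct.lift (Algebra.TensorProduct.includeLeft : SB →ₐ[SB] SB ⊗[A] SB)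
    (deltaP A E) (fun _ _ => Commute.all _ _)

noncomputable def thetaM : SB ⊗[A] SB →ₐ[SB] SB ⊗[A] SB :=
  Algebra.TensorProduct.lift (Algebra.TensorProduct.includeLeft : SB →ₐ[SB] SB ⊗[A] SB)
    (deltaM A E) (fun _ _ => Commute.all _ _)

theorem thetaP_tmul (b c : SB) :
    thetaP A E (b ⊗ₜ[A] c) = (b ⊗ₜ[A] (1 : SB)) * deltaP A E c := rfl

theorem thetaM_tmul (b c : SB) :
    thetaM A E (b ⊗ₜ[A] c) = (b ⊗ₜ[A] (1 : SB)) * deltaM A E c := rfl

theorem thetaP_tmul_one (b : SB) : thetaP A E (b ⊗ₜ[A] (1 : SB)) = b ⊗ₜ[A] (1 : SB) := by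
  rw [thetaP_tmul, map_one, mul_one]

theorem thetaM_tmul_one (b : SB) : thetaM A E (b ⊗ₜ[A] (1 : SB)) = b ⊗ₜ[A] (1 : SB) := by
  rw [thetaM_tmul, map_one, mul_one]

theorem thetaP_one_tmul (c : SB) : thetaP A E ((1 : SB) ⊗ₜ[A] c) = deltaP A E c := by
  rw [thetaP_tmul, ← Algebra.TensorProduct.one_def, one_mul]

theorem thetaM_one_tmul (c : SB) : thetaM A E ((1 : SB) ⊗ₜ[A] c) = deltaM A E c := by
  rw [thetaM_tmul, ← Algebra.TensorProduct.one_def, one_mul]

theorem thetaM_deltaP (c : SB) : thetaM A E (deltaP A E c) = (1 : SB) ⊗ₜ[A] c := by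
  have h : ((thetaM A E).restrictScalars A).comp (deltaP A E) =
      Algebra.TensorProduct.includeRight := by
    apply SymmetricAlgebra.algHom_ext
    refine LinearMap.ext fun t => ?_
    show thetaM A E (deltaP A E (SymmetricAlgebra.ι A E t)) =
      (1 : SB) ⊗ₜ[A] SymmetricAlgebra.ι A E t
    rw [deltaP_ι, map_add, thetaM_tmul_one, thetaM_one_tmul, deltaM_ι]
    abel
  exact DFunLike.congr_fun h c

theorem thetaP_deltaM (c : SB) : thetaP A E (deltaM A E c) = (1 : SB) ⊗ₜ[A] c := by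
  have h : ((thetaP A E).restrictScalars A).comp (deltaM A E) =
      Algebra.TensorProduct.includeRight := by
    apply SymmetricAlgebra.algHom_ext
    refine LinearMap.ext fun t => ?_
    show thetaP A E (deltaM A E (SymmetricAlgebra.ι A E t)) =
      (1 : SB) ⊗ₜ[A] SymmetricAlgebra.ι A E t
    rw [deltaM_ι, map_sub, thetaP_tmul_one, thetaP_one_tmul, deltaP_ι]
    abel
  exact DFunLike.congr_fun h c

theorem thetaM_comp_thetaP : (thetaM A E).comp (thetaP A E) = AlgHom.id _ _ := by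
  apply Algebra.TensorProduct.ext'
  intro b c
  rw [AlgHom.comp_apply, thetaP_tmul, map_mul, thetaM_deltaP, thetaM_tmul_one,
    Algebra.TensorProduct.tmul_mul_tmul, mul_one, one_mul, AlgHom.id_apply]

theorem thetaP_comp_thetaM : (thetaP A E).comp (thetaM A E) = AlgHom.id _ _ := by
  apply Algebra.TensorProduct.ext'
  intro b c
  rw [AlgHom.comp_apply, thetaM_tmul, map_mul, thetaP_deltaM, thetaP_tmul_one,
    Algebra.TensorProduct.tmul_mul_tmul, mul_one, one_mul, AlgHom.id_apply]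

noncomputable def thetaSymEquiv : (SB ⊗[A] SB) ≃ₐ[SB] SB ⊗[A] SB :=
  AlgEquiv.ofAlgHom (thetaP A E) (thetaM A E) (thetaP_comp_thetaM A E) (thetaM_comp_thetaP A E)

/-- the augmentation. -/
noncomputable def epsSym : SB →ₐ[A] A := SymmetricAlgebra.lift (0 : E →ₗ[A] A)

theorem epsSym_ι (t : E) : epsSym A E (SymmetricAlgebra.ι A E t) = 0 := by
  rw [epsSym, SymmetricAlgebra.lift_ι_apply]
  rfl

theorem epsSym_surjective : Function.Surjective (epsSym A E) := fun a =>
  ⟨algebraMap A SB a, by rw [AlgHom.commutes, Algebra.algebraMap_self, RingHom.id_apply]⟩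

/-- `id ⊗ ε`. -/
noncomputable def TSym : SB ⊗[A] SB →ₐ[A] SB ⊗[A] A :=
  Algebra.TensorProduct.map (AlgHom.id A SB) (epsSym A E)

theorem ker_TSym : RingHom.ker (TSym A E) =
    (RingHom.ker (epsSym A E)).map
      (Algebra.TensorProduct.includeRight : SB →ₐ[A] SB ⊗[A] SB) :=
  Algebra.TensorProduct.lTensor_ker (epsSym A E) (epsSym_surjective A E)

theorem TSym_deltaP (c : SB) : TSym A E (deltaP A E c) = c ⊗ₜ[A] (1 : A) := by
  have h : (TSym A E).comp (deltaP A E) =
      (Algebra.TensorProduct.includeLeft : SB →ₐ[A] SB ⊗[A] A) := by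
    apply SymmetricAlgebra.algHom_ext
    refine LinearMap.ext fun t => ?_
    show TSym A E (deltaP A E (SymmetricAlgebra.ι A E t)) = SymmetricAlgebra.ι A E t ⊗ₜ[A] (1 : A)
    rw [deltaP_ι, map_add, TSym, Algebra.TensorProduct.map_tmul, Algebra.TensorProduct.map_tmul,
      AlgHom.id_apply, AlgHom.id_apply, map_one, epsSym_ι, TensorProduct.tmul_zero, add_zero]
  exact DFunLike.congr_fun h c

theorem lmul_deltaM (c : SB) :
    Algebra.TensorProduct.lmul' A (deltaM A E c) = algebraMap A SB (epsSym A E c) := by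
  have h : (Algebra.TensorProduct.lmul' A : SB ⊗[A] SB →ₐ[A] SB).comp (deltaM A E) =
      (Algebra.ofId A SB).comp (epsSym A E) := by
    apply SymmetricAlgebra.algHom_ext
    refine LinearMap.ext fun t => ?_
    show Algebra.TensorProduct.lmul' A (deltaM A E (SymmetricAlgebra.ι A E t)) =
      algebraMap A SB (epsSym A E (SymmetricAlgebra.ι A E t))
    rw [deltaM_ι, map_sub, Algebra.TensorProduct.lmul'_apply_tmul,
      Algebra.TensorProduct.lmul'_apply_tmul, one_mul, mul_one, sub_self, epsSym_ι, map_zero]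
  exact DFunLike.congr_fun h c

theorem map_thetaP_ideal :
    (KaehlerDifferential.ideal A SB).map (thetaP A E) =
      (RingHom.ker (epsSym A E)).map
        (Algebra.TensorProduct.includeRight : SB →ₐ[A] SB ⊗[A] SB) := by
  apply le_antisymm
  · rw [Ideal.map_le_iff_le_comap, ← KaehlerDifferential.span_range_eq_ideal A SB, Ideal.span_le]
    rintro _ ⟨b, rfl⟩
    show thetaP A E ((1 : SB) ⊗ₜ[A] b - b ⊗ₜ[A] (1 : SB)) ∈
      (RingHom.ker (epsSym A E)).map
        (Algebra.TensorProduct.includeRight : SB →ₐ[A] SB ⊗[A] SB)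
    rw [← ker_TSym, RingHom.mem_ker, map_sub, thetaP_one_tmul, thetaP_tmul_one, map_sub,
      TSym_deltaP, TSym, Algebra.TensorProduct.map_tmul, AlgHom.id_apply, map_one, sub_self]
  · rw [Ideal.map_le_iff_le_comap]
    intro k hk
    rw [Ideal.mem_comap, Algebra.TensorProduct.includeRight_apply, ← thetaP_deltaM]
    apply Ideal.mem_map_of_mem
    rw [RingHom.mem_ker] at hk
    show Algebra.TensorProduct.lmul' A (deltaM A E k) = 0
    rw [lmul_deltaM, hk, map_zero]

theorem mapS_eq (J : Ideal SB) (y : SB ⊗[A] SB) :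
    Algebra.TensorProduct.map (AlgHom.id SB SB) (Ideal.Quotient.mkₐ A J) y =
      Algebra.TensorProduct.map (AlgHom.id A SB) (Ideal.Quotient.mkₐ A J) y := by
  induction y using TensorProduct.induction_on with
  | zero => rw [map_zero, map_zero]
  | tmul b c => rfl
  | add x y hx hy => rw [map_add, map_add, hx, hy]

/-- the composite `B ⊗ B → B ⊗ B → B ⊗ (B / K^(n+1))`. -/
noncomputable def FSym : SB ⊗[A] SB →ₐ[SB]
    SB ⊗[A] (SB ⧸ RingHom.ker (epsSym A E) ^ (n + 1)) :=
  (Algebra.TensorProduct.map (AlgHom.id SB SB)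
    (Ideal.Quotient.mkₐ A (RingHom.ker (epsSym A E) ^ (n + 1)))).comp (thetaP A E)

theorem FSym_apply (x : SB ⊗[A] SB) : FSym n A E x =
    Algebra.TensorProduct.map (AlgHom.id A SB)
      (Ideal.Quotient.mkₐ A (RingHom.ker (epsSym A E) ^ (n + 1))) (thetaP A E x) := by
  rw [FSym, AlgHom.comp_apply, mapS_eq]

theorem FSym_surjective : Function.Surjective (FSym n A E) := by
  intro z
  obtain ⟨y, rfl⟩ := Algebra.TensorProduct.map_surjective (AlgHom.id A SB)
    (Ideal.Quotient.mkₐ A (RingHom.ker (epsSym A E) ^ (n + 1)))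
    (fun x => ⟨x, rfl⟩) (Ideal.Quotient.mkₐ_surjective A _) z
  refine ⟨thetaM A E y, ?_⟩
  rw [FSym_apply]
  have h := DFunLike.congr_fun (thetaP_comp_thetaM A E) y
  rw [AlgHom.comp_apply, AlgHom.id_apply] at h
  rw [h]

theorem ker_FSym : KaehlerDifferential.ideal A SB ^ (n + 1) = RingHom.ker (FSym n A E) := by
  have hbij : Function.Bijective (thetaP A E) := (thetaSymEquiv A E).bijective
  have hk : RingHom.ker (Algebra.TensorProduct.map (AlgHom.id A SB)
      (Ideal.Quotient.mkₐ A (RingHom.ker (epsSym A E) ^ (n + 1)))) =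
      (KaehlerDifferential.ideal A SB ^ (n + 1)).map (thetaP A E) := by
    rw [Algebra.TensorProduct.lTensor_ker _ (Ideal.Quotient.mkₐ_surjective A _)]
    have e1 : RingHom.ker (Ideal.Quotient.mkₐ A (RingHom.ker (epsSym A E) ^ (n + 1))) =
        RingHom.ker (epsSym A E) ^ (n + 1) := Ideal.Quotient.mkₐ_ker A _
    rw [e1, Ideal.map_pow, Ideal.map_pow, map_thetaP_ideal]
  ext x
  rw [RingHom.mem_ker, FSym_apply, ← RingHom.mem_ker, hk]
  constructor
  · intro hx
    exact Ideal.mem_map_of_mem _ hx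
  · intro hx
    have := Ideal.comap_map_of_bijective (thetaP A E) hbij
      (I := KaehlerDifferential.ideal A SB ^ (n + 1))
    rw [← this]
    exact hx

theorem sym_result :
    ∃ e : PP16.P n A (SymmetricAlgebra A E) ≃ₐ[SymmetricAlgebra A E]
        (SymmetricAlgebra A E ⊗[A] (SymmetricAlgebra A E ⧸
          RingHom.ker (SymmetricAlgebra.lift (0 : E →ₗ[A] A)) ^ (n + 1))),
      ∀ t : E, e (PP16.dn n A (SymmetricAlgebra A E) (SymmetricAlgebra.ι A E t)) =
        SymmetricAlgebra.ι A E t ⊗ₜ 1 + 1 ⊗ₜ Ideal.Quotient.mk _ (SymmetricAlgebra.ι A E t) := by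
  refine ⟨(Ideal.quotientEquivAlgOfEq SB (ker_FSym n A E)).trans
    (Ideal.quotientKerAlgEquivOfSurjective (FSym_surjective n A E)), fun t => ?_⟩
  show FSym n A E ((1 : SB) ⊗ₜ[A] SymmetricAlgebra.ι A E t) = _
  rw [FSym_apply, thetaP_one_tmul, deltaP_ι, map_add, Algebra.TensorProduct.map_tmul,
    Algebra.TensorProduct.map_tmul, AlgHom.id_apply, AlgHom.id_apply, map_one]
  rfl

end sym

end Groth.Agent.Lib.PP16L
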