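import Mathlib
import Groth.Prelude
import Groth.Agent.Lib.PPAff2_helper7
import Groth.Agent.Lib.OmegaCompat2_helper4

/-!
# Surjectivity of the canonical maps of principal parts (helper7)
APPEND-ONLY once landed.
-/

set_option autoImplicit false
set_option linter.style.haveILetI false

universe u

noncomputable section

open CategoryTheory CategoryTheory.Limits AlgebraicGeometry Opposite TopologicalSpace

namespace Groth.Agent.Lib.PPAffH7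

open PrinPart

theorem epi_of_IsPMap {X' S' X S : Scheme.{u}} (f : X ⟶ S) (f' : X' ⟶ S') (u : X' ⟶ X) (n : ℕ)
    (φ : (Scheme.Modules.pullback u).obj (P f n) ⟶ P f' n) (hφ : IsPMap f f' u n φ)
    (Pb : X'.Opens → Prop)
    (hbasis : ∀ (O : X'.Opens) (x : X'), x ∈ O → ∃ W : X'.Opens, Pb W ∧ x ∈ W ∧ W ≤ O)
    (hgen : ∀ W, Pb W → ∃ U : X.Opens, W = u ⁻¹ᵁ U ∧ Function.Surjective (u.app U).hom ∧
      ∀ z : Γ(P f' n, u ⁻¹ᵁ U),
        z ∈ Submodule.span Γ(X', u ⁻¹ᵁ U) (Set.range (dn f' n (u ⁻¹ᵁ U)))) : Epi φ := by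
  refine Groth.Agent.Lib.OmegaCompat2H4.epi_of_surjective_basis φ Pb hbasis (fun W hW => ?_)
  obtain ⟨U, rfl, hsurj, hspan⟩ := hgen W hW
  intro z
  have hz := hspan z
  induction hz using Submodule.span_induction with
  | mem z hz =>
    obtain ⟨b', rfl⟩ := hz
    obtain ⟨b, rfl⟩ := hsurj b'
    exact ⟨_, hφ U b⟩
  | zero => exact ⟨0, map_zero _⟩
  | add x y _ _ hx hy =>
    obtain ⟨x', rfl⟩ := hx
    obtain ⟨y', rfl⟩ := hy
    exact ⟨x' + y', map_add _ _ _⟩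
  | smul c x _ hx =>
    obtain ⟨x', rfl⟩ := hx
    exact ⟨c • x', Scheme.Modules.Hom.app_smul _ _ _⟩

theorem main5981 {X Y Z : Scheme.{u}} (f : X ⟶ Y) (g : Y ⟶ Z) (n : ℕ)
    (φ : (Scheme.Modules.pullback (𝟙 X)).obj (PrinPart.P (f ≫ g) n) ⟶ PrinPart.P f n)
    (hφ : PrinPart.IsPMap (f ≫ g) f (𝟙 X) n φ) : Epi φ := by
  refine epi_of_IsPMap (f ≫ g) f (𝟙 X) n φ hφ
    (fun W => IsAffineOpen W ∧ ∃ V : Y.Opens, IsAffineOpen V ∧ W ≤ f ⁻¹ᵁ V) ?_ ?_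
  · intro O x hx
    obtain ⟨V, hV, hxV, -⟩ := exists_isAffineOpen_mem_and_subset (x := f x) (U := ⊤) trivial
    obtain ⟨W, hW, hxW, hWle⟩ :=
      exists_isAffineOpen_mem_and_subset (x := x) (U := O ⊓ f ⁻¹ᵁ V) ⟨hx, hxV⟩
    exact ⟨W, ⟨hW, V, hV, hWle.trans inf_le_right⟩, hxW, hWle.trans inf_le_left⟩
  · rintro W ⟨hW, V, hV, hWV⟩
    refine ⟨W, rfl, ?_, fun z => gen_P f n hW hV hWV z⟩
    intro b
    exact ⟨b, rfl⟩

theorem main5977 {X Y Z : Scheme.{u}} (f : Y ⟶ Z) (j : X ⟶ Y) [IsClosedImmersion j] (n : ℕ)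
    (φ : (Scheme.Modules.pullback j).obj (PrinPart.P f n) ⟶ PrinPart.P (j ≫ f) n)
    (hφ : PrinPart.IsPMap f (j ≫ f) j n φ) : Epi φ := by
  refine epi_of_IsPMap f (j ≫ f) j n φ hφ
    (fun W => ∃ (U : Y.Opens) (V : Z.Opens), IsAffineOpen U ∧ IsAffineOpen V ∧ U ≤ f ⁻¹ᵁ V ∧
      W = j ⁻¹ᵁ U) ?_ ?_
  · intro O x hx
    obtain ⟨O', hO', hOeq⟩ := j.isEmbedding.isInducing.isOpen_iff.mp O.isOpen
    have hjx : j x ∈ O' := by
      have h : x ∈ j ⁻¹' O' := by rw [hOeq]; exact hx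
      exact h
    obtain ⟨V, hV, hxV, -⟩ :=
      exists_isAffineOpen_mem_and_subset (x := f (j x)) (U := ⊤) trivial
    obtain ⟨U, hU, hxU, hUle⟩ := exists_isAffineOpen_mem_and_subset (x := j x)
      (U := (⟨O', hO'⟩ : Y.Opens) ⊓ f ⁻¹ᵁ V) ⟨hjx, hxV⟩
    refine ⟨j ⁻¹ᵁ U, ⟨U, V, hU, hV, hUle.trans inf_le_right, rfl⟩, hxU, ?_⟩
    intro y hy
    have h1 : j y ∈ O' := (hUle hy).1
    have h2 : y ∈ j ⁻¹' O' := h1
    rw [hOeq] at h2
    exact h2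
  · rintro W ⟨U, V, hU, hV, hUV, rfl⟩
    refine ⟨U, rfl, j.app_surjective U hU,
      fun z => gen_P (j ≫ f) n (hU.preimage j) hV (fun y hy => hUV hy) z⟩

end Groth.Agent.Lib.PPAffH7
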