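import Mathlib
import Groth.Prelude
import Groth.Agent.Lib.PPAff2_helper7

/-!
# Vanishing of products in the infinitesimal neighbourhoods of the diagonal; differential
operators of order `≤ 1` on the structure sheaf (helper7)
APPEND-ONLY once landed.
-/

set_option autoImplicit false
set_option linter.style.haveILetI false

universe u

noncomputable section

open CategoryTheory CategoryTheory.Limits AlgebraicGeometry Opposite TopologicalSpace

namespace Groth.Agent.Lib.PPAffH7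

open PrinPart

section Van

variable {X S : Scheme.{u}} (f : X ⟶ S) (n : ℕ)

theorem van_affine {U : X.Opens} {V : S.Opens} (hU : IsAffineOpen U) (hV : IsAffineOpen V)
    (hUV : U ≤ f ⁻¹ᵁ V) (a : Fin (n + 1) → Γ(X, U)) :
    ∏ i, ((pr2 f n).appLE U (pr1 f n ⁻¹ᵁ U) (preimage_pr1 f n U).le (a i) -
      (pr1 f n).appLE U (pr1 f n ⁻¹ᵁ U) le_rfl (a i)) = 0 := by
  obtain ⟨RC, j1, j2, ε, ν, hpo, h1, h2, hνs, hνk, hj1, hj2⟩ := geom (f := f) n hU hV hUV
  have hx : ∀ i, j2.hom (a i) - j1.hom (a i) ∈ RingHom.ker ε.hom := by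
    intro i
    rw [RingHom.mem_ker, map_sub]
    have e1 : ε.hom (j1.hom (a i)) = a i := congrArg (fun k => k.hom (a i)) h1
    have e2 : ε.hom (j2.hom (a i)) = a i := congrArg (fun k => k.hom (a i)) h2
    rw [e1, e2, sub_self]
  have hprod : ∏ i, (j2.hom (a i) - j1.hom (a i)) ∈ RingHom.ker ν.hom := by
    rw [hνk]
    have h := Ideal.prod_mem_prod (s := Finset.univ)
      (I := fun _ : Fin (n + 1) => RingHom.ker ε.hom)
      (x := fun i => j2.hom (a i) - j1.hom (a i)) (fun i _ => hx i)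
    rwa [Finset.prod_const, Finset.card_univ, Fintype.card_fin] at h
  rw [RingHom.mem_ker, map_prod] at hprod
  rw [← hprod]
  refine Finset.prod_congr rfl (fun i _ => ?_)
  rw [map_sub]
  have e1 : ν.hom (j1.hom (a i)) = (pr1 f n).appLE U (pr1 f n ⁻¹ᵁ U) le_rfl (a i) :=
    congrArg (fun k => k.hom (a i)) hj1
  have e2 : ν.hom (j2.hom (a i)) =
      (pr2 f n).appLE U (pr1 f n ⁻¹ᵁ U) (preimage_pr1 f n U).le (a i) :=
    congrArg (fun k => k.hom (a i)) hj2
  rw [e1, e2]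

/-- A product of `n + 1` differences `pr₂♯ a − pr₁♯ a` vanishes on the `n`-th infinitesimal
neighbourhood of the diagonal. -/
theorem van (U : X.Opens) (a : Fin (n + 1) → Γ(X, U)) :
    ∏ i, ((pr2 f n).appLE U (pr1 f n ⁻¹ᵁ U) (preimage_pr1 f n U).le (a i) -
      (pr1 f n).appLE U (pr1 f n ⁻¹ᵁ U) le_rfl (a i)) = 0 := by
  let ι := {Uk : X.Opens // Uk ≤ U ∧ IsAffineOpen Uk ∧
    ∃ V : S.Opens, IsAffineOpen V ∧ Uk ≤ f ⁻¹ᵁ V}
  refine TopCat.Sheaf.eq_of_locally_eq' (nbhd f n).sheaf (fun k : ι => pr1 f n ⁻¹ᵁ k.1)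
    (pr1 f n ⁻¹ᵁ U) (fun k => homOfLE ((pr1 f n).preimage_mono k.2.1)) ?_ _ 0 ?_
  · intro y hy
    have hyU : pr1 f n y ∈ U := hy
    obtain ⟨V, hV, hxV, -⟩ :=
      exists_isAffineOpen_mem_and_subset (x := f (pr1 f n y)) (U := ⊤) trivial
    obtain ⟨Uk, hUk, hxUk, hle⟩ := exists_isAffineOpen_mem_and_subset (x := pr1 f n y)
      (U := U ⊓ f ⁻¹ᵁ V) ⟨hyU, hxV⟩
    exact Opens.mem_iSup.mpr
      ⟨⟨Uk, hle.trans inf_le_left, hUk, V, hV, hle.trans inf_le_right⟩, hxUk⟩
  · rintro ⟨Uk, hle, hUk, V, hV, hUkV⟩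
    have h0 := van_affine f n hUk hV hUkV (fun i => X.presheaf.map (homOfLE hle).op (a i))
    show ((nbhd f n).presheaf.map (homOfLE ((pr1 f n).preimage_mono hle)).op).hom
        (∏ i, ((pr2 f n).appLE U (pr1 f n ⁻¹ᵁ U) (preimage_pr1 f n U).le (a i) -
          (pr1 f n).appLE U (pr1 f n ⁻¹ᵁ U) le_rfl (a i))) =
      ((nbhd f n).presheaf.map (homOfLE ((pr1 f n).preimage_mono hle)).op).hom 0
    rw [map_zero, map_prod, ← h0]
    refine Finset.prod_congr rfl (fun i _ => ?_)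
    rw [map_sub]
    congr 1
    · have h1 := Scheme.Hom.appLE_map (pr2 f n) (preimage_pr1 f n U).le
        (homOfLE ((pr1 f n).preimage_mono hle)).op
      have h2 := Scheme.Hom.map_appLE (pr2 f n) (preimage_pr1 f n Uk).le (homOfLE hle).op
      exact (congrArg (fun k => k.hom (a i)) h1).trans
        (congrArg (fun k => k.hom (a i)) h2).symm
    · have h1 := Scheme.Hom.appLE_map (pr1 f n) (le_refl (pr1 f n ⁻¹ᵁ U))
        (homOfLE ((pr1 f n).preimage_mono hle)).op
      have h2 := Scheme.Hom.map_appLE (pr1 f n) (le_refl (pr1 f n ⁻¹ᵁ Uk)) (homOfLE hle).op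
      exact (congrArg (fun k => k.hom (a i)) h1).trans
        (congrArg (fun k => k.hom (a i)) h2).symm

theorem thetaP_del (U : X.Opens) (x : Γ(X, U)) :
    thetaP f n U (dn f n U x - x • dn f n U 1) =
      (pr2 f n).appLE U (pr1 f n ⁻¹ᵁ U) (preimage_pr1 f n U).le x - (pr1 f n).app U x := by
  rw [map_sub, thetaP_smul, thetaP_dn, thetaP_dn, map_one, mul_one]

theorem del_mul (U : X.Opens) (a b : Γ(X, U)) :
    dn f 1 U (a * b) - (a * b) • dn f 1 U 1 =
      a • (dn f 1 U b - b • dn f 1 U 1) + b • (dn f 1 U a - a • dn f 1 U 1) := by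
  apply (thetaP f 1 U).injective
  rw [map_add, thetaP_smul, thetaP_smul, thetaP_del, thetaP_del, thetaP_del]
  have h := van f 1 U ![a, b]
  rw [Fin.prod_univ_two] at h
  simp only [Matrix.cons_val_zero, Matrix.cons_val_one] at h
  have e : (pr1 f 1).appLE U (pr1 f 1 ⁻¹ᵁ U) le_rfl = (pr1 f 1).app U := (pr1 f 1).appLE_eq_app
  rw [e] at h
  rw [map_mul, map_mul]
  linear_combination h

theorem dn_base {V : S.Opens} (c : Γ(S, V)) :
    dn f n (f ⁻¹ᵁ V) (f.app V c) = (f.app V c) • dn f n (f ⁻¹ᵁ V) 1 := by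
  apply (thetaP f n (f ⁻¹ᵁ V)).injective
  rw [thetaP_smul, thetaP_dn, thetaP_dn, map_one, mul_one]
  have e2 : pr1 f n ⁻¹ᵁ (f ⁻¹ᵁ V) ≤ pr2 f n ⁻¹ᵁ (f ⁻¹ᵁ V) := (preimage_pr1 f n _).le
  have h2 : f.app V ≫ (pr2 f n).appLE (f ⁻¹ᵁ V) (pr1 f n ⁻¹ᵁ (f ⁻¹ᵁ V)) e2 =
      (pr2 f n ≫ f).appLE V (pr1 f n ⁻¹ᵁ (f ⁻¹ᵁ V)) e2 :=
    (Scheme.Hom.comp_appLE (pr2 f n) f V _ e2).symm
  have h1 : f.app V ≫ (pr1 f n).appLE (f ⁻¹ᵁ V) (pr1 f n ⁻¹ᵁ (f ⁻¹ᵁ V)) le_rfl =
      (pr1 f n ≫ f).appLE V (pr1 f n ⁻¹ᵁ (f ⁻¹ᵁ V)) le_rfl :=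
    (Scheme.Hom.comp_appLE (pr1 f n) f V _ le_rfl).symm
  have h3 : (pr2 f n ≫ f).appLE V (pr1 f n ⁻¹ᵁ (f ⁻¹ᵁ V)) e2 =
      (pr1 f n ≫ f).appLE V (pr1 f n ⁻¹ᵁ (f ⁻¹ᵁ V)) le_rfl :=
    OmegaSh.appLE_congr_hom (pr1_comp f n).symm _ _
  have e : (pr1 f n).appLE (f ⁻¹ᵁ V) (pr1 f n ⁻¹ᵁ (f ⁻¹ᵁ V)) le_rfl =
      (pr1 f n).app (f ⁻¹ᵁ V) := (pr1 f n).appLE_eq_app
  rw [e] at h1
  exact congrArg (fun k => k.hom c) (h2.trans (h3.trans h1.symm))

end Van

section Der1

variable {X S : Scheme.{u}} (f : X ⟶ S) (G : X.Modules)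
  (D : (Coh.structureModule X).presheaf ⟶ G.presheaf)

theorem D_res {U V : X.Opens} (i : V ⟶ U) (a : Γ(X, U)) :
    D.app (op V) (OmegaSh.strSect X V (X.presheaf.map i.op a)) =
      G.presheaf.map i.op (D.app (op U) (OmegaSh.strSect X U a)) := by
  have h := congrArg (fun k => k.hom (OmegaSh.strSect X U a)) (D.naturality i.op)
  exact h

/-- The global section `D(1)`. -/
def sec1 : G.sections :=
  PresheafOfModules.sectionsMk (fun W => D.app W (OmegaSh.strSect X W.unop 1))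
    (fun W _ i => by
      have h := D_res G D i.unop (1 : Γ(X, W.unop))
      rw [map_one] at h
      exact h.symm)

/-- The `O_X`-linear map `a ↦ a • D(1)`. -/
def vOf : Coh.structureModule X ⟶ G := (SheafOfModules.unitHomEquiv G).symm (sec1 G D)

theorem unitHomEquiv_vOf : SheafOfModules.unitHomEquiv G (vOf G D) = sec1 G D :=
  Equiv.apply_symm_apply _ _

theorem vOf_one (U : X.Opens) :
    (vOf G D).app U (OmegaSh.strSect X U 1) = D.app (op U) (OmegaSh.strSect X U 1) := by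
  have h2 := congrArg (fun s => s.val (op U)) (unitHomEquiv_vOf G D)
  exact h2

theorem strSect_eq_smul (U : X.Opens) (a : Γ(X, U)) :
    OmegaSh.strSect X U a = a • OmegaSh.strSect X U 1 := by
  have e : OmegaSh.strSect X U (a * 1) = a • OmegaSh.strSect X U 1 := rfl
  rw [← e, mul_one]

theorem vOf_app (U : X.Opens) (a : Γ(X, U)) :
    (vOf G D).app U (OmegaSh.strSect X U a) = a • D.app (op U) (OmegaSh.strSect X U 1) := by
  rw [strSect_eq_smul U a, Scheme.Modules.Hom.app_smul, vOf_one]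

/-- `a ↦ D a − a • D 1`. -/
def dFun (W : X.Opens) : Γ(X, W) →+ Γ(G, W) :=
  (D.app (op W)).hom.comp (OmegaSh.strSect X W) -
    ((vOf G D).app W).hom.comp (OmegaSh.strSect X W)

theorem dFun_apply (W : X.Opens) (a : Γ(X, W)) :
    dFun G D W a = D.app (op W) (OmegaSh.strSect X W a) -
      (vOf G D).app W (OmegaSh.strSect X W a) := rfl

variable (u : PMod f 1 (Coh.structureModule X) ⟶ G)
  (hu : ∀ (U : X.Opens) (t : Γ(Coh.structureModule X, U)),
    D.app (op U) t = u.app U (dP f 1 (Coh.structureModule X) U t))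

include hu in
theorem dFun_eq (W : X.Opens) (a : Γ(X, W)) :
    dFun G D W a = u.app W (dn f 1 W a - a • dn f 1 W 1) := by
  rw [dFun_apply, vOf_app, hu, hu, map_sub, Scheme.Modules.Hom.app_smul]
  rfl

include hu in
theorem dFun_mul (W : X.Opens) (a b : Γ(X, W)) :
    dFun G D W (a * b) = a • dFun G D W b + b • dFun G D W a := by
  rw [dFun_eq f G D u hu, dFun_eq f G D u hu, dFun_eq f G D u hu, del_mul, map_add,
    Scheme.Modules.Hom.app_smul, Scheme.Modules.Hom.app_smul]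

theorem dFun_map {U V : X.Opens} (i : V ⟶ U) (a : Γ(X, U)) :
    dFun G D V (X.presheaf.map i.op a) = G.presheaf.map i.op (dFun G D U a) := by
  rw [dFun_apply, dFun_apply, map_sub, D_res]
  congr 1
  exact app_naturality' (vOf G D) i (OmegaSh.strSect X U a)

include hu in
theorem dFun_base (V : S.Opens) (c : Γ(S, V)) : dFun G D (f ⁻¹ᵁ V) (f.app V c) = 0 := by
  rw [dFun_eq f G D u hu, dn_base, sub_self, map_zero]

/-- The derivation `a ↦ D a − a • D 1` attached to a differential operator of order `≤ 1`. -/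
def dOf : OmegaSh.Der f G where
  d {W} := dFun G D W.unop
  d_mul {W} a b := dFun_mul f G D u hu W.unop a b
  d_map {W W'} i a := dFun_map G D i.unop a
  d_app {V} c := dFun_base f G D u hu V.unop c

theorem main5961 (hD : PrinPart.IsDiffOpLE f (Coh.structureModule X) G 1 D) :
    ∃! p : (Coh.structureModule X ⟶ G) × OmegaSh.Der f G,
      ∀ (U : X.Opens) (a : Γ(X, U)),
        D.app (op U) (OmegaSh.strSect X U a) =
          p.1.app U (OmegaSh.strSect X U a) + p.2.app U a := by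
  obtain ⟨u, hu⟩ := hD
  refine ⟨(vOf G D, dOf f G D u hu), ?_, ?_⟩
  · intro U a
    show D.app (op U) (OmegaSh.strSect X U a) =
      (vOf G D).app U (OmegaSh.strSect X U a) + dFun G D U a
    rw [dFun_apply]
    abel
  · rintro ⟨v', d'⟩ h'
    have h'' : ∀ (U : X.Opens) (a : Γ(X, U)), D.app (op U) (OmegaSh.strSect X U a) =
        v'.app U (OmegaSh.strSect X U a) + d'.app U a := h'
    have hv1 : ∀ U : X.Opens,
        v'.app U (OmegaSh.strSect X U 1) = D.app (op U) (OmegaSh.strSect X U 1) := by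
      intro U
      have h := h'' U 1
      have hd : d'.app U 1 = 0 := by
        rw [OmegaSh.Der.app_apply]
        exact d'.d_one (op U)
      rw [hd, add_zero] at h
      exact h.symm
    have hv : v' = vOf G D := by
      apply (SheafOfModules.unitHomEquiv G).injective
      rw [unitHomEquiv_vOf]
      apply PresheafOfModules.sections_ext
      intro W
      exact hv1 W.unop
    subst hv
    have hd : d' = dOf f G D u hu := by
      refine PresheafOfModules.Derivation.ext (funext fun W => AddMonoidHom.ext fun a => ?_)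
      have h := h'' W.unop a
      show d'.d a = dFun G D W.unop a
      rw [dFun_apply, h, OmegaSh.Der.app_apply]
      abel
    rw [hd]

end Der1

end Groth.Agent.Lib.PPAffH7
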