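import Mathlib
import Groth.Prelude
import Groth.Agent.Lib.ConormBC2_helper7

/-!
# Base change of principal parts: the pushout algebra (helper7)
APPEND-ONLY once landed.
-/

set_option autoImplicit false
set_option linter.style.haveILetI false

universe u

noncomputable section

open CategoryTheory CategoryTheory.Limits

namespace Groth.Agent.Lib.PPBCH7

/-- Two surjections whose kernels correspond under extension form a pushout square. -/
theorem isPushout_of_ker_eq_map {R R' Q Q' : CommRingCat.{u}} (ν : R ⟶ Q) (m : R ⟶ R')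
    (ν' : R' ⟶ Q') (hν : Function.Surjective ν.hom) (hν' : Function.Surjective ν'.hom)
    (hker : RingHom.ker ν'.hom = Ideal.map m.hom (RingHom.ker ν.hom)) :
    ∃ q : Q ⟶ Q', IsPushout ν m q ν' := by
  have hle : RingHom.ker ν.hom ≤ RingHom.ker (ν'.hom.comp m.hom) := by
    intro x hx
    rw [RingHom.mem_ker, RingHom.comp_apply, ← RingHom.mem_ker, hker]
    exact Ideal.mem_map_of_mem _ hx
  let q0 : Q →+* Q' := (ν.hom.liftOfSurjective hν) ⟨ν'.hom.comp m.hom, hle⟩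
  have hq0 : ∀ x, q0 (ν.hom x) = ν'.hom (m.hom x) := fun x =>
    RingHom.liftOfSurjective_comp_apply ν.hom hν ⟨ν'.hom.comp m.hom, hle⟩ x
  have hw : ν ≫ CommRingCat.ofHom q0 = m ≫ ν' := by
    ext x
    exact hq0 x
  refine ⟨CommRingCat.ofHom q0, IsPushout.of_isColimit' ⟨hw⟩ ?_⟩
  have hles : ∀ s : PushoutCocone ν m, RingHom.ker ν'.hom ≤ RingHom.ker s.inr.hom := by
    intro s
    rw [hker, Ideal.map_le_iff_le_comap]
    intro x hx
    have hx0 : ν.hom x = 0 := hx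
    have h1 : s.inl.hom (ν.hom x) = s.inr.hom (m.hom x) :=
      congrArg (fun k => k.hom x) s.condition
    rw [Ideal.mem_comap, RingHom.mem_ker, ← h1, hx0, map_zero]
  let d : ∀ s : PushoutCocone ν m, Q' →+* s.pt := fun s =>
    (ν'.hom.liftOfSurjective hν') ⟨s.inr.hom, hles s⟩
  have hd : ∀ (s : PushoutCocone ν m) (y : R'), d s (ν'.hom y) = s.inr.hom y := fun s y =>
    RingHom.liftOfSurjective_comp_apply ν'.hom hν' ⟨s.inr.hom, hles s⟩ y
  refine PushoutCocone.IsColimit.mk _ (fun s => CommRingCat.ofHom (d s)) (fun s => ?_)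
    (fun s => ?_) (fun s l _ hl => ?_)
  · ext y
    obtain ⟨x, rfl⟩ := hν y
    show d s (q0 (ν.hom x)) = s.inl.hom (ν.hom x)
    rw [hq0, hd]
    exact (congrArg (fun k => k.hom x) s.condition).symm
  · ext y
    exact hd s y
  · ext y
    obtain ⟨x, rfl⟩ := hν' y
    show l.hom (ν'.hom x) = d s (ν'.hom x)
    rw [hd]
    exact congrArg (fun k => k.hom x) hl

/-- The pushout algebra behind base change of principal parts. -/
theorem alg_bc {A B A' B' RC RC' Q Q' : CommRingCat.{u}} (β : A ⟶ B) (α : A ⟶ A')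
    (γ : B ⟶ B') (β' : A' ⟶ B') (hpo : IsPushout β α γ β')
    (j1 j2 : B ⟶ RC) (ε : RC ⟶ B) (ν : RC ⟶ Q) (hRC : IsPushout β β j1 j2)
    (h1 : j1 ≫ ε = 𝟙 _) (h2 : j2 ≫ ε = 𝟙 _) (hνs : Function.Surjective ν.hom) (n : ℕ)
    (hνk : RingHom.ker ν.hom = RingHom.ker ε.hom ^ (n + 1))
    (j1' j2' : B' ⟶ RC') (ε' : RC' ⟶ B') (ν' : RC' ⟶ Q') (hRC' : IsPushout β' β' j1' j2')
    (h1' : j1' ≫ ε' = 𝟙 _) (h2' : j2' ≫ ε' = 𝟙 _) (hνs' : Function.Surjective ν'.hom)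
    (hνk' : RingHom.ker ν'.hom = RingHom.ker ε'.hom ^ (n + 1)) :
    ∃ q : Q ⟶ Q', IsPushout γ (j1 ≫ ν) (j1' ≫ ν') q ∧ γ ≫ j2' ≫ ν' = (j2 ≫ ν) ≫ q := by
  have hm0 : β ≫ γ ≫ j1' = β ≫ γ ≫ j2' := by
    have e1 : β ≫ γ ≫ j1' = α ≫ β' ≫ j1' := by rw [← Category.assoc, hpo.w, Category.assoc]
    have e2 : β ≫ γ ≫ j2' = α ≫ β' ≫ j2' := by rw [← Category.assoc, hpo.w, Category.assoc]
    rw [e1, e2, hRC'.w]
  let m : RC ⟶ RC' := hRC.desc (γ ≫ j1') (γ ≫ j2') hm0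
  have hm1 : j1 ≫ m = γ ≫ j1' := hRC.inl_desc _ _ _
  have hm2 : j2 ≫ m = γ ≫ j2' := hRC.inr_desc _ _ _
  have hP1 : IsPushout β (α ≫ β') (γ ≫ j2') j1' := hpo.paste_vert hRC'.flip
  have hP2 : IsPushout (β ≫ γ) β j1' (j2 ≫ m) := by
    rw [hm2, hpo.w]
    exact hP1.flip
  have hL : IsPushout γ j1 j1' m := IsPushout.of_left hP2 hm1.symm hRC
  have hε : ε ≫ γ = m ≫ ε' := by
    apply hRC.hom_ext
    · calc j1 ≫ ε ≫ γ = (j1 ≫ ε) ≫ γ := (Category.assoc _ _ _).symm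
        _ = γ := by rw [h1, Category.id_comp]
        _ = γ ≫ (j1' ≫ ε') := by rw [h1', Category.comp_id]
        _ = (γ ≫ j1') ≫ ε' := (Category.assoc _ _ _).symm
        _ = (j1 ≫ m) ≫ ε' := by rw [hm1]
        _ = j1 ≫ m ≫ ε' := Category.assoc _ _ _
    · calc j2 ≫ ε ≫ γ = (j2 ≫ ε) ≫ γ := (Category.assoc _ _ _).symm
        _ = γ := by rw [h2, Category.id_comp]
        _ = γ ≫ (j2' ≫ ε') := by rw [h2', Category.comp_id]
        _ = (γ ≫ j2') ≫ ε' := (Category.assoc _ _ _).symm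
        _ = (j2 ≫ m) ≫ ε' := by rw [hm2]
        _ = j2 ≫ m ≫ ε' := Category.assoc _ _ _
  have hP3 : IsPushout (j1 ≫ ε) γ γ (j1' ≫ ε') := by
    rw [h1, h1']
    exact IsPushout.id_horiz γ
  have hR : IsPushout ε m γ ε' := IsPushout.of_left hP3 hε hL.flip
  have hεs : Function.Surjective ε.hom := fun b =>
    ⟨j1.hom b, congrArg (fun k => k.hom b) h1⟩
  have hkε : RingHom.ker ε'.hom = Ideal.map m.hom (RingHom.ker ε.hom) :=
    Groth.Agent.Lib.ConormBCH7.ker_eq_map_of_isPushout m ε ε' γ hR.flip hεs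
  have hkν : RingHom.ker ν'.hom = Ideal.map m.hom (RingHom.ker ν.hom) := by
    rw [hνk', hkε, hνk, Ideal.map_pow]
  obtain ⟨q, hQ⟩ := isPushout_of_ker_eq_map ν m ν' hνs hνs' hkν
  refine ⟨q, ?_, ?_⟩
  · have h := hL.flip.paste_horiz hQ
    exact h.flip
  · have hw : ν ≫ q = m ≫ ν' := hQ.w
    calc γ ≫ j2' ≫ ν' = (γ ≫ j2') ≫ ν' := (Category.assoc _ _ _).symm
      _ = (j2 ≫ m) ≫ ν' := by rw [hm2]
      _ = j2 ≫ (m ≫ ν') := Category.assoc _ _ _
      _ = j2 ≫ (ν ≫ q) := by rw [hw]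
      _ = (j2 ≫ ν) ≫ q := (Category.assoc _ _ _).symm

end Groth.Agent.Lib.PPBCH7
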