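import Mathlib
import Groth.Prelude
import Groth.Agent.Lib.PPBC1_helper7
import Groth.Agent.Lib.PPAff2_helper7
import Groth.Agent.Lib.AffBC2_helper8
import Groth.Agent.Lib.QCohCrit2_helper9
import Groth.Agent.Lib.PnQCoh_lead

/-!
# Base change of the sheaves of principal parts (helper7)
APPEND-ONLY once landed.
-/

set_option autoImplicit false
set_option linter.style.haveILetI false

universe u

noncomputable section

open CategoryTheory CategoryTheory.Limits AlgebraicGeometry Opposite TopologicalSpace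

namespace Groth.Agent.Lib.PPBCH7

open PrinPart Groth.Agent.Lib.PPAffH7

section Res

variable {X S : Scheme.{u}} (f : X ⟶ S) (n : ℕ)

theorem dn_res {U V : X.Opens} (e : V ≤ U) (a : Γ(X, U)) :
    dn f n V (X.presheaf.map (homOfLE e).op a) =
      (P f n).presheaf.map (homOfLE e).op (dn f n U a) :=
  dP_map f n (Coh.structureModule X) e (OmegaSh.strSect X U a)

theorem cUV_zero' {X Y : Scheme.{u}} (f : X ⟶ Y) (F : Y.Modules) {U : X.Opens} {V : Y.Opens}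
    (h : U ≤ f ⁻¹ᵁ V) : PBH8.cUV f F h 0 = 0 := by
  have h1 := PBH8.cUV_add f F h 0 0
  rw [add_zero] at h1
  exact add_left_cancel (a := PBH8.cUV f F h 0) (by rw [add_zero]; exact h1.symm)

end Res

section Loc

variable {X S X' S' : Scheme.{u}} (f : X ⟶ S) (f' : X' ⟶ S') (u : X' ⟶ X) (n : ℕ)
  (φ : (Scheme.Modules.pullback u).obj (P f n) ⟶ P f' n) (hφ : IsPMap f f' u n φ)
  {U : X.Opens} {U' : X'.Opens} (hU'U : U' ≤ u ⁻¹ᵁ U)

include hφ in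
theorem phi_cUV_dn (b : Γ(X, U)) :
    φ.app U' (PBH8.cUV u (P f n) hU'U (dn f n U b)) = dn f' n U' (u.appLE U U' hU'U b) := by
  have h2 := app_naturality' φ (homOfLE hU'U) (OmegaSh.pullSect u (P f n) U (dn f n U b))
  have h3 : φ.app (u ⁻¹ᵁ U) (OmegaSh.pullSect u (P f n) U (dn f n U b)) =
      dn f' n (u ⁻¹ᵁ U) (u.app U b) := hφ U b
  have h4 := h2.trans (congrArg (fun z => (P f' n).presheaf.map (homOfLE hU'U).op z) h3)
  exact h4.trans (dn_res f' n hU'U (u.app U b)).symm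

include hφ in
theorem hcomp (hU : IsAffineOpen U) {V : S.Opens} (hV : IsAffineOpen V) (hUV : U ≤ f ⁻¹ᵁ V)
    (q : Γ(nbhd f n, pr1 f n ⁻¹ᵁ U) ⟶ Γ(nbhd f' n, pr1 f' n ⁻¹ᵁ U'))
    (hq1 : u.appLE U U' hU'U ≫ (pr1 f' n).app U' = (pr1 f n).app U ≫ q)
    (hq2 : u.appLE U U' hU'U ≫
        (pr2 f' n).appLE U' (pr1 f' n ⁻¹ᵁ U') (preimage_pr1 f' n U').le =
      (pr2 f n).appLE U (pr1 f n ⁻¹ᵁ U) (preimage_pr1 f n U).le ≫ q)
    (x : Γ(P f n, U)) :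
    thetaP f' n U' (φ.app U' (PBH8.cUV u (P f n) hU'U x)) = q.hom (thetaP f n U x) := by
  have hx := gen_P f n hU hV hUV x
  induction hx using Submodule.span_induction with
  | mem x hx =>
    obtain ⟨b, rfl⟩ := hx
    rw [phi_cUV_dn f f' u n φ hφ hU'U b, thetaP_dn, thetaP_dn]
    exact congrArg (fun k => k.hom b) hq2
  | zero =>
    have e0 : PBH8.cUV u (P f n) hU'U (0 : Γ(P f n, U)) = 0 := cUV_zero' u (P f n) hU'U
    have e1 : φ.app U' (0 : Γ((Scheme.Modules.pullback u).obj (P f n), U')) = 0 := map_zero _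
    rw [e0, e1, map_zero, map_zero, map_zero]
  | add x y _ _ hx hy =>
    have e0 := PBH8.cUV_add u (P f n) hU'U x y
    have e1 : φ.app U' (PBH8.cUV u (P f n) hU'U x + PBH8.cUV u (P f n) hU'U y) =
        φ.app U' (PBH8.cUV u (P f n) hU'U x) + φ.app U' (PBH8.cUV u (P f n) hU'U y) :=
      map_add _ _ _
    rw [e0, e1, map_add, hx, hy, map_add, map_add]
  | smul b x _ hx =>
    have e0 := PBH8.cUV_smul u (P f n) hU'U b x
    have e1 : φ.app U' ((u.appLE U U' hU'U b) • PBH8.cUV u (P f n) hU'U x) =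
        (u.appLE U U' hU'U b) • φ.app U' (PBH8.cUV u (P f n) hU'U x) :=
      Scheme.Modules.Hom.app_smul _ _ _
    rw [e0, e1, thetaP_smul, hx, thetaP_smul, map_mul]
    congr 1
    exact congrArg (fun k => k.hom b) hq1

theorem bij (hU : IsAffineOpen U) (hU' : IsAffineOpen U')
    (q : Γ(nbhd f n, pr1 f n ⁻¹ᵁ U) ⟶ Γ(nbhd f' n, pr1 f' n ⁻¹ᵁ U'))
    (hpoQ : IsPushout (u.appLE U U' hU'U) ((pr1 f n).app U) ((pr1 f' n).app U') q)
    (hc : ∀ x : Γ(P f n, U),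
      thetaP f' n U' (φ.app U' (PBH8.cUV u (P f n) hU'U x)) = q.hom (thetaP f n U x)) :
    Function.Bijective (φ.app U') := by
  haveI : (P f n).IsQuasicoherent :=
    Groth.Agent.Lib.PnQCohL.main f n (Coh.structureModule X) inferInstance
  letI algBB' : Algebra Γ(X, U) Γ(X', U') := (u.appLE U U' hU'U).hom.toAlgebra
  letI algBQ : Algebra Γ(X, U) Γ(nbhd f n, pr1 f n ⁻¹ᵁ U) := ((pr1 f n).app U).hom.toAlgebra
  letI algB'Q' : Algebra Γ(X', U') Γ(nbhd f' n, pr1 f' n ⁻¹ᵁ U') :=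
    ((pr1 f' n).app U').hom.toAlgebra
  letI algQQ' : Algebra Γ(nbhd f n, pr1 f n ⁻¹ᵁ U) Γ(nbhd f' n, pr1 f' n ⁻¹ᵁ U') :=
    q.hom.toAlgebra
  letI algBQ' : Algebra Γ(X, U) Γ(nbhd f' n, pr1 f' n ⁻¹ᵁ U') :=
    (((pr1 f' n).app U').hom.comp (u.appLE U U' hU'U).hom).toAlgebra
  haveI : IsScalarTower Γ(X, U) Γ(X', U') Γ(nbhd f' n, pr1 f' n ⁻¹ᵁ U') :=
    IsScalarTower.of_algebraMap_eq' rfl
  haveI : IsScalarTower Γ(X, U) Γ(nbhd f n, pr1 f n ⁻¹ᵁ U) Γ(nbhd f' n, pr1 f' n ⁻¹ᵁ U') := by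
    refine IsScalarTower.of_algebraMap_eq' ?_
    change ((pr1 f' n).app U').hom.comp (u.appLE U U' hU'U).hom =
      q.hom.comp ((pr1 f n).app U).hom
    rw [← CommRingCat.hom_comp, ← CommRingCat.hom_comp]
    congr 1
    exact hpoQ.w
  haveI hAP : Algebra.IsPushout Γ(X, U) Γ(X', U') Γ(nbhd f n, pr1 f n ⁻¹ᵁ U)
      Γ(nbhd f' n, pr1 f' n ⁻¹ᵁ U') :=
    CommRingCat.isPushout_iff_isPushout.mp hpoQ
  have bcQ : IsBaseChange Γ(X', U') (IsScalarTower.toAlgHom Γ(X, U)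
      Γ(nbhd f n, pr1 f n ⁻¹ᵁ U) Γ(nbhd f' n, pr1 f' n ⁻¹ᵁ U')).toLinearMap := hAP.out
  letI mBM1 : Module Γ(X, U) Γ((Scheme.Modules.pullback u).obj (P f n), U') :=
    Module.compHom _ (u.appLE U U' hU'U).hom
  haveI : IsScalarTower Γ(X, U) Γ(X', U') Γ((Scheme.Modules.pullback u).obj (P f n), U') :=
    IsScalarTower.of_algebraMap_smul fun _ _ => rfl
  have bc₁ := PBH8.isBaseChange_cUV u (P f n) hU'U hU' hU
  let E₁ := bc₁.equiv
  let E₂ := bcQ.equiv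
  let θₗ : Γ(P f n, U) ≃ₗ[Γ(X, U)] Γ(nbhd f n, pr1 f n ⁻¹ᵁ U) :=
    { (thetaP f n U) with
      map_smul' := fun b x => by
        show thetaP f n U (b • x) = b • thetaP f n U x
        rw [thetaP_smul, Algebra.smul_def]
        rfl }
  let T := LinearEquiv.lTensor Γ(X', U') θₗ
  have key : ∀ z : TensorProduct Γ(X, U) Γ(X', U') Γ(P f n, U),
      thetaP f' n U' (φ.app U' (E₁ z)) = E₂ (T z) := by
    intro z
    induction z using TensorProduct.induction_on with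
    | zero =>
      have a1 : E₁ 0 = 0 := map_zero _
      have a2 : φ.app U' (0 : Γ((Scheme.Modules.pullback u).obj (P f n), U')) = 0 := map_zero _
      have a3 : T 0 = 0 := map_zero _
      rw [a1, a2, a3, map_zero, map_zero]
    | tmul b' x =>
      have e1 : E₁ (b' ⊗ₜ x) = b' • PBH8.cUVLin u (P f n) hU'U x := bc₁.equiv_tmul b' x
      have e2 : T (b' ⊗ₜ x) = b' ⊗ₜ θₗ x := LinearEquiv.lTensor_tmul _ _ _ _
      have e3 : E₂ (b' ⊗ₜ θₗ x) = b' • (IsScalarTower.toAlgHom Γ(X, U)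
          Γ(nbhd f n, pr1 f n ⁻¹ᵁ U) Γ(nbhd f' n, pr1 f' n ⁻¹ᵁ U')).toLinearMap (θₗ x) :=
        bcQ.equiv_tmul b' _
      have e4 : φ.app U' (b' • PBH8.cUVLin u (P f n) hU'U x) =
          b' • φ.app U' (PBH8.cUV u (P f n) hU'U x) := Scheme.Modules.Hom.app_smul _ _ _
      rw [e1, e2, e3, e4, thetaP_smul, hc x, Algebra.smul_def]
      rfl
    | add z w hz hw =>
      have a1 : E₁ (z + w) = E₁ z + E₁ w := map_add _ _ _
      have a2 : φ.app U' (E₁ z + E₁ w) = φ.app U' (E₁ z) + φ.app U' (E₁ w) := map_add _ _ _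
      have a3 : T (z + w) = T z + T w := map_add _ _ _
      rw [a1, a2, a3, map_add, map_add, hz, hw]
  have hfun : ⇑(φ.app U') = fun l => (thetaP f' n U').symm (E₂ (T (E₁.symm l))) := by
    funext l
    rw [← key, LinearEquiv.apply_symm_apply, AddEquiv.symm_apply_apply]
  rw [hfun]
  exact (thetaP f' n U').symm.bijective.comp
    ((E₂.bijective.comp T.bijective).comp E₁.symm.bijective)

end Loc

section Main

variable {X S X' S' : Scheme.{u}} (f : X ⟶ S) (g : S' ⟶ S) (u : X' ⟶ X) (f' : X' ⟶ S')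
  (hsq : IsPullback u f' f g) (n : ℕ)
  (φ : (Scheme.Modules.pullback u).obj (P f n) ⟶ P f' n) (hφ : IsPMap f f' u n φ)

include hsq hφ in
theorem loc_bij {V : S.Opens} {V' : S'.Opens} {U : X.Opens}
    (hV : IsAffineOpen V) (hV' : IsAffineOpen V') (hU : IsAffineOpen U) (hUV : U ≤ f ⁻¹ᵁ V)
    (hV'V : V' ≤ g ⁻¹ᵁ V) :
    Function.Bijective (φ.app (u ⁻¹ᵁ U ⊓ f' ⁻¹ᵁ V')) := by
  have hU'U : u ⁻¹ᵁ U ⊓ f' ⁻¹ᵁ V' ≤ u ⁻¹ᵁ U := inf_le_left
  have hU'V' : u ⁻¹ᵁ U ⊓ f' ⁻¹ᵁ V' ≤ f' ⁻¹ᵁ V' := inf_le_right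
  obtain ⟨hU', hpo⟩ := AffBCH8.affine_pushout' hsq hV hU hV' hUV hV'V hU'U hU'V' rfl
  obtain ⟨RC, j1, j2, ε, ν, hRC, h1, h2, hνs, hνk, hj1, hj2⟩ := geom (f := f) n hU hV hUV
  obtain ⟨RC', j1', j2', ε', ν', hRC', h1', h2', hνs', hνk', hj1', hj2'⟩ :=
    geom (f := f') n hU' hV' hU'V'
  obtain ⟨q, hpoQ, hq2⟩ := alg_bc _ _ _ _ hpo j1 j2 ε ν hRC h1 h2 hνs n hνk j1' j2' ε' ν' hRC'
    h1' h2' hνs' hνk'
  rw [hj1, hj1', (pr1 f n).appLE_eq_app, (pr1 f' n).appLE_eq_app] at hpoQ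
  rw [hj2', hj2] at hq2
  exact bij f f' u n φ hU'U hU hU' q hpoQ
    (hcomp f f' u n φ hφ hU'U hU hV hUV q hpoQ.w hq2)

include hsq hφ in
theorem main5954 : IsIso φ := by
  haveI : (P f n).IsQuasicoherent :=
    Groth.Agent.Lib.PnQCohL.main f n (Coh.structureModule X) inferInstance
  haveI : (P f' n).IsQuasicoherent :=
    Groth.Agent.Lib.PnQCohL.main f' n (Coh.structureModule X') inferInstance
  haveI : ((Scheme.Modules.pullback u).obj (P f n)).IsQuasicoherent :=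
    PBH8.isQuasicoherent_pullback u (P f n)
  let ι : Type u := {t : S.Opens × S'.Opens × X.Opens // IsAffineOpen t.1 ∧
    IsAffineOpen t.2.1 ∧ IsAffineOpen t.2.2 ∧ t.2.2 ≤ f ⁻¹ᵁ t.1 ∧ t.2.1 ≤ g ⁻¹ᵁ t.1}
  let 𝒰 : ι → X'.Opens := fun t => u ⁻¹ᵁ t.1.2.2 ⊓ f' ⁻¹ᵁ t.1.2.1
  refine QCohCrit.isIso_of_bijective_on_cover φ 𝒰 (fun t => ?_) ?_ (fun t => ?_)
  · obtain ⟨⟨V, V', U⟩, hV, hV', hU, hUV, hV'V⟩ := t
    exact (AffBCH8.affine_pushout' hsq hV hU hV' hUV hV'V inf_le_left inf_le_right rfl).1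
  · rw [eq_top_iff]
    intro x' _
    obtain ⟨V, hV, hxV, -⟩ :=
      exists_isAffineOpen_mem_and_subset (x := f (u x')) (U := ⊤) trivial
    have hfg : f (u x') = g (f' x') := by
      rw [← Scheme.Hom.comp_apply, ← Scheme.Hom.comp_apply, hsq.w]
    have hxV2 : f' x' ∈ g ⁻¹ᵁ V := by
      show g (f' x') ∈ V
      rw [← hfg]
      exact hxV
    obtain ⟨V', hV', hxV', hV'le⟩ :=
      exists_isAffineOpen_mem_and_subset (x := f' x') (U := g ⁻¹ᵁ V) hxV2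
    obtain ⟨U, hU, hxU, hUle⟩ :=
      exists_isAffineOpen_mem_and_subset (x := u x') (U := f ⁻¹ᵁ V) hxV
    exact Opens.mem_iSup.mpr ⟨⟨(V, V', U), hV, hV', hU, hUle, hV'le⟩, ⟨hxU, hxV'⟩⟩
  · obtain ⟨⟨V, V', U⟩, hV, hV', hU, hUV, hV'V⟩ := t
    exact loc_bij f g u f' hsq n φ hφ hV hV' hU hUV hV'V

end Main

end Groth.Agent.Lib.PPBCH7
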