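import Mathlib
import Groth.Prelude
import Groth.Agent.Lib.InfNbhd1_helper8
import Groth.Agent.Lib.PnQCoh_lead
import Groth.Agent.Lib.Fpqc1_helper8
import Groth.Agent.Lib.QCohCrit_helper9
import Groth.Agent.Lib.QCohFP2_helper9

/-!
# Finiteness of the sheaves of principal parts `P^n_{X/S}(F)` (helper7)
APPEND-ONLY once landed.
-/

set_option autoImplicit false
set_option linter.style.haveILetI false

universe u

open CategoryTheory CategoryTheory.Limits AlgebraicGeometry Opposite TopologicalSpace

namespace Groth.Agent.Lib.PPCohH7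

open PrinPart

section Gen

/-- If `f ≫ g` is locally of finite presentation and `g` is locally of finite type, then `f` is
locally of finite presentation. -/
theorem lfp_of_comp {X Y Z : Scheme.{u}} (f : X ⟶ Y) (g : Y ⟶ Z)
    [LocallyOfFinitePresentation (f ≫ g)] [LocallyOfFiniteType g] :
    LocallyOfFinitePresentation f := by
  rw [HasRingHomProperty.iff_exists_appLE (P := @LocallyOfFinitePresentation)
    (RingHom.finitePresentation_stableUnderComposition.stableUnderCompositionWithLocalizationAway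
      RingHom.finitePresentation_holdsForLocalizationAway).left]
  intro x
  obtain ⟨W, hW, hw, -⟩ := TopologicalSpace.Opens.isBasis_iff_nbhd.mp Z.isBasis_affineOpens
    (TopologicalSpace.Opens.mem_top (g (f x)))
  obtain ⟨V, hV, hv, eV⟩ := TopologicalSpace.Opens.isBasis_iff_nbhd.mp Y.isBasis_affineOpens
    (show f x ∈ g ⁻¹ᵁ W from hw)
  obtain ⟨U, hU, hu, eU⟩ := TopologicalSpace.Opens.isBasis_iff_nbhd.mp X.isBasis_affineOpens
    (show x ∈ f ⁻¹ᵁ V from hv)
  replace hW : IsAffineOpen W := hW
  replace hV : IsAffineOpen V := hV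
  replace hU : IsAffineOpen U := hU
  refine ⟨⟨V, hV⟩, ⟨U, hU⟩, hu, eU, ?_⟩
  have h1 : (g.appLE W V eV ≫ f.appLE V U eU).hom.FinitePresentation := by
    rw [Scheme.Hom.appLE_comp_appLE]
    exact HasRingHomProperty.appLE (P := @LocallyOfFinitePresentation) (f ≫ g) inferInstance
      ⟨W, hW⟩ ⟨U, hU⟩ _
  have h2 : (g.appLE W V eV).hom.FiniteType :=
    HasRingHomProperty.appLE (P := @LocallyOfFiniteType) g inferInstance ⟨W, hW⟩ ⟨V, hV⟩ eV
  exact RingHom.FinitePresentation.of_comp_finiteType _ h1 h2

theorem ker_fg {A B : Type u} [CommRing A] [CommRing B] (φ : A →+* B)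
    (hφ : φ.FinitePresentation) (hs : Function.Surjective φ) : (RingHom.ker φ).FG := by
  letI := φ.toAlgebra
  haveI : Algebra.FinitePresentation A B := hφ
  exact Algebra.FinitePresentation.ker_fG_of_surjective (Algebra.ofId A B) hs

/-- A closed subscheme cut out by a locally finitely generated ideal sheaf is locally of finite
presentation over the ambient scheme. -/
theorem lfp_subschemeι {X : Scheme.{u}} (I : X.IdealSheafData)
    (hI : ∀ U : X.affineOpens, (I.ideal U).FG) : LocallyOfFinitePresentation I.subschemeι := by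
  rw [HasRingHomProperty.iff_exists_appLE (P := @LocallyOfFinitePresentation)
    (RingHom.finitePresentation_stableUnderComposition.stableUnderCompositionWithLocalizationAway
      RingHom.finitePresentation_holdsForLocalizationAway).left]
  intro x
  obtain ⟨U, hU, hxU, -⟩ := TopologicalSpace.Opens.isBasis_iff_nbhd.mp X.isBasis_affineOpens
    (TopologicalSpace.Opens.mem_top (I.subschemeι x))
  replace hU : IsAffineOpen U := hU
  refine ⟨⟨U, hU⟩, ⟨I.subschemeι ⁻¹ᵁ U, hU.preimage I.subschemeι⟩, hxU, le_rfl, ?_⟩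
  have e : I.subschemeι.appLE U (I.subschemeι ⁻¹ᵁ U) le_rfl = I.subschemeι.app U :=
    I.subschemeι.appLE_eq_app
  show (I.subschemeι.appLE U (I.subschemeι ⁻¹ᵁ U) le_rfl).hom.FinitePresentation
  rw [e]
  refine RingHom.FinitePresentation.of_surjective _ (I.subschemeι.app_surjective U hU) ?_
  rw [I.ker_subschemeι_app ⟨U, hU⟩]
  exact hI ⟨U, hU⟩

theorem lfp_infNbhdι {Y X : Scheme.{u}} (i : Y ⟶ X) [IsClosedImmersion i]
    [LocallyOfFinitePresentation i] (n : ℕ) :
    LocallyOfFinitePresentation (infNbhdι i n) := by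
  rw [infNbhdι]
  refine lfp_subschemeι _ (fun U => ?_)
  have h0 : (i.ker ^ (n + 1)).ideal U = (i.ker.ideal U) ^ (n + 1) := rfl
  rw [h0, Scheme.Hom.ker_apply]
  refine Ideal.FG.pow ?_
  have e : i.appLE U (i ⁻¹ᵁ U) le_rfl = i.app U := i.appLE_eq_app
  have hfp := i.finitePresentation_appLE U.2 (U.2.preimage i) le_rfl
  rw [e] at hfp
  exact ker_fg _ hfp (i.app_surjective U U.2)

end Gen

variable {X S : Scheme.{u}} (f : X ⟶ S) (n : ℕ)

theorem diagCl_fst :
    diagCl f ≫ ((pullback.diagonal f).coborderRange.ι ≫ pullback.fst f f) = 𝟙 X := by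
  rw [← Category.assoc, Scheme.Hom.liftCoborder_ι, pullback.diagonal_fst]

theorem pr1_eq : pr1 f n =
    infNbhdι (diagCl f) n ≫ ((pullback.diagonal f).coborderRange.ι ≫ pullback.fst f f) := by
  simp only [pr1, nbhdι, Category.assoc]

theorem isFinite_pr1 [LocallyOfFiniteType f] : IsFinite (pr1 f n) := by
  rw [pr1_eq]
  exact InfNbhdH8.isFinite_infNbhd_comp (diagCl f) _ (diagCl_fst f) n

theorem lfp_diagCl [LocallyOfFiniteType f] : LocallyOfFinitePresentation (diagCl f) := by
  haveI : LocallyOfFinitePresentation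
      (diagCl f ≫ ((pullback.diagonal f).coborderRange.ι ≫ pullback.fst f f)) := by
    rw [diagCl_fst]; infer_instance
  exact lfp_of_comp (diagCl f) ((pullback.diagonal f).coborderRange.ι ≫ pullback.fst f f)

theorem lfp_pr1 [LocallyOfFinitePresentation f] : LocallyOfFinitePresentation (pr1 f n) := by
  rw [pr1_eq]
  haveI := lfp_diagCl f
  haveI := lfp_infNbhdι (diagCl f) n
  infer_instance

theorem main5968 [LocallyOfFiniteType f] (F : X.Modules) (hF : Coh.IsCoh F) :
    Coh.IsCoh (PMod f n F) := by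
  obtain ⟨hq, hft⟩ := hF
  haveI : F.IsQuasicoherent := hq
  haveI : SheafOfModules.IsFiniteType (R := X.ringCatSheaf) F := hft
  haveI := isFinite_pr1 f n
  haveI : ((Scheme.Modules.pullback (pr2 f n)).obj F).IsQuasicoherent :=
    PBH8.isQuasicoherent_pullback (pr2 f n) F
  haveI : SheafOfModules.IsFiniteType (R := (nbhd f n).ringCatSheaf)
      ((Scheme.Modules.pullback (pr2 f n)).obj F) := FpqcH8.isFiniteType_pullback (pr2 f n) F
  exact ⟨Groth.Agent.Lib.PnQCohL.main f n F hq, QCohCrit.isFiniteType_pushforward (pr1 f n) _⟩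

theorem main5971 [LocallyOfFinitePresentation f] (F : X.Modules) (hF : CohB1.IsFP F) :
    CohB1.IsFP (PMod f n F) := by
  haveI : SheafOfModules.IsFinitePresentation (R := X.ringCatSheaf) F := hF
  haveI : F.IsQuasicoherent := inferInstance
  haveI := isFinite_pr1 f n
  haveI := lfp_pr1 f n
  haveI : SheafOfModules.IsFinitePresentation (R := (nbhd f n).ringCatSheaf)
      ((Scheme.Modules.pullback (pr2 f n)).obj F) := FpqcH8.isFP_pullback (pr2 f n) F
  exact QCohFP2.isFinitePresentation_pushforward (pr1 f n) _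

end Groth.Agent.Lib.PPCohH7
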