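import Mathlib
import Groth.Prelude
import Groth.Agent.Lib.ClAdj1_helper8

/-!
# The functor of principal parts `F ↦ P^n_{X/S}(F)` commutes with colimits (helper7)
APPEND-ONLY once landed.
-/

set_option autoImplicit false
set_option linter.style.haveILetI false

universe u

open CategoryTheory CategoryTheory.Limits AlgebraicGeometry Opposite TopologicalSpace

namespace Groth.Agent.Lib.PPColimH7

open Groth.Agent.Lib.ModSiteH8 in
/-- Direct image of modules along a morphism which is a closed embedding on points preserves
colimits. -/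
theorem preservesColimits_modules_pushforward' {Z X : Scheme.{u}} (i : Z ⟶ X)
    (hi : Topology.IsClosedEmbedding i.base) :
    PreservesColimitsOfSize.{u, u} (Scheme.Modules.pushforward i) := by
  haveI h0 : PreservesColimitsOfSize.{u, u} (SheafOfModules.toSheaf.{u} X.ringCatSheaf) :=
    toSheaf_preservesColimitsOfSize X.ringCatSheaf
  haveI h1 : PreservesColimitsOfSize.{u, u} (SheafOfModules.toSheaf.{u} Z.ringCatSheaf) :=
    toSheaf_preservesColimitsOfSize Z.ringCatSheaf
  haveI h3 : ReflectsColimitsOfSize.{u, u} (SheafOfModules.toSheaf.{u} X.ringCatSheaf) :=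
    reflectsColimits_of_reflectsIsomorphisms
  haveI h4 : PreservesColimitsOfSize.{u, u}
      ((Opens.map i.base).sheafPushforwardContinuous AddCommGrpCat.{u}
        (Opens.grothendieckTopology X) (Opens.grothendieckTopology Z)) :=
    ClAdjH8.preservesColimits_pushforward i.base hi
  haveI h2 : PreservesColimitsOfSize.{u, u}
      (Scheme.Modules.pushforward i ⋙ SheafOfModules.toSheaf.{u} X.ringCatSheaf) :=
    inferInstanceAs (PreservesColimitsOfSize.{u, u}
      (SheafOfModules.toSheaf.{u} Z.ringCatSheaf ⋙
        (Opens.map i.base).sheafPushforwardContinuous AddCommGrpCat.{u}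
        (Opens.grothendieckTopology X) (Opens.grothendieckTopology Z)))
  exact @preservesColimits_of_reflects_of_preserves Z.Modules _ X.Modules _ _ _
    (Scheme.Modules.pushforward i) (SheafOfModules.toSheaf.{u} X.ringCatSheaf) h2 h3

/-- The first projection of the `n`-th infinitesimal neighbourhood of the diagonal is a
homeomorphism, in particular a closed embedding. -/
theorem isClosedEmbedding_pr1 {X S : Scheme.{u}} (f : X ⟶ S) (n : ℕ) :
    Topology.IsClosedEmbedding (PrinPart.pr1 f n).base := by
  have hsurj := PrinPart.toInfNbhd_surjective (PrinPart.diagCl f) n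
  have hleft : ∀ x : X, PrinPart.pr1 f n (PrinPart.toNbhd f n x) = x := fun x => by
    have h : (PrinPart.toNbhd f n ≫ PrinPart.pr1 f n) x = (𝟙 X : X ⟶ X) x := by
      rw [PrinPart.toNbhd_pr1]
    exact h
  have hright : ∀ z, PrinPart.toNbhd f n (PrinPart.pr1 f n z) = z := fun z => by
    obtain ⟨x, rfl⟩ := hsurj z
    rw [hleft]
  refine Topology.IsClosedEmbedding.of_continuous_injective_isClosedMap
    (PrinPart.pr1 f n).continuous ?_ ?_
  · intro a b hab
    have h : PrinPart.toNbhd f n (PrinPart.pr1 f n a) =
        PrinPart.toNbhd f n (PrinPart.pr1 f n b) := congrArg (PrinPart.toNbhd f n) hab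
    rwa [hright, hright] at h
  · intro C hC
    have hEq : (PrinPart.pr1 f n) '' C = (PrinPart.toNbhd f n) ⁻¹' C := by
      ext x
      constructor
      · rintro ⟨z, hz, rfl⟩
        show PrinPart.toNbhd f n (PrinPart.pr1 f n z) ∈ C
        rw [hright]
        exact hz
      · intro hx
        exact ⟨PrinPart.toNbhd f n x, hx, hleft x⟩
    show IsClosed ((PrinPart.pr1 f n) '' C)
    rw [hEq]
    exact hC.preimage (PrinPart.toNbhd f n).continuous

theorem main5966 {X S : Scheme.{u}} (f : X ⟶ S) (n : ℕ) :
    PreservesColimitsOfSize.{u, u}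
      ((Scheme.Modules.pullback (PrinPart.pr2 f n)) ⋙
        (Scheme.Modules.pushforward (PrinPart.pr1 f n))) := by
  haveI h1 : PreservesColimitsOfSize.{u, u} (Scheme.Modules.pullback (PrinPart.pr2 f n)) :=
    (Scheme.Modules.pullbackPushforwardAdjunction (PrinPart.pr2 f n)).leftAdjoint_preservesColimits
  haveI h2 := preservesColimits_modules_pushforward' (PrinPart.pr1 f n) (isClosedEmbedding_pr1 f n)
  exact comp_preservesColimits _ _

end Groth.Agent.Lib.PPColimH7
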