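import Mathlib
import Groth.Prelude
import Groth.Agent.Lib.GlueHom_helper7
import Groth.Agent.Lib.PPAff4_helper7
import Groth.Agent.Lib.PPBC2_helper7
import Groth.Agent.Lib.OmegaUniv2_helper4

/-!
# The canonical map `P^(n+n') → P^n'(P^n)` (helper7)
APPEND-ONLY once landed.
-/

set_option autoImplicit false
set_option linter.style.haveILetI false

universe u

noncomputable section

open CategoryTheory CategoryTheory.Limits AlgebraicGeometry Opposite TopologicalSpace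

namespace Groth.Agent.Lib.PPDeltaH7

open Groth.Agent.Lib.GlueHomH7 Groth.Agent.Lib.PPAffH7 Groth.Agent.Lib.PPBCH7 PrinPart
open Groth.Agent.Lib.OmegaUniv2H4 (Small isBasis_small)

section Alg

open TensorProduct

theorem sup_pow_strong {R : Type*} [CommSemiring R] (I J : Ideal R) (n m : ℕ) :
    (I ⊔ J) ^ (n + m + 1) ≤ I ^ (n + 1) ⊔ J ^ (m + 1) := by
  rw [← Ideal.add_eq_sup, ← Ideal.add_eq_sup, add_pow, Ideal.sum_eq_sup]
  apply Finset.sup_le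
  intro i hi
  rw [Finset.mem_range] at hi
  by_cases hn : n + 1 ≤ i
  · exact (Ideal.mul_le_left.trans (Ideal.mul_le_left.trans
      ((Ideal.pow_le_pow_right hn).trans le_sup_left)))
  · refine (Ideal.mul_le_left.trans (Ideal.mul_le_right.trans
      ((Ideal.pow_le_pow_right ?_).trans le_sup_right)))
    omega

theorem alg5962 {A B : Type u} [CommRing A] [CommRing B] [Algebra A B]
    {Qm Q Q' : Type u} [CommRing Qm] [CommRing Q] [CommRing Q'] (n n' : ℕ)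
    (μm : B ⊗[A] B →+* Qm) (hsm : Function.Surjective μm)
    (hkm : RingHom.ker μm = KaehlerDifferential.ideal A B ^ (n + n' + 1))
    (μ : B ⊗[A] B →+* Q) (hk : KaehlerDifferential.ideal A B ^ (n + 1) ≤ RingHom.ker μ)
    (μ' : B ⊗[A] B →+* Q') (hk' : KaehlerDifferential.ideal A B ^ (n' + 1) ≤ RingHom.ker μ')
    [Algebra B Q] [Algebra B Q']
    (h1 : ∀ b : B, algebraMap B Q b = μ (b ⊗ₜ[A] (1 : B)))
    (h2' : ∀ b : B, algebraMap B Q' b = μ' ((1 : B) ⊗ₜ[A] b)) :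
    ∃ ρb : Qm →+* Q' ⊗[B] Q, ∀ b b' : B,
      ρb (μm (b ⊗ₜ[A] b')) = μ' (b ⊗ₜ[A] (1 : B)) ⊗ₜ[B] μ ((1 : B) ⊗ₜ[A] b') := by
  let iL : Q' →+* Q' ⊗[B] Q := Algebra.TensorProduct.includeLeftRingHom
  let iR : Q →+* Q' ⊗[B] Q := (Algebra.TensorProduct.includeRight : Q →ₐ[B] Q' ⊗[B] Q).toRingHom
  have hiL : ∀ q' : Q', iL q' = q' ⊗ₜ[B] (1 : Q) := fun _ => rfl
  have hiR : ∀ q : Q, iR q = (1 : Q') ⊗ₜ[B] q := fun _ => rfl
  let hL : B →+* Q' ⊗[B] Q :=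
    iL.comp (μ'.comp (Algebra.TensorProduct.includeLeftRingHom : B →+* B ⊗[A] B))
  let hR : B →+* Q' ⊗[B] Q :=
    iR.comp (μ.comp ((Algebra.TensorProduct.includeRight : B →ₐ[A] B ⊗[A] B).toRingHom))
  have hLa : ∀ b : B, hL b = μ' (b ⊗ₜ[A] (1 : B)) ⊗ₜ[B] (1 : Q) := fun b => rfl
  have hRa : ∀ b : B, hR b = (1 : Q') ⊗ₜ[B] μ ((1 : B) ⊗ₜ[A] b) := fun b => rfl
  have hswap : ∀ a : A,
      (algebraMap A B a) ⊗ₜ[A] (1 : B) = (1 : B) ⊗ₜ[A] (algebraMap A B a) := by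
    intro a
    rw [Algebra.algebraMap_eq_smul_one, TensorProduct.smul_tmul]
  have hmid : ∀ b : B,
      (1 : Q') ⊗ₜ[B] μ (b ⊗ₜ[A] (1 : B)) = μ' ((1 : B) ⊗ₜ[A] b) ⊗ₜ[B] (1 : Q) := by
    intro b
    rw [← h1, ← h2', Algebra.algebraMap_eq_smul_one, Algebra.algebraMap_eq_smul_one,
      TensorProduct.smul_tmul]
  have hw : CommRingCat.ofHom (algebraMap A B) ≫ CommRingCat.ofHom hL =
      CommRingCat.ofHom (algebraMap A B) ≫ CommRingCat.ofHom hR := by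
    ext a
    show hL (algebraMap A B a) = hR (algebraMap A B a)
    rw [hLa, hRa, hswap, ← hmid, hswap]
  let ρ : B ⊗[A] B →+* Q' ⊗[B] Q :=
    ((CommRingCat.isPushout_tensorProduct A B B).desc (CommRingCat.ofHom hL)
      (CommRingCat.ofHom hR) hw).hom
  have hρ1 : ∀ b : B, ρ (b ⊗ₜ[A] (1 : B)) = hL b := fun b =>
    congrArg (fun k => k.hom b) ((CommRingCat.isPushout_tensorProduct A B B).inl_desc _ _ hw)
  have hρ2 : ∀ b : B, ρ ((1 : B) ⊗ₜ[A] b) = hR b := fun b =>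
    congrArg (fun k => k.hom b) ((CommRingCat.isPushout_tensorProduct A B B).inr_desc _ _ hw)
  have hρ : ∀ b b' : B,
      ρ (b ⊗ₜ[A] b') = μ' (b ⊗ₜ[A] (1 : B)) ⊗ₜ[B] μ ((1 : B) ⊗ₜ[A] b') := by
    intro b b'
    have h : b ⊗ₜ[A] b' = (b ⊗ₜ[A] (1 : B)) * ((1 : B) ⊗ₜ[A] b') := by
      rw [Algebra.TensorProduct.tmul_mul_tmul, mul_one, one_mul]
    rw [h, map_mul, hρ1, hρ2, hLa, hRa, Algebra.TensorProduct.tmul_mul_tmul, mul_one, one_mul]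
  let J1 : Ideal (Q' ⊗[B] Q) := ((KaehlerDifferential.ideal A B).map μ').map iL
  let J2 : Ideal (Q' ⊗[B] Q) := ((KaehlerDifferential.ideal A B).map μ).map iR
  have hgen : ∀ b : B, ρ ((1 : B) ⊗ₜ[A] b - b ⊗ₜ[A] (1 : B)) ∈ J1 ⊔ J2 := by
    intro b
    have hmem := KaehlerDifferential.one_smul_sub_smul_one_mem_ideal A b
    have e : ρ ((1 : B) ⊗ₜ[A] b - b ⊗ₜ[A] (1 : B)) =
        iL (μ' ((1 : B) ⊗ₜ[A] b - b ⊗ₜ[A] (1 : B))) +
          iR (μ ((1 : B) ⊗ₜ[A] b - b ⊗ₜ[A] (1 : B))) := by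
      have eL : iL (μ' ((1 : B) ⊗ₜ[A] b - b ⊗ₜ[A] (1 : B))) =
          μ' ((1 : B) ⊗ₜ[A] b) ⊗ₜ[B] (1 : Q) - μ' (b ⊗ₜ[A] (1 : B)) ⊗ₜ[B] (1 : Q) := by
        rw [map_sub, hiL, TensorProduct.sub_tmul]
      have eR : iR (μ ((1 : B) ⊗ₜ[A] b - b ⊗ₜ[A] (1 : B))) =
          (1 : Q') ⊗ₜ[B] μ ((1 : B) ⊗ₜ[A] b) - (1 : Q') ⊗ₜ[B] μ (b ⊗ₜ[A] (1 : B)) := by
        rw [map_sub, hiR, TensorProduct.tmul_sub]
      rw [eL, eR, map_sub, hρ2, hρ1, hLa, hRa, hmid]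
      abel
    rw [e]
    exact Ideal.add_mem _
      (Ideal.mem_sup_left (Ideal.mem_map_of_mem _ (Ideal.mem_map_of_mem _ hmem)))
      (Ideal.mem_sup_right (Ideal.mem_map_of_mem _ (Ideal.mem_map_of_mem _ hmem)))
  have hI : (KaehlerDifferential.ideal A B).map ρ ≤ J1 ⊔ J2 := by
    rw [← KaehlerDifferential.span_range_eq_ideal, Ideal.map_span, Ideal.span_le]
    rintro _ ⟨_, ⟨b, rfl⟩, rfl⟩
    exact hgen b
  have hJ1 : J1 ^ (n' + 1) = ⊥ := by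
    show (((KaehlerDifferential.ideal A B).map μ').map iL) ^ (n' + 1) = ⊥
    rw [← Ideal.map_pow, ← Ideal.map_pow, (Ideal.map_eq_bot_iff_le_ker μ').mpr hk', Ideal.map_bot]
  have hJ2 : J2 ^ (n + 1) = ⊥ := by
    show (((KaehlerDifferential.ideal A B).map μ).map iR) ^ (n + 1) = ⊥
    rw [← Ideal.map_pow, ← Ideal.map_pow, (Ideal.map_eq_bot_iff_le_ker μ).mpr hk, Ideal.map_bot]
  have hker : RingHom.ker μm ≤ RingHom.ker ρ := by
    rw [hkm]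
    intro x hx
    rw [RingHom.mem_ker]
    have h3 : ρ x ∈ ((KaehlerDifferential.ideal A B).map ρ) ^ (n + n' + 1) := by
      rw [← Ideal.map_pow]
      exact Ideal.mem_map_of_mem _ hx
    have h4 := Ideal.pow_right_mono hI (n + n' + 1) h3
    have h5 : (J1 ⊔ J2) ^ (n' + n + 1) ≤ J1 ^ (n' + 1) ⊔ J2 ^ (n + 1) :=
      sup_pow_strong J1 J2 n' n
    rw [hJ1, hJ2, bot_sup_eq] at h5
    have h6 : n + n' + 1 = n' + n + 1 := by omega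
    rw [h6] at h4
    exact Ideal.mem_bot.mp (h5 h4)
  refine ⟨μm.liftOfSurjective hsm ⟨ρ, hker⟩, fun b b' => ?_⟩
  exact (μm.liftOfSurjective_comp_apply hsm ⟨ρ, hker⟩ (b ⊗ₜ[A] b')).trans (hρ b b')

end Alg

section Geom

open TensorProduct

variable {X S : Scheme.{u}} (f : X ⟶ S)

theorem mu_exists (n : ℕ) {U : X.Opens} {V : S.Opens} (hU : IsAffineOpen U)
    (hV : IsAffineOpen V) (hUV : U ≤ f ⁻¹ᵁ V) :
    letI := (f.appLE V U hUV).hom.toAlgebra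
    ∃ μ : Γ(X, U) ⊗[Γ(S, V)] Γ(X, U) →+* Γ(nbhd f n, pr1 f n ⁻¹ᵁ U),
      Function.Surjective μ ∧
      RingHom.ker μ = KaehlerDifferential.ideal Γ(S, V) Γ(X, U) ^ (n + 1) ∧
      (∀ b : Γ(X, U), μ (b ⊗ₜ[Γ(S, V)] (1 : Γ(X, U))) = (pr1 f n).app U b) ∧
      ∀ b : Γ(X, U), μ ((1 : Γ(X, U)) ⊗ₜ[Γ(S, V)] b) =
        (pr2 f n).appLE U (pr1 f n ⁻¹ᵁ U) (preimage_pr1 f n U).le b := by
  letI : Algebra Γ(S, V) Γ(X, U) := (f.appLE V U hUV).hom.toAlgebra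
  obtain ⟨RC, j1, j2, ε, ν, hpo, h1, h2, hνs, hνk, hj1, hj2⟩ := geom (f := f) n hU hV hUV
  obtain ⟨μ, hμ, hs, hk⟩ := alg_exists (A := Γ(S, V)) (B := Γ(X, U)) j1 j2 hpo ε
    (fun b => congrArg (fun k => k.hom b) h1) (fun b => congrArg (fun k => k.hom b) h2)
    ν hνs n hνk
  refine ⟨μ, hs, hk, fun b => ?_, fun b => ?_⟩
  · rw [hμ, map_one, mul_one]
    exact congrArg (fun k => k.hom b) (hj1.trans (pr1 f n).appLE_eq_app)
  · rw [hμ, map_one, one_mul]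
    exact congrArg (fun k => k.hom b) hj2

set_option maxHeartbeats 1600000 in
theorem loc5962 (n n' : ℕ) {U : X.Opens} {V : S.Opens} (hU : IsAffineOpen U)
    (hV : IsAffineOpen V) (hUV : U ≤ f ⁻¹ᵁ V) :
    ∃ α : Γ(P f (n + n'), U) →+ Γ(PMod f n' (P f n), U),
      (∀ (r : Γ(X, U)) (z : Γ(P f (n + n'), U)), α (r • z) = r • α z) ∧
      ∀ t : Γ(X, U), α (dn f (n + n') U t) = dP f n' (P f n) U (dn f n U t) := by
  letI algAB : Algebra Γ(S, V) Γ(X, U) := (f.appLE V U hUV).hom.toAlgebra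
  haveI qP : (P f n).IsQuasicoherent :=
    Groth.Agent.Lib.PnQCohL.main f n (Coh.structureModule X) inferInstance
  obtain ⟨μm, hsm, hkm, hμm1, hμm2⟩ := mu_exists f (n + n') hU hV hUV
  obtain ⟨μ, hs, hk, hμ1, hμ2⟩ := mu_exists f n hU hV hUV
  obtain ⟨μ', hs', hk', hμ'1, hμ'2⟩ := mu_exists f n' hU hV hUV
  have hle' : pr1 f n' ⁻¹ᵁ U ≤ pr2 f n' ⁻¹ᵁ U := (preimage_pr1 f n' U).le
  have hW' : IsAffineOpen (pr1 f n' ⁻¹ᵁ U) := isAffineOpen_pr1_preimage f n' hU hV hUV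
  letI algQ : Algebra Γ(X, U) Γ(nbhd f n, pr1 f n ⁻¹ᵁ U) := ((pr1 f n).app U).hom.toAlgebra
  letI algQ' : Algebra Γ(X, U) Γ(nbhd f n', pr1 f n' ⁻¹ᵁ U) :=
    ((pr2 f n').appLE U (pr1 f n' ⁻¹ᵁ U) hle').hom.toAlgebra
  obtain ⟨ρb, hρb⟩ := alg5962 n n' μm hsm hkm μ hk.ge μ' hk'.ge
    (fun b => (hμ1 b).symm) (fun b => (hμ'2 b).symm)
  letI modPF : Module Γ(X, U)
      Γ((Scheme.Modules.pullback (pr2 f n')).obj (P f n), pr1 f n' ⁻¹ᵁ U) :=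
    Module.compHom _ ((pr2 f n').appLE U (pr1 f n' ⁻¹ᵁ U) hle').hom
  haveI towPF : IsScalarTower Γ(X, U) Γ(nbhd f n', pr1 f n' ⁻¹ᵁ U)
      Γ((Scheme.Modules.pullback (pr2 f n')).obj (P f n), pr1 f n' ⁻¹ᵁ U) :=
    IsScalarTower.of_algebraMap_smul fun _ _ => rfl
  have hbc := PBH8.isBaseChange_cUV (pr2 f n') (P f n) hle' hW' hU
  let θₗ : Γ(P f n, U) ≃ₗ[Γ(X, U)] Γ(nbhd f n, pr1 f n ⁻¹ᵁ U) :=
    { (thetaP f n U) with
      map_smul' := fun b x => by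
        show thetaP f n U (b • x) = b • thetaP f n U x
        rw [thetaP_smul, Algebra.smul_def]
        rfl }
  let E' : Γ(nbhd f n', pr1 f n' ⁻¹ᵁ U) ⊗[Γ(X, U)] Γ(nbhd f n, pr1 f n ⁻¹ᵁ U) →+
      Γ((Scheme.Modules.pullback (pr2 f n')).obj (P f n), pr1 f n' ⁻¹ᵁ U) :=
    hbc.equiv.toLinearMap.toAddMonoidHom.comp
      (LinearEquiv.lTensor Γ(nbhd f n', pr1 f n' ⁻¹ᵁ U) θₗ.symm).toLinearMap.toAddMonoidHom
  have hE' : ∀ (q' : Γ(nbhd f n', pr1 f n' ⁻¹ᵁ U)) (q : Γ(nbhd f n, pr1 f n ⁻¹ᵁ U)),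
      E' (q' ⊗ₜ[Γ(X, U)] q) =
        q' • PBH8.cUV (pr2 f n') (P f n) hle' ((thetaP f n U).symm q) := by
    intro q' q
    show hbc.equiv ((LinearEquiv.lTensor Γ(nbhd f n', pr1 f n' ⁻¹ᵁ U) θₗ.symm)
      (q' ⊗ₜ[Γ(X, U)] q)) = _
    rw [LinearEquiv.lTensor_tmul, IsBaseChange.equiv_tmul]
    rfl
  have hE'mul : ∀ (q0 : Γ(nbhd f n', pr1 f n' ⁻¹ᵁ U))
      (t : Γ(nbhd f n', pr1 f n' ⁻¹ᵁ U) ⊗[Γ(X, U)] Γ(nbhd f n, pr1 f n ⁻¹ᵁ U)),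
      E' ((q0 ⊗ₜ[Γ(X, U)] (1 : Γ(nbhd f n, pr1 f n ⁻¹ᵁ U))) * t) = q0 • E' t := by
    intro q0 t
    induction t using TensorProduct.induction_on with
    | zero => rw [mul_zero, map_zero, smul_zero]
    | tmul q' q =>
      rw [Algebra.TensorProduct.tmul_mul_tmul, one_mul, hE', hE', mul_smul]
    | add x y hx hy => rw [mul_add, map_add, hx, hy, map_add, smul_add]
  let α0 : Γ(P f (n + n'), U) →+
      Γ((Scheme.Modules.pullback (pr2 f n')).obj (P f n), pr1 f n' ⁻¹ᵁ U) :=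
    E'.comp (ρb.toAddMonoidHom.comp (thetaP f (n + n') U).toAddMonoidHom)
  have hα0 : ∀ z, α0 z = E' (ρb (thetaP f (n + n') U z)) := fun _ => rfl
  let α1 : Γ(P f (n + n'), U) →+ Γ(PMod f n' (P f n), U) := α0
  refine ⟨α1, fun r z => ?_, fun t => ?_⟩
  · show α0 (r • z) = ((pr1 f n').app U).hom r • α0 z
    have e1 : ρb ((pr1 f (n + n')).app U r) =
        ((pr1 f n').app U r) ⊗ₜ[Γ(X, U)] (1 : Γ(nbhd f n, pr1 f n ⁻¹ᵁ U)) := by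
      rw [← hμm1 r, hρb, hμ'1, hμ2, map_one]
    rw [hα0, hα0, thetaP_smul, map_mul, e1, hE'mul]
  · show α0 (dn f (n + n') U t) = dP f n' (P f n) U (dn f n U t)
    have e2 : ρb (thetaP f (n + n') U (dn f (n + n') U t)) =
        (1 : Γ(nbhd f n', pr1 f n' ⁻¹ᵁ U)) ⊗ₜ[Γ(X, U)]
          ((pr2 f n).appLE U (pr1 f n ⁻¹ᵁ U) (preimage_pr1 f n U).le t) := by
      rw [thetaP_dn, ← hμm2 t, hρb, hμ'1, hμ2, map_one]
    have e3 : (thetaP f n U).symm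
        ((pr2 f n).appLE U (pr1 f n ⁻¹ᵁ U) (preimage_pr1 f n U).le t) = dn f n U t := by
      rw [AddEquiv.symm_apply_eq, thetaP_dn]
    rw [hα0, e2, hE', one_smul, e3]
    rfl

end Geom

end Groth.Agent.Lib.PPDeltaH7
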