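import Mathlib
import Groth.Prelude
import Groth.Agent.Lib.PPDelta1_helper7

/-!
# The canonical map `P^(n+n') → P^n'(P^n)`: global existence and uniqueness (helper7)
APPEND-ONLY once landed.
-/

set_option autoImplicit false
set_option linter.style.haveILetI false

universe u

noncomputable section

open CategoryTheory CategoryTheory.Limits AlgebraicGeometry Opposite TopologicalSpace

namespace Groth.Agent.Lib.PPDeltaH7

open Groth.Agent.Lib.GlueHomH7 Groth.Agent.Lib.PPAffH7 Groth.Agent.Lib.PPBCH7 PrinPart
open Groth.Agent.Lib.OmegaUniv2H4 (Small isBasis_small)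

variable {X S : Scheme.{u}} (f : X ⟶ S)

set_option maxHeartbeats 1600000 in
theorem main5962 (n n' : ℕ) :
    ∃! δ : P f (n + n') ⟶ PMod f n' (P f n),
      ∀ (U : X.Opens) (t : Γ(X, U)),
        δ.app U (dn f (n + n') U t) = dP f n' (P f n) U (dn f n U t) := by
  have hB := isBasis_small f
  choose α hα1 hα2 using fun (i : {U : X.Opens // Small f U}) =>
    loc5962 f n n' i.2.1 i.2.2.choose_spec.1 i.2.2.choose_spec.2
  have hnat : ∀ (i j : {U : X.Opens // Small f U}) (e : j.1 ≤ i.1)
      (m : Γ(P f (n + n'), i.1)),
      α j ((P f (n + n')).presheaf.map (homOfLE e).op m) =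
        (PMod f n' (P f n)).presheaf.map (homOfLE e).op (α i m) := by
    intro i j e m
    have hm := gen_P f (n + n') i.2.1 i.2.2.choose_spec.1 i.2.2.choose_spec.2 m
    induction hm using Submodule.span_induction with
    | mem x hx =>
      obtain ⟨t, rfl⟩ := hx
      have s1 : (P f (n + n')).presheaf.map (homOfLE e).op (dn f (n + n') i.1 t) =
          dn f (n + n') j.1 (X.presheaf.map (homOfLE e).op t) := (dn_res f (n + n') e t).symm
      have s2 := hα2 j (X.presheaf.map (homOfLE e).op t)
      have s3 : dn f n j.1 (X.presheaf.map (homOfLE e).op t) =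
          (P f n).presheaf.map (homOfLE e).op (dn f n i.1 t) := dn_res f n e t
      have s4 := dP_map f n' (P f n) e (dn f n i.1 t)
      have s5 := hα2 i t
      exact (congrArg (α j) s1).trans (s2.trans ((congrArg (dP f n' (P f n) j.1) s3).trans
        (s4.trans (congrArg (fun z => (PMod f n' (P f n)).presheaf.map (homOfLE e).op z)
          s5.symm))))
    | zero => simp only [map_zero]
    | add x y _ _ hx hy => simp only [map_add, hx, hy]
    | smul r x _ hx =>
      have e1 := Scheme.Modules.map_smul (P f (n + n')) (homOfLE e) r x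
      have e2 := Scheme.Modules.map_smul (PMod f n' (P f n)) (homOfLE e) r (α i x)
      exact (congrArg (α j) e1).trans ((hα1 j _ _).trans
        ((congrArg (fun z => X.presheaf.map (homOfLE e).op r • z) hx).trans
          (e2.symm.trans (congrArg
            (fun z => (PMod f n' (P f n)).presheaf.map (homOfLE e).op z) (hα1 i r x).symm))))
  obtain ⟨δ, hδ⟩ := glue_hom (P f (n + n')) (PMod f n' (P f n))
    (fun i : {U : X.Opens // Small f U} => i.1) hB α hα1 hnat
  have hδdn : ∀ (U : X.Opens) (t : Γ(X, U)),
      δ.app U (dn f (n + n') U t) = dP f n' (P f n) U (dn f n U t) := by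
    intro U t
    refine eq_of_forall_basis (PMod f n' (P f n))
      (fun i : {U : X.Opens // Small f U} => i.1) hB _ _ fun i hi => ?_
    have n1 := QCohCrit.app_naturality δ (homOfLE hi) (dn f (n + n') U t)
    have s1 : (P f (n + n')).presheaf.map (homOfLE hi).op (dn f (n + n') U t) =
        dn f (n + n') i.1 (X.presheaf.map (homOfLE hi).op t) := (dn_res f (n + n') hi t).symm
    have s2 := hδ i (dn f (n + n') i.1 (X.presheaf.map (homOfLE hi).op t))
    have s3 := hα2 i (X.presheaf.map (homOfLE hi).op t)
    have s4 : dn f n i.1 (X.presheaf.map (homOfLE hi).op t) =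
        (P f n).presheaf.map (homOfLE hi).op (dn f n U t) := dn_res f n hi t
    have s5 := dP_map f n' (P f n) hi (dn f n U t)
    exact n1.symm.trans ((congrArg (fun z => δ.app i.1 z) s1).trans (s2.trans (s3.trans
      ((congrArg (dP f n' (P f n) i.1) s4).trans s5))))
  refine ⟨δ, hδdn, fun δ' hδ' => ?_⟩
  refine hom_ext_basis (fun i : {U : X.Opens // Small f U} => i.1) hB δ' δ fun i m => ?_
  have hm := gen_P f (n + n') i.2.1 i.2.2.choose_spec.1 i.2.2.choose_spec.2 m
  induction hm using Submodule.span_induction with
  | mem x hx =>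
    obtain ⟨t, rfl⟩ := hx
    exact (hδ' i.1 t).trans (hδdn i.1 t).symm
  | zero => simp only [map_zero]
  | add x y _ _ hx hy => simp only [map_add, hx, hy]
  | smul r x _ hx =>
    exact (Scheme.Modules.Hom.app_smul δ' r x).trans ((congrArg (fun z => r • z) hx).trans
      (Scheme.Modules.Hom.app_smul δ r x).symm)

end Groth.Agent.Lib.PPDeltaH7
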