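import Mathlib
import Groth.Prelude.Def_PP16
import Groth.Agent.Lib.PP16_lead
import Groth.Agent.Lib.PP16b_lead
import Groth.Agent.Lib.PP16c_lead

/-!
Principal parts of the fraction field of a polynomial ring over a field (helper9).
APPEND-ONLY once landed.
-/

namespace Groth.Agent.PPFrac9

open TensorProduct PP16 Groth.Agent.Lib.PP16L MvPolynomial

universe u

section
variable (k : Type u) [Field k] (r n : ℕ)

/-- the polynomial ring -/
abbrev R₀ : Type u := MvPolynomial (Fin r) k
/-- its fraction field -/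
abbrev K : Type u := FractionRing (MvPolynomial (Fin r) k)

/-- the coordinate `T_i ∈ K`. -/
noncomputable def t (i : Fin r) : K k r := algebraMap (R₀ k r) (K k r) (X i)

/-- the ideal `(U)`. -/
noncomputable def J : Ideal (MvPolynomial (Fin r) (K k r)) :=
  Ideal.span (Set.range (X : Fin r → MvPolynomial (Fin r) (K k r)))

/-- the truncated polynomial ring. -/
abbrev Q : Type u := MvPolynomial (Fin r) (K k r) ⧸ (J k r) ^ (n + 1)

/-- `u_i = dⁿ T_i − T_i`. -/
noncomputable def uu (i : Fin r) : P n k (K k r) :=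
  dn n k (K k r) (t k r i) - algebraMap (K k r) (P n k (K k r)) (t k r i)

/-- the map of the statement. -/
noncomputable def F : MvPolynomial (Fin r) (K k r) →ₐ[K k r] P n k (K k r) :=
  MvPolynomial.aeval (uu k r n)

theorem F_X (i : Fin r) : F k r n (X i) = uu k r n i := by simp [F]

theorem J_map_F_le : (J k r).map (F k r n).toRingHom ≤ PP16.augIdeal n k (K k r) := by
  rw [J, Ideal.map_span, Ideal.span_le]
  rintro _ ⟨_, ⟨i, rfl⟩, rfl⟩
  show F k r n (X i) ∈ _
  rw [F_X]
  exact dn_sub_algebraMap_mem n k (K k r) (t k r i)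

theorem F_kills (x : MvPolynomial (Fin r) (K k r)) (hx : x ∈ (J k r) ^ (n + 1)) :
    F k r n x = 0 := by
  have h1 : (F k r n).toRingHom x ∈ ((J k r) ^ (n + 1)).map (F k r n).toRingHom :=
    Ideal.mem_map_of_mem _ hx
  have h2 : ((J k r) ^ (n + 1)).map (F k r n).toRingHom ≤ ⊥ := by
    rw [Ideal.map_pow]
    exact le_of_le_of_eq (Ideal.pow_right_mono (J_map_F_le k r n) (n + 1))
      (augIdeal_pow n k (K k r))
  exact (Submodule.mem_bot _).mp (h2 h1)

/-- `F̄ : Q → Pⁿ`. -/
noncomputable def Fbar : Q k r n →ₐ[K k r] P n k (K k r) :=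
  Ideal.Quotient.liftₐ ((J k r) ^ (n + 1)) (F k r n) (F_kills k r n)

theorem Fbar_mk (x : MvPolynomial (Fin r) (K k r)) :
    Fbar k r n (Ideal.Quotient.mk _ x) = F k r n x := rfl

/-- the augmentation `ε : Q → K`, `U ↦ 0`. -/
noncomputable def eps : Q k r n →ₐ[K k r] K k r :=
  Ideal.Quotient.liftₐ ((J k r) ^ (n + 1)) (MvPolynomial.aeval (0 : Fin r → K k r)) (by
    intro x hx
    have h1 : (MvPolynomial.aeval (0 : Fin r → K k r) : _ →ₐ[K k r] K k r).toRingHom x ∈
        ((J k r) ^ (n + 1)).map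
          (MvPolynomial.aeval (0 : Fin r → K k r) : _ →ₐ[K k r] K k r).toRingHom :=
      Ideal.mem_map_of_mem _ hx
    have h2 : ((J k r) ^ (n + 1)).map
        (MvPolynomial.aeval (0 : Fin r → K k r) : _ →ₐ[K k r] K k r).toRingHom ≤ ⊥ := by
      rw [Ideal.map_pow]
      have : (J k r).map
          (MvPolynomial.aeval (0 : Fin r → K k r) : _ →ₐ[K k r] K k r).toRingHom ≤ ⊥ := by
        rw [J, Ideal.map_span, Ideal.span_le]
        rintro _ ⟨_, ⟨i, rfl⟩, rfl⟩
        simp
      exact le_of_le_of_eq (Ideal.pow_right_mono this (n + 1)) (by simp)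
    exact (Submodule.mem_bot _).mp (h2 h1))

theorem eps_mk (x : MvPolynomial (Fin r) (K k r)) :
    eps k r n (Ideal.Quotient.mk _ x) = MvPolynomial.aeval (0 : Fin r → K k r) x := rfl

/-- the nilpotent ideal `(U)/(U)^(n+1)` of `Q`. -/
noncomputable def N : Ideal (Q k r n) := (J k r).map (Ideal.Quotient.mk ((J k r) ^ (n + 1)))

theorem N_pow : (N k r n) ^ (n + 1) = ⊥ := by
  have h := Ideal.map_pow (Ideal.Quotient.mk ((J k r) ^ (n + 1))) (J k r) (n + 1)
  rw [Ideal.map_quotient_self] at h
  exact h.symm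

theorem mem_N_of_eps (q : Q k r n) (hq : eps k r n q = 0) : q ∈ N k r n := by
  obtain ⟨x, rfl⟩ := Ideal.Quotient.mk_surjective q
  rw [eps_mk, MvPolynomial.aeval_zero, Algebra.algebraMap_self, RingHom.id_apply] at hq
  exact Ideal.mem_map_of_mem _ (mem_span_X_of_constantCoeff_eq_zero (Fin r) x hq)

theorem isNilpotent_of_eps (q : Q k r n) (hq : eps k r n q = 0) : IsNilpotent q := by
  refine ⟨n + 1, ?_⟩
  have := Ideal.pow_mem_pow (mem_N_of_eps k r n q hq) (n + 1)
  rw [N_pow] at this
  exact (Submodule.mem_bot _).mp this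

/-- the shift `T ↦ T + U` on polynomials. -/
noncomputable def tau0 : R₀ k r →ₐ[k] Q k r n :=
  MvPolynomial.aeval (fun i => Ideal.Quotient.mk _ (C (t k r i) + X i))

theorem tau0_X (i : Fin r) :
    tau0 k r n (X i) = Ideal.Quotient.mk _ (C (t k r i) + X i) := by simp [tau0]

theorem eps_tau0 (f : R₀ k r) : eps k r n (tau0 k r n f) = algebraMap (R₀ k r) (K k r) f := by
  have h : ((eps k r n).restrictScalars k).comp (tau0 k r n) =
      IsScalarTower.toAlgHom k (R₀ k r) (K k r) := by
    apply MvPolynomial.algHom_ext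
    intro i
    simp [tau0_X, eps_mk, t]
  exact AlgHom.congr_fun h f

theorem isUnit_tau0 (f : R₀ k r) (hf : f ∈ nonZeroDivisors (R₀ k r)) :
    IsUnit (tau0 k r n f) := by
  have hne : algebraMap (R₀ k r) (K k r) f ≠ 0 :=
    IsFractionRing.to_map_ne_zero_of_mem_nonZeroDivisors hf
  have hu : IsUnit (algebraMap (K k r) (Q k r n) (algebraMap (R₀ k r) (K k r) f)) :=
    (IsUnit.mk0 _ hne).map _
  have hnil : IsNilpotent (tau0 k r n f -
      algebraMap (K k r) (Q k r n) (algebraMap (R₀ k r) (K k r) f)) := by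
    apply isNilpotent_of_eps
    rw [map_sub, eps_tau0, AlgHom.commutes, Algebra.algebraMap_self, RingHom.id_apply, sub_self]
  have hc : Commute (tau0 k r n f -
      algebraMap (K k r) (Q k r n) (algebraMap (R₀ k r) (K k r) f))
      (algebraMap (K k r) (Q k r n) (algebraMap (R₀ k r) (K k r) f)) := by
    exact mul_comm (G := Q k r n) _ _
  have := IsNilpotent.isUnit_add_left_of_commute hnil hu hc
  rwa [add_sub_cancel] at this

/-- the Taylor map `τ : K → Q`. -/
noncomputable def tau : K k r →+* Q k r n :=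
  IsLocalization.lift (M := nonZeroDivisors (R₀ k r)) (S := K k r) (P := Q k r n)
    (g := (tau0 k r n : R₀ k r →+* Q k r n))
    (fun y => isUnit_tau0 k r n y.1 y.2)

theorem tau_algebraMap (f : R₀ k r) :
    tau k r n (algebraMap (R₀ k r) (K k r) f) = tau0 k r n f :=
  IsLocalization.lift_eq _ f

theorem eps_tau (y : K k r) : eps k r n (tau k r n y) = y := by
  have h : ((eps k r n).toRingHom.comp (tau k r n)) = RingHom.id (K k r) := by
    apply IsLocalization.ringHom_ext (nonZeroDivisors (R₀ k r))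
    apply RingHom.ext
    intro f
    simp only [RingHom.comp_apply, AlgHom.toRingHom_eq_coe, RingHom.coe_coe, tau_algebraMap,
      eps_tau0, RingHom.id_apply]
  exact RingHom.congr_fun h y

theorem tau_t (i : Fin r) :
    tau k r n (t k r i) = Ideal.Quotient.mk _ (C (t k r i) + X i) := by
  rw [t, tau_algebraMap, tau0_X]
  rfl

/-- `τ` as a `k`-algebra map. -/
noncomputable def tauA : K k r →ₐ[k] Q k r n where
  toRingHom := tau k r n
  commutes' c := by
    show tau k r n (algebraMap k (K k r) c) = _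
    rw [IsScalarTower.algebraMap_apply k (R₀ k r) (K k r), tau_algebraMap, AlgHom.commutes]

theorem tauA_apply (y : K k r) : tauA k r n y = tau k r n y := rfl

/-- `K ⊗[k] K → Q`, `x ⊗ y ↦ x · τ y`. -/
noncomputable def G0 : K k r ⊗[k] K k r →ₐ[K k r] Q k r n :=
  Algebra.TensorProduct.lift (Algebra.ofId (K k r) (Q k r n)) (tauA k r n)
    (fun x y => mul_comm (G := Q k r n) _ _)

theorem G0_tmul (x y : K k r) :
    G0 k r n (x ⊗ₜ[k] y) = algebraMap (K k r) (Q k r n) x * tau k r n y := rfl

theorem G0_ideal_le :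
    (KaehlerDifferential.ideal k (K k r)).map (G0 k r n).toRingHom ≤ N k r n := by
  rw [← KaehlerDifferential.span_range_eq_ideal, Ideal.map_span, Ideal.span_le]
  rintro _ ⟨_, ⟨y, rfl⟩, rfl⟩
  apply mem_N_of_eps
  show eps k r n (G0 k r n ((1 : K k r) ⊗ₜ[k] y - y ⊗ₜ[k] (1 : K k r))) = 0
  rw [map_sub, G0_tmul, G0_tmul, map_one, map_one, one_mul, mul_one, map_sub, eps_tau,
    AlgHom.commutes, Algebra.algebraMap_self, RingHom.id_apply, sub_self]

/-- `G : Pⁿ → Q`. -/
noncomputable def G : P n k (K k r) →ₐ[K k r] Q k r n :=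
  Ideal.Quotient.liftₐ _ (G0 k r n) (fun x hx => by
    have h1 : (G0 k r n).toRingHom x ∈
        ((KaehlerDifferential.ideal k (K k r)) ^ (n + 1)).map (G0 k r n).toRingHom :=
      Ideal.mem_map_of_mem _ hx
    have h2 : ((KaehlerDifferential.ideal k (K k r)) ^ (n + 1)).map (G0 k r n).toRingHom ≤ ⊥ := by
      have h4 := Ideal.map_pow (G0 k r n).toRingHom (KaehlerDifferential.ideal k (K k r)) (n + 1)
      exact le_of_eq_of_le h4
        (le_of_le_of_eq (Ideal.pow_right_mono (G0_ideal_le k r n) (n + 1)) (N_pow k r n))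
    exact (Submodule.mem_bot _).mp (h2 h1))

theorem G_mk (w : K k r ⊗[k] K k r) : G k r n (Ideal.Quotient.mk _ w) = G0 k r n w := rfl

theorem G_dn (y : K k r) : G k r n (dn n k (K k r) y) = tau k r n y := by
  show G0 k r n ((1 : K k r) ⊗ₜ[k] y) = _
  rw [G0_tmul, map_one, one_mul]

theorem G_uu (i : Fin r) : G k r n (uu k r n i) = Ideal.Quotient.mk _ (X i) := by
  have e : algebraMap (K k r) (Q k r n) (t k r i) = Ideal.Quotient.mk _ (C (t k r i)) := rfl
  rw [uu, map_sub, G_dn, tau_t, AlgHom.commutes, map_add, e, add_sub_cancel_left]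

theorem G_comp_Fbar : (G k r n).comp (Fbar k r n) = AlgHom.id (K k r) (Q k r n) := by
  apply Ideal.Quotient.algHom_ext
  apply MvPolynomial.algHom_ext
  intro i
  show G k r n (Fbar k r n (Ideal.Quotient.mk _ (X i))) = Ideal.Quotient.mk _ (X i)
  rw [Fbar_mk, F_X, G_uu]

theorem Fbar_tau0 (f : R₀ k r) :
    Fbar k r n (tau0 k r n f) = dn n k (K k r) (algebraMap (R₀ k r) (K k r) f) := by
  have h : ((Fbar k r n).restrictScalars k).comp (tau0 k r n) =
      (dn n k (K k r)).comp (IsScalarTower.toAlgHom k (R₀ k r) (K k r)) := by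
    apply MvPolynomial.algHom_ext
    intro i
    show Fbar k r n (tau0 k r n (X i)) = dn n k (K k r) (algebraMap (R₀ k r) (K k r) (X i))
    rw [tau0_X, Fbar_mk, map_add, F_X, uu, F, MvPolynomial.aeval_C]
    show _ = dn n k (K k r) (t k r i)
    ring
  exact AlgHom.congr_fun h f

theorem Fbar_tau (y : K k r) : Fbar k r n (tau k r n y) = dn n k (K k r) y := by
  have h : ((Fbar k r n).toRingHom.comp (tau k r n)) = (dn n k (K k r)).toRingHom := by
    apply IsLocalization.ringHom_ext (nonZeroDivisors (R₀ k r))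
    apply RingHom.ext
    intro f
    simp only [RingHom.comp_apply, AlgHom.toRingHom_eq_coe, RingHom.coe_coe, tau_algebraMap,
      Fbar_tau0]
  exact RingHom.congr_fun h y

theorem Fbar_G (x : P n k (K k r)) : Fbar k r n (G k r n x) = x := by
  obtain ⟨w, rfl⟩ := Ideal.Quotient.mk_surjective x
  induction w using TensorProduct.induction_on with
  | zero => rw [map_zero, map_zero, map_zero]
  | tmul x y =>
    rw [G_mk, G0_tmul, map_mul, Fbar_tau, AlgHom.commutes, mk_tmul]
  | add x y hx hy => rw [map_add, map_add, map_add, hx, hy]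

theorem G_Fbar (q : Q k r n) : G k r n (Fbar k r n q) = q :=
  AlgHom.congr_fun (G_comp_Fbar k r n) q

theorem F_surjective : Function.Surjective (F k r n) := by
  intro x
  obtain ⟨p, hp⟩ := Ideal.Quotient.mk_surjective (G k r n x)
  refine ⟨p, ?_⟩
  rw [← Fbar_mk, hp, Fbar_G]

theorem ker_F : RingHom.ker (F k r n).toRingHom = (J k r) ^ (n + 1) := by
  apply le_antisymm
  · intro x hx
    rw [RingHom.mem_ker] at hx
    have h : Fbar k r n (Ideal.Quotient.mk _ x) = 0 := hx
    have h2 := G_Fbar k r n (Ideal.Quotient.mk _ x)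
    rw [h, map_zero] at h2
    exact Ideal.Quotient.eq_zero_iff_mem.mp h2.symm
  · intro x hx
    rw [RingHom.mem_ker]
    exact F_kills k r n x hx

end

end Groth.Agent.PPFrac9
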