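import Mathlib
import Groth.Prelude
import Groth.Agent.Lib.StalkSky2_lead
import Groth.Agent.Lib.OmegaFunct_helper4

/-!
# The stalks of a pulled back module are spanned by pulled back sections (helper7)
APPEND-ONLY once landed.
-/

set_option autoImplicit false
set_option linter.style.haveILetI false
set_option maxHeartbeats 1600000
set_option backward.isDefEq.respectTransparency false
set_option backward.isDefEq.respectTransparency.types false
set_option backward.defeqAttrib.useBackward true

universe u

noncomputable section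

open CategoryTheory CategoryTheory.Limits AlgebraicGeometry Opposite TopologicalSpace

namespace Groth.Agent.Lib.PPGenH7

open Groth.Agent.Lib.StalkSkyL

section Span

variable {X' X : Scheme.{u}} (f : X' ⟶ X) (F : X.Modules)

/-- Two morphisms out of a pulled back module that agree on pulled back sections are equal. -/
theorem pullback_hom_ext {G : X'.Modules} (c₁ c₂ : (Scheme.Modules.pullback f).obj F ⟶ G)
    (hc : ∀ (U : X.Opens) (x : Γ(F, U)),
      c₁.app (f ⁻¹ᵁ U) (OmegaSh.pullSect f F U x) = c₂.app (f ⁻¹ᵁ U) (OmegaSh.pullSect f F U x)) :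
    c₁ = c₂ := by
  apply ((Scheme.Modules.pullbackPushforwardAdjunction f).homEquiv F G).injective
  refine Scheme.Modules.hom_ext _ _ fun U => ?_
  ext x
  exact (Groth.Agent.Lib.OmegaFunctH4.app_pullSect f c₁ U x).symm.trans
    ((hc U x).trans (Groth.Agent.Lib.OmegaFunctH4.app_pullSect f c₂ U x))

/-- The stalk of `f^* F` at `y` is spanned, over the local ring at `y`, by the germs of the
pulled back sections of `F`. -/
theorem stalk_span (y : X') :
    Submodule.span (X'.presheaf.stalk y)
      {m : ↑((DerSch.stalkFunctor X' y).obj ((Scheme.Modules.pullback f).obj F)) |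
        ∃ (V : X.Opens) (hy : y ∈ f ⁻¹ᵁ V) (t : Γ(F, V)),
          m = ((Scheme.Modules.pullback f).obj F).presheaf.germ (f ⁻¹ᵁ V) y hy
            (OmegaSh.pullSect f F V t)} = ⊤ := by
  let M := (Scheme.Modules.pullback f).obj F
  let S : Submodule (X'.presheaf.stalk y) ↑((DerSch.stalkFunctor X' y).obj M) :=
    Submodule.span (X'.presheaf.stalk y)
      {m : ↑((DerSch.stalkFunctor X' y).obj M) |
        ∃ (V : X.Opens) (hy : y ∈ f ⁻¹ᵁ V) (t : Γ(F, V)),
          m = M.presheaf.germ (f ⁻¹ᵁ V) y hy (OmegaSh.pullSect f F V t)}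
  show S = ⊤
  let E : ModuleCat.{u} (X'.presheaf.stalk y) :=
    ModuleCat.of (X'.presheaf.stalk y) (↑((DerSch.stalkFunctor X' y).obj M) ⧸ S)
  let π : (DerSch.stalkFunctor X' y).obj M ⟶ E := ModuleCat.ofHom S.mkQ
  let ψ : M ⟶ sky y E := skyUnit y M ≫ skyMap y π
  have hψ : ψ = 0 := by
    refine pullback_hom_ext f F ψ 0 fun V t => ?_
    refine sky_ext y E _ _ fun k => ?_
    show S.mkQ (M.presheaf.germ (f ⁻¹ᵁ V) y k.down (OmegaSh.pullSect f F V t)) = 0
    exact (Submodule.Quotient.mk_eq_zero S).mpr (Submodule.subset_span ⟨V, k.down, t, rfl⟩)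
  have hπ : π = 0 := by
    apply ((stalkSkyAdj y).homEquiv M E).injective
    have h1 : (stalkSkyAdj y).homEquiv M E π = ψ := by
      rw [Adjunction.homEquiv_unit]
      rfl
    have h2 : (stalkSkyAdj y).homEquiv M E 0 = 0 := by
      rw [Adjunction.homEquiv_unit]
      show skyUnit y M ≫ skyMap y 0 = 0
      refine Scheme.Modules.hom_ext _ _ fun U => ?_
      ext s
      rfl
    rw [h1, h2, hψ]
  refine eq_top_iff.mpr fun m _ => ?_
  have h3 : S.mkQ m = 0 := congrArg (fun g => g.hom m) hπ
  exact (Submodule.Quotient.mk_eq_zero S).mp h3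

end Span

end Groth.Agent.Lib.PPGenH7
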