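import Mathlib
import Groth.Prelude
import Groth.Agent.Lib.PPGen1_helper7
import Groth.Agent.Lib.GlueHom_helper7
import Groth.Agent.Lib.PPAff4_helper7
import Groth.Agent.Lib.OmegaUniv2_helper4

/-!
# `P^n_{X/S}(F)` is generated by the image of `d^n`, for an arbitrary module `F` (helper7)
APPEND-ONLY once landed.
-/

set_option autoImplicit false
set_option linter.style.haveILetI false
set_option maxHeartbeats 1600000

universe u

noncomputable section

open CategoryTheory CategoryTheory.Limits AlgebraicGeometry Opposite TopologicalSpace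

namespace Groth.Agent.Lib.PPGenH7

open PrinPart Groth.Agent.Lib.PPAffH7 Groth.Agent.Lib.PnQCohL
open Groth.Agent.Lib.OmegaUniv2H4 (Small isBasis_small)

variable {X S : Scheme.{u}} (f : X ⟶ S) (n : ℕ) (F : X.Modules)

/-- `p_2^* F` on the infinitesimal neighbourhood. -/
abbrev PBm : (nbhd f n).Modules := (Scheme.Modules.pullback (pr2 f n)).obj F

/-- A section of `P^n(F)` over `U`, as a section of `p_2^* F` over `p_1⁻¹ U`. -/
def toPB {U : X.Opens} (z : Γ(PMod f n F, U)) : Γ((PBm f n F), pr1 f n ⁻¹ᵁ U) := z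

/-- A section of `p_2^* F` over `p_1⁻¹ U`, as a section of `P^n(F)` over `U`. -/
def ofPB {U : X.Opens} (z : Γ((PBm f n F), pr1 f n ⁻¹ᵁ U)) : Γ(PMod f n F, U) := z

/-- Multiplication of a section of `P^n(F)` by a function on the infinitesimal neighbourhood. -/
def qsmul {U : X.Opens} (q : Γ(nbhd f n, pr1 f n ⁻¹ᵁ U)) (z : Γ(PMod f n F, U)) :
    Γ(PMod f n F, U) :=
  ofPB f n F (q • toPB f n F z)

variable {U : X.Opens}

theorem qsmul_add (q : Γ(nbhd f n, pr1 f n ⁻¹ᵁ U)) (z w : Γ(PMod f n F, U)) :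
    qsmul f n F q (z + w) = qsmul f n F q z + qsmul f n F q w :=
  smul_add q (toPB f n F z) (toPB f n F w)

theorem qsmul_zero (q : Γ(nbhd f n, pr1 f n ⁻¹ᵁ U)) :
    qsmul f n F q (0 : Γ(PMod f n F, U)) = 0 :=
  (smul_zero q : q • (0 : Γ((PBm f n F), pr1 f n ⁻¹ᵁ U)) = 0)

theorem add_qsmul (q q' : Γ(nbhd f n, pr1 f n ⁻¹ᵁ U)) (z : Γ(PMod f n F, U)) :
    qsmul f n F (q + q') z = qsmul f n F q z + qsmul f n F q' z :=
  add_smul q q' (toPB f n F z)

theorem zero_qsmul (z : Γ(PMod f n F, U)) :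
    qsmul f n F (0 : Γ(nbhd f n, pr1 f n ⁻¹ᵁ U)) z = 0 :=
  zero_smul _ (toPB f n F z)

theorem neg_qsmul (q : Γ(nbhd f n, pr1 f n ⁻¹ᵁ U)) (z : Γ(PMod f n F, U)) :
    qsmul f n F (-q) z = - qsmul f n F q z :=
  neg_smul q (toPB f n F z)

theorem mul_qsmul (q q' : Γ(nbhd f n, pr1 f n ⁻¹ᵁ U)) (z : Γ(PMod f n F, U)) :
    qsmul f n F (q * q') z = qsmul f n F q (qsmul f n F q' z) :=
  mul_smul q q' (toPB f n F z)

theorem qsmul_pr1 (b : Γ(X, U)) (z : Γ(PMod f n F, U)) :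
    qsmul f n F ((pr1 f n).app U b) z = b • z := rfl

theorem qsmul_dP (b' : Γ(X, U)) (t : Γ(F, U)) :
    qsmul f n F ((pr2 f n).appLE U (pr1 f n ⁻¹ᵁ U) (preimage_pr1 f n U).le b') (dP f n F U t) =
      dP f n F U (b' • t) :=
  (PBH8.cUV_smul (pr2 f n) F (preimage_pr1 f n U).le b' t).symm

theorem qsmul_smul_comm (q : Γ(nbhd f n, pr1 f n ⁻¹ᵁ U)) (r : Γ(X, U)) (z : Γ(PMod f n F, U)) :
    qsmul f n F q (r • z) = r • qsmul f n F q z := by
  rw [← qsmul_pr1, ← qsmul_pr1, ← mul_qsmul, ← mul_qsmul, mul_comm]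

theorem qsmul_res {U' : X.Opens} (e : U' ≤ U) (q : Γ(nbhd f n, pr1 f n ⁻¹ᵁ U))
    (z : Γ(PMod f n F, U)) :
    (PMod f n F).presheaf.map (homOfLE e).op (qsmul f n F q z) =
      qsmul f n F ((nbhd f n).presheaf.map (homOfLE ((pr1 f n).preimage_mono e)).op q)
        ((PMod f n F).presheaf.map (homOfLE e).op z) :=
  Scheme.Modules.map_smul (PBm f n F) (homOfLE ((pr1 f n).preimage_mono e)) q (toPB f n F z)

theorem germ_qsmul (y : nbhd f n) (hy : y ∈ pr1 f n ⁻¹ᵁ U) (q : Γ(nbhd f n, pr1 f n ⁻¹ᵁ U))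
    (z : Γ(PMod f n F, U)) :
    (PBm f n F).presheaf.germ (pr1 f n ⁻¹ᵁ U) y hy (toPB f n F (qsmul f n F q z)) =
      ((nbhd f n).presheaf.germ (pr1 f n ⁻¹ᵁ U) y hy q •
        (PBm f n F).presheaf.germ (pr1 f n ⁻¹ᵁ U) y hy (toPB f n F z) :
        ↑((DerSch.stalkFunctor (nbhd f n) y).obj (PBm f n F))) :=
  PresheafOfModules.germ_smul (R := (nbhd f n).presheaf)
    (show PresheafOfModules ((nbhd f n).presheaf ⋙ forget₂ CommRingCat RingCat) from (PBm f n F).val)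
    y (pr1 f n ⁻¹ᵁ U) hy q (toPB f n F z)

/-- The left `O_X`-span of the image of `d^n`. -/
def L (U : X.Opens) : Submodule Γ(X, U) Γ(PMod f n F, U) :=
  Submodule.span Γ(X, U) (Set.range (dP f n F U))

theorem L_smul_dP {V : S.Opens} (hU : IsAffineOpen U) (hV : IsAffineOpen V) (hUV : U ≤ f ⁻¹ᵁ V)
    (q : Γ(nbhd f n, pr1 f n ⁻¹ᵁ U)) (t : Γ(F, U)) :
    qsmul f n F q (dP f n F U t) ∈ L f n F U := by
  have hq := gen_nbhd f n hU hV hUV q
  induction hq using AddSubgroup.closure_induction with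
  | mem q hq =>
    obtain ⟨b, b', rfl⟩ := hq
    rw [mul_qsmul, qsmul_dP, qsmul_pr1]
    exact Submodule.smul_mem _ b (Submodule.subset_span ⟨_, rfl⟩)
  | zero => rw [zero_qsmul]; exact zero_mem _
  | add x y _ _ hx hy => rw [add_qsmul]; exact add_mem hx hy
  | neg x _ hx => rw [neg_qsmul]; exact neg_mem hx

theorem L_smul {V : S.Opens} (hU : IsAffineOpen U) (hV : IsAffineOpen V) (hUV : U ≤ f ⁻¹ᵁ V)
    (q : Γ(nbhd f n, pr1 f n ⁻¹ᵁ U)) (z : Γ(PMod f n F, U)) (hz : z ∈ L f n F U) :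
    qsmul f n F q z ∈ L f n F U := by
  induction hz using Submodule.span_induction with
  | mem z hz =>
    obtain ⟨t, rfl⟩ := hz
    exact L_smul_dP f n F hU hV hUV q t
  | zero => rw [qsmul_zero]; exact zero_mem _
  | add x y _ _ hx hy => rw [qsmul_add]; exact add_mem hx hy
  | smul r x _ hx => rw [qsmul_smul_comm]; exact Submodule.smul_mem _ r hx

theorem L_res {U' : X.Opens} (e : U' ≤ U) (z : Γ(PMod f n F, U)) (hz : z ∈ L f n F U) :
    (PMod f n F).presheaf.map (homOfLE e).op z ∈ L f n F U' := by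
  induction hz using Submodule.span_induction with
  | mem z hz =>
    obtain ⟨t, rfl⟩ := hz
    rw [← dP_map f n F e t]
    exact Submodule.subset_span ⟨_, rfl⟩
  | zero => rw [map_zero]; exact zero_mem _
  | add x y _ _ hx hy => rw [map_add]; exact add_mem hx hy
  | smul r x _ hx =>
    rw [Scheme.Modules.map_smul (PMod f n F) (homOfLE e) r x]
    exact Submodule.smul_mem _ _ hx

theorem eq_on_L (G : X.Modules) (a b : PMod f n F ⟶ G)
    (h : ∀ (U : X.Opens) (t : Γ(F, U)), a.app U (dP f n F U t) = b.app U (dP f n F U t))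
    (z : Γ(PMod f n F, U)) (hz : z ∈ L f n F U) : a.app U z = b.app U z := by
  induction hz using Submodule.span_induction with
  | mem z hz =>
    obtain ⟨t, rfl⟩ := hz
    exact h U t
  | zero => rw [map_zero, map_zero]
  | add x y _ _ hx hy => rw [map_add, map_add, hx, hy]
  | smul r x _ hx =>
    exact (Scheme.Modules.Hom.app_smul a r x).trans ((congrArg (fun z => r • z) hx).trans
      (Scheme.Modules.Hom.app_smul b r x).symm)

theorem pr2_toNbhd_apply (x : X) : pr2 f n (toNbhd f n x) = x := by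
  rw [← Scheme.Hom.comp_apply, toNbhd_pr2]; rfl

theorem mem_pre (x : X) {U : X.Opens} (hx : x ∈ U) : toNbhd f n x ∈ pr1 f n ⁻¹ᵁ U := by
  show pr1 f n (toNbhd f n x) ∈ U
  rw [pr1_toNbhd_apply]
  exact hx

theorem shrink (x : X) (W : (nbhd f n).Opens) (O : X.Opens) (hy : toNbhd f n x ∈ W)
    (hx : x ∈ O) :
    ∃ U' : X.Opens, Small f U' ∧ x ∈ U' ∧ U' ≤ O ∧ pr1 f n ⁻¹ᵁ U' ≤ W := by
  have hx' : x ∈ (toNbhd f n ⁻¹ᵁ W) ⊓ O := ⟨hy, hx⟩
  obtain ⟨U', ⟨i, rfl⟩, hxU', hle⟩ := (Opens.isBasis_iff_nbhd.mp (isBasis_small f)) hx'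
  refine ⟨i.1, i.2, hxU', hle.trans inf_le_right, fun w hw => ?_⟩
  obtain ⟨x', rfl⟩ := toNbhd_surj f n w
  have h1 : pr1 f n (toNbhd f n x') ∈ i.1 := hw
  rw [pr1_toNbhd_apply] at h1
  exact (hle h1).1

theorem dP_res_eq {U' V : X.Opens} (e : U' ≤ V) (t : Γ(F, V)) :
    toPB f n F (dP f n F U' (F.presheaf.map (homOfLE e).op t)) =
      (PBm f n F).presheaf.map
        (homOfLE (((pr1 f n).preimage_mono e).trans (preimage_pr1 f n V).le)).op
        (OmegaSh.pullSect (pr2 f n) F V t) :=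
  (congrArg (toPB f n F) (dP_map f n F e t)).trans
    (OmegaSh.resM_resM (homOfLE (preimage_pr1 f n V).le)
      (homOfLE ((pr1 f n).preimage_mono e)) (OmegaSh.pullSect (pr2 f n) F V t))

theorem exists_rep (x : X)
    (m : ↑((DerSch.stalkFunctor (nbhd f n) (toNbhd f n x)).obj (PBm f n F))) :
    ∃ (U' : X.Opens) (_ : Small f U') (hx : x ∈ U') (z' : Γ(PMod f n F, U')),
      z' ∈ L f n F U' ∧
      (PBm f n F).presheaf.germ (pr1 f n ⁻¹ᵁ U') (toNbhd f n x) (mem_pre f n x hx) (toPB f n F z') = m := by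
  have hm : m ∈ Submodule.span ((nbhd f n).presheaf.stalk (toNbhd f n x))
      {m : ↑((DerSch.stalkFunctor (nbhd f n) (toNbhd f n x)).obj (PBm f n F)) |
        ∃ (V : X.Opens) (hy : toNbhd f n x ∈ pr2 f n ⁻¹ᵁ V) (t : Γ(F, V)),
          m = (PBm f n F).presheaf.germ (pr2 f n ⁻¹ᵁ V) (toNbhd f n x) hy
            (OmegaSh.pullSect (pr2 f n) F V t)} := by
    rw [stalk_span (pr2 f n) F (toNbhd f n x)]
    exact Submodule.mem_top
  induction hm using Submodule.span_induction with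
  | mem m hm =>
    obtain ⟨V, hy, t, rfl⟩ := hm
    have hxV : x ∈ V := by
      have h1 : pr2 f n (toNbhd f n x) ∈ V := hy
      rwa [pr2_toNbhd_apply] at h1
    obtain ⟨U', hs, hxU', hU'V, -⟩ := shrink f n x ⊤ V trivial hxV
    refine ⟨U', hs, hxU', dP f n F U' (F.presheaf.map (homOfLE hU'V).op t),
      Submodule.subset_span ⟨_, rfl⟩, ?_⟩
    exact (congrArg (fun s => (PBm f n F).presheaf.germ (pr1 f n ⁻¹ᵁ U') (toNbhd f n x)
      (mem_pre f n x hxU') s) (dP_res_eq f n F hU'V t)).trans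
      ((PBm f n F).presheaf.germ_res_apply (homOfLE (((pr1 f n).preimage_mono hU'V).trans
        (preimage_pr1 f n V).le)) (toNbhd f n x) (mem_pre f n x hxU')
        (OmegaSh.pullSect (pr2 f n) F V t))
  | zero =>
    obtain ⟨U', hs, hxU', -, -⟩ := shrink f n x ⊤ ⊤ trivial trivial
    exact ⟨U', hs, hxU', 0, zero_mem _, map_zero _⟩
  | add m₁ m₂ _ _ h₁ h₂ =>
    obtain ⟨U₁, hs₁, hx₁, z₁, hz₁, hg₁⟩ := h₁
    obtain ⟨U₂, hs₂, hx₂, z₂, hz₂, hg₂⟩ := h₂
    obtain ⟨U', hs, hxU', hle, -⟩ := shrink f n x ⊤ (U₁ ⊓ U₂) trivial ⟨hx₁, hx₂⟩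
    have l1 : U' ≤ U₁ := hle.trans inf_le_left
    have l2 : U' ≤ U₂ := hle.trans inf_le_right
    refine ⟨U', hs, hxU', (PMod f n F).presheaf.map (homOfLE l1).op z₁ +
      (PMod f n F).presheaf.map (homOfLE l2).op z₂,
      add_mem (L_res f n F l1 z₁ hz₁) (L_res f n F l2 z₂ hz₂), ?_⟩
    have e1 := (PBm f n F).presheaf.germ_res_apply (homOfLE ((pr1 f n).preimage_mono l1))
      (toNbhd f n x) (mem_pre f n x hxU') (toPB f n F z₁)
    have e2 := (PBm f n F).presheaf.germ_res_apply (homOfLE ((pr1 f n).preimage_mono l2))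
      (toNbhd f n x) (mem_pre f n x hxU') (toPB f n F z₂)
    have e3 : (PBm f n F).presheaf.germ (pr1 f n ⁻¹ᵁ U') (toNbhd f n x) (mem_pre f n x hxU')
        (toPB f n F ((PMod f n F).presheaf.map (homOfLE l1).op z₁ +
          (PMod f n F).presheaf.map (homOfLE l2).op z₂)) =
        (PBm f n F).presheaf.germ (pr1 f n ⁻¹ᵁ U') (toNbhd f n x) (mem_pre f n x hxU')
          (toPB f n F ((PMod f n F).presheaf.map (homOfLE l1).op z₁)) +
        (PBm f n F).presheaf.germ (pr1 f n ⁻¹ᵁ U') (toNbhd f n x) (mem_pre f n x hxU')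
          (toPB f n F ((PMod f n F).presheaf.map (homOfLE l2).op z₂)) := map_add _ _ _
    exact e3.trans (congrArg₂ (· + ·) (e1.trans hg₁) (e2.trans hg₂))
  | smul r m _ h =>
    obtain ⟨U₁, hs₁, hx₁, z₁, hz₁, hg₁⟩ := h
    obtain ⟨W₁, hyW₁, q, rfl⟩ := (nbhd f n).presheaf.exists_germ_eq (x := toNbhd f n x) r
    obtain ⟨U', hs, hxU', hle, hW⟩ := shrink f n x W₁ U₁ hyW₁ hx₁
    obtain ⟨hU', V', hV', hU'V'⟩ := hs
    refine ⟨U', ⟨hU', V', hV', hU'V'⟩, hxU',
      qsmul f n F ((nbhd f n).presheaf.map (homOfLE hW).op q)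
        ((PMod f n F).presheaf.map (homOfLE hle).op z₁),
      L_smul f n F hU' hV' hU'V' _ _ (L_res f n F hle z₁ hz₁), ?_⟩
    have e1 := (PBm f n F).presheaf.germ_res_apply (homOfLE ((pr1 f n).preimage_mono hle))
      (toNbhd f n x) (mem_pre f n x hxU') (toPB f n F z₁)
    have e2 := (nbhd f n).presheaf.germ_res_apply (homOfLE hW) (toNbhd f n x)
      (mem_pre f n x hxU') q
    have e3 := germ_qsmul f n F (toNbhd f n x) (mem_pre f n x hxU')
      ((nbhd f n).presheaf.map (homOfLE hW).op q)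
      ((PMod f n F).presheaf.map (homOfLE hle).op z₁)
    exact e3.trans (congrArg₂ (· • ·) e2 (e1.trans hg₁))

theorem main5958 (G : X.Modules) (a b : PMod f n F ⟶ G)
    (h : ∀ (U : X.Opens) (t : Γ(F, U)), a.app U (dP f n F U t) = b.app U (dP f n F U t)) :
    a = b := by
  refine Scheme.Modules.hom_ext _ _ fun U => ?_
  ext z
  refine TopCat.Presheaf.section_ext (⟨G.presheaf, G.isSheaf⟩ : TopCat.Sheaf Ab X) U _ _
    fun x hx => ?_
  obtain ⟨U', hs, hxU', z', hz', hg⟩ := exists_rep f n F x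
    ((PBm f n F).presheaf.germ (pr1 f n ⁻¹ᵁ U) (toNbhd f n x) (mem_pre f n x hx) (toPB f n F z))
  obtain ⟨W, hyW, iU', iU, heq⟩ := (PBm f n F).presheaf.germ_eq (toNbhd f n x) (mem_pre f n x hxU')
    (mem_pre f n x hx) (toPB f n F z') (toPB f n F z) hg
  obtain ⟨U'', hs'', hxU'', hle, hW⟩ := shrink f n x W (U' ⊓ U) hyW ⟨hxU', hx⟩
  have e1 : U'' ≤ U' := hle.trans inf_le_left
  have e2 : U'' ≤ U := hle.trans inf_le_right
  have hres : (PMod f n F).presheaf.map (homOfLE e1).op z' =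
      (PMod f n F).presheaf.map (homOfLE e2).op z := by
    have r1 := congrArg (fun s => (PBm f n F).presheaf.map (homOfLE hW).op s) heq
    exact (OmegaSh.resM_resM iU' (homOfLE hW) (toPB f n F z')).symm.trans
      (r1.trans (OmegaSh.resM_resM iU (homOfLE hW) (toPB f n F z)))
  have hzL : (PMod f n F).presheaf.map (homOfLE e1).op z' ∈ L f n F U'' :=
    L_res f n F e1 z' hz'
  have hab := eq_on_L f n F G a b h _ hzL
  refine TopCat.Presheaf.germ_ext G.presheaf U'' hxU'' (homOfLE e2) (homOfLE e2) ?_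
  have n1 := QCohCrit.app_naturality a (homOfLE e2) z
  have n2 := QCohCrit.app_naturality b (homOfLE e2) z
  exact n1.symm.trans ((congrArg (fun s => a.app U'' s) hres.symm).trans
    (hab.trans ((congrArg (fun s => b.app U'' s) hres).trans n2)))

end Groth.Agent.Lib.PPGenH7
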