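import Mathlib
import Groth.Prelude
import Groth.Agent.Lib.PPCoh_helper7
import Groth.Agent.Lib.HomLin3_helper8

/-!
# Quasi-coherence of the sheaf of differential operators (helper7)
APPEND-ONLY once landed.
-/

set_option autoImplicit false
set_option linter.style.haveILetI false

universe u

open CategoryTheory CategoryTheory.Limits AlgebraicGeometry Opposite TopologicalSpace

namespace Groth.Agent.Lib.PPCohH7

theorem main16487 {X S : Scheme.{u}} (f : X ⟶ S) [LocallyOfFinitePresentation f] (n : ℕ)
    (F G : X.Modules) (hF : CohB1.IsFP F) (hG : Coh.IsQCoh G) :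
    Coh.IsQCoh (RefHull.homSh (PrinPart.PMod f n F) G) := by
  haveI : SheafOfModules.IsFinitePresentation (R := X.ringCatSheaf) (PrinPart.PMod f n F) :=
    main5971 f n F hF
  haveI : G.IsQuasicoherent := hG
  exact HomLinH8.isQuasicoherent_homSh (PrinPart.PMod f n F) G

end Groth.Agent.Lib.PPCohH7
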