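import Mathlib
import Groth.Prelude.Def_PP16
import Groth.Agent.Lib.PP16_lead
import Groth.Agent.Lib.PP16b_lead
import Groth.Agent.Lib.PP16e_lead
import Groth.Agent.Lib.DiffEt2_helper9

/-!
Principal parts along a formally étale map `B → B'` over a fixed base `A` (helper9):
`P^n_{B/A} ⊗[B] B' ≅ P^n_{B'/A}`.  APPEND-ONLY once landed.
-/

namespace Groth.Agent.PPLoc9

open TensorProduct PP16 Groth.Agent.Lib.PP16L Groth.Agent.Lib.PP16L.BC Groth.Agent.DiffEt9

universe u

attribute [local instance] PP16.mapAlgebra PP16.isScalarTower_mapAlgebra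

section etale
variable (n : ℕ) (A B B' : Type u) [CommRing A] [CommRing B] [Algebra A B]
    [CommRing B'] [Algebra B B'] [Algebra A B'] [IsScalarTower A B B']

theorem phi_tmul' (p : P n A B) (b' : B') :
    phi n A B A B' (p ⊗ₜ[B] b') =
      PP16.map n A B A B' p * algebraMap B' (P n A B') b' := rfl

variable [Algebra.FormallyEtale B B']

/-- the Taylor map as an `A`-algebra map. -/
noncomputable def tayA : B' →ₐ[A] P n A B ⊗[B] B' where
  toRingHom := tay n A B B'
  commutes' a := by
    show tay n A B B' (algebraMap A B' a) = _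
    rw [tay_algebraMap_R, IsScalarTower.algebraMap_apply A B B', one_tmul_algebraMap,
      ← IsScalarTower.algebraMap_apply A B (P n A B)]
    rfl

theorem tayA_apply (y' : B') : tayA n A B B' y' = tay n A B B' y' := rfl

/-- the first-factor map `B' → P ⊗[B] B'`, as an `A`-algebra map. -/
noncomputable def inclA : B' →ₐ[A] P n A B ⊗[B] B' :=
  (Algebra.TensorProduct.includeRight : B' →ₐ[B] P n A B ⊗[B] B').restrictScalars A

theorem inclA_apply (x' : B') : inclA n A B B' x' = (1 : P n A B) ⊗ₜ[B] x' := rfl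

/-- `B' ⊗[A] B' → P ⊗[B] B'`. -/
noncomputable def psi0 : B' ⊗[A] B' →ₐ[A] P n A B ⊗[B] B' :=
  Algebra.TensorProduct.lift (inclA n A B B') (tayA n A B B')
    (fun x y => Commute.all (S := P n A B ⊗[B] B') (inclA n A B B' x) (tayA n A B B' y))

theorem psi0_tmul (x' y' : B') :
    psi0 n A B B' (x' ⊗ₜ[A] y') = ((1 : P n A B) ⊗ₜ[B] x') * tay n A B B' y' := rfl

theorem psi0_ideal_le :
    (KaehlerDifferential.ideal A B').map (psi0 n A B B').toRingHom ≤ JT n A B B' := by
  have hI : KaehlerDifferential.ideal A B' = Ideal.span (Set.range fun s : B' =>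
      (1 : B') ⊗ₜ[A] s - s ⊗ₜ[A] (1 : B')) := (KaehlerDifferential.span_range_eq_ideal A B').symm
  rw [hI, Ideal.map_span, Ideal.span_le]
  rintro _ ⟨_, ⟨y', rfl⟩, rfl⟩
  have e : (psi0 n A B B').toRingHom ((1 : B') ⊗ₜ[A] y' - y' ⊗ₜ[A] (1 : B')) =
      tay n A B B' y' - (1 : P n A B) ⊗ₜ[B] y' := by
    show psi0 n A B B' ((1 : B') ⊗ₜ[A] y' - y' ⊗ₜ[A] (1 : B')) = _
    rw [map_sub, psi0_tmul, psi0_tmul, map_one, mul_one, ← Algebra.TensorProduct.one_def, one_mul]
  rw [SetLike.mem_coe, e]
  exact tay_sub_mem n A B B' y'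

/-- the inverse map `P' → P ⊗[B] B'`. -/
noncomputable def psi : P n A B' →+* P n A B ⊗[B] B' :=
  Ideal.Quotient.lift _ (psi0 n A B B').toRingHom (fun x hx => by
    have h1 : (psi0 n A B B').toRingHom x ∈
        ((KaehlerDifferential.ideal A B') ^ (n + 1)).map (psi0 n A B B').toRingHom :=
      Ideal.mem_map_of_mem _ hx
    have h3 : ((KaehlerDifferential.ideal A B') ^ (n + 1)).map (psi0 n A B B').toRingHom ≤ ⊥ := by
      have h4 := Ideal.map_pow (psi0 n A B B').toRingHom (KaehlerDifferential.ideal A B') (n + 1)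
      have h5 := Ideal.pow_right_mono (psi0_ideal_le n A B B') (n + 1)
      have h6 := JT_pow n A B B'
      exact le_of_eq_of_le h4 (le_of_le_of_eq h5 h6)
    exact (Submodule.mem_bot _).mp (h3 h1))

theorem psi_mk (w' : B' ⊗[A] B') :
    psi n A B B' (Ideal.Quotient.mk _ w') = psi0 n A B B' w' := rfl

theorem psi_map (p : P n A B) :
    psi n A B B' (PP16.map n A B A B' p) = p ⊗ₜ[B] (1 : B') := by
  obtain ⟨w, rfl⟩ := Ideal.Quotient.mk_surjective p
  rw [map_mk, psi_mk]
  induction w using TensorProduct.induction_on with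
  | zero => rw [map_zero, map_zero, map_zero, TensorProduct.zero_tmul]
  | tmul b c =>
    rw [tensorMap_tmul, psi0_tmul, tay_algebraMap, Algebra.TensorProduct.tmul_mul_tmul, one_mul,
      mul_one, mk_tmul, Algebra.algebraMap_eq_smul_one b, ← TensorProduct.smul_tmul,
      Algebra.smul_def]
  | add x y hx hy => rw [map_add, map_add, map_add, hx, hy, TensorProduct.add_tmul]

theorem psi_phi (t : P n A B ⊗[B] B') : psi n A B B' (phi n A B A B' t) = t := by
  induction t using TensorProduct.induction_on with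
  | zero => rw [map_zero, map_zero]
  | tmul p b' =>
    have e : psi n A B B' (algebraMap B' (P n A B') b') = (1 : P n A B) ⊗ₜ[B] b' := by
      rw [algebraMap_eq n A B', psi_mk, psi0_tmul, map_one, mul_one]
    rw [phi_tmul', map_mul, psi_map, e, Algebra.TensorProduct.tmul_mul_tmul, mul_one, one_mul]
  | add x y hx hy => rw [map_add, map_add, hx, hy]

omit [Algebra.FormallyEtale B B'] in
theorem augIdeal_map_le :
    (PP16.augIdeal n A B).map (PP16.map n A B A B').toRingHom ≤ PP16.augIdeal n A B' := by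
  rw [PP16.augIdeal, Ideal.map_map, Ideal.map_le_iff_le_comap]
  intro x hx
  rw [Ideal.mem_comap]
  show PP16.map n A B A B' (Ideal.Quotient.mk _ x) ∈ PP16.augIdeal n A B'
  rw [map_mk]
  exact Ideal.mem_map_of_mem _ (ideal_map_tensorMap_le A B A B' (Ideal.mem_map_of_mem _ hx))

omit [Algebra.FormallyEtale B B'] in
theorem phi_JT_le (t : P n A B ⊗[B] B') (ht : t ∈ JT n A B B') :
    phi n A B A B' t ∈ PP16.augIdeal n A B' := by
  have h : (JT n A B B').map (phi n A B A B').toRingHom ≤ PP16.augIdeal n A B' := by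
    rw [JT, Ideal.map_map, Ideal.map_le_iff_le_comap]
    intro p hp
    rw [Ideal.mem_comap]
    show phi n A B A B' (p ⊗ₜ[B] (1 : B')) ∈ _
    rw [phi_tmul', map_one, mul_one]
    exact augIdeal_map_le n A B B' (Ideal.mem_map_of_mem _ hp)
  exact h (Ideal.mem_map_of_mem _ ht)

/-- `P n A B'` with the `B`-algebra structure through `dⁿ ∘ algebraMap`. -/
def Qr (_B : Type u) : Type u := P n A B'

noncomputable instance (_B : Type u) : CommRing (Qr n A B' _B) := inferInstanceAs (CommRing (P n A B'))

noncomputable instance algQr : Algebra B (Qr n A B' B) :=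
  ((dn n A B').toRingHom.comp (algebraMap B B')).toAlgebra

/-- `dⁿ` as a `B`-algebra map. -/
noncomputable def gOne : B' →ₐ[B] Qr n A B' B where
  toRingHom := (dn n A B').toRingHom
  commutes' _ := rfl

/-- `φ ∘ tay` as a `B`-algebra map. -/
noncomputable def gTwo : B' →ₐ[B] Qr n A B' B where
  toRingHom := (phi n A B A B').toRingHom.comp (tay n A B B')
  commutes' b := by
    show phi n A B A B' (tay n A B B' (algebraMap B B' b)) = dn n A B' (algebraMap B B' b)
    rw [tay_algebraMap, phi_tmul', map_one, mul_one, map_dn]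

theorem gOne_eq_gTwo : gOne n A B B' = gTwo n A B B' := by
  have hnil : IsNilpotent (show Ideal (Qr n A B' B) from PP16.augIdeal n A B') :=
    ⟨n + 1, augIdeal_pow n A B'⟩
  refine Algebra.FormallyUnramified.ext _ hnil (fun y' => ?_)
  rw [Ideal.Quotient.eq]
  show dn n A B' y' - phi n A B A B' (tay n A B B' y') ∈ PP16.augIdeal n A B'
  have e : dn n A B' y' - phi n A B A B' (tay n A B B' y') =
      (dn n A B' y' - algebraMap B' (P n A B') y') -
        phi n A B A B' (tay n A B B' y' - (1 : P n A B) ⊗ₜ[B] y') := by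
    rw [map_sub, phi_tmul', map_one, one_mul]
    ring
  rw [e]
  exact sub_mem (dn_sub_algebraMap_mem n A B' y') (phi_JT_le n A B B' _ (tay_sub_mem n A B B' y'))

theorem phi_tay (y' : B') : phi n A B A B' (tay n A B B' y') = dn n A B' y' :=
  (AlgHom.congr_fun (gOne_eq_gTwo n A B B') y').symm

theorem phi_psi (x : P n A B') : phi n A B A B' (psi n A B B' x) = x := by
  obtain ⟨w, rfl⟩ := Ideal.Quotient.mk_surjective x
  induction w using TensorProduct.induction_on with
  | zero => rw [map_zero, map_zero, map_zero]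
  | tmul x' y' =>
    rw [psi_mk, psi0_tmul, map_mul, phi_tay, phi_tmul', map_one, one_mul, mk_tmul]
  | add x y hx hy => rw [map_add, map_add, map_add, hx, hy]

theorem isPushout_of_formallyEtale : Algebra.IsPushout B (PP16.P n A B) B' (PP16.P n A B') := by
  have hinj : Function.Injective (phi n A B A B') :=
    Function.LeftInverse.injective (g := psi n A B B') (psi_phi n A B B')
  have hsurj : Function.Surjective (phi n A B A B') :=
    Function.RightInverse.surjective (g := psi n A B B') (phi_psi n A B B')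
  refine ⟨IsBaseChange.of_equiv
    (LinearEquiv.ofBijective (phi n A B A B').toLinearMap ⟨hinj, hsurj⟩)
    (fun b' => ?_)⟩
  show phi n A B A B' ((1 : P n A B) ⊗ₜ[B] b') = algebraMap B' (P n A B') b'
  rw [phi_tmul', map_one, one_mul]

end etale

end Groth.Agent.PPLoc9
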