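import Mathlib
import Groth.Prelude

/-!
# `P^1 = O ⊕ Ω`: the algebra (helper7)
APPEND-ONLY once landed.
-/

set_option autoImplicit false
set_option linter.style.haveILetI false

universe u

noncomputable section

open TensorProduct

namespace Groth.Agent.Lib.PPOneH7

theorem alg5978 {A B : Type u} [CommRing A] [CommRing B] [Algebra A B] {Q : Type u} [CommRing Q]
    (μ : B ⊗[A] B →+* Q) (hμ : RingHom.ker μ = KaehlerDifferential.ideal A B ^ 2)
    {N : Type u} [AddCommGroup N] [Module B N] (L : N ≃ₗ[B] Ω[B⁄A]) (τ : N →+ Q)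
    (hτs : ∀ (b : B) (x : N), τ (b • x) = μ (b ⊗ₜ[A] (1 : B)) * τ x)
    (hτd : ∀ b : B, τ (L.symm (KaehlerDifferential.D A B b)) =
      μ ((1 : B) ⊗ₜ[A] b - b ⊗ₜ[A] (1 : B)))
    (a : B) (ω : N) (h : μ (a ⊗ₜ[A] (1 : B)) + τ ω = 0) : a = 0 ∧ ω = 0 := by
  have hle : ∀ x ∈ KaehlerDifferential.ideal A B ^ 2, μ x = 0 := fun x hx => by
    rw [← RingHom.mem_ker, hμ]; exact hx
  let μb : (B ⊗[A] B) ⧸ KaehlerDifferential.ideal A B ^ 2 →+* Q :=
    Ideal.Quotient.lift (KaehlerDifferential.ideal A B ^ 2) μ hle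
  have hμb : ∀ x, μb (Ideal.Quotient.mk (KaehlerDifferential.ideal A B ^ 2) x) = μ x :=
    fun x => Ideal.Quotient.lift_mk _ _ _
  have hμbinj : Function.Injective μb := by
    rw [injective_iff_map_eq_zero]
    intro z hz
    obtain ⟨x, rfl⟩ := Ideal.Quotient.mk_surjective z
    rw [hμb] at hz
    have hx : x ∈ KaehlerDifferential.ideal A B ^ 2 := by
      rw [← hμ]; exact hz
    exact Ideal.Quotient.eq_zero_iff_mem.mpr hx
  let c : Ω[B⁄A] →ₗ[B ⊗[A] B] (B ⊗[A] B) ⧸ KaehlerDifferential.ideal A B ^ 2 :=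
    (KaehlerDifferential.ideal A B).cotangentToQuotientSquare
  let ρ : Ω[B⁄A] → Q := fun w => μb (c w)
  have hρinj : Function.Injective ρ :=
    hμbinj.comp (KaehlerDifferential.ideal A B).cotangentToQuotientSquare_injective
  have hρt : ∀ y : KaehlerDifferential.ideal A B,
      ρ ((KaehlerDifferential.ideal A B).toCotangent y) = μ y := fun y => hμb y
  have hρadd : ∀ w w', ρ (w + w') = ρ w + ρ w' := fun w w' => by
    show μb (c (w + w')) = μb (c w) + μb (c w')
    rw [map_add c, map_add]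
  have hρ0 : ρ 0 = 0 := by
    show μb (c 0) = 0
    rw [map_zero c, map_zero]
  have hρs : ∀ (b : B) (w : Ω[B⁄A]), ρ (b • w) = μ (b ⊗ₜ[A] (1 : B)) * ρ w := by
    intro b w
    have e1 : b • w = ((b ⊗ₜ[A] (1 : B) : B ⊗[A] B) • w) := by
      rw [← algebraMap_smul (B ⊗[A] B) b w, Algebra.TensorProduct.algebraMap_apply]
      rfl
    show μb (c (b • w)) = μ (b ⊗ₜ[A] (1 : B)) * μb (c w)
    rw [e1, map_smul c, Algebra.smul_def, map_mul, Ideal.Quotient.algebraMap_eq, hμb]
  have hρd : ∀ b : B, ρ (KaehlerDifferential.D A B b) =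
      μ ((1 : B) ⊗ₜ[A] b - b ⊗ₜ[A] (1 : B)) := by
    intro b
    have e : KaehlerDifferential.D A B b = (KaehlerDifferential.ideal A B).toCotangent
        ⟨(1 : B) ⊗ₜ[A] b - b ⊗ₜ[A] (1 : B),
          KaehlerDifferential.one_smul_sub_smul_one_mem_ideal A b⟩ :=
      KaehlerDifferential.DLinearMap_apply A B b
    rw [e]
    exact hρt _
  have key : ∀ w : Ω[B⁄A], τ (L.symm w) = ρ w := by
    intro w
    have hw : w ∈ Submodule.span B (Set.range (KaehlerDifferential.D A B)) := by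
      rw [KaehlerDifferential.span_range_derivation]; trivial
    induction hw using Submodule.span_induction with
    | mem w hw =>
      obtain ⟨b, rfl⟩ := hw
      rw [hτd, hρd]
    | zero => rw [map_zero, map_zero, hρ0]
    | add x y _ _ hx hy => rw [map_add, map_add, hx, hy, hρadd]
    | smul b x _ hx => rw [map_smul, hτs, hx, hρs]
  obtain ⟨y, hy⟩ := (KaehlerDifferential.ideal A B).toCotangent_surjective (L ω)
  have hτω : τ ω = μ y := by
    have h1 := key (L ω)
    rw [L.symm_apply_apply] at h1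
    rw [h1, ← hy, hρt]
  rw [hτω, ← map_add] at h
  have hmem : a ⊗ₜ[A] (1 : B) + (y : B ⊗[A] B) ∈ KaehlerDifferential.ideal A B ^ 2 := by
    rw [← hμ]; exact h
  have hmemI : a ⊗ₜ[A] (1 : B) + (y : B ⊗[A] B) ∈ KaehlerDifferential.ideal A B :=
    Ideal.pow_le_self two_ne_zero hmem
  have ha1 : a ⊗ₜ[A] (1 : B) ∈ KaehlerDifferential.ideal A B := by
    have h2 := (KaehlerDifferential.ideal A B).sub_mem hmemI y.2
    rwa [add_sub_cancel_right] at h2
  have ha : a = 0 := by
    have h1 : Algebra.TensorProduct.lmul' A (a ⊗ₜ[A] (1 : B)) = 0 := RingHom.mem_ker.mp ha1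
    rw [Algebra.TensorProduct.lmul'_apply_tmul, mul_one] at h1
    exact h1
  refine ⟨ha, ?_⟩
  have hy2 : (y : B ⊗[A] B) ∈ KaehlerDifferential.ideal A B ^ 2 := by
    rw [ha, TensorProduct.zero_tmul, zero_add] at hmem
    exact hmem
  have hL0 : L ω = 0 := by
    rw [← hy]
    exact ((KaehlerDifferential.ideal A B).toCotangent_eq_zero y).mpr hy2
  exact L.map_eq_zero_iff.mp hL0

end Groth.Agent.Lib.PPOneH7
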