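import Mathlib
import Groth.Prelude
import Groth.Agent.Lib.PPOne1_helper7
import Groth.Agent.Lib.PPAff2_helper7
import Groth.Agent.Lib.OmegaUniv1_helper4
import Groth.Agent.Lib.OmegaCompat2_helper4

/-!
# `P^1_{X/S} = O_X ⊕ Ω_{X/S}` (helper7)
APPEND-ONLY once landed.
-/

set_option autoImplicit false
set_option linter.style.haveILetI false

universe u

noncomputable section

open CategoryTheory CategoryTheory.Limits AlgebraicGeometry Opposite TopologicalSpace TensorProduct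

namespace Groth.Agent.Lib.PPOneH7

open PrinPart Groth.Agent.Lib.PPAffH7

section Decomp

theorem coprod_total {C : Type*} [Category C] [Preadditive C] {A B : C} [HasBinaryCoproduct A B] :
    coprod.desc (𝟙 A) (0 : B ⟶ A) ≫ coprod.inl + coprod.desc (0 : A ⟶ B) (𝟙 B) ≫ coprod.inr =
      𝟙 (A ⨿ B) := by
  apply coprod.hom_ext
  · rw [Preadditive.comp_add, coprod.inl_desc_assoc, coprod.inl_desc_assoc, Category.id_comp,
      zero_comp, add_zero, Category.comp_id]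
  · rw [Preadditive.comp_add, coprod.inr_desc_assoc, coprod.inr_desc_assoc, Category.id_comp,
      zero_comp, zero_add, Category.comp_id]

variable {X : Scheme.{u}}

theorem decomp {A B : X.Modules} (W : X.Opens) (z : Γ(A ⨿ B, W)) :
    ∃ (a : Γ(A, W)) (b : Γ(B, W)),
      z = (coprod.inl : A ⟶ A ⨿ B).app W a + (coprod.inr : B ⟶ A ⨿ B).app W b := by
  refine ⟨(coprod.desc (𝟙 A) (0 : B ⟶ A)).app W z, (coprod.desc (0 : A ⟶ B) (𝟙 B)).app W z, ?_⟩
  have h1 : (Scheme.Modules.Hom.app (coprod.desc (𝟙 A) (0 : B ⟶ A) ≫ coprod.inl +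
      coprod.desc (0 : A ⟶ B) (𝟙 B) ≫ coprod.inr) W) z = z := by
    rw [coprod_total, Scheme.Modules.Hom.id_app]
    rfl
  exact h1.symm

theorem desc_inl_app {A B C : X.Modules} (p : A ⟶ C) (q : B ⟶ C) (W : X.Opens) (x : Γ(A, W)) :
    (coprod.desc p q).app W ((coprod.inl : A ⟶ A ⨿ B).app W x) = p.app W x :=
  congrArg (fun k : A ⟶ C => (Scheme.Modules.Hom.app k W) x) (coprod.inl_desc p q)

theorem desc_inr_app {A B C : X.Modules} (p : A ⟶ C) (q : B ⟶ C) (W : X.Opens) (x : Γ(B, W)) :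
    (coprod.desc p q).app W ((coprod.inr : B ⟶ A ⨿ B).app W x) = q.app W x :=
  congrArg (fun k : B ⟶ C => (Scheme.Modules.Hom.app k W) x) (coprod.inr_desc p q)

end Decomp

section Main

variable {X S : Scheme.{u}} (f : X ⟶ S) [QuasiSeparated f]
  (e : Coh.structureModule X ⟶ P f 1)
  (he : ∀ (U : X.Opens) (s : Γ(X, U)), e.app U (OmegaSh.strSect X U s) = s • dn f 1 U 1)
  (ι : Omega.sheaf f ⟶ P f 1)
  (hι : ∀ (U : X.Opens) (s : Γ(X, U)),
    ι.app U ((OmegaSh.dOmega f).app U s) = dn f 1 U s - s • dn f 1 U 1)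

omit [QuasiSeparated f] in
theorem basis_small (O : X.Opens) (x : X) (hx : x ∈ O) :
    ∃ W : X.Opens, (IsAffineOpen W ∧ ∃ V : S.Opens, IsAffineOpen V ∧ W ≤ f ⁻¹ᵁ V) ∧ x ∈ W ∧
      W ≤ O := by
  obtain ⟨V, hV, hxV, -⟩ := exists_isAffineOpen_mem_and_subset (x := f x) (U := ⊤) trivial
  obtain ⟨W, hW, hxW, hWle⟩ :=
    exists_isAffineOpen_mem_and_subset (x := x) (U := O ⊓ f ⁻¹ᵁ V) ⟨hx, hxV⟩
  exact ⟨W, ⟨hW, V, hV, hWle.trans inf_le_right⟩, hxW, hWle.trans inf_le_left⟩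

include he hι in
theorem epi5978 : Epi (coprod.desc e ι) := by
  refine Groth.Agent.Lib.OmegaCompat2H4.epi_of_surjective_basis (coprod.desc e ι)
    (fun W => IsAffineOpen W ∧ ∃ V : S.Opens, IsAffineOpen V ∧ W ≤ f ⁻¹ᵁ V) (basis_small f)
    (fun W hW => ?_)
  obtain ⟨hW, V, hV, hWV⟩ := hW
  intro z
  have hz := gen_P f 1 hW hV hWV z
  induction hz using Submodule.span_induction with
  | mem z hz =>
    obtain ⟨b, rfl⟩ := hz
    refine ⟨(coprod.inl : Coh.structureModule X ⟶ Coh.structureModule X ⨿ Omega.sheaf f).app W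
        (OmegaSh.strSect X W b) +
      (coprod.inr : Omega.sheaf f ⟶ Coh.structureModule X ⨿ Omega.sheaf f).app W
        ((OmegaSh.dOmega f).app W b), ?_⟩
    refine (map_add _ _ _).trans ?_
    rw [desc_inl_app, desc_inr_app, he, hι, add_sub_cancel]
  | zero => exact ⟨0, map_zero _⟩
  | add x y _ _ hx hy =>
    obtain ⟨x', rfl⟩ := hx
    obtain ⟨y', rfl⟩ := hy
    exact ⟨x' + y', map_add _ _ _⟩
  | smul c x _ hx =>
    obtain ⟨x', rfl⟩ := hx
    exact ⟨c • x', Scheme.Modules.Hom.app_smul _ _ _⟩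

include he hι in
theorem inj5978 {U : X.Opens} {V : S.Opens} (hU : IsAffineOpen U) (hV : IsAffineOpen V)
    (hUV : U ≤ f ⁻¹ᵁ V) : Function.Injective ((coprod.desc e ι).app U) := by
  rw [injective_iff_map_eq_zero]
  intro z hz
  obtain ⟨a, ω, rfl⟩ := decomp U z
  have hz1 : e.app U a + ι.app U ω = 0 := by
    have h0 := (map_add ((coprod.desc e ι).app U).hom _ _).symm.trans hz
    rw [desc_inl_app, desc_inr_app] at h0
    exact h0
  let a' : Γ(X, U) := OmegaSh.fnSect X U a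
  have ha : e.app U a = a' • dn f 1 U 1 := he U a'
  obtain ⟨RC, j1, j2, ε, ν, hpo, hε1, hε2, hνs, hνk, hj1, hj2⟩ := geom (f := f) 1 hU hV hUV
  letI : Algebra Γ(S, V) Γ(X, U) := (f.appLE V U hUV).hom.toAlgebra
  obtain ⟨μ, hμ, -, hk⟩ := alg_exists (A := Γ(S, V)) (B := Γ(X, U)) j1 j2 hpo ε
    (fun b => congrArg (fun k => k.hom b) hε1) (fun b => congrArg (fun k => k.hom b) hε2)
    ν hνs 1 hνk
  obtain ⟨L, hL⟩ := Groth.Agent.Lib.OmegaUnivH4.omegaSections' f hU hV hUV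
  have e1 : ∀ b : Γ(X, U), ν.hom (j1.hom b) = (pr1 f 1).app U b := fun b =>
    congrArg (fun k => k.hom b) (hj1.trans (pr1 f 1).appLE_eq_app)
  have e2 : ∀ b' : Γ(X, U), ν.hom (j2.hom b') =
      (pr2 f 1).appLE U (pr1 f 1 ⁻¹ᵁ U) (preimage_pr1 f 1 U).le b' := fun b' =>
    congrArg (fun k => k.hom b') hj2
  have hμ1 : ∀ b : Γ(X, U), μ (b ⊗ₜ[Γ(S, V)] (1 : Γ(X, U))) = (pr1 f 1).app U b := by
    intro b
    rw [hμ, map_one, mul_one, e1]
  have hμ2 : ∀ b : Γ(X, U), μ ((1 : Γ(X, U)) ⊗ₜ[Γ(S, V)] b) =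
      (pr2 f 1).appLE U (pr1 f 1 ⁻¹ᵁ U) (preimage_pr1 f 1 U).le b := by
    intro b
    rw [hμ, map_one, one_mul, e2]
  let τ : Γ(Omega.sheaf f, U) →+ Γ(nbhd f 1, pr1 f 1 ⁻¹ᵁ U) :=
    (thetaP f 1 U).toAddMonoidHom.comp (ι.app U).hom
  have hτs : ∀ (b : Γ(X, U)) (x : Γ(Omega.sheaf f, U)),
      τ (b • x) = μ (b ⊗ₜ[Γ(S, V)] (1 : Γ(X, U))) * τ x := by
    intro b x
    show thetaP f 1 U (ι.app U (b • x)) = _
    rw [Scheme.Modules.Hom.app_smul, thetaP_smul, hμ1]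
    rfl
  have hτd : ∀ b : Γ(X, U), τ (L.symm (KaehlerDifferential.D Γ(S, V) Γ(X, U) b)) =
      μ ((1 : Γ(X, U)) ⊗ₜ[Γ(S, V)] b - b ⊗ₜ[Γ(S, V)] (1 : Γ(X, U))) := by
    intro b
    have e3 : L.symm (KaehlerDifferential.D Γ(S, V) Γ(X, U) b) = OmegaSh.dSect f U b := by
      rw [LinearEquiv.symm_apply_eq]
      exact (hL b).symm
    have e4 : ι.app U (OmegaSh.dSect f U b) = dn f 1 U b - b • dn f 1 U 1 := hι U b
    show thetaP f 1 U (ι.app U (L.symm _)) = _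
    rw [e3, e4, map_sub, thetaP_dn, thetaP_smul, thetaP_dn, map_one, mul_one, map_sub, hμ1,
      hμ2]
  have hsum : μ (a' ⊗ₜ[Γ(S, V)] (1 : Γ(X, U))) + τ ω = 0 := by
    have h1 := congrArg (thetaP f 1 U) hz1
    rw [map_add, ha, thetaP_smul, thetaP_dn, map_one, mul_one, map_zero] at h1
    rw [hμ1]
    exact h1
  have hk' : RingHom.ker μ = KaehlerDifferential.ideal Γ(S, V) Γ(X, U) ^ 2 := hk
  obtain ⟨ha0, hω0⟩ := alg5978 μ hk' L τ hτs hτd a' ω hsum
  have ha0' : a = 0 := ha0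
  rw [ha0', hω0, map_zero, map_zero, add_zero]

include he hι in
theorem main5978 : IsIso (coprod.desc e ι) := by
  haveI := epi5978 f e he ι hι
  haveI : Mono (coprod.desc e ι) := by
    refine Groth.Agent.Lib.OmegaCompat2H4.mono_of_injective_basis (coprod.desc e ι)
      (fun W => IsAffineOpen W ∧ ∃ V : S.Opens, IsAffineOpen V ∧ W ≤ f ⁻¹ᵁ V) (basis_small f)
      (fun W hW => ?_)
    obtain ⟨hW, V, hV, hWV⟩ := hW
    exact inj5978 f e he ι hι hW hV hWV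
  exact isIso_of_mono_of_epi _

end Main

end Groth.Agent.Lib.PPOneH7
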