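import Mathlib
import Groth.Prelude.Def_PP16
import Groth.Agent.Lib.PP16b_lead

set_option autoImplicit false
set_option maxHeartbeats 1000000

/-!
# Principal parts along a section (helper1)
-/

namespace PPSectionH1

open TensorProduct PP16 Groth.Agent.Lib.PP16L

universe u

section A

variable (n : ℕ) (A B : Type u) [CommRing A] [CommRing B] [Algebra A B]

/-- the augmentation `P^n → B`. -/
noncomputable def aug : P n A B →+* B :=
  Ideal.Quotient.lift (KaehlerDifferential.ideal A B ^ (n + 1))
    (Algebra.TensorProduct.lmul' A (S := B)).toRingHom (by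
      intro x hx
      have h : x ∈ KaehlerDifferential.ideal A B := Ideal.pow_le_self (Nat.succ_ne_zero n) hx
      exact (RingHom.mem_ker).mp h)

theorem aug_mk (x : B ⊗[A] B) :
    aug n A B (Ideal.Quotient.mk _ x) = Algebra.TensorProduct.lmul' A (S := B) x := rfl

theorem aug_algebraMap (b : B) : aug n A B (algebraMap B (P n A B) b) = b := by
  rw [algebraMap_eq, aug_mk, Algebra.TensorProduct.lmul'_apply_tmul, mul_one]

theorem mem_augIdeal_iff (x : P n A B) : x ∈ PP16.augIdeal n A B ↔ aug n A B x = 0 := by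
  constructor
  · intro hx
    have hle : PP16.augIdeal n A B ≤ RingHom.ker (aug n A B) := by
      rw [PP16.augIdeal, Ideal.map_le_iff_le_comap]
      intro y hy
      rw [Ideal.mem_comap, RingHom.mem_ker, aug_mk]
      exact (RingHom.mem_ker).mp hy
    exact (RingHom.mem_ker).mp (hle hx)
  · intro hx
    obtain ⟨y, rfl⟩ := Ideal.Quotient.mk_surjective x
    rw [aug_mk] at hx
    exact Ideal.mem_map_of_mem _ ((RingHom.mem_ker).mpr hx)

theorem sub_algebraMap_aug_mem (p : P n A B) :
    p - algebraMap B (P n A B) (aug n A B p) ∈ PP16.augIdeal n A B := by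
  rw [mem_augIdeal_iff, map_sub, aug_algebraMap, sub_self]

variable (g : B →ₐ[A] A)

theorem ker_PsiR_le :
    RingHom.ker (PsiR n A B g) ≤ (RingHom.ker g).map (algebraMap B (PP16.P n A B)) := by
  intro x hx
  obtain ⟨hsurj, hker⟩ := retraction_result n A B g
  obtain ⟨c, hc⟩ := hsurj (Ideal.Quotient.mk _ x)
  rw [RingHom.comp_apply, Ideal.Quotient.eq] at hc
  have hle : (RingHom.ker g).map (algebraMap B (PP16.P n A B)) ≤ RingHom.ker (PsiR n A B g) := by
    rw [Ideal.map_le_iff_le_comap]
    intro k hk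
    rw [Ideal.mem_comap, RingHom.mem_ker]
    exact PsiR_algebraMap_of_mem n A B g k hk
  have h1 := (RingHom.mem_ker).mp (hle hc)
  rw [map_sub, (RingHom.mem_ker).mp hx, sub_zero] at h1
  have h2 : PsiR n A B g (dn n A B c) = 0 := h1
  rw [PsiR_dn, Ideal.Quotient.eq_zero_iff_mem] at h2
  rw [← hker, RingHom.mem_ker, RingHom.comp_apply, Ideal.Quotient.eq_zero_iff_mem] at h2
  have h3 := sub_mem h2 hc
  rwa [sub_sub_cancel] at h3

/-- the submodule `K • T^n`. -/
noncomputable def NN : Submodule B (P n A B) :=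
  RingHom.ker g • (PP16.augIdeal n A B).restrictScalars B

theorem mul_mem_NN (p x : P n A B) (hx : x ∈ NN n A B g) : p * x ∈ NN n A B g := by
  unfold NN at hx ⊢
  refine Submodule.smul_induction_on hx (fun i hi a ha => ?_) (fun x y ihx ihy => ?_)
  · rw [mul_smul_comm]
    exact Submodule.smul_mem_smul hi (Ideal.mul_mem_left _ p ha)
  · rw [mul_add]; exact add_mem ihx ihy

theorem key (t : P n A B)
    (ht : t ∈ (RingHom.ker g).map (algebraMap B (PP16.P n A B))) :
    aug n A B t ∈ RingHom.ker g ∧ t - algebraMap B (P n A B) (aug n A B t) ∈ NN n A B g := by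
  change t ∈ Submodule.span (P n A B) (algebraMap B (P n A B) '' (RingHom.ker g : Set B)) at ht
  induction ht using Submodule.span_induction with
  | mem x hx =>
    obtain ⟨i, hi, rfl⟩ := hx
    rw [aug_algebraMap, sub_self]
    exact ⟨hi, zero_mem _⟩
  | zero =>
    rw [map_zero, map_zero, sub_self]
    exact ⟨zero_mem _, zero_mem _⟩
  | add x y _ _ ihx ihy =>
    refine ⟨by rw [map_add]; exact add_mem ihx.1 ihy.1, ?_⟩
    have e : x + y - algebraMap B (P n A B) (aug n A B (x + y)) =
        (x - algebraMap B (P n A B) (aug n A B x)) + (y - algebraMap B (P n A B) (aug n A B y)) := by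
      rw [map_add, map_add]; ring
    rw [e]; exact add_mem ihx.2 ihy.2
  | smul a x _ ih =>
    refine ⟨by rw [smul_eq_mul, map_mul]; exact Ideal.mul_mem_left _ _ ih.1, ?_⟩
    have e : a • x - algebraMap B (P n A B) (aug n A B (a • x)) =
        a * (x - algebraMap B (P n A B) (aug n A B x)) +
          (aug n A B x) • (a - algebraMap B (P n A B) (aug n A B a)) := by
      rw [smul_eq_mul, map_mul, map_mul, Algebra.smul_def]; ring
    rw [e]
    refine add_mem (mul_mem_NN n A B g _ _ ih.2) ?_
    exact Submodule.smul_mem_smul ih.1 (sub_algebraMap_aug_mem n A B a)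

theorem mem_NN_of_PsiR_eq_zero (t : P n A B) (ht : t ∈ PP16.augIdeal n A B)
    (h : PsiR n A B g t = 0) : t ∈ NN n A B g := by
  have h1 := key n A B g t (ker_PsiR_le n A B g ((RingHom.mem_ker).mpr h))
  have h2 := (mem_augIdeal_iff n A B t).mp ht
  rw [h2, map_zero, sub_zero] at h1
  exact h1.2

theorem PsiR_eq_zero_of_mem_NN (t : P n A B) (ht : t ∈ NN n A B g) : PsiR n A B g t = 0 := by
  unfold NN at ht
  refine Submodule.smul_induction_on ht (fun i hi a ha => ?_) (fun x y ihx ihy => ?_)
  · rw [Algebra.smul_def, map_mul, PsiR_algebraMap_of_mem n A B g i hi, zero_mul]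
  · rw [map_add, ihx, ihy, add_zero]

end A

section Main

variable (n : ℕ) (R SY SX : Type u)
    [CommRing R] [CommRing SY] [CommRing SX] [Algebra R SY] [Algebra R SX] [Algebra SY SX]
    [IsScalarTower R SY SX] (σ : SX →ₐ[R] R)

theorem PsiR_map_gen (b : SY) :
    PsiR n R SX σ (PP16.map n R SY R SX
      (Ideal.Quotient.mk _ ((1 : SY) ⊗ₜ[R] b - b ⊗ₜ[R] (1 : SY)))) =
      Ideal.Quotient.mk _ (algebraMap SY SX b - algebraMap R SX (σ (algebraMap SY SX b))) := by
  rw [PP16.map_mk, map_sub, PP16.tensorMap_tmul, PP16.tensorMap_tmul, map_one, PsiR_mk, map_sub,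
    psiR_tmul, psiR_tmul, map_one, map_one, one_mul, mul_one]

theorem main :
    (∀ y ∈ PP16.augIdeal n R SY,
        PP16.map n R SY R SX y ∈
          RingHom.ker σ.toRingHom • (PP16.augIdeal n R SX).restrictScalars SX) ↔
      (∀ b : SY, algebraMap SY SX b ∈ RingHom.ker σ.toRingHom →
        algebraMap SY SX b ∈ RingHom.ker σ.toRingHom ^ (n + 1)) := by
  have hK : RingHom.ker σ.toRingHom = RingHom.ker σ := rfl
  rw [hK]
  constructor
  · intro h b hb
    have hy : (Ideal.Quotient.mk _ ((1 : SY) ⊗ₜ[R] b - b ⊗ₜ[R] (1 : SY)) : P n R SY)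
        ∈ PP16.augIdeal n R SY :=
      Ideal.mem_map_of_mem _ (KaehlerDifferential.one_smul_sub_smul_one_mem_ideal R b)
    have h1 := PsiR_eq_zero_of_mem_NN n R SX σ _ (h _ hy)
    rw [PsiR_map_gen, (RingHom.mem_ker).mp hb, map_zero, sub_zero,
      Ideal.Quotient.eq_zero_iff_mem] at h1
    exact h1
  · intro h y hy
    apply mem_NN_of_PsiR_eq_zero n R SX σ
    · -- map y ∈ augIdeal
      obtain ⟨z, rfl⟩ := Ideal.Quotient.mk_surjective y
      have hz : z ∈ KaehlerDifferential.ideal R SY := by
        have := (mem_augIdeal_iff n R SY _).mp hy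
        rw [aug_mk] at this
        exact (RingHom.mem_ker).mpr this
      rw [PP16.map_mk]
      exact Ideal.mem_map_of_mem _
        (PP16.ideal_map_tensorMap_le R SY R SX (Ideal.mem_map_of_mem _ hz))
    · -- PsiR (map y) = 0
      have hle : PP16.augIdeal n R SY ≤
          RingHom.ker ((PsiR n R SX σ).comp (PP16.map n R SY R SX).toRingHom) := by
        have hsp : Ideal.span (Set.range fun s : SY => (1 : SY) ⊗ₜ[R] s - s ⊗ₜ[R] (1 : SY)) ≤
            Ideal.comap (Ideal.Quotient.mk (KaehlerDifferential.ideal R SY ^ (n + 1)))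
              (RingHom.ker ((PsiR n R SX σ).comp (PP16.map n R SY R SX).toRingHom)) := ?_
        · rw [KaehlerDifferential.span_range_eq_ideal] at hsp
          exact Ideal.map_le_iff_le_comap.mpr hsp
        rw [Ideal.span_le]
        rintro _ ⟨b, rfl⟩
        rw [SetLike.mem_coe, Ideal.mem_comap, RingHom.mem_ker, RingHom.comp_apply]
        have e := PsiR_map_gen n R SY SX σ b
        refine e.trans ?_
        rw [Ideal.Quotient.eq_zero_iff_mem]
        have hb' : algebraMap SY SX (b - algebraMap R SY (σ (algebraMap SY SX b))) =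
            algebraMap SY SX b - algebraMap R SX (σ (algebraMap SY SX b)) := by
          rw [map_sub, ← IsScalarTower.algebraMap_apply R SY SX]
        rw [← hb']
        apply h
        rw [hb']
        exact sub_mem_ker R SX σ _
      exact (RingHom.mem_ker).mp (hle hy)

end Main

end PPSectionH1
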