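import Mathlib

/-!
# Quotients `A[T_i]/(T_i^p + p G_i - f_i)` with `p`-independent `f_i` (helper4)
-/

set_option autoImplicit false
universe u

namespace Groth.Agent.Lib.PQuotH4

open MvPolynomial IsLocalRing

variable {A : Type u} [CommRing A] [IsLocalRing A] (p : ℕ) [hp : Fact p.Prime]
  [CharP (ResidueField A) p] {ι : Type u} (G : ι → MvPolynomial ι A) (f : ι → A)

/-- The polynomials `F_i = T_i^p + p G_i - f_i`. -/
noncomputable def Fp (i : ι) : MvPolynomial ι A :=
  X i ^ p + (p : MvPolynomial ι A) * G i - C (f i)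

/-- The quotient ring `A'`. -/
abbrev Q : Type u := MvPolynomial ι A ⧸ Ideal.span (Set.range (Fp p G f))

/-- The ideal `m A'`. -/
noncomputable abbrev mQ : Ideal (Q p G f) := (maximalIdeal A).map (algebraMap A (Q p G f))

/-- The ring `A'/mA'`. -/
def B : Type u := Q p G f ⧸ mQ p G f

noncomputable instance : CommRing (B p G f) :=
  inferInstanceAs (CommRing (Q p G f ⧸ mQ p G f))

noncomputable instance : Algebra A (B p G f) :=
  inferInstanceAs (Algebra A (Q p G f ⧸ mQ p G f))

/-- The quotient map `A' → B`. -/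
noncomputable def mkB : Q p G f →+* B p G f := Ideal.Quotient.mk (mQ p G f)

theorem mkB_surjective : Function.Surjective (mkB p G f) := Ideal.Quotient.mk_surjective

theorem mkB_eq_zero_iff (x : Q p G f) : mkB p G f x = 0 ↔ x ∈ mQ p G f :=
  Ideal.Quotient.eq_zero_iff_mem

theorem algebraMap_B (a : A) : algebraMap A (B p G f) a = mkB p G f (algebraMap A (Q p G f) a) :=
  rfl

/-- The class of `T_i` in `B`. -/
noncomputable def t (i : ι) : B p G f :=
  mkB p G f (Ideal.Quotient.mk _ (X i))

theorem p_mem : (p : A) ∈ maximalIdeal A := by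
  rw [← residue_eq_zero_iff, map_natCast]
  exact CharP.cast_eq_zero _ p

theorem algebraMap_B_eq_zero {a : A} (ha : a ∈ maximalIdeal A) : algebraMap A (B p G f) a = 0 := by
  rw [algebraMap_B, mkB_eq_zero_iff]
  exact Ideal.mem_map_of_mem _ ha

theorem p_eq_zero : (p : B p G f) = 0 := by
  rw [← map_natCast (algebraMap A (B p G f))]
  exact algebraMap_B_eq_zero p G f (p_mem p)

theorem t_pow (i : ι) : t p G f i ^ p = algebraMap A (B p G f) (f i) := by
  have h0 : Ideal.Quotient.mk (Ideal.span (Set.range (Fp p G f))) (Fp p G f i) = 0 :=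
    Ideal.Quotient.eq_zero_iff_mem.mpr (Ideal.subset_span ⟨i, rfl⟩)
  have h1 := congrArg (mkB p G f) h0
  have hF : Fp p G f i = X i ^ p + (p : MvPolynomial ι A) * G i - C (f i) := rfl
  rw [hF, map_sub, map_add, map_mul, map_pow, map_natCast, map_sub, map_add, map_mul, map_pow,
    map_natCast, p_eq_zero, zero_mul, add_zero, map_zero, sub_eq_zero] at h1
  exact h1

/-- The ring hom `K → B`. -/
noncomputable def kToB : ResidueField A →+* B p G f :=
  Ideal.Quotient.lift (maximalIdeal A) (algebraMap A (B p G f))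
    (fun _ ha => algebraMap_B_eq_zero p G f ha)

theorem kToB_residue (a : A) : kToB p G f (residue A a) = algebraMap A (B p G f) a := rfl

section Nontrivial

/-- `B` maps to the algebraic closure of the residue field. -/
theorem nontrivial_B : Nontrivial (B p G f) := by
  classical
  haveI : CharP (AlgebraicClosure (ResidueField A)) p :=
    charP_of_injective_algebraMap (algebraMap (ResidueField A) _).injective p
  choose r hr using fun i : ι => IsAlgClosed.exists_pow_nat_eq
    (algebraMap (ResidueField A) (AlgebraicClosure (ResidueField A)) (residue A (f i)))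
    hp.out.pos
  let φ₀ : MvPolynomial ι A →+* AlgebraicClosure (ResidueField A) :=
    eval₂Hom ((algebraMap (ResidueField A) (AlgebraicClosure (ResidueField A))).comp
      (residue A)) r
  have h0 : Ideal.span (Set.range (Fp p G f)) ≤ RingHom.ker φ₀ := by
    rw [Ideal.span_le]
    rintro _ ⟨i, rfl⟩
    rw [SetLike.mem_coe, RingHom.mem_ker]
    have hF : Fp p G f i = X i ^ p + (p : MvPolynomial ι A) * G i - C (f i) := rfl
    rw [hF, map_sub, map_add, map_mul, map_pow, map_natCast, CharP.cast_eq_zero, zero_mul,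
      add_zero]
    show eval₂Hom _ r (X i) ^ p - eval₂Hom _ r (C (f i)) = 0
    rw [eval₂Hom_X', eval₂Hom_C, hr i, RingHom.comp_apply, sub_self]
  let φ₁ : Q p G f →+* AlgebraicClosure (ResidueField A) :=
    Ideal.Quotient.lift _ φ₀ (fun x hx => h0 hx)
  have h1 : mQ p G f ≤ RingHom.ker φ₁ := by
    rw [Ideal.map_le_iff_le_comap]
    intro a ha
    rw [Ideal.mem_comap, RingHom.mem_ker]
    show φ₀ (C a) = 0
    show eval₂Hom _ r (C a) = 0
    rw [eval₂Hom_C, RingHom.comp_apply, (residue_eq_zero_iff a).mpr ha, map_zero]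
  let φ₂ : B p G f →+* AlgebraicClosure (ResidueField A) :=
    Ideal.Quotient.lift (mQ p G f) φ₁ (fun x hx => h1 hx)
  exact φ₂.domain_nontrivial

end Nontrivial

section Span

variable [Fintype ι]

/-- The reduced monomials in `B`. -/
noncomputable def v (e : {e : ι →₀ ℕ // ∀ i, e i < p}) : B p G f :=
  e.1.prod fun i n => t p G f i ^ n

theorem v_eq (e : {e : ι →₀ ℕ // ∀ i, e i < p}) : v p G f e = ∏ i, t p G f i ^ e.1 i := by
  unfold v
  rw [Finsupp.prod_fintype]
  intro i; exact pow_zero _

theorem mk_monomial_mem (μ : ι →₀ ℕ) (a : A) :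
    mkB p G f (Ideal.Quotient.mk _ (monomial μ a)) ∈
      Submodule.span A (Set.range (v p G f)) := by
  have hpos : 0 < p := hp.out.pos
  let e : {e : ι →₀ ℕ // ∀ i, e i < p} :=
    ⟨μ.mapRange (· % p) (Nat.zero_mod p), fun i => by
      rw [Finsupp.mapRange_apply]; exact Nat.mod_lt _ hpos⟩
  have h1 : mkB p G f (Ideal.Quotient.mk _ (monomial μ a)) =
      algebraMap A (B p G f) a * ∏ i, t p G f i ^ μ i := by
    rw [monomial_eq, map_mul, map_mul, map_finsuppProd, map_finsuppProd, Finsupp.prod_fintype]
    · congr 1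
    · intro i; rw [pow_zero, map_one, map_one]
  have h2 : ∏ i, t p G f i ^ μ i =
      algebraMap A (B p G f) (∏ i, f i ^ (μ i / p)) * v p G f e := by
    rw [v_eq, map_prod, ← Finset.prod_mul_distrib]
    refine Finset.prod_congr rfl fun i _ => ?_
    have : μ i = p * (μ i / p) + μ i % p := (Nat.div_add_mod _ _).symm
    conv_lhs => rw [this]
    rw [pow_add, pow_mul, t_pow, map_pow]
    congr 1
  rw [h1, h2, ← mul_assoc, ← map_mul, ← Algebra.smul_def]
  exact Submodule.smul_mem _ _ (Submodule.subset_span ⟨e, rfl⟩)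

theorem span_eq_top : Submodule.span A (Set.range (v p G f)) = ⊤ := by
  rw [eq_top_iff]
  rintro x -
  obtain ⟨y, rfl⟩ := mkB_surjective p G f x
  obtain ⟨P, rfl⟩ := Ideal.Quotient.mk_surjective y
  induction P using MvPolynomial.induction_on' with
  | monomial μ a => exact mk_monomial_mem p G f μ a
  | add P Q hP hQ =>
    rw [map_add, map_add]
    exact add_mem hP hQ

theorem v_pow (e : {e : ι →₀ ℕ // ∀ i, e i < p}) :
    v p G f e ^ p = algebraMap A (B p G f) (∏ i, f i ^ e.1 i) := by
  rw [v_eq, ← Finset.prod_pow, map_prod]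
  refine Finset.prod_congr rfl fun i _ => ?_
  rw [← pow_mul, mul_comm, pow_mul, t_pow, map_pow]

end Span

section Field

variable [Fintype ι]
  (hind : LinearIndependent (↥(frobenius (ResidueField A) p).fieldRange)
      (fun e : {e : ι →₀ ℕ // ∀ i, e i < p} => e.1.prod fun i n => (residue A (f i)) ^ n))

include hind in
theorem isUnit_of_ne_zero (x : B p G f) (hx : x ≠ 0) : IsUnit x := by
  classical
  haveI := nontrivial_B p G f
  haveI : CharP (B p G f) p := charP_of_injective_ringHom (kToB p G f).injective p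
  have hxs : x ∈ Submodule.span A (Set.range (v p G f)) := by
    rw [span_eq_top]; trivial
  obtain ⟨l, rfl⟩ := Finsupp.mem_span_range_iff_exists_finsupp.mp hxs
  -- the `p`-th power
  have hpow : (l.sum fun e a => a • v p G f e) ^ p =
      algebraMap A (B p G f) (∑ e ∈ l.support, l e ^ p * ∏ i, f i ^ e.1 i) := by
    rw [Finsupp.sum, sum_pow_char, map_sum]
    refine Finset.sum_congr rfl fun e _ => ?_
    rw [Algebra.smul_def, mul_pow, v_pow, map_mul, map_pow]
  by_cases ha : (∑ e ∈ l.support, l e ^ p * ∏ i, f i ^ e.1 i) ∈ maximalIdeal A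
  · exfalso
    apply hx
    have hres : ∑ e ∈ l.support, (residue A (l e)) ^ p *
        (e.1.prod fun i n => (residue A (f i)) ^ n) = 0 := by
      have := (residue_eq_zero_iff _).mpr ha
      rw [map_sum] at this
      rw [← this]
      refine Finset.sum_congr rfl fun e _ => ?_
      rw [map_mul, map_pow, map_prod, Finsupp.prod_fintype]
      · congr 1
      · intro i; exact pow_zero _
    have hmem : ∀ e, (residue A (l e)) ^ p ∈ (frobenius (ResidueField A) p).fieldRange :=
      fun e => ⟨residue A (l e), rfl⟩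
    have h0 := linearIndependent_iff'.mp hind l.support
      (fun e => ⟨(residue A (l e)) ^ p, hmem e⟩) (by
        rw [← hres]
        refine Finset.sum_congr rfl fun e _ => ?_
        rfl)
    rw [Finsupp.sum]
    refine Finset.sum_eq_zero fun e he => ?_
    have h1 := h0 e he
    have h2 : (residue A (l e)) ^ p = 0 := congrArg Subtype.val h1
    have h3 : residue A (l e) = 0 := pow_eq_zero_iff (hp.out.ne_zero) |>.mp h2
    rw [Algebra.smul_def, algebraMap_B_eq_zero p G f ((residue_eq_zero_iff _).mp h3), zero_mul]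
  · have hu : IsUnit (∑ e ∈ l.support, l e ^ p * ∏ i, f i ^ e.1 i) := by
      by_contra h
      exact ha ((mem_maximalIdeal _).mpr h)
    have := hu.map (algebraMap A (B p G f))
    rw [← hpow] at this
    exact (isUnit_pow_iff hp.out.ne_zero).mp this

end Field

section Local

variable (hm : maximalIdeal A ^ 2 = ⊥)

include hm in
theorem mQ_sq (x y : Q p G f) (hx : x ∈ mQ p G f) (hy : y ∈ mQ p G f) : x * y = 0 := by
  have h : mQ p G f * mQ p G f = ⊥ := by
    rw [← Ideal.map_mul, ← pow_two, hm, Ideal.map_bot]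
  have := Ideal.mul_mem_mul hx hy
  rw [h] at this
  exact this

variable [Fintype ι]
  (hind : LinearIndependent (↥(frobenius (ResidueField A) p).fieldRange)
      (fun e : {e : ι →₀ ℕ // ∀ i, e i < p} => e.1.prod fun i n => (residue A (f i)) ^ n))

include hm hind in
theorem isUnit_iff (x : Q p G f) : IsUnit x ↔ x ∉ mQ p G f := by
  haveI := nontrivial_B p G f
  constructor
  · intro hu hx
    have : mQ p G f = ⊤ := Ideal.eq_top_of_isUnit_mem _ hx hu
    have h1 : (1 : B p G f) = 0 := by
      rw [← map_one (mkB p G f), mkB_eq_zero_iff, this]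
      trivial
    exact one_ne_zero h1
  · intro hx
    have hne : mkB p G f x ≠ 0 := fun h => hx ((mkB_eq_zero_iff p G f x).mp h)
    obtain ⟨⟨u, w, huw, hwu⟩, hu⟩ := isUnit_of_ne_zero p G f hind _ hne
    obtain ⟨y, rfl⟩ := mkB_surjective p G f w
    have hu' : u = mkB p G f x := hu
    rw [hu', ← map_mul, ← sub_eq_zero, ← map_one (mkB p G f), ← map_sub, mkB_eq_zero_iff] at huw
    -- `x * y = 1 + n` with `n² = 0`
    have hn : IsNilpotent (x * y - 1) := ⟨2, by
      rw [pow_two]; exact mQ_sq p G f hm _ _ huw huw⟩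
    have h2 : IsUnit (x * y) := by
      have := hn.isUnit_add_left_of_commute isUnit_one (Commute.all _ _)
      rwa [add_sub_cancel] at this
    exact isUnit_of_mul_isUnit_left h2

include hm hind in
theorem isLocalRing_Q : IsLocalRing (Q p G f) := by
  haveI : Nontrivial (Q p G f) := by
    haveI := nontrivial_B p G f
    exact (mkB p G f).domain_nontrivial
  refine IsLocalRing.of_nonunits_add ?_
  intro a b ha hb
  rw [mem_nonunits_iff, isUnit_iff p G f hm hind, not_not] at ha hb ⊢
  exact add_mem ha hb

include hm hind in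
theorem maximalIdeal_Q [IsLocalRing (Q p G f)] : maximalIdeal (Q p G f) = mQ p G f := by
  ext x
  rw [mem_maximalIdeal, mem_nonunits_iff, isUnit_iff p G f hm hind, not_not]

end Local

theorem main4605 (hm : maximalIdeal A ^ 2 = ⊥) [Finite ι]
    (hind : LinearIndependent (↥(frobenius (ResidueField A) p).fieldRange)
      (fun e : {e : ι →₀ ℕ // ∀ i, e i < p} => e.1.prod fun i n => (residue A (f i)) ^ n)) :
    ∃ _ : IsLocalRing (MvPolynomial ι A ⧸ Ideal.span (Set.range (Fp p G f))),
      maximalIdeal (MvPolynomial ι A ⧸ Ideal.span (Set.range (Fp p G f))) =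
        (maximalIdeal A).map
          (algebraMap A (MvPolynomial ι A ⧸ Ideal.span (Set.range (Fp p G f)))) := by
  haveI := Fintype.ofFinite ι
  exact ⟨isLocalRing_Q p G f hm hind,
    @maximalIdeal_Q _ _ _ p _ _ _ G f hm _ hind (isLocalRing_Q p G f hm hind)⟩

end Groth.Agent.Lib.PQuotH4
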