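import Mathlib
import Groth.Agent.Lib.EtaleReduced_helper7

/-!
# Descent of `p`-th roots along faithfully flat étale maps in characteristic `p` (helper5)
APPEND-ONLY once landed.
-/

set_option autoImplicit false
universe u

namespace Groth.Agent.PRoot

open TensorProduct

/-- in a reduced ring in which `p = 0`, `p`-th roots are unique. -/
theorem eq_of_pow_eq {R : Type*} [CommRing R] [IsReduced R] (p : ℕ) [hpp : Fact p.Prime]
    (hp : (p : R) = 0) {x y : R} (h : x ^ p = y ^ p) : x = y := by
  rcases subsingleton_or_nontrivial R with hs | hn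
  · exact Subsingleton.elim _ _
  · haveI : CharP R p := (CharP.charP_iff_prime_eq_zero hpp.out).2 hp
    have h1 : (x - y) ^ p = 0 := by
      rw [sub_pow_char, h, sub_self]
    have h2 : IsNilpotent (x - y) := ⟨p, h1⟩
    exact sub_eq_zero.1 h2.eq_zero

/-- `p`-th roots descend along faithfully flat étale algebras over a reduced ring of
characteristic `p`. -/
theorem exists_root_of_faithfullyFlat_etale {A B : Type u} [CommRing A] [CommRing B] [Algebra A B]
    [Algebra.Etale A B] [Module.FaithfullyFlat A B] [IsReduced A] (p : ℕ) [Fact p.Prime]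
    (hp : (p : A) = 0) (a : A) (c : B) (hc : c ^ p = algebraMap A B a) : ∃ b : A, b ^ p = a := by
  haveI : Algebra.Etale A (B ⊗[A] B) := Algebra.Etale.comp A B (B ⊗[A] B)
  haveI : IsReduced (B ⊗[A] B) :=
    Groth.Agent.Lib.EtaleReduced_helper7.isReduced_of_etale A (B ⊗[A] B)
  have hpBB : (p : B ⊗[A] B) = 0 := by
    have h := congrArg (algebraMap A (B ⊗[A] B)) hp
    rwa [map_natCast, map_zero] at h
  have h1 : (c ⊗ₜ[A] (1 : B)) ^ p = ((1 : B) ⊗ₜ[A] c) ^ p := by
    rw [Algebra.TensorProduct.tmul_pow, Algebra.TensorProduct.tmul_pow, one_pow, hc,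
      Algebra.algebraMap_eq_smul_one, TensorProduct.smul_tmul]
  have h2 := eq_of_pow_eq p hpBB h1
  have heff : Algebra.IsEffective A B := Algebra.IsEffective.of_faithfullyFlat A B
  obtain ⟨b, hb⟩ := (heff c).mp (by
    rw [Algebra.TensorProduct.includeLeftSubRight_apply, h2, sub_self])
  refine ⟨b, ?_⟩
  apply FaithfulSMul.algebraMap_injective A B
  rw [map_pow, ← hc]
  congr 1

/-- ring-hom form. -/
theorem exists_root_of_ringHom {A B : Type u} [CommRing A] [CommRing B] (φ : A →+* B)
    (hφe : φ.Etale) (hφf : φ.FaithfullyFlat) [IsReduced A] (p : ℕ) [Fact p.Prime]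
    (hp : (p : A) = 0) (a : A) (c : B) (hc : c ^ p = φ a) : ∃ b : A, b ^ p = a := by
  letI : Algebra A B := φ.toAlgebra
  haveI : Algebra.Etale A B := hφe
  haveI : Module.FaithfullyFlat A B := hφf
  exact exists_root_of_faithfullyFlat_etale p hp a c hc

end Groth.Agent.PRoot
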