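import Mathlib
import Groth.Prelude
import Groth.Agent.Lib.PRoot1_helper5

/-!
# `p`-th roots of functions descend along finite étale surjective morphisms (helper5)
APPEND-ONLY once landed.
-/

set_option autoImplicit false

namespace Groth.Agent.PRoot

open AlgebraicGeometry CategoryTheory TopologicalSpace Opposite

universe u

variable {X' X : Scheme.{u}} (f : X' ⟶ X)

/-- a finite étale morphism from a nonempty scheme to a connected scheme is surjective. -/
theorem surjective_of_finite_etale [IsFinite f] [Etale f] [ConnectedSpace X] [Nonempty X'] :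
    Function.Surjective f := by
  have hopen : IsOpenMap f := f.isOpenMap
  have hclosed : IsClosedMap f := f.isClosedMap
  have hclopen : IsClopen (Set.range f) := ⟨hclosed.isClosed_range, hopen.isOpen_range⟩
  have hne : (Set.range f).Nonempty := Set.range_nonempty _
  exact Set.range_eq_univ.mp (hclopen.eq_univ hne)

theorem etale_app [Etale f] [IsAffineHom f] {U : X.Opens} (hU : IsAffineOpen U) :
    (f.app U).hom.Etale := by
  have h := Etale.etale_appLE f hU (hU.preimage f) le_rfl
  have e : f.appLE U (f ⁻¹ᵁ U) le_rfl = f.app U := f.appLE_eq_app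
  rwa [e] at h

theorem faithfullyFlat_app [Flat f] [IsAffineHom f] (hs : Function.Surjective f)
    {U : X.Opens} (hU : IsAffineOpen U) : (f.app U).hom.FaithfullyFlat := by
  have hV : IsAffineOpen (f ⁻¹ᵁ U) := hU.preimage f
  have e : f.appLE U (f ⁻¹ᵁ U) le_rfl = f.app U := f.appLE_eq_app
  rw [RingHom.FaithfullyFlat.iff_flat_and_comap_surjective]
  refine ⟨?_, ?_⟩
  · have h := f.flat_appLE hU hV le_rfl
    rwa [e] at h
  · intro q
    obtain ⟨y, hy⟩ : ∃ y : U, hU.primeIdealOf y = q := by
      refine ⟨hU.isoSpec.inv q, ?_⟩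
      show hU.isoSpec.hom (hU.isoSpec.inv q) = q
      rw [← Scheme.Hom.comp_apply, Iso.inv_hom_id]
      rfl
    obtain ⟨x', hx'⟩ := hs y.1
    have hx'V : x' ∈ f ⁻¹ᵁ U := by
      show f x' ∈ U
      rw [hx']
      exact y.2
    refine ⟨hV.primeIdealOf ⟨x', hx'V⟩, ?_⟩
    have h1 := IsAffineOpen.comap_primeIdealOf_appLE (f := f) U hU (f ⁻¹ᵁ U) hV le_rfl hx'V
    rw [e] at h1
    refine h1.trans ?_
    rw [← hy]
    congr 1
    exact Subtype.ext hx'

/-- `p`-th roots descend along a surjective étale affine morphism to a reduced scheme of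
characteristic `p`, over affine opens. -/
theorem exists_root_affine [IsReduced X] [IsAffineHom f] [Etale f] (hs : Function.Surjective f)
    (p : ℕ) [Fact p.Prime] (hp : (p : Γ(X, ⊤)) = 0) {U : X.Opens} (hU : IsAffineOpen U)
    (a : Γ(X, U)) (c : Γ(X', f ⁻¹ᵁ U)) (hc : c ^ p = (f.app U).hom a) :
    ∃ b : Γ(X, U), b ^ p = a := by
  have hpU : (p : Γ(X, U)) = 0 := by
    have h := congrArg (X.presheaf.map (homOfLE (le_top : U ≤ ⊤)).op).hom hp
    rwa [map_natCast, map_zero] at h
  exact exists_root_of_ringHom (f.app U).hom (etale_app f hU) (faithfullyFlat_app f hs hU) p hpU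
    a c hc

end Groth.Agent.PRoot
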