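import Mathlib
import Groth.Prelude
import Groth.Agent.Lib.NormPic1_helper5
import Groth.Agent.Lib.PRoot2_helper5

/-!
# Invertible modules of order divisible by `p` are not killed by finite étale covers with
`p`-divisible units (helper5)
APPEND-ONLY once landed.
-/

set_option autoImplicit false

namespace Groth.Agent.PRoot

open AlgebraicGeometry CategoryTheory CategoryTheory.Limits TopologicalSpace Opposite TensorProduct
open QcqsLoc MonoidalCategory GenLocH8 FLFH8 QCohExtn TensH8 PBH8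
open Groth.Agent.NormPic

universe u

section R

variable {X : Scheme.{u}} {L : X.Modules}

theorem natCast_eq_zero_of_top (p : ℕ) (hp : (p : Γ(X, ⊤)) = 0) (W : X.Opens) :
    (p : Γ(X, W)) = 0 := by
  have h := congrArg (rX (le_top : W ≤ ⊤)) hp
  rwa [map_natCast, map_zero] at h

/-- If the coefficients of a global generator of `L^{⊗ (m p)}` have `p`-th roots over all affine
opens with a generator, on a reduced scheme of characteristic `p`, then `L^{⊗ m}` is trivial. -/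
theorem nonempty_iso_of_roots [IsReduced X] (hL : PicF.IsInvertible L) (p : ℕ)
    [hpp : Fact p.Prime] (hp : (p : Γ(X, ⊤)) = 0) (m d : ℕ) (hd : d = m * p)
    (σ₀ : Γ(CohB1.tensorPow L d, ⊤)) (hσ₀ : IsGen (CohB1.tensorPow L d) ⊤ σ₀)
    (H : ∀ (W₀ : X.Opens) (_ : IsAffineOpen W₀) (e₀ : Γ(L, W₀)) (he₀ : IsGen L W₀ e₀),
      ∃ b : Γ(X, W₀), b ^ p = (Frame.pow L d).coefOf σ₀ W₀ le_top e₀ he₀) :
    Nonempty (CohB1.tensorPow L m ≅ Coh.structureModule X) := by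
  have hpW : ∀ W : X.Opens, (p : Γ(X, W)) = 0 := natCast_eq_zero_of_top p hp
  have hex : ∀ (W : X.Opens) (_ : Sm L W) (e : Γ(L, W)) (he : IsGen L W e),
      ∃ b : Γ(X, W), b ^ p = (Frame.pow L d).coefOf σ₀ W le_top e he := by
    intro W hS e he
    obtain ⟨W₀, hW, haff, e₀, he₀⟩ := hS
    obtain ⟨b₀, hb₀⟩ := H W₀ haff e₀ he₀
    obtain ⟨u, hu⟩ := he.exists_coef (rF L hW e₀)
    have he2 : IsGen L W (u • e) := hu ▸ he₀.res hW
    refine ⟨rX hW b₀ * u ^ m, ?_⟩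
    rw [mul_pow, ← map_pow, hb₀, ← pow_mul, ← hd,
      ← (Frame.pow L d).coefOf_res σ₀ W₀ le_top e₀ he₀ hW]
    have key : ∀ (e2 : Γ(L, W)) (_ : e2 = u • e) (hg : IsGen L W e2),
        (Frame.pow L d).coefOf σ₀ W le_top e2 hg =
          (Frame.pow L d).coefOf σ₀ W le_top (u • e) he2 := by
      intro e2 h2 hg
      subst h2
      rfl
    rw [key _ hu (he₀.res hW)]
    exact ((Frame.pow L d).coefOf_change σ₀ W le_top e he u he2).symm
  choose γ hγ using hex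
  refine nonempty_iso_of_unit_coefs hL (Frame.pow L m) γ ?_ ?_ ?_
  · intro W hS e he W' h
    apply eq_of_pow_eq p (hpW W')
    rw [hγ, ← map_pow, hγ]
    exact (Frame.pow L d).coefOf_res σ₀ W le_top e he h
  · intro W hS e he u he'
    apply eq_of_pow_eq p (hpW W)
    rw [mul_pow, hγ, hγ, ← pow_mul, ← hd]
    exact (Frame.pow L d).coefOf_change σ₀ W le_top e he u he'
  · intro W hS e he
    have h1 : IsUnit ((Frame.pow L d).coefOf σ₀ W le_top e he) := by
      have h2 := (Frame.pow L d).coefOf_spec σ₀ W le_top e he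
      exact isUnit_of_isGen_smul ((Frame.pow L d).isGen he) (h2 ▸ hσ₀.res le_top)
    rw [← hγ W hS e he] at h1
    exact (isUnit_pow_iff hpp.out.ne_zero).mp h1

end R

section Q

variable {X' X : Scheme.{u}} (f : X' ⟶ X) {L : X.Modules}
  (G : Γ((Scheme.Modules.pullback f).obj L, ⊤))
  (hG : IsGen ((Scheme.Modules.pullback f).obj L) ⊤ G)

/-- The coefficient of a pulled back section with respect to a global generator of `f^* L`. -/
noncomputable def bC (W : X.Opens) (e : Γ(L, W)) : Γ(X', f ⁻¹ᵁ W) :=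
  Classical.choose ((hG.res (le_top : f ⁻¹ᵁ W ≤ ⊤)).exists_coef
    (cUV f L (le_rfl : f ⁻¹ᵁ W ≤ f ⁻¹ᵁ W) e))

theorem bC_spec (W : X.Opens) (e : Γ(L, W)) :
    cUV f L (le_rfl : f ⁻¹ᵁ W ≤ f ⁻¹ᵁ W) e =
      bC f G hG W e • rF ((Scheme.Modules.pullback f).obj L) (le_top : f ⁻¹ᵁ W ≤ ⊤) G :=
  Classical.choose_spec ((hG.res (le_top : f ⁻¹ᵁ W ≤ ⊤)).exists_coef
    (cUV f L (le_rfl : f ⁻¹ᵁ W ≤ f ⁻¹ᵁ W) e))

theorem bC_unique (W : X.Opens) (e : Γ(L, W)) (c : Γ(X', f ⁻¹ᵁ W))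
    (hc : cUV f L (le_rfl : f ⁻¹ᵁ W ≤ f ⁻¹ᵁ W) e =
      c • rF ((Scheme.Modules.pullback f).obj L) (le_top : f ⁻¹ᵁ W ≤ ⊤) G) :
    c = bC f G hG W e := by
  apply IsGen.coef_ext (hG.res (le_top : f ⁻¹ᵁ W ≤ ⊤))
  rw [← hc, ← bC_spec]

theorem bC_res (W : X.Opens) (e : Γ(L, W)) {W' : X.Opens} (h : W' ≤ W) :
    bC f G hG W' (rF L h e) = rX (X := X') (pre_mono f h) (bC f G hG W e) := by
  symm
  apply bC_unique
  rw [cUV_resV]
  have h1 := congrArg (rF ((Scheme.Modules.pullback f).obj L) (pre_mono f h))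
    (bC_spec f G hG W e)
  rw [rF_cUV, rF_smul, rF_rF] at h1
  exact h1

theorem bC_smul (W : X.Opens) (e : Γ(L, W)) (u : Γ(X, W)) :
    bC f G hG W (u • e) = psi f W u * bC f G hG W e := by
  symm
  apply bC_unique
  rw [cUV_smul_app, mul_smul, ← bC_spec]

theorem bC_mul_aC (hL : PicF.IsInvertible L) (W : X.Opens) (hS : Sm L W) (e : Γ(L, W))
    (he : IsGen L W e) : bC f G hG W e * aC f hL G W hS e he = 1 := by
  apply IsGen.coef_ext (hG.res (le_top : f ⁻¹ᵁ W ≤ ⊤))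
  rw [one_smul, mul_comm, mul_smul, ← bC_spec, ← aC_spec]

include G hG in
/-- **Key step**: the coefficients of a global generator of `L^{⊗ (m p)}` have `p`-th roots. -/
theorem exists_root_coef [IsReduced X] [IsFinite f] [Etale f] (hs : Function.Surjective f)
    (hL : PicF.IsInvertible L) (p : ℕ) [hpp : Fact p.Prime] (hp : (p : Γ(X, ⊤)) = 0)
    (hroot : ∀ u : Γ(X', ⊤), IsUnit u → ∃ v : Γ(X', ⊤), v ^ p = u)
    (m d : ℕ) (hd : d = m * p)
    (σ₀ : Γ(CohB1.tensorPow L d, ⊤)) (hσ₀ : IsGen (CohB1.tensorPow L d) ⊤ σ₀)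
    (W₀ : X.Opens) (haff : IsAffineOpen W₀) (e₀ : Γ(L, W₀)) (he₀ : IsGen L W₀ e₀) :
    ∃ b : Γ(X, W₀), b ^ p = (Frame.pow L d).coefOf σ₀ W₀ le_top e₀ he₀ := by
  obtain ⟨A, hA⟩ : ∃ A : ∀ (W : X.Opens) (e : Γ(L, W)) (_ : IsGen L W e), Γ(X, W),
      A = fun W e he => (Frame.pow L d).coefOf σ₀ W le_top e he := ⟨_, rfl⟩
  have A_res : ∀ (W : X.Opens) (e : Γ(L, W)) (he : IsGen L W e) {W' : X.Opens} (h : W' ≤ W),
      A W' (rF L h e) (he.res h) = rX h (A W e he) := by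
    intro W e he W' h
    rw [hA]
    exact (Frame.pow L d).coefOf_res σ₀ W le_top e he h
  have A_change : ∀ (W : X.Opens) (e : Γ(L, W)) (he : IsGen L W e) (u : Γ(X, W))
      (he' : IsGen L W (u • e)), A W e he = A W (u • e) he' * u ^ d := by
    intro W e he u he'
    rw [hA]
    exact (Frame.pow L d).coefOf_change σ₀ W le_top e he u he'
  have A_unit : ∀ (W : X.Opens) (e : Γ(L, W)) (he : IsGen L W e), IsUnit (A W e he) := by
    intro W e he
    rw [hA]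
    have h2 := (Frame.pow L d).coefOf_spec σ₀ W le_top e he
    exact isUnit_of_isGen_smul ((Frame.pow L d).isGen he) (h2 ▸ hσ₀.res le_top)
  obtain ⟨wl, hwl⟩ : ∃ wl : ∀ (W : X.Opens) (e : Γ(L, W)) (_ : IsGen L W e), Γ(X', f ⁻¹ᵁ W),
      wl = fun W e he => psi f W (A W e he) * bC f G hG W e ^ d := ⟨_, rfl⟩
  have wl_res : ∀ (W : X.Opens) (e : Γ(L, W)) (he : IsGen L W e) {W' : X.Opens} (h : W' ≤ W),
      wl W' (rF L h e) (he.res h) = rX (X := X') (pre_mono f h) (wl W e he) := by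
    intro W e he W' h
    rw [hwl]
    show psi f W' (A W' (rF L h e) (he.res h)) * bC f G hG W' (rF L h e) ^ d =
      rX (X := X') (pre_mono f h) (psi f W (A W e he) * bC f G hG W e ^ d)
    rw [map_mul, map_pow, psi_rX, ← bC_res, A_res W e he h]
  have wl_change : ∀ (W : X.Opens) (e : Γ(L, W)) (he : IsGen L W e) (u : Γ(X, W))
      (he' : IsGen L W (u • e)), wl W (u • e) he' = wl W e he := by
    intro W e he u he'
    rw [hwl]
    show psi f W (A W (u • e) he') * bC f G hG W (u • e) ^ d =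
      psi f W (A W e he) * bC f G hG W e ^ d
    rw [A_change W e he u he', bC_smul, map_mul, map_pow, mul_pow]
    ring
  -- glue
  let I := {q : Σ W : X.Opens, Γ(L, W) // IsGen L q.1 q.2}
  let O : I → X'.Opens := fun q => f ⁻¹ᵁ q.1.1
  let τ : ∀ q : I, Γ(Coh.structureModule X', O q) := fun q => toM (wl q.1.1 q.1.2 q.2)
  have hcov : (⊤ : X'.Opens) ≤ ⨆ q : I, O q := by
    intro x' _
    obtain ⟨W, -, hxW, e, he⟩ := exists_isGen hL (f x')
    exact Opens.mem_iSup.mpr ⟨⟨⟨W, e⟩, he⟩, hxW⟩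
  have hcompat : ∀ q q' : I,
      rF (Coh.structureModule X') (inf_le_left : O q ⊓ O q' ≤ O q) (τ q) =
        rF (Coh.structureModule X') (inf_le_right : O q ⊓ O q' ≤ O q') (τ q') := by
    rintro ⟨⟨W, e⟩, he⟩ ⟨⟨W', e'⟩, he'⟩
    have hl : W ⊓ W' ≤ W := inf_le_left
    have hr : W ⊓ W' ≤ W' := inf_le_right
    show rX (X := X') (pre_mono f hl) (wl W e he) = rX (X := X') (pre_mono f hr) (wl W' e' he')
    rw [← wl_res W e he hl, ← wl_res W' e' he' hr]
    obtain ⟨u, hu⟩ := (he.res hl).exists_coef (rF L hr e')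
    have he2 : IsGen L (W ⊓ W') (u • rF L hl e) := hu ▸ he'.res hr
    rw [← wl_change (W ⊓ W') (rF L hl e) (he.res hl) u he2]
    have key : ∀ (e2 : Γ(L, W ⊓ W')) (_ : e2 = u • rF L hl e) (hg : IsGen L (W ⊓ W') e2),
        wl (W ⊓ W') (u • rF L hl e) he2 = wl (W ⊓ W') e2 hg := by
      intro e2 h2 hg
      subst h2
      rfl
    exact key _ hu (he'.res hr)
  obtain ⟨wM, hwM⟩ := glue (Coh.structureModule X') O ⊤ (fun _ => le_top) hcov τ hcompat
  obtain ⟨w, hw⟩ : ∃ w : Γ(X', ⊤), w = ofM wM := ⟨_, rfl⟩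
  have hwres : ∀ (W : X.Opens) (e : Γ(L, W)) (he : IsGen L W e),
      rX (X := X') (le_top : f ⁻¹ᵁ W ≤ ⊤) w = wl W e he := by
    intro W e he
    rw [hw]
    exact hwM ⟨⟨W, e⟩, he⟩
  have hb_unit : ∀ (W : X.Opens) (_ : Sm L W) (e : Γ(L, W)) (_ : IsGen L W e),
      IsUnit (bC f G hG W e) :=
    fun W hS e he => IsUnit.of_mul_eq_one _ (bC_mul_aC f G hG hL W hS e he)
  have hw_unit : IsUnit w := by
    apply RingedSpace.isUnit_of_isUnit_germ X'.toRingedSpace ⊤ w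
    intro x' hx'
    obtain ⟨W, hW, hxW, e, he⟩ := exists_isGen hL (f x')
    have hS : Sm L W := ⟨W, le_rfl, hW, e, he⟩
    have h2 : IsUnit (rX (X := X') (le_top : f ⁻¹ᵁ W ≤ ⊤) w) := by
      rw [hwres W e he, hwl]
      exact ((A_unit W e he).map (psi f W)).mul ((hb_unit W hS e he).pow d)
    have h3 := X'.presheaf.germ_res_apply (homOfLE (le_top : f ⁻¹ᵁ W ≤ ⊤)) x' hxW w
    have h4 := h2.map (X'.presheaf.germ (f ⁻¹ᵁ W) x' hxW).hom
    exact (congrArg IsUnit h3).mp h4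
  obtain ⟨v, hv⟩ := hroot w hw_unit
  have hS₀ : Sm L W₀ := ⟨W₀, le_rfl, haff, e₀, he₀⟩
  obtain ⟨c, hc⟩ : ∃ c : Γ(X', f ⁻¹ᵁ W₀),
      c = rX (X := X') (le_top : f ⁻¹ᵁ W₀ ≤ ⊤) v * aC f hL G W₀ hS₀ e₀ he₀ ^ m := ⟨_, rfl⟩
  have hcp : c ^ p = (f.app W₀).hom (A W₀ e₀ he₀) := by
    rw [hc, mul_pow, ← map_pow, hv, hwres W₀ e₀ he₀, ← pow_mul, ← hd, hwl]
    show psi f W₀ (A W₀ e₀ he₀) * bC f G hG W₀ e₀ ^ d * aC f hL G W₀ hS₀ e₀ he₀ ^ d = _
    rw [mul_assoc, ← mul_pow, bC_mul_aC f G hG hL W₀ hS₀ e₀ he₀, one_pow, mul_one]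
  have hfin := exists_root_affine f hs p hp haff (A W₀ e₀ he₀) c hcp
  rw [hA] at hfin
  exact hfin

end Q

section Main

/-- **Main theorem**: on an integral scheme of characteristic `p`, an invertible module of exact
order `d` with `p ∣ d` does not become trivial on a connected finite étale cover all of whose
global units are `p`-th powers. -/
theorem main14819 (X X' : Scheme.{u}) [IsIntegral X] (p : ℕ) [hpp : Fact (Nat.Prime p)]
    [CharP (Γ(X, ⊤) : Type u) p] (L : X.Modules) (hL : PicF.IsInvertible L) (d : ℕ) (hd : 0 < d)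
    (hord : Nonempty (CohB1.tensorPow L d ≅ Coh.structureModule X))
    (hmin : ∀ i : ℕ, 0 < i → i < d → IsEmpty (CohB1.tensorPow L i ≅ Coh.structureModule X))
    (hpd : p ∣ d) [ConnectedSpace X']
    (hroot : ∀ u : (Γ(X', ⊤) : Type u), IsUnit u → ∃ v : (Γ(X', ⊤) : Type u), v ^ p = u)
    (f : X' ⟶ X) [IsFinite f] [Etale f] :
    IsEmpty ((Scheme.Modules.pullback f).obj L ≅ Coh.structureModule X') := by
  refine ⟨fun e' => ?_⟩
  obtain ⟨m, hm⟩ := hpd
  have hd' : d = m * p := by rw [hm, mul_comm]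
  have hp : (p : Γ(X, ⊤)) = 0 := CharP.cast_eq_zero _ p
  have hs : Function.Surjective f := surjective_of_finite_etale f
  obtain ⟨α⟩ := hord
  have hσ₀ : IsGen (CohB1.tensorPow L d) ⊤ (ap α.inv ⊤ (toM 1)) :=
    isGen_of_iso α.symm (isGen_one ⊤)
  have hG : IsGen ((Scheme.Modules.pullback f).obj L) ⊤ (ap e'.inv ⊤ (toM 1)) :=
    isGen_of_iso e'.symm (isGen_one ⊤)
  have h := nonempty_iso_of_roots hL p hp m d hd' _ hσ₀
    (fun W₀ haff e₀ he₀ => exists_root_coef f _ hG hs hL p hp hroot m d hd' _ hσ₀ W₀ haff e₀ he₀)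
  have hp2 : 2 ≤ p := hpp.out.two_le
  have hm0 : 0 < m := by
    rcases Nat.eq_zero_or_pos m with h0 | h0
    · rw [h0, mul_zero] at hm
      omega
    · exact h0
  have hmd : m < d := by
    rw [hm]
    nlinarith
  exact (hmin m hm0 hmd).false h.some

end Main

end Groth.Agent.PRoot
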