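import Mathlib
import Groth.Prelude.Def_W4c2arithlefschetzNode
import Groth.Agent.S15315

/-!
# Fixed-point ideals of automorphisms of `B⟦t⟧` (helper9)
-/

set_option autoImplicit false

universe u

namespace Groth.Agent.PSFix

open PowerSeries

section Krull

variable {R : Type u} [CommRing R] [IsNoetherianRing R] [IsLocalRing R]

/-- Ideals of a Noetherian local ring are closed for the `t`-adic topology. -/
lemma mem_of_forall_mem_sup_pow (I : Ideal R) (t : R) (ht : t ∈ IsLocalRing.maximalIdeal R)
    (x : R) (h : ∀ N : ℕ, x ∈ I ⊔ Ideal.span {t ^ N}) : x ∈ I := by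
  have hJ : Ideal.span {t} ≠ ⊤ := by
    intro h1
    rw [Ideal.span_singleton_eq_top] at h1
    exact ht h1
  have hbot := Ideal.iInf_pow_smul_eq_bot_of_isLocalRing (R := R) (M := R ⧸ I)
    (Ideal.span {t}) hJ
  rw [← Ideal.Quotient.eq_zero_iff_mem]
  have hmem : (Ideal.Quotient.mk I x : R ⧸ I) ∈
      (⨅ i : ℕ, (Ideal.span {t}) ^ i • ⊤ : Submodule R (R ⧸ I)) := by
    rw [Submodule.mem_iInf]
    intro N
    obtain ⟨y, hy, z, hz, rfl⟩ := Submodule.mem_sup.mp (h N)
    rw [map_add, Ideal.Quotient.eq_zero_iff_mem.mpr hy, zero_add]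
    obtain ⟨c, rfl⟩ := Ideal.mem_span_singleton'.mp hz
    have e : (Ideal.Quotient.mk I (c * t ^ N) : R ⧸ I) = (t ^ N) • (Ideal.Quotient.mk I c) := by
      rw [mul_comm]
      rfl
    rw [e]
    exact Submodule.smul_mem_smul (Ideal.pow_mem_pow (Ideal.mem_span_singleton_self t) N) trivial
  rw [hbot] at hmem
  exact hmem

end Krull

section Fix

variable {B : Type u} [CommRing B]

/-- A ring endomorphism of `B⟦t⟧` is the identity modulo an ideal, up to `t ^ N`, as soon as it is
so on constants and on `t`. -/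
lemma sub_mem_sup_pow (σ : PowerSeries B →+* PowerSeries B) (I : Ideal (PowerSeries B))
    (hC : ∀ b : B, σ (C b) - C b ∈ I) (hX : σ X - X ∈ I) (N : ℕ) :
    ∀ r : PowerSeries B, σ r - r ∈ I ⊔ Ideal.span {(X : PowerSeries B) ^ N} := by
  induction N with
  | zero =>
    intro r
    rw [pow_zero, Ideal.span_singleton_one, sup_top_eq]
    trivial
  | succ N ih =>
    intro r
    set s : PowerSeries B := mk fun p => coeff (p + 1) r with hs
    have hr : r = s * X + C (constantCoeff r) := eq_shift_mul_X_add_const r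
    have e : σ r - r = (σ s - s) * X + σ s * (σ X - X) +
        (σ (C (constantCoeff r)) - C (constantCoeff r)) := by
      conv_lhs => rw [hr]
      rw [map_add, map_mul]
      ring
    rw [e]
    refine Ideal.add_mem _ (Ideal.add_mem _ ?_ ?_) ?_
    · obtain ⟨y, hy, z, hz, hyz⟩ := Submodule.mem_sup.mp (ih s)
      obtain ⟨c, rfl⟩ := Ideal.mem_span_singleton'.mp hz
      rw [← hyz, add_mul]
      refine Ideal.add_mem _ (Ideal.mem_sup_left (Ideal.mul_mem_right _ _ hy))
        (Ideal.mem_sup_right ?_)
      rw [mul_assoc, ← pow_succ]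
      exact Ideal.mul_mem_left _ _ (Ideal.mem_span_singleton_self _)
    · exact Ideal.mem_sup_left (Ideal.mul_mem_left _ _ hX)
    · exact Ideal.mem_sup_left (hC _)

variable [IsNoetherianRing (PowerSeries B)] [IsLocalRing (PowerSeries B)]

lemma X_mem_maximalIdeal : (X : PowerSeries B) ∈ IsLocalRing.maximalIdeal (PowerSeries B) := by
  rw [IsLocalRing.mem_maximalIdeal, mem_nonunits_iff]
  intro h
  have h1 := isUnit_constantCoeff _ h
  rw [constantCoeff_X] at h1
  have : Nontrivial B := by
    by_contra hB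
    rw [not_nontrivial_iff_subsingleton] at hB
    have : Subsingleton (PowerSeries B) := inferInstance
    exact not_subsingleton (PowerSeries B) this
  exact not_isUnit_zero h1

lemma sub_mem (σ : PowerSeries B →+* PowerSeries B) (I : Ideal (PowerSeries B))
    (hC : ∀ b : B, σ (C b) - C b ∈ I) (hX : σ X - X ∈ I) (r : PowerSeries B) :
    σ r - r ∈ I :=
  mem_of_forall_mem_sup_pow I X X_mem_maximalIdeal _ fun N => sub_mem_sup_pow σ I hC hX N r

lemma fixIdeal_le (σ : PowerSeries B →+* PowerSeries B) (I : Ideal (PowerSeries B))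
    (hC : ∀ b : B, σ (C b) - C b ∈ I) (hX : σ X - X ∈ I) : ArLef.fixIdeal σ ≤ I := by
  unfold ArLef.fixIdeal
  rw [Ideal.span_le]
  rintro _ ⟨r, rfl⟩
  exact sub_mem σ I hC hX r

end Fix


section Length

variable {B : Type u} [CommRing B] [IsDomain B] [IsDiscreteValuationRing B] {π : B}
  (hπ : Irreducible π)

/-- Reduction of power series modulo the maximal ideal. -/
noncomputable abbrev red (B : Type u) [CommRing B] [IsLocalRing B] :
    PowerSeries B →+* PowerSeries (IsLocalRing.ResidueField B) :=
  PowerSeries.map (IsLocalRing.residue B)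

lemma red_surjective : Function.Surjective (red B) :=
  map_surjective _ IsLocalRing.residue_surjective

include hπ

lemma red_eq_zero_iff (g : PowerSeries B) : red B g = 0 ↔ C π ∣ g := by
  constructor
  · intro h
    have h1 : ∀ n, ∃ c, coeff n g = π * c := by
      intro n
      have h2 : IsLocalRing.residue B (coeff n g) = 0 := by
        have := congrArg (coeff n) h
        simpa using this
      rw [IsLocalRing.residue_eq_zero_iff, hπ.maximalIdeal_eq, Ideal.mem_span_singleton'] at h2
      obtain ⟨c, hc⟩ := h2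
      exact ⟨c, by rw [← hc, mul_comm]⟩
    choose c hc using h1
    refine ⟨mk c, ?_⟩
    ext n
    rw [coeff_C_mul, coeff_mk, hc]
  · rintro ⟨h, rfl⟩
    have h0 : IsLocalRing.residue B π = 0 := by
      rw [IsLocalRing.residue_eq_zero_iff, hπ.maximalIdeal_eq]
      exact Ideal.mem_span_singleton_self π
    rw [map_mul, red, map_C, h0, map_zero, zero_mul]

lemma dvd_or_dvd_of_dvd_mul {x y : PowerSeries B} (h : C π ∣ x * y) : C π ∣ x ∨ C π ∣ y := by
  rw [← red_eq_zero_iff hπ, map_mul, mul_eq_zero] at h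
  rcases h with h | h
  · exact Or.inl ((red_eq_zero_iff hπ x).mp h)
  · exact Or.inr ((red_eq_zero_iff hπ y).mp h)

lemma C_ne_zero : (C π : PowerSeries B) ≠ 0 := by
  intro h
  have := congrArg (coeff 0) h
  rw [coeff_zero_C, map_zero] at this
  exact hπ.ne_zero this

lemma isSMulRegular_quot {f : PowerSeries B} (hf : ¬ C π ∣ f) :
    IsSMulRegular (PowerSeries B ⧸ Ideal.span {f}) (C π : PowerSeries B) := by
  intro x y hxy
  obtain ⟨x, rfl⟩ := Ideal.Quotient.mk_surjective x
  obtain ⟨y, rfl⟩ := Ideal.Quotient.mk_surjective y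
  have h1 : (Ideal.Quotient.mk (Ideal.span {f})) (C π * x) =
      (Ideal.Quotient.mk (Ideal.span {f})) (C π * y) := hxy
  rw [Ideal.Quotient.eq, ← mul_sub, Ideal.mem_span_singleton'] at h1
  obtain ⟨c, hc⟩ := h1
  rw [Ideal.Quotient.eq, Ideal.mem_span_singleton']
  have h2 : C π ∣ c * f := ⟨x - y, hc⟩
  rcases dvd_or_dvd_of_dvd_mul hπ h2 with h3 | h3
  · obtain ⟨c', rfl⟩ := h3
    refine ⟨c', ?_⟩
    apply mul_left_cancel₀ (C_ne_zero hπ)
    rw [← hc]
    ring
  · exact absurd h3 hf

lemma length_quot_pair (f : PowerSeries B) :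
    Module.length (PowerSeries B) (PowerSeries B ⧸ Ideal.span ({C π, f} : Set (PowerSeries B))) =
      Module.length (PowerSeries (IsLocalRing.ResidueField B))
        (PowerSeries (IsLocalRing.ResidueField B) ⧸
          Ideal.span ({red B f} : Set (PowerSeries (IsLocalRing.ResidueField B)))) := by
  letI : Algebra (PowerSeries B) (PowerSeries (IsLocalRing.ResidueField B)) := (red B).toAlgebra
  have halg : ∀ x : PowerSeries B,
      algebraMap (PowerSeries B) (PowerSeries (IsLocalRing.ResidueField B)) x = red B x :=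
    fun _ => rfl
  rw [← Module.length_eq_of_surjective (S := PowerSeries B)
    (R := PowerSeries (IsLocalRing.ResidueField B))
    (M := PowerSeries (IsLocalRing.ResidueField B) ⧸ Ideal.span {red B f}) red_surjective]
  let g : PowerSeries B →ₗ[PowerSeries B]
      PowerSeries (IsLocalRing.ResidueField B) ⧸ Ideal.span {red B f} :=
    ((Submodule.mkQ (Ideal.span {red B f})).restrictScalars (PowerSeries B)).comp
      (Algebra.linearMap (PowerSeries B) (PowerSeries (IsLocalRing.ResidueField B)))
  have hg : Function.Surjective g :=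
    (Submodule.mkQ_surjective _).comp red_surjective
  have hkg : LinearMap.ker g = Ideal.span ({C π, f} : Set (PowerSeries B)) := by
    ext x
    rw [LinearMap.mem_ker]
    change Submodule.Quotient.mk (red B x) = 0 ↔ _
    rw [Submodule.Quotient.mk_eq_zero, Ideal.mem_span_singleton', Ideal.mem_span_pair]
    constructor
    · rintro ⟨c', hc'⟩
      obtain ⟨c, rfl⟩ := red_surjective c'
      have h1 : red B (x - c * f) = 0 := by rw [map_sub, map_mul, hc', sub_self]
      obtain ⟨d, hd⟩ := (red_eq_zero_iff hπ _).mp h1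
      exact ⟨d, c, by rw [mul_comm d, ← hd]; ring⟩
    · rintro ⟨d, c, rfl⟩
      refine ⟨red B c, ?_⟩
      have h0 : red B (C π) = 0 := (red_eq_zero_iff hπ _).mpr dvd_rfl
      rw [map_add, map_mul, map_mul, h0, mul_zero, zero_add]
  exact ((g.quotKerEquivOfSurjective hg).symm.trans (Submodule.quotEquivOfEq _ _ hkg)).length_eq.symm

variable [IsNoetherianRing (PowerSeries B)]

lemma length_quot_pow {f : PowerSeries B} (hf : ¬ C π ∣ f) (n : ℕ) :
    Module.length (PowerSeries B)
        (PowerSeries B ⧸ Ideal.span ({C π ^ n, f} : Set (PowerSeries B))) =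
      (n : ℕ∞) * Module.length (PowerSeries (IsLocalRing.ResidueField B))
        (PowerSeries (IsLocalRing.ResidueField B) ⧸
          Ideal.span ({red B f} : Set (PowerSeries (IsLocalRing.ResidueField B)))) := by
  induction n with
  | zero =>
    have htop : Ideal.span ({C π ^ 0, f} : Set (PowerSeries B)) = ⊤ := by
      rw [Ideal.eq_top_iff_one, pow_zero]
      exact Ideal.subset_span (by simp)
    have : Subsingleton (PowerSeries B ⧸ Ideal.span ({C π ^ 0, f} : Set (PowerSeries B))) :=
      Ideal.Quotient.subsingleton_iff.mpr htop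
    rw [Module.length_eq_zero, Nat.cast_zero, zero_mul]
  | succ n ih =>
    have h := Groth.Agent.S15315.result (PowerSeries B) (C π) f (Ideal.span {C π ^ n})
      (isSMulRegular_quot hπ hf)
    have e1 : (Ideal.span {C π} * Ideal.span {C π ^ n} ⊔ Ideal.span {f} : Ideal (PowerSeries B)) =
        Ideal.span ({C π ^ (n + 1), f} : Set (PowerSeries B)) := by
      rw [Ideal.span_singleton_mul_span_singleton, ← pow_succ', Ideal.span_insert]
    have e2 : (Ideal.span {C π ^ n} ⊔ Ideal.span {f} : Ideal (PowerSeries B)) =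
        Ideal.span ({C π ^ n, f} : Set (PowerSeries B)) := by
      rw [Ideal.span_insert]
    rw [e1, e2, ih, length_quot_pair hπ] at h
    rw [h]
    push_cast
    ring

end Length


section Main

variable {B : Type u} [CommRing B] [IsDomain B] [IsDiscreteValuationRing B] {π : B}
  (hπ : Irreducible π)

omit [IsDomain B] [IsDiscreteValuationRing B] in
lemma fixIdeal_eq [IsNoetherianRing (PowerSeries B)] [IsLocalRing (PowerSeries B)]
    (σ : PowerSeries B ≃+* PowerSeries B) (j : ℕ) (γ : B) (hγ : IsUnit γ)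
    (hσB : ∀ b : B, σ (C b) - C b ∈ Ideal.span ({C π ^ j} : Set (PowerSeries B)))
    (hσπ : σ (C π) = C (π + γ * π ^ j)) :
    ArLef.fixIdeal σ = Ideal.span ({C π ^ j, σ X - X} : Set (PowerSeries B)) := by
  apply le_antisymm
  · have h := fixIdeal_le σ.toRingHom (Ideal.span ({C π ^ j, σ X - X} : Set (PowerSeries B)))
      (fun b => Ideal.span_mono (by simp) (hσB b)) (Ideal.subset_span (by simp))
    exact h
  · rw [Ideal.span_le]
    rintro x hx
    rcases hx with rfl | rfl
    · have h1 : σ (C π) - C π ∈ ArLef.fixIdeal σ := Ideal.subset_span ⟨C π, rfl⟩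
      have h2 : σ (C π) - C π = C γ * C π ^ j := by
        rw [hσπ, map_add, map_mul, map_pow]
        ring
      rw [h2] at h1
      have hu : IsUnit (C γ : PowerSeries B) := hγ.map C
      exact (Ideal.unit_mul_mem_iff_mem _ hu).mp h1
    · exact Ideal.subset_span ⟨X, rfl⟩

include hπ

theorem length_fixIdeal [IsNoetherianRing (PowerSeries B)] [IsLocalRing (PowerSeries B)]
    (σ : PowerSeries B ≃+* PowerSeries B) (j : ℕ) (γ : B) (hγ : IsUnit γ)
    (hσB : ∀ b : B, σ (C b) - C b ∈ Ideal.span ({C π ^ j} : Set (PowerSeries B)))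
    (hσπ : σ (C π) = C (π + γ * π ^ j)) (h0 : ¬ C π ∣ σ X - X) :
    Module.length (PowerSeries B) (PowerSeries B ⧸ ArLef.fixIdeal σ) =
      (j : ℕ∞) * Module.length (PowerSeries (IsLocalRing.ResidueField B))
        (PowerSeries (IsLocalRing.ResidueField B) ⧸
          Ideal.span ({red B (σ X - X)} : Set (PowerSeries (IsLocalRing.ResidueField B)))) := by
  rw [fixIdeal_eq σ j γ hγ hσB hσπ, length_quot_pow hπ h0 j]

theorem length_fixIdeal_colon [IsNoetherianRing (PowerSeries B)] [IsLocalRing (PowerSeries B)]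
    (σ : PowerSeries B ≃+* PowerSeries B) (j i : ℕ) (hij : i < j) (γ : B) (hγ : IsUnit γ)
    (hσB : ∀ b : B, σ (C b) - C b ∈ Ideal.span ({C π ^ j} : Set (PowerSeries B)))
    (hσπ : σ (C π) = C (π + γ * π ^ j)) (f : PowerSeries B) (hf : σ X - X = C π ^ i * f)
    (h0 : ¬ C π ∣ f) :
    Module.length (PowerSeries B)
        (PowerSeries B ⧸ (ArLef.fixIdeal σ).colon ({C π ^ i} : Set (PowerSeries B))) =
      ((j - i : ℕ) : ℕ∞) * Module.length (PowerSeries (IsLocalRing.ResidueField B))
        (PowerSeries (IsLocalRing.ResidueField B) ⧸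
          Ideal.span ({red B f} : Set (PowerSeries (IsLocalRing.ResidueField B)))) := by
  have hcolon : (ArLef.fixIdeal σ).colon ({C π ^ i} : Set (PowerSeries B)) =
      Ideal.span ({C π ^ (j - i), f} : Set (PowerSeries B)) := by
    rw [fixIdeal_eq σ j γ hγ hσB hσπ, hf]
    have hne : (C π : PowerSeries B) ^ i ≠ 0 := pow_ne_zero _ (C_ne_zero hπ)
    have hj : j = (j - i) + i := by omega
    ext x
    rw [Submodule.mem_colon_singleton, smul_eq_mul, Ideal.mem_span_pair, Ideal.mem_span_pair]
    constructor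
    · rintro ⟨a, b, hab⟩
      refine ⟨a, b, ?_⟩
      apply mul_right_cancel₀ hne
      rw [← hab]
      conv_rhs => rw [hj, pow_add]
      ring
    · rintro ⟨a, b, rfl⟩
      refine ⟨a, b, ?_⟩
      conv_lhs => rw [hj, pow_add]
      ring
  rw [hcolon, length_quot_pow hπ h0 (j - i)]

end Main

end Groth.Agent.PSFix
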