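import Mathlib

/-!
# Subfields `F((T))` of `k((T_1..T_r))` (helper3)

`coeffSubring F`: power series with coefficients in the subfield `F`.
`mem_of_mul_eq`: `f * b = c`, `b, c ∈ F[[T]]`, `b ≠ 0` ⇒ `f ∈ F[[T]]`.
`iInf_closure_eq`: `⋂ F_i((T)) = (⋂ F_i)((T))` when `k^q ⊆ ⋂ F_i`.
-/

set_option autoImplicit false
set_option maxSynthPendingDepth 3

namespace Groth.Agent.Lib.PSSubfieldH3

universe u

open MvPowerSeries

section Basic

variable {k : Type u} [Field k] {σ : Type*}

/-- power series with coefficients in `F` -/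
def coeffSubring (F : Subfield k) : Subring (MvPowerSeries σ k) where
  carrier := {f | ∀ n, coeff n f ∈ F}
  mul_mem' := fun {f g} hf hg n => by
    classical
    rw [coeff_mul]
    exact F.sum_mem fun x _ => F.mul_mem (hf _) (hg _)
  one_mem' := fun n => by
    classical
    rw [coeff_one]
    split_ifs
    · exact F.one_mem
    · exact F.zero_mem
  add_mem' := fun {f g} hf hg n => by rw [map_add]; exact F.add_mem (hf n) (hg n)
  zero_mem' := fun n => by rw [map_zero]; exact F.zero_mem
  neg_mem' := fun {f} hf n => by rw [map_neg]; exact F.neg_mem (hf n)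

theorem mem_coeffSubring {F : Subfield k} {f : MvPowerSeries σ k} :
    f ∈ coeffSubring (σ := σ) F ↔ ∀ n, coeff n f ∈ F := Iff.rfl

theorem coe_coeffSubring (F : Subfield k) :
    (coeffSubring (σ := σ) F : Set (MvPowerSeries σ k)) = {f | ∀ n, coeff n f ∈ F} := rfl

theorem coeffSubring_mono {F G : Subfield k} (h : F ≤ G) :
    coeffSubring (σ := σ) F ≤ coeffSubring G := fun _ hf n => h (hf n)

/-- Division: `f * b = c` with `b, c ∈ F[[T]]`, `b ≠ 0` forces `f ∈ F[[T]]`. -/
theorem mem_of_mul_eq (F : Subfield k) (f b c : MvPowerSeries σ k)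
    (hb : b ∈ coeffSubring (σ := σ) F) (hc : c ∈ coeffSubring (σ := σ) F) (hb0 : b ≠ 0)
    (h : f * b = c) : f ∈ coeffSubring (σ := σ) F := by
  classical
  obtain ⟨lam, hlam⟩ := LinearMap.exists_leftInverse_of_injective (Algebra.linearMap F k)
    (LinearMap.ker_eq_bot.2 (fun x y hxy => Subtype.ext hxy))
  have hlamF : ∀ (y : k) (hy : y ∈ F), lam y = ⟨y, hy⟩ := by
    intro y hy
    have := LinearMap.congr_fun hlam ⟨y, hy⟩
    exact this
  have hlammul : ∀ (y β : k) (hβ : β ∈ F), ((lam (y * β) : F) : k) = (lam y : k) * β := by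
    intro y β hβ
    have h1 : y * β = (⟨β, hβ⟩ : F) • y := by
      rw [Subfield.smul_def]; exact mul_comm _ _
    rw [h1, map_smul, smul_eq_mul, Subfield.coe_mul, mul_comm]
  let Lam : MvPowerSeries σ k → MvPowerSeries σ k := fun g n => ((lam (coeff n g) : F) : k)
  have hLam : ∀ g n, coeff n (Lam g) = ((lam (coeff n g) : F) : k) := fun g n => rfl
  have hLamc : Lam c = c := by
    ext n
    rw [hLam, hlamF _ (hc n)]
  have hLammul : Lam (f * b) = Lam f * b := by
    ext n
    rw [hLam, coeff_mul, coeff_mul, map_sum, AddSubmonoidClass.coe_finset_sum]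
    refine Finset.sum_congr rfl fun x _ => ?_
    rw [hlammul _ _ (hb _), hLam]
  have h2 : (Lam f - f) * b = 0 := by
    rw [sub_mul, ← hLammul, h, hLamc, sub_self]
  haveI : IsDomain (MvPowerSeries σ k) := NoZeroDivisors.to_isDomain _
  have h3 : Lam f = f := by
    rcases mul_eq_zero.1 h2 with h3 | h3
    · exact sub_eq_zero.1 h3
    · exact absurd h3 hb0
  intro n
  rw [← h3, hLam]
  exact (lam (coeff n f)).2

end Basic

section Pow

variable {k : Type u} [Field k] {σ : Type*}

/-- coefficients of `b ^ q`, `q = p ^ e` a power of the characteristic exponent, are `q`-th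
powers. -/
theorem coeff_pow_expChar_pow (b : MvPowerSeries σ k) (e : ℕ) (n : σ →₀ ℕ) :
    ∃ y : k, coeff n (b ^ ringExpChar k ^ e) = y ^ ringExpChar k ^ e := by
  haveI : ExpChar k (ringExpChar k) := ringExpChar.expChar k
  have hp : ringExpChar k ≠ 0 := expChar_ne_zero k (ringExpChar k)
  rw [← MvPowerSeries.map_iterateFrobenius_expand (ringExpChar k) hp b e, coeff_map]
  exact ⟨_, rfl⟩

end Pow

section Main

variable {k : Type u} [Field k] (r : ℕ)

local notation "PS" => MvPowerSeries (Fin r) k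
local notation "KK" => FractionRing (MvPowerSeries (Fin r) k)

/-- elements of `F((T))` are quotients of elements of `F[[T]]` -/
theorem mem_closure_iff (F : Subfield k) (x : KK) :
    x ∈ Subfield.closure (algebraMap PS KK '' {f | ∀ n, coeff n f ∈ F}) ↔
      ∃ a ∈ coeffSubring (σ := Fin r) F, ∃ b ∈ coeffSubring (σ := Fin r) F,
        algebraMap PS KK a / algebraMap PS KK b = x := by
  have hset : (algebraMap PS KK '' {f | ∀ n, coeff n f ∈ F}) =
      (((coeffSubring (σ := Fin r) F).map (algebraMap PS KK) : Subring KK) : Set KK) := by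
    rw [Subring.coe_map, coe_coeffSubring]
  rw [hset, Subfield.mem_closure_iff, Subring.closure_eq]
  constructor
  · rintro ⟨y, ⟨a, ha, rfl⟩, z, ⟨b, hb, rfl⟩, rfl⟩
    exact ⟨a, ha, b, hb, rfl⟩
  · rintro ⟨a, ha, b, hb, rfl⟩
    exact ⟨_, ⟨a, ha, rfl⟩, _, ⟨b, hb, rfl⟩, rfl⟩

theorem iInf_closure_eq {ι : Type*} [Nonempty ι] (F : ι → Subfield k) (e : ℕ)
    (hq : ∀ x : k, x ^ ringExpChar k ^ e ∈ ⨅ i, F i) :
    (⨅ i, Subfield.closure (algebraMap PS KK '' {f | ∀ n, coeff n f ∈ F i})) =
      Subfield.closure (algebraMap PS KK '' {f | ∀ n, coeff n f ∈ ⨅ i, F i}) := by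
  classical
  haveI : IsDomain PS := NoZeroDivisors.to_isDomain _
  have hinj : Function.Injective (algebraMap PS KK) := IsFractionRing.injective PS KK
  apply le_antisymm
  · intro x hx
    rw [Subfield.mem_iInf] at hx
    rw [mem_closure_iff]
    obtain ⟨i₀⟩ := ‹Nonempty ι›
    obtain ⟨a, -, b, -, hab⟩ := (mem_closure_iff r (F i₀) x).1 (hx i₀)
    by_cases hb0 : b = 0
    · refine ⟨0, Subring.zero_mem _, 1, Subring.one_mem _, ?_⟩
      have hx0 : x = 0 := by rw [← hab, hb0, map_zero, div_zero]
      rw [hx0, map_zero, zero_div]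
    set q := ringExpChar k ^ e with hq_def
    have hqpos : 0 < q := pow_pos (expChar_pos k (ringExpChar k)) e
    -- the new denominator
    have hh : b ^ q ∈ coeffSubring (σ := Fin r) (⨅ i, F i) := by
      intro n
      obtain ⟨y, hy⟩ := coeff_pow_expChar_pow b e n
      rw [hy]
      exact hq y
    have hh0 : b ^ q ≠ 0 := pow_ne_zero _ hb0
    have hιb : algebraMap PS KK b ≠ 0 := fun h0 => hb0 (hinj (h0.trans (map_zero _).symm))
    -- the new numerator
    obtain ⟨f, hf_def⟩ : ∃ f : PS, f = a * b ^ (q - 1) := ⟨_, rfl⟩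
    have hxf : algebraMap PS KK f = x * algebraMap PS KK (b ^ q) := by
      rw [hf_def, ← hab, map_mul, map_pow, map_pow]
      have : q = (q - 1) + 1 := by omega
      conv_rhs => rw [this, pow_succ]
      field_simp
    have hfmem : ∀ i, f ∈ coeffSubring (σ := Fin r) (F i) := by
      intro i
      obtain ⟨ai, hai, bi, hbi, habi⟩ := (mem_closure_iff r (F i) x).1 (hx i)
      have hhi : b ^ q ∈ coeffSubring (σ := Fin r) (F i) :=
        coeffSubring_mono (iInf_le F i) hh
      by_cases hbi0 : bi = 0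
      · have hx0 : x = 0 := by rw [← habi, hbi0, map_zero, div_zero]
        have hf0 : f = 0 := by
          apply hinj
          rw [hxf, hx0, zero_mul, map_zero]
        rw [hf0]
        exact Subring.zero_mem _
      have hιbi : algebraMap PS KK bi ≠ 0 :=
        fun h0 => hbi0 (hinj (h0.trans (map_zero _).symm))
      refine mem_of_mul_eq (F i) f bi (ai * b ^ q) hbi (Subring.mul_mem _ hai hhi) hbi0 ?_
      apply hinj
      rw [map_mul, map_mul, hxf, ← habi]
      field_simp
    have hfmem' : f ∈ coeffSubring (σ := Fin r) (⨅ i, F i) := by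
      intro n
      rw [Subfield.mem_iInf]
      exact fun i => hfmem i n
    refine ⟨f, hfmem', b ^ q, hh, ?_⟩
    rw [hxf, mul_div_assoc, div_self, mul_one]
    exact fun h0 => hh0 (hinj (h0.trans (map_zero _).symm))
  · refine le_iInf fun i => Subfield.closure_mono (Set.image_mono ?_)
    intro f hf n
    exact (iInf_le F i) (hf n)

end Main

end Groth.Agent.Lib.PSSubfieldH3
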