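import Mathlib
import Groth.Prelude.Def_Wider
import Groth.Agent.Lib.PTInj_helper1
import Groth.Agent.Lib.Kashiwara_helper1
import Groth.Agent.Lib.PSComplete_helper1

/-!
# Power-torsion modules with derivations over `k[[x₁,…,x_d]]`, `char k = 0` (helper1, S1732)
-/

set_option autoImplicit false
universe u

namespace Groth.Agent.Lib.PTInjH1

open MvPowerSeries Groth.Agent.Lib.KashiwaraH1

section main

variable (k : Type u) [Field k] [CharZero k] (d : ℕ)

lemma X_mem_maximalIdeal (i : Fin d) :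
    (X i : MvPowerSeries (Fin d) k) ∈ IsLocalRing.maximalIdeal (MvPowerSeries (Fin d) k) := by
  rw [Groth.Agent.Lib.PSCompleteH1.mem_maximalIdeal_iff, constantCoeff_X]
  exact Ideal.zero_mem _

lemma maximalIdeal_le_span_X :
    IsLocalRing.maximalIdeal (MvPowerSeries (Fin d) k) ≤
      Ideal.span (Set.range (X : Fin d → MvPowerSeries (Fin d) k)) := by
  intro f hf
  rw [Groth.Agent.Lib.PSCompleteH1.mem_maximalIdeal_iff, IsLocalRing.maximalIdeal_eq_bot,
    Ideal.mem_bot] at hf
  have h := Groth.Agent.Lib.PSEvalH1.mem_span_X_pow_finset 1 (Finset.univ : Finset (Fin d)) f (by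
    intro e he
    have he0 : e = 0 := by
      ext i
      have := he i (Finset.mem_univ i)
      simp only [Finsupp.coe_zero, Pi.zero_apply]
      omega
    rw [he0, coeff_zero_eq_constantCoeff_apply, hf])
  refine Ideal.span_mono ?_ h
  rintro _ ⟨i, -, rfl⟩
  exact ⟨i, (pow_one _).symm⟩

/-- the inverse factorials in the power series ring. -/
noncomputable def cfac (n : ℕ) : MvPowerSeries (Fin d) k :=
  C ((n.factorial : k)⁻¹)

lemma cfac_zero : cfac k d 0 = 1 := by
  unfold cfac
  rw [Nat.factorial_zero, Nat.cast_one, inv_one, map_one]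

lemma cfac_succ (n : ℕ) :
    cfac k d (n + 1) * (((n + 1 : ℕ) : MvPowerSeries (Fin d) k)) = cfac k d n := by
  unfold cfac
  have h1 : (((n + 1 : ℕ) : MvPowerSeries (Fin d) k)) = C (((n + 1 : ℕ) : k)) :=
    (map_natCast (C : k →+* MvPowerSeries (Fin d) k) (n + 1)).symm
  rw [h1, ← map_mul]
  congr 1
  have hn : ((n.factorial : ℕ) : k) ≠ 0 := Nat.cast_ne_zero.mpr (Nat.factorial_ne_zero n)
  have hn1 : (((n + 1 : ℕ)) : k) ≠ 0 := Nat.cast_ne_zero.mpr (Nat.succ_ne_zero n)
  rw [Nat.factorial_succ, Nat.cast_mul]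
  field_simp

theorem main1732 (E : Type u) [AddCommGroup E] [Module (MvPowerSeries (Fin d) k) E]
    (e : IsLocalRing.ResidueField (MvPowerSeries (Fin d) k) →ₗ[MvPowerSeries (Fin d) k] E)
    (he : InjHull.IsInjectiveHull e)
    (θ : Fin d → Derivation k (MvPowerSeries (Fin d) k) (MvPowerSeries (Fin d) k))
    (hθ : ∀ i j : Fin d, θ i (MvPowerSeries.X j) = if i = j then 1 else 0)
    (M : Type u) [AddCommGroup M] [Module (MvPowerSeries (Fin d) k) M]
    (hM : LocCoh.IsPowerTorsion (IsLocalRing.maximalIdeal (MvPowerSeries (Fin d) k)) M)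
    (D : Fin d → M →+ M)
    (hD : ∀ (i : Fin d) (f : MvPowerSeries (Fin d) k) (z : M),
      D i (f • z) = θ i f • z + f • D i z) :
    ∃ J : Type u, Nonempty (M ≃ₗ[MvPowerSeries (Fin d) k] (J →₀ E)) := by
  have hD' : ∀ (i j : Fin d) (z : M),
      D i ((X j : MvPowerSeries (Fin d) k) • z) =
        (if i = j then z else 0) + (X j : MvPowerSeries (Fin d) k) • D i z := by
    intro i j z
    rw [hD, hθ]
    by_cases hij : i = j
    · rw [if_pos hij, if_pos hij, one_smul]
    · rw [if_neg hij, if_neg hij, zero_smul]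
  have htors : ∀ (i : Fin d) (z : M), ∃ N : ℕ, (X i : MvPowerSeries (Fin d) k) ^ N • z = 0 := by
    intro i z
    obtain ⟨n, hn⟩ := hM z
    exact ⟨n, hn _ (Ideal.pow_mem_pow (X_mem_maximalIdeal k d i) n)⟩
  have hK : ∀ φ : ↥(IsLocalRing.maximalIdeal (MvPowerSeries (Fin d) k)) →ₗ[MvPowerSeries (Fin d) k] M,
      ∃ m : M, ∀ (a : MvPowerSeries (Fin d) k)
        (ha : a ∈ IsLocalRing.maximalIdeal (MvPowerSeries (Fin d) k)), φ ⟨a, ha⟩ = a • m := by
    intro φ
    obtain ⟨m, hm⟩ := exists_common_preimage (x := fun i => (X i : MvPowerSeries (Fin d) k))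
      (D := D) (c := cfac k d) hD' (cfac_zero k d) (cfac_succ k d) htors
      (fun i => φ ⟨X i, X_mem_maximalIdeal k d i⟩) (fun a b => by
        rw [← map_smul, ← map_smul]
        congr 1
        apply Subtype.ext
        change (X a : MvPowerSeries (Fin d) k) * X b = X b * X a
        exact mul_comm _ _)
    refine ⟨m, eq_smul_of_span _ (Set.range (X : Fin d → MvPowerSeries (Fin d) k))
      (maximalIdeal_le_span_X k d) ?_ φ m ?_⟩
    · rintro _ ⟨i, rfl⟩
      exact X_mem_maximalIdeal k d i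
    · rintro _ ⟨i, rfl⟩
      exact (hm i).symm
  have hinj := injective_of_baer_maximalIdeal hM hK
  exact exists_equiv_finsupp_of_injective e he hM hinj

end main

end Groth.Agent.Lib.PTInjH1
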