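import Mathlib
import Groth.Agent.Lib.HorseshoeCx_helper9
import Groth.Agent.Lib.HorseshoeProj_helper9
import Groth.Agent.Lib.LeftResolution_helper2
import Groth.Agent.Lib.ITower_helper9

/-!
# Towers of left resolutions of the truncations of a complex (helper9)

Dual of `ITower_helper9`: for a class `P` of objects of an abelian category such that every object
is a quotient of an object of `P`, we construct compatible resolutions `Q n ⟶ τ_{≤ n} K` by bounded
above complexes with terms in `P`, with termwise split monomorphisms `Q n ⟶ Q (n+1)` whose cokernels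
are in `P`.
-/

open CategoryTheory CategoryTheory.Limits

namespace Groth.Agent.Lib.PTower

universe v u

variable {A : Type u} [Category.{v} A] [Abelian A]

/-! ### A contractible complex receiving a given complex -/

section C

variable (J : CochainComplex A ℤ)

/-- The differential of `C J`. -/
noncomputable def dC (n : ℤ) : J.X n ⊞ J.X (n + 1) ⟶ J.X (n + 1) ⊞ J.X (n + 1 + 1) :=
  biprod.lift (biprod.fst ≫ J.d n (n + 1) + biprod.snd) (-(biprod.snd ≫ J.d (n + 1) (n + 1 + 1)))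

lemma dC_fst (n : ℤ) : dC J n ≫ biprod.fst = biprod.fst ≫ J.d n (n + 1) + biprod.snd :=
  biprod.lift_fst _ _

lemma dC_snd (n : ℤ) : dC J n ≫ biprod.snd = -(biprod.snd ≫ J.d (n + 1) (n + 1 + 1)) :=
  biprod.lift_snd _ _

lemma dC_comp_dC (n : ℤ) : dC J n ≫ dC J (n + 1) = 0 := by
  apply biprod.hom_ext
  · rw [Category.assoc, dC_fst, Preadditive.comp_add, ← Category.assoc, dC_fst, dC_snd,
      Preadditive.add_comp, Category.assoc, J.d_comp_d, comp_zero, zero_add, zero_comp,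
      add_neg_cancel]
  · rw [Category.assoc, dC_snd, Preadditive.comp_neg, ← Category.assoc, dC_snd,
      Preadditive.neg_comp, Category.assoc, J.d_comp_d, comp_zero, neg_zero, neg_zero, zero_comp]

/-- A contractible complex with terms `J^n ⊞ J^(n+1)`. -/
noncomputable def C : CochainComplex A ℤ :=
  CochainComplex.of (fun n => J.X n ⊞ J.X (n + 1)) (dC J) (dC_comp_dC J)

lemma C_d (n : ℤ) : (C J).d n (n + 1) = dC J n := by
  unfold C
  exact CochainComplex.of_d (fun n => J.X n ⊞ J.X (n + 1)) (dC J) n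

/-- The inclusion `J ⟶ C J`. -/
noncomputable def j : J ⟶ C J :=
  CochainComplex.ofHom (X := J) (Y := C J)
    (fun n => (biprod.inl : J.X n ⟶ J.X n ⊞ J.X (n + 1)))
    (fun n => by
      rw [C_d]
      change biprod.inl ≫ dC J n = J.d n (n + 1) ≫ biprod.inl
      apply biprod.hom_ext
      · rw [Category.assoc, dC_fst, Preadditive.comp_add, biprod.inl_fst_assoc, biprod.inl_snd,
          add_zero, Category.assoc, biprod.inl_fst, Category.comp_id]
      · rw [Category.assoc, dC_snd, Preadditive.comp_neg, biprod.inl_snd_assoc, zero_comp,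
          neg_zero, Category.assoc, biprod.inl_snd, comp_zero])

lemma j_f (n : ℤ) : (j J).f n = (biprod.inl : J.X n ⟶ J.X n ⊞ J.X (n + 1)) := rfl

/-- The termwise retraction of `j`. -/
noncomputable def rC (n : ℤ) : (C J).X n ⟶ J.X n := (biprod.fst : J.X n ⊞ J.X (n + 1) ⟶ J.X n)

lemma j_rC (n : ℤ) : (j J).f n ≫ rC J n = 𝟙 _ := by
  rw [j_f]
  exact biprod.inl_fst

/-- The contracting homotopy of `C J`. -/
noncomputable def hC (i : ℤ) : J.X (i + 1) ⊞ J.X (i + 1 + 1) ⟶ J.X i ⊞ J.X (i + 1) :=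
  biprod.fst ≫ biprod.inr

lemma hC_spec (i : ℤ) : hC J i ≫ dC J i + dC J (i + 1) ≫ hC J (i + 1) = 𝟙 _ := by
  apply biprod.hom_ext
  · rw [Preadditive.add_comp, Category.assoc, dC_fst, Category.assoc, Category.id_comp]
    simp [hC]
  · rw [Preadditive.add_comp, Category.assoc, dC_snd, Category.assoc, Category.id_comp]
    simp only [hC, Category.assoc, biprod.inr_snd, Category.comp_id, Preadditive.comp_neg,
      biprod.inr_snd_assoc]
    rw [dC_fst]
    simp

lemma exact_dC (i : ℤ) :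
    (ShortComplex.mk (dC J i) (dC J (i + 1)) (dC_comp_dC J i)).Exact := by
  rw [ShortComplex.exact_iff_exact_up_to_refinements]
  intro T x hx
  refine ⟨T, 𝟙 T, inferInstance, x ≫ hC J i, ?_⟩
  have hx' : x ≫ dC J (i + 1) = 0 := hx
  have h := hC_spec J i
  rw [Category.id_comp]
  change x = (x ≫ hC J i) ≫ dC J i
  calc x = x ≫ 𝟙 _ := (Category.comp_id x).symm
    _ = x ≫ (hC J i ≫ dC J i + dC J (i + 1) ≫ hC J (i + 1)) := by rw [h]
    _ = (x ≫ hC J i) ≫ dC J i := by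
      rw [Preadditive.comp_add, ← Category.assoc x (dC J (i + 1)), hx', zero_comp, add_zero,
        Category.assoc]

lemma acyclic_C : (C J).Acyclic := by
  intro k
  obtain ⟨i, rfl⟩ : ∃ i, i + 1 = k := ⟨k - 1, by omega⟩
  rw [HomologicalComplex.exactAt_iff' _ i (i + 1) (i + 1 + 1) (by simp) (by simp)]
  have h1 := C_d J i
  have h2 := C_d J (i + 1)
  suffices ∀ (f : (C J).X i ⟶ (C J).X (i + 1)) (g : (C J).X (i + 1) ⟶ (C J).X (i + 1 + 1))
      (w : f ≫ g = 0), f = dC J i → g = dC J (i + 1) → (ShortComplex.mk f g w).Exact from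
    this _ _ _ h1 h2
  rintro f g w rfl rfl
  exact exact_dC J i

instance isStrictlyLE_C (a : ℤ) [J.IsStrictlyLE a] : (C J).IsStrictlyLE a := by
  rw [CochainComplex.isStrictlyLE_iff]
  intro i hi
  change IsZero (J.X i ⊞ J.X (i + 1))
  rw [biprod_isZero_iff]
  exact ⟨J.isZero_of_isStrictlyLE a i hi, J.isZero_of_isStrictlyLE a (i + 1) (by omega)⟩

end C

/-! ### The relative resolution step -/

open Groth.Agent.Lib.HorseshoeProj

lemma quasiIso_biprod_fst (K' L : CochainComplex A ℤ) (hL : L.Acyclic) :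
    QuasiIso (biprod.fst : K' ⊞ L ⟶ K') := by
  haveI : QuasiIso (biprod.inl : K' ⟶ K' ⊞ L) := ITower.quasiIso_biprod_inl K' L hL
  haveI : QuasiIso ((biprod.inl : K' ⟶ K' ⊞ L) ≫ biprod.fst) := by
    rw [biprod.inl_fst]; infer_instance
  exact quasiIso_of_comp_left (biprod.inl : K' ⟶ K' ⊞ L) biprod.fst

lemma isStrictlyLE_biprod (K' L : CochainComplex A ℤ) (a : ℤ) [K'.IsStrictlyLE a]
    [L.IsStrictlyLE a] : (K' ⊞ L).IsStrictlyLE a := by
  have hS : (ShortComplex.mk (biprod.inl : K' ⟶ K' ⊞ L) biprod.snd biprod.inl_snd).ShortExact :=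
    (ShortComplex.Splitting.ofHasBinaryBiproduct K' L).shortExact
  haveI : (ShortComplex.mk (biprod.inl : K' ⟶ K' ⊞ L) biprod.snd biprod.inl_snd).X₁.IsStrictlyLE a :=
    (inferInstance : K'.IsStrictlyLE a)
  haveI : (ShortComplex.mk (biprod.inl : K' ⟶ K' ⊞ L) biprod.snd biprod.inl_snd).X₃.IsStrictlyLE a :=
    (inferInstance : L.IsStrictlyLE a)
  exact isStrictlyLE_X₂ hS a

theorem exists_step (P : ObjectProperty A) [P.IsClosedUnderIsomorphisms]
    (hP0 : ∃ Z : A, IsZero Z ∧ P Z) (hPsum : ∀ X Y : A, P X → P Y → P (X ⊞ Y))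
    (hP : ∀ X : A, ∃ (Y : A) (π : Y ⟶ X), P Y ∧ Epi π)
    {K' J : CochainComplex A ℤ} (β : J ⟶ K') (a : ℤ) [K'.IsStrictlyLE a] [J.IsStrictlyLE a]
    (hJ : ∀ n, P (J.X n)) :
    ∃ (J' : CochainComplex A ℤ) (π' : J' ⟶ K') (p : J ⟶ J'), J'.IsStrictlyLE a ∧
      (∀ n, P (J'.X n)) ∧ QuasiIso π' ∧ (∀ n, Epi (π'.f n)) ∧ p ≫ π' = β ∧
      (∀ n, (∃ s : J'.X n ⟶ J.X n, p.f n ≫ s = 𝟙 _) ∧ P (cokernel (p.f n))) := by
  -- the factorization `J ⟶ M ⟶ K'`
  let r : J ⟶ K' ⊞ C J := biprod.lift β (j J)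
  let sM : ∀ n, (K' ⊞ C J).X n ⟶ J.X n := fun n => (biprod.snd : K' ⊞ C J ⟶ C J).f n ≫ rC J n
  have hsM : ∀ n, r.f n ≫ sM n = 𝟙 _ := fun n => by
    change r.f n ≫ (biprod.snd : K' ⊞ C J ⟶ C J).f n ≫ rC J n = 𝟙 _
    rw [← Category.assoc, ← HomologicalComplex.comp_f, biprod.lift_snd, j_rC]
  haveI : ∀ n, Mono (r.f n) := fun n => mono_of_mono_fac (hsM n)
  haveI : Mono r := HomologicalComplex.mono_of_mono_f _ inferInstance
  haveI : (K' ⊞ C J).IsStrictlyLE a := isStrictlyLE_biprod K' (C J) a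
  let S₀ : ShortComplex (CochainComplex A ℤ) :=
    ShortComplex.mk r (cokernel.π r) (cokernel.condition r)
  have hS : S₀.ShortExact :=
    { exact := ShortComplex.exact_cokernel r
      mono_f := (inferInstance : Mono r)
      epi_g := (inferInstance : Epi (cokernel.π r)) }
  haveI : (cokernel r).IsStrictlyLE a := by
    rw [CochainComplex.isStrictlyLE_iff]
    intro i hi
    exact IsZero.of_epi ((cokernel.π r).f i) ((K' ⊞ C J).isZero_of_isStrictlyLE a i hi)
  obtain ⟨N, α, hN, hNP, hαe, hα⟩ := LeftRes.exists_resolution_int P hP hP0 (cokernel r) a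
  haveI := hN
  haveI : Epi α := HomologicalComplex.epi_of_epi_f α hαe
  have hS' := pullbackSC_shortExact (S := S₀) hS α
  have hfst : QuasiIso (pullback.fst (cokernel.π r) α) :=
    HorseshoeCx.quasiIso_τ₂ (fromPullbackSC (S := S₀) α) hS' hS
      (inferInstanceAs (QuasiIso (𝟙 J)))
      (show QuasiIso (fromPullbackSC (S := S₀) α).τ₃ from hα)
  have hfstK : QuasiIso (biprod.fst : K' ⊞ C J ⟶ K') := quasiIso_biprod_fst K' (C J) (acyclic_C J)
  haveI : (pullbackSC (S := S₀) α).X₁.IsStrictlyLE a := (inferInstance : J.IsStrictlyLE a)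
  haveI : (pullbackSC (S := S₀) α).X₃.IsStrictlyLE a := hN
  have hJ'a : (pullback (cokernel.π r) α).IsStrictlyLE a := isStrictlyLE_X₂ hS' a
  let p : J ⟶ pullback (cokernel.π r) α := pullbackLift (S := S₀) α
  have hp : p ≫ pullback.fst (cokernel.π r) α = r := pullbackLift_fst (S := S₀) α
  -- termwise data
  have hterm : ∀ n, (∃ s : (pullback (cokernel.π r) α).X n ⟶ J.X n, p.f n ≫ s = 𝟙 _) ∧
      P (cokernel (p.f n)) ∧ P ((pullback (cokernel.π r) α).X n) := by
    intro n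
    have hn := hS'.map_of_exact (HomologicalComplex.eval A (ComplexShape.up ℤ) n)
    haveI := hn.epi_g
    have hret : p.f n ≫ ((pullback.fst (cokernel.π r) α).f n ≫ sM n) = 𝟙 _ := by
      rw [← Category.assoc, ← HomologicalComplex.comp_f, hp, hsM]
    refine ⟨⟨_, hret⟩, ?_, ?_⟩
    · let e : N.X n ≅ cokernel (p.f n) :=
        IsColimit.coconePointUniqueUpToIso hn.exact.gIsCokernel (colimit.isColimit _)
      exact P.prop_of_iso e (hNP n)
    · let σ := ShortComplex.Splitting.ofExactOfRetraction _ hn.exact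
        ((pullback.fst (cokernel.π r) α).f n ≫ sM n) hret hn.epi_g
      exact P.prop_of_iso σ.isoBinaryBiproduct.symm (hPsum _ _ (hJ n) (hNP n))
  refine ⟨pullback (cokernel.π r) α, pullback.fst (cokernel.π r) α ≫ biprod.fst, p, hJ'a,
    fun n => (hterm n).2.2, ?_, ?_, ?_, fun n => ⟨(hterm n).1, (hterm n).2.1⟩⟩
  · haveI := hfst
    haveI := hfstK
    infer_instance
  · intro n
    rw [HomologicalComplex.comp_f]
    haveI : Epi ((biprod.fst : K' ⊞ C J ⟶ K').f n) := inferInstance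
    haveI : Epi ((pullback.fst (cokernel.π r) α).f n) := inferInstance
    exact epi_comp _ _
  · rw [← Category.assoc, hp, biprod.lift_fst]

/-! ### The canonical maps between truncations -/

section tmap

variable (K : CochainComplex A ℤ) (m m' : ℤ) (h : m ≤ m')

/-- The canonical map `τ_{≤ m} K ⟶ τ_{≤ m'} K` for `m ≤ m'`. -/
noncomputable def tmap : K.truncLE m ⟶ K.truncLE m' :=
  haveI : (K.truncLE m).IsStrictlyLE m' := (K.truncLE m).isStrictlyLE_of_le m m' h
  inv ((K.truncLE m).ιTruncLE m') ≫ CochainComplex.truncLEMap (K.ιTruncLE m) m'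

lemma tmap_ι : tmap K m m' h ≫ K.ιTruncLE m' = K.ιTruncLE m := by
  haveI : (K.truncLE m).IsStrictlyLE m' := (K.truncLE m).isStrictlyLE_of_le m m' h
  unfold tmap
  rw [Category.assoc, CochainComplex.ιTruncLE_naturality, IsIso.inv_hom_id_assoc]

end tmap

/-! ### The tower -/

section tower

variable (P : ObjectProperty A) (K : CochainComplex A ℤ)

/-- The data of the `n`-th stage of the tower. -/
structure St (n : ℕ) where
  /-- the resolution -/
  Q : CochainComplex A ℤ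
  /-- the quasi-isomorphism -/
  π : Q ⟶ K.truncLE (n : ℤ)
  hLE : Q.IsStrictlyLE (n : ℤ)
  hP : ∀ i, P (Q.X i)
  hq : QuasiIso π
  he : ∀ i, Epi (π.f i)

variable [P.IsClosedUnderIsomorphisms]
  (hP0 : ∃ Z : A, IsZero Z ∧ P Z) (hPsum : ∀ X Y : A, P X → P Y → P (X ⊞ Y))
  (hP : ∀ X : A, ∃ (Y : A) (π : Y ⟶ X), P Y ∧ Epi π)

include hP0 hP in
lemma exists_init : Nonempty (St P K 0) := by
  obtain ⟨L, α, h1, h2, h3, h4⟩ := LeftRes.exists_resolution_int P hP hP0
    (K.truncLE ((0 : ℕ) : ℤ)) ((0 : ℕ) : ℤ)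
  exact ⟨⟨L, α, h1, h2, h4, h3⟩⟩

include hP0 hPsum hP in
lemma exists_next (n : ℕ) (s : St P K n) :
    ∃ (s' : St P K (n + 1)) (p : s.Q ⟶ s'.Q),
      s.π ≫ tmap K (n : ℤ) ((n + 1 : ℕ) : ℤ) (by push_cast; omega) = p ≫ s'.π ∧
      ∀ i, (∃ σ : s'.Q.X i ⟶ s.Q.X i, p.f i ≫ σ = 𝟙 _) ∧ P (cokernel (p.f i)) := by
  haveI := s.hLE
  haveI : s.Q.IsStrictlyLE ((n + 1 : ℕ) : ℤ) :=
    s.Q.isStrictlyLE_of_le (n : ℤ) ((n + 1 : ℕ) : ℤ) (by push_cast; omega)
  obtain ⟨J', π', p, h1, h2, h3, h4, h5, h6⟩ := exists_step P hP0 hPsum hP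
    (s.π ≫ tmap K (n : ℤ) ((n + 1 : ℕ) : ℤ) (by push_cast; omega)) ((n + 1 : ℕ) : ℤ) s.hP
  exact ⟨⟨J', π', h1, h2, h3, h4⟩, p, h5.symm, h6⟩

/-- The tower, by recursion. -/
noncomputable def seq : ∀ n : ℕ, St P K n
  | 0 => (exists_init P K hP0 hP).some
  | n + 1 => (exists_next P K hP0 hPsum hP n (seq n)).choose

/-- The transition maps of the tower. -/
noncomputable def imap (n : ℕ) :
    (seq P K hP0 hPsum hP n).Q ⟶ (seq P K hP0 hPsum hP (n + 1)).Q :=
  (exists_next P K hP0 hPsum hP n (seq P K hP0 hPsum hP n)).choose_spec.choose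

lemma imap_spec (n : ℕ) :
    ((seq P K hP0 hPsum hP n).π ≫ tmap K (n : ℤ) ((n + 1 : ℕ) : ℤ) (by push_cast; omega) =
        imap P K hP0 hPsum hP n ≫ (seq P K hP0 hPsum hP (n + 1)).π) ∧
      ∀ i, (∃ σ : (seq P K hP0 hPsum hP (n + 1)).Q.X i ⟶ (seq P K hP0 hPsum hP n).Q.X i,
        (imap P K hP0 hPsum hP n).f i ≫ σ = 𝟙 _) ∧ P (cokernel ((imap P K hP0 hPsum hP n).f i)) :=
  (exists_next P K hP0 hPsum hP n (seq P K hP0 hPsum hP n)).choose_spec.choose_spec

include hP0 hPsum hP in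
theorem main :
    ∃ (Q : ℕ → CochainComplex A ℤ) (ι : ∀ n, Q n ⟶ Q (n + 1))
      (π : ∀ n : ℕ, Q n ⟶ K.truncLE (n : ℤ)),
      (∀ n, QuasiIso (π n) ∧ ∀ i, Epi ((π n).f i)) ∧
      (∀ n, ∃ b : ℤ, (Q n).IsStrictlyLE b) ∧ (∀ n i, P ((Q n).X i)) ∧
      (∀ n i, (∃ r : (Q (n + 1)).X i ⟶ (Q n).X i, (ι n).f i ≫ r = 𝟙 _) ∧
        P (cokernel ((ι n).f i))) ∧
      (∀ n : ℕ, π n ≫ K.ιTruncLE (n : ℤ) =
        ι n ≫ π (n + 1) ≫ K.ιTruncLE ((n + 1 : ℕ) : ℤ)) := by
  refine ⟨fun n => (seq P K hP0 hPsum hP n).Q, imap P K hP0 hPsum hP,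
    fun n => (seq P K hP0 hPsum hP n).π, fun n => ⟨(seq P K hP0 hPsum hP n).hq,
      (seq P K hP0 hPsum hP n).he⟩, fun n => ⟨_, (seq P K hP0 hPsum hP n).hLE⟩,
    fun n => (seq P K hP0 hPsum hP n).hP, fun n => (imap_spec P K hP0 hPsum hP n).2, ?_⟩
  intro n
  rw [← Category.assoc, ← (imap_spec P K hP0 hPsum hP n).1, Category.assoc, tmap_ι]

end tower

end Groth.Agent.Lib.PTower
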