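import Mathlib
import Groth.Agent.Lib.HensGRing_helper3
import Groth.Agent.Lib.HensNoeth_helper3
import Groth.Agent.Lib.EtaleNbhd_lead
import Groth.Agent.Lib.GRingIso_helper3

/-!
# The henselization of a pair over a G-ring is a G-ring (helper3)

* `isRegularHom_cpl_of_flat_unramified`: for a flat, formally unramified local homomorphism
  `R → S` of Noetherian local rings inducing an isomorphism on completions, if `R → R̂` is regular so
  is `S → Ŝ`.
* `formallyUnramified`, `maximal_facts`: the henselization `B` of `(A, I)` is formally unramified over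
  `A`; maximal ideals of `B` are of the form `mB` with `m` maximal in `A`, and `A/m ≅ B/mB`.
* `main9276`.
-/

set_option autoImplicit false
universe u

namespace Groth.Agent.Lib.PairHensGRingH3

open IsLocalRing TensorProduct Groth.Agent.Lib Groth.Agent.Lib.EtaleNbhd

section Gen

variable (R S : Type u) [CommRing R] [CommRing S] [IsNoetherianRing R] [IsNoetherianRing S]
  [IsLocalRing R] [IsLocalRing S] [Algebra R S] [IsLocalHom (algebraMap R S)]

open Groth.Agent.Lib.FFTransferH3 in
theorem isRegularHom_cpl_of_flat_unramified [Module.Flat R S] [Algebra.FormallyUnramified R S]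
    (hbij : Function.Bijective (psi R S)) (hR : CAlg.IsRegularHom R (EGA4.Cpl R)) :
    CAlg.IsRegularHom S (EGA4.Cpl S) := by
  haveI := tower' R S
  haveI := noeth_cpl S
  obtain ⟨hloc, hnoeth, hcompl, hff, hlh, hmap⟩ := Groth.Agent.Lib.AnUnramH3.completion_facts S
  haveI := hff
  haveI : Module.Flat S (EGA4.Cpl S) := inferInstance
  have h1 := HensGRingH3.isRegularHom_base_cpl R S hbij hR
  apply Groth.Agent.Lib.AdicFSTransferH3.isRegularHom_of_forall_adic
  intro 𝔓 h𝔓
  have h2 := HensGRingH3.adic_localization_of_isRegularHom R (EGA4.Cpl S) h1 𝔓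
  exact Groth.Agent.Lib.AdicFSTransferH3.adic_of_formallyUnramified_base R S
    (Localization.AtPrime 𝔓) _ h2

end Gen

section Pair

variable {A : Type u} [CommRing A] {I : Ideal A} {B : Type u} [CommRing B] [Algebra A B]

theorem formallyUnramified (hB : Hens2.IsPairHenselization A I B) :
    Algebra.FormallyUnramified A B := by
  refine ⟨?_⟩
  have hzero : ∀ b : B, KaehlerDifferential.D A B b = 0 := by
    intro b
    obtain ⟨N, c, rfl⟩ := exists_nb hB b
    letI : Algebra N.C B := N.φ.toRingHom.toAlgebra
    haveI : IsScalarTower A N.C B :=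
      IsScalarTower.of_algebraMap_eq (fun a => (N.φ.commutes a).symm)
    have h1 : KaehlerDifferential.map A A N.C B (KaehlerDifferential.D A N.C c) =
        KaehlerDifferential.D A B (algebraMap N.C B c) := KaehlerDifferential.map_D A A N.C B c
    have h2 : KaehlerDifferential.D A N.C c = 0 := Subsingleton.elim _ _
    rw [h2, map_zero] at h1
    exact h1.symm
  have htop : (⊤ : Submodule B (Ω[B⁄A])) = ⊥ := by
    rw [← KaehlerDifferential.span_range_derivation, Submodule.span_eq_bot]
    rintro _ ⟨b, rfl⟩
    exact hzero b
  exact ⟨fun x y => by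
    have hx : x ∈ (⊤ : Submodule B (Ω[B⁄A])) := Submodule.mem_top
    have hy : y ∈ (⊤ : Submodule B (Ω[B⁄A])) := Submodule.mem_top
    rw [htop, Submodule.mem_bot] at hx hy
    rw [hx, hy]⟩

theorem maximal_facts (hB : Hens2.IsPairHenselization A I B) (n : Ideal B) [hn : n.IsMaximal] :
    (n.under A).IsMaximal ∧ n = (n.under A).map (algebraMap A B) ∧
      ∀ b : B, ∃ a : A, b - algebraMap A B a ∈ n := by
  have hIn : I.map (algebraMap A B) ≤ n := by
    refine le_trans hB.1.jac ?_
    exact sInf_le ⟨bot_le, hn⟩
  have hS : SurjMod I B :=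
    ((bijective_iff I B).1 (PairHensQuot.quotientMap_bijective B I hB.1 hB.2)).1
  have h3 : ∀ b : B, ∃ a : A, b - algebraMap A B a ∈ n := by
    intro b
    obtain ⟨a, ha⟩ := hS b
    exact ⟨a, hIn ha⟩
  refine ⟨?_, ?_, h3⟩
  · let f : A →+* B ⧸ n := (Ideal.Quotient.mk n).comp (algebraMap A B)
    have hf : Function.Surjective f := by
      intro z
      obtain ⟨b, rfl⟩ := Ideal.Quotient.mk_surjective z
      obtain ⟨a, ha⟩ := h3 b
      exact ⟨a, (Ideal.Quotient.eq.2 ha).symm⟩
    letI : Field (B ⧸ n) := Ideal.Quotient.field n
    have hmax : (Ideal.comap f ⊥).IsMaximal :=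
      Ideal.comap_isMaximal_of_surjective f hf (K := ⊥)
    have heq : Ideal.comap f ⊥ = n.under A := by
      ext a
      rw [Ideal.mem_comap, Ideal.mem_bot, Ideal.under_def, Ideal.mem_comap]
      exact Ideal.Quotient.eq_zero_iff_mem
    rwa [heq] at hmax
  · refine le_antisymm (fun b hb => ?_) (Ideal.map_le_iff_le_comap.2 le_rfl)
    obtain ⟨a, ha⟩ := hS b
    have ha' : algebraMap A B a ∈ n := by
      have : algebraMap A B a = b - (b - algebraMap A B a) := by ring
      rw [this]
      exact n.sub_mem hb (hIn ha)
    have hIm : I ≤ n.under A := fun x hx => hIn (Ideal.mem_map_of_mem _ hx)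
    have : b = algebraMap A B a + (b - algebraMap A B a) := by ring
    rw [this]
    exact Ideal.add_mem _ (Ideal.mem_map_of_mem _ ha') (Ideal.map_mono hIm ha)

end Pair

theorem main9276 (A : Type u) [CommRing A] (hA : CAlg.IsGRing A) (I : Ideal A)
    (B : Type u) [CommRing B] [Algebra A B] (hB : Hens2.IsPairHenselization A I B) :
    CAlg.IsGRing B := by
  haveI := hA.1
  haveI : IsNoetherianRing B := HensNoethH3.isNoetherianRing hB
  haveI : Module.Flat A B := EtaleNbhd.flat hB
  haveI : Algebra.FormallyUnramified A B := formallyUnramified hB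
  rw [Groth.Agent.Lib.GRingMaximalH3.isGRing_iff_maximal]
  intro n hn
  obtain ⟨hmmax, hneq, hsurj⟩ := maximal_facts hB n
  set m : Ideal A := n.under A with hm
  haveI : m.IsMaximal := hmmax
  haveI : n.LiesOver m := ⟨rfl⟩
  letI := Localization.AtPrime.algebraOfLiesOver m n
  haveI : IsLocalHom (algebraMap (Localization.AtPrime m) (Localization.AtPrime n)) := by
    rw [RingHom.algebraMap_toAlgebra]
    exact Localization.isLocalHom_localRingHom m n (algebraMap A B) Ideal.LiesOver.over
  haveI : IsNoetherianRing (Localization.AtPrime m) :=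
    IsLocalization.isNoetherianRing m.primeCompl _ inferInstance
  haveI : IsNoetherianRing (Localization.AtPrime n) :=
    IsLocalization.isNoetherianRing n.primeCompl _ inferInstance
  haveI : IsScalarTower A (Localization.AtPrime m) (Localization.AtPrime n) := inferInstance
  haveI : Algebra.FormallyUnramified B (Localization.AtPrime n) :=
    Algebra.FormallyUnramified.of_isLocalization n.primeCompl
  haveI : Algebra.FormallyUnramified A (Localization.AtPrime n) :=
    Algebra.FormallyUnramified.comp A B (Localization.AtPrime n)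
  haveI : Algebra.FormallyUnramified (Localization.AtPrime m) (Localization.AtPrime n) :=
    Algebra.FormallyUnramified.of_restrictScalars A (Localization.AtPrime m) (Localization.AtPrime n)
  have hmap : Ideal.map (algebraMap (Localization.AtPrime m) (Localization.AtPrime n))
      (maximalIdeal (Localization.AtPrime m)) = maximalIdeal (Localization.AtPrime n) := by
    rw [← IsLocalization.AtPrime.map_eq_maximalIdeal m (Localization.AtPrime m), Ideal.map_map,
      ← IsScalarTower.algebraMap_eq, IsScalarTower.algebraMap_eq A B (Localization.AtPrime n),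
      ← Ideal.map_map, ← hneq]
    exact IsLocalization.AtPrime.map_eq_maximalIdeal n (Localization.AtPrime n)
  have hk : Function.Bijective (IsLocalRing.ResidueField.map
      (algebraMap (Localization.AtPrime m) (Localization.AtPrime n))) := by
    refine ⟨RingHom.injective _, fun z => ?_⟩
    obtain ⟨s, rfl⟩ := IsLocalRing.residue_surjective z
    obtain ⟨w, hw⟩ := (IsLocalization.AtPrime.equivQuotMaximalIdeal n
      (Localization.AtPrime n)).surjective (Ideal.Quotient.mk _ s)
    obtain ⟨b, rfl⟩ := Ideal.Quotient.mk_surjective w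
    rw [IsLocalization.AtPrime.equivQuotMaximalIdeal_apply_mk] at hw
    obtain ⟨a, ha⟩ := hsurj b
    refine ⟨IsLocalRing.residue _ (algebraMap A (Localization.AtPrime m) a), ?_⟩
    rw [IsLocalRing.ResidueField.map_residue, ← IsScalarTower.algebraMap_apply,
      IsScalarTower.algebraMap_apply A B (Localization.AtPrime n)]
    show Ideal.Quotient.mk _ _ = Ideal.Quotient.mk _ s
    rw [← hw, Ideal.Quotient.eq, ← map_sub]
    have h1 : algebraMap A B a - b ∈ n := by
      have : algebraMap A B a - b = -(b - algebraMap A B a) := by ring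
      rw [this]; exact n.neg_mem ha
    rw [← IsLocalization.AtPrime.map_eq_maximalIdeal n (Localization.AtPrime n)]
    exact Ideal.mem_map_of_mem _ h1
  have hbij : Function.Bijective (Groth.Agent.Lib.FFTransferH3.psi (Localization.AtPrime m)
      (Localization.AtPrime n)) :=
    Groth.Agent.Lib.ComplMapIsoH3.bijective_of_comp _ _ hmap hk _ (by
      refine RingHom.ext fun a => ?_
      exact Groth.Agent.Lib.FFTransferH3.psi_of _ _ a)
  exact isRegularHom_cpl_of_flat_unramified (Localization.AtPrime m) (Localization.AtPrime n) hbij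
    (hA.2 m)

end Groth.Agent.Lib.PairHensGRingH3
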