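import Mathlib
import Groth.Prelude
import Groth.Agent.Lib.EulerField_helper9
import Groth.Agent.Lib.InvTensP2_helper5
import Groth.Agent.Lib.RelAmpleVan_helper9
import Groth.Agent.Lib.CohDev16_helper8

/-!
# Parabolic Hilbert functions: additivity in parabolic extensions (helper7)
-/

set_option autoImplicit false
set_option linter.style.haveILetI false

universe v u

open CategoryTheory CategoryTheory.Limits AlgebraicGeometry TopologicalSpace Opposite

namespace Groth.Agent.Lib.ParHilbH7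

section Abelian

variable {𝒜 : Type*} [Category 𝒜] [Abelian 𝒜] {F E G : 𝒜} (i : F ⟶ E) (p : E ⟶ G)

/-- The restriction of `0 → F → E → G → 0` to a subobject `P` of `E`:
`0 → P ∩ F → P → im(P → G) → 0`. -/
noncomputable def subSES (w : i ≫ p = 0) (P : Subobject E) : ShortComplex 𝒜 :=
  ShortComplex.mk (Subobject.pullbackπ i P) (factorThruImageSubobject (P.arrow ≫ p)) (by
    rw [← cancel_mono (imageSubobject (P.arrow ≫ p)).arrow, Category.assoc,
      imageSubobject_arrow_comp, zero_comp, ← Category.assoc, (Subobject.isPullback i P).w,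
      Category.assoc, w, comp_zero])

theorem subSES_shortExact (w : i ≫ p = 0) (hS : (ShortComplex.mk i p w).ShortExact)
    (P : Subobject E) : (subSES i p w P).ShortExact := by
  haveI : Mono i := hS.mono_f
  haveI : Mono (ShortComplex.mk i p w).f := hS.mono_f
  have sq := Subobject.isPullback i P
  haveI hm : Mono (subSES i p w P).f := sq.mono_fst_of_mono
  haveI he : Epi (subSES i p w P).g := by
    change Epi (factorThruImageSubobject (P.arrow ≫ p))
    infer_instance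
  refine ShortComplex.ShortExact.mk' ?_ hm he
  apply ShortComplex.exact_of_f_is_kernel
  refine KernelFork.IsLimit.ofι' _ _ (fun {T} t ht => ?_)
  have key : ∀ t' : T ⟶ (P : 𝒜), t' ≫ factorThruImageSubobject (P.arrow ≫ p) = 0 →
      {l : T ⟶ ((Subobject.pullback i).obj P : 𝒜) // l ≫ Subobject.pullbackπ i P = t'} := by
    intro t' ht'
    have h1 : (t' ≫ P.arrow) ≫ p = 0 := by
      rw [Category.assoc, ← imageSubobject_arrow_comp (P.arrow ≫ p), ← Category.assoc, ht',
        zero_comp]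
    have hu : hS.exact.lift (t' ≫ P.arrow) h1 ≫ i = t' ≫ P.arrow := hS.exact.lift_f _ _
    exact ⟨sq.lift t' (hS.exact.lift (t' ≫ P.arrow) h1) hu.symm, sq.lift_fst _ _ _⟩
  exact key t ht

end Abelian

section ParSum

theorem sum_aux (l : ℕ) (w : Fin (l + 1) → ℝ) (a b c : Fin (l + 2) → ℝ)
    (h : ∀ j, a j + b j = c j) :
    (a (Fin.last (l + 1)) + ∑ j : Fin (l + 1), w j * (a j.castSucc - a j.succ)) +
      (b (Fin.last (l + 1)) + ∑ j : Fin (l + 1), w j * (b j.castSucc - b j.succ)) =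
      c (Fin.last (l + 1)) + ∑ j : Fin (l + 1), w j * (c j.castSucc - c j.succ) := by
  rw [add_add_add_comm, ← Finset.sum_add_distrib, h]
  congr 1
  refine Finset.sum_congr rfl (fun j _ => ?_)
  rw [← h, ← h]
  ring

theorem abel_aux (l : ℕ) (W h : Fin (l + 2) → ℝ) (P : ℝ) (h0 : h 0 = 0)
    (hW : W (Fin.last (l + 1)) = 1) :
    (P - h (Fin.last (l + 1))) +
        ∑ j : Fin (l + 1), W j.castSucc * ((P - h j.castSucc) - (P - h j.succ)) =
      P - ∑ j : Fin (l + 1), (W j.succ - W j.castSucc) * h j.succ := by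
  have e1 : ∑ j : Fin (l + 2), W j * h j = W 0 * h 0 + ∑ j : Fin (l + 1), W j.succ * h j.succ :=
    Fin.sum_univ_succ _
  have e2 : ∑ j : Fin (l + 2), W j * h j =
      ∑ j : Fin (l + 1), W j.castSucc * h j.castSucc + W (Fin.last (l + 1)) * h (Fin.last (l + 1)) :=
    Fin.sum_univ_castSucc _
  rw [h0, mul_zero, zero_add] at e1
  rw [hW, one_mul] at e2
  have e3 : ∑ j : Fin (l + 1), W j.castSucc * ((P - h j.castSucc) - (P - h j.succ)) =
      ∑ j : Fin (l + 1), W j.castSucc * h j.succ -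
        ∑ j : Fin (l + 1), W j.castSucc * h j.castSucc := by
    rw [← Finset.sum_sub_distrib]
    exact Finset.sum_congr rfl (fun j _ => by ring)
  have e4 : ∑ j : Fin (l + 1), (W j.succ - W j.castSucc) * h j.succ =
      ∑ j : Fin (l + 1), W j.succ * h j.succ - ∑ j : Fin (l + 1), W j.castSucc * h j.succ := by
    rw [← Finset.sum_sub_distrib]
    exact Finset.sum_congr rfl (fun j _ => by ring)
  rw [e3, e4]
  linarith

variable {C : Type u} [Category.{v} C]

theorem parSum_eq {E : C} (𝓔 : ParSh.Str E) (f : C → ℝ) :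
    𝓔.parSum f = f (𝓔.pieceX (Fin.last (𝓔.l + 1)) : C) +
      ∑ j : Fin (𝓔.l + 1), 𝓔.wt j * (f (𝓔.pieceX j.castSucc : C) - f (𝓔.pieceX j.succ : C)) := by
  unfold ParSh.Str.parSum
  rw [ParSh.Str.pieceX_last]
  congr 1
  refine Finset.sum_congr rfl (fun j _ => ?_)
  rw [ParSh.Str.pieceX_castSucc]

theorem induced_pieceX [HasPullbacks C] {E F : C} (𝓔 : ParSh.Str E) (i : F ⟶ E)
    (j : Fin (𝓔.l + 2)) :
    (𝓔.induced i).pieceX j = (Subobject.pullback i).obj (𝓔.pieceX j) := by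
  refine Fin.lastCases ?_ (fun j => ?_) j
  · exact ((𝓔.induced i).pieceX_last).trans (congrArg _ 𝓔.pieceX_last.symm)
  · exact ((𝓔.induced i).pieceX_castSucc j).trans (congrArg _ (𝓔.pieceX_castSucc j).symm)

theorem coinduced_pieceX [HasImages C] [HasEqualizers C] [Balanced C] {E G : C}
    (𝓔 : ParSh.Str E) (p : E ⟶ G) [Epi p] (j : Fin (𝓔.l + 2)) :
    (𝓔.coinduced p).pieceX j = imageSubobject ((𝓔.pieceX j).arrow ≫ p) := by
  refine Fin.lastCases ?_ (fun j => ?_) j
  · rw [𝓔.pieceX_last]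
    exact (𝓔.coinduced p).pieceX_last
  · rw [𝓔.pieceX_castSucc]
    exact (𝓔.coinduced p).pieceX_castSucc j

end ParSum

section Sheaf

variable (k : Type u) [Field k] (X : Scheme.{u}) [X.Over (Spec (CommRingCat.of k))]
  [IsProper (X ↘ Spec (CommRingCat.of k))]

include k in
theorem isLocallyNoetherian : IsLocallyNoetherian X :=
  LocallyOfFiniteType.isLocallyNoetherian (X ↘ Spec (CommRingCat.of k))

/-- `G ↦ χ(G ⊗ L^m)`. -/
noncomputable def chiTw (L : X.Modules) (m : ℕ) (G : X.Modules) : ℤ :=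
  Curv2.euler k X (ShStab.twist X L G m)

variable {X} {L : X.Modules} (hL : PicF.IsInvertible L) (m : ℕ)

include hL

theorem chiTw_additive (S : ShortComplex X.Modules) (hS : S.ShortExact)
    (h₁ : Coh.IsCoh S.X₁) (h₂ : Coh.IsCoh S.X₂) (h₃ : Coh.IsCoh S.X₃) :
    chiTw k X L m S.X₂ = chiTw k X L m S.X₁ + chiTw k X L m S.X₃ := by
  have hLm := TensH8.isInvertible_tensorPow hL m
  obtain ⟨K', -, hK'⟩ := Groth.Agent.InvTensP.exists_inverse _ hLm
  have hT := Groth.Agent.TensInv.shortExact_tR hK' S hS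
  have hc := ProperFinH9.isCoh_of_isInvertible hLm
  exact EulerField.euler_additive k X (S.map (Groth.Agent.TensInv.tR (CohB1.tensorPow L m))) hT
    (RelAmpleVanH9.isCoh_tensorMod h₁ hc) (RelAmpleVanH9.isCoh_tensorMod h₂ hc)
    (RelAmpleVanH9.isCoh_tensorMod h₃ hc)

theorem chiTw_of_isZero {Z : X.Modules} (hZ : IsZero Z) : chiTw k X L m Z = 0 := by
  haveI := isLocallyNoetherian k X
  have hc := CohDevH8.isCoh_of_isZero hZ
  have hex : (ShortComplex.mk (𝟙 Z) (0 : Z ⟶ Z) (by simp)).Exact := by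
    rw [ShortComplex.exact_iff_epi _ rfl]
    change Epi (𝟙 Z)
    infer_instance
  haveI : Epi (0 : Z ⟶ Z) := ⟨fun _ _ _ => hZ.eq_of_src _ _⟩
  have hS : (ShortComplex.mk (𝟙 Z) (0 : Z ⟶ Z) (by simp)).ShortExact :=
    ShortComplex.ShortExact.mk' hex (by change Mono (𝟙 Z); infer_instance)
      (by change Epi (0 : Z ⟶ Z); infer_instance)
  have h := chiTw_additive k hL m _ hS hc hc hc
  have h' : chiTw k X L m Z = chiTw k X L m Z + chiTw k X L m Z := h
  omega

theorem chi_sub {F E G : X.Modules} (i : F ⟶ E) (p : E ⟶ G) (w : i ≫ p = 0)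
    (hS : (ShortComplex.mk i p w).ShortExact) (hG : Coh.IsCoh G) (P : Subobject E)
    (hP : Coh.IsCoh (P : X.Modules)) :
    chiTw k X L m ((Subobject.pullback i).obj P : X.Modules) +
      chiTw k X L m (imageSubobject (P.arrow ≫ p) : X.Modules) =
      chiTw k X L m (P : X.Modules) := by
  haveI := isLocallyNoetherian k X
  have hT := subSES_shortExact i p w hS P
  have hI : Coh.IsCoh (imageSubobject (P.arrow ≫ p) : X.Modules) :=
    CohDevH8.isCoh_of_iso
      (imageSubobjectIso (P.arrow ≫ p) ≪≫ (Abelian.imageIsoImage (P.arrow ≫ p)).symm)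
      (CohKerH8.isCoh_kernel hG (CohKerH8.isCoh_cokernel hP hG (P.arrow ≫ p))
        (cokernel.π (P.arrow ≫ p)))
  have hP' : Coh.IsCoh ((Subobject.pullback i).obj P : X.Modules) :=
    CohDevH8.isCoh_of_iso
      (IsLimit.conePointUniqueUpToIso hT.fIsKernel (kernelIsKernel (subSES i p w P).g))
      (CohKerH8.isCoh_kernel hP hI (subSES i p w P).g)
  exact (chiTw_additive k hL m (subSES i p w P) hT hP' hP hI).symm

omit hL

theorem main18524 (L : X.Modules) (hL : CohB1.IsAmple L) {F E G : X.Modules}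
    (hG : Coh.IsCoh G)
    (i : F ⟶ E) (p : E ⟶ G) [Epi p] (𝓕 : ParSh.Str F) (𝓔 : ParSh.Str E) (𝓖 : ParSh.Str G)
    (hext : ParSh.IsParExt i p 𝓕 𝓔 𝓖)
    (hcoh : ∀ j, Coh.IsCoh ((𝓔.piece j : Subobject E) : X.Modules))
    (hbot : Coh.IsCoh ((𝓔.bot : Subobject E) : X.Modules)) (m : ℕ) :
    𝓕.parHilb k X L m + 𝓖.parHilb k X L m = 𝓔.parHilb k X L m := by
  obtain ⟨w, hS, rfl, rfl⟩ := hext
  have hcohX : ∀ j : Fin (𝓔.l + 2), Coh.IsCoh ((𝓔.pieceX j : Subobject E) : X.Modules) := by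
    intro j
    refine Fin.lastCases ?_ (fun j => ?_) j
    · rw [𝓔.pieceX_last]
      exact hbot
    · rw [𝓔.pieceX_castSucc]
      exact hcoh j
  unfold ParSh.Str.parHilb
  rw [parSum_eq, parSum_eq, parSum_eq]
  refine sum_aux 𝓔.l 𝓔.wt
    (fun j => (Curv2.euler k X (ShStab.twist X L ((𝓔.induced i).pieceX j : X.Modules) m) : ℝ))
    (fun j => (Curv2.euler k X (ShStab.twist X L ((𝓔.coinduced p).pieceX j : X.Modules) m) : ℝ))
    (fun j => (Curv2.euler k X (ShStab.twist X L (𝓔.pieceX j : X.Modules) m) : ℝ))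
    (fun j => ?_)
  have h := chi_sub k hL.1 m i p w hS hG (𝓔.pieceX j) (hcohX j)
  rw [← induced_pieceX, ← coinduced_pieceX] at h
  unfold chiTw at h
  exact_mod_cast h

theorem main18526 (L : X.Modules) (hL : CohB1.IsAmple L) (E : X.Modules) (hE : Coh.IsCoh E)
    (𝓔 : ParSh.Str E)
    (hcoh : ∀ j, Coh.IsCoh ((𝓔.pieceX j : Subobject E) : X.Modules))
    (P : Polynomial ℚ) (hP : ShStab.IsHilbPoly k X L E P) (H : Fin (𝓔.l + 2) → Polynomial ℚ)
    (hH : ∀ j, ShStab.IsHilbPoly k X L (cokernel (𝓔.pieceX j).arrow) (H j)) (m : ℕ) :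
    𝓔.parHilb k X L m =
      ((P.eval (m : ℚ) : ℚ) : ℝ) -
        ∑ j : Fin (𝓔.l + 1), (𝓔.wtX j.succ - 𝓔.wtX j.castSucc) *
          (((H j.succ).eval (m : ℚ) : ℚ) : ℝ) := by
  haveI := isLocallyNoetherian k X
  have hc : ∀ j : Fin (𝓔.l + 2),
      (Curv2.euler k X (ShStab.twist X L (𝓔.pieceX j : X.Modules) m) : ℝ) =
        ((P.eval (m : ℚ) : ℚ) : ℝ) - (((H j).eval (m : ℚ) : ℚ) : ℝ) := by
    intro j
    have hS : (ShortComplex.mk (𝓔.pieceX j).arrow (cokernel.π (𝓔.pieceX j).arrow)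
        (cokernel.condition _)).ShortExact := { exact := ShortComplex.exact_cokernel _ }
    have h := chiTw_additive k hL.1 m _ hS (hcoh j) hE
      (CohKerH8.isCoh_cokernel (hcoh j) hE _)
    have h' : Curv2.euler k X (ShStab.twist X L E m) =
        Curv2.euler k X (ShStab.twist X L (𝓔.pieceX j : X.Modules) m) +
          Curv2.euler k X (ShStab.twist X L (cokernel (𝓔.pieceX j).arrow) m) := h
    have h1 : ((Curv2.euler k X (ShStab.twist X L E m) : ℤ) : ℝ) = ((P.eval (m : ℚ) : ℚ) : ℝ) := by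
      rw [← hP m]
      exact (Rat.cast_intCast _).symm
    have h2 : ((Curv2.euler k X (ShStab.twist X L (cokernel (𝓔.pieceX j).arrow) m) : ℤ) : ℝ) =
        (((H j).eval (m : ℚ) : ℚ) : ℝ) := by
      rw [← hH j m]
      exact (Rat.cast_intCast _).symm
    have h3 : ((Curv2.euler k X (ShStab.twist X L E m) : ℤ) : ℝ) =
        ((Curv2.euler k X (ShStab.twist X L (𝓔.pieceX j : X.Modules) m) : ℤ) : ℝ) +
          ((Curv2.euler k X (ShStab.twist X L (cokernel (𝓔.pieceX j).arrow) m) : ℤ) : ℝ) := by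
      exact_mod_cast h'
    linarith
  have h0 : (((H 0).eval (m : ℚ) : ℚ) : ℝ) = 0 := by
    have e0 : 𝓔.pieceX 0 = ⊤ := by
      have := 𝓔.pieceX_castSucc 0
      rw [Fin.castSucc_zero] at this
      rw [this, 𝓔.piece_zero]
    haveI : IsIso (𝓔.pieceX 0).arrow := (Subobject.isIso_arrow_iff_eq_top _).2 e0
    have hz : IsZero (cokernel (𝓔.pieceX 0).arrow) := isZero_cokernel_of_epi _
    have h2 := hH 0 m
    have h3 : Curv2.euler k X (ShStab.twist X L (cokernel (𝓔.pieceX 0).arrow) m) = 0 :=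
      chiTw_of_isZero k hL.1 m hz
    rw [h3] at h2
    rw [← h2]
    simp
  unfold ParSh.Str.parHilb
  rw [parSum_eq]
  simp only [hc]
  have e : ∀ j, 𝓔.wt j = 𝓔.wtX j.castSucc := fun j => (𝓔.wtX_castSucc j).symm
  simp only [e]
  exact abel_aux 𝓔.l 𝓔.wtX (fun j => (((H j).eval (m : ℚ) : ℚ) : ℝ)) _ h0 𝓔.wtX_last

end Sheaf

end Groth.Agent.Lib.ParHilbH7
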