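import Mathlib
import Groth.Prelude
import Groth.Agent.Lib.ShStabAx_helper6
import Groth.Agent.Lib.ParHilb_helper7
import Groth.Agent.Lib.KoszTw1_helper7
import Groth.Agent.Lib.QCohExact_helper9
import Groth.Agent.Lib.EpiLoc_helper9

/-!
# Parabolic sheaves: the quotient `E / I·E` is supported on `Supp E ∩ V(I)` (helper6)

`support_cokernel_twistSub`: the support of the cokernel of `I·E ⟶ E`.
APPEND-ONLY once landed.
-/

set_option autoImplicit false
set_option linter.all false
set_option maxHeartbeats 1600000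

universe u
open CategoryTheory CategoryTheory.Limits AlgebraicGeometry TopologicalSpace Opposite
open QcqsLoc QCohExtn

namespace Groth.Agent.Lib.ParShH6

open Groth.Agent.Lib.KoszTwH7

variable {X : Scheme.{u}}

/-- over an open set missing the support of `I`, the unit lifts to the ideal sheaf. -/
theorem exists_idealMod_one (I : X.IdealSheafData) (U : X.Opens)
    (hU : ∀ x ∈ U, x ∉ (I.support : Set X)) :
    ∃ a : Γ(ClSub.idealMod I, U), ap (ClSub.idealModι I) U a = FLFH8.toM (1 : Γ(X, U)) := by
  let T : ShortComplex X.Modules :=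
    ShortComplex.mk (ClSub.idealModι I) (ClSub.toSubscheme I) (kernel.condition _)
  have hT : T.Exact := ShortComplex.exact_kernel _
  haveI : Mono T.f := by
    show Mono (kernel.ι (ClSub.toSubscheme I))
    exact equalizer.ι_mono
  refine QCohExact.app_exact T hT U (FLFH8.toM (1 : Γ(X, U))) ?_
  -- the target is a module of sections over the empty set
  have hempty : ∀ z, z ∉ (I.subschemeι ⁻¹ᵁ U) := by
    intro z hz
    exact hU _ hz (by rw [← I.range_subschemeι]; exact ⟨z, rfl⟩)
  exact eq_zero_of_cover (F := Coh.structureModule I.subscheme) (U := I.subschemeι ⁻¹ᵁ U) _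
    (fun z hz => absurd hz (hempty z))


/-- sections of `E` over an open set missing the support of `I` lie in `I·E`. -/
theorem exists_twistMap_eq (I : X.IdealSheafData) (E : X.Modules) (U : X.Opens)
    (hU : ∀ x ∈ U, x ∉ (I.support : Set X)) (e : Γ(E, U)) :
    ∃ t : Γ(CohB1.tensorMod E (ClSub.idealMod I), U), ap (ParSh.twistMap I E) U t = e := by
  obtain ⟨a, ha⟩ := exists_idealMod_one I U hU
  refine ⟨tmulR E (ClSub.idealMod I) U a e, ?_⟩
  have h1 := ap_tensorMap_tmulR (𝟙 E) (ClSub.idealModι I) U a e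
  have h2 : ap (ParSh.twistMap I E) U (tmulR E (ClSub.idealMod I) U a e) =
      ap (SecTwist.unitorR E).hom U
        (ap (KoszTw.tensorMap (𝟙 E) (ClSub.idealModι I)) U (tmulR E (ClSub.idealMod I) U a e)) :=
    rfl
  rw [h2, h1, ha]
  have h3 : ap (𝟙 E) U e = e := rfl
  rw [h3]
  have h4 := SecTwist.unitorR_tmul E U e (1 : X.ringCatSheaf.obj.obj (op U))
  have h5 : ∀ e' : E.val.obj (op U), (1 : X.ringCatSheaf.obj.obj (op U)) • e' = e' :=
    fun e' => one_smul _ e'
  exact h4.trans (h5 e)

theorem comp_cokernel_imageSubobject {A B : X.Modules} (f : A ⟶ B) :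
    f ≫ cokernel.π (imageSubobject f).arrow = 0 := by
  have : factorThruImageSubobject f ≫ (imageSubobject f).arrow = f := imageSubobject_arrow_comp _
  calc f ≫ cokernel.π (imageSubobject f).arrow
      = (factorThruImageSubobject f ≫ (imageSubobject f).arrow) ≫
          cokernel.π (imageSubobject f).arrow := by rw [this]
    _ = 0 := by rw [Category.assoc, cokernel.condition, comp_zero]

/-- the cokernel of `I·E ⟶ E` vanishes over an open set missing the support of `I`. -/
theorem cokernel_twistSub_app_eq_zero (I : X.IdealSheafData) (E : X.Modules) (U : X.Opens)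
    (hU : ∀ x ∈ U, x ∉ (I.support : Set X)) (e : Γ(E, U)) :
    ap (cokernel.π (ParSh.twistSub I E).arrow) U e = 0 := by
  obtain ⟨t, ht⟩ := exists_twistMap_eq I E U hU e
  have h1 : ParSh.twistMap I E ≫ cokernel.π (ParSh.twistSub I E).arrow = 0 :=
    comp_cokernel_imageSubobject (ParSh.twistMap I E)
  rw [← ht]
  have h2 : ap (cokernel.π (ParSh.twistSub I E).arrow) U (ap (ParSh.twistMap I E) U t) =
      ap (ParSh.twistMap I E ≫ cokernel.π (ParSh.twistSub I E).arrow) U t := rfl
  rw [h2, h1]
  rfl

/-- the support of a quotient lies in the support (no quasi-coherence needed). -/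
theorem support_subset_of_epi' {F B : X.Modules} (p : F ⟶ B) [Epi p] :
    CohB1.support B ⊆ CohB1.support F := by
  intro x hx hF
  apply hx
  refine ⟨fun s s' => ?_⟩
  suffices h : ∀ s : B.presheaf.stalk x, s = 0 by rw [h s, h s']
  intro s
  obtain ⟨U, hxU, t, rfl⟩ := TopCat.Presheaf.exists_germ_eq B.presheaf s
  obtain ⟨V, hV, hxV, e, he⟩ := EpiLoc.exists_local_lift p t hxU
  obtain ⟨W, hxW, j, hW⟩ := SupportCoh.exists_res_eq_zero F hxV e (@Subsingleton.elim _ hF _ _)
  have h1 : B.presheaf.map j.op (B.presheaf.map (homOfLE hV).op t) = 0 := by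
    rw [← he, ← QCohCrit.app_naturality, hW, map_zero]
  have h3 := SupportCoh.germ_eq_zero_of_res B hxW j _ h1
  rw [TopCat.Presheaf.germ_res_apply] at h3
  exact h3

/-- the support of `E / I·E` lies in `Supp E ∩ V(I)`. -/
theorem support_cokernel_twistSub (I : X.IdealSheafData) (E : X.Modules) :
    CohB1.support (cokernel (ParSh.twistSub I E).arrow) ⊆
      CohB1.support E ∩ (I.support : Set X) := by
  intro x hx
  refine ⟨support_subset_of_epi' (cokernel.π (ParSh.twistSub I E).arrow) hx, ?_⟩
  by_contra hxI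
  apply hx
  refine ⟨fun s s' => ?_⟩
  suffices h : ∀ s : (cokernel (ParSh.twistSub I E).arrow).presheaf.stalk x, s = 0 by
    rw [h s, h s']
  intro s
  obtain ⟨U, hxU, t, rfl⟩ := TopCat.Presheaf.exists_germ_eq
    (cokernel (ParSh.twistSub I E).arrow).presheaf s
  obtain ⟨V, hV, hxV, e, he⟩ :=
    EpiLoc.exists_local_lift (cokernel.π (ParSh.twistSub I E).arrow) t hxU
  -- shrink to miss the support of `I`
  let W₀ : X.Opens := ⟨(I.support : Set X)ᶜ, I.support.isClosed.isOpen_compl⟩
  let W : X.Opens := V ⊓ W₀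
  have hWV : W ≤ V := inf_le_left
  have hxW : x ∈ W := ⟨hxV, hxI⟩
  have hW : ∀ z ∈ W, z ∉ (I.support : Set X) := fun z hz => hz.2
  have h0 := cokernel_twistSub_app_eq_zero I E W hW (rF E hWV e)
  rw [ap_rF] at h0
  have he' : ap (cokernel.π (ParSh.twistSub I E).arrow) V e =
      rF (cokernel (ParSh.twistSub I E).arrow) hV t := he
  rw [he', rF_rF] at h0
  have h3 := SupportCoh.germ_eq_zero_of_res (cokernel (ParSh.twistSub I E).arrow) hxW
    (homOfLE (hWV.trans hV)) t h0
  exact h3

end Groth.Agent.Lib.ParShH6
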