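import Mathlib
import Groth.Prelude
import Groth.Agent.Lib.ParSh1_helper6

/-!
# Parabolic sheaves: quotients by the pieces have small support; Hilbert polynomial data (helper6)

`Small d G`: the support of `G` has dimension `< d`.  `small_cokernel_pieceX`,
`small_cokernel_induced_pieceX`; `coeff_eq_zero_of_small`, `coeff_nonneg_of_small`;
`hilb_sub`: `P_E = P_S + P_{E/S}`.
APPEND-ONLY once landed.
-/

set_option autoImplicit false
set_option linter.all false
set_option maxHeartbeats 1600000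

universe u v
open CategoryTheory CategoryTheory.Limits AlgebraicGeometry TopologicalSpace Opposite
open Polynomial StabCat

namespace Groth.Agent.Lib.ParShH6

section Abelian

variable {C : Type u} [Category.{v} C] [Abelian C]

/-- if `k` has the lifting property of a kernel of `f`, the induced map `coker k ⟶ Q` is mono. -/
theorem mono_cokernel_desc_of_kernel {K W Q : C} (k : K ⟶ W) (f : W ⟶ Q) (w : k ≫ f = 0)
    (hk : ∀ {T : C} (t : T ⟶ W), t ≫ f = 0 → ∃ l : T ⟶ K, l ≫ k = t) :
    Mono (cokernel.desc k f w) := by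
  refine Preadditive.mono_of_cancel_zero _ (fun {Z} x hx => ?_)
  haveI : Epi (pullback.fst x (cokernel.π k)) := Abelian.epi_pullback_of_epi_g x (cokernel.π k)
  have hc : pullback.fst x (cokernel.π k) ≫ x = pullback.snd x (cokernel.π k) ≫ cokernel.π k :=
    pullback.condition
  have h1 : pullback.snd x (cokernel.π k) ≫ f = 0 := by
    have : pullback.snd x (cokernel.π k) ≫ f =
        (pullback.snd x (cokernel.π k) ≫ cokernel.π k) ≫ cokernel.desc k f w := by
      rw [Category.assoc, cokernel.π_desc]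
    rw [this, ← hc, Category.assoc, hx, Limits.comp_zero]
  obtain ⟨l, hl⟩ := hk _ h1
  have h2 : pullback.fst x (cokernel.π k) ≫ x = 0 := by
    rw [hc, ← hl, Category.assoc, cokernel.condition, Limits.comp_zero]
  exact (cancel_epi (pullback.fst x (cokernel.π k))).mp (h2.trans Limits.comp_zero.symm)

variable {W E : C} (ι : W ⟶ E) (S : Subobject E)

theorem pullback_arrow_comp_cokernel :
    ((Subobject.pullback ι).obj S).arrow ≫ ι ≫ cokernel.π S.arrow = 0 := by
  rw [← Category.assoc, ← (Subobject.isPullback ι S).w, Category.assoc, cokernel.condition,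
    Limits.comp_zero]

/-- `W / ι⁻¹S ⟶ E / S`. -/
noncomputable def quotMap : cokernel ((Subobject.pullback ι).obj S).arrow ⟶ cokernel S.arrow :=
  cokernel.desc _ (ι ≫ cokernel.π S.arrow) (pullback_arrow_comp_cokernel ι S)

instance mono_quotMap : Mono (quotMap ι S) := by
  apply mono_cokernel_desc_of_kernel
  intro T t ht
  have h1 : (t ≫ ι) ≫ cokernel.π S.arrow = 0 := by rw [Category.assoc]; exact ht
  obtain ⟨l, hl⟩ := Groth.Agent.Lib.AbFilt.exists_lift_of_comp_cokernel S.arrow (t ≫ ι) h1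
  have sq := Subobject.isPullback ι S
  exact ⟨sq.lift l t hl, sq.lift_snd _ _ _⟩

/-- `ι⁻¹S` is the kernel of `W ⟶ E ⟶ E / S`. -/
noncomputable def pullbackIsKernel :
    IsLimit (KernelFork.ofι ((Subobject.pullback ι).obj S).arrow
      (pullback_arrow_comp_cokernel ι S)) :=
  KernelFork.IsLimit.ofι' _ _ (fun {T} t ht => by
    have h1 : (t ≫ ι) ≫ cokernel.π S.arrow = 0 := by rw [Category.assoc]; exact ht
    have hl := Groth.Agent.Lib.AbFilt.exists_lift_of_comp_cokernel S.arrow (t ≫ ι) h1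
    have sq := Subobject.isPullback ι S
    exact ⟨sq.lift hl.choose t hl.choose_spec, sq.lift_snd _ _ _⟩)

/-- `ι⁻¹S ≅ ker (W ⟶ E / S)`. -/
noncomputable def pullbackIsoKernel :
    ((Subobject.pullback ι).obj S : C) ≅ kernel (ι ≫ cokernel.π S.arrow) := by
  have e := IsLimit.conePointUniqueUpToIso (pullbackIsKernel ι S)
    (kernelIsKernel (ι ≫ cokernel.π S.arrow))
  exact e

/-- `E / S ⟶ E / T` for `S ≤ T`. -/
noncomputable def quotLE {S T : Subobject E} (h : S ≤ T) : cokernel S.arrow ⟶ cokernel T.arrow :=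
  cokernel.desc _ (cokernel.π T.arrow) (by
    rw [← Subobject.ofLE_arrow h, Category.assoc, cokernel.condition, Limits.comp_zero])

instance epi_quotLE {S T : Subobject E} (h : S ≤ T) : Epi (quotLE h) := by
  have : cokernel.π S.arrow ≫ quotLE h = cokernel.π T.arrow := cokernel.π_desc _ _ _
  exact epi_of_epi_fac this

end Abelian

section Small

variable {X : Scheme.{u}}

/-- the support has dimension `< d`. -/
def Small (d : ℕ) (G : X.Modules) : Prop :=
  topologicalKrullDim (CohB1.support G) < (d : WithBot ℕ∞)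

theorem small_of_mono {d : ℕ} {F G : X.Modules} (ι : F ⟶ G) [Mono ι] (h : Small d G) :
    Small d F :=
  lt_of_le_of_lt
    (Topology.IsEmbedding.inclusion
      (CohDevH8.support_subset_of_mono ι)).isInducing.topologicalKrullDim_le h

theorem small_of_epi {d : ℕ} {F G : X.Modules} (π : F ⟶ G) [Epi π] (h : Small d F) :
    Small d G :=
  lt_of_le_of_lt
    (Topology.IsEmbedding.inclusion (support_subset_of_epi' π)).isInducing.topologicalKrullDim_le h

theorem small_cokernel_twistSub {d : ℕ} (I : X.IdealSheafData) (E : X.Modules)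
    (hsupp : topologicalKrullDim ↥(CohB1.support E ∩ (I.support : Set X)) < (d : WithBot ℕ∞)) :
    Small d (cokernel (ParSh.twistSub I E).arrow) :=
  lt_of_le_of_lt
    (Topology.IsEmbedding.inclusion
      (support_cokernel_twistSub I E)).isInducing.topologicalKrullDim_le hsupp

/-- the quotients by the pieces have small support. -/
theorem small_cokernel_pieceX {d : ℕ} (I : X.IdealSheafData) {E : X.Modules} (𝓔 : ParSh.Str E)
    (h𝓔 : 𝓔.Along I)
    (hsupp : topologicalKrullDim ↥(CohB1.support E ∩ (I.support : Set X)) < (d : WithBot ℕ∞))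
    (j : Fin (𝓔.l + 2)) : Small d (cokernel (𝓔.pieceX j).arrow) := by
  have h1 : Small d (cokernel 𝓔.bot.arrow) := by
    rw [h𝓔]; exact small_cokernel_twistSub I E hsupp
  exact small_of_epi (quotLE (𝓔.bot_le_pieceX j)) h1

/-- the quotients by the pieces of an induced structure have small support. -/
theorem small_cokernel_induced_pieceX {d : ℕ} (I : X.IdealSheafData) {E : X.Modules}
    (𝓔 : ParSh.Str E) (h𝓔 : 𝓔.Along I)
    (hsupp : topologicalKrullDim ↥(CohB1.support E ∩ (I.support : Set X)) < (d : WithBot ℕ∞))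
    {W : X.Modules} (ι : W ⟶ E) (j : Fin (𝓔.l + 2)) :
    Small d (cokernel ((𝓔.induced ι).pieceX j).arrow) := by
  rw [Groth.Agent.Lib.ParHilbH7.induced_pieceX]
  exact small_of_mono (quotMap ι (𝓔.pieceX j)) (small_cokernel_pieceX I 𝓔 h𝓔 hsupp j)

end Small


section Coh

variable {X : Scheme.{u}} [IsLocallyNoetherian X]

theorem isCoh_pullback {W E : X.Modules} (ι : W ⟶ E) (S : Subobject E) (hW : Coh.IsCoh W)
    (hE : Coh.IsCoh E) (hS : Coh.IsCoh (S : X.Modules)) :
    Coh.IsCoh ((Subobject.pullback ι).obj S : X.Modules) :=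
  CohDevH8.isCoh_of_iso (pullbackIsoKernel ι S)
    (CohKerH8.isCoh_kernel hW (CohKerH8.isCoh_cokernel hS hE S.arrow) _)

theorem isCoh_induced_pieceX {W E : X.Modules} (ι : W ⟶ E) (𝓔 : ParSh.Str E) (hW : Coh.IsCoh W)
    (hE : Coh.IsCoh E) (hcoh : ∀ j, Coh.IsCoh ((𝓔.pieceX j : Subobject E) : X.Modules))
    (j : Fin (𝓔.l + 2)) : Coh.IsCoh (((𝓔.induced ι).pieceX j : Subobject W) : X.Modules) := by
  rw [Groth.Agent.Lib.ParHilbH7.induced_pieceX]
  exact isCoh_pullback ι _ hW hE (hcoh j)

end Coh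

section Hilb

open Groth.Agent.Lib.HilbCalc Groth.Agent.Lib.HilbCalc2 Groth.Agent.Lib.ShStabH6

variable (k : Type u) [Field k] {X : Scheme.{u}} [X.Over (Spec (CommRingCat.of k))]
  [IsProper (X ↘ Spec (CommRingCat.of k))] {L : X.Modules} (hL : CohB1.IsAmple L)

include hL

theorem coeff_eq_zero_of_small {d : ℕ} {G : X.Modules} (hG : Coh.IsCoh G) (hs : Small d G)
    {H : ℚ[X]} (hH : ShStab.IsHilbPoly k X L G H) (n : ℕ) (hn : d ≤ n) : H.coeff n = 0 := by
  by_cases hz : IsZero G
  · rw [eq_zero_of_isZero k hL.1 hG hz hH, coeff_zero]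
  · obtain ⟨r, hr⟩ := exists_dim_support k hz
    have hlt : (r : WithBot ℕ∞) < d := by rw [← hr]; exact hs
    have hrd : r < d := by exact_mod_cast hlt
    have := natDegree_le k hL.1 hG r hr.le hH
    exact coeff_eq_zero_of_natDegree_lt (by omega)

include k in
theorem dimLE_of_small {d : ℕ} (hd : 1 ≤ d) {G : X.Modules} (hG : Coh.IsCoh G)
    (hs : Small d G) : DimLE X (d - 1) G := by
  unfold DimLE
  by_cases hz : IsZero G
  · rw [support_eq_empty_of_isZero hz]
    haveI : IsEmpty (∅ : Set X) := Set.isEmpty_coe_sort.mpr rfl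
    rw [topDim_eq_bot_of_isEmpty]
    exact bot_le
  · obtain ⟨r, hr⟩ := exists_dim_support k hz
    have hlt : (r : WithBot ℕ∞) < d := by rw [← hr]; exact hs
    have hrd : r < d := by exact_mod_cast hlt
    rw [hr]
    have : r ≤ d - 1 := by omega
    exact_mod_cast this

theorem coeff_nonneg_of_small {d : ℕ} (hd : 1 ≤ d) {G : X.Modules} (hG : Coh.IsCoh G)
    (hs : Small d G) {H : ℚ[X]} (hH : ShStab.IsHilbPoly k X L G H) : 0 ≤ H.coeff (d - 1) := by
  obtain ⟨h1, -⟩ := alpha_data k hL (d - 1) hG (dimLE_of_small k hL hd hG hs) hH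
  unfold alpha at h1
  have hf : (0 : ℚ) < ((d - 1).factorial : ℚ) := by exact_mod_cast Nat.factorial_pos _
  exact nonneg_of_mul_nonneg_right h1 hf

/-- `P_E = P_S + P_{E/S}`. -/
theorem hilb_sub {E : X.Modules} (hE : Coh.IsCoh E) (S : Subobject E)
    (hS : Coh.IsCoh (S : X.Modules)) {P PS HS : ℚ[X]} (hP : ShStab.IsHilbPoly k X L E P)
    (hPS : ShStab.IsHilbPoly k X L (S : X.Modules) PS)
    (hHS : ShStab.IsHilbPoly k X L (cokernel S.arrow) HS) : P = PS + HS := by
  haveI : IsLocallyNoetherian X :=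
    LocallyOfFiniteType.isLocallyNoetherian (X ↘ Spec (CommRingCat.of k))
  have hT : (ShortComplex.mk S.arrow (cokernel.π S.arrow) (cokernel.condition _)).ShortExact :=
    { exact := ShortComplex.exact_cokernel _ }
  exact isHilbPoly_unique k hP
    (isHilbPoly_add k hL.1 _ hT hS hE (CohKerH8.isCoh_cokernel hS hE _) hPS hHS)

/-- the Hilbert polynomial of `E / ⊤` vanishes. -/
theorem hilb_cokernel_top {E : X.Modules} (hE : Coh.IsCoh E) (S : Subobject E) (hS : S = ⊤)
    {HS : ℚ[X]} (hHS : ShStab.IsHilbPoly k X L (cokernel S.arrow) HS) : HS = 0 := by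
  haveI : IsLocallyNoetherian X :=
    LocallyOfFiniteType.isLocallyNoetherian (X ↘ Spec (CommRingCat.of k))
  haveI : IsIso S.arrow := (Subobject.isIso_arrow_iff_eq_top _).2 hS
  have hz : IsZero (cokernel S.arrow) := isZero_cokernel_of_epi _
  exact eq_zero_of_isZero k hL.1 (CohDevH8.isCoh_of_isZero hz) hz hHS

/-- for `S ≤ T` coherent, `P_{E/S} = P_{ker} + P_{E/T}` with `ker ⊆ E/S`. -/
theorem hilb_quotLE {E : X.Modules} (hE : Coh.IsCoh E) {S T : Subobject E} (h : S ≤ T)
    (hS : Coh.IsCoh (S : X.Modules)) (hT : Coh.IsCoh (T : X.Modules)) {HS HT : ℚ[X]}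
    (hHS : ShStab.IsHilbPoly k X L (cokernel S.arrow) HS)
    (hHT : ShStab.IsHilbPoly k X L (cokernel T.arrow) HT) :
    ∃ HK : ℚ[X], ShStab.IsHilbPoly k X L (kernel (quotLE h)) HK ∧ HS = HK + HT ∧
      Coh.IsCoh (kernel (quotLE h)) := by
  haveI : IsLocallyNoetherian X :=
    LocallyOfFiniteType.isLocallyNoetherian (X ↘ Spec (CommRingCat.of k))
  have hcS := CohKerH8.isCoh_cokernel hS hE S.arrow
  have hcT := CohKerH8.isCoh_cokernel hT hE T.arrow
  have hcK := CohKerH8.isCoh_kernel hcS hcT (quotLE h)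
  obtain ⟨HK, hHK⟩ := exists_hilbPoly k hL.1 _ hcK
  have hU : (ShortComplex.mk (kernel.ι (quotLE h)) (quotLE h) (kernel.condition _)).ShortExact :=
    { exact := ShortComplex.exact_kernel _ }
  exact ⟨HK, hHK, isHilbPoly_unique k hHS (isHilbPoly_add k hL.1 _ hU hcK hcS hcT hHK hHT), hcK⟩

end Hilb

end Groth.Agent.Lib.ParShH6
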