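import Mathlib
import Groth.Prelude
import Groth.Agent.Lib.ParSh2_helper6

/-!
# Parabolic Hilbert polynomials: Abel summation and coefficient comparisons (helper6)

`parPoly_eq`: `Par = P − Σ (w_{j+1} − w_j) H_{j+1}`; `main18525`, `main18527`.
APPEND-ONLY once landed.
-/

set_option autoImplicit false
set_option linter.all false
set_option maxHeartbeats 1600000

universe u v
open CategoryTheory CategoryTheory.Limits AlgebraicGeometry TopologicalSpace Opposite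
open Polynomial StabCat W4swparbununimod

namespace Groth.Agent.Lib.ParShH6

section Poly

variable {C : Type u} [Category.{v} C] {E : C}

theorem rpoly_sub (P Q : ℚ[X]) : rpoly (P - Q) = rpoly P - rpoly Q := Polynomial.map_sub _

theorem rpoly_add (P Q : ℚ[X]) : rpoly (P + Q) = rpoly P + rpoly Q := Polynomial.map_add _

theorem rpoly_zero : rpoly (0 : ℚ[X]) = 0 := Polynomial.map_zero _

theorem rpoly_coeff (P : ℚ[X]) (n : ℕ) : (rpoly P).coeff n = ((P.coeff n : ℚ) : ℝ) := by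
  show (Polynomial.map (Rat.castHom ℝ) P).coeff n = _
  rw [coeff_map]; rfl

theorem rpoly_eval (P : ℚ[X]) (m : ℕ) : (rpoly P).eval (m : ℝ) = ((P.eval (m : ℚ) : ℚ) : ℝ) := by
  show (Polynomial.map (Rat.castHom ℝ) P).eval (m : ℝ) = _
  have h : (m : ℝ) = (Rat.castHom ℝ) (m : ℚ) := by simp
  rw [h, Polynomial.eval_map_apply]
  rfl

theorem wtX_succ_sub_pos (𝓔 : ParSh.Str E) (j : Fin (𝓔.l + 1)) :
    0 < 𝓔.wtX j.succ - 𝓔.wtX j.castSucc := by
  rw [𝓔.wtX_castSucc, sub_pos]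
  induction j using Fin.lastCases with
  | last =>
    rw [Fin.succ_last, 𝓔.wtX_last]
    exact 𝓔.wt_lt_one
  | cast i =>
    rw [Fin.succ_castSucc, 𝓔.wtX_castSucc]
    exact 𝓔.wt_strictMono (Fin.castSucc_lt_succ)

theorem wt_nonneg' (𝓔 : ParSh.Str E) (j : Fin (𝓔.l + 1)) : 0 ≤ 𝓔.wt j :=
  𝓔.wt_nonneg.trans (𝓔.wt_strictMono.monotone (Fin.zero_le j))

theorem coeff_parPoly (𝓔 : ParSh.Str E) (PX : Fin (𝓔.l + 2) → ℚ[X]) (n : ℕ) :
    (parPoly 𝓔 PX).coeff n = (rpoly (PX (Fin.last (𝓔.l + 1)))).coeff n +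
      ∑ j : Fin (𝓔.l + 1), 𝓔.wt j * ((rpoly (PX j.castSucc)).coeff n -
        (rpoly (PX j.succ)).coeff n) := by
  unfold parPoly
  rw [coeff_add, finset_sum_coeff]
  congr 1
  refine Finset.sum_congr rfl (fun j _ => ?_)
  rw [coeff_C_mul, coeff_sub]

/-- Abel summation for the parabolic polynomial. -/
theorem coeff_parPoly_eq (𝓔 : ParSh.Str E) (PX H : Fin (𝓔.l + 2) → ℚ[X]) (P : ℚ[X])
    (hPX : ∀ j, PX j = P - H j) (h0 : H 0 = 0) (n : ℕ) :
    (parPoly 𝓔 PX).coeff n = (rpoly P).coeff n -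
      ∑ j : Fin (𝓔.l + 1), (𝓔.wtX j.succ - 𝓔.wtX j.castSucc) * (rpoly (H j.succ)).coeff n := by
  rw [coeff_parPoly]
  have e : ∀ j, 𝓔.wt j = 𝓔.wtX j.castSucc := fun j => (𝓔.wtX_castSucc j).symm
  have hc : ∀ j, (rpoly (PX j)).coeff n = (rpoly P).coeff n - (rpoly (H j)).coeff n := by
    intro j
    rw [hPX j, rpoly_sub, coeff_sub]
  simp only [hc, e]
  refine Groth.Agent.Lib.ParHilbH7.abel_aux 𝓔.l 𝓔.wtX (fun j => (rpoly (H j)).coeff n) _ ?_
    𝓔.wtX_last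
  show (rpoly (H 0)).coeff n = 0
  rw [h0, rpoly_zero, coeff_zero]

theorem parPoly_eq (𝓔 : ParSh.Str E) (PX H : Fin (𝓔.l + 2) → ℚ[X]) (P : ℚ[X])
    (hPX : ∀ j, PX j = P - H j) (h0 : H 0 = 0) :
    parPoly 𝓔 PX = rpoly P -
      ∑ j : Fin (𝓔.l + 1), Polynomial.C (𝓔.wtX j.succ - 𝓔.wtX j.castSucc) * rpoly (H j.succ) := by
  ext n
  rw [coeff_parPoly_eq 𝓔 PX H P hPX h0, coeff_sub, finset_sum_coeff]
  congr 1
  refine Finset.sum_congr rfl (fun j _ => ?_)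
  rw [coeff_C_mul]

end Poly


section Main

open Groth.Agent.Lib.HilbCalc Groth.Agent.Lib.HilbCalc2 Groth.Agent.Lib.ShStabH6

variable (k : Type u) [Field k] {X : Scheme.{u}} [X.Over (Spec (CommRingCat.of k))]
  [IsProper (X ↘ Spec (CommRingCat.of k))] {L : X.Modules} (hL : CohB1.IsAmple L)

include hL

/-- the Hilbert polynomials of the quotients by the pieces. -/
theorem piece_data {E : X.Modules} (hE : Coh.IsCoh E) (𝓔 : ParSh.Str E)
    (hcoh : ∀ j, Coh.IsCoh ((𝓔.pieceX j : Subobject E) : X.Modules)) (d : ℕ)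
    (hsmall : ∀ j, Small d (cokernel (𝓔.pieceX j).arrow))
    (P : ℚ[X]) (hP : ShStab.IsHilbPoly k X L E P) (PX : Fin (𝓔.l + 2) → ℚ[X])
    (hPX : ∀ j, ShStab.IsHilbPoly k X L ((𝓔.pieceX j : Subobject E) : X.Modules) (PX j)) :
    ∃ H : Fin (𝓔.l + 2) → ℚ[X],
      (∀ j, ShStab.IsHilbPoly k X L (cokernel (𝓔.pieceX j).arrow) (H j)) ∧
      (∀ j, PX j = P - H j) ∧ H 0 = 0 ∧ (∀ j n, d ≤ n → (H j).coeff n = 0) ∧
      (1 ≤ d → ∀ j, 0 ≤ (H j).coeff (d - 1)) ∧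
      (1 ≤ d → ∀ i j, i ≤ j → (H i).coeff (d - 1) ≤ (H j).coeff (d - 1)) := by
  haveI : IsLocallyNoetherian X :=
    LocallyOfFiniteType.isLocallyNoetherian (X ↘ Spec (CommRingCat.of k))
  have hcq : ∀ j, Coh.IsCoh (cokernel (𝓔.pieceX j).arrow) :=
    fun j => CohKerH8.isCoh_cokernel (hcoh j) hE _
  choose H hH using fun j => exists_hilbPoly k hL.1 _ (hcq j)
  refine ⟨H, hH, ?_, ?_, ?_, ?_, ?_⟩
  · intro j
    rw [hilb_sub k hL hE _ (hcoh j) hP (hPX j) (hH j)]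
    ring
  · have e0 : 𝓔.pieceX 0 = ⊤ := by
      have := 𝓔.pieceX_castSucc 0
      rw [Fin.castSucc_zero] at this
      rw [this, 𝓔.piece_zero]
    exact hilb_cokernel_top k hL hE _ e0 (hH 0)
  · intro j n hn
    exact coeff_eq_zero_of_small k hL (hcq j) (hsmall j) (hH j) n hn
  · intro hd j
    exact coeff_nonneg_of_small k hL hd (hcq j) (hsmall j) (hH j)
  · intro hd i j hij
    have hle : 𝓔.pieceX j ≤ 𝓔.pieceX i := by
      -- the extended pieces decrease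
      induction j using Fin.lastCases with
      | last =>
        rw [𝓔.pieceX_last]; exact 𝓔.bot_le_pieceX i
      | cast j' =>
        induction i using Fin.lastCases with
        | last =>
          exfalso
          have h1 : (Fin.last (𝓔.l + 1)).val ≤ j'.castSucc.val := hij
          simp only [Fin.val_last, Fin.val_castSucc] at h1
          have := j'.isLt
          omega
        | cast i' =>
          rw [𝓔.pieceX_castSucc, 𝓔.pieceX_castSucc]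
          exact 𝓔.piece_anti (by simpa using hij)
    obtain ⟨HK, hHK, heq, hcK⟩ := hilb_quotLE k hL hE hle (hcoh j) (hcoh i) (hH j) (hH i)
    have hsK : Small d (kernel (quotLE hle)) := small_of_mono (kernel.ι _) (hsmall j)
    have h1 := coeff_nonneg_of_small k hL hd hcK hsK hHK
    rw [heq, coeff_add]
    linarith


/-- general form of **S18525** (smallness as a hypothesis). -/
theorem coeff_eq_of_small {E : X.Modules} (hE : Coh.IsCoh E) (𝓔 : ParSh.Str E)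
    (hcoh : ∀ j, Coh.IsCoh ((𝓔.pieceX j : Subobject E) : X.Modules)) (d : ℕ)
    (hsmall : ∀ j, Small d (cokernel (𝓔.pieceX j).arrow))
    (P : ℚ[X]) (hP : ShStab.IsHilbPoly k X L E P) (PX : Fin (𝓔.l + 2) → ℚ[X])
    (hPX : ∀ j, ShStab.IsHilbPoly k X L ((𝓔.pieceX j : Subobject E) : X.Modules) (PX j))
    (n : ℕ) (hn : d ≤ n) :
    (parPoly 𝓔 PX).coeff n = (rpoly P).coeff n := by
  obtain ⟨H, hH, hsub, h0, hvan, -, -⟩ := piece_data k hL hE 𝓔 hcoh d hsmall P hP PX hPX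
  rw [coeff_parPoly_eq 𝓔 PX H P hsub h0 n]
  have h1 : ∀ j : Fin (𝓔.l + 1), (rpoly (H j.succ)).coeff n = 0 := by
    intro j
    rw [rpoly_coeff, hvan _ n hn]
    simp
  simp only [h1, mul_zero, Finset.sum_const_zero, sub_zero]

/-- **S18525**. -/
theorem main18525 (I : X.IdealSheafData) {E : X.Modules} (hE : Coh.IsCoh E) (𝓔 : ParSh.Str E)
    (h𝓔 : 𝓔.Along I)
    (hcoh : ∀ j, Coh.IsCoh ((𝓔.pieceX j : Subobject E) : X.Modules)) (d : ℕ)
    (hsupp : topologicalKrullDim ↥(CohB1.support E ∩ (I.support : Set X)) < (d : WithBot ℕ∞))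
    (P : ℚ[X]) (hP : ShStab.IsHilbPoly k X L E P) (PX : Fin (𝓔.l + 2) → ℚ[X])
    (hPX : ∀ j, ShStab.IsHilbPoly k X L ((𝓔.pieceX j : Subobject E) : X.Modules) (PX j))
    (n : ℕ) (hn : d ≤ n) :
    (parPoly 𝓔 PX).coeff n = (rpoly P).coeff n :=
  coeff_eq_of_small k hL hE 𝓔 hcoh d (small_cokernel_pieceX I 𝓔 h𝓔 hsupp) P hP PX hPX n hn

/-- general form of the bounds of **S18527** (smallness as a hypothesis). -/
theorem coeff_bounds {E : X.Modules} (hE : Coh.IsCoh E) (𝓔 : ParSh.Str E)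
    (hcoh : ∀ j, Coh.IsCoh ((𝓔.pieceX j : Subobject E) : X.Modules)) (d : ℕ) (hd : 1 ≤ d)
    (hsmall : ∀ j, Small d (cokernel (𝓔.pieceX j).arrow))
    (P : ℚ[X]) (hP : ShStab.IsHilbPoly k X L E P) (PX : Fin (𝓔.l + 2) → ℚ[X])
    (hPX : ∀ j, ShStab.IsHilbPoly k X L ((𝓔.pieceX j : Subobject E) : X.Modules) (PX j)) :
    (rpoly (PX (Fin.last (𝓔.l + 1)))).coeff (d - 1) ≤ (parPoly 𝓔 PX).coeff (d - 1) ∧
      (parPoly 𝓔 PX).coeff (d - 1) ≤ (rpoly P).coeff (d - 1) := by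
  obtain ⟨H, hH, hsub, h0, hvan, hnn, hmono⟩ := piece_data k hL hE 𝓔 hcoh d hsmall P hP PX hPX
  constructor
  · rw [coeff_parPoly]
    have : 0 ≤ ∑ j : Fin (𝓔.l + 1), 𝓔.wt j * ((rpoly (PX j.castSucc)).coeff (d - 1) -
        (rpoly (PX j.succ)).coeff (d - 1)) := by
      refine Finset.sum_nonneg (fun j _ => mul_nonneg (wt_nonneg' 𝓔 j) ?_)
      rw [hsub j.castSucc, hsub j.succ, rpoly_sub, rpoly_sub, coeff_sub, coeff_sub, rpoly_coeff,
        rpoly_coeff, rpoly_coeff]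
      have h1 := hmono hd j.castSucc j.succ (Fin.castSucc_lt_succ).le
      have h2 : (((H j.castSucc).coeff (d - 1) : ℚ) : ℝ) ≤ (((H j.succ).coeff (d - 1) : ℚ) : ℝ) := by
        exact_mod_cast h1
      linarith
    linarith
  · rw [coeff_parPoly_eq 𝓔 PX H P hsub h0]
    have : 0 ≤ ∑ j : Fin (𝓔.l + 1), (𝓔.wtX j.succ - 𝓔.wtX j.castSucc) *
        (rpoly (H j.succ)).coeff (d - 1) := by
      refine Finset.sum_nonneg (fun j _ => mul_nonneg (wtX_succ_sub_pos 𝓔 j).le ?_)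
      rw [rpoly_coeff]
      exact_mod_cast hnn hd j.succ
    linarith

/-- **S18527**. -/
theorem main18527 (I : X.IdealSheafData) {E : X.Modules} (hE : Coh.IsCoh E) (𝓔 : ParSh.Str E)
    (h𝓔 : 𝓔.Along I)
    (hcoh : ∀ j, Coh.IsCoh ((𝓔.pieceX j : Subobject E) : X.Modules)) (d : ℕ) (hd : 1 ≤ d)
    (hsupp : topologicalKrullDim ↥(CohB1.support E ∩ (I.support : Set X)) < (d : WithBot ℕ∞))
    (P : ℚ[X]) (hP : ShStab.IsHilbPoly k X L E P) (PX : Fin (𝓔.l + 2) → ℚ[X])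
    (hPX : ∀ j, ShStab.IsHilbPoly k X L ((𝓔.pieceX j : Subobject E) : X.Modules) (PX j)) :
    (rpoly (PX (Fin.last (𝓔.l + 1)))).coeff (d - 1) ≤ (parPoly 𝓔 PX).coeff (d - 1) ∧
      (parPoly 𝓔 PX).coeff (d - 1) ≤ (rpoly P).coeff (d - 1) :=
  coeff_bounds k hL hE 𝓔 hcoh d hd (small_cokernel_pieceX I 𝓔 h𝓔 hsupp) P hP PX hPX

end Main

end Groth.Agent.Lib.ParShH6
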