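import Mathlib
import Groth.Prelude
import Groth.Agent.Lib.ParSh3_helper6

/-!
# Parabolic Hilbert polynomials: reduced polynomials versus slopes; the first modified polynomial
(helper6)

`main18528`, `main18530`.
APPEND-ONLY once landed.
-/

set_option autoImplicit false
set_option linter.all false
set_option maxHeartbeats 1600000

universe u v
open CategoryTheory CategoryTheory.Limits AlgebraicGeometry TopologicalSpace Opposite
open Polynomial StabCat W4swparbununimod Filter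

namespace Groth.Agent.Lib.ParShH6

section RealPoly

theorem real_eventually_pos_of_leadingCoeff_pos {P : ℝ[X]} (h : 0 < P.leadingCoeff) :
    ∃ N : ℕ, ∀ m : ℕ, N ≤ m → 0 < P.eval (m : ℝ) := by
  by_cases hdeg : 0 < P.degree
  · have h1 := Polynomial.tendsto_atTop_of_leadingCoeff_nonneg P hdeg h.le
    have h2 : Tendsto (fun m : ℕ => P.eval (m : ℝ)) atTop atTop :=
      h1.comp tendsto_natCast_atTop_atTop
    have h3 := h2.eventually_gt_atTop 0
    obtain ⟨N, hN⟩ := Filter.eventually_atTop.1 h3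
    exact ⟨N, hN⟩
  · have h1 : P.degree ≤ 0 := not_lt.mp hdeg
    have h2 := eq_C_of_degree_le_zero h1
    refine ⟨0, fun m _ => ?_⟩
    rw [h2, eval_C]
    rw [h2, leadingCoeff_C] at h
    exact h

theorem real_eventually_pos_of_coeff_pos {P : ℝ[X]} {r : ℕ} (hdeg : P.natDegree ≤ r)
    (h : 0 < P.coeff r) : ∃ N : ℕ, ∀ m : ℕ, N ≤ m → 0 < P.eval (m : ℝ) := by
  apply real_eventually_pos_of_leadingCoeff_pos
  have h1 : P.natDegree = r := le_antisymm hdeg (le_natDegree_of_ne_zero h.ne')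
  rw [leadingCoeff, h1]
  exact h

theorem real_eventually_neg_of_coeff_neg {P : ℝ[X]} {r : ℕ} (hdeg : P.natDegree ≤ r)
    (h : P.coeff r < 0) : ∃ N : ℕ, ∀ m : ℕ, N ≤ m → P.eval (m : ℝ) < 0 := by
  have h1 : 0 < (-P).coeff r := by rw [coeff_neg]; linarith
  have h2 : (-P).natDegree ≤ r := by rw [natDegree_neg]; exact hdeg
  obtain ⟨N, hN⟩ := real_eventually_pos_of_coeff_pos h2 h1
  refine ⟨N, fun m hm => ?_⟩
  have := hN m hm
  rw [eval_neg] at this
  linarith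

theorem real_coeff_nonpos_of_eventually_nonpos {P : ℝ[X]} {r : ℕ} (hdeg : P.natDegree ≤ r)
    (h : ∃ N : ℕ, ∀ m : ℕ, N ≤ m → P.eval (m : ℝ) ≤ 0) : P.coeff r ≤ 0 := by
  by_contra hpos
  obtain ⟨N1, hN1⟩ := real_eventually_pos_of_coeff_pos hdeg (not_le.mp hpos)
  obtain ⟨N2, hN2⟩ := h
  have a1 := hN1 (max N1 N2) (le_max_left _ _)
  have a2 := hN2 (max N1 N2) (le_max_right _ _)
  exact absurd a1 (not_lt.mpr a2)

theorem natDegree_le_pred_of_coeff {R : ℝ[X]} {d : ℕ} (hd : 1 ≤ d)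
    (h : ∀ n, d ≤ n → R.coeff n = 0) : R.natDegree ≤ d - 1 := by
  rw [natDegree_le_iff_coeff_eq_zero]
  intro n hn
  exact h n (by omega)

/-- general form of **S18528**. -/
theorem red_vs_slope {A B : ℝ[X]} {a b : ℝ} {e : ℕ}
    (hdeg : (A * Polynomial.C a - B * Polynomial.C b).natDegree ≤ e) :
    ((∃ M : ℕ, ∀ m : ℕ, M ≤ m → A.eval (m : ℝ) * a ≤ B.eval (m : ℝ) * b) →
      A.coeff e * a ≤ B.coeff e * b) ∧
    (A.coeff e * a < B.coeff e * b →
      ∃ M : ℕ, ∀ m : ℕ, M ≤ m → A.eval (m : ℝ) * a < B.eval (m : ℝ) * b) := by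
  have hev : ∀ m : ℕ, (A * Polynomial.C a - B * Polynomial.C b).eval (m : ℝ) =
      A.eval (m : ℝ) * a - B.eval (m : ℝ) * b := by
    intro m
    rw [eval_sub, eval_mul, eval_mul, eval_C, eval_C]
  have hco : (A * Polynomial.C a - B * Polynomial.C b).coeff e = A.coeff e * a - B.coeff e * b := by
    rw [coeff_sub, coeff_mul_C, coeff_mul_C]
  constructor
  · rintro ⟨M, hM⟩
    have h1 := real_coeff_nonpos_of_eventually_nonpos hdeg
      ⟨M, fun m hm => by rw [hev]; linarith [hM m hm]⟩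
    rw [hco] at h1
    linarith
  · intro h
    have h1 : (A * Polynomial.C a - B * Polynomial.C b).coeff e < 0 := by rw [hco]; linarith
    obtain ⟨M, hM⟩ := real_eventually_neg_of_coeff_neg hdeg h1
    refine ⟨M, fun m hm => ?_⟩
    have := hM m hm
    rw [hev] at this
    linarith

end RealPoly


section Main

open Groth.Agent.Lib.HilbCalc Groth.Agent.Lib.HilbCalc2 Groth.Agent.Lib.ShStabH6

variable (k : Type u) [Field k] {X : Scheme.{u}} [X.Over (Spec (CommRingCat.of k))]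
  [IsProper (X ↘ Spec (CommRingCat.of k))] {L : X.Modules} (hL : CohB1.IsAmple L)

include hL

/-- the Hilbert polynomial of a coherent submodule of a module of dimension `≤ d` has
degree `≤ d`. -/
theorem natDegree_le_of_mono {E W : X.Modules} (hE : Coh.IsCoh E) (d : ℕ)
    (hdim : topologicalKrullDim (CohB1.support E) ≤ (d : WithBot ℕ∞))
    (ι : W ⟶ E) [Mono ι] (hW : Coh.IsCoh W) {Q : ℚ[X]} (hQ : ShStab.IsHilbPoly k X L W Q) :
    Q.natDegree ≤ d :=
  natDegree_le k hL.1 hW d ((dim_support_le_of_mono ι).trans hdim) hQ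

/-- the difference of the cross-multiplied parabolic polynomials has degree `< d`. -/
theorem cross_data {E : X.Modules} (hE : Coh.IsCoh E) (d : ℕ) (hd : 1 ≤ d)
    (hdim : topologicalKrullDim (CohB1.support E) ≤ (d : WithBot ℕ∞))
    (𝓔 : ParSh.Str E)
    (hcoh : ∀ j, Coh.IsCoh ((𝓔.pieceX j : Subobject E) : X.Modules))
    (hsmE : ∀ j, Small d (cokernel (𝓔.pieceX j).arrow))
    (P : ℚ[X]) (hP : ShStab.IsHilbPoly k X L E P) (PX : Fin (𝓔.l + 2) → ℚ[X])
    (hPX : ∀ j, ShStab.IsHilbPoly k X L ((𝓔.pieceX j : Subobject E) : X.Modules) (PX j))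
    {W : X.Modules} (ι : W ⟶ E) [Mono ι] (hW : Coh.IsCoh W)
    (hsmW : ∀ j, Small d (cokernel ((𝓔.induced ι).pieceX j).arrow))
    (Q : ℚ[X]) (hQ : ShStab.IsHilbPoly k X L W Q) (QX : Fin (𝓔.l + 2) → ℚ[X])
    (hQX : ∀ j, ShStab.IsHilbPoly k X L (((𝓔.induced ι).pieceX j : Subobject W) : X.Modules)
      (QX j)) :
    (parPoly (𝓔.induced ι) QX * Polynomial.C (alpha d P : ℝ) -
      parPoly 𝓔 PX * Polynomial.C (alpha d Q : ℝ)).natDegree ≤ d - 1 := by
  haveI : IsLocallyNoetherian X :=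
    LocallyOfFiniteType.isLocallyNoetherian (X ↘ Spec (CommRingCat.of k))
  have hcohW := isCoh_induced_pieceX ι 𝓔 hW hE hcoh
  have hA := coeff_eq_of_small k hL hW (𝓔.induced ι) hcohW d hsmW Q hQ QX hQX
  have hB := coeff_eq_of_small k hL hE 𝓔 hcoh d hsmE P hP PX hPX
  have degP : P.natDegree ≤ d := natDegree_le k hL.1 hE d hdim hP
  have degQ : Q.natDegree ≤ d := natDegree_le_of_mono k hL hE d hdim ι hW hQ
  apply natDegree_le_pred_of_coeff hd
  intro n hn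
  rw [coeff_sub, coeff_mul_C, coeff_mul_C, hA n hn, hB n hn, rpoly_coeff, rpoly_coeff]
  rcases Nat.eq_or_lt_of_le hn with h | h
  · subst h
    unfold alpha
    push_cast
    ring
  · rw [coeff_eq_zero_of_natDegree_lt (lt_of_le_of_lt degP h),
      coeff_eq_zero_of_natDegree_lt (lt_of_le_of_lt degQ h)]
    simp

/-- **S18528**. -/
theorem main18528 (I : X.IdealSheafData) {E : X.Modules} (hE : Coh.IsCoh E) (h0 : ¬ IsZero E)
    (d : ℕ) (hd : 1 ≤ d) (hpure : ShStab.IsPure X E d) (𝓔 : ParSh.Str E) (h𝓔 : 𝓔.Along I)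
    (hcoh : ∀ j, Coh.IsCoh ((𝓔.pieceX j : Subobject E) : X.Modules))
    (hsupp : topologicalKrullDim ↥(CohB1.support E ∩ (I.support : Set X)) < (d : WithBot ℕ∞))
    (P : ℚ[X]) (hP : ShStab.IsHilbPoly k X L E P) (PX : Fin (𝓔.l + 2) → ℚ[X])
    (hPX : ∀ j, ShStab.IsHilbPoly k X L ((𝓔.pieceX j : Subobject E) : X.Modules) (PX j))
    {W : X.Modules} (ι : W ⟶ E) [Mono ι] (hW : Coh.IsCoh W)
    (Q : ℚ[X]) (hQ : ShStab.IsHilbPoly k X L W Q) (QX : Fin (𝓔.l + 2) → ℚ[X])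
    (hQX : ∀ j, ShStab.IsHilbPoly k X L (((𝓔.induced ι).pieceX j : Subobject W) : X.Modules)
      (QX j)) :
    ((∃ M : ℕ, ∀ m : ℕ, M ≤ m →
        (parPoly (𝓔.induced ι) QX).eval (m : ℝ) * (alpha d P : ℝ) ≤
          (parPoly 𝓔 PX).eval (m : ℝ) * (alpha d Q : ℝ)) →
      (parPoly (𝓔.induced ι) QX).coeff (d - 1) * (alpha d P : ℝ) ≤
        (parPoly 𝓔 PX).coeff (d - 1) * (alpha d Q : ℝ)) ∧
    ((parPoly (𝓔.induced ι) QX).coeff (d - 1) * (alpha d P : ℝ) <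
        (parPoly 𝓔 PX).coeff (d - 1) * (alpha d Q : ℝ) →
      ∃ M : ℕ, ∀ m : ℕ, M ≤ m →
        (parPoly (𝓔.induced ι) QX).eval (m : ℝ) * (alpha d P : ℝ) <
          (parPoly 𝓔 PX).eval (m : ℝ) * (alpha d Q : ℝ)) :=
  red_vs_slope (cross_data k hL hE d hd (dim_support_of_isPure hpure hE h0).le 𝓔 hcoh
    (small_cokernel_pieceX I 𝓔 h𝓔 hsupp) P hP PX hPX ι hW
    (small_cokernel_induced_pieceX I 𝓔 h𝓔 hsupp ι) Q hQ QX hQX)


omit hL in
theorem induced_wtX {E W : X.Modules} (𝓔 : ParSh.Str E) (ι : W ⟶ E) (j : Fin (𝓔.l + 2)) :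
    (𝓔.induced ι).wtX j = 𝓔.wtX j := rfl

omit hL in
theorem coeff_parPolyOne {E : X.Modules} (𝓔 : ParSh.Str E) (d : ℕ) (Q : ℚ[X])
    (QH H : Fin (𝓔.l + 2) → ℚ[X]) (n : ℕ) :
    (parPolyOne 𝓔 d Q QH H).coeff n = (rpoly Q).coeff n -
      ∑ j : Fin (𝓔.l + 1), ((𝓔.wtX j.succ - 𝓔.wtX j.castSucc) *
        ((alpha (d - 1) (QH j.succ) / alpha (d - 1) (H j.succ) : ℚ) : ℝ)) *
          (rpoly (H j.succ)).coeff n := by
  unfold parPolyOne
  rw [coeff_sub, finset_sum_coeff]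
  congr 1
  refine Finset.sum_congr rfl (fun j _ => ?_)
  rw [coeff_C_mul]

/-- **S18530**. -/
theorem main18530 (I : X.IdealSheafData) {E : X.Modules} (hE : Coh.IsCoh E) (𝓔 : ParSh.Str E)
    (h𝓔 : 𝓔.Along I)
    (hcoh : ∀ j, Coh.IsCoh ((𝓔.pieceX j : Subobject E) : X.Modules)) (d : ℕ) (hd : 1 ≤ d)
    (hsupp : topologicalKrullDim ↥(CohB1.support E ∩ (I.support : Set X)) < (d : WithBot ℕ∞))
    (H : Fin (𝓔.l + 2) → ℚ[X])
    (hH : ∀ j, ShStab.IsHilbPoly k X L (cokernel (𝓔.pieceX j).arrow) (H j))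
    (hHa : ∀ j : Fin (𝓔.l + 1), alpha (d - 1) (H j.succ) ≠ 0)
    {W : X.Modules} (ι : W ⟶ E) [Mono ι] (hW : Coh.IsCoh W)
    (Q : ℚ[X]) (hQ : ShStab.IsHilbPoly k X L W Q) (QX : Fin (𝓔.l + 2) → ℚ[X])
    (hQX : ∀ j, ShStab.IsHilbPoly k X L (((𝓔.induced ι).pieceX j : Subobject W) : X.Modules)
      (QX j))
    (QH : Fin (𝓔.l + 2) → ℚ[X])
    (hQH : ∀ j, ShStab.IsHilbPoly k X L (cokernel ((𝓔.induced ι).pieceX j).arrow) (QH j)) :
    (parPolyOne 𝓔 d Q QH H).coeff d = (parPoly (𝓔.induced ι) QX).coeff d ∧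
      (parPolyOne 𝓔 d Q QH H).coeff (d - 1) = (parPoly (𝓔.induced ι) QX).coeff (d - 1) := by
  haveI : IsLocallyNoetherian X :=
    LocallyOfFiniteType.isLocallyNoetherian (X ↘ Spec (CommRingCat.of k))
  have hcohW := isCoh_induced_pieceX ι 𝓔 hW hE hcoh
  have hsmE := small_cokernel_pieceX I 𝓔 h𝓔 hsupp
  have hsmW := small_cokernel_induced_pieceX I 𝓔 h𝓔 hsupp ι
  obtain ⟨K, hK, hsub, hK0, hKvan, -, -⟩ :=
    piece_data k hL hW (𝓔.induced ι) hcohW d hsmW Q hQ QX hQX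
  have hKQ : ∀ j, K j = QH j := fun j => isHilbPoly_unique k (hK j) (hQH j)
  have hHvan : ∀ j n, d ≤ n → (H j).coeff n = 0 := fun j n hn =>
    coeff_eq_zero_of_small k hL (CohKerH8.isCoh_cokernel (hcoh j) hE _) (hsmE j) (hH j) n hn
  have hpar : ∀ n, (parPoly (𝓔.induced ι) QX).coeff n = (rpoly Q).coeff n -
      ∑ j : Fin (𝓔.l + 1), (𝓔.wtX j.succ - 𝓔.wtX j.castSucc) * (rpoly (QH j.succ)).coeff n := by
    intro n
    rw [coeff_parPoly_eq (𝓔.induced ι) QX K Q hsub hK0 n]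
    congr 1
    refine Finset.sum_congr rfl (fun j _ => ?_)
    rw [hKQ]
    rfl
  constructor
  · rw [coeff_parPolyOne, hpar]
    congr 1
    refine Finset.sum_congr rfl (fun j _ => ?_)
    rw [rpoly_coeff, rpoly_coeff, hHvan _ d le_rfl, ← hKQ, hKvan _ d le_rfl]
    simp
  · rw [coeff_parPolyOne, hpar]
    congr 1
    refine Finset.sum_congr rfl (fun j _ => ?_)
    rw [rpoly_coeff, rpoly_coeff, mul_assoc]
    congr 1
    have h1 := hHa j
    unfold alpha at h1 ⊢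
    have hf : ((d - 1).factorial : ℚ) ≠ 0 := by exact_mod_cast (Nat.factorial_pos _).ne'
    have hc : (H j.succ).coeff (d - 1) ≠ 0 := fun h => h1 (by rw [h, mul_zero])
    have : ((d - 1).factorial : ℚ) * (QH j.succ).coeff (d - 1) /
        (((d - 1).factorial : ℚ) * (H j.succ).coeff (d - 1)) * (H j.succ).coeff (d - 1) =
        (QH j.succ).coeff (d - 1) := by
      field_simp
    rw [← Rat.cast_mul, this]

end Main

end Groth.Agent.Lib.ParShH6
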