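import Mathlib
import Groth.Prelude
import Groth.Agent.Lib.ParSh4_helper6

/-!
# Parabolic Hilbert polynomials: the second versus the first modified polynomial (helper6)

`main18532`.
APPEND-ONLY once landed.
-/

set_option autoImplicit false
set_option linter.all false
set_option maxHeartbeats 1600000

universe u v
open CategoryTheory CategoryTheory.Limits AlgebraicGeometry TopologicalSpace Opposite
open Polynomial StabCat W4swparbununimod Filter Topology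

namespace Groth.Agent.Lib.ParShH6

section Lim

theorem tendsto_eval_div_pow (p : ℝ[X]) (e : ℕ) (h : p.natDegree ≤ e) :
    Tendsto (fun x : ℝ => p.eval x / x ^ e) atTop (𝓝 (p.coeff e)) := by
  have hX : ∀ x : ℝ, x ^ e = (X ^ e : ℝ[X]).eval x := by intro x; simp
  simp only [hX]
  have hdX : (X ^ e : ℝ[X]).degree = (e : WithBot ℕ) := degree_X_pow e
  by_cases hd : p.degree = (X ^ e : ℝ[X]).degree
  · have h1 := Polynomial.div_tendsto_leadingCoeff_div_of_degree_eq p (X ^ e) hd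
    have h2 : (X ^ e : ℝ[X]).leadingCoeff = 1 := by simp
    have h3 : p.natDegree = e := natDegree_eq_of_degree_eq_some (hd.trans hdX)
    rw [h2, div_one, leadingCoeff, h3] at h1
    exact h1
  · have hle : p.degree ≤ (e : WithBot ℕ) := degree_le_of_natDegree_le h
    have hlt : p.degree < (X ^ e : ℝ[X]).degree := by
      rw [hdX]; exact lt_of_le_of_ne hle (fun h' => hd (h'.trans hdX.symm))
    have h1 := Polynomial.div_tendsto_zero_of_degree_lt p (X ^ e) hlt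
    have h2 : p.coeff e = 0 := coeff_eq_zero_of_degree_lt (by rw [hdX] at hlt; exact hlt)
    rw [h2]
    exact h1

theorem tendsto_rat_eval_div_pow (p : ℚ[X]) (e : ℕ) (h : p.natDegree ≤ e) :
    Tendsto (fun n : ℕ => ((p.eval (n : ℚ) : ℚ) : ℝ) / (n : ℝ) ^ e) atTop
      (𝓝 ((p.coeff e : ℚ) : ℝ)) := by
  have h1 := tendsto_eval_div_pow (rpoly p) e ((natDegree_map_le).trans h)
  rw [rpoly_coeff] at h1
  have h2 := h1.comp tendsto_natCast_atTop_atTop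
  refine h2.congr (fun n => ?_)
  simp only [Function.comp]
  rw [rpoly_eval]

/-- quotient of two Hilbert polynomials of degree `≤ e`, the denominator of degree exactly `e`. -/
theorem tendsto_rat_eval_div (p q : ℚ[X]) (e : ℕ) (hp : p.natDegree ≤ e) (hq : q.natDegree ≤ e)
    (hq0 : q.coeff e ≠ 0) :
    Tendsto (fun n : ℕ => ((p.eval (n : ℚ) / q.eval (n : ℚ) : ℚ) : ℝ)) atTop
      (𝓝 ((p.coeff e / q.coeff e : ℚ) : ℝ)) := by
  have h1 := tendsto_rat_eval_div_pow p e hp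
  have h2 := tendsto_rat_eval_div_pow q e hq
  have hq0' : ((q.coeff e : ℚ) : ℝ) ≠ 0 := by exact_mod_cast hq0
  have h3 := h1.div h2 hq0'
  rw [Rat.cast_div]
  refine h3.congr' ?_
  filter_upwards [eventually_ge_atTop 1] with n hn
  have hn0 : (n : ℝ) ^ e ≠ 0 := pow_ne_zero _ (by positivity)
  simp only [Pi.div_apply]
  rw [Rat.cast_div]
  field_simp


theorem alpha_div_alpha (e : ℕ) (K H : ℚ[X]) :
    alpha e K / alpha e H = K.coeff e / H.coeff e := by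
  unfold alpha
  have hf : ((e.factorial : ℕ) : ℚ) ≠ 0 := by exact_mod_cast (Nat.factorial_pos e).ne'
  by_cases h : H.coeff e = 0
  · rw [h]; simp
  · field_simp

/-- the two limits used for **S18532**. -/
theorem lim_step {l : ℕ} (δ : Fin (l + 1) → ℝ) (P Q : ℚ[X]) (K Hh : Fin (l + 1) → ℚ[X])
    (d : ℕ) (hd : 1 ≤ d) (hP : P.natDegree ≤ d) (hQ : Q.natDegree ≤ d)
    (hK : ∀ j, (K j).natDegree ≤ d - 1) (hH : ∀ j, (Hh j).natDegree ≤ d - 1)
    (hH0 : ∀ j, (Hh j).coeff (d - 1) ≠ 0) (Qm Pe : ℝ) (Hm : Fin (l + 1) → ℝ) :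
    Tendsto (fun n : ℕ => ((Qm - ∑ j : Fin (l + 1), δ j *
        ((((K j).eval (n : ℚ) / (Hh j).eval (n : ℚ) : ℚ) : ℝ) * Hm j)) *
          ((P.eval (n : ℚ) : ℚ) : ℝ)) / (n : ℝ) ^ d) atTop
      (𝓝 ((Qm - ∑ j : Fin (l + 1), δ j *
        (((alpha (d - 1) (K j) / alpha (d - 1) (Hh j) : ℚ) : ℝ) * Hm j)) *
          ((P.coeff d : ℚ) : ℝ))) ∧
    Tendsto (fun n : ℕ => (Pe * ((Q.eval (n : ℚ) : ℚ) : ℝ)) / (n : ℝ) ^ d) atTop
      (𝓝 (Pe * ((Q.coeff d : ℚ) : ℝ))) := by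
  constructor
  · have h1 : Tendsto (fun n : ℕ => Qm - ∑ j : Fin (l + 1), δ j *
        ((((K j).eval (n : ℚ) / (Hh j).eval (n : ℚ) : ℚ) : ℝ) * Hm j)) atTop
        (𝓝 (Qm - ∑ j : Fin (l + 1), δ j *
          (((alpha (d - 1) (K j) / alpha (d - 1) (Hh j) : ℚ) : ℝ) * Hm j))) := by
      refine Tendsto.sub tendsto_const_nhds ?_
      refine tendsto_finset_sum _ (fun j _ => ?_)
      refine Tendsto.const_mul _ ?_
      refine Tendsto.mul_const _ ?_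
      rw [alpha_div_alpha]
      exact tendsto_rat_eval_div (K j) (Hh j) (d - 1) (hK j) (hH j) (hH0 j)
    have h2 := tendsto_rat_eval_div_pow P d hP
    have h3 := h1.mul h2
    refine h3.congr (fun n => ?_)
    rw [mul_div_assoc]
  · have h2 := tendsto_rat_eval_div_pow Q d hQ
    have h3 := h2.const_mul Pe
    refine h3.congr (fun n => ?_)
    rw [mul_div_assoc]


/-- abstract form of **S18532**. -/
theorem two_vs_one {l : ℕ} (δ : Fin (l + 1) → ℝ) (P Q : ℚ[X]) (K Hh : Fin (l + 1) → ℚ[X])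
    (d : ℕ) (hd : 1 ≤ d) (hP : P.natDegree ≤ d) (hQ : Q.natDegree ≤ d)
    (hK : ∀ j, (K j).natDegree ≤ d - 1) (hH : ∀ j, (Hh j).natDegree ≤ d - 1)
    (hH0 : ∀ j, (Hh j).coeff (d - 1) ≠ 0) (ParE : ℕ → ℝ) :
    ((∃ M : ℕ, ∀ m : ℕ, M ≤ m → ∃ N : ℕ, ∀ n : ℕ, N ≤ n →
        (((Q.eval (m : ℚ) : ℚ) : ℝ) - ∑ j : Fin (l + 1), δ j *
          ((((K j).eval (n : ℚ) / (Hh j).eval (n : ℚ) : ℚ) : ℝ) *
            (((Hh j).eval (m : ℚ) : ℚ) : ℝ))) * ((P.eval (n : ℚ) : ℚ) : ℝ) ≤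
          ParE m * ((Q.eval (n : ℚ) : ℚ) : ℝ)) →
      ∃ M : ℕ, ∀ m : ℕ, M ≤ m →
        (((Q.eval (m : ℚ) : ℚ) : ℝ) - ∑ j : Fin (l + 1), δ j *
          (((alpha (d - 1) (K j) / alpha (d - 1) (Hh j) : ℚ) : ℝ) *
            (((Hh j).eval (m : ℚ) : ℚ) : ℝ))) * (alpha d P : ℝ) ≤ ParE m * (alpha d Q : ℝ)) ∧
    ((∃ M : ℕ, ∀ m : ℕ, M ≤ m →
        (((Q.eval (m : ℚ) : ℚ) : ℝ) - ∑ j : Fin (l + 1), δ j *
          (((alpha (d - 1) (K j) / alpha (d - 1) (Hh j) : ℚ) : ℝ) *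
            (((Hh j).eval (m : ℚ) : ℚ) : ℝ))) * (alpha d P : ℝ) < ParE m * (alpha d Q : ℝ)) →
      ∃ M : ℕ, ∀ m : ℕ, M ≤ m → ∃ N : ℕ, ∀ n : ℕ, N ≤ n →
        (((Q.eval (m : ℚ) : ℚ) : ℝ) - ∑ j : Fin (l + 1), δ j *
          ((((K j).eval (n : ℚ) / (Hh j).eval (n : ℚ) : ℚ) : ℝ) *
            (((Hh j).eval (m : ℚ) : ℚ) : ℝ))) * ((P.eval (n : ℚ) : ℚ) : ℝ) <
          ParE m * ((Q.eval (n : ℚ) : ℚ) : ℝ)) := by
  have hf : (0 : ℝ) < (d.factorial : ℝ) := by exact_mod_cast Nat.factorial_pos d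
  have haP : (alpha d P : ℝ) = (d.factorial : ℝ) * ((P.coeff d : ℚ) : ℝ) := by
    unfold alpha; push_cast; rfl
  have haQ : (alpha d Q : ℝ) = (d.factorial : ℝ) * ((Q.coeff d : ℚ) : ℝ) := by
    unfold alpha; push_cast; rfl
  constructor
  · rintro ⟨M, hM⟩
    refine ⟨M, fun m hm => ?_⟩
    obtain ⟨N, hN⟩ := hM m hm
    obtain ⟨l1, l2⟩ := lim_step δ P Q K Hh d hd hP hQ hK hH hH0 ((Q.eval (m : ℚ) : ℚ) : ℝ)
      (ParE m) (fun j => (((Hh j).eval (m : ℚ) : ℚ) : ℝ))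
    have hle := le_of_tendsto_of_tendsto l1 l2 (by
      filter_upwards [eventually_ge_atTop (max N 1)] with n hn
      have hn1 : (0 : ℝ) < (n : ℝ) ^ d := by
        have : 1 ≤ n := le_trans (le_max_right _ _) hn
        positivity
      exact div_le_div_of_nonneg_right (hN n (le_trans (le_max_left _ _) hn)) hn1.le)
    rw [haP, haQ]
    nlinarith [hle, hf]
  · rintro ⟨M, hM⟩
    refine ⟨M, fun m hm => ?_⟩
    have hlt := hM m hm
    obtain ⟨l1, l2⟩ := lim_step δ P Q K Hh d hd hP hQ hK hH hH0 ((Q.eval (m : ℚ) : ℚ) : ℝ)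
      (ParE m) (fun j => (((Hh j).eval (m : ℚ) : ℚ) : ℝ))
    rw [haP, haQ] at hlt
    have hlt' : ((((Q.eval (m : ℚ) : ℚ) : ℝ) - ∑ j : Fin (l + 1), δ j *
          (((alpha (d - 1) (K j) / alpha (d - 1) (Hh j) : ℚ) : ℝ) *
            (((Hh j).eval (m : ℚ) : ℚ) : ℝ))) * ((P.coeff d : ℚ) : ℝ)) <
        ParE m * ((Q.coeff d : ℚ) : ℝ) := by
      by_contra hcon
      have hcon' := not_lt.mp hcon
      nlinarith [hcon', hf]
    have hev := l1.eventually_lt l2 hlt'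
    obtain ⟨N, hN⟩ := Filter.eventually_atTop.1 hev
    refine ⟨max N 1, fun n hn => ?_⟩
    have hn1 : (0 : ℝ) < (n : ℝ) ^ d := by
      have : 1 ≤ n := le_trans (le_max_right _ _) hn
      positivity
    have := hN n (le_trans (le_max_left _ _) hn)
    exact (div_lt_div_iff_of_pos_right hn1).mp this

end Lim


section Main

open Groth.Agent.Lib.HilbCalc Groth.Agent.Lib.HilbCalc2 Groth.Agent.Lib.ShStabH6

variable (k : Type u) [Field k] {X : Scheme.{u}} [X.Over (Spec (CommRingCat.of k))]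
  [IsProper (X ↘ Spec (CommRingCat.of k))] {L : X.Modules} (hL : CohB1.IsAmple L)

theorem eval_parPolyOne {E : X.Modules} (𝓔 : ParSh.Str E) (d : ℕ) (Q : ℚ[X])
    (QH H : Fin (𝓔.l + 2) → ℚ[X]) (m : ℕ) :
    (parPolyOne 𝓔 d Q QH H).eval (m : ℝ) = ((Q.eval (m : ℚ) : ℚ) : ℝ) -
      ∑ j : Fin (𝓔.l + 1), (𝓔.wtX j.succ - 𝓔.wtX j.castSucc) *
        (((alpha (d - 1) (QH j.succ) / alpha (d - 1) (H j.succ) : ℚ) : ℝ) *
          (((H j.succ).eval (m : ℚ) : ℚ) : ℝ)) := by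
  unfold parPolyOne
  rw [eval_sub, eval_finset_sum, rpoly_eval]
  congr 1
  refine Finset.sum_congr rfl (fun j _ => ?_)
  rw [eval_mul, eval_C, rpoly_eval, mul_assoc]

include hL

theorem natDegree_le_of_small {d : ℕ} (hd : 1 ≤ d) {G : X.Modules} (hG : Coh.IsCoh G)
    (hs : Small d G) {H : ℚ[X]} (hH : ShStab.IsHilbPoly k X L G H) : H.natDegree ≤ d - 1 := by
  rw [natDegree_le_iff_coeff_eq_zero]
  intro n hn
  exact coeff_eq_zero_of_small k hL hG hs hH n (by omega)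

/-- **S18532**. -/
theorem main18532 (I : X.IdealSheafData) {E : X.Modules} (hE : Coh.IsCoh E) (𝓔 : ParSh.Str E)
    (h𝓔 : 𝓔.Along I)
    (hcoh : ∀ j, Coh.IsCoh ((𝓔.pieceX j : Subobject E) : X.Modules)) (d : ℕ) (hd : 1 ≤ d)
    (hsupp : topologicalKrullDim ↥(CohB1.support E ∩ (I.support : Set X)) < (d : WithBot ℕ∞))
    (h0 : ¬ IsZero E) (hpure : ShStab.IsPure X E d)
    (P : ℚ[X]) (hP : ShStab.IsHilbPoly k X L E P) (PX : Fin (𝓔.l + 2) → ℚ[X])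
    (H : Fin (𝓔.l + 2) → ℚ[X])
    (hH : ∀ j, ShStab.IsHilbPoly k X L (cokernel (𝓔.pieceX j).arrow) (H j))
    (hHa : ∀ j : Fin (𝓔.l + 1), alpha (d - 1) (H j.succ) ≠ 0)
    {W : X.Modules} (ι : W ⟶ E) [Mono ι] (hW : Coh.IsCoh W)
    (Q : ℚ[X]) (hQ : ShStab.IsHilbPoly k X L W Q) (QH : Fin (𝓔.l + 2) → ℚ[X])
    (hQH : ∀ j, ShStab.IsHilbPoly k X L (cokernel ((𝓔.induced ι).pieceX j).arrow) (QH j)) :
    ((∃ M : ℕ, ∀ m : ℕ, M ≤ m → ∃ N : ℕ, ∀ n : ℕ, N ≤ n →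
        (((Q.eval (m : ℚ) : ℚ) : ℝ) -
            ∑ j : Fin (𝓔.l + 1), (𝓔.wtX j.succ - 𝓔.wtX j.castSucc) *
              ((((QH j.succ).eval (n : ℚ) / (H j.succ).eval (n : ℚ) : ℚ) : ℝ) *
                (((H j.succ).eval (m : ℚ) : ℚ) : ℝ))) *
          ((P.eval (n : ℚ) : ℚ) : ℝ) ≤
        (parPoly 𝓔 PX).eval (m : ℝ) * ((Q.eval (n : ℚ) : ℚ) : ℝ)) →
      ∃ M : ℕ, ∀ m : ℕ, M ≤ m →
        (parPolyOne 𝓔 d Q QH H).eval (m : ℝ) * (alpha d P : ℝ) ≤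
          (parPoly 𝓔 PX).eval (m : ℝ) * (alpha d Q : ℝ)) ∧
    ((∃ M : ℕ, ∀ m : ℕ, M ≤ m →
        (parPolyOne 𝓔 d Q QH H).eval (m : ℝ) * (alpha d P : ℝ) <
          (parPoly 𝓔 PX).eval (m : ℝ) * (alpha d Q : ℝ)) →
      ∃ M : ℕ, ∀ m : ℕ, M ≤ m → ∃ N : ℕ, ∀ n : ℕ, N ≤ n →
        (((Q.eval (m : ℚ) : ℚ) : ℝ) -
            ∑ j : Fin (𝓔.l + 1), (𝓔.wtX j.succ - 𝓔.wtX j.castSucc) *
              ((((QH j.succ).eval (n : ℚ) / (H j.succ).eval (n : ℚ) : ℚ) : ℝ) *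
                (((H j.succ).eval (m : ℚ) : ℚ) : ℝ))) *
          ((P.eval (n : ℚ) : ℚ) : ℝ) <
        (parPoly 𝓔 PX).eval (m : ℝ) * ((Q.eval (n : ℚ) : ℚ) : ℝ)) := by
  haveI : IsLocallyNoetherian X :=
    LocallyOfFiniteType.isLocallyNoetherian (X ↘ Spec (CommRingCat.of k))
  have hcohW := isCoh_induced_pieceX ι 𝓔 hW hE hcoh
  have hsmE := small_cokernel_pieceX I 𝓔 h𝓔 hsupp
  have hsmW := small_cokernel_induced_pieceX I 𝓔 h𝓔 hsupp ι
  have hdim := (dim_support_of_isPure hpure hE h0).le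
  have degP : P.natDegree ≤ d := natDegree_le k hL.1 hE d hdim hP
  have degQ : Q.natDegree ≤ d := natDegree_le_of_mono k hL hE d hdim ι hW hQ
  have degK : ∀ j : Fin (𝓔.l + 1), (QH j.succ).natDegree ≤ d - 1 := fun j =>
    natDegree_le_of_small k hL hd (CohKerH8.isCoh_cokernel (hcohW _) hW _) (hsmW _) (hQH _)
  have degH : ∀ j : Fin (𝓔.l + 1), (H j.succ).natDegree ≤ d - 1 := fun j =>
    natDegree_le_of_small k hL hd (CohKerH8.isCoh_cokernel (hcoh _) hE _) (hsmE _) (hH _)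
  have hH0 : ∀ j : Fin (𝓔.l + 1), (H j.succ).coeff (d - 1) ≠ 0 := by
    intro j h
    apply hHa j
    unfold alpha
    rw [h, mul_zero]
  have key := two_vs_one (fun j : Fin (𝓔.l + 1) => 𝓔.wtX j.succ - 𝓔.wtX j.castSucc) P Q
    (fun j => QH j.succ) (fun j => H j.succ) d hd degP degQ degK degH hH0
    (fun m => (parPoly 𝓔 PX).eval (m : ℝ))
  simp only [eval_parPolyOne]
  exact key

end Main

end Groth.Agent.Lib.ParShH6
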