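import Mathlib
import Groth.Prelude
import Groth.Agent.Lib.ParSh5_helper6

/-!
# Parabolic Hilbert polynomials: (semi)stability for the first modified polynomial (helper6)

`polyOne_le_par`: `par-P₁(W ⊂ E) ≤ Par_W` eventually, when the flag quotients are semistable;
`main18533`.
APPEND-ONLY once landed.
-/

set_option autoImplicit false
set_option linter.all false
set_option maxHeartbeats 1600000

universe u v
open CategoryTheory CategoryTheory.Limits AlgebraicGeometry TopologicalSpace Opposite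
open Polynomial StabCat W4swparbununimod Filter Topology

namespace Groth.Agent.Lib.ParShH6

section Main

open Groth.Agent.Lib.HilbCalc Groth.Agent.Lib.HilbCalc2 Groth.Agent.Lib.ShStabH6

variable (k : Type u) [Field k] {X : Scheme.{u}} [X.Over (Spec (CommRingCat.of k))]
  [IsProper (X ↘ Spec (CommRingCat.of k))] {L : X.Modules} (hL : CohB1.IsAmple L)

include hL

/-- the Hilbert polynomial of `W / ι⁻¹S ⊆ E / S` against that of the semistable `E / S`. -/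
theorem quot_le {E W : X.Modules} (ι : W ⟶ E) (S : Subobject E) (hW : Coh.IsCoh W)
    (hE : Coh.IsCoh E) (hS : Coh.IsCoh (S : X.Modules)) (e : ℕ)
    (hG : ShStab.IsSemistable k X L (cokernel S.arrow) e) {Kk Hh : ℚ[X]}
    (hK : ShStab.IsHilbPoly k X L (cokernel ((Subobject.pullback ι).obj S).arrow) Kk)
    (hH : ShStab.IsHilbPoly k X L (cokernel S.arrow) Hh) :
    ∃ N : ℕ, ∀ m : ℕ, N ≤ m → ((Kk.eval (m : ℚ) : ℚ) : ℝ) ≤
      ((alpha e Kk / alpha e Hh : ℚ) : ℝ) * ((Hh.eval (m : ℚ) : ℚ) : ℝ) := by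
  haveI : IsLocallyNoetherian X :=
    LocallyOfFiniteType.isLocallyNoetherian (X ↘ Spec (CommRingCat.of k))
  obtain ⟨hGc, hG0, hGp, hGss⟩ := hG
  have hT := isCoh_pullback ι S hW hE hS
  have hKc : Coh.IsCoh (cokernel ((Subobject.pullback ι).obj S).arrow) :=
    CohKerH8.isCoh_cokernel hT hW _
  have hαH : 0 < alpha e Hh := alpha_pos k hL hGc e (dim_support_of_isPure hGp hGc hG0) hH
  suffices h : ∃ N : ℕ, ∀ m : ℕ, N ≤ m →
      Kk.eval (m : ℚ) ≤ (alpha e Kk / alpha e Hh) * Hh.eval (m : ℚ) by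
    obtain ⟨N, hN⟩ := h
    refine ⟨N, fun m hm => ?_⟩
    have := hN m hm
    rw [← Rat.cast_mul]
    exact_mod_cast this
  by_cases hz : IsZero (cokernel ((Subobject.pullback ι).obj S).arrow)
  · refine ⟨0, fun m _ => ?_⟩
    rw [eq_zero_of_isZero k hL.1 hKc hz hK, alpha_zero, eval_zero, zero_div, zero_mul]
  by_cases hiso : IsIso (quotMap ι S)
  · refine ⟨0, fun m _ => ?_⟩
    have : Kk = Hh := isHilbPoly_unique k (isHilbPoly_of_iso k (asIso (quotMap ι S)) hK) hH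
    rw [this, div_self hαH.ne', one_mul]
  · obtain ⟨N, hN⟩ := hGss _ (quotMap ι S) inferInstance hKc hz hiso Kk Hh hK hH
    refine ⟨N, fun m hm => ?_⟩
    have h1 := hN m hm
    rw [eval_smul, eval_smul, smul_eq_mul, smul_eq_mul] at h1
    rw [div_mul_eq_mul_div, le_div_iff₀ hαH]
    linarith


/-- evaluation of the parabolic polynomial of an induced structure in Abel-summed form. -/
theorem eval_parPoly_induced {E : X.Modules} (hE : Coh.IsCoh E) (𝓔 : ParSh.Str E)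
    (hcoh : ∀ j, Coh.IsCoh ((𝓔.pieceX j : Subobject E) : X.Modules)) (d : ℕ)
    (hsmall : ∀ j, Small d (cokernel (𝓔.pieceX j).arrow))
    {W : X.Modules} (ι : W ⟶ E) [Mono ι] (hW : Coh.IsCoh W)
    (Q : ℚ[X]) (hQ : ShStab.IsHilbPoly k X L W Q) (QX : Fin (𝓔.l + 2) → ℚ[X])
    (hQX : ∀ j, ShStab.IsHilbPoly k X L (((𝓔.induced ι).pieceX j : Subobject W) : X.Modules)
      (QX j))
    (QH : Fin (𝓔.l + 2) → ℚ[X])
    (hQH : ∀ j, ShStab.IsHilbPoly k X L (cokernel ((𝓔.induced ι).pieceX j).arrow) (QH j))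
    (m : ℕ) :
    (parPoly (𝓔.induced ι) QX).eval (m : ℝ) = ((Q.eval (m : ℚ) : ℚ) : ℝ) -
      ∑ j : Fin (𝓔.l + 1), (𝓔.wtX j.succ - 𝓔.wtX j.castSucc) *
        (((QH j.succ).eval (m : ℚ) : ℚ) : ℝ) := by
  haveI : IsLocallyNoetherian X :=
    LocallyOfFiniteType.isLocallyNoetherian (X ↘ Spec (CommRingCat.of k))
  have hcohW := isCoh_induced_pieceX ι 𝓔 hW hE hcoh
  have hsmW : ∀ j, Small d (cokernel ((𝓔.induced ι).pieceX j).arrow) := by
    intro j
    rw [Groth.Agent.Lib.ParHilbH7.induced_pieceX]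
    exact small_of_mono (quotMap ι (𝓔.pieceX j)) (hsmall j)
  obtain ⟨K, hK, hsub, hK0, -, -, -⟩ :=
    piece_data k hL hW (𝓔.induced ι) hcohW d hsmW Q hQ QX hQX
  have hKQ : ∀ j, K j = QH j := fun j => isHilbPoly_unique k (hK j) (hQH j)
  rw [parPoly_eq (𝓔.induced ι) QX K Q hsub hK0, eval_sub, eval_finset_sum, rpoly_eval]
  congr 1
  refine Finset.sum_congr rfl (fun j _ => ?_)
  rw [eval_mul, eval_C, rpoly_eval, hKQ]
  rfl

/-- `par-P₁(W ⊂ E) ≤ Par_W` eventually, when the flag quotients are semistable. -/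
theorem polyOne_le_par {E : X.Modules} (hE : Coh.IsCoh E) (𝓔 : ParSh.Str E)
    (hcoh : ∀ j, Coh.IsCoh ((𝓔.pieceX j : Subobject E) : X.Modules)) (d : ℕ)
    (hsmall : ∀ j, Small d (cokernel (𝓔.pieceX j).arrow))
    (H : Fin (𝓔.l + 2) → ℚ[X])
    (hH : ∀ j, ShStab.IsHilbPoly k X L (cokernel (𝓔.pieceX j).arrow) (H j))
    (hq : ∀ j : Fin (𝓔.l + 1),
      ShStab.IsSemistable k X L (cokernel (𝓔.pieceX j.succ).arrow) (d - 1))
    {W : X.Modules} (ι : W ⟶ E) [Mono ι] (hW : Coh.IsCoh W)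
    (Q : ℚ[X]) (hQ : ShStab.IsHilbPoly k X L W Q) (QX : Fin (𝓔.l + 2) → ℚ[X])
    (hQX : ∀ j, ShStab.IsHilbPoly k X L (((𝓔.induced ι).pieceX j : Subobject W) : X.Modules)
      (QX j))
    (QH : Fin (𝓔.l + 2) → ℚ[X])
    (hQH : ∀ j, ShStab.IsHilbPoly k X L (cokernel ((𝓔.induced ι).pieceX j).arrow) (QH j)) :
    ∃ M : ℕ, ∀ m : ℕ, M ≤ m →
      (parPolyOne 𝓔 d Q QH H).eval (m : ℝ) ≤ (parPoly (𝓔.induced ι) QX).eval (m : ℝ) := by
  have hb : ∀ j : Fin (𝓔.l + 1), ∃ N : ℕ, ∀ m : ℕ, N ≤ m →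
      (((QH j.succ).eval (m : ℚ) : ℚ) : ℝ) ≤
        ((alpha (d - 1) (QH j.succ) / alpha (d - 1) (H j.succ) : ℚ) : ℝ) *
          (((H j.succ).eval (m : ℚ) : ℚ) : ℝ) := by
    intro j
    have h := hQH j.succ
    rw [Groth.Agent.Lib.ParHilbH7.induced_pieceX] at h
    exact quot_le k hL ι (𝓔.pieceX j.succ) hW hE (hcoh _) (d - 1) (hq j) h (hH j.succ)
  choose N hN using hb
  refine ⟨Finset.univ.sup N, fun m hm => ?_⟩
  rw [eval_parPolyOne, eval_parPoly_induced k hL hE 𝓔 hcoh d hsmall ι hW Q hQ QX hQX QH hQH]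
  apply sub_le_sub_left
  refine Finset.sum_le_sum (fun j _ => ?_)
  refine mul_le_mul_of_nonneg_left ?_ (wtX_succ_sub_pos 𝓔 j).le
  exact hN j m (le_trans (Finset.le_sup (Finset.mem_univ j)) hm)


/-- **S18533**. -/
theorem main18533 (I : X.IdealSheafData) {E : X.Modules} (hE : Coh.IsCoh E) (𝓔 : ParSh.Str E)
    (h𝓔 : 𝓔.Along I)
    (hcoh : ∀ j, Coh.IsCoh ((𝓔.pieceX j : Subobject E) : X.Modules)) (d : ℕ) (hd : 1 ≤ d)
    (hsupp : topologicalKrullDim ↥(CohB1.support E ∩ (I.support : Set X)) < (d : WithBot ℕ∞))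
    (h0 : ¬ IsZero E) (hpure : ShStab.IsPure X E d)
    (P : ℚ[X]) (hP : ShStab.IsHilbPoly k X L E P) (PX : Fin (𝓔.l + 2) → ℚ[X])
    (H : Fin (𝓔.l + 2) → ℚ[X])
    (hH : ∀ j, ShStab.IsHilbPoly k X L (cokernel (𝓔.pieceX j).arrow) (H j))
    (hst : (∀ (W : X.Modules) (ι : W ⟶ E), Mono ι → Coh.IsCoh W → ¬ IsZero W → ¬ IsIso ι →
        ShStab.IsPure X (cokernel ι) d →
        ∀ (Q : ℚ[X]) (QX : Fin (𝓔.l + 2) → ℚ[X]), ShStab.IsHilbPoly k X L W Q →
          (∀ j, ShStab.IsHilbPoly k X L (((𝓔.induced ι).pieceX j : Subobject W) : X.Modules)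
            (QX j)) →
          ∃ M : ℕ, ∀ m : ℕ, M ≤ m →
            (parPoly (𝓔.induced ι) QX).eval (m : ℝ) * (alpha d P : ℝ) <
              (parPoly 𝓔 PX).eval (m : ℝ) * (alpha d Q : ℝ)))
    (hq : ∀ j : Fin (𝓔.l + 1),
      ShStab.IsStable k X L (cokernel (𝓔.pieceX j.succ).arrow) (d - 1))
    {W : X.Modules} (ι : W ⟶ E) [Mono ι] (hW : Coh.IsCoh W)
    (Q : ℚ[X]) (hQ : ShStab.IsHilbPoly k X L W Q) (QH : Fin (𝓔.l + 2) → ℚ[X])
    (hQH : ∀ j, ShStab.IsHilbPoly k X L (cokernel ((𝓔.induced ι).pieceX j).arrow) (QH j))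
    (hW0 : ¬ IsZero W) (hWp : ¬ IsIso ι) (hWsat : ShStab.IsPure X (cokernel ι) d) :
    ∃ M : ℕ, ∀ m : ℕ, M ≤ m →
      (parPolyOne 𝓔 d Q QH H).eval (m : ℝ) * (alpha d P : ℝ) <
        (parPoly 𝓔 PX).eval (m : ℝ) * (alpha d Q : ℝ) := by
  haveI : IsLocallyNoetherian X :=
    LocallyOfFiniteType.isLocallyNoetherian (X ↘ Spec (CommRingCat.of k))
  have hcohW := isCoh_induced_pieceX ι 𝓔 hW hE hcoh
  choose QX hQX using fun j => exists_hilbPoly k hL.1 _ (hcohW j)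
  obtain ⟨M1, h1⟩ := hst W ι inferInstance hW hW0 hWp hWsat Q QX hQ hQX
  obtain ⟨M2, h2⟩ := polyOne_le_par k hL hE 𝓔 hcoh d (small_cokernel_pieceX I 𝓔 h𝓔 hsupp) H hH
    (fun j => isSemistable_of_isStable k (hq j)) ι hW Q hQ QX hQX QH hQH
  have hαP : (0 : ℝ) < (alpha d P : ℝ) := by
    exact_mod_cast alpha_pos k hL hE d (dim_support_of_isPure hpure hE h0) hP
  refine ⟨max M1 M2, fun m hm => ?_⟩
  have a1 := h1 m (le_trans (le_max_left _ _) hm)
  have a2 := h2 m (le_trans (le_max_right _ _) hm)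
  calc (parPolyOne 𝓔 d Q QH H).eval (m : ℝ) * (alpha d P : ℝ)
      ≤ (parPoly (𝓔.induced ι) QX).eval (m : ℝ) * (alpha d P : ℝ) :=
        mul_le_mul_of_nonneg_right a2 hαP.le
    _ < _ := a1

end Main

end Groth.Agent.Lib.ParShH6
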