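import Mathlib
import Groth.Prelude
import Groth.Agent.Lib.ParSh6_helper6

/-!
# Parabolic Hilbert polynomials: semistability for the first modified polynomial (helper6)

`eval_parPoly_abel`: `Par = w₀ P₀ + Σ (w_{j+1} − w_j) P_{j+1}`; `par_le_of_le` (monotonicity);
`main18531`.
APPEND-ONLY once landed.
-/

set_option autoImplicit false
set_option linter.all false
set_option maxHeartbeats 1600000

universe u v
open CategoryTheory CategoryTheory.Limits AlgebraicGeometry TopologicalSpace Opposite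
open Polynomial StabCat W4swparbununimod Filter Topology

namespace Groth.Agent.Lib.ParShH6

section Abel2

theorem abel2 (l : ℕ) (W a : Fin (l + 2) → ℝ) (hW : W (Fin.last (l + 1)) = 1) :
    a (Fin.last (l + 1)) + ∑ j : Fin (l + 1), W j.castSucc * (a j.castSucc - a j.succ) =
      W 0 * a 0 + ∑ j : Fin (l + 1), (W j.succ - W j.castSucc) * a j.succ := by
  have e1 : ∑ j : Fin (l + 2), W j * a j = W 0 * a 0 + ∑ j : Fin (l + 1), W j.succ * a j.succ :=
    Fin.sum_univ_succ _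
  have e2 : ∑ j : Fin (l + 2), W j * a j =
      ∑ j : Fin (l + 1), W j.castSucc * a j.castSucc +
        W (Fin.last (l + 1)) * a (Fin.last (l + 1)) :=
    Fin.sum_univ_castSucc _
  rw [hW, one_mul] at e2
  have e3 : ∑ j : Fin (l + 1), W j.castSucc * (a j.castSucc - a j.succ) =
      ∑ j : Fin (l + 1), W j.castSucc * a j.castSucc -
        ∑ j : Fin (l + 1), W j.castSucc * a j.succ := by
    rw [← Finset.sum_sub_distrib]
    exact Finset.sum_congr rfl (fun j _ => by ring)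
  have e4 : ∑ j : Fin (l + 1), (W j.succ - W j.castSucc) * a j.succ =
      ∑ j : Fin (l + 1), W j.succ * a j.succ - ∑ j : Fin (l + 1), W j.castSucc * a j.succ := by
    rw [← Finset.sum_sub_distrib]
    exact Finset.sum_congr rfl (fun j _ => by ring)
  rw [e3, e4]
  linarith

variable {C : Type u} [Category.{v} C] {E : C}

theorem eval_parPoly_abel (𝓔 : ParSh.Str E) (PX : Fin (𝓔.l + 2) → ℚ[X]) (m : ℕ) :
    (parPoly 𝓔 PX).eval (m : ℝ) = 𝓔.wtX 0 * (((PX 0).eval (m : ℚ) : ℚ) : ℝ) +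
      ∑ j : Fin (𝓔.l + 1), (𝓔.wtX j.succ - 𝓔.wtX j.castSucc) *
        (((PX j.succ).eval (m : ℚ) : ℚ) : ℝ) := by
  have h1 : (parPoly 𝓔 PX).eval (m : ℝ) =
      (((PX (Fin.last (𝓔.l + 1))).eval (m : ℚ) : ℚ) : ℝ) +
        ∑ j : Fin (𝓔.l + 1), 𝓔.wtX j.castSucc *
          ((((PX j.castSucc).eval (m : ℚ) : ℚ) : ℝ) - (((PX j.succ).eval (m : ℚ) : ℚ) : ℝ)) := by
    unfold parPoly
    rw [eval_add, eval_finset_sum, rpoly_eval]
    congr 1
    refine Finset.sum_congr rfl (fun j _ => ?_)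
    rw [eval_mul, eval_C, eval_sub, rpoly_eval, rpoly_eval, 𝓔.wtX_castSucc]
  rw [h1]
  exact abel2 𝓔.l 𝓔.wtX (fun j => (((PX j).eval (m : ℚ) : ℚ) : ℝ)) 𝓔.wtX_last

theorem wtX_zero_nonneg (𝓔 : ParSh.Str E) : 0 ≤ 𝓔.wtX 0 := by
  have := 𝓔.wtX_castSucc 0
  rw [Fin.castSucc_zero] at this
  rw [this]
  exact 𝓔.wt_nonneg

/-- monotonicity of the parabolic polynomial in the polynomials of the pieces (two structures with
the same weights). -/
theorem par_le_of_le {E' : C} (𝓔 : ParSh.Str E) (𝓔' : ParSh.Str E') (hl : 𝓔'.l = 𝓔.l)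
    (hw : ∀ j : Fin (𝓔.l + 2), 𝓔'.wtX (Fin.cast (by rw [hl]) j) = 𝓔.wtX j)
    (PX : Fin (𝓔.l + 2) → ℚ[X]) (PX' : Fin (𝓔'.l + 2) → ℚ[X])
    (h : ∀ j : Fin (𝓔.l + 2), ∃ N : ℕ, ∀ m : ℕ, N ≤ m →
      (PX j).eval (m : ℚ) ≤ (PX' (Fin.cast (by rw [hl]) j)).eval (m : ℚ)) :
    ∃ M : ℕ, ∀ m : ℕ, M ≤ m → (parPoly 𝓔 PX).eval (m : ℝ) ≤ (parPoly 𝓔' PX').eval (m : ℝ) := by
  obtain ⟨l, piece, bot, wt, h1, h2, h3, h4, h5, h6⟩ := 𝓔'
  simp only at hl
  subst hl
  choose N hN using h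
  refine ⟨Finset.univ.sup N, fun m hm => ?_⟩
  rw [eval_parPoly_abel, eval_parPoly_abel]
  have hN' : ∀ j : Fin (𝓔.l + 2), (((PX j).eval (m : ℚ) : ℚ) : ℝ) ≤
      (((PX' j).eval (m : ℚ) : ℚ) : ℝ) := by
    intro j
    have := hN j m (le_trans (Finset.le_sup (Finset.mem_univ j)) hm)
    exact_mod_cast this
  have hw' : ∀ j : Fin (𝓔.l + 2),
      (ParSh.Str.mk 𝓔.l piece bot wt h1 h2 h3 h4 h5 h6 : ParSh.Str E').wtX j = 𝓔.wtX j := hw
  simp only [hw']
  refine add_le_add (mul_le_mul_of_nonneg_left (hN' 0) (wtX_zero_nonneg 𝓔)) ?_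
  refine Finset.sum_le_sum (fun j _ => ?_)
  exact mul_le_mul_of_nonneg_left (hN' j.succ) (wtX_succ_sub_pos 𝓔 j).le

end Abel2


section Abelian

variable {C : Type u} [Category.{v} C] [Abelian C] {W W' E : C} (ι : W ⟶ E) (ι' : W' ⟶ E)
  (j : W ⟶ W') (hj : j ≫ ι' = ι) (S : Subobject E)

/-- `ι⁻¹S ⟶ ι'⁻¹S` for `W ⟶ W'` over `E`. -/
noncomputable def pullbackMap :
    ((Subobject.pullback ι).obj S : C) ⟶ ((Subobject.pullback ι').obj S : C) :=
  (Subobject.isPullback ι' S).lift (Subobject.pullbackπ ι S)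
    (((Subobject.pullback ι).obj S).arrow ≫ j)
    (by rw [Category.assoc, hj]; exact (Subobject.isPullback ι S).w)

theorem pullbackMap_arrow :
    pullbackMap ι ι' j hj S ≫ ((Subobject.pullback ι').obj S).arrow =
      ((Subobject.pullback ι).obj S).arrow ≫ j :=
  (Subobject.isPullback ι' S).lift_snd _ _ _

instance mono_pullbackMap [Mono j] : Mono (pullbackMap ι ι' j hj S) := by
  haveI : Mono (pullbackMap ι ι' j hj S ≫ ((Subobject.pullback ι').obj S).arrow) := by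
    rw [pullbackMap_arrow]; infer_instance
  exact mono_of_mono _ ((Subobject.pullback ι').obj S).arrow

end Abelian

section Main

open Groth.Agent.Lib.HilbCalc Groth.Agent.Lib.HilbCalc2 Groth.Agent.Lib.ShStabH6
open Groth.Agent.Lib.AbFilt

variable (k : Type u) [Field k] {X : Scheme.{u}} [X.Over (Spec (CommRingCat.of k))]
  [IsProper (X ↘ Spec (CommRingCat.of k))] {L : X.Modules} (hL : CohB1.IsAmple L)

include hL

theorem hilb_nonneg {G : X.Modules} (hG : Coh.IsCoh G) {H : ℚ[X]}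
    (hH : ShStab.IsHilbPoly k X L G H) : ∃ N : ℕ, ∀ m : ℕ, N ≤ m → 0 ≤ H.eval (m : ℚ) := by
  by_cases hz : IsZero G
  · refine ⟨0, fun m _ => ?_⟩
    rw [eq_zero_of_isZero k hL.1 hG hz hH, eval_zero]
  · obtain ⟨N, hN⟩ := eventually_pos k hL hG hz hH
    exact ⟨N, fun m hm => (hN m hm).le⟩

theorem hilb_le_of_mono {A B : X.Modules} (f : A ⟶ B) [Mono f] (hA : Coh.IsCoh A)
    (hB : Coh.IsCoh B) {PA PB : ℚ[X]} (hPA : ShStab.IsHilbPoly k X L A PA)
    (hPB : ShStab.IsHilbPoly k X L B PB) :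
    ∃ N : ℕ, ∀ m : ℕ, N ≤ m → PA.eval (m : ℚ) ≤ PB.eval (m : ℚ) := by
  haveI : IsLocallyNoetherian X :=
    LocallyOfFiniteType.isLocallyNoetherian (X ↘ Spec (CommRingCat.of k))
  have hc := CohKerH8.isCoh_cokernel hA hB f
  obtain ⟨PC, hPC⟩ := exists_hilbPoly k hL.1 _ hc
  have hT : (ShortComplex.mk f (cokernel.π f) (cokernel.condition _)).ShortExact :=
    { exact := ShortComplex.exact_cokernel _ }
  have heq := isHilbPoly_unique k hPB (isHilbPoly_add k hL.1 _ hT hA hB hc hPA hPC)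
  obtain ⟨N, hN⟩ := hilb_nonneg k hL hc hPC
  refine ⟨N, fun m hm => ?_⟩
  rw [heq, eval_add]
  linarith [hN m hm]


/-- the parabolic polynomial of the induced structure grows with the submodule. -/
theorem par_mono {E : X.Modules} (hE : Coh.IsCoh E) (𝓔 : ParSh.Str E)
    (hcoh : ∀ j, Coh.IsCoh ((𝓔.pieceX j : Subobject E) : X.Modules))
    {W W' : X.Modules} (ι : W ⟶ E) (ι' : W' ⟶ E) (j : W ⟶ W') [Mono j] (hj : j ≫ ι' = ι)
    (hW : Coh.IsCoh W) (hW' : Coh.IsCoh W')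
    (QX QX' : Fin (𝓔.l + 2) → ℚ[X])
    (hQX : ∀ i, ShStab.IsHilbPoly k X L (((𝓔.induced ι).pieceX i : Subobject W) : X.Modules)
      (QX i))
    (hQX' : ∀ i, ShStab.IsHilbPoly k X L (((𝓔.induced ι').pieceX i : Subobject W') : X.Modules)
      (QX' i)) :
    ∃ M : ℕ, ∀ m : ℕ, M ≤ m →
      (parPoly (𝓔.induced ι) QX).eval (m : ℝ) ≤ (parPoly (𝓔.induced ι') QX').eval (m : ℝ) := by
  haveI : IsLocallyNoetherian X :=
    LocallyOfFiniteType.isLocallyNoetherian (X ↘ Spec (CommRingCat.of k))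
  refine par_le_of_le (𝓔.induced ι) (𝓔.induced ι') rfl (fun i => rfl) QX QX' (fun i => ?_)
  have h1 := hQX i
  have h2 := hQX' i
  rw [Groth.Agent.Lib.ParHilbH7.induced_pieceX] at h1 h2
  exact hilb_le_of_mono k hL (pullbackMap ι ι' j hj (𝓔.pieceX i))
    (isCoh_pullback ι _ hW hE (hcoh i)) (isCoh_pullback ι' _ hW' hE (hcoh i)) h1 h2

/-- **S18531**. -/
theorem main18531 (I : X.IdealSheafData) {E : X.Modules} (hE : Coh.IsCoh E) (𝓔 : ParSh.Str E)
    (h𝓔 : 𝓔.Along I)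
    (hcoh : ∀ j, Coh.IsCoh ((𝓔.pieceX j : Subobject E) : X.Modules)) (d : ℕ) (hd : 1 ≤ d)
    (hsupp : topologicalKrullDim ↥(CohB1.support E ∩ (I.support : Set X)) < (d : WithBot ℕ∞))
    (h0 : ¬ IsZero E) (hpure : ShStab.IsPure X E d)
    (P : ℚ[X]) (hP : ShStab.IsHilbPoly k X L E P) (PX : Fin (𝓔.l + 2) → ℚ[X])
    (H : Fin (𝓔.l + 2) → ℚ[X])
    (hH : ∀ j, ShStab.IsHilbPoly k X L (cokernel (𝓔.pieceX j).arrow) (H j))
    (hss : (∀ (W : X.Modules) (ι : W ⟶ E), Mono ι → Coh.IsCoh W → ¬ IsZero W →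
        ShStab.IsPure X (cokernel ι) d →
        ∀ (Q : ℚ[X]) (QX : Fin (𝓔.l + 2) → ℚ[X]), ShStab.IsHilbPoly k X L W Q →
          (∀ j, ShStab.IsHilbPoly k X L (((𝓔.induced ι).pieceX j : Subobject W) : X.Modules)
            (QX j)) →
          ∃ M : ℕ, ∀ m : ℕ, M ≤ m →
            (parPoly (𝓔.induced ι) QX).eval (m : ℝ) * (alpha d P : ℝ) ≤
              (parPoly 𝓔 PX).eval (m : ℝ) * (alpha d Q : ℝ)))
    (hq : ∀ j : Fin (𝓔.l + 1),
      ShStab.IsSemistable k X L (cokernel (𝓔.pieceX j.succ).arrow) (d - 1))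
    {W : X.Modules} (ι : W ⟶ E) [Mono ι] (hW : Coh.IsCoh W)
    (Q : ℚ[X]) (hQ : ShStab.IsHilbPoly k X L W Q) (QH : Fin (𝓔.l + 2) → ℚ[X])
    (hQH : ∀ j, ShStab.IsHilbPoly k X L (cokernel ((𝓔.induced ι).pieceX j).arrow) (QH j))
    (hW0 : ¬ IsZero W) :
    ∃ M : ℕ, ∀ m : ℕ, M ≤ m →
      (parPolyOne 𝓔 d Q QH H).eval (m : ℝ) * (alpha d P : ℝ) ≤
        (parPoly 𝓔 PX).eval (m : ℝ) * (alpha d Q : ℝ) := by
  haveI : IsLocallyNoetherian X :=
    LocallyOfFiniteType.isLocallyNoetherian (X ↘ Spec (CommRingCat.of k))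
  have hax := ShStabH6.ax k hL d
  have hED : DimLE X d E := (dim_support_of_isPure hpure hE h0).le
  -- the saturation of `W`
  have hFok : Coh.IsCoh ((Subobject.mk ι : Subobject E) : X.Modules) :=
    hax.ok_iso (Subobject.underlyingIso ι).symm hW
  obtain ⟨F', hle, hF', hF'p, R, hR, hRα, -⟩ := exists_saturation hax hE hED hFok
  let j : W ⟶ (F' : X.Modules) :=
    (Subobject.underlyingIso ι).inv ≫ Subobject.ofLE (Subobject.mk ι) F' hle
  have hj : j ≫ F'.arrow = ι := by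
    simp only [j, Category.assoc, Subobject.ofLE_arrow, Subobject.underlyingIso_arrow]
  haveI : Mono j := by dsimp only [j]; infer_instance
  have hF'0 : ¬ IsZero (F' : X.Modules) := fun hz => hW0 (IsZero.of_mono j hz)
  have hQ' : ShStab.IsHilbPoly k X L (F' : X.Modules) (Q + R) := by
    have e1 : hpf (ShStab.IsHilbPoly k X L) ((Subobject.mk ι : Subobject E) : X.Modules) = Q :=
      hpf_eq hax hFok (hax.hp_iso (Subobject.underlyingIso ι).symm hQ)
    rw [← e1, ← hR]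
    exact hpf_spec hax hF'
  have hα : alpha d (Q + R) = alpha d Q := by rw [alpha_add, hRα, add_zero]
  -- Hilbert polynomials of the induced pieces
  have hcohW := isCoh_induced_pieceX ι 𝓔 hW hE hcoh
  have hcohW' := isCoh_induced_pieceX F'.arrow 𝓔 hF' hE hcoh
  choose QX hQX using fun i => exists_hilbPoly k hL.1 _ (hcohW i)
  choose QX' hQX' using fun i => exists_hilbPoly k hL.1 _ (hcohW' i)
  obtain ⟨M1, h1⟩ := hss (F' : X.Modules) F'.arrow inferInstance hF' hF'0 hF'p (Q + R) QX' hQ' hQX'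
  obtain ⟨M2, h2⟩ := polyOne_le_par k hL hE 𝓔 hcoh d (small_cokernel_pieceX I 𝓔 h𝓔 hsupp) H hH
    hq ι hW Q hQ QX hQX QH hQH
  obtain ⟨M3, h3⟩ := par_mono k hL hE 𝓔 hcoh ι F'.arrow j hj hW hF' QX QX' hQX hQX'
  have hαP : (0 : ℝ) < (alpha d P : ℝ) := by
    exact_mod_cast alpha_pos k hL hE d (dim_support_of_isPure hpure hE h0) hP
  refine ⟨max M1 (max M2 M3), fun m hm => ?_⟩
  have a1 := h1 m (le_trans (le_max_left _ _) hm)
  have a2 := h2 m (le_trans (le_trans (le_max_left _ _) (le_max_right _ _)) hm)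
  have a3 := h3 m (le_trans (le_trans (le_max_right _ _) (le_max_right _ _)) hm)
  rw [hα] at a1
  calc (parPolyOne 𝓔 d Q QH H).eval (m : ℝ) * (alpha d P : ℝ)
      ≤ (parPoly (𝓔.induced F'.arrow) QX').eval (m : ℝ) * (alpha d P : ℝ) :=
        mul_le_mul_of_nonneg_right (a2.trans a3) hαP.le
    _ ≤ _ := a1

end Main

end Groth.Agent.Lib.ParShH6
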