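import Mathlib
import Groth.Prelude
import Groth.Agent.Lib.ParSh7_helper6

/-!
# Parabolic sheaves: tools for kernels and images of parabolic homomorphisms (helper6)

`str_norm` (equal sets of weights), `factors_of_isParHom`, `image_le_pullback`, `hilb_image`,
`at_eq_of_pieceX_eq`, `eq_of_le_of_hilb_eq`, `poly_eq_of_eventually_eq`.
APPEND-ONLY once landed.
-/

set_option autoImplicit false
set_option linter.all false
set_option maxHeartbeats 1600000

universe u v
open CategoryTheory CategoryTheory.Limits AlgebraicGeometry TopologicalSpace Opposite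
open Polynomial StabCat W4swparbununimod Filter Topology

namespace Groth.Agent.Lib.ParShH6

section Generic

variable {C : Type u} [Category.{v} C]

/-- structures with the same set of weights have the same length. -/
theorem str_l_eq {E F : C} (𝓔 : ParSh.Str E) (𝓕 : ParSh.Str F)
    (hw : Set.range 𝓕.wt = Set.range 𝓔.wt) : 𝓕.l = 𝓔.l := by
  have h1 : Nat.card (Set.range 𝓕.wt) = 𝓕.l + 1 := by
    rw [Nat.card_congr (Equiv.ofInjective 𝓕.wt 𝓕.wt_strictMono.injective).symm]
    simp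
  have h2 : Nat.card (Set.range 𝓔.wt) = 𝓔.l + 1 := by
    rw [Nat.card_congr (Equiv.ofInjective 𝓔.wt 𝓔.wt_strictMono.injective).symm]
    simp
  rw [hw] at h1
  omega

variable [Abelian C]

/-- the image of `S ⟶ E ⟶ V` lies in `u⁻¹T` when `S ⟶ E ⟶ V ⟶ F` factors through `T`. -/
theorem image_le_pullback {E V F : C} (q : E ⟶ V) (u : V ⟶ F) (S : Subobject E)
    (T : Subobject F) (h : T.Factors (S.arrow ≫ q ≫ u)) :
    imageSubobject (S.arrow ≫ q) ≤ (Subobject.pullback u).obj T := by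
  have sq := Subobject.isPullback u T
  refine imageSubobject_le _ (sq.lift (T.factorThru _ h) (S.arrow ≫ q) ?_) (sq.lift_snd _ _ _)
  rw [Subobject.factorThru_arrow, Category.assoc]

/-- two structures on the same object with the same weights and extended pieces have the same
real filtration. -/
theorem at_eq_of_pieceX_eq {V : C} (𝓐 𝓑 : ParSh.Str V) (hl : 𝓑.l = 𝓐.l)
    (hwt : ∀ j : Fin (𝓐.l + 1), 𝓑.wt (Fin.cast (by rw [hl]) j) = 𝓐.wt j)
    (hp : ∀ i : Fin (𝓐.l + 2), 𝓑.pieceX (Fin.cast (by rw [hl]) i) = 𝓐.pieceX i) (a : ℝ) :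
    𝓐.at a = 𝓑.at a := by
  obtain ⟨lB, pB, bB, wB, h1, h2, h3, h4, h5, h6⟩ := 𝓑
  simp only at hl
  subst hl
  have e1 : wB = 𝓐.wt := funext hwt
  subst e1
  have e2 : pB = 𝓐.piece := by
    funext j
    have := hp j.castSucc
    simpa using this
  have e3 : bB = 𝓐.bot := by
    have := hp (Fin.last _)
    simpa using this
  subst e2 e3
  rfl


theorem wt_lt_one' {E : C} (𝓔 : ParSh.Str E) (j : Fin (𝓔.l + 1)) : 𝓔.wt j < 1 :=
  lt_of_le_of_lt (𝓔.wt_strictMono.monotone (Fin.le_last j)) 𝓔.wt_lt_one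

/-- a parabolic homomorphism between structures with the same weights maps pieces to pieces. -/
theorem factors_of_isParHom {E F : C} (𝓔 : ParSh.Str E) (𝓕 : ParSh.Str F) (f : E ⟶ F)
    (hf : ParSh.IsParHom 𝓔 𝓕 f)
    (pieceF : Fin (𝓔.l + 1) → Subobject F) (botF : Subobject F)
    (h1 : pieceF 0 = ⊤) (h2 : Antitone pieceF) (h3 : ∀ j, botF ≤ pieceF j)
    (h4 : StrictMono 𝓔.wt) (h5 : 0 ≤ 𝓔.wt 0) (h6 : 𝓔.wt (Fin.last 𝓔.l) < 1)
    (h𝓕 : 𝓕 = ParSh.Str.mk 𝓔.l pieceF botF 𝓔.wt h1 h2 h3 h4 h5 h6) (i : Fin (𝓔.l + 2)) :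
    ((ParSh.Str.mk 𝓔.l pieceF botF 𝓔.wt h1 h2 h3 h4 h5 h6 : ParSh.Str F).pieceX i).Factors
      ((𝓔.pieceX i).arrow ≫ f) := by
  subst h𝓕
  induction i using Fin.lastCases with
  | last =>
    have h := hf 1 zero_le_one le_rfl
    rw [𝓔.at_eq_bot (fun j => wt_lt_one' 𝓔 j),
      (ParSh.Str.mk 𝓔.l pieceF botF 𝓔.wt h1 h2 h3 h4 h5 h6 : ParSh.Str F).at_eq_bot
        (fun j => wt_lt_one' 𝓔 j)] at h
    rw [ParSh.Str.pieceX_last, ParSh.Str.pieceX_last]
    exact h
  | cast j =>
    have h := hf (𝓔.wt j) (wt_nonneg' 𝓔 j) (wt_lt_one' 𝓔 j).le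
    rw [𝓔.at_eq_piece j le_rfl (fun j' hj' => 𝓔.wt_strictMono hj'),
      (ParSh.Str.mk 𝓔.l pieceF botF 𝓔.wt h1 h2 h3 h4 h5 h6 : ParSh.Str F).at_eq_piece j le_rfl
        (fun j' hj' => 𝓔.wt_strictMono hj')] at h
    rw [ParSh.Str.pieceX_castSucc, ParSh.Str.pieceX_castSucc]
    exact h

end Generic


section Arith

/-- polynomials agreeing at all large natural numbers are equal. -/
theorem poly_eq_of_eventually_eq {P Q : ℚ[X]} (M : ℕ)
    (h : ∀ m : ℕ, M ≤ m → P.eval (m : ℚ) = Q.eval (m : ℚ)) : P = Q := by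
  rw [← sub_eq_zero]
  apply Polynomial.eq_zero_of_infinite_isRoot
  have hinf : Set.Infinite (Set.range fun n : ℕ => ((n + M : ℕ) : ℚ)) :=
    Set.infinite_range_of_injective (fun a b hab => by
      have : (a + M : ℕ) = b + M := by exact_mod_cast hab
      omega)
  refine hinf.mono ?_
  rintro x ⟨n, rfl⟩
  show IsRoot (P - Q) _
  rw [IsRoot.def, eval_sub, h (n + M) (Nat.le_add_left _ _), sub_self]

theorem real_poly_eq_of_eventually_eq {P Q : ℝ[X]} (M : ℕ)
    (h : ∀ m : ℕ, M ≤ m → P.eval (m : ℝ) = Q.eval (m : ℝ)) : P = Q := by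
  rw [← sub_eq_zero]
  apply Polynomial.eq_zero_of_infinite_isRoot
  have hinf : Set.Infinite (Set.range fun n : ℕ => ((n + M : ℕ) : ℝ)) :=
    Set.infinite_range_of_injective (fun a b hab => by
      have : (a + M : ℕ) = b + M := by exact_mod_cast hab
      omega)
  refine hinf.mono ?_
  rintro x ⟨n, rfl⟩
  show IsRoot (P - Q) _
  rw [IsRoot.def, eval_sub, h (n + M) (Nat.le_add_left _ _), sub_self]

/-- the chain of inequalities in the kernel–image argument. -/
theorem chain_arith {xK xq xs x' e g a r v κ : ℝ} (ha : 0 < a) (hr : 0 < r)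
    (h1 : xK * a ≤ e * κ) (h2 : xK + xq = e) (h3 : xq ≤ xs) (h4 : xs ≤ x')
    (h5 : x' * r ≤ g * v) (h6 : e * r = g * a) (h7 : a = κ + v) :
    xq = xs ∧ xs = x' ∧ xK * a = e * κ := by
  have b1 : e * v ≤ xq * a := by
    have t1 : xq * a = e * a - xK * a := by rw [← h2]; ring
    have t2 : e * a = e * κ + e * v := by rw [h7]; ring
    rw [t1, t2]
    linarith
  have b2 : x' * a ≤ e * v := by
    have c1 : x' * r * a ≤ g * v * a := mul_le_mul_of_nonneg_right h5 ha.le
    have c2 : g * v * a = e * v * r := by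
      calc g * v * a = (g * a) * v := by ring
        _ = (e * r) * v := by rw [h6]
        _ = e * v * r := by ring
    rw [c2] at c1
    have c3 : (x' * a) * r ≤ (e * v) * r := by
      calc (x' * a) * r = x' * r * a := by ring
        _ ≤ e * v * r := c1
    exact le_of_mul_le_mul_right c3 hr
  have b3 : xq * a ≤ xs * a := mul_le_mul_of_nonneg_right h3 ha.le
  have b4 : xs * a ≤ x' * a := mul_le_mul_of_nonneg_right h4 ha.le
  have e1 : xq * a = xs * a := le_antisymm b3 (by linarith)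
  have e2 : xs * a = x' * a := le_antisymm b4 (by linarith)
  refine ⟨mul_right_cancel₀ ha.ne' e1, mul_right_cancel₀ ha.ne' e2, ?_⟩
  have e3 : xq * a = e * v := le_antisymm (by linarith) b1
  have t3 : xK * a = e * a - xq * a := by rw [← h2]; ring
  have t4 : e * a = e * κ + e * v := by rw [h7]; ring
  rw [t3, e3, t4]
  ring

/-- termwise equality from equality of positive combinations. -/
theorem termwise_eq {l : ℕ} (W : Fin (l + 2) → ℝ) (x y : Fin (l + 2) → ℝ)
    (hW0 : 0 < W 0) (hW : ∀ j : Fin (l + 1), 0 < W j.succ - W j.castSucc)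
    (hle : ∀ i, x i ≤ y i)
    (heq : W 0 * x 0 + ∑ j : Fin (l + 1), (W j.succ - W j.castSucc) * x j.succ =
      W 0 * y 0 + ∑ j : Fin (l + 1), (W j.succ - W j.castSucc) * y j.succ) :
    ∀ i, x i = y i := by
  have h0 : W 0 * x 0 ≤ W 0 * y 0 := mul_le_mul_of_nonneg_left (hle 0) hW0.le
  have hs : ∀ j ∈ (Finset.univ : Finset (Fin (l + 1))),
      (W j.succ - W j.castSucc) * x j.succ ≤ (W j.succ - W j.castSucc) * y j.succ :=
    fun j _ => mul_le_mul_of_nonneg_left (hle j.succ) (hW j).le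
  have hsum := Finset.sum_le_sum hs
  have e0 : W 0 * x 0 = W 0 * y 0 := le_antisymm h0 (by linarith)
  have es : ∑ j : Fin (l + 1), (W j.succ - W j.castSucc) * x j.succ =
      ∑ j : Fin (l + 1), (W j.succ - W j.castSucc) * y j.succ := by linarith
  have ej := (Finset.sum_eq_sum_iff_of_le hs).mp es
  intro i
  induction i using Fin.cases with
  | zero => exact mul_left_cancel₀ hW0.ne' e0
  | succ j => exact mul_left_cancel₀ (hW j).ne' (ej j (Finset.mem_univ j))

end Arith


section Sch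

open Groth.Agent.Lib.HilbCalc Groth.Agent.Lib.HilbCalc2 Groth.Agent.Lib.ShStabH6
open Groth.Agent.Lib.AbFilt

variable (k : Type u) [Field k] {X : Scheme.{u}} [X.Over (Spec (CommRingCat.of k))]
  [IsProper (X ↘ Spec (CommRingCat.of k))] {L : X.Modules} (hL : CohB1.IsAmple L)

include hL

include k in
theorem isCoh_image {A E : X.Modules} (φ : A ⟶ E) (hA : Coh.IsCoh A) (hE : Coh.IsCoh E) :
    Coh.IsCoh ((imageSubobject φ : Subobject E) : X.Modules) :=
  ok_imageSubobject (ShStabH6.ax k hL 0) φ hA hE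

/-- the Hilbert polynomial of the image of `S` in the quotient `V = E / K`. -/
theorem hilb_image {K E V : X.Modules} (j : K ⟶ E) (q : E ⟶ V) (w : j ≫ q = 0)
    (hS : (ShortComplex.mk j q w).ShortExact) (hV : Coh.IsCoh V) (S : Subobject E)
    (hS' : Coh.IsCoh (S : X.Modules)) {A B : ℚ[X]}
    (hA : ShStab.IsHilbPoly k X L ((Subobject.pullback j).obj S : X.Modules) A)
    (hB : ShStab.IsHilbPoly k X L (S : X.Modules) B) :
    ShStab.IsHilbPoly k X L (imageSubobject (S.arrow ≫ q) : X.Modules) (B - A) := by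
  intro m
  have h := Groth.Agent.Lib.ParHilbH7.chi_sub k hL.1 m j q w hS hV S hS'
  unfold Groth.Agent.Lib.ParHilbH7.chiTw at h
  rw [eval_sub, ← hA m, ← hB m, ← h]
  push_cast
  ring

/-- coherent subobjects `S ≤ T` with the same Hilbert polynomial are equal. -/
theorem eq_of_le_of_hilb_eq {E : X.Modules} {S T : Subobject E} (h : S ≤ T)
    (hS : Coh.IsCoh (S : X.Modules)) (hT : Coh.IsCoh (T : X.Modules)) {P : ℚ[X]}
    (hPS : ShStab.IsHilbPoly k X L (S : X.Modules) P)
    (hPT : ShStab.IsHilbPoly k X L (T : X.Modules) P) : S = T := by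
  have hax := ShStabH6.ax k hL 0
  refine le_antisymm h (le_of_isZero_cokernel_ofLE h ?_)
  have h1 := hpf_quot hax h hS hT
  rw [hpf_eq hax hS hPS, hpf_eq hax hT hPT] at h1
  have h2 : hpf (ShStab.IsHilbPoly k X L) (cokernel (Subobject.ofLE S T h)) = 0 := by
    have := h1
    linear_combination (exp := 1) -this
  exact isZero_of_hpf_eq_zero hax (ok_quot hax h hS hT) h2

/-- a monomorphism between coherent modules with the same Hilbert polynomial is an
isomorphism. -/
theorem isIso_of_mono_of_hilb_eq {A B : X.Modules} (φ : A ⟶ B) [Mono φ] (hA : Coh.IsCoh A)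
    (hB : Coh.IsCoh B) {P : ℚ[X]} (hPA : ShStab.IsHilbPoly k X L A P)
    (hPB : ShStab.IsHilbPoly k X L B P) : IsIso φ := by
  haveI : IsLocallyNoetherian X :=
    LocallyOfFiniteType.isLocallyNoetherian (X ↘ Spec (CommRingCat.of k))
  have hc := CohKerH8.isCoh_cokernel hA hB φ
  obtain ⟨PC, hPC⟩ := exists_hilbPoly k hL.1 _ hc
  have hT : (ShortComplex.mk φ (cokernel.π φ) (cokernel.condition _)).ShortExact :=
    { exact := ShortComplex.exact_cokernel _ }
  have heq := isHilbPoly_unique k hPB (isHilbPoly_add k hL.1 _ hT hA hB hc hPA hPC)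
  have h0 : PC = 0 := by linear_combination (exp := 1) -heq
  have hz : IsZero (cokernel φ) := isZero_of_isHilbPoly_zero k hL hc (h0 ▸ hPC)
  haveI : Epi φ := Preadditive.epi_of_isZero_cokernel _ hz
  exact isIso_of_mono_of_epi φ

end Sch

end Groth.Agent.Lib.ParShH6
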