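import Mathlib
import Groth.Prelude
import Groth.Agent.Lib.ParSh8_helper6

/-!
# Parabolic bundles: the parabolic sum as an integral of the real filtration (helper6)

* `exists_index`: `F_a` is the extended piece of an index determined by the weights.
* `at_formula`: `f(F_a) - f(bot) = Σ_j (f(F_j) - f(F_{j+1})) · [a ≤ w_j]`.
* `parSum_eq_integral`: `parSum f = ∫₀¹ f(F_a) da`.
* `parSum_le_parSum`: monotonicity of the parabolic sum (structures with different weights).
APPEND-ONLY once landed.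
-/

set_option autoImplicit false
set_option linter.all false
set_option maxHeartbeats 1600000

universe u v
open CategoryTheory CategoryTheory.Limits

namespace Groth.Agent.Lib.ParBunH6

section Generic

variable {C : Type u} [Category.{v} C] [Abelian C] {E : C}

/-- the index of the piece `F_a` -/
theorem exists_index (𝓔 : ParSh.Str E) (a : ℝ) :
    ∃ m : Fin (𝓔.l + 2), 𝓔.at a = 𝓔.pieceX m ∧
      ∀ j : Fin (𝓔.l + 1), (a ≤ 𝓔.wt j ↔ m ≤ j.castSucc) := by
  classical
  by_cases h : ∃ j, a ≤ 𝓔.wt j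
  · let s : Finset (Fin (𝓔.l + 1)) := Finset.univ.filter (fun j => a ≤ 𝓔.wt j)
    have hs : s.Nonempty := by
      obtain ⟨j, hj⟩ := h
      exact ⟨j, Finset.mem_filter.mpr ⟨Finset.mem_univ _, hj⟩⟩
    have hm0 : a ≤ 𝓔.wt (s.min' hs) := (Finset.mem_filter.mp (s.min'_mem hs)).2
    refine ⟨(s.min' hs).castSucc, ?_, ?_⟩
    · rw [𝓔.pieceX_castSucc]
      refine 𝓔.at_eq_piece (s.min' hs) hm0 (fun j' hj' => ?_)
      by_contra hcon
      have hcon' : a ≤ 𝓔.wt j' := not_lt.mp hcon
      have : j' ∈ s := Finset.mem_filter.mpr ⟨Finset.mem_univ _, hcon'⟩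
      exact absurd (s.min'_le j' this) (not_le.mpr hj')
    · intro j
      rw [Fin.castSucc_le_castSucc_iff]
      constructor
      · intro hj
        exact s.min'_le j (Finset.mem_filter.mpr ⟨Finset.mem_univ _, hj⟩)
      · intro hj
        exact le_trans hm0 (𝓔.wt_strictMono.monotone hj)
  · have h' : ∀ j, 𝓔.wt j < a := fun j => not_le.mp (fun hj => h ⟨j, hj⟩)
    refine ⟨Fin.last _, ?_, ?_⟩
    · rw [𝓔.pieceX_last]
      exact 𝓔.at_eq_bot h'
    · intro j
      constructor
      · intro hj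
        exact absurd hj (not_le.mpr (h' j))
      · intro hj
        exact absurd hj (not_le.mpr (Fin.castSucc_lt_last j))

/-- the piece `F_a` is determined by the index attached to `a` by the weights -/
theorem at_eq_of_index (𝓔 : ParSh.Str E) (a : ℝ) (m : Fin (𝓔.l + 2))
    (h : ∀ j : Fin (𝓔.l + 1), (a ≤ 𝓔.wt j ↔ m ≤ j.castSucc)) : 𝓔.at a = 𝓔.pieceX m := by
  induction m using Fin.lastCases with
  | last =>
    rw [𝓔.pieceX_last]
    refine 𝓔.at_eq_bot (fun j => not_le.mp (fun hj => ?_))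
    exact absurd ((h j).mp hj) (not_le.mpr (Fin.castSucc_lt_last j))
  | cast j0 =>
    rw [𝓔.pieceX_castSucc]
    refine 𝓔.at_eq_piece j0 ((h j0).mpr le_rfl) (fun j' hj' => not_le.mp (fun hcon => ?_))
    have := (h j').mp hcon
    rw [Fin.castSucc_le_castSucc_iff] at this
    exact absurd this (not_le.mpr hj')

theorem telescope (l : ℕ) (A : Fin (l + 2) → ℝ) (m : Fin (l + 2)) :
    ∑ j : Fin (l + 1), (if m ≤ j.castSucc then A j.castSucc - A j.succ else 0) =
      A m - A (Fin.last (l + 1)) := by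
  induction m using Fin.reverseInduction with
  | last =>
    rw [sub_self]
    refine Finset.sum_eq_zero (fun j _ => ?_)
    rw [if_neg (not_le.mpr (Fin.castSucc_lt_last j))]
  | cast i ih =>
    have key : ∀ j : Fin (l + 1),
        (if i.castSucc ≤ j.castSucc then A j.castSucc - A j.succ else 0) =
        (if j = i then A j.castSucc - A j.succ else 0) +
          (if i.succ ≤ j.castSucc then A j.castSucc - A j.succ else 0) := by
      intro j
      have h1 : i.castSucc ≤ j.castSucc ↔ i ≤ j := Fin.castSucc_le_castSucc_iff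
      have h2 : i.succ ≤ j.castSucc ↔ i < j := by
        rw [Fin.le_iff_val_le_val, Fin.lt_iff_val_lt_val]
        simp only [Fin.val_succ, Fin.val_castSucc]
        omega
      rcases lt_trichotomy i j with h | h | h
      · rw [if_pos (h1.mpr h.le), if_neg (ne_of_gt h), if_pos (h2.mpr h), zero_add]
      · subst h
        rw [if_pos (h1.mpr le_rfl), if_pos rfl, if_neg (fun h' => lt_irrefl _ (h2.mp h')),
          add_zero]
      · rw [if_neg (fun h' => not_le.mpr h (h1.mp h')), if_neg (ne_of_lt h),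
          if_neg (fun h' => lt_asymm h (h2.mp h')), add_zero]
    rw [Finset.sum_congr rfl (fun j _ => key j), Finset.sum_add_distrib, ih,
      Finset.sum_ite_eq' Finset.univ i, if_pos (Finset.mem_univ i)]
    ring

theorem at_formula (𝓔 : ParSh.Str E) (f : C → ℝ) (a : ℝ) :
    f (𝓔.at a : C) - f (𝓔.bot : C) =
      ∑ j : Fin (𝓔.l + 1), (f (𝓔.piece j : C) - f (𝓔.pieceX j.succ : C)) *
        (if a ≤ 𝓔.wt j then (1 : ℝ) else 0) := by
  obtain ⟨m, hm, hiff⟩ := exists_index 𝓔 a
  have ht := telescope 𝓔.l (fun i => f (𝓔.pieceX i : C)) m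
  simp only [𝓔.pieceX_last] at ht
  rw [hm, ← ht]
  refine Finset.sum_congr rfl (fun j _ => ?_)
  by_cases h : a ≤ 𝓔.wt j
  · rw [if_pos h, if_pos ((hiff j).mp h), mul_one, 𝓔.pieceX_castSucc]
  · rw [if_neg h, if_neg (fun h' => h ((hiff j).mpr h')), mul_zero]

theorem integral_ite_le (w : ℝ) (h0 : 0 ≤ w) (h1 : w ≤ 1) :
    ∫ a in (0:ℝ)..1, (if a ≤ w then (1:ℝ) else 0) = w := by
  have e : (fun a : ℝ => if a ≤ w then (1:ℝ) else 0) =
      Set.indicator {x | x ≤ w} (fun _ => (1:ℝ)) := by
    funext a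
    by_cases h : a ≤ w
    · rw [if_pos h, Set.indicator_of_mem (show a ∈ {x | x ≤ w} from h)]
    · rw [if_neg h, Set.indicator_of_notMem (show a ∉ {x | x ≤ w} from h)]
  rw [e, intervalIntegral.integral_indicator (Set.mem_Icc.mpr ⟨h0, h1⟩),
    intervalIntegral.integral_const]
  simp

theorem intervalIntegrable_ite_le (w c : ℝ) :
    IntervalIntegrable (fun a : ℝ => c * (if a ≤ w then (1:ℝ) else 0)) MeasureTheory.volume 0 1 := by
  have hanti : Antitone (fun a : ℝ => if a ≤ w then (1:ℝ) else 0) := by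
    intro a b hab
    show (if b ≤ w then (1:ℝ) else 0) ≤ (if a ≤ w then (1:ℝ) else 0)
    by_cases hb : b ≤ w
    · rw [if_pos hb, if_pos (le_trans hab hb)]
    · rw [if_neg hb]
      split_ifs <;> norm_num
  exact (hanti.intervalIntegrable).const_mul c

theorem intervalIntegrable_sum_ite (l : ℕ) (c w : Fin (l + 1) → ℝ) :
    IntervalIntegrable (fun a : ℝ => ∑ j, c j * (if a ≤ w j then (1:ℝ) else 0))
      MeasureTheory.volume 0 1 := by
  have := IntervalIntegrable.sum Finset.univ
    (fun j _ => intervalIntegrable_ite_le (w j) (c j)) (μ := MeasureTheory.volume) (a := 0) (b := 1)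
  have e : (fun a : ℝ => ∑ j, c j * (if a ≤ w j then (1:ℝ) else 0)) =
      ∑ j, fun a : ℝ => c j * (if a ≤ w j then (1:ℝ) else 0) := by
    funext a
    rw [Finset.sum_apply]
  rw [e]
  exact this

theorem intervalIntegrable_at (𝓔 : ParSh.Str E) (f : C → ℝ) :
    IntervalIntegrable (fun a : ℝ => f (𝓔.at a : C)) MeasureTheory.volume 0 1 := by
  have h1 : (fun a : ℝ => f (𝓔.at a : C)) = fun a => f (𝓔.bot : C) +
      ∑ j : Fin (𝓔.l + 1), (f (𝓔.piece j : C) - f (𝓔.pieceX j.succ : C)) *
        (if a ≤ 𝓔.wt j then (1 : ℝ) else 0) := by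
    funext a
    linarith [at_formula 𝓔 f a]
  rw [h1]
  exact IntervalIntegrable.add intervalIntegrable_const (intervalIntegrable_sum_ite _ _ _)

/-- the parabolic sum is the integral of `f` along the real filtration -/
theorem parSum_eq_integral (𝓔 : ParSh.Str E) (f : C → ℝ) :
    𝓔.parSum f = ∫ a in (0:ℝ)..1, f (𝓔.at a : C) := by
  have h1 : (fun a : ℝ => f (𝓔.at a : C)) = fun a => f (𝓔.bot : C) +
      ∑ j : Fin (𝓔.l + 1), (f (𝓔.piece j : C) - f (𝓔.pieceX j.succ : C)) *
        (if a ≤ 𝓔.wt j then (1 : ℝ) else 0) := by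
    funext a
    linarith [at_formula 𝓔 f a]
  rw [h1, intervalIntegral.integral_add intervalIntegrable_const
    (intervalIntegrable_sum_ite _ _ _),
    intervalIntegral.integral_const,
    intervalIntegral.integral_finset_sum (fun j _ => intervalIntegrable_ite_le _ _)]
  unfold ParSh.Str.parSum
  congr 1
  · simp
  · refine Finset.sum_congr rfl (fun j _ => ?_)
    rw [intervalIntegral.integral_const_mul,
      integral_ite_le _ (ParShH6.wt_nonneg' 𝓔 j) (ParShH6.wt_lt_one' 𝓔 j).le]
    ring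

/-- monotonicity of the parabolic sum in the real filtration -/
theorem parSum_le_parSum {E' : C} (𝓔 : ParSh.Str E) (𝓔' : ParSh.Str E') (f : C → ℝ)
    (h : ∀ a : ℝ, 0 ≤ a → a ≤ 1 → f (𝓔.at a : C) ≤ f (𝓔'.at a : C)) :
    𝓔.parSum f ≤ 𝓔'.parSum f := by
  rw [parSum_eq_integral, parSum_eq_integral]
  exact intervalIntegral.integral_mono_on zero_le_one (intervalIntegrable_at 𝓔 f)
    (intervalIntegrable_at 𝓔' f) (fun a ha => h a ha.1 ha.2)

end Generic

end Groth.Agent.Lib.ParBunH6
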