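import Mathlib
import Groth.Prelude
import Groth.Agent.Lib.ParBun1_helper6
import Groth.Agent.Lib.ZeroDimAcyc_helper9
import Groth.Agent.Lib.QCohCrit2_helper9
import Groth.Agent.Lib.CohDev14_helper8
import Groth.Agent.Lib.Desc1_helper8
import Groth.Agent.Lib.CohKer_helper8
import Groth.Agent.Lib.VBCurve1_helper9
import Groth.Agent.Lib.CurveIdeal1_helper9

/-!
# Parabolic bundles: automatic coherence of the pieces (helper6)

* `isQuasicoherent_of_mono_discrete`: a sub-`O_X`-module of a coherent module whose support is a
  set of closed points is quasi-coherent (hence coherent).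
* `isCoh_of_twistSub_le`: a subobject `P` of a coherent `V` containing `I · V` is coherent, when
  the support of `I` consists of closed points.
APPEND-ONLY once landed.
-/

set_option autoImplicit false
set_option linter.all false
set_option maxHeartbeats 1600000

universe u
open CategoryTheory CategoryTheory.Limits AlgebraicGeometry TopologicalSpace Opposite

namespace Groth.Agent.Lib.ParBunH6

section AC

variable {X : Scheme.{u}} [IsLocallyNoetherian X]

/-- a sub-`O_X`-module of a coherent module supported at closed points is quasi-coherent -/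
theorem isQuasicoherent_of_mono_discrete {K G : X.Modules} (i : K ⟶ G) [Mono i]
    (hG : Coh.IsCoh G) (h0 : ∀ x ∈ CohB1.support G, IsClosed ({x} : Set X)) :
    K.IsQuasicoherent := by
  haveI := hG.1
  haveI : SheafOfModules.IsFiniteType (R := X.ringCatSheaf) G := hG.2
  have hcl := SuppFT.isClosed_support G
  have hK0 : ∀ x, x ∉ CohB1.support G → Subsingleton (K.presheaf.stalk x) := by
    intro x hx
    have hGs : Subsingleton (G.presheaf.stalk x) := not_not.mp hx
    exact (DescH8.stk_injective_of_mono i x).subsingleton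
  haveI hfl : TopCat.Sheaf.IsFlasque (Coh.toAb K) :=
    ZeroDimAcyc.isFlasque_of_discrete_support (Coh.toAb K) (CohB1.support G) hK0
      (fun T hT => ZeroDimAcyc.isClosed_of_subset X _ hcl h0 T hT)
  refine QCohCrit.isQuasicoherent_of_locOnU K (fun U => ?_)
  intro a
  have LG := QCohCrit.locOnU_of_isQuasicoherent G U.2 a
  refine ⟨U.2.isLocalization_basicOpen a, fun x m => Scheme.Modules.map_smul _ _ x m, ?_, ?_⟩
  · intro m'
    have hepi := hfl.epi (homOfLE (X.basicOpen_le a)).op
    rw [AddCommGrpCat.epi_iff_surjective] at hepi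
    obtain ⟨m, hm⟩ := hepi m'
    exact ⟨0, m, by rw [pow_zero, one_smul]; exact hm.symm⟩
  · intro m hm
    have hnat : (G.presheaf.map (homOfLE (X.basicOpen_le a)).op).hom (i.app U.1 m) =
        i.app (X.basicOpen a) ((K.presheaf.map (homOfLE (X.basicOpen_le a)).op).hom m) := by
      have := congrArg (fun φ => φ.hom m) (i.mapPresheaf.naturality (homOfLE (X.basicOpen_le a)).op)
      exact this.symm
    have h1 : (G.presheaf.map (homOfLE (X.basicOpen_le a)).op).hom (i.app U.1 m) = 0 := by
      rw [hnat, hm, map_zero]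
    obtain ⟨n, hn⟩ := LG.ker _ h1
    refine ⟨n, ?_⟩
    apply QCohExact.app_injective_of_mono i U.1
    rw [map_zero, ← hn]
    exact Scheme.Modules.Hom.app_smul i _ _

theorem isCoh_imageSubobject {A E : X.Modules} (φ : A ⟶ E) (hA : Coh.IsCoh A)
    (hE : Coh.IsCoh E) : Coh.IsCoh ((imageSubobject φ : Subobject E) : X.Modules) :=
  CohDevH8.isCoh_of_iso (imageSubobjectIso φ ≪≫ (Abelian.imageIsoImage φ).symm)
    (show Coh.IsCoh (kernel (cokernel.π φ)) from
      CohKerH8.isCoh_kernel hE (CohKerH8.isCoh_cokernel hA hE φ) (cokernel.π φ))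

theorem isCoh_twistSub (I : X.IdealSheafData) {V : X.Modules} (hV : Coh.IsCoh V) :
    Coh.IsCoh ((ParSh.twistSub I V : Subobject V) : X.Modules) :=
  isCoh_imageSubobject _ (RelAmpleVanH9.isCoh_tensorMod hV (CurveIdeal.isCoh_idealMod I)) hV

/-- **automatic coherence**: a subobject of a coherent module `V` containing `I · V` is coherent
when the support of `I` consists of closed points -/
theorem isCoh_of_twistSub_le (I : X.IdealSheafData)
    (hI0 : ∀ x ∈ (I.support : Set X), IsClosed ({x} : Set X))
    {V : X.Modules} (hV : Coh.IsCoh V) (P : Subobject V) (h : ParSh.twistSub I V ≤ P) :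
    Coh.IsCoh (P : X.Modules) := by
  have hBc := isCoh_twistSub I hV
  have hGc : Coh.IsCoh (cokernel (ParSh.twistSub I V).arrow) :=
    CohKerH8.isCoh_cokernel hBc hV _
  have hG0 : ∀ x ∈ CohB1.support (cokernel (ParSh.twistSub I V).arrow),
      IsClosed ({x} : Set X) :=
    fun x hx => hI0 x (ParShH6.support_cokernel_twistSub I V hx).2
  let π := ParShH6.quotLE h
  have hKq : (kernel π).IsQuasicoherent :=
    isQuasicoherent_of_mono_discrete (kernel.ι π) hGc hG0
  have hKc : Coh.IsCoh (kernel π) := CohDevH8.isCoh_of_mono (kernel.ι π) hKq hGc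
  have hQ' : Coh.IsCoh (cokernel (kernel.ι π)) := CohKerH8.isCoh_cokernel hKc hGc _
  have e1 :=
    IsColimit.coconePointUniqueUpToIso (cokernelIsCokernel (kernel.ι π))
      (Abelian.epiIsCokernelOfKernel (KernelFork.ofι (kernel.ι π) (kernel.condition π))
        (kernelIsKernel π))
  have hQc : Coh.IsCoh (cokernel P.arrow) := CohDevH8.isCoh_of_iso e1.symm hQ'
  have e2 :=
    IsLimit.conePointUniqueUpToIso
      (Abelian.monoIsKernelOfCokernel
        (CokernelCofork.ofπ (cokernel.π P.arrow) (cokernel.condition P.arrow))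
        (cokernelIsCokernel P.arrow)) (kernelIsKernel (cokernel.π P.arrow))
  exact CohDevH8.isCoh_of_iso e2 (CohKerH8.isCoh_kernel hV hQc _)

end AC

end Groth.Agent.Lib.ParBunH6
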