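import Mathlib
import Groth.Prelude
import Groth.Agent.Lib.ParBun2_helper6
import Groth.Agent.Lib.GPBun2_helper6
import Groth.Agent.Lib.DefoConnTriv_helper7

/-!
# Parabolic bundles: `I · E` for finite locally free `E` on a curve (helper6)

* `twistMap_natural`, `mono_twistMap`, `imageSubobject_epi_comp`, `image_twistSub_comp`
  (`q(I·E) = I·V` for an epimorphism `q : E ⟶ V`).
* `euler_twistSub`: `χ(I·V) = χ(V) - n · h⁰(O_D)`.
* `euler_pullback_twistSub`: the same for `ι⁻¹(I·F)` when `coker ι` is finite locally free.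
APPEND-ONLY once landed.
-/

set_option autoImplicit false
set_option linter.all false
set_option maxHeartbeats 1600000

universe u
open CategoryTheory CategoryTheory.Limits AlgebraicGeometry TopologicalSpace Opposite

namespace Groth.Agent.Lib.ParBunH6

open Groth.Agent.TensInv Groth.Agent.Lib.GPBunH6

section Gen

variable {X : Scheme.{u}}

theorem twistMap_natural (I : X.IdealSheafData) {E V : X.Modules} (q : E ⟶ V) :
    KoszTw.tensorMap q (𝟙 (ClSub.idealMod I)) ≫ ParSh.twistMap I V = ParSh.twistMap I E ≫ q := by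
  apply DefoConnTrivH7.hom_ext_tmul'
  intro U e i
  have h1 : (KoszTw.tensorMap q (𝟙 (ClSub.idealMod I)) ≫ ParSh.twistMap I V).app U
      (SecTwist.tmul E (ClSub.idealMod I) U e i) =
      (SecTwist.unitorR V).hom.app U ((KoszTw.tensorMap (𝟙 V) (ClSub.idealModι I)).app U
        ((KoszTw.tensorMap q (𝟙 (ClSub.idealMod I))).app U
          (SecTwist.tmul E (ClSub.idealMod I) U e i))) := rfl
  have h2 : (ParSh.twistMap I E ≫ q).app U (SecTwist.tmul E (ClSub.idealMod I) U e i) =
      q.app U ((SecTwist.unitorR E).hom.app U ((KoszTw.tensorMap (𝟙 E) (ClSub.idealModι I)).app U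
          (SecTwist.tmul E (ClSub.idealMod I) U e i))) := rfl
  rw [h1, h2, KoszTw.tensorMap_tmul, KoszTw.tensorMap_tmul, KoszTw.tensorMap_tmul]
  have h3 := SecTwist.unitorR_tmul V U (q.app U e) ((ClSub.idealModι I).app U i)
  have h4 := SecTwist.unitorR_tmul E U e ((ClSub.idealModι I).app U i)
  have h5 : (𝟙 V : V ⟶ V).app U (q.app U e) = q.app U e := rfl
  have h6 : (𝟙 E : E ⟶ E).app U e = e := rfl
  have h7 : (𝟙 (ClSub.idealMod I) : ClSub.idealMod I ⟶ ClSub.idealMod I).app U i = i := rfl
  rw [h5, h6, h7]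
  refine h3.trans ?_
  refine Eq.trans ?_ (congrArg (q.app U) h4.symm)
  exact (Scheme.Modules.Hom.app_smul q _ _).symm

variable {C : Type*} [Category C] [Abelian C]

theorem imageSubobject_epi_comp {A B D : C} (h : A ⟶ B) [Epi h] (f : B ⟶ D) :
    imageSubobject (h ≫ f) = imageSubobject f := by
  apply le_antisymm (imageSubobject_comp_le h f)
  haveI := imageSubobject_comp_le_epi_of_epi h f
  haveI : IsIso (Subobject.ofLE _ _ (imageSubobject_comp_le h f)) := isIso_of_mono_of_epi _
  exact Subobject.le_of_comm (inv (Subobject.ofLE _ _ (imageSubobject_comp_le h f)))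
    (by rw [IsIso.inv_comp_eq, Subobject.ofLE_arrow])

theorem imageSubobject_arrow_comp_eq {A B D : C} (f : A ⟶ B) (q : B ⟶ D) :
    imageSubobject ((imageSubobject f).arrow ≫ q) = imageSubobject (f ≫ q) := by
  have : f ≫ q = factorThruImageSubobject f ≫ ((imageSubobject f).arrow ≫ q) := by
    rw [← Category.assoc, imageSubobject_arrow_comp]
  rw [this]
  exact (imageSubobject_epi_comp _ _).symm

end Gen

section Gen2

variable {X : Scheme.{u}}

/-- `q(I · E) = I · V` for an epimorphism `q : E ⟶ V` -/
theorem image_twistSub_comp (I : X.IdealSheafData) {E V : X.Modules} (q : E ⟶ V) [Epi q] :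
    imageSubobject ((ParSh.twistSub I E).arrow ≫ q) = ParSh.twistSub I V := by
  unfold ParSh.twistSub
  rw [imageSubobject_arrow_comp_eq, ← twistMap_natural]
  haveI : Epi (KoszTw.tensorMap q (𝟙 (ClSub.idealMod I))) := by
    have := NodalG0.epi_tR_map (ClSub.idealMod I) q
    rw [← KoszTw.tensorBi_map_app]
    exact this
  exact imageSubobject_epi_comp _ _

theorem mono_twistMap (I : X.IdealSheafData) {V : X.Modules} (hV : FlatMod.IsFinLocFree V) :
    Mono (ParSh.twistMap I V) := by
  have hS := shortExact_tL_flf hV (Groth.Agent.HypSurf.ses I)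
    (Groth.Agent.HypSurf.ses_shortExact I)
  haveI h1 : Mono ((tL V).map (ClSub.idealModι I)) := hS.mono_f
  haveI : Mono (KoszTw.tensorMap (𝟙 V) (ClSub.idealModι I)) := by
    rw [← KoszTw.tensorBi_obj_map]
    exact h1
  unfold ParSh.twistMap
  exact mono_comp _ _

/-- `I · V ≅ V ⊗ I` for `V` finite locally free -/
noncomputable def twistSubIso (I : X.IdealSheafData) {V : X.Modules}
    (hV : FlatMod.IsFinLocFree V) :
    ((ParSh.twistSub I V : Subobject V) : X.Modules) ≅ CohB1.tensorMod V (ClSub.idealMod I) := by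
  haveI := mono_twistMap I hV
  haveI : Mono (factorThruImageSubobject (ParSh.twistMap I V)) := by
    haveI : Mono (factorThruImageSubobject (ParSh.twistMap I V) ≫
        (imageSubobject (ParSh.twistMap I V)).arrow) := by
      rw [imageSubobject_arrow_comp]
      infer_instance
    exact mono_of_mono _ (imageSubobject (ParSh.twistMap I V)).arrow
  haveI : IsIso (factorThruImageSubobject (ParSh.twistMap I V)) := isIso_of_mono_of_epi _
  exact (asIso (factorThruImageSubobject (ParSh.twistMap I V))).symm

end Gen2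

section Curve

variable (k : Type u) [Field k] (X : Scheme.{u}) [X.Over (Spec (CommRingCat.of k))]
  [IsIntegral X] [IsProper (X ↘ Spec (CommRingCat.of k))]

/-- `χ(I · V) = χ(V) - n · h⁰(O_D)` for `V` finite locally free of rank `n` -/
theorem euler_twistSub (hdim : topologicalKrullDim X ≤ 1) (I : X.IdealSheafData)
    (hI : BlowUp.IsEffCartierIdeal I) {n : ℕ} {V : X.Modules}
    (hV : FlatMod.IsFinLocFreeOfRank n V) :
    Curv2.euler k X ((ParSh.twistSub I V : Subobject V) : X.Modules) =
      Curv2.euler k X V - n * (Module.finrank k (Coh.HH X (ClSub.quotMod I) 0) : ℤ) := by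
  haveI : IsLocallyNoetherian X :=
    LocallyOfFiniteType.isLocallyNoetherian (X ↘ Spec (CommRingCat.of k))
  have hVf := TensBasis.isFinLocFree_of_rank hV
  have hVc := KerFreeH8.isCoh_of_finLocFree hVf
  have hS := shortExact_tL_flf hVf (Groth.Agent.HypSurf.ses I)
    (Groth.Agent.HypSurf.ses_shortExact I)
  have hadd := EulerField.euler_additive k X _ hS
    (RelAmpleVanH9.isCoh_tensorMod hVc (CurveIdeal.isCoh_idealMod I))
    (RelAmpleVanH9.isCoh_tensorMod hVc (CohDevH8.isCoh_structureModule X))
    (RelAmpleVanH9.isCoh_tensorMod hVc (CurveIdeal.isCoh_quotMod I))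
  have hadd' : Curv2.euler k X (CohB1.tensorMod V (Coh.structureModule X)) =
      Curv2.euler k X (CohB1.tensorMod V (ClSub.idealMod I)) +
        Curv2.euler k X (ParSh.resD I V) := hadd
  have e1 : Curv2.euler k X (CohB1.tensorMod V (Coh.structureModule X)) = Curv2.euler k X V :=
    CurveTens.euler_of_iso k X (rightUnit V)
  have e2 := euler_resD k X hdim I hI hV
  have e3 := CurveTens.euler_of_iso k X (twistSubIso I hVf)
  rw [e3]
  linarith

/-- `χ(ι⁻¹(I · F)) = χ(V') - r' · h⁰(O_D)` for a sub-bundle `ι : V' ⟶ F` with finite locally free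
cokernel -/
theorem euler_pullback_twistSub (hdim : topologicalKrullDim X ≤ 1) (I : X.IdealSheafData)
    (hI : BlowUp.IsEffCartierIdeal I) {s r' : ℕ} {V' F : X.Modules} (ι : V' ⟶ F) [Mono ι]
    (hF : FlatMod.IsFinLocFreeOfRank s F) (hV' : FlatMod.IsFinLocFreeOfRank r' V')
    (hsat : FlatMod.IsFinLocFree (cokernel ι)) :
    Curv2.euler k X ((Subobject.pullback ι).obj (ParSh.twistSub I F) : X.Modules) =
      Curv2.euler k X V' - r' * (Module.finrank k (Coh.HH X (ClSub.quotMod I) 0) : ℤ) := by
  haveI : IsLocallyNoetherian X :=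
    LocallyOfFiniteType.isLocallyNoetherian (X ↘ Spec (CommRingCat.of k))
  haveI : Nonempty X := inferInstance
  obtain ⟨t, hG⟩ := VBCurve.exists_rank hsat
  have hS := VBCurve.cokernel_shortExact X ι
  have hrk : s = r' + t := CurveDegAdd.rank_add _ hS hV' hF hG
  have hFc := KerFreeH8.isCoh_of_finLocFree (TensBasis.isFinLocFree_of_rank hF)
  have hVc := KerFreeH8.isCoh_of_finLocFree (TensBasis.isFinLocFree_of_rank hV')
  have hGc := KerFreeH8.isCoh_of_finLocFree hsat
  have hadd0 := EulerField.euler_additive k X _ hS hVc hFc hGc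
  have hadd0' : Curv2.euler k X F = Curv2.euler k X V' + Curv2.euler k X (cokernel ι) := hadd0
  have hT := Groth.Agent.Lib.ParHilbH7.subSES_shortExact ι (cokernel.π ι) (cokernel.condition ι) hS
    (ParSh.twistSub I F)
  have hSc := isCoh_twistSub I hFc
  have hX₃ : imageSubobject ((ParSh.twistSub I F).arrow ≫ cokernel.π ι) =
      ParSh.twistSub I (cokernel ι) := image_twistSub_comp I (cokernel.π ι)
  have h3c : Coh.IsCoh ((imageSubobject ((ParSh.twistSub I F).arrow ≫ cokernel.π ι) :
      Subobject (cokernel ι)) : X.Modules) := by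
    rw [hX₃]
    exact isCoh_twistSub I hGc
  have h1c := ParShH6.isCoh_pullback ι (ParSh.twistSub I F) hVc hFc hSc
  have hadd1 := EulerField.euler_additive k X _ hT h1c hSc h3c
  have hadd1' : Curv2.euler k X ((ParSh.twistSub I F : Subobject F) : X.Modules) =
      Curv2.euler k X ((Subobject.pullback ι).obj (ParSh.twistSub I F) : X.Modules) +
        Curv2.euler k X ((imageSubobject ((ParSh.twistSub I F).arrow ≫ cokernel.π ι) :
          Subobject (cokernel ι)) : X.Modules) := hadd1
  rw [hX₃, euler_twistSub k X hdim I hI hF, euler_twistSub k X hdim I hI hG] at hadd1'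
  have : (s : ℤ) = r' + t := by exact_mod_cast hrk
  rw [this] at hadd1'
  linarith

end Curve

end Groth.Agent.Lib.ParBunH6
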