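import Mathlib
import Groth.Prelude
import Groth.Agent.Lib.ParBun3_helper6

/-!
# Parabolic bundles: monotonicity of `χ` along subsheaves squeezed by `I·V` (helper6)

* `closed_support_cokernel_of_twistSub_le`, `euler_le_of_le`.
APPEND-ONLY once landed.
-/

set_option autoImplicit false
set_option linter.all false
set_option maxHeartbeats 1600000

universe u
open CategoryTheory CategoryTheory.Limits AlgebraicGeometry TopologicalSpace Opposite

namespace Groth.Agent.Lib.ParBunH6

open Groth.Agent.TensInv Groth.Agent.Lib.GPBunH6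

section Curve

variable (k : Type u) [Field k] (X : Scheme.{u}) [X.Over (Spec (CommRingCat.of k))]
  [IsIntegral X] [IsProper (X ↘ Spec (CommRingCat.of k))]

omit [X.Over (Spec (CommRingCat.of k))] [IsIntegral X]
  [IsProper (X ↘ Spec (CommRingCat.of k))] in
theorem closed_support_cokernel_of_twistSub_le (I : X.IdealSheafData)
    (hI0 : ∀ x ∈ (I.support : Set X), IsClosed ({x} : Set X))
    {V : X.Modules} (P : Subobject V) (h : ParSh.twistSub I V ≤ P) :
    ∀ x ∈ CohB1.support (cokernel P.arrow), IsClosed ({x} : Set X) := fun x hx =>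
  hI0 x (ParShH6.support_cokernel_twistSub I V
    (ParShH6.support_subset_of_epi' (ParShH6.quotLE h) hx)).2

/-- **monotonicity**: for `u : V ⟶ V'` a monomorphism of finite locally free modules of the same
rank, `I·V ≤ A ≤ V`, `I·V' ≤ B ≤ V'` with `u(A) ⊆ B`: `χ(A) ≤ χ(B)` -/
theorem euler_le_of_le (hdim : topologicalKrullDim X ≤ 1) (I : X.IdealSheafData)
    (hI : BlowUp.IsEffCartierIdeal I) {n : ℕ} {V V' : X.Modules}
    (hV : FlatMod.IsFinLocFreeOfRank n V) (hV' : FlatMod.IsFinLocFreeOfRank n V')
    (u : V ⟶ V') [Mono u] (A : Subobject V) (B : Subobject V')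
    (hA : ParSh.twistSub I V ≤ A) (hB : ParSh.twistSub I V' ≤ B)
    (h : A ≤ (Subobject.pullback u).obj B) :
    Curv2.euler k X (A : X.Modules) ≤ Curv2.euler k X (B : X.Modules) := by
  haveI : IsLocallyNoetherian X :=
    LocallyOfFiniteType.isLocallyNoetherian (X ↘ Spec (CommRingCat.of k))
  have hI0 : ∀ x ∈ (I.support : Set X), IsClosed ({x} : Set X) := fun x hx =>
    TensBasis.isClosed_singleton_of_mem_support_effCartier hdim I hI x hx
  have hVc := KerFreeH8.isCoh_of_finLocFree (TensBasis.isFinLocFree_of_rank hV)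
  have hV'c := KerFreeH8.isCoh_of_finLocFree (TensBasis.isFinLocFree_of_rank hV')
  have hAc := isCoh_of_twistSub_le I hI0 hVc A hA
  have hBc := isCoh_of_twistSub_le I hI0 hV'c B hB
  have hQAc : Coh.IsCoh (cokernel A.arrow) := CohKerH8.isCoh_cokernel hAc hVc _
  have hQBc : Coh.IsCoh (cokernel B.arrow) := CohKerH8.isCoh_cokernel hBc hV'c _
  have hQA0 := closed_support_cokernel_of_twistSub_le X I hI0 A hA
  -- the two quotient sequences
  have addA := EulerField.euler_additive k X _ (VBCurve.cokernel_shortExact X A.arrow)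
    hAc hVc hQAc
  have addA' : Curv2.euler k X V =
      Curv2.euler k X (A : X.Modules) + Curv2.euler k X (cokernel A.arrow) := addA
  have addB := EulerField.euler_additive k X _ (VBCurve.cokernel_shortExact X B.arrow)
    hBc hV'c hQBc
  have addB' : Curv2.euler k X V' =
      Curv2.euler k X (B : X.Modules) + Curv2.euler k X (cokernel B.arrow) := addB
  -- the cokernel of `u`
  have hTc : Coh.IsCoh (cokernel u) := CohKerH8.isCoh_cokernel hVc hV'c u
  have hT0 : ∀ x ∈ CohB1.support (cokernel u), IsClosed ({x} : Set X) :=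
    CurveDeg.isClosed_singleton_of_mem_support X hdim _ hTc
      (VBCurve.subsingleton_stalk_cokernel_generic u hV hV')
  have addu := EulerField.euler_additive k X _ (VBCurve.cokernel_shortExact X u) hVc hV'c hTc
  have addu' : Curv2.euler k X V' = Curv2.euler k X V + Curv2.euler k X (cokernel u) := addu
  -- the induced map on quotients
  have w : A.arrow ≫ u ≫ cokernel.π B.arrow = 0 := by
    rw [← Subobject.ofLE_arrow h, Category.assoc, ← Category.assoc _ u,
      ← (Subobject.isPullback u B).w, Category.assoc, cokernel.condition, comp_zero, comp_zero]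
  let g : cokernel A.arrow ⟶ cokernel B.arrow := cokernel.desc A.arrow (u ≫ cokernel.π B.arrow) w
  have hg : cokernel.π A.arrow ≫ g = u ≫ cokernel.π B.arrow := cokernel.π_desc _ _ _
  have hJc : Coh.IsCoh (Abelian.image g) :=
    CohKerH8.isCoh_kernel hQBc (CohKerH8.isCoh_cokernel hQAc hQBc g) _
  have hNc : Coh.IsCoh (cokernel g) := CohKerH8.isCoh_cokernel hQAc hQBc g
  have addg := EulerField.euler_additive k X _ (imCokSC_shortExact g) hJc hQBc hNc
  have addg' : Curv2.euler k X (cokernel B.arrow) =
      Curv2.euler k X (Abelian.image g) + Curv2.euler k X (cokernel g) := addg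
  have le1 : Curv2.euler k X (Abelian.image g) ≤ Curv2.euler k X (cokernel A.arrow) :=
    euler_le_of_epi k X (Abelian.factorThruImage g) hQAc hJc hQA0
  -- `coker u ↠ coker g`
  have w2 : u ≫ cokernel.π B.arrow ≫ cokernel.π g = 0 := by
    rw [← Category.assoc, ← hg, Category.assoc, cokernel.condition, comp_zero]
  let e : cokernel u ⟶ cokernel g := cokernel.desc u (cokernel.π B.arrow ≫ cokernel.π g) w2
  have he : cokernel.π u ≫ e = cokernel.π B.arrow ≫ cokernel.π g := cokernel.π_desc _ _ _
  haveI : Epi e := epi_of_epi_fac he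
  have le2 : Curv2.euler k X (cokernel g) ≤ Curv2.euler k X (cokernel u) :=
    euler_le_of_epi k X e hTc hNc hT0
  linarith

end Curve

end Groth.Agent.Lib.ParBunH6
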