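import Mathlib
import Groth.Prelude
import Groth.Agent.Lib.ParBun4_helper6

/-!
# Parabolic bundles: the parabolic degree of the image is at most that of its saturation (helper6)

* `parDeg_eq_parSum`, `main18522`.
APPEND-ONLY once landed.
-/

set_option autoImplicit false
set_option linter.all false
set_option maxHeartbeats 1600000

universe u
open CategoryTheory CategoryTheory.Limits AlgebraicGeometry TopologicalSpace Opposite

namespace Groth.Agent.Lib.ParBunH6

open Groth.Agent.TensInv Groth.Agent.Lib.GPBunH6 Groth.Agent.Lib.ParHilbH7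

section Gen

variable {C : Type*} [Category C] [Abelian C]

theorem imageSubobject_le_pullback {A V F : C} (f : A ⟶ V) (u : V ⟶ F) (T : Subobject F)
    (h : T.Factors (f ≫ u)) : imageSubobject f ≤ (Subobject.pullback u).obj T := by
  have sq := Subobject.isPullback u T
  refine imageSubobject_le _ (sq.lift (T.factorThru _ h) f ?_) (sq.lift_snd _ _ _)
  rw [Subobject.factorThru_arrow]

end Gen

section Curve

variable (k : Type u) [Field k] (X : Scheme.{u}) [X.Over (Spec (CommRingCat.of k))]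

/-- the parabolic degree through the parabolic sum of Euler characteristics -/
theorem parDeg_eq_parSum {M : X.Modules} (𝓜 : ParSh.Str M) (r : ℕ) :
    𝓜.parDeg k X r = (Curv2.deg k X M r : ℝ) +
      𝓜.parSum (fun G => (Curv2.euler k X G : ℝ)) -
        (Curv2.euler k X (𝓜.bot : X.Modules) : ℝ) := by
  unfold ParSh.Str.parDeg ParSh.Str.parWt ParSh.Str.parSum
  ring

theorem twistSub_le_pullback (I : X.IdealSheafData) {V' F : X.Modules} (ι : V' ⟶ F) :
    ParSh.twistSub I V' ≤ (Subobject.pullback ι).obj (ParSh.twistSub I F) := by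
  refine imageSubobject_le_pullback _ ι _ ?_
  rw [← twistMap_natural]
  exact imageSubobject_factors_comp_self (f := ParSh.twistMap I F)
    (KoszTw.tensorMap ι (𝟙 (ClSub.idealMod I)))

variable [IsIntegral X] [IsProper (X ↘ Spec (CommRingCat.of k))]

theorem main18522 (hdim : topologicalKrullDim X = 1) (I : X.IdealSheafData)
    (hI : BlowUp.IsEffCartierIdeal I) {E F V V' : X.Modules} (s r'' : ℕ)
    (hF : FlatMod.IsFinLocFreeOfRank s F)
    (𝓔 : ParSh.Str E) (h𝓔 : 𝓔.Along I) (𝓕 : ParSh.Str F) (h𝓕 : 𝓕.Along I)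
    (φ : E ⟶ F) (hφ : ParSh.IsParHom 𝓔 𝓕 φ)
    (q : E ⟶ V) [Epi q] (u : V ⟶ V') [Mono u] (ι : V' ⟶ F) [Mono ι] (hfac : q ≫ u ≫ ι = φ)
    (hV : FlatMod.IsFinLocFreeOfRank r'' V) (hV' : FlatMod.IsFinLocFreeOfRank r'' V')
    (hsat : FlatMod.IsFinLocFree (cokernel ι)) :
    (𝓔.coinduced q).parDeg k X r'' ≤ (𝓕.induced ι).parDeg k X r'' := by
  have hbotV : (𝓔.coinduced q).bot = ParSh.twistSub I V := by
    show imageSubobject (𝓔.bot.arrow ≫ q) = ParSh.twistSub I V
    rw [show 𝓔.bot = ParSh.twistSub I E from h𝓔]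
    exact image_twistSub_comp I q
  have hbotV' : (𝓕.induced ι).bot = (Subobject.pullback ι).obj (ParSh.twistSub I F) := by
    show (Subobject.pullback ι).obj 𝓕.bot = _
    rw [show 𝓕.bot = ParSh.twistSub I F from h𝓕]
  have hle' : ParSh.twistSub I V' ≤ (𝓕.induced ι).bot := by
    rw [hbotV']
    exact twistSub_le_pullback X I ι
  -- the pointwise inequality
  have hpt : ∀ a : ℝ, 0 ≤ a → a ≤ 1 →
      (Curv2.euler k X ((𝓔.coinduced q).at a : X.Modules) : ℝ) ≤
        (Curv2.euler k X ((𝓕.induced ι).at a : X.Modules) : ℝ) := by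
    intro a ha0 ha1
    obtain ⟨m, hm, hiff⟩ := exists_index 𝓔 a
    obtain ⟨m', hm', hiff'⟩ := exists_index 𝓕 a
    have e1 : (𝓔.coinduced q).at a = imageSubobject ((𝓔.pieceX m).arrow ≫ q) := by
      rw [at_eq_of_index (𝓔.coinduced q) a m hiff]
      exact coinduced_pieceX 𝓔 q m
    have e2 : (𝓕.induced ι).at a = (Subobject.pullback ι).obj (𝓕.pieceX m') := by
      rw [at_eq_of_index (𝓕.induced ι) a m' hiff']
      exact induced_pieceX 𝓕 ι m'
    have hfa := hφ a ha0 ha1
    rw [hm, hm', ← hfac] at hfa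
    have hAB : imageSubobject ((𝓔.pieceX m).arrow ≫ q) ≤
        (Subobject.pullback u).obj ((Subobject.pullback ι).obj (𝓕.pieceX m')) := by
      rw [← Subobject.pullback_comp]
      exact ParShH6.image_le_pullback q (u ≫ ι) _ _ hfa
    have hA : ParSh.twistSub I V ≤ imageSubobject ((𝓔.pieceX m).arrow ≫ q) := by
      rw [← hbotV, ← coinduced_pieceX 𝓔 q m]
      exact (𝓔.coinduced q).bot_le_pieceX m
    have hB : ParSh.twistSub I V' ≤ (Subobject.pullback ι).obj (𝓕.pieceX m') := by
      refine le_trans hle' ?_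
      rw [← induced_pieceX 𝓕 ι m']
      exact (𝓕.induced ι).bot_le_pieceX m'
    rw [e1, e2]
    exact_mod_cast euler_le_of_le k X hdim.le I hI hV hV' u _ _ hA hB hAB
  have hsum := parSum_le_parSum (𝓔.coinduced q) (𝓕.induced ι)
    (fun G => (Curv2.euler k X G : ℝ)) hpt
  rw [parDeg_eq_parSum, parDeg_eq_parSum, hbotV, hbotV',
    euler_twistSub k X hdim.le I hI hV, euler_pullback_twistSub k X hdim.le I hI ι hF hV' hsat]
  unfold Curv2.deg
  push_cast
  linarith

end Curve

end Groth.Agent.Lib.ParBunH6
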