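import Mathlib
import Groth.Prelude
import Groth.Agent.Lib.ParBun5_helper6

/-!
# Parabolic bundles: parabolic homomorphisms `F'' ⟶ F'` of a parabolic extension of a stable
parabolic bundle vanish (helper6)

* `isParHom_of_ext`, `exists_saturation`, `parDeg_add`, `main18523`.
APPEND-ONLY once landed.
-/

set_option autoImplicit false
set_option linter.all false
set_option maxHeartbeats 1600000

universe u
open CategoryTheory CategoryTheory.Limits AlgebraicGeometry TopologicalSpace Opposite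

namespace Groth.Agent.Lib.ParBunH6

open Groth.Agent.TensInv Groth.Agent.Lib.GPBunH6 Groth.Agent.Lib.ParHilbH7

section Gen

variable {C : Type*} [Category C] [Abelian C]

/-- the composite `F ⟶ F'' ⟶ F' ⟶ F` of a parabolic homomorphism between the quotient and the
sub of a parabolic extension is a parabolic endomorphism -/
theorem isParHom_of_ext {F F' F'' : C} (𝓕 : ParSh.Str F) (i : F' ⟶ F) (p : F ⟶ F'') [Epi p]
    (φ : F'' ⟶ F') (hφ : ParSh.IsParHom (𝓕.coinduced p) (𝓕.induced i) φ) :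
    ParSh.IsParHom 𝓕 𝓕 (p ≫ φ ≫ i) := by
  intro a ha0 ha1
  obtain ⟨m, hm, hiff⟩ := exists_index 𝓕 a
  have e1 : (𝓕.coinduced p).at a = imageSubobject ((𝓕.pieceX m).arrow ≫ p) := by
    rw [at_eq_of_index (𝓕.coinduced p) a m hiff]
    exact coinduced_pieceX 𝓕 p m
  have e2 : (𝓕.induced i).at a = (Subobject.pullback i).obj (𝓕.pieceX m) := by
    rw [at_eq_of_index (𝓕.induced i) a m hiff]
    exact induced_pieceX 𝓕 i m
  have h := hφ a ha0 ha1
  rw [e1, e2] at h
  rw [hm]
  have hh : (𝓕.pieceX m).arrow ≫ p ≫ φ ≫ i =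
      (factorThruImageSubobject ((𝓕.pieceX m).arrow ≫ p) ≫
        ((Subobject.pullback i).obj (𝓕.pieceX m)).factorThru _ h ≫
          Subobject.pullbackπ i (𝓕.pieceX m)) ≫ (𝓕.pieceX m).arrow := by
    have h1 := (Subobject.isPullback i (𝓕.pieceX m)).w
    have h2 := Subobject.factorThru_arrow _ _ h
    have h3 := imageSubobject_arrow_comp ((𝓕.pieceX m).arrow ≫ p)
    simp only [Category.assoc]
    rw [h1, ← Category.assoc (((Subobject.pullback i).obj (𝓕.pieceX m)).factorThru _ h), h2]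
    simp only [Category.assoc]
    rw [← Category.assoc (factorThruImageSubobject ((𝓕.pieceX m).arrow ≫ p)), h3]
    simp only [Category.assoc]
  rw [hh]
  exact Subobject.factors_comp_arrow _

end Gen

section Curve

variable (k : Type u) [Field k] (X : Scheme.{u}) [X.Over (Spec (CommRingCat.of k))]
  [IsIntegral X] [IsProper (X ↘ Spec (CommRingCat.of k))]

include k in
/-- **saturation**: a finite locally free submodule of a finite locally free module on a regular
integral proper curve lies in one of the same rank with finite locally free cokernel -/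
theorem exists_saturation (hreg : ∀ x : X, IsRegularLocalRing (X.presheaf.stalk x))
    (hdim : topologicalKrullDim X = 1) {ρ s : ℕ} {V F : X.Modules} (i₀ : V ⟶ F) [Mono i₀]
    (hV : FlatMod.IsFinLocFreeOfRank ρ V) (hF : FlatMod.IsFinLocFreeOfRank s F) :
    ∃ (V' : X.Modules) (ι : V' ⟶ F) (u : V ⟶ V'), Mono ι ∧ u ≫ ι = i₀ ∧
      FlatMod.IsFinLocFreeOfRank ρ V' ∧ FlatMod.IsFinLocFree (cokernel ι) := by
  obtain ⟨B, hB⟩ := CurveSub.bddAbove_deg_locFree_sub k X hdim.le hF
  let P : ℤ → Prop := fun z => ∃ (G : X.Modules) (j : G ⟶ F) (v : V ⟶ G), Mono j ∧ v ≫ j = i₀ ∧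
    FlatMod.IsFinLocFreeOfRank ρ G ∧ Curv2.deg k X G ρ = z
  have hbdd : ∃ b : ℤ, ∀ z : ℤ, P z → z ≤ b := by
    refine ⟨B, ?_⟩
    rintro z ⟨G, j, v, hj, -, hG, rfl⟩
    exact hB G ρ j hj hG
  have hne : ∃ z : ℤ, P z := ⟨_, V, i₀, 𝟙 V, inferInstance, Category.id_comp _, hV, rfl⟩
  obtain ⟨ub, ⟨G', ι, u, hι, hu, hG', hval⟩, hmax⟩ := Int.exists_greatest_of_bdd hbdd hne
  haveI := hι
  refine ⟨G', ι, u, hι, hu, hG', ?_⟩
  by_contra hnot
  obtain ⟨Q, p, j, hp, hjp, hQ, hlt⟩ := VBSat.exists_larger_sub k X hreg hdim ι hG' hF hnot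
  have := hmax _ ⟨Q, p, u ≫ j, hp, by rw [Category.assoc, hjp, hu], hQ, rfl⟩
  rw [← hval] at this
  linarith

/-- additivity of the parabolic degree in a parabolic extension -/
theorem parDeg_add (hdim : topologicalKrullDim X ≤ 1) (I : X.IdealSheafData)
    (hI : BlowUp.IsEffCartierIdeal I) {K F V : X.Modules} (κ : K ⟶ F) (q : F ⟶ V) [Epi q]
    (w : κ ≫ q = 0) (hS : (ShortComplex.mk κ q w).ShortExact) {rK r rV : ℕ}
    (hK : FlatMod.IsFinLocFreeOfRank rK K) (hF : FlatMod.IsFinLocFreeOfRank r F)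
    (hV : FlatMod.IsFinLocFreeOfRank rV V) (𝓕 : ParSh.Str F) (h𝓕 : 𝓕.Along I) :
    𝓕.parDeg k X r = (𝓕.induced κ).parDeg k X rK + (𝓕.coinduced q).parDeg k X rV := by
  haveI : IsLocallyNoetherian X :=
    LocallyOfFiniteType.isLocallyNoetherian (X ↘ Spec (CommRingCat.of k))
  have hI0 : ∀ x ∈ (I.support : Set X), IsClosed ({x} : Set X) := fun x hx =>
    TensBasis.isClosed_singleton_of_mem_support_effCartier hdim I hI x hx
  have hKc := KerFreeH8.isCoh_of_finLocFree (TensBasis.isFinLocFree_of_rank hK)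
  have hFc := KerFreeH8.isCoh_of_finLocFree (TensBasis.isFinLocFree_of_rank hF)
  have hVc := KerFreeH8.isCoh_of_finLocFree (TensBasis.isFinLocFree_of_rank hV)
  have hdeg := CurveDegAdd.deg_additive k X _ hS rK r rV hK hF hV
  have hdeg' : Curv2.deg k X F r = Curv2.deg k X K rK + Curv2.deg k X V rV := hdeg
  have hχ : ∀ j : Fin (𝓕.l + 2), (Curv2.euler k X (𝓕.pieceX j : X.Modules) : ℝ) =
      (Curv2.euler k X ((𝓕.induced κ).pieceX j : X.Modules) : ℝ) +
        (Curv2.euler k X ((𝓕.coinduced q).pieceX j : X.Modules) : ℝ) := by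
    intro j
    have hPc : Coh.IsCoh ((𝓕.pieceX j : Subobject F) : X.Modules) :=
      isCoh_of_twistSub_le I hI0 hFc (𝓕.pieceX j) (by
        rw [← show 𝓕.bot = ParSh.twistSub I F from h𝓕]
        exact 𝓕.bot_le_pieceX j)
    have hT := subSES_shortExact κ q w hS (𝓕.pieceX j)
    have h1c := ParShH6.isCoh_pullback κ (𝓕.pieceX j) hKc hFc hPc
    have h3c : Coh.IsCoh ((imageSubobject ((𝓕.pieceX j).arrow ≫ q) : Subobject V) : X.Modules) :=
      isCoh_imageSubobject _ hPc hVc
    have hadd := EulerField.euler_additive k X _ hT h1c hPc h3c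
    have hadd' : Curv2.euler k X ((𝓕.pieceX j : Subobject F) : X.Modules) =
        Curv2.euler k X ((Subobject.pullback κ).obj (𝓕.pieceX j) : X.Modules) +
          Curv2.euler k X ((imageSubobject ((𝓕.pieceX j).arrow ≫ q) : Subobject V) :
            X.Modules) := hadd
    rw [induced_pieceX, coinduced_pieceX]
    exact_mod_cast hadd'
  unfold ParSh.Str.parDeg ParSh.Str.parWt
  have hsum : ∑ j : Fin (𝓕.l + 1), 𝓕.wt j *
        ((Curv2.euler k X (𝓕.piece j : X.Modules) : ℝ) -
          Curv2.euler k X (𝓕.pieceX j.succ : X.Modules)) =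
      ∑ j : Fin (𝓕.l + 1), 𝓕.wt j *
        ((Curv2.euler k X ((𝓕.induced κ).piece j : X.Modules) : ℝ) -
          Curv2.euler k X ((𝓕.induced κ).pieceX j.succ : X.Modules)) +
      ∑ j : Fin (𝓕.l + 1), 𝓕.wt j *
        ((Curv2.euler k X ((𝓕.coinduced q).piece j : X.Modules) : ℝ) -
          Curv2.euler k X ((𝓕.coinduced q).pieceX j.succ : X.Modules)) := by
    rw [← Finset.sum_add_distrib]
    refine Finset.sum_congr rfl (fun j _ => ?_)
    have h1 := hχ j.castSucc
    have h2 := hχ j.succ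
    rw [𝓕.pieceX_castSucc] at h1
    have e1 : (𝓕.induced κ).pieceX j.castSucc = (𝓕.induced κ).piece j :=
      (𝓕.induced κ).pieceX_castSucc j
    have e2 : (𝓕.coinduced q).pieceX j.castSucc = (𝓕.coinduced q).piece j :=
      (𝓕.coinduced q).pieceX_castSucc j
    rw [e1, e2] at h1
    rw [h1, h2]
    ring
  have hsum' : (∑ j : Fin ((𝓕.induced κ).l + 1), (𝓕.induced κ).wt j *
        ((Curv2.euler k X ((𝓕.induced κ).piece j : X.Modules) : ℝ) -
          Curv2.euler k X ((𝓕.induced κ).pieceX j.succ : X.Modules))) =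
      ∑ j : Fin (𝓕.l + 1), 𝓕.wt j *
        ((Curv2.euler k X ((𝓕.induced κ).piece j : X.Modules) : ℝ) -
          Curv2.euler k X ((𝓕.induced κ).pieceX j.succ : X.Modules)) := rfl
  have hsum'' : (∑ j : Fin ((𝓕.coinduced q).l + 1), (𝓕.coinduced q).wt j *
        ((Curv2.euler k X ((𝓕.coinduced q).piece j : X.Modules) : ℝ) -
          Curv2.euler k X ((𝓕.coinduced q).pieceX j.succ : X.Modules))) =
      ∑ j : Fin (𝓕.l + 1), 𝓕.wt j *
        ((Curv2.euler k X ((𝓕.coinduced q).piece j : X.Modules) : ℝ) -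
          Curv2.euler k X ((𝓕.coinduced q).pieceX j.succ : X.Modules)) := rfl
  rw [hsum', hsum'', hsum, hdeg']
  push_cast
  ring

end Curve

end Groth.Agent.Lib.ParBunH6
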