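import Mathlib
import Groth.Prelude
import Groth.Agent.Lib.ParBun6_helper6

/-!
# Parabolic bundles: `main18523` (helper6)
APPEND-ONLY once landed.
-/

set_option autoImplicit false
set_option linter.all false
set_option maxHeartbeats 1600000

universe u
open CategoryTheory CategoryTheory.Limits AlgebraicGeometry TopologicalSpace Opposite

namespace Groth.Agent.Lib.ParBunH6

open Groth.Agent.TensInv Groth.Agent.Lib.GPBunH6 Groth.Agent.Lib.ParHilbH7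

section Curve

variable (k : Type u) [Field k] (X : Scheme.{u}) [X.Over (Spec (CommRingCat.of k))]
  [IsIntegral X] [IsProper (X ↘ Spec (CommRingCat.of k))]

theorem main18523 (hreg : ∀ x : X, IsRegularLocalRing (X.presheaf.stalk x))
    (hdim : topologicalKrullDim X = 1) (I : X.IdealSheafData) (hI : BlowUp.IsEffCartierIdeal I)
    {F F' F'' : X.Modules} (r : ℕ) (hF : FlatMod.IsFinLocFreeOfRank r F)
    (𝓕 : ParSh.Str F) (h𝓕 : 𝓕.Along I) (hst : ParSh.IsParStable k X 𝓕 r)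
    (i : F' ⟶ F) (p : F ⟶ F'') [Epi p] (𝓕' : ParSh.Str F') (𝓕'' : ParSh.Str F'')
    (hext : ParSh.IsParExt i p 𝓕' 𝓕 𝓕'')
    (φ : F'' ⟶ F') (hφ : ParSh.IsParHom 𝓕'' 𝓕' φ) : φ = 0 := by
  haveI : IsLocallyNoetherian X :=
    LocallyOfFiniteType.isLocallyNoetherian (X ↘ Spec (CommRingCat.of k))
  obtain ⟨w, hS, h1, h2⟩ := hext
  subst h1 h2
  haveI : Mono i := hS.mono_f
  by_contra hφ0
  have hψ0 : p ≫ φ ≫ i ≠ 0 := by
    intro h
    apply hφ0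
    have e1 : p ≫ (φ ≫ i) = p ≫ 0 := by rw [comp_zero]; exact h
    have h' := (cancel_epi p).mp e1
    have e2 : φ ≫ i = 0 ≫ i := by rw [zero_comp]; exact h'
    exact (cancel_mono i).mp e2
  have hψψ : (p ≫ φ ≫ i) ≫ (p ≫ φ ≫ i) = 0 := by
    simp only [Category.assoc]
    rw [← Category.assoc i p, w]
    simp
  have hpar : ParSh.IsParHom 𝓕 𝓕 (p ≫ φ ≫ i) := isParHom_of_ext 𝓕 i p φ hφ
  have hFf := TensBasis.isFinLocFree_of_rank hF
  obtain ⟨rK, rI, hK, hJ, hr, hrI, -, hmono⟩ :=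
    VBCurve.exists_kerIm_data k X hreg hdim.le (p ≫ φ ≫ i) hψ0 hF hFf
  have hrK : 0 < rK := by
    rw [Nat.pos_iff_ne_zero]
    intro h0
    haveI := (hmono h0).2
    apply hψ0
    have e : (p ≫ φ ≫ i) ≫ (p ≫ φ ≫ i) = 0 ≫ (p ≫ φ ≫ i) := by rw [zero_comp]; exact hψψ
    exact (cancel_mono (p ≫ φ ≫ i)).mp e
  obtain ⟨V', ι, u, hι, hu, hV', hsat⟩ :=
    exists_saturation k X hreg hdim (Abelian.image.ι (p ≫ φ ≫ i)) hJ hF
  haveI := hι
  haveI : Mono u := mono_of_mono_fac hu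
  have hfac : Abelian.factorThruImage (p ≫ φ ≫ i) ≫ u ≫ ι = p ≫ φ ≫ i := by
    rw [hu, Abelian.image.fac]
  have hmain := main18522 k X hdim I hI r rI hF 𝓕 h𝓕 𝓕 h𝓕 (p ≫ φ ≫ i) hpar
    (Abelian.factorThruImage (p ≫ φ ≫ i)) u ι hfac hJ hV' hsat
  have hstV' := hst V' rI ι hι hrI (by omega) hV'
  have hstK := hst (VBCurve.kerImSC (p ≫ φ ≫ i)).X₁ rK (VBCurve.kerImSC (p ≫ φ ≫ i)).f
    (VBCurve.kerImSC_shortExact (p ≫ φ ≫ i)).mono_f hrK (by omega) hK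
  have hadd := parDeg_add k X hdim.le I hI (K := (VBCurve.kerImSC (p ≫ φ ≫ i)).X₁) (F := F)
    (V := Abelian.image (p ≫ φ ≫ i)) (VBCurve.kerImSC (p ≫ φ ≫ i)).f
    (Abelian.factorThruImage (p ≫ φ ≫ i)) (VBCurve.kerImSC (p ≫ φ ≫ i)).zero
    (VBCurve.kerImSC_shortExact (p ≫ φ ≫ i)) hK hF hJ 𝓕 h𝓕
  have hrr : (r : ℝ) = rK + rI := by exact_mod_cast hr
  have h1 := mul_le_mul_of_nonneg_right hmain (Nat.cast_nonneg (α := ℝ) r)
  have h2 : 𝓕.parDeg k X r * (r : ℝ) =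
      (𝓕.induced (VBCurve.kerImSC (p ≫ φ ≫ i)).f).parDeg k X rK * (r : ℝ) +
        (𝓕.coinduced (Abelian.factorThruImage (p ≫ φ ≫ i))).parDeg k X rI * (r : ℝ) := by
    rw [hadd]; ring
  have h3 : 𝓕.parDeg k X r * (r : ℝ) =
      𝓕.parDeg k X r * (rK : ℝ) + 𝓕.parDeg k X r * (rI : ℝ) := by
    rw [hrr]; ring
  linarith

end Curve

end Groth.Agent.Lib.ParBunH6
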