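import Mathlib
import Groth.Prelude
import Groth.Agent.Lib.ParSh8_helper6

/-!
# Kernel and image of a parabolic homomorphism between semistable parabolic sheaves with the same
reduced parabolic Hilbert polynomial (helper6)

`core18529`, `main18529`.
APPEND-ONLY once landed.
-/

set_option autoImplicit false
set_option linter.all false
set_option maxHeartbeats 3200000

universe u v
open CategoryTheory CategoryTheory.Limits AlgebraicGeometry TopologicalSpace Opposite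
open Polynomial StabCat W4swparbununimod Filter Topology

namespace Groth.Agent.Lib.ParShH6

section Main

open Groth.Agent.Lib.HilbCalc Groth.Agent.Lib.HilbCalc2 Groth.Agent.Lib.ShStabH6
open Groth.Agent.Lib.AbFilt

variable (k : Type u) [Field k] {X : Scheme.{u}} [X.Over (Spec (CommRingCat.of k))]
  [IsProper (X ↘ Spec (CommRingCat.of k))] {L : X.Modules} (hL : CohB1.IsAmple L)

include hL

omit hL in
/-- the parabolic polynomial of the zero family. -/
theorem parPoly_zero {E : X.Modules} (𝓔 : ParSh.Str E) :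
    parPoly 𝓔 (fun _ => (0 : ℚ[X])) = 0 := by
  unfold parPoly
  simp [rpoly_zero]

/-- the induced pieces of a zero module have Hilbert polynomial zero. -/
theorem hilb_zero_of_isZero {W : X.Modules} (hW0 : IsZero W) (S : Subobject W) {Q : ℚ[X]}
    (hQ : ShStab.IsHilbPoly k X L (S : X.Modules) Q) : Q = 0 := by
  haveI : IsLocallyNoetherian X :=
    LocallyOfFiniteType.isLocallyNoetherian (X ↘ Spec (CommRingCat.of k))
  have hz : IsZero (S : X.Modules) := IsZero.of_mono S.arrow hW0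
  exact eq_zero_of_isZero k hL.1 (CohDevH8.isCoh_of_isZero hz) hz hQ

/-- the semistability inequality for a submodule with pure quotient, including the zero
submodule. -/
theorem ss_ineq (d : ℕ) {E : X.Modules} (hE : Coh.IsCoh E) (𝓔 : ParSh.Str E)
    (hcE : ∀ j, Coh.IsCoh ((𝓔.pieceX j : Subobject E) : X.Modules))
    (P : ℚ[X]) (PX : Fin (𝓔.l + 2) → ℚ[X])
    (hssE : (∀ (W : X.Modules) (ι : W ⟶ E), Mono ι → Coh.IsCoh W → ¬ IsZero W →
        ShStab.IsPure X (cokernel ι) d →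
        ∀ (Q : ℚ[X]) (QX : Fin (𝓔.l + 2) → ℚ[X]), ShStab.IsHilbPoly k X L W Q →
          (∀ j, ShStab.IsHilbPoly k X L (((𝓔.induced ι).pieceX j : Subobject W) : X.Modules)
            (QX j)) →
          ∃ M : ℕ, ∀ m : ℕ, M ≤ m →
            (parPoly (𝓔.induced ι) QX).eval (m : ℝ) * (alpha d P : ℝ) ≤
              (parPoly 𝓔 PX).eval (m : ℝ) * (alpha d Q : ℝ)))
    {W : X.Modules} (ι : W ⟶ E) [Mono ι] (hW : Coh.IsCoh W)
    (hWp : ShStab.IsPure X (cokernel ι) d)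
    (Q : ℚ[X]) (QX : Fin (𝓔.l + 2) → ℚ[X]) (hQ : ShStab.IsHilbPoly k X L W Q)
    (hQX : ∀ j, ShStab.IsHilbPoly k X L (((𝓔.induced ι).pieceX j : Subobject W) : X.Modules)
      (QX j)) :
    ∃ M : ℕ, ∀ m : ℕ, M ≤ m →
      (parPoly (𝓔.induced ι) QX).eval (m : ℝ) * (alpha d P : ℝ) ≤
        (parPoly 𝓔 PX).eval (m : ℝ) * (alpha d Q : ℝ) := by
  by_cases hW0 : IsZero W
  · refine ⟨0, fun m _ => ?_⟩
    have h1 : QX = fun _ => 0 := funext (fun i => hilb_zero_of_isZero k hL hW0 _ (hQX i))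
    haveI : IsLocallyNoetherian X :=
      LocallyOfFiniteType.isLocallyNoetherian (X ↘ Spec (CommRingCat.of k))
    have h2 : Q = 0 := eq_zero_of_isZero k hL.1 hW hW0 hQ
    have h3 : parPoly (𝓔.induced ι) QX = 0 := by
      subst h1
      exact parPoly_zero (𝓔.induced ι)
    rw [h3, h2, alpha_zero]
    simp
  · exact hssE W ι inferInstance hW hW0 hWp Q QX hQ hQX


omit hL in
/-- `Par` is additive in the family of polynomials (evaluated form). -/
theorem eval_parPoly_sub {E : X.Modules} (𝓔 : ParSh.Str E) (A B : Fin (𝓔.l + 2) → ℚ[X])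
    (m : ℕ) :
    (parPoly 𝓔 (fun i => A i - B i)).eval (m : ℝ) =
      (parPoly 𝓔 A).eval (m : ℝ) - (parPoly 𝓔 B).eval (m : ℝ) := by
  rw [eval_parPoly_abel, eval_parPoly_abel, eval_parPoly_abel]
  simp only [eval_sub, Rat.cast_sub, mul_sub, Finset.sum_sub_distrib]
  ring

/-- Hilbert polynomials of the induced pieces grow with the submodule. -/
theorem induced_hilb_le {E : X.Modules} (hE : Coh.IsCoh E) (𝓔 : ParSh.Str E)
    (hcoh : ∀ j, Coh.IsCoh ((𝓔.pieceX j : Subobject E) : X.Modules))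
    {W W' : X.Modules} (ι : W ⟶ E) (ι' : W' ⟶ E) (j : W ⟶ W') [Mono j] (hj : j ≫ ι' = ι)
    (hW : Coh.IsCoh W) (hW' : Coh.IsCoh W')
    (QX QX' : Fin (𝓔.l + 2) → ℚ[X])
    (hQX : ∀ i, ShStab.IsHilbPoly k X L (((𝓔.induced ι).pieceX i : Subobject W) : X.Modules)
      (QX i))
    (hQX' : ∀ i, ShStab.IsHilbPoly k X L (((𝓔.induced ι').pieceX i : Subobject W') : X.Modules)
      (QX' i)) (i : Fin (𝓔.l + 2)) :
    ∃ N : ℕ, ∀ m : ℕ, N ≤ m → (QX i).eval (m : ℚ) ≤ (QX' i).eval (m : ℚ) := by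
  haveI : IsLocallyNoetherian X :=
    LocallyOfFiniteType.isLocallyNoetherian (X ↘ Spec (CommRingCat.of k))
  have h1 := hQX i
  have h2 := hQX' i
  rw [Groth.Agent.Lib.ParHilbH7.induced_pieceX] at h1 h2
  exact hilb_le_of_mono k hL (pullbackMap ι ι' j hj (𝓔.pieceX i))
    (isCoh_pullback ι _ hW hE (hcoh i)) (isCoh_pullback ι' _ hW' hE (hcoh i)) h1 h2

/-- the Hilbert polynomial of the zeroth piece is that of the module. -/
theorem hilb_pieceX_zero {W : X.Modules} (𝓐 : ParSh.Str W) {Q : ℚ[X]}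
    (hQ : ShStab.IsHilbPoly k X L ((𝓐.pieceX 0 : Subobject W) : X.Modules) Q) :
    ShStab.IsHilbPoly k X L W Q := by
  have e0 : 𝓐.pieceX 0 = ⊤ := by
    have := 𝓐.pieceX_castSucc 0
    rw [Fin.castSucc_zero] at this
    rw [this, 𝓐.piece_zero]
  haveI : IsIso (𝓐.pieceX 0).arrow := (Subobject.isIso_arrow_iff_eq_top _).2 e0
  exact isHilbPoly_of_iso k (asIso (𝓐.pieceX 0).arrow) hQ

omit hL in
theorem wtX_zero_pos {E : X.Modules} (𝓔 : ParSh.Str E) (h : 0 < 𝓔.wt 0) : 0 < 𝓔.wtX 0 := by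
  have := 𝓔.wtX_castSucc 0
  rw [Fin.castSucc_zero] at this
  rw [this]
  exact h

/-- the core of **S18529**, with the two structures sharing their weights. -/
theorem core18529 (I : X.IdealSheafData) (d : ℕ) (hd : 1 ≤ d)
    {E F : X.Modules} (hE : Coh.IsCoh E) (hF : Coh.IsCoh F) (hE0 : ¬ IsZero E) (hF0 : ¬ IsZero F)
    (hEp : ShStab.IsPure X E d) (hFp : ShStab.IsPure X F d)
    (𝓔 : ParSh.Str E) (𝓕 : ParSh.Str F)
    (pieceF : Fin (𝓔.l + 1) → Subobject F) (botF : Subobject F)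
    (h1 : pieceF 0 = ⊤) (h2 : Antitone pieceF) (h3 : ∀ j, botF ≤ pieceF j)
    (h4 : StrictMono 𝓔.wt) (h5 : 0 ≤ 𝓔.wt 0) (h6 : 𝓔.wt (Fin.last 𝓔.l) < 1)
    (h𝓕 : 𝓕 = ParSh.Str.mk 𝓔.l pieceF botF 𝓔.wt h1 h2 h3 h4 h5 h6)
    (hcE : ∀ j, Coh.IsCoh ((𝓔.pieceX j : Subobject E) : X.Modules))
    (hw0 : 0 < 𝓔.wt 0)
    (P R : ℚ[X]) (hP : ShStab.IsHilbPoly k X L E P) (hR : ShStab.IsHilbPoly k X L F R)
    (PX : Fin (𝓔.l + 2) → ℚ[X])
    (hPX : ∀ j, ShStab.IsHilbPoly k X L ((𝓔.pieceX j : Subobject E) : X.Modules) (PX j))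
    (hssE : (∀ (W : X.Modules) (ι : W ⟶ E), Mono ι → Coh.IsCoh W → ¬ IsZero W →
        ShStab.IsPure X (cokernel ι) d →
        ∀ (Q : ℚ[X]) (QX : Fin (𝓔.l + 2) → ℚ[X]), ShStab.IsHilbPoly k X L W Q →
          (∀ j, ShStab.IsHilbPoly k X L (((𝓔.induced ι).pieceX j : Subobject W) : X.Modules)
            (QX j)) →
          ∃ M : ℕ, ∀ m : ℕ, M ≤ m →
            (parPoly (𝓔.induced ι) QX).eval (m : ℝ) * (alpha d P : ℝ) ≤
              (parPoly 𝓔 PX).eval (m : ℝ) * (alpha d Q : ℝ)))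
    {K V : X.Modules} (j : K ⟶ E) [Mono j] (q : E ⟶ V) [Epi q] (u : V ⟶ F) [Mono u] :
    ∀ (hcF : ∀ j, Coh.IsCoh ((𝓕.pieceX j : Subobject F) : X.Modules))
    (RX : Fin (𝓕.l + 2) → ℚ[X])
    (hRX : ∀ j, ShStab.IsHilbPoly k X L ((𝓕.pieceX j : Subobject F) : X.Modules) (RX j))
    (hssF : (∀ (W : X.Modules) (ι : W ⟶ F), Mono ι → Coh.IsCoh W → ¬ IsZero W →
        ShStab.IsPure X (cokernel ι) d →
        ∀ (Q : ℚ[X]) (QX : Fin (𝓕.l + 2) → ℚ[X]), ShStab.IsHilbPoly k X L W Q →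
          (∀ j, ShStab.IsHilbPoly k X L (((𝓕.induced ι).pieceX j : Subobject W) : X.Modules)
            (QX j)) →
          ∃ M : ℕ, ∀ m : ℕ, M ≤ m →
            (parPoly (𝓕.induced ι) QX).eval (m : ℝ) * (alpha d R : ℝ) ≤
              (parPoly 𝓕 RX).eval (m : ℝ) * (alpha d Q : ℝ)))
    (hred : parPoly 𝓔 PX * Polynomial.C (alpha d R : ℝ) =
      parPoly 𝓕 RX * Polynomial.C (alpha d P : ℝ))
    (f : E ⟶ F) (hf : ParSh.IsParHom 𝓔 𝓕 f) (w : j ≫ f = 0)
    (hex : (ShortComplex.mk j f w).Exact) (hqu : q ≫ u = f),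
    (∀ (QK : ℚ[X]) (QKX : Fin (𝓔.l + 2) → ℚ[X]), ShStab.IsHilbPoly k X L K QK →
        (∀ j', ShStab.IsHilbPoly k X L (((𝓔.induced j).pieceX j' : Subobject K) : X.Modules)
          (QKX j')) →
        parPoly (𝓔.induced j) QKX * Polynomial.C (alpha d P : ℝ) =
          parPoly 𝓔 PX * Polynomial.C (alpha d QK : ℝ)) ∧
    ShStab.IsPure X (cokernel u) d ∧
    (∀ a : ℝ, 0 ≤ a → a ≤ 1 → (𝓔.coinduced q).at a = (𝓕.induced u).at a) := by
  subst h𝓕
  set 𝓕 : ParSh.Str F := ParSh.Str.mk 𝓔.l pieceF botF 𝓔.wt h1 h2 h3 h4 h5 h6 with h𝓕def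
  intro hcF RX hRX hssF hred f hf w hex hqu
  haveI : IsLocallyNoetherian X :=
    LocallyOfFiniteType.isLocallyNoetherian (X ↘ Spec (CommRingCat.of k))
  have hax := ShStabH6.ax k hL d
  have haP : 0 < alpha d P := alpha_pos k hL hE d (dim_support_of_isPure hEp hE hE0) hP
  have haR : 0 < alpha d R := alpha_pos k hL hF d (dim_support_of_isPure hFp hF hF0) hR
  -- the short exact sequence `K ⟶ E ⟶ V`
  have wq : j ≫ q = 0 := by
    rw [← cancel_mono u, Category.assoc, hqu, w, Limits.zero_comp]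
  have hKer : IsLimit (KernelFork.ofι j wq) :=
    KernelFork.IsLimit.ofι' _ _ (fun {T} t ht => by
      have ht' : t ≫ f = 0 := by rw [← hqu, ← Category.assoc, ht, Limits.zero_comp]
      exact ⟨hex.lift t ht', hex.lift_f t ht'⟩)
  have hS : (ShortComplex.mk j q wq).ShortExact :=
    ShortComplex.ShortExact.mk' (ShortComplex.exact_of_f_is_kernel _ hKer)
      (inferInstanceAs (Mono j)) (inferInstanceAs (Epi q))
  have hK : Coh.IsCoh K :=
    CohDevH8.isCoh_of_iso (IsLimit.conePointUniqueUpToIso hex.fIsKernel (kernelIsKernel f))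
      (CohKerH8.isCoh_kernel hE hF f)
  have eV : V ≅ cokernel j := by
    have e := IsColimit.coconePointUniqueUpToIso hS.gIsCokernel (cokernelIsCokernel j)
    exact e
  have hV : Coh.IsCoh V := CohDevH8.isCoh_of_iso eV (CohKerH8.isCoh_cokernel hK hE j)
  -- purity of `V` and of `E / K`
  have hVp : ShStab.IsPure X V d := fun G ι hι hG hG0 => by
    haveI := hι
    exact hFp G (ι ≫ u) (mono_comp _ _) hG hG0
  have hcokj : ShStab.IsPure X (cokernel j) d :=
    hax.pure_iso eV hVp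
  -- coherence of the pieces
  have hcK := isCoh_induced_pieceX j 𝓔 hK hE hcE
  have hcVs := isCoh_induced_pieceX u 𝓕 hV hF hcF
  have hcVq : ∀ i, Coh.IsCoh (((𝓔.coinduced q).pieceX i : Subobject V) : X.Modules) := by
    intro i
    rw [Groth.Agent.Lib.ParHilbH7.coinduced_pieceX]
    exact isCoh_image k hL _ (hcE i) hV
  -- the saturation of `V` in `F`
  have hFok : Coh.IsCoh ((Subobject.mk u : Subobject F) : X.Modules) :=
    hax.ok_iso (Subobject.underlyingIso u).symm hV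
  have hFD : DimLE X d F := (dim_support_of_isPure hFp hF hF0).le
  obtain ⟨F', hle, hF', hF'p, R', hR', hR'α, -⟩ := exists_saturation hax hF hFD hFok
  let j' : V ⟶ (F' : X.Modules) :=
    (Subobject.underlyingIso u).inv ≫ Subobject.ofLE (Subobject.mk u) F' hle
  have hj' : j' ≫ F'.arrow = u := by
    simp only [j', Category.assoc, Subobject.ofLE_arrow, Subobject.underlyingIso_arrow]
  haveI : Mono j' := by dsimp only [j']; infer_instance
  have hcV' := isCoh_induced_pieceX F'.arrow 𝓕 hF' hF hcF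
  -- Hilbert polynomials
  obtain ⟨QK, hQK⟩ := exists_hilbPoly k hL.1 K hK
  choose QKX hQKX using fun i => exists_hilbPoly k hL.1 _ (hcK i)
  obtain ⟨QV, hQV⟩ := exists_hilbPoly k hL.1 V hV
  choose QsX hQsX using fun i => exists_hilbPoly k hL.1 _ (hcVs i)
  choose Q'X hQ'X using fun i => exists_hilbPoly k hL.1 _ (hcV' i)
  have hQ' : ShStab.IsHilbPoly k X L (F' : X.Modules) (QV + R') := by
    have e1 : hpf (ShStab.IsHilbPoly k X L) ((Subobject.mk u : Subobject F) : X.Modules) = QV :=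
      hpf_eq hax hFok (hax.hp_iso (Subobject.underlyingIso u).symm hQV)
    rw [← e1, ← hR']
    exact hpf_spec hax hF'
  have hQqX : ∀ i, ShStab.IsHilbPoly k X L
      (((𝓔.coinduced q).pieceX i : Subobject V) : X.Modules) (PX i - QKX i) := by
    intro i
    rw [Groth.Agent.Lib.ParHilbH7.coinduced_pieceX]
    have h := hQKX i
    rw [Groth.Agent.Lib.ParHilbH7.induced_pieceX] at h
    exact hilb_image k hL j q wq hS hV (𝓔.pieceX i) (hcE i) h (hPX i)
  have hPadd : P = QK + QV :=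
    isHilbPoly_unique k hP (isHilbPoly_add k hL.1 _ hS hK hE hV hQK hQV)
  -- the images of the pieces lie in the preimages of the pieces
  have hle_pieces : ∀ i, (𝓔.coinduced q).pieceX i ≤ (𝓕.induced u).pieceX i := by
    intro i
    rw [Groth.Agent.Lib.ParHilbH7.coinduced_pieceX, Groth.Agent.Lib.ParHilbH7.induced_pieceX]
    apply image_le_pullback
    rw [hqu]
    exact factors_of_isParHom 𝓔 𝓕 f hf pieceF botF h1 h2 h3 h4 h5 h6 rfl i
  -- the inequalities
  obtain ⟨M1, e1⟩ := ss_ineq k hL d hE 𝓔 hcE P PX hssE j hK hcokj QK QKX hQK hQKX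
  obtain ⟨M2, e2⟩ := par_le_of_le (𝓔.coinduced q) (𝓕.induced u) rfl (fun _ => rfl)
    (fun i => PX i - QKX i) QsX (fun i => hilb_le_of_mono k hL
      (Subobject.ofLE _ _ (hle_pieces i)) (hcVq i) (hcVs i) (hQqX i) (hQsX i))
  obtain ⟨M3, e3⟩ := par_mono k hL hF 𝓕 hcF u F'.arrow j' hj' hV hF' QsX Q'X hQsX hQ'X
  obtain ⟨M4, e4⟩ := ss_ineq k hL d hF 𝓕 hcF R RX hssF F'.arrow hF' hF'p (QV + R') Q'X hQ' hQ'X
  have hαV : alpha d (QV + R') = alpha d QV := by rw [alpha_add, hR'α, add_zero]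
  have e5 : ∀ m : ℕ, (parPoly 𝓔 PX).eval (m : ℝ) * (alpha d R : ℝ) =
      (parPoly 𝓕 RX).eval (m : ℝ) * (alpha d P : ℝ) := by
    intro m
    have := congrArg (Polynomial.eval (m : ℝ)) hred
    rwa [eval_mul, eval_mul, eval_C, eval_C] at this
  have e6 : ∀ m : ℕ, (parPoly (𝓔.induced j) QKX).eval (m : ℝ) +
      (parPoly (𝓔.coinduced q) (fun i => PX i - QKX i)).eval (m : ℝ) =
        (parPoly 𝓔 PX).eval (m : ℝ) := by
    intro m
    have t1 : parPoly (𝓔.coinduced q) (fun i => PX i - QKX i) =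
        parPoly 𝓔 (fun i => PX i - QKX i) := rfl
    have t2 : parPoly (𝓔.induced j) QKX = parPoly 𝓔 QKX := rfl
    rw [t1, t2, eval_parPoly_sub]
    ring
  have e7 : (alpha d P : ℝ) = (alpha d QK : ℝ) + (alpha d QV : ℝ) := by
    rw [hPadd, alpha_add]
    push_cast
    rfl
  have hchain : ∀ m : ℕ, max (max M1 M2) (max M3 M4) ≤ m →
      (parPoly (𝓔.coinduced q) (fun i => PX i - QKX i)).eval (m : ℝ) =
        (parPoly (𝓕.induced u) QsX).eval (m : ℝ) ∧
      (parPoly (𝓕.induced u) QsX).eval (m : ℝ) =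
        (parPoly (𝓕.induced F'.arrow) Q'X).eval (m : ℝ) ∧
      (parPoly (𝓔.induced j) QKX).eval (m : ℝ) * (alpha d P : ℝ) =
        (parPoly 𝓔 PX).eval (m : ℝ) * (alpha d QK : ℝ) := by
    intro m hm
    have a1 := e1 m (le_trans (le_trans (le_max_left _ _) (le_max_left _ _)) hm)
    have a2 := e2 m (le_trans (le_trans (le_max_right _ _) (le_max_left _ _)) hm)
    have a3 := e3 m (le_trans (le_trans (le_max_left _ _) (le_max_right _ _)) hm)
    have a4 := e4 m (le_trans (le_trans (le_max_right _ _) (le_max_right _ _)) hm)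
    rw [hαV] at a4
    exact chain_arith (by exact_mod_cast haP) (by exact_mod_cast haR) a1 (e6 m) a2 a3 a4 (e5 m) e7
  have hW0 : 0 < 𝓔.wtX 0 := wtX_zero_pos 𝓔 hw0
  refine ⟨?_, ?_, ?_⟩
  · -- the kernel
    intro QK' QKX' hQK' hQKX'
    have t1 : QK' = QK := isHilbPoly_unique k hQK' hQK
    have t2 : QKX' = QKX := funext (fun i => isHilbPoly_unique k (hQKX' i) (hQKX i))
    subst t1 t2
    apply real_poly_eq_of_eventually_eq (max (max M1 M2) (max M3 M4))
    intro m hm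
    rw [eval_mul, eval_mul, eval_C, eval_C]
    exact (hchain m hm).2.2
  · -- the image is saturated
    have hb := induced_hilb_le k hL hF 𝓕 hcF u F'.arrow j' hj' hV hF' QsX Q'X hQsX hQ'X
    choose N hN using hb
    have hterm : QsX 0 = Q'X 0 := by
      apply poly_eq_of_eventually_eq (max (max (max M1 M2) (max M3 M4)) (Finset.univ.sup N))
      intro m hm
      have hc := (hchain m (le_trans (le_max_left _ _) hm)).2.1
      rw [eval_parPoly_abel, eval_parPoly_abel] at hc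
      have := termwise_eq 𝓔.wtX (fun i => (((QsX i).eval (m : ℚ) : ℚ) : ℝ))
        (fun i => (((Q'X i).eval (m : ℚ) : ℚ) : ℝ)) hW0 (wtX_succ_sub_pos 𝓔)
        (fun i => by
          have := hN i m (le_trans (le_trans (Finset.le_sup (Finset.mem_univ i))
            (le_max_right _ _)) hm)
          exact_mod_cast this) hc 0
      exact_mod_cast this
    have hV0 := hilb_pieceX_zero k hL (𝓕.induced u) (hQsX 0)
    have hF'0 := hilb_pieceX_zero k hL (𝓕.induced F'.arrow) (hQ'X 0)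
    rw [hterm] at hV0
    haveI : IsIso j' := isIso_of_mono_of_hilb_eq k hL j' hV hF' hV0 hF'0
    exact hax.pure_iso
      ((cokernelIsoOfEq hj').symm ≪≫ cokernelEpiComp j' F'.arrow).symm hF'p
  · -- the two filtrations of the image agree
    intro a _ _
    have hb : ∀ i, ∃ N : ℕ, ∀ m : ℕ, N ≤ m →
        (PX i - QKX i).eval (m : ℚ) ≤ (QsX i).eval (m : ℚ) := fun i =>
      hilb_le_of_mono k hL (Subobject.ofLE _ _ (hle_pieces i)) (hcVq i) (hcVs i) (hQqX i) (hQsX i)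
    choose N hN using hb
    have hterm : ∀ i, PX i - QKX i = QsX i := by
      intro i
      apply poly_eq_of_eventually_eq (max (max (max M1 M2) (max M3 M4)) (Finset.univ.sup N))
      intro m hm
      have hc := (hchain m (le_trans (le_max_left _ _) hm)).1
      rw [eval_parPoly_abel, eval_parPoly_abel] at hc
      have := termwise_eq 𝓔.wtX (fun i => (((PX i - QKX i).eval (m : ℚ) : ℚ) : ℝ))
        (fun i => (((QsX i).eval (m : ℚ) : ℚ) : ℝ)) hW0 (wtX_succ_sub_pos 𝓔)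
        (fun i => by
          have := hN i m (le_trans (le_trans (Finset.le_sup (Finset.mem_univ i))
            (le_max_right _ _)) hm)
          exact_mod_cast this) hc i
      exact_mod_cast this
    have hpieces : ∀ i, (𝓔.coinduced q).pieceX i = (𝓕.induced u).pieceX i := fun i =>
      eq_of_le_of_hilb_eq k hL (hle_pieces i) (hcVq i) (hcVs i) (hQqX i) (hterm i ▸ hQsX i)
    exact at_eq_of_pieceX_eq (𝓔.coinduced q) (𝓕.induced u) rfl (fun _ => rfl)
      (fun i => (hpieces i).symm) a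


/-- **S18529**. -/
theorem main18529 (I : X.IdealSheafData) (d : ℕ) (hd : 1 ≤ d)
    {E F : X.Modules} (hE : Coh.IsCoh E) (hF : Coh.IsCoh F) (hE0 : ¬ IsZero E) (hF0 : ¬ IsZero F)
    (hEp : ShStab.IsPure X E d) (hFp : ShStab.IsPure X F d)
    (𝓔 : ParSh.Str E) (𝓕 : ParSh.Str F)
    (hcE : ∀ j, Coh.IsCoh ((𝓔.pieceX j : Subobject E) : X.Modules))
    (hcF : ∀ j, Coh.IsCoh ((𝓕.pieceX j : Subobject F) : X.Modules))
    (hw : Set.range 𝓕.wt = Set.range 𝓔.wt) (hw0 : 0 < 𝓔.wt 0)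
    (P R : ℚ[X]) (hP : ShStab.IsHilbPoly k X L E P) (hR : ShStab.IsHilbPoly k X L F R)
    (PX : Fin (𝓔.l + 2) → ℚ[X])
    (hPX : ∀ j, ShStab.IsHilbPoly k X L ((𝓔.pieceX j : Subobject E) : X.Modules) (PX j))
    (RX : Fin (𝓕.l + 2) → ℚ[X])
    (hRX : ∀ j, ShStab.IsHilbPoly k X L ((𝓕.pieceX j : Subobject F) : X.Modules) (RX j))
    (hssE : (∀ (W : X.Modules) (ι : W ⟶ E), Mono ι → Coh.IsCoh W → ¬ IsZero W →
        ShStab.IsPure X (cokernel ι) d →
        ∀ (Q : ℚ[X]) (QX : Fin (𝓔.l + 2) → ℚ[X]), ShStab.IsHilbPoly k X L W Q →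
          (∀ j, ShStab.IsHilbPoly k X L (((𝓔.induced ι).pieceX j : Subobject W) : X.Modules)
            (QX j)) →
          ∃ M : ℕ, ∀ m : ℕ, M ≤ m →
            (parPoly (𝓔.induced ι) QX).eval (m : ℝ) * (alpha d P : ℝ) ≤
              (parPoly 𝓔 PX).eval (m : ℝ) * (alpha d Q : ℝ)))
    (hssF : (∀ (W : X.Modules) (ι : W ⟶ F), Mono ι → Coh.IsCoh W → ¬ IsZero W →
        ShStab.IsPure X (cokernel ι) d →
        ∀ (Q : ℚ[X]) (QX : Fin (𝓕.l + 2) → ℚ[X]), ShStab.IsHilbPoly k X L W Q →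
          (∀ j, ShStab.IsHilbPoly k X L (((𝓕.induced ι).pieceX j : Subobject W) : X.Modules)
            (QX j)) →
          ∃ M : ℕ, ∀ m : ℕ, M ≤ m →
            (parPoly (𝓕.induced ι) QX).eval (m : ℝ) * (alpha d R : ℝ) ≤
              (parPoly 𝓕 RX).eval (m : ℝ) * (alpha d Q : ℝ)))
    (hred : parPoly 𝓔 PX * Polynomial.C (alpha d R : ℝ) =
      parPoly 𝓕 RX * Polynomial.C (alpha d P : ℝ))
    (f : E ⟶ F) (hf : ParSh.IsParHom 𝓔 𝓕 f)
    {K V : X.Modules} (j : K ⟶ E) [Mono j] (w : j ≫ f = 0)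
    (hex : (ShortComplex.mk j f w).Exact)
    (q : E ⟶ V) [Epi q] (u : V ⟶ F) [Mono u] (hqu : q ≫ u = f) :
    (∀ (QK : ℚ[X]) (QKX : Fin (𝓔.l + 2) → ℚ[X]), ShStab.IsHilbPoly k X L K QK →
        (∀ j', ShStab.IsHilbPoly k X L (((𝓔.induced j).pieceX j' : Subobject K) : X.Modules)
          (QKX j')) →
        parPoly (𝓔.induced j) QKX * Polynomial.C (alpha d P : ℝ) =
          parPoly 𝓔 PX * Polynomial.C (alpha d QK : ℝ)) ∧
    ShStab.IsPure X (cokernel u) d ∧
    (∀ a : ℝ, 0 ≤ a → a ≤ 1 → (𝓔.coinduced q).at a = (𝓕.induced u).at a) := by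
  have hl := str_l_eq 𝓔 𝓕 hw
  obtain ⟨lF, pieceF, botF, wtF, h1, h2, h3, h4, h5, h6⟩ := 𝓕
  simp only at hl
  subst hl
  have hwt : wtF = 𝓔.wt := (StrictMono.range_inj h4 𝓔.wt_strictMono).mp hw
  subst hwt
  exact core18529 k hL I d hd hE hF hE0 hF0 hEp hFp 𝓔 _ pieceF botF h1 h2 h3 h4 h5 h6 rfl
    hcE hw0 P R hP hR PX hPX hssE j q u hcF RX hRX hssF hred f hf w hex hqu

end Main

end Groth.Agent.Lib.ParShH6
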