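import Mathlib
import Groth.Agent.Lib.EtApxSch2_helper5

set_option autoImplicit false
set_option linter.style.haveILetI false
set_option linter.unusedVariables false
set_option maxHeartbeats 1600000
universe u

open AlgebraicGeometry CategoryTheory Limits IsLocalRing

namespace Groth.Agent.Lib.ChartH5

section chart
variable {Z : Scheme.{u}} {E : CommRingCat.{u}} (c : Spec E ⟶ Z) [IsOpenImmersion c] (y' : Spec E)

/-- the ring homomorphism from the chart ring to the stalk at the image point -/
noncomputable def toStalkHom : E →+* Z.presheaf.stalk (c y') :=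
  (inv (c.stalkMap y')).hom.comp
    (@algebraMap E ((Spec E).presheaf.stalk y') _ _ (StructureSheaf.stalkAlgebra E y'))

theorem stalkMap_toStalkHom (z : E) :
    (c.stalkMap y').hom (toStalkHom c y' z) =
      (Spec E).presheaf.germ ⊤ y' trivial ((Scheme.ΓSpecIso E).inv.hom z) := by
  show ((inv (c.stalkMap y')) ≫ c.stalkMap y').hom _ = _
  rw [IsIso.inv_hom_id]
  rfl

theorem isLocalization_toStalkHom :
    letI := (toStalkHom c y').toAlgebra
    IsLocalization.AtPrime (Z.presheaf.stalk (c y')) y'.asIdeal := by
  letI := (toStalkHom c y').toAlgebra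
  letI algS : Algebra E ((Spec E).presheaf.stalk y') := StructureSheaf.stalkAlgebra E y'
  haveI locS : IsLocalization.AtPrime ((Spec E).presheaf.stalk y') y'.asIdeal :=
    StructureSheaf.IsLocalization.to_stalk E y'
  let e : (Spec E).presheaf.stalk y' ≃ₐ[E] Z.presheaf.stalk (c y') :=
    { (asIso (c.stalkMap y')).symm.commRingCatIsoToRingEquiv with
      commutes' := fun r => rfl }
  exact IsLocalization.isLocalization_of_algEquiv y'.asIdeal.primeCompl e

/-- germs of global sections of an affine target, pulled back along a morphism whose restriction to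
the chart is given by a ring map. -/
theorem stalkMap_germ_top {L' : CommRingCat.{u}} (h : Z ⟶ Spec L') (θ : L' ⟶ E)
    (e : c ≫ h = Spec.map θ) (l : L') :
    (h.stalkMap (c y')).hom ((Spec L').presheaf.germ ⊤ (h (c y')) trivial
      ((Scheme.ΓSpecIso L').inv.hom l)) = toStalkHom c y' (θ.hom l) := by
  haveI : IsIso (c.stalkMap y') := inferInstance
  have hinj : Function.Injective (c.stalkMap y').hom :=
    ((asIso (c.stalkMap y')).commRingCatIsoToRingEquiv).injective
  apply hinj
  rw [stalkMap_toStalkHom]
  have h1 : (c.stalkMap y').hom ((h.stalkMap (c y')).hom ((Spec L').presheaf.germ ⊤ (h (c y'))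
      trivial ((Scheme.ΓSpecIso L').inv.hom l))) =
      ((c ≫ h).stalkMap y').hom ((Spec L').presheaf.germ ⊤ ((c ≫ h) y') trivial
        ((Scheme.ΓSpecIso L').inv.hom l)) := by
    rw [Scheme.Hom.stalkMap_comp]
    rfl
  rw [h1]
  clear h1
  generalize c ≫ h = f at e
  subst e
  rw [Scheme.Hom.germ_stalkMap_apply]
  have h3 := Scheme.ΓSpecIso_inv_naturality θ
  have h4 : (Spec.map θ).app ⊤ ((Scheme.ΓSpecIso L').inv.hom l) =
      (Scheme.ΓSpecIso E).inv.hom (θ.hom l) := by
    have := congrArg (fun g => g.hom l) h3
    exact this.symm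
  rw [h4]
  rfl

end chart

end Groth.Agent.Lib.ChartH5
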