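import Mathlib
import Groth.Agent.Lib.EtApxSch2_helper5
import Groth.Agent.Lib.OmegaPt_helper5

set_option autoImplicit false
set_option linter.style.haveILetI false
set_option linter.unusedVariables false
set_option maxHeartbeats 1600000
universe u

open AlgebraicGeometry CategoryTheory Limits IsLocalRing

namespace Groth.Agent.Lib.ChartH5

open Groth.Agent.Lib.OmegaPtH5

theorem SpecMap_stalkMap_germ_top {C D : CommRingCat.{u}} (θ : C ⟶ D) (w : Spec D) (c : C) :
    ((Spec.map θ).stalkMap w).hom ((Spec C).presheaf.germ ⊤ ((Spec.map θ) w) trivial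
      ((Scheme.ΓSpecIso C).inv.hom c)) =
      (Spec D).presheaf.germ ⊤ w trivial ((Scheme.ΓSpecIso D).inv.hom (θ.hom c)) := by
  rw [Scheme.Hom.germ_stalkMap_apply]
  have h3 := Scheme.ΓSpecIso_inv_naturality θ
  have h4 : (Spec.map θ).app ⊤ ((Scheme.ΓSpecIso C).inv.hom c) =
      (Scheme.ΓSpecIso D).inv.hom (θ.hom c) := by
    have := congrArg (fun g => g.hom c) h3
    exact this.symm
  rw [h4]
  rfl

/-- trivial residue field extension for a morphism of affine schemes, from the fraction
condition. -/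
theorem bijective_residueFieldMap_SpecMap {C D : CommRingCat.{u}} (θ : C ⟶ D) (w : Spec D)
    (hfrac : ∀ d : D, ∃ r s : C, θ.hom s ∉ w.asIdeal ∧ θ.hom s * d - θ.hom r ∈ w.asIdeal) :
    Function.Bijective ((Spec.map θ).residueFieldMap w).hom := by
  classical
  constructor
  · exact ((Spec.map θ).residueFieldMap w).hom.injective
  · letI algD : Algebra D ((Spec D).presheaf.stalk w) := StructureSheaf.stalkAlgebra D w
    haveI locD : IsLocalization.AtPrime ((Spec D).presheaf.stalk w) w.asIdeal :=
      StructureSheaf.IsLocalization.to_stalk D w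
    have halgD : ∀ d : D, algebraMap D ((Spec D).presheaf.stalk w) d =
        (Spec D).presheaf.germ ⊤ w trivial ((Scheme.ΓSpecIso D).inv.hom d) := fun d => rfl
    obtain ⟨F, hF⟩ : ∃ F : Subfield ((Spec D).residueField w),
        F = ((Spec.map θ).residueFieldMap w).hom.fieldRange := ⟨_, rfl⟩
    let ωw : D →+* (Spec D).residueField w :=
      (IsLocalRing.residue ((Spec D).presheaf.stalk w)).comp
        (algebraMap D ((Spec D).presheaf.stalk w))
    have hωw0 : ∀ d : D, ωw d = 0 ↔ d ∈ w.asIdeal := by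
      intro d
      show IsLocalRing.residue _ (algebraMap D _ d) = 0 ↔ _
      rw [IsLocalRing.residue_eq_zero_iff,
        IsLocalization.AtPrime.to_map_mem_maximal_iff ((Spec D).presheaf.stalk w) w.asIdeal]
    have h1 : ∀ c : C, ωw (θ.hom c) ∈ F := by
      intro c
      rw [hF]
      refine ⟨IsLocalRing.residue _ ((Spec C).presheaf.germ ⊤ ((Spec.map θ) w) trivial
        ((Scheme.ΓSpecIso C).inv.hom c)), ?_⟩
      show IsLocalRing.ResidueField.map ((Spec.map θ).stalkMap w).hom (IsLocalRing.residue _ _) = _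
      rw [IsLocalRing.ResidueField.map_residue, SpecMap_stalkMap_germ_top]
      rfl
    have h2 : ∀ d : D, ωw d ∈ F := by
      intro d
      obtain ⟨r, s, hs, hrs⟩ := hfrac d
      have hs0 : ωw (θ.hom s) ≠ 0 := fun h => hs ((hωw0 _).mp h)
      have h3 : ωw (θ.hom s) * ωw d = ωw (θ.hom r) := by
        have := (hωw0 _).mpr hrs
        rw [map_sub, map_mul, sub_eq_zero] at this
        exact this
      have h4 : ωw d = ωw (θ.hom r) / ωw (θ.hom s) := by
        rw [← h3]
        field_simp
      rw [h4]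
      exact div_mem (h1 r) (h1 s)
    intro z
    obtain ⟨z', rfl⟩ := IsLocalRing.residue_surjective z
    obtain ⟨d, s', rfl⟩ := IsLocalization.exists_mk'_eq w.asIdeal.primeCompl z'
    have hs0 : ωw (s' : D) ≠ 0 := fun h => s'.2 ((hωw0 _).mp h)
    have hspec : IsLocalization.mk' ((Spec D).presheaf.stalk w) d s' *
        algebraMap D ((Spec D).presheaf.stalk w) s' = algebraMap D _ d :=
      IsLocalization.mk'_spec _ d s'
    have h5 : IsLocalRing.residue _ (IsLocalization.mk' ((Spec D).presheaf.stalk w) d s') =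
        ωw d / ωw (s' : D) := by
      refine (eq_div_iff hs0).mpr ?_
      show IsLocalRing.residue _ _ * IsLocalRing.residue _ (algebraMap D _ (s' : D)) =
        IsLocalRing.residue _ (algebraMap D _ d)
      exact ((IsLocalRing.residue ((Spec D).presheaf.stalk w)).map_mul _ _).symm.trans
        (congrArg _ hspec)
    have h6 : IsLocalRing.residue _ (IsLocalization.mk' ((Spec D).presheaf.stalk w) d s') ∈ F := by
      rw [h5]
      exact div_mem (h2 d) (h2 _)
    rw [hF] at h6
    exact h6

end Groth.Agent.Lib.ChartH5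

namespace Groth.Agent.Lib.ChartH5

open Groth.Agent.Lib.OmegaPtH5

/-- the same after composing with an open immersion. -/
theorem bijective_residueFieldMap_comp {C D : CommRingCat.{u}} {Z : Scheme.{u}} (θ : C ⟶ D)
    (j : Spec C ⟶ Z) [IsOpenImmersion j] (w : Spec D)
    (hfrac : ∀ d : D, ∃ r s : C, θ.hom s ∉ w.asIdeal ∧ θ.hom s * d - θ.hom r ∈ w.asIdeal) :
    Function.Bijective ((Spec.map θ ≫ j).residueFieldMap w).hom := by
  rw [Scheme.residueFieldMap_comp]
  show Function.Bijective (((Spec.map θ).residueFieldMap w).hom ∘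
    (j.residueFieldMap ((Spec.map θ) w)).hom)
  refine (bijective_residueFieldMap_SpecMap θ w hfrac).comp ?_
  exact ((asIso (j.residueFieldMap ((Spec.map θ) w))).commRingCatIsoToRingEquiv).bijective

/-- the fraction condition from `FS`. -/
theorem hfrac_of_FS {C D : CommRingCat.{u}} (θ : C ⟶ D) {Ω : Type*} [Field Ω] (ω : D →+* Ω)
    (h : FS θ.hom ω) (w : Spec D) (hw : w.asIdeal = RingHom.ker ω) :
    ∀ d : D, ∃ r s : C, θ.hom s ∉ w.asIdeal ∧ θ.hom s * d - θ.hom r ∈ w.asIdeal := by
  intro d
  obtain ⟨r, s, hs, hrs⟩ := hfrac_of_fs h d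
  rw [hw]
  exact ⟨r, s, hs, hrs⟩

end Groth.Agent.Lib.ChartH5
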