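import Mathlib

set_option autoImplicit false
set_option linter.style.haveILetI false
set_option linter.unusedVariables false
set_option maxHeartbeats 1600000
universe u

open AlgebraicGeometry CategoryTheory Limits IsLocalRing

namespace Groth.Agent.Lib.ChartH5

theorem finiteType_int_of_locallyOfFiniteType {T : Scheme.{u}}
    [LocallyOfFiniteType (specULiftZIsTerminal.from T)] {W : T.Opens} (hW : IsAffineOpen W) :
    Algebra.FiniteType ℤ Γ(T, W) := by
  have h := LocallyOfFiniteType.finiteType_appLE (specULiftZIsTerminal.from T)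
    (isAffineOpen_top (Spec (CommRingCat.of (ULift.{u} ℤ)))) hW le_top
  let g : ℤ →+* Γ(Spec (CommRingCat.of (ULift.{u} ℤ)), ⊤) :=
    (Scheme.ΓSpecIso (CommRingCat.of (ULift.{u} ℤ))).inv.hom.comp
      (ULift.ringEquiv.symm.toRingHom : ℤ →+* ULift.{u} ℤ)
  have hg : Function.Surjective g := by
    have h1 : Function.Surjective (ULift.ringEquiv.symm.toRingHom : ℤ →+* ULift.{u} ℤ) :=
      ULift.ringEquiv.symm.surjective
    have h2 : Function.Surjective (Scheme.ΓSpecIso (CommRingCat.of (ULift.{u} ℤ))).inv.hom :=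
      ((Scheme.ΓSpecIso (CommRingCat.of (ULift.{u} ℤ))).symm.commRingCatIsoToRingEquiv).surjective
    exact h2.comp h1
  have h2 := RingHom.FiniteType.comp h (RingHom.FiniteType.of_surjective g hg)
  have h3 : ((specULiftZIsTerminal.from T).appLE ⊤ W le_top).hom.comp g = algebraMap ℤ Γ(T, W) :=
    Subsingleton.elim _ _
  rw [h3] at h2
  exact RingHom.finiteType_algebraMap.mp h2

end Groth.Agent.Lib.ChartH5
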