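import Mathlib
import Groth.Agent.Lib.EtApxSch2_helper5

set_option autoImplicit false
set_option linter.style.haveILetI false
set_option linter.unusedVariables false
set_option maxHeartbeats 1600000
universe u

open AlgebraicGeometry CategoryTheory Limits IsLocalRing TensorProduct

namespace Groth.Agent.Lib.ChartH5

section pbChart
variable {Θ₀ B₀ L : Type u} [CommRing Θ₀] [CommRing B₀] [CommRing L] [Algebra Θ₀ B₀] [Algebra Θ₀ L]
  {Y T : Scheme.{u}} (q : Y ⟶ T)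
  (iY : Spec (CommRingCat.of B₀) ⟶ Y) [IsOpenImmersion iY]
  (iT : Spec (CommRingCat.of Θ₀) ⟶ T) [Mono iT]
  (g : Spec (CommRingCat.of L) ⟶ T)
  (e₁ : Spec.map (CommRingCat.ofHom (algebraMap Θ₀ B₀)) ≫ iT = iY ≫ q)
  (e₂ : Spec.map (CommRingCat.ofHom (algebraMap Θ₀ L)) ≫ iT = g)

/-- the affine chart `Spec (B₀ ⊗[Θ₀] L) ⟶ Y ×_T Spec L` of a fibre product. -/
noncomputable def pbChart : Spec (CommRingCat.of (B₀ ⊗[Θ₀] L)) ⟶ pullback q g :=
  (pullbackSpecIso Θ₀ B₀ L).inv ≫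
    pullback.map (Spec.map (CommRingCat.ofHom (algebraMap Θ₀ B₀)))
      (Spec.map (CommRingCat.ofHom (algebraMap Θ₀ L))) q g iY (𝟙 _) iT e₁
      (by rw [e₂, Category.id_comp])

instance : IsOpenImmersion (pbChart q iY iT g e₁ e₂) := by
  unfold pbChart
  infer_instance

theorem pbChart_fst : pbChart q iY iT g e₁ e₂ ≫ pullback.fst q g =
    Spec.map (CommRingCat.ofHom (Algebra.TensorProduct.includeLeftRingHom : B₀ →+* B₀ ⊗[Θ₀] L)) ≫
      iY := by
  unfold pbChart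
  rw [Category.assoc, pullback.lift_fst, ← Category.assoc, pullbackSpecIso_inv_fst]

theorem pbChart_snd : pbChart q iY iT g e₁ e₂ ≫ pullback.snd q g =
    Spec.map (CommRingCat.ofHom
      (Algebra.TensorProduct.includeRight : L →ₐ[Θ₀] B₀ ⊗[Θ₀] L).toRingHom) := by
  unfold pbChart
  rw [Category.assoc, pullback.lift_snd, ← Category.assoc, pullbackSpecIso_inv_snd,
    Category.comp_id]
  rfl

theorem exists_pbChart_eq (z : ↑(pullback q g)) (hz : pullback.fst q g z ∈ Set.range iY) :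
    ∃ y' : Spec (CommRingCat.of (B₀ ⊗[Θ₀] L)), pbChart q iY iT g e₁ e₂ y' = z := by
  have h1 : z ∈ Set.range (pullback.map (Spec.map (CommRingCat.ofHom (algebraMap Θ₀ B₀)))
      (Spec.map (CommRingCat.ofHom (algebraMap Θ₀ L))) q g iY (𝟙 _) iT e₁
      (by rw [e₂, Category.id_comp])) := by
    rw [Scheme.Pullback.range_map]
    refine ⟨hz, ?_⟩
    simp
  obtain ⟨z', hz'⟩ := h1
  refine ⟨(pullbackSpecIso Θ₀ B₀ L).hom z', ?_⟩
  unfold pbChart
  rw [Scheme.Hom.comp_apply, ← Scheme.Hom.comp_apply (pullbackSpecIso Θ₀ B₀ L).hom,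
    Iso.hom_inv_id]
  exact hz'

end pbChart

section prime
variable {X S : Scheme.{u}}

theorem eq_primeIdealOf_of_fromSpec_eq {U : X.Opens} (hU : IsAffineOpen U) (x : X) (hx : x ∈ U)
    (z : Spec Γ(X, U)) (hz : hU.fromSpec z = x) : z = hU.primeIdealOf ⟨x, hx⟩ := by
  apply hU.fromSpec.isOpenEmbedding.injective
  rw [hz]
  exact (hU.fromSpec_primeIdealOf ⟨x, hx⟩).symm

theorem primeIdealOf_comap (p : X ⟶ S) {W : S.Opens} (hW : IsAffineOpen W) {U : X.Opens}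
    (hU : IsAffineOpen U) (i : U ≤ p ⁻¹ᵁ W) (x : X) (hx : x ∈ U) :
    (hU.primeIdealOf ⟨x, hx⟩).asIdeal.comap (p.appLE W U i).hom =
      (hW.primeIdealOf ⟨p x, i hx⟩).asIdeal := by
  have h1 : Spec.map (p.appLE W U i) (hU.primeIdealOf ⟨x, hx⟩) = hW.primeIdealOf ⟨p x, i hx⟩ := by
    apply eq_primeIdealOf_of_fromSpec_eq
    rw [← Scheme.Hom.comp_apply, IsAffineOpen.SpecMap_appLE_fromSpec p hW hU i,
      Scheme.Hom.comp_apply, hU.fromSpec_primeIdealOf ⟨x, hx⟩]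
  rw [← h1]
  rfl

end prime

end Groth.Agent.Lib.ChartH5
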