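import Mathlib
import Groth.Prelude.Def_Found
import Groth.Agent.Lib.EtApxSch2_helper5
import Groth.Agent.Lib.EtCorr8_helper5
import Groth.Agent.Lib.PbChart1_helper5
import Groth.Agent.Lib.PbChart2_helper5
import Groth.Agent.Lib.PbChart3_helper5
import Groth.Agent.Lib.PbChart4_helper5

set_option autoImplicit false
set_option linter.style.haveILetI false
set_option linter.unusedVariables false
set_option linter.deprecated false
set_option maxHeartbeats 3200000
universe u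

open AlgebraicGeometry CategoryTheory Limits IsLocalRing TensorProduct

namespace Groth.Agent.Lib.ChartH5

open Groth.Agent.Lib.OmegaPtH5 Groth.Agent.Lib.EtCorrH5 Groth.Agent.Lib.EtApxSchH5

theorem main7238 {X Y S T : Scheme.{u}} [IsLocallyNoetherian S]
    (p : X ⟶ S) (q : Y ⟶ T) [LocallyOfFiniteType p] [LocallyOfFiniteType q]
    [LocallyOfFiniteType (specULiftZIsTerminal.from T)]
    (x : X) (hG : CAlg.IsGRing ↑(S.presheaf.stalk (p x))) (y : Y)
    (σ : ↑(T.presheaf.stalk (q y)) →+*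
      AdicCompletion (maximalIdeal ↑(S.presheaf.stalk (p x))) ↑(S.presheaf.stalk (p x)))
    (g : Spec (CommRingCat.of (AdicCompletion (maximalIdeal ↑(S.presheaf.stalk (p x)))
      ↑(S.presheaf.stalk (p x)))) ⟶ T)
    (hg : g = Spec.map (CommRingCat.ofHom σ) ≫ T.fromSpecStalk (q y))
    (yσ : ↑(pullback q g))
    (hyσ : (pullback.fst q g) yσ = y)
    (hyσc : (pullback.snd q g) yσ =
      closedPoint (AdicCompletion (maximalIdeal ↑(S.presheaf.stalk (p x))) ↑(S.presheaf.stalk (p x))))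
    (φ : AdicCompletion (maximalIdeal ↑(X.presheaf.stalk x)) ↑(X.presheaf.stalk x) ≃+*
      AdicCompletion (maximalIdeal ↑((pullback q g).presheaf.stalk yσ))
        ↑((pullback q g).presheaf.stalk yσ))
    (hφ : φ.toRingHom.comp ((algebraMap ↑(X.presheaf.stalk x)
        (AdicCompletion (maximalIdeal ↑(X.presheaf.stalk x)) ↑(X.presheaf.stalk x))).comp (p.stalkMap x).hom) =
      ((algebraMap _ (AdicCompletion (maximalIdeal
          ↑((pullback q g).presheaf.stalk yσ)) _)).comp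
        ((pullback.snd q g).stalkMap yσ).hom).comp
        ((((Spec (CommRingCat.of (AdicCompletion (maximalIdeal ↑(S.presheaf.stalk (p x))) ↑(S.presheaf.stalk (p x))))).presheaf.germ
            ⊤ ((pullback.snd q g) yσ) trivial).hom.comp
          ((Scheme.ΓSpecIso (CommRingCat.of (AdicCompletion (maximalIdeal ↑(S.presheaf.stalk (p x)))
            ↑(S.presheaf.stalk (p x))))).inv.hom.comp
            (algebraMap ↑(S.presheaf.stalk (p x))
              (AdicCompletion (maximalIdeal ↑(S.presheaf.stalk (p x))) ↑(S.presheaf.stalk (p x)))))))) :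
    ∃ (V : Scheme.{u}) (v : V) (e : V ⟶ S) (τ : V ⟶ T) (W : Scheme.{u}) (w : W) (a : W ⟶ X)
      (b : W ⟶ pullback q τ),
      Etale e ∧ e v = p x ∧ Function.Bijective (e.residueFieldMap v) ∧ τ v = q y ∧
      Etale a ∧ a w = x ∧ Function.Bijective (a.residueFieldMap w) ∧
      a ≫ p = b ≫ pullback.snd q τ ≫ e ∧
      Etale b ∧ (pullback.fst q τ) (b w) = y ∧ (pullback.snd q τ) (b w) = v ∧
      Function.Bijective (b.residueFieldMap w) := by
  classical
  -- affine opens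
  obtain ⟨WS, hWS, hsWS, -⟩ := exists_isAffineOpen_mem_and_subset (x := p x) (U := ⊤) trivial
  have hxWS : x ∈ p ⁻¹ᵁ WS := hsWS
  obtain ⟨WX, hWX, hxWX, hWXS⟩ := exists_isAffineOpen_mem_and_subset hxWS
  obtain ⟨WT, hWT, htWT, -⟩ := exists_isAffineOpen_mem_and_subset (x := q y) (U := ⊤) trivial
  have hyWT : y ∈ q ⁻¹ᵁ WT := htWT
  obtain ⟨WY, hWY, hyWY, hWYT⟩ := exists_isAffineOpen_mem_and_subset hyWT
  -- rings
  letI algRA : Algebra Γ(S, WS) Γ(X, WX) := (p.appLE WS WX hWXS).hom.toAlgebra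
  letI algΘB : Algebra Γ(T, WT) Γ(Y, WY) := (q.appLE WT WY hWYT).hom.toAlgebra
  haveI : IsNoetherianRing Γ(S, WS) := IsLocallyNoetherian.component_noetherian ⟨WS, hWS⟩
  haveI ftA : Algebra.FiniteType Γ(S, WS) Γ(X, WX) :=
    LocallyOfFiniteType.finiteType_appLE p hWS hWX hWXS
  haveI ftB : Algebra.FiniteType Γ(T, WT) Γ(Y, WY) :=
    LocallyOfFiniteType.finiteType_appLE q hWT hWY hWYT
  haveI ftΘ : Algebra.FiniteType ℤ Γ(T, WT) := finiteType_int_of_locallyOfFiniteType hWT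
  -- stalks
  letI algRRs : Algebra Γ(S, WS) (S.presheaf.stalk (p x)) :=
    TopCat.Presheaf.algebra_section_stalk S.presheaf ⟨p x, hsWS⟩
  haveI locRs : IsLocalization.AtPrime (S.presheaf.stalk (p x))
      (hWS.primeIdealOf ⟨p x, hsWS⟩).asIdeal := hWS.isLocalization_stalk ⟨p x, hsWS⟩
  letI algAK : Algebra Γ(X, WX) (X.presheaf.stalk x) :=
    TopCat.Presheaf.algebra_section_stalk X.presheaf ⟨x, hxWX⟩
  haveI locK : IsLocalization.AtPrime (X.presheaf.stalk x) (hWX.primeIdealOf ⟨x, hxWX⟩).asIdeal :=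
    hWX.isLocalization_stalk ⟨x, hxWX⟩
  haveI : IsNoetherianRing (S.presheaf.stalk (p x)) := hG.1
  have halgRRs : ∀ r : Γ(S, WS), algebraMap Γ(S, WS) (S.presheaf.stalk (p x)) r =
      S.presheaf.germ WS (p x) hsWS r := fun r => rfl
  have halgAK : ∀ r : Γ(X, WX), algebraMap Γ(X, WX) (X.presheaf.stalk x) r =
      X.presheaf.germ WX x hxWX r := fun r => rfl
  -- the map `σ₀`
  let σ₀ : Γ(T, WT) →+* AdicCompletion (maximalIdeal ↑(S.presheaf.stalk (p x)))
      ↑(S.presheaf.stalk (p x)) := σ.comp (T.presheaf.germ WT (q y) htWT).hom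
  letI algΘL : Algebra Γ(T, WT) (AdicCompletion (maximalIdeal ↑(S.presheaf.stalk (p x)))
      ↑(S.presheaf.stalk (p x))) := σ₀.toAlgebra
  -- the chart
  have e₁ : Spec.map (CommRingCat.ofHom (algebraMap Γ(T, WT) Γ(Y, WY))) ≫ hWT.fromSpec =
      hWY.fromSpec ≫ q := IsAffineOpen.SpecMap_appLE_fromSpec q hWT hWY hWYT
  have e₂ : Spec.map (CommRingCat.ofHom (algebraMap Γ(T, WT) (AdicCompletion
      (maximalIdeal ↑(S.presheaf.stalk (p x))) ↑(S.presheaf.stalk (p x))))) ≫ hWT.fromSpec = g := by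
    rw [hg, ← hWT.fromSpecStalk_eq_fromSpecStalk htWT]
    unfold IsAffineOpen.fromSpecStalk
    rw [← Category.assoc, ← Spec.map_comp]
    rfl
  -- the point of the chart
  obtain ⟨c, hc⟩ : ∃ c : Spec (CommRingCat.of (Γ(Y, WY) ⊗[Γ(T, WT)] AdicCompletion
      (maximalIdeal ↑(S.presheaf.stalk (p x))) ↑(S.presheaf.stalk (p x)))) ⟶ pullback q g,
      c = pbChart q hWY.fromSpec hWT.fromSpec g e₁ e₂ := ⟨_, rfl⟩
  haveI hcoi : IsOpenImmersion c := by
    rw [hc]
    infer_instance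
  have hcfst : c ≫ pullback.fst q g = Spec.map (CommRingCat.ofHom
      (Algebra.TensorProduct.includeLeftRingHom : Γ(Y, WY) →+* Γ(Y, WY) ⊗[Γ(T, WT)] AdicCompletion
        (maximalIdeal ↑(S.presheaf.stalk (p x))) ↑(S.presheaf.stalk (p x)))) ≫ hWY.fromSpec := by
    rw [hc]
    exact pbChart_fst q hWY.fromSpec hWT.fromSpec g e₁ e₂
  have hcsnd : c ≫ pullback.snd q g = Spec.map (CommRingCat.ofHom
      (Algebra.TensorProduct.includeRight : AdicCompletion
        (maximalIdeal ↑(S.presheaf.stalk (p x))) ↑(S.presheaf.stalk (p x)) →ₐ[Γ(T, WT)]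
        Γ(Y, WY) ⊗[Γ(T, WT)] AdicCompletion
        (maximalIdeal ↑(S.presheaf.stalk (p x))) ↑(S.presheaf.stalk (p x))).toRingHom) := by
    rw [hc]
    exact pbChart_snd q hWY.fromSpec hWT.fromSpec g e₁ e₂
  obtain ⟨y', rfl⟩ : ∃ y', c y' = yσ := by
    rw [hc]
    refine exists_pbChart_eq q hWY.fromSpec hWT.fromSpec g e₁ e₂ yσ ?_
    rw [hyσ, hWY.range_fromSpec]
    exact hyWY
  clear hc
  -- the local ring of the base change
  letI algOY : Algebra (Γ(Y, WY) ⊗[Γ(T, WT)] AdicCompletion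
      (maximalIdeal ↑(S.presheaf.stalk (p x))) ↑(S.presheaf.stalk (p x)))
      ((pullback q g).presheaf.stalk (c y')) := (toStalkHom c y').toAlgebra
  haveI locOY : IsLocalization.AtPrime ((pullback q g).presheaf.stalk (c y')) y'.asIdeal :=
    isLocalization_toStalkHom c y'
  have halgOY : ∀ z, algebraMap (Γ(Y, WY) ⊗[Γ(T, WT)] AdicCompletion
      (maximalIdeal ↑(S.presheaf.stalk (p x))) ↑(S.presheaf.stalk (p x)))
      ((pullback q g).presheaf.stalk (c y')) z = toStalkHom c y' z := fun z => rfl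
  -- the hypotheses of the ring-level statement
  have h𝔭 : (hWX.primeIdealOf ⟨x, hxWX⟩).asIdeal.comap (algebraMap Γ(S, WS) Γ(X, WX)) =
      (hWS.primeIdealOf ⟨p x, hsWS⟩).asIdeal := primeIdealOf_comap p hWS hWX hWXS x hxWX
  have h𝔮1 : y'.asIdeal.comap (Algebra.TensorProduct.includeLeft :
      Γ(Y, WY) →ₐ[Γ(T, WT)] Γ(Y, WY) ⊗[Γ(T, WT)] AdicCompletion
        (maximalIdeal ↑(S.presheaf.stalk (p x))) ↑(S.presheaf.stalk (p x))).toRingHom =
      (hWY.primeIdealOf ⟨y, hyWY⟩).asIdeal := by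
    have h1 : Spec.map (CommRingCat.ofHom
        (Algebra.TensorProduct.includeLeftRingHom : Γ(Y, WY) →+* Γ(Y, WY) ⊗[Γ(T, WT)] AdicCompletion
          (maximalIdeal ↑(S.presheaf.stalk (p x))) ↑(S.presheaf.stalk (p x)))) y' =
        hWY.primeIdealOf ⟨y, hyWY⟩ := by
      apply eq_primeIdealOf_of_fromSpec_eq
      rw [← Scheme.Hom.comp_apply, ← hcfst, Scheme.Hom.comp_apply]
      exact hyσ
    rw [← h1]
    rfl
  have h𝔮2 : ∀ l ∈ maximalIdeal (AdicCompletion
      (maximalIdeal ↑(S.presheaf.stalk (p x))) ↑(S.presheaf.stalk (p x))),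
      (1 : Γ(Y, WY)) ⊗ₜ[Γ(T, WT)] l ∈ y'.asIdeal := by
    intro l hl
    have h2 : Spec.map (CommRingCat.ofHom
      (Algebra.TensorProduct.includeRight : AdicCompletion
        (maximalIdeal ↑(S.presheaf.stalk (p x))) ↑(S.presheaf.stalk (p x)) →ₐ[Γ(T, WT)]
        Γ(Y, WY) ⊗[Γ(T, WT)] AdicCompletion
        (maximalIdeal ↑(S.presheaf.stalk (p x))) ↑(S.presheaf.stalk (p x))).toRingHom) y' =
        closedPoint _ := by
      rw [← hcsnd, Scheme.Hom.comp_apply]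
      exact hyσc
    have h3 : l ∈ (Spec.map (CommRingCat.ofHom
      (Algebra.TensorProduct.includeRight : AdicCompletion
        (maximalIdeal ↑(S.presheaf.stalk (p x))) ↑(S.presheaf.stalk (p x)) →ₐ[Γ(T, WT)]
        Γ(Y, WY) ⊗[Γ(T, WT)] AdicCompletion
        (maximalIdeal ↑(S.presheaf.stalk (p x))) ↑(S.presheaf.stalk (p x))).toRingHom) y').asIdeal := by
      rw [h2]
      exact hl
    exact h3
  have hφ' : ∀ r : Γ(S, WS), φ (algebraMap (X.presheaf.stalk x)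
        (AdicCompletion (maximalIdeal ↑(X.presheaf.stalk x)) ↑(X.presheaf.stalk x))
        (algebraMap Γ(X, WX) (X.presheaf.stalk x) (algebraMap Γ(S, WS) Γ(X, WX) r))) =
      algebraMap ((pullback q g).presheaf.stalk (c y'))
        (AdicCompletion (maximalIdeal ↑((pullback q g).presheaf.stalk (c y')))
          ↑((pullback q g).presheaf.stalk (c y')))
        (algebraMap (Γ(Y, WY) ⊗[Γ(T, WT)] AdicCompletion
          (maximalIdeal ↑(S.presheaf.stalk (p x))) ↑(S.presheaf.stalk (p x)))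
          ((pullback q g).presheaf.stalk (c y'))
          (1 ⊗ₜ algebraMap Γ(S, WS) (AdicCompletion
            (maximalIdeal ↑(S.presheaf.stalk (p x))) ↑(S.presheaf.stalk (p x))) r)) := by
    intro r
    have h1 := RingHom.congr_fun hφ (S.presheaf.germ WS (p x) hsWS r)
    have h2 : algebraMap Γ(X, WX) (X.presheaf.stalk x) (algebraMap Γ(S, WS) Γ(X, WX) r) =
        (p.stalkMap x).hom (S.presheaf.germ WS (p x) hsWS r) := by
      rw [halgAK]
      exact germ_appLE p WS WX hWXS x hxWX r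
    rw [h2]
    refine h1.trans ?_
    have h3 := stalkMap_germ_top c y' (pullback.snd q g) _ hcsnd
      (algebraMap (S.presheaf.stalk (p x)) (AdicCompletion
        (maximalIdeal ↑(S.presheaf.stalk (p x))) ↑(S.presheaf.stalk (p x)))
        (S.presheaf.germ WS (p x) hsWS r))
    have h4 : (1 : Γ(Y, WY)) ⊗ₜ[Γ(T, WT)] algebraMap Γ(S, WS) (AdicCompletion
          (maximalIdeal ↑(S.presheaf.stalk (p x))) ↑(S.presheaf.stalk (p x))) r =
        (Algebra.TensorProduct.includeRight : AdicCompletion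
          (maximalIdeal ↑(S.presheaf.stalk (p x))) ↑(S.presheaf.stalk (p x)) →ₐ[Γ(T, WT)]
          Γ(Y, WY) ⊗[Γ(T, WT)] AdicCompletion
          (maximalIdeal ↑(S.presheaf.stalk (p x))) ↑(S.presheaf.stalk (p x))).toRingHom
          (algebraMap (S.presheaf.stalk (p x)) (AdicCompletion
            (maximalIdeal ↑(S.presheaf.stalk (p x))) ↑(S.presheaf.stalk (p x)))
            (S.presheaf.germ WS (p x) hsWS r)) := by
      rw [IsScalarTower.algebraMap_apply Γ(S, WS) (S.presheaf.stalk (p x)) (AdicCompletion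
          (maximalIdeal ↑(S.presheaf.stalk (p x))) ↑(S.presheaf.stalk (p x))), halgRRs]
      rfl
    exact congrArg (algebraMap ((pullback q g).presheaf.stalk (c y'))
        (AdicCompletion (maximalIdeal ↑((pullback q g).presheaf.stalk (c y')))
          ↑((pullback q g).presheaf.stalk (c y')))) (h3.trans (congrArg (toStalkHom c y') h4.symm))
  haveI : IsNoetherianRing Γ(T, WT) := Algebra.FiniteType.isNoetherianRing ℤ Γ(T, WT)
  obtain ⟨R', iR1, iR2, iR3, D, iD, α, β, Ω, iΩ, ω, hetR, hα, hβ, hcomm, hkerα, hkerβ, hFSR,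
      hFSα, hFSβ⟩ := main_ring2 (hWS.primeIdealOf ⟨p x, hsWS⟩).asIdeal
    (hWX.primeIdealOf ⟨x, hxWX⟩).asIdeal (hWY.primeIdealOf ⟨y, hyWY⟩).asIdeal y'.asIdeal
    hG h𝔭 h𝔮1 h𝔮2 φ hφ'
  -- the output
  obtain ⟨θe, hθe⟩ : ∃ θe : Γ(S, WS) ⟶ CommRingCat.of R',
      θe = CommRingCat.ofHom (algebraMap Γ(S, WS) R') := ⟨_, rfl⟩
  obtain ⟨θτ, hθτ⟩ : ∃ θτ : Γ(T, WT) ⟶ CommRingCat.of R',
      θτ = CommRingCat.ofHom (algebraMap Γ(T, WT) R') := ⟨_, rfl⟩
  obtain ⟨θa, hθa⟩ : ∃ θa : Γ(X, WX) ⟶ CommRingCat.of D, θa = CommRingCat.ofHom α := ⟨_, rfl⟩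
  haveI hωp : (RingHom.ker ω).IsPrime := RingHom.ker_isPrime ω
  obtain ⟨w, hw⟩ : ∃ w : Spec (CommRingCat.of D), w.asIdeal = RingHom.ker ω :=
    ⟨⟨RingHom.ker ω, hωp⟩, rfl⟩
  have e₂' : Spec.map (CommRingCat.ofHom (algebraMap Γ(T, WT) R')) ≫ hWT.fromSpec =
      specTo hWT θτ := by
    rw [hθτ]
    rfl
  obtain ⟨cτ, hcτ⟩ : ∃ cτ : Spec (CommRingCat.of (Γ(Y, WY) ⊗[Γ(T, WT)] R')) ⟶
      pullback q (specTo hWT θτ), cτ = pbChart q hWY.fromSpec hWT.fromSpec (specTo hWT θτ) e₁ e₂' :=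
    ⟨_, rfl⟩
  haveI hcτoi : IsOpenImmersion cτ := by
    rw [hcτ]
    infer_instance
  have hcτfst : cτ ≫ pullback.fst q (specTo hWT θτ) = Spec.map (CommRingCat.ofHom
      (Algebra.TensorProduct.includeLeftRingHom : Γ(Y, WY) →+* Γ(Y, WY) ⊗[Γ(T, WT)] R')) ≫
        hWY.fromSpec := by
    rw [hcτ]
    exact pbChart_fst q hWY.fromSpec hWT.fromSpec _ e₁ e₂'
  have hcτsnd : cτ ≫ pullback.snd q (specTo hWT θτ) = Spec.map (CommRingCat.ofHom
      (Algebra.TensorProduct.includeRight : R' →ₐ[Γ(T, WT)] Γ(Y, WY) ⊗[Γ(T, WT)] R').toRingHom) := by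
    rw [hcτ]
    exact pbChart_snd q hWY.fromSpec hWT.fromSpec _ e₁ e₂'
  clear hcτ
  obtain ⟨θb, hθb⟩ : ∃ θb : CommRingCat.of (Γ(Y, WY) ⊗[Γ(T, WT)] R') ⟶ CommRingCat.of D,
      θb = CommRingCat.ofHom β := ⟨_, rfl⟩
  obtain ⟨θr, hθr⟩ : ∃ θr : CommRingCat.of R' ⟶ CommRingCat.of (Γ(Y, WY) ⊗[Γ(T, WT)] R'),
      θr = CommRingCat.ofHom (Algebra.TensorProduct.includeRight :
        R' →ₐ[Γ(T, WT)] Γ(Y, WY) ⊗[Γ(T, WT)] R').toRingHom := ⟨_, rfl⟩
  obtain ⟨θl, hθl⟩ : ∃ θl : Γ(Y, WY) ⟶ CommRingCat.of (Γ(Y, WY) ⊗[Γ(T, WT)] R'),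
      θl = CommRingCat.ofHom (Algebra.TensorProduct.includeLeftRingHom :
        Γ(Y, WY) →+* Γ(Y, WY) ⊗[Γ(T, WT)] R') := ⟨_, rfl⟩
  rw [← hθr] at hcτsnd
  rw [← hθl] at hcτfst
  haveI : Fact (θe.hom.Etale) := ⟨by rw [hθe]; exact RingHom.etale_algebraMap.mpr hetR⟩
  haveI : Fact (θa.hom.Etale) := ⟨by rw [hθa]; exact hα⟩
  haveI hbet : Etale (Spec.map θb) := HasRingHomProperty.Spec_iff.mpr (by rw [hθb]; exact hβ)
  refine ⟨Spec (CommRingCat.of R'), Spec.map θr (Spec.map θb w), specTo hWS θe, specTo hWT θτ,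
    Spec (CommRingCat.of D), w, specTo hWX θa, Spec.map θb ≫ cτ, inferInstance, ?_, ?_, ?_,
    inferInstance, ?_, ?_, ?_, inferInstance, ?_, ?_, ?_⟩
  · -- e v = p x
    refine specTo_apply_eq hWS θe (p x) hsWS _ ?_
    rw [← h𝔭, ← hkerα]
    ext z
    show θb.hom (θr.hom (θe.hom z)) ∈ w.asIdeal ↔ ω (α (algebraMap Γ(S, WS) Γ(X, WX) z)) = 0
    rw [hw, RingHom.mem_ker, hθb, hθr, hθe]
    show ω (β (1 ⊗ₜ algebraMap Γ(S, WS) R' z)) = 0 ↔ _
    rw [← hcomm]
  · -- residue field of e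
    have hv : (Spec.map θr (Spec.map θb w)).asIdeal = RingHom.ker (ω.comp (β.comp
        (Algebra.TensorProduct.includeRight : R' →ₐ[Γ(T, WT)] Γ(Y, WY) ⊗[Γ(T, WT)] R').toRingHom)) := by
      ext z
      show θb.hom (θr.hom z) ∈ w.asIdeal ↔ _
      rw [hw, RingHom.mem_ker, hθb, hθr]
      rfl
    have hFS' : FS θe.hom (ω.comp (β.comp
        (Algebra.TensorProduct.includeRight : R' →ₐ[Γ(T, WT)] Γ(Y, WY) ⊗[Γ(T, WT)] R').toRingHom)) := by
      rw [hθe]
      exact hFSR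
    exact bijective_residueFieldMap_comp θe hWS.fromSpec _ (hfrac_of_FS θe _ hFS' _ hv)
  · -- τ v = q y
    refine specTo_apply_eq hWT θτ (q y) htWT _ ?_
    rw [← primeIdealOf_comap q hWT hWY hWYT y hyWY, ← hkerβ]
    ext z
    show θb.hom (θr.hom (θτ.hom z)) ∈ w.asIdeal ↔
      ω (β ((algebraMap Γ(T, WT) Γ(Y, WY) z) ⊗ₜ (1 : R'))) = 0
    rw [hw, RingHom.mem_ker, hθb, hθr, hθτ]
    show ω (β (1 ⊗ₜ algebraMap Γ(T, WT) R' z)) = 0 ↔ _
    have h1 : (1 : Γ(Y, WY)) ⊗ₜ[Γ(T, WT)] algebraMap Γ(T, WT) R' z =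
        (algebraMap Γ(T, WT) Γ(Y, WY) z) ⊗ₜ (1 : R') := by
      rw [Algebra.algebraMap_eq_smul_one, Algebra.algebraMap_eq_smul_one, TensorProduct.smul_tmul]
    rw [h1]
  · -- a w = x
    refine specTo_apply_eq hWX θa x hxWX w ?_
    rw [hw, hθa, ← hkerα]
    rfl
  · -- residue field of a
    have hFS' : FS θa.hom ω := by
      rw [hθa]
      exact hFSα
    exact bijective_residueFieldMap_comp θa hWX.fromSpec w (hfrac_of_FS θa ω hFS' w hw)
  · -- commutation
    rw [specTo_comp hWX θa p hWS hWXS, Category.assoc, ← Category.assoc cτ, hcτsnd]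
    unfold specTo
    rw [← Category.assoc (Spec.map θr), ← Spec.map_comp, ← Category.assoc, ← Spec.map_comp]
    congr 2
    rw [hθa, hθe, hθr, hθb]
    ext r
    exact hcomm r
  · -- b w over y
    rw [← Scheme.Hom.comp_apply, Category.assoc, hcτfst, ← Category.assoc, ← Spec.map_comp]
    refine specTo_apply_eq hWY (θl ≫ θb) y hyWY w ?_
    rw [hw, ← hkerβ, hθl, hθb]
    rfl
  · -- b w over v
    rw [← Scheme.Hom.comp_apply, Category.assoc, hcτsnd]
    rfl
  · -- residue field of b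
    have hFS' : FS θb.hom ω := by
      rw [hθb]
      exact hFSβ
    exact bijective_residueFieldMap_comp θb cτ w (hfrac_of_FS θb ω hFS' w hw)

end Groth.Agent.Lib.ChartH5
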