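import Mathlib
import Groth.Agent.Lib.TrivBC15_helper6
import Groth.Agent.Lib.BrutalTrunc_helper2

/-!
# Base change of `RHom(E, -)` for pseudo-coherent `E` (helper6), part 1: chain level

* `bijective_homCxPre_f`, `quasiIsoAt_homCxPre`: precomposition with a map `E₁ ⟶ E₂` that is an
  isomorphism in degrees `≥ c` is a quasi-isomorphism `Hom•(E₂, N) ⟶ Hom•(E₁, N)` in low degrees, for
  `N` cohomologically bounded below and `E₁`, `E₂` K-projective.
* `kappa_naturality_left`: naturality of the chain level base change map in the first variable.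
-/

set_option autoImplicit false
set_option linter.style.haveILetI false
set_option linter.unusedSectionVars false
set_option linter.unusedVariables false
universe u
open CategoryTheory CategoryTheory.Limits DerivedCategory
open CochainComplex CochainComplex.HomComplex
open scoped TensorProduct
attribute [local instance] HasDerivedCategory.standard

namespace Groth.Agent.Lib.PcBCH6

open Groth.Agent.Lib.DMod_helper6 Groth.Agent.Lib.DerivedAdj Groth.Agent.Lib.KFlatMod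
  Groth.Agent.Lib.BaseCmp Groth.Agent.Lib.FlatBCH6 Groth.Agent.Lib.HomCx Groth.Agent.Lib.RHomK
  Groth.Agent.Lib.TrivBCH6

section PreBij

variable {S : Type u} [CommRing S] {E₁ E₂ : DRing.Cx S} (f : E₁ ⟶ E₂) (c : ℤ)

/-- precomposition with a map which is an isomorphism in degrees `≥ c` is bijective on cochains of
degree `j ≤ n - c` with values in a complex vanishing below `n` -/
lemma bijective_homCxPre_f (hf : ∀ p, c ≤ p → IsIso (f.f p)) (N : DRing.Cx S) (n : ℤ)
    (hN : ∀ q, q < n → IsZero (N.X q)) (j : ℤ) (hj : j + c ≤ n) :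
    Function.Bijective ((homCxPre f N).f j).hom := by
  constructor
  · intro (z : Cochain E₂ N j) (z' : Cochain E₂ N j) hzz
    have h1 : (Cochain.ofHom f).comp z (zero_add j) = (Cochain.ofHom f).comp z' (zero_add j) := hzz
    show z = z'
    refine Cochain.ext _ _ (fun p q h => ?_)
    by_cases hp : c ≤ p
    · haveI := hf p hp
      have h2 := congrArg (fun w => w.v p q h) h1
      simp only [Cochain.zero_cochain_comp_v, Cochain.ofHom_v] at h2
      exact (cancel_epi (f.f p)).1 h2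
    · exact (hN q (by omega)).eq_of_tgt _ _
  · intro (w : Cochain E₁ N j)
    refine ⟨(Cochain.mk (fun p q h => if hp : c ≤ p then
      (haveI := hf p hp; inv (f.f p)) ≫ w.v p q h else 0) : Cochain E₂ N j), ?_⟩
    show (Cochain.ofHom f).comp _ (zero_add j) = w
    refine Cochain.ext _ _ (fun p q h => ?_)
    rw [Cochain.zero_cochain_comp_v, Cochain.ofHom_v, Cochain.mk_v]
    by_cases hp : c ≤ p
    · rw [dif_pos hp]
      haveI := hf p hp
      rw [IsIso.hom_inv_id_assoc]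
    · exact (hN q (by omega)).eq_of_tgt _ _

lemma isIso_homCxPre_f (hf : ∀ p, c ≤ p → IsIso (f.f p)) (N : DRing.Cx S) (n : ℤ)
    (hN : ∀ q, q < n → IsZero (N.X q)) (j : ℤ) (hj : j + c ≤ n) :
    IsIso ((homCxPre f N).f j) :=
  (ConcreteCategory.isIso_iff_bijective _).2 (bijective_homCxPre_f f c hf N n hN j hj)

/-- strict version: `N` vanishes below `n` -/
lemma quasiIsoAt_homCxPre_strict (hf : ∀ p, c ≤ p → IsIso (f.f p)) (N : DRing.Cx S) (n : ℤ)
    (hN : ∀ q, q < n → IsZero (N.X q)) (i : ℤ) (hi : i + 1 + c ≤ n) :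
    QuasiIsoAt (homCxPre f N) i := by
  rw [quasiIsoAt_iff' (homCxPre f N) (i - 1) i (i + 1) (by simp) (by simp)]
  let φ := (HomologicalComplex.shortComplexFunctor' (ModuleCat.{u} S) (ComplexShape.up ℤ)
    (i - 1) i (i + 1)).map (homCxPre f N)
  haveI h1 : IsIso φ.τ₁ := isIso_homCxPre_f f c hf N n hN (i - 1) (by omega)
  haveI h2 : IsIso φ.τ₂ := isIso_homCxPre_f f c hf N n hN i (by omega)
  haveI h3 : IsIso φ.τ₃ := isIso_homCxPre_f f c hf N n hN (i + 1) (by omega)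
  exact ShortComplex.quasiIso_of_epi_of_isIso_of_mono φ

/-- `Hom•(-, -)` is a bifunctor -/
lemma homCxPre_homCxMap {N N' : DRing.Cx S} (g : N ⟶ N') :
    homCxPre f N ≫ DRing.homCxMap E₁ g = DRing.homCxMap E₂ g ≫ homCxPre f N' := by
  refine HomologicalComplex.hom_ext _ _ fun i => ModuleCat.hom_ext
    (LinearMap.ext fun (z : Cochain E₂ N i) => ?_)
  show ((Cochain.ofHom f).comp z (zero_add i)).comp (Cochain.ofHom g) (add_zero i) =
    (Cochain.ofHom f).comp (z.comp (Cochain.ofHom g) (add_zero i)) (zero_add i)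
  exact Cochain.comp_assoc_of_first_is_zero_cochain _ _ _ _

/-- cohomological version: `N` is cohomologically `≥ n` and `E₁`, `E₂` are K-projective -/
theorem quasiIsoAt_homCxPre [E₁.IsKProjective] [E₂.IsKProjective]
    (hf : ∀ p, c ≤ p → IsIso (f.f p)) (N : DRing.Cx S) (n : ℤ) [N.IsGE n] (i : ℤ)
    (hi : i + 1 + c ≤ n) : QuasiIsoAt (homCxPre f N) i := by
  let N₁ : DRing.Cx S := N.truncGE n
  let π : N ⟶ N₁ := N.πTruncGE n
  haveI : QuasiIso π := (N.quasiIso_πTruncGE_iff n).2 inferInstance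
  haveI h1 : QuasiIso (DRing.homCxMap E₁ π) := quasiIso_homCxMap E₁ π
  haveI h2 : QuasiIso (DRing.homCxMap E₂ π) := quasiIso_homCxMap E₂ π
  haveI h3 : QuasiIsoAt (homCxPre f N₁) i :=
    quasiIsoAt_homCxPre_strict f c hf N₁ n
      (fun q hq => CochainComplex.isZero_of_isStrictlyGE N₁ n q hq) i hi
  have hsq := homCxPre_homCxMap f π
  haveI h4 : QuasiIsoAt (DRing.homCxMap E₂ π ≫ homCxPre f N₁) i := inferInstance
  haveI h5 : QuasiIsoAt (homCxPre f N ≫ DRing.homCxMap E₁ π) i := by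
    rw [hsq]; exact h4
  exact quasiIsoAt_of_comp_right (homCxPre f N) (DRing.homCxMap E₁ π) i

end PreBij

section Aux

lemma comm_inv_aux {𝒞 : Type*} [Category 𝒞] {X₁ X₂ Y₁ Y₂ : 𝒞} (a : X₂ ⟶ X₁) (b : Y₂ ⟶ Y₁)
    (v₁ : X₁ ≅ Y₁) (v₂ : X₂ ≅ Y₂) (h : a ≫ v₁.hom = v₂.hom ≫ b) :
    b ≫ v₁.inv = v₂.inv ≫ a := by
  rw [Iso.comp_inv_eq, Category.assoc, h, Iso.inv_hom_id_assoc]

lemma comm_aux {𝒞 : Type*} [Category 𝒞] {X₁ X₂ Y₁ Y₂ Z₁ Z₂ : 𝒞} (p : X₂ ⟶ X₁) (m₁ : X₁ ⟶ Y₁)
    (v₁ : Y₁ ⟶ Z₁) (m₂ : X₂ ⟶ Y₂) (v₂ : Y₂ ⟶ Z₂) (p' : Y₂ ⟶ Y₁) (r : Z₂ ⟶ Z₁)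
    (h1 : p ≫ m₁ = m₂ ≫ p') (h2 : p' ≫ v₁ = v₂ ≫ r) :
    p ≫ m₁ ≫ v₁ = (m₂ ≫ v₂) ≫ r := by
  rw [← Category.assoc, h1, Category.assoc, h2, Category.assoc]

end Aux

section KappaNat

variable {R R' : Type u} [CommRing R] [CommRing R'] (ρ : R →+* R') {E₁ E₂ : DRing.Cx R}
  (f : E₁ ⟶ E₂)

/-- naturality of `varpi` in the first variable -/
lemma varpi_naturality_left (Y' : DRing.Cx R') :
    (DTen.resCx ρ).map (homCxPre ((DTen.extCx ρ).map f) Y') ≫ varpi ρ E₁ Y' =
      varpi ρ E₂ Y' ≫ homCxPre f ((DTen.resCx ρ).obj Y') := by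
  apply HomologicalComplex.hom_ext
  intro n
  refine ModuleCat.hom_ext (LinearMap.ext fun
    (w : ((DTen.resCx ρ).obj (DRing.homCx ((DTen.extCx ρ).obj E₂) Y')).X n) => ?_)
  change varpiFun ρ E₁ Y' n ((Cochain.ofHom ((DTen.extCx ρ).map f)).comp
      (show Cochain ((DTen.extCx ρ).obj E₂) Y' n from w) (zero_add n)) =
    (Cochain.ofHom f).comp (varpiFun ρ E₂ Y' n w) (zero_add n)
  unfold varpiFun
  have hnat : f ≫ (DTen.unitCx ρ).app E₂ =
      (DTen.unitCx ρ).app E₁ ≫ (DTen.resCx ρ).map ((DTen.extCx ρ).map f) :=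
    (DTen.unitCx ρ).naturality f
  rw [Cochain.map_comp, Cochain.map_ofHom, ← Cochain.comp_assoc_of_first_is_zero_cochain,
    ← Cochain.comp_assoc_of_first_is_zero_cochain, ← Cochain.ofHom_comp, ← Cochain.ofHom_comp]
  erw [hnat]

/-- naturality of `varpi⁻¹` in the first variable -/
lemma varpiNat_inv_naturality_left (Y' : DRing.Cx R') :
    homCxPre f ((DTen.resCx ρ).obj Y') ≫ (varpiNat ρ E₁).inv.app Y' =
      (varpiNat ρ E₂).inv.app Y' ≫
        (DTen.resCx ρ).map (homCxPre ((DTen.extCx ρ).map f) Y') :=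
  comm_inv_aux ((DTen.resCx ρ).map (homCxPre ((DTen.extCx ρ).map f) Y'))
    (homCxPre f ((DTen.resCx ρ).obj Y')) ((varpiNat ρ E₁).app Y') ((varpiNat ρ E₂).app Y')
    (varpi_naturality_left ρ f Y')

/-- **naturality of the chain level base change map in the first variable** -/
theorem kappa_naturality_left (N : DRing.Cx R) :
    (DTen.extCx ρ).map (homCxPre f N) ≫ TrivBCH6.kappa ρ E₁ N =
      TrivBCH6.kappa ρ E₂ N ≫ homCxPre ((DTen.extCx ρ).map f) ((DTen.extCx ρ).obj N) := by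
  apply ((adjC (adj0 ρ) (ComplexShape.up ℤ)).homEquiv _ _).injective
  rw [Adjunction.homEquiv_naturality_left, Adjunction.homEquiv_naturality_right]
  have h1 : (adjC (adj0 ρ) (ComplexShape.up ℤ)).homEquiv _ _ (TrivBCH6.kappa ρ E₁ N) =
      (DRing.homCxFunctor E₁).map ((DTen.unitCx ρ).app N) ≫
        (varpiNat ρ E₁).inv.app ((DTen.extCx ρ).obj N) := by
    exact Equiv.apply_symm_apply _ _
  have h2 : (adjC (adj0 ρ) (ComplexShape.up ℤ)).homEquiv _ _ (TrivBCH6.kappa ρ E₂ N) =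
      (DRing.homCxFunctor E₂).map ((DTen.unitCx ρ).app N) ≫
        (varpiNat ρ E₂).inv.app ((DTen.extCx ρ).obj N) := by
    exact Equiv.apply_symm_apply _ _
  rw [h1, h2]
  exact comm_aux (homCxPre f N) ((DRing.homCxFunctor E₁).map ((DTen.unitCx ρ).app N))
    ((varpiNat ρ E₁).inv.app ((DTen.extCx ρ).obj N))
    ((DRing.homCxFunctor E₂).map ((DTen.unitCx ρ).app N))
    ((varpiNat ρ E₂).inv.app ((DTen.extCx ρ).obj N))
    (homCxPre f ((DTen.resCx ρ).obj ((DTen.extCx ρ).obj N)))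
    ((DTen.resCx ρ).map (homCxPre ((DTen.extCx ρ).map f) ((DTen.extCx ρ).obj N)))
    (homCxPre_homCxMap f ((DTen.unitCx ρ).app N))
    (varpiNat_inv_naturality_left ρ f ((DTen.extCx ρ).obj N))

end KappaNat

end Groth.Agent.Lib.PcBCH6
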