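import Mathlib
import Groth.Agent.Lib.RelPerfTensor_helper2
import Groth.Agent.Lib.Amp2_helper2
import Groth.Agent.Lib.BrutalTrunc_helper2

/-!
# Tensoring with a pseudo-coherent complex in degrees `≤ 0` preserves "`m`-pseudo-coherence like"
properties (helper6)

* `perfect_induction_nonpos`: dévissage on a finite free complex concentrated in degrees `≤ 0`, for a
  property stable under extensions which holds for `A[-a]`, `a ≤ 0`.
* `exists_approx_explicit`: the brutal truncation triangle.
* `prop_tensor_of_pc`: the main dévissage.
-/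

set_option autoImplicit false
set_option linter.style.haveILetI false
set_option linter.unusedSectionVars false
set_option linter.unusedVariables false
universe u
open CategoryTheory Limits MonoidalCategory Pretriangulated ZeroObject

namespace Groth.Agent.Lib.RelPcTenH6

open DerivedCategory DRing Groth.Agent.Lib.KFlatMod Groth.Agent.Lib.Devissage
  Groth.Agent.Lib.DMod_helper6 Groth.Agent.Lib.DRingLT Groth.Agent.Lib.RelPerfTensor
attribute [local instance] HasDerivedCategory.standard

variable {A : Type u} [CommRing A]

section Induction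

/-- finite free modules placed in degree `a`, from `A` placed in degree `a` -/
lemma prop_sD_free (P : Dual.D A → Prop)
    (hiso : ∀ {K K' : Dual.D A}, (K ≅ K') → P K → P K')
    (h0 : ∀ K : Dual.D A, IsZero K → P K)
    (hext : ∀ T : Triangle (Dual.D A), T ∈ distTriang _ → P T.obj₁ → P T.obj₃ → P T.obj₂)
    (a : ℤ) (hA : P ((sD a).obj (ModuleCat.of A A)))
    (X : ModuleCat.{u} A) (hfin : Module.Finite A X) (hfree : Module.Free A X) :
    P ((sD a).obj X) := by
  have hsum : ∀ K₁ K₂ : Dual.D A, P K₁ → P K₂ → P (K₁ ⊞ K₂) := fun K₁ K₂ h1 h2 =>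
    hext _ (binaryBiproductTriangle_distinguished K₁ K₂) h1 h2
  have hfr : ∀ (α : Type) [Fintype α], P ((sD a).obj (ModuleCat.of A (α → A))) := by
    intro α _
    refine Fintype.induction_empty_option
      (P := fun α _ => P ((sD a).obj (ModuleCat.of A (α → A)))) ?_ ?_ ?_ α
    · intro α β _ e h
      exact hiso ((sD a).mapIso (LinearEquiv.funCongrLeft A A e.symm).toModuleIso) h
    · apply h0
      apply (sD a).map_isZero
      exact ModuleCat.isZero_of_subsingleton _
    · intro α _ h
      have e1 : ModuleCat.of A (Option α → A) ≅ ModuleCat.of A A ⊞ ModuleCat.of A (α → A) :=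
        (LinearEquiv.piOptionEquivProd (R := A) (M := fun _ : Option α => A)).toModuleIso ≪≫
          (ModuleCat.biprodIsoProd (ModuleCat.of A A) (ModuleCat.of A (α → A))).symm
      haveI : PreservesBinaryBiproducts (sD (A := A) a) :=
        preservesBinaryBiproducts_of_preservesBiproducts _
      exact hiso (((sD a).mapIso e1) ≪≫ (sD a).mapBiprod _ _).symm (hsum _ _ hA h)
  haveI := hfin
  haveI := hfree
  let bs := Module.Free.chooseBasis A X
  haveI : Fintype (Module.Free.ChooseBasisIndex A X) := Module.Free.ChooseBasisIndex.fintype A X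
  let e : X ≃ₗ[A] (Fin (Fintype.card (Module.Free.ChooseBasisIndex A X)) → A) :=
    (bs.reindex (Fintype.equivFin _)).equivFun
  exact hiso ((sD a).mapIso e.toModuleIso).symm (hfr (Fin _))

/-- induction along the brutal filtration, complexes in degrees `≤ 0` -/
theorem perfect_induction_nonpos (P : Dual.D A → Prop)
    (hiso : ∀ {K K' : Dual.D A}, (K ≅ K') → P K → P K')
    (h0 : ∀ K : Dual.D A, IsZero K → P K)
    (hA : ∀ a : ℤ, a ≤ 0 → P ((sD a).obj (ModuleCat.of A A)))
    (hext : ∀ T : Triangle (Dual.D A), T ∈ distTriang _ → P T.obj₁ → P T.obj₃ → P T.obj₂)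
    (n : ℕ) : ∀ (a : ℤ) (E : Cx A), TermwiseFiniteFree E → (∀ i, i < a → IsZero (E.X i)) →
      (∀ i, a + n ≤ i → IsZero (E.X i)) → a + n ≤ 1 → P (toD E) := by
  induction n with
  | zero =>
    intro a E _ ha hb _
    apply h0
    have hE : IsZero E := by
      rw [IsZero.iff_id_eq_zero]
      ext i : 1
      by_cases hi : i < a
      · exact (ha i hi).eq_of_src _ _
      · exact (hb i (by push_cast; omega)).eq_of_src _ _
    exact (DerivedCategory.Q).map_isZero hE
  | succ n ih =>
    intro a E hfp ha hb han
    let f : E ⟶ (HomologicalComplex.single _ (ComplexShape.up ℤ) a).obj (E.X a) :=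
      HomologicalComplex.mkHomToSingle (𝟙 _)
        (fun i hi => (ha i (by simp at hi; omega)).eq_of_src _ _)
    have hfa : IsIso (f.f a) := by
      rw [HomologicalComplex.mkHomToSingle_f]
      infer_instance
    have htgt : ∀ i, i ≠ a →
        IsZero (((HomologicalComplex.single (ModuleCat.{u} A) (ComplexShape.up ℤ) a).obj
          (E.X a)).X i) :=
      fun i hi => HomologicalComplex.isZero_single_obj_X _ a _ i hi
    haveI : Epi f := by
      refine HomologicalComplex.epi_of_epi_f f (fun i => ?_)
      by_cases h : i = a
      · subst h; infer_instance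
      · exact ⟨fun g h' _ => (htgt i h).eq_of_src g h'⟩
    have hS : (ShortComplex.kernelSequence f).ShortExact :=
      ShortComplex.ShortExact.mk' (ShortComplex.kernelSequence_exact f) inferInstance
        (by show Epi f; infer_instance)
    let e : ∀ i, (kernel f).X i ≅ kernel (f.f i) := fun i =>
      PreservesKernel.iso (HomologicalComplex.eval _ _ i) f
    have hker_zero : ∀ i, IsZero (E.X i) → IsZero ((kernel f).X i) := fun i hi =>
      IsZero.of_iso (IsZero.of_mono (kernel.ι (f.f i)) hi) (e i)
    have hker_a : IsZero ((kernel f).X a) :=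
      IsZero.of_iso (isZero_kernel_of_mono (f.f a)) (e a)
    have hker_iso : ∀ i, i ≠ a → Nonempty ((kernel f).X i ≅ E.X i) := fun i hi => by
      have h0' : f.f i = 0 := (htgt i hi).eq_of_tgt _ _
      refine ⟨e i ≪≫ ?_⟩
      rw [h0']
      exact asIso (kernel.ι (0 : E.X i ⟶ _))
    have hfpk : TermwiseFiniteFree (kernel f) := by
      intro i
      by_cases h : i = a
      · subst h
        haveI : Subsingleton ((kernel f).X i) := ModuleCat.subsingleton_of_isZero hker_a
        exact ⟨inferInstance, inferInstance⟩
      · obtain ⟨e'⟩ := hker_iso i h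
        haveI := (hfp i).1
        haveI := (hfp i).2
        exact ⟨Module.Finite.equiv e'.toLinearEquiv.symm,
          Module.Free.of_equiv e'.toLinearEquiv.symm⟩
    have h1 : P (toD (kernel f)) := by
      refine ih (a + 1) (kernel f) hfpk (fun i hi => ?_) (fun i hi => ?_) (by push_cast at han; omega)
      · by_cases h : i = a
        · subst h; exact hker_a
        · exact hker_zero i (ha i (by omega))
      · exact hker_zero i (hb i (by push_cast; omega))
    have h3 : P (toD ((HomologicalComplex.single _ (ComplexShape.up ℤ) a).obj (E.X a))) :=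
      prop_sD_free P hiso h0 hext a (hA a (by push_cast at han; omega)) (E.X a) (hfp a).1 (hfp a).2
    exact hext (triangleOfSES hS) (triangleOfSES_distinguished hS) h1 h3

end Induction

section Approx

open Groth.Agent.Lib.BrutalTrunc in
/-- the brutal truncation triangle, explicitly -/
lemma exists_approx_explicit (E : Cx A) (m : ℤ) :
    ∃ (C : Dual.D A) (u : toD (sigmaGE E m) ⟶ toD E) (v : toD E ⟶ C)
      (w : C ⟶ (toD (sigmaGE E m))⟦(1 : ℤ)⟧),
      Triangle.mk u v w ∈ distTriang (Dual.D A) ∧ C.IsLE (m - 1) := by
  haveI : Mono (incl E m) := by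
    haveI : ∀ n, Mono ((incl E m).f n) := fun n => by
      rw [incl_f]
      exact mono_of_mono_fac (ι_ρ E m n)
    exact HomologicalComplex.mono_of_mono_f _ inferInstance
  have hS : (ShortComplex.mk (incl E m) (cokernel.π (incl E m)) (cokernel.condition _)).ShortExact :=
    ShortComplex.ShortExact.mk' (ShortComplex.exact_cokernel (incl E m)) inferInstance
      (by show Epi (cokernel.π (incl E m)); infer_instance)
  refine ⟨_, _, _, _, triangleOfSES_distinguished hS, ?_⟩
  haveI : (cokernel (incl E m)).IsStrictlyLE (m - 1) := by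
    rw [CochainComplex.isStrictlyLE_iff]
    intro j hj
    have e : (cokernel (incl E m)).X j ≅ cokernel ((incl E m).f j) :=
      PreservesCokernel.iso (HomologicalComplex.eval _ _ j) (incl E m)
    haveI : IsIso ((incl E m).f j) := by
      rw [incl_f]
      exact isIso_ι E (by omega)
    exact IsZero.of_iso (isZero_cokernel_of_epi _) e
  show (Q.obj (cokernel (incl E m))).IsLE (m - 1)
  infer_instance

end Approx

end Groth.Agent.Lib.RelPcTenH6
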