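import Mathlib
import Groth.Agent.Lib.RelPcTen1_helper6

/-!
# Tensoring with a pseudo-coherent complex in degrees `≤ 0` (helper6), part 2: the main dévissage
-/

set_option autoImplicit false
set_option linter.style.haveILetI false
set_option linter.unusedSectionVars false
set_option linter.unusedVariables false
universe u
open CategoryTheory Limits MonoidalCategory Pretriangulated ZeroObject

namespace Groth.Agent.Lib.RelPcTenH6

open DerivedCategory DRing Groth.Agent.Lib.KFlatMod Groth.Agent.Lib.Devissage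
  Groth.Agent.Lib.DMod_helper6 Groth.Agent.Lib.DRingLT Groth.Agent.Lib.RelPerfTensor
  Groth.Agent.Lib.BrutalTrunc
attribute [local instance] HasDerivedCategory.standard

variable {A : Type u} [CommRing A]

/-- **dévissage**: a family of properties `Pc j` of objects of `D(A)` behaving like
`j`-pseudo-coherence, which holds at `m` for `Q X₁`, `X₁` K-flat and bounded above, holds at `m` for
`Q (X₁ ⊗ F)` for every complex `F` of finite free modules concentrated in degrees `≤ 0` -/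
theorem prop_tensor_of_pc (Pc : ℤ → Dual.D A → Prop)
    (hiso : ∀ (j : ℤ) {X Y : Dual.D A}, (X ≅ Y) → Pc j X → Pc j Y)
    (hmono : ∀ (j j' : ℤ) (X : Dual.D A), j ≤ j' → Pc j X → Pc j' X)
    (hext : ∀ (j : ℤ) (T : Triangle (Dual.D A)), T ∈ distTriang _ →
      Pc j T.obj₁ → Pc j T.obj₃ → Pc j T.obj₂)
    (hshift : ∀ (j d : ℤ) (X : Dual.D A), Pc j X → Pc (j - d) (X⟦d⟧))
    (hle : ∀ (j : ℤ) (X : Dual.D A), X.IsLE (j - 1) → Pc j X)
    (X₁ : Cx A) (b : ℤ) (hb : VanishesAbove X₁ b) (h₁ : KF A X₁) (m : ℤ)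
    (hX : Pc m (Q.obj X₁))
    (F : Cx A) (hF0 : VanishesAbove F 0) (hFf : TermwiseFiniteFree F) :
    Pc m (Q.obj (X₁ ⊗ F)) := by
  obtain ⟨k, hk0, hkm⟩ : ∃ k : ℤ, k ≤ 0 ∧ k ≤ m - b := ⟨min (m - b) 0, min_le_right _ _, min_le_left _ _⟩
  obtain ⟨C, u, v, w, hT, hC⟩ := exists_approx_explicit F k
  let P : Dual.D A → Prop := fun E' => Pc m ((tenL X₁ h₁).obj E')
  have hPiso : ∀ {K K' : Dual.D A}, (K ≅ K') → P K → P K' := fun e h =>
    hiso m ((tenL X₁ h₁).mapIso e) h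
  have hP0 : ∀ K : Dual.D A, IsZero K → P K := fun K hK => by
    apply hle
    have hz := isZero_tenL X₁ h₁ K hK
    rw [DerivedCategory.isLE_iff]
    intro i _
    exact (DerivedCategory.homologyFunctor _ i).map_isZero hz
  have hPext : ∀ Tr : Triangle (Dual.D A), Tr ∈ distTriang _ → P Tr.obj₁ → P Tr.obj₃ →
      P Tr.obj₂ := by
    intro Tr hTr h1 h3
    rw [mem_distTriang_iff] at hTr
    obtain ⟨K, L, f, ⟨e⟩⟩ := hTr
    have hT' : Q.mapTriangle.obj (CochainComplex.mappingCone.triangle (X₁ ◁ f)) ∈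
        distTriang (Dual.D A) := by
      rw [mem_distTriang_iff]
      exact ⟨_, _, X₁ ◁ f, ⟨Iso.refl _⟩⟩
    have e1 : (tenL X₁ h₁).obj Tr.obj₁ ≅ Q.obj (X₁ ⊗ K) :=
      (tenL X₁ h₁).mapIso (Triangle.π₁.mapIso e) ≪≫ (tenLIso X₁ h₁).app K
    have e2 : (tenL X₁ h₁).obj Tr.obj₂ ≅ Q.obj (X₁ ⊗ L) :=
      (tenL X₁ h₁).mapIso (Triangle.π₂.mapIso e) ≪≫ (tenLIso X₁ h₁).app L
    have e3 : (tenL X₁ h₁).obj Tr.obj₃ ≅ Q.obj (CochainComplex.mappingCone (X₁ ◁ f)) :=
      (tenL X₁ h₁).mapIso (Triangle.π₃.mapIso e) ≪≫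
        (tenLIso X₁ h₁).app (CochainComplex.mappingCone f) ≪≫
        Q.mapIso (Groth.Agent.Lib.BifCone.mapBifunctorConeIso₂ (T A) X₁ f)
    have h2 := hext m _ hT' (hiso m e1 h1) (hiso m e3 h3)
    exact hiso m e2.symm h2
  -- the perfect part
  have hP1 : P (toD (sigmaGE F k)) := by
    refine perfect_induction_nonpos P hPiso hP0 ?_ hPext (1 - k).toNat k (sigmaGE F k) ?_ ?_ ?_ ?_
    · intro a ha
      have e : (tenL X₁ h₁).obj ((sD a).obj (ModuleCat.of A A)) ≅ (Q.obj X₁)⟦-a⟧ :=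
        (tenLIso X₁ h₁).app _ ≪≫ Q.mapIso (tensorSingleIso X₁ a) ≪≫ (Q.commShiftIso (-a)).app X₁
      have h1 : Pc (m - -a) ((Q.obj X₁)⟦-a⟧) := hshift m (-a) _ hX
      exact hiso m e.symm (hmono _ _ _ (by omega) h1)
    · intro j
      by_cases h : k ≤ j
      · haveI := isIso_ι F h
        have e : (sigmaGE F k).X j ≅ F.X j := asIso (ι F k j)
        haveI := (hFf j).1
        haveI := (hFf j).2
        exact ⟨Module.Finite.equiv e.toLinearEquiv.symm, Module.Free.of_equiv e.toLinearEquiv.symm⟩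
      · haveI : Subsingleton ((sigmaGE F k).X j) :=
          ModuleCat.subsingleton_of_isZero (isZero_sigmaGE_X F h)
        exact ⟨inferInstance, inferInstance⟩
    · intro i hi
      exact isZero_sigmaGE_X F (by omega)
    · intro i hi
      exact isZero_sigmaGE_X' F k i (hF0 i (by
        rw [Int.toNat_of_nonneg (by omega)] at hi
        omega))
    · rw [Int.toNat_of_nonneg (by omega)]
      omega
  -- the cone
  have hP3 : P C := by
    haveI := hC
    obtain ⟨C₀, hC₀, ⟨eC⟩⟩ := DerivedCategory.exists_iso_Q_obj_of_isLE C (k - 1)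
    haveI := hC₀
    have e3 : (tenL X₁ h₁).obj C ≅ Q.obj (X₁ ⊗ C₀) :=
      (tenL X₁ h₁).mapIso eC ≪≫ (tenLIso X₁ h₁).app C₀
    haveI : (X₁ ⊗ C₀).IsStrictlyLE (b + (k - 1)) := by
      rw [CochainComplex.isStrictlyLE_iff]
      exact vanishesAbove_tensor X₁ C₀ b (k - 1) hb
        (fun i hi => C₀.isZero_of_isStrictlyLE (k - 1) i hi)
    have h1 : (Q.obj (X₁ ⊗ C₀)).IsLE (b + (k - 1)) := inferInstance
    have h2 : (Q.obj (X₁ ⊗ C₀)).IsLE (m - 1) :=
      DerivedCategory.TStructure.t.isLE_of_le _ (b + (k - 1)) (m - 1) (by omega)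
    exact hiso m e3.symm (hle m _ h2)
  have hP2 : P (toD F) := hPext _ hT hP1 hP3
  exact hiso m ((tenLIso X₁ h₁).app F) hP2

end Groth.Agent.Lib.RelPcTenH6
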