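import Mathlib
import Groth.Agent.Lib.RelPcTen2_helper6
import Groth.Agent.Lib.DerCompl8_helper2
import Groth.Agent.Lib.NilpTor_helper2
import Groth.Agent.Lib.PerfectCx_helper2
import Groth.Agent.Lib.DMod59_helper6

/-!
# Tensoring with a pseudo-coherent algebra (helper6), part 3

* `exists_finite_free_resolution_of_isLE`: a pseudo-coherent object of `D^{≤ b}` is represented by a
  complex of finite free modules vanishing above `b`.
* `nonempty_restrictD_lBaseChange_iso_tensor`: `(L ⊗^L_S B)|_S ≅ X₁ ⊗ F` for a flat resolution `X₁` of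
  `L` and a free resolution `F` of `B`.
* `pc_tensor_of_lBaseChange`.
-/

set_option autoImplicit false
set_option linter.style.haveILetI false
set_option linter.unusedSectionVars false
set_option linter.unusedVariables false
universe u
open CategoryTheory Limits MonoidalCategory Pretriangulated ZeroObject

namespace Groth.Agent.Lib.RelPcTenH6

open DerivedCategory DRing Groth.Agent.Lib.KFlatMod Groth.Agent.Lib.Devissage
  Groth.Agent.Lib.DMod_helper6 Groth.Agent.Lib.DRingLT Groth.Agent.Lib.RelPerfTensor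
  Groth.Agent.Lib.DerCompl Groth.Agent.Lib.NilpTor Groth.Agent.Lib.ExtKFlat
  Groth.Agent.Lib.BifSingleL
attribute [local instance] HasDerivedCategory.standard

section Resolution

variable {A : Type u} [CommRing A]

/-- a pseudo-coherent object of `D^{≤ b}(A)` is represented by a complex of finite free modules
vanishing above `b` -/
theorem exists_finite_free_resolution_of_isLE (K : Dual.D A) (b : ℤ)
    (hb : DerivedCategory.IsLE K b) (hK : ∀ m : ℤ, IsPseudoCoherent A m K) :
    ∃ E : Cx A, VanishesAbove E b ∧ TermwiseFiniteFree E ∧ Nonempty (toD E ≅ K) := by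
  let L : Cx A := Q.objPreimage K
  let eL : toD L ≅ K := Q.objObjPreimageIso K
  obtain ⟨Z, hZ, a0, b0, hZab, hZff⟩ := bfCls_zero (A := A)
  let s0 : CState L := ⟨L, Z, 𝟙 L, 0, comp_zero⟩
  have h0 : CInv L b 0 s0 := by
    refine ⟨?_, hZff, fun i _ => isZero_X_of_isZero hZ i, fun m => ?_, ?_⟩
    · refine HomologicalComplex.shortExact_of_degreewise_shortExact _ (fun i => ?_)
      have hz : IsZero (Z.X i) := isZero_X_of_isZero hZ i
      refine ShortComplex.ShortExact.mk' ?_ ?_ ?_
      · refine (ShortComplex.exact_iff_epi _ (hz.eq_of_tgt _ _)).2 ?_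
        show Epi ((𝟙 L : L ⟶ L).f i)
        rw [HomologicalComplex.id_f]; infer_instance
      · show Mono ((𝟙 L : L ⟶ L).f i)
        rw [HomologicalComplex.id_f]; infer_instance
      · exact ⟨fun _ _ _ => hz.eq_of_src _ _⟩
    · exact (isPseudoCoherent_iff_pcmP m _).2
        ((pcmP A m).prop_of_iso eL.symm ((isPseudoCoherent_iff_pcmP m K).1 (hK m)))
    · show DerivedCategory.IsLE (toD L) (b - ((0 : ℕ) : ℤ))
      rw [Nat.cast_zero, sub_zero]
      haveI := hb
      exact TStructure.t.isLE_of_iso eL.symm b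
  have hinv := cseq_inv L b s0 h0
  have hrel : ∀ n : ℕ, ∃ (j : (cseq L b s0 n).C ⟶ (cseq L b s0 (n + 1)).C)
      (k : (cseq L b s0 n).D ⟶ (cseq L b s0 (n + 1)).D),
      (cseq L b s0 n).ι ≫ j = (cseq L b s0 (n + 1)).ι ∧
      j ≫ (cseq L b s0 (n + 1)).π = (cseq L b s0 n).π ≫ k ∧
      ∀ i : ℤ, i ≠ b - n - 1 → IsIso (j.f i) ∧ IsIso (k.f i) :=
    fun n => cseq_rel L b s0 h0 n
  choose j k hj1 hj2 hj3 using hrel
  obtain ⟨C, D, ι, π, w, hS, hff, hva, hex⟩ :=
    exists_limit_state L b (cseq L b s0) hinv j k hj1 hj2 hj3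
  have hCz : IsZero (toD C) := isZero_toD_of_exactAt C hex
  have hT := triangleOfSES_distinguished hS
  have hiso : IsIso (triangleOfSES hS).mor₃ :=
    (Triangle.isZero₂_iff_isIso₃ (triangleOfSES hS) hT).1 hCz
  let e3 : toD D ≅ (toD L)⟦(1 : ℤ)⟧ := @asIso _ _ _ _ (triangleOfSES hS).mor₃ hiso
  have e4 : (toD D)⟦(-1 : ℤ)⟧ ≅ K :=
    (CategoryTheory.shiftFunctor (Dual.D A) (-1 : ℤ)).mapIso e3 ≪≫
      (shiftFunctorCompIsoId (Dual.D A) (1 : ℤ) (-1) (by omega)).app (toD L) ≪≫ eL
  refine ⟨D⟦(-1 : ℤ)⟧, fun i hi => ?_, fun i => ?_, ⟨(Q.commShiftIso (-1 : ℤ)).app D ≪≫ e4⟩⟩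
  · exact hva (i + -1) (by omega)
  · exact hff (i + -1)

end Resolution

section Iso

variable {S B : Type u} [CommRing S] [CommRing B] [Algebra S B]
  [HasLBaseChange (algebraMap S B)]

/-- `B` as an `S`-module -/
noncomputable abbrev BS (S B : Type u) [CommRing S] [CommRing B] [Algebra S B] : ModuleCat.{u} S :=
  (res S B).obj (𝟙_ (ModuleCat.{u} B))

/-- `(L ⊗^L_S B)|_S ≅ X₁ ⊗_S B` for a bounded above flat resolution `X₁` of `L` -/
theorem nonempty_restrictD_lBaseChange_iso_TN (L : Dual.D S) (X₁ : Cx S) (b : ℤ)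
    (hb : VanishesAbove X₁ b) (hfl : TermwiseFlat X₁) (e : toD X₁ ≅ L) :
    Nonempty ((restrictD (algebraMap S B)).obj ((LBaseChange (algebraMap S B)).obj L) ≅
      toD ((TN (BS S B)).obj X₁)) := by
  obtain ⟨eL⟩ := nonempty_lBaseChange_iso_of_flat (algebraMap S B) X₁ b hb hfl
  let i1 : (restrictD (algebraMap S B)).obj ((LBaseChange (algebraMap S B)).obj L) ≅
      (restrictD (algebraMap S B)).obj (toD
        (((ext S B).mapHomologicalComplex (ComplexShape.up ℤ)).obj X₁)) :=
    (restrictD (algebraMap S B)).mapIso ((LBaseChange (algebraMap S B)).mapIso e.symm ≪≫ eL)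
  let i3 : (restrictD (algebraMap S B)).obj (toD
        (((ext S B).mapHomologicalComplex (ComplexShape.up ℤ)).obj X₁)) ≅
      toD (((res S B).mapHomologicalComplex (ComplexShape.up ℤ)).obj
        (((ext S B).mapHomologicalComplex (ComplexShape.up ℤ)).obj X₁)) :=
    (ModuleCat.restrictScalars (algebraMap S B)).mapDerivedCategoryFactors.app _
  let i4 : (SP (T S) X₁).obj (BS S B) ≅
      ((res S B).mapHomologicalComplex (ComplexShape.up ℤ)).obj
        (((ext S B).mapHomologicalComplex (ComplexShape.up ℤ)).obj X₁) :=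
    compIso (𝟙_ (ModuleCat.{u} B)) X₁ ≪≫
      ((res S B).mapHomologicalComplex (ComplexShape.up ℤ)).mapIso
        (spUnitIso (((ext S B).mapHomologicalComplex (ComplexShape.up ℤ)).obj X₁))
  exact ⟨i1 ≪≫ i3 ≪≫ Q.mapIso i4.symm ≪≫ Q.mapIso (spTNIso X₁ (BS S B))⟩

end Iso

end Groth.Agent.Lib.RelPcTenH6
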