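import Mathlib
import Groth.Agent.Lib.RelPcTen3_helper6

/-!
# Tensoring with a pseudo-coherent algebra (helper6), part 4: `pc_tensor_of_lBaseChange`
-/

set_option autoImplicit false
set_option linter.style.haveILetI false
set_option linter.unusedSectionVars false
set_option linter.unusedVariables false
universe u
open CategoryTheory Limits MonoidalCategory Pretriangulated ZeroObject

namespace Groth.Agent.Lib.RelPcTenH6

open DerivedCategory DRing Groth.Agent.Lib.KFlatMod Groth.Agent.Lib.Devissage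
  Groth.Agent.Lib.DMod_helper6 Groth.Agent.Lib.DRingLT Groth.Agent.Lib.RelPerfTensor
  Groth.Agent.Lib.DerCompl Groth.Agent.Lib.NilpTor Groth.Agent.Lib.ExtKFlat
  Groth.Agent.Lib.BifSingleL
attribute [local instance] HasDerivedCategory.standard

variable {S B : Type u} [CommRing S] [CommRing B] [Algebra S B]
  [HasLBaseChange (algebraMap S B)]

/-- **a family of properties behaving like `j`-pseudo-coherence is preserved by `- ⊗^L_S B`
(viewed in `D(S)`) when `B` is a pseudo-coherent `S`-module** -/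
theorem pc_tensor_of_lBaseChange
    (hBpc : ∀ j : ℤ, IsPseudoCoherent S j ((restrictD (algebraMap S B)).obj (Dual.inD B B)))
    (Pc : ℤ → Dual.D S → Prop)
    (hiso : ∀ (j : ℤ) {X Y : Dual.D S}, (X ≅ Y) → Pc j X → Pc j Y)
    (hmono : ∀ (j j' : ℤ) (X : Dual.D S), j ≤ j' → Pc j X → Pc j' X)
    (hext : ∀ (j : ℤ) (T : Triangle (Dual.D S)), T ∈ distTriang _ →
      Pc j T.obj₁ → Pc j T.obj₃ → Pc j T.obj₂)
    (hshift : ∀ (j d : ℤ) (X : Dual.D S), Pc j X → Pc (j - d) (X⟦d⟧))
    (hle : ∀ (j : ℤ) (X : Dual.D S), X.IsLE (j - 1) → Pc j X)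
    (L : Dual.D S) (b : ℤ) (hLb : DerivedCategory.IsLE L b) (m : ℤ) (hL : Pc m L) :
    Pc m ((restrictD (algebraMap S B)).obj ((LBaseChange (algebraMap S B)).obj L)) := by
  haveI := hLb
  obtain ⟨X₁, hfree, hb, ⟨e⟩⟩ := exists_free_resolution L b
  have hfl : TermwiseFlat X₁ := fun i => by
    haveI := hfree i
    exact Module.Flat.of_free
  have h₁ : KF S X₁ := kf_of_vanishesAbove X₁ b hb hfl
  obtain ⟨i⟩ := nonempty_restrictD_lBaseChange_iso_TN (B := B) L X₁ b hb hfl e
  let N : ModuleCat.{u} S := BS S B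
  have eN : (restrictD (algebraMap S B)).obj (Dual.inD B B) ≅
      (DerivedCategory.singleFunctor (ModuleCat.{u} S) 0).obj N :=
    restrictDInDIso (algebraMap S B) (ModuleCat.of B B)
  have hK' : ∀ j : ℤ, IsPseudoCoherent S j
      ((DerivedCategory.singleFunctor (ModuleCat.{u} S) 0).obj N) := fun j =>
    (isPseudoCoherent_iff_pcmP j _).2 ((pcmP S j).prop_of_iso eN
      ((isPseudoCoherent_iff_pcmP j _).1 (hBpc j)))
  obtain ⟨F, hF0, hFf, ⟨eF⟩⟩ := exists_finite_free_resolution_of_isLE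
    ((DerivedCategory.singleFunctor (ModuleCat.{u} S) 0).obj N) 0 inferInstance hK'
  have eF' : toD F ≅ toD (Sg N) :=
    eF ≪≫ (DerivedCategory.singleFunctorIsoCompQ (ModuleCat.{u} S) 0).app N
  obtain ⟨i7⟩ := nonempty_tensor_iso_of_iso X₁ h₁ eF'
  have i6 : toD ((TN N).obj X₁) ≅ toD (X₁ ⊗ Sg N) :=
    Q.mapIso ((tensorSingleNat N).app X₁).symm
  have hX : Pc m (Q.obj X₁) := hiso m e.symm hL
  have main : Pc m (Q.obj (X₁ ⊗ F)) :=
    prop_tensor_of_pc Pc hiso hmono hext hshift hle X₁ b hb h₁ m hX F hF0 hFf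
  exact hiso m (i7 ≪≫ i6.symm ≪≫ i.symm) main

end Groth.Agent.Lib.RelPcTenH6
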