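import Mathlib
import Groth.Agent.Lib.PcBC1_helper6
import Groth.Agent.Lib.RelPcTen4_helper6
import Groth.Agent.Lib.DMod50_helper6

/-!
# Base change of `RHom(E, -)` for pseudo-coherent `E` (helper6), part 2: t-structure lemmas

* `isGE_obj₃_of_isIso`, `isIso_homology_mor₁_of_isGE`: cones and isomorphisms on low cohomology.
* `isGE_leftAdjoint_of_torAmp`: derived base change along a ring map of tor dimension `≤ d` maps
  `D^{≥ k}` to `D^{≥ k - d}`.
-/

set_option autoImplicit false
set_option linter.style.haveILetI false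
set_option linter.unusedSectionVars false
set_option linter.unusedVariables false
universe u
open CategoryTheory CategoryTheory.Limits DerivedCategory Pretriangulated MonoidalCategory
open scoped TensorProduct
attribute [local instance] HasDerivedCategory.standard

namespace Groth.Agent.Lib.PcBCH6

open DRing Groth.Agent.Lib.DMod_helper6 Groth.Agent.Lib.KFlatMod
  Groth.Agent.Lib.DRingLT Groth.Agent.Lib.RelPerfTensor
  Groth.Agent.Lib.DerCompl Groth.Agent.Lib.NilpTor Groth.Agent.Lib.ExtKFlat
  Groth.Agent.Lib.BifSingleL Groth.Agent.Lib.TrivBCH6 Groth.Agent.Lib.RelPcTenH6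

section Tri

variable {S : Type u} [CommRing S]

/-- if the first map of a distinguished triangle is an isomorphism on `H^i` for `i < k`, the third
vertex is in `D^{≥ k - 1}` -/
lemma isGE_obj₃_of_isIso (T : Triangle (Dual.D S)) (hT : T ∈ distTriang _) (k : ℤ)
    (h : ∀ i : ℤ, i < k → IsIso ((DerivedCategory.homologyFunctor (ModuleCat.{u} S) i).map T.mor₁)) :
    DerivedCategory.IsGE T.obj₃ (k - 1) := by
  rw [DerivedCategory.isGE_iff]
  intro i hi
  have h1 : (DerivedCategory.homologyFunctor (ModuleCat.{u} S) i).map T.mor₂ = 0 := by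
    haveI := h i (by omega)
    exact (HomologySequence.epi_homologyMap_mor₁_iff _ hT i).1 inferInstance
  have h2 : HomologySequence.δ T i (i + 1) rfl = 0 := by
    haveI := h (i + 1) (by omega)
    exact (HomologySequence.mono_homologyMap_mor₁_iff _ hT i (i + 1) rfl).1 inferInstance
  exact (HomologySequence.exact₃ _ hT i (i + 1) rfl).isZero_of_both_zeros h1 h2

/-- if the third vertex of a distinguished triangle is in `D^{≥ c}`, the first map is an isomorphism
on `H^i` for `i < c` -/
lemma isIso_homology_mor₁_of_isGE (T : Triangle (Dual.D S)) (hT : T ∈ distTriang _) (c : ℤ)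
    [DerivedCategory.IsGE T.obj₃ c] (i : ℤ) (hi : i < c) :
    IsIso ((DerivedCategory.homologyFunctor (ModuleCat.{u} S) i).map T.mor₁) := by
  haveI h1 : Mono ((DerivedCategory.homologyFunctor (ModuleCat.{u} S) i).map T.mor₁) := by
    rw [HomologySequence.mono_homologyMap_mor₁_iff _ hT (i - 1) i (by omega)]
    exact (DerivedCategory.isZero_of_isGE T.obj₃ c (i - 1) (by omega)).eq_of_src _ _
  haveI h2 : Epi ((DerivedCategory.homologyFunctor (ModuleCat.{u} S) i).map T.mor₁) := by
    rw [HomologySequence.epi_homologyMap_mor₁_iff _ hT i]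
    exact (DerivedCategory.isZero_of_isGE T.obj₃ c i hi).eq_of_tgt _ _
  exact isIso_of_mono_of_epi _

end Tri

section Res

variable {A B : Type u} [CommRing A] [CommRing B] (φ : A →+* B)

lemma isGE_of_isGE_restrictD (K : Dual.D B) (b : ℤ)
    (h : DerivedCategory.IsGE ((restrictD φ).obj K) b) : DerivedCategory.IsGE K b := by
  haveI := h
  exact Groth.Agent.Lib.DMod_helper6.isGE_of_subsingleton_HD K b (fun i hi =>
    (subsingleton_HD_restrictD_iff φ K i).1
      (ModuleCat.subsingleton_of_isZero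
        (DerivedCategory.isZero_of_isGE ((restrictD φ).obj K) b i hi)))

end Res

section TorAmp

variable {R R' : Type u} [CommRing R] [CommRing R'] [Algebra R R']
  {L : Dual.D R ⥤ Dual.D R'} (adjρ : L ⊣ DRing.restrictD (algebraMap R R'))

include adjρ in
/-- **derived base change along a ring map of tor dimension `≤ d` maps `D^{≥ k}` to
`D^{≥ k - d}`** -/
theorem isGE_leftAdjoint_of_torAmp (d : ℕ)
    (hd : HasTorAmplitudeIn R (-(d : ℤ)) 0 (Dual.inD R R'))
    (X : Dual.D R) (k : ℤ) [DerivedCategory.IsGE X k] :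
    DerivedCategory.IsGE (L.obj X) (k - d) := by
  obtain ⟨F, hF, hFfl, ⟨eF⟩⟩ := hd
  have hFkf : KF R F := kf_of_vanishesAbove F 0 (fun i hi => hF i (Or.inr hi)) hFfl
  -- K-flat resolution of `X`
  obtain ⟨N, f, hN, -, hf, -⟩ := exists_kf_resolution (Q.objPreimage X)
  haveI := hf
  haveI : IsIso (Q.map f) := (isIso_Q_map_iff_quasiIso (C := ModuleCat.{u} R) f).2 inferInstance
  let e : Q.obj N ≅ X := asIso (Q.map f) ≪≫ Q.objObjPreimageIso X
  haveI : DerivedCategory.IsGE (Q.obj N) k := TStructure.t.isGE_of_iso e.symm k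
  haveI hNge : N.IsGE k := (isGE_Q_obj_iff N k).1 inferInstance
  -- truncation
  let N₁ : Cx R := N.truncGE k
  let π : N ⟶ N₁ := N.πTruncGE k
  haveI : QuasiIso π := (N.quasiIso_πTruncGE_iff k).2 inferInstance
  haveI : QuasiIso (π ▷ F) := quasiIso_whiskerRight F hFkf π
  haveI : IsIso (Q.map (π ▷ F)) :=
    (isIso_Q_map_iff_quasiIso (C := ModuleCat.{u} R) (π ▷ F)).2 inferInstance
  -- strictness
  have hstrict : ∀ i : ℤ, i < k - d → IsZero ((N₁ ⊗ F).X i) := fun i hi => by
    apply isZero_tensor_X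
    intro p q hpq
    by_cases hp : p < k
    · exact Or.inl (CochainComplex.isZero_of_isStrictlyGE N₁ k p hp)
    · exact Or.inr (hF q (Or.inl (by omega)))
  haveI : (N₁ ⊗ F).IsStrictlyGE (k - d) := (CochainComplex.isStrictlyGE_iff _ _).2 hstrict
  haveI : DerivedCategory.IsGE (Q.obj (N₁ ⊗ F)) (k - d) := inferInstance
  -- the chain of isomorphisms
  haveI hcmp : IsIso (TrivBCH6.cmpL (algebraMap R R') adjρ N) :=
    isIso_cmpL_of_kf _ adjρ N hN
  let NB : ModuleCat.{u} R := BS R R'
  let i1 : (restrictD (algebraMap R R')).obj (L.obj X) ≅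
      (restrictD (algebraMap R R')).obj (toD
        (((ext R R').mapHomologicalComplex (ComplexShape.up ℤ)).obj N)) :=
    (restrictD (algebraMap R R')).mapIso (L.mapIso e.symm ≪≫
      asIso (TrivBCH6.cmpL (algebraMap R R') adjρ N))
  let i3 : (restrictD (algebraMap R R')).obj (toD
        (((ext R R').mapHomologicalComplex (ComplexShape.up ℤ)).obj N)) ≅
      toD (((res R R').mapHomologicalComplex (ComplexShape.up ℤ)).obj
        (((ext R R').mapHomologicalComplex (ComplexShape.up ℤ)).obj N)) :=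
    (ModuleCat.restrictScalars (algebraMap R R')).mapDerivedCategoryFactors.app _
  let i4 : (SP (T R) N).obj NB ≅
      ((res R R').mapHomologicalComplex (ComplexShape.up ℤ)).obj
        (((ext R R').mapHomologicalComplex (ComplexShape.up ℤ)).obj N) :=
    compIso (𝟙_ (ModuleCat.{u} R')) N ≪≫
      ((res R R').mapHomologicalComplex (ComplexShape.up ℤ)).mapIso
        (spUnitIso (((ext R R').mapHomologicalComplex (ComplexShape.up ℤ)).obj N))
  let i5 : toD ((SP (T R) N).obj NB) ≅ toD ((TN NB).obj N) := Q.mapIso (spTNIso N NB)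
  let i6 : toD ((TN NB).obj N) ≅ toD (N ⊗ Sg NB) := Q.mapIso ((tensorSingleNat NB).app N).symm
  have eF' : toD F ≅ toD (Sg NB) :=
    eF ≪≫ (restrictDInDSelfIso (A := R) (B := R')).symm ≪≫
      restrictDInDIso (algebraMap R R') (ModuleCat.of R' R') ≪≫
      (DerivedCategory.singleFunctorIsoCompQ (ModuleCat.{u} R) 0).app NB
  obtain ⟨i7⟩ := nonempty_tensor_iso_of_iso N hN eF'
  let i8 : toD (N ⊗ F) ≅ toD (N₁ ⊗ F) := asIso (Q.map (π ▷ F))
  apply isGE_of_isGE_restrictD (algebraMap R R')
  exact TStructure.t.isGE_of_iso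
    (i8.symm ≪≫ i7 ≪≫ i6.symm ≪≫ i5.symm ≪≫ Q.mapIso i4 ≪≫ i3.symm ≪≫ i1.symm) (k - d)

end TorAmp

end Groth.Agent.Lib.PcBCH6
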