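import Mathlib
import Groth.Agent.Lib.PcBC2_helper6

/-!
# Base change of `RHom(E, -)` for pseudo-coherent `E` (helper6), part 3:
`RHom(E, K) ⊗^L_R R' ≅ RHom(E ⊗_R R', K ⊗^L_R R')` for `E` bounded above finite free, `K ∈ D^+` and `R'`
of finite tor dimension.
-/

set_option autoImplicit false
set_option linter.style.haveILetI false
set_option linter.unusedSectionVars false
set_option linter.unusedVariables false
universe u
open CategoryTheory CategoryTheory.Limits DerivedCategory Pretriangulated
open CochainComplex CochainComplex.HomComplex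
open scoped TensorProduct
attribute [local instance] HasDerivedCategory.standard

namespace Groth.Agent.Lib.PcBCH6

open Groth.Agent.Lib.DMod_helper6 Groth.Agent.Lib.DerivedAdj Groth.Agent.Lib.KFlatMod
  Groth.Agent.Lib.BaseCmp Groth.Agent.Lib.FlatBCH6 Groth.Agent.Lib.HomCx Groth.Agent.Lib.RHomK
  Groth.Agent.Lib.TrivBCH6 Groth.Agent.Lib.BrutalTrunc

section Sigma

variable {R : Type u} [CommRing R] (E : DRing.Cx R)

lemma isIso_incl_f (c p : ℤ) (h : c ≤ p) : IsIso ((incl E c).f p) := by
  rw [incl_f]
  exact isIso_ι E h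

lemma vanishesOutside_sigmaGE (c b : ℤ) (hb : DRing.VanishesAbove E b) :
    DRing.VanishesOutside (sigmaGE E c) c b := by
  intro i hi
  rcases hi with hi | hi
  · exact isZero_sigmaGE_X E (by omega)
  · exact isZero_sigmaGE_X' E c i (hb i hi)

lemma termwiseFiniteProjective_sigmaGE (c : ℤ) (hE : DRing.TermwiseFiniteProjective E) :
    DRing.TermwiseFiniteProjective (sigmaGE E c) := by
  intro i
  by_cases h : c ≤ i
  · haveI := isIso_ι E h
    let e : (sigmaGE E c).X i ≅ E.X i := asIso (ι E c i)
    haveI := (hE i).1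
    haveI := (hE i).2
    exact ⟨Module.Finite.equiv e.toLinearEquiv.symm, Module.Projective.of_equiv e.toLinearEquiv.symm⟩
  · haveI : Subsingleton ((sigmaGE E c).X i) :=
      ModuleCat.subsingleton_of_isZero (isZero_sigmaGE_X E h)
    exact ⟨inferInstance, inferInstance⟩

end Sigma

section Main

variable {R R' : Type u} [CommRing R] [CommRing R'] [Algebra R R']
  {L : Dual.D R ⥤ Dual.D R'} (adjρ : L ⊣ DRing.restrictD (algebraMap R R'))
  (E : DRing.Cx R) [E.IsKProjective]

/-- the chain level model of `bc` -/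
noncomputable abbrev Psi (E : DRing.Cx R) (N : DRing.Cx R) :
    L.obj (Q.obj (DRing.homCx E N)) ⟶
      Q.obj (DRing.homCx ((DTen.extCx (algebraMap R R')).obj E)
        ((DTen.extCx (algebraMap R R')).obj N)) :=
  TrivBCH6.cmpL (algebraMap R R') adjρ (DRing.homCx E N) ≫
    Q.map (TrivBCH6.kappa (algebraMap R R') E N)

lemma Psi_naturality {E₁ E₂ : DRing.Cx R} (f : E₁ ⟶ E₂) (N : DRing.Cx R) :
    Psi adjρ E₂ N ≫ Q.map (homCxPre ((DTen.extCx (algebraMap R R')).map f)
        ((DTen.extCx (algebraMap R R')).obj N)) =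
      L.map (Q.map (homCxPre f N)) ≫ Psi adjρ E₁ N := by
  unfold Psi
  rw [Category.assoc, ← Functor.map_comp, ← kappa_naturality_left, Functor.map_comp,
    ← Category.assoc, ← cmpL_naturality, Category.assoc]

include adjρ in
/-- `H^j` of the precomposition with the inclusion of a brutal truncation, after base change -/
lemma isIso_homology_L_pre (d : ℕ)
    (hd : DRing.HasTorAmplitudeIn R (-(d : ℤ)) 0 (Dual.inD R R'))
    (b : ℤ) (hEb : DRing.VanishesAbove E b) (hEp : DRing.TermwiseFiniteProjective E)
    (N : DRing.Cx R) (n : ℤ) [N.IsGE n] (c j : ℤ) (hj : j < n - c - 1 - d) :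
    IsIso ((DerivedCategory.homologyFunctor (ModuleCat.{u} R') j).map
      (L.map (Q.map (homCxPre (incl E c) N)))) := by
  letI := adjρ.leftAdjointCommShift ℤ
  haveI := adjρ.commShift_of_rightAdjoint ℤ
  haveI : L.IsTriangulated := adjρ.isTriangulated_leftAdjoint
  let Ec : DRing.Cx R := sigmaGE E c
  have hEc := vanishesOutside_sigmaGE E c b hEb
  have hEcp := termwiseFiniteProjective_sigmaGE E c hEp
  haveI : Ec.IsStrictlyLE b := by
    rw [CochainComplex.isStrictlyLE_iff]
    exact fun i hi => hEc i (Or.inr hi)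
  haveI : ∀ i, Projective (Ec.X i) := fun i => by
    haveI := (hEcp i).2
    infer_instance
  haveI : Ec.IsKProjective := CochainComplex.isKProjective_of_projective Ec b
  obtain ⟨Z, g, h, hT⟩ := distinguished_cocone_triangle (Q.map (homCxPre (incl E c) N))
  have hiso : ∀ i : ℤ, i < n - c → IsIso ((DerivedCategory.homologyFunctor (ModuleCat.{u} R) i).map
      (Triangle.mk (Q.map (homCxPre (incl E c) N)) g h).mor₁) := fun i hi => by
    haveI : QuasiIsoAt (homCxPre (incl E c) N) i :=
      quasiIsoAt_homCxPre (incl E c) c (fun p hp => isIso_incl_f E c p hp) N n i (by omega)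
    have h1 : IsIso (HomologicalComplex.homologyMap (homCxPre (incl E c) N) i) :=
      (quasiIsoAt_iff_isIso_homologyMap _ i).1 inferInstance
    exact (NatIso.isIso_map_iff (DerivedCategory.homologyFunctorFactors (ModuleCat.{u} R) i)
      (homCxPre (incl E c) N)).2 h1
  haveI hZ : DerivedCategory.IsGE Z (n - c - 1) :=
    isGE_obj₃_of_isIso _ hT (n - c) hiso
  haveI hLZ : DerivedCategory.IsGE (L.obj Z) (n - c - 1 - d) :=
    isGE_leftAdjoint_of_torAmp adjρ d hd Z (n - c - 1)
  have hLT := L.map_distinguished _ hT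
  haveI : DerivedCategory.IsGE
      (L.mapTriangle.obj (Triangle.mk (Q.map (homCxPre (incl E c) N)) g h)).obj₃
      (n - c - 1 - d) := hLZ
  exact isIso_homology_mor₁_of_isGE _ hLT (n - c - 1 - d) j hj

/-- `H^j` of the precomposition with the base change of the inclusion of a brutal truncation -/
lemma isIso_homology_pre_ext (b : ℤ) (hEb : DRing.VanishesAbove E b)
    (hEp : DRing.TermwiseFiniteProjective E)
    (N' : DRing.Cx R') (n' : ℤ) [N'.IsGE n'] (c j : ℤ) (hj : j + 1 + c ≤ n') :
    IsIso ((DerivedCategory.homologyFunctor (ModuleCat.{u} R') j).map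
      (Q.map (homCxPre ((DTen.extCx (algebraMap R R')).map (incl E c)) N'))) := by
  let Ec : DRing.Cx R := sigmaGE E c
  have hEc := vanishesOutside_sigmaGE E c b hEb
  have hEcp := termwiseFiniteProjective_sigmaGE E c hEp
  haveI : Ec.IsStrictlyLE b := by
    rw [CochainComplex.isStrictlyLE_iff]
    exact fun i hi => hEc i (Or.inr hi)
  haveI : ∀ i, Projective (Ec.X i) := fun i => by
    haveI := (hEcp i).2
    infer_instance
  haveI : Ec.IsKProjective := CochainComplex.isKProjective_of_projective Ec b
  have hf : ∀ p, c ≤ p → IsIso (((DTen.extCx (algebraMap R R')).map (incl E c)).f p) := fun p hp => by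
    haveI := isIso_incl_f E c p hp
    rw [Functor.mapHomologicalComplex_map_f]
    exact Functor.map_isIso _ _
  haveI : QuasiIsoAt (homCxPre ((DTen.extCx (algebraMap R R')).map (incl E c)) N') j :=
    quasiIsoAt_homCxPre _ c hf N' n' j hj
  have h1 : IsIso (HomologicalComplex.homologyMap
      (homCxPre ((DTen.extCx (algebraMap R R')).map (incl E c)) N') j) :=
    (quasiIsoAt_iff_isIso_homologyMap _ j).1 inferInstance
  exact (NatIso.isIso_map_iff (DerivedCategory.homologyFunctorFactors (ModuleCat.{u} R') j)
    (homCxPre ((DTen.extCx (algebraMap R R')).map (incl E c)) N')).2 h1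

include adjρ in
/-- **the chain level model of `bc` is an isomorphism**: `E` bounded above finite projective, `N`
K-flat and cohomologically bounded below, `R'` of finite tor dimension -/
theorem isIso_Psi (d : ℕ) (hd : DRing.HasTorAmplitudeIn R (-(d : ℤ)) 0 (Dual.inD R R'))
    (b : ℤ) (hEb : DRing.VanishesAbove E b) (hEp : DRing.TermwiseFiniteProjective E)
    (N : DRing.Cx R) (hN : KF R N) (n : ℤ) [N.IsGE n] : IsIso (Psi adjρ E N) := by
  rw [DerivedCategory.isIso_iff]
  intro j
  let c : ℤ := n - d - j - 2
  let Ec : DRing.Cx R := sigmaGE E c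
  have hEc := vanishesOutside_sigmaGE E c b hEb
  have hEcp := termwiseFiniteProjective_sigmaGE E c hEp
  haveI : Ec.IsStrictlyLE b := by
    rw [CochainComplex.isStrictlyLE_iff]
    exact fun i hi => hEc i (Or.inr hi)
  haveI : ∀ i, Projective (Ec.X i) := fun i => by
    haveI := (hEcp i).2
    infer_instance
  haveI : Ec.IsKProjective := CochainComplex.isKProjective_of_projective Ec b
  -- the base change of `N` is cohomologically bounded below
  haveI hcmp : IsIso (TrivBCH6.cmpL (algebraMap R R') adjρ N) := isIso_cmpL_of_kf _ adjρ N hN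
  haveI : DerivedCategory.IsGE (Q.obj N) n := (isGE_Q_obj_iff N n).2 inferInstance
  haveI : DerivedCategory.IsGE (L.obj (Q.obj N)) (n - d) :=
    isGE_leftAdjoint_of_torAmp adjρ d hd (Q.obj N) n
  haveI : DerivedCategory.IsGE (Q.obj ((DTen.extCx (algebraMap R R')).obj N)) (n - d) :=
    TStructure.t.isGE_of_iso (asIso (TrivBCH6.cmpL (algebraMap R R') adjρ N)) (n - d)
  haveI : ((DTen.extCx (algebraMap R R')).obj N).IsGE (n - d) :=
    (isGE_Q_obj_iff _ (n - d)).1 inferInstance
  -- the three isomorphisms
  haveI h1 := isIso_homology_L_pre adjρ E d hd b hEb hEp N n c j (by omega)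
  haveI h2 := isIso_homology_pre_ext E b hEb hEp ((DTen.extCx (algebraMap R R')).obj N)
    (n - d) c j (by omega)
  haveI h3 : IsIso (Psi adjρ Ec N) := by
    haveI h4 : IsIso (TrivBCH6.cmpL (algebraMap R R') adjρ (DRing.homCx Ec N)) :=
      isIso_cmpL_of_kf _ adjρ _
        (Groth.Agent.Lib.HomKFlat.PK_of_bounded_finite_projective hN Ec c b hEc hEcp)
    haveI h5 : IsIso (TrivBCH6.kappa (algebraMap R R') Ec N) :=
      isIso_kappa (algebraMap R R') Ec N c b hEc hEcp
    unfold Psi
    infer_instance
  have hsq : (DerivedCategory.homologyFunctor (ModuleCat.{u} R') j).map (Psi adjρ E N) ≫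
      (DerivedCategory.homologyFunctor (ModuleCat.{u} R') j).map
        (Q.map (homCxPre ((DTen.extCx (algebraMap R R')).map (incl E c))
          ((DTen.extCx (algebraMap R R')).obj N))) =
      (DerivedCategory.homologyFunctor (ModuleCat.{u} R') j).map
        (L.map (Q.map (homCxPre (incl E c) N))) ≫
      (DerivedCategory.homologyFunctor (ModuleCat.{u} R') j).map (Psi adjρ Ec N) := by
    rw [← Functor.map_comp, ← Functor.map_comp, Psi_naturality]
  haveI : IsIso ((DerivedCategory.homologyFunctor (ModuleCat.{u} R') j).map (Psi adjρ E N) ≫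
      (DerivedCategory.homologyFunctor (ModuleCat.{u} R') j).map
        (Q.map (homCxPre ((DTen.extCx (algebraMap R R')).map (incl E c))
          ((DTen.extCx (algebraMap R R')).obj N)))) := by
    rw [hsq]
    infer_instance
  exact IsIso.of_isIso_comp_right _
    ((DerivedCategory.homologyFunctor (ModuleCat.{u} R') j).map
      (Q.map (homCxPre ((DTen.extCx (algebraMap R R')).map (incl E c))
        ((DTen.extCx (algebraMap R R')).obj N))))

end Main

end Groth.Agent.Lib.PcBCH6
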