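import Mathlib
import Groth.Agent.Lib.PcBC3_helper6

/-!
# Base change of `RHom(E, -)` for pseudo-coherent `E` (helper6), part 4: S13550
-/

set_option autoImplicit false
set_option linter.style.haveILetI false
set_option linter.unusedSectionVars false
set_option linter.unusedVariables false
universe u
open CategoryTheory CategoryTheory.Limits DerivedCategory Pretriangulated
open CochainComplex CochainComplex.HomComplex
open scoped TensorProduct
attribute [local instance] HasDerivedCategory.standard

namespace Groth.Agent.Lib.PcBCH6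

open Groth.Agent.Lib.DMod_helper6 Groth.Agent.Lib.DerivedAdj Groth.Agent.Lib.KFlatMod
  Groth.Agent.Lib.BaseCmp Groth.Agent.Lib.FlatBCH6 Groth.Agent.Lib.HomCx Groth.Agent.Lib.RHomK
  Groth.Agent.Lib.TrivBCH6 Groth.Agent.Lib.BrutalTrunc

section BC

variable {R R' : Type u} [CommRing R] [CommRing R'] [Algebra R R']
  {L : Dual.D R ⥤ Dual.D R'} (adjρ : L ⊣ DRing.restrictD (algebraMap R R'))
  (E : DRing.Cx R) [E.IsKProjective]

/-- **`RHom(E, K) ⊗^L_R R' ≅ RHom(E ⊗_R R', K ⊗^L_R R')`** for `E` bounded above with finite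
projective terms, `K ∈ D^{≥ n}` and `R'` of finite tor dimension over `R`. -/
theorem isIso_bc_of_pc (d : ℕ) (hd : DRing.HasTorAmplitudeIn R (-(d : ℤ)) 0 (Dual.inD R R'))
    (b : ℤ) (hEb : DRing.VanishesAbove E b) (hEp : DRing.TermwiseFiniteProjective E)
    (K : Dual.D R) (n : ℤ) [DerivedCategory.IsGE K n] :
    IsIso (bc (algebraMap R R') E adjρ K) := by
  obtain ⟨N, f, hN, -, hf, -⟩ := exists_kf_resolution (Q.objPreimage K)
  haveI := hf
  haveI : IsIso (Q.map f) := (isIso_Q_map_iff_quasiIso (C := ModuleCat.{u} R) f).2 inferInstance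
  let e : Q.obj N ≅ K := asIso (Q.map f) ≪≫ Q.objObjPreimageIso K
  haveI : DerivedCategory.IsGE (Q.obj N) n := TStructure.t.isGE_of_iso e.symm n
  haveI : N.IsGE n := (isGE_Q_obj_iff N n).1 inferInstance
  have hQN : IsIso (bc (algebraMap R R') E adjρ (Q.obj N)) := by
    have h1 : IsIso (TrivBCH6.cmpL (algebraMap R R') adjρ N) :=
      isIso_cmpL_of_kf (algebraMap R R') adjρ N hN
    have h4 : IsIso (TrivBCH6.cmpL (algebraMap R R') adjρ (DRing.homCx E N) ≫
        Q.map (TrivBCH6.kappa (algebraMap R R') E N)) :=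
      isIso_Psi adjρ E d hd b hEb hEp N hN n
    rw [← bc_formula] at h4
    have hx : IsIso (L.map ((homRIso E).inv.app N)) := by
      have : IsIso ((homRIso E).inv.app N) := ⟨(homRIso E).hom.app N,
        (homRIso E).inv_hom_id_app N, (homRIso E).hom_inv_id_app N⟩
      infer_instance
    have hy : IsIso ((homR ((DTen.extCx (algebraMap R R')).obj E)).map
        (TrivBCH6.cmpL (algebraMap R R') adjρ N)) := by
      haveI := h1
      infer_instance
    have hz : IsIso ((homRIso ((DTen.extCx (algebraMap R R')).obj E)).hom.app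
        ((DTen.extCx (algebraMap R R')).obj N)) :=
      ⟨(homRIso ((DTen.extCx (algebraMap R R')).obj E)).inv.app _,
        (homRIso ((DTen.extCx (algebraMap R R')).obj E)).hom_inv_id_app _,
        (homRIso ((DTen.extCx (algebraMap R R')).obj E)).inv_hom_id_app _⟩
    exact isIso_mid_of_isIso _ _ _ _ hx hy hz h4
  have hn := bc_naturality (algebraMap R R') E adjρ e.hom
  have : bc (algebraMap R R') E adjρ K = inv (L.map ((homR E).map e.hom)) ≫
      bc (algebraMap R R') E adjρ (Q.obj N) ≫
      (homR ((DTen.extCx (algebraMap R R')).obj E)).map (L.map e.hom) := by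
    rw [← hn, IsIso.inv_hom_id_assoc]
  rw [this]
  haveI := hQN
  infer_instance

end BC

section BcMap

variable {R A R' A' : Type u} [CommRing R] [CommRing A] [CommRing R'] [CommRing A']
  [Algebra R A] [Algebra R R'] [Algebra A A'] [Algebra R' A'] [Algebra R A']
  [IsScalarTower R A A'] [IsScalarTower R R' A']
  (h : (algebraMap A A').comp (algebraMap R A) = (algebraMap R' A').comp (algebraMap R R'))
  [DRing.HasLBaseChange (algebraMap R R')] [DRing.HasLBaseChange (algebraMap A A')]
  (adjρ : DRing.LBaseChange (algebraMap R R') ⊣ DRing.restrictD (algebraMap R R'))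
  (adjα : DRing.LBaseChange (algebraMap A A') ⊣ DRing.restrictD (algebraMap A A'))
  (E : DRing.Cx R) [E.IsKProjective] (π : E ⟶ A0 R A)
  (π' : (DTen.extCx (algebraMap R R')).obj E ⟶ A0 R' A')
  (hC : (DTen.unitCx (algebraMap R R')).app E ≫ (DTen.resCx (algebraMap R R')).map π' =
    π ≫ iota (R := R) (A := A) (R' := R') (A' := A'))
  [QuasiIso π] [QuasiIso π']
  {Rφ : Dual.D R ⥤ Dual.D A} (adj : DRing.restrictD (algebraMap R A) ⊣ Rφ)
  {Rφ' : Dual.D R' ⥤ Dual.D A'} (adj' : DRing.restrictD (algebraMap R' A') ⊣ Rφ')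

include hC in
/-- **the base change map of trivial duality is an isomorphism at `K`** as soon as `bc` is an
isomorphism at `K` (pointwise form of `isIso_bcMap_of_bc`) -/
theorem isIso_bcMap_of_bc_at (K : Dual.D R)
    (hbc : IsIso (bc (algebraMap R R') E adjρ K))
    (hc : IsIso (TrivBC.cmp adjρ adjα h (Rφ.obj K))) :
    IsIso (TrivBC.bcMap adjρ adjα h adj adj' K hc) := by
  haveI := hc
  unfold TrivBC.bcMap
  apply isIso_homEquiv_of_isIso_act ((DTen.extCx (algebraMap R R')).obj E) π' adj'
  have key : TrivBC.cmp adjρ adjα h (Rφ.obj K) ≫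
      ((actHatD ((DTen.extCx (algebraMap R R')).obj E) π').app
          ((DRing.LBaseChange (algebraMap A A')).obj (Rφ.obj K)) ≫
        (homR ((DTen.extCx (algebraMap R R')).obj E)).map
          (inv (TrivBC.cmp adjρ adjα h (Rφ.obj K)) ≫
            (DRing.LBaseChange (algebraMap R R')).map (adj.counit.app K))) =
      (DRing.LBaseChange (algebraMap R R')).map (upsilon E π adj K) ≫
        bc (algebraMap R R') E adjρ K := by
    have h1 := bc_act h adjρ adjα E π π' hC (Rφ.obj K)
    have h2 := bc_naturality (algebraMap R R') E adjρ (adj.counit.app K)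
    dsimp only [Functor.comp_obj, Functor.id_obj] at h2
    rw [← Category.assoc, ← h1]
    simp only [Category.assoc]
    rw [← Functor.map_comp, IsIso.hom_inv_id_assoc, ← h2, ← Functor.map_comp_assoc]
    rfl
  haveI := isIso_upsilon E π adj K
  haveI := hbc
  haveI : IsIso (TrivBC.cmp adjρ adjα h (Rφ.obj K) ≫
      ((actHatD ((DTen.extCx (algebraMap R R')).obj E) π').app
          ((DRing.LBaseChange (algebraMap A A')).obj (Rφ.obj K)) ≫
        (homR ((DTen.extCx (algebraMap R R')).obj E)).map
          (inv (TrivBC.cmp adjρ adjα h (Rφ.obj K)) ≫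
            (DRing.LBaseChange (algebraMap R R')).map (adj.counit.app K)))) := by
    rw [key]
    infer_instance
  exact IsIso.of_isIso_comp_left (TrivBC.cmp adjρ adjα h (Rφ.obj K)) _

end BcMap

section Main

/-- **S13550** -/
theorem main13550 (R A R' A' : Type u) [CommRing R] [CommRing A] [CommRing R'] [CommRing A']
    [Algebra R A] [Algebra R R'] [Algebra A A'] [Algebra R' A'] [Algebra R A']
    [IsScalarTower R A A'] [IsScalarTower R R' A'] [Algebra.IsPushout R A R' A']
    (hpc : DRing.IsPseudoCoherentModule' R A)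
    (hfd : DRing.HasFiniteTorDim R R')
    (htor : ∀ p : ℕ, 1 ≤ p → Subsingleton (DRing.Tor R p A R'))
    [DRing.HasLBaseChange (algebraMap R R')] [DRing.HasLBaseChange (algebraMap A A')]
    (adjρ : DRing.LBaseChange (algebraMap R R') ⊣ DRing.restrictD (algebraMap R R'))
    (adjα : DRing.LBaseChange (algebraMap A A') ⊣ DRing.restrictD (algebraMap A A'))
    (h : (algebraMap A A').comp (algebraMap R A) = (algebraMap R' A').comp (algebraMap R R'))
    (Rφ : Dual.D R ⥤ Dual.D A) (adj : DRing.restrictD (algebraMap R A) ⊣ Rφ)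
    (Rφ' : Dual.D R' ⥤ Dual.D A') (adj' : DRing.restrictD (algebraMap R' A') ⊣ Rφ')
    (K : Dual.D R) (n : ℤ) [K.IsGE n] (hc : IsIso (TrivBC.cmp adjρ adjα h (Rφ.obj K))) :
    IsIso (TrivBC.bcMap adjρ adjα h adj adj' K hc) := by
  haveI : Algebra.IsPushout R R' A A' := Algebra.IsPushout.symm inferInstance
  obtain ⟨E, b, hEb, hEff, ⟨e0⟩⟩ := hpc
  have hEp : DRing.TermwiseFiniteProjective E := fun i => by
    haveI := (hEff i).2
    exact ⟨(hEff i).1, inferInstance⟩
  haveI : E.IsStrictlyLE b := by
    rw [CochainComplex.isStrictlyLE_iff]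
    exact fun i hi => hEb i hi
  haveI : ∀ i, Projective (E.X i) := fun i => by
    haveI := (hEp i).2
    infer_instance
  haveI : E.IsKProjective := CochainComplex.isKProjective_of_projective E b
  let e' : (Q.obj E : Dual.D R) ≅ Q.obj (A0 R A) :=
    e0 ≪≫ (DerivedCategory.singleFunctorIsoCompQ (ModuleCat.{u} R) 0).app (ModuleCat.of R A)
  obtain ⟨π, hπ, -⟩ := Groth.Agent.PerfectCx.exists_quasiIso_of_iso E (A0 R A) e'
  haveI := hπ
  have hEkf : KF R E := kf_of_vanishesAbove E b hEb (fun i => by
    haveI := (hEp i).2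
    exact Module.Flat.of_projective)
  have hTI : TorIndepCx (algebraMap R A) (algebraMap R R') := torIndepCx_of_tor R A R' htor
  haveI : QuasiIso ((DTen.extCx (algebraMap R R')).map π) :=
    quasiIso_ext_of_torIndepCx h adjρ adjα hTI E hEkf π
  haveI : QuasiIso (piPrime (R' := R') (A' := A') E π) := by
    unfold piPrime
    infer_instance
  obtain ⟨d, hd⟩ := hfd
  have hd' : DRing.HasTorAmplitudeIn R (-(d : ℤ)) 0 (Dual.inD R R') :=
    (hasTorDimLE_iff R' d).1 hd
  haveI : DerivedCategory.IsGE K n := ‹K.IsGE n›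
  have hbc : IsIso (bc (algebraMap R R') E adjρ K) :=
    isIso_bc_of_pc adjρ E d hd' b hEb hEp K n
  exact isIso_bcMap_of_bc_at h adjρ adjα E π (piPrime E π) (piPrime_hC E π) adj adj' K hbc hc

end Main

end Groth.Agent.Lib.PcBCH6
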