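import Mathlib
import Groth.Prelude.Def_DRing2
import Groth.Prelude.Def_DDual2
import Groth.Agent.Lib.PcLift3_helper6
import Groth.Agent.Lib.GabberProj_lead

/-!
# The class of finite projective modules and lifting along a henselian pair (helper6)
-/

set_option autoImplicit false
universe u
open CategoryTheory CategoryTheory.Limits TensorProduct

namespace Groth.Agent.Lib.PcLift_helper6

open DRing Groth.Agent.Lib.DMod_helper6 Groth.Agent.ExtendScalarsLib

section fp

variable {R : Type u} [CommRing R]

/-- the class of finite projective modules -/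
def fpClass (R : Type u) [CommRing R] : ObjectProperty (ModuleCat.{u} R) :=
  fun X => Module.Finite R X ∧ Module.Projective R X

instance : (fpClass R).IsClosedUnderIsomorphisms where
  of_iso e h := by
    haveI := h.1
    haveI := h.2
    exact ⟨Module.Finite.equiv e.toLinearEquiv, Module.Projective.of_equiv e.toLinearEquiv⟩

theorem fp_h1 (X : ModuleCat.{u} R) (hX : fpClass R X) : Module.Projective R X := hX.2

theorem fp_h2 (X Y : ModuleCat.{u} R) (hX : fpClass R X) :
    fpClass R (ModuleCat.of R (X × Y)) ↔ fpClass R Y := by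
  haveI := hX.1
  haveI := hX.2
  constructor
  · rintro ⟨hf, hs⟩
    haveI : Module.Finite R (X × Y) := hf
    haveI : Module.Projective R (X × Y) := hs
    exact ⟨Module.Finite.of_surjective (LinearMap.snd R X Y) LinearMap.snd_surjective,
      Module.Projective.of_split (LinearMap.inr R X Y) (LinearMap.snd R X Y)
        (LinearMap.ext fun _ => rfl)⟩
  · rintro ⟨hf, hs⟩
    haveI := hf
    haveI := hs
    exact ⟨inferInstanceAs (Module.Finite R (X × Y)),
      inferInstanceAs (Module.Projective R (X × Y))⟩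

variable (I : Ideal R) (hI : I ≤ Ideal.jacobson (⊥ : Ideal R))

include hI in
theorem fp_h3 (X Y : ModuleCat.{u} R) (f : X ⟶ Y) (_ : fpClass R X) (hY : fpClass R Y)
    (h : LinearMap.range f.hom ⊔ I • (⊤ : Submodule R Y) = ⊤) : Function.Surjective f.hom := by
  haveI := hY.1
  rw [← LinearMap.range_eq_top, eq_top_iff]
  exact Submodule.le_of_le_smul_of_le_jacobson_bot Module.Finite.fg_top hI h.ge

theorem fp_pi (ι : Type u) [Fintype ι] : fpClass R (ModuleCat.of R (ι → R)) :=
  ⟨inferInstanceAs (Module.Finite R (ι → R)),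
    inferInstanceAs (Module.Projective R (ι → R))⟩

include hI in
/-- a finite projective module which is free modulo `I` is free. -/
theorem free_of_tensor_free_fp (X : ModuleCat.{u} R) (hX : fpClass R X)
    (hfree : Module.Free (R ⧸ I) ((R ⧸ I) ⊗[R] X)) : Module.Free R X := by
  classical
  haveI := hX.1
  let ι := Module.Free.ChooseBasisIndex (R ⧸ I) ((R ⧸ I) ⊗[R] X)
  let b : ((R ⧸ I) ⊗[R] X) ≃ₗ[R ⧸ I] (ι → R ⧸ I) :=
    (Module.Free.chooseBasis (R ⧸ I) ((R ⧸ I) ⊗[R] X)).equivFun
  let ε : (R ⧸ I) ⊗[R] (ι → R) ≃ₗ[R ⧸ I] (R ⧸ I) ⊗[R] X :=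
    (TensorProduct.piScalarRight R (R ⧸ I) (R ⧸ I) ι).trans b.symm
  obtain ⟨g⟩ := nonempty_linearEquiv_of_tensor I (fpClass R) fp_h1
    (fun A B hA => (fp_h2 A B hA).1) (fp_h3 I hI) (ModuleCat.of R (ι → R)) X (fp_pi ι) hX ε
  exact Module.Free.of_equiv g

end fp

end Groth.Agent.Lib.PcLift_helper6
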