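import Mathlib
import Groth.Agent.Lib.DimTheory_helper5
import Groth.Prelude.Def_CycAlg

/-!
# Periodic complex `(M/φψM, φ, ψ)` for a one-dimensional module (helper5)
-/

universe u v

namespace Groth.Agent.PerDim1

open IsLocalRing

section Artinian

variable {A : Type u} [CommRing A] [IsNoetherianRing A] {M : Type v} [AddCommGroup M] [Module A M]
  [Module.Finite A M]

/-- annihilator elements kill the localized module -/
theorem algebraMap_mem_annihilator (p : Ideal A) [p.IsPrime] (x : A)
    (hx : x ∈ Module.annihilator A M) :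
    algebraMap A (Localization.AtPrime p) x ∈
      Module.annihilator (Localization.AtPrime p) (LocalizedModule p.primeCompl M) := by
  rw [Module.mem_annihilator]
  intro y
  induction y using LocalizedModule.induction_on with
  | h m s =>
    rw [algebraMap_smul, LocalizedModule.smul'_mk, Module.mem_annihilator.1 hx m,
      LocalizedModule.zero_mk]

/-- if `p` is minimal in the support of `M`, then `M_p` is Artinian over `A_p` -/
theorem isArtinian_localizedModule (p : PrimeSpectrum A)
    (hmin : ∀ q ∈ Module.support A M, q ≤ p → q = p) :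
    IsArtinian (Localization.AtPrime p.asIdeal) (LocalizedModule p.asIdeal.primeCompl M) := by
  have hfl : IsFiniteLength (Localization.AtPrime p.asIdeal)
      (LocalizedModule p.asIdeal.primeCompl M) := by
    apply Groth.Agent.DimLib.isFiniteLength_of_support_isMaximal
    intro q' hq'
    have hle := Module.annihilator_le_of_mem_support hq'
    let q : PrimeSpectrum A := PrimeSpectrum.comap (algebraMap A (Localization.AtPrime p.asIdeal)) q'
    have hqM : q ∈ Module.support A M := by
      rw [Module.mem_support_iff_of_finite]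
      intro x hx
      exact hle (algebraMap_mem_annihilator p.asIdeal x hx)
    have hqp : q ≤ p := by
      rw [← PrimeSpectrum.asIdeal_le_asIdeal]
      have h1 : q'.asIdeal ≤ maximalIdeal (Localization.AtPrime p.asIdeal) :=
        IsLocalRing.le_maximalIdeal q'.2.ne_top
      have h2 := Ideal.comap_mono (f := algebraMap A (Localization.AtPrime p.asIdeal)) h1
      have h3 : (maximalIdeal (Localization.AtPrime p.asIdeal)).comap
          (algebraMap A (Localization.AtPrime p.asIdeal)) = p.asIdeal :=
        Localization.AtPrime.under_maximalIdeal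
      rw [h3] at h2
      exact h2
    have hq := hmin q hqM hqp
    have h4 : q'.asIdeal.under A = p.asIdeal := congrArg PrimeSpectrum.asIdeal hq
    rw [Localization.AtPrime.eq_maximalIdeal_iff_under_eq.1 h4]
    infer_instance
  exact (isFiniteLength_iff_isNoetherian_isArtinian.1 hfl).2

/-- if `M_p` is Artinian and `θ` is injective then `p ∉ Supp (M/θM)` -/
theorem not_mem_support_quotient (p : PrimeSpectrum A)
    [IsArtinian (Localization.AtPrime p.asIdeal) (LocalizedModule p.asIdeal.primeCompl M)]
    (θ : M →ₗ[A] M) (hθ : Function.Injective θ) :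
    p ∉ Module.support A (M ⧸ LinearMap.range θ) := by
  rw [Module.notMem_support_iff']
  intro x
  obtain ⟨m, rfl⟩ := Submodule.mkQ_surjective _ x
  have hinj : Function.Injective (LocalizedModule.map p.asIdeal.primeCompl θ) :=
    IsLocalizedModule.map_injective p.asIdeal.primeCompl
      (LocalizedModule.mkLinearMap p.asIdeal.primeCompl M)
      (LocalizedModule.mkLinearMap p.asIdeal.primeCompl M) θ hθ
  have hsurj := IsArtinian.surjective_of_injective_endomorphism
    (LocalizedModule.map p.asIdeal.primeCompl θ) hinj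
  obtain ⟨y, hy⟩ := hsurj (LocalizedModule.mk m 1)
  induction y using LocalizedModule.induction_on with
  | h m' s' =>
    rw [LocalizedModule.map_mk, LocalizedModule.mk_eq] at hy
    obtain ⟨u, hu⟩ := hy
    refine ⟨(u : A) * (s' : A), ?_, ?_⟩
    · exact (u * s').2
    · rw [← map_smul, Submodule.mkQ_apply, Submodule.Quotient.mk_eq_zero, LinearMap.mem_range]
      refine ⟨(u : A) • m', ?_⟩
      rw [map_smul, mul_smul]
      have h5 : (u : A) • (s' : A) • m = (u : A) • ((1 : p.asIdeal.primeCompl) : A) • θ m' :=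
        hu.symm
      rw [h5, Submonoid.coe_one, one_smul]

end Artinian

section Local

variable {A : Type u} [CommRing A] [IsNoetherianRing A] [IsLocalRing A] {M : Type v}
  [AddCommGroup M] [Module A M] [Module.Finite A M]

/-- In a module of dimension `≤ 1` over a local ring, non-maximal primes of the support are
minimal in the support. -/
theorem minimal_of_not_isMaximal (hdim : Module.supportDim A M ≤ 1) (p : PrimeSpectrum A)
    (hpM : p ∈ Module.support A M) (hpmax : ¬ p.asIdeal.IsMaximal) :
    ∀ q ∈ Module.support A M, q ≤ p → q = p := by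
  intro q hq hqp
  by_contra hne
  have hlt : q < p := lt_of_le_of_ne hqp hne
  have hpm : p ≤ closedPoint A := by
    rw [← PrimeSpectrum.asIdeal_le_asIdeal]
    exact IsLocalRing.le_maximalIdeal p.2.ne_top
  have hpm' : p < closedPoint A := by
    refine lt_of_le_of_ne hpm ?_
    intro h
    apply hpmax
    rw [h]
    exact maximalIdeal.isMaximal A
  have hm : closedPoint A ∈ Module.support A M := Module.mem_support_mono hpm hpM
  let Q' : Module.support A M := ⟨q, hq⟩
  let P' : Module.support A M := ⟨p, hpM⟩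
  let M' : Module.support A M := ⟨closedPoint A, hm⟩
  have h1 : Q' < P' := hlt
  have h2 : P' < M' := hpm'
  have h3 := Order.height_add_one_le h1
  have h4 := Order.height_add_one_le h2
  have h5 : (Order.height M' : WithBot ℕ∞) ≤ Order.krullDim (Module.support A M) :=
    Order.height_le_krullDim M'
  have h6 : (Order.height M' : WithBot ℕ∞) ≤ ((1 : ℕ∞) : WithBot ℕ∞) := h5.trans hdim
  rw [WithBot.coe_le_coe] at h6
  have h7 : (0 : ℕ∞) + 1 + 1 ≤ Order.height M' :=
    le_trans (add_le_add_left (le_trans (add_le_add_left (zero_le (a := Order.height Q')) 1) h3) 1) h4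
  have h8 := le_trans h7 h6
  revert h8
  decide

/-- `length (M/θM) < ∞` for `θ` injective and `dim M ≤ 1`. -/
theorem length_quot_lt_top (hdim : Module.supportDim A M ≤ 1) (θ : M →ₗ[A] M)
    (hθ : Function.Injective θ) : Module.length A (M ⧸ LinearMap.range θ) < ⊤ := by
  rw [lt_top_iff_ne_top, Module.length_ne_top_iff]
  apply Groth.Agent.DimLib.isFiniteLength_of_support_isMaximal
  intro p hp
  by_contra hpmax
  have hpM : p ∈ Module.support A M :=
    Module.support_subset_of_surjective _ (Submodule.mkQ_surjective _) hp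
  have hmin := minimal_of_not_isMaximal hdim p hpM hpmax
  haveI := isArtinian_localizedModule p hmin
  exact not_mem_support_quotient p θ hθ hp

end Local

section Periodic

variable {A : Type u} [CommRing A] {M : Type v} [AddCommGroup M] [Module A M]

theorem periodic (φ ψ : M →ₗ[A] M) (hφ : Function.Injective φ) (hψ : Function.Injective ψ)
    (hcomm : Submodule.map φ (LinearMap.range ψ) = Submodule.map ψ (LinearMap.range φ))
    (φ' ψ' : (M ⧸ LinearMap.range (φ ∘ₗ ψ)) →ₗ[A] (M ⧸ LinearMap.range (φ ∘ₗ ψ)))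
    (hφ' : φ' ∘ₗ (LinearMap.range (φ ∘ₗ ψ)).mkQ = (LinearMap.range (φ ∘ₗ ψ)).mkQ ∘ₗ φ)
    (hψ' : ψ' ∘ₗ (LinearMap.range (φ ∘ₗ ψ)).mkQ = (LinearMap.range (φ ∘ₗ ψ)).mkQ ∘ₗ ψ) :
    CycAlg.IsPeriodic φ' ψ' ∧ Subsingleton (CycAlg.perH φ' ψ') ∧
      Subsingleton (CycAlg.perH ψ' φ') := by
  have e1 : ∀ m, φ' ((LinearMap.range (φ ∘ₗ ψ)).mkQ m) = (LinearMap.range (φ ∘ₗ ψ)).mkQ (φ m) :=
    fun m => LinearMap.congr_fun hφ' m
  have e2 : ∀ m, ψ' ((LinearMap.range (φ ∘ₗ ψ)).mkQ m) = (LinearMap.range (φ ∘ₗ ψ)).mkQ (ψ m) :=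
    fun m => LinearMap.congr_fun hψ' m
  have hK1 : LinearMap.range (φ ∘ₗ ψ) = Submodule.map φ (LinearMap.range ψ) :=
    LinearMap.range_comp ψ φ
  have hK2 : LinearMap.range (φ ∘ₗ ψ) = Submodule.map ψ (LinearMap.range φ) := hK1.trans hcomm
  have z : ∀ m, (LinearMap.range (φ ∘ₗ ψ)).mkQ m = 0 ↔ m ∈ LinearMap.range (φ ∘ₗ ψ) := by
    intro m
    rw [Submodule.mkQ_apply, Submodule.Quotient.mk_eq_zero]
  refine ⟨⟨?_, ?_⟩, ?_, ?_⟩
  · apply LinearMap.ext
    intro x
    obtain ⟨m, rfl⟩ := Submodule.mkQ_surjective _ x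
    rw [LinearMap.comp_apply, e2, e1, LinearMap.zero_apply, z]
    exact ⟨m, rfl⟩
  · apply LinearMap.ext
    intro x
    obtain ⟨m, rfl⟩ := Submodule.mkQ_surjective _ x
    rw [LinearMap.comp_apply, e1, e2, LinearMap.zero_apply, z, hK2]
    exact ⟨φ m, ⟨m, rfl⟩, rfl⟩
  · rw [Submodule.Quotient.subsingleton_iff, Submodule.submoduleOf_eq_top]
    intro x hx
    obtain ⟨m, rfl⟩ := Submodule.mkQ_surjective _ x
    rw [LinearMap.mem_ker, e1, z, hK1] at hx
    obtain ⟨y, ⟨n, rfl⟩, hy⟩ := hx
    have : ψ n = m := hφ hy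
    refine ⟨(LinearMap.range (φ ∘ₗ ψ)).mkQ n, ?_⟩
    rw [e2, this]
  · rw [Submodule.Quotient.subsingleton_iff, Submodule.submoduleOf_eq_top]
    intro x hx
    obtain ⟨m, rfl⟩ := Submodule.mkQ_surjective _ x
    rw [LinearMap.mem_ker, e2, z, hK2] at hx
    obtain ⟨y, ⟨n, rfl⟩, hy⟩ := hx
    have : φ n = m := hψ hy
    refine ⟨(LinearMap.range (φ ∘ₗ ψ)).mkQ n, ?_⟩
    rw [e1, this]

end Periodic

end Groth.Agent.PerDim1
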