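import Mathlib
import Groth.Agent.Lib.UnivHomeo11_helper6
import Groth.Agent.Lib.UnivHomeo16_helper6
import Groth.Agent.Lib.UnivHomeo18_helper6
import Groth.Agent.S8992
set_option autoImplicit false
universe u

namespace Groth.Agent.Lib.UnivHomeo

section Perf

open AlgebraicGeometry CategoryTheory

theorem isRingAWN_of_ringEquiv {A B W : Type u} [CommRing A] [CommRing B] [CommRing W]
    (φ : A →+* W) (hφ : HTop.IsRingAWN φ) (ψ : A →+* B)
    (hψ : FlatMor.IsUnivHomeo (Spec.map (CommRingCat.ofHom ψ))) (e : B ≃+* W)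
    (he : (e : B →+* W).comp ψ = φ) : HTop.IsRingAWN ψ := by
  refine ⟨hψ, ?_⟩
  intro C _ ψ' hψ'
  obtain ⟨χ', hχ', hu⟩ := hφ.2 C ψ' hψ'
  refine ⟨(e.symm : W →+* B).comp χ', ?_, ?_⟩
  · ext a
    have h1 : χ' (ψ' a) = φ a := congr($hχ' a)
    have h2 : e (ψ a) = φ a := congr($he a)
    simp only [RingHom.comp_apply, RingHom.coe_coe]
    rw [h1, ← h2, e.symm_apply_apply]
  · intro θ hθ
    have h := hu ((e : B →+* W).comp θ) (by
      change ((e : B →+* W).comp θ).comp ψ' = φ
      rw [RingHom.comp_assoc, hθ, he])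
    ext c
    have h1 : e (θ c) = χ' c := congr($h c)
    simp only [RingHom.comp_apply, RingHom.coe_coe]
    rw [← h1, e.symm_apply_apply]

variable (p : ℕ) [Fact p.Prime] (A : Type u) [CommRing A] [CharP A p]

theorem isUnivHomeo_perfectClosure_of :
    FlatMor.IsUnivHomeo (Spec.map (CommRingCat.ofHom (PerfectClosure.of A p))) := by
  have hp : p.Prime := Fact.out
  have hpA : (p : A) = 0 := CharP.cast_eq_zero A p
  have hpP : (p : PerfectClosure A p) = 0 := CharP.cast_eq_zero _ p
  letI := (PerfectClosure.of A p).toAlgebra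
  refine (structure_p (PerfectClosure.of A p) p hp ?_).mpr ⟨?_, ?_⟩
  · haveI : Subsingleton (Localization.Away (p : A)) :=
      IsLocalization.subsingleton (M := Submonoid.powers (p : A)) ⟨1, by simp [hpA]⟩
    haveI : Subsingleton (Localization.Away (PerfectClosure.of A p (p : A))) :=
      IsLocalization.subsingleton (M := Submonoid.powers (PerfectClosure.of A p (p : A)))
        ⟨1, by simp [hpA]⟩
    exact ⟨fun _ _ _ => Subsingleton.elim _ _, fun y => ⟨0, Subsingleton.elim _ _⟩⟩
  · intro a ha
    have h0 : PerfectClosure.mk A p (0, a) = PerfectClosure.mk A p (0, 0) := by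
      rw [← PerfectClosure.of_apply, RingHom.mem_ker.mp ha, PerfectClosure.zero_def]
    obtain ⟨z, hz⟩ := (PerfectClosure.mk_eq_iff A p _ _).mp h0
    simp only [zero_add, iterate_frobenius] at hz
    rw [zero_pow (pow_pos hp.pos z).ne'] at hz
    exact ⟨p ^ z, hz⟩
  · intro b
    induction b using PerfectClosure.induction_on with
    | _ x =>
      obtain ⟨n, x⟩ := x
      refine ⟨n + 1, ?_, ?_⟩
      · have : (p ^ (n + 1) : PerfectClosure A p) = 0 := by
          rw [hpP, zero_pow (Nat.succ_ne_zero n)]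
        rw [this, zero_mul]
        exact zero_mem _
      · refine ⟨x ^ p, ?_⟩
        rw [PerfectClosure.mk_pow, PerfectClosure.of_apply, PerfectClosure.mk_eq_iff]
        refine ⟨0, ?_⟩
        simp only [add_zero, Function.iterate_zero, id_eq, iterate_frobenius]
        rw [← pow_mul, pow_succ, pow_zero, pow_one, mul_comm]

theorem isRingAWN_perfectClosure_of : HTop.IsRingAWN (PerfectClosure.of A p) := by
  have h1 := isUnivHomeo_perfectClosure_of p A
  have hφ₀ := isRingAWN_awn A
  obtain ⟨χ, hχ, -⟩ := hφ₀.2 (PerfectClosure A p) (PerfectClosure.of A p) h1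
  have hAWN : HTop.IsAWNRing (PerfectClosure A p) := by
    letI : Algebra (ZMod p) (PerfectClosure A p) := ZMod.algebra _ p
    exact (Groth.Agent.S8992.result p (PerfectClosure A p)).mpr inferInstance
  have hbij : Function.Bijective χ :=
    (awn_comparison (algebraMap A (awn A)) hφ₀ (PerfectClosure.of A p) h1 χ hχ).mpr hAWN
  exact isRingAWN_of_ringEquiv (algebraMap A (awn A)) hφ₀ (PerfectClosure.of A p) h1
    (RingEquiv.ofBijective χ hbij) hχ

end Perf

end Groth.Agent.Lib.UnivHomeo
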