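import Mathlib
import Groth.Agent.Lib.UnivHomeo4_helper6
import Groth.Prelude.Def_Frob
set_option autoImplicit false
universe u

namespace Groth.Agent.Lib.UnivHomeo

section Frob

open AlgebraicGeometry CategoryTheory MorphismProperty Polynomial

variable (p : ℕ) [Fact p.Prime] (X : Scheme.{u}) [FrobSch.IsCharP X p]

instance isIntegralHom_frob : IsIntegralHom (FrobSch.frob X p) where
  isAffine_preimage U hU := hU
  isIntegral_app U hU := by
    have hp : p.Prime := Fact.out
    intro t
    let t' : Γ(X, U) := t
    refine ⟨(Polynomial.X ^ p - C t' : Polynomial Γ(X, U)), monic_X_pow_sub_C t' hp.ne_zero, ?_⟩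
    rw [eval₂_sub, eval₂_pow, eval₂_X, eval₂_C]
    exact sub_self _

theorem frob_stalkMap_apply (x : X) (t : X.presheaf.stalk x) :
    (FrobSch.frob X p).stalkMap x t = t ^ p := by
  obtain ⟨U, hxU, s, rfl⟩ := X.presheaf.exists_germ_eq (x := x) t
  have h := Scheme.Hom.germ_stalkMap_apply (FrobSch.frob X p) U x hxU s
  rw [← map_pow]
  exact h

theorem frob_residueFieldMap_apply (x : X) (y : X.residueField x) :
    (FrobSch.frob X p).residueFieldMap x y = y ^ p := by
  obtain ⟨t, rfl⟩ : ∃ t, X.residue x t = y := IsLocalRing.residue_surjective y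
  have h := congr($(Scheme.residue_residueFieldMap (FrobSch.frob X p) x) t)
  simp only [CommRingCat.comp_apply] at h
  rw [frob_stalkMap_apply, map_pow] at h
  exact h

theorem frob_residueFieldMap_isPurelyInseparable (x : X) :
    ((FrobSch.frob X p).residueFieldMap x).hom.IsPurelyInseparable := by
  have hp : p.Prime := Fact.out
  have hp0 : (p : X.residueField x) = 0 := by
    have h0 : (p : Γ(X, ⊤)) = 0 := FrobSch.IsCharP.natCast_eq_zero
    have := congrArg (fun s => X.residue x (X.presheaf.germ ⊤ x trivial s)) h0
    simpa using this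
  haveI : CharP (X.residueField x) p := (CharP.charP_iff_prime_eq_zero hp).mpr hp0
  change @IsPurelyInseparable (X.residueField x) (X.residueField x) _ _
    ((FrobSch.frob X p).residueFieldMap x).hom.toAlgebra
  letI : Algebra (X.residueField x) (X.residueField x) :=
    ((FrobSch.frob X p).residueFieldMap x).hom.toAlgebra
  rw [isPurelyInseparable_iff_pow_mem (X.residueField x) p]
  intro y
  refine ⟨1, y, ?_⟩
  rw [pow_one]
  exact frob_residueFieldMap_apply p X x y

theorem frob_isUnivHomeo : FlatMor.IsUnivHomeo (FrobSch.frob X p) := by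
  rw [isUnivHomeo_iff_isIntegralHom]
  have hsurj : Function.Surjective (FrobSch.frob X p) := fun x => ⟨x, rfl⟩
  refine ⟨inferInstance, ?_, ⟨hsurj⟩⟩
  have htfae := (tfae_universallyInjective (FrobSch.frob X p)).out 0 2
  refine htfae.mpr ⟨?_, ?_⟩
  · intro x y h
    exact h
  · exact frob_residueFieldMap_isPurelyInseparable p X

end Frob

section RelFrob

open AlgebraicGeometry CategoryTheory MorphismProperty Limits

/-- Cancellation for universal injectivity. -/
theorem universallyInjective_of_comp {X Y Z : Scheme.{u}} (g : X ⟶ Y) (π : Y ⟶ Z)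
    [UniversallyInjective (g ≫ π)] : UniversallyInjective g := by
  have h0 : UniversallyInjective (g ≫ π) := inferInstance
  have h := ((tfae_universallyInjective (g ≫ π)).out 0 1).mp h0
  refine ((tfae_universallyInjective g).out 0 1).mpr ?_
  intro K _ a b hab
  apply h K
  dsimp only at hab ⊢
  rw [← Category.assoc, ← Category.assoc, hab]

variable (p : ℕ) [Fact p.Prime] {X S : Scheme.{u}} [FrobSch.IsCharP S p] (f : X ⟶ S)

theorem relFrob_facts :
    FlatMor.IsUnivHomeo (FrobSch.relFrob f p) ∧ IsIntegralHom (FrobSch.relFrob f p) ∧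
      ∀ x : X, ((FrobSch.relFrob f p).residueFieldMap x).hom.IsPurelyInseparable := by
  haveI : FrobSch.IsCharP X p := FrobSch.IsCharP.of_hom f p
  have hfst : FrobSch.relFrob f p ≫ pullback.fst f (FrobSch.frob S p) = FrobSch.frob X p :=
    FrobSch.relFrob_fst f p
  -- the projection is a base change of the Frobenius of `S`
  haveI : IsIntegralHom (pullback.fst f (FrobSch.frob S p)) := inferInstance
  have hS := (isUnivHomeo_iff_isIntegralHom _).mp (frob_isUnivHomeo p S)
  haveI : UniversallyInjective (FrobSch.frob S p) := hS.2.1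
  haveI : UniversallyInjective (pullback.fst f (FrobSch.frob S p)) :=
    MorphismProperty.pullback_fst (P := @UniversallyInjective) f (FrobSch.frob S p) inferInstance
  have hX := (isUnivHomeo_iff_isIntegralHom _).mp (frob_isUnivHomeo p X)
  haveI : IsIntegralHom (FrobSch.relFrob f p ≫ pullback.fst f (FrobSch.frob S p)) := by
    rw [hfst]; infer_instance
  haveI : UniversallyInjective (FrobSch.relFrob f p ≫ pullback.fst f (FrobSch.frob S p)) := by
    rw [hfst]; exact hX.2.1
  haveI h1 : IsIntegralHom (FrobSch.relFrob f p) :=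
    IsIntegralHom.of_comp (FrobSch.relFrob f p) (pullback.fst f (FrobSch.frob S p))
  haveI h2 : UniversallyInjective (FrobSch.relFrob f p) :=
    universallyInjective_of_comp (FrobSch.relFrob f p) (pullback.fst f (FrobSch.frob S p))
  have h3 : Surjective (FrobSch.relFrob f p) := by
    refine ⟨fun y => ⟨pullback.fst f (FrobSch.frob S p) y, ?_⟩⟩
    apply (pullback.fst f (FrobSch.frob S p)).injective
    change (FrobSch.relFrob f p ≫ pullback.fst f (FrobSch.frob S p))
      (pullback.fst f (FrobSch.frob S p) y) = pullback.fst f (FrobSch.frob S p) y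
    rw [hfst]
    rfl
  refine ⟨(isUnivHomeo_iff_isIntegralHom _).mpr ⟨h1, h2, h3⟩, h1, ?_⟩
  have htf := (tfae_universallyInjective (FrobSch.relFrob f p)).out 0 2
  exact (htf.mp h2).2

end RelFrob

end Groth.Agent.Lib.UnivHomeo
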