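import Mathlib
import Groth.Prelude.Def_Frob
import Groth.Agent.Lib.UnivHomeo19_helper6
import Groth.Agent.Lib.UnivHomeo22_helper6
import Groth.Agent.Lib.UnivHomeo28_helper6
set_option autoImplicit false
universe u

namespace Groth.Agent.Lib.Perf

open AlgebraicGeometry CategoryTheory Limits FrobSch Groth.Agent.Lib.UnivHomeo

variable (p : ℕ) [Fact p.Prime]

/-- Ring-level perfection, including the zero ring. -/
theorem exists_ring_perfection (A : Type u) [CommRing A] (hA : (p : A) = 0) :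
    ∃ (A' : Type u) (_ : CommRing A') (i : A →+* A'),
      (p : A') = 0 ∧ Function.Bijective (fun x : A' => x ^ p) ∧
      (∀ x : A', ∃ (n : ℕ) (a : A), i a = x ^ p ^ n) ∧
      (∀ a : A, i a = 0 → IsNilpotent a) ∧
      FlatMor.IsUnivHomeo (Spec.map (CommRingCat.ofHom i)) ∧
      ∀ (L : Type u) [CommRing L], (p : L) = 0 → Function.Bijective (fun x : L => x ^ p) →
        ∀ ψ : A →+* L, ∃! ψ' : A' →+* L, ψ'.comp i = ψ := by
  have hp : p.Prime := Fact.out
  rcases subsingleton_or_nontrivial A with hS | hN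
  · refine ⟨A, inferInstance, RingHom.id A, hA,
      ⟨fun _ _ _ => Subsingleton.elim _ _, fun y => ⟨y, Subsingleton.elim _ _⟩⟩,
      fun x => ⟨0, x, by simp⟩, fun a _ => ⟨1, Subsingleton.elim _ _⟩, ?_, ?_⟩
    · have : CommRingCat.ofHom (RingHom.id A) = 𝟙 (CommRingCat.of A) := rfl
      rw [this, Spec.map_id]
      exact isUnivHomeo_of_isIso _
    · intro L _ _ _ ψ
      exact ⟨ψ, RingHom.comp_id ψ, fun ψ' h => by rw [← h, RingHom.comp_id]⟩
  · haveI : CharP A p := (CharP.charP_iff_prime_eq_zero hp).mpr hA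
    refine ⟨PerfectClosure A p, inferInstance, PerfectClosure.of A p, CharP.cast_eq_zero _ p,
      ?_, ?_, ?_, isUnivHomeo_perfectClosure_of p A, ?_⟩
    · exact bijective_frobenius (PerfectClosure A p) p
    · intro x
      obtain ⟨n, a, h⟩ := IsPRadical.pow_mem (PerfectClosure.of A p) p x
      exact ⟨n, a, h⟩
    · intro a ha
      have := IsPRadical.ker_le (PerfectClosure.of A p) p (RingHom.mem_ker.mpr ha)
      exact mem_nilradical.mp (pNilradical_le_nilradical this)
    · intro L _ hL hLb ψ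
      rcases subsingleton_or_nontrivial L with hLS | hLN
      · let z : PerfectClosure A p →+* L :=
          { toFun := fun _ => 0
            map_one' := Subsingleton.elim _ _
            map_mul' := fun _ _ => Subsingleton.elim _ _
            map_zero' := rfl
            map_add' := fun _ _ => Subsingleton.elim _ _ }
        refine ⟨z, ?_, ?_⟩
        · ext a; exact Subsingleton.elim _ _
        · intro ψ' _; ext a; exact Subsingleton.elim _ _
      · haveI : CharP L p := (CharP.charP_iff_prime_eq_zero hp).mpr hL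
        haveI : PerfectRing L p := ⟨hLb⟩
        refine ⟨PerfectRing.lift (PerfectClosure.of A p) ψ p, PerfectRing.lift_comp _ _ _, ?_⟩
        intro ψ' hψ'
        apply IsPRadical.injective_comp_of_perfect L (PerfectClosure.of A p) p
        change ψ'.comp (PerfectClosure.of A p) = (PerfectRing.lift (PerfectClosure.of A p) ψ p).comp _
        rw [hψ', PerfectRing.lift_comp]

theorem isCharP_Spec_of (R : CommRingCat.{u}) (h : (p : R) = 0) : IsCharP (Spec R) p where
  natCast_eq_zero := by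
    apply (Scheme.ΓSpecIso R).commRingCatIsoToRingEquiv.injective
    rw [map_natCast, map_zero]
    exact h

instance isCharP_opens (X : Scheme.{u}) [IsCharP X p] (U : X.Opens) :
    IsCharP (U : Scheme.{u}) p := IsCharP.of_hom U.ι p

/-- Frobenius of `Spec R` is `Spec` of the `p`-th power map. -/
theorem frob_Spec (R : CommRingCat.{u}) [IsCharP (Spec R) p] (h : (p : R) = 0) :
    frob (Spec R) p = Spec.map (CommRingCat.ofHom (powHom p R h)) := by
  apply ext_of_isAffine
  ext s
  obtain ⟨r, rfl⟩ : ∃ r, (Scheme.ΓSpecIso R).inv r = s :=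
    ⟨(Scheme.ΓSpecIso R).hom s, by simp⟩
  have h1 := congr($(Scheme.ΓSpecIso_inv_naturality (CommRingCat.ofHom (powHom p R h))) r)
  simp only [CommRingCat.comp_apply] at h1
  refine Eq.trans ?_ h1
  change ((Scheme.ΓSpecIso R).inv r) ^ p = (Scheme.ΓSpecIso R).inv (r ^ p)
  rw [map_pow]

theorem isPerfect_Spec (R : CommRingCat.{u}) [IsCharP (Spec R) p] (h : (p : R) = 0)
    (hb : Function.Bijective (fun x : R => x ^ p)) : IsPerfect (Spec R) p := by
  change IsIso (frob (Spec R) p)
  rw [frob_Spec p R h]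
  haveI : IsIso (CommRingCat.ofHom (powHom p R h)) :=
    (ConcreteCategory.isIso_iff_bijective _).mpr hb
  infer_instance

theorem bijective_pow_of_isPerfect (Y : Scheme.{u}) [IsCharP Y p] (hY : IsPerfect Y p)
    (U : Y.Opens) : Function.Bijective (fun s : Γ(Y, U) => s ^ p) := by
  haveI : IsIso (frob Y p) := hY
  have : IsIso ((frob Y p).app U) := inferInstance
  exact (ConcreteCategory.isIso_iff_bijective ((frob Y p).app U)).mp this

theorem bijective_pow_pow_of_isPerfect (Y : Scheme.{u}) [IsCharP Y p] (hY : IsPerfect Y p)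
    (U : Y.Opens) (n : ℕ) : Function.Bijective (fun s : Γ(Y, U) => s ^ p ^ n) := by
  have := (bijective_pow_of_isPerfect p Y hY U).iterate n
  rwa [pow_iterate] at this

theorem isPerfect_of_iso {Y Y' : Scheme.{u}} [IsCharP Y p] [IsCharP Y' p] (e : Y ≅ Y')
    (hY : IsPerfect Y p) : IsPerfect Y' p := by
  haveI : IsIso (frob Y p) := hY
  have h : frob Y' p = e.inv ≫ frob Y p ≫ e.hom := by
    rw [frob_comp p e.hom, Iso.inv_hom_id_assoc]
  change IsIso (frob Y' p)
  rw [h]
  infer_instance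

theorem isPerfect_opens (Y : Scheme.{u}) [IsCharP Y p] (hY : IsPerfect Y p) (V : Y.Opens) :
    IsPerfect (V : Scheme.{u}) p := by
  haveI : IsIso (frob Y p) := hY
  have h : frob (V : Scheme.{u}) p = (frob Y p) ∣_ V := by
    rw [← cancel_mono V.ι, frob_comp p V.ι]
    exact (morphismRestrict_ι (frob Y p) V).symm
  change IsIso (frob (V : Scheme.{u}) p)
  rw [h]
  have h2 : IsIso ((frob Y p) ∣_ V) := inferInstance
  exact h2

section UP

variable {XP X : Scheme.{u}} [IsCharP XP p] (π : XP ⟶ X)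

theorem IsPerfection.comp_iso (h : IsPerfection π p) {X' : Scheme.{u}} (e : X ≅ X') :
    IsPerfection (π ≫ e.hom) p := by
  refine ⟨h.1, fun Y _ hY => ?_⟩
  have hb := h.2 Y hY
  constructor
  · intro g₁ g₂ hg
    dsimp only at hg
    apply hb.1
    dsimp only
    rw [← cancel_mono e.hom, Category.assoc, Category.assoc]
    exact hg
  · intro k
    obtain ⟨g, hg⟩ := hb.2 (k ≫ e.inv)
    dsimp only at hg
    refine ⟨g, ?_⟩
    dsimp only
    rw [← Category.assoc, hg, Category.assoc, Iso.inv_hom_id, Category.comp_id]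

theorem IsPerfection.iso_comp (h : IsPerfection π p) {XP' : Scheme.{u}} [IsCharP XP' p]
    (e : XP' ≅ XP) : IsPerfection (e.hom ≫ π) p := by
  refine ⟨isPerfect_of_iso p e.symm h.1, fun Y _ hY => ?_⟩
  have hb := h.2 Y hY
  constructor
  · intro g₁ g₂ hg
    dsimp only at hg
    have := hb.1 (a₁ := g₁ ≫ e.hom) (a₂ := g₂ ≫ e.hom) (by
      dsimp only
      rw [Category.assoc, Category.assoc]
      exact hg)
    exact (cancel_mono e.hom).mp this
  · intro k
    obtain ⟨g, hg⟩ := hb.2 k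
    dsimp only at hg
    refine ⟨g ≫ e.inv, ?_⟩
    dsimp only
    rw [Category.assoc, Iso.inv_hom_id_assoc, hg]

theorem IsPerfection.exists_iso (h : IsPerfection π p) {XP' : Scheme.{u}} [IsCharP XP' p]
    (π' : XP' ⟶ X) (h' : IsPerfection π' p) : ∃ e : XP ≅ XP', e.hom ≫ π' = π := by
  obtain ⟨a, ha⟩ := (h'.2 XP h.1).2 π
  obtain ⟨b, hb⟩ := (h.2 XP' h'.1).2 π'
  dsimp only at ha hb
  refine ⟨⟨a, b, ?_, ?_⟩, ha⟩
  · apply (h.2 XP h.1).1
    dsimp only
    rw [Category.assoc, hb, ha, Category.id_comp]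
  · apply (h'.2 XP' h'.1).1
    dsimp only
    rw [Category.assoc, ha, hb, Category.id_comp]

/-- Existence and uniqueness of lifts of maps from perfect schemes. -/
theorem IsPerfection.existsUnique_lift (h : IsPerfection π p) {T : Scheme.{u}} [IsCharP T p]
    (hT : IsPerfect T p) (g : T ⟶ X) : ∃! g' : T ⟶ XP, g' ≫ π = g := by
  obtain ⟨g', hg'⟩ := (h.2 T hT).2 g
  exact ⟨g', hg', fun g'' hg'' => (h.2 T hT).1 (hg''.trans hg'.symm)⟩

theorem isPerfection_morphismRestrict (h : IsPerfection π p) (U : X.Opens) :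
    IsPerfection (π ∣_ U) p := by
  refine ⟨isPerfect_opens p XP h.1 (π ⁻¹ᵁ U), ?_⟩
  intro Y _ hY
  constructor
  · intro g₁ g₂ hg
    dsimp only at hg
    have h1 : (g₁ ≫ (π ⁻¹ᵁ U).ι) ≫ π = (g₂ ≫ (π ⁻¹ᵁ U).ι) ≫ π := by
      rw [Category.assoc, Category.assoc, ← morphismRestrict_ι, ← Category.assoc,
        ← Category.assoc, hg]
    have h2 := (h.2 Y hY).1 h1
    exact (cancel_mono _).mp h2
  · intro k
    obtain ⟨g', hg'⟩ := (h.2 Y hY).2 (k ≫ U.ι)
    dsimp only at hg'
    have hr : Set.range g' ⊆ Set.range (π ⁻¹ᵁ U).ι := by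
      rintro _ ⟨y, rfl⟩
      rw [Scheme.Opens.range_ι]
      change π (g' y) ∈ U
      have : π (g' y) = U.ι (k y) := by
        rw [← Scheme.Hom.comp_apply, hg', Scheme.Hom.comp_apply]
      rw [this]
      exact (k y).2
    refine ⟨IsOpenImmersion.lift (π ⁻¹ᵁ U).ι g' hr, ?_⟩
    dsimp only
    rw [← cancel_mono U.ι, Category.assoc, morphismRestrict_ι, ← Category.assoc,
      IsOpenImmersion.lift_fac, hg']

theorem isPerfection_resLE (h : IsPerfection π p) (U : X.Opens) (V : XP.Opens)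
    (hV : V = π ⁻¹ᵁ U) : IsPerfection (π.resLE U V (le_of_eq hV)) p := by
  subst hV
  rw [Scheme.Hom.resLE_eq_morphismRestrict]
  exact isPerfection_morphismRestrict p π h U

theorem isPerfection_Spec (A A' : CommRingCat.{u}) (i : A ⟶ A') [IsCharP (Spec A') p]
    (hA' : (p : A') = 0) (hb : Function.Bijective (fun x : A' => x ^ p))
    (huniv : ∀ (L : Type u) [CommRing L], (p : L) = 0 →
      Function.Bijective (fun x : L => x ^ p) →
        ∀ ψ : A →+* L, ∃! ψ' : A' →+* L, ψ'.comp i.hom = ψ) :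
    IsPerfection (Spec.map i) p := by
  refine ⟨isPerfect_Spec p A' hA' hb, ?_⟩
  intro Y _ hY
  have hL0 : (p : Γ(Y, ⊤)) = 0 := IsCharP.natCast_eq_zero
  have hLb := bijective_pow_of_isPerfect p Y hY ⊤
  constructor
  · intro g₁ g₂ h
    dsimp only at h
    apply ext_of_isAffine
    have key : ∀ g : Y ⟶ Spec A', (i ≫ (Scheme.ΓSpecIso A').inv ≫ g.appTop) =
        (Scheme.ΓSpecIso A).inv ≫ (g ≫ Spec.map i).appTop := by
      intro g
      rw [Scheme.Hom.comp_appTop, ← Category.assoc, Scheme.ΓSpecIso_inv_naturality,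
        Category.assoc]
    have e : i ≫ (Scheme.ΓSpecIso A').inv ≫ g₁.appTop =
        i ≫ (Scheme.ΓSpecIso A').inv ≫ g₂.appTop := by rw [key, key, h]
    obtain ⟨ψ', -, hu⟩ := huniv Γ(Y, ⊤) hL0 hLb (i ≫ (Scheme.ΓSpecIso A').inv ≫ g₁.appTop).hom
    have e1 := hu ((Scheme.ΓSpecIso A').inv ≫ g₁.appTop).hom rfl
    have e2 := hu ((Scheme.ΓSpecIso A').inv ≫ g₂.appTop).hom (by rw [e]; rfl)
    have e3 : (Scheme.ΓSpecIso A').inv ≫ g₁.appTop = (Scheme.ΓSpecIso A').inv ≫ g₂.appTop :=
      CommRingCat.hom_ext (e1.trans e2.symm)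
    exact (cancel_epi _).mp e3
  · intro k
    obtain ⟨ψ', hψ', -⟩ := huniv Γ(Y, ⊤) hL0 hLb ((Scheme.ΓSpecIso A).inv ≫ k.appTop).hom
    refine ⟨Y.toSpecΓ ≫ Spec.map (CommRingCat.ofHom ψ'), ?_⟩
    dsimp only
    rw [Category.assoc, ← Spec.map_comp]
    have e : i ≫ CommRingCat.ofHom ψ' = (Scheme.ΓSpecIso A).inv ≫ k.appTop :=
      CommRingCat.hom_ext hψ'
    rw [e, Spec.map_comp, ← Scheme.toSpecΓ_naturality_assoc, ← SpecMap_ΓSpecIso_hom,
      ← Spec.map_comp, Iso.inv_hom_id, Spec.map_id, Category.comp_id]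

end UP

/-- **Key theorem**: a perfection of a scheme of characteristic `p` is a universal
homeomorphism. -/
theorem isUnivHomeo_of_isPerfection {XP X : Scheme.{u}} [IsCharP XP p] [IsCharP X p]
    (π : XP ⟶ X) (h : IsPerfection π p) : FlatMor.IsUnivHomeo π := by
  refine isUnivHomeo_of_forall_isPullback π (fun U : X.affineOpens => (U : X.Opens))
    (iSup_affineOpens_eq_top X) _ (fun U => π ∣_ (U : X.Opens))
    (fun U => (π ⁻¹ᵁ (U : X.Opens)).ι) (fun U => isPullback_morphismRestrict π U) ?_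
  intro U
  have hU : IsPerfection (π ∣_ (U : X.Opens)) p := isPerfection_morphismRestrict p π h U
  obtain ⟨A', _, i, hA'0, hA'b, -, -, hi, huniv⟩ :=
    exists_ring_perfection p Γ(X, (U : X.Opens)) (natCast_eq_zero_app X p U)
  haveI : IsCharP (Spec (CommRingCat.of A')) p := isCharP_Spec_of p (CommRingCat.of A') hA'0
  have hσ : IsPerfection (Spec.map (CommRingCat.ofHom i) ≫ U.2.isoSpec.inv) p :=
    IsPerfection.comp_iso p _
      (isPerfection_Spec p _ _ (CommRingCat.ofHom i) hA'0 hA'b huniv) U.2.isoSpec.symm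
  obtain ⟨e, he⟩ := IsPerfection.exists_iso p _ hU _ hσ
  rw [← he]
  exact isUnivHomeo_comp _ _ (isUnivHomeo_of_isIso _)
    (isUnivHomeo_comp _ _ hi (isUnivHomeo_of_isIso _))

theorem facts_of_isPerfection {XP X : Scheme.{u}} [IsCharP XP p] [IsCharP X p]
    (π : XP ⟶ X) (h : IsPerfection π p) :
    IsIntegralHom π ∧ UniversallyInjective π ∧ Surjective π :=
  (isUnivHomeo_iff_isIntegralHom π).mp (isUnivHomeo_of_isPerfection p π h)

theorem isHomeomorph_of_isPerfection {XP X : Scheme.{u}} [IsCharP XP p] [IsCharP X p]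
    (π : XP ⟶ X) (h : IsPerfection π p) : IsHomeomorph π :=
  isUnivHomeo_of_isPerfection p π h _ _ _ IsPullback.of_id_snd

end Groth.Agent.Lib.Perf
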