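import Mathlib
import Groth.Agent.Lib.Perf1_helper6
set_option autoImplicit false
universe u

namespace Groth.Agent.Lib.Perf

open AlgebraicGeometry CategoryTheory Limits FrobSch Groth.Agent.Lib.UnivHomeo

variable (p : ℕ) [Fact p.Prime]

/-- `p`-radicality of a perfection on global sections of an affine scheme. -/
theorem exists_pow_eq_appTop {XP X : Scheme.{u}} [IsCharP XP p] [IsCharP X p] [IsAffine X]
    (π : XP ⟶ X) (h : IsPerfection π p) (t : Γ(XP, ⊤)) :
    ∃ (n : ℕ) (a : Γ(X, ⊤)), π.appTop a = t ^ p ^ n := by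
  obtain ⟨A', _, i, hA'0, hA'b, hrad, -, -, huniv⟩ :=
    exists_ring_perfection p Γ(X, ⊤) IsCharP.natCast_eq_zero
  haveI : IsCharP (Spec (CommRingCat.of A')) p := isCharP_Spec_of p (CommRingCat.of A') hA'0
  have hσ : IsPerfection (Spec.map (CommRingCat.ofHom i) ≫ X.isoSpec.inv) p :=
    IsPerfection.comp_iso p _
      (isPerfection_Spec p _ _ (CommRingCat.ofHom i) hA'0 hA'b huniv) X.isoSpec.symm
  obtain ⟨e, he⟩ := IsPerfection.exists_iso p _ h _ hσ
  obtain ⟨n, a, ha⟩ := hrad ((Scheme.ΓSpecIso (CommRingCat.of A')).hom (e.inv.appTop t))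
  refine ⟨n, X.isoSpec.hom.appTop ((Scheme.ΓSpecIso _).inv a), ?_⟩
  have h1 : π.appTop = (X.isoSpec.inv.appTop ≫ (Spec.map (CommRingCat.ofHom i)).appTop) ≫
      e.hom.appTop := by
    rw [← he]
    simp only [Scheme.Hom.comp_appTop, Category.assoc]
  have h2 : ∀ y, X.isoSpec.inv.appTop (X.isoSpec.hom.appTop y) = y := by
    intro y
    have : X.isoSpec.hom.appTop ≫ X.isoSpec.inv.appTop = 𝟙 _ := by
      rw [← Scheme.Hom.comp_appTop, Iso.inv_hom_id]
      rfl
    exact congr($this y)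
  have h3 := congr($(Scheme.ΓSpecIso_inv_naturality (CommRingCat.ofHom i)) a)
  simp only [CommRingCat.comp_apply] at h3
  have h4 : ∀ y, e.hom.appTop (e.inv.appTop y) = y := by
    intro y
    have : e.inv.appTop ≫ e.hom.appTop = 𝟙 _ := by
      rw [← Scheme.Hom.comp_appTop, Iso.hom_inv_id]
      rfl
    exact congr($this y)
  rw [h1]
  simp only [CommRingCat.comp_apply]
  rw [h2]
  refine (congrArg (fun z => e.hom.appTop z) h3.symm).trans ?_
  change e.hom.appTop ((Scheme.ΓSpecIso (CommRingCat.of A')).inv (i a)) = t ^ p ^ n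
  rw [ha, map_pow, map_pow]
  congr 1
  have h5 : (Scheme.ΓSpecIso (CommRingCat.of A')).inv
      ((Scheme.ΓSpecIso (CommRingCat.of A')).hom (e.inv.appTop t)) = e.inv.appTop t := by
    simp
  rw [h5, h4]

section Square

variable {X Y XP YP : Scheme.{u}} (πX : XP ⟶ X) (πY : YP ⟶ Y) (f : X ⟶ Y) (fP : XP ⟶ YP)

theorem preimage_eq_of_comm (w : fP ≫ πY = πX ≫ f) (U : Y.Opens) :
    fP ⁻¹ᵁ (πY ⁻¹ᵁ U) = πX ⁻¹ᵁ (f ⁻¹ᵁ U) := by
  rw [← Scheme.Hom.comp_preimage, ← Scheme.Hom.comp_preimage, w]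

theorem restrict_square (w : fP ≫ πY = πX ≫ f) (U : Y.Opens) :
    (fP ∣_ (πY ⁻¹ᵁ U)) ≫ (πY ∣_ U) =
      πX.resLE (f ⁻¹ᵁ U) (fP ⁻¹ᵁ (πY ⁻¹ᵁ U)) (le_of_eq (preimage_eq_of_comm πX πY f fP w U)) ≫
        (f ∣_ U) := by
  rw [← cancel_mono U.ι]
  simp only [Category.assoc, morphismRestrict_ι, morphismRestrict_ι_assoc,
    Scheme.Hom.resLE_comp_ι_assoc, w]

end Square

/-- Perfection of a closed immersion: the affine case. -/
theorem isClosedImmersion_of_affine {X Y XP YP : Scheme.{u}}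
    [IsCharP X p] [IsCharP Y p] [IsCharP XP p] [IsCharP YP p]
    (πX : XP ⟶ X) (πY : YP ⟶ Y) (hX : IsPerfection πX p) (hY : IsPerfection πY p)
    (f : X ⟶ Y) (fP : XP ⟶ YP) (w : fP ≫ πY = πX ≫ f) [IsAffine Y]
    [IsClosedImmersion f] : IsClosedImmersion fP := by
  obtain ⟨iX, -, -⟩ := facts_of_isPerfection p πX hX
  obtain ⟨iY, -, -⟩ := facts_of_isPerfection p πY hY
  haveI : IsAffine X := isAffine_of_isAffineHom f
  haveI : IsAffine XP := isAffine_of_isAffineHom πX
  haveI : IsAffine YP := isAffine_of_isAffineHom πY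
  apply IsClosedImmersion.of_surjective_of_isAffine
  intro b'
  obtain ⟨n, b, hb⟩ := exists_pow_eq_appTop p πX hX b'
  obtain ⟨a, rfl⟩ := (IsClosedImmersion.isAffine_surjective_of_isAffine f).2 b
  obtain ⟨a', ha'⟩ := (bijective_pow_pow_of_isPerfect p YP hY.1 ⊤ n).2 (πY.appTop a)
  dsimp only at ha'
  refine ⟨a', ?_⟩
  apply (bijective_pow_pow_of_isPerfect p XP hX.1 ⊤ n).1
  change fP.appTop a' ^ p ^ n = b' ^ p ^ n
  rw [← map_pow, ha', ← hb, ← CommRingCat.comp_apply, ← CommRingCat.comp_apply,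
    ← Scheme.Hom.comp_appTop, ← Scheme.Hom.comp_appTop, w]

/-- Perfection of a closed immersion is a closed immersion. -/
theorem isClosedImmersion_perfection {X Y XP YP : Scheme.{u}}
    [IsCharP X p] [IsCharP Y p] [IsCharP XP p] [IsCharP YP p]
    (πX : XP ⟶ X) (πY : YP ⟶ Y) (hX : IsPerfection πX p) (hY : IsPerfection πY p)
    (f : X ⟶ Y) (fP : XP ⟶ YP) (w : fP ≫ πY = πX ≫ f)
    [IsClosedImmersion f] : IsClosedImmersion fP := by
  apply IsZariskiLocalAtTarget.of_iSup_eq_top (P := @IsClosedImmersion)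
    (fun U : Y.affineOpens => πY ⁻¹ᵁ (U : Y.Opens))
  · rw [← Scheme.Hom.preimage_iSup, iSup_affineOpens_eq_top]
    rfl
  · intro U
    haveI : IsAffine ((U : Y.Opens) : Scheme.{u}) := U.2
    have hV := preimage_eq_of_comm πX πY f fP w (U : Y.Opens)
    have hρX := isPerfection_resLE p πX hX (f ⁻¹ᵁ (U : Y.Opens)) _ hV
    have hρY := isPerfection_morphismRestrict p πY hY (U : Y.Opens)
    haveI : IsClosedImmersion (f ∣_ (U : Y.Opens)) :=
      IsZariskiLocalAtTarget.restrict ‹_› _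
    exact isClosedImmersion_of_affine p _ _ hρX hρY (f ∣_ (U : Y.Opens))
      (fP ∣_ (πY ⁻¹ᵁ (U : Y.Opens))) (restrict_square πX πY f fP w (U : Y.Opens))

/-- étale + universally injective + surjective implies isomorphism. -/
theorem isIso_of_etale_of_universallyInjective {X Y : Scheme.{u}} (f : X ⟶ Y) [Etale f]
    [UniversallyInjective f] [Surjective f] : IsIso f := by
  have h2 : Surjective (pullback.diagonal f) := (UniversallyInjective.iff_diagonal f).mp ‹_›
  have h3 : IsIso (pullback.diagonal f) :=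
    (isIso_iff_isOpenImmersion_and_surjective _).mpr ⟨inferInstance, h2⟩
  have hm : Mono f := (pullback.isIso_diagonal_iff f).mp h3
  have ho : IsOpenImmersion f := IsOpenImmersion.of_flat_of_mono f
  exact (isIso_iff_isOpenImmersion_and_surjective f).mpr ⟨ho, ‹_›⟩

/-- A scheme étale over a perfect scheme is perfect. -/
theorem isPerfect_of_etale {Z T : Scheme.{u}} [IsCharP T p] [IsCharP Z p] (g : Z ⟶ T) [Etale g]
    (hT : IsPerfect T p) : IsPerfect Z p := by
  haveI : IsIso (frob T p) := hT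
  have hfst : relFrob g p ≫ pullback.fst g (frob T p) = frob Z p := relFrob_fst g p
  obtain ⟨h1, -, -⟩ := relFrob_facts p g
  obtain ⟨-, hinj, hsurj⟩ := (isUnivHomeo_iff_isIntegralHom _).mp h1
  haveI : Etale (relFrob g p ≫ pullback.snd g (frob T p)) := by
    rw [relFrob_snd]; infer_instance
  haveI : Etale (relFrob g p) := Etale.of_comp (relFrob g p) (pullback.snd g (frob T p))
  haveI : IsIso (relFrob g p) := isIso_of_etale_of_universallyInjective _
  change IsIso (frob Z p)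
  rw [← hfst]
  infer_instance

end Groth.Agent.Lib.Perf
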