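import Mathlib
import Groth.Agent.Lib.Perf2_helper6
set_option autoImplicit false
universe u

namespace Groth.Agent.Lib.Perf

open AlgebraicGeometry CategoryTheory Limits FrobSch Groth.Agent.Lib.UnivHomeo

variable (p : ℕ) [Fact p.Prime]

theorem sum_pow_pp {R : Type*} [CommRing R] (hR : (p : R) = 0) (n : ℕ) {ι : Type*}
    (s : Finset ι) (f : ι → R) : (∑ i ∈ s, f i) ^ p ^ n = ∑ i ∈ s, f i ^ p ^ n := by
  rcases subsingleton_or_nontrivial R with h | h
  · exact Subsingleton.elim _ _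
  · haveI : CharP R p := (CharP.charP_iff_prime_eq_zero Fact.out).mpr hR
    exact sum_pow_char_pow p n s f

/-- Perfection preserves flatness (ring level), via the equational criterion. -/
theorem flat_of_perfection {A B A' B' : Type u} [CommRing A] [CommRing B] [CommRing A']
    [CommRing B'] (φ : A →+* B) (hφ : φ.Flat) (i : A →+* A') (j : B →+* B') (φ' : A' →+* B')
    (hcomm : φ'.comp i = j.comp φ)
    (hB0 : (p : B) = 0) (hA'0 : (p : A') = 0) (hB'0 : (p : B') = 0)
    (hA'b : Function.Bijective (fun x : A' => x ^ p))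
    (hB'b : Function.Bijective (fun x : B' => x ^ p))
    (hi : ∀ x : A', ∃ (n : ℕ) (a : A), i a = x ^ p ^ n)
    (hj : ∀ y : B', ∃ (n : ℕ) (b : B), j b = y ^ p ^ n)
    (hker : ∀ b : B, j b = 0 → IsNilpotent b) : φ'.Flat := by
  have hp : p.Prime := Fact.out
  letI := φ.toAlgebra
  letI := φ'.toAlgebra
  have hA'n : ∀ n : ℕ, Function.Bijective fun s : A' => s ^ p ^ n := fun n => by
    have := hA'b.iterate n
    rwa [pow_iterate] at this
  have hB'n : ∀ n : ℕ, Function.Bijective fun s : B' => s ^ p ^ n := fun n => by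
    have := hB'b.iterate n
    rwa [pow_iterate] at this
  have hcomm' : ∀ a, φ' (i a) = j (φ a) := fun a => congr($hcomm a)
  change Module.Flat A' B'
  apply Module.Flat.of_forall_isTrivialRelation
  intro l f x hfx
  have hfx' : ∑ t, φ' (f t) * x t = 0 := by
    rw [← hfx]
    refine Finset.sum_congr rfl fun t _ => ?_
    rw [Algebra.smul_def]
    rfl
  choose n₁ a₁ ha₁ using fun t => hi (f t)
  choose n₂ m₂ hm₂ using fun t => hj (x t)
  set N := (Finset.univ.sup n₁) ⊔ (Finset.univ.sup n₂) with hN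
  have hn₁ : ∀ t, n₁ t ≤ N := fun t =>
    le_trans (Finset.le_sup (Finset.mem_univ t)) le_sup_left
  have hn₂ : ∀ t, n₂ t ≤ N := fun t =>
    le_trans (Finset.le_sup (Finset.mem_univ t)) le_sup_right
  have ha : ∀ t, i (a₁ t ^ p ^ (N - n₁ t)) = f t ^ p ^ N := by
    intro t
    rw [map_pow, ha₁, ← pow_mul, ← pow_add, Nat.add_sub_cancel' (hn₁ t)]
  have hm : ∀ t, j (m₂ t ^ p ^ (N - n₂ t)) = x t ^ p ^ N := by
    intro t
    rw [map_pow, hm₂, ← pow_mul, ← pow_add, Nat.add_sub_cancel' (hn₂ t)]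
  set a : Fin l → A := fun t => a₁ t ^ p ^ (N - n₁ t) with ha_def
  set m : Fin l → B := fun t => m₂ t ^ p ^ (N - n₂ t) with hm_def
  have hs : j (∑ t, φ (a t) * m t) = 0 := by
    rw [map_sum]
    have h1 : ∀ t, j (φ (a t) * m t) = (φ' (f t) * x t) ^ p ^ N := by
      intro t
      rw [map_mul, hm t, mul_pow, ← map_pow, ← ha t, hcomm']
    simp_rw [h1]
    rw [← sum_pow_pp p hB'0, hfx', zero_pow (pow_pos hp.pos N).ne']
  obtain ⟨k0, hk0⟩ := hker _ hs
  have hsM : (∑ t, φ (a t) * m t) ^ p ^ k0 = 0 := by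
    have hle : k0 ≤ p ^ k0 := (Nat.lt_pow_self hp.one_lt).le
    obtain ⟨d, hd⟩ := Nat.exists_eq_add_of_le hle
    rw [hd, pow_add, hk0, zero_mul]
  rw [sum_pow_pp p hB0] at hsM
  have hrel : ∑ t, (a t ^ p ^ k0) • (m t ^ p ^ k0) = 0 := by
    rw [← hsM]
    refine Finset.sum_congr rfl fun t _ => ?_
    rw [Algebra.smul_def, mul_pow, ← map_pow]
    rfl
  haveI : Module.Flat A B := hφ
  obtain ⟨k, b, y, hy1, hy2⟩ := Module.Flat.isTrivialRelation_of_sum_smul_eq_zero (R := A) (M := B)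
    (f := fun t => a t ^ p ^ k0) (x := fun t => m t ^ p ^ k0) hrel
  have hy1 : ∀ t, m t ^ p ^ k0 = ∑ c, b t c • y c := hy1
  have hy2 : ∀ c, ∑ t, a t ^ p ^ k0 * b t c = 0 := hy2
  have hqA := hA'n (N + k0)
  have hqB := hB'n (N + k0)
  choose α hα using fun (t : Fin l) (c : Fin k) => hqA.2 (i (b t c))
  choose η hη using fun c : Fin k => hqB.2 (j (y c))
  have hα' : ∀ t c, α t c ^ p ^ (N + k0) = i (b t c) := hα
  have hη' : ∀ c, η c ^ p ^ (N + k0) = j (y c) := hη
  refine ⟨k, α, η, ?_, ?_⟩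
  · intro t
    apply hqB.1
    dsimp only
    rw [sum_pow_pp p hB'0]
    have h1 : ∀ c, (α t c • η c) ^ p ^ (N + k0) = j (φ (b t c) * y c) := by
      intro c
      rw [Algebra.smul_def, mul_pow, hη', ← map_pow, hα', map_mul]
      congr 1
      exact hcomm' (b t c)
    simp_rw [h1]
    rw [← map_sum]
    have h2 : ∑ c, φ (b t c) * y c = m t ^ p ^ k0 := by
      rw [hy1 t]
      refine Finset.sum_congr rfl fun c _ => ?_
      rw [Algebra.smul_def]
      rfl
    rw [h2, map_pow, hm t, ← pow_mul, ← pow_add]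
  · intro c
    apply hqA.1
    dsimp only
    rw [sum_pow_pp p hA'0, zero_pow (pow_pos hp.pos _).ne']
    have h1 : ∀ t, (f t * α t c) ^ p ^ (N + k0) = i (a t ^ p ^ k0 * b t c) := by
      intro t
      rw [mul_pow, hα', map_mul, map_pow, ha t, ← pow_mul, ← pow_add]
    simp_rw [h1]
    rw [← map_sum, hy2 c, map_zero]

/-- The kernel of a surjective morphism on global sections of a quasi-compact scheme is nil. -/
theorem isNilpotent_of_appTop_eq_zero {XP X : Scheme.{u}} (π : XP ⟶ X) [Surjective π]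
    [CompactSpace X] (b : Γ(X, ⊤)) (hb : π.appTop b = 0) : IsNilpotent b := by
  rw [Scheme.isNilpotent_iff_basicOpen_eq_bot]
  have h1 : π ⁻¹ᵁ X.basicOpen b = ⊥ := by
    rw [Scheme.preimage_basicOpen]
    have : π.app ⊤ b = 0 := hb
    rw [this, Scheme.basicOpen_zero]
  rw [eq_bot_iff]
  intro x hx
  obtain ⟨x', rfl⟩ := π.surjective x
  have : x' ∈ π ⁻¹ᵁ X.basicOpen b := hx
  rw [h1] at this
  exact this

/-- Perfection of a flat morphism: the affine case. -/
theorem flat_of_affine {X Y XP YP : Scheme.{u}}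
    [IsCharP X p] [IsCharP Y p] [IsCharP XP p] [IsCharP YP p]
    (πX : XP ⟶ X) (πY : YP ⟶ Y) (hX : IsPerfection πX p) (hY : IsPerfection πY p)
    (f : X ⟶ Y) (fP : XP ⟶ YP) (w : fP ≫ πY = πX ≫ f) [IsAffine Y] [IsAffine X]
    [Flat f] : Flat fP := by
  obtain ⟨iX, -, sX⟩ := facts_of_isPerfection p πX hX
  obtain ⟨iY, -, -⟩ := facts_of_isPerfection p πY hY
  haveI : IsAffine XP := isAffine_of_isAffineHom πX
  haveI : IsAffine YP := isAffine_of_isAffineHom πY
  rw [HasRingHomProperty.iff_of_isAffine (P := @Flat)]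
  refine flat_of_perfection p f.appTop.hom (Scheme.Hom.flat_appTop f) πY.appTop.hom
    πX.appTop.hom fP.appTop.hom ?_ IsCharP.natCast_eq_zero IsCharP.natCast_eq_zero
    IsCharP.natCast_eq_zero (bijective_pow_of_isPerfect p YP hY.1 ⊤)
    (bijective_pow_of_isPerfect p XP hX.1 ⊤) (exists_pow_eq_appTop p πY hY)
    (exists_pow_eq_appTop p πX hX) (isNilpotent_of_appTop_eq_zero πX)
  have h1 : πY.appTop ≫ fP.appTop = f.appTop ≫ πX.appTop := by
    rw [← Scheme.Hom.comp_appTop, ← Scheme.Hom.comp_appTop, w]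
  exact congrArg CommRingCat.Hom.hom h1

/-- Perfection of a flat morphism is flat. -/
theorem flat_perfection {X Y XP YP : Scheme.{u}}
    [IsCharP X p] [IsCharP Y p] [IsCharP XP p] [IsCharP YP p]
    (πX : XP ⟶ X) (πY : YP ⟶ Y) (hX : IsPerfection πX p) (hY : IsPerfection πY p)
    (f : X ⟶ Y) (fP : XP ⟶ YP) (w : fP ≫ πY = πX ≫ f) [Flat f] : Flat fP := by
  -- first the case where `Y` is affine
  have key : ∀ {X Y XP YP : Scheme.{u}} [IsCharP X p] [IsCharP Y p] [IsCharP XP p]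
      [IsCharP YP p] (πX : XP ⟶ X) (πY : YP ⟶ Y) (_ : IsPerfection πX p)
      (_ : IsPerfection πY p) (f : X ⟶ Y) (fP : XP ⟶ YP) (_ : fP ≫ πY = πX ≫ f) [IsAffine Y]
      [Flat f], Flat fP := by
    intro X Y XP YP _ _ _ _ πX πY hX hY f fP w _ _
    apply IsZariskiLocalAtSource.of_iSup_eq_top (P := @Flat)
      (fun V : X.affineOpens => πX ⁻¹ᵁ (V : X.Opens))
    · rw [← Scheme.Hom.preimage_iSup, iSup_affineOpens_eq_top]
      rfl
    · intro V
      haveI : IsAffine ((V : X.Opens) : Scheme.{u}) := V.2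
      have hρ := isPerfection_morphismRestrict p πX hX (V : X.Opens)
      refine flat_of_affine p _ πY hρ hY ((V : X.Opens).ι ≫ f) _ ?_
      rw [Category.assoc, w, ← Category.assoc, ← morphismRestrict_ι, Category.assoc]
  apply IsZariskiLocalAtTarget.of_iSup_eq_top (P := @Flat)
    (fun U : Y.affineOpens => πY ⁻¹ᵁ (U : Y.Opens))
  · rw [← Scheme.Hom.preimage_iSup, iSup_affineOpens_eq_top]
    rfl
  · intro U
    haveI : IsAffine ((U : Y.Opens) : Scheme.{u}) := U.2
    have hV := preimage_eq_of_comm πX πY f fP w (U : Y.Opens)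
    have hρX := isPerfection_resLE p πX hX (f ⁻¹ᵁ (U : Y.Opens)) _ hV
    have hρY := isPerfection_morphismRestrict p πY hY (U : Y.Opens)
    haveI : Flat (f ∣_ (U : Y.Opens)) := IsZariskiLocalAtTarget.restrict ‹_› _
    exact key _ _ hρX hρY (f ∣_ (U : Y.Opens))
      (fP ∣_ (πY ⁻¹ᵁ (U : Y.Opens))) (restrict_square πX πY f fP w (U : Y.Opens))

end Groth.Agent.Lib.Perf
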