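import Mathlib
import Groth.Agent.Lib.Perf3_helper6
set_option autoImplicit false
universe u

namespace Groth.Agent.Lib.Perf

open AlgebraicGeometry CategoryTheory Limits FrobSch Groth.Agent.Lib.UnivHomeo TopologicalSpace

variable (p : ℕ) [Fact p.Prime]

theorem add_pow_pp {R : Type*} [CommRing R] (hR : (p : R) = 0) (n : ℕ) (x y : R) :
    (x + y) ^ p ^ n = x ^ p ^ n + y ^ p ^ n := by
  rcases subsingleton_or_nontrivial R with h | h
  · exact Subsingleton.elim _ _
  · haveI : CharP R p := (CharP.charP_iff_prime_eq_zero Fact.out).mpr hR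
    exact add_pow_char_pow x y p n

theorem app_res {XP X : Scheme.{u}} (π : XP ⟶ X) {S I : X.Opens} (h : I ≤ S) (s : Γ(X, S)) :
    π.app I (X.presheaf.map (homOfLE h).op s) =
      XP.presheaf.map (homOfLE (show π ⁻¹ᵁ I ≤ π ⁻¹ᵁ S from fun _ hx => h hx)).op
        (π.app S s) :=
  congr($(π.naturality (homOfLE h).op) s)

theorem morphismRestrict_appTop' {X Y : Scheme.{u}} (f : X ⟶ Y) (U : Y.Opens) :
    (f ∣_ U).appTop =
      (Scheme.Opens.topIso U).hom ≫ f.app U ≫ (Scheme.Opens.topIso (f ⁻¹ᵁ U)).inv := by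
  rw [Scheme.Hom.appTop, morphismRestrict_app']
  simp only [Scheme.Opens.topIso, Functor.mapIso_hom, Functor.mapIso_inv, Iso.op_hom, Iso.op_inv,
    eqToIso.hom, eqToIso.inv, eqToHom_op, Scheme.Hom.app_eq_appLE]
  erw [Scheme.Hom.map_appLE_assoc, Scheme.Hom.appLE_map]
  rfl

/-- `p`-radicality of a perfection over affine opens. -/
theorem exists_pow_eq_app {XP X : Scheme.{u}} [IsCharP XP p] [IsCharP X p] (π : XP ⟶ X)
    (h : IsPerfection π p) (U : X.Opens) (hU : IsAffineOpen U) (t : Γ(XP, π ⁻¹ᵁ U)) :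
    ∃ (n : ℕ) (a : Γ(X, U)), π.app U a = t ^ p ^ n := by
  haveI : IsAffine (U : Scheme.{u}) := hU
  have hρ := isPerfection_morphismRestrict p π h U
  obtain ⟨n, a', ha'⟩ := exists_pow_eq_appTop p _ hρ ((Scheme.Opens.topIso (π ⁻¹ᵁ U)).inv t)
  refine ⟨n, (Scheme.Opens.topIso U).hom a', ?_⟩
  rw [morphismRestrict_appTop'] at ha'
  simp only [CommRingCat.comp_apply] at ha'
  rw [← map_pow] at ha'
  exact (ConcreteCategory.bijective_of_isIso (Scheme.Opens.topIso (π ⁻¹ᵁ U)).inv).1 ha'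

/-- `p`-radicality of a perfection over quasi-compact opens of a quasi-separated scheme. -/
theorem exists_pow_eq_app_of_isCompact {XP X : Scheme.{u}} [IsCharP XP p] [IsCharP X p]
    [QuasiSeparatedSpace X] (π : XP ⟶ X) (h : IsPerfection π p) (S : X.Opens)
    (hS : IsCompact (S : Set X)) :
    ∀ t : Γ(XP, π ⁻¹ᵁ S), ∃ (n : ℕ) (a : Γ(X, S)), π.app S a = t ^ p ^ n := by
  obtain ⟨-, -, hsurj⟩ := facts_of_isPerfection p π h
  have hp : p.Prime := Fact.out
  refine compact_open_induction_on (P := fun S => ∀ t : Γ(XP, π ⁻¹ᵁ S),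
    ∃ (n : ℕ) (a : Γ(X, S)), π.app S a = t ^ p ^ n) S hS ?_ ?_
  · intro t
    refine ⟨0, 0, ?_⟩
    haveI : Subsingleton Γ(XP, π ⁻¹ᵁ (⊥ : X.Opens)) :=
      inferInstanceAs (Subsingleton Γ(XP, ⊥))
    exact Subsingleton.elim _ _
  · intro S hS U hQ t
    have hSV : S ≤ S ⊔ (U : X.Opens) := le_sup_left
    have hUV : (U : X.Opens) ≤ S ⊔ (U : X.Opens) := le_sup_right
    have hSV' : π ⁻¹ᵁ S ≤ π ⁻¹ᵁ (S ⊔ (U : X.Opens)) := fun _ hx => hSV hx
    have hUV' : π ⁻¹ᵁ (U : X.Opens) ≤ π ⁻¹ᵁ (S ⊔ (U : X.Opens)) := fun _ hx => hUV hx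
    obtain ⟨n₁, aS, haS⟩ := hQ (XP.presheaf.map (homOfLE hSV').op t)
    obtain ⟨n₂, aU, haU⟩ :=
      exists_pow_eq_app p π h U U.2 (XP.presheaf.map (homOfLE hUV').op t)
    have hIc : IsCompact ((S ⊓ (U : X.Opens) : X.Opens) : Set X) :=
      QuasiSeparatedSpace.inter_isCompact S.1 U.1.1 S.2 hS U.1.2 U.2.isCompact
    have hbS' : π.app S (aS ^ p ^ n₂) =
        (XP.presheaf.map (homOfLE hSV').op t) ^ p ^ (n₁ + n₂) := by
      rw [map_pow, haS, ← pow_mul, ← pow_add]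
    have hbU' : π.app U (aU ^ p ^ n₁) =
        (XP.presheaf.map (homOfLE hUV').op t) ^ p ^ (n₁ + n₂) := by
      rw [map_pow, haU, ← pow_mul, ← pow_add, add_comm]
    obtain ⟨bS, hbS'⟩ : ∃ bS : Γ(X, S), π.app S bS =
        (XP.presheaf.map (homOfLE hSV').op t) ^ p ^ (n₁ + n₂) := ⟨_, hbS'⟩
    obtain ⟨bU, hbU'⟩ : ∃ bU : Γ(X, (U : X.Opens)), π.app U bU =
        (XP.presheaf.map (homOfLE hUV').op t) ^ p ^ (n₁ + n₂) := ⟨_, hbU'⟩
    obtain ⟨d, hd⟩ : ∃ d : Γ(X, S ⊓ (U : X.Opens)),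
        d = X.presheaf.map (homOfLE (inf_le_left : S ⊓ (U : X.Opens) ≤ S)).op bS -
          X.presheaf.map (homOfLE (inf_le_right : S ⊓ (U : X.Opens) ≤ U)).op bU := ⟨_, rfl⟩
    have hd0 : π.app (S ⊓ (U : X.Opens)) d = 0 := by
      rw [hd, map_sub, app_res, app_res, hbS', hbU', map_pow, map_pow, sub_eq_zero]
      congr 1
      rw [← CommRingCat.comp_apply, ← CommRingCat.comp_apply, ← Functor.map_comp,
        ← Functor.map_comp]
      rfl
    have hdn : IsNilpotent d := by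
      rw [Scheme.isNilpotent_iff_basicOpen_eq_bot_of_isCompact hIc]
      have h1 : π ⁻¹ᵁ X.basicOpen d = ⊥ := by
        rw [Scheme.preimage_basicOpen, hd0, Scheme.basicOpen_zero]
      rw [eq_bot_iff]
      intro x hx
      obtain ⟨x', rfl⟩ := π.surjective x
      have : x' ∈ π ⁻¹ᵁ X.basicOpen d := hx
      rw [h1] at this
      exact this
    obtain ⟨k0, hk0⟩ := hdn
    have hdM : d ^ p ^ k0 = 0 := by
      have hle : k0 ≤ p ^ k0 := (Nat.lt_pow_self hp.one_lt).le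
      obtain ⟨e, he⟩ := Nat.exists_eq_add_of_le hle
      rw [he, pow_add, hk0, zero_mul]
    have hagree : X.presheaf.map (homOfLE (inf_le_left : S ⊓ (U : X.Opens) ≤ S)).op
        (bS ^ p ^ k0) =
        X.presheaf.map (homOfLE (inf_le_right : S ⊓ (U : X.Opens) ≤ U)).op (bU ^ p ^ k0) := by
      rw [map_pow, map_pow]
      have : X.presheaf.map (homOfLE (inf_le_left : S ⊓ (U : X.Opens) ≤ S)).op bS =
          d + X.presheaf.map (homOfLE (inf_le_right : S ⊓ (U : X.Opens) ≤ U)).op bU := by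
        rw [hd]; ring
      rw [this, add_pow_pp p (natCast_eq_zero_app X p _), hdM, zero_add]
    set a := (X.sheaf.objSupIsoProdEqLocus S U).inv ⟨(bS ^ p ^ k0, bU ^ p ^ k0), hagree⟩
      with ha
    have ha1 : X.presheaf.map (homOfLE hSV).op a = bS ^ p ^ k0 :=
      X.sheaf.objSupIsoProdEqLocus_inv_fst S U _
    have ha2 : X.presheaf.map (homOfLE hUV).op a = bU ^ p ^ k0 :=
      X.sheaf.objSupIsoProdEqLocus_inv_snd S U _
    refine ⟨n₁ + n₂ + k0, a, ?_⟩
    refine XP.sheaf.eq_of_locally_eq₂ (homOfLE hSV') (homOfLE hUV') ?_ _ _ ?_ ?_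
    · intro x hx
      exact hx
    · change XP.presheaf.map (homOfLE hSV').op (π.app _ a) =
        XP.presheaf.map (homOfLE hSV').op (t ^ p ^ (n₁ + n₂ + k0))
      rw [← app_res π hSV a, ha1, map_pow, hbS', map_pow, ← pow_mul, ← pow_add]
    · change XP.presheaf.map (homOfLE hUV').op (π.app _ a) =
        XP.presheaf.map (homOfLE hUV').op (t ^ p ^ (n₁ + n₂ + k0))
      rw [← app_res π hUV a, ha2, map_pow, hbU', map_pow, ← pow_mul, ← pow_add]

/-- If the perfection of `X` is affine then `X` is affine. -/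
theorem isAffine_of_isPerfection {XP X : Scheme.{u}} [IsCharP XP p] [IsCharP X p]
    (π : XP ⟶ X) (h : IsPerfection π p) [IsAffine XP] : IsAffine X := by
  obtain ⟨hint, hinj, hsurj⟩ := facts_of_isPerfection p π h
  have hhom := isHomeomorph_of_isPerfection p π h
  have hp : p.Prime := Fact.out
  haveI : CompactSpace X := by
    constructor
    have : (Set.univ : Set X) = Set.range π := (Set.range_eq_univ.mpr π.surjective).symm
    rw [this]
    exact isCompact_range π.continuous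
  haveI : QuasiSeparatedSpace X :=
    (hhom.homeomorph _).symm.isOpenEmbedding.quasiSeparatedSpace
  have hrad : ∀ t : Γ(XP, ⊤), ∃ (n : ℕ) (a : Γ(X, ⊤)), π.appTop a = t ^ p ^ n :=
    exists_pow_eq_app_of_isCompact p π h ⊤ isCompact_univ
  let s : Set Γ(X, ⊤) := {a | IsAffineOpen (X.basicOpen a)}
  have hcover : ∀ x : X, ∃ a ∈ s, x ∈ X.basicOpen a := by
    intro x
    obtain ⟨x', rfl⟩ := π.surjective x
    obtain ⟨_, ⟨U, hU, rfl⟩, hxU, -⟩ :=
      X.isBasis_affineOpens.exists_subset_of_mem_open (Set.mem_univ (π x')) isOpen_univ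
    obtain ⟨t, ht1, ht2⟩ := (isAffineOpen_top XP).exists_basicOpen_le (V := π ⁻¹ᵁ U)
      ⟨x', hxU⟩ trivial
    obtain ⟨n, a, ha⟩ := hrad t
    have hpre : π ⁻¹ᵁ X.basicOpen a = XP.basicOpen t := by
      rw [Scheme.preimage_basicOpen]
      change XP.basicOpen (π.appTop a) = _
      rw [ha, Scheme.basicOpen_pow XP t (pow_pos hp.pos n)]
    have hle : X.basicOpen a ≤ U := by
      intro y hy
      obtain ⟨y', rfl⟩ := π.surjective y
      have : y' ∈ π ⁻¹ᵁ X.basicOpen a := hy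
      rw [hpre] at this
      exact ht1 this
    refine ⟨a, ?_, ?_⟩
    · change IsAffineOpen (X.basicOpen a)
      have heq : X.basicOpen a =
          X.basicOpen (X.presheaf.map (homOfLE (le_top : U ≤ ⊤)).op a) := by
        rw [Scheme.basicOpen_res]
        exact (inf_eq_right.mpr hle).symm
      rw [heq]
      exact hU.basicOpen _
    · have : x' ∈ π ⁻¹ᵁ X.basicOpen a := by rw [hpre]; exact ht2
      exact this
  apply isAffine_of_isAffineOpen_basicOpen s ?_ (fun a ha => ha)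
  have hB : Ideal.span (π.appTop '' s) = ⊤ := by
    rw [← IsAffineOpen.self_le_iSup_basicOpen_iff (isAffineOpen_top XP)]
    intro x' _
    obtain ⟨a, has, hxa⟩ := hcover (π x')
    rw [Opens.mem_iSup]
    refine ⟨⟨π.appTop a, ⟨a, has, rfl⟩⟩, ?_⟩
    have : x' ∈ π ⁻¹ᵁ X.basicOpen a := hxa
    rw [Scheme.preimage_basicOpen] at this
    exact this
  have h1 : (1 : Γ(XP, ⊤)) ∈ Ideal.span (π.appTop '' s) := by rw [hB]; trivial
  obtain ⟨T, hTs, c, hc⟩ := (Submodule.mem_span_image_iff_exists_fun Γ(XP, ⊤)).mp h1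
  choose n₁ d₁ hd₁ using fun i : T => hrad (c i)
  set N := Finset.univ.sup n₁ with hN
  have hn₁ : ∀ i, n₁ i ≤ N := fun i => Finset.le_sup (Finset.mem_univ i)
  have hd : ∀ i, π.appTop (d₁ i ^ p ^ (N - n₁ i)) = c i ^ p ^ N := by
    intro i
    rw [map_pow, hd₁, ← pow_mul, ← pow_add, Nat.add_sub_cancel' (hn₁ i)]
  set u : Γ(X, ⊤) := ∑ i : T, d₁ i ^ p ^ (N - n₁ i) * (i : Γ(X, ⊤)) ^ p ^ N with hu
  have hπu : π.appTop u = 1 := by
    rw [hu, map_sum]
    have h2 : ∀ i : T, π.appTop (d₁ i ^ p ^ (N - n₁ i) * (i : Γ(X, ⊤)) ^ p ^ N) =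
        (c i • π.appTop (i : Γ(X, ⊤))) ^ p ^ N := by
      intro i
      rw [map_mul, hd i, map_pow, smul_eq_mul, mul_pow]
    simp_rw [h2]
    rw [← sum_pow_pp p (natCast_eq_zero_app XP p ⊤), hc, one_pow]
  have hnil : IsNilpotent (u - 1) :=
    isNilpotent_of_appTop_eq_zero π (u - 1) (by rw [map_sub, hπu, map_one, sub_self])
  have hunit : IsUnit u := by
    have := hnil.isUnit_add_one
    rwa [sub_add_cancel] at this
  have humem : u ∈ Ideal.span s := by
    rw [hu]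
    refine Ideal.sum_mem _ fun i _ => Ideal.mul_mem_left _ _ ?_
    exact Ideal.pow_mem_of_mem _ (Ideal.subset_span (hTs i.2)) _ (pow_pos hp.pos N)
  exact Ideal.eq_top_of_isUnit_mem _ humem hunit

end Groth.Agent.Lib.Perf
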