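import Mathlib
import Groth.Prelude
import Groth.Agent.Lib.LimAmp6_helper6
import Groth.Agent.Lib.AffLimExists_helper7

/-!
# Frobenius pullbacks of invertible modules and ampleness (helper6)
APPEND-ONLY once landed.

* `isAffineHom_frob`, `frobPow`: the iterates of the absolute Frobenius are affine.
* `frobFrame`: the pullback of a framed module of weight `N` along Frobenius is framed of weight
  `N * p`.
* `isAmple_frobPow_iff`: `(F^n)^* L` is ample iff `L` is.
-/

set_option autoImplicit false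
set_option linter.all false

namespace Groth.Agent.Lib.PerfAmpH6

open AlgebraicGeometry CategoryTheory CategoryTheory.Limits TopologicalSpace Opposite
open QcqsLoc GenLocH8 FLFH8 QCohExtn TensH8 PBH8 FrobSch
open Groth.Agent.Lib.LimAmpH6

universe u

section Frob

variable (X : Scheme.{u}) (p : ℕ) [Fact p.Prime] [IsCharP X p]

instance isAffineHom_frob : IsAffineHom (frob X p) := ⟨fun U hU => hU⟩

theorem frob_appLE (U : X.Opens) (h : U ≤ frob X p ⁻¹ᵁ U) (s : Γ(X, U)) :
    (frob X p).appLE U U h s = s ^ p := by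
  rw [Scheme.Hom.appLE]
  show X.presheaf.map (𝟙 (op U)) (s ^ p) = s ^ p
  rw [X.presheaf.map_id]
  rfl

/-- the local frame data of the Frobenius pullback of a framed module -/
noncomputable def frobLocalFrame {L M : X.Modules} (hL : PicF.IsInvertible L) {N : ℕ}
    (Φ : Frame L M N) :
    LocalFrame L ((Scheme.Modules.pullback (frob X p)).obj M) (N * p) where
  ι := {q : Σ V : X.Opens, Γ(L, V) // IsAffineOpen q.1 ∧ IsGen L q.1 q.2}
  O q := q.1.1
  e q := q.1.2
  m q := cUV (frob X p) M (le_rfl : q.1.1 ≤ frob X p ⁻¹ᵁ q.1.1) (Φ.φ q.1.1 q.1.2)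
  he q := q.2.2
  hm q := isGen_cUV (frob X p) (isInvertible_of_frame hL Φ) q.2.1 (Φ.isGen q.2.2)
  cover x := by
    obtain ⟨V, hV, hxV, e, he⟩ := exists_isGen hL x
    exact ⟨⟨⟨V, e⟩, hV, he⟩, hxV⟩
  compat := by
    rintro ⟨⟨V, e₀⟩, hV, he⟩ ⟨⟨V', e₀'⟩, hV', he'⟩ (c : Γ(X, V ⊓ V')) hc
    have hl : V ⊓ V' ≤ V := inf_le_left
    have hr : V ⊓ V' ≤ V' := inf_le_right
    have hc' : rF L hl e₀ = c • rF L hr e₀' := hc
    show rF ((Scheme.Modules.pullback (frob X p)).obj M) hl
        (cUV (frob X p) M (le_rfl : V ≤ frob X p ⁻¹ᵁ V) (Φ.φ V e₀)) =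
      c ^ (N * p) • rF ((Scheme.Modules.pullback (frob X p)).obj M) hr
        (cUV (frob X p) M (le_rfl : V' ≤ frob X p ⁻¹ᵁ V') (Φ.φ V' e₀'))
    rw [rF_cUV, rF_cUV,
      ← cUV_resV (frob X p) M hl (le_rfl : V ⊓ V' ≤ frob X p ⁻¹ᵁ (V ⊓ V')),
      ← cUV_resV (frob X p) M hr (le_rfl : V ⊓ V' ≤ frob X p ⁻¹ᵁ (V ⊓ V')),
      Φ.res, Φ.res, hc', Φ.smul, cUV_smul, frob_appLE, ← pow_mul]

/-- **The Frobenius pullback of a framed module of weight `N` is framed of weight `N * p`.** -/
noncomputable def frobFrame {L M : X.Modules} (hL : PicF.IsInvertible L) {N : ℕ}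
    (Φ : Frame L M N) : Frame L ((Scheme.Modules.pullback (frob X p)).obj M) (N * p) :=
  (frobLocalFrame X p hL Φ).toFrame

/-- the iterates of the absolute Frobenius -/
noncomputable def frobPow : ℕ → (X ⟶ X)
  | 0 => 𝟙 X
  | (k + 1) => frob X p ≫ frobPow k

@[simp] theorem frobPow_zero : frobPow X p 0 = 𝟙 X := rfl

theorem frobPow_succ (k : ℕ) : frobPow X p (k + 1) = frob X p ≫ frobPow X p k := rfl

theorem frobPow_add (a b : ℕ) : frobPow X p (a + b) = frobPow X p a ≫ frobPow X p b := by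
  induction a with
  | zero => simp
  | succ a ih =>
    rw [Nat.succ_add, frobPow_succ, frobPow_succ, ih, Category.assoc]

theorem frobPow_succ' (k : ℕ) : frobPow X p (k + 1) = frobPow X p k ≫ frob X p := by
  rw [frobPow_add]
  show frobPow X p k ≫ (frob X p ≫ 𝟙 X) = _
  rw [Category.comp_id]

instance isAffineHom_frobPow (k : ℕ) : IsAffineHom (frobPow X p k) := by
  induction k with
  | zero => rw [frobPow_zero]; infer_instance
  | succ k ih => rw [frobPow_succ]; infer_instance

theorem frobPow_comp {Y : Scheme.{u}} [IsCharP Y p] (f : Y ⟶ X) (k : ℕ) :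
    frobPow Y p k ≫ f = f ≫ frobPow X p k := by
  induction k with
  | zero => simp
  | succ k ih =>
    rw [frobPow_succ, frobPow_succ, Category.assoc, ih, ← Category.assoc, frob_comp,
      Category.assoc]

/-- `(F^n)^* L` is framed over `L` with weight `p^n`. -/
theorem exists_frame_frobPow {L : X.Modules} (hL : PicF.IsInvertible L) (n : ℕ) :
    Nonempty (Frame L ((Scheme.Modules.pullback (frobPow X p n)).obj L) (p ^ n)) := by
  induction n with
  | zero =>
    have α : L ≅ (Scheme.Modules.pullback (frobPow X p 0)).obj L :=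
      ((Scheme.Modules.pullbackId X).app L).symm
    exact ⟨(Frame.ofIso α).cast (pow_zero p).symm⟩
  | succ n ih =>
    obtain ⟨Φ⟩ := ih
    have α : (Scheme.Modules.pullback (frob X p)).obj
        ((Scheme.Modules.pullback (frobPow X p n)).obj L) ≅
        (Scheme.Modules.pullback (frobPow X p (n + 1))).obj L :=
      pullbackCompIso (frob X p) (frobPow X p n) (frobPow X p (n + 1)) rfl L
    exact ⟨((frobFrame X p hL Φ).mapIso α).cast (pow_succ p n).symm⟩

/-- **Ampleness is insensitive to Frobenius pullbacks.** -/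
theorem isAmple_frobPow_iff {L : X.Modules} (hL : PicF.IsInvertible L) (n : ℕ) :
    CohB1.IsAmple ((Scheme.Modules.pullback (frobPow X p n)).obj L) ↔ CohB1.IsAmple L := by
  obtain ⟨Φ⟩ := exists_frame_frobPow X p hL n
  exact (isAmple_iff_of_frame hL (pow_pos (Fact.out : p.Prime).pos n) Φ).symm

end Frob

end Groth.Agent.Lib.PerfAmpH6
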