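import Mathlib
import Groth.Prelude
import Groth.Agent.Lib.PerfAmp1_helper6

/-!
# The perfection of a scheme as the limit of its Frobenius tower; ampleness (helper6)
APPEND-ONLY once landed.

* `tower X p`: the tower `⋯ → X → X → X` of absolute Frobenii.
* `isPerfect_of_isLimit`, `bijective_of_isLimit`: the limit of the tower is a perfection.
* `main14927`: `L` is ample iff its pullback to a perfection is ample.
-/

set_option autoImplicit false
set_option linter.all false

namespace Groth.Agent.Lib.PerfAmpH6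

open AlgebraicGeometry CategoryTheory CategoryTheory.Limits TopologicalSpace Opposite
open QcqsLoc GenLocH8 FLFH8 QCohExtn TensH8 PBH8 FrobSch
open Groth.Agent.Lib.LimAmpH6

universe u

section Tower

variable (X : Scheme.{u}) (p : ℕ) [Fact p.Prime] [IsCharP X p]

/-- the Frobenius tower -/
noncomputable def tower : (ULift.{u} ℕ)ᵒᵖ ⥤ Scheme.{u} where
  obj _ := X
  map {a b} f := frobPow X p (a.unop.down - b.unop.down)
  map_id a := by simp
  map_comp {a b c} f g := by
    rw [← frobPow_add]
    congr 1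
    have h1' : b.unop ≤ a.unop := leOfHom f.unop
    have h2' : c.unop ≤ b.unop := leOfHom g.unop
    have h1 : b.unop.down ≤ a.unop.down := h1'
    have h2 : c.unop.down ≤ b.unop.down := h2'
    omega

theorem tower_map {a b : (ULift.{u} ℕ)ᵒᵖ} (f : a ⟶ b) :
    (tower X p).map f = frobPow X p (a.unop.down - b.unop.down) := rfl

instance isAffineHom_tower_map {a b : (ULift.{u} ℕ)ᵒᵖ} (f : a ⟶ b) :
    IsAffineHom ((tower X p).map f) := by
  rw [tower_map]
  exact isAffineHom_frobPow X p _

variable {X p}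

theorem seq_pow {T : Scheme.{u}} (t : ℕ → (T ⟶ X)) (h : ∀ n, t (n + 1) ≫ frob X p = t n)
    (n k : ℕ) : t (n + k) ≫ frobPow X p k = t n := by
  induction k with
  | zero => simp
  | succ k ih =>
    rw [frobPow_succ, ← Category.assoc]
    have : t (n + (k + 1)) ≫ frob X p = t (n + k) := h (n + k)
    rw [this, ih]

/-- a cone over the Frobenius tower from a compatible sequence of morphisms -/
noncomputable def coneOfSeq {T : Scheme.{u}} (t : ℕ → (T ⟶ X))
    (h : ∀ n, t (n + 1) ≫ frob X p = t n) : Cone (tower X p) where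
  pt := T
  π :=
    { app := fun a => t a.unop.down
      naturality := fun a b f => by
        have hle' : b.unop ≤ a.unop := leOfHom f.unop
        have hle : b.unop.down ≤ a.unop.down := hle'
        have h1 := seq_pow t h b.unop.down (a.unop.down - b.unop.down)
        rw [Nat.add_sub_cancel' hle] at h1
        show 𝟙 T ≫ t b.unop.down = t a.unop.down ≫ frobPow X p (a.unop.down - b.unop.down)
        rw [Category.id_comp, h1] }

variable (c : Cone (tower X p)) (hc : IsLimit c)

/-- the projections of a cone over the tower -/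
noncomputable def proj (n : ℕ) : c.pt ⟶ X := c.π.app (op ⟨n⟩)

theorem proj_pow (n k : ℕ) : proj c (n + k) ≫ frobPow X p k = proj c n := by
  let f : (op (ULift.up (n + k)) : (ULift.{u} ℕ)ᵒᵖ) ⟶ op (ULift.up n) :=
    (homOfLE (show (ULift.up n : ULift.{u} ℕ) ≤ ULift.up (n + k) from Nat.le_add_right n k)).op
  have h1 := c.w f
  rw [tower_map] at h1
  have h2 : (op (ULift.up (n + k)) : (ULift.{u} ℕ)ᵒᵖ).unop.down -
      (op (ULift.up n) : (ULift.{u} ℕ)ᵒᵖ).unop.down = k := by
    show n + k - n = k
    omega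
  rw [h2] at h1
  exact h1

theorem proj_succ (n : ℕ) : proj c (n + 1) ≫ frob X p = proj c n := by
  have := proj_pow c n 1
  rwa [frobPow_succ, frobPow_zero, Category.comp_id] at this

theorem proj_zero_pow (n : ℕ) : proj c n ≫ frobPow X p n = proj c 0 := by
  have := proj_pow c 0 n
  rwa [Nat.zero_add] at this

include hc in
theorem hom_ext_proj {T : Scheme.{u}} {f g : T ⟶ c.pt} (h : ∀ n, f ≫ proj c n = g ≫ proj c n) :
    f = g :=
  hc.hom_ext fun j => h j.unop.down

include hc in
theorem lift_proj {T : Scheme.{u}} (t : ℕ → (T ⟶ X)) (h : ∀ n, t (n + 1) ≫ frob X p = t n)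
    (n : ℕ) : hc.lift (coneOfSeq t h) ≫ proj c n = t n :=
  hc.fac (coneOfSeq t h) (op ⟨n⟩)

include hc in
/-- the limit of the Frobenius tower is perfect -/
theorem isPerfect_of_isLimit [IsCharP c.pt p] : IsPerfect c.pt p := by
  let s : c.pt ⟶ c.pt := hc.lift (coneOfSeq (fun n => proj c (n + 1)) (fun n => proj_succ c (n + 1)))
  have hs : ∀ n, s ≫ proj c n = proj c (n + 1) := fun n =>
    lift_proj c hc (fun n => proj c (n + 1)) (fun n => proj_succ c (n + 1)) n
  refine ⟨s, ?_, ?_⟩
  · apply hom_ext_proj c hc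
    intro n
    rw [Category.assoc, hs, frob_comp, proj_succ, Category.id_comp]
  · apply hom_ext_proj c hc
    intro n
    rw [Category.assoc, frob_comp, ← Category.assoc, hs, proj_succ, Category.id_comp]

instance isIso_frobPow_of_isPerfect {Y : Scheme.{u}} [IsCharP Y p] [hY : IsIso (frob Y p)] (n : ℕ) :
    IsIso (frobPow Y p n) := by
  induction n with
  | zero => rw [frobPow_zero]; infer_instance
  | succ n ih => rw [frobPow_succ]; infer_instance

include hc in
/-- the limit of the Frobenius tower has the universal property of the perfection -/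
theorem bijective_of_isLimit (Y : Scheme.{u}) [IsCharP Y p] (hY : IsPerfect Y p) :
    Function.Bijective (fun g : Y ⟶ c.pt => g ≫ proj c 0) := by
  haveI : IsIso (frob Y p) := hY
  constructor
  · intro h₁ h₂ h
    have h' : h₁ ≫ proj c 0 = h₂ ≫ proj c 0 := h
    haveI : IsCharP c.pt p := IsCharP.of_hom (proj c 0) p
    apply hom_ext_proj c hc
    intro n
    rw [← cancel_epi (frobPow Y p n)]
    have key : ∀ g : Y ⟶ c.pt, frobPow Y p n ≫ g ≫ proj c n = g ≫ proj c 0 := by
      intro g
      rw [← Category.assoc, frobPow_comp, Category.assoc, frobPow_comp, proj_zero_pow]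
    rw [key, key, h']
  · intro g₀
    let t : ℕ → (Y ⟶ X) := fun n => inv (frobPow Y p n) ≫ g₀
    have ht : ∀ n, t (n + 1) ≫ frob X p = t n := by
      intro n
      rw [← cancel_epi (frobPow Y p (n + 1))]
      show frobPow Y p (n + 1) ≫ (inv (frobPow Y p (n + 1)) ≫ g₀) ≫ frob X p =
        frobPow Y p (n + 1) ≫ inv (frobPow Y p n) ≫ g₀
      rw [Category.assoc, IsIso.hom_inv_id_assoc, frobPow_succ, Category.assoc,
        IsIso.hom_inv_id_assoc, frob_comp]
    refine ⟨hc.lift (coneOfSeq t ht), ?_⟩
    show hc.lift (coneOfSeq t ht) ≫ proj c 0 = g₀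
    rw [lift_proj c hc t ht 0]
    show inv (frobPow Y p 0) ≫ g₀ = g₀
    simp

end Tower

section Main

/-- **Ampleness and perfection.** -/
theorem main14927 (p : ℕ) [Fact p.Prime] {X XP : Scheme.{u}} [IsCharP X p] [IsCharP XP p]
    [CompactSpace X] [QuasiSeparatedSpace X] (πX : XP ⟶ X) (hX : IsPerfection πX p)
    (L : X.Modules) (hL : PicF.IsInvertible L) :
    CohB1.IsAmple L ↔ CohB1.IsAmple ((Scheme.Modules.pullback πX).obj L) := by
  haveI : ∀ {i j : (ULift.{u} ℕ)ᵒᵖ} (f : i ⟶ j), IsAffineHom ((tower X p).map f) :=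
    fun f => isAffineHom_tower_map X p f
  haveI := Groth.Agent.Lib.AffLimExists_helper7.hasLimit_of_affine_transitions (tower X p)
  obtain ⟨c, hc⟩ : ∃ c : Cone (tower X p), Nonempty (IsLimit c) :=
    ⟨limit.cone _, ⟨limit.isLimit _⟩⟩
  obtain ⟨hc⟩ := hc
  haveI : IsCharP c.pt p := IsCharP.of_hom (proj c 0) p
  have hperf := isPerfect_of_isLimit c hc
  obtain ⟨hXPperf, hUP⟩ := hX
  -- the comparison isomorphism
  obtain ⟨a, ha⟩ := (bijective_of_isLimit c hc XP hXPperf).2 πX
  obtain ⟨b, hb⟩ := (hUP c.pt hperf).2 (proj c 0)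
  have ha' : a ≫ proj c 0 = πX := ha
  have hb' : b ≫ πX = proj c 0 := hb
  have hab : a ≫ b = 𝟙 XP := by
    apply (hUP XP hXPperf).1
    show (a ≫ b) ≫ πX = 𝟙 XP ≫ πX
    rw [Category.assoc, hb', ha', Category.id_comp]
  have hba : b ≫ a = 𝟙 c.pt := by
    apply (bijective_of_isLimit c hc c.pt hperf).1
    show (b ≫ a) ≫ proj c 0 = 𝟙 c.pt ≫ proj c 0
    rw [Category.assoc, ha', hb', Category.id_comp]
  haveI : IsIso a := ⟨b, hab, hba⟩
  haveI : IsIso b := ⟨a, hba, hab⟩
  haveI : IsAffineHom (proj c 0) := isAffineHom_π_app (tower X p) c hc _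
  haveI : IsAffineHom πX := by
    rw [← ha']
    infer_instance
  haveI : CompactSpace XP := QuasiCompact.compactSpace_of_compactSpace πX
  haveI : CompactSpace c.pt := QuasiCompact.compactSpace_of_compactSpace (proj c 0)
  constructor
  · intro h
    exact isAmple_pullback_of_isAffineHom πX h
  · intro h
    have h1 : CohB1.IsAmple ((Scheme.Modules.pullback b).obj
        ((Scheme.Modules.pullback πX).obj L)) := isAmple_pullback_of_isAffineHom b h
    have h2 : CohB1.IsAmple ((Scheme.Modules.pullback (c.π.app (op ⟨0⟩))).obj L) :=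
      (isAmple_congr (pullbackCompIso b πX (proj c 0) hb' L)).mp h1
    haveI : ∀ i, CompactSpace ((tower X p).obj i) := fun _ => ‹CompactSpace X›
    haveI : ∀ i, QuasiSeparatedSpace ((tower X p).obj i) := fun _ => ‹QuasiSeparatedSpace X›
    obtain ⟨i, φ, hi⟩ := exists_isAmple_stage (tower X p) c hc (op ⟨0⟩) L hL h2
    rw [tower_map] at hi
    exact (isAmple_frobPow_iff X p hL _).mp hi

end Main

end Groth.Agent.Lib.PerfAmpH6
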