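import Mathlib
import Groth.Prelude
import Groth.Agent.Lib.PerfAmp2_helper6
import Groth.Agent.Lib.LimGG2_helper6
import Groth.Agent.Lib.ConsQP1_helper6
import Groth.Agent.Lib.VAmpPn9_helper5

/-!
# The Picard group of a perfection (helper6)
APPEND-ONLY once landed.

* `Frame.comp`: composition of frames.
* `IsTriv`, `isTriv_iff`: triviality of an invertible module through a nowhere vanishing section.
* `exists_isTriv_stage`: triviality descends from a cofiltered limit to a stage.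
* `exists_tower_iso`: a perfection is the limit of the Frobenius tower.
* `main14925`, `main14926`: `Pic(X)[1/p] ≅ Pic(X_perf)`.
-/

set_option autoImplicit false
set_option linter.all false

namespace Groth.Agent.Lib.PerfAmpH6

open AlgebraicGeometry CategoryTheory CategoryTheory.Limits TopologicalSpace Opposite
open QcqsLoc GenLocH8 FLFH8 QCohExtn TensH8 PBH8 FrobSch
open Groth.Agent.Lib.LimAmpH6 Groth.Agent.Lib.LimGGH6

universe u

section Frames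

variable {X : Scheme.{u}}

/-- composition of frames -/
def frameComp {L M T : X.Modules} {a b : ℕ} (Φ : Frame L M a) (Ψ : Frame M T b) :
    Frame L T (a * b) where
  φ W e := Ψ.φ W (Φ.φ W e)
  isGen he := Ψ.isGen (Φ.isGen he)
  res h e := by rw [Ψ.res, Φ.res]
  smul W u e := by rw [Φ.smul, Ψ.smul, ← pow_mul]

theorem iso_of_cl_eq {Y : Scheme.{u}} {F G : Y.Modules} (h : PicF.cl F = PicF.cl G) :
    Nonempty (F ≅ G) := by
  have h1 := Quot.eqvGen_exact h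
  clear h
  induction h1 with
  | rel _ _ h => exact h
  | refl _ => exact ⟨Iso.refl _⟩
  | symm _ _ _ ih => exact ⟨ih.some.symm⟩
  | trans _ _ _ _ _ ih1 ih2 => exact ⟨ih1.some ≪≫ ih2.some⟩

/-- a section generating everywhere is an isomorphism -/
theorem isIso_of_genLocus_eq_top {L : X.Modules} (s : Coh.structureModule X ⟶ L)
    (h : CohB1.genLocus L s = ⊤) : IsIso s := by
  refine SubExt.isIso_of_bijective _ (fun W => ?_)
  exact bijective_ap_of_le_genLocus s (O := W) (by rw [h]; exact le_top)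

/-- `M` has a nowhere vanishing global section. -/
def IsTriv (M : X.Modules) : Prop := ∃ σ : Γ(M, ⊤), HasLocus (Frame.self M) σ ⊤

theorem isTriv_of_iso {M : X.Modules} (α : M ≅ Coh.structureModule X) : IsTriv M := by
  have hσ : IsGen M ⊤ (ap α.inv ⊤ (toM 1)) := isGen_of_iso α.symm (isGen_one ⊤)
  refine ⟨ap α.inv ⊤ (toM 1), fun W hW e he => ?_⟩
  have hspec := (Frame.self M).coefOf_spec (ap α.inv ⊤ (toM 1)) W hW e he
  have hu : IsUnit ((Frame.self M).coefOf (ap α.inv ⊤ (toM 1)) W hW e he) := by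
    apply isUnit_of_isGen_smul he
    have h1 : IsGen M W (rF M hW (ap α.inv ⊤ (toM 1))) := hσ.res hW
    rw [hspec] at h1
    exact h1
  rw [Scheme.basicOpen_of_isUnit _ hu, top_inf_eq]

theorem iso_of_isTriv {M : X.Modules} (hM : PicF.IsInvertible M) (h : IsTriv M) :
    Nonempty (M ≅ Coh.structureModule X) := by
  obtain ⟨σ, hσ⟩ := h
  have h1 := genLocus_homOfSec hM (Frame.self M) σ hσ
  haveI : IsIso (homOfSec M σ) := isIso_of_genLocus_eq_top _ h1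
  exact ⟨(asIso (homOfSec M σ)).symm⟩

theorem isTrivialCl_iff_isTriv {M : X.Modules} (hM : PicF.IsInvertible M) :
    PicF.IsTrivialCl (PicF.cl M) ↔ IsTriv M := by
  constructor
  · intro h
    obtain ⟨α⟩ := iso_of_cl_eq h
    exact isTriv_of_iso α
  · intro h
    obtain ⟨α⟩ := iso_of_isTriv hM h
    exact Quot.sound ⟨α⟩

end Frames

section Desc

variable {I : Type u} [Category.{u} I] [IsCofiltered I] (D : I ⥤ Scheme.{u}) (c : Cone D)
  (hc : IsLimit c) [∀ {i j : I} (f : i ⟶ j), IsAffineHom (D.map f)]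

include hc in
/-- **Triviality of an invertible module descends from the limit to a stage.** -/
theorem exists_isTriv_stage [∀ i, CompactSpace (D.obj i)] [∀ i, QuasiSeparatedSpace (D.obj i)]
    (i₀ : I) (L₀ : (D.obj i₀).Modules) (hL₀ : PicF.IsInvertible L₀)
    (h : IsTriv ((Scheme.Modules.pullback (c.π.app i₀)).obj L₀)) :
    ∃ (i : I) (φ : i ⟶ i₀), IsTriv ((Scheme.Modules.pullback (D.map φ)).obj L₀) := by
  classical
  obtain ⟨𝒯, hfin, hU⟩ := exists_triv hL₀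
  haveI := hfin
  haveI : IsAffineHom (c.π.app i₀) := isAffineHom_π_app D c hc i₀
  haveI : CompactSpace c.pt := QuasiCompact.compactSpace_of_compactSpace (c.π.app i₀)
  obtain ⟨p, hp⟩ : ∃ p : c.pt ⟶ D.obj i₀, p = c.π.app i₀ := ⟨_, rfl⟩
  rw [← hp] at h
  obtain ⟨σ, hloc⟩ := h
  obtain ⟨β, hβrel, hβloc⟩ := (𝒯.pullback hL₀ hU p).exists_fam_of_section
    (Frame.self ((Scheme.Modules.pullback p).obj L₀)) σ hloc
  have hOeq : (⊤ : c.pt.Opens) = (𝒯.pullback hL₀ hU p).locus β :=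
    (𝒯.pullback hL₀ hU p).eq_locus β hβloc
  subst hp
  obtain ⟨j₁, φ₁, s, hs⟩ := exists_sections_stage D c hc i₀ (M := 𝒯.A)
    (fun m => 𝒯.U m) (fun m => hU m) (fun m => β m)
  let b₁ : ∀ (a : 𝒯.A), Γ(D.obj j₁, D.map φ₁ ⁻¹ᵁ 𝒯.U a) := fun a => s a
  have hpull : pull 𝒯 (c.π.app j₁) (D.map φ₁) (c.π.app i₀) (c.w φ₁) b₁ = β :=
    funext fun a => hs a
  have hrelS : (𝒯.pullback hL₀ hU (c.π.app i₀)).Rel 1
      (pull 𝒯 (c.π.app j₁) (D.map φ₁) (c.π.app i₀) (c.w φ₁) b₁) := by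
    rw [hpull]
    exact hβrel
  have hQc : ∀ a a' : 𝒯.A,
      IsCompact ((D.map φ₁ ⁻¹ᵁ 𝒯.U a ⊓ D.map φ₁ ⁻¹ᵁ 𝒯.U a' : (D.obj j₁).Opens) : Set (D.obj j₁)) :=
    fun a a' => QuasiSeparatedSpace.inter_isCompact _ _ (D.map φ₁ ⁻¹ᵁ 𝒯.U a).isOpen
      ((hU a).preimage (D.map φ₁)).isCompact (D.map φ₁ ⁻¹ᵁ 𝒯.U a').isOpen
      ((hU a').preimage (D.map φ₁)).isCompact
  have hQeq : ∀ a a' : 𝒯.A, c.π.app i₀ ⁻¹ᵁ 𝒯.U a ⊓ c.π.app i₀ ⁻¹ᵁ 𝒯.U a' =
      c.π.app j₁ ⁻¹ᵁ (D.map φ₁ ⁻¹ᵁ 𝒯.U a ⊓ D.map φ₁ ⁻¹ᵁ 𝒯.U a') := by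
    intro a a'
    rw [← c.w φ₁]
    rfl
  have hrelEv : Ev (fun j (ψ : j ⟶ j₁) => ∀ m : 𝒯.A × 𝒯.A,
      (D.map ψ).app (D.map φ₁ ⁻¹ᵁ 𝒯.U m.1 ⊓ D.map φ₁ ⁻¹ᵁ 𝒯.U m.2)
          (relL 𝒯 (D.map φ₁) b₁ m.1 m.2) =
        (D.map ψ).app (D.map φ₁ ⁻¹ᵁ 𝒯.U m.1 ⊓ D.map φ₁ ⁻¹ᵁ 𝒯.U m.2)
          (relR 𝒯 (D.map φ₁) 1 b₁ m.1 m.2)) := by
    apply Ev.forall_finite
    rintro ⟨a, a'⟩
    apply ev_app_eq D c hc j₁ _ (hQc a a')
    exact app_eq_of_appLE_eq (c.π.app j₁) (hQeq a a')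
      (appLE_eq_of_rel_pull 𝒯 hL₀ hU (c.π.app j₁) (D.map φ₁) (c.π.app i₀) (c.w φ₁) 1
        b₁ hrelS a a')
  let 𝒯₁ := 𝒯.pullback hL₀ hU (D.map φ₁)
  have hO₁pre : c.π.app j₁ ⁻¹ᵁ 𝒯₁.locus b₁ = ⊤ := by
    rw [hOeq, ← hpull]
    exact (locus_pull 𝒯 hL₀ hU (c.π.app j₁) (D.map φ₁) (c.π.app i₀) (c.w φ₁) b₁).symm
  have hcovEv : Ev (fun j (ψ : j ⟶ j₁) => D.map ψ ⁻¹ᵁ (𝒯₁.locus b₁) = ⊤) :=
    ev_preimage_eq_top D c hc j₁ _ hO₁pre
  obtain ⟨j, ψ, hrelj, hcovj⟩ := (hrelEv.and hcovEv).exists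
  have hq : D.map ψ ≫ D.map φ₁ = D.map (ψ ≫ φ₁) := (D.map_comp ψ φ₁).symm
  refine ⟨j, ψ ≫ φ₁, ?_⟩
  have hrel : (𝒯.pullback hL₀ hU (D.map (ψ ≫ φ₁))).Rel 1
      (pull 𝒯 (D.map ψ) (D.map φ₁) (D.map (ψ ≫ φ₁)) hq b₁) :=
    rel_pull_of_appLE_eq 𝒯 hL₀ hU (D.map ψ) (D.map φ₁) (D.map (ψ ≫ φ₁)) hq 1 b₁
      (fun a a' => appLE_eq_of_app_eq (D.map ψ) _ (hrelj (a, a')))
  obtain ⟨σ', O', hloc', hO'⟩ := (𝒯.pullback hL₀ hU (D.map (ψ ≫ φ₁))).exists_section_of_rel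
    (Frame.self _) _ hrel
  have hO'eq := (𝒯.pullback hL₀ hU (D.map (ψ ≫ φ₁))).eq_locus _ hO'
  rw [locus_pull 𝒯 hL₀ hU (D.map ψ) (D.map φ₁) (D.map (ψ ≫ φ₁)) hq b₁, hcovj] at hO'eq
  exact ⟨σ', hO'eq ▸ hloc'⟩

end Desc

section Perf

/-- **A perfection is the limit of the Frobenius tower.** -/
theorem exists_tower_iso (p : ℕ) [Fact p.Prime] {X XP : Scheme.{u}} [IsCharP X p] [IsCharP XP p]
    (πX : XP ⟶ X) (hX : IsPerfection πX p) :
    ∃ (c : Cone (tower X p)) (_ : IsLimit c) (a : XP ⟶ c.pt) (b : c.pt ⟶ XP),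
      a ≫ b = 𝟙 XP ∧ b ≫ a = 𝟙 c.pt ∧ a ≫ proj c 0 = πX ∧ b ≫ πX = proj c 0 := by
  haveI : ∀ {i j : (ULift.{u} ℕ)ᵒᵖ} (f : i ⟶ j), IsAffineHom ((tower X p).map f) :=
    fun f => isAffineHom_tower_map X p f
  haveI := Groth.Agent.Lib.AffLimExists_helper7.hasLimit_of_affine_transitions (tower X p)
  obtain ⟨c, hc⟩ : ∃ c : Cone (tower X p), Nonempty (IsLimit c) :=
    ⟨limit.cone _, ⟨limit.isLimit _⟩⟩
  obtain ⟨hc⟩ := hc
  haveI : IsCharP c.pt p := IsCharP.of_hom (proj c 0) p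
  have hperf := isPerfect_of_isLimit c hc
  obtain ⟨hXPperf, hUP⟩ := hX
  obtain ⟨a, ha⟩ := (bijective_of_isLimit c hc XP hXPperf).2 πX
  obtain ⟨b, hb⟩ := (hUP c.pt hperf).2 (proj c 0)
  have ha' : a ≫ proj c 0 = πX := ha
  have hb' : b ≫ πX = proj c 0 := hb
  have hab : a ≫ b = 𝟙 XP := by
    apply (hUP XP hXPperf).1
    show (a ≫ b) ≫ πX = 𝟙 XP ≫ πX
    rw [Category.assoc, hb', ha', Category.id_comp]
  have hba : b ≫ a = 𝟙 c.pt := by
    apply (bijective_of_isLimit c hc c.pt hperf).1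
    show (b ≫ a) ≫ proj c 0 = 𝟙 c.pt ≫ proj c 0
    rw [Category.assoc, ha', hb', Category.id_comp]
  exact ⟨c, hc, a, b, hab, hba, ha', hb'⟩

/-- `(F^n)^* L ≅ L^{⊗ p^n}` -/
theorem nonempty_frobPow_iso (p : ℕ) [Fact p.Prime] {X : Scheme.{u}} [IsCharP X p]
    {L : X.Modules} (hL : PicF.IsInvertible L) (n : ℕ) :
    Nonempty ((Scheme.Modules.pullback (frobPow X p n)).obj L ≅ CohB1.tensorPow L (p ^ n)) := by
  obtain ⟨Φ⟩ := exists_frame_frobPow X p hL n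
  exact Groth.Agent.VAmpPn.nonempty_iso_of_frames hL (Frame.pow L (p ^ n)) Φ

/-- **The kernel of `Pic(X) → Pic(X_perf)` is the `p`-power torsion.** -/
theorem main14925 (p : ℕ) [Fact p.Prime] {X XP : Scheme.{u}} [IsCharP X p] [IsCharP XP p]
    [CompactSpace X] [QuasiSeparatedSpace X] (πX : XP ⟶ X) (hX : IsPerfection πX p)
    (L : X.Modules) (hL : PicF.IsInvertible L) :
    PicF.IsTrivialCl (PicF.pullCl πX (PicF.cl L)) ↔
      ∃ n : ℕ, PicF.IsTrivialCl (PicF.cl (CohB1.tensorPow L (p ^ n))) := by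
  obtain ⟨c, hc, a, b, hab, hba, ha, hb⟩ := exists_tower_iso p πX hX
  haveI : ∀ {i j : (ULift.{u} ℕ)ᵒᵖ} (f : i ⟶ j), IsAffineHom ((tower X p).map f) :=
    fun f => isAffineHom_tower_map X p f
  constructor
  · intro h
    obtain ⟨γ⟩ := iso_of_cl_eq
      (show PicF.cl ((Scheme.Modules.pullback πX).obj L) = PicF.cl (Coh.structureModule XP) from h)
    -- triviality on the limit
    have γ' : (Scheme.Modules.pullback (c.π.app (op ⟨0⟩))).obj L ≅ Coh.structureModule c.pt :=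
      (pullbackCompIso b πX (proj c 0) hb L).symm ≪≫
        (Scheme.Modules.pullback b).mapIso γ ≪≫ pullbackUnitIso b
    haveI : ∀ i, CompactSpace ((tower X p).obj i) := fun _ => ‹CompactSpace X›
    haveI : ∀ i, QuasiSeparatedSpace ((tower X p).obj i) := fun _ => ‹QuasiSeparatedSpace X›
    obtain ⟨i, φ, hi⟩ := exists_isTriv_stage (tower X p) c hc (op ⟨0⟩) L hL (isTriv_of_iso γ')
    rw [tower_map] at hi
    obtain ⟨δ⟩ := iso_of_isTriv (isInvertible_pullback _ hL) hi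
    obtain ⟨ε⟩ := nonempty_frobPow_iso p hL (i.unop.down - 0)
    exact ⟨i.unop.down - 0, Quot.sound ⟨ε.symm ≪≫ δ⟩⟩
  · rintro ⟨n, h⟩
    obtain ⟨γ⟩ := iso_of_cl_eq h
    obtain ⟨ε⟩ := nonempty_frobPow_iso p hL n
    have hq : (a ≫ proj c n) ≫ frobPow X p n = πX := by
      rw [Category.assoc, proj_zero_pow, ha]
    have δ : (Scheme.Modules.pullback πX).obj L ≅ Coh.structureModule XP :=
      (pullbackCompIso (a ≫ proj c n) (frobPow X p n) πX hq L).symm ≪≫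
        (Scheme.Modules.pullback (a ≫ proj c n)).mapIso (ε ≪≫ γ) ≪≫
          pullbackUnitIso (a ≫ proj c n)
    exact Quot.sound ⟨δ⟩

/-- **Every class in `Pic(X_perf)` has a `p^n`-th multiple in the image of `Pic(X)`.** -/
theorem main14926 (p : ℕ) [Fact p.Prime] {X XP : Scheme.{u}} [IsCharP X p] [IsCharP XP p]
    [CompactSpace X] [QuasiSeparatedSpace X] (πX : XP ⟶ X) (hX : IsPerfection πX p)
    (M : XP.Modules) (hM : PicF.IsInvertible M) :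
    ∃ (n : ℕ) (L : X.Modules), PicF.IsInvertible L ∧
      PicF.cl (CohB1.tensorPow M (p ^ n)) = PicF.pullCl πX (PicF.cl L) := by
  obtain ⟨c, hc, a, b, hab, hba, ha, hb⟩ := exists_tower_iso p πX hX
  haveI : ∀ (i j : (ULift.{u} ℕ)ᵒᵖ) (f : i ⟶ j), IsAffineHom ((tower X p).map f) :=
    fun _ _ f => isAffineHom_tower_map X p f
  haveI : ∀ i, CompactSpace ((tower X p).obj i) := fun _ => ‹CompactSpace X›
  haveI : ∀ i, QuasiSeparatedSpace ((tower X p).obj i) := fun _ => ‹QuasiSeparatedSpace X›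
  obtain ⟨j, -, Lj, hLj, ⟨α⟩⟩ := Groth.Agent.Lib.ConsQPH6.exists_invertible_stage (tower X p) c hc
    (op ⟨0⟩) ((Scheme.Modules.pullback b).obj M) (isInvertible_pullback b hM)
  obtain ⟨n, hn⟩ : ∃ n : ℕ, n = j.unop.down := ⟨_, rfl⟩
  have α' : (Scheme.Modules.pullback (proj c n)).obj Lj ≅ (Scheme.Modules.pullback b).obj M := by
    subst hn
    exact α
  refine ⟨n, Lj, hLj, ?_⟩
  -- the base module on `XP`
  have β : M ≅ (Scheme.Modules.pullback (a ≫ proj c n)).obj Lj :=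
    ((Scheme.Modules.pullbackId XP).app M).symm ≪≫
      (pullbackCompIso a b (𝟙 XP) hab M).symm ≪≫
        (Scheme.Modules.pullback a).mapIso α'.symm ≪≫
          pullbackCompIso a (proj c n) (a ≫ proj c n) rfl Lj
  obtain ⟨Φ⟩ := exists_frame_frobPow X p hLj n
  have hq : (a ≫ proj c n) ≫ frobPow X p n = πX := by
    rw [Category.assoc, proj_zero_pow, ha]
  let Ψ : Frame M ((Scheme.Modules.pullback πX).obj Lj) (p ^ n) :=
    (frameComp (Frame.ofIso β) ((Φ.pullback (a ≫ proj c n) hLj).mapIso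
      (pullbackCompIso (a ≫ proj c n) (frobPow X p n) πX hq Lj))).cast (one_mul _)
  obtain ⟨θ⟩ := Groth.Agent.VAmpPn.nonempty_iso_of_frames hM Ψ (Frame.pow M (p ^ n))
  exact Quot.sound ⟨θ⟩

end Perf

end Groth.Agent.Lib.PerfAmpH6
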