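import Mathlib
import Groth.Prelude.Def_DRing2
import Groth.Agent.Lib.ExtendScalars_helper2

/-!
# Complexes of finite free modules given by matrices, and their base change (helper2)

* `Fr S k`, `mHom M`: free modules and the maps given by matrices.
* `freeCx n D sq`: the complex with terms `S^{n i}` and differentials the matrices `D i`.
* `freeEnd n D sq P comm`: the endomorphism given by matrices `P i` commuting with `D`.
* `βIso k : S' ⊗_S S^k ≅ S'^k`, natural with respect to matrices.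
* `freeCxBC`, `freeEnd_BC`: base change of `freeCx` and `freeEnd`.
-/

set_option autoImplicit false
universe u
open CategoryTheory Limits

namespace Groth.Agent.Lib.PerfDescent

open Groth.Agent.ExtendScalarsLib TensorProduct ChangeOfRings

section Free

variable (S : Type u) [CommRing S]

/-- the free module of rank `k` -/
abbrev Fr (k : ℕ) : ModuleCat.{u} S := ModuleCat.of S (Fin k → S)

variable {S}

/-- the morphism given by a matrix -/
noncomputable def mHom {k l : ℕ} (M : Matrix (Fin l) (Fin k) S) : Fr S k ⟶ Fr S l :=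
  ModuleCat.ofHom (Matrix.toLin' M)

lemma mHom_hom {k l : ℕ} (M : Matrix (Fin l) (Fin k) S) : (mHom M).hom = Matrix.toLin' M := rfl

lemma mHom_comp {k l m : ℕ} (M : Matrix (Fin l) (Fin k) S) (N : Matrix (Fin m) (Fin l) S) :
    mHom M ≫ mHom N = mHom (N * M) :=
  ModuleCat.hom_ext (by
    rw [ModuleCat.hom_comp, mHom_hom, mHom_hom, mHom_hom]
    exact (Matrix.toLin'_mul N M).symm)

lemma mHom_zero {k l : ℕ} : mHom (0 : Matrix (Fin l) (Fin k) S) = 0 :=
  ModuleCat.hom_ext (by rw [mHom_hom, map_zero]; rfl)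

lemma mHom_one {k : ℕ} : mHom (1 : Matrix (Fin k) (Fin k) S) = 𝟙 _ :=
  ModuleCat.hom_ext (by rw [mHom_hom, Matrix.toLin'_one]; rfl)

variable (n : ℤ → ℕ)

/-- the complex of free modules with differentials given by matrices -/
noncomputable def freeCx (D : ∀ i : ℤ, Matrix (Fin (n (i + 1))) (Fin (n i)) S)
    (sq : ∀ i : ℤ, D (i + 1) * D i = 0) : DRing.Cx S :=
  CochainComplex.of (fun i => Fr S (n i)) (fun i => mHom (D i)) (fun i => by
    rw [mHom_comp, sq, mHom_zero])

lemma freeCx_d (D : ∀ i : ℤ, Matrix (Fin (n (i + 1))) (Fin (n i)) S)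
    (sq : ∀ i : ℤ, D (i + 1) * D i = 0) (i : ℤ) :
    (freeCx n D sq).d i (i + 1) = mHom (D i) := by
  unfold freeCx
  exact CochainComplex.of_d (fun i => Fr S (n i)) (fun i => mHom (D i)) i

/-- the endomorphism given by matrices commuting with the differentials -/
noncomputable def freeEnd (D : ∀ i : ℤ, Matrix (Fin (n (i + 1))) (Fin (n i)) S)
    (sq : ∀ i : ℤ, D (i + 1) * D i = 0) (P : ∀ i : ℤ, Matrix (Fin (n i)) (Fin (n i)) S)
    (comm : ∀ i : ℤ, D i * P i = P (i + 1) * D i) : freeCx n D sq ⟶ freeCx n D sq :=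
  CochainComplex.ofHom (X := freeCx n D sq) (Y := freeCx n D sq) (fun i => mHom (P i)) (fun i => by
    rw [freeCx_d]
    show mHom (P i) ≫ mHom (D i) = mHom (D i) ≫ mHom (P (i + 1))
    rw [mHom_comp, mHom_comp, comm])

lemma freeEnd_f (D : ∀ i : ℤ, Matrix (Fin (n (i + 1))) (Fin (n i)) S)
    (sq : ∀ i : ℤ, D (i + 1) * D i = 0) (P : ∀ i : ℤ, Matrix (Fin (n i)) (Fin (n i)) S)
    (comm : ∀ i : ℤ, D i * P i = P (i + 1) * D i) (i : ℤ) :
    (freeEnd n D sq P comm).f i = mHom (P i) := rfl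

lemma freeEnd_idem (D : ∀ i : ℤ, Matrix (Fin (n (i + 1))) (Fin (n i)) S)
    (sq : ∀ i : ℤ, D (i + 1) * D i = 0) (P : ∀ i : ℤ, Matrix (Fin (n i)) (Fin (n i)) S)
    (comm : ∀ i : ℤ, D i * P i = P (i + 1) * D i) (hP : ∀ i, P i * P i = P i) :
    freeEnd n D sq P comm ≫ freeEnd n D sq P comm = freeEnd n D sq P comm := by
  refine HomologicalComplex.hom_ext _ _ (fun i => ?_)
  rw [HomologicalComplex.comp_f, freeEnd_f]
  show mHom (P i) ≫ mHom (P i) = mHom (P i)
  rw [mHom_comp, hP]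

end Free

section BC

variable {S S' : Type u} [CommRing S] [CommRing S'] [Algebra S S']

/-- `S' ⊗_S S^k ≅ S'^k` -/
noncomputable def βIso (k : ℕ) :
    (ModuleCat.extendScalars (algebraMap S S')).obj (Fr S k) ≅ Fr S' k :=
  ((extendScalarsEquivTensor (S := S') (Fr S k)).trans
    (TensorProduct.piScalarRight S S' S' (Fin k))).toModuleIso

lemma βIso_hom_one_tmul (k : ℕ) (v : Fin k → S) :
    (βIso (S' := S') k).hom.hom ((1 : S') ⊗ₜ[S, algebraMap S S'] v) =
      fun i => algebraMap S S' (v i) := by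
  show TensorProduct.piScalarRight S S' S' (Fin k)
    (extendScalarsEquivTensor (S := S') (Fr S k) ((1 : S') ⊗ₜ[S, algebraMap S S'] v)) = _
  rw [extendScalarsEquivTensor_tmul, TensorProduct.piScalarRight_apply,
    TensorProduct.piScalarRightHom_tmul]
  funext i
  rw [Algebra.smul_def, mul_one]

lemma βIso_naturality {k l : ℕ} (M : Matrix (Fin l) (Fin k) S) :
    (ModuleCat.extendScalars (algebraMap S S')).map (mHom M) ≫ (βIso l).hom =
      (βIso k).hom ≫ mHom (M.map (algebraMap S S')) := by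
  apply ModuleCat.ExtendScalars.hom_ext
  intro v
  show (βIso l).hom.hom (((ModuleCat.extendScalars (algebraMap S S')).map (mHom M)).hom
      ((1 : S') ⊗ₜ[S, algebraMap S S'] v)) =
    (mHom (M.map (algebraMap S S'))).hom ((βIso k).hom.hom ((1 : S') ⊗ₜ[S, algebraMap S S'] v))
  have h1 : ((ModuleCat.extendScalars (algebraMap S S')).map (mHom M)).hom
      ((1 : S') ⊗ₜ[S, algebraMap S S'] v) =
      (1 : S') ⊗ₜ[S, algebraMap S S'] ((mHom M).hom v) :=
    ModuleCat.ExtendScalars.map_tmul _ _ _ _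
  refine (congrArg (βIso l).hom.hom h1).trans ?_
  refine (βIso_hom_one_tmul l _).trans ?_
  refine Eq.trans ?_
    (congrArg (mHom (M.map (algebraMap S S'))).hom (βIso_hom_one_tmul k v)).symm
  rw [mHom_hom, mHom_hom]
  funext i
  rw [Matrix.toLin'_apply, Matrix.toLin'_apply, Matrix.mulVec, Matrix.mulVec, dotProduct,
    dotProduct, map_sum]
  refine Finset.sum_congr rfl (fun j _ => ?_)
  rw [map_mul, Matrix.map_apply]

/-- base change of complexes -/
noncomputable abbrev Gc : DRing.Cx S ⥤ DRing.Cx S' :=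
  (ModuleCat.extendScalars (algebraMap S S')).mapHomologicalComplex (ComplexShape.up ℤ)

variable (n : ℤ → ℕ)

/-- base change of `freeCx` -/
noncomputable def freeCxBC (D : ∀ i : ℤ, Matrix (Fin (n (i + 1))) (Fin (n i)) S)
    (sq : ∀ i : ℤ, D (i + 1) * D i = 0)
    (D' : ∀ i : ℤ, Matrix (Fin (n (i + 1))) (Fin (n i)) S')
    (sq' : ∀ i : ℤ, D' (i + 1) * D' i = 0) (hD : ∀ i, D' i = (D i).map (algebraMap S S')) :
    (Gc (S' := S')).obj (freeCx n D sq) ≅ freeCx n D' sq' :=
  HomologicalComplex.Hom.isoOfComponents (fun i => βIso (n i)) (by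
    rintro i j (rfl : i + 1 = j)
    rw [freeCx_d, hD]
    show _ = (ModuleCat.extendScalars (algebraMap S S')).map ((freeCx n D sq).d i (i + 1)) ≫ _
    rw [freeCx_d]
    exact (βIso_naturality (D i)).symm)

lemma freeCxBC_hom_f (D : ∀ i : ℤ, Matrix (Fin (n (i + 1))) (Fin (n i)) S)
    (sq : ∀ i : ℤ, D (i + 1) * D i = 0)
    (D' : ∀ i : ℤ, Matrix (Fin (n (i + 1))) (Fin (n i)) S')
    (sq' : ∀ i : ℤ, D' (i + 1) * D' i = 0) (hD : ∀ i, D' i = (D i).map (algebraMap S S'))
    (i : ℤ) : (freeCxBC n D sq D' sq' hD).hom.f i = (βIso (n i)).hom := rfl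

lemma freeEnd_BC (D : ∀ i : ℤ, Matrix (Fin (n (i + 1))) (Fin (n i)) S)
    (sq : ∀ i : ℤ, D (i + 1) * D i = 0)
    (D' : ∀ i : ℤ, Matrix (Fin (n (i + 1))) (Fin (n i)) S')
    (sq' : ∀ i : ℤ, D' (i + 1) * D' i = 0) (hD : ∀ i, D' i = (D i).map (algebraMap S S'))
    (P : ∀ i : ℤ, Matrix (Fin (n i)) (Fin (n i)) S)
    (comm : ∀ i : ℤ, D i * P i = P (i + 1) * D i)
    (P' : ∀ i : ℤ, Matrix (Fin (n i)) (Fin (n i)) S')
    (comm' : ∀ i : ℤ, D' i * P' i = P' (i + 1) * D' i)
    (hP : ∀ i, P' i = (P i).map (algebraMap S S')) :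
    (Gc (S' := S')).map (freeEnd n D sq P comm) ≫ (freeCxBC n D sq D' sq' hD).hom =
      (freeCxBC n D sq D' sq' hD).hom ≫ freeEnd n D' sq' P' comm' := by
  refine HomologicalComplex.hom_ext _ _ (fun i => ?_)
  rw [HomologicalComplex.comp_f, HomologicalComplex.comp_f, freeCxBC_hom_f, freeEnd_f, hP]
  show (ModuleCat.extendScalars (algebraMap S S')).map ((freeEnd n D sq P comm).f i) ≫ _ = _
  rw [freeEnd_f]
  exact βIso_naturality (P i)

end BC

end Groth.Agent.Lib.PerfDescent
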