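import Mathlib
import Groth.Prelude.Def_DRing2
import Groth.Prelude.Def_DDual2
import Groth.Agent.Lib.PerfDescent1_helper2
import Groth.Agent.Lib.FiltColimStage_lead
import Groth.Agent.Lib.DMod48_helper6

/-!
# Perfect complexes descend along filtered colimits of rings (helper2)

A bounded complex of finite projective modules is a retract of a bounded complex of finite free
modules given by matrices; the finitely many matrix entries (differentials and the idempotent) live
over a finitely generated `ℤ`-subalgebra, hence come from a stage of the filtered colimit; the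
idempotent is split at that stage.
-/

set_option autoImplicit false
universe u
open CategoryTheory Limits
attribute [local instance] HasDerivedCategory.standard

namespace Groth.Agent.Lib.PerfDescent

open Groth.Agent.ExtendScalarsLib TensorProduct ChangeOfRings DRing

section Pres

variable {S : Type u} [CommRing S]

lemma mHom_toMatrix' {k l : ℕ} (f : Fr S k ⟶ Fr S l) : mHom (LinearMap.toMatrix' f.hom) = f :=
  ModuleCat.hom_ext (Matrix.toLin'_toMatrix' f.hom)

lemma mHom_injective {k l : ℕ} :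
    Function.Injective (mHom : Matrix (Fin l) (Fin k) S → (Fr S k ⟶ Fr S l)) := fun M N h =>
  Matrix.toLin'.injective (congrArg ModuleCat.Hom.hom h)

lemma exists_retract_free (M : ModuleCat.{u} S) (hf : Module.Finite S M)
    (hp : Module.Projective S M) :
    ∃ (k : ℕ) (s : M ⟶ Fr S k) (p : Fr S k ⟶ M), s ≫ p = 𝟙 M ∧ (IsZero M → k = 0) := by
  by_cases hz : IsZero M
  · exact ⟨0, 0, 0, hz.eq_of_src _ _, fun _ => rfl⟩
  · obtain ⟨k, f, g, -, -, hfg⟩ := Module.Finite.exists_comp_eq_id_of_projective S M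
    exact ⟨k, ModuleCat.ofHom g, ModuleCat.ofHom f, ModuleCat.hom_ext hfg, fun h => absurd h hz⟩

variable (E : DRing.Cx S) (n : ℤ → ℕ) (s : ∀ i, E.X i ⟶ Fr S (n i))
  (p : ∀ i, Fr S (n i) ⟶ E.X i)

/-- the matrices of the differentials -/
noncomputable def presD (i : ℤ) : Matrix (Fin (n (i + 1))) (Fin (n i)) S :=
  LinearMap.toMatrix' (p i ≫ E.d i (i + 1) ≫ s (i + 1)).hom

/-- the matrices of the idempotent -/
noncomputable def presP (i : ℤ) : Matrix (Fin (n i)) (Fin (n i)) S :=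
  LinearMap.toMatrix' (p i ≫ s i).hom

lemma mHom_presD (i : ℤ) : mHom (presD E n s p i) = p i ≫ E.d i (i + 1) ≫ s (i + 1) :=
  mHom_toMatrix' _

lemma mHom_presP (i : ℤ) : mHom (presP E n s p i) = p i ≫ s i :=
  mHom_toMatrix' _

variable (hsp : ∀ i, s i ≫ p i = 𝟙 (E.X i))

include hsp

lemma presD_sq (i : ℤ) : presD E n s p (i + 1) * presD E n s p i = 0 := by
  apply mHom_injective
  rw [← mHom_comp, mHom_presD, mHom_presD, mHom_zero]
  simp only [Category.assoc]
  rw [reassoc_of% (hsp (i + 1)), HomologicalComplex.d_comp_d_assoc, zero_comp, comp_zero]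

lemma presP_comm (i : ℤ) :
    presD E n s p i * presP E n s p i = presP E n s p (i + 1) * presD E n s p i := by
  apply mHom_injective
  rw [← mHom_comp, ← mHom_comp, mHom_presD, mHom_presP, mHom_presP]
  simp only [Category.assoc]
  rw [reassoc_of% (hsp i), reassoc_of% (hsp (i + 1))]

lemma presP_idem (i : ℤ) : presP E n s p i * presP E n s p i = presP E n s p i := by
  apply mHom_injective
  rw [← mHom_comp, mHom_presP]
  simp only [Category.assoc]
  rw [reassoc_of% (hsp i)]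

/-- the inclusion of `E` into the free complex -/
noncomputable def presσ : E ⟶ freeCx n (presD E n s p) (presD_sq E n s p hsp) where
  f i := s i
  comm' := by
    rintro i j (rfl : i + 1 = j)
    rw [freeCx_d, mHom_presD]
    show s i ≫ p i ≫ E.d i (i + 1) ≫ s (i + 1) = E.d i (i + 1) ≫ s (i + 1)
    rw [reassoc_of% (hsp i)]

/-- the retraction of the free complex onto `E` -/
noncomputable def presr : freeCx n (presD E n s p) (presD_sq E n s p hsp) ⟶ E where
  f i := p i
  comm' := by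
    rintro i j (rfl : i + 1 = j)
    rw [freeCx_d, mHom_presD]
    show p i ≫ E.d i (i + 1) = (p i ≫ E.d i (i + 1) ≫ s (i + 1)) ≫ p (i + 1)
    rw [Category.assoc, Category.assoc, hsp (i + 1), Category.comp_id]

lemma presσ_r : presσ E n s p hsp ≫ presr E n s p hsp = 𝟙 E :=
  HomologicalComplex.hom_ext _ _ (fun i => hsp i)

lemma presr_σ : presr E n s p hsp ≫ presσ E n s p hsp =
    freeEnd n (presD E n s p) (presD_sq E n s p hsp) (presP E n s p) (presP_comm E n s p hsp) :=
  HomologicalComplex.hom_ext _ _ (fun i => (mHom_presP E n s p i).symm)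

end Pres

section Descent

variable {J : Type u} [SmallCategory J] [IsFiltered J] (F : J ⥤ CommRingCat.{u}) (c : Cocone F)
  (hc : IsColimit c)

include hc in
theorem exists_descent_matrices (n : ℤ → ℕ) (a b : ℤ) (hn : ∀ i, i < a ∨ b < i → n i = 0)
    (D : ∀ i : ℤ, Matrix (Fin (n (i + 1))) (Fin (n i)) c.pt) (sq : ∀ i, D (i + 1) * D i = 0)
    (P : ∀ i : ℤ, Matrix (Fin (n i)) (Fin (n i)) c.pt)
    (comm : ∀ i, D i * P i = P (i + 1) * D i) (idem : ∀ i, P i * P i = P i) :
    ∃ (j : J) (Dj : ∀ i : ℤ, Matrix (Fin (n (i + 1))) (Fin (n i)) (F.obj j))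
      (Pj : ∀ i : ℤ, Matrix (Fin (n i)) (Fin (n i)) (F.obj j)),
      (∀ i, Dj (i + 1) * Dj i = 0) ∧ (∀ i, Dj i * Pj i = Pj (i + 1) * Dj i) ∧
      (∀ i, Pj i * Pj i = Pj i) ∧ (∀ i, D i = (Dj i).map (c.ι.app j).hom) ∧
      (∀ i, P i = (Pj i).map (c.ι.app j).hom) := by
  classical
  let ent : Set c.pt := ⋃ i ∈ Finset.Icc a b,
    (Set.range (fun x : Fin (n (i + 1)) × Fin (n i) => D i x.1 x.2)) ∪
      (Set.range (fun x : Fin (n i) × Fin (n i) => P i x.1 x.2))
  have hent : ent.Finite :=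
    Set.Finite.biUnion (Finset.finite_toSet _)
      (fun i _ => (Set.finite_range _).union (Set.finite_range _))
  let R₀ : Subalgebra ℤ c.pt := Algebra.adjoin ℤ ent
  have hfg : R₀.FG := Subalgebra.fg_def.2 ⟨ent, hent, rfl⟩
  have hFT : Algebra.FiniteType ℤ R₀ := (Subalgebra.fg_iff_finiteType R₀).1 hfg
  have hFP0 : Algebra.FinitePresentation ℤ R₀ := Algebra.FinitePresentation.of_finiteType.1 hFT
  haveI hFP : @Algebra.FinitePresentation ℤ R₀ _ _ (Ring.toIntAlgebra R₀) := by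
    convert hFP0
  have hDmem : ∀ i x y, D i x y ∈ R₀ := by
    intro i x y
    by_cases h : a ≤ i ∧ i ≤ b
    · exact Algebra.subset_adjoin
        (Set.mem_biUnion (Finset.mem_coe.2 (Finset.mem_Icc.2 h)) (Or.inl ⟨(x, y), rfl⟩))
    · have h0 : n i = 0 := hn i (by omega)
      have := y.pos
      omega
  have hPmem : ∀ i x y, P i x y ∈ R₀ := by
    intro i x y
    by_cases h : a ≤ i ∧ i ≤ b
    · exact Algebra.subset_adjoin
        (Set.mem_biUnion (Finset.mem_coe.2 (Finset.mem_Icc.2 h)) (Or.inr ⟨(x, y), rfl⟩))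
    · have h0 : n i = 0 := hn i (by omega)
      have := y.pos
      omega
  let D₀ : ∀ i : ℤ, Matrix (Fin (n (i + 1))) (Fin (n i)) R₀ := fun i x y => ⟨D i x y, hDmem i x y⟩
  let P₀ : ∀ i : ℤ, Matrix (Fin (n i)) (Fin (n i)) R₀ := fun i x y => ⟨P i x y, hPmem i x y⟩
  let χ : R₀ →+* c.pt := (R₀.val : R₀ →ₐ[ℤ] c.pt).toRingHom
  have hχ : Function.Injective χ := Subtype.val_injective
  have hD₀ : ∀ i, (D₀ i).map χ = D i := fun i => rfl
  have hP₀ : ∀ i, (P₀ i).map χ = P i := fun i => rfl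
  have sq₀ : ∀ i, D₀ (i + 1) * D₀ i = 0 := by
    intro i
    apply Matrix.map_injective hχ
    show (D₀ (i + 1) * D₀ i).map χ = (0 : Matrix _ _ R₀).map χ
    rw [Matrix.map_mul, hD₀, hD₀, sq, Matrix.map_zero _ (map_zero χ)]
  have comm₀ : ∀ i, D₀ i * P₀ i = P₀ (i + 1) * D₀ i := by
    intro i
    apply Matrix.map_injective hχ
    show (D₀ i * P₀ i).map χ = (P₀ (i + 1) * D₀ i).map χ
    rw [Matrix.map_mul, Matrix.map_mul, hD₀, hP₀, hP₀, comm]
  have idem₀ : ∀ i, P₀ i * P₀ i = P₀ i := by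
    intro i
    apply Matrix.map_injective hχ
    show (P₀ i * P₀ i).map χ = (P₀ i).map χ
    rw [Matrix.map_mul, hP₀, idem]
  obtain ⟨j, φ, hφ⟩ := Groth.Agent.Lib.FiltColimStage.exists_factor F c hc R₀ χ
  refine ⟨j, fun i => (D₀ i).map φ, fun i => (P₀ i).map φ, ?_, ?_, ?_, ?_, ?_⟩
  · intro i
    rw [← Matrix.map_mul, sq₀, Matrix.map_zero _ (map_zero φ)]
  · intro i
    rw [← Matrix.map_mul, ← Matrix.map_mul, comm₀]
  · intro i
    rw [← Matrix.map_mul, idem₀]
  · intro i
    ext x y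
    exact (RingHom.congr_fun hφ (D₀ i x y)).symm
  · intro i
    ext x y
    exact (RingHom.congr_fun hφ (P₀ i x y)).symm

end Descent

section Split

variable {S S' : Type u} [CommRing S] [CommRing S'] [Algebra S S']

theorem exists_descent_of_matrices (E : DRing.Cx S') (n : ℤ → ℕ) (a b : ℤ)
    (hn : ∀ i, i < a ∨ b < i → n i = 0) (s : ∀ i, E.X i ⟶ Fr S' (n i))
    (p : ∀ i, Fr S' (n i) ⟶ E.X i) (hsp : ∀ i, s i ≫ p i = 𝟙 (E.X i))
    (Dj : ∀ i : ℤ, Matrix (Fin (n (i + 1))) (Fin (n i)) S)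
    (Pj : ∀ i : ℤ, Matrix (Fin (n i)) (Fin (n i)) S)
    (sqj : ∀ i, Dj (i + 1) * Dj i = 0) (commj : ∀ i, Dj i * Pj i = Pj (i + 1) * Dj i)
    (idemj : ∀ i, Pj i * Pj i = Pj i)
    (hD : ∀ i, presD E n s p i = (Dj i).map (algebraMap S S'))
    (hP : ∀ i, presP E n s p i = (Pj i).map (algebraMap S S')) :
    ∃ (Ej : DRing.Cx S), VanishesOutside Ej a b ∧ TermwiseFiniteProjective Ej ∧
      Nonempty ((Gc (S' := S')).obj Ej ≅ E) := by
  obtain ⟨Ej, ι, ε, hιε, hει⟩ := IsIdempotentComplete.idempotents_split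
    (freeCx n Dj sqj) (freeEnd n Dj sqj Pj commj) (freeEnd_idem n Dj sqj Pj commj idemj)
  have hι : ∀ i, (ι.f i ≫ ε.f i : Ej.X i ⟶ Ej.X i) = 𝟙 (Ej.X i) := fun i =>
    HomologicalComplex.congr_hom hιε i
  refine ⟨Ej, ?_, ?_, ?_⟩
  · intro i hi
    have hz : IsZero (Fr S (n i)) := by
      rw [hn i hi]
      exact ModuleCat.isZero_of_subsingleton _
    have h0 : (ι.f i : Ej.X i ⟶ Fr S (n i)) = 0 := hz.eq_of_tgt _ _
    refine (IsZero.iff_id_eq_zero _).2 ?_
    rw [← hι i]
    exact (congrArg (fun k => k ≫ ε.f i) h0).trans zero_comp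
  · intro i
    let ιi : Ej.X i ⟶ Fr S (n i) := ι.f i
    let εi : Fr S (n i) ⟶ Ej.X i := ε.f i
    have H : εi.hom ∘ₗ ιi.hom = LinearMap.id := by
      have := congrArg ModuleCat.Hom.hom (hι i)
      exact this
    constructor
    · exact Module.Finite.of_surjective εi.hom
        (fun x => ⟨ιi.hom x, LinearMap.congr_fun H x⟩)
    · exact Module.Projective.of_split ιi.hom εi.hom H
  · let θ := freeCxBC n Dj sqj (presD E n s p) (presD_sq E n s p hsp) hD
    let σ := presσ E n s p hsp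
    let r := presr E n s p hsp
    let fE := freeEnd n (presD E n s p) (presD_sq E n s p hsp) (presP E n s p)
      (presP_comm E n s p hsp)
    let πj := freeEnd n Dj sqj Pj commj
    have hει' : ε ≫ ι = πj := hει
    have hσr : σ ≫ r = 𝟙 E := presσ_r E n s p hsp
    have hrσ : r ≫ σ = fE := presr_σ E n s p hsp
    have hBC : (Gc (S' := S')).map πj ≫ θ.hom = θ.hom ≫ fE :=
      freeEnd_BC n Dj sqj (presD E n s p) (presD_sq E n s p hsp) hD Pj commj (presP E n s p)
        (presP_comm E n s p hsp) hP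
    have h1 : θ.hom ≫ (r ≫ σ) ≫ θ.inv = (Gc (S' := S')).map πj := by
      rw [hrσ, ← Category.assoc, ← hBC, Category.assoc, Iso.hom_inv_id, Category.comp_id]
    have h2 : θ.inv ≫ (Gc (S' := S')).map πj ≫ θ.hom = fE := by
      rw [hBC, Iso.inv_hom_id_assoc]
    have h3 : ι ≫ πj ≫ ε = 𝟙 Ej := by
      rw [← hει', Category.assoc, hιε, Category.comp_id, hιε]
    have h4 : (Gc (S' := S')).map ε ≫ (Gc (S' := S')).map ι = (Gc (S' := S')).map πj := by
      rw [← CategoryTheory.Functor.map_comp, hει']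
    refine ⟨{ hom := (Gc (S' := S')).map ι ≫ θ.hom ≫ r
              inv := σ ≫ θ.inv ≫ (Gc (S' := S')).map ε
              hom_inv_id := ?_
              inv_hom_id := ?_ }⟩
    · calc ((Gc (S' := S')).map ι ≫ θ.hom ≫ r) ≫ σ ≫ θ.inv ≫ (Gc (S' := S')).map ε
          = (Gc (S' := S')).map ι ≫ (θ.hom ≫ (r ≫ σ) ≫ θ.inv) ≫ (Gc (S' := S')).map ε := by
            simp only [Category.assoc]
        _ = (Gc (S' := S')).map (ι ≫ πj ≫ ε) := by
            rw [h1, CategoryTheory.Functor.map_comp, CategoryTheory.Functor.map_comp]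
        _ = 𝟙 _ := by rw [h3, CategoryTheory.Functor.map_id]
    · calc (σ ≫ θ.inv ≫ (Gc (S' := S')).map ε) ≫ (Gc (S' := S')).map ι ≫ θ.hom ≫ r
          = σ ≫ (θ.inv ≫ ((Gc (S' := S')).map ε ≫ (Gc (S' := S')).map ι) ≫ θ.hom) ≫ r := by
            simp only [Category.assoc]
        _ = σ ≫ (r ≫ σ) ≫ r := by rw [h4, h2, hrσ]
        _ = (σ ≫ r) ≫ (σ ≫ r) := by simp only [Category.assoc]
        _ = 𝟙 E := by rw [hσr, Category.comp_id]

end Split

section Main

open Groth.Agent.Lib.DMod_helper6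

theorem main {J : Type u} [SmallCategory J] [IsFiltered J]
    (F : J ⥤ CommRingCat.{u}) (c : Cocone F) (hc : IsColimit c)
    [∀ j : J, DRing.HasLBaseChange (c.ι.app j).hom] (K : Dual.D c.pt)
    (hK : DRing.IsPerfect c.pt K) :
    ∃ (j : J) (Kj : Dual.D (F.obj j)), DRing.IsPerfect (F.obj j) Kj ∧
      Nonempty ((DRing.LBaseChange (c.ι.app j).hom).obj Kj ≅ K) := by
  obtain ⟨E, a, b, hEv, hEfp, ⟨eK⟩⟩ := hK
  choose n s p hsp hn0 using fun i => exists_retract_free (E.X i) (hEfp i).1 (hEfp i).2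
  have hn : ∀ i, i < a ∨ b < i → n i = 0 := fun i hi => hn0 i (hEv i hi)
  obtain ⟨j, Dj, Pj, sqj, commj, idemj, hD, hP⟩ := exists_descent_matrices F c hc n a b hn
    (presD E n s p) (presD_sq E n s p hsp) (presP E n s p) (presP_comm E n s p hsp)
    (presP_idem E n s p hsp)
  letI : Algebra (F.obj j) c.pt := (c.ι.app j).hom.toAlgebra
  obtain ⟨Ej, hv, hfp, ⟨e⟩⟩ := exists_descent_of_matrices (S := F.obj j) (S' := c.pt) E n a b hn
    s p hsp Dj Pj sqj commj idemj hD hP
  haveI : Ej.IsKProjective :=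
    isKProjective_of_projective_bounded Ej b (fun i hi => hv i (Or.inr hi)) (fun i => (hfp i).2)
  obtain ⟨eL⟩ := nonempty_lBaseChange_iso_of_isKProjective (c.ι.app j).hom Ej
  exact ⟨j, toD Ej, ⟨Ej, a, b, hv, hfp, ⟨Iso.refl _⟩⟩,
    ⟨eL ≪≫ DerivedCategory.Q.mapIso e ≪≫ eK⟩⟩

end Main

end Groth.Agent.Lib.PerfDescent
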