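import Mathlib
import Groth.Prelude
import Groth.Agent.Lib.RSheafHomEx1_helper3
import Groth.Agent.Lib.TTGen2_lead
import Groth.Agent.Lib.CompQ2_lead
import Groth.Agent.Lib.LpullAdj_helper3

/-!
# Isomorphisms in `D_QCoh` are detected by `Rf_* RHom(E, -)`, `E` perfect (helper3; S7875)
-/

set_option autoImplicit false
set_option linter.all false
set_option maxHeartbeats 1600000
set_option backward.isDefEq.respectTransparency false
set_option backward.isDefEq.respectTransparency.types false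
set_option backward.defeqAttrib.useBackward true

universe u
open CategoryTheory CategoryTheory.Limits AlgebraicGeometry Opposite TopologicalSpace
open DerivedCategory CategoryTheory.Pretriangulated

attribute [local instance] HasDerivedCategory.standard

namespace Groth.Agent.Lib.PerfDetectH3

open Groth.Agent.Lib Groth.Agent.Lib.CompQL Groth.Agent.Lib.DualSchH3
open Groth.Agent.Lib.DCohLocLead Groth.Agent.Lib.PerfLocL

section Shift

variable {D : Type*} [Category D] [Preadditive D] [HasShift D ℤ]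
  [∀ n : ℤ, (shiftFunctor D n).Additive]

/-- bijectivity of `Hom(A[-n], f)` gives bijectivity of `Hom(A, f[n])` -/
theorem bijective_shift_of_bijective {A X Y : D} (f : X ⟶ Y) (n : ℤ)
    (h : Function.Bijective (fun g : A⟦-n⟧ ⟶ X => g ≫ f)) :
    Function.Bijective (fun g : A ⟶ X⟦n⟧ => g ≫ f⟦n⟧') := by
  let e : (A⟦-n⟧)⟦n⟧ ≅ A := shiftNegShift A n
  have hsurj : ∀ {Z : D} (k : A ⟶ Z⟦n⟧), ∃ k₀ : A⟦-n⟧ ⟶ Z, k = e.inv ≫ k₀⟦n⟧' := by
    intro Z k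
    obtain ⟨k₀, hk₀⟩ := (shiftFunctor D n).map_surjective (e.hom ≫ k)
    exact ⟨k₀, by rw [hk₀, Iso.inv_hom_id_assoc]⟩
  constructor
  · intro g₁ g₂ hg
    obtain ⟨k₁, rfl⟩ := hsurj g₁
    obtain ⟨k₂, rfl⟩ := hsurj g₂
    have h1 : (k₁ ≫ f)⟦n⟧' = (k₂ ≫ f)⟦n⟧' := by
      have h2 : (e.inv ≫ k₁⟦n⟧') ≫ f⟦n⟧' = (e.inv ≫ k₂⟦n⟧') ≫ f⟦n⟧' := hg
      rw [Category.assoc, Category.assoc, ← Functor.map_comp, ← Functor.map_comp,
        cancel_epi] at h2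
      exact h2
    have h3 : k₁ = k₂ := h.1 ((shiftFunctor D n).map_injective h1)
    rw [h3]
  · intro k
    obtain ⟨k₀, rfl⟩ := hsurj k
    obtain ⟨g₀, hg₀⟩ := h.2 k₀
    refine ⟨e.inv ≫ g₀⟦n⟧', ?_⟩
    show (e.inv ≫ g₀⟦n⟧') ≫ f⟦n⟧' = e.inv ≫ k₀⟦n⟧'
    rw [Category.assoc, ← Functor.map_comp]
    exact congrArg (fun t => e.inv ≫ t⟦n⟧') hg₀

end Shift

noncomputable section

variable {X S : Scheme.{u}}

theorem isPerfect_of_iso {K K' : DCoh.D X} (e : K ≅ K') (h : DCoh.IsPerfect K) :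
    DCoh.IsPerfect K' := by
  intro x
  obtain ⟨V, hxV, hV⟩ := h x
  exact ⟨V, hxV, fun F ⟨i⟩ => hV F ⟨i ≪≫ e.symm⟩⟩

/-- `Hom(E₀, φ)` is bijective for every perfect `E₀` -/
theorem bijective_comp_of_perfect (f : X ⟶ S) [DCoh.HasRpush f] {F G : DCoh.D X} (φ : F ⟶ G)
    (h : ∀ (E : CochainComplex X.Modules ℤ) [DCoh.HasLTensorCx E] [DCoh.HasRSheafHom E],
      DCoh.IsPerfect (DCoh.toD X E) →
      IsIso ((DCoh.Rpush f).map ((DCoh.RSheafHom E).map φ)))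
    (E₀ : DCoh.D X) (hE₀ : DCoh.IsPerfect E₀) :
    Function.Bijective (fun g : E₀ ⟶ F => g ≫ φ) := by
  haveI : DCoh.HasLpull f := LpullExH3.hasLpull f
  obtain ⟨R, π, hR, hπ⟩ := Groth.Agent.Lib.DTorCmp.exists_kflat_resolution' (Q.objPreimage E₀)
  haveI := hπ
  haveI : IsIso (Q.map π) := by rw [DerivedCategory.isIso_Q_map_iff_quasiIso]; infer_instance
  let eR : Q.obj R ≅ E₀ := asIso (Q.map π) ≪≫ Q.objObjPreimageIso E₀
  haveI : DCoh.HasLTensorCx R := Groth.Agent.Lib.PjCxH3.hasLTensorCx_of_isKFlat R hR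
  haveI : DCoh.HasRSheafHom R := Groth.Agent.Lib.RSheafHomExH3.hasRSheafHom R
  haveI hiso : IsIso ((DCoh.RSheafHom R ⋙ DCoh.Rpush f).map φ) :=
    h R (isPerfect_of_iso eR.symm hE₀)
  obtain ⟨adjf⟩ := Groth.Agent.Lib.LpullAdjH3.nonempty_adj f
  let adj : DCoh.Lpull f ⋙ DCoh.LTensorCx R ⊣ DCoh.RSheafHom R ⋙ DCoh.Rpush f :=
    adjf.comp (DCoh.RSheafHomAdj R)
  let OS : DCoh.D S := sgl S 0 (Coh.structureModule S)
  obtain ⟨c⟩ := lpull_sgl_unit f 0 OS ⟨Iso.refl _⟩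
  obtain ⟨eu⟩ := nonempty_LTensorCx_unit_iso R hR
  let a : (DCoh.Lpull f ⋙ DCoh.LTensorCx R).obj OS ≅ E₀ :=
    (DCoh.LTensorCx R).mapIso c ≪≫ eu ≪≫ eR
  have hnat : ∀ g : (DCoh.Lpull f ⋙ DCoh.LTensorCx R).obj OS ⟶ F,
      adj.homEquiv OS G (g ≫ φ) =
        adj.homEquiv OS F g ≫ (DCoh.RSheafHom R ⋙ DCoh.Rpush f).map φ :=
    fun g => adj.homEquiv_naturality_right g φ
  constructor
  · intro g₁ g₂ hg
    have hg' : (a.hom ≫ g₁) ≫ φ = (a.hom ≫ g₂) ≫ φ := by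
      rw [Category.assoc, Category.assoc]
      exact congrArg (fun t => a.hom ≫ t) hg
    have h1 := congrArg (adj.homEquiv OS G) hg'
    rw [hnat, hnat, cancel_mono] at h1
    have h2 := (adj.homEquiv OS F).injective h1
    exact (cancel_epi a.hom).1 h2
  · intro k
    refine ⟨a.inv ≫ (adj.homEquiv OS F).symm (adj.homEquiv OS G (a.hom ≫ k) ≫
      inv ((DCoh.RSheafHom R ⋙ DCoh.Rpush f).map φ)), ?_⟩
    show (a.inv ≫ _) ≫ φ = k
    rw [Category.assoc, Iso.inv_comp_eq]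
    apply (adj.homEquiv OS G).injective
    rw [hnat, Equiv.apply_symm_apply, Category.assoc, IsIso.inv_hom_id, Category.comp_id]

/-- **S7875** -/
theorem main7875 [CompactSpace X] [QuasiSeparatedSpace X] (f : X ⟶ S) [DCoh.HasRpush f]
    {F G : DCoh.D X} (hF : DCoh.IsQCohD F) (hG : DCoh.IsQCohD G) (φ : F ⟶ G)
    (h : ∀ (E : CochainComplex X.Modules ℤ) [DCoh.HasLTensorCx E] [DCoh.HasRSheafHom E],
      DCoh.IsPerfect (DCoh.toD X E) →
      IsIso ((DCoh.Rpush f).map ((DCoh.RSheafHom E).map φ))) :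
    IsIso φ := by
  have key := bijective_comp_of_perfect f φ h
  obtain ⟨C, a, b, hT⟩ := distinguished_cocone_triangle φ
  refine (Triangle.isZero₃_iff_isIso₁ _ hT).1 ?_
  show IsZero C
  have hC : DCoh.IsQCohD C := RpushQCL.isQCohD_obj₃ _ hT hF hG
  obtain ⟨P, hP, hgen⟩ := TTGenL.main1008 X
  rw [hgen C hC]
  intro n ψ
  have hP1 : DCoh.IsPerfect (P⟦n⟧) := isPerfect_shift hP n
  have hP2 : DCoh.IsPerfect ((P⟦n⟧)⟦-(1 : ℤ)⟧) := isPerfect_shift hP1 (-1)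
  have hinj := (bijective_shift_of_bijective (A := P⟦n⟧) φ 1 (key _ hP2)).1
  have h0 : ψ ≫ b = 0 := by
    apply hinj
    show (ψ ≫ b) ≫ φ⟦(1 : ℤ)⟧' = 0 ≫ φ⟦(1 : ℤ)⟧'
    rw [Category.assoc, zero_comp]
    have : b ≫ φ⟦(1 : ℤ)⟧' = 0 := comp_distTriang_mor_zero₃₁ _ hT
    rw [this, comp_zero]
  obtain ⟨ψ', hψ'⟩ := Triangle.coyoneda_exact₃ _ hT ψ h0
  obtain ⟨ψ'', hψ''⟩ := (key _ hP1).2 ψ'
  have hψ2 : ψ'' ≫ φ = ψ' := hψ''
  have : φ ≫ a = 0 := comp_distTriang_mor_zero₁₂ _ hT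
  rw [hψ', ← hψ2]
  show (ψ'' ≫ φ) ≫ a = 0
  rw [Category.assoc, this, comp_zero]

end

end Groth.Agent.Lib.PerfDetectH3
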