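import Mathlib
import Groth.Prelude
import Groth.Agent.Lib.DMod10_helper6
import Groth.Agent.Lib.DMod20_helper6
import Groth.Agent.Lib.DMod21_helper6
import Groth.Agent.Lib.DMod25_helper6
import Groth.Agent.Lib.DMod42_helper6
import Groth.Agent.Lib.DMod50_helper6
import Groth.Agent.Lib.DMod59_helper6
import Groth.Agent.Lib.ShriekRange3_helper6
import Groth.Agent.Lib.BrutalTrunc_helper2
import Groth.Agent.Lib.CyclesFlat_helper2

/-!
# Perfect amplitude in a neighbourhood, part 1: ring-level truncation lemmas (helper3)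

* `exists_truncGE_rep`: an `(a-1)`-pseudo-coherent object of `D(P)` with no cohomology below `a`
  is represented by a bounded complex in degrees `≥ a` whose bottom term is finitely presented
  and whose other terms are finite free.
* `flat_bottom_of_torAmp`: if a bounded complex in degrees `≥ a` with flat terms above `a` has
  tor amplitude in `[a, b]`, its bottom term is flat.
* `isPseudoCoherent'_of_terms`: a bounded complex of pseudo-coherent modules is pseudo-coherent.
-/

set_option autoImplicit false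
set_option linter.all false
set_option maxHeartbeats 1600000
set_option backward.isDefEq.respectTransparency false
set_option backward.isDefEq.respectTransparency.types false
set_option backward.defeqAttrib.useBackward true

universe u
open CategoryTheory CategoryTheory.Limits
open CategoryTheory.Pretriangulated

attribute [local instance] HasDerivedCategory.standard

namespace Groth.Agent.Lib.PerfNbhdH3

open DRing CochainComplex DerivedCategory Groth.Agent.Lib.DMod_helper6

noncomputable section

section Trunc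

variable {P : Type u} [CommRing P]

/-- an `(a-1)`-pseudo-coherent object with no cohomology below `a` is represented by the canonical
truncation of a bounded complex of finite free modules -/
theorem exists_truncGE_rep (K₀ : Dual.D P) (a : ℤ) (hpc : IsPseudoCoherent P (a - 1) K₀)
    (hK : ∀ i : ℤ, i < a → Subsingleton (Dual.HD P K₀ i)) :
    ∃ (T : Cx P) (b₀ : ℤ), VanishesOutside T a b₀ ∧ Module.FinitePresentation P (T.X a) ∧
      (∀ i : ℤ, a < i → Module.Finite P (T.X i) ∧ Module.Free P (T.X i)) ∧
      Nonempty (toD T ≅ K₀) := by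
  obtain ⟨E, a₀, b₀, α, hE, hEff, hiso, -⟩ := hpc
  let K : Cx P := Q.objPreimage K₀
  let eK : toD K ≅ K₀ := Q.objObjPreimageIso K₀
  haveI : E.IsKProjective := isKProjective_of_bfCls ⟨a₀, b₀, hE, hEff⟩
  obtain ⟨β, hβ⟩ := exists_Q_map_eq_of_isKProjective (E := E) (F := K) (α ≫ eK.inv)
  have hq : ∀ (i : ℤ) (_ : a ≤ i), QuasiIsoAt β i := by
    intro i hi
    haveI := hiso i (by omega)
    haveI h0 : IsIso ((homologyFunctor (ModuleCat.{u} P) i).map (Q.map β)) := by
      rw [hβ, Functor.map_comp]
      infer_instance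
    haveI h1 : IsIso ((Q ⋙ homologyFunctor (ModuleCat.{u} P) i).map β) := h0
    haveI : IsIso (HomologicalComplex.homologyMap β i) :=
      (NatIso.isIso_map_iff (homologyFunctorFactors (ModuleCat.{u} P) i) β).1 h1
    exact (quasiIsoAt_iff_isIso_homologyMap β i).2 inferInstance
  haveI : K.IsGE a := by
    rw [CochainComplex.isGE_iff]
    intro i hi
    rw [exactAt_iff_subsingleton_HD eK i]
    exact hK i hi
  haveI : QuasiIso (CochainComplex.truncGEMap β a) :=
    (CochainComplex.quasiIso_truncGEMap_iff β a).2 hq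
  let e : toD (E.truncGE a) ≅ K₀ :=
    asIso (Q.map (CochainComplex.truncGEMap β a)) ≪≫ (asIso (Q.map (K.πTruncGE a))).symm ≪≫ eK
  have h1 := le_max_left a b₀
  have h2 := le_max_right a b₀
  refine ⟨E.truncGE a, max a b₀, ?_, ?_, ?_, ⟨e⟩⟩
  · rintro i (hi | hi)
    · exact (E.truncGE a).isZero_of_isStrictlyGE a i hi
    · exact IsZero.of_iso (hE i (Or.inr (by omega))) (E.truncGEXIso a i (by omega))
  · have e1 : (E.truncGE a).X a ≅ cokernel (E.d (a - 1) a) :=
      E.truncGEXIsoOpcycles a ≪≫ Groth.Agent.Lib.CyclesFlat.opcyclesIsoCokernel E a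
    have e2 : cokernel (E.d (a - 1) a) ≅
        ModuleCat.of P (E.X a ⧸ LinearMap.range (E.d (a - 1) a).hom) :=
      ModuleCat.cokernelIsoRangeQuotient _
    have hfp : Module.FinitePresentation P (E.X a ⧸ LinearMap.range (E.d (a - 1) a).hom) := by
      haveI := (hEff a).1
      haveI := (hEff a).2
      haveI := (hEff (a - 1)).1
      haveI : Module.FinitePresentation P (E.X a) := Module.finitePresentation_of_projective P _
      refine Module.finitePresentation_of_surjective
        (LinearMap.range (E.d (a - 1) a).hom).mkQ (Submodule.mkQ_surjective _) ?_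
      rw [Submodule.ker_mkQ, LinearMap.range_eq_map]
      exact (Module.Finite.fg_top).map _
    exact finitePresentation_of_iso (e1 ≪≫ e2).symm hfp
  · intro i hi
    exact ⟨finite_of_iso (E.truncGEXIso a i hi).symm (hEff i).1,
      free_of_iso (E.truncGEXIso a i hi).symm (hEff i).2⟩

end Trunc

section Flat

variable {R : Type u} [CommRing R]

/-- if a bounded complex in degrees `≥ a` with flat terms above `a` has tor amplitude in `[a, b]`,
then its bottom term is flat -/
theorem flat_bottom_of_torAmp (T : Cx R) (a b b₀ : ℤ) (hv : VanishesOutside T a b₀)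
    (hfl : ∀ i : ℤ, a < i → Module.Flat R (T.X i))
    (h : HasTorAmplitudeIn R a b (toD T)) : Module.Flat R (T.X a) := by
  have hS := Groth.Agent.Lib.BrutalTrunc.sc_shortExact T a (a + 1) rfl
  have hT := triangleOfSES_distinguished hS
  obtain ⟨b₁, hb₁⟩ : ∃ b₁ : ℤ, b₁ = max b b₀ := ⟨_, rfl⟩
  have hbb : b ≤ b₁ := hb₁ ▸ le_max_left _ _
  have hbb₀ : b₀ ≤ b₁ := hb₁ ▸ le_max_right _ _
  have h1 : HasTorAmplitudeIn R (a + 1) (b₁ + 1)
      (toD (Groth.Agent.Lib.BrutalTrunc.sigmaGE T (a + 1))) := by
    refine ⟨Groth.Agent.Lib.BrutalTrunc.sigmaGE T (a + 1), fun i hi => ?_, fun i => ?_,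
      ⟨Iso.refl _⟩⟩
    · rcases hi with hi | hi
      · exact Groth.Agent.Lib.BrutalTrunc.isZero_sigmaGE_X T (by omega)
      · exact Groth.Agent.Lib.BrutalTrunc.isZero_sigmaGE_X' T (a + 1) i
          (hv i (Or.inr (by omega)))
    · by_cases hi : a + 1 ≤ i
      · haveI := Groth.Agent.Lib.BrutalTrunc.isIso_ι T hi
        exact flat_of_iso (asIso (Groth.Agent.Lib.BrutalTrunc.ι T (a + 1) i)).symm
          (hfl i (by omega))
      · exact flat_of_isZero _ (Groth.Agent.Lib.BrutalTrunc.isZero_sigmaGE_X T hi)
  have e2 : toD (Groth.Agent.Lib.BrutalTrunc.sigmaGE T a) ≅ toD T := by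
    haveI : ∀ n : ℤ, IsIso ((Groth.Agent.Lib.BrutalTrunc.incl T a).f n) := by
      intro n
      by_cases hn : a ≤ n
      · exact Groth.Agent.Lib.BrutalTrunc.isIso_ι T hn
      · have z1 := Groth.Agent.Lib.BrutalTrunc.isZero_sigmaGE_X T hn
        have z2 : IsZero (T.X n) := hv n (Or.inl (by omega))
        exact ⟨⟨0, z1.eq_of_src _ _, z2.eq_of_src _ _⟩⟩
    haveI : IsIso (Groth.Agent.Lib.BrutalTrunc.incl T a) :=
      HomologicalComplex.Hom.isIso_of_components _
    exact Q.mapIso (asIso (Groth.Agent.Lib.BrutalTrunc.incl T a))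
  have h2 : HasTorAmplitudeIn R a b₁ (toD (Groth.Agent.Lib.BrutalTrunc.sigmaGE T a)) :=
    hasTorAmplitudeIn_of_iso e2.symm a b₁ (hasTorAmplitudeIn_mono _ a b a b₁ le_rfl hbb h)
  have h3 : HasTorAmplitudeIn R a b₁
      (toD ((HomologicalComplex.single (ModuleCat.{u} R) (ComplexShape.up ℤ) a).obj (T.X a))) :=
    (hasTorAmplitudeIn_two_of_three _ hT a b₁).1 h1 h2
  have h4 : HasTorAmplitudeIn R a a
      (toD ((HomologicalComplex.single (ModuleCat.{u} R) (ComplexShape.up ℤ) a).obj (T.X a))) := by
    refine Groth.Agent.Lib.ShriekRangeH6.hasTorAmplitudeIn_of_vanishing_above _ a b₁ a h3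
      (fun i hi => ?_)
    rw [← exactAt_iff_subsingleton_HD (Iso.refl _) i]
    exact exactAt_of_isZero_X _ i (HomologicalComplex.isZero_single_obj_X _ a _ i (by omega))
  have h5 := hasTorAmplitudeIn_shift _ a a 0 0 a (by omega) (by omega) h4
  let e3 : (toD ((HomologicalComplex.single (ModuleCat.{u} R) (ComplexShape.up ℤ) a).obj
      (T.X a)))⟦a⟧ ≅ Dual.inD R (T.X a) :=
    (CategoryTheory.shiftFunctor (Dual.D R) a).mapIso
      ((singleFunctorIsoCompQ (ModuleCat.{u} R) a).app (T.X a)).symm ≪≫
      ((DerivedCategory.singleFunctors (ModuleCat.{u} R)).shiftIso a 0 a (by omega)).app (T.X a)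
  exact (hasTorAmplitudeIn_zero_zero_iff_flat (A := R) (T.X a)).mp
    (hasTorAmplitudeIn_of_iso e3 0 0 h5)

end Flat

section Terms

variable {A : Type u} [CommRing A]

/-- a bounded complex of pseudo-coherent modules is pseudo-coherent -/
theorem isPseudoCoherent'_of_terms (T : Cx A) (a b₀ : ℤ) (hv : VanishesOutside T a b₀)
    (h : ∀ i : ℤ, IsPseudoCoherent' A
      ((DerivedCategory.singleFunctor (ModuleCat.{u} A) 0).obj (T.X i))) :
    IsPseudoCoherent' A (toD T) := by
  rw [isPseudoCoherent'_iff_forall_pcmP]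
  intro m
  refine pcmP_devissage_termwise m (b₀ + 1 - a).toNat a T (fun i hi => hv i ?_)
    (fun i => pcmP_of_isPseudoCoherent' _ (h i) (m - i))
  rcases hi with hi | hi
  · exact Or.inl hi
  · right
    have := Int.self_le_toNat (b₀ + 1 - a)
    omega

end Terms

end

end Groth.Agent.Lib.PerfNbhdH3
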