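import Mathlib
import Groth.Prelude
import Groth.Agent.Lib.PerfNbhd1_helper3
import Groth.Agent.Lib.DMod48_helper6
import Groth.Agent.Lib.DMod6_helper6
import Groth.Agent.Lib.DMod7_helper6
import Groth.Agent.Lib.TorAmpLT_helper2
import Groth.Agent.Lib.FibCritD_helper6

/-!
# Fibre criterion for tor amplitude, ring level (helper3; for S6233)

`A → B → C` local homomorphisms of local rings, `B` essentially of finite type over `A`, `C`
essentially of finite presentation over `A` and flat over `A` and `B`.  Let `K` be a bounded above
complex of finite free `C`-modules.  If `K` has tor amplitude in `[a, b]` over `A` and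
`K ⊗^L_B B/𝔪_A B` has tor amplitude in `[a, b]` over `B/𝔪_A B`, then `K` has tor amplitude in
`[a, b]` over `B`.
-/

set_option autoImplicit false
set_option linter.all false
set_option maxHeartbeats 1600000
set_option backward.isDefEq.respectTransparency false
set_option backward.isDefEq.respectTransparency.types false
set_option backward.defeqAttrib.useBackward true

universe u
open CategoryTheory CategoryTheory.Limits
open CategoryTheory.Pretriangulated
open scoped TensorProduct

attribute [local instance] HasDerivedCategory.standard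

namespace Groth.Agent.Lib.PerfFibCritH3

open DRing CochainComplex DerivedCategory Groth.Agent.Lib.DMod_helper6
  Groth.Agent.ExtendScalarsLib Groth.Agent.Lib.PerfNbhdH3

noncomputable section

section Trunc

variable {R : Type u} [CommRing R]

/-- exactness outside `[a, b]` from tor amplitude -/
theorem exactAt_of_hasTorAmplitudeIn (K : Cx R) (a b : ℤ) (h : HasTorAmplitudeIn R a b (toD K))
    (i : ℤ) (hi : i < a ∨ b < i) : K.ExactAt i := by
  obtain ⟨E, hE, -, ⟨e⟩⟩ := h
  exact exactAt_of_iso_toD K E e.symm i (exactAt_of_isZero_X E i (hE i hi))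

/-- the canonical truncation of a bounded above complex of flat modules of tor amplitude in
`[a, b]`: its bottom term, the cokernel of `d^{a-1}`, is flat -/
theorem flat_cokernel_of_torAmp (K : Cx R) (b₁ : ℤ) (hKb : VanishesAbove K b₁)
    (hKf : TermwiseFlat K) (a b : ℤ) (h : HasTorAmplitudeIn R a b (toD K)) :
    Module.Flat R (cokernel (K.d (a - 1) a) : ModuleCat.{u} R) := by
  haveI : K.IsGE a := by
    rw [CochainComplex.isGE_iff]
    intro i hi
    exact exactAt_of_hasTorAmplitudeIn K a b h i (Or.inl hi)
  let e : toD (K.truncGE a) ≅ toD K := (asIso (Q.map (K.πTruncGE a))).symm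
  have h1 := le_max_left a b₁
  have h2 := le_max_right a b₁
  have hv : VanishesOutside (K.truncGE a) a (max a b₁) := by
    rintro i (hi | hi)
    · exact (K.truncGE a).isZero_of_isStrictlyGE a i hi
    · exact IsZero.of_iso (hKb i (by omega)) (K.truncGEXIso a i (by omega))
  have hfl : ∀ i : ℤ, a < i → Module.Flat R ((K.truncGE a).X i) := fun i hi =>
    flat_of_iso (K.truncGEXIso a i hi).symm (hKf i)
  have hbot := flat_bottom_of_torAmp (K.truncGE a) a b (max a b₁) hv hfl
    (hasTorAmplitudeIn_of_iso e.symm a b h)
  exact flat_of_iso (K.truncGEXIsoOpcycles a ≪≫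
    Groth.Agent.Lib.CyclesFlat.opcyclesIsoCokernel K a) hbot

/-- conversely, if the cokernel of `d^{a-1}` is flat, the complex is exact below `a` and above
`b`, then it has tor amplitude in `[a, b]` -/
theorem torAmp_of_flat_cokernel (K : Cx R) (b₁ : ℤ) (hKb : VanishesAbove K b₁)
    (hKf : TermwiseFlat K) (a b : ℤ) (hex : ∀ i : ℤ, i < a ∨ b < i → K.ExactAt i)
    (hc : Module.Flat R (cokernel (K.d (a - 1) a) : ModuleCat.{u} R)) :
    HasTorAmplitudeIn R a b (toD K) := by
  haveI : K.IsGE a := by
    rw [CochainComplex.isGE_iff]
    intro i hi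
    exact hex i (Or.inl hi)
  let e : toD (K.truncGE a) ≅ toD K := (asIso (Q.map (K.πTruncGE a))).symm
  have h1 := le_max_left a b₁
  have h2 := le_max_right a b₁
  have h3 : HasTorAmplitudeIn R a (max a b₁) (toD K) := by
    refine ⟨K.truncGE a, ?_, fun i => ?_, ⟨e⟩⟩
    · rintro i (hi | hi)
      · exact (K.truncGE a).isZero_of_isStrictlyGE a i hi
      · exact IsZero.of_iso (hKb i (by omega)) (K.truncGEXIso a i (by omega))
    · rcases lt_trichotomy i a with hi | hi | hi
      · exact flat_of_isZero _ ((K.truncGE a).isZero_of_isStrictlyGE a i hi)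
      · subst hi
        exact flat_of_iso (K.truncGEXIsoOpcycles i ≪≫
          Groth.Agent.Lib.CyclesFlat.opcyclesIsoCokernel K i).symm hc
      · exact flat_of_iso (K.truncGEXIso a i hi).symm (hKf i)
  refine Groth.Agent.Lib.ShriekRangeH6.hasTorAmplitudeIn_of_vanishing_above _ a (max a b₁) b h3
    (fun i hi => ?_)
  rw [← exactAt_iff_subsingleton_HD (Iso.refl _) i]
  exact hex i (Or.inr hi)

end Trunc

section Crit

variable {A B C : Type u} [CommRing A] [CommRing B] [CommRing C]
  [IsLocalRing A] [IsLocalRing B] [IsLocalRing C] [Algebra A B] [Algebra B C] [Algebra A C]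
  [IsScalarTower A B C] [IsLocalHom (algebraMap A B)] [IsLocalHom (algebraMap B C)]

/-- **fibre criterion for tor amplitude** -/
theorem torAmp_of_fibre [Algebra.EssFiniteType A B] (hC : CAlgX.IsEssFinitePresentation A C)
    [Module.Flat A C] [Module.Flat B C]
    (K : Cx C) (b₁ : ℤ) (hKb : VanishesAbove K b₁)
    (hKff : ∀ i : ℤ, Module.Finite C (K.X i) ∧ Module.Free C (K.X i)) (a b : ℤ)
    (hA : HasTorAmplitudeIn A a b (toD ((restrictCx (algebraMap A C)).obj K)))
    [HasLBaseChange (Ideal.Quotient.mk ((IsLocalRing.maximalIdeal A).map (algebraMap A B)))]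
    (hfib : HasTorAmplitudeIn (B ⧸ (IsLocalRing.maximalIdeal A).map (algebraMap A B)) a b
      ((LBaseChange (Ideal.Quotient.mk ((IsLocalRing.maximalIdeal A).map (algebraMap A B)))).obj
        (toD ((restrictCx (algebraMap B C)).obj K)))) :
    HasTorAmplitudeIn B a b (toD ((restrictCx (algebraMap B C)).obj K)) := by
  classical
  -- exactness of `K` outside `[a, b]`
  have hex : ∀ i : ℤ, i < a ∨ b < i → K.ExactAt i := fun i hi =>
    (Groth.Agent.Lib.TorAmpLT.exactAt_map_iff (ModuleCat.restrictScalars.{u} (algebraMap A C))
      K i).1 (exactAt_of_hasTorAmplitudeIn _ a b hA i hi)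
  have hKfl : ∀ i : ℤ, Module.Flat C (K.X i) := fun i => by
    haveI := (hKff i).2
    exact Module.Flat.of_free
  -- the complexes over `A` and `B`
  have hKAb : VanishesAbove ((restrictCx (algebraMap A C)).obj K) b₁ := fun i hi =>
    (ModuleCat.restrictScalars.{u} (algebraMap A C)).map_isZero (hKb i hi)
  have hKAf : TermwiseFlat ((restrictCx (algebraMap A C)).obj K) := fun i =>
    flat_restrictScalars (R := A) (A := C) _ (hKfl i)
  have hKBb : VanishesAbove ((restrictCx (algebraMap B C)).obj K) b₁ := fun i hi =>
    (ModuleCat.restrictScalars.{u} (algebraMap B C)).map_isZero (hKb i hi)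
  have hKBf : TermwiseFlat ((restrictCx (algebraMap B C)).obj K) := fun i =>
    flat_restrictScalars (R := B) (A := C) _ (hKfl i)
  -- the bottom term
  let N₀ : ModuleCat.{u} C := cokernel (K.d (a - 1) a)
  -- flatness over `A`
  have hflA : Module.Flat A ((ModuleCat.restrictScalars.{u} (algebraMap A C)).obj N₀) := by
    have h1 := flat_cokernel_of_torAmp ((restrictCx (algebraMap A C)).obj K) b₁ hKAb hKAf a b hA
    exact flat_of_iso (PreservesCokernel.iso (ModuleCat.restrictScalars.{u} (algebraMap A C))
      (K.d (a - 1) a)).symm h1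
  -- flatness of the fibre
  obtain ⟨eL⟩ := nonempty_lBaseChange_iso_of_flat
    (Ideal.Quotient.mk ((IsLocalRing.maximalIdeal A).map (algebraMap A B)))
    ((restrictCx (algebraMap B C)).obj K) b₁ hKBb hKBf
  have hfib2 := hasTorAmplitudeIn_of_iso eL a b hfib
  have hflF : Module.Flat (B ⧸ (IsLocalRing.maximalIdeal A).map (algebraMap A B))
      ((ModuleCat.extendScalars.{u, u, u}
        (Ideal.Quotient.mk ((IsLocalRing.maximalIdeal A).map (algebraMap A B)))).obj
        ((ModuleCat.restrictScalars.{u} (algebraMap B C)).obj N₀)) := by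
    have h1 := flat_cokernel_of_torAmp _ b₁
      (fun i hi => (ModuleCat.extendScalars.{u, u, u}
        (Ideal.Quotient.mk ((IsLocalRing.maximalIdeal A).map (algebraMap A B)))).map_isZero
          (hKBb i hi))
      (fun i => flat_ES (A := B) (B := B ⧸ (IsLocalRing.maximalIdeal A).map (algebraMap A B))
        _ (hKBf i)) a b hfib2
    have e1 := PreservesCokernel.iso (ModuleCat.extendScalars.{u, u, u}
        (Ideal.Quotient.mk ((IsLocalRing.maximalIdeal A).map (algebraMap A B))))
        (((restrictCx (algebraMap B C)).obj K).d (a - 1) a)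
    have e2 := PreservesCokernel.iso (ModuleCat.restrictScalars.{u} (algebraMap B C))
      (K.d (a - 1) a)
    exact flat_of_iso (e1.symm ≪≫ (ModuleCat.extendScalars.{u, u, u}
        (Ideal.Quotient.mk ((IsLocalRing.maximalIdeal A).map (algebraMap A B)))).mapIso e2.symm) h1
  -- finite presentation of the bottom term
  have hNfp : Module.FinitePresentation C N₀ := by
    have e2 : cokernel (K.d (a - 1) a) ≅
        ModuleCat.of C (K.X a ⧸ LinearMap.range (K.d (a - 1) a).hom) :=
      ModuleCat.cokernelIsoRangeQuotient _
    have hfp : Module.FinitePresentation C (K.X a ⧸ LinearMap.range (K.d (a - 1) a).hom) := by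
      haveI := (hKff a).1
      haveI := (hKff a).2
      haveI := (hKff (a - 1)).1
      haveI : Module.FinitePresentation C (K.X a) := Module.finitePresentation_of_projective C _
      refine Module.finitePresentation_of_surjective
        (LinearMap.range (K.d (a - 1) a).hom).mkQ (Submodule.mkQ_surjective _) ?_
      rw [Submodule.ker_mkQ, LinearMap.range_eq_map]
      exact (Module.Finite.fg_top).map _
    exact finitePresentation_of_iso e2.symm hfp
  -- flatness over `B`
  have hflB : Module.Flat B ((ModuleCat.restrictScalars.{u} (algebraMap B C)).obj N₀) := by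
    by_cases hsub : Subsingleton N₀
    · haveI : Subsingleton ((ModuleCat.restrictScalars.{u} (algebraMap B C)).obj N₀) := hsub
      infer_instance
    · haveI hnt : Nontrivial N₀ := not_subsingleton_iff_nontrivial.mp hsub
      letI mB : Module B N₀ := Module.compHom N₀ (algebraMap B C)
      letI mA : Module A N₀ := Module.compHom N₀ (algebraMap A C)
      haveI t1 : IsScalarTower B C N₀ := IsScalarTower.of_algebraMap_smul (fun r x => rfl)
      haveI t2 : IsScalarTower A C N₀ := IsScalarTower.of_algebraMap_smul (fun r x => rfl)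
      haveI t3 : IsScalarTower A B N₀ := IsScalarTower.of_algebraMap_smul (fun r x => by
        show algebraMap B C (algebraMap A B r) • x = algebraMap A C r • x
        rw [← IsScalarTower.algebraMap_apply A B C])
      haveI := hNfp
      haveI hNflA : Module.Flat A N₀ := hflA
      have hfib' : Module.Flat (B ⧸ (IsLocalRing.maximalIdeal A).map (algebraMap A B))
          (N₀ ⧸ (IsLocalRing.maximalIdeal A).map (algebraMap A B) •
            (⊤ : Submodule B N₀)) := by
        haveI := hflF
        have e3 := extendScalarsEquivTensor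
          (S := B ⧸ (IsLocalRing.maximalIdeal A).map (algebraMap A B))
          ((ModuleCat.restrictScalars.{u} (algebraMap B C)).obj N₀)
        have e4 : ((B ⧸ (IsLocalRing.maximalIdeal A).map (algebraMap A B)) ⊗[B] N₀) ≃ₗ[B ⧸
            (IsLocalRing.maximalIdeal A).map (algebraMap A B)]
            (N₀ ⧸ (IsLocalRing.maximalIdeal A).map (algebraMap A B) • (⊤ : Submodule B N₀)) :=
          (TensorProduct.quotTensorEquivQuotSMul N₀
            ((IsLocalRing.maximalIdeal A).map (algebraMap A B))).extendScalarsOfSurjective
              (Ideal.Quotient.mk_surjective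
                (I := (IsLocalRing.maximalIdeal A).map (algebraMap A B)))
        exact Module.Flat.of_linearEquiv (e3.trans e4).symm
      exact (Groth.Agent.Lib.FibCritH6.fibre_criterion_essFiniteType (R := A) (S := B) (S' := C)
        (M := N₀) hC hfib').2
  -- conclusion
  refine torAmp_of_flat_cokernel _ b₁ hKBb hKBf a b (fun i hi =>
    (Groth.Agent.Lib.TorAmpLT.exactAt_map_iff (ModuleCat.restrictScalars.{u} (algebraMap B C))
      K i).2 (hex i hi)) ?_
  exact flat_of_iso (PreservesCokernel.iso (ModuleCat.restrictScalars.{u} (algebraMap B C))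
    (K.d (a - 1) a)) hflB

end Crit

end

end Groth.Agent.Lib.PerfFibCritH3
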