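import Mathlib
import Groth.Prelude
import Groth.Agent.Lib.PerfNbhd1_helper3
import Groth.Agent.Lib.RelTildeAmp2_helper3
import Groth.Agent.Lib.FlatLocFP2_helper6
import Groth.Agent.Lib.FlatFP_helper1
import Groth.Agent.Lib.FlatDesc20_helper8
import Groth.Agent.Lib.FlatFP_helper2
import Groth.Agent.Lib.DMod29_helper6
import Groth.Agent.Lib.DMod64_helper6

/-!
# Perfect amplitude in a neighbourhood, part 2: the ring-level main lemma (helper3)

* `flat_ES_iff`: `R`-flatness of `B' ⊗_P N` for a localization `B'` of `P` is `R`-flatness of the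
  localized module.
* `exists_away_perfAmp`: for a bounded complex `T` over `P = R[x_1, …, x_n]` in degrees `≥ a` with
  finitely presented bottom term and finite free other terms, exact above `b`: if the stalk of `T`
  at a prime `q'` has tor amplitude in `[a, b]` over the local ring of `R`, then over some
  `P_g`, `g ∉ q'`, the complex `T_g` is pseudo-coherent and has tor amplitude in `[a, b]` over `R`.
-/

set_option autoImplicit false
set_option linter.all false
set_option maxHeartbeats 1600000
set_option backward.isDefEq.respectTransparency false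
set_option backward.isDefEq.respectTransparency.types false
set_option backward.defeqAttrib.useBackward true

universe u
open CategoryTheory CategoryTheory.Limits
open CategoryTheory.Pretriangulated
open scoped TensorProduct

attribute [local instance] HasDerivedCategory.standard

namespace Groth.Agent.Lib.PerfNbhdH3

open DRing CochainComplex DerivedCategory Groth.Agent.Lib.DMod_helper6
  Groth.Agent.ExtendScalarsLib Groth.Agent.Lib.TildeAmpL Groth.Agent.Lib.RelTildeAmpH3

noncomputable section

section LocMod

variable {R P : Type u} [CommRing R] [CommRing P] [Algebra R P]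
  (S : Submonoid P) (B' : Type u) [CommRing B'] [Algebra P B'] [IsLocalization S B']

/-- `R`-flatness of `B' ⊗_P N`, with `R` acting through a ring map `ψ : R → B'` compatible with
the structure maps, is `R`-flatness of the localized module -/
theorem flat_ES_iff (ψ : R →+* B') (hψ : ∀ r : R, ψ r = algebraMap P B' (algebraMap R P r))
    (N : Type u) [AddCommGroup N] [Module P N] [Module R N] [IsScalarTower R P N] :
    Module.Flat R ((ModuleCat.restrictScalars.{u} ψ).obj ((ES P B').obj (ModuleCat.of P N))) ↔
      Module.Flat R (LocalizedModule S N) := by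
  let NB : ModuleCat.{u} B' := (ES P B').obj (ModuleCat.of P N)
  letI mP : Module P NB := Module.compHom NB (algebraMap P B')
  haveI : IsScalarTower P B' NB := IsScalarTower.of_algebraMap_smul (fun r x => rfl)
  letI mR : Module R NB := Module.compHom NB ψ
  haveI : IsScalarTower R P NB := IsScalarTower.of_algebraMap_smul (fun r x => by
    show algebraMap P B' (algebraMap R P r) • x = ψ r • x
    rw [hψ])
  let e : NB ≃ₗ[B'] B' ⊗[P] N := extendScalarsEquivTensor (S := B') (ModuleCat.of P N)
  let g : N →ₗ[P] NB := (e.symm.restrictScalars P).toLinearMap ∘ₗ TensorProduct.mk P B' N 1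
  haveI : IsLocalizedModule S g :=
    IsLocalizedModule.of_linearEquiv S (TensorProduct.mk P B' N 1) (e.symm.restrictScalars P)
  have key := Groth.Agent.Lib.FlatLocFP1H6.flat_iff_of_isLocalizedModule (A := R) S g
  exact key

end LocMod

section Main

variable {R : Type u} [CommRing R] (n : ℕ)

/-- **the ring-level main lemma** -/
theorem exists_away_perfAmp (T : Cx (MvPolynomial (Fin n) R)) (a b b₀ : ℤ)
    (hv : VanishesOutside T a b₀)
    (hfp : Module.FinitePresentation (MvPolynomial (Fin n) R) (T.X a))
    (hff : ∀ i : ℤ, a < i → Module.Finite (MvPolynomial (Fin n) R) (T.X i) ∧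
      Module.Free (MvPolynomial (Fin n) R) (T.X i))
    (hex : ∀ i : ℤ, b < i → T.ExactAt i)
    (q' : PrimeSpectrum (MvPolynomial (Fin n) R))
    (h3 : HasTorAmplitudeIn (Rq (algebraMap R (MvPolynomial (Fin n) R)) q') a b
      (toD (((ModuleCat.restrictScalars.{u}
        (ell (algebraMap R (MvPolynomial (Fin n) R)) q')).mapHomologicalComplex
          (ComplexShape.up ℤ)).obj
        ((EScA (fun q : PrimeSpectrum (MvPolynomial (Fin n) R) =>
          Bq (MvPolynomial (Fin n) R) q) q').obj T)))) :
    ∃ g : MvPolynomial (Fin n) R, g ∉ q'.asIdeal ∧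
      IsPseudoCoherent' (Localization.Away g)
        (toD ((ESc (algebraMap (MvPolynomial (Fin n) R) (Localization.Away g))).obj T)) ∧
      HasTorAmplitudeIn R a b ((restrictD (algebraMap R (Localization.Away g))).obj
        (toD ((ESc (algebraMap (MvPolynomial (Fin n) R) (Localization.Away g))).obj T))) := by
  classical
  obtain ⟨P, hP⟩ : ∃ P : Type u, P = MvPolynomial (Fin n) R := ⟨_, rfl⟩
  -- notation
  let C₀ : R →+* MvPolynomial (Fin n) R := algebraMap R (MvPolynomial (Fin n) R)
  letI aRB : Algebra R (Bq (MvPolynomial (Fin n) R) q') := algRBq C₀ q'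
  letI aRqB : Algebra (Rq C₀ q') (Bq (MvPolynomial (Fin n) R) q') := algRqBq C₀ q'
  haveI tw2 : IsScalarTower R (Rq C₀ q') (Bq (MvPolynomial (Fin n) R) q') := tower2 C₀ q'
  haveI tw1 : IsScalarTower R (MvPolynomial (Fin n) R) (Bq (MvPolynomial (Fin n) R) q') :=
    IsScalarTower.of_algebraMap_eq (fun r => rfl)
  haveI flRB : Module.Flat R (Bq (MvPolynomial (Fin n) R) q') :=
    Module.Flat.trans R (MvPolynomial (Fin n) R) (Bq (MvPolynomial (Fin n) R) q')
  haveI flRqB : Module.Flat (Rq C₀ q') (Bq (MvPolynomial (Fin n) R) q') :=
    (Module.flat_iff_of_isLocalization (Rq C₀ q')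
      ((fS C₀).base q' : PrimeSpectrum R).asIdeal.primeCompl
      (Bq (MvPolynomial (Fin n) R) q')).mpr flRB
  -- step 1: flatness of the bottom term at `q'`
  let T'' : Cx (Rq C₀ q') :=
    ((ModuleCat.restrictScalars.{u} (ell C₀ q')).mapHomologicalComplex (ComplexShape.up ℤ)).obj
      ((EScA (fun q : PrimeSpectrum (MvPolynomial (Fin n) R) =>
        Bq (MvPolynomial (Fin n) R) q) q').obj T)
  have hv'' : VanishesOutside T'' a b₀ := fun i hi =>
    (ModuleCat.restrictScalars.{u} (ell C₀ q')).map_isZero
      ((ES (MvPolynomial (Fin n) R) (Bq (MvPolynomial (Fin n) R) q')).map_isZero (hv i hi))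
  have hfl'' : ∀ i : ℤ, a < i → Module.Flat (Rq C₀ q') (T''.X i) := by
    intro i hi
    have h1 : Module.Flat (Bq (MvPolynomial (Fin n) R) q')
        ((ES (MvPolynomial (Fin n) R) (Bq (MvPolynomial (Fin n) R) q')).obj (T.X i)) := by
      haveI := free_ES (B := Bq (MvPolynomial (Fin n) R) q') (T.X i) (hff i hi).2
      exact Module.Flat.of_free
    exact flat_restrictScalars (R := Rq C₀ q') (A := Bq (MvPolynomial (Fin n) R) q') _ h1
  have hbot : Module.Flat (Rq C₀ q') (T''.X a) := flat_bottom_of_torAmp T'' a b b₀ hv'' hfl'' h3
  -- the module structure over `R`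
  letI mRa : Module R (T.X a) := Module.compHom (T.X a) (algebraMap R (MvPolynomial (Fin n) R))
  haveI : IsScalarTower R (MvPolynomial (Fin n) R) (T.X a) :=
    IsScalarTower.of_algebraMap_smul (fun r x => rfl)
  have hflat_q' : Module.Flat R (LocalizedModule q'.asIdeal.primeCompl (T.X a)) := by
    refine (flat_ES_iff (R := R) q'.asIdeal.primeCompl (Bq (MvPolynomial (Fin n) R) q')
      (algebraMap R (Bq (MvPolynomial (Fin n) R) q')) (fun r => rfl) (T.X a)).mp ?_
    -- `R`-flatness from `Rq`-flatness
    let X1 : ModuleCat.{u} (Rq C₀ q') := T''.X a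
    letI mR1 : Module R X1 := Module.compHom X1 (algebraMap R (Rq C₀ q'))
    haveI : IsScalarTower R (Rq C₀ q') X1 := IsScalarTower.of_algebraMap_smul (fun r x => rfl)
    haveI : Module.Flat (Rq C₀ q') X1 := hbot
    have hX1 : Module.Flat R X1 := Module.Flat.trans R (Rq C₀ q') X1
    let e : ((ModuleCat.restrictScalars.{u} (algebraMap R (Bq (MvPolynomial (Fin n) R) q'))).obj
        ((ES (MvPolynomial (Fin n) R) (Bq (MvPolynomial (Fin n) R) q')).obj
          (ModuleCat.of (MvPolynomial (Fin n) R) (T.X a)))) ≃ₗ[R] X1 :=
      { toFun := fun x => x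
        invFun := fun x => x
        map_add' := fun _ _ => rfl
        map_smul' := fun r x => by
          show algebraMap R (Bq (MvPolynomial (Fin n) R) q') r • x =
            ell C₀ q' (algebraMap R (Rq C₀ q') r) • x
          rw [ell_toStalk]
          rfl
        left_inv := fun _ => rfl
        right_inv := fun _ => rfl }
    exact Module.Flat.of_linearEquiv e
  -- step 2: the flat locus is open
  have hopen := Groth.Agent.Lib.FlatLocFP2H6.isOpen_flatLocus_mvPolynomial (R := R) (Fin n)
    (T.X a)
  obtain ⟨_, ⟨g, rfl⟩, hqg, hsub⟩ :=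
    PrimeSpectrum.isTopologicalBasis_basic_opens.exists_subset_of_mem_open
      (show q' ∈ {q : PrimeSpectrum (MvPolynomial (Fin n) R) | Module.Flat R
        (LocalizedModule q.asIdeal.primeCompl (T.X a))} from hflat_q') hopen
  have hflat_g : Module.Flat R (LocalizedModule (Submonoid.powers g) (T.X a)) :=
    Groth.Agent.Lib.FlatFPH1.flat_away_of_forall (A := R) (T.X a) g
      (fun q₁ hq₁ => hsub ((PrimeSpectrum.mem_basicOpen _ _).mpr hq₁))
  refine ⟨g, (PrimeSpectrum.mem_basicOpen _ _).mp hqg, ?_⟩
  -- step 3: over `P_g`
  haveI fpRP' : Algebra.FinitePresentation R (Localization.Away g) :=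
    Algebra.FinitePresentation.of_isLocalizationAway (R := R) (S := MvPolynomial (Fin n) R) g
  haveI flRP' : Module.Flat R (Localization.Away g) :=
    Module.Flat.trans R (MvPolynomial (Fin n) R) (Localization.Away g)
  let T' : Cx (Localization.Away g) :=
    (ESc (algebraMap (MvPolynomial (Fin n) R) (Localization.Away g))).obj T
  have hv' : VanishesOutside T' a b₀ := fun i hi =>
    (ES (MvPolynomial (Fin n) R) (Localization.Away g)).map_isZero (hv i hi)
  -- the bottom term
  let N' : ModuleCat.{u} (Localization.Away g) :=
    (ES (MvPolynomial (Fin n) R) (Localization.Away g)).obj (T.X a)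
  have hN'flat : Module.Flat R
      ((ModuleCat.restrictScalars.{u} (algebraMap R (Localization.Away g))).obj N') :=
    (flat_ES_iff (R := R) (Submonoid.powers g) (Localization.Away g)
      (algebraMap R (Localization.Away g))
      (fun r => IsScalarTower.algebraMap_apply R (MvPolynomial (Fin n) R) (Localization.Away g) r)
      (T.X a)).mpr hflat_g
  have hN'fp : Module.FinitePresentation (Localization.Away g) N' := by
    haveI := hfp
    exact Module.FinitePresentation.of_equiv
      (extendScalarsEquivTensor (S := Localization.Away g) (T.X a)).symm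
  have hN'pc : IsPseudoCoherent' (Localization.Away g)
      ((DerivedCategory.singleFunctor (ModuleCat.{u} (Localization.Away g)) 0).obj N') := by
    letI mR' : Module R N' := Module.compHom N' (algebraMap R (Localization.Away g))
    haveI : IsScalarTower R (Localization.Away g) N' :=
      IsScalarTower.of_algebraMap_smul (fun r x => rfl)
    haveI : Module.Flat R N' := hN'flat
    haveI := hN'fp
    obtain ⟨Pres, hPres⟩ := Groth.Agent.Lib.FlatDescH8.exists_finite_free_resolution_of_flat
      R (Localization.Away g) N'
    exact Groth.Agent.Lib.PCHom.pcModule_of_resolution N' Pres hPres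
  refine ⟨?_, ?_⟩
  · refine isPseudoCoherent'_of_terms T' a b₀ hv' (fun i => ?_)
    rcases lt_trichotomy i a with hi | hi | hi
    · exact isPseudoCoherent'_of_isZero _
        ((DerivedCategory.singleFunctor _ 0).map_isZero (hv' i (Or.inl hi)))
    · subst hi
      exact hN'pc
    · exact pcProp_inD_of_finite_free
        ((ES (MvPolynomial (Fin n) R) (Localization.Away g)).obj (T.X i))
        (finite_ES (B := Localization.Away g) (T.X i) (hff i hi).1)
        (free_ES (B := Localization.Away g) (T.X i) (hff i hi).2)
  · have h1 : HasTorAmplitudeIn R a b₀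
        (toD ((restrictCx (algebraMap R (Localization.Away g))).obj T')) := by
      refine ⟨(restrictCx (algebraMap R (Localization.Away g))).obj T', fun i hi => ?_,
        fun i => ?_, ⟨Iso.refl _⟩⟩
      · exact (ModuleCat.restrictScalars.{u} (algebraMap R (Localization.Away g))).map_isZero
          (hv' i hi)
      · rcases lt_trichotomy i a with hi | hi | hi
        · exact flat_of_isZero _
            ((ModuleCat.restrictScalars.{u} (algebraMap R (Localization.Away g))).map_isZero
              (hv' i (Or.inl hi)))
        · subst hi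
          exact hN'flat
        · have h1 : Module.Flat (Localization.Away g)
              ((ES (MvPolynomial (Fin n) R) (Localization.Away g)).obj (T.X i)) := by
            haveI := free_ES (B := Localization.Away g) (T.X i) (hff i hi).2
            exact Module.Flat.of_free
          exact flat_restrictScalars (R := R) (A := Localization.Away g) _ h1
    have h2 : HasTorAmplitudeIn R a b₀
        ((restrictD (algebraMap R (Localization.Away g))).obj (toD T')) :=
      hasTorAmplitudeIn_of_iso (restrictDIso (R := R) (A := Localization.Away g) T').symm a b₀ h1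
    refine Groth.Agent.Lib.ShriekRangeH6.hasTorAmplitudeIn_of_vanishing_above _ a b₀ b h2
      (fun i hi => ?_)
    rw [← exactAt_iff_subsingleton_HD (restrictDIso (R := R) (A := Localization.Away g) T').symm i]
    have h4 : T'.ExactAt i :=
      exactAt_ESc_of_exactAt (R := MvPolynomial (Fin n) R) (B := Localization.Away g) T i
        (hex i hi)
    exact (Groth.Agent.Lib.TorAmpLT.exactAt_map_iff
      (ModuleCat.restrictScalars.{u} (algebraMap R (Localization.Away g))) T' i).2 h4

end Main

end

end Groth.Agent.Lib.PerfNbhdH3
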