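import Mathlib
import Groth.Prelude
import Groth.Agent.Lib.PerfNbhd2_helper3
import Groth.Agent.Lib.JacPerf3_helper3
import Groth.Agent.Lib.RelPCq_helper3
import Groth.Agent.Lib.RelPCn_helper3
import Groth.Agent.Lib.TorAmpPush_lead
import Groth.Agent.Lib.PerfFlat4_lead
import Groth.Agent.Lib.Kosz3_lead

/-!
# Perfect amplitude in a neighbourhood, part 3: scheme-level dictionary (helper3)

* `stalk_of_hasTorAmplitudeAt`: from `HasTorAmplitudeAt` on `Spec A` to the complex of stalks.
* `cImm_comp_base`: a generalised chart is a morphism over the base.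
* `isZero_HD_chartD`: vanishing of cohomology in a chart.
* `exactAt_of_hasTorAmplitude`: stalkwise tor amplitude in `[a, b]` kills cohomology outside
  `[a, b]`.
-/

set_option autoImplicit false
set_option linter.all false
set_option maxHeartbeats 1600000
set_option backward.isDefEq.respectTransparency false
set_option backward.isDefEq.respectTransparency.types false
set_option backward.defeqAttrib.useBackward true

universe u
open CategoryTheory CategoryTheory.Limits AlgebraicGeometry Opposite TopologicalSpace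
open CategoryTheory.Pretriangulated

attribute [local instance] HasDerivedCategory.standard

namespace Groth.Agent.Lib.PerfNbhdH3

open DRing DerSch DerivedCategory Groth.Agent.Lib.DMod_helper6 Groth.Agent.Lib.DCohLocLead
  Groth.Agent.Lib.TildeAmpL Groth.Agent.Lib.RelTildeAmpH3 Groth.Agent.Lib.RelPCbH3
  Groth.Agent.Lib.TorAmpRelH3 Groth.Agent.Lib.TorSmoothH3

noncomputable section

local instance hasRpushInstPN {X Y : Scheme.{u}} (f : X ⟶ Y) : DCoh.HasRpush f :=
  Groth.Agent.Lib.BCOpenL.hasRpush f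

section Dict

/-- from `HasTorAmplitudeAt` on `Spec A` to the complex of stalks -/
theorem stalk_of_hasTorAmplitudeAt {R A : Type u} [CommRing R] [CommRing A] (φ : R →+* A)
    (F : CochainComplex (Spec (CommRingCat.of A)).Modules ℤ) (C : Cx A)
    (e : DCoh.toD (Spec (CommRingCat.of A)) F ≅
      DCoh.toD (Spec (CommRingCat.of A)) ((tildeCx A).obj C))
    (q : PrimeSpectrum A) (a b : ℤ)
    (h : DerSch.HasTorAmplitudeAt (Spec.map (CommRingCat.ofHom φ)) a b F q) :
    HasTorAmplitudeIn (Rq φ q) a b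
      (toD (((ModuleCat.restrictScalars.{u} (ell φ q)).mapHomologicalComplex
        (ComplexShape.up ℤ)).obj ((EScA (fun q : PrimeSpectrum A => Bq A q) q).obj C))) := by
  have h2 : HasTorAmplitudeAt (fS φ) a b ((tildeCx A).obj C) q :=
    Groth.Agent.Lib.RelFlatAmpH3.hasTorAmplitudeAt_of_iso (fS φ) e a b q h
  exact hasTorAmplitudeIn_of_iso (DerivedCategory.Q.mapIso (stalkOverIso φ q C)) a b h2

end Dict

section Chart

variable {X Y : Scheme.{u}} (f : X ⟶ Y)

/-- a generalised chart compatible with the base is a morphism over the base -/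
theorem cImm_comp_base (U : X.Opens) (hU : IsAffineOpen U) (V : Y.Opens) (hV : IsAffineOpen V)
    (h : U ≤ f ⁻¹ᵁ V) {B : Type u} [CommRing B] (β : B →+* Γ(X, U)) (γ : Γ(Y, V) →+* B)
    (hβγ : β.comp γ = (f.appLE V U h).hom) :
    cImm U β ≫ Spec.map (CommRingCat.ofHom γ) ≫ hV.fromSpec = U.ι ≫ f := by
  rw [← Category.assoc, ← cImm_comp, hβγ]
  unfold cImm
  rw [Category.assoc]
  have h1 : Spec.map (CommRingCat.ofHom (f.appLE V U h).hom) ≫ hV.fromSpec = hU.fromSpec ≫ f :=
    IsAffineOpen.SpecMap_appLE_fromSpec f hV hU h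
  rw [h1, ← Category.assoc, hU.toSpecΓ_fromSpec]

/-- restriction to a smaller open kills cohomology sheaves that vanish on a bigger open -/
theorem isZero_HD_DD_of_le (E : DCoh.D X) (U' U : X.Opens) (hU'U : U' ≤ U) (i : ℤ)
    (hz : IsZero (DCoh.HD ((DD U.ι).obj E) i)) : IsZero (DCoh.HD ((DD U'.ι).obj E) i) := by
  obtain ⟨b2⟩ := nonempty_DD_comp_iso (X.homOfLE hU'U) U.ι E
  obtain ⟨b3⟩ := Groth.Agent.Lib.FinPushPCH3.nonempty_DD_congr (X.homOfLE_ι hU'U) E
  obtain ⟨e5⟩ := nonempty_HD_restrict_iso (X.homOfLE hU'U) ((DD U.ι).obj E) i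
  exact IsZero.of_iso ((Scheme.Modules.restrictFunctor (X.homOfLE hU'U)).map_isZero hz)
    ((DerivedCategory.homologyFunctor _ i).mapIso (b3.symm ≪≫ b2) ≪≫ e5)

/-- vanishing of cohomology in a chart -/
theorem isZero_HD_chartD (E : DCoh.D X) (U' : X.Opens) {B : Type u} [CommRing B]
    (β : B →+* Γ(X, U')) [IsClosedImmersion (cImm U' β)] (i : ℤ)
    (hz : IsZero (DCoh.HD ((DD U'.ι).obj E) i)) :
    IsZero (DCoh.HD ((chartD U' β).obj E) i) := by
  obtain ⟨e6⟩ := nonempty_homology_mapExact_iso (Scheme.Modules.pushforward (cImm U' β))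
    ((DD U'.ι).obj E) i
  exact IsZero.of_iso ((Scheme.Modules.pushforward (cImm U' β)).map_isZero hz) e6

end Chart

section Vanish

variable {X Y : Scheme.{u}} (f : X ⟶ Y)

/-- stalkwise tor amplitude in `[a, b]` kills cohomology outside `[a, b]` -/
theorem exactAt_of_hasTorAmplitude (F : CochainComplex X.Modules ℤ) (a b : ℤ)
    (H : HasTorAmplitude f a b F) (i : ℤ) (hi : i < a ∨ b < i) : F.ExactAt i := by
  apply Groth.Agent.Lib.TorAmpIdL.exactAt_of_forall_stalk
  intro x
  obtain ⟨E, hE, -, ⟨e⟩⟩ := H x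
  exact Groth.Agent.Lib.RelFlatAmpH3.exactAt_stalkCx_of_stalkCxOver f F x i
    (exactAt_of_iso_toD _ E e.symm i
      (Groth.Agent.Lib.DMod_helper6.exactAt_of_isZero_X E i (hE i hi)))

theorem isZero_HD_of_hasTorAmplitude (F : CochainComplex X.Modules ℤ) (a b : ℤ)
    (H : HasTorAmplitude f a b F) (i : ℤ) (hi : i < a ∨ b < i) :
    IsZero (DCoh.HD (DCoh.toD X F) i) := by
  have h := exactAt_of_hasTorAmplitude f F a b H i hi
  rw [HomologicalComplex.exactAt_iff_isZero_homology] at h
  exact IsZero.of_iso h ((homologyFunctorFactors X.Modules i).app F)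

end Vanish

end

end Groth.Agent.Lib.PerfNbhdH3
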