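import Mathlib
import Groth.Prelude
import Groth.Agent.Lib.PerfNbhd3_helper3

/-!
# Perfect amplitude in a neighbourhood, part 4: assembly (helper3; S6212)
-/

set_option autoImplicit false
set_option linter.all false
set_option maxHeartbeats 1600000
set_option backward.isDefEq.respectTransparency false
set_option backward.isDefEq.respectTransparency.types false
set_option backward.defeqAttrib.useBackward true

universe u
open CategoryTheory CategoryTheory.Limits AlgebraicGeometry Opposite TopologicalSpace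
open CategoryTheory.Pretriangulated

attribute [local instance] HasDerivedCategory.standard

namespace Groth.Agent.Lib.PerfNbhdH3

open DRing DerSch DerivedCategory Groth.Agent.Lib.DMod_helper6 Groth.Agent.Lib.DCohLocLead
  Groth.Agent.Lib.TildeAmpL Groth.Agent.Lib.RelTildeAmpH3 Groth.Agent.Lib.RelPCbH3
  Groth.Agent.Lib.TorAmpRelH3 Groth.Agent.Lib.TorSmoothH3

noncomputable section

local instance hasRpushInstPN4 {X Y : Scheme.{u}} (f : X ⟶ Y) : DCoh.HasRpush f :=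
  Groth.Agent.Lib.BCOpenL.hasRpush f

section Rep

variable {X Y : Scheme.{u}} (f : X ⟶ Y)

/-- chart data from hypothesis (ii) -/
theorem exists_chart_rep [LocallyOfFiniteType f]
    (F : CochainComplex X.Modules ℤ) (a b : ℤ) (U₀ : X.Opens)
    (hpc : DerSch.IsPseudoCoherentRel (U₀.ι ≫ f) (a - 1)
      (DCoh.toD (U₀ : Scheme.{u}) ((DCoh.restrictCx U₀).obj F)))
    (hvan : ∀ i : ℤ, i < a ∨ b < i →
      IsZero (DCoh.HD (DCoh.toD (U₀ : Scheme.{u}) ((DCoh.restrictCx U₀).obj F)) i))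
    (V : Y.Opens) (hV : IsAffineOpen V) (U' : X.Opens) (hU' : IsAffineOpen U') (hU'U₀ : U' ≤ U₀)
    (h : U' ≤ f ⁻¹ᵁ V) {n : ℕ} (φ : MvPolynomial (Fin n) Γ(Y, V) →+* Γ(X, U'))
    (hφ : DerSch.IsChart f U' V h φ) [IsClosedImmersion (cImm U' φ)]
    [PreservesFiniteLimits (tilde.functor (CommRingCat.of (MvPolynomial (Fin n) Γ(Y, V))))] :
    ∃ (T : Cx (MvPolynomial (Fin n) Γ(Y, V))) (b₀ : ℤ), VanishesOutside T a b₀ ∧
      Module.FinitePresentation (MvPolynomial (Fin n) Γ(Y, V)) (T.X a) ∧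
      (∀ i : ℤ, a < i → Module.Finite (MvPolynomial (Fin n) Γ(Y, V)) (T.X i) ∧
        Module.Free (MvPolynomial (Fin n) Γ(Y, V)) (T.X i)) ∧
      (∀ i : ℤ, b < i → T.ExactAt i) ∧
      Nonempty ((DCoh.tildeD (CommRingCat.of (MvPolynomial (Fin n) Γ(Y, V)))).obj (toD T) ≅
        (chartD U' φ).obj (DCoh.toD X F)) := by
  classical
  haveI : LocallyOfFiniteType (U₀.ι ≫ f) := inferInstance
  -- S1: the chart test
  have Hi := (relPC_iff_forall_gpc (U₀.ι ≫ f) (a - 1) _).mp hpc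
  have hrange : U' ≤ U₀.ι.opensRange := by
    rw [Scheme.Opens.opensRange_ι]
    exact hU'U₀
  let U₁ : (U₀ : Scheme.{u}).affineOpens :=
    ⟨U₀.ι ⁻¹ᵁ U', hU'.preimage_of_isOpenImmersion _ hrange⟩
  have hle : U₁.1 ≤ U₀.ι ⁻¹ᵁ U' := le_rfl
  have hUV : U₁.1 ≤ (U₀.ι ≫ f) ⁻¹ᵁ V := fun x hx => h hx
  haveI : IsIso (U₀.ι.resLE U' U₁.1 hle) := isIso_resLE _ _ _ hle (by
    intro y hy
    exact ⟨⟨y, hU'U₀ hy⟩, hy, rfl⟩)
  have hbij := bijective_appLE_of_isIso_resLE U₀.ι U₁.1 U' hle U₁.2 hU'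
  have hchart := isChart_appLE_comp f U₀.ι U₁.1 U' hle V h hUV hbij φ hφ
  have h1 := Hi U₁ ⟨V, hV⟩ hUV _ hchart
  have h2 := gpc_of_iso (facIso U₀.ι F).symm (a - 1) U₁.1 _ h1
  have hG : GPC (a - 1) (DCoh.toD X F) U' φ :=
    (gpc_resLE_iff U₀.ι U₁.1 U' hle φ (a - 1) _).mp h2
  -- S2: the object on affine space
  have hpc𝒦 : DCoh.IsPseudoCoherentD (a - 1) ((chartD U' φ).obj (DCoh.toD X F)) :=
    (gpc_iff_chartD U' φ (a - 1) _).mp hG
  have hz𝒦 : ∀ i : ℤ, i < a ∨ b < i →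
      IsZero (DCoh.HD ((chartD U' φ).obj (DCoh.toD X F)) i) := by
    intro i hi
    have z1 : IsZero (DCoh.HD ((DD U₀.ι).obj (DCoh.toD X F)) i) :=
      IsZero.of_iso (hvan i hi) ((DerivedCategory.homologyFunctor _ i).mapIso (facIso U₀.ι F))
    exact isZero_HD_chartD _ U' φ i (isZero_HD_DD_of_le _ U' U₀ hU'U₀ i z1)
  -- S3: quasi-coherence
  have hQ : DCoh.IsQCohD ((chartD U' φ).obj (DCoh.toD X F)) := by
    intro i
    by_cases hi : a - 1 < i
    · exact (main7240 (a - 1) _ hpc𝒦).1 i hi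
    · exact Groth.Agent.Lib.FinPushPCH3.isQuasicoherent_of_isZero (hz𝒦 i (Or.inl (by omega)))
  obtain ⟨K₀, ⟨eK⟩⟩ := Groth.Agent.Lib.KoszL.exists_tildeD_iso
    (MvPolynomial (Fin n) Γ(Y, V)) _ hQ
  -- S4: ring-level properties
  have hpcK₀ : DRing.IsPseudoCoherent (MvPolynomial (Fin n) Γ(Y, V)) (a - 1) K₀ :=
    (Groth.Agent.Lib.TildePCH3.main1004 (MvPolynomial (Fin n) Γ(Y, V)) K₀ (a - 1)).mp
      (isPC_of_iso eK.symm hpc𝒦)
  have hsub : ∀ i : ℤ, i < a ∨ b < i →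
      Subsingleton (Dual.HD (MvPolynomial (Fin n) Γ(Y, V)) K₀ i) := by
    intro i hi
    obtain ⟨e⟩ := Groth.Agent.Lib.TildePCH3.nonempty_homology_map_iso
      (tilde.functor (CommRingCat.of (MvPolynomial (Fin n) Γ(Y, V)))) K₀ i
    have hz : IsZero ((tilde.functor (CommRingCat.of (MvPolynomial (Fin n) Γ(Y, V)))).obj
        ((homologyFunctor (ModuleCat.{u} (MvPolynomial (Fin n) Γ(Y, V))) i).obj K₀)) :=
      IsZero.of_iso (IsZero.of_iso (hz𝒦 i hi)
        ((DerivedCategory.homologyFunctor _ i).mapIso eK)) e.symm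
    exact ModuleCat.subsingleton_of_isZero
      (Groth.Agent.Lib.TildePCH3.isZero_of_isZero_tilde _ _ hz)
  -- S5: the representative
  obtain ⟨T, b₀, hv, hfp, hff, ⟨eT⟩⟩ :=
    exists_truncGE_rep K₀ a hpcK₀ (fun i hi => hsub i (Or.inl hi))
  exact ⟨T, b₀, hv, hfp, hff,
    fun i hi => (exactAt_iff_subsingleton_HD eT i).mpr (hsub i (Or.inr hi)),
    ⟨(DCoh.tildeD (CommRingCat.of (MvPolynomial (Fin n) Γ(Y, V)))).mapIso eT ≪≫ eK⟩⟩

end Rep

section Stalk

variable {X Y : Scheme.{u}} (f : X ⟶ Y)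

/-- the stalk condition in the chart -/
theorem stalk_torAmp_of_chart (F : CochainComplex X.Modules ℤ) (a b : ℤ)
    (V : Y.Opens) (hV : IsAffineOpen V) (U' : X.Opens) (hU' : IsAffineOpen U')
    (h : U' ≤ f ⁻¹ᵁ V) {n : ℕ} (φ : MvPolynomial (Fin n) Γ(Y, V) →+* Γ(X, U'))
    (hφ : DerSch.IsChart f U' V h φ) [IsClosedImmersion (cImm U' φ)]
    [PreservesFiniteLimits (tilde.functor (CommRingCat.of (MvPolynomial (Fin n) Γ(Y, V))))]
    (T : Cx (MvPolynomial (Fin n) Γ(Y, V)))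
    (e : (DCoh.tildeD (CommRingCat.of (MvPolynomial (Fin n) Γ(Y, V)))).obj (toD T) ≅
        (chartD U' φ).obj (DCoh.toD X F))
    (x' : (U' : Scheme.{u})) (htor : DerSch.HasTorAmplitudeAt f a b F (U'.ι.base x')) :
    HasTorAmplitudeIn
      (Rq (algebraMap Γ(Y, V) (MvPolynomial (Fin n) Γ(Y, V))) ((cImm U' φ).base x')) a b
      (toD (((ModuleCat.restrictScalars.{u}
        (ell (algebraMap Γ(Y, V) (MvPolynomial (Fin n) Γ(Y, V)))
          ((cImm U' φ).base x'))).mapHomologicalComplex (ComplexShape.up ℤ)).obj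
        ((EScA (fun q : PrimeSpectrum (MvPolynomial (Fin n) Γ(Y, V)) =>
          Bq (MvPolynomial (Fin n) Γ(Y, V)) q) ((cImm U' φ).base x')).obj T))) := by
  have hcomp := cImm_comp_base f U' hU' V hV h φ
    (algebraMap Γ(Y, V) (MvPolynomial (Fin n) Γ(Y, V))) hφ.2
  have h1 := hasTorAmplitudeAt_restrict U'.ι f x' F a b htor
  rw [← hcomp] at h1
  have h2 : DerSch.HasTorAmplitudeAt
      (Spec.map (CommRingCat.ofHom (algebraMap Γ(Y, V) (MvPolynomial (Fin n) Γ(Y, V)))) ≫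
        hV.fromSpec) a b
      ((DerSch.pushCx (cImm U' φ)).obj ((DCoh.restrictCx U').obj F)) ((cImm U' φ).base x') :=
    hasTorAmplitudeIn_of_iso (DerivedCategory.Q.mapIso
      (Groth.Agent.Lib.TorAmpPushL.pushCxIso (cImm U' φ) _ x' _)).symm a b h1
  have h3 := hasTorAmplitudeAt_of_comp_openImmersion
    (Spec.map (CommRingCat.ofHom (algebraMap Γ(Y, V) (MvPolynomial (Fin n) Γ(Y, V)))))
    hV.fromSpec _ a b _ h2
  let e' : DCoh.toD _ ((DerSch.pushCx (cImm U' φ)).obj ((DCoh.restrictCx U').obj F)) ≅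
      DCoh.toD _ ((tildeCx (MvPolynomial (Fin n) Γ(Y, V))).obj T) :=
    (chartD_Q_iso U' φ F).symm ≪≫ e.symm ≪≫
      (tilde.functor (CommRingCat.of (MvPolynomial (Fin n) Γ(Y, V)))).mapDerivedCategoryFactors.app T
  exact stalk_of_hasTorAmplitudeAt _ _ T e' _ a b h3

end Stalk

section Away

variable {X Y : Scheme.{u}} (f : X ⟶ Y)

/-- perfect amplitude on the basic open -/
theorem perfAmp_of_away (F : CochainComplex X.Modules ℤ) (a b : ℤ)
    (V : Y.Opens) (hV : IsAffineOpen V) (U' : X.Opens) (hU' : IsAffineOpen U')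
    (h : U' ≤ f ⁻¹ᵁ V) {n : ℕ} (φ : MvPolynomial (Fin n) Γ(Y, V) →+* Γ(X, U'))
    (hφ : DerSch.IsChart f U' V h φ) [IsClosedImmersion (cImm U' φ)]
    [PreservesFiniteLimits (tilde.functor (CommRingCat.of (MvPolynomial (Fin n) Γ(Y, V))))]
    (T : Cx (MvPolynomial (Fin n) Γ(Y, V)))
    (e : (DCoh.tildeD (CommRingCat.of (MvPolynomial (Fin n) Γ(Y, V)))).obj (toD T) ≅
        (chartD U' φ).obj (DCoh.toD X F))
    (g : MvPolynomial (Fin n) Γ(Y, V))
    (hC1 : IsPseudoCoherent' (Localization.Away g)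
      (toD ((ESc (algebraMap (MvPolynomial (Fin n) Γ(Y, V)) (Localization.Away g))).obj T)))
    (hC2 : HasTorAmplitudeIn Γ(Y, V) a b
      ((restrictD (algebraMap Γ(Y, V) (Localization.Away g))).obj
        (toD ((ESc (algebraMap (MvPolynomial (Fin n) Γ(Y, V)) (Localization.Away g))).obj T)))) :
    DerSch.HasPerfAmplitudeRel ((X.basicOpen (φ g)).ι ≫ f) a b
      ((DCoh.restrictCx (X.basicOpen (φ g))).obj F) := by
  classical
  have hWU' : X.basicOpen (φ g) ≤ U' := X.basicOpen_le (φ g)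
  have hW : IsAffineOpen (X.basicOpen (φ g)) := hU'.basicOpen (φ g)
  obtain ⟨ρ, hρ⟩ := exists_awayLift U' (X.basicOpen (φ g)) hWU' φ g
    (B' := Localization.Away g) rfl
  have hρs : Function.Surjective ρ :=
    awayLift_surjective U' (X.basicOpen (φ g)) hWU' φ g hU' hφ.1 rfl ρ hρ
  haveI : IsClosedImmersion (cImm (X.basicOpen (φ g)) ρ) :=
    isClosedImmersion_cImm _ hW ρ hρs
  haveI : IsOpenImmersion (Spec.map (CommRingCat.ofHom
      (algebraMap (MvPolynomial (Fin n) Γ(Y, V)) (Localization.Away g)))) :=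
    IsOpenImmersion.of_isLocalization (S := Localization.Away g) g
  haveI pflP' : PreservesFiniteLimits (tilde.functor (CommRingCat.of (Localization.Away g))) :=
    Groth.Agent.Lib.LpullQCL.preservesFiniteLimits_tilde (Localization.Away g)
  have hWV : X.basicOpen (φ g) ≤ f ⁻¹ᵁ V := hWU'.trans h
  have hβγ : ρ.comp (algebraMap Γ(Y, V) (Localization.Away g)) =
      (f.appLE V (X.basicOpen (φ g)) hWV).hom := by
    have e1 : algebraMap Γ(Y, V) (Localization.Away g) =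
        (algebraMap (MvPolynomial (Fin n) Γ(Y, V)) (Localization.Away g)).comp
          (algebraMap Γ(Y, V) (MvPolynomial (Fin n) Γ(Y, V))) :=
      IsScalarTower.algebraMap_eq _ _ _
    have e2 : φ.comp (algebraMap Γ(Y, V) (MvPolynomial (Fin n) Γ(Y, V))) =
        (f.appLE V U' h).hom := hφ.2
    rw [e1, ← RingHom.comp_assoc, hρ, RingHom.comp_assoc, e2]
    show ((f.appLE V U' h) ≫ X.presheaf.map (homOfLE hWU').op).hom = _
    rw [Scheme.Hom.appLE_map]
  have hcomp := cImm_comp_base f (X.basicOpen (φ g)) hW V hV hWV ρ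
    (algebraMap Γ(Y, V) (Localization.Away g)) hβγ
  -- the comparison isomorphism
  obtain ⟨r1⟩ := nonempty_restrict_RP_cImm U' (X.basicOpen (φ g)) hWU' φ g rfl ρ hρ
    (DCoh.toD X F)
  let eW : DCoh.toD _ ((DerSch.pushCx (cImm (X.basicOpen (φ g)) ρ)).obj
        ((DCoh.restrictCx (X.basicOpen (φ g))).obj F)) ≅
      (DCoh.tildeD (CommRingCat.of (Localization.Away g))).obj
        (toD ((ESc (algebraMap (MvPolynomial (Fin n) Γ(Y, V)) (Localization.Away g))).obj T)) :=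
    (Groth.Agent.Lib.ProjFormulaH3.RpushQIso (cImm (X.basicOpen (φ g)) ρ) _).symm ≪≫
    (RP (cImm (X.basicOpen (φ g)) ρ)).mapIso (facIso (X.basicOpen (φ g)).ι F).symm ≪≫
    r1.symm ≪≫
    (DD (Spec.map (CommRingCat.ofHom
      (algebraMap (MvPolynomial (Fin n) Γ(Y, V)) (Localization.Away g))))).mapIso
      ((Groth.Agent.Lib.ProjFormulaH3.RpushIsoMapD (cImm U' φ)).app _ ≪≫ e.symm ≪≫
        (tilde.functor (CommRingCat.of
          (MvPolynomial (Fin n) Γ(Y, V)))).mapDerivedCategoryFactors.app T) ≪≫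
    Groth.Agent.Lib.TildePCH3.awayIso (MvPolynomial (Fin n) Γ(Y, V)) T g ≪≫
    ((tilde.functor (CommRingCat.of (Localization.Away g))).mapDerivedCategoryFactors.app _).symm
  haveI flRP' : Module.Flat Γ(Y, V) (Localization.Away g) :=
    Module.Flat.trans Γ(Y, V) (MvPolynomial (Fin n) Γ(Y, V)) (Localization.Away g)
  haveI fpP' : Algebra.FinitePresentation (MvPolynomial (Fin n) Γ(Y, V)) (Localization.Away g) :=
    IsLocalization.Away.finitePresentation g
  haveI fpRP' : Algebra.FinitePresentation Γ(Y, V) (Localization.Away g) :=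
    Algebra.FinitePresentation.trans Γ(Y, V) (MvPolynomial (Fin n) Γ(Y, V)) (Localization.Away g)
  haveI : Flat (Spec.map (CommRingCat.ofHom (algebraMap Γ(Y, V) (Localization.Away g)))) :=
    Flat.SpecMap_iff.mpr (RingHom.flat_algebraMap_iff.mpr flRP')
  haveI : LocallyOfFinitePresentation
      (Spec.map (CommRingCat.ofHom (algebraMap Γ(Y, V) (Localization.Away g)))) :=
    (LocallyOfFinitePresentation.SpecMap_iff _).mpr
      (RingHom.finitePresentation_algebraMap.mpr fpRP')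
  refine ⟨fun m => ?_, fun w => ?_⟩
  · -- pseudo-coherence
    have hpcW : DCoh.IsPseudoCoherentD m (DCoh.toD _
        ((DerSch.pushCx (cImm (X.basicOpen (φ g)) ρ)).obj
          ((DCoh.restrictCx (X.basicOpen (φ g))).obj F))) :=
      isPC_of_iso eW.symm ((Groth.Agent.Lib.TildePCH3.main1004 (Localization.Away g) _ m).mpr
        ((isPseudoCoherent'_iff_forall _).mp hC1 m))
    have h7 := (main7211 (cImm (X.basicOpen (φ g)) ρ)
      (Spec.map (CommRingCat.ofHom (algebraMap Γ(Y, V) (Localization.Away g))) ≫ hV.fromSpec)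
      m ((DCoh.restrictCx (X.basicOpen (φ g))).obj F)).1.mpr hpcW
    rw [hcomp] at h7
    exact h7
  · -- tor amplitude
    have hT : DerSch.HasTorAmplitude
        (Spec.map (CommRingCat.ofHom (algebraMap Γ(Y, V) (Localization.Away g)))) a b
        ((DerSch.pushCx (cImm (X.basicOpen (φ g)) ρ)).obj
          ((DCoh.restrictCx (X.basicOpen (φ g))).obj F)) :=
      (main7259 (algebraMap Γ(Y, V) (Localization.Away g)) _ _ ⟨eW⟩ a b).mpr hC2
    have h1 := hasTorAmplitudeAt_comp_openImmersion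
      (Spec.map (CommRingCat.ofHom (algebraMap Γ(Y, V) (Localization.Away g)))) hV.fromSpec _ a b _
      (hT ((cImm (X.basicOpen (φ g)) ρ).base w))
    have h2 : DerSch.HasTorAmplitudeAt (cImm (X.basicOpen (φ g)) ρ ≫
        Spec.map (CommRingCat.ofHom (algebraMap Γ(Y, V) (Localization.Away g))) ≫ hV.fromSpec)
        a b ((DCoh.restrictCx (X.basicOpen (φ g))).obj F) w :=
      hasTorAmplitudeIn_of_iso (DerivedCategory.Q.mapIso
        (Groth.Agent.Lib.TorAmpPushL.pushCxIso (cImm (X.basicOpen (φ g)) ρ)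
          (Spec.map (CommRingCat.ofHom (algebraMap Γ(Y, V) (Localization.Away g))) ≫
            hV.fromSpec) w ((DCoh.restrictCx (X.basicOpen (φ g))).obj F))) a b h1
    rw [hcomp] at h2
    exact h2

end Away

section Main

variable {X Y : Scheme.{u}} (f : X ⟶ Y)

/-- **S6212** -/
theorem main6212 [LocallyOfFiniteType f] (F : CochainComplex X.Modules ℤ) (a b : ℤ) (x : X) :
    (∃ U : X.Opens, x ∈ U ∧
        DerSch.HasPerfAmplitudeRel (U.ι ≫ f) a b ((DCoh.restrictCx U).obj F)) ↔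
      ((∃ U : X.Opens, x ∈ U ∧
          DerSch.IsPseudoCoherentRel (U.ι ≫ f) (a - 1)
            (DCoh.toD (U : Scheme.{u}) ((DCoh.restrictCx U).obj F)) ∧
          ∀ i : ℤ, i < a ∨ b < i →
            IsZero (DCoh.HD (DCoh.toD (U : Scheme.{u}) ((DCoh.restrictCx U).obj F)) i)) ∧
        DerSch.HasTorAmplitudeAt f a b F x) := by
  constructor
  · rintro ⟨U, hxU, hP⟩
    refine ⟨⟨U, hxU, hP.1 (a - 1),
      fun i hi => isZero_HD_of_hasTorAmplitude (U.ι ≫ f) _ a b hP.2 i hi⟩, ?_⟩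
    exact Groth.Agent.Lib.RelFlatAmpH3.hasTorAmplitudeAt_of_restrict' f U.ι ⟨x, hxU⟩ F a b
      (hP.2 ⟨x, hxU⟩)
  · rintro ⟨⟨U₀, hxU₀, hpc, hvan⟩, htor⟩
    obtain ⟨V, hV, hfxV, -⟩ := Opens.isBasis_iff_nbhd.mp Y.isBasis_affineOpens
      (show f.base x ∈ (⊤ : Y.Opens) from trivial)
    obtain ⟨U', hU', hxU', hle⟩ := Opens.isBasis_iff_nbhd.mp X.isBasis_affineOpens
      (show x ∈ U₀ ⊓ f ⁻¹ᵁ V from ⟨hxU₀, hfxV⟩)
    have hU'U₀ : U' ≤ U₀ := hle.trans inf_le_left
    have h : U' ≤ f ⁻¹ᵁ V := hle.trans inf_le_right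
    obtain ⟨n, φ, hφ⟩ := exists_isChart f U' V h
      (LocallyOfFiniteType.finiteType_appLE f hV hU' h)
    haveI := isClosedImmersion_cImm U' hU' φ hφ.1
    haveI := Groth.Agent.Lib.LpullQCL.preservesFiniteLimits_tilde (MvPolynomial (Fin n) Γ(Y, V))
    obtain ⟨T, b₀, hv, hfp, hff, hex, ⟨e⟩⟩ :=
      exists_chart_rep f F a b U₀ hpc hvan V hV U' hU' hU'U₀ h φ hφ
    have H3 := stalk_torAmp_of_chart f F a b V hV U' hU' h φ hφ T e ⟨x, hxU'⟩ htor
    obtain ⟨g, hg, hC1, hC2⟩ := exists_away_perfAmp n T a b b₀ hv hfp hff hex _ H3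
    refine ⟨X.basicOpen (φ g), ?_, perfAmp_of_away f F a b V hV U' hU' h φ hφ T e g hC1 hC2⟩
    exact (cImm_mem_basicOpen_iff U' φ g ⟨x, hxU'⟩).mp hg

end Main

end

end Groth.Agent.Lib.PerfNbhdH3
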