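import Mathlib
import Groth.Prelude
import Groth.Agent.Lib.PerfFibCrit1_helper3
import Groth.Agent.Lib.PerfNbhd4_helper3
import Groth.Agent.Lib.FibInjF_helper6
import Groth.Agent.Lib.TorAmpComp_lead
import Groth.Agent.Lib.DMod36_helper6
import Groth.Agent.Lib.LpullQC_lead

/-!
# Fibre criterion for tor amplitude, scheme level (helper3; for S6233)

* `FibAmp f g a b F x`: the fibre condition of S6233.
* `torAmpAt_tilde_of_fibre`: the criterion for `K~` on an affine scheme.
-/

set_option autoImplicit false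
set_option linter.all false
set_option maxHeartbeats 1600000
set_option backward.isDefEq.respectTransparency false
set_option backward.isDefEq.respectTransparency.types false
set_option backward.defeqAttrib.useBackward true

universe u
open CategoryTheory CategoryTheory.Limits AlgebraicGeometry Opposite TopologicalSpace
open CategoryTheory.Pretriangulated

attribute [local instance] HasDerivedCategory.standard

namespace Groth.Agent.Lib.PerfFibCritH3

open DRing DerSch DerivedCategory Groth.Agent.Lib.DMod_helper6 Groth.Agent.Lib.DCohLocLead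
  Groth.Agent.Lib.TildeAmpL Groth.Agent.Lib.RelTildeAmpH3 Groth.Agent.Lib.RelPCbH3
  Groth.Agent.Lib.TorAmpRelH3 Groth.Agent.Lib.TorSmoothH3

noncomputable section

section Fib

variable {X Y S : Scheme.{u}} (f : X ⟶ Y) (g : Y ⟶ S)

/-- the fibre condition: `F_x ⊗^L O_{Y_s, y}` has tor amplitude in `[a, b]` over `O_{Y_s, y}` -/
def FibAmp (a b : ℤ) (F : CochainComplex X.Modules ℤ) (x : X) : Prop :=
  ∀ [DRing.HasLBaseChange (Ideal.Quotient.mk (Ideal.map (g.stalkMap (f.base x)).hom
      (IsLocalRing.maximalIdeal (S.presheaf.stalk (g.base (f.base x))))))],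
    DRing.HasTorAmplitudeIn
      ((Y.presheaf.stalk (f.base x)) ⧸ Ideal.map (g.stalkMap (f.base x)).hom
        (IsLocalRing.maximalIdeal (S.presheaf.stalk (g.base (f.base x))))) a b
      ((DRing.LBaseChange (Ideal.Quotient.mk (Ideal.map (g.stalkMap (f.base x)).hom
        (IsLocalRing.maximalIdeal (S.presheaf.stalk (g.base (f.base x))))))).obj
        (DRing.toD ((DerSch.stalkCxOver f x).obj F)))

theorem fibAmp_of_iso (a b : ℤ) {F F' : CochainComplex X.Modules ℤ} (x : X)
    (e : DRing.toD ((DerSch.stalkCxOver f x).obj F) ≅ DRing.toD ((DerSch.stalkCxOver f x).obj F'))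
    (h : FibAmp f g a b F x) : FibAmp f g a b F' x := by
  intro inst
  exact hasTorAmplitudeIn_of_iso ((DRing.LBaseChange _).mapIso e) a b h

theorem fibAmp_of_hasTorAmplitudeAt (a b : ℤ) (F : CochainComplex X.Modules ℤ) (x : X)
    (h : HasTorAmplitudeAt f a b F x) : FibAmp f g a b F x := by
  intro inst
  exact hasTorAmplitudeIn_lBaseChange _ _ a b h

end Fib

section Transf

variable {X Y S : Scheme.{u}} (f : X ⟶ Y) (g : Y ⟶ S)

theorem fibAmp_restrict {U' : Scheme.{u}} (j : U' ⟶ X) [IsOpenImmersion j] (u : U')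
    (F : CochainComplex X.Modules ℤ) (a b : ℤ) (h : FibAmp f g a b F (j.base u)) :
    FibAmp (j ≫ f) g a b
      (((Scheme.Modules.restrictFunctor j).mapHomologicalComplex (ComplexShape.up ℤ)).obj F) u := by
  intro inst
  exact hasTorAmplitudeIn_of_iso ((DRing.LBaseChange _).mapIso
    (DerivedCategory.Q.mapIso (restrStalkCxOverIso j f u F)).symm) a b
    (@h (Groth.Agent.Lib.LpullQCL.hasLBaseChange _))

theorem fibAmp_of_restrict {U' : Scheme.{u}} (j : U' ⟶ X) [IsOpenImmersion j] (u : U')
    (F : CochainComplex X.Modules ℤ) (a b : ℤ)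
    (h : FibAmp (j ≫ f) g a b
      (((Scheme.Modules.restrictFunctor j).mapHomologicalComplex (ComplexShape.up ℤ)).obj F) u) :
    FibAmp f g a b F (j.base u) := by
  intro inst
  exact hasTorAmplitudeIn_of_iso ((DRing.LBaseChange (Ideal.Quotient.mk
      (Ideal.map (g.stalkMap (f.base (j.base u))).hom
        (IsLocalRing.maximalIdeal (S.presheaf.stalk (g.base (f.base (j.base u)))))))).mapIso
    (DerivedCategory.Q.mapIso (restrStalkCxOverIso j f u F))) a b
    (@h (Groth.Agent.Lib.LpullQCL.hasLBaseChange _))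

theorem fibAmp_push {X' : Scheme.{u}} (i : X ⟶ X') [IsClosedImmersion i] (f' : X' ⟶ Y) (x : X)
    (F : CochainComplex X.Modules ℤ) (a b : ℤ) (h : FibAmp (i ≫ f') g a b F x) :
    FibAmp f' g a b ((DerSch.pushCx i).obj F) (i.base x) := by
  intro inst
  exact hasTorAmplitudeIn_of_iso ((DRing.LBaseChange _).mapIso
    (DerivedCategory.Q.mapIso (Groth.Agent.Lib.TorAmpPushL.pushCxIso i f' x F)).symm) a b
    (@h (Groth.Agent.Lib.LpullQCL.hasLBaseChange _))

end Transf

section Core

variable {Y S : Scheme.{u}} (g : Y ⟶ S)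

/-- the fibre criterion for `K~` on an affine scheme over `Y` -/
theorem torAmpAt_tilde_of_fibre [Flat g] [LocallyOfFinitePresentation g]
    {P : Type u} [CommRing P] (k : XA P ⟶ Y) [Flat k] [LocallyOfFinitePresentation k]
    (K₁ : Cx P) (b₁ : ℤ) (hKb : VanishesAbove K₁ b₁)
    (hKff : ∀ i : ℤ, Module.Finite P (K₁.X i) ∧ Module.Free P (K₁.X i))
    (q : PrimeSpectrum P) (a b : ℤ)
    (hA : HasTorAmplitudeAt (k ≫ g) a b ((tildeCx P).obj K₁) q)
    (hfib : FibAmp k g a b ((tildeCx P).obj K₁) q) :
    HasTorAmplitudeAt k a b ((tildeCx P).obj K₁) q := by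
  letI algAB : Algebra (S.presheaf.stalk (g.base (k.base q))) (Y.presheaf.stalk (k.base q)) :=
    (g.stalkMap (k.base q)).hom.toAlgebra
  letI algBC : Algebra (Y.presheaf.stalk (k.base q)) (Bq P q) := (k.stalkMap q).hom.toAlgebra
  letI algAC : Algebra (S.presheaf.stalk (g.base (k.base q))) (Bq P q) :=
    (g.stalkMap (k.base q) ≫ k.stalkMap q).hom.toAlgebra
  haveI tw : IsScalarTower (S.presheaf.stalk (g.base (k.base q))) (Y.presheaf.stalk (k.base q))
      (Bq P q) := IsScalarTower.of_algebraMap_eq (fun _ => rfl)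
  haveI lh1 : IsLocalHom (algebraMap (S.presheaf.stalk (g.base (k.base q)))
      (Y.presheaf.stalk (k.base q))) :=
    inferInstanceAs (IsLocalHom (g.stalkMap (k.base q)).hom)
  haveI lh2 : IsLocalHom (algebraMap (Y.presheaf.stalk (k.base q)) (Bq P q)) :=
    inferInstanceAs (IsLocalHom (k.stalkMap q).hom)
  haveI fl1 : Module.Flat (S.presheaf.stalk (g.base (k.base q))) (Y.presheaf.stalk (k.base q)) :=
    Flat.stalkMap g (k.base q)
  haveI fl2 : Module.Flat (Y.presheaf.stalk (k.base q)) (Bq P q) := Flat.stalkMap k q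
  haveI fl3 : Module.Flat (S.presheaf.stalk (g.base (k.base q))) (Bq P q) :=
    Module.Flat.trans (S.presheaf.stalk (g.base (k.base q))) (Y.presheaf.stalk (k.base q)) (Bq P q)
  haveI eft : Algebra.EssFiniteType (S.presheaf.stalk (g.base (k.base q)))
      (Y.presheaf.stalk (k.base q)) := LocallyOfFiniteType.stalkMap g (k.base q)
  have hC : CAlgX.IsEssFinitePresentation (S.presheaf.stalk (g.base (k.base q))) (Bq P q) := by
    have h1 := Groth.Agent.Lib.FibInjH6.isEssFinitePresentation_stalkMap (k ≫ g) q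
    rw [Scheme.Hom.stalkMap_comp] at h1
    exact h1
  -- the complex
  have hKb' : VanishesAbove ((EScA (fun q : PrimeSpectrum P => Bq P q) q).obj K₁) b₁ :=
    fun i hi => (ES P (Bq P q)).map_isZero (hKb i hi)
  have hKff' : ∀ i : ℤ,
      Module.Finite (Bq P q) (((EScA (fun q : PrimeSpectrum P => Bq P q) q).obj K₁).X i) ∧
      Module.Free (Bq P q) (((EScA (fun q : PrimeSpectrum P => Bq P q) q).obj K₁).X i) :=
    fun i => ⟨finite_ES (B := Bq P q) _ (hKff i).1, free_ES (B := Bq P q) _ (hKff i).2⟩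
  let eB : (stalkCxOver k q).obj ((tildeCx P).obj K₁) ≅
      (restrictCx (algebraMap (Y.presheaf.stalk (k.base q)) (Bq P q))).obj
        ((EScA (fun q : PrimeSpectrum P => Bq P q) q).obj K₁) :=
    ((ModuleCat.restrictScalars.{u} (k.stalkMap q).hom).mapHomologicalComplex
      (ComplexShape.up ℤ)).mapIso (cxIso q K₁).symm
  have hA' : HasTorAmplitudeIn (S.presheaf.stalk (g.base (k.base q))) a b
      (toD ((restrictCx (algebraMap (S.presheaf.stalk (g.base (k.base q))) (Bq P q))).obj
        ((EScA (fun q : PrimeSpectrum P => Bq P q) q).obj K₁))) := by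
    have e1 := DerivedCategory.Q.mapIso
      (Groth.Agent.Lib.TorAmpCompL.compCxIso k g q ((tildeCx P).obj K₁))
    have h1 := hasTorAmplitudeIn_of_iso e1.symm a b hA
    have e2 := DerivedCategory.Q.mapIso ((restrictCx (g.stalkMap (k.base q)).hom).mapIso eB)
    have e3 := DerivedCategory.Q.mapIso (restrictCxCompIso (g.stalkMap (k.base q)).hom
      (k.stalkMap q).hom (algebraMap (S.presheaf.stalk (g.base (k.base q))) (Bq P q)) rfl
      ((EScA (fun q : PrimeSpectrum P => Bq P q) q).obj K₁)).symm
    exact hasTorAmplitudeIn_of_iso (e2 ≪≫ e3) a b h1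
  haveI instL : HasLBaseChange (Ideal.Quotient.mk
      ((IsLocalRing.maximalIdeal (S.presheaf.stalk (g.base (k.base q)))).map
        (algebraMap (S.presheaf.stalk (g.base (k.base q))) (Y.presheaf.stalk (k.base q))))) :=
    Groth.Agent.Lib.LpullQCL.hasLBaseChange _
  have hfib' := hasTorAmplitudeIn_of_iso ((DRing.LBaseChange (Ideal.Quotient.mk
      ((IsLocalRing.maximalIdeal (S.presheaf.stalk (g.base (k.base q)))).map
        (algebraMap (S.presheaf.stalk (g.base (k.base q)))
          (Y.presheaf.stalk (k.base q)))))).mapIso (DerivedCategory.Q.mapIso eB)) a b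
    (@hfib instL)
  have hB := torAmp_of_fibre hC _ b₁ hKb' hKff' a b hA' hfib'
  exact hasTorAmplitudeIn_of_iso (DerivedCategory.Q.mapIso eB).symm a b hB

end Core

end

end Groth.Agent.Lib.PerfFibCritH3
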