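import Mathlib
import Groth.Prelude
import Groth.Agent.Lib.PerfFibCrit2_helper3
import Groth.Agent.Lib.RelPCj_helper3
import Groth.Agent.Lib.TorDimFactor_lead

/-!
# Fibre criterion for perfect amplitude relative to a morphism (helper3; S6233)
-/

set_option autoImplicit false
set_option linter.all false
set_option maxHeartbeats 1600000
set_option backward.isDefEq.respectTransparency false
set_option backward.isDefEq.respectTransparency.types false
set_option backward.defeqAttrib.useBackward true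

universe u
open CategoryTheory CategoryTheory.Limits AlgebraicGeometry Opposite TopologicalSpace
open CategoryTheory.Pretriangulated

attribute [local instance] HasDerivedCategory.standard

namespace Groth.Agent.Lib.PerfFibCritH3

open DRing DerSch DerivedCategory Groth.Agent.Lib.DMod_helper6 Groth.Agent.Lib.DCohLocLead
  Groth.Agent.Lib.TildeAmpL Groth.Agent.Lib.RelTildeAmpH3 Groth.Agent.Lib.RelPCbH3
  Groth.Agent.Lib.TorAmpRelH3 Groth.Agent.Lib.TorSmoothH3 Groth.Agent.Lib.PerfNbhdH3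

noncomputable section

local instance hasRpushInstPFC3 {X Y : Scheme.{u}} (f : X ⟶ Y) : DCoh.HasRpush f :=
  Groth.Agent.Lib.BCOpenL.hasRpush f

section Chart

variable {X Y : Scheme.{u}} (f : X ⟶ Y)

/-- the chart test from relative pseudo-coherence of a restriction -/
theorem gpc_of_relPC_restrict [LocallyOfFiniteType f] (F : CochainComplex X.Modules ℤ) (m : ℤ)
    (U₀ : X.Opens)
    (hpc : DerSch.IsPseudoCoherentRel (U₀.ι ≫ f) m
      (DCoh.toD (U₀ : Scheme.{u}) ((DCoh.restrictCx U₀).obj F)))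
    (V : Y.Opens) (hV : IsAffineOpen V) (U' : X.Opens) (hU' : IsAffineOpen U') (hU'U₀ : U' ≤ U₀)
    (h : U' ≤ f ⁻¹ᵁ V) {n : ℕ} (φ : MvPolynomial (Fin n) Γ(Y, V) →+* Γ(X, U'))
    (hφ : DerSch.IsChart f U' V h φ) : GPC m (DCoh.toD X F) U' φ := by
  haveI : LocallyOfFiniteType (U₀.ι ≫ f) := inferInstance
  have Hi := (relPC_iff_forall_gpc (U₀.ι ≫ f) m _).mp hpc
  have hrange : U' ≤ U₀.ι.opensRange := by
    rw [Scheme.Opens.opensRange_ι]
    exact hU'U₀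
  let U₁ : (U₀ : Scheme.{u}).affineOpens :=
    ⟨U₀.ι ⁻¹ᵁ U', hU'.preimage_of_isOpenImmersion _ hrange⟩
  have hle : U₁.1 ≤ U₀.ι ⁻¹ᵁ U' := le_rfl
  have hUV : U₁.1 ≤ (U₀.ι ≫ f) ⁻¹ᵁ V := fun x hx => h hx
  haveI : IsIso (U₀.ι.resLE U' U₁.1 hle) := isIso_resLE _ _ _ hle (by
    intro y hy
    exact ⟨⟨y, hU'U₀ hy⟩, hy, rfl⟩)
  have hbij := bijective_appLE_of_isIso_resLE U₀.ι U₁.1 U' hle U₁.2 hU'
  have hchart := isChart_appLE_comp f U₀.ι U₁.1 U' hle V h hUV hbij φ hφ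
  have h1 := Hi U₁ ⟨V, hV⟩ hUV _ hchart
  have h2 := gpc_of_iso (facIso U₀.ι F).symm m U₁.1 _ h1
  exact (gpc_resLE_iff U₀.ι U₁.1 U' hle φ m _).mp h2

/-- representation by a bounded above complex of finite free modules in a chart -/
theorem exists_chart_rep_all [LocallyOfFiniteType f] (F : CochainComplex X.Modules ℤ)
    (U₀ : X.Opens)
    (hpc : ∀ m : ℤ, DerSch.IsPseudoCoherentRel (U₀.ι ≫ f) m
      (DCoh.toD (U₀ : Scheme.{u}) ((DCoh.restrictCx U₀).obj F)))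
    (V : Y.Opens) (hV : IsAffineOpen V) (U' : X.Opens) (hU' : IsAffineOpen U') (hU'U₀ : U' ≤ U₀)
    (h : U' ≤ f ⁻¹ᵁ V) {n : ℕ} (φ : MvPolynomial (Fin n) Γ(Y, V) →+* Γ(X, U'))
    (hφ : DerSch.IsChart f U' V h φ) [IsClosedImmersion (cImm U' φ)]
    [PreservesFiniteLimits (tilde.functor (CommRingCat.of (MvPolynomial (Fin n) Γ(Y, V))))] :
    ∃ (K₁ : Cx (MvPolynomial (Fin n) Γ(Y, V))) (b₁ : ℤ), VanishesAbove K₁ b₁ ∧
      (∀ i : ℤ, Module.Finite (MvPolynomial (Fin n) Γ(Y, V)) (K₁.X i) ∧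
        Module.Free (MvPolynomial (Fin n) Γ(Y, V)) (K₁.X i)) ∧
      Nonempty ((DCoh.tildeD (CommRingCat.of (MvPolynomial (Fin n) Γ(Y, V)))).obj (toD K₁) ≅
        (chartD U' φ).obj (DCoh.toD X F)) := by
  have hpc𝒦 : ∀ m : ℤ, DCoh.IsPseudoCoherentD m ((chartD U' φ).obj (DCoh.toD X F)) := fun m =>
    (gpc_iff_chartD U' φ m _).mp
      (gpc_of_relPC_restrict f F m U₀ (hpc m) V hV U' hU' hU'U₀ h φ hφ)
  have hQ : DCoh.IsQCohD ((chartD U' φ).obj (DCoh.toD X F)) := fun i =>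
    (main7240 (i - 1) _ (hpc𝒦 (i - 1))).1 i (by omega)
  obtain ⟨K₀, ⟨eK⟩⟩ := Groth.Agent.Lib.KoszL.exists_tildeD_iso
    (MvPolynomial (Fin n) Γ(Y, V)) _ hQ
  have hpcK₀ : IsPseudoCoherent' (MvPolynomial (Fin n) Γ(Y, V)) K₀ :=
    (isPseudoCoherent'_iff_forall _).mpr (fun m =>
      (Groth.Agent.Lib.TildePCH3.main1004 (MvPolynomial (Fin n) Γ(Y, V)) K₀ m).mp
        (isPC_of_iso eK.symm (hpc𝒦 m)))
  obtain ⟨K₁, b₁, hb, hff, ⟨e⟩⟩ := hpcK₀
  exact ⟨K₁, b₁, hb, hff,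
    ⟨(DCoh.tildeD (CommRingCat.of (MvPolynomial (Fin n) Γ(Y, V)))).mapIso e ≪≫ eK⟩⟩

end Chart

section Main

variable {X Y S : Scheme.{u}} (f : X ⟶ Y) (g : Y ⟶ S)

/-- the fibre criterion at a point -/
theorem hasTorAmplitudeAt_of_fibre [LocallyOfFiniteType f] [Flat g]
    [LocallyOfFinitePresentation g] (x : X) (F : CochainComplex X.Modules ℤ) (a b : ℤ)
    (U₁ : X.Opens) (hxU₁ : x ∈ U₁)
    (hpc : ∀ m : ℤ, DerSch.IsPseudoCoherentRel (U₁.ι ≫ f) m
      (DCoh.toD (U₁ : Scheme.{u}) ((DCoh.restrictCx U₁).obj F)))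
    (hA : HasTorAmplitudeAt (f ≫ g) a b F x) (hfib : FibAmp f g a b F x) :
    HasTorAmplitudeAt f a b F x := by
  obtain ⟨V, hV, hfxV, -⟩ := Opens.isBasis_iff_nbhd.mp Y.isBasis_affineOpens
    (show f.base x ∈ (⊤ : Y.Opens) from trivial)
  obtain ⟨U', hU', hxU', hle⟩ := Opens.isBasis_iff_nbhd.mp X.isBasis_affineOpens
    (show x ∈ U₁ ⊓ f ⁻¹ᵁ V from ⟨hxU₁, hfxV⟩)
  have hU'U₁ : U' ≤ U₁ := hle.trans inf_le_left
  have h : U' ≤ f ⁻¹ᵁ V := hle.trans inf_le_right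
  obtain ⟨n, φ, hφ⟩ := exists_isChart f U' V h
    (LocallyOfFiniteType.finiteType_appLE f hV hU' h)
  haveI := isClosedImmersion_cImm U' hU' φ hφ.1
  haveI := Groth.Agent.Lib.LpullQCL.preservesFiniteLimits_tilde (MvPolynomial (Fin n) Γ(Y, V))
  obtain ⟨K₁, b₁, hKb, hKff, ⟨e⟩⟩ :=
    exists_chart_rep_all f F U₁ hpc V hV U' hU' hU'U₁ h φ hφ
  haveI flRP : Module.Flat Γ(Y, V) (MvPolynomial (Fin n) Γ(Y, V)) := inferInstance
  haveI fpRP : Algebra.FinitePresentation Γ(Y, V) (MvPolynomial (Fin n) Γ(Y, V)) := inferInstance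
  haveI : Flat (Spec.map (CommRingCat.ofHom
      (algebraMap Γ(Y, V) (MvPolynomial (Fin n) Γ(Y, V))))) :=
    Flat.SpecMap_iff.mpr (RingHom.flat_algebraMap_iff.mpr flRP)
  haveI : LocallyOfFinitePresentation (Spec.map (CommRingCat.ofHom
      (algebraMap Γ(Y, V) (MvPolynomial (Fin n) Γ(Y, V))))) :=
    (LocallyOfFinitePresentation.SpecMap_iff _).mpr
      (RingHom.finitePresentation_algebraMap.mpr fpRP)
  have hcomp := cImm_comp_base f U' hU' V hV h φ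
    (algebraMap Γ(Y, V) (MvPolynomial (Fin n) Γ(Y, V))) hφ.2
  let x' : ((U' : X.Opens) : Scheme.{u}) := ⟨x, hxU'⟩
  -- the comparison isomorphism
  let e' : DCoh.toD _ ((DerSch.pushCx (cImm U' φ)).obj ((DCoh.restrictCx U').obj F)) ≅
      DCoh.toD _ ((tildeCx (MvPolynomial (Fin n) Γ(Y, V))).obj K₁) :=
    (chartD_Q_iso U' φ F).symm ≪≫ e.symm ≪≫
      (tilde.functor (CommRingCat.of
        (MvPolynomial (Fin n) Γ(Y, V)))).mapDerivedCategoryFactors.app K₁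
  -- tor amplitude over `S`
  have hA1 := hasTorAmplitudeAt_restrict (Scheme.Opens.ι U') (f ≫ g) x' F a b hA
  rw [← Category.assoc, ← hcomp, Category.assoc] at hA1
  have hA2 : HasTorAmplitudeAt
      ((Spec.map (CommRingCat.ofHom (algebraMap Γ(Y, V) (MvPolynomial (Fin n) Γ(Y, V)))) ≫
        hV.fromSpec) ≫ g) a b
      ((DerSch.pushCx (cImm U' φ)).obj ((DCoh.restrictCx U').obj F))
      ((cImm U' φ).base x') :=
    hasTorAmplitudeIn_of_iso (DerivedCategory.Q.mapIso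
      (Groth.Agent.Lib.TorAmpPushL.pushCxIso (cImm U' φ) _ x' _)).symm a b hA1
  have hA3 := Groth.Agent.Lib.RelFlatAmpH3.hasTorAmplitudeAt_of_iso _ e' a b _ hA2
  -- the fibre condition
  have hf1 : FibAmp ((Scheme.Opens.ι U') ≫ f) g a b ((DCoh.restrictCx U').obj F) x' :=
    fibAmp_restrict f g (Scheme.Opens.ι U') x' F a b @hfib
  rw [← hcomp] at hf1
  have hf2 : FibAmp (Spec.map (CommRingCat.ofHom
        (algebraMap Γ(Y, V) (MvPolynomial (Fin n) Γ(Y, V)))) ≫ hV.fromSpec) g a b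
      ((DerSch.pushCx (cImm U' φ)).obj ((DCoh.restrictCx U').obj F)) ((cImm U' φ).base x') :=
    fibAmp_push g (cImm U' φ) _ x' _ a b @hf1
  have hf3 : FibAmp (Spec.map (CommRingCat.ofHom
        (algebraMap Γ(Y, V) (MvPolynomial (Fin n) Γ(Y, V)))) ≫ hV.fromSpec) g a b
      ((tildeCx (MvPolynomial (Fin n) Γ(Y, V))).obj K₁) ((cImm U' φ).base x') :=
    fibAmp_of_iso _ g a b _ (Groth.Agent.Lib.TorAmpPushL.stalkDIso _ _ e') @hf2
  -- the criterion
  have hB := torAmpAt_tilde_of_fibre g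
    (Spec.map (CommRingCat.ofHom (algebraMap Γ(Y, V) (MvPolynomial (Fin n) Γ(Y, V)))) ≫
      hV.fromSpec) K₁ b₁ hKb hKff _ a b hA3 @hf3
  have hB2 := Groth.Agent.Lib.RelFlatAmpH3.hasTorAmplitudeAt_of_iso _ e'.symm a b _ hB
  have hB3 : HasTorAmplitudeAt (cImm U' φ ≫
      Spec.map (CommRingCat.ofHom (algebraMap Γ(Y, V) (MvPolynomial (Fin n) Γ(Y, V)))) ≫
        hV.fromSpec) a b ((DCoh.restrictCx U').obj F) x' :=
    hasTorAmplitudeIn_of_iso (DerivedCategory.Q.mapIso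
      (Groth.Agent.Lib.TorAmpPushL.pushCxIso (cImm U' φ)
        (Spec.map (CommRingCat.ofHom (algebraMap Γ(Y, V) (MvPolynomial (Fin n) Γ(Y, V)))) ≫
          hV.fromSpec) x' ((DCoh.restrictCx U').obj F))) a b hB2
  rw [hcomp] at hB3
  exact Groth.Agent.Lib.RelFlatAmpH3.hasTorAmplitudeAt_of_restrict' f (Scheme.Opens.ι U') x' F a b hB3

/-- **S6233** -/
theorem main6233 (h : X ⟶ S) (w : f ≫ g = h) [LocallyOfFiniteType f] [LocallyOfFiniteType h]
    [Flat g] [LocallyOfFinitePresentation g] (x : X) (F : CochainComplex X.Modules ℤ) (a b : ℤ)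
    [DRing.HasLBaseChange (Ideal.Quotient.mk (Ideal.map (g.stalkMap (f.base x)).hom
      (IsLocalRing.maximalIdeal (S.presheaf.stalk (g.base (f.base x))))))] :
    ((∃ U : X.Opens, x ∈ U ∧
          DerSch.HasPerfAmplitudeRel (U.ι ≫ h) a b ((DCoh.restrictCx U).obj F)) ∧
        DRing.HasTorAmplitudeIn
          ((Y.presheaf.stalk (f.base x)) ⧸ Ideal.map (g.stalkMap (f.base x)).hom
            (IsLocalRing.maximalIdeal (S.presheaf.stalk (g.base (f.base x))))) a b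
          ((DRing.LBaseChange (Ideal.Quotient.mk (Ideal.map (g.stalkMap (f.base x)).hom
            (IsLocalRing.maximalIdeal (S.presheaf.stalk (g.base (f.base x))))))).obj
            (DRing.toD ((DerSch.stalkCxOver f x).obj F)))) ↔
      (∃ U : X.Opens, x ∈ U ∧
        DerSch.HasPerfAmplitudeRel (U.ι ≫ f) a b ((DCoh.restrictCx U).obj F)) := by
  subst w
  haveI : LocallyOfFiniteType g := inferInstance
  have hg : ∀ n : ℤ, DerSch.IsNPseudoCoherent g n := fun n => isNPseudoCoherent_of_flat_lfp g n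
  constructor
  · rintro ⟨⟨U₁, hxU₁, hP⟩, hfib⟩
    have hpcf : ∀ m : ℤ, DerSch.IsPseudoCoherentRel (U₁.ι ≫ f) m
        (DCoh.toD (U₁ : Scheme.{u}) ((DCoh.restrictCx U₁).obj F)) := fun m => by
      haveI : LocallyOfFiniteType (U₁.ι ≫ f) := inferInstance
      have h1 := hP.1 m
      rw [← Category.assoc] at h1
      exact (main12088 (U₁.ι ≫ f) g hg m _).mpr h1
    have hvan : ∀ i : ℤ, i < a ∨ b < i →
        IsZero (DCoh.HD (DCoh.toD (U₁ : Scheme.{u}) ((DCoh.restrictCx U₁).obj F)) i) :=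
      fun i hi => isZero_HD_of_hasTorAmplitude (U₁.ι ≫ f ≫ g) _ a b hP.2 i hi
    have hAx : HasTorAmplitudeAt (f ≫ g) a b F x :=
      Groth.Agent.Lib.RelFlatAmpH3.hasTorAmplitudeAt_of_restrict' (f ≫ g) U₁.ι ⟨x, hxU₁⟩ F a b
        (hP.2 ⟨x, hxU₁⟩)
    have hF : FibAmp f g a b F x := fun {_} => hfib
    have hB := hasTorAmplitudeAt_of_fibre f g x F a b U₁ hxU₁ hpcf hAx @hF
    exact (main6212 f F a b x).mpr ⟨⟨U₁, hxU₁, hpcf (a - 1), hvan⟩, hB⟩
  · rintro ⟨U, hxU, hP⟩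
    refine ⟨⟨U, hxU, fun m => ?_, fun u => ?_⟩, ?_⟩
    · haveI : LocallyOfFiniteType (U.ι ≫ f) := inferInstance
      have h1 := (main12088 (U.ι ≫ f) g hg m _).mp (hP.1 m)
      rw [Category.assoc] at h1
      exact h1
    · have h1 := Groth.Agent.Lib.TorAmpCompL.hasTorAmplitudeAt_comp (U.ι ≫ f) g 0 u
        (by simpa using Groth.Agent.Lib.TorDimFactorL.unit_flat_of_flat g ((U.ι ≫ f).base u))
        _ a b (hP.2 u)
      rw [Category.assoc] at h1
      simpa using h1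
    · exact fibAmp_of_hasTorAmplitudeAt f g a b F x
        (Groth.Agent.Lib.RelFlatAmpH3.hasTorAmplitudeAt_of_restrict' f U.ι ⟨x, hxU⟩ F a b
          (hP.2 ⟨x, hxU⟩))

end Main

end

end Groth.Agent.Lib.PerfFibCritH3
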