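import Mathlib
import Groth.Agent.Lib.Perf4_helper6
set_option autoImplicit false
universe u

/-!
# Flat Frobenius implies (faithfully) flat perfect closure (helper6)
-/

namespace Groth.Agent.Lib.PerfFlat

open Groth.Agent.Lib.Perf

/-- Equational criterion for a flat ring hom, with no instance clash. -/
theorem trivial_relation_of_flat {A B : Type*} [CommRing A] [CommRing B] (g : A →+* B)
    (hg : g.Flat) {l : ℕ} (f : Fin l → A) (s : Fin l → B) (h : ∑ t, g (f t) * s t = 0) :
    ∃ (k : ℕ) (a : Fin l → Fin k → A) (z : Fin k → B),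
      (∀ t, s t = ∑ j, g (a t j) * z j) ∧ ∀ j, ∑ t, f t * a t j = 0 := by
  letI := g.toAlgebra
  haveI : Module.Flat A B := hg
  have h' : ∑ t, f t • s t = 0 := by
    rw [← h]
    refine Finset.sum_congr rfl fun t _ => ?_
    rw [Algebra.smul_def]; rfl
  obtain ⟨k, a, z, h1, h2⟩ := Module.Flat.isTrivialRelation_of_sum_smul_eq_zero (R := A) (M := B)
    (f := f) (x := s) h'
  refine ⟨k, a, z, fun t => ?_, h2⟩
  rw [h1 t]
  refine Finset.sum_congr rfl fun j _ => ?_
  rw [Algebra.smul_def]; rfl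

/-- A ring hom with a "basis" is flat. -/
theorem flat_of_finsupp_bijective {A B : Type u} [CommRing A] [CommRing B] (g : A →+* B)
    {E : Type u} (Φ : (E →₀ A) → B) (hΦ : Function.Bijective Φ)
    (hadd : ∀ c d, Φ (c + d) = Φ c + Φ d) (hsmul : ∀ (a : A) c, Φ (a • c) = g a * Φ c) :
    g.Flat := by
  letI := g.toAlgebra
  let e : (E →₀ A) ≃ₗ[A] B := LinearEquiv.ofBijective
    { toFun := Φ
      map_add' := hadd
      map_smul' := fun a c => by
        rw [hsmul, RingHom.id_apply, Algebra.smul_def]; rfl } hΦ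
  exact Module.Flat.of_linearEquiv e.symm

variable (p : ℕ) [Fact p.Prime]

theorem flat_iterateFrobenius {R : Type u} [CommRing R] [CharP R p]
    (hF : (frobenius R p).Flat) (N : ℕ) : (iterateFrobenius R p N).Flat := by
  induction N with
  | zero => rw [iterateFrobenius_zero]; exact RingHom.Flat.id R
  | succ N ih =>
    rw [add_comm, iterateFrobenius_add, iterateFrobenius_one]
    exact RingHom.Flat.comp ih hF

/-- If Frobenius of `R` is flat, `R → R_perf` is flat. -/
theorem flat_of_flat_frobenius {R P : Type u} [CommRing R] [CommRing P] [CharP R p] [CharP P p]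
    [PerfectRing P p] (i : R →+* P) [IsPRadical i p] (hF : (frobenius R p).Flat) : i.Flat := by
  have hp : p.Prime := Fact.out
  have hR0 : (p : R) = 0 := CharP.cast_eq_zero R p
  have hP0 : (p : P) = 0 := CharP.cast_eq_zero P p
  have hPn : ∀ n : ℕ, Function.Bijective fun s : P => s ^ p ^ n := fun n => by
    have h0 : Function.Bijective (fun x : P => x ^ p) := bijective_frobenius P p
    have := h0.iterate n
    rwa [pow_iterate] at this
  letI := i.toAlgebra
  change Module.Flat R P
  apply Module.Flat.of_forall_isTrivialRelation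
  intro l f y hfy
  have hfy' : ∑ t, i (f t) * y t = 0 := by
    rw [← hfy]
    refine Finset.sum_congr rfl fun t _ => ?_
    rw [Algebra.smul_def]; rfl
  choose n0 r0 h0 using fun t => IsPRadical.pow_mem i p (y t)
  obtain ⟨n, hn⟩ : ∃ n : ℕ, n = ∑ t, n0 t := ⟨_, rfl⟩
  have hcommon : ∀ t, ∃ r, i r = y t ^ p ^ n := by
    intro t
    have hle : n0 t ≤ n := by
      rw [hn]
      exact Finset.single_le_sum (fun _ _ => Nat.zero_le _) (Finset.mem_univ t)
    obtain ⟨k, hk⟩ := Nat.exists_eq_add_of_le hle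
    refine ⟨r0 t ^ p ^ k, ?_⟩
    rw [map_pow, h0, ← pow_mul, ← pow_add, ← hk]
  choose r hr using hcommon
  have h1 : i (∑ t, f t ^ p ^ n * r t) = 0 := by
    rw [map_sum]
    have h2 : (∑ t, i (f t) * y t) ^ p ^ n = 0 := by
      rw [hfy', zero_pow (pow_ne_zero _ hp.ne_zero)]
    rw [sum_pow_pp p hP0] at h2
    rw [← h2]
    refine Finset.sum_congr rfl fun t _ => ?_
    rw [map_mul, map_pow, hr, mul_pow]
  obtain ⟨m, hm⟩ := mem_pNilradical.mp (IsPRadical.ker_le i p (show _ ∈ RingHom.ker i from h1))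
  rw [sum_pow_pp p hR0] at hm
  have hrel : ∑ t, (iterateFrobenius R p (n + m)) (f t) * (r t ^ p ^ m) = 0 := by
    rw [← hm]
    refine Finset.sum_congr rfl fun t _ => ?_
    rw [iterateFrobenius_def, mul_pow, ← pow_mul, ← pow_add]
  obtain ⟨k, a, z, hz1, hz2⟩ := trivial_relation_of_flat (iterateFrobenius R p (n + m))
    (flat_iterateFrobenius p hF (n + m)) f (fun t => r t ^ p ^ m) hrel
  choose w hw using fun j => (hPn (n + m)).2 (i (z j))
  refine ⟨k, a, w, fun t => ?_, hz2⟩
  apply (hPn (n + m)).1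
  show y t ^ p ^ (n + m) = (∑ j, a t j • w j) ^ p ^ (n + m)
  rw [sum_pow_pp p hP0, pow_add, pow_mul, ← hr, ← map_pow]
  have h3 := hz1 t
  rw [h3, map_sum]
  refine Finset.sum_congr rfl fun j _ => ?_
  rw [map_mul, iterateFrobenius_def, Algebra.smul_def, mul_pow, ← hw j, map_pow]
  show i (a t j) ^ p ^ (n + m) * (w j) ^ p ^ (n + m) =
    i (a t j) ^ (p ^ n * p ^ m) * w j ^ (p ^ n * p ^ m)
  rw [pow_add]

/-- If Frobenius of `R` is flat, `R → R_perf` is faithfully flat. -/
theorem faithfullyFlat_of_flat_frobenius {R P : Type u} [CommRing R] [CommRing P] [CharP R p]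
    [CharP P p] [PerfectRing P p] (i : R →+* P) [IsPRadical i p] (hF : (frobenius R p).Flat) :
    i.FaithfullyFlat := by
  have hp : p.Prime := Fact.out
  rw [RingHom.FaithfullyFlat.iff_flat_and_comap_surjective]
  refine ⟨flat_of_flat_frobenius p i hF, ?_⟩
  intro r
  letI := i.toAlgebra
  haveI : Algebra.IsIntegral R P := ⟨fun y => by
    obtain ⟨n, b, hb⟩ := IsPRadical.pow_mem i p y
    refine IsIntegral.of_pow (pow_pos hp.pos n) ?_
    rw [← hb]
    exact isIntegral_algebraMap (R := R) (A := P) (x := b)⟩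
  obtain ⟨Q, -, hQ, hQr⟩ := Ideal.exists_ideal_over_prime_of_isIntegral r.asIdeal (⊥ : Ideal P) (by
    intro b hb
    have hb' : b ∈ RingHom.ker i := by
      rw [Ideal.mem_comap, Ideal.mem_bot] at hb
      exact hb
    have h2 := IsPRadical.ker_le i p hb'
    rw [pNilradical_prime hp] at h2
    exact nilradical_le_prime r.asIdeal h2)
  exact ⟨⟨Q, hQ⟩, PrimeSpectrum.ext hQr⟩

end Groth.Agent.Lib.PerfFlat
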