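import Mathlib

/-!
# A ring map in characteristic `p` is integral iff its perfection is
-/

namespace Groth.Agent.Lib.PerfIntegral

universe u

theorem isIntegralElem_of_pow {R S : Type u} [CommRing R] [CommRing S] (f : R →+* S) (x : S)
    (n : ℕ) (hn : 0 < n) (hx : f.IsIntegralElem (x ^ n)) : f.IsIntegralElem x := by
  letI := f.toAlgebra
  exact IsIntegral.of_pow hn hx

theorem main (p : ℕ) [Fact p.Prime]
    {A B A' B' : Type u} [CommRing A] [CommRing B] [CommRing A'] [CommRing B']
    [CharP A p] [CharP B p] [CharP A' p] [CharP B' p] [PerfectRing A' p] [PerfectRing B' p]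
    (φ : A →+* B) (i : A →+* A') (j : B →+* B') [IsPerfectClosure i p] [IsPerfectClosure j p]
    (φ' : A' →+* B') (hφ : φ'.comp i = j.comp φ) : φ.IsIntegral ↔ φ'.IsIntegral := by
  have hp : p.Prime := Fact.out
  constructor
  · intro h b'
    obtain ⟨n, b, hb⟩ := IsPRadical.pow_mem j p b'
    obtain ⟨g, hgm, hg⟩ := h b
    refine isIntegralElem_of_pow φ' b' (p ^ n) (pow_pos hp.pos n) ?_
    refine ⟨g.map i, hgm.map i, ?_⟩
    rw [Polynomial.eval₂_map, hφ, ← hb, ← Polynomial.hom_eval₂, hg, map_zero]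
  · intro h b
    obtain ⟨g', hg'm, hg'⟩ := h (j b)
    have hcoef : ∀ k, ∃ (n : ℕ) (a : A), i a = (g'.coeff k) ^ p ^ n :=
      fun k => IsPRadical.pow_mem i p _
    choose n a hna using hcoef
    obtain ⟨N, hN⟩ : ∃ N, N = (Finset.range (g'.natDegree + 1)).sup n := ⟨_, rfl⟩
    have hlift : ∀ k, (g'.coeff k) ^ p ^ N ∈ Set.range i := by
      intro k
      by_cases hk : k ≤ g'.natDegree
      · have hle : n k ≤ N := by
          rw [hN]; exact Finset.le_sup (Finset.mem_range.mpr (Nat.lt_succ_of_le hk))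
        refine ⟨a k ^ p ^ (N - n k), ?_⟩
        rw [map_pow, hna, ← pow_mul, ← pow_add, Nat.add_sub_cancel' hle]
      · rw [Polynomial.coeff_eq_zero_of_natDegree_lt (not_le.mp hk),
          zero_pow (pow_pos hp.pos N).ne']
        exact ⟨0, map_zero i⟩
    have hg''lifts : g'.map (iterateFrobenius A' p N) ∈ Polynomial.lifts i := by
      rw [Polynomial.lifts_iff_coeff_lifts]
      intro k
      rw [Polynomial.coeff_map, iterateFrobenius_def]
      exact hlift k
    obtain ⟨h₀, hh₀map, -, hh₀m⟩ :=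
      Polynomial.lifts_and_natDegree_eq_and_monic hg''lifts (hg'm.map _)
    have hev : Polynomial.eval₂ φ' ((j b) ^ p ^ N) (g'.map (iterateFrobenius A' p N)) = 0 := by
      rw [Polynomial.eval₂_map]
      have hcomm : φ'.comp (iterateFrobenius A' p N) = (iterateFrobenius B' p N).comp φ' := by
        ext x; simp [iterateFrobenius_def, map_pow]
      rw [hcomm]
      have h1 : (iterateFrobenius B' p N) (Polynomial.eval₂ φ' (j b) g') =
          Polynomial.eval₂ ((iterateFrobenius B' p N).comp φ') ((j b) ^ p ^ N) g' :=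
        Polynomial.hom_eval₂ g' φ' (iterateFrobenius B' p N) (j b)
      rw [← h1, hg', map_zero]
    rw [← hh₀map, Polynomial.eval₂_map, hφ, ← map_pow, ← Polynomial.hom_eval₂] at hev
    have hz : Polynomial.eval₂ φ (b ^ p ^ N) h₀ ∈ RingHom.ker j := hev
    obtain ⟨M, hM⟩ := mem_pNilradical.mp (IsPRadical.ker_le j p hz)
    refine isIntegralElem_of_pow φ b (p ^ N) (pow_pos hp.pos N) ⟨h₀ ^ p ^ M, hh₀m.pow _, ?_⟩
    rw [Polynomial.eval₂_pow, hM]

end Groth.Agent.Lib.PerfIntegral
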