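import Mathlib
import Groth.Prelude
import Groth.Agent.Lib.PerfAmp2_helper6

/-!
# A functorial perfection of schemes of characteristic `p` (helper6)
APPEND-ONLY once landed.

* `Pf p Y`, `pfπ p Y : Pf p Y ⟶ Y`: the limit of the Frobenius tower of `Y`, a perfection of `Y`.
* `pfLift`, `pf_hom_ext`, `pfMap`, `pfFunctor`: functoriality.
* `isPerfect_of_isLimit_of_isPerfect`: a limit of perfect schemes is perfect.
* `isLimit_pfConeLift`: the perfection functor commutes with cofiltered limits with affine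
  transition maps (for perfect apex).
-/

set_option autoImplicit false
set_option linter.all false

namespace Groth.Agent.Lib.PerfAmpH6

open AlgebraicGeometry CategoryTheory CategoryTheory.Limits TopologicalSpace Opposite
open FrobSch

universe u

section Pf

variable (p : ℕ) [Fact p.Prime]

instance hasLimit_tower (Y : Scheme.{u}) [IsCharP Y p] : HasLimit (tower Y p) := by
  haveI : ∀ {i j : (ULift.{u} ℕ)ᵒᵖ} (f : i ⟶ j), IsAffineHom ((tower Y p).map f) :=
    fun f => isAffineHom_tower_map Y p f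
  exact Groth.Agent.Lib.AffLimExists_helper7.hasLimit_of_affine_transitions (tower Y p)

/-- the chosen limit cone of the Frobenius tower -/
noncomputable def pfCone (Y : Scheme.{u}) [IsCharP Y p] : Cone (tower Y p) := limit.cone _

noncomputable def pfIsLimit (Y : Scheme.{u}) [IsCharP Y p] : IsLimit (pfCone p Y) :=
  limit.isLimit _

/-- the chosen perfection -/
noncomputable abbrev Pf (Y : Scheme.{u}) [IsCharP Y p] : Scheme.{u} := (pfCone p Y).pt

/-- the projections of the perfection to the levels of the tower -/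
noncomputable def pfProj (Y : Scheme.{u}) [IsCharP Y p] (n : ℕ) : Pf p Y ⟶ Y := proj (pfCone p Y) n

/-- the canonical morphism from the perfection -/
noncomputable def pfπ (Y : Scheme.{u}) [IsCharP Y p] : Pf p Y ⟶ Y := pfProj p Y 0

instance isCharP_Pf (Y : Scheme.{u}) [IsCharP Y p] : IsCharP (Pf p Y) p :=
  IsCharP.of_hom (pfπ p Y) p

theorem isPerfect_Pf (Y : Scheme.{u}) [IsCharP Y p] : IsPerfect (Pf p Y) p :=
  isPerfect_of_isLimit (pfCone p Y) (pfIsLimit p Y)

theorem isPerfection_pfπ (Y : Scheme.{u}) [IsCharP Y p] : IsPerfection (pfπ p Y) p :=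
  ⟨isPerfect_Pf p Y, fun T _ hT => bijective_of_isLimit (pfCone p Y) (pfIsLimit p Y) T hT⟩

instance isAffineHom_pfProj (Y : Scheme.{u}) [IsCharP Y p] (n : ℕ) : IsAffineHom (pfProj p Y n) := by
  haveI : ∀ {i j : (ULift.{u} ℕ)ᵒᵖ} (f : i ⟶ j), IsAffineHom ((tower Y p).map f) :=
    fun f => isAffineHom_tower_map Y p f
  exact isAffineHom_π_app (tower Y p) (pfCone p Y) (pfIsLimit p Y) _

instance isAffineHom_pfπ (Y : Scheme.{u}) [IsCharP Y p] : IsAffineHom (pfπ p Y) :=
  isAffineHom_pfProj p Y 0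

theorem pfProj_pow (Y : Scheme.{u}) [IsCharP Y p] (n : ℕ) :
    pfProj p Y n ≫ frobPow Y p n = pfπ p Y :=
  proj_zero_pow (pfCone p Y) n

variable {p}

/-- lifting a morphism from a perfect scheme to the perfection -/
noncomputable def pfLift {T Y : Scheme.{u}} [IsCharP T p] [IsCharP Y p] (hT : IsPerfect T p)
    (g : T ⟶ Y) : T ⟶ Pf p Y :=
  (((isPerfection_pfπ p Y).2 T hT).2 g).choose

@[reassoc]
theorem pfLift_π {T Y : Scheme.{u}} [IsCharP T p] [IsCharP Y p] (hT : IsPerfect T p)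
    (g : T ⟶ Y) : pfLift hT g ≫ pfπ p Y = g :=
  (((isPerfection_pfπ p Y).2 T hT).2 g).choose_spec

theorem pf_hom_ext {T Y : Scheme.{u}} [IsCharP T p] [IsCharP Y p] (hT : IsPerfect T p)
    {g₁ g₂ : T ⟶ Pf p Y} (h : g₁ ≫ pfπ p Y = g₂ ≫ pfπ p Y) : g₁ = g₂ :=
  ((isPerfection_pfπ p Y).2 T hT).1 h

/-- functoriality of the perfection -/
noncomputable def pfMap (p : ℕ) [Fact p.Prime] {Y Z : Scheme.{u}} [IsCharP Y p] [IsCharP Z p]
    (f : Y ⟶ Z) : Pf p Y ⟶ Pf p Z :=
  pfLift (isPerfect_Pf p Y) (pfπ p Y ≫ f)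

@[reassoc]
theorem pfMap_π {Y Z : Scheme.{u}} [IsCharP Y p] [IsCharP Z p] (f : Y ⟶ Z) :
    pfMap p f ≫ pfπ p Z = pfπ p Y ≫ f :=
  pfLift_π _ _

theorem pfMap_id (Y : Scheme.{u}) [IsCharP Y p] : pfMap p (𝟙 Y) = 𝟙 (Pf p Y) := by
  apply pf_hom_ext (isPerfect_Pf p Y)
  rw [pfMap_π, Category.comp_id, Category.id_comp]

theorem pfMap_comp {Y Z W : Scheme.{u}} [IsCharP Y p] [IsCharP Z p] [IsCharP W p] (f : Y ⟶ Z)
    (g : Z ⟶ W) : pfMap p (f ≫ g) = pfMap p f ≫ pfMap p g := by
  apply pf_hom_ext (isPerfect_Pf p Y)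
  rw [pfMap_π (p := p), Category.assoc, pfMap_π (p := p), pfMap_π_assoc (p := p)]

theorem isAffineHom_pfMap {Y Z : Scheme.{u}} [IsCharP Y p] [IsCharP Z p] (f : Y ⟶ Z)
    [IsAffineHom f] : IsAffineHom (pfMap p f) := by
  haveI : IsAffineHom (pfMap p f ≫ pfπ p Z) := by
    rw [pfMap_π]
    infer_instance
  exact IsAffineHom.of_comp (pfMap p f) (pfπ p Z)

theorem compactSpace_Pf (Y : Scheme.{u}) [IsCharP Y p] [CompactSpace Y] : CompactSpace (Pf p Y) :=
  QuasiCompact.compactSpace_of_compactSpace (pfπ p Y)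

theorem quasiSeparatedSpace_Pf (Y : Scheme.{u}) [IsCharP Y p] [QuasiSeparatedSpace Y] :
    QuasiSeparatedSpace (Pf p Y) :=
  quasiSeparatedSpace_of_quasiSeparated (pfπ p Y)

end Pf

section Functor

variable (p : ℕ) [Fact p.Prime] {J : Type u} [SmallCategory J] (G : J ⥤ Scheme.{u})
  [∀ j, IsCharP (G.obj j) p]

/-- the perfection of a diagram -/
noncomputable def pfFunctor : J ⥤ Scheme.{u} where
  obj j := Pf p (G.obj j)
  map a := pfMap p (G.map a)
  map_id j := by
    rw [G.map_id]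
    exact pfMap_id _
  map_comp a b := by
    rw [G.map_comp]
    exact pfMap_comp _ _

instance isCharP_pfFunctor_obj (j : J) : IsCharP ((pfFunctor p G).obj j) p :=
  isCharP_Pf p (G.obj j)

theorem pfFunctor_map {i j : J} (a : i ⟶ j) : (pfFunctor p G).map a = pfMap p (G.map a) := rfl

/-- a limit of perfect schemes is perfect -/
theorem isPerfect_of_isLimit_of_isPerfect {K : Type*} [Category K] (F : K ⥤ Scheme.{u})
    [∀ j, IsCharP (F.obj j) p] (c : Cone F) [IsCharP c.pt p] (hc : IsLimit c)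
    (h : ∀ j, IsPerfect (F.obj j) p) : IsPerfect c.pt p := by
  haveI : ∀ j, IsIso (frob (F.obj j) p) := h
  let c' : Cone F :=
    { pt := c.pt
      π :=
        { app := fun j => c.π.app j ≫ inv (frob (F.obj j) p)
          naturality := fun i j a => by
            have h1 : inv (frob (F.obj i) p) ≫ F.map a = F.map a ≫ inv (frob (F.obj j) p) := by
              rw [IsIso.inv_comp_eq, ← Category.assoc, frob_comp, Category.assoc,
                IsIso.hom_inv_id, Category.comp_id]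
            show 𝟙 c.pt ≫ c.π.app j ≫ inv (frob (F.obj j) p) =
              (c.π.app i ≫ inv (frob (F.obj i) p)) ≫ F.map a
            rw [Category.id_comp, Category.assoc, h1, ← Category.assoc, c.w] } }
  have hρ : ∀ j, hc.lift c' ≫ c.π.app j = c.π.app j ≫ inv (frob (F.obj j) p) := fun j =>
    hc.fac c' j
  refine ⟨hc.lift c', ?_, ?_⟩
  · apply hc.hom_ext
    intro j
    rw [Category.assoc, hρ, ← Category.assoc, frob_comp, Category.assoc, IsIso.hom_inv_id,
      Category.comp_id, Category.id_comp]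
  · apply hc.hom_ext
    intro j
    rw [Category.assoc, frob_comp, ← Category.assoc, hρ, Category.assoc, IsIso.inv_hom_id,
      Category.comp_id, Category.id_comp]

variable {p G}

/-- the legs of a cone, with clean types -/
def leg {K : Type*} [Category K] {F : K ⥤ Scheme.{u}} (c : Cone F) (j : K) : c.pt ⟶ F.obj j :=
  c.π.app j

theorem leg_w {K : Type*} [Category K] {F : K ⥤ Scheme.{u}} (c : Cone F) {i j : K} (a : i ⟶ j) :
    leg c i ≫ F.map a = leg c j := c.w a

/-- the cone over the perfected diagram induced by a cone with perfect apex -/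
noncomputable def pfConeLift (c : Cone G) [IsCharP c.pt p] (hT : IsPerfect c.pt p) :
    Cone (pfFunctor p G) where
  pt := c.pt
  π :=
    { app := fun j => (pfLift hT (leg c j) : c.pt ⟶ Pf p (G.obj j))
      naturality := fun i j a => by
        show 𝟙 c.pt ≫ pfLift hT (leg c j) = pfLift hT (leg c i) ≫ pfMap p (G.map a)
        apply pf_hom_ext hT
        rw [Category.id_comp, pfLift_π, Category.assoc, pfMap_π (p := p), pfLift_π_assoc,
          leg_w] }

/-- the legs of a cone over a perfected diagram, with clean types -/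
def pleg (PL : Cone (pfFunctor p G)) (j : J) : PL.pt ⟶ Pf p (G.obj j) := PL.π.app j

theorem pleg_w (PL : Cone (pfFunctor p G)) {i j : J} (a : i ⟶ j) :
    pleg PL i ≫ pfMap p (G.map a) = pleg PL j := PL.w a

theorem pleg_pfConeLift (c : Cone G) [IsCharP c.pt p] (hT : IsPerfect c.pt p) (j : J) :
    pleg (pfConeLift c hT) j = pfLift hT (leg c j) := rfl

theorem pleg_hom_ext {PL : Cone (pfFunctor p G)} (hPL : IsLimit PL) {T : Scheme.{u}}
    {f g : T ⟶ PL.pt} (h : ∀ j, f ≫ pleg PL j = g ≫ pleg PL j) : f = g :=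
  hPL.hom_ext h

theorem leg_hom_ext {K : Type*} [Category K] {F : K ⥤ Scheme.{u}} {c : Cone F} (hc : IsLimit c)
    {T : Scheme.{u}} {f g : T ⟶ c.pt} (h : ∀ j, f ≫ leg c j = g ≫ leg c j) : f = g :=
  hc.hom_ext h

/-- a cone from clean-typed legs -/
def coneMk {K : Type*} [Category K] (F : K ⥤ Scheme.{u}) (T : Scheme.{u})
    (t : ∀ j, T ⟶ F.obj j) (ht : ∀ {i j : K} (a : i ⟶ j), t i ≫ F.map a = t j) : Cone F where
  pt := T
  π :=
    { app := t
      naturality := fun i j a => by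
        show 𝟙 T ≫ t j = t i ≫ F.map a
        rw [Category.id_comp, ht] }

theorem lift_leg {K : Type*} [Category K] {F : K ⥤ Scheme.{u}} {c : Cone F} (hc : IsLimit c)
    (s : Cone F) (j : K) : hc.lift s ≫ leg c j = leg s j := hc.fac s j

theorem leg_coneMk {K : Type*} [Category K] (F : K ⥤ Scheme.{u}) (T : Scheme.{u})
    (t : ∀ j, T ⟶ F.obj j) (ht : ∀ {i j : K} (a : i ⟶ j), t i ≫ F.map a = t j) (j : K) :
    leg (coneMk F T t ht) j = t j := rfl

theorem lift_pleg {PL : Cone (pfFunctor p G)} (hPL : IsLimit PL) (s : Cone (pfFunctor p G))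
    (j : J) : hPL.lift s ≫ pleg PL j = pleg s j := hPL.fac s j

/-- **The perfection functor commutes with cofiltered limits with affine transition maps.** -/
theorem isLimit_pfConeLift [IsCofiltered J] (haff : ∀ {i j : J} (a : i ⟶ j), IsAffineHom (G.map a))
    (c : Cone G) (hc : IsLimit c) [IsCharP c.pt p] (hT : IsPerfect c.pt p) :
    Nonempty (IsLimit (pfConeLift c hT)) := by
  haveI : ∀ {i j : J} (a : i ⟶ j), IsAffineHom ((pfFunctor p G).map a) := fun a => by
    haveI := haff a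
    rw [pfFunctor_map]
    exact isAffineHom_pfMap _
  haveI := Groth.Agent.Lib.AffLimExists_helper7.hasLimit_of_affine_transitions (pfFunctor p G)
  obtain ⟨PL, hPL⟩ : ∃ PL : Cone (pfFunctor p G), Nonempty (IsLimit PL) :=
    ⟨limit.cone _, ⟨limit.isLimit _⟩⟩
  obtain ⟨hPL⟩ := hPL
  obtain ⟨j₀⟩ := IsCofiltered.nonempty (C := J)
  haveI : IsCharP PL.pt p := IsCharP.of_hom (pleg PL j₀ ≫ pfπ p (G.obj j₀)) p
  have hPLperf : IsPerfect PL.pt p :=
    isPerfect_of_isLimit_of_isPerfect p (pfFunctor p G) PL hPL (fun j => isPerfect_Pf p (G.obj j))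
  let φ : c.pt ⟶ PL.pt := hPL.lift (pfConeLift c hT)
  have hφ : ∀ j, φ ≫ pleg PL j = pfLift hT (leg c j) := fun j =>
    lift_pleg hPL (pfConeLift c hT) j
  let cψ : Cone G := coneMk G PL.pt (fun j => pleg PL j ≫ pfπ p (G.obj j)) (fun {i j} a => by
    rw [Category.assoc, ← pfMap_π (p := p), ← Category.assoc, pleg_w])
  let ψ : PL.pt ⟶ c.pt := hc.lift cψ
  have hψ : ∀ j, ψ ≫ leg c j = pleg PL j ≫ pfπ p (G.obj j) := fun j => lift_leg hc cψ j
  have h1 : φ ≫ ψ = 𝟙 c.pt := by
    apply leg_hom_ext hc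
    intro j
    rw [Category.assoc, hψ, ← Category.assoc, hφ, pfLift_π, Category.id_comp]
  have hψφ : ∀ j, ψ ≫ pfLift hT (leg c j) = pleg PL j := by
    intro j
    apply pf_hom_ext hPLperf
    rw [Category.assoc, pfLift_π]
    exact hψ j
  have h2 : ψ ≫ φ = 𝟙 PL.pt := by
    apply pleg_hom_ext hPL
    intro j
    rw [Category.assoc, hφ, hψφ, Category.id_comp]
  refine ⟨IsLimit.ofIsoLimit hPL (Cones.ext ⟨ψ, φ, h2, h1⟩ (fun j => ?_))⟩
  show pleg PL j = ψ ≫ pfLift hT (leg c j)
  exact (hψφ j).symm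

end Functor

end Groth.Agent.Lib.PerfAmpH6
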