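import Mathlib
import Groth.Prelude
import Groth.Agent.Lib.PerfMod1_helper6
import Groth.Agent.Lib.CentSch_helper1
import Groth.Agent.Lib.NApxK_helper7

/-!
# A perfectly finitely presented perfect scheme has a finitely presented model (helper6)
APPEND-ONLY once landed.
-/

set_option autoImplicit false
set_option linter.all false

namespace Groth.Agent.Lib.PerfAmpH6

open AlgebraicGeometry CategoryTheory CategoryTheory.Limits TopologicalSpace Opposite
open FrobSch

universe u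

section Base

variable (p : ℕ) [Fact p.Prime]

/-- the spectrum of the prime field -/
noncomputable abbrev Bp : Scheme.{u} := Spec (CommRingCat.of (ULift.{u} (ZMod p)))

instance subsingleton_hom_Bp (T : Scheme.{u}) : Subsingleton (T ⟶ Bp.{u} p) := by
  constructor
  intro f g
  apply ext_of_isAffine
  ext x
  obtain ⟨y, rfl⟩ : ∃ y : ULift.{u} (ZMod p),
      (Scheme.ΓSpecIso (CommRingCat.of (ULift.{u} (ZMod p)))).inv y = x :=
    ⟨(Scheme.ΓSpecIso (CommRingCat.of (ULift.{u} (ZMod p)))).hom x, by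
      rw [← CommRingCat.comp_apply, Iso.hom_inv_id]
      rfl⟩
  have h := Subsingleton.elim
    ((f.appTop.hom.comp (Scheme.ΓSpecIso (CommRingCat.of (ULift.{u} (ZMod p)))).inv.hom).comp
      (ULift.ringEquiv (R := ZMod p)).symm.toRingHom)
    ((g.appTop.hom.comp (Scheme.ΓSpecIso (CommRingCat.of (ULift.{u} (ZMod p)))).inv.hom).comp
      (ULift.ringEquiv (R := ZMod p)).symm.toRingHom)
  exact congrArg (fun φ => φ y.down) h

theorem nonempty_hom_Bp (T : Scheme.{u}) [IsCharP T p] : Nonempty (T ⟶ Bp.{u} p) := by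
  have h0 : (p : Γ(T, ⊤)) = 0 := IsCharP.natCast_eq_zero
  haveI : CharP Γ(T, ⊤) (ringChar Γ(T, ⊤)) := ringChar.charP _
  have hdvd : ringChar Γ(T, ⊤) ∣ p := ringChar.dvd h0
  let φ : ULift.{u} (ZMod p) →+* Γ(T, ⊤) :=
    (ZMod.castHom hdvd Γ(T, ⊤)).comp (ULift.ringEquiv (R := ZMod p)).toRingHom
  exact ⟨T.toSpecΓ ≫ Spec.map (CommRingCat.ofHom φ)⟩

end Base

section Model

variable {p : ℕ} [Fact p.Prime]

/-- **From a retraction of a perfection of a finitely presented scheme to a model.** -/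
theorem exists_model_of_retract {X : Scheme.{u}} [IsCharP X p] (hXperf : IsPerfect X p)
    {Xj : Scheme.{u}} (σ : Xj ⟶ Bp.{u} p) [LocallyOfFinitePresentation σ] [QuasiCompact σ]
    [QuasiSeparated σ] [IsCharP Xj p] (s : X ⟶ Pf p Xj) (r : Pf p Xj ⟶ X) (hsr : s ≫ r = 𝟙 X) :
    ∃ (X0 : Scheme.{u}) (s0 : X0 ⟶ Bp.{u} p) (_ : LocallyOfFinitePresentation s0)
      (_ : CompactSpace X0) (_ : QuasiSeparatedSpace X0) (π : X ⟶ X0), IsPerfection π p := by
  haveI : CompactSpace Xj := QuasiCompact.compactSpace_of_compactSpace σ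
  haveI : QuasiSeparatedSpace Xj := quasiSeparatedSpace_of_quasiSeparated σ
  -- step 1: descend `(r ≫ s) ≫ pfπ` to a level of the tower
  haveI : ∀ {i j : (ULift.{u} ℕ)ᵒᵖ} (f : i ⟶ j), IsAffineHom ((tower Xj p).map f) :=
    fun f => isAffineHom_tower_map Xj p f
  haveI : ∀ i, CompactSpace ((tower Xj p).obj i) := fun _ => ‹CompactSpace Xj›
  haveI : ∀ i, QuasiSeparatedSpace ((tower Xj p).obj i) := fun _ => ‹QuasiSeparatedSpace Xj›
  let t : tower Xj p ⟶ (Functor.const _).obj (Bp.{u} p) :=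
    { app := fun _ => σ
      naturality := fun a b _ => (subsingleton_hom_Bp p Xj).elim _ _ }
  obtain ⟨i, ε', hε', -⟩ := Scheme.exists_π_app_comp_eq_of_locallyOfFinitePresentation
    (tower Xj p) t σ (pfCone p Xj) (pfIsLimit p Xj) ((r ≫ s) ≫ pfπ p Xj) (by
      ext k
      exact (subsingleton_hom_Bp p (Pf p Xj)).elim _ _)
  obtain ⟨n, hn⟩ : ∃ n : ℕ, n = i.unop.down := ⟨_, rfl⟩
  obtain ⟨ε, hεdef⟩ : ∃ ε : Xj ⟶ Xj, ε = ε' := ⟨ε', rfl⟩
  have hε : pfProj p Xj n ≫ ε = (r ≫ s) ≫ pfπ p Xj := by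
    rw [hεdef, hn]
    exact hε'
  clear hεdef hε'
  -- step 2: the equaliser of `ε` and `F^n`
  haveI : LocallyOfFinitePresentation (pullback.diagonal σ) :=
    Groth.Agent.Lib.CentSchH1.locallyOfFinitePresentation_diagonal σ
  let d : Xj ⟶ pullback σ σ := pullback.lift ε (frobPow Xj p n) (Subsingleton.elim _ _)
  have hd1 : d ≫ pullback.fst σ σ = ε := pullback.lift_fst _ _ _
  have hd2 : d ≫ pullback.snd σ σ = frobPow Xj p n := pullback.lift_snd _ _ _
  let X0 : Scheme.{u} := pullback d (pullback.diagonal σ)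
  obtain ⟨ι, hιdef⟩ : ∃ ι : X0 ⟶ Xj,
      ι = pullback.fst d (pullback.diagonal σ) := ⟨_, rfl⟩
  haveI : LocallyOfFinitePresentation ι := hιdef ▸ inferInstance
  haveI : QuasiCompact ι := hιdef ▸ inferInstance
  haveI : Mono ι := hιdef ▸ inferInstance
  have hι1 : ι ≫ ε = pullback.snd d (pullback.diagonal σ) := by
    rw [hιdef, ← hd1, ← Category.assoc, pullback.condition, Category.assoc,
      pullback.diagonal_fst, Category.comp_id]
  have hι2 : ι ≫ frobPow Xj p n = pullback.snd d (pullback.diagonal σ) := by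
    rw [hιdef, ← hd2, ← Category.assoc, pullback.condition, Category.assoc,
      pullback.diagonal_snd, Category.comp_id]
  have hι : ι ≫ ε = ι ≫ frobPow Xj p n := hι1.trans hι2.symm
  have hlift : ∀ {T : Scheme.{u}} (h : T ⟶ Xj), h ≫ ε = h ≫ frobPow Xj p n →
      ∃ l : T ⟶ X0, l ≫ ι = h := by
    intro T h hh
    refine ⟨pullback.lift h (h ≫ ε) ?_, ?_⟩
    · apply pullback.hom_ext
      · rw [Category.assoc, hd1, Category.assoc, pullback.diagonal_fst, Category.comp_id]
      · rw [Category.assoc, hd2, Category.assoc, pullback.diagonal_snd, Category.comp_id, hh]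
    · rw [hιdef]
      exact pullback.lift_fst _ _ _
  -- step 3: the morphism to the model
  have hF1 : pfProj p Xj n ≫ frobPow Xj p n = pfπ p Xj := pfProj_pow p Xj n
  have hwd : (s ≫ pfProj p Xj n) ≫ ε = (s ≫ pfProj p Xj n) ≫ frobPow Xj p n := by
    have e1 : (s ≫ pfProj p Xj n) ≫ ε = s ≫ pfπ p Xj := by
      rw [Category.assoc, hε, ← Category.assoc, ← Category.assoc, hsr, Category.id_comp]
    have e2 : (s ≫ pfProj p Xj n) ≫ frobPow Xj p n = s ≫ pfπ p Xj := by
      rw [Category.assoc, hF1]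
    rw [e1, e2]
  obtain ⟨π, hπ⟩ := hlift (s ≫ pfProj p Xj n) hwd
  haveI : IsCharP X0 p := IsCharP.of_hom ι p
  haveI : CompactSpace X0 := QuasiCompact.compactSpace_of_compactSpace ι
  haveI : QuasiSeparatedSpace X0 := quasiSeparatedSpace_of_quasiSeparated ι
  refine ⟨X0, ι ≫ σ, inferInstance, inferInstance, inferInstance,
    π, hXperf, fun Y _ hY => ?_⟩
  haveI : IsIso (frob Y p) := hY
  -- maps from a perfect scheme to the perfection are determined at every level
  have hF2 : ∀ G : Y ⟶ Pf p Xj, frobPow Y p n ≫ G ≫ pfProj p Xj n = G ≫ pfπ p Xj := by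
    intro G
    rw [← Category.assoc, frobPow_comp, Category.assoc, frobPow_comp, hF1]
  constructor
  · intro h₁ h₂ h
    have h' : h₁ ≫ π = h₂ ≫ π := h
    have h1 : h₁ ≫ s ≫ pfProj p Xj n = h₂ ≫ s ≫ pfProj p Xj n := by
      rw [← hπ, ← Category.assoc, ← Category.assoc, h']
    have h2 : (h₁ ≫ s) ≫ pfπ p Xj = (h₂ ≫ s) ≫ pfπ p Xj := by
      have e := congrArg (fun q => q ≫ frobPow Xj p n) h1
      simp only [Category.assoc, hF1] at e
      simp only [Category.assoc]
      exact e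
    have h3 := pf_hom_ext hY h2
    have h4 := congrArg (fun q => q ≫ r) h3
    simp only [Category.assoc, hsr, Category.comp_id] at h4
    exact h4
  · intro g
    have hg' : (g ≫ ι) ≫ ε = (g ≫ ι) ≫ frobPow Xj p n := by
      rw [Category.assoc, hι, Category.assoc]
    obtain ⟨G, hG⟩ : ∃ G : Y ⟶ Pf p Xj, G ≫ pfπ p Xj = g ≫ ι := ⟨_, pfLift_π hY (g ≫ ι)⟩
    have hGn : G ≫ pfProj p Xj n = inv (frobPow Y p n) ≫ g ≫ ι := by
      rw [← hG, ← hF2 G, IsIso.inv_hom_id_assoc]
    have hGe : G ≫ r ≫ s = G := by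
      apply pf_hom_ext hY
      rw [Category.assoc, ← hε, ← Category.assoc, hGn, Category.assoc, Category.assoc, hι,
        ← Category.assoc g, ← frobPow_comp, IsIso.inv_hom_id_assoc, hG]
    refine ⟨frobPow Y p n ≫ G ≫ r, ?_⟩
    show (frobPow Y p n ≫ G ≫ r) ≫ π = g
    rw [← cancel_mono ι, Category.assoc, hπ]
    have : (frobPow Y p n ≫ G ≫ r) ≫ s ≫ pfProj p Xj n =
        frobPow Y p n ≫ (G ≫ r ≫ s) ≫ pfProj p Xj n := by
      simp only [Category.assoc]
    rw [this, hGe, hF2, hG]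

end Model

end Groth.Agent.Lib.PerfAmpH6
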