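import Mathlib
import Groth.Prelude
import Groth.Agent.Lib.PerfMod2_helper6

/-!
# A perfectly finitely presented perfect scheme has a finitely presented model: main (helper6)
APPEND-ONLY once landed.
-/

set_option autoImplicit false
set_option linter.all false

namespace Groth.Agent.Lib.PerfAmpH6

open AlgebraicGeometry CategoryTheory CategoryTheory.Limits TopologicalSpace Opposite
open FrobSch

universe u

attribute [local instance] IsCofiltered.isConnected in
/-- **A quasi-compact quasi-separated perfect scheme which is compact among such schemes is the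
perfection of a scheme of finite presentation over the prime field.** -/
theorem main14928 (p : ℕ) [Fact p.Prime] (X : Scheme.{u})
    [IsCharP X p] [CompactSpace X] [QuasiSeparatedSpace X] [hXperf : IsPerfect X p]
    (hc : ∀ (J : Type u) [SmallCategory J] [IsCofiltered J] (F : J ⥤ Scheme.{u})
      [∀ j, IsCharP (F.obj j) p] (c : Cone F) [IsCharP c.pt p], IsLimit c →
      (∀ ⦃i j : J⦄ (a : i ⟶ j), IsAffineHom (F.map a)) →
      (∀ j, IsPerfect (F.obj j) p ∧ CompactSpace (F.obj j) ∧ QuasiSeparatedSpace (F.obj j)) →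
      IsPerfect c.pt p → CompactSpace c.pt → QuasiSeparatedSpace c.pt →
      (∀ g : c.pt ⟶ X, ∃ (j : J) (gj : F.obj j ⟶ X), c.π.app j ≫ gj = g) ∧
      (∀ (j : J) (g g' : F.obj j ⟶ X), c.π.app j ≫ g = c.π.app j ≫ g' →
        ∃ (k : J) (a : k ⟶ j), F.map a ≫ g = F.map a ≫ g')) :
    ∃ (X0 : Scheme.{u}) (s : X0 ⟶ Spec (CommRingCat.of (ULift.{u} (ZMod p))))
      (_ : LocallyOfFinitePresentation s) (_ : CompactSpace X0) (_ : QuasiSeparatedSpace X0)
      (π : X ⟶ X0), IsPerfection π p := by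
  obtain ⟨f⟩ := nonempty_hom_Bp p X
  obtain ⟨I, iP, iD, iN, D, c, hcl, hD, haff, ⟨e⟩⟩ := Groth.Agent.Lib.NApxJ_helper7.main7383 f
  let G : Iᵒᵖ ⥤ Scheme.{u} := D ⋙ Over.forget _
  haveI : ∀ j, IsCharP (G.obj j) p := fun j => IsCharP.of_hom (D.obj j).hom p
  have hGlim : IsLimit ((Over.forget _).mapCone c) := isLimitOfPreserves (Over.forget _) hcl
  -- the cone with apex `X`
  let q : ∀ j, X ⟶ G.obj j := fun j => e.inv.left ≫ (c.π.app j).left
  have hq : ∀ {i j : Iᵒᵖ} (a : i ⟶ j), q i ≫ G.map a = q j := by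
    intro i j a
    show (e.inv.left ≫ (c.π.app i).left) ≫ (D.map a).left = e.inv.left ≫ (c.π.app j).left
    rw [Category.assoc, ← Over.comp_left, c.w]
  let cX : Cone G := coneMk G X q hq
  have hcX : IsLimit cX := by
    refine IsLimit.ofIsoLimit hGlim (Cones.ext ((Over.forget _).mapIso e) (fun j => ?_))
    show (c.π.app j).left = e.hom.left ≫ e.inv.left ≫ (c.π.app j).left
    rw [← Category.assoc, ← Over.comp_left, e.hom_inv_id, Over.id_left, Category.id_comp]
  haveI : IsCharP cX.pt p := ‹IsCharP X p›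
  have hXperf' : IsPerfect cX.pt p := hXperf
  have haffG : ∀ {i j : Iᵒᵖ} (a : i ⟶ j), IsAffineHom (G.map a) := fun a => haff _ _ a
  obtain ⟨hcE⟩ := isLimit_pfConeLift haffG cX hcX hXperf'
  have hσ : ∀ j, ∃ σ : G.obj j ⟶ Bp.{u} p, LocallyOfFinitePresentation σ ∧ QuasiCompact σ ∧
      QuasiSeparated σ := fun j => ⟨(D.obj j).hom, hD j⟩
  choose σ hσ1 hσ2 hσ3 using hσ
  have hXjc : ∀ j, CompactSpace (G.obj j) := fun j => by
    haveI := hσ2 j
    exact QuasiCompact.compactSpace_of_compactSpace (σ j)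
  have hXjqs : ∀ j, QuasiSeparatedSpace (G.obj j) := fun j => by
    haveI := hσ3 j
    exact quasiSeparatedSpace_of_quasiSeparated (σ j)
  haveI : IsCharP (pfConeLift cX hXperf').pt p := ‹IsCharP X p›
  obtain ⟨h1, -⟩ := hc Iᵒᵖ (pfFunctor p G) (pfConeLift cX hXperf') hcE
    (fun i j a => by
      haveI := haffG a
      rw [pfFunctor_map]
      exact isAffineHom_pfMap _)
    (fun j => ⟨isPerfect_Pf p (G.obj j), by
      haveI := hXjc j
      exact compactSpace_Pf (G.obj j), by
      haveI := hXjqs j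
      exact quasiSeparatedSpace_Pf (G.obj j)⟩)
    hXperf' ‹CompactSpace X› ‹QuasiSeparatedSpace X›
  obtain ⟨j, r, hr⟩ := h1 (𝟙 X)
  haveI := hσ1 j
  haveI := hσ2 j
  haveI := hσ3 j
  exact exists_model_of_retract hXperf (σ j) (pleg (pfConeLift cX hXperf') j) r hr

end Groth.Agent.Lib.PerfAmpH6
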