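import Mathlib
import Groth.Prelude
import Groth.Agent.Lib.PerfAmp3_helper6
import Groth.Agent.Lib.LimDescFP3_helper7
import Groth.Agent.Lib.Perf1_helper6

/-!
# Composition of morphisms flat of finite presentation in the perfect sense (helper6)
APPEND-ONLY once landed.
-/

set_option autoImplicit false
set_option linter.all false

namespace Groth.Agent.Lib.PerfAmpH6

open AlgebraicGeometry CategoryTheory CategoryTheory.Limits TopologicalSpace Opposite
open FrobSch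

universe u

theorem frobPow_base (X : Scheme.{u}) (p : ℕ) [Fact p.Prime] [IsCharP X p] (n : ℕ) (x : X) :
    frobPow X p n x = x := by
  induction n with
  | zero => rfl
  | succ n ih =>
    rw [frobPow_succ, Scheme.Hom.comp_apply, frob_apply, ih]

/-- maps from a perfect scheme to the limit of the Frobenius tower are determined by, and can be
prescribed at, any level. -/
theorem bijective_proj_of_isLimit {p : ℕ} [Fact p.Prime] {X : Scheme.{u}} [IsCharP X p]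
    (c : Cone (tower X p)) (hc : IsLimit c) (T : Scheme.{u}) [IsCharP T p] (hT : IsPerfect T p)
    (n : ℕ) : Function.Bijective (fun g : T ⟶ c.pt => g ≫ proj c n) := by
  haveI : IsIso (frob T p) := hT
  haveI : IsCharP c.pt p := IsCharP.of_hom (proj c 0) p
  obtain ⟨h0i, h0s⟩ := bijective_of_isLimit c hc T hT
  constructor
  · intro g₁ g₂ h
    have h' : g₁ ≫ proj c n = g₂ ≫ proj c n := h
    apply h0i
    show g₁ ≫ proj c 0 = g₂ ≫ proj c 0
    rw [← proj_zero_pow c n, ← Category.assoc, ← Category.assoc, h']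
  · intro u
    obtain ⟨y', hy'⟩ := h0s u
    have hy'' : y' ≫ proj c 0 = u := hy'
    refine ⟨frobPow T p n ≫ y', ?_⟩
    show (frobPow T p n ≫ y') ≫ proj c n = u
    rw [frobPow_comp, Category.assoc, frobPow_comp, proj_zero_pow, hy'']

/-- **Composition of morphisms flat of finite presentation in the perfect sense.** -/
theorem main15559 (p : ℕ) [Fact p.Prime]
    {X Y Z Y₀ Z₀ : Scheme.{u}} [IsCharP X p] [IsCharP Y p] [IsCharP Z p]
    [IsCharP Y₀ p] [IsCharP Z₀ p]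
    [CompactSpace ↥X] [QuasiSeparatedSpace ↥X] [CompactSpace ↥Y] [QuasiSeparatedSpace ↥Y]
    [CompactSpace ↥Z] [QuasiSeparatedSpace ↥Z] (hX : IsPerfect X p)
    (g₀ : Y₀ ⟶ X) [Flat g₀] [LocallyOfFinitePresentation g₀] [QuasiCompact g₀] [QuasiSeparated g₀]
    (πY : Y ⟶ Y₀) (hY : IsPerfection πY p)
    (f₀ : Z₀ ⟶ Y) [Flat f₀] [LocallyOfFinitePresentation f₀] [QuasiCompact f₀] [QuasiSeparated f₀]
    (πZ : Z ⟶ Z₀) (hZ : IsPerfection πZ p) :
    ∃ (W₀ : Scheme.{u}) (h₀ : W₀ ⟶ X) (ϖ : Z ⟶ W₀),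
      Flat h₀ ∧ LocallyOfFinitePresentation h₀ ∧ QuasiCompact h₀ ∧ QuasiSeparated h₀ ∧
        IsPerfection ϖ p ∧ ϖ ≫ h₀ = πZ ≫ f₀ ≫ πY ≫ g₀ ∧
          (Surjective g₀ → Surjective f₀ → Surjective h₀) := by
  haveI : IsIso (frob X p) := hX
  haveI : CompactSpace Y₀ := QuasiCompact.compactSpace_of_compactSpace g₀
  haveI : QuasiSeparatedSpace Y₀ := quasiSeparatedSpace_of_quasiSeparated g₀
  obtain ⟨c, hc, a, b, hab, hba, ha, hb⟩ := exists_tower_iso p πY hY
  haveI : IsIso a := ⟨b, hab, hba⟩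
  haveI : ∀ (i j : (ULift.{u} ℕ)ᵒᵖ) (f : i ⟶ j), IsAffineHom ((tower Y₀ p).map f) :=
    fun _ _ f => isAffineHom_tower_map Y₀ p f
  haveI : CompactSpace ((tower Y₀ p).obj (op ⟨0⟩)) := ‹CompactSpace Y₀›
  haveI : QuasiSeparatedSpace ((tower Y₀ p).obj (op ⟨0⟩)) := ‹QuasiSeparatedSpace Y₀›
  obtain ⟨j, -, W₀, fj, q, h1, h2, h3, h4, h5⟩ :=
    Groth.Agent.Lib.LimDescFPH7.exists_descend_with Groth.Agent.Lib.LimDescFPH7.descendsProp_flat
      (tower Y₀ p) c hc (op ⟨0⟩) (f₀ ≫ a) (inferInstance : Flat (f₀ ≫ a))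
  obtain ⟨n, hn⟩ : ∃ n : ℕ, n = j.unop.down := ⟨_, rfl⟩
  obtain ⟨fj', hfj'⟩ : ∃ fj' : W₀ ⟶ Y₀, fj' = fj := ⟨fj, rfl⟩
  haveI : LocallyOfFinitePresentation fj' := hfj' ▸ h1
  haveI : QuasiCompact fj' := hfj' ▸ h2
  haveI : QuasiSeparated fj' := hfj' ▸ h3
  haveI : Flat fj' := hfj' ▸ h4
  have hsq : IsPullback q (f₀ ≫ a) fj' (proj c n) := by
    rw [hfj', hn]
    exact h5
  have hw : q ≫ fj' = (f₀ ≫ a) ≫ proj c n := hsq.w
  refine ⟨W₀, fj' ≫ g₀ ≫ frobPow X p n, πZ ≫ q, inferInstance, inferInstance, inferInstance,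
    inferInstance, ?_, ?_, ?_⟩
  · -- the perfection property
    refine ⟨hZ.1, fun T _ hT => ?_⟩
    obtain ⟨hZi, hZs⟩ := hZ.2 T hT
    obtain ⟨hni, hns⟩ := bijective_proj_of_isLimit c hc T hT n
    constructor
    · intro g₁ g₂ h
      have h' : g₁ ≫ πZ ≫ q = g₂ ≫ πZ ≫ q := h
      apply hZi
      show g₁ ≫ πZ = g₂ ≫ πZ
      apply hsq.hom_ext
      · simp only [Category.assoc]
        exact h'
      · apply hni
        show ((g₁ ≫ πZ) ≫ f₀ ≫ a) ≫ proj c n = ((g₂ ≫ πZ) ≫ f₀ ≫ a) ≫ proj c n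
        have e : ∀ g : T ⟶ Z, ((g ≫ πZ) ≫ f₀ ≫ a) ≫ proj c n = (g ≫ πZ ≫ q) ≫ fj' := by
          intro g
          simp only [Category.assoc]
          rw [hw]
          simp only [Category.assoc]
        rw [e, e, h']
    · intro w
      obtain ⟨y, hy⟩ := hns (w ≫ fj')
      have hy' : y ≫ proj c n = w ≫ fj' := hy
      obtain ⟨z, hz⟩ := hZs (hsq.lift w y hy'.symm)
      have hz' : z ≫ πZ = hsq.lift w y hy'.symm := hz
      refine ⟨z, ?_⟩
      show z ≫ πZ ≫ q = w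
      rw [← Category.assoc, hz', hsq.lift_fst]
  · -- compatibility
    have e1 : frobPow Y₀ p n ≫ g₀ = g₀ ≫ frobPow X p n := frobPow_comp X p g₀ n
    calc (πZ ≫ q) ≫ fj' ≫ g₀ ≫ frobPow X p n
        = πZ ≫ (q ≫ fj') ≫ g₀ ≫ frobPow X p n := by simp only [Category.assoc]
      _ = πZ ≫ ((f₀ ≫ a) ≫ proj c n) ≫ frobPow Y₀ p n ≫ g₀ := by rw [hw, e1]
      _ = πZ ≫ f₀ ≫ (a ≫ proj c n ≫ frobPow Y₀ p n) ≫ g₀ := by simp only [Category.assoc]
      _ = πZ ≫ f₀ ≫ πY ≫ g₀ := by rw [proj_zero_pow, ha]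
  · -- surjectivity
    intro hg hf
    haveI : IsCharP c.pt p := IsCharP.of_hom (proj c 0) p
    have hπs : Surjective πY := (Groth.Agent.Lib.Perf.facts_of_isPerfection p πY hY).2.2
    have hfj : Function.Surjective fj' := by
      intro y₀
      obtain ⟨y, hy⟩ := hπs.surj y₀
      obtain ⟨z, hz⟩ := hf.surj y
      refine ⟨q z, ?_⟩
      rw [← Scheme.Hom.comp_apply, hw, Scheme.Hom.comp_apply, Scheme.Hom.comp_apply, hz]
      have e2 : proj c n (a y) = (proj c n ≫ frobPow Y₀ p n) (a y) := by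
        rw [Scheme.Hom.comp_apply, frobPow_base]
      rw [e2, proj_zero_pow, ← Scheme.Hom.comp_apply, ha, hy]
    haveI : Surjective fj' := ⟨hfj⟩
    haveI := hg
    infer_instance

end Groth.Agent.Lib.PerfAmpH6
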