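import Mathlib

/-! Flatness of the radical of a principal ideal in a perfect ring. -/

namespace Groth.Agent.Lib.PerfRad

variable (p : ℕ) [Fact p.Prime] (A : Type*) [CommRing A] [CharP A p] [PerfectRing A p]

/-- the `p^n`-th root of `f`. -/
noncomputable def rt (f : A) (n : ℕ) : A := (iterateFrobeniusEquiv A p n).symm f

lemma rt_pow (f : A) (n : ℕ) : (rt p A f n) ^ p ^ n = f := by
  have := (iterateFrobeniusEquiv A p n).apply_symm_apply f
  rwa [iterateFrobeniusEquiv_def] at this

lemma pow_inj (n : ℕ) {x y : A} (h : x ^ p ^ n = y ^ p ^ n) : x = y := by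
  apply (iterateFrobeniusEquiv A p n).injective
  rw [iterateFrobeniusEquiv_def, iterateFrobeniusEquiv_def, h]

lemma rt_succ_pow (f : A) (n : ℕ) : (rt p A f (n + 1)) ^ p = rt p A f n := by
  apply pow_inj p A n
  rw [rt_pow, ← pow_mul, mul_comm, ← pow_succ, rt_pow]

lemma rt_mem (f : A) (n : ℕ) : rt p A f n ∈ (Ideal.span {f}).radical :=
  ⟨p ^ n, by rw [rt_pow]; exact Ideal.subset_span rfl⟩

lemma exists_eq_mul_rt (f : A) {x : A} (hx : x ∈ (Ideal.span {f}).radical) :
    ∃ n b, x = b * rt p A f n := by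
  obtain ⟨k, hk⟩ := hx
  have hp : 1 < p := (Fact.out : p.Prime).one_lt
  have hkp : k ≤ p ^ k := (Nat.lt_pow_self hp).le
  have h2 : x ^ p ^ k ∈ Ideal.span {f} := by
    rw [← Nat.sub_add_cancel hkp, pow_add]
    exact Ideal.mul_mem_left _ _ hk
  obtain ⟨a, ha⟩ := Ideal.mem_span_singleton'.mp h2
  refine ⟨k, (iterateFrobeniusEquiv A p k).symm a, ?_⟩
  apply pow_inj p A k
  rw [mul_pow, rt_pow, ← ha]
  congr 1
  have := (iterateFrobeniusEquiv A p k).apply_symm_apply a
  rw [iterateFrobeniusEquiv_def] at this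
  exact this.symm

lemma exists_eq_mul_rt_of_le (f : A) {x : A} {n : ℕ} {b : A} (hx : x = b * rt p A f n)
    (N : ℕ) (hN : n ≤ N) : ∃ b', x = b' * rt p A f N := by
  induction N, hN using Nat.le_induction with
  | base => exact ⟨b, hx⟩
  | succ N hN ih =>
    obtain ⟨b', hb'⟩ := ih
    have hp : 1 ≤ p := (Fact.out : p.Prime).one_lt.le
    refine ⟨b' * rt p A f (N + 1) ^ (p - 1), ?_⟩
    rw [hb', mul_assoc, ← pow_succ, Nat.sub_add_cancel hp, rt_succ_pow]

lemma mul_rt_succ_eq_zero (f : A) {c : A} {n : ℕ} (h : c * rt p A f n = 0) :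
    c * rt p A f (n + 1) = 0 := by
  have hp : 1 ≤ p := (Fact.out : p.Prime).one_lt.le
  apply pow_inj p A 1
  have h3 : c ^ p = c ^ (p - 1) * c := by rw [← pow_succ, Nat.sub_add_cancel hp]
  rw [pow_one, mul_pow, rt_succ_pow, zero_pow (by omega), h3, mul_assoc, h, mul_zero]

include p in
theorem flat_radical (f : A) : Module.Flat A ((Ideal.span {f}).radical) := by
  apply Module.Flat.of_forall_isTrivialRelation
  intro l g x hgx
  have hp : 2 ≤ p := (Fact.out : p.Prime).two_le
  -- common exponent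
  have h1 : ∀ i, ∃ n b, (x i : A) = b * rt p A f n := fun i => exists_eq_mul_rt p A f (x i).2
  choose n b hb using h1
  obtain ⟨N, hN⟩ : ∃ N, ∀ i, n i ≤ N :=
    ⟨Finset.univ.sup n, fun i => Finset.le_sup (Finset.mem_univ i)⟩
  have h2 : ∀ i, ∃ b', (x i : A) = b' * rt p A f N := fun i =>
    exists_eq_mul_rt_of_le p A f (hb i) N (hN i)
  choose b' hb' using h2
  have hc : (∑ i, g i * b' i) * rt p A f N = 0 := by
    have := congrArg (Subtype.val) hgx
    simp only [Submodule.coe_sum, Submodule.coe_smul, smul_eq_mul, Submodule.coe_zero] at this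
    rw [Finset.sum_mul, ← this]
    refine Finset.sum_congr rfl fun i _ => ?_
    rw [hb' i, mul_assoc]
  have hc' := mul_rt_succ_eq_zero p A f hc
  refine ⟨1, fun i _ => b' i * rt p A f (N + 1) ^ (p - 1), fun _ => ⟨rt p A f (N + 1), rt_mem p A f _⟩,
    fun i => ?_, fun j => ?_⟩
  · apply Subtype.ext
    simp only [Finset.univ_unique, Finset.sum_singleton, Submodule.coe_smul, smul_eq_mul]
    rw [hb' i, mul_assoc, ← pow_succ, Nat.sub_add_cancel (by omega), rt_succ_pow]
  · have : ∀ i, g i * (b' i * rt p A f (N + 1) ^ (p - 1)) =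
        (g i * b' i) * (rt p A f (N + 1) * rt p A f (N + 1) ^ (p - 2)) := by
      intro i
      rw [← pow_succ', show p - 2 + 1 = p - 1 by omega, mul_assoc]
    simp only [this]
    rw [← Finset.sum_mul, ← mul_assoc, hc', zero_mul]

end Groth.Agent.Lib.PerfRad
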