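import Mathlib
import Groth.Agent.Lib.DvrCompl1_helper8

set_option autoImplicit false
universe u
open IsLocalRing Polynomial

namespace Groth.Agent.Lib.PerfResH8

/-- Adjoining a `p`-th root of an element whose residue is not a `p`-th power to a
"DVR-like" local domain gives a local domain with the same uniformizer. -/
theorem adjoinRoot_dvr {T : Type u} [CommRing T] [IsDomain T] [IsLocalRing T] [IsNoetherianRing T]
    (ϖ : T) (hϖ : maximalIdeal T = Ideal.span {ϖ}) (hϖ0 : ϖ ≠ 0) (p : ℕ) (hp : p.Prime) (a : T)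
    (ha : ∀ z w : T, z ^ p - a ≠ ϖ * w) :
    ∃ (_ : IsLocalRing (AdjoinRoot (X ^ p - C a : T[X])))
      (_ : IsDomain (AdjoinRoot (X ^ p - C a : T[X])))
      (_ : IsDiscreteValuationRing (AdjoinRoot (X ^ p - C a : T[X]))),
      maximalIdeal (AdjoinRoot (X ^ p - C a : T[X])) =
        Ideal.span {AdjoinRoot.of (X ^ p - C a : T[X]) ϖ} := by
  classical
  obtain ⟨f, hf⟩ : ∃ f : T[X], f = X ^ p - C a := ⟨_, rfl⟩
  rw [← hf]
  have hmonic : f.Monic := by rw [hf]; exact monic_X_pow_sub_C a hp.ne_zero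
  have hdeg : f.natDegree = p := by rw [hf]; exact natDegree_X_pow_sub_C
  obtain ⟨I, hI⟩ : ∃ I : Ideal T, I = maximalIdeal T := ⟨_, rfl⟩
  haveI hImax : I.IsMaximal := by rw [hI]; infer_instance
  letI : Field (T ⧸ I) := Ideal.Quotient.field I
  have hIspan : I = Ideal.span {ϖ} := by rw [hI, hϖ]
  -- irreducibility of the reduction
  have hirr : Irreducible (f.map (Ideal.Quotient.mk I)) := by
    rw [hf, Polynomial.map_sub, Polynomial.map_pow, Polynomial.map_X, Polynomial.map_C]
    rw [X_pow_sub_C_irreducible_iff_of_prime hp]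
    intro b hb
    obtain ⟨z, rfl⟩ := Ideal.Quotient.mk_surjective b
    rw [← map_pow, Ideal.Quotient.eq, hIspan, Ideal.mem_span_singleton] at hb
    obtain ⟨w, hw⟩ := hb
    exact ha z w hw
  haveI hmax2 : (Ideal.span {f.map (Ideal.Quotient.mk I)}).IsMaximal :=
    PrincipalIdealRing.isMaximal_of_irreducible hirr
  -- the ideal J = I·E is maximal
  obtain ⟨J, hJ⟩ : ∃ J : Ideal (AdjoinRoot f), J = I.map (AdjoinRoot.of f) := ⟨_, rfl⟩
  have hJmax : J.IsMaximal := by
    rw [hJ]
    apply Ideal.Quotient.maximal_of_isField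
    have e := AdjoinRoot.quotAdjoinRootEquivQuotPolynomialQuot I f
    exact MulEquiv.isField (Ideal.Quotient.field _).toIsField e.toMulEquiv
  haveI : Module.Finite T (AdjoinRoot f) := (AdjoinRoot.powerBasis' hmonic).finite
  haveI : Algebra.IsIntegral T (AdjoinRoot f) := Algebra.IsIntegral.of_finite T _
  have hloc : IsLocalRing (AdjoinRoot f) := by
    haveI : Nontrivial (AdjoinRoot f) := by
      refine ⟨⟨0, 1, fun h => hJmax.ne_top ?_⟩⟩
      rw [Ideal.eq_top_iff_one, ← h]; exact J.zero_mem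
    refine IsLocalRing.of_unique_max_ideal ⟨J, hJmax, fun M hM => ?_⟩
    haveI := hM
    have h1 : (M.comap (algebraMap T (AdjoinRoot f))).IsMaximal :=
      Ideal.isMaximal_comap_of_isIntegral_of_isMaximal (R := T) M
    have h2 : M.comap (algebraMap T (AdjoinRoot f)) = I := by
      rw [hI]; exact IsLocalRing.eq_maximalIdeal h1
    have h3 : J ≤ M := by
      rw [hJ]
      apply Ideal.map_le_of_le_comap
      rw [← h2]
      rfl
    exact (hJmax.eq_of_le hM.ne_top h3).symm
  have hJspan : J = Ideal.span {AdjoinRoot.of f ϖ} := by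
    rw [hJ, hIspan, Ideal.map_span, Set.image_singleton]
  have hmaxE : @maximalIdeal (AdjoinRoot f) _ hloc = Ideal.span {AdjoinRoot.of f ϖ} := by
    rw [← hJspan]
    exact (@IsLocalRing.eq_maximalIdeal _ _ hloc J hJmax).symm
  haveI : IsNoetherianRing (AdjoinRoot f) := IsNoetherianRing.of_finite T _
  have hinj : Function.Injective (AdjoinRoot.of f) := by
    apply AdjoinRoot.of.injective_of_degree_ne_zero
    rw [degree_eq_natDegree hmonic.ne_zero, hdeg]
    exact_mod_cast hp.ne_zero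
  have hnil : ∀ n : ℕ, (AdjoinRoot.of f ϖ) ^ n ≠ 0 := by
    intro n h
    rw [← map_pow, ← map_zero (AdjoinRoot.of f)] at h
    exact pow_ne_zero n hϖ0 (hinj h)
  letI := hloc
  obtain ⟨hdom, hdvr⟩ := Groth.Agent.Lib.DvrComplH8.isDVR_of_principal_hausdorff (AdjoinRoot f)
    (AdjoinRoot.of f ϖ) hmaxE hnil
  exact ⟨hloc, hdom, hdvr, hmaxE⟩

end Groth.Agent.Lib.PerfResH8
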