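import Mathlib

set_option autoImplicit false
universe u
open IsLocalRing Polynomial

namespace Groth.Agent.Lib.PerfResH8

/-- `y` becomes, after a `p`-power, congruent to an element of `R` modulo `J`. -/
def Pi {R E : Type*} [CommRing R] [CommRing E] [Algebra R E] (J : Ideal E) (p : ℕ) (y : E) : Prop :=
  ∃ (n : ℕ) (z : R), algebraMap R E z - y ^ (p ^ n) ∈ J

section
variable {R E : Type*} [CommRing R] [CommRing E] [Algebra R E] (J : Ideal E) (p : ℕ)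

theorem charP_quot (hp : p.Prime) (hpJ : (p : E) ∈ J) (hJ : J ≠ ⊤) : CharP (E ⧸ J) p := by
  haveI : Nontrivial (E ⧸ J) := Ideal.Quotient.nontrivial_iff.mpr hJ
  obtain ⟨c, hc⟩ := CharP.exists (E ⧸ J)
  have h0 : ((p : ℕ) : E ⧸ J) = 0 := by
    have : Ideal.Quotient.mk J (p : E) = 0 := Ideal.Quotient.eq_zero_iff_mem.mpr hpJ
    rwa [map_natCast] at this
  have hdvd : c ∣ p := (CharP.cast_eq_zero_iff (E ⧸ J) c p).mp h0
  rcases (Nat.dvd_prime hp).mp hdvd with h1 | h1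
  · subst h1
    exact absurd hc (fun h => CharP.ringChar_ne_one (R := E ⧸ J) (by rw [ringChar.eq_iff]; exact h))
  · subst h1; exact hc

theorem pi_iff (y : E) : Pi (R := R) J p y ↔
    ∃ (n : ℕ) (z : R), (Ideal.Quotient.mk J y) ^ (p ^ n) = Ideal.Quotient.mk J (algebraMap R E z) := by
  constructor
  · rintro ⟨n, z, h⟩
    refine ⟨n, z, ?_⟩
    rw [← map_pow]
    exact ((Ideal.Quotient.eq).mpr h).symm
  · rintro ⟨n, z, h⟩
    refine ⟨n, z, ?_⟩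
    rw [← map_pow] at h
    exact (Ideal.Quotient.eq).mp h.symm

theorem pi_of_top (hJ : J = ⊤) (y : E) : Pi (R := R) J p y := ⟨0, 0, by rw [hJ]; trivial⟩

theorem pi_add (hp : p.Prime) (hpJ : (p : E) ∈ J) {y₁ y₂ : E} (h₁ : Pi (R := R) J p y₁)
    (h₂ : Pi (R := R) J p y₂) : Pi (R := R) J p (y₁ + y₂) := by
  by_cases hJ : J = ⊤
  · exact pi_of_top J p hJ _
  haveI := charP_quot J p hp hpJ hJ
  haveI : Fact p.Prime := ⟨hp⟩
  rw [pi_iff] at h₁ h₂ ⊢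
  obtain ⟨n₁, z₁, e₁⟩ := h₁
  obtain ⟨n₂, z₂, e₂⟩ := h₂
  refine ⟨n₁ + n₂, z₁ ^ (p ^ n₂) + z₂ ^ (p ^ n₁), ?_⟩
  have e₁' : (Ideal.Quotient.mk J y₁) ^ (p ^ (n₁ + n₂)) =
      Ideal.Quotient.mk J (algebraMap R E (z₁ ^ (p ^ n₂))) := by
    rw [pow_add, pow_mul, e₁, map_pow, map_pow]
  have e₂' : (Ideal.Quotient.mk J y₂) ^ (p ^ (n₁ + n₂)) =
      Ideal.Quotient.mk J (algebraMap R E (z₂ ^ (p ^ n₁))) := by
    rw [add_comm n₁ n₂, pow_add, pow_mul, e₂, map_pow, map_pow]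
  rw [map_add (Ideal.Quotient.mk J) y₁ y₂, add_pow_char_pow, e₁', e₂', ← map_add, ← map_add]

theorem pi_mul {y₁ y₂ : E} (h₁ : Pi (R := R) J p y₁)
    (h₂ : Pi (R := R) J p y₂) : Pi (R := R) J p (y₁ * y₂) := by
  rw [pi_iff] at h₁ h₂ ⊢
  obtain ⟨n₁, z₁, e₁⟩ := h₁
  obtain ⟨n₂, z₂, e₂⟩ := h₂
  refine ⟨n₁ + n₂, z₁ ^ (p ^ n₂) * z₂ ^ (p ^ n₁), ?_⟩
  have e₁' : (Ideal.Quotient.mk J y₁) ^ (p ^ (n₁ + n₂)) =
      Ideal.Quotient.mk J (algebraMap R E (z₁ ^ (p ^ n₂))) := by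
    rw [pow_add, pow_mul, e₁, map_pow, map_pow]
  have e₂' : (Ideal.Quotient.mk J y₂) ^ (p ^ (n₁ + n₂)) =
      Ideal.Quotient.mk J (algebraMap R E (z₂ ^ (p ^ n₁))) := by
    rw [add_comm n₁ n₂, pow_add, pow_mul, e₂, map_pow, map_pow]
  rw [map_mul (Ideal.Quotient.mk J) y₁ y₂, mul_pow, e₁', e₂', ← map_mul, ← map_mul]

theorem pi_pow_of {y : E} (k : ℕ) (h : Pi (R := R) J p (y ^ (p ^ k))) : Pi (R := R) J p y := by
  obtain ⟨n, z, e⟩ := h
  refine ⟨k + n, z, ?_⟩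
  rwa [pow_add, pow_mul]

end

/-- The purely inseparable residue condition passes to `T[X]/(X^p - a)`. -/
theorem adjoinRoot_insep {R T : Type u} [CommRing R] [CommRing T] [Algebra R T]
    (ϖ : T) (p : ℕ) (hp : p.Prime) (hpϖ : (p : T) ∈ Ideal.span {ϖ}) (a : T)
    (hT : ∀ y : T, Pi (R := R) (Ideal.span {ϖ}) p y) :
    ∀ y : AdjoinRoot (X ^ p - C a : T[X]),
      Pi (R := R) (Ideal.span {AdjoinRoot.of (X ^ p - C a : T[X]) ϖ}) p y := by
  obtain ⟨f, hf⟩ : ∃ f : T[X], f = X ^ p - C a := ⟨_, rfl⟩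
  rw [← hf]
  obtain ⟨J, hJ⟩ : ∃ J : Ideal (AdjoinRoot f), J = Ideal.span {AdjoinRoot.of f ϖ} := ⟨_, rfl⟩
  rw [← hJ]
  have hpJ : ((p : ℕ) : AdjoinRoot f) ∈ J := by
    rw [hJ]
    obtain ⟨w, hw⟩ := Ideal.mem_span_singleton.mp hpϖ
    rw [Ideal.mem_span_singleton]
    refine ⟨AdjoinRoot.of f w, ?_⟩
    rw [← map_mul, ← hw, map_natCast]
  have hofT : ∀ t : T, Pi (R := R) J p (AdjoinRoot.of f t) := by
    intro t
    obtain ⟨n, z, h⟩ := hT t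
    refine ⟨n, z, ?_⟩
    obtain ⟨w, hw⟩ := Ideal.mem_span_singleton.mp h
    rw [hJ, Ideal.mem_span_singleton]
    refine ⟨AdjoinRoot.of f w, ?_⟩
    rw [← map_mul, ← hw, map_sub, map_pow]
    congr 1
  have hroot : Pi (R := R) J p (AdjoinRoot.root f) := by
    apply pi_pow_of J p 1
    rw [pow_one]
    have : AdjoinRoot.root f ^ p = AdjoinRoot.of f a := by
      have h := AdjoinRoot.eval₂_root f
      rw [hf, eval₂_sub, eval₂_pow, eval₂_X, eval₂_C, sub_eq_zero] at h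
      rw [hf]; exact h
    rw [this]
    exact hofT a
  intro y
  induction y using AdjoinRoot.induction_on with
  | ih g =>
    induction g using Polynomial.induction_on with
    | C t => rw [AdjoinRoot.mk_C]; exact hofT t
    | add g₁ g₂ h₁ h₂ => rw [map_add]; exact pi_add J p hp hpJ h₁ h₂
    | monomial n t h =>
      rw [pow_succ, ← mul_assoc, map_mul, AdjoinRoot.mk_X]
      exact pi_mul J p h hroot

end Groth.Agent.Lib.PerfResH8
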