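import Mathlib
import Groth.Agent.Lib.PerfRes1_helper8
import Groth.Agent.Lib.PerfRes2_helper8

set_option autoImplicit false
universe u
open IsLocalRing Polynomial

namespace Groth.Agent.Lib.PerfResH8

variable {R : Type u} [CommRing R] {Ω : Type u} [Field Ω] [Algebra R Ω]

/-- A finite subalgebra of `Ω` which is "DVR-like" with uniformizer `π`, of `p`-power rank and with
purely inseparable residue extension. -/
structure Good (π : R) (p : ℕ) (T : Subalgebra R Ω) : Prop where
  fin : Module.Finite R T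
  rank : ∃ m : ℕ, Module.finrank R T = p ^ m
  loc : ∀ y : T, y ∈ Ideal.span {algebraMap R T π} ∨ IsUnit y
  insep : ∀ y : T, Pi (R := R) (Ideal.span {algebraMap R T π}) p y

theorem pi_map {E E' : Type*} [CommRing E] [CommRing E'] [Algebra R E] [Algebra R E']
    (ψ : E →ₐ[R] E') (c : E) (p : ℕ) {y : E} (h : Pi (R := R) (Ideal.span {c}) p y) :
    Pi (R := R) (Ideal.span {ψ c}) p (ψ y) := by
  obtain ⟨n, z, hz⟩ := h
  refine ⟨n, z, ?_⟩
  obtain ⟨w, hw⟩ := Ideal.mem_span_singleton.mp hz
  rw [Ideal.mem_span_singleton]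
  refine ⟨ψ w, ?_⟩
  rw [← map_mul, ← hw, map_sub, map_pow, AlgHom.commutes]

variable (π : R) (p : ℕ)

theorem Good.not_isUnit {T : Subalgebra R Ω} (hT : Good π p T)
    (hic : ∀ y : Ω, IsIntegral R y → algebraMap R Ω π * y ≠ 1) :
    ¬ IsUnit (algebraMap R T π) := by
  intro hu
  obtain ⟨y, hy⟩ := hu.exists_right_inv
  haveI := hT.fin
  have hint : IsIntegral R (y : Ω) := by
    have : IsIntegral R y := Algebra.IsIntegral.isIntegral y
    exact this.map T.val
  apply hic (y : Ω) hint
  have := congrArg (fun t : T => (t : Ω)) hy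
  simpa using this

theorem Good.isLocalRing {T : Subalgebra R Ω} (hT : Good π p T)
    (hic : ∀ y : Ω, IsIntegral R y → algebraMap R Ω π * y ≠ 1) :
    ∃ (_ : IsLocalRing T), maximalIdeal T = Ideal.span {algebraMap R T π} := by
  have hnu := hT.not_isUnit π p hic
  have hne : (Ideal.span {algebraMap R T π} : Ideal T) ≠ ⊤ := by
    intro h
    exact hnu (Ideal.span_singleton_eq_top.mp h)
  have hloc : IsLocalRing T := by
    apply IsLocalRing.of_isUnit_or_isUnit_one_sub_self
    intro y
    rcases hT.loc y with h | h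
    · rcases hT.loc (1 - y) with h' | h'
      · exfalso
        apply hne
        rw [Ideal.eq_top_iff_one]
        have := Ideal.add_mem _ h h'
        rwa [add_sub_cancel] at this
      · exact Or.inr h'
    · exact Or.inl h
  refine ⟨hloc, ?_⟩
  apply le_antisymm
  · intro y hy
    rcases hT.loc y with h | h
    · exact h
    · exact absurd h ((mem_maximalIdeal y).mp hy)
  · rw [Ideal.span_le, Set.singleton_subset_iff]
    exact (mem_maximalIdeal _).mpr hnu


variable [IsDomain R] [IsDiscreteValuationRing R]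

theorem Good.extend {T : Subalgebra R Ω} (hT : Good π p T)
    (hπ : maximalIdeal R = Ideal.span {π})
    (hinj : Function.Injective (algebraMap R Ω))
    (hic : ∀ y : Ω, IsIntegral R y → algebraMap R Ω π * y ≠ 1)
    (hp : p.Prime) (hpπ : (p : R) ∈ Ideal.span {π})
    (a : T) (ha : ∀ z w : T, z ^ p - a ≠ algebraMap R T π * w) (x : Ω) (hx : x ^ p = a) :
    ∃ T' : Subalgebra R Ω, T ≤ T' ∧ x ∈ T' ∧ T' ≤ T ⊔ Algebra.adjoin R {x} ∧ Good π p T' := by
  classical
  obtain ⟨hloc, hmax⟩ := hT.isLocalRing π p hic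
  haveI := hloc
  haveI := hT.fin
  haveI : IsNoetherianRing T := IsNoetherianRing.of_finite R T
  haveI : Module.IsTorsionFree R Ω := Module.isTorsionFree_iff_algebraMap_injective.mpr hinj
  have hπ0 : π ≠ 0 := by
    intro h
    apply IsDiscreteValuationRing.not_a_field R
    rw [hπ, h]
    exact Ideal.span_singleton_eq_bot.mpr rfl
  have hπΩ : algebraMap R Ω π ≠ 0 := fun h => hπ0 (hinj (by rw [h, map_zero]))
  have hϖ0 : algebraMap R T π ≠ 0 := by
    intro h
    apply hπΩ
    have := congrArg (fun t : T => (t : Ω)) h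
    simpa using this
  obtain ⟨hlocE, hdomE, hdvrE, hmaxE⟩ := adjoinRoot_dvr (algebraMap R T π) hmax hϖ0 p hp a ha
  have hmonic : (X ^ p - C a : T[X]).Monic := monic_X_pow_sub_C a hp.ne_zero
  have hev : eval₂ (T.val : T →+* Ω) x (X ^ p - C a : T[X]) = 0 := by
    rw [eval₂_sub, eval₂_pow, eval₂_X, eval₂_C, hx]
    exact sub_self _
  obtain ⟨φ, hφ⟩ : ∃ φ : AdjoinRoot (X ^ p - C a : T[X]) →ₐ[R] Ω,
      φ = AdjoinRoot.liftAlgHom (X ^ p - C a : T[X]) T.val x hev := ⟨_, rfl⟩
  have hφof : ∀ t : T, φ (AdjoinRoot.of _ t) = (t : Ω) := by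
    intro t; rw [hφ, AdjoinRoot.liftAlgHom_of]; rfl
  have hφroot : φ (AdjoinRoot.root _) = x := by rw [hφ, AdjoinRoot.liftAlgHom_root]
  have hofπ : AdjoinRoot.of (X ^ p - C a : T[X]) (algebraMap R T π) =
      algebraMap R (AdjoinRoot (X ^ p - C a : T[X])) π := by
    rw [AdjoinRoot.algebraMap_eq' R]; rfl
  have hφinj : Function.Injective φ := by
    rw [injective_iff_map_eq_zero]
    intro e he
    by_contra hne
    have hirr : Irreducible (AdjoinRoot.of (X ^ p - C a : T[X]) (algebraMap R T π)) :=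
      (IsDiscreteValuationRing.irreducible_iff_uniformizer _).mpr hmaxE
    obtain ⟨n, u, hu⟩ := IsDiscreteValuationRing.eq_unit_mul_pow_irreducible hne hirr
    rw [hu, map_mul, map_pow, hφof] at he
    have h2 : φ u ≠ 0 := (u.isUnit.map φ).ne_zero
    rcases mul_eq_zero.mp he with h | h
    · exact h2 h
    · have h3 : ((algebraMap R T π : T) : Ω) = algebraMap R Ω π := rfl
      rw [h3] at h
      exact pow_ne_zero n hπΩ h
  refine ⟨φ.range, ?_, ?_, ?_, ?_⟩
  · intro t ht
    exact ⟨AdjoinRoot.of _ ⟨t, ht⟩, hφof ⟨t, ht⟩⟩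
  · exact ⟨AdjoinRoot.root _, hφroot⟩
  · have hmem : ∀ e, φ e ∈ T ⊔ Algebra.adjoin R {x} := by
      intro e
      induction e using AdjoinRoot.induction_on with
      | ih g =>
        rw [hφ, AdjoinRoot.liftAlgHom_mk, eval₂_eq_sum_range]
        apply Subalgebra.sum_mem
        intro i _
        apply Subalgebra.mul_mem
        · exact (le_sup_left : T ≤ T ⊔ Algebra.adjoin R {x}) (g.coeff i).2
        · apply Subalgebra.pow_mem
          exact (le_sup_right : Algebra.adjoin R {x} ≤ T ⊔ Algebra.adjoin R {x})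
            (Algebra.subset_adjoin (Set.mem_singleton x))
    intro y hy
    obtain ⟨e, rfl⟩ := (AlgHom.mem_range φ).mp hy
    exact hmem e
  · obtain ⟨ψ, hψ⟩ : ∃ ψ : AdjoinRoot (X ^ p - C a : T[X]) ≃ₐ[R] φ.range,
        ψ = AlgEquiv.ofInjective φ hφinj := ⟨_, rfl⟩
    haveI : Module.Finite T (AdjoinRoot (X ^ p - C a : T[X])) :=
      (AdjoinRoot.powerBasis' hmonic).finite
    haveI : Module.Free T (AdjoinRoot (X ^ p - C a : T[X])) :=
      Module.Free.of_basis (AdjoinRoot.powerBasis' hmonic).basis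
    haveI : Module.Finite R (AdjoinRoot (X ^ p - C a : T[X])) := Module.Finite.trans T _
    haveI : Module.Free R T := Module.free_of_finite_type_torsion_free'
    have hψπ : ψ (AdjoinRoot.of (X ^ p - C a : T[X]) (algebraMap R T π)) =
        algebraMap R φ.range π := by
      rw [hofπ, AlgEquiv.commutes]
    refine ⟨Module.Finite.equiv ψ.toLinearEquiv, ?_, ?_, ?_⟩
    · obtain ⟨m, hm⟩ := hT.rank
      refine ⟨m + 1, ?_⟩
      rw [← LinearEquiv.finrank_eq ψ.toLinearEquiv,
        ← Module.finrank_mul_finrank R T (AdjoinRoot (X ^ p - C a : T[X])), hm,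
        (AdjoinRoot.powerBasis' hmonic).finrank, AdjoinRoot.powerBasis'_dim,
        natDegree_X_pow_sub_C, pow_succ]
    · intro y
      obtain ⟨e, rfl⟩ := ψ.surjective y
      by_cases hu : IsUnit e
      · exact Or.inr (hu.map ψ)
      · left
        have he : e ∈ maximalIdeal (AdjoinRoot (X ^ p - C a : T[X])) := (mem_maximalIdeal e).mpr hu
        rw [hmaxE] at he
        obtain ⟨w, hw⟩ := Ideal.mem_span_singleton.mp he
        rw [Ideal.mem_span_singleton]
        refine ⟨ψ w, ?_⟩
        rw [hw, map_mul, hψπ]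
    · intro y
      obtain ⟨e, rfl⟩ := ψ.surjective y
      have hpϖ : ((p : ℕ) : T) ∈ Ideal.span {algebraMap R T π} := by
        obtain ⟨w, hw⟩ := Ideal.mem_span_singleton.mp hpπ
        rw [Ideal.mem_span_singleton]
        refine ⟨algebraMap R T w, ?_⟩
        rw [← map_mul, ← hw, map_natCast]
      have h1 := adjoinRoot_insep (R := R) (algebraMap R T π) p hp hpϖ a hT.insep e
      have h2 := pi_map (R := R) ψ.toAlgHom _ p h1
      rw [show ψ.toAlgHom (AdjoinRoot.of (X ^ p - C a : T[X]) (algebraMap R T π)) =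
        algebraMap R φ.range π from hψπ] at h2
      exact h2

end Groth.Agent.Lib.PerfResH8
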