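import Mathlib
import Groth.Agent.Lib.PerfRes3_helper8

set_option autoImplicit false
universe u
open IsLocalRing Polynomial

namespace Groth.Agent.Lib.PerfResH8

variable {R : Type u} [CommRing R] {Ω : Type u} [Field Ω] [Algebra R Ω]

/-- A subalgebra all of whose finite subsets lie in a good finite subalgebra. -/
def GoodU (π : R) (p : ℕ) (S : Subalgebra R Ω) : Prop :=
  ∀ s : Finset Ω, (↑s : Set Ω) ⊆ S → ∃ T : Subalgebra R Ω, T ≤ S ∧ (↑s : Set Ω) ⊆ T ∧ Good π p T

variable (π : R) (p : ℕ)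

theorem good_bot [IsLocalRing R] (hπ : maximalIdeal R = Ideal.span {π})
    (hinj : Function.Injective (algebraMap R Ω)) : Good π p (⊥ : Subalgebra R Ω) := by
  obtain ⟨e, he⟩ : ∃ e : (⊥ : Subalgebra R Ω) ≃ₐ[R] R, e = Algebra.botEquivOfInjective hinj :=
    ⟨_, rfl⟩
  have hy : ∀ y : (⊥ : Subalgebra R Ω), y = algebraMap R _ (e y) := by
    intro y
    apply e.injective
    rw [AlgEquiv.commutes]; rfl
  refine ⟨Module.Finite.equiv e.symm.toLinearEquiv, ⟨0, ?_⟩, ?_, ?_⟩
  · rw [LinearEquiv.finrank_eq e.toLinearEquiv, Module.finrank_self, pow_zero]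
  · intro y
    by_cases hu : IsUnit (e y)
    · right
      rw [hy y]
      exact hu.map _
    · left
      have h1 : e y ∈ maximalIdeal R := (mem_maximalIdeal _).mpr hu
      rw [hπ] at h1
      obtain ⟨w, hw⟩ := Ideal.mem_span_singleton.mp h1
      rw [Ideal.mem_span_singleton]
      refine ⟨algebraMap R _ w, ?_⟩
      rw [← map_mul, ← hw]
      exact hy y
  · intro y
    refine ⟨0, e y, ?_⟩
    rw [pow_zero, pow_one, ← hy y, sub_self]
    exact Ideal.zero_mem _

theorem goodU_bot [IsLocalRing R] (hπ : maximalIdeal R = Ideal.span {π})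
    (hinj : Function.Injective (algebraMap R Ω)) : GoodU π p (⊥ : Subalgebra R Ω) :=
  fun _ hs => ⟨⊥, le_rfl, hs, good_bot π p hπ hinj⟩

theorem goodU_sSup (c : Set (Subalgebra R Ω)) (hc : IsChain (· ≤ ·) c) (hne : c.Nonempty)
    (hgood : ∀ S ∈ c, GoodU π p S) : GoodU π p (sSup c) := by
  classical
  intro s hs
  have key : ∀ s : Finset Ω, (↑s : Set Ω) ⊆ (sSup c : Subalgebra R Ω) → ∃ S ∈ c, (↑s : Set Ω) ⊆ S := by
    intro s
    induction s using Finset.induction_on with
    | empty =>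
      intro _
      obtain ⟨S, hS⟩ := hne
      exact ⟨S, hS, by simp⟩
    | insert y s _ ih =>
      intro hs
      rw [Finset.coe_insert, Set.insert_subset_iff] at hs
      obtain ⟨S₁, hS₁, h₁⟩ := ih hs.2
      have hy : y ∈ (sSup c : Subalgebra R Ω) := hs.1
      haveI : Nonempty c := hne.to_subtype
      rw [sSup_eq_iSup', ← SetLike.mem_coe, Subalgebra.coe_iSup_of_directed
        (hc.directedOn.directed_val)] at hy
      obtain ⟨⟨S₂, hS₂⟩, h₂⟩ := Set.mem_iUnion.mp hy
      rcases hc.total hS₁ hS₂ with h | h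
      · refine ⟨S₂, hS₂, ?_⟩
        rw [Finset.coe_insert, Set.insert_subset_iff]
        exact ⟨h₂, h₁.trans h⟩
      · refine ⟨S₁, hS₁, ?_⟩
        rw [Finset.coe_insert, Set.insert_subset_iff]
        exact ⟨h h₂, h₁⟩
  obtain ⟨S, hS, hsS⟩ := key s hs
  obtain ⟨T, hTS, hsT, hT⟩ := hgood S hS s hsS
  exact ⟨T, hTS.trans (le_sSup hS), hsT, hT⟩


theorem goodU_extend [IsDomain R] [IsDiscreteValuationRing R] {S : Subalgebra R Ω}
    (hS : GoodU π p S) (hπ : maximalIdeal R = Ideal.span {π})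
    (hinj : Function.Injective (algebraMap R Ω))
    (hic : ∀ y : Ω, IsIntegral R y → algebraMap R Ω π * y ≠ 1)
    (hp : p.Prime) (hpπ : (p : R) ∈ Ideal.span {π})
    (a : Ω) (haS : a ∈ S)
    (ha : ∀ z ∈ S, ∀ w ∈ S, z ^ p - a ≠ algebraMap R Ω π * w) (x : Ω) (hx : x ^ p = a) :
    GoodU π p (S ⊔ Algebra.adjoin R {x}) := by
  classical
  intro s hs
  -- every element of the extension is a polynomial in `x` with coefficients in `S`
  have hpoly : ∀ y ∈ S ⊔ Algebra.adjoin R {x}, ∃ g : (↥S)[X], aeval x g = y := by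
    intro y hy
    have h1 : y ∈ (Algebra.adjoin S {x}).restrictScalars R := by
      rw [Algebra.restrictScalars_adjoin, Algebra.adjoin_union, Algebra.adjoin_eq]
      exact hy
    have h2 : y ∈ Algebra.adjoin S {x} := h1
    rw [Algebra.adjoin_singleton_eq_range_aeval] at h2
    exact h2
  obtain ⟨G, hG⟩ : ∃ G : Ω → (↥S)[X], ∀ y ∈ S ⊔ Algebra.adjoin R {x}, aeval x (G y) = y := by
    refine ⟨fun y => if h : y ∈ S ⊔ Algebra.adjoin R {x} then (hpoly y h).choose else 0, ?_⟩
    intro y hy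
    simp only [hy, dif_pos]
    exact (hpoly y hy).choose_spec
  obtain ⟨C, hC⟩ : ∃ C : Finset Ω, C = insert a
      (s.biUnion fun y => (G y).coeffs.image (fun c : S => (c : Ω))) := ⟨_, rfl⟩
  have hCS : (↑C : Set Ω) ⊆ S := by
    intro c hc
    rw [hC, Finset.coe_insert, Set.mem_insert_iff] at hc
    rcases hc with rfl | hc
    · exact haS
    · rw [Finset.mem_coe, Finset.mem_biUnion] at hc
      obtain ⟨y, _, hy⟩ := hc
      rw [Finset.mem_image] at hy
      obtain ⟨c', _, rfl⟩ := hy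
      exact c'.2
  obtain ⟨T, hTS, hCT, hT⟩ := hS C hCS
  have haT : a ∈ T := hCT (by rw [hC]; exact Finset.mem_coe.mpr (Finset.mem_insert_self _ _))
  have haT' : ∀ z w : T, z ^ p - (⟨a, haT⟩ : T) ≠ algebraMap R T π * w := by
    intro z w h
    apply ha z (hTS z.2) w (hTS w.2)
    have := congrArg (fun t : T => (t : Ω)) h
    simpa using this
  obtain ⟨T', hTT', hxT', hT'le, hT'⟩ :=
    hT.extend π p hπ hinj hic hp hpπ ⟨a, haT⟩ haT' x hx
  refine ⟨T', hT'le.trans (sup_le_sup_right hTS _), ?_, hT'⟩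
  intro y hy
  have hyS := hs hy
  rw [SetLike.mem_coe, ← hG y hyS, aeval_eq_sum_range]
  apply Subalgebra.sum_mem
  intro i _
  rw [Algebra.smul_def]
  apply Subalgebra.mul_mem
  · by_cases h0 : (G y).coeff i = 0
    · rw [h0, map_zero]; exact Subalgebra.zero_mem _
    · apply hTT'
      apply hCT
      rw [hC, Finset.coe_insert]
      right
      rw [Finset.mem_coe, Finset.mem_biUnion]
      refine ⟨y, hy, ?_⟩
      rw [Finset.mem_image]
      exact ⟨(G y).coeff i, coeff_mem_coeffs h0, rfl⟩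
  · exact Subalgebra.pow_mem _ hxT' _

/-- A maximal "good" subalgebra has perfect residue field. -/
theorem exists_max [IsDomain R] [IsDiscreteValuationRing R] [IsAlgClosed Ω]
    (hπ : maximalIdeal R = Ideal.span {π})
    (hinj : Function.Injective (algebraMap R Ω))
    (hic : ∀ y : Ω, IsIntegral R y → algebraMap R Ω π * y ≠ 1)
    (hp : p.Prime) (hpπ : (p : R) ∈ Ideal.span {π}) :
    ∃ S : Subalgebra R Ω, GoodU π p S ∧
      ∀ a ∈ S, ∃ z ∈ S, ∃ w ∈ S, z ^ p - a = algebraMap R Ω π * w := by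
  obtain ⟨S, -, hSgood, hSmax⟩ := zorn_le_nonempty₀ {S : Subalgebra R Ω | GoodU π p S}
    (fun c hcs hc y hy => ⟨sSup c, goodU_sSup π p c hc ⟨y, hy⟩ (fun S hS => hcs hS),
      fun z hz => le_sSup hz⟩) ⊥ (goodU_bot π p hπ hinj)
  refine ⟨S, hSgood, ?_⟩
  intro a haS
  by_contra hcon
  push Not at hcon
  obtain ⟨x, hx⟩ := IsAlgClosed.exists_pow_nat_eq a hp.pos
  have hext := goodU_extend π p hSgood hπ hinj hic hp hpπ a haS hcon x hx
  have hle : S ⊔ Algebra.adjoin R {x} ≤ S := hSmax hext le_sup_left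
  have hxS : x ∈ S := hle ((le_sup_right : Algebra.adjoin R {x} ≤ _)
    (Algebra.subset_adjoin (Set.mem_singleton x)))
  apply hcon x hxS 0 (Subalgebra.zero_mem _)
  rw [hx, sub_self, mul_zero]

end Groth.Agent.Lib.PerfResH8
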