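import Mathlib
import Groth.Agent.Lib.PerfRes4_helper8
import Groth.Agent.Lib.HensIntDom_lead

set_option autoImplicit false
universe u
open IsLocalRing Polynomial

namespace Groth.Agent.Lib.PerfResH8

theorem isLocalRing_of_loc {T : Type*} [CommRing T] (ϖ : T)
    (hloc : ∀ y : T, y ∈ Ideal.span {ϖ} ∨ IsUnit y) (hnu : ¬ IsUnit ϖ) :
    ∃ (_ : IsLocalRing T), maximalIdeal T = Ideal.span {ϖ} := by
  have hne : (Ideal.span {ϖ} : Ideal T) ≠ ⊤ := by
    intro h
    exact hnu (Ideal.span_singleton_eq_top.mp h)
  haveI : Nontrivial T := by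
    refine ⟨⟨0, 1, fun h => hne ?_⟩⟩
    rw [Ideal.eq_top_iff_one, ← h]; exact Ideal.zero_mem _
  have hloc' : IsLocalRing T := by
    apply IsLocalRing.of_isUnit_or_isUnit_one_sub_self
    intro y
    rcases hloc y with h | h
    · rcases hloc (1 - y) with h' | h'
      · exfalso
        apply hne
        rw [Ideal.eq_top_iff_one]
        have := Ideal.add_mem _ h h'
        rwa [add_sub_cancel] at this
      · exact Or.inr h'
    · exact Or.inl h
  refine ⟨hloc', ?_⟩
  apply le_antisymm
  · intro y hy
    rcases hloc y with h | h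
    · exact h
    · exact absurd h ((mem_maximalIdeal y).mp hy)
  · rw [Ideal.span_le, Set.singleton_subset_iff]
    exact (mem_maximalIdeal _).mpr hnu

/-- A nonzero integral element divides a power of the uniformizer inside `R[x]`. -/
theorem exists_mul_eq_pow {R : Type u} [CommRing R] [IsDomain R] [IsDiscreteValuationRing R]
    {K Ω : Type u} [Field K] [Algebra R K] [IsFractionRing R K] [Field Ω] [Algebra K Ω] [Algebra R Ω]
    [IsScalarTower R K Ω] (π : R) (hπ : Irreducible π) (x : Ω) (hx : IsIntegral R x) (hx0 : x ≠ 0) :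
    ∃ (n : ℕ), ∃ w ∈ Algebra.adjoin R {x}, x * w = algebraMap R Ω π ^ n := by
  have h1 : minpoly K x = (minpoly R x).map (algebraMap R K) :=
    minpoly.isIntegrallyClosed_eq_field_fractions' K hx
  have h2 : (minpoly K x).coeff 0 ≠ 0 := by
    intro h
    exact hx0 ((minpoly.coeff_zero_eq_zero (hx.tower_top)).mp h)
  have h3 : (minpoly R x).coeff 0 ≠ 0 := by
    intro h
    apply h2
    rw [h1, coeff_map, h, map_zero]
  obtain ⟨n, hn⟩ := IsDiscreteValuationRing.associated_pow_irreducible h3 hπ
  obtain ⟨u, hu⟩ := hn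
  -- c₀ * u = π ^ n
  have h4 : aeval x (minpoly R x) = 0 := minpoly.aeval R x
  have h5 : aeval x (minpoly R x).divX * x + algebraMap R Ω ((minpoly R x).coeff 0) = 0 := by
    have := congrArg (aeval x) (divX_mul_X_add (minpoly R x))
    rw [map_add, map_mul, aeval_X, aeval_C, h4] at this
    exact this
  refine ⟨n, -(aeval x (minpoly R x).divX) * algebraMap R Ω (u : R), ?_, ?_⟩
  · apply Subalgebra.mul_mem
    · apply Subalgebra.neg_mem
      rw [Algebra.adjoin_singleton_eq_range_aeval]
      exact ⟨_, rfl⟩
    · exact Subalgebra.algebraMap_mem _ _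
  · have h6 : aeval x (minpoly R x).divX * x = - algebraMap R Ω ((minpoly R x).coeff 0) :=
      eq_neg_of_add_eq_zero_left h5
    calc x * (-(aeval x (minpoly R x).divX) * algebraMap R Ω (u : R))
        = -(aeval x (minpoly R x).divX * x) * algebraMap R Ω (u : R) := by ring
      _ = algebraMap R Ω ((minpoly R x).coeff 0 * u) := by rw [h6, neg_neg, map_mul]
      _ = algebraMap R Ω π ^ n := by rw [hu, map_pow]


theorem main (R : Type u) [CommRing R] [IsDomain R] [IsDiscreteValuationRing R]
    [HenselianLocalRing R] (p : ℕ) (hp : p.Prime) (hpR : (p : R) ∈ maximalIdeal R) :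
    ∃ (R' : Type u) (_ : CommRing R') (_ : IsDomain R') (_ : IsDiscreteValuationRing R')
      (_ : HenselianLocalRing R') (_ : Algebra R R'),
      Function.Injective (algebraMap R R') ∧
      Ideal.map (algebraMap R R') (maximalIdeal R) = maximalIdeal R' ∧
      (∀ s : Finset R', ∃ S : Subalgebra R R', (↑s : Set R') ⊆ ↑S ∧ Module.Finite R S ∧
        Module.Free R S ∧ ∃ m : ℕ, Module.finrank R S = p ^ m) ∧
      (∀ y : R', ∃ z : R', z ^ p - y ∈ maximalIdeal R') ∧
      (∀ y : R', ∃ (m : ℕ) (z : R), algebraMap R R' z - y ^ (p ^ m) ∈ maximalIdeal R') := by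
  classical
  obtain ⟨K, hK⟩ : ∃ K : Type u, K = FractionRing R := ⟨_, rfl⟩
  subst hK
  obtain ⟨Ω, hΩ⟩ : ∃ Ω : Type u, Ω = AlgebraicClosure (FractionRing R) := ⟨_, rfl⟩
  subst hΩ
  have hinj : Function.Injective (algebraMap R (AlgebraicClosure (FractionRing R))) := by
    rw [IsScalarTower.algebraMap_eq R (FractionRing R) (AlgebraicClosure (FractionRing R))]
    exact (algebraMap (FractionRing R) (AlgebraicClosure (FractionRing R))).injective.comp
      (IsFractionRing.injective R (FractionRing R))
  haveI : Module.IsTorsionFree R (AlgebraicClosure (FractionRing R)) :=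
    Module.isTorsionFree_iff_algebraMap_injective.mpr hinj
  obtain ⟨π, hπirr⟩ := IsDiscreteValuationRing.exists_irreducible R
  have hπ : maximalIdeal R = Ideal.span {π} :=
    (IsDiscreteValuationRing.irreducible_iff_uniformizer π).mp hπirr
  have hπ0 : π ≠ 0 := hπirr.ne_zero
  have hπΩ : algebraMap R (AlgebraicClosure (FractionRing R)) π ≠ 0 :=
    fun h => hπ0 (hinj (by rw [h, map_zero]))
  have hic : ∀ y : AlgebraicClosure (FractionRing R), IsIntegral R y →
      algebraMap R (AlgebraicClosure (FractionRing R)) π * y ≠ 1 := by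
    intro y hy h
    have hπK : algebraMap R (FractionRing R) π ≠ 0 := by
      intro h0
      exact hπ0 (IsFractionRing.injective R (FractionRing R) (by rw [h0, map_zero]))
    have hy' : y = algebraMap (FractionRing R) (AlgebraicClosure (FractionRing R))
        (algebraMap R (FractionRing R) π)⁻¹ := by
      rw [map_inv₀, ← IsScalarTower.algebraMap_apply]
      exact eq_inv_of_mul_eq_one_right h
    rw [hy'] at hy
    have h2 : IsIntegral R ((algebraMap R (FractionRing R) π)⁻¹) :=
      (isIntegral_algebraMap_iff (algebraMap (FractionRing R)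
        (AlgebraicClosure (FractionRing R))).injective).mp hy
    obtain ⟨r, hr⟩ := IsIntegrallyClosed.isIntegral_iff.mp h2
    have h3 : π * r = 1 := by
      apply IsFractionRing.injective R (FractionRing R)
      rw [map_mul, hr, map_one, mul_inv_cancel₀ hπK]
    exact hπirr.not_isUnit (IsUnit.of_mul_eq_one _ h3)
  have hpπ : (p : R) ∈ Ideal.span {π} := hπ ▸ hpR
  obtain ⟨S, hSgood, hSperf⟩ := exists_max π p hπ hinj hic hp hpπ
  -- basic consequences of goodness
  have hgoodpt : ∀ y : S, ∃ T : Subalgebra R (AlgebraicClosure (FractionRing R)),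
      T ≤ S ∧ (y : AlgebraicClosure (FractionRing R)) ∈ T ∧ Good π p T := by
    intro y
    obtain ⟨T, hTS, hyT, hT⟩ := hSgood {(y : AlgebraicClosure (FractionRing R))}
      (by rw [Finset.coe_singleton, Set.singleton_subset_iff]; exact y.2)
    refine ⟨T, hTS, ?_, hT⟩
    apply hyT
    rw [Finset.coe_singleton]; exact Set.mem_singleton _
  have hint : ∀ y : S, IsIntegral R (y : AlgebraicClosure (FractionRing R)) := by
    intro y
    obtain ⟨T, hTS, hyT, hT⟩ := hgoodpt y
    haveI := hT.fin
    have : IsIntegral R (⟨y, hyT⟩ : T) := Algebra.IsIntegral.isIntegral _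
    exact this.map T.val
  haveI hintS : Algebra.IsIntegral R S := by
    refine ⟨fun y => ?_⟩
    exact (isIntegral_algebraMap_iff (A := S) (B := AlgebraicClosure (FractionRing R))
      Subtype.val_injective).mp (hint y)
  have hlocS : ∀ y : S, y ∈ Ideal.span {algebraMap R S π} ∨ IsUnit y := by
    intro y
    obtain ⟨T, hTS, hyT, hT⟩ := hgoodpt y
    rcases hT.loc ⟨y, hyT⟩ with h | h
    · left
      obtain ⟨w, hw⟩ := Ideal.mem_span_singleton.mp h
      rw [Ideal.mem_span_singleton]
      refine ⟨Subalgebra.inclusion hTS w, ?_⟩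
      apply Subtype.ext
      have := congrArg (fun t : T => (t : AlgebraicClosure (FractionRing R))) hw
      simpa using this
    · right
      have := h.map (Subalgebra.inclusion hTS)
      have he : y = Subalgebra.inclusion hTS ⟨y, hyT⟩ := Subtype.ext rfl
      rw [he]; exact this
  have hnuS : ¬ IsUnit (algebraMap R S π) := by
    intro hu
    obtain ⟨y, hy⟩ := hu.exists_right_inv
    apply hic (y : AlgebraicClosure (FractionRing R)) (hint y)
    have := congrArg (fun t : S => (t : AlgebraicClosure (FractionRing R))) hy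
    simpa using this
  obtain ⟨hlocalS, hmaxS⟩ := isLocalRing_of_loc (algebraMap R S π) hlocS hnuS
  -- Hausdorff
  haveI hhaus : IsHausdorff (maximalIdeal S) S := by
    refine ⟨fun x hx => ?_⟩
    by_contra hx0
    have hx0' : (x : AlgebraicClosure (FractionRing R)) ≠ 0 := fun h => hx0 (Subtype.ext h)
    obtain ⟨n, w, hw, hxw⟩ := exists_mul_eq_pow (K := FractionRing R) π hπirr
      (x : AlgebraicClosure (FractionRing R)) (hint x) hx0'
    have hwS : w ∈ S := by
      have : Algebra.adjoin R {(x : AlgebraicClosure (FractionRing R))} ≤ S :=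
        Algebra.adjoin_le (Set.singleton_subset_iff.mpr x.2)
      exact this hw
    have h1 := hx (n + 1)
    rw [SModEq.zero, smul_eq_mul, Ideal.mul_top, hmaxS, Ideal.span_singleton_pow,
      Ideal.mem_span_singleton] at h1
    obtain ⟨v, hv⟩ := h1
    -- π^n = x w = π^(n+1) v w
    apply hic ((v : AlgebraicClosure (FractionRing R)) * w)
    · exact (hint v).mul (hint ⟨w, hwS⟩)
    · have h2 : (x : AlgebraicClosure (FractionRing R)) =
          algebraMap R (AlgebraicClosure (FractionRing R)) π ^ (n + 1) * v := by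
        have := congrArg (fun t : S => (t : AlgebraicClosure (FractionRing R))) hv
        simpa using this
      rw [h2, pow_succ] at hxw
      have h3 : algebraMap R (AlgebraicClosure (FractionRing R)) π ^ n *
          (algebraMap R (AlgebraicClosure (FractionRing R)) π * (↑v * w)) =
          algebraMap R (AlgebraicClosure (FractionRing R)) π ^ n * 1 := by
        linear_combination hxw
      exact mul_left_cancel₀ (pow_ne_zero n hπΩ) h3
  have hnil : ∀ n : ℕ, (algebraMap R S π) ^ n ≠ 0 := by
    intro n h
    have := congrArg (fun t : S => (t : AlgebraicClosure (FractionRing R))) h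
    simp only [SubmonoidClass.coe_pow, ZeroMemClass.coe_zero] at this
    exact pow_ne_zero n hπΩ this
  obtain ⟨hdomS, hdvrS⟩ := Groth.Agent.Lib.DvrComplH8.isDVR_of_principal_hausdorff S
    (algebraMap R S π) hmaxS hnil
  have hhensS : HenselianLocalRing S := Groth.Agent.Lib.HensIntDom.henselian_of_integral_domain R S
  refine ⟨S, inferInstance, hdomS, hdvrS, hhensS, inferInstance, ?_, ?_, ?_, ?_, ?_⟩
  · intro a b hab
    apply hinj
    have := congrArg (fun t : S => (t : AlgebraicClosure (FractionRing R))) hab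
    simpa using this
  · rw [hπ, Ideal.map_span, Set.image_singleton]
    exact hmaxS.symm
  · intro s
    obtain ⟨T, hTS, hsT, hT⟩ := hSgood (s.image (fun y : S => (y : AlgebraicClosure (FractionRing R))))
      (by
        intro y hy
        rw [Finset.coe_image] at hy
        obtain ⟨y', _, rfl⟩ := hy
        exact y'.2)
    haveI := hT.fin
    haveI : Module.Free R T := Module.free_of_finite_type_torsion_free'
    obtain ⟨e, he⟩ : ∃ e : T ≃ₐ[R] (Subalgebra.inclusion hTS).range,
        e = AlgEquiv.ofInjective (Subalgebra.inclusion hTS) (Subalgebra.inclusion_injective hTS) :=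
      ⟨_, rfl⟩
    refine ⟨(Subalgebra.inclusion hTS).range, ?_, Module.Finite.equiv e.toLinearEquiv,
      Module.Free.of_equiv e.toLinearEquiv, ?_⟩
    · intro y hy
      have hyT : (y : AlgebraicClosure (FractionRing R)) ∈ T := by
        apply hsT
        rw [Finset.coe_image]
        exact ⟨y, hy, rfl⟩
      exact ⟨⟨y, hyT⟩, Subtype.ext rfl⟩
    · obtain ⟨m, hm⟩ := hT.rank
      exact ⟨m, by rw [← LinearEquiv.finrank_eq e.toLinearEquiv, hm]⟩
  · intro y
    obtain ⟨z, hz, w, hw, hzw⟩ := hSperf y y.2
    refine ⟨⟨z, hz⟩, ?_⟩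
    have : maximalIdeal S = Ideal.span {algebraMap R S π} := hmaxS
    rw [this, Ideal.mem_span_singleton]
    refine ⟨⟨w, hw⟩, ?_⟩
    apply Subtype.ext
    simpa using hzw
  · intro y
    obtain ⟨T, hTS, hyT, hT⟩ := hgoodpt y
    obtain ⟨n, z, hz⟩ := hT.insep ⟨y, hyT⟩
    refine ⟨n, z, ?_⟩
    obtain ⟨w, hw⟩ := Ideal.mem_span_singleton.mp hz
    have : maximalIdeal S = Ideal.span {algebraMap R S π} := hmaxS
    rw [this, Ideal.mem_span_singleton]
    refine ⟨Subalgebra.inclusion hTS w, ?_⟩
    apply Subtype.ext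
    have := congrArg (fun t : T => (t : AlgebraicClosure (FractionRing R))) hw
    simpa using this

end Groth.Agent.Lib.PerfResH8
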