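import Mathlib
import Groth.Prelude
import Groth.Agent.Lib.RegDirLim_lead
import Groth.Agent.Lib.SmoothRegHom_helper3

set_option autoImplicit false
set_option linter.unusedSimpArgs false
set_option linter.unusedVariables false
set_option linter.unusedSectionVars false
set_option linter.style.longLine false
set_option linter.style.haveILetI false
set_option linter.unnecessarySimpa false
set_option maxHeartbeats 1600000

/-!
# A directed colimit of smooth algebras with Noetherian fibres is a regular ring map (S9308)
-/

namespace Groth.Agent.Lib.RegHomColim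

open TensorProduct

/-- A module-level "colimit presentation": a directed system `(A i, g)` with a compatible cocone
`s i : A i → L` which is jointly surjective and whose kernels die at a finite stage. -/
structure IsModPres {K : Type*} [CommRing K] {ι : Type*} [Preorder ι]
    (A : ι → Type*) [∀ i, AddCommGroup (A i)] [∀ i, Module K (A i)]
    (g : ∀ i j, i ≤ j → A i →ₗ[K] A j)
    {L : Type*} [AddCommGroup L] [Module K L] (s : ∀ i, A i →ₗ[K] L) : Prop where
  map_self : ∀ i (x : A i), g i i le_rfl x = x
  map_map : ∀ i j k (hij : i ≤ j) (hjk : j ≤ k) (x : A i),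
    g j k hjk (g i j hij x) = g i k (hij.trans hjk) x
  compat : ∀ i j (h : i ≤ j) (x : A i), s j (g i j h x) = s i x
  surj : ∀ a : L, ∃ i, ∃ x : A i, s i x = a
  ker : ∀ i (x : A i), s i x = 0 → ∃ j, ∃ h : i ≤ j, g i j h x = 0

section ModulePres

variable {K : Type*} [CommRing K] {ι : Type*} [Preorder ι] [Nonempty ι] [IsDirectedOrder ι]
  {A : ι → Type*} [∀ i, AddCommGroup (A i)] [∀ i, Module K (A i)]
  {g : ∀ i j, i ≤ j → A i →ₗ[K] A j}
  {L : Type*} [AddCommGroup L] [Module K L] {s : ∀ i, A i →ₗ[K] L}

theorem IsModPres.directedSystem (H : IsModPres A g s) :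
    DirectedSystem A (fun i j h => (g i j h : A i → A j)) :=
  ⟨fun i x => H.map_self i x, fun k j i hij hjk x => H.map_map _ _ _ hij hjk x⟩

/-- Tensoring is compatible with the kernel condition. -/
theorem IsModPres.exists_lTensor_eq_zero (H : IsModPres A g s)
    (B : Type*) [AddCommGroup B] [Module K B] (i : ι) (z : B ⊗[K] A i)
    (hz : LinearMap.lTensor B (s i) z = 0) :
    ∃ j, ∃ h : i ≤ j, LinearMap.lTensor B (g i j h) z = 0 := by
  classical
  haveI : DirectedSystem A (fun i j h => (g i j h : A i → A j)) := H.directedSystem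
  let e : Module.DirectLimit A g ≃ₗ[K] L :=
    LinearEquiv.ofBijective (Module.DirectLimit.lift K ι A g s H.compat) (by
      constructor
      · rw [← LinearMap.ker_eq_bot, Submodule.eq_bot_iff]
        intro w hw
        obtain ⟨i, x, rfl⟩ := Module.DirectLimit.exists_of w
        rw [LinearMap.mem_ker, Module.DirectLimit.lift_of] at hw
        obtain ⟨j, hij, hx⟩ := H.ker i x hw
        rw [← Module.DirectLimit.of_f (hij := hij), hx, map_zero]
      · intro a
        obtain ⟨i, x, rfl⟩ := H.surj a
        exact ⟨Module.DirectLimit.of K ι A g i x, Module.DirectLimit.lift_of _ _ x⟩)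
  have h1 : s i = e.toLinearMap ∘ₗ Module.DirectLimit.of K ι A g i := by
    ext y
    exact (Module.DirectLimit.lift_of s H.compat y).symm
  rw [h1, LinearMap.lTensor_comp, LinearMap.comp_apply] at hz
  have h2 : LinearMap.lTensor B (Module.DirectLimit.of K ι A g i) z = 0 := by
    apply (LinearEquiv.lTensor B e).injective
    rw [map_zero]
    exact hz
  have key : ∀ z : B ⊗[K] A i,
      TensorProduct.directLimitRight g B
        (LinearMap.lTensor B (Module.DirectLimit.of K ι A g i) z) =
      Module.DirectLimit.of K ι (fun i => B ⊗[K] A i)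
        (fun i j h => LinearMap.lTensor B (g i j h)) i z := by
    intro z
    induction z using TensorProduct.induction_on with
    | zero => simp
    | tmul b x => simp
    | add x y hx hy => simp only [map_add, hx, hy]
  have h3 := congrArg (TensorProduct.directLimitRight g B) h2
  rw [key, map_zero] at h3
  exact Module.DirectLimit.of.zero_exact h3

/-- A colimit (in the presentation sense) of flat modules is flat. -/
theorem IsModPres.flat (H : IsModPres A g s) (hflat : ∀ i, Module.Flat K (A i)) :
    Module.Flat K L := by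
  apply Module.Flat.of_forall_isTrivialRelation
  intro l c x hcx
  have hfin : ∃ i, ∃ a : Fin l → A i, ∀ k, s i (a k) = x k := by
    choose ik xk hxk using fun k => H.surj (x k)
    obtain ⟨M, hM⟩ := Finite.exists_le ik
    exact ⟨M, fun k => g (ik k) M (hM k) (xk k), fun k => by rw [H.compat, hxk]⟩
  obtain ⟨i, a, ha⟩ := hfin
  have h1 : s i (∑ k, c k • a k) = 0 := by
    rw [map_sum, ← hcx]
    refine Finset.sum_congr rfl fun k _ => ?_
    rw [map_smul, ha]
  obtain ⟨j, hij, h2⟩ := H.ker i _ h1
  have h3 : ∑ k, c k • g i j hij (a k) = 0 := by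
    rw [← h2, map_sum]
    refine Finset.sum_congr rfl fun k _ => ?_
    rw [map_smul]
  haveI := hflat j
  obtain ⟨m, d, y, hy1, hy2⟩ := Module.Flat.isTrivialRelation_of_sum_smul_eq_zero h3
  refine ⟨m, d, fun t => s j (y t), fun k => ?_, hy2⟩
  have hy1k : g i j hij (a k) = ∑ t, d k t • y t := hy1 k
  rw [← ha k, ← H.compat i j hij, hy1k, map_sum]
  refine Finset.sum_congr rfl fun t _ => ?_
  rw [map_smul]

end ModulePres

section AlgPres

variable {K : Type*} [CommRing K]

lemma map_id_eq_lTensor {A₁ A₂ : Type*} [CommRing A₁] [CommRing A₂] [Algebra K A₁] [Algebra K A₂]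
    (B : Type*) [CommRing B] [Algebra K B] (φ : A₁ →ₐ[K] A₂) (z : B ⊗[K] A₁) :
    Algebra.TensorProduct.map (AlgHom.id B B) φ z = LinearMap.lTensor B φ.toLinearMap z := by
  induction z using TensorProduct.induction_on with
  | zero => simp
  | tmul b x => simp
  | add x y hx hy => rw [map_add, map_add, hx, hy]

variable {ι : Type*} [Preorder ι] [Nonempty ι] [IsDirectedOrder ι]
  {A : ι → Type*} [∀ i, CommRing (A i)] [∀ i, Algebra K (A i)]
  {g : ∀ i j, i ≤ j → A i →ₐ[K] A j}
  {L : Type*} [CommRing L] [Algebra K L] {s : ∀ i, A i →ₐ[K] L}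

/-- Base change of a colimit presentation of algebras. -/
theorem IsModPres.baseChange
    (H : IsModPres A (fun i j h => (g i j h).toLinearMap) (fun i => (s i).toLinearMap))
    (B : Type*) [CommRing B] [Algebra K B] :
    IsModPres (K := B) (fun i => B ⊗[K] A i)
      (fun i j h => (Algebra.TensorProduct.map (AlgHom.id B B) (g i j h)).toLinearMap)
      (fun i => (Algebra.TensorProduct.map (AlgHom.id B B) (s i)).toLinearMap) := by
  have hcompat : ∀ i j (h : i ≤ j) (z : B ⊗[K] A i),
      Algebra.TensorProduct.map (AlgHom.id B B) (s j)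
        (Algebra.TensorProduct.map (AlgHom.id B B) (g i j h) z) =
      Algebra.TensorProduct.map (AlgHom.id B B) (s i) z := by
    intro i j h z
    induction z using TensorProduct.induction_on with
    | zero => simp
    | tmul b x =>
      rw [Algebra.TensorProduct.map_tmul, Algebra.TensorProduct.map_tmul,
        Algebra.TensorProduct.map_tmul]
      congr 1
      exact H.compat i j h x
    | add x y hx hy => rw [map_add, map_add, map_add, hx, hy]
  refine ⟨?_, ?_, hcompat, ?_, ?_⟩
  · intro i z
    show Algebra.TensorProduct.map (AlgHom.id B B) (g i i le_rfl) z = z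
    induction z using TensorProduct.induction_on with
    | zero => simp
    | tmul b x =>
      rw [Algebra.TensorProduct.map_tmul]
      congr 1
      exact H.map_self i x
    | add x y hx hy => rw [map_add, hx, hy]
  · intro i j k hij hjk z
    show Algebra.TensorProduct.map (AlgHom.id B B) (g j k hjk)
        (Algebra.TensorProduct.map (AlgHom.id B B) (g i j hij) z) =
      Algebra.TensorProduct.map (AlgHom.id B B) (g i k (hij.trans hjk)) z
    induction z using TensorProduct.induction_on with
    | zero => simp
    | tmul b x =>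
      rw [Algebra.TensorProduct.map_tmul, Algebra.TensorProduct.map_tmul,
        Algebra.TensorProduct.map_tmul]
      congr 1
      exact H.map_map i j k hij hjk x
    | add x y hx hy => rw [map_add, map_add, map_add, hx, hy]
  · intro a
    show ∃ i, ∃ z : B ⊗[K] A i, Algebra.TensorProduct.map (AlgHom.id B B) (s i) z = a
    induction a using TensorProduct.induction_on with
    | zero =>
      obtain ⟨i⟩ := (inferInstance : Nonempty ι)
      exact ⟨i, 0, map_zero _⟩
    | tmul b y =>
      obtain ⟨i, x, hx⟩ := H.surj y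
      refine ⟨i, b ⊗ₜ x, ?_⟩
      rw [Algebra.TensorProduct.map_tmul]
      congr 1
    | add a₁ a₂ h₁ h₂ =>
      obtain ⟨i₁, z₁, hz₁⟩ := h₁
      obtain ⟨i₂, z₂, hz₂⟩ := h₂
      obtain ⟨k, h₁k, h₂k⟩ := exists_ge_ge i₁ i₂
      refine ⟨k, Algebra.TensorProduct.map (AlgHom.id B B) (g i₁ k h₁k) z₁ +
        Algebra.TensorProduct.map (AlgHom.id B B) (g i₂ k h₂k) z₂, ?_⟩
      rw [map_add, hcompat, hcompat, hz₁, hz₂]
  · intro i z hz
    have hz' : LinearMap.lTensor B (s i).toLinearMap z = 0 := by
      rw [← map_id_eq_lTensor]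
      exact hz
    obtain ⟨j, hij, hj⟩ := H.exists_lTensor_eq_zero B i z hz'
    refine ⟨j, hij, ?_⟩
    show Algebra.TensorProduct.map (AlgHom.id B B) (g i j hij) z = 0
    rw [map_id_eq_lTensor]
    exact hj

end AlgPres

universe u

/-- Abstract form of S9308. -/
theorem isRegularHom_of_pres {R : Type u} [CommRing R] {ι : Type u} [Preorder ι] [Nonempty ι]
    [IsDirectedOrder ι]
    (G : ι → Type u) [∀ i, CommRing (G i)] [∀ i, Algebra R (G i)]
    (f : ∀ i j, i ≤ j → G i →ₐ[R] G j)
    {Λ : Type u} [CommRing Λ] [Algebra R Λ] (t : ∀ i, G i →ₐ[R] Λ)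
    (H : IsModPres G (fun i j h => (f i j h).toLinearMap) (fun i => (t i).toLinearMap))
    (hs : ∀ i, Algebra.Smooth R (G i))
    (hN : ∀ (p : Ideal R) [p.IsPrime], IsNoetherianRing (p.Fiber Λ)) :
    CAlg.IsRegularHom R Λ := by
  refine ⟨?_, fun p hp => ⟨hN p, ?_⟩⟩
  · exact H.flat (fun i => Algebra.Smooth.flat R (G i))
  · intro k' _ _ hfin
    have H1 := H.baseChange p.ResidueField
    have H2 := H1.baseChange k'
    haveI : IsNoetherianRing (p.Fiber Λ) := hN p
    haveI hTN : IsNoetherianRing (k' ⊗[p.ResidueField] (p.Fiber Λ)) := by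
      haveI : Module.Finite (p.Fiber Λ) ((p.Fiber Λ) ⊗[p.ResidueField] k') := inferInstance
      haveI : IsNoetherianRing ((p.Fiber Λ) ⊗[p.ResidueField] k') :=
        IsNoetherianRing.of_finite (p.Fiber Λ) _
      exact isNoetherianRing_of_ringEquiv _
        (Algebra.TensorProduct.comm p.ResidueField (p.Fiber Λ) k').toRingEquiv
    rw [isRegularRing_iff]
    intro P hP
    haveI : IsNoetherianRing (Localization.AtPrime P) :=
      IsLocalization.isNoetherianRing P.primeCompl _ inferInstance
    refine RegDirLim.regular_localization_of_colim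
      (fun i => k' ⊗[p.ResidueField] (p.ResidueField ⊗[R] G i))
      (fun i j h => (Algebra.TensorProduct.map (AlgHom.id k' k')
        (Algebra.TensorProduct.map (AlgHom.id p.ResidueField p.ResidueField) (f i j h))).toRingHom)
      (fun i j k hij hjk x => H2.map_map i j k hij hjk x)
      (fun i => (Algebra.TensorProduct.map (AlgHom.id k' k')
        (Algebra.TensorProduct.map (AlgHom.id p.ResidueField p.ResidueField) (t i))).toRingHom)
      (fun i j h x => H2.compat i j h x)
      (fun a => H2.surj a)
      (fun i x hx => H2.ker i x hx)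
      P (fun i => ?_)
    have hreg := ((SmoothRegHomH3.isRegularHom_of_smooth R (G i)).2 p).2 k' hfin
    exact hreg.isRegularLocalRing_localization _

set_option backward.isDefEq.respectTransparency.types false in
/-- **S9308.** -/
theorem main9308 (R : Type u) [CommRing R] {ι : Type u} [Preorder ι]
    [IsDirectedOrder ι] [Nonempty ι] (G : ι → Type u) [∀ i, CommRing (G i)] [∀ i, Algebra R (G i)]
    (f : ∀ i j : ι, i ≤ j → (G i →ₐ[R] G j)) [DirectedSystem G (fun i j h => f i j h)]
    (hs : ∀ i, Algebra.Smooth R (G i))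
    (hN : ∀ (p : Ideal R) [p.IsPrime], IsNoetherianRing (p.Fiber (DirectLimit G f))) :
    CAlg.IsRegularHom R (DirectLimit G f) := by
  refine isRegularHom_of_pres G f (fun i => DirectLimit.Algebra.of G f i) ?_ hs hN
  refine ⟨fun i x => DirectedSystem.map_self' f x,
    fun i j k hij hjk x => DirectedSystem.map_map' f hij hjk x,
    fun i j h x => DirectLimit.Algebra.of_f h x, ?_, ?_⟩
  · intro a
    obtain ⟨i, x, rfl⟩ := DirectLimit.exists_eq_mk f a
    exact ⟨i, x, rfl⟩
  · intro i x hx
    have hx' : (⟦⟨i, x⟩⟧ : DirectLimit G f) = ⟦⟨i, 0⟩⟧ := by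
      rw [← DirectLimit.zero_def i]
      exact hx
    obtain ⟨k, hik, hik', hk⟩ := Quotient.exact hx'
    refine ⟨k, hik, ?_⟩
    show f i k hik x = 0
    have : f i k hik' (0 : G i) = 0 := map_zero _
    rw [← this]
    exact hk

end Groth.Agent.Lib.RegHomColim
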