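import Mathlib
import Groth.Prelude.Def_FrobAlg
import Groth.Agent.Lib.RegHomColim_lead

set_option autoImplicit false
set_option linter.unusedVariables false
set_option linter.unusedTactic false
set_option linter.unreachableTactic false
set_option linter.unusedSectionVars false
set_option linter.style.haveILetI false
set_option linter.deprecated false
set_option maxHeartbeats 1600000

universe u

/-!
# Tensoring with the perfection of an `F`-projective ring (helper4)

If `R` has characteristic `p` and is projective over itself through the Frobenius, then `R` is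
`F`-split, all Frobenius pushforwards `F^n_* R` are projective, and `R → R_perf` is a directed
colimit of split injections of projective modules.  Consequently
`R_perf ⊗ N → Π (R_perf ⊗ T i)` is injective as soon as this holds for all projective modules.
-/

namespace Groth.Agent.Lib.PerfTensorH4

open TensorProduct

/-- `R` as an `R`-module through the `n`-fold Frobenius. -/
def Tw (p : ℕ) (R : Type u) (n : ℕ) : Type u := R

section Basic

variable (p : ℕ) [Fact p.Prime] (R : Type u) [CommRing R] [CharP R p] (n : ℕ)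

instance : CommRing (Tw p R n) := inferInstanceAs (CommRing R)

/-- The identity of underlying rings. -/
def toTw : R ≃+* Tw p R n := RingEquiv.refl R

instance : Algebra R (Tw p R n) :=
  ((toTw p R n : R →+* Tw p R n).comp (iterateFrobenius R p n)).toAlgebra

theorem algebraMap_tw (r : R) : algebraMap R (Tw p R n) r = toTw p R n (r ^ p ^ n) := rfl

theorem smul_tw (r : R) (x : Tw p R n) : r • x = toTw p R n (r ^ p ^ n) * x := by
  rw [Algebra.smul_def, algebraMap_tw]

end Basic

section Maps

variable (p : ℕ) [Fact p.Prime] (R : Type u) [CommRing R] [CharP R p]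

/-- The transition maps `x ↦ x ^ p ^ (j - i)`. -/
def gmap (i j : ℕ) (h : i ≤ j) : Tw p R i →ₗ[R] Tw p R j where
  toFun x := toTw p R j (((toTw p R i).symm x) ^ p ^ (j - i))
  map_add' x y := by
    show toTw p R j (((toTw p R i).symm (x + y)) ^ p ^ (j - i))
      = toTw p R j (((toTw p R i).symm x) ^ p ^ (j - i))
        + toTw p R j (((toTw p R i).symm y) ^ p ^ (j - i))
    rw [map_add, add_pow_char_pow, map_add]
  map_smul' r x := by
    show toTw p R j (((toTw p R i).symm (r • x)) ^ p ^ (j - i))
      = r • toTw p R j (((toTw p R i).symm x) ^ p ^ (j - i))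
    rw [smul_tw, smul_tw, map_mul, RingEquiv.symm_apply_apply, mul_pow, map_mul,
      ← pow_mul, ← pow_add, Nat.add_sub_cancel' h]

theorem gmap_apply (i j : ℕ) (h : i ≤ j) (x : Tw p R i) :
    gmap p R i j h x = toTw p R j (((toTw p R i).symm x) ^ p ^ (j - i)) := rfl

/-- The algebra structure of the perfect closure. -/
@[reducible] def algPC : Algebra R (PerfectClosure R p) := (PerfectClosure.of R p).toAlgebra

attribute [local instance] algPC

theorem algebraMap_pc (r : R) : algebraMap R (PerfectClosure R p) r = PerfectClosure.of R p r := rfl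

/-- `x ↦ x ^ (1 / p ^ n)`. -/
noncomputable def sRing (n : ℕ) : R →+* PerfectClosure R p :=
  ((iterateFrobeniusEquiv (PerfectClosure R p) p n).symm :
    PerfectClosure R p →+* PerfectClosure R p).comp (PerfectClosure.of R p)

theorem sRing_pow (n : ℕ) (x : R) : (sRing p R n x) ^ p ^ n = PerfectClosure.of R p x := by
  have h := (iterateFrobeniusEquiv (PerfectClosure R p) p n).apply_symm_apply
    (PerfectClosure.of R p x)
  rw [iterateFrobeniusEquiv_def] at h
  exact h

theorem pow_inj (n : ℕ) {a b : PerfectClosure R p} (h : a ^ p ^ n = b ^ p ^ n) : a = b := by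
  apply (iterateFrobeniusEquiv (PerfectClosure R p) p n).injective
  rw [iterateFrobeniusEquiv_def, iterateFrobeniusEquiv_def]
  exact h

theorem sRing_pow_self (n : ℕ) (r : R) : sRing p R n (r ^ p ^ n) = PerfectClosure.of R p r := by
  apply pow_inj p R n
  rw [sRing_pow, map_pow]

/-- The structure maps `F^n_* R → R_perf`. -/
noncomputable def smap (n : ℕ) : Tw p R n →ₗ[R] PerfectClosure R p where
  toFun x := sRing p R n ((toTw p R n).symm x)
  map_add' x y := by
    show sRing p R n ((toTw p R n).symm (x + y))
      = sRing p R n ((toTw p R n).symm x) + sRing p R n ((toTw p R n).symm y)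
    rw [map_add, map_add]
  map_smul' r x := by
    show sRing p R n ((toTw p R n).symm (r • x)) = r • sRing p R n ((toTw p R n).symm x)
    rw [smul_tw, map_mul, RingEquiv.symm_apply_apply, map_mul, Algebra.smul_def, algebraMap_pc,
      sRing_pow_self]

theorem smap_apply (n : ℕ) (x : Tw p R n) : smap p R n x = sRing p R n ((toTw p R n).symm x) := rfl

theorem isModPres : RegHomColim.IsModPres (K := R) (Tw p R) (gmap p R) (smap p R) where
  map_self i x := by
    rw [gmap_apply, Nat.sub_self, pow_zero, pow_one, RingEquiv.apply_symm_apply]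
  map_map i j k hij hjk x := by
    have h : (j - i) + (k - j) = k - i := by omega
    rw [gmap_apply, gmap_apply, gmap_apply, RingEquiv.symm_apply_apply, ← pow_mul, ← pow_add, h]
  compat i j h x := by
    rw [smap_apply, smap_apply, gmap_apply, RingEquiv.symm_apply_apply]
    apply pow_inj p R j
    have hj : p ^ j = p ^ i * p ^ (j - i) := by rw [← pow_add, Nat.add_sub_cancel' h]
    rw [sRing_pow, map_pow]
    rw [hj, pow_mul, sRing_pow]
  surj a := by
    obtain ⟨⟨n, x⟩, rfl⟩ := PerfectClosure.mk_surjective R p a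
    refine ⟨n, toTw p R n x, ?_⟩
    rw [smap_apply, RingEquiv.symm_apply_apply]
    apply pow_inj p R n
    rw [sRing_pow, ← iterate_frobenius, PerfectClosure.iterate_frobenius_mk]
  ker i x hx := by
    rw [smap_apply] at hx
    have h0 : PerfectClosure.of R p ((toTw p R i).symm x) = 0 := by
      rw [← sRing_pow p R i, hx, zero_pow (pow_ne_zero _ (Fact.out : p.Prime).ne_zero)]
    rw [PerfectClosure.of_apply, PerfectClosure.zero_def, PerfectClosure.mk_eq_iff] at h0
    obtain ⟨z, hz⟩ := h0
    rw [iterate_frobenius, iterate_frobenius] at hz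
    have hz' : ((toTw p R i).symm x) ^ p ^ z = 0 := by
      have h1 : (0 : R) ^ p ^ (0 + z) = 0 :=
        zero_pow (pow_ne_zero _ (Fact.out : p.Prime).ne_zero)
      rw [h1, zero_add] at hz
      exact hz
    refine ⟨i + z, Nat.le_add_right i z, ?_⟩
    rw [gmap_apply, Nat.add_sub_cancel_left, hz', map_zero]

theorem smap_comp_gmap (i j : ℕ) (h : i ≤ j) : smap p R j ∘ₗ gmap p R i j h = smap p R i :=
  LinearMap.ext (fun x => (isModPres p R).compat i j h x)

end Maps

section Split

variable (p : ℕ) [Fact p.Prime] (R : Type u) [CommRing R] [CharP R p]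
  [Module.Projective R (FrobAlg.Twist p R)]

/-- `R` is `F`-split. -/
theorem exists_splitting :
    ∃ ψ : R →+ R, ψ 1 = 1 ∧ ∀ r x : R, ψ (r ^ p * x) = r * ψ x := by
  classical
  obtain ⟨s, hs⟩ := (Module.projective_def' (R := R) (P := FrobAlg.Twist p R)).mp inferInstance
  obtain ⟨c, hc⟩ : ∃ c : FrobAlg.Twist p R →₀ R, c = s 1 := ⟨_, rfl⟩
  have hlc : Finsupp.linearCombination R (id : FrobAlg.Twist p R → FrobAlg.Twist p R) c = 1 := by
    rw [hc]
    exact LinearMap.congr_fun hs 1
  have hsum : ∑ a ∈ c.support, (c a) ^ p * (FrobAlg.toTwist p R).symm a = 1 := by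
    have h1 := congrArg (FrobAlg.toTwist p R).symm hlc
    rw [Finsupp.linearCombination_apply, Finsupp.sum, map_sum, map_one] at h1
    rw [← h1]
    refine Finset.sum_congr rfl (fun a _ => ?_)
    rw [id, Algebra.smul_def, FrobAlg.algebraMap_twist, map_mul, RingEquiv.symm_apply_apply]
  obtain ⟨ψ₀, hψ₀⟩ : ∃ ψ₀ : FrobAlg.Twist p R →ₗ[R] R, ∀ x, ψ₀ x
      = ∑ a ∈ c.support, ((c a) ^ (p - 1) * (FrobAlg.toTwist p R).symm a) * (s x) a :=
    ⟨∑ a ∈ c.support, ((c a) ^ (p - 1) * (FrobAlg.toTwist p R).symm a) •
      ((Finsupp.lapply a) ∘ₗ s), fun x => by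
      rw [LinearMap.sum_apply]
      refine Finset.sum_congr rfl (fun a _ => ?_)
      rw [LinearMap.smul_apply, LinearMap.comp_apply, Finsupp.lapply_apply, smul_eq_mul]⟩
  have hp1 : p - 1 + 1 = p := Nat.sub_add_cancel (Fact.out : p.Prime).one_le
  have hψ1 : ψ₀ 1 = 1 := by
    rw [hψ₀, ← hsum, ← hc]
    refine Finset.sum_congr rfl (fun a _ => ?_)
    have h2 : (c a) ^ p = (c a) ^ (p - 1) * c a := by
      rw [← pow_succ, hp1]
    rw [h2]
    ring
  refine ⟨ψ₀.toAddMonoidHom.comp (FrobAlg.toTwist p R : R ≃+* FrobAlg.Twist p R).toAddMonoidHom,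
    ?_, ?_⟩
  · show ψ₀ (FrobAlg.toTwist p R 1) = 1
    rw [map_one, hψ1]
  · intro r x
    show ψ₀ (FrobAlg.toTwist p R (r ^ p * x)) = r * ψ₀ (FrobAlg.toTwist p R x)
    have h3 : FrobAlg.toTwist p R (r ^ p * x) = r • FrobAlg.toTwist p R x := by
      rw [Algebra.smul_def, FrobAlg.algebraMap_twist, map_mul]
    rw [h3, map_smul, smul_eq_mul]

/-- Iterated splittings. -/
theorem exists_splittings :
    ∃ ψ : ℕ → (R →+ R), (∀ k (x : R), ψ k (x ^ p ^ k) = x) ∧
      ∀ k (r y : R), ψ k (r ^ p ^ k * y) = r * ψ k y := by
  obtain ⟨ψ, hψ1, hψ⟩ := exists_splitting p R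
  have hψp : ∀ x : R, ψ (x ^ p) = x := fun x => by
    have h := hψ x 1
    rw [mul_one, hψ1, mul_one] at h
    exact h
  refine ⟨fun k => Nat.rec (AddMonoidHom.id R) (fun _ φ => φ.comp ψ) k, ?_, ?_⟩
  · intro k
    induction k with
    | zero =>
      intro x
      show x ^ p ^ 0 = x
      rw [pow_zero, pow_one]
    | succ k ih =>
      intro x
      show (Nat.rec (AddMonoidHom.id R) (fun _ φ => φ.comp ψ) k : R →+ R) (ψ (x ^ p ^ (k + 1))) = x
      have h1 : x ^ p ^ (k + 1) = (x ^ p ^ k) ^ p := by rw [← pow_mul, ← pow_succ]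
      rw [h1, hψp]
      exact ih x
  · intro k
    induction k with
    | zero =>
      intro r y
      show r ^ p ^ 0 * y = r * y
      rw [pow_zero, pow_one]
    | succ k ih =>
      intro r y
      show (Nat.rec (AddMonoidHom.id R) (fun _ φ => φ.comp ψ) k : R →+ R)
          (ψ (r ^ p ^ (k + 1) * y))
        = r * (Nat.rec (AddMonoidHom.id R) (fun _ φ => φ.comp ψ) k : R →+ R) (ψ y)
      have h1 : r ^ p ^ (k + 1) = (r ^ p ^ k) ^ p := by rw [← pow_mul, ← pow_succ]
      rw [h1, hψ]
      exact ih r (ψ y)

/-- The transition maps are split injections. -/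
theorem exists_retraction (i j : ℕ) (h : i ≤ j) :
    ∃ ρ : Tw p R j →ₗ[R] Tw p R i, ρ ∘ₗ gmap p R i j h = LinearMap.id := by
  obtain ⟨ψ, hψ1, hψ2⟩ := exists_splittings p R
  have hj : p ^ j = p ^ i * p ^ (j - i) := by rw [← pow_add, Nat.add_sub_cancel' h]
  refine ⟨{ toFun := fun y => toTw p R i (ψ (j - i) ((toTw p R j).symm y))
            map_add' := fun x y => by
              show toTw p R i (ψ (j - i) ((toTw p R j).symm (x + y)))
                = toTw p R i (ψ (j - i) ((toTw p R j).symm x))
                  + toTw p R i (ψ (j - i) ((toTw p R j).symm y))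
              rw [map_add, map_add, map_add]
            map_smul' := fun r y => by
              show toTw p R i (ψ (j - i) ((toTw p R j).symm (r • y)))
                = r • toTw p R i (ψ (j - i) ((toTw p R j).symm y))
              rw [smul_tw, smul_tw, map_mul, RingEquiv.symm_apply_apply, hj, pow_mul, hψ2,
                map_mul] }, ?_⟩
  refine LinearMap.ext (fun x => ?_)
  show toTw p R i (ψ (j - i) ((toTw p R j).symm (gmap p R i j h x))) = x
  rw [gmap_apply, RingEquiv.symm_apply_apply, hψ1, RingEquiv.apply_symm_apply]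

/-- Frobenius pushforwards are projective. -/
theorem projective_tw (n : ℕ) : Module.Projective R (Tw p R n) := by
  classical
  induction n with
  | zero =>
    refine Module.Projective.of_equiv (M := R)
      ({ (toTw p R 0 : R ≃+* Tw p R 0).toAddEquiv with
          map_smul' := fun r x => by
            show toTw p R 0 (r • x) = r • toTw p R 0 x
            rw [smul_tw, pow_zero, pow_one, smul_eq_mul, map_mul] } : R ≃ₗ[R] Tw p R 0)
  | succ n ih =>
    haveI := ih
    obtain ⟨s, hs⟩ := (Module.projective_def (R := R) (P := Tw p R n)).mp ih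
    haveI : Module.Projective R (Tw p R n →₀ FrobAlg.Twist p R) :=
      Module.Projective.of_equiv (finsuppLequivDFinsupp R).symm
    -- the identity maps
    obtain ⟨θ, hθ⟩ : ∃ θ : Tw p R (n + 1) ≃+ Tw p R n,
        ∀ y, θ y = toTw p R n ((toTw p R (n + 1)).symm y) :=
      ⟨((toTw p R (n + 1)).symm.trans (toTw p R n)).toAddEquiv, fun y => rfl⟩
    have hθsymm : ∀ z, θ.symm z = toTw p R (n + 1) ((toTw p R n).symm z) := by
      intro z
      apply θ.injective
      rw [AddEquiv.apply_symm_apply, hθ, RingEquiv.symm_apply_apply, RingEquiv.apply_symm_apply]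
    have hpp : ∀ r : R, (r ^ p) ^ p ^ n = r ^ p ^ (n + 1) := fun r => by
      rw [← pow_mul, ← pow_succ']
    have hθsmul : ∀ (r : R) (y : Tw p R (n + 1)), θ (r • y) = (r ^ p) • θ y := by
      intro r y
      rw [hθ, hθ, smul_tw, smul_tw, map_mul, RingEquiv.symm_apply_apply, map_mul, hpp]
    have hθsymmsmul : ∀ (r : R) (z : Tw p R n), θ.symm ((r ^ p) • z) = r • θ.symm z := by
      intro r z
      apply θ.injective
      rw [AddEquiv.apply_symm_apply, hθsmul, AddEquiv.apply_symm_apply]
    -- the two maps
    let tw : R →+ FrobAlg.Twist p R := (FrobAlg.toTwist p R : R ≃+* FrobAlg.Twist p R).toAddMonoidHom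
    let tws : FrobAlg.Twist p R →+ R :=
      ((FrobAlg.toTwist p R).symm : FrobAlg.Twist p R ≃+* R).toAddMonoidHom
    have htw : ∀ x, tw x = FrobAlg.toTwist p R x := fun x => rfl
    have htws : ∀ x, tws x = (FrobAlg.toTwist p R).symm x := fun x => rfl
    let i' : Tw p R (n + 1) →ₗ[R] (Tw p R n →₀ FrobAlg.Twist p R) :=
      { toFun := fun y => Finsupp.mapRange.addMonoidHom tw (s (θ y))
        map_add' := fun x y => by rw [map_add, map_add, map_add]
        map_smul' := fun r y => by
          rw [RingHom.id_apply, hθsmul, map_smul]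
          refine Finsupp.ext (fun a => ?_)
          rw [Finsupp.mapRange.addMonoidHom_apply, Finsupp.mapRange_apply, Finsupp.smul_apply,
            Finsupp.smul_apply, Finsupp.mapRange.addMonoidHom_apply, Finsupp.mapRange_apply,
            smul_eq_mul, htw, htw, map_mul, Algebra.smul_def, FrobAlg.algebraMap_twist] }
    let π' : (Tw p R n →₀ FrobAlg.Twist p R) →ₗ[R] Tw p R (n + 1) :=
      { toFun := fun f => θ.symm (Finsupp.linearCombination R id
          (Finsupp.mapRange.addMonoidHom tws f))
        map_add' := fun x y => by rw [map_add, map_add, map_add]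
        map_smul' := fun r f => by
          rw [RingHom.id_apply, ← hθsymmsmul, ← map_smul]
          congr 2
          refine Finsupp.ext (fun a => ?_)
          rw [Finsupp.mapRange.addMonoidHom_apply, Finsupp.mapRange_apply, Finsupp.smul_apply,
            Finsupp.smul_apply, Finsupp.mapRange.addMonoidHom_apply, Finsupp.mapRange_apply,
            smul_eq_mul, htws, htws, Algebra.smul_def, FrobAlg.algebraMap_twist, map_mul,
            RingEquiv.symm_apply_apply] }
    refine Module.Projective.of_split i' π' (LinearMap.ext (fun y => ?_))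
    show θ.symm (Finsupp.linearCombination R id
      (Finsupp.mapRange.addMonoidHom tws (Finsupp.mapRange.addMonoidHom tw (s (θ y))))) = y
    have h1 : Finsupp.mapRange.addMonoidHom tws (Finsupp.mapRange.addMonoidHom tw (s (θ y)))
        = s (θ y) := by
      refine Finsupp.ext (fun a => ?_)
      rw [Finsupp.mapRange.addMonoidHom_apply, Finsupp.mapRange_apply,
        Finsupp.mapRange.addMonoidHom_apply, Finsupp.mapRange_apply, htw, htws,
        RingEquiv.symm_apply_apply]
    rw [h1, hs (θ y), AddEquiv.symm_apply_apply]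

end Split

section Main

variable (p : ℕ) [Fact p.Prime] (R : Type u) [CommRing R] [CharP R p]

attribute [local instance] algPC

theorem comm_rTensor {A B T : Type*} [AddCommGroup A] [Module R A] [AddCommGroup B] [Module R B]
    [AddCommGroup T] [Module R T] (f : A →ₗ[R] B) (w : A ⊗[R] T) :
    TensorProduct.comm R B T (LinearMap.rTensor T f w)
      = LinearMap.lTensor T f (TensorProduct.comm R A T w) := by
  induction w using TensorProduct.induction_on with
  | zero => rw [map_zero, map_zero, map_zero, map_zero]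
  | tmul a t => rfl
  | add x y hx hy => rw [map_add, map_add, map_add, map_add, hx, hy]

variable [Module.Projective R (FrobAlg.Twist p R)]

theorem rTensor_smap_injective (T : Type u) [AddCommGroup T] [Module R T] (n : ℕ) :
    Function.Injective (LinearMap.rTensor T (smap p R n)) := by
  rw [injective_iff_map_eq_zero]
  intro w hw
  have h1 : LinearMap.lTensor T (smap p R n) (TensorProduct.comm R (Tw p R n) T w) = 0 := by
    rw [← comm_rTensor, hw, map_zero]
  obtain ⟨j, hij, h2⟩ := (isModPres p R).exists_lTensor_eq_zero T n _ h1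
  have h3 : LinearMap.rTensor T (gmap p R n j hij) w = 0 := by
    apply (TensorProduct.comm R (Tw p R j) T).injective
    rw [comm_rTensor, h2, map_zero]
  obtain ⟨ρ, hρ⟩ := exists_retraction p R n j hij
  have h4 := congrArg (LinearMap.rTensor T ρ) h3
  rw [map_zero, ← LinearMap.rTensor_comp_apply, hρ, LinearMap.rTensor_id_apply] at h4
  exact h4

theorem exists_rep (N : Type u) [AddCommGroup N] [Module R N] (x : PerfectClosure R p ⊗[R] N) :
    ∃ n, ∃ z : Tw p R n ⊗[R] N, LinearMap.rTensor N (smap p R n) z = x := by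
  induction x using TensorProduct.induction_on with
  | zero => exact ⟨0, 0, map_zero _⟩
  | tmul a m =>
    obtain ⟨n, y, rfl⟩ := (isModPres p R).surj a
    exact ⟨n, y ⊗ₜ m, rfl⟩
  | add x y hx hy =>
    obtain ⟨n₁, z₁, rfl⟩ := hx
    obtain ⟨n₂, z₂, rfl⟩ := hy
    refine ⟨max n₁ n₂, LinearMap.rTensor N (gmap p R n₁ _ (le_max_left _ _)) z₁
      + LinearMap.rTensor N (gmap p R n₂ _ (le_max_right _ _)) z₂, ?_⟩
    rw [map_add, ← LinearMap.rTensor_comp_apply, ← LinearMap.rTensor_comp_apply,
      smap_comp_gmap, smap_comp_gmap]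

/-- The general injectivity statement. -/
theorem main_general {N : Type u} [AddCommGroup N] [Module R N] {T : ℕ → Type u}
    [∀ i, AddCommGroup (T i)] [∀ i, Module R (T i)] (gg : ∀ i, N →ₗ[R] T i)
    (hproj : ∀ (M : Type u) [AddCommGroup M] [Module R M] [Module.Projective R M],
      Function.Injective (LinearMap.pi fun i : ℕ => LinearMap.lTensor M (gg i) :
        M ⊗[R] N →ₗ[R] (Π i : ℕ, M ⊗[R] T i))) :
    Function.Injective (LinearMap.pi fun i : ℕ => LinearMap.lTensor (PerfectClosure R p) (gg i) :
      PerfectClosure R p ⊗[R] N →ₗ[R] (Π i : ℕ, PerfectClosure R p ⊗[R] T i)) := by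
  rw [injective_iff_map_eq_zero]
  intro x hx
  have hx' : ∀ i, LinearMap.lTensor (PerfectClosure R p) (gg i) x = 0 := fun i => congrFun hx i
  obtain ⟨n, z, rfl⟩ := exists_rep p R N x
  have hz : ∀ i, LinearMap.lTensor (Tw p R n) (gg i) z = 0 := by
    intro i
    apply rTensor_smap_injective p R (T i) n
    rw [map_zero]
    have h1 := hx' i
    rw [← LinearMap.comp_apply, LinearMap.lTensor_comp_rTensor] at h1
    rw [← LinearMap.comp_apply, LinearMap.rTensor_comp_lTensor]
    exact h1
  haveI : Module.Projective R (Tw p R n) := projective_tw p R n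
  have hz0 : z = 0 := by
    apply hproj (Tw p R n)
    rw [map_zero]
    funext i
    exact hz i
  rw [hz0, map_zero]

end Main

end Groth.Agent.Lib.PerfTensorH4
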