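import Mathlib
import Groth.Agent.Lib.TorBC3_helper5

/-!
# Tor-independence of perfect rings of characteristic `p` (helper1)

`main14252`: for a diagram `C ← A → B` of perfect `𝔽_p`-algebras, `Tor_i^A(B, C) = 0` for `i > 0`.
-/

set_option autoImplicit false
universe u
open CategoryTheory TensorProduct

namespace Groth.Agent.Lib.PerfTorH1

open Groth.Agent.TorLES

/-- a perfect ring of characteristic `p` (the zero ring is allowed). -/
def IsPerf (p : ℕ) (R : Type*) [CommRing R] : Prop :=
  (p : R) = 0 ∧ Function.Bijective (fun x : R => x ^ p)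

section basic

variable {p : ℕ} [hp : Fact p.Prime] {R : Type*} [CommRing R]

theorem add_pow_p (h0 : (p : R) = 0) (x y : R) : (x + y) ^ p = x ^ p + y ^ p := by
  obtain ⟨r, hr⟩ := exists_add_pow_prime_eq hp.out x y
  rw [hr, h0]
  ring

theorem sub_pow_p (h0 : (p : R) = 0) (x y : R) : (x - y) ^ p = x ^ p - y ^ p := by
  have h := add_pow_p h0 (x - y) y
  rw [sub_add_cancel] at h
  exact eq_sub_of_add_eq h.symm

theorem IsPerf.pow_inj (h : IsPerf p R) {x y : R} (hxy : x ^ p = y ^ p) : x = y := h.2.1 hxy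

theorem IsPerf.exists_root (h : IsPerf p R) (x : R) : ∃ y, y ^ p = x := h.2.2 x

theorem IsPerf.eq_zero_of_pow_p_pow (h : IsPerf p R) (m : ℕ) {x : R} (hx : x ^ p ^ m = 0) :
    x = 0 := by
  induction m generalizing x with
  | zero => simpa using hx
  | succ m ih =>
    apply ih
    apply h.pow_inj
    rw [← pow_mul, ← pow_succ, hx, zero_pow hp.out.ne_zero]

theorem IsPerf.eq_zero_of_pow (h : IsPerf p R) {x : R} {k : ℕ} (hx : x ^ k = 0) : x = 0 := by
  apply h.eq_zero_of_pow_p_pow k
  have hk : k ≤ p ^ k := (Nat.lt_pow_self hp.out.one_lt).le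
  rw [← Nat.sub_add_cancel hk, pow_add, hx, mul_zero]

theorem isPerf_quotient (h : IsPerf p R) (J : Ideal R) (hJ : J.IsRadical) : IsPerf p (R ⧸ J) := by
  refine ⟨?_, ?_, ?_⟩
  · rw [← map_natCast (Ideal.Quotient.mk J) p, h.1, map_zero]
  · intro a b hab
    obtain ⟨x, rfl⟩ := Ideal.Quotient.mk_surjective a
    obtain ⟨y, rfl⟩ := Ideal.Quotient.mk_surjective b
    change (Ideal.Quotient.mk J x) ^ p = (Ideal.Quotient.mk J y) ^ p at hab
    rw [← map_pow, ← map_pow, Ideal.Quotient.eq] at hab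
    rw [Ideal.Quotient.eq]
    apply hJ
    exact Ideal.mem_radical_iff.mpr ⟨p, by rw [sub_pow_p h.1]; exact hab⟩
  · intro a
    obtain ⟨x, rfl⟩ := Ideal.Quotient.mk_surjective a
    obtain ⟨y, rfl⟩ := h.exists_root x
    exact ⟨Ideal.Quotient.mk J y, (map_pow _ _ _).symm⟩

theorem isPerf_zmod : IsPerf p (ZMod p) :=
  ⟨ZMod.natCast_self p, by
    have h : (fun x : ZMod p => x ^ p) = id := funext fun x => ZMod.pow_card x
    rw [h]
    exact Function.bijective_id⟩

end basic

section fiber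

variable {R : Type*} [CommRing R] (J : Ideal R)

/-- the fibre product `R ×_{R/J} R` as a subalgebra of `R × R`. -/
def fiberSub : Subalgebra R (R × R) where
  carrier := {z | z.1 - z.2 ∈ J}
  mul_mem' := by
    intro a b ha hb
    simp only [Set.mem_setOf_eq, Prod.fst_mul, Prod.snd_mul] at ha hb ⊢
    have h : a.1 * b.1 - a.2 * b.2 = a.1 * (b.1 - b.2) + (a.1 - a.2) * b.2 := by ring
    rw [h]
    exact J.add_mem (J.mul_mem_left _ hb) (J.mul_mem_right _ ha)
  add_mem' := by
    intro a b ha hb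
    simp only [Set.mem_setOf_eq, Prod.fst_add, Prod.snd_add] at ha hb ⊢
    have h : a.1 + b.1 - (a.2 + b.2) = (a.1 - a.2) + (b.1 - b.2) := by ring
    rw [h]
    exact J.add_mem ha hb
  algebraMap_mem' := by
    intro r
    show (algebraMap R (R × R) r).1 - (algebraMap R (R × R) r).2 ∈ J
    rw [Prod.algebraMap_apply]
    simp

theorem mem_fiberSub (z : R × R) : z ∈ fiberSub J ↔ z.1 - z.2 ∈ J := Iff.rfl

/-- `J → R ×_{R/J} R`, `y ↦ (0, y)`. -/
def fiberIncl : J →ₗ[R] fiberSub J where
  toFun y := ⟨(0, (y : R)), by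
    rw [mem_fiberSub]
    show (0 : R) - (y : R) ∈ J
    rw [zero_sub]
    exact J.neg_mem y.2⟩
  map_add' := by
    intro a b
    apply Subtype.ext
    show ((0 : R), ((a + b : J) : R)) = ((0 : R), (a : R)) + ((0 : R), (b : R))
    rw [Prod.mk_add_mk, add_zero]
    rfl
  map_smul' := by
    intro r a
    apply Subtype.ext
    show ((0 : R), ((r • a : J) : R)) = r • ((0 : R), (a : R))
    rw [Prod.smul_mk, smul_zero]
    rfl

/-- the first projection `R ×_{R/J} R → R`. -/
def fiberFst : fiberSub J →ₗ[R] R where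
  toFun z := (z : R × R).1
  map_add' := by intro a b; rfl
  map_smul' := by intro r a; rfl

/-- the retraction `(x, y) ↦ y - x`. -/
def fiberRetr : fiberSub J →ₗ[R] J where
  toFun z := ⟨(z : R × R).2 - (z : R × R).1, by
    have h1 : (z : R × R).1 - (z : R × R).2 ∈ J := z.2
    have h : (z : R × R).2 - (z : R × R).1 = -((z : R × R).1 - (z : R × R).2) := by ring
    rw [h]
    exact J.neg_mem h1⟩
  map_add' := by
    intro a b
    apply Subtype.ext
    show ((a + b : fiberSub J) : R × R).2 - ((a + b : fiberSub J) : R × R).1 =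
      ((a : R × R).2 - (a : R × R).1) + ((b : R × R).2 - (b : R × R).1)
    show ((a : R × R) + (b : R × R)).2 - ((a : R × R) + (b : R × R)).1 = _
    rw [Prod.snd_add, Prod.fst_add]
    ring
  map_smul' := by
    intro r a
    apply Subtype.ext
    show (r • (a : R × R)).2 - (r • (a : R × R)).1 = r • ((a : R × R).2 - (a : R × R).1)
    rw [Prod.smul_snd, Prod.smul_fst, smul_sub]

theorem fiberRetr_comp_incl : fiberRetr J ∘ₗ fiberIncl J = LinearMap.id := by
  apply LinearMap.ext
  intro y
  apply Subtype.ext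
  show (y : R) - 0 = (y : R)
  rw [sub_zero]

theorem fiberIncl_injective : Function.Injective (fiberIncl J) := by
  intro a b hab
  have h := congrArg (fiberRetr J) hab
  rw [← LinearMap.comp_apply, ← LinearMap.comp_apply, fiberRetr_comp_incl] at h
  exact h

theorem fiberFst_surjective : Function.Surjective (fiberFst J) := by
  intro x
  exact ⟨⟨(x, x), by rw [mem_fiberSub]; show x - x ∈ J; rw [sub_self]; exact J.zero_mem⟩, rfl⟩

theorem fiber_exact : Function.Exact (fiberIncl J) (fiberFst J) := by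
  intro z
  constructor
  · intro hz
    have hz1 : (z : R × R).1 = 0 := hz
    have h2 : (z : R × R).1 - (z : R × R).2 ∈ J := z.2
    rw [hz1, zero_sub, neg_mem_iff] at h2
    refine ⟨⟨(z : R × R).2, h2⟩, ?_⟩
    apply Subtype.ext
    show ((0 : R), (z : R × R).2) = (z : R × R)
    rw [← hz1]
  · rintro ⟨y, rfl⟩
    rfl

theorem exact_subtype_mk :
    Function.Exact (Submodule.subtype J) (Ideal.Quotient.mkₐ R J).toLinearMap := by
  intro y
  constructor
  · intro hy
    have h : y ∈ J := Ideal.Quotient.eq_zero_iff_mem.mp hy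
    exact ⟨⟨y, h⟩, rfl⟩
  · rintro ⟨z, rfl⟩
    exact Ideal.Quotient.eq_zero_iff_mem.mpr z.2

variable {p : ℕ} [hp : Fact p.Prime]

theorem isPerf_fiberSub (h : IsPerf p R) (hJ : J.IsRadical) : IsPerf p (fiberSub J) := by
  refine ⟨?_, ?_, ?_⟩
  · have h1 : ((p : fiberSub J) : R × R) = 0 := by
      rw [show ((p : fiberSub J) : R × R) = (fiberSub J).val (p : fiberSub J) from rfl,
        map_natCast]
      ext <;> simp [h.1]
    exact Subtype.ext h1
  · intro a b hab
    change a ^ p = b ^ p at hab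
    have h1 : (a : R × R) ^ p = (b : R × R) ^ p := by
      have h2 := congrArg (fun z : fiberSub J => (z : R × R)) hab
      exact h2
    apply Subtype.ext
    refine Prod.ext (h.pow_inj ?_) (h.pow_inj ?_)
    · have h3 := congrArg Prod.fst h1
      rwa [Prod.pow_fst, Prod.pow_fst] at h3
    · have h3 := congrArg Prod.snd h1
      rwa [Prod.pow_snd, Prod.pow_snd] at h3
  · intro z
    obtain ⟨a, ha⟩ := h.exists_root (z : R × R).1
    obtain ⟨b, hb⟩ := h.exists_root (z : R × R).2
    have hab : (a, b) ∈ fiberSub J := by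
      rw [mem_fiberSub]
      apply hJ
      exact Ideal.mem_radical_iff.mpr ⟨p, by
        show (a - b) ^ p ∈ J
        rw [sub_pow_p h.1, ha, hb]
        exact z.2⟩
    refine ⟨⟨(a, b), hab⟩, ?_⟩
    apply Subtype.ext
    show ((a, b) : R × R) ^ p = (z : R × R)
    rw [Prod.pow_mk, ha, hb]

end fiber

section tensor

variable {p : ℕ} [hp : Fact p.Prime] {R S T : Type*} [CommRing R] [CommRing S] [CommRing T]
  [Algebra R S] [Algebra R T]

/-- the `p`-th root in a perfect ring. -/
noncomputable def rt (h : IsPerf p R) (x : R) : R := Function.surjInv h.2.2 x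

theorem rt_pow (h : IsPerf p R) (x : R) : (rt h x) ^ p = x := Function.surjInv_eq h.2.2 x

theorem rt_unique (h : IsPerf p R) {x y : R} (hy : y ^ p = x) : rt h x = y :=
  h.pow_inj (by rw [rt_pow, hy])

theorem rt_add (h : IsPerf p R) (x y : R) : rt h (x + y) = rt h x + rt h y :=
  rt_unique h (by rw [add_pow_p h.1, rt_pow, rt_pow])

theorem rt_pow_self (h : IsPerf p R) (x : R) : rt h (x ^ p) = x := rt_unique h rfl

theorem rt_smul (hR : IsPerf p R) (hS : IsPerf p S) (r : R) (s : S) :
    rt hS (r • s) = rt hR r • rt hS s :=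
  rt_unique hS (by rw [smul_pow, rt_pow, rt_pow])

/-- the inverse of Frobenius on a tensor product of perfect rings. -/
noncomputable def psi (hR : IsPerf p R) (hS : IsPerf p S) (hT : IsPerf p T) :
    S ⊗[R] T →+ S ⊗[R] T :=
  TensorProduct.liftAddHom
    (AddMonoidHom.mk' (fun s => AddMonoidHom.mk' (fun t => rt hS s ⊗ₜ[R] rt hT t)
        (fun t t' => by rw [rt_add, tmul_add]))
      (fun s s' => by
        apply AddMonoidHom.ext
        intro t
        show rt hS (s + s') ⊗ₜ[R] rt hT t = rt hS s ⊗ₜ[R] rt hT t + rt hS s' ⊗ₜ[R] rt hT t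
        rw [rt_add, add_tmul]))
    (fun r s t => by
      show rt hS (r • s) ⊗ₜ[R] rt hT t = rt hS s ⊗ₜ[R] rt hT (r • t)
      rw [rt_smul hR hS, rt_smul hR hT, smul_tmul])

theorem psi_tmul (hR : IsPerf p R) (hS : IsPerf p S) (hT : IsPerf p T) (s : S) (t : T) :
    psi hR hS hT (s ⊗ₜ[R] t) = rt hS s ⊗ₜ[R] rt hT t := by
  rw [psi, TensorProduct.liftAddHom_tmul]
  rfl

theorem natCast_tensor_eq_zero (hS : IsPerf p S) : (p : S ⊗[R] T) = 0 := by
  rw [← map_natCast (algebraMap S (S ⊗[R] T)) p, hS.1, map_zero]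

theorem psi_pow (hR : IsPerf p R) (hS : IsPerf p S) (hT : IsPerf p T) (z : S ⊗[R] T) :
    psi hR hS hT (z ^ p) = z := by
  induction z using TensorProduct.induction_on with
  | zero => rw [zero_pow hp.out.ne_zero, map_zero]
  | tmul s t => rw [Algebra.TensorProduct.tmul_pow, psi_tmul, rt_pow_self, rt_pow_self]
  | add x y hx hy => rw [add_pow_p (natCast_tensor_eq_zero hS), map_add, hx, hy]

theorem isPerf_tensor (hR : IsPerf p R) (hS : IsPerf p S) (hT : IsPerf p T) :
    IsPerf p (S ⊗[R] T) := by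
  refine ⟨natCast_tensor_eq_zero hS, ?_, ?_⟩
  · intro z w hzw
    change z ^ p = w ^ p at hzw
    rw [← psi_pow hR hS hT z, hzw, psi_pow]
  · intro z
    induction z using TensorProduct.induction_on with
    | zero => exact ⟨0, zero_pow hp.out.ne_zero⟩
    | tmul s t =>
      refine ⟨rt hS s ⊗ₜ[R] rt hT t, ?_⟩
      show (rt hS s ⊗ₜ[R] rt hT t) ^ p = s ⊗ₜ[R] t
      rw [Algebra.TensorProduct.tmul_pow, rt_pow, rt_pow]
    | add x y hx hy =>
      obtain ⟨a, ha⟩ := hx
      obtain ⟨b, hb⟩ := hy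
      change a ^ p = x at ha
      change b ^ p = y at hb
      refine ⟨a + b, ?_⟩
      show (a + b) ^ p = x + y
      rw [add_pow_p (natCast_tensor_eq_zero hS), ha, hb]

end tensor

section zmodAlg

/-- the ring map `ZMod p → R` for a ring with `p = 0`. -/
noncomputable def zmodHom (p : ℕ) (R : Type*) [CommRing R] (h0 : (p : R) = 0) : ZMod p →+* R :=
  (Ideal.Quotient.lift (Ideal.span {(p : ℤ)}) (Int.castRingHom R) (by
    intro a ha
    obtain ⟨c, rfl⟩ := Ideal.mem_span_singleton'.mp ha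
    simp [h0])).comp (Int.quotientSpanNatEquivZMod p).symm.toRingHom

end zmodAlg

section transport

variable {R : Type u} [CommRing R]

theorem torZero_congr_left {X X' Y : Type u} [AddCommGroup X] [Module R X] [AddCommGroup X']
    [Module R X'] [AddCommGroup Y] [Module R Y] (e : X ≃ₗ[R] X') (n : ℕ)
    (h : TorZero R n X Y) : TorZero R n X' Y :=
  Limits.IsZero.of_iso h
    (((Tor (ModuleCat.{u} R) n).mapIso e.symm.toModuleIso).app (ModuleCat.of R Y))

end transport

section main

variable (p : ℕ) [hp : Fact p.Prime]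

theorem H_one (A : Type u) [CommRing A] (I : Ideal A) (C : Type u) [CommRing C] [Algebra A C]
    (hA : IsPerf p A) (hI : I.IsRadical) (hC : IsPerf p C) : TorZero A 1 (A ⧸ I) C := by
  have hD : IsPerf p (fiberSub I) := isPerf_fiberSub I hA hI
  have hE : IsPerf p ((fiberSub I) ⊗[A] C) := isPerf_tensor hA hD hC
  refine (torZero_one_iff_left (Submodule.subtype I) (Ideal.Quotient.mkₐ A I).toLinearMap C
    (Submodule.injective_subtype _) (exact_subtype_mk I) Ideal.Quotient.mk_surjective).mpr ?_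
  rw [injective_iff_map_eq_zero]
  intro t ht
  obtain ⟨ιE, hιEdef⟩ : ∃ f : I ⊗[A] C →ₗ[A] (fiberSub I) ⊗[A] C, f = (fiberIncl I).rTensor C :=
    ⟨_, rfl⟩
  have hιE : Function.Injective ιE := by
    have hcomp : ((fiberRetr I).rTensor C) ∘ₗ ιE = LinearMap.id := by
      rw [hιEdef, ← LinearMap.rTensor_comp, fiberRetr_comp_incl, LinearMap.rTensor_id]
    intro a b hab
    have h := congrArg ((fiberRetr I).rTensor C) hab
    rw [← LinearMap.comp_apply, ← LinearMap.comp_apply, hcomp] at h
    exact h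
  obtain ⟨μ, hμdef⟩ : ∃ f : I ⊗[A] C →ₗ[A] C,
      f = (TensorProduct.lid A C).toLinearMap ∘ₗ (Submodule.subtype I).rTensor C := ⟨_, rfl⟩
  have hμt : μ t = 0 := by
    rw [hμdef, LinearMap.comp_apply, ht, map_zero]
  have hμ : ∀ (y : I) (c : C), μ (y ⊗ₜ[A] c) = (y : A) • c := by
    intro y c
    rw [hμdef, LinearMap.comp_apply, LinearMap.rTensor_tmul]
    simp
  have hιtmul : ∀ (y : I) (c : C), ιE (y ⊗ₜ[A] c) = fiberIncl I y ⊗ₜ[A] c := by
    intro y c
    rw [hιEdef, LinearMap.rTensor_tmul]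
  have key : ∀ u v : I ⊗[A] C,
      ιE u * ιE v = ιE u * ((1 : fiberSub I) ⊗ₜ[A] μ v) := by
    intro u v
    induction v using TensorProduct.induction_on with
    | zero => rw [map_zero, map_zero, tmul_zero]
    | tmul y c =>
      induction u using TensorProduct.induction_on with
      | zero => rw [map_zero, zero_mul, zero_mul]
      | tmul y' c' =>
        rw [hμ, hιtmul, hιtmul, Algebra.TensorProduct.tmul_mul_tmul,
          Algebra.TensorProduct.tmul_mul_tmul, mul_one, mul_smul_comm, ← TensorProduct.smul_tmul]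
        congr 1
        apply Subtype.ext
        show ((0 : A), (y' : A)) * ((0 : A), (y : A)) = (y : A) • ((0 : A), (y' : A))
        rw [Prod.mk_mul_mk, Prod.smul_mk, smul_eq_mul, smul_eq_mul, mul_zero, mul_zero, mul_comm]
      | add a b ha hb => rw [map_add, add_mul, add_mul, ha, hb]
    | add a b ha hb => rw [map_add, map_add, tmul_add, mul_add, mul_add, ha, hb]
  have hsq : (ιE t) ^ 2 = 0 := by
    rw [pow_two, key t t, hμt, tmul_zero, mul_zero]
  have h0 : ιE t = 0 := hE.eq_zero_of_pow hsq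
  exact hιE (h0.trans (map_zero ιE).symm)

theorem H_succ (n : ℕ)
    (G : ∀ (A B C : Type u) [CommRing A] [CommRing B] [CommRing C] [Algebra A B] [Algebra A C],
      IsPerf p A → IsPerf p B → IsPerf p C → TorZero A (n + 1) B C)
    (A : Type u) [CommRing A] (I : Ideal A) (C : Type u) [CommRing C] [Algebra A C]
    (hA : IsPerf p A) (hI : I.IsRadical) (hC : IsPerf p C) : TorZero A (n + 2) (A ⧸ I) C := by
  have hD : IsPerf p (fiberSub I) := isPerf_fiberSub I hA hI
  have h1 : TorZero A (n + 1) (fiberSub I) C := G A (fiberSub I) C hA hD hC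
  have h2 : TorZero A (n + 1) I C :=
    torZero_left (fiberIncl I) (fiberFst I) C (fiberIncl_injective I) (fiber_exact I)
      (fiberFst_surjective I) (n + 1) (torZero_succ_of_flat_left C A (n + 1)) h1
  exact (torZero_shift (Submodule.subtype I) (Ideal.Quotient.mkₐ A I).toLinearMap C
    (Submodule.injective_subtype _) (exact_subtype_mk I) Ideal.Quotient.mk_surjective n).mpr h2

theorem G_of_H (n : ℕ)
    (H : ∀ (A : Type u) [CommRing A] (I : Ideal A) (C : Type u) [CommRing C] [Algebra A C],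
      IsPerf p A → I.IsRadical → IsPerf p C → TorZero A n (A ⧸ I) C)
    (A B C : Type u) [CommRing A] [CommRing B] [CommRing C] [Algebra A B] [Algebra A C]
    (hA : IsPerf p A) (hB : IsPerf p B) (hC : IsPerf p C) : TorZero A n B C := by
  letI algA : Algebra (ZMod p) A := (zmodHom p A hA.1).toAlgebra
  letI algB : Algebra (ZMod p) B := (zmodHom p B hB.1).toAlgebra
  haveI : IsScalarTower (ZMod p) A B := IsScalarTower.of_algebraMap_eq' (Subsingleton.elim _ _)
  obtain ⟨π, hπdef⟩ : ∃ f : A ⊗[ZMod p] B →ₐ[A] B, f =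
      Algebra.TensorProduct.lift (Algebra.ofId A B) (AlgHom.id (ZMod p) B)
        (fun _ _ => Commute.all _ _) := ⟨_, rfl⟩
  have hπ : Function.Surjective π := by
    intro b
    refine ⟨1 ⊗ₜ b, ?_⟩
    rw [hπdef, Algebra.TensorProduct.lift_tmul, map_one, one_mul]
    rfl
  have hP : IsPerf p (A ⊗[ZMod p] B) := isPerf_tensor isPerf_zmod hA hB
  have hC₁ : IsPerf p ((A ⊗[ZMod p] B) ⊗[A] C) := isPerf_tensor hA hP hC
  have hrad : (RingHom.ker π).IsRadical := by
    intro x hx
    obtain ⟨k, hk⟩ := Ideal.mem_radical_iff.mp hx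
    rw [RingHom.mem_ker] at hk ⊢
    rw [map_pow] at hk
    exact hB.eq_zero_of_pow hk
  have h1 := H (A ⊗[ZMod p] B) (RingHom.ker π) ((A ⊗[ZMod p] B) ⊗[A] C) hP hrad hC₁
  obtain ⟨φ, hφ⟩ := Groth.Agent.TorBC2.exists_semilinear A (A ⊗[ZMod p] B)
    ((A ⊗[ZMod p] B) ⧸ RingHom.ker π) C n
  have h2 : TorZero A n ((A ⊗[ZMod p] B) ⧸ RingHom.ker π) C := by
    rw [torZero_iff_subsingleton] at h1 ⊢
    haveI := h1
    exact hφ.1.subsingleton
  exact torZero_congr_left (Ideal.quotientKerAlgEquivOfSurjective hπ).toLinearEquiv n h2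

theorem HG (n : ℕ) :
    (∀ (A : Type u) [CommRing A] (I : Ideal A) (C : Type u) [CommRing C] [Algebra A C],
      IsPerf p A → I.IsRadical → IsPerf p C → TorZero A (n + 1) (A ⧸ I) C) ∧
    (∀ (A B C : Type u) [CommRing A] [CommRing B] [CommRing C] [Algebra A B] [Algebra A C],
      IsPerf p A → IsPerf p B → IsPerf p C → TorZero A (n + 1) B C) := by
  induction n with
  | zero =>
    have h : ∀ (A : Type u) [CommRing A] (I : Ideal A) (C : Type u) [CommRing C] [Algebra A C],
        IsPerf p A → I.IsRadical → IsPerf p C → TorZero A (0 + 1) (A ⧸ I) C :=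
      fun A _ I C _ _ hA hI hC => H_one p A I C hA hI hC
    exact ⟨h, fun A B C _ _ _ _ _ hA hB hC => G_of_H p (0 + 1) h A B C hA hB hC⟩
  | succ n ih =>
    have h : ∀ (A : Type u) [CommRing A] (I : Ideal A) (C : Type u) [CommRing C] [Algebra A C],
        IsPerf p A → I.IsRadical → IsPerf p C → TorZero A (n + 1 + 1) (A ⧸ I) C :=
      fun A _ I C _ _ hA hI hC => H_succ p n ih.2 A I C hA hI hC
    exact ⟨h, fun A B C _ _ _ _ _ hA hB hC => G_of_H p (n + 1 + 1) h A B C hA hB hC⟩

theorem main14252 (A B C : Type u) [CommRing A] [CommRing B] [CommRing C]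
    [CharP A p] [Algebra A B] [Algebra A C]
    (hA : Function.Bijective fun a : A => a ^ p) (hB : Function.Bijective fun b : B => b ^ p)
    (hC : Function.Bijective fun c : C => c ^ p) (i : ℕ) (hi : 0 < i) :
    Limits.IsZero (((Tor (ModuleCat.{u} A) i).obj (ModuleCat.of A B)).obj (ModuleCat.of A C)) := by
  obtain ⟨n, rfl⟩ : ∃ n, i = n + 1 := Nat.exists_eq_succ_of_ne_zero hi.ne'
  have hA0 : (p : A) = 0 := CharP.cast_eq_zero A p
  have hB0 : (p : B) = 0 := by
    rw [← map_natCast (algebraMap A B) p, hA0, map_zero]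
  have hC0 : (p : C) = 0 := by
    rw [← map_natCast (algebraMap A C) p, hA0, map_zero]
  exact (HG p n).2 A B C ⟨hA0, hA⟩ ⟨hB0, hB⟩ ⟨hC0, hC⟩

end main

end Groth.Agent.Lib.PerfTorH1
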