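import Mathlib
import Groth.Prelude.Def_W4c3degenlocivbPfaff

/-!
# Sub-Pfaffians of a general skew matrix of binary linear forms

Helper library for S16355: naturality and homogeneity of the frozen Pfaffian `pf`,
Pfaffians of tridiagonal alternating matrices, and the spanning statement.
-/

set_option autoImplicit false
set_option maxHeartbeats 1000000

open MvPolynomial W4c3degenlocivb

universe u

namespace Groth.Agent.Lib.PfaffH1

noncomputable section

/-! ### naturality and homogeneity of `pf` -/

lemma pf_map {R S : Type*} [CommRing R] [CommRing S] (f : R →+* S) (n : ℕ) :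
    ∀ (T : Matrix (Fin n) (Fin n) R), pf n (T.map f) = f (pf n T) := by
  induction n using Nat.twoStepInduction with
  | zero => intro T; simp [pf]
  | one => intro T; simp [pf]
  | more n ih _ =>
    intro T
    rw [pf, pf, map_sum]
    refine Finset.sum_congr rfl fun j _ => ?_
    rw [map_mul, map_mul, map_pow, map_neg, map_one, ← ih]
    rfl

lemma pf_isHomogeneous {σ A : Type*} [CommRing A] (n : ℕ) :
    ∀ (T : Matrix (Fin n) (Fin n) (MvPolynomial σ A)), (∀ a b, (T a b).IsHomogeneous 1) →
      (pf n T).IsHomogeneous (n / 2) := by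
  induction n using Nat.twoStepInduction with
  | zero => intro T _; simpa [pf] using isHomogeneous_one σ A
  | one => intro T _; simpa [pf] using isHomogeneous_zero σ A 0
  | more n ih _ =>
    intro T hT
    rw [pf]
    have hn : (n + 2) / 2 = 0 + 1 + n / 2 := by omega
    rw [hn]
    refine IsHomogeneous.sum _ _ _ fun j _ => ?_
    refine IsHomogeneous.mul (IsHomogeneous.mul ?_ (hT _ _)) (ih _ fun a b => hT _ _)
    have := ((isHomogeneous_one σ A).neg).pow (j.val + 1)
    simpa using this

/-! ### tridiagonal alternating matrices -/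

/-- the tridiagonal alternating matrix with superdiagonal entries `a 0, a 1, …` -/
def tri {R : Type*} [CommRing R] (m : ℕ) (a : ℕ → R) : Matrix (Fin m) (Fin m) R :=
  Matrix.of fun i j =>
    if j.val = i.val + 1 then a i.val else if i.val = j.val + 1 then - a j.val else 0

lemma pf_tri {R : Type*} [CommRing R] (a : ℕ → R) (m : ℕ) :
    pf (2 * m) (tri (2 * m) a) = ∏ t ∈ Finset.range m, a (2 * t) := by
  induction m with
  | zero =>
    change pf 0 (tri 0 a) = _
    simp [pf]
  | succ m ih =>
    change pf (2 * m + 2) (tri (2 * m + 2) a) = _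
    rw [pf, Finset.sum_eq_single (Fin.last (2 * m))]
    · have hsub : (tri (2 * m + 2) a).submatrix (Fin.castSucc ∘ (Fin.last (2 * m)).succAbove)
          (Fin.castSucc ∘ (Fin.last (2 * m)).succAbove) = tri (2 * m) a := by
        ext i j
        simp [tri, Fin.succAbove_last]
      rw [hsub, ih, Finset.prod_range_succ]
      have hent : tri (2 * m + 2) a (Fin.last (2 * m + 1)) (Fin.castSucc (Fin.last (2 * m)))
          = - a (2 * m) := by
        simp only [tri, Matrix.of_apply, Fin.val_last, Fin.val_castSucc]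
        rw [if_neg (by omega), if_pos trivial]
      rw [hent]
      have hsign : ((-1 : R)) ^ ((Fin.last (2 * m) : Fin (2 * m + 1)).val + 1) = -1 := by
        rw [Fin.val_last]
        exact Odd.neg_one_pow ⟨m, rfl⟩
      rw [hsign]
      ring
    · intro j _ hj
      have hent : tri (2 * m + 2) a (Fin.last (2 * m + 1)) (Fin.castSucc j) = 0 := by
        have hj' : j.val ≠ 2 * m := fun h => hj (Fin.ext (by simpa using h))
        have hjlt : j.val < 2 * m + 1 := j.isLt
        simp only [tri, Matrix.of_apply, Fin.val_last, Fin.val_castSucc]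
        rw [if_neg (by omega), if_neg (by omega)]
      rw [hent]
      ring
    · intro h
      exact absurd (Finset.mem_univ _) h

/-- the superdiagonal after deleting row and column `i` -/
def gap {R : Type*} [Zero R] (i : ℕ) (a : ℕ → R) : ℕ → R :=
  fun t => if t + 1 < i then a t else if t + 1 = i then 0 else a (t + 1)

lemma val_succAbove {m : ℕ} (i : Fin (m + 1)) (s : Fin m) :
    (i.succAbove s).val = if s.val < i.val then s.val else s.val + 1 := by
  by_cases h : s.castSucc < i
  · rw [Fin.succAbove_of_castSucc_lt _ _ h]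
    have h' : s.val < i.val := h
    simp [h']
  · rw [Fin.succAbove_of_le_castSucc _ _ (not_lt.mp h)]
    have h' : ¬ s.val < i.val := fun h' => h h'
    simp [h']

lemma tri_submatrix {R : Type*} [CommRing R] (m : ℕ) (a : ℕ → R) (i : Fin (m + 1)) :
    (tri (m + 1) a).submatrix i.succAbove i.succAbove = tri m (gap i.val a) := by
  refine Matrix.ext fun s s' => ?_
  simp only [tri, Matrix.submatrix_apply, Matrix.of_apply, gap, val_succAbove]
  split_ifs <;> first | rfl | (exfalso; omega) | (simp; done)

/-! ### the example -/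

/-- alternating `y₀, y₁, y₀, …` -/
def aEx (k : Type*) [CommRing k] : ℕ → MvPolynomial (Fin 2) k :=
  fun t => if t % 2 = 0 then X 0 else X 1

lemma prod_gap_even (k : Type*) [CommRing k] (r j : ℕ) (hj : j ≤ r) :
    ∏ t ∈ Finset.range r, gap (2 * j) (aEx k) (2 * t) = X 0 ^ j * X 1 ^ (r - j) := by
  have h1 : ∀ t ∈ Finset.range r, gap (2 * j) (aEx k) (2 * t) =
      if t < j then (X 0 : MvPolynomial (Fin 2) k) else X 1 := by
    intro t _
    unfold gap aEx
    by_cases h : t < j
    · rw [if_pos (by omega), if_pos h, if_pos (by omega)]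
    · rw [if_neg (by omega), if_neg (by omega), if_neg h, if_neg (by omega)]
  have hA : Finset.filter (fun t => t < j) (Finset.range r) = Finset.range j := by
    ext t
    simp only [Finset.mem_filter, Finset.mem_range]
    omega
  have hB : Finset.filter (fun t => ¬ t < j) (Finset.range r) = Finset.Ico j r := by
    ext t
    simp only [Finset.mem_filter, Finset.mem_range, Finset.mem_Ico]
    omega
  rw [Finset.prod_congr rfl h1, Finset.prod_ite, Finset.prod_const, Finset.prod_const, hA, hB,
    Finset.card_range, Nat.card_Ico]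

/-- matrix of linear forms with coefficient array `c` -/
def linMat {A : Type*} [CommRing A] {n : ℕ} (c : Fin n → Fin n → Fin 2 → A) :
    Matrix (Fin n) (Fin n) (MvPolynomial (Fin 2) A) :=
  Matrix.of fun a b => ∑ l : Fin 2, C (c a b l) * X l

/-- the coefficient array of the example -/
def cEx (k : Type*) [CommRing k] (n : ℕ) : Fin n → Fin n → Fin 2 → k := fun a b l =>
  if b.val = a.val + 1 then (if l.val = a.val % 2 then 1 else 0)
  else if a.val = b.val + 1 then (if l.val = b.val % 2 then -1 else 0) else 0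

lemma cEx_antisymm (k : Type*) [CommRing k] (n : ℕ) (a b : Fin n) (l : Fin 2) :
    cEx k n b a l = - cEx k n a b l := by
  unfold cEx
  split_ifs <;> first | (simp; done) | (exfalso; omega)

lemma linMat_cEx (k : Type*) [CommRing k] (n : ℕ) : linMat (cEx k n) = tri n (aEx k) := by
  refine Matrix.ext fun a b => ?_
  simp only [linMat, tri, Matrix.of_apply, Fin.sum_univ_two, cEx, aEx, Fin.val_zero, Fin.val_one]
  by_cases h1 : b.val = a.val + 1
  · simp only [if_pos h1]
    rcases Nat.mod_two_eq_zero_or_one a.val with ha | ha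
    · simp [ha]
    · simp [ha]
  · simp only [if_neg h1]
    by_cases h2 : a.val = b.val + 1
    · simp only [if_pos h2]
      rcases Nat.mod_two_eq_zero_or_one b.val with hb | hb
      · simp [hb]
      · simp [hb]
    · simp [if_neg h2]

/-! ### exponents -/

/-- the exponent `(u, v)` -/
def ex (u v : ℕ) : Fin 2 →₀ ℕ := Finsupp.single 0 u + Finsupp.single 1 v

@[simp] lemma ex_zero (u v : ℕ) : ex u v 0 = u := by simp [ex, Finsupp.single_apply]
@[simp] lemma ex_one (u v : ℕ) : ex u v 1 = v := by simp [ex, Finsupp.single_apply]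

lemma eq_ex (ν : Fin 2 →₀ ℕ) : ν = ex (ν 0) (ν 1) := by
  ext i
  fin_cases i <;> simp

lemma ex_inj {u v u' v' : ℕ} (h : ex u v = ex u' v') : u = u' ∧ v = v' := by
  have h0 := DFunLike.congr_fun h 0
  have h1 := DFunLike.congr_fun h 1
  simp only [ex_zero, ex_one] at h0 h1
  exact ⟨h0, h1⟩

lemma degree_ex (u v : ℕ) : (ex u v).degree = u + v := by
  simp [ex, Finsupp.degree_single]

lemma coeff_X_pow_mul (k : Type*) [CommRing k] (j i u v : ℕ) :
    coeff (ex u v) ((X 0 : MvPolynomial (Fin 2) k) ^ j * X 1 ^ i) =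
      if j = u ∧ i = v then 1 else 0 := by
  rw [X_pow_eq_monomial, X_pow_eq_monomial, monomial_mul, coeff_monomial, one_mul]
  change (if ex j i = ex u v then (1 : k) else 0) = _
  by_cases h : j = u ∧ i = v
  · obtain ⟨rfl, rfl⟩ := h
    rw [if_pos rfl, if_pos ⟨rfl, rfl⟩]
  · rw [if_neg h, if_neg]
    intro h'
    exact h (ex_inj h')

/-! ### sub-Pfaffians and the coefficient matrix -/

/-- the `i`-th principal sub-Pfaffian -/
def subPf {A : Type*} [CommRing A] (r : ℕ) (c : Fin (2 * r + 1) → Fin (2 * r + 1) → Fin 2 → A)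
    (i : Fin (2 * r + 1)) : MvPolynomial (Fin 2) A :=
  pf (2 * r) ((linMat c).submatrix i.succAbove i.succAbove)

lemma subPf_map {A B : Type*} [CommRing A] [CommRing B] (φ : A →+* B) (r : ℕ)
    (c : Fin (2 * r + 1) → Fin (2 * r + 1) → Fin 2 → A) (i : Fin (2 * r + 1)) :
    MvPolynomial.map φ (subPf r c i) = subPf r (fun a b l => φ (c a b l)) i := by
  unfold subPf
  rw [← pf_map]
  congr 1
  refine Matrix.ext fun s s' => ?_
  simp [linMat, map_sum]

lemma subPf_isHomogeneous {A : Type*} [CommRing A] (r : ℕ)
    (c : Fin (2 * r + 1) → Fin (2 * r + 1) → Fin 2 → A) (i : Fin (2 * r + 1)) :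
    (subPf r c i).IsHomogeneous r := by
  have h := pf_isHomogeneous (σ := Fin 2) (A := A) (2 * r)
    ((linMat c).submatrix i.succAbove i.succAbove) (fun a b => by
      simp only [linMat, Matrix.submatrix_apply, Matrix.of_apply]
      exact IsHomogeneous.sum _ _ _ fun l _ => isHomogeneous_C_mul_X _ _)
  rwa [Nat.mul_div_cancel_left r (by norm_num : 0 < 2)] at h

/-- the even index `2j` -/
def evenIdx (r : ℕ) (j : Fin (r + 1)) : Fin (2 * r + 1) := ⟨2 * j.val, by have := j.isLt; omega⟩

/-- coefficient matrix of the even-index sub-Pfaffians -/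
def coefM {A : Type*} [CommRing A] (r : ℕ) (c : Fin (2 * r + 1) → Fin (2 * r + 1) → Fin 2 → A) :
    Matrix (Fin (r + 1)) (Fin (r + 1)) A :=
  Matrix.of fun j t => coeff (ex t.val (r - t.val)) (subPf r c (evenIdx r j))

lemma coefM_map {A B : Type*} [CommRing A] [CommRing B] (φ : A →+* B) (r : ℕ)
    (c : Fin (2 * r + 1) → Fin (2 * r + 1) → Fin 2 → A) :
    (coefM r c).map φ = coefM r (fun a b l => φ (c a b l)) := by
  refine Matrix.ext fun j t => ?_
  simp only [coefM, Matrix.map_apply, Matrix.of_apply]
  rw [← subPf_map, coeff_map]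

lemma subPf_cEx (k : Type*) [CommRing k] (r : ℕ) (j : Fin (r + 1)) :
    subPf r (cEx k (2 * r + 1)) (evenIdx r j) = X 0 ^ j.val * X 1 ^ (r - j.val) := by
  unfold subPf
  rw [linMat_cEx, tri_submatrix, pf_tri]
  have : (evenIdx r j).val = 2 * j.val := rfl
  rw [this]
  exact prod_gap_even k r j.val (by have := j.isLt; omega)

lemma coefM_cEx (k : Type*) [CommRing k] (r : ℕ) : coefM r (cEx k (2 * r + 1)) = 1 := by
  refine Matrix.ext fun j t => ?_
  simp only [coefM, Matrix.of_apply]
  rw [subPf_cEx, coeff_X_pow_mul, Matrix.one_apply]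
  have hj := j.isLt
  have ht := t.isLt
  by_cases h : j = t
  · subst h
    rw [if_pos ⟨rfl, rfl⟩, if_pos rfl]
  · rw [if_neg h, if_neg]
    rintro ⟨h1, _⟩
    exact h (Fin.ext h1)

/-! ### spanning -/

theorem span_of_det_ne_zero (k : Type*) [Field k] (r : ℕ)
    (c : Fin (2 * r + 1) → Fin (2 * r + 1) → Fin 2 → k) (hdet : (coefM r c).det ≠ 0) :
    Submodule.span k (Set.range fun i : Fin (2 * r + 1) => subPf r c i) =
      homogeneousSubmodule (Fin 2) k r := by
  classical
  apply le_antisymm
  · rw [Submodule.span_le]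
    rintro _ ⟨i, rfl⟩
    exact (mem_homogeneousSubmodule _ _).mpr (subPf_isHomogeneous r c i)
  · intro f hf
    have hf' : f.IsHomogeneous r := (mem_homogeneousSubmodule _ _).mp hf
    set M := coefM r c with hM
    let v : Fin (r + 1) → k := fun t => coeff (ex t.val (r - t.val)) f
    let lam : Fin (r + 1) → k := Matrix.vecMul v M⁻¹
    have key : Matrix.vecMul lam M = v := by
      rw [Matrix.vecMul_vecMul, Matrix.nonsing_inv_mul _ (isUnit_iff_ne_zero.mpr hdet),
        Matrix.vecMul_one]
    have hfeq : f = ∑ j, lam j • subPf r c (evenIdx r j) := by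
      ext ν
      rw [coeff_sum]
      simp only [coeff_smul, smul_eq_mul]
      by_cases hν : ν.degree = r
      · have hν' : ν 0 + ν 1 = r := by
          rw [eq_ex ν, degree_ex] at hν
          exact hν
        have hlt : ν 0 < r + 1 := by omega
        have hνeq : ν = ex (ν 0) (r - ν 0) := by
          rw [show r - ν 0 = ν 1 by omega]
          exact eq_ex ν
        have h1 := congrFun key ⟨ν 0, hlt⟩
        simp only [Matrix.vecMul, dotProduct, hM, coefM, Matrix.of_apply] at h1
        rw [hνeq]
        rw [h1]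
      · rw [hf'.coeff_eq_zero hν]
        symm
        refine Finset.sum_eq_zero fun j _ => ?_
        rw [(subPf_isHomogeneous r c (evenIdx r j)).coeff_eq_zero hν, mul_zero]
    rw [hfeq]
    exact Submodule.sum_mem _ fun j _ =>
      Submodule.smul_mem _ _ (Submodule.subset_span ⟨evenIdx r j, rfl⟩)

/-! ### the polynomial `Φ` -/

/-- the determinant of the generic coefficient matrix -/
def Phi (k : Type*) [Field k] (r : ℕ) :
    MvPolynomial (Fin (2 * r + 1) × Fin (2 * r + 1) × Fin 2) k :=
  (coefM r (fun a b l => (X (a, b, l) :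
    MvPolynomial (Fin (2 * r + 1) × Fin (2 * r + 1) × Fin 2) k))).det

lemma eval_Phi (k : Type*) [Field k] (r : ℕ)
    (c : Fin (2 * r + 1) → Fin (2 * r + 1) → Fin 2 → k) :
    MvPolynomial.eval (fun p => c p.1 p.2.1 p.2.2) (Phi k r) = (coefM r c).det := by
  unfold Phi
  rw [RingHom.map_det, RingHom.mapMatrix_apply, coefM_map]
  congr 2
  funext a b l
  simp

theorem main16355 (k : Type u) [Field k] (r : ℕ) :
    ∃ Φ : MvPolynomial (Fin (2 * r + 1) × Fin (2 * r + 1) × Fin 2) k,
      (∃ c : Fin (2 * r + 1) → Fin (2 * r + 1) → Fin 2 → k, (∀ i j l, c j i l = -c i j l) ∧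
        MvPolynomial.eval (fun p => c p.1 p.2.1 p.2.2) Φ ≠ 0) ∧
      ∀ c : Fin (2 * r + 1) → Fin (2 * r + 1) → Fin 2 → k, (∀ i j l, c j i l = -c i j l) →
        MvPolynomial.eval (fun p => c p.1 p.2.1 p.2.2) Φ ≠ 0 →
        Submodule.span k (Set.range fun i : Fin (2 * r + 1) =>
            pf (2 * r) ((Matrix.of fun a b => ∑ l : Fin 2,
              MvPolynomial.C (c a b l) * MvPolynomial.X l).submatrix i.succAbove i.succAbove)) =
          MvPolynomial.homogeneousSubmodule (Fin 2) k r := by
  refine ⟨Phi k r, ⟨cEx k (2 * r + 1), fun i j l => cEx_antisymm k _ i j l, ?_⟩, ?_⟩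
  · rw [eval_Phi, coefM_cEx, Matrix.det_one]
    exact one_ne_zero
  · intro c _ hc
    rw [eval_Phi] at hc
    exact span_of_det_ne_zero k r c hc

end

end Groth.Agent.Lib.PfaffH1
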