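import Mathlib
import Groth.Prelude.Def_HTop

/-!
# Surjective closed immersions are ph coverings; sections of sheaves along monomorphic covers (helper6)
-/

universe v w u

open CategoryTheory CategoryTheory.Limits AlgebraicGeometry Opposite

namespace Groth.Agent.Lib.PhCover

theorem isPhCover_singleton_of_isClosedImmersion {X X' : Scheme.{u}} (g : X ⟶ X')
    [IsClosedImmersion g] [Surjective g] :
    HTop.IsPhCover (PreZeroHypercover.singleton.{v} g) := by
  refine ⟨fun _ => inferInstanceAs (LocallyOfFiniteType g), fun U => ?_⟩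
  have hUaff : IsAffineOpen (g ⁻¹ᵁ U.1) := U.2.preimage g
  let F' : PreZeroHypercover.{0} (U.1 : Scheme.{u}) :=
    { I₀ := PUnit, X := fun _ => (g ⁻¹ᵁ U.1 : Scheme.{u}), f := fun _ => g ∣_ U.1 }
  haveI : Surjective (g ∣_ U.1) := IsZariskiLocalAtTarget.restrict ‹_› U.1
  refine ⟨F', ⟨U.2, inferInstanceAs (Finite PUnit), fun _ => hUaff,
    ⟨(g ⁻¹ᵁ U.1 : Scheme.{u}), g ∣_ U.1, fun _ => 𝟙 _, inferInstance, inferInstance,
      fun _ => inferInstance, fun _ => Category.id_comp _, fun x => ⟨PUnit.unit, x, rfl⟩⟩⟩,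
    fun _ => ⟨PUnit.unit, (g ⁻¹ᵁ U.1).ι, (morphismRestrict_ι g U.1).symm⟩⟩

/-- If the one-arrow sieve of a monomorphism `f` is covering, a sheaf of types takes the same sections on the
source and target of `f`. -/
theorem bijective_map_of_mono_of_mem {C : Type*} [Category C] (J : GrothendieckTopology C)
    (F : Sheaf J (Type w)) {X X' : C} (f : X ⟶ X') [Mono f]
    (hmem : Sieve.ofArrows (fun _ : PUnit.{1} => X) (fun _ => f) ∈ J X') :
    Function.Bijective (F.obj.map f.op) := by
  have hsh : Presieve.IsSheafFor F.obj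
      (Sieve.ofArrows (fun _ : PUnit.{1} => X) (fun _ => f)).arrows :=
    (isSheaf_iff_isSheaf_of_type _ _).mp F.cond _ hmem
  rw [← Presieve.isSheafFor_iff_generate, Presieve.ofArrows_pUnit] at hsh
  have key := Presieve.isSheafFor_singleton.mp hsh
  refine ⟨fun a b hab => ?_, fun x => ?_⟩
  · obtain ⟨y, hy, huniq⟩ := key (F.obj.map f.op a)
      (fun p₁ p₂ hp => by rw [(cancel_mono f).mp hp])
    exact (huniq a rfl).trans (huniq b hab.symm).symm
  · obtain ⟨y, hy, -⟩ := key x (fun p₁ p₂ hp => by rw [(cancel_mono f).mp hp])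
    exact ⟨y, hy⟩

end Groth.Agent.Lib.PhCover
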