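import Mathlib
import Groth.Prelude.Def_W4c5modbuncurvesppStab
import Groth.Agent.Lib.MTree9_helper9

set_option autoImplicit false

namespace Groth.Agent.PhiSt9

open LabGraph PhiStab

universe u

section F

variable {V E : Type u} [Fintype V] [Fintype E] [DecidableEq V] [DecidableEq E]
variable (ends : E → V × V)

/-- indicator: first endpoint in `S` -/
def pI (S : Finset V) (e : E) : ℝ := if (ends e).1 ∈ S then 1 else 0

/-- indicator: second endpoint in `S` -/
def qI (S : Finset V) (e : E) : ℝ := if (ends e).2 ∈ S then 1 else 0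

/-- weight `1` off `N` -/
def wN (N : Finset E) (e : E) : ℝ := if e ∈ N then 0 else 1

variable (φ : V → ℝ) (m : V → ℤ) (N : Finset E)

/-- the slack of the stability inequality -/
noncomputable def FF (S : Finset V) : ℝ :=
  ∑ v ∈ S, ((m v : ℝ) - φ v) +
    ∑ e, ((pI ends S e + qI ends S e) / 2 - wN N e * (pI ends S e * qI ends S e))

theorem FF_eq (S : Finset V) :
    (degOn ends m N S : ℝ) - ∑ v ∈ S, φ v + (cut ends S : ℝ) / 2 = FF ends φ m N S := by
  have hN : ((N ∩ PhiStab.inner ends S).card : ℝ) =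
      ∑ e, (if e ∈ N ∧ (ends e).1 ∈ S ∧ (ends e).2 ∈ S then (1 : ℝ) else 0) := by
    have h1 : N ∩ PhiStab.inner ends S =
        Finset.univ.filter (fun e => e ∈ N ∧ (ends e).1 ∈ S ∧ (ends e).2 ∈ S) := by
      ext e
      simp [PhiStab.inner]
    rw [h1, Finset.card_filter]
    push_cast
    rfl
  have hc : (cut ends S : ℝ) =
      ∑ e, (if ((ends e).1 ∈ S ∧ (ends e).2 ∉ S) ∨ ((ends e).1 ∉ S ∧ (ends e).2 ∈ S)
        then (1 : ℝ) else 0) := by
    rw [cut, Finset.card_filter]
    push_cast
    rfl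
  unfold FF degOn
  push_cast
  rw [hN, hc, Finset.sum_sub_distrib, Finset.sum_div]
  have h2 : ∀ e : E, (if e ∈ N ∧ (ends e).1 ∈ S ∧ (ends e).2 ∈ S then (1 : ℝ) else 0) +
      (if ((ends e).1 ∈ S ∧ (ends e).2 ∉ S) ∨ ((ends e).1 ∉ S ∧ (ends e).2 ∈ S)
        then (1 : ℝ) else 0) / 2 =
      (pI ends S e + qI ends S e) / 2 - wN N e * (pI ends S e * qI ends S e) := by
    intro e
    unfold pI qI wN
    by_cases h1 : e ∈ N <;> by_cases h2 : (ends e).1 ∈ S <;> by_cases h3 : (ends e).2 ∈ S <;>
      simp [h1, h2, h3] <;> norm_num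
  rw [← Finset.sum_congr rfl (fun e _ => h2 e), Finset.sum_add_distrib]
  ring

theorem semistable_iff :
    IsSemistable ends φ m N ↔
      ∀ S : Finset V, S.Nonempty → S ≠ Finset.univ → 0 ≤ FF ends φ m N S := by
  constructor
  · intro h S h1 h2
    have := h S h1 h2
    rw [← FF_eq]
    linarith
  · intro h S h1 h2
    have := h S h1 h2
    rw [← FF_eq] at this
    linarith

theorem stable_iff :
    IsStable ends φ m N ↔
      ∀ S : Finset V, S.Nonempty → S ≠ Finset.univ → 0 < FF ends φ m N S := by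
  constructor
  · intro h S h1 h2
    have := h S h1 h2
    rw [← FF_eq]
    linarith
  · intro h S h1 h2
    have := h S h1 h2
    rw [← FF_eq] at this
    linarith

/-- number of edges outside `N` between `X` and `Y` -/
noncomputable def cross (X Y : Finset V) : ℝ :=
  ∑ e, wN N e * (pI ends X e * qI ends Y e + pI ends Y e * qI ends X e)

omit [Fintype V] [Fintype E] [DecidableEq E] in
theorem pI_union {X Y : Finset V} (h : Disjoint X Y) (e : E) :
    pI ends (X ∪ Y) e = pI ends X e + pI ends Y e := by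
  unfold pI
  by_cases hx : (ends e).1 ∈ X <;> by_cases hy : (ends e).1 ∈ Y
  · exact absurd hy (Finset.disjoint_left.mp h hx)
  · simp [hx, hy]
  · simp [hx, hy]
  · simp [hx, hy]

omit [Fintype V] [Fintype E] [DecidableEq E] in
theorem qI_union {X Y : Finset V} (h : Disjoint X Y) (e : E) :
    qI ends (X ∪ Y) e = qI ends X e + qI ends Y e := by
  unfold qI
  by_cases hx : (ends e).2 ∈ X <;> by_cases hy : (ends e).2 ∈ Y
  · exact absurd hy (Finset.disjoint_left.mp h hx)
  · simp [hx, hy]
  · simp [hx, hy]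
  · simp [hx, hy]

theorem FF_union {X Y : Finset V} (h : Disjoint X Y) :
    FF ends φ m N (X ∪ Y) = FF ends φ m N X + FF ends φ m N Y - cross ends N X Y := by
  unfold FF cross
  rw [Finset.sum_union h]
  simp only [pI_union ends h, qI_union ends h]
  have h1 : ∀ e : E, ((pI ends X e + pI ends Y e + (qI ends X e + qI ends Y e)) / 2 -
      wN N e * ((pI ends X e + pI ends Y e) * (qI ends X e + qI ends Y e))) =
      ((pI ends X e + qI ends X e) / 2 - wN N e * (pI ends X e * qI ends X e)) +
      ((pI ends Y e + qI ends Y e) / 2 - wN N e * (pI ends Y e * qI ends Y e)) -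
      wN N e * (pI ends X e * qI ends Y e + pI ends Y e * qI ends X e) := by
    intro e
    ring
  simp only [h1, Finset.sum_sub_distrib, Finset.sum_add_distrib]
  ring

theorem FF_univ (hdeg : (∑ v : V, φ v) = (totDeg m N : ℝ)) :
    FF ends φ m N Finset.univ = 0 := by
  unfold FF
  have h1 : ∀ e : E, ((pI ends Finset.univ e + qI ends Finset.univ e) / 2 -
      wN N e * (pI ends Finset.univ e * qI ends Finset.univ e)) = if e ∈ N then 1 else 0 := by
    intro e
    unfold pI qI wN
    by_cases h : e ∈ N <;> simp [h]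
  simp only [h1]
  rw [Finset.sum_sub_distrib, hdeg, totDeg, Finset.sum_boole]
  push_cast
  simp

omit [Fintype V] in
theorem cross_nonneg (X Y : Finset V) : 0 ≤ cross ends N X Y := by
  unfold cross
  apply Finset.sum_nonneg
  intro e _
  unfold wN pI qI
  positivity

/-- no edge joins `X` and `Y` -/
def NoEdges (X Y : Finset V) : Prop :=
  ∀ e, ¬ (((ends e).1 ∈ X ∧ (ends e).2 ∈ Y) ∨ ((ends e).1 ∈ Y ∧ (ends e).2 ∈ X))

omit [Fintype V] in
theorem cross_eq_zero {X Y : Finset V} (h : NoEdges ends X Y) : cross ends N X Y = 0 := by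
  unfold cross
  apply Finset.sum_eq_zero
  intro e _
  have := h e
  unfold pI qI
  by_cases h1 : (ends e).1 ∈ X <;> by_cases h2 : (ends e).2 ∈ Y <;>
    by_cases h3 : (ends e).1 ∈ Y <;> by_cases h4 : (ends e).2 ∈ X <;> simp_all

theorem FF_three (hdeg : (∑ v : V, φ v) = (totDeg m N : ℝ)) {S A B : Finset V}
    (hSA : Disjoint S A) (hSB : Disjoint S B) (hAB : Disjoint A B)
    (hcover : S ∪ A ∪ B = Finset.univ) (hno : NoEdges ends A B) :
    FF ends φ m N (S ∪ A) + FF ends φ m N (S ∪ B) = FF ends φ m N S := by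
  have h1 := FF_union ends φ m N hSA
  have h2 := FF_union ends φ m N hSB
  have h3 : Disjoint (S ∪ A) B := Finset.disjoint_union_left.mpr ⟨hSB, hAB⟩
  have h4 := FF_union ends φ m N h3
  rw [hcover, FF_univ ends φ m N hdeg] at h4
  have h5 : cross ends N (S ∪ A) B = cross ends N S B + cross ends N A B := by
    unfold cross
    simp only [pI_union ends hSA, qI_union ends hSA]
    rw [← Finset.sum_add_distrib]
    apply Finset.sum_congr rfl
    intro e _
    ring
  rw [h5, cross_eq_zero ends N hno] at h4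
  linarith

end F

end Groth.Agent.PhiSt9
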