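import Mathlib
import Groth.Agent.Lib.PhiSt1_helper9

set_option autoImplicit false

namespace Groth.Agent.PhiSt9

open LabGraph PhiStab Relation

universe u

section conn

variable {V E : Type u} [Fintype V] [Fintype E] [DecidableEq V] [DecidableEq E]
variable (ends : E → V × V)

/-- adjacency inside `S` -/
def RelOn (S : Finset V) (x y : V) : Prop := x ∈ S ∧ y ∈ S ∧ Adj ends x y

/-- the induced subgraph on `S` is connected -/
def ConnOn (S : Finset V) : Prop :=
  S.Nonempty ∧ ∀ a ∈ S, ∀ b ∈ S, ReflTransGen (RelOn ends S) a b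

omit [Fintype V] [Fintype E] [DecidableEq V] [DecidableEq E] in
theorem adj_symm {x y : V} (h : Adj ends x y) : Adj ends y x := by
  obtain ⟨e, he⟩ := h
  exact ⟨e, he.symm⟩

omit [Fintype V] [Fintype E] [DecidableEq E] in
theorem reach_symm (S : Finset V) {a b : V} (h : ReflTransGen (RelOn ends S) a b) :
    ReflTransGen (RelOn ends S) b a := by
  induction h with
  | refl => exact .refl
  | tail _ hbc ih => exact ReflTransGen.head ⟨hbc.2.1, hbc.1, adj_symm ends hbc.2.2⟩ ih

theorem exit_step {α : Type*} {r : α → α → Prop} (Q : α → Prop) {x y : α}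
    (h : ReflTransGen r x y) (hx : Q x) (hy : ¬ Q y) : ∃ a b, Q a ∧ ¬ Q b ∧ r a b := by
  induction h with
  | refl => exact absurd hx hy
  | tail hab hbc ih =>
    rename_i b c
    by_cases hb : Q b
    · exact ⟨b, c, hb, hy, hbc⟩
    · exact ih hb

omit [Fintype V] [Fintype E] [DecidableEq E] in
theorem connOn_union (hG : Connected ends) (S A B : Finset V) (hS : ConnOn ends S)
    (hcover : ∀ v, v ∈ S ∨ v ∈ A ∨ v ∈ B) (hAB : NoEdges ends A B) :
    ConnOn ends (S ∪ A) := by
  obtain ⟨⟨s₀, hs₀⟩, hconn⟩ := hS
  have hreach : ∀ x ∈ S ∪ A, ReflTransGen (RelOn ends (S ∪ A)) s₀ x := by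
    intro x hx
    by_contra hnr
    obtain ⟨a, b, ⟨haSA, hanr⟩, hb, hab⟩ := exit_step (r := Adj ends)
      (fun y => y ∈ S ∪ A ∧ ¬ ReflTransGen (RelOn ends (S ∪ A)) s₀ y) (hG.2 x s₀) ⟨hx, hnr⟩
      (fun h => h.2 .refl)
    have hmono : ∀ x y, RelOn ends S x y → RelOn ends (S ∪ A) x y :=
      fun x y h => ⟨Finset.mem_union_left _ h.1, Finset.mem_union_left _ h.2.1, h.2.2⟩
    have haS : a ∉ S := fun h => hanr (ReflTransGen.mono hmono s₀ a (hconn s₀ hs₀ a h))
    have haA : a ∈ A := (Finset.mem_union.mp haSA).resolve_left haS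
    by_cases hbSA : b ∈ S ∪ A
    · have hbr : ReflTransGen (RelOn ends (S ∪ A)) s₀ b := by
        by_contra h
        exact hb ⟨hbSA, h⟩
      exact hanr (hbr.tail ⟨hbSA, haSA, adj_symm ends hab⟩)
    · have hbB : b ∈ B := by
        rcases hcover b with h | h | h
        · exact absurd (Finset.mem_union_left _ h) hbSA
        · exact absurd (Finset.mem_union_right _ h) hbSA
        · exact h
      obtain ⟨e, he | he⟩ := hab
      · exact hAB e (Or.inl ⟨by rw [he]; exact haA, by rw [he]; exact hbB⟩)
      · exact hAB e (Or.inr ⟨by rw [he]; exact hbB, by rw [he]; exact haA⟩)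
  refine ⟨⟨s₀, Finset.mem_union_left _ hs₀⟩, fun a ha b hb => ?_⟩
  exact (reach_symm ends _ (hreach a ha)).trans (hreach b hb)

omit [Fintype V] [Fintype E] [DecidableEq E] in
theorem exists_split (S : Finset V) (hS : S.Nonempty) (h : ¬ ConnOn ends S) :
    ∃ S₁ S₂ : Finset V, S₁.Nonempty ∧ S₂.Nonempty ∧ Disjoint S₁ S₂ ∧ S₁ ∪ S₂ = S ∧
      NoEdges ends S₁ S₂ := by
  classical
  have h1 : ∃ a ∈ S, ∃ b ∈ S, ¬ ReflTransGen (RelOn ends S) a b := by
    by_contra h'
    push Not at h'
    exact h ⟨hS, h'⟩
  obtain ⟨a, ha, b, hb, hab⟩ := h1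
  refine ⟨S.filter (fun x => ReflTransGen (RelOn ends S) a x),
    S.filter (fun x => ¬ ReflTransGen (RelOn ends S) a x),
    ⟨a, by simp [ha, ReflTransGen.refl]⟩, ⟨b, by simp [hb, hab]⟩,
    Finset.disjoint_filter_filter_not _ _ _, Finset.filter_union_filter_not_eq _ _, ?_⟩
  intro e he
  rcases he with ⟨h1, h2⟩ | ⟨h1, h2⟩
  · rw [Finset.mem_filter] at h1 h2
    exact h2.2 (h1.2.tail ⟨h1.1, h2.1, e, Or.inl rfl⟩)
  · rw [Finset.mem_filter] at h1 h2
    exact h1.2 (h2.2.tail ⟨h2.1, h1.1, e, Or.inr rfl⟩)

theorem connected_indEnds (S : Finset V) (h : ConnOn ends S) : Connected (indEnds ends S) := by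
  obtain ⟨⟨s₀, hs₀⟩, hconn⟩ := h
  refine ⟨⟨⟨s₀, hs₀⟩⟩, ?_⟩
  have key : ∀ a b, ReflTransGen (RelOn ends S) a b → ∀ (ha : a ∈ S) (hb : b ∈ S),
      ReflTransGen (Adj (indEnds ends S)) ⟨a, ha⟩ ⟨b, hb⟩ := by
    intro a b hab
    induction hab with
    | refl => intro ha hb; exact .refl
    | tail _ hcd ih =>
      rename_i c d
      intro ha hd
      obtain ⟨hc, -, e, he⟩ := hcd
      refine (ih ha hc).tail ?_
      have heinner : e ∈ PhiStab.inner ends S := by
        rw [PhiStab.inner, Finset.mem_filter]
        refine ⟨Finset.mem_univ _, ?_⟩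
        rcases he with he | he <;> rw [he] <;> simp [hc, hd]
      refine ⟨⟨e, heinner⟩, ?_⟩
      rcases he with he | he
      · left
        apply Prod.ext <;> apply Subtype.ext <;> simp [indEnds, he]
      · right
        apply Prod.ext <;> apply Subtype.ext <;> simp [indEnds, he]
  intro v w
  exact key v.1 w.1 (hconn v.1 v.2 w.1 w.2) v.2 w.2

end conn

section main

variable {V E : Type u} [Fintype V] [Fintype E] [DecidableEq V] [DecidableEq E]
variable (ends : E → V × V) (φ : V → ℝ) (m : V → ℤ) (N : Finset E)

theorem all_of_elementary (hG : Connected ends) (hdeg : (∑ v : V, φ v) = (totDeg m N : ℝ))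
    (P : ℝ → Prop) (hP : ∀ x y, P x → P y → P (x + y))
    (hel : ∀ S : Finset V, IsElementary ends S → P (FF ends φ m N S)) :
    ∀ S : Finset V, S.Nonempty → S ≠ Finset.univ → P (FF ends φ m N S) := by
  -- connected case, by induction on the size of the complement
  have hA : ∀ n : ℕ, ∀ S : Finset V, Sᶜ.card = n → S.Nonempty → S ≠ Finset.univ →
      ConnOn ends S → P (FF ends φ m N S) := by
    intro n
    induction n using Nat.strong_induction_on with
    | _ n ih =>
      intro S hn hSne hSuniv hSconn
      by_cases hc : ConnOn ends Sᶜ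
      · exact hel S ⟨connected_indEnds ends S hSconn, connected_indEnds ends Sᶜ hc⟩
      · have hcne : Sᶜ.Nonempty := by
          rw [Finset.nonempty_iff_ne_empty]
          intro h
          exact hSuniv ((Finset.compl_eq_empty_iff S).mp h)
        obtain ⟨A, B, hAne, hBne, hABd, hABu, hno⟩ := exists_split ends Sᶜ hcne hc
        have hAsub : A ⊆ Sᶜ := hABu ▸ Finset.subset_union_left
        have hBsub : B ⊆ Sᶜ := hABu ▸ Finset.subset_union_right
        have hSA : Disjoint S A := Finset.disjoint_left.mpr
          (fun x hx hxA => (Finset.mem_compl.mp (hAsub hxA)) hx)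
        have hSB : Disjoint S B := Finset.disjoint_left.mpr
          (fun x hx hxB => (Finset.mem_compl.mp (hBsub hxB)) hx)
        have hcover : S ∪ A ∪ B = Finset.univ := by
          rw [Finset.union_assoc, hABu, Finset.union_compl]
        have hcov' : ∀ v, v ∈ S ∨ v ∈ A ∨ v ∈ B := by
          intro v
          have := Finset.mem_univ v
          rw [← hcover, Finset.mem_union, Finset.mem_union] at this
          tauto
        have hcov'' : ∀ v, v ∈ S ∨ v ∈ B ∨ v ∈ A := fun v => by
          rcases hcov' v with h | h | h <;> tauto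
        have hno' : NoEdges ends B A := fun e he => hno e (by tauto)
        have h3 := FF_three ends φ m N hdeg hSA hSB hABd hcover hno
        rw [← h3]
        obtain ⟨a, haA⟩ := hAne
        obtain ⟨b, hbB⟩ := hBne
        have haS : a ∉ S := Finset.mem_compl.mp (hAsub haA)
        have hbS : b ∉ S := Finset.mem_compl.mp (hBsub hbB)
        have hbA : b ∉ A := fun h => Finset.disjoint_left.mp hABd h hbB
        have haB : a ∉ B := fun h => Finset.disjoint_left.mp hABd haA h
        apply hP
        · apply ih (S ∪ A)ᶜ.card ?_ (S ∪ A) rfl (hSne.mono Finset.subset_union_left) ?_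
            (connOn_union ends hG S A B hSconn hcov' hno)
          · rw [← hn]
            apply Finset.card_lt_card
            rw [Finset.ssubset_iff_of_subset
              (Finset.compl_subset_compl.mpr Finset.subset_union_left)]
            exact ⟨a, Finset.mem_compl.mpr haS,
              fun h => (Finset.mem_compl.mp h) (Finset.mem_union_right _ haA)⟩
          · intro h
            have := Finset.mem_univ b
            rw [← h, Finset.mem_union] at this
            tauto
        · apply ih (S ∪ B)ᶜ.card ?_ (S ∪ B) rfl (hSne.mono Finset.subset_union_left) ?_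
            (connOn_union ends hG S B A hSconn hcov'' hno')
          · rw [← hn]
            apply Finset.card_lt_card
            rw [Finset.ssubset_iff_of_subset
              (Finset.compl_subset_compl.mpr Finset.subset_union_left)]
            exact ⟨b, Finset.mem_compl.mpr hbS,
              fun h => (Finset.mem_compl.mp h) (Finset.mem_union_right _ hbB)⟩
          · intro h
            have := Finset.mem_univ a
            rw [← h, Finset.mem_union] at this
            tauto
  -- general case, by induction on the size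
  have hB : ∀ n : ℕ, ∀ S : Finset V, S.card = n → S.Nonempty → S ≠ Finset.univ →
      P (FF ends φ m N S) := by
    intro n
    induction n using Nat.strong_induction_on with
    | _ n ih =>
      intro S hn hSne hSuniv
      by_cases hc : ConnOn ends S
      · exact hA _ S rfl hSne hSuniv hc
      · obtain ⟨S₁, S₂, h1ne, h2ne, hd, hu, hno⟩ := exists_split ends S hSne hc
        have h1sub : S₁ ⊆ S := hu ▸ Finset.subset_union_left
        have h2sub : S₂ ⊆ S := hu ▸ Finset.subset_union_right
        have hFF := FF_union ends φ m N hd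
        rw [hu, cross_eq_zero ends N hno, sub_zero] at hFF
        rw [hFF]
        have hcard : S₁.card + S₂.card = S.card := by
          rw [← hu, Finset.card_union_of_disjoint hd]
        have hne_univ : ∀ X : Finset V, X ⊆ S → X ≠ Finset.univ := by
          intro X hX h
          apply hSuniv
          rw [h] at hX
          exact Finset.eq_univ_of_forall (fun v => hX (Finset.mem_univ v))
        apply hP
        · exact ih S₁.card (by have := h2ne.card_pos; omega) S₁ rfl h1ne (hne_univ S₁ h1sub)
        · exact ih S₂.card (by have := h1ne.card_pos; omega) S₂ rfl h2ne (hne_univ S₂ h2sub)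
  intro S
  exact hB _ S rfl

theorem main18374 (hconn : Connected ends) (hdeg : (∑ v : V, φ v) = (totDeg m N : ℝ)) :
    (IsSemistable ends φ m N ↔
      ∀ S : Finset V, IsElementary ends S →
        (∑ v ∈ S, φ v) - (LabGraph.cut ends S : ℝ) / 2 ≤ (degOn ends m N S : ℝ)) ∧
    (IsStable ends φ m N ↔
      ∀ S : Finset V, IsElementary ends S →
        (∑ v ∈ S, φ v) - (LabGraph.cut ends S : ℝ) / 2 < (degOn ends m N S : ℝ)) := by
  have hel_ne : ∀ S : Finset V, IsElementary ends S → S.Nonempty ∧ S ≠ Finset.univ := by
    intro S hS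
    obtain ⟨⟨⟨x, hx⟩⟩, -⟩ := hS.1
    obtain ⟨⟨⟨y, hy⟩⟩, -⟩ := hS.2
    refine ⟨⟨x, hx⟩, fun h => ?_⟩
    rw [h] at hy
    simp at hy
  constructor
  · constructor
    · intro h S hS
      exact h S (hel_ne S hS).1 (hel_ne S hS).2
    · intro h
      rw [semistable_iff]
      apply all_of_elementary ends φ m N hconn hdeg (fun x => 0 ≤ x) (fun x y hx hy => add_nonneg hx hy)
      intro S hS
      have := h S hS
      rw [← FF_eq]
      linarith
  · constructor
    · intro h S hS
      exact h S (hel_ne S hS).1 (hel_ne S hS).2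
    · intro h
      rw [stable_iff]
      apply all_of_elementary ends φ m N hconn hdeg (fun x => 0 < x) (fun x y hx hy => add_pos hx hy)
      intro S hS
      have := h S hS
      rw [← FF_eq]
      linarith

end main

end Groth.Agent.PhiSt9
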