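import Mathlib
import Groth.Agent.Lib.PhiSt2_helper9

set_option autoImplicit false

namespace Groth.Agent.PhiSt9

open LabGraph PhiStab Relation Groth.Agent.MTree9

universe u

section tree

variable {V E : Type u} [Fintype V] [Fintype E] [DecidableEq V] [DecidableEq E]
variable (ends : E → V × V)

theorem side_sum_bd' (R : Type*) [CommRing R] (hF : DualGr.IsForest ends) (γ : E → R) (e : E) :
    ∑ v ∈ side ends e, bd R ends γ v = γ e := by
  simp only [bd_apply]
  rw [Finset.sum_comm]
  simp only [← Finset.mul_sum, sum_inc_finset]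
  rw [Finset.sum_eq_single e]
  · rw [if_pos (fst_mem_side ends e), if_neg (snd_notMem_side ends hF e), sub_zero, mul_one]
  · intro e' _ he'
    by_cases h1 : (ends e').1 ∈ side ends e
    · rw [if_pos h1, if_pos ((side_edge_iff ends e e' he').mp h1), sub_self, mul_zero]
    · rw [if_neg h1, if_neg (fun h2 => h1 ((side_edge_iff ends e e' he').mpr h2)), sub_self,
        mul_zero]
  · intro h
    exact absurd (Finset.mem_univ _) h

variable (T : Finset E) (φ : V → ℝ)

/-- half the number of edge-ends at `v` of edges outside `T` -/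
noncomputable def hN (v : V) : ℝ :=
  ∑ e, (if e ∈ T then (0 : ℝ) else
    ((if (ends e).1 = v then 1 else 0) + (if (ends e).2 = v then 1 else 0)) / 2)

/-- the shifted multidegree -/
noncomputable def gg (m : V → ℤ) (v : V) : ℝ := (m v : ℝ) - φ v + hN ends T v

/-- crossing indicator of a tree edge -/
noncomputable def dd (S : Finset V) (e : T) : ℝ := pI ends S e.1 - qI ends S e.1

theorem FF_tree (m : V → ℤ) (S : Finset V) :
    FF ends φ m Tᶜ S = ∑ v ∈ S, gg ends T φ m v + ∑ e : T, (dd ends T S e) ^ 2 / 2 := by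
  have h1 : ∀ e : E, ((pI ends S e + qI ends S e) / 2 - wN Tᶜ e * (pI ends S e * qI ends S e)) =
      (if e ∈ T then (pI ends S e - qI ends S e) ^ 2 / 2 else 0) +
      ∑ v ∈ S, (if e ∈ T then (0 : ℝ) else
        ((if (ends e).1 = v then 1 else 0) + (if (ends e).2 = v then 1 else 0)) / 2) := by
    intro e
    by_cases he : e ∈ T
    · have hw : wN Tᶜ e = 1 := by
        unfold wN
        rw [if_neg (fun h => (Finset.mem_compl.mp h) he)]
      simp only [he, if_true, Finset.sum_const_zero, add_zero, hw, one_mul]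
      unfold pI qI
      split_ifs <;> norm_num
    · have hw : wN Tᶜ e = 0 := by
        unfold wN
        rw [if_pos (Finset.mem_compl.mpr he)]
      simp only [he, if_false, zero_add, hw, zero_mul, sub_zero]
      rw [← Finset.sum_div, Finset.sum_add_distrib, Finset.sum_ite_eq, Finset.sum_ite_eq]
      rfl
  unfold FF
  simp only [h1]
  rw [Finset.sum_add_distrib, Finset.sum_comm, Finset.sum_ite_mem, Finset.univ_inter,
    ← Finset.sum_coe_sort T (fun e => (pI ends S e - qI ends S e) ^ 2 / 2)]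
  unfold gg hN dd
  simp only [Finset.sum_add_distrib]
  ring

theorem sum_gg_univ (m : V → ℤ) (b : ℤ) (hφ : (∑ v : V, φ v) = (b : ℝ))
    (hm : totDeg m Tᶜ = b) : ∑ v, gg ends T φ m v = 0 := by
  have h1 := FF_univ ends φ m Tᶜ (by rw [hφ, hm])
  rw [FF_tree] at h1
  have h2 : ∑ e : T, (dd ends T Finset.univ e) ^ 2 / 2 = 0 := by
    apply Finset.sum_eq_zero
    intro e _
    unfold dd pI qI
    simp
  rw [h2, add_zero] at h1
  exact h1

theorem sum_gg_eq (m : V → ℤ) (γ : T → ℝ)
    (hγ : bd ℝ (spanEnds ends T) γ = gg ends T φ m) (S : Finset V) :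
    ∑ v ∈ S, gg ends T φ m v = ∑ e : T, γ e * dd ends T S e := by
  rw [← hγ]
  simp only [bd_apply]
  rw [Finset.sum_comm]
  apply Finset.sum_congr rfl
  intro e _
  rw [← Finset.mul_sum, sum_inc_finset]
  rfl

theorem FF_tree' (m : V → ℤ) (γ : T → ℝ)
    (hγ : bd ℝ (spanEnds ends T) γ = gg ends T φ m) (S : Finset V) :
    FF ends φ m Tᶜ S = ∑ e : T, (γ e * dd ends T S e + (dd ends T S e) ^ 2 / 2) := by
  rw [FF_tree, sum_gg_eq ends T φ m γ hγ, Finset.sum_add_distrib]

omit [Fintype V] [Fintype E] in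
theorem dd_cases (S : Finset V) (e : T) :
    dd ends T S e = 0 ∨ dd ends T S e = 1 ∨ dd ends T S e = -1 := by
  unfold dd pI qI
  split_ifs <;> norm_num

theorem exists_crossing (hT : DualGr.IsTree (spanEnds ends T)) (S : Finset V)
    (hS : S.Nonempty) (hS' : S ≠ Finset.univ) : ∃ e : T, dd ends T S e ≠ 0 := by
  obtain ⟨x, hx⟩ := hS
  obtain ⟨y, hy⟩ : ∃ y, y ∉ S := by
    by_contra h
    push Not at h
    exact hS' (Finset.eq_univ_of_forall h)
  obtain ⟨a, b, ha, hb, e, he⟩ := exit_step (fun v => v ∈ S) (hT.1.2 x y) hx hy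
  refine ⟨e, ?_⟩
  unfold dd pI qI
  have he' : ends e.1 = (a, b) ∨ ends e.1 = (b, a) := he
  rcases he' with h | h
  · rw [h]
    simp [ha, hb]
  · rw [h]
    simp [ha, hb]

theorem FF_nonneg_of (m : V → ℤ) (γ : T → ℝ)
    (hγ : bd ℝ (spanEnds ends T) γ = gg ends T φ m) (hb : ∀ e, |γ e| ≤ 1 / 2) (S : Finset V) :
    0 ≤ FF ends φ m Tᶜ S := by
  rw [FF_tree' ends T φ m γ hγ]
  apply Finset.sum_nonneg
  intro e _
  have h1 := abs_le.mp (hb e)
  rcases dd_cases ends T S e with h | h | h <;> rw [h] <;> nlinarith [h1.1, h1.2]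

theorem FF_pos_of (hT : DualGr.IsTree (spanEnds ends T)) (m : V → ℤ) (γ : T → ℝ)
    (hγ : bd ℝ (spanEnds ends T) γ = gg ends T φ m) (hb : ∀ e, |γ e| < 1 / 2) (S : Finset V)
    (hS : S.Nonempty) (hS' : S ≠ Finset.univ) :
    0 < FF ends φ m Tᶜ S := by
  rw [FF_tree' ends T φ m γ hγ]
  obtain ⟨e0, he0⟩ := exists_crossing ends T hT S hS hS'
  apply Finset.sum_pos'
  · intro e _
    have h1 := abs_lt.mp (hb e)
    rcases dd_cases ends T S e with h | h | h <;> rw [h] <;> nlinarith [h1.1, h1.2]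
  · refine ⟨e0, Finset.mem_univ _, ?_⟩
    have h1 := abs_lt.mp (hb e0)
    rcases dd_cases ends T S e0 with h | h | h
    · exact absurd h he0
    · rw [h]; nlinarith [h1.1, h1.2]
    · rw [h]; nlinarith [h1.1, h1.2]

end tree

end Groth.Agent.PhiSt9
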