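import Mathlib
import Groth.Agent.Lib.PhiSt3_helper9

set_option autoImplicit false

namespace Groth.Agent.PhiSt9

open LabGraph PhiStab Relation Groth.Agent.MTree9

universe u

section tree2

variable {V E : Type u} [Fintype V] [Fintype E] [DecidableEq V] [DecidableEq E]
variable (ends : E → V × V) (T : Finset E) (φ : V → ℝ)

theorem dd_side (hF : DualGr.IsForest (spanEnds ends T)) (e e' : T) :
    dd ends T (side (spanEnds ends T) e) e' = if e' = e then 1 else 0 := by
  unfold dd pI qI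
  by_cases h : e' = e
  · subst h
    have h1 : (ends e'.1).1 ∈ side (spanEnds ends T) e' := fst_mem_side (spanEnds ends T) e'
    have h2 : (ends e'.1).2 ∉ side (spanEnds ends T) e' := snd_notMem_side (spanEnds ends T) hF e'
    rw [if_pos h1, if_neg h2, if_pos rfl, sub_zero]
  · rw [if_neg h]
    have h3 : (ends e'.1).1 ∈ side (spanEnds ends T) e ↔ (ends e'.1).2 ∈ side (spanEnds ends T) e :=
      side_edge_iff (spanEnds ends T) e e' h
    by_cases h1 : (ends e'.1).1 ∈ side (spanEnds ends T) e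
    · rw [if_pos h1, if_pos (h3.mp h1), sub_self]
    · rw [if_neg h1, if_neg (fun h2 => h1 (h3.mpr h2)), sub_self]

omit [Fintype E] in
theorem dd_compl (S : Finset V) (e' : T) : dd ends T Sᶜ e' = - dd ends T S e' := by
  unfold dd pI qI
  simp only [Finset.mem_compl]
  split_ifs <;> norm_num

theorem gamma_lt_of_stable (hT : DualGr.IsTree (spanEnds ends T)) (m : V → ℤ) (γ : T → ℝ)
    (hγ : bd ℝ (spanEnds ends T) γ = gg ends T φ m)
    (h : ∀ S : Finset V, S.Nonempty → S ≠ Finset.univ → 0 < FF ends φ m Tᶜ S) (e : T) :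
    |γ e| < 1 / 2 := by
  have h1 : (ends e.1).1 ∈ side (spanEnds ends T) e := fst_mem_side (spanEnds ends T) e
  have h2 : (ends e.1).2 ∉ side (spanEnds ends T) e := snd_notMem_side (spanEnds ends T) hT.2 e
  have hA := h (side (spanEnds ends T) e) ⟨_, h1⟩
    (fun h' => h2 (h' ▸ Finset.mem_univ _))
  have hB := h (side (spanEnds ends T) e)ᶜ ⟨_, Finset.mem_compl.mpr h2⟩
    (fun h' => (Finset.mem_compl.mp (h' ▸ Finset.mem_univ (ends e.1).1)) h1)
  rw [FF_tree' ends T φ m γ hγ] at hA hB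
  rw [Finset.sum_eq_single e] at hA hB
  · rw [dd_side ends T hT.2, if_pos rfl] at hA
    rw [dd_compl, dd_side ends T hT.2, if_pos rfl] at hB
    rw [abs_lt]
    constructor <;> nlinarith
  · intro e' _ he'
    rw [dd_compl, dd_side ends T hT.2, if_neg he']
    norm_num
  · intro h'
    exact absurd (Finset.mem_univ _) h'
  · intro e' _ he'
    rw [dd_side ends T hT.2, if_neg he']
    norm_num
  · intro h'
    exact absurd (Finset.mem_univ _) h'

theorem exists_stable (hT : DualGr.IsTree (spanEnds ends T)) (b : ℤ)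
    (hφ : (∑ v : V, φ v) = (b : ℝ)) (hnd : Nondegenerate ends φ) :
    ∃ m : V → ℤ, totDeg m Tᶜ = b ∧ IsStable ends φ m Tᶜ := by
  obtain ⟨v0⟩ := hT.1.1
  obtain ⟨s, hs⟩ : ∃ s : T → ℝ, s = fun e =>
      ∑ v ∈ side (spanEnds ends T) e, (φ v - hN ends T v) := ⟨_, rfl⟩
  obtain ⟨b', hb'⟩ : ∃ b' : ℤ, b' = b - (Tᶜ.card : ℤ) := ⟨_, rfl⟩
  obtain ⟨κ, hκ⟩ : ∃ κ : T → ℤ, κ = fun e =>
      round (s e) - b' * (if v0 ∈ side (spanEnds ends T) e then 1 else 0) := ⟨_, rfl⟩
  obtain ⟨m, hm⟩ : ∃ m : V → ℤ, m = bd ℤ (spanEnds ends T) κ + b' • Pi.single v0 1 := ⟨_, rfl⟩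
  have hsum : ∑ v, m v = b' := by
    rw [hm]
    simp only [Pi.add_apply, Pi.smul_apply, Finset.sum_add_distrib, sum_bd, zero_add, smul_eq_mul]
    rw [← Finset.mul_sum, Finset.sum_pi_single']
    simp
  have htot : totDeg m Tᶜ = b := by
    unfold totDeg
    rw [hsum, hb']
    ring
  have hside : ∀ e : T, ∑ v ∈ side (spanEnds ends T) e, m v = round (s e) := by
    intro e
    rw [hm]
    simp only [Pi.add_apply, Pi.smul_apply, smul_eq_mul, Finset.sum_add_distrib]
    rw [side_sum_bd' (spanEnds ends T) ℤ hT.2 κ e, ← Finset.mul_sum, Finset.sum_pi_single', hκ]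
    ring
  have hg0 := sum_gg_univ ends T φ m b hφ htot
  obtain ⟨γ, hγ⟩ := exists_bd_eq (spanEnds ends T) hT.1 (gg ends T φ m) hg0
  have hγe : ∀ e : T, γ e = (round (s e) : ℝ) - s e := by
    intro e
    have h1 : ((round (s e) : ℤ) : ℝ) = ∑ v ∈ side (spanEnds ends T) e, (m v : ℝ) := by
      rw [← hside e]
      exact Int.cast_sum _ _
    have h2 : s e = ∑ v ∈ side (spanEnds ends T) e, (φ v - hN ends T v) := by rw [hs]
    rw [← side_sum_bd' (spanEnds ends T) ℝ hT.2 γ e, hγ, h1, h2, ← Finset.sum_sub_distrib]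
    apply Finset.sum_congr rfl
    intro v _
    unfold gg
    ring
  have hbound : ∀ e : T, |γ e| ≤ 1 / 2 := by
    intro e
    rw [hγe e, abs_sub_comm]
    exact abs_sub_round (s e)
  have hss : IsSemistable ends φ m Tᶜ := by
    rw [semistable_iff]
    intro S _ _
    exact FF_nonneg_of ends T φ m γ hγ hbound S
  exact ⟨m, htot, hnd m Tᶜ (by rw [hφ, htot]) hss⟩

theorem unique_stable (hT : DualGr.IsTree (spanEnds ends T)) (b : ℤ)
    (hφ : (∑ v : V, φ v) = (b : ℝ)) (m m' : V → ℤ) (h1 : totDeg m Tᶜ = b)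
    (h1' : totDeg m' Tᶜ = b) (h2 : IsStable ends φ m Tᶜ) (h2' : IsStable ends φ m' Tᶜ) :
    m = m' := by
  rw [stable_iff] at h2 h2'
  obtain ⟨γ, hγ⟩ := exists_bd_eq (spanEnds ends T) hT.1 (gg ends T φ m)
    (sum_gg_univ ends T φ m b hφ h1)
  obtain ⟨γ', hγ'⟩ := exists_bd_eq (spanEnds ends T) hT.1 (gg ends T φ m')
    (sum_gg_univ ends T φ m' b hφ h1')
  have hb := gamma_lt_of_stable ends T φ hT m γ hγ h2
  have hb' := gamma_lt_of_stable ends T φ hT m' γ' hγ' h2'
  have hdiff : ∀ e : T, ∑ v ∈ side (spanEnds ends T) e, ((m v - m' v : ℤ) : ℝ) = 0 := by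
    intro e
    have h3 : ∑ v ∈ side (spanEnds ends T) e, ((m v - m' v : ℤ) : ℝ) = γ e - γ' e := by
      rw [← side_sum_bd' (spanEnds ends T) ℝ hT.2 γ e,
        ← side_sum_bd' (spanEnds ends T) ℝ hT.2 γ' e, hγ, hγ', ← Finset.sum_sub_distrib]
      apply Finset.sum_congr rfl
      intro v _
      unfold gg
      push_cast
      ring
    have h4 : |γ e - γ' e| < 1 := by
      have := abs_lt.mp (hb e)
      have := abs_lt.mp (hb' e)
      rw [abs_lt]
      constructor <;> linarith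
    rw [← h3, ← Int.cast_sum, ← Int.cast_abs] at h4
    have h5 : |∑ v ∈ side (spanEnds ends T) e, (m v - m' v)| < 1 := by exact_mod_cast h4
    rw [← Int.cast_sum, Int.abs_lt_one_iff.mp h5, Int.cast_zero]
  have htotal : ∑ v, ((m v - m' v : ℤ) : ℝ) = 0 := by
    unfold totDeg at h1 h1'
    have : ∑ v, (m v - m' v) = 0 := by
      rw [Finset.sum_sub_distrib]
      linarith
    rw [← Int.cast_sum, this, Int.cast_zero]
  have huniq := main18382 (spanEnds ends T) hT (fun _ => 0) 0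
  have hz := huniq.unique (y₁ := fun v => ((m v - m' v : ℤ) : ℝ)) (y₂ := fun _ => 0)
    ⟨hdiff, htotal⟩ ⟨fun e => by simp, by simp⟩
  funext v
  have h7 : ((m v - m' v : ℤ) : ℝ) = 0 := congrFun hz v
  have h6 : m v - m' v = 0 := by exact_mod_cast h7
  linarith

theorem main18375 (hT : DualGr.IsTree (spanEnds ends T)) (b : ℤ)
    (hφ : (∑ v : V, φ v) = (b : ℝ)) (hnd : Nondegenerate ends φ) :
    ∃! m : V → ℤ, totDeg m Tᶜ = b ∧ IsStable ends φ m Tᶜ := by
  obtain ⟨m, h1, h2⟩ := exists_stable ends T φ hT b hφ hnd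
  refine ⟨m, ⟨h1, h2⟩, ?_⟩
  rintro m' ⟨h1', h2'⟩
  exact unique_stable ends T φ hT b hφ m' m h1' h1 h2' h2

end tree2

end Groth.Agent.PhiSt9
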