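import Mathlib
import Groth.Agent.Lib.PhiSt4_helper9

set_option autoImplicit false

namespace Groth.Agent.PhiSt9

open LabGraph PhiStab Relation Groth.Agent.MTree9

universe u

section poly

variable {V E : Type u} [Fintype V] [Fintype E] [DecidableEq V] [DecidableEq E]
variable (ends : E → V × V)

theorem exists_tree_of_surjOn (v0 : V) (S₀ : Finset E) (h : SurjOn ends v0 S₀) :
    ∃ T : Finset E, T ⊆ S₀ ∧ IsSpanningTree ends T := by
  classical
  obtain ⟨T, hTmem, hTmin⟩ := Finset.exists_min_image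
    (S₀.powerset.filter (fun S => SurjOn ends v0 S)) Finset.card
    ⟨S₀, by
      rw [Finset.mem_filter, Finset.mem_powerset]
      exact ⟨Finset.Subset.refl _, h⟩⟩
  rw [Finset.mem_filter, Finset.mem_powerset] at hTmem
  obtain ⟨hTsub, hTsurj⟩ := hTmem
  refine ⟨T, hTsub, ?_, ?_⟩
  · apply connected_of_rbd_surjective _ v0
    intro y
    obtain ⟨γ, hγT, hγ⟩ := hTsurj y
    exact ⟨fun e => γ e.1, by rw [rbd_subgraph ends v0 (ZMod 2) T γ hγT, hγ]⟩
  · rw [forest_iff, injective_iff_map_eq_zero]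
    intro γT hγT
    by_contra hne
    obtain ⟨e', he'⟩ : ∃ e', γT e' ≠ 0 := by
      by_contra h
      push Not at h
      exact hne (funext h)
    let γ₀ : E → ZMod 2 := fun x => if h : x ∈ T then γT ⟨x, h⟩ else 0
    have h0 : ∀ x, x ∉ T → γ₀ x = 0 := fun x hx => by simp only [γ₀, dif_neg hx]
    have hres : (fun x : T => γ₀ x.1) = γT := by
      funext x
      simp only [γ₀, dif_pos x.2]
    have hb : rbd (ZMod 2) ends v0 γ₀ = 0 := by
      rw [← rbd_subgraph ends v0 (ZMod 2) T γ₀ h0, hres, rbd, LinearMap.comp_apply, hγT,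
        map_zero]
    have he'' : γ₀ e'.1 ≠ 0 := by
      have h9 : γ₀ e'.1 = γT e' := congrFun hres e'
      rw [h9]
      exact he'
    have hnew := surjOn_erase ends v0 T hTsurj γ₀ h0 hb e'.1 he''
    have hcard := hTmin (T.erase e'.1) (by
      rw [Finset.mem_filter, Finset.mem_powerset]
      exact ⟨(Finset.erase_subset _ _).trans hTsub, hnew⟩)
    have := Finset.card_erase_lt_of_mem e'.2
    omega

theorem surjOn_of_connected (v0 : V) (S₀ : Finset E) (h : Connected (spanEnds ends S₀)) :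
    SurjOn ends v0 S₀ := by
  intro y
  obtain ⟨γ', hγ'⟩ := rbd_surjective (ZMod 2) (spanEnds ends S₀) h v0 y
  let γ : E → ZMod 2 := fun x => if hx : x ∈ S₀ then γ' ⟨x, hx⟩ else 0
  have h0 : ∀ x, x ∉ S₀ → γ x = 0 := fun x hx => by simp only [γ, dif_neg hx]
  have hres : (fun x : S₀ => γ x.1) = γ' := by
    funext x
    simp only [γ, dif_pos x.2]
  refine ⟨γ, h0, ?_⟩
  rw [← rbd_subgraph ends v0 (ZMod 2) S₀ γ h0, hres]
  exact hγ'

omit [Fintype V] [Fintype E] [DecidableEq V] [DecidableEq E] in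
theorem reach_symm' {E' : Type u} (ends' : E' → V × V) {a b : V}
    (h : ReflTransGen (Adj ends') a b) : ReflTransGen (Adj ends') b a := by
  induction h with
  | refl => exact .refl
  | tail _ hbc ih => exact ReflTransGen.head (adj_symm ends' hbc) ih

theorem elementary_ne (S : Finset V) (hS : IsElementary ends S) :
    S.Nonempty ∧ S ≠ Finset.univ := by
  obtain ⟨⟨⟨x, hx⟩⟩, -⟩ := hS.1
  obtain ⟨⟨⟨y, hy⟩⟩, -⟩ := hS.2
  refine ⟨⟨x, hx⟩, fun h => ?_⟩
  rw [h] at hy
  simp at hy

/-- a spanning tree with at most one edge crossing an elementary set -/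
theorem exists_tree_one_crossing (hconn : Connected ends) (S : Finset V)
    (hS : IsElementary ends S) :
    ∃ (T : Finset E) (e₀ : E), IsSpanningTree ends T ∧
      ∀ e ∈ T, e ≠ e₀ → (((ends e).1 ∈ S ∧ (ends e).2 ∈ S) ∨
        ((ends e).1 ∈ Sᶜ ∧ (ends e).2 ∈ Sᶜ)) := by
  classical
  obtain ⟨⟨x, hx⟩, hSuniv⟩ := elementary_ne ends S hS
  obtain ⟨y, hy⟩ : ∃ y, y ∉ S := by
    by_contra h
    push Not at h
    exact hSuniv (Finset.eq_univ_of_forall h)
  obtain ⟨a, c, ha, hc, e₀, he₀⟩ := exit_step (fun v => v ∈ S) (hconn.2 x y) hx hy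
  obtain ⟨E', hE'⟩ : ∃ E' : Finset E,
      E' = PhiStab.inner ends S ∪ PhiStab.inner ends Sᶜ ∪ {e₀} := ⟨_, rfl⟩
  have hin1 : PhiStab.inner ends S ⊆ E' := by
    rw [hE']
    exact Finset.subset_union_left.trans Finset.subset_union_left
  have hin2 : PhiStab.inner ends Sᶜ ⊆ E' := by
    rw [hE']
    exact Finset.subset_union_right.trans Finset.subset_union_left
  have he₀E' : e₀ ∈ E' := by
    rw [hE']
    exact Finset.mem_union_right _ (Finset.mem_singleton_self _)
  -- lifting paths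
  have hlift : ∀ (S' : Finset V), PhiStab.inner ends S' ⊆ E' →
      Connected (indEnds ends S') → ∀ v ∈ S', ∀ w ∈ S',
      ReflTransGen (Adj (spanEnds ends E')) v w := by
    intro S' hsub hc' v hv w hw
    have h1 := hc'.2 ⟨v, hv⟩ ⟨w, hw⟩
    have h2 := ReflTransGen.lift (p := Adj (spanEnds ends E'))
      (Subtype.val : {v : V // v ∈ S'} → V) ?_ _ _ h1
    · exact h2
    · intro p q hpq
      obtain ⟨e, he⟩ := hpq
      refine ⟨⟨e.1, hsub e.2⟩, ?_⟩
      rcases he with he | he
      · left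
        have h3 := congrArg (fun z => (z.1.1, z.2.1)) he
        exact h3
      · right
        have h3 := congrArg (fun z => (z.1.1, z.2.1)) he
        exact h3
  have hcS : c ∈ Sᶜ := Finset.mem_compl.mpr hc
  have hac : ReflTransGen (Adj (spanEnds ends E')) a c :=
    ReflTransGen.single ⟨⟨e₀, he₀E'⟩, he₀⟩
  have hconnE' : Connected (spanEnds ends E') := by
    refine ⟨hconn.1, fun v w => ?_⟩
    by_cases hv : v ∈ S <;> by_cases hw : w ∈ S
    · exact hlift S hin1 hS.1 v hv w hw
    · exact ((hlift S hin1 hS.1 v hv a ha).trans hac).trans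
        (hlift Sᶜ hin2 hS.2 c hcS w (Finset.mem_compl.mpr hw))
    · exact ((hlift Sᶜ hin2 hS.2 v (Finset.mem_compl.mpr hv) c hcS).trans
        (reach_symm' _ hac)).trans (hlift S hin1 hS.1 a ha w hw)
    · exact hlift Sᶜ hin2 hS.2 v (Finset.mem_compl.mpr hv) w (Finset.mem_compl.mpr hw)
  obtain ⟨T, hTsub, hT⟩ := exists_tree_of_surjOn ends x E' (surjOn_of_connected ends x E' hconnE')
  refine ⟨T, e₀, hT, ?_⟩
  intro e he hne
  have := hTsub he
  rw [hE', Finset.mem_union, Finset.mem_union, Finset.mem_singleton] at this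
  rcases this with (h | h) | h
  · left
    exact (Finset.mem_filter.mp h).2
  · right
    exact (Finset.mem_filter.mp h).2
  · exact absurd h hne

end poly

end Groth.Agent.PhiSt9
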