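import Mathlib
import Groth.Agent.Lib.PhiSt5_helper9

set_option autoImplicit false

namespace Groth.Agent.PhiSt9

open LabGraph PhiStab Relation Groth.Agent.MTree9

universe u

section poly2

variable {V E : Type u} [Fintype V] [Fintype E] [DecidableEq V] [DecidableEq E]
variable (ends : E → V × V)

theorem cross_le_one (T : Finset E) (e₀ : E) (S : Finset V)
    (h : ∀ e ∈ T, e ≠ e₀ → (((ends e).1 ∈ S ∧ (ends e).2 ∈ S) ∨
      ((ends e).1 ∈ Sᶜ ∧ (ends e).2 ∈ Sᶜ))) :
    cross ends Tᶜ S Sᶜ ≤ 1 := by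
  unfold cross
  calc ∑ e, wN Tᶜ e * (pI ends S e * qI ends Sᶜ e + pI ends Sᶜ e * qI ends S e)
      ≤ ∑ e, (if e = e₀ then (1 : ℝ) else 0) := by
        apply Finset.sum_le_sum
        intro e _
        by_cases he : e = e₀
        · rw [if_pos he]
          unfold wN pI qI
          simp only [Finset.mem_compl]
          split_ifs <;> norm_num
        · rw [if_neg he]
          by_cases heT : e ∈ T
          · rcases h e heT he with ⟨h1, h2⟩ | ⟨h1, h2⟩
            · unfold pI qI
              simp [h1, h2]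
            · rw [Finset.mem_compl] at h1 h2
              unfold pI qI
              simp [h1, h2]
          · unfold wN
            rw [if_pos (Finset.mem_compl.mpr heT), zero_mul]
    _ = 1 := by
        rw [Finset.sum_ite_eq']
        simp

theorem main18376 (hconn : Connected ends) (b : ℤ) (φ₁ φ₂ : V → ℝ)
    (h₁ : (∑ v : V, φ₁ v) = (b : ℝ)) (h₂ : (∑ v : V, φ₂ v) = (b : ℝ))
    (hnd : Nondegenerate ends φ₁) :
    (∀ (m : V → ℤ) (N : Finset E), totDeg m N = b → IsStable ends φ₁ m N →
      IsSemistable ends φ₂ m N) ↔ InClosedPolytope ends φ₁ φ₂ := by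
  constructor
  · intro H S hS d hd
    obtain ⟨hSne, hSuniv⟩ := elementary_ne ends S hS
    obtain ⟨T, e₀, hT, hTe⟩ := exists_tree_one_crossing ends hconn S hS
    obtain ⟨m, ⟨hm1, hm2⟩, -⟩ := main18375 ends T φ₁ hT b h₁ hnd
    have hss := H m Tᶜ hm1 hm2
    have h3 : 0 ≤ FF ends φ₂ m Tᶜ S := (semistable_iff ends φ₂ m Tᶜ).mp hss S hSne hSuniv
    have hcne : Sᶜ.Nonempty := by
      rw [Finset.nonempty_iff_ne_empty]
      intro h
      exact hSuniv ((Finset.compl_eq_empty_iff S).mp h)
    have hcuniv : Sᶜ ≠ Finset.univ := by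
      intro h
      obtain ⟨x, hx⟩ := hSne
      have := Finset.mem_univ x
      rw [← h, Finset.mem_compl] at this
      exact this hx
    have h4 : 0 < FF ends φ₁ m Tᶜ Sᶜ := (stable_iff ends φ₁ m Tᶜ).mp hm2 Sᶜ hcne hcuniv
    have h5 := FF_union ends φ₁ m Tᶜ (disjoint_compl_right : Disjoint S Sᶜ)
    rw [Finset.union_compl, FF_univ ends φ₁ m Tᶜ (by rw [h₁, hm1])] at h5
    have h6 := cross_le_one ends T e₀ S hTe
    have h7 : FF ends φ₁ m Tᶜ S < 1 := by linarith
    rw [← FF_eq] at h3 h7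
    unfold ell at hd ⊢
    have h8 : degOn ends m Tᶜ S ≤ d := by
      have h10 : ((degOn ends m Tᶜ S : ℤ) : ℝ) < ((d + 1 : ℤ) : ℝ) := by
        push_cast
        linarith
      have h11 : degOn ends m Tᶜ S < d + 1 := by exact_mod_cast h10
      omega
    have h9 : ((degOn ends m Tᶜ S : ℤ) : ℝ) ≤ (d : ℝ) := by exact_mod_cast h8
    linarith
  · intro H m N hmN hst
    have hdeg : (∑ v, φ₂ v) = (totDeg m N : ℝ) := by rw [h₂, hmN]
    rw [(main18374 ends φ₂ m N hconn hdeg).1]
    intro S hS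
    obtain ⟨hSne, hSuniv⟩ := elementary_ne ends S hS
    have h1 := hst S hSne hSuniv
    have h2 := H S hS (degOn ends m N S) (by unfold ell; linarith)
    unfold ell at h2
    linarith

end poly2

end Groth.Agent.PhiSt9
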