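import Mathlib
set_option autoImplicit false
set_option linter.style.haveILetI false
set_option linter.unusedSectionVars false

universe u

namespace Groth.Agent.Lib.Pi1ComplH4

open CategoryTheory CategoryTheory.PreGaloisCategory ProfiniteGrp ProfiniteGrp.ProfiniteCompletion

variable (G : Type u) [Group G]

abbrev Ghat : Type u := ↥(completion (GrpCat.of G))

abbrev FG : Action FintypeCat.{u} G ⥤ FintypeCat.{u} := Action.forget FintypeCat.{u} G

noncomputable def kerX (X : Action FintypeCat.{u} G) :
    FiniteIndexNormalSubgroup (GrpCat.of G) where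
  toSubgroup := (MulAction.toPermHom G X.V).ker
  isNormal' := inferInstance
  isFiniteIndex' := inferInstance

def pr (K : FiniteIndexNormalSubgroup (GrpCat.of G)) :
    Ghat G →* (GrpCat.of G) ⧸ K.toSubgroup where
  toFun x := x.1 K
  map_one' := rfl
  map_mul' _ _ := rfl

noncomputable def actHom (X : Action FintypeCat.{u} G) : Ghat G →* Equiv.Perm X.V :=
  (QuotientGroup.kerLift (MulAction.toPermHom G X.V)).comp (pr G (kerX G X))

noncomputable instance instAct (X : Action FintypeCat.{u} G) :
    MulAction (Ghat G) ((FG G).obj X) :=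
  MulAction.compHom X.V (actHom G X)

lemma act_eq (X : Action FintypeCat.{u} G) (x : Ghat G) (g : G)
    (h : pr G (kerX G X) x = QuotientGroup.mk g) (y : X.V) :
    actHom G X x y = (X.ρ g).hom y := by
  show (QuotientGroup.kerLift (MulAction.toPermHom G X.V)) (pr G (kerX G X) x) y = _
  rw [h]
  rfl

lemma pr_mono {K K' : FiniteIndexNormalSubgroup (GrpCat.of G)} (hle : K ≤ K') (x : Ghat G)
    (g : G) (h : pr G K x = QuotientGroup.mk g) : pr G K' x = QuotientGroup.mk g := by
  have h1 := x.2 (homOfLE hle)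
  show x.1 K' = _
  rw [← h1]
  have h' : x.1 K = QuotientGroup.mk g := h
  rw [h']
  rfl

lemma exists_rep2 (X Y : Action FintypeCat.{u} G) (x : Ghat G) :
    ∃ g : G, pr G (kerX G X) x = QuotientGroup.mk g ∧ pr G (kerX G Y) x = QuotientGroup.mk g := by
  obtain ⟨g, hg⟩ := QuotientGroup.mk_surjective (pr G (kerX G X ⊓ kerX G Y) x)
  exact ⟨g, pr_mono G inf_le_left x g hg.symm, pr_mono G inf_le_right x g hg.symm⟩

instance instNat : IsNaturalSMul (FG G) (Ghat G) where
  naturality x {X Y} f y := by
    obtain ⟨g, hX, hY⟩ := exists_rep2 G X Y x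
    show f.hom (actHom G X x y) = actHom G Y x (f.hom y)
    rw [act_eq G X x g hX y, act_eq G Y x g hY (f.hom y)]
    exact ConcreteCategory.congr_hom (f.comm g) y

instance instFund : IsFundamentalGroup (FG G) (Ghat G) where
  transitive_of_isGalois X _ := ⟨fun y y' => by
    haveI := FintypeCat.Action.pretransitive_of_isConnected G X
    obtain ⟨g, hg⟩ := MulAction.exists_smul_eq G (α := X.V) y y'
    refine ⟨etaFn (GrpCat.of G) g, ?_⟩
    show actHom G X (etaFn (GrpCat.of G) g) y = y'
    rw [act_eq G X (etaFn (GrpCat.of G) g) g rfl y]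
    exact hg⟩
  continuous_smul X := ⟨by
    rw [continuous_prod_of_discrete_right]
    intro y
    have hpr : Continuous (fun x : Ghat G => (x.1 (kerX G X))) :=
      (continuous_apply (kerX G X)).comp continuous_subtype_val
    haveI : DiscreteTopology ↥((diagram (GrpCat.of G)).obj (kerX G X)) := ⟨rfl⟩
    let h : ↥((diagram (GrpCat.of G)).obj (kerX G X)) → (FG G).obj X :=
      fun q => (QuotientGroup.kerLift (MulAction.toPermHom G X.V)) q y
    have hh : Continuous h := continuous_of_discreteTopology
    exact hh.comp hpr⟩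
  non_trivial' x h := by
    apply ProfiniteGrp.limit_ext
    intro K
    letI : MulAction G ↥(FintypeCat.of ((GrpCat.of G) ⧸ K.toSubgroup)) :=
      inferInstanceAs (MulAction G ((GrpCat.of G) ⧸ K.toSubgroup))
    let XK : Action FintypeCat.{u} G :=
      Action.FintypeCat.ofMulAction G (FintypeCat.of ((GrpCat.of G) ⧸ K.toSubgroup))
    obtain ⟨g, hg⟩ := QuotientGroup.mk_surjective (pr G (kerX G XK ⊓ K) x)
    have h1 := pr_mono G inf_le_left x g hg.symm
    have h2 := pr_mono G inf_le_right x g hg.symm
    have h3 : actHom G XK x (QuotientGroup.mk 1 : (GrpCat.of G) ⧸ K.toSubgroup) =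
        (QuotientGroup.mk 1 : (GrpCat.of G) ⧸ K.toSubgroup) :=
      h XK (QuotientGroup.mk 1 : (GrpCat.of G) ⧸ K.toSubgroup)
    rw [act_eq G XK x g h1] at h3
    have h4 : (QuotientGroup.mk g : (GrpCat.of G) ⧸ K.toSubgroup) = QuotientGroup.mk 1 := by
      have h5 : ((XK.ρ g).hom (QuotientGroup.mk 1 : (GrpCat.of G) ⧸ K.toSubgroup)) =
          (QuotientGroup.mk (g * 1) : (GrpCat.of G) ⧸ K.toSubgroup) := rfl
      rw [mul_one] at h5
      rw [← h5]
      exact h3
    exact h2.trans h4

theorem main18425 :
    ∃ φ : (completion (GrpCat.of G)) ≃ₜ* Aut (Action.forget FintypeCat.{u} G),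
      ∀ (g : G) (X : Action FintypeCat.{u} G) (x : X.V),
        (φ (etaFn (GrpCat.of G) g)).hom.app X x = (X.ρ g).hom x := by
  let e : Ghat G ≃* Aut (FG G) := toAutMulEquiv (FG G) (Ghat G)
  refine ⟨{ toMulEquiv := e
            continuous_toFun := toAut_continuous (FG G) (Ghat G)
            continuous_invFun := Continuous.continuous_symm_of_equiv_compact_to_t2
              (f := e.toEquiv) (toAut_continuous (FG G) (Ghat G)) }, ?_⟩
  intro g X x
  show (toAut (FG G) (Ghat G) (etaFn (GrpCat.of G) g)).hom.app X x = _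
  rw [toAut_hom_app_apply]
  exact act_eq G X (etaFn (GrpCat.of G) g) g rfl x

end Groth.Agent.Lib.Pi1ComplH4
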