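import Mathlib
set_option autoImplicit false
set_option linter.style.haveILetI false
set_option linter.unusedSectionVars false

universe u

namespace Groth.Agent.Lib.Pi1DenseH4

open CategoryTheory CategoryTheory.PreGaloisCategory
open scoped FintypeCatDiscrete

section Basic

variable (G : Type u) [Group G] [TopologicalSpace G] [IsTopologicalGroup G]

abbrev FF : ContAction FintypeCat.{u} G ⥤ FintypeCat.{u} :=
  forget₂ (ContAction FintypeCat.{u} G) FintypeCat.{u}

noncomputable def iotaIso (g : G) : FF G ≅ FF G :=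
  NatIso.ofComponents (fun X => Action.ρAut X.obj g) (fun {X Y} f => (f.hom.comm g).symm)

noncomputable def iota : G →* Aut (FF G) :=
  MonoidHom.mk' (fun g => iotaIso G g) (fun g h =>
    Iso.ext (NatTrans.ext (funext fun X => congrArg Iso.hom ((Action.ρAut X.obj).map_mul g h))))

lemma iota_app (g : G) (X : ContAction FintypeCat.{u} G) (x : X.obj.V) :
    (iota G g).hom.app X x = (X.obj.ρ g).hom x := rfl

variable {G}

lemma isOpen_smul_eq (X : ContAction FintypeCat.{u} G) (x y : X.obj.V) :
    IsOpen {g : G | (X.obj.ρ g).hom x = y} := by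
  have hc : Continuous (fun p : G × X.obj.V => (X.obj.ρ p.1).hom p.2) := X.2.1
  have h1 : Continuous (fun g : G => (X.obj.ρ g).hom x) := hc.comp (Continuous.prodMk_left x)
  exact (isOpen_discrete {y}).preimage h1

lemma nat_apply (σ : Aut (FF G)) {X Y : ContAction FintypeCat.{u} G} (f : X ⟶ Y) (x : X.obj.V) :
    σ.hom.app Y (f.hom.hom x) = f.hom.hom (σ.hom.app X x) :=
  ConcreteCategory.congr_hom (σ.hom.naturality f) x

variable (G)

lemma continuous_iota : Continuous (iota G) := by
  refine continuous_induced_rng.2 ?_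
  apply continuous_pi
  intro X
  rw [continuous_discrete_rng]
  intro τ
  convert isOpen_iInter_of_finite (fun x : X.obj.V => isOpen_smul_eq X x (τ.hom x)) using 1
  ext g
  simp only [Set.mem_preimage, Set.mem_singleton_iff, Set.mem_iInter, Set.mem_setOf_eq]
  constructor
  · intro h x
    rw [← h]
    rfl
  · intro h
    apply Iso.ext
    apply FintypeCat.hom_ext
    intro x
    exact h x

noncomputable def mkAct (V : Type u) [Finite V] [MulAction G V] : Action FintypeCat.{u} G :=
  letI : MulAction G ↥(FintypeCat.of V) := inferInstanceAs (MulAction G V)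
  Action.FintypeCat.ofMulAction G (FintypeCat.of V)

lemma cont_key (H : FintypeCat.{u}) [MulAction G H]
    (hc : ∀ v w : H, IsOpen {g : G | g • v = w}) :
    Continuous (fun p : G × H => p.1 • p.2) := by
  rw [continuous_prod_of_discrete_right]
  intro v
  rw [continuous_discrete_rng]
  intro w
  exact hc v w

noncomputable def mkObj (V : Type u) [Finite V] [MulAction G V]
    (hc : ∀ v w : V, IsOpen {g : G | g • v = w}) : ContAction FintypeCat.{u} G :=
  ⟨mkAct G V, by
    rw [Action.isContinuous_def]
    exact @cont_key G _ _ _ (FintypeCat.of V) (inferInstanceAs (MulAction G V)) hc⟩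

end Basic

section Dense

variable {G : Type u} [Group G] [TopologicalSpace G] [IsTopologicalGroup G]
variable {n : ℕ} (e : Fin n → ContAction FintypeCat.{u} G)

abbrev WT : Type u := ∀ i : Fin n, (e i).obj.V → (e i).obj.V

lemma W_open (φ ψ : WT e) : IsOpen {g : G | g • φ = ψ} := by
  have : {g : G | g • φ = ψ} = ⋂ i : Fin n, ⋂ z : (e i).obj.V,
      {g : G | ((e i).obj.ρ g).hom (φ i z) = ψ i z} := by
    ext g
    simp only [Set.mem_setOf_eq, Set.mem_iInter]
    constructor
    · intro h i z
      rw [← h]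
      rfl
    · intro h
      funext i z
      exact h i z
  rw [this]
  exact isOpen_iInter_of_finite fun i => isOpen_iInter_of_finite fun z =>
    isOpen_smul_eq (e i) _ _

noncomputable def Wo : ContAction FintypeCat.{u} G := mkObj G (WT e) (W_open e)

noncomputable def ev (i : Fin n) (z : (e i).obj.V) : Wo e ⟶ e i :=
  ObjectProperty.homMk
    { hom := FintypeCat.homMk (fun φ : WT e => φ i z)
      comm := fun g => FintypeCat.hom_ext _ _ (fun φ => rfl) }

lemma sigma_W (σ : Aut (FF G)) (φ : WT e) (i : Fin n) (z : (e i).obj.V) :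
    (show WT e from σ.hom.app (Wo e) φ) i z = σ.hom.app (e i) (φ i z) :=
  (nat_apply σ (ev e i z) φ).symm

lemma O_open (a : WT e) (o o' : ↥(MulAction.orbit G a)) : IsOpen {g : G | g • o = o'} := by
  have : {g : G | g • o = o'} = {g : G | g • o.1 = o'.1} := by
    ext g
    simp only [Set.mem_setOf_eq]
    rw [Subtype.ext_iff]
    rfl
  rw [this]
  exact W_open e _ _

noncomputable def Oo (a : WT e) : ContAction FintypeCat.{u} G :=
  mkObj G ↥(MulAction.orbit G a) (O_open e a)

noncomputable def incl (a : WT e) : Oo e a ⟶ Wo e :=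
  ObjectProperty.homMk
    { hom := FintypeCat.homMk (fun o : ↥(MulAction.orbit G a) => o.1)
      comm := fun g => FintypeCat.hom_ext _ _ (fun o => rfl) }

lemma sigma_mem (σ : Aut (FF G)) (a : WT e) :
    ∃ g : G, g • a = (show WT e from σ.hom.app (Wo e) a) := by
  let o : ↥(MulAction.orbit G a) := ⟨a, MulAction.mem_orbit_self a⟩
  have h1 := nat_apply σ (incl e a) o
  have h2 : (show WT e from σ.hom.app (Wo e) a) ∈ MulAction.orbit G a := by
    have h3 : (show WT e from σ.hom.app (Wo e) a) =
        (show ↥(MulAction.orbit G a) from σ.hom.app (Oo e a) o).1 := h1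
    rw [h3]
    exact Subtype.property _
  exact h2

lemma exists_approx_fin (σ : Aut (FF G)) :
    ∃ g : G, ∀ (i : Fin n) (x : (e i).obj.V),
      ((e i).obj.ρ g).hom x = σ.hom.app (e i) x := by
  obtain ⟨g, hg⟩ := sigma_mem e σ (fun i z => z)
  refine ⟨g, fun i x => ?_⟩
  have e2 := congrFun (congrFun hg i) x
  exact e2.trans (sigma_W e σ _ i x)

end Dense

section Main

variable (G : Type u) [Group G] [TopologicalSpace G] [IsTopologicalGroup G]

lemma exists_approx (σ : Aut (FF G)) (I : Finset (ContAction FintypeCat.{u} G)) :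
    ∃ g : G, ∀ X ∈ I, ∀ x : X.obj.V, (X.obj.ρ g).hom x = σ.hom.app X x := by
  obtain ⟨g, hg⟩ := exists_approx_fin (fun i : Fin I.toList.length => I.toList.get i) σ
  refine ⟨g, fun X hX x => ?_⟩
  obtain ⟨i, hi⟩ := List.mem_iff_get.1 (Finset.mem_toList.2 hX)
  subst hi
  exact hg i x

lemma dense_iota : DenseRange (iota G) := by
  rw [DenseRange, dense_iff_inter_open]
  rintro U hU ⟨σ, hσ⟩
  obtain ⟨V, hV, rfl⟩ := isOpen_induced_iff.1 hU
  obtain ⟨I, u, hu, hsub⟩ := isOpen_pi_iff.1 hV (autEmbedding (FF G) σ) hσ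
  obtain ⟨g, hg⟩ := exists_approx G σ I
  refine ⟨iota G g, ?_, ⟨g, rfl⟩⟩
  apply hsub
  refine Set.mem_pi.2 (fun X hX => ?_)
  have h1 : autEmbedding (FF G) (iota G g) X = autEmbedding (FF G) σ X := by
    apply Iso.ext
    apply FintypeCat.hom_ext
    intro x
    exact hg X (Finset.mem_coe.1 hX) x
  rw [h1]
  exact (hu X (Finset.mem_coe.1 hX)).2

end Main

section Quot

variable {G : Type u} [Group G] [TopologicalSpace G] [IsTopologicalGroup G]
variable {Q : Type u} [Group Q] [Finite Q] [TopologicalSpace Q] [DiscreteTopology Q]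
  (π : G →* Q) (hπ : Continuous π)

noncomputable def XQ : ContAction FintypeCat.{u} G :=
  letI : MulAction G Q := MulAction.compHom Q π
  mkObj G Q (fun v w => (isOpen_discrete {q : Q | q * v = w}).preimage hπ)

noncomputable def rmul (r : Q) : XQ π hπ ⟶ XQ π hπ :=
  ObjectProperty.homMk
    { hom := FintypeCat.homMk (fun q : Q => q * r)
      comm := fun g => FintypeCat.hom_ext _ _ (fun q => mul_assoc (π g) q r) }

noncomputable def app1 (σ : Aut (FF G)) (q : Q) : Q := σ.hom.app (XQ π hπ) q

lemma app1_mul (σ : Aut (FF G)) (q : Q) : app1 π hπ σ q = app1 π hπ σ 1 * q := by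
  have h := nat_apply σ (rmul π hπ q) (1 : Q)
  have h2 : app1 π hπ σ ((1 : Q) * q) = app1 π hπ σ 1 * q := h
  rwa [one_mul] at h2

lemma app1_comp (σ τ : Aut (FF G)) (q : Q) :
    app1 π hπ (σ * τ) q = app1 π hπ σ (app1 π hπ τ q) := rfl

noncomputable def psi : Aut (FF G) →* Q :=
  MonoidHom.mk' (fun σ => app1 π hπ σ 1) (fun σ τ => by
    show app1 π hπ (σ * τ) 1 = _
    rw [app1_comp]
    exact app1_mul π hπ σ _)

lemma psi_comp : (psi π hπ).comp (iota G) = π := by
  refine MonoidHom.ext fun g => ?_
  show π g * 1 = π g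
  exact mul_one _

lemma continuous_psi : Continuous (psi π hπ) := by
  have h1 : Continuous (fun σ : Aut (FF G) => autEmbedding (FF G) σ (XQ π hπ)) :=
    (continuous_apply (XQ π hπ)).comp continuous_induced_dom
  have h2 : Continuous (fun τ : Aut ((FF G).obj (XQ π hπ)) => (show Q from τ.hom (1 : Q))) :=
    continuous_of_discreteTopology
  exact h2.comp h1

end Quot

theorem main18428 (G : Type u) [Group G] [TopologicalSpace G] [IsTopologicalGroup G] :
    ∃ ι : G →* Aut (forget₂ (ContAction FintypeCat.{u} G) FintypeCat.{u}),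
      Continuous ι ∧
      (∀ (g : G) (X : ContAction FintypeCat.{u} G) (x : X.obj.V),
        (ι g).hom.app X x = (X.obj.ρ g).hom x) ∧
      DenseRange ι ∧
      ∀ (Q : Type u) [Group Q] [Finite Q] [TopologicalSpace Q] [DiscreteTopology Q] (π : G →* Q),
        Continuous π → ∃! ψ : Aut (forget₂ (ContAction FintypeCat.{u} G) FintypeCat.{u}) →* Q,
          Continuous ψ ∧ ψ.comp ι = π := by
  refine ⟨iota G, continuous_iota G, fun g X x => rfl, dense_iota G, ?_⟩
  intro Q _ _ _ _ π hπ
  refine ⟨psi π hπ, ⟨continuous_psi π hπ, psi_comp π hπ⟩, ?_⟩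
  rintro ψ' ⟨hc', he'⟩
  have h : (ψ' : Aut (FF G) → Q) = psi π hπ :=
    DenseRange.equalizer (dense_iota G) hc' (continuous_psi π hπ) (by
      funext g
      exact (DFunLike.congr_fun he' g).trans (DFunLike.congr_fun (psi_comp π hπ) g).symm)
  exact DFunLike.coe_injective h

end Groth.Agent.Lib.Pi1DenseH4
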