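import Mathlib
set_option autoImplicit false
set_option linter.style.haveILetI false
set_option linter.unusedSectionVars false

universe u v w

namespace Groth.Agent.Lib.Pi1FibH4

open CategoryTheory CategoryTheory.Limits CategoryTheory.PreGaloisCategory

section Fin

/-- elements of a terminal object of `FintypeCat` are equal -/
lemma term_subsingleton {T : FintypeCat.{w}} (hT : IsTerminal T) (p q : T) : p = q := by
  have := hT.hom_ext (FintypeCat.homMk (fun _ : PUnit.{w+1} => p) : FintypeCat.of PUnit.{w+1} ⟶ T)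
    (FintypeCat.homMk (fun _ => q))
  exact ConcreteCategory.congr_hom this PUnit.unit

lemma term_nonempty {T : FintypeCat.{w}} (hT : IsTerminal T) : Nonempty T :=
  ⟨(hT.from (FintypeCat.of PUnit.{w+1})) PUnit.unit⟩

/-- disjointness of coproduct injections in `FintypeCat` -/
lemma disj {ι : Type*} {K : Discrete ι ⥤ FintypeCat.{w}} {t : Cocone K} (ht : IsColimit t)
    {i j : ι} (x : K.obj ⟨i⟩) (y : K.obj ⟨j⟩) (h : t.ι.app ⟨i⟩ x = t.ι.app ⟨j⟩ y) : i = j := by
  classical
  by_contra hne
  let T : FintypeCat.{w} := FintypeCat.of (ULift.{w} Bool)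
  let s : Cocone K :=
    { pt := T
      ι := Discrete.natTrans (fun k =>
        (FintypeCat.homMk (fun _ => ULift.up (decide (k.as = i))) : K.obj k ⟶ T)) }
  have h1 := ConcreteCategory.congr_hom (ht.fac s ⟨i⟩) x
  have h2 := ConcreteCategory.congr_hom (ht.fac s ⟨j⟩) y
  have h1' : (ht.desc s) (t.ι.app ⟨i⟩ x) = ULift.up (decide (i = i)) := h1
  have h2' : (ht.desc s) (t.ι.app ⟨j⟩ y) = ULift.up (decide (j = i)) := h2
  have h3 : (ULift.up (decide (i = i)) : ULift.{w} Bool) = ULift.up (decide (j = i)) := by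
    rw [← h1', ← h2', h]
  have h4 : decide (j = i) = decide (i = i) := (congrArg ULift.down h3).symm
  have : j = i := by simpa using h4
  exact hne this.symm

end Fin

variable {C : Type u} [Category.{v} C]

lemma map_map_apply (G : C ⥤ FintypeCat.{w}) {X Y Z : C} (f : X ⟶ Y) (g : Y ⟶ Z) (x : G.obj X) :
    G.map g (G.map f x) = G.map (f ≫ g) x := by
  rw [G.map_comp]; rfl

section Prod

variable [HasBinaryProducts C] (G : C ⥤ FintypeCat.{w})
  [PreservesLimitsOfShape (Discrete WalkingPair) G]

lemma prod_ext_elt {A X : C} (p q : G.obj (A ⨯ X)) (h1 : G.map prod.fst p = G.map prod.fst q)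
    (h2 : G.map prod.snd p = G.map prod.snd q) : p = q := by
  let W : FintypeCat.{w} := FintypeCat.of PUnit.{w+1}
  let mp : W ⟶ G.obj (A ⨯ X) := FintypeCat.homMk (fun _ => p)
  let mq : W ⟶ G.obj (A ⨯ X) := FintypeCat.homMk (fun _ => q)
  have hh : mp ≫ prodComparison G A X = mq ≫ prodComparison G A X := by
    apply Limits.prod.hom_ext
    · rw [Category.assoc, Category.assoc, prodComparison_fst]
      ext u; exact h1
    · rw [Category.assoc, Category.assoc, prodComparison_snd]
      ext u; exact h2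
  have h3 : mp = mq := (cancel_mono (prodComparison G A X)).mp hh
  exact ConcreteCategory.congr_hom h3 PUnit.unit

lemma prod_exists_elt {A X : C} (a : G.obj A) (x : G.obj X) :
    ∃ p : G.obj (A ⨯ X), G.map prod.fst p = a ∧ G.map prod.snd p = x := by
  let W : FintypeCat.{w} := FintypeCat.of PUnit.{w+1}
  let ma : W ⟶ G.obj A := FintypeCat.homMk (fun _ => a)
  let mx : W ⟶ G.obj X := FintypeCat.homMk (fun _ => x)
  let m : W ⟶ G.obj (A ⨯ X) := prod.lift ma mx ≫ (PreservesLimitPair.iso G A X).inv
  refine ⟨m PUnit.unit, ?_, ?_⟩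
  · have : m ≫ G.map prod.fst = ma := by
      simp only [m, Category.assoc, PreservesLimitPair.iso_inv_fst, prod.lift_fst]
    exact ConcreteCategory.congr_hom this PUnit.unit
  · have : m ≫ G.map prod.snd = mx := by
      simp only [m, Category.assoc, PreservesLimitPair.iso_inv_snd, prod.lift_snd]
    exact ConcreteCategory.congr_hom this PUnit.unit

end Prod

section Main

variable [GaloisCategory C] (F : C ⥤ FintypeCat.{w}) [FiberFunctor F]

lemma cofiltered : IsCofilteredOrEmpty (PointedGaloisObject F) where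
  cone_objs := fun ⟨A, a, _⟩ ⟨B, b, _⟩ ↦ by
    obtain ⟨Z, f, z, hgal, hfz⟩ := exists_hom_from_galois_of_fiber F (A ⨯ B)
      <| (fiberBinaryProductEquiv F A B).symm (a, b)
    refine ⟨⟨Z, z, hgal⟩, ⟨f ≫ prod.fst, ?_⟩, ⟨f ≫ prod.snd, ?_⟩, trivial⟩
    · simp only [F.map_comp, hfz, FintypeCat.comp_apply, fiberBinaryProductEquiv_symm_fst_apply]
    · simp only [F.map_comp, hfz, FintypeCat.comp_apply, fiberBinaryProductEquiv_symm_snd_apply]
  cone_maps := fun ⟨A, a, _⟩ ⟨B, b, _⟩ ⟨f, hf⟩ ⟨g, hg⟩ ↦ by
    obtain ⟨Z, h, z, hgal, hhz⟩ := exists_hom_from_galois_of_fiber F A a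
    refine ⟨⟨Z, z, hgal⟩, ⟨h, hhz⟩, PointedGaloisObject.hom_ext ?_⟩
    apply evaluation_injective_of_isConnected F Z B z
    simp [hhz, hf, hg]

lemma exists_rep (X : C) (x : F.obj X) :
    ∃ (P : PointedGaloisObject F) (f : P.obj ⟶ X), F.map f P.pt = x := by
  obtain ⟨A, f, a, hA, hfa⟩ := exists_hom_from_galois_of_fiber F X x
  exact ⟨⟨A, a, hA⟩, f, hfa⟩

noncomputable def repP (X : C) (x : F.obj X) : PointedGaloisObject F := (exists_rep F X x).choose

noncomputable def repf (X : C) (x : F.obj X) : (repP F X x).obj ⟶ X :=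
  (exists_rep F X x).choose_spec.choose

lemma rep_spec (X : C) (x : F.obj X) : F.map (repf F X x) (repP F X x).pt = x :=
  (exists_rep F X x).choose_spec.choose_spec

variable (F' : C ⥤ FintypeCat.{w})

/-- compatible system of points -/
lemma exists_system (hne : ∀ A : PointedGaloisObject F, Nonempty (F'.obj A.obj)) :
    ∃ s : ∀ A : PointedGaloisObject F, F'.obj A.obj,
      ∀ (A B : PointedGaloisObject F) (f : A ⟶ B), F'.map f.val (s A) = s B := by
  haveI := cofiltered F
  let D : PointedGaloisObject F ⥤ Type w := PointedGaloisObject.incl F ⋙ F' ⋙ FintypeCat.incl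
  haveI : ∀ j, Finite (D.obj j) := fun j => inferInstanceAs (Finite (F'.obj j.obj))
  haveI : ∀ j, Nonempty (D.obj j) := fun j => hne j
  obtain ⟨s, hs⟩ := nonempty_sections_of_finite_cofiltered_system D
  exact ⟨s, fun A B f => hs f⟩

variable (s : ∀ A : PointedGaloisObject F, F'.obj A.obj)
  (hs : ∀ (A B : PointedGaloisObject F) (f : A ⟶ B), F'.map f.val (s A) = s B)

include hs in
lemma indep {X : C} (P Q : PointedGaloisObject F) (f : P.obj ⟶ X) (g : Q.obj ⟶ X)
    (h : F.map f P.pt = F.map g Q.pt) : F'.map f (s P) = F'.map g (s Q) := by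
  haveI := cofiltered F
  obtain ⟨R, u, v, _⟩ := IsCofilteredOrEmpty.cone_objs P Q
  have huv : u.val ≫ f = v.val ≫ g := by
    apply evaluation_injective_of_isConnected F R.obj X R.pt
    show F.map (u.val ≫ f) R.pt = F.map (v.val ≫ g) R.pt
    rw [← map_map_apply, ← map_map_apply, u.comp, v.comp, h]
  rw [← hs _ _ u, ← hs _ _ v, map_map_apply, map_map_apply, huv]

noncomputable def etaFun (X : C) (x : F.obj X) : F'.obj X :=
  F'.map (repf F X x) (s (repP F X x))

include hs in
lemma eta_eq (X : C) (P : PointedGaloisObject F) (f : P.obj ⟶ X) :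
    etaFun F F' s X (F.map f P.pt) = F'.map f (s P) :=
  indep F F' s hs _ _ _ _ (rep_spec F X (F.map f P.pt))

noncomputable def eta : F ⟶ F' where
  app X := FintypeCat.homMk (etaFun F F' s X)
  naturality X Y u := by
    ext x
    show etaFun F F' s Y (F.map u x) = F'.map u (etaFun F F' s X x)
    have hx := rep_spec F X x
    have e1 : etaFun F F' s Y (F.map u x) = F'.map (repf F X x ≫ u) (s (repP F X x)) := by
      have := eta_eq F F' s hs Y (repP F X x) (repf F X x ≫ u)
      rwa [← map_map_apply F, hx] at this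
    rw [e1, ← map_map_apply]
    rfl

section Bij

variable [PreservesFiniteLimits F'] [PreservesColimitsOfShape (Discrete WalkingPair) F']

lemma preservesInitial : PreservesColimitsOfShape (Discrete.{0} PEmpty) F' := by
  have hempty : IsEmpty (F'.obj (⊥_ C)) := by
    constructor
    intro z
    have ht := isColimitOfPreserves F' (coprodIsCoprod (⊥_ C) (⊥_ C))
    have hio : (coprod.inl : (⊥_ C) ⟶ (⊥_ C) ⨿ (⊥_ C)) = coprod.inr :=
      initialIsInitial.hom_ext _ _
    have h : (F'.mapCocone (BinaryCofan.mk (coprod.inl : (⊥_ C) ⟶ (⊥_ C) ⨿ (⊥_ C))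
          coprod.inr)).ι.app ⟨WalkingPair.left⟩ z =
        (F'.mapCocone (BinaryCofan.mk (coprod.inl : (⊥_ C) ⟶ (⊥_ C) ⨿ (⊥_ C))
          coprod.inr)).ι.app ⟨WalkingPair.right⟩ z := by
      show F'.map (coprod.inl : (⊥_ C) ⟶ (⊥_ C) ⨿ (⊥_ C)) z = F'.map coprod.inr z
      rw [hio]
    have h5 := disj ht (i := WalkingPair.left) (j := WalkingPair.right) z z h
    exact WalkingPair.noConfusion h5
  have hinit : IsInitial (F'.obj (⊥_ C)) :=
    ((Concrete.initial_iff_empty_of_preserves_of_reflects _).mpr hempty).some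
  haveI : PreservesColimit (Functor.empty.{0} C) F' :=
    preservesColimit_of_preserves_colimit_cocone initialIsInitial
      ((isColimitMapCoconeEmptyCoconeEquiv F' _).symm hinit)
  exact preservesColimitsOfShape_pempty_of_preservesInitial F'

lemma bij_ev (A : C) [IsGalois A] (a : F.obj A) (X : C)
    (hbij : Function.Bijective (fun f : A ⟶ X => F.map f a)) (s' : F'.obj A) :
    Function.Bijective (fun f : A ⟶ X => F'.map f s') := by
  classical
  haveI := preservesInitial F'
  haveI : Fintype (A ⟶ X) := Fintype.ofFinite _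
  haveI : PreservesColimitsOfShape (Discrete (A ⟶ X)) F' :=
    PreservesFiniteCoproducts.of_preserves_binary_and_initial F' (A ⟶ X)
  let fam : (A ⟶ X) → C := fun _ => A
  let φ : ∐ fam ⟶ A ⨯ X := Sigma.desc (fun f => prod.lift (𝟙 A) f)
  have hφ : ∀ f : A ⟶ X, Sigma.ι fam f ≫ φ = prod.lift (𝟙 A) f := fun f => Sigma.ι_desc _ _
  have hl : IsColimit (Cofan.mk (∐ fam) (Sigma.ι fam)) := coproductIsCoproduct fam
  have e1 : ∀ f : A ⟶ X, Sigma.ι fam f ≫ φ ≫ prod.fst = 𝟙 A := fun f => by
    rw [← Category.assoc, hφ, prod.lift_fst]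
  have e2 : ∀ f : A ⟶ X, Sigma.ι fam f ≫ φ ≫ prod.snd = f := fun f => by
    rw [← Category.assoc, hφ, prod.lift_snd]
  have key1 : ∀ (G : C ⥤ FintypeCat.{w}) (f : A ⟶ X) (b : G.obj A),
      G.map prod.fst (G.map φ (G.map (Sigma.ι fam f) b)) = b := by
    intro G f b
    rw [map_map_apply, map_map_apply, e1, G.map_id]
    rfl
  have key2 : ∀ (G : C ⥤ FintypeCat.{w}) (f : A ⟶ X) (b : G.obj A),
      G.map prod.snd (G.map φ (G.map (Sigma.ι fam f) b)) = G.map f b := by
    intro G f b
    rw [map_map_apply, map_map_apply, e2]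
  have hFφ : Function.Bijective (F.map φ) := by
    constructor
    · intro q1 q2 hq
      obtain ⟨⟨f⟩, b1, hb1⟩ := Limits.FintypeCat.jointly_surjective
        (Discrete.functor fam ⋙ F) _ (isColimitOfPreserves F hl) q1
      obtain ⟨⟨g⟩, b2, hb2⟩ := Limits.FintypeCat.jointly_surjective
        (Discrete.functor fam ⋙ F) _ (isColimitOfPreserves F hl) q2
      have hb1' : F.map (Sigma.ι fam f) b1 = q1 := hb1
      have hb2' : F.map (Sigma.ι fam g) b2 = q2 := hb2
      rw [← hb1', ← hb2'] at hq ⊢
      have hb : b1 = b2 :=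
        (key1 F f b1).symm.trans ((congrArg (F.map prod.fst) hq).trans (key1 F g b2))
      subst hb
      have hfg : f = g := by
        apply evaluation_injective_of_isConnected F A X b1
        show F.map f b1 = F.map g b1
        exact (key2 F f b1).symm.trans ((congrArg (F.map prod.snd) hq).trans (key2 F g b1))
      subst hfg
      rfl
    · intro p
      obtain ⟨σ, hσ⟩ := evaluation_aut_surjective_of_isGalois F A a (F.map prod.fst p)
      obtain ⟨g, hg⟩ := hbij.2 (F.map prod.snd p)
      have hσ' : F.map σ.hom a = F.map prod.fst p := hσ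
      have hg' : F.map g a = F.map prod.snd p := hg
      refine ⟨F.map (Sigma.ι fam (σ.inv ≫ g)) (F.map prod.fst p), ?_⟩
      apply prod_ext_elt F
      · exact key1 F _ _
      · rw [key2 F, ← hσ', map_map_apply, ← Category.assoc, σ.hom_inv_id, Category.id_comp, hg']
  haveI : IsIso (F.map φ) := (ConcreteCategory.isIso_iff_bijective (F.map φ)).mpr hFφ
  haveI : IsIso φ := isIso_of_reflects_iso φ F
  have hF'φ : Function.Bijective (F'.map φ) := ConcreteCategory.bijective_of_isIso (F'.map φ)
  constructor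
  · intro f g hfg
    have hfg' : F'.map f s' = F'.map g s' := hfg
    have hq : F'.map (Sigma.ι fam f) s' = F'.map (Sigma.ι fam g) s' := by
      apply hF'φ.1
      apply prod_ext_elt F'
      · rw [key1 F', key1 F']
      · rw [key2 F', key2 F', hfg']
    exact disj (isColimitOfPreserves F' hl) s' s' hq
  · intro x'
    obtain ⟨p, hp1, hp2⟩ := prod_exists_elt F' s' x'
    obtain ⟨q, hq⟩ := hF'φ.2 p
    obtain ⟨⟨f⟩, b', hb⟩ := Limits.FintypeCat.jointly_surjective
      (Discrete.functor fam ⋙ F') _ (isColimitOfPreserves F' hl) q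
    have hb' : F'.map (Sigma.ι fam f) b' = q := hb
    refine ⟨f, ?_⟩
    show F'.map f s' = x'
    have h1 : b' = s' := by rw [← hp1, ← hq, ← hb', key1 F']
    rw [← hp2, ← hq, ← hb', key2 F', h1]

theorem main5145 (h : ∀ X : C, IsEmpty (F'.obj X) → Nonempty (IsInitial X)) :
    Nonempty (F' ≅ F) := by
  have hne : ∀ A : PointedGaloisObject F, Nonempty (F'.obj A.obj) := by
    intro A
    by_contra hcon
    rw [not_nonempty_iff] at hcon
    obtain ⟨hi⟩ := h _ hcon
    exact IsConnected.notInitial hi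
  obtain ⟨s, hs⟩ := exists_system F F' hne
  let η := eta F F' s hs
  haveI : ∀ X, IsIso (η.app X) := by
    intro X
    rw [ConcreteCategory.isIso_iff_bijective]
    obtain ⟨A, a, hA, hbij⟩ := exists_galois_representative F X
    haveI := hA
    have hb := bij_ev F F' A a X hbij (s ⟨A, a, hA⟩)
    have hcomp : (fun f : A ⟶ X => F'.map f (s ⟨A, a, hA⟩)) =
        (etaFun F F' s X) ∘ (fun f : A ⟶ X => F.map f a) := by
      funext f
      exact (eta_eq F F' s hs X ⟨A, a, hA⟩ f).symm
    rw [hcomp] at hb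
    show Function.Bijective (etaFun F F' s X)
    exact (Function.Bijective.of_comp_iff _ hbij).mp hb
  haveI : IsIso η := NatIso.isIso_of_isIso_app η
  exact ⟨(asIso η).symm⟩

end Bij

theorem main0266 [PreservesFiniteLimits F'] [PreservesFiniteColimits F'] : Nonempty (F' ≅ F) := by
  apply main5145 F F'
  intro X hX
  by_contra hni
  have hne : Nonempty (F.obj X) := (not_initial_iff_fiber_nonempty F X).mp (fun hi => hni ⟨hi⟩)
  let t : X ⟶ ⊤_ C := terminal.from X
  have hTF : IsTerminal (F.obj (⊤_ C)) := IsTerminal.isTerminalObj F _ terminalIsTerminal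
  have hsurj : Function.Surjective (F.map t) := by
    intro y
    obtain ⟨x⟩ := hne
    exact ⟨x, term_subsingleton hTF _ _⟩
  haveI : Epi (F.map t) := ConcreteCategory.epi_of_surjective _ hsurj
  haveI : Epi t := F.epi_of_epi_map inferInstance
  haveI : Epi (F'.map t) := inferInstance
  have hTF' : IsTerminal (F'.obj (⊤_ C)) := IsTerminal.isTerminalObj F' _ terminalIsTerminal
  obtain ⟨y⟩ := term_nonempty hTF'
  obtain ⟨x, _⟩ := ConcreteCategory.surjective_of_epi_of_preservesPushout (F'.map t) y
  exact hX.false x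

end Main

end Groth.Agent.Lib.Pi1FibH4
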