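import Mathlib
import Groth.Prelude.Def_Pi1X
import Groth.Agent.Lib.Pi1Fib_helper4
set_option autoImplicit false
set_option linter.style.haveILetI false
set_option linter.unusedSectionVars false

universe u v w

namespace Groth.Agent.Lib.Pi1WhiskH4

open CategoryTheory CategoryTheory.Limits CategoryTheory.PreGaloisCategory
open Groth.Agent.Lib

section General

variable {C : Type u} [Category.{v} C] [GaloisCategory C]

/-- an equivariant map of fibres comes from a morphism -/
lemma exists_hom_of_equivariant (F : C ⥤ FintypeCat.{w}) [FiberFunctor F] {X Y : C}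
    (φ : F.obj X → F.obj Y)
    (hφ : ∀ (σ : Aut F) (x : F.obj X), φ (σ.hom.app X x) = σ.hom.app Y (φ x)) :
    ∃ f : X ⟶ Y, ∀ x, F.map f x = φ x := by
  let m : (functorToAction F).obj X ⟶ (functorToAction F).obj Y :=
    { hom := FintypeCat.homMk φ
      comm := fun σ => by
        ext x
        exact hφ σ x }
  obtain ⟨f, hf⟩ := (functorToAction F).map_surjective m
  refine ⟨f, fun x => ?_⟩
  have := congrArg (fun k => k.hom) hf
  exact ConcreteCategory.congr_hom this x

lemma fixes_of_mono (F : C ⥤ FintypeCat.{w}) [FiberFunctor F] (σ : Aut F) {Y Z : C} (i : Y ⟶ Z)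
    [Mono i] (hZ : ∀ z : F.obj Z, σ • z = z) (y : F.obj Y) : σ • y = y := by
  apply ConcreteCategory.injective_of_mono_of_preservesPullback (F.map i)
  rw [← mulAction_naturality, hZ]

lemma fixes_of_surj (F : C ⥤ FintypeCat.{w}) (σ : Aut F) {Y X : C} (p : Y ⟶ X)
    (hsurj : Function.Surjective (F.map p)) (hY : ∀ y : F.obj Y, σ • y = y) (x : F.obj X) :
    σ • x = x := by
  obtain ⟨y, rfl⟩ := hsurj x
  rw [mulAction_naturality, hY]

lemma isConnected_of_transitive (F : C ⥤ FintypeCat.{w}) [FiberFunctor F] (X : C) (x : F.obj X)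
    (htr : ∀ y : F.obj X, ∃ σ : Aut F, σ • x = y) : IsConnected X where
  notInitial := not_initial_of_inhabited F x
  noTrivialComponent Y i _ hY := by
    obtain ⟨y⟩ := (not_initial_iff_fiber_nonempty F Y).mp hY
    have hinj : Function.Injective (F.map i) :=
      ConcreteCategory.injective_of_mono_of_preservesPullback (F.map i)
    have hsurj : Function.Surjective (F.map i) := by
      intro z
      obtain ⟨σ, hσ⟩ := htr z
      obtain ⟨τ, hτ⟩ := htr (F.map i y)
      refine ⟨(σ * τ⁻¹) • y, ?_⟩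
      rw [← mulAction_naturality, ← hτ, mul_smul, inv_smul_smul]
      exact hσ
    haveI : IsIso (F.map i) := (ConcreteCategory.isIso_iff_bijective _).mpr ⟨hinj, hsurj⟩
    exact isIso_of_reflects_iso i F

def fiberFunctor_of_iso {F G : C ⥤ FintypeCat.{w}} [FiberFunctor F] (e : G ≅ F) :
    FiberFunctor G where
  preservesTerminalObjects := preservesLimitsOfShape_of_natIso e.symm
  preservesPullbacks := preservesLimitsOfShape_of_natIso e.symm
  preservesFiniteCoproducts := ⟨fun _ => preservesColimitsOfShape_of_natIso e.symm⟩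
  preservesEpis := Functor.PreservesEpimorphisms.of_iso e.symm
  preservesQuotientsByFiniteGroups _ _ _ := preservesColimitsOfShape_of_natIso e.symm
  reflectsIsos := reflectsIsomorphisms_of_iso e.symm

theorem iso_of_preservesEpi (F F₁ : C ⥤ FintypeCat.{w}) [FiberFunctor F]
    [PreservesFiniteLimits F₁] [PreservesColimitsOfShape (Discrete WalkingPair) F₁]
    [F₁.PreservesEpimorphisms] : Nonempty (F₁ ≅ F) := by
  apply Pi1FibH4.main5145 F F₁
  intro X hX
  by_contra hni
  have hne : Nonempty (F.obj X) := (not_initial_iff_fiber_nonempty F X).mp (fun hi => hni ⟨hi⟩)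
  let t : X ⟶ ⊤_ C := terminal.from X
  have hTF : IsTerminal (F.obj (⊤_ C)) := IsTerminal.isTerminalObj F _ terminalIsTerminal
  have hsurj : Function.Surjective (F.map t) := by
    intro y
    obtain ⟨x⟩ := hne
    exact ⟨x, Pi1FibH4.term_subsingleton hTF _ _⟩
  haveI : Epi (F.map t) := ConcreteCategory.epi_of_surjective _ hsurj
  haveI : Epi t := F.epi_of_epi_map inferInstance
  haveI : Epi (F₁.map t) := inferInstance
  have hTF' : IsTerminal (F₁.obj (⊤_ C)) := IsTerminal.isTerminalObj F₁ _ terminalIsTerminal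
  obtain ⟨y⟩ := Pi1FibH4.term_nonempty hTF'
  obtain ⟨x, _⟩ := ConcreteCategory.surjective_of_epi_of_preservesPushout (F₁.map t) y
  exact hX.false x

/-- all automorphisms of the fibre functor act trivially on `F Y` iff `Y` is a finite coproduct of
copies of the terminal object -/
lemma split_iff (F : C ⥤ FintypeCat.{w}) [FiberFunctor F] (Y : C) :
    (∀ (σ : Aut F) (y : F.obj Y), σ • y = y) ↔
      ∃ n : ℕ, Nonempty (Y ≅ ∐ fun _ : Fin n => ⊤_ C) := by
  have hT : IsTerminal (F.obj (⊤_ C)) := IsTerminal.isTerminalObj F _ terminalIsTerminal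
  constructor
  · intro hfix
    obtain ⟨pt⟩ := Pi1FibH4.term_nonempty hT
    have hm : ∀ s : F.obj Y, ∃ m : ⊤_ C ⟶ Y, F.map m pt = s := by
      intro s
      obtain ⟨m, hm⟩ := exists_hom_of_equivariant F (X := ⊤_ C) (Y := Y) (fun _ => s)
        (fun σ x => (hfix σ s).symm)
      exact ⟨m, hm pt⟩
    choose m hm using hm
    let n := Nat.card (F.obj Y)
    let e : Fin n ≃ F.obj Y := (Finite.equivFin (F.obj Y)).symm
    let fam : Fin n → C := fun _ => ⊤_ C
    let φ : ∐ fam ⟶ Y := Sigma.desc (fun i => m (e i))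
    have hl : IsColimit (Cofan.mk (∐ fam) (Sigma.ι fam)) := coproductIsCoproduct fam
    have hφ : ∀ i, F.map φ (F.map (Sigma.ι fam i) pt) = e i := by
      intro i
      rw [Pi1FibH4.map_map_apply, Sigma.ι_desc]
      exact hm (e i)
    have hbij : Function.Bijective (F.map φ) := by
      constructor
      · intro q1 q2 hq
        obtain ⟨⟨i⟩, t1, ht1⟩ := Limits.FintypeCat.jointly_surjective
          (Discrete.functor fam ⋙ F) _ (isColimitOfPreserves F hl) q1
        obtain ⟨⟨j⟩, t2, ht2⟩ := Limits.FintypeCat.jointly_surjective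
          (Discrete.functor fam ⋙ F) _ (isColimitOfPreserves F hl) q2
        have e1 : t1 = pt := Pi1FibH4.term_subsingleton hT _ _
        have e2 : t2 = pt := Pi1FibH4.term_subsingleton hT _ _
        have ht1' : F.map (Sigma.ι fam i) pt = q1 := by rw [← e1]; exact ht1
        have ht2' : F.map (Sigma.ι fam j) pt = q2 := by rw [← e2]; exact ht2
        rw [← ht1', ← ht2', hφ, hφ] at hq
        have hij : i = j := e.injective hq
        rw [← ht1', ← ht2', hij]
      · intro s
        refine ⟨F.map (Sigma.ι fam (e.symm s)) pt, ?_⟩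
        rw [hφ, Equiv.apply_symm_apply]
    haveI : IsIso (F.map φ) := (ConcreteCategory.isIso_iff_bijective _).mpr hbij
    haveI : IsIso φ := isIso_of_reflects_iso φ F
    exact ⟨n, ⟨(asIso φ).symm⟩⟩
  · rintro ⟨n, ⟨θ⟩⟩ σ y
    let fam : Fin n → C := fun _ => ⊤_ C
    have hl : IsColimit (Cofan.mk (∐ fam) (Sigma.ι fam)) := coproductIsCoproduct fam
    obtain ⟨⟨i⟩, t, ht⟩ := Limits.FintypeCat.jointly_surjective
      (Discrete.functor fam ⋙ F) _ (isColimitOfPreserves F hl) (F.map θ.hom y)
    obtain ⟨t, ht'⟩ : ∃ t : F.obj (⊤_ C), F.map (Sigma.ι fam i) t = F.map θ.hom y := ⟨t, ht⟩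
    have hσt : σ • t = t := Pi1FibH4.term_subsingleton hT _ _
    have h1 : σ • F.map θ.hom y = F.map θ.hom y := by
      rw [← ht', mulAction_naturality, hσt]
    have h2 : F.map θ.hom (σ • y) = F.map θ.hom y := by rw [← mulAction_naturality, h1]
    have hinj : Function.Injective (F.map θ.hom) :=
      (ConcreteCategory.bijective_of_isIso (F.map θ.hom)).1
    exact hinj h2

end General

section Whisker

variable {C C' : Type u} [Category.{v} C] [Category.{v} C'] [GaloisCategory C] [GaloisCategory C']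
  (H : C ⥤ C') (F' : C' ⥤ FintypeCat.{w})

lemma continuous_autWhisker : Continuous (Pi1X.autWhisker H F') := by
  rw [Topology.IsInducing.continuous_iff (autEmbedding_isClosedEmbedding (H ⋙ F')).isInducing,
    continuous_pi_iff]
  intro X
  change Continuous (fun σ' : Aut F' => autEmbedding F' σ' (H.obj X))
  exact (continuous_apply (H.obj X)).comp (autEmbedding_isClosedEmbedding F').continuous

lemma ker_fixes {σ' : Aut F'} (hσ' : Pi1X.autWhisker H F' σ' = 1) (X : C)
    (x : F'.obj (H.obj X)) : σ' • x = x := by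
  have := congrArg (fun τ : Aut (H ⋙ F') => τ.hom.app X) hσ'
  exact ConcreteCategory.congr_hom this x

variable [FiberFunctor F'] [FiberFunctor (H ⋙ F')]

lemma exists_pt_of_not_mem_range (σ : Aut (H ⋙ F'))
    (hσ : σ ∉ Set.range (Pi1X.autWhisker H F')) :
    ∃ (A : C) (_ : IsGalois A) (a : F'.obj (H.obj A)),
      ∀ σ' : Aut F', σ'.hom.app (H.obj A) a ≠ σ.hom.app A a := by
  have hcont : Continuous (Pi1X.autWhisker H F') := continuous_autWhisker H F'
  have hK : IsClosed (Set.range (Pi1X.autWhisker H F')) := (isCompact_range hcont).isClosed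
  let W : Set (Aut (H ⋙ F')) := (fun τ => σ * τ) ⁻¹' (Set.range (Pi1X.autWhisker H F'))ᶜ
  have hW : IsOpen W := hK.isOpen_compl.preimage (continuous_mul_left σ)
  have h1 : (1 : Aut (H ⋙ F')) ∈ W := by
    show σ * 1 ∈ (Set.range (Pi1X.autWhisker H F'))ᶜ
    rw [mul_one]; exact hσ
  obtain ⟨P, -, hP⟩ := (nhds_one_has_basis_stabilizers (H ⋙ F')).mem_iff.mp (hW.mem_nhds h1)
  refine ⟨P.obj, P.isGalois, P.pt, ?_⟩
  intro σ' heq
  have hτ : σ⁻¹ * Pi1X.autWhisker H F' σ' ∈ MulAction.stabilizer (Aut (H ⋙ F')) P.pt := by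
    rw [MulAction.mem_stabilizer_iff, mul_smul]
    have : (Pi1X.autWhisker H F' σ') • P.pt = σ • P.pt := heq
    rw [this, inv_smul_smul]
  have h2 : σ * (σ⁻¹ * Pi1X.autWhisker H F' σ') ∉ Set.range (Pi1X.autWhisker H F') := hP hτ
  apply h2
  rw [mul_inv_cancel_left]
  exact ⟨σ', rfl⟩

theorem main1187 : Function.Surjective (Pi1X.autWhisker H F') ↔ (H.Full ∧ H.Faithful) := by
  constructor
  · intro hsurj
    have hfaith : H.Faithful := Functor.Faithful.of_comp H F'
    refine ⟨⟨?_⟩, hfaith⟩
    intro X Y g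
    obtain ⟨f, hf⟩ := exists_hom_of_equivariant (H ⋙ F') (X := X) (Y := Y)
      (fun x => F'.map g x) (by
        intro σ x
        obtain ⟨σ', rfl⟩ := hsurj σ
        exact (NatTrans.naturality_apply σ'.hom g x).symm)
    refine ⟨f, ?_⟩
    apply F'.map_injective
    ext x
    exact hf x
  · rintro ⟨hfull, hfaith⟩
    intro σ
    by_contra hσ
    obtain ⟨A, hA, a, ha⟩ := exists_pt_of_not_mem_range H F' σ hσ
    haveI := hA
    obtain ⟨b, hb⟩ : ∃ b : F'.obj (H.obj A), b = σ.hom.app A a := ⟨_, rfl⟩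
    rw [← hb] at ha
    have hba : b ≠ a := fun hba => ha 1 hba.symm
    obtain ⟨α, hα⟩ := evaluation_aut_surjective_of_isGalois (H ⋙ F') A a b
    have hα' : F'.map (H.map α.hom) a = b := hα
    let S : Set (F'.obj (H.obj A)) := MulAction.orbit (Aut F') a
    have hS : ∀ (τ : Aut F') (z : F'.obj (H.obj A)), τ • z ∈ S ↔ z ∈ S := by
      intro τ z
      show τ • z ∈ MulAction.orbit (Aut F') a ↔ z ∈ MulAction.orbit (Aut F') a
      rw [← MulAction.orbit_eq_iff, ← MulAction.orbit_eq_iff, MulAction.orbit_smul]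
    have hbS : b ∉ S := by
      rintro ⟨σ', hσ'⟩
      exact ha σ' hσ'
    have haS : a ∈ S := MulAction.mem_orbit_self a
    classical
    let e : F'.obj (H.obj A) → F'.obj (H.obj A) :=
      fun z => if z ∈ S then z else F'.map (H.map α.hom) z
    have he : ∀ (τ : Aut F') (z : F'.obj (H.obj A)), e (τ • z) = τ • e z := by
      intro τ z
      by_cases hz : z ∈ S
      · have hz' : τ • z ∈ S := (hS τ z).mpr hz
        simp only [e, if_pos hz, if_pos hz']
      · have hz' : τ • z ∉ S := fun h => hz ((hS τ z).mp h)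
        simp only [e, if_neg hz, if_neg hz']
        exact (mulAction_naturality F' τ (H.map α.hom) z).symm
    obtain ⟨g, hg⟩ := exists_hom_of_equivariant F' (X := H.obj A) (Y := H.obj A) e
      (fun τ z => he τ z)
    obtain ⟨β, hβ⟩ := hfull.map_surjective g
    have hea : e a = a := by simp only [e, if_pos haS]
    have hβ1 : β = 𝟙 A := by
      apply evaluation_injective_of_isConnected (H ⋙ F') A A a
      show F'.map (H.map β) a = F'.map (H.map (𝟙 A)) a
      rw [hβ, hg a, H.map_id, F'.map_id, hea]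
      rfl
    have heb : e b = b := by
      rw [← hg b, ← hβ, hβ1, H.map_id, F'.map_id]; rfl
    have heb' : e b = F'.map (H.map α.hom) b := by simp only [e, if_neg hbS]
    have hnat : F'.map (H.map α.hom) b = σ.hom.app A b := by
      have h1 : F'.map (H.map α.hom) b = σ.hom.app A (F'.map (H.map α.hom) a) := by
        rw [hb]
        exact (NatTrans.naturality_apply σ.hom α.hom a).symm
      rw [h1, hα']
    have h3 : σ.hom.app A b = σ.hom.app A a := by rw [← hnat, ← heb', heb, hb]
    have hinj := (MulAction.injective σ : Function.Injective (fun x : (H ⋙ F').obj A => σ • x))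
    exact hba (hinj h3)

theorem main5148 (X' : C') [IsConnected X'] (a' : F'.obj X') :
    (Pi1X.autWhisker H F').ker ≤ MulAction.stabilizer (Aut F') a' ↔
      ∃ (X : C) (Y' : C') (i : Y' ⟶ H.obj X) (q : Y' ⟶ X'), Mono i ∧ IsConnected Y' := by
  constructor
  · intro hker
    have hcont := continuous_autWhisker H F'
    let U' : Set (Aut F') := (MulAction.stabilizer (Aut F') a' : Set (Aut F'))
    have hU' : IsOpen U' := stabilizer_isOpen (Aut F') a'
    have hZc : IsClosed (Pi1X.autWhisker H F' '' U'ᶜ) :=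
      (hU'.isClosed_compl.isCompact.image hcont).isClosed
    have h1 : (1 : Aut (H ⋙ F')) ∈ (Pi1X.autWhisker H F' '' U'ᶜ)ᶜ := by
      rintro ⟨σ', hσ', hσ'1⟩
      exact hσ' (hker (MonoidHom.mem_ker.mpr hσ'1))
    obtain ⟨P, -, hP⟩ := (nhds_one_has_basis_stabilizers (H ⋙ F')).mem_iff.mp
      (hZc.isOpen_compl.mem_nhds h1)
    obtain ⟨a, haP⟩ : ∃ a : F'.obj (H.obj P.obj), a = P.pt := ⟨P.pt, rfl⟩
    have hstab : ∀ σ' : Aut F', σ' • a = a → σ' ∈ U' := by
      intro σ' hσ'
      by_contra hn
      have h5 : Pi1X.autWhisker H F' σ' ∈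
          (MulAction.stabilizer (Aut (H ⋙ F')) P.pt : Set (Aut (H ⋙ F'))) := by
        rw [haP] at hσ'
        exact hσ'
      exact hP h5 ⟨σ', hn, rfl⟩
    obtain ⟨Y', i, y, hy, hconn, hmono⟩ := fiber_in_connected_component F' (H.obj P.obj) a
    haveI := hconn
    haveI := hmono
    have hstab' : ∀ σ' : Aut F', σ' • y = y → σ' • a' = a' := by
      intro σ' hσ'
      have h6 : σ' ∈ U' := hstab σ' (by rw [← hy, mulAction_naturality, hσ'])
      exact h6
    haveI := FiberFunctor.isPretransitive_of_isConnected F' Y'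
    let φ : F'.obj Y' → F'.obj X' :=
      fun z => (MulAction.exists_smul_eq (Aut F') y z).choose • a'
    have hφdef : ∀ z : F'.obj Y', ∃ g : Aut F', g • y = z ∧ φ z = g • a' :=
      fun z => ⟨_, (MulAction.exists_smul_eq (Aut F') y z).choose_spec, rfl⟩
    have hφ : ∀ (σ' : Aut F') (z : F'.obj Y'), φ (σ' • z) = σ' • φ z := by
      intro σ' z
      obtain ⟨g1, h1, e1⟩ := hφdef z
      obtain ⟨g2, h2, e2⟩ := hφdef (σ' • z)
      rw [e1, e2]
      have hk : ((σ' * g1)⁻¹ * g2) • y = y := by
        rw [mul_smul, h2, ← h1, ← mul_smul σ' g1 y, inv_smul_smul]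
      have hk' := hstab' _ hk
      calc g2 • a' = (σ' * g1) • ((σ' * g1)⁻¹ * g2) • a' := by
            rw [← mul_smul, mul_inv_cancel_left]
        _ = (σ' * g1) • a' := by rw [hk']
        _ = σ' • g1 • a' := mul_smul _ _ _
    obtain ⟨q, _⟩ := exists_hom_of_equivariant F' φ (fun σ x => hφ σ x)
    exact ⟨P.obj, Y', i, q, hmono, hconn⟩
  · rintro ⟨X, Y', i, q, hmono, hconn⟩ σ' hσ'
    haveI := hmono
    haveI := hconn
    rw [MulAction.mem_stabilizer_iff]
    have hZ : ∀ z : F'.obj (H.obj X), σ' • z = z :=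
      fun z => ker_fixes H F' (MonoidHom.mem_ker.mp hσ') X z
    exact fixes_of_surj F' σ' q (surjective_of_nonempty_fiber_of_isConnected F' q)
      (fixes_of_mono F' σ' i hZ) a'

theorem main1188 : Function.Injective (Pi1X.autWhisker H F') ↔
    ∀ X' : C', IsConnected X' →
      ∃ (X : C) (Y' : C') (p : Y' ⟶ X') (q : Y' ⟶ H.obj X), Epi p ∧ Mono q := by
  constructor
  · intro hinj X' hX'
    haveI := hX'
    obtain ⟨a'⟩ := nonempty_fiber_of_isConnected F' X'
    have hker : (Pi1X.autWhisker H F').ker ≤ MulAction.stabilizer (Aut F') a' := by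
      rw [(MonoidHom.ker_eq_bot_iff _).mpr hinj]; exact bot_le
    obtain ⟨X, Y', i, q, hmono, hconn⟩ := (main5148 H F' X' a').mp hker
    haveI := hconn
    exact ⟨X, Y', q, i, epi_of_nonempty_of_isConnected F' q, hmono⟩
  · intro hcond
    refine (injective_iff_map_eq_one (Pi1X.autWhisker H F')).mpr ?_
    intro σ' hσ'
    ext X' x'
    show σ' • x' = x'
    obtain ⟨A, f, a, hA, rfl⟩ := exists_hom_from_galois_of_fiber F' X' x'
    haveI := hA
    obtain ⟨X, Y', p, q, hp, hq⟩ := hcond A inferInstance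
    haveI := hp
    haveI := hq
    have hZ : ∀ z : F'.obj (H.obj X), σ' • z = z := fun z => ker_fixes H F' hσ' X z
    have hA' : σ' • a = a :=
      fixes_of_surj F' σ' p (surjective_on_fiber_of_epi F' p) (fixes_of_mono F' σ' q hZ) a
    rw [mulAction_naturality, hA']

end Whisker

section S0267

theorem main0267_aux {C C' : Type u} [Category.{v} C] [Category.{v} C'] [GaloisCategory C]
    [GaloisCategory C'] (H : C ⥤ C') (F' : C' ⥤ FintypeCat.{w}) [FiberFunctor F']
    [FiberFunctor (H ⋙ F')] :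
    (H.Full ∧ H.Faithful) ↔ ∀ X : C, IsConnected X → IsConnected (H.obj X) := by
  refine (main1187 H F').symm.trans ?_
  constructor
  · intro hsurj X hX
    haveI := hX
    obtain ⟨x⟩ := nonempty_fiber_of_isConnected (H ⋙ F') X
    apply isConnected_of_transitive F' (H.obj X) x
    intro y
    haveI := FiberFunctor.isPretransitive_of_isConnected (H ⋙ F') X
    obtain ⟨σ, hσ⟩ := MulAction.exists_smul_eq (Aut (H ⋙ F')) (x : (H ⋙ F').obj X) y
    obtain ⟨σ', rfl⟩ := hsurj σ
    exact ⟨σ', hσ⟩
  · intro hconn σ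
    by_contra hσ
    obtain ⟨A, hA, a, ha⟩ := exists_pt_of_not_mem_range H F' σ (fun ⟨σ', h⟩ => hσ ⟨σ', h⟩)
    haveI := hA
    haveI : IsConnected (H.obj A) := hconn A inferInstance
    haveI := FiberFunctor.isPretransitive_of_isConnected F' (H.obj A)
    obtain ⟨σ', hσ'⟩ := MulAction.exists_smul_eq (Aut F') a (σ.hom.app A a)
    exact ha σ' hσ'


variable {C D : Type u} [Category.{v} C] [Category.{v} D] [GaloisCategory C] [GaloisCategory D]
  (H : C ⥤ D) [PreservesFiniteLimits H] [PreservesFiniteColimits H]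

theorem main0267 :
    (H.Full ∧ H.Faithful) ↔ ∀ X : C, IsConnected X → IsConnected (H.obj X) := by
  obtain ⟨e⟩ := iso_of_preservesEpi (GaloisCategory.getFiberFunctor C)
    (H ⋙ GaloisCategory.getFiberFunctor D)
  haveI : FiberFunctor (H ⋙ GaloisCategory.getFiberFunctor D) := fiberFunctor_of_iso e
  exact main0267_aux H (GaloisCategory.getFiberFunctor D)

end S0267

section Three

variable {C C' C'' : Type u} [Category.{v} C] [Category.{v} C'] [Category.{v} C'']
  [GaloisCategory C] [GaloisCategory C'] [GaloisCategory C'']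
  (H : C ⥤ C') (H' : C' ⥤ C'') (F'' : C'' ⥤ FintypeCat.{w}) [FiberFunctor F'']

theorem main1189 :
    (∀ σ : Aut F'', Pi1X.autWhisker H (H' ⋙ F'') (Pi1X.autWhisker H' F'' σ) = 1) ↔
      ∀ X : C, ∃ n : ℕ, Nonempty (H'.obj (H.obj X) ≅ ∐ fun _ : Fin n => ⊤_ C'') := by
  have key : ∀ X : C, (∀ (σ : Aut F'') (y : F''.obj (H'.obj (H.obj X))), σ • y = y) ↔
      ∃ n : ℕ, Nonempty (H'.obj (H.obj X) ≅ ∐ fun _ : Fin n => ⊤_ C'') :=
    fun X => split_iff F'' _
  constructor
  · intro h1 X
    rw [← key]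
    intro σ y
    have := congrArg (fun τ : Aut (H ⋙ (H' ⋙ F'')) => τ.hom.app X) (h1 σ)
    exact ConcreteCategory.congr_hom this y
  · intro h2 σ
    ext X y
    exact ((key X).mpr (h2 X)) σ y

end Three

end Groth.Agent.Lib.Pi1WhiskH4
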