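import Mathlib
import Groth.Prelude.Def_Pi1X
import Groth.Agent.Lib.Pi1Fib_helper4
import Groth.Agent.Lib.Pi1Whisk_helper4
set_option autoImplicit false
set_option linter.style.haveILetI false
set_option linter.unusedSectionVars false

universe u v w

namespace Groth.Agent.Lib.Pi1ExactH4

open CategoryTheory CategoryTheory.Limits CategoryTheory.PreGaloisCategory
open Groth.Agent.Lib Groth.Agent.Lib.Pi1WhiskH4

/-- a closed subgroup of a profinite group is separated from outside points by open subgroups -/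
lemma exists_open_of_not_mem {G : Type*} [Group G] [TopologicalSpace G] [IsTopologicalGroup G]
    [CompactSpace G] [TotallyDisconnectedSpace G] (K : Subgroup G) (hK : IsClosed (K : Set G))
    (σ : G) (hσ : σ ∉ K) : ∃ N : Subgroup G, IsOpen (N : Set G) ∧ K ≤ N ∧ σ ∉ N := by
  by_contra hcon
  push_neg at hcon
  apply hσ
  have h1 := ProfiniteGrp.closedSubgroup_eq_sInf_open (⟨K, hK⟩ : ClosedSubgroup G)
  have h2 : σ ∈ ((⟨K, hK⟩ : ClosedSubgroup G) : Subgroup G) := by
    rw [h1]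
    exact Subgroup.mem_sInf.mpr (fun N hN => hcon N hN.1 hN.2)
  exact h2

section General

variable {C : Type u} [Category.{v} C] [GaloisCategory C]

noncomputable abbrev F1 (F : C ⥤ FintypeCat.{w}) : C ⥤ FintypeCat.{u} := F ⋙ FintypeCat.uSwitch.{w, u}

noncomputable def fEq (F : C ⥤ FintypeCat.{w}) : Aut F ≃ₜ* Aut (F1 F) :=
  autEquivAutWhiskerRight F (FintypeCat.uSwitchEquivalence.{w, u}).fullyFaithfulFunctor

lemma fEq_app (F : C ⥤ FintypeCat.{w}) (σ : Aut F) (X : C) :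
    (fEq F σ).hom.app X = FintypeCat.uSwitch.{w, u}.map (σ.hom.app X) := rfl

lemma fEq_smul (F : C ⥤ FintypeCat.{w}) (σ : Aut F) (X : C) (z : (F1 F).obj X) :
    σ • ((F.obj X).uSwitchEquiv z) = (F.obj X).uSwitchEquiv ((fEq F σ) • z) := by
  show σ.hom.app X ((F.obj X).uSwitchEquiv z) = (F.obj X).uSwitchEquiv ((fEq F σ).hom.app X z)
  rw [fEq_app]
  exact FintypeCat.uSwitchEquiv_naturality (σ.hom.app X) z

/-- every open subgroup of the fundamental group is the stabilizer of a point of a connected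
object -/
lemma exists_pointed_of_openSubgroup (F : C ⥤ FintypeCat.{w}) [FiberFunctor F]
    (V : Subgroup (Aut F)) (hV : IsOpen (V : Set (Aut F))) :
    ∃ (X : C) (x : F.obj X), IsConnected X ∧ ∀ σ : Aut F, σ • x = x ↔ σ ∈ V := by
  haveI : FiberFunctor (F1 F) := FiberFunctor.comp_right _
  let V₁ : OpenSubgroup (Aut (F1 F)) :=
    (⟨V, hV⟩ : OpenSubgroup (Aut F)).comap ((fEq F).symm.toMulEquiv.toMonoidHom)
      (fEq F).continuous_invFun
  have hV₁ : ∀ τ : Aut (F1 F), τ ∈ V₁ ↔ (fEq F).symm τ ∈ V := fun τ => Iff.rfl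
  obtain ⟨X, ⟨θ⟩⟩ := exists_lift_of_quotient_openSubgroup (F := F1 F) V₁
  let ψ : Aut (F1 F) ⧸ V₁.toSubgroup → (F1 F).obj X := fun q => θ.inv.hom q
  let ψ' : (F1 F).obj X → Aut (F1 F) ⧸ V₁.toSubgroup := fun z => θ.hom.hom z
  have h1 : ∀ q, ψ' (ψ q) = q := fun q => by
    have := congrArg (fun k => k.hom) θ.inv_hom_id
    exact ConcreteCategory.congr_hom this q
  have h2 : ∀ z, ψ (ψ' z) = z := fun z => by
    have := congrArg (fun k => k.hom) θ.hom_inv_id
    exact ConcreteCategory.congr_hom this z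
  have hequiv : ∀ (τ : Aut (F1 F)) (q : Aut (F1 F) ⧸ V₁.toSubgroup), ψ (τ • q) = τ • ψ q :=
    fun τ q => ConcreteCategory.congr_hom (θ.inv.comm τ) q
  let q1 : Aut (F1 F) ⧸ V₁.toSubgroup := QuotientGroup.mk 1
  have hq : ∀ τ : Aut (F1 F), τ • q1 = q1 ↔ τ ∈ V₁ := by
    intro τ
    show (QuotientGroup.mk (τ * 1) : Aut (F1 F) ⧸ V₁.toSubgroup) = QuotientGroup.mk 1 ↔ _
    rw [mul_one, QuotientGroup.eq, mul_one, inv_mem_iff]
    rfl
  have hx₁ : ∀ τ : Aut (F1 F), τ • ψ q1 = ψ q1 ↔ τ ∈ V₁ := by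
    intro τ
    rw [← hq τ, ← hequiv]
    constructor
    · intro h
      have := congrArg ψ' h
      rwa [h1, h1] at this
    · intro h
      rw [h]
  have htr : ∀ z : (F1 F).obj X, ∃ τ : Aut (F1 F), τ • ψ q1 = z := by
    intro z
    obtain ⟨g, hg⟩ := QuotientGroup.mk_surjective (ψ' z)
    refine ⟨g, ?_⟩
    rw [← hequiv]
    have h3 : g • q1 = ψ' z := by
      show (QuotientGroup.mk (g * 1) : Aut (F1 F) ⧸ V₁.toSubgroup) = _
      rw [mul_one, hg]
    rw [h3, h2]
  refine ⟨X, (F.obj X).uSwitchEquiv (ψ q1), ?_, ?_⟩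
  · apply isConnected_of_transitive F X
    intro y
    obtain ⟨τ, hτ⟩ := htr ((F.obj X).uSwitchEquiv.symm y)
    refine ⟨(fEq F).symm τ, ?_⟩
    rw [fEq_smul, (fEq F).apply_symm_apply, hτ, Equiv.apply_symm_apply]
  · intro σ
    rw [fEq_smul, (F.obj X).uSwitchEquiv.apply_eq_iff_eq, hx₁, hV₁, (fEq F).symm_apply_apply]

lemma hom_of_stab_le (F : C ⥤ FintypeCat.{w}) [FiberFunctor F] {X Y : C} [IsConnected X]
    (x : F.obj X) (y : F.obj Y) (h : ∀ σ : Aut F, σ • x = x → σ • y = y) :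
    ∃ f : X ⟶ Y, F.map f x = y := by
  haveI := FiberFunctor.isPretransitive_of_isConnected F X
  let φ : F.obj X → F.obj Y := fun z => (MulAction.exists_smul_eq (Aut F) x z).choose • y
  have hφdef : ∀ z : F.obj X, ∃ g : Aut F, g • x = z ∧ φ z = g • y :=
    fun z => ⟨_, (MulAction.exists_smul_eq (Aut F) x z).choose_spec, rfl⟩
  have hφ : ∀ (σ : Aut F) (z : F.obj X), φ (σ • z) = σ • φ z := by
    intro σ z
    obtain ⟨g1, h1, e1⟩ := hφdef z
    obtain ⟨g2, h2, e2⟩ := hφdef (σ • z)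
    rw [e1, e2]
    have hk : ((σ * g1)⁻¹ * g2) • x = x := by
      rw [mul_smul, h2, ← h1, ← mul_smul σ g1 x, inv_smul_smul]
    have hk' := h _ hk
    calc g2 • y = (σ * g1) • ((σ * g1)⁻¹ * g2) • y := by
          rw [← mul_smul, mul_inv_cancel_left]
      _ = (σ * g1) • y := by rw [hk']
      _ = σ • g1 • y := mul_smul _ _ _
  obtain ⟨f, hf⟩ := exists_hom_of_equivariant F φ (fun σ z => hφ σ z)
  refine ⟨f, ?_⟩
  rw [hf x]
  obtain ⟨g, hg, e⟩ := hφdef x
  rw [e]
  exact h g hg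

lemma iso_of_stab_eq (F : C ⥤ FintypeCat.{w}) [FiberFunctor F] {X Y : C} [IsConnected X]
    [IsConnected Y] (x : F.obj X) (y : F.obj Y) (h : ∀ σ : Aut F, σ • x = x ↔ σ • y = y) :
    Nonempty (X ≅ Y) := by
  obtain ⟨f, hf⟩ := hom_of_stab_le F x y (fun σ => (h σ).mp)
  obtain ⟨g, hg⟩ := hom_of_stab_le F y x (fun σ => (h σ).mpr)
  refine ⟨⟨f, g, ?_, ?_⟩⟩
  · apply evaluation_injective_of_isConnected F X X x
    show F.map (f ≫ g) x = F.map (𝟙 X) x
    rw [← Pi1FibH4.map_map_apply, hf, hg, F.map_id]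
    rfl
  · apply evaluation_injective_of_isConnected F Y Y y
    show F.map (g ≫ f) y = F.map (𝟙 Y) y
    rw [← Pi1FibH4.map_map_apply, hg, hf, F.map_id]
    rfl

/-- the subgroup of automorphisms acting trivially on the fibre of `X` -/
def trivSub (F : C ⥤ FintypeCat.{w}) (X : C) : Subgroup (Aut F) where
  carrier := {σ | ∀ y : F.obj X, σ • y = y}
  mul_mem' := fun {a b} ha hb y => by rw [mul_smul, hb y, ha y]
  one_mem' := fun y => one_smul _ y
  inv_mem' := fun {a} ha y => by rw [inv_smul_eq_iff, ha y]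

instance trivSub_normal (F : C ⥤ FintypeCat.{w}) (X : C) : (trivSub F X).Normal where
  conj_mem n hn g := by
    intro y
    show (g * n * g⁻¹) • y = y
    rw [mul_smul, mul_smul, hn (g⁻¹ • y), smul_inv_smul]

lemma trivSub_isClosed (F : C ⥤ FintypeCat.{w}) [FiberFunctor F] (X : C) :
    IsClosed (trivSub F X : Set (Aut F)) := by
  have : (trivSub F X : Set (Aut F)) = ⋂ y : F.obj X, {σ | σ • y = y} := by
    ext σ
    rw [Set.mem_iInter]
    exact Iff.rfl
  rw [this]
  exact isClosed_iInter fun y => isClosed_eq (continuous_id.smul continuous_const) continuous_const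

end General

section Whisker

variable {C C' : Type u} [Category.{v} C] [Category.{v} C'] [GaloisCategory C] [GaloisCategory C']
  (H : C ⥤ C') (F' : C' ⥤ FintypeCat.{w}) [FiberFunctor F'] [FiberFunctor (H ⋙ F')]

lemma exists_obj_of_ker_fixes
    (hsurj : Function.Surjective (Pi1X.autWhisker H F'))
    (hconnH : ∀ X : C, IsConnected X → IsConnected (H.obj X))
    (Y' : C') [IsConnected Y']
    (hker : ∀ σ' : Aut F', Pi1X.autWhisker H F' σ' = 1 → ∀ y : F'.obj Y', σ' • y = y) :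
    ∃ X : C, Nonempty (H.obj X ≅ Y') := by
  obtain ⟨a⟩ := nonempty_fiber_of_isConnected F' Y'
  have hcont := continuous_autWhisker H F'
  let U' : Subgroup (Aut F') := MulAction.stabilizer (Aut F') a
  have hU'o : IsOpen (U' : Set (Aut F')) := stabilizer_isOpen (Aut F') a
  have hsat : ∀ σ' σ₂ : Aut F', σ₂ ∈ U' →
      Pi1X.autWhisker H F' σ₂ = Pi1X.autWhisker H F' σ' → σ' ∈ U' := by
    intro σ' σ₂ hσ₂ heq
    have h1 : Pi1X.autWhisker H F' (σ₂⁻¹ * σ') = 1 := by
      rw [map_mul, map_inv, heq, inv_mul_cancel]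
    have h2 : (σ₂⁻¹ * σ') • a = a := hker _ h1 a
    have h3 : σ₂ • a = a := hσ₂
    show σ' • a = a
    calc σ' • a = σ₂ • (σ₂⁻¹ * σ') • a := by rw [← mul_smul, mul_inv_cancel_left]
      _ = a := by rw [h2, h3]
  let V : Subgroup (Aut (H ⋙ F')) := U'.map (Pi1X.autWhisker H F')
  have hVo : IsOpen (V : Set (Aut (H ⋙ F'))) := by
    have hc : ((V : Set (Aut (H ⋙ F'))))ᶜ = Pi1X.autWhisker H F' '' ((U' : Set (Aut F'))ᶜ) := by
      ext τ
      constructor
      · intro hτ
        obtain ⟨σ', rfl⟩ := hsurj τ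
        exact ⟨σ', fun h => hτ ⟨σ', h, rfl⟩, rfl⟩
      · rintro ⟨σ', hσ', rfl⟩ ⟨σ₂, hσ₂, heq⟩
        exact hσ' (hsat σ' σ₂ hσ₂ heq)
    rw [← isClosed_compl_iff, hc]
    exact (hU'o.isClosed_compl.isCompact.image hcont).isClosed
  obtain ⟨X, x, hX, hx⟩ := exists_pointed_of_openSubgroup (H ⋙ F') V hVo
  haveI := hconnH X hX
  refine ⟨X, iso_of_stab_eq F' (X := H.obj X) (Y := Y') x a ?_⟩
  intro σ'
  refine Iff.trans (?_ : _ ↔ Pi1X.autWhisker H F' σ' ∈ V) ?_
  · exact hx (Pi1X.autWhisker H F' σ')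
  · constructor
    · rintro ⟨σ₂, hσ₂, heq⟩
      exact hsat σ' σ₂ hσ₂ heq
    · intro h
      exact ⟨σ', h, rfl⟩

end Whisker

section Three

variable {C C' C'' : Type u} [Category.{v} C] [Category.{v} C'] [Category.{v} C'']
  [GaloisCategory C] [GaloisCategory C'] [GaloisCategory C'']
  (H : C ⥤ C') (H' : C' ⥤ C'') (F'' : C'' ⥤ FintypeCat.{w})
  [FiberFunctor F''] [FiberFunctor (H' ⋙ F'')] [FiberFunctor (H ⋙ (H' ⋙ F''))]

theorem main5149 :
    (Pi1X.autWhisker H (H' ⋙ F'')).ker ≤ (Pi1X.autWhisker H' F'').range ↔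
      ∀ (X' : C') (a' : (H' ⋙ F'').obj X'), IsConnected X' →
        (∃ s : ⊤_ C'' ⟶ H'.obj X', ∀ t : F''.obj (⊤_ C''), F''.map s t = a') →
          ∃ (X : C) (Y' : C') (i : Y' ⟶ H.obj X) (q : Y' ⟶ X'), Mono i ∧ IsConnected Y' := by
  have hT : IsTerminal (F''.obj (⊤_ C'')) := IsTerminal.isTerminalObj F'' _ terminalIsTerminal
  constructor
  · rintro hker X' a' hX' ⟨s, hs⟩
    haveI := hX'
    apply (main5148 H (H' ⋙ F'') X' a').mp
    refine hker.trans ?_
    rintro _ ⟨σ'', rfl⟩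
    rw [MulAction.mem_stabilizer_iff]
    obtain ⟨t⟩ := Pi1FibH4.term_nonempty hT
    show σ''.hom.app (H'.obj X') a' = a'
    rw [← hs t]
    have h1 := NatTrans.naturality_apply σ''.hom s t
    rw [h1, Pi1FibH4.term_subsingleton hT (σ''.hom.app (⊤_ C'') t) t]
  · intro hcond σ hσ
    by_contra hnot
    have hcont := continuous_autWhisker H' F''
    have hK : IsClosed ((Pi1X.autWhisker H' F'').range : Set (Aut (H' ⋙ F''))) := by
      rw [MonoidHom.coe_range]
      exact (isCompact_range hcont).isClosed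
    obtain ⟨V, hVo, hKV, hσV⟩ := exists_open_of_not_mem _ hK σ hnot
    obtain ⟨X', a', hX', hstab⟩ := exists_pointed_of_openSubgroup (H' ⋙ F'') V hVo
    haveI := hX'
    have hfix : ∀ σ'' : Aut F'', σ''.hom.app (H'.obj X') a' = a' := by
      intro σ''
      exact (hstab (Pi1X.autWhisker H' F'' σ'')).mpr (hKV (MonoidHom.mem_range.mpr ⟨σ'', rfl⟩))
    obtain ⟨s, hs⟩ := exists_hom_of_equivariant F'' (X := ⊤_ C'') (Y := H'.obj X')
      (fun _ => a') (fun σ'' _ => (hfix σ'').symm)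
    obtain ⟨X, Y', i, q, hmono, hconn⟩ := hcond X' a' hX' ⟨s, hs⟩
    have h5 := (main5148 H (H' ⋙ F'') X' a').mpr ⟨X, Y', i, q, hmono, hconn⟩ hσ
    exact hσV ((hstab σ).mp (MulAction.mem_stabilizer_iff.mp h5))

theorem main1190 [PreservesFiniteLimits H] [PreservesFiniteColimits H] :
    (Function.Surjective (Pi1X.autWhisker H (H' ⋙ F'')) ∧
      (∀ σ : Aut F'', Pi1X.autWhisker H (H' ⋙ F'') (Pi1X.autWhisker H' F'' σ) = 1) ∧
      (Pi1X.autWhisker H (H' ⋙ F'')).ker =
        (Subgroup.normalClosure (Set.range (Pi1X.autWhisker H' F''))).topologicalClosure) ↔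
    ((H.Full ∧ H.Faithful) ∧
      ∀ X' : C', (∃ X : C, Nonempty (H.obj X ≅ X')) ↔
        ∃ n : ℕ, Nonempty (H'.obj X' ≅ ∐ fun _ : Fin n => ⊤_ C'')) := by
  have hcontu := continuous_autWhisker H (H' ⋙ F'')
  constructor
  · rintro ⟨hsurj, htriv, hker⟩
    have hff : H.Full ∧ H.Faithful := (main1187 H (H' ⋙ F'')).mp hsurj
    have hconnH : ∀ X : C, IsConnected X → IsConnected (H.obj X) :=
      (main0267_aux H (H' ⋙ F'')).mp hff
    refine ⟨hff, fun X' => ⟨?_, ?_⟩⟩
    · rintro ⟨X, ⟨θ⟩⟩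
      obtain ⟨n, ⟨κ⟩⟩ := (main1189 H H' F'').mp htriv X
      exact ⟨n, ⟨(H'.mapIso θ).symm ≪≫ κ⟩⟩
    · rintro ⟨n, ⟨κ⟩⟩
      have hfix'' : ∀ (σ'' : Aut F'') (y : F''.obj (H'.obj X')), σ'' • y = y :=
        (split_iff F'' (H'.obj X')).mpr ⟨n, ⟨κ⟩⟩
      have hkerfix : ∀ σ' : Aut (H' ⋙ F''), Pi1X.autWhisker H (H' ⋙ F'') σ' = 1 →
          ∀ y : (H' ⋙ F'').obj X', σ' • y = y := by
        intro σ' hσ'
        have hle : (Subgroup.normalClosure (Set.range (Pi1X.autWhisker H' F''))).topologicalClosure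
            ≤ trivSub (H' ⋙ F'') X' := by
          apply Subgroup.topologicalClosure_minimal _ _ (trivSub_isClosed _ _)
          apply Subgroup.normalClosure_le_normal
          rintro _ ⟨σ'', rfl⟩
          exact fun y => hfix'' σ'' y
        have hmem : σ' ∈ trivSub (H' ⋙ F'') X' := by
          apply hle
          rw [← hker]
          exact MonoidHom.mem_ker.mpr hσ'
        exact hmem
      obtain ⟨ι, hfin, fam, κ', hconn⟩ := has_decomp_connected_components' X'
      haveI := hfin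
      have hj : ∀ j : ι, ∃ X : C, Nonempty (H.obj X ≅ fam j) := by
        intro j
        haveI := hconn j
        apply exists_obj_of_ker_fixes H (H' ⋙ F'') hsurj hconnH (fam j)
        intro σ' hσ' y
        haveI : Mono (Sigma.ι fam j ≫ κ'.hom) := mono_comp _ _
        exact fixes_of_mono (H' ⋙ F'') σ' (Sigma.ι fam j ≫ κ'.hom) (hkerfix σ' hσ') y
      choose Xj hXj using hj
      haveI : Fintype ι := Fintype.ofFinite ι
      exact ⟨∐ Xj, ⟨PreservesCoproduct.iso H Xj ≪≫ Sigma.mapIso (fun j => (hXj j).some) ≪≫ κ'⟩⟩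
  · rintro ⟨hff, hess⟩
    have hsurj : Function.Surjective (Pi1X.autWhisker H (H' ⋙ F'')) :=
      (main1187 H (H' ⋙ F'')).mpr hff
    have htriv : ∀ σ : Aut F'',
        Pi1X.autWhisker H (H' ⋙ F'') (Pi1X.autWhisker H' F'' σ) = 1 :=
      (main1189 H H' F'').mpr (fun X => (hess (H.obj X)).mp ⟨X, ⟨Iso.refl _⟩⟩)
    refine ⟨hsurj, htriv, le_antisymm ?_ ?_⟩
    · intro σ hσ
      by_contra hn
      obtain ⟨V, hVo, hNV, hσV⟩ := exists_open_of_not_mem _
        (Subgroup.isClosed_topologicalClosure _) σ hn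
      obtain ⟨X', a', hX', hstab⟩ := exists_pointed_of_openSubgroup (H' ⋙ F'') V hVo
      haveI := hX'
      haveI hNn : ((Subgroup.normalClosure
          (Set.range (Pi1X.autWhisker H' F''))).topologicalClosure).Normal :=
        Subgroup.is_normal_topologicalClosure _
      haveI := FiberFunctor.isPretransitive_of_isConnected (H' ⋙ F'') X'
      have hNfix : ∀ n ∈ (Subgroup.normalClosure
          (Set.range (Pi1X.autWhisker H' F''))).topologicalClosure,
          ∀ y : (H' ⋙ F'').obj X', n • y = y := by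
        intro n hn y
        obtain ⟨g, rfl⟩ := MulAction.exists_smul_eq (Aut (H' ⋙ F'')) a' y
        have h1 : g⁻¹ * n * g ∈ (Subgroup.normalClosure
            (Set.range (Pi1X.autWhisker H' F''))).topologicalClosure := by
          have := Subgroup.Normal.conj_mem hNn n hn g⁻¹
          simpa using this
        have h2 : (g⁻¹ * n * g) • a' = a' := (hstab _).mpr (hNV h1)
        calc n • g • a' = g • (g⁻¹ * n * g) • a' := by simp [mul_smul]
          _ = g • a' := by rw [h2]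
      have hfix'' : ∀ (σ'' : Aut F'') (y : F''.obj (H'.obj X')), σ'' • y = y := by
        intro σ'' y
        exact hNfix (Pi1X.autWhisker H' F'' σ'')
          (Subgroup.le_topologicalClosure _ (Subgroup.subset_normalClosure ⟨σ'', rfl⟩)) y
      obtain ⟨X, ⟨θ⟩⟩ := (hess X').mpr ((split_iff F'' (H'.obj X')).mp hfix'')
      have hσfix : σ • a' = a' := by
        have hZ : ∀ z : (H' ⋙ F'').obj (H.obj X), σ • z = z :=
          fun z => ker_fixes H (H' ⋙ F'') (MonoidHom.mem_ker.mp hσ) X z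
        exact fixes_of_surj (H' ⋙ F'') σ θ.hom
          (ConcreteCategory.bijective_of_isIso ((H' ⋙ F'').map θ.hom)).2 hZ a'
      exact hσV ((hstab σ).mp hσfix)
    · apply Subgroup.topologicalClosure_minimal
      · apply Subgroup.normalClosure_le_normal
        rintro _ ⟨σ'', rfl⟩
        exact MonoidHom.mem_ker.mpr (htriv σ'')
      · rw [MonoidHom.coe_ker]
        exact isClosed_singleton.preimage hcontu

end Three

end Groth.Agent.Lib.Pi1ExactH4
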