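import Mathlib
import Groth.Prelude.Def_FEt
import Groth.Agent.Lib.EtaleField_helper4

/-!
# The fundamental group of `Spec K` is the absolute Galois group (helper4)
-/

open AlgebraicGeometry CategoryTheory CategoryTheory.Limits IntermediateField

universe u

set_option linter.style.haveILetI false

namespace Groth.Agent.Lib.Pi1FieldH4

variable (K : Type u) [Field K]

local notation "Ω" => AlgebraicClosure K

/-- The geometric point `Spec K̄ → Spec K`. -/
noncomputable abbrev xi : Spec (CommRingCat.of Ω) ⟶ Spec (CommRingCat.of K) :=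
  Spec.map (CommRingCat.ofHom (algebraMap K Ω))

/-- The automorphism of `Spec K̄` induced by `σ`. -/
noncomputable def aS (σ : Ω ≃ₐ[K] Ω) : Spec (CommRingCat.of Ω) ⟶ Spec (CommRingCat.of Ω) :=
  Spec.map (CommRingCat.ofHom σ.toAlgHom.toRingHom)

theorem aS_one : aS K 1 = 𝟙 _ := by
  have h : CommRingCat.ofHom (1 : Ω ≃ₐ[K] Ω).toAlgHom.toRingHom = 𝟙 (CommRingCat.of Ω) :=
    CommRingCat.hom_ext (RingHom.ext fun x => rfl)
  show Spec.map (CommRingCat.ofHom (1 : Ω ≃ₐ[K] Ω).toAlgHom.toRingHom) = 𝟙 _
  rw [h, Spec.map_id]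

theorem aS_mul (σ τ : Ω ≃ₐ[K] Ω) : aS K (σ * τ) = aS K σ ≫ aS K τ := by
  have h : CommRingCat.ofHom (σ * τ).toAlgHom.toRingHom =
      CommRingCat.ofHom τ.toAlgHom.toRingHom ≫ CommRingCat.ofHom σ.toAlgHom.toRingHom :=
    CommRingCat.hom_ext (RingHom.ext fun x => rfl)
  show Spec.map (CommRingCat.ofHom (σ * τ).toAlgHom.toRingHom) =
    Spec.map (CommRingCat.ofHom σ.toAlgHom.toRingHom) ≫
      Spec.map (CommRingCat.ofHom τ.toAlgHom.toRingHom)
  rw [h, Spec.map_comp]

theorem aS_xi (σ : Ω ≃ₐ[K] Ω) : aS K σ ≫ xi K = xi K := by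
  have h : CommRingCat.ofHom (algebraMap K Ω) ≫ CommRingCat.ofHom σ.toAlgHom.toRingHom =
      CommRingCat.ofHom (algebraMap K Ω) :=
    CommRingCat.hom_ext (RingHom.ext fun k => σ.commutes k)
  show Spec.map (CommRingCat.ofHom σ.toAlgHom.toRingHom) ≫
    Spec.map (CommRingCat.ofHom (algebraMap K Ω)) = Spec.map (CommRingCat.ofHom (algebraMap K Ω))
  rw [← Spec.map_comp, h]

/-- The action of `σ` on the fibre functor. -/
noncomputable def act (σ : Ω ≃ₐ[K] Ω) : FEt.fiber (xi K) ⟶ FEt.fiber (xi K) where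
  app Y := TypeCat.ofHom fun s : FEt.fiberObj (xi K) Y =>
    (⟨aS K σ ≫ s.1, by rw [Category.assoc, s.2, aS_xi]⟩ : FEt.fiberObj (xi K) Y)
  naturality Y Y' φ := ConcreteCategory.hom_ext _ _ fun (s : FEt.fiberObj (xi K) Y) =>
    Subtype.ext
      (show aS K σ ≫ (s.1 ≫ φ.left) = (aS K σ ≫ s.1) ≫ φ.left by rw [Category.assoc])

theorem act_one : act K 1 = 𝟙 _ :=
  NatTrans.ext (funext fun Y => ConcreteCategory.hom_ext _ _
    fun (s : FEt.fiberObj (xi K) Y) =>
      Subtype.ext (show aS K 1 ≫ s.1 = s.1 by rw [aS_one, Category.id_comp]))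

theorem act_mul (σ τ : Ω ≃ₐ[K] Ω) : act K (σ * τ) = act K τ ≫ act K σ :=
  NatTrans.ext (funext fun Y => ConcreteCategory.hom_ext _ _
    fun (s : FEt.fiberObj (xi K) Y) =>
      Subtype.ext (show aS K (σ * τ) ≫ s.1 = aS K σ ≫ (aS K τ ≫ s.1) by
        rw [aS_mul, Category.assoc]))

/-- The homomorphism from the Galois group to the fundamental group. -/
noncomputable def Phi : (Ω ≃ₐ[K] Ω) →* Aut (FEt.fiber (xi K)) where
  toFun σ := ⟨act K σ, act K σ⁻¹, by rw [← act_mul, inv_mul_cancel, act_one],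
    by rw [← act_mul, mul_inv_cancel, act_one]⟩
  map_one' := Iso.ext (act_one K)
  map_mul' σ τ := Iso.ext (act_mul K σ τ)

/-- A finite separable subextension of `K̄ / K`. -/
structure GoodField where
  L : IntermediateField K Ω
  fd : FiniteDimensional K L
  sep : Algebra.IsSeparable K L

attribute [instance] GoodField.fd GoodField.sep

variable {K} in
/-- `Spec L` as a finite étale cover of `Spec K`. -/
noncomputable def YL (G : GoodField K) : FEt.Cat (Spec (CommRingCat.of K)) :=
  MorphismProperty.Over.mk ⊤ (Spec.map (CommRingCat.ofHom (algebraMap K G.L)))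
    ⟨(IsFinite.SpecMap_iff _).mpr (RingHom.finite_algebraMap.mpr inferInstance),
      EtaleFieldH4.etale_specMap_of_finite_separable K G.L⟩

variable {K} in
/-- The canonical point of `Spec L`. -/
noncomputable def sL (G : GoodField K) : FEt.fiberObj (xi K) (YL G) :=
  ⟨Spec.map (CommRingCat.ofHom G.L.val.toRingHom), by
    show Spec.map (CommRingCat.ofHom G.L.val.toRingHom) ≫
      Spec.map (CommRingCat.ofHom (algebraMap K G.L)) =
        Spec.map (CommRingCat.ofHom (algebraMap K Ω))
    rw [← Spec.map_comp]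
    exact congrArg Spec.map (CommRingCat.hom_ext (RingHom.ext fun k => rfl))⟩

theorem exists_algHom_of_point (L : IntermediateField K Ω)
    (t : Spec (CommRingCat.of Ω) ⟶ Spec (CommRingCat.of L))
    (ht : t ≫ Spec.map (CommRingCat.ofHom (algebraMap K L)) = xi K) :
    ∃ ψ : L →ₐ[K] Ω, t = Spec.map (CommRingCat.ofHom ψ.toRingHom) := by
  obtain ⟨g, rfl⟩ := Spec.map_surjective t
  have h1 : Spec.map (CommRingCat.ofHom (algebraMap K L) ≫ g) =
      Spec.map (CommRingCat.ofHom (algebraMap K Ω)) := by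
    rw [Spec.map_comp]
    exact ht
  have h2 := Spec.map_injective h1
  exact ⟨{ g.hom with commutes' := fun k => congrArg (fun f => f.hom k) h2 }, rfl⟩

variable {K} in
/-- The image of the canonical point under a natural endomorphism of the fibre functor. -/
noncomputable def pt (η : FEt.fiber (xi K) ⟶ FEt.fiber (xi K)) (G : GoodField K) :
    FEt.fiberObj (xi K) (YL G) :=
  η.app (YL G) (sL G)

variable {K} in
noncomputable def psi (η : FEt.fiber (xi K) ⟶ FEt.fiber (xi K)) (G : GoodField K) :
    G.L →ₐ[K] Ω :=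
  (exists_algHom_of_point K G.L (pt η G).1 (pt η G).2).choose

variable {K} in
theorem psi_spec (η : FEt.fiber (xi K) ⟶ FEt.fiber (xi K)) (G : GoodField K) :
    (pt η G).1 = Spec.map (CommRingCat.ofHom (psi η G).toRingHom) :=
  (exists_algHom_of_point K G.L (pt η G).1 (pt η G).2).choose_spec

variable {K} in
theorem psi_compat (η : FEt.fiber (xi K) ⟶ FEt.fiber (xi K)) (G G' : GoodField K)
    (h : G.L ≤ G'.L) : psi η G = (psi η G').comp (IntermediateField.inclusion h) := by
  have hw : Spec.map (CommRingCat.ofHom (IntermediateField.inclusion h).toRingHom) ≫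
      (YL G).hom = (YL G').hom := by
    show Spec.map (CommRingCat.ofHom (IntermediateField.inclusion h).toRingHom) ≫
      Spec.map (CommRingCat.ofHom (algebraMap K G.L)) =
        Spec.map (CommRingCat.ofHom (algebraMap K G'.L))
    rw [← Spec.map_comp]
    exact congrArg Spec.map (CommRingCat.hom_ext (RingHom.ext fun k => rfl))
  obtain ⟨g, hg⟩ : ∃ g : YL G' ⟶ YL G,
      g.left = Spec.map (CommRingCat.ofHom (IntermediateField.inclusion h).toRingHom) :=
    ⟨MorphismProperty.Over.homMk
      (Spec.map (CommRingCat.ofHom (IntermediateField.inclusion h).toRingHom)) hw trivial, rfl⟩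
  have h1 : Spec.map (CommRingCat.ofHom G'.L.val.toRingHom) ≫
      Spec.map (CommRingCat.ofHom (IntermediateField.inclusion h).toRingHom) =
      Spec.map (CommRingCat.ofHom G.L.val.toRingHom) := by
    rw [← Spec.map_comp]
    exact congrArg Spec.map (CommRingCat.hom_ext (RingHom.ext fun z => rfl))
  have hmap : (FEt.fiber (xi K)).map g (sL G') = sL G := Subtype.ext (by
    show Spec.map (CommRingCat.ofHom G'.L.val.toRingHom) ≫ g.left =
      Spec.map (CommRingCat.ofHom G.L.val.toRingHom)
    rw [hg]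
    exact h1)
  have nat := NatTrans.naturality_apply η g (sL G')
  rw [hmap] at nat
  have nat1 : (pt η G).1 = (pt η G').1 ≫ g.left := congrArg Subtype.val nat
  rw [psi_spec η G, psi_spec η G', hg] at nat1
  have nat2 : Spec.map (CommRingCat.ofHom (psi η G).toRingHom) =
      Spec.map (CommRingCat.ofHom (IntermediateField.inclusion h).toRingHom ≫
        CommRingCat.ofHom (psi η G').toRingHom) := by
    rw [Spec.map_comp]
    exact nat1
  have nat3 := Spec.map_injective nat2
  exact AlgHom.ext fun z => congrArg (fun f => f.hom z) nat3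

/-- The simple extension generated by a separable element. -/
noncomputable def GoodField.simple (x : Ω) (hx : IsSeparable K x) : GoodField K :=
  ⟨K⟮x⟯, adjoin.finiteDimensional hx.isIntegral,
    (isSeparable_adjoin_simple_iff_isSeparable K Ω).mpr hx⟩

/-- The compositum of two good fields. -/
noncomputable def GoodField.sup (G G' : GoodField K) : GoodField K :=
  ⟨G.L ⊔ G'.L, inferInstance, inferInstance⟩

theorem isSep_of_mem (G : GoodField K) (x : Ω) (hxG : x ∈ G.L) : IsSeparable K x :=
  mem_separableClosure_iff.mp (le_separableClosure K Ω G.L hxG)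

variable {K} in
noncomputable def psiFun (η : FEt.fiber (xi K) ⟶ FEt.fiber (xi K)) (x : Ω)
    (hx : IsSeparable K x) : Ω :=
  psi η (GoodField.simple K x hx) ⟨x, mem_adjoin_simple_self K x⟩

variable {K} in
theorem psiFun_eq (η : FEt.fiber (xi K) ⟶ FEt.fiber (xi K)) (G : GoodField K) (x : Ω)
    (hxG : x ∈ G.L) (hx : IsSeparable K x) : psiFun η x hx = psi η G ⟨x, hxG⟩ := by
  have h : (GoodField.simple K x hx).L ≤ G.L := adjoin_simple_le_iff.mpr hxG
  have h2 := psi_compat η (GoodField.simple K x hx) G h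
  show psi η (GoodField.simple K x hx) ⟨x, mem_adjoin_simple_self K x⟩ = _
  rw [h2]
  rfl

variable {K} in
theorem mem_sup_left (x y : Ω) (hx : IsSeparable K x) (hy : IsSeparable K y) :
    x ∈ (GoodField.sup K (GoodField.simple K x hx) (GoodField.simple K y hy)).L :=
  (le_sup_left : K⟮x⟯ ≤ K⟮x⟯ ⊔ K⟮y⟯) (mem_adjoin_simple_self K x)

variable {K} in
theorem mem_sup_right (x y : Ω) (hx : IsSeparable K x) (hy : IsSeparable K y) :
    y ∈ (GoodField.sup K (GoodField.simple K x hx) (GoodField.simple K y hy)).L :=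
  (le_sup_right : K⟮y⟯ ≤ K⟮x⟯ ⊔ K⟮y⟯) (mem_adjoin_simple_self K y)

variable {K} in
/-- The glued homomorphism on the separable closure. -/
noncomputable def psiE (η : FEt.fiber (xi K) ⟶ FEt.fiber (xi K)) :
    separableClosure K Ω →ₐ[K] Ω where
  toFun x := psiFun η x.1 (mem_separableClosure_iff.mp x.2)
  map_one' := by
    show psiFun η 1 _ = 1
    rw [psiFun_eq η (GoodField.simple K 1 (mem_separableClosure_iff.mp (one_mem _))) 1
      (one_mem _)]
    exact map_one _
  map_zero' := by
    show psiFun η 0 _ = 0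
    rw [psiFun_eq η (GoodField.simple K 0 (mem_separableClosure_iff.mp (zero_mem _))) 0
      (zero_mem _)]
    exact map_zero _
  map_mul' x y := by
    have hx := mem_separableClosure_iff.mp x.2
    have hy := mem_separableClosure_iff.mp y.2
    have hxG := mem_sup_left x.1 y.1 hx hy
    have hyG := mem_sup_right x.1 y.1 hx hy
    show psiFun η (x.1 * y.1) _ = psiFun η x.1 _ * psiFun η y.1 _
    rw [psiFun_eq η _ (x.1 * y.1) (mul_mem hxG hyG), psiFun_eq η _ x.1 hxG,
      psiFun_eq η _ y.1 hyG, ← map_mul]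
    rfl
  map_add' x y := by
    have hx := mem_separableClosure_iff.mp x.2
    have hy := mem_separableClosure_iff.mp y.2
    have hxG := mem_sup_left x.1 y.1 hx hy
    have hyG := mem_sup_right x.1 y.1 hx hy
    show psiFun η (x.1 + y.1) _ = psiFun η x.1 _ + psiFun η y.1 _
    rw [psiFun_eq η _ (x.1 + y.1) (add_mem hxG hyG), psiFun_eq η _ x.1 hxG,
      psiFun_eq η _ y.1 hyG, ← map_add]
    rfl
  commutes' k := by
    show psiFun η (algebraMap K Ω k) _ = algebraMap K Ω k
    rw [psiFun_eq η (GoodField.simple K (algebraMap K Ω k)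
      (mem_separableClosure_iff.mp (IntermediateField.algebraMap_mem _ k))) (algebraMap K Ω k)
      (IntermediateField.algebraMap_mem _ k)]
    exact (psi η _).commutes k

/-- Every point of a finite étale cover of `Spec K` factors through the canonical point of a good
field. -/
theorem exists_factor (Y : FEt.Cat (Spec (CommRingCat.of K))) (s : FEt.fiberObj (xi K) Y) :
    ∃ (G : GoodField K) (g : YL G ⟶ Y), (FEt.fiber (xi K)).map g (sL G) = s := by
  haveI : Etale Y.hom := Y.prop.2
  obtain ⟨y, φ, hφ⟩ : ∃ (y : Y.left) (φ : Y.left.residueField y ⟶ CommRingCat.of Ω),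
      Spec.map φ ≫ Y.left.fromSpecResidueField y = s.1 :=
    ⟨_, _, (Scheme.SpecToEquivOfField Ω Y.left).left_inv s.1⟩
  letI : Algebra K (Y.left.residueField y) := (EtaleFieldH4.resMap K Y.hom y).hom.toAlgebra
  obtain ⟨hfin0, hsep0⟩ := EtaleFieldH4.finite_separable_residueField K Y.hom y
  haveI hfin : Module.Finite K (Y.left.residueField y) := hfin0
  haveI hsep : Algebra.IsSeparable K (Y.left.residueField y) := hsep0
  have hres : Spec.map (EtaleFieldH4.resMap K Y.hom y) = Y.left.fromSpecResidueField y ≫ Y.hom :=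
    EtaleFieldH4.spec_resMap K Y.hom y
  haveI : Algebra.Etale K (Y.left.residueField y) := EtaleFieldH4.etale_of_finite_separable K _
  have hcomp : EtaleFieldH4.resMap K Y.hom y ≫ φ = CommRingCat.ofHom (algebraMap K Ω) := by
    apply Spec.map_injective
    rw [Spec.map_comp, hres, ← Category.assoc, hφ]
    exact s.2
  let φA : Y.left.residueField y →ₐ[K] Ω :=
    { φ.hom with commutes' := fun k => congrArg (fun f => f.hom k) hcomp }
  let θ : Y.left.residueField y →ₐ[K] φA.fieldRange :=
    { toFun := fun a => ⟨φA a, AlgHom.mem_fieldRange.mpr ⟨a, rfl⟩⟩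
      map_one' := Subtype.ext (map_one φA)
      map_mul' := fun a b => Subtype.ext (map_mul φA a b)
      map_zero' := Subtype.ext (map_zero φA)
      map_add' := fun a b => Subtype.ext (map_add φA a b)
      commutes' := fun k => Subtype.ext (φA.commutes k) }
  have hθ : Function.Surjective θ := by
    rintro ⟨x, hx⟩
    obtain ⟨a, rfl⟩ := AlgHom.mem_fieldRange.mp hx
    exact ⟨a, rfl⟩
  obtain ⟨hfd, hsp⟩ := EtaleFieldH4.finite_separable_of_etale_of_surjective θ hθ
  have hw : (Spec.map (CommRingCat.ofHom θ.toRingHom) ≫ Y.left.fromSpecResidueField y) ≫ Y.hom =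
      Spec.map (CommRingCat.ofHom (algebraMap K φA.fieldRange)) := by
    rw [Category.assoc, ← hres, ← Spec.map_comp]
    exact congrArg Spec.map (CommRingCat.hom_ext (RingHom.ext fun k => θ.commutes k))
  have hval : CommRingCat.ofHom θ.toRingHom ≫ CommRingCat.ofHom φA.fieldRange.val.toRingHom = φ :=
    CommRingCat.hom_ext (RingHom.ext fun a => rfl)
  refine ⟨⟨φA.fieldRange, hfd, hsp⟩, MorphismProperty.Over.homMk
    (Spec.map (CommRingCat.ofHom θ.toRingHom) ≫ Y.left.fromSpecResidueField y) hw trivial,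
    Subtype.ext ?_⟩
  show Spec.map (CommRingCat.ofHom φA.fieldRange.val.toRingHom) ≫
    (Spec.map (CommRingCat.ofHom θ.toRingHom) ≫ Y.left.fromSpecResidueField y) = s.1
  rw [← Category.assoc, ← Spec.map_comp, hval, hφ]

theorem Phi_injective : Function.Injective (Phi K) := by
  rw [injective_iff_map_eq_one]
  intro σ hσ
  have hfix : ∀ (G : GoodField K) (z : G.L), σ z.1 = z.1 := by
    intro G z
    have h1 : (act K σ).app (YL G) (sL G) = sL G :=
      congrArg (fun e : Aut (FEt.fiber (xi K)) => e.hom.app (YL G) (sL G)) hσ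
    have h2 : aS K σ ≫ Spec.map (CommRingCat.ofHom G.L.val.toRingHom) =
        Spec.map (CommRingCat.ofHom G.L.val.toRingHom) := congrArg Subtype.val h1
    have h3 : Spec.map (CommRingCat.ofHom G.L.val.toRingHom ≫
        CommRingCat.ofHom σ.toAlgHom.toRingHom) =
        Spec.map (CommRingCat.ofHom G.L.val.toRingHom) := by
      rw [Spec.map_comp]
      exact h2
    exact congrArg (fun f => f.hom z) (Spec.map_injective h3)
  have hsep : ∀ x : Ω, IsSeparable K x → σ x = x := fun x hx =>
    hfix (GoodField.simple K x hx) ⟨x, mem_adjoin_simple_self K x⟩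
  have h4 := IsPurelyInseparable.injective_comp_algebraMap (separableClosure K Ω) Ω Ω
    (a₁ := σ.toAlgHom.toRingHom) (a₂ := RingHom.id Ω)
    (RingHom.ext fun y => hsep y.1 (mem_separableClosure_iff.mp y.2))
  exact AlgEquiv.ext fun x => congrArg (fun f : Ω →+* Ω => f x) h4

theorem Phi_surjective : Function.Surjective (Phi K) := by
  intro η
  obtain ⟨σ₀, hσ₀⟩ := IntermediateField.exists_algHom_of_splits (F := K) (E := Ω) (K := Ω)
    (fun s => ⟨Algebra.IsIntegral.isIntegral s, IsAlgClosed.splits _⟩) (psiE η.hom)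
  refine ⟨AlgEquiv.ofBijective σ₀ (Algebra.IsAlgebraic.algHom_bijective σ₀), ?_⟩
  refine Iso.ext (NatTrans.ext (funext fun Y => ConcreteCategory.hom_ext _ _
    fun (s : FEt.fiberObj (xi K) Y) => Subtype.ext ?_))
  obtain ⟨G, g, hg⟩ := exists_factor K Y s
  obtain ⟨gl, hgl⟩ : ∃ gl : Spec (CommRingCat.of G.L) ⟶ Y.left, gl = g.left := ⟨g.left, rfl⟩
  have nat := NatTrans.naturality_apply η.hom g (sL G)
  rw [hg] at nat
  have e1 : (η.hom.app Y s).1 =
      Spec.map (CommRingCat.ofHom (psi η.hom G).toRingHom) ≫ gl := by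
    have e0 : (η.hom.app Y s).1 = (pt η.hom G).1 ≫ g.left := congrArg Subtype.val nat
    rw [psi_spec η.hom G] at e0
    rw [hgl]
    exact e0
  have e2 : s.1 = Spec.map (CommRingCat.ofHom G.L.val.toRingHom) ≫ gl := by
    rw [hgl]
    exact (congrArg Subtype.val hg).symm
  have e3 : CommRingCat.ofHom (psi η.hom G).toRingHom =
      CommRingCat.ofHom G.L.val.toRingHom ≫
        CommRingCat.ofHom (AlgEquiv.ofBijective σ₀
          (Algebra.IsAlgebraic.algHom_bijective σ₀)).toAlgHom.toRingHom := by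
    refine CommRingCat.hom_ext (RingHom.ext fun z => ?_)
    have hz : IsSeparable K z.1 := isSep_of_mem K G z.1 z.2
    have h5 : σ₀ z.1 = psiE η.hom ⟨z.1, mem_separableClosure_iff.mpr hz⟩ := by
      rw [← hσ₀]
      rfl
    have h6 : psiE η.hom ⟨z.1, mem_separableClosure_iff.mpr hz⟩ = psi η.hom G z :=
      psiFun_eq η.hom G z.1 z.2 hz
    exact (h5.trans h6).symm
  show aS K _ ≫ s.1 = (η.hom.app Y s).1
  rw [e1, e2, e3, Spec.map_comp, Category.assoc]
  rfl

theorem main0298 : Nonempty (Field.absoluteGaloisGroup K ≃*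
    FEt.piOne (Spec (CommRingCat.of K))
      (Spec.map (CommRingCat.ofHom (algebraMap K (AlgebraicClosure K))))) :=
  ⟨MulEquiv.ofBijective (Phi K) ⟨Phi_injective K, Phi_surjective K⟩⟩

end Groth.Agent.Lib.Pi1FieldH4
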