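import Mathlib
import Groth.Prelude.Def_Pi1X
import Groth.Agent.Lib.Pi1Fib_helper4
import Groth.Agent.Lib.Pi1Whisk_helper4
import Groth.Agent.Lib.Pi1Exact_helper4
set_option autoImplicit false
set_option linter.style.haveILetI false
set_option linter.unusedSectionVars false

universe u v w

namespace Groth.Agent.Lib.Pi1SecH4

open CategoryTheory CategoryTheory.Limits CategoryTheory.PreGaloisCategory
open Groth.Agent.Lib Groth.Agent.Lib.Pi1WhiskH4 Groth.Agent.Lib.Pi1ExactH4

variable {C C' : Type u} [Category.{v} C] [Category.{v} C'] [GaloisCategory C] [GaloisCategory C']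
  (H : C ⥤ C') (F' : C' ⥤ FintypeCat.{w}) [FiberFunctor F'] [FiberFunctor (H ⋙ F')]

theorem main5146 (X : C) (a : (H ⋙ F').obj X) :
    (Pi1X.autWhisker H F').range ≤ MulAction.stabilizer (Aut (H ⋙ F')) a ↔
      ∃ s : ⊤_ C' ⟶ H.obj X, ∀ t : F'.obj (⊤_ C'), F'.map s t = a := by
  have hT : IsTerminal (F'.obj (⊤_ C')) := IsTerminal.isTerminalObj F' _ terminalIsTerminal
  constructor
  · intro hle
    have hfix : ∀ σ' : Aut F', σ'.hom.app (H.obj X) a = a := fun σ' =>
      MulAction.mem_stabilizer_iff.mp (hle (MonoidHom.mem_range.mpr ⟨σ', rfl⟩))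
    exact exists_hom_of_equivariant F' (X := ⊤_ C') (Y := H.obj X) (fun _ => a)
      (fun σ' _ => (hfix σ').symm)
  · rintro ⟨s, hs⟩ _ ⟨σ', rfl⟩
    rw [MulAction.mem_stabilizer_iff]
    obtain ⟨t⟩ := Pi1FibH4.term_nonempty hT
    show σ'.hom.app (H.obj X) a = a
    rw [← hs t]
    have h1 := NatTrans.naturality_apply σ'.hom s t
    rw [h1, Pi1FibH4.term_subsingleton hT (σ'.hom.app (⊤_ C') t) t]

theorem main5147 (X : C) [IsConnected X] (a : (H ⋙ F').obj X) :
    Subgroup.normalClosure ((Pi1X.autWhisker H F').range : Set (Aut (H ⋙ F'))) ≤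
        MulAction.stabilizer (Aut (H ⋙ F')) a ↔
      ∃ n : ℕ, Nonempty (H.obj X ≅ ∐ fun _ : Fin n => ⊤_ C') := by
  rw [← split_iff F' (H.obj X)]
  constructor
  · intro hle σ' y
    haveI := FiberFunctor.isPretransitive_of_isConnected (H ⋙ F') X
    suffices h : ∀ y' : (H ⋙ F').obj X, (Pi1X.autWhisker H F' σ') • y' = y' from h y
    intro y'
    obtain ⟨g, rfl⟩ := MulAction.exists_smul_eq (Aut (H ⋙ F')) a y'
    have h1 : g⁻¹ * Pi1X.autWhisker H F' σ' * g ∈
        Subgroup.normalClosure ((Pi1X.autWhisker H F').range : Set (Aut (H ⋙ F'))) := by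
      have := (Subgroup.normalClosure_normal
        (s := ((Pi1X.autWhisker H F').range : Set (Aut (H ⋙ F'))))).conj_mem _
        (Subgroup.subset_normalClosure (MonoidHom.mem_range.mpr ⟨σ', rfl⟩)) g⁻¹
      simpa using this
    have h2 : (g⁻¹ * Pi1X.autWhisker H F' σ' * g) • a = a :=
      MulAction.mem_stabilizer_iff.mp (hle h1)
    calc (Pi1X.autWhisker H F' σ') • g • a
        = g • (g⁻¹ * Pi1X.autWhisker H F' σ' * g) • a := by simp [mul_smul]
      _ = g • a := by rw [h2]
  · intro hfix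
    have hle : Subgroup.normalClosure ((Pi1X.autWhisker H F').range : Set (Aut (H ⋙ F'))) ≤
        trivSub (H ⋙ F') X := by
      apply Subgroup.normalClosure_le_normal
      rintro _ ⟨σ', rfl⟩
      exact fun y => hfix σ' y
    intro τ hτ
    exact MulAction.mem_stabilizer_iff.mpr (hle hτ a)

end Groth.Agent.Lib.Pi1SecH4
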