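import Mathlib

/-!
# Two topological lemmas on closed surjective maps (helper6)

`topologicalKrullDim_le_of_isClosedMap`: a closed continuous surjection onto a quasi-sober space does
not lower the Krull dimension.
`isPreconnected_preimage_of_isClosedMap`: preimages of closed preconnected sets under closed
continuous surjections with preconnected fibres are preconnected.
APPEND-ONLY once landed.
-/

set_option autoImplicit false
universe u
open TopologicalSpace

namespace Groth.Agent.Lib.TopDimClosedH6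

variable {Y Z : Type*} [TopologicalSpace Y] [TopologicalSpace Z]

/-- The irreducible closed set `closure {y}`. -/
def clIrr (y : Y) : IrreducibleCloseds Y :=
  ⟨closure {y}, isIrreducible_singleton.closure, isClosed_closure⟩

@[simp] theorem coe_clIrr (y : Y) : (clIrr y : Set Y) = closure {y} := rfl

theorem exists_lift_lt [QuasiSober Z] (p : Y → Z) (hpc : Continuous p) (hcl : IsClosedMap p)
    (T T' : IrreducibleCloseds Z) (y : Y) (hgen : IsGenericPoint (p y) (T : Set Z))
    (hTT' : T' < T) :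
    ∃ y' : Y, IsGenericPoint (p y') (T' : Set Z) ∧ clIrr y' < clIrr y := by
  obtain ⟨ξ', hξ'⟩ := QuasiSober.sober T'.isIrreducible T'.isClosed
  have h1 : ξ' ∈ closure {p y} := by
    rw [hgen.def]
    exact hTT'.le hξ'.mem
  have h2 : closure {p y} ⊆ p '' closure {y} := by
    apply closure_minimal _ (hcl _ isClosed_closure)
    rw [Set.singleton_subset_iff]
    exact ⟨y, subset_closure rfl, rfl⟩
  obtain ⟨y', hy'y, hy'⟩ := h2 h1
  refine ⟨y', by rw [hy']; exact hξ', lt_of_le_of_ne ?_ ?_⟩
  · show closure {y'} ⊆ closure {y}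
    exact closure_minimal (Set.singleton_subset_iff.2 hy'y) isClosed_closure
  · intro heq
    have h3 : closure {y} ⊆ closure {y'} :=
      (congrArg (fun C : IrreducibleCloseds Y => (C : Set Y)) heq).ge
    have h4 : y' ⤳ y := specializes_iff_closure_subset.2 h3
    have h5 : p y' ⤳ p y := h4.map hpc
    have h6 : (T : Set Z) ⊆ T' := by
      rw [← hξ'.def, ← hgen.def, ← hy']
      exact specializes_iff_closure_subset.1 h5
    exact absurd hTT' (not_lt_of_ge (show T ≤ T' from h6))

theorem height_le_of_isClosedMap [QuasiSober Z] (p : Y → Z) (hpc : Continuous p)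
    (hcl : IsClosedMap p) (n : ℕ) :
    ∀ (T : IrreducibleCloseds Z) (y : Y), IsGenericPoint (p y) (T : Set Z) →
      Order.height (clIrr y) ≤ (n : ℕ∞) → Order.height T ≤ (n : ℕ∞) := by
  induction n with
  | zero =>
    intro T y hgen hle
    rw [Order.height_le_coe_iff] at hle ⊢
    intro T' hT'
    obtain ⟨y', hy', hlt⟩ := exists_lift_lt p hpc hcl T T' y hgen hT'
    exact absurd (hle _ hlt) (by simp)
  | succ n ih =>
    intro T y hgen hle
    rw [Order.height_le_coe_iff] at hle ⊢
    intro T' hT'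
    obtain ⟨y', hy', hlt⟩ := exists_lift_lt p hpc hcl T T' y hgen hT'
    have h1 := hle _ hlt
    have h2 : Order.height (clIrr y') ≤ (n : ℕ∞) := by
      rw [Nat.cast_succ] at h1
      exact ENat.lt_natCast_add_one_iff.1 h1
    exact lt_of_le_of_lt (ih T' y' hy' h2) (by exact_mod_cast Nat.lt_succ_self n)

theorem height_le_height_of_isClosedMap [QuasiSober Z] (p : Y → Z) (hpc : Continuous p)
    (hcl : IsClosedMap p)
    (T : IrreducibleCloseds Z) (y : Y) (hgen : IsGenericPoint (p y) (T : Set Z)) :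
    Order.height T ≤ Order.height (clIrr y) := by
  by_cases h : Order.height (clIrr y) = ⊤
  · rw [h]; exact le_top
  · obtain ⟨n, hn⟩ := ENat.ne_top_iff_exists.1 h
    rw [← hn]
    exact height_le_of_isClosedMap p hpc hcl n T y hgen hn.ge

/-- a closed continuous surjection onto a quasi-sober space does not lower the dimension. -/
theorem topologicalKrullDim_le_of_isClosedMap [QuasiSober Z] (p : Y → Z) (hpc : Continuous p)
    (hcl : IsClosedMap p) (hsurj : Function.Surjective p) :
    topologicalKrullDim Z ≤ topologicalKrullDim Y := by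
  unfold topologicalKrullDim
  rw [Order.krullDim_eq_iSup_height]
  refine iSup_le fun T => ?_
  obtain ⟨ξ, hξ⟩ := QuasiSober.sober T.isIrreducible T.isClosed
  obtain ⟨y, rfl⟩ := hsurj ξ
  calc ((Order.height T : ℕ∞) : WithBot ℕ∞) ≤ ((Order.height (clIrr y) : ℕ∞) : WithBot ℕ∞) := by
        exact_mod_cast height_le_height_of_isClosedMap p hpc hcl T y hξ
    _ ≤ Order.krullDim (IrreducibleCloseds Y) := Order.height_le_krullDim _

/-- preimages of closed preconnected sets under closed continuous surjections with preconnected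
fibres are preconnected. -/
theorem isPreconnected_preimage_of_isClosedMap {A B : Type*} [TopologicalSpace A]
    [TopologicalSpace B] {p : A → B} (hc : Continuous p) (hcl : IsClosedMap p)
    (hsurj : Function.Surjective p) (hfib : ∀ b, IsPreconnected (p ⁻¹' {b}))
    {T : Set B} (hT : IsPreconnected T) (hTcl : IsClosed T) : IsPreconnected (p ⁻¹' T) := by
  rw [isPreconnected_closed_iff]
  intro t t' ht ht' hsub hnt hnt'
  have hpT : IsClosed (p ⁻¹' T) := hTcl.preimage hc
  have hC : IsClosed (p '' (p ⁻¹' T ∩ t)) := hcl _ (hpT.inter ht)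
  have hC' : IsClosed (p '' (p ⁻¹' T ∩ t')) := hcl _ (hpT.inter ht')
  have hcov : T ⊆ p '' (p ⁻¹' T ∩ t) ∪ p '' (p ⁻¹' T ∩ t') := by
    intro b hb
    obtain ⟨a, rfl⟩ := hsurj b
    rcases hsub hb with h | h
    · exact Or.inl ⟨a, ⟨hb, h⟩, rfl⟩
    · exact Or.inr ⟨a, ⟨hb, h⟩, rfl⟩
  have hn1 : (T ∩ p '' (p ⁻¹' T ∩ t)).Nonempty := by
    obtain ⟨a, haT, hat⟩ := hnt
    exact ⟨p a, haT, a, ⟨haT, hat⟩, rfl⟩
  have hn2 : (T ∩ p '' (p ⁻¹' T ∩ t')).Nonempty := by
    obtain ⟨a, haT, hat⟩ := hnt'
    exact ⟨p a, haT, a, ⟨haT, hat⟩, rfl⟩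
  obtain ⟨b, hbT, ⟨a₁, ⟨ha₁T, ha₁t⟩, ha₁⟩, ⟨a₂, ⟨ha₂T, ha₂t⟩, ha₂⟩⟩ :=
    (isPreconnected_closed_iff.1 hT) _ _ hC hC' hcov hn1 hn2
  have hF := isPreconnected_closed_iff.1 (hfib b) t t' ht ht'
    (fun a (ha : p a = b) => hsub (show p a ∈ T from ha ▸ hbT))
    ⟨a₁, ha₁, ha₁t⟩ ⟨a₂, ha₂, ha₂t⟩
  obtain ⟨a, ha, hatt⟩ := hF
  exact ⟨a, (show p a ∈ T from (show p a = b from ha) ▸ hbT), hatt⟩

end Groth.Agent.Lib.TopDimClosedH6
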