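import Mathlib
import Groth.Prelude
import Groth.Agent.Lib.PiConn3_helper6
import Groth.Agent.Lib.TopDimClosed_helper6
import Groth.Agent.Lib.ZConn4_helper8
import Groth.Agent.Lib.Snap20_helper9
import Groth.Agent.Lib.RegGG_helper9
import Groth.Agent.Lib.ProjSpaceProper_helper4
import Groth.Agent.Lib.ProjTens1_helper9

/-!
# Hyperplane sections of connected covers are connected (helper6)

`main3719`: S3719, via the Stein factorization of `X' ⟶ P^r` and `main16202gen`.
APPEND-ONLY once landed.
-/

set_option autoImplicit false
set_option linter.style.haveILetI false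
universe u
open CategoryTheory CategoryTheory.Limits AlgebraicGeometry TopologicalSpace

namespace Groth.Agent.Lib.PiConnH6

open Groth.Agent.TensInv

section Fib

/-- the fibres of the Stein factorization are connected. -/
theorem isPreconnected_fiber_toNormalization {X Y : Scheme.{u}} (f : X ⟶ Y) [IsProper f]
    [IsLocallyNoetherian Y] (y : f.normalization) :
    _root_.IsPreconnected (f.toNormalization ⁻¹' {y}) := by
  haveI : ConnectedSpace ↥(f.toNormalization.fiber y) :=
    Groth.Agent.Lib.ZConnH8.connectedSpace_pullback_toNormalization f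
      (f.normalization.residueField y) (f.normalization.fromSpecResidueField y)
  have h1 : Set.range (f.toNormalization.fiberι y) = f.toNormalization ⁻¹' {y} :=
    f.toNormalization.range_fiberι y
  rw [← h1]
  exact (isConnected_range (f.toNormalization.fiberι y).continuous).isPreconnected

end Fib

section Main

theorem main3719 (k : Type u) [Field k] (X : Scheme.{u})
    [X.Over (Spec (CommRingCat.of k))] [IsProper (X ↘ Spec (CommRingCat.of k))] [IrreducibleSpace X]
    (hN : Pi1.IsNormalScheme X) (r : ℕ) (g : X ⟶ CohB1.ProjSpace r k)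
    (hg : g ≫ CohB1.ProjSpace.toSpec r k = X ↘ Spec (CommRingCat.of k))
    (hdim : 2 ≤ topologicalKrullDim ↥(closure (Set.range g.base)))
    (ℓ : MvPolynomial (Fin (r + 1)) k) (hℓ : ℓ ∈ CohB1.polyGrading r k 1)
    (X' : FEt.Cat X) [ConnectedSpace X'.left] :
    _root_.IsConnected
      (((X'.hom ≫ g).base ⁻¹' (Proj.basicOpen (CohB1.polyGrading r k) ℓ).carrier)ᶜ) := by
  -- `X` is integral
  haveI : ∀ x : X, _root_.IsReduced (X.presheaf.stalk x) := fun x => by
    haveI := (hN x).1
    infer_instance
  haveI : IsReduced X := isReduced_of_isReduced_stalk _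
  haveI : IsIntegral X := isIntegral_of_irreducibleSpace_of_isReduced _
  obtain ⟨hYint, -⟩ := Groth.Agent.Lib.EtNormal2H4.main0246 hN X'
  haveI := hYint
  let π : X'.left ⟶ X := X'.hom
  haveI : IsFinite π := X'.prop.1
  haveI : Etale π := X'.prop.2
  -- `π` is surjective
  have hπsurj : Function.Surjective π := by
    have hclopen : IsClopen (Set.range π) := ⟨π.isClosedMap.isClosed_range, π.isOpenMap.isOpen_range⟩
    have := hclopen.eq_univ (Set.range_nonempty _)
    exact Set.range_eq_univ.mp this
  -- projective space
  let P := CohB1.ProjSpace r k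
  haveI : IsProper (CohB1.ProjSpace.toSpec r k) :=
    Groth.Agent.Lib.ProjSpaceProperH4.isProper_toSpec r k
  haveI : IsLocallyNoetherian (CohB1.ProjSpace r k) :=
    LocallyOfFiniteType.isLocallyNoetherian (CohB1.ProjSpace.toSpec r k)
  haveI : IsProper g := by
    haveI : IsProper (g ≫ CohB1.ProjSpace.toSpec r k) := by rw [hg]; infer_instance
    exact IsProper.of_comp g (CohB1.ProjSpace.toSpec r k)
  let h : X'.left ⟶ CohB1.ProjSpace r k := π ≫ g
  haveI : IsProper h := inferInstance
  -- the Stein factorization
  let q : X'.left ⟶ h.normalization := h.toNormalization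
  let φ : h.normalization ⟶ CohB1.ProjSpace r k := h.fromNormalization
  haveI : IsFinite φ := SteinFinH3.main1297 h
  haveI : IsProper q := Groth.Agent.Lib.ZConnH8.isProper_toNormalization h
  haveI : Surjective q :=
    surjective_of_isDominant_of_isClosed_range _ q.isClosedMap.isClosed_range
  have hqφ : q ≫ φ = h := h.toNormalization_fromNormalization
  have hfun : ∀ x : X'.left, h.base x = φ.base (q.base x) := fun x =>
    (congrArg (fun m : X'.left ⟶ CohB1.ProjSpace r k => m.base x) hqφ).symm
  haveI : IsIntegral h.normalization := inferInstance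
  haveI : IsProper (φ ≫ CohB1.ProjSpace.toSpec r k) := inferInstance
  haveI : CompactSpace h.normalization :=
    QuasiCompact.compactSpace_of_compactSpace (φ ≫ CohB1.ProjSpace.toSpec r k)
  -- dimension of the Stein factor
  have hrange : closure (Set.range g.base) = Set.range φ := by
    have h1 : Set.range g = Set.range h := by
      show Set.range g = Set.range (π ≫ g)
      rw [Scheme.Hom.comp_base, TopCat.coe_comp, Set.range_comp, Set.range_eq_univ.mpr hπsurj,
        Set.image_univ]
    have h2 : Set.range h = Set.range φ := by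
      ext z
      constructor
      · rintro ⟨x, rfl⟩
        exact ⟨q x, (hfun x).symm⟩
      · rintro ⟨y, rfl⟩
        obtain ⟨x, rfl⟩ := q.surjective y
        exact ⟨x, hfun x⟩
    rw [g.isClosedMap.isClosed_range.closure_eq]
    exact h1.trans h2
  have hdim' : (2 : WithBot ℕ∞) ≤ topologicalKrullDim h.normalization := by
    refine hdim.trans ?_
    rw [hrange]
    let p : h.normalization → ↥(Set.range φ) := Set.rangeFactorization φ
    have hpc : Continuous p := φ.continuous.subtype_mk _
    have hpcl : IsClosedMap p := by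
      intro C hC
      have h1 : IsClosed (φ '' C) := φ.isClosedMap _ hC
      have h2 : p '' C = Subtype.val ⁻¹' (φ '' C) := by
        ext ⟨z, hz⟩
        constructor
        · rintro ⟨c, hc, hcz⟩
          exact ⟨c, hc, congrArg Subtype.val hcz⟩
        · rintro ⟨c, hc, hcz⟩
          exact ⟨c, hc, Subtype.ext hcz⟩
      rw [h2]
      exact h1.preimage continuous_subtype_val
    haveI : QuasiSober ↥(Set.range φ) :=
      (φ.isClosedMap.isClosed_range.isClosedEmbedding_subtypeVal).quasiSober
    exact Groth.Agent.Lib.TopDimClosedH6.topologicalKrullDim_le_of_isClosedMap p hpc hpcl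
      Set.rangeFactorization_surjective
  -- the ample module and its section
  have hO1 : CohB1.IsAmple (Twist.twistProjSpace r k 1) := Snap9.isAmple_twist_one_projSpace k r
  let s : Coh.structureModule (CohB1.ProjSpace r k) ⟶ Twist.twistProjSpace r k 1 :=
    Groth.Agent.ProjTw.secHom1 (CohB1.polyGrading r k) hℓ
  have hsgen : CohB1.genLocus (Twist.twistProjSpace r k 1) s =
      Proj.basicOpen (CohB1.polyGrading r k) ℓ :=
    RegGGH9.genLocus_secHom1' (CohB1.polyGrading r k) (Groth.Agent.ProjTens.hcov' r k) hℓ
  let L' : h.normalization.Modules := (Scheme.Modules.pullback φ).obj (Twist.twistProjSpace r k 1)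
  have hL' : CohB1.IsAmple L' := TensH8.isAmple_pullback_of_isAffineHom φ hO1
  let e : Coh.structureModule h.normalization ≅
      (Scheme.Modules.pullback φ).obj (Coh.structureModule (CohB1.ProjSpace r k)) :=
    (PBH8.pullbackUnitIso φ).symm
  let s' : Coh.structureModule h.normalization ⟶ L' := e.hom ≫ (Scheme.Modules.pullback φ).map s
  have hgl : CohB1.genLocus L' s' = φ ⁻¹ᵁ CohB1.genLocus (Twist.twistProjSpace r k 1) s :=
    GenLocH8.genLocus_pullback φ _ hO1.1 s e
  -- the closed set `T = φ⁻¹(H)`
  let T : Set h.normalization :=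
    (φ.base ⁻¹' (Proj.basicOpen (CohB1.polyGrading r k) ℓ).carrier)ᶜ
  have hTgen : T = ((CohB1.genLocus L' s' : h.normalization.Opens) : Set h.normalization)ᶜ := by
    rw [hgl, hsgen]
    rfl
  have hTcl : IsClosed T := by
    rw [hTgen]
    exact (CohB1.genLocus L' s').isOpen.isClosed_compl
  have hTconn : _root_.IsConnected T := by
    by_cases h0 : s' = 0
    · have h1 : CohB1.genLocus L' s' = ⊥ := by rw [h0]; exact NefTriv.genLocus_zero L'
      rw [hTgen, h1]
      simp only [Opens.coe_bot, Set.compl_empty]
      exact isConnected_univ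
    · have hs' : Mono s' := Groth.Agent.InvInt.mono_of_ne_zero hL'.1 s' h0
      haveI := main16202gen k h.normalization (φ ≫ CohB1.ProjSpace.toSpec r k) hdim' L' hL' s' hs'
      rw [hTgen, ← support_zeroScheme hL'.1 s', ← Scheme.IdealSheafData.range_subschemeι]
      exact isConnected_range (PicF2.zeroScheme L' s').subschemeι.continuous
  -- pull back along `q`
  have hpre : ((X'.hom ≫ g).base ⁻¹' (Proj.basicOpen (CohB1.polyGrading r k) ℓ).carrier)ᶜ =
      q ⁻¹' T := by
    ext x
    show ¬ (h.base x ∈ (Proj.basicOpen (CohB1.polyGrading r k) ℓ).carrier) ↔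
      ¬ (φ.base (q.base x) ∈ (Proj.basicOpen (CohB1.polyGrading r k) ℓ).carrier)
    rw [hfun x]
  rw [hpre]
  refine ⟨?_, ?_⟩
  · obtain ⟨t, ht⟩ := hTconn.nonempty
    obtain ⟨x, rfl⟩ := q.surjective t
    exact ⟨x, ht⟩
  · exact Groth.Agent.Lib.TopDimClosedH6.isPreconnected_preimage_of_isClosedMap q.continuous
      q.isClosedMap q.surjective (fun y => isPreconnected_fiber_toNormalization h y)
      hTconn.isPreconnected hTcl

end Main

end Groth.Agent.Lib.PiConnH6
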