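import Mathlib
import Groth.Prelude.Def_DeltaF

/-!
# Products of δ-functors with values in abelian groups (helper7)

For a family `T j` of cohomological δ-functors `A ⥤ Ab`, the pointwise product
`X ↦ ∏_j (T j).F n X` (as the concrete Pi type) is again a δ-functor.
-/

set_option autoImplicit false
set_option backward.isDefEq.respectTransparency false
set_option backward.isDefEq.respectTransparency.types false
set_option linter.style.haveILetI false
set_option linter.unusedSectionVars false
universe u v₁ u₁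
open CategoryTheory CategoryTheory.Limits DeltaF

namespace Groth.Agent.Lib.PiDeltaH7

variable {J : Type u}

/-- product of morphisms of abelian groups -/
def piHom {X Y : J → AddCommGrpCat.{u}} (f : ∀ j, X j ⟶ Y j) :
    AddCommGrpCat.of (∀ j, X j) ⟶ AddCommGrpCat.of (∀ j, Y j) :=
  AddCommGrpCat.ofHom (AddMonoidHom.pi (fun j => (f j).hom.comp (Pi.evalAddMonoidHom _ j)))

lemma piHom_apply {X Y : J → AddCommGrpCat.{u}} (f : ∀ j, X j ⟶ Y j) (x : ∀ j, X j) (j : J) :
    (piHom f).hom x j = (f j).hom (x j) := rfl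

lemma piHom_comp {X Y Z : J → AddCommGrpCat.{u}} (f : ∀ j, X j ⟶ Y j) (g : ∀ j, Y j ⟶ Z j) :
    piHom f ≫ piHom g = piHom (fun j => f j ≫ g j) := by
  ext x
  rfl

lemma piHom_id (X : J → AddCommGrpCat.{u}) : piHom (fun j => 𝟙 (X j)) = 𝟙 _ := by
  ext x
  rfl

lemma piHom_zero (X Y : J → AddCommGrpCat.{u}) : piHom (fun j => (0 : X j ⟶ Y j)) = 0 := by
  ext x
  rfl

lemma piHom_add {X Y : J → AddCommGrpCat.{u}} (f g : ∀ j, X j ⟶ Y j) :
    piHom (fun j => f j + g j) = piHom f + piHom g := by
  ext x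
  rfl

/-- product of isomorphisms -/
def piIso {X Y : J → AddCommGrpCat.{u}} (e : ∀ j, X j ≅ Y j) :
    AddCommGrpCat.of (∀ j, X j) ≅ AddCommGrpCat.of (∀ j, Y j) where
  hom := piHom (fun j => (e j).hom)
  inv := piHom (fun j => (e j).inv)
  hom_inv_id := by
    rw [piHom_comp]
    have : (fun j => (e j).hom ≫ (e j).inv) = fun j => 𝟙 (X j) := by
      funext j
      exact (e j).hom_inv_id
    rw [this, piHom_id]
  inv_hom_id := by
    rw [piHom_comp]
    have : (fun j => (e j).inv ≫ (e j).hom) = fun j => 𝟙 (Y j) := by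
      funext j
      exact (e j).inv_hom_id
    rw [this, piHom_id]

lemma isZero_pi {X : J → AddCommGrpCat.{u}} (h : ∀ j, IsZero (X j)) :
    IsZero (AddCommGrpCat.of (∀ j, X j)) := by
  haveI : ∀ j, Subsingleton (X j) := fun j => AddCommGrpCat.subsingleton_of_isZero (h j)
  exact AddCommGrpCat.isZero_of_subsingleton _

theorem pi_exact {X Y Z : J → AddCommGrpCat.{u}} (f : ∀ j, X j ⟶ Y j) (g : ∀ j, Y j ⟶ Z j)
    (w : ∀ j, f j ≫ g j = 0) (h : ∀ j, (ShortComplex.mk (f j) (g j) (w j)).Exact)
    (w' : piHom f ≫ piHom g = 0) : (ShortComplex.mk (piHom f) (piHom g) w').Exact := by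
  rw [ShortComplex.ab_exact_iff]
  intro y hy
  have hex : ∀ j, ∃ x : X j, (f j).hom x = y j := fun j =>
    ((ShortComplex.ab_exact_iff _).1 (h j)) (y j) (congrFun hy j)
  choose x hx using hex
  exact ⟨x, funext hx⟩

section Functor

variable {A : Type u₁} [Category.{v₁} A]

/-- pointwise product of functors to abelian groups -/
def piFunctor (F : J → A ⥤ AddCommGrpCat.{u}) : A ⥤ AddCommGrpCat.{u} where
  obj X := AddCommGrpCat.of (∀ j, (F j).obj X)
  map f := piHom (fun j => (F j).map f)
  map_id X := by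
    have : (fun j => (F j).map (𝟙 X)) = fun j => 𝟙 ((F j).obj X) := by
      funext j
      exact (F j).map_id X
    rw [this, piHom_id]
  map_comp f g := by
    rw [piHom_comp]
    congr 1
    funext j
    exact (F j).map_comp f g

lemma piFunctor_map (F : J → A ⥤ AddCommGrpCat.{u}) {X Y : A} (f : X ⟶ Y) :
    (piFunctor F).map f = piHom (fun j => (F j).map f) := rfl

instance piFunctor_additive [Preadditive A] (F : J → A ⥤ AddCommGrpCat.{u})
    [∀ j, (F j).Additive] : (piFunctor F).Additive where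
  map_add {X Y f g} := by
    rw [piFunctor_map, piFunctor_map, piFunctor_map, ← piHom_add]
    congr 1
    funext j
    exact (F j).map_add

/-- product of natural isomorphisms -/
def piFunctorIso {F F' : J → A ⥤ AddCommGrpCat.{u}} (e : ∀ j, F j ≅ F' j) :
    piFunctor F ≅ piFunctor F' :=
  NatIso.ofComponents (fun X => piIso (fun j => (e j).app X)) (fun {X Y} f => by
    show piHom _ ≫ piHom _ = piHom _ ≫ piHom _
    rw [piHom_comp, piHom_comp]
    congr 1
    funext j
    exact (e j).hom.naturality f)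

end Functor

section Delta

variable {A : Type u₁} [Category.{v₁} A] [Abelian A]

/-- pointwise product of δ-functors -/
noncomputable def piDelta (T : J → CohDeltaFunctor A AddCommGrpCat.{u} ℕ) :
    CohDeltaFunctor A AddCommGrpCat.{u} ℕ where
  F n := piFunctor (fun j => (T j).F n)
  additive n := inferInstance
  δ S hS n₀ n₁ h := piHom (fun j => (T j).δ S hS n₀ n₁ h)
  δ_natural {S S'} hS hS' φ n₀ n₁ h := by
    rw [piFunctor_map, piFunctor_map, piHom_comp, piHom_comp]
    congr 1
    funext j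
    exact (T j).δ_natural hS hS' φ n₀ n₁ h
  exact₂ S hS n := pi_exact _ _ _ (fun j => (T j).exact₂ S hS n) _
  comp_δ S hS n₀ n₁ h := by
    rw [piFunctor_map, piHom_comp]
    have : (fun j => ((T j).F n₀).map S.g ≫ (T j).δ S hS n₀ n₁ h) = fun j => 0 := by
      funext j
      exact (T j).comp_δ S hS n₀ n₁ h
    rw [this, piHom_zero]
  exact₃ S hS n₀ n₁ h := pi_exact _ _ _ (fun j => (T j).exact₃ S hS n₀ n₁ h) _
  δ_comp S hS n₀ n₁ h := by
    rw [piFunctor_map, piHom_comp]
    have : (fun j => (T j).δ S hS n₀ n₁ h ≫ ((T j).F n₁).map S.f) = fun j => 0 := by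
      funext j
      exact (T j).δ_comp S hS n₀ n₁ h
    rw [this, piHom_zero]
  exact₁ S hS n₀ n₁ h := pi_exact _ _ _ (fun j => (T j).exact₁ S hS n₀ n₁ h) _

lemma piDelta_F (T : J → CohDeltaFunctor A AddCommGrpCat.{u} ℕ) (n : ℕ) :
    (piDelta T).F n = piFunctor (fun j => (T j).F n) := rfl

end Delta

end Groth.Agent.Lib.PiDeltaH7
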