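import Mathlib

set_option autoImplicit false
universe u
open CategoryTheory CategoryTheory.Limits AlgebraicGeometry TopologicalSpace

namespace Groth.Agent.Lib.PiField_helper6

theorem flat_of_pi_field {ι : Type u} [Finite ι] (k : ι → Type u) [∀ i, Field (k i)]
    {X : Scheme.{u}} (f : X ⟶ Spec (CommRingCat.of (Π i, k i))) : Flat f := by
  rw [HasRingHomProperty.iff_of_source_openCover (P := @Flat) X.affineCover]
  intro i
  set φ := (X.affineCover.f i ≫ f).appTop with hφ
  have h1 : ((Scheme.ΓSpecIso (CommRingCat.of (Π i, k i))).inv ≫ φ).hom.Flat := by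
    letI := ((Scheme.ΓSpecIso (CommRingCat.of (Π i, k i))).inv ≫ φ).hom.toAlgebra
    show Module.Flat (Π i, k i) _
    haveI := Module.projective_of_isSemisimpleRing (Π i, k i) (Γ(X.affineCover.X i, ⊤))
    infer_instance
  have h2 : φ = (Scheme.ΓSpecIso _).hom ≫
      ((Scheme.ΓSpecIso (CommRingCat.of (Π i, k i))).inv ≫ φ) := by simp
  rw [h2, CommRingCat.hom_comp]
  exact RingHom.Flat.comp (RingHom.Flat.of_bijective (ConcreteCategory.bijective_of_isIso _)) h1

theorem isOpenImmersion_of_flat_mono_of_finite {X Y : Scheme.{u}} (f : X ⟶ Y) [Flat f] [Mono f]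
    [Finite X] [DiscreteTopology Y] : IsOpenImmersion f := by
  have hopen : IsOpen (Set.range f) := isOpen_discrete _
  let U : Y.Opens := ⟨Set.range f, hopen⟩
  have hU : IsOpenImmersion U.ι := U.instIsOpenImmersionι
  let f' := hU.lift U.ι f (by simp [U])
  have heq : f = f' ≫ U.ι := by simp [f']
  have hflat' : Flat f' :=
    MorphismProperty.of_postcomp (W := @Flat) f' U.ι hU (by rwa [← heq])
  have hmono' : Mono f' := mono_of_mono_fac heq.symm
  haveI : Surjective f' := ⟨fun ⟨x, ⟨y, hy⟩⟩ ↦
      ⟨y, by apply U.ι.injective; simp [← Scheme.Hom.comp_apply, f', hy]⟩⟩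
  haveI : QuasiCompact f' := ⟨fun V _ _ => (Set.toFinite _).isCompact⟩
  haveI := Flat.isIso_of_surjective_of_mono f'
  rw [heq]
  infer_instance

theorem exists_iso {ι : Type u} [Finite ι] (k : ι → Type u) [∀ i, Field (k i)]
    {X : Scheme.{u}} (f : X ⟶ Spec (CommRingCat.of (Π i, k i))) [Mono f] :
    ∃ (I : Set ι) (e : X ≅ Spec (CommRingCat.of (Π i : I, k i))),
      e.hom ≫ Spec.map (CommRingCat.ofHom (Pi.ringHom fun i : I => Pi.evalRingHom k i.1)) = f := by
  classical
  haveI : IsArtinianRing (Π i, k i) := inferInstance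
  haveI : Finite (Spec (CommRingCat.of (Π i, k i))) :=
    inferInstanceAs (Finite (PrimeSpectrum (Π i, k i)))
  haveI : DiscreteTopology (Spec (CommRingCat.of (Π i, k i))) :=
    inferInstanceAs (DiscreteTopology (PrimeSpectrum (Π i, k i)))
  haveI := flat_of_pi_field k f
  haveI : Finite X := Finite.of_injective _ f.injective
  haveI hf := isOpenImmersion_of_flat_mono_of_finite f
  let pt : ι → Spec (CommRingCat.of (Π i, k i)) := fun i =>
    (⟨RingHom.ker (Pi.evalRingHom k i), RingHom.ker_isPrime _⟩ : PrimeSpectrum (Π i, k i))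
  have hpt : ∀ p : Spec (CommRingCat.of (Π i, k i)), ∃ i, pt i = p := by
    intro p
    obtain ⟨i, q, hq⟩ := PrimeSpectrum.exists_comap_evalRingHom_eq (R := k) p
    refine ⟨i, ?_⟩
    rw [← hq]
    apply PrimeSpectrum.ext
    have hq0 : q.asIdeal = ⊥ := Ideal.eq_bot_of_prime q.asIdeal
    show RingHom.ker (Pi.evalRingHom k i) = Ideal.comap (Pi.evalRingHom k i) q.asIdeal
    rw [hq0, RingHom.ker_eq_comap_bot]
  let I : Set ι := {i | pt i ∈ Set.range f}
  let π : CommRingCat.of (Π i, k i) ⟶ CommRingCat.of (Π i : I, k i) :=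
    CommRingCat.ofHom (Pi.ringHom fun i : I => Pi.evalRingHom k i.1)
  have hsurj : Function.Surjective π.hom := by
    intro y
    refine ⟨fun i => if h : i ∈ I then y ⟨i, h⟩ else 0, ?_⟩
    funext j
    show (if h : j.1 ∈ I then y ⟨j.1, h⟩ else 0) = y j
    rw [dif_pos j.2]
  let g := Spec.map π
  haveI : IsClosedImmersion g := IsClosedImmersion.spec_of_surjective π hsurj
  haveI := flat_of_pi_field k g
  haveI : Finite (Spec (CommRingCat.of (Π i : I, k i))) := Finite.of_injective _ g.injective
  haveI hg := isOpenImmersion_of_flat_mono_of_finite g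
  have hrg : Set.range g = PrimeSpectrum.zeroLocus (R := (Π i, k i)) (RingHom.ker π.hom) :=
    range_comap_of_surjective _ _ hsurj
  have key : ∀ i, pt i ∈ Set.range g ↔ i ∈ I := by
    intro i
    rw [hrg]
    show ((RingHom.ker π.hom : Ideal (Π i, k i)) : Set (Π i, k i)) ⊆
      (RingHom.ker (Pi.evalRingHom k i) : Ideal (Π i, k i)) ↔ i ∈ I
    constructor
    · intro h
      by_contra hi
      have h1 : (Pi.single i 1 : Π i, k i) ∈ RingHom.ker π.hom := by
        rw [RingHom.mem_ker]
        funext j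
        show (Pi.single i 1 : Π i, k i) j.1 = 0
        refine Pi.single_eq_of_ne ?_ _
        intro hji
        exact hi (hji ▸ j.2)
      have h2 : (Pi.single i 1 : Π i, k i) ∈ RingHom.ker (Pi.evalRingHom k i) := h h1
      rw [RingHom.mem_ker] at h2
      simp at h2
    · intro hi x hx
      rw [SetLike.mem_coe, RingHom.mem_ker] at hx
      show x ∈ RingHom.ker (Pi.evalRingHom k i)
      rw [RingHom.mem_ker]
      exact congrFun hx ⟨i, hi⟩
  have hrange : Set.range f = Set.range g := by
    ext p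
    obtain ⟨i, rfl⟩ := hpt p
    rw [key i]
    rfl
  exact ⟨I, IsOpenImmersion.isoOfRangeEq f g hrange,
    IsOpenImmersion.isoOfRangeEq_hom_fac f g hrange⟩

end Groth.Agent.Lib.PiField_helper6
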