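import Mathlib

/-!
# Localizations of products of domains at primes
-/

namespace Groth.Agent.Lib.PiLocal

universe u

variable {ι : Type u} (R : ι → Type u) [∀ i, CommRing (R i)]
  (P : Ideal (∀ i, R i)) [P.IsPrime]

/-- indicator idempotent -/
noncomputable def ind (p : ι → Prop) : ∀ i, R i :=
  fun i => by classical exact if p i then 1 else 0

theorem ind_pos {p : ι → Prop} {i : ι} (h : p i) : ind R p i = 1 := by
  classical simp [ind, h]

theorem ind_neg {p : ι → Prop} {i : ι} (h : ¬ p i) : ind R p i = 0 := by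
  classical simp [ind, h]

theorem ind_or (p : ι → Prop) : ind R p ∉ P ∨ ind R (fun i => ¬ p i) ∉ P := by
  by_contra h
  push_neg at h
  have : (1 : ∀ i, R i) = ind R p + ind R (fun i => ¬ p i) := by
    funext i
    by_cases hp : p i
    · rw [Pi.add_apply, ind_pos R hp, ind_neg R (not_not.mpr hp), add_zero]; rfl
    · rw [Pi.add_apply, ind_neg R hp, ind_pos R hp, zero_add]; rfl
  have h1 : (1 : ∀ i, R i) ∈ P := by rw [this]; exact P.add_mem h.1 h.2
  exact (Ideal.ne_top_iff_one P).mp (Ideal.IsPrime.ne_top ‹_›) h1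

variable [∀ i, IsDomain (R i)]

theorem isDomain_loc : IsDomain (Localization.AtPrime P) := by
  haveI : Nontrivial (Localization.AtPrime P) := inferInstance
  haveI : NoZeroDivisors (Localization.AtPrime P) := by
    refine ⟨?_⟩
    intro x y hxy
    obtain ⟨a, s, rfl⟩ := IsLocalization.exists_mk'_eq P.primeCompl x
    obtain ⟨b, t, rfl⟩ := IsLocalization.exists_mk'_eq P.primeCompl y
    rw [← IsLocalization.mk'_mul, IsLocalization.mk'_eq_zero_iff] at hxy
    obtain ⟨u, hu⟩ := hxy
    rcases ind_or R P (fun i => a i = 0) with h | h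
    · left
      rw [IsLocalization.mk'_eq_zero_iff]
      refine ⟨⟨_, h⟩, ?_⟩
      funext i
      show ind R (fun i => a i = 0) i * a i = 0
      by_cases hi : a i = 0
      · rw [hi, mul_zero]
      · rw [ind_neg R hi, zero_mul]
    · right
      rw [IsLocalization.mk'_eq_zero_iff]
      refine ⟨⟨ind R (fun i => ¬ a i = 0), h⟩ * u, ?_⟩
      funext i
      have hui : (u : ∀ i, R i) i * (a i * b i) = 0 := congrFun hu i
      show ind R (fun i => ¬ a i = 0) i * (u : ∀ i, R i) i * b i = 0
      by_cases hi : a i = 0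
      · rw [ind_neg R (not_not.mpr hi), zero_mul, zero_mul]
      · have : (u : ∀ i, R i) i * b i = 0 := by
          rcases mul_eq_zero.mp hui with h1 | h1
          · rw [h1, zero_mul]
          · rcases mul_eq_zero.mp h1 with h2 | h2
            · exact absurd h2 hi
            · rw [h2, mul_zero]
        rw [mul_assoc, this, mul_zero]
  exact NoZeroDivisors.to_isDomain _

theorem preValuationRing_loc [∀ i, ValuationRing (R i)] :
    PreValuationRing (Localization.AtPrime P) := by
  classical
  refine ⟨?_⟩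
  intro x y
  obtain ⟨a, s, rfl⟩ := IsLocalization.exists_mk'_eq P.primeCompl x
  obtain ⟨b, t, rfl⟩ := IsLocalization.exists_mk'_eq P.primeCompl y
  have hc : ∀ i, ∃ c : R i, a i * c = b i ∨ b i * c = a i :=
    fun i => PreValuationRing.cond (a i) (b i)
  choose c hc using hc
  rcases ind_or R P (fun i => a i * c i = b i) with h | h
  · refine ⟨IsLocalization.mk' _ (c * (s : ∀ i, R i)) t, Or.inl ?_⟩
    rw [← IsLocalization.mk'_mul, IsLocalization.eq]
    refine ⟨⟨_, h⟩, ?_⟩
    funext i
    show ind R (fun i => a i * c i = b i) i * ((t : ∀ i, R i) i * (a i * (c i * (s : ∀ i, R i) i))) =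
      ind R (fun i => a i * c i = b i) i * (((s : ∀ i, R i) i * (t : ∀ i, R i) i) * b i)
    by_cases hi : a i * c i = b i
    · rw [← hi]; ring
    · rw [ind_neg R hi, zero_mul, zero_mul]
  · refine ⟨IsLocalization.mk' _ (c * (t : ∀ i, R i)) s, Or.inr ?_⟩
    rw [← IsLocalization.mk'_mul, IsLocalization.eq]
    refine ⟨⟨_, h⟩, ?_⟩
    funext i
    show ind R (fun i => ¬ a i * c i = b i) i *
        ((s : ∀ i, R i) i * (b i * (c i * (t : ∀ i, R i) i))) =
      ind R (fun i => ¬ a i * c i = b i) i * (((t : ∀ i, R i) i * (s : ∀ i, R i) i) * a i)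
    by_cases hi : a i * c i = b i
    · rw [ind_neg R (not_not.mpr hi), zero_mul, zero_mul]
    · rw [← (hc i).resolve_left hi]; ring

end Groth.Agent.Lib.PiLocal
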