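import Mathlib
import Groth.Agent.Lib.PiLocal_lead

/-!
# Localizations of products of integrally closed domains at primes are integrally closed
-/

namespace Groth.Agent.Lib.PiLocal

universe u

variable {ι : Type u} (R : ι → Type u) [∀ i, CommRing (R i)]
  (P : Ideal (∀ i, R i)) [P.IsPrime] [∀ i, IsDomain (R i)]

theorem isIntegrallyClosed_loc [∀ i, IsIntegrallyClosed (R i)] :
    IsIntegrallyClosed (Localization.AtPrime P) := by
  classical
  haveI hdom : IsDomain (Localization.AtPrime P) := isDomain_loc R P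
  rw [isIntegrallyClosed_iff (FractionRing (Localization.AtPrime P))]
  intro x hx
  let φL : (∀ i, R i) →+* Localization.AtPrime P := algebraMap _ _
  let ι' : Localization.AtPrime P →+* FractionRing (Localization.AtPrime P) := algebraMap _ _
  let φ : (∀ i, R i) →+* FractionRing (Localization.AtPrime P) := ι'.comp φL
  have hι : Function.Injective ι' := IsFractionRing.injective _ _
  have hunit : ∀ s : P.primeCompl, φ (s : ∀ i, R i) ≠ 0 := by
    intro s
    have h1 : IsUnit (φL (s : ∀ i, R i)) := IsLocalization.map_units _ s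
    have h2 : IsUnit (ι' (φL (s : ∀ i, R i))) := h1.map ι'
    exact h2.ne_zero
  obtain ⟨m, g, hgm, hg⟩ :=
    IsIntegral.exists_multiple_integral_of_isLocalization P.primeCompl x hx
  have hφeq : algebraMap (∀ i, R i) (FractionRing (Localization.AtPrime P)) = φ :=
    IsScalarTower.algebraMap_eq (∀ i, R i) (Localization.AtPrime P)
      (FractionRing (Localization.AtPrime P))
  have hmx : (m • x : FractionRing (Localization.AtPrime P)) = φ (m : ∀ i, R i) * x := by
    rw [Submonoid.smul_def, Algebra.smul_def, hφeq]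
  rw [hmx] at hg
  have hg0 : Polynomial.eval₂ (algebraMap (∀ i, R i) (FractionRing (Localization.AtPrime P)))
      (φ (m : ∀ i, R i) * x) g = 0 := hg
  rw [hφeq] at hg0
  have hg' : Polynomial.eval₂ φ (φ (m : ∀ i, R i) * x) g = 0 := hg0
  obtain ⟨α, β, hβ, hαβ⟩ := IsFractionRing.div_surjective (Localization.AtPrime P) x
  obtain ⟨a, s, rfl⟩ := IsLocalization.exists_mk'_eq P.primeCompl α
  obtain ⟨b, t, rfl⟩ := IsLocalization.exists_mk'_eq P.primeCompl β
  have hα : ι' (IsLocalization.mk' _ a s) * φ (s : ∀ i, R i) = φ a := by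
    show ι' _ * ι' (φL _) = ι' (φL a)
    rw [← map_mul]; congr 1; exact IsLocalization.mk'_spec _ a s
  have hβ' : ι' (IsLocalization.mk' _ b t) * φ (t : ∀ i, R i) = φ b := by
    show ι' _ * ι' (φL _) = ι' (φL b)
    rw [← map_mul]; congr 1; exact IsLocalization.mk'_spec _ b t
  have hβ0 : ι' (IsLocalization.mk' (Localization.AtPrime P) b t) ≠ 0 := by
    intro h0
    have := hι (h0.trans (map_zero ι').symm)
    exact (nonZeroDivisors.ne_zero hβ) this
  have hs0 := hunit s
  have ht0 := hunit t
  have hb0 : φ b ≠ 0 := by rw [← hβ']; exact mul_ne_zero hβ0 ht0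
  obtain ⟨a', ha'⟩ : ∃ a' : ∀ i, R i, a' = (m : ∀ i, R i) * a * t := ⟨_, rfl⟩
  obtain ⟨b', hb'⟩ : ∃ b' : ∀ i, R i, b' = (s : ∀ i, R i) * b := ⟨_, rfl⟩
  have hb'0 : φ b' ≠ 0 := by rw [hb', map_mul]; exact mul_ne_zero hs0 hb0
  have hx' : φ (m : ∀ i, R i) * x = φ a' / φ b' := by
    rw [← hαβ, ha', hb']
    have e1 : ι' (IsLocalization.mk' _ a s) = φ a / φ (s : ∀ i, R i) := by
      rw [eq_div_iff hs0]; exact hα
    have e2 : ι' (IsLocalization.mk' _ b t) = φ b / φ (t : ∀ i, R i) := by
      rw [eq_div_iff ht0]; exact hβ'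
    show φ _ * (ι' _ / ι' _) = _
    rw [e1, e2, map_mul, map_mul, map_mul]
    field_simp
  rw [hx'] at hg'
  have h3 : Polynomial.eval₂ φ (φ a') (Polynomial.scaleRoots g b') = 0 := by
    have := Polynomial.scaleRoots_eval₂_eq_zero φ (s := b') hg'
    rwa [mul_div_cancel₀ _ hb'0] at this
  rw [Polynomial.eval₂_at_apply] at h3
  have h4 : φL (Polynomial.eval a' (Polynomial.scaleRoots g b')) = 0 :=
    hι (h3.trans (map_zero ι').symm)
  obtain ⟨v, hv⟩ := (IsLocalization.map_eq_zero_iff P.primeCompl (Localization.AtPrime P) _).mp h4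
  have hdiv : ∀ i, (v : ∀ i, R i) i ≠ 0 → b' i ≠ 0 → ∃ w : R i, a' i = b' i * w := by
    intro i hvi hbi
    have hz : Polynomial.eval a' (Polynomial.scaleRoots g b') i = 0 := by
      have h := congrFun hv i
      rcases mul_eq_zero.mp h with h | h
      · exact absurd h hvi
      · exact h
    let ψ : R i →+* FractionRing (R i) := algebraMap _ _
    let f : (∀ i, R i) →+* FractionRing (R i) := ψ.comp (Pi.evalRingHom R i)
    have hψ : Function.Injective ψ := IsFractionRing.injective _ _
    have hfb : f b' ≠ 0 := by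
      intro h0; exact hbi (hψ (h0.trans (map_zero ψ).symm))
    have h5 := Polynomial.scaleRoots_eval₂_mul f (f a' / f b') b' (p := g)
    have e : f b' * (f a' / f b') = f a' := mul_div_cancel₀ _ hfb
    rw [e, Polynomial.eval₂_at_apply] at h5
    have hfz : f (Polynomial.eval a' (Polynomial.scaleRoots g b')) = 0 := by
      show ψ (Polynomial.eval a' (Polynomial.scaleRoots g b') i) = 0
      rw [hz, map_zero]
    rw [hfz] at h5
    have h6 : Polynomial.eval₂ f (f a' / f b') g = 0 := by
      rcases mul_eq_zero.mp h5.symm with h | h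
      · exact absurd h (pow_ne_zero _ hfb)
      · exact h
    have hint : IsIntegral (R i) (f a' / f b') := by
      refine ⟨g.map (Pi.evalRingHom R i), hgm.map _, ?_⟩
      rw [Polynomial.eval₂_map]; exact h6
    obtain ⟨w, hw⟩ := IsIntegrallyClosed.algebraMap_eq_of_integral hint
    refine ⟨w, ?_⟩
    apply hψ
    show ψ (a' i) = ψ (b' i * w)
    rw [map_mul]
    have hw' : ψ w = f a' / f b' := hw
    rw [hw']
    show f a' = f b' * (f a' / f b')
    rw [e]
  rcases ind_or R P (fun i => ∃ w : R i, a' i = b' i * w) with h | h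
  · have hw : ∀ i, ∃ w : R i, (∃ w : R i, a' i = b' i * w) → a' i = b' i * w := by
      intro i
      by_cases hi : ∃ w : R i, a' i = b' i * w
      · obtain ⟨w, hw⟩ := hi; exact ⟨w, fun _ => hw⟩
      · exact ⟨0, fun h => absurd h hi⟩
    choose w hw using hw
    have h7 : φL a' = φL (b' * w) := by
      rw [IsLocalization.eq_iff_exists P.primeCompl (Localization.AtPrime P)]
      refine ⟨⟨_, h⟩, ?_⟩
      funext i
      show ind R (fun i => ∃ w : R i, a' i = b' i * w) i * a' i =
        ind R (fun i => ∃ w : R i, a' i = b' i * w) i * (b' i * w i)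
      by_cases hi : ∃ w : R i, a' i = b' i * w
      · rw [← hw i hi]
      · rw [ind_neg R hi, zero_mul, zero_mul]
    refine ⟨IsLocalization.mk' _ w m, ?_⟩
    have h8 : φ (m : ∀ i, R i) * x = φ w := by
      rw [hx', div_eq_iff hb'0]
      show ι' (φL a') = ι' (φL w) * ι' (φL b')
      rw [h7, map_mul, map_mul]; ring
    have h9 : ι' (IsLocalization.mk' _ w m) * φ (m : ∀ i, R i) = φ w := by
      show ι' _ * ι' (φL _) = ι' (φL w)
      rw [← map_mul]; congr 1; exact IsLocalization.mk'_spec _ w m
    have h10 : ι' (IsLocalization.mk' _ w m) * φ (m : ∀ i, R i) = x * φ (m : ∀ i, R i) := by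
      rw [h9, ← h8, mul_comm]
    exact mul_right_cancel₀ (hunit m) h10
  · exfalso
    have h10 : φL b' = 0 := by
      rw [IsLocalization.map_eq_zero_iff P.primeCompl (Localization.AtPrime P)]
      refine ⟨⟨_, h⟩ * v, ?_⟩
      funext i
      show ind R (fun i => ¬ ∃ w : R i, a' i = b' i * w) i * (v : ∀ i, R i) i * b' i = 0
      by_cases hi : ∃ w : R i, a' i = b' i * w
      · rw [ind_neg R (not_not.mpr hi), zero_mul, zero_mul]
      · by_cases hvi : (v : ∀ i, R i) i = 0
        · rw [hvi, mul_zero, zero_mul]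
        · by_cases hbi : b' i = 0
          · rw [hbi, mul_zero]
          · exact absurd (hdiv i hvi hbi) hi
    apply hb'0
    show ι' (φL b') = 0
    rw [h10, map_zero]

end Groth.Agent.Lib.PiLocal
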