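import Mathlib
import Groth.Prelude
import Groth.Agent.Lib.FEtFinExt2_helper3

/-!
# A finite étale cover of `X` split over `k̄` is dominated by `V ×_k X`, `V` finite étale over `k`
(helper3)
-/

set_option autoImplicit false
set_option linter.all false
set_option maxHeartbeats 1600000

universe u

open CategoryTheory CategoryTheory.Limits AlgebraicGeometry

namespace Groth.Agent.Lib.PiOneSplitH3

open Groth.Agent.Lib.FEtFinExtH3

theorem etale_of_finite_separable (k L : Type u) [Field k] [Field L] [Algebra k L]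
    [FiniteDimensional k L] [Algebra.IsSeparable k L] : Algebra.Etale k L where
  formallyEtale := Algebra.FormallyEtale.of_isSeparable k L
  finitePresentation := (Algebra.FinitePresentation.of_finiteType).mp inferInstance

theorem etale_sF (k L : Type u) [Field k] [Field L] [Algebra k L]
    [FiniteDimensional k L] [Algebra.IsSeparable k L] : Etale (sF k L) := by
  haveI := etale_of_finite_separable k L
  rw [HasRingHomProperty.Spec_iff (P := @Etale)]
  exact RingHom.etale_algebraMap.mpr inferInstance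

theorem isFinite_sF (k L : Type u) [Field k] [Field L] [Algebra k L]
    [FiniteDimensional k L] : IsFinite (sF k L) := by
  rw [IsFinite.SpecMap_iff]
  exact RingHom.finite_algebraMap.mpr inferInstance

section OneSection

variable {k : Type u} (K : Type u) [Field k] [Field K] [Algebra k K] [Algebra.IsAlgebraic k K]
  {X : Scheme.{u}} (f : X ⟶ Spec (CommRingCat.of k)) [CompactSpace ↥X] [QuasiSeparatedSpace ↥X]

/-- An `X`-morphism from `X_K` to an étale `X`-scheme is dominated by an `X`-morphism from `X_M`,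
`M` finite separable over `k`. -/
theorem exists_sep_section {U : Scheme.{u}} (h : U ⟶ X) [Etale h]
    (τ : pullback f (sF k K) ⟶ U) (hτ : τ ≫ h = pullback.fst f (sF k K)) :
    ∃ (M : Type u) (_ : Field M) (_ : Algebra k M) (_ : FiniteDimensional k M)
      (_ : Algebra.IsSeparable k M) (b : pullback f (sF k M) ⟶ U),
      b ≫ h = pullback.fst f (sF k M) ∧ Set.range τ ⊆ Set.range b := by
  obtain ⟨L, hLfin, a, c, -, -, hca, hah⟩ := exists_factor K f h τ hτ
  obtain ⟨b, hb, hbh⟩ := exists_desc_of_isPurelyInseparable (M := separableClosure k ↥L)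
    (L := ↥L) f h a hah
  refine ⟨separableClosure k ↥L, inferInstance, inferInstance, inferInstance, inferInstance, b,
    hbh, ?_⟩
  rintro _ ⟨x, rfl⟩
  refine ⟨cLM (M := separableClosure k ↥L) (L := ↥L) f (c x), ?_⟩
  rw [← hca, ← hb]
  rfl

end OneSection

section Main

variable {k : Type u} [Field k] {X : Scheme.{u}} (f : X ⟶ Spec (CommRingCat.of k))

/-- gluing data: given `X`-morphisms `b i : X_{M i} ⟶ U`, a morphism `(∐ Spec M i) ×_k X ⟶ U`. -/
theorem exists_glue {U : Scheme.{u}} (h : U ⟶ X) (ι : Type u) (M : ι → Type u)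
    [∀ i, Field (M i)] [∀ i, Algebra k (M i)]
    (b : ∀ i, pullback f (sF k (M i)) ⟶ U) (hb : ∀ i, b i ≫ h = pullback.fst f (sF k (M i))) :
    ∃ e : pullback (Sigma.desc (fun i => sF k (M i))) f ⟶ U,
      e ≫ h = pullback.snd (Sigma.desc (fun i => sF k (M i))) f ∧
      ∀ i, Set.range (b i) ⊆ Set.range e := by
  classical
  let g : ι → Scheme.{u} := fun i => Spec (CommRingCat.of (M i))
  let s : ∀ i, g i ⟶ Spec (CommRingCat.of k) := fun i => sF k (M i)
  let vh : (∐ g) ⟶ Spec (CommRingCat.of k) := Sigma.desc s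
  have hvh : ∀ i, Sigma.ι g i ≫ vh = s i := fun i => Sigma.ι_desc _ _
  let 𝒲 : (pullback vh f).OpenCover := (sigmaOpenCover g).pullback₁ (pullback.fst vh f)
  -- piece ⟶ X_{M i}
  let φ : ∀ i : ι, pullback (pullback.fst vh f) (Sigma.ι g i) ⟶ pullback f (s i) := fun i =>
    pullback.lift (pullback.fst (pullback.fst vh f) (Sigma.ι g i) ≫ pullback.snd vh f)
      (pullback.snd (pullback.fst vh f) (Sigma.ι g i)) (by
        have h1 : pullback.snd vh f ≫ f = pullback.fst vh f ≫ vh := pullback.condition.symm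
        have h2 : pullback.fst (pullback.fst vh f) (Sigma.ι g i) ≫ pullback.fst vh f =
            pullback.snd (pullback.fst vh f) (Sigma.ι g i) ≫ Sigma.ι g i := pullback.condition
        rw [Category.assoc, h1, reassoc_of% h2, hvh])
  have hφ₁ : ∀ i : ι, φ i ≫ pullback.fst f (s i) =
      pullback.fst (pullback.fst vh f) (Sigma.ι g i) ≫ pullback.snd vh f :=
    fun i => pullback.lift_fst _ _ _
  have hφ₂ : ∀ i : ι, φ i ≫ pullback.snd f (s i) =
      pullback.snd (pullback.fst vh f) (Sigma.ι g i) :=
    fun i => pullback.lift_snd _ _ _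
  -- X_{M i} ⟶ piece
  let n : ∀ i : ι, pullback f (s i) ⟶ pullback vh f := fun i =>
    pullback.lift (pullback.snd f (s i) ≫ Sigma.ι g i) (pullback.fst f (s i))
      (by rw [Category.assoc, hvh]; exact pullback.condition.symm)
  have hn₁ : ∀ i : ι, n i ≫ pullback.fst vh f = pullback.snd f (s i) ≫ Sigma.ι g i :=
    fun i => pullback.lift_fst _ _ _
  have hn₂ : ∀ i : ι, n i ≫ pullback.snd vh f = pullback.fst f (s i) :=
    fun i => pullback.lift_snd _ _ _
  let ν : ∀ i : ι, pullback f (s i) ⟶ pullback (pullback.fst vh f) (Sigma.ι g i) := fun i =>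
    pullback.lift (n i) (pullback.snd f (s i)) (hn₁ i)
  have hν₁ : ∀ i : ι, ν i ≫ pullback.fst (pullback.fst vh f) (Sigma.ι g i) = n i :=
    fun i => pullback.lift_fst _ _ _
  have hν₂ : ∀ i : ι, ν i ≫ pullback.snd (pullback.fst vh f) (Sigma.ι g i) =
      pullback.snd f (s i) :=
    fun i => pullback.lift_snd _ _ _
  have hνφ : ∀ i : ι, ν i ≫ φ i = 𝟙 _ := by
    intro i
    apply pullback.hom_ext
    · rw [Category.assoc, hφ₁, reassoc_of% hν₁, hn₂, Category.id_comp]
    · rw [Category.assoc, hφ₂, hν₂, Category.id_comp]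
  have hcompat' : ∀ i j : ι,
      pullback.fst (pullback.fst (pullback.fst vh f) (Sigma.ι g i))
        (pullback.fst (pullback.fst vh f) (Sigma.ι g j)) ≫ φ i ≫ b i =
      pullback.snd (pullback.fst (pullback.fst vh f) (Sigma.ι g i))
        (pullback.fst (pullback.fst vh f) (Sigma.ι g j)) ≫ φ j ≫ b j := by
    intro i j
    by_cases hij : i = j
    · subst hij
      have : pullback.fst (pullback.fst (pullback.fst vh f) (Sigma.ι g i))
          (pullback.fst (pullback.fst vh f) (Sigma.ι g i)) =
          pullback.snd (pullback.fst (pullback.fst vh f) (Sigma.ι g i))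
          (pullback.fst (pullback.fst vh f) (Sigma.ι g i)) := by
        rw [← cancel_mono (pullback.fst (pullback.fst vh f) (Sigma.ι g i))]
        exact pullback.condition
      rw [this]
    · haveI : IsEmpty ↥(pullback (pullback.fst (pullback.fst vh f) (Sigma.ι g i))
          (pullback.fst (pullback.fst vh f) (Sigma.ι g j))) := by
        have h1 : pullback.fst (pullback.fst vh f) (Sigma.ι g i) ≫ pullback.fst vh f =
            pullback.snd (pullback.fst vh f) (Sigma.ι g i) ≫ Sigma.ι g i := pullback.condition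
        have h2 : pullback.fst (pullback.fst vh f) (Sigma.ι g j) ≫ pullback.fst vh f =
            pullback.snd (pullback.fst vh f) (Sigma.ι g j) ≫ Sigma.ι g j := pullback.condition
        have hsq : (pullback.fst (pullback.fst (pullback.fst vh f) (Sigma.ι g i))
            (pullback.fst (pullback.fst vh f) (Sigma.ι g j)) ≫
            pullback.snd (pullback.fst vh f) (Sigma.ι g i)) ≫ Sigma.ι g i =
            (pullback.snd (pullback.fst (pullback.fst vh f) (Sigma.ι g i))
            (pullback.fst (pullback.fst vh f) (Sigma.ι g j)) ≫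
            pullback.snd (pullback.fst vh f) (Sigma.ι g j)) ≫ Sigma.ι g j := by
          rw [Category.assoc, Category.assoc, ← h1, ← h2, pullback.condition_assoc]
        exact isEmpty_of_commSq_sigmaι_of_ne ⟨hsq⟩ hij
      exact (isInitialOfIsEmpty (X := pullback (pullback.fst (pullback.fst vh f) (Sigma.ι g i))
          (pullback.fst (pullback.fst vh f) (Sigma.ι g j)))).hom_ext _ _
  let e : pullback vh f ⟶ U := 𝒲.glueMorphisms (fun i => φ i ≫ b i) hcompat'
  have he : ∀ i : ι, pullback.fst (pullback.fst vh f) (Sigma.ι g i) ≫ e = φ i ≫ b i :=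
    fun i => 𝒲.ι_glueMorphisms (fun i => φ i ≫ b i) hcompat' i
  refine ⟨e, ?_, ?_⟩
  · apply 𝒲.hom_ext
    intro (i : ι)
    change pullback.fst (pullback.fst vh f) (Sigma.ι g i) ≫ e ≫ h =
      pullback.fst (pullback.fst vh f) (Sigma.ι g i) ≫ pullback.snd vh f
    rw [reassoc_of% (he i), hb i, hφ₁ i]
  · rintro i _ ⟨y, rfl⟩
    refine ⟨pullback.fst (pullback.fst vh f) (Sigma.ι g i) (ν i y), ?_⟩
    have h4 : ν i ≫ pullback.fst (pullback.fst vh f) (Sigma.ι g i) ≫ e = b i := by
      rw [he i, reassoc_of% (hνφ i)]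
    have h5 : (ν i ≫ pullback.fst (pullback.fst vh f) (Sigma.ι g i) ≫ e) y = b i y := by
      rw [h4]
    exact h5

end Main

section Final

variable {k : Type u} [Field k]

theorem isFinite_sigmaDesc (ι : Type u) [Finite ι] (M : ι → Type u) [∀ i, Field (M i)]
    [∀ i, Algebra k (M i)] [∀ i, FiniteDimensional k (M i)] :
    IsFinite (Sigma.desc (fun i => sF k (M i))) := by
  have h : Sigma.desc (fun i => sF k (M i)) =
      sigmaSpec (fun i => CommRingCat.of (M i)) ≫
        Spec.map (CommRingCat.ofHom (algebraMap k (Π i, M i))) := by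
    apply Sigma.hom_ext
    intro i
    rw [Sigma.ι_desc, ι_sigmaSpec_assoc, ← Spec.map_comp]
    rfl
  rw [h]
  haveI : IsFinite (Spec.map (CommRingCat.ofHom (algebraMap k (Π i, M i)))) := by
    rw [IsFinite.SpecMap_iff]
    exact RingHom.finite_algebraMap.mpr inferInstance
  infer_instance

theorem etale_sigmaDesc (ι : Type u) (M : ι → Type u) [∀ i, Field (M i)]
    [∀ i, Algebra k (M i)] [∀ i, FiniteDimensional k (M i)] [∀ i, Algebra.IsSeparable k (M i)] :
    Etale (Sigma.desc (fun i => sF k (M i))) := by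
  rw [IsZariskiLocalAtSource.iff_of_openCover (P := @Etale)
    (sigmaOpenCover (fun i => Spec (CommRingCat.of (M i))))]
  intro i
  have : (sigmaOpenCover (fun i => Spec (CommRingCat.of (M i)))).f i ≫
      Sigma.desc (fun i => sF k (M i)) = sF k (M i) := Sigma.ι_desc _ _
  rw [this]
  exact etale_sF k (M i)

theorem main (k : Type u) [Field k] {X : Scheme.{u}} (f : X ⟶ Spec (CommRingCat.of k))
    [CompactSpace ↥X] [QuasiSeparatedSpace ↥X] (U : FEt.Cat X)
    (hU : Pi1.IsSplit ((FEt.restrict (pullback.fst f (Spec.map (CommRingCat.ofHom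
      (algebraMap k (AlgebraicClosure k)))))).obj U)) :
    ∃ (V : FEt.Cat (Spec (CommRingCat.of k))) (e : (FEt.restrict f).obj V ⟶ U),
      Surjective e.left := by
  classical
  obtain ⟨ι, hι, e, he⟩ := hU
  haveI : IsFinite U.hom := U.prop.1
  haveI : Etale U.hom := U.prop.2
  let pr : pullback f (sF k (AlgebraicClosure k)) ⟶ X := pullback.fst f (sF k (AlgebraicClosure k))
  let e₁ : (∐ fun _ : ι => pullback f (sF k (AlgebraicClosure k))) ⟶ pullback U.hom pr := e.inv
  let e₂ : pullback U.hom pr ⟶ (∐ fun _ : ι => pullback f (sF k (AlgebraicClosure k))) := e.hom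
  have he₂₁ : e₂ ≫ e₁ = 𝟙 _ := e.hom_inv_id
  let τ : ι → (pullback f (sF k (AlgebraicClosure k)) ⟶ U.left) :=
    fun i => Sigma.ι (fun _ : ι => pullback f (sF k (AlgebraicClosure k))) i ≫ e₁ ≫
      pullback.fst U.hom pr
  have hτ : ∀ i, τ i ≫ U.hom = pr := by
    intro i
    have h1 : Sigma.ι (fun _ : ι => pullback f (sF k (AlgebraicClosure k))) i ≫ e₁ ≫
        pullback.snd U.hom pr = 𝟙 _ := he i
    have h2 : pullback.fst U.hom pr ≫ U.hom = pullback.snd U.hom pr ≫ pr := pullback.condition
    calc τ i ≫ U.hom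
        = Sigma.ι (fun _ : ι => pullback f (sF k (AlgebraicClosure k))) i ≫ e₁ ≫
          (pullback.fst U.hom pr ≫ U.hom) := by simp only [τ, Category.assoc]
      _ = Sigma.ι (fun _ : ι => pullback f (sF k (AlgebraicClosure k))) i ≫ e₁ ≫
          (pullback.snd U.hom pr ≫ pr) := by rw [h2]
      _ = (Sigma.ι (fun _ : ι => pullback f (sF k (AlgebraicClosure k))) i ≫ e₁ ≫
          pullback.snd U.hom pr) ≫ pr := by simp only [Category.assoc]
      _ = pr := by rw [h1, Category.id_comp]
  have hsec : ∀ i, ∃ (M : Type u) (_ : Field M) (_ : Algebra k M) (_ : FiniteDimensional k M)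
      (_ : Algebra.IsSeparable k M) (b : pullback f (sF k M) ⟶ U.left),
      b ≫ U.hom = pullback.fst f (sF k M) ∧ Set.range (τ i) ⊆ Set.range b :=
    fun i => exists_sep_section (AlgebraicClosure k) f U.hom (τ i) (hτ i)
  choose M hF hA hfd hsep b hb hrange using hsec
  letI : ∀ i, Field (M i) := hF
  letI : ∀ i, Algebra k (M i) := hA
  haveI : ∀ i, FiniteDimensional k (M i) := hfd
  haveI : ∀ i, Algebra.IsSeparable k (M i) := hsep
  obtain ⟨e', he', hrange'⟩ := exists_glue f U.hom ι M b hb
  let V : FEt.Cat (Spec (CommRingCat.of k)) :=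
    MorphismProperty.Over.mk ⊤ (Sigma.desc (fun i => sF k (M i)))
      ⟨isFinite_sigmaDesc ι M, etale_sigmaDesc ι M⟩
  let ee : (FEt.restrict f).obj V ⟶ U := MorphismProperty.Over.homMk e' he' trivial
  refine ⟨V, ee, ⟨?_⟩⟩
  intro u
  haveI : Surjective (sF k (AlgebraicClosure k)) := surjective_spec_field _ _ _
  haveI : Surjective pr := MorphismProperty.pullback_fst (P := @Surjective) _ _ inferInstance
  haveI : Surjective (pullback.fst U.hom pr) :=
    MorphismProperty.pullback_fst (P := @Surjective) _ _ inferInstance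
  obtain ⟨z, rfl⟩ := (pullback.fst U.hom pr).surjective u
  obtain ⟨i, x, hx⟩ := (sigmaOpenCover (fun _ : ι => pullback f (sF k (AlgebraicClosure k)))).exists_eq
    (e₂ z)
  have hz : z = e₁ (Sigma.ι (fun _ : ι => pullback f (sF k (AlgebraicClosure k))) i x) := by
    have h3 : e₁ (e₂ z) = z := by
      have := congrArg (fun m : pullback U.hom pr ⟶ pullback U.hom pr => m z) he₂₁
      exact this
    rw [← h3]
    exact congrArg e₁ hx.symm
  have hmem : pullback.fst U.hom pr z ∈ Set.range (τ i) := by
    refine ⟨x, ?_⟩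
    rw [hz]
    rfl
  exact hrange' i (hrange i hmem)

end Final

end Groth.Agent.Lib.PiOneSplitH3
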