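import Mathlib
import Groth.Prelude
import Groth.Agent.Lib.RadEt_helper3
import Groth.Agent.Lib.PiOneSplit_helper3

/-!
# A connected finite étale cover of `X` with a section over `k̄` comes from `Spec k` (helper3)

`X` quasi-compact quasi-separated over a field `k` with `X_{k̄}` connected, `X'` a connected finite
étale cover of `X` with a section over `X_{k̄}`.  Then `X' ≅ X ×_k Spec L'` for a finite separable
extension `L'` of `k`.
-/

set_option autoImplicit false
set_option linter.all false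
set_option maxHeartbeats 1600000

universe u

open CategoryTheory CategoryTheory.Limits AlgebraicGeometry

namespace Groth.Agent.Lib.PiOneGalH3

open Groth.Agent.Lib.FEtFinExtH3 Groth.Agent.Lib.RadEtH3 Groth.Agent.Lib.PiOneSplitH3

/-- Two embeddings of a normal extension into a field which agree on the base field differ by an
automorphism. -/
theorem exists_algEquiv_of_normal (k N κ : Type u) [Field k] [Field N] [Field κ] [Algebra k N]
    [Normal k N] (ν₁ ν₂ : N →+* κ)
    (h : ν₁.comp (algebraMap k N) = ν₂.comp (algebraMap k N)) :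
    ∃ g : N ≃ₐ[k] N, ∀ x, ν₂ x = ν₁ (g x) := by
  letI : Algebra N κ := ν₁.toAlgebra
  letI : Algebra k κ := (ν₁.comp (algebraMap k N)).toAlgebra
  haveI : IsScalarTower k N κ := IsScalarTower.of_algebraMap_eq (fun _ => rfl)
  let ϕ : N →ₐ[k] κ := { ν₂ with commutes' := fun x => (RingHom.congr_fun h x).symm }
  refine ⟨ϕ.restrictNormal' N, fun x => ?_⟩
  have := ϕ.restrictNormal_commutes N x
  exact this.symm

/-- Two `S`-morphisms from a connected scheme into an étale separated `S`-scheme which agree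
after composition with a morphism from a nonempty scheme are equal. -/
theorem eq_of_connected {S X Y T : Scheme.{u}} (p : X ⟶ S) [Etale p] [IsSeparated p]
    [PreconnectedSpace ↥Y] [Nonempty ↥T] (w : T ⟶ Y) (φ ψ : Y ⟶ X) (h : φ ≫ p = ψ ≫ p)
    (hw : w ≫ φ = w ≫ ψ) : φ = ψ := by
  let Δ : X ⟶ pullback p p := pullback.diagonal p
  let t : Y ⟶ pullback p p := pullback.lift φ ψ h
  have hΔo : IsOpen (Set.range Δ) := Δ.isOpenEmbedding.isOpen_range
  have hΔc : IsClosed (Set.range Δ) := Δ.isClosedEmbedding.isClosed_range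
  have hclopen : IsClopen (t ⁻¹' Set.range Δ) :=
    ⟨hΔc.preimage t.continuous, hΔo.preimage t.continuous⟩
  have hwt : w ≫ t = (w ≫ φ) ≫ Δ := by
    apply pullback.hom_ext
    · rw [Category.assoc, Category.assoc, pullback.lift_fst, pullback.diagonal_fst,
        Category.comp_id]
    · rw [Category.assoc, Category.assoc, pullback.lift_snd, pullback.diagonal_snd,
        Category.comp_id, hw]
  have hne : (t ⁻¹' Set.range Δ).Nonempty := by
    obtain ⟨s⟩ := ‹Nonempty ↥T›
    refine ⟨w s, (w ≫ φ) s, ?_⟩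
    rw [← Scheme.Hom.comp_apply, ← hwt, Scheme.Hom.comp_apply]
  have huniv : t ⁻¹' Set.range Δ = Set.univ := hclopen.eq_univ hne
  have hr : Set.range t ⊆ Set.range Δ := by
    rintro _ ⟨y, rfl⟩
    have : y ∈ t ⁻¹' Set.range Δ := by rw [huniv]; trivial
    exact this
  let ℓ : Y ⟶ X := IsOpenImmersion.lift Δ t hr
  have hℓ : ℓ ≫ Δ = t := IsOpenImmersion.lift_fac _ _ _
  have h1 : φ = ℓ := by
    have := congr($hℓ ≫ pullback.fst p p)
    rw [Category.assoc, pullback.diagonal_fst, Category.comp_id, pullback.lift_fst] at this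
    exact this.symm
  have h2 : ψ = ℓ := by
    have := congr($hℓ ≫ pullback.snd p p)
    rw [Category.assoc, pullback.diagonal_snd, Category.comp_id, pullback.lift_snd] at this
    exact this.symm
  rw [h1, h2]

/-- Descent of a morphism into an étale scheme along an fpqc morphism, checked on field-valued
points. -/
theorem exists_desc_of_points {S Y Z P : Scheme.{u}} (v : P ⟶ Y) [Surjective v] [Flat v]
    [QuasiCompact v] (p : Z ⟶ S) [Etale p] (u : P ⟶ Z) (q : Y ⟶ S) (hq : u ≫ p = v ≫ q)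
    (hpt : ∀ (κ : Type u) [Field κ] (w₁ w₂ : Spec (CommRingCat.of κ) ⟶ P),
      w₁ ≫ v = w₂ ≫ v → w₁ ≫ u = w₂ ≫ u) :
    ∃ t : Y ⟶ Z, v ≫ t = u := by
  have hdesc : ∀ {T : Scheme.{u}} (g₁ g₂ : T ⟶ P), g₁ ≫ v = g₂ ≫ v → g₁ ≫ u = g₂ ≫ u := by
    intro T g₁ g₂ hg
    refine eq_of_ptEq p _ _ ?_ ?_
    · rw [Category.assoc, Category.assoc, hq, ← Category.assoc, ← Category.assoc, hg]
    · intro y
      rw [← Category.assoc, ← Category.assoc]
      refine hpt (T.residueField y) _ _ ?_
      rw [Category.assoc, Category.assoc, hg]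
  haveI : EffectiveEpi v := inferInstance
  exact ⟨EffectiveEpi.desc v u hdesc, EffectiveEpi.fac v u hdesc⟩

section BaseChange

variable {k : Type u} [Field k] {X : Scheme.{u}} (f : X ⟶ Spec (CommRingCat.of k))

/-- `X_B ⟶ X_A` induced by a `k`-algebra map `A → B` of fields. -/
noncomputable def cA {A B : Type u} [Field A] [Field B] [Algebra k A] [Algebra k B]
    (φ : A →ₐ[k] B) : pullback f (sF k B) ⟶ pullback f (sF k A) :=
  pullback.lift (pullback.fst f (sF k B))
    (pullback.snd f (sF k B) ≫ Spec.map (CommRingCat.ofHom φ.toRingHom)) (by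
      have h : Spec.map (CommRingCat.ofHom φ.toRingHom) ≫ sF k A = sF k B := by
        change Spec.map _ ≫ Spec.map _ = Spec.map _
        rw [← Spec.map_comp]
        congr 1
        apply CommRingCat.hom_ext
        apply RingHom.ext
        intro x
        exact φ.commutes x
      rw [Category.assoc, h]
      exact pullback.condition)

variable {A B C : Type u} [Field A] [Field B] [Field C] [Algebra k A] [Algebra k B] [Algebra k C]

@[reassoc]
theorem cA_fst (φ : A →ₐ[k] B) : cA f φ ≫ pullback.fst f (sF k A) = pullback.fst f (sF k B) :=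
  pullback.lift_fst _ _ _

@[reassoc]
theorem cA_snd (φ : A →ₐ[k] B) : cA f φ ≫ pullback.snd f (sF k A) =
    pullback.snd f (sF k B) ≫ Spec.map (CommRingCat.ofHom φ.toRingHom) :=
  pullback.lift_snd _ _ _

theorem cA_comp (φ : A →ₐ[k] B) (ψ : B →ₐ[k] C) : cA f (ψ.comp φ) = cA f ψ ≫ cA f φ := by
  apply pullback.hom_ext
  · rw [Category.assoc, cA_fst, cA_fst, cA_fst]
  · rw [Category.assoc, cA_snd, cA_snd, cA_snd_assoc, ← Spec.map_comp]
    rfl

theorem cA_id : cA f (AlgHom.id k A) = 𝟙 _ := by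
  apply pullback.hom_ext
  · rw [cA_fst, Category.id_comp]
  · rw [cA_snd, Category.id_comp]
    have : Spec.map (CommRingCat.ofHom (AlgHom.id k A).toRingHom) = 𝟙 _ := by
      rw [← Spec.map_id]; rfl
    rw [this, Category.comp_id]

theorem isPullback_cA (φ : A →ₐ[k] B) : IsPullback (cA f φ) (pullback.snd f (sF k B))
    (pullback.snd f (sF k A)) (Spec.map (CommRingCat.ofHom φ.toRingHom)) := by
  have h : Spec.map (CommRingCat.ofHom φ.toRingHom) ≫ sF k A = sF k B := by
    change Spec.map _ ≫ Spec.map _ = Spec.map _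
    rw [← Spec.map_comp]
    congr 1
    apply CommRingCat.hom_ext
    apply RingHom.ext
    intro x
    exact φ.commutes x
  refine IsPullback.of_right ?_ (cA_snd f φ) (IsPullback.of_hasPullback f (sF k A))
  rw [cA_fst, h]
  exact IsPullback.of_hasPullback f (sF k B)

theorem fpqc_cA (φ : A →ₐ[k] B) :
    (@Surjective ⊓ @Flat ⊓ @QuasiCompact : MorphismProperty Scheme.{u}) (cA f φ) :=
  MorphismProperty.of_isPullback (isPullback_cA f φ).flip
    ⟨⟨surjective_spec_field _ _ _, Groth.Agent.Lib.KerProdH3.flat_of_field _⟩,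
      show QuasiCompact (Spec.map _) from inferInstance⟩

instance (φ : A →ₐ[k] B) : Surjective (cA f φ) := (fpqc_cA f φ).1.1
instance (φ : A →ₐ[k] B) : Flat (cA f φ) := (fpqc_cA f φ).1.2
instance (φ : A →ₐ[k] B) : QuasiCompact (cA f φ) := (fpqc_cA f φ).2

/-- Two field-valued points of `X_N` (`N/k` normal) over the same point of `X` differ by an
automorphism of `N`. -/
theorem exists_conj (N : Type u) [Field N] [Algebra k N] [Normal k N] (κ : Type u) [Field κ]
    (w₁ w₂ : Spec (CommRingCat.of κ) ⟶ pullback f (sF k N))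
    (h : w₁ ≫ pullback.fst f (sF k N) = w₂ ≫ pullback.fst f (sF k N)) :
    ∃ g : N ≃ₐ[k] N, w₂ = w₁ ≫ cA f (g : N →ₐ[k] N) ∧
      ∀ x, (Spec.preimage (w₂ ≫ pullback.snd f (sF k N))).hom x =
        (Spec.preimage (w₁ ≫ pullback.snd f (sF k N))).hom (g x) := by
  let n₁ : CommRingCat.of N ⟶ CommRingCat.of κ := Spec.preimage (w₁ ≫ pullback.snd f (sF k N))
  let n₂ : CommRingCat.of N ⟶ CommRingCat.of κ := Spec.preimage (w₂ ≫ pullback.snd f (sF k N))
  have hn₁ : Spec.map n₁ = w₁ ≫ pullback.snd f (sF k N) := Spec.map_preimage _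
  have hn₂ : Spec.map n₂ = w₂ ≫ pullback.snd f (sF k N) := Spec.map_preimage _
  have hk : CommRingCat.ofHom (algebraMap k N) ≫ n₁ = CommRingCat.ofHom (algebraMap k N) ≫ n₂ := by
    apply Spec.map_injective
    rw [Spec.map_comp, Spec.map_comp, hn₁, hn₂]
    change (w₁ ≫ pullback.snd f (sF k N)) ≫ sF k N = (w₂ ≫ pullback.snd f (sF k N)) ≫ sF k N
    rw [Category.assoc, Category.assoc, ← pullback.condition, ← Category.assoc, ← Category.assoc, h]
  have hk' : n₁.hom.comp (algebraMap k N) = n₂.hom.comp (algebraMap k N) :=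
    congrArg CommRingCat.Hom.hom hk
  obtain ⟨g, hg⟩ := exists_algEquiv_of_normal k N κ n₁.hom n₂.hom hk'
  refine ⟨g, ?_, hg⟩
  apply pullback.hom_ext
  · rw [Category.assoc, cA_fst, h]
  · rw [Category.assoc, cA_snd, ← Category.assoc, ← hn₁, ← hn₂, ← Spec.map_comp]
    congr 1
    apply CommRingCat.hom_ext
    apply RingHom.ext
    intro x
    exact hg x

end BaseChange

section Main

variable {k : Type u} [Field k] {X : Scheme.{u}} (f : X ⟶ Spec (CommRingCat.of k))

/-- The core: given a finite Galois `N/k` with `X_N` connected and an `X`-morphism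
`b : X_N ⟶ X'` to a connected finite étale cover, `X' ≅ X_{L'}` over `X` for a subextension
`L'`. -/
theorem exists_iso_of_galois (N : Type u) [Field N] [Algebra k N] [FiniteDimensional k N]
    [IsGalois k N] [ConnectedSpace ↥(pullback f (sF k N))]
    (X' : FEt.Cat X) [ConnectedSpace ↥X'.left]
    (b : pullback f (sF k N) ⟶ X'.left) (hb : b ≫ X'.hom = pullback.fst f (sF k N)) :
    ∃ (L' : IntermediateField k N) (e : pullback f (sF k ↥L') ≅ X'.left),
      e.hom ≫ X'.hom = pullback.fst f (sF k ↥L') := by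
  haveI : IsFinite X'.hom := X'.prop.1
  haveI : Etale X'.hom := X'.prop.2
  -- the stabiliser of `b`
  have hcoe_mul : ∀ g h : N ≃ₐ[k] N, ((g * h : N ≃ₐ[k] N) : N →ₐ[k] N) =
      (g : N →ₐ[k] N).comp (h : N →ₐ[k] N) := fun g h => AlgHom.ext fun x => rfl
  have hcoe_one : ((1 : N ≃ₐ[k] N) : N →ₐ[k] N) = AlgHom.id k N := AlgHom.ext fun x => rfl
  let H : Subgroup (N ≃ₐ[k] N) :=
    { carrier := {g | cA f (g : N →ₐ[k] N) ≫ b = b}
      mul_mem' := by
        intro g h hg hh
        change cA f ((g * h : N ≃ₐ[k] N) : N →ₐ[k] N) ≫ b = b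
        rw [hcoe_mul, cA_comp, Category.assoc]
        have hh' : cA f (h : N →ₐ[k] N) ≫ b = b := hh
        have hg' : cA f (g : N →ₐ[k] N) ≫ b = b := hg
        rw [hh', hg']
      one_mem' := by
        change cA f ((1 : N ≃ₐ[k] N) : N →ₐ[k] N) ≫ b = b
        rw [hcoe_one, cA_id, Category.id_comp]
      inv_mem' := by
        intro g hg
        change cA f ((g⁻¹ : N ≃ₐ[k] N) : N →ₐ[k] N) ≫ b = b
        have hg' : cA f (g : N →ₐ[k] N) ≫ b = b := hg
        have h1 : cA f ((g⁻¹ : N ≃ₐ[k] N) : N →ₐ[k] N) ≫ cA f (g : N →ₐ[k] N) = 𝟙 _ := by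
          rw [← cA_comp, ← hcoe_mul, inv_mul_cancel, hcoe_one, cA_id]
        calc cA f ((g⁻¹ : N ≃ₐ[k] N) : N →ₐ[k] N) ≫ b
            = cA f ((g⁻¹ : N ≃ₐ[k] N) : N →ₐ[k] N) ≫ cA f (g : N →ₐ[k] N) ≫ b := by rw [hg']
          _ = b := by rw [← Category.assoc, h1, Category.id_comp] }
  have hHmem : ∀ g : N ≃ₐ[k] N, g ∈ H ↔ cA f (g : N →ₐ[k] N) ≫ b = b := fun g => Iff.rfl
  let L' : IntermediateField k N := IntermediateField.fixedField H
  have hfix : IntermediateField.fixingSubgroup L' = H :=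
    IntermediateField.fixingSubgroup_fixedField H
  let q : pullback f (sF k N) ⟶ pullback f (sF k ↥L') := cA f L'.val
  have hq_fst : q ≫ pullback.fst f (sF k ↥L') = pullback.fst f (sF k N) := cA_fst f L'.val
  -- elements of `H` fix `q`
  have hHq : ∀ g : N ≃ₐ[k] N, g ∈ H → cA f (g : N →ₐ[k] N) ≫ q = q := by
    intro g hg
    have h1 : (g : N →ₐ[k] N).comp L'.val = L'.val := by
      apply AlgHom.ext
      intro x
      exact x.2 ⟨g, hg⟩
    change cA f (g : N →ₐ[k] N) ≫ cA f L'.val = cA f L'.val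
    rw [← cA_comp, h1]
  -- descend `b` along `q`
  have hptq : ∀ (κ : Type u) [Field κ] (w₁ w₂ : Spec (CommRingCat.of κ) ⟶ pullback f (sF k N)),
      w₁ ≫ q = w₂ ≫ q → w₁ ≫ b = w₂ ≫ b := by
    intro κ _ w₁ w₂ hw
    have hfst : w₁ ≫ pullback.fst f (sF k N) = w₂ ≫ pullback.fst f (sF k N) := by
      rw [← hq_fst, ← Category.assoc, ← Category.assoc, hw]
    obtain ⟨g, hg, hgx⟩ := exists_conj f N κ w₁ w₂ hfst
    have hsnd : (w₁ ≫ pullback.snd f (sF k N)) ≫ Spec.map (CommRingCat.ofHom L'.val.toRingHom) =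
        (w₂ ≫ pullback.snd f (sF k N)) ≫ Spec.map (CommRingCat.ofHom L'.val.toRingHom) := by
      have := congrArg (fun z => z ≫ pullback.snd f (sF k ↥L')) hw
      simp only [Category.assoc] at this
      rw [show q ≫ pullback.snd f (sF k ↥L') = pullback.snd f (sF k N) ≫
        Spec.map (CommRingCat.ofHom L'.val.toRingHom) from cA_snd f L'.val] at this
      simpa only [Category.assoc] using this
    have hn : ∀ x : ↥L', (Spec.preimage (w₁ ≫ pullback.snd f (sF k N))).hom (x : N) =
        (Spec.preimage (w₂ ≫ pullback.snd f (sF k N))).hom (x : N) := by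
      intro x
      rw [← Spec.map_preimage (w₁ ≫ pullback.snd f (sF k N)),
        ← Spec.map_preimage (w₂ ≫ pullback.snd f (sF k N)), ← Spec.map_comp, ← Spec.map_comp] at hsnd
      have h2 := Spec.map_injective hsnd
      have h3 := congrArg (fun z => z.hom x) h2
      exact h3
    have hgH : g ∈ H := by
      rw [← hfix, IntermediateField.mem_fixingSubgroup_iff]
      intro x hx
      have h4 := hgx x
      rw [← hn ⟨x, hx⟩] at h4
      exact ((Spec.preimage (w₁ ≫ pullback.snd f (sF k N))).hom.injective h4).symm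
    rw [hg, Category.assoc, (hHmem g).mp hgH]
  obtain ⟨b', hb'⟩ := exists_desc_of_points q X'.hom b (pullback.fst f (sF k ↥L'))
    (by rw [hb, hq_fst]) hptq
  -- `b` is finite étale surjective
  haveI : IsFinite (sF k N) := isFinite_sF k N
  haveI : Etale (sF k N) := etale_sF k N
  haveI : IsFinite (pullback.fst f (sF k N)) :=
    MorphismProperty.pullback_fst (P := @IsFinite) f _ inferInstance
  haveI : Etale (pullback.fst f (sF k N)) :=
    MorphismProperty.pullback_fst (P := @Etale) f _ inferInstance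
  haveI : IsFinite (b ≫ X'.hom) := by rw [hb]; infer_instance
  haveI : Etale (b ≫ X'.hom) := by rw [hb]; infer_instance
  haveI : IsFinite b := IsFinite.of_comp b X'.hom
  haveI : Etale b := Etale.of_comp b X'.hom
  haveI : Surjective b := by
    have hclopen : IsClopen (Set.range b) := ⟨b.isClosedMap.isClosed_range, b.isOpenMap.isOpen_range⟩
    have hne : (Set.range b).Nonempty := Set.range_nonempty _
    have huniv : Set.range b = Set.univ := hclopen.eq_univ hne
    exact ⟨Set.range_eq_univ.mp huniv⟩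
  -- descend `q` along `b`
  haveI : IsFinite (sF k ↥L') := isFinite_sF k ↥L'
  haveI : Etale (sF k ↥L') := etale_sF k ↥L'
  haveI : Etale (pullback.fst f (sF k ↥L')) :=
    MorphismProperty.pullback_fst (P := @Etale) f _ inferInstance
  have hptb : ∀ (κ : Type u) [Field κ] (w₁ w₂ : Spec (CommRingCat.of κ) ⟶ pullback f (sF k N)),
      w₁ ≫ b = w₂ ≫ b → w₁ ≫ q = w₂ ≫ q := by
    intro κ _ w₁ w₂ hw
    have hfst : w₁ ≫ pullback.fst f (sF k N) = w₂ ≫ pullback.fst f (sF k N) := by
      rw [← hb, ← Category.assoc, ← Category.assoc, hw]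
    obtain ⟨g, hg, -⟩ := exists_conj f N κ w₁ w₂ hfst
    have hgH : g ∈ H := by
      rw [hHmem]
      haveI : Nonempty ↥(Spec (CommRingCat.of κ)) :=
        inferInstanceAs (Nonempty (PrimeSpectrum κ))
      refine eq_of_connected X'.hom w₁ _ _ ?_ ?_
      · rw [Category.assoc, hb, cA_fst]
      · rw [← Category.assoc, ← hg, hw]
    rw [hg, Category.assoc, hHq g hgH]
  obtain ⟨t, ht⟩ := exists_desc_of_points b (pullback.fst f (sF k ↥L')) q X'.hom
    (by rw [hb, hq_fst]) hptb
  haveI : Epi q := by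
    haveI : EffectiveEpi q := inferInstance
    infer_instance
  haveI : Epi b := by
    haveI : EffectiveEpi b := inferInstance
    infer_instance
  refine ⟨L', ⟨b', t, ?_, ?_⟩, ?_⟩
  · rw [← cancel_epi q, ← Category.assoc, hb', ht, Category.comp_id]
  · rw [← cancel_epi b, ← Category.assoc, ht, hb', Category.comp_id]
  · change b' ≫ X'.hom = _
    rw [← cancel_epi q, ← Category.assoc, hb', hb, hq_fst]

end Main

section Final

variable {k : Type u} [Field k] {X : Scheme.{u}} (f : X ⟶ Spec (CommRingCat.of k))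

theorem main [CompactSpace ↥X] [QuasiSeparatedSpace ↥X] (K : Type u) [Field K] [Algebra k K]
    [Algebra.IsAlgebraic k K] [IsAlgClosed K] [ConnectedSpace ↥(pullback f (sF k K))]
    (X' : FEt.Cat X) [ConnectedSpace ↥X'.left]
    (σ : pullback f (sF k K) ⟶ X'.left) (hσ : σ ≫ X'.hom = pullback.fst f (sF k K)) :
    ∃ S' : FEt.Cat (Spec (CommRingCat.of k)), Nonempty ((FEt.restrict f).obj S' ≅ X') := by
  haveI : IsFinite X'.hom := X'.prop.1
  haveI : Etale X'.hom := X'.prop.2
  obtain ⟨M, _, _, _, _, b₀, hb₀, -⟩ := exists_sep_section K f X'.hom σ hσ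
  -- Galois closure of `M`
  haveI : Algebra.IsAlgebraic k (AlgebraicClosure M) := Algebra.IsAlgebraic.trans k M _
  haveI : IsAlgClosure k (AlgebraicClosure M) := ⟨inferInstance, inferInstance⟩
  haveI : Normal k (AlgebraicClosure M) := IsAlgClosure.normal k _
  let N : IntermediateField k (AlgebraicClosure M) :=
    IntermediateField.normalClosure k M (AlgebraicClosure M)
  haveI : Algebra.IsSeparable k ↥N := by
    haveI : ∀ φ : M →ₐ[k] AlgebraicClosure M, Algebra.IsSeparable k ↥φ.fieldRange := fun φ =>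
      AlgEquiv.Algebra.isSeparable (AlgEquiv.ofInjectiveField φ)
    show Algebra.IsSeparable k ↥(⨆ φ : M →ₐ[k] AlgebraicClosure M, φ.fieldRange)
    exact IntermediateField.isSeparable_iSup k (AlgebraicClosure M)
  haveI : IsGalois k ↥N := ⟨⟩
  let j : M →ₐ[k] ↥N := IsScalarTower.toAlgHom k M ↥N
  let b : pullback f (sF k ↥N) ⟶ X'.left := cA f j ≫ b₀
  have hb : b ≫ X'.hom = pullback.fst f (sF k ↥N) := by
    rw [Category.assoc, hb₀, cA_fst]
  -- `X_N` is connected
  let ε : ↥N →ₐ[k] K := IsAlgClosed.lift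
  haveI : ConnectedSpace ↥(pullback f (sF k ↥N)) :=
    (cA f ε).surjective.connectedSpace (cA f ε).continuous
  obtain ⟨L', e, he⟩ := exists_iso_of_galois f ↥N X' b hb
  haveI : IsFinite (sF k ↥L') := isFinite_sF k ↥L'
  haveI : Etale (sF k ↥L') := etale_sF k ↥L'
  let S' : FEt.Cat (Spec (CommRingCat.of k)) :=
    MorphismProperty.Over.mk ⊤ (sF k ↥L') ⟨inferInstance, inferInstance⟩
  refine ⟨S', ⟨?_⟩⟩
  refine MorphismProperty.Over.isoMk (pullbackSymmetry (sF k ↥L') f ≪≫ e) ?_
  show (pullbackSymmetry (sF k ↥L') f ≪≫ e).hom ≫ X'.hom = pullback.snd (sF k ↥L') f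
  rw [Iso.trans_hom, Category.assoc, he, pullbackSymmetry_hom_comp_fst]

end Final

end Groth.Agent.Lib.PiOneGalH3
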