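import Mathlib
import Groth.Prelude
import Groth.Agent.Lib.RadEt2_helper3
import Groth.Agent.Lib.FEtFinExt3_helper3
import Groth.Agent.Lib.PiOneSplit_helper3

/-!
# Every finite étale cover of `X_K` (`K/k` algebraic) is open and closed in the base change of a
finite étale cover of `X` (helper3)
-/

set_option autoImplicit false
set_option linter.all false
set_option maxHeartbeats 1600000

universe u

open CategoryTheory CategoryTheory.Limits AlgebraicGeometry

namespace Groth.Agent.Lib.PiOneInjH3

open Groth.Agent.Lib.FEtFinExtH3 Groth.Agent.Lib.RadEtH3 Groth.Agent.Lib.PiOneSplitH3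

theorem main (k : Type u) [Field k] {X : Scheme.{u}} (f : X ⟶ Spec (CommRingCat.of k))
    [CompactSpace ↥X] [QuasiSeparatedSpace ↥X] (K : Type u) [Field K] [Algebra k K]
    [Algebra.IsAlgebraic k K] (V : FEt.Cat (pullback f (sF k K))) :
    ∃ (U : FEt.Cat X) (ι : V ⟶ (FEt.restrict (pullback.fst f (sF k K))).obj U),
      IsOpenImmersion ι.left ∧ IsClosedImmersion ι.left := by
  haveI : IsFinite V.hom := V.prop.1
  haveI : Etale V.hom := V.prop.2
  obtain ⟨L, hLfin, YL, gL, hgLfin, hgLet, c, hc₁, hc₂, e, hpb⟩ := main' X f V.left V.hom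
  -- descend along the purely inseparable part
  let cM : pullback f (sF k ↥L) ⟶ pullback f (sF k ↥(separableClosure k ↥L)) :=
    cLM (M := ↥(separableClosure k ↥L)) (L := ↥L) f
  haveI : UniversallyInjective cM := universallyInjective_cLM f
  haveI : (FEt.restrict cM).IsEquivalence := fet_isEquivalence cM
  let YLobj : FEt.Cat (pullback f (sF k ↥L)) := MorphismProperty.Over.mk ⊤ gL ⟨hgLfin, hgLet⟩
  let W : FEt.Cat (pullback f (sF k ↥(separableClosure k ↥L))) :=
    (FEt.restrict cM).objPreimage YLobj
  let iso : (FEt.restrict cM).obj W ≅ YLobj := (FEt.restrict cM).objObjPreimageIso YLobj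
  let d : YL ⟶ pullback W.hom cM := iso.inv.left
  have hd : d ≫ pullback.snd W.hom cM = gL := MorphismProperty.Over.w iso.inv
  haveI : IsIso d := by
    have : IsIso ((MorphismProperty.Over.forget _ _ _ ⋙ Over.forget _).map iso.inv) :=
      inferInstance
    exact this
  -- the cover of `X`
  haveI : IsFinite (sF k ↥(separableClosure k ↥L)) := isFinite_sF k _
  haveI : Etale (sF k ↥(separableClosure k ↥L)) := etale_sF k _
  have hfstM : FEt.prop (pullback.fst f (sF k ↥(separableClosure k ↥L))) :=
    ⟨MorphismProperty.pullback_fst (P := @IsFinite) f _ inferInstance,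
      MorphismProperty.pullback_fst (P := @Etale) f _ inferInstance⟩
  let uhom : W.left ⟶ X := W.hom ≫ pullback.fst f (sF k ↥(separableClosure k ↥L))
  let U : FEt.Cat X := MorphismProperty.Over.mk ⊤ uhom (FEt.prop.comp_mem _ _ W.prop hfstM)
  let a : V.left ⟶ W.left := e ≫ d ≫ pullback.fst W.hom cM
  have ha : a ≫ W.hom = V.hom ≫ c ≫ cM := by
    have h1 : (d ≫ pullback.fst W.hom cM) ≫ W.hom = gL ≫ cM := by
      rw [Category.assoc, pullback.condition, ← Category.assoc, hd]
    have h2 : a ≫ W.hom = e ≫ (d ≫ pullback.fst W.hom cM) ≫ W.hom := by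
      simp only [a, Category.assoc]
    rw [h2, h1, ← Category.assoc, hpb.w, Category.assoc]
  have hcc : (c ≫ cM) ≫ pullback.fst f (sF k ↥(separableClosure k ↥L)) =
      pullback.fst f (sF k K) := by
    rw [Category.assoc, cLM_fst, hc₁]
  have hw : a ≫ uhom = V.hom ≫ pullback.fst f (sF k K) := by
    have : a ≫ uhom = (a ≫ W.hom) ≫ pullback.fst f (sF k ↥(separableClosure k ↥L)) :=
      (Category.assoc _ _ _).symm
    rw [this, ha, Category.assoc, Category.assoc, ← Category.assoc c, hcc]
  let ιl : V.left ⟶ pullback uhom (pullback.fst f (sF k K)) := pullback.lift a V.hom hw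
  have hι1 : ιl ≫ pullback.fst uhom (pullback.fst f (sF k K)) = a := pullback.lift_fst _ _ _
  have hι2 : ιl ≫ pullback.snd uhom (pullback.fst f (sF k K)) = V.hom := pullback.lift_snd _ _ _
  let ι : V ⟶ (FEt.restrict (pullback.fst f (sF k K))).obj U :=
    MorphismProperty.Over.homMk ιl hι2 trivial
  refine ⟨U, ι, ?_⟩
  change IsOpenImmersion ιl ∧ IsClosedImmersion ιl
  -- `ιl` is a monomorphism
  haveI : Mono ιl := by
    refine ⟨fun {T} t₁ t₂ ht => ?_⟩
    have h1 : t₁ ≫ a = t₂ ≫ a := by
      rw [← hι1, ← Category.assoc, ← Category.assoc, ht]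
    have h2 : t₁ ≫ V.hom = t₂ ≫ V.hom := by
      rw [← hι2, ← Category.assoc, ← Category.assoc, ht]
    apply hpb.hom_ext _ h2
    rw [← cancel_mono d]
    apply pullback.hom_ext
    · simpa only [a, Category.assoc] using h1
    · have key : ∀ t : T ⟶ V.left,
          ((t ≫ e) ≫ d) ≫ pullback.snd W.hom cM = (t ≫ V.hom) ≫ c := by
        intro t
        rw [Category.assoc, Category.assoc, hd, hpb.w, Category.assoc]
      rw [key, key, h2]
  -- `ιl` is finite étale
  haveI hUK : IsFinite (pullback.snd uhom (pullback.fst f (sF k K))) :=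
    MorphismProperty.pullback_snd (P := @IsFinite) _ _ U.prop.1
  haveI hUKe : Etale (pullback.snd uhom (pullback.fst f (sF k K))) :=
    MorphismProperty.pullback_snd (P := @Etale) _ _ U.prop.2
  haveI : IsFinite (ιl ≫ pullback.snd uhom (pullback.fst f (sF k K))) := by
    rw [hι2]; infer_instance
  haveI : Etale (ιl ≫ pullback.snd uhom (pullback.fst f (sF k K))) := by
    rw [hι2]; infer_instance
  haveI : IsFinite ιl := IsFinite.of_comp ιl (pullback.snd uhom (pullback.fst f (sF k K)))
  haveI : Etale ιl := Etale.of_comp ιl (pullback.snd uhom (pullback.fst f (sF k K)))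
  haveI : IsOpenImmersion ιl := IsOpenImmersion.of_flat_of_mono ιl
  refine ⟨inferInstance, ?_⟩
  exact IsClosedImmersion.of_isPreimmersion ιl ιl.isClosedMap.isClosed_range

end Groth.Agent.Lib.PiOneInjH3
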