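import Mathlib
import Groth.Prelude
import Groth.Agent.Lib.PicBC4_helper9
import Groth.Agent.Lib.OneDim3_helper9
import Groth.Agent.Lib.Snap56_helper9
import Groth.Agent.Lib.RelAmpleVan_helper9
import Groth.Agent.Lib.AmpleFin1_helper2
import Groth.Agent.Lib.PullTens1_helper9
import Groth.Agent.Lib.HypConn2_helper9

/-!
# Line bundles on `X_K` twisted by line bundles from `X` (helper9): S6487.
APPEND-ONLY once landed.

`X` a smooth proper curve over a separably closed field `k`, `K/k` a field extension, `L` invertible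
on `X_K`.  Then `L ⊗ g^*L₀` has `h⁰ = 1` and `h¹ = 0` for some invertible `L₀` on `X`: twist by a
high power of a pulled back ample module to get `h¹ = 0` and `h⁰ > 0`, then subtract `k`-rational
points, one at a time, chosen in the nonvanishing locus of a section.
-/

set_option autoImplicit false
set_option linter.style.haveILetI false
universe u
open CategoryTheory CategoryTheory.Limits AlgebraicGeometry Opposite TopologicalSpace

namespace PicBC

open QcqsLoc QCohExtn GenLocH8 TensH8 FLFH8 Groth.Agent.TensInv CurveAmple Groth.Agent.HHVan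

section Main

variable (k : Type u) [Field k] [IsSepClosed k] {X : Scheme.{u}} [X.Over (Spec (CommRingCat.of k))]
  (K : Type u) [Field K] [Algebra k K] {XK : Scheme.{u}} [XK.Over (Spec (CommRingCat.of K))]
  (g : XK ⟶ X)
  (hpb : IsPullback g (XK ↘ Spec (CommRingCat.of K)) (X ↘ Spec (CommRingCat.of k))
    (Spec.map (CommRingCat.ofHom (algebraMap k K))))

include hpb in
/-- twisting by the pullback of a high power of an ample module gives `H¹ = 0` and `H⁰ ≠ 0` -/
theorem exists_twist (hX : Curve.IsSmoothProperCurve k X (X ↘ Spec (CommRingCat.of k)))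
    {L : XK.Modules} (hL : PicF.IsInvertible L) :
    ∃ L₀ : X.Modules, PicF.IsInvertible L₀ ∧
      Subsingleton (Coh.HH XK (CohB1.tensorMod L ((Scheme.Modules.pullback g).obj L₀)) 1) ∧
      Module.finrank K
        (Coh.HH XK (CohB1.tensorMod L ((Scheme.Modules.pullback g).obj L₀)) 0) ≠ 0 := by
  obtain ⟨hprop, hsm, hint, hdim⟩ := hX
  haveI := hprop
  haveI := hsm
  haveI := hint
  haveI : IsLocallyNoetherian X :=
    LocallyOfFiniteType.isLocallyNoetherian (X ↘ Spec (CommRingCat.of k))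
  haveI : CompactSpace X :=
    QuasiCompact.compactSpace_of_compactSpace (X ↘ Spec (CommRingCat.of k))
  haveI := isAffineHom_of_isPullback g hpb
  haveI := surjective_of_isPullback g hpb
  haveI := isProper_of_isPullback g hpb
  haveI : IsLocallyNoetherian XK :=
    LocallyOfFiniteType.isLocallyNoetherian (XK ↘ Spec (CommRingCat.of K))
  haveI : CompactSpace XK :=
    QuasiCompact.compactSpace_of_compactSpace (XK ↘ Spec (CommRingCat.of K))
  haveI : QuasiSeparatedSpace XK := inferInstance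
  obtain ⟨A, hA⟩ := OneDim9.exists_isAmple k X hdim.le
  obtain ⟨x⟩ : Nonempty X := inferInstance
  obtain ⟨n, s₁, hxs, haff⟩ := hA.2.2 x
  have hA₁ : CohB1.IsAmple (CohB1.tensorPow A (n + 1)) :=
    Snap9.isAmple_tensorPow hA (n + 1) (Nat.succ_pos n)
  generalize CohB1.tensorPow A (n + 1) = A₁ at hA₁ s₁ hxs haff
  have hB : CohB1.IsAmple ((Scheme.Modules.pullback g).obj A₁) :=
    TensH8.isAmple_pullback_of_isAffineHom g hA₁
  have hgl : CohB1.genLocus _ (VAmpC.pbSec g s₁) = g ⁻¹ᵁ CohB1.genLocus A₁ s₁ :=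
    genLocus_pullback g A₁ hA₁.1 s₁ (PBH8.pullbackUnitIso g).symm
  have haff' : IsAffineOpen (CohB1.genLocus _ (VAmpC.pbSec g s₁)) := by
    rw [hgl]
    exact haff.preimage g
  have hne' : ((CohB1.genLocus _ (VAmpC.pbSec g s₁) : XK.Opens) : Set XK).Nonempty := by
    obtain ⟨y, hy⟩ := g.surjective x
    refine ⟨y, ?_⟩
    rw [hgl]
    show g y ∈ CohB1.genLocus A₁ s₁
    rw [hy]
    exact hxs
  have cL : Coh.IsCoh L := ProperFinH9.isCoh_of_isInvertible hL
  obtain ⟨n₀, hn₀⟩ := RelAmpleVanH9.serre_vanishing_ample (XK ↘ Spec (CommRingCat.of K)) _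
    hB.1 hB L cL
  obtain ⟨n₁, hn₁⟩ := exists_nonzero_hom_twist hB.1 hL (VAmpC.pbSec g s₁) haff' hne'
  obtain ⟨u, hu⟩ := hn₁ (max n₀ n₁) (le_max_right _ _)
  have hv := hn₀ (max n₀ n₁) (le_max_left _ _) 1 Nat.one_pos
  obtain ⟨e⟩ := Groth.Agent.Lib.AmpleFinH2.pullback_tensorPow g hA₁.1 (max n₀ n₁)
  refine ⟨CohB1.tensorPow A₁ (max n₀ n₁), TensH8.isInvertible_tensorPow hA₁.1 _, ?_, ?_⟩
  · exact subsingleton_of_iso (mapL L e) 1 hv
  · rw [← (Groth.Agent.HypConn.hhEquivOfIso (A := K) (mapL L e) 0).finrank_eq]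
    intro h0
    have cT : Coh.IsCoh (CohB1.tensorMod L
        (CohB1.tensorPow ((Scheme.Modules.pullback g).obj A₁) (max n₀ n₁))) :=
      CurveAmple.isCoh_tensorMod XK cL (TensH8.isInvertible_tensorPow hB.1 _)
    haveI := ProperFinH9.finite_HH_of_proper K XK _ cT 0
    haveI : Subsingleton (Coh.HH XK (CohB1.tensorMod L
        (CohB1.tensorPow ((Scheme.Modules.pullback g).obj A₁) (max n₀ n₁))) 0) :=
      Module.finrank_zero_iff.mp h0
    apply hu
    apply (CurveIdeal.thetaEquiv K _).injective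
    exact Subsingleton.elim _ _

include hpb in
/-- descending induction on `h⁰`, subtracting `k`-rational points -/
theorem exists_of_finrank (hX : Curve.IsSmoothProperCurve k X (X ↘ Spec (CommRingCat.of k)))
    {L : XK.Modules} (hL : PicF.IsInvertible L) (t : ℕ) :
    ∀ L₀ : X.Modules, PicF.IsInvertible L₀ →
      Subsingleton (Coh.HH XK (CohB1.tensorMod L ((Scheme.Modules.pullback g).obj L₀)) 1) →
      Module.finrank K
        (Coh.HH XK (CohB1.tensorMod L ((Scheme.Modules.pullback g).obj L₀)) 0) = t + 1 →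
      ∃ L₁ : X.Modules, PicF.IsInvertible L₁ ∧
        Module.finrank K
          (Coh.HH XK (CohB1.tensorMod L ((Scheme.Modules.pullback g).obj L₁)) 0) = 1 ∧
        Subsingleton (Coh.HH XK (CohB1.tensorMod L ((Scheme.Modules.pullback g).obj L₁)) 1) := by
  induction t with
  | zero =>
    intro L₀ hL₀ h1 h0
    exact ⟨L₀, hL₀, h0, h1⟩
  | succ t ih =>
    intro L₀ hL₀ h1 h0
    have hM : PicF.IsInvertible (CohB1.tensorMod L ((Scheme.Modules.pullback g).obj L₀)) :=
      isInvertible_tensorMod hL (isInvertible_pullback g hL₀)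
    obtain ⟨I, hI, r1, r2⟩ := step k K g hpb hX hM h1 (by rw [h0]; exact Nat.succ_ne_zero _)
    let e : CohB1.tensorMod ((Scheme.Modules.pullback g).obj I)
          (CohB1.tensorMod L ((Scheme.Modules.pullback g).obj L₀)) ≅
        CohB1.tensorMod L ((Scheme.Modules.pullback g).obj (CohB1.tensorMod L₀ I)) :=
      comm _ _ ≪≫ assoc _ _ _ ≪≫ mapL L (PullTensH9.pullTensIso g hL₀ hI).symm
    apply ih (CohB1.tensorMod L₀ I) (isInvertible_tensorMod hL₀ hI)
    · exact subsingleton_of_iso e 1 r1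
    · rw [← (Groth.Agent.HypConn.hhEquivOfIso (A := K) e 0).finrank_eq]
      omega

include hpb in
/-- **S6487.** -/
theorem main6487 (hX : Curve.IsSmoothProperCurve k X (X ↘ Spec (CommRingCat.of k)))
    (L : XK.Modules) (hL : PicF.IsInvertible L) :
    ∃ L₀ : X.Modules, PicF.IsInvertible L₀ ∧
      Module.finrank K
        (Coh.HH XK (CohB1.tensorMod L ((Scheme.Modules.pullback g).obj L₀)) 0) = 1 ∧
      Subsingleton (Coh.HH XK (CohB1.tensorMod L ((Scheme.Modules.pullback g).obj L₀)) 1) := by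
  obtain ⟨L₀, hL₀, h1, h0⟩ := exists_twist k K g hpb hX hL
  obtain ⟨t, ht⟩ := Nat.exists_eq_succ_of_ne_zero h0
  exact exists_of_finrank k K g hpb hX hL t L₀ hL₀ h1 ht

end Main

end PicBC
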