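import Mathlib
import Groth.Prelude
import Groth.Agent.Lib.PicBC5_helper9
import Groth.Agent.Lib.VBCurve3_helper9
import Groth.Agent.Lib.CurveAmple5_helper9
import Groth.Agent.Lib.H0Const_helper4

/-!
# Subtracting rational points from a line bundle on a curve over a separably closed field (helper9).
APPEND-ONLY once landed.  Towards S19880.
-/

set_option autoImplicit false
set_option linter.style.haveILetI false
universe u
open CategoryTheory CategoryTheory.Limits AlgebraicGeometry Opposite TopologicalSpace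

namespace PicBC

open QcqsLoc QCohExtn GenLocH8 TensH8 FLFH8 Groth.Agent.TensInv CurveAmple Groth.Agent.HHVan

section Step

variable (k : Type u) [Field k] [IsSepClosed k] {X : Scheme.{u}} [X.Over (Spec (CommRingCat.of k))]
  (K : Type u) [Field K] [Algebra k K] {XK : Scheme.{u}} [XK.Over (Spec (CommRingCat.of K))]
  (g : XK ⟶ X)
  (hpb : IsPullback g (XK ↘ Spec (CommRingCat.of K)) (X ↘ Spec (CommRingCat.of k))
    (Spec.map (CommRingCat.ofHom (algebraMap k K))))

include hpb in
/-- the induction step `PicBC.step`, exposing the rational point -/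
theorem step' (hX : Curve.IsSmoothProperCurve k X (X ↘ Spec (CommRingCat.of k)))
    {M : XK.Modules} (hM : PicF.IsInvertible M)
    (hH1 : Subsingleton (Coh.HH XK M 1)) (hH0 : Module.finrank K (Coh.HH XK M 0) ≠ 0) :
    ∃ (O : Spec (CommRingCat.of k) ⟶ X) (_ : O ≫ (X ↘ Spec (CommRingCat.of k)) = 𝟙 _),
      PicF.IsInvertible (ClSub.idealMod O.ker) ∧
      Subsingleton (Coh.HH XK
        (CohB1.tensorMod ((Scheme.Modules.pullback g).obj (ClSub.idealMod O.ker)) M) 1) ∧
      Module.finrank K (Coh.HH XK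
        (CohB1.tensorMod ((Scheme.Modules.pullback g).obj (ClSub.idealMod O.ker)) M) 0) + 1 =
        Module.finrank K (Coh.HH XK M 0) := by
  obtain ⟨hprop, hsm, hint, hdim⟩ := hX
  haveI := hprop
  haveI := hsm
  haveI := hint
  haveI : IsLocallyNoetherian X :=
    LocallyOfFiniteType.isLocallyNoetherian (X ↘ Spec (CommRingCat.of k))
  haveI : CompactSpace X :=
    QuasiCompact.compactSpace_of_compactSpace (X ↘ Spec (CommRingCat.of k))
  haveI : QuasiSeparatedSpace X := inferInstance
  haveI := flat_of_isPullback g hpb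
  haveI := isProper_of_isPullback g hpb
  haveI := isReduced_of_isPullback g hpb
  haveI : IsLocallyNoetherian XK :=
    LocallyOfFiniteType.isLocallyNoetherian (XK ↘ Spec (CommRingCat.of K))
  -- a nonzero section
  obtain ⟨v, hv⟩ : ∃ v : Coh.HH XK M 0, v ≠ 0 := by
    by_contra hcon
    push Not at hcon
    haveI : Subsingleton (Coh.HH XK M 0) := ⟨fun a b => (hcon a).trans (hcon b).symm⟩
    exact hH0 (Module.finrank_zero_of_subsingleton)
  obtain ⟨σ, hσv⟩ : ∃ σ : Coh.structureModule XK ⟶ M, CurveIdeal.thetaEquiv K M σ = v :=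
    ⟨(CurveIdeal.thetaEquiv K M).symm v, (CurveIdeal.thetaEquiv K M).apply_symm_apply v⟩
  have hσ : σ ≠ 0 := by
    intro h
    apply hv
    rw [← hσv, h, map_zero]
  -- a rational point in the image of its nonvanishing locus
  obtain ⟨O, hO, y, hyG, hyO⟩ := exists_ratPt_mem k K g hpb (CohB1.genLocus M σ)
    (genLocus_nonempty_of_ne_zero hM σ hσ)
  haveI := CurvePtInv.isClosedImmersion_section k O hO
  have hsupp : (O.ker.support : Set X) = Set.range O := by
    rw [Scheme.Hom.support_ker]
    exact O.isClosedEmbedding.isClosed_range.closure_eq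
  have hyZ : g y ∈ O.ker.support := by
    show g y ∈ (O.ker.support : Set X)
    rw [hsupp]
    exact hyO
  have hne : (σ ≫ (midIso g O.ker M).hom) ≫ (sesBC g O.ker M).g ≠ 0 := fun h0 =>
    not_mem_genLocus_of_comp_eq_zero g O.ker hM σ h0 hyZ hyG
  -- closed points
  have hpt : ∀ x ∈ O.ker.support, IsClosed ({x} : Set X) := by
    intro x hx
    have hx' : x ∈ Set.range O := by rw [← hsupp]; exact hx
    obtain ⟨z, rfl⟩ := hx'
    haveI : Subsingleton ↥(Spec (CommRingCat.of k)) :=
      inferInstanceAs (Subsingleton (PrimeSpectrum k))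
    have h1 : ({O z} : Set X) = Set.range O := by
      ext w
      constructor
      · rintro rfl
        exact ⟨z, rfl⟩
      · rintro ⟨z', rfl⟩
        rw [Subsingleton.elim z' z]
        rfl
    rw [h1]
    exact O.isClosedEmbedding.isClosed_range
  have hIinv : PicF.IsInvertible (ClSub.idealMod O.ker) :=
    CurvePtInv.isInvertible_idealMod_of_support hdim O.ker
      (fun x hx => ⟨hpt x hx, Groth.Agent.S1535.result k X x⟩)
  -- coherence
  have cM : Coh.IsCoh M := ProperFinH9.isCoh_of_isInvertible hM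
  have c1 : Coh.IsCoh (sesBC g O.ker M).X₁ :=
    CurveAmple.isCoh_tensorMod XK
      (Groth.Agent.Lib.ConsModH2.isCoh_pullback g _ (CurveIdeal.isCoh_idealMod O.ker)) hM
  have c2 : Coh.IsCoh (sesBC g O.ker M).X₂ := CohDevH8.isCoh_of_iso (midIso g O.ker M).symm cM
  have cQ : Coh.IsCoh ((Scheme.Modules.pullback g).obj (ClSub.quotMod O.ker)) :=
    Groth.Agent.Lib.ConsModH2.isCoh_pullback g _ (CurveIdeal.isCoh_quotMod O.ker)
  have c3 : Coh.IsCoh (sesBC g O.ker M).X₃ := CurveAmple.isCoh_tensorMod XK cQ hM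
  have hH1' : Subsingleton (Coh.HH XK (sesBC g O.ker M).X₂ 1) :=
    subsingleton_of_iso (midIso g O.ker M) 1 hH1
  -- `h⁰` of the skyscraper
  have hQ : Module.finrank K (Coh.HH XK (sesBC g O.ker M).X₃ 0) ≤ 1 := by
    obtain ⟨y₀, hy₀⟩ := exists_preimage_range_eq_singleton g hpb O hO
    have hcl₀ := isClosed_preimage_range g O hO
    rw [hy₀] at hcl₀
    haveI : (ClSub.quotMod O.ker).IsQuasicoherent := (CurveIdeal.isCoh_quotMod O.ker).1
    haveI : SheafOfModules.IsFiniteType (R := X.ringCatSheaf) (ClSub.quotMod O.ker) :=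
      (CurveIdeal.isCoh_quotMod O.ker).2
    have hcl : ∀ x ∈ CohB1.support ((Scheme.Modules.pullback g).obj (ClSub.quotMod O.ker)),
        IsClosed ({x} : Set XK) := by
      intro x hx
      rw [SuppTensH8.support_pullback] at hx
      have hx1 : g x ∈ (O.ker.support : Set X) :=
        CurveIdeal.support_quotMod_subset O.ker (Iso.refl _) hx
      rw [hsupp] at hx1
      have hx2 : x ∈ g ⁻¹' (Set.range O) := hx1
      rw [hy₀, Set.mem_singleton_iff] at hx2
      rw [hx2]
      exact hcl₀
    have h1 := CurvePtInv.finrank_HH0_tensor_rank K XK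
      ((Scheme.Modules.pullback g).obj (ClSub.quotMod O.ker)) M cQ
      (finLocFreeOfRank_one_of_isInvertible hM) hcl
    haveI : Coh.IsQCoh (ClSub.quotMod O.ker) := (CurveIdeal.isCoh_quotMod O.ker).1
    have h2 := Groth.Agent.EulerBC.finrank_HH_pullback g hpb (ClSub.quotMod O.ker) 0
    have h3 := CurvePtInv.finrank_HH0_quotMod_ker k O hO
    show Module.finrank K (Coh.HH XK (CohB1.tensorMod
      ((Scheme.Modules.pullback g).obj (ClSub.quotMod O.ker)) M) 0) ≤ 1
    rw [h1, h2, h3]
  obtain ⟨r1, r2⟩ := step_of_ses K XK (sesBC g O.ker M) (sesBC_shortExact g O.ker hM) c1 c2 c3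
    hH1' hQ (σ ≫ (midIso g O.ker M).hom) hne
  refine ⟨O, hO, hIinv, r1, ?_⟩
  have e := (Groth.Agent.HypConn.hhEquivOfIso (A := K) (midIso g O.ker M) 0).finrank_eq
  rw [e]
  exact r2

end Step

section Id

variable (k : Type u) [Field k] [IsSepClosed k] {X : Scheme.{u}} [X.Over (Spec (CommRingCat.of k))]

/-- the case `K = k`: subtracting a rational point from an invertible module with `H¹ = 0` and
`H⁰ ≠ 0` on a smooth proper curve over a separably closed field -/
theorem step_id (hX : Curve.IsSmoothProperCurve k X (X ↘ Spec (CommRingCat.of k)))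
    {M : X.Modules} (hM : PicF.IsInvertible M)
    (hH1 : Subsingleton (Coh.HH X M 1)) (hH0 : Module.finrank k (Coh.HH X M 0) ≠ 0) :
    ∃ (O : Spec (CommRingCat.of k) ⟶ X) (_ : O ≫ (X ↘ Spec (CommRingCat.of k)) = 𝟙 _),
      PicF.IsInvertible (ClSub.idealMod O.ker) ∧
      Subsingleton (Coh.HH X (CohB1.tensorMod (ClSub.idealMod O.ker) M) 1) ∧
      Module.finrank k (Coh.HH X (CohB1.tensorMod (ClSub.idealMod O.ker) M) 0) + 1 =
        Module.finrank k (Coh.HH X M 0) := by
  have hpb : IsPullback (𝟙 X) (X ↘ Spec (CommRingCat.of k)) (X ↘ Spec (CommRingCat.of k))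
      (Spec.map (CommRingCat.ofHom (algebraMap k k))) := by
    have h1 : Spec.map (CommRingCat.ofHom (algebraMap k k)) = 𝟙 _ := by
      rw [Algebra.algebraMap_self, CommRingCat.ofHom_id]
      exact Spec.map_id _
    rw [h1]
    exact IsPullback.of_horiz_isIso ⟨by rw [Category.id_comp, Category.comp_id]⟩
  obtain ⟨O, hO, hI, r1, r2⟩ := step' k k (𝟙 X) hpb hX hM hH1 hH0
  let e : CohB1.tensorMod ((Scheme.Modules.pullback (𝟙 X)).obj (ClSub.idealMod O.ker)) M ≅
      CohB1.tensorMod (ClSub.idealMod O.ker) M :=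
    mapR ((Scheme.Modules.pullbackId X).app (ClSub.idealMod O.ker)) M
  refine ⟨O, hO, hI, subsingleton_of_iso e 1 r1, ?_⟩
  rw [← (Groth.Agent.HypConn.hhEquivOfIso (A := k) e 0).finrank_eq]
  exact r2

/-- subtracting `n` rational points from an invertible module with `H¹ = 0` and `h⁰ = n + 1` -/
theorem exists_points (hX : Curve.IsSmoothProperCurve k X (X ↘ Spec (CommRingCat.of k))) (n : ℕ) :
    ∀ M : X.Modules, PicF.IsInvertible M → Subsingleton (Coh.HH X M 1) →
      Module.finrank k (Coh.HH X M 0) = n + 1 →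
      ∃ σ : Fin n → (Spec (CommRingCat.of k) ⟶ X),
        (∀ t, σ t ≫ (X ↘ Spec (CommRingCat.of k)) = 𝟙 _) ∧
        Module.finrank k (Coh.HH X (CohB1.tensorMod M (FGA.tensorList
          (List.ofFn fun t : Fin n => ClSub.idealMod (σ t).ker))) 0) = 1 := by
  induction n with
  | zero =>
    intro M _ _ h0
    refine ⟨fun t => t.elim0, fun t => t.elim0, ?_⟩
    rw [List.ofFn_zero]
    have e : CohB1.tensorMod M (FGA.tensorList ([] : List X.Modules)) ≅ M := rightUnit M
    rw [(Groth.Agent.HypConn.hhEquivOfIso (A := k) e 0).finrank_eq]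
    exact h0
  | succ n ih =>
    intro M hM h1 h0
    obtain ⟨O, hO, hI, r1, r2⟩ := step_id k hX hM h1 (by rw [h0]; exact Nat.succ_ne_zero _)
    obtain ⟨σ', hσ', hfin⟩ := ih (CohB1.tensorMod (ClSub.idealMod O.ker) M)
      (isInvertible_tensorMod hI hM) r1 (by omega)
    refine ⟨(Fin.cons O σ' : Fin (n + 1) → (Spec (CommRingCat.of k) ⟶ X)), ?_, ?_⟩
    · intro t
      refine Fin.cases ?_ (fun i => ?_) t
      · rw [Fin.cons_zero]
        exact hO
      · rw [Fin.cons_succ]
        exact hσ' i
    · have hl : (List.ofFn fun t : Fin (n + 1) => ClSub.idealMod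
          ((Fin.cons O σ' : Fin (n + 1) → (Spec (CommRingCat.of k) ⟶ X)) t).ker) =
          ClSub.idealMod O.ker :: List.ofFn fun t : Fin n => ClSub.idealMod (σ' t).ker := by
        rw [List.ofFn_succ]
        simp only [Fin.cons_zero, Fin.cons_succ]
      rw [hl]
      have hc : FGA.tensorList (ClSub.idealMod O.ker ::
            List.ofFn fun t : Fin n => ClSub.idealMod (σ' t).ker) =
          CohB1.tensorMod (ClSub.idealMod O.ker)
            (FGA.tensorList (List.ofFn fun t : Fin n => ClSub.idealMod (σ' t).ker)) := rfl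
      rw [hc]
      generalize FGA.tensorList (List.ofFn fun t : Fin n => ClSub.idealMod (σ' t).ker) = T
        at hfin ⊢
      rw [(Groth.Agent.HypConn.hhEquivOfIso (A := k)
        ((assoc M (ClSub.idealMod O.ker) T).symm ≪≫ mapR (comm M (ClSub.idealMod O.ker)) T)
        0).finrank_eq]
      exact hfin

end Id

section Main

variable (k : Type u) [Field k] (C : Scheme.{u}) [C.Over (Spec (CommRingCat.of k))]

/-- on an integral proper scheme with a rational section, the global functions are `k` -/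
theorem toGlobal_bijective_of_section [IsIntegral C] [IsProper (C ↘ Spec (CommRingCat.of k))]
    (σ₀ : Spec (CommRingCat.of k) ⟶ C) (hσ₀ : σ₀ ≫ (C ↘ Spec (CommRingCat.of k)) = 𝟙 _) :
    Function.Bijective (Coh.toGlobal (C ↘ Spec (CommRingCat.of k))) := by
  have hfield : IsField Γ(C, ⊤) := isField_of_universallyClosed k (C ↘ Spec (CommRingCat.of k))
  haveI : Nontrivial Γ(C, ⊤) := hfield.nontrivial
  constructor
  · exact RingHom.injective (R := k) (S := Γ(C, ⊤)) (Coh.toGlobal (C ↘ Spec (CommRingCat.of k)))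
  · intro w
    have hev : Function.Injective (σ₀.appTop).hom := by
      letI := hfield.toField
      exact RingHom.injective _
    refine ⟨(Scheme.ΓSpecIso (CommRingCat.of k)).hom.hom (σ₀.appTop.hom w), hev ?_⟩
    have h1 : (C ↘ Spec (CommRingCat.of k)).appTop ≫ σ₀.appTop = 𝟙 _ := by
      rw [← Scheme.Hom.comp_appTop, hσ₀]
      rfl
    have h2 : (Scheme.ΓSpecIso (CommRingCat.of k)).inv.hom
        ((Scheme.ΓSpecIso (CommRingCat.of k)).hom.hom (σ₀.appTop.hom w)) = σ₀.appTop.hom w := by
      have := congrArg (fun φ => φ.hom (σ₀.appTop.hom w))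
        (Scheme.ΓSpecIso (CommRingCat.of k)).hom_inv_id
      exact this
    show σ₀.appTop.hom ((C ↘ Spec (CommRingCat.of k)).appTop.hom
      ((Scheme.ΓSpecIso (CommRingCat.of k)).inv.hom
        ((Scheme.ΓSpecIso (CommRingCat.of k)).hom.hom (σ₀.appTop.hom w)))) = σ₀.appTop.hom w
    rw [h2]
    exact congrArg (fun φ => φ.hom (σ₀.appTop.hom w)) h1

/-- **S19880.** -/
theorem main19880 [IsSepClosed k]
    [IsProper (C ↘ Spec (CommRingCat.of k))] [Smooth (C ↘ Spec (CommRingCat.of k))]
    [GeometricallyConnected (C ↘ Spec (CommRingCat.of k))]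
    (hdim : topologicalKrullDim ↥C = 1)
    (g : ℕ) (hg : Curv2.genus k C = g)
    (σ₀ : Spec (CommRingCat.of k) ⟶ C) (hσ₀ : σ₀ ≫ (C ↘ Spec (CommRingCat.of k)) = 𝟙 _)
    (r : ℕ) (hr : 2 * g < r)
    (L : C.Modules) (hL : PicF.IsInvertible L) (hLdeg : Curv2.deg k C L 1 = (r : ℤ)) :
    ∃ σ : Fin (r - g) → (Spec (CommRingCat.of k) ⟶ C),
      (∀ t, σ t ≫ (C ↘ Spec (CommRingCat.of k)) = 𝟙 _) ∧
      Module.finrank k (Coh.HH C (CohB1.tensorMod L (FGA.tensorList
        (List.ofFn fun t : Fin (r - g) => ClSub.idealMod (σ t).ker))) 0) = 1 := by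
  haveI hint : IsIntegral C := VBCurve.isIntegral_of_smooth_geomConn k C
  have hX : Curve.IsSmoothProperCurve k C (C ↘ Spec (CommRingCat.of k)) :=
    ⟨inferInstance, inferInstance, hint, hdim⟩
  have h0 : Module.finrank k (Coh.HH C (Coh.structureModule C) 0) = 1 :=
    Groth.Agent.Lib.H0ConstH4.finrank_HH_zero_eq_one k C
      (toGlobal_bijective_of_section k C σ₀ hσ₀)
  have hH1 : Subsingleton (Coh.HH C L 1) :=
    CurveAmple.HH1_subsingleton_of_deg_ge k C hdim.le hL (by rw [hLdeg, hg]; push_cast; omega)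
  have hh0 : Module.finrank k (Coh.HH C L 0) = (r - g) + 1 := by
    haveI := (ProperFinH9.isCoh_of_isInvertible hL).1
    haveI : (Coh.structureModule C).IsQuasicoherent := (CohDevH8.isCoh_structureModule C).1
    have e1 := CurveRR.euler_eq_sub k C hdim.le L
    have e2 := CurveRR.euler_eq_sub k C hdim.le (Coh.structureModule C)
    have e3 : Module.finrank k (Coh.HH C L 1) = 0 := Module.finrank_zero_of_subsingleton
    have e4 : Module.finrank k (Coh.HH C (Coh.structureModule C) 1) = g := hg
    unfold Curv2.deg at hLdeg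
    rw [e1, e2, e3, e4, h0] at hLdeg
    push_cast at hLdeg
    omega
  exact exists_points k hX (r - g) L hL hH1 hh0

end Main

end PicBC
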