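import Mathlib
import Groth.Prelude
import Groth.Agent.Lib.WDivSh7_helper8
import Groth.Agent.Lib.RefHull22_helper8
import Groth.Agent.Lib.CDivUFD_helper5

set_option autoImplicit false
universe u

open CategoryTheory AlgebraicGeometry TopologicalSpace Opposite
open QcqsLoc GenLocH8 SecOrdH8 FLFH8 QCohExtn RefHullH8 WDivShH8

/-! Locally factorial normal schemes: `O_X(D)` is invertible, and conversely. -/

namespace PicClH8

variable {X : Scheme.{u}} [IsIntegral X] [IsLocallyNoetherian X]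

theorem ord_prod_zpow {ι : Type*} (s : Finset ι) (f : ι → X.functionField)
    (hf : ∀ i ∈ s, f i ≠ 0) (n : ι → ℤ) (y : X) :
    Scheme.ord (∏ i ∈ s, f i ^ n i) y = ∑ i ∈ s, n i * Scheme.ord (f i) y := by
  classical
  induction s using Finset.induction_on with
  | empty => simp [ord_one']
  | insert a s ha ih =>
    rw [Finset.prod_insert ha, Finset.sum_insert ha]
    have h1 : f a ^ n a ≠ 0 := zpow_ne_zero _ (hf a (Finset.mem_insert_self a s))
    have h2 : ∏ i ∈ s, f i ^ n i ≠ 0 :=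
      Finset.prod_ne_zero_iff.mpr (fun i hi => zpow_ne_zero _ (hf i (Finset.mem_insert_of_mem hi)))
    rw [Scheme.ord_mul h1 h2, ord_zpow' y (hf a (Finset.mem_insert_self a s)),
      ih (fun i hi => hf i (Finset.mem_insert_of_mem hi))]

variable (hX : Pi1.IsNormalScheme X)

include hX in
/-- On a locally factorial normal scheme every locally finite divisor is locally principal. -/
theorem exists_good_ufd (hufd : ∀ x : X, UniqueFactorizationMonoid (X.presheaf.stalk x))
    (D : X → ℤ) (hD : LocallyFiniteSupport D) (x : X) :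
    ∃ (W : X.Opens) (g₀ : X.functionField), x ∈ W ∧ g₀ ≠ 0 ∧
      ∀ y ∈ W, Order.coheight y = 1 → Scheme.ord g₀ y = -D y := by
  classical
  obtain ⟨t₁, ht₁, hfin₁⟩ := hD x
  obtain ⟨t', ht't, ht'o, hxt'⟩ := mem_nhds_iff.mp ht₁
  set T : Set X := {z | z ⤳ x ∧ Order.coheight z = 1 ∧ D z ≠ 0} with hT
  have hTfin : T.Finite := by
    apply hfin₁.subset
    rintro z ⟨hzx, -, hz⟩
    exact ⟨ht't (hzx.mem_open ht'o hxt'), hz⟩
  have hex : ∀ z : X, ∃ π : X.functionField, π ≠ 0 ∧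
      (Order.coheight z = 1 → Groth.Agent.CDivUFD.Cond z x π) := by
    intro z
    by_cases hz : Order.coheight z = 1
    · obtain ⟨π, hπ⟩ := Groth.Agent.CDivUFD.exists_cond hX hufd z hz x
      exact ⟨(π : X.functionField), π.ne_zero, fun _ => hπ⟩
    · exact ⟨1, one_ne_zero, fun h => absurd h hz⟩
  choose π hπ0 hπ using hex
  set g₀ : X.functionField := ∏ z ∈ hTfin.toFinset, π z ^ (-D z) with hg₀
  have hg₀0 : g₀ ≠ 0 := Finset.prod_ne_zero_iff.mpr (fun z _ => zpow_ne_zero _ (hπ0 z))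
  have hord : ∀ y : X, y ⤳ x → Order.coheight y = 1 → Scheme.ord g₀ y = -D y := by
    intro y hyx hyc
    rw [hg₀, ord_prod_zpow _ _ (fun z _ => hπ0 z)]
    have h1 : ∀ z ∈ hTfin.toFinset, -D z * Scheme.ord (π z) y = if y = z then -D z else 0 := by
      intro z hz
      have hzT : z ∈ T := hTfin.mem_toFinset.mp hz
      rw [hπ z hzT.2.1 y hyx hyc]
      split_ifs <;> simp
    rw [Finset.sum_congr rfl h1, Finset.sum_ite_eq]
    split_ifs with hyT
    · rfl
    · have hyT' : y ∉ T := fun h => hyT (hTfin.mem_toFinset.mpr h)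
      have : D y = 0 := by
        by_contra hne
        exact hyT' ⟨hyx, hyc, hne⟩
      rw [this, neg_zero]
  -- shrink
  obtain ⟨_, ⟨W₁, hW₁ : IsAffineOpen W₁, rfl⟩, hxW₁, -⟩ :=
    (X.isBasis_affineOpens).exists_subset_of_mem_open (Set.mem_univ x) isOpen_univ
  have hfin₂ := Groth.Agent.OrdFin.finite_ord_ne_zero hW₁ g₀ hg₀0
  set B : Set X := {y | y ∈ t₁ ∧ y ∈ W₁ ∧ Order.coheight y = 1 ∧ Scheme.ord g₀ y ≠ -D y} with hB
  have hBfin : B.Finite := by
    apply (hfin₁.union hfin₂).subset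
    rintro y ⟨hy1, hy2, hyc, hy3⟩
    by_cases hDy : D y = 0
    · right
      refine ⟨hy2, hyc, ?_⟩
      intro h0
      apply hy3
      rw [h0, hDy, neg_zero]
    · left
      exact ⟨hy1, hDy⟩
  set C : Set X := ⋃ y ∈ B, closure ({y} : Set X) with hC
  have hCcl : IsClosed C := hBfin.isClosed_biUnion (fun y _ => isClosed_closure)
  have hxC : x ∉ C := by
    intro hxC
    rw [hC, Set.mem_iUnion₂] at hxC
    obtain ⟨y, hyB, hxy⟩ := hxC
    have hyx : y ⤳ x := specializes_iff_mem_closure.mpr hxy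
    exact hyB.2.2.2 (hord y hyx hyB.2.2.1)
  refine ⟨⟨(t' ∩ (W₁ : Set X)) ∩ Cᶜ, (ht'o.inter W₁.isOpen).inter hCcl.isOpen_compl⟩, g₀,
    ⟨⟨hxt', hxW₁⟩, hxC⟩, hg₀0, ?_⟩
  intro y hy hyc
  by_contra hne
  apply hy.2
  rw [hC, Set.mem_iUnion₂]
  exact ⟨y, ⟨ht't hy.1.1, hy.1.2, hyc, hne⟩, subset_closure rfl⟩


theorem isInvertible_od_of_ufd (hufd : ∀ x : X, UniqueFactorizationMonoid (X.presheaf.stalk x))
    (D : X → ℤ) (hD : LocallyFiniteSupport D) : PicF.IsInvertible (OD hX D) := by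
  apply TensH8.isInvertible_of_gens
  intro x
  obtain ⟨W, g₀, hxW, hg₀, h⟩ := exists_good_ufd hX hufd D hD x
  obtain ⟨_, ⟨W', hW' : IsAffineOpen W', rfl⟩, hxW', hW'W⟩ :=
    (X.isBasis_affineOpens).exists_subset_of_mem_open hxW W.isOpen
  exact ⟨W', hW', hxW', _, isGen_odMk hX D W' g₀ hg₀ (fun y hy hc => h y (hW'W hy) hc)⟩

/-- The canonical rational section of `O_X(D)` has divisor `D`. -/
theorem exists_od_section (D : X → ℤ) (hD : LocallyFiniteSupport D) :
    ∃ s : Cyc.secFibre (OD hX D) (genericPoint X), s ≠ 0 ∧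
      ∀ (x : X), Order.coheight x = 1 →
        D x = Cyc.secOrdAt (OD hX D) (genericPoint X) x
          ((genericPoint_spec X).specializes (Set.mem_univ x)) s := by
  have hc0 : Order.coheight (genericPoint X) ≤ 1 := by
    rw [coheight_genericPoint]; exact zero_le
  obtain ⟨W₀, g₀, hηW₀, hg₀, h₀⟩ := exists_good hX D hD (genericPoint X) hc0
  have he₀ := isGen_odMk hX D W₀ g₀ hg₀ h₀
  set e₀ := odMk hX D W₀ g₀ (fun y hy hc => Or.inr (h₀ y hy hc).ge) with he₀def
  have ha : IsFreeGen (OD hX D) (genericPoint X)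
      ((OD hX D).presheaf.germ W₀ (genericPoint X) hηW₀ e₀) := stalk_gen he₀ hηW₀
  set a := (OD hX D).presheaf.germ W₀ (genericPoint X) hηW₀ e₀ with hadef
  have hφ : (g₀⁻¹ : X.functionField) ≠ 0 := inv_ne_zero hg₀
  refine ⟨(g₀⁻¹ : X.functionField) • fmk (OD hX D) (genericPoint X) a, ?_, ?_⟩
  · intro h0
    have h1 := (ha.fibre_smul_eq_zero_iff _).mp h0
    have h2 : IsUnit (g₀⁻¹ : X.functionField) := isUnit_iff_ne_zero.mpr hφ
    exact (IsLocalRing.maximalIdeal X.functionField).ne_top_iff_one.mp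
      (IsLocalRing.maximalIdeal.isMaximal _).ne_top
      ((Ideal.eq_top_of_isUnit_mem _ h1 h2) ▸ Submodule.mem_top)
  · intro x hx
    obtain ⟨W, g₁, hxW, hg₁, h₁⟩ := exists_good hX D hD x hx.le
    have he := isGen_odMk hX D W g₁ hg₁ h₁
    have hηW : genericPoint X ∈ W :=
      ((genericPoint_spec X).specializes (Set.mem_univ x)).mem_open W.isOpen hxW
    obtain ⟨α, hα0, hα⟩ := exists_coef_generic ha (stalk_gen he hηW)
    have hgα : g₁ = α * g₀ := germ_odMk_eq_smul hX D hηW hηW₀ g₁ g₀ _ _ α hα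
    rw [secOrdAt_eq_ord_mul_inv hx he hxW (g₀⁻¹ : X.functionField) α hφ hα0 hα]
    have h2 : (g₀⁻¹ : X.functionField) * α⁻¹ = g₁⁻¹ := by
      rw [hgα, mul_inv_rev, mul_comm]
    rw [h2, ord_inv' x hg₁, h₁ x hxW hx, neg_neg]

include hX in
/-- `Pic X → Cl X` is surjective exactly when `X` is locally factorial. -/
theorem surj_iff_ufd :
    (∀ Z : ↥X → ℤ, (∀ x : ↥X, Order.coheight x ≠ 1 → Z x = 0) →
        (∀ x : ↥X, ∃ W : X.Opens, x ∈ W ∧ {z : ↥X | z ∈ W ∧ Z z ≠ 0}.Finite) →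
        ∃ (L : X.Modules) (_ : PicF.IsInvertible L) (s : Cyc.secFibre L (genericPoint ↥X)), s ≠ 0 ∧
          ∀ x : ↥X, Order.coheight x = 1 →
            Cyc.secOrdAt L (genericPoint ↥X) x (genericPoint_specializes x) s = Z x) ↔
      ∀ x : ↥X, UniqueFactorizationMonoid ↑(X.presheaf.stalk x) := by
  classical
  constructor
  · intro H x
    rw [UniqueFactorizationMonoid.iff_forall_isPrincipal_of_height_eq_one]
    intro 𝔭 h𝔭 hht
    obtain ⟨x₀, h, hco, rfl⟩ := Groth.Agent.CDivUFD.exists_genPrime_eq x 𝔭 hht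
    obtain ⟨L, hL, s, hs, hdiv⟩ := H (fun z => if z = x₀ then 1 else 0)
      (by
        intro z hz
        rw [if_neg]
        rintro rfl
        exact hz hco)
      (fun y => ⟨⊤, trivial, (Set.finite_singleton x₀).subset (by
        rintro z ⟨-, hz⟩
        by_contra hne
        exact hz (if_neg hne))⟩)
    obtain ⟨W, -, hxW, e, he⟩ := exists_isGen hL x
    have hηW : genericPoint X ∈ W :=
      ((genericPoint_spec X).specializes (Set.mem_univ x)).mem_open W.isOpen hxW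
    have ha : IsFreeGen L (genericPoint X) (L.presheaf.germ W _ hηW e) := stalk_gen he hηW
    obtain ⟨φ, hφ⟩ := ha.fibre_surj s
    have hφ0 : (φ : X.functionField) ≠ 0 := by
      rintro rfl
      rw [zero_smul] at hφ
      exact hs hφ
    have hc : Groth.Agent.CDivUFD.Cond x₀ x φ := by
      intro z hz hcoz
      have hzW : z ∈ W := hz.mem_open W.isOpen hxW
      rw [← secOrdAt_eq_ord hcoz he hzW s φ hφ0 hφ]
      exact hdiv z hcoz
    obtain ⟨β, -, hβ⟩ := Groth.Agent.CDivUFD.exists_generator hX h hco φ hφ0 hc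
    exact ⟨⟨β, hβ.symm⟩⟩
  · intro hufd Z hZ hZfin
    have hD : LocallyFiniteSupport Z := by
      intro x
      obtain ⟨W, hxW, hfin⟩ := hZfin x
      exact ⟨W, W.isOpen.mem_nhds hxW, hfin.subset (fun z hz => ⟨hz.1, hz.2⟩)⟩
    obtain ⟨s, hs, hdiv⟩ := exists_od_section hX Z hD
    exact ⟨OD hX Z, isInvertible_od_of_ufd hX hufd Z hD, s, hs, fun x hx => (hdiv x hx).symm⟩

end PicClH8
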