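import Mathlib
import Groth.Prelude
import Groth.Agent.Lib.FFDescCopy_helper6
import Groth.Agent.Lib.HartogsRing_helper5
import Groth.Agent.Lib.DepthLoc_helper5
import Groth.Agent.Lib.SerreNormal_helper5

/-!
# `Pic(U) → Pic(U^)` is injective for the punctured spectrum of a Noetherian local ring of
depth ≥ 2 (helper6)

`depth_stalk_ge` (copy of `PuncAnn6_helper6.depth_stalk_ge`, light imports), `puncturedSpec_eq`, `isLocalRing_sections` (Hartogs: `Γ(U, O_U) ≅ A`), `main813`.
APPEND-ONLY once landed.
-/

set_option autoImplicit false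
universe u
open Formal2

namespace Groth.Agent.Lib.PicCompl

open CategoryTheory AlgebraicGeometry TopologicalSpace

/-- the local rings of `Spec B` at primes containing `I` have depth `≥ depth_I B` -/
theorem depth_stalk_ge (B : Type u) [CommRing B] [IsNoetherianRing B] (I : Ideal B) (n : ℕ∞) (hI : n ≤ LocCoh.idealDepth I B)
    (x : (Spec (CommRingCat.of B) : Scheme.{u})) (hx : x ∉ LocCoh.puncturedOpen B I) :
    n ≤ LocCoh.depth ((Spec (CommRingCat.of B)).presheaf.stalk x)
      ((Spec (CommRingCat.of B)).presheaf.stalk x) := by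
  have hIx : I ≤ (show PrimeSpectrum B from x).asIdeal := by
    by_contra h
    apply hx
    show (show PrimeSpectrum B from x) ∈ (PrimeSpectrum.zeroLocus (I : Set B))ᶜ
    rw [Set.mem_compl_iff, PrimeSpectrum.mem_zeroLocus]
    exact h
  set p := (show PrimeSpectrum B from x).asIdeal with hp
  have h1 := Groth.Agent.DepthLib.idealDepth_le_depth_localization I B p hIx
  letI : Algebra B ↑((Spec (CommRingCat.of B)).presheaf.stalk x) :=
    StructureSheaf.stalkAlgebra B x
  haveI : IsLocalization.AtPrime (↑((Spec (CommRingCat.of B)).presheaf.stalk x)) p :=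
    StructureSheaf.IsLocalization.to_stalk B x
  let e : Localization.AtPrime p ≃+* ↑((Spec (CommRingCat.of B)).presheaf.stalk x) :=
    (IsLocalization.algEquiv p.primeCompl (Localization.AtPrime p)
      (↑((Spec (CommRingCat.of B)).presheaf.stalk x))).toRingEquiv
  haveI : IsNoetherianRing ↑((Spec (CommRingCat.of B)).presheaf.stalk x) :=
    isNoetherianRing_of_ringEquiv _ e
  rw [← Groth.Agent.SerreLib.depth_eq_of_ringEquiv _ _ e]
  let l : LocalizedModule p.primeCompl B ≃ₗ[Localization.AtPrime p] Localization.AtPrime p :=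
    (IsLocalizedModule.linearEquiv p.primeCompl (LocalizedModule.mkLinearMap p.primeCompl B)
      (Algebra.linearMap B (Localization.AtPrime p))).extendScalarsOfIsLocalization p.primeCompl
        (Localization.AtPrime p)
  have h2 : LocCoh.depth (Localization.AtPrime p) (LocalizedModule p.primeCompl B) =
      LocCoh.depth (Localization.AtPrime p) (Localization.AtPrime p) :=
    Groth.Agent.DepthLib.idealDepth_congr _ _ l
  rw [← h2]
  exact hI.trans h1

theorem puncturedSpec_eq (A : Type u) [CommRing A] [IsLocalRing A] :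
    FEt.puncturedSpec A = LocCoh.puncturedOpen A (IsLocalRing.maximalIdeal A) := by
  apply Opens.ext
  apply Set.ext
  intro x
  have key : ∀ y : PrimeSpectrum A, y ∈ ({IsLocalRing.closedPoint A}ᶜ : Set (PrimeSpectrum A)) ↔
      y ∈ (PrimeSpectrum.zeroLocus ((IsLocalRing.maximalIdeal A : Ideal A) : Set A))ᶜ := by
    intro y
    rw [Set.mem_compl_iff, Set.mem_compl_iff, Set.mem_singleton_iff, PrimeSpectrum.mem_zeroLocus]
    apply not_congr
    constructor
    · rintro rfl
      exact le_refl _
    · intro h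
      apply PrimeSpectrum.ext
      exact le_antisymm (IsLocalRing.le_maximalIdeal y.2.ne_top) h
  exact key x

theorem isLocalRing_sections (A : Type u) [CommRing A] [IsNoetherianRing A]
    [IsLocalRing A] (hdepth : (2 : ℕ∞) ≤ LocCoh.depth A A) :
    IsLocalRing Γ((↑(FEt.puncturedSpec A) : Scheme.{u}), ⊤) := by
  have h1 := Groth.Agent.HartogsRing.bijective_res (X := Spec (CommRingCat.of A))
    (FEt.puncturedSpec A) (fun x hx => by
      rw [puncturedSpec_eq] at hx
      exact depth_stalk_ge A (IsLocalRing.maximalIdeal A) 2 hdepth x hx)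
    ⊤ le_top
  let e1 : A ≃+* Γ(Spec (CommRingCat.of A), ⊤) :=
    (Scheme.ΓSpecIso (CommRingCat.of A)).commRingCatIsoToRingEquiv.symm
  let e2 : Γ(Spec (CommRingCat.of A), ⊤) ≃+* Γ(Spec (CommRingCat.of A), FEt.puncturedSpec A) :=
    RingEquiv.ofBijective _ h1
  let e3 : Γ(Spec (CommRingCat.of A), FEt.puncturedSpec A) ≃+*
      Γ((↑(FEt.puncturedSpec A) : Scheme.{u}), ⊤) :=
    (FEt.puncturedSpec A).topIso.commRingCatIsoToRingEquiv.symm
  exact ((e1.trans e2).trans e3).isLocalRing

theorem main813 (A : Type u) [CommRing A] [IsNoetherianRing A]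
    [IsLocalRing A] (hdepth : (2 : ℕ∞) ≤ LocCoh.depth A A) :
    Formal2.PicPullbackInjective
      (Spec.map (CommRingCat.ofHom (algebraMap A (AdicCompletion (IsLocalRing.maximalIdeal A) A))) ∣_
        FEt.puncturedSpec A) := by
  intro L hL hθ
  obtain ⟨θ⟩ := hθ
  haveI : Module.FaithfullyFlat A (AdicCompletion (IsLocalRing.maximalIdeal A) A) :=
    Module.FaithfullyFlat.of_flat_of_isLocalHom
  haveI : CompactSpace (↑(FEt.puncturedSpec A) : Scheme.{u}) := by
    have h : IsCompact ((FEt.puncturedSpec A : (Spec (CommRingCat.of A)).Opens) :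
        Set (Spec (CommRingCat.of A))) := by
      haveI : NoetherianSpace (PrimeSpectrum A) := inferInstance
      exact NoetherianSpace.isCompact (α := PrimeSpectrum A) _
    exact isCompact_iff_compactSpace.mp h
  haveI : QuasiSeparatedSpace (↑(FEt.puncturedSpec A) : Scheme.{u}) :=
    quasiSeparatedSpace_of_quasiSeparated (FEt.puncturedSpec A).ι
  haveI := isLocalRing_sections A hdepth
  have hsl : Finite (MaximalSpectrum Γ((↑(FEt.puncturedSpec A) : Scheme.{u}), ⊤)) := by
    haveI : Subsingleton (MaximalSpectrum Γ((↑(FEt.puncturedSpec A) : Scheme.{u}), ⊤)) :=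
      ⟨fun a b => MaximalSpectrum.ext ((IsLocalRing.eq_maximalIdeal a.2).trans
        (IsLocalRing.eq_maximalIdeal b.2).symm)⟩
    exact Finite.of_subsingleton
  have hsq := isPullback_morphismRestrict
    (Spec.map (CommRingCat.ofHom (algebraMap A (AdicCompletion (IsLocalRing.maximalIdeal A) A))))
    (FEt.puncturedSpec A)
  exact Groth.Agent.Lib.FFDescH6.trivial_of_pullback_trivial hsq hsl L hL θ

end Groth.Agent.Lib.PicCompl
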