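import Groth.Statements.S15285

/-! # A monoidal functor of Picard groupoids inducing isomorphisms on π₀ and π₁ is an equivalence (lead) -/

set_option backward.isDefEq.respectTransparency false
set_option backward.isDefEq.respectTransparency.types false
set_option linter.unusedSimpArgs false
set_option linter.unusedVariables false
set_option linter.unusedSectionVars false
set_option linter.style.longLine false
set_option maxHeartbeats 800000

universe v v' u u'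

open CategoryTheory MonoidalCategory Functor.LaxMonoidal

namespace Groth.Agent.Lib.PicEquiv

section A

variable {M : Type u} [Category.{v} M] [MonoidalCategory M]

theorem exists_conj (X : M) [(tensorRight X).IsEquivalence] (k : X ⟶ X) :
    ∃ φ : 𝟙_ M ⟶ 𝟙_ M, k = (λ_ X).inv ≫ (φ ▷ X) ≫ (λ_ X).hom := by
  obtain ⟨φ, hφ⟩ := (tensorRight X).map_surjective ((λ_ X).hom ≫ k ≫ (λ_ X).inv)
  refine ⟨φ, ?_⟩
  have h : φ ▷ X = (λ_ X).hom ≫ k ≫ (λ_ X).inv := hφ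
  rw [h]
  simp

theorem conj_injective (X : M) [(tensorRight X).IsEquivalence] (φ ψ : 𝟙_ M ⟶ 𝟙_ M)
    (h : (λ_ X).inv ≫ (φ ▷ X) ≫ (λ_ X).hom = (λ_ X).inv ≫ (ψ ▷ X) ≫ (λ_ X).hom) : φ = ψ := by
  apply (tensorRight X).map_injective
  show φ ▷ X = ψ ▷ X
  have h' := (cancel_epi _).mp h
  exact (cancel_mono _).mp h'

end A

variable {C : Type u} [Category.{v} C] [MonoidalCategory C] [IsGroupoid C]
  {D : Type u'} [Category.{v'} D] [MonoidalCategory D] [IsGroupoid D]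
  (F : C ⥤ D) [F.LaxMonoidal]

theorem map_conj (φ : 𝟙_ C ⟶ 𝟙_ C) (X : C) :
    F.map ((λ_ X).inv ≫ (φ ▷ X) ≫ (λ_ X).hom) =
      (λ_ (F.obj X)).inv ≫ ((ε F ≫ F.map φ ≫ inv (ε F)) ▷ F.obj X) ≫ (λ_ (F.obj X)).hom := by
  rw [Iso.eq_inv_comp]
  have h1 : (ε F ≫ F.map φ ≫ inv (ε F)) ≫ ε F = ε F ≫ F.map φ := by simp
  calc (λ_ (F.obj X)).hom ≫ F.map ((λ_ X).inv ≫ (φ ▷ X) ≫ (λ_ X).hom)
      = (ε F ▷ F.obj X ≫ μ F (𝟙_ C) X ≫ F.map (λ_ X).hom) ≫
          F.map ((λ_ X).inv ≫ (φ ▷ X) ≫ (λ_ X).hom) := by rw [← left_unitality]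
    _ = ε F ▷ F.obj X ≫ μ F (𝟙_ C) X ≫ F.map (φ ▷ X) ≫ F.map (λ_ X).hom := by
        simp only [Category.assoc, ← F.map_comp, Iso.hom_inv_id_assoc]
    _ = ε F ▷ F.obj X ≫ (F.map φ ▷ F.obj X ≫ μ F (𝟙_ C) X) ≫ F.map (λ_ X).hom := by
        rw [μ_natural_left, Category.assoc]
    _ = ((ε F ≫ F.map φ ≫ inv (ε F)) ≫ ε F) ▷ F.obj X ≫ μ F (𝟙_ C) X ≫ F.map (λ_ X).hom := by
        rw [h1, MonoidalCategory.comp_whiskerRight, Category.assoc, Category.assoc]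
    _ = ((ε F ≫ F.map φ ≫ inv (ε F)) ▷ F.obj X) ≫ (λ_ (F.obj X)).hom := by
        rw [MonoidalCategory.comp_whiskerRight, Category.assoc, ← left_unitality]

theorem faithful (hC : ∀ X : C, (tensorLeft X).IsEquivalence ∧ (tensorRight X).IsEquivalence)
    (hD : ∀ X : D, (tensorLeft X).IsEquivalence ∧ (tensorRight X).IsEquivalence)
    (h1 : Function.Bijective (fun φ : 𝟙_ C ⟶ 𝟙_ C => F.map φ)) : F.Faithful := by
  refine ⟨?_⟩
  intro X Y f g hfg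
  haveI := (hC X).2
  haveI := (hD (F.obj X)).2
  obtain ⟨φ, hφ⟩ := exists_conj X (f ≫ inv g)
  have h2 : F.map (f ≫ inv g) = 𝟙 _ := by
    rw [F.map_comp, hfg, ← F.map_comp, IsIso.hom_inv_id, F.map_id]
  rw [hφ, map_conj] at h2
  have h3 : ε F ≫ F.map φ ≫ inv (ε F) = 𝟙 _ :=
    conj_injective (F.obj X) _ _ (by rw [h2]; simp)
  have h4 : F.map φ = F.map (𝟙 _) := by
    rw [F.map_id]
    have h := congrArg (fun t => inv (ε F) ≫ t ≫ ε F) h3
    simpa using h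
  have h5 : φ = 𝟙 _ := h1.injective h4
  rw [h5] at hφ
  have h6 : f ≫ inv g = 𝟙 X := by
    rw [hφ]
    simp
  calc f = (f ≫ inv g) ≫ g := by rw [Category.assoc, IsIso.inv_hom_id, Category.comp_id]
    _ = g := by rw [h6, Category.id_comp]

theorem full (hC : ∀ X : C, (tensorLeft X).IsEquivalence ∧ (tensorRight X).IsEquivalence)
    (hD : ∀ X : D, (tensorLeft X).IsEquivalence ∧ (tensorRight X).IsEquivalence)
    (h0 : ∀ X Y : C, Nonempty (F.obj X ≅ F.obj Y) → Nonempty (X ≅ Y))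
    (h1 : Function.Bijective (fun φ : 𝟙_ C ⟶ 𝟙_ C => F.map φ)) : F.Full := by
  refine ⟨?_⟩
  intro X Y h
  obtain ⟨e⟩ := h0 X Y ⟨asIso h⟩
  haveI := (hD (F.obj X)).2
  obtain ⟨ψ, hψ⟩ := exists_conj (F.obj X) (h ≫ F.map e.inv)
  obtain ⟨φ, hφ⟩ := h1.surjective (inv (ε F) ≫ ψ ≫ ε F)
  have hφ' : ε F ≫ F.map φ ≫ inv (ε F) = ψ := by
    have h : F.map φ = inv (ε F) ≫ ψ ≫ ε F := hφ
    rw [h]
    simp
  refine ⟨((λ_ X).inv ≫ (φ ▷ X) ≫ (λ_ X).hom) ≫ e.hom, ?_⟩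
  rw [F.map_comp, map_conj, hφ', ← hψ, Category.assoc, ← F.map_comp, e.inv_hom_id, F.map_id,
    Category.comp_id]

theorem main (hC : ∀ X : C, (tensorLeft X).IsEquivalence ∧ (tensorRight X).IsEquivalence)
    (hD : ∀ X : D, (tensorLeft X).IsEquivalence ∧ (tensorRight X).IsEquivalence)
    [F.EssSurj]
    (h0 : ∀ X Y : C, Nonempty (F.obj X ≅ F.obj Y) → Nonempty (X ≅ Y))
    (h1 : Function.Bijective (fun φ : 𝟙_ C ⟶ 𝟙_ C => F.map φ)) : F.IsEquivalence := by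
  haveI := faithful F hC hD h1
  haveI := full F hC hD h0 h1
  exact { }

end Groth.Agent.Lib.PicEquiv
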