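import Mathlib
import Groth.Prelude
import Groth.Agent.Lib.OneDim2_helper9
import Groth.Agent.Lib.Tens41_helper8

/-!
# Invertible modules that are pullbacks along a family of morphisms (helper9).
APPEND-ONLY once landed.

`PullGlue9.exists_of_charts`: let `f i : X i ⟶ Y` be a family of morphisms and `V ⊆ Y` an open such
that `Γ(Y, D) ≅ ∏ i, Γ(X i, (f i)⁻¹ D)` for all opens `D ⊆ V`.  Given invertible modules `L i` on
`X i` and affine charts `Vc y ∋ y` on `Y`, pairwise meeting inside `V`, over whose preimages all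
`L i` are trivial, there is an invertible module `N` on `Y` with `(f i)^* N ≅ L i` for all `i`.
-/

set_option autoImplicit false
universe u
open CategoryTheory CategoryTheory.Limits AlgebraicGeometry Opposite TopologicalSpace

namespace PullGlue9

open QcqsLoc QCohExtn GenLocH8 TensH8 Groth.Agent.CocycMod PBH8

section Nat

variable {X Y : Scheme.{u}} (f : X ⟶ Y)

theorem appLE_rX {T D : Y.Opens} (hTD : T ≤ D) {T' : X.Opens} (e : T' ≤ f ⁻¹ᵁ T) (a : Γ(Y, D)) :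
    (f.appLE T T' e).hom (rX hTD a) =
      (f.appLE D T' (e.trans (fun _ h => hTD h))).hom a := by
  have h := Scheme.Hom.map_appLE f e (homOfLE hTD).op
  exact congrArg (fun φ => φ.hom a) h

theorem rX_appLE {D : Y.Opens} {T' D' : X.Opens} (hT'D' : T' ≤ D') (e : D' ≤ f ⁻¹ᵁ D)
    (a : Γ(Y, D)) :
    rX hT'D' ((f.appLE D D' e).hom a) = (f.appLE D T' (hT'D'.trans e)).hom a := by
  have h := Scheme.Hom.appLE_map f e (homOfLE hT'D').op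
  exact congrArg (fun φ => φ.hom a) h

end Nat

section Glue

variable {Y : Scheme.{u}} {J : Type*} {X : J → Scheme.{u}} (f : ∀ i, X i ⟶ Y)
  (L : ∀ i, (X i).Modules) (hL : ∀ i, PicF.IsInvertible (L i)) (V : Y.Opens)

/-- the hypothesis: functions on opens inside `V` are families of functions on the preimages -/
def Star : Prop :=
  ∀ (D : Y.Opens), D ≤ V → ∀ (D' : ∀ i, (X i).Opens) (h : ∀ i, D' i ≤ f i ⁻¹ᵁ D)
    (_ : ∀ i, f i ⁻¹ᵁ D ≤ D' i),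
    Function.Bijective (fun (a : Γ(Y, D)) (i : J) => ((f i).appLE D (D' i) (h i)).hom a)

variable {f V}

theorem Star.isUnit (hstar : Star f V) {D : Y.Opens} (hD : D ≤ V) (D' : ∀ i, (X i).Opens)
    (h : ∀ i, D' i ≤ f i ⁻¹ᵁ D) (h' : ∀ i, f i ⁻¹ᵁ D ≤ D' i) {a : Γ(Y, D)}
    (ha : ∀ i, IsUnit (((f i).appLE D (D' i) (h i)).hom a)) : IsUnit a := by
  let Φ : Γ(Y, D) →+* (∀ i, Γ(X i, D' i)) :=
    RingHom.pi (fun i => ((f i).appLE D (D' i) (h i)).hom)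
  have hb : Function.Bijective Φ := hstar D hD D' h h'
  let E : Γ(Y, D) ≃+* (∀ i, Γ(X i, D' i)) := RingEquiv.ofBijective Φ hb
  have h1 : IsUnit (E a) := by
    rw [Pi.isUnit_iff]
    exact ha
  have h2 := h1.map E.symm
  rwa [RingEquiv.symm_apply_apply] at h2

variable (Vc : Y → Y.Opens) (hVaff : ∀ y, IsAffineOpen (Vc y)) (hyV : ∀ y, y ∈ Vc y)
  (hdisj : ∀ y z, y ≠ z → Vc y ⊓ Vc z ≤ V)
  (ε : ∀ y i, Γ(L i, f i ⁻¹ᵁ Vc y)) (hε : ∀ y i, IsGen (L i) (f i ⁻¹ᵁ Vc y) (ε y i))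

include hVaff hyV hdisj hε in
/-- **gluing**: an invertible module on `Y` pulling back to the given ones -/
theorem exists_of_charts (hstar : Star f V) :
    ∃ N : Y.Modules, PicF.IsInvertible N ∧
      ∀ i, Nonempty ((Scheme.Modules.pullback (f i)).obj N ≅ L i) := by
  classical
  -- transition functions upstairs
  have hτ : ∀ i y z, ∃ t : Γ(X i, f i ⁻¹ᵁ Vc y ⊓ f i ⁻¹ᵁ Vc z), IsUnit t ∧
      rF (L i) inf_le_left (ε y i) = t • rF (L i) inf_le_right (ε z i) := by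
    intro i y z
    obtain ⟨t, ht⟩ := ((hε z i).res inf_le_right).exists_coef (rF (L i) inf_le_left (ε y i))
    refine ⟨t, ?_, ht⟩
    apply isUnit_of_isGen_smul ((hε z i).res inf_le_right)
    rw [← ht]
    exact (hε y i).res inf_le_left
  choose τ hτu hτ using hτ
  have hτself : ∀ i y, τ i y y = 1 := by
    intro i y
    apply IsGen.coef_ext ((hε y i).res inf_le_right)
    rw [one_smul, ← hτ i y y]
  have hle : ∀ i y z, f i ⁻¹ᵁ Vc y ⊓ f i ⁻¹ᵁ Vc z ≤ f i ⁻¹ᵁ (Vc y ⊓ Vc z) :=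
    fun i y z _ h => h
  have hle' : ∀ i y z, f i ⁻¹ᵁ (Vc y ⊓ Vc z) ≤ f i ⁻¹ᵁ Vc y ⊓ f i ⁻¹ᵁ Vc z :=
    fun i y z _ h => h
  -- the transition functions downstairs
  have hη₀ : ∀ y z, ∃ a : Γ(Y, Vc y ⊓ Vc z),
      ∀ i, ((f i).appLE (Vc y ⊓ Vc z) _ (hle i y z)).hom a = τ i y z := by
    intro y z
    by_cases hyz : y = z
    · subst hyz
      exact ⟨1, fun i => by rw [map_one, hτself]⟩
    · obtain ⟨a, ha⟩ := (hstar _ (hdisj y z hyz) _ (fun i => hle i y z)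
        (fun i => hle' i y z)).2 (fun i => τ i y z)
      exact ⟨a, fun i => congrFun ha i⟩
  choose η₀ hη₀ using hη₀
  have hη₀u : ∀ y z, y ≠ z → IsUnit (η₀ y z) := by
    intro y z hyz
    apply hstar.isUnit (hdisj y z hyz) _ (fun i => hle i y z) (fun i => hle' i y z)
    intro i
    rw [hη₀]
    exact hτu i y z
  let η₁ : ∀ y z, Γ(Y, Vc y ⊓ Vc z) := fun y z => if y = z then 1 else η₀ y z
  have hη₁ : ∀ y z i, ((f i).appLE (Vc y ⊓ Vc z) _ (hle i y z)).hom (η₁ y z) = τ i y z := by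
    intro y z i
    by_cases hyz : y = z
    · subst hyz
      simp only [η₁, if_pos rfl]
      rw [map_one, hτself]
    · simp only [η₁, if_neg hyz]
      exact hη₀ y z i
  have hη₁u : ∀ y z, IsUnit (η₁ y z) := by
    intro y z
    by_cases hyz : y = z
    · simp only [η₁, if_pos hyz]
      exact isUnit_one
    · simp only [η₁, if_neg hyz]
      exact hη₀u y z hyz
  let η : ∀ y z, (Γ(Y, Vc y ⊓ Vc z))ˣ := fun y z => (hη₁u y z).unit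
  have hηval : ∀ y z, (η y z : Γ(Y, Vc y ⊓ Vc z)) = η₁ y z := fun y z => IsUnit.unit_spec _
  -- the cocycle condition upstairs
  have hτc : ∀ i y z w,
      rX (inf_le_inf_right (f i ⁻¹ᵁ Vc w) inf_le_left :
          f i ⁻¹ᵁ Vc y ⊓ f i ⁻¹ᵁ Vc z ⊓ f i ⁻¹ᵁ Vc w ≤ f i ⁻¹ᵁ Vc y ⊓ f i ⁻¹ᵁ Vc w) (τ i y w) =
        rX (inf_le_left :
          f i ⁻¹ᵁ Vc y ⊓ f i ⁻¹ᵁ Vc z ⊓ f i ⁻¹ᵁ Vc w ≤ f i ⁻¹ᵁ Vc y ⊓ f i ⁻¹ᵁ Vc z) (τ i y z) *
        rX (inf_le_inf_right (f i ⁻¹ᵁ Vc w) inf_le_right :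
          f i ⁻¹ᵁ Vc y ⊓ f i ⁻¹ᵁ Vc z ⊓ f i ⁻¹ᵁ Vc w ≤ f i ⁻¹ᵁ Vc z ⊓ f i ⁻¹ᵁ Vc w) (τ i z w) := by
    intro i y z w
    apply IsGen.coef_ext ((hε w i).res (inf_le_right :
      f i ⁻¹ᵁ Vc y ⊓ f i ⁻¹ᵁ Vc z ⊓ f i ⁻¹ᵁ Vc w ≤ f i ⁻¹ᵁ Vc w))
    have h1 := congrArg (rF (L i) (inf_le_inf_right (f i ⁻¹ᵁ Vc w) inf_le_left :
      f i ⁻¹ᵁ Vc y ⊓ f i ⁻¹ᵁ Vc z ⊓ f i ⁻¹ᵁ Vc w ≤ f i ⁻¹ᵁ Vc y ⊓ f i ⁻¹ᵁ Vc w)) (hτ i y w)
    have h2 := congrArg (rF (L i) (inf_le_left :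
      f i ⁻¹ᵁ Vc y ⊓ f i ⁻¹ᵁ Vc z ⊓ f i ⁻¹ᵁ Vc w ≤ f i ⁻¹ᵁ Vc y ⊓ f i ⁻¹ᵁ Vc z)) (hτ i y z)
    have h3 := congrArg (rF (L i) (inf_le_inf_right (f i ⁻¹ᵁ Vc w) inf_le_right :
      f i ⁻¹ᵁ Vc y ⊓ f i ⁻¹ᵁ Vc z ⊓ f i ⁻¹ᵁ Vc w ≤ f i ⁻¹ᵁ Vc z ⊓ f i ⁻¹ᵁ Vc w)) (hτ i z w)
    rw [rF_smul, rF_rF, rF_rF] at h1 h2 h3
    rw [mul_smul, ← h3, ← h2, ← h1]
  have hcoc : Cocycle Vc η := by
    intro y z w
    show rX _ (η y w : Γ(Y, Vc y ⊓ Vc w)) = rX _ (η y z : Γ(Y, Vc y ⊓ Vc z)) *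
      rX _ (η z w : Γ(Y, Vc z ⊓ Vc w))
    rw [hηval, hηval, hηval]
    by_cases hall : y = z ∧ z = w
    · obtain ⟨rfl, rfl⟩ := hall
      simp only [η₁, if_pos rfl, map_one, mul_one]
    · have hT : Vc y ⊓ Vc z ⊓ Vc w ≤ V := by
        by_cases hyz : y = z
        · have hzw : z ≠ w := fun h => hall ⟨hyz, h⟩
          exact (inf_le_inf_right (Vc w) inf_le_right).trans (hdisj z w hzw)
        · exact inf_le_left.trans (hdisj y z hyz)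
      have hT1 : ∀ i, f i ⁻¹ᵁ Vc y ⊓ f i ⁻¹ᵁ Vc z ⊓ f i ⁻¹ᵁ Vc w ≤
          f i ⁻¹ᵁ (Vc y ⊓ Vc z ⊓ Vc w) := fun i _ h => h
      have hT2 : ∀ i, f i ⁻¹ᵁ (Vc y ⊓ Vc z ⊓ Vc w) ≤
          f i ⁻¹ᵁ Vc y ⊓ f i ⁻¹ᵁ Vc z ⊓ f i ⁻¹ᵁ Vc w := fun i _ h => h
      apply (hstar _ hT _ hT1 hT2).1
      funext i
      show ((f i).appLE _ _ (hT1 i)).hom _ = ((f i).appLE _ _ (hT1 i)).hom _
      rw [map_mul, appLE_rX, appLE_rX, appLE_rX]
      have e1 := rX_appLE (f i) (inf_le_inf_right (f i ⁻¹ᵁ Vc w) inf_le_left :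
        f i ⁻¹ᵁ Vc y ⊓ f i ⁻¹ᵁ Vc z ⊓ f i ⁻¹ᵁ Vc w ≤ f i ⁻¹ᵁ Vc y ⊓ f i ⁻¹ᵁ Vc w)
        (hle i y w) (η₁ y w)
      have e2 := rX_appLE (f i) (inf_le_left :
        f i ⁻¹ᵁ Vc y ⊓ f i ⁻¹ᵁ Vc z ⊓ f i ⁻¹ᵁ Vc w ≤ f i ⁻¹ᵁ Vc y ⊓ f i ⁻¹ᵁ Vc z)
        (hle i y z) (η₁ y z)
      have e3 := rX_appLE (f i) (inf_le_inf_right (f i ⁻¹ᵁ Vc w) inf_le_right :
        f i ⁻¹ᵁ Vc y ⊓ f i ⁻¹ᵁ Vc z ⊓ f i ⁻¹ᵁ Vc w ≤ f i ⁻¹ᵁ Vc z ⊓ f i ⁻¹ᵁ Vc w)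
        (hle i z w) (η₁ z w)
      rw [hη₁] at e1 e2 e3
      rw [← e1, ← e2, ← e3]
      exact hτc i y z w
  have hsup : iSup Vc = ⊤ := top_le_iff.mp (fun x _ => Opens.mem_iSup.mpr ⟨x, hyV x⟩)
  have hN : PicF.IsInvertible (Groth.Agent.CocycMod.L Vc η id hyV hcoc) :=
    isInvertible_L Vc η id hyV hcoc hsup
  refine ⟨Groth.Agent.CocycMod.L Vc η id hyV hcoc, hN, fun i => ?_⟩
  have hsupU : iSup (fun y => f i ⁻¹ᵁ Vc y) = ⊤ :=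
    top_le_iff.mp (fun x _ => Opens.mem_iSup.mpr ⟨f i x, hyV (f i x)⟩)
  have hs : ∀ y, IsGen ((Scheme.Modules.pullback (f i)).obj (Groth.Agent.CocycMod.L Vc η id hyV hcoc))
      (f i ⁻¹ᵁ Vc y) (cUV (f i) _ le_rfl (sec Vc η id hyV hcoc y)) :=
    fun y => isGen_cUV (f i) hN (hVaff y) (isGen_sec Vc η id hyV hcoc y)
  refine CocycIsoH9.nonempty_iso (U := fun y => f i ⁻¹ᵁ Vc y)
    (s := fun y => cUV (f i) _ le_rfl (sec Vc η id hyV hcoc y)) (s' := fun y => ε y i)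
    (η := fun y z => τ i y z) (η' := fun y z => τ i y z) (u := fun _ => 1) hsupU hs ?_
    (fun y z => hτ i y z) ?_ (fun y => hε y i) (fun _ => isUnit_one)
  · intro y z
    have h1 := congrArg (cUV (f i) (Groth.Agent.CocycMod.L Vc η id hyV hcoc) (hle i y z))
      (rF_sec Vc η id hyV hcoc y z)
    rw [cUV_smul, cUV_resV, cUV_resV, hηval, hη₁] at h1
    rw [rF_cUV, rF_cUV]
    exact h1
  · intro y z
    rw [map_one, map_one, mul_one, one_mul]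

end Glue

section Charts

variable {Y : Scheme.{u}}

/-- a neighbourhood of `y` meeting the discrete complement of `V` at most in `y` -/
theorem exists_nhd_of_discrete_compl (V : Y.Opens) (hdisc : DiscreteTopology ↥((V : Set Y)ᶜ))
    (y : Y) : ∃ W' : Y.Opens, y ∈ W' ∧ ∀ z ∈ W', z ∉ V → z = y := by
  by_cases hy : y ∈ V
  · exact ⟨V, hy, fun z hz hzV => absurd hz hzV⟩
  · have h1 : IsOpen ({⟨y, hy⟩} : Set ↥((V : Set Y)ᶜ)) := isOpen_discrete _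
    obtain ⟨W', hW'o, hW'⟩ := isOpen_induced_iff.mp h1
    refine ⟨⟨W', hW'o⟩, ?_, ?_⟩
    · have : (⟨y, hy⟩ : ↥((V : Set Y)ᶜ)) ∈ Subtype.val ⁻¹' W' := by rw [hW']; rfl
      exact this
    · intro z hz hzV
      have : (⟨z, hzV⟩ : ↥((V : Set Y)ᶜ)) ∈ Subtype.val ⁻¹' W' := hz
      rw [hW'] at this
      exact congrArg Subtype.val this

variable {J : Type*} [Finite J] {X : J → Scheme.{u}} (f : ∀ i, X i ⟶ Y) [∀ i, IsFinite (f i)]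
  (L : ∀ i, (X i).Modules) (hL : ∀ i, PicF.IsInvertible (L i))

include hL in
/-- invertible modules on the sources of finitely many finite morphisms are simultaneously
trivial over the preimages of a small affine neighbourhood of any point of the target -/
theorem exists_chart_of_finite (y : Y) (W : Y.Opens) (hW : IsAffineOpen W) (hyW : y ∈ W) :
    ∃ Vc : Y.Opens, IsAffineOpen Vc ∧ y ∈ Vc ∧ Vc ≤ W ∧
      ∀ i, ∃ e : Γ(L i, f i ⁻¹ᵁ Vc), IsGen (L i) (f i ⁻¹ᵁ Vc) e := by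
  have key : ∀ i, ∃ (G : (X i).Opens) (e : Γ(L i, G)),
      (f i ⁻¹' {y} : Set (X i)) ⊆ G ∧ G ≤ f i ⁻¹ᵁ W ∧ IsGen (L i) G e := by
    intro i
    refine exists_isGen_of_finite (hL i) _ (IsFinite.finite_preimage_singleton (f i) y) _
      (hW.preimage (f i)) ?_
    intro x hx
    have hx' : f i x = y := hx
    show f i x ∈ W
    rw [hx']
    exact hyW
  choose G e hFG hGW he using key
  have hCcl : ∀ i, IsClosed ((f i) '' ((G i : Set (X i))ᶜ)) := fun i =>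
    (f i).isClosedMap _ (G i).isOpen.isClosed_compl
  have hyC : ∀ i, y ∉ (f i) '' ((G i : Set (X i))ᶜ) := by
    rintro i ⟨x, hxG, hxy⟩
    exact hxG (hFG i hxy)
  have hOo : IsOpen ((W : Set Y) ∩ ⋂ i, ((f i) '' ((G i : Set (X i))ᶜ))ᶜ) :=
    W.isOpen.inter (isOpen_iInter_of_finite (fun i => (hCcl i).isOpen_compl))
  have hyO : y ∈ (W : Set Y) ∩ ⋂ i, ((f i) '' ((G i : Set (X i))ᶜ))ᶜ :=
    ⟨hyW, Set.mem_iInter.mpr (fun i => hyC i)⟩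
  obtain ⟨g, hgO, hyg⟩ := hW.exists_basicOpen_le (V := ⟨_, hOo⟩) ⟨y, hyO⟩ hyW
  have hle : ∀ i, f i ⁻¹ᵁ Y.basicOpen g ≤ G i := by
    intro i x hx
    by_contra hxG
    have h1 := (hgO hx).2
    rw [Set.mem_iInter] at h1
    exact h1 i ⟨x, hxG, rfl⟩
  exact ⟨Y.basicOpen g, hW.basicOpen g, hyg, Y.basicOpen_le g, fun i =>
    ⟨rF (L i) (hle i) (e i), (he i).res (hle i)⟩⟩

end Charts

end PullGlue9
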