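import Mathlib
import Groth.Prelude
import Groth.Agent.Lib.PullGlue1_helper9
import Groth.Agent.Lib.BirCurve1_helper9

/-!
# Invertible modules along a finite morphism that is an isomorphism off a discrete set (helper9).
APPEND-ONLY once landed.
-/

set_option autoImplicit false
universe u
open CategoryTheory CategoryTheory.Limits AlgebraicGeometry Opposite TopologicalSpace

namespace PullGlue9

open QcqsLoc QCohExtn GenLocH8 TensH8

section Single

variable {X Y : Scheme.{u}} (f : X ⟶ Y)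

theorem bij_appLE_of_eq (V : Y.Opens) [IsIso (f ∣_ V)] (D : Y.Opens) (hD : D ≤ V)
    (D' : X.Opens) (h : D' = f ⁻¹ᵁ D) : Function.Bijective (f.appLE D D' h.le).hom := by
  subst h
  rw [Scheme.Hom.appLE_eq_app]
  haveI := BirCurve.isIso_app_of_le f V hD
  exact ConcreteCategory.bijective_of_isIso (f.app D)

/-- the hypothesis `Star` for a single morphism which is an isomorphism over `V` -/
theorem star_of_isIso_restrict (V : Y.Opens) [IsIso (f ∣_ V)] :
    Star (J := PUnit.{1}) (X := fun _ => X) (fun _ => f) V := by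
  intro D hD D' h h'
  have hb := bij_appLE_of_eq f V D hD (D' PUnit.unit)
    (le_antisymm (h PUnit.unit) (h' PUnit.unit))
  constructor
  · intro a b hab
    exact hb.1 (congrFun hab PUnit.unit)
  · intro g
    obtain ⟨a, ha⟩ := hb.2 (g PUnit.unit)
    refine ⟨a, ?_⟩
    funext i
    cases i
    exact ha

/-- **S1552** -/
theorem main1552 [IsFinite f] (V : Y.Opens) (hV : IsIso (f ∣_ V))
    (hdisc : DiscreteTopology ((V : Set Y)ᶜ : Set Y))
    (L : X.Modules) (hL : PicF.IsInvertible L) :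
    ∃ N : Y.Modules, PicF.IsInvertible N ∧ Nonempty ((Scheme.Modules.pullback f).obj N ≅ L) := by
  haveI := hV
  have hchart : ∀ y : Y, ∃ Vc : Y.Opens, IsAffineOpen Vc ∧ y ∈ Vc ∧ (∀ z ∈ Vc, z ∉ V → z = y) ∧
      ∀ i : PUnit.{1}, ∃ e : Γ(L, f ⁻¹ᵁ Vc), IsGen L (f ⁻¹ᵁ Vc) e := by
    intro y
    obtain ⟨W', hyW', hW'⟩ := exists_nhd_of_discrete_compl V hdisc y
    obtain ⟨_, ⟨W, hW : IsAffineOpen W, rfl⟩, hyW, hle⟩ :=
      (Y.isBasis_affineOpens).exists_subset_of_mem_open hyW' W'.isOpen
    obtain ⟨Vc, hVc, hyVc, hVcW, he⟩ := exists_chart_of_finite (J := PUnit.{1}) (X := fun _ => X)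
      (fun _ => f) (fun _ => L) (fun _ => hL) y W hW hyW
    exact ⟨Vc, hVc, hyVc, fun z hz => hW' z (hle (hVcW hz)), he⟩
  choose Vc hVaff hyV hpt he using hchart
  choose ε hε using he
  obtain ⟨N, hN, hiso⟩ := exists_of_charts (J := PUnit.{1}) (X := fun _ => X) (f := fun _ => f)
    (V := V) (fun _ => L) Vc hVaff hyV (by
      intro y z hyz w hw
      by_contra hwV
      exact hyz ((hpt y w hw.1 hwV).symm.trans (hpt z w hw.2 hwV))) ε hε
    (star_of_isIso_restrict f V)
  exact ⟨N, hN, hiso PUnit.unit⟩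

end Single

end PullGlue9
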