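import Mathlib
import Groth.Prelude
import Groth.Agent.Lib.PullGlue2_helper9
import Groth.Agent.Lib.NormFieldFT_helper4

/-!
# Points outside a dense open of a one-dimensional Noetherian space, and invertible modules on the
normalization of a curve (helper9).  APPEND-ONLY once landed.
-/

set_option autoImplicit false
universe u
open CategoryTheory CategoryTheory.Limits AlgebraicGeometry Opposite TopologicalSpace

namespace PicNorm9

section Top

variable {Y : Type*} [TopologicalSpace Y]

/-- in a Noetherian T0 space of dimension at most one, the points outside a dense open subset are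
closed -/
theorem isClosed_singleton_of_notMem_dense [T0Space Y] [NoetherianSpace Y]
    (hdim : topologicalKrullDim Y ≤ 1) (V : Set Y) (hVo : IsOpen V) (hV : Dense V) (z : Y)
    (hz : z ∉ V) : IsClosed ({z} : Set Y) := by
  by_contra hcl
  have hne : closure ({z} : Set Y) ≠ {z} := fun h => hcl (h ▸ isClosed_closure)
  obtain ⟨z', hz', hzz'⟩ : ∃ z' ∈ closure ({z} : Set Y), z' ≠ z := by
    by_contra hcon
    push Not at hcon
    apply hne
    apply Set.Subset.antisymm
    · intro w hw
      exact hcon w hw
    · exact subset_closure
  let T1 : IrreducibleCloseds Y :=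
    ⟨closure {z'}, isIrreducible_singleton.closure, isClosed_closure⟩
  let T2 : IrreducibleCloseds Y :=
    ⟨closure {z}, isIrreducible_singleton.closure, isClosed_closure⟩
  let T3 : IrreducibleCloseds Y :=
    ⟨irreducibleComponent z, isIrreducible_irreducibleComponent, isClosed_irreducibleComponent⟩
  have h12 : T1 < T2 := by
    refine lt_of_le_of_ne ?_ ?_
    · show closure ({z'} : Set Y) ⊆ closure {z}
      exact closure_minimal (Set.singleton_subset_iff.mpr hz') isClosed_closure
    · intro h
      have h1 : closure ({z'} : Set Y) = closure {z} := congrArg IrreducibleCloseds.carrier h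
      have hz1 : z ∈ closure ({z'} : Set Y) := by
        rw [h1]
        exact subset_closure (Set.mem_singleton z)
      have s1 : z' ⤳ z := specializes_iff_mem_closure.mpr hz1
      have s2 : z ⤳ z' := specializes_iff_mem_closure.mpr hz'
      exact hzz' (s2.antisymm s1).eq.symm
  have h23 : T2 < T3 := by
    refine lt_of_le_of_ne ?_ ?_
    · show closure ({z} : Set Y) ⊆ irreducibleComponent z
      exact closure_minimal (Set.singleton_subset_iff.mpr mem_irreducibleComponent)
        isClosed_irreducibleComponent
    · intro h
      have h1 : closure ({z} : Set Y) = irreducibleComponent z :=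
        congrArg IrreducibleCloseds.carrier h
      obtain ⟨o, ho, hone, hosub⟩ :=
        NoetherianSpace.exists_isOpen_nonempty_subset_irreducibleComponent
          (irreducibleComponent z) (irreducibleComponent_mem_irreducibleComponents z)
      obtain ⟨w, hwo, hwV⟩ := hV.inter_open_nonempty o ho hone
      have hw : w ∈ closure ({z} : Set Y) := by
        rw [h1]
        exact hosub hwo
      have hsub : closure ({z} : Set Y) ⊆ Vᶜ :=
        closure_minimal (Set.singleton_subset_iff.mpr hz) hVo.isClosed_compl
      exact hsub hw hwV
  have hdim' : Order.krullDim (IrreducibleCloseds Y) ≤ 1 := hdim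
  rcases (Order.krullDim_le_one_iff.mp hdim') T2 with hmin | hmax
  · exact absurd h12 (hmin.not_lt)
  · exact absurd h23 (hmax.not_lt)

/-- a quasi-sober Noetherian `T1` space is finite -/
theorem finite_of_t1 [QuasiSober Y] [NoetherianSpace Y] [T1Space Y] : Finite Y := by
  have hfin : (irreducibleComponents Y).Finite := NoetherianSpace.finite_irreducibleComponents
  have hsing : ∀ z : Y, irreducibleComponent z = {z} := by
    intro z
    have hirr : IsIrreducible (irreducibleComponent z) := isIrreducible_irreducibleComponent
    have hcl : IsClosed (irreducibleComponent z) := isClosed_irreducibleComponent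
    have h1 := hirr.closure_genericPoint hcl
    rw [closure_singleton] at h1
    have hz : z ∈ irreducibleComponent z := mem_irreducibleComponent
    rw [← h1] at hz ⊢
    rw [Set.mem_singleton_iff] at hz
    exact congrArg (fun w => ({w} : Set Y)) hz.symm
  haveI : Finite ↥(irreducibleComponents Y) := hfin.to_subtype
  refine Finite.of_injective (fun z : Y => (⟨irreducibleComponent z,
    irreducibleComponent_mem_irreducibleComponents z⟩ : ↥(irreducibleComponents Y))) ?_
  intro z w h
  have h1 : irreducibleComponent z = irreducibleComponent w := congrArg Subtype.val h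
  rw [hsing, hsing] at h1
  exact Set.singleton_eq_singleton_iff.mp h1

/-- in a quasi-sober Noetherian T0 space of dimension at most one, the complement of a dense open
subset is discrete -/
theorem discrete_compl_of_dense [T0Space Y] [QuasiSober Y] [NoetherianSpace Y]
    (hdim : topologicalKrullDim Y ≤ 1) (V : Set Y) (hVo : IsOpen V) (hV : Dense V) :
    DiscreteTopology ↥(Vᶜ) := by
  haveI : NoetherianSpace ↥(Vᶜ) := NoetherianSpace.set (Vᶜ)
  haveI : QuasiSober ↥(Vᶜ) :=
    (hVo.isClosed_compl.isClosedEmbedding_subtypeVal).quasiSober
  haveI : T1Space ↥(Vᶜ) := ⟨fun p => by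
    have h1 : ({p} : Set ↥(Vᶜ)) = Subtype.val ⁻¹' ({p.1} : Set Y) := by
      ext q
      simp only [Set.mem_singleton_iff, Set.mem_preimage]
      exact ⟨fun h => congrArg Subtype.val h, fun h => Subtype.ext h⟩
    rw [h1]
    exact (isClosed_singleton_of_notMem_dense hdim V hVo hV p.1 p.2).preimage
      continuous_subtype_val⟩
  haveI : Finite ↥(Vᶜ) := finite_of_t1
  infer_instance

end Top

section Norm

/-- **S15026** -/
theorem main15026 (k : Type u) [Field k] (X : Scheme.{u}) [X.Over (Spec (CommRingCat.of k))]
    [IsIntegral X] [IsProper (X ↘ Spec (CommRingCat.of k))]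
    (hdim : topologicalKrullDim X = 1)
    [QuasiCompact (X.fromSpecStalk (genericPoint X))]
    [QuasiSeparated (X.fromSpecStalk (genericPoint X))]
    (N : (Curv2.normalization X).Modules) (hN : PicF.IsInvertible N) :
    ∃ L : X.Modules, PicF.IsInvertible L ∧
      Nonempty ((Scheme.Modules.pullback (Curv2.normalizationι X)).obj L ≅ N) := by
  haveI : IsLocallyNoetherian X :=
    LocallyOfFiniteType.isLocallyNoetherian (X ↘ Spec (CommRingCat.of k))
  haveI : CompactSpace X :=
    QuasiCompact.compactSpace_of_compactSpace (X ↘ Spec (CommRingCat.of k))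
  haveI : IsNoetherian X := {}
  obtain ⟨hfin, -, ⟨V, hVne, hViso⟩, -, -⟩ := Groth.Agent.Lib.NormFieldFTH4.main1585 k X
  haveI := hfin
  have hVd : Dense (V : Set X) := V.isOpen.dense hVne
  have hdisc : DiscreteTopology ↥((V : Set X)ᶜ) :=
    discrete_compl_of_dense hdim.le (V : Set X) V.isOpen hVd
  exact PullGlue9.main1552 (Curv2.normalizationι X) V hViso hdisc N hN

end Norm

end PicNorm9
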