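import Mathlib
import Groth.Prelude
import Groth.Agent.Lib.PullGlue2_helper9
import Groth.Agent.Lib.PicNorm1_helper9

/-!
# Invertible modules along a finite morphism, I: gluing from a reference generator (helper9).
APPEND-ONLY once landed.

`PicFin9.exists_of_rho`: let `f : X ⟶ Y`, `L` a module on `X`, `U ⊆ Y` an open with a generator `t₀`
of `L` over `f⁻¹ U`, and affine charts `Vc y ∋ y` pairwise meeting inside `U`, with generators `ε y`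
of `L` over `f⁻¹ (Vc y)` and units `ρ y` on `Vc y ∩ U` such that `ε y = f^♯(ρ y) t₀` over
`f⁻¹(Vc y ∩ U)`.  Then `L` is the pullback of an invertible module on `Y`.
-/

set_option autoImplicit false
universe u
open CategoryTheory CategoryTheory.Limits AlgebraicGeometry Opposite TopologicalSpace

namespace PicFin9

open QcqsLoc QCohExtn GenLocH8 TensH8 Groth.Agent.CocycMod PBH8 PullGlue9

section Fn

variable {X : Scheme.{u}}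

/-- gluing of functions -/
theorem fn_glue {ι : Type*} (O : ι → X.Opens) (U : X.Opens) (hle : ∀ i, O i ≤ U)
    (hcov : U ≤ ⨆ i, O i) (s : ∀ i, Γ(X, O i))
    (hs : ∀ i j, rX (inf_le_left : O i ⊓ O j ≤ O i) (s i) =
      rX (inf_le_right : O i ⊓ O j ≤ O j) (s j)) :
    ∃ t : Γ(X, U), ∀ i, rX (hle i) t = s i :=
  TensH8.glue (Coh.structureModule X) O U hle hcov s hs

/-- locality of functions -/
theorem fn_eq_of_cover {U : X.Opens} (s t : Γ(X, U))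
    (h : ∀ x ∈ U, ∃ (W : X.Opens) (hW : W ≤ U), x ∈ W ∧ rX hW s = rX hW t) : s = t :=
  QcqsLoc.eq_of_cover (Coh.structureModule X) s t h

/-- being a generator is a local property -/
theorem isGen_of_cover (L : X.Modules) {W : X.Opens} (e : Γ(L, W))
    (h : ∀ x ∈ W, ∃ (W' : X.Opens) (hW' : W' ≤ W), x ∈ W' ∧ IsGen L W' (rF L hW' e)) :
    IsGen L W e := by
  choose! W' hW' hxW' hgen using h
  intro O hO
  let Oi : {x // x ∈ O} → X.Opens := fun x => O ⊓ W' x.1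
  have hOiO : ∀ x, Oi x ≤ O := fun x => inf_le_left
  have hOiW : ∀ x : {x // x ∈ O}, Oi x ≤ W' x.1 := fun x => inf_le_right
  have hg : ∀ x : {x // x ∈ O}, IsGen L (Oi x) (rF L ((hOiO x).trans hO) e) := by
    intro x
    have h1 := (hgen x.1 (hO x.2)).res (hOiW x)
    rw [rF_rF] at h1
    exact h1
  have hcov : O ≤ ⨆ x, Oi x := by
    intro x hx
    exact Opens.mem_iSup.2 ⟨⟨x, hx⟩, hx, hxW' x (hO hx)⟩
  constructor
  · intro l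
    have hc : ∀ x : {x // x ∈ O}, ∃ c : Γ(X, Oi x),
        rF L (hOiO x) l = c • rF L ((hOiO x).trans hO) e := fun x => (hg x).exists_coef _
    choose c hc using hc
    have hcompat : ∀ x y, rX (inf_le_left : Oi x ⊓ Oi y ≤ Oi x) (c x) =
        rX (inf_le_right : Oi x ⊓ Oi y ≤ Oi y) (c y) := by
      intro x y
      apply IsGen.coef_ext ((hg x).res (inf_le_left : Oi x ⊓ Oi y ≤ Oi x))
      have h1 := congrArg (rF L (inf_le_left : Oi x ⊓ Oi y ≤ Oi x)) (hc x)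
      have h2 := congrArg (rF L (inf_le_right : Oi x ⊓ Oi y ≤ Oi y)) (hc y)
      rw [rF_smul, rF_rF, rF_rF] at h1 h2
      rw [rF_rF, ← h1, h2]
    obtain ⟨C, hC⟩ := fn_glue Oi O hOiO hcov c hcompat
    refine ⟨C, ?_⟩
    apply eq_of_cover L
    intro x hx
    refine ⟨Oi ⟨x, hx⟩, hOiO _, ⟨hx, hxW' x (hO hx)⟩, ?_⟩
    rw [rF_smul, hC, rF_rF]
    exact hc ⟨x, hx⟩
  · intro C hC
    apply fn_eq_of_cover
    intro x hx
    refine ⟨Oi ⟨x, hx⟩, hOiO _, ⟨hx, hxW' x (hO hx)⟩, ?_⟩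
    rw [map_zero]
    have h1 := congrArg (rF L (hOiO ⟨x, hx⟩)) hC
    rw [rF_smul, rF_rF, map_zero] at h1
    have h2 := (hg ⟨x, hx⟩ (Oi ⟨x, hx⟩) le_rfl).2 (rX (hOiO ⟨x, hx⟩) C)
    rw [SubExt.rF_self] at h2
    exact h2 h1

/-- generators over pairwise disjoint opens glue to a generator over the union -/
theorem exists_isGen_iSup_of_disjoint (L : X.Modules) {J : Type*} (O : J → X.Opens)
    (hdisj : ∀ i j, i ≠ j → O i ⊓ O j = ⊥) (e : ∀ j, Γ(L, O j))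
    (he : ∀ j, IsGen L (O j) (e j)) :
    ∃ t : Γ(L, ⨆ j, O j), IsGen L (⨆ j, O j) t := by
  have hcompat : ∀ i j, rF L (inf_le_left : O i ⊓ O j ≤ O i) (e i) =
      rF L (inf_le_right : O i ⊓ O j ≤ O j) (e j) := by
    intro i j
    by_cases hij : i = j
    · subst hij
      rfl
    · apply eq_of_cover L
      intro x hx
      rw [hdisj i j hij] at hx
      exact absurd hx (fun h => h)
  obtain ⟨t, ht⟩ := TensH8.glue L O (⨆ j, O j) (fun j => le_iSup O j) le_rfl e hcompat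
  refine ⟨t, isGen_of_cover L t ?_⟩
  intro x hx
  obtain ⟨j, hj⟩ := Opens.mem_iSup.1 hx
  refine ⟨O j, le_iSup O j, hj, ?_⟩
  rw [ht j]
  exact he j

end Fn

section Rho

variable {Y : Scheme.{u}}

/-- restriction of units -/
noncomputable def rU {A B : Y.Opens} (h : A ≤ B) : (Γ(Y, B))ˣ →* (Γ(Y, A))ˣ :=
  Units.map ((rX h : Γ(Y, B) →+* Γ(Y, A)) : Γ(Y, B) →* Γ(Y, A))

theorem coe_rU {A B : Y.Opens} (h : A ≤ B) (u : (Γ(Y, B))ˣ) :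
    ((rU h u : (Γ(Y, A))ˣ) : Γ(Y, A)) = rX h (u : Γ(Y, B)) := rfl

theorem rU_rU {A B C : Y.Opens} (h₁ : A ≤ B) (h₂ : B ≤ C) (u : (Γ(Y, C))ˣ) :
    rU h₁ (rU h₂ u) = rU (h₁.trans h₂) u :=
  Units.ext (rX_rX h₁ h₂ _)

variable (Vc : Y → Y.Opens) (U : Y.Opens) (hdisj : ∀ y z, y ≠ z → Vc y ⊓ Vc z ≤ U)
  (ρ : ∀ y, (Γ(Y, Vc y ⊓ U))ˣ)

open Classical in
/-- the cocycle `ρ_y / ρ_z` -/
noncomputable def etaOf (y z : Y) : (Γ(Y, Vc y ⊓ Vc z))ˣ :=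
  if h : y = z then 1 else
    rU (le_inf inf_le_left (hdisj y z h)) (ρ y) *
      (rU (le_inf inf_le_right (hdisj y z h)) (ρ z))⁻¹

theorem etaOf_self (y : Y) : etaOf Vc U hdisj ρ y y = 1 := by
  unfold etaOf
  rw [dif_pos rfl]

theorem rU_etaOf {y z : Y} {T : Y.Opens} (hT : T ≤ Vc y ⊓ Vc z) (hTU : T ≤ U) :
    rU hT (etaOf Vc U hdisj ρ y z) =
      rU (le_inf (hT.trans inf_le_left) hTU) (ρ y) *
        (rU (le_inf (hT.trans inf_le_right) hTU) (ρ z))⁻¹ := by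
  unfold etaOf
  by_cases h : y = z
  · subst h
    rw [dif_pos rfl, map_one, mul_inv_cancel]
  · rw [dif_neg h, map_mul, map_inv, rU_rU, rU_rU]

theorem cocycle_etaOf : Cocycle Vc (etaOf Vc U hdisj ρ) := by
  intro y z w
  show rX _ (etaOf Vc U hdisj ρ y w : Γ(Y, Vc y ⊓ Vc w)) =
    rX _ (etaOf Vc U hdisj ρ y z : Γ(Y, Vc y ⊓ Vc z)) *
      rX _ (etaOf Vc U hdisj ρ z w : Γ(Y, Vc z ⊓ Vc w))
  by_cases hall : y = z ∧ z = w
  · obtain ⟨rfl, rfl⟩ := hall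
    rw [etaOf_self, Units.val_one, map_one, mul_one]
  · have hT : Vc y ⊓ Vc z ⊓ Vc w ≤ U := by
      by_cases hyz : y = z
      · have hzw : z ≠ w := fun h => hall ⟨hyz, h⟩
        exact (inf_le_inf_right (Vc w) inf_le_right).trans (hdisj z w hzw)
      · exact inf_le_left.trans (hdisj y z hyz)
    have h1 := rU_etaOf Vc U hdisj ρ (y := y) (z := w)
      (inf_le_inf_right (Vc w) inf_le_left : Vc y ⊓ Vc z ⊓ Vc w ≤ Vc y ⊓ Vc w) hT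
    have h2 := rU_etaOf Vc U hdisj ρ (y := y) (z := z)
      (inf_le_left : Vc y ⊓ Vc z ⊓ Vc w ≤ Vc y ⊓ Vc z) hT
    have h3 := rU_etaOf Vc U hdisj ρ (y := z) (z := w)
      (inf_le_inf_right (Vc w) inf_le_right : Vc y ⊓ Vc z ⊓ Vc w ≤ Vc z ⊓ Vc w) hT
    have key : rU (inf_le_inf_right (Vc w) inf_le_left : Vc y ⊓ Vc z ⊓ Vc w ≤ Vc y ⊓ Vc w)
          (etaOf Vc U hdisj ρ y w) =
        rU (inf_le_left : Vc y ⊓ Vc z ⊓ Vc w ≤ Vc y ⊓ Vc z) (etaOf Vc U hdisj ρ y z) *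
          rU (inf_le_inf_right (Vc w) inf_le_right : Vc y ⊓ Vc z ⊓ Vc w ≤ Vc z ⊓ Vc w)
            (etaOf Vc U hdisj ρ z w) := by
      rw [h1, h2, h3, mul_assoc, inv_mul_cancel_left]
    exact congrArg Units.val key

end Rho

section Glue

variable {X Y : Scheme.{u}} (f : X ⟶ Y) (L : X.Modules)
  (Vc : Y → Y.Opens) (hVaff : ∀ y, IsAffineOpen (Vc y)) (hyV : ∀ y, y ∈ Vc y)
  (ε : ∀ y, Γ(L, f ⁻¹ᵁ Vc y)) (hε : ∀ y, IsGen L (f ⁻¹ᵁ Vc y) (ε y))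

include hVaff hyV hε in
/-- a cocycle on `Y` whose pullback is the cocycle of `L` with respect to generators over the
preimages of affine charts exhibits `L` as a pullback -/
theorem exists_of_cocycle (η : ∀ y z, (Γ(Y, Vc y ⊓ Vc z))ˣ) (hcoc : Cocycle Vc η)
    (hτ : ∀ y z, rF L (inf_le_left : f ⁻¹ᵁ Vc y ⊓ f ⁻¹ᵁ Vc z ≤ f ⁻¹ᵁ Vc y) (ε y) =
      (f.appLE (Vc y ⊓ Vc z) (f ⁻¹ᵁ Vc y ⊓ f ⁻¹ᵁ Vc z) (fun _ h => h)).hom
          (η y z : Γ(Y, Vc y ⊓ Vc z)) •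
        rF L (inf_le_right : f ⁻¹ᵁ Vc y ⊓ f ⁻¹ᵁ Vc z ≤ f ⁻¹ᵁ Vc z) (ε z)) :
    ∃ N : Y.Modules, PicF.IsInvertible N ∧
      Nonempty ((Scheme.Modules.pullback f).obj N ≅ L) := by
  have hle : ∀ y z, f ⁻¹ᵁ Vc y ⊓ f ⁻¹ᵁ Vc z ≤ f ⁻¹ᵁ (Vc y ⊓ Vc z) := fun y z _ h => h
  have hsup : iSup Vc = ⊤ := top_le_iff.mp (fun x _ => Opens.mem_iSup.mpr ⟨x, hyV x⟩)
  have hN : PicF.IsInvertible (Groth.Agent.CocycMod.L Vc η id hyV hcoc) :=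
    isInvertible_L Vc η id hyV hcoc hsup
  refine ⟨Groth.Agent.CocycMod.L Vc η id hyV hcoc, hN, ?_⟩
  have hsupU : iSup (fun y => f ⁻¹ᵁ Vc y) = ⊤ :=
    top_le_iff.mp (fun x _ => Opens.mem_iSup.mpr ⟨f x, hyV (f x)⟩)
  have hs : ∀ y, IsGen ((Scheme.Modules.pullback f).obj (Groth.Agent.CocycMod.L Vc η id hyV hcoc))
      (f ⁻¹ᵁ Vc y) (cUV f _ le_rfl (sec Vc η id hyV hcoc y)) :=
    fun y => isGen_cUV f hN (hVaff y) (isGen_sec Vc η id hyV hcoc y)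
  refine CocycIsoH9.nonempty_iso (U := fun y => f ⁻¹ᵁ Vc y)
    (s := fun y => cUV f _ le_rfl (sec Vc η id hyV hcoc y)) (s' := fun y => ε y)
    (η := fun y z => (f.appLE (Vc y ⊓ Vc z) (f ⁻¹ᵁ Vc y ⊓ f ⁻¹ᵁ Vc z) (hle y z)).hom
      (η y z : Γ(Y, Vc y ⊓ Vc z)))
    (η' := fun y z => (f.appLE (Vc y ⊓ Vc z) (f ⁻¹ᵁ Vc y ⊓ f ⁻¹ᵁ Vc z) (hle y z)).hom
      (η y z : Γ(Y, Vc y ⊓ Vc z))) (u := fun _ => 1) hsupU hs ?_
    (fun y z => hτ y z) ?_ (fun y => hε y) (fun _ => isUnit_one)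
  · intro y z
    have h1 := congrArg (cUV f (Groth.Agent.CocycMod.L Vc η id hyV hcoc) (hle y z))
      (rF_sec Vc η id hyV hcoc y z)
    rw [cUV_smul, cUV_resV, cUV_resV] at h1
    rw [rF_cUV, rF_cUV]
    exact h1
  · intro y z
    rw [map_one, map_one, mul_one, one_mul]

include hVaff hyV hε in
/-- **gluing from a reference generator** -/
theorem exists_of_rho (U : Y.Opens) (hdisj : ∀ y z, y ≠ z → Vc y ⊓ Vc z ≤ U)
    (t₀ : Γ(L, f ⁻¹ᵁ U)) (ρ : ∀ y, (Γ(Y, Vc y ⊓ U))ˣ)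
    (hρ : ∀ y, rF L (show f ⁻¹ᵁ (Vc y ⊓ U) ≤ f ⁻¹ᵁ Vc y from fun _ h => h.1) (ε y) =
      (f.app (Vc y ⊓ U)).hom (ρ y : Γ(Y, Vc y ⊓ U)) •
        rF L (show f ⁻¹ᵁ (Vc y ⊓ U) ≤ f ⁻¹ᵁ U from fun _ h => h.2) t₀) :
    ∃ N : Y.Modules, PicF.IsInvertible N ∧
      Nonempty ((Scheme.Modules.pullback f).obj N ≅ L) := by
  refine exists_of_cocycle f L Vc hVaff hyV ε hε (etaOf Vc U hdisj ρ)
    (cocycle_etaOf Vc U hdisj ρ) ?_
  intro y z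
  by_cases hyz : y = z
  · subst hyz
    rw [etaOf_self, Units.val_one, map_one, one_smul]
  · have hWy : f ⁻¹ᵁ Vc y ⊓ f ⁻¹ᵁ Vc z ≤ f ⁻¹ᵁ (Vc y ⊓ U) :=
      fun x hx => ⟨hx.1, hdisj y z hyz ⟨hx.1, hx.2⟩⟩
    have hWz : f ⁻¹ᵁ Vc y ⊓ f ⁻¹ᵁ Vc z ≤ f ⁻¹ᵁ (Vc z ⊓ U) :=
      fun x hx => ⟨hx.2, hdisj y z hyz ⟨hx.1, hx.2⟩⟩
    have hWU : f ⁻¹ᵁ Vc y ⊓ f ⁻¹ᵁ Vc z ≤ f ⁻¹ᵁ U :=
      fun x hx => hdisj y z hyz ⟨hx.1, hx.2⟩
    have h1 := congrArg (rF L hWy) (hρ y)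
    have h2 := congrArg (rF L hWz) (hρ z)
    rw [rF_rF, rF_smul, rF_rF] at h1 h2
    have e1 : rX hWy ((f.app (Vc y ⊓ U)).hom (ρ y : Γ(Y, Vc y ⊓ U))) =
        (f.appLE (Vc y ⊓ U) _ hWy).hom (ρ y : Γ(Y, Vc y ⊓ U)) := by
      rw [← Scheme.Hom.appLE_eq_app]
      exact rX_appLE f hWy le_rfl _
    have e2 : rX hWz ((f.app (Vc z ⊓ U)).hom (ρ z : Γ(Y, Vc z ⊓ U))) =
        (f.appLE (Vc z ⊓ U) _ hWz).hom (ρ z : Γ(Y, Vc z ⊓ U)) := by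
      rw [← Scheme.Hom.appLE_eq_app]
      exact rX_appLE f hWz le_rfl _
    rw [e1] at h1
    rw [e2] at h2
    have hη : etaOf Vc U hdisj ρ y z =
        rU (le_inf inf_le_left (hdisj y z hyz)) (ρ y) *
          (rU (le_inf inf_le_right (hdisj y z hyz)) (ρ z))⁻¹ := by
      unfold etaOf
      rw [dif_neg hyz]
    rw [hη, Units.val_mul, map_mul, coe_rU, appLE_rX]
    have hinv : (f.appLE (Vc y ⊓ Vc z) (f ⁻¹ᵁ Vc y ⊓ f ⁻¹ᵁ Vc z) (fun _ h => h)).hom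
          (((rU (le_inf inf_le_right (hdisj y z hyz)) (ρ z))⁻¹ : (Γ(Y, Vc y ⊓ Vc z))ˣ) :
            Γ(Y, Vc y ⊓ Vc z)) *
        (f.appLE (Vc z ⊓ U) _ hWz).hom (ρ z : Γ(Y, Vc z ⊓ U)) = 1 := by
      have hle : f ⁻¹ᵁ Vc y ⊓ f ⁻¹ᵁ Vc z ≤ f ⁻¹ᵁ (Vc y ⊓ Vc z) := fun _ h => h
      rw [← appLE_rX f (le_inf inf_le_right (hdisj y z hyz) : Vc y ⊓ Vc z ≤ Vc z ⊓ U)
        hle (ρ z : Γ(Y, Vc z ⊓ U)), ← coe_rU, ← map_mul, ← Units.val_mul,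
        inv_mul_cancel, Units.val_one, map_one]
    rw [h2, ← mul_smul, mul_assoc, hinv, mul_one]
    exact h1

end Glue

end PicFin9
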