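import Mathlib
import Groth.Prelude
import Groth.Agent.Lib.PicFin1_helper9

/-!
# Invertible modules along a finite morphism, II: the reference generator and lifting of units
(helper9).  APPEND-ONLY once landed.
-/

set_option autoImplicit false
universe u
open CategoryTheory CategoryTheory.Limits AlgebraicGeometry Opposite TopologicalSpace

namespace PicFin9

open QcqsLoc QCohExtn GenLocH8 TensH8 PBH8 PullGlue9

section Surj

variable {X Y : Scheme.{u}} (f : X ⟶ Y)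

set_option backward.isDefEq.respectTransparency false in
/-- a morphism which is a closed immersion over `V` is surjective on sections over the affine
opens contained in `V` -/
theorem surjective_app_of_le (V : Y.Opens) [IsClosedImmersion (f ∣_ V)] {D : Y.Opens}
    (hD : D ≤ V) (hDaff : IsAffineOpen D) : Function.Surjective (f.app D).hom := by
  obtain ⟨W, rfl⟩ : ∃ W : V.toScheme.Opens, D = V.ι ''ᵁ W :=
    ⟨_, (CurveVan.image_preimage_of_le V hD).symm⟩
  have hW : IsAffineOpen W := (V.ι.isAffineOpen_iff_of_isOpenImmersion).mp hDaff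
  have h1 := morphismRestrict_app f V W
  have h2 : Function.Surjective ((f ∣_ V).app W).hom := (f ∣_ V).app_surjective W hW
  rw [h1] at h2
  have h3 : Function.Surjective
      ((X.presheaf.map (eqToHom (image_morphismRestrict_preimage f V W)).op).hom ∘
        (f.app (V.ι ''ᵁ W)).hom) := h2
  have hinj : Function.Injective
      (X.presheaf.map (eqToHom (image_morphismRestrict_preimage f V W)).op).hom := by
    rw [eqToHom_op, eqToHom_map]
    exact (ConcreteCategory.bijective_of_isIso _).1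
  intro b
  obtain ⟨a, ha⟩ := h3 ((X.presheaf.map (eqToHom (image_morphismRestrict_preimage f V W)).op).hom b)
  exact ⟨a, hinj ha⟩

end Surj

section Dense

variable {X Y : Scheme.{u}} (f : X ⟶ Y) [IsFinite f] [IsNoetherian Y]

/-- a dense open `U_in ⊔ U_out` inside `V`, with `U_out` disjoint from the image of `f` and `U_in`
contained in it, and a generator of `L` over the preimage of `U_in` -/
theorem exists_dense_gen (V : Y.Opens) (hV : Dense (V : Set Y)) (L : X.Modules)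
    (hL : PicF.IsInvertible L) :
    ∃ (Uin Uout : Y.Opens), Uin ⊓ Uout = ⊥ ∧ Uin ⊔ Uout ≤ V ∧
      Dense ((Uin ⊔ Uout : Y.Opens) : Set Y) ∧ (Uin : Set Y) ⊆ Set.range f ∧
      (∀ x : X, f x ∉ Uout) ∧ ∃ t₀ : Γ(L, f ⁻¹ᵁ Uin), IsGen L (f ⁻¹ᵁ Uin) t₀ := by
  classical
  have hSfin : (irreducibleComponents Y).Finite := NoetherianSpace.finite_irreducibleComponents
  have hRcl : IsClosed (Set.range f) := f.isClosedMap.isClosed_range
  -- generic points of the components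
  have hξ : ∀ C : irreducibleComponents Y, ∃ ξ : Y, closure ({ξ} : Set Y) = C.1 := fun C =>
    ⟨C.2.1.genericPoint, C.2.1.closure_genericPoint
      (isClosed_of_mem_irreducibleComponents C.1 C.2)⟩
  choose ξ hξ using hξ
  have hξmem : ∀ C : irreducibleComponents Y, ξ C ∈ C.1 := fun C => by
    rw [← hξ C]
    exact subset_closure (Set.mem_singleton _)
  -- the union of the other components
  let Oth : irreducibleComponents Y → Set Y := fun C =>
    ⋃ C' ∈ (irreducibleComponents Y) \ {C.1}, C'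
  have hOthcl : ∀ C, IsClosed (Oth C) := fun C =>
    (hSfin.subset Set.sdiff_subset).isClosed_biUnion
      (fun C' hC' => isClosed_of_mem_irreducibleComponents C' hC'.1)
  have hξOth : ∀ C, ξ C ∉ Oth C := by
    intro C hmem
    simp only [Oth, Set.mem_iUnion] at hmem
    obtain ⟨C', hC', hmem⟩ := hmem
    have hsub : C.1 ⊆ C' := by
      rw [← hξ C]
      exact closure_minimal (Set.singleton_subset_iff.mpr hmem)
        (isClosed_of_mem_irreducibleComponents C' hC'.1)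
    have h2 : C' ⊆ C.1 := C.2.2 hC'.1.1 hsub
    exact hC'.2 (Set.Subset.antisymm h2 hsub)
  have hcompl : ∀ C : irreducibleComponents Y, ∀ x : Y, x ∉ Oth C → x ∈ C.1 := by
    intro C x hx
    by_contra hxC
    apply hx
    simp only [Oth, Set.mem_iUnion]
    refine ⟨irreducibleComponent x, ⟨irreducibleComponent_mem_irreducibleComponents x, ?_⟩,
      mem_irreducibleComponent⟩
    intro h
    rw [Set.mem_singleton_iff] at h
    exact hxC (h ▸ mem_irreducibleComponent)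
  have hξV : ∀ C : irreducibleComponents Y, ξ C ∈ V := by
    intro C
    obtain ⟨o, ho, hone, hosub⟩ :=
      NoetherianSpace.exists_isOpen_nonempty_subset_irreducibleComponent C.1 C.2
    obtain ⟨w, hwo, hwV⟩ := hV.inter_open_nonempty o ho hone
    have hgp : IsGenericPoint (ξ C) C.1 := hξ C
    exact (hgp.mem_open_set_iff V.isOpen).mpr ⟨w, hosub hwo, hwV⟩
  -- charts at the generic points lying in the image
  have hchart : ∀ j : {C : irreducibleComponents Y // ξ C ∈ Set.range f},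
      ∃ Vc : Y.Opens, IsAffineOpen Vc ∧ ξ j.1 ∈ Vc ∧ Vc ≤ V ∧ (∀ x ∈ Vc, x ∉ Oth j.1) ∧
        ∃ e : Γ(L, f ⁻¹ᵁ Vc), IsGen L (f ⁻¹ᵁ Vc) e := by
    intro j
    have hO : IsOpen ((V : Set Y) ∩ (Oth j.1)ᶜ) := V.isOpen.inter (hOthcl j.1).isOpen_compl
    have hmem : ξ j.1 ∈ (V : Set Y) ∩ (Oth j.1)ᶜ := ⟨hξV j.1, hξOth j.1⟩
    obtain ⟨_, ⟨W, hW : IsAffineOpen W, rfl⟩, hξW, hle⟩ :=
      (Y.isBasis_affineOpens).exists_subset_of_mem_open hmem hO
    obtain ⟨Vc, hVc, hξVc, hVcW, he⟩ := exists_chart_of_finite (J := PUnit.{1})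
      (X := fun _ => X) (fun _ => f) (fun _ => L) (fun _ => hL) (ξ j.1) W hW hξW
    exact ⟨Vc, hVc, hξVc, fun x hx => (hle (hVcW hx)).1, fun x hx => (hle (hVcW hx)).2,
      he PUnit.unit⟩
  choose Vc hVaff hξVc hVcV hVcOth e he using hchart
  have hVcC : ∀ j, ∀ x ∈ Vc j, x ∈ j.1.1 := fun j x hx => hcompl j.1 x (hVcOth j x hx)
  have hVcR : ∀ j, ∀ x ∈ Vc j, x ∈ Set.range f := by
    intro j x hx
    have h1 : j.1.1 ⊆ Set.range f := by
      rw [← hξ j.1]
      exact closure_minimal (Set.singleton_subset_iff.mpr j.2) hRcl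
    exact h1 (hVcC j x hx)
  have hVcdisj : ∀ i j, i ≠ j → ∀ x, x ∈ Vc i → x ∉ Vc j := by
    intro i j hij x hxi hxj
    apply hVcOth j x hxj
    simp only [Oth, Set.mem_iUnion]
    refine ⟨i.1.1, ⟨i.1.2, ?_⟩, hVcC i x hxi⟩
    intro h
    rw [Set.mem_singleton_iff] at h
    exact hij (Subtype.ext (Subtype.ext h))
  let Uin : Y.Opens := ⨆ j, Vc j
  let Uout : Y.Opens := ⟨(V : Set Y) ∩ (Set.range f)ᶜ, V.isOpen.inter hRcl.isOpen_compl⟩
  have hUinR : (Uin : Set Y) ⊆ Set.range f := by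
    intro x hx
    obtain ⟨j, hj⟩ := Opens.mem_iSup.1 hx
    exact hVcR j x hj
  refine ⟨Uin, Uout, ?_, ?_, ?_, hUinR, ?_, ?_⟩
  · ext x
    simp only [Opens.coe_inf, Set.mem_inter_iff, SetLike.mem_coe, Opens.coe_bot,
      Set.mem_empty_iff_false, iff_false, not_and]
    intro hx hx'
    exact hx'.2 (hUinR hx)
  · apply sup_le
    · apply iSup_le
      intro j
      exact hVcV j
    · intro x hx
      exact hx.1
  · rw [dense_iff_closure_eq, Set.eq_univ_iff_forall]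
    intro x
    have hx : x ∈ ⋃₀ irreducibleComponents Y := by
      rw [sUnion_irreducibleComponents]
      trivial
    obtain ⟨C, hC, hxC⟩ := hx
    have hξU : ξ ⟨C, hC⟩ ∈ ((Uin ⊔ Uout : Y.Opens) : Set Y) := by
      by_cases hR : ξ ⟨C, hC⟩ ∈ Set.range f
      · exact Or.inl (Opens.mem_iSup.2 ⟨⟨⟨C, hC⟩, hR⟩, hξVc _⟩)
      · exact Or.inr ⟨hξV _, hR⟩
    have h1 : C ⊆ closure ((Uin ⊔ Uout : Y.Opens) : Set Y) := by
      have h0 : closure ({ξ ⟨C, hC⟩} : Set Y) = C := hξ ⟨C, hC⟩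
      rw [← h0]
      exact closure_mono (Set.singleton_subset_iff.mpr hξU)
    exact h1 hxC
  · intro x hx
    exact hx.2 ⟨x, rfl⟩
  · obtain ⟨t, ht⟩ := exists_isGen_iSup_of_disjoint L (fun j => f ⁻¹ᵁ Vc j) (by
      intro i j hij
      ext x
      simp only [Opens.coe_inf, Set.mem_inter_iff, SetLike.mem_coe, Opens.coe_bot,
        Set.mem_empty_iff_false, iff_false, not_and]
      intro hxi hxj
      exact hVcdisj i j hij (f x) hxi hxj) e he
    have hle : f ⁻¹ᵁ Uin ≤ ⨆ j, f ⁻¹ᵁ Vc j := by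
      intro x hx
      obtain ⟨j, hj⟩ := Opens.mem_iSup.1 (show f x ∈ Uin from hx)
      exact Opens.mem_iSup.2 ⟨j, hj⟩
    exact ⟨rF L hle t, ht.res hle⟩

end Dense

section Lift

variable {X Y : Scheme.{u}} (f : X ⟶ Y)

/-- gluing two functions -/
theorem fn_glue₂ {A B V : Y.Opens} (hA : A ≤ V) (hB : B ≤ V) (hV : V ≤ A ⊔ B)
    (a : Γ(Y, A)) (b : Γ(Y, B))
    (hab : rX (inf_le_left : A ⊓ B ≤ A) a = rX (inf_le_right : A ⊓ B ≤ B) b) :
    ∃ s : Γ(Y, V), rX hA s = a ∧ rX hB s = b :=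
  SerreCrit.glue₂_mod (Coh.structureModule Y) hA hB hV a b hab

/-- lifting units along a morphism which is a closed immersion over `V`, over an affine open
contained in `V` and in the union of an open inside the image and an open outside it -/
theorem exists_unit_lift (V : Y.Opens) [IsClosedImmersion (f ∣_ V)] (Uin Uout : Y.Opens)
    (hdisj : Uin ⊓ Uout = ⊥) (hin : (Uin : Set Y) ⊆ Set.range f) (hout : ∀ x : X, f x ∉ Uout)
    {D : Y.Opens} (hD : IsAffineOpen D) (hDV : D ≤ V) (hDU : D ≤ Uin ⊔ Uout)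
    (ζ : Γ(X, f ⁻¹ᵁ D)) (hζ : IsUnit ζ) :
    ∃ ρ : (Γ(Y, D))ˣ, (f.app D).hom (ρ : Γ(Y, D)) = ζ := by
  obtain ⟨a₀, ha₀⟩ := surjective_app_of_le f V hDV hD ζ
  have hAB : ∀ x, x ∈ D ⊓ Uin → x ∈ D ⊓ Uout → False := by
    intro x hx hx'
    have : x ∈ Uin ⊓ Uout := ⟨hx.2, hx'.2⟩
    rw [hdisj] at this
    exact this
  have hle : D ⊓ Uin ≤ Y.basicOpen a₀ := by
    intro x hx
    obtain ⟨x', rfl⟩ := hin hx.2
    have h1 : x' ∈ X.basicOpen ((f.app D).hom a₀) := by
      rw [ha₀, Scheme.basicOpen_of_isUnit X hζ]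
      exact hx.1
    rw [← Scheme.preimage_basicOpen] at h1
    exact h1
  have hu0 : IsUnit (rX (Y.basicOpen_le a₀) a₀) := Y.toRingedSpace.isUnit_res_basicOpen a₀
  have hu : IsUnit (rX (inf_le_left : D ⊓ Uin ≤ D) a₀) := by
    have h1 := hu0.map (rX hle)
    rwa [rX_rX] at h1
  obtain ⟨b₀, hb₀⟩ := hu.exists_right_inv
  have hcompat : ∀ (p : Γ(Y, D ⊓ Uin)) (q : Γ(Y, D ⊓ Uout)),
      rX (inf_le_left : (D ⊓ Uin) ⊓ (D ⊓ Uout) ≤ D ⊓ Uin) p =
        rX (inf_le_right : (D ⊓ Uin) ⊓ (D ⊓ Uout) ≤ D ⊓ Uout) q := by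
    intro p q
    apply fn_eq_of_cover
    intro x hx
    exact absurd (hAB x hx.1 hx.2) id
  have hcov : D ≤ (D ⊓ Uin) ⊔ (D ⊓ Uout) := by
    intro x hx
    rcases hDU hx with h | h
    · exact Or.inl ⟨hx, h⟩
    · exact Or.inr ⟨hx, h⟩
  obtain ⟨a, haA', haB'⟩ := fn_glue₂
    (inf_le_left : D ⊓ Uin ≤ D) (inf_le_left : D ⊓ Uout ≤ D) hcov
    (rX (inf_le_left : D ⊓ Uin ≤ D) a₀) (1 : Γ(Y, D ⊓ Uout)) (hcompat _ _)
  obtain ⟨b, hbA', hbB'⟩ := fn_glue₂
    (inf_le_left : D ⊓ Uin ≤ D) (inf_le_left : D ⊓ Uout ≤ D) hcov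
    b₀ (1 : Γ(Y, D ⊓ Uout)) (hcompat _ _)
  have hab : a * b = 1 := by
    apply fn_eq_of_cover
    intro x hx
    rcases hDU hx with h | h
    · refine ⟨D ⊓ Uin, inf_le_left, ⟨hx, h⟩, ?_⟩
      rw [map_mul, haA', hbA', hb₀, map_one]
    · refine ⟨D ⊓ Uout, inf_le_left, ⟨hx, h⟩, ?_⟩
      rw [map_mul, haB', hbB', mul_one, map_one]
  refine ⟨Units.mkOfMulEqOne a b hab, ?_⟩
  show (f.app D).hom a = ζ
  have hpre : f ⁻¹ᵁ D ≤ f ⁻¹ᵁ (D ⊓ Uin) := by
    intro x hx
    rcases hDU (show f x ∈ D from hx) with h | h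
    · exact ⟨hx, h⟩
    · exact absurd h (hout x)
  rw [← ha₀, ← Scheme.Hom.appLE_eq_app]
  rw [← appLE_rX f (inf_le_left : D ⊓ Uin ≤ D) hpre a,
    ← appLE_rX f (inf_le_left : D ⊓ Uin ≤ D) hpre a₀, haA']

end Lift

end PicFin9
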