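import Mathlib
import Groth.Prelude
import Groth.Agent.Lib.PicFin2_helper9

/-!
# Invertible modules along a finite morphism, III: charts and the main theorem (helper9).
APPEND-ONLY once landed.

`PicFin9.main7688`: let `f : X ⟶ Y` be finite, `Y` Noetherian of dimension at most one, and suppose
`f` is a closed immersion over a dense open of `Y`.  Then every invertible module on `X` is the
pullback of an invertible module on `Y`.
-/

set_option autoImplicit false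
universe u
open CategoryTheory CategoryTheory.Limits AlgebraicGeometry Opposite TopologicalSpace

namespace PicFin9

open QcqsLoc QCohExtn GenLocH8 TensH8 PBH8 PullGlue9

section Chart

variable {X Y : Scheme.{u}} (f : X ⟶ Y) [IsFinite f] [IsNoetherian Y]

/-- the chart at a point: an affine neighbourhood meeting the complement of `U` at most in the
point, a generator of `L` over its preimage and a unit comparing it with the reference generator -/
theorem exists_chart_rho (hdim : topologicalKrullDim Y ≤ 1) (V : Y.Opens)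
    [IsClosedImmersion (f ∣_ V)] (L : X.Modules) (hL : PicF.IsInvertible L)
    (Uin Uout : Y.Opens) (hdisj : Uin ⊓ Uout = ⊥) (hin : (Uin : Set Y) ⊆ Set.range f)
    (hout : ∀ x : X, f x ∉ Uout) (U : Y.Opens) (hUle : U ≤ Uin ⊔ Uout) (hUV : U ≤ V)
    (hdense : Dense (U : Set Y)) (t₀ : Γ(L, f ⁻¹ᵁ U))
    (ht₀ : IsGen L (f ⁻¹ᵁ U) t₀) (y : Y) :
    ∃ Vc : Y.Opens, IsAffineOpen Vc ∧ y ∈ Vc ∧ (∀ z ∈ Vc, z ∉ U → z = y) ∧
      ∃ ε : Γ(L, f ⁻¹ᵁ Vc), IsGen L (f ⁻¹ᵁ Vc) ε ∧ ∃ ρ : (Γ(Y, Vc ⊓ U))ˣ,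
        rF L (show f ⁻¹ᵁ (Vc ⊓ U) ≤ f ⁻¹ᵁ Vc from fun _ h => h.1) ε =
          (f.app (Vc ⊓ U)).hom (ρ : Γ(Y, Vc ⊓ U)) •
            rF L (show f ⁻¹ᵁ (Vc ⊓ U) ≤ f ⁻¹ᵁ U from fun _ h => h.2) t₀ := by
  by_cases hy : y ∈ U
  · obtain ⟨_, ⟨Vc, hVc : IsAffineOpen Vc, rfl⟩, hyVc, hle⟩ :=
      (Y.isBasis_affineOpens).exists_subset_of_mem_open hy U.isOpen
    have hle' : Vc ≤ U := hle
    have hpre : f ⁻¹ᵁ Vc ≤ f ⁻¹ᵁ U := fun x hx => hle' hx
    refine ⟨Vc, hVc, hyVc, fun z hz hzU => absurd (hle' hz) hzU, rF L hpre t₀, ht₀.res hpre,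
      1, ?_⟩
    rw [Units.val_one, map_one, one_smul, rF_rF]
  · have hdisc : DiscreteTopology ↥((U : Set Y)ᶜ) :=
      PicNorm9.discrete_compl_of_dense hdim (U : Set Y) U.isOpen hdense
    obtain ⟨V₁, g, hV₁, hyV₁, hg, hpt⟩ := OneDim9.exists_chart U hdisc y hy
      (BirCurve.ringKrullDim_stalk_le hdim y)
    obtain ⟨Vc, hVc, hyVc, hVcV₁, he⟩ := exists_chart_of_finite (J := PUnit.{1})
      (X := fun _ => X) (fun _ => f) (fun _ => L) (fun _ => hL) y V₁ hV₁ hyV₁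
    obtain ⟨ε, hε⟩ := he PUnit.unit
    have hDeq : Y.basicOpen (rX hVcV₁ g) = Vc ⊓ U := by
      rw [basicOpen_rX, hg]
      ext x
      simp only [Opens.coe_inf, Set.mem_inter_iff, SetLike.mem_coe]
      constructor
      · rintro ⟨h1, -, h3⟩
        exact ⟨h1, h3⟩
      · rintro ⟨h1, h3⟩
        exact ⟨h1, hVcV₁ h1, h3⟩
    have hDaff : IsAffineOpen (Vc ⊓ U) := by
      rw [← hDeq]
      exact hVc.basicOpen _
    have hp1 : f ⁻¹ᵁ (Vc ⊓ U) ≤ f ⁻¹ᵁ Vc := fun _ h => h.1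
    have hp2 : f ⁻¹ᵁ (Vc ⊓ U) ≤ f ⁻¹ᵁ U := fun _ h => h.2
    obtain ⟨ζ, hζ⟩ := (ht₀.res hp2).exists_coef (rF L hp1 ε)
    have hζu : IsUnit ζ := by
      apply isUnit_of_isGen_smul (ht₀.res hp2)
      rw [← hζ]
      exact hε.res hp1
    have hDU : Vc ⊓ U ≤ Uin ⊔ Uout := inf_le_right.trans hUle
    obtain ⟨ρ, hρ⟩ := exists_unit_lift f V Uin Uout hdisj hin hout hDaff
      (inf_le_right.trans hUV) hDU ζ hζu
    refine ⟨Vc, hVc, hyVc, fun z hz hzU => hpt z (hVcV₁ hz) hzU, ε, hε, ρ, ?_⟩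
    rw [hρ]
    exact hζ

end Chart

section Main

variable {X Y : Scheme.{u}} (f : X ⟶ Y)

/-- **S7688** -/
theorem main7688 [IsFinite f] [IsNoetherian Y] (hdim : topologicalKrullDim Y ≤ 1)
    (V : Y.Opens) (hV : Dense (V : Set Y)) (hfV : IsClosedImmersion (f ∣_ V))
    (L : X.Modules) (hL : PicF.IsInvertible L) :
    ∃ N : Y.Modules, PicF.IsInvertible N ∧
      Nonempty ((Scheme.Modules.pullback f).obj N ≅ L) := by
  haveI := hfV
  obtain ⟨Uin, Uout, hdisj, hUV, hdense, hin, hout, t₀', ht₀'⟩ := exists_dense_gen f V hV L hL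
  have hle : f ⁻¹ᵁ (Uin ⊔ Uout) ≤ f ⁻¹ᵁ Uin := by
    intro x hx
    rcases (show f x ∈ Uin ∨ f x ∈ Uout from hx) with h | h
    · exact h
    · exact absurd h (hout x)
  have key := exists_chart_rho f hdim V L hL Uin Uout hdisj hin hout (Uin ⊔ Uout) le_rfl hUV
    hdense (rF L hle t₀') (ht₀'.res hle)
  choose Vc hVaff hyV hpt ε hε ρ hρ using key
  refine exists_of_rho f L Vc hVaff hyV ε hε (Uin ⊔ Uout) ?_ (rF L hle t₀') ρ hρ
  intro y z hyz w hw
  by_contra hwU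
  exact hyz ((hpt y w hw.1 hwU).symm.trans (hpt z w hw.2 hwU))

end Main

end PicFin9
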