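import Mathlib
import Groth.Prelude
import Groth.Agent.Lib.PicFin3_helper9
import Groth.Agent.Lib.Curve1_helper8

/-!
# Invertible modules along a finite morphism over a scheme whose underlying space is Noetherian of
dimension at most one (helper9).  APPEND-ONLY once landed.

The proofs are those of `PicFin2_helper9`/`PicFin3_helper9`/`OneDim1_helper9` with the hypothesis
`IsNoetherian Y` weakened to `NoetherianSpace Y`: the only place where the local rings were used was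
the finiteness of the set of proper generizations of a point, which is topological here.

* `PicFinN9.main7688'` : the analogue of S7688.
* `PicFinN9.main1644` : S1644.
-/

set_option autoImplicit false
universe u
open CategoryTheory CategoryTheory.Limits AlgebraicGeometry Opposite TopologicalSpace

namespace PicFinN9

open QcqsLoc QCohExtn GenLocH8 TensH8 PBH8 PullGlue9 PicFin9 OneDim9

section Pts

variable {X : Scheme.{u}}

/-- in a scheme whose underlying space is Noetherian of dimension at most one a point has only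
finitely many proper generizations -/
theorem finite_generizations_of_noetherianSpace [NoetherianSpace X]
    (hdim : topologicalKrullDim X ≤ 1) (x : X) : {y : X | y ⤳ x ∧ y ≠ x}.Finite := by
  have hfin : (irreducibleComponents X).Finite := NoetherianSpace.finite_irreducibleComponents
  refine Set.Finite.of_finite_image (f := fun y : X => closure ({y} : Set X))
    (hfin.subset ?_) ?_
  · rintro _ ⟨y, ⟨hyx, hne⟩, rfl⟩
    rcases CurveH8.isMin_or_isMax hdim y with hmin | hmax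
    · exfalso
      exact hne (CurveH8.eq_of_le_of_le (hmin (show x ≤ y from hyx)) hyx)
    · exact CurveH8.closure_mem_irreducibleComponents hmax
  · intro y _ z _ h
    have h1 : closure ({y} : Set X) = closure ({z} : Set X) := h
    have hyz : y ⤳ z := by
      rw [specializes_iff_mem_closure, h1]; exact subset_closure rfl
    have hzy : z ⤳ y := by
      rw [specializes_iff_mem_closure, ← h1]; exact subset_closure rfl
    exact (hyz.antisymm hzy).eq

/-- **charts at the points of the discrete complement**: an affine neighbourhood `V` of `x`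
meeting the complement of `U` only in `x`, with a function `f` on `V` such that `V ∩ U = D(f)` -/
theorem exists_chart' (U : X.Opens) [QuasiCompact U.ι]
    (hdisc : DiscreteTopology ↥((U : Set X)ᶜ)) (x : X) (hx : x ∉ U)
    (hgen : {y : X | y ⤳ x ∧ y ≠ x}.Finite) :
    ∃ (V : X.Opens) (f : Γ(X, V)), IsAffineOpen V ∧ x ∈ V ∧ X.basicOpen f = V ⊓ U ∧
      ∀ y ∈ V, y ∉ U → y = x := by
  classical
  -- an open neighbourhood meeting the complement only in `x`
  have h1 : IsOpen ({⟨x, hx⟩} : Set ↥((U : Set X)ᶜ)) := isOpen_discrete _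
  obtain ⟨W', hW'o, hW'⟩ := isOpen_induced_iff.mp h1
  have hxW' : x ∈ W' := by
    have : (⟨x, hx⟩ : ↥((U : Set X)ᶜ)) ∈ Subtype.val ⁻¹' W' := by rw [hW']; rfl
    exact this
  have hW'x : ∀ y ∈ W', y ∉ U → y = x := by
    intro y hy hyU
    have : (⟨y, hyU⟩ : ↥((U : Set X)ᶜ)) ∈ Subtype.val ⁻¹' W' := hy
    rw [hW'] at this
    exact congrArg Subtype.val this
  obtain ⟨_, ⟨V₀, hV₀ : IsAffineOpen V₀, rfl⟩, hxV₀, hle⟩ :=
    (X.isBasis_affineOpens).exists_subset_of_mem_open hxW' hW'o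
  have hV₀x : ∀ y ∈ V₀, y ∉ U → y = x := fun y hy => hW'x y (hle hy)
  -- compactness of `V₀ ∩ U`
  have hK : IsCompact ((V₀ : Set X) ∩ (U : Set X)) := by
    have h2 : IsCompact (U.ι ⁻¹' (V₀ : Set X)) :=
      QuasiCompact.isCompact_preimage (f := U.ι) _ V₀.isOpen hV₀.isCompact
    have h3 := h2.image U.ι.continuous
    rwa [Set.image_preimage_eq_inter_range, Scheme.Opens.range_ι] at h3
  -- a finite cover by basic opens
  obtain ⟨T, hT⟩ := hK.elim_finite_subcover
    (fun g : {g : Γ(X, V₀) // X.basicOpen g ≤ U} => ((X.basicOpen g.1 : X.Opens) : Set X))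
    (fun g => (X.basicOpen g.1).isOpen) (by
      rintro y ⟨hyV, hyU⟩
      obtain ⟨g, hgU, hyg⟩ := hV₀.exists_basicOpen_le (V := U) ⟨y, hyU⟩ hyV
      exact Set.mem_iUnion.mpr ⟨⟨g, hgU⟩, hyg⟩)
  have hcov : ∀ y, y ∈ V₀ → y ∈ U → ∃ g ∈ T, y ∈ X.basicOpen g.1 := by
    intro y hyV hyU
    have := hT ⟨hyV, hyU⟩
    simp only [Set.mem_iUnion] at this
    obtain ⟨g, hg, hyg⟩ := this
    exact ⟨g, hg, hyg⟩
  set m := ptIdeal V₀ x hxV₀ with hm
  have hfin : {q : PrimeSpectrum Γ(X, V₀) | q.asIdeal < m}.Finite := by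
    refine (hgen.preimage
      (hV₀.fromSpec.isOpenEmbedding.injective.injOn)).subset ?_
    intro (q : PrimeSpectrum Γ(X, V₀)) hq
    have hq' : q.asIdeal < m := hq
    refine ⟨?_, ?_⟩
    · apply specializes_of_ptIdeal_le hV₀ (fromSpec_mem hV₀ q) hxV₀
      rw [ptIdeal_fromSpec]
      exact hq'.le
    · intro heq
      have := ptIdeal_congr heq (fromSpec_mem hV₀ q) hxV₀
      rw [ptIdeal_fromSpec] at this
      exact hq'.ne this
  have hGm : ∀ g ∈ T.image Subtype.val, g ∈ m := by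
    intro g hg
    obtain ⟨g', -, rfl⟩ := Finset.mem_image.mp hg
    rw [hm, mem_ptIdeal_iff]
    exact fun hxg => hx (g'.2 hxg)
  have hG : ∀ q : PrimeSpectrum Γ(X, V₀), q.asIdeal ≠ m →
      ∃ g ∈ T.image Subtype.val, g ∉ q.asIdeal := by
    intro q hq
    have hyV := fromSpec_mem hV₀ q
    have hne : hV₀.fromSpec q ≠ x := by
      intro heq
      have := ptIdeal_congr heq hyV hxV₀
      rw [ptIdeal_fromSpec] at this
      exact hq this
    have hyU : hV₀.fromSpec q ∈ U := by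
      by_contra hyU
      exact hne (hV₀x _ hyV hyU)
    obtain ⟨g, hgT, hyg⟩ := hcov _ hyV hyU
    refine ⟨g.1, Finset.mem_image.mpr ⟨g, hgT, rfl⟩, ?_⟩
    rw [← ptIdeal_fromSpec hV₀ q, mem_ptIdeal_iff, not_not]
    exact hyg
  obtain ⟨f, hfm, t, htm, H⟩ := OneDim9.exists_f_t m hfin (T.image Subtype.val) hGm hG
  have hxf : x ∉ X.basicOpen f := (mem_ptIdeal_iff hxV₀ f).mp hfm
  have hxt : x ∈ X.basicOpen t := by
    by_contra h
    exact htm ((mem_ptIdeal_iff hxV₀ t).mpr h)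
  refine ⟨X.basicOpen t, (X.presheaf.map (homOfLE (X.basicOpen_le t)).op).hom f, hV₀.basicOpen t,
    hxt, ?_, fun y hy => hV₀x y (X.basicOpen_le t hy)⟩
  have hres : X.basicOpen ((X.presheaf.map (homOfLE (X.basicOpen_le t)).op).hom f) =
      X.basicOpen t ⊓ X.basicOpen f := Scheme.basicOpen_res X f (homOfLE (X.basicOpen_le t)).op
  rw [hres]
  apply le_antisymm
  · rintro y ⟨hyt, hyf⟩
    refine ⟨hyt, ?_⟩
    by_contra hyU
    have := hV₀x y (X.basicOpen_le t hyt) hyU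
    rw [this] at hyf
    exact hxf hyf
  · rintro y ⟨hyt, hyU⟩
    refine ⟨hyt, ?_⟩
    by_contra hyf
    have hyV : y ∈ V₀ := X.basicOpen_le t hyt
    have h5 : t ∉ ptIdeal V₀ y hyV := by
      rw [mem_ptIdeal_iff, not_not]
      exact hyt
    have h6 : f ∈ ptIdeal V₀ y hyV := (mem_ptIdeal_iff hyV f).mpr hyf
    have h7 : ptIdeal V₀ y hyV = m := H ⟨ptIdeal V₀ y hyV, inferInstance⟩ h5 h6
    obtain ⟨g, hgT, hyg⟩ := hcov y hyV hyU
    have h8 : g.1 ∈ m := hGm g.1 (Finset.mem_image.mpr ⟨g, hgT, rfl⟩)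
    rw [← h7, mem_ptIdeal_iff] at h8
    exact h8 hyg

end Pts

section Dense

variable {X Y : Scheme.{u}} (f : X ⟶ Y) [IsFinite f] [NoetherianSpace Y]

/-- a dense open `U_in ⊔ U_out` inside `V`, with `U_out` disjoint from the image of `f` and `U_in`
contained in it, and a generator of `L` over the preimage of `U_in` -/
theorem exists_dense_gen' (V : Y.Opens) (hV : Dense (V : Set Y)) (L : X.Modules)
    (hL : PicF.IsInvertible L) :
    ∃ (Uin Uout : Y.Opens), Uin ⊓ Uout = ⊥ ∧ Uin ⊔ Uout ≤ V ∧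
      Dense ((Uin ⊔ Uout : Y.Opens) : Set Y) ∧ (Uin : Set Y) ⊆ Set.range f ∧
      (∀ x : X, f x ∉ Uout) ∧ ∃ t₀ : Γ(L, f ⁻¹ᵁ Uin), IsGen L (f ⁻¹ᵁ Uin) t₀ := by
  classical
  have hSfin : (irreducibleComponents Y).Finite := NoetherianSpace.finite_irreducibleComponents
  have hRcl : IsClosed (Set.range f) := f.isClosedMap.isClosed_range
  -- generic points of the components
  have hξ : ∀ C : irreducibleComponents Y, ∃ ξ : Y, closure ({ξ} : Set Y) = C.1 := fun C =>
    ⟨C.2.1.genericPoint, C.2.1.closure_genericPoint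
      (isClosed_of_mem_irreducibleComponents C.1 C.2)⟩
  choose ξ hξ using hξ
  have hξmem : ∀ C : irreducibleComponents Y, ξ C ∈ C.1 := fun C => by
    rw [← hξ C]
    exact subset_closure (Set.mem_singleton _)
  -- the union of the other components
  let Oth : irreducibleComponents Y → Set Y := fun C =>
    ⋃ C' ∈ (irreducibleComponents Y) \ {C.1}, C'
  have hOthcl : ∀ C, IsClosed (Oth C) := fun C =>
    (hSfin.subset Set.sdiff_subset).isClosed_biUnion
      (fun C' hC' => isClosed_of_mem_irreducibleComponents C' hC'.1)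
  have hξOth : ∀ C, ξ C ∉ Oth C := by
    intro C hmem
    simp only [Oth, Set.mem_iUnion] at hmem
    obtain ⟨C', hC', hmem⟩ := hmem
    have hsub : C.1 ⊆ C' := by
      rw [← hξ C]
      exact closure_minimal (Set.singleton_subset_iff.mpr hmem)
        (isClosed_of_mem_irreducibleComponents C' hC'.1)
    have h2 : C' ⊆ C.1 := C.2.2 hC'.1.1 hsub
    exact hC'.2 (Set.Subset.antisymm h2 hsub)
  have hcompl : ∀ C : irreducibleComponents Y, ∀ x : Y, x ∉ Oth C → x ∈ C.1 := by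
    intro C x hx
    by_contra hxC
    apply hx
    simp only [Oth, Set.mem_iUnion]
    refine ⟨irreducibleComponent x, ⟨irreducibleComponent_mem_irreducibleComponents x, ?_⟩,
      mem_irreducibleComponent⟩
    intro h
    rw [Set.mem_singleton_iff] at h
    exact hxC (h ▸ mem_irreducibleComponent)
  have hξV : ∀ C : irreducibleComponents Y, ξ C ∈ V := by
    intro C
    obtain ⟨o, ho, hone, hosub⟩ :=
      NoetherianSpace.exists_isOpen_nonempty_subset_irreducibleComponent C.1 C.2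
    obtain ⟨w, hwo, hwV⟩ := hV.inter_open_nonempty o ho hone
    have hgp : IsGenericPoint (ξ C) C.1 := hξ C
    exact (hgp.mem_open_set_iff V.isOpen).mpr ⟨w, hosub hwo, hwV⟩
  -- charts at the generic points lying in the image
  have hchart : ∀ j : {C : irreducibleComponents Y // ξ C ∈ Set.range f},
      ∃ Vc : Y.Opens, IsAffineOpen Vc ∧ ξ j.1 ∈ Vc ∧ Vc ≤ V ∧ (∀ x ∈ Vc, x ∉ Oth j.1) ∧
        ∃ e : Γ(L, f ⁻¹ᵁ Vc), IsGen L (f ⁻¹ᵁ Vc) e := by
    intro j
    have hO : IsOpen ((V : Set Y) ∩ (Oth j.1)ᶜ) := V.isOpen.inter (hOthcl j.1).isOpen_compl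
    have hmem : ξ j.1 ∈ (V : Set Y) ∩ (Oth j.1)ᶜ := ⟨hξV j.1, hξOth j.1⟩
    obtain ⟨_, ⟨W, hW : IsAffineOpen W, rfl⟩, hξW, hle⟩ :=
      (Y.isBasis_affineOpens).exists_subset_of_mem_open hmem hO
    obtain ⟨Vc, hVc, hξVc, hVcW, he⟩ := exists_chart_of_finite (J := PUnit.{1})
      (X := fun _ => X) (fun _ => f) (fun _ => L) (fun _ => hL) (ξ j.1) W hW hξW
    exact ⟨Vc, hVc, hξVc, fun x hx => (hle (hVcW hx)).1, fun x hx => (hle (hVcW hx)).2,
      he PUnit.unit⟩
  choose Vc hVaff hξVc hVcV hVcOth e he using hchart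
  have hVcC : ∀ j, ∀ x ∈ Vc j, x ∈ j.1.1 := fun j x hx => hcompl j.1 x (hVcOth j x hx)
  have hVcR : ∀ j, ∀ x ∈ Vc j, x ∈ Set.range f := by
    intro j x hx
    have h1 : j.1.1 ⊆ Set.range f := by
      rw [← hξ j.1]
      exact closure_minimal (Set.singleton_subset_iff.mpr j.2) hRcl
    exact h1 (hVcC j x hx)
  have hVcdisj : ∀ i j, i ≠ j → ∀ x, x ∈ Vc i → x ∉ Vc j := by
    intro i j hij x hxi hxj
    apply hVcOth j x hxj
    simp only [Oth, Set.mem_iUnion]
    refine ⟨i.1.1, ⟨i.1.2, ?_⟩, hVcC i x hxi⟩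
    intro h
    rw [Set.mem_singleton_iff] at h
    exact hij (Subtype.ext (Subtype.ext h))
  let Uin : Y.Opens := ⨆ j, Vc j
  let Uout : Y.Opens := ⟨(V : Set Y) ∩ (Set.range f)ᶜ, V.isOpen.inter hRcl.isOpen_compl⟩
  have hUinR : (Uin : Set Y) ⊆ Set.range f := by
    intro x hx
    obtain ⟨j, hj⟩ := Opens.mem_iSup.1 hx
    exact hVcR j x hj
  refine ⟨Uin, Uout, ?_, ?_, ?_, hUinR, ?_, ?_⟩
  · ext x
    simp only [Opens.coe_inf, Set.mem_inter_iff, SetLike.mem_coe, Opens.coe_bot,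
      Set.mem_empty_iff_false, iff_false, not_and]
    intro hx hx'
    exact hx'.2 (hUinR hx)
  · apply sup_le
    · apply iSup_le
      intro j
      exact hVcV j
    · intro x hx
      exact hx.1
  · rw [dense_iff_closure_eq, Set.eq_univ_iff_forall]
    intro x
    have hx : x ∈ ⋃₀ irreducibleComponents Y := by
      rw [sUnion_irreducibleComponents]
      trivial
    obtain ⟨C, hC, hxC⟩ := hx
    have hξU : ξ ⟨C, hC⟩ ∈ ((Uin ⊔ Uout : Y.Opens) : Set Y) := by
      by_cases hR : ξ ⟨C, hC⟩ ∈ Set.range f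
      · exact Or.inl (Opens.mem_iSup.2 ⟨⟨⟨C, hC⟩, hR⟩, hξVc _⟩)
      · exact Or.inr ⟨hξV _, hR⟩
    have h1 : C ⊆ closure ((Uin ⊔ Uout : Y.Opens) : Set Y) := by
      have h0 : closure ({ξ ⟨C, hC⟩} : Set Y) = C := hξ ⟨C, hC⟩
      rw [← h0]
      exact closure_mono (Set.singleton_subset_iff.mpr hξU)
    exact h1 hxC
  · intro x hx
    exact hx.2 ⟨x, rfl⟩
  · obtain ⟨t, ht⟩ := exists_isGen_iSup_of_disjoint L (fun j => f ⁻¹ᵁ Vc j) (by
      intro i j hij
      ext x
      simp only [Opens.coe_inf, Set.mem_inter_iff, SetLike.mem_coe, Opens.coe_bot,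
        Set.mem_empty_iff_false, iff_false, not_and]
      intro hxi hxj
      exact hVcdisj i j hij (f x) hxi hxj) e he
    have hle : f ⁻¹ᵁ Uin ≤ ⨆ j, f ⁻¹ᵁ Vc j := by
      intro x hx
      obtain ⟨j, hj⟩ := Opens.mem_iSup.1 (show f x ∈ Uin from hx)
      exact Opens.mem_iSup.2 ⟨j, hj⟩
    exact ⟨rF L hle t, ht.res hle⟩

end Dense

section Chart

variable {X Y : Scheme.{u}} (f : X ⟶ Y) [IsFinite f] [NoetherianSpace Y]

/-- the chart at a point: an affine neighbourhood meeting the complement of `U` at most in the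
point, a generator of `L` over its preimage and a unit comparing it with the reference generator -/
theorem exists_chart_rho' (hdim : topologicalKrullDim Y ≤ 1) (V : Y.Opens)
    [IsClosedImmersion (f ∣_ V)] (L : X.Modules) (hL : PicF.IsInvertible L)
    (Uin Uout : Y.Opens) (hdisj : Uin ⊓ Uout = ⊥) (hin : (Uin : Set Y) ⊆ Set.range f)
    (hout : ∀ x : X, f x ∉ Uout) (U : Y.Opens) (hUle : U ≤ Uin ⊔ Uout) (hUV : U ≤ V)
    (hdense : Dense (U : Set Y)) (t₀ : Γ(L, f ⁻¹ᵁ U))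
    (ht₀ : IsGen L (f ⁻¹ᵁ U) t₀) (y : Y) :
    ∃ Vc : Y.Opens, IsAffineOpen Vc ∧ y ∈ Vc ∧ (∀ z ∈ Vc, z ∉ U → z = y) ∧
      ∃ ε : Γ(L, f ⁻¹ᵁ Vc), IsGen L (f ⁻¹ᵁ Vc) ε ∧ ∃ ρ : (Γ(Y, Vc ⊓ U))ˣ,
        rF L (show f ⁻¹ᵁ (Vc ⊓ U) ≤ f ⁻¹ᵁ Vc from fun _ h => h.1) ε =
          (f.app (Vc ⊓ U)).hom (ρ : Γ(Y, Vc ⊓ U)) •
            rF L (show f ⁻¹ᵁ (Vc ⊓ U) ≤ f ⁻¹ᵁ U from fun _ h => h.2) t₀ := by
  by_cases hy : y ∈ U
  · obtain ⟨_, ⟨Vc, hVc : IsAffineOpen Vc, rfl⟩, hyVc, hle⟩ :=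
      (Y.isBasis_affineOpens).exists_subset_of_mem_open hy U.isOpen
    have hle' : Vc ≤ U := hle
    have hpre : f ⁻¹ᵁ Vc ≤ f ⁻¹ᵁ U := fun x hx => hle' hx
    refine ⟨Vc, hVc, hyVc, fun z hz hzU => absurd (hle' hz) hzU, rF L hpre t₀, ht₀.res hpre,
      1, ?_⟩
    rw [Units.val_one, map_one, one_smul, rF_rF]
  · have hdisc : DiscreteTopology ↥((U : Set Y)ᶜ) :=
      PicNorm9.discrete_compl_of_dense hdim (U : Set Y) U.isOpen hdense
    haveI : NoetherianSpace (U : Scheme.{u}) :=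
      (inferInstance : NoetherianSpace ↥(U : Set Y))
    haveI : QuasiCompact U.ι := quasiCompact_of_noetherianSpace_source U.ι
    obtain ⟨V₁, g, hV₁, hyV₁, hg, hpt⟩ := exists_chart' U hdisc y hy
      (finite_generizations_of_noetherianSpace hdim y)
    obtain ⟨Vc, hVc, hyVc, hVcV₁, he⟩ := exists_chart_of_finite (J := PUnit.{1})
      (X := fun _ => X) (fun _ => f) (fun _ => L) (fun _ => hL) y V₁ hV₁ hyV₁
    obtain ⟨ε, hε⟩ := he PUnit.unit
    have hDeq : Y.basicOpen (rX hVcV₁ g) = Vc ⊓ U := by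
      rw [basicOpen_rX, hg]
      ext x
      simp only [Opens.coe_inf, Set.mem_inter_iff, SetLike.mem_coe]
      constructor
      · rintro ⟨h1, -, h3⟩
        exact ⟨h1, h3⟩
      · rintro ⟨h1, h3⟩
        exact ⟨h1, hVcV₁ h1, h3⟩
    have hDaff : IsAffineOpen (Vc ⊓ U) := by
      rw [← hDeq]
      exact hVc.basicOpen _
    have hp1 : f ⁻¹ᵁ (Vc ⊓ U) ≤ f ⁻¹ᵁ Vc := fun _ h => h.1
    have hp2 : f ⁻¹ᵁ (Vc ⊓ U) ≤ f ⁻¹ᵁ U := fun _ h => h.2
    obtain ⟨ζ, hζ⟩ := (ht₀.res hp2).exists_coef (rF L hp1 ε)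
    have hζu : IsUnit ζ := by
      apply isUnit_of_isGen_smul (ht₀.res hp2)
      rw [← hζ]
      exact hε.res hp1
    have hDU : Vc ⊓ U ≤ Uin ⊔ Uout := inf_le_right.trans hUle
    obtain ⟨ρ, hρ⟩ := exists_unit_lift f V Uin Uout hdisj hin hout hDaff
      (inf_le_right.trans hUV) hDU ζ hζu
    refine ⟨Vc, hVc, hyVc, fun z hz hzU => hpt z (hVcV₁ hz) hzU, ε, hε, ρ, ?_⟩
    rw [hρ]
    exact hζ

end Chart

section Main

variable {X Y : Scheme.{u}} (f : X ⟶ Y)

/-- **S7688** with a Noetherian underlying space only -/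
theorem main7688' [IsFinite f] [NoetherianSpace Y] (hdim : topologicalKrullDim Y ≤ 1)
    (V : Y.Opens) (hV : Dense (V : Set Y)) (hfV : IsClosedImmersion (f ∣_ V))
    (L : X.Modules) (hL : PicF.IsInvertible L) :
    ∃ N : Y.Modules, PicF.IsInvertible N ∧
      Nonempty ((Scheme.Modules.pullback f).obj N ≅ L) := by
  haveI := hfV
  obtain ⟨Uin, Uout, hdisj, hUV, hdense, hin, hout, t₀', ht₀'⟩ := exists_dense_gen' f V hV L hL
  have hle : f ⁻¹ᵁ (Uin ⊔ Uout) ≤ f ⁻¹ᵁ Uin := by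
    intro x hx
    rcases (show f x ∈ Uin ∨ f x ∈ Uout from hx) with h | h
    · exact h
    · exact absurd h (hout x)
  have key := exists_chart_rho' f hdim V L hL Uin Uout hdisj hin hout (Uin ⊔ Uout) le_rfl hUV
    hdense (rF L hle t₀') (ht₀'.res hle)
  choose Vc hVaff hyV hpt ε hε ρ hρ using key
  refine exists_of_rho f L Vc hVaff hyV ε hε (Uin ⊔ Uout) ?_ (rF L hle t₀') ρ hρ
  intro y z hyz w hw
  by_contra hwU
  exact hyz ((hpt y w hw.1 hwU).symm.trans (hpt z w hw.2 hwU))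


/-- **S1644** -/
theorem main1644 {Z X : Scheme.{u}} (i : Z ⟶ X) [IsClosedImmersion i]
    [NoetherianSpace X] (hdim : topologicalKrullDim X ≤ 1)
    (L : Z.Modules) (hL : PicF.IsInvertible L) :
    ∃ L' : X.Modules, PicF.IsInvertible L' ∧
      Nonempty ((Scheme.Modules.pullback i).obj L' ≅ L) := by
  have h : IsClosedImmersion (i ∣_ (⊤ : X.Opens)) :=
    MorphismProperty.of_isPullback (P := @IsClosedImmersion)
      (isPullback_morphismRestrict i ⊤).flip inferInstance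
  exact main7688' i hdim ⊤ (by simp) h L hL

end Main

end PicFinN9
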