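import Mathlib
import Groth.Agent.Lib.ProjLift_helper9

/-!
# Picard group modulo a nilpotent ideal (helper9)
-/

set_option autoImplicit false
universe u

open TensorProduct CommRing

namespace Groth.Agent.Lib.PicNil

variable {R : Type u} [CommRing R] (I : Ideal R)

theorem mapAlgebra_injective (hI : IsNilpotent I) :
    Function.Injective (Pic.mapAlgebra R (R ⧸ I)) := by
  obtain ⟨N, hN⟩ := hI
  rw [injective_iff_map_eq_one]
  intro M hM
  rw [Pic.mapAlgebra_apply, Pic.mk_eq_one_iff] at hM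
  obtain ⟨e1⟩ := hM
  have e2 : (R ⧸ I) ⊗[R] R ≃ₗ[R ⧸ I] (R ⧸ I) ⊗[R] M :=
    (TensorProduct.AlgebraTensorModule.rid R (R ⧸ I) (R ⧸ I)).trans e1.symm
  obtain ⟨e3⟩ := Groth.Agent.Lib.ProjLift.nonempty_equiv_of_tensor_equiv I hN R M e2
  rw [← Pic.mk_eq_self (M := M), Pic.mk_eq_one_iff]
  exact ⟨e3.symm⟩

theorem exists_invertible_lift (hI : IsNilpotent I) (Nb : Type u) [AddCommGroup Nb]
    [Module (R ⧸ I) Nb] [Module.Invertible (R ⧸ I) Nb] :
    ∃ (P : Type u) (_ : AddCommGroup P) (_ : Module R P), Module.Invertible R P ∧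
      Nonempty ((R ⧸ I) ⊗[R] P ≃ₗ[R ⧸ I] Nb) := by
  classical
  have key : ∀ (Pb : Type u) [AddCommGroup Pb] [Module (R ⧸ I) Pb] [Module.Finite (R ⧸ I) Pb]
      [Module.Projective (R ⧸ I) Pb],
      ∃ (P : Type u) (_ : AddCommGroup P) (_ : Module R P), Module.Projective R P ∧
        Nonempty ((R ⧸ I) ⊗[R] P ≃ₗ[R ⧸ I] Pb) := by
    intro Pb _ _ _ _
    obtain ⟨n, g, hg⟩ := Module.Finite.exists_fin (R := R ⧸ I) (M := Pb)
    obtain ⟨e, he, ⟨eq⟩⟩ := Groth.Agent.Lib.ProjLift.exists_idem_tensor_equiv I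
      (Pi.basisFun R (Fin n))
      (fun p hp => Groth.Agent.Lib.ProjLift.isNilpotent_of_baseChange_eq_zero I hI p hp)
      Pb g hg
    exact ⟨LinearMap.range e, inferInstance, inferInstance,
      Groth.Agent.Lib.ProjLift.projective_range e he, ⟨eq⟩⟩
  obtain ⟨P, _, _, hP, ⟨eP⟩⟩ := key Nb
  obtain ⟨Q, _, _, hQ, ⟨eQ⟩⟩ := key (Module.Dual (R ⧸ I) Nb)
  obtain ⟨N, hN⟩ := hI
  have e1 : (R ⧸ I) ⊗[R] (P ⊗[R] Q) ≃ₗ[R ⧸ I] (R ⧸ I) ⊗[R] R :=
    (TensorProduct.AlgebraTensorModule.distribBaseChange R (R ⧸ I) P Q).trans <|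
      (TensorProduct.congr eP eQ).trans <|
      (TensorProduct.comm (R ⧸ I) Nb (Module.Dual (R ⧸ I) Nb)).trans <|
      (Module.Invertible.linearEquiv (R ⧸ I) Nb).trans
      (TensorProduct.AlgebraTensorModule.rid R (R ⧸ I) (R ⧸ I)).symm
  obtain ⟨e2⟩ := Groth.Agent.Lib.ProjLift.nonempty_equiv_of_tensor_equiv I hN (P ⊗[R] Q) R e1
  exact ⟨P, inferInstance, inferInstance, Module.Invertible.left e2, ⟨eP⟩⟩

theorem mapAlgebra_surjective (hI : IsNilpotent I) :
    Function.Surjective (Pic.mapAlgebra R (R ⧸ I)) := by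
  intro Nb
  obtain ⟨P, _, _, hP, ⟨eP⟩⟩ := exists_invertible_lift I hI Nb
  refine ⟨Pic.mk R P, ?_⟩
  rw [Pic.mapAlgebra_apply, Pic.mk_eq_iff]
  exact ⟨(TensorProduct.AlgebraTensorModule.congr (LinearEquiv.refl (R ⧸ I) (R ⧸ I))
    (Pic.mk.linearEquiv R P)).trans eP⟩

theorem mapRingHom_bijective_of_equiv {A B : Type u} [CommRing A] [CommRing B] (g : A ≃+* B) :
    Function.Bijective (Pic.mapRingHom g.toRingHom) := by
  refine Function.bijective_iff_has_inverse.mpr ⟨Pic.mapRingHom g.symm.toRingHom, ?_, ?_⟩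
  · intro M
    rw [Pic.mapRingHom_mapRingHom]
    have : g.symm.toRingHom.comp g.toRingHom = RingHom.id A := by ext; simp
    rw [this, Pic.mapRingHom_id_apply]
  · intro M
    rw [Pic.mapRingHom_mapRingHom]
    have : g.toRingHom.comp g.symm.toRingHom = RingHom.id B := by ext; simp
    rw [this, Pic.mapRingHom_id_apply]

theorem mapRingHom_bijective {A' A : Type u} [CommRing A'] [CommRing A]
    (f : A' →+* A) (hf : Function.Surjective f) (hker : IsNilpotent (RingHom.ker f)) :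
    Function.Bijective (Pic.mapRingHom f) := by
  set I := RingHom.ker f with hI
  let g : A' ⧸ I ≃+* A := RingHom.quotientKerEquivOfSurjective hf
  have h1 : f = g.toRingHom.comp (algebraMap A' (A' ⧸ I)) := by
    ext x
    exact (RingHom.quotientKerEquivOfSurjective_apply_mk hf x).symm
  rw [h1, ← Pic.mapRingHom_comp_mapRingHom, Pic.mapRingHom_algebraMap]
  exact (mapRingHom_bijective_of_equiv g).comp
    ⟨mapAlgebra_injective I hker, mapAlgebra_surjective I hker⟩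

end Groth.Agent.Lib.PicNil
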