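import Mathlib
import Groth.Prelude

/-!
# Units of the rings of functions on the overlaps of the standard charts of projective space
(helper5).  APPEND-ONLY once landed.

Over a domain `R`, a unit of `Γ(P^n_R, D_+(f))`, `f` a monomial, is a monomial fraction
`r · T^m / f^K` with `r` a unit of `R`.
-/

set_option autoImplicit false
universe u
open MvPolynomial HomogeneousLocalization CategoryTheory AlgebraicGeometry TopologicalSpace Opposite

noncomputable section

namespace Groth.Agent.PicPn

variable (n : ℕ) (R : Type u) [CommRing R]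

/-- The value of a function on `Proj` at a point, in the localisation. -/
abbrev vO {V : (Proj (CohB1.polyGrading n R)).Opens} (c : Γ(Proj (CohB1.polyGrading n R), V))
    (y : V) : Twist.Loc (CohB1.polyGrading n R) y.1 :=
  ((show Twist.O (𝒜 := CohB1.polyGrading n R) (op V) from c).1 y).val

variable [IsDomain R]

/-- A unit of `(A_f)_0`, `f` a monomial, is a monomial fraction. -/
theorem exists_monomial_of_isUnit_away (e : Fin (n + 1) →₀ ℕ) {D : ℕ}
    (hfD : (monomial e (1 : R)) ∈ CohB1.polyGrading n R D)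
    (z : Away (CohB1.polyGrading n R) (monomial e (1 : R))) (hz : IsUnit z) :
    ∃ (K N : ℕ) (m : Fin (n + 1) →₀ ℕ) (r : Rˣ)
      (hm : monomial m (r : R) ∈ CohB1.polyGrading n R (K • D)), m ≤ N • e ∧
      z = Away.mk (CohB1.polyGrading n R) hfD K (monomial m (r : R)) hm := by
  obtain ⟨w, hzw⟩ := hz.exists_right_inv
  obtain ⟨K, a, ha, rfl⟩ := Away.mk_surjective (CohB1.polyGrading n R) hfD z
  obtain ⟨L, b, hb, rfl⟩ := Away.mk_surjective (CohB1.polyGrading n R) hfD w
  have h1 := congrArg HomogeneousLocalization.val hzw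
  rw [val_mul, Away.val_mk, Away.val_mk, val_one, Localization.mk_mul, ← Localization.mk_one,
    Localization.mk_eq_mk_iff, Localization.r_iff_exists] at h1
  obtain ⟨⟨_, t, rfl⟩, ht⟩ := h1
  have hf0 : (monomial e (1 : R)) ≠ 0 := by
    rw [Ne, monomial_eq_zero]; exact one_ne_zero
  have h2 : a * b = monomial e (1 : R) ^ (K + L) := by
    have h3 := mul_left_cancel₀ (pow_ne_zero t hf0) ht
    simp only [OneMemClass.coe_one, one_mul, Submonoid.coe_mul, mul_one] at h3
    rw [h3, pow_add]
  have h4 : a ∣ monomial ((K + L) • e) (1 : R) := by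
    have h5 : monomial e (1 : R) ^ (K + L) = monomial ((K + L) • e) (1 : R) := by
      rw [monomial_pow, one_pow]
    rw [← h5]
    exact ⟨b, h2.symm⟩
  obtain ⟨m, u, hm, hu, rfl⟩ := dvd_monomial_one_iff_exists.mp h4
  exact ⟨K, K + L, m, hu.unit, ha, hm, rfl⟩

/-- A unit of `Γ(P^n, D_+(f))`, `f` a monomial of positive degree, is a monomial fraction. -/
theorem exists_vO_of_isUnit (e : Fin (n + 1) →₀ ℕ) {D : ℕ} (hD : 0 < D)
    (hfD : (monomial e (1 : R)) ∈ CohB1.polyGrading n R D)
    (u : Γ(Proj (CohB1.polyGrading n R), Proj.basicOpen (CohB1.polyGrading n R) (monomial e (1 : R))))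
    (hu : IsUnit u) :
    ∃ (K N : ℕ) (m : Fin (n + 1) →₀ ℕ) (r : Rˣ), m ≤ N • e ∧ m.degree = K * D ∧
      ∀ y : Proj.basicOpen (CohB1.polyGrading n R) (monomial e (1 : R)),
        vO n R u y = Localization.mk (monomial m (r : R)) ⟨monomial e (1 : R) ^ K,
          show monomial e (1 : R) ^ K ∈ y.1.asHomogeneousIdeal.toIdeal.primeCompl from
            fun h => y.2 (y.1.isPrime.mem_of_pow_mem _ h)⟩ := by
  let iso := Proj.basicOpenIsoAway (CohB1.polyGrading n R) (monomial e (1 : R)) hfD hD
  have hz : IsUnit (iso.inv.hom u) := hu.map iso.inv.hom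
  obtain ⟨K, N, m, r, hm, hmN, hzK⟩ := exists_monomial_of_isUnit_away n R e hfD _ hz
  have hu' : u = (Proj.awayToSection (CohB1.polyGrading n R) (monomial e (1 : R))).hom
      (Away.mk (CohB1.polyGrading n R) hfD K (monomial m (r : R)) hm) := by
    rw [← hzK]
    have h1 : iso.hom.hom (iso.inv.hom u) = u := by
      rw [← CommRingCat.comp_apply, Iso.inv_hom_id]; rfl
    exact h1.symm
  refine ⟨K, N, m, r, hmN, ?_, fun y => ?_⟩
  · have h2 : (monomial m (r : R)).IsHomogeneous (K • D) := hm
    have h3 := h2 (d := m) (by rw [coeff_monomial, if_pos rfl]; exact r.ne_zero)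
    have h4 : m.degree = Finsupp.weight (1 : Fin (n + 1) → ℕ) m := by
      rw [Finsupp.degree_eq_weight_one]; rfl
    rw [h4, h3, smul_eq_mul]
  · rw [hu']
    rfl

end Groth.Agent.PicPn
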