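import Mathlib
import Groth.Prelude
import Groth.Agent.Lib.PicPn1_helper5
import Groth.Agent.Lib.PicPn2_helper5
import Groth.Agent.Lib.QcqsLoc_helper9

/-!
# Monomial fractions on projective space (helper5).  APPEND-ONLY once landed.

Values of functions on the overlaps of the standard charts of `P^n_R` (`R` a domain) as monomial
fractions `r · T^a / T^b`; the functions `T_k / T_l`; the generic point.
-/

set_option autoImplicit false
universe u
open MvPolynomial HomogeneousLocalization CategoryTheory AlgebraicGeometry TopologicalSpace Opposite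

noncomputable section

namespace Groth.Agent.PicPn

variable {n : ℕ} {R : Type u} [CommRing R]

section MF
variable [IsDomain R] (y : ProjectiveSpectrum (CohB1.polyGrading n R))

/-- `T^b` is invertible at `y`. -/
abbrev Good (b : Fin (n + 1) →₀ ℕ) : Prop :=
  monomial b (1 : R) ∈ y.asHomogeneousIdeal.toIdeal.primeCompl

theorem good_zero : Good y (0 : Fin (n + 1) →₀ ℕ) := by
  show monomial 0 (1 : R) ∉ y.asHomogeneousIdeal.toIdeal
  intro h
  exact y.isPrime.ne_top ((Ideal.eq_top_iff_one _).mpr h)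

theorem good_add {b b' : Fin (n + 1) →₀ ℕ} (h : Good y b) (h' : Good y b') : Good y (b + b') := by
  show monomial (b + b') (1 : R) ∉ y.asHomogeneousIdeal.toIdeal
  intro hmem
  have h1 : monomial (b + b') (1 : R) = monomial b 1 * monomial b' 1 := by
    rw [monomial_mul, one_mul]
  rw [h1] at hmem
  rcases y.isPrime.mem_or_mem hmem with h2 | h2
  · exact h h2
  · exact h' h2

theorem good_smul {b : Fin (n + 1) →₀ ℕ} (N : ℕ) (h : Good y b) : Good y (N • b) := by
  induction N with
  | zero => rw [zero_smul]; exact good_zero y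
  | succ N ih => rw [succ_nsmul]; exact good_add y ih h

theorem good_single (k : Fin (n + 1))
    (hk : (X k : MvPolynomial (Fin (n + 1)) R) ∉ y.asHomogeneousIdeal.toIdeal) (a : ℕ) :
    Good y (Finsupp.single k a) := by
  have h1 : Good y (Finsupp.single k 1) := hk
  have h2 := good_smul y a h1
  rwa [Finsupp.smul_single, smul_eq_mul, mul_one] at h2

/-- The monomial fraction `r T^a / T^b` in the localisation at `y`. -/
def mf (a b : Fin (n + 1) →₀ ℕ) (r : R) (hb : Good y b) : Twist.Loc (CohB1.polyGrading n R) y :=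
  Localization.mk (monomial a r) ⟨monomial b 1, hb⟩

theorem mf_mul (a b a' b' : Fin (n + 1) →₀ ℕ) (r r' : R) (hb : Good y b) (hb' : Good y b') :
    mf y a b r hb * mf y a' b' r' hb' = mf y (a + a') (b + b') (r * r') (good_add y hb hb') := by
  unfold mf
  rw [Localization.mk_mul]
  congr 1
  · rw [monomial_mul]
  · apply Subtype.ext
    show monomial b (1 : R) * monomial b' 1 = monomial (b + b') 1
    rw [monomial_mul, one_mul]

theorem mf_one : mf y 0 0 (1 : R) (good_zero y) = 1 := by
  unfold mf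
  exact Localization.mk_self (⟨monomial 0 1, good_zero y⟩ :
    y.asHomogeneousIdeal.toIdeal.primeCompl)

theorem mf_pow (a b : Fin (n + 1) →₀ ℕ) (r : R) (hb : Good y b) (N : ℕ) :
    mf y a b r hb ^ N = mf y (N • a) (N • b) (r ^ N) (good_smul y N hb) := by
  induction N with
  | zero =>
    rw [pow_zero]
    have := mf_one y
    simp only [zero_smul, pow_zero]
    exact this.symm
  | succ N ih =>
    rw [pow_succ, ih, mf_mul]
    congr 1
    · rw [succ_nsmul]
    · rw [succ_nsmul]
    · rw [pow_succ]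

theorem mf_congr {a b a' b' : Fin (n + 1) →₀ ℕ} {r r' : R} (hb : Good y b) (hb' : Good y b')
    (ha : a = a') (hbb : b = b') (hr : r = r') : mf y a b r hb = mf y a' b' r' hb' := by
  subst ha hbb hr
  rfl

theorem mf_eq_of {a b a' b' : Fin (n + 1) →₀ ℕ} {r r' : R} (hb : Good y b) (hb' : Good y b')
    (h : a + b' = a' + b) (hr : r = r') : mf y a b r hb = mf y a' b' r' hb' := by
  subst hr
  unfold mf
  rw [Localization.mk_eq_mk_iff, Localization.r_iff_exists]
  refine ⟨1, ?_⟩
  simp only [OneMemClass.coe_one, one_mul]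
  rw [monomial_mul, monomial_mul, one_mul, add_comm b' a, h, add_comm b a']

theorem mf_eq_iff {a b a' b' : Fin (n + 1) →₀ ℕ} {r r' : R} (hr : r ≠ 0) (hb : Good y b)
    (hb' : Good y b') (h : mf y a b r hb = mf y a' b' r' hb') : a + b' = a' + b ∧ r = r' := by
  unfold mf at h
  rw [Localization.mk_eq_mk_iff, Localization.r_iff_exists] at h
  obtain ⟨c, hc⟩ := h
  have hc0 : (c : MvPolynomial (Fin (n + 1)) R) ≠ 0 := by
    intro h0
    exact c.2 (h0 ▸ Ideal.zero_mem _)
  have h1 := mul_left_cancel₀ hc0 hc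
  simp only at h1
  rw [monomial_mul, monomial_mul, one_mul, one_mul, monomial_eq_monomial_iff] at h1
  rcases h1 with ⟨h2, h3⟩ | ⟨h2, -⟩
  · exact ⟨by rw [add_comm a b', h2, add_comm b a'], h3⟩
  · exact absurd h2 hr

end MF

section Pt
variable [IsDomain R]

variable (n R) in
/-- The generic point of `P^n_R`. -/
def eta : ProjectiveSpectrum (CohB1.polyGrading n R) where
  asHomogeneousIdeal := ⊥
  isPrime := by
    rw [HomogeneousIdeal.toIdeal_bot]
    exact Ideal.isPrime_bot
  not_irrelevant_le := by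
    intro h
    have h1 : (X 0 : MvPolynomial (Fin (n + 1)) R) ∈
        HomogeneousIdeal.irrelevant (CohB1.polyGrading n R) :=
      HomogeneousIdeal.mem_irrelevant_of_mem _ one_pos (X_mem n R 0)
    have h2 := h h1
    have h3 : (X 0 : MvPolynomial (Fin (n + 1)) R) ∈
        (⊥ : HomogeneousIdeal (CohB1.polyGrading n R)).toIdeal := h2
    rw [HomogeneousIdeal.toIdeal_bot, Ideal.mem_bot] at h3
    exact X_ne_zero 0 h3

theorem X_notMem_eta (k : Fin (n + 1)) :
    (X k : MvPolynomial (Fin (n + 1)) R) ∉ (eta n R).asHomogeneousIdeal.toIdeal := by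
  intro h
  have h3 : (X k : MvPolynomial (Fin (n + 1)) R) ∈
      (⊥ : HomogeneousIdeal (CohB1.polyGrading n R)).toIdeal := h
  rw [HomogeneousIdeal.toIdeal_bot, Ideal.mem_bot] at h3
  exact X_ne_zero k h3

end Pt

section Sec
variable (n R)

/-- The chart `D_+(T_k)`. -/
abbrev U (k : Fin (n + 1)) : (Proj (CohB1.polyGrading n R)).Opens :=
  Proj.basicOpen (CohB1.polyGrading n R) (X k)

theorem extO {V : (Proj (CohB1.polyGrading n R)).Opens}
    (c c' : Γ(Proj (CohB1.polyGrading n R), V)) (h : ∀ y : V, vO n R c y = vO n R c' y) :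
    c = c' := by
  apply Subtype.ext
  funext y
  exact HomogeneousLocalization.val_injective _ (h y)

theorem vO_mul {V : (Proj (CohB1.polyGrading n R)).Opens}
    (c c' : Γ(Proj (CohB1.polyGrading n R), V)) (y : V) :
    vO n R (c * c') y = vO n R c y * vO n R c' y := by
  show (((show Twist.O (𝒜 := CohB1.polyGrading n R) (op V) from c).1 y) *
    ((show Twist.O (𝒜 := CohB1.polyGrading n R) (op V) from c').1 y)).val = _
  exact HomogeneousLocalization.val_mul _ _

theorem vO_one {V : (Proj (CohB1.polyGrading n R)).Opens} (y : V) :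
    vO n R (1 : Γ(Proj (CohB1.polyGrading n R), V)) y = 1 := by
  show ((1 : Twist.A0 (CohB1.polyGrading n R) y.1)).val = _
  exact HomogeneousLocalization.val_one

theorem vO_pow {V : (Proj (CohB1.polyGrading n R)).Opens}
    (c : Γ(Proj (CohB1.polyGrading n R), V)) (k : ℕ) (y : V) :
    vO n R (c ^ k) y = vO n R c y ^ k := by
  show (((show Twist.O (𝒜 := CohB1.polyGrading n R) (op V) from c).1 y) ^ k).val = _
  exact HomogeneousLocalization.val_pow _ _

theorem vO_rX {V V' : (Proj (CohB1.polyGrading n R)).Opens} (h : V' ≤ V)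
    (c : Γ(Proj (CohB1.polyGrading n R), V)) (y : V') :
    vO n R (QcqsLoc.rX h c) y = vO n R c ⟨y.1, h y.2⟩ := rfl

variable [IsDomain R]

theorem good_U (k : Fin (n + 1)) (y : Proj (CohB1.polyGrading n R)) (hy : y ∈ U n R k) (a : ℕ) :
    Good y (Finsupp.single k a) :=
  good_single y k hy a

/-- The constant function `r` on the chart `D_+(T_k)`. -/
def cst (k : Fin (n + 1)) (r : R) : Γ(Proj (CohB1.polyGrading n R), U n R k) :=
  (Proj.awayToSection (CohB1.polyGrading n R) (X k)).hom
    (Away.mk (CohB1.polyGrading n R) (X_mem n R k) 0 (C r)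
      (by rw [zero_smul]; exact isHomogeneous_C _ r))

theorem vO_cst (k : Fin (n + 1)) (r : R) (y : U n R k) :
    vO n R (cst n R k r) y = mf y.1 0 0 r (good_zero y.1) := by
  have h1 : vO n R (cst n R k r) y = Localization.mk (C r) ⟨X k ^ 0,
      show X k ^ 0 ∈ y.1.asHomogeneousIdeal.toIdeal.primeCompl from
        fun h => y.2 (y.1.isPrime.mem_of_pow_mem _ h)⟩ := rfl
  rw [h1]
  unfold mf
  congr 1

/-- The function `T_k / T_l` on `D_+(T_k) ∩ D_+(T_l)`. -/
def rho (k l : Fin (n + 1)) : Γ(Proj (CohB1.polyGrading n R), U n R k ⊓ U n R l) :=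
  QcqsLoc.rX (inf_le_right : U n R k ⊓ U n R l ≤ U n R l)
    ((Proj.awayToSection (CohB1.polyGrading n R) (X l)).hom
      (Away.mk (CohB1.polyGrading n R) (X_mem n R l) 1 (X k) (X_mem' n R k)))

theorem vO_rho (k l : Fin (n + 1)) (y : (U n R k ⊓ U n R l : (Proj (CohB1.polyGrading n R)).Opens)) :
    vO n R (rho n R k l) y =
      mf y.1 (Finsupp.single k 1) (Finsupp.single l 1) 1 (good_U n R l y.1 y.2.2 1) := by
  have h1 : vO n R (rho n R k l) y = Localization.mk (X k) ⟨X l ^ 1,
      show X l ^ 1 ∈ y.1.asHomogeneousIdeal.toIdeal.primeCompl from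
        fun h => y.2.2 (y.1.isPrime.mem_of_pow_mem _ h)⟩ := rfl
  rw [h1]
  unfold mf
  congr 1
  apply Subtype.ext
  exact pow_one _

/-- The function `T_l / T_k` on `D_+(T_k) ∩ D_+(T_l)`. -/
def rho' (k l : Fin (n + 1)) : Γ(Proj (CohB1.polyGrading n R), U n R k ⊓ U n R l) :=
  QcqsLoc.rX (inf_le_left : U n R k ⊓ U n R l ≤ U n R k)
    ((Proj.awayToSection (CohB1.polyGrading n R) (X k)).hom
      (Away.mk (CohB1.polyGrading n R) (X_mem n R k) 1 (X l) (X_mem' n R l)))

theorem vO_rho' (k l : Fin (n + 1))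
    (y : (U n R k ⊓ U n R l : (Proj (CohB1.polyGrading n R)).Opens)) :
    vO n R (rho' n R k l) y =
      mf y.1 (Finsupp.single l 1) (Finsupp.single k 1) 1 (good_U n R k y.1 y.2.1 1) := by
  have h1 : vO n R (rho' n R k l) y = Localization.mk (X l) ⟨X k ^ 1,
      show X k ^ 1 ∈ y.1.asHomogeneousIdeal.toIdeal.primeCompl from
        fun h => y.2.1 (y.1.isPrime.mem_of_pow_mem _ h)⟩ := rfl
  rw [h1]
  unfold mf
  congr 1
  apply Subtype.ext
  exact pow_one _

/-- The function `(T_k / T_l)^d`, `d ∈ ℤ`, on `D_+(T_k) ∩ D_+(T_l)`. -/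
def rhoZ (k l : Fin (n + 1)) (d : ℤ) : Γ(Proj (CohB1.polyGrading n R), U n R k ⊓ U n R l) :=
  rho n R k l ^ d.toNat * rho' n R k l ^ (-d).toNat

theorem good_rhoZ (k l : Fin (n + 1)) (y : Proj (CohB1.polyGrading n R))
    (hy : y ∈ U n R k ⊓ U n R l) (a b : ℕ) :
    Good y (Finsupp.single l a + Finsupp.single k b) :=
  good_add y (good_U n R l y hy.2 a) (good_U n R k y hy.1 b)

theorem vO_rhoZ (k l : Fin (n + 1)) (d : ℤ)
    (y : (U n R k ⊓ U n R l : (Proj (CohB1.polyGrading n R)).Opens)) :
    vO n R (rhoZ n R k l d) y =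
      mf y.1 (Finsupp.single k d.toNat + Finsupp.single l (-d).toNat)
        (Finsupp.single l d.toNat + Finsupp.single k (-d).toNat) 1
        (good_rhoZ n R k l y.1 y.2 _ _) := by
  unfold rhoZ
  rw [vO_mul, vO_pow, vO_pow, vO_rho, vO_rho', mf_pow, mf_pow, mf_mul]
  apply mf_congr
  · rw [Finsupp.smul_single, Finsupp.smul_single, smul_eq_mul, smul_eq_mul, mul_one, mul_one]
  · rw [Finsupp.smul_single, Finsupp.smul_single, smul_eq_mul, smul_eq_mul, mul_one, mul_one]
  · rw [one_pow, one_pow, one_mul]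

end Sec

end Groth.Agent.PicPn
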