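import Mathlib
import Groth.Prelude
import Groth.Agent.Lib.PicPn3_helper5

/-!
# Units on the overlaps of two standard charts of projective space (helper5).
APPEND-ONLY once landed.
-/

set_option autoImplicit false
universe u
open MvPolynomial HomogeneousLocalization CategoryTheory AlgebraicGeometry TopologicalSpace Opposite

noncomputable section

namespace Groth.Agent.PicPn

variable (n : ℕ) (R : Type u) [CommRing R] [IsDomain R]

theorem X_mul_X_eq (k l : Fin (n + 1)) :
    (X k * X l : MvPolynomial (Fin (n + 1)) R) =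
      monomial (Finsupp.single k 1 + Finsupp.single l 1) 1 := by
  show monomial (Finsupp.single k 1) (1 : R) * monomial (Finsupp.single l 1) 1 = _
  rw [monomial_mul, one_mul]

theorem basicOpen_monomial_eq (k l : Fin (n + 1)) :
    Proj.basicOpen (CohB1.polyGrading n R)
      (monomial (Finsupp.single k 1 + Finsupp.single l 1) (1 : R)) = U n R k ⊓ U n R l := by
  rw [← X_mul_X_eq, Proj.basicOpen_mul]

/-- **Units on `D_+(T_k) ∩ D_+(T_l)`**: every unit is `r · (T_k / T_l)^d`, `r` a unit of `R`. -/
theorem exists_eq_cst_mul_rhoZ (k l : Fin (n + 1)) (hkl : k ≠ l)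
    (u : Γ(Proj (CohB1.polyGrading n R), U n R k ⊓ U n R l)) (hu : IsUnit u) :
    ∃ (r : Rˣ) (d : ℤ), u = QcqsLoc.rX (inf_le_left : U n R k ⊓ U n R l ≤ U n R k)
      (cst n R k (r : R)) * rhoZ n R k l d := by
  have heq := basicOpen_monomial_eq n R k l
  have hfD : monomial (Finsupp.single k 1 + Finsupp.single l 1) (1 : R) ∈
      CohB1.polyGrading n R 2 := by
    rw [← X_mul_X_eq]
    exact SetLike.mul_mem_graded (X_mem n R k) (X_mem n R l)
  obtain ⟨K, N, m, r, hmN, hdeg, hval⟩ := exists_vO_of_isUnit n R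
    (Finsupp.single k 1 + Finsupp.single l 1) (by norm_num : 0 < 2) hfD
    (QcqsLoc.rX (le_of_eq heq) u) (hu.map _)
  -- the shape of `m`
  have hm0 : ∀ j, j ≠ k → j ≠ l → m j = 0 := by
    intro j hjk hjl
    have h1 := hmN j
    simp only [Finsupp.smul_apply, Finsupp.add_apply, Finsupp.single_apply, smul_eq_mul] at h1
    rw [if_neg (Ne.symm hjk), if_neg (Ne.symm hjl)] at h1
    omega
  have hm : m = Finsupp.single k (m k) + Finsupp.single l (m l) := by
    ext j
    simp only [Finsupp.add_apply, Finsupp.single_apply]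
    by_cases hjk : j = k
    · subst hjk
      rw [if_pos rfl, if_neg (Ne.symm hkl), add_zero]
    · by_cases hjl : j = l
      · subst hjl
        rw [if_neg (Ne.symm hjk), if_pos rfl, zero_add]
      · rw [if_neg (Ne.symm hjk), if_neg (Ne.symm hjl), hm0 j hjk hjl, add_zero]
  have hpq : m k + m l = K * 2 := by
    rw [← hdeg]
    conv_rhs => rw [hm]
    rw [map_add, Finsupp.degree_single, Finsupp.degree_single]
  refine ⟨r, (m k : ℤ) - K, ?_⟩
  apply extO
  intro y
  have hy' : y.1 ∈ Proj.basicOpen (CohB1.polyGrading n R)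
      (monomial (Finsupp.single k 1 + Finsupp.single l 1) (1 : R)) := by
    rw [heq]; exact y.2
  have h1 : vO n R u y = mf y.1 m (K • (Finsupp.single k 1 + Finsupp.single l 1)) (r : R)
      (good_smul y.1 K (good_add y.1 (good_U n R k y.1 y.2.1 1) (good_U n R l y.1 y.2.2 1))) := by
    have h2 := hval ⟨y.1, hy'⟩
    have h3 : vO n R (QcqsLoc.rX (le_of_eq heq) u) ⟨y.1, hy'⟩ = vO n R u y := rfl
    rw [h3] at h2
    rw [h2]
    unfold mf
    congr 1
    apply Subtype.ext
    show monomial (Finsupp.single k 1 + Finsupp.single l 1) (1 : R) ^ K = _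
    rw [monomial_pow, one_pow]
  rw [h1, vO_mul, vO_rX, vO_cst, vO_rhoZ, mf_mul]
  apply mf_eq_of
  · ext j
    simp only [Finsupp.add_apply, Finsupp.single_apply, Finsupp.smul_apply, smul_eq_mul,
      Finsupp.coe_zero, Pi.zero_apply]
    by_cases hjk : j = k
    · subst hjk
      simp only [if_true, if_neg (Ne.symm hkl)]
      omega
    · by_cases hjl : j = l
      · subst hjl
        simp only [if_true, if_neg (Ne.symm hjk)]
        omega
      · simp only [if_neg (Ne.symm hjk), if_neg (Ne.symm hjl), hm0 j hjk hjl, add_zero,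
          mul_zero]
  · rw [mul_one]

end Groth.Agent.PicPn
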