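import Mathlib
import Groth.Prelude
import Groth.Agent.Lib.PicPn4_helper5
import Groth.Agent.Lib.ProjTwPow_helper5

/-!
# Identities between the functions `r`, `(T_k/T_l)^d` and the generators `T_k^d` of `O(d)`
on projective space (helper5).  APPEND-ONLY once landed.
-/

set_option autoImplicit false
universe u
open MvPolynomial HomogeneousLocalization CategoryTheory AlgebraicGeometry TopologicalSpace Opposite

noncomputable section

namespace Groth.Agent.PicPn

open QcqsLoc GenLocH8 Groth.Agent.ProjTw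

variable (n : ℕ) (R : Type u) [CommRing R] [IsDomain R]

theorem cst_mul (k : Fin (n + 1)) (r s : R) : cst n R k r * cst n R k s = cst n R k (r * s) := by
  apply extO
  intro y
  rw [vO_mul, vO_cst, vO_cst, vO_cst, mf_mul]
  exact mf_congr y.1 _ _ (add_zero _) (add_zero _) rfl

theorem cst_one (k : Fin (n + 1)) : cst n R k 1 = 1 := by
  apply extO
  intro y
  rw [vO_cst, vO_one]
  exact mf_one y.1

theorem rhoZ_self (k : Fin (n + 1)) (d : ℤ) : rhoZ n R k k d = 1 := by
  apply extO
  intro y
  rw [vO_rhoZ, vO_one, ← mf_one y.1]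
  apply mf_eq_of
  · rw [add_zero, zero_add]
  · rfl

theorem rhoZ_swap (k l : Fin (n + 1)) (d : ℤ) :
    rhoZ n R l k d * rX (le_of_eq (inf_comm _ _) : U n R l ⊓ U n R k ≤ U n R k ⊓ U n R l)
      (rhoZ n R k l d) = 1 := by
  apply extO
  intro y
  rw [vO_mul, vO_rX, vO_rhoZ, vO_rhoZ, vO_one, mf_mul, ← mf_one y.1]
  apply mf_eq_of
  · rw [add_zero, zero_add]
    abel
  · rw [mul_one]

/-- The generator `T_k^d` of `O(d)` on the chart `D_+(T_k)`. -/
def gen (k : Fin (n + 1)) (d : ℤ) : Γ(Twist.twist (CohB1.polyGrading n R) d, U n R k) :=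
  genSecK (CohB1.polyGrading n R) (X_mem n R k) d d (by simp)

theorem isGen_gen (k : Fin (n + 1)) (d : ℤ) :
    IsGen (Twist.twist (CohB1.polyGrading n R) d) (U n R k) (gen n R k d) :=
  isGen_genSecK (CohB1.polyGrading n R) one_pos (X_mem n R k) d d (by simp)

/-- The value of a section of `O(d)` at a point. -/
abbrev vT {d : ℤ} {V : (Proj (CohB1.polyGrading n R)).Opens}
    (s : Γ(Twist.twist (CohB1.polyGrading n R) d, V)) (y : V) :
    Twist.Loc (CohB1.polyGrading n R) y.1 :=
  (((show Twist.sectN (𝒜 := CohB1.polyGrading n R) d (op V) from s).1 y :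
    Twist.twistAt (CohB1.polyGrading n R) d y.1) : Twist.Loc (CohB1.polyGrading n R) y.1)

theorem extT {d : ℤ} {V : (Proj (CohB1.polyGrading n R)).Opens}
    (s t : Γ(Twist.twist (CohB1.polyGrading n R) d, V)) (h : ∀ y : V, vT n R s y = vT n R t y) :
    s = t := by
  apply Subtype.ext
  funext y
  apply Subtype.ext
  exact h y

theorem vT_smul {d : ℤ} {V : (Proj (CohB1.polyGrading n R)).Opens}
    (c : Γ(Proj (CohB1.polyGrading n R), V))
    (s : Γ(Twist.twist (CohB1.polyGrading n R) d, V)) (y : V) :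
    vT n R (c • s) y = vO n R c y * vT n R s y :=
  smul_valN (CohB1.polyGrading n R) d (op V) c s y

theorem vT_rF {d : ℤ} {V V' : (Proj (CohB1.polyGrading n R)).Opens} (h : V' ≤ V)
    (s : Γ(Twist.twist (CohB1.polyGrading n R) d, V)) (y : V') :
    vT n R (rF (Twist.twist (CohB1.polyGrading n R) d) h s) y = vT n R s ⟨y.1, h y.2⟩ := rfl

theorem vT_gen (k : Fin (n + 1)) (d : ℤ) (y : U n R k) :
    vT n R (gen n R k d) y = mf y.1 (Finsupp.single k d.toNat) (Finsupp.single k (-d).toNat) 1
      (good_U n R k y.1 y.2 _) := by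
  have h1 : vT n R (gen n R k d) y = Localization.mk (X k ^ d.toNat) ⟨X k ^ (-d).toNat,
      show X k ^ (-d).toNat ∈ y.1.asHomogeneousIdeal.toIdeal.primeCompl from
        fun h => y.2 (y.1.isPrime.mem_of_pow_mem _ h)⟩ := rfl
  rw [h1]
  unfold mf
  congr 1
  · exact X_pow_eq_monomial
  · apply Subtype.ext
    exact X_pow_eq_monomial

/-- **The transition functions of `O(d)`** with respect to the generators `T_k^d`. -/
theorem rF_gen (k l : Fin (n + 1)) (d : ℤ) :
    rF (Twist.twist (CohB1.polyGrading n R) d) (inf_le_left : U n R k ⊓ U n R l ≤ U n R k)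
        (gen n R k d) =
      rhoZ n R k l d • rF (Twist.twist (CohB1.polyGrading n R) d)
        (inf_le_right : U n R k ⊓ U n R l ≤ U n R l) (gen n R l d) := by
  apply extT
  intro y
  rw [vT_smul, vT_rF, vT_rF, vT_gen, vT_gen, vO_rhoZ, mf_mul]
  apply mf_eq_of
  · abel
  · rw [mul_one]

end Groth.Agent.PicPn
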