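import Mathlib
import Groth.Prelude
import Groth.Agent.Lib.PicPn5_helper5
import Groth.Agent.Lib.PicAff1_helper5
import Groth.Agent.Lib.ProjUP2_helper5
import Groth.Agent.Lib.VAmpPn1_helper5
import Groth.Agent.Lib.Tens16_helper8

/-!
# Invertible modules on projective space over a UFD are twisting sheaves (helper5).
APPEND-ONLY once landed.
-/

set_option autoImplicit false
universe u
open MvPolynomial HomogeneousLocalization CategoryTheory AlgebraicGeometry TopologicalSpace Opposite

noncomputable section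

namespace Groth.Agent.PicPn

open QcqsLoc GenLocH8 TensH8 Groth.Agent.ProjTw

theorem subsingleton_pic_of_ringEquiv {A B : Type u} [CommRing A] [CommRing B] (g : A ≃+* B)
    [Subsingleton (CommRing.Pic A)] : Subsingleton (CommRing.Pic B) := by
  constructor
  intro M N
  have hM : CommRing.Pic.mapRingHom g.toRingHom (CommRing.Pic.mapRingHom g.symm.toRingHom M) = M := by
    rw [CommRing.Pic.mapRingHom_mapRingHom]
    have : g.toRingHom.comp g.symm.toRingHom = RingHom.id B := by ext; simp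
    rw [this, CommRing.Pic.mapRingHom_id_apply]
  have hN : CommRing.Pic.mapRingHom g.toRingHom (CommRing.Pic.mapRingHom g.symm.toRingHom N) = N := by
    rw [CommRing.Pic.mapRingHom_mapRingHom]
    have : g.toRingHom.comp g.symm.toRingHom = RingHom.id B := by ext; simp
    rw [this, CommRing.Pic.mapRingHom_id_apply]
  rw [← hM, ← hN]
  exact congrArg _ (Subsingleton.elim _ _)

variable (n : ℕ) (R : Type u) [CommRing R] [IsDomain R]
  {L : (Proj (CohB1.polyGrading n R)).Modules}

theorem isAffineOpen_U (k : Fin (n + 1)) : IsAffineOpen (U n R k) :=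
  Proj.isAffineOpen_basicOpen (CohB1.polyGrading n R) (X k) (X_mem n R k) one_pos

theorem subsingleton_pic_U [UniqueFactorizationMonoid R] (k : Fin (n + 1)) :
    Subsingleton (CommRing.Pic Γ(Proj (CohB1.polyGrading n R), U n R k)) := by
  haveI := subsingleton_pic_away n R k
  exact subsingleton_pic_of_ringEquiv
    (Proj.basicOpenIsoAway (CohB1.polyGrading n R) (X k) (X_mem n R k)
      one_pos).commRingCatIsoToRingEquiv

theorem eta_mem_U (k : Fin (n + 1)) : eta n R ∈ U n R k := X_notMem_eta k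

/-- The transition relation `e_k = (T_k/T_l)^d e_l` on `D_+(T_k) ∩ D_+(T_l)`. -/
def Rel (e : ∀ k, Γ(L, U n R k)) (k l : Fin (n + 1)) (d : ℤ) : Prop :=
  rF L (inf_le_left : U n R k ⊓ U n R l ≤ U n R k) (e k) =
    rhoZ n R k l d • rF L (inf_le_right : U n R k ⊓ U n R l ≤ U n R l) (e l)

theorem rel_refl (e : ∀ k, Γ(L, U n R k)) (k : Fin (n + 1)) (d : ℤ) : Rel n R e k k d := by
  unfold Rel
  rw [rhoZ_self, one_smul]

theorem rel_symm (e : ∀ k, Γ(L, U n R k)) (k l : Fin (n + 1)) (d : ℤ) (h : Rel n R e k l d) :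
    Rel n R e l k d := by
  unfold Rel at *
  have h1 := congrArg (rF L (le_of_eq (inf_comm _ _) : U n R l ⊓ U n R k ≤ U n R k ⊓ U n R l)) h
  rw [rF_rF, rF_smul, rF_rF] at h1
  rw [h1, ← mul_smul, rhoZ_swap, one_smul]

/-- **The cocycle condition on a triple overlap** forces equal exponents and trivial constants. -/
theorem rel_of_rel (e : ∀ k, Γ(L, U n R k)) (he : ∀ k, IsGen L (U n R k) (e k))
    (k l o : Fin (n + 1)) (hkl : k ≠ l) (hko : k ≠ o) (hlo : l ≠ o) (a b : ℤ)
    (hk : Rel n R e k o a) (hl : Rel n R e l o b) : a = b ∧ Rel n R e k l a := by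
  have gl : IsGen L (U n R k ⊓ U n R l) (rF L inf_le_right (e l)) := (he l).res inf_le_right
  have gk : IsGen L (U n R k ⊓ U n R l) (rF L inf_le_left (e k)) := (he k).res inf_le_left
  obtain ⟨w, hw⟩ := gl.exists_coef (rF L inf_le_left (e k))
  have hwu : IsUnit w := isUnit_of_isGen_smul gl (hw ▸ gk)
  obtain ⟨r, c, hwrc⟩ := exists_eq_cst_mul_rhoZ n R k l hkl w hwu
  have hTkl : U n R k ⊓ U n R l ⊓ U n R o ≤ U n R k ⊓ U n R l := inf_le_left
  have hTko : U n R k ⊓ U n R l ⊓ U n R o ≤ U n R k ⊓ U n R o :=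
    le_inf (inf_le_left.trans inf_le_left) inf_le_right
  have hTlo : U n R k ⊓ U n R l ⊓ U n R o ≤ U n R l ⊓ U n R o :=
    le_inf (inf_le_left.trans inf_le_right) inf_le_right
  have hTo : U n R k ⊓ U n R l ⊓ U n R o ≤ U n R o := inf_le_right
  have E1 := congrArg (rF L hTkl) hw
  have E2 := congrArg (rF L hTko) hk
  have E3 := congrArg (rF L hTlo) hl
  unfold Rel at E2 E3
  rw [rF_rF, rF_smul, rF_rF] at E1 E2 E3
  have go : IsGen L (U n R k ⊓ U n R l ⊓ U n R o) (rF L hTo (e o)) := (he o).res hTo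
  have key : rX hTko (rhoZ n R k o a) = rX hTkl w * rX hTlo (rhoZ n R l o b) := by
    apply TensH8.IsGen.coef_ext go
    rw [mul_smul]
    exact E2.symm.trans (E1.trans (congrArg _ E3))
  have hη : eta n R ∈ U n R k ⊓ U n R l ⊓ U n R o :=
    ⟨⟨eta_mem_U n R k, eta_mem_U n R l⟩, eta_mem_U n R o⟩
  have hv := congrArg (fun c => vO n R c ⟨eta n R, hη⟩) key
  simp only at hv
  rw [vO_rX, vO_mul, vO_rX, vO_rX, hwrc, vO_mul, vO_rX, vO_cst, vO_rhoZ, vO_rhoZ, vO_rhoZ,
    mf_mul, mf_mul] at hv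
  obtain ⟨hvec, hr⟩ := mf_eq_iff _ one_ne_zero _ _ hv
  have hk' := DFunLike.congr_fun hvec k
  have hl' := DFunLike.congr_fun hvec l
  simp only [Finsupp.add_apply, Finsupp.single_apply, Finsupp.coe_zero, Pi.zero_apply,
    if_true, if_neg hkl, if_neg (Ne.symm hkl), if_neg (Ne.symm hko),
    if_neg (Ne.symm hlo)] at hk' hl'
  have hac : a = c := by omega
  have hcb : c = b := by omega
  refine ⟨hac.trans hcb, ?_⟩
  unfold Rel
  rw [hw, hwrc]
  have hr1 : (r : R) = 1 := by
    rw [mul_one, mul_one] at hr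
    exact hr.symm
  rw [hr1, cst_one, map_one, one_mul, hac]

end Groth.Agent.PicPn
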