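import Mathlib
import Groth.Prelude
import Groth.Agent.Lib.PicPn6_helper5

/-!
# Invertible modules on projective space over a UFD are twisting sheaves, part 2 (helper5).
APPEND-ONLY once landed.
-/

set_option autoImplicit false
universe u
open MvPolynomial HomogeneousLocalization CategoryTheory AlgebraicGeometry TopologicalSpace Opposite

noncomputable section

namespace Groth.Agent.PicPn

open QcqsLoc GenLocH8 TensH8 Groth.Agent.ProjTw

variable (n : ℕ) (R : Type u) [CommRing R] [IsDomain R]
  {L : (Proj (CohB1.polyGrading n R)).Modules}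

theorem isUnit_cst (k : Fin (n + 1)) (r : Rˣ) : IsUnit (cst n R k (r : R)) := by
  refine IsUnit.of_mul_eq_one (cst n R k ((r⁻¹ : Rˣ) : R)) ?_
  rw [cst_mul, Units.mul_inv, cst_one]

/-- **Normalised generators**: generators `e_k` of `L` on the standard charts with transition
functions `(T_k/T_l)^d`. -/
theorem exists_normalised [UniqueFactorizationMonoid R] (hL : PicF.IsInvertible L) :
    ∃ (d : ℤ) (e : ∀ k, Γ(L, U n R k)), (∀ k, IsGen L (U n R k) (e k)) ∧
      ∀ k l, Rel n R e k l d := by
  have hgen : ∀ k, ∃ e : Γ(L, U n R k), IsGen L (U n R k) e := fun k => by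
    haveI := subsingleton_pic_U n R k
    exact Groth.Agent.PicAff.exists_isGen_of_pic hL (isAffineOpen_U n R k)
  choose e₀ he₀ using hgen
  have hrd : ∀ k : Fin (n + 1), ∃ (r : Rˣ) (d : ℤ),
      (k ≠ 0 → rF L (inf_le_left : U n R k ⊓ U n R 0 ≤ U n R k) (e₀ k) =
        (rX (inf_le_left : U n R k ⊓ U n R 0 ≤ U n R k) (cst n R k (r : R)) * rhoZ n R k 0 d) •
          rF L (inf_le_right : U n R k ⊓ U n R 0 ≤ U n R 0) (e₀ 0)) ∧ (k = 0 → r = 1) := by
    intro k
    by_cases hk : k = 0
    · exact ⟨1, 0, fun h => absurd hk h, fun _ => rfl⟩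
    · have g0 : IsGen L (U n R k ⊓ U n R 0) (rF L inf_le_right (e₀ 0)) :=
        (he₀ 0).res inf_le_right
      have gk : IsGen L (U n R k ⊓ U n R 0) (rF L inf_le_left (e₀ k)) := (he₀ k).res inf_le_left
      obtain ⟨w, hw⟩ := g0.exists_coef (rF L inf_le_left (e₀ k))
      have hwu : IsUnit w := isUnit_of_isGen_smul g0 (hw ▸ gk)
      obtain ⟨r, d, hwrd⟩ := exists_eq_cst_mul_rhoZ n R k 0 hk w hwu
      exact ⟨r, d, fun _ => by rw [← hwrd]; exact hw, fun h => absurd h hk⟩
  choose r dd hrd1 hrd0 using hrd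
  let e : ∀ k, Γ(L, U n R k) := fun k => cst n R k (((r k)⁻¹ : Rˣ) : R) • e₀ k
  have he : ∀ k, IsGen L (U n R k) (e k) := fun k =>
    isGen_smul_of_isUnit (he₀ k) (isUnit_cst n R k (r k)⁻¹)
  have he0 : e 0 = e₀ 0 := by
    show cst n R 0 (((r 0)⁻¹ : Rˣ) : R) • e₀ 0 = e₀ 0
    rw [hrd0 0 rfl, inv_one, Units.val_one, cst_one, one_smul]
  have rel0 : ∀ k, k ≠ 0 → Rel n R e k 0 (dd k) := by
    intro k hk
    unfold Rel
    show rF L _ (cst n R k (((r k)⁻¹ : Rˣ) : R) • e₀ k) = _
    rw [rF_smul, hrd1 k hk, he0, ← mul_smul, ← mul_assoc, ← map_mul, cst_mul, Units.inv_mul,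
      cst_one, map_one, one_mul]
  by_cases hex : ∃ k : Fin (n + 1), k ≠ 0
  · obtain ⟨k₀, hk₀⟩ := hex
    have hall : ∀ k, k ≠ 0 → Rel n R e k 0 (dd k₀) := by
      intro k hk
      by_cases hkk : k = k₀
      · subst hkk
        exact rel0 k hk
      · have h1 := (rel_of_rel n R e he k k₀ 0 hkk hk hk₀ _ _ (rel0 k hk) (rel0 k₀ hk₀)).1
        rw [← h1]
        exact rel0 k hk
    refine ⟨dd k₀, e, he, fun k l => ?_⟩
    by_cases hkl : k = l
    · subst hkl
      exact rel_refl n R e k _
    · by_cases hl0 : l = 0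
      · subst hl0
        exact hall k hkl
      · by_cases hk0 : k = 0
        · subst hk0
          exact rel_symm n R e l 0 _ (hall l hl0)
        · exact (rel_of_rel n R e he k l 0 hkl hk0 hl0 _ _ (hall k hk0) (hall l hl0)).2
  · refine ⟨0, e, he, fun k l => ?_⟩
    have hk : k = 0 := by
      by_contra h
      exact hex ⟨k, h⟩
    have hl : l = 0 := by
      by_contra h
      exact hex ⟨l, h⟩
    subst hk hl
    exact rel_refl n R e _ _

/-- **Every invertible module on projective space over a UFD is a twisting sheaf.** -/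
theorem exists_iso_twist [UniqueFactorizationMonoid R] (hL : PicF.IsInvertible L) :
    ∃ d : ℤ, Nonempty (L ≅ Twist.twist (CohB1.polyGrading n R) d) := by
  obtain ⟨d, e, he, hrel⟩ := exists_normalised n R hL
  let D : LocalFrame L (Twist.twist (CohB1.polyGrading n R) d) 1 :=
    { ι := ULift.{u} (Fin (n + 1))
      O := fun k => U n R k.down
      e := fun k => e k.down
      m := fun k => gen n R k.down d
      he := fun k => he k.down
      hm := fun k => isGen_gen n R k.down d
      cover := fun x => by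
        obtain ⟨i, hi⟩ := Groth.Agent.VAmpPn.hcovX n x
        exact ⟨⟨i⟩, hi⟩
      compat := fun k l c h => by
        rw [pow_one]
        have hc : c = rhoZ n R k.down l.down d := by
          apply TensH8.IsGen.coef_ext ((he l.down).res inf_le_right)
          exact h.symm.trans (hrel k.down l.down)
        rw [hc]
        exact rF_gen n R k.down l.down d }
  obtain ⟨θ, -⟩ := Groth.Agent.ProjUPE.exists_iso D
  exact ⟨d, ⟨θ⟩⟩

end Groth.Agent.PicPn
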