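import Mathlib
import Groth.Prelude
import Groth.Agent.Lib.PicPn7_helper5

/-!
# The twisting sheaves `O(d)` on projective space of positive dimension are pairwise
non-isomorphic (helper5).  APPEND-ONLY once landed.
-/

set_option autoImplicit false
universe u
open MvPolynomial HomogeneousLocalization CategoryTheory AlgebraicGeometry TopologicalSpace Opposite

noncomputable section

namespace Groth.Agent.PicPn

open QcqsLoc QCohExtn GenLocH8 TensH8 Groth.Agent.ProjTw

variable (n : ℕ) (R : Type u) [CommRing R] [IsDomain R]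

/-- Units on a standard chart are constants: their values are `r T_k^K / T_k^K`. -/
theorem exists_vO_of_isUnit_U (k : Fin (n + 1))
    (v : Γ(Proj (CohB1.polyGrading n R), U n R k)) (hv : IsUnit v) :
    ∃ (K : ℕ) (r : Rˣ), ∀ y : U n R k, vO n R v y =
      mf y.1 (Finsupp.single k K) (Finsupp.single k K) (r : R) (good_U n R k y.1 y.2 K) := by
  have hfD : monomial (Finsupp.single k 1) (1 : R) ∈ CohB1.polyGrading n R 1 := X_mem n R k
  obtain ⟨K, N, m, r, hmN, hdeg, hval⟩ := exists_vO_of_isUnit n R (Finsupp.single k 1) one_pos hfD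
    (show Γ(Proj (CohB1.polyGrading n R), Proj.basicOpen (CohB1.polyGrading n R)
      (monomial (Finsupp.single k 1) (1 : R))) from v) hv
  have hm0 : ∀ j, j ≠ k → m j = 0 := by
    intro j hjk
    have h1 := hmN j
    simp only [Finsupp.smul_apply, Finsupp.single_apply, smul_eq_mul] at h1
    rw [if_neg (Ne.symm hjk)] at h1
    omega
  have hm : m = Finsupp.single k (m k) := by
    ext j
    simp only [Finsupp.single_apply]
    by_cases hjk : j = k
    · subst hjk
      rw [if_pos rfl]
    · rw [if_neg (Ne.symm hjk), hm0 j hjk]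
  have hmk : m k = K := by
    rw [hm, Finsupp.degree_single, mul_one] at hdeg
    exact hdeg
  refine ⟨K, r, fun y => ?_⟩
  have h2 := hval y
  have h3 : vO n R v y = Localization.mk (monomial m (r : R))
      ⟨monomial (Finsupp.single k 1) (1 : R) ^ K,
        show monomial (Finsupp.single k 1) (1 : R) ^ K ∈
          y.1.asHomogeneousIdeal.toIdeal.primeCompl from
          fun h => y.2 (y.1.isPrime.mem_of_pow_mem _ h)⟩ := h2
  rw [h3]
  unfold mf
  congr 1
  · rw [hm, hmk]
  · apply Subtype.ext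
    show monomial (Finsupp.single k 1) (1 : R) ^ K = _
    rw [monomial_pow, one_pow, Finsupp.smul_single, smul_eq_mul, mul_one]

/-- **`O(d) ≅ O(d')` on `P^n`, `n ≥ 1`, forces `d = d'`.** -/
theorem eq_of_iso_twist (hn : 1 ≤ n) (d d' : ℤ)
    (θ : Twist.twist (CohB1.polyGrading n R) d ≅ Twist.twist (CohB1.polyGrading n R) d') :
    d = d' := by
  obtain ⟨k, l, hkl⟩ : ∃ k l : Fin (n + 1), k ≠ l := by
    refine ⟨0, ⟨1, by omega⟩, ?_⟩
    intro h
    have := congrArg Fin.val h
    simp at this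
  -- coefficients of `θ(T_k^d)` with respect to `T_k^{d'}`
  have hcoef : ∀ j : Fin (n + 1), ∃ v : Γ(Proj (CohB1.polyGrading n R), U n R j), IsUnit v ∧
      ap θ.hom (U n R j) (gen n R j d) = v • gen n R j d' := by
    intro j
    have g1 := isGen_of_iso θ (isGen_gen n R j d)
    obtain ⟨v, hv⟩ := (isGen_gen n R j d').exists_coef (ap θ.hom (U n R j) (gen n R j d))
    exact ⟨v, isUnit_of_isGen_smul (isGen_gen n R j d') (hv ▸ g1), hv⟩
  obtain ⟨vk, hvk, hk⟩ := hcoef k
  obtain ⟨vl, hvl, hl⟩ := hcoef l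
  obtain ⟨Kk, rk, hvalk⟩ := exists_vO_of_isUnit_U n R k vk hvk
  obtain ⟨Kl, rl, hvall⟩ := exists_vO_of_isUnit_U n R l vl hvl
  have h1 := congrArg (ap θ.hom (U n R k ⊓ U n R l)) (rF_gen n R k l d)
  rw [ap_rF, ap_smul, ap_rF, hk, hl, rF_smul, rF_smul, rF_gen n R k l d', ← mul_smul,
    ← mul_smul] at h1
  have gl : IsGen (Twist.twist (CohB1.polyGrading n R) d') (U n R k ⊓ U n R l)
      (rF (Twist.twist (CohB1.polyGrading n R) d') inf_le_right (gen n R l d')) :=
    (isGen_gen n R l d').res inf_le_right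
  have key := TensH8.IsGen.coef_ext gl h1
  have hη : eta n R ∈ U n R k ⊓ U n R l := ⟨eta_mem_U n R k, eta_mem_U n R l⟩
  have hv := congrArg (fun c => vO n R c ⟨eta n R, hη⟩) key
  simp only at hv
  rw [vO_mul, vO_mul, vO_rX, vO_rX, hvalk, hvall, vO_rhoZ, vO_rhoZ, mf_mul, mf_mul] at hv
  obtain ⟨hvec, -⟩ := mf_eq_iff _ (mul_ne_zero rk.ne_zero one_ne_zero) _ _ hv
  have hk' := DFunLike.congr_fun hvec k
  simp only [Finsupp.add_apply, Finsupp.single_apply, if_true, if_neg hkl,
    if_neg (Ne.symm hkl)] at hk'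
  omega

end Groth.Agent.PicPn
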