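import Mathlib

/-!
# Kronecker's content lemma over integrally closed domains (helper4)

* `val_coeff_mul_le`: for a valuation `v` on a field `K` and `g h : K[X]` with all coefficients
  of `g * h` of valuation `≤ 1`, all products `gᵢ hⱼ` have valuation `≤ 1` (Gauss).
* `kronecker`: for an integrally closed domain `A` with fraction field `K`, if `g * h ∈ A[X]`
  then all products `gᵢ hⱼ` lie in `A`.
-/

set_option autoImplicit false
set_option linter.style.haveILetI false
universe u
open Polynomial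

namespace Groth.Agent.Lib.PicPolyH4

section Val

variable {K : Type*} [Field K] {Γ₀ : Type*} [LinearOrderedCommGroupWithZero Γ₀]
  (v : Valuation K Γ₀)

/-- The first index at which the coefficients of a nonzero polynomial attain their maximal
valuation. -/
theorem exists_first_max (g : K[X]) (hg : g ≠ 0) :
    ∃ i₀, v (g.coeff i₀) ≠ 0 ∧ (∀ i, v (g.coeff i) ≤ v (g.coeff i₀)) ∧
      ∀ i, i < i₀ → v (g.coeff i) < v (g.coeff i₀) := by
  classical
  have hne : g.support.Nonempty := by
    rwa [Finset.nonempty_iff_ne_empty, Ne, Polynomial.support_eq_empty]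
  obtain ⟨i₁, hi₁, hmax⟩ := Finset.exists_max_image g.support (fun i => v (g.coeff i)) hne
  let I := g.support.filter (fun i => v (g.coeff i) = v (g.coeff i₁))
  have hI : I.Nonempty := ⟨i₁, Finset.mem_filter.mpr ⟨hi₁, rfl⟩⟩
  have hi₀ := Finset.min'_mem I hI
  obtain ⟨hi₀s, hi₀v⟩ := Finset.mem_filter.mp hi₀
  have hv0 : v (g.coeff (I.min' hI)) ≠ 0 := by
    rw [Valuation.ne_zero_iff]
    exact Polynomial.mem_support_iff.mp hi₀s
  have hle : ∀ i, v (g.coeff i) ≤ v (g.coeff (I.min' hI)) := by
    intro i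
    rw [hi₀v]
    by_cases hi : i ∈ g.support
    · exact hmax i hi
    · rw [Polynomial.notMem_support_iff.mp hi, map_zero]
      exact zero_le
  refine ⟨I.min' hI, hv0, hle, fun i hi => ?_⟩
  refine lt_of_le_of_ne (hle i) (fun heq => ?_)
  have hiS : i ∈ g.support := by
    rw [Polynomial.mem_support_iff]
    intro h0
    rw [h0, map_zero] at heq
    exact hv0 heq.symm
  have hiI : i ∈ I := Finset.mem_filter.mpr ⟨hiS, heq.trans hi₀v⟩
  exact absurd (Finset.min'_le I i hiI) (not_le.mpr hi)

/-- **Gauss lemma** for valuations. -/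
theorem val_coeff_mul_le (g h : K[X]) (hgh : ∀ n, v ((g * h).coeff n) ≤ 1) (i j : ℕ) :
    v (g.coeff i * h.coeff j) ≤ 1 := by
  classical
  by_cases hg : g = 0
  · rw [hg, coeff_zero, zero_mul, map_zero]
    exact zero_le
  by_cases hh : h = 0
  · rw [hh, coeff_zero, mul_zero, map_zero]
    exact zero_le
  obtain ⟨i₀, hi0, hile, hilt⟩ := exists_first_max v g hg
  obtain ⟨j₀, hj0, hjle, hjlt⟩ := exists_first_max v h hh
  have hab0 : v (g.coeff i₀) * v (h.coeff j₀) ≠ 0 := mul_ne_zero hi0 hj0
  have hmem : (i₀, j₀) ∈ Finset.HasAntidiagonal.antidiagonal (i₀ + j₀) := Finset.HasAntidiagonal.mem_antidiagonal.mpr rfl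
  have hsplit : (g * h).coeff (i₀ + j₀) = g.coeff i₀ * h.coeff j₀ +
      ∑ x ∈ (Finset.HasAntidiagonal.antidiagonal (i₀ + j₀)).erase (i₀, j₀), g.coeff x.1 * h.coeff x.2 := by
    rw [coeff_mul, ← Finset.add_sum_erase _ _ hmem]
  have hrest : v (∑ x ∈ (Finset.HasAntidiagonal.antidiagonal (i₀ + j₀)).erase (i₀, j₀),
      g.coeff x.1 * h.coeff x.2) < v (g.coeff i₀) * v (h.coeff j₀) := by
    refine Valuation.map_sum_lt v hab0 (fun x hx => ?_)
    obtain ⟨hxne, hxmem⟩ := Finset.mem_erase.mp hx
    have hsum : x.1 + x.2 = i₀ + j₀ := Finset.HasAntidiagonal.mem_antidiagonal.mp hxmem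
    rw [map_mul]
    have hcases : x.1 < i₀ ∨ x.2 < j₀ := by
      by_contra hcon
      push Not at hcon
      apply hxne
      have h1 : x.1 = i₀ := by omega
      have h2 : x.2 = j₀ := by omega
      exact Prod.ext h1 h2
    rcases hcases with h1 | h2
    · exact mul_lt_mul_of_lt_of_le_of_nonneg_of_pos (hilt _ h1) (hjle _) zero_le
        (zero_lt_iff.mpr hj0)
    · exact mul_lt_mul_of_le_of_lt_of_nonneg_of_pos (hile _) (hjlt _ h2) zero_le
        (zero_lt_iff.mpr hi0)
  have hval : v ((g * h).coeff (i₀ + j₀)) = v (g.coeff i₀) * v (h.coeff j₀) := by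
    rw [hsplit, Valuation.map_add_eq_of_lt_left v (by rwa [map_mul]), map_mul]
  have hab : v (g.coeff i₀) * v (h.coeff j₀) ≤ 1 := hval ▸ hgh (i₀ + j₀)
  rw [map_mul]
  exact (mul_le_mul' (hile i) (hjle j)).trans hab

end Val

section Kronecker

variable {A : Type*} [CommRing A] [IsDomain A] [IsIntegrallyClosed A]
  {K : Type*} [Field K] [Algebra A K] [IsFractionRing A K]

omit [IsDomain A] in
theorem isIntegrallyClosedIn_range :
    IsIntegrallyClosedIn (algebraMap A K).range K := by
  rw [Subring.isIntegrallyClosedIn_iff]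
  intro x hx
  obtain ⟨p, hpm, hpx⟩ := hx
  have hlift : p ∈ Polynomial.lifts (algebraMap A K).rangeRestrict := by
    rw [Polynomial.lifts_iff_coeff_lifts]
    intro n
    exact (algebraMap A K).rangeRestrict_surjective _
  obtain ⟨q, hq, -, hqm⟩ := Polynomial.lifts_and_degree_eq_and_monic hlift hpm
  have hint : IsIntegral A x := by
    refine ⟨q, hqm, ?_⟩
    rw [← hq] at hpx
    rw [Polynomial.eval₂_map] at hpx
    exact hpx
  obtain ⟨y, hy⟩ := IsIntegrallyClosed.algebraMap_eq_of_integral hint
  exact ⟨y, hy⟩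

omit [IsDomain A] in
/-- **Kronecker's lemma**: if `g h : K[X]` have product in `A[X]` (`A` integrally closed with
fraction field `K`) then all the products `gᵢ hⱼ` lie in `A`. -/
theorem kronecker (g h : K[X]) (hgh : ∀ n, (g * h).coeff n ∈ (algebraMap A K).range) (i j : ℕ) :
    g.coeff i * h.coeff j ∈ (algebraMap A K).range := by
  by_contra hx
  haveI : IsIntegrallyClosedIn (algebraMap A K).range K := isIntegrallyClosedIn_range
  obtain ⟨V, hRV, hxV⟩ := Subring.exists_le_valuationSubring_of_isIntegrallyClosedIn hx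
  apply hxV
  rw [← ValuationSubring.valuation_le_one_iff]
  refine val_coeff_mul_le V.valuation g h (fun n => ?_) i j
  rw [ValuationSubring.valuation_le_one_iff]
  exact hRV (hgh n)

end Kronecker

end Groth.Agent.Lib.PicPolyH4
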