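import Mathlib
import Groth.Agent.Lib.PicPolyA_helper4

/-!
# `Pic A → Pic A[X]` is surjective for integrally closed domains (helper4)

Every invertible `A[X]`-module is extended from `A` when `A` is an integrally closed domain:
realise it as an invertible `A[X]`-submodule `J ⊆ K[X]`; by Kronecker's lemma its content
`𝔞 ⊆ K` is an invertible `A`-submodule and `J = 𝔞 A[X]`.
-/

set_option autoImplicit false
set_option linter.style.haveILetI false
universe u
open Polynomial TensorProduct

namespace Groth.Agent.Lib.PicPolyH4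

attribute [local instance] Polynomial.algebra

variable (A : Type u) [CommRing A] [IsDomain A] [IsIntegrallyClosed A]

/-- the content of a submodule of `K[X]`: the `A`-span of all coefficients. -/
noncomputable def content (J : Submodule A[X] (FractionRing A)[X]) : Submodule A (FractionRing A) :=
  Submodule.span A {x | ∃ g ∈ J, ∃ i : ℕ, g.coeff i = x}

variable {A}

omit [IsDomain A] [IsIntegrallyClosed A] in
theorem coeff_mem_content {J : Submodule A[X] (FractionRing A)[X]} {g : (FractionRing A)[X]}
    (hg : g ∈ J) (i : ℕ) : g.coeff i ∈ content A J :=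
  Submodule.subset_span ⟨g, hg, i, rfl⟩

omit [IsDomain A] [IsIntegrallyClosed A] in
theorem mem_one_iff_coeff (p : (FractionRing A)[X]) :
    p ∈ (1 : Submodule A[X] (FractionRing A)[X]) ↔
      ∀ n, p.coeff n ∈ (algebraMap A (FractionRing A)).range := by
  rw [Submodule.mem_one]
  constructor
  · rintro ⟨q, rfl⟩ n
    rw [Polynomial.algebraMap_def, coe_mapRingHom, coeff_map]
    exact ⟨q.coeff n, rfl⟩
  · intro h
    have hl : p ∈ Polynomial.lifts (algebraMap A (FractionRing A)) := by
      rw [Polynomial.lifts_iff_coeff_lifts]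
      exact h
    obtain ⟨q, hq⟩ := hl
    exact ⟨q, hq⟩

/-- the content of a product of inverse submodules is `≤ 1` (Kronecker). -/
theorem content_mul_content_le {J J' : Submodule A[X] (FractionRing A)[X]} (h : J * J' = 1) :
    content A J * content A J' ≤ 1 := by
  rw [content, content, Submodule.span_mul_span, Submodule.span_le]
  rintro _ ⟨x, ⟨g, hg, i, rfl⟩, y, ⟨k, hk, j, rfl⟩, rfl⟩
  have hgk : g * k ∈ (1 : Submodule A[X] (FractionRing A)[X]) := h ▸ Submodule.mul_mem_mul hg hk
  have h1 := (mem_one_iff_coeff (g * k)).mp hgk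
  obtain ⟨a, ha⟩ := kronecker g k h1 i j
  exact Submodule.mem_one.mpr ⟨a, ha⟩

omit [IsDomain A] [IsIntegrallyClosed A] in
theorem coeff_mem_content_mul {J J' : Submodule A[X] (FractionRing A)[X]}
    {p : (FractionRing A)[X]} (hp : p ∈ J * J') (n : ℕ) :
    p.coeff n ∈ content A J * content A J' := by
  revert n
  refine Submodule.mul_induction_on hp (fun g hg k hk n => ?_) (fun x y hx hy n => ?_)
  · rw [coeff_mul]
    exact Submodule.sum_mem _ (fun x _ =>
      Submodule.mul_mem_mul (coeff_mem_content hg x.1) (coeff_mem_content hk x.2))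
  · rw [coeff_add]
    exact Submodule.add_mem _ (hx n) (hy n)

theorem content_mul_content_eq {J J' : Submodule A[X] (FractionRing A)[X]} (h : J * J' = 1) :
    content A J * content A J' = 1 := by
  refine le_antisymm (content_mul_content_le h) ?_
  rw [Submodule.one_le]
  have h1 : (1 : (FractionRing A)[X]) ∈ J * J' := h ▸ Submodule.one_le.mp le_rfl
  have h2 := coeff_mem_content_mul h1 0
  rwa [coeff_one_zero] at h2

/-- constants from the content lie in the submodule. -/
theorem C_mem_of_mem_content {J J' : Submodule A[X] (FractionRing A)[X]} (h : J * J' = 1)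
    {a : FractionRing A} (ha : a ∈ content A J) : C a ∈ J := by
  have h' : J' * J = 1 := (Submodule.mul_comm J' J).trans h
  -- `C a * J' ⊆ 1`
  have h1 : ∀ k ∈ J', C a * k ∈ (1 : Submodule A[X] (FractionRing A)[X]) := by
    intro k hk
    rw [mem_one_iff_coeff]
    intro n
    rw [coeff_C_mul]
    have h2 : a * k.coeff n ∈ content A J * content A J' :=
      Submodule.mul_mem_mul ha (coeff_mem_content hk n)
    rw [content_mul_content_eq h] at h2
    obtain ⟨y, hy⟩ := Submodule.mem_one.mp h2
    exact ⟨y, hy⟩
  -- `C a ∈ C a * (J' * J) ⊆ J`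
  have h3 : ∀ p ∈ J' * J, C a * p ∈ J := by
    intro p hp
    refine Submodule.mul_induction_on hp (fun k hk g hg => ?_) (fun x y hx hy => ?_)
    · obtain ⟨q, hq⟩ := Submodule.mem_one.mp (h1 k hk)
      rw [← mul_assoc, ← hq, ← Algebra.smul_def]
      exact J.smul_mem q hg
    · rw [mul_add]
      exact J.add_mem hx hy
  have h4 := h3 1 (h' ▸ Submodule.one_le.mp le_rfl)
  rwa [mul_one] at h4

variable (A)

/-- **Every invertible `A[X]`-module is extended from `A`** (`A` an integrally closed domain). -/
theorem exists_mapAlgebra_eq (N : CommRing.Pic A[X]) :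
    ∃ L : CommRing.Pic A, CommRing.Pic.mapAlgebra A A[X] L = N := by
  have hN : N ∈ (Submodule.unitsToPic A[X] (FractionRing A)[X]).range := by
    rw [Submodule.range_unitsToPic, CommRing.relPic_eq_top]
    exact Subgroup.mem_top N
  obtain ⟨J, rfl⟩ := hN
  have hJ : (J : Submodule A[X] (FractionRing A)[X]) * (↑J⁻¹ : Submodule A[X] (FractionRing A)[X])
      = 1 := by
    rw [← Units.val_mul, mul_inv_cancel, Units.val_one]
  have hab := content_mul_content_eq hJ
  obtain ⟨au, hau⟩ : ∃ au : (Submodule A (FractionRing A))ˣ,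
      (au : Submodule A (FractionRing A)) = content A (J : Submodule A[X] (FractionRing A)[X]) :=
    ⟨⟨content A (J : Submodule A[X] (FractionRing A)[X]),
      content A (↑J⁻¹ : Submodule A[X] (FractionRing A)[X]), hab,
      (Submodule.mul_comm _ _).trans hab⟩, rfl⟩
  refine ⟨Submodule.unitsToPic A (FractionRing A) au, ?_⟩
  show CommRing.Pic.mk A[X] (A[X] ⊗[A] (Submodule.unitsToPic A (FractionRing A) au)) =
    CommRing.Pic.mk A[X] (J : Submodule A[X] (FractionRing A)[X])
  rw [CommRing.Pic.mk_eq_mk_iff]
  -- the multiplication map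
  let ell : (au : Submodule A (FractionRing A)) →ₗ[A] (J : Submodule A[X] (FractionRing A)[X]) :=
    { toFun := fun a => ⟨C (a : FractionRing A), C_mem_of_mem_content hJ (hau ▸ a.2)⟩
      map_add' := fun a b => Subtype.ext (by simp)
      map_smul' := fun r a => Subtype.ext (by
        show C ((r • a : (au : Submodule A (FractionRing A))) : FractionRing A) =
          r • C (a : FractionRing A)
        rw [Submodule.coe_smul, smul_C]) }
  let mu : A[X] ⊗[A] (au : Submodule A (FractionRing A)) →ₗ[A[X]]
      (J : Submodule A[X] (FractionRing A)[X]) := ell.liftBaseChange A[X]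
  have hsurj : Function.Surjective mu := by
    rintro ⟨g, hg⟩
    have hsum : (⟨g, hg⟩ : (J : Submodule A[X] (FractionRing A)[X])) =
        ∑ i ∈ Finset.range (g.natDegree + 1),
          mu ((X ^ i : A[X]) ⊗ₜ[A] ⟨g.coeff i, hau.symm ▸ coeff_mem_content hg i⟩) := by
      apply Subtype.ext
      rw [Submodule.coe_sum]
      conv_lhs => rw [show ((⟨g, hg⟩ : (J : Submodule A[X] (FractionRing A)[X])) :
        (FractionRing A)[X]) = g from rfl, as_sum_range_C_mul_X_pow g]
      refine Finset.sum_congr rfl (fun i _ => ?_)
      show C (g.coeff i) * X ^ i = (((X ^ i : A[X]) • ell ⟨g.coeff i, _⟩ :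
        (J : Submodule A[X] (FractionRing A)[X])) : (FractionRing A)[X])
      rw [Submodule.coe_smul, Algebra.smul_def, Polynomial.algebraMap_def, coe_mapRingHom,
        Polynomial.map_pow, map_X, mul_comm]
      rfl
    rw [hsum, ← map_sum]
    exact ⟨_, rfl⟩
  have hbij := Module.Invertible.bijective_of_surjective hsurj
  exact ⟨(TensorProduct.AlgebraTensorModule.congr (LinearEquiv.refl A[X] A[X])
    (Submodule.unitsToPicEquiv au)).trans (LinearEquiv.ofBijective mu hbij)⟩

end Groth.Agent.Lib.PicPolyH4
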