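import Mathlib
import Groth.Agent.Lib.PicPolyB_helper4

/-!
# The Picard group of a normal affine cone is trivial (helper4)

`Q = k[x_1, …, x_n] ⧸ I` with `I` generated by homogeneous polynomials, `Q` an integrally closed
domain.  The scaling map `φ : Q → Q[T]`, `x̄_i ↦ x̄_i T` satisfies `ev₁ ∘ φ = id` and `ev₀ ∘ φ`
factors through `k`.  Since `Pic Q → Pic Q[T]` is onto (`exists_mapAlgebra_eq`), every class
`x ∈ Pic Q` satisfies `x = ev₁(φ x) = L = ev₀(φ x) = 1`.
-/

set_option autoImplicit false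
universe u

namespace Groth.Agent.Lib.PicPolyH4

section Cone

variable {k : Type u} [Field k] {n : ℕ} (I : Ideal (MvPolynomial (Fin n) k))

/-- scaling map `P → (P ⧸ I)[T]`, `x_i ↦ x̄_i T`. -/
noncomputable def psi :
    MvPolynomial (Fin n) k →+* Polynomial (MvPolynomial (Fin n) k ⧸ I) :=
  MvPolynomial.eval₂Hom
    ((Polynomial.C).comp (algebraMap k (MvPolynomial (Fin n) k ⧸ I)))
    (fun i => Polynomial.C (Ideal.Quotient.mk I (MvPolynomial.X i)) * Polynomial.X)

theorem algebraMap_eq_mk_C (c : k) :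
    algebraMap k (MvPolynomial (Fin n) k ⧸ I) c = Ideal.Quotient.mk I (MvPolynomial.C c) :=
  rfl

theorem psi_C (c : k) : psi I (MvPolynomial.C c) =
    Polynomial.C (Ideal.Quotient.mk I (MvPolynomial.C c)) := by
  rw [psi, MvPolynomial.eval₂Hom_C, RingHom.comp_apply, algebraMap_eq_mk_C]

theorem psi_X (i : Fin n) : psi I (MvPolynomial.X i) =
    Polynomial.C (Ideal.Quotient.mk I (MvPolynomial.X i)) * Polynomial.X := by
  rw [psi, MvPolynomial.eval₂Hom_X']

theorem psi_monomial (m : Fin n →₀ ℕ) (c : k) :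
    psi I (MvPolynomial.monomial m c) =
      Polynomial.C (Ideal.Quotient.mk I (MvPolynomial.monomial m c)) *
        Polynomial.X ^ (Finsupp.degree m) := by
  have hX : (Polynomial.X : Polynomial (MvPolynomial (Fin n) k ⧸ I)) ^ (∑ i ∈ m.support, m i)
      = ∏ i ∈ m.support, Polynomial.X ^ (m i) := by
    rw [Finset.prod_pow_eq_pow_sum]
  rw [MvPolynomial.monomial_eq, Finsupp.prod, Finsupp.degree_apply, hX]
  simp only [map_mul, map_prod, map_pow, psi_C, psi_X, mul_assoc]
  congr 1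
  rw [← Finset.prod_mul_distrib]
  refine Finset.prod_congr rfl (fun i _ => ?_)
  have hcomm := (Commute.all
    (Polynomial.C (Ideal.Quotient.mk I (MvPolynomial.X i))) Polynomial.X).mul_pow (m i)
  exact hcomm

theorem psi_of_isHomogeneous {f : MvPolynomial (Fin n) k} {d : ℕ} (hf : f.IsHomogeneous d) :
    psi I f = Polynomial.C (Ideal.Quotient.mk I f) * Polynomial.X ^ d := by
  have h1 : psi I f =
      ∑ m ∈ f.support, psi I (MvPolynomial.monomial m (MvPolynomial.coeff m f)) := by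
    rw [← map_sum, ← f.as_sum]
  have h2 : Ideal.Quotient.mk I f =
      ∑ m ∈ f.support,
        Ideal.Quotient.mk I (MvPolynomial.monomial m (MvPolynomial.coeff m f)) := by
    rw [← map_sum, ← f.as_sum]
  rw [h1, h2, map_sum, Finset.sum_mul]
  refine Finset.sum_congr rfl fun m hm => ?_
  rw [psi_monomial]
  have hdeg : Finsupp.degree m = d := by
    by_contra h
    exact (MvPolynomial.mem_support_iff.1 hm) (hf.coeff_eq_zero h)
  rw [hdeg]

theorem psi_eq_zero_of_mem
    (hI : ∃ s : Set (MvPolynomial (Fin n) k),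
      (∀ f ∈ s, ∃ d : ℕ, f.IsHomogeneous d) ∧ I = Ideal.span s) :
    ∀ a ∈ I, psi I a = 0 := by
  obtain ⟨s, hs, hIs⟩ := hI
  have hsI : ∀ f ∈ s, f ∈ I := by
    intro f hf
    rw [hIs]
    exact Ideal.subset_span hf
  have hle : Ideal.span s ≤ RingHom.ker (psi I) := by
    rw [Ideal.span_le]
    intro f hf
    obtain ⟨d, hd⟩ := hs f hf
    rw [SetLike.mem_coe, RingHom.mem_ker, psi_of_isHomogeneous I hd]
    have h0 : Ideal.Quotient.mk I f = 0 := Ideal.Quotient.eq_zero_iff_mem.2 (hsI f hf)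
    rw [h0, map_zero, zero_mul]
  intro a ha
  have ha' : a ∈ Ideal.span s := by rw [← hIs]; exact ha
  exact RingHom.mem_ker.1 (hle ha')

theorem constantCoeff_eq_zero_of_mem [Nontrivial (MvPolynomial (Fin n) k ⧸ I)]
    (hI : ∃ s : Set (MvPolynomial (Fin n) k),
      (∀ f ∈ s, ∃ d : ℕ, f.IsHomogeneous d) ∧ I = Ideal.span s) :
    ∀ a ∈ I, MvPolynomial.constantCoeff a = 0 := by
  classical
  obtain ⟨s, hs, hIs⟩ := hI
  have hne : I ≠ ⊤ := Ideal.Quotient.nontrivial_iff.1 inferInstance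
  have hsI : ∀ f ∈ s, f ∈ I := by
    intro f hf
    rw [hIs]
    exact Ideal.subset_span hf
  have hle : Ideal.span s ≤
      RingHom.ker (MvPolynomial.constantCoeff (R := k) (σ := Fin n)) := by
    rw [Ideal.span_le]
    intro f hf
    obtain ⟨d, hd⟩ := hs f hf
    rw [SetLike.mem_coe, RingHom.mem_ker]
    by_contra hc
    have hc' : MvPolynomial.coeff 0 f ≠ 0 := by
      rwa [MvPolynomial.constantCoeff_eq] at hc
    have hd0 : d = 0 := by
      by_contra hd0
      refine hc' (hd.coeff_eq_zero ?_)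
      rw [map_zero]
      exact Ne.symm hd0
    subst hd0
    have hfC : f = MvPolynomial.C (MvPolynomial.coeff 0 f) := by
      ext m
      rw [MvPolynomial.coeff_C]
      split_ifs with h0
      · rw [h0]
      · exact hd.coeff_eq_zero
          (fun hdeg => h0 ((Finsupp.degree_eq_zero_iff m).1 hdeg).symm)
    obtain ⟨c, hc0, hfc⟩ : ∃ c : k, c ≠ 0 ∧ f = MvPolynomial.C c := ⟨_, hc', hfC⟩
    apply hne
    rw [Ideal.eq_top_iff_one]
    have hmem : (MvPolynomial.C c⁻¹ : MvPolynomial (Fin n) k) * f ∈ I :=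
      I.mul_mem_left _ (hsI f hf)
    rw [hfc, ← map_mul, inv_mul_cancel₀ hc0, map_one] at hmem
    exact hmem
  intro a ha
  have ha' : a ∈ Ideal.span s := by rw [← hIs]; exact ha
  exact RingHom.mem_ker.1 (hle ha')

/-- the scaling map `Q → Q[T]`. -/
noncomputable def phi (h : ∀ a ∈ I, psi I a = 0) :
    (MvPolynomial (Fin n) k ⧸ I) →+* Polynomial (MvPolynomial (Fin n) k ⧸ I) :=
  Ideal.Quotient.lift I (psi I) h

/-- the vertex `Q → k`. -/
noncomputable def eps (h : ∀ a ∈ I, MvPolynomial.constantCoeff a = 0) :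
    (MvPolynomial (Fin n) k ⧸ I) →+* k :=
  Ideal.Quotient.lift I MvPolynomial.constantCoeff h

theorem eval_one_comp_phi (h : ∀ a ∈ I, psi I a = 0) :
    (Polynomial.evalRingHom (1 : MvPolynomial (Fin n) k ⧸ I)).comp (phi I h) =
      RingHom.id _ := by
  refine Ideal.Quotient.ringHom_ext ?_
  refine MvPolynomial.ringHom_ext (fun c => ?_) (fun i => ?_)
  · simp [phi, psi_C]
  · simp [phi, psi_X]

theorem eval_zero_comp_phi (h : ∀ a ∈ I, psi I a = 0)
    (h0 : ∀ a ∈ I, MvPolynomial.constantCoeff a = 0) :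
    (Polynomial.evalRingHom (0 : MvPolynomial (Fin n) k ⧸ I)).comp (phi I h) =
      (algebraMap k (MvPolynomial (Fin n) k ⧸ I)).comp (eps I h0) := by
  refine Ideal.Quotient.ringHom_ext ?_
  refine MvPolynomial.ringHom_ext (fun c => ?_) (fun i => ?_)
  · simp [phi, eps, psi_C, algebraMap_eq_mk_C]
  · simp [phi, eps, psi_X]

theorem evalRingHom_comp_C {R : Type u} [CommRing R] (a : R) :
    (Polynomial.evalRingHom a).comp (Polynomial.C : R →+* Polynomial R) = RingHom.id R := by
  ext r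
  simp

theorem pic_eq_one
    (hI : ∃ s : Set (MvPolynomial (Fin n) k),
      (∀ f ∈ s, ∃ d : ℕ, f.IsHomogeneous d) ∧ I = Ideal.span s)
    [IsDomain (MvPolynomial (Fin n) k ⧸ I)] [IsIntegrallyClosed (MvPolynomial (Fin n) k ⧸ I)]
    (x : CommRing.Pic (MvPolynomial (Fin n) k ⧸ I)) : x = 1 := by
  have h := psi_eq_zero_of_mem I hI
  have h0 := constantCoeff_eq_zero_of_mem I hI
  obtain ⟨L, hL⟩ := exists_mapAlgebra_eq (MvPolynomial (Fin n) k ⧸ I)
    (CommRing.Pic.mapRingHom (phi I h) x)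
  have hC : CommRing.Pic.mapRingHom
      (Polynomial.C : (MvPolynomial (Fin n) k ⧸ I) →+* Polynomial (MvPolynomial (Fin n) k ⧸ I))
      = CommRing.Pic.mapAlgebra (MvPolynomial (Fin n) k ⧸ I)
          (Polynomial (MvPolynomial (Fin n) k ⧸ I)) := by
    rw [← Polynomial.algebraMap_eq, CommRing.Pic.mapRingHom_algebraMap]
  rw [← hC] at hL
  have e1 : L = x := by
    have := congrArg (CommRing.Pic.mapRingHom
      (Polynomial.evalRingHom (1 : MvPolynomial (Fin n) k ⧸ I))) hL
    rwa [CommRing.Pic.mapRingHom_mapRingHom, CommRing.Pic.mapRingHom_mapRingHom,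
      eval_one_comp_phi, evalRingHom_comp_C, CommRing.Pic.mapRingHom_id_apply,
      CommRing.Pic.mapRingHom_id_apply] at this
  have e0 : L = CommRing.Pic.mapRingHom
      ((algebraMap k (MvPolynomial (Fin n) k ⧸ I)).comp (eps I h0)) x := by
    have := congrArg (CommRing.Pic.mapRingHom
      (Polynomial.evalRingHom (0 : MvPolynomial (Fin n) k ⧸ I))) hL
    rwa [CommRing.Pic.mapRingHom_mapRingHom, CommRing.Pic.mapRingHom_mapRingHom,
      eval_zero_comp_phi I h h0, evalRingHom_comp_C, CommRing.Pic.mapRingHom_id_apply] at this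
  have e2 : CommRing.Pic.mapRingHom
      ((algebraMap k (MvPolynomial (Fin n) k ⧸ I)).comp (eps I h0)) x = 1 := by
    rw [← CommRing.Pic.mapRingHom_mapRingHom]
    have hk : CommRing.Pic.mapRingHom (eps I h0) x = 1 := Subsingleton.elim _ _
    rw [hk, map_one]
  rw [← e1, e0, e2]

end Cone

end Groth.Agent.Lib.PicPolyH4
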