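import Mathlib

/-!
# Picard group of a polynomial ring over a product of GCD domains (helper4)

* `isGCDMonoid_mvPolynomial_fin`: `V[x₁, …, xₙ]` is a GCD domain when `V` is.
* `exists_rank_one_factorization`: a dual basis of an invertible `S`-module becomes a rank one
  factorisation `v wᵀ` after base change to a ring with trivial Picard group.
* `exists_assemble`: polynomials of bounded degree over the factors assemble to a polynomial over
  the product.
* `pic_mvPolynomial_pi_subsingleton`: the Picard group of `(∏ Rᵢ)[x₁, …, xₙ]` is trivial when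
  all `Rᵢ[x₁, …, xₙ]` are domains with trivial Picard group.
-/

set_option autoImplicit false
set_option linter.style.haveILetI false
universe u
open scoped TensorProduct

namespace Groth.Agent.Lib.PicProdH4

section GCD

theorem isGCDMonoid_of_ringEquiv {α β : Type*} [CommRing α] [IsDomain α] [CommRing β]
    (e : α ≃+* β) [IsGCDMonoid β] : IsGCDMonoid α := by
  rw [isGCDMonoid_iff_exists_gcd]
  obtain ⟨-, hg⟩ := (isGCDMonoid_iff_exists_gcd (α := β)).mp inferInstance
  refine ⟨inferInstance, fun a b => ?_⟩
  obtain ⟨c, hc⟩ := hg (e a) (e b)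
  refine ⟨e.symm c, fun d => ?_⟩
  have h := hc (e d)
  rw [map_dvd_iff, map_dvd_iff] at h
  rw [h, ← map_dvd_iff e, e.apply_symm_apply]

theorem isGCDMonoid_mvPolynomial_fin (V : Type u) [CommRing V] [IsDomain V] [IsGCDMonoid V]
    (n : ℕ) : IsGCDMonoid (MvPolynomial (Fin n) V) := by
  induction n with
  | zero => exact isGCDMonoid_of_ringEquiv (MvPolynomial.isEmptyAlgEquiv V (Fin 0)).toRingEquiv
  | succ n ih =>
    haveI := ih
    exact isGCDMonoid_of_ringEquiv (MvPolynomial.finSuccEquiv V n).toRingEquiv

theorem pic_mvPolynomial_subsingleton_of_valuationRing (V : Type u) [CommRing V] [IsDomain V]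
    [ValuationRing V] (n : ℕ) : Subsingleton (CommRing.Pic (MvPolynomial (Fin n) V)) := by
  haveI := isGCDMonoid_mvPolynomial_fin V n
  infer_instance

end GCD

section Factor

/-- A dual basis of an invertible module becomes a rank one factorisation after base change to a
ring with trivial Picard group. -/
theorem exists_rank_one_factorization {S T : Type u} [CommRing S] [CommRing T] (φ : S →+* T)
    [Subsingleton (CommRing.Pic T)]
    {M : Type u} [AddCommGroup M] [Module S M] [Module.Invertible S M]
    {N : ℕ} (m : Fin N → M) (s : Fin N → (M →ₗ[S] S)) (hms : ∀ x, ∑ k, s k x • m k = x) :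
    ∃ v w : Fin N → T, ∑ k, v k * w k = 1 ∧ ∀ j k, v j * w k = φ (s j (m k)) := by
  letI := φ.toAlgebra
  have hφ : ∀ c : S, algebraMap S T c = φ c := fun c => rfl
  obtain ⟨θ⟩ := (Module.Invertible.free_iff_linearEquiv (R := T) (M := T ⊗[S] M)).mp inferInstance
  have hg : ∀ y : T ⊗[S] M, θ y • θ.symm 1 = y := fun y => by
    apply θ.injective
    rw [map_smul, θ.apply_symm_apply, smul_eq_mul, mul_one]
  let s' : Fin N → (T ⊗[S] M →ₗ[T] T) := fun k =>
    ((Algebra.linearMap S T).comp (s k)).liftBaseChange T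
  have hs' : ∀ k (t : T) (x : M), s' k (t ⊗ₜ x) = t * φ (s k x) := by
    intro k t x
    show t • (Algebra.linearMap S T (s k x)) = _
    rw [smul_eq_mul, Algebra.linearMap_apply, hφ]
  have hdual : ∀ y : T ⊗[S] M, ∑ k, s' k y • ((1 : T) ⊗ₜ[S] m k) = y := by
    intro y
    induction y using TensorProduct.induction_on with
    | zero => simp
    | tmul t x =>
      have h1 : ∀ k, s' k (t ⊗ₜ x) • ((1 : T) ⊗ₜ[S] m k) = t ⊗ₜ[S] (s k x • m k) := by
        intro k
        rw [hs', TensorProduct.smul_tmul', smul_eq_mul, mul_one, TensorProduct.tmul_smul,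
          TensorProduct.smul_tmul', Algebra.smul_def, hφ, mul_comm]
      rw [Finset.sum_congr rfl (fun k _ => h1 k), ← TensorProduct.tmul_sum, hms]
    | add y z hy hz =>
      simp only [map_add, add_smul, Finset.sum_add_distrib, hy, hz]
  refine ⟨fun j => s' j (θ.symm 1), fun k => θ ((1 : T) ⊗ₜ[S] m k), ?_, ?_⟩
  · have h := congrArg θ (hdual (θ.symm 1))
    rw [map_sum, θ.apply_symm_apply] at h
    refine Eq.trans (Finset.sum_congr rfl (fun k _ => ?_)) h
    rw [map_smul, smul_eq_mul]
  · intro j k
    have h1 : s' j ((1 : T) ⊗ₜ[S] m k) = φ (s j (m k)) := by rw [hs', one_mul]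
    rw [← h1]
    conv_rhs => rw [← hg ((1 : T) ⊗ₜ[S] m k)]
    rw [map_smul, smul_eq_mul, mul_comm]

end Factor

section Assemble

variable {ι : Type u} (R : ι → Type u) [∀ i, CommRing (R i)] (n : ℕ)

theorem map_pi_injective {q q' : MvPolynomial (Fin n) (∀ i, R i)}
    (h : ∀ i, MvPolynomial.map (Pi.evalRingHom R i) q = MvPolynomial.map (Pi.evalRingHom R i) q') :
    q = q' := by
  ext b i
  have h1 := congrArg (MvPolynomial.coeff b) (h i)
  rwa [MvPolynomial.coeff_map, MvPolynomial.coeff_map] at h1

theorem totalDegree_map_le' {A B : Type*} [CommSemiring A] [CommSemiring B] (f : A →+* B)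
    (p : MvPolynomial (Fin n) A) : (MvPolynomial.map f p).totalDegree ≤ p.totalDegree :=
  Finset.sup_mono (MvPolynomial.support_map_subset f p)

theorem exists_assemble (d : ℕ) (p : ∀ i, MvPolynomial (Fin n) (R i))
    (hp : ∀ i, (p i).totalDegree ≤ d) :
    ∃ q : MvPolynomial (Fin n) (∀ i, R i), ∀ i, MvPolynomial.map (Pi.evalRingHom R i) q = p i := by
  classical
  let B : Finset (Fin n →₀ ℕ) := (Finsupp.finite_of_degree_le (σ := Fin n) d).toFinset
  refine ⟨∑ b ∈ B, MvPolynomial.monomial b (fun i => (p i).coeff b), fun i => ?_⟩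
  rw [map_sum]
  have h1 : ∀ b ∈ B, MvPolynomial.map (Pi.evalRingHom R i)
      (MvPolynomial.monomial b (fun i => (p i).coeff b)) =
      MvPolynomial.monomial b ((p i).coeff b) := by
    intro b _
    rw [MvPolynomial.map_monomial]
    rfl
  rw [Finset.sum_congr rfl h1]
  have hsub : (p i).support ⊆ B := by
    intro b hb
    rw [Set.Finite.mem_toFinset]
    show Finsupp.degree b ≤ d
    exact (MvPolynomial.le_totalDegree hb).trans (hp i)
  conv_rhs => rw [(p i).as_sum]
  symm
  refine Finset.sum_subset hsub (fun b _ hb => ?_)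
  rw [MvPolynomial.notMem_support_iff.mp hb, MvPolynomial.monomial_zero]

end Assemble

section Main

variable {ι : Type u} (R : ι → Type u) [∀ i, CommRing (R i)] [∀ i, IsDomain (R i)] (n : ℕ)

/-- The Picard group of `(∏ Rᵢ)[x₁, …, xₙ]` is trivial when every `Rᵢ[x₁, …, xₙ]` has trivial
Picard group (`Rᵢ` domains). -/
theorem pic_mvPolynomial_pi_subsingleton
    (hR : ∀ i, Subsingleton (CommRing.Pic (MvPolynomial (Fin n) (R i)))) :
    Subsingleton (CommRing.Pic (MvPolynomial (Fin n) (∀ i, R i))) := by
  classical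
  rw [CommRing.Pic.subsingleton_iff]
  intro M _ _ hM
  obtain ⟨N, p, s, -, -, hps⟩ :=
    Module.Finite.exists_comp_eq_id_of_projective (MvPolynomial (Fin n) (∀ i, R i)) M
  let m : Fin N → M := fun k => p (Pi.single k 1)
  let sk : Fin N → (M →ₗ[MvPolynomial (Fin n) (∀ i, R i)] MvPolynomial (Fin n) (∀ i, R i)) :=
    fun k => (LinearMap.proj k).comp s
  have hms : ∀ x, ∑ k, sk k x • m k = x := by
    intro x
    have h1 : s x = ∑ k, (s x k) • (Pi.single k 1 : Fin N → MvPolynomial (Fin n) (∀ i, R i)) := by
      ext j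
      simp [Finset.sum_apply, Pi.single_apply]
    calc ∑ k, sk k x • m k = p (∑ k, s x k • Pi.single k 1) := by
          rw [map_sum]
          refine Finset.sum_congr rfl (fun k _ => ?_)
          rw [map_smul]
          rfl
      _ = p (s x) := by rw [← h1]
      _ = x := LinearMap.congr_fun hps x
  have hfac : ∀ i, ∃ v w : Fin N → MvPolynomial (Fin n) (R i), ∑ k, v k * w k = 1 ∧
      ∀ j k, v j * w k = MvPolynomial.map (Pi.evalRingHom R i) (sk j (m k)) := fun i =>
    haveI := hR i
    exists_rank_one_factorization (MvPolynomial.map (Pi.evalRingHom R i)) m sk hms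
  choose v w hvw1 hvw2 using hfac
  let d : ℕ := Finset.univ.sup (fun jk : Fin N × Fin N => (sk jk.1 (m jk.2)).totalDegree)
  have hd : ∀ i j k, (MvPolynomial.map (Pi.evalRingHom R i) (sk j (m k))).totalDegree ≤ d := by
    intro i j k
    refine (totalDegree_map_le' n _ _).trans ?_
    exact Finset.le_sup (f := fun jk : Fin N × Fin N => (sk jk.1 (m jk.2)).totalDegree)
      (Finset.mem_univ (j, k))
  have hne : ∀ i, ∃ k₀, v i k₀ ≠ 0 ∧ w i k₀ ≠ 0 := by
    intro i
    by_contra hcon
    push Not at hcon
    have h0 : ∑ k, v i k * w i k = 0 := by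
      refine Finset.sum_eq_zero (fun k _ => ?_)
      by_cases hv : v i k = 0
      · rw [hv, zero_mul]
      · rw [hcon k hv, mul_zero]
    rw [hvw1 i] at h0
    exact one_ne_zero h0
  have hv : ∀ i j, (v i j).totalDegree ≤ d := by
    intro i j
    obtain ⟨k₀, -, hw0⟩ := hne i
    by_cases hvj : v i j = 0
    · rw [hvj, MvPolynomial.totalDegree_zero]
      exact Nat.zero_le _
    · have h1 := MvPolynomial.totalDegree_mul_of_isDomain hvj hw0
      have h2 := hd i j k₀
      rw [← hvw2 i j k₀, h1] at h2
      omega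
  have hw : ∀ i k, (w i k).totalDegree ≤ d := by
    intro i k
    obtain ⟨k₀, hv0, -⟩ := hne i
    by_cases hwk : w i k = 0
    · rw [hwk, MvPolynomial.totalDegree_zero]
      exact Nat.zero_le _
    · have h1 := MvPolynomial.totalDegree_mul_of_isDomain hv0 hwk
      have h2 := hd i k₀ k
      rw [← hvw2 i k₀ k, h1] at h2
      omega
  choose V hV using fun j => exists_assemble R n d (fun i => v i j) (fun i => hv i j)
  choose W hW using fun k => exists_assemble R n d (fun i => w i k) (fun i => hw i k)
  let f : M →ₗ[MvPolynomial (Fin n) (∀ i, R i)] MvPolynomial (Fin n) (∀ i, R i) :=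
    ∑ k, W k • sk k
  let x0 : M := ∑ j, V j • m j
  have hf : f x0 = 1 := by
    apply map_pi_injective R n
    intro i
    have h1 : f x0 = ∑ k, ∑ j, W k * (V j * sk k (m j)) := by
      show (∑ k, W k • sk k) (∑ j, V j • m j) = _
      rw [LinearMap.sum_apply]
      refine Finset.sum_congr rfl (fun k _ => ?_)
      rw [LinearMap.smul_apply, map_sum, smul_eq_mul, Finset.mul_sum]
      refine Finset.sum_congr rfl (fun j _ => ?_)
      rw [map_smul, smul_eq_mul]
    rw [h1, map_one, map_sum]
    have h2 : (1 : MvPolynomial (Fin n) (R i)) =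
        (∑ k, v i k * w i k) * (∑ j, v i j * w i j) := by rw [hvw1 i, one_mul]
    rw [h2, Finset.sum_mul_sum]
    refine Finset.sum_congr rfl (fun k _ => ?_)
    rw [map_sum]
    refine Finset.sum_congr rfl (fun j _ => ?_)
    rw [map_mul, map_mul, hW, hV, ← hvw2 i k j]
    ring
  have hsurj : Function.Surjective f := fun c =>
    ⟨c • x0, by rw [map_smul, hf, smul_eq_mul, mul_one]⟩
  have hbij := Module.Invertible.bijective_of_surjective hsurj
  exact Module.Free.of_equiv (LinearEquiv.ofBijective f hbij).symm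

end Main

end Groth.Agent.Lib.PicProdH4
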