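import Mathlib
import Groth.Prelude
import Groth.Agent.S15400
import Groth.Agent.Lib.PicLaw_helper8
import Groth.Agent.Lib.AdicPic2_helper7

/-!
# `n`-th roots in the Picard group over Artinian thickenings (helper8)
APPEND-ONLY once landed.
-/

set_option autoImplicit false
universe u
open CategoryTheory CategoryTheory.Limits AlgebraicGeometry Opposite TopologicalSpace

namespace Groth.Agent.Lib.PicRootH8

section Grp

variable {H1 H2 P P0 : Type*} [AddCommGroup H1] [AddCommGroup H2] [CommGroup P] [CommGroup P0]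
  (α : Multiplicative H1 →* P) (ρ : P →* P0) (δ : P0 →* Multiplicative H2)

include α δ in
theorem exists_root (h1 : ρ.ker = α.range) (h2 : δ.ker = ρ.range)
    (n : ℕ) (hdiv : ∀ x : H1, ∃ y : H1, n • y = x) (htf : ∀ x : H2, n • x = 0 → x = 0)
    (l : P) (c' : P0) (h : c' ^ n = ρ l) : ∃ m : P, m ^ n = l := by
  have hδ : δ c' = 1 := by
    have h3 : δ (c' ^ n) = 1 := by
      rw [h]
      have : ρ l ∈ δ.ker := by rw [h2]; exact ⟨l, rfl⟩
      exact this
    rw [map_pow] at h3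
    have h4 : n • Multiplicative.toAdd (δ c') = 0 := by
      have := congrArg Multiplicative.toAdd h3
      rwa [toAdd_pow, toAdd_one] at this
    have h5 := htf _ h4
    exact Multiplicative.toAdd.injective h5
  have hc' : c' ∈ ρ.range := by rw [← h2]; exact hδ
  obtain ⟨m₀, hm₀⟩ := hc'
  have h6 : l * (m₀ ^ n)⁻¹ ∈ ρ.ker := by
    rw [MonoidHom.mem_ker, map_mul, map_inv, map_pow, hm₀, ← h, mul_inv_cancel]
  rw [h1] at h6
  obtain ⟨x, hx⟩ := h6
  obtain ⟨y, hy⟩ := hdiv (Multiplicative.toAdd x)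
  have hxy : x = (Multiplicative.ofAdd y) ^ n := by
    apply Multiplicative.toAdd.injective
    rw [toAdd_pow, toAdd_ofAdd, hy]
  refine ⟨m₀ * α (Multiplicative.ofAdd y), ?_⟩
  rw [mul_pow, ← map_pow, ← hxy, hx, mul_comm l, ← mul_assoc, mul_inv_cancel, one_mul]

end Grp

section Geo

open Groth.Agent.Lib.PicLawH8

lemma pullHom_congr {X Y : Scheme.{u}} [PicGrp.Law X] [PicGrp.Law Y] {g g' : X ⟶ Y} (h : g = g')
    (hg : PicGrp.PullMul g) (hg' : PicGrp.PullMul g') (c : PicLoc.PicSet Y) :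
    PicGrp.pullHom g hg c = PicGrp.pullHom g' hg' c := by
  subst h
  rfl

/-- pullback of Picard classes along an isomorphism is bijective -/
lemma bijective_pullHom_of_isIso {X Y : Scheme.{u}} [PicGrp.Law X] [PicGrp.Law Y] (τ : X ⟶ Y)
    [IsIso τ] : Function.Bijective (PicGrp.pullHom τ (pullMul τ)) := by
  constructor
  · intro c c' h
    have h1 := congrArg (PicGrp.pullHom (inv τ) (pullMul (inv τ))) h
    rw [← PicGrp.pullHom_comp_apply (inv τ) τ _ _ (pullMul _),
      ← PicGrp.pullHom_comp_apply (inv τ) τ _ _ (pullMul _),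
      pullHom_congr (IsIso.inv_hom_id τ) _ (pullMul _), PicGrp.pullHom_id_apply,
      pullHom_congr (IsIso.inv_hom_id τ) _ (pullMul _), PicGrp.pullHom_id_apply] at h1
    exact h1
  · intro c
    refine ⟨PicGrp.pullHom (inv τ) (pullMul (inv τ)) c, ?_⟩
    rw [← PicGrp.pullHom_comp_apply τ (inv τ) _ _ (pullMul _),
      pullHom_congr (IsIso.hom_inv_id τ) _ (pullMul _), PicGrp.pullHom_id_apply]

end Geo

section Main

open Groth.Agent.Lib.PicLawH8 Groth.Agent.Lib.FormalFnH2

lemma isUnit_natCast_of_residue_ne_zero (A : Type u) [CommRing A] [IsLocalRing A] (n : ℕ)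
    (hn : (n : IsLocalRing.ResidueField A) ≠ 0) : IsUnit (n : A) := by
  by_contra h
  have h1 : (n : A) ∈ IsLocalRing.maximalIdeal A := h
  have h2 : IsLocalRing.residue A (n : A) = 0 := (IsLocalRing.residue_eq_zero_iff _).2 h1
  rw [map_natCast] at h2
  exact hn h2

/-- cohomology of an `O_X`-module is uniquely `n`-divisible if `n` is a unit of `Γ(X, O_X)` -/
lemma nsmul_bijective_HH {X : Scheme.{u}} (M : X.Modules) (j : ℕ) (n : ℕ)
    (hu : IsUnit (n : Coh.Γtop X)) :
    (∀ x : Coh.HH X M j, ∃ y : Coh.HH X M j, n • y = x) ∧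
      (∀ x : Coh.HH X M j, n • x = 0 → x = 0) := by
  obtain ⟨u, hu'⟩ := hu
  constructor
  · intro x
    refine ⟨(↑u⁻¹ : Coh.Γtop X) • x, ?_⟩
    rw [← Nat.cast_smul_eq_nsmul (Coh.Γtop X) n, ← hu', smul_smul, Units.mul_inv, one_smul]
  · intro x hx
    rw [← Nat.cast_smul_eq_nsmul (Coh.Γtop X) n, ← hu'] at hx
    have h1 := congrArg (fun z => (↑u⁻¹ : Coh.Γtop X) • z) hx
    simp only [smul_smul, Units.inv_mul, one_smul, smul_zero] at h1
    exact h1

theorem exists_root_of_thickening (A : Type u) [CommRing A] [IsLocalRing A]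
    (ν : ℕ) (hν : 1 ≤ ν) (hm : IsLocalRing.maximalIdeal A ^ (ν + 1) = ⊥)
    (X : Scheme.{u}) (f : X ⟶ Spec (CommRingCat.of A))
    (n : ℕ) (hn : (n : IsLocalRing.ResidueField A) ≠ 0)
    (L : X.Modules) (hL : PicF.IsInvertible L)
    (L' : (pullback f (Spec.map (CommRingCat.ofHom
      (Ideal.Quotient.mk (IsLocalRing.maximalIdeal A ^ ν))))).Modules)
    (hL' : PicF.IsInvertible L')
    (hroot : Nonempty (CohB1.tensorPow L' n ≅
      (Scheme.Modules.pullback (pullback.fst f (Spec.map (CommRingCat.ofHom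
        (Ideal.Quotient.mk (IsLocalRing.maximalIdeal A ^ ν)))))).obj L)) :
    ∃ M : X.Modules, PicF.IsInvertible M ∧ Nonempty (CohB1.tensorPow M n ≅ L) := by
  letI : X.Over (Spec (CommRingCat.of A)) := ⟨f⟩
  have H : IsPullback (pullback.fst f (Spec.map (CommRingCat.ofHom
        (Ideal.Quotient.mk (IsLocalRing.maximalIdeal A ^ ν)))))
      (pullback.snd f (Spec.map (CommRingCat.ofHom
        (Ideal.Quotient.mk (IsLocalRing.maximalIdeal A ^ ν)))))
      (X ↘ Spec (CommRingCat.of A))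
      (Spec.map (CommRingCat.ofHom (Ideal.Quotient.mk (IsLocalRing.maximalIdeal A ^ ν)))) :=
    IsPullback.of_hasPullback f _
  haveI hcl : IsClosedImmersion (pullback.fst f (Spec.map (CommRingCat.ofHom
      (Ideal.Quotient.mk (IsLocalRing.maximalIdeal A ^ ν))))) :=
    Groth.Agent.Lib.AdicPicH7.isClosedImmersion_of_isPullback
      (Ideal.Quotient.mk (IsLocalRing.maximalIdeal A ^ ν)) Ideal.Quotient.mk_surjective _ _ H
  obtain ⟨i', hi'⟩ : ∃ i', i' = pullback.fst f (Spec.map (CommRingCat.ofHom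
      (Ideal.Quotient.mk (IsLocalRing.maximalIdeal A ^ ν)))) := ⟨_, rfl⟩
  rw [← hi'] at hroot H hcl
  have hJ : ∀ (U : X.Opens) (hU : IsAffineOpen U),
      i'.ker.ideal ⟨U, hU⟩ =
        Ideal.map (rUHom (A := A) U) (IsLocalRing.maximalIdeal A ^ ν) := by
    intro U hU
    have h := Groth.Agent.Lib.AdicPicH7.ker_ideal_eq_map
      (Ideal.Quotient.mk (IsLocalRing.maximalIdeal A ^ ν)) Ideal.Quotient.mk_surjective i' _ H U hU
    rwa [Ideal.mk_ker] at h
  have hJJ : i'.ker * i'.ker = ⊥ :=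
    Groth.Agent.Lib.AdicPicH7.mul_self_eq_bot i'.ker (IsLocalRing.maximalIdeal A) ν hν hm hJ
  letI : PicGrp.Law X := picLaw X
  letI : PicGrp.Law i'.ker.subscheme := picLaw _
  letI : PicGrp.Law (pullback f (Spec.map (CommRingCat.ofHom
      (Ideal.Quotient.mk (IsLocalRing.maximalIdeal A ^ ν))))) := picLaw _
  obtain ⟨ε, δ₀, α, δ₁, -, -, -, -, h5, h6⟩ :=
    Groth.Agent.S15400.result X i'.ker hJJ (pullMul _)
  have hu : IsUnit (n : Coh.Γtop X) := by
    have h1 := (isUnit_natCast_of_residue_ne_zero A n hn).map (Coh.toGlobal f)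
    rwa [map_natCast] at h1
  obtain ⟨hdiv, -⟩ := nsmul_bijective_HH (ClSub.idealMod i'.ker) 1 n hu
  obtain ⟨-, htf⟩ := nsmul_bijective_HH (ClSub.idealMod i'.ker) 2 n hu
  -- transport `L'` to the image
  have hτ : i'.toImage ≫ i'.ker.subschemeι = i' := i'.toImage_imageι
  obtain ⟨c', hc'⟩ := (bijective_pullHom_of_isIso i'.toImage).2 (PicGrp.cls L' hL')
  have hpow : c' ^ n = PicGrp.pullHom i'.ker.subschemeι (pullMul _) (PicGrp.cls L hL) := by
    apply (bijective_pullHom_of_isIso i'.toImage).1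
    rw [map_pow, hc', ← PicGrp.pullHom_comp_apply i'.toImage i'.ker.subschemeι _ _ (pullMul _),
      pullHom_congr hτ _ (pullMul _), PicGrp.pullHom_cls]
    apply Subtype.ext
    rw [PicGrp.cls_pow_val, PicGrp.cls_val, PicGrp.cl_eq_cl_iff]
    exact hroot
  obtain ⟨m, hmn⟩ := exists_root α (PicGrp.pullHom i'.ker.subschemeι (pullMul _)) δ₁ h5 h6 n hdiv htf
    (PicGrp.cls L hL) c' hpow
  obtain ⟨M, hM, rfl⟩ := PicGrp.exists_eq_cls m
  refine ⟨M, hM, ?_⟩
  have h7 := congrArg Subtype.val hmn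
  rw [PicGrp.cls_pow_val, PicGrp.cls_val, PicGrp.cl_eq_cl_iff] at h7
  exact h7

end Main

end Groth.Agent.Lib.PicRootH8
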