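import Mathlib

/-! Surjectivity of `Pic R → Pic S` for a surjection `R → S` fitting in a Milnor-type square with
semilocal intersection (helper1).  APPEND-ONLY once landed. -/

set_option autoImplicit false
universe u

open TensorProduct

namespace Groth.Agent.Lib.PicSurjH1

section Criterion

variable {R : Type u} [CommRing R] {M : Type u} [AddCommGroup M] [Module R M]

theorem smul_eq_tmul_of_split (f : R) (φ : R →ₗ[R] M) (ψ : M →ₗ[R] R)
    (h2 : ∀ x, φ (ψ x) = f • x) (t : Module.Dual R M ⊗[R] M) :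
    f • t = (TensorProduct.rid R (Module.Dual R M)
      (LinearMap.lTensor (Module.Dual R M) ψ t)) ⊗ₜ[R] φ 1 := by
  induction t using TensorProduct.induction_on with
  | zero => simp
  | tmul l m =>
    have e1 : ψ m • φ 1 = f • m := by
      rw [← map_smul, smul_eq_mul, mul_one, h2]
    rw [LinearMap.lTensor_tmul, TensorProduct.rid_tmul, TensorProduct.smul_tmul, e1,
      TensorProduct.tmul_smul]
  | add x y hx hy => rw [smul_add, hx, hy, map_add, map_add, TensorProduct.add_tmul]

/-- A module which is, near every maximal ideal, "isomorphic to `R` up to a unit `f`" is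
invertible. -/
theorem invertible_of_local_split
    (h : ∀ m : Ideal R, m.IsMaximal → ∃ (f : R) (φ : R →ₗ[R] M) (ψ : M →ₗ[R] R), f ∉ m ∧
        (∀ r, ψ (φ r) = f * r) ∧ (∀ x, φ (ψ x) = f • x)) :
    Module.Invertible R M := by
  let s : Set R := {f | ∃ (φ : R →ₗ[R] M) (ψ : M →ₗ[R] R),
    (∀ r, ψ (φ r) = f * r) ∧ (∀ x, φ (ψ x) = f • x)}
  have hs : Ideal.span s = ⊤ := by
    by_contra hne
    obtain ⟨m, hm, hsm⟩ := Ideal.exists_le_maximal _ hne
    obtain ⟨f, φ, ψ, hf, h1, h2⟩ := h m hm
    exact hf (hsm (Ideal.subset_span ⟨φ, ψ, h1, h2⟩))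
  refine ⟨⟨?_, ?_⟩⟩
  · rw [injective_iff_map_eq_zero]
    intro t ht
    have key : ∀ f ∈ s, (f ^ 2) • t = 0 := by
      rintro f ⟨φ, ψ, h1, h2⟩
      obtain ⟨Λ, hΛ⟩ : ∃ Λ : Module.Dual R M, Λ = TensorProduct.rid R (Module.Dual R M)
          (LinearMap.lTensor (Module.Dual R M) ψ t) := ⟨_, rfl⟩
      have e1 : f • t = Λ ⊗ₜ[R] φ 1 := by
        rw [hΛ]; exact smul_eq_tmul_of_split f φ ψ h2 t
      have e2 : Λ (φ 1) = 0 := by
        have h3 := congrArg (contractLeft R M) e1
        rw [map_smul, ht, smul_zero, contractLeft_apply] at h3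
        exact h3.symm
      have e3 : f • Λ = 0 := by
        ext x
        rw [LinearMap.smul_apply, LinearMap.zero_apply, smul_eq_mul]
        have h4 : f * Λ x = Λ (f • x) := by rw [map_smul, smul_eq_mul]
        have h5 : φ (ψ x) = ψ x • φ 1 := by rw [← map_smul, smul_eq_mul, mul_one]
        rw [h4, ← h2, h5, map_smul, e2, smul_zero]
      rw [pow_two, mul_smul, e1, TensorProduct.smul_tmul', e3, TensorProduct.zero_tmul]
    have hann : Ideal.span ((fun x => x ^ 2) '' s) ≤
        LinearMap.ker (LinearMap.toSpanSingleton R _ t) := by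
      rw [Ideal.span_le]
      rintro _ ⟨f, hf, rfl⟩
      simp only [SetLike.mem_coe, LinearMap.mem_ker, LinearMap.toSpanSingleton_apply]
      exact key f hf
    have h1 : (1 : R) ∈ LinearMap.ker (LinearMap.toSpanSingleton R _ t) := by
      apply hann
      rw [Ideal.span_pow_eq_top s hs 2]
      trivial
    simpa using h1
  · have hle : Ideal.span s ≤ LinearMap.range (contractLeft R M) := by
      rw [Ideal.span_le]
      rintro f ⟨φ, ψ, h1, h2⟩
      refine ⟨ψ ⊗ₜ[R] φ 1, ?_⟩
      rw [contractLeft_apply, h1, mul_one]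
    rw [← LinearMap.range_eq_top, eq_top_iff, ← hs]
    exact hle

end Criterion

section Lift

variable (R : Type u) {S : Type u} [CommRing R] [CommRing S] [Algebra R S]
variable {N : Type u} [AddCommGroup N] [Module S N] [Module R N] [IsScalarTower R S N]

omit [Module R N] [IsScalarTower R S N] [Algebra R S] in
theorem rank_one [Module.Invertible S N] (l : N →ₗ[S] S) (x y : N) : l x • y = l y • x := by
  have h := congrArg (TensorProduct.lift ((LinearMap.lsmul S N).comp l))
    (Module.Invertible.tmul_comm (R := S) (m₁ := x) (m₂ := y))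
  simpa using h

/-- The fibre product of `ε : N → S` and `R → S`, as an `R`-module. -/
def fib (ε : N →ₗ[S] S) : Submodule R (N × R) where
  carrier := {x | ε x.1 = algebraMap R S x.2}
  add_mem' := by
    intro a b ha hb
    simp only [Set.mem_ofPred_eq] at ha hb ⊢
    rw [Prod.fst_add, Prod.snd_add, map_add, map_add, ha, hb]
  zero_mem' := by simp
  smul_mem' := by
    intro r x hx
    simp only [Set.mem_ofPred_eq] at hx ⊢
    rw [Prod.smul_fst, Prod.smul_snd, smul_eq_mul, map_mul, ← hx, ← algebraMap_smul S r x.1,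
      map_smul, smul_eq_mul]

variable {R}

theorem exists_eps (hsurj : Function.Surjective (algebraMap R S)) (I' : Ideal R)
    (c : Ideal S) (hc : ∀ s ∈ c, ∃ ζ ∈ I', algebraMap R S ζ = s)
    [Finite (MaximalSpectrum (S ⧸ c))] [Module.Invertible S N] :
    ∃ (ε : N →ₗ[S] S) (n₀ : N) (ζ : R), ζ ∈ I' ∧ ε n₀ = 1 - algebraMap R S ζ := by
  haveI : Module.Free (S ⧸ c) ((S ⧸ c) ⊗[S] N) := inferInstance
  obtain ⟨e⟩ := (Module.Invertible.free_iff_linearEquiv (R := S ⧸ c)
    (M := (S ⧸ c) ⊗[S] N)).mp inferInstance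
  let εbar : N →ₗ[S] (S ⧸ c) :=
    ((e : (S ⧸ c) ⊗[S] N →ₗ[S ⧸ c] (S ⧸ c)).restrictScalars S).comp
      (TensorProduct.mk S (S ⧸ c) N 1)
  have hmk : Function.Surjective (Algebra.linearMap S (S ⧸ c)) := Ideal.Quotient.mk_surjective
  obtain ⟨ε, hε⟩ := Module.projective_lifting_property (Algebra.linearMap S (S ⧸ c)) εbar hmk
  obtain ⟨n₀, hn₀⟩ := TensorProduct.mk_surjective S N (S ⧸ c)
    (Ideal.Quotient.mk_surjective (I := c)) (e.symm 1)
  have h1 : Ideal.Quotient.mk c (ε n₀) = 1 := by
    have h2 := LinearMap.congr_fun hε n₀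
    have h3 : εbar n₀ = 1 := by
      show e (TensorProduct.mk S (S ⧸ c) N 1 n₀) = 1
      rw [hn₀, e.apply_symm_apply]
    rw [h3] at h2
    exact h2
  have h2 : ε n₀ - 1 ∈ c := by
    rw [← Ideal.Quotient.eq, h1, map_one]
  obtain ⟨z, hz, hz'⟩ := hc _ h2
  refine ⟨ε, n₀, -z, I'.neg_mem hz, ?_⟩
  rw [map_neg, hz']; ring

theorem exists_lift (hsurj : Function.Surjective (algebraMap R S)) (I' : Ideal R)
    (hII' : ∀ a : R, algebraMap R S a = 0 → ∀ b ∈ I', a * b = 0)
    (c : Ideal S) (hc : ∀ s ∈ c, ∃ ζ ∈ I', algebraMap R S ζ = s)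
    [Finite (MaximalSpectrum (S ⧸ c))] [Module.Invertible S N] :
    ∃ (P : Submodule R (N × R)), Module.Invertible R P ∧ Nonempty (S ⊗[R] P ≃ₗ[S] N) := by
  obtain ⟨ε, n₀, ζ, hζ, hn₀⟩ := exists_eps (N := N) hsurj I' c hc
  have key : ∀ a b : R, algebraMap R S a = algebraMap R S b → ζ * a = ζ * b := by
    intro a b hab
    have h0 : algebraMap R S (a - b) = 0 := by rw [map_sub, hab, sub_self]
    have h1 := hII' (a - b) h0 ζ hζ
    linear_combination h1
  have hsm : ∀ (r : R) (n : N), r • n = algebraMap R S r • n :=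
    fun r n => (algebraMap_smul S r n).symm
  obtain ⟨γ, hγ⟩ : ∃ γ : R, γ = 1 - ζ := ⟨_, rfl⟩
  have hγmap : algebraMap R S γ = ε n₀ := by rw [hγ, map_sub, map_one, hn₀]
  let p₀ : fib R ε := ⟨(n₀, γ), hγmap.symm⟩
  let pr₁ : fib R ε →ₗ[R] N := (LinearMap.fst R N R).comp (fib R ε).subtype
  let pr₂ : fib R ε →ₗ[R] R := (LinearMap.snd R N R).comp (fib R ε).subtype
  have hP : ∀ x : fib R ε, ε (x : N × R).1 = algebraMap R S (x : N × R).2 := fun x => x.2
  have hinv : Module.Invertible R (fib R ε) := by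
    apply invertible_of_local_split
    intro m hm
    by_cases hγm : γ ∈ m
    · have hζm : ζ ∉ m := by
        intro h
        apply hm.ne_top
        rw [Ideal.eq_top_iff_one]
        have h1 : (1 : R) = γ + ζ := by rw [hγ]; ring
        rw [h1]; exact m.add_mem hγm h
      have hker : ∀ a : R, algebraMap R S a = 0 → a ∈ m := by
        intro a ha
        have h0 := hII' a ha ζ hζ
        have h1 : a * ζ ∈ m := by rw [h0]; exact m.zero_mem
        rcases hm.isPrime.mem_or_mem h1 with h | h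
        · exact h
        · exact absurd h hζm
      obtain ⟨τ, l, ν, hτ, hlν⟩ : ∃ (τ : R) (l : N →ₗ[S] S) (ν : N),
          τ ∉ m ∧ l ν = algebraMap R S τ := by
        by_contra hcon
        have hall : ∀ u : Module.Dual S N ⊗[S] N,
            contractLeft S N u ∈ m.map (algebraMap R S) := by
          intro u
          induction u using TensorProduct.induction_on with
          | zero => simp
          | tmul l ν =>
            rw [contractLeft_apply]
            obtain ⟨τ, hτ⟩ := hsurj (l ν)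
            have h1 : τ ∈ m := by
              by_contra h
              exact hcon ⟨τ, l, ν, h, hτ.symm⟩
            rw [← hτ]; exact Ideal.mem_map_of_mem _ h1
          | add x y hx hy => rw [map_add]; exact Ideal.add_mem _ hx hy
        obtain ⟨u, hu⟩ := (Module.Invertible.bijective (R := S) (M := N)).2 1
        have h1 : (1 : S) ∈ m.map (algebraMap R S) := hu ▸ hall u
        obtain ⟨x, hx, hx1⟩ := (Ideal.mem_map_iff_of_surjective _ hsurj).mp h1
        have h2 : x - 1 ∈ m := hker _ (by rw [map_sub, hx1, map_one, sub_self])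
        apply hm.ne_top
        rw [Ideal.eq_top_iff_one]
        have e : (1 : R) = x - (x - 1) := by ring
        rw [e]; exact m.sub_mem hx h2
      obtain ⟨ρ, hρ⟩ := hsurj (ε ν)
      let p₁ : fib R ε := ⟨(ν, ρ), hρ.symm⟩
      have hσ : ∀ s, algebraMap R S (Function.surjInv hsurj s) = s := Function.surjInv_eq hsurj
      let θ : S →ₗ[R] R :=
        { toFun := fun s => ζ * Function.surjInv hsurj s
          map_add' := by
            intro s s'
            rw [← mul_add]
            apply key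
            rw [hσ, map_add, hσ, hσ]
          map_smul' := by
            intro r s
            rw [RingHom.id_apply, smul_eq_mul, ← mul_assoc, mul_comm r ζ, mul_assoc]
            apply key
            rw [hσ, map_mul, hσ, Algebra.smul_def] }
      have hθ : ∀ s, θ s = ζ * Function.surjInv hsurj s := fun s => rfl
      refine ⟨ζ * τ, LinearMap.toSpanSingleton R (fib R ε) p₁,
        θ.comp ((l.restrictScalars R).comp pr₁), ?_, ?_, ?_⟩
      · intro h
        rcases hm.isPrime.mem_or_mem h with h | h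
        · exact hζm h
        · exact hτ h
      · intro r
        show θ (l ((r • p₁ : fib R ε) : N × R).1) = ζ * τ * r
        rw [hθ, mul_assoc]
        apply key
        rw [hσ]
        show l (r • ν) = _
        rw [hsm, map_smul, smul_eq_mul, hlν, map_mul]
        ring
      · intro x
        apply Subtype.ext
        show (θ (l (x : N × R).1)) • ((ν, ρ) : N × R) = (ζ * τ) • (x : N × R)
        rw [hθ]
        apply Prod.ext
        · show (ζ * Function.surjInv hsurj (l (x : N × R).1)) • ν = (ζ * τ) • (x : N × R).1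
          rw [hsm, hsm, map_mul, map_mul, hσ, mul_smul, mul_smul, rank_one l _ ν, hlν]
        · show (ζ * Function.surjInv hsurj (l (x : N × R).1)) * ρ = (ζ * τ) * (x : N × R).2
          rw [mul_assoc, mul_assoc]
          apply key
          rw [map_mul, map_mul, hσ, hρ, ← hlν, ← hP x]
          have h1 := congrArg ε (rank_one l (x : N × R).1 ν)
          rw [map_smul, map_smul, smul_eq_mul, smul_eq_mul] at h1
          exact h1
    · refine ⟨γ, LinearMap.toSpanSingleton R (fib R ε) p₀, pr₂, hγm, ?_, ?_⟩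
      · intro r
        show r * γ = γ * r
        ring
      · intro x
        apply Subtype.ext
        show (x : N × R).2 • ((n₀, γ) : N × R) = γ • (x : N × R)
        apply Prod.ext
        · show (x : N × R).2 • n₀ = γ • (x : N × R).1
          rw [hsm, hsm, ← hP x, hγmap, rank_one ε]
        · show (x : N × R).2 * γ = γ * (x : N × R).2
          ring
  refine ⟨fib R ε, hinv, ?_⟩
  haveI := hinv
  have hΦ : Function.Surjective (LinearMap.liftBaseChange S pr₁) := by
    intro n
    obtain ⟨r, hr⟩ := hsurj (ε n)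
    refine ⟨1 ⊗ₜ ⟨(n, r), hr.symm⟩, ?_⟩
    rw [LinearMap.liftBaseChange_tmul, one_smul]
    rfl
  exact ⟨LinearEquiv.ofBijective (LinearMap.liftBaseChange S pr₁)
    (Module.Invertible.bijective_of_surjective hΦ)⟩

omit [Module R N] [IsScalarTower R S N] [AddCommGroup N] [Module S N] in
/-- **Surjectivity of `Pic R → Pic S`** for a surjection `R → S` with kernel `I`, given an ideal
`I'` with `I · I' = 0` and an ideal `c ⊆ image of I'` of `S` with `S ⧸ c` semilocal. -/
theorem mapAlgebra_surjective (hsurj : Function.Surjective (algebraMap R S)) (I' : Ideal R)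
    (hII' : ∀ a : R, algebraMap R S a = 0 → ∀ b ∈ I', a * b = 0)
    (c : Ideal S) (hc : ∀ s ∈ c, ∃ ζ ∈ I', algebraMap R S ζ = s)
    [Finite (MaximalSpectrum (S ⧸ c))] :
    Function.Surjective (CommRing.Pic.mapAlgebra R S) := by
  intro Nc
  letI : Module R Nc := Module.compHom Nc (algebraMap R S)
  haveI : IsScalarTower R S Nc := IsScalarTower.of_algebraMap_smul fun r x => rfl
  obtain ⟨P, hinv, ⟨e⟩⟩ := exists_lift (N := Nc) hsurj I' hII' c hc
  haveI := hinv
  refine ⟨CommRing.Pic.mk R P, ?_⟩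
  rw [CommRing.Pic.mapAlgebra_apply, CommRing.Pic.mk_eq_iff]
  exact ⟨(TensorProduct.AlgebraTensorModule.congr (LinearEquiv.refl S S)
    (CommRing.Pic.mk.linearEquiv R P)) ≪≫ₗ e⟩

end Lift

section Quot

/-- Quotient version: `A/I_w → A/I_v` with a complementary ideal `I_u`. -/
theorem pic_factor_surjective {A : Type u} [CommRing A] (Iw Iv Iu : Ideal A) (hle : Iw ≤ Iv)
    (h1 : Iv ⊓ Iu ≤ Iw) [Module.Finite ℤ (A ⧸ Iv)] (Nn : ℤ) (hN : Nn ≠ 0)
    (h3 : (Nn : A) ∈ Iv ⊔ Iu) :
    Function.Surjective (CommRing.Pic.mapRingHom (Ideal.Quotient.factor hle)) := by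
  letI : Algebra (A ⧸ Iw) (A ⧸ Iv) := (Ideal.Quotient.factor hle).toAlgebra
  show Function.Surjective (CommRing.Pic.mapAlgebra (A ⧸ Iw) (A ⧸ Iv))
  have halg : ∀ x : A, algebraMap (A ⧸ Iw) (A ⧸ Iv) (Ideal.Quotient.mk Iw x) =
      Ideal.Quotient.mk Iv x := fun x => rfl
  have hsurj : Function.Surjective (algebraMap (A ⧸ Iw) (A ⧸ Iv)) :=
    Ideal.Quotient.factor_surjective hle
  obtain ⟨c, hcdef⟩ : ∃ c : Ideal (A ⧸ Iv), c = Ideal.span {((Nn : ℤ) : A ⧸ Iv)} := ⟨_, rfl⟩
  haveI : Finite ((A ⧸ Iv) ⧸ c) := by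
    haveI : Module.Finite ℤ ((A ⧸ Iv) ⧸ c) :=
      Module.Finite.of_surjective (Ideal.Quotient.mkₐ ℤ c).toLinearMap
        (Ideal.Quotient.mkₐ_surjective ℤ c)
    apply Module.finite_of_fg_torsion
    intro x
    refine ⟨⟨Nn, mem_nonZeroDivisors_of_ne_zero hN⟩, ?_⟩
    obtain ⟨y, rfl⟩ := Ideal.Quotient.mk_surjective x
    show Nn • Ideal.Quotient.mk c y = 0
    rw [← map_zsmul, Ideal.Quotient.eq_zero_iff_mem, zsmul_eq_mul, hcdef]
    exact Ideal.mul_mem_right _ _ (Ideal.subset_span rfl)
  haveI : Finite (MaximalSpectrum ((A ⧸ Iv) ⧸ c)) :=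
    Finite.of_injective (fun m : MaximalSpectrum ((A ⧸ Iv) ⧸ c) =>
      (m.asIdeal : Set ((A ⧸ Iv) ⧸ c)))
      (fun a b hab => MaximalSpectrum.ext (SetLike.coe_injective hab))
  refine mapAlgebra_surjective hsurj (Iu.map (Ideal.Quotient.mk Iw)) ?_ c ?_
  · intro a ha b hb
    obtain ⟨x, rfl⟩ := Ideal.Quotient.mk_surjective a
    obtain ⟨y, hy, rfl⟩ := (Ideal.mem_map_iff_of_surjective _ Ideal.Quotient.mk_surjective).mp hb
    rw [halg, Ideal.Quotient.eq_zero_iff_mem] at ha
    rw [← map_mul, Ideal.Quotient.eq_zero_iff_mem]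
    exact h1 ⟨Iv.mul_mem_right _ ha, Iu.mul_mem_left _ hy⟩
  · intro s hs
    rw [hcdef] at hs
    obtain ⟨t, rfl⟩ := Ideal.mem_span_singleton'.mp hs
    obtain ⟨x, rfl⟩ := Ideal.Quotient.mk_surjective t
    obtain ⟨v, hv, w, hw, hvw⟩ := Submodule.mem_sup.mp h3
    refine ⟨Ideal.Quotient.mk Iw (x * w), Ideal.mem_map_of_mem _ (Iu.mul_mem_left _ hw), ?_⟩
    have h4 : Ideal.Quotient.mk Iv w = ((Nn : ℤ) : A ⧸ Iv) := by
      have h5 : Ideal.Quotient.mk Iv ((Nn : ℤ) : A) = Ideal.Quotient.mk Iv w := by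
        rw [← hvw, map_add, Ideal.Quotient.eq_zero_iff_mem.mpr hv, zero_add]
      rw [← h5, map_intCast]
    rw [halg, map_mul, h4]

end Quot

end Groth.Agent.Lib.PicSurjH1
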