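import Mathlib
import Groth.Agent.Lib.PicSurj1_helper1

/-! Application of `PicSurj1_helper1` to minimal central orders of Weil numbers (S17999, helper1).
APPEND-ONLY once landed. -/

set_option autoImplicit false
universe u

namespace Groth.Agent.Lib.PicSurjH1

section FE

open Polynomial

/-- functional equation of a monic integer polynomial with simple complex roots, all of absolute
value `√Q` -/
theorem fe (P : ℤ[X]) (hmon : P.Monic) (Q : ℕ)
    (hnodup : (P.map (Int.castRingHom ℂ)).roots.Nodup)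
    (habs : ∀ z ∈ (P.map (Int.castRingHom ℂ)).roots, ‖z‖ = Real.sqrt (Q : ℝ)) :
    ∀ k ≤ P.natDegree,
      P.coeff (P.natDegree - k) * (Q : ℤ) ^ (P.natDegree - k) = P.coeff 0 * P.coeff k := by
  classical
  set f : ℤ →+* ℂ := Int.castRingHom ℂ with hf
  set Pc : ℂ[X] := P.map f with hPc
  have hPcmon : Pc.Monic := hmon.map f
  have hPc0 : Pc ≠ 0 := hPcmon.ne_zero
  have hsplit : Pc.Splits := IsAlgClosed.splits Pc
  set s := Pc.roots with hs
  set m := P.natDegree with hm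
  have hdeg : Pc.natDegree = m := hmon.natDegree_map f
  have hcard : s.card = m := by rw [← hdeg]; exact (hsplit.natDegree_eq_card_roots).symm
  let S : Finset ℂ := ⟨s, hnodup⟩
  have hSmem : ∀ z, z ∈ S ↔ Pc.eval z = 0 := by
    intro z
    rw [Finset.mem_mk, hs, mem_roots hPc0, IsRoot]
  have hScard : S.card = m := hcard
  have hconj_root : ∀ z, Pc.eval z = 0 → Pc.eval (starRingEnd ℂ z) = 0 := by
    intro z hz
    rw [hPc, eval_map] at hz ⊢
    have h1 := hom_eval₂ P f (starRingEnd ℂ) z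
    have h2 : (starRingEnd ℂ).comp f = f := RingHom.ext_int _ _
    rw [h2, hz, map_zero] at h1
    exact h1.symm
  have hSabs : ∀ z ∈ S, ‖z‖ = Real.sqrt (Q : ℝ) := fun z hz => habs z (Finset.mem_mk.mp hz)
  have hQr : (0 : ℝ) ≤ (Q : ℝ) := Nat.cast_nonneg Q
  have hzconj : ∀ z ∈ S, z * starRingEnd ℂ z = (Q : ℂ) := by
    intro z hz
    rw [Complex.mul_conj', hSabs z hz]
    have : (Real.sqrt (Q : ℝ)) ^ 2 = (Q : ℝ) := Real.sq_sqrt hQr
    exact_mod_cast this
  set a : ℕ → ℂ := fun j => f (P.coeff j) with ha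
  have hPceval : ∀ w : ℂ, Pc.eval w = ∑ j ∈ Finset.range (m + 1), a j * w ^ j := by
    intro w
    rw [eval_eq_sum_range, hdeg]
    apply Finset.sum_congr rfl
    intro j _
    rw [hPc, coeff_map]
  set R : ℂ[X] := ∑ i ∈ Finset.range (m + 1), C (a (m - i) * (Q : ℂ) ^ (m - i)) * X ^ i with hR
  have hRcoeff : ∀ k, R.coeff k = if k ≤ m then a (m - k) * (Q : ℂ) ^ (m - k) else 0 := by
    intro k
    rw [hR, finset_sum_coeff]
    simp only [coeff_C_mul_X_pow]
    rw [Finset.sum_ite_eq]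
    simp only [Finset.mem_range, Nat.lt_succ_iff]
  have hReval : ∀ z ∈ S, R.eval z = 0 := by
    intro z hz
    set w := starRingEnd ℂ z with hw
    have hzw : z * w = (Q : ℂ) := hzconj z hz
    have hw0 : Pc.eval w = 0 := hconj_root z ((hSmem z).mp hz)
    rw [hR, eval_finset_sum]
    simp only [eval_mul, eval_C, eval_pow, eval_X]
    rw [← Finset.sum_flip]
    have : ∀ j ∈ Finset.range (m + 1),
        a (m - (m - j)) * (Q : ℂ) ^ (m - (m - j)) * z ^ (m - j) = z ^ m * (a j * w ^ j) := by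
      intro j hj
      have hj' : j ≤ m := Nat.lt_succ_iff.mp (Finset.mem_range.mp hj)
      rw [Nat.sub_sub_self hj', ← hzw, mul_pow]
      have : z ^ m = z ^ j * z ^ (m - j) := by rw [← pow_add]; congr 1; omega
      rw [this]; ring
    rw [Finset.sum_congr rfl this, ← Finset.mul_sum, ← hPceval w, hw0, mul_zero]
  set D : ℂ[X] := R - C (a 0) * Pc with hD
  have hDeval : ∀ z ∈ S, D.eval z = 0 := by
    intro z hz
    rw [hD, eval_sub, hReval z hz, eval_mul, (hSmem z).mp hz, mul_zero, sub_zero]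
  have hDcoeff : ∀ k, m ≤ k → D.coeff k = 0 := by
    intro k hk
    rw [hD, coeff_sub, coeff_C_mul, hRcoeff]
    rcases hk.eq_or_lt with rfl | hlt
    · rw [if_pos le_rfl, Nat.sub_self, pow_zero, mul_one]
      have : Pc.coeff m = 1 := by rw [← hdeg]; exact hPcmon.coeff_natDegree
      rw [this, mul_one, sub_self]
    · rw [if_neg (by omega), coeff_eq_zero_of_natDegree_lt (by rw [hdeg]; exact hlt), mul_zero,
        sub_zero]
  have hD0 : D = 0 := by
    by_contra hne
    apply hne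
    apply eq_zero_of_natDegree_lt_card_of_eval_eq_zero' D S hDeval
    rw [hScard]
    have : D.degree < (m : WithBot ℕ) := (degree_lt_iff_coeff_zero D m).mpr hDcoeff
    exact (natDegree_lt_iff_degree_lt hne).mpr this
  have hfe : ∀ k ≤ m, a (m - k) * (Q : ℂ) ^ (m - k) = a 0 * a k := by
    intro k hk
    have h1 : D.coeff k = 0 := by rw [hD0, coeff_zero]
    rw [hD, coeff_sub, coeff_C_mul, hRcoeff, if_pos hk, hPc, coeff_map, sub_eq_zero] at h1
    exact h1
  intro k hk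
  have h1 := hfe k hk
  have h6 : ((P.coeff (m - k) * (Q : ℤ) ^ (m - k) : ℤ) : ℂ) = ((P.coeff 0 * P.coeff k : ℤ) : ℂ) := by
    push_cast
    exact h1
  exact_mod_cast h6


end FE

section Weil

open Polynomial

theorem minpoly_int_coeff_zero_ne_zero {K : Type u} [Field K] [CharZero K] (x : K)
    (hx : IsIntegral ℤ x) (h0 : x ≠ 0) : (minpoly ℤ x).coeff 0 ≠ 0 := by
  intro hc
  have hdvd : (Polynomial.X : ℤ[X]) ∣ minpoly ℤ x := Polynomial.X_dvd_iff.mpr hc
  have hassoc := Polynomial.irreducible_X.associated_of_dvd (minpoly.irreducible hx) hdvd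
  have heq := Polynomial.eq_of_monic_of_associated Polynomial.monic_X (minpoly.monic hx) hassoc
  have h1 := minpoly.aeval ℤ x
  rw [← heq, Polynomial.aeval_X] at h1
  exact h0 h1

theorem weil_inv_root {K : Type u} [Field K] [CharZero K] (p e : ℕ) [Fact p.Prime] (π : K)
    (hπ : IsIntegral ℤ π)
    (hweil : ∀ z ∈ (minpoly ℤ π).aroots ℂ, ‖z‖ = Real.sqrt ((p : ℝ) ^ e)) :
    Polynomial.aeval (((p : K) ^ e) / π) (minpoly ℤ π) = 0 := by
  have hmon : (minpoly ℤ π).Monic := minpoly.monic hπ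
  have hirr : Irreducible (minpoly ℤ π) := minpoly.irreducible hπ
  have hirrQ : Irreducible ((minpoly ℤ π).map (algebraMap ℤ ℚ)) :=
    (Monic.irreducible_iff_irreducible_map_fraction_map hmon).mp hirr
  have hsep : ((minpoly ℤ π).map (algebraMap ℤ ℚ)).Separable := hirrQ.separable
  have hsepC : ((minpoly ℤ π).map (Int.castRingHom ℂ)).Separable := by
    have h1 := hsep.map (f := algebraMap ℚ ℂ)
    rw [Polynomial.map_map] at h1
    have h2 : (algebraMap ℚ ℂ).comp (algebraMap ℤ ℚ) = Int.castRingHom ℂ := RingHom.ext_int _ _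
    rw [h2] at h1
    exact h1
  have hnodup := nodup_roots hsepC
  have hfe := fe (minpoly ℤ π) hmon (p ^ e) hnodup
    (fun z hz => by
      have := hweil z hz
      rw [this]; push_cast; rfl)
  have hroot : Polynomial.aeval π (minpoly ℤ π) = 0 := minpoly.aeval ℤ π
  obtain ⟨P, hP⟩ : ∃ P, P = minpoly ℤ π := ⟨_, rfl⟩
  rw [← hP] at hfe hmon hroot ⊢
  obtain ⟨m, hm⟩ : ∃ m, m = P.natDegree := ⟨_, rfl⟩
  rw [← hm] at hfe
  have hp : 0 < p := (Fact.out : p.Prime).pos
  have ha0 : P.coeff 0 ≠ 0 := by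
    intro h0
    have h1 := hfe 0 (Nat.zero_le _)
    rw [Nat.sub_zero, hm, hmon.coeff_natDegree, one_mul, h0, zero_mul] at h1
    have h2 : ((p ^ e : ℕ) : ℤ) ≠ 0 := by exact_mod_cast (pow_pos hp e).ne'
    exact pow_ne_zero _ h2 h1
  have hπ0 : π ≠ 0 := by
    intro h0
    have h1 := hroot
    rw [h0, ← Polynomial.coeff_zero_eq_aeval_zero'] at h1
    have h2 : ((P.coeff 0 : ℤ) : K) = 0 := by simpa using h1
    exact ha0 (by exact_mod_cast h2)
  obtain ⟨qK, hqK⟩ : ∃ qK : K, qK = (p : K) ^ e := ⟨_, rfl⟩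
  rw [← hqK]
  have h1 : π ^ m * Polynomial.aeval (qK / π) P =
      ∑ k ∈ Finset.range (m + 1), ((P.coeff k : ℤ) : K) * qK ^ k * π ^ (m - k) := by
    rw [Polynomial.aeval_eq_sum_range, Finset.mul_sum, ← hm]
    apply Finset.sum_congr rfl
    intro k hk
    have hk' : k ≤ m := Nat.lt_succ_iff.mp (Finset.mem_range.mp hk)
    have h2 : π ^ m = π ^ (m - k) * π ^ k := by rw [← pow_add]; congr 1; omega
    have h5 : qK ^ k / π ^ k * π ^ k = qK ^ k := div_mul_cancel₀ _ (pow_ne_zero _ hπ0)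
    rw [zsmul_eq_mul, div_pow, h2]
    linear_combination ((P.coeff k : ℤ) : K) * π ^ (m - k) * h5
  have h2 : ((P.coeff 0 : ℤ) : K) * Polynomial.aeval π P =
      ∑ k ∈ Finset.range (m + 1), ((P.coeff (m - k) : ℤ) : K) * qK ^ (m - k) * π ^ k := by
    rw [Polynomial.aeval_eq_sum_range, Finset.mul_sum, ← hm]
    apply Finset.sum_congr rfl
    intro k hk
    have hk' : k ≤ m := Nat.lt_succ_iff.mp (Finset.mem_range.mp hk)
    have h3 := congrArg (Int.cast : ℤ → K) (hfe k hk')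
    push_cast at h3
    rw [zsmul_eq_mul, ← mul_assoc, ← h3, hqK]
  have h3 : ∑ k ∈ Finset.range (m + 1), ((P.coeff (m - k) : ℤ) : K) * qK ^ (m - k) * π ^ k =
      ∑ k ∈ Finset.range (m + 1), ((P.coeff k : ℤ) : K) * qK ^ k * π ^ (m - k) := by
    rw [← Finset.sum_flip (fun k => ((P.coeff k : ℤ) : K) * qK ^ k * π ^ (m - k))]
    apply Finset.sum_congr rfl
    intro k hk
    have hk' : k ≤ m := Nat.lt_succ_iff.mp (Finset.mem_range.mp hk)
    have e2 : m - (m - k) = k := by omega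
    simp only [e2]
  have h4 : π ^ m * Polynomial.aeval (qK / π) P = 0 := by
    rw [h1, ← h3, ← h2, hroot, mul_zero]
  exact (mul_eq_zero.mp h4).resolve_left (pow_ne_zero _ hπ0)

end Weil

section Main

/-- the `j`-th component evaluation `ℤ[F, V] → K j`. -/
noncomputable def ev (p e : ℕ) {J : Type} (K : J → Type u) [∀ j, Field (K j)] (ϖ : ∀ j, K j)
    (j : J) : MvPolynomial (Fin 2) ℤ →ₐ[ℤ] K j :=
  MvPolynomial.aeval ![ϖ j, ((p : K j) ^ e) / ϖ j]

theorem ev_X0 (p e : ℕ) {J : Type} (K : J → Type u) [∀ j, Field (K j)] (ϖ : ∀ j, K j) (j : J) :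
    ev p e K ϖ j (MvPolynomial.X 0) = ϖ j := by simp [ev]

theorem ev_X1 (p e : ℕ) {J : Type} (K : J → Type u) [∀ j, Field (K j)] (ϖ : ∀ j, K j) (j : J) :
    ev p e K ϖ j (MvPolynomial.X 1) = ((p : K j) ^ e) / ϖ j := by simp [ev]

theorem main_aux (p e : ℕ) [Fact p.Prime]
    (J J' : Type) [Fintype J] [Fintype J'] (emb : J' → J)
    (K : J → Type u) [∀ j, Field (K j)] [∀ j, CharZero (K j)] (ϖ : ∀ j, K j)
    (hint : ∀ j, IsIntegral ℤ (ϖ j))
    (hweil : ∀ j, ∀ z ∈ (minpoly ℤ (ϖ j)).aroots ℂ, ‖z‖ = Real.sqrt ((p : ℝ) ^ e))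
    (hinj : ∀ i j, minpoly ℤ (ϖ i) = minpoly ℤ (ϖ j) → i = j)
    (φw : MvPolynomial (Fin 2) ℤ →ₐ[ℤ] ((j : J) → K j))
    (φv : MvPolynomial (Fin 2) ℤ →ₐ[ℤ] ((j' : J') → K (emb j')))
    (hw : ∀ x j, φw x j = ev p e K ϖ j x)
    (hv : ∀ x j', φv x j' = ev p e K ϖ (emb j') x)
    (hle : RingHom.ker φw ≤ RingHom.ker φv) :
    Function.Surjective (CommRing.Pic.mapRingHom (Ideal.Quotient.factor hle)) := by
  classical
  have memw : ∀ x, x ∈ RingHom.ker φw ↔ ∀ j, ev p e K ϖ j x = 0 := by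
    intro x
    rw [RingHom.mem_ker]
    constructor
    · intro h j; rw [← hw, h]; rfl
    · intro h; funext j; rw [hw]; exact h j
  have memv : ∀ x, x ∈ RingHom.ker φv ↔ ∀ j', ev p e K ϖ (emb j') x = 0 := by
    intro x
    rw [RingHom.mem_ker]
    constructor
    · intro h j; rw [← hv, h]; rfl
    · intro h; funext j; rw [hv]; exact h j
  obtain ⟨Iu, hIu⟩ : ∃ Iu : Ideal (MvPolynomial (Fin 2) ℤ),
      ∀ x, x ∈ Iu ↔ ∀ j, j ∉ Set.range emb → ev p e K ϖ j x = 0 := by
    refine ⟨⨅ j : {j : J // j ∉ Set.range emb}, RingHom.ker (ev p e K ϖ j.1), fun x => ?_⟩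
    simp only [Ideal.mem_iInf, RingHom.mem_ker, Subtype.forall]
  have h1 : RingHom.ker φv ⊓ Iu ≤ RingHom.ker φw := by
    intro x hx
    rw [memw]
    intro j
    by_cases hj : j ∈ Set.range emb
    · obtain ⟨j', rfl⟩ := hj
      exact (memv x).mp hx.1 j'
    · exact (hIu x).mp hx.2 j hj
  obtain ⟨Pv, hPv⟩ : ∃ Pv : Polynomial ℤ, Pv = ∏ j' : J', minpoly ℤ (ϖ (emb j')) := ⟨_, rfl⟩
  have hPvmon : Pv.Monic := by
    rw [hPv]; exact Polynomial.monic_prod_of_monic _ _ (fun i _ => minpoly.monic (hint _))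
  have hPvmem : ∀ i : Fin 2,
      Polynomial.aeval (MvPolynomial.X i : MvPolynomial (Fin 2) ℤ) Pv ∈ RingHom.ker φv := by
    rw [Fin.forall_fin_two]
    constructor
    · rw [memv]
      intro j'
      rw [← Polynomial.aeval_algHom_apply, ev_X0, hPv, map_prod]
      exact Finset.prod_eq_zero (Finset.mem_univ j') (minpoly.aeval ℤ _)
    · rw [memv]
      intro j'
      rw [← Polynomial.aeval_algHom_apply, ev_X1, hPv, map_prod]
      exact Finset.prod_eq_zero (Finset.mem_univ j') (weil_inv_root p e _ (hint _) (hweil _))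
  haveI : Module.Finite ℤ (MvPolynomial (Fin 2) ℤ ⧸ RingHom.ker φv) := by
    haveI : Algebra.FiniteType ℤ (MvPolynomial (Fin 2) ℤ ⧸ RingHom.ker φv) :=
      Algebra.FiniteType.of_surjective (Ideal.Quotient.mkₐ ℤ (RingHom.ker φv))
        (Ideal.Quotient.mkₐ_surjective ℤ _)
    haveI : Algebra.IsIntegral ℤ (MvPolynomial (Fin 2) ℤ ⧸ RingHom.ker φv) := by
      constructor
      intro y
      obtain ⟨x, rfl⟩ := Ideal.Quotient.mk_surjective y
      have hX : ∀ i : Fin 2, IsIntegral ℤ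
          (Ideal.Quotient.mk (RingHom.ker φv) (MvPolynomial.X i)) := by
        intro i
        refine ⟨Pv, hPvmon, ?_⟩
        rw [← Polynomial.aeval_def]
        have h2 : Polynomial.aeval (Ideal.Quotient.mk (RingHom.ker φv) (MvPolynomial.X i)) Pv =
            Ideal.Quotient.mk (RingHom.ker φv) (Polynomial.aeval (MvPolynomial.X i) Pv) :=
          Polynomial.aeval_algHom_apply (Ideal.Quotient.mkₐ ℤ (RingHom.ker φv))
            (MvPolynomial.X i) Pv
        rw [h2]; exact Ideal.Quotient.eq_zero_iff_mem.mpr (hPvmem i)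
      induction x using MvPolynomial.induction_on with
      | C a =>
        have h2 : IsIntegral ℤ (MvPolynomial.C a : MvPolynomial (Fin 2) ℤ) := by
          rw [← MvPolynomial.algebraMap_eq]; exact isIntegral_algebraMap
        exact h2.map (Ideal.Quotient.mkₐ ℤ (RingHom.ker φv))
      | add f g hf hg => rw [map_add]; exact hf.add hg
      | mul_X f i hf => rw [map_mul]; exact hf.mul (hX i)
    exact Algebra.IsIntegral.finite
  obtain ⟨Pu, hPu⟩ : ∃ Pu : Polynomial ℤ,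
      Pu = ∏ j ∈ Finset.univ.filter (fun j : J => j ∉ Set.range emb), minpoly ℤ (ϖ j) := ⟨_, rfl⟩
  have hPuu : Polynomial.aeval (MvPolynomial.X 0 : MvPolynomial (Fin 2) ℤ) Pu ∈ Iu := by
    rw [hIu]
    intro j hj
    rw [← Polynomial.aeval_algHom_apply, ev_X0, hPu, map_prod]
    exact Finset.prod_eq_zero (Finset.mem_filter.mpr ⟨Finset.mem_univ j, hj⟩) (minpoly.aeval ℤ _)
  have hx0 : ∀ j' : J', Polynomial.aeval (ϖ (emb j')) Pu ≠ 0 := by
    intro j'
    rw [hPu, map_prod, Finset.prod_ne_zero_iff]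
    intro j hj hzero
    have hj' : j ∉ Set.range emb := (Finset.mem_filter.mp hj).2
    have hdvd : minpoly ℤ (ϖ (emb j')) ∣ minpoly ℤ (ϖ j) :=
      minpoly.isIntegrallyClosed_dvd (hint _) hzero
    have hassoc := (minpoly.irreducible (hint (emb j'))).associated_of_dvd
      (minpoly.irreducible (hint j)) hdvd
    have heq := Polynomial.eq_of_monic_of_associated (minpoly.monic (hint _))
      (minpoly.monic (hint _)) hassoc
    exact hj' ⟨j', hinj _ _ heq⟩
  have hstep : ∀ j' : J', ∃ (c : ℤ) (z : MvPolynomial (Fin 2) ℤ), c ≠ 0 ∧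
      ev p e K ϖ (emb j') z = 0 ∧ z - MvPolynomial.C c ∈ Iu := by
    intro j'
    obtain ⟨x, hxdef⟩ : ∃ x, x = Polynomial.aeval (ϖ (emb j')) Pu := ⟨_, rfl⟩
    have hxint : IsIntegral ℤ x := by
      rw [hxdef, ← mem_integralClosure_iff ℤ (K (emb j'))]
      exact (Algebra.adjoin_le (Set.singleton_subset_iff.mpr
        ((mem_integralClosure_iff ℤ (K (emb j'))).mpr (hint (emb j')))))
        (Polynomial.aeval_mem_adjoin_singleton ℤ (ϖ (emb j')))
    have hxne : x ≠ 0 := hxdef ▸ hx0 j'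
    obtain ⟨G, hG⟩ : ∃ G, G = (minpoly ℤ x).divX := ⟨_, rfl⟩
    obtain ⟨c, hcdef⟩ : ∃ c, c = (minpoly ℤ x).coeff 0 := ⟨_, rfl⟩
    have hc : c ≠ 0 := hcdef ▸ minpoly_int_coeff_zero_ne_zero x hxint hxne
    have hrel : x * Polynomial.aeval x G + algebraMap ℤ (K (emb j')) c = 0 := by
      have h2 : Polynomial.aeval x (Polynomial.X * (minpoly ℤ x).divX +
          Polynomial.C ((minpoly ℤ x).coeff 0)) = 0 := by
        rw [Polynomial.X_mul_divX_add]; exact minpoly.aeval ℤ x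
      rw [map_add, map_mul, Polynomial.aeval_X, Polynomial.aeval_C, ← hG, ← hcdef] at h2
      exact h2
    refine ⟨c, MvPolynomial.C c + Polynomial.aeval
      (MvPolynomial.X 0 : MvPolynomial (Fin 2) ℤ) (Pu * G.comp Pu), hc, ?_, ?_⟩
    · rw [map_add, ← Polynomial.aeval_algHom_apply, ev_X0, map_mul, Polynomial.aeval_comp,
        ← hxdef, ← MvPolynomial.algebraMap_eq, AlgHom.commutes, add_comm]
      exact hrel
    · rw [add_sub_cancel_left, map_mul]
      exact Iu.mul_mem_right _ hPuu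
  choose c z hc hz hzu using hstep
  have hZv : ∏ j', z j' ∈ RingHom.ker φv := by
    rw [memv]
    intro j'
    rw [map_prod]
    exact Finset.prod_eq_zero (Finset.mem_univ j') (hz j')
  have hZu : ∏ j', z j' - MvPolynomial.C (∏ j', c j') ∈ Iu := by
    rw [← Ideal.Quotient.eq]
    simp only [map_prod]
    apply Finset.prod_congr rfl
    intro j' _
    rw [Ideal.Quotient.eq]; exact hzu j'
  have hN : ∏ j', c j' ≠ 0 := Finset.prod_ne_zero_iff.mpr (fun j' _ => hc j')
  have hcast : (((∏ j', c j' : ℤ)) : MvPolynomial (Fin 2) ℤ) = MvPolynomial.C (∏ j', c j') :=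
    (eq_intCast (MvPolynomial.C : ℤ →+* MvPolynomial (Fin 2) ℤ) _).symm
  have h3 : (((∏ j', c j' : ℤ)) : MvPolynomial (Fin 2) ℤ) ∈ RingHom.ker φv ⊔ Iu := by
    rw [hcast]
    refine Submodule.mem_sup.mpr ⟨∏ j', z j', hZv, MvPolynomial.C (∏ j', c j') - ∏ j', z j', ?_,
      by ring⟩
    have h4 := Iu.neg_mem hZu
    rwa [neg_sub] at h4
  exact pic_factor_surjective _ _ Iu hle h1 (∏ j', c j') hN h3

theorem main17999 (p e : ℕ) [Fact p.Prime] (he : 0 < e)
    (J J' : Type) [Fintype J] [Fintype J'] (emb : J' → J) (hemb : Function.Injective emb)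
    (K : J → Type u) [∀ j, Field (K j)] [∀ j, CharZero (K j)] (ϖ : ∀ j, K j)
    (hint : ∀ j, IsIntegral ℤ (ϖ j))
    (hweil : ∀ j, ∀ z ∈ (minpoly ℤ (ϖ j)).aroots ℂ, ‖z‖ = Real.sqrt ((p : ℝ) ^ e))
    (hinj : ∀ i j, minpoly ℤ (ϖ i) = minpoly ℤ (ϖ j) → i = j)
    (hle : RingHom.ker (MvPolynomial.aeval ![fun j => ϖ j, fun j => ((p : K j) ^ e) / ϖ j] :
          MvPolynomial (Fin 2) ℤ →ₐ[ℤ] ((j : J) → K j)) ≤
        RingHom.ker (MvPolynomial.aeval ![fun j' => ϖ (emb j'),
            fun j' => ((p : K (emb j')) ^ e) / ϖ (emb j')] :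
          MvPolynomial (Fin 2) ℤ →ₐ[ℤ] ((j' : J') → K (emb j')))) :
    Function.Surjective (CommRing.Pic.mapRingHom (Ideal.Quotient.factor hle)) := by
  refine main_aux p e J J' emb K ϖ hint hweil hinj _ _ ?_ ?_ hle
  · intro x j
    have h1 : (Pi.evalAlgHom ℤ K j).comp (MvPolynomial.aeval
        ![fun j => ϖ j, fun j => ((p : K j) ^ e) / ϖ j]) = ev p e K ϖ j := by
      apply MvPolynomial.algHom_ext
      intro i
      fin_cases i <;> simp [ev]
    exact AlgHom.congr_fun h1 x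
  · intro x j'
    have h1 : (Pi.evalAlgHom ℤ (fun j' => K (emb j')) j').comp (MvPolynomial.aeval
        ![fun j' => ϖ (emb j'), fun j' => ((p : K (emb j')) ^ e) / ϖ (emb j')]) =
        ev p e K ϖ (emb j') := by
      apply MvPolynomial.algHom_ext
      intro i
      fin_cases i <;> simp [ev]
    exact AlgHom.congr_fun h1 x

end Main

end Groth.Agent.Lib.PicSurjH1
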