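import Mathlib

set_option autoImplicit false
set_option linter.unusedSimpArgs false
set_option linter.unusedVariables false
set_option linter.unusedSectionVars false
set_option linter.style.longLine false
set_option linter.unnecessarySimpa false
set_option linter.style.haveILetI false
set_option maxHeartbeats 1600000
set_option backward.isDefEq.respectTransparency false
set_option backward.isDefEq.respectTransparency.types false
set_option backward.defeqAttrib.useBackward true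

universe v v' u u'

open CategoryTheory MonoidalCategory Functor.LaxMonoidal

namespace Groth.Agent.Lib.PicTors

section Act

variable {D : Type u'} [Category.{v'} D] [MonoidalCategory D]

/-- The action of an endomorphism of the unit on an object. -/
def act (φ : 𝟙_ D ⟶ 𝟙_ D) (Z : D) : Z ⟶ Z := (λ_ Z).inv ≫ (φ ▷ Z) ≫ (λ_ Z).hom

theorem act_nat (φ : 𝟙_ D ⟶ 𝟙_ D) {Z Z' : D} (h : Z ⟶ Z') : act φ Z ≫ h = h ≫ act φ Z' := by
  unfold act
  calc ((λ_ Z).inv ≫ (φ ▷ Z) ≫ (λ_ Z).hom) ≫ h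
      = (λ_ Z).inv ≫ (φ ▷ Z) ≫ ((λ_ Z).hom ≫ h) := by simp only [Category.assoc]
    _ = (λ_ Z).inv ≫ (φ ▷ Z) ≫ (𝟙_ D ◁ h ≫ (λ_ Z').hom) := by rw [leftUnitor_naturality]
    _ = (λ_ Z).inv ≫ ((φ ▷ Z) ≫ 𝟙_ D ◁ h) ≫ (λ_ Z').hom := by simp only [Category.assoc]
    _ = (λ_ Z).inv ≫ (𝟙_ D ◁ h ≫ φ ▷ Z') ≫ (λ_ Z').hom := by rw [← whisker_exchange]
    _ = ((λ_ Z).inv ≫ 𝟙_ D ◁ h) ≫ φ ▷ Z' ≫ (λ_ Z').hom := by simp only [Category.assoc]
    _ = (h ≫ (λ_ Z').inv) ≫ φ ▷ Z' ≫ (λ_ Z').hom := by rw [leftUnitor_inv_naturality]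
    _ = h ≫ (λ_ Z').inv ≫ φ ▷ Z' ≫ (λ_ Z').hom := by simp only [Category.assoc]

theorem act_comp (φ ψ : 𝟙_ D ⟶ 𝟙_ D) (Z : D) : act (φ ≫ ψ) Z = act φ Z ≫ act ψ Z := by
  unfold act
  simp only [comp_whiskerRight, Category.assoc, Iso.hom_inv_id_assoc]

theorem act_id (Z : D) : act (𝟙 (𝟙_ D)) Z = 𝟙 Z := by
  unfold act
  simp

theorem act_unit (φ : 𝟙_ D ⟶ 𝟙_ D) : act φ (𝟙_ D) = φ := by
  unfold act
  rw [unitors_equal, unitors_inv_equal, rightUnitor_naturality, Iso.inv_hom_id_assoc]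

theorem end_unit_comm (φ ψ : 𝟙_ D ⟶ 𝟙_ D) : φ ≫ ψ = ψ ≫ φ := by
  have := act_nat φ ψ
  rwa [act_unit] at this

theorem act_tensor_left (φ : 𝟙_ D ⟶ 𝟙_ D) (Z Z' : D) : act φ (Z ⊗ Z') = act φ Z ▷ Z' := by
  unfold act
  rw [leftUnitor_tensor_hom, leftUnitor_tensor_inv, whiskerRight_tensor]
  simp only [comp_whiskerRight, Category.assoc, Iso.hom_inv_id_assoc]

theorem act_tensor_right [BraidedCategory D] (φ : 𝟙_ D ⟶ 𝟙_ D) (Z Z' : D) :
    act φ (Z ⊗ Z') = Z ◁ act φ Z' := by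
  rw [← cancel_mono (β_ Z Z').hom, act_nat, act_tensor_left,
    BraidedCategory.braiding_naturality_right]

theorem act_tensorHom [BraidedCategory D] (φ ψ : 𝟙_ D ⟶ 𝟙_ D) (Z Z' : D) :
    act φ Z ⊗ₘ act ψ Z' = act (φ ≫ ψ) (Z ⊗ Z') := by
  rw [MonoidalCategory.tensorHom_def, ← act_tensor_left, ← act_tensor_right, ← act_comp]

theorem act_injective (Z : D) [(tensorRight Z).Faithful] {φ ψ : 𝟙_ D ⟶ 𝟙_ D}
    (h : act φ Z = act ψ Z) : φ = ψ := by
  unfold act at h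
  rw [cancel_epi, cancel_mono] at h
  exact (tensorRight Z).map_injective h

theorem act_surjective (Z : D) [(tensorRight Z).Full] (δ : Z ⟶ Z) :
    ∃ φ : 𝟙_ D ⟶ 𝟙_ D, act φ Z = δ := by
  obtain ⟨φ, hφ⟩ := (tensorRight Z).map_surjective (X := 𝟙_ D) (Y := 𝟙_ D)
    ((λ_ Z).hom ≫ δ ≫ (λ_ Z).inv)
  refine ⟨φ, ?_⟩
  have hφ' : φ ▷ Z = (λ_ Z).hom ≫ δ ≫ (λ_ Z).inv := hφ
  unfold act
  rw [hφ']
  simp

end Act

theorem main15286 {C : Type u} [Category.{v} C] [MonoidalCategory C] [IsGroupoid C]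
    {D : Type u'} [Category.{v'} D] [MonoidalCategory D] [BraidedCategory D] [IsGroupoid D]
    (hC : ∀ X : C, (tensorLeft X).IsEquivalence ∧ (tensorRight X).IsEquivalence)
    (hD : ∀ X : D, (tensorLeft X).IsEquivalence ∧ (tensorRight X).IsEquivalence)
    (F G : C ⥤ D) [F.LaxMonoidal] [G.LaxMonoidal] (θ₀ : F ⟶ G) [NatTrans.IsMonoidal θ₀] :
    (∀ θ : F ⟶ G, NatTrans.IsMonoidal θ →
      ∃! χ : Skeleton C →* End (𝟙_ D), ∀ X : C,
        θ.app X = θ₀.app X ≫ (λ_ (G.obj X)).inv ≫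
          ((χ (toSkeleton X) : 𝟙_ D ⟶ 𝟙_ D) ▷ G.obj X) ≫ (λ_ (G.obj X)).hom) ∧
    (∀ χ : Skeleton C →* End (𝟙_ D), ∃ θ : F ⟶ G, NatTrans.IsMonoidal θ ∧ ∀ X : C,
        θ.app X = θ₀.app X ≫ (λ_ (G.obj X)).inv ≫
          ((χ (toSkeleton X) : 𝟙_ D ⟶ 𝟙_ D) ▷ G.obj X) ≫ (λ_ (G.obj X)).hom) := by
  refine ⟨?_, ?_⟩
  · intro θ hθ
    haveI := hθ
    have hex : ∀ X : C, ∃ φ : 𝟙_ D ⟶ 𝟙_ D, act φ (G.obj X) = inv (θ₀.app X) ≫ θ.app X := fun X => by
      haveI := (hD (G.obj X)).2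
      exact act_surjective (G.obj X) _
    choose c hc using hex
    have hθc : ∀ X, θ.app X = θ₀.app X ≫ act (c X) (G.obj X) := fun X => by
      rw [hc X, IsIso.hom_inv_id_assoc]
    have hinj : ∀ (X : C) {φ ψ : 𝟙_ D ⟶ 𝟙_ D}, act φ (G.obj X) = act ψ (G.obj X) → φ = ψ :=
      fun X _ _ h => by
        haveI := (hD (G.obj X)).2
        exact act_injective (G.obj X) h
    have hc_iso : ∀ {X X' : C} (f : X ⟶ X'), c X = c X' := by
      intro X X' f
      apply hinj X'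
      have h2 : (F.map f ≫ θ₀.app X') ≫ act (c X') (G.obj X') =
          (F.map f ≫ θ₀.app X') ≫ act (c X) (G.obj X') := by
        calc (F.map f ≫ θ₀.app X') ≫ act (c X') (G.obj X') = F.map f ≫ θ.app X' := by
              rw [hθc X', Category.assoc]
          _ = θ.app X ≫ G.map f := θ.naturality f
          _ = θ₀.app X ≫ act (c X) (G.obj X) ≫ G.map f := by rw [hθc X, Category.assoc]
          _ = θ₀.app X ≫ G.map f ≫ act (c X) (G.obj X') := by rw [act_nat]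
          _ = (θ₀.app X ≫ G.map f) ≫ act (c X) (G.obj X') := (Category.assoc _ _ _).symm
          _ = (F.map f ≫ θ₀.app X') ≫ act (c X) (G.obj X') := by rw [θ₀.naturality f]
      exact ((cancel_epi _).1 h2).symm
    have hc_one : c (𝟙_ C) = 𝟙 (𝟙_ D) := by
      apply hinj (𝟙_ C)
      rw [act_id]
      have h1 : (ε F ≫ θ₀.app (𝟙_ C)) ≫ act (c (𝟙_ C)) (G.obj (𝟙_ C)) =
          (ε F ≫ θ₀.app (𝟙_ C)) ≫ 𝟙 _ := by
        calc (ε F ≫ θ₀.app (𝟙_ C)) ≫ act (c (𝟙_ C)) (G.obj (𝟙_ C)) = ε F ≫ θ.app (𝟙_ C) := by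
              rw [hθc (𝟙_ C), Category.assoc]
          _ = ε G := NatTrans.IsMonoidal.unit (τ := θ)
          _ = ε F ≫ θ₀.app (𝟙_ C) := (NatTrans.IsMonoidal.unit (τ := θ₀)).symm
          _ = (ε F ≫ θ₀.app (𝟙_ C)) ≫ 𝟙 _ := (Category.comp_id _).symm
      exact (cancel_epi _).1 h1
    have hc_mul : ∀ X X' : C, c (X ⊗ X') = c X ≫ c X' := by
      intro X X'
      apply hinj (X ⊗ X')
      have h1 : ((θ₀.app X ⊗ₘ θ₀.app X') ≫ μ G X X') ≫ act (c (X ⊗ X')) (G.obj (X ⊗ X')) =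
          ((θ₀.app X ⊗ₘ θ₀.app X') ≫ μ G X X') ≫ act (c X ≫ c X') (G.obj (X ⊗ X')) := by
        calc ((θ₀.app X ⊗ₘ θ₀.app X') ≫ μ G X X') ≫ act (c (X ⊗ X')) (G.obj (X ⊗ X'))
            = (μ F X X' ≫ θ₀.app (X ⊗ X')) ≫ act (c (X ⊗ X')) (G.obj (X ⊗ X')) := by
              rw [NatTrans.IsMonoidal.tensor (τ := θ₀)]
          _ = μ F X X' ≫ θ.app (X ⊗ X') := by rw [hθc (X ⊗ X'), Category.assoc]
          _ = (θ.app X ⊗ₘ θ.app X') ≫ μ G X X' := NatTrans.IsMonoidal.tensor (τ := θ) X X'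
          _ = ((θ₀.app X ≫ act (c X) (G.obj X)) ⊗ₘ (θ₀.app X' ≫ act (c X') (G.obj X'))) ≫
                μ G X X' := by rw [hθc X, hθc X']
          _ = ((θ₀.app X ⊗ₘ θ₀.app X') ≫ (act (c X) (G.obj X) ⊗ₘ act (c X') (G.obj X'))) ≫
                μ G X X' := by rw [tensorHom_comp_tensorHom]
          _ = ((θ₀.app X ⊗ₘ θ₀.app X') ≫ act (c X ≫ c X') (G.obj X ⊗ G.obj X')) ≫ μ G X X' := by
              rw [act_tensorHom]
          _ = (θ₀.app X ⊗ₘ θ₀.app X') ≫ act (c X ≫ c X') (G.obj X ⊗ G.obj X') ≫ μ G X X' :=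
              Category.assoc _ _ _
          _ = (θ₀.app X ⊗ₘ θ₀.app X') ≫ μ G X X' ≫ act (c X ≫ c X') (G.obj (X ⊗ X')) := by
              rw [act_nat]
          _ = ((θ₀.app X ⊗ₘ θ₀.app X') ≫ μ G X X') ≫ act (c X ≫ c X') (G.obj (X ⊗ X')) :=
              (Category.assoc _ _ _).symm
      exact (cancel_epi _).1 h1
    let χ : Skeleton C →* End (𝟙_ D) :=
      { toFun := fun s => c ((fromSkeleton C).obj s)
        map_one' := by
          show c ((fromSkeleton C).obj (toSkeleton (𝟙_ C))) = 𝟙 (𝟙_ D)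
          rw [hc_iso (fromSkeletonToSkeletonIso (𝟙_ C)).hom, hc_one]
        map_mul' := fun s t => by
          show c ((fromSkeleton C).obj
            (toSkeleton ((fromSkeleton C).obj s ⊗ (fromSkeleton C).obj t))) =
              c ((fromSkeleton C).obj t) ≫ c ((fromSkeleton C).obj s)
          rw [hc_iso (fromSkeletonToSkeletonIso _).hom, hc_mul, end_unit_comm] }
    refine ⟨χ, ?_, ?_⟩
    · intro X
      have hχX : χ (toSkeleton X) = c X := hc_iso (fromSkeletonToSkeletonIso X).hom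
      rw [hθc X]
      show _ = θ₀.app X ≫ act (χ (toSkeleton X)) (G.obj X)
      rw [hχX]
    · intro χ' hχ'
      refine MonoidHom.ext fun s => ?_
      have hX : toSkeleton ((fromSkeleton C).obj s) = s := toSkeleton_fromSkeleton_obj s
      have h1 : θ₀.app ((fromSkeleton C).obj s) ≫
            act (χ' (toSkeleton ((fromSkeleton C).obj s))) (G.obj ((fromSkeleton C).obj s)) =
          θ₀.app ((fromSkeleton C).obj s) ≫
            act (c ((fromSkeleton C).obj s)) (G.obj ((fromSkeleton C).obj s)) :=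
        (hχ' _).symm.trans (hθc _)
      have h2 := hinj _ ((cancel_epi _).1 h1)
      rw [hX] at h2
      exact h2
  · intro χ
    have hχ_iso : ∀ {X X' : C} (f : X ⟶ X'), χ (toSkeleton X) = χ (toSkeleton X') := fun f => by
      rw [congr_toSkeleton_of_iso (asIso f)]
    let θ : F ⟶ G :=
      { app := fun X => θ₀.app X ≫ act (χ (toSkeleton X)) (G.obj X)
        naturality := fun X X' f => by
          have hχ := hχ_iso f
          calc F.map f ≫ θ₀.app X' ≫ act (χ (toSkeleton X')) (G.obj X')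
              = (F.map f ≫ θ₀.app X') ≫ act (χ (toSkeleton X')) (G.obj X') :=
                (Category.assoc _ _ _).symm
            _ = (θ₀.app X ≫ G.map f) ≫ act (χ (toSkeleton X')) (G.obj X') := by
                rw [θ₀.naturality f]
            _ = θ₀.app X ≫ G.map f ≫ act (χ (toSkeleton X')) (G.obj X') := Category.assoc _ _ _
            _ = θ₀.app X ≫ act (χ (toSkeleton X')) (G.obj X) ≫ G.map f := by rw [act_nat]
            _ = θ₀.app X ≫ act (χ (toSkeleton X)) (G.obj X) ≫ G.map f := by rw [hχ]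
            _ = (θ₀.app X ≫ act (χ (toSkeleton X)) (G.obj X)) ≫ G.map f :=
                (Category.assoc _ _ _).symm }
    have hθm : NatTrans.IsMonoidal θ :=
      { unit := by
          show ε F ≫ θ₀.app (𝟙_ C) ≫ act (χ (toSkeleton (𝟙_ C))) (G.obj (𝟙_ C)) = ε G
          have h1 : χ (toSkeleton (𝟙_ C)) = 𝟙 (𝟙_ D) := χ.map_one
          rw [h1, act_id, Category.comp_id]
          exact NatTrans.IsMonoidal.unit (τ := θ₀)
        tensor := fun X X' => by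
          show μ F X X' ≫ θ₀.app (X ⊗ X') ≫
              act (χ (toSkeleton (X ⊗ X'))) (G.obj (X ⊗ X')) =
            ((θ₀.app X ≫ act (χ (toSkeleton X)) (G.obj X)) ⊗ₘ
              (θ₀.app X' ≫ act (χ (toSkeleton X')) (G.obj X'))) ≫ μ G X X'
          have h1 : χ (toSkeleton (X ⊗ X')) =
              (χ (toSkeleton X) : 𝟙_ D ⟶ 𝟙_ D) ≫ (χ (toSkeleton X') : 𝟙_ D ⟶ 𝟙_ D) := by
            rw [Skeleton.toSkeleton_tensorObj, map_mul, End.mul_def, end_unit_comm]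
          rw [h1]
          calc μ F X X' ≫ θ₀.app (X ⊗ X') ≫
                act ((χ (toSkeleton X) : 𝟙_ D ⟶ 𝟙_ D) ≫ (χ (toSkeleton X') : 𝟙_ D ⟶ 𝟙_ D))
                  (G.obj (X ⊗ X'))
              = (μ F X X' ≫ θ₀.app (X ⊗ X')) ≫
                act ((χ (toSkeleton X) : 𝟙_ D ⟶ 𝟙_ D) ≫ (χ (toSkeleton X') : 𝟙_ D ⟶ 𝟙_ D))
                  (G.obj (X ⊗ X')) := (Category.assoc _ _ _).symm
            _ = ((θ₀.app X ⊗ₘ θ₀.app X') ≫ μ G X X') ≫
                act ((χ (toSkeleton X) : 𝟙_ D ⟶ 𝟙_ D) ≫ (χ (toSkeleton X') : 𝟙_ D ⟶ 𝟙_ D))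
                  (G.obj (X ⊗ X')) := by rw [NatTrans.IsMonoidal.tensor (τ := θ₀)]
            _ = (θ₀.app X ⊗ₘ θ₀.app X') ≫ μ G X X' ≫
                act ((χ (toSkeleton X) : 𝟙_ D ⟶ 𝟙_ D) ≫ (χ (toSkeleton X') : 𝟙_ D ⟶ 𝟙_ D))
                  (G.obj (X ⊗ X')) := Category.assoc _ _ _
            _ = (θ₀.app X ⊗ₘ θ₀.app X') ≫
                act ((χ (toSkeleton X) : 𝟙_ D ⟶ 𝟙_ D) ≫ (χ (toSkeleton X') : 𝟙_ D ⟶ 𝟙_ D))
                  (G.obj X ⊗ G.obj X') ≫ μ G X X' := by rw [act_nat]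
            _ = (θ₀.app X ⊗ₘ θ₀.app X') ≫
                (act (χ (toSkeleton X)) (G.obj X) ⊗ₘ act (χ (toSkeleton X')) (G.obj X')) ≫
                  μ G X X' := by rw [act_tensorHom]
            _ = ((θ₀.app X ⊗ₘ θ₀.app X') ≫
                (act (χ (toSkeleton X)) (G.obj X) ⊗ₘ act (χ (toSkeleton X')) (G.obj X'))) ≫
                  μ G X X' := (Category.assoc _ _ _).symm
            _ = ((θ₀.app X ≫ act (χ (toSkeleton X)) (G.obj X)) ⊗ₘ
                  (θ₀.app X' ≫ act (χ (toSkeleton X')) (G.obj X'))) ≫ μ G X X' := by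
                rw [tensorHom_comp_tensorHom] }
    exact ⟨θ, hθm, fun X => rfl⟩

end Groth.Agent.Lib.PicTors
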