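import Mathlib
import Groth.Prelude
import Groth.Agent.Lib.TauEq2_helper9
import Groth.Agent.Lib.EulerBC_helper9
import Groth.Agent.Lib.BCDimSch_helper8
import Groth.Agent.Lib.Snap1_helper9
import Groth.Agent.Lib.CMMul1_helper9
import Groth.Agent.Lib.PB9_helper8
import Groth.Agent.Lib.Tens18_helper8
import Groth.Agent.Lib.ProperFin9_helper9

/-!
# Algebraically trivial on a geometric fibre implies fibre degree zero (helper9)
**S12412**.
APPEND-ONLY once landed.
-/

set_option autoImplicit false
universe u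
open AlgebraicGeometry CategoryTheory CategoryTheory.Limits TopologicalSpace

namespace PicZeroDeg

section Dim

/-- the fibre of a base change `C_T ⟶ T` at `t` has the dimension of the fibre of `C ⟶ S`
at the image of `t` -/
theorem dim_fibre {C S : Scheme.{u}} (f : C ⟶ S) [LocallyOfFiniteType f] {T : Scheme.{u}}
    (g : T ⟶ S) (t : T) :
    topologicalKrullDim ↥(pullback (pullback.snd f g) (T.fromSpecResidueField t)) =
      topologicalKrullDim ↥(f.fiber (g t)) := by
  have hpb := isPullback_fiberToSpecResidueField_of_isPullback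
    (IsPullback.of_hasPullback f g) t
  have e := hpb.isoPullback
  have h1 : topologicalKrullDim ↥((pullback.snd f g).fiber t) =
      topologicalKrullDim ↥(pullback (f.fiberToSpecResidueField (g t))
        (Spec.map (g.residueFieldMap t))) := Groth.Agent.BCDimSchH8.dim_eq_of_iso e
  haveI : LocallyOfFiniteType (f.fiberToSpecResidueField (g t)) :=
    MorphismProperty.pullback_snd _ _ inferInstance
  have h2 := Groth.Agent.BCDimSchH8.dim_pullback_field (S.residueField (g t)) (T.residueField t)
    (f.fiber (g t)) (f.fiberToSpecResidueField (g t)) (g.residueFieldMap t)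
  exact h1.trans h2

end Dim

end PicZeroDeg

namespace PicZeroDeg

section BC

variable {X B : Scheme.{u}} (p : X ⟶ B) (κ : Type u) [Field κ]
  (τ : Spec (CommRingCat.of κ) ⟶ B) (Ω : Type u) [Field Ω] [Algebra κ Ω]

/-- the geometric point over the `κ`-point `τ` -/
noncomputable abbrev geo : Spec (CommRingCat.of Ω) ⟶ B :=
  Spec.map (CommRingCat.ofHom (algebraMap κ Ω)) ≫ τ

/-- the comparison map from the geometric fibre to the fibre -/
noncomputable def cmp : pullback p (geo κ τ Ω) ⟶ pullback p τ :=
  pullback.lift (pullback.fst _ _)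
    (pullback.snd _ _ ≫ Spec.map (CommRingCat.ofHom (algebraMap κ Ω)))
    (by rw [Category.assoc]; exact pullback.condition)

theorem cmp_fst : cmp p κ τ Ω ≫ pullback.fst p τ = pullback.fst p (geo κ τ Ω) := by
  rw [cmp, pullback.lift_fst]

theorem cmp_snd : cmp p κ τ Ω ≫ pullback.snd p τ =
    pullback.snd p (geo κ τ Ω) ≫ Spec.map (CommRingCat.ofHom (algebraMap κ Ω)) := by
  rw [cmp, pullback.lift_snd]

theorem isPullback_cmp : IsPullback (cmp p κ τ Ω) (pullback.snd p (geo κ τ Ω))
    (pullback.snd p τ) (Spec.map (CommRingCat.ofHom (algebraMap κ Ω))) := by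
  refine IsPullback.of_right (h₁₂ := pullback.fst p τ) (h₂₂ := τ) ?_ (cmp_snd p κ τ Ω)
    (IsPullback.of_hasPullback p τ)
  rw [cmp_fst]
  exact IsPullback.of_hasPullback p _

/-- the Euler characteristic of a quasi-coherent module on the fibre can be computed on the
geometric fibre -/
theorem euler_fibre_eq [IsProper p] (M : (pullback p τ).Modules) [Coh.IsQCoh M] :
    @Curv2.euler Ω _ (pullback p (geo κ τ Ω)) ⟨pullback.snd _ _⟩
        ((Scheme.Modules.pullback (cmp p κ τ Ω)).obj M) =
      @Curv2.euler κ _ (pullback p τ) ⟨pullback.snd p τ⟩ M := by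
  letI : (pullback p τ).Over (Spec (CommRingCat.of κ)) := ⟨pullback.snd p τ⟩
  letI : (pullback p (geo κ τ Ω)).Over (Spec (CommRingCat.of Ω)) := ⟨pullback.snd _ _⟩
  haveI : IsProper (pullback p τ ↘ Spec (CommRingCat.of κ)) :=
    (inferInstance : IsProper (pullback.snd p τ))
  haveI : CompactSpace ↥(pullback p τ) :=
    QuasiCompact.compactSpace_of_compactSpace (pullback p τ ↘ Spec (CommRingCat.of κ))
  haveI : QuasiSeparatedSpace ↥(pullback p τ) :=
    quasiSeparatedSpace_of_quasiSeparated
      (pullback p τ ↘ Spec (CommRingCat.of κ))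
  unfold Curv2.euler
  refine finsum_congr (fun i => ?_)
  obtain ⟨e⟩ := Groth.Agent.S0034.result κ Ω (pullback p τ) (pullback p (geo κ τ Ω))
    (cmp p κ τ Ω) (isPullback_cmp p κ τ Ω) M i
  rw [← e.finrank_eq, Module.finrank_baseChange]

/-- **algebraically trivial on a geometric fibre implies degree zero on the fibre** -/
theorem main [IsProper p] (L : X.Modules) (hL : PicF.IsInvertible L)
    (hdim : topologicalKrullDim ↥(pullback p τ) ≤ 1)
    (h : @Pic13.IsAlgEquivZero Ω _ (pullback p (geo κ τ Ω)) ⟨pullback.snd _ _⟩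
      ((Scheme.Modules.pullback (pullback.fst p (geo κ τ Ω))).obj L)) :
    @FGA.eulerCharLE κ _ (pullback p τ) ⟨pullback.snd p τ⟩
        ((Scheme.Modules.pullback (pullback.fst p τ)).obj L) 1 =
      @FGA.eulerCharLE κ _ (pullback p τ) ⟨pullback.snd p τ⟩
        (Coh.structureModule (pullback p τ)) 1 := by
  letI : (pullback p τ).Over (Spec (CommRingCat.of κ)) := ⟨pullback.snd p τ⟩
  letI : (pullback p (geo κ τ Ω)).Over (Spec (CommRingCat.of Ω)) := ⟨pullback.snd _ _⟩
  haveI : IsProper (pullback p τ ↘ Spec (CommRingCat.of κ)) :=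
    (inferInstance : IsProper (pullback.snd p τ))
  haveI : IsProper (pullback p (geo κ τ Ω) ↘ Spec (CommRingCat.of Ω)) :=
    (inferInstance : IsProper (pullback.snd p (geo κ τ Ω)))
  rw [← Snap9.euler_eq_eulerCharLE κ _ 1 hdim, ← Snap9.euler_eq_eulerCharLE κ _ 1 hdim]
  have hcohL := ProperFinH9.isCoh_of_isInvertible
    (TensH8.isInvertible_pullback (pullback.fst p τ) hL)
  haveI := hcohL.1
  haveI := (CohDevH8.isCoh_structureModule (pullback p τ)).1
  rw [← euler_fibre_eq p κ τ Ω ((Scheme.Modules.pullback (pullback.fst p τ)).obj L),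
    ← euler_fibre_eq p κ τ Ω (Coh.structureModule (pullback p τ))]
  have h1 := TauEq.euler_tensor_of_algEquivZero Ω (pullback p (geo κ τ Ω)) h
    (Coh.structureModule _) (CohDevH8.isCoh_structureModule _)
  rw [CurveTens.euler_of_iso Ω _ (Groth.Agent.CMMul.unitorL _)] at h1
  have e1 : (Scheme.Modules.pullback (cmp p κ τ Ω)).obj
      ((Scheme.Modules.pullback (pullback.fst p τ)).obj L) ≅
      (Scheme.Modules.pullback (pullback.fst p (geo κ τ Ω))).obj L :=
    (Scheme.Modules.pullbackComp (cmp p κ τ Ω) (pullback.fst p τ)).app L ≪≫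
      (Scheme.Modules.pullbackCongr (cmp_fst p κ τ Ω)).app L
  rw [CurveTens.euler_of_iso Ω _ e1,
    CurveTens.euler_of_iso Ω _ (PBH8.pullbackUnitIso (cmp p κ τ Ω))]
  exact h1

end BC

end PicZeroDeg
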