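import Mathlib

set_option autoImplicit false
set_option linter.unusedSimpArgs false
set_option linter.unusedVariables false
set_option linter.unusedSectionVars false
set_option linter.style.longLine false
set_option linter.unnecessarySimpa false
set_option maxHeartbeats 1600000
set_option backward.isDefEq.respectTransparency false
set_option backward.isDefEq.respectTransparency.types false
set_option backward.defeqAttrib.useBackward true

/-!
# The Picardification of a symmetric monoidal groupoid: construction (lead)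

Objects are formal expressions in objects of `A`, a unit, tensor products and formal inverses.
Morphisms are generated by the structural isomorphisms of a symmetric monoidal category, the morphisms
of `A`, formal inverses of all morphisms, the lax structure maps of `A → V` and a trivialisation
`X ⊗ X⁻¹ → 1`, modulo the evident relations.
-/

universe v u

open CategoryTheory MonoidalCategory

namespace Groth.Agent.Lib.Picardify

/-- objects of the Picardification -/
inductive PObj (A : Type u) : Type u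
  | of : A → PObj A
  | unit : PObj A
  | tensor : PObj A → PObj A → PObj A
  | inv : PObj A → PObj A

variable {A : Type u} [Category.{v} A] [MonoidalCategory A] [SymmetricCategory A]

/-- formal morphisms -/
inductive PHom : PObj A → PObj A → Type (max u v)
  | id (X : PObj A) : PHom X X
  | comp {X Y Z : PObj A} (f : PHom X Y) (g : PHom Y Z) : PHom X Z
  | symm {X Y : PObj A} (f : PHom X Y) : PHom Y X
  | whiskerLeft (X : PObj A) {Y₁ Y₂ : PObj A} (f : PHom Y₁ Y₂) : PHom (X.tensor Y₁) (X.tensor Y₂)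
  | whiskerRight {X₁ X₂ : PObj A} (f : PHom X₁ X₂) (Y : PObj A) : PHom (X₁.tensor Y) (X₂.tensor Y)
  | tensor {W X Y Z : PObj A} (f : PHom W Y) (g : PHom X Z) : PHom (W.tensor X) (Y.tensor Z)
  | α (X Y Z : PObj A) : PHom ((X.tensor Y).tensor Z) (X.tensor (Y.tensor Z))
  | l (X : PObj A) : PHom (PObj.unit.tensor X) X
  | r (X : PObj A) : PHom (X.tensor PObj.unit) X
  | β (X Y : PObj A) : PHom (X.tensor Y) (Y.tensor X)
  | of {a b : A} (f : a ⟶ b) : PHom (PObj.of a) (PObj.of b)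
  | μ (a b : A) : PHom ((PObj.of a).tensor (PObj.of b)) (PObj.of (a ⊗ b))
  | ε : PHom PObj.unit (PObj.of (𝟙_ A))
  | η (X : PObj A) : PHom (X.tensor X.inv) PObj.unit

/-- the relations -/
inductive HomEquiv : ∀ {X Y : PObj A}, PHom X Y → PHom X Y → Prop
  | refl {X Y} (f : PHom X Y) : HomEquiv f f
  | symm {X Y} (f g : PHom X Y) : HomEquiv f g → HomEquiv g f
  | trans {X Y} {f g h : PHom X Y} : HomEquiv f g → HomEquiv g h → HomEquiv f h
  | comp {X Y Z} {f f' : PHom X Y} {g g' : PHom Y Z} :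
      HomEquiv f f' → HomEquiv g g' → HomEquiv (f.comp g) (f'.comp g')
  | inv {X Y} {f f' : PHom X Y} : HomEquiv f f' → HomEquiv f.symm f'.symm
  | whiskerLeft (X) {Y Z} (f f' : PHom Y Z) :
      HomEquiv f f' → HomEquiv (f.whiskerLeft X) (f'.whiskerLeft X)
  | whiskerRight {Y Z} (f f' : PHom Y Z) (X) :
      HomEquiv f f' → HomEquiv (f.whiskerRight X) (f'.whiskerRight X)
  | tensor {W X Y Z} {f f' : PHom W X} {g g' : PHom Y Z} :
      HomEquiv f f' → HomEquiv g g' → HomEquiv (f.tensor g) (f'.tensor g')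
  | tensorHom_def {X₁ Y₁ X₂ Y₂} (f : PHom X₁ Y₁) (g : PHom X₂ Y₂) :
      HomEquiv (f.tensor g) ((f.whiskerRight X₂).comp (g.whiskerLeft Y₁))
  | comp_id {X Y} (f : PHom X Y) : HomEquiv (f.comp (PHom.id _)) f
  | id_comp {X Y} (f : PHom X Y) : HomEquiv ((PHom.id _).comp f) f
  | assoc {X Y U V : PObj A} (f : PHom X U) (g : PHom U V) (h : PHom V Y) :
      HomEquiv ((f.comp g).comp h) (f.comp (g.comp h))
  | comp_symm {X Y} (f : PHom X Y) : HomEquiv (f.comp f.symm) (PHom.id _)
  | symm_comp {X Y} (f : PHom X Y) : HomEquiv (f.symm.comp f) (PHom.id _)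
  | id_tensorHom_id {X Y} : HomEquiv ((PHom.id X).tensor (PHom.id Y)) (PHom.id _)
  | tensorHom_comp_tensorHom {X₁ Y₁ Z₁ X₂ Y₂ Z₂ : PObj A} (f₁ : PHom X₁ Y₁) (f₂ : PHom X₂ Y₂)
      (g₁ : PHom Y₁ Z₁) (g₂ : PHom Y₂ Z₂) :
    HomEquiv ((f₁.tensor f₂).comp (g₁.tensor g₂)) ((f₁.comp g₁).tensor (f₂.comp g₂))
  | whiskerLeft_id (X Y) : HomEquiv ((PHom.id Y).whiskerLeft X) (PHom.id (X.tensor Y))
  | id_whiskerRight (X Y) : HomEquiv ((PHom.id X).whiskerRight Y) (PHom.id (X.tensor Y))
  | associator_naturality {X₁ X₂ X₃ Y₁ Y₂ Y₃} (f₁ : PHom X₁ Y₁) (f₂ : PHom X₂ Y₂) (f₃ : PHom X₃ Y₃) :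
      HomEquiv (((f₁.tensor f₂).tensor f₃).comp (PHom.α Y₁ Y₂ Y₃))
        ((PHom.α X₁ X₂ X₃).comp (f₁.tensor (f₂.tensor f₃)))
  | r_naturality {X Y} (f : PHom X Y) :
      HomEquiv ((f.whiskerRight PObj.unit).comp (PHom.r Y)) ((PHom.r X).comp f)
  | l_naturality {X Y} (f : PHom X Y) :
      HomEquiv ((f.whiskerLeft PObj.unit).comp (PHom.l Y)) ((PHom.l X).comp f)
  | pentagon {W X Y Z} :
      HomEquiv
        (((PHom.α W X Y).whiskerRight Z).comp
          ((PHom.α W (X.tensor Y) Z).comp ((PHom.α X Y Z).whiskerLeft W)))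
        ((PHom.α (W.tensor X) Y Z).comp (PHom.α W X (Y.tensor Z)))
  | triangle {X Y} :
      HomEquiv ((PHom.α X PObj.unit Y).comp ((PHom.l Y).whiskerLeft X))
        ((PHom.r X).whiskerRight Y)
  | β_naturality_right (X) {Y Z} (f : PHom Y Z) :
      HomEquiv ((f.whiskerLeft X).comp (PHom.β X Z)) ((PHom.β X Y).comp (f.whiskerRight X))
  | β_naturality_left {X Y} (f : PHom X Y) (Z) :
      HomEquiv ((f.whiskerRight Z).comp (PHom.β Y Z)) ((PHom.β X Z).comp (f.whiskerLeft Z))
  | hexagon_forward (X Y Z : PObj A) :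
      HomEquiv ((PHom.α X Y Z).comp ((PHom.β X (Y.tensor Z)).comp (PHom.α Y Z X)))
        (((PHom.β X Y).whiskerRight Z).comp ((PHom.α Y X Z).comp ((PHom.β X Z).whiskerLeft Y)))
  | hexagon_reverse (X Y Z : PObj A) :
      HomEquiv ((PHom.α X Y Z).symm.comp ((PHom.β (X.tensor Y) Z).comp (PHom.α Z X Y).symm))
        (((PHom.β Y Z).whiskerLeft X).comp ((PHom.α X Z Y).symm.comp ((PHom.β X Z).whiskerRight Y)))
  | symmetry (X Y : PObj A) : HomEquiv ((PHom.β X Y).comp (PHom.β Y X)) (PHom.id _)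
  | of_id (a : A) : HomEquiv (PHom.of (𝟙 a)) (PHom.id _)
  | of_comp {a b c : A} (f : a ⟶ b) (g : b ⟶ c) :
      HomEquiv (PHom.of (f ≫ g)) ((PHom.of f).comp (PHom.of g))
  | μ_natural_left {a b : A} (f : a ⟶ b) (c : A) :
      HomEquiv (((PHom.of f).whiskerRight (PObj.of c)).comp (PHom.μ b c))
        ((PHom.μ a c).comp (PHom.of (f ▷ c)))
  | μ_natural_right {a b : A} (c : A) (f : a ⟶ b) :
      HomEquiv (((PHom.of f).whiskerLeft (PObj.of c)).comp (PHom.μ c b))
        ((PHom.μ c a).comp (PHom.of (c ◁ f)))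
  | μ_assoc (a b c : A) :
      HomEquiv (((PHom.μ a b).whiskerRight (PObj.of c)).comp
          ((PHom.μ (a ⊗ b) c).comp (PHom.of (α_ a b c).hom)))
        ((PHom.α (PObj.of a) (PObj.of b) (PObj.of c)).comp
          (((PHom.μ b c).whiskerLeft (PObj.of a)).comp (PHom.μ a (b ⊗ c))))
  | left_unitality (a : A) :
      HomEquiv (PHom.l (PObj.of a))
        ((PHom.ε.whiskerRight (PObj.of a)).comp ((PHom.μ (𝟙_ A) a).comp (PHom.of (λ_ a).hom)))
  | right_unitality (a : A) :
      HomEquiv (PHom.r (PObj.of a))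
        ((PHom.ε.whiskerLeft (PObj.of a)).comp ((PHom.μ a (𝟙_ A)).comp (PHom.of (ρ_ a).hom)))
  | μ_braided (a b : A) :
      HomEquiv ((PHom.μ a b).comp (PHom.of (β_ a b).hom))
        ((PHom.β (PObj.of a) (PObj.of b)).comp (PHom.μ b a))

instance setoidHom (X Y : PObj A) : Setoid (PHom X Y) :=
  ⟨HomEquiv, ⟨HomEquiv.refl, HomEquiv.symm _ _, HomEquiv.trans⟩⟩

open HomEquiv

instance categoryPObj : Category.{max u v} (PObj A) where
  Hom X Y := Quotient (setoidHom X Y)
  id X := ⟦PHom.id X⟧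
  comp := Quotient.map₂ PHom.comp (fun _ _ hf _ _ hg => HomEquiv.comp hf hg)
  id_comp := by
    rintro X Y ⟨f⟩
    exact Quotient.sound (HomEquiv.id_comp f)
  comp_id := by
    rintro X Y ⟨f⟩
    exact Quotient.sound (HomEquiv.comp_id f)
  assoc := by
    rintro W X Y Z ⟨f⟩ ⟨g⟩ ⟨h⟩
    exact Quotient.sound (HomEquiv.assoc f g h)

/-- the class of a formal morphism -/
abbrev homMk {X Y : PObj A} (f : PHom X Y) : X ⟶ Y := ⟦f⟧

instance isGroupoidPObj : IsGroupoid (PObj A) where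
  all_isIso := by
    rintro X Y ⟨f⟩
    exact ⟨⟨homMk f.symm, Quotient.sound (HomEquiv.comp_symm f), Quotient.sound (HomEquiv.symm_comp f)⟩⟩

instance monoidalPObj : MonoidalCategory (PObj A) where
  tensorObj X Y := PObj.tensor X Y
  tensorHom := Quotient.map₂ PHom.tensor (fun _ _ hf _ _ hg => HomEquiv.tensor hf hg)
  whiskerLeft X _ _ f := Quot.map (fun f => PHom.whiskerLeft X f) (fun f f' => .whiskerLeft X f f') f
  whiskerRight f Y := Quot.map (fun f => PHom.whiskerRight f Y) (fun f f' => .whiskerRight f f' Y) f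
  tensorHom_def {W X Y Z} := by
    rintro ⟨f⟩ ⟨g⟩
    exact Quotient.sound (HomEquiv.tensorHom_def _ _)
  id_tensorHom_id _ _ := Quot.sound HomEquiv.id_tensorHom_id
  tensorHom_comp_tensorHom {X₁ Y₁ Z₁ X₂ Y₂ Z₂} := by
    rintro ⟨f₁⟩ ⟨f₂⟩ ⟨g₁⟩ ⟨g₂⟩
    exact Quotient.sound (HomEquiv.tensorHom_comp_tensorHom _ _ _ _)
  whiskerLeft_id X Y := Quot.sound (HomEquiv.whiskerLeft_id X Y)
  id_whiskerRight X Y := Quot.sound (HomEquiv.id_whiskerRight X Y)
  tensorUnit := PObj.unit
  associator X Y Z :=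
    ⟨homMk (PHom.α X Y Z), homMk (PHom.α X Y Z).symm, Quotient.sound (HomEquiv.comp_symm _),
      Quotient.sound (HomEquiv.symm_comp _)⟩
  associator_naturality {X₁ X₂ X₃ Y₁ Y₂ Y₃} := by
    rintro ⟨f₁⟩ ⟨f₂⟩ ⟨f₃⟩
    exact Quotient.sound (HomEquiv.associator_naturality _ _ _)
  leftUnitor X :=
    ⟨homMk (PHom.l X), homMk (PHom.l X).symm, Quotient.sound (HomEquiv.comp_symm _),
      Quotient.sound (HomEquiv.symm_comp _)⟩
  leftUnitor_naturality {X Y} := by
    rintro ⟨f⟩
    exact Quotient.sound (HomEquiv.l_naturality _)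
  rightUnitor X :=
    ⟨homMk (PHom.r X), homMk (PHom.r X).symm, Quotient.sound (HomEquiv.comp_symm _),
      Quotient.sound (HomEquiv.symm_comp _)⟩
  rightUnitor_naturality {X Y} := by
    rintro ⟨f⟩
    exact Quotient.sound (HomEquiv.r_naturality _)
  pentagon _ _ _ _ := Quotient.sound HomEquiv.pentagon
  triangle _ _ := Quotient.sound HomEquiv.triangle

instance braidedPObj : BraidedCategory (PObj A) where
  braiding X Y :=
    ⟨homMk (PHom.β X Y), homMk (PHom.β Y X), Quotient.sound (HomEquiv.symmetry X Y),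
      Quotient.sound (HomEquiv.symmetry Y X)⟩
  braiding_naturality_right X {Y Z} := by
    rintro ⟨f⟩
    exact Quotient.sound (HomEquiv.β_naturality_right X f)
  braiding_naturality_left {X Y} := by
    rintro ⟨f⟩ Z
    exact Quotient.sound (HomEquiv.β_naturality_left f Z)
  hexagon_forward X Y Z := Quotient.sound (HomEquiv.hexagon_forward X Y Z)
  hexagon_reverse X Y Z := Quotient.sound (HomEquiv.hexagon_reverse X Y Z)

instance symmetricPObj : SymmetricCategory (PObj A) where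
  symmetry X Y := Quotient.sound (HomEquiv.symmetry X Y)

@[simp] theorem mk_comp {X Y Z : PObj A} (f : PHom X Y) (g : PHom Y Z) :
    homMk (f.comp g) = homMk f ≫ homMk g := rfl

@[simp] theorem mk_id {X : PObj A} : homMk (PHom.id X) = 𝟙 X := rfl

@[simp] theorem mk_whiskerLeft (X : PObj A) {Y₁ Y₂ : PObj A} (f : PHom Y₁ Y₂) :
    homMk (f.whiskerLeft X) = X ◁ homMk f := rfl

@[simp] theorem mk_whiskerRight {X₁ X₂ : PObj A} (f : PHom X₁ X₂) (Y : PObj A) :
    homMk (f.whiskerRight Y) = homMk f ▷ Y := rfl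

@[simp] theorem mk_tensor {X₁ Y₁ X₂ Y₂ : PObj A} (f : PHom X₁ Y₁) (g : PHom X₂ Y₂) :
    homMk (f.tensor g) = homMk f ⊗ₘ homMk g := rfl

@[simp] theorem mk_α {X Y Z : PObj A} : homMk (PHom.α X Y Z) = (α_ X Y Z).hom := rfl
@[simp] theorem mk_l {X : PObj A} : homMk (PHom.l X) = (λ_ X).hom := rfl
@[simp] theorem mk_r {X : PObj A} : homMk (PHom.r X) = (ρ_ X).hom := rfl
@[simp] theorem mk_β {X Y : PObj A} : homMk (PHom.β X Y) = (β_ X Y).hom := rfl

theorem mk_comp_mk_symm {X Y : PObj A} (f : PHom X Y) : homMk f ≫ homMk f.symm = 𝟙 X :=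
  Quotient.sound (HomEquiv.comp_symm f)

theorem mk_symm_comp_mk {X Y : PObj A} (f : PHom X Y) : homMk f.symm ≫ homMk f = 𝟙 Y :=
  Quotient.sound (HomEquiv.symm_comp f)

theorem tensor_eq (X Y : PObj A) : PObj.tensor X Y = X ⊗ Y := rfl
theorem unit_eq : (PObj.unit : PObj A) = 𝟙_ (PObj A) := rfl

/-- the trivialisation `X ⊗ X⁻¹ ⟶ 1` -/
def etaV (X : PObj A) : X ⊗ X.inv ⟶ 𝟙_ (PObj A) := homMk (PHom.η X)

/-- the canonical functor `A ⥤ V` -/
def iFun (A : Type u) [Category.{v} A] [MonoidalCategory A] [SymmetricCategory A] : A ⥤ PObj A where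
  obj := PObj.of
  map f := homMk (PHom.of f)
  map_id a := Quotient.sound (HomEquiv.of_id a)
  map_comp f g := Quotient.sound (HomEquiv.of_comp f g)

instance iLaxBraided : (iFun A).LaxBraided where
  ε := homMk PHom.ε
  μ a b := homMk (PHom.μ a b)
  μ_natural_left f c := Quotient.sound (HomEquiv.μ_natural_left f c)
  μ_natural_right c f := Quotient.sound (HomEquiv.μ_natural_right c f)
  associativity a b c := Quotient.sound (HomEquiv.μ_assoc a b c)
  left_unitality a := Quotient.sound (HomEquiv.left_unitality a)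
  right_unitality a := Quotient.sound (HomEquiv.right_unitality a)
  braided a b := Quotient.sound (HomEquiv.μ_braided a b)

theorem iFun_obj (a : A) : (iFun A).obj a = PObj.of a := rfl
theorem iFun_map {a b : A} (f : a ⟶ b) : (iFun A).map f = homMk (PHom.of f) := rfl
theorem iFun_ε : Functor.LaxMonoidal.ε (iFun A) = homMk PHom.ε := rfl
theorem iFun_μ (a b : A) : Functor.LaxMonoidal.μ (iFun A) a b = homMk (PHom.μ a b) := rfl

section Picard

variable {C : Type*} [Category C] [MonoidalCategory C]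

theorem tensorLeft_isEquivalence_of_iso (X X' : C) (e : X ⊗ X' ≅ 𝟙_ C) (e' : X' ⊗ X ≅ 𝟙_ C) :
    (tensorLeft X).IsEquivalence :=
  (CategoryTheory.Equivalence.mk (tensorLeft X) (tensorLeft X')
    ((leftUnitorNatIso C).symm ≪≫ ((curriedTensor C).mapIso e').symm ≪≫ tensorLeftTensor X' X)
    ((tensorLeftTensor X X').symm ≪≫ (curriedTensor C).mapIso e ≪≫ leftUnitorNatIso C)).isEquivalence_functor

theorem tensorRight_isEquivalence_of_iso (X X' : C) (e : X ⊗ X' ≅ 𝟙_ C) (e' : X' ⊗ X ≅ 𝟙_ C) :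
    (tensorRight X).IsEquivalence :=
  (CategoryTheory.Equivalence.mk (tensorRight X) (tensorRight X')
    ((rightUnitorNatIso C).symm ≪≫ ((curriedTensor C).flip.mapIso e).symm ≪≫ tensorRightTensor X X')
    ((tensorRightTensor X' X).symm ≪≫ (curriedTensor C).flip.mapIso e' ≪≫ rightUnitorNatIso C)).isEquivalence_functor

end Picard

theorem picard (X : PObj A) : (tensorLeft X).IsEquivalence ∧ (tensorRight X).IsEquivalence := by
  have e : X ⊗ X.inv ≅ 𝟙_ (PObj A) := asIso (etaV X)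
  have e' : X.inv ⊗ X ≅ 𝟙_ (PObj A) := (β_ X.inv X) ≪≫ e
  exact ⟨tensorLeft_isEquivalence_of_iso X X.inv e e', tensorRight_isEquivalence_of_iso X X.inv e e'⟩

end Groth.Agent.Lib.Picardify
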