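import Groth.Agent.Lib.PicardifyA_lead

set_option autoImplicit false
set_option linter.unusedSimpArgs false
set_option linter.unusedVariables false
set_option linter.unusedSectionVars false
set_option linter.style.longLine false
set_option linter.unnecessarySimpa false
set_option maxHeartbeats 1600000
set_option backward.isDefEq.respectTransparency false
set_option backward.isDefEq.respectTransparency.types false
set_option backward.defeqAttrib.useBackward true

/-!
# The Picardification: extension of lax braided functors to Picard categories (lead)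
-/

universe v v' u u'

open CategoryTheory MonoidalCategory Functor.LaxMonoidal

namespace Groth.Agent.Lib.Picardify

variable {A : Type u} [Category.{v} A] [MonoidalCategory A] [SymmetricCategory A]
  {P : Type u'} [Category.{v'} P] [MonoidalCategory P] [SymmetricCategory P] [IsGroupoid P]
  (hP : ∀ X : P, (tensorLeft X).IsEquivalence ∧ (tensorRight X).IsEquivalence)
  (Φ : A ⥤ P) [Φ.LaxBraided]

/-- a chosen inverse of an object of a Picard category -/
noncomputable def invObj (p : P) : P :=
  haveI := (hP p).1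
  (tensorLeft p).objPreimage (𝟙_ P)

/-- the chosen trivialisation -/
noncomputable def invIso (p : P) : p ⊗ invObj hP p ≅ 𝟙_ P :=
  haveI := (hP p).1
  (tensorLeft p).objObjPreimageIso (𝟙_ P)

/-- the extension on objects -/
noncomputable def extObj : PObj A → P
  | .of a => Φ.obj a
  | .unit => 𝟙_ P
  | .tensor X Y => extObj X ⊗ extObj Y
  | .inv X => invObj hP (extObj X)

/-- the extension on formal morphisms -/
noncomputable def extHomAux : ∀ {X Y : PObj A}, PHom X Y → (extObj hP Φ X ⟶ extObj hP Φ Y)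
  | _, _, .id _ => 𝟙 _
  | _, _, .comp f g => extHomAux f ≫ extHomAux g
  | _, _, .symm f => inv (extHomAux f)
  | _, _, .whiskerLeft X f => extObj hP Φ X ◁ extHomAux f
  | _, _, .whiskerRight f Y => extHomAux f ▷ extObj hP Φ Y
  | _, _, .tensor f g => extHomAux f ⊗ₘ extHomAux g
  | _, _, .α _ _ _ => (α_ _ _ _).hom
  | _, _, .l _ => (λ_ _).hom
  | _, _, .r _ => (ρ_ _).hom
  | _, _, .β _ _ => (β_ _ _).hom
  | _, _, .of f => Φ.map f
  | _, _, .μ a b => μ Φ a b
  | _, _, .ε => ε Φ
  | _, _, .η X => (invIso hP (extObj hP Φ X)).hom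

theorem extHomAux_respects {X Y : PObj A} {f g : PHom X Y} (h : HomEquiv f g) :
    extHomAux hP Φ f = extHomAux hP Φ g := by
  induction h with
  | refl => rfl
  | symm _ _ _ ih => exact ih.symm
  | trans _ _ ih1 ih2 => exact ih1.trans ih2
  | comp _ _ ih1 ih2 => dsimp only [extHomAux]; rw [ih1, ih2]
  | inv _ ih => dsimp only [extHomAux]; exact IsIso.inv_eq_inv.2 ih
  | whiskerLeft _ _ _ _ ih => dsimp only [extHomAux, extObj]; rw [ih]
  | whiskerRight _ _ _ _ ih => dsimp only [extHomAux, extObj]; rw [ih]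
  | tensor _ _ ih1 ih2 => dsimp only [extHomAux]; rw [ih1, ih2]
  | tensorHom_def _ _ => dsimp only [extHomAux, extObj]; rw [MonoidalCategory.tensorHom_def]
  | comp_id _ => dsimp only [extHomAux]; rw [Category.comp_id]
  | id_comp _ => dsimp only [extHomAux]; rw [Category.id_comp]
  | assoc _ _ _ => dsimp only [extHomAux]; rw [Category.assoc]
  | comp_symm _ => dsimp only [extHomAux]; rw [IsIso.hom_inv_id]
  | symm_comp _ => dsimp only [extHomAux]; rw [IsIso.inv_hom_id]
  | id_tensorHom_id => dsimp only [extHomAux, extObj]; rw [MonoidalCategory.id_tensorHom_id]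
  | tensorHom_comp_tensorHom _ _ _ _ =>
      dsimp only [extHomAux]; rw [MonoidalCategory.tensorHom_comp_tensorHom]
  | whiskerLeft_id _ _ => dsimp only [extHomAux, extObj]; rw [MonoidalCategory.whiskerLeft_id]
  | id_whiskerRight _ _ => dsimp only [extHomAux, extObj]; rw [MonoidalCategory.id_whiskerRight]
  | associator_naturality _ _ _ =>
      dsimp only [extHomAux, extObj]; rw [MonoidalCategory.associator_naturality]
  | r_naturality _ => dsimp only [extHomAux, extObj]; rw [MonoidalCategory.rightUnitor_naturality]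
  | l_naturality _ => dsimp only [extHomAux, extObj]; rw [MonoidalCategory.leftUnitor_naturality]
  | pentagon => dsimp only [extHomAux, extObj]; rw [MonoidalCategory.pentagon]
  | triangle => dsimp only [extHomAux, extObj]; rw [MonoidalCategory.triangle]
  | β_naturality_right _ _ =>
      dsimp only [extHomAux, extObj]; rw [BraidedCategory.braiding_naturality_right]
  | β_naturality_left _ _ =>
      dsimp only [extHomAux, extObj]; rw [BraidedCategory.braiding_naturality_left]
  | hexagon_forward _ _ _ => dsimp only [extHomAux, extObj]; rw [BraidedCategory.hexagon_forward]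
  | hexagon_reverse _ _ _ =>
      dsimp only [extHomAux, extObj]
      rw [IsIso.Iso.inv_hom, IsIso.Iso.inv_hom, IsIso.Iso.inv_hom, BraidedCategory.hexagon_reverse]
  | symmetry _ _ => dsimp only [extHomAux, extObj]; rw [SymmetricCategory.symmetry]
  | of_id _ => dsimp only [extHomAux, extObj]; rw [CategoryTheory.Functor.map_id]
  | of_comp _ _ => dsimp only [extHomAux]; rw [CategoryTheory.Functor.map_comp]
  | μ_natural_left _ _ => dsimp only [extHomAux, extObj]; rw [μ_natural_left]
  | μ_natural_right _ _ => dsimp only [extHomAux, extObj]; rw [μ_natural_right]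
  | μ_assoc _ _ _ => dsimp only [extHomAux, extObj]; rw [associativity]
  | left_unitality _ => dsimp only [extHomAux, extObj]; rw [left_unitality]
  | right_unitality _ => dsimp only [extHomAux, extObj]; rw [right_unitality]
  | μ_braided _ _ => dsimp only [extHomAux, extObj]; rw [Functor.LaxBraided.braided]

/-- the extension functor -/
noncomputable def ext : PObj A ⥤ P where
  obj := extObj hP Φ
  map {X Y} := Quotient.lift (extHomAux hP Φ) (fun _ _ h => extHomAux_respects hP Φ h)
  map_id X := rfl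
  map_comp := by
    rintro _ _ _ ⟨f⟩ ⟨g⟩
    rfl

@[simp] theorem ext_obj (X : PObj A) : (ext hP Φ).obj X = extObj hP Φ X := rfl

@[simp] theorem ext_map_mk {X Y : PObj A} (f : PHom X Y) :
    (ext hP Φ).map (homMk f) = extHomAux hP Φ f := rfl

noncomputable instance extLaxBraided : (ext hP Φ).LaxBraided where
  ε := 𝟙 (𝟙_ P)
  μ X Y := 𝟙 (extObj hP Φ X ⊗ extObj hP Φ Y)
  μ_natural_left := by
    rintro X Y ⟨f⟩ X'
    show (extHomAux hP Φ f ▷ extObj hP Φ X') ≫ 𝟙 _ = 𝟙 _ ≫ extHomAux hP Φ (f.whiskerRight X')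
    rw [Category.comp_id, Category.id_comp]
    rfl
  μ_natural_right := by
    rintro X Y X' ⟨f⟩
    show (extObj hP Φ X' ◁ extHomAux hP Φ f) ≫ 𝟙 _ = 𝟙 _ ≫ extHomAux hP Φ (f.whiskerLeft X')
    rw [Category.comp_id, Category.id_comp]
    rfl
  associativity X Y Z := by
    show (𝟙 (extObj hP Φ X ⊗ extObj hP Φ Y) ▷ extObj hP Φ Z) ≫ 𝟙 _ ≫
        (α_ (extObj hP Φ X) (extObj hP Φ Y) (extObj hP Φ Z)).hom =
      (α_ (extObj hP Φ X) (extObj hP Φ Y) (extObj hP Φ Z)).hom ≫
        (extObj hP Φ X ◁ 𝟙 (extObj hP Φ Y ⊗ extObj hP Φ Z)) ≫ 𝟙 _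
    rw [MonoidalCategory.id_whiskerRight, MonoidalCategory.whiskerLeft_id, Category.id_comp,
      Category.id_comp, Category.comp_id, Category.comp_id]
  left_unitality X := by
    show (λ_ (extObj hP Φ X)).hom = (𝟙 (𝟙_ P) ▷ extObj hP Φ X) ≫ 𝟙 _ ≫ (λ_ (extObj hP Φ X)).hom
    rw [MonoidalCategory.id_whiskerRight, Category.id_comp, Category.id_comp]
  right_unitality X := by
    show (ρ_ (extObj hP Φ X)).hom = (extObj hP Φ X ◁ 𝟙 (𝟙_ P)) ≫ 𝟙 _ ≫ (ρ_ (extObj hP Φ X)).hom
    rw [MonoidalCategory.whiskerLeft_id, Category.id_comp, Category.id_comp]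
  braided X Y := by
    show 𝟙 _ ≫ (β_ (extObj hP Φ X) (extObj hP Φ Y)).hom = (β_ (extObj hP Φ X) (extObj hP Φ Y)).hom ≫ 𝟙 _
    rw [Category.comp_id, Category.id_comp]

/-- the comparison isomorphism `i ⋙ ext ≅ Φ` (the identity on components) -/
noncomputable def extIso : iFun A ⋙ ext hP Φ ≅ Φ :=
  NatIso.ofComponents (fun a => Iso.refl (Φ.obj a)) (by
    intro a b f
    show Φ.map f ≫ 𝟙 _ = 𝟙 _ ≫ Φ.map f
    rw [Category.comp_id, Category.id_comp])

theorem extIso_isMonoidal : NatTrans.IsMonoidal (extIso hP Φ).hom where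
  unit := by
    show (𝟙 (𝟙_ P) ≫ ε Φ) ≫ 𝟙 _ = ε Φ
    rw [Category.comp_id, Category.id_comp]
  tensor a b := by
    show (𝟙 (Φ.obj a ⊗ Φ.obj b) ≫ μ Φ a b) ≫ 𝟙 _ = (𝟙 (Φ.obj a) ⊗ₘ 𝟙 (Φ.obj b)) ≫ μ Φ a b
    rw [Category.comp_id, MonoidalCategory.id_tensorHom_id]

include hP in
theorem exists_extension :
    ∃ (Ψ : PObj A ⥤ P) (_ : Ψ.LaxBraided) (η : iFun A ⋙ Ψ ≅ Φ), NatTrans.IsMonoidal η.hom :=
  ⟨ext hP Φ, extLaxBraided hP Φ, extIso hP Φ, extIso_isMonoidal hP Φ⟩

end Groth.Agent.Lib.Picardify
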