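import Groth.Agent.Lib.PicardifyA_lead

set_option autoImplicit false
set_option linter.unusedSimpArgs false
set_option linter.unusedVariables false
set_option linter.unusedSectionVars false
set_option linter.style.longLine false
set_option linter.unnecessarySimpa false
set_option maxHeartbeats 1600000
set_option backward.isDefEq.respectTransparency false
set_option backward.isDefEq.respectTransparency.types false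
set_option backward.defeqAttrib.useBackward true

/-!
# The Picardification: monoidal transformations are determined by their restriction (lead)
-/

universe v v' u u'

open CategoryTheory MonoidalCategory Functor.LaxMonoidal

namespace Groth.Agent.Lib.Picardify

variable {A : Type u} [Category.{v} A] [MonoidalCategory A] [SymmetricCategory A]
  {P : Type u'} [Category.{v'} P] [MonoidalCategory P] [SymmetricCategory P] [IsGroupoid P]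
  (hP : ∀ X : P, (tensorLeft X).IsEquivalence ∧ (tensorRight X).IsEquivalence)
  (Ψ Ψ' : PObj A ⥤ P) [Ψ.LaxBraided] [Ψ'.LaxBraided]
  (τ : iFun A ⋙ Ψ ⟶ iFun A ⋙ Ψ')

/-- the morphism `Ψ'X ⊗ Ψ(X⁻¹) ⟶ Ψ'X ⊗ Ψ'(X⁻¹)` forced by naturality with respect to `X ⊗ X⁻¹ ⟶ 1` -/
noncomputable def kappa (X : PObj A) (t : Ψ.obj X ⟶ Ψ'.obj X) :
    Ψ'.obj X ⊗ Ψ.obj X.inv ⟶ Ψ'.obj X ⊗ Ψ'.obj X.inv :=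
  (inv t ▷ Ψ.obj X.inv) ≫ μ Ψ X X.inv ≫ Ψ.map (etaV X) ≫ inv (ε Ψ) ≫ ε Ψ' ≫
    inv (Ψ'.map (etaV X)) ≫ inv (μ Ψ' X X.inv)

/-- the components of the extended transformation -/
noncomputable def thetaObj : ∀ X : PObj A, Ψ.obj X ⟶ Ψ'.obj X
  | .of a => τ.app a
  | .unit => inv (ε Ψ) ≫ ε Ψ'
  | .tensor X Y => inv (μ Ψ X Y) ≫ (thetaObj X ⊗ₘ thetaObj Y) ≫ μ Ψ' X Y
  | .inv X =>
      haveI := (hP (Ψ'.obj X)).1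
      (tensorLeft (Ψ'.obj X)).preimage (kappa Ψ Ψ' X (thetaObj X))

local notation "θ" => thetaObj hP Ψ Ψ' τ

theorem thetaObj_of (a : A) : θ (PObj.of a) = τ.app a := rfl

theorem thetaObj_unit : θ (𝟙_ (PObj A)) = inv (ε Ψ) ≫ ε Ψ' := rfl

theorem thetaObj_tensor (X Y : PObj A) :
    θ (X ⊗ Y) = inv (μ Ψ X Y) ≫ (θ X ⊗ₘ θ Y) ≫ μ Ψ' X Y := rfl

@[reassoc]
theorem theta_unit : ε Ψ ≫ θ (𝟙_ (PObj A)) = ε Ψ' := by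
  rw [thetaObj_unit, IsIso.hom_inv_id_assoc]

@[reassoc]
theorem theta_tensor (X Y : PObj A) :
    μ Ψ X Y ≫ θ (X ⊗ Y) = (θ X ⊗ₘ θ Y) ≫ μ Ψ' X Y := by
  rw [thetaObj_tensor, IsIso.hom_inv_id_assoc]

theorem theta_inv (X : PObj A) : Ψ'.obj X ◁ θ X.inv = kappa Ψ Ψ' X (θ X) := by
  haveI := (hP (Ψ'.obj X)).1
  exact (tensorLeft (Ψ'.obj X)).map_preimage (kappa Ψ Ψ' X (θ X))

theorem theta_eta (X : PObj A) :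
    (θ X ⊗ₘ θ X.inv) ≫ μ Ψ' X X.inv ≫ Ψ'.map (etaV X) =
      μ Ψ X X.inv ≫ Ψ.map (etaV X) ≫ θ (𝟙_ (PObj A)) := by
  rw [MonoidalCategory.tensorHom_def, Category.assoc, theta_inv, thetaObj_unit]
  unfold kappa
  simp only [Category.assoc, IsIso.inv_hom_id, IsIso.inv_hom_id_assoc, Category.comp_id]
  rw [← MonoidalCategory.comp_whiskerRight_assoc, IsIso.hom_inv_id,
    MonoidalCategory.id_whiskerRight, Category.id_comp]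

section Nat

theorem nat_comp {X Y Z : PObj A} (F : X ⟶ Y) (G : Y ⟶ Z)
    (ihF : Ψ.map F ≫ θ Y = θ X ≫ Ψ'.map F) (ihG : Ψ.map G ≫ θ Z = θ Y ≫ Ψ'.map G) :
    Ψ.map (F ≫ G) ≫ θ Z = θ X ≫ Ψ'.map (F ≫ G) := by
  rw [Ψ.map_comp, Ψ'.map_comp, Category.assoc, ihG, ← Category.assoc, ihF, Category.assoc]

theorem nat_inv {X Y : PObj A} (F : X ⟶ Y) (G : Y ⟶ X) (h1 : F ≫ G = 𝟙 X) (h2 : G ≫ F = 𝟙 Y)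
    (ih : Ψ.map F ≫ θ Y = θ X ≫ Ψ'.map F) : Ψ.map G ≫ θ X = θ Y ≫ Ψ'.map G := by
  have e1 : Ψ.map G ≫ Ψ.map F = 𝟙 _ := by rw [← Ψ.map_comp, h2, Ψ.map_id]
  have e2 : Ψ'.map F ≫ Ψ'.map G = 𝟙 _ := by rw [← Ψ'.map_comp, h1, Ψ'.map_id]
  calc Ψ.map G ≫ θ X = Ψ.map G ≫ θ X ≫ Ψ'.map F ≫ Ψ'.map G := by rw [e2, Category.comp_id]
    _ = Ψ.map G ≫ (Ψ.map F ≫ θ Y) ≫ Ψ'.map G := by rw [ih, Category.assoc]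
    _ = θ Y ≫ Ψ'.map G := by
        rw [Category.assoc, ← Category.assoc (Ψ.map G), e1, Category.id_comp]

theorem nat_whiskerLeft (X : PObj A) {Y Z : PObj A} (F : Y ⟶ Z)
    (ih : Ψ.map F ≫ θ Z = θ Y ≫ Ψ'.map F) :
    Ψ.map (X ◁ F) ≫ θ (X ⊗ Z) = θ (X ⊗ Y) ≫ Ψ'.map (X ◁ F) := by
  rw [← cancel_epi (μ Ψ X Y)]
  calc μ Ψ X Y ≫ Ψ.map (X ◁ F) ≫ θ (X ⊗ Z)
      = Ψ.obj X ◁ Ψ.map F ≫ μ Ψ X Z ≫ θ (X ⊗ Z) := by rw [← μ_natural_right_assoc]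
    _ = Ψ.obj X ◁ Ψ.map F ≫ (θ X ⊗ₘ θ Z) ≫ μ Ψ' X Z := by rw [theta_tensor]
    _ = (θ X ⊗ₘ (Ψ.map F ≫ θ Z)) ≫ μ Ψ' X Z := by
        rw [MonoidalCategory.whiskerLeft_comp_tensorHom_assoc]
    _ = (θ X ⊗ₘ (θ Y ≫ Ψ'.map F)) ≫ μ Ψ' X Z := by rw [ih]
    _ = (θ X ⊗ₘ θ Y) ≫ Ψ'.obj X ◁ Ψ'.map F ≫ μ Ψ' X Z := by
        rw [MonoidalCategory.tensorHom_comp_whiskerLeft_assoc]
    _ = (θ X ⊗ₘ θ Y) ≫ μ Ψ' X Y ≫ Ψ'.map (X ◁ F) := by rw [μ_natural_right]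
    _ = μ Ψ X Y ≫ θ (X ⊗ Y) ≫ Ψ'.map (X ◁ F) := by rw [theta_tensor_assoc]

theorem nat_whiskerRight {X Y : PObj A} (F : X ⟶ Y) (Z : PObj A)
    (ih : Ψ.map F ≫ θ Y = θ X ≫ Ψ'.map F) :
    Ψ.map (F ▷ Z) ≫ θ (Y ⊗ Z) = θ (X ⊗ Z) ≫ Ψ'.map (F ▷ Z) := by
  rw [← cancel_epi (μ Ψ X Z)]
  calc μ Ψ X Z ≫ Ψ.map (F ▷ Z) ≫ θ (Y ⊗ Z)
      = Ψ.map F ▷ Ψ.obj Z ≫ μ Ψ Y Z ≫ θ (Y ⊗ Z) := by rw [← μ_natural_left_assoc]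
    _ = Ψ.map F ▷ Ψ.obj Z ≫ (θ Y ⊗ₘ θ Z) ≫ μ Ψ' Y Z := by rw [theta_tensor]
    _ = ((Ψ.map F ≫ θ Y) ⊗ₘ θ Z) ≫ μ Ψ' Y Z := by
        rw [MonoidalCategory.whiskerRight_comp_tensorHom_assoc]
    _ = ((θ X ≫ Ψ'.map F) ⊗ₘ θ Z) ≫ μ Ψ' Y Z := by rw [ih]
    _ = (θ X ⊗ₘ θ Z) ≫ Ψ'.map F ▷ Ψ'.obj Z ≫ μ Ψ' Y Z := by
        rw [MonoidalCategory.tensorHom_comp_whiskerRight_assoc]
    _ = (θ X ⊗ₘ θ Z) ≫ μ Ψ' X Z ≫ Ψ'.map (F ▷ Z) := by rw [μ_natural_left]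
    _ = μ Ψ X Z ≫ θ (X ⊗ Z) ≫ Ψ'.map (F ▷ Z) := by rw [theta_tensor_assoc]

theorem nat_tensor {W X Y Z : PObj A} (F : W ⟶ Y) (G : X ⟶ Z)
    (ihF : Ψ.map F ≫ θ Y = θ W ≫ Ψ'.map F) (ihG : Ψ.map G ≫ θ Z = θ X ≫ Ψ'.map G) :
    Ψ.map (F ⊗ₘ G) ≫ θ (Y ⊗ Z) = θ (W ⊗ X) ≫ Ψ'.map (F ⊗ₘ G) := by
  rw [MonoidalCategory.tensorHom_def]
  exact nat_comp hP Ψ Ψ' τ _ _ (nat_whiskerRight hP Ψ Ψ' τ F X ihF) (nat_whiskerLeft hP Ψ Ψ' τ Y G ihG)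

theorem nat_α (X Y Z : PObj A) :
    Ψ.map (α_ X Y Z).hom ≫ θ (X ⊗ (Y ⊗ Z)) = θ ((X ⊗ Y) ⊗ Z) ≫ Ψ'.map (α_ X Y Z).hom := by
  rw [← cancel_epi (μ Ψ (X ⊗ Y) Z), ← cancel_epi (μ Ψ X Y ▷ Ψ.obj Z)]
  calc μ Ψ X Y ▷ Ψ.obj Z ≫ μ Ψ (X ⊗ Y) Z ≫ Ψ.map (α_ X Y Z).hom ≫ θ (X ⊗ (Y ⊗ Z))
      = (α_ (Ψ.obj X) (Ψ.obj Y) (Ψ.obj Z)).hom ≫ Ψ.obj X ◁ μ Ψ Y Z ≫ μ Ψ X (Y ⊗ Z) ≫
          θ (X ⊗ (Y ⊗ Z)) := by rw [associativity_assoc]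
    _ = (α_ (Ψ.obj X) (Ψ.obj Y) (Ψ.obj Z)).hom ≫ Ψ.obj X ◁ μ Ψ Y Z ≫
          (θ X ⊗ₘ θ (Y ⊗ Z)) ≫ μ Ψ' X (Y ⊗ Z) := by rw [theta_tensor]
    _ = (α_ (Ψ.obj X) (Ψ.obj Y) (Ψ.obj Z)).hom ≫
          (θ X ⊗ₘ (μ Ψ Y Z ≫ θ (Y ⊗ Z))) ≫ μ Ψ' X (Y ⊗ Z) := by
        rw [MonoidalCategory.whiskerLeft_comp_tensorHom_assoc]
    _ = (α_ (Ψ.obj X) (Ψ.obj Y) (Ψ.obj Z)).hom ≫
          (θ X ⊗ₘ ((θ Y ⊗ₘ θ Z) ≫ μ Ψ' Y Z)) ≫ μ Ψ' X (Y ⊗ Z) := by rw [theta_tensor]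
    _ = (α_ (Ψ.obj X) (Ψ.obj Y) (Ψ.obj Z)).hom ≫
          (θ X ⊗ₘ (θ Y ⊗ₘ θ Z)) ≫ Ψ'.obj X ◁ μ Ψ' Y Z ≫ μ Ψ' X (Y ⊗ Z) := by
        rw [MonoidalCategory.tensorHom_comp_whiskerLeft_assoc]
    _ = ((θ X ⊗ₘ θ Y) ⊗ₘ θ Z) ≫ (α_ (Ψ'.obj X) (Ψ'.obj Y) (Ψ'.obj Z)).hom ≫
          Ψ'.obj X ◁ μ Ψ' Y Z ≫ μ Ψ' X (Y ⊗ Z) := by
        rw [MonoidalCategory.associator_naturality_assoc]
    _ = ((θ X ⊗ₘ θ Y) ⊗ₘ θ Z) ≫ μ Ψ' X Y ▷ Ψ'.obj Z ≫ μ Ψ' (X ⊗ Y) Z ≫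
          Ψ'.map (α_ X Y Z).hom := by rw [associativity]
    _ = (((θ X ⊗ₘ θ Y) ≫ μ Ψ' X Y) ⊗ₘ θ Z) ≫ μ Ψ' (X ⊗ Y) Z ≫ Ψ'.map (α_ X Y Z).hom := by
        rw [MonoidalCategory.tensorHom_comp_whiskerRight_assoc]
    _ = ((μ Ψ X Y ≫ θ (X ⊗ Y)) ⊗ₘ θ Z) ≫ μ Ψ' (X ⊗ Y) Z ≫ Ψ'.map (α_ X Y Z).hom := by
        rw [theta_tensor]
    _ = μ Ψ X Y ▷ Ψ.obj Z ≫ (θ (X ⊗ Y) ⊗ₘ θ Z) ≫ μ Ψ' (X ⊗ Y) Z ≫ Ψ'.map (α_ X Y Z).hom := by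
        rw [MonoidalCategory.whiskerRight_comp_tensorHom_assoc]
    _ = μ Ψ X Y ▷ Ψ.obj Z ≫ μ Ψ (X ⊗ Y) Z ≫ θ ((X ⊗ Y) ⊗ Z) ≫ Ψ'.map (α_ X Y Z).hom := by
        rw [theta_tensor_assoc]

theorem nat_l (X : PObj A) :
    Ψ.map (λ_ X).hom ≫ θ X = θ (𝟙_ (PObj A) ⊗ X) ≫ Ψ'.map (λ_ X).hom := by
  rw [← cancel_epi (μ Ψ (𝟙_ (PObj A)) X), ← cancel_epi (ε Ψ ▷ Ψ.obj X)]
  calc ε Ψ ▷ Ψ.obj X ≫ μ Ψ (𝟙_ (PObj A)) X ≫ Ψ.map (λ_ X).hom ≫ θ X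
      = (λ_ (Ψ.obj X)).hom ≫ θ X := by rw [← left_unitality_assoc]
    _ = 𝟙_ P ◁ θ X ≫ (λ_ (Ψ'.obj X)).hom := by rw [MonoidalCategory.leftUnitor_naturality]
    _ = 𝟙_ P ◁ θ X ≫ ε Ψ' ▷ Ψ'.obj X ≫ μ Ψ' (𝟙_ (PObj A)) X ≫ Ψ'.map (λ_ X).hom := by
        rw [left_unitality Ψ' X]
    _ = (ε Ψ' ⊗ₘ θ X) ≫ μ Ψ' (𝟙_ (PObj A)) X ≫ Ψ'.map (λ_ X).hom := by
        rw [MonoidalCategory.tensorHom_def'_assoc]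
    _ = ((ε Ψ ≫ θ (𝟙_ (PObj A))) ⊗ₘ θ X) ≫ μ Ψ' (𝟙_ (PObj A)) X ≫ Ψ'.map (λ_ X).hom := by
        rw [theta_unit]
    _ = ε Ψ ▷ Ψ.obj X ≫ (θ (𝟙_ (PObj A)) ⊗ₘ θ X) ≫ μ Ψ' (𝟙_ (PObj A)) X ≫
          Ψ'.map (λ_ X).hom := by rw [MonoidalCategory.whiskerRight_comp_tensorHom_assoc]
    _ = ε Ψ ▷ Ψ.obj X ≫ μ Ψ (𝟙_ (PObj A)) X ≫ θ (𝟙_ (PObj A) ⊗ X) ≫ Ψ'.map (λ_ X).hom := by
        rw [theta_tensor_assoc]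

theorem nat_r (X : PObj A) :
    Ψ.map (ρ_ X).hom ≫ θ X = θ (X ⊗ 𝟙_ (PObj A)) ≫ Ψ'.map (ρ_ X).hom := by
  rw [← cancel_epi (μ Ψ X (𝟙_ (PObj A))), ← cancel_epi (Ψ.obj X ◁ ε Ψ)]
  calc Ψ.obj X ◁ ε Ψ ≫ μ Ψ X (𝟙_ (PObj A)) ≫ Ψ.map (ρ_ X).hom ≫ θ X
      = (ρ_ (Ψ.obj X)).hom ≫ θ X := by rw [← right_unitality_assoc]
    _ = θ X ▷ 𝟙_ P ≫ (ρ_ (Ψ'.obj X)).hom := by rw [MonoidalCategory.rightUnitor_naturality]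
    _ = θ X ▷ 𝟙_ P ≫ Ψ'.obj X ◁ ε Ψ' ≫ μ Ψ' X (𝟙_ (PObj A)) ≫ Ψ'.map (ρ_ X).hom := by
        rw [right_unitality Ψ' X]
    _ = (θ X ⊗ₘ ε Ψ') ≫ μ Ψ' X (𝟙_ (PObj A)) ≫ Ψ'.map (ρ_ X).hom := by
        rw [MonoidalCategory.tensorHom_def_assoc]
    _ = (θ X ⊗ₘ (ε Ψ ≫ θ (𝟙_ (PObj A)))) ≫ μ Ψ' X (𝟙_ (PObj A)) ≫ Ψ'.map (ρ_ X).hom := by
        rw [theta_unit]
    _ = Ψ.obj X ◁ ε Ψ ≫ (θ X ⊗ₘ θ (𝟙_ (PObj A))) ≫ μ Ψ' X (𝟙_ (PObj A)) ≫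
          Ψ'.map (ρ_ X).hom := by rw [MonoidalCategory.whiskerLeft_comp_tensorHom_assoc]
    _ = Ψ.obj X ◁ ε Ψ ≫ μ Ψ X (𝟙_ (PObj A)) ≫ θ (X ⊗ 𝟙_ (PObj A)) ≫ Ψ'.map (ρ_ X).hom := by
        rw [theta_tensor_assoc]

theorem nat_β (X Y : PObj A) :
    Ψ.map (β_ X Y).hom ≫ θ (Y ⊗ X) = θ (X ⊗ Y) ≫ Ψ'.map (β_ X Y).hom := by
  rw [← cancel_epi (μ Ψ X Y)]
  calc μ Ψ X Y ≫ Ψ.map (β_ X Y).hom ≫ θ (Y ⊗ X)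
      = (β_ (Ψ.obj X) (Ψ.obj Y)).hom ≫ μ Ψ Y X ≫ θ (Y ⊗ X) := by
        rw [Functor.LaxBraided.braided_assoc]
    _ = (β_ (Ψ.obj X) (Ψ.obj Y)).hom ≫ (θ Y ⊗ₘ θ X) ≫ μ Ψ' Y X := by rw [theta_tensor]
    _ = (θ X ⊗ₘ θ Y) ≫ (β_ (Ψ'.obj X) (Ψ'.obj Y)).hom ≫ μ Ψ' Y X := by
        rw [BraidedCategory.braiding_naturality_assoc]
    _ = (θ X ⊗ₘ θ Y) ≫ μ Ψ' X Y ≫ Ψ'.map (β_ X Y).hom := by rw [Functor.LaxBraided.braided]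
    _ = μ Ψ X Y ≫ θ (X ⊗ Y) ≫ Ψ'.map (β_ X Y).hom := by rw [theta_tensor_assoc]

theorem nat_η (X : PObj A) :
    Ψ.map (etaV X) ≫ θ (𝟙_ (PObj A)) = θ (X ⊗ X.inv) ≫ Ψ'.map (etaV X) := by
  rw [← cancel_epi (μ Ψ X X.inv), theta_tensor_assoc]
  exact (theta_eta hP Ψ Ψ' τ X).symm

variable [NatTrans.IsMonoidal τ]

theorem nat_μ (a b : A) :
    Ψ.map (μ (iFun A) a b) ≫ θ (PObj.of (a ⊗ b)) =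
      θ (PObj.of a ⊗ PObj.of b) ≫ Ψ'.map (μ (iFun A) a b) := by
  rw [← cancel_epi (μ Ψ (PObj.of a) (PObj.of b))]
  have h := NatTrans.IsMonoidal.tensor (τ := τ) a b
  simp only [comp_μ, Category.assoc] at h
  calc μ Ψ (PObj.of a) (PObj.of b) ≫ Ψ.map (μ (iFun A) a b) ≫ θ (PObj.of (a ⊗ b))
      = (θ (PObj.of a) ⊗ₘ θ (PObj.of b)) ≫ μ Ψ' (PObj.of a) (PObj.of b) ≫
          Ψ'.map (μ (iFun A) a b) := h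
    _ = μ Ψ (PObj.of a) (PObj.of b) ≫ θ (PObj.of a ⊗ PObj.of b) ≫ Ψ'.map (μ (iFun A) a b) := by
        rw [theta_tensor_assoc]

theorem nat_ε :
    Ψ.map (ε (iFun A)) ≫ θ (PObj.of (𝟙_ A)) = θ (𝟙_ (PObj A)) ≫ Ψ'.map (ε (iFun A)) := by
  rw [← cancel_epi (ε Ψ)]
  have h := NatTrans.IsMonoidal.unit (τ := τ)
  simp only [comp_ε, Category.assoc] at h
  calc ε Ψ ≫ Ψ.map (ε (iFun A)) ≫ θ (PObj.of (𝟙_ A)) = ε Ψ' ≫ Ψ'.map (ε (iFun A)) := h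
    _ = ε Ψ ≫ θ (𝟙_ (PObj A)) ≫ Ψ'.map (ε (iFun A)) := by rw [theta_unit_assoc]

theorem theta_nat_aux {X Y : PObj A} (f : PHom X Y) :
    Ψ.map (homMk f) ≫ θ Y = θ X ≫ Ψ'.map (homMk f) := by
  induction f with
  | id X =>
      show Ψ.map (𝟙 X) ≫ θ X = θ X ≫ Ψ'.map (𝟙 X)
      rw [Ψ.map_id, Ψ'.map_id, Category.id_comp, Category.comp_id]
  | comp f g ihf ihg => exact nat_comp hP Ψ Ψ' τ (homMk f) (homMk g) ihf ihg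
  | symm f ih =>
      exact nat_inv hP Ψ Ψ' τ (homMk f) (homMk f.symm) (mk_comp_mk_symm f) (mk_symm_comp_mk f) ih
  | whiskerLeft X f ih => exact nat_whiskerLeft hP Ψ Ψ' τ X (homMk f) ih
  | whiskerRight f Y ih => exact nat_whiskerRight hP Ψ Ψ' τ (homMk f) Y ih
  | tensor f g ihf ihg => exact nat_tensor hP Ψ Ψ' τ (homMk f) (homMk g) ihf ihg
  | α X Y Z => exact nat_α hP Ψ Ψ' τ X Y Z
  | l X => exact nat_l hP Ψ Ψ' τ X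
  | r X => exact nat_r hP Ψ Ψ' τ X
  | β X Y => exact nat_β hP Ψ Ψ' τ X Y
  | of f => exact τ.naturality f
  | μ a b => exact nat_μ hP Ψ Ψ' τ a b
  | ε => exact nat_ε hP Ψ Ψ' τ
  | η X => exact nat_η hP Ψ Ψ' τ X

/-- the extended transformation -/
noncomputable def thetaNat : Ψ ⟶ Ψ' where
  app := thetaObj hP Ψ Ψ' τ
  naturality := by
    rintro X Y ⟨f⟩
    exact theta_nat_aux hP Ψ Ψ' τ f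

theorem thetaNat_isMonoidal : NatTrans.IsMonoidal (thetaNat hP Ψ Ψ' τ) where
  unit := theta_unit hP Ψ Ψ' τ
  tensor X Y := theta_tensor hP Ψ Ψ' τ X Y

theorem whiskerLeft_thetaNat : Functor.whiskerLeft (iFun A) (thetaNat hP Ψ Ψ' τ) = τ := by
  ext a
  rfl

end Nat

section Unique

variable (θ' : Ψ ⟶ Ψ') [NatTrans.IsMonoidal θ']

theorem unique_unit : θ'.app (𝟙_ (PObj A)) = inv (ε Ψ) ≫ ε Ψ' := by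
  have h1 := NatTrans.IsMonoidal.unit (τ := θ')
  rw [← h1, IsIso.inv_hom_id_assoc]

theorem theta_unique (h : Functor.whiskerLeft (iFun A) θ' = τ) (X : PObj A) :
    θ'.app X = θ X := by
  induction X with
  | of a => exact congrArg (fun t => t.app a) h
  | unit => exact unique_unit Ψ Ψ' θ'
  | tensor X Y ihX ihY =>
      have h1 := NatTrans.IsMonoidal.tensor (τ := θ') X Y
      show θ'.app (X ⊗ Y) = inv (μ Ψ X Y) ≫ (θ X ⊗ₘ θ Y) ≫ μ Ψ' X Y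
      rw [← ihX, ← ihY, ← h1, IsIso.inv_hom_id_assoc]
  | inv X ih =>
      haveI := (hP (Ψ'.obj X)).1
      apply (tensorLeft (Ψ'.obj X)).map_injective
      show Ψ'.obj X ◁ θ'.app X.inv = Ψ'.obj X ◁ θ X.inv
      rw [theta_inv]
      have h1 := NatTrans.IsMonoidal.tensor (τ := θ') X X.inv
      have h2 := θ'.naturality (etaV X)
      have h3 := unique_unit Ψ Ψ' θ'
      have h4 : (θ'.app X ⊗ₘ θ'.app X.inv) ≫ μ Ψ' X X.inv ≫ Ψ'.map (etaV X) =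
          μ Ψ X X.inv ≫ Ψ.map (etaV X) ≫ θ'.app (𝟙_ (PObj A)) := by
        rw [← Category.assoc, ← h1, Category.assoc, h2]
      have h5 : Ψ'.obj X ◁ θ'.app X.inv =
          inv (θ'.app X) ▷ Ψ.obj X.inv ≫ (θ'.app X ⊗ₘ θ'.app X.inv) := by
        rw [MonoidalCategory.tensorHom_def, ← MonoidalCategory.comp_whiskerRight_assoc,
          IsIso.inv_hom_id, MonoidalCategory.id_whiskerRight, Category.id_comp]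
      have h6 : (θ'.app X ⊗ₘ θ'.app X.inv) =
          (μ Ψ X X.inv ≫ Ψ.map (etaV X) ≫ θ'.app (𝟙_ (PObj A))) ≫
            inv (Ψ'.map (etaV X)) ≫ inv (μ Ψ' X X.inv) := by
        rw [← h4]
        simp only [Category.assoc, IsIso.hom_inv_id, IsIso.hom_inv_id_assoc, Category.comp_id]
      unfold kappa
      rw [h5, h6, h3, ← ih]
      simp only [Category.assoc]

end Unique

include hP in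
theorem existsUnique_theta [NatTrans.IsMonoidal τ] :
    ∃! θ₁ : Ψ ⟶ Ψ', NatTrans.IsMonoidal θ₁ ∧ Functor.whiskerLeft (iFun A) θ₁ = τ := by
  refine ⟨thetaNat hP Ψ Ψ' τ, ⟨thetaNat_isMonoidal hP Ψ Ψ' τ, whiskerLeft_thetaNat hP Ψ Ψ' τ⟩, ?_⟩
  rintro θ' ⟨h1, h2⟩
  haveI := h1
  ext X
  exact theta_unique hP Ψ Ψ' τ θ' h2 X

end Groth.Agent.Lib.Picardify
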