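import Mathlib
import Groth.Agent.Lib.PinchBC_helper5

/-!
# Base change of pinching pushouts along a flat morphism
-/

namespace Groth.Agent.PinchBC

open CategoryTheory Limits AlgebraicGeometry TopologicalSpace Opposite
open Groth.Agent.RSPushout Groth.Agent.RSPushoutCrit Groth.Agent.FibSqLib Groth.Agent.PushoutLocal

universe u

section Algebra

open TensorProduct

theorem fibSq_tensor_flat {R R' P B A' A : Type*} [CommRing R] [CommRing R'] [Algebra R R']
    [CommRing P] [CommRing B] [CommRing A'] [CommRing A] [Algebra R P] [Algebra R B]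
    [Algebra R A'] [Algebra R A]
    (π₁ : P →ₐ[R] B) (π₂ : P →ₐ[R] A') (q : B →ₐ[R] A) (p : A' →ₐ[R] A)
    (sq : FibSq π₁.toRingHom π₂.toRingHom q.toRingHom p.toRingHom)
    (hp : Function.Surjective p) [Module.Flat R R'] :
    FibSq (Algebra.TensorProduct.map (AlgHom.id R R') π₁).toRingHom
      (Algebra.TensorProduct.map (AlgHom.id R R') π₂).toRingHom
      (Algebra.TensorProduct.map (AlgHom.id R R') q).toRingHom
      (Algebra.TensorProduct.map (AlgHom.id R R') p).toRingHom := by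
  obtain ⟨g, hgdef⟩ : ∃ g : P →ₗ[R] B × A', g = π₁.toLinearMap.prod π₂.toLinearMap := ⟨_, rfl⟩
  obtain ⟨f, hfdef⟩ : ∃ f : B × A' →ₗ[R] A, f = q.toLinearMap.coprod (-p.toLinearMap) :=
    ⟨_, rfl⟩
  have hg : Function.Injective g := by
    rw [injective_iff_map_eq_zero]
    intro x hx
    rw [hgdef] at hx
    have h := Prod.ext_iff.mp hx
    exact sq.inj x h.1 h.2
  have hf : Function.Surjective f := by
    intro a
    obtain ⟨a', ha'⟩ := hp a
    refine ⟨(0, -a'), ?_⟩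
    rw [hfdef]
    simp [ha']
  have hex : Function.Exact g f := by
    intro y
    constructor
    · intro hy
      obtain ⟨b, a'⟩ := y
      have hba : q b = p a' := by
        rw [hfdef] at hy
        have : q b + -(p a') = 0 := by simpa using hy
        exact add_neg_eq_zero.mp this
      obtain ⟨x, hx1, hx2⟩ := sq.surj b a' hba
      exact ⟨x, by rw [hgdef]; exact Prod.ext hx1 hx2⟩
    · rintro ⟨x, rfl⟩
      have := sq.comm x
      rw [hgdef, hfdef]
      simp only [LinearMap.prod_apply, Function.prod_apply, AlgHom.toLinearMap_apply,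
        LinearMap.coprod_apply, LinearMap.neg_apply]
      exact add_neg_eq_zero.mpr this
  have hginj : Function.Injective (g.lTensor R') :=
    Module.Flat.lTensor_preserves_injective_linearMap g hg
  have hexT : Function.Exact (g.lTensor R') (f.lTensor R') := lTensor_exact R' hex hf
  have hc1 : (TensorProduct.prodRight R R R' B A').toLinearMap ∘ₗ g.lTensor R' =
      (π₁.toLinearMap.lTensor R').prod (π₂.toLinearMap.lTensor R') := by
    apply TensorProduct.ext'
    intro r x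
    rw [hgdef]
    simp
  have hc2 : f.lTensor R' = ((q.toLinearMap.lTensor R').coprod (-(p.toLinearMap.lTensor R'))) ∘ₗ
      (TensorProduct.prodRight R R R' B A').toLinearMap := by
    apply TensorProduct.ext'
    intro r y
    rw [hfdef]
    simp [tmul_add, tmul_neg]
  have hc1x : ∀ x, (TensorProduct.prodRight R R R' B A') ((g.lTensor R') x) =
      ((π₁.toLinearMap.lTensor R') x, (π₂.toLinearMap.lTensor R') x) := fun x => congr($hc1 x)
  refine ⟨fun x => ?_, fun x h1 h2 => ?_, fun b a' hba => ?_⟩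
  · show Algebra.TensorProduct.map (AlgHom.id R R') q
        (Algebra.TensorProduct.map (AlgHom.id R R') π₁ x) =
      Algebra.TensorProduct.map (AlgHom.id R R') p
        (Algebra.TensorProduct.map (AlgHom.id R R') π₂ x)
    induction x using TensorProduct.induction_on with
    | zero => simp
    | tmul r c =>
      have := sq.comm c
      simp only [Algebra.TensorProduct.map_tmul, AlgHom.coe_id, id_eq]
      congr 1
    | add x y hx hy => rw [map_add, map_add, map_add, map_add, hx, hy]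
  · have h1' : (π₁.toLinearMap.lTensor R') x = 0 := by rw [← map_eq_lTensor]; exact h1
    have h2' : (π₂.toLinearMap.lTensor R') x = 0 := by rw [← map_eq_lTensor]; exact h2
    apply hginj
    rw [map_zero]
    apply (TensorProduct.prodRight R R R' B A').injective
    rw [map_zero, hc1x, h1', h2']
    rfl
  · have hba' : (q.toLinearMap.lTensor R') b = (p.toLinearMap.lTensor R') a' := by
      rw [← map_eq_lTensor, ← map_eq_lTensor]; exact hba
    have hy : (f.lTensor R') ((TensorProduct.prodRight R R R' B A').symm (b, a')) = 0 := by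
      rw [hc2]
      simp only [LinearMap.coe_comp, LinearEquiv.coe_coe, Function.comp_apply,
        LinearEquiv.apply_symm_apply, LinearMap.coprod_apply, LinearMap.neg_apply]
      rw [hba']
      exact add_neg_cancel _
    obtain ⟨x, hx⟩ := (hexT _).mp hy
    have := hc1x x
    rw [hx, LinearEquiv.apply_symm_apply] at this
    have h := Prod.ext_iff.mp this
    refine ⟨x, ?_, ?_⟩
    · show Algebra.TensorProduct.map (AlgHom.id R R') π₁ x = b
      rw [map_eq_lTensor]; exact h.1.symm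
    · show Algebra.TensorProduct.map (AlgHom.id R R') π₂ x = a'
      rw [map_eq_lTensor]; exact h.2.symm

end Algebra

section Cat

/-- base change of a fibre square of rings along `Rr ⟶ R'`, in categorical form -/
theorem fibSq_pushout_flat {Rr R' P B A' A DP DB DA' DA : CommRingCat.{u}}
    (a : Rr ⟶ R') (cP : Rr ⟶ P) (cB : Rr ⟶ B) (cA' : Rr ⟶ A') (cA : Rr ⟶ A)
    (π₁ : P ⟶ B) (π₂ : P ⟶ A') (q : B ⟶ A) (p : A' ⟶ A)
    (hc1 : cP ≫ π₁ = cB) (hc2 : cP ≫ π₂ = cA') (hc3 : cB ≫ q = cA) (hc4 : cA' ≫ p = cA)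
    (sq : FibSq π₁.hom π₂.hom q.hom p.hom) (hp : Function.Surjective p) (hfl : a.hom.Flat)
    {lP : R' ⟶ DP} {rP : P ⟶ DP} {lB : R' ⟶ DB} {rB : B ⟶ DB} {lA' : R' ⟶ DA'}
    {rA' : A' ⟶ DA'} {lA : R' ⟶ DA} {rA : A ⟶ DA}
    (hP : IsPushout a cP lP rP) (hB : IsPushout a cB lB rB) (hA' : IsPushout a cA' lA' rA')
    (hA : IsPushout a cA lA rA)
    (ν₁ : DP ⟶ DB) (ν₂ : DP ⟶ DA') (νq : DB ⟶ DA) (νp : DA' ⟶ DA)
    (h1l : lP ≫ ν₁ = lB) (h1r : rP ≫ ν₁ = π₁ ≫ rB)
    (h2l : lP ≫ ν₂ = lA') (h2r : rP ≫ ν₂ = π₂ ≫ rA')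
    (h3l : lB ≫ νq = lA) (h3r : rB ≫ νq = q ≫ rA)
    (h4l : lA' ≫ νp = lA) (h4r : rA' ≫ νp = p ≫ rA) :
    FibSq ν₁.hom ν₂.hom νq.hom νp.hom := by
  letI : Algebra Rr R' := a.hom.toAlgebra
  letI : Algebra Rr P := cP.hom.toAlgebra
  letI : Algebra Rr B := cB.hom.toAlgebra
  letI : Algebra Rr A' := cA'.hom.toAlgebra
  letI : Algebra Rr A := cA.hom.toAlgebra
  haveI : Module.Flat Rr R' := hfl
  let π₁a : P →ₐ[Rr] B := { π₁.hom with commutes' := fun r => congr($hc1 r) }
  let π₂a : P →ₐ[Rr] A' := { π₂.hom with commutes' := fun r => congr($hc2 r) }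
  let qa : B →ₐ[Rr] A := { q.hom with commutes' := fun r => congr($hc3 r) }
  let pa : A' →ₐ[Rr] A := { p.hom with commutes' := fun r => congr($hc4 r) }
  have sqT := fibSq_tensor_flat (R' := R') π₁a π₂a qa pa sq hp
  have tP := CommRingCat.isPushout_tensorProduct Rr R' P
  have tB := CommRingCat.isPushout_tensorProduct Rr R' B
  have tA' := CommRingCat.isPushout_tensorProduct Rr R' A'
  have tA := CommRingCat.isPushout_tensorProduct Rr R' A
  have hP' : IsPushout (CommRingCat.ofHom (algebraMap Rr R'))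
      (CommRingCat.ofHom (algebraMap Rr P)) lP rP := hP
  have hB' : IsPushout (CommRingCat.ofHom (algebraMap Rr R'))
      (CommRingCat.ofHom (algebraMap Rr B)) lB rB := hB
  have hA'' : IsPushout (CommRingCat.ofHom (algebraMap Rr R'))
      (CommRingCat.ofHom (algebraMap Rr A')) lA' rA' := hA'
  have hA2 : IsPushout (CommRingCat.ofHom (algebraMap Rr R'))
      (CommRingCat.ofHom (algebraMap Rr A)) lA rA := hA
  refine fibSq_of_iso (tP.isoIsPushout _ _ hP') (tB.isoIsPushout _ _ hB')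
    (tA'.isoIsPushout _ _ hA'') (tA.isoIsPushout _ _ hA2)
    (π₁ := CommRingCat.ofHom (Algebra.TensorProduct.map (AlgHom.id Rr R') π₁a).toRingHom)
    (π₂ := CommRingCat.ofHom (Algebra.TensorProduct.map (AlgHom.id Rr R') π₂a).toRingHom)
    (q := CommRingCat.ofHom (Algebra.TensorProduct.map (AlgHom.id Rr R') qa).toRingHom)
    (p := CommRingCat.ofHom (Algebra.TensorProduct.map (AlgHom.id Rr R') pa).toRingHom)
    ?_ ?_ ?_ ?_ sqT
  · refine compat_cat hP' hB' tP tB π₁ ν₁ _ h1l h1r ?_ ?_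
    · ext r
      simp
    · ext c
      simp [π₁a]
  · refine compat_cat hP' hA'' tP tA' π₂ ν₂ _ h2l h2r ?_ ?_
    · ext r
      simp
    · ext c
      simp [π₂a]
  · refine compat_cat hB' hA2 tB tA q νq _ h3l h3r ?_ ?_
    · ext r
      simp
    · ext c
      simp [qa]
  · refine compat_cat hA'' hA2 tA' tA p νp _ h4l h4r ?_ ?_
    · ext r
      simp
    · ext c
      simp [pa]

end Cat

section BC

variable {S T : Scheme.{u}}

theorem isPushout_baseChange_flat {S X Z Z' X' T : Scheme.{u}}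
    (fX : X ⟶ S) (fZ' : Z' ⟶ S) (fX' : X' ⟶ S) (fZ : Z ⟶ S)
    (ι : Z ⟶ X) (q : Z ⟶ Z') (π : X ⟶ X') (ι' : Z' ⟶ X')
    [IsClosedImmersion ι] [IsClosedImmersion ι'] [IsAffineHom π]
    (hι : ι ≫ fX = fZ) (hq : q ≫ fZ' = fZ) (hπ : π ≫ fX' = fX) (hι' : ι' ≫ fX' = fZ')
    (hpo : IsPushout (G.map ι) (G.map q) (G.map π) (G.map ι'))
    (g : T ⟶ S) [Flat g]
    (ιT : pullback fZ g ⟶ pullback fX g) (qT : pullback fZ g ⟶ pullback fZ' g)
    (πT : pullback fX g ⟶ pullback fX' g) (ι'T : pullback fZ' g ⟶ pullback fX' g)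
    (hιT1 : ιT ≫ pullback.fst fX g = pullback.fst fZ g ≫ ι)
    (hιT2 : ιT ≫ pullback.snd fX g = pullback.snd fZ g)
    (hqT1 : qT ≫ pullback.fst fZ' g = pullback.fst fZ g ≫ q)
    (hqT2 : qT ≫ pullback.snd fZ' g = pullback.snd fZ g)
    (hπT1 : πT ≫ pullback.fst fX' g = pullback.fst fX g ≫ π)
    (hπT2 : πT ≫ pullback.snd fX' g = pullback.snd fX g)
    (hι'T1 : ι'T ≫ pullback.fst fX' g = pullback.fst fZ' g ≫ ι')
    (hι'T2 : ι'T ≫ pullback.snd fX' g = pullback.snd fZ' g) :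
    IsPushout (G.map ιT) (G.map qT) (G.map πT) (G.map ι'T) := by
  have w : ι ≫ π = q ≫ ι' := G.map_injective (by rw [G.map_comp, G.map_comp]; exact hpo.w)
  have wT : ιT ≫ πT = qT ≫ ι'T := by
    apply pullback.hom_ext
    · simp only [Category.assoc]
      rw [hπT1, reassoc_of% hιT1, hι'T1, reassoc_of% hqT1, w]
    · simp only [Category.assoc]
      rw [hπT2, hιT2, hι'T2, hqT2]
  haveI : IsClosedImmersion ιT := by
    have s : IsPullback (ιT ≫ pullback.snd fX g) (pullback.fst fZ g) g (ι ≫ fX) := by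
      rw [hιT2, hι]
      exact (IsPullback.of_hasPullback fZ g).flip
    have h2 := IsPullback.of_right s hιT1 (IsPullback.of_hasPullback fX g).flip
    exact MorphismProperty.of_isPullback (P := @IsClosedImmersion) h2.flip inferInstance
  haveI : IsClosedImmersion ι'T := by
    have s : IsPullback (ι'T ≫ pullback.snd fX' g) (pullback.fst fZ' g) g (ι' ≫ fX') := by
      rw [hι'T2, hι']
      exact (IsPullback.of_hasPullback fZ' g).flip
    have h2 := IsPullback.of_right s hι'T1 (IsPullback.of_hasPullback fX' g).flip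
    exact MorphismProperty.of_isPullback (P := @IsClosedImmersion) h2.flip inferInstance
  refine isPushout_of_local ιT qT πT ι'T wT
    {Ω | ∃ (V : S.Opens) (U' : X'.Opens) (W : T.Opens), IsAffineOpen V ∧ IsAffineOpen U' ∧
      IsAffineOpen W ∧ U' ≤ fX' ⁻¹ᵁ V ∧ W ≤ g ⁻¹ᵁ V ∧
      Ω = pullback.fst fX' g ⁻¹ᵁ U' ⊓ pullback.snd fX' g ⁻¹ᵁ W} ?_ ?_ ?_
  · intro t
    obtain ⟨_, ⟨V, hV, rfl⟩, hsV, -⟩ := S.isBasis_affineOpens.exists_subset_of_mem_open
      (Set.mem_univ (fX' (pullback.fst fX' g t))) isOpen_univ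
    obtain ⟨_, ⟨U', hU', rfl⟩, hxU', hU'V⟩ := X'.isBasis_affineOpens.exists_subset_of_mem_open
      (show pullback.fst fX' g t ∈ (fX' ⁻¹ᵁ V : Set X') from hsV) (fX' ⁻¹ᵁ V).isOpen
    have hgt : g (pullback.snd fX' g t) ∈ V := by
      have h1 := congrArg (fun m => m t) (pullback.condition (f := fX') (g := g))
      simp only [Scheme.Hom.comp_apply] at h1
      rw [← h1]
      exact hsV
    obtain ⟨_, ⟨W, hW, rfl⟩, htW, hWV⟩ := T.isBasis_affineOpens.exists_subset_of_mem_open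
      (show pullback.snd fX' g t ∈ (g ⁻¹ᵁ V : Set T) from hgt) (g ⁻¹ᵁ V).isOpen
    exact ⟨_, ⟨V, U', W, hV, hU', hW, fun x hx => hU'V hx, fun x hx => hWV hx, rfl⟩,
      ⟨hxU', htW⟩⟩
  · rintro Ω ⟨V, U', W, hV, hU', hW, hU'V, hWV, rfl⟩
    refine ⟨isAffineOpen_box fX' g hV hW hU' hWV hU'V rfl, ?_⟩
    exact isAffineOpen_box fX g hV hW (hU'.preimage π) hWV
      (by rw [← hπ]; exact fun x hx => hU'V hx)
      (preimage_box fX fX' g π πT hπT1 hπT2 U' W)
  · rintro Ω ⟨V, U', W, hV, hU', hW, hU'V, hWV, rfl⟩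
    have eB : ι' ⁻¹ᵁ U' ≤ fZ' ⁻¹ᵁ V := by rw [← hι']; exact fun x hx => hU'V hx
    have eA' : π ⁻¹ᵁ U' ≤ fX ⁻¹ᵁ V := by rw [← hπ]; exact fun x hx => hU'V hx
    have eA : ι ⁻¹ᵁ (π ⁻¹ᵁ U') ≤ fZ ⁻¹ᵁ V := by rw [← hι]; exact fun x hx => eA' hx
    have hΩB := preimage_box fZ' fX' g ι' ι'T hι'T1 hι'T2 U' W
    have hΩA' := preimage_box fX fX' g π πT hπT1 hπT2 U' W
    have hΩA : ιT ⁻¹ᵁ (πT ⁻¹ᵁ (pullback.fst fX' g ⁻¹ᵁ U' ⊓ pullback.snd fX' g ⁻¹ᵁ W)) =
        pullback.fst fZ g ⁻¹ᵁ (ι ⁻¹ᵁ (π ⁻¹ᵁ U')) ⊓ pullback.snd fZ g ⁻¹ᵁ W := by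
      rw [hΩA', preimage_box fZ fX g ι ιT hιT1 hιT2]
    have hP := isPushout_box fX' g hV hW hU' hWV hU'V rfl inf_le_right inf_le_left
    have hB := isPushout_box fZ' g hV hW (hU'.preimage ι') hWV eB hΩB
      (by rw [hΩB]; exact inf_le_right) (by rw [hΩB]; exact inf_le_left)
    have hA' := isPushout_box fX g hV hW (hU'.preimage π) hWV eA' hΩA'
      (by rw [hΩA']; exact inf_le_right) (by rw [hΩA']; exact inf_le_left)
    have hA := isPushout_box fZ g hV hW ((hU'.preimage π).preimage ι) hWV eA hΩA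
      (by rw [hΩA]; exact inf_le_right) (by rw [hΩA]; exact inf_le_left)
    refine fibSq_pushout_flat (g.appLE V W hWV) (fX'.appLE V U' hU'V) (fZ'.appLE V _ eB)
      (fX.appLE V _ eA') (fZ.appLE V _ eA) (ι'.app U') (π.app U')
      (q.appLE (ι' ⁻¹ᵁ U') (ι ⁻¹ᵁ (π ⁻¹ᵁ U')) (hle ι q π ι' w U')) (ι.app (π ⁻¹ᵁ U'))
      (appLE_comp_app_eq ι' fX' fZ' hι' hU'V eB) (appLE_comp_app_eq π fX' fX hπ hU'V eA')
      (appLE_comp_eq' q fZ' fZ hq eB (hle ι q π ι' w U') eA)
      (appLE_comp_app_eq ι fX fZ hι eA' eA)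
      (fs_of_isPushout ι q π ι' hpo w U') (Scheme.Hom.app_surjective ι _ (hU'.preimage π))
      (HasRingHomProperty.appLE (P := @Flat) g inferInstance ⟨V, hV⟩ ⟨W, hW⟩ hWV)
      hP hB hA' hA
      (ι'T.app _) (πT.app _) (qT.appLE _ _ (hle ιT qT πT ι'T wT _)) (ιT.app _)
      ?_ ?_ ?_ ?_ ?_ ?_ ?_ ?_
    · exact appLE_comp_app_eq ι'T (pullback.snd fX' g) (pullback.snd fZ' g) hι'T2 _ _
    · rw [Scheme.Hom.app_eq_appLE, Scheme.Hom.app_eq_appLE]
      exact appLE_square ι'T (pullback.fst fX' g) (pullback.fst fZ' g) ι' hι'T1 _ _ _ _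
    · exact appLE_comp_app_eq πT (pullback.snd fX' g) (pullback.snd fX g) hπT2 _ _
    · rw [Scheme.Hom.app_eq_appLE, Scheme.Hom.app_eq_appLE]
      exact appLE_square πT (pullback.fst fX' g) (pullback.fst fX g) π hπT1 _ _ _ _
    · exact appLE_comp_eq' qT (pullback.snd fZ' g) (pullback.snd fZ g) hqT2 _ _ _
    · exact appLE_square qT (pullback.fst fZ' g) (pullback.fst fZ g) q hqT1 _ _ _ _
    · exact appLE_comp_app_eq ιT (pullback.snd fX g) (pullback.snd fZ g) hιT2 _ _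
    · rw [Scheme.Hom.app_eq_appLE, Scheme.Hom.app_eq_appLE]
      exact appLE_square ιT (pullback.fst fX g) (pullback.fst fZ g) ι hιT1 _ _ _ _

end BC

end Groth.Agent.PinchBC
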