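import Mathlib
import Groth.Agent.Lib.PinchBC_helper5

/-!
# Base change of pinching pushouts when the fibre square of rings admits a linear retraction
-/

namespace Groth.Agent.PinchBC

open CategoryTheory Limits AlgebraicGeometry TopologicalSpace Opposite
open Groth.Agent.RSPushout Groth.Agent.RSPushoutCrit Groth.Agent.FibSqLib Groth.Agent.PushoutLocal

universe u

section Algebra

open TensorProduct

theorem fibSq_tensor_retr {R R' P B A' A : Type*} [CommRing R] [CommRing R'] [Algebra R R']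
    [CommRing P] [CommRing B] [CommRing A'] [CommRing A] [Algebra R P] [Algebra R B]
    [Algebra R A'] [Algebra R A]
    (π₁ : P →ₐ[R] B) (π₂ : P →ₐ[R] A') (q : B →ₐ[R] A) (p : A' →ₐ[R] A)
    (sq : FibSq π₁.toRingHom π₂.toRingHom q.toRingHom p.toRingHom)
    (hp : Function.Surjective p) (ρ : A' →ₗ[R] P) (hρ : ∀ x, ρ (π₂ x) = x) :
    FibSq (Algebra.TensorProduct.map (AlgHom.id R R') π₁).toRingHom
      (Algebra.TensorProduct.map (AlgHom.id R R') π₂).toRingHom
      (Algebra.TensorProduct.map (AlgHom.id R R') q).toRingHom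
      (Algebra.TensorProduct.map (AlgHom.id R R') p).toRingHom := by
  obtain ⟨g, hgdef⟩ : ∃ g : P →ₗ[R] B × A', g = π₁.toLinearMap.prod π₂.toLinearMap := ⟨_, rfl⟩
  obtain ⟨f, hfdef⟩ : ∃ f : B × A' →ₗ[R] A, f = q.toLinearMap.coprod (-p.toLinearMap) :=
    ⟨_, rfl⟩
  have hf : Function.Surjective f := by
    intro a
    obtain ⟨a', ha'⟩ := hp a
    refine ⟨(0, -a'), ?_⟩
    rw [hfdef]
    simp [ha']
  have hex : Function.Exact g f := by
    intro y
    constructor
    · intro hy
      obtain ⟨b, a'⟩ := y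
      have hba : q b = p a' := by
        rw [hfdef] at hy
        have : q b + -(p a') = 0 := by simpa using hy
        exact add_neg_eq_zero.mp this
      obtain ⟨x, hx1, hx2⟩ := sq.surj b a' hba
      exact ⟨x, by rw [hgdef]; exact Prod.ext hx1 hx2⟩
    · rintro ⟨x, rfl⟩
      have := sq.comm x
      rw [hgdef, hfdef]
      simp only [LinearMap.prod_apply, Function.prod_apply, AlgHom.toLinearMap_apply,
        LinearMap.coprod_apply, LinearMap.neg_apply]
      exact add_neg_eq_zero.mpr this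
  have hginj : Function.Injective (g.lTensor R') := by
    have hcomp : (ρ ∘ₗ LinearMap.snd R B A') ∘ₗ g = LinearMap.id := by
      ext x
      rw [hgdef]
      simp [hρ]
    intro x y hxy
    have h := congrArg ((ρ ∘ₗ LinearMap.snd R B A').lTensor R') hxy
    rw [← LinearMap.comp_apply, ← LinearMap.comp_apply, ← LinearMap.lTensor_comp, hcomp,
      LinearMap.lTensor_id] at h
    exact h
  have hexT : Function.Exact (g.lTensor R') (f.lTensor R') := lTensor_exact R' hex hf
  have hc1 : (TensorProduct.prodRight R R R' B A').toLinearMap ∘ₗ g.lTensor R' =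
      (π₁.toLinearMap.lTensor R').prod (π₂.toLinearMap.lTensor R') := by
    apply TensorProduct.ext'
    intro r x
    rw [hgdef]
    simp
  have hc2 : f.lTensor R' = ((q.toLinearMap.lTensor R').coprod (-(p.toLinearMap.lTensor R'))) ∘ₗ
      (TensorProduct.prodRight R R R' B A').toLinearMap := by
    apply TensorProduct.ext'
    intro r y
    rw [hfdef]
    simp [tmul_add, tmul_neg]
  have hc1x : ∀ x, (TensorProduct.prodRight R R R' B A') ((g.lTensor R') x) =
      ((π₁.toLinearMap.lTensor R') x, (π₂.toLinearMap.lTensor R') x) := fun x => congr($hc1 x)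
  refine ⟨fun x => ?_, fun x h1 h2 => ?_, fun b a' hba => ?_⟩
  · show Algebra.TensorProduct.map (AlgHom.id R R') q
        (Algebra.TensorProduct.map (AlgHom.id R R') π₁ x) =
      Algebra.TensorProduct.map (AlgHom.id R R') p
        (Algebra.TensorProduct.map (AlgHom.id R R') π₂ x)
    induction x using TensorProduct.induction_on with
    | zero => simp
    | tmul r c =>
      have := sq.comm c
      simp only [Algebra.TensorProduct.map_tmul, AlgHom.coe_id, id_eq]
      congr 1
    | add x y hx hy => rw [map_add, map_add, map_add, map_add, hx, hy]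
  · have h1' : (π₁.toLinearMap.lTensor R') x = 0 := by rw [← map_eq_lTensor]; exact h1
    have h2' : (π₂.toLinearMap.lTensor R') x = 0 := by rw [← map_eq_lTensor]; exact h2
    apply hginj
    rw [map_zero]
    apply (TensorProduct.prodRight R R R' B A').injective
    rw [map_zero, hc1x, h1', h2']
    rfl
  · have hba' : (q.toLinearMap.lTensor R') b = (p.toLinearMap.lTensor R') a' := by
      rw [← map_eq_lTensor, ← map_eq_lTensor]; exact hba
    have hy : (f.lTensor R') ((TensorProduct.prodRight R R R' B A').symm (b, a')) = 0 := by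
      rw [hc2]
      simp only [LinearMap.coe_comp, LinearEquiv.coe_coe, Function.comp_apply,
        LinearEquiv.apply_symm_apply, LinearMap.coprod_apply, LinearMap.neg_apply]
      rw [hba']
      exact add_neg_cancel _
    obtain ⟨x, hx⟩ := (hexT _).mp hy
    have := hc1x x
    rw [hx, LinearEquiv.apply_symm_apply] at this
    have h := Prod.ext_iff.mp this
    refine ⟨x, ?_, ?_⟩
    · show Algebra.TensorProduct.map (AlgHom.id R R') π₁ x = b
      rw [map_eq_lTensor]; exact h.1.symm
    · show Algebra.TensorProduct.map (AlgHom.id R R') π₂ x = a'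
      rw [map_eq_lTensor]; exact h.2.symm

end Algebra

section Cat

/-- base change of a fibre square of rings along `Rr ⟶ R'`, in categorical form, given a linear
retraction of the second projection -/
theorem fibSq_pushout_retr {Rr R' P B A' A DP DB DA' DA : CommRingCat.{u}}
    (a : Rr ⟶ R') (cP : Rr ⟶ P) (cB : Rr ⟶ B) (cA' : Rr ⟶ A') (cA : Rr ⟶ A)
    (π₁ : P ⟶ B) (π₂ : P ⟶ A') (q : B ⟶ A) (p : A' ⟶ A)
    (hc1 : cP ≫ π₁ = cB) (hc2 : cP ≫ π₂ = cA') (hc3 : cB ≫ q = cA) (hc4 : cA' ≫ p = cA)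
    (sq : FibSq π₁.hom π₂.hom q.hom p.hom) (hp : Function.Surjective p)
    (ρ : A' →+ P) (hρ : ∀ x, ρ (π₂ x) = x) (hρl : ∀ (r : Rr) (y : A'), ρ (cA' r * y) = cP r * ρ y)
    {lP : R' ⟶ DP} {rP : P ⟶ DP} {lB : R' ⟶ DB} {rB : B ⟶ DB} {lA' : R' ⟶ DA'}
    {rA' : A' ⟶ DA'} {lA : R' ⟶ DA} {rA : A ⟶ DA}
    (hP : IsPushout a cP lP rP) (hB : IsPushout a cB lB rB) (hA' : IsPushout a cA' lA' rA')
    (hA : IsPushout a cA lA rA)
    (ν₁ : DP ⟶ DB) (ν₂ : DP ⟶ DA') (νq : DB ⟶ DA) (νp : DA' ⟶ DA)
    (h1l : lP ≫ ν₁ = lB) (h1r : rP ≫ ν₁ = π₁ ≫ rB)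
    (h2l : lP ≫ ν₂ = lA') (h2r : rP ≫ ν₂ = π₂ ≫ rA')
    (h3l : lB ≫ νq = lA) (h3r : rB ≫ νq = q ≫ rA)
    (h4l : lA' ≫ νp = lA) (h4r : rA' ≫ νp = p ≫ rA) :
    FibSq ν₁.hom ν₂.hom νq.hom νp.hom := by
  letI : Algebra Rr R' := a.hom.toAlgebra
  letI : Algebra Rr P := cP.hom.toAlgebra
  letI : Algebra Rr B := cB.hom.toAlgebra
  letI : Algebra Rr A' := cA'.hom.toAlgebra
  letI : Algebra Rr A := cA.hom.toAlgebra
  let π₁a : P →ₐ[Rr] B := { π₁.hom with commutes' := fun r => congr($hc1 r) }
  let π₂a : P →ₐ[Rr] A' := { π₂.hom with commutes' := fun r => congr($hc2 r) }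
  let qa : B →ₐ[Rr] A := { q.hom with commutes' := fun r => congr($hc3 r) }
  let pa : A' →ₐ[Rr] A := { p.hom with commutes' := fun r => congr($hc4 r) }
  let ρl : A' →ₗ[Rr] P :=
    { toFun := ρ, map_add' := map_add ρ, map_smul' := fun r y => by
        rw [Algebra.smul_def, Algebra.smul_def]
        exact hρl r y }
  have sqT := fibSq_tensor_retr (R' := R') π₁a π₂a qa pa sq hp ρl hρ
  have tP := CommRingCat.isPushout_tensorProduct Rr R' P
  have tB := CommRingCat.isPushout_tensorProduct Rr R' B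
  have tA' := CommRingCat.isPushout_tensorProduct Rr R' A'
  have tA := CommRingCat.isPushout_tensorProduct Rr R' A
  have hP' : IsPushout (CommRingCat.ofHom (algebraMap Rr R'))
      (CommRingCat.ofHom (algebraMap Rr P)) lP rP := hP
  have hB' : IsPushout (CommRingCat.ofHom (algebraMap Rr R'))
      (CommRingCat.ofHom (algebraMap Rr B)) lB rB := hB
  have hA'' : IsPushout (CommRingCat.ofHom (algebraMap Rr R'))
      (CommRingCat.ofHom (algebraMap Rr A')) lA' rA' := hA'
  have hA2 : IsPushout (CommRingCat.ofHom (algebraMap Rr R'))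
      (CommRingCat.ofHom (algebraMap Rr A)) lA rA := hA
  refine fibSq_of_iso (tP.isoIsPushout _ _ hP') (tB.isoIsPushout _ _ hB')
    (tA'.isoIsPushout _ _ hA'') (tA.isoIsPushout _ _ hA2)
    (π₁ := CommRingCat.ofHom (Algebra.TensorProduct.map (AlgHom.id Rr R') π₁a).toRingHom)
    (π₂ := CommRingCat.ofHom (Algebra.TensorProduct.map (AlgHom.id Rr R') π₂a).toRingHom)
    (q := CommRingCat.ofHom (Algebra.TensorProduct.map (AlgHom.id Rr R') qa).toRingHom)
    (p := CommRingCat.ofHom (Algebra.TensorProduct.map (AlgHom.id Rr R') pa).toRingHom)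
    ?_ ?_ ?_ ?_ sqT
  · refine compat_cat hP' hB' tP tB π₁ ν₁ _ h1l h1r ?_ ?_
    · ext r
      simp
    · ext c
      simp [π₁a]
  · refine compat_cat hP' hA'' tP tA' π₂ ν₂ _ h2l h2r ?_ ?_
    · ext r
      simp
    · ext c
      simp [π₂a]
  · refine compat_cat hB' hA2 tB tA q νq _ h3l h3r ?_ ?_
    · ext r
      simp
    · ext c
      simp [qa]
  · refine compat_cat hA'' hA2 tA' tA p νp _ h4l h4r ?_ ?_
    · ext r
      simp
    · ext c
      simp [pa]

end Cat

end Groth.Agent.PinchBC
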