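import Mathlib
import Groth.Agent.Lib.PinchBCRetr_helper5

/-!
# Arbitrary base change of pinching pushouts, given local linear retractions
-/

namespace Groth.Agent.PinchBC

open CategoryTheory Limits AlgebraicGeometry TopologicalSpace Opposite
open Groth.Agent.RSPushout Groth.Agent.RSPushoutCrit Groth.Agent.FibSqLib Groth.Agent.PushoutLocal

universe u

theorem isPushout_baseChange_retr {S X Z Z' X' T : Scheme.{u}}
    (fX : X ⟶ S) (fZ' : Z' ⟶ S) (fX' : X' ⟶ S) (fZ : Z ⟶ S)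
    (ι : Z ⟶ X) (q : Z ⟶ Z') (π : X ⟶ X') (ι' : Z' ⟶ X')
    [IsClosedImmersion ι] [IsClosedImmersion ι'] [IsAffineHom π]
    (hι : ι ≫ fX = fZ) (hq : q ≫ fZ' = fZ) (hπ : π ≫ fX' = fX) (hι' : ι' ≫ fX' = fZ')
    (hpo : IsPushout (G.map ι) (G.map q) (G.map π) (G.map ι'))
    (𝒱 : Set (S.Opens × X'.Opens))
    (h𝒱 : ∀ VU ∈ 𝒱, IsAffineOpen VU.1 ∧ IsAffineOpen VU.2 ∧ VU.2 ≤ fX' ⁻¹ᵁ VU.1)
    (hcov : ∀ x' : X', ∃ VU ∈ 𝒱, x' ∈ VU.2)
    (hretr : ∀ VU ∈ 𝒱, ∀ (e : VU.2 ≤ fX' ⁻¹ᵁ VU.1) (e' : π ⁻¹ᵁ VU.2 ≤ fX ⁻¹ᵁ VU.1),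
      ∃ ρ : Γ(X, π ⁻¹ᵁ VU.2) →+ Γ(X', VU.2), (∀ x, ρ (π.app VU.2 x) = x) ∧
        ∀ (r : Γ(S, VU.1)) (y : Γ(X, π ⁻¹ᵁ VU.2)),
          ρ (fX.appLE VU.1 (π ⁻¹ᵁ VU.2) e' r * y) = fX'.appLE VU.1 VU.2 e r * ρ y)
    (g : T ⟶ S)
    (ιT : pullback fZ g ⟶ pullback fX g) (qT : pullback fZ g ⟶ pullback fZ' g)
    (πT : pullback fX g ⟶ pullback fX' g) (ι'T : pullback fZ' g ⟶ pullback fX' g)
    (hιT1 : ιT ≫ pullback.fst fX g = pullback.fst fZ g ≫ ι)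
    (hιT2 : ιT ≫ pullback.snd fX g = pullback.snd fZ g)
    (hqT1 : qT ≫ pullback.fst fZ' g = pullback.fst fZ g ≫ q)
    (hqT2 : qT ≫ pullback.snd fZ' g = pullback.snd fZ g)
    (hπT1 : πT ≫ pullback.fst fX' g = pullback.fst fX g ≫ π)
    (hπT2 : πT ≫ pullback.snd fX' g = pullback.snd fX g)
    (hι'T1 : ι'T ≫ pullback.fst fX' g = pullback.fst fZ' g ≫ ι')
    (hι'T2 : ι'T ≫ pullback.snd fX' g = pullback.snd fZ' g) :
    IsPushout (G.map ιT) (G.map qT) (G.map πT) (G.map ι'T) := by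
  have w : ι ≫ π = q ≫ ι' := G.map_injective (by rw [G.map_comp, G.map_comp]; exact hpo.w)
  have wT : ιT ≫ πT = qT ≫ ι'T := by
    apply pullback.hom_ext
    · simp only [Category.assoc]
      rw [hπT1, reassoc_of% hιT1, hι'T1, reassoc_of% hqT1, w]
    · simp only [Category.assoc]
      rw [hπT2, hιT2, hι'T2, hqT2]
  haveI : IsClosedImmersion ιT := by
    have s : IsPullback (ιT ≫ pullback.snd fX g) (pullback.fst fZ g) g (ι ≫ fX) := by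
      rw [hιT2, hι]
      exact (IsPullback.of_hasPullback fZ g).flip
    have h2 := IsPullback.of_right s hιT1 (IsPullback.of_hasPullback fX g).flip
    exact MorphismProperty.of_isPullback (P := @IsClosedImmersion) h2.flip inferInstance
  haveI : IsClosedImmersion ι'T := by
    have s : IsPullback (ι'T ≫ pullback.snd fX' g) (pullback.fst fZ' g) g (ι' ≫ fX') := by
      rw [hι'T2, hι']
      exact (IsPullback.of_hasPullback fZ' g).flip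
    have h2 := IsPullback.of_right s hι'T1 (IsPullback.of_hasPullback fX' g).flip
    exact MorphismProperty.of_isPullback (P := @IsClosedImmersion) h2.flip inferInstance
  refine isPushout_of_local ιT qT πT ι'T wT
    {Ω | ∃ (V : S.Opens) (U' : X'.Opens) (W : T.Opens), (V, U') ∈ 𝒱 ∧
      IsAffineOpen W ∧ W ≤ g ⁻¹ᵁ V ∧
      Ω = pullback.fst fX' g ⁻¹ᵁ U' ⊓ pullback.snd fX' g ⁻¹ᵁ W} ?_ ?_ ?_
  · intro t
    obtain ⟨⟨V, U'⟩, hVU, hxU'⟩ := hcov (pullback.fst fX' g t)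
    obtain ⟨hV, hU', hU'V⟩ := h𝒱 _ hVU
    have hsV : fX' (pullback.fst fX' g t) ∈ V := hU'V hxU'
    have hgt : g (pullback.snd fX' g t) ∈ V := by
      have h1 := congrArg (fun m => m t) (pullback.condition (f := fX') (g := g))
      simp only [Scheme.Hom.comp_apply] at h1
      rw [← h1]
      exact hsV
    obtain ⟨_, ⟨W, hW, rfl⟩, htW, hWV⟩ := T.isBasis_affineOpens.exists_subset_of_mem_open
      (show pullback.snd fX' g t ∈ (g ⁻¹ᵁ V : Set T) from hgt) (g ⁻¹ᵁ V).isOpen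
    exact ⟨_, ⟨V, U', W, hVU, hW, fun x hx => hWV hx, rfl⟩, ⟨hxU', htW⟩⟩
  · rintro Ω ⟨V, U', W, hVU, hW, hWV, rfl⟩
    obtain ⟨hV, hU', hU'V⟩ := h𝒱 _ hVU
    refine ⟨isAffineOpen_box fX' g hV hW hU' hWV hU'V rfl, ?_⟩
    exact isAffineOpen_box fX g hV hW (hU'.preimage π) hWV
      (by rw [← hπ]; exact fun x hx => hU'V hx)
      (preimage_box fX fX' g π πT hπT1 hπT2 U' W)
  · rintro Ω ⟨V, U', W, hVU, hW, hWV, rfl⟩
    obtain ⟨hV, hU', hU'V⟩ := h𝒱 _ hVU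
    have eB : ι' ⁻¹ᵁ U' ≤ fZ' ⁻¹ᵁ V := by rw [← hι']; exact fun x hx => hU'V hx
    have eA' : π ⁻¹ᵁ U' ≤ fX ⁻¹ᵁ V := by rw [← hπ]; exact fun x hx => hU'V hx
    have eA : ι ⁻¹ᵁ (π ⁻¹ᵁ U') ≤ fZ ⁻¹ᵁ V := by rw [← hι]; exact fun x hx => eA' hx
    obtain ⟨ρ, hρ, hρl⟩ := hretr _ hVU hU'V eA'
    have hΩB := preimage_box fZ' fX' g ι' ι'T hι'T1 hι'T2 U' W
    have hΩA' := preimage_box fX fX' g π πT hπT1 hπT2 U' W
    have hΩA : ιT ⁻¹ᵁ (πT ⁻¹ᵁ (pullback.fst fX' g ⁻¹ᵁ U' ⊓ pullback.snd fX' g ⁻¹ᵁ W)) =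
        pullback.fst fZ g ⁻¹ᵁ (ι ⁻¹ᵁ (π ⁻¹ᵁ U')) ⊓ pullback.snd fZ g ⁻¹ᵁ W := by
      rw [hΩA', preimage_box fZ fX g ι ιT hιT1 hιT2]
    have hP := isPushout_box fX' g hV hW hU' hWV hU'V rfl inf_le_right inf_le_left
    have hB := isPushout_box fZ' g hV hW (hU'.preimage ι') hWV eB hΩB
      (by rw [hΩB]; exact inf_le_right) (by rw [hΩB]; exact inf_le_left)
    have hA' := isPushout_box fX g hV hW (hU'.preimage π) hWV eA' hΩA'
      (by rw [hΩA']; exact inf_le_right) (by rw [hΩA']; exact inf_le_left)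
    have hA := isPushout_box fZ g hV hW ((hU'.preimage π).preimage ι) hWV eA hΩA
      (by rw [hΩA]; exact inf_le_right) (by rw [hΩA]; exact inf_le_left)
    refine fibSq_pushout_retr (g.appLE V W hWV) (fX'.appLE V U' hU'V) (fZ'.appLE V _ eB)
      (fX.appLE V _ eA') (fZ.appLE V _ eA) (ι'.app U') (π.app U')
      (q.appLE (ι' ⁻¹ᵁ U') (ι ⁻¹ᵁ (π ⁻¹ᵁ U')) (hle ι q π ι' w U')) (ι.app (π ⁻¹ᵁ U'))
      (appLE_comp_app_eq ι' fX' fZ' hι' hU'V eB) (appLE_comp_app_eq π fX' fX hπ hU'V eA')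
      (appLE_comp_eq' q fZ' fZ hq eB (hle ι q π ι' w U') eA)
      (appLE_comp_app_eq ι fX fZ hι eA' eA)
      (fs_of_isPushout ι q π ι' hpo w U') (Scheme.Hom.app_surjective ι _ (hU'.preimage π))
      ρ hρ hρl
      hP hB hA' hA
      (ι'T.app _) (πT.app _) (qT.appLE _ _ (hle ιT qT πT ι'T wT _)) (ιT.app _)
      ?_ ?_ ?_ ?_ ?_ ?_ ?_ ?_
    · exact appLE_comp_app_eq ι'T (pullback.snd fX' g) (pullback.snd fZ' g) hι'T2 _ _
    · rw [Scheme.Hom.app_eq_appLE, Scheme.Hom.app_eq_appLE]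
      exact appLE_square ι'T (pullback.fst fX' g) (pullback.fst fZ' g) ι' hι'T1 _ _ _ _
    · exact appLE_comp_app_eq πT (pullback.snd fX' g) (pullback.snd fX g) hπT2 _ _
    · rw [Scheme.Hom.app_eq_appLE, Scheme.Hom.app_eq_appLE]
      exact appLE_square πT (pullback.fst fX' g) (pullback.fst fX g) π hπT1 _ _ _ _
    · exact appLE_comp_eq' qT (pullback.snd fZ' g) (pullback.snd fZ g) hqT2 _ _ _
    · exact appLE_square qT (pullback.fst fZ' g) (pullback.fst fZ g) q hqT1 _ _ _ _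
    · exact appLE_comp_app_eq ιT (pullback.snd fX g) (pullback.snd fZ g) hιT2 _ _
    · rw [Scheme.Hom.app_eq_appLE, Scheme.Hom.app_eq_appLE]
      exact appLE_square ιT (pullback.fst fX g) (pullback.fst fZ g) ι hιT1 _ _ _ _

end Groth.Agent.PinchBC
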