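import Mathlib
import Groth.Prelude.Def_W4c3jacimperfPinch
import Groth.Agent.Lib.PinchBCRetrSch_helper5
import Groth.Agent.Lib.SchPushoutPair_helper5
import Groth.Agent.Lib.SchPushoutIntUniq_helper5
import Groth.Agent.Lib.PinchSections_helper5

/-!
# Arbitrary base change of a pinching whose cokernel is projective
-/

namespace Groth.Agent.ShPushoutInt

open CategoryTheory Limits AlgebraicGeometry TopologicalSpace Opposite
open Groth.Agent.RSPushout Groth.Agent.RSPushoutCrit Groth.Agent.FibSqLib Groth.Agent.PushoutLocal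
open Groth.Agent.ShPushout

universe u

section Alg

theorem exists_retraction {Rr P B A' A : Type*} [CommRing Rr] [CommRing P] [CommRing B]
    [CommRing A'] [CommRing A]
    (cP : Rr →+* P) (cA : Rr →+* A) {π₁ : P →+* B} {π₂ : P →+* A'} {q : B →+* A} {p : A' →+* A}
    (hcA : cA = q.comp (π₁.comp cP))
    (sq : FibSq π₁ π₂ q p) (hp : Function.Surjective p) (hq : Function.Injective q)
    (hproj : letI := cA.toAlgebra
      Module.Projective Rr (A ⧸ Submodule.span Rr (Set.range q))) :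
    ∃ ρ : A' →+ P, (∀ x, ρ (π₂ x) = x) ∧ ∀ (r : Rr) (y : A'), ρ (π₂ (cP r) * y) = cP r * ρ y := by
  subst hcA
  letI : Algebra Rr A := (q.comp (π₁.comp cP)).toAlgebra
  letI : Algebra Rr A' := (π₂.comp cP).toAlgebra
  haveI : Module.Projective Rr (A ⧸ Submodule.span Rr (Set.range q)) := hproj
  let pl : A' →ₗ[Rr] A :=
    { toFun := p, map_add' := map_add p, map_smul' := fun r x => by
        rw [Algebra.smul_def, Algebra.smul_def, map_mul]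
        congr 1
        exact (sq.comm (cP r)).symm }
  let s : A' →ₗ[Rr] (A ⧸ Submodule.span Rr (Set.range q)) :=
    (Submodule.span Rr (Set.range q)).mkQ ∘ₗ pl
  have hs : Function.Surjective s :=
    (Submodule.mkQ_surjective _).comp hp
  obtain ⟨σ, hσ⟩ := Module.projective_lifting_property s LinearMap.id hs
  have hσ' : ∀ n, s (σ n) = n := fun n => congr($hσ n)
  have hspan : ∀ a : A, a ∈ Submodule.span Rr (Set.range q) → a ∈ Set.range q := by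
    intro a ha
    induction ha using Submodule.span_induction with
    | mem x hx => exact hx
    | zero => exact ⟨0, map_zero q⟩
    | add x y _ _ hx hy =>
      obtain ⟨b₁, rfl⟩ := hx
      obtain ⟨b₂, rfl⟩ := hy
      exact ⟨b₁ + b₂, map_add q _ _⟩
    | smul r x _ hx =>
      obtain ⟨b, rfl⟩ := hx
      refine ⟨π₁ (cP r) * b, ?_⟩
      rw [map_mul, Algebra.smul_def]
      rfl
  have hπ₂ : Function.Injective π₂ := by
    rw [injective_iff_map_eq_zero]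
    intro x hx
    refine sq.inj x ?_ hx
    apply hq
    rw [sq.comm, hx, map_zero, map_zero]
  have hker : ∀ a' : A', s a' = 0 → ∃ x : P, π₂ x = a' := by
    intro a' ha'
    have h1 : p a' ∈ Submodule.span Rr (Set.range q) :=
      (Submodule.Quotient.mk_eq_zero _).mp ha'
    obtain ⟨b, hb⟩ := hspan _ h1
    obtain ⟨x, -, hx⟩ := sq.surj b a' hb
    exact ⟨x, hx⟩
  have hex : ∀ a' : A', ∃ x : P, π₂ x = a' - σ (s a') := by
    intro a'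
    apply hker
    rw [map_sub, hσ', sub_self]
  choose ρ hρ using hex
  refine ⟨AddMonoidHom.mk' ρ (fun a' b' => ?_), fun x => ?_, fun r y => ?_⟩
  · apply hπ₂
    rw [map_add, hρ, hρ, hρ, map_add, map_add]
    abel
  · apply hπ₂
    show π₂ (ρ (π₂ x)) = π₂ x
    rw [hρ]
    have : s (π₂ x) = 0 := by
      show (Submodule.span Rr (Set.range q)).mkQ (p (π₂ x)) = 0
      rw [← sq.comm]
      exact (Submodule.Quotient.mk_eq_zero _).mpr (Submodule.subset_span ⟨_, rfl⟩)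
    rw [this, map_zero, sub_zero]
  · apply hπ₂
    show π₂ (ρ (π₂ (cP r) * y)) = π₂ (cP r * ρ y)
    have h1 : π₂ (cP r) * y = r • y := by
      rw [Algebra.smul_def]
      rfl
    rw [hρ, h1, map_smul, map_smul, map_mul π₂, hρ, Algebra.smul_def, Algebra.smul_def]
    have h2 : (algebraMap Rr A') r = π₂ (cP r) := rfl
    rw [h2]
    ring

end Alg

section Transport

theorem cokerProjective_transport {Z T Y : Scheme.{u}} (ξ : Z ⟶ T) (t : T ⟶ Y) (U : Y.Opens)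
    (WT : T.Opens) (WZ : Z.Opens) (e₁ : WT = t ⁻¹ᵁ U) (e₂ : WZ = (ξ ≫ t) ⁻¹ᵁ U)
    (hle : WZ ≤ ξ ⁻¹ᵁ WT) (eA : WZ ≤ (ξ ≫ t) ⁻¹ᵁ U)
    (hv : @Pinch.CokerProjective Γ(Y, U) Γ(Z, (ξ ≫ t) ⁻¹ᵁ U) Γ(T, t ⁻¹ᵁ U) _ _ _
      ((ξ ≫ t).app U).hom.toAlgebra (ξ.app (t ⁻¹ᵁ U)).hom) :
    @Pinch.CokerProjective Γ(Y, U) Γ(Z, WZ) Γ(T, WT) _ _ _
      ((ξ ≫ t).appLE U WZ eA).hom.toAlgebra (ξ.appLE WT WZ hle).hom := by
  subst e₁ e₂
  have h1 : (ξ ≫ t).appLE U ((ξ ≫ t) ⁻¹ᵁ U) eA = (ξ ≫ t).app U :=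
    (Scheme.Hom.app_eq_appLE _).symm
  have h2 : ξ.appLE (t ⁻¹ᵁ U) ((ξ ≫ t) ⁻¹ᵁ U) hle = ξ.app (t ⁻¹ᵁ U) :=
    (Scheme.Hom.app_eq_appLE _).symm
  rw [h1, h2]
  exact hv

theorem cokerProjective_of_bot {Z T Y : Scheme.{u}} (ξ : Z ⟶ T) (U : Y.Opens)
    (WT : T.Opens) (WZ : Z.Opens) (e₂ : WZ = ⊥) (hle : WZ ≤ ξ ⁻¹ᵁ WT)
    (cA : Γ(Y, U) ⟶ Γ(Z, WZ)) :
    @Pinch.CokerProjective Γ(Y, U) Γ(Z, WZ) Γ(T, WT) _ _ _
      cA.hom.toAlgebra (ξ.appLE WT WZ hle).hom := by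
  subst e₂
  letI : Algebra Γ(Y, U) Γ(Z, ⊥) := cA.hom.toAlgebra
  show Module.Projective Γ(Y, U) (Γ(Z, ⊥) ⧸ Submodule.span Γ(Y, U) (Set.range _))
  haveI : Subsingleton (Γ(Z, ⊥) ⧸ Submodule.span Γ(Y, U)
      (Set.range (ξ.appLE WT ⊥ hle).hom)) := by
    refine ⟨fun x y => ?_⟩
    obtain ⟨x, rfl⟩ := Submodule.Quotient.mk_surjective _ x
    obtain ⟨y, rfl⟩ := Submodule.Quotient.mk_surjective _ y
    rw [Subsingleton.elim x y]
  infer_instance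

end Transport

section Sch

variable {X Y Z Q : Scheme.{u}} (i : Z ⟶ X) (j : Z ⟶ Y) (a : X ⟶ Q) (b : Y ⟶ Q)
  (hQ : IsPushout (G.map i) (G.map j) (G.map a) (G.map b)) {S : Scheme.{u}} (r : Q ⟶ S)

include hQ in
theorem exists_retr_sch [IsClosedImmersion i] (V : S.Opens) (U' : Q.Opens) (e : U' ≤ r ⁻¹ᵁ V)
    (e' : a ⁻¹ᵁ U' ≤ (a ≫ r) ⁻¹ᵁ V) (hXa : IsAffineOpen (a ⁻¹ᵁ U'))
    (eA : i ⁻¹ᵁ (a ⁻¹ᵁ U') ≤ (j ≫ b ≫ r) ⁻¹ᵁ V)
    (hq : Function.Injective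
      (j.appLE (b ⁻¹ᵁ U') (i ⁻¹ᵁ (a ⁻¹ᵁ U')) (eqZ' i j a b hQ U').le))
    (hproj : @Pinch.CokerProjective Γ(S, V) Γ(Z, i ⁻¹ᵁ (a ⁻¹ᵁ U')) Γ(Y, b ⁻¹ᵁ U') _ _ _
      ((j ≫ b ≫ r).appLE V _ eA).hom.toAlgebra
      (j.appLE (b ⁻¹ᵁ U') (i ⁻¹ᵁ (a ⁻¹ᵁ U')) (eqZ' i j a b hQ U').le).hom) :
    ∃ ρ : Γ(X, a ⁻¹ᵁ U') →+ Γ(Q, U'), (∀ x, ρ (a.app U' x) = x) ∧
      ∀ (s : Γ(S, V)) (y : Γ(X, a ⁻¹ᵁ U')),
        ρ ((a ≫ r).appLE V (a ⁻¹ᵁ U') e' s * y) = r.appLE V U' e s * ρ y := by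
  have sq := fibSq_sch' i j a b hQ U'
  have hcA : ((j ≫ b ≫ r).appLE V _ eA).hom =
      (j.appLE (b ⁻¹ᵁ U') (i ⁻¹ᵁ (a ⁻¹ᵁ U')) (eqZ' i j a b hQ U').le).hom.comp
        ((b.app U').hom.comp (r.appLE V U' e).hom) := by
    rw [← CommRingCat.hom_comp, ← CommRingCat.hom_comp]
    congr 1
    rw [Scheme.Hom.app_eq_appLE, Scheme.Hom.appLE_comp_appLE, Scheme.Hom.appLE_comp_appLE]
  obtain ⟨ρ, h1, h2⟩ := exists_retraction (r.appLE V U' e).hom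
    ((j ≫ b ≫ r).appLE V _ eA).hom hcA sq (Scheme.Hom.app_surjective i _ hXa) hq hproj
  refine ⟨ρ, h1, fun s y => ?_⟩
  have h3 : r.appLE V U' e ≫ a.app U' = (a ≫ r).appLE V (a ⁻¹ᵁ U') e' := by
    rw [Scheme.Hom.app_eq_appLE, Scheme.Hom.appLE_comp_appLE]
  have h4 : (a ≫ r).appLE V (a ⁻¹ᵁ U') e' s = a.app U' (r.appLE V U' e s) := by
    rw [← h3]
    rfl
  rw [h4]
  exact h2 s y

end Sch

end Groth.Agent.ShPushoutInt
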