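import Mathlib
import Groth.Agent.Lib.PinchBCProj_helper5

/-!
# Arbitrary base change of a pinching whose cokernel is projective: the theorem
-/

namespace Groth.Agent.ShPushoutInt

open CategoryTheory Limits AlgebraicGeometry TopologicalSpace Opposite
open Groth.Agent.RSPushout Groth.Agent.RSPushoutCrit Groth.Agent.FibSqLib Groth.Agent.PushoutLocal
open Groth.Agent.ShPushout

universe u

theorem subsingleton_of_eq_bot {W : Scheme.{u}} (V : W.Opens) (h : V = ⊥) : Subsingleton Γ(W, V) := by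
  subst h
  infer_instance

theorem isPushout_baseChange_of_cokerProjective
    {X Y T Z P : Scheme.{u}} (f : X ⟶ Y) (t : T ⟶ Y) (ξ : Z ⟶ T) (ι : Z ⟶ X)
    [IsAffineHom t] [IsClosedImmersion ι] (hsq : ι ≫ f = ξ ≫ t)
    (hstd : ∀ y : Y, ∃ U : Y.Opens, IsAffineOpen U ∧ y ∈ U ∧ ∃ V : X.Opens, IsAffineOpen V ∧
      V ≤ f ⁻¹ᵁ U ∧ ∀ z : Z, (ξ ≫ t).base z ∈ U → ι.base z ∈ V)
    [IsIntegralHom ξ] [Flat ξ] [Surjective ξ]
    (a : X ⟶ P) (b : T ⟶ P) (hP : IsPushout ι ξ a b)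
    (hv : ∀ U : Y.affineOpens, @Pinch.CokerProjective Γ(Y, U) Γ(Z, (ξ ≫ t) ⁻¹ᵁ U) Γ(T, t ⁻¹ᵁ U)
      _ _ _ ((ξ ≫ t).app U).hom.toAlgebra (ξ.app (t ⁻¹ᵁ U)).hom)
    (p : P ⟶ Y) (hap : a ≫ p = f) (hbp : b ≫ p = t) {Y' : Scheme.{u}} (g : Y' ⟶ Y)
    (ιT : pullback (ξ ≫ t) g ⟶ pullback f g) (qT : pullback (ξ ≫ t) g ⟶ pullback t g)
    (πT : pullback f g ⟶ pullback p g) (ι'T : pullback t g ⟶ pullback p g)
    (hιT1 : ιT ≫ pullback.fst f g = pullback.fst (ξ ≫ t) g ≫ ι)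
    (hιT2 : ιT ≫ pullback.snd f g = pullback.snd (ξ ≫ t) g)
    (hqT1 : qT ≫ pullback.fst t g = pullback.fst (ξ ≫ t) g ≫ ξ)
    (hqT2 : qT ≫ pullback.snd t g = pullback.snd (ξ ≫ t) g)
    (hπT1 : πT ≫ pullback.fst p g = pullback.fst f g ≫ a)
    (hπT2 : πT ≫ pullback.snd p g = pullback.snd f g)
    (hι'T1 : ι'T ≫ pullback.fst p g = pullback.fst t g ≫ b)
    (hι'T2 : ι'T ≫ pullback.snd p g = pullback.snd t g) :
    IsPushout ιT qT πT ι'T := by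
  subst hap hbp
  have haff := haff_of_std (a ≫ p) (b ≫ p) ξ ι hstd
  have hG := isPushout_G_of_isPushout' ι ξ haff a b hP
  haveI : IsIntegralHom a := isIntegralHom_inl' ι ξ a b hG haff
  haveI : IsClosedImmersion b := isClosedImmersion_inr' ι ξ a b hG haff
  have hi : Function.Injective ι := ι.isEmbedding.injective
  have hpt := exists_pt ι ξ (G.map a) (G.map b) hG
  have hcomm : ∀ z : Z, a (ι z) = b (ξ z) := comm_pt ι ξ (G.map a) (G.map b) hG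
  refine isPushout_of_G _ _ _ _ (Groth.Agent.PinchBC.isPushout_baseChange_retr (a ≫ p) (b ≫ p) p
    (ξ ≫ b ≫ p) ι ξ a b hsq rfl rfl rfl hG
    {VU | IsAffineOpen VU.1 ∧ IsAffineOpen VU.2 ∧ VU.2 ≤ p ⁻¹ᵁ VU.1 ∧
      (b ⁻¹ᵁ VU.2 = ⊥ ∨ b ⁻¹ᵁ VU.2 = (b ≫ p) ⁻¹ᵁ VU.1)} ?_ ?_ ?_ g ιT qT πT ι'T
    hιT1 hιT2 hqT1 hqT2 hπT1 hπT2 hι'T1 hι'T2)
  · rintro ⟨V, U'⟩ ⟨h1, h2, h3, -⟩
    exact ⟨h1, h2, h3⟩
  · -- covering
    have keyT : ∀ y' : T, ∃ VU ∈ {VU : Y.Opens × P.Opens | IsAffineOpen VU.1 ∧ IsAffineOpen VU.2 ∧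
        VU.2 ≤ p ⁻¹ᵁ VU.1 ∧ (b ⁻¹ᵁ VU.2 = ⊥ ∨ b ⁻¹ᵁ VU.2 = (b ≫ p) ⁻¹ᵁ VU.1)}, b y' ∈ VU.2 := by
      intro y'
      obtain ⟨U, hU, hyU, VX, hVX, hVXU, hZ⟩ := hstd ((b ≫ p) y')
      have hpair : ι ⁻¹ᵁ VX = ξ ⁻¹ᵁ ((b ≫ p) ⁻¹ᵁ U) := by
        ext z
        constructor
        · intro hz
          have h1 : ι z ∈ (a ≫ p) ⁻¹ᵁ U := hVXU hz
          have h2 : (ι ≫ a ≫ p) z ∈ U := h1
          rw [hsq] at h2
          exact h2
        · intro hz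
          exact hZ z hz
      obtain ⟨U', hU'a, hU'b⟩ := exists_open' ι ξ (G.map a) (G.map b) hG hi VX
        ((b ≫ p) ⁻¹ᵁ U) hpair
      have hU'a' : a ⁻¹ᵁ U' = VX := hU'a
      have hU'b' : b ⁻¹ᵁ U' = (b ≫ p) ⁻¹ᵁ U := hU'b
      have hU'aff : IsAffineOpen U' := isAffineOpen_of_good' ι ξ a b hG U'
        (by rw [hU'a']; exact hVX) (by rw [hU'b']; exact hU.preimage (b ≫ p))
      refine ⟨(U, U'), ⟨hU, hU'aff, ?_, Or.inr hU'b'⟩, ?_⟩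
      · intro x'' hx''
        rcases hpt x'' with ⟨x₂, rfl⟩ | ⟨y₂, rfl⟩
        · have h1 : x₂ ∈ a ⁻¹ᵁ U' := hx''
          rw [hU'a'] at h1
          exact hVXU h1
        · have h1 : y₂ ∈ b ⁻¹ᵁ U' := hx''
          rw [hU'b'] at h1
          exact h1
      · have h1 : y' ∈ b ⁻¹ᵁ U' := by
          rw [hU'b']
          exact hyU
        exact h1
    intro x'
    rcases hpt x' with ⟨x, rfl⟩ | ⟨y', rfl⟩
    · by_cases hx : x ∈ Set.range ι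
      · obtain ⟨z, rfl⟩ := hx
        obtain ⟨VU, hVU, hmem⟩ := keyT (ξ z)
        refine ⟨VU, hVU, ?_⟩
        have h1 : a (ι z) ∈ VU.2 := by
          rw [hcomm z]
          exact hmem
        exact h1
      · obtain ⟨_, ⟨V, hV, rfl⟩, hxV, -⟩ := Y.isBasis_affineOpens.exists_subset_of_mem_open
          (Set.mem_univ ((a ≫ p) x)) isOpen_univ
        obtain ⟨_, ⟨UX, hUX, rfl⟩, hxUX, hUXc⟩ := X.isBasis_affineOpens.exists_subset_of_mem_open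
          (show x ∈ (Set.range ι)ᶜ ∩ ((a ≫ p) ⁻¹ᵁ V : Set X) from ⟨hx, hxV⟩)
          (ι.isClosedEmbedding.isClosed_range.isOpen_compl.inter ((a ≫ p) ⁻¹ᵁ V).isOpen)
        obtain ⟨U', hU'a, hU'b⟩ := exists_open' ι ξ (G.map a) (G.map b) hG hi UX ⊥ (by
          ext z
          constructor
          · intro hz
            exact ((hUXc hz).1 ⟨z, rfl⟩).elim
          · intro hz
            exact hz.elim)
        have hU'a' : a ⁻¹ᵁ U' = UX := hU'a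
        have hU'b' : b ⁻¹ᵁ U' = ⊥ := hU'b
        have hU'aff : IsAffineOpen U' := isAffineOpen_of_good' ι ξ a b hG U'
          (by rw [hU'a']; exact hUX) (by rw [hU'b']; exact isAffineOpen_bot T)
        refine ⟨(V, U'), ⟨hV, hU'aff, ?_, Or.inl hU'b'⟩, ?_⟩
        · intro x'' hx''
          rcases hpt x'' with ⟨x₂, rfl⟩ | ⟨y₂, rfl⟩
          · have h1 : x₂ ∈ a ⁻¹ᵁ U' := hx''
            rw [hU'a'] at h1
            exact (hUXc h1).2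
          · have h1 : y₂ ∈ b ⁻¹ᵁ U' := hx''
            rw [hU'b'] at h1
            exact h1.elim
        · have h1 : x ∈ a ⁻¹ᵁ U' := by
            rw [hU'a']
            exact hxUX
          exact h1
    · exact keyT y'
  · -- retractions
    rintro ⟨V, U'⟩ ⟨hV, hU', hU'V, hcase⟩ e e'
    have hXa : IsAffineOpen (a ⁻¹ᵁ U') := hU'.preimage a
    have hbV : b ⁻¹ᵁ U' ≤ (b ≫ p) ⁻¹ᵁ V := fun y hy => hU'V hy
    have eZ := eqZ' ι ξ a b hG U'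
    have eA : ι ⁻¹ᵁ (a ⁻¹ᵁ U') ≤ (ξ ≫ b ≫ p) ⁻¹ᵁ V := by
      rw [eZ]
      exact fun z hz => hbV hz
    have hq : Function.Injective (ξ.appLE (b ⁻¹ᵁ U') (ι ⁻¹ᵁ (a ⁻¹ᵁ U')) eZ.le) := by
      have h1 := Groth.Agent.PinchSections.app_injective_of_flat_of_surjective ξ (b ⁻¹ᵁ U')
      have h2 := (map_bijective_of_eq eZ eZ.le).1
      exact h2.comp h1
    refine exists_retr_sch ι ξ a b hG p V U' e e' hXa eA hq ?_
    rcases hcase with hbot | hfull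
    · refine cokerProjective_of_bot ξ V (b ⁻¹ᵁ U') (ι ⁻¹ᵁ (a ⁻¹ᵁ U')) ?_ eZ.le _
      rw [eZ, hbot]
      rfl
    · refine cokerProjective_transport ξ (b ≫ p) V (b ⁻¹ᵁ U') (ι ⁻¹ᵁ (a ⁻¹ᵁ U')) hfull ?_ eZ.le eA
        (hv ⟨V, hV⟩)
      rw [eZ, hfull]
      rfl

end Groth.Agent.ShPushoutInt
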