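import Mathlib

namespace Groth.Agent.Lib.PinchDer

open MvPolynomial

noncomputable section

variable (K : Type*) [Field K]

def phi : MvPolynomial (Fin 2) K →ₐ[K] Polynomial K := aeval ![Polynomial.X, 0]
def iota : Polynomial K →ₐ[K] MvPolynomial (Fin 2) K := Polynomial.aeval (X 0)
def E : Subalgebra K (Polynomial K) := Algebra.adjoin K {(Polynomial.X ^ 2 : Polynomial K)}
def R : Subalgebra K (MvPolynomial (Fin 2) K) := Algebra.adjoin K {X 0 ^ 2, X 0 * X 1, X 1}

@[simp] lemma phi_X0 : phi K (X 0) = Polynomial.X := by simp [phi]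
@[simp] lemma phi_X1 : phi K (X 1) = 0 := by simp [phi]
@[simp] lemma iota_X : iota K Polynomial.X = X 0 := by simp [iota]

lemma mem_E_iff (q : Polynomial K) :
    q ∈ E K ↔ ∃ r : Polynomial K, Polynomial.aeval (Polynomial.X ^ 2 : Polynomial K) r = q := by
  rw [E, Algebra.adjoin_singleton_eq_range_aeval]
  exact AlgHom.mem_range (Polynomial.aeval (Polynomial.X ^ 2 : Polynomial K))

lemma fin2_cases (i : Fin 2) : i = 0 ∨ i = 1 := by fin_cases i <;> simp

lemma sub_iota_phi_mem (f : MvPolynomial (Fin 2) K) :
    f - iota K (phi K f) ∈ Ideal.span ({X 1} : Set (MvPolynomial (Fin 2) K)) := by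
  induction f using MvPolynomial.induction_on with
  | C k =>
    have : iota K (phi K (C k)) = C k := by
      rw [← MvPolynomial.algebraMap_eq, AlgHom.commutes, AlgHom.commutes]
    rw [this, sub_self]; exact Ideal.zero_mem _
  | add p q hp hq =>
    have : p + q - iota K (phi K (p + q)) = (p - iota K (phi K p)) + (q - iota K (phi K q)) := by
      rw [map_add, map_add]; ring
    rw [this]; exact Ideal.add_mem _ hp hq
  | mul_X p i hp =>
    have h1 : p * X i - iota K (phi K (p * X i)) =
        (p - iota K (phi K p)) * X i + iota K (phi K p) * (X i - iota K (phi K (X i))) := by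
      rw [map_mul, map_mul]; ring
    rw [h1]
    refine Ideal.add_mem _ (Ideal.mul_mem_right _ _ hp) (Ideal.mul_mem_left _ _ ?_)
    rcases fin2_cases i with rfl | rfl
    · rw [phi_X0, iota_X, sub_self]; exact Ideal.zero_mem _
    · rw [phi_X1, map_zero, sub_zero]; exact Ideal.subset_span rfl

lemma y_mul_mem (g : MvPolynomial (Fin 2) K) : X 1 * g ∈ R K ∧ X 0 * X 1 * g ∈ R K := by
  have hy : (X 1 : MvPolynomial (Fin 2) K) ∈ R K := Algebra.subset_adjoin (by simp)
  have hxy : (X 0 * X 1 : MvPolynomial (Fin 2) K) ∈ R K := Algebra.subset_adjoin (by simp)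
  have hxx : (X 0 ^ 2 : MvPolynomial (Fin 2) K) ∈ R K := Algebra.subset_adjoin (by simp)
  induction g using MvPolynomial.induction_on with
  | C k =>
    constructor
    · rw [mul_comm, C_mul']; exact (R K).smul_mem hy k
    · rw [mul_comm, C_mul']; exact (R K).smul_mem hxy k
  | add p q hp hq =>
    exact ⟨by rw [mul_add]; exact add_mem hp.1 hq.1, by rw [mul_add]; exact add_mem hp.2 hq.2⟩
  | mul_X p i hp =>
    rcases fin2_cases i with rfl | rfl
    · constructor
      · have : X 1 * (p * X 0) = X 0 * X 1 * p := by ring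
        rw [this]; exact hp.2
      · have : X 0 * X 1 * (p * X 0) = X 0 ^ 2 * (X 1 * p) := by ring
        rw [this]; exact mul_mem hxx hp.1
    · constructor
      · have : X 1 * (p * X 1) = (X 1 * p) * X 1 := by ring
        rw [this]; exact mul_mem hp.1 hy
      · have : X 0 * X 1 * (p * X 1) = (X 0 * X 1 * p) * X 1 := by ring
        rw [this]; exact mul_mem hp.2 hy

lemma mem_R_iff (f : MvPolynomial (Fin 2) K) : f ∈ R K ↔ phi K f ∈ E K := by
  constructor
  · intro hf
    have hle : R K ≤ (E K).comap (phi K) := by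
      refine Algebra.adjoin_le ?_
      intro x hx
      simp only [Set.mem_insert_iff, Set.mem_singleton_iff] at hx
      have hXX : (Polynomial.X ^ 2 : Polynomial K) ∈ E K := Algebra.subset_adjoin (by simp)
      rcases hx with rfl | rfl | rfl
      · show phi K (X 0 ^ 2) ∈ E K
        rw [map_pow, phi_X0]; exact hXX
      · show phi K (X 0 * X 1) ∈ E K
        rw [map_mul, phi_X1, mul_zero]; exact zero_mem _
      · show phi K (X 1) ∈ E K
        rw [phi_X1]; exact zero_mem _
    exact hle hf
  · intro hf
    have h1 := sub_iota_phi_mem K f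
    obtain ⟨g, hg⟩ := Ideal.mem_span_singleton'.mp h1
    have h2 : iota K (phi K f) ∈ R K := by
      obtain ⟨q, hq⟩ := (mem_E_iff K _).mp hf
      rw [← hq]
      have h3 := Polynomial.aeval_algHom_apply (iota K) (Polynomial.X ^ 2 : Polynomial K) q
      rw [← h3, map_pow, iota_X]
      have hle : Algebra.adjoin K {(X 0 ^ 2 : MvPolynomial (Fin 2) K)} ≤ R K :=
        Algebra.adjoin_mono (by simp)
      apply hle
      rw [Algebra.adjoin_singleton_eq_range_aeval]
      exact (AlgHom.mem_range (Polynomial.aeval (X 0 ^ 2 : MvPolynomial (Fin 2) K))).mpr ⟨q, rfl⟩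
    have : f = g * X 1 + iota K (phi K f) := by rw [hg]; ring
    rw [this]
    refine add_mem ?_ h2
    rw [mul_comm]; exact (y_mul_mem K g).1

lemma sigma_fix (q : Polynomial K) (hq : q ∈ E K) :
    Polynomial.aeval (-Polynomial.X : Polynomial K) q = q := by
  obtain ⟨r, rfl⟩ := (mem_E_iff K _).mp hq
  have h3 := Polynomial.aeval_algHom_apply (Polynomial.aeval (-Polynomial.X : Polynomial K))
    (Polynomial.X ^ 2 : Polynomial K) r
  rw [← h3]
  simp

theorem main (K : Type*) [Field K] [NeZero (2 : K)]
    (D : Derivation K (MvPolynomial (Fin 2) K) (MvPolynomial (Fin 2) K)) :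
    letI x : MvPolynomial (Fin 2) K := MvPolynomial.X 0
    letI y : MvPolynomial (Fin 2) K := MvPolynomial.X 1
    letI R : Subalgebra K (MvPolynomial (Fin 2) K) := Algebra.adjoin K {x ^ 2, x * y, y}
    (∀ r ∈ R, D r ∈ R) ↔
      (D y ∈ Ideal.span {y} ∧
        ∃ (s : MvPolynomial (Fin 2) K) (p : Polynomial K), D x = y * s + x * Polynomial.aeval (x ^ 2) p) := by
  have h2 : (2 : K) ≠ 0 := NeZero.ne 2
  change (∀ r ∈ Groth.Agent.Lib.PinchDer.R K, D r ∈ Groth.Agent.Lib.PinchDer.R K) ↔ _
  have hXX : (Polynomial.X ^ 2 : Polynomial K) ∈ E K := Algebra.subset_adjoin (by simp)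
  constructor
  · intro h
    have hy : (X 1 : MvPolynomial (Fin 2) K) ∈ Groth.Agent.Lib.PinchDer.R K :=
      Algebra.subset_adjoin (by simp)
    have hxy : (X 0 * X 1 : MvPolynomial (Fin 2) K) ∈ Groth.Agent.Lib.PinchDer.R K :=
      Algebra.subset_adjoin (by simp)
    have hxx : (X 0 * X 0 : MvPolynomial (Fin 2) K) ∈ Groth.Agent.Lib.PinchDer.R K := by
      have : (X 0 ^ 2 : MvPolynomial (Fin 2) K) ∈ Groth.Agent.Lib.PinchDer.R K :=
        Algebra.subset_adjoin (by simp)
      rwa [pow_two] at this
    have hb : phi K (D (X 1)) ∈ E K := (mem_R_iff K _).mp (h _ hy)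
    have hXb : Polynomial.X * phi K (D (X 1)) ∈ E K := by
      have := (mem_R_iff K _).mp (h _ hxy)
      rwa [Derivation.leibniz, map_add, smul_eq_mul, smul_eq_mul, map_mul, map_mul, phi_X0,
        phi_X1, zero_mul, add_zero] at this
    have hXa : Polynomial.X * phi K (D (X 0)) ∈ E K := by
      have := (mem_R_iff K _).mp (h _ hxx)
      rw [Derivation.leibniz, map_add, smul_eq_mul, map_mul, phi_X0] at this
      have h3 := (E K).smul_mem this (2⁻¹ : K)
      rwa [← two_smul K, smul_smul, inv_mul_cancel₀ h2, one_smul] at h3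
    have hb0 : phi K (D (X 1)) = 0 := by
      have e1 := sigma_fix K _ hb
      have e2 := sigma_fix K _ hXb
      rw [map_mul, Polynomial.aeval_X, e1] at e2
      have h2' : (2 : Polynomial K) ≠ 0 := by
        rw [show (2 : Polynomial K) = Polynomial.C 2 from (map_ofNat Polynomial.C 2).symm]
        exact Polynomial.C_ne_zero.mpr h2
      have h4 : (2 : Polynomial K) * (Polynomial.X * phi K (D (X 1))) = 0 := by
        linear_combination (-1 : Polynomial K) * e2
      rcases mul_eq_zero.mp h4 with h5 | h5
      · exact absurd h5 h2'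
      · rcases mul_eq_zero.mp h5 with h6 | h6
        · exact absurd h6 Polynomial.X_ne_zero
        · exact h6
    obtain ⟨q, hq⟩ : ∃ q : Polynomial K, Polynomial.aeval (Polynomial.X ^ 2 : Polynomial K) q =
        Polynomial.X * phi K (D (X 0)) := (mem_E_iff K _).mp hXa
    have hq0 : q.coeff 0 = 0 := by
      have h5 := congrArg (Polynomial.eval 0) hq
      rw [← Polynomial.divX_mul_X_add q] at h5
      simpa using h5
    have ha : phi K (D (X 0)) =
        Polynomial.X * Polynomial.aeval (Polynomial.X ^ 2 : Polynomial K) q.divX := by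
      have h6 : Polynomial.aeval (Polynomial.X ^ 2 : Polynomial K) q =
          Polynomial.aeval (Polynomial.X ^ 2 : Polynomial K) q.divX * Polynomial.X ^ 2 := by
        conv_lhs => rw [← Polynomial.divX_mul_X_add q, hq0]
        simp
      rw [h6] at hq
      have : Polynomial.X * (Polynomial.X *
          Polynomial.aeval (Polynomial.X ^ 2 : Polynomial K) q.divX) =
          Polynomial.X * phi K (D (X 0)) := by rw [← hq]; ring
      exact (mul_left_cancel₀ Polynomial.X_ne_zero this).symm
    refine ⟨?_, ?_⟩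
    · have h7 := sub_iota_phi_mem K (D (X 1))
      rwa [hb0, map_zero, sub_zero] at h7
    · have h7 := sub_iota_phi_mem K (D (X 0))
      obtain ⟨s, hs⟩ := Ideal.mem_span_singleton'.mp h7
      refine ⟨s, q.divX, ?_⟩
      have h8 : iota K (phi K (D (X 0))) =
          X 0 * Polynomial.aeval (X 0 ^ 2 : MvPolynomial (Fin 2) K) q.divX := by
        rw [ha, map_mul, iota_X]
        have := Polynomial.aeval_algHom_apply (iota K) (Polynomial.X ^ 2 : Polynomial K) q.divX
        rw [← this, map_pow, iota_X]
      rw [h8] at hs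
      linear_combination (-1 : MvPolynomial (Fin 2) K) * hs
  · rintro ⟨hy, s, p, hx⟩
    obtain ⟨t, ht⟩ := Ideal.mem_span_singleton'.mp hy
    have hφy : phi K (D (X 1)) = 0 := by rw [← ht, map_mul, phi_X1, mul_zero]
    have hφx : phi K (D (X 0)) =
        Polynomial.X * Polynomial.aeval (Polynomial.X ^ 2 : Polynomial K) p := by
      rw [hx, map_add, map_mul, map_mul, phi_X1, zero_mul, zero_add, phi_X0]
      have := Polynomial.aeval_algHom_apply (phi K) (X 0 ^ 2 : MvPolynomial (Fin 2) K) p
      rw [← this, map_pow, phi_X0]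
    have hpE : Polynomial.aeval (Polynomial.X ^ 2 : Polynomial K) p ∈ E K := by
      exact (mem_E_iff K _).mpr ⟨p, rfl⟩
    intro r hr
    rw [mem_R_iff]
    have hr' : r ∈ Algebra.adjoin K
        ({X 0 ^ 2, X 0 * X 1, X 1} : Set (MvPolynomial (Fin 2) K)) := hr
    refine Algebra.adjoin_induction (p := fun r _ => phi K (D r) ∈ E K) ?_ ?_ ?_ ?_ hr'
    · intro x hx'
      simp only [Set.mem_insert_iff, Set.mem_singleton_iff] at hx'
      rcases hx' with rfl | rfl | rfl
      · rw [pow_two, Derivation.leibniz, map_add, smul_eq_mul, map_mul, phi_X0, hφx]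
        have : Polynomial.X * (Polynomial.X *
            Polynomial.aeval (Polynomial.X ^ 2 : Polynomial K) p) =
            Polynomial.X ^ 2 * Polynomial.aeval (Polynomial.X ^ 2 : Polynomial K) p := by ring
        rw [this]
        exact add_mem (mul_mem hXX hpE) (mul_mem hXX hpE)
      · rw [Derivation.leibniz, map_add, smul_eq_mul, smul_eq_mul, map_mul, map_mul, hφy,
          phi_X1, mul_zero, zero_mul, add_zero]
        exact zero_mem _
      · rw [hφy]; exact zero_mem _
    · intro k
      rw [Derivation.map_algebraMap, map_zero]; exact zero_mem _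
    · intro x y _ _ hx' hy'
      rw [map_add, map_add]; exact add_mem hx' hy'
    · intro x y hxR hyR hx' hy'
      rw [Derivation.leibniz, map_add, smul_eq_mul, smul_eq_mul, map_mul, map_mul]
      exact add_mem (mul_mem ((mem_R_iff K x).mp hxR) hy') (mul_mem ((mem_R_iff K y).mp hyR) hx')

end

end Groth.Agent.Lib.PinchDer
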