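import Mathlib

namespace Groth.Agent.Lib.PinchExt

open MvPolynomial

noncomputable section

abbrev S (K : Type*) [Field K] : Subalgebra K (MvPolynomial (Fin 2) K) :=
  Algebra.adjoin K {MvPolynomial.X 0 ^ 2, MvPolynomial.X 0 * MvPolynomial.X 1, MvPolynomial.X 1}

lemma fin2_cases (i : Fin 2) : i = 0 ∨ i = 1 := by fin_cases i <;> simp

theorem main (K : Type*) [Field K] [NeZero (2 : K)] :
    letI R : Subalgebra K (MvPolynomial (Fin 2) K) :=
      Algebra.adjoin K {MvPolynomial.X 0 ^ 2, MvPolynomial.X 0 * MvPolynomial.X 1, MvPolynomial.X 1}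
    ∀ δ : Derivation K R (MvPolynomial (Fin 2) K),
      ∃! D : Derivation K (MvPolynomial (Fin 2) K) (MvPolynomial (Fin 2) K),
        ∀ r : R, D (r : MvPolynomial (Fin 2) K) = δ r := by
  intro δ
  have h2 : (2 : K) ≠ 0 := NeZero.ne 2
  have hxx : (X 0 ^ 2 : MvPolynomial (Fin 2) K) ∈ S K := Algebra.subset_adjoin (by simp)
  have hxy : (X 0 * X 1 : MvPolynomial (Fin 2) K) ∈ S K := Algebra.subset_adjoin (by simp)
  have hy : (X 1 : MvPolynomial (Fin 2) K) ∈ S K := Algebra.subset_adjoin (by simp)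
  obtain ⟨rxx, hcxx⟩ : ∃ r : S K, (r : MvPolynomial (Fin 2) K) = X 0 ^ 2 := ⟨⟨_, hxx⟩, rfl⟩
  obtain ⟨rxy, hcxy⟩ : ∃ r : S K, (r : MvPolynomial (Fin 2) K) = X 0 * X 1 := ⟨⟨_, hxy⟩, rfl⟩
  obtain ⟨ry, hcy⟩ : ∃ r : S K, (r : MvPolynomial (Fin 2) K) = X 1 := ⟨⟨_, hy⟩, rfl⟩
  have hsub : ∀ (a : MvPolynomial (Fin 2) K) (ha : a ∈ S K) (r : S K),
      (r : MvPolynomial (Fin 2) K) = a → δ ⟨a, ha⟩ = δ r := by
    intro a ha r h
    congr 1
    exact Subtype.ext h.symm
  have hC : (C (2⁻¹ : K) : MvPolynomial (Fin 2) K) * 2 = 1 := by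
    rw [show (2 : MvPolynomial (Fin 2) K) = C 2 from (map_ofNat C 2).symm, ← C_mul,
      inv_mul_cancel₀ h2, C_1]
  have h2P : (2 : MvPolynomial (Fin 2) K) ≠ 0 := by
    intro h; rw [h, mul_zero] at hC; exact zero_ne_one hC
  have hrel : rxy * rxy = rxx * (ry * ry) := by
    apply Subtype.ext
    simp only [MulMemClass.coe_mul, hcxx, hcxy, hcy]
    ring
  have hsq : ∀ (E : Derivation K (MvPolynomial (Fin 2) K) (MvPolynomial (Fin 2) K)),
      E (X 0 ^ 2) = X 0 * E (X 0) + X 0 * E (X 0) := fun E => by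
    rw [pow_two, Derivation.leibniz, smul_eq_mul]
  have hδ := congrArg δ hrel
  rw [Derivation.leibniz, Derivation.leibniz, Derivation.leibniz] at hδ
  simp only [Subalgebra.smul_def, smul_eq_mul, MulMemClass.coe_mul, hcxx, hcxy, hcy] at hδ
  -- divisibility
  have hdvd : (X 0 : MvPolynomial (Fin 2) K) ∣ δ rxx := by
    have h1 : (X 0 : MvPolynomial (Fin 2) K) ∣ X 1 ^ 2 * δ rxx :=
      ⟨X 1 * δ rxy + X 1 * δ rxy - X 0 * (X 1 * δ ry + X 1 * δ ry), by
        linear_combination (-1 : MvPolynomial (Fin 2) K) * hδ⟩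
    rcases (X_prime (R := K) (i := (0 : Fin 2))).dvd_or_dvd h1 with h | h
    · exfalso
      have h3 := (X_prime (R := K) (i := (0 : Fin 2))).dvd_of_dvd_pow h
      have h4 : (0 : Fin 2) = 1 := X_dvd_X.mp h3
      exact absurd h4 (by decide)
    · exact h
  obtain ⟨q, hq⟩ := hdvd
  have hdx2 : X 0 * (C (2⁻¹ : K) * q) + X 0 * (C (2⁻¹ : K) * q) = δ rxx := by
    linear_combination (X 0 * q) * hC - hq
  have hD0 : (mkDerivation K ![C (2⁻¹ : K) * q, δ ry]) (X 0) = C (2⁻¹ : K) * q := by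
    rw [mkDerivation_X]; rfl
  have hD1 : (mkDerivation K ![C (2⁻¹ : K) * q, δ ry]) (X 1) = δ ry := by
    rw [mkDerivation_X]; rfl
  refine ⟨mkDerivation K ![C (2⁻¹ : K) * q, δ ry], ?_, ?_⟩
  · rintro ⟨r, hr⟩
    refine Algebra.adjoin_induction
      (p := fun r hr => (mkDerivation K ![C (2⁻¹ : K) * q, δ ry]) r = δ ⟨r, hr⟩) ?_ ?_ ?_ ?_ hr
    · intro x hx
      simp only [Set.mem_insert_iff, Set.mem_singleton_iff] at hx
      rcases hx with rfl | rfl | rfl
      · rw [hsub _ _ rxx hcxx, hsq, hD0]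
        exact hdx2
      · rw [hsub _ _ rxy hcxy, Derivation.leibniz, hD0, hD1, smul_eq_mul, smul_eq_mul]
        have hne : (2 : MvPolynomial (Fin 2) K) * X 0 * X 1 ≠ 0 :=
          mul_ne_zero (mul_ne_zero h2P (X_ne_zero 0)) (X_ne_zero 1)
        apply mul_left_cancel₀ hne
        linear_combination (-1 : MvPolynomial (Fin 2) K) * hδ + X 1 ^ 2 * hdx2
      · rw [hsub _ _ ry hcy, hD1]
    · intro k
      rw [Derivation.map_algebraMap]
      exact ((hsub _ _ (algebraMap K (S K) k) rfl).trans (Derivation.map_algebraMap δ k)).symm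
    · intro a b ha hb iha ihb
      rw [map_add, iha, ihb, hsub (a + b) _ (⟨a, ha⟩ + ⟨b, hb⟩) rfl, map_add]
    · intro a b ha hb iha ihb
      rw [hsub (a * b) _ (⟨a, ha⟩ * ⟨b, hb⟩) rfl, Derivation.leibniz, Derivation.leibniz, iha, ihb]
      rfl
  · intro D' h'
    apply MvPolynomial.derivation_ext
    intro i
    rcases fin2_cases i with rfl | rfl
    · rw [hD0]
      have h5 := h' rxx
      rw [hcxx, hsq] at h5
      have hne : (2 : MvPolynomial (Fin 2) K) * X 0 ≠ 0 := mul_ne_zero h2P (X_ne_zero 0)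
      apply mul_left_cancel₀ hne
      linear_combination h5 - hdx2
    · rw [hD1]
      have h5 := h' ry
      rw [hcy] at h5
      exact h5

end

end Groth.Agent.Lib.PinchExt
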