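import Mathlib

namespace Groth.Agent.Lib.PinchJac

open MvPolynomial

noncomputable section

variable {σ : Type*} [DecidableEq σ] (K : Type*) [Field K]

/-- the evaluation killing three variables -/
def psi (a b c : σ) : MvPolynomial σ K →ₐ[K] MvPolynomial σ K :=
  aeval (fun i => if i = a ∨ i = b ∨ i = c then 0 else X i)

lemma sub_psi_mem (a b c : σ) (f : MvPolynomial σ K) :
    f - psi K a b c f ∈ Ideal.span ({X a, X b, X c} : Set (MvPolynomial σ K)) := by
  induction f using MvPolynomial.induction_on with
  | C k => simp [psi]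
  | add p q hp hq =>
    have : p + q - psi K a b c (p + q) = (p - psi K a b c p) + (q - psi K a b c q) := by
      rw [map_add]; ring
    rw [this]; exact Ideal.add_mem _ hp hq
  | mul_X p i hp =>
    have h1 : p * X i - psi K a b c (p * X i) =
        (p - psi K a b c p) * X i + psi K a b c p * (X i - psi K a b c (X i)) := by
      rw [map_mul]; ring
    rw [h1]
    refine Ideal.add_mem _ (Ideal.mul_mem_right _ _ hp) (Ideal.mul_mem_left _ _ ?_)
    by_cases hi : i = a ∨ i = b ∨ i = c
    · have : psi K a b c (X i) = 0 := by simp [psi, hi]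
      rw [this, sub_zero]
      refine Ideal.subset_span ?_
      rcases hi with rfl | rfl | rfl <;> simp
    · have : psi K a b c (X i) = X i := by simp [psi, hi]
      rw [this, sub_self]; exact Ideal.zero_mem _

theorem gen (h2 : (2 : K) ≠ 0) (a b c : σ) (hab : a ≠ b) (hbc : b ≠ c) :
    Ideal.span ({X a, X b} : Set (MvPolynomial σ K)) =
      Ideal.span ({X a ^ 2 - X b ^ 2 * X c, 2 * X a, -(2 * X b * X c), -(X b ^ 2)} :
        Set (MvPolynomial σ K)) ⊔ Ideal.span {X b} ∧
    (Ideal.span ({X a ^ 2 - X b ^ 2 * X c, 2 * X a, -(2 * X b * X c), -(X b ^ 2)} :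
        Set (MvPolynomial σ K))).colon (Ideal.span ({X b} : Set (MvPolynomial σ K))) =
      Ideal.span ({X a, X b, X c} : Set (MvPolynomial σ K)) := by
  set u : MvPolynomial σ K := X a with hu
  set v : MvPolynomial σ K := X b with hv
  set w : MvPolynomial σ K := X c with hw
  set J : Ideal (MvPolynomial σ K) :=
    Ideal.span ({u ^ 2 - v ^ 2 * w, 2 * u, -(2 * v * w), -(v ^ 2)} : Set (MvPolynomial σ K)) with hJ
  have hC : (C (2⁻¹ : K) : MvPolynomial σ K) * 2 = 1 := by
    rw [show (2 : MvPolynomial σ K) = C 2 from (map_ofNat C 2).symm, ← C_mul,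
      inv_mul_cancel₀ h2, C_1]
  have hg1 : u ^ 2 - v ^ 2 * w ∈ J := Ideal.subset_span (by simp)
  have hg2 : 2 * u ∈ J := Ideal.subset_span (by simp)
  have hg3 : -(2 * v * w) ∈ J := Ideal.subset_span (by simp)
  have hg4 : -(v ^ 2) ∈ J := Ideal.subset_span (by simp)
  have huJ : u ∈ J := by
    have := J.mul_mem_left (C 2⁻¹) hg2
    rwa [← mul_assoc, hC, one_mul] at this
  have hvw : v * w ∈ J := by
    have h := J.mul_mem_left (-(C 2⁻¹)) hg3
    have e : v * w = (-(C (2⁻¹ : K))) * (-(2 * v * w)) := by
      linear_combination (-(v * w)) * hC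
    rw [e]; exact h
  have hvv : v * v ∈ J := by
    have := J.neg_mem hg4
    rwa [neg_neg, pow_two] at this
  constructor
  · apply le_antisymm
    · rw [Ideal.span_le]
      intro x hx
      simp only [Set.mem_insert_iff, Set.mem_singleton_iff] at hx
      rcases hx with rfl | rfl
      · exact Ideal.mem_sup_left huJ
      · exact Ideal.mem_sup_right (Ideal.subset_span rfl)
    · apply sup_le
      · rw [Ideal.span_le]
        intro x hx
        simp only [Set.mem_insert_iff, Set.mem_singleton_iff] at hx
        rcases hx with rfl | rfl | rfl | rfl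
        · exact Ideal.mem_span_pair.mpr ⟨u, -(v * w), by ring⟩
        · exact Ideal.mem_span_pair.mpr ⟨2, 0, by ring⟩
        · exact Ideal.mem_span_pair.mpr ⟨0, -(2 * w), by ring⟩
        · exact Ideal.mem_span_pair.mpr ⟨0, -v, by ring⟩
      · exact Ideal.span_mono (by simp)
  · ext r
    rw [Ideal.mem_colon_span_singleton]
    constructor
    · intro hr
      have ψu : psi K a b c u = 0 := by simp [psi, hu]
      have ψv : psi K a b c v = 0 := by simp [psi, hv]
      have ψw : psi K a b c w = 0 := by simp [psi, hw]
      have dvu : pderiv b u = 0 := pderiv_X_of_ne hab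
      have dvv : pderiv b v = 1 := pderiv_X_self b
      have dvw : pderiv b w = 0 := pderiv_X_of_ne (Ne.symm hbc)
      have claimA : ∀ g ∈ J, psi K a b c g = 0 ∧ psi K a b c (pderiv b g) = 0 := by
        intro g hg
        refine Submodule.span_induction
          (p := fun g _ => psi K a b c g = 0 ∧ psi K a b c (pderiv b g) = 0) ?_ ?_ ?_ ?_ hg
        · intro x hx
          simp only [Set.mem_insert_iff, Set.mem_singleton_iff] at hx
          rcases hx with rfl | rfl | rfl | rfl
          · constructor
            · simp [ψu, ψv, ψw]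
            · simp [Derivation.leibniz, Derivation.leibniz_pow, dvu, dvv, dvw, ψu, ψv, ψw]
          · constructor
            · simp [ψu]
            · simp [Derivation.leibniz, dvu, ψu]
          · constructor
            · simp [ψv, ψw]
            · simp [Derivation.leibniz, dvv, dvw, ψv, ψw]
          · constructor
            · simp [ψv]
            · simp [Derivation.leibniz_pow, dvv, ψv]
        · simp
        · intro x y _ _ hx hy
          exact ⟨by rw [map_add, hx.1, hy.1, add_zero],
            by rw [map_add, map_add, hx.2, hy.2, add_zero]⟩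
        · intro t x _ hx
          constructor
          · rw [smul_eq_mul, map_mul, hx.1, mul_zero]
          · rw [smul_eq_mul, Derivation.leibniz, map_add, smul_eq_mul, smul_eq_mul, map_mul,
              map_mul, hx.1, hx.2, mul_zero, zero_mul, add_zero]
      have h1 := (claimA _ hr).2
      rw [Derivation.leibniz, dvv, map_add, smul_eq_mul, smul_eq_mul, map_mul, map_mul, ψv,
        zero_mul, add_zero, map_one, mul_one] at h1
      have h2 := sub_psi_mem K a b c r
      rwa [h1, sub_zero] at h2
    · intro hr
      have hle : Ideal.span ({u, v, w} : Set (MvPolynomial σ K)) ≤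
          J.colon (Ideal.span ({v} : Set (MvPolynomial σ K))) := by
        rw [Ideal.span_le]
        intro x hx
        simp only [Set.mem_insert_iff, Set.mem_singleton_iff] at hx
        rw [SetLike.mem_coe, Ideal.mem_colon_span_singleton]
        rcases hx with rfl | rfl | rfl
        · exact J.mul_mem_right v huJ
        · exact hvv
        · rw [mul_comm]; exact hvw
      exact (Ideal.mem_colon_span_singleton).mp (hle hr)

theorem main (K : Type*) [Field K] [NeZero (2 : K)] (n : ℕ) :
    letI u : MvPolynomial (Fin (n + 3)) K := MvPolynomial.X 0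
    letI v : MvPolynomial (Fin (n + 3)) K := MvPolynomial.X 1
    letI w : MvPolynomial (Fin (n + 3)) K := MvPolynomial.X 2
    letI Jac : Ideal (MvPolynomial (Fin (n + 3)) K) :=
      Ideal.span {u ^ 2 - v ^ 2 * w, 2 * u, -(2 * v * w), -(v ^ 2)}
    Ideal.span {u, v} = Jac ⊔ Ideal.span {v} ∧ Jac.colon (Ideal.span {v}) = Ideal.span {u, v, w} := by
  have e0 : ((0 : Fin (n + 3)) : ℕ) = 0 := rfl
  have e1 : ((1 : Fin (n + 3)) : ℕ) = 1 := Fin.val_one (n + 1)
  have e2 : ((2 : Fin (n + 3)) : ℕ) = 2 := Fin.val_two
  have h01 : (0 : Fin (n + 3)) ≠ 1 := fun h => by have := congrArg Fin.val h; omega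
  have h12 : (1 : Fin (n + 3)) ≠ 2 := fun h => by have := congrArg Fin.val h; omega
  exact gen K (NeZero.ne 2) 0 1 2 h01 h12

end

end Groth.Agent.Lib.PinchJac
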