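import Mathlib

namespace Groth.Agent.Lib.PinchKer

open Polynomial

noncomputable section

universe u

variable (B : Type u) [CommRing B] (b : B)

abbrev f : B[X] := X ^ 2 - C b
abbrev Cq : Type u := AdjoinRoot (f B b)
abbrev τ : Cq B b := AdjoinRoot.root (f B b)
abbrev Psi : MvPolynomial (Fin 2) B →ₐ[B] Polynomial (Cq B b) :=
  MvPolynomial.aeval ![Polynomial.C (τ B b) * Polynomial.X, Polynomial.X]

lemma fin2_cases (i : Fin 2) : i = 0 ∨ i = 1 := by fin_cases i <;> simp

lemma tau_sq : (τ B b) ^ 2 = AdjoinRoot.of (f B b) b := by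
  have h : Polynomial.eval₂ (AdjoinRoot.of (f B b)) (τ B b) (X ^ 2 - C b : B[X]) = 0 :=
    AdjoinRoot.eval₂_root (f B b)
  rw [Polynomial.eval₂_sub, Polynomial.eval₂_pow, Polynomial.eval₂_X, Polynomial.eval₂_C] at h
  exact sub_eq_zero.mp h

lemma decomp (c : Cq B b) :
    ∃ β γ : B, c = AdjoinRoot.of (f B b) β + AdjoinRoot.of (f B b) γ * τ B b := by
  obtain ⟨p, rfl⟩ := AdjoinRoot.mk_surjective c
  refine Polynomial.induction_on p ?_ ?_ ?_
  · intro a
    exact ⟨a, 0, by rw [AdjoinRoot.mk_C, map_zero, zero_mul, add_zero]⟩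
  · rintro p q ⟨β1, γ1, h1⟩ ⟨β2, γ2, h2⟩
    refine ⟨β1 + β2, γ1 + γ2, ?_⟩
    rw [RingHom.map_add (AdjoinRoot.mk (f B b)) p q, h1, h2,
      RingHom.map_add (AdjoinRoot.of (f B b)), RingHom.map_add (AdjoinRoot.of (f B b))]
    ring
  · rintro n a ⟨β, γ, h1⟩
    refine ⟨γ * b, β, ?_⟩
    have e : (C a * X ^ (n + 1) : B[X]) = C a * X ^ n * X := by ring
    have hL : AdjoinRoot.mk (f B b) (C a * X ^ n * X) =
        AdjoinRoot.mk (f B b) (C a * X ^ n) * τ B b := by
      rw [RingHom.map_mul, AdjoinRoot.mk_X]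
    have hR : AdjoinRoot.of (f B b) (γ * b) =
        AdjoinRoot.of (f B b) γ * AdjoinRoot.of (f B b) b := RingHom.map_mul _ _ _
    have ht := tau_sq B b
    rw [e, hL, h1, hR]
    linear_combination (AdjoinRoot.of (f B b) γ) * ht

lemma indep (β γ : B)
    (h : AdjoinRoot.of (f B b) β + AdjoinRoot.of (f B b) γ * τ B b = 0) : β = 0 ∧ γ = 0 := by
  rcases subsingleton_or_nontrivial B with hs | hn
  · exact ⟨Subsingleton.elim _ _, Subsingleton.elim _ _⟩
  · have hq : AdjoinRoot.mk (f B b) (C γ * X + C β) = 0 := by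
      rw [RingHom.map_add, RingHom.map_mul, AdjoinRoot.mk_C, AdjoinRoot.mk_C, AdjoinRoot.mk_X,
        add_comm]
      exact h
    have hdvd : f B b ∣ C γ * X + C β := AdjoinRoot.mk_eq_zero.mp hq
    have hmonic : (f B b).Monic := Polynomial.monic_X_pow_sub_C b (by norm_num)
    have hzero : (C γ * X + C β : B[X]) = 0 := by
      by_contra hne
      refine hmonic.not_dvd_of_degree_lt hne ?_ hdvd
      have h1 : (C γ * X + C β : B[X]).degree ≤ 1 := Polynomial.degree_linear_le
      have h2 : (f B b).degree = ((2 : ℕ) : WithBot ℕ) :=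
        Polynomial.degree_X_pow_sub_C (by norm_num) b
      rw [h2]
      exact lt_of_le_of_lt h1 (by exact_mod_cast (by norm_num : (1 : ℕ) < 2))
    have c0 := congrArg (fun p => Polynomial.coeff p 0) hzero
    have c1 := congrArg (fun p => Polynomial.coeff p 1) hzero
    simp at c0 c1
    exact ⟨c0, c1⟩

lemma Psi_X0 : Psi B b (MvPolynomial.X 0) = Polynomial.C (τ B b) * Polynomial.X := by
  show MvPolynomial.aeval _ _ = _
  rw [MvPolynomial.aeval_X]; rfl

lemma Psi_X1 : Psi B b (MvPolynomial.X 1) = Polynomial.X := by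
  show MvPolynomial.aeval _ _ = _
  rw [MvPolynomial.aeval_X]; rfl

lemma Psi_C (a : B) :
    Psi B b (MvPolynomial.C a) = Polynomial.C (AdjoinRoot.of (f B b) a) := by
  show MvPolynomial.aeval _ _ = _
  rw [MvPolynomial.aeval_C, Polynomial.algebraMap_apply, AdjoinRoot.algebraMap_eq]

theorem main' :
    RingHom.ker (Psi B b).toRingHom =
        Ideal.span {MvPolynomial.X 0 ^ 2 - MvPolynomial.C b * MvPolynomial.X 1 ^ 2} ∧
      ∀ G : Polynomial (Cq B b),
        (∃ c : B, G.coeff 0 = algebraMap B (Cq B b) c) → G ∈ (Psi B b).range := by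
  have hX0 := Psi_X0 B b
  have hX1 := Psi_X1 B b
  have hC := Psi_C B b
  have hrel : Psi B b (MvPolynomial.X 0 ^ 2 - MvPolynomial.C b * MvPolynomial.X 1 ^ 2) = 0 := by
    rw [map_sub, map_pow, map_mul, map_pow, hX0, hX1, hC, mul_pow, ← Polynomial.C_pow, tau_sq,
      sub_self]
  obtain ⟨I, hI⟩ : ∃ I : Ideal (MvPolynomial (Fin 2) B),
      I = Ideal.span {MvPolynomial.X 0 ^ 2 - MvPolynomial.C b * MvPolynomial.X 1 ^ 2} := ⟨_, rfl⟩
  rw [← hI]
  have hgen : MvPolynomial.X 0 ^ 2 - MvPolynomial.C b * MvPolynomial.X 1 ^ 2 ∈ I := by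
    rw [hI]; exact Ideal.subset_span rfl
  have hle : ∀ x ∈ I, Psi B b x = 0 := by
    intro x hx
    rw [hI] at hx
    refine Submodule.span_induction (p := fun x _ => Psi B b x = 0) ?_ ?_ ?_ ?_ hx
    · intro y hy; rw [Set.mem_singleton_iff] at hy; rw [hy]; exact hrel
    · exact map_zero _
    · intro x y _ _ hx hy; rw [map_add, hx, hy, add_zero]
    · intro a x _ hx; rw [smul_eq_mul, map_mul, hx, mul_zero]
  constructor
  · apply le_antisymm
    · intro P hP
      have hP' : Psi B b P = 0 := RingHom.mem_ker.mp hP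
      obtain ⟨ι, hιX, hιC⟩ : ∃ ι : B[X] →ₐ[B] MvPolynomial (Fin 2) B,
          ι X = MvPolynomial.X 1 ∧ ∀ a, ι (C a) = MvPolynomial.C a :=
        ⟨Polynomial.aeval (MvPolynomial.X 1), Polynomial.aeval_X _, fun a => by
          rw [Polynomial.aeval_C, MvPolynomial.algebraMap_eq]⟩
      have hred : ∀ P : MvPolynomial (Fin 2) B, ∃ Q₀ Q₁ : B[X],
          P - (ι Q₀ + MvPolynomial.X 0 * ι Q₁) ∈ I := by
        intro P
        refine MvPolynomial.induction_on (motive := fun P => ∃ Q₀ Q₁ : B[X],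
          P - (ι Q₀ + MvPolynomial.X 0 * ι Q₁) ∈ I) P ?_ ?_ ?_
        · intro a
          refine ⟨C a, 0, ?_⟩
          rw [hιC, map_zero, mul_zero, add_zero, sub_self]
          exact I.zero_mem
        · rintro p q ⟨Q₀, Q₁, h1⟩ ⟨Q₀', Q₁', h2⟩
          refine ⟨Q₀ + Q₀', Q₁ + Q₁', ?_⟩
          have e : p + q - (ι (Q₀ + Q₀') + MvPolynomial.X 0 * ι (Q₁ + Q₁')) =
              (p - (ι Q₀ + MvPolynomial.X 0 * ι Q₁)) +
                (q - (ι Q₀' + MvPolynomial.X 0 * ι Q₁')) := by
            rw [map_add, map_add]; ring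
          rw [e]; exact I.add_mem h1 h2
        · rintro p i ⟨Q₀, Q₁, h1⟩
          rcases fin2_cases i with rfl | rfl
          · refine ⟨C b * X ^ 2 * Q₁, Q₀, ?_⟩
            have e : p * MvPolynomial.X 0 -
                (ι (C b * X ^ 2 * Q₁) + MvPolynomial.X 0 * ι Q₀) =
                (p - (ι Q₀ + MvPolynomial.X 0 * ι Q₁)) * MvPolynomial.X 0 +
                (MvPolynomial.X 0 ^ 2 - MvPolynomial.C b * MvPolynomial.X 1 ^ 2) * ι Q₁ := by
              rw [map_mul, map_mul, map_pow, hιC, hιX]; ring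
            rw [e]
            exact I.add_mem (I.mul_mem_right _ h1) (I.mul_mem_right _ hgen)
          · refine ⟨Q₀ * X, Q₁ * X, ?_⟩
            have e : p * MvPolynomial.X 1 - (ι (Q₀ * X) + MvPolynomial.X 0 * ι (Q₁ * X)) =
                (p - (ι Q₀ + MvPolynomial.X 0 * ι Q₁)) * MvPolynomial.X 1 := by
              rw [map_mul, map_mul, hιX]; ring
            rw [e]
            exact I.mul_mem_right _ h1
      obtain ⟨Q₀, Q₁, hQ⟩ := hred P
      have hΨι : ∀ Q : B[X], Psi B b (ι Q) = Q.map (AdjoinRoot.of (f B b)) := by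
        intro Q
        refine Polynomial.induction_on' Q ?_ ?_
        · intro p q hp hq
          rw [map_add, map_add, hp, hq, Polynomial.map_add]
        · intro n a
          rw [← Polynomial.C_mul_X_pow_eq_monomial, map_mul, map_pow, hιC, hιX, map_mul, map_pow,
            hC, hX1, Polynomial.map_mul, Polynomial.map_pow, Polynomial.map_C, Polynomial.map_X]
      have h1' : Psi B b (P - (ι Q₀ + MvPolynomial.X 0 * ι Q₁)) = 0 := hle _ hQ
      rw [map_sub, hP', zero_sub, neg_eq_zero, map_add, map_mul, hX0, hΨι, hΨι, mul_assoc] at h1'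
      have hcoef : ∀ m, (Q₀.map (AdjoinRoot.of (f B b)) + Polynomial.C (τ B b) *
          (Polynomial.X * Q₁.map (AdjoinRoot.of (f B b)))).coeff m = 0 := by
        intro m; rw [h1']; exact Polynomial.coeff_zero m
      have hQ0 : Q₀ = 0 := by
        ext m
        rcases Nat.eq_zero_or_pos m with rfl | hm
        · have h := hcoef 0
          rw [Polynomial.coeff_add, Polynomial.coeff_map, Polynomial.coeff_C_mul,
            Polynomial.coeff_X_mul_zero, mul_zero, add_zero] at h
          have h0 := (indep B b (Q₀.coeff 0) 0 (by rw [map_zero, zero_mul, add_zero]; exact h)).1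
          rw [h0, Polynomial.coeff_zero]
        · obtain ⟨m', rfl⟩ : ∃ m', m = m' + 1 := ⟨m - 1, by omega⟩
          have h := hcoef (m' + 1)
          rw [Polynomial.coeff_add, Polynomial.coeff_map, Polynomial.coeff_C_mul,
            Polynomial.coeff_X_mul, Polynomial.coeff_map, mul_comm] at h
          have h0 := (indep B b _ _ h).1
          rw [h0, Polynomial.coeff_zero]
      have hQ1 : Q₁ = 0 := by
        ext m
        have h := hcoef (m + 1)
        rw [Polynomial.coeff_add, Polynomial.coeff_map, Polynomial.coeff_C_mul,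
          Polynomial.coeff_X_mul, Polynomial.coeff_map, mul_comm] at h
        have h0 := (indep B b _ _ h).2
        rw [h0, Polynomial.coeff_zero]
      rw [hQ0, hQ1, map_zero, mul_zero, add_zero, sub_zero] at hQ
      exact hQ
    · intro x hx
      exact RingHom.mem_ker.mpr (hle x hx)
  · rintro G ⟨c0, hc0⟩
    rw [Polynomial.as_sum_support G]
    refine sum_mem (fun m _ => ?_)
    rcases Nat.eq_zero_or_pos m with rfl | hm
    · refine (AlgHom.mem_range (Psi B b)).mpr ⟨MvPolynomial.C c0, ?_⟩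
      rw [hC, hc0, Polynomial.monomial_zero_left, AdjoinRoot.algebraMap_eq]
    · obtain ⟨m', rfl⟩ : ∃ m', m = m' + 1 := ⟨m - 1, by omega⟩
      obtain ⟨β, γ, hβγ⟩ := decomp B b (G.coeff (m' + 1))
      refine (AlgHom.mem_range (Psi B b)).mpr
        ⟨MvPolynomial.C β * MvPolynomial.X 1 ^ (m' + 1) +
          MvPolynomial.C γ * MvPolynomial.X 0 * MvPolynomial.X 1 ^ m', ?_⟩
      rw [map_add, map_mul, map_mul, map_mul, map_pow, map_pow, hC, hC, hX0, hX1, hβγ,
        ← Polynomial.C_mul_X_pow_eq_monomial, Polynomial.C_add, Polynomial.C_mul]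
      ring

theorem main (B : Type u) [CommRing B] (b : B) :
    letI Ψ : MvPolynomial (Fin 2) B →ₐ[B] Polynomial (AdjoinRoot (Polynomial.X ^ 2 - Polynomial.C b)) :=
      MvPolynomial.aeval
        ![Polynomial.C (AdjoinRoot.root (Polynomial.X ^ 2 - Polynomial.C b)) * Polynomial.X, Polynomial.X]
    RingHom.ker Ψ.toRingHom =
        Ideal.span {MvPolynomial.X 0 ^ 2 - MvPolynomial.C b * MvPolynomial.X 1 ^ 2} ∧
      ∀ G : Polynomial (AdjoinRoot (Polynomial.X ^ 2 - Polynomial.C b)),
        (∃ c : B, G.coeff 0 = algebraMap B (AdjoinRoot (Polynomial.X ^ 2 - Polynomial.C b)) c) →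
          G ∈ Ψ.range :=
  main' B b

end

end Groth.Agent.Lib.PinchKer
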