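import Mathlib
import Groth.Agent.S14949
import Groth.Agent.S14952
import Groth.Agent.S14953
import Groth.Agent.S14954

/-!
# Pinching squares of rings as Milnor squares (helper5)

Given `B' → B` surjective with kernel `I` and `B' → A'` with `ker ⊓ I = ⊥` and `I·A' = image of I`,
the ring `B'` is the fibre product `B ×_A A'` with `A = A'/IA'`.  We package this as an elimination
principle `with_square` and deduce module-level descent statements from the landed ring-level
milestones S14949 / S14952 / S14953 / S14954.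
-/

set_option autoImplicit false
universe u
open TensorProduct

namespace Groth.Agent.PinchMod

section Ring
variable {B' B A' : Type u} [CommRing B'] [CommRing B] [CommRing A'] [Algebra B' B] [Algebra B' A']

theorem with_square (hp : Function.Surjective (algebraMap B' B))
    (h1 : RingHom.ker (algebraMap B' A') ⊓ RingHom.ker (algebraMap B' B) = ⊥)
    (h2 : ∀ a ∈ Ideal.map (algebraMap B' A') (RingHom.ker (algebraMap B' B)),
      ∃ i ∈ RingHom.ker (algebraMap B' B), algebraMap B' A' i = a)
    {motive : Prop}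
    (H : ∀ (A : Type u) [CommRing A] [Algebra B A] [Algebra A' A] [Algebra B' A]
      [IsScalarTower B' B A] [IsScalarTower B' A' A], EtMil.IsFibreSquare B' B A' A → motive) :
    motive := by
  classical
  set J : Ideal A' := Ideal.map (algebraMap B' A') (RingHom.ker (algebraMap B' B)) with hJ
  have hker : RingHom.ker (algebraMap B' B) ≤
      RingHom.ker ((Ideal.Quotient.mk J).comp (algebraMap B' A')) := by
    intro x hx
    rw [RingHom.mem_ker, RingHom.comp_apply, Ideal.Quotient.eq_zero_iff_mem]
    exact Ideal.mem_map_of_mem _ hx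
  let φ : B →+* (A' ⧸ J) :=
    RingHom.liftOfSurjective (algebraMap B' B) hp ⟨_, hker⟩
  have hφ : ∀ x : B', φ (algebraMap B' B x) = Ideal.Quotient.mk J (algebraMap B' A' x) := by
    intro x
    exact RingHom.liftOfRightInverse_comp_apply _ _ _ ⟨_, hker⟩ x
  letI algBA : Algebra B (A' ⧸ J) := φ.toAlgebra
  haveI : IsScalarTower B' B (A' ⧸ J) := IsScalarTower.of_algebraMap_eq (fun x => by
    show algebraMap B' (A' ⧸ J) x = φ (algebraMap B' B x)
    rw [hφ]
    rfl)
  refine H (A' ⧸ J) ⟨Ideal.Quotient.mk_surjective, ?_⟩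
  intro b a' hba
  change φ b = Ideal.Quotient.mk J a' at hba
  obtain ⟨b0, rfl⟩ := hp b
  rw [hφ, Ideal.Quotient.eq] at hba
  obtain ⟨i, hi, hia⟩ := h2 _ hba
  refine ⟨b0 - i, ⟨?_, ?_⟩, ?_⟩
  · rw [map_sub, RingHom.mem_ker.mp hi, sub_zero]
  · rw [map_sub, hia]; ring
  · rintro c ⟨hc1, hc2⟩
    have hmem : c - (b0 - i) ∈ RingHom.ker (algebraMap B' A') ⊓ RingHom.ker (algebraMap B' B) := by
      refine ⟨?_, ?_⟩
      · show c - (b0 - i) ∈ RingHom.ker (algebraMap B' A')
        rw [RingHom.mem_ker, map_sub, hc2, map_sub, hia]; ring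
      · show c - (b0 - i) ∈ RingHom.ker (algebraMap B' B)
        rw [RingHom.mem_ker, map_sub, hc1, map_sub, RingHom.mem_ker.mp hi]; ring
    rw [h1] at hmem
    exact sub_eq_zero.mp ((Submodule.mem_bot _).mp hmem)

variable (hp : Function.Surjective (algebraMap B' B))
    (h1 : RingHom.ker (algebraMap B' A') ⊓ RingHom.ker (algebraMap B' B) = ⊥)
    (h2 : ∀ a ∈ Ideal.map (algebraMap B' A') (RingHom.ker (algebraMap B' B)),
      ∃ i ∈ RingHom.ker (algebraMap B' B), algebraMap B' A' i = a)
    (L' : Type u) [AddCommGroup L'] [Module B' L']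

include hp h1 h2

theorem subsingleton_of [Subsingleton (B ⊗[B'] L')] [Subsingleton (A' ⊗[B'] L')] :
    Subsingleton L' :=
  with_square hp h1 h2 (fun A _ _ _ _ _ _ hsq => Groth.Agent.S14949.result B' B A' A hsq L')

theorem flat_of [Module.Flat B (B ⊗[B'] L')] [Module.Flat A' (A' ⊗[B'] L')] :
    Module.Flat B' L' :=
  with_square hp h1 h2 (fun A _ _ _ _ _ _ hsq => Groth.Agent.S14952.result B' B A' A hsq L')

theorem finite_of [Module.Finite B (B ⊗[B'] L')] [Module.Finite A' (A' ⊗[B'] L')] :
    Module.Finite B' L' :=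
  with_square hp h1 h2 (fun A _ _ _ _ _ _ hsq => Groth.Agent.S14953.result B' B A' A hsq L')

theorem fp_of [Module.Flat B (B ⊗[B'] L')] [Module.FinitePresentation B (B ⊗[B'] L')]
    [Module.Flat A' (A' ⊗[B'] L')] [Module.FinitePresentation A' (A' ⊗[B'] L')] :
    Module.FinitePresentation B' L' :=
  with_square hp h1 h2 (fun A _ _ _ _ _ _ hsq => Groth.Agent.S14954.result B' B A' A hsq L')

end Ring

end Groth.Agent.PinchMod
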