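import Mathlib
import Groth.Prelude.Def_FlatMod2
import Groth.Agent.Lib.PinchModRing_helper5
import Groth.Agent.Lib.PB7_helper8
import Groth.Agent.Lib.PB9_helper8
import Groth.Agent.Lib.Fpqc1_helper8
import Groth.Agent.Lib.FLF8_helper8
import Groth.Agent.Lib.WeakAssSch_helper4

/-!
# Quasi-coherent modules on a pinching: zero / finite type / flat / finite locally free (helper5)

Scheme-level translation of the ring-level Milnor-square statements.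
-/

set_option autoImplicit false
universe u
open CategoryTheory Limits AlgebraicGeometry TopologicalSpace Opposite TensorProduct
open AlgebraicGeometry.Scheme.Modules

namespace Groth.Agent.PinchMod

section Sch
variable {X Y Y' : Scheme.{u}} (f : X ⟶ Y) (u : Y' ⟶ Y) [IsAffineHom f] [IsClosedImmersion u]
  (G : Y.Modules) [G.IsQuasicoherent]

/-- The pinching condition over an open `V` of `Y`. -/
def PinchAt (V : Y.Opens) : Prop :=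
  RingHom.ker (f.app V).hom ⊓ RingHom.ker (u.app V).hom = ⊥ ∧
    ∀ a ∈ Ideal.map (f.app V).hom (RingHom.ker (u.app V).hom),
      ∃ i ∈ RingHom.ker (u.app V).hom, (f.app V).hom i = a

variable {f u}

/-- The local package over an affine open `V`: the ring-level pinching data for the algebras
`Γ(Y,V) → Γ(Y',u⁻¹V)`, `Γ(Y,V) → Γ(X,f⁻¹V)` and the base change isomorphisms for sections of the
pullbacks. -/
theorem core {V : Y.Opens} (hV : IsAffineOpen V) (hM : PinchAt f u V) :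
    letI := (u.appLE V (u ⁻¹ᵁ V) le_rfl).hom.toAlgebra
    letI := (f.appLE V (f ⁻¹ᵁ V) le_rfl).hom.toAlgebra
    Function.Surjective (algebraMap Γ(Y, V) Γ(Y', u ⁻¹ᵁ V)) ∧
    (RingHom.ker (algebraMap Γ(Y, V) Γ(X, f ⁻¹ᵁ V)) ⊓
      RingHom.ker (algebraMap Γ(Y, V) Γ(Y', u ⁻¹ᵁ V)) = ⊥) ∧
    (∀ a ∈ Ideal.map (algebraMap Γ(Y, V) Γ(X, f ⁻¹ᵁ V))
        (RingHom.ker (algebraMap Γ(Y, V) Γ(Y', u ⁻¹ᵁ V))),
      ∃ i ∈ RingHom.ker (algebraMap Γ(Y, V) Γ(Y', u ⁻¹ᵁ V)),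
        algebraMap Γ(Y, V) Γ(X, f ⁻¹ᵁ V) i = a) ∧
    Nonempty (Γ(Y', u ⁻¹ᵁ V) ⊗[Γ(Y, V)] Γ(G, V) ≃ₗ[Γ(Y', u ⁻¹ᵁ V)]
      Γ((Scheme.Modules.pullback u).obj G, u ⁻¹ᵁ V)) ∧
    Nonempty (Γ(X, f ⁻¹ᵁ V) ⊗[Γ(Y, V)] Γ(G, V) ≃ₗ[Γ(X, f ⁻¹ᵁ V)]
      Γ((Scheme.Modules.pullback f).obj G, f ⁻¹ᵁ V)) := by
  have hU : IsAffineOpen (u ⁻¹ᵁ V) := hV.preimage u
  have hX : IsAffineOpen (f ⁻¹ᵁ V) := hV.preimage f
  letI algB := (u.appLE V (u ⁻¹ᵁ V) le_rfl).hom.toAlgebra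
  letI algA := (f.appLE V (f ⁻¹ᵁ V) le_rfl).hom.toAlgebra
  letI : Module Γ(Y, V) Γ((Scheme.Modules.pullback u).obj G, u ⁻¹ᵁ V) :=
    Module.compHom _ (u.appLE V (u ⁻¹ᵁ V) le_rfl).hom
  haveI : IsScalarTower Γ(Y, V) Γ(Y', u ⁻¹ᵁ V) Γ((Scheme.Modules.pullback u).obj G, u ⁻¹ᵁ V) :=
    IsScalarTower.of_algebraMap_smul fun _ _ => rfl
  letI : Module Γ(Y, V) Γ((Scheme.Modules.pullback f).obj G, f ⁻¹ᵁ V) :=
    Module.compHom _ (f.appLE V (f ⁻¹ᵁ V) le_rfl).hom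
  haveI : IsScalarTower Γ(Y, V) Γ(X, f ⁻¹ᵁ V) Γ((Scheme.Modules.pullback f).obj G, f ⁻¹ᵁ V) :=
    IsScalarTower.of_algebraMap_smul fun _ _ => rfl
  have bcu := PBH8.isBaseChange_cUV u G (le_refl (u ⁻¹ᵁ V)) hU hV
  have bcf := PBH8.isBaseChange_cUV f G (le_refl (f ⁻¹ᵁ V)) hX hV
  have happu : u.appLE V (u ⁻¹ᵁ V) le_rfl = u.app V := u.appLE_eq_app
  have happf : f.appLE V (f ⁻¹ᵁ V) le_rfl = f.app V := f.appLE_eq_app
  have e1 : algebraMap Γ(Y, V) Γ(Y', u ⁻¹ᵁ V) = (u.app V).hom := by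
    show (u.appLE V (u ⁻¹ᵁ V) le_rfl).hom = _
    rw [happu]
  have e2 : algebraMap Γ(Y, V) Γ(X, f ⁻¹ᵁ V) = (f.app V).hom := by
    show (f.appLE V (f ⁻¹ᵁ V) le_rfl).hom = _
    rw [happf]
  refine ⟨?_, ?_, ?_, ⟨bcu.equiv⟩, ⟨bcf.equiv⟩⟩
  · rw [e1]
    exact u.app_surjective V hV
  · rw [e1, e2]
    exact hM.1
  · rw [e1, e2]
    exact hM.2

section Local
variable {V : Y.Opens} (hV : IsAffineOpen V) (hM : PinchAt f u V)
include hV hM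

theorem subsingleton_sections
    [Subsingleton Γ((Scheme.Modules.pullback u).obj G, u ⁻¹ᵁ V)]
    [Subsingleton Γ((Scheme.Modules.pullback f).obj G, f ⁻¹ᵁ V)] :
    Subsingleton Γ(G, V) := by
  letI algB := (u.appLE V (u ⁻¹ᵁ V) le_rfl).hom.toAlgebra
  letI algA := (f.appLE V (f ⁻¹ᵁ V) le_rfl).hom.toAlgebra
  obtain ⟨hp, h1, h2, ⟨e1⟩, ⟨e2⟩⟩ := core G hV hM
  haveI : Subsingleton (Γ(Y', u ⁻¹ᵁ V) ⊗[Γ(Y, V)] Γ(G, V)) := e1.toEquiv.subsingleton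
  haveI : Subsingleton (Γ(X, f ⁻¹ᵁ V) ⊗[Γ(Y, V)] Γ(G, V)) := e2.toEquiv.subsingleton
  exact subsingleton_of hp h1 h2 _

theorem finite_sections
    [Module.Finite Γ(Y', u ⁻¹ᵁ V) Γ((Scheme.Modules.pullback u).obj G, u ⁻¹ᵁ V)]
    [Module.Finite Γ(X, f ⁻¹ᵁ V) Γ((Scheme.Modules.pullback f).obj G, f ⁻¹ᵁ V)] :
    Module.Finite Γ(Y, V) Γ(G, V) := by
  letI algB := (u.appLE V (u ⁻¹ᵁ V) le_rfl).hom.toAlgebra
  letI algA := (f.appLE V (f ⁻¹ᵁ V) le_rfl).hom.toAlgebra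
  obtain ⟨hp, h1, h2, ⟨e1⟩, ⟨e2⟩⟩ := core G hV hM
  haveI : Module.Finite Γ(Y', u ⁻¹ᵁ V) (Γ(Y', u ⁻¹ᵁ V) ⊗[Γ(Y, V)] Γ(G, V)) :=
    Module.Finite.equiv e1.symm
  haveI : Module.Finite Γ(X, f ⁻¹ᵁ V) (Γ(X, f ⁻¹ᵁ V) ⊗[Γ(Y, V)] Γ(G, V)) :=
    Module.Finite.equiv e2.symm
  exact finite_of hp h1 h2 _

theorem flat_sections
    [Module.Flat Γ(Y', u ⁻¹ᵁ V) Γ((Scheme.Modules.pullback u).obj G, u ⁻¹ᵁ V)]
    [Module.Flat Γ(X, f ⁻¹ᵁ V) Γ((Scheme.Modules.pullback f).obj G, f ⁻¹ᵁ V)] :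
    Module.Flat Γ(Y, V) Γ(G, V) := by
  letI algB := (u.appLE V (u ⁻¹ᵁ V) le_rfl).hom.toAlgebra
  letI algA := (f.appLE V (f ⁻¹ᵁ V) le_rfl).hom.toAlgebra
  obtain ⟨hp, h1, h2, ⟨e1⟩, ⟨e2⟩⟩ := core G hV hM
  haveI : Module.Flat Γ(Y', u ⁻¹ᵁ V) (Γ(Y', u ⁻¹ᵁ V) ⊗[Γ(Y, V)] Γ(G, V)) :=
    Module.Flat.of_linearEquiv e1
  haveI : Module.Flat Γ(X, f ⁻¹ᵁ V) (Γ(X, f ⁻¹ᵁ V) ⊗[Γ(Y, V)] Γ(G, V)) :=
    Module.Flat.of_linearEquiv e2
  exact flat_of hp h1 h2 _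

theorem fp_sections
    [Module.Flat Γ(Y', u ⁻¹ᵁ V) Γ((Scheme.Modules.pullback u).obj G, u ⁻¹ᵁ V)]
    [Module.FinitePresentation Γ(Y', u ⁻¹ᵁ V) Γ((Scheme.Modules.pullback u).obj G, u ⁻¹ᵁ V)]
    [Module.Flat Γ(X, f ⁻¹ᵁ V) Γ((Scheme.Modules.pullback f).obj G, f ⁻¹ᵁ V)]
    [Module.FinitePresentation Γ(X, f ⁻¹ᵁ V) Γ((Scheme.Modules.pullback f).obj G, f ⁻¹ᵁ V)] :
    Module.FinitePresentation Γ(Y, V) Γ(G, V) := by
  letI algB := (u.appLE V (u ⁻¹ᵁ V) le_rfl).hom.toAlgebra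
  letI algA := (f.appLE V (f ⁻¹ᵁ V) le_rfl).hom.toAlgebra
  obtain ⟨hp, h1, h2, ⟨e1⟩, ⟨e2⟩⟩ := core G hV hM
  haveI : Module.Flat Γ(Y', u ⁻¹ᵁ V) (Γ(Y', u ⁻¹ᵁ V) ⊗[Γ(Y, V)] Γ(G, V)) :=
    Module.Flat.of_linearEquiv e1
  haveI : Module.Flat Γ(X, f ⁻¹ᵁ V) (Γ(X, f ⁻¹ᵁ V) ⊗[Γ(Y, V)] Γ(G, V)) :=
    Module.Flat.of_linearEquiv e2
  haveI : Module.FinitePresentation Γ(Y', u ⁻¹ᵁ V) (Γ(Y', u ⁻¹ᵁ V) ⊗[Γ(Y, V)] Γ(G, V)) :=
    Module.FinitePresentation.of_equiv e1.symm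
  haveI : Module.FinitePresentation Γ(X, f ⁻¹ᵁ V) (Γ(X, f ⁻¹ᵁ V) ⊗[Γ(Y, V)] Γ(G, V)) :=
    Module.FinitePresentation.of_equiv e2.symm
  exact fp_of hp h1 h2 _

/-- Base change direction for flatness of sections (no pinching needed, kept here for symmetry). -/
theorem flat_sections_pullback [Module.Flat Γ(Y, V) Γ(G, V)] :
    Module.Flat Γ(Y', u ⁻¹ᵁ V) Γ((Scheme.Modules.pullback u).obj G, u ⁻¹ᵁ V) ∧
    Module.Flat Γ(X, f ⁻¹ᵁ V) Γ((Scheme.Modules.pullback f).obj G, f ⁻¹ᵁ V) := by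
  letI algB := (u.appLE V (u ⁻¹ᵁ V) le_rfl).hom.toAlgebra
  letI algA := (f.appLE V (f ⁻¹ᵁ V) le_rfl).hom.toAlgebra
  obtain ⟨hp, h1, h2, ⟨e1⟩, ⟨e2⟩⟩ := core G hV hM
  exact ⟨Module.Flat.of_linearEquiv e1.symm, Module.Flat.of_linearEquiv e2.symm⟩

end Local

section Global
variable (hM : ∀ V ∈ Y.affineOpens, PinchAt f u V)
include hM

theorem isZero_of (h1 : IsZero ((Scheme.Modules.pullback u).obj G))
    (h2 : IsZero ((Scheme.Modules.pullback f).obj G)) : IsZero G := by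
  apply Groth.Agent.Lib.WeakAssSch_helper4.isZero_of_forall_affine
  intro V hV s
  haveI : Subsingleton Γ((Scheme.Modules.pullback u).obj G, u ⁻¹ᵁ V) :=
    ⟨fun a b => by
      rw [Groth.Agent.Lib.WeakAssSch_helper4.eq_zero_of_isZero _ h1 a,
        Groth.Agent.Lib.WeakAssSch_helper4.eq_zero_of_isZero _ h1 b]⟩
  haveI : Subsingleton Γ((Scheme.Modules.pullback f).obj G, f ⁻¹ᵁ V) :=
    ⟨fun a b => by
      rw [Groth.Agent.Lib.WeakAssSch_helper4.eq_zero_of_isZero _ h2 a,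
        Groth.Agent.Lib.WeakAssSch_helper4.eq_zero_of_isZero _ h2 b]⟩
  haveI := subsingleton_sections G hV (hM V hV)
  exact Subsingleton.elim _ _

theorem isFiniteType_iff :
    SheafOfModules.IsFiniteType (R := Y.ringCatSheaf) G ↔
      SheafOfModules.IsFiniteType (R := Y'.ringCatSheaf) ((Scheme.Modules.pullback u).obj G) ∧
        SheafOfModules.IsFiniteType (R := X.ringCatSheaf) ((Scheme.Modules.pullback f).obj G) := by
  constructor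
  · intro h
    haveI := h
    exact ⟨FpqcH8.isFiniteType_pullback u G, FpqcH8.isFiniteType_pullback f G⟩
  · rintro ⟨h1, h2⟩
    haveI := h1
    haveI := h2
    refine QCohCrit.isFiniteType_of_sections_cover G (fun W : Y.affineOpens => W.1)
      (fun W => W.2) (iSup_affineOpens_eq_top Y) (fun W => ?_)
    haveI := QCohFT.finite_of_isFiniteType ((Scheme.Modules.pullback u).obj G) (W.2.preimage u)
    haveI := QCohFT.finite_of_isFiniteType ((Scheme.Modules.pullback f).obj G) (W.2.preimage f)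
    exact finite_sections G W.2 (hM W.1 W.2)

omit hM in
theorem exists_affine_mem (y : Y) : ∃ V : Y.Opens, IsAffineOpen V ∧ y ∈ V := by
  obtain ⟨W, hW, hyW, -⟩ := (Opens.isBasis_iff_nbhd.mp Y.isBasis_affineOpens)
    (show y ∈ (⊤ : Y.Opens) from trivial)
  exact ⟨W, hW, hyW⟩

theorem isFlat_iff :
    FlatMod.IsFlat G ↔
      FlatMod.IsFlat ((Scheme.Modules.pullback u).obj G) ∧
        FlatMod.IsFlat ((Scheme.Modules.pullback f).obj G) := by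
  constructor
  · intro h
    have key : ∀ V : Y.Opens, IsAffineOpen V → Module.Flat Γ(Y, V) Γ(G, V) := fun V hV =>
      FLFH8.flat_sections_of_flat_stalks G hV (fun x _ => h x)
    constructor
    · intro y'
      obtain ⟨V, hV, hyV⟩ := exists_affine_mem (u y')
      haveI := key V hV
      haveI := (flat_sections_pullback G hV (hM V hV)).1
      exact FLFH8.flat_stalk_of_flat_sections _ (hV.preimage u) (x := y') hyV
    · intro x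
      obtain ⟨V, hV, hxV⟩ := exists_affine_mem (f x)
      haveI := key V hV
      haveI := (flat_sections_pullback G hV (hM V hV)).2
      exact FLFH8.flat_stalk_of_flat_sections _ (hV.preimage f) (x := x) hxV
  · rintro ⟨h1, h2⟩ y
    obtain ⟨V, hV, hyV⟩ := exists_affine_mem y
    haveI := FLFH8.flat_sections_of_flat_stalks ((Scheme.Modules.pullback u).obj G)
      (hV.preimage u) (fun x _ => h1 x)
    haveI := FLFH8.flat_sections_of_flat_stalks ((Scheme.Modules.pullback f).obj G)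
      (hV.preimage f) (fun x _ => h2 x)
    haveI := flat_sections G hV (hM V hV)
    exact FLFH8.flat_stalk_of_flat_sections G hV hyV

theorem isFinLocFree_iff :
    FlatMod.IsFinLocFree G ↔
      FlatMod.IsFinLocFree ((Scheme.Modules.pullback u).obj G) ∧
        FlatMod.IsFinLocFree ((Scheme.Modules.pullback f).obj G) := by
  constructor
  · intro h
    exact ⟨PBH8.isFinLocFree_pullback u h, PBH8.isFinLocFree_pullback f h⟩
  · rintro ⟨h1, h2⟩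
    refine FLFH8.finLocFree_of_fp_flat_sections G (fun V => ?_)
    obtain ⟨a1, a2⟩ := FLFH8.fp_flat_sections_of_finLocFree _ h1 (V.2.preimage u)
    obtain ⟨b1, b2⟩ := FLFH8.fp_flat_sections_of_finLocFree _ h2 (V.2.preimage f)
    exact ⟨fp_sections G V.2 (hM V.1 V.2), flat_sections G V.2 (hM V.1 V.2)⟩

end Global

end Sch

end Groth.Agent.PinchMod
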