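import Mathlib
import Groth.Prelude
import Groth.Agent.Lib.PjCx16_helper3
import Groth.Agent.Lib.RpushPCUnb_helper3
import Groth.Agent.Lib.RpushQC3_lead

/-!
# Right exactness of `R^p f_*(Lf^* - ⊗^L F)` versus left exactness of `R^{p+1} f_*(Lf^* - ⊗^L F)`
(helper3; S6253)
-/

set_option autoImplicit false
set_option linter.all false
set_option maxHeartbeats 1600000
set_option backward.isDefEq.respectTransparency false
set_option backward.isDefEq.respectTransparency.types false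
set_option backward.defeqAttrib.useBackward true

universe u
open CategoryTheory CategoryTheory.Limits AlgebraicGeometry Opposite TopologicalSpace

attribute [local instance] HasDerivedCategory.standard

namespace Groth.Agent.Lib.PjCxH3

open Groth.Agent.Lib.ProjFormulaH3 Groth.Agent.Lib.LpullLocH3 Groth.Agent.Lib.TotalMap
open Groth.Agent.Lib.StalkSkyL DerivedCategory Groth.Agent.Lib.PushCxAcycH3
open Groth.Agent.Lib.MVPushL Groth.Agent.Lib.StalkTensH3
open Groth.Agent.Lib.TorApproxH3 Groth.Agent.Lib.TorFun Groth.Agent.Lib.TorFunSite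

noncomputable section

section Abs

variable {Y : Scheme.{u}}

/-- `M ↦ H^p(M ⊗^L G)` on quasi-coherent modules, computed by a flat resolution -/
theorem nonempty_qcoh_T_iso (G R : CochainComplex Y.Modules ℤ) (π : R ⟶ G) [QuasiIso π] (b : ℤ)
    [R.IsStrictlyLE b] (hR : ∀ i, FlatMod.IsFlat (R.X i)) [DCoh.HasLTensorCx G] (p : ℤ) :
    Nonempty ((QCohCat.isQCoh Y).ι ⋙ HLs G p ≅ T (Fq Y) R p) := by
  have hK : ModSite.IsKFlat (O := Y.sheaf) R := isKFlat_site_of_flat_bounded R b hR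
  obtain ⟨e₁⟩ := @nonempty_iso _ _ _ Y.sheaf G R π inferInstance hK
    (inferInstanceAs (DCoh.HasLTensorCx G)) p
  let e₁' : HLs G p ≅ T (DCoh.tensorBi (X := Y)) R p := e₁
  exact ⟨Functor.isoWhiskerLeft _ e₁' ≪≫ TqIso R p⟩

/-- **on quasi-coherent modules, `H^p(- ⊗^L G)` is right exact iff `H^{p+1}(- ⊗^L G)` is left
exact** (`G` bounded above) -/
theorem rightExact_iff_leftExact_succ_qcoh (G : CochainComplex Y.Modules ℤ) (c : ℤ)
    [(DCoh.toD Y G).IsLE c] [DCoh.HasLTensorCx G] (p : ℤ) :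
    PreservesFiniteColimits ((QCohCat.isQCoh Y).ι ⋙ HLs G p) ↔
      PreservesFiniteLimits ((QCohCat.isQCoh Y).ι ⋙ HLs G (p + 1)) := by
  obtain ⟨R, π, b, hb, hR, hπ⟩ := exists_flat_resolution G c
  haveI := hb
  haveI := hπ
  obtain ⟨e1⟩ := nonempty_qcoh_T_iso G R π b hR p
  obtain ⟨e2⟩ := nonempty_qcoh_T_iso G R π b hR (p + 1)
  have hP : ∀ q, PreservesFiniteLimits ((Fq Y).flip.obj (R.X q)) := fun q =>
    pfl_Fq_flip _ (Groth.Agent.Lib.StalkFlatSch.isFlat_of_flatMod (R.X q) (hR q)).1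
  have key := preservesFiniteColimits_T_iff_succ (Fq Y) R hP p (p + 1) rfl
  constructor
  · intro h
    haveI := h
    haveI : PreservesFiniteColimits (T (Fq Y) R p) := preservesFiniteColimits_of_natIso e1
    haveI : PreservesFiniteLimits (T (Fq Y) R (p + 1)) := key.1 inferInstance
    exact preservesFiniteLimits_of_natIso e2.symm
  · intro h
    haveI := h
    haveI : PreservesFiniteLimits (T (Fq Y) R (p + 1)) := preservesFiniteLimits_of_natIso e2
    haveI : PreservesFiniteColimits (T (Fq Y) R p) := key.2 inferInstance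
    exact preservesFiniteColimits_of_natIso e1.symm

end Abs

section Final

variable {X Y : Scheme.{u}}

/-- common set-up in the quasi-compact quasi-separated case -/
theorem setupQ (f : X ⟶ Y) [QuasiCompact f] [QuasiSeparated f] [CompactSpace Y]
    (F : CochainComplex X.Modules ℤ) (b : ℤ) [(DCoh.toD X F).IsLE b]
    (hq : DCoh.IsQCohD (DCoh.toD X F))
    [DCoh.HasLpull f] [DCoh.HasLTensorCx F] [DCoh.HasRpush f] :
    ∃ (G : CochainComplex Y.Modules ℤ) (_ : DCoh.HasLTensorCx G) (c : ℤ),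
      (DCoh.toD Y G).IsLE c ∧
      Nonempty (DCoh.toD Y G ≅ (DCoh.Rpush f).obj (DCoh.toD X F)) ∧
      ∀ p : ℤ, Nonempty ((QCohCat.isQCoh Y).ι ⋙ DerivedCategory.singleFunctor Y.Modules 0 ⋙
          DCoh.LTensorCx G ⋙ DerivedCategory.homologyFunctor Y.Modules p ≅
        (QCohCat.isQCoh Y).ι ⋙ DerivedCategory.singleFunctor Y.Modules 0 ⋙ DCoh.Lpull f ⋙
          DCoh.LTensorCx F ⋙ DCoh.Rpush f ⋙ DerivedCategory.homologyFunctor Y.Modules p) := by
  obtain ⟨I, sF, hI, hs⟩ := exists_kinj_resolution F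
  haveI := hI
  haveI := hs
  obtain ⟨G, t, hG, ht⟩ := Groth.Agent.Lib.DTorCmp.exists_kflat_resolution' ((pushCx f).obj I)
  haveI := ht
  haveI : DCoh.HasLTensorCx G := hasLTensorCx_of_isKFlat G hG
  haveI : IsIso (Q.map t) := by rw [DerivedCategory.isIso_Q_map_iff_quasiIso]; infer_instance
  haveI : IsIso (Q.map sF) := by rw [DerivedCategory.isIso_Q_map_iff_quasiIso]; infer_instance
  let eG : DCoh.toD Y G ≅ (DCoh.Rpush f).obj (DCoh.toD X F) :=
    asIso (Q.map t) ≪≫ asIso (unitAt f I) ≪≫ ((DCoh.Rpush f).mapIso (asIso (Q.map sF))).symm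
  obtain ⟨N, hN⟩ := Groth.Agent.Lib.RpushQCL.main0999 f
  have hLE' : ((DCoh.Rpush f).obj (DCoh.toD X F)).IsLE (N + b) :=
    (DerivedCategory.isLE_iff _ (N + b)).2 (fun i hi =>
      Groth.Agent.Lib.RpushPCUnbH3.isZero_HD_Rpush_of_isLE f N hN (DCoh.toD X F) hq b i (by omega))
  have hLE : (DCoh.toD Y G).IsLE (N + b) :=
    Groth.Agent.Lib.RelPCPropH3.isLE_of_iso' eG.symm (N + b) hLE'
  have hIq : DCoh.IsQCohD (Q.obj I) :=
    Groth.Agent.Lib.DSectX.isQCohD_of_iso (asIso (Q.map sF)) hq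
  exact ⟨G, inferInstance, N + b, hLE, ⟨eG⟩, fun p => ⟨natIsoT f sF t hIq p⟩⟩

/-- **S6253** -/
theorem main6253 [CompactSpace X] [QuasiSeparatedSpace X] [CompactSpace Y]
    [QuasiSeparatedSpace Y] (f : X ⟶ Y) [QuasiCompact f] [QuasiSeparated f]
    (F : CochainComplex X.Modules ℤ) (b : ℤ)
    [(DCoh.toD X F).IsLE b] (hq : DCoh.IsQCohD (DCoh.toD X F))
    (p : ℤ) [DCoh.HasLpull f] [DCoh.HasLTensorCx F] [DCoh.HasRpush f] :
    PreservesFiniteColimits ((QCohCat.isQCoh Y).ι ⋙ DerivedCategory.singleFunctor Y.Modules 0 ⋙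
      DCoh.Lpull f ⋙ DCoh.LTensorCx F ⋙ DCoh.Rpush f ⋙
        DerivedCategory.homologyFunctor Y.Modules p) ↔
    PreservesFiniteLimits ((QCohCat.isQCoh Y).ι ⋙ DerivedCategory.singleFunctor Y.Modules 0 ⋙
      DCoh.Lpull f ⋙ DCoh.LTensorCx F ⋙ DCoh.Rpush f ⋙
        DerivedCategory.homologyFunctor Y.Modules (p + 1)) := by
  obtain ⟨G, hG, c, hLE, -, hT⟩ := setupQ f F b hq
  haveI := hG
  haveI := hLE
  obtain ⟨e1⟩ := hT p
  obtain ⟨e2⟩ := hT (p + 1)
  have key := rightExact_iff_leftExact_succ_qcoh G c p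
  constructor
  · intro h
    haveI := h
    haveI : PreservesFiniteColimits ((QCohCat.isQCoh Y).ι ⋙ HLs G p) :=
      preservesFiniteColimits_of_natIso e1.symm
    haveI : PreservesFiniteLimits ((QCohCat.isQCoh Y).ι ⋙ HLs G (p + 1)) := key.1 inferInstance
    exact preservesFiniteLimits_of_natIso e2
  · intro h
    haveI := h
    haveI : PreservesFiniteLimits ((QCohCat.isQCoh Y).ι ⋙ HLs G (p + 1)) :=
      preservesFiniteLimits_of_natIso e2.symm
    haveI : PreservesFiniteColimits ((QCohCat.isQCoh Y).ι ⋙ HLs G p) := key.2 inferInstance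
    exact preservesFiniteColimits_of_natIso e1

end Final

end

end Groth.Agent.Lib.PjCxH3
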