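import Mathlib
import Groth.Prelude
import Groth.Agent.Lib.PullTens1_helper9
import Groth.Agent.Lib.ProjTens1_helper9
import Groth.Agent.Lib.ProjCech3_helper9
import Groth.Agent.Lib.CIsec7_helper9
import Groth.Agent.Lib.CMMul1_helper9
import Groth.Agent.Lib.CurveAmple1_helper9
import Groth.Agent.Lib.CurveNondeg1_helper9

/-!
# Products of global sections (helper9)

`prodSpan A B`: the additive subgroup of `Γ(A ⊗ B, ⊤)` generated by the products `a ⊗ b` of global
sections.  On projective space every global section of `O(a + b)` is a sum of products of sections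
of `O(a)` and `O(b)`.  Towards S14339, S7843.
APPEND-ONLY once landed.
-/

set_option autoImplicit false
universe u
open CategoryTheory CategoryTheory.Limits AlgebraicGeometry Opposite TopologicalSpace

namespace PlaneMul

open QcqsLoc QCohExtn

section Abs

variable {X : Scheme.{u}}

/-- the additive subgroup of `Γ(A ⊗ B, ⊤)` generated by products of global sections -/
noncomputable def prodSpan (A B : X.Modules) : AddSubgroup Γ(CohB1.tensorMod A B, ⊤) :=
  AddSubgroup.closure {t | ∃ (a : Γ(A, ⊤)) (b : Γ(B, ⊤)), t = SecTwist.tmul A B ⊤ a b}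

theorem tmul_mem_prodSpan (A B : X.Modules) (a : Γ(A, ⊤)) (b : Γ(B, ⊤)) :
    SecTwist.tmul A B ⊤ a b ∈ prodSpan A B :=
  AddSubgroup.subset_closure ⟨a, b, rfl⟩

/-- an additive map respecting products maps `prodSpan` into `prodSpan` -/
theorem map_mem_prodSpan {Y : Scheme.{u}} {A B : Y.Modules} {A' B' : X.Modules}
    (Φ : Γ(CohB1.tensorMod A B, ⊤) →+ Γ(CohB1.tensorMod A' B', ⊤))
    (α : Γ(A, ⊤) → Γ(A', ⊤)) (β : Γ(B, ⊤) → Γ(B', ⊤))
    (h : ∀ a b, Φ (SecTwist.tmul A B ⊤ a b) = SecTwist.tmul A' B' ⊤ (α a) (β b))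
    {t : Γ(CohB1.tensorMod A B, ⊤)} (ht : t ∈ prodSpan A B) : Φ t ∈ prodSpan A' B' := by
  have hle : prodSpan A B ≤ (prodSpan A' B').comap Φ := by
    refine (AddSubgroup.closure_le _).mpr ?_
    rintro _ ⟨a, b, rfl⟩
    show Φ _ ∈ prodSpan A' B'
    rw [h]
    exact tmul_mem_prodSpan A' B' _ _
  exact hle ht

/-- every global section of `A ⊗ A` is a sum of products of global sections of `A` -/
def MulSurj (A : X.Modules) : Prop := ∀ t : Γ(CohB1.tensorMod A A, ⊤), t ∈ prodSpan A A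

/-- `MulSurj` is invariant under isomorphism -/
theorem MulSurj.of_iso {A A' : X.Modules} (e : A ≅ A') (hA : MulSurj A) : MulSurj A' := by
  let θ : CohB1.tensorMod A A ≅ CohB1.tensorMod A' A' :=
    (Groth.Agent.TensInv.tR A).mapIso e ≪≫ (PFormH9.TL A').mapIso e
  have hθ : ∀ a b, ap θ.hom ⊤ (SecTwist.tmul A A ⊤ a b) =
      SecTwist.tmul A' A' ⊤ (ap e.hom ⊤ a) (ap e.hom ⊤ b) := by
    intro a b
    show ap (CurveAmple.tlMap A' e.hom) ⊤ (ap ((Groth.Agent.TensInv.tR A).map e.hom) ⊤ _) = _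
    rw [Groth.Agent.CMMul.ap_tR_map_tmul, CurveAmple.ap_tlMap_tmul]
  intro t'
  have h3 := map_mem_prodSpan (ap θ.hom ⊤) (fun a => ap e.hom ⊤ a) (fun a => ap e.hom ⊤ a) hθ
    (hA (ap θ.inv ⊤ t'))
  have h4 : ap θ.hom ⊤ (ap θ.inv ⊤ t') = t' :=
    congrArg (fun φ => ap φ ⊤ t') θ.inv_hom_id
  rwa [h4] at h3

end Abs

section Poly

open MvPolynomial

theorem exists_le_degree {σ : Type*} (μ : σ →₀ ℕ) :
    ∀ m : ℕ, m ≤ μ.degree → ∃ α : σ →₀ ℕ, α ≤ μ ∧ α.degree = m
  | 0, _ => ⟨0, bot_le, map_zero _⟩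
  | m + 1, hm => by
    obtain ⟨α, hα, hαd⟩ := exists_le_degree μ m (by omega)
    have hne : α ≠ μ := by
      rintro rfl
      omega
    obtain ⟨i, hi⟩ : ∃ i, α i < μ i := by
      by_contra hcon
      push Not at hcon
      exact hne (le_antisymm hα (fun i => hcon i))
    classical
    refine ⟨α + Finsupp.single i 1, ?_, ?_⟩
    · intro j
      by_cases hj : j = i
      · subst hj
        simp only [Finsupp.add_apply, Finsupp.single_eq_same]
        omega
      · have : (Finsupp.single i 1 : σ →₀ ℕ) j = 0 := Finsupp.single_eq_of_ne' (Ne.symm hj)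
        simp only [Finsupp.add_apply, this, add_zero]
        exact hα j
    · rw [map_add, hαd, Finsupp.degree_single]

/-- every form of degree `a + b` is a sum of products of forms of degrees `a` and `b` -/
theorem homogeneousSubmodule_le_mul (σ : Type*) (R : Type*) [CommRing R] (a b : ℕ) :
    homogeneousSubmodule σ R (a + b) ≤ homogeneousSubmodule σ R a * homogeneousSubmodule σ R b := by
  intro F hF
  rw [← F.support_sum_monomial_coeff]
  refine Submodule.sum_mem _ fun μ hμ => ?_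
  have hdeg : μ.degree = a + b := by
    rw [Finsupp.degree_eq_weight_one]
    exact hF (mem_support_iff.mp hμ)
  obtain ⟨α, hα, hαd⟩ := exists_le_degree μ a (by omega)
  have hsum : α + (μ - α) = μ := add_tsub_cancel_of_le hα
  have hβd : (μ - α).degree = b := by
    have := congrArg Finsupp.degree hsum
    rw [map_add, hαd, hdeg] at this
    omega
  have : monomial μ (coeff μ F) = monomial α (coeff μ F) * monomial (μ - α) 1 := by
    rw [monomial_mul, mul_one, hsum]
  rw [this]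
  exact Submodule.mul_mem_mul (isHomogeneous_monomial _ hαd) (isHomogeneous_monomial _ hβd)

end Poly

section Proj

variable (n : ℕ) (R : Type u) [CommRing R]

open Groth.Agent.ProjCech

/-- global sections of `O(i)`, `i = d ≥ 0`, are forms of degree `d` -/
theorem exists_form (i : ℤ) (d : ℕ) (hi : i = d) (s : Sec n R i ⊤) :
    ∃ b : 𝒜 n R d, ∀ x : (⊤ : (Proj (𝒜 n R)).Opens),
      val s x = Localization.mk b.1 ⟨mon n R 0, mon_zero_notMem x.1⟩ := by
  subst hi
  obtain ⟨b, rfl⟩ := glob_surjective d s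
  exact ⟨b, fun x => val_glob d b x⟩

theorem val_mulSec (a b : ℤ) (U : (Proj (𝒜 n R)).Opens) (s : Sec n R a U) (t : Sec n R b U)
    (x : U) :
    val (show Sec n R (a + b) U from Groth.Agent.ProjTw.mulSec (𝒜 n R) a b (op U) s t) x =
      val s x * val t x := rfl

/-- **every global section of `O(a + b)` on `P^n` is a sum of products of global sections of
`O(a)` and `O(b)`** -/
theorem exists_prodSpan_mulHom (a b : ℕ)
    (s : Γ(Twist.twist (𝒜 n R) ((a : ℤ) + (b : ℤ)), ⊤)) :
    ∃ w ∈ prodSpan (Twist.twist (𝒜 n R) (a : ℤ)) (Twist.twist (𝒜 n R) (b : ℤ)),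
      ap (Groth.Agent.ProjTw.mulHom (𝒜 n R) (a : ℤ) (b : ℤ)) ⊤ w = s := by
  obtain ⟨F, hF⟩ := exists_form n R ((a : ℤ) + (b : ℤ)) (a + b) (by push_cast; rfl) s
  have hmem : F.1 ∈ 𝒜 n R a * 𝒜 n R b := homogeneousSubmodule_le_mul _ _ a b F.2
  have key : ∀ G : MvPolynomial (Fin (n + 1)) R, G ∈ 𝒜 n R a * 𝒜 n R b →
      ∃ w ∈ prodSpan (Twist.twist (𝒜 n R) (a : ℤ)) (Twist.twist (𝒜 n R) (b : ℤ)),
        ∀ x : (⊤ : (Proj (𝒜 n R)).Opens),
          val (show Sec n R ((a : ℤ) + (b : ℤ)) ⊤ from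
            ap (Groth.Agent.ProjTw.mulHom (𝒜 n R) (a : ℤ) (b : ℤ)) ⊤ w) x =
            Localization.mk G ⟨mon n R 0, mon_zero_notMem x.1⟩ := by
    intro G hG
    refine Submodule.mul_induction_on hG ?_ ?_
    · intro m hm m' hm'
      refine ⟨SecTwist.tmul _ _ ⊤ (glob a ⟨m, hm⟩) (glob b ⟨m', hm'⟩),
        tmul_mem_prodSpan _ _ _ _, fun x => ?_⟩
      rw [Groth.Agent.ProjTw.mulHom_tmul]
      refine (val_mulSec n R a b ⊤ (glob a ⟨m, hm⟩) (glob b ⟨m', hm'⟩) x).trans ?_
      rw [val_glob, val_glob, Localization.mk_mul, Localization.mk_eq_mk_iff,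
        Localization.r_iff_exists]
      exact ⟨1, by simp [mon_zero]⟩
    · rintro G₁ G₂ ⟨w₁, hw₁, h₁⟩ ⟨w₂, hw₂, h₂⟩
      refine ⟨w₁ + w₂, add_mem hw₁ hw₂, fun x => ?_⟩
      rw [map_add]
      refine (val_add _ _ x).trans ?_
      rw [h₁, h₂, Localization.add_mk_self]
  obtain ⟨w, hw, hval⟩ := key F.1 hmem
  refine ⟨w, hw, ?_⟩
  apply ext_val (n := n) (R := R)
  intro x
  exact (hval x).trans (hF x).symm

end Proj

end PlaneMul
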