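import Mathlib
import Groth.Prelude
import Groth.Agent.Lib.PlaneMul1_helper9
import Groth.Agent.Lib.CurveTens2_helper9
import Groth.Agent.Lib.RibbonExtNat_helper7
import Groth.Agent.Lib.CIsec3_helper9

/-!
# Products of global sections and pullbacks (helper9)

Towards S14339, S7843.
APPEND-ONLY once landed.
-/

set_option autoImplicit false
universe u
open CategoryTheory CategoryTheory.Limits AlgebraicGeometry Opposite TopologicalSpace

namespace PlaneMul

open QcqsLoc QCohExtn CurveTens CurveNondeg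

section SemiLin

variable (k : Type u) [Field k] {C P : Scheme.{u}} [C.Over (Spec (CommRingCat.of k))]
  [P.Over (Spec (CommRingCat.of k))] (h : C ⟶ P)
  (hh : h ≫ (P ↘ Spec (CommRingCat.of k)) = C ↘ Spec (CommRingCat.of k))
  (Q : P.Modules) (T : C.Modules) (Φ : Γ(Q, ⊤) →+ Γ(T, ⊤))
  (hΦ : ∀ (r : Γ(P, ⊤)) (q : Γ(Q, ⊤)), Φ (r • q) = (h.appTop.hom r : Γ(C, ⊤)) • Φ q)

/-- a semilinear map on global sections, as a `k`-linear map on `H⁰` -/
noncomputable def semiLin : Coh.HH P Q 0 →ₗ[k] Coh.HH C T 0 where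
  toFun v := (e₀ T).symm (Φ (e₀ Q v))
  map_add' v w := by rw [map_add, map_add, map_add]
  map_smul' c v := by
    have h1 : c • v = (Coh.toGlobal (P ↘ Spec (CommRingCat.of k)) c) • v := rfl
    have h2 : ∀ w : Coh.HH C T 0,
        c • w = (Coh.toGlobal (C ↘ Spec (CommRingCat.of k)) c) • w := fun _ => rfl
    rw [RingHom.id_apply, h1, h2]
    apply (e₀ T).injective
    show e₀ _ ((e₀ _).symm (Φ (e₀ Q (_ • v)))) = e₀ _ (_ • (e₀ _).symm (Φ (e₀ Q v)))
    rw [AddEquiv.apply_symm_apply, e₀_smul, e₀_smul, AddEquiv.apply_symm_apply, hΦ]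
    congr 1
    have h3 : Coh.toGlobal (C ↘ Spec (CommRingCat.of k)) c =
        Coh.toGlobal (h ≫ (P ↘ Spec (CommRingCat.of k))) c := by rw [hh]
    rw [h3]
    rfl

theorem e₀_semiLin (v : Coh.HH P Q 0) :
    e₀ T (semiLin k h hh Q T Φ hΦ v) = Φ (e₀ Q v) := by
  show e₀ _ ((e₀ _).symm _) = _
  rw [AddEquiv.apply_symm_apply]

theorem semiLin_injective (hinj : Function.Injective Φ) :
    Function.Injective (semiLin k h hh Q T Φ hΦ) := by
  intro v w hvw
  have h1 := congrArg (e₀ T) hvw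
  rw [e₀_semiLin, e₀_semiLin] at h1
  exact (e₀ Q).injective (hinj h1)

theorem semiLin_surjective (hsurj : Function.Surjective Φ) :
    Function.Surjective (semiLin k h hh Q T Φ hΦ) := by
  intro w
  obtain ⟨q, hq⟩ := hsurj (e₀ T w)
  refine ⟨(e₀ Q).symm q, ?_⟩
  apply (e₀ T).injective
  rw [e₀_semiLin, AddEquiv.apply_symm_apply, hq]

theorem surjective_of_semiLin_surjective
    (hsurj : Function.Surjective (semiLin k h hh Q T Φ hΦ)) : Function.Surjective Φ := by
  intro t
  obtain ⟨v, hv⟩ := hsurj ((e₀ T).symm t)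
  refine ⟨e₀ Q v, ?_⟩
  have h1 := congrArg (e₀ T) hv
  rw [e₀_semiLin, AddEquiv.apply_symm_apply] at h1
  exact h1

end SemiLin

section Pull

variable {C P : Scheme.{u}} (ι : C ⟶ P)

/-- the additive map `Γ(E ⊗ E', ⊤) → Γ(ι^*E ⊗ ι^*E', ⊤)` -/
noncomputable def pullProd (E E' : P.Modules) :
    Γ(CohB1.tensorMod E E', ⊤) →+
      Γ(CohB1.tensorMod ((Scheme.Modules.pullback ι).obj E)
        ((Scheme.Modules.pullback ι).obj E'), ⊤) :=
  (ap (PullTensH9.ptHom ι E E') ⊤).comp (pullTop ι (CohB1.tensorMod E E'))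

theorem pullProd_tmul (E E' : P.Modules) (a : Γ(E, ⊤)) (b : Γ(E', ⊤)) :
    pullProd ι E E' (SecTwist.tmul E E' ⊤ a b) =
      SecTwist.tmul _ _ ⊤ (pullTop ι E a) (pullTop ι E' b) := by
  have h := PullTensH9.ptHom_cUV ι E E' ⊤ a b
  rw [Groth.Agent.CIsec.cUV_eq_pullSect, Groth.Agent.CIsec.cUV_eq_pullSect,
    Groth.Agent.CIsec.cUV_eq_pullSect] at h
  exact h

theorem pullProd_smul (E E' : P.Modules) (r : Γ(P, ⊤)) (q : Γ(CohB1.tensorMod E E', ⊤)) :
    pullProd ι E E' (r • q) = (ι.appTop.hom r : Γ(C, ⊤)) • pullProd ι E E' q := by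
  show ap (PullTensH9.ptHom ι E E') ⊤ (pullTop ι _ (r • q)) = _
  rw [pullTop_smul]
  exact ap_smul _ _ _

/-- **products of sections on a subscheme**: if every global section of `K ≅ E ⊗ E'` is a sum of
products and restricts surjectively, then every global section of `ι^*E ⊗ ι^*E'` is a sum of
products -/
theorem mem_prodSpan_pullback {E E' K : P.Modules} (hE : PicF.IsInvertible E)
    (hE' : PicF.IsInvertible E') (μ : CohB1.tensorMod E E' ⟶ K) [IsIso μ]
    (ha : ∀ s : Γ(K, ⊤), ∃ w ∈ prodSpan E E', ap μ ⊤ w = s)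
    (hb : Function.Surjective (pullTop ι K))
    (t : Γ(CohB1.tensorMod ((Scheme.Modules.pullback ι).obj E)
      ((Scheme.Modules.pullback ι).obj E'), ⊤)) :
    t ∈ prodSpan ((Scheme.Modules.pullback ι).obj E) ((Scheme.Modules.pullback ι).obj E') := by
  let θ := PullTensH9.pullTensIso ι hE hE'
  let μ' : (Scheme.Modules.pullback ι).obj (CohB1.tensorMod E E') ≅
      (Scheme.Modules.pullback ι).obj K := (Scheme.Modules.pullback ι).mapIso (asIso μ)
  obtain ⟨s, hs⟩ := hb (ap μ'.hom ⊤ (ap θ.inv ⊤ t))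
  obtain ⟨w, hw, hws⟩ := ha s
  have hnat : ap μ'.hom ⊤ (pullTop ι (CohB1.tensorMod E E') w) = pullTop ι K (ap μ ⊤ w) :=
    Groth.Agent.Lib.RibbonExtNatH7.pullSect_naturality ι μ ⊤ w
  have h1 : pullTop ι (CohB1.tensorMod E E') w = ap θ.inv ⊤ t := by
    have h2 : ap μ'.hom ⊤ (pullTop ι (CohB1.tensorMod E E') w) =
        ap μ'.hom ⊤ (ap θ.inv ⊤ t) := by rw [hnat, hws, hs]
    have h3 := congrArg (ap μ'.inv ⊤) h2
    have h4 : ∀ z, ap μ'.inv ⊤ (ap μ'.hom ⊤ z) = z := fun z =>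
      congrArg (fun φ => ap φ ⊤ z) μ'.hom_inv_id
    rwa [h4, h4] at h3
  have h5 : t = pullProd ι E E' w := by
    show t = ap θ.hom ⊤ (pullTop ι (CohB1.tensorMod E E') w)
    rw [h1]
    exact (congrArg (fun φ => ap φ ⊤ t) θ.inv_hom_id).symm
  rw [h5]
  exact map_mem_prodSpan (pullProd ι E E') (pullTop ι E) (pullTop ι E') (pullProd_tmul ι E E') hw

/-- **products of sections on a cover**: if all global sections of `h^*E` come from `E` and every
global section of `h^*E ⊗ h^*E` is a sum of products, then all global sections of `h^*E ⊗ h^*E`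
come from `E ⊗ E` -/
theorem pullProd_surjective (E : P.Modules) (hsurj : Function.Surjective (pullTop ι E))
    (hM : MulSurj ((Scheme.Modules.pullback ι).obj E)) :
    Function.Surjective (pullProd ι E E) := by
  intro t
  have hle : prodSpan ((Scheme.Modules.pullback ι).obj E) ((Scheme.Modules.pullback ι).obj E) ≤
      (pullProd ι E E).range := by
    refine (AddSubgroup.closure_le _).mpr ?_
    rintro _ ⟨a, b, rfl⟩
    obtain ⟨a', rfl⟩ := hsurj a
    obtain ⟨b', rfl⟩ := hsurj b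
    exact ⟨SecTwist.tmul E E ⊤ a' b', pullProd_tmul ι E E a' b'⟩
  exact hle (hM t)

end Pull

end PlaneMul
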