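import Mathlib
import Groth.Prelude
import Groth.Agent.Lib.PlaneMul2_helper9
import Groth.Agent.Lib.OmField2_helper9
import Groth.Agent.Lib.HypEll3_helper9

/-!
# A curve whose canonical module has surjective multiplication map is not a double cover
(helper9)

Towards S14339, S7843.
APPEND-ONLY once landed.
-/

set_option autoImplicit false
set_option linter.style.haveILetI false
universe u
open CategoryTheory CategoryTheory.Limits AlgebraicGeometry Opposite TopologicalSpace

namespace PlaneMul

open QcqsLoc QCohExtn CurveTens CurveNondeg GenLocH8 PBH8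

section Inj

variable {C P : Scheme.{u}} (h : C ⟶ P)

/-- functions pull back injectively along a surjective morphism to a reduced scheme -/
theorem app_injective [Surjective h] [IsReduced P] (U : P.Opens) :
    Function.Injective ((h.app U).hom : Γ(P, U) → Γ(C, h ⁻¹ᵁ U)) := by
  rw [injective_iff_map_eq_zero]
  intro s hs
  have h1 : P.basicOpen s = ⊥ := by
    rw [eq_bot_iff]
    intro y hy
    obtain ⟨z, rfl⟩ := h.surjective y
    have h2 : z ∈ h ⁻¹ᵁ P.basicOpen s := hy
    rw [Scheme.preimage_basicOpen] at h2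
    have h3 : (h.app U) s = 0 := hs
    rw [h3, Scheme.basicOpen_zero] at h2
    exact h2.elim
  exact (basicOpen_eq_bot_iff s).mp h1

/-- global sections of an invertible module pull back injectively along a surjective morphism
to a reduced scheme -/
theorem pullTop_injective [Surjective h] [IsReduced P] {E : P.Modules}
    (hE : PicF.IsInvertible E) : Function.Injective (pullTop h E) := by
  rw [injective_iff_map_eq_zero]
  intro s hs
  apply QcqsLoc.eq_zero_of_cover
  intro x _
  obtain ⟨W, hW, hxW, e, he⟩ := exists_isGen hE x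
  refine ⟨W, le_top, hxW, ?_⟩
  obtain ⟨a, ha⟩ := (he W le_rfl).1 (rF E le_top s)
  rw [SubExt.rF_self] at ha
  have hg := TensH8.isGen_cUV h hE hW he
  have hW' : h ⁻¹ᵁ W ≤ h ⁻¹ᵁ (⊤ : P.Opens) := fun _ _ => trivial
  have h1 : cUV h E (le_rfl : h ⁻¹ᵁ W ≤ h ⁻¹ᵁ W) (rF E (le_top : W ≤ ⊤) s) = 0 := by
    rw [TensH8.cUV_resV]
    have h2 := TensH8.rF_cUV h E (le_rfl : h ⁻¹ᵁ (⊤ : P.Opens) ≤ h ⁻¹ᵁ ⊤) hW' s
    refine h2.symm.trans ?_
    rw [Groth.Agent.CIsec.cUV_eq_pullSect]
    have h3 : OmegaSh.pullSect h E ⊤ s = 0 := hs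
    rw [h3, map_zero]
  rw [ha, TensH8.cUV_smul_app] at h1
  have h4 := (hg (h ⁻¹ᵁ W) le_rfl).2 ((h.app W).hom a)
  have h5 : (h.app W).hom a = 0 := by
    apply h4
    rw [SubExt.rF_self]
    exact h1
  have h6 : a = 0 := app_injective h W (h5.trans (map_zero _).symm)
  rw [ha, h6, zero_smul]

end Inj

section Main

variable (k : Type u) [Field k] (C : Scheme.{u}) [C.Over (Spec (CommRingCat.of k))]
  [IsProper (C ↘ Spec (CommRingCat.of k))] [Smooth (C ↘ Spec (CommRingCat.of k))]
  [GeometricallyConnected (C ↘ Spec (CommRingCat.of k))]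

/-- **a curve of genus `≥ 3` whose canonical module has a surjective multiplication map is not a
double cover of a curve carrying an invertible module `E` of degree `g - 1` with `h⁰(E) = g` and
`h⁰(E ⊗ E) ≤ 2g - 1`** -/
theorem no_double_cover (hC : topologicalKrullDim C = 1) (hg3 : 3 ≤ Curv2.genus k C)
    (L : C.Modules) (hL : PicF.IsInvertible L)
    (hLdeg : Curv2.deg k C L 1 = 2 * (Curv2.genus k C : ℤ) - 2)
    (hLh0 : Curv2.genus k C ≤ Module.finrank k (Coh.HH C L 0)) (hLmul : MulSurj L)
    (P : Scheme.{u}) [P.Over (Spec (CommRingCat.of k))] [IsIntegral P]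
    [IsProper (P ↘ Spec (CommRingCat.of k))] (hP : topologicalKrullDim P ≤ 1)
    (h : C ⟶ P) (hh : h ≫ (P ↘ Spec (CommRingCat.of k)) = C ↘ Spec (CommRingCat.of k))
    [IsFinite h] [Flat h] (hrk : ∀ y : P, Scheme.Hom.finrank h y = 2)
    (E : P.Modules) (hE : PicF.IsInvertible E)
    (hEdeg : Curv2.deg k P E 1 = (Curv2.genus k C : ℤ) - 1)
    (hEh0 : Module.finrank k (Coh.HH P E 0) = Curv2.genus k C)
    (hEE : Module.finrank k (Coh.HH P (CohB1.tensorMod E E) 0) ≤ 2 * Curv2.genus k C - 1) :
    False := by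
  haveI := OmField.isIntegral k C
  haveI : IsLocallyNoetherian P :=
    LocallyOfFiniteType.isLocallyNoetherian (P ↘ Spec (CommRingCat.of k))
  haveI : Surjective h := by
    rw [← Scheme.Hom.one_le_finrank_iff_surjective]
    intro y
    rw [hrk y]
    norm_num
  have hΩ := OmField.isInvertible_Omega k C hC
  have hM : PicF.IsInvertible ((Scheme.Modules.pullback h).obj E) :=
    TensH8.isInvertible_pullback h hE
  have hMdeg : Curv2.deg k C ((Scheme.Modules.pullback h).obj E) 1 =
      2 * (Curv2.genus k C : ℤ) - 2 := by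
    rw [HypEll.deg_pullback_cover k h hh hP hrk E
      (FLFH8.finLocFreeOfRank_one_of_isInvertible hE), hEdeg]
    push_cast
    ring
  -- finiteness
  have hEc := ProperFinH9.isCoh_of_isInvertible hE
  have hMc := ProperFinH9.isCoh_of_isInvertible hM
  have hEEc := ProperFinH9.isCoh_of_isInvertible (TensH8.isInvertible_tensorMod hE hE)
  have hMMc := ProperFinH9.isCoh_of_isInvertible (TensH8.isInvertible_tensorMod hM hM)
  haveI := ProperFinH9.finite_HH_of_proper k P _ hEc 0
  haveI := ProperFinH9.finite_HH_of_proper k C _ hMc 0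
  haveI := ProperFinH9.finite_HH_of_proper k P _ hEEc 0
  haveI := ProperFinH9.finite_HH_of_proper k C _ hMMc 0
  -- the pullback of sections
  let T := semiLin k h hh E ((Scheme.Modules.pullback h).obj E) (pullTop h E)
    (fun r q => pullTop_smul h E r q)
  have hTinj : Function.Injective T :=
    semiLin_injective k h hh E _ (pullTop h E) _ (pullTop_injective h hE)
  have hMh0 : Curv2.genus k C ≤
      Module.finrank k (Coh.HH C ((Scheme.Modules.pullback h).obj E) 0) := by
    rw [← hEh0]
    exact LinearMap.finrank_le_finrank_of_injective hTinj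
  obtain ⟨eM⟩ := OmField.main13457 k C hC _ hM hMdeg hMh0
  obtain ⟨eL⟩ := OmField.main13457 k C hC L hL hLdeg hLh0
  have hMh0' : Module.finrank k (Coh.HH C ((Scheme.Modules.pullback h).obj E) 0) =
      Curv2.genus k C := by
    rw [(Groth.Agent.HypConn.hhEquivOfIso (A := k) eM 0).finrank_eq]
    exact OmField.finrank_HH0_Omega k C hC
  have hTsurj : Function.Surjective T :=
    (LinearMap.injective_iff_surjective_of_finrank_eq_finrank (hEh0.trans hMh0'.symm)).mp hTinj
  have hpsurj : Function.Surjective (pullTop h E) :=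
    surjective_of_semiLin_surjective k h hh E _ (pullTop h E) _ hTsurj
  have hMmul : MulSurj ((Scheme.Modules.pullback h).obj E) :=
    MulSurj.of_iso (eL ≪≫ eM.symm) hLmul
  have hPsurj := pullProd_surjective h E hpsurj hMmul
  let T2 := semiLin k h hh (CohB1.tensorMod E E) _ (pullProd h E E)
    (fun r q => pullProd_smul h E E r q)
  have hT2surj : Function.Surjective T2 :=
    semiLin_surjective k h hh _ _ (pullProd h E E) _ hPsurj
  have hle := LinearMap.finrank_le_finrank_of_surjective hT2surj
  -- `h⁰(M ⊗ M) = 3g - 3`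
  have e2 : CohB1.tensorMod ((Scheme.Modules.pullback h).obj E)
      ((Scheme.Modules.pullback h).obj E) ≅
      CohB1.tensorMod (Omega.sheaf (C ↘ Spec (CommRingCat.of k)))
        (Omega.sheaf (C ↘ Spec (CommRingCat.of k))) :=
    Groth.Agent.TensInv.mapR eM _ ≪≫ Groth.Agent.TensInv.mapL _ eM
  have h9 := OmField.finrank_HH0_Omega_sq k C hC (by omega)
  rw [← (Groth.Agent.HypConn.hhEquivOfIso (A := k) e2 0).finrank_eq] at h9
  have hle' : (Module.finrank k (Coh.HH C (CohB1.tensorMod ((Scheme.Modules.pullback h).obj E)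
      ((Scheme.Modules.pullback h).obj E)) 0) : ℤ) ≤
      (Module.finrank k (Coh.HH P (CohB1.tensorMod E E) 0) : ℤ) := by exact_mod_cast hle
  have hEE' : (Module.finrank k (Coh.HH P (CohB1.tensorMod E E) 0) : ℤ) ≤
      2 * (Curv2.genus k C : ℤ) - 1 := by
    have : ((2 * Curv2.genus k C - 1 : ℕ) : ℤ) = 2 * (Curv2.genus k C : ℤ) - 1 := by
      rw [Nat.cast_sub (by omega)]
      push_cast
      ring
    rw [← this]
    exact_mod_cast hEE
  have hg3' : (3 : ℤ) ≤ (Curv2.genus k C : ℤ) := by exact_mod_cast hg3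
  linarith

end Main

end PlaneMul
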