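import Mathlib
import Groth.Prelude
import Groth.Agent.Lib.PlaneMul2_helper9
import Groth.Agent.Lib.HypConn_helper9
import Groth.Agent.Lib.HypConn2_helper9
import Groth.Agent.Lib.HypSurf_helper9
import Groth.Agent.Lib.ClImmTw1_helper9
import Groth.Agent.Lib.PushEdgeNat_helper9
import Groth.Agent.S19434

/-!
# Plane curves: twists of the structure sheaf, multiplication of sections (helper9)

Towards S14339, S7843.
APPEND-ONLY once landed.
-/

set_option autoImplicit false
set_option linter.style.haveILetI false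
universe u
open CategoryTheory CategoryTheory.Limits AlgebraicGeometry Opposite TopologicalSpace

namespace PlaneMul

open QcqsLoc QCohExtn CurveTens CurveNondeg

section Twist

variable (k : Type u) [Field k] (N : ℕ) (I : (CohB1.ProjSpace N k).IdealSheafData)
  [I.subscheme.Over (Spec (CommRingCat.of k))]
  (hinst : I.subscheme ↘ Spec (CommRingCat.of k) = I.subschemeι ≫ CohB1.ProjSpace.toSpec N k)

include hinst in
/-- the cohomology of a twist on a closed subscheme of `P^N`, computed on `P^N` -/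
theorem finrank_HH_pullback_twist (n : ℤ) (p : ℕ) :
    Module.finrank k (Coh.HH I.subscheme ((Scheme.Modules.pullback I.subschemeι).obj
      (Twist.twistProjSpace N k n)) p) =
    Module.finrank k (Coh.HH (CohB1.ProjSpace N k)
      (CohB1.tensorMod (ClSub.quotMod I) (Twist.twistProjSpace N k n)) p) := by
  have hinv := Groth.Agent.Horrocks.isInvertible_OO N k n
  haveI : ((Scheme.Modules.pullback I.subschemeι).obj
      (Twist.twistProjSpace N k n)).IsQuasicoherent :=
    TensH8.isQuasicoherent_of_isInvertible (TensH8.isInvertible_pullback _ hinv)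
  have e1 := (Groth.Agent.PushEdgeNat.pushEdgeEquiv I.subschemeι
    (A := k) hinst.symm ((Scheme.Modules.pullback I.subschemeι).obj
      (Twist.twistProjSpace N k n)) p).finrank_eq
  let φ : (Scheme.Modules.pushforward I.subschemeι).obj
      ((Scheme.Modules.pullback I.subschemeι).obj (Twist.twistProjSpace N k n)) ≅
      CohB1.tensorMod (ClSub.quotMod I) (Twist.twistProjSpace N k n) :=
    (Scheme.Modules.pushforward I.subschemeι).mapIso (Groth.Agent.CMMul.unitorL _).symm ≪≫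
      Groth.Agent.ClImmTw.pushTwistIso I.subschemeι _
        (Groth.Agent.ClImmTw.isFinLocFree_twist k N n) (Coh.structureModule I.subscheme)
  rw [← e1, (Groth.Agent.HypConn.hhEquivOfIso (A := k) φ p).finrank_eq]

/-- the cohomology of the twists of a hypersurface in `P^N`, `N = q + 1 ≥ 2` -/
theorem twist_main (q : ℕ) (hN : N = q + 1) (hq : 1 ≤ q) (m : ℕ) (hm : 1 ≤ m)
    (J : (CohB1.ProjSpace N k).IdealSheafData)
    (hJ : Nonempty (ClSub.idealMod J ≅ Twist.twistProjSpace N k (-(m : ℤ)))) (n : ℤ) :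
    Module.finrank k (Coh.HH (CohB1.ProjSpace N k)
        (CohB1.tensorMod (ClSub.quotMod J) (Twist.twistProjSpace N k n)) 0) =
        (Nat.choose (n + ((q : ℤ) + 1)).toNat (q + 1) -
          Nat.choose (n - (m : ℤ) + ((q : ℤ) + 1)).toNat (q + 1)) ∧
      Module.finrank k (Coh.HH (CohB1.ProjSpace N k)
        (CohB1.tensorMod (ClSub.quotMod J) (Twist.twistProjSpace N k n)) q) =
        (Nat.choose (((m : ℤ) - 2 - (q : ℤ) - n) + ((q : ℤ) + 1)).toNat (q + 1) -
          Nat.choose (((m : ℤ) - 2 - (q : ℤ) - n) - (m : ℤ) + ((q : ℤ) + 1)).toNat (q + 1)) := by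
  subst hN
  obtain ⟨-, ⟨-, h0⟩, ⟨-, h1⟩⟩ := Groth.Agent.S19434.result k q m hq hm J hJ n
  exact ⟨h0, h1⟩

end Twist

section Plane

variable (k : Type u) [Field k] (d : ℕ) (f : LefPen.Form 2 k d) (hf : f ≠ 0)
  [inst : ((LefPen.hypIdeal f).subscheme).Over (Spec (CommRingCat.of k))]
  (hinst : (LefPen.hypIdeal f).subscheme ↘ (Spec (CommRingCat.of k)) =
    (LefPen.hypIdeal f).subschemeι ≫ CohB1.ProjSpace.toSpec 2 k)

include hf hinst in
theorem plane_h0_O (hd : 1 ≤ d) :
    Module.finrank k (Coh.HH (LefPen.hypIdeal f).subscheme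
      (Coh.structureModule (LefPen.hypIdeal f).subscheme) 0) = 1 := by
  obtain ⟨⟨hf0, h0⟩, -, -⟩ := Groth.Agent.HypConn.hyp_main k 2 1 rfl le_rfl d f hf
  obtain ⟨E0⟩ := Groth.Agent.HypConn.nonempty_linearEquiv_quotMod (LefPen.hypIdeal f) hinst 0
  rw [← E0.finrank_eq, h0, Nat.choose_self,
    Nat.choose_eq_zero_of_lt (by omega : 1 + 1 - d < 1 + 1)]

include hf hinst in
theorem plane_genus (hd : 1 ≤ d) :
    Curv2.genus k (LefPen.hypIdeal f).subscheme = (d - 1) * (d - 2) / 2 := by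
  obtain ⟨-, ⟨hf1, h1⟩, -⟩ := Groth.Agent.HypConn.hyp_main k 2 1 rfl le_rfl d f hf
  obtain ⟨E1⟩ := Groth.Agent.HypConn.nonempty_linearEquiv_quotMod (LefPen.hypIdeal f) hinst 1
  unfold Curv2.genus
  rw [← E1.finrank_eq, h1, Nat.choose_two_right]
  congr 2

include hf hinst in
/-- `h⁰(O_C(d - 3)) = g` and `h¹(O_C(d - 3)) = 1` for a plane curve of degree `d ≥ 3` -/
theorem plane_canonical (hd : 3 ≤ d) :
    Module.finrank k (Coh.HH (LefPen.hypIdeal f).subscheme
      ((Scheme.Modules.pullback (LefPen.hypIdeal f).subschemeι).obj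
        (Twist.twistProjSpace 2 k ((d - 3 : ℕ) : ℤ))) 0) = (d - 1) * (d - 2) / 2 ∧
    Module.finrank k (Coh.HH (LefPen.hypIdeal f).subscheme
      ((Scheme.Modules.pullback (LefPen.hypIdeal f).subschemeι).obj
        (Twist.twistProjSpace 2 k ((d - 3 : ℕ) : ℤ))) 1) = 1 := by
  have hI := Groth.Agent.HypIdeal.hypIdeal_iso f hf
  obtain ⟨h0, h1⟩ := twist_main k 2 1 rfl le_rfl d (by omega) (LefPen.hypIdeal f) hI
    ((d - 3 : ℕ) : ℤ)
  rw [finrank_HH_pullback_twist k 2 (LefPen.hypIdeal f) hinst,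
    finrank_HH_pullback_twist k 2 (LefPen.hypIdeal f) hinst, h0, h1]
  have hc : ((d - 3 : ℕ) : ℤ) = (d : ℤ) - 3 := by
    rw [Nat.cast_sub hd]
    norm_num
  have e1 : (((d - 3 : ℕ) : ℤ) + (((1 : ℕ) : ℤ) + 1)).toNat = d - 1 := by omega
  have e2 : (((d - 3 : ℕ) : ℤ) - (d : ℤ) + (((1 : ℕ) : ℤ) + 1)).toNat = 0 := by omega
  have e3 : (((d : ℤ) - 2 - ((1 : ℕ) : ℤ) - ((d - 3 : ℕ) : ℤ)) + (((1 : ℕ) : ℤ) + 1)).toNat = 2 := by
    omega
  have e4 : (((d : ℤ) - 2 - ((1 : ℕ) : ℤ) - ((d - 3 : ℕ) : ℤ)) - (d : ℤ) +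
      (((1 : ℕ) : ℤ) + 1)).toNat = 0 := by omega
  rw [e1, e2, e3, e4]
  constructor
  · rw [Nat.choose_two_right]
    simp
    congr 2
  · simp

include hf in
/-- **the multiplication map of `O_C(m)` on a plane curve is surjective** -/
theorem plane_mulSurj (m : ℕ) (hd : 1 ≤ d)
    (hdim : topologicalKrullDim (LefPen.hypIdeal f).subscheme = 1) :
    MulSurj ((Scheme.Modules.pullback (LefPen.hypIdeal f).subschemeι).obj
      (Twist.twistProjSpace 2 k (m : ℤ))) := by
  have hci : LefPen.ciIdeal (fun _ : Fin 1 => f) = LefPen.hypIdeal f := by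
    unfold LefPen.ciIdeal
    exact iSup_unique (fun _ : Fin 1 => LefPen.hypIdeal f)
  have hdim' : topologicalKrullDim (LefPen.ciIdeal (fun _ : Fin 1 => f)).subscheme =
      ((2 - 1 : ℕ) : WithBot ℕ∞) := by
    rw [hci, hdim]
    rfl
  have hgood := Groth.Agent.CIsec.good_ci (k := k) (n := 2) 1 (fun _ => d) (fun _ => hd)
    (fun _ => f) (by norm_num) hdim'
  rw [hci] at hgood
  have hsurj := hgood.surj (by norm_num) ((m : ℤ) + (m : ℤ))
  have hE : PicF.IsInvertible (Twist.twist (Groth.Agent.ProjCech.𝒜 2 k) (m : ℤ)) :=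
    Groth.Agent.ProjTw.isInvertible_twist (Groth.Agent.ProjCech.𝒜 2 k)
      (Groth.Agent.ProjTens.hcov' 2 k) (m : ℤ)
  haveI : IsIso (Groth.Agent.ProjTw.mulHom (Groth.Agent.ProjCech.𝒜 2 k) (m : ℤ) (m : ℤ)) :=
    Groth.Agent.ProjTw.isIso_mulHom (Groth.Agent.ProjCech.𝒜 2 k)
      (Groth.Agent.ProjTens.hcov' 2 k) (m : ℤ) (m : ℤ)
  have key : ∀ (ι : (LefPen.hypIdeal f).subscheme ⟶ Proj (Groth.Agent.ProjCech.𝒜 2 k)),
      Function.Surjective (pullTop ι (Twist.twist (Groth.Agent.ProjCech.𝒜 2 k)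
        ((m : ℤ) + (m : ℤ)))) →
      ∀ t, t ∈ prodSpan ((Scheme.Modules.pullback ι).obj
        (Twist.twist (Groth.Agent.ProjCech.𝒜 2 k) (m : ℤ)))
        ((Scheme.Modules.pullback ι).obj (Twist.twist (Groth.Agent.ProjCech.𝒜 2 k) (m : ℤ))) := by
    intro ι hs t
    exact mem_prodSpan_pullback ι hE hE
      (Groth.Agent.ProjTw.mulHom (Groth.Agent.ProjCech.𝒜 2 k) (m : ℤ) (m : ℤ))
      (exists_prodSpan_mulHom 2 k m m) hs t
  exact key (LefPen.hypIdeal f).subschemeι (fun t => hsurj t)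

end Plane

end PlaneMul
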