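import Mathlib
import Groth.Agent.Lib.ClosedDim_helper8

universe u
open AlgebraicGeometry CategoryTheory

namespace SubDimH8

/-- The dimension of a closed subset of a scheme is the Krull dimension of its specialization
order. -/
theorem topDim_closed_eq_krullDim {Y : Scheme.{u}} (T : Set Y) (hT : IsClosed T) :
    topologicalKrullDim ↥T = Order.krullDim ↥T := by
  haveI : QuasiSober ↥T := hT.isClosedEmbedding_subtypeVal.quasiSober
  unfold topologicalKrullDim
  let e1 := @irreducibleSetEquivPoints ↥T _ _ _
  let e : TopologicalSpace.IrreducibleCloseds ↥T ≃o ↥T :=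
    { toEquiv := e1.toEquiv
      map_rel_iff' := by
        intro s t
        have h := e1.map_rel_iff' (a := s) (b := t)
        exact (subtype_specializes_iff (e1 t) (e1 s)).symm.trans h }
  exact Order.krullDim_eq_of_orderIso e

/-- If specializations lift along `f` and the image of `f` is closed, then the dimension of the
image is at most the dimension of the source. -/
theorem topDim_range_le {X Y : Scheme.{u}} (f : X ⟶ Y) (hs : SpecializingMap f)
    (hT : IsClosed (Set.range f)) :
    topologicalKrullDim ↥(Set.range f) ≤ topologicalKrullDim X := by
  rw [topDim_closed_eq_krullDim _ hT, Order.krullDim_eq_iSup_height]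
  refine iSup_le fun t => ?_
  obtain ⟨x, hx⟩ := t.2
  have h1 : Order.height t ≤ Order.height t.1 :=
    Order.height_le_height_apply_of_strictMono Subtype.val (fun a b hab => hab) t
  have h2 : Order.height (f x) ≤ Order.height x := ClosedDimH8.height_le_of_specializingMap f hs x
  rw [hx] at h2
  have h3 : ((Order.height x : ℕ∞) : WithBot ℕ∞) ≤ topologicalKrullDim X := by
    rw [Groth.Agent.DimGenFibH8.topDim_eq_krullDim X]
    exact Order.height_le_krullDim x
  exact le_trans (by exact_mod_cast WithBot.coe_le_coe.mpr (h1.trans h2)) h3

end SubDimH8
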