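import Mathlib
import Groth.Prelude
import Groth.Agent.Lib.PlaneMul3_helper9
import Groth.Agent.Lib.PlaneMul4_helper9
import Groth.Agent.Lib.P1Iso2_helper9
import Groth.Agent.S4717

/-!
# Smooth plane curves of degree `≥ 4` are not hyperelliptic (helper9)

Statements of S14339 and S7843.
APPEND-ONLY once landed.
-/

set_option autoImplicit false
set_option linter.style.haveILetI false
universe u
open CategoryTheory CategoryTheory.Limits AlgebraicGeometry Opposite TopologicalSpace

namespace PlaneMul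

open QcqsLoc QCohExtn CurveTens CurveNondeg

section P1

variable (k : Type u) [Field k]

/-- `deg O(m) = m` on `P¹_k` -/
theorem deg_P1_twist (m : ℕ) :
    Curv2.deg k (CohB1.ProjSpace 1 k) (Twist.twistProjSpace 1 k (m : ℤ)) 1 = m := by
  haveI := P1Iso.isIntegral_P1 k
  haveI : IsProper ((CohB1.ProjSpace 1 k) ↘ Spec (CommRingCat.of k)) := P1Iso.isProper_P1 k
  haveI : IsLocallyNoetherian (CohB1.ProjSpace 1 k) :=
    LocallyOfFiniteType.isLocallyNoetherian ((CohB1.ProjSpace 1 k) ↘ Spec (CommRingCat.of k))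
  have hdim := P1Iso.dim_P1 k
  have hinv1 := Groth.Agent.Horrocks.isInvertible_OO 1 k (m : ℤ)
  haveI := (ProperFinH9.isCoh_of_isInvertible hinv1).1
  haveI := (CohDevH8.isCoh_structureModule (CohB1.ProjSpace 1 k)).1
  obtain ⟨e0⟩ := Groth.Agent.ProjTens.twist_zero 1 k
  have hinv0 := Groth.Agent.Horrocks.isInvertible_OO 1 k 0
  haveI := (ProperFinH9.isCoh_of_isInvertible hinv0).1
  unfold Curv2.deg
  rw [← CurveTens.euler_of_iso k _ e0,
    CurveRR.euler_eq_sub k (CohB1.ProjSpace 1 k) hdim.le (Twist.twistProjSpace 1 k (m : ℤ)),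
    CurveRR.euler_eq_sub k (CohB1.ProjSpace 1 k) hdim.le (Twist.twistProjSpace 1 k 0)]
  have a1 : Module.finrank k (Coh.HH (CohB1.ProjSpace 1 k)
      (Twist.twistProjSpace 1 k (m : ℤ)) 0) = m + 1 := by
    rw [Groth.Agent.ProjEuler.finrank_HH_zero k 1 m, Nat.choose_one_right]
  have a0 : Module.finrank k (Coh.HH (CohB1.ProjSpace 1 k) (Twist.twistProjSpace 1 k 0) 0) = 1 :=
    Groth.Agent.ProjEuler.finrank_HH_zero k 1 0
  have b1 := Groth.Agent.ProjEuler.finrank_HH_eq_zero k 1 (m : ℤ) 1 (by omega) (by omega)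
  have b0 := Groth.Agent.ProjEuler.finrank_HH_eq_zero k 1 0 1 (by omega) (by omega)
  rw [a1, a0, b1, b0]
  push_cast
  ring

end P1

section Plane

variable (k : Type u) [Field k] (d : ℕ) (f : LefPen.Form 2 k d) (hf : f ≠ 0)
  [inst : ((LefPen.hypIdeal f).subscheme).Over (Spec (CommRingCat.of k))]
  (hinst : (LefPen.hypIdeal f).subscheme ↘ (Spec (CommRingCat.of k)) =
    (LefPen.hypIdeal f).subschemeι ≫ CohB1.ProjSpace.toSpec 2 k)

include hinst in
theorem plane_isProper : IsProper ((LefPen.hypIdeal f).subscheme ↘ (Spec (CommRingCat.of k))) := by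
  rw [hinst]
  haveI := Groth.Agent.Lib.ProjSpaceProperH4.isProper_toSpec 2 k
  infer_instance

include hf hinst in
theorem plane_geomConn (hd : 1 ≤ d) :
    GeometricallyConnected ((LefPen.hypIdeal f).subscheme ↘ (Spec (CommRingCat.of k))) := by
  haveI := plane_isProper k d f hinst
  have h0 := plane_h0_O k d f hf hinst hd
  haveI : CompactSpace (LefPen.hypIdeal f).subscheme :=
    QuasiCompact.compactSpace_of_compactSpace
      ((LefPen.hypIdeal f).subscheme ↘ (Spec (CommRingCat.of k)))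
  haveI : IsLocallyNoetherian (LefPen.hypIdeal f).subscheme :=
    LocallyOfFiniteType.isLocallyNoetherian
      ((LefPen.hypIdeal f).subscheme ↘ (Spec (CommRingCat.of k)))
  haveI : QuasiSeparatedSpace (LefPen.hypIdeal f).subscheme := inferInstance
  haveI := Groth.Agent.HypConn.connectedSpace_of_finrank_h0 h0
  haveI : Nonempty (LefPen.hypIdeal f).subscheme := inferInstance
  exact OmField.geometricallyConnected_of_finrank_HH0 k _ h0

include hf hinst in
/-- the data on a smooth plane curve of degree `≥ 4` needed for `no_double_cover` -/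
theorem plane_data (hd : 4 ≤ d)
    [IsProper ((LefPen.hypIdeal f).subscheme ↘ (Spec (CommRingCat.of k)))]
    [Smooth ((LefPen.hypIdeal f).subscheme ↘ (Spec (CommRingCat.of k)))]
    [GeometricallyConnected ((LefPen.hypIdeal f).subscheme ↘ (Spec (CommRingCat.of k)))]
    (hdim : topologicalKrullDim (LefPen.hypIdeal f).subscheme = 1) :
    3 ≤ Curv2.genus k (LefPen.hypIdeal f).subscheme ∧
    ∃ L : (LefPen.hypIdeal f).subscheme.Modules, PicF.IsInvertible L ∧
      Curv2.deg k (LefPen.hypIdeal f).subscheme L 1 =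
        2 * (Curv2.genus k (LefPen.hypIdeal f).subscheme : ℤ) - 2 ∧
      Curv2.genus k (LefPen.hypIdeal f).subscheme ≤
        Module.finrank k (Coh.HH (LefPen.hypIdeal f).subscheme L 0) ∧ MulSurj L := by
  haveI := OmField.isIntegral k (LefPen.hypIdeal f).subscheme
  have hg := plane_genus k d f hf hinst (by omega)
  have h0 := plane_h0_O k d f hf hinst (by omega)
  obtain ⟨hL0, hL1⟩ := plane_canonical k d f hf hinst (by omega)
  have hmul := plane_mulSurj k d f hf (d - 3) (by omega) hdim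
  have hg3 : 3 ≤ Curv2.genus k (LefPen.hypIdeal f).subscheme := by
    rw [hg]
    obtain ⟨e, rfl⟩ : ∃ e, d = e + 4 := ⟨d - 4, by omega⟩
    have h1 : e + 4 - 1 = e + 3 := by omega
    have h2 : e + 4 - 2 = e + 2 := by omega
    rw [h1, h2, Nat.le_div_iff_mul_le (by norm_num)]
    nlinarith
  refine ⟨hg3, _, TensH8.isInvertible_pullback _
    (Groth.Agent.Horrocks.isInvertible_OO 2 k ((d - 3 : ℕ) : ℤ)), ?_, ?_, hmul⟩
  · have hLinv := TensH8.isInvertible_pullback (LefPen.hypIdeal f).subschemeι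
      (Groth.Agent.Horrocks.isInvertible_OO 2 k ((d - 3 : ℕ) : ℤ))
    haveI := TensH8.isQuasicoherent_of_isInvertible hLinv
    haveI : (Coh.structureModule (LefPen.hypIdeal f).subscheme).IsQuasicoherent :=
      TensH8.isQuasicoherent_structureModule
    unfold Curv2.deg
    rw [CurveRR.euler_eq_sub k _ hdim.le _, CurveRR.euler_eq_sub k _ hdim.le
      (Coh.structureModule (LefPen.hypIdeal f).subscheme), hL0, hL1, h0]
    have hg' : Module.finrank k (Coh.HH (LefPen.hypIdeal f).subscheme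
        (Coh.structureModule (LefPen.hypIdeal f).subscheme) 1) = (d - 1) * (d - 2) / 2 := hg
    rw [hg', hg]
    push_cast
    ring
  · rw [hL0, hg]

include hf hinst in
/-- **statement of S14339** -/
theorem main14339 (hd : 4 ≤ d)
    [Smooth ((LefPen.hypIdeal f).subscheme ↘ (Spec (CommRingCat.of k)))]
    (φ : (LefPen.hypIdeal f).subscheme ⟶ CohB1.ProjSpace 1 k)
    (hφ : φ ≫ CohB1.ProjSpace.toSpec 1 k =
      (LefPen.hypIdeal f).subscheme ↘ (Spec (CommRingCat.of k))) [IsFinite φ] [Flat φ]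
    (hrk : ∀ y : ↥(CohB1.ProjSpace 1 k), Scheme.Hom.finrank φ y = 2) : False := by
  haveI := plane_isProper k d f hinst
  haveI := plane_geomConn k d f hf hinst (by omega)
  haveI := P1Iso.isIntegral_P1 k
  haveI : IsProper ((CohB1.ProjSpace 1 k) ↘ Spec (CommRingCat.of k)) := P1Iso.isProper_P1 k
  haveI : IsLocallyNoetherian (LefPen.hypIdeal f).subscheme :=
    LocallyOfFiniteType.isLocallyNoetherian
      ((LefPen.hypIdeal f).subscheme ↘ (Spec (CommRingCat.of k)))
  haveI : IsLocallyNoetherian (CohB1.ProjSpace 1 k) :=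
    LocallyOfFiniteType.isLocallyNoetherian ((CohB1.ProjSpace 1 k) ↘ Spec (CommRingCat.of k))
  haveI : Surjective φ := by
    rw [← Scheme.Hom.one_le_finrank_iff_surjective]
    intro y
    rw [hrk y]
    norm_num
  have hdim : topologicalKrullDim (LefPen.hypIdeal f).subscheme = 1 :=
    ((Groth.Agent.S4717.result φ).2 φ.surjective).trans (P1Iso.dim_P1 k)
  obtain ⟨hg3, L, hL, hLdeg, hLh0, hLmul⟩ := plane_data k d f hf hinst hd hdim
  obtain ⟨g, hgdef⟩ : ∃ g : ℕ, g = Curv2.genus k (LefPen.hypIdeal f).subscheme := ⟨_, rfl⟩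
  rw [← hgdef] at hg3 hLdeg hLh0
  have hE := Groth.Agent.Horrocks.isInvertible_OO 1 k ((g - 1 : ℕ) : ℤ)
  have hEdeg : Curv2.deg k (CohB1.ProjSpace 1 k) (Twist.twistProjSpace 1 k ((g - 1 : ℕ) : ℤ)) 1 =
      (g : ℤ) - 1 := by
    rw [deg_P1_twist, Nat.cast_sub (by omega)]
    norm_num
  have hEh0 : Module.finrank k (Coh.HH (CohB1.ProjSpace 1 k)
      (Twist.twistProjSpace 1 k ((g - 1 : ℕ) : ℤ)) 0) = g := by
    rw [Groth.Agent.ProjEuler.finrank_HH_zero k 1 (g - 1), Nat.choose_one_right]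
    omega
  have hEE : Module.finrank k (Coh.HH (CohB1.ProjSpace 1 k)
      (CohB1.tensorMod (Twist.twistProjSpace 1 k ((g - 1 : ℕ) : ℤ))
        (Twist.twistProjSpace 1 k ((g - 1 : ℕ) : ℤ))) 0) ≤ 2 * g - 1 := by
    obtain ⟨e⟩ := Groth.Agent.ProjTens.twist_add' 1 k ((g - 1 : ℕ) : ℤ) ((g - 1 : ℕ) : ℤ)
      ((2 * g - 2 : ℕ) : ℤ) (by omega)
    rw [(Groth.Agent.HypConn.hhEquivOfIso (A := k) e 0).finrank_eq,
      Groth.Agent.ProjEuler.finrank_HH_zero k 1 (2 * g - 2), Nat.choose_one_right]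
    omega
  subst hgdef
  exact no_double_cover k _ hdim hg3 L hL hLdeg hLh0 hLmul (CohB1.ProjSpace 1 k)
    (P1Iso.dim_P1 k).le φ hφ hrk _ hE hEdeg hEh0 hEE

end Plane

end PlaneMul
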