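import Mathlib
import Groth.Prelude
import Groth.Agent.Lib.PlaneMul5_helper9
import Groth.Agent.Lib.QuinticC_helper9

/-!
# A smooth plane quartic is not a double cover of a curve of genus zero (helper9)

Statement of S7843.
APPEND-ONLY once landed.
-/

set_option autoImplicit false
set_option linter.style.haveILetI false
universe u
open CategoryTheory CategoryTheory.Limits AlgebraicGeometry Opposite TopologicalSpace

namespace PlaneMul

open QcqsLoc QCohExtn CurveTens CurveNondeg

section Quartic

variable (k : Type u) [Field k] (f : LefPen.Form 2 k 4) (hf : f ≠ 0)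
  [inst : ((LefPen.hypIdeal f).subscheme).Over (Spec (CommRingCat.of k))]
  (hinst : (LefPen.hypIdeal f).subscheme ↘ (Spec (CommRingCat.of k)) =
    (LefPen.hypIdeal f).subschemeι ≫ CohB1.ProjSpace.toSpec 2 k)

include hf hinst in
/-- **statement of S7843** -/
theorem main7843 [Smooth ((LefPen.hypIdeal f).subscheme ↘ (Spec (CommRingCat.of k)))]
    (P : Scheme.{u}) [P.Over (Spec (CommRingCat.of k))]
    [IsProper (P ↘ (Spec (CommRingCat.of k)))] [Smooth (P ↘ (Spec (CommRingCat.of k)))]
    (hP : topologicalKrullDim P = 1)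
    (hP0 : (Module.finrank k (Coh.HH P (Coh.structureModule P) 0) : ℤ) -
      Module.finrank k (Coh.HH P (Coh.structureModule P) 1) = 1)
    (h : (LefPen.hypIdeal f).subscheme ⟶ P)
    (hh : h ≫ (P ↘ (Spec (CommRingCat.of k))) =
      (LefPen.hypIdeal f).subscheme ↘ (Spec (CommRingCat.of k))) [IsFinite h] [Flat h]
    (hrk : ∀ y : P, Scheme.Hom.finrank h y = 2) : False := by
  haveI := plane_isProper k 4 f hinst
  haveI := plane_geomConn k 4 f hf hinst (by omega)
  haveI hCint := OmField.isIntegral k (LefPen.hypIdeal f).subscheme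
  haveI : IsLocallyNoetherian (LefPen.hypIdeal f).subscheme :=
    LocallyOfFiniteType.isLocallyNoetherian
      ((LefPen.hypIdeal f).subscheme ↘ (Spec (CommRingCat.of k)))
  haveI : IsLocallyNoetherian P :=
    LocallyOfFiniteType.isLocallyNoetherian (P ↘ Spec (CommRingCat.of k))
  haveI : Surjective h := by
    rw [← Scheme.Hom.one_le_finrank_iff_surjective]
    intro y
    rw [hrk y]
    norm_num
  have hdim : topologicalKrullDim (LefPen.hypIdeal f).subscheme = 1 :=
    ((Groth.Agent.S4717.result h).2 h.surjective).trans hP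
  -- `P` is integral
  haveI : ConnectedSpace (LefPen.hypIdeal f).subscheme := inferInstance
  haveI : ConnectedSpace P := h.surjective.connectedSpace h.continuous
  haveI : IsIntegral P := ConnIrrH8.isIntegral_of_connected P (fun x => by
    haveI := VBCurve.hreg_of_smooth k P x
    exact Groth.Agent.RegularLib.isDomain _)
  haveI : CompactSpace P :=
    QuasiCompact.compactSpace_of_compactSpace (P ↘ Spec (CommRingCat.of k))
  haveI : QuasiSeparatedSpace P := inferInstance
  -- `h⁰(O_P) = 1`
  have hOC := plane_h0_O k 4 f hf hinst (by omega)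
  have hOP : Module.finrank k (Coh.HH P (Coh.structureModule P) 0) = 1 := by
    have hOinv : PicF.IsInvertible (Coh.structureModule P) :=
      TensH8.isInvertible_structureModule
    have hMinv := TensH8.isInvertible_pullback h hOinv
    haveI := ProperFinH9.finite_HH_of_proper k P _ (ProperFinH9.isCoh_of_isInvertible hOinv) 0
    haveI := ProperFinH9.finite_HH_of_proper k (LefPen.hypIdeal f).subscheme _
      (ProperFinH9.isCoh_of_isInvertible hMinv) 0
    have hinj := semiLin_injective k h hh (Coh.structureModule P) _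
      (pullTop h (Coh.structureModule P)) (fun r q => pullTop_smul h _ r q)
      (pullTop_injective h hOinv)
    have hle := LinearMap.finrank_le_finrank_of_injective hinj
    rw [(Groth.Agent.HypConn.hhEquivOfIso (A := k) (PBH8.pullbackUnitIso h) 0).finrank_eq] at hle
    have hle' : Module.finrank k (Coh.HH P (Coh.structureModule P) 0) ≤ 1 := hle.trans hOC.le
    omega
  have hgP : Curv2.genus k P = 0 := by
    unfold Curv2.genus
    rw [hOP] at hP0
    omega
  haveI := OmField.geometricallyConnected_of_finrank_HH0 k P hOP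
  -- the tangent bundle of `P`
  have hΩ := OmField.isInvertible_Omega k P hP
  have hΩdeg := OmField.deg_Omega k P hP
  rw [hgP] at hΩdeg
  obtain ⟨E, hE, ⟨e⟩⟩ := Groth.Agent.InvTensP.exists_inverse _ hΩ
  have hEdeg2 : Curv2.deg k P E 1 = 2 := by
    have h1 := CurveTens.deg_of_iso k P e 1
    rw [CurveTens.deg_tensorMod k P hP.le hΩ hE, CurveDeg.deg_structureModule, hΩdeg] at h1
    push_cast at h1
    linarith
  have hEE := TensH8.isInvertible_tensorMod hE hE
  have hEEdeg : Curv2.deg k P (CohB1.tensorMod E E) 1 = 4 := by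
    rw [CurveTens.deg_tensorMod k P hP.le hE hE, hEdeg2]
    norm_num
  have hEh0 := Groth.Agent.Lib.QuinticC.finrank_HH0_of_deg_ge k P hP.le hOP hE
    (by rw [hgP, hEdeg2]; norm_num)
  have hEEh0 := Groth.Agent.Lib.QuinticC.finrank_HH0_of_deg_ge k P hP.le hOP hEE
    (by rw [hgP, hEEdeg]; norm_num)
  rw [hgP, hEdeg2] at hEh0
  rw [hgP, hEEdeg] at hEEh0
  -- the plane quartic
  obtain ⟨hg3, L, hL, hLdeg, hLh0, hLmul⟩ := plane_data k 4 f hf hinst le_rfl hdim
  have hgC : Curv2.genus k (LefPen.hypIdeal f).subscheme = 3 := by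
    rw [plane_genus k 4 f hf hinst (by omega)]
  refine no_double_cover k _ hdim hg3 L hL hLdeg hLh0 hLmul P hP.le h hh hrk E hE ?_ ?_ ?_
  · rw [hgC, hEdeg2]
    norm_num
  · rw [hgC]
    have : (Module.finrank k (Coh.HH P E 0) : ℤ) = 3 := by rw [hEh0]; norm_num
    exact_mod_cast this
  · rw [hgC]
    have : (Module.finrank k (Coh.HH P (CohB1.tensorMod E E) 0) : ℤ) = 5 := by
      rw [hEEh0]; norm_num
    have h5 : Module.finrank k (Coh.HH P (CohB1.tensorMod E E) 0) = 5 := by exact_mod_cast this
    rw [h5]

end Quartic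

end PlaneMul
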