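import Mathlib
import Groth.Prelude.Def_W4bk4grassmannianPl

namespace Groth.Agent.Lib.Pluck

open Matrix Module

variable {K : Type*} [Field K] {d n : ℕ}

theorem exists_minor_ne_zero (A : Matrix (Fin n) (Fin d) K)
    (hA : LinearIndependent K A.transpose) :
    ∃ a : Fin d → Fin n, (A.submatrix a id).det ≠ 0 := by
  classical
  have hrank : A.rank = d := by
    have h1 : Aᵀ.rank = Fintype.card (Fin d) := LinearIndependent.rank_matrix (M := Aᵀ) hA
    rw [Matrix.rank_transpose, Fintype.card_fin] at h1
    exact h1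
  have hspan : Submodule.span K (Set.range A.row) = ⊤ := by
    apply Submodule.eq_top_of_finrank_eq
    rw [← Matrix.rank_eq_finrank_span_row, hrank, Module.finrank_fintype_fun_eq_card,
      Fintype.card_fin]
  obtain ⟨b, hbt, hbspan, hbli⟩ := exists_linearIndependent K (Set.range A.row)
  have hbfin : b.Finite := (Set.finite_range _).subset hbt
  haveI : Fintype b := hbfin.fintype
  let Bb : Basis b K (Fin d → K) := Basis.mk hbli (by rw [Subtype.range_coe, hbspan, hspan])
  have hcard : Fintype.card b = d := by
    rw [← Module.finrank_eq_card_basis Bb, Module.finrank_fintype_fun_eq_card, Fintype.card_fin]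
  let e : b ≃ Fin d := Fintype.equivFinOfCardEq hcard
  have hg : ∀ x : b, ∃ i : Fin n, A.row i = x.1 := fun x => hbt x.2
  choose g hg using hg
  refine ⟨fun t => g (e.symm t), ?_⟩
  have hli : LinearIndependent K (A.submatrix (fun t => g (e.symm t)) id).row := by
    have h2 : (A.submatrix (fun t => g (e.symm t)) id).row =
        (fun x : b => (x : Fin d → K)) ∘ e.symm := by
      funext t
      exact hg (e.symm t)
    rw [h2]
    exact hbli.comp _ e.symm.injective
  have hu := Matrix.linearIndependent_rows_iff_isUnit.mp hli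
  exact ((Matrix.isUnit_iff_isUnit_det _).mp hu).ne_zero

theorem minor_all (A A' : Matrix (Fin n) (Fin d) K) (c : K)
    (h : ∀ θ : W4bk4grassmannian.Idx d n,
      (A.submatrix θ.1 id).det = c * (A'.submatrix θ.1 id).det)
    (a : Fin d → Fin n) : (A.submatrix a id).det = c * (A'.submatrix a id).det := by
  classical
  by_cases hinj : Function.Injective a
  · have hmono : Monotone (a ∘ Tuple.sort a) := Tuple.monotone_sort a
    have hsm : StrictMono (a ∘ Tuple.sort a) :=
      hmono.strictMono_of_injective (hinj.comp (Tuple.sort a).injective)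
    have h1 := h ⟨a ∘ Tuple.sort a, hsm⟩
    have e1 : ∀ M : Matrix (Fin n) (Fin d) K, (M.submatrix (a ∘ Tuple.sort a) id) =
        (M.submatrix a id).submatrix (Tuple.sort a) id := by
      intro M; rfl
    simp only at h1
    rw [e1 A, e1 A', Matrix.det_permute, Matrix.det_permute] at h1
    have hsq : (((Equiv.Perm.sign (Tuple.sort a) : ℤˣ) : ℤ) : K) *
        (((Equiv.Perm.sign (Tuple.sort a) : ℤˣ) : ℤ) : K) = 1 := by
      rcases Int.units_eq_one_or (Equiv.Perm.sign (Tuple.sort a)) with hs | hs <;> simp [hs]
    linear_combination (((Equiv.Perm.sign (Tuple.sort a) : ℤˣ) : ℤ) : K) * h1 -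
      ((A.submatrix a id).det - c * (A'.submatrix a id).det) * hsq
  · rw [Function.Injective] at hinj
    push_neg at hinj
    obtain ⟨i, j, hij, hne⟩ := hinj
    have hz : ∀ M : Matrix (Fin n) (Fin d) K, (M.submatrix a id).det = 0 := by
      intro M
      refine Matrix.det_zero_of_row_eq hne ?_
      funext k
      show M (a i) k = M (a j) k
      rw [hij]
    rw [hz A, hz A', mul_zero]

theorem key (A : Matrix (Fin n) (Fin d) K) (a : Fin d → Fin n)
    (ha : (A.submatrix a id).det ≠ 0) (i : Fin n) (j : Fin d) :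
    (A * (A.submatrix a id)⁻¹) i j =
      (A.submatrix (Function.update a j i) id).det / (A.submatrix a id).det := by
  classical
  obtain ⟨G, hG⟩ : ∃ G, G = (A.submatrix a id)⁻¹ := ⟨_, rfl⟩
  obtain ⟨T, hT⟩ : ∃ T, T = A * G := ⟨_, rfl⟩
  have hunit : IsUnit (A.submatrix a id).det := isUnit_iff_ne_zero.mpr ha
  have h1 : T.submatrix a id = 1 := by
    have : T.submatrix a id = A.submatrix a id * G := by
      ext x y; simp [hT, Matrix.mul_apply]
    rw [this, hG, Matrix.mul_nonsing_inv _ hunit]
  have h2 : T.submatrix (Function.update a j i) id =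
      Matrix.updateRow (1 : Matrix (Fin d) (Fin d) K) j (T i) := by
    ext x y
    by_cases hx : x = j
    · rw [hx]; simp
    · rw [Matrix.updateRow_ne hx, ← h1]; simp [Function.update_of_ne hx]
  have h3 : (T.submatrix (Function.update a j i) id).det = T i j := by
    rw [h2]
    have h4 : T i = ∑ k, (T i k) • (1 : Matrix (Fin d) (Fin d) K) k := by
      funext y; simp [Finset.sum_apply, Matrix.one_apply]
    conv_lhs => rw [h4]
    rw [Matrix.det_updateRow_sum]; simp
  have h5 : T.submatrix (Function.update a j i) id =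
      A.submatrix (Function.update a j i) id * G := by
    ext x y; simp [hT, Matrix.mul_apply]
  rw [← hG, ← hT, ← h3, h5, Matrix.det_mul, hG, Matrix.det_nonsing_inv, Ring.inverse_eq_inv,
    div_eq_mul_inv]

theorem span_le (M : Matrix (Fin n) (Fin d) K) (G : Matrix (Fin d) (Fin d) K) :
    Submodule.span K (Set.range (M * G)ᵀ) ≤ Submodule.span K (Set.range Mᵀ) := by
  rw [Submodule.span_le]
  rintro _ ⟨k, rfl⟩
  have : (M * G)ᵀ k = ∑ l, G l k • Mᵀ l := by
    funext i; simp [Matrix.mul_apply, Finset.sum_apply, mul_comm]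
  rw [this]
  exact Submodule.sum_mem _ fun l _ => Submodule.smul_mem _ _ (Submodule.subset_span ⟨l, rfl⟩)

theorem span_eq (M : Matrix (Fin n) (Fin d) K) (N : Matrix (Fin d) (Fin d) K)
    (hN : IsUnit N.det) :
    Submodule.span K (Set.range (M * N⁻¹)ᵀ) = Submodule.span K (Set.range Mᵀ) := by
  refine le_antisymm (span_le M N⁻¹) ?_
  have := span_le (M * N⁻¹) N
  rwa [Matrix.mul_assoc, Matrix.nonsing_inv_mul _ hN, Matrix.mul_one] at this

theorem main (A A' : Matrix (Fin n) (Fin d) K) (hA : LinearIndependent K A.transpose)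
    (hA' : LinearIndependent K A'.transpose) (c : K) (hc : c ≠ 0)
    (h : ∀ θ : W4bk4grassmannian.Idx d n,
      (A.submatrix θ.1 id).det = c * (A'.submatrix θ.1 id).det) :
    Submodule.span K (Set.range A.transpose) = Submodule.span K (Set.range A'.transpose) := by
  classical
  obtain ⟨a, ha⟩ := exists_minor_ne_zero A hA
  have hall := minor_all A A' c h
  have ha' : (A'.submatrix a id).det ≠ 0 := by
    intro h0; apply ha; rw [hall a, h0, mul_zero]
  have hEq : A * (A.submatrix a id)⁻¹ = A' * (A'.submatrix a id)⁻¹ := by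
    ext i j
    rw [key A a ha, key A' a ha', hall (Function.update a j i), hall a, mul_div_mul_left _ _ hc]
  rw [← span_eq A _ (isUnit_iff_ne_zero.mpr ha), ← span_eq A' _ (isUnit_iff_ne_zero.mpr ha'), hEq]

end Groth.Agent.Lib.Pluck
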