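import Mathlib
import Groth.Prelude
import Groth.Agent.Lib.ProjBCn2_helper5
import Groth.Agent.Lib.ProjMap_helper3
import Groth.Agent.Lib.ProjSpace_helper3

/-!
# The translation action of `G_a^N` on `P^N` (helper4)

Graded ring homomorphisms between polynomial rings given by linear substitutions, and the
morphisms of projective spaces they induce: the action `P^N_R ⟶ P^N_K` (`R = K[t_1..t_N]`),
the fibre over `t = 0`, the fixed sections at infinity and the (dominant) orbit map of the origin.
APPEND-ONLY once landed.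
-/

set_option autoImplicit false
set_option linter.unusedVariables false
set_option linter.unusedSectionVars false
set_option linter.style.haveILetI false
set_option maxHeartbeats 1600000

universe u

open CategoryTheory CategoryTheory.Limits AlgebraicGeometry MvPolynomial CohB1

namespace Groth.Agent.Lib.PnConstH4

section Lin

variable {n m : ℕ} {A B : Type u} [CommRing A] [CommRing B]

/-- the graded ring homomorphism `A[x_0..x_n] → B[y_0..y_m]` given by a ring homomorphism
`A → B` and linear forms. -/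
noncomputable def linHom (h : A →+* B) (g : Fin (n + 1) → MvPolynomial (Fin (m + 1)) B)
    (hg : ∀ i, (g i).IsHomogeneous 1) : polyGrading n A →+*ᵍ polyGrading m B where
  toRingHom := MvPolynomial.eval₂Hom ((C : B →+* MvPolynomial (Fin (m + 1)) B).comp h) g
  map_mem := by
    intro d p hp
    have hp' : p.IsHomogeneous d := hp
    have h1 := hp'.eval₂ ((C : B →+* MvPolynomial (Fin (m + 1)) B).comp h) g
      (fun r => isHomogeneous_C _ _) hg
    rw [one_mul] at h1
    exact h1

theorem linHom_C (h : A →+* B) (g : Fin (n + 1) → MvPolynomial (Fin (m + 1)) B)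
    (hg : ∀ i, (g i).IsHomogeneous 1) (a : A) : linHom h g hg (C a) = C (h a) := by
  show MvPolynomial.eval₂Hom ((C : B →+* MvPolynomial (Fin (m + 1)) B).comp h) g (C a) = _
  rw [MvPolynomial.eval₂Hom_C]
  rfl

theorem linHom_X (h : A →+* B) (g : Fin (n + 1) → MvPolynomial (Fin (m + 1)) B)
    (hg : ∀ i, (g i).IsHomogeneous 1) (i : Fin (n + 1)) : linHom h g hg (X i) = g i := by
  show MvPolynomial.eval₂Hom ((C : B →+* MvPolynomial (Fin (m + 1)) B).comp h) g (X i) = _
  rw [MvPolynomial.eval₂Hom_X']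

theorem gradedHom_ext (φ ψ : polyGrading n A →+*ᵍ polyGrading m B)
    (hC : ∀ a, φ (C a) = ψ (C a)) (hX : ∀ i, φ (X i) = ψ (X i)) : φ = ψ := by
  have h : φ.toRingHom = ψ.toRingHom := MvPolynomial.ringHom_ext hC hX
  exact GradedRingHom.ext fun p => DFunLike.congr_fun h p

theorem linHom_irr (h : A →+* B) (g : Fin (n + 1) → MvPolynomial (Fin (m + 1)) B)
    (hg : ∀ i, (g i).IsHomogeneous 1)
    (hspan : ∀ j : Fin (m + 1),
      (X j : MvPolynomial (Fin (m + 1)) B) ∈ Ideal.span (Set.range g)) :
    HomogeneousIdeal.irrelevant (polyGrading m B) ≤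
      (HomogeneousIdeal.irrelevant (polyGrading n A)).map (linHom h g hg) := by
  show (HomogeneousIdeal.irrelevant (polyGrading m B)).toIdeal ≤
    ((HomogeneousIdeal.irrelevant (polyGrading n A)).map (linHom h g hg)).toIdeal
  refine (Groth.Agent.ProjGamma5.irrelevant_le_span m B).trans ?_
  rw [Ideal.span_le]
  rintro _ ⟨j, rfl⟩
  rw [HomogeneousIdeal.toIdeal_map]
  have hle : Ideal.span (Set.range g) ≤
      Ideal.map (linHom h g hg) (HomogeneousIdeal.irrelevant (polyGrading n A)).toIdeal := by
    rw [Ideal.span_le]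
    rintro _ ⟨i, rfl⟩
    have h1 : (X i : MvPolynomial (Fin (n + 1)) A) ∈
        (HomogeneousIdeal.irrelevant (polyGrading n A)).toIdeal :=
      HomogeneousIdeal.mem_irrelevant_of_mem _ one_pos (Groth.Agent.ProjGamma5.X_mem n A i)
    have h2 := Ideal.mem_map_of_mem (linHom h g hg) h1
    rw [linHom_X] at h2
    exact h2
  exact hle (hspan j)

/-- compatibility of `Proj.map` with the structure morphisms of projective spaces -/
theorem map_toSpec (h : A →+* B) (φ : polyGrading n A →+*ᵍ polyGrading m B)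
    (hφC : ∀ a, φ (C a) = C (h a))
    (hirr : HomogeneousIdeal.irrelevant (polyGrading m B) ≤
      (HomogeneousIdeal.irrelevant (polyGrading n A)).map φ) :
    (Proj.map φ hirr : ProjSpace m B ⟶ ProjSpace n A) ≫ ProjSpace.toSpec n A =
      ProjSpace.toSpec m B ≫ Spec.map (CommRingCat.ofHom h) := by
  show (Proj.map φ hirr ≫ Proj.toSpecZero (polyGrading n A) ≫
    Spec.map (CommRingCat.ofHom (algebraMap A (polyGrading n A 0))) :
      Proj (polyGrading m B) ⟶ Spec (CommRingCat.of A)) =
    (Proj.toSpecZero (polyGrading m B) ≫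
      Spec.map (CommRingCat.ofHom (algebraMap B (polyGrading m B 0)))) ≫
      Spec.map (CommRingCat.ofHom h)
  rw [← Category.assoc, Groth.Agent.Lib.ProjMap_helper3.map_toSpecZero, Category.assoc,
    Category.assoc, ← Spec.map_comp, ← Spec.map_comp, ← CommRingCat.ofHom_comp,
    ← CommRingCat.ofHom_comp]
  congr 3
  refine RingHom.ext (fun r => Subtype.ext ?_)
  show φ (algebraMap A (MvPolynomial _ A) r) = algebraMap B (MvPolynomial _ B) (h r)
  rw [MvPolynomial.algebraMap_eq, MvPolynomial.algebraMap_eq, hφC]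

end Lin

section Action

open Groth.Agent.ProjBCn

variable (N : ℕ) (K : Type u) [CommRing K]

/-- the coordinate ring of `G_a^N` -/
abbrev TR : Type u := MvPolynomial (Fin N) K

/-- the translation action on coordinates: `x_0 ↦ x_0`, `x_{j+1} ↦ x_{j+1} + t_j x_0`. -/
noncomputable def actFun : Fin (N + 1) → MvPolynomial (Fin (N + 1)) (TR N K) :=
  fun i => Fin.cases (X 0) (fun j => X j.succ + C (X j) * X 0) i

theorem actFun_zero : actFun N K 0 = X 0 := rfl

theorem actFun_succ (j : Fin N) : actFun N K j.succ = X j.succ + C (X j) * X 0 := by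
  simp [actFun]

theorem actFun_hom (i : Fin (N + 1)) : (actFun N K i).IsHomogeneous 1 := by
  refine Fin.cases ?_ (fun j => ?_) i
  · exact isHomogeneous_X _ _
  · rw [actFun_succ]
    exact (isHomogeneous_X _ _).add (isHomogeneous_C_mul_X _ _)

/-- the action as a graded ring homomorphism -/
noncomputable def act : polyGrading N K →+*ᵍ polyGrading N (TR N K) :=
  linHom (C : K →+* TR N K) (actFun N K) (actFun_hom N K)

theorem act_C (a : K) : act N K (C a) = C (C a) := linHom_C _ _ _ a

theorem act_X_zero : act N K (X 0) = X 0 := linHom_X _ _ _ 0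

theorem act_X_succ (j : Fin N) : act N K (X j.succ) = X j.succ + C (X j) * X 0 :=
  (linHom_X _ _ _ j.succ).trans (actFun_succ N K j)

theorem act_irr : HomogeneousIdeal.irrelevant (polyGrading N (TR N K)) ≤
    (HomogeneousIdeal.irrelevant (polyGrading N K)).map (act N K) := by
  refine linHom_irr _ _ _ (fun j => ?_)
  have h0 : (X 0 : MvPolynomial (Fin (N + 1)) (TR N K)) ∈ Ideal.span (Set.range (actFun N K)) :=
    Ideal.subset_span ⟨0, rfl⟩
  refine Fin.cases h0 (fun j' => ?_) j
  have h1 : actFun N K j'.succ ∈ Ideal.span (Set.range (actFun N K)) :=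
    Ideal.subset_span ⟨j'.succ, rfl⟩
  have h2 : (X j'.succ : MvPolynomial (Fin (N + 1)) (TR N K)) =
      actFun N K j'.succ - C (X j') * X 0 := by
    rw [actFun_succ]
    ring
  rw [h2]
  exact Ideal.sub_mem _ h1 (Ideal.mul_mem_left _ _ h0)

variable {K}
variable {B : Type u} [CommRing B]

/-- coordinates of the `j`-th coordinate point -/
noncomputable def ptFun (j : Fin (N + 1)) : Fin (N + 1) → MvPolynomial (Fin (0 + 1)) B :=
  fun i => if i = j then X 0 else 0

theorem ptFun_hom (j i : Fin (N + 1)) : (ptFun N j i : MvPolynomial (Fin (0 + 1)) B).IsHomogeneous 1 := by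
  unfold ptFun
  split_ifs
  · exact isHomogeneous_X _ _
  · exact isHomogeneous_zero _ _ _

variable (B)

/-- the `j`-th coordinate point as a graded ring homomorphism `B[x_0..x_N] → B[y_0]`. -/
noncomputable def pt (j : Fin (N + 1)) : polyGrading N B →+*ᵍ polyGrading 0 B :=
  linHom (RingHom.id B) (ptFun N j) (ptFun_hom N j)

theorem pt_C (j : Fin (N + 1)) (a : B) : pt N B j (C a) = C a := linHom_C _ _ _ a

theorem pt_X (j i : Fin (N + 1)) : pt N B j (X i) = if i = j then X 0 else 0 := linHom_X _ _ _ i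

theorem pt_irr (j : Fin (N + 1)) : HomogeneousIdeal.irrelevant (polyGrading 0 B) ≤
    (HomogeneousIdeal.irrelevant (polyGrading N B)).map (pt N B j) := by
  refine linHom_irr _ _ _ (fun k => ?_)
  have hk : k = 0 := @Subsingleton.elim (Fin 1) inferInstance k 0
  subst hk
  refine Ideal.subset_span ⟨j, ?_⟩
  simp [ptFun]

variable (K)

theorem polyMapH_C {R' A' : Type u} [CommRing R'] [CommRing A'] (n : ℕ) (φ : R' →+* A') (a : R') :
    polyMapH n φ (C a) = C (φ a) := by
  rw [polyMapH_apply, MvPolynomial.map_C]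

theorem polyMapH_X {R' A' : Type u} [CommRing R'] [CommRing A'] (n : ℕ) (φ : R' →+* A')
    (i : Fin (n + 1)) : polyMapH n φ (X i) = X i := by
  rw [polyMapH_apply, MvPolynomial.map_X]

/-- evaluation at `t = 0` after the action is the identity -/
theorem ev_comp_act :
    (polyMapH N (MvPolynomial.constantCoeff : TR N K →+* K)).comp (act N K) =
      GradedRingHom.id (polyGrading N K) := by
  refine gradedHom_ext _ _ (fun a => ?_) (fun i => ?_)
  · rw [GradedRingHom.comp_apply, act_C, polyMapH_C, MvPolynomial.constantCoeff_C]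
    rfl
  · refine Fin.cases ?_ (fun j => ?_) i
    · rw [GradedRingHom.comp_apply, act_X_zero, polyMapH_X]
      rfl
    · rw [GradedRingHom.comp_apply, act_X_succ, map_add, map_mul, polyMapH_X, polyMapH_X,
        polyMapH_C, MvPolynomial.constantCoeff_X, map_zero, zero_mul, add_zero]
      rfl

theorem ev_comp_incl :
    (polyMapH N (MvPolynomial.constantCoeff : TR N K →+* K)).comp
      (polyMapH N (C : K →+* TR N K)) = GradedRingHom.id (polyGrading N K) := by
  refine gradedHom_ext _ _ (fun a => ?_) (fun i => ?_)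
  · rw [GradedRingHom.comp_apply, polyMapH_C, polyMapH_C, MvPolynomial.constantCoeff_C]
    rfl
  · rw [GradedRingHom.comp_apply, polyMapH_X, polyMapH_X]
    rfl

/-- the coordinate points at infinity are fixed by the action -/
theorem pt_comp_act (j : Fin N) :
    (pt N (TR N K) j.succ).comp (act N K) =
      (pt N (TR N K) j.succ).comp (polyMapH N (C : K →+* TR N K)) := by
  have h0 : pt N (TR N K) j.succ (X 0) = 0 := by
    rw [pt_X, if_neg (Fin.succ_ne_zero j).symm]
  refine gradedHom_ext _ _ (fun a => ?_) (fun i => ?_)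
  · rw [GradedRingHom.comp_apply, GradedRingHom.comp_apply, act_C, polyMapH_C]
  · refine Fin.cases ?_ (fun i' => ?_) i
    · rw [GradedRingHom.comp_apply, GradedRingHom.comp_apply, act_X_zero, polyMapH_X]
    · rw [GradedRingHom.comp_apply, GradedRingHom.comp_apply, act_X_succ, polyMapH_X, map_add,
        map_mul, h0, mul_zero, add_zero]

/-- the origin before base change -/
theorem pt_comp_incl :
    (pt N (TR N K) 0).comp (polyMapH N (C : K →+* TR N K)) =
      (polyMapH 0 (C : K →+* TR N K)).comp (pt N K 0) := by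
  refine gradedHom_ext _ _ (fun a => ?_) (fun i => ?_)
  · rw [GradedRingHom.comp_apply, GradedRingHom.comp_apply, polyMapH_C, pt_C, pt_C, polyMapH_C]
  · rw [GradedRingHom.comp_apply, GradedRingHom.comp_apply, polyMapH_X, pt_X, pt_X]
    split_ifs
    · rw [polyMapH_X]
    · rw [map_zero]

end Action

section Inj

variable (N : ℕ) (K : Type u) [CommRing K]

/-- the orbit map of the origin, on coordinate rings -/
noncomputable def orb : polyGrading N K →+*ᵍ polyGrading 0 (TR N K) :=
  (pt N (TR N K) 0).comp (act N K)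

theorem orb_C (a : K) : orb N K (C a) = C (C a) := by
  show pt N (TR N K) 0 (act N K (C a)) = _
  rw [act_C, pt_C]

theorem orb_X_zero : orb N K (X 0) = X 0 := by
  show pt N (TR N K) 0 (act N K (X 0)) = _
  rw [act_X_zero, pt_X, if_pos rfl]

theorem orb_X_succ (j : Fin N) : orb N K (X j.succ) = C (X j) * X 0 := by
  show pt N (TR N K) 0 (act N K (X j.succ)) = _
  rw [act_X_succ, map_add, map_mul, pt_X, pt_X, pt_C, if_neg (Fin.succ_ne_zero j), if_pos rfl]
  exact zero_add _

theorem orb_injective [IsDomain K] : Function.Injective (orb N K) := by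
  obtain ⟨L, _, _, _⟩ : ∃ (L : Type u) (_ : Field L) (_ : Algebra (MvPolynomial (Fin (N + 1)) K) L),
      IsFractionRing (MvPolynomial (Fin (N + 1)) K) L :=
    ⟨FractionRing (MvPolynomial (Fin (N + 1)) K), inferInstance, inferInstance, inferInstance⟩
  have hinj : Function.Injective (algebraMap (MvPolynomial (Fin (N + 1)) K) L) :=
    IsFractionRing.injective _ L
  obtain ⟨a, ha⟩ : ∃ a : Fin (N + 1) → L,
      a = fun i => algebraMap (MvPolynomial (Fin (N + 1)) K) L (X i) := ⟨_, rfl⟩
  have ha0 : a 0 ≠ 0 := by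
    intro h
    rw [ha] at h
    have h2 := hinj (h.trans (map_zero _).symm)
    exact MvPolynomial.X_ne_zero _ h2
  obtain ⟨ρR, hρR⟩ : ∃ ρR : TR N K →+* L, ρR = MvPolynomial.eval₂Hom
      ((algebraMap (MvPolynomial (Fin (N + 1)) K) L).comp C) (fun j => a j.succ / a 0) :=
    ⟨_, rfl⟩
  obtain ⟨ρ, hρ⟩ : ∃ ρ : MvPolynomial (Fin (0 + 1)) (TR N K) →+* L,
      ρ = MvPolynomial.eval₂Hom ρR (fun _ => a 0) := ⟨_, rfl⟩
  have hρC : ∀ r, ρ (C r) = ρR r := fun r => by rw [hρ, MvPolynomial.eval₂Hom_C]
  have hρX : ∀ i, ρ (X i) = a 0 := fun i => by rw [hρ, MvPolynomial.eval₂Hom_X']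
  have hρRC : ∀ c, ρR (C c) = algebraMap (MvPolynomial (Fin (N + 1)) K) L (C c) := fun c => by
    rw [hρR, MvPolynomial.eval₂Hom_C]
    rfl
  have hρRX : ∀ j, ρR (X j) = a j.succ / a 0 := fun j => by
    rw [hρR, MvPolynomial.eval₂Hom_X']
  have hcomp : ρ.comp (orb N K).toRingHom = algebraMap (MvPolynomial (Fin (N + 1)) K) L := by
    refine MvPolynomial.ringHom_ext (fun c => ?_) (fun i => ?_)
    · show ρ (orb N K (C c)) = _
      rw [orb_C, hρC, hρRC]
    · refine Fin.cases ?_ (fun j => ?_) i
      · show ρ (orb N K (X 0)) = _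
        rw [orb_X_zero, hρX, ha]
      · show ρ (orb N K (X j.succ)) = _
        rw [orb_X_succ, map_mul, hρC, hρX, hρRX, div_mul_cancel₀ _ ha0, ha]
  have h1 : ∀ r, ρ (orb N K r) = algebraMap (MvPolynomial (Fin (N + 1)) K) L r :=
    fun r => DFunLike.congr_fun hcomp r
  intro p q hpq
  apply hinj
  rw [← h1, ← h1, hpq]

end Inj

section ProjMaps

open Groth.Agent.ProjBCn

variable (N : ℕ) (K : Type u) [CommRing K]

/-- the action `P^N × G_a^N ⟶ P^N` -/
noncomputable def α : ProjSpace N (TR N K) ⟶ ProjSpace N K :=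
  (Proj.map (act N K) (act_irr N K) :
    Proj (polyGrading N (TR N K)) ⟶ Proj (polyGrading N K))

/-- the coordinate points -/
noncomputable def sec (B : Type u) [CommRing B] (j : Fin (N + 1)) : ProjSpace 0 B ⟶ ProjSpace N B :=
  (Proj.map (pt N B j) (pt_irr N B j) : Proj (polyGrading 0 B) ⟶ Proj (polyGrading N B))

theorem α_toSpec : α N K ≫ ProjSpace.toSpec N K =
    ProjSpace.toSpec N (TR N K) ≫ Spec.map (CommRingCat.ofHom (C : K →+* TR N K)) :=
  map_toSpec C (act N K) (act_C N K) _

theorem sec_toSpec (B : Type u) [CommRing B] (j : Fin (N + 1)) :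
    sec N B j ≫ ProjSpace.toSpec N B = ProjSpace.toSpec 0 B := by
  have h := map_toSpec (RingHom.id B) (pt N B j) (pt_C N B j) (pt_irr N B j)
  have h2 : Spec.map (CommRingCat.ofHom (RingHom.id B)) = 𝟙 (Spec (CommRingCat.of B)) :=
    Spec.map_id _
  rw [h2, Category.comp_id] at h
  exact h

theorem map_eq_id {n : ℕ} {A : Type u} [CommRing A] (φ : polyGrading n A →+*ᵍ polyGrading n A)
    (hφ : φ = GradedRingHom.id (polyGrading n A))
    (hirr : HomogeneousIdeal.irrelevant (polyGrading n A) ≤
      (HomogeneousIdeal.irrelevant (polyGrading n A)).map φ) :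
    Proj.map φ hirr = 𝟙 (Proj (polyGrading n A)) := by
  subst hφ
  exact Proj.map_id

theorem j0_α : projMapH N (MvPolynomial.constantCoeff : TR N K →+* K) ≫ α N K =
    𝟙 (ProjSpace N K) := by
  show (Proj.map (polyMapH N (MvPolynomial.constantCoeff : TR N K →+* K)) (polyMapH_irr N _) ≫
    Proj.map (act N K) (act_irr N K) : Proj (polyGrading N K) ⟶ Proj (polyGrading N K)) = 𝟙 _
  rw [← Proj.map_comp]
  exact map_eq_id _ (ev_comp_act N K) _

theorem j0_pr : projMapH N (MvPolynomial.constantCoeff : TR N K →+* K) ≫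
    projMapH N (C : K →+* TR N K) = 𝟙 (ProjSpace N K) := by
  show (Proj.map (polyMapH N (MvPolynomial.constantCoeff : TR N K →+* K)) (polyMapH_irr N _) ≫
    Proj.map (polyMapH N (C : K →+* TR N K)) (polyMapH_irr N _) :
      Proj (polyGrading N K) ⟶ Proj (polyGrading N K)) = 𝟙 _
  rw [← Proj.map_comp]
  exact map_eq_id _ (ev_comp_incl N K) _

theorem sec_α (j : Fin N) : sec N (TR N K) j.succ ≫ α N K =
    sec N (TR N K) j.succ ≫ projMapH N (C : K →+* TR N K) := by
  show (Proj.map (pt N (TR N K) j.succ) (pt_irr N _ _) ≫ Proj.map (act N K) (act_irr N K) :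
      Proj (polyGrading 0 (TR N K)) ⟶ Proj (polyGrading N K)) =
    Proj.map (pt N (TR N K) j.succ) (pt_irr N _ _) ≫
      Proj.map (polyMapH N (C : K →+* TR N K)) (polyMapH_irr N _)
  rw [← Proj.map_comp, ← Proj.map_comp]
  exact Groth.Agent.QCCons.projMap_congr (pt_comp_act N K j) _ _

theorem sec_pr : sec N (TR N K) 0 ≫ projMapH N (C : K →+* TR N K) =
    projMapH 0 (C : K →+* TR N K) ≫ sec N K 0 := by
  show (Proj.map (pt N (TR N K) 0) (pt_irr N _ _) ≫
      Proj.map (polyMapH N (C : K →+* TR N K)) (polyMapH_irr N _) :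
      Proj (polyGrading 0 (TR N K)) ⟶ Proj (polyGrading N K)) =
    Proj.map (polyMapH 0 (C : K →+* TR N K)) (polyMapH_irr 0 _) ≫
      Proj.map (pt N K 0) (pt_irr N _ _)
  rw [← Proj.map_comp, ← Proj.map_comp]
  exact Groth.Agent.QCCons.projMap_congr (pt_comp_incl N K) _ _

theorem isDominant_orbit [IsDomain K] : IsDominant (sec N (TR N K) 0 ≫ α N K) := by
  have h : (sec N (TR N K) 0 ≫ α N K : ProjSpace 0 (TR N K) ⟶ ProjSpace N K) =
      (Proj.map (orb N K) (HomogeneousIdeal.irrelevant_le_map_comp (act_irr N K) (pt_irr N _ 0)) :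
        Proj (polyGrading 0 (TR N K)) ⟶ Proj (polyGrading N K)) :=
    (Proj.map_comp (act N K) (pt N (TR N K) 0) (act_irr N K) (pt_irr N _ 0)).symm
  rw [h]
  refine Groth.Agent.Lib.ProjMap_helper3.map_isDominant _ _ (orb N K) _ (fun a ha => ?_)
  have h0 : a = 0 := orb_injective N K (ha.trans (map_zero _).symm)
  rw [h0]
  exact IsNilpotent.zero

end ProjMaps

end Groth.Agent.Lib.PnConstH4
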