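import Mathlib
import Groth.Prelude

/-!
# Common zeros of few forms in projective space over a field (helper5).
APPEND-ONLY once landed.

`m + 1 ≤ n` homogeneous polynomials of positive degree in `n + 1` variables over a field have a
common zero in `Proj`, by Krull's height theorem.
-/

set_option autoImplicit false
universe u
open MvPolynomial

noncomputable section

namespace Groth.Agent.PnConst

variable (n : ℕ) (k : Type u) [Field k]

/-- the `k`-algebra endomorphism killing the first `i` variables -/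
def kill (i : ℕ) : MvPolynomial (Fin (n + 1)) k →ₐ[k] MvPolynomial (Fin (n + 1)) k :=
  aeval (fun j : Fin (n + 1) => if (j : ℕ) < i then 0 else X j)

theorem kill_X (i : ℕ) (j : Fin (n + 1)) :
    kill n k i (X j) = if (j : ℕ) < i then 0 else X j := by
  unfold kill
  rw [aeval_X]

theorem kill_comp {i i' : ℕ} (h : i ≤ i') : (kill n k i').comp (kill n k i) = kill n k i' := by
  apply MvPolynomial.algHom_ext
  intro j
  rw [AlgHom.comp_apply, kill_X, kill_X]
  by_cases hj : (j : ℕ) < i
  · rw [if_pos hj, if_pos (lt_of_lt_of_le hj h), map_zero]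
  · rw [if_neg hj, kill_X]

/-- the prime ideal `(X_0, …, X_{i-1})` -/
def PP (i : ℕ) : Ideal (MvPolynomial (Fin (n + 1)) k) := RingHom.ker (kill n k i).toRingHom

instance (i : ℕ) : (PP n k i).IsPrime := RingHom.ker_isPrime _

theorem PP_mono {i i' : ℕ} (h : i ≤ i') : PP n k i ≤ PP n k i' := by
  intro f hf
  have h1 : kill n k i f = 0 := hf
  show kill n k i' f = 0
  rw [← kill_comp n k h, AlgHom.comp_apply, h1, map_zero]

theorem PP_lt {i : ℕ} (hi : i < n + 1) : PP n k i < PP n k (i + 1) := by
  refine lt_of_le_of_ne (PP_mono n k (Nat.le_succ i)) ?_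
  intro h
  have h1 : (X ⟨i, hi⟩ : MvPolynomial (Fin (n + 1)) k) ∈ PP n k (i + 1) := by
    show kill n k (i + 1) (X ⟨i, hi⟩) = 0
    rw [kill_X, if_pos (Nat.lt_succ_self i)]
  rw [← h] at h1
  have h2 : kill n k i (X ⟨i, hi⟩) = 0 := h1
  rw [kill_X, if_neg (lt_irrefl i)] at h2
  exact X_ne_zero _ h2

theorem le_height_PP (i : ℕ) (hi : i ≤ n + 1) : (i : ℕ∞) ≤ (PP n k i).height := by
  induction i with
  | zero => simp
  | succ i ih =>
    have h1 := ih (Nat.le_of_succ_le hi)
    have h2 := Ideal.height_add_one_le_of_lt_of_isPrime (PP_lt n k (Nat.lt_of_succ_le hi))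
    push_cast
    exact le_trans (by gcongr) h2

theorem PP_top_le (P : Ideal (MvPolynomial (Fin (n + 1)) k)) (hP : ∀ j, X j ∈ P) :
    PP n k (n + 1) ≤ P := by
  intro f hf
  have h1 : kill n k (n + 1) f = 0 := hf
  have h2 : kill n k (n + 1) = (Algebra.ofId k _).comp (aeval (fun _ : Fin (n + 1) => (0 : k))) := by
    apply MvPolynomial.algHom_ext
    intro j
    rw [kill_X, if_pos j.isLt, AlgHom.comp_apply, aeval_X, map_zero]
  rw [h2, AlgHom.comp_apply] at h1
  have h3 : aeval (fun _ : Fin (n + 1) => (0 : k)) f = 0 := by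
    have : Function.Injective (Algebra.ofId k (MvPolynomial (Fin (n + 1)) k)) :=
      (algebraMap k (MvPolynomial (Fin (n + 1)) k)).injective
    exact this (by rw [h1, map_zero])
  have h4 : f ∈ Ideal.span (Set.range (X : Fin (n + 1) → MvPolynomial (Fin (n + 1)) k)) := by
    have h5 := (MvPolynomial.mem_pow_idealOfVars_iff' (σ := Fin (n + 1)) (R := k) 1 f).mpr (by
      intro x hx
      have hx0 : x = 0 := by
        have : x.degree = 0 := by omega
        exact (Finsupp.degree_eq_zero_iff x).mp this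
      rw [hx0]
      have := h3
      rw [aeval_zero'] at this
      rw [← MvPolynomial.constantCoeff_eq]
      exact this)
    rw [pow_one] at h5
    exact h5
  exact (Ideal.span_le.mpr (by rintro _ ⟨j, rfl⟩; exact hP j)) h4

end Groth.Agent.PnConst

namespace Groth.Agent.PnConst

variable (n : ℕ) (k : Type u) [Field k]

theorem mem_PP_top_of_homogeneous {d : ℕ} (hd : 0 < d) {F : MvPolynomial (Fin (n + 1)) k}
    (hF : F ∈ CohB1.polyGrading n k d) : F ∈ PP n k (n + 1) := by
  show kill n k (n + 1) F = 0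
  have h2 : kill n k (n + 1) = (Algebra.ofId k _).comp (aeval (fun _ : Fin (n + 1) => (0 : k))) := by
    apply MvPolynomial.algHom_ext
    intro j
    rw [kill_X, if_pos j.isLt, AlgHom.comp_apply, aeval_X, map_zero]
  rw [h2, AlgHom.comp_apply, aeval_zero', MvPolynomial.constantCoeff_eq]
  have hF' : F.IsHomogeneous d := (mem_homogeneousSubmodule _ _).mp hF
  rw [hF'.coeff_eq_zero (by simp; omega)]
  simp

/-- `m + 1 ≤ n` forms of positive degree in `n + 1` variables over a field have a common zero. -/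
theorem exists_common_zero {m : ℕ} (hmn : m < n) {d : ℕ} (hd : 0 < d)
    (F : Fin (m + 1) → MvPolynomial (Fin (n + 1)) k) (hF : ∀ j, F j ∈ CohB1.polyGrading n k d) :
    ∃ x : ProjectiveSpectrum (CohB1.polyGrading n k), ∀ j, F j ∈ x.asHomogeneousIdeal := by
  classical
  let s : Finset (MvPolynomial (Fin (n + 1)) k) := Finset.univ.image F
  have hI : Ideal.span (s : Set (MvPolynomial (Fin (n + 1)) k)) ≤ PP n k (n + 1) := by
    rw [Ideal.span_le]
    intro f hf
    obtain ⟨j, -, rfl⟩ := Finset.mem_image.mp hf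
    exact mem_PP_top_of_homogeneous n k hd (hF j)
  obtain ⟨P, hP, -⟩ := Ideal.exists_minimalPrimes_le hI
  haveI : P.IsPrime := hP.1.1
  have h1 : P.height ≤ s.card := Ideal.height_le_card_of_mem_minimalPrimes_span_finset hP
  have h2 : s.card ≤ m + 1 := by
    refine le_trans Finset.card_image_le ?_
    simp
  have h3 : ∃ j, (X j : MvPolynomial (Fin (n + 1)) k) ∉ P := by
    by_contra hc
    push Not at hc
    have h4 := Ideal.height_mono (PP_top_le n k P hc)
    have h5 := le_height_PP n k (n + 1) le_rfl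
    have h6 : ((n + 1 : ℕ) : ℕ∞) ≤ ((m + 1 : ℕ) : ℕ∞) :=
      le_trans h5 (le_trans h4 (le_trans h1 (by exact_mod_cast h2)))
    have h7 : n + 1 ≤ m + 1 := by exact_mod_cast h6
    omega
  obtain ⟨j, hj⟩ := h3
  have hFP : ∀ j, F j ∈ P := fun j => hP.1.2 (Ideal.subset_span (Finset.mem_image.mpr ⟨j, Finset.mem_univ _, rfl⟩))
  refine ⟨⟨P.homogeneousCore (CohB1.polyGrading n k), Ideal.IsPrime.homogeneousCore ‹_›, ?_⟩, ?_⟩
  · intro hle
    have h4 : (X j : MvPolynomial (Fin (n + 1)) k) ∈ HomogeneousIdeal.irrelevant (CohB1.polyGrading n k) :=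
      HomogeneousIdeal.mem_irrelevant_of_mem _ one_pos (isHomogeneous_X k j)
    exact hj (Ideal.toIdeal_homogeneousCore_le _ _ (hle h4))
  · intro j
    exact Ideal.mem_homogeneousCore_of_homogeneous_of_mem ⟨d, hF j⟩ (hFP j)

end Groth.Agent.PnConst
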