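import Mathlib
import Groth.Prelude
import Groth.Agent.Lib.RigidGen_helper4

/-!
# Morphisms to separated group schemes are invariant under connected actions with a fixed
point (helper4)

Abstract form of the rigidity argument: if `α, pr : X ⟶ Q` are two morphisms from a proper flat
family `g : X ⟶ T` with connected base and geometrically connected and reduced fibres, which
agree on the fibre over `t₀` (identified with `Q`) and along a section-like morphism `s₁`, then
`α ≫ f = pr ≫ f` for every morphism `f` from `Q` to a separated group scheme.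
APPEND-ONLY once landed.
-/

set_option autoImplicit false
set_option linter.unusedVariables false
set_option linter.unusedSectionVars false
set_option linter.style.haveILetI false
set_option maxHeartbeats 1600000

universe u

open CategoryTheory CategoryTheory.Limits MonoidalCategory CartesianMonoidalCategory MonObj
  AlgebraicGeometry TopologicalSpace

namespace Groth.Agent.Lib.PnConstH4

open Groth.Agent.Lib.RigidGenH4

variable {S : Scheme.{u}}

theorem one_left (A : Over S) [MonObj A] (Y : Over S) :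
    (1 : Y ⟶ A).left = Y.hom ≫ η[A].left := by
  rw [Hom.one_def, Over.comp_left, Over.toUnit_left]

theorem comp_eq_of_action (A : Over S) [GrpObj A] [IsSeparated A.hom]
    {Q X T Z : Scheme.{u}} (qS : Q ⟶ S) (hqS : (Set.range qS.base).Subsingleton)
    (g : X ⟶ T) [IsProper g] [Flat g] [LocallyOfFinitePresentation g]
    [GeometricallyConnected g] [GeometricallyReduced g] [PreconnectedSpace T]
    (p : T ⟶ S) (α pr : X ⟶ Q) (hα : α ≫ qS = g ≫ p) (hpr : pr ≫ qS = g ≫ p)
    (j₀ : Q ⟶ X) (hj₀α : j₀ ≫ α = 𝟙 Q) (hj₀pr : j₀ ≫ pr = 𝟙 Q)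
    (t₀ : T) (hfib : g.base ⁻¹' {t₀} ⊆ Set.range j₀.base)
    (s₁ : Z ⟶ X) (hs₁ : s₁ ≫ α = s₁ ≫ pr) [Epi (s₁ ≫ g)]
    (f : Q ⟶ A.left) (hf : f ≫ A.hom = qS) :
    α ≫ f = pr ≫ f := by
  let XS : Over S := Over.mk (g ≫ p)
  let QS : Over S := Over.mk qS
  let ZS : Over S := Over.mk (s₁ ≫ g ≫ p)
  let α' : XS ⟶ QS := Over.homMk α hα
  let pr' : XS ⟶ QS := Over.homMk pr hpr
  let f' : QS ⟶ A := Over.homMk f hf
  have hj₀w : j₀ ≫ g ≫ p = qS := by
    rw [← hpr, ← Category.assoc, hj₀pr, Category.id_comp]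
  let j₀' : QS ⟶ XS := Over.homMk j₀ hj₀w
  let s₁' : ZS ⟶ XS := Over.homMk s₁ rfl
  obtain ⟨F, hF⟩ : ∃ F : XS ⟶ A, F = (α' ≫ f') * (pr' ≫ f')⁻¹ := ⟨_, rfl⟩
  have hj₀F : j₀' ≫ F = 1 := by
    have h1 : j₀' ≫ α' = 𝟙 QS := Over.OverMorphism.ext hj₀α
    have h2 : j₀' ≫ pr' = 𝟙 QS := Over.OverMorphism.ext hj₀pr
    rw [hF, MonObj.comp_mul, GrpObj.comp_inv, ← Category.assoc, ← Category.assoc, h1, h2,
      Category.id_comp, mul_inv_cancel]
  have hs₁F : s₁' ≫ F = 1 := by
    have h1 : s₁' ≫ α' = s₁' ≫ pr' := Over.OverMorphism.ext hs₁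
    rw [hF, MonObj.comp_mul, GrpObj.comp_inv, ← Category.assoc, ← Category.assoc, h1,
      mul_inv_cancel]
  have hFq : F.left ≫ A.hom = g ≫ p := Over.w F
  have hj : j₀ ≫ F.left = qS ≫ η[A].left := by
    have h := congrArg (fun m => m.left) hj₀F
    simp only [Over.comp_left] at h
    rw [one_left] at h
    exact h
  have hs : s₁ ≫ F.left = (s₁ ≫ g ≫ p) ≫ η[A].left := by
    have h := congrArg (fun m => m.left) hs₁F
    simp only [Over.comp_left] at h
    rw [one_left] at h
    exact h
  have hmem : t₀ ∈ locus g F.left := by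
    refine mem_locus_of_subsingleton g F.left t₀ ?_
    rintro _ ⟨x, hx, rfl⟩ _ ⟨y, hy, rfl⟩
    obtain ⟨x', rfl⟩ := hfib hx
    obtain ⟨y', rfl⟩ := hfib hy
    have hx2 : F.left.base (j₀.base x') = η[A].left.base (qS.base x') :=
      congrArg (fun m : Q ⟶ A.left => m.base x') hj
    have hy2 : F.left.base (j₀.base y') = η[A].left.base (qS.base y') :=
      congrArg (fun m : Q ⟶ A.left => m.base y') hj
    rw [hx2, hy2, hqS ⟨x', rfl⟩ ⟨y', rfl⟩]
  have huniv : ∀ t, t ∈ locus g F.left := by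
    have hopen := isOpen_locus g F.left
    have hclosed := isClosed_locus g F.left p A.hom hFq
    have h := IsClopen.eq_univ ⟨hclosed, hopen⟩ ⟨t₀, hmem⟩
    intro t
    rw [h]
    trivial
  obtain ⟨k, hk⟩ := exists_factor_of_univ g F.left huniv
  have hk1 : k = p ≫ η[A].left := by
    rw [← cancel_epi (s₁ ≫ g)]
    rw [Category.assoc, ← hk, hs]
    simp only [Category.assoc]
  have hF1 : F = 1 := by
    apply Over.OverMorphism.ext
    rw [hk, hk1, one_left]
    exact (Category.assoc _ _ _).symm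
  have h3 : α' ≫ f' = pr' ≫ f' := by
    rw [hF] at hF1
    exact mul_inv_eq_one.mp hF1
  exact congrArg (fun m => m.left) h3

end Groth.Agent.Lib.PnConstH4
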