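import Mathlib
import Groth.Prelude
import Groth.Agent.Lib.PicPn8_helper5
import Groth.Agent.Lib.ProjCech3_helper9
import Groth.Agent.Lib.PnConst1_helper5

/-!
# Morphisms `P^n_k ⟶ P^m_k`, `m < n`: some standard chart has full preimage (helper5).
APPEND-ONLY once landed.
-/

set_option autoImplicit false
universe u
open MvPolynomial HomogeneousLocalization CategoryTheory AlgebraicGeometry TopologicalSpace Opposite

noncomputable section

namespace Groth.Agent.PnConst

open QcqsLoc QCohExtn GenLocH8 TensH8 Groth.Agent.ProjTw Groth.Agent.PicPn Groth.Agent.ProjUPU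

section A
variable (n : ℕ) (R : Type u) [CommRing R] [IsDomain R]

/-- A generating section of `O(d)` has invertible value at each point. -/
theorem isUnit_vT_of_isGen {d : ℤ} {W : (Proj (CohB1.polyGrading n R)).Opens}
    {s : Γ(Twist.twist (CohB1.polyGrading n R) d, W)}
    (hs : IsGen (Twist.twist (CohB1.polyGrading n R) d) W s) (y : W) :
    IsUnit (vT n R s y) := by
  obtain ⟨k, hk⟩ := Groth.Agent.VAmpPn.hcovX n y.1
  have hyV : y.1 ∈ W ⊓ U n R k := ⟨y.2, hk⟩
  obtain ⟨b, hb⟩ := (hs.res (inf_le_left : W ⊓ U n R k ≤ W)).exists_coef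
    (rF (Twist.twist (CohB1.polyGrading n R) d) (inf_le_right : W ⊓ U n R k ≤ U n R k)
      (gen n R k d))
  have h1 := congrArg (fun t => vT n R t ⟨y.1, hyV⟩) hb
  simp only at h1
  rw [vT_smul, vT_rF, vT_rF, vT_gen] at h1
  have hu : IsUnit (mf y.1 (Finsupp.single k d.toNat) (Finsupp.single k (-d).toNat) (1 : R)
      (good_U n R k y.1 hk _)) := by
    refine IsUnit.of_mul_eq_one (mf y.1 (Finsupp.single k (-d).toNat) (Finsupp.single k d.toNat)
      (1 : R) (good_U n R k y.1 hk _)) ?_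
    rw [mf_mul, ← mf_one y.1]
    apply mf_eq_of
    · simp only [add_zero, zero_add]
      exact add_comm _ _
    · rw [mul_one]
  rw [h1] at hu
  exact isUnit_of_mul_isUnit_right hu

end A

section B
variable (k : Type u) [Field k] (n : ℕ)

theorem notMem_of_isUnit_mk {y : ProjectiveSpectrum (CohB1.polyGrading n k)}
    (a : MvPolynomial (Fin (n + 1)) k) (s : y.asHomogeneousIdeal.toIdeal.primeCompl)
    (h : IsUnit (Localization.mk a s : Twist.Loc (CohB1.polyGrading n k) y)) :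
    a ∉ y.asHomogeneousIdeal.toIdeal := by
  rw [Localization.mk_eq_mk'] at h
  exact (IsLocalization.AtPrime.isUnit_mk'_iff _ _ a s).mp h

/-- global sections of negative twists vanish (from helper9's Čech computation) -/
theorem eq_zero_of_neg (hn : 1 ≤ n) {d : ℤ} (hd : d < 0)
    (s : Γ(Twist.twist (CohB1.polyGrading n k) d, ⊤)) : s = 0 := by
  haveI := Groth.Agent.ProjCech.subsingleton_HH_twist (n := n) (R := k) d 0
    (fun h => absurd h.2 (not_le.mpr hd)) (fun h => by omega)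
  let E := Sheaf.H.equiv₀ (Coh.toAb (Twist.twist (CohB1.polyGrading n k) d)) Limits.isTerminalTop
  have h1 := Subsingleton.elim (E.symm (show Groth.Agent.ProjCech.Sec n k d ⊤ from s)) (E.symm 0)
  exact E.symm.injective h1

variable (m : ℕ)

/-- **For `m < n`, every morphism `P^n_k ⟶ P^m_k` maps into one standard chart.** -/
theorem exists_preimage_eq_top (hmn : m < n)
    (f : Proj (CohB1.polyGrading n k) ⟶ Proj (CohB1.polyGrading m k)) :
    ∃ j : Fin (m + 1), f ⁻¹ᵁ Proj.basicOpen (CohB1.polyGrading m k) (X j) = ⊤ := by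
  have hL : PicF.IsInvertible
      ((Scheme.Modules.pullback f).obj (Twist.twist (CohB1.polyGrading m k) 1)) :=
    isInvertible_pullback f
      (ProjTw.isInvertible_twist (CohB1.polyGrading m k) (Groth.Agent.VAmpPn.hcov m) 1)
  obtain ⟨d, ⟨θ⟩⟩ := exists_iso_twist n k hL
  -- the sections `θ(f^* Y_j)` of `O(d)`
  let t : Fin (m + 1) → Γ((Scheme.Modules.pullback f).obj (Twist.twist (CohB1.polyGrading m k) 1), ⊤) :=
    fun j => ProjUP.pullSec f (Twist.twist (CohB1.polyGrading m k) 1)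
      (sig (CohB1.polyGrading m k) (Groth.Agent.VAmpPn.hX m j))
  let s : Fin (m + 1) → Γ(Twist.twist (CohB1.polyGrading n k) d, ⊤) := fun j => ap θ.hom ⊤ (t j)
  have he : ∀ (j : Fin (m + 1)) (W : (Proj (CohB1.polyGrading n k)).Opens),
      ap θ.hom W (psec f (Twist.twist (CohB1.polyGrading m k) 1)
        (sig (CohB1.polyGrading m k) (Groth.Agent.VAmpPn.hX m j)) W) =
      rF (Twist.twist (CohB1.polyGrading n k) d) (le_top : W ≤ ⊤) (s j) := by
    intro j W
    unfold psec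
    rw [ap_rF]
  have key : ∀ y : Proj (CohB1.polyGrading n k), ∃ j, IsUnit (vT n k (s j) ⟨y, trivial⟩) := by
    intro y
    obtain ⟨j, hj⟩ := Groth.Agent.VAmpPn.hcovX m (f y)
    have g1 := isGen_psec (CohB1.polyGrading m k) f (Groth.Agent.VAmpPn.hcov m)
      (Groth.Agent.VAmpPn.hX m j)
      (le_refl (f ⁻¹ᵁ Proj.basicOpen (CohB1.polyGrading m k) (X j)))
    have g2 := isGen_of_iso θ g1
    rw [he] at g2
    have g3 := isUnit_vT_of_isGen n k g2 ⟨y, hj⟩
    rw [vT_rF] at g3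
    exact ⟨j, g3⟩
  have hn : 1 ≤ n := by omega
  -- `d < 0` is impossible
  have hd : 0 ≤ d := by
    by_contra hc
    push Not at hc
    obtain ⟨j, hj⟩ := key (eta n k)
    rw [eq_zero_of_neg k n hn hc (s j)] at hj
    have h0 : vT n k (0 : Γ(Twist.twist (CohB1.polyGrading n k) d, ⊤)) ⟨eta n k, trivial⟩ = 0 := rfl
    rw [h0] at hj
    exact not_isUnit_zero hj
  obtain ⟨D, rfl⟩ := Int.eq_ofNat_of_zero_le hd
  have hF : ∀ j, ∃ F : CohB1.polyGrading n k D, Groth.Agent.ProjCech.glob D F =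
      (show Groth.Agent.ProjCech.Sec n k (D : ℤ) ⊤ from s j) := fun j =>
    Groth.Agent.ProjCech.glob_surjective D _
  choose F hF using hF
  have hval : ∀ (j : Fin (m + 1)) (y : Proj (CohB1.polyGrading n k)),
      vT n k (s j) ⟨y, trivial⟩ = Localization.mk (F j).1
        ⟨Groth.Agent.ProjCech.mon n k 0, Groth.Agent.ProjCech.mon_zero_notMem y⟩ := by
    intro j y
    have h1 := congrArg (fun t : Groth.Agent.ProjCech.Sec n k (D : ℤ) ⊤ =>
      Groth.Agent.ProjCech.val t ⟨y, trivial⟩) (hF j)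
    exact h1.symm
  have key' : ∀ y : Proj (CohB1.polyGrading n k), ∃ j, (F j).1 ∉ y.asHomogeneousIdeal.toIdeal := by
    intro y
    obtain ⟨j, hj⟩ := key y
    rw [hval] at hj
    exact ⟨j, notMem_of_isUnit_mk k n _ _ hj⟩
  -- `D > 0` is impossible
  have hD : D = 0 := by
    by_contra hc
    obtain ⟨x, hx⟩ := exists_common_zero n k hmn (Nat.pos_of_ne_zero hc) (fun j => (F j).1)
      (fun j => (F j).2)
    obtain ⟨j, hj⟩ := key' x
    exact hj (hx j)
  subst hD
  obtain ⟨j, hj⟩ := key' (eta n k)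
  have hFj : (F j).1 ≠ 0 := fun h => hj (h ▸ Ideal.zero_mem _)
  have hC : (F j).1 = C (coeff 0 (F j).1) := by
    have h1 : (F j).1.IsHomogeneous 0 := (mem_homogeneousSubmodule _ _).mp (F j).2
    exact totalDegree_eq_zero_iff_eq_C.mp (Nat.le_zero.mp h1.totalDegree_le)
  have hc0 : coeff 0 (F j).1 ≠ 0 := by
    intro h
    rw [h, C_0] at hC
    exact hFj hC
  refine ⟨j, ?_⟩
  rw [eq_top_iff]
  intro y _
  obtain ⟨kk, hkk⟩ := Groth.Agent.VAmpPn.hcovX n y
  have e1 : rF (Twist.twist (CohB1.polyGrading n k) ((0 : ℕ) : ℤ)) (le_top : U n k kk ≤ ⊤) (s j) =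
      cst n k kk (coeff 0 (F j).1) • gen n k kk ((0 : ℕ) : ℤ) := by
    apply extT
    intro z
    rw [vT_rF, vT_smul, vO_cst, vT_gen, mf_mul]
    have h2 := hval j z.1
    rw [hC] at h2
    refine h2.trans ?_
    unfold mf
    rw [Localization.mk_eq_mk_iff, Localization.r_iff_exists]
    refine ⟨1, ?_⟩
    simp
    rw [Groth.Agent.ProjCech.mon_zero, one_mul]
  have g1 : IsGen (Twist.twist (CohB1.polyGrading n k) ((0 : ℕ) : ℤ)) (U n k kk)
      (rF (Twist.twist (CohB1.polyGrading n k) ((0 : ℕ) : ℤ)) (le_top : U n k kk ≤ ⊤) (s j)) := by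
    rw [e1]
    exact isGen_smul_of_isUnit (isGen_gen n k kk _) (isUnit_cst n k kk (Units.mk0 _ hc0))
  have g2 := isGen_of_iso θ.symm g1
  have e2 : ap θ.symm.hom (U n k kk)
      (rF (Twist.twist (CohB1.polyGrading n k) ((0 : ℕ) : ℤ)) (le_top : U n k kk ≤ ⊤) (s j)) =
      psec f (Twist.twist (CohB1.polyGrading m k) 1)
        (sig (CohB1.polyGrading m k) (Groth.Agent.VAmpPn.hX m j)) (U n k kk) := by
    rw [← he]
    exact ap_inv_hom θ _ _
  rw [e2] at g2
  exact mem_of_isGen (CohB1.polyGrading m k) f (Groth.Agent.VAmpPn.hcov m)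
    (Groth.Agent.VAmpPn.hX m j) g2 hkk

end B

section C

/-- A morphism from a scheme `X` with `Γ(X, O) = R` whose image lies in an affine open factors
through `X ⟶ Spec R`. -/
theorem exists_factor {X Y : Scheme.{u}} {R : CommRingCat.{u}} (p : X ⟶ Spec R) [IsIso p.appTop]
    (f : X ⟶ Y) (V : Y.Opens) (hV : IsAffineOpen V) (h : f ⁻¹ᵁ V = ⊤) :
    ∃ q : Spec R ⟶ Y, f = p ≫ q := by
  haveI : IsAffine V.toScheme := hV
  let g : X ⟶ V.toScheme := IsOpenImmersion.lift V.ι f (by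
    rw [Scheme.Opens.range_ι]
    rintro _ ⟨x, rfl⟩
    have hx : x ∈ f ⁻¹ᵁ V := by rw [h]; trivial
    exact hx)
  have hg : g ≫ V.ι = f := IsOpenImmersion.lift_fac _ _ _
  have h1 : g ≫ V.toScheme.isoSpec.hom = X.toSpecΓ ≫ Spec.map g.appTop := by
    rw [Scheme.isoSpec_hom]
    exact Scheme.toSpecΓ_naturality g
  have h2 : p ≫ (Spec R).toSpecΓ = X.toSpecΓ ≫ Spec.map p.appTop := Scheme.toSpecΓ_naturality p
  haveI : IsIso (Spec.map p.appTop) := inferInstance
  refine ⟨(Spec R).toSpecΓ ≫ inv (Spec.map p.appTop) ≫ Spec.map g.appTop ≫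
    V.toScheme.isoSpec.inv ≫ V.ι, ?_⟩
  have h3 : X.toSpecΓ = p ≫ (Spec R).toSpecΓ ≫ inv (Spec.map p.appTop) := by
    rw [← Category.assoc, h2, Category.assoc, IsIso.hom_inv_id, Category.comp_id]
  have h4 : g = X.toSpecΓ ≫ Spec.map g.appTop ≫ V.toScheme.isoSpec.inv := by
    rw [← Category.assoc, ← h1, Category.assoc, Iso.hom_inv_id, Category.comp_id]
  calc f = g ≫ V.ι := hg.symm
    _ = (X.toSpecΓ ≫ Spec.map g.appTop ≫ V.toScheme.isoSpec.inv) ≫ V.ι := by rw [← h4]
    _ = ((p ≫ (Spec R).toSpecΓ ≫ inv (Spec.map p.appTop)) ≫ Spec.map g.appTop ≫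
        V.toScheme.isoSpec.inv) ≫ V.ι := by rw [← h3]
    _ = _ := by simp only [Category.assoc]

end C

end Groth.Agent.PnConst
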