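import Mathlib
import Groth.Prelude
import Groth.Agent.Lib.PnConst1_helper4
import Groth.Agent.Lib.PnConst2_helper4
import Groth.Agent.Lib.ProjSmooth_helper4
import Groth.Agent.Lib.ProjSpaceProper_helper4
import Groth.Agent.Lib.Horrocks6_helper9

/-!
# Morphisms from projective spaces to separated group schemes are constant (helper4)
APPEND-ONLY once landed.
-/

set_option autoImplicit false
set_option linter.unusedVariables false
set_option linter.unusedSectionVars false
set_option linter.style.haveILetI false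
set_option maxHeartbeats 1600000

universe u

open CategoryTheory CategoryTheory.Limits MonoidalCategory CartesianMonoidalCategory MonObj
  AlgebraicGeometry TopologicalSpace MvPolynomial CohB1

namespace Groth.Agent.Lib.PnConstH4

open Groth.Agent.ProjBCn

/-- `P^N_R ⟶ Spec R` is geometrically integral. -/
theorem geometricallyIntegral_toSpec (N : ℕ) (R : Type u) [CommRing R] :
    GeometricallyIntegral (ProjSpace.toSpec N R) := by
  refine ⟨?_⟩
  rw [geometrically_iff_of_commRing]
  intro L _ _ Y fst snd hY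
  have h := isPullback_projMapH N (algebraMap R L)
  haveI := Groth.Agent.Horrocks.isIntegral_projSpace N L
  exact IsIntegral.of_isIso (h.isoIsPullback _ _ hY).hom

variable {S : Scheme.{u}}

theorem const_of_projSpace_aux (A : Over S) [GrpObj A] [IsSeparated A.hom] (K : Type u) [Field K]
    (σ : Spec (CommRingCat.of K) ⟶ S) (N : ℕ) (j : Fin N) (f : ProjSpace N K ⟶ A.left)
    (hf : f ≫ A.hom = ProjSpace.toSpec N K ≫ σ) :
    ∃ c : Spec (CommRingCat.of K) ⟶ A.left, f = ProjSpace.toSpec N K ≫ c := by
  haveI hiso0 := Groth.Agent.Lib.ProjSpace_helper3.toSpec_zero_isIso K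
  haveI hisoR := Groth.Agent.Lib.ProjSpace_helper3.toSpec_zero_isIso (TR N K)
  haveI : IsProper (ProjSpace.toSpec N (TR N K)) :=
    Groth.Agent.Lib.ProjSpaceProperH4.isProper_toSpec N (TR N K)
  haveI : Smooth (ProjSpace.toSpec N (TR N K)) :=
    Groth.Agent.Lib.ProjSmoothH4.smooth_toSpec N (TR N K)
  haveI : GeometricallyIntegral (ProjSpace.toSpec N (TR N K)) :=
    geometricallyIntegral_toSpec N (TR N K)
  haveI : Flat (ProjSpace.toSpec N (TR N K)) := inferInstance
  haveI : LocallyOfFinitePresentation (ProjSpace.toSpec N (TR N K)) := inferInstance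
  haveI : GeometricallyReduced (ProjSpace.toSpec N (TR N K)) := inferInstance
  haveI : GeometricallyIrreducible (ProjSpace.toSpec N (TR N K)) := inferInstance
  haveI : GeometricallyConnected (ProjSpace.toSpec N (TR N K)) :=
    ⟨fun K' _ y Z fst snd h => by
      haveI : IrreducibleSpace Z :=
        GeometricallyIrreducible.geometrically_irreducibleSpace y fst snd h
      infer_instance⟩
  haveI : IsDomain (CommRingCat.of (TR N K)) := inferInstanceAs (IsDomain (TR N K))
  haveI : PreconnectedSpace ↥(Spec (CommRingCat.of (TR N K))) := inferInstance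
  obtain ⟨pt⟩ : Nonempty ↥(Spec (CommRingCat.of K)) := inferInstance
  -- the data
  have hqS : (Set.range (ProjSpace.toSpec N K ≫ σ).base).Subsingleton := by
    rintro _ ⟨x, rfl⟩ _ ⟨y, rfl⟩
    show σ.base ((ProjSpace.toSpec N K).base x) = σ.base ((ProjSpace.toSpec N K).base y)
    rw [Subsingleton.elim ((ProjSpace.toSpec N K).base x) ((ProjSpace.toSpec N K).base y)]
  have hα : α N K ≫ ProjSpace.toSpec N K ≫ σ =
      ProjSpace.toSpec N (TR N K) ≫ Spec.map (CommRingCat.ofHom (C : K →+* TR N K)) ≫ σ := by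
    rw [← Category.assoc, α_toSpec, Category.assoc]
  have hpr : projMapH N (C : K →+* TR N K) ≫ ProjSpace.toSpec N K ≫ σ =
      ProjSpace.toSpec N (TR N K) ≫ Spec.map (CommRingCat.ofHom (C : K →+* TR N K)) ≫ σ := by
    rw [← Category.assoc, projMapH_toSpec, Category.assoc]
  have hfib : (ProjSpace.toSpec N (TR N K)).base ⁻¹'
      {(Spec.map (CommRingCat.ofHom (MvPolynomial.constantCoeff : TR N K →+* K))).base pt} ⊆
      Set.range (projMapH N (MvPolynomial.constantCoeff : TR N K →+* K)).base := by
    intro x hx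
    have hpb := isPullback_projMapH N (MvPolynomial.constantCoeff : TR N K →+* K)
    have hx2 : x ∈ (ProjSpace.toSpec N (TR N K)).base ⁻¹' Set.range
        (Spec.map (CommRingCat.ofHom (MvPolynomial.constantCoeff : TR N K →+* K))).base :=
      ⟨pt, hx.symm⟩
    rw [← Scheme.Pullback.range_fst] at hx2
    obtain ⟨z, rfl⟩ := hx2
    refine ⟨hpb.isoPullback.inv.base z, ?_⟩
    have h1 : hpb.isoPullback.inv ≫ projMapH N (MvPolynomial.constantCoeff : TR N K →+* K) =
        pullback.fst _ _ := hpb.isoPullback_inv_fst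
    exact congrArg (fun m : _ ⟶ ProjSpace N (TR N K) => m.base z) h1
  haveI : Epi (sec N (TR N K) j.succ ≫ ProjSpace.toSpec N (TR N K)) := by
    rw [sec_toSpec]
    infer_instance
  have key : α N K ≫ f = projMapH N (C : K →+* TR N K) ≫ f :=
    comp_eq_of_action A (ProjSpace.toSpec N K ≫ σ) hqS (ProjSpace.toSpec N (TR N K))
      (Spec.map (CommRingCat.ofHom (C : K →+* TR N K)) ≫ σ) (α N K)
      (projMapH N (C : K →+* TR N K)) hα hpr
      (projMapH N (MvPolynomial.constantCoeff : TR N K →+* K)) (j0_α N K) (j0_pr N K)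
      _ hfib (sec N (TR N K) j.succ) (sec_α N K j) f hf
  haveI := isDominant_orbit N K
  haveI : IsIntegral (ProjSpace N K) := Groth.Agent.Horrocks.isIntegral_projSpace N K
  haveI : IsReduced (ProjSpace N K) := inferInstance
  refine ⟨inv (ProjSpace.toSpec 0 K) ≫ sec N K 0 ≫ f, ?_⟩
  refine ext_of_isDominant_of_isSeparated A.hom ?_ (sec N (TR N K) 0 ≫ α N K) ?_
  · rw [hf]
    simp only [Category.assoc]
    rw [hf, ← Category.assoc (sec N K 0), sec_toSpec, IsIso.inv_hom_id_assoc]
  · have h1 : (sec N (TR N K) 0 ≫ α N K) ≫ ProjSpace.toSpec N K =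
        projMapH 0 (C : K →+* TR N K) ≫ ProjSpace.toSpec 0 K := by
      rw [Category.assoc, α_toSpec, ← Category.assoc, sec_toSpec, projMapH_toSpec]
    rw [Category.assoc, key, ← Category.assoc, sec_pr, ← Category.assoc _ (ProjSpace.toSpec N K),
      h1]
    simp only [Category.assoc, IsIso.hom_inv_id_assoc]

/-- **Every morphism from a projective space over a field to a separated group scheme is
constant.** -/
theorem const_of_projSpace (A : Over S) [GrpObj A] [IsSeparated A.hom] (K : Type u) [Field K]
    (σ : Spec (CommRingCat.of K) ⟶ S) (N : ℕ) (f : ProjSpace N K ⟶ A.left)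
    (hf : f ≫ A.hom = ProjSpace.toSpec N K ≫ σ) :
    ∃ c : Spec (CommRingCat.of K) ⟶ A.left, f = ProjSpace.toSpec N K ≫ c := by
  rcases N with _ | M
  · haveI := Groth.Agent.Lib.ProjSpace_helper3.toSpec_zero_isIso K
    exact ⟨inv (ProjSpace.toSpec 0 K) ≫ f, by rw [IsIso.hom_inv_id_assoc]⟩
  · exact const_of_projSpace_aux A K σ (M + 1) 0 f hf

end Groth.Agent.Lib.PnConstH4
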