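import Mathlib
import Groth.Prelude
import Groth.Agent.Lib.PnConst3_helper4
import Groth.Agent.Lib.GeomBC_helper4

/-!
# Morphisms from families of projective spaces to abelian schemes factor through the base
(helper4)
APPEND-ONLY once landed.
-/

set_option autoImplicit false
set_option linter.unusedVariables false
set_option linter.unusedSectionVars false
set_option linter.style.haveILetI false
set_option maxHeartbeats 1600000

universe u

open CategoryTheory CategoryTheory.Limits MonoidalCategory CartesianMonoidalCategory MonObj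
  AlgebraicGeometry TopologicalSpace

namespace Groth.Agent.Lib.PnConstH4

open Groth.Agent.Lib.RigidGenH4 Groth.Agent.Lib.GeomBC_helper4

variable {S : Scheme.{u}}

/-- a family whose geometric fibres are projective spaces has geometrically connected and
geometrically reduced fibres -/
theorem geom_of_fibres (P : Over S)
    (hP : ∀ (K : Type u) [Field K] [IsAlgClosed K] (s : Spec (CommRingCat.of K) ⟶ S),
      ∃ (n : ℕ) (e : pullback P.hom s ≅ CohB1.ProjSpace n K),
        e.hom ≫ CohB1.ProjSpace.toSpec n K = pullback.snd P.hom s) :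
    GeometricallyConnected P.hom ∧ GeometricallyReduced P.hom := by
  have key : ∀ ⦃k : Type u⦄ [Field k] (y : Spec (CommRingCat.of k) ⟶ S) ⦃Z : Scheme.{u}⦄
      (fst : Z ⟶ P.left) (snd : Z ⟶ Spec (CommRingCat.of k)), IsPullback fst snd P.hom y →
      ConnectedSpace Z ∧ IsReduced Z := by
    intro k _ y Z fst snd h
    obtain ⟨i, hi⟩ : ∃ i : Spec (CommRingCat.of (AlgebraicClosure k)) ⟶ Spec (CommRingCat.of k),
      i = Spec.map (CommRingCat.ofHom (algebraMap k (AlgebraicClosure k))) := ⟨_, rfl⟩
    obtain ⟨n, e, he⟩ := hP (AlgebraicClosure k) (i ≫ y)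
    have h3 : IsPullback (pullback.fst snd i ≫ fst) (pullback.snd snd i) P.hom (i ≫ y) :=
      (IsPullback.of_hasPullback snd i).paste_horiz h
    haveI : IsIntegral (CohB1.ProjSpace n (AlgebraicClosure k)) :=
      Groth.Agent.Horrocks.isIntegral_projSpace n _
    haveI : IsIntegral (pullback snd i) := IsIntegral.of_isIso (h3.isoPullback ≪≫ e).inv
    haveI : Surjective i := ⟨Function.surjective_to_subsingleton _⟩
    haveI : Flat i := inferInstance
    exact ⟨descendsFlatSurj_connected (pullback.fst snd i) inferInstance,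
      descendsFlatSurj_reduced (pullback.fst snd i) inferInstance⟩
  exact ⟨⟨fun K _ y Z fst snd h => (key y fst snd h).1⟩,
    ⟨fun K _ y Z fst snd h => (key y fst snd h).2⟩⟩

/-- S14668 -/
theorem main14668 [IsLocallyNoetherian S]
    (A : Over S) [GrpObj A] [IsProper A.hom] [Flat A.hom] [GeometricallyIntegral A.hom]
    (P : Over S) [IsProper P.hom] [Flat P.hom]
    (hP : ∀ (K : Type u) [Field K] [IsAlgClosed K] (s : Spec (CommRingCat.of K) ⟶ S),
      ∃ (n : ℕ) (e : pullback P.hom s ≅ CohB1.ProjSpace n K),
        e.hom ≫ CohB1.ProjSpace.toSpec n K = pullback.snd P.hom s)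
    (φ : P ⟶ A) :
    ∃ a : 𝟙_ (Over S) ⟶ A, φ = toUnit P ≫ a := by
  obtain ⟨hconn, hred⟩ := geom_of_fibres P hP
  haveI := hconn
  haveI := hred
  haveI : LocallyOfFinitePresentation P.hom :=
    LocallyOfFinitePresentation.iff_locallyOfFiniteType.mpr inferInstance
  have hloc : ∀ s : S, s ∈ locus P.hom φ.left := by
    intro s
    obtain ⟨sb, hsb⟩ : ∃ sb : Spec (CommRingCat.of (AlgebraicClosure (S.residueField s))) ⟶ S,
      sb = Spec.map (CommRingCat.ofHom (algebraMap (S.residueField s)
        (AlgebraicClosure (S.residueField s)))) ≫ S.fromSpecResidueField s := ⟨_, rfl⟩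
    obtain ⟨n, e, he⟩ := hP (AlgebraicClosure (S.residueField s)) sb
    obtain ⟨f, hfdef⟩ : ∃ f : CohB1.ProjSpace n (AlgebraicClosure (S.residueField s)) ⟶ A.left,
      f = e.inv ≫ pullback.fst P.hom sb ≫ φ.left := ⟨_, rfl⟩
    have hf : f ≫ A.hom = CohB1.ProjSpace.toSpec n (AlgebraicClosure (S.residueField s)) ≫ sb := by
      rw [hfdef]
      simp only [Category.assoc]
      rw [Over.w φ, pullback.condition, ← he, Category.assoc, e.inv_hom_id_assoc]
    obtain ⟨c, hc⟩ := const_of_projSpace A (AlgebraicClosure (S.residueField s)) sb n f hf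
    obtain ⟨pt⟩ : Nonempty ↥(Spec (CommRingCat.of (AlgebraicClosure (S.residueField s)))) :=
      inferInstance
    refine ⟨c.base pt, fun x hx => ?_⟩
    have hspt : sb.base pt = s := by
      rw [hsb]
      exact S.fromSpecResidueField_apply s _
    obtain ⟨z, hz1, hz2⟩ := Scheme.Pullback.exists_preimage_pullback (f := P.hom) (g := sb) x pt
      (hx.trans hspt.symm)
    have h1 : pullback.fst P.hom sb ≫ φ.left =
        e.hom ≫ CohB1.ProjSpace.toSpec n (AlgebraicClosure (S.residueField s)) ≫ c := by
      rw [← hc, hfdef, e.hom_inv_id_assoc]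
    rw [← hz1]
    have h2 := congrArg (fun m : pullback P.hom sb ⟶ A.left => m.base z) h1
    refine h2.trans ?_
    show c.base ((CohB1.ProjSpace.toSpec n (AlgebraicClosure (S.residueField s))).base
      (e.hom.base z)) = c.base pt
    rw [Subsingleton.elim ((CohB1.ProjSpace.toSpec n (AlgebraicClosure (S.residueField s))).base
      (e.hom.base z)) pt]
  obtain ⟨k, hk⟩ := exists_factor_of_univ P.hom φ.left hloc
  haveI : Epi P.hom := epi_of_fibres P.hom
  have hk2 : k ≫ A.hom = 𝟙 S := by
    rw [← cancel_epi P.hom, ← Category.assoc, ← hk, Over.w φ, Category.comp_id]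
  refine ⟨Over.homMk k hk2, ?_⟩
  apply Over.OverMorphism.ext
  rw [Over.comp_left, Over.toUnit_left]
  exact hk

end Groth.Agent.Lib.PnConstH4
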