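import Mathlib
import Groth.Prelude
import Groth.Agent.Lib.QCohColim2_helper4
import Groth.Agent.Lib.DualSub3_helper4

/-!
# From coherent to quasi-coherent dualizing pairs; `r`-dualizing pairs on projective schemes over a
field (helper4)

* `isRDualOver_of_coherent`: on a Noetherian scheme over `Spec A`, a pair `(ω, t)` which is dualizing
  for coherent modules is dualizing for all quasi-coherent modules (`Canon.IsRDualOver`);
* `main13312`: a closed subscheme `X ⊆ P^n_k` with `dim X ≤ r` has a coherent `r`-dualizing pair.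
APPEND-ONLY once landed.
-/

set_option autoImplicit false
set_option linter.style.haveILetI false
set_option linter.unusedSectionVars false
set_option backward.isDefEq.respectTransparency.types false
set_option maxHeartbeats 1600000
universe u
open CategoryTheory CategoryTheory.Limits AlgebraicGeometry Opposite TopologicalSpace

namespace Groth.Agent.Lib.QCohDualH4

open Groth.Agent.Lib.QCohColimH4 Groth.Agent.Lib.QCohColimH4.CohSub

section Extend

variable {A : Type u} [CommRing A] {X : Scheme.{u}} [X.Over (Spec (CommRingCat.of A))]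
  [IsNoetherian X]

theorem HHlin_comp {F G H : X.Modules} (φ : F ⟶ G) (ψ : G ⟶ H) (r : ℕ) (x : Coh.HH X F r) :
    Canon.HHlin A (φ ≫ ψ) r x = Canon.HHlin A ψ r (Canon.HHlin A φ r x) := by
  show Sheaf.H.map ((SheafOfModules.toSheaf X.ringCatSheaf).map (φ ≫ ψ)) r x =
    Sheaf.H.map ((SheafOfModules.toSheaf X.ringCatSheaf).map ψ) r
      (Sheaf.H.map ((SheafOfModules.toSheaf X.ringCatSheaf).map φ) r x)
  rw [Functor.map_comp, Sheaf.H.map_comp_apply]

/-- a pair dualizing for coherent modules is dualizing for quasi-coherent modules -/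
theorem isRDualOver_of_coherent (r : ℕ) (ω : X.Modules) (hω : Coh.IsQCoh ω)
    (t : Coh.HH X ω r →ₗ[A] A)
    (h : ∀ F : X.Modules, Coh.IsCoh F → ∀ ψ : Coh.HH X F r →ₗ[A] A,
      ∃! φ : F ⟶ ω, ∀ x : Coh.HH X F r,
        ψ x = t (Sheaf.H.map ((SheafOfModules.toSheaf X.ringCatSheaf).map φ) r x)) :
    Canon.IsRDualOver A X r ω t := by
  refine ⟨hω, fun F hF => ?_⟩
  haveI : F.IsQuasicoherent := hF
  obtain ⟨hc⟩ := isColimit_cohCocone F
  -- restriction of the duality map to coherent submodules
  have hres : ∀ (a : CohSub F) (φ : F ⟶ ω) (y : Coh.HH X ((cohDiagObj F).obj a) r),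
      (Canon.dualityMap A X r ω t F φ ∘ₗ Canon.HHlin A ((cohCocone F).ι.app a) r) y =
        t (Sheaf.H.map ((SheafOfModules.toSheaf X.ringCatSheaf).map
          ((cohCocone F).ι.app a ≫ φ)) r y) := by
    intro a φ y
    have := HHlin_comp (A := A) ((cohCocone F).ι.app a) φ r y
    exact congrArg t this.symm
  constructor
  · intro φ₁ φ₂ h12
    refine hc.hom_ext (fun a => ?_)
    obtain ⟨φ₀, -, huniq⟩ := h _ (isCoh_cohDiagObj F a)
      (Canon.dualityMap A X r ω t F φ₁ ∘ₗ Canon.HHlin A ((cohCocone F).ι.app a) r)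
    have e1 := huniq ((cohCocone F).ι.app a ≫ φ₁) (fun y => hres a φ₁ y)
    have e2 := huniq ((cohCocone F).ι.app a ≫ φ₂) (fun y => by
      have h12' : Canon.dualityMap A X r ω t F φ₁ = Canon.dualityMap A X r ω t F φ₂ := h12
      rw [h12']
      exact hres a φ₂ y)
    exact e1.trans e2.symm
  · intro ψ
    have hex := fun a : CohSub F => h _ (isCoh_cohDiagObj F a)
      (ψ ∘ₗ Canon.HHlin A ((cohCocone F).ι.app a) r)
    choose φa hφa huniq using hex
    have hcompat : ∀ (a b : CohSub F) (f : a ⟶ b),
        (cohDiagObj F).map f ≫ φa b = φa a := by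
      intro a b f
      refine huniq a _ (fun y => ?_)
      have hnat : (cohDiagObj F).map f ≫ (cohCocone F).ι.app b = (cohCocone F).ι.app a :=
        (cohCocone F).w f
      have h1 := hφa b (Canon.HHlin A ((cohDiagObj F).map f) r y)
      have h2 := HHlin_comp (A := A) ((cohDiagObj F).map f) ((cohCocone F).ι.app b) r y
      have h3 := HHlin_comp (A := A) ((cohDiagObj F).map f) (φa b) r y
      rw [hnat] at h2
      calc (ψ ∘ₗ Canon.HHlin A ((cohCocone F).ι.app a) r) y
          = ψ (Canon.HHlin A ((cohCocone F).ι.app a) r y) := rfl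
        _ = ψ (Canon.HHlin A ((cohCocone F).ι.app b) r
              (Canon.HHlin A ((cohDiagObj F).map f) r y)) := by rw [h2]
        _ = t (Canon.HHlin A (φa b) r (Canon.HHlin A ((cohDiagObj F).map f) r y)) := h1
        _ = t (Canon.HHlin A ((cohDiagObj F).map f ≫ φa b) r y) := by rw [h3]
    let s : Cocone (cohDiagObj F) :=
      { pt := ω
        ι := { app := φa
               naturality := fun a b f => by
                 rw [hcompat a b f]
                 exact (Category.comp_id _).symm } }
    refine ⟨hc.desc s, ?_⟩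
    refine LinearMap.ext (fun x => ?_)
    obtain ⟨a, y, hy⟩ := exists_rep_HH F r x
    have hfac : (cohCocone F).ι.app a ≫ hc.desc s = φa a := hc.fac s a
    have h1 := hφa a y
    have h2 := HHlin_comp (A := A) ((cohCocone F).ι.app a) (hc.desc s) r y
    rw [hfac] at h2
    have hy' : Canon.HHlin A ((cohCocone F).ι.app a) r y = x := hy
    calc Canon.dualityMap A X r ω t F (hc.desc s) x
        = t (Canon.HHlin A (hc.desc s) r x) := rfl
      _ = t (Canon.HHlin A (hc.desc s) r (Canon.HHlin A ((cohCocone F).ι.app a) r y)) := by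
          rw [hy']
      _ = t (Canon.HHlin A (φa a) r y) := by rw [h2]
      _ = ψ (Canon.HHlin A ((cohCocone F).ι.app a) r y) := h1.symm
      _ = ψ x := by rw [hy']

end Extend

section Exists

open ModSite Groth.Agent.Lib.ModSiteH8 Groth.Agent.Lib.ClHomH4

variable {X P : Scheme.{u}} (i : X ⟶ P) [IsClosedImmersion i]

/-- the Ext sheaves `ℰxt^q(i_* E, G)` are direct images from the closed subscheme -/
theorem exists_push_iso_extSh (E : X.Modules) [HasSheafHom (O := X.sheaf) E]
    [HasSheafHom (O := P.sheaf) ((Scheme.Modules.pushforward i).obj E)]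
    [HasInjectiveResolutions (ModSite.Mod P.sheaf)] (G : P.Modules) (q : ℕ) :
    ∃ M : X.Modules, Nonempty ((Scheme.Modules.pushforward i).obj M ≅
      (ModSite.extSh (O := P.sheaf) ((Scheme.Modules.pushforward i).obj E) q).obj G) := by
  haveI : HasInjectiveResolutions P.Modules := ‹HasInjectiveResolutions (ModSite.Mod P.sheaf)›
  let e1 := Groth.Agent.Lib.DerivedCommH8.rightDerivedPostcompIso (Scheme.Modules.pushforward i)
    (TT i E) q
  haveI hadd : (sheafHom (O := P.sheaf) ((Scheme.Modules.pushforward i).obj E)).Additive :=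
    ModSite.sheafHom_additive _ _
  haveI hadd2 : (TT i E ⋙ Scheme.Modules.pushforward i).Additive := by
    constructor
    intro A B f g
    show (Scheme.Modules.pushforward i).map ((TT i E).map (f + g)) = _
    rw [Functor.map_add]
    exact Functor.map_add _
  let e2 := @Groth.Agent.Lib.DerivedCommH8.rightDerivedNatIso _ _ _ _ _ _ _ _ _ hadd2 hadd
    (homAIso i E) q
  exact ⟨((TT i E).rightDerived q).obj G, ⟨(e1.app G).symm ≪≫ e2.app G⟩⟩

end Exists

section Main

open Groth.Agent.Lib.ProjExtVanH4 Groth.Agent.Lib.DualSubH4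

variable (k : Type u) [Field k] (n : ℕ) {X : Scheme.{u}} [X.Over (Spec (CommRingCat.of k))]
  (ι : X ⟶ CohB1.ProjSpace n k) [IsClosedImmersion ι]
  (hι : ι ≫ CohB1.ProjSpace.toSpec n k = X ↘ Spec (CommRingCat.of k))

/-- if `H^r` vanishes on all quasi-coherent modules then the zero module is `r`-dualizing -/
theorem isRDualOver_zero [IsNoetherian X] (r : ℕ)
    (hvan : ∀ F : X.Modules, Coh.IsQCoh F → Subsingleton (Coh.HH X F r)) :
    ∃ (ω : X.Modules) (tr : Coh.HH X ω r →ₗ[k] k), Coh.IsCoh ω ∧ Canon.IsRDualOver k X r ω tr := by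
  obtain ⟨Z, hZ⟩ : ∃ Z : X.Modules, IsZero Z := ⟨_, isZero_zero X.Modules⟩
  have hcoh : Coh.IsCoh Z := CohDevH8.isCoh_of_isZero hZ
  refine ⟨Z, 0, hcoh, hcoh.1, fun F hF => ?_⟩
  haveI := hvan F hF
  constructor
  · intro a b _
    exact hZ.eq_of_tgt a b
  · intro ψ
    refine ⟨0, LinearMap.ext (fun x => ?_)⟩
    rw [Subsingleton.elim x 0, map_zero, map_zero]

include hι in
/-- **a closed subscheme of `P^n_k` of dimension `≤ r` has a coherent `r`-dualizing pair.** -/
theorem main13312 (r : ℕ) (hdim : topologicalKrullDim ↥X ≤ (r : WithBot ℕ∞)) :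
    ∃ (ω : X.Modules) (tr : Coh.HH X ω r →ₗ[k] k), Coh.IsCoh ω ∧ Canon.IsRDualOver k X r ω tr := by
  haveI : IsNoetherian X := isNoetherian_of_closedImmersion n k ι
  by_cases hrn : n < r
  · -- `H^r` vanishes on `P^n`
    refine isRDualOver_zero k r (fun F hF => ?_)
    haveI : F.IsQuasicoherent := hF
    rw [← subsingleton_HH_push_iff ι]
    haveI : Coh.IsQCoh ((Scheme.Modules.pushforward ι).obj F) :=
      QCohCrit.isQuasicoherent_pushforward ι F
    exact Groth.Agent.S0022.result n k _ r hrn
  · by_cases hlt : topologicalKrullDim ↥X < (r : WithBot ℕ∞)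
    · exact isRDualOver_zero k r (fun F _ => subsingleton_HH_of_dim_lt F r hlt)
    · have hdim' : topologicalKrullDim ↥X = (r : WithBot ℕ∞) :=
        le_antisymm hdim (not_lt.mp hlt)
      haveI : HasInjectiveResolutions (ModSite.Mod (CohB1.ProjSpace n k).sheaf) := by
        haveI := Groth.Agent.ExtDual.enoughInjectives_modules (CohB1.ProjSpace n k)
        exact (inferInstance : HasInjectiveResolutions (CohB1.ProjSpace n k).Modules)
      haveI := Groth.Agent.Lib.ModSiteH8.hasSheafHom (O := X.sheaf) (Coh.structureModule X)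
      haveI := Groth.Agent.Lib.ModSiteH8.hasSheafHom (O := (CohB1.ProjSpace n k).sheaf)
        ((Scheme.Modules.pushforward ι).obj (Coh.structureModule X))
      obtain ⟨ω, hω⟩ := exists_push_iso_extSh ι (Coh.structureModule X)
        (Twist.twistProjSpace n k (-((n : ℤ) + 1))) (n - r)
      obtain ⟨t, ht⟩ := main14432 k n ι hι r (by omega) hdim' ω hω
      have hcoh := isCoh_of_push_iso_extSh k n ι (n - r) ω hω
      exact ⟨ω, t, hcoh, isRDualOver_of_coherent r ω hcoh.1 t ht⟩

end Main

end Groth.Agent.Lib.QCohDualH4
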