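import Mathlib
import Groth.Prelude
import Groth.Agent.Lib.ProjDual2_helper9
import Groth.Agent.Lib.QCohDual1_helper4

/-!
# `O(-d-1)` is a `d`-dualizing sheaf on `P^d_A` over a Noetherian ring `A` (helper4)

helper9's coordinate pairing `Groth.Agent.ProjPair.pairing` is over any commutative ring; this file
re-runs helper9's extension from twists to coherent modules (`Groth.Agent.ProjDual.dual_coh`, stated
there over a field) over a Noetherian ring, and passes to quasi-coherent modules with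
`QCohDualH4.isRDualOver_of_coherent`.
APPEND-ONLY once landed.
-/

set_option autoImplicit false
set_option linter.style.haveILetI false
universe u
open CategoryTheory CategoryTheory.Limits AlgebraicGeometry TopologicalSpace Opposite

namespace Groth.Agent.Lib.PnDualRingH4

open Groth.Agent.ProjDual Groth.Agent.HHVan Groth.Agent.ProjFin Groth.Agent.ProjCech
  Groth.Agent.ProjPair Groth.Agent.ProjHom

variable (R : Type u) [CommRing R] [IsNoetherianRing R]

/-- a pairing which is perfect on all twists `O(a)` of `P^n_R` is perfect on all coherent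
modules (`R` a Noetherian ring). -/
theorem dual_coh_ring (n : ℕ) (c : ℤ)
    (t : Coh.HH (CohB1.ProjSpace n R) (Twist.twistProjSpace n R c) n →ₗ[R] R)
    (hInjTw : ∀ a : ℤ, DInj n t (Twist.twistProjSpace n R a))
    (hSurjTw : ∀ a : ℤ, DSurj n t (Twist.twistProjSpace n R a))
    (F : (CohB1.ProjSpace n R).Modules) (hF : Coh.IsCoh F) :
    DInj n t F ∧ DSurj n t F := by
  haveI hNoeth : AlgebraicGeometry.IsNoetherian (CohB1.ProjSpace n R) :=
    Groth.Agent.S2357.result (𝒜 n R)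
  have hcov' : ∀ x : Proj (𝒜 n R), ∃ f ∈ 𝒜 n R 1,
      x ∈ Proj.basicOpen (𝒜 n R) f := fun x => by
    obtain ⟨f, hf, hx⟩ := hcov_X n R x
    exact ⟨f, hs1_X n R f hf, hx⟩
  have hInj : ∀ F : (CohB1.ProjSpace n R).Modules, Coh.IsCoh F → DInj n t F := by
    intro F hF
    obtain ⟨n₀, hn₀⟩ := Groth.Agent.ProjTw.exists_epi_coprod_twist (𝒜 n R) _
      (hs1_X n R) (hcov_X n R) F hF.1 hF.2
    obtain ⟨r, p, hp⟩ := hn₀ n₀ le_rfl
    exact dInj_of_epi p hp (dInj_sigma (Twist.twistProjSpace n R (-(n₀ : ℤ))) r (hInjTw _))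
  refine ⟨hInj F hF, ?_⟩
  obtain ⟨n₀, hn₀⟩ := Groth.Agent.ProjTw.exists_epi_coprod_twist (𝒜 n R) _
    (hs1_X n R) (hcov_X n R) F hF.1 hF.2
  obtain ⟨r, p, hp⟩ := hn₀ n₀ le_rfl
  have hL : Coh.IsCoh (X := CohB1.ProjSpace n R) (Twist.twist (𝒜 n R) (-(n₀ : ℤ))) :=
    ⟨Groth.Agent.ProjTw.isQuasicoherent_twist (𝒜 n R) _,
      Groth.Agent.ProjTw.isFiniteType_twist (𝒜 n R) hcov' _⟩
  have hE := isCoh_sigma_fin (X := CohB1.ProjSpace n R) _ hL r
  have hK := CohKerH8.isCoh_kernel (X := CohB1.ProjSpace n R) hE hF p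
  let S : ShortComplex (CohB1.ProjSpace n R).Modules :=
    ShortComplex.mk (kernel.ι p) p (kernel.condition p)
  have hS : S.ShortExact :=
    { exact := ShortComplex.exact_of_f_is_kernel _ (kernelIsKernel p)
      mono_f := inferInstanceAs (Mono (kernel.ι p))
      epi_g := hp }
  exact dSurj_of_ses S hS (hInj _ hK)
    (dSurj_sigma (Twist.twistProjSpace n R (-(n₀ : ℤ))) r (hSurjTw _))
    (surjective_hmap_top n R S hS hK.1)

/-- `O(-q-2)` is dualizing for coherent modules on `P^{q+1}_R`. -/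
theorem exists_dual_succ (q : ℕ) :
    ∃ t : Coh.HH (CohB1.ProjSpace (q + 1) R) (Twist.twistProjSpace (q + 1) R (omg q)) (q + 1)
        ≃ₗ[R] R,
      ∀ F : (CohB1.ProjSpace (q + 1) R).Modules, Coh.IsCoh F →
        DInj (q + 1) t.toLinearMap F ∧ DSurj (q + 1) t.toLinearMap F := by
  obtain ⟨t, ht⟩ := pairing (R := R) q
  exact ⟨t, dual_coh_ring R (q + 1) (omg q) t.toLinearMap
    (fun a => dInj_of_existsUnique (ht a)) (fun a => dSurj_of_existsUnique (ht a))⟩

/-- every twist is dualizing for coherent modules on `P^0_R`. -/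
theorem exists_dual_zero_ring (c : ℤ) :
    ∃ t : Coh.HH (CohB1.ProjSpace 0 R) (Twist.twistProjSpace 0 R c) 0 ≃ₗ[R] R,
      ∀ F : (CohB1.ProjSpace 0 R).Modules, Coh.IsCoh F →
        DInj 0 t.toLinearMap F ∧ DSurj 0 t.toLinearMap F := by
  obtain ⟨e', he'⟩ := exists_gen_top R c
  obtain ⟨t, ht⟩ := dual_of_gen (A := R) (X := CohB1.ProjSpace 0 R) (bijective_cc_zero R)
    (ω := Twist.twistProjSpace 0 R c) e' he'
  refine ⟨t, dual_coh_ring R 0 c t.toLinearMap (fun a => ?_) (fun a => ?_)⟩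
  · obtain ⟨e, he⟩ := exists_gen_top R a
    exact (ht _ e he).1
  · obtain ⟨e, he⟩ := exists_gen_top R a
    exact (ht _ e he).2

/-- **`(O(-d-1), tr)` is a `d`-dualizing pair on `P^d_A` over a Noetherian ring `A`.** -/
theorem main13309 (A : Type u) [CommRing A] [IsNoetherianRing A] (d : ℕ) :
    ∃ tr : Coh.HH (CohB1.ProjSpace d A) (Twist.twistProjSpace d A (-((d : ℤ) + 1))) d →ₗ[A] A,
      Canon.IsRDualOver A (CohB1.ProjSpace d A) d (Twist.twistProjSpace d A (-((d : ℤ) + 1)))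
        tr := by
  haveI hNoeth : AlgebraicGeometry.IsNoetherian (CohB1.ProjSpace d A) :=
    Groth.Agent.S2357.result (𝒜 d A)
  have hω : Coh.IsQCoh (Twist.twistProjSpace d A (-((d : ℤ) + 1))) :=
    Groth.Agent.ProjTw.isQuasicoherent_twist (𝒜 d A) _
  cases d with
  | zero =>
    obtain ⟨t, ht⟩ := exists_dual_zero_ring A (-(((0 : ℕ) : ℤ) + 1))
    exact ⟨t.toLinearMap, Groth.Agent.Lib.QCohDualH4.isRDualOver_of_coherent 0 _ hω _
      (fun F hF ψ => existsUnique_of (ht F hF).1 (ht F hF).2 ψ)⟩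
  | succ q =>
    obtain ⟨t, ht⟩ := exists_dual_succ A q
    exact ⟨t.toLinearMap, Groth.Agent.Lib.QCohDualH4.isRDualOver_of_coherent (q + 1) _ hω _
      (fun F hF ψ => existsUnique_of (ht F hF).1 (ht F hF).2 ψ)⟩

end Groth.Agent.Lib.PnDualRingH4
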