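import Mathlib
import Groth.Prelude
import Groth.Agent.Lib.PnDualRing1_helper4
import Groth.Agent.Lib.QProjVan_helper9
import Groth.Agent.Lib.Snap50_helper9
import Groth.Agent.Lib.ProjSpaceProper_helper4

/-!
# A criterion for `r`-dualizing pairs on closed subschemes of `P^n_A` (helper4)

If `(ω, tr)` is dualizing for all the twists `O_X(m)` of a closed subscheme `X ⊆ P^n_A` whose fibres
over the Noetherian ring `A` have dimension `≤ r`, then it is an `r`-dualizing pair.
APPEND-ONLY once landed.
-/

set_option autoImplicit false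
set_option linter.style.haveILetI false
universe u
open CategoryTheory CategoryTheory.Limits AlgebraicGeometry TopologicalSpace Opposite

namespace Groth.Agent.Lib.PnDualRingH4

open Groth.Agent.ProjDual Groth.Agent.HHVan Groth.Agent.ProjFin

section Epi

open QProjVanH9 Groth.Agent.TensInv CohB1

variable (k : Type u) [CommRing k] (N : ℕ) {X : Scheme.{u}}
  (ι : X ⟶ Proj (CohB1.polyGrading N k))

/-- on a scheme immersed in `P^N_k`, every coherent module is a quotient of a finite direct sum of
copies of some `ι^* O(-n₀)` (explicit form of helper9's `QProjVanH9.exists_epi_finLocFree`). -/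
theorem exists_epi_sigma_pullback_twist [IsNoetherianRing k] [IsImmersion ι] (F : X.Modules)
    (hF : Coh.IsCoh F) :
    ∃ (n₀ r : ℕ) (p : (∐ fun _ : Fin r => (Scheme.Modules.pullback ι).obj
        (Twist.twist (CohB1.polyGrading N k) (-(n₀ : ℤ)))) ⟶ F),
      Epi p ∧ Coh.IsCoh (∐ fun _ : Fin r => (Scheme.Modules.pullback ι).obj
        (Twist.twist (CohB1.polyGrading N k) (-(n₀ : ℤ)))) := by
  haveI hNoeth : AlgebraicGeometry.IsNoetherian (Proj (CohB1.polyGrading N k)) :=
    Groth.Agent.S2357.result (CohB1.polyGrading N k)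
  haveI : IsLocallyNoetherian X := LocallyOfFiniteType.isLocallyNoetherian ι
  haveI : NoetherianSpace X := ι.isEmbedding.isInducing.noetherianSpace
  haveI : CompactSpace X := inferInstance
  haveI : QuasiSeparatedSpace X := inferInstance
  have hampP : CohB1.IsAmple (Twist.twist (CohB1.polyGrading N k) 1) :=
    Groth.Agent.ProjTw.isAmple_twist_one' (CohB1.polyGrading N k) (hcov' k N)
  have hamp : CohB1.IsAmple ((Scheme.Modules.pullback ι).obj
      (Twist.twist (CohB1.polyGrading N k) 1)) :=
    TensH8.isAmple_pullback_of_isEmbedding ι ι.isEmbedding hampP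
  obtain ⟨n₀, hn₀⟩ := TensH8.exists_isGloballyGenerated_twist hamp F hF
  haveI : F.IsQuasicoherent := hF.1
  haveI : SheafOfModules.IsFiniteType (R := X.ringCatSheaf) F := hF.2
  have hLn := ProperFinH9.isCoh_of_isInvertible (TensH8.isInvertible_tensorPow hamp.1 n₀)
  haveI : (tensorPow ((Scheme.Modules.pullback ι).obj
      (Twist.twist (CohB1.polyGrading N k) 1)) n₀).IsQuasicoherent := hLn.1
  haveI : SheafOfModules.IsFiniteType (R := X.ringCatSheaf) (tensorPow
      ((Scheme.Modules.pullback ι).obj (Twist.twist (CohB1.polyGrading N k) 1)) n₀) := hLn.2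
  haveI := TensQCH8.isQuasicoherent_tensorMod F (tensorPow ((Scheme.Modules.pullback ι).obj
      (Twist.twist (CohB1.polyGrading N k) 1)) n₀)
  haveI := TensQCH8.isFiniteType_tensorMod F (tensorPow ((Scheme.Modules.pullback ι).obj
      (Twist.twist (CohB1.polyGrading N k) 1)) n₀) hF.2 hLn.2
  obtain ⟨r, g, hloc⟩ := Groth.Agent.FinGG.exists_finite_locSpan
    (tensorMod F (tensorPow ((Scheme.Modules.pullback ι).obj
      (Twist.twist (CohB1.polyGrading N k) 1)) n₀)) (hn₀ n₀ le_rfl)
  have hM : PicF.IsInvertible ((Scheme.Modules.pullback ι).obj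
      (Twist.twist (CohB1.polyGrading N k) (-(n₀ : ℤ)))) :=
    TensH8.isInvertible_pullback ι
      (Groth.Agent.ProjTw.isInvertible_twist (CohB1.polyGrading N k) (hcov' k N) (-(n₀ : ℤ)))
  obtain ⟨α⟩ := tensorPow_tensor_neg k N ι n₀
  let Φ : tensorMod (tensorMod F (tensorPow ((Scheme.Modules.pullback ι).obj
      (Twist.twist (CohB1.polyGrading N k) 1)) n₀)) ((Scheme.Modules.pullback ι).obj
      (Twist.twist (CohB1.polyGrading N k) (-(n₀ : ℤ)))) ≅ F :=
    assoc F _ _ ≪≫ mapL F α ≪≫ rightUnit F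
  exact ⟨n₀, r, Groth.Agent.FinGG.untwistMap Φ g,
    Groth.Agent.FinGG.epi_untwistMap hM Φ g hloc,
    Groth.Agent.ProjFin.isCoh_sigma_fin _ (ProperFinH9.isCoh_of_isInvertible hM) r⟩

end Epi

/-- **Criterion**: a pair dualizing for the twists `O_X(m)` is `r`-dualizing, for `X ⊆ P^n_A` closed
with fibres of dimension `≤ r` over the Noetherian ring `A`. -/
theorem main13310 (A : Type u) [CommRing A] [IsNoetherianRing A] (n r : ℕ)
    (X : Scheme.{u}) [X.Over (Spec (CommRingCat.of A))]
    (ι : X ⟶ CohB1.ProjSpace n A) [IsClosedImmersion ι]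
    (hι : ι ≫ CohB1.ProjSpace.toSpec n A = X ↘ Spec (CommRingCat.of A))
    (hfib : (∀ y : ↥(Spec (CommRingCat.of A)),
      topologicalKrullDim ↥((X ↘ Spec (CommRingCat.of A)).fiber y) ≤ (r : WithBot ℕ∞)))
    (ω : X.Modules) (hω : Coh.IsQCoh ω) (tr : Coh.HH X ω r →ₗ[A] A)
    (h : ∀ m : ℤ, Function.Bijective
      (Canon.dualityMap A X r ω tr
        ((Scheme.Modules.pullback ι).obj (Twist.twistProjSpace n A m)))) :
    Canon.IsRDualOver A X r ω tr := by
  haveI hNoethP : AlgebraicGeometry.IsNoetherian (CohB1.ProjSpace n A) :=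
    Groth.Agent.S2357.result (CohB1.polyGrading n A)
  haveI : IsLocallyNoetherian X := LocallyOfFiniteType.isLocallyNoetherian ι
  haveI : NoetherianSpace X := ι.isEmbedding.isInducing.noetherianSpace
  haveI : CompactSpace X := inferInstance
  haveI hNoethX : AlgebraicGeometry.IsNoetherian X := {}
  haveI : IsProper (CohB1.ProjSpace.toSpec n A) :=
    Groth.Agent.Lib.ProjSpaceProperH4.isProper_toSpec n A
  haveI : IsProper (X ↘ Spec (CommRingCat.of A)) := by
    rw [← hι]
    infer_instance
  have hInjTw : ∀ m : ℤ, DInj r tr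
      ((Scheme.Modules.pullback ι).obj (Twist.twistProjSpace n A m)) := by
    intro m φ hφ
    apply (h m).1
    apply LinearMap.ext
    intro x
    show tr (hmap φ r x) = tr (hmap 0 r x)
    rw [hφ x, hmap_zero', map_zero]
  have hSurjTw : ∀ m : ℤ, DSurj r tr
      ((Scheme.Modules.pullback ι).obj (Twist.twistProjSpace n A m)) := by
    intro m ψ
    obtain ⟨φ, hφ⟩ := (h m).2 ψ
    exact ⟨φ, fun x => (LinearMap.congr_fun hφ x).symm⟩
  have himm : @IsImmersion X (Proj (CohB1.polyGrading n A)) ι := (inferInstance : IsImmersion ι)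
  have hInj : ∀ F : X.Modules, Coh.IsCoh F → DInj r tr F := by
    intro F hF
    obtain ⟨n₀, s, p, hp, -⟩ := @exists_epi_sigma_pullback_twist A _ n X ι _ himm F hF
    exact dInj_of_epi p hp (dInj_sigma _ s (hInjTw _))
  have hcoh : ∀ F : X.Modules, Coh.IsCoh F → DInj r tr F ∧ DSurj r tr F := by
    intro F hF
    refine ⟨hInj F hF, ?_⟩
    obtain ⟨n₀, s, p, hp, hE⟩ := @exists_epi_sigma_pullback_twist A _ n X ι _ himm F hF
    have hK := CohKerH8.isCoh_kernel hE hF p
    let S : ShortComplex X.Modules :=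
      ShortComplex.mk (kernel.ι p) p (kernel.condition p)
    have hS : S.ShortExact :=
      { exact := ShortComplex.exact_of_f_is_kernel _ (kernelIsKernel p)
        mono_f := inferInstanceAs (Mono (kernel.ι p))
        epi_g := hp }
    refine dSurj_of_ses S hS (hInj _ hK) (dSurj_sigma _ s (hSurjTw _)) ?_
    intro y
    haveI : Subsingleton (Coh.HH X S.X₁ (r + 1)) :=
      Snap9.subsingleton_HH_of_fibre_dim (X ↘ Spec (CommRingCat.of A)) r hfib (kernel p) hK
        (r + 1) (Nat.lt_succ_self r)
    have h1 : y ∈ LinearMap.ker (δlin A S hS r) := by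
      rw [LinearMap.mem_ker]
      exact Subsingleton.elim _ _
    rw [← range_HHlin_g] at h1
    obtain ⟨x, hx⟩ := h1
    exact ⟨x, hx⟩
  exact Groth.Agent.Lib.QCohDualH4.isRDualOver_of_coherent r ω hω tr
    (fun F hF ψ => existsUnique_of (hcoh F hF).1 (hcoh F hF).2 ψ)

end Groth.Agent.Lib.PnDualRingH4
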