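import Mathlib
import Groth.Prelude
import Groth.Agent.Lib.PnFib2_helper9
import Groth.Agent.Lib.FLF7_helper8
import Groth.Agent.S19429

/-!
# Direct images of twists of a flat family on `P^n_S` with `m`-regular fibres (helper9)

APPEND-ONLY once landed.
-/

set_option autoImplicit false
universe u
open AlgebraicGeometry CategoryTheory CategoryTheory.Limits TopologicalSpace

namespace PnFib

open CohB1 Groth.Agent.TensInv Groth.Agent.Lib.PBCH2

section Reg

variable {r : ℕ} {S : Scheme.{u}}

/-- fibrewise `m`-regularity gives fibrewise `d`-regularity for `d ≥ m` -/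
theorem fiberH_reg_of_regular (F : (KRR.PY r S).Modules) (hF : Coh.IsCoh F) (t : S) (m : ℤ)
    (hreg : ∀ i : ℕ, 1 ≤ i → i ≤ r →
      Subsingleton (CohIII.fiberH (KRR.pr r S) (KRR.twF r S (m - i) F) t i))
    (d : ℤ) (hd : m ≤ d) (q : ℕ) (hq : 1 ≤ q) :
    Subsingleton (CohIII.fiberH (KRR.pr r S) (KRR.twF r S (d - q) F) t q) := by
  haveI := hF.1
  have hcoh := isCoh_fibMod r S t F hF
  have hmreg : Curv2.IsMRegular (S.residueField t) r (fibMod r S t F) m := by
    intro i hi hir
    exact (fiberH_subsingleton_iff r S t F (m - i) i).mp (hreg i hi hir)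
  have hdreg := Groth.Agent.MumReg.isMRegular_of_le hcoh hmreg hd
  exact (fiberH_subsingleton_iff r S t F (d - q) q).mpr (BddFam.regular_all hcoh hdreg q hq)

end Reg

section Main

variable (n : ℕ) (S : Scheme.{u})

/-- **S16625** -/
theorem main16625 [IsNoetherian S]
    (Q : (CohB1.ProjSpaceOver n S).Modules) (hQ : Coh.IsCoh Q)
    (hflat : FlatMod.IsFlatOver (CohB1.ProjSpaceOver.toBase n S) Q) (m : ℤ)
    (hreg : ∀ (s : S) (i : ℕ), 1 ≤ i →
      Subsingleton (Coh.HH (pullback (CohB1.ProjSpaceOver.toBase n S) (S.fromSpecResidueField s))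
        ((Scheme.Modules.pullback
            (pullback.fst (CohB1.ProjSpaceOver.toBase n S) (S.fromSpecResidueField s))).obj
          (CohB1.tensorMod Q (Twist.twistOver n S (m - i)))) i))
    (d : ℤ) (hd : m ≤ d) :
    FlatMod.IsFinLocFree ((Coh.push (CohB1.ProjSpaceOver.toBase n S)).obj
        (CohB1.tensorMod Q (Twist.twistOver n S d))) ∧
      (∀ i : ℕ, 1 ≤ i → IsZero ((Coh.RpushAb (CohB1.ProjSpaceOver.toBase n S) i).obj
        (Coh.toAb (CohB1.tensorMod Q (Twist.twistOver n S d))))) ∧
      Epi ((Scheme.Modules.pullbackPushforwardAdjunction (CohB1.ProjSpaceOver.toBase n S)).counit.app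
        (CohB1.tensorMod Q (Twist.twistOver n S d))) := by
  haveI : IsProper (KRR.pr n S) := Groth.Agent.Lib.ProjSpaceProperH4.isProper_toBase n S
  haveI : Smooth (KRR.pr n S) := Groth.Agent.Lib.ProjSmoothH4.smooth_toBase n S
  haveI : LocallyOfFinitePresentation (KRR.pr n S) := inferInstance
  haveI : IsLocallyNoetherian (KRR.PY n S) :=
    LocallyOfFiniteType.isLocallyNoetherian (KRR.pr n S)
  haveI := hQ.1
  haveI := hQ.2
  have hfpQ : CohB1.IsFP Q := FLFH8.isFinitePresentation_of_isCoh _
  haveI : HasInjectiveResolutions (KRR.PY n S).Modules :=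
    haveI := RpushQC.enoughInjectives_modules (KRR.PY n S)
    inferInstance
  -- the hypothesis in terms of `twF`
  have hreg' : ∀ (s : S) (i : ℕ), 1 ≤ i → i ≤ n →
      Subsingleton (CohIII.fiberH (KRR.pr n S) (KRR.twF n S (m - i) Q) s i) := by
    intro s i hi _
    exact Groth.Agent.HHVan.subsingleton_of_iso
      ((Scheme.Modules.pullback ((KRR.pr n S).fiberι s)).mapIso
        (comm Q (Twist.twistOver n S (m - i)))) i (hreg s i hi)
  -- fibrewise vanishing for the twists
  have hfib : ∀ (d' : ℤ), m - 1 ≤ d' → ∀ (s : S) (q : ℕ), 1 ≤ q →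
      Subsingleton (CohIII.fiberH (KRR.pr n S) (KRR.twF n S d' Q) s q) :=
    fun d' hd' s q hq => fiberH_van_of_regular Q hQ s m (hreg' s) q hq d' hd'
  have hqc : ∀ d' : ℤ, Coh.IsQCoh (KRR.twF n S d' Q) := fun d' =>
    KRRRegH9.isQuasicoherent_twF n S Q hQ.1 d'
  haveI := hqc d
  have hfp := isFP_twF n S Q hfpQ d
  have hfl := isFlatOver_twF n S Q hflat d
  let e : KRR.twF n S d Q ≅ CohB1.tensorMod Q (Twist.twistOver n S d) :=
    comm (Twist.twistOver n S d) Q
  refine ⟨?_, ?_, ?_⟩
  · have h1 := (Groth.Agent.S14444.result (KRR.pr n S) (KRR.twF n S d Q) hfp hfl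
      (fun v => hfib d (by omega) v 1 le_rfl)).1
    exact FLFH8.IsFinLocFree.of_iso ((Scheme.Modules.pushforward (KRR.pr n S)).mapIso e) h1
  · intro i hi
    refine KRRRegH9.isZero_RpushAb_of_iso e i ?_
    rw [← RelAmpleCrit.isZero_Rpush_iff]
    exact Groth.Agent.S15985.result (KRR.pr n S) (KRR.twF n S d Q) hfp hfl i
      (fun y => hfib d (by omega) y i hi)
  · -- regularity of `Q(d)` relative to the projection
    have hregd : KRR.IsRegSheaf n S (KRR.twF n S d Q) := by
      intro i hi
      obtain ⟨ε⟩ := KRRRegH9.twF_twF n S (-(i : ℤ)) d Q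
      refine KRRRegH9.isZero_RpushAb_of_iso ε.symm i ?_
      rw [← RelAmpleCrit.isZero_Rpush_iff]
      haveI := hqc (-(i : ℤ) + d)
      refine Groth.Agent.S15985.result (KRR.pr n S) (KRR.twF n S (-(i : ℤ) + d) Q)
        (isFP_twF n S Q hfpQ _) (isFlatOver_twF n S Q hflat _) i (fun y => ?_)
      have h1 := fiberH_reg_of_regular Q hQ y m (hreg' y) d hd i hi
      have e1 : d - (i : ℤ) = -(i : ℤ) + d := by ring
      rw [e1] at h1
      exact h1
    haveI := Groth.Agent.S19429.result n S (KRR.twF n S d Q) (hqc d) hregd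
    have hnat := (Scheme.Modules.pullbackPushforwardAdjunction (KRR.pr n S)).counit.naturality e.hom
    have hepi : Epi ((Scheme.Modules.pullbackPushforwardAdjunction (KRR.pr n S)).counit.app
        (KRR.twF n S d Q) ≫ e.hom) := epi_comp _ _
    have hnat' : (Scheme.Modules.pullback (KRR.pr n S)).map
          ((Scheme.Modules.pushforward (KRR.pr n S)).map e.hom) ≫
        (Scheme.Modules.pullbackPushforwardAdjunction (KRR.pr n S)).counit.app
          (CohB1.tensorMod Q (Twist.twistOver n S d)) =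
        (Scheme.Modules.pullbackPushforwardAdjunction (KRR.pr n S)).counit.app
          (KRR.twF n S d Q) ≫ e.hom := hnat
    rw [← hnat'] at hepi
    exact epi_of_epi ((Scheme.Modules.pullback (KRR.pr n S)).map
          ((Scheme.Modules.pushforward (KRR.pr n S)).map e.hom)) _

end Main

end PnFib
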