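import Mathlib
import Groth.Prelude
import Groth.Agent.Lib.PnOverVan_helper9
import Groth.Agent.Lib.AffVanish3_helper9
import Groth.Agent.Lib.RelAmpleCrit_helper9
import Groth.Agent.Lib.RDerBound_helper3

/-!
# `Rf_*` on `P^r_Y` raises the upper cohomological bound by at most `r` (helper3; S4265)

* `isZero_Rpush_projSpaceOver`: `R^p f_* G = 0` for `p > r`, `G` quasi-coherent on `P^r_Y`
  (assembly of helper9's `HH_projSpace`, `ext_eq_zero_of_subsingleton`, `isZero_Rpush_succ_of_basis`).
* `main4265`.
-/

set_option autoImplicit false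
set_option linter.all false
set_option maxHeartbeats 1600000
set_option backward.isDefEq.respectTransparency false
set_option backward.isDefEq.respectTransparency.types false
set_option backward.defeqAttrib.useBackward true

universe u
open CategoryTheory CategoryTheory.Limits AlgebraicGeometry Opposite TopologicalSpace
open DerivedCategory CategoryTheory.Pretriangulated

attribute [local instance] HasDerivedCategory.standard

namespace Groth.Agent.Lib.PnPushBdH3

open CohB1 Groth.Agent.PnOver
open RpushVanish (fr)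

noncomputable section

/-- `R^p f_* G = 0` for `p > r` on `P^r_Y` -/
theorem isZero_Rpush_projSpaceOver (Y : Scheme.{u}) (r : ℕ)
    [HasInjectiveResolutions (ProjSpaceOver r Y).Modules]
    (G : (ProjSpaceOver r Y).Modules) [G.IsQuasicoherent] (p : ℕ) (hp : r < p) :
    IsZero ((Coh.Rpush (ProjSpaceOver.toBase r Y) p).obj G) := by
  rw [RelAmpleCrit.isZero_Rpush_iff]
  obtain ⟨q, rfl⟩ : ∃ q, p = q + 1 := ⟨p - 1, by omega⟩
  refine RpushVanish.isZero_Rpush_succ_of_basis (ProjSpaceOver.toBase r Y).base
    (Coh.toAb G) q (fun W => IsAffineOpen (X := Y) W) (PnOverVanH9.affine_basis Y) ?_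
  intro W hW ξ
  have key : ∀ V : (ProjSpaceOver r Y).Opens, (sigma r W hW).opensRange = V →
      ∀ ξ : Abelian.Ext (fr (Y := (ProjSpaceOver r Y).carrier) V) (Coh.toAb G) (q + 1),
        ξ = 0 := by
    rintro V rfl ξ
    haveI : ((Scheme.Modules.pullback (sigma r W hW)).obj G).IsQuasicoherent := inferInstance
    have h1 : Subsingleton (Coh.HH (ProjSpace r Γ(Y, W))
        ((Scheme.Modules.pullback (sigma r W hW)).obj G) (q + 1)) :=
      AffVanish.HH_projSpace r Γ(Y, W) _ (q + 1) hp
    exact OpenImmCohH9.ext_eq_zero_of_subsingleton (sigma r W hW) G (q + 1) h1 ξ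
  exact key _ (opensRange_sigma r W hW) ξ

/-- **S4265** -/
theorem main4265 (Y : Scheme.{u}) (r : ℕ)
    [DCoh.HasRpush (CohB1.ProjSpaceOver.toBase r Y)]
    (E : DCoh.D (CohB1.ProjSpaceOver r Y)) (hE : ∀ m : ℤ, DCoh.IsPseudoCoherentD m E)
    (a b : ℤ) [E.IsGE b] [E.IsLE a] :
    ((DCoh.Rpush (CohB1.ProjSpaceOver.toBase r Y)).obj E).IsLE (a + r) := by
  haveI := Groth.Agent.Lib.MVPushL.grothendieck_modules (ProjSpaceOver r Y)
  haveI : HasInjectiveResolutions (ProjSpaceOver r Y).Modules := inferInstance
  have hq : DCoh.IsQCohD E := Groth.Agent.Lib.RpushPCUnbH3.isQCohD_of_forall_isPC E hE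
  rw [DerivedCategory.isLE_iff]
  intro i hi
  refine Groth.Agent.Lib.RDerBoundH3.main
    (Scheme.Modules.pushforward (ProjSpaceOver.toBase r Y))
    (fun G => G.IsQuasicoherent)
    (fun {M M'} e h => by
      exact (SheafOfModules.isQuasicoherent (ProjSpaceOver r Y).ringCatSheaf).prop_of_iso e h)
    (fun M hM => Groth.Agent.Lib.FinPushPCH3.isQuasicoherent_of_isZero hM) (r + 1)
    (fun G hG p hp => by
      haveI : G.IsQuasicoherent := hG
      exact isZero_Rpush_projSpaceOver Y r G p (by omega))
    E (fun j => hq j) b a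
    (fun j hj => by
      rcases hj with hj | hj
      · exact DerivedCategory.isZero_of_isGE E b j hj
      · exact DerivedCategory.isZero_of_isLE E a j hj)
    i (Or.inr (by push_cast; omega))

end

end Groth.Agent.Lib.PnPushBdH3
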