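import Groth.Agent.Lib.PoincareCartan_helper1

/-!
# Homotopy invariance of algebraic de Rham cohomology, part 2: the polynomial ring (helper1)
-/

set_option autoImplicit false
set_option maxHeartbeats 1000000

universe u

open Polynomial

namespace Groth.Agent.Lib.PoincareCartanH1

open Groth.Agent.Lib.PoincarePSH1 Groth.Agent.Lib.DeRhamH1

section Poly

variable (R A : Type u) [CommRing R] [CommRing A] [Algebra R A]

/-- the Euler derivation `X ∂/∂X` of `A[X]` over `R` -/
noncomputable def eulerDer : Derivation R A[X] A[X] :=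
  (X : A[X]) • Derivation.restrictScalars R (Polynomial.derivative' : Derivation A A[X] A[X])

lemma eulerDer_apply (p : A[X]) : eulerDer R A p = X * derivative p := rfl

/-- the linear form on differentials attached to the Euler derivation -/
noncomputable def phiE : Module.Dual A[X] (Ω[A[X]⁄R]) := (eulerDer R A).liftKaehlerDifferential

lemma phiE_D (p : A[X]) :
    phiE R A (KaehlerDifferential.D R A[X] p) = X * derivative p := by
  rw [phiE, Derivation.liftKaehlerDifferential_comp_D, eulerDer_apply]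

lemma phiE_monomial (m : ℕ) (a : A) :
    phiE R A (KaehlerDifferential.D R A[X] (monomial m a)) = m • monomial m a := by
  rw [phiE_D, derivative_monomial]
  cases m with
  | zero => simp
  | succ m =>
    rw [Nat.add_sub_cancel, X_mul_monomial, smul_monomial]
    congr 1
    rw [nsmul_eq_mul, mul_comm]

lemma phiE_C (a : A) : phiE R A (KaehlerDifferential.D R A[X] (C a)) = 0 • C a := by
  rw [phiE_D, derivative_C, mul_zero, zero_smul]

lemma phiE_X : phiE R A (KaehlerDifferential.D R A[X] X) = 1 • (X : A[X]) := by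
  rw [phiE_D, derivative_X, mul_one, one_smul]

/-- generators of the differentials of `A[X]`: the `d(C a)` and `dX` -/
def Sgen : Set (Ω[A[X]⁄R]) :=
  {v | (∃ a : A, v = KaehlerDifferential.D R A[X] (C a)) ∨ v = KaehlerDifferential.D R A[X] X}

lemma span_Sgen : Submodule.span A[X] (Sgen R A) = ⊤ := by
  rw [eq_top_iff, ← KaehlerDifferential.span_range_derivation R A[X], Submodule.span_le]
  rintro _ ⟨p, rfl⟩
  show KaehlerDifferential.D R A[X] p ∈ Submodule.span A[X] (Sgen R A)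
  refine Polynomial.induction_on' (motive := fun p =>
    KaehlerDifferential.D R A[X] p ∈ Submodule.span A[X] (Sgen R A)) p ?_ ?_
  · intro p q hp hq
    rw [map_add]
    exact Submodule.add_mem _ hp hq
  · intro n a
    rw [← C_mul_X_pow_eq_monomial, Derivation.leibniz, Derivation.leibniz_pow]
    refine Submodule.add_mem _ (Submodule.smul_mem _ _ ?_) (Submodule.smul_mem _ _ ?_)
    · have h1 : KaehlerDifferential.D R A[X] X ∈ Submodule.span A[X] (Sgen R A) :=
        Submodule.subset_span (Or.inr rfl)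
      have h2 : (X : A[X]) ^ (n - 1) • KaehlerDifferential.D R A[X] X ∈
          Submodule.span A[X] (Sgen R A) := Submodule.smul_mem _ _ h1
      exact nsmul_mem h2 n
    · exact Submodule.subset_span (Or.inl ⟨a, rfl⟩)

variable {R A}
variable (d' : ∀ p : ℕ, VV A[X] (Ω[A[X]⁄R]) p →ₗ[R] VV A[X] (Ω[A[X]⁄R]) (p + 1))
  (hrule : DeRham.IsRule (KaehlerDifferential.D R A[X]) d')
  (ψ : ∀ p : ℕ, VV A (Ω[A⁄R]) p →+ VV A[X] (Ω[A[X]⁄R]) p)
  (hψ : DeRham.IsCxMap (KaehlerDifferential.D R A) (KaehlerDifferential.D R A[X])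
    (algebraMap A A[X]) ψ)

/-- a form which is a finite sum of weight vectors, the weight zero part coming from `A` -/
def Good (q : ℕ) (η : VV A[X] (Ω[A[X]⁄R]) q) : Prop :=
  ∃ w : ℕ →₀ VV A[X] (Ω[A[X]⁄R]) q,
    (∀ n, Lop d' (phiE R A) q (w n) = n • w n) ∧ (∃ x, ψ q x = w 0) ∧
      (w.sum fun _ v => v) = η

lemma good_zero (q : ℕ) : Good d' ψ q 0 := by
  refine ⟨0, fun n => ?_, ⟨0, ?_⟩, ?_⟩
  · rw [Finsupp.zero_apply, map_zero, smul_zero]
  · rw [map_zero, Finsupp.zero_apply]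
  · exact Finsupp.sum_zero_index

lemma good_add (q : ℕ) (x y : VV A[X] (Ω[A[X]⁄R]) q) (hx : Good d' ψ q x) (hy : Good d' ψ q y) :
    Good d' ψ q (x + y) := by
  obtain ⟨w₁, h₁, ⟨x₁, hx₁⟩, hs₁⟩ := hx
  obtain ⟨w₂, h₂, ⟨x₂, hx₂⟩, hs₂⟩ := hy
  refine ⟨w₁ + w₂, fun n => ?_, ⟨x₁ + x₂, ?_⟩, ?_⟩
  · rw [Finsupp.add_apply, map_add, h₁, h₂, smul_add]
  · rw [map_add, hx₁, hx₂, Finsupp.add_apply]
  · rw [Finsupp.sum_add_index' (fun _ => rfl) (fun _ _ _ => rfl), hs₁, hs₂]

lemma good_single (q : ℕ) (n : ℕ) (g : VV A[X] (Ω[A[X]⁄R]) q)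
    (hg : Lop d' (phiE R A) q g = n • g) (h0 : n = 0 → ∃ x, ψ q x = g) : Good d' ψ q g := by
  classical
  refine ⟨Finsupp.single n g, fun k => ?_, ?_, ?_⟩
  · rw [Finsupp.single_apply]
    by_cases h : n = k
    · rw [if_pos h, ← h, hg]
    · rw [if_neg h, map_zero, smul_zero]
  · rw [Finsupp.single_apply]
    by_cases h : n = 0
    · rw [if_pos h]
      exact h0 h
    · rw [if_neg h]
      exact ⟨0, map_zero _⟩
  · exact Finsupp.sum_single_index rfl

include hrule hψ in
lemma good_gen (q : ℕ) (m : ℕ) (a : A) (b : Fin q → A[X])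
    (hb : ∀ j, (∃ a : A, b j = C a) ∨ b j = X) :
    Good d' ψ q (DeRham.gen (KaehlerDifferential.D R A[X]) q (monomial m a) b) := by
  classical
  let n : Fin q → ℕ := fun j => if (∃ a : A, b j = C a) then 0 else 1
  have hn : ∀ j, phiE R A (KaehlerDifferential.D R A[X] (b j)) = n j • b j := by
    intro j
    by_cases h : ∃ a : A, b j = C a
    · obtain ⟨a', ha'⟩ := h
      have : n j = 0 := if_pos ⟨a', ha'⟩
      rw [this, ha']
      exact phiE_C R A a'
    · have hX : b j = X := (hb j).resolve_left h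
      have : n j = 1 := if_neg h
      rw [this, hX]
      exact phiE_X R A
  have heig := eig_gen (KaehlerDifferential.D R A[X])
    (KaehlerDifferential.span_range_derivation R A[X]) d' hrule (phiE R A) q (monomial m a) m b n
    (phiE_monomial R A m a) hn
  refine good_single d' ψ q _ _ heig ?_
  intro h0
  have hm : m = 0 := by omega
  have hsum : ∑ j, n j = 0 := by omega
  have hnj : ∀ j, n j = 0 := fun j =>
    (Finset.sum_eq_zero_iff.mp hsum) j (Finset.mem_univ j)
  have hbC : ∀ j, ∃ a : A, b j = C a := by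
    intro j
    by_contra h
    have : n j = 1 := if_neg h
    have := hnj j
    omega
  choose a' ha' using hbC
  refine ⟨DeRham.gen (KaehlerDifferential.D R A) q a a', ?_⟩
  rw [hψ q a a', hm]
  have e1 : (algebraMap A A[X]) a = monomial 0 a := by
    rw [Polynomial.algebraMap_apply, Algebra.algebraMap_self_apply, monomial_zero_left]
  have e2 : (fun i => (algebraMap A A[X]) (a' i)) = b := by
    funext i
    rw [ha' i, Polynomial.algebraMap_apply, Algebra.algebraMap_self_apply]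
  rw [e1, e2]

include hrule hψ in
lemma good_smul_ιMulti (q : ℕ) (v : Fin q → Ω[A[X]⁄R]) (hv : Set.range v ⊆ Sgen R A)
    (p : A[X]) : Good d' ψ q (p • exteriorPower.ιMulti A[X] q v) := by
  have hv' : ∀ j, ∃ bj : A[X], KaehlerDifferential.D R A[X] bj = v j ∧
      ((∃ a : A, bj = C a) ∨ bj = X) := by
    intro j
    rcases hv (Set.mem_range_self j) with ⟨a, ha⟩ | hX
    · exact ⟨C a, ha.symm, Or.inl ⟨a, rfl⟩⟩
    · exact ⟨X, hX.symm, Or.inr rfl⟩
  choose b hb1 hb2 using hv'
  have hvb : v = fun j => KaehlerDifferential.D R A[X] (b j) := funext fun j => (hb1 j).symm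
  rw [hvb]
  refine Polynomial.induction_on' (motive := fun p => Good d' ψ q
    (p • exteriorPower.ιMulti A[X] q fun j => KaehlerDifferential.D R A[X] (b j))) p ?_ ?_
  · intro p₁ p₂ h₁ h₂
    rw [add_smul]
    exact good_add d' ψ q _ _ h₁ h₂
  · intro m a
    exact good_gen d' hrule ψ hψ q m a b hb2

include hrule hψ in
lemma good_all (q : ℕ) (η : VV A[X] (Ω[A[X]⁄R]) q) : Good d' ψ q η := by
  have key : ∀ η : VV A[X] (Ω[A[X]⁄R]) q, ∀ p : A[X], Good d' ψ q (p • η) := by
    intro η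
    have hη : η ∈ Submodule.span A[X]
        (⇑(exteriorPower.ιMulti A[X] q) '' {a | Set.range a ⊆ Sgen R A}) := by
      rw [exteriorPower.ιMulti_span_of_span A[X] q (Ω[A[X]⁄R]) (span_Sgen R A)]
      trivial
    induction hη using Submodule.span_induction with
    | mem x hx =>
      obtain ⟨v, hv, rfl⟩ := hx
      intro p
      exact good_smul_ιMulti d' hrule ψ hψ q v hv p
    | zero =>
      intro p
      rw [smul_zero]
      exact good_zero d' ψ q
    | add x y _ _ hx hy =>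
      intro p
      rw [smul_add]
      exact good_add d' ψ q _ _ (hx p) (hy p)
    | smul b x _ hx =>
      intro p
      rw [smul_smul]
      exact hx (p * b)
  have := key η 1
  rwa [one_smul] at this

end Poly

section Retract

variable (R A : Type u) [CommRing R] [CommRing A] [Algebra R A]

theorem exists_retract
    (d : ∀ p : ℕ, VV A (Ω[A⁄R]) p →ₗ[R] VV A (Ω[A⁄R]) (p + 1))
    (hd : DeRham.IsDiff (KaehlerDifferential.D R A) d)
    (d' : ∀ p : ℕ, VV A[X] (Ω[A[X]⁄R]) p →ₗ[R] VV A[X] (Ω[A[X]⁄R]) (p + 1))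
    (hd' : DeRham.IsDiff (KaehlerDifferential.D R A[X]) d') :
    ∃ ρ : ∀ p : ℕ, VV A[X] (Ω[A[X]⁄R]) p →+ VV A (Ω[A⁄R]) p,
      (∀ (p : ℕ) (b₀ : A[X]) (b : Fin p → A[X]),
        ρ p (DeRham.gen (KaehlerDifferential.D R A[X]) p b₀ b) =
          DeRham.gen (KaehlerDifferential.D R A) p (Polynomial.evalRingHom (0 : A) b₀)
            (fun i => Polynomial.evalRingHom (0 : A) (b i))) ∧
      (∀ (p : ℕ) (x : VV A[X] (Ω[A[X]⁄R]) p), ρ (p + 1) (d' p x) = d p (ρ p x)) := by
  letI : Algebra A[X] A := (Polynomial.evalRingHom (0 : A)).toAlgebra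
  haveI : IsScalarTower R A[X] A := IsScalarTower.of_algebraMap_eq (fun r => by
    show algebraMap R A r = Polynomial.evalRingHom (0 : A) (algebraMap R A[X] r)
    rw [Polynomial.algebraMap_apply, Polynomial.coe_evalRingHom, Polynomial.eval_C])
  obtain ⟨ρ, hρ⟩ := Groth.Agent.S15293.result R R A[X] A
  refine ⟨ρ, fun p b₀ b => hρ p b₀ b, fun p x => ?_⟩
  exact Groth.Agent.S15294.result R R A[X] A d' hd' d hd ρ hρ p x

end Retract

open exteriorPower in
theorem main15536 (R A : Type u) [CommRing R]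
    [CommRing A] [Algebra R A] [Algebra ℚ R]
    (d : ∀ p : ℕ, ↥(⋀[A]^p (Ω[A⁄R])) →ₗ[R] ↥(⋀[A]^(p + 1) (Ω[A⁄R])))
    (hd : DeRham.IsDiff (KaehlerDifferential.D R A) d)
    (d' : ∀ p : ℕ, ↥(⋀[A[X]]^p (Ω[A[X]⁄R])) →ₗ[R] ↥(⋀[A[X]]^(p + 1) (Ω[A[X]⁄R])))
    (hd' : DeRham.IsDiff (KaehlerDifferential.D R A[X]) d')
    (ψ : ∀ p : ℕ, ↥(⋀[A]^p (Ω[A⁄R])) →+ ↥(⋀[A[X]]^p (Ω[A[X]⁄R])))
    (hψ : DeRham.IsCxMap (KaehlerDifferential.D R A) (KaehlerDifferential.D R A[X]) (algebraMap A A[X]) ψ)
    (hcomm : ∀ (p : ℕ) (x : ↥(⋀[A]^p (Ω[A⁄R]))), ψ (p + 1) (d p x) = d' p (ψ p x)) (i : ℕ) :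
    (∀ y ∈ DeRham.cocycles d' i, ∃ x ∈ DeRham.cocycles d i, y - ψ i x ∈ DeRham.coboundaries d' i) ∧
      (∀ x ∈ DeRham.cocycles d i, ψ i x ∈ DeRham.coboundaries d' i → x ∈ DeRham.coboundaries d i) := by
  obtain ⟨ρ, hρ1, hρ2⟩ := exists_retract R A d hd d' hd'
  have hρψ : ∀ (p : ℕ) (x : ↥(⋀[A]^p (Ω[A⁄R]))), ρ p (ψ p x) = x := by
    intro p
    refine kaehler_gen_induction R A p (fun x => ρ p (ψ p x) = x) ?_ ?_ ?_
    · rw [map_zero, map_zero]
    · intro x y hx hy
      rw [map_add, map_add, hx, hy]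
    · intro b₀ b
      rw [hψ p b₀ b, hρ1]
      have e1 : Polynomial.evalRingHom (0 : A) ((algebraMap A A[X]) b₀) = b₀ := by
        rw [Polynomial.algebraMap_apply, Algebra.algebraMap_self_apply, Polynomial.coe_evalRingHom,
          Polynomial.eval_C]
      have e2 : (fun i => Polynomial.evalRingHom (0 : A) ((algebraMap A A[X]) (b i))) = b := by
        funext i
        rw [Polynomial.algebraMap_apply, Algebra.algebraMap_self_apply, Polynomial.coe_evalRingHom,
          Polynomial.eval_C]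
      rw [e1, e2]
  constructor
  · intro y hy
    obtain ⟨w, hw, ⟨x, hx⟩, hsum⟩ := good_all d' hd'.1 ψ hψ i y
    have hB := claimB (KaehlerDifferential.D R A[X])
      (KaehlerDifferential.span_range_derivation R A[X]) d' hd'.1 (phiE R A) hd'.2 i _ w le_rfl hw
      (by rw [hsum]; exact hy)
    rw [hsum, ← hx] at hB
    refine ⟨x, ?_, hB⟩
    show d i x = 0
    have h1 : d' i (ψ i x) = 0 := by
      have h2 : y - ψ i x ∈ DeRham.cocycles d' i := cob_le_coc d' hd'.2 i hB
      have h3 : d' i (y - ψ i x) = 0 := h2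
      have h4 : d' i y = 0 := hy
      rw [map_sub, h4, zero_sub, neg_eq_zero] at h3
      exact h3
    rw [← hρψ (i + 1) (d i x), hcomm, h1, map_zero]
  · intro x _ hex
    cases i with
    | zero =>
      have h0 : ψ 0 x = 0 := (Submodule.mem_bot R).mp hex
      have hx0 : x = 0 := by rw [← hρψ 0 x, h0, map_zero]
      rw [hx0]
      exact Submodule.zero_mem _
    | succ i =>
      obtain ⟨η, hη⟩ := hex
      refine ⟨ρ i η, ?_⟩
      rw [← hρ2, hη, hρψ]

end Groth.Agent.Lib.PoincareCartanH1
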