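import Mathlib
import Groth.Prelude.Def_DeRham

/-!
# The formal Poincaré lemma for power series rings in characteristic zero (helper1)

Cartan homotopy with the Euler vector field on the graded pieces of the exterior algebra.
-/

set_option autoImplicit false
set_option maxHeartbeats 1000000

universe u

open MvPowerSeries

namespace Groth.Agent.Lib.PoincarePSH1

/-! ### contraction and wedge on graded pieces of an exterior algebra -/

section Contract

variable {R : Type*} [CommRing R] {N : Type*} [AddCommGroup N] [Module R N] (φ : Module.Dual R N)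

/-- contraction with a linear form -/
noncomputable def ctr : ExteriorAlgebra R N →ₗ[R] ExteriorAlgebra R N :=
  CliffordAlgebra.contractLeft (Q := (0 : QuadraticForm R N)) φ

lemma ctr_ι_mul (v : N) (x : ExteriorAlgebra R N) :
    ctr φ (ExteriorAlgebra.ι R v * x) = φ v • x - ExteriorAlgebra.ι R v * ctr φ x :=
  CliffordAlgebra.contractLeft_ι_mul φ v x

lemma ctr_one : ctr φ (1 : ExteriorAlgebra R N) = 0 := CliffordAlgebra.contractLeft_one _ φ

lemma ι_mul_mem (q : ℕ) (v : N) (x : ExteriorAlgebra R N)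
    (hx : x ∈ ExteriorAlgebra.exteriorPower R q N) :
    ExteriorAlgebra.ι R v * x ∈ ExteriorAlgebra.exteriorPower R (q + 1) N := by
  show _ ∈ LinearMap.range (ExteriorAlgebra.ι R) ^ (q + 1)
  rw [pow_succ']
  exact Submodule.mul_mem_mul (LinearMap.mem_range_self _ v) hx

lemma ctr_ιMulti_mem : ∀ (q : ℕ) (v : Fin (q + 1) → N),
    ctr φ (ExteriorAlgebra.ιMulti R (q + 1) v) ∈ ExteriorAlgebra.exteriorPower R q N := by
  intro q
  induction q with
  | zero =>
    intro v
    rw [ExteriorAlgebra.ιMulti_succ_apply, ctr_ι_mul, ExteriorAlgebra.ιMulti_zero_apply, ctr_one,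
      mul_zero, sub_zero]
    show _ ∈ LinearMap.range (ExteriorAlgebra.ι R) ^ 0
    rw [pow_zero, Algebra.smul_def, mul_one]
    exact Submodule.algebraMap_mem _
  | succ q ih =>
    intro v
    rw [ExteriorAlgebra.ιMulti_succ_apply, ctr_ι_mul]
    refine Submodule.sub_mem _ (Submodule.smul_mem _ _ ?_) (ι_mul_mem q _ _ (ih _))
    exact ExteriorAlgebra.ιMulti_range R (q + 1) (Set.mem_range_self _)

lemma ctr_mem (q : ℕ) (ω : ExteriorAlgebra R N)
    (hω : ω ∈ ExteriorAlgebra.exteriorPower R (q + 1) N) :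
    ctr φ ω ∈ ExteriorAlgebra.exteriorPower R q N := by
  rw [← ExteriorAlgebra.ιMulti_span_fixedDegree] at hω
  induction hω using Submodule.span_induction with
  | mem x hx =>
    obtain ⟨v, rfl⟩ := hx
    exact ctr_ιMulti_mem φ q v
  | zero => rw [map_zero]; exact Submodule.zero_mem _
  | add x y _ _ hx hy => rw [map_add]; exact Submodule.add_mem _ hx hy
  | smul r x _ hx => rw [map_smul]; exact Submodule.smul_mem _ _ hx

/-- contraction on graded pieces -/
noncomputable def ctrV (q : ℕ) :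
    ↥(ExteriorAlgebra.exteriorPower R (q + 1) N) →ₗ[R] ↥(ExteriorAlgebra.exteriorPower R q N) :=
  LinearMap.codRestrict _ ((ctr φ).comp (Submodule.subtype _)) (fun η => ctr_mem φ q η.1 η.2)

lemma ctrV_coe (q : ℕ) (η : ↥(ExteriorAlgebra.exteriorPower R (q + 1) N)) :
    ((ctrV φ q η : ↥(ExteriorAlgebra.exteriorPower R q N)) : ExteriorAlgebra R N) =
      ctr φ (η : ExteriorAlgebra R N) := rfl

/-- left wedge with a vector on graded pieces -/
noncomputable def wdg (v : N) (q : ℕ) :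
    ↥(ExteriorAlgebra.exteriorPower R q N) →ₗ[R] ↥(ExteriorAlgebra.exteriorPower R (q + 1) N) :=
  LinearMap.codRestrict _
    ((LinearMap.mulLeft R (ExteriorAlgebra.ι R v)).comp (Submodule.subtype _))
    (fun η => ι_mul_mem q v η.1 η.2)

lemma wdg_coe (v : N) (q : ℕ) (η : ↥(ExteriorAlgebra.exteriorPower R q N)) :
    ((wdg v q η : ↥(ExteriorAlgebra.exteriorPower R (q + 1) N)) : ExteriorAlgebra R N) =
      ExteriorAlgebra.ι R v * (η : ExteriorAlgebra R N) := rfl

end Contract

variable (σ : Type u) (k : Type u) [Field k]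

abbrev A := MvPowerSeries σ k
abbrev M := σ → MvPowerSeries σ k
abbrev Lam := ExteriorAlgebra (MvPowerSeries σ k) (σ → MvPowerSeries σ k)
abbrev V (q : ℕ) := ↥(ExteriorAlgebra.exteriorPower (MvPowerSeries σ k) q (σ → MvPowerSeries σ k))

/-! ### the Euler operator on power series -/

section Euler

variable {σ k} [Fintype σ]

/-- the Euler operator `Σ x_i ∂_i` -/
noncomputable def euler (f : A σ k) : A σ k := ∑ i, (X i : A σ k) * pderiv k i f

lemma coeff_X_mul_pderiv (i : σ) (f : A σ k) (a : σ →₀ ℕ) :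
    coeff a ((X i : A σ k) * pderiv k i f) = ((a i : ℕ) : k) * coeff a f := by
  classical
  rw [show (X i : A σ k) = monomial (Finsupp.single i 1) 1 from rfl, coeff_monomial_mul]
  split_ifs with h
  · rw [one_mul, coeff_pderiv]
    have hi : 1 ≤ a i := Finsupp.single_le_iff.mp h
    have h2 : a - Finsupp.single i 1 + Finsupp.single i 1 = a := tsub_add_cancel_of_le h
    rw [h2]
    have h3 : (a - Finsupp.single i 1 : σ →₀ ℕ) i + 1 = a i := by
      simp only [Finsupp.coe_tsub, Pi.sub_apply, Finsupp.single_eq_same]; omega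
    have h4 : (((a - Finsupp.single i 1 : σ →₀ ℕ) i : ℕ) : k) + 1 = ((a i : ℕ) : k) := by
      rw [← h3]; push_cast; ring
    rw [h4, mul_comm]
  · have hi : a i = 0 := by
      by_contra hne
      exact h (Finsupp.single_le_iff.mpr (Nat.one_le_iff_ne_zero.mpr hne))
    rw [hi, Nat.cast_zero, zero_mul]

lemma coeff_euler (f : A σ k) (a : σ →₀ ℕ) :
    coeff a (euler f) = ((a.degree : ℕ) : k) * coeff a f := by
  unfold euler
  rw [map_sum, Finset.sum_congr rfl (fun i _ => coeff_X_mul_pderiv i f a), ← Finset.sum_mul,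
    Finsupp.degree_eq_sum, Nat.cast_sum]

/-- `E + r` -/
noncomputable def TT (r : ℕ) (f : A σ k) : A σ k := euler f + ((r : ℕ) : k) • f

lemma coeff_TT (r : ℕ) (f : A σ k) (a : σ →₀ ℕ) :
    coeff a (TT r f) = ((a.degree + r : ℕ) : k) * coeff a f := by
  unfold TT
  rw [map_add, coeff_euler, MvPowerSeries.coeff_smul, Nat.cast_add, add_mul]

/-- the inverse of `E + r` -/
noncomputable def SS (r : ℕ) (f : A σ k) : A σ k :=
  fun a => coeff a f / ((a.degree + r : ℕ) : k)

lemma coeff_SS (r : ℕ) (f : A σ k) (a : σ →₀ ℕ) :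
    coeff a (SS r f) = coeff a f / ((a.degree + r : ℕ) : k) := rfl

variable [CharZero k]

lemma TT_SS (r : ℕ) (hr : r ≠ 0) (f : A σ k) : TT r (SS r f) = f := by
  ext a
  rw [coeff_TT, coeff_SS]
  have hne : ((a.degree + r : ℕ) : k) ≠ 0 := Nat.cast_ne_zero.mpr (by omega)
  field_simp

lemma TT_inj (r : ℕ) (hr : r ≠ 0) (f : A σ k) (h : TT r f = 0) : f = 0 := by
  ext a
  have h1 := congrArg (coeff a) h
  rw [coeff_TT, map_zero] at h1
  have hne : ((a.degree + r : ℕ) : k) ≠ 0 := Nat.cast_ne_zero.mpr (by omega)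
  rw [map_zero]
  exact (mul_eq_zero.mp h1).resolve_left hne

end Euler

/-! ### Leibniz rules for a family satisfying the de Rham rule -/

section Rule

variable {σ k} [Fintype σ] [DecidableEq σ]
variable (δ : Derivation k (A σ k) (M σ k))
  (hδ : ∀ (f : A σ k) (i : σ), δ f i = pderiv k i f)
  (d : ∀ p : ℕ, V σ k p →ₗ[k] V σ k (p + 1)) (hrule : DeRham.IsRule δ d)

/-- the Euler linear form -/
noncomputable def φE : Module.Dual (A σ k) (M σ k) :=
  ∑ i, (X i : A σ k) • (LinearMap.proj i : (M σ k) →ₗ[A σ k] A σ k)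

lemma φE_apply (v : M σ k) : φE (σ := σ) (k := k) v = ∑ i, (X i : A σ k) * v i := by
  unfold φE
  simp [LinearMap.sum_apply]

include hδ in
lemma e_eq (i : σ) : δ (X i) = Pi.single i 1 := by
  funext j
  rw [hδ, pderiv_X]
  by_cases h : j = i
  · subst h; simp
  · simp [h, Ne.symm h]

include hδ in
lemma φE_δ (f : A σ k) : φE (δ f) = euler f := by
  rw [φE_apply]
  unfold euler
  exact Finset.sum_congr rfl fun i _ => by rw [hδ]

include hδ in
lemma φE_δX (i : σ) : φE (δ (X i : A σ k)) = X i := by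
  rw [φE_apply, e_eq δ hδ]
  simp [Pi.single_apply]

include hδ in
lemma span_e : Submodule.span (A σ k) (Set.range fun i : σ => δ (X i : A σ k)) = ⊤ := by
  have : (fun i : σ => δ (X i : A σ k)) = ⇑(Pi.basisFun (A σ k) σ) := by
    funext i; rw [e_eq δ hδ, Pi.basisFun_apply]
  rw [this]; exact (Pi.basisFun _ _).span_eq

/-- the monomial form `dx_{I 0} ∧ ... ∧ dx_{I (q-1)}` -/
noncomputable def mI (q : ℕ) (I : Fin q → σ) : V σ k q :=
  exteriorPower.ιMulti (A σ k) q (fun j => δ (X (I j)))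

lemma mI_coe_zero (I : Fin 0 → σ) : ((mI δ 0 I : V σ k 0) : Lam σ k) = 1 :=
  ExteriorAlgebra.ιMulti_zero_apply _

lemma mI_coe_succ (q : ℕ) (I : Fin (q + 1) → σ) :
    ((mI δ (q + 1) I : V σ k (q + 1)) : Lam σ k) =
      ExteriorAlgebra.ι (A σ k) (δ (X (I 0))) * ((mI δ q (fun j => I j.succ) : V σ k q) : Lam σ k) := by
  show ExteriorAlgebra.ιMulti (A σ k) (q + 1) _ = _ * ExteriorAlgebra.ιMulti (A σ k) q _
  rw [ExteriorAlgebra.ιMulti_succ_apply]
  rfl

include hrule in
lemma rule1_coe (q : ℕ) (I : Fin q → σ) (f : A σ k) :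
    ((d q (f • mI δ q I) : V σ k (q + 1)) : Lam σ k) =
      ExteriorAlgebra.ι (A σ k) (δ f) * ((mI δ q I : V σ k q) : Lam σ k) := by
  have h := hrule q f (fun j => X (I j))
  have h' : d q (f • mI δ q I) =
      exteriorPower.ιMulti (A σ k) (q + 1) (Fin.cons (δ f) (fun j => δ (X (I j)))) := h
  rw [h']
  show ExteriorAlgebra.ιMulti (A σ k) (q + 1) _ = _ * ExteriorAlgebra.ιMulti (A σ k) q _
  rw [ExteriorAlgebra.ιMulti_succ_apply]
  rfl

include hrule in
lemma d_mI (q : ℕ) (I : Fin q → σ) : d q (mI δ q I) = 0 := by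
  have := rule1_coe δ d hrule q I 1
  rw [one_smul, Derivation.map_one_eq_zero, map_zero, zero_mul] at this
  exact Subtype.ext this

include hδ hrule in
lemma leib (q : ℕ) (η : V σ k q) : ∀ f : A σ k,
    ((d q (f • η) : V σ k (q + 1)) : Lam σ k) =
      ExteriorAlgebra.ι (A σ k) (δ f) * (η : Lam σ k) + f • ((d q η : V σ k (q + 1)) : Lam σ k) := by
  have hη : η ∈ Submodule.span (A σ k)
      (⇑(exteriorPower.ιMulti (A σ k) q) '' {a | Set.range a ⊆ Set.range fun i : σ => δ (X i : A σ k)}) := by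
    rw [exteriorPower.ιMulti_span_of_span (A σ k) q (M σ k) (span_e δ hδ)]; trivial
  induction hη using Submodule.span_induction with
  | mem x hx =>
    obtain ⟨v, hv, rfl⟩ := hx
    have hv' : ∀ j, ∃ i, δ (X i : A σ k) = v j := fun j => hv (Set.mem_range_self j)
    choose I hI using hv'
    have hvI : v = fun j => δ (X (I j)) := funext fun j => (hI j).symm
    have hx : exteriorPower.ιMulti (A σ k) q v = mI δ q I := by rw [hvI]; rfl
    intro f
    rw [hx, rule1_coe δ d hrule, d_mI δ d hrule]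
    simp
  | zero =>
    intro f
    simp
  | add x y _ _ hx hy =>
    intro f
    rw [smul_add, map_add, map_add, Submodule.coe_add, Submodule.coe_add, Submodule.coe_add, hx f,
      hy f, mul_add, smul_add]
    abel
  | smul g x _ hx =>
    intro f
    rw [smul_smul, hx (f * g), hx g, Derivation.leibniz, Submodule.coe_smul]
    simp only [map_add, map_smul, add_mul, smul_mul_assoc, mul_smul_comm, smul_add, smul_smul]
    abel

include hδ hrule in
lemma leib_wdg (q : ℕ) (x : A σ k) (η : V σ k q) :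
    ((d (q + 1) (wdg (δ x) q η) : V σ k (q + 2)) : Lam σ k) =
      -(ExteriorAlgebra.ι (A σ k) (δ x) * ((d q η : V σ k (q + 1)) : Lam σ k)) := by
  have hη : η ∈ Submodule.span (A σ k)
      (⇑(exteriorPower.ιMulti (A σ k) q) '' {a | Set.range a ⊆ Set.range fun i : σ => δ (X i : A σ k)}) := by
    rw [exteriorPower.ιMulti_span_of_span (A σ k) q (M σ k) (span_e δ hδ)]; trivial
  induction hη using Submodule.span_induction with
  | mem y hy =>
    obtain ⟨v, hv, rfl⟩ := hy
    have hv' : ∀ j, ∃ i, δ (X i : A σ k) = v j := fun j => hv (Set.mem_range_self j)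
    choose I hI using hv'
    have hvI : v = fun j => δ (X (I j)) := funext fun j => (hI j).symm
    have hy : exteriorPower.ιMulti (A σ k) q v = mI δ q I := by rw [hvI]; rfl
    rw [hy, d_mI δ d hrule]
    have h := hrule (q + 1) 1 (Fin.cons x (fun j => X (I j)))
    have hgen : DeRham.gen δ (q + 1) 1 (Fin.cons x (fun j => X (I j))) =
        wdg (δ x) q (mI δ q I) := by
      apply Subtype.ext
      rw [wdg_coe]
      show ((1 : A σ k) • exteriorPower.ιMulti (A σ k) (q + 1) _ : V σ k (q + 1)).1 = _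
      rw [one_smul]
      show ExteriorAlgebra.ιMulti (A σ k) (q + 1) _ = _ * ExteriorAlgebra.ιMulti (A σ k) q _
      rw [ExteriorAlgebra.ιMulti_succ_apply]
      rfl
    rw [hgen] at h
    rw [h]
    show ExteriorAlgebra.ιMulti (A σ k) (q + 2) _ = _
    rw [ExteriorAlgebra.ιMulti_succ_apply]
    simp
  | zero => simp
  | add y z _ _ hy hz =>
    rw [map_add, map_add, map_add, Submodule.coe_add, Submodule.coe_add, hy, hz, mul_add]
    abel
  | smul g y _ hy =>
    rw [map_smul, leib δ hδ d hrule (q + 1) _ g, leib δ hδ d hrule q y g, hy, wdg_coe]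
    have hsw : ExteriorAlgebra.ι (A σ k) (δ g) * ExteriorAlgebra.ι (A σ k) (δ x) =
        -(ExteriorAlgebra.ι (A σ k) (δ x) * ExteriorAlgebra.ι (A σ k) (δ g)) :=
      eq_neg_of_add_eq_zero_left (ExteriorAlgebra.ι_add_mul_swap _ _)
    rw [← mul_assoc, hsw, mul_add, mul_smul_comm, smul_neg, neg_mul, mul_assoc, neg_add]

include hδ in
lemma ctrV_mI_zero (I : Fin 1 → σ) :
    ctrV φE 0 (mI δ 1 I) = (X (I 0) : A σ k) • mI δ 0 (fun j => I j.succ) := by
  apply Subtype.ext
  rw [ctrV_coe, mI_coe_succ, ctr_ι_mul, φE_δX δ hδ, mI_coe_zero, ctr_one, mul_zero, sub_zero,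
    Submodule.coe_smul, mI_coe_zero]

include hδ in
lemma ctrV_mI_succ (q : ℕ) (I : Fin (q + 2) → σ) :
    ctrV φE (q + 1) (mI δ (q + 2) I) =
      (X (I 0) : A σ k) • mI δ (q + 1) (fun j => I j.succ) -
        wdg (δ (X (I 0))) q (ctrV φE q (mI δ (q + 1) (fun j => I j.succ))) := by
  apply Subtype.ext
  rw [ctrV_coe, mI_coe_succ, ctr_ι_mul, φE_δX δ hδ, Submodule.coe_sub, Submodule.coe_smul, wdg_coe,
    ctrV_coe]

include hδ hrule in
lemma d_ctrV_mI : ∀ (q : ℕ) (I : Fin (q + 1) → σ),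
    d q (ctrV φE q (mI δ (q + 1) I)) = ((q + 1 : ℕ) : k) • mI δ (q + 1) I := by
  intro q
  induction q with
  | zero =>
    intro I
    apply Subtype.ext
    rw [ctrV_mI_zero δ hδ, rule1_coe δ d hrule, ← mI_coe_succ]
    have h1 : (((0 + 1 : ℕ)) : k) = 1 := by norm_num
    rw [h1, one_smul]
  | succ q ih =>
    intro I
    apply Subtype.ext
    rw [ctrV_mI_succ δ hδ, map_sub, Submodule.coe_sub, rule1_coe δ d hrule, ← mI_coe_succ,
      leib_wdg δ hδ d hrule, ih, Submodule.coe_smul_of_tower, mul_smul_comm, ← mI_coe_succ,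
      sub_neg_eq_add, Submodule.coe_smul_of_tower]
    rw [Nat.cast_succ (q + 1), add_smul, one_smul, add_comm]

/-- the Lie derivative along the Euler field, on `(q+1)`-forms -/
noncomputable def Lq (q : ℕ) : V σ k (q + 1) →+ V σ k (q + 1) :=
  (d q).toAddMonoidHom.comp (ctrV φE q).toAddMonoidHom +
    (ctrV φE (q + 1)).toAddMonoidHom.comp (d (q + 1)).toAddMonoidHom

lemma Lq_apply (q : ℕ) (η : V σ k (q + 1)) :
    Lq d q η = d q (ctrV φE q η) + ctrV φE (q + 1) (d (q + 1) η) := rfl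

include hδ hrule in
lemma Lq_fm (q : ℕ) (I : Fin (q + 1) → σ) (f : A σ k) :
    Lq d q (f • mI δ (q + 1) I) = TT (q + 1) f • mI δ (q + 1) I := by
  apply Subtype.ext
  rw [Lq_apply, Submodule.coe_add, map_smul, leib δ hδ d hrule, d_ctrV_mI δ hδ d hrule, ctrV_coe,
    ctrV_coe, rule1_coe δ d hrule, ctr_ι_mul, φE_δ δ hδ, Submodule.coe_smul_of_tower,
    Submodule.coe_smul]
  unfold TT
  rw [add_smul, smul_assoc, smul_comm f]
  abel

end Rule

/-! ### the main theorem -/

section Basis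

variable {σ k} [Fintype σ] [DecidableEq σ]
variable (δ : Derivation k (A σ k) (M σ k))
  (hδ : ∀ (f : A σ k) (i : σ), δ f i = pderiv k i f)
  (d : ∀ p : ℕ, V σ k p →ₗ[k] V σ k (p + 1)) (hrule : DeRham.IsRule δ d)

include hδ in
lemma hbasis (q : ℕ) : ∃ (ι : Type u) (B : Module.Basis ι (A σ k) (V σ k q))
    (IJ : ι → (Fin q → σ)), ∀ J, B J = mI δ q (IJ J) := by
  obtain ⟨b, hb⟩ : ∃ b : Module.Basis σ (A σ k) (M σ k), ∀ i, b i = δ (X i) :=
    ⟨Pi.basisFun _ _, fun i => by rw [Pi.basisFun_apply, e_eq δ hδ]⟩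
  letI : LinearOrder σ := LinearOrder.lift' (Fintype.equivFin σ) (Fintype.equivFin σ).injective
  refine ⟨_, b.exteriorPower q, fun J => ⇑(Set.powersetCard.ofFinEmbEquiv.symm J), fun J => ?_⟩
  rw [exteriorPower.basis_apply]
  unfold exteriorPower.ιMulti_family mI
  congr 1
  funext j
  simp [hb]

include hδ hrule in
lemma hLsum (q : ℕ) (ι : Type u) (B : Module.Basis ι (A σ k) (V σ k (q + 1)))
    (IJ : ι → (Fin (q + 1) → σ)) (hB : ∀ J, B J = mI δ (q + 1) (IJ J))
    (s : Finset ι) (g : ι → A σ k) :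
    Lq d q (∑ J ∈ s, g J • B J) = ∑ J ∈ s, TT (q + 1) (g J) • B J := by
  rw [map_sum]
  refine Finset.sum_congr rfl fun J _ => ?_
  rw [hB J, Lq_fm δ hδ d hrule]

lemma hrepr (q : ℕ) (ι : Type u) (B : Module.Basis ι (A σ k) (V σ k q))
    (η : V σ k q) : η = ∑ J ∈ (B.repr η).support, (B.repr η) J • B J := by
  conv_lhs => rw [← B.linearCombination_repr η, Finsupp.linearCombination_apply]
  rfl

variable [CharZero k]

include hδ hrule in
lemma hLinj (q : ℕ) (η : V σ k (q + 1)) (hη : Lq d q η = 0) : η = 0 := by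
  obtain ⟨ι, B, IJ, hB⟩ := hbasis δ hδ (q + 1)
  rw [hrepr (q + 1) ι B η, hLsum δ hδ d hrule q ι B IJ hB] at hη
  have h0 := linearIndependent_iff'.mp B.linearIndependent _ _ hη
  rw [hrepr (q + 1) ι B η]
  refine Finset.sum_eq_zero fun J hJ => ?_
  rw [TT_inj (q + 1) (Nat.succ_ne_zero q) _ (h0 J hJ), zero_smul]

include hδ hrule in
lemma hLsurj (q : ℕ) (ω : V σ k (q + 1)) : ∃ ω', Lq d q ω' = ω := by
  obtain ⟨ι, B, IJ, hB⟩ := hbasis δ hδ (q + 1)
  refine ⟨∑ J ∈ (B.repr ω).support, SS (q + 1) ((B.repr ω) J) • B J, ?_⟩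
  rw [hLsum δ hδ d hrule q ι B IJ hB]
  conv_rhs => rw [hrepr (q + 1) ι B ω]
  refine Finset.sum_congr rfl fun J _ => ?_
  rw [TT_SS (q + 1) (Nat.succ_ne_zero q)]

end Basis

section Main

variable {σ k} [CharZero k]

theorem main18616 [Finite σ]
    (δ : Derivation k (MvPowerSeries σ k) (σ → MvPowerSeries σ k))
    (hδ : ∀ (f : MvPowerSeries σ k) (i : σ), δ f i = MvPowerSeries.pderiv k i f)
    (d : ∀ p : ℕ, ↥(ExteriorAlgebra.exteriorPower (MvPowerSeries σ k) p (σ → MvPowerSeries σ k)) →ₗ[k]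
      ↥(ExteriorAlgebra.exteriorPower (MvPowerSeries σ k) (p + 1) (σ → MvPowerSeries σ k)))
    (hd : DeRham.IsDiff δ d) (p : ℕ) :
    DeRham.cocycles d (p + 1) ≤ DeRham.coboundaries d (p + 1) := by
  classical
  haveI : Fintype σ := Fintype.ofFinite σ
  obtain ⟨hrule, hdd⟩ := hd
  have hdd' : ∀ (q : ℕ) (x : V σ k q), d (q + 1) (d q x) = 0 := fun q x =>
    LinearMap.congr_fun (hdd q) x
  intro ω hω
  have hω' : d (p + 1) ω = 0 := hω
  obtain ⟨ω', hω'L⟩ := hLsurj δ hδ d hrule p ω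
  have h1 : d (p + 1) (ctrV φE (p + 1) (d (p + 1) ω')) = 0 := by
    have := congrArg (d (p + 1)) hω'L
    rw [Lq_apply, map_add, hdd', zero_add, hω'] at this
    exact this
  have h2 : Lq d (p + 1) (d (p + 1) ω') = 0 := by
    rw [Lq_apply, h1, hdd', map_zero, add_zero]
  have h3 : d (p + 1) ω' = 0 := hLinj δ hδ d hrule (p + 1) _ h2
  have h4 : ω = d p (ctrV φE p ω') := by
    rw [← hω'L, Lq_apply, h3, map_zero, add_zero]
  have h5 : ∃ θ, d p θ = ω := ⟨_, h4.symm⟩
  rw [DeRham.coboundaries]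
  obtain ⟨θ, hθ⟩ := h5
  exact ⟨θ, hθ⟩

end Main

end Groth.Agent.Lib.PoincarePSH1
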