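import Mathlib
import Groth.Prelude.Def_DeRham
import Groth.Agent.Lib.DeRham_helper1
import Groth.Agent.Lib.PoincarePS_helper1
import Groth.Agent.S15293
import Groth.Agent.S15294

/-!
# Homotopy invariance of algebraic de Rham cohomology: `A → A[X]` over a `ℚ`-algebra (helper1)

Cartan homotopy with the Euler field `X ∂/∂X`; weight decomposition by eigenvectors of the Lie
derivative.
-/

set_option autoImplicit false
set_option maxHeartbeats 1000000

universe u

open Polynomial

namespace Groth.Agent.Lib.PoincareCartanH1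

open Groth.Agent.Lib.PoincarePSH1 Groth.Agent.Lib.DeRhamH1

/-- graded piece of the exterior algebra -/
abbrev VV (B M : Type u) [CommRing B] [AddCommGroup M] [Module B M] (q : ℕ) :=
  ↥(ExteriorAlgebra.exteriorPower B q M)

section General

variable {R : Type u} {B M : Type u} [CommRing R] [CommRing B] [Algebra R B]
  [AddCommGroup M] [Module B M] [Module R M] [IsScalarTower R B M]
  (δ : Derivation R B M) (hgen : Submodule.span B (Set.range δ) = ⊤)
  (d : ∀ p : ℕ, VV B M p →ₗ[R] VV B M (p + 1)) (hrule : DeRham.IsRule δ d)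
  (φ : Module.Dual B M)

lemma gen_coe (q : ℕ) (b₀ : B) (b : Fin q → B) :
    ((DeRham.gen δ q b₀ b : VV B M q) : ExteriorAlgebra B M) =
      b₀ • ExteriorAlgebra.ιMulti B q (fun i => δ (b i)) := rfl

include hrule in
lemma rule_coe (q : ℕ) (b₀ : B) (b : Fin q → B) :
    ((d q (DeRham.gen δ q b₀ b) : VV B M (q + 1)) : ExteriorAlgebra B M) =
      ExteriorAlgebra.ι B (δ b₀) * ExteriorAlgebra.ιMulti B q (fun i => δ (b i)) := by
  rw [hrule q b₀ b]
  show ExteriorAlgebra.ιMulti B (q + 1) _ = _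
  rw [ExteriorAlgebra.ιMulti_succ_apply]
  rfl

include hgen hrule in
lemma leib (q : ℕ) (η : VV B M q) : ∀ f : B,
    ((d q (f • η) : VV B M (q + 1)) : ExteriorAlgebra B M) =
      ExteriorAlgebra.ι B (δ f) * (η : ExteriorAlgebra B M) +
        f • ((d q η : VV B M (q + 1)) : ExteriorAlgebra B M) := by
  refine gen_induction δ hgen q (fun η => ∀ f : B,
    ((d q (f • η) : VV B M (q + 1)) : ExteriorAlgebra B M) =
      ExteriorAlgebra.ι B (δ f) * (η : ExteriorAlgebra B M) +
        f • ((d q η : VV B M (q + 1)) : ExteriorAlgebra B M)) ?_ ?_ ?_ η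
  · intro f
    simp
  · intro x y hx hy f
    rw [smul_add, map_add, map_add, Submodule.coe_add, Submodule.coe_add, Submodule.coe_add, hx f,
      hy f, mul_add, smul_add]
    abel
  · intro b₀ b f
    rw [smul_gen, rule_coe δ d hrule, rule_coe δ d hrule, gen_coe, Derivation.leibniz, map_add,
      add_mul, map_smul, map_smul, smul_mul_assoc, smul_mul_assoc, mul_smul_comm]
    abel

lemma wdg_gen (q : ℕ) (x b₀ : B) (b : Fin q → B) :
    wdg (δ x) q (DeRham.gen δ q b₀ b) = DeRham.gen δ (q + 1) b₀ (Fin.cons x b) := by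
  apply Subtype.ext
  rw [wdg_coe, gen_coe, gen_coe, ExteriorAlgebra.ιMulti_succ_apply, mul_smul_comm]
  rfl

include hgen hrule in
lemma leib_wdg (q : ℕ) (x : B) (η : VV B M q) :
    ((d (q + 1) (wdg (δ x) q η) : VV B M (q + 2)) : ExteriorAlgebra B M) =
      -(ExteriorAlgebra.ι B (δ x) * ((d q η : VV B M (q + 1)) : ExteriorAlgebra B M)) := by
  refine gen_induction δ hgen q (fun η =>
    ((d (q + 1) (wdg (δ x) q η) : VV B M (q + 2)) : ExteriorAlgebra B M) =
      -(ExteriorAlgebra.ι B (δ x) * ((d q η : VV B M (q + 1)) : ExteriorAlgebra B M))) ?_ ?_ ?_ η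
  · simp
  · intro y z hy hz
    rw [map_add, map_add, map_add, Submodule.coe_add, Submodule.coe_add, hy, hz, mul_add]
    abel
  · intro b₀ b
    rw [wdg_gen, rule_coe δ d hrule, rule_coe δ d hrule, ExteriorAlgebra.ιMulti_succ_apply]
    have hsw : ExteriorAlgebra.ι B (δ b₀) * ExteriorAlgebra.ι B (δ x) =
        -(ExteriorAlgebra.ι B (δ x) * ExteriorAlgebra.ι B (δ b₀)) :=
      eq_neg_of_add_eq_zero_left (ExteriorAlgebra.ι_add_mul_swap _ _)
    show ExteriorAlgebra.ι B (δ b₀) * (ExteriorAlgebra.ι B (δ x) *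
      ExteriorAlgebra.ιMulti B q (fun i => δ (b i))) = _
    rw [← mul_assoc, hsw, neg_mul, mul_assoc]

lemma ctr_zero_deg (η : VV B M 0) : ctr φ (η : ExteriorAlgebra B M) = 0 := by
  have h' : (η : ExteriorAlgebra B M) ∈ (1 : Submodule B (ExteriorAlgebra B M)) := by
    have h1 : ExteriorAlgebra.exteriorPower B 0 M = 1 := pow_zero _
    rw [← h1]
    exact η.2
  obtain ⟨r, hr⟩ := Submodule.mem_one.mp h'
  rw [← hr]
  exact CliffordAlgebra.contractLeft_algebraMap _ φ r

/-- `ι ∘ d` -/
noncomputable def ιd (q : ℕ) : VV B M q →+ VV B M q :=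
  (ctrV φ q).toAddMonoidHom.comp (d q).toAddMonoidHom

/-- `d ∘ ι` -/
noncomputable def dι : (q : ℕ) → VV B M q →+ VV B M q
  | 0 => 0
  | q + 1 => (d q).toAddMonoidHom.comp (ctrV φ q).toAddMonoidHom

/-- the Lie derivative -/
noncomputable def Lop (q : ℕ) : VV B M q →+ VV B M q := dι d φ q + ιd d φ q

lemma Lop_apply (q : ℕ) (η : VV B M q) : Lop d φ q η = dι d φ q η + ιd d φ q η := rfl

include hgen hrule in
lemma ιd_smul (q : ℕ) (f : B) (η : VV B M q) :
    ((ιd d φ q (f • η) : VV B M q) : ExteriorAlgebra B M) =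
      φ (δ f) • (η : ExteriorAlgebra B M) - ExteriorAlgebra.ι B (δ f) * ctr φ (η : ExteriorAlgebra B M) +
        f • ((ιd d φ q η : VV B M q) : ExteriorAlgebra B M) := by
  show ctr φ ((d q (f • η) : VV B M (q + 1)) : ExteriorAlgebra B M) = _
  rw [leib δ hgen d hrule, map_add, ctr_ι_mul, map_smul]
  rfl

include hgen hrule in
lemma dι_smul (q : ℕ) (f : B) (η : VV B M q) :
    ((dι d φ q (f • η) : VV B M q) : ExteriorAlgebra B M) =
      ExteriorAlgebra.ι B (δ f) * ctr φ (η : ExteriorAlgebra B M) +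
        f • ((dι d φ q η : VV B M q) : ExteriorAlgebra B M) := by
  cases q with
  | zero =>
    rw [ctr_zero_deg φ η, mul_zero, zero_add]
    show ((0 : VV B M 0) : ExteriorAlgebra B M) = f • ((0 : VV B M 0) : ExteriorAlgebra B M)
    simp
  | succ q =>
    show ((d q (ctrV φ q (f • η)) : VV B M (q + 1)) : ExteriorAlgebra B M) = _
    rw [map_smul, leib δ hgen d hrule, ctrV_coe]
    rfl

include hgen hrule in
lemma Lop_smul (q : ℕ) (f : B) (η : VV B M q) :
    Lop d φ q (f • η) = φ (δ f) • η + f • Lop d φ q η := by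
  apply Subtype.ext
  rw [Lop_apply, Submodule.coe_add, dι_smul δ hgen d hrule, ιd_smul δ hgen d hrule, Lop_apply,
    Submodule.coe_add, Submodule.coe_smul, Submodule.coe_smul, Submodule.coe_add, smul_add]
  abel

include hgen hrule in
lemma ιd_wdg (q : ℕ) (x : B) (η : VV B M q) :
    ((ιd d φ (q + 1) (wdg (δ x) q η) : VV B M (q + 1)) : ExteriorAlgebra B M) =
      -(φ (δ x) • ((d q η : VV B M (q + 1)) : ExteriorAlgebra B M)) +
        ExteriorAlgebra.ι B (δ x) * ((ιd d φ q η : VV B M q) : ExteriorAlgebra B M) := by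
  show ctr φ ((d (q + 1) (wdg (δ x) q η) : VV B M (q + 2)) : ExteriorAlgebra B M) = _
  rw [leib_wdg δ hgen d hrule, map_neg, ctr_ι_mul, neg_sub]
  show _ = _ + ExteriorAlgebra.ι B (δ x) * ctr φ ((d q η : VV B M (q + 1)) : ExteriorAlgebra B M)
  abel

lemma ctrV_wdg_zero (x : B) (η : VV B M 0) :
    ctrV φ 0 (wdg (δ x) 0 η) = φ (δ x) • η := by
  apply Subtype.ext
  rw [ctrV_coe, wdg_coe, ctr_ι_mul, ctr_zero_deg, mul_zero, sub_zero]
  rfl

lemma ctrV_wdg_succ (q : ℕ) (x : B) (η : VV B M (q + 1)) :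
    ctrV φ (q + 1) (wdg (δ x) (q + 1) η) = φ (δ x) • η - wdg (δ x) q (ctrV φ q η) := by
  apply Subtype.ext
  rw [ctrV_coe, wdg_coe, ctr_ι_mul, Submodule.coe_sub, wdg_coe, ctrV_coe]
  rfl

include hgen hrule in
lemma dι_wdg (q : ℕ) (x : B) (η : VV B M q) :
    ((dι d φ (q + 1) (wdg (δ x) q η) : VV B M (q + 1)) : ExteriorAlgebra B M) =
      ExteriorAlgebra.ι B (δ (φ (δ x))) * (η : ExteriorAlgebra B M) +
        φ (δ x) • ((d q η : VV B M (q + 1)) : ExteriorAlgebra B M) +
        ExteriorAlgebra.ι B (δ x) * ((dι d φ q η : VV B M q) : ExteriorAlgebra B M) := by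
  cases q with
  | zero =>
    show ((d 0 (ctrV φ 0 (wdg (δ x) 0 η)) : VV B M 1) : ExteriorAlgebra B M) = _
    rw [ctrV_wdg_zero, leib δ hgen d hrule]
    show _ = _ + _ + ExteriorAlgebra.ι B (δ x) * ((0 : VV B M 0) : ExteriorAlgebra B M)
    simp
  | succ q =>
    show ((d (q + 1) (ctrV φ (q + 1) (wdg (δ x) (q + 1) η)) : VV B M (q + 2)) :
      ExteriorAlgebra B M) = _
    rw [ctrV_wdg_succ, map_sub, Submodule.coe_sub, leib δ hgen d hrule,
      leib_wdg δ hgen d hrule, sub_neg_eq_add]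
    rfl

include hgen hrule in
lemma Lop_wdg (q : ℕ) (x : B) (η : VV B M q) :
    Lop d φ (q + 1) (wdg (δ x) q η) =
      wdg (δ (φ (δ x))) q η + wdg (δ x) q (Lop d φ q η) := by
  apply Subtype.ext
  rw [Lop_apply, Submodule.coe_add, dι_wdg δ hgen d hrule, ιd_wdg δ hgen d hrule,
    Submodule.coe_add, wdg_coe, wdg_coe, Lop_apply, Submodule.coe_add, mul_add]
  abel

include hgen hrule in
lemma eig_smul (q : ℕ) (n m : ℕ) (f : B) (η : VV B M q) (hf : φ (δ f) = n • f)
    (hη : Lop d φ q η = m • η) : Lop d φ q (f • η) = (n + m) • (f • η) := by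
  rw [Lop_smul δ hgen d hrule, hf, hη, add_smul, smul_assoc, smul_comm f m η]

lemma wdg_nsmul (v : M) (n : ℕ) (q : ℕ) (η : VV B M q) :
    wdg (n • v) q η = n • wdg v q η := by
  apply Subtype.ext
  rw [wdg_coe, map_nsmul, smul_mul_assoc, AddSubmonoidClass.coe_nsmul, wdg_coe]

include hgen hrule in
lemma eig_wdg (q : ℕ) (n m : ℕ) (x : B) (η : VV B M q) (hx : φ (δ x) = n • x)
    (hη : Lop d φ q η = m • η) :
    Lop d φ (q + 1) (wdg (δ x) q η) = (n + m) • wdg (δ x) q η := by
  rw [Lop_wdg δ hgen d hrule, hx, map_nsmul, wdg_nsmul, hη, map_nsmul, add_smul]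

include hrule in
lemma eig_base (b : Fin 0 → B) :
    Lop d φ 0 (exteriorPower.ιMulti B 0 (fun i => δ (b i))) =
      0 • (exteriorPower.ιMulti B 0 (fun i => δ (b i))) := by
  have h1 : exteriorPower.ιMulti B 0 (fun i => δ (b i)) = DeRham.gen δ 0 1 b := by
    unfold DeRham.gen
    rw [one_smul]
  have h2 : d 0 (DeRham.gen δ 0 1 b) = 0 := by
    apply Subtype.ext
    rw [rule_coe δ d hrule, Derivation.map_one_eq_zero, map_zero, zero_mul]
    rfl
  rw [zero_smul, h1]
  show (0 : VV B M 0) + ctrV φ 0 (d 0 (DeRham.gen δ 0 1 b)) = 0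
  rw [h2, map_zero, add_zero]

include hgen hrule in
lemma eig_ιMulti : ∀ (q : ℕ) (b : Fin q → B) (n : Fin q → ℕ),
    (∀ j, φ (δ (b j)) = n j • b j) →
    Lop d φ q (exteriorPower.ιMulti B q (fun j => δ (b j))) =
      (∑ j, n j) • exteriorPower.ιMulti B q (fun j => δ (b j)) := by
  intro q
  induction q with
  | zero =>
    intro b n _
    rw [Finset.univ_eq_empty, Finset.sum_empty]
    exact eig_base δ d hrule φ b
  | succ q ih =>
    intro b n hb
    have h1 : exteriorPower.ιMulti B (q + 1) (fun j => δ (b j)) =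
        wdg (δ (b 0)) q (exteriorPower.ιMulti B q (fun j => δ (b j.succ))) := by
      apply Subtype.ext
      rw [wdg_coe]
      show ExteriorAlgebra.ιMulti B (q + 1) _ = _ * ExteriorAlgebra.ιMulti B q _
      rw [ExteriorAlgebra.ιMulti_succ_apply]
      rfl
    rw [h1, eig_wdg δ hgen d hrule φ q (n 0) (∑ j : Fin q, n j.succ) (b 0) _ (hb 0)
      (ih (fun j => b j.succ) (fun j => n j.succ) (fun j => hb j.succ)), Fin.sum_univ_succ]

include hgen hrule in
lemma eig_gen (q : ℕ) (b₀ : B) (n₀ : ℕ) (b : Fin q → B) (n : Fin q → ℕ)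
    (h₀ : φ (δ b₀) = n₀ • b₀) (hb : ∀ j, φ (δ (b j)) = n j • b j) :
    Lop d φ q (DeRham.gen δ q b₀ b) = (n₀ + ∑ j, n j) • DeRham.gen δ q b₀ b := by
  unfold DeRham.gen
  exact eig_smul δ hgen d hrule φ q n₀ _ b₀ _ h₀ (eig_ιMulti δ hgen d hrule φ q b n hb)

include hgen hrule in
lemma Lop_smulR (q : ℕ) (r : R) (η : VV B M q) : Lop d φ q (r • η) = r • Lop d φ q η := by
  rw [← algebraMap_smul B r η, Lop_smul δ hgen d hrule, Derivation.map_algebraMap, map_zero,
    zero_smul, zero_add, algebraMap_smul]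

lemma Lop_mem_coboundaries (q : ℕ) (ω : VV B M q) (hω : ω ∈ DeRham.cocycles d q) :
    Lop d φ q ω ∈ DeRham.coboundaries d q := by
  have hω' : d q ω = 0 := hω
  cases q with
  | zero =>
    have h : Lop d φ 0 ω = 0 := by
      show (0 : VV B M 0) + ctrV φ 0 (d 0 ω) = 0
      rw [hω', map_zero, add_zero]
    rw [h]
    exact Submodule.zero_mem _
  | succ q =>
    have h : Lop d φ (q + 1) ω = d q (ctrV φ q ω) := by
      show d q (ctrV φ q ω) + ctrV φ (q + 1) (d (q + 1) ω) = _
      rw [hω', map_zero, add_zero]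
    rw [h]
    exact ⟨ctrV φ q ω, rfl⟩

lemma cob_le_coc (hdd : ∀ p : ℕ, d (p + 1) ∘ₗ d p = 0) (q : ℕ) :
    DeRham.coboundaries d q ≤ DeRham.cocycles d q := by
  cases q with
  | zero =>
    intro x hx
    have h : x = 0 := (Submodule.mem_bot R).mp hx
    rw [h]
    exact Submodule.zero_mem _
  | succ q =>
    rintro _ ⟨y, rfl⟩
    exact LinearMap.congr_fun (hdd q) y

lemma fsum_eq (q : ℕ) (w : ℕ →₀ VV B M q) (s : Finset ℕ) (hs : w.support ⊆ s) :
    (w.sum fun _ v => v) = ∑ n ∈ s, w n :=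
  Finsupp.sum_of_support_subset w hs _ (fun _ _ => rfl)

include hgen hrule in
/-- the weight argument: a closed form is cohomologous to its weight zero part -/
lemma claimB [Algebra ℚ R] (hdd : ∀ p : ℕ, d (p + 1) ∘ₗ d p = 0) (q : ℕ) :
    ∀ (N : ℕ) (w : ℕ →₀ VV B M q), (w.support.erase 0).card ≤ N →
      (∀ n, Lop d φ q (w n) = n • w n) →
      (w.sum fun _ v => v) ∈ DeRham.cocycles d q →
      (w.sum fun _ v => v) - w 0 ∈ DeRham.coboundaries d q := by
  have base : ∀ w : ℕ →₀ VV B M q, w.support.erase 0 = ∅ →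
      (w.sum fun _ v => v) - w 0 ∈ DeRham.coboundaries d q := by
    intro w hw
    have hs : w.support ⊆ {0} := by
      intro n hn
      by_contra h
      have : n ∈ w.support.erase 0 := Finset.mem_erase.mpr ⟨fun h0 => h (by rw [h0]; simp), hn⟩
      rw [hw] at this
      simp at this
    rw [fsum_eq q w {0} hs, Finset.sum_singleton, sub_self]
    exact Submodule.zero_mem _
  intro N
  induction N with
  | zero =>
    intro w hN _ _
    exact base w (Finset.card_eq_zero.mp (Nat.le_zero.mp hN))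
  | succ N ih =>
    intro w hN hw hcl
    by_cases hemp : w.support.erase 0 = ∅
    · exact base w hemp
    obtain ⟨n, hn⟩ := Finset.nonempty_iff_ne_empty.mpr hemp
    obtain ⟨hn0, hns⟩ := Finset.mem_erase.mp hn
    set c : R := algebraMap ℚ R ((n : ℚ)⁻¹) with hc
    have hcn : c * (n : R) = 1 := by
      rw [hc, ← map_natCast (algebraMap ℚ R) n, ← map_mul,
        inv_mul_cancel₀ (Nat.cast_ne_zero.mpr hn0), map_one]
    set η : VV B M q := w.sum fun _ v => v with hη
    have hLη : Lop d φ q η = ∑ m ∈ w.support, m • w m := by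
      rw [hη, fsum_eq q w w.support (Finset.Subset.refl _), map_sum]
      exact Finset.sum_congr rfl fun m _ => hw m
    have hLcob : Lop d φ q η ∈ DeRham.coboundaries d q := Lop_mem_coboundaries d φ q η hcl
    -- the modified decomposition
    let w' : ℕ →₀ VV B M q := Finsupp.onFinset (w.support.erase n)
      (fun m => if m = n then 0 else w m - c • (m • w m)) (by
        intro m hm
        by_cases hmn : m = n
        · rw [if_pos hmn] at hm
          exact absurd rfl hm
        · rw [if_neg hmn] at hm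
          refine Finset.mem_erase.mpr ⟨hmn, Finsupp.mem_support_iff.mpr fun h0 => hm ?_⟩
          rw [h0, smul_zero, smul_zero, sub_zero])
    have hw'app : ∀ m, w' m = if m = n then 0 else w m - c • (m • w m) := fun m => rfl
    have hw'0 : w' 0 = w 0 := by
      rw [hw'app, if_neg (Ne.symm hn0), zero_smul, smul_zero, sub_zero]
    have hw'eig : ∀ m, Lop d φ q (w' m) = m • w' m := by
      intro m
      rw [hw'app]
      by_cases hmn : m = n
      · rw [if_pos hmn, map_zero, smul_zero]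
      · rw [if_neg hmn, map_sub, Lop_smulR δ hgen d hrule, map_nsmul, hw m, smul_sub,
          smul_comm m c]
    have hw'card : (w'.support.erase 0).card ≤ N := by
      have h1 : w'.support.erase 0 ⊆ (w.support.erase 0).erase n := by
        intro m hm
        obtain ⟨hm0, hms⟩ := Finset.mem_erase.mp hm
        have hms' := Finsupp.support_onFinset_subset hms
        obtain ⟨hmn, hmw⟩ := Finset.mem_erase.mp hms'
        exact Finset.mem_erase.mpr ⟨hmn, Finset.mem_erase.mpr ⟨hm0, hmw⟩⟩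
      have h2 := Finset.card_le_card h1
      rw [Finset.card_erase_of_mem hn] at h2
      omega
    have hw'sum : (w'.sum fun _ v => v) = η - c • Lop d φ q η := by
      have hsub : w'.support ⊆ w.support :=
        (Finsupp.support_onFinset_subset).trans (Finset.erase_subset _ _)
      rw [fsum_eq q w' w.support hsub, hLη, hη, fsum_eq q w w.support (Finset.Subset.refl _),
        Finset.smul_sum, ← Finset.sum_sub_distrib]
      refine Finset.sum_congr rfl fun m _ => ?_
      rw [hw'app]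
      by_cases hmn : m = n
      · rw [if_pos hmn, hmn, ← Nat.cast_smul_eq_nsmul R n (w n), smul_smul, hcn, one_smul,
          sub_self]
      · rw [if_neg hmn]
    have hcl' : (w'.sum fun _ v => v) ∈ DeRham.cocycles d q := by
      rw [hw'sum]
      exact Submodule.sub_mem _ hcl
        (Submodule.smul_mem _ _ (cob_le_coc d hdd q hLcob))
    have h3 := ih w' hw'card hw'eig hcl'
    rw [hw'sum, hw'0] at h3
    have h4 : η - w 0 = (η - c • Lop d φ q η - w 0) + c • Lop d φ q η := by abel
    rw [h4]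
    exact Submodule.add_mem _ h3 (Submodule.smul_mem _ _ hLcob)

end General

end Groth.Agent.Lib.PoincareCartanH1
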