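import Mathlib

/-!
# The algebraic Poincaré lemma for polynomial rings in characteristic zero (helper1)

Cartan homotopy with the Euler vector field: `L = d ι_E + ι_E d` multiplies `x^a dx_I` by
`|a| + |I|`.
-/

set_option autoImplicit false
set_option maxHeartbeats 1000000

universe u

open MvPolynomial

namespace Groth.Agent.Lib.PoincarePolyH1

variable (k : Type u) [Field k] (n : ℕ)

abbrev A := MvPolynomial (Fin n) k
abbrev Om := KaehlerDifferential k (MvPolynomial (Fin n) k)
abbrev Lam := ExteriorAlgebra (MvPolynomial (Fin n) k) (KaehlerDifferential k (MvPolynomial (Fin n) k))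

/-- `dx_i` -/
noncomputable def e (i : Fin n) : Om k n := KaehlerDifferential.D k (A k n) (X i)

/-- the Euler functional `dx_i ↦ x_i` -/
noncomputable def φ : Module.Dual (A k n) (Om k n) :=
  (KaehlerDifferential.mvPolynomialBasis k (Fin n)).constr (A k n) (fun i => (X i : A k n))

lemma φ_e (i : Fin n) : φ k n (e k n i) = X i := by
  unfold φ e
  rw [← KaehlerDifferential.mvPolynomialBasis_apply, Module.Basis.constr_basis]

lemma φ_D (f : A k n) :
    φ k n (KaehlerDifferential.D k (A k n) f) = ∑ i, MvPolynomial.pderiv i f * X i := by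
  unfold φ
  rw [Module.Basis.constr_apply_fintype]
  refine Finset.sum_congr rfl fun i _ => ?_
  rw [Module.Basis.equivFun_apply, KaehlerDifferential.mvPolynomialBasis_repr_apply, smul_eq_mul]

lemma φ_D_monomial (a : Fin n →₀ ℕ) :
    φ k n (KaehlerDifferential.D k (A k n) (monomial a 1)) =
      ((a.degree : ℕ) : k) • (monomial a (1 : k) : A k n) := by
  rw [φ_D]
  have h : ∀ i : Fin n, MvPolynomial.pderiv i (monomial a (1 : k)) * X i =
      ((a i : ℕ) : k) • (monomial a (1 : k) : A k n) := by
    intro i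
    rw [MvPolynomial.pderiv_monomial, one_mul,
      show (X i : A k n) = monomial (Finsupp.single i 1) 1 from rfl, monomial_mul, mul_one,
      smul_monomial, smul_eq_mul, mul_one]
    by_cases hi : a i = 0
    · rw [hi, Nat.cast_zero, monomial_zero, monomial_zero]
    · have : a - Finsupp.single i 1 + Finsupp.single i 1 = a := by
        ext j
        simp only [Finsupp.coe_add, Finsupp.coe_tsub, Pi.add_apply, Pi.sub_apply,
          Finsupp.single_apply]
        split_ifs with h
        · subst h; omega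
        · omega
      rw [this]
  rw [Finset.sum_congr rfl (fun i _ => h i), ← Finset.sum_smul, Finsupp.degree_eq_sum,
    Nat.cast_sum]

/-- the monomial form `dx_{I 0} ∧ ... ∧ dx_{I (q-1)}` -/
noncomputable def m (q : ℕ) (I : Fin q → Fin n) : Lam k n :=
  ExteriorAlgebra.ιMulti (A k n) q (fun j => e k n (I j))

lemma m_zero (I : Fin 0 → Fin n) : m k n 0 I = 1 := ExteriorAlgebra.ιMulti_zero_apply _

lemma m_succ (q : ℕ) (I : Fin (q + 1) → Fin n) :
    m k n (q + 1) I = ExteriorAlgebra.ι (A k n) (e k n (I 0)) * m k n q (fun j => I j.succ) := by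
  unfold m
  rw [ExteriorAlgebra.ιMulti_succ_apply]
  rfl

/-- contraction with the Euler vector field -/
noncomputable def c : Lam k n →ₗ[A k n] Lam k n :=
  CliffordAlgebra.contractLeft (Q := (0 : QuadraticForm (A k n) (Om k n))) (φ k n)

lemma c_ι_mul (v : Om k n) (x : Lam k n) :
    c k n (ExteriorAlgebra.ι (A k n) v * x) =
      φ k n v • x - ExteriorAlgebra.ι (A k n) v * c k n x :=
  CliffordAlgebra.contractLeft_ι_mul (φ k n) v x

lemma c_one : c k n 1 = 0 := CliffordAlgebra.contractLeft_one _ (φ k n)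

lemma ι_mul_mem (q : ℕ) (v : Om k n) (x : Lam k n)
    (hx : x ∈ ExteriorAlgebra.exteriorPower (A k n) q (Om k n)) :
    ExteriorAlgebra.ι (A k n) v * x ∈ ExteriorAlgebra.exteriorPower (A k n) (q + 1) (Om k n) := by
  show _ ∈ LinearMap.range (ExteriorAlgebra.ι (A k n)) ^ (q + 1)
  rw [pow_succ']
  exact Submodule.mul_mem_mul (LinearMap.mem_range_self _ v) hx

lemma c_ιMulti_mem : ∀ (q : ℕ) (v : Fin (q + 1) → Om k n),
    c k n (ExteriorAlgebra.ιMulti (A k n) (q + 1) v) ∈
      ExteriorAlgebra.exteriorPower (A k n) q (Om k n) := by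
  intro q
  induction q with
  | zero =>
    intro v
    rw [ExteriorAlgebra.ιMulti_succ_apply, c_ι_mul, ExteriorAlgebra.ιMulti_zero_apply, c_one,
      mul_zero, sub_zero]
    show _ ∈ LinearMap.range (ExteriorAlgebra.ι (A k n)) ^ 0
    rw [pow_zero, Algebra.smul_def, mul_one]
    exact Submodule.algebraMap_mem _
  | succ q ih =>
    intro v
    rw [ExteriorAlgebra.ιMulti_succ_apply, c_ι_mul]
    refine Submodule.sub_mem _ (Submodule.smul_mem _ _ ?_) (ι_mul_mem k n q _ _ (ih _))
    exact ExteriorAlgebra.ιMulti_range (A k n) (q + 1) (Set.mem_range_self _)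

lemma c_mem (q : ℕ) (ω : Lam k n)
    (hω : ω ∈ ExteriorAlgebra.exteriorPower (A k n) (q + 1) (Om k n)) :
    c k n ω ∈ ExteriorAlgebra.exteriorPower (A k n) q (Om k n) := by
  rw [← ExteriorAlgebra.ιMulti_span_fixedDegree] at hω
  induction hω using Submodule.span_induction with
  | mem x hx =>
    obtain ⟨v, rfl⟩ := hx
    exact c_ιMulti_mem k n q v
  | zero => rw [map_zero]; exact Submodule.zero_mem _
  | add x y _ _ hx hy => rw [map_add]; exact Submodule.add_mem _ hx hy
  | smul r x _ hx => rw [map_smul]; exact Submodule.smul_mem _ _ hx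

section D

variable {k n}
variable (d : Lam k n →ₗ[k] Lam k n)
  (h0 : ∀ a : A k n, d (algebraMap (A k n) (Lam k n) a) =
    ExteriorAlgebra.ι (A k n) (KaehlerDifferential.D k (A k n) a))
  (hder : ∀ (p : ℕ) (ω η : Lam k n),
    ω ∈ ExteriorAlgebra.exteriorPower (A k n) p (Om k n) →
      d (ω * η) = d ω * η + (-1) ^ p * ω * d η)
  (hdd : ∀ ω, d (d ω) = 0)

include h0 hder in
lemma d_smul (f : A k n) (η : Lam k n) :
    d (f • η) = ExteriorAlgebra.ι (A k n) (KaehlerDifferential.D k (A k n) f) * η + f • d η := by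
  have hmem : algebraMap (A k n) (Lam k n) f ∈
      ExteriorAlgebra.exteriorPower (A k n) 0 (Om k n) := by
    show _ ∈ LinearMap.range (ExteriorAlgebra.ι (A k n)) ^ 0
    rw [pow_zero]
    exact Submodule.algebraMap_mem _
  rw [Algebra.smul_def, hder 0 _ _ hmem, h0, pow_zero, one_mul, Algebra.smul_def]

include h0 hder hdd in
lemma d_ι_mul (x : A k n) (η : Lam k n) :
    d (ExteriorAlgebra.ι (A k n) (KaehlerDifferential.D k (A k n) x) * η) =
      -(ExteriorAlgebra.ι (A k n) (KaehlerDifferential.D k (A k n) x) * d η) := by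
  have hmem : ExteriorAlgebra.ι (A k n) (KaehlerDifferential.D k (A k n) x) ∈
      ExteriorAlgebra.exteriorPower (A k n) 1 (Om k n) := by
    show _ ∈ LinearMap.range (ExteriorAlgebra.ι (A k n)) ^ 1
    rw [pow_one]
    exact LinearMap.mem_range_self _ _
  have hz : d (ExteriorAlgebra.ι (A k n) (KaehlerDifferential.D k (A k n) x)) = 0 := by
    rw [← h0, hdd]
  rw [hder 1 _ _ hmem, hz, zero_mul, zero_add, pow_one, neg_one_mul, neg_mul]

include h0 hder hdd in
lemma d_m : ∀ (q : ℕ) (I : Fin q → Fin n), d (m k n q I) = 0 := by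
  intro q
  induction q with
  | zero =>
    intro I
    rw [m_zero, ← map_one (algebraMap (A k n) (Lam k n)), h0, Derivation.map_one_eq_zero, map_zero]
  | succ q ih =>
    intro I
    rw [m_succ]
    unfold e
    rw [d_ι_mul d h0 hder hdd, ih, mul_zero, neg_zero]

lemma c_m_succ (q : ℕ) (I : Fin (q + 1) → Fin n) :
    c k n (m k n (q + 1) I) = (X (I 0) : A k n) • m k n q (fun j => I j.succ) -
      ExteriorAlgebra.ι (A k n) (e k n (I 0)) * c k n (m k n q (fun j => I j.succ)) := by
  rw [m_succ, c_ι_mul, φ_e]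

include h0 hder hdd in
lemma d_c_m : ∀ (q : ℕ) (I : Fin q → Fin n),
    d (c k n (m k n q I)) = ((q : ℕ) : k) • m k n q I := by
  intro q
  induction q with
  | zero =>
    intro I
    rw [m_zero, c_one, map_zero, Nat.cast_zero, zero_smul]
  | succ q ih =>
    intro I
    rw [c_m_succ, map_sub, d_smul d h0 hder, d_m d h0 hder hdd, smul_zero, add_zero]
    have h1 : ExteriorAlgebra.ι (A k n) (KaehlerDifferential.D k (A k n) (X (I 0))) *
        m k n q (fun j => I j.succ) = m k n (q + 1) I := by
      rw [m_succ]; rfl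
    rw [h1]
    have h2 : d (ExteriorAlgebra.ι (A k n) (e k n (I 0)) * c k n (m k n q (fun j => I j.succ))) =
        -(((q : ℕ) : k) • m k n (q + 1) I) := by
      unfold e
      rw [d_ι_mul d h0 hder hdd, ih, mul_smul_comm, h1]
    rw [h2, sub_neg_eq_add, Nat.cast_succ, add_smul, one_smul, add_comm]

include h0 hder hdd in
lemma L_fm (f : A k n) (q : ℕ) (I : Fin q → Fin n) :
    d (c k n (f • m k n q I)) + c k n (d (f • m k n q I)) =
      (φ k n (KaehlerDifferential.D k (A k n) f)) • m k n q I + ((q : ℕ) : k) • (f • m k n q I) := by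
  rw [map_smul, d_smul d h0 hder, d_c_m d h0 hder hdd, d_smul d h0 hder, d_m d h0 hder hdd,
    smul_zero, add_zero, c_ι_mul, smul_comm f]
  abel

include h0 hder hdd in
lemma L_weight (a : Fin n →₀ ℕ) (q : ℕ) (I : Fin q → Fin n) :
    d (c k n ((monomial a (1 : k) : A k n) • m k n q I)) +
      c k n (d ((monomial a (1 : k) : A k n) • m k n q I)) =
      (((a.degree + q : ℕ)) : k) • ((monomial a (1 : k) : A k n) • m k n q I) := by
  rw [L_fm d h0 hder hdd, φ_D_monomial, smul_assoc, ← add_smul, Nat.cast_add]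

end D

/-- the weight vectors of form degree `q` -/
def wv (q : ℕ) : Set (Lam k n) :=
  Set.range (fun aI : (Fin n →₀ ℕ) × (Fin q → Fin n) =>
    (monomial aI.1 (1 : k) : A k n) • m k n q aI.2)

lemma smul_mem_span_wv (q : ℕ) (g : A k n) (ξ : Lam k n)
    (hξ : ξ ∈ Submodule.span k (wv k n q)) : g • ξ ∈ Submodule.span k (wv k n q) := by
  induction g using MvPolynomial.induction_on' with
  | monomial b r =>
    induction hξ using Submodule.span_induction with
    | mem x hx =>
      obtain ⟨⟨a, I⟩, rfl⟩ := hx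
      have : (monomial b r : A k n) • ((monomial a (1 : k) : A k n) • m k n q I) =
          r • ((monomial (b + a) (1 : k) : A k n) • m k n q I) := by
        rw [smul_smul, monomial_mul, mul_one, ← smul_assoc, smul_monomial, smul_eq_mul, mul_one]
      rw [this]
      exact Submodule.smul_mem _ _ (Submodule.subset_span ⟨(b + a, I), rfl⟩)
    | zero => rw [smul_zero]; exact Submodule.zero_mem _
    | add x y _ _ hx hy => rw [smul_add]; exact Submodule.add_mem _ hx hy
    | smul s x _ hx => rw [smul_comm]; exact Submodule.smul_mem _ _ hx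
  | add p q' hp hq => rw [add_smul]; exact Submodule.add_mem _ hp hq

lemma mem_span_wv (q : ℕ) (ω : Lam k n)
    (hω : ω ∈ ExteriorAlgebra.exteriorPower (A k n) q (Om k n)) :
    ω ∈ Submodule.span k (wv k n q) := by
  have hs : Submodule.span (A k n) (Set.range (e k n)) = ⊤ := by
    have h1 : Set.range (e k n) = Set.range (KaehlerDifferential.mvPolynomialBasis k (Fin n)) := by
      congr 1
      funext i
      rw [KaehlerDifferential.mvPolynomialBasis_apply]
      rfl
    rw [h1]
    exact (KaehlerDifferential.mvPolynomialBasis k (Fin n)).span_eq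
  rw [← exteriorPower.ιMulti_span_fixedDegree_of_span_eq_top (A k n) q (Om k n) hs] at hω
  induction hω using Submodule.span_induction with
  | mem x hx =>
    obtain ⟨v, hv, rfl⟩ := hx
    have hv' : ∀ j, ∃ i, e k n i = v j := fun j => hv (Set.mem_range_self j)
    choose I hI using hv'
    have : v = fun j => e k n (I j) := funext fun j => (hI j).symm
    rw [this]
    refine Submodule.subset_span ⟨(0, I), ?_⟩
    show (monomial 0 (1 : k) : A k n) • m k n q I = _
    rw [show (monomial 0 (1 : k) : A k n) = 1 from rfl, one_smul]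
    rfl
  | zero => exact Submodule.zero_mem _
  | add x y _ _ hx hy => exact Submodule.add_mem _ hx hy
  | smul g x _ hx => exact smul_mem_span_wv k n q g x hx

section Main

variable [CharZero k]

lemma eq_C_of_pderiv_eq_zero (a : A k n) (h : ∀ i, MvPolynomial.pderiv i a = 0) :
    a = MvPolynomial.C (MvPolynomial.coeff 0 a) := by
  ext s
  rw [MvPolynomial.coeff_C]
  by_cases hs : 0 = s
  · rw [if_pos hs, hs]
  · rw [if_neg hs]
    obtain ⟨i, hi⟩ : ∃ i, s i ≠ 0 := by
      by_contra hc
      push Not at hc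
      exact hs (Finsupp.ext fun j => (hc j).symm)
    have h1 : MvPowerSeries.coeff (s - Finsupp.single i 1)
        (MvPowerSeries.pderiv k i (a : MvPowerSeries (Fin n) k)) = 0 := by
      rw [MvPowerSeries.pderiv_coe, h i, MvPolynomial.coe_zero, map_zero]
    rw [MvPowerSeries.coeff_pderiv] at h1
    have h2 : s - Finsupp.single i 1 + Finsupp.single i 1 = s := by
      ext j
      simp only [Finsupp.coe_add, Finsupp.coe_tsub, Pi.add_apply, Pi.sub_apply,
        Finsupp.single_apply]
      split_ifs with h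
      · subst h; omega
      · omega
    rw [h2, MvPolynomial.coeff_coe] at h1
    have h3 : (((s - Finsupp.single i 1 : Fin n →₀ ℕ) i : ℕ) : k) + 1 ≠ 0 :=
      Nat.cast_add_one_ne_zero _
    exact (mul_eq_zero.mp h1).resolve_right h3

theorem main15299
    (d : Lam k n →ₗ[k] Lam k n)
    (h0 : ∀ a : A k n, d (algebraMap (A k n) (Lam k n) a) =
      ExteriorAlgebra.ι (A k n) (KaehlerDifferential.D k (A k n) a))
    (hdeg : ∀ (p : ℕ) (ω : Lam k n),
      ω ∈ ExteriorAlgebra.exteriorPower (A k n) p (Om k n) →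
        d ω ∈ ExteriorAlgebra.exteriorPower (A k n) (p + 1) (Om k n))
    (hder : ∀ (p : ℕ) (ω η : Lam k n),
      ω ∈ ExteriorAlgebra.exteriorPower (A k n) p (Om k n) →
        d (ω * η) = d ω * η + (-1) ^ p * ω * d η)
    (hdd : ∀ ω, d (d ω) = 0) :
    (∀ a : A k n, d (algebraMap (A k n) (Lam k n) a) = 0 → ∃ c : k, a = MvPolynomial.C c) ∧
    ∀ (p : ℕ) (ω : Lam k n),
      ω ∈ ExteriorAlgebra.exteriorPower (A k n) (p + 1) (Om k n) →
        d ω = 0 →
          ∃ θ ∈ ExteriorAlgebra.exteriorPower (A k n) p (Om k n), d θ = ω := by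
  classical
  refine ⟨?_, ?_⟩
  · intro a ha
    rw [h0, ExteriorAlgebra.ι_eq_zero_iff] at ha
    refine ⟨MvPolynomial.coeff 0 a, eq_C_of_pderiv_eq_zero k n a fun i => ?_⟩
    rw [← KaehlerDifferential.mvPolynomialBasis_repr_apply, ha, map_zero]
    rfl
  · intro p ω hω hdω
    set q := p + 1 with hq
    -- the operator `L`
    let c' : Lam k n →ₗ[k] Lam k n := (c k n).restrictScalars k
    let L : Module.End k (Lam k n) := d ∘ₗ c' + c' ∘ₗ d
    have hL : ∀ x, L x = d (c k n x) + c k n (d x) := fun x => rfl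
    have hLd : ∀ x, L (d x) = d (L x) := by
      intro x
      rw [hL, hL, hdd, map_zero, add_zero, map_add, hdd, zero_add]
    let G : ℕ → Submodule k (Lam k n) := fun j =>
      (ExteriorAlgebra.exteriorPower (A k n) q (Om k n)).restrictScalars k ⊓
        Module.End.eigenspace L (((j + q : ℕ)) : k)
    have hspan : ω ∈ ⨆ j, G j := by
      have h1 := mem_span_wv k n q ω hω
      refine Submodule.span_le.mpr ?_ h1
      rintro _ ⟨⟨a, I⟩, rfl⟩
      refine Submodule.mem_iSup_of_mem a.degree ⟨?_, ?_⟩
      · show _ ∈ ExteriorAlgebra.exteriorPower (A k n) q (Om k n)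
        exact Submodule.smul_mem _ _
          (ExteriorAlgebra.ιMulti_range (A k n) q (Set.mem_range_self _))
      · exact Module.End.mem_eigenspace_iff.mpr (by rw [hL]; exact L_weight d h0 hder hdd a q I)
    obtain ⟨f, hfG, hfsum⟩ := (Submodule.mem_iSup_iff_exists_finsupp G ω).mp hspan
    have hinj : Function.Injective (fun j : ℕ => (((j + q : ℕ)) : k)) := by
      intro j j' h
      have : j + q = j' + q := Nat.cast_injective h
      omega
    have hind : iSupIndep (fun j : ℕ => Module.End.eigenspace L (((j + q : ℕ)) : k)) :=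
      (Module.End.eigenspaces_iSupIndep L).comp hinj
    have hdf : ∀ j ∈ f.support, d (f j) = 0 := by
      refine (iSupIndep_iff_finsetSum_eq_zero_imp_eq_zero _).mp hind f.support
        (fun j => d (f j)) ?_ ?_
      · intro j _
        rw [Module.End.mem_eigenspace_iff, hLd, Module.End.mem_eigenspace_iff.mp (hfG j).2,
          map_smul]
      · rw [← map_sum]
        have : ∑ j ∈ f.support, f j = ω := hfsum
        rw [this, hdω]
    refine ⟨∑ j ∈ f.support, (((j + q : ℕ)) : k)⁻¹ • c k n (f j), ?_, ?_⟩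
    · refine Submodule.sum_mem _ fun j _ => ?_
      refine Submodule.smul_of_tower_mem _ _ ?_
      exact c_mem k n p _ (hfG j).1
    · rw [map_sum]
      have hterm : ∀ j ∈ f.support, d ((((j + q : ℕ)) : k)⁻¹ • c k n (f j)) = f j := by
        intro j hj
        have h1 : d (c k n (f j)) + c k n (d (f j)) = (((j + q : ℕ)) : k) • f j :=
          Module.End.mem_eigenspace_iff.mp (hfG j).2
        rw [hdf j hj, map_zero, add_zero] at h1
        have hne : (((j + q : ℕ)) : k) ≠ 0 := by
          rw [hq]
          exact_mod_cast Nat.succ_ne_zero (j + p)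
        rw [map_smul, h1, inv_smul_smul₀ hne]
      rw [Finset.sum_congr rfl hterm]
      exact hfsum

end Main

end Groth.Agent.Lib.PoincarePolyH1
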