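import Mathlib
import Groth.Prelude.Def_PolLaw
import Groth.Agent.Lib.PolLawKer_helper1

/-!
# Kernels of multiplicative laws commute with base change to `A[X]/(g)`, `g` monic separable
(helper1)
-/

set_option autoImplicit false
universe u
open scoped TensorProduct
open Polynomial

namespace Groth.Agent.Lib.PolLawEtaleH1

open Groth.Agent.Lib.PolLawKerH1

/-- A splitting ring of a monic polynomial admitting an `A`-linear retraction onto `A`. -/
theorem exists_splitting (n : ℕ) : ∀ (A : Type u) [CommRing A] [Nontrivial A] (g : A[X]),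
    g.Monic → g.natDegree = n → ∃ (R : Type u) (_ : CommRing R) (_ : Algebra A R)
      (ρ : R →ₗ[A] A) (r : Fin n → R), ρ 1 = 1 ∧
        g.map (algebraMap A R) = ∏ i, (X - C (r i)) := by
  induction n with
  | zero =>
    intro A _ _ g hg hdeg
    refine ⟨A, inferInstance, inferInstance, LinearMap.id, Fin.elim0, rfl, ?_⟩
    rw [Polynomial.eq_one_of_monic_natDegree_zero hg hdeg]
    simp
  | succ n ih =>
    intro A _ _ g hg hdeg
    -- the retraction of `AdjoinRoot g`
    obtain ⟨ρ₁, hρ₁def⟩ : ∃ ρ₁ : AdjoinRoot g →ₗ[A] A,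
        ρ₁ = (Polynomial.lcoeff A 0) ∘ₗ (AdjoinRoot.modByMonicHom hg) := ⟨_, rfl⟩
    have hρ₁ : ρ₁ 1 = 1 := by
      have h1 : (1 : AdjoinRoot g) = AdjoinRoot.mk g 1 := (map_one _).symm
      have h2 : (1 : A[X]) %ₘ g = 1 := by
        apply (Polynomial.modByMonic_eq_self_iff hg).2
        rw [Polynomial.degree_one, Polynomial.degree_eq_natDegree hg.ne_zero, hdeg]
        exact_mod_cast Nat.succ_pos n
      rw [hρ₁def, LinearMap.comp_apply, h1, AdjoinRoot.modByMonicHom_mk, h2,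
        Polynomial.lcoeff_apply, Polynomial.coeff_one_zero]
    haveI : Nontrivial (AdjoinRoot g) := by
      refine ⟨⟨1, 0, fun h => ?_⟩⟩
      have := congr_arg ρ₁ h
      rw [hρ₁, map_zero] at this
      exact one_ne_zero this
    have hroot : IsRoot (g.map (algebraMap A (AdjoinRoot g))) (AdjoinRoot.root g) := by
      rw [AdjoinRoot.algebraMap_eq]; exact AdjoinRoot.isRoot_root g
    obtain ⟨g₁, hg₁⟩ := (Polynomial.dvd_iff_isRoot).2 hroot
    have hgm : (g.map (algebraMap A (AdjoinRoot g))).Monic := hg.map _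
    have hg₁m : g₁.Monic := by
      rw [hg₁] at hgm
      exact Polynomial.Monic.of_mul_monic_left (Polynomial.monic_X_sub_C _) hgm
    have hg₁d : g₁.natDegree = n := by
      have h1 := congr_arg Polynomial.natDegree hg₁
      rw [Polynomial.Monic.natDegree_mul (Polynomial.monic_X_sub_C _) hg₁m,
        Polynomial.natDegree_X_sub_C, Polynomial.Monic.natDegree_map hg, hdeg] at h1
      omega
    obtain ⟨R, instR, instAlg, ρ₂, r', hρ₂, hprod⟩ := ih (AdjoinRoot g) g₁ hg₁m hg₁d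
    letI : Algebra A R :=
      ((algebraMap (AdjoinRoot g) R).comp (algebraMap A (AdjoinRoot g))).toAlgebra
    haveI : IsScalarTower A (AdjoinRoot g) R := IsScalarTower.of_algebraMap_eq (fun _ => rfl)
    refine ⟨R, instR, inferInstance, ρ₁ ∘ₗ (ρ₂.restrictScalars A),
      Fin.cons (algebraMap (AdjoinRoot g) R (AdjoinRoot.root g)) r', ?_, ?_⟩
    · rw [LinearMap.comp_apply, LinearMap.restrictScalars_apply, hρ₂, hρ₁]
    · rw [Fin.prod_univ_succ, Fin.cons_zero]
      simp only [Fin.cons_succ]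
      rw [← hprod, IsScalarTower.algebraMap_eq A (AdjoinRoot g) R, ← Polynomial.map_map, hg₁,
        Polynomial.map_mul, Polynomial.map_sub, Polynomial.map_X, Polynomial.map_C]

variable {A : Type u} [CommRing A] {B : Type u} [CommRing B] [Algebra A B]

theorem kerBC_apply {C : Type u} [CommRing C] [Algebra A C] (F : B →ₚₗ[A] C) {A' : Type u}
    [CommRing A'] [Algebra A A'] {b' : A' ⊗[A] B} (hb' : b' ∈ PolLaw.kerBC F A') (T : Type u)
    [CommSemiring T] [Algebra A T] (ψ : A' →ₐ[A] T) (x w : T ⊗[A] B) :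
    F.toFun' T (x + w * Algebra.TensorProduct.map ψ (AlgHom.id A B) b') = F.toFun' T x := by
  letI : Algebra A' T := ψ.toRingHom.toAlgebra
  haveI : IsScalarTower A A' T := IsScalarTower.of_algebraMap_eq (fun a => (ψ.commutes a).symm)
  have h := (mem_kerBC_iff F A' b').1 hb' T x w
  have e : IsScalarTower.toAlgHom A A' T = ψ := AlgHom.ext (fun _ => rfl)
  rw [e] at h
  exact h

theorem local_ker_sum {C : Type u} [CommRing C] [Algebra A C] (F : B →ₚₗ[A] C) {T : Type u}
    [CommSemiring T] [Algebra A T] {κ : Type*} (s : Finset κ) (z β : κ → T ⊗[A] B)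
    (h : ∀ k ∈ s, ∀ x w, F.toFun' T (x + w * β k) = F.toFun' T x) (x w : T ⊗[A] B) :
    F.toFun' T (x + w * ∑ k ∈ s, z k * β k) = F.toFun' T x := by
  classical
  induction s using Finset.induction_on generalizing x with
  | empty => simp
  | insert a s ha ih =>
    rw [Finset.sum_insert ha, mul_add, ← add_assoc, ← mul_assoc,
      ih (fun k hk => h k (Finset.mem_insert_of_mem hk)), h a (Finset.mem_insert_self a s)]

theorem injective_map_includeRight {R : Type u} [CommRing R] [Algebra A R] (ρ : R →ₗ[A] A)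
    (hρ : ρ 1 = 1) (S : Type u) [CommSemiring S] [Algebra A S] :
    Function.Injective (Algebra.TensorProduct.map
      (Algebra.TensorProduct.includeRight : S →ₐ[A] R ⊗[A] S) (AlgHom.id A A)) := by
  obtain ⟨ρS, hρS⟩ : ∃ ρS : R ⊗[A] S →ₗ[A] S,
      ρS = (TensorProduct.lid A S).toLinearMap ∘ₗ ρ.rTensor S := ⟨_, rfl⟩
  have hcomp : ρS ∘ₗ (Algebra.TensorProduct.includeRight : S →ₐ[A] R ⊗[A] S).toLinearMap =
      LinearMap.id := by
    ext s
    rw [LinearMap.comp_apply, AlgHom.toLinearMap_apply, Algebra.TensorProduct.includeRight_apply,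
      hρS, LinearMap.comp_apply, LinearMap.rTensor_tmul, LinearEquiv.coe_coe,
      TensorProduct.lid_tmul, hρ, one_smul, LinearMap.id_apply]
  apply Function.LeftInverse.injective (g := ρS.rTensor A)
  intro z
  rw [← rT_eq_map, ← LinearMap.comp_apply, ← LinearMap.rTensor_comp, hcomp, LinearMap.rTensor_id,
    LinearMap.id_apply]

theorem exists_repr_adjoinRoot [Nontrivial A] (g : A[X]) (hg : g.Monic)
    (b' : AdjoinRoot g ⊗[A] B) :
    ∃ c : ℕ → B, b' = ∑ i ∈ Finset.range g.natDegree, (AdjoinRoot.root g ^ i) ⊗ₜ[A] c i := by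
  induction b' using TensorProduct.induction_on with
  | zero => exact ⟨fun _ => 0, by simp⟩
  | tmul a b =>
    obtain ⟨q, rfl⟩ := AdjoinRoot.mk_surjective a
    have h1 : AdjoinRoot.mk g q = AdjoinRoot.mk g (q %ₘ g) := by
      have := AdjoinRoot.mk_leftInverse hg (AdjoinRoot.mk g q)
      rw [AdjoinRoot.modByMonicHom_mk] at this
      exact this.symm
    have hdeg : (q %ₘ g).degree < g.natDegree := by
      rw [← Polynomial.degree_eq_natDegree hg.ne_zero]
      exact Polynomial.degree_modByMonic_lt q hg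
    have h2 : q %ₘ g =
        ∑ i ∈ Finset.range g.natDegree, Polynomial.monomial i ((q %ₘ g).coeff i) := by
      ext j
      rw [Polynomial.finset_sum_coeff]
      simp only [Polynomial.coeff_monomial]
      rw [Finset.sum_ite_eq']
      split_ifs with hj
      · rfl
      · apply Polynomial.coeff_eq_zero_of_degree_lt
        refine lt_of_lt_of_le hdeg ?_
        rw [Finset.mem_range, not_lt] at hj
        exact_mod_cast hj
    have h3 : AdjoinRoot.mk g (q %ₘ g) =
        ∑ i ∈ Finset.range g.natDegree, ((q %ₘ g).coeff i) • (AdjoinRoot.root g ^ i) := by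
      conv_lhs => rw [h2]
      rw [map_sum]
      refine Finset.sum_congr rfl fun i _ => ?_
      rw [← Polynomial.C_mul_X_pow_eq_monomial, map_mul, map_pow, AdjoinRoot.mk_C,
        AdjoinRoot.mk_X, Algebra.smul_def, AdjoinRoot.algebraMap_eq]
    refine ⟨fun i => ((q %ₘ g).coeff i) • b, ?_⟩
    rw [h1, h3, TensorProduct.sum_tmul]
    refine Finset.sum_congr rfl fun i _ => ?_
    rw [TensorProduct.smul_tmul]
  | add x y hx hy =>
    obtain ⟨c₁, h₁⟩ := hx
    obtain ⟨c₂, h₂⟩ := hy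
    refine ⟨fun i => c₁ i + c₂ i, ?_⟩
    rw [h₁, h₂, ← Finset.sum_add_distrib]
    refine Finset.sum_congr rfl fun i _ => ?_
    rw [TensorProduct.tmul_add]

theorem coeff_mem_ker [Nontrivial A] {d : ℕ} (F : PolLaw.MulLaw A B A d) (g : A[X]) (hg : g.Monic)
    (hsep : g.Separable) (c : ℕ → B)
    (hb' : ∑ i ∈ Finset.range g.natDegree, (AdjoinRoot.root g ^ i) ⊗ₜ[A] c i ∈
      PolLaw.kerBC F.law (AdjoinRoot g))
    (i : ℕ) (hi : i < g.natDegree) : c i ∈ PolLaw.ker F.law := by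
  classical
  obtain ⟨R, instR, instAlg, ρ, r, hρ, hprod⟩ := exists_splitting g.natDegree A g hg rfl
  -- roots
  have hroot : ∀ k, Polynomial.eval₂ (Algebra.ofId A R : A →+* R) (r k) g = 0 := by
    intro k
    have h1 : Polynomial.eval (r k) (g.map (algebraMap A R)) = 0 := by
      rw [hprod, Polynomial.eval_prod]
      exact Finset.prod_eq_zero (Finset.mem_univ k) (by simp)
    rw [Polynomial.eval_map] at h1
    exact h1
  -- unit differences
  have hunit : ∀ k l, k ≠ l → IsUnit (r l - r k) := by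
    intro k l hkl
    have hsep' : (∏ i, (X - C (r i))).Separable := by
      rw [← hprod]; exact hsep.map
    rw [← Finset.mul_prod_erase Finset.univ _ (Finset.mem_univ k)] at hsep'
    have hcop := (IsCoprime.prod_right_iff.1 hsep'.isCoprime) l
      (Finset.mem_erase.2 ⟨hkl.symm, Finset.mem_univ l⟩)
    obtain ⟨u, v, huv⟩ := hcop
    have h2 := congr_arg (Polynomial.eval (r l)) huv
    simp only [Polynomial.eval_add, Polynomial.eval_mul, Polynomial.eval_sub, Polynomial.eval_X,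
      Polynomial.eval_C, sub_self, mul_zero, add_zero, Polynomial.eval_one] at h2
    exact isUnit_iff_exists_inv'.2 ⟨_, h2⟩
  have hdet : IsUnit (Matrix.vandermonde r).det := by
    rw [Matrix.det_vandermonde]
    exact IsUnit.prod_univ_iff.2 fun k => IsUnit.prod_iff.2 fun l hl =>
      hunit k l (ne_of_lt (Finset.mem_Ioi.1 hl))
  obtain ⟨W, hW⟩ : ∃ W : Matrix (Fin g.natDegree) (Fin g.natDegree) R,
      W * Matrix.vandermonde r = 1 := ⟨_, Matrix.nonsing_inv_mul _ hdet⟩
  rw [mem_ker_iff]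
  intro S _ _ y w₀
  -- notation
  obtain ⟨ι, hι⟩ : ∃ ι : S →ₐ[A] R ⊗[A] S, ι = Algebra.TensorProduct.includeRight := ⟨_, rfl⟩
  obtain ⟨jR, hjR⟩ : ∃ jR : R →ₐ[A] R ⊗[A] S, jR = Algebra.TensorProduct.includeLeft := ⟨_, rfl⟩
  obtain ⟨θ, hθ⟩ : ∃ θ : R →+* (R ⊗[A] S) ⊗[A] B,
      θ = (Algebra.TensorProduct.includeLeft : (R ⊗[A] S) →ₐ[A] (R ⊗[A] S) ⊗[A] B).toRingHom.comp
        jR.toRingHom := ⟨_, rfl⟩
  have hθapp : ∀ a : R, θ a = (jR a) ⊗ₜ[A] (1 : B) := fun a => by rw [hθ]; rfl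
  obtain ⟨ψ, hψ⟩ : ∃ ψ : Fin g.natDegree → (AdjoinRoot g →ₐ[A] R),
      ψ = fun k => AdjoinRoot.liftAlgHom g (Algebra.ofId A R) (r k) (hroot k) := ⟨_, rfl⟩
  have hψroot : ∀ k, ψ k (AdjoinRoot.root g) = r k := by
    intro k; rw [hψ]; exact AdjoinRoot.liftAlgHom_root g _ _ _
  obtain ⟨e, he⟩ : ∃ e : Fin g.natDegree → (R ⊗[A] S) ⊗[A] B,
      e = fun j : Fin g.natDegree => (1 : R ⊗[A] S) ⊗ₜ[A] c (j : ℕ) := ⟨_, rfl⟩
  obtain ⟨β, hβdef⟩ : ∃ β : Fin g.natDegree → (R ⊗[A] S) ⊗[A] B,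
      β = fun k => Algebra.TensorProduct.map (jR.comp (ψ k)) (AlgHom.id A B)
        (∑ i ∈ Finset.range g.natDegree, (AdjoinRoot.root g ^ i) ⊗ₜ[A] c i) := ⟨_, rfl⟩
  have hβ : ∀ k, β k = ∑ j : Fin g.natDegree, θ (r k) ^ (j : ℕ) * e j := by
    intro k
    rw [hβdef]
    simp only
    rw [map_sum, ← Fin.sum_univ_eq_sum_range (fun i => Algebra.TensorProduct.map
      (jR.comp (ψ k)) (AlgHom.id A B) ((AdjoinRoot.root g ^ i) ⊗ₜ[A] c i)) g.natDegree]
    refine Finset.sum_congr rfl fun j _ => ?_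
    have hej : e j = (1 : R ⊗[A] S) ⊗ₜ[A] c (j : ℕ) := by rw [he]
    have hl : Algebra.TensorProduct.map (jR.comp (ψ k)) (AlgHom.id A B)
        ((AdjoinRoot.root g ^ (j : ℕ)) ⊗ₜ[A] c (j : ℕ)) = (jR (r k ^ (j : ℕ))) ⊗ₜ[A] c (j : ℕ) := by
      rw [Algebra.TensorProduct.map_tmul, AlgHom.comp_apply, map_pow, hψroot]
      rfl
    have hr : θ (r k) ^ (j : ℕ) * e j = (jR (r k ^ (j : ℕ))) ⊗ₜ[A] c (j : ℕ) := by
      rw [hej, ← map_pow, hθapp, Algebra.TensorProduct.tmul_mul_tmul, mul_one, one_mul]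
    rw [hl, hr]
  have hP : ∀ k, ∀ x w, F.law.toFun' (R ⊗[A] S) (x + w * β k) =
      F.law.toFun' (R ⊗[A] S) x := by
    intro k x w
    rw [hβdef]
    exact kerBC_apply F.law hb' (R ⊗[A] S) (jR.comp (ψ k)) x w
  obtain ⟨i', hi'⟩ : ∃ i' : Fin g.natDegree, (i' : ℕ) = i := ⟨⟨i, hi⟩, rfl⟩
  have hsum : ∑ k, θ (W i' k) * β k = e i' := by
    simp_rw [hβ, Finset.mul_sum]
    rw [Finset.sum_comm]
    have h1 : ∀ j : Fin g.natDegree, ∑ k, θ (W i' k) * (θ (r k) ^ (j : ℕ) * e j) =
        θ ((1 : Matrix (Fin g.natDegree) (Fin g.natDegree) R) i' j) * e j := by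
      intro j
      rw [← hW, Matrix.mul_apply, map_sum, Finset.sum_mul]
      refine Finset.sum_congr rfl fun k _ => ?_
      rw [Matrix.vandermonde_apply, map_mul, map_pow, mul_assoc]
    rw [Finset.sum_congr rfl (fun j _ => h1 j)]
    rw [Finset.sum_eq_single i']
    · rw [Matrix.one_apply_eq, map_one, one_mul]
    · intro j _ hj
      rw [Matrix.one_apply_ne hj.symm, map_zero, zero_mul]
    · intro h; exact absurd (Finset.mem_univ _) h
  have hfin := local_ker_sum F.law Finset.univ (fun k => θ (W i' k)) β (fun k _ => hP k)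
    (Algebra.TensorProduct.map ι (AlgHom.id A B) y)
    (Algebra.TensorProduct.map ι (AlgHom.id A B) w₀)
  rw [hsum, he] at hfin
  simp only [hi'] at hfin
  have h5 : (1 : R ⊗[A] S) ⊗ₜ[A] c i =
      Algebra.TensorProduct.map ι (AlgHom.id A B) ((1 : S) ⊗ₜ[A] c i) := by
    rw [Algebra.TensorProduct.map_tmul, map_one]; rfl
  rw [h5, ← map_mul, ← map_add, ← compat_map, ← compat_map] at hfin
  rw [hι] at hfin
  exact injective_map_includeRight ρ hρ S hfin

theorem main13700 {d : ℕ} (F : PolLaw.MulLaw A B A d) (g : A[X]) (hg : g.Monic)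
    (hsep : g.Separable) :
    (PolLaw.ker F.law).map (Algebra.TensorProduct.includeRight : B →ₐ[A] AdjoinRoot g ⊗[A] B) =
      PolLaw.kerBC F.law (AdjoinRoot g) := by
  rcases subsingleton_or_nontrivial A with hA | hA
  · haveI : Subsingleton (AdjoinRoot g ⊗[A] B) := Module.subsingleton A _
    apply Ideal.ext
    intro x
    rw [Subsingleton.elim x 0]
    exact ⟨fun _ => zero_mem _, fun _ => zero_mem _⟩
  apply le_antisymm (map_ker_le_kerBC F.law _)
  intro b' hb'
  obtain ⟨c, rfl⟩ := exists_repr_adjoinRoot g hg b'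
  refine Ideal.sum_mem _ fun i hi => ?_
  have h1 : (AdjoinRoot.root g ^ i) ⊗ₜ[A] c i = ((AdjoinRoot.root g ^ i) ⊗ₜ[A] (1 : B)) *
      (Algebra.TensorProduct.includeRight : B →ₐ[A] AdjoinRoot g ⊗[A] B) (c i) := by
    rw [Algebra.TensorProduct.includeRight_apply, Algebra.TensorProduct.tmul_mul_tmul, mul_one,
      one_mul]
  rw [h1]
  exact Ideal.mul_mem_left _ _ (Ideal.mem_map_of_mem _
    (coeff_mem_ker F g hg hsep c hb' i (Finset.mem_range.mp hi)))

end Groth.Agent.Lib.PolLawEtaleH1
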