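import Mathlib
import Groth.Prelude.Def_PolLaw
import Groth.Agent.Lib.PolLawKer_helper1
import Groth.Agent.Lib.PolLawSurj_helper1
import Groth.Agent.Lib.PolLawEtale_helper1

/-!
# Kernels of polynomial laws on a finite algebra: generic test, localization (helper1)
-/

set_option autoImplicit false
universe u
open scoped TensorProduct

namespace Groth.Agent.Lib.PolLawLocH1

open Groth.Agent.Lib.PolLawKerH1 Groth.Agent.Lib.PolLawSurjH1 Groth.Agent.Lib.PolLawEtaleH1

variable {A : Type u} [CommRing A] {B : Type u} [CommRing B] [Algebra A B]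
  {C : Type u} [CommRing C] [Algebra A C]

/-- every tensor is a combination of the `1 ⊗ s k` -/
theorem exists_coeffs {m : ℕ} (s : Fin m → B) (hs : Submodule.span A (Set.range s) = ⊤)
    {R : Type u} [CommSemiring R] [Algebra A R] (y : R ⊗[A] B) :
    ∃ ρ : Fin m → R, y = ∑ k, ρ k ⊗ₜ[A] s k := by
  induction y using TensorProduct.induction_on with
  | zero => exact ⟨fun _ => 0, by simp⟩
  | tmul r b =>
    have hb : b ∈ Submodule.span A (Set.range s) := by rw [hs]; trivial
    obtain ⟨a, rfl⟩ := (Submodule.mem_span_range_iff_exists_fun A).1 hb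
    refine ⟨fun k => a k • r, ?_⟩
    rw [TensorProduct.tmul_sum]
    refine Finset.sum_congr rfl fun k _ => ?_
    rw [TensorProduct.tmul_smul, TensorProduct.smul_tmul']
  | add x y hx hy =>
    obtain ⟨ρ₁, h₁⟩ := hx
    obtain ⟨ρ₂, h₂⟩ := hy
    refine ⟨fun k => ρ₁ k + ρ₂ k, ?_⟩
    rw [h₁, h₂, ← Finset.sum_add_distrib]
    exact Finset.sum_congr rfl fun k _ => (TensorProduct.add_tmul _ _ _).symm

/-- index type of the generic variables -/
abbrev Sg (m : ℕ) : Type := Fin m ⊕ Fin m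

/-- the generic argument -/
noncomputable def gx (A' : Type u) [CommRing A'] [Algebra A A'] {m : ℕ} (s : Fin m → B) :
    MvPolynomial (Sg m) A' ⊗[A] B :=
  ∑ k, (MvPolynomial.X (Sum.inl k) : MvPolynomial (Sg m) A') ⊗ₜ[A] s k

/-- the generic multiplier -/
noncomputable def gw (A' : Type u) [CommRing A'] [Algebra A A'] {m : ℕ} (s : Fin m → B) :
    MvPolynomial (Sg m) A' ⊗[A] B :=
  ∑ k, (MvPolynomial.X (Sum.inr k) : MvPolynomial (Sg m) A') ⊗ₜ[A] s k

theorem mem_kerBC_of_generic (F : B →ₚₗ[A] C) (A' : Type u) [CommRing A'] [Algebra A A'] {m : ℕ}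
    (s : Fin m → B) (hs : Submodule.span A (Set.range s) = ⊤) (b' : A' ⊗[A] B)
    (h : F.toFun' (MvPolynomial (Sg m) A') (gx A' s + gw A' s *
        Algebra.TensorProduct.map (IsScalarTower.toAlgHom A A' (MvPolynomial (Sg m) A'))
          (AlgHom.id A B) b') = F.toFun' (MvPolynomial (Sg m) A') (gx A' s)) :
    b' ∈ PolLaw.kerBC F A' := by
  rw [mem_kerBC_iff]
  intro R _ _ _ _ x w
  obtain ⟨ρ, rfl⟩ := exists_coeffs s hs x
  obtain ⟨ρ', rfl⟩ := exists_coeffs s hs w
  obtain ⟨ψ', hψ'⟩ : ∃ ψ' : MvPolynomial (Sg m) A' →ₐ[A'] R,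
      ψ' = MvPolynomial.aeval (Sum.elim ρ ρ') := ⟨_, rfl⟩
  obtain ⟨ψ, hψ⟩ : ∃ ψ : MvPolynomial (Sg m) A' →ₐ[A] R, ψ = ψ'.restrictScalars A := ⟨_, rfl⟩
  have hψX : ∀ i, ψ (MvPolynomial.X i) = Sum.elim ρ ρ' i := by
    intro i
    rw [hψ, AlgHom.restrictScalars_apply, hψ', MvPolynomial.aeval_X]
  have h1 := congr_arg (Algebra.TensorProduct.map ψ (AlgHom.id A C)) h
  rw [compat_map, compat_map, map_add, map_mul] at h1
  have hx : Algebra.TensorProduct.map ψ (AlgHom.id A B) (gx A' s) = ∑ k, ρ k ⊗ₜ[A] s k := by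
    rw [gx, map_sum]
    refine Finset.sum_congr rfl fun k _ => ?_
    rw [Algebra.TensorProduct.map_tmul, hψX, Sum.elim_inl]
    rfl
  have hw : Algebra.TensorProduct.map ψ (AlgHom.id A B) (gw A' s) = ∑ k, ρ' k ⊗ₜ[A] s k := by
    rw [gw, map_sum]
    refine Finset.sum_congr rfl fun k _ => ?_
    rw [Algebra.TensorProduct.map_tmul, hψX, Sum.elim_inr]
    rfl
  have hcomp : ψ.comp (IsScalarTower.toAlgHom A A' (MvPolynomial (Sg m) A')) =
      IsScalarTower.toAlgHom A A' R := by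
    apply AlgHom.ext
    intro a'
    show ψ (algebraMap A' (MvPolynomial (Sg m) A') a') = algebraMap A' R a'
    rw [hψ, AlgHom.restrictScalars_apply, ψ'.commutes]
  have hb : Algebra.TensorProduct.map ψ (AlgHom.id A B)
      (Algebra.TensorProduct.map (IsScalarTower.toAlgHom A A' (MvPolynomial (Sg m) A'))
        (AlgHom.id A B) b') =
      Algebra.TensorProduct.map (IsScalarTower.toAlgHom A A' R) (AlgHom.id A B) b' := by
    rw [map_map_left, hcomp]
  rw [hx, hw, hb] at h1
  exact h1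

theorem mem_ker_of_mem_kerBC_self (F : B →ₚₗ[A] C) (b : B)
    (h : (1 : A) ⊗ₜ[A] b ∈ PolLaw.kerBC F A) : b ∈ PolLaw.ker F := by
  rw [mem_ker_iff]
  intro S _ _ x w
  have h1 := kerBC_apply F h S (Algebra.ofId A S) x w
  rw [Algebra.TensorProduct.map_tmul, map_one] at h1
  exact h1

theorem rid_map {S S' : Type u} [CommSemiring S] [Algebra A S] [CommSemiring S'] [Algebra A S']
    (φ : S →ₐ[A] S') (z : S ⊗[A] A) :
    Algebra.TensorProduct.rid A A S' (Algebra.TensorProduct.map φ (AlgHom.id A A) z) =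
      φ (Algebra.TensorProduct.rid A A S z) := by
  induction z using TensorProduct.induction_on with
  | zero => simp
  | tmul a r =>
    rw [Algebra.TensorProduct.map_tmul, Algebra.TensorProduct.rid_tmul,
      Algebra.TensorProduct.rid_tmul, map_smul]
    rfl
  | add x y hx hy => rw [map_add, map_add, map_add, map_add, hx, hy]

theorem eval_eq_zero_of_mul_eq_zero {P : Type*} [CommRing P] (D : Polynomial P) (t : P)
    (h0 : D.eval 0 = 0) (ht : Polynomial.C t * D = 0) : D.eval t = 0 := by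
  have h1 : D = Polynomial.X * D.divX := by
    have := Polynomial.X_mul_divX_add D
    rw [Polynomial.coeff_zero_eq_eval_zero, h0, map_zero, add_zero] at this
    exact this.symm
  have h2 : Polynomial.C t * D.divX = 0 := by
    have h3 : Polynomial.X * (Polynomial.C t * D.divX) = Polynomial.X * 0 := by
      rw [mul_zero, mul_left_comm, ← h1, ht]
    exact (Polynomial.isRegular_X).left h3
  have h4 := congr_arg (Polynomial.eval t) h2
  rw [Polynomial.eval_mul, Polynomial.eval_C, Polynomial.eval_zero] at h4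
  rw [h1, Polynomial.eval_mul, Polynomial.eval_X]
  exact h4

theorem exists_annihilator {σ : Type*} (M : Submonoid A) (D : Polynomial (MvPolynomial σ A))
    (h : ∀ j α, ∃ m ∈ M, m * MvPolynomial.coeff α (D.coeff j) = 0) :
    ∃ t ∈ M, Polynomial.C (MvPolynomial.C t) * D = 0 := by
  classical
  choose mm hmM hm0 using h
  refine ⟨∏ j ∈ D.support, ∏ α ∈ (D.coeff j).support, mm j α,
    Submonoid.prod_mem _ fun j _ => Submonoid.prod_mem _ fun α _ => hmM j α, ?_⟩
  refine Polynomial.ext fun j => MvPolynomial.ext _ _ fun α => ?_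
  rw [Polynomial.coeff_C_mul, MvPolynomial.coeff_C_mul, Polynomial.coeff_zero,
    MvPolynomial.coeff_zero]
  by_cases hj : j ∈ D.support
  · by_cases hα : α ∈ (D.coeff j).support
    · obtain ⟨c₁, hc₁⟩ := Finset.dvd_prod_of_mem
        (fun j => ∏ α ∈ (D.coeff j).support, mm j α) hj
      obtain ⟨c₂, hc₂⟩ := Finset.dvd_prod_of_mem (fun α => mm j α) hα
      rw [hc₁, hc₂]
      calc mm j α * c₂ * c₁ * MvPolynomial.coeff α (D.coeff j)
          = c₂ * c₁ * (mm j α * MvPolynomial.coeff α (D.coeff j)) := by ring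
        _ = 0 := by rw [hm0, mul_zero]
    · rw [MvPolynomial.notMem_support_iff.1 hα, mul_zero]
  · rw [Polynomial.notMem_support_iff.1 hj, MvPolynomial.coeff_zero, mul_zero]

set_option maxHeartbeats 1600000 in
theorem exists_smul_mem_ker (F : B →ₚₗ[A] A) (M : Submonoid A) (A' : Type u) [CommRing A']
    [Algebra A A'] [IsLocalization M A'] {m : ℕ} (s : Fin m → B)
    (hs : Submodule.span A (Set.range s) = ⊤) (b : B)
    (hb : (1 : A') ⊗ₜ[A] b ∈ PolLaw.kerBC F A') : ∃ t ∈ M, t • b ∈ PolLaw.ker F := by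
  classical
  obtain ⟨μ, hμ⟩ : ∃ μ : MvPolynomial (Sg m) A →ₐ[A] MvPolynomial (Sg m) A',
      μ = MvPolynomial.mapAlgHom (Algebra.ofId A A') := ⟨_, rfl⟩
  obtain ⟨μ', hμ'⟩ : ∃ μ' : Polynomial (MvPolynomial (Sg m) A) →ₐ[A]
      Polynomial (MvPolynomial (Sg m) A'), μ' = Polynomial.mapAlgHom μ := ⟨_, rfl⟩
  obtain ⟨X0, hX0⟩ : ∃ X0 : Polynomial (MvPolynomial (Sg m) A) ⊗[A] B,
      X0 = ∑ k, (Polynomial.C (MvPolynomial.X (Sum.inl k))) ⊗ₜ[A] s k := ⟨_, rfl⟩
  obtain ⟨W0, hW0⟩ : ∃ W0 : Polynomial (MvPolynomial (Sg m) A) ⊗[A] B,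
      W0 = ∑ k, (Polynomial.C (MvPolynomial.X (Sum.inr k))) ⊗ₜ[A] s k := ⟨_, rfl⟩
  obtain ⟨Zt, hZt⟩ : ∃ Zt : Polynomial (MvPolynomial (Sg m) A) ⊗[A] B,
      Zt = (Polynomial.X : Polynomial (MvPolynomial (Sg m) A)) ⊗ₜ[A] (1 : B) := ⟨_, rfl⟩
  obtain ⟨arg, harg⟩ : ∃ arg : Polynomial (MvPolynomial (Sg m) A) ⊗[A] B,
      arg = X0 + (Zt * W0) * ((1 : Polynomial (MvPolynomial (Sg m) A)) ⊗ₜ[A] b) := ⟨_, rfl⟩
  -- Step 1: the identity over the localization
  have h1 := (mem_kerBC_iff F A' _).1 hb (Polynomial (MvPolynomial (Sg m) A'))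
    (Algebra.TensorProduct.map μ' (AlgHom.id A B) X0)
    (Algebra.TensorProduct.map μ' (AlgHom.id A B) (Zt * W0))
  rw [Algebra.TensorProduct.map_tmul, map_one] at h1
  have h2 : Algebra.TensorProduct.map μ' (AlgHom.id A B) arg =
      Algebra.TensorProduct.map μ' (AlgHom.id A B) X0 +
        Algebra.TensorProduct.map μ' (AlgHom.id A B) (Zt * W0) *
          ((1 : Polynomial (MvPolynomial (Sg m) A')) ⊗ₜ[A] (AlgHom.id A B) b) := by
    rw [harg, map_add, map_mul _ (Zt * W0), Algebra.TensorProduct.map_tmul, map_one]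
  rw [← h2, ← compat_map, ← compat_map] at h1
  -- Step 2: pass to polynomials
  obtain ⟨u, hu⟩ : ∃ u : Polynomial (MvPolynomial (Sg m) A),
      u = Algebra.TensorProduct.rid A A _ (F.toFun' _ arg) := ⟨_, rfl⟩
  obtain ⟨v, hv⟩ : ∃ v : Polynomial (MvPolynomial (Sg m) A),
      v = Algebra.TensorProduct.rid A A _ (F.toFun' _ X0) := ⟨_, rfl⟩
  have h3 : μ' u = μ' v := by
    rw [hu, hv, ← rid_map, ← rid_map, h1]
  have h4 : μ' (u - v) = 0 := by rw [map_sub, h3, sub_self]
  have h5 : ∀ j α, ∃ t ∈ M, t * MvPolynomial.coeff α ((u - v).coeff j) = 0 := by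
    intro j α
    have h6 : algebraMap A A' (MvPolynomial.coeff α ((u - v).coeff j)) = 0 := by
      have h7 := congr_arg (fun p => MvPolynomial.coeff α (Polynomial.coeff p j)) h4
      simp only [Polynomial.coeff_zero, MvPolynomial.coeff_zero] at h7
      rw [hμ', Polynomial.coe_mapAlgHom, Polynomial.coeff_map, hμ] at h7
      rw [← h7]
      exact (MvPolynomial.coeff_map _ _ _).symm
    obtain ⟨t, ht⟩ := (IsLocalization.map_eq_zero_iff M A' _).1 h6
    exact ⟨t, t.2, ht⟩
  obtain ⟨t, htM, ht⟩ := exists_annihilator M (u - v) h5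
  refine ⟨t, htM, ?_⟩
  -- Step 3: specializations
  have hev : ∀ c : A,
      Algebra.TensorProduct.rid A A _ (F.toFun' (MvPolynomial (Sg m) A)
        (gx A s + gw A s * ((1 : MvPolynomial (Sg m) A) ⊗ₜ[A] (c • b)))) =
          Polynomial.eval (MvPolynomial.C c) u ∧
      Algebra.TensorProduct.rid A A _ (F.toFun' (MvPolynomial (Sg m) A) (gx A s)) =
          Polynomial.eval (MvPolynomial.C c) v := by
    intro c
    obtain ⟨ev, hev⟩ : ∃ ev : Polynomial (MvPolynomial (Sg m) A) →ₐ[A] MvPolynomial (Sg m) A,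
        ev = (Polynomial.aeval (MvPolynomial.C c : MvPolynomial (Sg m) A)).restrictScalars A :=
      ⟨_, rfl⟩
    have hevC : ∀ p, ev (Polynomial.C p) = p := by
      intro p
      rw [hev, AlgHom.restrictScalars_apply, Polynomial.aeval_C]
      rfl
    have hevX : ev Polynomial.X = MvPolynomial.C c := by
      rw [hev, AlgHom.restrictScalars_apply, Polynomial.aeval_X]
    have hevapp : ∀ p, ev p = Polynomial.eval (MvPolynomial.C c) p := by
      intro p
      rw [hev, AlgHom.restrictScalars_apply, Polynomial.coe_aeval_eq_eval]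
    have hX : Algebra.TensorProduct.map ev (AlgHom.id A B) X0 = gx A s := by
      rw [hX0, gx, map_sum]
      refine Finset.sum_congr rfl fun k _ => ?_
      rw [Algebra.TensorProduct.map_tmul, hevC]
      rfl
    have hW : Algebra.TensorProduct.map ev (AlgHom.id A B) W0 = gw A s := by
      rw [hW0, gw, map_sum]
      refine Finset.sum_congr rfl fun k _ => ?_
      rw [Algebra.TensorProduct.map_tmul, hevC]
      rfl
    have hZ : Algebra.TensorProduct.map ev (AlgHom.id A B) Zt =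
        (MvPolynomial.C c : MvPolynomial (Sg m) A) ⊗ₜ[A] (1 : B) := by
      rw [hZt, Algebra.TensorProduct.map_tmul, hevX, map_one]
    have harg' : Algebra.TensorProduct.map ev (AlgHom.id A B) arg =
        gx A s + gw A s * ((1 : MvPolynomial (Sg m) A) ⊗ₜ[A] (c • b)) := by
      rw [harg, map_add, map_mul, map_mul, hX, hW, hZ, Algebra.TensorProduct.map_tmul, map_one]
      congr 1
      rw [mul_comm _ (gw A s), mul_assoc, Algebra.TensorProduct.tmul_mul_tmul, mul_one, one_mul]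
      congr 1
      rw [← MvPolynomial.algebraMap_eq, Algebra.algebraMap_eq_smul_one, TensorProduct.smul_tmul]
      rfl
    constructor
    · rw [← harg', ← compat_map, rid_map, ← hu, hevapp]
    · rw [← hX, ← compat_map, rid_map, ← hv, hevapp]
  -- Step 4
  have h0 : Polynomial.eval 0 (u - v) = 0 := by
    have ha := (hev 0).1
    have hb0 := (hev 0).2
    rw [zero_smul, TensorProduct.tmul_zero, mul_zero, add_zero, map_zero] at ha
    rw [map_zero] at hb0
    rw [Polynomial.eval_sub, ← ha, ← hb0, sub_self]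
  have ht' : Polynomial.eval (MvPolynomial.C t) (u - v) = 0 :=
    eval_eq_zero_of_mul_eq_zero _ _ h0 ht
  rw [Polynomial.eval_sub, sub_eq_zero] at ht'
  have hfinal : F.toFun' (MvPolynomial (Sg m) A)
      (gx A s + gw A s * ((1 : MvPolynomial (Sg m) A) ⊗ₜ[A] (t • b))) =
      F.toFun' (MvPolynomial (Sg m) A) (gx A s) := by
    apply (Algebra.TensorProduct.rid A A (MvPolynomial (Sg m) A)).injective
    rw [(hev t).1, (hev t).2, ht']
  -- Step 5
  apply mem_ker_of_mem_kerBC_self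
  apply mem_kerBC_of_generic F A s hs
  rw [Algebra.TensorProduct.map_tmul, map_one]
  exact hfinal

theorem exists_smul_eq_one_tmul (M : Submonoid A) (A' : Type u) [CommRing A'] [Algebra A A']
    [IsLocalization M A'] (b' : A' ⊗[A] B) :
    ∃ (t₀ : A) (_ : t₀ ∈ M) (b : B), t₀ • b' = (1 : A') ⊗ₜ[A] b := by
  induction b' using TensorProduct.induction_on with
  | zero => exact ⟨1, M.one_mem, 0, by simp⟩
  | tmul a' b₁ =>
    obtain ⟨a, t₀, rfl⟩ := IsLocalization.exists_mk'_eq M a'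
    refine ⟨t₀, t₀.2, a • b₁, ?_⟩
    rw [TensorProduct.smul_tmul', Algebra.smul_def, IsLocalization.mk'_spec',
      Algebra.algebraMap_eq_smul_one, TensorProduct.smul_tmul]
  | add x y hx hy =>
    obtain ⟨t₁, ht₁, b₁, h₁⟩ := hx
    obtain ⟨t₂, ht₂, b₂, h₂⟩ := hy
    refine ⟨t₁ * t₂, M.mul_mem ht₁ ht₂, t₂ • b₁ + t₁ • b₂, ?_⟩
    rw [smul_add, mul_comm t₁ t₂, mul_smul, h₁, mul_comm t₂ t₁, mul_smul, h₂,
      TensorProduct.tmul_add, TensorProduct.tmul_smul, TensorProduct.tmul_smul]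

theorem main13698 [Module.Finite A B] (F : B →ₚₗ[A] A) (M : Submonoid A) (A' : Type u)
    [CommRing A'] [Algebra A A'] [IsLocalization M A'] :
    (PolLaw.ker F).map (Algebra.TensorProduct.includeRight : B →ₐ[A] A' ⊗[A] B) =
      PolLaw.kerBC F A' := by
  apply le_antisymm (map_ker_le_kerBC F A')
  intro b' hb'
  obtain ⟨t₀, ht₀, b, hb⟩ := exists_smul_eq_one_tmul M A' b'
  have hb1 : (1 : A') ⊗ₜ[A] b ∈ PolLaw.kerBC F A' := by
    rw [← hb, Algebra.smul_def]
    exact Ideal.mul_mem_left _ _ hb'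
  obtain ⟨m, s, hs⟩ := Module.Finite.exists_fin (R := A) (M := B)
  obtain ⟨t, ht, htb⟩ := exists_smul_mem_ker F M A' s hs b hb1
  have hrepr : b' = ((IsLocalization.mk' A' (1 : A) (⟨t₀ * t, M.mul_mem ht₀ ht⟩ : M)) ⊗ₜ[A]
      (1 : B)) * (Algebra.TensorProduct.includeRight : B →ₐ[A] A' ⊗[A] B) (t • b) := by
    rw [Algebra.TensorProduct.includeRight_apply, TensorProduct.tmul_smul, ← hb, smul_smul,
      mul_smul_comm, ← smul_mul_assoc, TensorProduct.smul_tmul', Algebra.smul_def (t * t₀),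
      mul_comm t t₀]
    have h1 : algebraMap A A' (t₀ * t) *
        IsLocalization.mk' A' (1 : A) (⟨t₀ * t, M.mul_mem ht₀ ht⟩ : M) = 1 := by
      rw [← map_one (algebraMap A A')]
      exact IsLocalization.mk'_spec' A' (1 : A) (⟨t₀ * t, M.mul_mem ht₀ ht⟩ : M)
    rw [h1, ← Algebra.TensorProduct.one_def, one_mul]
  rw [hrepr]
  exact Ideal.mul_mem_left _ _ (Ideal.mem_map_of_mem _ htb)

end Groth.Agent.Lib.PolLawLocH1
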