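import Mathlib
import Groth.Prelude.Def_PolLaw
import Groth.Agent.Lib.PolLawKer_helper1
import Groth.Agent.Lib.PolLawSurj_helper1
import Groth.Agent.Lib.PolLawEtale_helper1
import Groth.Agent.Lib.PolLawLoc_helper1

/-!
# Kernels of polynomial laws on a finite algebra and filtered colimits of the base (helper1)
-/

set_option autoImplicit false
universe u
open scoped TensorProduct

namespace Groth.Agent.Lib.PolLawColimH1

open Groth.Agent.Lib.PolLawKerH1 Groth.Agent.Lib.PolLawSurjH1 Groth.Agent.Lib.PolLawEtaleH1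
  Groth.Agent.Lib.PolLawLocH1

variable {A : Type u} [CommRing A] {B : Type u} [CommRing B] [Algebra A B]
  {C : Type u} [CommRing C] [Algebra A C]

/-- the generic test element over `A₁` attached to `z : A₁ ⊗ B` -/
noncomputable def garg (A₁ : Type u) [CommRing A₁] [Algebra A A₁] {m : ℕ} (s : Fin m → B)
    (z : A₁ ⊗[A] B) : MvPolynomial (Sg m) A₁ ⊗[A] B :=
  gx A₁ s + gw A₁ s * Algebra.TensorProduct.map
    (IsScalarTower.toAlgHom A A₁ (MvPolynomial (Sg m) A₁)) (AlgHom.id A B) z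

theorem map_gx {A₁ A₂ : Type u} [CommRing A₁] [Algebra A A₁] [CommRing A₂] [Algebra A A₂]
    (θ : A₁ →ₐ[A] A₂) {m : ℕ} (s : Fin m → B) :
    Algebra.TensorProduct.map (MvPolynomial.mapAlgHom (σ := Sg m) θ) (AlgHom.id A B) (gx A₁ s) =
      gx A₂ s := by
  rw [gx, gx, map_sum]
  refine Finset.sum_congr rfl fun k _ => ?_
  rw [Algebra.TensorProduct.map_tmul, MvPolynomial.mapAlgHom_apply, MvPolynomial.map_X]
  rfl

theorem map_gw {A₁ A₂ : Type u} [CommRing A₁] [Algebra A A₁] [CommRing A₂] [Algebra A A₂]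
    (θ : A₁ →ₐ[A] A₂) {m : ℕ} (s : Fin m → B) :
    Algebra.TensorProduct.map (MvPolynomial.mapAlgHom (σ := Sg m) θ) (AlgHom.id A B) (gw A₁ s) =
      gw A₂ s := by
  rw [gw, gw, map_sum]
  refine Finset.sum_congr rfl fun k _ => ?_
  rw [Algebra.TensorProduct.map_tmul, MvPolynomial.mapAlgHom_apply, MvPolynomial.map_X]
  rfl

theorem map_garg {A₁ A₂ : Type u} [CommRing A₁] [Algebra A A₁] [CommRing A₂] [Algebra A A₂]
    (θ : A₁ →ₐ[A] A₂) {m : ℕ} (s : Fin m → B) (z : A₁ ⊗[A] B) :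
    Algebra.TensorProduct.map (MvPolynomial.mapAlgHom (σ := Sg m) θ) (AlgHom.id A B)
      (garg A₁ s z) = garg A₂ s (Algebra.TensorProduct.map θ (AlgHom.id A B) z) := by
  have hc : (MvPolynomial.mapAlgHom (σ := Sg m) θ).comp
      (IsScalarTower.toAlgHom A A₁ (MvPolynomial (Sg m) A₁)) =
      (IsScalarTower.toAlgHom A A₂ (MvPolynomial (Sg m) A₂)).comp θ := by
    apply AlgHom.ext
    intro a
    show MvPolynomial.mapAlgHom θ (algebraMap A₁ (MvPolynomial (Sg m) A₁) a) =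
      algebraMap A₂ (MvPolynomial (Sg m) A₂) (θ a)
    rw [MvPolynomial.algebraMap_eq, MvPolynomial.algebraMap_eq, MvPolynomial.mapAlgHom_apply,
      MvPolynomial.map_C]
    rfl
  rw [garg, garg, map_add, map_mul, map_gx, map_gw, map_map_left, map_map_left, hc]

theorem mem_kerBC_of_garg (F : B →ₚₗ[A] C) (A' : Type u) [CommRing A'] [Algebra A A'] {m : ℕ}
    (s : Fin m → B) (hs : Submodule.span A (Set.range s) = ⊤) (b' : A' ⊗[A] B)
    (h : F.toFun' (MvPolynomial (Sg m) A') (garg A' s b') =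
      F.toFun' (MvPolynomial (Sg m) A') (gx A' s)) :
    b' ∈ PolLaw.kerBC F A' :=
  mem_kerBC_of_generic F A' s hs b' h

theorem garg_of_mem_kerBC (F : B →ₚₗ[A] C) (A' : Type u) [CommRing A'] [Algebra A A'] {m : ℕ}
    (s : Fin m → B) (b' : A' ⊗[A] B) (hb' : b' ∈ PolLaw.kerBC F A') :
    F.toFun' (MvPolynomial (Sg m) A') (garg A' s b') =
      F.toFun' (MvPolynomial (Sg m) A') (gx A' s) :=
  (mem_kerBC_iff F A' b').1 hb' (MvPolynomial (Sg m) A') (gx A' s) (gw A' s)

section Colim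

variable {A' : Type u} [CommRing A'] [Algebra A A'] {ι : Type u} [Preorder ι]
  [IsDirected ι (fun i j => i ≤ j)] [Nonempty ι]
  (Ai : ι → Type u) [∀ i, CommRing (Ai i)] [∀ i, Algebra A (Ai i)]
  (t : ∀ i j : ι, i ≤ j → (Ai i →ₐ[A] Ai j)) (φ : ∀ i : ι, Ai i →ₐ[A] A')

include t in
theorem exists_lift_left
    (hcomp : ∀ (i j : ι) (h : i ≤ j), (φ j).comp (t i j h) = φ i)
    (hsurj : ∀ a : A', ∃ (i : ι) (x : Ai i), φ i x = a) (b' : A' ⊗[A] B) :
    ∃ (i : ι) (z : Ai i ⊗[A] B), Algebra.TensorProduct.map (φ i) (AlgHom.id A B) z = b' := by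
  induction b' using TensorProduct.induction_on with
  | zero => exact ⟨Classical.arbitrary ι, 0, map_zero _⟩
  | tmul a' b =>
    obtain ⟨i, x, hx⟩ := hsurj a'
    refine ⟨i, x ⊗ₜ[A] b, ?_⟩
    rw [Algebra.TensorProduct.map_tmul, hx]
    rfl
  | add x y hx hy =>
    obtain ⟨i₁, z₁, h₁⟩ := hx
    obtain ⟨i₂, z₂, h₂⟩ := hy
    obtain ⟨j, hj1, hj2⟩ := directed_of (fun i j : ι => i ≤ j) i₁ i₂
    refine ⟨j, Algebra.TensorProduct.map (t i₁ j hj1) (AlgHom.id A B) z₁ +
      Algebra.TensorProduct.map (t i₂ j hj2) (AlgHom.id A B) z₂, ?_⟩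
    rw [map_add, map_map_left, map_map_left, hcomp, hcomp, h₁, h₂]

include φ in
theorem exists_common_zero
    (hzero : ∀ (i : ι) (x : Ai i), φ i x = 0 → ∃ (j : ι) (h : i ≤ j), t i j h x = 0)
    (htrans : ∀ (i j k : ι) (hij : i ≤ j) (hjk : j ≤ k),
      (t j k hjk).comp (t i j hij) = t i k (hij.trans hjk))
    {κ : Type*} (i : ι) (S : Finset κ) (a : κ → Ai i) (h : ∀ k ∈ S, φ i (a k) = 0) :
    ∃ (j : ι) (hij : i ≤ j), ∀ k ∈ S, t i j hij (a k) = 0 := by
  classical
  induction S using Finset.induction_on with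
  | empty => exact ⟨i, le_refl i, fun k hk => absurd hk (Finset.notMem_empty k)⟩
  | insert k₀ S hk₀ ih =>
    obtain ⟨j₁, hij₁, h₁⟩ := ih (fun k hk => h k (Finset.mem_insert_of_mem hk))
    obtain ⟨j₂, hij₂, h₂⟩ := hzero i (a k₀) (h k₀ (Finset.mem_insert_self k₀ S))
    obtain ⟨j, hj1, hj2⟩ := directed_of (fun i j : ι => i ≤ j) j₁ j₂
    refine ⟨j, hij₁.trans hj1, fun k hk => ?_⟩
    rcases Finset.mem_insert.1 hk with rfl | hk
    · have e : t i j (hij₁.trans hj1) = (t j₂ j hj2).comp (t i j₂ hij₂) := (htrans _ _ _ _ _).symm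
      rw [e, AlgHom.comp_apply, h₂, map_zero]
    · have e : t i j (hij₁.trans hj1) = (t j₁ j hj1).comp (t i j₁ hij₁) := (htrans _ _ _ _ _).symm
      rw [e, AlgHom.comp_apply, h₁ k hk, map_zero]

theorem main13721 [Module.Finite A B]
    (hcomp : ∀ (i j : ι) (h : i ≤ j), (φ j).comp (t i j h) = φ i)
    (hsurj : ∀ a : A', ∃ (i : ι) (x : Ai i), φ i x = a)
    (hzero : ∀ (i : ι) (x : Ai i), φ i x = 0 → ∃ (j : ι) (h : i ≤ j), t i j h x = 0)
    (htrans : ∀ (i j k : ι) (hij : i ≤ j) (hjk : j ≤ k),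
      (t j k hjk).comp (t i j hij) = t i k (hij.trans hjk))
    (F : B →ₚₗ[A] A) :
    PolLaw.kerBC F A' =
      ⨆ i : ι, (PolLaw.kerBC F (Ai i)).map (Algebra.TensorProduct.map (φ i) (AlgHom.id A B)) := by
  classical
  apply le_antisymm
  · intro b' hb'
    obtain ⟨m, s, hs⟩ := Module.Finite.exists_fin (R := A) (M := B)
    obtain ⟨i, z, rfl⟩ := exists_lift_left Ai t φ hcomp hsurj b'
    -- generic identity over `A'`
    have h1 := garg_of_mem_kerBC F A' s _ hb'
    rw [← map_garg (φ i) s z, ← map_gx (φ i) s, ← compat_map, ← compat_map] at h1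
    obtain ⟨u, hu⟩ : ∃ u : MvPolynomial (Sg m) (Ai i),
        u = Algebra.TensorProduct.rid A A _ (F.toFun' _ (garg (Ai i) s z)) := ⟨_, rfl⟩
    obtain ⟨v, hv⟩ : ∃ v : MvPolynomial (Sg m) (Ai i),
        v = Algebra.TensorProduct.rid A A _ (F.toFun' _ (gx (Ai i) s)) := ⟨_, rfl⟩
    have h2 : MvPolynomial.mapAlgHom (σ := Sg m) (φ i) (u - v) = 0 := by
      rw [map_sub, hu, hv, ← rid_map, ← rid_map, h1, sub_self]
    have h3 : ∀ α ∈ (u - v).support, φ i (MvPolynomial.coeff α (u - v)) = 0 := by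
      intro α _
      have h4 := congr_arg (MvPolynomial.coeff α) h2
      rw [MvPolynomial.mapAlgHom_apply, MvPolynomial.coeff_map, MvPolynomial.coeff_zero] at h4
      exact h4
    obtain ⟨j, hij, h5⟩ := exists_common_zero Ai t φ hzero htrans i (u - v).support
      (fun α => MvPolynomial.coeff α (u - v)) h3
    have h6 : MvPolynomial.mapAlgHom (σ := Sg m) (t i j hij) (u - v) = 0 := by
      apply MvPolynomial.ext
      intro α
      rw [MvPolynomial.mapAlgHom_apply, MvPolynomial.coeff_map, MvPolynomial.coeff_zero]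
      by_cases hα : α ∈ (u - v).support
      · exact h5 α hα
      · rw [MvPolynomial.notMem_support_iff.1 hα, map_zero]
    have h7 : Algebra.TensorProduct.map (t i j hij) (AlgHom.id A B) z ∈ PolLaw.kerBC F (Ai j) := by
      apply mem_kerBC_of_garg F (Ai j) s hs
      rw [← map_garg (t i j hij) s z, ← map_gx (t i j hij) s, ← compat_map, ← compat_map]
      apply (Algebra.TensorProduct.rid A A (MvPolynomial (Sg m) (Ai j))).injective
      rw [rid_map, rid_map, ← hu, ← hv]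
      rw [map_sub, sub_eq_zero] at h6
      exact h6
    have h8 : Algebra.TensorProduct.map (φ i) (AlgHom.id A B) z =
        Algebra.TensorProduct.map (φ j) (AlgHom.id A B)
          (Algebra.TensorProduct.map (t i j hij) (AlgHom.id A B) z) := by
      rw [map_map_left, hcomp]
    rw [h8]
    exact Ideal.mem_iSup_of_mem j (Ideal.mem_map_of_mem _ h7)
  · apply iSup_le
    intro i
    rw [Ideal.map_le_iff_le_comap]
    intro z hz
    show Algebra.TensorProduct.map (φ i) (AlgHom.id A B) z ∈ PolLaw.kerBC F A'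
    rw [mem_kerBC_iff]
    intro R _ _ _ _ x w
    rw [map_map_left]
    exact kerBC_apply F hz R _ x w

end Colim

end Groth.Agent.Lib.PolLawColimH1
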