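import Mathlib
import Groth.Prelude.Def_PolLaw
import Groth.Agent.Lib.PolLawKer_helper1
import Groth.Agent.Lib.PolLawSurj_helper1
import Groth.Agent.Lib.PolLawEtale_helper1
import Groth.Agent.Lib.PolLawLoc_helper1
import Groth.Agent.Lib.PolLawColim_helper1

/-!
# Kernels of polynomial laws on a finite algebra in characteristic zero commute with flat base
change (helper1)
-/

set_option autoImplicit false
universe u
open scoped TensorProduct
open Polynomial

namespace Groth.Agent.Lib.PolLawChar0H1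

open Groth.Agent.Lib.PolLawKerH1 Groth.Agent.Lib.PolLawSurjH1 Groth.Agent.Lib.PolLawEtaleH1
  Groth.Agent.Lib.PolLawLocH1 Groth.Agent.Lib.PolLawColimH1

variable {A : Type u} [CommRing A] {B : Type u} [CommRing B] [Algebra A B]

section Val

variable (F : B →ₚₗ[A] A)

/-- the value of the law as an element of the test ring -/
noncomputable def val (R : Type u) [CommSemiring R] [Algebra A R] (z : R ⊗[A] B) : R :=
  Algebra.TensorProduct.rid A A R (F.toFun' R z)

theorem val_map {R R' : Type u} [CommSemiring R] [Algebra A R] [CommSemiring R'] [Algebra A R']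
    (ψ : R →ₐ[A] R') (z : R ⊗[A] B) :
    val F R' (Algebra.TensorProduct.map ψ (AlgHom.id A B) z) = ψ (val F R z) := by
  rw [val, val, ← compat_map, rid_map]

theorem toFun_eq_of_val_eq {R : Type u} [CommSemiring R] [Algebra A R] (z z' : R ⊗[A] B)
    (h : val F R z = val F R z') : F.toFun' R z = F.toFun' R z' :=
  (Algebra.TensorProduct.rid A A R).injective h

/-- the argument `x + Z y` over `R₀[Z]` -/
noncomputable def argZ (R₀ : Type u) [CommRing R₀] [Algebra A R₀] (x y : R₀ ⊗[A] B) :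
    Polynomial R₀ ⊗[A] B :=
  Algebra.TensorProduct.map (Polynomial.CAlgHom (R := A) (A := R₀)) (AlgHom.id A B) x +
    ((X : Polynomial R₀) ⊗ₜ[A] (1 : B)) *
      Algebra.TensorProduct.map (Polynomial.CAlgHom (R := A) (A := R₀)) (AlgHom.id A B) y

/-- `F(x + Z y)` as a polynomial in `Z` -/
noncomputable def UU (R₀ : Type u) [CommRing R₀] [Algebra A R₀] (x y : R₀ ⊗[A] B) : Polynomial R₀ :=
  val F (Polynomial R₀) (argZ R₀ x y)

theorem map_argZ {R₀ R' : Type u} [CommRing R₀] [Algebra A R₀] [CommSemiring R'] [Algebra A R']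
    (Ψ : Polynomial R₀ →ₐ[A] R') (x y : R₀ ⊗[A] B) :
    Algebra.TensorProduct.map Ψ (AlgHom.id A B) (argZ R₀ x y) =
      Algebra.TensorProduct.map (Ψ.comp (Polynomial.CAlgHom (R := A) (A := R₀))) (AlgHom.id A B) x +
        ((Ψ X) ⊗ₜ[A] (1 : B)) *
          Algebra.TensorProduct.map (Ψ.comp (Polynomial.CAlgHom (R := A) (A := R₀)))
            (AlgHom.id A B) y := by
  rw [argZ, map_add, map_mul, map_map_left, map_map_left, Algebra.TensorProduct.map_tmul, map_one]

theorem master {R₀ R' : Type u} [CommRing R₀] [Algebra A R₀] [CommSemiring R'] [Algebra A R']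
    (Ψ : Polynomial R₀ →ₐ[A] R') (x y : R₀ ⊗[A] B) :
    val F R' (Algebra.TensorProduct.map (Ψ.comp (Polynomial.CAlgHom (R := A) (A := R₀)))
        (AlgHom.id A B) x + ((Ψ X) ⊗ₜ[A] (1 : B)) *
          Algebra.TensorProduct.map (Ψ.comp (Polynomial.CAlgHom (R := A) (A := R₀)))
            (AlgHom.id A B) y) = Ψ (UU F R₀ x y) := by
  rw [← map_argZ, val_map, UU]

/-- evaluation `Z ↦ a` -/
noncomputable def evA (R₀ : Type u) [CommRing R₀] [Algebra A R₀] (a : R₀) :
    Polynomial R₀ →ₐ[A] R₀ := (Polynomial.aeval a).restrictScalars A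

theorem evA_apply (R₀ : Type u) [CommRing R₀] [Algebra A R₀] (a : R₀) (p : Polynomial R₀) :
    evA (A := A) R₀ a p = p.eval a := by
  rw [evA, AlgHom.restrictScalars_apply, Polynomial.coe_aeval_eq_eval]

theorem evA_comp_C (R₀ : Type u) [CommRing R₀] [Algebra A R₀] (a : R₀) :
    (evA (A := A) R₀ a).comp (Polynomial.CAlgHom (R := A) (A := R₀)) = AlgHom.id A R₀ := by
  apply AlgHom.ext
  intro r
  rw [AlgHom.comp_apply, evA_apply]
  exact Polynomial.eval_C

theorem map_id_apply {R : Type u} [CommSemiring R] [Algebra A R] (z : R ⊗[A] B) :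
    Algebra.TensorProduct.map (AlgHom.id A R) (AlgHom.id A B) z = z := by
  rw [Algebra.TensorProduct.map_id]
  rfl

/-- `F(x + a y)` is the value of `UU` at `a`. -/
theorem val_add_mul (R₀ : Type u) [CommRing R₀] [Algebra A R₀] (x y : R₀ ⊗[A] B) (a : R₀) :
    val F R₀ (x + (a ⊗ₜ[A] (1 : B)) * y) = (UU F R₀ x y).eval a := by
  have h := master F (evA (A := A) R₀ a) x y
  rw [evA_comp_C, map_id_apply, map_id_apply, evA_apply, evA_apply, Polynomial.eval_X] at h
  exact h

/-- naturality of `UU` -/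
theorem UU_map {R₀ R₁ : Type u} [CommRing R₀] [Algebra A R₀] [CommRing R₁] [Algebra A R₁]
    (φ : R₀ →ₐ[A] R₁) (x y : R₀ ⊗[A] B) :
    UU F R₁ (Algebra.TensorProduct.map φ (AlgHom.id A B) x)
      (Algebra.TensorProduct.map φ (AlgHom.id A B) y) = (UU F R₀ x y).map (φ : R₀ →+* R₁) := by
  have h := master F (Polynomial.mapAlgHom φ) x y
  have hc : (Polynomial.mapAlgHom φ).comp (Polynomial.CAlgHom (R := A) (A := R₀)) =
      (Polynomial.CAlgHom (R := A) (A := R₁)).comp φ := by
    apply AlgHom.ext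
    intro r
    show Polynomial.map (φ : R₀ →+* R₁) (C r) = C (φ r)
    rw [Polynomial.map_C]
    rfl
  rw [hc, Polynomial.coe_mapAlgHom, Polynomial.map_X, ← map_map_left, ← map_map_left] at h
  exact h

/-- scaling -/
theorem UU_smul (R₀ : Type u) [CommRing R₀] [Algebra A R₀] (x y : R₀ ⊗[A] B) (r : R₀) :
    UU F R₀ x ((r ⊗ₜ[A] (1 : B)) * y) = Polynomial.aeval (C r * X) (UU F R₀ x y) := by
  obtain ⟨Ψ, hΨ⟩ : ∃ Ψ : Polynomial R₀ →ₐ[A] Polynomial R₀,
      Ψ = (Polynomial.aeval (C r * X : Polynomial R₀)).restrictScalars A := ⟨_, rfl⟩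
  have h := master F Ψ x y
  have hc : Ψ.comp (Polynomial.CAlgHom (R := A) (A := R₀)) =
      Polynomial.CAlgHom (R := A) (A := R₀) := by
    apply AlgHom.ext
    intro s
    rw [AlgHom.comp_apply, hΨ, AlgHom.restrictScalars_apply]
    exact Polynomial.aeval_C _ _
  have hX : Ψ X = C r * X := by
    rw [hΨ, AlgHom.restrictScalars_apply, Polynomial.aeval_X]
  rw [hc, hX] at h
  have h2 : UU F R₀ x ((r ⊗ₜ[A] (1 : B)) * y) = Ψ (UU F R₀ x y) := by
    rw [← h, UU, argZ, map_mul, Algebra.TensorProduct.map_tmul, map_one]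
    congr 2
    have : (Polynomial.CAlgHom (R := A) (A := R₀)) r = C r := rfl
    rw [this, ← mul_assoc, Algebra.TensorProduct.tmul_mul_tmul, mul_one, mul_comm X (C r)]
  rw [h2, hΨ, AlgHom.restrictScalars_apply]

theorem coeff_one_aeval_C_mul_X {R₀ : Type*} [CommRing R₀] (p : Polynomial R₀) (r : R₀) :
    (Polynomial.aeval (C r * X) p).coeff 1 = r * p.coeff 1 := by
  rw [Polynomial.aeval_eq_sum_range' (n := p.natDegree + 2) (by omega), Polynomial.finset_sum_coeff]
  have hterm : ∀ j, (p.coeff j • (C r * X : Polynomial R₀) ^ j).coeff 1 =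
      if 1 = j then p.coeff j * r ^ j else 0 := by
    intro j
    rw [mul_pow, ← C_pow, smul_eq_C_mul, ← mul_assoc, ← C_mul, coeff_C_mul_X_pow]
  simp only [hterm]
  rw [Finset.sum_ite_eq, if_pos (Finset.mem_range.2 (by omega)), pow_one, mul_comm]

/-- shift -/
theorem UU_shift (R₀ : Type u) [CommRing R₀] [Algebra A R₀] (x y : R₀ ⊗[A] B) :
    (UU F (Polynomial R₀) (argZ R₀ x y)
      (Algebra.TensorProduct.map (Polynomial.CAlgHom (R := A) (A := R₀)) (AlgHom.id A B) y)).coeff 1
      = Polynomial.derivative (UU F R₀ x y) := by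
  obtain ⟨Ψ, hΨ⟩ : ∃ Ψ : Polynomial R₀ →ₐ[A] Polynomial (Polynomial R₀),
      Ψ = (Polynomial.aeval (C X + X : Polynomial (Polynomial R₀)) :
        Polynomial R₀ →ₐ[R₀] Polynomial (Polynomial R₀)).restrictScalars A := ⟨_, rfl⟩
  have h := master F Ψ x y
  have hc : Ψ.comp (Polynomial.CAlgHom (R := A) (A := R₀)) =
      (Polynomial.CAlgHom (R := A) (A := Polynomial R₀)).comp
        (Polynomial.CAlgHom (R := A) (A := R₀)) := by
    apply AlgHom.ext
    intro s
    rw [AlgHom.comp_apply, hΨ, AlgHom.restrictScalars_apply]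
    exact Polynomial.aeval_C _ _
  have hX : Ψ X = C X + X := by
    rw [hΨ, AlgHom.restrictScalars_apply, Polynomial.aeval_X]
  rw [hc, hX] at h
  have h2 : UU F (Polynomial R₀) (argZ R₀ x y)
      (Algebra.TensorProduct.map (Polynomial.CAlgHom (R := A) (A := R₀)) (AlgHom.id A B) y) =
      Ψ (UU F R₀ x y) := by
    rw [← h]
    conv_lhs => rw [UU, argZ]
    congr 1
    rw [argZ, map_add, map_mul, map_map_left, map_map_left,
      Algebra.TensorProduct.map_tmul, map_one, add_assoc, ← add_mul, ← TensorProduct.add_tmul]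
    rfl
  rw [h2, hΨ, AlgHom.restrictScalars_apply]
  have h3 : Polynomial.aeval (C X + X : Polynomial (Polynomial R₀)) (UU F R₀ x y) =
      taylor (X : Polynomial R₀) ((UU F R₀ x y).map C) := by
    rw [taylor_apply, Polynomial.comp, Polynomial.eval₂_map, add_comm, Polynomial.aeval_def]
    rfl
  rw [h3, taylor_coeff_one, Polynomial.derivative_map, Polynomial.eval_map, Polynomial.eval₂_C_X]

theorem coeff_one_eval_X {R₀ : Type*} [CommRing R₀] (U : Polynomial (Polynomial R₀)) :
    (U.eval X).coeff 1 = (U.coeff 0).coeff 1 + (U.coeff 1).coeff 0 := by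
  rw [Polynomial.eval_eq_sum_range' (show U.natDegree < U.natDegree + 2 by omega),
    Polynomial.finset_sum_coeff]
  simp only [Polynomial.coeff_mul_X_pow']
  rw [Finset.sum_range_succ', Finset.sum_range_succ', Finset.sum_eq_zero]
  · simp [add_comm]
  · intro j _
    rw [if_neg (by omega)]

/-- additivity of the linear coefficient -/
theorem UU_add_coeff_one (R₀ : Type u) [CommRing R₀] [Algebra A R₀] (x y₁ y₂ : R₀ ⊗[A] B) :
    (UU F R₀ x (y₁ + y₂)).coeff 1 = (UU F R₀ x y₁).coeff 1 + (UU F R₀ x y₂).coeff 1 := by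
  obtain ⟨U, hU⟩ : ∃ U : Polynomial (Polynomial R₀), U = UU F (Polynomial R₀) (argZ R₀ x y₁)
      (Algebra.TensorProduct.map (Polynomial.CAlgHom (R := A) (A := R₀)) (AlgHom.id A B) y₂) :=
    ⟨_, rfl⟩
  -- Z₂ ↦ 0
  have h1 : UU F R₀ x y₁ = U.coeff 0 := by
    have h := val_add_mul F (Polynomial R₀) (argZ R₀ x y₁)
      (Algebra.TensorProduct.map (Polynomial.CAlgHom (R := A) (A := R₀)) (AlgHom.id A B) y₂) 0
    rw [TensorProduct.zero_tmul, zero_mul, add_zero, ← hU, ← Polynomial.coeff_zero_eq_eval_zero] at h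
    exact h
  -- Z₂ ↦ Z₁
  have h3 : UU F R₀ x (y₁ + y₂) = U.eval X := by
    have h := val_add_mul F (Polynomial R₀) (argZ R₀ x y₁)
      (Algebra.TensorProduct.map (Polynomial.CAlgHom (R := A) (A := R₀)) (AlgHom.id A B) y₂) X
    rw [← hU] at h
    rw [← h, UU]
    congr 1
    rw [argZ, argZ, map_add, mul_add, add_assoc]
  -- Z₁ ↦ 0
  have h2 : UU F R₀ x y₂ = U.map ((evA (A := A) R₀ 0 : Polynomial R₀ →ₐ[A] R₀) :
      Polynomial R₀ →+* R₀) := by
    have h := UU_map F (evA (A := A) R₀ 0) (argZ R₀ x y₁)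
      (Algebra.TensorProduct.map (Polynomial.CAlgHom (R := A) (A := R₀)) (AlgHom.id A B) y₂)
    rw [← hU, map_argZ, map_map_left, evA_comp_C, map_id_apply, map_id_apply, map_id_apply,
      evA_apply, Polynomial.eval_X, TensorProduct.zero_tmul, zero_mul, add_zero] at h
    exact h
  rw [h3, coeff_one_eval_X, ← h1, h2, Polynomial.coeff_map]
  congr 1
  show _ = evA (A := A) R₀ 0 (U.coeff 1)
  rw [evA_apply, ← Polynomial.coeff_zero_eq_eval_zero]

theorem eq_C_of_derivative_eq_zero [Algebra ℚ A] {R : Type*} [CommRing R] [Algebra A R]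
    (p : Polynomial R) (h : Polynomial.derivative p = 0) : p = C (p.coeff 0) := by
  ext n
  rcases n with _ | n
  · rw [Polynomial.coeff_C_zero]
  · rw [Polynomial.coeff_C_succ]
    have h1 := congr_arg (fun q => Polynomial.coeff q n) h
    simp only [Polynomial.coeff_derivative, Polynomial.coeff_zero] at h1
    obtain ⟨inv, hinv⟩ : ∃ inv : R, ((n : R) + 1) * inv = 1 := by
      refine ⟨algebraMap A R (algebraMap ℚ A ((n + 1 : ℚ)⁻¹)), ?_⟩
      have h2 : ((n : R) + 1) = algebraMap A R (algebraMap ℚ A ((n : ℚ) + 1)) := by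
        rw [map_add, map_add, map_natCast, map_natCast, map_one, map_one]
      rw [h2, ← map_mul, ← map_mul, mul_inv_cancel₀ (by positivity), map_one, map_one]
    calc p.coeff (n + 1) = p.coeff (n + 1) * (((n : R) + 1) * inv) := by rw [hinv, mul_one]
      _ = (p.coeff (n + 1) * ((n : R) + 1)) * inv := by ring
      _ = 0 := by rw [h1, zero_mul]

end Val

section Gen

variable (F : B →ₚₗ[A] A) (A' : Type u) [CommRing A'] [Algebra A A']

/-- the image of `b'` in `R ⊗ B` -/
noncomputable def bet (b' : A' ⊗[A] B) (R : Type u) [CommSemiring R] [Algebra A R] [Algebra A' R]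
    [IsScalarTower A A' R] : R ⊗[A] B :=
  Algebra.TensorProduct.map (IsScalarTower.toAlgHom A A' R) (AlgHom.id A B) b'

theorem map_bet (b' : A' ⊗[A] B) {R R' : Type u} [CommSemiring R] [Algebra A R] [Algebra A' R]
    [IsScalarTower A A' R] [CommSemiring R'] [Algebra A R'] [Algebra A' R']
    [IsScalarTower A A' R'] (ψ : R →ₐ[A] R')
    (hψ : ∀ a' : A', ψ (algebraMap A' R a') = algebraMap A' R' a') :
    Algebra.TensorProduct.map ψ (AlgHom.id A B) (bet A' b' R) = bet A' b' R' := by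
  rw [bet, bet, map_map_left]
  congr 2
  exact AlgHom.ext hψ

variable {A'} in
/-- the generic linear coefficient -/
noncomputable def Dgen {m : ℕ} (s : Fin m → B) (b' : A' ⊗[A] B) : MvPolynomial (Sg m) A' :=
  (UU F (MvPolynomial (Sg m) A') (gx A' s) (gw A' s * bet A' b' (MvPolynomial (Sg m) A'))).coeff 1

theorem coeff_one_eq_zero_of_Dgen {m : ℕ} (s : Fin m → B)
    (hs : Submodule.span A (Set.range s) = ⊤) (b' : A' ⊗[A] B) (h : Dgen F s b' = 0)
    (R : Type u) [CommRing R] [Algebra A R] [Algebra A' R] [IsScalarTower A A' R]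
    (x w : R ⊗[A] B) : (UU F R x (w * bet A' b' R)).coeff 1 = 0 := by
  obtain ⟨ρ, rfl⟩ := exists_coeffs s hs x
  obtain ⟨ρ', rfl⟩ := exists_coeffs s hs w
  obtain ⟨ψ', hψ'⟩ : ∃ ψ' : MvPolynomial (Sg m) A' →ₐ[A'] R,
      ψ' = MvPolynomial.aeval (Sum.elim ρ ρ') := ⟨_, rfl⟩
  obtain ⟨ψ, hψ⟩ : ∃ ψ : MvPolynomial (Sg m) A' →ₐ[A] R, ψ = ψ'.restrictScalars A := ⟨_, rfl⟩
  have hψX : ∀ i, ψ (MvPolynomial.X i) = Sum.elim ρ ρ' i := by
    intro i
    rw [hψ, AlgHom.restrictScalars_apply, hψ', MvPolynomial.aeval_X]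
  have hx : Algebra.TensorProduct.map ψ (AlgHom.id A B) (gx A' s) = ∑ k, ρ k ⊗ₜ[A] s k := by
    rw [gx, map_sum]
    refine Finset.sum_congr rfl fun k _ => ?_
    rw [Algebra.TensorProduct.map_tmul, hψX, Sum.elim_inl]
    rfl
  have hw : Algebra.TensorProduct.map ψ (AlgHom.id A B) (gw A' s) = ∑ k, ρ' k ⊗ₜ[A] s k := by
    rw [gw, map_sum]
    refine Finset.sum_congr rfl fun k _ => ?_
    rw [Algebra.TensorProduct.map_tmul, hψX, Sum.elim_inr]
    rfl
  have hb : Algebra.TensorProduct.map ψ (AlgHom.id A B) (bet A' b' (MvPolynomial (Sg m) A')) =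
      bet A' b' R := by
    apply map_bet
    intro a'
    rw [hψ, AlgHom.restrictScalars_apply, ψ'.commutes]
  have h1 := UU_map F ψ (gx A' s) (gw A' s * bet A' b' (MvPolynomial (Sg m) A'))
  rw [map_mul, hx, hw, hb] at h1
  rw [h1, Polynomial.coeff_map]
  have h2 : (UU F (MvPolynomial (Sg m) A') (gx A' s)
      (gw A' s * bet A' b' (MvPolynomial (Sg m) A'))).coeff 1 = 0 := h
  rw [h2, map_zero]

theorem mem_kerBC_of_Dgen [Algebra ℚ A] {m : ℕ} (s : Fin m → B)
    (hs : Submodule.span A (Set.range s) = ⊤) (b' : A' ⊗[A] B) (h : Dgen F s b' = 0) :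
    b' ∈ PolLaw.kerBC F A' := by
  have key : ∀ (R : Type u) [CommRing R] [Algebra A R] [Algebra A' R] [IsScalarTower A A' R]
      (x w : R ⊗[A] B), F.toFun' R (x + w * bet A' b' R) = F.toFun' R x := by
    intro R _ _ _ _ x w
    have hder : Polynomial.derivative (UU F R x (w * bet A' b' R)) = 0 := by
      rw [← UU_shift, map_mul]
      have hb : Algebra.TensorProduct.map (Polynomial.CAlgHom (R := A) (A := R)) (AlgHom.id A B)
          (bet A' b' R) = bet A' b' (Polynomial R) := by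
        apply map_bet
        intro a'
        rfl
      rw [hb]
      exact coeff_one_eq_zero_of_Dgen F A' s hs b' h (Polynomial R) _ _
    have hC := eq_C_of_derivative_eq_zero (A := A) _ hder
    apply toFun_eq_of_val_eq
    have e1 := val_add_mul F R x (w * bet A' b' R) 1
    have e0 := val_add_mul F R x (w * bet A' b' R) 0
    rw [← Algebra.TensorProduct.one_def, one_mul] at e1
    rw [TensorProduct.zero_tmul, zero_mul, add_zero] at e0
    rw [e1, e0, hC, Polynomial.eval_C, Polynomial.eval_C]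
  apply mem_kerBC_of_generic F A' s hs
  exact key (MvPolynomial (Sg m) A') (gx A' s) (gw A' s)

theorem Dgen_of_mem_kerBC {m : ℕ} (s : Fin m → B) (b' : A' ⊗[A] B)
    (hb' : b' ∈ PolLaw.kerBC F A') : Dgen F s b' = 0 := by
  have h1 : F.toFun' (Polynomial (MvPolynomial (Sg m) A'))
      (argZ (MvPolynomial (Sg m) A') (gx A' s) (gw A' s * bet A' b' (MvPolynomial (Sg m) A'))) =
      F.toFun' (Polynomial (MvPolynomial (Sg m) A'))
        (Algebra.TensorProduct.map (Polynomial.CAlgHom (R := A) (A := MvPolynomial (Sg m) A'))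
          (AlgHom.id A B) (gx A' s)) := by
    have hb : Algebra.TensorProduct.map
        (Polynomial.CAlgHom (R := A) (A := MvPolynomial (Sg m) A')) (AlgHom.id A B)
        (bet A' b' (MvPolynomial (Sg m) A')) = bet A' b' (Polynomial (MvPolynomial (Sg m) A')) := by
      apply map_bet
      intro a'
      rfl
    rw [argZ, map_mul, hb, ← mul_assoc]
    exact (mem_kerBC_iff F A' b').1 hb' _ _ _
  have h2 : UU F (MvPolynomial (Sg m) A') (gx A' s)
      (gw A' s * bet A' b' (MvPolynomial (Sg m) A')) =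
      C (val F (MvPolynomial (Sg m) A') (gx A' s)) := by
    rw [UU, val, h1]
    exact val_map F (Polynomial.CAlgHom (R := A) (A := MvPolynomial (Sg m) A')) (gx A' s)
  rw [Dgen, h2, Polynomial.coeff_C_succ]

theorem Dgen_add {m : ℕ} (s : Fin m → B) (b₁ b₂ : A' ⊗[A] B) :
    Dgen F s (b₁ + b₂) = Dgen F s b₁ + Dgen F s b₂ := by
  rw [Dgen, Dgen, Dgen, ← UU_add_coeff_one, ← mul_add]
  congr 3
  rw [bet, bet, bet, map_add]

theorem Dgen_tmul {m : ℕ} (s : Fin m → B) (a' : A') (b : B) :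
    Dgen F s (a' ⊗ₜ[A] b) = MvPolynomial.C a' * Dgen F s ((1 : A') ⊗ₜ[A] b) := by
  have h1 : bet A' (a' ⊗ₜ[A] b) (MvPolynomial (Sg m) A') =
      ((MvPolynomial.C a' : MvPolynomial (Sg m) A') ⊗ₜ[A] (1 : B)) *
        bet A' ((1 : A') ⊗ₜ[A] b) (MvPolynomial (Sg m) A') := by
    rw [bet, bet, Algebra.TensorProduct.map_tmul, Algebra.TensorProduct.map_tmul, map_one,
      Algebra.TensorProduct.tmul_mul_tmul, mul_one, one_mul]
    rfl
  rw [Dgen, Dgen, h1, mul_left_comm, UU_smul, coeff_one_aeval_C_mul_X]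

end Gen

section Flat

variable [Algebra ℚ A] [Module.Finite A B] (F : B →ₚₗ[A] A)

/-- the linear map whose kernel is the kernel of the law -/
noncomputable def DD {m : ℕ} (s : Fin m → B) : B →ₗ[A] MvPolynomial (Sg m) A where
  toFun b := Dgen F s ((1 : A) ⊗ₜ[A] b)
  map_add' b₁ b₂ := by rw [TensorProduct.tmul_add, Dgen_add]
  map_smul' a b := by
    have h1 : (1 : A) ⊗ₜ[A] (a • b) = a ⊗ₜ[A] b := by
      rw [← TensorProduct.smul_tmul, smul_eq_mul, mul_one]
    rw [h1, Dgen_tmul, RingHom.id_apply, MvPolynomial.smul_eq_C_mul]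

theorem Dgen_one_tmul (A' : Type u) [CommRing A'] [Algebra A A'] {m : ℕ} (s : Fin m → B) (b : B) :
    Dgen F s ((1 : A') ⊗ₜ[A] b) = MvPolynomial.map (algebraMap A A') (DD F s b) := by
  obtain ⟨μ, hμ⟩ : ∃ μ : MvPolynomial (Sg m) A →ₐ[A] MvPolynomial (Sg m) A',
      μ = MvPolynomial.mapAlgHom (Algebra.ofId A A') := ⟨_, rfl⟩
  have h1 := UU_map F μ (gx A s) (gw A s * bet A ((1 : A) ⊗ₜ[A] b) (MvPolynomial (Sg m) A))
  have hb : Algebra.TensorProduct.map μ (AlgHom.id A B)
      (bet A ((1 : A) ⊗ₜ[A] b) (MvPolynomial (Sg m) A)) =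
      bet A' ((1 : A') ⊗ₜ[A] b) (MvPolynomial (Sg m) A') := by
    rw [bet, bet, Algebra.TensorProduct.map_tmul, Algebra.TensorProduct.map_tmul,
      Algebra.TensorProduct.map_tmul, map_one, map_one, map_one]
    rfl
  rw [map_mul, hb, hμ, map_gx, map_gw] at h1
  show _ = MvPolynomial.map (algebraMap A A') (Dgen F s ((1 : A) ⊗ₜ[A] b))
  rw [Dgen, Dgen, h1, Polynomial.coeff_map]
  rfl

theorem Dgen_eq (A' : Type u) [CommRing A'] [Algebra A A'] {m : ℕ} (s : Fin m → B)
    (b' : A' ⊗[A] B) :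
    Dgen F s b' = MvPolynomial.algebraTensorAlgEquiv A A' ((DD F s).lTensor A' b') := by
  induction b' using TensorProduct.induction_on with
  | zero =>
    rw [map_zero, map_zero]
    exact Dgen_of_mem_kerBC F A' s 0 (zero_mem _)
  | tmul a' b =>
    rw [LinearMap.lTensor_tmul, MvPolynomial.algebraTensorAlgEquiv_tmul, Dgen_tmul, Dgen_one_tmul,
      MvPolynomial.smul_eq_C_mul]
  | add x y hx hy => rw [Dgen_add, map_add, map_add, hx, hy]

theorem main13701 (A' : Type u) [CommRing A'] [Algebra A A'] [Module.Flat A A'] :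
    (PolLaw.ker F).map (Algebra.TensorProduct.includeRight : B →ₐ[A] A' ⊗[A] B) =
      PolLaw.kerBC F A' := by
  apply le_antisymm (map_ker_le_kerBC F A')
  intro b' hb'
  obtain ⟨m, s, hs⟩ := Module.Finite.exists_fin (R := A) (M := B)
  have h1 := Dgen_of_mem_kerBC F A' s b' hb'
  rw [Dgen_eq] at h1
  have h2 : (DD F s).lTensor A' b' = 0 := by
    apply (MvPolynomial.algebraTensorAlgEquiv A A').injective
    rw [h1, map_zero]
  have hex := Module.Flat.lTensor_exact A' (LinearMap.exact_subtype_ker_map (DD F s))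
  obtain ⟨ε, rfl⟩ := (hex b').1 h2
  have hkerle : ∀ c ∈ LinearMap.ker (DD F s), c ∈ PolLaw.ker F := by
    intro c hc
    apply mem_ker_of_mem_kerBC_self
    apply mem_kerBC_of_Dgen F A s hs
    exact hc
  clear h1 h2 hb'
  induction ε using TensorProduct.induction_on with
  | zero => rw [map_zero]; exact zero_mem _
  | tmul a' c =>
    rw [LinearMap.lTensor_tmul]
    have h3 : a' ⊗ₜ[A] ((LinearMap.ker (DD F s)).subtype c) = (a' ⊗ₜ[A] (1 : B)) *
        (Algebra.TensorProduct.includeRight : B →ₐ[A] A' ⊗[A] B) (c : B) := by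
      rw [Algebra.TensorProduct.includeRight_apply, Algebra.TensorProduct.tmul_mul_tmul, mul_one,
        one_mul]
      rfl
    rw [h3]
    exact Ideal.mul_mem_left _ _ (Ideal.mem_map_of_mem _ (hkerle c c.2))
  | add x y hx hy => rw [map_add]; exact add_mem hx hy

end Flat

end Groth.Agent.Lib.PolLawChar0H1
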