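import Mathlib
import Groth.Prelude.Def_PolLaw
import Groth.Agent.Lib.PolLawKer_helper1

/-!
# Multiplicative laws on a product of two algebras over a connected base (helper1)
-/

set_option autoImplicit false
universe u
open scoped TensorProduct
open Polynomial

namespace Groth.Agent.Lib.PolLawProdH1

open Groth.Agent.Lib.PolLawKerH1

theorem idem_eq_zero_or_one {A : Type u} [CommRing A] [ConnectedSpace (PrimeSpectrum A)] (e : A)
    (he : IsIdempotentElem e) : e = 0 ∨ e = 1 := by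
  have hcl : IsClopen (PrimeSpectrum.basicOpen e : Set (PrimeSpectrum A)) :=
    PrimeSpectrum.isClopen_iff.2 ⟨e, he, rfl⟩
  rcases _root_.isClopen_iff.1 hcl with h | h
  · left
    apply PrimeSpectrum.basicOpen_injOn_isIdempotentElem he IsIdempotentElem.zero
    apply TopologicalSpace.Opens.ext
    rw [PrimeSpectrum.basicOpen_zero]
    exact h
  · right
    apply PrimeSpectrum.basicOpen_injOn_isIdempotentElem he IsIdempotentElem.one
    apply TopologicalSpace.Opens.ext
    rw [PrimeSpectrum.basicOpen_one]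
    exact h

/-- A polynomial with `P(t)P(t') = P(tt')` and `P(1) = 1` over a ring with connected spectrum is a
power of `X`. -/
theorem eq_X_pow_of_mul {A : Type u} [CommRing A] [ConnectedSpace (PrimeSpectrum A)] (P : A[X])
    (hmul : aeval (C X : A[X][X]) P * aeval (X : A[X][X]) P = aeval (C X * X : A[X][X]) P)
    (hone : aeval (1 : A) P = 1) : ∃ k : ℕ, P = X ^ k := by
  have e1 : aeval (C X : A[X][X]) P = C P := by
    have : (aeval (C X : A[X][X]) : A[X] →ₐ[A] A[X][X]) = Polynomial.CAlgHom := by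
      apply Polynomial.algHom_ext
      rw [aeval_X]; rfl
    rw [this]; rfl
  have e2 : aeval (X : A[X][X]) P = P.map C := by
    have : (aeval (X : A[X][X]) : A[X] →ₐ[A] A[X][X]) =
        Polynomial.mapAlgHom (Algebra.ofId A A[X]) := by
      apply Polynomial.algHom_ext
      rw [aeval_X, Polynomial.coe_mapAlgHom, Polynomial.map_X]
    rw [this, Polynomial.coe_mapAlgHom]
    rfl
  have e3 : ∀ l, (aeval (C X * X : A[X][X]) P).coeff l = P.coeff l • X ^ l := by
    intro l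
    rw [aeval_eq_sum_range, Polynomial.finset_sum_coeff]
    have hterm : ∀ k, (P.coeff k • (C X * X : A[X][X]) ^ k).coeff l =
        if l = k then P.coeff k • X ^ k else 0 := by
      intro k
      rw [mul_pow, ← C_pow, ← smul_mul_assoc, Polynomial.smul_C, coeff_C_mul_X_pow]
    simp only [hterm]
    rw [Finset.sum_ite_eq]
    split_ifs with hl
    · rfl
    · rw [Finset.mem_range, not_lt] at hl
      rw [coeff_eq_zero_of_natDegree_lt (by omega), zero_smul]
  have hcoef : ∀ k l, P.coeff k * P.coeff l = if k = l then P.coeff l else 0 := by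
    intro k l
    have h1 := congr_arg (fun Q : A[X][X] => (Q.coeff l).coeff k) hmul
    simp only [e1, e2, e3, coeff_C_mul, coeff_map, coeff_mul_C, coeff_smul, coeff_X_pow,
      smul_eq_mul, mul_ite, mul_one, mul_zero] at h1
    exact h1
  have hsum : ∑ k ∈ Finset.range (P.natDegree + 1), P.coeff k = 1 := by
    rw [Polynomial.coe_aeval_eq_eval, eval_eq_sum_range] at hone
    simpa using hone
  haveI : Nontrivial A := by
    obtain ⟨x⟩ := (inferInstance : Nonempty (PrimeSpectrum A))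
    exact ⟨⟨1, 0, fun h => x.2.ne_top ((Ideal.eq_top_iff_one _).2 (h ▸ zero_mem _))⟩⟩
  obtain ⟨k, hk⟩ : ∃ k, P.coeff k ≠ 0 := by
    by_contra hcon
    push_neg at hcon
    rw [Finset.sum_eq_zero (fun k _ => hcon k)] at hsum
    exact zero_ne_one hsum
  have hk1 : P.coeff k = 1 := by
    rcases idem_eq_zero_or_one (P.coeff k) (by
      have := hcoef k k; rw [if_pos rfl] at this; exact this) with h | h
    · exact absurd h hk
    · exact h
  refine ⟨k, ?_⟩
  ext j
  rw [coeff_X_pow]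
  split_ifs with hj
  · rw [hj, hk1]
  · have := hcoef j k
    rw [if_neg hj, hk1, mul_one] at this
    exact this

section LemmaN

variable {A : Type u} [CommRing A] {E : Type u} [CommRing E] [Algebra A E]

variable (A) in
/-- the one-parameter element `1 ⊗ ε' + t ⊗ ε` -/
noncomputable def uu (ε ε' : E) (S : Type u) [CommSemiring S] [Algebra A S] (t : S) : S ⊗[A] E :=
  (1 : S) ⊗ₜ[A] ε' + t ⊗ₜ[A] ε

theorem uu_mul {ε ε' : E} (hε : ε * ε = ε) (hε' : ε' * ε' = ε') (h0 : ε * ε' = 0)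
    (S : Type u) [CommSemiring S] [Algebra A S] (t t' : S) :
    uu A ε ε' S t * uu A ε ε' S t' = uu A ε ε' S (t * t') := by
  have h0' : ε' * ε = 0 := by rw [mul_comm]; exact h0
  simp only [uu, add_mul, mul_add, Algebra.TensorProduct.tmul_mul_tmul, hε, hε', h0, h0', one_mul,
    mul_one, TensorProduct.tmul_zero, add_zero, zero_add]

theorem uu_one {ε ε' : E} (h1 : ε + ε' = 1) (S : Type u) [CommSemiring S] [Algebra A S] :
    uu A ε ε' S (1 : S) = 1 := by
  rw [uu, ← TensorProduct.tmul_add, add_comm, h1, Algebra.TensorProduct.one_def]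

theorem map_uu (ε ε' : E) {S S' : Type u} [CommSemiring S] [Algebra A S] [CommSemiring S']
    [Algebra A S'] (ψ : S →ₐ[A] S') (t : S) :
    Algebra.TensorProduct.map ψ (AlgHom.id A E) (uu A ε ε' S t) = uu A ε ε' S' (ψ t) := by
  rw [uu, uu, map_add, Algebra.TensorProduct.map_tmul, Algebra.TensorProduct.map_tmul, map_one]
  rfl

/-- the polynomial `F(1 ⊗ ε' + X ⊗ ε)` -/
noncomputable def PP {d : ℕ} (F : PolLaw.MulLaw A E A d) (ε ε' : E) : A[X] :=
  Algebra.TensorProduct.rid A A A[X] (F.law.toFun' A[X] (uu A ε ε' A[X] X))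

theorem F_uu {d : ℕ} (F : PolLaw.MulLaw A E A d) (ε ε' : E) (S : Type u) [CommSemiring S]
    [Algebra A S] (t : S) :
    F.law.toFun' S (uu A ε ε' S t) = (aeval t (PP F ε ε')) ⊗ₜ[A] (1 : A) := by
  have h1 : uu A ε ε' S t = Algebra.TensorProduct.map (aeval t : A[X] →ₐ[A] S) (AlgHom.id A E)
      (uu A ε ε' A[X] X) := by
    rw [map_uu, aeval_X]
  have h2 : F.law.toFun' A[X] (uu A ε ε' A[X] X) = (PP F ε ε') ⊗ₜ[A] (1 : A) := by
    apply (Algebra.TensorProduct.rid A A A[X]).injective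
    rw [Algebra.TensorProduct.rid_tmul, one_smul]
    rfl
  rw [h1, ← compat_map, h2, Algebra.TensorProduct.map_tmul]
  rfl

theorem tmul_one_injective (S : Type u) [CommSemiring S] [Algebra A S] (a b : S)
    (h : a ⊗ₜ[A] (1 : A) = b ⊗ₜ[A] (1 : A)) : a = b := by
  have := congr_arg (Algebra.TensorProduct.rid A A S) h
  rw [Algebra.TensorProduct.rid_tmul, Algebra.TensorProduct.rid_tmul, one_smul, one_smul] at this
  exact this

theorem exists_exponent [ConnectedSpace (PrimeSpectrum A)] {d : ℕ} (F : PolLaw.MulLaw A E A d)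
    {ε ε' : E} (hε : ε * ε = ε) (hε' : ε' * ε' = ε') (h0 : ε * ε' = 0) (h1 : ε + ε' = 1) :
    ∃ k : ℕ, ∀ (S : Type u) [CommSemiring S] [Algebra A S] (t : S),
      F.law.toFun' S (uu A ε ε' S t) = (t ^ k) ⊗ₜ[A] (1 : A) := by
  have hmulS : ∀ (S : Type u) [CommSemiring S] [Algebra A S] (t t' : S),
      aeval t (PP F ε ε') * aeval t' (PP F ε ε') = aeval (t * t') (PP F ε ε') := by
    intro S _ _ t t'
    apply tmul_one_injective (A := A) S
    rw [← F_uu, ← uu_mul hε hε' h0, (F.mult S).2, F_uu, F_uu, Algebra.TensorProduct.tmul_mul_tmul,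
      mul_one]
  have hone : aeval (1 : A) (PP F ε ε') = 1 := by
    apply tmul_one_injective (A := A) A
    rw [← F_uu, uu_one h1, (F.mult A).1, Algebra.TensorProduct.one_def]
  obtain ⟨k, hk⟩ := eq_X_pow_of_mul (PP F ε ε') (hmulS A[X][X] (C X) X) hone
  refine ⟨k, fun S _ _ t => ?_⟩
  rw [F_uu, hk, map_pow, aeval_X]

end LemmaN

section Sub

variable {A : Type u} [CommRing A] {E : Type u} [CommRing E] [Algebra A E]
  {B₁ : Type u} [CommRing B₁] [Algebra A B₁]

theorem lT_mul (i : B₁ →ₗ[A] E) (hi : ∀ x y, i (x * y) = i x * i y) (S : Type u) [CommSemiring S]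
    [Algebra A S] (x y : S ⊗[A] B₁) :
    i.lTensor S (x * y) = i.lTensor S x * i.lTensor S y := by
  induction x using TensorProduct.induction_on with
  | zero => simp
  | tmul s b =>
    induction y using TensorProduct.induction_on with
    | zero => simp
    | tmul s' b' =>
      rw [Algebra.TensorProduct.tmul_mul_tmul, LinearMap.lTensor_tmul, LinearMap.lTensor_tmul,
        LinearMap.lTensor_tmul, Algebra.TensorProduct.tmul_mul_tmul, hi]
    | add y y' hy hy' => rw [mul_add, map_add, map_add, mul_add, hy, hy']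
  | add x x' hx hx' => rw [add_mul, map_add, map_add, add_mul, hx, hx']

theorem lT_mul_eps (i : B₁ →ₗ[A] E) (ε' : E) (hiε : ∀ x, i x * ε' = 0) (S : Type u)
    [CommSemiring S] [Algebra A S] (x : S ⊗[A] B₁) :
    i.lTensor S x * ((1 : S) ⊗ₜ[A] ε') = 0 := by
  induction x using TensorProduct.induction_on with
  | zero => simp
  | tmul s b =>
    rw [LinearMap.lTensor_tmul, Algebra.TensorProduct.tmul_mul_tmul, hiε, TensorProduct.tmul_zero]
  | add x x' hx hx' => rw [map_add, add_mul, hx, hx', add_zero]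

theorem exists_sub_law {d : ℕ} (F : PolLaw.MulLaw A E A d) (i : B₁ →ₗ[A] E) (ε' : E)
    (hi : ∀ x y, i (x * y) = i x * i y) (hiε : ∀ x, i x * ε' = 0) (hε' : ε' * ε' = ε')
    (h1 : i 1 + ε' = 1) (k : ℕ)
    (hk : ∀ (S : Type u) [CommSemiring S] [Algebra A S] (t : S),
      F.law.toFun' S (uu A (i 1) ε' S t) = (t ^ k) ⊗ₜ[A] (1 : A)) :
    ∃ F₁ : PolLaw.MulLaw A B₁ A k, ∀ (S : Type u) [CommSemiring S] [Algebra A S] (x : S ⊗[A] B₁),
      F₁.law.toFun' S x = F.law.toFun' S (i.lTensor S x + (1 : S) ⊗ₜ[A] ε') := by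
  obtain ⟨G, hG⟩ : ∃ G : B₁ →ₚₗ[A] A, ∀ (S : Type u) [CommSemiring S] [Algebra A S]
      (x : S ⊗[A] B₁), G.toFun' S x = F.law.toFun' S (i.lTensor S x + (1 : S) ⊗ₜ[A] ε') := by
    refine ⟨{ toFun' := fun S _ _ x => F.law.toFun' S (i.lTensor S x + (1 : S) ⊗ₜ[A] ε')
              isCompat' := ?_ }, fun S _ _ x => rfl⟩
    intro S _ _ S' _ _ ψ
    funext x
    simp only [Function.comp_apply]
    rw [PolynomialLaw.isCompat_apply', map_add, LinearMap.rTensor_tmul, AlgHom.toLinearMap_apply,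
      map_one, ← LinearMap.comp_apply, LinearMap.rTensor_comp_lTensor,
      ← LinearMap.lTensor_comp_rTensor, LinearMap.comp_apply]
  have hone : ∀ (S : Type u) [CommSemiring S] [Algebra A S],
      i.lTensor S (1 : S ⊗[A] B₁) = (1 : S) ⊗ₜ[A] i 1 := by
    intro S _ _
    rw [Algebra.TensorProduct.one_def, LinearMap.lTensor_tmul]
  have hεi : ε' * i 1 = 0 := by rw [mul_comm]; exact hiε 1
  refine ⟨⟨G, ?_, ?_⟩, hG⟩
  · intro S _ _ s x
    rw [hG, hG]
    have h2 : i.lTensor S (s • x) + (1 : S) ⊗ₜ[A] ε' =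
        (i.lTensor S x + (1 : S) ⊗ₜ[A] ε') * uu A (i 1) ε' S s := by
      rw [uu, add_mul, mul_add, mul_add, lT_mul_eps i ε' hiε, zero_add,
        Algebra.TensorProduct.tmul_mul_tmul, Algebra.TensorProduct.tmul_mul_tmul, hε', hεi,
        TensorProduct.tmul_zero, add_zero, mul_one]
      congr 1
      have h3 : s ⊗ₜ[A] i 1 = i.lTensor S (s ⊗ₜ[A] (1 : B₁)) := by rw [LinearMap.lTensor_tmul]
      rw [h3, ← lT_mul i hi, mul_comm, tmul_one_mul]
    rw [h2, (F.mult S).2, hk, mul_comm, tmul_one_mul]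
  · intro S _ _
    refine ⟨?_, fun x y => ?_⟩
    · rw [hG, hone, ← TensorProduct.tmul_add, h1, ← Algebra.TensorProduct.one_def, (F.mult S).1]
    · rw [hG, hG, hG, ← (F.mult S).2]
      congr 1
      rw [add_mul, mul_add, mul_add, lT_mul_eps i ε' hiε, ← lT_mul i hi, mul_comm _ (i.lTensor S y),
        lT_mul_eps i ε' hiε, Algebra.TensorProduct.tmul_mul_tmul, hε', one_mul, add_zero, zero_add]

end Sub

section Main

variable {A : Type u} [CommRing A] {B₁ : Type u} [CommRing B₁] [Algebra A B₁]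
  {B₂ : Type u} [CommRing B₂] [Algebra A B₂]

set_option maxHeartbeats 1600000 in
theorem main13719 [ConnectedSpace (PrimeSpectrum A)] {d : ℕ}
    (F : PolLaw.MulLaw A (B₁ × B₂) A d) :
    ∃ d₁ d₂ : ℕ, d₁ + d₂ = d ∧
      (∃ (F₁ : PolLaw.MulLaw A B₁ A d₁) (F₂ : PolLaw.MulLaw A B₂ A d₂),
        ∀ (S : Type u) [CommSemiring S] [Algebra A S] (x : S ⊗[A] (B₁ × B₂)),
          F.law.toFun' S x = F₁.law.toFun' S (LinearMap.lTensor S (LinearMap.fst A B₁ B₂) x) *
            F₂.law.toFun' S (LinearMap.lTensor S (LinearMap.snd A B₁ B₂) x)) ∧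
      ∀ (e₁ e₂ : ℕ) (G₁ : PolLaw.MulLaw A B₁ A e₁) (G₂ : PolLaw.MulLaw A B₂ A e₂),
        (∀ (S : Type u) [CommSemiring S] [Algebra A S] (x : S ⊗[A] (B₁ × B₂)),
          F.law.toFun' S x = G₁.law.toFun' S (LinearMap.lTensor S (LinearMap.fst A B₁ B₂) x) *
            G₂.law.toFun' S (LinearMap.lTensor S (LinearMap.snd A B₁ B₂) x)) →
          e₁ = d₁ ∧ e₂ = d₂ := by
  haveI : Nontrivial A := by
    obtain ⟨x⟩ := (inferInstance : Nonempty (PrimeSpectrum A))
    exact ⟨⟨1, 0, fun h => x.2.ne_top ((Ideal.eq_top_iff_one _).2 (h ▸ zero_mem _))⟩⟩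
  obtain ⟨ε₁, hε₁⟩ : ∃ ε₁ : B₁ × B₂, ε₁ = ((1 : B₁), (0 : B₂)) := ⟨_, rfl⟩
  obtain ⟨ε₂, hε₂⟩ : ∃ ε₂ : B₁ × B₂, ε₂ = ((0 : B₁), (1 : B₂)) := ⟨_, rfl⟩
  have h11 : ε₁ * ε₁ = ε₁ := by rw [hε₁]; ext <;> simp
  have h22 : ε₂ * ε₂ = ε₂ := by rw [hε₂]; ext <;> simp
  have h12 : ε₁ * ε₂ = 0 := by rw [hε₁, hε₂]; ext <;> simp
  have h21 : ε₂ * ε₁ = 0 := by rw [mul_comm]; exact h12
  have hadd : ε₁ + ε₂ = 1 := by rw [hε₁, hε₂]; ext <;> simp
  have hadd' : ε₂ + ε₁ = 1 := by rw [add_comm]; exact hadd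
  have hinl1 : LinearMap.inl A B₁ B₂ 1 = ε₁ := by rw [hε₁]; rfl
  have hinr1 : LinearMap.inr A B₁ B₂ 1 = ε₂ := by rw [hε₂]; rfl
  obtain ⟨d₁, hd₁⟩ := exists_exponent F h11 h22 h12 hadd
  obtain ⟨d₂, hd₂⟩ := exists_exponent F h22 h11 h21 hadd'
  -- the two sub-laws
  obtain ⟨F₁, hF₁⟩ := exists_sub_law F (LinearMap.inl A B₁ B₂) ε₂
    (fun x y => by ext <;> simp) (fun x => by rw [hε₂]; ext <;> simp) h22
    (by rw [hinl1]; exact hadd) d₁ (by rw [hinl1]; exact hd₁)
  obtain ⟨F₂, hF₂⟩ := exists_sub_law F (LinearMap.inr A B₁ B₂) ε₁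
    (fun x y => by ext <;> simp) (fun x => by rw [hε₁]; ext <;> simp) h11
    (by rw [hinr1]; exact hadd') d₂ (by rw [hinr1]; exact hd₂)
  -- degree count
  have hdeg : d₁ + d₂ = d := by
    have h1 : uu A ε₁ ε₂ A[X] X * uu A ε₂ ε₁ A[X] X = (X : A[X]) • (1 : A[X] ⊗[A] (B₁ × B₂)) := by
      rw [uu, uu, add_mul, mul_add, mul_add, Algebra.TensorProduct.tmul_mul_tmul,
        Algebra.TensorProduct.tmul_mul_tmul, Algebra.TensorProduct.tmul_mul_tmul,
        Algebra.TensorProduct.tmul_mul_tmul, h21, h22, h11, h12, TensorProduct.tmul_zero,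
        TensorProduct.tmul_zero, zero_add, add_zero, one_mul, mul_one, ← TensorProduct.tmul_add,
        hadd', Algebra.TensorProduct.one_def, TensorProduct.smul_tmul', smul_eq_mul, mul_one]
    have h2 := congr_arg (F.law.toFun' A[X]) h1
    rw [(F.mult _).2, hd₁, hd₂, F.homog, (F.mult _).1, Algebra.TensorProduct.tmul_mul_tmul,
      mul_one, Algebra.TensorProduct.one_def, TensorProduct.smul_tmul', smul_eq_mul, mul_one,
      ← pow_add] at h2
    have h3 := tmul_one_injective (A := A) A[X] _ _ h2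
    have h4 := congr_arg Polynomial.natDegree h3
    rw [natDegree_X_pow, natDegree_X_pow] at h4
    exact h4
  refine ⟨d₁, d₂, hdeg, ⟨F₁, F₂, ?_⟩, ?_⟩
  · intro S _ _ x
    rw [hF₁, hF₂, ← (F.mult S).2]
    congr 1
    -- decomposition of `x`
    obtain ⟨a, ha⟩ : ∃ a, a = LinearMap.lTensor S (LinearMap.fst A B₁ B₂) x := ⟨_, rfl⟩
    obtain ⟨b, hb⟩ : ∃ b, b = LinearMap.lTensor S (LinearMap.snd A B₁ B₂) x := ⟨_, rfl⟩
    rw [← ha, ← hb]
    have hx : x = (LinearMap.inl A B₁ B₂).lTensor S a + (LinearMap.inr A B₁ B₂).lTensor S b := by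
      rw [ha, hb, ← LinearMap.comp_apply, ← LinearMap.comp_apply, ← LinearMap.lTensor_comp,
        ← LinearMap.lTensor_comp, ← LinearMap.add_apply, ← LinearMap.lTensor_add]
      have : LinearMap.inl A B₁ B₂ ∘ₗ LinearMap.fst A B₁ B₂ +
          LinearMap.inr A B₁ B₂ ∘ₗ LinearMap.snd A B₁ B₂ = LinearMap.id := by
        ext <;> simp
      rw [this, LinearMap.lTensor_id, LinearMap.id_apply]
    have hia : (LinearMap.inl A B₁ B₂).lTensor S a * ((1 : S) ⊗ₜ[A] ε₁) =
        (LinearMap.inl A B₁ B₂).lTensor S a := by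
      have h3 : (1 : S) ⊗ₜ[A] ε₁ = (LinearMap.inl A B₁ B₂).lTensor S ((1 : S) ⊗ₜ[A] (1 : B₁)) := by
        rw [LinearMap.lTensor_tmul, hinl1]
      rw [h3, ← lT_mul _ (fun x y => by ext <;> simp), ← Algebra.TensorProduct.one_def, mul_one]
    have hib : (LinearMap.inr A B₁ B₂).lTensor S b * ((1 : S) ⊗ₜ[A] ε₂) =
        (LinearMap.inr A B₁ B₂).lTensor S b := by
      have h3 : (1 : S) ⊗ₜ[A] ε₂ = (LinearMap.inr A B₁ B₂).lTensor S ((1 : S) ⊗ₜ[A] (1 : B₂)) := by
        rw [LinearMap.lTensor_tmul, hinr1]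
      rw [h3, ← lT_mul _ (fun x y => by ext <;> simp), ← Algebra.TensorProduct.one_def, mul_one]
    have hab : (LinearMap.inl A B₁ B₂).lTensor S a * (LinearMap.inr A B₁ B₂).lTensor S b = 0 := by
      rw [← hib, mul_comm ((LinearMap.inr A B₁ B₂).lTensor S b), ← mul_assoc,
        lT_mul_eps (LinearMap.inl A B₁ B₂) ε₂ (fun x => by rw [hε₂]; ext <;> simp), zero_mul]
    rw [add_mul, mul_add, mul_add, hab, hia, mul_comm ((1 : S) ⊗ₜ[A] ε₂), hib,
      Algebra.TensorProduct.tmul_mul_tmul, h21, TensorProduct.tmul_zero, zero_add, add_zero]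
    exact hx
  · intro e₁ e₂ G₁ G₂ hG
    have hfst : ∀ t : A[X], LinearMap.lTensor A[X] (LinearMap.fst A B₁ B₂) (uu A ε₁ ε₂ A[X] t) =
        t • (1 : A[X] ⊗[A] B₁) := by
      intro t
      rw [uu, map_add, LinearMap.lTensor_tmul, LinearMap.lTensor_tmul, hε₁, hε₂]
      simp only [LinearMap.fst_apply, TensorProduct.tmul_zero, zero_add]
      rw [Algebra.TensorProduct.one_def, TensorProduct.smul_tmul', smul_eq_mul, mul_one]
    have hsnd : ∀ t : A[X], LinearMap.lTensor A[X] (LinearMap.snd A B₁ B₂) (uu A ε₁ ε₂ A[X] t) =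
        (1 : A[X] ⊗[A] B₂) := by
      intro t
      rw [uu, map_add, LinearMap.lTensor_tmul, LinearMap.lTensor_tmul, hε₁, hε₂]
      simp only [LinearMap.snd_apply, TensorProduct.tmul_zero, add_zero]
      rw [Algebra.TensorProduct.one_def]
    have hfst' : ∀ t : A[X], LinearMap.lTensor A[X] (LinearMap.fst A B₁ B₂) (uu A ε₂ ε₁ A[X] t) =
        (1 : A[X] ⊗[A] B₁) := by
      intro t
      rw [uu, map_add, LinearMap.lTensor_tmul, LinearMap.lTensor_tmul, hε₁, hε₂]
      simp only [LinearMap.fst_apply, TensorProduct.tmul_zero, add_zero]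
      rw [Algebra.TensorProduct.one_def]
    have hsnd' : ∀ t : A[X], LinearMap.lTensor A[X] (LinearMap.snd A B₁ B₂) (uu A ε₂ ε₁ A[X] t) =
        t • (1 : A[X] ⊗[A] B₂) := by
      intro t
      rw [uu, map_add, LinearMap.lTensor_tmul, LinearMap.lTensor_tmul, hε₁, hε₂]
      simp only [LinearMap.snd_apply, TensorProduct.tmul_zero, zero_add]
      rw [Algebra.TensorProduct.one_def, TensorProduct.smul_tmul', smul_eq_mul, mul_one]
    constructor
    · have h1 := hG A[X] (uu A ε₁ ε₂ A[X] X)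
      rw [hd₁, hfst, hsnd, G₁.homog, (G₁.mult _).1, (G₂.mult _).1, mul_one,
        Algebra.TensorProduct.one_def, TensorProduct.smul_tmul', smul_eq_mul, mul_one] at h1
      have h3 := tmul_one_injective (A := A) A[X] _ _ h1
      have h4 := congr_arg Polynomial.natDegree h3
      rw [natDegree_X_pow, natDegree_X_pow] at h4
      exact h4.symm
    · have h1 := hG A[X] (uu A ε₂ ε₁ A[X] X)
      rw [hd₂, hfst', hsnd', G₂.homog, (G₁.mult _).1, (G₂.mult _).1, one_mul,
        Algebra.TensorProduct.one_def, TensorProduct.smul_tmul', smul_eq_mul, mul_one] at h1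
      have h3 := tmul_one_injective (A := A) A[X] _ _ h1
      have h4 := congr_arg Polynomial.natDegree h3
      rw [natDegree_X_pow, natDegree_X_pow] at h4
      exact h4.symm

end Main

end Groth.Agent.Lib.PolLawProdH1
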