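import Mathlib
import Groth.Prelude.Def_PolLaw
import Groth.Agent.Lib.PolLawKer_helper1
import Groth.Agent.Lib.PolLawSurj_helper1
import Groth.Agent.Lib.PolLawProd_helper1

/-!
# The image of a family of zero cycles of degree `d` over a connected base has at most `d`
connected components (helper1)
-/

set_option autoImplicit false
universe u
open scoped TensorProduct
open Polynomial

namespace Groth.Agent.Lib.PolLawCompH1

open Groth.Agent.Lib.PolLawKerH1 Groth.Agent.Lib.PolLawSurjH1 Groth.Agent.Lib.PolLawProdH1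

section Topology

theorem isPreconnected_fiber_of_maximal {X : Type*} [TopologicalSpace X] {n : ℕ} (f : X → Fin n)
    (hf : Continuous f) (hs : Function.Surjective f)
    (hmax : ¬ ∃ g : X → Fin (n + 1), Continuous g ∧ Function.Surjective g) (i : Fin n) :
    IsPreconnected (f ⁻¹' {i}) := by
  classical
  by_contra hnot
  unfold IsPreconnected at hnot
  push_neg at hnot
  obtain ⟨u, v, hu, hv, hsub, hnu, hnv, hempty0⟩ := hnot
  have hempty : ∀ x, x ∈ f ⁻¹' {i} → x ∈ u → x ∈ v → False := fun x h1 h2 h3 =>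
    (Set.eq_empty_iff_forall_notMem.1 hempty0 x) ⟨h1, h2, h3⟩
  apply hmax
  have hsopen : IsOpen (f ⁻¹' {i}) := (isOpen_discrete _).preimage hf
  have hsclosed : IsClosed (f ⁻¹' {i}) := (isClosed_discrete _).preimage hf
  obtain ⟨W, hW⟩ : ∃ W : Set X, W = f ⁻¹' {i} ∩ v := ⟨_, rfl⟩
  have hWopen : IsOpen W := by rw [hW]; exact hsopen.inter hv
  have hWc : Wᶜ = (f ⁻¹' {i})ᶜ ∪ (f ⁻¹' {i} ∩ u) := by
    rw [hW]
    ext x
    simp only [Set.mem_compl_iff, Set.mem_inter_iff, Set.mem_union]
    constructor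
    · intro h
      by_cases hx : x ∈ f ⁻¹' {i}
      · right
        refine ⟨hx, ?_⟩
        rcases hsub hx with h1 | h1
        · exact h1
        · exact absurd ⟨hx, h1⟩ h
      · left; exact hx
    · rintro (h | ⟨h1, h2⟩)
      · exact fun h' => h h'.1
      · intro h'
        exact hempty x h1 h2 h'.2
  have hWcopen : IsOpen Wᶜ := by
    rw [hWc]
    exact hsclosed.isOpen_compl.union (hsopen.inter hu)
  have hWi : ∀ x ∈ W, f x = i := by
    intro x hx
    rw [hW] at hx
    exact hx.1
  refine ⟨fun x => if x ∈ W then Fin.last n else (f x).castSucc, ?_, ?_⟩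
  · rw [continuous_discrete_rng]
    intro b
    induction b using Fin.lastCases with
    | last =>
      have : (fun x => if x ∈ W then Fin.last n else (f x).castSucc) ⁻¹' {Fin.last n} = W := by
        ext x
        constructor
        · intro h
          by_contra hx
          have h' : (if x ∈ W then Fin.last n else (f x).castSucc) = Fin.last n := h
          rw [if_neg hx] at h'
          exact (Fin.castSucc_lt_last (f x)).ne h'
        · intro hx
          show (if x ∈ W then Fin.last n else (f x).castSucc) = Fin.last n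
          rw [if_pos hx]
      rw [this]
      exact hWopen
    | cast j =>
      have : (fun x => if x ∈ W then Fin.last n else (f x).castSucc) ⁻¹'
          {j.castSucc} = f ⁻¹' {j} ∩ Wᶜ := by
        ext x
        constructor
        · intro h
          have h' : (if x ∈ W then Fin.last n else (f x).castSucc) = j.castSucc := h
          by_cases hx : x ∈ W
          · rw [if_pos hx] at h'
            exact absurd h'.symm (Fin.castSucc_lt_last j).ne
          · rw [if_neg hx] at h'
            exact ⟨Fin.castSucc_injective n h', hx⟩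
        · rintro ⟨h1, h2⟩
          show (if x ∈ W then Fin.last n else (f x).castSucc) = j.castSucc
          have h1' : f x = j := h1
          rw [if_neg h2, h1']
      rw [this]
      exact ((isOpen_discrete _).preimage hf).inter hWcopen
  · intro b
    induction b using Fin.lastCases with
    | last =>
      obtain ⟨x, hx⟩ := hnv
      refine ⟨x, ?_⟩
      have hxW : x ∈ W := by rw [hW]; exact hx
      exact if_pos hxW
    | cast j =>
      by_cases hj : j = i
      · obtain ⟨x, hx1, hx2⟩ := hnu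
        refine ⟨x, ?_⟩
        have hxW : x ∉ W := by
          rw [hW]
          exact fun h' => hempty x hx1 hx2 h'.2
        have hx1' : f x = i := hx1
        show (if x ∈ W then Fin.last n else (f x).castSucc) = j.castSucc
        rw [if_neg hxW, hj, hx1']
      · obtain ⟨x, hx⟩ := hs j
        refine ⟨x, ?_⟩
        have hxW : x ∉ W := by
          intro h'
          apply hj
          rw [← hx]
          exact hWi x h'
        show (if x ∈ W then Fin.last n else (f x).castSucc) = j.castSucc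
        rw [if_neg hxW, hx]

theorem card_connectedComponents_le {X : Type*} [TopologicalSpace X] (d : ℕ)
    (h : ∀ (n : ℕ) (f : X → Fin n), Continuous f → Function.Surjective f → n ≤ d) :
    Finite (ConnectedComponents X) ∧ Nat.card (ConnectedComponents X) ≤ d := by
  classical
  have hex : ∃ n, ∃ f : X → Fin n, Continuous f ∧ Function.Surjective f := by
    rcases isEmpty_or_nonempty X with hX | hX
    · refine ⟨0, fun x => isEmptyElim x, continuous_discrete_rng.2 (fun b => ?_), fun b => b.elim0⟩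
      rw [Set.eq_empty_of_isEmpty ((fun x : X => (isEmptyElim x : Fin 0)) ⁻¹' {b})]
      exact isOpen_empty
    · exact ⟨1, fun _ => 0, continuous_const, fun b => ⟨Classical.arbitrary X, (Subsingleton.elim _ _)⟩⟩
  obtain ⟨n₀, f₀, hf₀, hs₀⟩ := hex
  let P : ℕ → Prop := fun n => ∃ f : X → Fin n, Continuous f ∧ Function.Surjective f
  have hP₀ : P n₀ := ⟨f₀, hf₀, hs₀⟩
  have hn₀ : n₀ ≤ d := h n₀ f₀ hf₀ hs₀
  obtain ⟨f, hf, hs⟩ : P (Nat.findGreatest P d) := Nat.findGreatest_spec hn₀ hP₀
  have hmax : ¬ P (Nat.findGreatest P d + 1) := by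
    intro hP
    obtain ⟨g, hg, hgs⟩ := hP
    exact Nat.findGreatest_is_greatest (Nat.lt_succ_self _) (h _ g hg hgs) ⟨g, hg, hgs⟩
  have hpre := isPreconnected_fiber_of_maximal f hf hs hmax
  have hinj : Function.Injective hf.connectedComponentsLift := by
    intro c c' hcc
    obtain ⟨x, rfl⟩ := ConnectedComponents.surjective_coe c
    obtain ⟨x', rfl⟩ := ConnectedComponents.surjective_coe c'
    rw [Continuous.connectedComponentsLift_apply_coe, Continuous.connectedComponentsLift_apply_coe]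
      at hcc
    rw [ConnectedComponents.coe_eq_coe']
    have h1 : x' ∈ f ⁻¹' {f x'} := rfl
    have h2 : x ∈ f ⁻¹' {f x'} := hcc
    exact (hpre (f x')).subset_connectedComponent h1 h2
  have hfin : Finite (ConnectedComponents X) := Finite.of_injective _ hinj
  refine ⟨hfin, ?_⟩
  have h3 := Nat.card_le_card_of_injective _ hinj
  rw [Nat.card_eq_fintype_card (α := Fin (Nat.findGreatest P d)), Fintype.card_fin] at h3
  exact h3.trans (Nat.findGreatest_le d)

end Topology

section Idem

theorem exists_idempotents {R : Type*} [CommRing R] {n : ℕ} (f : PrimeSpectrum R → Fin n)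
    (hf : Continuous f) (hs : Function.Surjective f) :
    ∃ e : Fin n → R, (∀ i, e i * e i = e i) ∧ (∀ i j, i ≠ j → e i * e j = 0) ∧
      ∑ i, e i = 1 ∧ ∀ i, e i ≠ 0 := by
  classical
  have hcl : ∀ i, IsClopen (f ⁻¹' {i}) := fun i => (isClopen_discrete {i}).preimage hf
  choose e he hfib using fun i => PrimeSpectrum.isClopen_iff.1 (hcl i)
  have hmem : ∀ (i : Fin n) (p : PrimeSpectrum R), f p = i ↔ e i ∉ p.asIdeal := by
    intro i p
    have : p ∈ f ⁻¹' {i} ↔ p ∈ (PrimeSpectrum.basicOpen (e i) : Set (PrimeSpectrum R)) := by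
      rw [hfib i]
    exact this
  have horth : ∀ i j, i ≠ j → e i * e j = 0 := by
    intro i j hij
    have hidem : IsIdempotentElem (e i * e j) := (he i).mul (he j)
    apply PrimeSpectrum.basicOpen_injOn_isIdempotentElem hidem IsIdempotentElem.zero
    apply TopologicalSpace.Opens.ext
    rw [PrimeSpectrum.basicOpen_zero]
    ext p
    simp only [TopologicalSpace.Opens.coe_bot, Set.mem_empty_iff_false, iff_false]
    intro hp
    have hp' : e i * e j ∉ p.asIdeal := hp
    have h1 : e i ∉ p.asIdeal := fun h' => hp' (Ideal.mul_mem_right _ _ h')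
    have h2 : e j ∉ p.asIdeal := fun h' => hp' (Ideal.mul_mem_left _ _ h')
    exact hij (((hmem i p).2 h1).symm.trans ((hmem j p).2 h2))
  have hmulsum : ∀ i, e i * ∑ j, e j = e i := by
    intro i
    rw [Finset.mul_sum, Finset.sum_eq_single i]
    · exact (he i).eq
    · intro j _ hj
      exact horth i j hj.symm
    · intro h'; exact absurd (Finset.mem_univ _) h'
  refine ⟨e, fun i => (he i).eq, horth, ?_, ?_⟩
  · have hidem : IsIdempotentElem (∑ i, e i) := by
      show (∑ i, e i) * (∑ i, e i) = ∑ i, e i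
      rw [Finset.sum_mul]
      exact Finset.sum_congr rfl fun i _ => hmulsum i
    apply PrimeSpectrum.basicOpen_injOn_isIdempotentElem hidem IsIdempotentElem.one
    apply TopologicalSpace.Opens.ext
    rw [PrimeSpectrum.basicOpen_one]
    ext p
    simp only [TopologicalSpace.Opens.coe_top, Set.mem_univ, iff_true]
    show ∑ i, e i ∉ p.asIdeal
    intro hp
    have h1 : e (f p) ∉ p.asIdeal := (hmem (f p) p).1 rfl
    apply h1
    rw [← hmulsum (f p)]
    exact Ideal.mul_mem_left _ _ hp
  · intro i hi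
    obtain ⟨p, hp⟩ := hs i
    have h1 := (hmem i p).1 hp
    rw [hi] at h1
    exact h1 (zero_mem _)

end Idem

section Bound

variable {A : Type u} [CommRing A] {R : Type u} [CommRing R] [Algebra A R]

/-- if the exponent of `(ε, ε')` is zero then `ε` lies in the kernel -/
theorem mem_ker_of_exponent_zero {d : ℕ} (F : PolLaw.MulLaw A R A d) {ε ε' : R} (hε : ε * ε = ε)
    (hε' : ε' * ε' = ε') (h0 : ε * ε' = 0) (h1 : ε + ε' = 1)
    (hk : ∀ (S : Type u) [CommSemiring S] [Algebra A S] (t : S),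
      F.law.toFun' S (uu A ε ε' S t) = (t ^ 0) ⊗ₜ[A] (1 : A)) : ε ∈ PolLaw.ker F.law := by
  rw [mem_ker_iff]
  intro S _ _ x w
  have h0' : ε' * ε = 0 := by rw [mul_comm]; exact h0
  -- `G y = F (y ε + ε')` does not depend on `y`
  have hG : ∀ y : S ⊗[A] R, F.law.toFun' S (y * ((1 : S) ⊗ₜ[A] ε) + (1 : S) ⊗ₜ[A] ε') =
      F.law.toFun' S ((1 : S) ⊗ₜ[A] ε') := by
    intro y
    have h2 : (y * ((1 : S) ⊗ₜ[A] ε) + (1 : S) ⊗ₜ[A] ε') * uu A ε ε' S (0 : S) =
        (1 : S) ⊗ₜ[A] ε' := by
      rw [uu, TensorProduct.zero_tmul, add_zero, add_mul, mul_assoc,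
        Algebra.TensorProduct.tmul_mul_tmul, Algebra.TensorProduct.tmul_mul_tmul, h0, hε',
        TensorProduct.tmul_zero, mul_zero, zero_add, one_mul]
    have h3 := congr_arg (F.law.toFun' S) h2
    rw [(F.mult S).2, hk, pow_zero, ← Algebra.TensorProduct.one_def, mul_one] at h3
    exact h3
  have hdec : ∀ w' : S ⊗[A] R, x + w' * ((1 : S) ⊗ₜ[A] ε) =
      (x * ((1 : S) ⊗ₜ[A] ε') + (1 : S) ⊗ₜ[A] ε) *
        ((x + w') * ((1 : S) ⊗ₜ[A] ε) + (1 : S) ⊗ₜ[A] ε') := by
    intro w'
    have e1 : ((1 : S) ⊗ₜ[A] ε') * ((1 : S) ⊗ₜ[A] ε) = 0 := by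
      rw [Algebra.TensorProduct.tmul_mul_tmul, h0', TensorProduct.tmul_zero]
    have e2 : ((1 : S) ⊗ₜ[A] ε) * ((1 : S) ⊗ₜ[A] ε') = 0 := by
      rw [Algebra.TensorProduct.tmul_mul_tmul, h0, TensorProduct.tmul_zero]
    have e3 : ((1 : S) ⊗ₜ[A] ε') * ((1 : S) ⊗ₜ[A] ε') = (1 : S) ⊗ₜ[A] ε' := by
      rw [Algebra.TensorProduct.tmul_mul_tmul, hε', one_mul]
    have e4 : ((1 : S) ⊗ₜ[A] ε) * ((1 : S) ⊗ₜ[A] ε) = (1 : S) ⊗ₜ[A] ε := by
      rw [Algebra.TensorProduct.tmul_mul_tmul, hε, one_mul]
    have e5 : ((1 : S) ⊗ₜ[A] ε) + ((1 : S) ⊗ₜ[A] ε') = 1 := by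
      rw [← TensorProduct.tmul_add, h1, Algebra.TensorProduct.one_def]
    calc x + w' * ((1 : S) ⊗ₜ[A] ε)
        = x * (((1 : S) ⊗ₜ[A] ε) + ((1 : S) ⊗ₜ[A] ε')) + w' * ((1 : S) ⊗ₜ[A] ε) := by
          rw [e5, mul_one]
      _ = x * (((1 : S) ⊗ₜ[A] ε') * ((1 : S) ⊗ₜ[A] ε)) * (x + w') +
          x * (((1 : S) ⊗ₜ[A] ε') * ((1 : S) ⊗ₜ[A] ε')) +
          (((1 : S) ⊗ₜ[A] ε) * ((1 : S) ⊗ₜ[A] ε)) * (x + w') +
          ((1 : S) ⊗ₜ[A] ε) * ((1 : S) ⊗ₜ[A] ε') := by
          rw [e1, e2, e3, e4]; ring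
      _ = _ := by ring
  rw [hdec w, (F.mult S).2, hG]
  have h5 := hdec 0
  rw [zero_mul, add_zero] at h5
  conv_rhs => rw [h5, (F.mult S).2, hG]

theorem uu_mul_uu {ε₁ ε₂ : R} (h1 : ε₁ * ε₁ = ε₁) (h2 : ε₂ * ε₂ = ε₂) (h12 : ε₁ * ε₂ = 0)
    (S : Type u) [CommSemiring S] [Algebra A S] (t : S) :
    uu A ε₁ (1 - ε₁) S t * uu A ε₂ (1 - ε₂) S t = uu A (ε₁ + ε₂) (1 - (ε₁ + ε₂)) S t := by
  have h21 : ε₂ * ε₁ = 0 := by rw [mul_comm]; exact h12
  have e1 : (1 - ε₁) * (1 - ε₂) = 1 - (ε₁ + ε₂) := by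
    have : (1 - ε₁) * (1 - ε₂) = 1 - ε₁ - ε₂ + ε₁ * ε₂ := by ring
    rw [this, h12]; ring
  have e2 : (1 - ε₁) * ε₂ = ε₂ := by
    have : (1 - ε₁) * ε₂ = ε₂ - ε₁ * ε₂ := by ring
    rw [this, h12, sub_zero]
  have e3 : ε₁ * (1 - ε₂) = ε₁ := by
    have : ε₁ * (1 - ε₂) = ε₁ - ε₁ * ε₂ := by ring
    rw [this, h12, sub_zero]
  rw [uu, uu, uu, add_mul, mul_add, mul_add, Algebra.TensorProduct.tmul_mul_tmul,
    Algebra.TensorProduct.tmul_mul_tmul, Algebra.TensorProduct.tmul_mul_tmul,
    Algebra.TensorProduct.tmul_mul_tmul, e1, e2, e3, h12, TensorProduct.tmul_zero, add_zero,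
    one_mul, mul_one, one_mul, TensorProduct.tmul_add]
  abel

theorem card_le_of_idempotents [ConnectedSpace (PrimeSpectrum A)] {d : ℕ}
    (F : PolLaw.MulLaw A R A d) (hker : PolLaw.ker F.law = ⊥) {n : ℕ} (e : Fin n → R)
    (hidem : ∀ i, e i * e i = e i) (horth : ∀ i j, i ≠ j → e i * e j = 0)
    (hsum : ∑ i, e i = 1) (hne : ∀ i, e i ≠ 0) : n ≤ d := by
  classical
  haveI : Nontrivial A := by
    obtain ⟨x⟩ := (inferInstance : Nonempty (PrimeSpectrum A))
    exact ⟨⟨1, 0, fun h => x.2.ne_top ((Ideal.eq_top_iff_one _).2 (h ▸ zero_mem _))⟩⟩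
  have hpair : ∀ i, (e i) * (1 - e i) = 0 ∧ (1 - e i) * (1 - e i) = 1 - e i ∧
      e i + (1 - e i) = 1 := by
    intro i
    refine ⟨?_, ?_, by ring⟩
    · have : e i * (1 - e i) = e i - e i * e i := by ring
      rw [this, hidem, sub_self]
    · have : (1 - e i) * (1 - e i) = 1 - e i - e i + e i * e i := by ring
      rw [this, hidem]; ring
  choose k hk using fun i => exists_exponent F (hidem i) (hpair i).2.1 (hpair i).1 (hpair i).2.2
  have hkpos : ∀ i, 1 ≤ k i := by
    intro i
    by_contra hlt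
    have hk0 : k i = 0 := by omega
    have hmem := mem_ker_of_exponent_zero F (hidem i) (hpair i).2.1 (hpair i).1 (hpair i).2.2
      (by rw [← hk0]; exact hk i)
    rw [hker] at hmem
    exact hne i hmem
  -- product formula
  have hprod : ∀ s : Finset (Fin n), F.law.toFun' A[X]
      (uu A (∑ i ∈ s, e i) (1 - ∑ i ∈ s, e i) A[X] X) = (X ^ (∑ i ∈ s, k i)) ⊗ₜ[A] (1 : A) := by
    intro s
    induction s using Finset.induction_on with
    | empty =>
      rw [Finset.sum_empty, Finset.sum_empty, uu, TensorProduct.tmul_zero, add_zero, sub_zero,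
        ← Algebra.TensorProduct.one_def, (F.mult _).1, pow_zero, Algebra.TensorProduct.one_def]
    | insert a s ha ih =>
      have hEidem : (∑ i ∈ s, e i) * (∑ i ∈ s, e i) = ∑ i ∈ s, e i := by
        rw [Finset.sum_mul]
        refine Finset.sum_congr rfl fun i hi => ?_
        rw [Finset.mul_sum, Finset.sum_eq_single i]
        · exact hidem i
        · intro j _ hj; exact horth i j hj.symm
        · intro h'; exact absurd hi h'
      have hEa : (∑ i ∈ s, e i) * e a = 0 := by
        rw [Finset.sum_mul]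
        refine Finset.sum_eq_zero fun i hi => horth i a ?_
        rintro rfl; exact ha hi
      rw [Finset.sum_insert ha, Finset.sum_insert ha, add_comm (e a), add_comm (k a),
        ← uu_mul_uu hEidem (hidem a) hEa, (F.mult _).2, ih, hk,
        Algebra.TensorProduct.tmul_mul_tmul, mul_one, ← pow_add]
  have h1 := hprod Finset.univ
  rw [hsum, sub_self, uu, TensorProduct.tmul_zero, zero_add] at h1
  have h2 : (X : A[X]) ⊗ₜ[A] (1 : R) = (X : A[X]) • (1 : A[X] ⊗[A] R) := by
    rw [Algebra.TensorProduct.one_def, TensorProduct.smul_tmul', smul_eq_mul, mul_one]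
  rw [h2, F.homog, (F.mult _).1, Algebra.TensorProduct.one_def, TensorProduct.smul_tmul',
    smul_eq_mul, mul_one] at h1
  have h3 := tmul_one_injective (A := A) A[X] _ _ h1
  have h4 := congr_arg Polynomial.natDegree h3
  rw [natDegree_X_pow, natDegree_X_pow] at h4
  rw [h4]
  calc n = ∑ _i : Fin n, 1 := by simp
    _ ≤ ∑ i, k i := Finset.sum_le_sum fun i _ => hkpos i

end Bound

section Main

variable {A : Type u} [CommRing A] {B : Type u} [CommRing B] [Algebra A B]

theorem main13727 [ConnectedSpace (PrimeSpectrum A)] {d : ℕ} (F : PolLaw.MulLaw A B A d) :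
    Finite (ConnectedComponents (PrimeSpectrum (PolLaw.image F.law))) ∧
      Nat.card (ConnectedComponents (PrimeSpectrum (PolLaw.image F.law))) ≤ d := by
  obtain ⟨π, hπ⟩ : ∃ π : B →ₐ[A] PolLaw.image F.law, π = Ideal.Quotient.mkₐ A (PolLaw.ker F.law) :=
    ⟨_, rfl⟩
  have hπs : Function.Surjective π := by rw [hπ]; exact Ideal.Quotient.mkₐ_surjective A _
  have hπk : RingHom.ker π = PolLaw.ker F.law := by rw [hπ]; exact Ideal.Quotient.mkₐ_ker A _
  obtain ⟨G, hG⟩ := exists_descend F π hπs (le_of_eq hπk)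
  have hker : PolLaw.ker G.law = ⊥ := by
    rw [eq_bot_iff]
    intro c hc
    obtain ⟨b, rfl⟩ := hπs c
    rw [Ideal.mem_bot]
    have hb : b ∈ PolLaw.ker F.law := by
      rw [mem_ker_iff]
      intro S _ _ x w
      rw [← hG, ← hG, PolLaw.lTensor_algHom_apply, PolLaw.lTensor_algHom_apply, map_add, map_mul,
        Algebra.TensorProduct.map_tmul, map_one]
      exact (mem_ker_iff G.law _).1 hc S _ _
    rw [← hπk] at hb
    exact hb
  apply card_connectedComponents_le
  intro n f hf hs
  obtain ⟨e, hidem, horth, hsum, hne⟩ := exists_idempotents f hf hs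
  exact card_le_of_idempotents G hker e hidem horth hsum hne

end Main

end Groth.Agent.Lib.PolLawCompH1
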