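import Mathlib
import Groth.Prelude.Def_PolLaw
import Groth.Agent.Lib.PolLawKer_helper1

/-!
# The kernel of the `p`-th power law in characteristic `p`; a kernel that is not finitely
generated (helper1)
-/

set_option autoImplicit false
universe u
open scoped TensorProduct

namespace Groth.Agent.Lib.PolLawFrobH1

open Groth.Agent.Lib.PolLawKerH1

/-- In a ring with `p = 0`, the kernel of `x ↦ x ^ p` (over the ring itself) is `{b | b ^ p = 0}`. -/
theorem mem_ker_powLaw_iff {A : Type u} [CommRing A] (p : ℕ) (hp : p.Prime) (hpA : (p : A) = 0)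
    (b : A) : b ∈ PolLaw.ker (PolLaw.MulLaw.pow A A p).law ↔ b ^ p = 0 := by
  rw [mem_ker_iff]
  constructor
  · intro h
    have h1 := h A 0 1
    have h2 : (PolLaw.MulLaw.pow A A p).law.toFun' A (0 + 1 * ((1 : A) ⊗ₜ[A] b)) =
        (0 + 1 * ((1 : A) ⊗ₜ[A] b)) ^ p := rfl
    have h3 : (PolLaw.MulLaw.pow A A p).law.toFun' A (0 : A ⊗[A] A) = (0 : A ⊗[A] A) ^ p := rfl
    rw [h2, h3, zero_add, one_mul, zero_pow hp.ne_zero, Algebra.TensorProduct.tmul_pow,
      one_pow] at h1
    have h4 := congr_arg (TensorProduct.lid A A) h1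
    rw [TensorProduct.lid_tmul, one_smul, map_zero] at h4
    exact h4
  · intro hb S _ _ x w
    show (x + w * ((1 : S) ⊗ₜ[A] b)) ^ p = x ^ p
    have hpS : ((p : ℕ) : S ⊗[A] A) = 0 := by
      have h1 : ((p : ℕ) : S ⊗[A] A) = (p : A) • (1 : S ⊗[A] A) := by
        rw [Nat.cast_smul_eq_nsmul, nsmul_eq_mul, mul_one]
      rw [h1, hpA, zero_smul]
    obtain ⟨r, hr⟩ := exists_add_pow_prime_eq hp x (w * ((1 : S) ⊗ₜ[A] b))
    rw [hr, hpS, zero_mul, zero_mul, zero_mul, add_zero, mul_pow, Algebra.TensorProduct.tmul_pow,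
      hb, TensorProduct.tmul_zero, mul_zero, add_zero]

section Example

variable (k : Type u) [Field k] (p : ℕ)

/-- the ideal `(X_i ^ p)` -/
noncomputable abbrev II : Ideal (MvPolynomial ℕ k) :=
  Ideal.span (Set.range fun i : ℕ => (MvPolynomial.X i : MvPolynomial ℕ k) ^ p)

/-- the truncated polynomial ring -/
noncomputable abbrev AA : Type u := MvPolynomial ℕ k ⧸ II k p

variable {k p}

/-- the augmentation `A → k` -/
noncomputable def aug (hp : p ≠ 0) : AA k p →+* k :=
  Ideal.Quotient.lift (II k p)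
    ((MvPolynomial.aeval (fun _ : ℕ => (0 : k)) : MvPolynomial ℕ k →ₐ[k] k) : MvPolynomial ℕ k →+* k)
    (by
      intro a ha
      have hle : II k p ≤ RingHom.ker
          ((MvPolynomial.aeval (fun _ : ℕ => (0 : k)) : MvPolynomial ℕ k →ₐ[k] k) :
            MvPolynomial ℕ k →+* k) := by
        rw [Ideal.span_le]
        rintro _ ⟨i, rfl⟩
        show (MvPolynomial.aeval (fun _ : ℕ => (0 : k))) ((MvPolynomial.X i) ^ p) = 0
        rw [map_pow, MvPolynomial.aeval_X, zero_pow hp]
      exact hle ha)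

theorem aug_mk (hp : p ≠ 0) (q : MvPolynomial ℕ k) :
    aug hp (Ideal.Quotient.mk (II k p) q) = MvPolynomial.constantCoeff q := by
  show (MvPolynomial.aeval (fun _ : ℕ => (0 : k))) q = _
  rw [MvPolynomial.aeval_zero']
  rfl

variable (k p) in
/-- the ideal generated by the classes of the variables -/
noncomputable abbrev JJ : Ideal (AA k p) :=
  (Ideal.span (Set.range fun i : ℕ => (MvPolynomial.X i : MvPolynomial ℕ k))).map
    (Ideal.Quotient.mk (II k p))

theorem mem_JJ_of_aug (hp : p ≠ 0) (b : AA k p) (hb : aug hp b = 0) : b ∈ JJ k p := by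
  obtain ⟨q, rfl⟩ := Ideal.Quotient.mk_surjective b
  rw [aug_mk] at hb
  apply Ideal.mem_map_of_mem
  have h1 : Set.range (fun i : ℕ => (MvPolynomial.X i : MvPolynomial ℕ k)) =
      MvPolynomial.X '' Set.univ := by rw [Set.image_univ]
  rw [h1, MvPolynomial.mem_ideal_span_X_image]
  intro m hm
  have hm0 : m ≠ 0 := by
    rintro rfl
    rw [MvPolynomial.mem_support_iff] at hm
    apply hm
    rw [← hb, MvPolynomial.constantCoeff_eq]
  obtain ⟨i, hi⟩ := Finsupp.ne_iff.1 hm0
  exact ⟨i, Set.mem_univ i, by simpa using hi⟩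

/-- a map to the dual numbers detecting the `N`-th variable -/
noncomputable def psi (hp2 : 2 ≤ p) (N : ℕ) : AA k p →+* DualNumber k :=
  Ideal.Quotient.lift (II k p)
    ((MvPolynomial.aeval (fun i : ℕ => if i = N then (DualNumber.eps : DualNumber k) else 0) :
      MvPolynomial ℕ k →ₐ[k] DualNumber k) : MvPolynomial ℕ k →+* DualNumber k)
    (by
      intro a ha
      have hle : II k p ≤ RingHom.ker
          ((MvPolynomial.aeval (fun i : ℕ => if i = N then (DualNumber.eps : DualNumber k) else 0) :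
            MvPolynomial ℕ k →ₐ[k] DualNumber k) : MvPolynomial ℕ k →+* DualNumber k) := by
        rw [Ideal.span_le]
        rintro _ ⟨i, rfl⟩
        show (MvPolynomial.aeval (fun i : ℕ => if i = N then (DualNumber.eps : DualNumber k)
          else 0)) ((MvPolynomial.X i) ^ p) = 0
        rw [map_pow, MvPolynomial.aeval_X]
        split_ifs
        · obtain ⟨m, rfl⟩ : ∃ m, p = 2 + m := ⟨p - 2, by omega⟩
          rw [pow_add, DualNumber.eps_pow_two, zero_mul]
        · exact zero_pow (by omega)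
      exact hle ha)

theorem psi_mk_X (hp2 : 2 ≤ p) (N i : ℕ) :
    psi (k := k) hp2 N (Ideal.Quotient.mk (II k p) (MvPolynomial.X i)) =
      if i = N then (DualNumber.eps : DualNumber k) else 0 := by
  show (MvPolynomial.aeval (fun i : ℕ => if i = N then (DualNumber.eps : DualNumber k) else 0))
    (MvPolynomial.X i) = _
  rw [MvPolynomial.aeval_X]

theorem main13726 (k : Type u) [Field k] (p : ℕ) [Fact p.Prime] [CharP k p] :
    PolLaw.ker (PolLaw.MulLaw.pow (AA k p) (AA k p) p).law = JJ k p ∧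
      ¬ (PolLaw.ker (PolLaw.MulLaw.pow (AA k p) (AA k p) p).law).FG := by
  classical
  have hp : p.Prime := Fact.out
  have hpA : ((p : ℕ) : AA k p) = 0 := by
    have h1 : ((p : ℕ) : AA k p) = algebraMap k (AA k p) (p : k) := (map_natCast _ p).symm
    rw [h1, CharP.cast_eq_zero, map_zero]
  have hker : PolLaw.ker (PolLaw.MulLaw.pow (AA k p) (AA k p) p).law = JJ k p := by
    apply le_antisymm
    · intro b hb
      rw [mem_ker_powLaw_iff p hp hpA] at hb
      apply mem_JJ_of_aug hp.ne_zero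
      have h1 := congr_arg (aug hp.ne_zero) hb
      rw [map_pow, map_zero] at h1
      exact (pow_eq_zero_iff hp.ne_zero).1 h1
    · rw [Ideal.map_le_iff_le_comap, Ideal.span_le]
      rintro _ ⟨i, rfl⟩
      show Ideal.Quotient.mk (II k p) (MvPolynomial.X i) ∈
        PolLaw.ker (PolLaw.MulLaw.pow (AA k p) (AA k p) p).law
      rw [mem_ker_powLaw_iff p hp hpA, ← map_pow]
      exact Ideal.Quotient.eq_zero_iff_mem.2 (Ideal.subset_span ⟨i, rfl⟩)
  refine ⟨hker, ?_⟩
  rw [hker]
  intro hfg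
  have hJ : JJ k p = Ideal.span (Set.range fun i : ℕ =>
      Ideal.Quotient.mk (II k p) (MvPolynomial.X i)) := by
    rw [JJ, Ideal.map_span, ← Set.range_comp]
    rfl
  rw [hJ] at hfg
  obtain ⟨s', hs's, hspan⟩ := (Submodule.fg_span_iff_fg_span_finset_subset _).1 hfg
  choose g hg using fun y : {y // y ∈ s'} => hs's y.2
  obtain ⟨N, hN⟩ : ∃ N, ∀ y : {y // y ∈ s'}, g y < N := by
    refine ⟨(Finset.univ.sup g) + 1, fun y => Nat.lt_succ_of_le (Finset.le_sup (Finset.mem_univ y))⟩
  have hmem : Ideal.Quotient.mk (II k p) (MvPolynomial.X N) ∈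
      Ideal.span (Set.range fun i : ℕ => Ideal.Quotient.mk (II k p) (MvPolynomial.X i)) :=
    Ideal.subset_span ⟨N, rfl⟩
  have hle : Ideal.span (Set.range fun i : ℕ => Ideal.Quotient.mk (II k p) (MvPolynomial.X i)) ≤
      RingHom.ker (psi (k := k) hp.two_le N) := by
    show Submodule.span _ _ ≤ _
    rw [hspan]
    show Ideal.span _ ≤ _
    rw [Ideal.span_le]
    intro y hy
    have h1 : Ideal.Quotient.mk (II k p) (MvPolynomial.X (g ⟨y, hy⟩)) = y := hg ⟨y, hy⟩
    have h2 := hN ⟨y, hy⟩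
    show psi (k := k) hp.two_le N y = 0
    have h5 : psi (k := k) hp.two_le N y =
        psi (k := k) hp.two_le N (Ideal.Quotient.mk (II k p) (MvPolynomial.X (g ⟨y, hy⟩))) := by
      rw [h1]
    rw [h5, psi_mk_X, if_neg (by omega)]
  have h3 := hle hmem
  rw [RingHom.mem_ker, psi_mk_X, if_pos rfl] at h3
  have h4 := congr_arg TrivSqZeroExt.snd h3
  rw [DualNumber.snd_eps, TrivSqZeroExt.snd_zero] at h4
  exact one_ne_zero h4

end Example

end Groth.Agent.Lib.PolLawFrobH1
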