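import Mathlib
import Groth.Prelude.Def_PolLaw
import Groth.Agent.Lib.PolLawKer_helper1
import Groth.Agent.Lib.PolLawSurj_helper1

/-!
# The image of a multiplicative law with reduced target is reduced (helper1)
-/

set_option autoImplicit false
universe u
open scoped TensorProduct
open Polynomial

namespace Groth.Agent.Lib.PolLawRedH1

open Groth.Agent.Lib.PolLawKerH1 Groth.Agent.Lib.PolLawSurjH1

/-- core polynomial lemma -/
theorem eval_one_eq_eval_zero {R₀ : Type*} [CommRing R₀] [IsReduced R₀] (r : R₀[X]) (e : R₀)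
    (h : r * r.comp (-X) = C e) : r.eval 1 = r.eval 0 := by
  have hK : r.natDegree = 0 := by
    by_contra hne
    have hdeg : (r.comp (-X)).natDegree = r.natDegree :=
      natDegree_eq_of_degree_eq degree_comp_neg_X
    have h1 := coeff_mul_add_eq_of_natDegree_le (le_refl r.natDegree) (le_of_eq hdeg)
    rw [h, coeff_C, if_neg (by omega)] at h1
    have h2 : (r.comp (-X)).coeff r.natDegree = (-1) ^ r.natDegree * r.leadingCoeff := by
      rw [← comp_neg_X_leadingCoeff_eq, leadingCoeff, hdeg]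
    rw [h2, coeff_natDegree] at h1
    have h3 : r.leadingCoeff ^ 2 = 0 := by
      have hu : ((-1 : R₀) ^ r.natDegree) * ((-1) ^ r.natDegree) = 1 := by
        rw [← mul_pow, neg_one_mul, neg_neg, one_pow]
      calc r.leadingCoeff ^ 2
          = (((-1 : R₀) ^ r.natDegree) * ((-1) ^ r.natDegree)) * r.leadingCoeff ^ 2 := by
            rw [hu, one_mul]
        _ = ((-1 : R₀) ^ r.natDegree) *
            (r.leadingCoeff * ((-1) ^ r.natDegree * r.leadingCoeff)) := by ring
        _ = 0 := by rw [← h1, mul_zero]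
    have h5 : r.leadingCoeff = 0 := (IsReduced.eq_zero _ ⟨2, h3⟩)
    rw [leadingCoeff_eq_zero] at h5
    rw [h5, natDegree_zero] at hne
    exact hne rfl
  rw [eq_C_of_natDegree_eq_zero hK, eval_C, eval_C]

section Theta

variable {A : Type u} [CommRing A] (S : Type u) [CommRing S] [Algebra A S]
  (C : Type u) [CommRing C] [Algebra A C]

/-- `S[X] ⊗ C → (S ⊗ C)[X]` -/
noncomputable def Theta : Polynomial S ⊗[A] C →ₐ[A] Polynomial (S ⊗[A] C) :=
  Algebra.TensorProduct.lift
    (Polynomial.mapAlgHom (Algebra.TensorProduct.includeLeft : S →ₐ[A] S ⊗[A] C))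
    ((Polynomial.CAlgHom (R := A) (A := S ⊗[A] C)).comp
      (Algebra.TensorProduct.includeRight : C →ₐ[A] S ⊗[A] C))
    (fun _ _ => Commute.all _ _)

theorem Theta_tmul (p : Polynomial S) (c : C) :
    Theta S C (p ⊗ₜ[A] c) =
      p.map ((Algebra.TensorProduct.includeLeft : S →ₐ[A] S ⊗[A] C) : S →+* S ⊗[A] C) *
        Polynomial.C ((1 : S) ⊗ₜ[A] c) := by
  rw [Theta, Algebra.TensorProduct.lift_tmul]
  rfl

/-- evaluation at `a` -/
noncomputable def ev (a : S) : Polynomial S →ₐ[A] S := (Polynomial.aeval a).restrictScalars A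

theorem ev_apply (a : S) (p : Polynomial S) : ev (A := A) S a p = p.eval a := by
  rw [ev, AlgHom.restrictScalars_apply, Polynomial.coe_aeval_eq_eval]

theorem eval_Theta (a : S) (z : Polynomial S ⊗[A] C) :
    (Theta S C z).eval (a ⊗ₜ[A] (1 : C)) =
      Algebra.TensorProduct.map (ev (A := A) S a) (AlgHom.id A C) z := by
  induction z using TensorProduct.induction_on with
  | zero => simp
  | tmul p c =>
    rw [Theta_tmul, Polynomial.eval_mul, Polynomial.eval_C, Polynomial.eval_map,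
      Algebra.TensorProduct.map_tmul, ev_apply]
    have h1 : Polynomial.eval₂
        ((Algebra.TensorProduct.includeLeft : S →ₐ[A] S ⊗[A] C) : S →+* S ⊗[A] C)
        (a ⊗ₜ[A] (1 : C)) p = (p.eval a) ⊗ₜ[A] (1 : C) :=
      Polynomial.eval₂_at_apply
        ((Algebra.TensorProduct.includeLeft : S →ₐ[A] S ⊗[A] C) : S →+* S ⊗[A] C) a
    rw [h1, Algebra.TensorProduct.tmul_mul_tmul, mul_one, one_mul]
    rfl
  | add x y hx hy => rw [map_add, map_add, Polynomial.eval_add, hx, hy]

/-- the substitution `X ↦ -X` -/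
noncomputable def sg : Polynomial S →ₐ[A] Polynomial S :=
  (Polynomial.aeval (-X : Polynomial S)).restrictScalars A

theorem sg_apply (p : Polynomial S) : sg (A := A) S p = p.comp (-X) := rfl

theorem Theta_sg (z : Polynomial S ⊗[A] C) :
    Theta S C (Algebra.TensorProduct.map (sg (A := A) S) (AlgHom.id A C) z) =
      (Theta S C z).comp (-X) := by
  induction z using TensorProduct.induction_on with
  | zero => simp
  | tmul p c =>
    rw [Algebra.TensorProduct.map_tmul, sg_apply, Theta_tmul, Theta_tmul, Polynomial.map_comp,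
      Polynomial.map_neg, Polynomial.map_X, Polynomial.mul_comp, Polynomial.C_comp]
    rfl
  | add x y hx hy => rw [map_add, map_add, map_add, Polynomial.add_comp, hx, hy]

theorem Theta_C (c : S ⊗[A] C) :
    Theta S C (Algebra.TensorProduct.map (Polynomial.CAlgHom (R := A) (A := S)) (AlgHom.id A C) c) =
      Polynomial.C c := by
  induction c using TensorProduct.induction_on with
  | zero => simp
  | tmul s c =>
    rw [Algebra.TensorProduct.map_tmul, Theta_tmul]
    have h1 : (Polynomial.CAlgHom (R := A) (A := S)) s = Polynomial.C s := rfl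
    rw [h1, Polynomial.map_C, ← Polynomial.C_mul]
    congr 1
    show (s ⊗ₜ[A] (1 : C)) * ((1 : S) ⊗ₜ[A] c) = s ⊗ₜ[A] c
    rw [Algebra.TensorProduct.tmul_mul_tmul, mul_one, one_mul]
  | add x y hx hy => rw [map_add, map_add, Polynomial.C_add, hx, hy]

end Theta

variable {A : Type u} [CommRing A] {B : Type u} [CommRing B] [Algebra A B]
  {C : Type u} [CommRing C] [Algebra A C]

theorem isReduced_mvPolynomial_tensor [IsReduced C] (n : ℕ) :
    IsReduced (MvPolynomial (Fin n) A ⊗[A] C) := by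
  let e : MvPolynomial (Fin n) A ⊗[A] C →+* MvPolynomial (Fin n) C :=
    ((MvPolynomial.algebraTensorAlgEquiv A C).toRingEquiv.toRingHom).comp
      (Algebra.TensorProduct.comm A (MvPolynomial (Fin n) A) C).toRingEquiv.toRingHom
  have he : Function.Injective e := fun a b hab =>
    (Algebra.TensorProduct.comm A (MvPolynomial (Fin n) A) C).injective
      ((MvPolynomial.algebraTensorAlgEquiv A C).injective hab)
  exact isReduced_of_injective e he

set_option maxHeartbeats 1600000 in
theorem mem_ker_of_sq_mem [IsReduced C] {d : ℕ} (F : PolLaw.MulLaw A B C d) (b : B)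
    (hb : b ^ 2 ∈ PolLaw.ker F.law) : b ∈ PolLaw.ker F.law := by
  apply mem_ker_of_mvPolynomial
  intro n x w
  haveI : IsReduced (MvPolynomial (Fin n) A ⊗[A] C) := isReduced_mvPolynomial_tensor n
  obtain ⟨y, hy⟩ : ∃ y : MvPolynomial (Fin n) A ⊗[A] B, y = w * (1 ⊗ₜ[A] b) := ⟨_, rfl⟩
  rw [← hy]
  obtain ⟨ι, hι⟩ : ∃ ι : MvPolynomial (Fin n) A →ₐ[A] Polynomial (MvPolynomial (Fin n) A),
      ι = Polynomial.CAlgHom := ⟨_, rfl⟩
  obtain ⟨Xt, hXt⟩ : ∃ Xt : Polynomial (MvPolynomial (Fin n) A) ⊗[A] B,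
      Xt = Algebra.TensorProduct.map ι (AlgHom.id A B) x := ⟨_, rfl⟩
  obtain ⟨Yt, hYt⟩ : ∃ Yt : Polynomial (MvPolynomial (Fin n) A) ⊗[A] B,
      Yt = ((X : Polynomial (MvPolynomial (Fin n) A)) ⊗ₜ[A] (1 : B)) *
        Algebra.TensorProduct.map ι (AlgHom.id A B) y := ⟨_, rfl⟩
  obtain ⟨R, hR⟩ : ∃ R : Polynomial (MvPolynomial (Fin n) A) ⊗[A] C,
      R = F.law.toFun' _ (Xt + Yt) := ⟨_, rfl⟩
  -- the substitution X ↦ -X
  have hsgι : (sg (A := A) (MvPolynomial (Fin n) A)).comp ι = ι := by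
    apply AlgHom.ext
    intro s
    rw [AlgHom.comp_apply, sg_apply, hι]
    exact Polynomial.C_comp
  obtain ⟨Ym, hYm⟩ : ∃ Ym : Polynomial (MvPolynomial (Fin n) A) ⊗[A] B,
      Ym = ((-X : Polynomial (MvPolynomial (Fin n) A)) ⊗ₜ[A] (1 : B)) *
        Algebra.TensorProduct.map ι (AlgHom.id A B) y := ⟨_, rfl⟩
  have h1 : Algebra.TensorProduct.map (sg (A := A) (MvPolynomial (Fin n) A)) (AlgHom.id A B)
      (Xt + Yt) = Xt + Ym := by
    rw [map_add, hXt, hYt, hYm, map_mul, map_map_left, map_map_left, hsgι,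
      Algebra.TensorProduct.map_tmul, sg_apply, Polynomial.X_comp, map_one]
  -- the product
  have h2 : (Xt + Yt) * (Xt + Ym) = Xt * Xt +
      ((((X * -X : Polynomial (MvPolynomial (Fin n) A)) ⊗ₜ[A] (1 : B)) *
        Algebra.TensorProduct.map ι (AlgHom.id A B) (w * w))) *
        ((1 : Polynomial (MvPolynomial (Fin n) A)) ⊗ₜ[A] (b ^ 2)) := by
    have h3 : Yt * Ym = (((X * -X : Polynomial (MvPolynomial (Fin n) A)) ⊗ₜ[A] (1 : B)) *
        Algebra.TensorProduct.map ι (AlgHom.id A B) (w * w)) *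
        ((1 : Polynomial (MvPolynomial (Fin n) A)) ⊗ₜ[A] (b ^ 2)) := by
      have h4 : ((1 : Polynomial (MvPolynomial (Fin n) A)) ⊗ₜ[A] (b ^ 2)) =
          Algebra.TensorProduct.map ι (AlgHom.id A B) (((1 : MvPolynomial (Fin n) A) ⊗ₜ[A] b) *
            ((1 : MvPolynomial (Fin n) A) ⊗ₜ[A] b)) := by
        rw [Algebra.TensorProduct.tmul_mul_tmul, mul_one, Algebra.TensorProduct.map_tmul, map_one,
          sq]
        rfl
      have h5 : ((X * -X : Polynomial (MvPolynomial (Fin n) A)) ⊗ₜ[A] (1 : B)) =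
          ((X : Polynomial (MvPolynomial (Fin n) A)) ⊗ₜ[A] (1 : B)) *
            ((-X : Polynomial (MvPolynomial (Fin n) A)) ⊗ₜ[A] (1 : B)) := by
        rw [Algebra.TensorProduct.tmul_mul_tmul, mul_one]
      rw [h4, h5, hYt, hYm, hy, map_mul, map_mul, map_mul]
      ring
    have h5' : Yt + Ym = 0 := by
      rw [hYt, hYm, ← add_mul, ← TensorProduct.add_tmul, add_neg_cancel, TensorProduct.zero_tmul,
        zero_mul]
    have h6 : (Xt + Yt) * (Xt + Ym) = Xt * Xt + Xt * (Yt + Ym) + Yt * Ym := by ring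
    rw [h6, h3, h5', mul_zero, add_zero]
  have h7 : F.law.toFun' _ ((Xt + Yt) * (Xt + Ym)) = F.law.toFun' _ (Xt * Xt) := by
    rw [h2]
    exact (mem_ker_iff F.law _).1 hb _ _ _
  rw [(F.mult _).2, (F.mult _).2, ← h1, ← compat_map, ← hR] at h7
  have h8 : F.law.toFun' _ Xt = Algebra.TensorProduct.map ι (AlgHom.id A C) (F.law.toFun' _ x) := by
    rw [hXt, compat_map]
  rw [h8] at h7
  have h9 := congr_arg (Theta (MvPolynomial (Fin n) A) C) h7
  rw [map_mul, map_mul, Theta_sg, hι, Theta_C, ← Polynomial.C_mul] at h9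
  have h10 := eval_one_eq_eval_zero _ _ h9
  have e1 : (1 : MvPolynomial (Fin n) A ⊗[A] C) = (1 : MvPolynomial (Fin n) A) ⊗ₜ[A] (1 : C) :=
    Algebra.TensorProduct.one_def
  have e0 : (0 : MvPolynomial (Fin n) A ⊗[A] C) = (0 : MvPolynomial (Fin n) A) ⊗ₜ[A] (1 : C) :=
    (TensorProduct.zero_tmul _ _).symm
  rw [e1, e0, eval_Theta, eval_Theta, hR, compat_map, compat_map] at h10
  have hevι : ∀ (a : MvPolynomial (Fin n) A) (z : MvPolynomial (Fin n) A ⊗[A] B),
      Algebra.TensorProduct.map (ev (A := A) (MvPolynomial (Fin n) A) a) (AlgHom.id A B)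
        (Algebra.TensorProduct.map ι (AlgHom.id A B) z) = z := by
    intro a z
    rw [map_map_left]
    have : (ev (A := A) (MvPolynomial (Fin n) A) a).comp ι = AlgHom.id A _ := by
      apply AlgHom.ext
      intro s
      rw [AlgHom.comp_apply, ev_apply, hι]
      exact Polynomial.eval_C
    rw [this, Algebra.TensorProduct.map_id]
    rfl
  have hX1 : ∀ a : MvPolynomial (Fin n) A,
      Algebra.TensorProduct.map (ev (A := A) (MvPolynomial (Fin n) A) a) (AlgHom.id A B) (Xt + Yt)
        = x + (a ⊗ₜ[A] (1 : B)) * y := by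
    intro a
    rw [map_add, hXt, hYt, map_mul, hevι, hevι, Algebra.TensorProduct.map_tmul, ev_apply,
      Polynomial.eval_X, map_one]
  rw [hX1, hX1, ← Algebra.TensorProduct.one_def, one_mul, TensorProduct.zero_tmul, zero_mul,
    add_zero] at h10
  exact h10

theorem isRadical_ker [IsReduced C] {d : ℕ} (F : PolLaw.MulLaw A B C d) :
    (PolLaw.ker F.law).IsRadical := by
  intro b hb
  obtain ⟨n, hn⟩ := hb
  induction n using Nat.strong_induction_on generalizing b with
  | _ n ih =>
    rcases Nat.lt_or_ge n 2 with hlt | hge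
    · interval_cases n
      · rw [pow_zero] at hn
        have : PolLaw.ker F.law = ⊤ := (Ideal.eq_top_iff_one _).2 hn
        rw [this]; trivial
      · rwa [pow_one] at hn
    · have h1 : (b ^ ((n + 1) / 2)) ^ 2 ∈ PolLaw.ker F.law := by
        rw [← pow_mul]
        obtain ⟨k, hk⟩ : ∃ k, (n + 1) / 2 * 2 = n + k := ⟨(n + 1) / 2 * 2 - n, by omega⟩
        rw [hk, pow_add]
        exact Ideal.mul_mem_right _ _ hn
      have h2 := mem_ker_of_sq_mem F _ h1
      exact ih ((n + 1) / 2) (by omega) h2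

theorem main13722 [IsReduced C] {d : ℕ} (F : PolLaw.MulLaw A B C d) :
    IsReduced (PolLaw.image F.law) :=
  (Ideal.isRadical_iff_quotient_reduced _).1 (isRadical_ker F)

end Groth.Agent.Lib.PolLawRedH1
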