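import Mathlib
import Groth.Agent.Lib.KProjAdj_helper2
import Groth.Agent.Lib.ExtendScalars_helper2
import Groth.Agent.Lib.DMod78_helper6
import Groth.Agent.Lib.KProjRes_helper2

/-!
# `K ⊗^L_{R[x]} R ≅ K ⊕ K[1]` for `K` coming from `R` via `x ↦ 0` (helper2)
-/

set_option autoImplicit false
universe u
open CategoryTheory Limits Polynomial
open scoped ChangeOfRings TensorProduct

namespace Groth.Agent.Lib.PolyEval

open Groth.Agent.ExtendScalarsLib

variable (R : Type u) [CommRing R]

/-- `C : R → R[X]` -/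
noncomputable abbrev ιC : R →+* R[X] := algebraMap R R[X]

/-- evaluation at `0` -/
noncomputable abbrev ε : R[X] →+* R := Polynomial.evalRingHom (0 : R)

lemma ε_ιC (r : R) : ε R (ιC R r) = r := by simp

lemma ε_X : ε R (X : R[X]) = 0 := by simp

variable {R}

section Tensor

variable (M : Type u) [AddCommGroup M] [Module R M]

/-- `divX` as an `R`-linear map -/
noncomputable def divXLin : R[X] →ₗ[R] R[X] where
  toFun := divX
  map_add' _ _ := divX_add
  map_smul' r p := by
    show divX (r • p) = r • divX p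
    rw [smul_eq_C_mul, divX_C_mul, smul_eq_C_mul]

lemma divX_X_mul (p : R[X]) : divX (X * p) = p := by
  ext n
  rw [coeff_divX, coeff_X_mul]

/-- `divX ⊗ id` -/
noncomputable def D₀ : R[X] ⊗[R] M →ₗ[R] R[X] ⊗[R] M := (divXLin (R := R)).rTensor M

/-- `p ⊗ m ↦ p(0) m` -/
noncomputable def g₀ : R[X] ⊗[R] M →ₗ[R] M :=
  (TensorProduct.lid R M).toLinearMap ∘ₗ (Polynomial.leval (0 : R)).rTensor M

lemma D₀_tmul (p : R[X]) (m : M) : D₀ M (p ⊗ₜ[R] m) = divX p ⊗ₜ[R] m := rfl

lemma g₀_tmul (p : R[X]) (m : M) : g₀ M (p ⊗ₜ[R] m) = p.eval 0 • m := by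
  simp [g₀]

lemma X_smul_tmul (p : R[X]) (m : M) : (X : R[X]) • (p ⊗ₜ[R] m) = (X * p) ⊗ₜ[R] m := by
  rw [TensorProduct.smul_tmul', smul_eq_mul]

lemma key₀ (t : R[X] ⊗[R] M) : t = (X : R[X]) • D₀ M t + (1 : R[X]) ⊗ₜ[R] g₀ M t := by
  induction t using TensorProduct.induction_on with
  | zero => simp
  | tmul p m =>
    rw [D₀_tmul, g₀_tmul, X_smul_tmul, ← TensorProduct.smul_tmul, ← TensorProduct.add_tmul,
      smul_eq_C_mul, mul_one, ← coeff_zero_eq_eval_zero, X_mul_divX_add]
  | add x y hx hy =>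
    rw [map_add, map_add, smul_add, TensorProduct.tmul_add]
    nth_rewrite 1 [hx, hy]
    abel

lemma D₀_X_smul (t : R[X] ⊗[R] M) : D₀ M ((X : R[X]) • t) = t := by
  induction t using TensorProduct.induction_on with
  | zero => simp
  | tmul p m => rw [X_smul_tmul, D₀_tmul, divX_X_mul]
  | add x y hx hy => rw [smul_add, map_add, hx, hy]

lemma g₀_X_smul (t : R[X] ⊗[R] M) : g₀ M ((X : R[X]) • t) = 0 := by
  induction t using TensorProduct.induction_on with
  | zero => simp
  | tmul p m => rw [X_smul_tmul, g₀_tmul]; simp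
  | add x y hx hy => rw [smul_add, map_add, hx, hy, add_zero]

end Tensor

section Mod

variable (M : ModuleCat.{u} R)

/-- `R[X] ⊗_R M` -/
noncomputable abbrev EM : ModuleCat.{u} R[X] := (ModuleCat.extendScalars.{u, u, u} (ιC R)).obj M

/-- `M` as an `R[X]`-module via `x ↦ 0` -/
noncomputable abbrev RM : ModuleCat.{u} R[X] := (ModuleCat.restrictScalars.{u} (ε R)).obj M

/-- the identity `M → M|_{R[X]}|_R` -/
noncomputable def θ : M ⟶ (ModuleCat.restrictScalars.{u} (ιC R)).obj (RM M) :=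
  ModuleCat.ofHom (Y := (ModuleCat.restrictScalars.{u} (ιC R)).obj (RM M))
    { toFun := fun m => m
      map_add' := fun _ _ => rfl
      map_smul' := fun r m => by
        show r • m = (ε R (ιC R r)) • m
        rw [ε_ιC] }

/-- `R[X] ⊗_R M → M`, `p ⊗ m ↦ p(0) m` -/
noncomputable def gM : EM M ⟶ RM M :=
  ((ModuleCat.extendRestrictScalarsAdj.{u} (ιC R)).homEquiv _ _).symm (θ M)

/-- pure tensors as elements of `R[X] ⊗_R M` -/
noncomputable def tm (p : R[X]) (m : M) : EM M := p ⊗ₜ[R,ιC R] m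

lemma smul_tm (q p : R[X]) (m : M) : q • tm M p m = tm M (q * p) m := rfl

lemma gM_one_tm (m : M) : (gM M).hom (tm M 1 m) = m := by
  have h := ModuleCat.extendRestrictScalarsAdj_homEquiv_apply (f := ιC R) (gM M) m
  rw [gM, Equiv.apply_symm_apply] at h
  exact h.symm

lemma gM_tm (p : R[X]) (m : M) : (gM M).hom (tm M p m) = (ε R p) • m := by
  have h1 : tm M p m = p • tm M 1 m := by rw [smul_tm, mul_one]
  rw [h1, map_smul, gM_one_tm]
  rfl

/-- comparison with the usual tensor product -/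
noncomputable abbrev eM : EM M ≃ₗ[R[X]] R[X] ⊗[R] M := extendScalarsEquivTensor (S := R[X]) M

lemma eM_tm (p : R[X]) (m : M) : eM M (tm M p m) = p ⊗ₜ[R] m := rfl

lemma gM_symm (u : R[X] ⊗[R] M) : (gM M).hom ((eM M).symm u) = g₀ M u := by
  induction u using TensorProduct.induction_on with
  | zero =>
    rw [map_zero, map_zero, map_zero]
    rfl
  | tmul p m =>
    have h : (eM M).symm (p ⊗ₜ[R] m) = tm M p m :=
      (eM M).symm_apply_eq.2 (eM_tm M p m).symm
    rw [h, gM_tm, g₀_tmul]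
    rfl
  | add x y hx hy =>
    rw [map_add, map_add, hx, hy, map_add]
    rfl

lemma gM_eq (t : EM M) : (gM M).hom t = g₀ M (eM M t) := by
  rw [← gM_symm, LinearEquiv.symm_apply_apply]

lemma gM_X_smul (t : EM M) : (gM M).hom ((X : R[X]) • t) = 0 := by
  rw [gM_eq, map_smul, g₀_X_smul]
  rfl

/-- the short complex `R[X] ⊗ M --x--> R[X] ⊗ M --> M` -/
noncomputable def sc : ShortComplex (ModuleCat.{u} R[X]) :=
  ShortComplex.mk ((X : R[X]) • 𝟙 (EM M)) (gM M) (by
    apply ModuleCat.hom_ext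
    apply LinearMap.ext
    intro t
    exact gM_X_smul M t)

lemma sc_shortExact : (sc M).ShortExact := by
  refine ModuleCat.shortComplex_shortExact _ ?_ ?_ ?_
  · intro (t : EM M)
    show (gM M).hom t = 0 ↔ ∃ t' : EM M, (X : R[X]) • t' = t
    constructor
    · intro h
      have h0 : g₀ M (eM M t) = (0 : M) := by
        rw [← gM_eq]
        exact h
      have hk := key₀ M (eM M t)
      rw [h0, TensorProduct.tmul_zero, add_zero] at hk
      refine ⟨(eM M).symm (D₀ M (eM M t)), ?_⟩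
      apply (eM M).injective
      rw [map_smul, LinearEquiv.apply_symm_apply]
      exact hk.symm
    · rintro ⟨t', rfl⟩
      exact gM_X_smul M t'
  · intro (t₁ : EM M) (t₂ : EM M) h
    have h' : (X : R[X]) • t₁ = (X : R[X]) • t₂ := h
    have h2 : D₀ M (eM M ((X : R[X]) • t₁)) = D₀ M (eM M ((X : R[X]) • t₂)) := by rw [h']
    rw [(eM M).map_smul X t₁, (eM M).map_smul X t₂, D₀_X_smul, D₀_X_smul] at h2
    exact (eM M).injective h2
  · intro m
    exact ⟨tm M 1 m, gM_one_tm M m⟩

end Mod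

section Cx

attribute [local instance] HasDerivedCategory.standard

open DerivedCategory Groth.Agent.Lib.DMod_helper6 Pretriangulated CochainComplex

/-- the natural transformation `R[X] ⊗_R - ⟶ (-)|_{R[X]}` -/
noncomputable def gNat : ModuleCat.extendScalars.{u, u, u} (ιC R) ⟶
    ModuleCat.restrictScalars.{u} (ε R) where
  app M := gM M
  naturality M N h := by
    apply ModuleCat.ExtendScalars.hom_ext
    intro m
    show (gM N).hom (tm N 1 (h.hom m)) = h.hom ((gM M).hom (tm M 1 m))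
    rw [gM_one_tm, gM_one_tm]

variable (P : DRing.Cx R)

/-- `R[X] ⊗_R P` -/
noncomputable abbrev EP : DRing.Cx R[X] := (ESc (ιC R)).obj P

/-- `P` as a complex of `R[X]`-modules -/
noncomputable abbrev RP : DRing.Cx R[X] :=
  ((ModuleCat.restrictScalars.{u} (ε R)).mapHomologicalComplex (ComplexShape.up ℤ)).obj P

/-- multiplication by `X` -/
noncomputable def mX : EP P ⟶ EP P := (X : R[X]) • 𝟙 (EP P)

/-- the augmentation -/
noncomputable def gC : EP P ⟶ RP P :=
  (NatTrans.mapHomologicalComplex (gNat (R := R)) (ComplexShape.up ℤ)).app P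

/-- the short exact sequence `0 → P[X] → P[X] → P → 0` -/
noncomputable def scC : ShortComplex (DRing.Cx R[X]) :=
  ShortComplex.mk (mX P) (gC P) (by
    apply HomologicalComplex.hom_ext
    intro i
    exact (sc (P.X i)).zero)

lemma scC_shortExact : (scC P).ShortExact :=
  HomologicalComplex.shortExact_of_degreewise_shortExact _ (fun i => sc_shortExact (P.X i))

lemma map_mX_eq_zero : (ESc (ε R)).map (mX P) = 0 := by
  letI : Algebra R[X] R := (ε R).toAlgebra
  apply HomologicalComplex.hom_ext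
  intro i
  show (ES R[X] R).map (((X : R[X]) • 𝟙 (EP P) : EP P ⟶ EP P).f i) = 0
  rw [HomologicalComplex.smul_f_apply, HomologicalComplex.id_f, ES_map_smul]
  show (ε R X) • _ = 0
  rw [ε_X, zero_smul]

lemma ε_comp_ιC : (ε R).comp (ιC R) = RingHom.id R := by
  ext r
  simp

/-- `R ⊗_{R[X]} (R[X] ⊗_R -) ≅ id` -/
noncomputable def extExtIso : ModuleCat.extendScalars.{u, u, u} (ιC R) ⋙
    ModuleCat.extendScalars.{u, u, u} (ε R) ≅ 𝟭 (ModuleCat.{u} R) :=
  (ModuleCat.extendScalarsComp (ιC R) (ε R)).symm ≪≫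
    eqToIso (congrArg ModuleCat.extendScalars.{u, u, u} (ε_comp_ιC (R := R))) ≪≫
    ModuleCat.extendScalarsId R

/-- `R ⊗_{R[X]} (R[X] ⊗_R P) ≅ P` -/
noncomputable def extExtIsoCx : (ESc (ε R)).obj (EP P) ≅ P :=
  HomologicalComplex.Hom.isoOfComponents (fun i => (extExtIso (R := R)).app (P.X i))
    (fun i j _ => ((extExtIso (R := R)).hom.naturality (P.d i j)).symm)

theorem main (K : Dual.D R) [DRing.HasLBaseChange (ε R)]
    [HasBinaryBiproduct K ((CategoryTheory.shiftFunctor (Dual.D R) (1 : ℤ)).obj K)] :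
    Nonempty ((DRing.LBaseChange (ε R)).obj ((DRing.restrictD (ε R)).obj K) ≅
      K ⊞ (CategoryTheory.shiftFunctor (Dual.D R) (1 : ℤ)).obj K) := by
  obtain ⟨P, π, hπ, hPkp, -, -⟩ :=
    Groth.Agent.Lib.KProjRes.exists_kproj_resolution (DerivedCategory.Q.objPreimage K)
  haveI := hπ
  haveI := hPkp
  haveI : IsIso (DerivedCategory.Q.map π) :=
    (DerivedCategory.isIso_Q_map_iff_quasiIso _ _).2 inferInstance
  let eP : DRing.toD P ≅ K :=
    asIso (DerivedCategory.Q.map π) ≪≫ DerivedCategory.Q.objObjPreimageIso K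
  haveI : (EP P).IsKProjective :=
    Groth.Agent.Lib.KProjAdj.isKProjective_extendScalars (ιC R) P
  haveI : (mappingCone (mX P)).IsKProjective :=
    Groth.Agent.Lib.KProjRes.isKProjective_mappingCone (mX P)
  haveI hq : QuasiIso (mappingCone.descShortComplex (scC P)) :=
    mappingCone.quasiIso_descShortComplex (scC_shortExact P)
  haveI : IsIso (Q.map (mappingCone.descShortComplex (scC P))) :=
    (DerivedCategory.isIso_Q_map_iff_quasiIso _ _).2 hq
  let e1 : (DRing.restrictD (ε R)).obj K ≅ DRing.toD (mappingCone (mX P)) :=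
    (DRing.restrictD (ε R)).mapIso eP.symm ≪≫
      (ModuleCat.restrictScalars.{u} (ε R)).mapDerivedCategoryFactors.app P ≪≫
      (asIso (Q.map (mappingCone.descShortComplex (scC P)))).symm
  obtain ⟨eL⟩ := nonempty_lBaseChange_iso_of_isKProjective (ε R) (mappingCone (mX P))
  let e2 : (ESc (ε R)).obj (mappingCone (mX P)) ≅ mappingCone ((ESc (ε R)).map (mX P)) :=
    mappingCone.mapHomologicalComplexIso (mX P) (ModuleCat.extendScalars.{u, u, u} (ε R))
  have hT := DerivedCategory.mappingCone_triangle_distinguished ((ESc (ε R)).map (mX P))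
  have hrot := rot_of_distTriang _ hT
  have hz : (Q.mapTriangle.obj (mappingCone.triangle ((ESc (ε R)).map (mX P)))).rotate.mor₃ = 0 := by
    show -(CategoryTheory.shiftFunctor _ (1 : ℤ)).map (Q.map ((ESc (ε R)).map (mX P))) = 0
    rw [map_mX_eq_zero, Functor.map_zero, Functor.map_zero, neg_zero]
  obtain ⟨e, -, -⟩ := exists_iso_binaryBiproduct_of_distTriang _ hrot hz
  let eY : DRing.toD ((ESc (ε R)).obj (EP P)) ≅ K := Q.mapIso (extExtIsoCx P) ≪≫ eP
  exact ⟨(DRing.LBaseChange (ε R)).mapIso e1 ≪≫ eL ≪≫ Q.mapIso e2 ≪≫ e ≪≫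
    biprod.mapIso eY ((CategoryTheory.shiftFunctor (Dual.D R) (1 : ℤ)).mapIso eY)⟩

end Cx

end Groth.Agent.Lib.PolyEval
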