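import Mathlib
import Groth.Agent.Lib.PSFrobFamily_helper3

/-!
# The subrings `B₀[y^p]` of `B[y]` in characteristic `p` (helper3)

`polySub p B₀` : polynomials with coefficients in the subring `B₀` and exponents divisible by `p`.
APPEND-ONLY once landed.
-/

set_option autoImplicit false
set_option maxSynthPendingDepth 3

namespace Groth.Agent.Lib.PolyFrobH3

universe u

open MvPolynomial
open Groth.Agent.Lib.PSFrobFamilyH3 (Pd pd_zero)

section Basic

variable (p : ℕ) {B : Type u} [CommRing B] {τ : Type*}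

/-- coefficients in `B₀`, exponents divisible by `p` -/
def Good (B₀ : Subring B) (f : MvPolynomial τ B) : Prop :=
  ∀ n, coeff n f ∈ B₀ ∧ (coeff n f ≠ 0 → Pd p n)

/-- `B₀[y^p]` -/
def polySub (B₀ : Subring B) : Subring (MvPolynomial τ B) where
  carrier := {f | Good p B₀ f}
  mul_mem' := fun {f g} hf hg n => by
    classical
    rw [coeff_mul]
    refine ⟨B₀.sum_mem fun x _ => B₀.mul_mem (hf _).1 (hg _).1, fun hne => ?_⟩
    obtain ⟨x, hx, hx0⟩ := Finset.exists_ne_zero_of_sum_ne_zero hne
    have h1 : coeff x.1 f ≠ 0 := left_ne_zero_of_mul hx0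
    have h2 : coeff x.2 g ≠ 0 := right_ne_zero_of_mul hx0
    replace hx : x.1 + x.2 = n := Finset.HasAntidiagonal.mem_antidiagonal.1 hx
    rw [← hx]
    exact ((hf _).2 h1).add ((hg _).2 h2)
  one_mem' := fun n => by
    classical
    rw [coeff_one]
    split_ifs with h
    · exact ⟨B₀.one_mem, fun _ => h ▸ pd_zero p⟩
    · exact ⟨B₀.zero_mem, fun h0 => absurd rfl h0⟩
  add_mem' := fun {f g} hf hg n => by
    rw [coeff_add]
    refine ⟨B₀.add_mem (hf n).1 (hg n).1, fun hne => ?_⟩
    by_cases h1 : coeff n f = 0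
    · rw [h1, zero_add] at hne
      exact (hg n).2 hne
    · exact (hf n).2 h1
  zero_mem' := fun n => by
    rw [coeff_zero]
    exact ⟨B₀.zero_mem, fun h0 => absurd rfl h0⟩
  neg_mem' := fun {f} hf n => by
    rw [coeff_neg]
    exact ⟨B₀.neg_mem (hf n).1, fun hne => (hf n).2 (neg_ne_zero.1 hne)⟩

theorem mem_polySub {B₀ : Subring B} {f : MvPolynomial τ B} :
    f ∈ polySub (τ := τ) p B₀ ↔ Good p B₀ f := Iff.rfl

theorem polySub_mono {B₀ B₁ : Subring B} (h : B₀ ≤ B₁) :
    polySub (τ := τ) p B₀ ≤ polySub p B₁ := fun _ hf n => ⟨h (hf n).1, (hf n).2⟩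

theorem monomial_mem (B₀ : Subring B) {n : τ →₀ ℕ} (hn : Pd p n) {c : B} (hc : c ∈ B₀) :
    monomial n c ∈ polySub (τ := τ) p B₀ := by
  classical
  intro m
  rw [coeff_monomial]
  split_ifs with h
  · exact ⟨hc, fun _ => h ▸ hn⟩
  · exact ⟨B₀.zero_mem, fun h0 => absurd rfl h0⟩

theorem C_mem (B₀ : Subring B) {c : B} (hc : c ∈ B₀) :
    (C c : MvPolynomial τ B) ∈ polySub (τ := τ) p B₀ :=
  monomial_mem p B₀ (pd_zero p) hc

/-- Division: `f * b = c` with `b, c ∈ B₀[y^p]`, `b ≠ 0` forces `f ∈ B₀[y^p]`, provided `B₀` is a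
direct summand of `B` as a `B₀`-module. -/
theorem mem_of_mul_eq [IsDomain B] (B₀ : Subring B) (π : B →+ B) (hπmem : ∀ b, π b ∈ B₀)
    (hπid : ∀ c ∈ B₀, π c = c) (hπmul : ∀ y, ∀ β ∈ B₀, π (y * β) = π y * β)
    (f b c : MvPolynomial τ B)
    (hb : b ∈ polySub (τ := τ) p B₀) (hc : c ∈ polySub (τ := τ) p B₀) (hb0 : b ≠ 0)
    (h : f * b = c) : f ∈ polySub (τ := τ) p B₀ := by
  classical
  let Lam : MvPolynomial τ B → MvPolynomial τ B := fun g =>
    ∑ n ∈ g.support, if Pd p n then monomial n (π (coeff n g)) else 0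
  have hLam : ∀ g n, coeff n (Lam g) = if Pd p n then π (coeff n g) else 0 := by
    intro g n
    simp only [Lam, coeff_sum]
    rw [Finset.sum_eq_single n]
    · split_ifs with hn
      · rw [coeff_monomial, if_pos rfl]
      · rw [coeff_zero]
    · intro x _ hxn
      split_ifs
      · rw [coeff_monomial, if_neg hxn]
      · rw [coeff_zero]
    · intro hn
      rw [notMem_support_iff] at hn
      split_ifs
      · rw [coeff_monomial, if_pos rfl, hn, map_zero]
      · rw [coeff_zero]
  have hLamc : Lam c = c := by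
    ext n
    rw [hLam]
    split_ifs with hn
    · rw [hπid _ (hc n).1]
    · by_contra h0
      exact hn ((hc n).2 (Ne.symm h0))
  have hLammul : Lam (f * b) = Lam f * b := by
    ext n
    rw [hLam, coeff_mul, coeff_mul]
    split_ifs with hn
    · rw [map_sum]
      refine Finset.sum_congr rfl fun x hx => ?_
      replace hx : x.1 + x.2 = n := Finset.HasAntidiagonal.mem_antidiagonal.1 hx
      rw [hπmul _ _ (hb _).1, hLam]
      by_cases hx2 : coeff x.2 b = 0
      · rw [hx2, mul_zero, mul_zero]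
      · have h2 : Pd p x.2 := (hb _).2 hx2
        have h1 : Pd p x.1 := Pd.of_add_right h2 (hx ▸ hn)
        rw [if_pos h1]
    · symm
      refine Finset.sum_eq_zero fun x hx => ?_
      replace hx : x.1 + x.2 = n := Finset.HasAntidiagonal.mem_antidiagonal.1 hx
      by_cases hx2 : coeff x.2 b = 0
      · rw [hx2, mul_zero]
      · have h2 : Pd p x.2 := (hb _).2 hx2
        have h1 : ¬ Pd p x.1 := fun h1 => hn (hx ▸ h1.add h2)
        rw [hLam, if_neg h1, zero_mul]
  have h2 : (Lam f - f) * b = 0 := by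
    rw [sub_mul, ← hLammul, h, hLamc, sub_self]
  have h3 : Lam f = f := by
    rcases mul_eq_zero.1 h2 with h3 | h3
    · exact sub_eq_zero.1 h3
    · exact absurd h3 hb0
  intro n
  rw [← h3, hLam]
  split_ifs with hn
  · exact ⟨hπmem _, fun _ => hn⟩
  · exact ⟨B₀.zero_mem, fun h0 => absurd rfl h0⟩

end Basic

section Pow

variable (p : ℕ) [hp : Fact p.Prime] {B : Type u} [CommRing B] [CharP B p] {τ : Type*}

include hp in
theorem pow_p_mem (B₀ : Subring B) (hB₀ : ∀ x : B, x ^ p ∈ B₀) (g : MvPolynomial τ B) :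
    g ^ p ∈ polySub (τ := τ) p B₀ := by
  classical
  haveI : CharP (MvPolynomial τ B) p := inferInstance
  rw [← support_sum_monomial_coeff g, sum_pow_char]
  refine Subring.sum_mem _ fun n _ => ?_
  rw [monomial_pow]
  refine monomial_mem p B₀ (fun i => ?_) (hB₀ _)
  rw [Finsupp.smul_apply, smul_eq_mul]
  exact dvd_mul_right p _

include hp in
/-- a polynomial in all `B₀ᵢ[y^p]`, `⋂ B₀ᵢ ⊆ B^p`, is a `p`-th power -/
theorem exists_pow_eq {ι : Type*} [hι : Nonempty ι] (B₀ : ι → Subring B)
    (hinf : ∀ x : B, (∀ i, x ∈ B₀ i) → ∃ y : B, y ^ p = x) (f : MvPolynomial τ B)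
    (hf : ∀ i, f ∈ polySub (τ := τ) p (B₀ i)) : ∃ g : MvPolynomial τ B, g ^ p = f := by
  classical
  haveI : CharP (MvPolynomial τ B) p := inferInstance
  have hroot : ∀ n : τ →₀ ℕ, ∃ y : B, y ^ p = coeff n f := fun n =>
    hinf _ (fun i => ((hf i) _).1)
  choose y hy using hroot
  refine ⟨∑ n ∈ f.support, monomial (n.mapRange (fun a => a / p) (Nat.zero_div p)) (y n), ?_⟩
  rw [sum_pow_char]
  conv_rhs => rw [← support_sum_monomial_coeff f]
  refine Finset.sum_congr rfl fun n hn => ?_
  obtain ⟨i⟩ := hι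
  have hpd : Pd p n := ((hf i) n).2 (mem_support_iff.1 hn)
  have hn' : p • n.mapRange (fun a => a / p) (Nat.zero_div p) = n := by
    ext j
    rw [Finsupp.smul_apply, Finsupp.mapRange_apply, smul_eq_mul]
    exact Nat.mul_div_cancel' (hpd j)
  rw [monomial_pow, hy, hn']

end Pow

section Finite

open Groth.Agent.Lib.PSFrobFamilyH3 (expo resid resid_iff expo_apply)

variable (p : ℕ) [hp : Fact p.Prime] {B : Type u} [CommRing B] {τ : Type*} [Finite τ]

include hp in
theorem finite_polySub (B₀ : Subring B) [hfin : Module.Finite B₀ B] :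
    Module.Finite (polySub (τ := τ) p B₀) (MvPolynomial τ B) := by
  classical
  haveI : Fintype τ := Fintype.ofFinite τ
  obtain ⟨s, hs⟩ := (Module.Finite.fg_top : (⊤ : Submodule B₀ B).FG)
  let G : Finset (MvPolynomial τ B) :=
    (Finset.univ ×ˢ s).image (fun j : (τ → Fin p) × B => monomial (expo p j.1) j.2)
  refine ⟨⟨G, ?_⟩⟩
  rw [eq_top_iff]
  suffices key : ∀ f : MvPolynomial τ B, f ∈ Submodule.span (polySub (τ := τ) p B₀)
      (G : Set (MvPolynomial τ B)) from fun f _ => key f
  intro f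
  induction f using MvPolynomial.induction_on' with
  | monomial n c =>
    have hc : c ∈ Submodule.span B₀ (s : Set B) := hs ▸ Submodule.mem_top
    induction hc using Submodule.span_induction with
    | mem b hb =>
      obtain ⟨hle, hpd⟩ := (resid_iff p n (resid p n)).2 rfl
      have h1 : monomial n b = (⟨monomial (n - expo p (resid p n)) (1 : B),
          monomial_mem p B₀ hpd B₀.one_mem⟩ : polySub (τ := τ) p B₀) •
          monomial (expo p (resid p n)) b := by
        rw [Subring.smul_def, smul_eq_mul, monomial_mul, one_mul, tsub_add_cancel_of_le hle]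
      rw [h1]
      refine Submodule.smul_mem _ _ (Submodule.subset_span ?_)
      rw [Finset.mem_coe, Finset.mem_image]
      exact ⟨(resid p n, b), Finset.mem_product.2 ⟨Finset.mem_univ _, hb⟩, rfl⟩
    | zero => rw [monomial_zero]; exact Submodule.zero_mem _
    | add c c' _ _ hc hc' => rw [map_add]; exact Submodule.add_mem _ hc hc'
    | smul β c' _ hc' =>
      have h1 : monomial n (β • c') = (⟨C (β : B), C_mem p B₀ β.2⟩ : polySub (τ := τ) p B₀) •
          monomial n c' := by
        show monomial n ((β : B) * c') = C (β : B) * monomial n c'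
        rw [C_mul_monomial]
      rw [h1]
      exact Submodule.smul_mem _ _ hc'
  | add f g hf hg => exact Submodule.add_mem _ hf hg

end Finite

section Closure

variable (p : ℕ) [hp : Fact p.Prime] {A KK : Type*} [CommRing A] [IsDomain A] [Field KK]
  [Algebra A KK] [IsFractionRing A KK]

omit hp [IsDomain A] [IsFractionRing A KK] in
/-- elements of the subfield generated by a subring are quotients -/
theorem mem_closure_iff (S : Subring A) (x : KK) :
    x ∈ Subfield.closure (algebraMap A KK '' (S : Set A)) ↔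
      ∃ a ∈ S, ∃ b ∈ S, algebraMap A KK a / algebraMap A KK b = x := by
  have hset : (algebraMap A KK '' (S : Set A)) =
      ((S.map (algebraMap A KK) : Subring KK) : Set KK) := by
    rw [Subring.coe_map]
  rw [hset, Subfield.mem_closure_iff, Subring.closure_eq]
  constructor
  · rintro ⟨y, ⟨a, ha, rfl⟩, z, ⟨b, hb, rfl⟩, rfl⟩
    exact ⟨a, ha, b, hb, rfl⟩
  · rintro ⟨a, ha, b, hb, rfl⟩
    exact ⟨_, ⟨a, ha, rfl⟩, _, ⟨b, hb, rfl⟩, rfl⟩

include hp in
theorem forall_mem_closure_iff {ι : Type*} [Nonempty ι] (S : ι → Subring A)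
    (hpow : ∀ i (b : A), b ^ p ∈ S i)
    (hdiv : ∀ i (f b c : A), b ∈ S i → c ∈ S i → b ≠ 0 → f * b = c → f ∈ S i)
    (hinf : ∀ f : A, (∀ i, f ∈ S i) → ∃ g : A, g ^ p = f) (x : KK) :
    (∀ i, x ∈ Subfield.closure (algebraMap A KK '' (S i : Set A))) ↔ ∃ y : KK, y ^ p = x := by
  classical
  have hinj : Function.Injective (algebraMap A KK) := IsFractionRing.injective A KK
  have hp1 : p = (p - 1) + 1 := (Nat.sub_add_cancel hp.out.one_le).symm
  constructor
  · intro hx
    obtain ⟨i₀⟩ := ‹Nonempty ι›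
    obtain ⟨a, -, b, -, hab⟩ := (mem_closure_iff (S i₀) x).1 (hx i₀)
    by_cases hb0 : b = 0
    · refine ⟨0, ?_⟩
      rw [← hab, hb0, map_zero, div_zero, zero_pow hp.out.ne_zero]
    have hh : ∀ i, b ^ p ∈ S i := fun i => hpow i b
    have hh0 : b ^ p ≠ 0 := pow_ne_zero _ hb0
    have hιb : algebraMap A KK b ≠ 0 := fun h0 => hb0 (hinj (h0.trans (map_zero _).symm))
    obtain ⟨f, hf_def⟩ : ∃ f : A, f = a * b ^ (p - 1) := ⟨_, rfl⟩
    have hxf : algebraMap A KK f = x * algebraMap A KK (b ^ p) := by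
      rw [hf_def, ← hab, map_mul, map_pow, map_pow]
      conv_rhs => rw [hp1, pow_succ]
      field_simp
    have hfmem : ∀ i, f ∈ S i := by
      intro i
      obtain ⟨ai, hai, bi, hbi, habi⟩ := (mem_closure_iff (S i) x).1 (hx i)
      by_cases hbi0 : bi = 0
      · have hx0 : x = 0 := by rw [← habi, hbi0, map_zero, div_zero]
        have hf0 : f = 0 := by
          apply hinj
          rw [hxf, hx0, zero_mul, map_zero]
        rw [hf0]
        exact Subring.zero_mem _
      have hιbi : algebraMap A KK bi ≠ 0 :=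
        fun h0 => hbi0 (hinj (h0.trans (map_zero _).symm))
      refine hdiv i f bi (ai * b ^ p) hbi (Subring.mul_mem _ hai (hh i)) hbi0 ?_
      apply hinj
      rw [map_mul, map_mul, hxf, ← habi]
      field_simp
    obtain ⟨g, hg⟩ := hinf f hfmem
    refine ⟨algebraMap A KK g / algebraMap A KK b, ?_⟩
    rw [div_pow, ← map_pow, ← map_pow, hg, hxf, mul_div_assoc, div_self, mul_one]
    exact fun h0 => hh0 (hinj (h0.trans (map_zero _).symm))
  · rintro ⟨y, rfl⟩ i
    obtain ⟨a, b, -, hab⟩ := IsFractionRing.div_surjective (A := A) y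
    rw [← hab, div_pow, ← map_pow, ← map_pow]
    exact (Subfield.closure _).div_mem
      (Subfield.subset_closure ⟨_, hpow i a, rfl⟩)
      (Subfield.subset_closure ⟨_, hpow i b, rfl⟩)

end Closure

end Groth.Agent.Lib.PolyFrobH3
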