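import Mathlib
import Groth.Prelude.Def_GrLC
import Groth.Prelude.Def_GrLC2
import Groth.Prelude.Def_CAlg
import Groth.Prelude.Def_Wider
import Groth.Agent.Lib.AInvPoly2_helper1
import Groth.Agent.Lib.HilbExist1_helper9

/-! Standard graded algebras over a field as quotients of polynomial rings, and their Hilbert
polynomials (helper1, towards S18644). -/

set_option autoImplicit false

namespace Groth.Agent.Lib.PolyIffH1

open DirectSum GrLC Groth.Agent.Lib.GrStarH1 Groth.Agent.Lib.GrLES4H1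
  Groth.Agent.Lib.GrHDecH1 Groth.Agent.Lib.GrHS3H1 Groth.Agent.Lib.AInvPolyH1

attribute [local instance] MvPolynomial.gradedAlgebra

universe u

section graded

variable {R : Type u} [CommRing R] (𝒜 : ℤ → AddSubgroup R) [GradedRing 𝒜]
variable (hpos : ∀ n : ℤ, n < 0 → 𝒜 n = ⊥)

/-- evaluation at elements of degree one is graded -/
theorem aeval_mem {N : ℕ} (f : Fin N → R) (hf1 : ∀ i, f i ∈ 𝒜 1)
    {p : MvPolynomial (Fin N) (deg0 𝒜)} {n : ℕ} (hp : p.IsHomogeneous n) :
    MvPolynomial.aeval f p ∈ 𝒜 (n : ℤ) := by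
  classical
  rw [MvPolynomial.aeval_def, MvPolynomial.eval₂_eq]
  refine AddSubgroup.sum_mem _ (fun d hd => ?_)
  have hdeg : Finsupp.weight 1 d = n := hp (MvPolynomial.mem_support_iff.1 hd)
  have h1 : ∏ i ∈ d.support, f i ^ d i ∈ 𝒜 (∑ i ∈ d.support, (d i : ℤ)) := by
    refine SetLike.prod_mem_graded (A := 𝒜) (fun i => (d i : ℤ)) (fun i => f i ^ d i)
      (fun i _ => ?_)
    have := SetLike.pow_mem_graded (d i) (hf1 i)
    rwa [nsmul_one] at this
  have h2 : (∑ i ∈ d.support, (d i : ℤ)) = (n : ℤ) := by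
    rw [← hdeg]
    have : Finsupp.weight (1 : Fin N → ℕ) d = ∑ i ∈ d.support, d i := by
      rw [Finsupp.weight_apply, Finsupp.sum]
      simp
    rw [this]
    push_cast
    rfl
  rw [h2] at h1
  have h3 := SetLike.GradedMul.mul_mem (A := 𝒜) (MvPolynomial.coeff d p).2 h1
  rw [zero_add] at h3
  exact h3

/-- the projection onto a homogeneous component commutes with evaluation -/
theorem proj_aeval {N : ℕ} (f : Fin N → R) (hf1 : ∀ i, f i ∈ 𝒜 1)
    (p : MvPolynomial (Fin N) (deg0 𝒜)) (n : ℕ) :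
    GradedRing.proj 𝒜 (n : ℤ) (MvPolynomial.aeval f p) =
      MvPolynomial.aeval f (MvPolynomial.homogeneousComponent n p) := by
  classical
  have hterm : ∀ j : ℕ, GradedRing.proj 𝒜 (n : ℤ)
      (MvPolynomial.aeval f (MvPolynomial.homogeneousComponent j p)) =
      if j = n then MvPolynomial.aeval f (MvPolynomial.homogeneousComponent j p) else 0 := by
    intro j
    have hj := aeval_mem 𝒜 f hf1 (MvPolynomial.homogeneousComponent_isHomogeneous j p)
    rw [GradedRing.proj_apply]
    split_ifs with h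
    · subst h
      exact decompose_of_mem_same 𝒜 hj
    · exact decompose_of_mem_ne 𝒜 hj (by exact_mod_cast h)
  conv_lhs => rw [← MvPolynomial.sum_homogeneousComponent p]
  rw [map_sum, map_sum]
  simp only [hterm]
  rw [Finset.sum_ite_eq']
  split_ifs with hn
  · rfl
  · rw [MvPolynomial.homogeneousComponent_eq_zero, map_zero]
    rw [Finset.mem_range] at hn
    omega

/-- every homogeneous element is the value of a homogeneous polynomial -/
theorem exists_homogeneous_preimage {N : ℕ} (f : Fin N → R) (hf1 : ∀ i, f i ∈ 𝒜 1)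
    (hsurj : Function.Surjective
      (MvPolynomial.aeval f : MvPolynomial (Fin N) (deg0 𝒜) →ₐ[deg0 𝒜] R))
    {n : ℕ} {x : R} (hx : x ∈ 𝒜 (n : ℤ)) :
    ∃ p : MvPolynomial (Fin N) (deg0 𝒜), p.IsHomogeneous n ∧ MvPolynomial.aeval f p = x := by
  obtain ⟨p', hp'⟩ := hsurj x
  refine ⟨MvPolynomial.homogeneousComponent n p',
    MvPolynomial.homogeneousComponent_isHomogeneous n p', ?_⟩
  rw [← proj_aeval 𝒜 f hf1, hp', GradedRing.proj_apply]
  exact decompose_of_mem_same 𝒜 hx

/-- the kernel of the evaluation is a homogeneous ideal -/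
theorem ker_isHomogeneous {N : ℕ} (f : Fin N → R) (hf1 : ∀ i, f i ∈ 𝒜 1) :
    (RingHom.ker (MvPolynomial.aeval f :
      MvPolynomial (Fin N) (deg0 𝒜) →ₐ[deg0 𝒜] R)).IsHomogeneous
      (MvPolynomial.homogeneousSubmodule (Fin N) (deg0 𝒜)) := by
  intro i c hc
  change ((MvPolynomial.decomposition.decompose' c i :
    ↥(MvPolynomial.homogeneousSubmodule (Fin N) (deg0 𝒜) i)) :
      MvPolynomial (Fin N) (deg0 𝒜)) ∈ _
  rw [MvPolynomial.decomposition.decompose'_apply, RingHom.mem_ker]
  rw [RingHom.mem_ker] at hc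
  have h1 := proj_aeval 𝒜 f hf1 c i
  have hc' : MvPolynomial.aeval f c = 0 := hc
  rw [hc', map_zero] at h1
  exact h1.symm

end graded

end Groth.Agent.Lib.PolyIffH1
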