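import Mathlib
import Groth.Prelude.Def_GrLC
import Groth.Prelude.Def_GrLC2
import Groth.Prelude.Def_CAlg
import Groth.Prelude.Def_Wider
import Groth.Agent.Lib.PolyIff1_helper1

/-! The Hilbert function and Hilbert polynomial of a standard graded algebra over a field
(helper1, towards S18644). -/

set_option autoImplicit false

namespace Groth.Agent.Lib.PolyIffH1

open DirectSum GrLC Groth.Agent.Lib.GrStarH1 Groth.Agent.Lib.GrLES4H1
  Groth.Agent.Lib.GrHDecH1 Groth.Agent.Lib.GrHS3H1 Groth.Agent.Lib.AInvPolyH1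

attribute [local instance] MvPolynomial.gradedAlgebra

universe u

section field

variable {R : Type u} [CommRing R] (𝒜 : ℤ → AddSubgroup R) [GradedRing 𝒜]

/-- the Hilbert function -/
noncomputable def HF (n : ℤ) : ℕ := (Module.length (deg0 𝒜) (comp 𝒜 𝒜 n)).toNat

variable (hpos : ∀ n : ℤ, n < 0 → 𝒜 n = ⊥) (h0 : IsField (deg0 𝒜))

include hpos h0 in
theorem HF_eq_finrank [IsNoetherianRing R] (n : ℤ) :
    HF 𝒜 n = Module.finrank (deg0 𝒜) ↥(comp 𝒜 𝒜 n) := by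
  letI : Field (deg0 𝒜) := h0.toField
  haveI : Module.Finite (deg0 𝒜) ↥(comp 𝒜 𝒜 n) :=
    Module.Finite.iff_fg.2 (piece_fg 𝒜 hpos 𝒜 n (comp 𝒜 𝒜 n) (fun _ => Iff.rfl))
  unfold HF
  rw [Module.length_eq_finrank]
  exact ENat.toNat_coe _

include hpos in
theorem HF_neg {n : ℤ} (hn : n < 0) : HF 𝒜 n = 0 := by
  haveI : Subsingleton ↥(comp 𝒜 𝒜 n) := by
    refine ⟨fun x y => Subtype.ext ?_⟩
    have hmem : ∀ z : R, z ∈ 𝒜 n → z = 0 := fun z hz => by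
      rw [hpos n hn] at hz
      exact (AddSubgroup.mem_bot).1 hz
    rw [hmem _ x.2, hmem _ y.2]
  unfold HF
  rw [Module.length_eq_zero]
  rfl

include hpos h0 in
theorem HF_zero [IsNoetherianRing R] : HF 𝒜 0 = 1 := by
  rw [HF_eq_finrank 𝒜 hpos h0]
  letI : Field (deg0 𝒜) := h0.toField
  have h1 : (1 : R) ∈ 𝒜 0 := SetLike.GradedOne.one_mem (A := 𝒜)
  refine finrank_eq_one (⟨1, h1⟩ : ↥(comp 𝒜 𝒜 0)) ?_ ?_
  · intro h
    have h2 : (1 : R) = 0 := congrArg Subtype.val h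
    have h3 : (1 : deg0 𝒜) = 0 := Subtype.ext h2
    exact one_ne_zero h3
  · rintro ⟨x, hx⟩
    refine ⟨⟨x, hx⟩, Subtype.ext ?_⟩
    show x • (1 : R) = x
    rw [smul_eq_mul, mul_one]

include hpos h0 in
theorem exists_presentation [IsNoetherianRing R]
    (hstd : Ideal.span (⋃ n ∈ Set.Ioi (0 : ℤ), (𝒜 n : Set R)) =
      Ideal.span ((𝒜 1 : AddSubgroup R) : Set R)) :
    ∃ (N : ℕ) (f : Fin N → R), N = HF 𝒜 1 ∧ (∀ i, f i ∈ 𝒜 1) ∧
      Function.Surjective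
        (MvPolynomial.aeval f : MvPolynomial (Fin N) (deg0 𝒜) →ₐ[deg0 𝒜] R) := by
  classical
  letI : Field (deg0 𝒜) := h0.toField
  haveI : Module.Finite (deg0 𝒜) ↥(comp 𝒜 𝒜 1) :=
    Module.Finite.iff_fg.2 (piece_fg 𝒜 hpos 𝒜 1 (comp 𝒜 𝒜 1) (fun _ => Iff.rfl))
  obtain ⟨b, hb⟩ : ∃ b : Module.Basis (Fin (Module.finrank (deg0 𝒜) ↥(comp 𝒜 𝒜 1))) (deg0 𝒜)
      ↥(comp 𝒜 𝒜 1), b = Module.finBasis (deg0 𝒜) ↥(comp 𝒜 𝒜 1) := ⟨_, rfl⟩
  have hf1 : ∀ i, ((b i : ↥(comp 𝒜 𝒜 1)) : R) ∈ 𝒜 1 := fun i => (b i).2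
  refine ⟨Module.finrank (deg0 𝒜) ↥(comp 𝒜 𝒜 1), fun i => ((b i : ↥(comp 𝒜 𝒜 1)) : R),
    (HF_eq_finrank 𝒜 hpos h0 1).symm, hf1, ?_⟩
  apply aeval_surjective 𝒜 hpos hstd _ hf1
  intro x hx
  have key : ∀ v : ↥(comp 𝒜 𝒜 1), v ∈ Submodule.span (deg0 𝒜) (Set.range b) →
      (v : R) ∈ Ideal.span (Set.range (fun i => ((b i : ↥(comp 𝒜 𝒜 1)) : R))) := by
    intro v hv
    induction hv using Submodule.span_induction with
    | mem v hv =>
      obtain ⟨i, rfl⟩ := hv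
      exact Ideal.subset_span ⟨i, rfl⟩
    | zero => exact Ideal.zero_mem _
    | add v w _ _ hv hw => exact Ideal.add_mem _ hv hw
    | smul c v _ hv => exact Ideal.mul_mem_left _ (c : R) hv
  have hmem : (⟨x, hx⟩ : ↥(comp 𝒜 𝒜 1)) ∈ Submodule.span (deg0 𝒜) (Set.range b) := by
    rw [b.span_eq]
    exact Submodule.mem_top
  exact key _ hmem

include hpos h0 in
theorem finrank_homog_eq [IsNoetherianRing R] {N : ℕ} (f : Fin N → R) (hf1 : ∀ i, f i ∈ 𝒜 1)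
    (hsurj : Function.Surjective
      (MvPolynomial.aeval f : MvPolynomial (Fin N) (deg0 𝒜) →ₐ[deg0 𝒜] R)) (n : ℕ) :
    Module.finrank (deg0 𝒜) ↥(MvPolynomial.homogeneousSubmodule (Fin N) (deg0 𝒜) n) =
      HF 𝒜 (n : ℤ) + Module.finrank (deg0 𝒜)
        ↥(Submodule.restrictScalars (deg0 𝒜) (RingHom.ker (MvPolynomial.aeval f :
          MvPolynomial (Fin N) (deg0 𝒜) →ₐ[deg0 𝒜] R)) ⊓
          MvPolynomial.homogeneousSubmodule (Fin N) (deg0 𝒜) n) := by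
  classical
  letI : Field (deg0 𝒜) := h0.toField
  rw [HF_eq_finrank 𝒜 hpos h0]
  obtain ⟨Sn, hSn⟩ : ∃ Sn : Submodule (deg0 𝒜) (MvPolynomial (Fin N) (deg0 𝒜)),
      Sn = MvPolynomial.homogeneousSubmodule (Fin N) (deg0 𝒜) n := ⟨_, rfl⟩
  obtain ⟨I', hI'⟩ : ∃ I' : Submodule (deg0 𝒜) (MvPolynomial (Fin N) (deg0 𝒜)),
      I' = Submodule.restrictScalars (deg0 𝒜) (RingHom.ker (MvPolynomial.aeval f :
          MvPolynomial (Fin N) (deg0 𝒜) →ₐ[deg0 𝒜] R)) := ⟨_, rfl⟩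
  rw [← hSn, ← hI']
  haveI : Module.Finite (deg0 𝒜) ↥Sn := by
    rw [hSn]
    infer_instance
  obtain ⟨L, hL⟩ : ∃ L : ↥Sn →ₗ[deg0 𝒜] R, ∀ p : ↥Sn, L p = MvPolynomial.aeval f (p : MvPolynomial (Fin N) (deg0 𝒜)) :=
    ⟨(MvPolynomial.aeval f : MvPolynomial (Fin N) (deg0 𝒜) →ₐ[deg0 𝒜] R).toLinearMap ∘ₗ
      Sn.subtype, fun p => rfl⟩
  have hmemS : ∀ q : MvPolynomial (Fin N) (deg0 𝒜), q ∈ Sn → q.IsHomogeneous n := fun q hq => by
    rw [hSn] at hq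
    exact (MvPolynomial.mem_homogeneousSubmodule _ _).1 hq
  have hrange : LinearMap.range L = comp 𝒜 𝒜 (n : ℤ) := by
    ext x
    constructor
    · rintro ⟨p, rfl⟩
      rw [hL]
      exact aeval_mem 𝒜 f hf1 (hmemS _ p.2)
    · intro hx
      obtain ⟨p, hp, hpx⟩ := exists_homogeneous_preimage 𝒜 f hf1 hsurj hx
      have hpS : p ∈ Sn := by
        rw [hSn]
        exact (MvPolynomial.mem_homogeneousSubmodule _ _).2 hp
      exact ⟨⟨p, hpS⟩, by rw [hL]; exact hpx⟩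
  have hker : LinearMap.ker L = Submodule.comap Sn.subtype (I' ⊓ Sn) := by
    ext p
    rw [LinearMap.mem_ker, hL, Submodule.mem_comap, Submodule.mem_inf, hI',
      Submodule.restrictScalars_mem, RingHom.mem_ker]
    constructor
    · intro h
      exact ⟨h, p.2⟩
    · intro h
      exact h.1
  have h1 := LinearMap.finrank_range_add_finrank_ker (K := deg0 𝒜) (V := ↥Sn) (V₂ := R) L
  rw [hrange, hker] at h1
  have h2 : Module.finrank (deg0 𝒜) ↥(Submodule.comap Sn.subtype (I' ⊓ Sn)) =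
      Module.finrank (deg0 𝒜) ↥(I' ⊓ Sn) :=
    LinearEquiv.finrank_eq (Submodule.comapSubtypeEquivOfLe (inf_le_right : I' ⊓ Sn ≤ Sn))
  rw [h2] at h1
  exact h1.symm

include hpos h0 in
theorem exists_hilbert_poly [IsNoetherianRing R] {N : ℕ} (f : Fin N → R)
    (hf1 : ∀ i, f i ∈ 𝒜 1)
    (hsurj : Function.Surjective
      (MvPolynomial.aeval f : MvPolynomial (Fin N) (deg0 𝒜) →ₐ[deg0 𝒜] R))
    (r : ℕ) (hr : ringKrullDim R = r) :
    ∃ Q : Polynomial ℚ, (∃ n₀ : ℕ, ∀ n : ℕ, n₀ ≤ n → Q.eval (n : ℚ) = (HF 𝒜 (n : ℤ) : ℚ)) ∧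
      (Q ≠ 0 → r = Q.natDegree + 1) := by
  classical
  letI : Field (deg0 𝒜) := h0.toField
  obtain ⟨I, hI⟩ : ∃ I : Ideal (MvPolynomial (Fin N) (deg0 𝒜)),
      I = RingHom.ker (MvPolynomial.aeval f :
        MvPolynomial (Fin N) (deg0 𝒜) →ₐ[deg0 𝒜] R) := ⟨_, rfl⟩
  have hIhom : I.IsHomogeneous (MvPolynomial.homogeneousSubmodule (Fin N) (deg0 𝒜)) := by
    rw [hI]
    exact ker_isHomogeneous 𝒜 f hf1
  obtain ⟨Q, m₀, hQ⟩ := Groth.Agent.HilbExist9.exists_hilbPoly (deg0 𝒜) N I hIhom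
  have hcast : ∀ n : ℕ, (HF 𝒜 (n : ℤ) : ℚ) =
      (Module.finrank (deg0 𝒜) ↥(MvPolynomial.homogeneousSubmodule (Fin N) (deg0 𝒜) n) : ℚ) -
        (Module.finrank (deg0 𝒜) ↥(Submodule.restrictScalars (deg0 𝒜) I ⊓
          MvPolynomial.homogeneousSubmodule (Fin N) (deg0 𝒜) n) : ℚ) := by
    intro n
    have h1 := finrank_homog_eq 𝒜 hpos h0 f hf1 hsurj n
    rw [← hI] at h1
    rw [h1]
    push_cast
    ring
  have hQ' : ∀ n : ℕ, m₀ ≤ n → Q.eval (n : ℚ) = (HF 𝒜 (n : ℤ) : ℚ) := by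
    intro n hn
    rw [hcast n, Groth.Agent.HilbExist9.hf_cast, hQ n hn]
  refine ⟨Q, ⟨m₀, hQ'⟩, fun hQ0 => ?_⟩
  have hdim := Groth.Agent.HilbDim9.main (deg0 𝒜) N I hIhom Q hQ0
    ⟨m₀, fun n hn => by rw [hQ' n hn, hcast n]⟩
  have e : (MvPolynomial (Fin N) (deg0 𝒜) ⧸ I) ≃+* R := by
    rw [hI]
    exact (Ideal.quotientKerAlgEquivOfSurjective hsurj).toRingEquiv
  rw [ringKrullDim_eq_of_ringEquiv e, hr] at hdim
  have h2 : ((r : ℕ) : WithBot ℕ∞) = ((Q.natDegree + 1 : ℕ) : WithBot ℕ∞) := by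
    rw [hdim]
    push_cast
    rfl
  exact_mod_cast h2

include hpos h0 in
theorem aeval_injective_of_dim [IsNoetherianRing R] {N : ℕ} (f : Fin N → R)
    (hsurj : Function.Surjective
      (MvPolynomial.aeval f : MvPolynomial (Fin N) (deg0 𝒜) →ₐ[deg0 𝒜] R))
    (hN : ringKrullDim R = N) :
    Function.Injective
      (MvPolynomial.aeval f : MvPolynomial (Fin N) (deg0 𝒜) →ₐ[deg0 𝒜] R) := by
  haveI : IsDomain (deg0 𝒜) := h0.isDomain
  haveI := deg0_noetherian 𝒜 hpos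
  rw [injective_iff_map_eq_zero]
  intro p hp
  by_contra hp0
  have h1 := ringKrullDim_succ_le_of_surjective
    ((MvPolynomial.aeval f : MvPolynomial (Fin N) (deg0 𝒜) →ₐ[deg0 𝒜] R) :
      MvPolynomial (Fin N) (deg0 𝒜) →+* R) hsurj (mem_nonZeroDivisors_of_ne_zero hp0) hp
  rw [hN, MvPolynomial.ringKrullDim_of_isNoetherianRing, ringKrullDim_eq_zero_of_isField h0,
    zero_add, Nat.card_eq_fintype_card, Fintype.card_fin] at h1
  have h2 : ((N + 1 : ℕ) : WithBot ℕ∞) ≤ ((N : ℕ) : WithBot ℕ∞) := by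
    push_cast
    exact h1
  have h3 : N + 1 ≤ N := by exact_mod_cast h2
  omega

end field

end Groth.Agent.Lib.PolyIffH1
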