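import Mathlib
import Groth.Prelude.Def_GrLC
import Groth.Prelude.Def_GrLC2
import Groth.Prelude.Def_CAlg
import Groth.Prelude.Def_Wider
import Groth.Agent.Lib.PolyIff2_helper1
import Groth.Agent.Lib.GrHS4_helper1
import Groth.Agent.Lib.GorCan_helper1

/-! `a(R) = -dim R` iff `R` is a polynomial ring, for standard graded CM algebras over a field
(helper1, S18644). -/

set_option autoImplicit false

namespace Groth.Agent.Lib.PolyIffH1

open DirectSum GrLC Groth.Agent.Lib.GrStarH1 Groth.Agent.Lib.GrLES4H1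
  Groth.Agent.Lib.GrHDecH1 Groth.Agent.Lib.GrHS3H1 Groth.Agent.Lib.AInvPolyH1

attribute [local instance] MvPolynomial.gradedAlgebra

universe u

/-! ### dimension of the space of forms (copied from helper9's `ProjEuler_helper9`, to keep the
import closure small) -/

section Finrank

open MvPolynomial

variable (σ : Type*) [Fintype σ] [DecidableEq σ] (K : Type*) [Field K]

/-- the monomials of degree `n` -/
noncomputable def monFam (n : ℕ) :
    {m : σ →₀ ℕ // m ∈ (Finset.univ : Finset σ).finsuppAntidiag n} → MvPolynomial σ K :=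
  fun m => monomial m.1 1

lemma linearIndependent_monFam (n : ℕ) : LinearIndependent K (monFam σ K n) := by
  have h := (basisMonomials σ K).linearIndependent
  rw [coe_basisMonomials] at h
  exact h.comp Subtype.val Subtype.val_injective

lemma degree_eq_of_mem {n : ℕ} {m : σ →₀ ℕ} :
    m ∈ (Finset.univ : Finset σ).finsuppAntidiag n ↔ m.degree = n := by
  rw [Finset.mem_finsuppAntidiag]
  constructor
  · rintro ⟨h, -⟩
    rw [Finsupp.degree_eq_sum]
    exact h
  · intro h
    refine ⟨?_, Finset.subset_univ _⟩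
    rw [Finsupp.degree_eq_sum] at h
    exact h

lemma span_monFam (n : ℕ) :
    Submodule.span K (Set.range (monFam σ K n)) = homogeneousSubmodule σ K n := by
  apply le_antisymm
  · rw [Submodule.span_le]
    rintro _ ⟨m, rfl⟩
    exact (mem_homogeneousSubmodule _ _).mpr
      (isHomogeneous_monomial _ ((degree_eq_of_mem σ).mp m.2))
  · intro p hp
    rw [mem_homogeneousSubmodule] at hp
    rw [p.as_sum]
    refine Submodule.sum_mem _ (fun m hm => ?_)
    have hdeg : m.degree = n := by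
      rw [Finsupp.degree_eq_weight_one]
      exact hp (mem_support_iff.mp hm)
    have h1 : monomial m (coeff m p) =
        coeff m p • monFam σ K n ⟨m, (degree_eq_of_mem σ).mpr hdeg⟩ := by
      unfold monFam
      rw [smul_monomial, smul_eq_mul, mul_one]
    rw [h1]
    exact Submodule.smul_mem _ _ (Submodule.subset_span ⟨_, rfl⟩)

theorem finrank_homogeneousSubmodule (n : ℕ) :
    Module.finrank K (homogeneousSubmodule σ K n) = (Fintype.card σ + n - 1).choose n := by
  rw [← span_monFam σ K n, finrank_span_eq_card (linearIndependent_monFam σ K n),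
    Fintype.card_coe, Finset.card_finsuppAntidiag_nat_eq_choose, Finset.card_univ]

end Finrank

/-! ### the polynomial `binom(x + s, s)` -/

section poly

open Polynomial

/-- `(x+1)(x+2)⋯(x+s)` -/
noncomputable def Gpoly (s : ℕ) : Polynomial ℚ :=
  ∏ j ∈ Finset.range s, (Polynomial.X + Polynomial.C ((j : ℚ) + 1))

theorem Gpoly_eval (s : ℕ) (x : ℚ) :
    (Gpoly s).eval x = ∏ j ∈ Finset.range s, (x + ((j : ℚ) + 1)) := by
  unfold Gpoly
  rw [eval_prod]
  refine Finset.prod_congr rfl fun j _ => ?_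
  rw [eval_add, eval_X, eval_C]

theorem Gpoly_natDegree_le (s : ℕ) : (Gpoly s).natDegree ≤ s := by
  unfold Gpoly
  refine (natDegree_prod_le _ _).trans ?_
  have h : ∀ j ∈ Finset.range s,
      (Polynomial.X + Polynomial.C ((j : ℚ) + 1)).natDegree ≤ 1 := fun j _ => by
    rw [natDegree_X_add_C]
  refine (Finset.sum_le_sum h).trans ?_
  rw [Finset.sum_const, Finset.card_range, smul_eq_mul, mul_one]

theorem Gpoly_eval_nat (s n : ℕ) :
    (Gpoly s).eval (n : ℚ) = (s.factorial : ℚ) * ((n + s).choose s : ℚ) := by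
  rw [Gpoly_eval]
  have h := Nat.ascFactorial_eq_factorial_mul_choose n s
  rw [Nat.ascFactorial_eq_prod_range] at h
  have h2 : ((∏ i ∈ Finset.range s, (n + 1 + i) : ℕ) : ℚ) =
      (s.factorial : ℚ) * ((n + s).choose s : ℚ) := by
    rw [h, Nat.cast_mul]
  rw [← h2, Nat.cast_prod]
  refine Finset.prod_congr rfl fun j _ => ?_
  rw [Nat.cast_add, Nat.cast_add, Nat.cast_one]
  ring

theorem Gpoly_eval_zero (s : ℕ) : (Gpoly s).eval 0 = (s.factorial : ℚ) := by
  have h := Gpoly_eval_nat s 0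
  rw [Nat.cast_zero, zero_add, Nat.choose_self, Nat.cast_one, mul_one] at h
  exact h

theorem Gpoly_eval_one (s : ℕ) : (Gpoly s).eval 1 = (s.factorial : ℚ) * ((s : ℚ) + 1) := by
  have h := Gpoly_eval_nat s 1
  rw [Nat.cast_one, add_comm 1 s, Nat.choose_succ_self_right] at h
  rw [h, Nat.cast_add, Nat.cast_one]

theorem Gpoly_eval_neg (s i : ℕ) (hi : i < s) : (Gpoly s).eval (-((i : ℚ) + 1)) = 0 := by
  rw [Gpoly_eval]
  exact Finset.prod_eq_zero (Finset.mem_range.2 hi) (by ring)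

theorem Gpoly_eval_neg_ne (s : ℕ) : (Gpoly s).eval (-((s : ℚ) + 1)) ≠ 0 := by
  rw [Gpoly_eval, Finset.prod_ne_zero_iff]
  intro j hj h
  have hj' : (j : ℚ) < (s : ℚ) := by exact_mod_cast Finset.mem_range.1 hj
  linarith

theorem fac_ne (s : ℕ) : (s.factorial : ℚ) ≠ 0 := Nat.cast_ne_zero.2 (Nat.factorial_ne_zero s)

/-- `binom(x+s, s)` -/
noncomputable def Ppoly (s : ℕ) : Polynomial ℚ :=
  Polynomial.C (1 / (s.factorial : ℚ)) * Gpoly s

theorem Ppoly_eval (s : ℕ) (x : ℚ) :
    (Ppoly s).eval x = (Gpoly s).eval x / (s.factorial : ℚ) := by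
  unfold Ppoly
  rw [eval_mul, eval_C, one_div, mul_comm, div_eq_mul_inv]

theorem Ppoly_eval_nat (s n : ℕ) : (Ppoly s).eval (n : ℚ) = ((n + s).choose s : ℚ) := by
  rw [Ppoly_eval, Gpoly_eval_nat, mul_div_cancel_left₀ _ (fac_ne s)]

theorem Ppoly_eval_neg (s i : ℕ) (hi : i < s) : (Ppoly s).eval (-((i : ℚ) + 1)) = 0 := by
  rw [Ppoly_eval, Gpoly_eval_neg s i hi, zero_div]

theorem Ppoly_eval_neg_ne (s : ℕ) : (Ppoly s).eval (-((s : ℚ) + 1)) ≠ 0 := by
  rw [Ppoly_eval]
  exact div_ne_zero (Gpoly_eval_neg_ne s) (fac_ne s)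

theorem Ppoly_natDegree_le (s : ℕ) : (Ppoly s).natDegree ≤ s :=
  (natDegree_C_mul_le _ _).trans (Gpoly_natDegree_le s)

theorem Ppoly_eval_zero (s : ℕ) : (Ppoly s).eval 0 = 1 := by
  rw [Ppoly_eval, Gpoly_eval_zero, div_self (fac_ne s)]

theorem Ppoly_eval_one (s : ℕ) : (Ppoly s).eval 1 = (s : ℚ) + 1 := by
  rw [Ppoly_eval, Gpoly_eval_one, mul_div_cancel_left₀ _ (fac_ne s)]

theorem eq_Ppoly (Q : Polynomial ℚ) (s : ℕ) (hdeg : Q.natDegree ≤ s) (hQ0 : Q.eval 0 = 1)
    (hQ : ∀ i : ℕ, i < s → Q.eval (-((i : ℚ) + 1)) = 0) : Q = Ppoly s := by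
  have hinj : Function.Injective (fun i : Fin (s + 1) => -((i : ℕ) : ℚ)) := by
    intro i j h
    have h' : ((i : ℕ) : ℚ) = ((j : ℕ) : ℚ) := neg_injective h
    exact Fin.ext (by exact_mod_cast h')
  refine eq_of_natDegree_lt_card_of_eval_eq Q (Ppoly s) hinj ?_ ?_
  · intro i
    obtain ⟨i, hi⟩ := i
    show Q.eval (-(i : ℚ)) = (Ppoly s).eval (-(i : ℚ))
    rcases Nat.eq_zero_or_pos i with rfl | hpos
    · rw [Nat.cast_zero, neg_zero, hQ0, Ppoly_eval_zero]
    · obtain ⟨j, rfl⟩ : ∃ j, i = j + 1 := ⟨i - 1, by omega⟩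
      have hj : j < s := by omega
      have e : -(((j + 1 : ℕ)) : ℚ) = -((j : ℚ) + 1) := by rw [Nat.cast_add, Nat.cast_one]
      rw [e, hQ j hj, Ppoly_eval_neg s j hj]
  · rw [Fintype.card_fin]
    exact max_lt (Nat.lt_succ_of_le hdeg) (Nat.lt_succ_of_le (Ppoly_natDegree_le s))

theorem iSup_eq_of (P : Polynomial ℚ) (F : ℤ → ℚ) (a : ℤ)
    (h1 : ∀ n : ℤ, a < n → P.eval (n : ℚ) = F n) (h2 : P.eval (a : ℚ) ≠ F a) :
    (⨆ (n : ℤ) (_ : P.eval (n : ℚ) ≠ F n), ((n : WithTop ℤ) : WithBot (WithTop ℤ))) =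
      ((a : WithTop ℤ) : WithBot (WithTop ℤ)) := by
  apply le_antisymm
  · refine iSup₂_le fun n hn => ?_
    have hna : n ≤ a := not_lt.1 fun h => hn (h1 n h)
    exact WithBot.coe_le_coe.2 (WithTop.coe_le_coe.2 hna)
  · exact le_iSup₂ (f := fun (n : ℤ) (_ : P.eval (n : ℚ) ≠ F n) =>
      ((n : WithTop ℤ) : WithBot (WithTop ℤ))) a h2

theorem eq_of_iSup_eq (P : Polynomial ℚ) (F : ℤ → ℚ) (a : ℤ)
    (h : (⨆ (n : ℤ) (_ : P.eval (n : ℚ) ≠ F n), ((n : WithTop ℤ) : WithBot (WithTop ℤ))) =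
      ((a : WithTop ℤ) : WithBot (WithTop ℤ))) (n : ℤ) (hn : a < n) : P.eval (n : ℚ) = F n := by
  by_contra hne
  have hle := le_iSup₂ (f := fun (n : ℤ) (_ : P.eval (n : ℚ) ≠ F n) =>
      ((n : WithTop ℤ) : WithBot (WithTop ℤ))) n hne
  rw [h] at hle
  have := WithTop.coe_le_coe.1 (WithBot.coe_le_coe.1 hle)
  omega

end poly

/-! ### the graded part -/

section graded

variable {R : Type u} [CommRing R] (𝒜 : ℤ → AddSubgroup R) [GradedRing 𝒜]
variable (hpos : ∀ n : ℤ, n < 0 → 𝒜 n = ⊥)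

include hpos in
theorem proj_one_mul (c a : R) (ha : a ∈ tail 𝒜 𝒜 hpos 1) :
    (decompose 𝒜 (c * a) 1 : R) = (decompose 𝒜 c 0 : R) * (decompose 𝒜 a 1 : R) := by
  classical
  have h1 := decompose_smul_eq_sum 𝒜 𝒜 c a 1
  rw [smul_eq_mul] at h1
  rw [h1, Finset.sum_eq_single (0 : ℤ)]
  · rw [sub_zero, smul_eq_mul]
  · intro l _ hl0
    by_cases hl : l < 0
    · have : (decompose 𝒜 c l : R) = 0 :=
        coe_eq_zero_of_bot 𝒜 (hpos l hl) _ (decompose 𝒜 c l).2
      rw [this, zero_smul]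
    · rw [ha (1 - l) (by omega), smul_zero]
  · intro h0
    rw [DFinsupp.mem_support_toFun, not_not] at h0
    rw [h0, ZeroMemClass.coe_zero, zero_smul]

include hpos in
theorem dim_mvPoly [IsNoetherianRing R] (h0 : IsField (deg0 𝒜)) (N : ℕ) :
    ringKrullDim (MvPolynomial (Fin N) (deg0 𝒜)) = N := by
  haveI := deg0_noetherian 𝒜 hpos
  rw [MvPolynomial.ringKrullDim_of_isNoetherianRing, ringKrullDim_eq_zero_of_isField h0,
    zero_add, Nat.card_eq_fintype_card, Fintype.card_fin]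

include hpos in
/-- regular ⟹ `dim_k R_1 ≤ dim R` -/
theorem HF_one_le_of_regular [IsRegularRing R] (h0 : IsField (deg0 𝒜)) (m : HomogeneousIdeal 𝒜)
    (hm : IsStarLocal 𝒜 m)
    (hmsp : m.toIdeal = Ideal.span (⋃ n ∈ Set.Ioi (0 : ℤ), (𝒜 n : Set R)))
    (r : ℕ) (hr : ringKrullDim R = r) : HF 𝒜 1 ≤ r := by
  classical
  haveI hmax : m.toIdeal.IsMaximal := isMaximal_of_starLocal 𝒜 hpos m hm
  haveI hprime : m.toIdeal.IsPrime := hmax.isPrime
  have hreg : IsRegularLocalRing (Localization.AtPrime m.toIdeal) :=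
    IsRegularRing.isRegularLocalRing_localization m.toIdeal
  haveI : IsNoetherianRing (Localization.AtPrime m.toIdeal) := hreg.toIsNoetherian
  have hdim : ringKrullDim (Localization.AtPrime m.toIdeal) = r := by
    rw [IsLocalization.AtPrime.ringKrullDim_eq_height m.toIdeal (Localization.AtPrime m.toIdeal),
      ← Groth.Agent.Lib.GorCanH1.ringKrullDim_eq_height 𝒜 hpos h0 m hm, hr]
  have hspan := hreg.spanFinrank_maximalIdeal
  rw [hdim] at hspan
  have hsr : (IsLocalRing.maximalIdeal (Localization.AtPrime m.toIdeal)).spanFinrank = r := by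
    exact_mod_cast hspan
  have hfg : (IsLocalRing.maximalIdeal (Localization.AtPrime m.toIdeal)).FG :=
    IsNoetherian.noetherian _
  obtain ⟨s, hscard, hsspan⟩ := Submodule.FG.exists_span_finset_card_eq_spanFinrank hfg
  have hnd : ∀ z : Localization.AtPrime m.toIdeal, ∃ (x : R) (y : m.toIdeal.primeCompl),
      IsLocalization.mk' (Localization.AtPrime m.toIdeal) x y = z :=
    fun z => IsLocalization.exists_mk'_eq m.toIdeal.primeCompl z
  choose num den hnd using hnd
  have hsmax : ∀ z ∈ s, z ∈ IsLocalRing.maximalIdeal (Localization.AtPrime m.toIdeal) := by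
    intro z hz
    rw [← hsspan]
    exact Submodule.subset_span (Finset.mem_coe.2 hz)
  have hnum : ∀ z ∈ s, num z ∈ m.toIdeal := by
    intro z hz
    have h1 := hsmax z hz
    rw [← hnd z] at h1
    exact (IsLocalization.AtPrime.mk'_mem_maximal_iff (Localization.AtPrime m.toIdeal) m.toIdeal
      (num z) (den z)).1 h1
  obtain ⟨A, hA⟩ : ∃ A : Finset R, A = s.image num := ⟨_, rfl⟩
  have hAm : ∀ a ∈ A, a ∈ m.toIdeal := by
    intro a ha
    rw [hA] at ha
    obtain ⟨z, hz, rfl⟩ := Finset.mem_image.1 ha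
    exact hnum z hz
  have hAtail : ∀ a ∈ A, a ∈ tail 𝒜 𝒜 hpos 1 := by
    intro a ha
    have h1 := hAm a ha
    rw [hmsp] at h1
    exact irr_le_tail 𝒜 hpos h1
  have hJ : ∀ z ∈ s, z ∈ Ideal.map (algebraMap R (Localization.AtPrime m.toIdeal))
      (Ideal.span (A : Set R)) := by
    intro z hz
    have h1 : z = algebraMap R (Localization.AtPrime m.toIdeal) (num z) *
        IsLocalization.mk' (Localization.AtPrime m.toIdeal) 1 (den z) := by
      rw [← IsLocalization.mk'_eq_mul_mk'_one]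
      exact (hnd z).symm
    rw [h1]
    refine Ideal.mul_mem_right _ _ (Ideal.mem_map_of_mem _ (Ideal.subset_span ?_))
    rw [hA]
    exact Finset.mem_coe.2 (Finset.mem_image_of_mem _ hz)
  have hle : IsLocalRing.maximalIdeal (Localization.AtPrime m.toIdeal) ≤
      Ideal.map (algebraMap R (Localization.AtPrime m.toIdeal)) (Ideal.span (A : Set R)) := by
    rw [← hsspan]
    exact Submodule.span_le.2 fun z hz => hJ z (Finset.mem_coe.1 hz)
  have hkey : ∀ b : R, b ∈ 𝒜 1 → b ∈ Submodule.span (deg0 𝒜)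
      ((A.image fun a => (decompose 𝒜 a 1 : R) : Finset R) : Set R) := by
    intro b hb
    have hbm : b ∈ m.toIdeal := by
      rw [hmsp]
      exact Ideal.subset_span (Set.mem_iUnion₂.2 ⟨1, Set.mem_Ioi.2 one_pos, hb⟩)
    have h2 : algebraMap R (Localization.AtPrime m.toIdeal) b ∈
        IsLocalRing.maximalIdeal (Localization.AtPrime m.toIdeal) :=
      (IsLocalization.AtPrime.to_map_mem_maximal_iff (Localization.AtPrime m.toIdeal)
        m.toIdeal b).2 hbm
    have h3 := hle h2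
    rw [IsLocalization.mem_map_algebraMap_iff m.toIdeal.primeCompl
      (Localization.AtPrime m.toIdeal)] at h3
    obtain ⟨⟨⟨a', ha'⟩, w⟩, h4⟩ := h3
    have h4' : algebraMap R (Localization.AtPrime m.toIdeal) (b * (w : R)) =
        algebraMap R (Localization.AtPrime m.toIdeal) a' := by
      rw [map_mul]
      exact h4
    obtain ⟨c, h5⟩ := (IsLocalization.eq_iff_exists m.toIdeal.primeCompl
      (Localization.AtPrime m.toIdeal)).1 h4'
    obtain ⟨u, hu⟩ : ∃ u : R, u = (c : R) * (w : R) := ⟨_, rfl⟩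
    have hunm : u ∉ m.toIdeal := by
      rw [hu]
      intro h
      rcases hprime.mem_or_mem h with h | h
      · exact (Ideal.mem_primeCompl_iff.1 c.2) h
      · exact (Ideal.mem_primeCompl_iff.1 w.2) h
    have hub : u * b ∈ Ideal.span (A : Set R) := by
      have e : u * b = (c : R) * a' := by
        rw [hu, ← h5]
        ring
      rw [e]
      exact Ideal.mul_mem_left _ _ ha'
    obtain ⟨g, -, hg⟩ := Submodule.mem_span_finset.1 hub
    have hdeg1 : ∑ a ∈ A, (decompose 𝒜 (g a) 0 : R) * (decompose 𝒜 a 1 : R) =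
        (decompose 𝒜 u 0 : R) * b := by
      have e1 : (decompose 𝒜 (∑ a ∈ A, g a • a) 1 : R) = (decompose 𝒜 (u * b) 1 : R) := by
        rw [hg]
      rw [Groth.Agent.Lib.GrLaurentH1.coe_decompose_sum,
        proj_one_mul 𝒜 hpos u b (gr_le_tail 𝒜 𝒜 hpos le_rfl hb),
        decompose_of_mem_same 𝒜 hb] at e1
      rw [← e1]
      refine Finset.sum_congr rfl fun a ha => ?_
      rw [smul_eq_mul, proj_one_mul 𝒜 hpos (g a) a (hAtail a ha)]
    have hu0 : (decompose 𝒜 u 0 : R) ≠ 0 := by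
      intro h
      have h1 := sub_decompose_zero_mem_irr 𝒜 hpos u
      rw [h, sub_zero, ← hmsp] at h1
      exact hunm h1
    obtain ⟨v, hv⟩ := h0.mul_inv_cancel
      (a := (⟨(decompose 𝒜 u 0 : R), (decompose 𝒜 u 0).2⟩ : deg0 𝒜))
      (fun h => hu0 (congrArg Subtype.val h))
    have hv' : (decompose 𝒜 u 0 : R) * (v : R) = 1 := congrArg (fun z : deg0 𝒜 => (z : R)) hv
    obtain ⟨T, hT⟩ : ∃ T : Submodule (deg0 𝒜) R, T = Submodule.span (deg0 𝒜)
      ((A.image fun a => (decompose 𝒜 a 1 : R) : Finset R) : Set R) := ⟨_, rfl⟩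
    rw [← hT]
    have hmem1 : ∀ a ∈ A, (decompose 𝒜 (g a) 0 : R) * (decompose 𝒜 a 1 : R) ∈ T := by
      intro a ha
      have h1 : (decompose 𝒜 a 1 : R) ∈ T := by
        rw [hT]
        exact Submodule.subset_span (Finset.mem_coe.2 (Finset.mem_image_of_mem _ ha))
      exact T.smul_mem (⟨(decompose 𝒜 (g a) 0 : R), (decompose 𝒜 (g a) 0).2⟩ : deg0 𝒜) h1
    have hmem2 : (decompose 𝒜 u 0 : R) * b ∈ T := by
      rw [← hdeg1]
      exact T.sum_mem hmem1
    have hmem3 := T.smul_mem v hmem2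
    have e3 : v • ((decompose 𝒜 u 0 : R) * b) = b := by
      show (v : R) * ((decompose 𝒜 u 0 : R) * b) = b
      rw [← mul_assoc, mul_comm (v : R), hv', one_mul]
    rwa [e3] at hmem3
  have hle2 : comp 𝒜 𝒜 1 ≤ Submodule.span (deg0 𝒜)
      ((A.image fun a => (decompose 𝒜 a 1 : R) : Finset R) : Set R) := fun b hb => hkey b hb
  letI : Field (deg0 𝒜) := h0.toField
  rw [HF_eq_finrank 𝒜 hpos h0]
  calc Module.finrank (deg0 𝒜) ↥(comp 𝒜 𝒜 1)
      ≤ Module.finrank (deg0 𝒜) ↥(Submodule.span (deg0 𝒜)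
          ((A.image fun a => (decompose 𝒜 a 1 : R) : Finset R) : Set R)) :=
        Submodule.finrank_mono hle2
    _ ≤ (A.image fun a => (decompose 𝒜 a 1 : R)).card := finrank_span_finset_le_card _
    _ ≤ A.card := Finset.card_image_le
    _ ≤ s.card := by rw [hA]; exact Finset.card_image_le
    _ = r := by rw [hscard, hsr]

end graded

end Groth.Agent.Lib.PolyIffH1
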