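import Mathlib
import Groth.Prelude.Def_GrLC
import Groth.Prelude.Def_GrLC2
import Groth.Prelude.Def_CAlg
import Groth.Prelude.Def_Wider
import Groth.Agent.Lib.PolyIff3_helper1

/-! `a(R) = -dim R` iff `R` is a polynomial ring: the main theorem (helper1, S18644). -/

set_option autoImplicit false

namespace Groth.Agent.Lib.PolyIffH1

open DirectSum GrLC Groth.Agent.Lib.GrStarH1 Groth.Agent.Lib.GrLES4H1
  Groth.Agent.Lib.GrHDecH1 Groth.Agent.Lib.GrHS3H1 Groth.Agent.Lib.AInvPolyH1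

attribute [local instance] MvPolynomial.gradedAlgebra

universe u

section main

variable (R : Type u) [CommRing R] [hCM : LocCoh.IsCohenMacaulayRing R]
  (𝒜 : ℤ → AddSubgroup R) [GradedRing 𝒜] (hpos : ∀ n : ℤ, n < 0 → 𝒜 n = ⊥)
  (h0 : IsField (GrLC.deg0 𝒜))

include hpos h0 hCM in
theorem nonempty_equiv {N : ℕ} (f : Fin N → R)
    (hsurj : Function.Surjective
      (MvPolynomial.aeval f : MvPolynomial (Fin N) (deg0 𝒜) →ₐ[deg0 𝒜] R))
    (hN : ringKrullDim R = N) : Nonempty (R ≃+* MvPolynomial (Fin N) (GrLC.deg0 𝒜)) := by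
  haveI : IsNoetherianRing R := hCM.toIsNoetherian
  have hinj := aeval_injective_of_dim 𝒜 hpos h0 f hsurj hN
  exact ⟨(RingEquiv.ofBijective
    ((MvPolynomial.aeval f : MvPolynomial (Fin N) (deg0 𝒜) →ₐ[deg0 𝒜] R) :
      MvPolynomial (Fin N) (deg0 𝒜) →+* R) ⟨hinj, hsurj⟩).symm⟩

include hpos h0 in
theorem numgens_eq_of_endDeg (m : HomogeneousIdeal 𝒜) (hm : GrLC.IsStarLocal 𝒜 m)
    (r : ℕ) (hr : ringKrullDim R = r) (I : GrLC.StarInjRes 𝒜 𝒜)
    (hend : GrLC.endDeg (I.Hgr m r) =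
      (((-(r : ℤ) : ℤ) : WithTop ℤ) : WithBot (WithTop ℤ)))
    {N : ℕ} (f : Fin N → R) (hN : N = HF 𝒜 1) (hf1 : ∀ i, f i ∈ 𝒜 1)
    (hsurj : Function.Surjective
      (MvPolynomial.aeval f : MvPolynomial (Fin N) (deg0 𝒜) →ₐ[deg0 𝒜] R)) : N = r := by
  classical
  haveI : IsNoetherianRing R := hCM.toIsNoetherian
  haveI : IsArtinianRing (deg0 𝒜) := by
    letI := h0.toField
    infer_instance
  obtain ⟨Q, ⟨n₀, hQ⟩, hQdeg⟩ := exists_hilbert_poly 𝒜 hpos h0 f hf1 hsurj r hr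
  have hP : ∃ N₀ : ℤ, ∀ n : ℤ, N₀ ≤ n → Q.eval (n : ℚ) =
      ((Module.length (GrLC.deg0 𝒜) (GrLC.comp 𝒜 𝒜 n)).toNat : ℚ) := by
    refine ⟨(n₀ : ℤ), fun n hn => ?_⟩
    obtain ⟨k, rfl⟩ := Int.eq_ofNat_of_zero_le (le_trans (Int.natCast_nonneg n₀) hn)
    have hk : n₀ ≤ k := by exact_mod_cast hn
    have h1 := hQ k hk
    rw [Int.cast_natCast]
    exact h1
  have hsup := Groth.Agent.Lib.GrHS4H1.main17772 R 𝒜 hpos m hm r hr I Q hP
  have hagree : ∀ n : ℤ, -(r : ℤ) < n → Q.eval (n : ℚ) = (HF 𝒜 n : ℚ) :=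
    eq_of_iSup_eq Q (fun n => (HF 𝒜 n : ℚ)) (-(r : ℤ)) (hsup.symm.trans hend)
  rcases Nat.eq_zero_or_pos r with hr0 | hr0
  · have hQ0 : Q = 0 := by
      by_contra hne
      have := hQdeg hne
      omega
    have h1 := hagree 1 (by omega)
    rw [hQ0, Polynomial.eval_zero] at h1
    have h2 : HF 𝒜 1 = 0 := by exact_mod_cast h1.symm
    omega
  · obtain ⟨s, rfl⟩ : ∃ s, r = s + 1 := ⟨r - 1, by omega⟩
    have hz := hagree 0 (by push_cast; omega)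
    rw [Int.cast_zero, HF_zero 𝒜 hpos h0, Nat.cast_one] at hz
    have hQne : Q ≠ 0 := by
      intro h
      rw [h, Polynomial.eval_zero] at hz
      exact zero_ne_one hz
    have hdeg : Q.natDegree ≤ s := by
      have := hQdeg hQne
      omega
    have hroots : ∀ i : ℕ, i < s → Q.eval (-((i : ℚ) + 1)) = 0 := by
      intro i hi
      have h1 := hagree (-((i : ℤ) + 1)) (by push_cast; omega)
      have hneg : HF 𝒜 (-((i : ℤ) + 1)) = 0 := HF_neg 𝒜 hpos (by omega)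
      rw [hneg, Nat.cast_zero] at h1
      have e : ((-((i : ℤ) + 1) : ℤ) : ℚ) = -((i : ℚ) + 1) := by
        rw [Int.cast_neg, Int.cast_add, Int.cast_natCast, Int.cast_one]
      rw [e] at h1
      exact h1
    have hQP := eq_Ppoly Q s hdeg hz hroots
    have h1 := hagree 1 (by push_cast; omega)
    rw [hQP, Int.cast_one, Ppoly_eval_one] at h1
    have h2 : ((s + 1 : ℕ) : ℚ) = (HF 𝒜 1 : ℚ) := by
      rw [← h1, Nat.cast_add, Nat.cast_one]
    have h3 : s + 1 = HF 𝒜 1 := by exact_mod_cast h2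
    omega

include hpos h0 hCM in
theorem numgens_eq_of_equiv (m : HomogeneousIdeal 𝒜) (hm : GrLC.IsStarLocal 𝒜 m)
    (hmsp : m.toIdeal = Ideal.span (⋃ n ∈ Set.Ioi (0 : ℤ), (𝒜 n : Set R)))
    (r : ℕ) (hr : ringKrullDim R = r)
    (e : R ≃+* MvPolynomial (Fin r) (GrLC.deg0 𝒜))
    {N : ℕ} (f : Fin N → R) (hN : N = HF 𝒜 1)
    (hsurj : Function.Surjective
      (MvPolynomial.aeval f : MvPolynomial (Fin N) (deg0 𝒜) →ₐ[deg0 𝒜] R)) : N = r := by
  classical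
  haveI : IsNoetherianRing R := hCM.toIsNoetherian
  haveI hregP : IsRegularRing (MvPolynomial (Fin r) (deg0 𝒜)) := by
    letI := h0.toField
    infer_instance
  haveI : IsRegularRing R := IsRegularRing.of_ringEquiv e.symm
  have hle1 : N ≤ r := by
    rw [hN]
    exact HF_one_le_of_regular 𝒜 hpos h0 m hm hmsp r hr
  have hdimP : ringKrullDim (MvPolynomial (Fin N) (deg0 𝒜)) = N := dim_mvPoly 𝒜 hpos h0 N
  have hle2 : r ≤ N := by
    have h1 := ringKrullDim_le_of_surjective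
      ((MvPolynomial.aeval f : MvPolynomial (Fin N) (deg0 𝒜) →ₐ[deg0 𝒜] R) :
        MvPolynomial (Fin N) (deg0 𝒜) →+* R) hsurj
    rw [hr, hdimP] at h1
    exact_mod_cast h1
  exact le_antisymm hle1 hle2

include hpos h0 in
theorem endDeg_eq_of_presentation (m : HomogeneousIdeal 𝒜) (hm : GrLC.IsStarLocal 𝒜 m)
    {N : ℕ} (f : Fin N → R) (hf1 : ∀ i, f i ∈ 𝒜 1)
    (hsurj : Function.Surjective
      (MvPolynomial.aeval f : MvPolynomial (Fin N) (deg0 𝒜) →ₐ[deg0 𝒜] R))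
    (hr : ringKrullDim R = N) (I : GrLC.StarInjRes 𝒜 𝒜) :
    GrLC.endDeg (I.Hgr m N) = (((-(N : ℤ) : ℤ) : WithTop ℤ) : WithBot (WithTop ℤ)) := by
  classical
  haveI : IsNoetherianRing R := hCM.toIsNoetherian
  haveI : IsArtinianRing (deg0 𝒜) := by
    letI := h0.toField
    infer_instance
  have hinj := aeval_injective_of_dim 𝒜 hpos h0 f hsurj hr
  have hHF : ∀ n : ℕ, HF 𝒜 (n : ℤ) = (N + n - 1).choose n := by
    intro n
    have h1 := finrank_homog_eq 𝒜 hpos h0 f hf1 hsurj n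
    have hker : RingHom.ker
        (MvPolynomial.aeval f : MvPolynomial (Fin N) (deg0 𝒜) →ₐ[deg0 𝒜] R) = ⊥ :=
      (RingHom.injective_iff_ker_eq_bot _).1 hinj
    have h2 : Module.finrank (deg0 𝒜)
        ↥(MvPolynomial.homogeneousSubmodule (Fin N) (deg0 𝒜) n) =
        (Fintype.card (Fin N) + n - 1).choose n := by
      letI := h0.toField
      exact finrank_homogeneousSubmodule (Fin N) (deg0 𝒜) n
    rw [Fintype.card_fin] at h2
    letI := h0.toField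
    rw [hker, Submodule.restrictScalars_bot, bot_inf_eq, finrank_bot, add_zero] at h1
    rw [← h1, h2]
  rcases Nat.eq_zero_or_pos N with hN0 | hN0
  · subst hN0
    have hHFpos : ∀ n : ℤ, 0 < n → HF 𝒜 n = 0 := by
      intro n hn
      obtain ⟨k, rfl⟩ := Int.eq_ofNat_of_zero_le hn.le
      have hk : 0 < k := by exact_mod_cast hn
      rw [hHF k]
      exact Nat.choose_eq_zero_of_lt (by omega)
    have hP : ∃ N₀ : ℤ, ∀ n : ℤ, N₀ ≤ n → (0 : Polynomial ℚ).eval (n : ℚ) =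
        ((Module.length (GrLC.deg0 𝒜) (GrLC.comp 𝒜 𝒜 n)).toNat : ℚ) := by
      refine ⟨1, fun n hn => ?_⟩
      have h1 := hHFpos n (by omega)
      rw [Polynomial.eval_zero]
      show (0 : ℚ) = (HF 𝒜 n : ℚ)
      rw [h1, Nat.cast_zero]
    rw [Groth.Agent.Lib.GrHS4H1.main17772 R 𝒜 hpos m hm 0 hr I 0 hP]
    refine iSup_eq_of 0 (fun n => (HF 𝒜 n : ℚ)) (-((0 : ℕ) : ℤ)) ?_ ?_
    · intro n hn
      have hn' : 0 < n := by simpa using hn
      show (0 : Polynomial ℚ).eval (n : ℚ) = (HF 𝒜 n : ℚ)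
      rw [Polynomial.eval_zero, hHFpos n hn', Nat.cast_zero]
    · have h1 : HF 𝒜 (-((0 : ℕ) : ℤ)) = 1 := by
        rw [Nat.cast_zero, neg_zero]
        exact HF_zero 𝒜 hpos h0
      show (0 : Polynomial ℚ).eval ((-((0 : ℕ) : ℤ) : ℤ) : ℚ) ≠ (HF 𝒜 (-((0 : ℕ) : ℤ)) : ℚ)
      rw [Polynomial.eval_zero, h1, Nat.cast_one]
      exact zero_ne_one
  · obtain ⟨s, rfl⟩ : ∃ s, N = s + 1 := ⟨N - 1, by omega⟩
    have hHFnat : ∀ k : ℕ, HF 𝒜 (k : ℤ) = (k + s).choose s := by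
      intro k
      rw [hHF k]
      have e : s + 1 + k - 1 = k + s := by omega
      rw [e, Nat.choose_symm_add]
    have hP : ∃ N₀ : ℤ, ∀ n : ℤ, N₀ ≤ n → (Ppoly s).eval (n : ℚ) =
        ((Module.length (GrLC.deg0 𝒜) (GrLC.comp 𝒜 𝒜 n)).toNat : ℚ) := by
      refine ⟨0, fun n hn => ?_⟩
      obtain ⟨k, rfl⟩ := Int.eq_ofNat_of_zero_le hn
      show (Ppoly s).eval (((k : ℤ)) : ℚ) = (HF 𝒜 (k : ℤ) : ℚ)
      rw [Int.cast_natCast, Ppoly_eval_nat, hHFnat]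
    rw [Groth.Agent.Lib.GrHS4H1.main17772 R 𝒜 hpos m hm (s + 1) hr I (Ppoly s) hP]
    refine iSup_eq_of (Ppoly s) (fun n => (HF 𝒜 n : ℚ)) (-((s + 1 : ℕ) : ℤ)) ?_ ?_
    · intro n hn
      show (Ppoly s).eval (n : ℚ) = (HF 𝒜 n : ℚ)
      rcases lt_or_ge n 0 with hneg | hnn
      · obtain ⟨i, hi⟩ : ∃ i : ℕ, n = -((i : ℤ) + 1) := ⟨(-n - 1).toNat, by omega⟩
        have his : i < s := by
          push_cast at hn
          omega
        rw [HF_neg 𝒜 hpos hneg, Nat.cast_zero, hi]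
        have e : ((-((i : ℤ) + 1) : ℤ) : ℚ) = -((i : ℚ) + 1) := by
          rw [Int.cast_neg, Int.cast_add, Int.cast_natCast, Int.cast_one]
        rw [e, Ppoly_eval_neg s i his]
      · obtain ⟨k, rfl⟩ := Int.eq_ofNat_of_zero_le hnn
        rw [Int.cast_natCast, Ppoly_eval_nat, hHFnat]
    · show (Ppoly s).eval ((-((s + 1 : ℕ) : ℤ) : ℤ) : ℚ) ≠ (HF 𝒜 (-((s + 1 : ℕ) : ℤ)) : ℚ)
      have hneg : HF 𝒜 (-((s + 1 : ℕ) : ℤ)) = 0 := HF_neg 𝒜 hpos (by push_cast; omega)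
      have e : ((-((s + 1 : ℕ) : ℤ) : ℤ) : ℚ) = -((s : ℚ) + 1) := by
        rw [Int.cast_neg, Int.cast_natCast, Nat.cast_add, Nat.cast_one]
      rw [hneg, Nat.cast_zero, e]
      exact Ppoly_eval_neg_ne s

end main

theorem main18644 (R : Type u) [CommRing R] [hCM : LocCoh.IsCohenMacaulayRing R]
    (𝒜 : ℤ → AddSubgroup R) [GradedRing 𝒜] (hpos : ∀ n : ℤ, n < 0 → 𝒜 n = ⊥)
    (h0 : IsField (GrLC.deg0 𝒜)) (m : HomogeneousIdeal 𝒜) (hm : GrLC.IsStarLocal 𝒜 m)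
    (hmsp : m.toIdeal = Ideal.span (⋃ n ∈ Set.Ioi (0 : ℤ), (𝒜 n : Set R)))
    (hstd : Ideal.span (⋃ n ∈ Set.Ioi (0 : ℤ), (𝒜 n : Set R)) =
      Ideal.span ((𝒜 1 : AddSubgroup R) : Set R)) (r : ℕ) (hr : ringKrullDim R = r)
    (I : GrLC.StarInjRes 𝒜 𝒜) :
    GrLC.endDeg (I.Hgr m r) = (((-(r : ℤ) : ℤ) : WithTop ℤ) : WithBot (WithTop ℤ)) ↔
      Nonempty (R ≃+* MvPolynomial (Fin r) (GrLC.deg0 𝒜)) := by
  haveI : IsNoetherianRing R := hCM.toIsNoetherian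
  obtain ⟨N, f, hN, hf1, hsurj⟩ := exists_presentation 𝒜 hpos h0 hstd
  constructor
  · intro hend
    have hNr : N = r := numgens_eq_of_endDeg R 𝒜 hpos h0 m hm r hr I hend f hN hf1 hsurj
    subst hNr
    exact nonempty_equiv R 𝒜 hpos h0 f hsurj hr
  · rintro ⟨e⟩
    have hNr : N = r := numgens_eq_of_equiv R 𝒜 hpos h0 m hm hmsp r hr e f hN hsurj
    subst hNr
    exact endDeg_eq_of_presentation R 𝒜 hpos h0 m hm f hf1 hsurj hr I

end Groth.Agent.Lib.PolyIffH1
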