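import Mathlib

set_option autoImplicit false
open Polynomial

namespace Groth.Agent.PolyLift9

variable {R : Type*} [CommRing R] (r : R) {S : Type*} [CommRing S] [Algebra R S]
  [IsLocalization.Away r S]

/-- clearing denominators of a polynomial -/
theorem exists_lift_mul (q : S[X]) : ∃ (e : ℕ) (Q : R[X]),
    Q.map (algebraMap R S) = C (algebraMap R S (r ^ e)) * q := by
  obtain ⟨⟨b, e, rfl⟩, hb⟩ := IsLocalization.integerNormalization_map_to_map (Submonoid.powers r) q
  refine ⟨e, IsLocalization.integerNormalization (Submonoid.powers r) q, ?_⟩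
  rw [hb]
  simp only
  rw [← algebraMap_smul S (r ^ e) q, Polynomial.smul_eq_C_mul]

theorem C_mul_X_comp (a b : S) : (C a * X : S[X]).comp (C b * X) = C (a * b) * X := by
  rw [mul_comp, C_comp, X_comp, ← mul_assoc, ← C_mul]

include r in
/-- lifting `p(r^n T)` with prescribed constant term -/
theorem exists_lift_comp (p : S[X]) (a : R) (ha : p.eval 0 = algebraMap R S a) :
    ∃ N : ℕ, ∀ n, N ≤ n → ∃ P : R[X],
      P.map (algebraMap R S) = p.comp (C (algebraMap R S (r ^ n)) * X) ∧ P.eval 0 = a := by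
  obtain ⟨e, Q, hQ⟩ := exists_lift_mul r p.divX
  refine ⟨e, fun n hn => ?_⟩
  have hp : p = p.divX * X + C (algebraMap R S a) := by
    rw [← ha, ← coeff_zero_eq_eval_zero, divX_mul_X_add]
  set ρ := algebraMap R S r with hρ
  have hpow : ∀ k, algebraMap R S (r ^ k) = ρ ^ k := fun k => by rw [map_pow]
  let Pe : R[X] := C a + X * Q.comp (C (r ^ e) * X)
  have hPe : Pe.map (algebraMap R S) = p.comp (C (ρ ^ e) * X) := by
    conv_rhs => rw [hp]
    simp only [Pe, Polynomial.map_add, Polynomial.map_mul, map_C, map_X, Polynomial.map_comp, hQ,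
      add_comp, mul_comp, C_comp, X_comp, hpow]
    ring
  refine ⟨Pe.comp (C (r ^ (n - e)) * X), ?_, ?_⟩
  · rw [Polynomial.map_comp, hPe, Polynomial.map_mul, map_C, map_X, hpow, hpow, comp_assoc,
      C_mul_X_comp, ← pow_add, Nat.add_sub_cancel' hn]
  · rw [eval_comp]
    simp [Pe]

include r in
theorem exists_lift_comp_fin {k : ℕ} (p : Fin k → S[X]) (a : Fin k → R)
    (ha : ∀ i, (p i).eval 0 = algebraMap R S (a i)) :
    ∃ N : ℕ, ∀ n, N ≤ n → ∃ P : Fin k → R[X], ∀ i,
      (P i).map (algebraMap R S) = (p i).comp (C (algebraMap R S (r ^ n)) * X) ∧ (P i).eval 0 = a i := by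
  choose N hN using fun i => exists_lift_comp r (p i) (a i) (ha i)
  refine ⟨∑ i, N i, fun n hn => ?_⟩
  have : ∀ i, N i ≤ n := fun i =>
    (Finset.single_le_sum (fun _ _ => Nat.zero_le _) (Finset.mem_univ i)).trans hn
  choose P hP using fun i => hN i n (this i)
  exact ⟨P, hP⟩

include r in
/-- uniform torsion exponent -/
theorem exists_pow_mul_eq_zero (T : Finset R) (hT : ∀ c ∈ T, algebraMap R S c = 0) :
    ∃ e : ℕ, ∀ c ∈ T, r ^ e * c = 0 := by
  classical
  induction T using Finset.induction_on with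
  | empty => exact ⟨0, fun c hc => by simp at hc⟩
  | insert c T hcT ih =>
    obtain ⟨e, he⟩ := ih (fun c' hc' => hT c' (Finset.mem_insert_of_mem hc'))
    have hc0 := hT c (Finset.mem_insert_self c T)
    rw [IsLocalization.map_eq_zero_iff (Submonoid.powers r) S] at hc0
    obtain ⟨⟨_, e', rfl⟩, he'⟩ := hc0
    refine ⟨e + e', fun c' hc' => ?_⟩
    rcases Finset.mem_insert.1 hc' with rfl | hc'
    · rw [pow_add, mul_assoc]
      simp only at he'
      rw [he', mul_zero]
    · rw [pow_add, mul_comm (r ^ e), mul_assoc, he c' hc', mul_zero]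

end Groth.Agent.PolyLift9
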