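import Mathlib
import Groth.Agent.Lib.PolyLift1_helper9

set_option autoImplicit false
universe u v
open Polynomial

namespace Groth.Agent.PolyLift9

theorem main (R : Type u) (B : Type v) [CommRing R] [CommRing B] [Algebra R B]
    [Algebra.FinitePresentation R B] (r : R)
    (x : B →ₐ[R] Polynomial (Localization.Away r))
    (x₀ : B →ₐ[R] R)
    (hx₀ : (algebraMap R (Localization.Away r)).comp x₀.toRingHom =
      (Polynomial.evalRingHom 0).comp x.toRingHom) :
    ∃ N : ℕ, ∀ n : ℕ, N ≤ n →
      ∃ y : B →ₐ[R] Polynomial R,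
        (Polynomial.evalRingHom 0).comp y.toRingHom = x₀.toRingHom ∧
        (Polynomial.mapRingHom (algebraMap R (Localization.Away r))).comp y.toRingHom =
          (Polynomial.aeval (Polynomial.C (algebraMap R (Localization.Away r) (r ^ n)) * Polynomial.X) :
              Polynomial (Localization.Away r) →ₐ[Localization.Away r] Polynomial (Localization.Away r)).toRingHom.comp
            x.toRingHom := by
  classical
  set S := Localization.Away r with hS
  obtain ⟨k, f, hf, hfg⟩ := Algebra.FinitePresentation.out (R := R) (A := B)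
  obtain ⟨s, hs⟩ := hfg
  set ρ := algebraMap R S r with hρ
  have hpow : ∀ k, algebraMap R S (r ^ k) = ρ ^ k := fun k => by rw [map_pow]
  -- the data
  have ha : ∀ i, (x (f (MvPolynomial.X i))).eval 0 = algebraMap R S (x₀ (f (MvPolynomial.X i))) := by
    intro i
    have := RingHom.congr_fun hx₀ (f (MvPolynomial.X i))
    simpa using this.symm
  obtain ⟨N₀, hN₀⟩ := exists_lift_comp_fin r (fun i => x (f (MvPolynomial.X i)))
    (fun i => x₀ (f (MvPolynomial.X i))) ha
  obtain ⟨P, hP⟩ := hN₀ N₀ le_rfl
  let φ₀ : MvPolynomial (Fin k) R →ₐ[R] R[X] := MvPolynomial.aeval P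
  -- F1
  have hF1 : ∀ F, (φ₀ F).map (algebraMap R S) = (x (f F)).comp (C (ρ ^ N₀) * X) := by
    have : (Polynomial.mapRingHom (algebraMap R S)).comp φ₀.toRingHom =
        ((Polynomial.aeval (C (ρ ^ N₀) * X) : S[X] →ₐ[S] S[X]).toRingHom.comp
          x.toRingHom).comp f.toRingHom := by
      apply MvPolynomial.ringHom_ext
      · intro c
        simp only [RingHom.comp_apply, AlgHom.toRingHom_eq_coe, RingHom.coe_coe,
          MvPolynomial.algHom_C, AlgHom.commutes, Polynomial.algebraMap_apply, coe_mapRingHom,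
          map_C, aeval_C]
        rfl
      · intro i
        simp only [RingHom.comp_apply, AlgHom.toRingHom_eq_coe, RingHom.coe_coe, coe_mapRingHom]
        simp only [φ₀, MvPolynomial.aeval_X]
        rw [(hP i).1, hpow, ← comp_eq_aeval]
    intro F
    have := RingHom.congr_fun this F
    simpa [← comp_eq_aeval] using this
  -- F2
  have hF2 : ∀ F, (φ₀ F).eval 0 = x₀ (f F) := by
    have : (Polynomial.evalRingHom 0).comp φ₀.toRingHom = x₀.toRingHom.comp f.toRingHom := by
      apply MvPolynomial.ringHom_ext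
      · intro c
        simp [φ₀]
      · intro i
        simp only [RingHom.comp_apply, AlgHom.toRingHom_eq_coe, RingHom.coe_coe, coe_evalRingHom]
        simp only [φ₀, MvPolynomial.aeval_X]
        exact (hP i).2
    intro F
    exact RingHom.congr_fun this F
  have hsker : ∀ F ∈ s, f F = 0 := by
    intro F hF
    have : F ∈ RingHom.ker f.toRingHom := by rw [← hs]; exact Ideal.subset_span hF
    exact this
  -- torsion exponent
  obtain ⟨e₀, he₀⟩ := exists_pow_mul_eq_zero (S := S) r (s.biUnion fun F => (φ₀ F).coeffs) (by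
    intro c hc
    obtain ⟨F, hF, hcF⟩ := Finset.mem_biUnion.1 hc
    obtain ⟨j, -, rfl⟩ := Polynomial.mem_coeffs_iff.1 hcF
    have := hF1 F
    rw [hsker F hF, map_zero, zero_comp] at this
    have h2 := congrArg (fun q => q.coeff j) this
    simpa using h2)
  have he₀' : ∀ F ∈ s, ∀ j, r ^ e₀ * (φ₀ F).coeff j = 0 := by
    intro F hF j
    by_cases h0 : (φ₀ F).coeff j = 0
    · rw [h0, mul_zero]
    · exact he₀ _ (Finset.mem_biUnion.2 ⟨F, hF, Polynomial.coeff_mem_coeffs h0⟩)
  refine ⟨N₀ + e₀, fun n hn => ?_⟩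
  set d := n - N₀ with hd
  have hde : e₀ ≤ d := by omega
  have hnd : N₀ + d = n := by omega
  let φ : MvPolynomial (Fin k) R →ₐ[R] R[X] := MvPolynomial.aeval fun i => (P i).comp (C (r ^ d) * X)
  have hF3 : ∀ F, φ F = (φ₀ F).comp (C (r ^ d) * X) := by
    have : φ.toRingHom = ((Polynomial.aeval (C (r ^ d) * X) : R[X] →ₐ[R] R[X]).toRingHom).comp
        φ₀.toRingHom := by
      apply MvPolynomial.ringHom_ext
      · intro c
        simp [φ, φ₀]
      · intro i
        simp [φ, φ₀, ← comp_eq_aeval]
    intro F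
    have := RingHom.congr_fun this F
    simpa [← comp_eq_aeval] using this
  have hφs : ∀ F ∈ s, φ F = 0 := by
    intro F hF
    rw [hF3]
    ext j
    rw [comp_C_mul_X_coeff, coeff_zero]
    rcases Nat.eq_zero_or_pos j with rfl | hj
    · rw [coeff_zero_eq_eval_zero, hF2, hsker F hF, map_zero, zero_mul]
    · have : (r ^ d) ^ j = r ^ e₀ * r ^ (d * j - e₀) := by
        rw [← pow_mul, ← pow_add]
        congr 1
        have : e₀ ≤ d * j := hde.trans (Nat.le_mul_of_pos_right d hj)
        omega
      rw [this, ← mul_assoc, mul_comm ((φ₀ F).coeff j), he₀' F hF j, zero_mul]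
  have hφker : ∀ F ∈ RingHom.ker f, φ F = 0 := by
    intro F hF
    have hF' : F ∈ RingHom.ker f.toRingHom := hF
    rw [← hs] at hF'
    have hle : Ideal.span (s : Set (MvPolynomial (Fin k) R)) ≤ RingHom.ker φ.toRingHom := by
      rw [Ideal.span_le]
      intro G hG
      exact hφs G hG
    exact hle hF'
  let y : B →ₐ[R] R[X] :=
    (Ideal.Quotient.liftₐ (RingHom.ker f) φ hφker).comp
      (Ideal.quotientKerAlgEquivOfSurjective hf).symm.toAlgHom
  have hy : ∀ F, y (f F) = φ F := by
    intro F
    have : (Ideal.quotientKerAlgEquivOfSurjective hf).symm (f F) = Ideal.Quotient.mk _ F := by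
      rw [AlgEquiv.symm_apply_eq]
      rfl
    change (Ideal.Quotient.liftₐ (RingHom.ker f) φ hφker)
      ((Ideal.quotientKerAlgEquivOfSurjective hf).symm (f F)) = φ F
    rw [this]
    rfl
  refine ⟨y, ?_, ?_⟩
  · apply RingHom.ext
    intro b
    obtain ⟨F, rfl⟩ := hf b
    simp only [RingHom.comp_apply, AlgHom.toRingHom_eq_coe, RingHom.coe_coe, coe_evalRingHom]
    rw [hy, hF3, eval_comp]
    simp [hF2]
  · apply RingHom.ext
    intro b
    obtain ⟨F, rfl⟩ := hf b
    simp only [RingHom.comp_apply, AlgHom.toRingHom_eq_coe, RingHom.coe_coe, coe_mapRingHom]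
    rw [hy, hF3, Polynomial.map_comp, hF1, Polynomial.map_mul, map_C, map_X, hpow, comp_assoc,
      C_mul_X_comp, ← pow_add, hnd, hpow, ← comp_eq_aeval]

end Groth.Agent.PolyLift9
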