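import Mathlib
import Groth.Prelude.Def_W4sga6xxiiiPolyMap

set_option autoImplicit false
universe u

namespace Groth.Agent.Lib.PolyMapConst

open Polynomial

theorem int_eq_zero_of_forall_pow_dvd (p : ℕ) (hp : 2 ≤ p) (x : ℤ)
    (h : ∀ k : ℕ, (p : ℤ) ^ k ∣ x) : x = 0 := by
  by_contra hx
  have h1 := h x.natAbs
  have h2 : (p : ℤ) ^ x.natAbs ≤ |x| := Int.le_of_dvd (abs_pos.mpr hx) ((dvd_abs _ _).mpr h1)
  have h3 : ((x.natAbs : ℕ) : ℤ) < (p : ℤ) ^ x.natAbs := by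
    exact_mod_cast Nat.lt_pow_self (n := x.natAbs) (by omega : 1 < p)
  rw [Int.abs_eq_natAbs] at h2
  linarith

theorem leadingCoeff_mul_factorial_int (P : ℚ[X]) (hP : ∀ n : ℤ, ∃ z : ℤ, P.eval (n : ℚ) = z) :
    ∃ w : ℤ, P.leadingCoeff * (P.natDegree.factorial : ℚ) = w := by
  have h1 := congrFun (Polynomial.fwdDiff_iter_degree_eq_factorial P) 0
  rw [fwdDiff_iter_eq_sum_shift] at h1
  choose z hz using hP
  refine ⟨∑ k ∈ Finset.range (P.natDegree + 1),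
    ((-1 : ℤ) ^ (P.natDegree - k) * P.natDegree.choose k) * z k, ?_⟩
  have h2 : (P.leadingCoeff • (P.natDegree.factorial : ℚ → ℚ)) 0 =
      P.leadingCoeff * (P.natDegree.factorial : ℚ) := by
    simp
  rw [← h2, ← h1]
  push_cast
  apply Finset.sum_congr rfl
  intro k _
  have h3 : ((0 : ℚ) + k • (1 : ℚ)) = ((k : ℤ) : ℚ) := by simp
  rw [h3, hz, zsmul_eq_mul]
  push_cast
  ring

theorem exists_poly {G : Type u} [AddCommGroup G] (f : G → ℚ) (hf : W4sga6xxiii.IsPolyMap f)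
    (x : G) : ∃ P : ℚ[X], ∀ n : ℤ, f (n • x) = P.eval (n : ℚ) := by
  obtain ⟨m, y, -, hy⟩ := hf 1 (fun _ => x)
  refine ⟨∑ k : Fin 1 → Fin (m + 1),
    C (y k / (((k 0 : Fin (m + 1)) : ℕ).factorial : ℚ)) *
      descPochhammer ℚ ((k 0 : Fin (m + 1)) : ℕ), ?_⟩
  intro n
  have h1 := hy (fun _ => n)
  have h0 : (∑ i : Fin 1, (fun _ : Fin 1 => n) i • (fun _ : Fin 1 => x) i) = n • x := by simp
  rw [h0] at h1
  rw [h1, Polynomial.eval_finset_sum]
  apply Finset.sum_congr rfl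
  intro k _
  rw [Fin.prod_univ_one, eval_mul, eval_C, ← descPochhammer_eval_cast, Polynomial.eval_eq_smeval,
    Ring.descPochhammer_eq_factorial_smul_choose, zsmul_eq_mul]
  have hfac : (((k 0 : Fin (m + 1)) : ℕ).factorial : ℚ) ≠ 0 :=
    Nat.cast_ne_zero.mpr (Nat.factorial_ne_zero _)
  rw [nsmul_eq_mul]
  push_cast
  field_simp

theorem const_of_mem {G : Type u} [AddCommGroup G] (G' : AddSubgroup G)
    (p : ℕ) (hp : p.Prime) (hdiv : ∀ x ∈ G', ∃ y ∈ G', p • y = x)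
    (f : G → ℚ) (hf : W4sga6xxiii.IsPolyMap f) (hint : ∀ x, ∃ z : ℤ, f x = z)
    (z : G) (hz : z ∈ G') (P : ℚ[X]) (hP : ∀ n : ℤ, f (n • z) = P.eval (n : ℚ)) :
    P.natDegree = 0 := by
  by_contra hd
  have hroots : ∀ j : ℕ, ∃ zj ∈ G', (p ^ j) • zj = z := by
    intro j
    induction j with
    | zero => exact ⟨z, hz, by simp⟩
    | succ j ih =>
      obtain ⟨zj, hzj, hj⟩ := ih
      obtain ⟨w, hw, hpw⟩ := hdiv zj hzj
      exact ⟨w, hw, by rw [pow_succ, mul_smul, hpw, hj]⟩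
  have hPint : ∀ n : ℤ, ∃ w : ℤ, P.eval (n : ℚ) = w := fun n => by
    rw [← hP]; exact hint _
  obtain ⟨w, hw⟩ := leadingCoeff_mul_factorial_int P hPint
  have hlc : P.leadingCoeff ≠ 0 := by
    rw [Ne, leadingCoeff_eq_zero]
    rintro rfl
    exact hd natDegree_zero
  have hw0 : w ≠ 0 := by
    intro h0
    rw [h0, Int.cast_zero] at hw
    rcases mul_eq_zero.mp hw with h | h
    · exact hlc h
    · exact (Nat.cast_ne_zero.mpr (Nat.factorial_ne_zero _)) h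
  apply hw0
  apply int_eq_zero_of_forall_pow_dvd p hp.two_le
  intro j
  obtain ⟨zj, hzj, hj⟩ := hroots j
  obtain ⟨Pj, hPj⟩ := exists_poly f hf zj
  have hc0 : ((p : ℚ) ^ j) ≠ 0 := pow_ne_zero _ (Nat.cast_ne_zero.mpr hp.ne_zero)
  have hcomp : P = Pj.comp (C ((p : ℚ) ^ j) * X) := by
    apply Polynomial.eq_of_infinite_eval_eq
    apply Set.Infinite.mono _ (Set.infinite_range_of_injective (Int.cast_injective (α := ℚ)))
    rintro _ ⟨n, rfl⟩
    show eval (n : ℚ) P = eval (n : ℚ) (Pj.comp (C ((p : ℚ) ^ j) * X))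
    rw [eval_comp, eval_mul, eval_C, eval_X, ← hP n]
    have h5 : n • z = (n * (p : ℤ) ^ j) • zj := by
      rw [mul_smul, ← hj]
      congr 1
      rw [← natCast_zsmul]
      push_cast
      rfl
    rw [h5, hPj]
    push_cast
    ring_nf
  have hq1 : (C ((p : ℚ) ^ j) * X : ℚ[X]).natDegree = 1 := natDegree_C_mul_X _ hc0
  have hdeg : P.natDegree = Pj.natDegree := by
    rw [hcomp, natDegree_comp, hq1, mul_one]
  have hlead : P.leadingCoeff = Pj.leadingCoeff * ((p : ℚ) ^ j) ^ Pj.natDegree := by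
    conv_lhs => rw [hcomp]
    rw [leadingCoeff_comp (by rw [hq1]; exact one_ne_zero), leadingCoeff_C_mul_X]
  have hPjint : ∀ n : ℤ, ∃ w : ℤ, Pj.eval (n : ℚ) = w := fun n => by
    rw [← hPj]; exact hint _
  obtain ⟨wj, hwj⟩ := leadingCoeff_mul_factorial_int Pj hPjint
  have hrel : (w : ℚ) = (wj : ℚ) * ((p : ℚ) ^ j) ^ Pj.natDegree := by
    rw [← hw, ← hwj, hlead, hdeg]; ring
  have hd1 : 1 ≤ Pj.natDegree := by
    rw [← hdeg]; exact Nat.one_le_iff_ne_zero.mpr hd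
  obtain ⟨t, ht⟩ : ∃ t, Pj.natDegree = t + 1 := ⟨Pj.natDegree - 1, by omega⟩
  refine ⟨wj * ((p : ℤ) ^ j) ^ t, ?_⟩
  have hrel' : (w : ℚ) = (((p : ℤ) ^ j * (wj * ((p : ℤ) ^ j) ^ t) : ℤ) : ℚ) := by
    rw [hrel, ht]; push_cast; ring
  exact_mod_cast hrel'

theorem main {G : Type u} [AddCommGroup G] (G' : AddSubgroup G)
    (p : ℕ) (hp : p.Prime) (hdiv : ∀ x ∈ G', ∃ y ∈ G', p • y = x)
    (htor : ∀ x : G, ∃ n : ℤ, n ≠ 0 ∧ n • x ∈ G')
    (f : G → ℚ) (hf : W4sga6xxiii.IsPolyMap f) (hint : ∀ x, ∃ z : ℤ, f x = z) (x : G) :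
    f x = f 0 := by
  obtain ⟨N, hN0, hNx⟩ := htor x
  obtain ⟨Px, hPx⟩ := exists_poly f hf x
  obtain ⟨Pz, hPz⟩ := exists_poly f hf (N • x)
  have hz0 := const_of_mem G' p hp hdiv f hf hint (N • x) hNx Pz hPz
  have hPzC : Pz = C (Pz.coeff 0) := eq_C_of_natDegree_eq_zero hz0
  have hNq : (C (N : ℚ) * X : ℚ[X]).natDegree = 1 :=
    natDegree_C_mul_X _ (Int.cast_ne_zero.mpr hN0)
  have hcomp : Px.comp (C (N : ℚ) * X) = C (Pz.coeff 0) := by
    apply Polynomial.eq_of_infinite_eval_eq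
    apply Set.Infinite.mono _ (Set.infinite_range_of_injective (Int.cast_injective (α := ℚ)))
    rintro _ ⟨n, rfl⟩
    show eval (n : ℚ) (Px.comp (C (N : ℚ) * X)) = eval (n : ℚ) (C (Pz.coeff 0))
    rw [eval_comp, eval_mul, eval_C, eval_X, eval_C]
    have h1 : eval ((N : ℚ) * (n : ℚ)) Px = f ((N * n) • x) := by
      rw [hPx]; push_cast; rfl
    rw [h1, mul_comm, mul_smul, hPz, hPzC, eval_C, coeff_C_zero]
  have hdx : Px.natDegree = 0 := by
    have h2 := congrArg natDegree hcomp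
    rw [natDegree_comp, hNq, mul_one, natDegree_C] at h2
    exact h2
  have hPxC : Px = C (Px.coeff 0) := eq_C_of_natDegree_eq_zero hdx
  have h3 : f x = Px.eval ((1 : ℤ) : ℚ) := by rw [← hPx, one_smul]
  have h4 : f 0 = Px.eval ((0 : ℤ) : ℚ) := by rw [← hPx, zero_smul]
  rw [h3, h4, hPxC, eval_C, eval_C]

end Groth.Agent.Lib.PolyMapConst
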