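import Mathlib

/-!
# Polynomial model of a curve singularity (helper1, for S15152)
`R ⊆ ∏ k[[x]]` a subalgebra with conductor exponents `c`; `A = R ∩ ∏ k[x]`.
-/

namespace Groth.Agent.Lib.PolyModelH1

open Polynomial

universe u

variable {k : Type u} [Field k] {s : ℕ}

/-- componentwise coercion of tuples of polynomials to tuples of power series -/
noncomputable def ι : (Fin s → Polynomial k) →+* (Fin s → PowerSeries k) :=
  Pi.ringHom (fun i => (Polynomial.coeToPowerSeries.ringHom).comp
    (Pi.evalRingHom (fun _ : Fin s => Polynomial k) i))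

lemma ι_apply (g : Fin s → Polynomial k) (i : Fin s) :
    ι g i = ((g i : Polynomial k) : PowerSeries k) := rfl

variable (R : Subalgebra k (Fin s → PowerSeries k)) (c : Fin s → ℕ)
  (hc : ∀ f : Fin s → PowerSeries k,
    (∀ g : Fin s → PowerSeries k, g * f ∈ R) ↔ ∀ i, ((c i : ℕ) : ℕ∞) ≤ (f i).order)
  (A : Subalgebra k (Fin s → Polynomial k))
  (hA : ∀ g : Fin s → Polynomial k, g ∈ A ↔ ι g ∈ R)

include hc in
lemma mem_R_of_order (f : Fin s → PowerSeries k)
    (h : ∀ i, ((c i : ℕ) : ℕ∞) ≤ (f i).order) : f ∈ R := by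
  have h1 := (hc f).mpr h 1
  rwa [one_mul] at h1

include hc hA in
lemma mem_A_of_dvd (p : Fin s → Polynomial k) (h : ∀ i, (X : Polynomial k) ^ c i ∣ p i) :
    p ∈ A := by
  rw [hA]
  apply mem_R_of_order R c hc
  intro i
  obtain ⟨q, hq⟩ := h i
  rw [ι_apply, hq, Polynomial.coe_mul, Polynomial.coe_pow, Polynomial.coe_X,
    PowerSeries.order_mul, PowerSeries.order_X_pow]
  exact le_self_add

lemma le_sum (i : Fin s) : c i ≤ ∑ j, c j :=
  Finset.single_le_sum (fun _ _ => Nat.zero_le _) (Finset.mem_univ i)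

include hA in
lemma idem
    (hloc : ∀ f ∈ R, ∀ i j : Fin s,
      PowerSeries.constantCoeff (f i) = PowerSeries.constantCoeff (f j))
    (e : Fin s → Polynomial k) (he : e ∈ A) (hee : e * e = e) : e = 0 ∨ e = 1 := by
  have h01 : ∀ i, e i = 0 ∨ e i = 1 := by
    intro i
    have h1 : e i * e i = e i := congrFun hee i
    have h2 : e i * (e i - 1) = 0 := by rw [mul_sub, h1, mul_one, sub_self]
    rcases mul_eq_zero.mp h2 with h | h
    · exact Or.inl h
    · exact Or.inr (sub_eq_zero.mp h)
  have hcc : ∀ i j, (e i).coeff 0 = (e j).coeff 0 := by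
    intro i j
    have h1 := hloc (ι e) ((hA e).mp he) i j
    rwa [ι_apply, ι_apply, Polynomial.constantCoeff_coe, Polynomial.constantCoeff_coe] at h1
  by_cases h0 : ∃ i₀, e i₀ = 0
  · obtain ⟨i₀, hi₀⟩ := h0
    left
    funext j
    rcases h01 j with h | h
    · exact h
    · exfalso
      have h1 := hcc i₀ j
      rw [hi₀, h, Polynomial.coeff_zero, Polynomial.coeff_one_zero] at h1
      exact zero_ne_one h1
  · push_neg at h0
    right
    funext j
    rcases h01 j with h | h
    · exact absurd h (h0 j)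
    · exact h

include hc hA in
lemma conj4 : ∃ N : ℕ, ∀ g : Fin N → (Fin s → Polynomial k),
    (∀ n, g n ∈ A ∧ ∀ i, (g n i).coeff 0 = 0) →
      ∀ p : Fin s → Polynomial k, p * ∏ n, g n ∈ A := by
  refine ⟨∑ j, c j, fun g hg p => ?_⟩
  apply mem_A_of_dvd R c hc A hA
  intro i
  have h1 : (X : Polynomial k) ^ (∑ j, c j) ∣ (∏ n, g n) i := by
    rw [Finset.prod_apply]
    have h3 : (X : Polynomial k) ^ (∑ j, c j) = ∏ _n : Fin (∑ j, c j), (X : Polynomial k) := by
      rw [Finset.prod_const, Finset.card_univ, Fintype.card_fin]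
    rw [h3]
    apply Finset.prod_dvd_prod_of_dvd
    intro n _
    exact Polynomial.X_dvd_iff.mpr ((hg n).2 i)
  have h2 : (X : Polynomial k) ^ c i ∣ (X : Polynomial k) ^ (∑ j, c j) :=
    pow_dvd_pow _ (le_sum c i)
  rw [Pi.mul_apply]
  exact Dvd.dvd.mul_left (h2.trans h1) _

include hc hA in
lemma conj5 (f : Fin s → PowerSeries k) (hf : f ∈ R) (N : ℕ) :
    ∃ g ∈ A, ∀ i : Fin s,
      (N : ℕ∞) ≤ (f i - ((g i : Polynomial k) : PowerSeries k)).order := by
  obtain ⟨n, hn⟩ : ∃ n, n = N + ∑ j, c j := ⟨_, rfl⟩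
  have hord : ∀ i, ((n : ℕ) : ℕ∞) ≤
      (f i - ((PowerSeries.trunc n (f i) : Polynomial k) : PowerSeries k)).order := by
    intro i
    apply PowerSeries.nat_le_order
    intro m hm
    rw [map_sub, Polynomial.coeff_coe, PowerSeries.coeff_trunc, if_pos hm, sub_self]
  refine ⟨fun i => PowerSeries.trunc n (f i), ?_, fun i => ?_⟩
  · rw [hA]
    have hd : (f - ι (fun i => PowerSeries.trunc n (f i))) ∈ R := by
      apply mem_R_of_order R c hc
      intro i
      refine le_trans ?_ (hord i)
      have h1 := le_sum c i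
      have h2 : c i ≤ n := by omega
      exact_mod_cast h2
    have h3 : ι (fun i => PowerSeries.trunc n (f i)) =
        f - (f - ι (fun i => PowerSeries.trunc n (f i))) := by
      rw [sub_sub_cancel]
    rw [h3]
    exact R.sub_mem hf hd
  · refine le_trans ?_ (hord i)
    have h2 : N ≤ n := by omega
    exact_mod_cast h2

include hc hA in
lemma conj3 : Module.Finite ↥A (Fin s → Polynomial k) := by
  classical
  obtain ⟨c', hc'⟩ : ∃ c', c' = 1 + ∑ j, c j := ⟨_, rfl⟩
  have hci : ∀ i, c i ≤ c' := fun i => by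
    have h1 := le_sum c i
    omega
  have hc1 : 1 ≤ c' := by omega
  refine ⟨⟨insert 1 ((Finset.univ ×ˢ Finset.range c').image
    (fun im : Fin s × ℕ => (Pi.single im.1 ((X : Polynomial k) ^ im.2) :
      Fin s → Polynomial k))), ?_⟩⟩
  rw [eq_top_iff]
  intro p _
  have hq : (X : Polynomial k) ^ c' ≠ 1 := by
    intro h
    have h1 := congrArg Polynomial.natDegree h
    rw [Polynomial.natDegree_X_pow, Polynomial.natDegree_one] at h1
    omega
  have hw : (fun i => (X : Polynomial k) ^ c' * (p i /ₘ X ^ c')) ∈ A := by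
    apply mem_A_of_dvd R c hc A hA
    intro i
    exact Dvd.dvd.mul_right (pow_dvd_pow _ (hci i)) _
  have hp : p = (⟨_, hw⟩ : ↥A) • (1 : Fin s → Polynomial k) +
      ∑ i, ∑ m ∈ Finset.range c', ((p i %ₘ X ^ c').coeff m) •
        (Pi.single i ((X : Polynomial k) ^ m) : Fin s → Polynomial k) := by
    funext j
    rw [Pi.add_apply, Finset.sum_apply, Finset.sum_eq_single j]
    · rw [Finset.sum_apply]
      have h1 : ∀ m ∈ Finset.range c', (((p j %ₘ X ^ c').coeff m) •
          (Pi.single j ((X : Polynomial k) ^ m) : Fin s → Polynomial k)) j =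
          C ((p j %ₘ X ^ c').coeff m) * X ^ m := by
        intro m _
        rw [Pi.smul_apply, Pi.single_eq_same, Polynomial.smul_eq_C_mul]
      have h2 : (p j %ₘ X ^ c').natDegree < c' := by
        have h3 := Polynomial.natDegree_modByMonic_lt (p j) (Polynomial.monic_X_pow c') hq
        rwa [Polynomial.natDegree_X_pow] at h3
      rw [Finset.sum_congr rfl h1, ← Polynomial.as_sum_range_C_mul_X_pow' (p j %ₘ X ^ c') h2]
      show p j = (X ^ c' * (p j /ₘ X ^ c')) * 1 + p j %ₘ X ^ c'
      rw [mul_one, add_comm, Polynomial.modByMonic_add_div]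
    · intro i _ hij
      rw [Finset.sum_apply]
      apply Finset.sum_eq_zero
      intro m _
      rw [Pi.smul_apply, Pi.single_eq_of_ne (Ne.symm hij), smul_zero]
    · intro hj
      exact absurd (Finset.mem_univ j) hj
  rw [hp]
  apply Submodule.add_mem
  · apply Submodule.smul_mem
    apply Submodule.subset_span
    rw [Finset.mem_coe]
    exact Finset.mem_insert_self _ _
  · apply Submodule.sum_mem
    intro i _
    apply Submodule.sum_mem
    intro m hm
    apply Submodule.smul_of_tower_mem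
    apply Submodule.subset_span
    rw [Finset.mem_coe]
    apply Finset.mem_insert_of_mem
    rw [Finset.mem_image]
    exact ⟨(i, m), Finset.mem_product.mpr ⟨Finset.mem_univ _, hm⟩, rfl⟩

include hc hA in
lemma conj1 : Algebra.FiniteType k ↥A := by
  haveI h3 : Module.Finite ↥A (Fin s → Polynomial k) := conj3 R c hc A hA
  have hPP : Algebra.FiniteType k (Fin s → Polynomial k) :=
    Algebra.FiniteType.trans (S := Polynomial k) inferInstance inferInstance
  refine ⟨fg_of_fg_of_fg (A := k) (B := ↥A) (C := Fin s → Polynomial k) hPP.out h3.fg_top ?_⟩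
  intro x y h
  exact Subtype.ext h

include hc hA in
lemma conj6 (N : ℕ) : ∃ M : ℕ, ∀ g : ↥A,
    (∀ i : Fin s, (X : Polynomial k) ^ M ∣ (g : Fin s → Polynomial k) i) →
      g ∈ (Ideal.span {h : ↥A | ∀ i : Fin s,
        ((h : Fin s → Polynomial k) i).coeff 0 = 0}) ^ N := by
  classical
  obtain ⟨c', hc'⟩ : ∃ c', c' = 1 + ∑ j, c j := ⟨_, rfl⟩
  have hci : ∀ i, c i ≤ c' := fun i => by
    have h1 := le_sum c i
    omega
  have hc1 : 1 ≤ c' := by omega
  rcases Nat.eq_zero_or_pos N with rfl | hN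
  · exact ⟨0, fun g _ => by rw [pow_zero, Ideal.one_eq_top]; exact Submodule.mem_top⟩
  refine ⟨N * c', fun g hg => ?_⟩
  choose h hh using hg
  have ha : ∀ i, (Pi.single i ((X : Polynomial k) ^ c') : Fin s → Polynomial k) ∈ A := by
    intro i
    apply mem_A_of_dvd R c hc A hA
    intro j
    by_cases hji : j = i
    · subst hji
      rw [Pi.single_eq_same]
      exact pow_dvd_pow _ (hci j)
    · rw [Pi.single_eq_of_ne hji]
      exact dvd_zero _
  have hbm : ∀ i, (Pi.single i ((X : Polynomial k) ^ c' * h i) : Fin s → Polynomial k) ∈ A := by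
    intro i
    apply mem_A_of_dvd R c hc A hA
    intro j
    by_cases hji : j = i
    · subst hji
      rw [Pi.single_eq_same]
      exact Dvd.dvd.mul_right (pow_dvd_pow _ (hci j)) _
    · rw [Pi.single_eq_of_ne hji]
      exact dvd_zero _
  have ha0 : ∀ i, (⟨_, ha i⟩ : ↥A) ∈ Ideal.span {h : ↥A | ∀ i : Fin s,
        ((h : Fin s → Polynomial k) i).coeff 0 = 0} := by
    intro i
    apply Ideal.subset_span
    intro j
    show ((Pi.single i ((X : Polynomial k) ^ c') : Fin s → Polynomial k) j).coeff 0 = 0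
    by_cases hji : j = i
    · subst hji
      rw [Pi.single_eq_same, Polynomial.coeff_X_pow, if_neg (by omega)]
    · rw [Pi.single_eq_of_ne hji, Polynomial.coeff_zero]
  have hb0 : ∀ i, (⟨_, hbm i⟩ : ↥A) ∈ Ideal.span {h : ↥A | ∀ i : Fin s,
        ((h : Fin s → Polynomial k) i).coeff 0 = 0} := by
    intro i
    apply Ideal.subset_span
    intro j
    show ((Pi.single i ((X : Polynomial k) ^ c' * h i) : Fin s → Polynomial k) j).coeff 0 = 0
    by_cases hji : j = i
    · subst hji
      rw [Pi.single_eq_same]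
      exact Polynomial.X_dvd_iff.mp (Dvd.dvd.mul_right (dvd_pow_self _ (by omega)) _)
    · rw [Pi.single_eq_of_ne hji, Polynomial.coeff_zero]
  have hgP : (g : Fin s → Polynomial k) =
      ∑ i, (Pi.single i ((X : Polynomial k) ^ c') : Fin s → Polynomial k) ^ (N - 1) *
        (Pi.single i ((X : Polynomial k) ^ c' * h i) : Fin s → Polynomial k) := by
    funext j
    rw [Finset.sum_apply, Finset.sum_eq_single j]
    · rw [Pi.mul_apply, Pi.pow_apply, Pi.single_eq_same, Pi.single_eq_same, hh j, ← mul_assoc,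
        ← pow_succ, ← pow_mul, Nat.sub_add_cancel hN, Nat.mul_comm]
    · intro i _ hij
      rw [Pi.mul_apply, Pi.single_eq_of_ne (Ne.symm hij), mul_zero]
    · intro hj
      exact absurd (Finset.mem_univ j) hj
  have hg : g = ∑ i, (⟨_, ha i⟩ : ↥A) ^ (N - 1) * (⟨_, hbm i⟩ : ↥A) := by
    apply Subtype.ext
    rw [hgP]
    simp only [AddSubmonoidClass.coe_finsetSum, Subalgebra.coe_mul, Subalgebra.coe_pow]
  have hpow : (Ideal.span {h : ↥A | ∀ i : Fin s,
        ((h : Fin s → Polynomial k) i).coeff 0 = 0}) ^ N =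
      (Ideal.span {h : ↥A | ∀ i : Fin s,
        ((h : Fin s → Polynomial k) i).coeff 0 = 0}) ^ (N - 1) *
      (Ideal.span {h : ↥A | ∀ i : Fin s,
        ((h : Fin s → Polynomial k) i).coeff 0 = 0}) := by
    rw [← pow_succ, Nat.sub_add_cancel hN]
  rw [hg, hpow]
  apply Ideal.sum_mem
  intro i _
  exact Ideal.mul_mem_mul (Ideal.pow_mem_pow (ha0 i) _) (hb0 i)

end Groth.Agent.Lib.PolyModelH1
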