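import Mathlib
import Groth.Statements.S18435
import Groth.Agent.Lib.NodeKaehler_lead

set_option autoImplicit false
universe u

namespace Groth.Agent.Lib.PolyNodeTors

open MvPolynomial Groth.Agent.Lib.CuspJac Groth.Agent.Lib.NodeKaehler LaurentPolynomial

variable {k : Type u} [Field k]

lemma hI : (Ideal.span {(X 0 * X 1 - MvPolynomial.C (0:k) : MvPolynomial (Fin 2) k)}) = Inode (k := k) := by
  rw [map_zero, sub_zero]

noncomputable abbrev ev0 (k : Type u) [Field k] : MvPolynomial (Fin 2) k →ₐ[k] Polynomial k :=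
  MvPolynomial.aeval (![Polynomial.X, 0] : Fin 2 → Polynomial k)

lemma supp_of_y_mul (G : MvPolynomial (Fin 2) k)
    (h : SpinCurv.PolyNodeRing.y k 0 * Ideal.Quotient.mk _ G = 0) :
    ∀ s ∈ G.support, 1 ≤ s 0 := by
  intro s hs
  have h1 : (X 1 * G : MvPolynomial (Fin 2) k) ∈ Inode (k := k) := by
    rw [← hI, ← Ideal.Quotient.eq_zero_iff_mem, map_mul]
    exact h
  have h2 := (mem_node_iff _).mp h1 (Finsupp.single 1 1 + s) (by
    rw [MvPolynomial.mem_support_iff, MvPolynomial.coeff_X_mul]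
    exact MvPolynomial.mem_support_iff.mp hs)
  have := h2.1
  simpa using this

lemma poly_key (A B : Polynomial k) (hA0 : A.coeff 0 = 0) (hB0 : B.coeff 0 = 0)
    (h : Polynomial.toLaurent A = T 1 * invert (Polynomial.toLaurent B)) : A = 0 ∧ B = 0 := by
  have hpoly : A * Polynomial.X ^ B.natDegree = Polynomial.X * B.reverse := by
    apply Polynomial.toLaurent_injective
    rw [map_mul, map_mul, Polynomial.toLaurent_X_pow, Polynomial.toLaurent_X, toLaurent_reverse,
      h, mul_assoc]
  have hrev : B.reverse = 0 := by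
    ext i
    rw [Polynomial.coeff_zero]
    by_cases hi : i < B.natDegree
    · have := congrArg (fun p => Polynomial.coeff p (i+1)) hpoly
      simp only [Polynomial.coeff_mul_X_pow', Polynomial.coeff_X_mul] at this
      rw [← this]
      by_cases h2 : B.natDegree ≤ i + 1
      · rw [if_pos h2]
        have : i + 1 - B.natDegree = 0 := by omega
        rw [this, hA0]
      · rw [if_neg h2]
    · by_cases h2 : i = B.natDegree
      · rw [Polynomial.coeff_reverse, h2, Polynomial.revAt_le le_rfl, Nat.sub_self, hB0]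
      · apply Polynomial.coeff_eq_zero_of_natDegree_lt
        have := Polynomial.reverse_natDegree_le B
        omega
  have hB : B = 0 := Polynomial.reverse_eq_zero.mp hrev
  refine ⟨?_, hB⟩
  rw [hB, map_zero, map_zero, mul_zero] at h
  exact Polynomial.toLaurent_eq_zero.mp h

lemma mk_eq_zero_of (G : MvPolynomial (Fin 2) k) (sG : ∀ s ∈ G.support, 1 ≤ s 0)
    (hA : ev0 k G = 0) :
    (Ideal.Quotient.mk (Ideal.span {(X 0 * X 1 - MvPolynomial.C (0:k) : MvPolynomial (Fin 2) k)}) G) = 0 := by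
  rw [Ideal.Quotient.eq_zero_iff_mem, hI, mem_node_iff]
  intro s hs
  refine ⟨sG s hs, ?_⟩
  by_contra h1
  have h10 : s 1 = 0 := by omega
  have : MvPolynomial.coeff s G = 0 := by
    rw [mon_eta s, h10, ← coeff_aeval0]
    have := congrArg (fun p => Polynomial.coeff p (s 0)) hA
    simpa using this
  exact (MvPolynomial.mem_support_iff.mp hs) this

theorem main (k : Type u) [Field k]
    (rU : SpinCurv.PolyNodeRing k 0 →ₐ[k] SpinCurv.PolyNodeRing k 0)
    (hrUx : rU (SpinCurv.PolyNodeRing.x k 0) = 0)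
    (hrUy : rU (SpinCurv.PolyNodeRing.y k 0) = SpinCurv.PolyNodeRing.y k 0)
    (rV : SpinCurv.PolyNodeRing k 0 →ₐ[k] SpinCurv.PolyNodeRing k 0)
    (hrVx : rV (SpinCurv.PolyNodeRing.x k 0) = SpinCurv.PolyNodeRing.y k 0)
    (hrVy : rV (SpinCurv.PolyNodeRing.y k 0) = 0)
    (gU : SpinCurv.PolyNodeRing k 0 →ₐ[k] LaurentPolynomial k)
    (hgUs : gU (SpinCurv.PolyNodeRing.x k 0) = LaurentPolynomial.T 1)
    (hgUy : gU (SpinCurv.PolyNodeRing.y k 0) = 0)
    (gV : SpinCurv.PolyNodeRing k 0 →ₐ[k] LaurentPolynomial k)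
    (hgVt : gV (SpinCurv.PolyNodeRing.x k 0) = LaurentPolynomial.T (-1))
    (hgVx : gV (SpinCurv.PolyNodeRing.y k 0) = 0)
    (g f : SpinCurv.PolyNodeRing k 0) (hsec : gU g = LaurentPolynomial.T 1 * gV f)
    (hx : rU (SpinCurv.PolyNodeRing.x k 0) * g = 0 ∧ rV (SpinCurv.PolyNodeRing.x k 0) * f = 0)
    (hy : rU (SpinCurv.PolyNodeRing.y k 0) * g = 0 ∧ rV (SpinCurv.PolyNodeRing.y k 0) * f = 0) :
    g = 0 ∧ f = 0 := by
  obtain ⟨G, rfl⟩ := Ideal.Quotient.mk_surjective g
  obtain ⟨F, rfl⟩ := Ideal.Quotient.mk_surjective f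
  have hyG := hy.1
  rw [hrUy] at hyG
  have hyF := hx.2
  rw [hrVx] at hyF
  have sG := supp_of_y_mul G hyG
  have sF := supp_of_y_mul F hyF
  have hA0 : (ev0 k G).coeff 0 = 0 := by
    rw [coeff_aeval0]
    by_contra hne
    have := sG _ (MvPolynomial.mem_support_iff.mpr hne)
    rw [mon_zero] at this
    omega
  have hB0 : (ev0 k F).coeff 0 = 0 := by
    rw [coeff_aeval0]
    by_contra hne
    have := sF _ (MvPolynomial.mem_support_iff.mpr hne)
    rw [mon_zero] at this
    omega
  have hgU : ∀ H : MvPolynomial (Fin 2) k,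
      gU (Ideal.Quotient.mk _ H) = Polynomial.toLaurent (ev0 k H) := by
    intro H
    have h1 : (gU.comp (Ideal.Quotient.mkₐ k _)) =
        (Polynomial.toLaurentAlg.comp (ev0 k)) := by
      apply MvPolynomial.algHom_ext
      refine Fin.forall_fin_two.mpr ⟨?_, ?_⟩
      · show gU (SpinCurv.PolyNodeRing.x k 0) = Polynomial.toLaurentAlg (ev0 k (X 0))
        rw [hgUs, MvPolynomial.aeval_X, Polynomial.toLaurentAlg_apply]
        exact Polynomial.toLaurent_X.symm
      · show gU (SpinCurv.PolyNodeRing.y k 0) = Polynomial.toLaurentAlg (ev0 k (X 1))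
        rw [hgUy, MvPolynomial.aeval_X, Polynomial.toLaurentAlg_apply]
        exact (map_zero _).symm
    exact DFunLike.congr_fun h1 H
  have hgV : ∀ H : MvPolynomial (Fin 2) k,
      gV (Ideal.Quotient.mk _ H) = invert (Polynomial.toLaurent (ev0 k H)) := by
    intro H
    have h1 : (gV.comp (Ideal.Quotient.mkₐ k _)) =
        ((invert (R := k)).toAlgHom.comp (Polynomial.toLaurentAlg.comp (ev0 k))) := by
      apply MvPolynomial.algHom_ext
      refine Fin.forall_fin_two.mpr ⟨?_, ?_⟩
      · show gV (SpinCurv.PolyNodeRing.x k 0) =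
          invert (Polynomial.toLaurentAlg (ev0 k (X 0)))
        rw [hgVt, MvPolynomial.aeval_X, Polynomial.toLaurentAlg_apply]
        show T (-1) = invert (Polynomial.toLaurent Polynomial.X)
        rw [Polynomial.toLaurent_X, invert_T]
      · show gV (SpinCurv.PolyNodeRing.y k 0) =
          invert (Polynomial.toLaurentAlg (ev0 k (X 1)))
        rw [hgVx, MvPolynomial.aeval_X, Polynomial.toLaurentAlg_apply]
        show (0 : LaurentPolynomial k) = invert (Polynomial.toLaurent 0)
        rw [map_zero, map_zero]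
    exact DFunLike.congr_fun h1 H
  rw [hgU, hgV] at hsec
  obtain ⟨hA', hB'⟩ := poly_key _ _ hA0 hB0 hsec
  exact ⟨mk_eq_zero_of G sG hA', mk_eq_zero_of F sF hB'⟩

end Groth.Agent.Lib.PolyNodeTors
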