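import Mathlib
import Groth.Prelude.Def_W4c5spincurvestfNode

/-!
# `R[x,y]/(xy - π)` is `R`-free on `x^a (a ≥ 0), y^b (b ≥ 1)`, and the sections of the twisting
sheaf on the two charts of the blown-up node.
-/

set_option autoImplicit false
universe u

namespace Groth.Agent.Lib.PolyNodeH3

open MvPolynomial SpinCurv

variable (R : Type u) [CommRing R] (π : R)

/-- normal-form elements `x^e` (`e ≥ 0`), `y^(-e)` (`e < 0`). -/
noncomputable def nf (e : ℤ) : PolyNodeRing R π :=
  PolyNodeRing.x R π ^ e.toNat * PolyNodeRing.y R π ^ (-e).toNat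

lemma xy_eq : PolyNodeRing.x R π * PolyNodeRing.y R π = algebraMap R _ π := by
  have h : (Ideal.Quotient.mk (Ideal.span {(X 0 * X 1 - C π : MvPolynomial (Fin 2) R)}))
      (X 0 * X 1 - C π) = 0 :=
    Ideal.Quotient.eq_zero_iff_mem.mpr (Ideal.subset_span rfl)
  rw [map_sub, sub_eq_zero, map_mul] at h
  exact h

/-- the coordinate map on polynomials. -/
noncomputable def phi' : MvPolynomial (Fin 2) R →ₗ[R] (ℤ →₀ R) :=
  (basisMonomials (Fin 2) R).constr R
    (fun m => Finsupp.single ((m 0 : ℤ) - (m 1 : ℤ)) (π ^ min (m 0) (m 1)))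

lemma phi'_monomial (m : Fin 2 →₀ ℕ) (a : R) :
    phi' R π (monomial m a) = Finsupp.single ((m 0 : ℤ) - (m 1 : ℤ)) (a * π ^ min (m 0) (m 1)) := by
  have h1 : (monomial m a : MvPolynomial (Fin 2) R) = a • basisMonomials (Fin 2) R m := by
    rw [coe_basisMonomials, smul_monomial, smul_eq_mul, mul_one]
  rw [h1, map_smul, phi', Module.Basis.constr_basis, Finsupp.smul_single, smul_eq_mul]

lemma phi'_mul_rel (g : MvPolynomial (Fin 2) R) : phi' R π (g * (X 0 * X 1 - C π)) = 0 := by
  induction g using MvPolynomial.induction_on' with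
  | monomial m a =>
    have h0 : (X 0 * X 1 : MvPolynomial (Fin 2) R)
        = monomial (Finsupp.single 0 1 + Finsupp.single 1 1) 1 := by
      rw [X, X, monomial_mul, mul_one]
    have h1 : (monomial m a : MvPolynomial (Fin 2) R) * (X 0 * X 1 - C π)
        = monomial (m + Finsupp.single 0 1 + Finsupp.single 1 1) a - monomial m (a * π) := by
      rw [mul_sub, h0, C_apply, monomial_mul, monomial_mul, add_zero, mul_one, add_assoc]
    rw [h1, map_sub, phi'_monomial, phi'_monomial]
    have e0 : (m + Finsupp.single 0 1 + Finsupp.single 1 1 : Fin 2 →₀ ℕ) 0 = m 0 + 1 := by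
      simp
    have e1 : (m + Finsupp.single 0 1 + Finsupp.single 1 1 : Fin 2 →₀ ℕ) 1 = m 1 + 1 := by
      simp
    rw [e0, e1, Nat.add_min_add_right, pow_succ]
    have : ((m 0 + 1 : ℕ) : ℤ) - ((m 1 + 1 : ℕ) : ℤ) = (m 0 : ℤ) - (m 1 : ℤ) := by push_cast; ring
    rw [this, sub_eq_zero]
    congr 1
    ring
  | add p q hp hq => rw [add_mul, map_add, hp, hq, add_zero]

/-- the coordinate map on the quotient. -/
noncomputable def phi : PolyNodeRing R π →ₗ[R] (ℤ →₀ R) :=
  ((Ideal.span {(X 0 * X 1 - C π : MvPolynomial (Fin 2) R)}).restrictScalars R).liftQ (phi' R π)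
    (by
      intro f hf
      rw [Submodule.restrictScalars_mem] at hf
      obtain ⟨g, rfl⟩ := Ideal.mem_span_singleton'.mp hf
      exact phi'_mul_rel R π g) ∘ₗ
  (Submodule.Quotient.restrictScalarsEquiv R
    (Ideal.span {(X 0 * X 1 - C π : MvPolynomial (Fin 2) R)})).symm.toLinearMap

lemma phi_mk (f : MvPolynomial (Fin 2) R) :
    phi R π (Ideal.Quotient.mk _ f) = phi' R π f := by
  rfl

/-- the parametrisation. -/
noncomputable def psi : (ℤ →₀ R) →ₗ[R] PolyNodeRing R π :=
  Finsupp.linearCombination R (nf R π)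

lemma psi_single (e : ℤ) (a : R) : psi R π (Finsupp.single e a) = a • nf R π e := by
  rw [psi, Finsupp.linearCombination_single]

lemma nf_eq_mk (e : ℤ) : nf R π e =
    Ideal.Quotient.mk _ (monomial (Finsupp.single 0 e.toNat + Finsupp.single 1 (-e).toNat) (1 : R)) := by
  rw [nf, ← map_pow, ← map_pow, ← map_mul]
  congr 1
  rw [monomial_eq, C_1, one_mul, Finsupp.prod_fintype _ _ (by simp), Fin.prod_univ_two]
  simp

lemma phi_nf (e : ℤ) : phi R π (nf R π e) = Finsupp.single e 1 := by
  rw [nf_eq_mk, phi_mk, phi'_monomial]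
  have e0 : (Finsupp.single 0 e.toNat + Finsupp.single 1 (-e).toNat : Fin 2 →₀ ℕ) 0 = e.toNat := by
    simp
  have e1 : (Finsupp.single 0 e.toNat + Finsupp.single 1 (-e).toNat : Fin 2 →₀ ℕ) 1
      = (-e).toNat := by simp
  rw [e0, e1]
  have h1 : min e.toNat (-e).toNat = 0 := by omega
  have h2 : ((e.toNat : ℕ) : ℤ) - (((-e).toNat : ℕ) : ℤ) = e := by omega
  rw [h1, h2, pow_zero, mul_one]

lemma mk_monomial (m : Fin 2 →₀ ℕ) (a : R) :
    (Ideal.Quotient.mk (Ideal.span {(X 0 * X 1 - C π : MvPolynomial (Fin 2) R)}) (monomial m a))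
      = (a * π ^ min (m 0) (m 1)) • nf R π ((m 0 : ℤ) - (m 1 : ℤ)) := by
  have hm : (monomial m a : MvPolynomial (Fin 2) R) = C a * (X 0 ^ m 0 * X 1 ^ m 1) := by
    rw [monomial_eq, Finsupp.prod_fintype _ _ (by simp), Fin.prod_univ_two]
  rw [hm, map_mul, map_mul, map_pow, map_pow, nf]
  change algebraMap R (PolyNodeRing R π) a * (PolyNodeRing.x R π ^ m 0 * PolyNodeRing.y R π ^ m 1) = _
  have key0 : ∀ c a b : ℕ, PolyNodeRing.x R π ^ (c + a) * PolyNodeRing.y R π ^ (c + b)
      = algebraMap R _ (π ^ c) * (PolyNodeRing.x R π ^ a * PolyNodeRing.y R π ^ b) := by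
    intro c a b
    rw [pow_add, pow_add, map_pow, ← xy_eq, mul_pow]
    ring
  have key : ∀ a b : ℕ, PolyNodeRing.x R π ^ a * PolyNodeRing.y R π ^ b
      = algebraMap R _ (π ^ min a b) *
        (PolyNodeRing.x R π ^ (a - min a b) * PolyNodeRing.y R π ^ (b - min a b)) := by
    intro a b
    have ha : a = min a b + (a - min a b) := by omega
    have hb : b = min a b + (b - min a b) := by omega
    rw [← key0, ← ha, ← hb]
  rw [key, show ∀ (r : R) (z : PolyNodeRing R π), r • z = algebraMap R _ r * z from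
    fun r z => Algebra.smul_def r z, map_mul]
  have h1 : ((m 0 : ℤ) - (m 1 : ℤ)).toNat = m 0 - min (m 0) (m 1) := by omega
  have h2 : (-((m 0 : ℤ) - (m 1 : ℤ))).toNat = m 1 - min (m 0) (m 1) := by omega
  rw [h1, h2]
  ring

lemma psi_phi (z : PolyNodeRing R π) : psi R π (phi R π z) = z := by
  obtain ⟨f, rfl⟩ := Ideal.Quotient.mk_surjective z
  induction f using MvPolynomial.induction_on' with
  | monomial m a =>
    rw [phi_mk, phi'_monomial, psi_single, mk_monomial]
  | add p q hp hq =>
    rw [map_add, map_add, map_add, hp, hq]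

lemma phi_psi (w : ℤ →₀ R) : phi R π (psi R π w) = w := by
  induction w using Finsupp.induction_linear with
  | zero => simp
  | add f g hf hg => rw [map_add, map_add, hf, hg]
  | single e a =>
    rw [psi_single, map_smul, phi_nf, Finsupp.smul_single, smul_eq_mul, mul_one]

/-- The `R`-basis `x^a (a ≥ 0)`, `y^b (b ≥ 1)` of `R[x,y]/(xy - π)`, indexed by `ℤ`. -/
noncomputable def basis : Module.Basis ℤ R (PolyNodeRing R π) :=
  Module.Basis.ofRepr (LinearEquiv.ofLinear (phi R π) (psi R π)
    (LinearMap.ext (phi_psi R π)) (LinearMap.ext (psi_phi R π)))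

lemma basis_apply (e : ℤ) : basis R π e = nf R π e := by
  have : (basis R π).repr (nf R π e) = Finsupp.single e 1 := phi_nf R π e
  rw [← (basis R π).repr.injective.eq_iff, Module.Basis.repr_self, this]

lemma basis_repr (z : PolyNodeRing R π) : (basis R π).repr z = phi R π z := rfl

end Groth.Agent.Lib.PolyNodeH3

namespace Groth.Agent.Lib.PolyNodeH3

open SpinCurv LaurentPolynomial

section Twist

variable {R : Type u} [CommRing R] {p q : R}
    {gU : SpinCurv.PolyNodeRing R q →ₐ[R] LaurentPolynomial R}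
    (hgUs : gU (SpinCurv.PolyNodeRing.x R q) = LaurentPolynomial.T 1)
    (hgUy : gU (SpinCurv.PolyNodeRing.y R q) = LaurentPolynomial.C q * LaurentPolynomial.T (-1))
    {gV : SpinCurv.PolyNodeRing R p →ₐ[R] LaurentPolynomial R}
    (hgVt : gV (SpinCurv.PolyNodeRing.x R p) = LaurentPolynomial.T (-1))
    (hgVx : gV (SpinCurv.PolyNodeRing.y R p) = LaurentPolynomial.C p * LaurentPolynomial.T 1)
    (n : ℤ)

include hgUs hgUy in
lemma gU_nf (e : ℤ) : gU (nf R q e) = LaurentPolynomial.C (q ^ (-e).toNat) * LaurentPolynomial.T e := by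
  rw [nf, map_mul, map_pow, map_pow, hgUs, hgUy, mul_pow, T_pow, T_pow, ← map_pow]
  rw [mul_comm (T _), mul_assoc, ← T_add]
  congr 2
  omega

include hgVt hgVx in
lemma gV_nf (i : ℤ) : gV (nf R p i) = LaurentPolynomial.C (p ^ (-i).toNat) * LaurentPolynomial.T (-i) := by
  rw [nf, map_mul, map_pow, map_pow, hgVt, hgVx, mul_pow, T_pow, T_pow, ← map_pow]
  rw [mul_comm (T _), mul_assoc, ← T_add]
  congr 2
  omega

lemma coeff_C_mul_T (r : R) (m e : ℤ) :
    (LaurentPolynomial.C r * LaurentPolynomial.T m).coeff e = if m = e then r else 0 := by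
  rw [← single_eq_C_mul_T, AddMonoidAlgebra.coeff_single, Finsupp.single_apply]

include hgUs hgUy in
lemma coeff_gU (g : PolyNodeRing R q) (e : ℤ) :
    (gU g).coeff e = (basis R q).repr g e * q ^ (-e).toNat := by
  rw [basis_repr]
  conv_lhs => rw [← psi_phi R q g]
  generalize phi R q g = w
  induction w using Finsupp.induction_linear with
  | zero => simp
  | add f g hf hg =>
    rw [map_add, map_add, AddMonoidAlgebra.coeff_add, Finsupp.add_apply, hf, hg, Finsupp.add_apply,
      add_mul]
  | single e' a =>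
    rw [psi_single, map_smul, gU_nf hgUs hgUy, AddMonoidAlgebra.coeff_smul, Finsupp.smul_apply,
      coeff_C_mul_T, Finsupp.single_apply, smul_eq_mul]
    split_ifs with h
    · rw [h]
    · simp

include hgVt hgVx in
lemma coeff_gV (f : PolyNodeRing R p) (e : ℤ) :
    (LaurentPolynomial.T n * gV f).coeff e = (basis R p).repr f (n - e) * p ^ (e - n).toNat := by
  rw [basis_repr]
  conv_lhs => rw [← psi_phi R p f]
  generalize phi R p f = w
  induction w using Finsupp.induction_linear with
  | zero => simp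
  | add f g hf hg =>
    rw [map_add, map_add, mul_add, AddMonoidAlgebra.coeff_add, Finsupp.add_apply, hf, hg,
      Finsupp.add_apply, add_mul]
  | single i a =>
    rw [psi_single, map_smul, gV_nf hgVt hgVx, mul_smul_comm, AddMonoidAlgebra.coeff_smul,
      Finsupp.smul_apply, mul_left_comm, ← T_add, coeff_C_mul_T, Finsupp.single_apply, smul_eq_mul]
    by_cases h : i = n - e
    · have h1 : n + -i = e := by omega
      have h2 : -i = e - n := by omega
      rw [if_pos h1, if_pos h, h2]
    · have h1 : ¬ (n + -i = e) := by omega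
      rw [if_neg h1, if_neg h]
      simp

/-- the linear map whose kernel is the module of sections. -/
noncomputable def Kmap (gU : SpinCurv.PolyNodeRing R q →ₐ[R] LaurentPolynomial R)
    (gV : SpinCurv.PolyNodeRing R p →ₐ[R] LaurentPolynomial R) (n : ℤ) :
    (SpinCurv.PolyNodeRing R q × SpinCurv.PolyNodeRing R p) →ₗ[R] LaurentPolynomial R :=
  gU.toLinearMap.comp (LinearMap.fst R (SpinCurv.PolyNodeRing R q) (SpinCurv.PolyNodeRing R p)) -
    (LinearMap.mulLeft R (LaurentPolynomial.T n)).comp
      (gV.toLinearMap.comp (LinearMap.snd R (SpinCurv.PolyNodeRing R q) (SpinCurv.PolyNodeRing R p)))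

lemma mem_K (gf : PolyNodeRing R q × PolyNodeRing R p) :
    gf ∈ LinearMap.ker (Kmap gU gV n) ↔ gU gf.1 = LaurentPolynomial.T n * gV gf.2 := by
  rw [LinearMap.mem_ker, Kmap]
  simp [sub_eq_zero]

include hgUs hgUy hgVt hgVx in
lemma mem_K_iff (gf : PolyNodeRing R q × PolyNodeRing R p) :
    gf ∈ LinearMap.ker (Kmap gU gV n) ↔
      ∀ e : ℤ, (basis R q).repr gf.1 e * q ^ (-e).toNat
        = (basis R p).repr gf.2 (n - e) * p ^ (e - n).toNat := by
  rw [mem_K]
  constructor
  · intro h e
    rw [← coeff_gU hgUs hgUy, ← coeff_gV hgVt hgVx, h]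
  · intro h
    apply AddMonoidAlgebra.ext
    ext e
    rw [coeff_gU hgUs hgUy, coeff_gV hgVt hgVx, h]

variable (p q) in
/-- the basis elements of the module of sections. -/
noncomputable def el (e : ℤ) : PolyNodeRing R q × PolyNodeRing R p :=
  (p ^ (e - n).toNat • nf R q e, q ^ (-e).toNat • nf R p (n - e))

variable (p q) in
/-- the parametrisation of the sections. -/
noncomputable def Psi : (ℤ →₀ R) →ₗ[R] PolyNodeRing R q × PolyNodeRing R p :=
  Finsupp.linearCombination R (el p q n)

lemma Psi_single (e : ℤ) (a : R) : Psi p q n (Finsupp.single e a) = a • el p q n e := by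
  rw [Psi, Finsupp.linearCombination_single]

lemma repr_nf (π : R) (e e' : ℤ) : (basis R π).repr (nf R π e) e' = if e = e' then 1 else 0 := by
  rw [basis_repr, phi_nf, Finsupp.single_apply]

lemma repr1 (w : ℤ →₀ R) (e : ℤ) :
    (basis R q).repr (Psi p q n w).1 e = w e * p ^ (e - n).toNat := by
  induction w using Finsupp.induction_linear with
  | zero => simp
  | add f g hf hg =>
    rw [map_add, Prod.fst_add, map_add, Finsupp.add_apply, hf, hg, Finsupp.add_apply, add_mul]
  | single e' a =>
    rw [Psi_single, el, Prod.smul_fst, map_smul, map_smul, Finsupp.smul_apply, Finsupp.smul_apply,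
      repr_nf, Finsupp.single_apply, smul_eq_mul, smul_eq_mul]
    split_ifs with h
    · rw [h, mul_one]
    · simp

lemma repr2 (w : ℤ →₀ R) (e : ℤ) :
    (basis R p).repr (Psi p q n w).2 (n - e) = w e * q ^ (-e).toNat := by
  induction w using Finsupp.induction_linear with
  | zero => simp
  | add f g hf hg =>
    rw [map_add, Prod.snd_add, map_add, Finsupp.add_apply, hf, hg, Finsupp.add_apply, add_mul]
  | single e' a =>
    rw [Psi_single, el, Prod.smul_snd, map_smul, map_smul, Finsupp.smul_apply, Finsupp.smul_apply,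
      repr_nf, Finsupp.single_apply, smul_eq_mul, smul_eq_mul]
    by_cases h : e' = e
    · have h1 : n - e' = n - e := by omega
      rw [if_pos h1, if_pos h, h, mul_one]
    · have h1 : ¬ (n - e' = n - e) := by omega
      rw [if_neg h1, if_neg h]
      simp

include hgUs hgUy hgVt hgVx in
lemma Psi_mem (w : ℤ →₀ R) : Psi p q n w ∈ LinearMap.ker (Kmap gU gV n) := by
  rw [mem_K_iff hgUs hgUy hgVt hgVx]
  intro e
  rw [repr1, repr2]
  ring

lemma Psi_injective (hn : -1 ≤ n) : Function.Injective (Psi p q n) := by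
  rw [← LinearMap.ker_eq_bot, LinearMap.ker_eq_bot']
  intro w hw
  ext e
  rw [Finsupp.zero_apply]
  by_cases he : e ≤ n
  · have h1 := repr1 (p := p) (q := q) n w e
    rw [hw] at h1
    have h2 : (e - n).toNat = 0 := by omega
    rw [h2, pow_zero, mul_one] at h1
    rw [← h1]
    simp
  · have h1 := repr2 (p := p) (q := q) n w e
    rw [hw] at h1
    have h2 : (-e).toNat = 0 := by omega
    rw [h2, pow_zero, mul_one] at h1
    rw [← h1]
    simp

include hgUs hgUy hgVt hgVx in
lemma Psi_surjective (hn : -1 ≤ n) (gf : PolyNodeRing R q × PolyNodeRing R p)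
    (hgf : gf ∈ LinearMap.ker (Kmap gU gV n)) : ∃ w, Psi p q n w = gf := by
  rw [mem_K_iff hgUs hgUy hgVt hgVx] at hgf
  set c := (basis R q).repr gf.1 with hc
  set d := (basis R p).repr gf.2 with hd
  let w : ℤ →₀ R := c.filter (fun e => e < 0) +
    (Finsupp.equivMapDomain (Equiv.subLeft n) d).filter (fun e => 0 ≤ e)
  have hw : ∀ e, w e = if e < 0 then c e else d (n - e) := by
    intro e
    simp only [w, Finsupp.add_apply, Finsupp.filter_apply, Finsupp.equivMapDomain_apply,
      Equiv.subLeft_symm_apply]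
    by_cases h : e < 0
    · have h' : ¬ (0 ≤ e) := by omega
      rw [if_pos h, if_neg h', add_zero, if_pos h]
    · have h' : 0 ≤ e := by omega
      rw [if_neg h, if_pos h', zero_add, if_neg h]
      congr 1
      omega
  refine ⟨w, ?_⟩
  apply Prod.ext
  · apply (basis R q).repr.injective
    ext e
    rw [repr1, hw]
    by_cases h : e < 0
    · have h2 : (e - n).toNat = 0 := by omega
      rw [if_pos h, h2, pow_zero, mul_one]
    · have h2 : (-e).toNat = 0 := by omega
      have := hgf e
      rw [h2, pow_zero, mul_one] at this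
      rw [if_neg h, ← this]
  · apply (basis R p).repr.injective
    ext i
    have hi : i = n - (n - i) := by omega
    rw [hi, repr2, hw]
    by_cases h : n - i < 0
    · have h2 : ((n - i) - n).toNat = 0 := by omega
      have := hgf (n - i)
      rw [h2, pow_zero, mul_one] at this
      rw [if_pos h, this]
    · have h2 : (-(n - i)).toNat = 0 := by omega
      rw [if_neg h, h2, pow_zero, mul_one]

include hgUs hgUy hgVt hgVx in
/-- the module of sections is free, on the basis `el`. -/
noncomputable def equivK (hn : -1 ≤ n) : (ℤ →₀ R) ≃ₗ[R] LinearMap.ker (Kmap gU gV n) :=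
  LinearEquiv.ofBijective
    ((Psi p q n).codRestrict (LinearMap.ker (Kmap gU gV n)) (Psi_mem hgUs hgUy hgVt hgVx n))
    ⟨fun a b h => Psi_injective n hn (congrArg Subtype.val h),
     fun z => by
      obtain ⟨w, hw⟩ := Psi_surjective hgUs hgUy hgVt hgVx n hn z.1 z.2
      exact ⟨w, Subtype.ext hw⟩⟩

include hgUs hgUy hgVt hgVx in
theorem free_K (hn : -1 ≤ n) : Module.Free R (LinearMap.ker (Kmap gU gV n)) :=
  Module.Free.of_equiv (equivK hgUs hgUy hgVt hgVx n hn)

end Twist

end Groth.Agent.Lib.PolyNodeH3
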