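import Mathlib
import Groth.Prelude.Def_W4c5spincurvestfNode
import Groth.Agent.Lib.PolyNode_helper3

/-!
# Global sections of `O(n)` on the blown-up node as the degree `n` part of
`A[ξ, v]/(p ξ - x v, q v - y ξ)`.
-/

set_option autoImplicit false
universe u

namespace Groth.Agent.Lib.PolyNodeTwistH3

open SpinCurv LaurentPolynomial Groth.Agent.Lib.PolyNodeH3

variable {R : Type u} [CommRing R]

lemma smul_eq' (π : R) (r : R) (z : PolyNodeRing R π) : r • z = algebraMap R _ r * z :=
  Algebra.smul_def r z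

section

variable {p q : R}
    {rU : SpinCurv.PolyNodeRing R (p * q) →ₐ[R] SpinCurv.PolyNodeRing R q}
    (hrUx : rU (SpinCurv.PolyNodeRing.x R (p * q)) = algebraMap R _ p * SpinCurv.PolyNodeRing.x R q)
    (hrUy : rU (SpinCurv.PolyNodeRing.y R (p * q)) = SpinCurv.PolyNodeRing.y R q)
    {rV : SpinCurv.PolyNodeRing R (p * q) →ₐ[R] SpinCurv.PolyNodeRing R p}
    (hrVx : rV (SpinCurv.PolyNodeRing.x R (p * q)) = SpinCurv.PolyNodeRing.y R p)
    (hrVy : rV (SpinCurv.PolyNodeRing.y R (p * q)) = algebraMap R _ q * SpinCurv.PolyNodeRing.x R p)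
    {gU : SpinCurv.PolyNodeRing R q →ₐ[R] LaurentPolynomial R}
    (hgUs : gU (SpinCurv.PolyNodeRing.x R q) = LaurentPolynomial.T 1)
    (hgUy : gU (SpinCurv.PolyNodeRing.y R q) = LaurentPolynomial.C q * LaurentPolynomial.T (-1))
    {gV : SpinCurv.PolyNodeRing R p →ₐ[R] LaurentPolynomial R}
    (hgVt : gV (SpinCurv.PolyNodeRing.x R p) = LaurentPolynomial.T (-1))
    (hgVx : gV (SpinCurv.PolyNodeRing.y R p) = LaurentPolynomial.C p * LaurentPolynomial.T 1)
    (n : ℕ)

include hrUx hrUy hrVx hrVy hgUs hgUy hgVt hgVx in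
lemma theta_eq (a : PolyNodeRing R (p * q)) : gU (rU a) = gV (rV a) := by
  have h : (gU.comp rU) = (gV.comp rV) := by
    apply Ideal.Quotient.algHom_ext
    apply MvPolynomial.algHom_ext
    intro i
    fin_cases i
    · change gU (rU (PolyNodeRing.x R (p * q))) = gV (rV (PolyNodeRing.x R (p * q)))
      rw [hrUx, hrVx, map_mul, hgUs, hgVx, AlgHom.commutes]
      rfl
    · change gU (rU (PolyNodeRing.y R (p * q))) = gV (rV (PolyNodeRing.y R (p * q)))
      rw [hrUy, hrVy, map_mul, hgUy, hgVt, AlgHom.commutes]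
      rfl
  exact congrArg (fun f => f a) h

variable (rU rV) in
/-- the map `(F_0, …, F_n) ↦ (Σ F_i|_U s^{n-i}, Σ F_i|_V t^i)`. -/
noncomputable def FM : (Fin (n + 1) → PolyNodeRing R (p * q)) →ₗ[R]
    PolyNodeRing R q × PolyNodeRing R p where
  toFun F := (∑ i : Fin (n + 1), rU (F i) * PolyNodeRing.x R q ^ (n - (i : ℕ)),
         ∑ i : Fin (n + 1), rV (F i) * PolyNodeRing.x R p ^ (i : ℕ))
  map_add' F G := by
    apply Prod.ext
    · simp [add_mul, Finset.sum_add_distrib]
    · simp [add_mul, Finset.sum_add_distrib]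
  map_smul' r F := by
    apply Prod.ext
    · simp [Finset.smul_sum, smul_mul_assoc]
    · simp [Finset.smul_sum, smul_mul_assoc]

lemma FM_apply (F : Fin (n + 1) → PolyNodeRing R (p * q)) :
    FM rU rV n F = (∑ i : Fin (n + 1), rU (F i) * PolyNodeRing.x R q ^ (n - (i : ℕ)),
         ∑ i : Fin (n + 1), rV (F i) * PolyNodeRing.x R p ^ (i : ℕ)) := rfl

lemma FM_single (j : Fin (n + 1)) (a : PolyNodeRing R (p * q)) :
    FM rU rV n (Pi.single j a) =
      (rU a * PolyNodeRing.x R q ^ (n - (j : ℕ)), rV a * PolyNodeRing.x R p ^ (j : ℕ)) := by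
  rw [FM_apply]
  apply Prod.ext
  · change ∑ i : Fin (n + 1), rU ((Pi.single j a : Fin (n + 1) → PolyNodeRing R (p * q)) i) * _ = _
    rw [Finset.sum_eq_single j
      (fun i _ hi => by rw [Pi.single_eq_of_ne hi, map_zero, zero_mul])
      (fun h => absurd (Finset.mem_univ j) h), Pi.single_eq_same]
  · change ∑ i : Fin (n + 1), rV ((Pi.single j a : Fin (n + 1) → PolyNodeRing R (p * q)) i) * _ = _
    rw [Finset.sum_eq_single j
      (fun i _ hi => by rw [Pi.single_eq_of_ne hi, map_zero, zero_mul])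
      (fun h => absurd (Finset.mem_univ j) h), Pi.single_eq_same]

lemma FM_smulA (a : PolyNodeRing R (p * q)) (F : Fin (n + 1) → PolyNodeRing R (p * q)) :
    FM rU rV n (a • F) = (rU a * (FM rU rV n F).1, rV a * (FM rU rV n F).2) := by
  rw [FM_apply, FM_apply]
  apply Prod.ext
  · simp [Finset.mul_sum, mul_assoc]
  · simp [Finset.mul_sum, mul_assoc]

include hrUx hrUy hrVx hrVy hgUs hgUy hgVt hgVx in
lemma FM_mem (F : Fin (n + 1) → PolyNodeRing R (p * q)) :
    gU (FM rU rV n F).1 = LaurentPolynomial.T (n : ℤ) * gV (FM rU rV n F).2 := by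
  rw [FM_apply]
  simp only [map_sum, map_mul, map_pow, hgUs, hgVt, T_pow, Finset.mul_sum]
  apply Finset.sum_congr rfl
  intro i _
  rw [theta_eq hrUx hrUy hrVx hrVy hgUs hgUy hgVt hgVx, mul_left_comm, ← T_add]
  congr 2
  have hi : (i : ℕ) ≤ n := Nat.lt_succ_iff.mp i.2
  rw [Nat.cast_sub hi]
  ring

variable (p q) in
/-- preimages of the basis sections. -/
noncomputable def nu (e : ℤ) : Fin (n + 1) → PolyNodeRing R (p * q) :=
  if (n : ℤ) < e then Pi.single 0 (PolyNodeRing.x R (p * q) ^ (e - n).toNat)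
  else if h : 0 ≤ e then Pi.single ⟨((n : ℤ) - e).toNat, by omega⟩ 1
  else Pi.single (Fin.last n) (PolyNodeRing.y R (p * q) ^ (-e).toNat)

include hrUx hrUy hrVx hrVy in
lemma FM_nu (e : ℤ) : FM rU rV n (nu p q n e) = el p q (n : ℤ) e := by
  unfold nu el nf
  by_cases h1 : (n : ℤ) < e
  · rw [if_pos h1, FM_single]
    have e1 : (-e).toNat = 0 := by omega
    have e2 : ((n : ℤ) - e).toNat = 0 := by omega
    have e3 : (-((n : ℤ) - e)).toNat = (e - n).toNat := by congr 1; omega
    have e4 : e.toNat = (e - n).toNat + n := by omega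
    rw [e1, e2, e3, e4]
    apply Prod.ext
    · simp only [map_pow, hrUx, Fin.val_zero, Nat.sub_zero, pow_zero, mul_one, smul_eq', mul_pow,
        map_pow, pow_add]
      ring
    · simp only [map_pow, hrVx, Fin.val_zero, pow_zero, mul_one, one_mul, one_smul]
  · rw [if_neg h1]
    by_cases h2 : 0 ≤ e
    · rw [dif_pos h2, FM_single]
      have e1 : (-e).toNat = 0 := by omega
      have e2 : (e - (n : ℤ)).toNat = 0 := by omega
      have e3 : (-((n : ℤ) - e)).toNat = 0 := by omega
      have e4 : n - ((n : ℤ) - e).toNat = e.toNat := by omega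
      rw [e1, e2, e3]
      apply Prod.ext
      · simp only [map_one, one_mul, pow_zero, mul_one, one_smul, e4]
      · simp only [map_one, one_mul, pow_zero, mul_one, one_smul]
    · rw [dif_neg h2, FM_single]
      have e1 : e.toNat = 0 := by omega
      have e2 : (e - (n : ℤ)).toNat = 0 := by omega
      have e3 : (-((n : ℤ) - e)).toNat = 0 := by omega
      have e4 : ((n : ℤ) - e).toNat = (-e).toNat + n := by omega
      rw [e1, e2, e3, e4]
      apply Prod.ext
      · simp only [map_pow, hrUy, Fin.val_last, Nat.sub_self, pow_zero, mul_one, one_mul, one_smul]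
      · simp only [map_pow, hrVy, Fin.val_last, pow_zero, mul_one, smul_eq', mul_pow, map_pow,
          pow_add]
        ring

include hrUx hrUy hrVx hrVy in
lemma FM_comp_nu (w : ℤ →₀ R) :
    FM rU rV n (Finsupp.linearCombination R (nu p q n) w) = Psi p q (n : ℤ) w := by
  have h : (⇑(FM rU rV n) ∘ nu p q n) = el p q (n : ℤ) :=
    funext (FM_nu hrUx hrUy hrVx hrVy n)
  rw [Psi, Finsupp.apply_linearCombination, h]

include hrUx hrUy hrVx hrVy hgUs hgUy hgVt hgVx in
theorem range_eq : Set.range (fun F : Fin (n + 1) → SpinCurv.PolyNodeRing R (p * q) =>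
        (∑ i : Fin (n + 1), rU (F i) * SpinCurv.PolyNodeRing.x R q ^ (n - (i : ℕ)),
         ∑ i : Fin (n + 1), rV (F i) * SpinCurv.PolyNodeRing.x R p ^ (i : ℕ))) =
      {gf : SpinCurv.PolyNodeRing R q × SpinCurv.PolyNodeRing R p |
        gU gf.1 = LaurentPolynomial.T (n : ℤ) * gV gf.2} := by
  ext gf
  constructor
  · rintro ⟨F, rfl⟩
    exact FM_mem hrUx hrUy hrVx hrVy hgUs hgUy hgVt hgVx n F
  · intro h
    have h' : gf ∈ LinearMap.ker (Kmap gU gV (n : ℤ)) := (mem_K (n : ℤ) gf).mpr h
    obtain ⟨w, rfl⟩ := Psi_surjective hgUs hgUy hgVt hgVx (n : ℤ) (by omega) gf h'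
    exact ⟨Finsupp.linearCombination R (nu p q n) w, FM_comp_nu hrUx hrUy hrVx hrVy n w⟩

variable (p q) in
/-- first family of relations. -/
noncomputable def gen1 (i : Fin n) : Fin (n + 1) → PolyNodeRing R (p * q) :=
  Pi.single (Fin.castSucc i) (algebraMap R (SpinCurv.PolyNodeRing R (p * q)) p) -
    Pi.single (Fin.succ i) (SpinCurv.PolyNodeRing.x R (p * q))

variable (p q) in
/-- second family of relations. -/
noncomputable def gen2 (i : Fin n) : Fin (n + 1) → PolyNodeRing R (p * q) :=
  Pi.single (Fin.castSucc i) (SpinCurv.PolyNodeRing.y R (p * q)) -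
    Pi.single (Fin.succ i) (algebraMap R (SpinCurv.PolyNodeRing R (p * q)) q)

variable (p q) in
/-- the module of relations. -/
noncomputable def Rel : Submodule (PolyNodeRing R (p * q)) (Fin (n + 1) → PolyNodeRing R (p * q)) :=
  Submodule.span (PolyNodeRing R (p * q)) (Set.range (gen1 p q n) ∪ Set.range (gen2 p q n))

include hrUx hrVx in
lemma FM_gen1 (i : Fin n) : FM rU rV n (gen1 p q n i) = 0 := by
  rw [gen1, map_sub, FM_single, FM_single, hrUx, hrVx, AlgHom.commutes, AlgHom.commutes]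
  have hi : (i : ℕ) < n := i.2
  have e1 : n - ((Fin.castSucc i : Fin (n + 1)) : ℕ) = (n - ((Fin.succ i : Fin (n + 1)) : ℕ)) + 1 := by
    simp only [Fin.val_castSucc, Fin.val_succ]; omega
  have e2 : ((Fin.succ i : Fin (n + 1)) : ℕ) = ((Fin.castSucc i : Fin (n + 1)) : ℕ) + 1 := by
    simp only [Fin.val_castSucc, Fin.val_succ]
  rw [e1, e2]
  apply Prod.ext
  · simp only [Prod.fst_sub, Prod.fst_zero]
    ring
  · simp only [Prod.snd_sub, Prod.snd_zero]
    have := xy_eq R p
    rw [pow_succ, ← this]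
    ring

include hrUy hrVy in
lemma FM_gen2 (i : Fin n) : FM rU rV n (gen2 p q n i) = 0 := by
  rw [gen2, map_sub, FM_single, FM_single, hrUy, hrVy, AlgHom.commutes, AlgHom.commutes]
  have hi : (i : ℕ) < n := i.2
  have e1 : n - ((Fin.castSucc i : Fin (n + 1)) : ℕ) = (n - ((Fin.succ i : Fin (n + 1)) : ℕ)) + 1 := by
    simp only [Fin.val_castSucc, Fin.val_succ]; omega
  have e2 : ((Fin.succ i : Fin (n + 1)) : ℕ) = ((Fin.castSucc i : Fin (n + 1)) : ℕ) + 1 := by
    simp only [Fin.val_castSucc, Fin.val_succ]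
  rw [e1, e2]
  apply Prod.ext
  · simp only [Prod.fst_sub, Prod.fst_zero]
    have := xy_eq R q
    rw [pow_succ, ← this]
    ring
  · simp only [Prod.snd_sub, Prod.snd_zero]
    ring

include hrUx hrUy hrVx hrVy in
lemma FM_rel (F : Fin (n + 1) → PolyNodeRing R (p * q)) (hF : F ∈ Rel p q n) :
    FM rU rV n F = 0 := by
  unfold Rel at hF
  induction hF using Submodule.span_induction with
  | mem x hx =>
    rcases hx with ⟨i, rfl⟩ | ⟨i, rfl⟩
    · exact FM_gen1 hrUx hrVx n i
    · exact FM_gen2 hrUy hrVy n i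
  | zero => exact map_zero _
  | add x y _ _ hx hy => rw [map_add, hx, hy, add_zero]
  | smul a x _ hx => rw [FM_smulA, hx]; simp

lemma single_succ_x (i : Fin n) (z : PolyNodeRing R (p * q)) :
    (Pi.single (Fin.succ i) (z * PolyNodeRing.x R (p * q)) : Fin (n + 1) → PolyNodeRing R (p * q))
      = p • (Pi.single (Fin.castSucc i) z : Fin (n + 1) → PolyNodeRing R (p * q))
        - z • gen1 p q n i := by
  unfold gen1
  rw [smul_sub, ← Pi.single_smul', ← Pi.single_smul', ← Pi.single_smul', smul_eq_mul, smul_eq_mul,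
    smul_eq', mul_comm z (algebraMap _ _ p), sub_sub_cancel]

lemma single_castSucc_y (i : Fin n) (z : PolyNodeRing R (p * q)) :
    (Pi.single (Fin.castSucc i) (z * PolyNodeRing.y R (p * q)) :
        Fin (n + 1) → PolyNodeRing R (p * q))
      = z • gen2 p q n i
        + q • (Pi.single (Fin.succ i) z : Fin (n + 1) → PolyNodeRing R (p * q)) := by
  unfold gen2
  rw [smul_sub, ← Pi.single_smul', ← Pi.single_smul', ← Pi.single_smul', smul_eq_mul, smul_eq_mul,
    smul_eq', mul_comm z (algebraMap _ _ q), sub_add_cancel]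

variable (p q) in
/-- relations plus normal forms. -/
noncomputable def SS : Submodule R (Fin (n + 1) → PolyNodeRing R (p * q)) :=
  (Rel p q n).restrictScalars R ⊔ Submodule.span R (Set.range (nu p q n))

lemma nu_mem (e : ℤ) : nu p q n e ∈ SS p q n :=
  Submodule.mem_sup_right (Submodule.subset_span ⟨e, rfl⟩)

lemma single_one_mem (i : ℕ) (hi : i ≤ n) :
    (Pi.single (⟨i, by omega⟩ : Fin (n + 1)) (1 : PolyNodeRing R (p * q))) ∈ SS p q n := by
  have h := nu_mem (p := p) (q := q) n ((n : ℤ) - i)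
  unfold nu at h
  have h1 : ¬ ((n : ℤ) < (n : ℤ) - i) := by omega
  have h2 : (0 : ℤ) ≤ (n : ℤ) - i := by omega
  rw [if_neg h1, dif_pos h2] at h
  have h3 : (⟨((n : ℤ) - ((n : ℤ) - i)).toNat, by omega⟩ : Fin (n + 1)) = ⟨i, by omega⟩ := by
    apply Fin.ext
    simp only
    omega
  rw [h3] at h
  exact h

lemma single_x_mem (i : ℕ) : ∀ (hi : i ≤ n) (a : ℕ),
    (Pi.single (⟨i, by omega⟩ : Fin (n + 1)) (PolyNodeRing.x R (p * q) ^ a)) ∈ SS p q n := by
  induction i with
  | zero =>
    intro hi a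
    rcases Nat.eq_zero_or_pos a with rfl | ha
    · rw [pow_zero]
      exact single_one_mem n 0 hi
    · have h := nu_mem (p := p) (q := q) n ((n : ℤ) + a)
      unfold nu at h
      have h1 : (n : ℤ) < (n : ℤ) + a := by omega
      rw [if_pos h1] at h
      have h2 : ((n : ℤ) + a - n).toNat = a := by omega
      rw [h2] at h
      exact h
  | succ i ih =>
    intro hi a
    rcases Nat.eq_zero_or_pos a with rfl | ha
    · rw [pow_zero]
      exact single_one_mem n (i + 1) hi
    · obtain ⟨a, rfl⟩ : ∃ a', a = a' + 1 := ⟨a - 1, by omega⟩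
      have hi' : i < n := by omega
      have key := single_succ_x (p := p) (q := q) n ⟨i, hi'⟩ (PolyNodeRing.x R (p * q) ^ a)
      rw [Fin.succ_mk, Fin.castSucc_mk, ← pow_succ] at key
      rw [key]
      refine Submodule.sub_mem _ (Submodule.smul_mem _ _ (ih (by omega) a)) ?_
      refine Submodule.mem_sup_left ?_
      rw [Submodule.restrictScalars_mem]
      exact Submodule.smul_mem _ _ (Submodule.subset_span (Or.inl ⟨_, rfl⟩))

lemma single_y_mem (k : ℕ) : ∀ (i : ℕ) (hi : i + k = n) (b : ℕ),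
    (Pi.single (⟨i, by omega⟩ : Fin (n + 1)) (PolyNodeRing.y R (p * q) ^ b)) ∈ SS p q n := by
  induction k with
  | zero =>
    intro i hi b
    rcases Nat.eq_zero_or_pos b with rfl | hb
    · rw [pow_zero]
      exact single_one_mem n i (by omega)
    · have h := nu_mem (p := p) (q := q) n (-(b : ℤ))
      unfold nu at h
      have h1 : ¬ ((n : ℤ) < -(b : ℤ)) := by omega
      have h2 : ¬ ((0 : ℤ) ≤ -(b : ℤ)) := by omega
      rw [if_neg h1, dif_neg h2] at h
      have h3 : (- -(b : ℤ)).toNat = b := by omega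
      have h4 : (Fin.last n : Fin (n + 1)) = ⟨i, by omega⟩ := by
        apply Fin.ext
        simp only [Fin.val_last]
        omega
      rw [h3, h4] at h
      exact h
  | succ k ih =>
    intro i hi b
    rcases Nat.eq_zero_or_pos b with rfl | hb
    · rw [pow_zero]
      exact single_one_mem n i (by omega)
    · obtain ⟨b, rfl⟩ : ∃ b', b = b' + 1 := ⟨b - 1, by omega⟩
      have hi' : i < n := by omega
      have key := single_castSucc_y (p := p) (q := q) n ⟨i, hi'⟩ (PolyNodeRing.y R (p * q) ^ b)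
      rw [Fin.succ_mk, Fin.castSucc_mk, ← pow_succ] at key
      rw [key]
      refine Submodule.add_mem _ ?_ (Submodule.smul_mem _ _ (ih (i + 1) (by omega) b))
      refine Submodule.mem_sup_left ?_
      rw [Submodule.restrictScalars_mem]
      exact Submodule.smul_mem _ _ (Submodule.subset_span (Or.inr ⟨_, rfl⟩))

lemma single_mem (i : Fin (n + 1)) (a : PolyNodeRing R (p * q)) :
    (Pi.single i a : Fin (n + 1) → PolyNodeRing R (p * q)) ∈ SS p q n := by
  have h : (⊤ : Submodule R (PolyNodeRing R (p * q))) ≤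
      (SS p q n).comap (LinearMap.single R (fun _ : Fin (n + 1) => PolyNodeRing R (p * q)) i) := by
    rw [← (basis R (p * q)).span_eq, Submodule.span_le]
    rintro _ ⟨e, rfl⟩
    rw [basis_apply]
    change (Pi.single i (nf R (p * q) e) : Fin (n + 1) → PolyNodeRing R (p * q)) ∈ SS p q n
    unfold nf
    obtain ⟨i, hi⟩ := i
    by_cases he : 0 ≤ e
    · have h1 : (-e).toNat = 0 := by omega
      rw [h1, pow_zero, mul_one]
      exact single_x_mem n i (by omega) _
    · have h1 : e.toNat = 0 := by omega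
      rw [h1, pow_zero, one_mul]
      exact single_y_mem n (n - i) i (by omega) _
  exact h (Submodule.mem_top (x := a))

lemma all_mem (F : Fin (n + 1) → PolyNodeRing R (p * q)) : F ∈ SS p q n := by
  rw [← Finset.univ_sum_single F]
  exact Submodule.sum_mem _ (fun i _ => single_mem n i (F i))

include hrUx hrUy hrVx hrVy in
theorem ker_eq : {F : Fin (n + 1) → SpinCurv.PolyNodeRing R (p * q) |
        (∑ i : Fin (n + 1), rU (F i) * SpinCurv.PolyNodeRing.x R q ^ (n - (i : ℕ)),
         ∑ i : Fin (n + 1), rV (F i) * SpinCurv.PolyNodeRing.x R p ^ (i : ℕ)) = 0} =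
      (Rel p q n : Set (Fin (n + 1) → SpinCurv.PolyNodeRing R (p * q))) := by
  ext F
  constructor
  · intro hF
    have hF' : FM rU rV n F = 0 := hF
    obtain ⟨r, hr, v, hv, rfl⟩ := Submodule.mem_sup.mp (all_mem (p := p) (q := q) n F)
    rw [Submodule.restrictScalars_mem] at hr
    obtain ⟨w, rfl⟩ := (Finsupp.mem_span_range_iff_exists_finsupp).mp hv
    rw [map_add, FM_rel hrUx hrUy hrVx hrVy n r hr, zero_add, ← Finsupp.linearCombination_apply,
      FM_comp_nu hrUx hrUy hrVx hrVy n w] at hF'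
    have hw : w = 0 := Psi_injective (n : ℤ) (by omega) (hF'.trans (map_zero _).symm)
    rw [hw]
    simpa using hr
  · intro hF
    exact FM_rel hrUx hrUy hrVx hrVy n F hF

end

end Groth.Agent.Lib.PolyNodeTwistH3
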