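import Mathlib
import Groth.Prelude.Def_EGA4b
import Groth.Agent.Lib.PolyFrob_helper3
import Groth.Agent.Lib.PSFrobFamily_helper3
import Groth.Agent.Lib.PBasisFamily_helper3
import Groth.Agent.Lib.GenericFibreCharP_helper3
import Groth.Agent.Lib.GRingBase_helper3

/-!
# Generic formal fibres of `k[[x]][y]` in characteristic `p` (helper3)
-/

set_option autoImplicit false
set_option maxSynthPendingDepth 3

namespace Groth.Agent.Lib.PolyPSGenericH3

universe u

open Groth.Agent.Lib.PSFrobFamilyH3 (Pd frobSubring)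

section Retract

variable (p : ℕ) {k : Type u} [Field k] {σ : Type*}

open MvPowerSeries in
/-- `F[[T^p]]` is a direct summand of `k[[T]]` as an `F[[T^p]]`-module. -/
theorem exists_retraction (F : Subfield k) :
    ∃ π : MvPowerSeries σ k →+ MvPowerSeries σ k,
      (∀ b, π b ∈ frobSubring (σ := σ) p F) ∧
      (∀ c ∈ frobSubring (σ := σ) p F, π c = c) ∧
      (∀ y, ∀ β ∈ frobSubring (σ := σ) p F, π (y * β) = π y * β) := by
  classical
  obtain ⟨lam, hlam⟩ := LinearMap.exists_leftInverse_of_injective (Algebra.linearMap F k)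
    (LinearMap.ker_eq_bot.2 (fun x y hxy => Subtype.ext hxy))
  have hlamF : ∀ (y : k) (hy : y ∈ F), lam y = ⟨y, hy⟩ := by
    intro y hy
    have := LinearMap.congr_fun hlam ⟨y, hy⟩
    exact this
  have hlammul : ∀ (y β : k) (hβ : β ∈ F), ((lam (y * β) : F) : k) = (lam y : k) * β := by
    intro y β hβ
    have h1 : y * β = (⟨β, hβ⟩ : F) • y := by
      rw [Subfield.smul_def]; exact mul_comm _ _
    rw [h1, map_smul, smul_eq_mul, Subfield.coe_mul, mul_comm]
  let Lam : MvPowerSeries σ k → MvPowerSeries σ k := fun g n =>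
    if Pd p n then ((lam (coeff n g) : F) : k) else 0
  have hLam : ∀ g n, coeff n (Lam g) = if Pd p n then ((lam (coeff n g) : F) : k) else 0 :=
    fun g n => rfl
  let π : MvPowerSeries σ k →+ MvPowerSeries σ k :=
    { toFun := Lam
      map_zero' := by
        ext n
        rw [hLam, map_zero, map_zero]
        split_ifs
        · rfl
        · rfl
      map_add' := fun f g => by
        ext n
        rw [map_add, hLam, hLam, hLam, map_add, map_add]
        split_ifs
        · rfl
        · rw [add_zero] }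
  have hπ : ∀ g, π g = Lam g := fun g => rfl
  refine ⟨π, ?_, ?_, ?_⟩
  · intro b n
    rw [hπ, hLam]
    split_ifs with hn
    · exact ⟨(lam (coeff n b)).2, fun _ => hn⟩
    · exact ⟨F.zero_mem, fun h0 => absurd rfl h0⟩
  · intro c hc
    rw [hπ]
    ext n
    rw [hLam]
    split_ifs with hn
    · rw [hlamF _ (hc n).1]
    · by_contra h0
      exact hn ((hc n).2 (Ne.symm h0))
  · intro f b hb
    rw [hπ, hπ]
    ext n
    rw [hLam, coeff_mul, coeff_mul]
    split_ifs with hn
    · rw [map_sum, AddSubmonoidClass.coe_finset_sum]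
      refine Finset.sum_congr rfl fun x hx => ?_
      replace hx : x.1 + x.2 = n := Finset.HasAntidiagonal.mem_antidiagonal.1 hx
      rw [hlammul _ _ (hb _).1, hLam]
      by_cases hx2 : coeff x.2 b = 0
      · rw [hx2, mul_zero, mul_zero]
      · have h2 : Pd p x.2 := (hb _).2 hx2
        have h1 : Pd p x.1 := Pd.of_add_right h2 (hx ▸ hn)
        rw [if_pos h1]
    · symm
      refine Finset.sum_eq_zero fun x hx => ?_
      replace hx : x.1 + x.2 = n := Finset.HasAntidiagonal.mem_antidiagonal.1 hx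
      by_cases hx2 : coeff x.2 b = 0
      · rw [hx2, mul_zero]
      · have h2 : Pd p x.2 := (hb _).2 hx2
        have h1 : ¬ Pd p x.1 := fun h1 => hn (hx ▸ h1.add h2)
        rw [hLam, if_neg h1, zero_mul]

end Retract

section Main

open Groth.Agent.Lib.PolyFrobH3 (polySub)

variable (p : ℕ) [hp : Fact p.Prime] (k : Type u) [Field k] [CharP k p] (n m : ℕ)
  [IsDomain (MvPolynomial (Fin m) (MvPowerSeries (Fin n) k))]

include hp in
theorem isGeometricallyRegular_formalFibre
    (P : Ideal (MvPolynomial (Fin m) (MvPowerSeries (Fin n) k))) [P.IsPrime] :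
    CAlg.IsGeometricallyRegular (⊥ : Ideal (Localization.AtPrime P)).ResidueField
      (EGA4.formalFibre (Localization.AtPrime P) ⊥) := by
  classical
  haveI : IsRegularRing (MvPowerSeries (Fin n) k) :=
    Groth.Agent.Lib.GRingBaseH3.isRegularRing_mvPowerSeries k n
  haveI : IsRegularRing (MvPolynomial (Fin m) (MvPowerSeries (Fin n) k)) := inferInstance
  haveI : CharP (MvPowerSeries (Fin n) k) p :=
    charP_of_injective_ringHom (f := (MvPowerSeries.C : k →+* MvPowerSeries (Fin n) k))
      MvPowerSeries.C_injective p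
  haveI : CharP (MvPolynomial (Fin m) (MvPowerSeries (Fin n) k)) p := inferInstance
  obtain ⟨Bas, hB⟩ := Groth.Agent.Lib.SepSmoothH3.exists_pBasis_field p
    (Groth.Agent.Lib.AdicFSFieldH3.PrimeField k) k
  let F : Finset Bas → Subfield k := fun J =>
    (Groth.Agent.Lib.PBasisH3.kJ (k₀ := Groth.Agent.Lib.AdicFSFieldH3.PrimeField k) p Bas J).toSubfield
  have hFfin : ∀ J, Module.Finite (F J) k := fun J => Groth.Agent.Lib.PBasisH3.finite_kJ p Bas hB J
  have hFpow : ∀ J (y : k), y ^ p ∈ F J := fun J y => Groth.Agent.Lib.PBasisH3.pow_mem_kJ p Bas J y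
  have hFinf : ∀ x : k, (∀ J, x ∈ F J) → ∃ y : k, y ^ p = x := fun y hy =>
    (Groth.Agent.Lib.PBasisH3.mem_PK_primeField_iff p y).1
      (Groth.Agent.Lib.PBasisH3.mem_PK_of_forall_mem_kJ p Bas hB y hy)
  refine Groth.Agent.Lib.GenericFibreCharPH3.isGeometricallyRegular_formalFibre p
    (MvPolynomial (Fin m) (MvPowerSeries (Fin n) k))
    (fun J : Finset Bas => polySub (τ := Fin m) p (frobSubring (σ := Fin n) p (F J))) ?_ ?_ ?_ P
  · intro J J'
    refine ⟨J ∪ J', le_inf ?_ ?_⟩
    · apply Groth.Agent.Lib.PolyFrobH3.polySub_mono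
      apply Groth.Agent.Lib.PSFrobFamilyH3.frobSubring_mono
      exact Groth.Agent.Lib.PBasisH3.kJ_anti p Bas Finset.subset_union_left
    · apply Groth.Agent.Lib.PolyFrobH3.polySub_mono
      apply Groth.Agent.Lib.PSFrobFamilyH3.frobSubring_mono
      exact Groth.Agent.Lib.PBasisH3.kJ_anti p Bas Finset.subset_union_right
  · intro J
    haveI := hFfin J
    haveI : Module.Finite (frobSubring (σ := Fin n) p (F J)) (MvPowerSeries (Fin n) k) :=
      (Groth.Agent.Lib.PSFrobFamilyH3.free_finite (σ := Fin n) p (F J)).2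
    exact Groth.Agent.Lib.PolyFrobH3.finite_polySub p (frobSubring (σ := Fin n) p (F J))
  · intro x
    haveI : Nonempty (Finset Bas) := ⟨∅⟩
    refine Groth.Agent.Lib.PolyFrobH3.forall_mem_closure_iff p
      (fun J : Finset Bas => polySub (τ := Fin m) p (frobSubring (σ := Fin n) p (F J))) ?_ ?_ ?_ x
    · intro J b
      exact Groth.Agent.Lib.PolyFrobH3.pow_p_mem p _
        (fun y => Groth.Agent.Lib.PSFrobFamilyH3.pow_p_mem p (F J) (hFpow J) y) b
    · intro J f b c hb hc hb0 hfb
      obtain ⟨π, h1, h2, h3⟩ := exists_retraction (σ := Fin n) p (F J)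
      haveI : IsDomain (MvPowerSeries (Fin n) k) := NoZeroDivisors.to_isDomain _
      exact Groth.Agent.Lib.PolyFrobH3.mem_of_mul_eq p _ π h1 h2 h3 f b c hb hc hb0 hfb
    · intro f hf
      haveI : Nonempty (Finset Bas) := ⟨∅⟩
      exact Groth.Agent.Lib.PolyFrobH3.exists_pow_eq p
        (fun J : Finset Bas => frobSubring (σ := Fin n) p (F J))
        (fun y hy => Groth.Agent.Lib.PSFrobFamilyH3.exists_pow_eq p F hFinf y hy) f hf

end Main

end Groth.Agent.Lib.PolyPSGenericH3
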