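import Mathlib

/-!
# Helpers for "A R1 ⇒ A[X] R1" (helper6)

* `dvr_of_map_eq_span`: a Noetherian domain localized at a nonzero prime whose extension is
  principal is a DVR.
* `horizontal_map_eq_span`: if `P ∩ A = 0`, `P ≠ ⊥`, then `P·A[X]_P` is principal.
* `vertical_map_eq_span`: if `P = p A[X]` and `p A_p` is principal, then so is `P·A[X]_P`.
-/

set_option autoImplicit false
universe u
open Polynomial

namespace Groth.Agent.Lib.PolyR1

theorem dvr_of_map_eq_span {R : Type u} [CommRing R] [IsDomain R] [IsNoetherianRing R]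
    (P : Ideal R) [P.IsPrime] (hP0 : P ≠ ⊥) (x : Localization.AtPrime P)
    (hx : P.map (algebraMap R (Localization.AtPrime P)) = Ideal.span {x}) :
    IsDiscreteValuationRing (Localization.AtPrime P) := by
  haveI : IsNoetherianRing (Localization.AtPrime P) :=
    IsLocalization.isNoetherianRing P.primeCompl _ inferInstance
  have hinj : Function.Injective (algebraMap R (Localization.AtPrime P)) :=
    IsLocalization.injective _ P.primeCompl_le_nonZeroDivisors
  have hmax : IsLocalRing.maximalIdeal (Localization.AtPrime P) = Ideal.span {x} := by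
    rw [← hx]; exact (Localization.AtPrime.map_eq_maximalIdeal).symm
  have hnf : ¬ IsField (Localization.AtPrime P) := by
    rw [IsLocalRing.isField_iff_maximalIdeal_eq]
    intro hbot
    apply hP0
    rw [eq_bot_iff]
    intro y hy
    have : algebraMap R (Localization.AtPrime P) y ∈
        IsLocalRing.maximalIdeal (Localization.AtPrime P) := by
      rw [← Localization.AtPrime.map_eq_maximalIdeal]
      exact Ideal.mem_map_of_mem _ hy
    rw [hbot, Ideal.mem_bot] at this
    rw [Ideal.mem_bot]
    exact hinj (by rw [this, map_zero])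
  refine ((IsDiscreteValuationRing.TFAE (Localization.AtPrime P) hnf).out 0 4).2 ?_
  rw [hmax]
  exact ⟨⟨x, rfl⟩⟩

/-- Pseudo-division by a minimal-degree element. -/
theorem exists_pow_mul_eq_mul {A : Type u} [CommRing A] [IsDomain A] (P : Ideal A[X])
    (f : A[X]) (hfP : f ∈ P) (hf0 : f ≠ 0)
    (hmin : ∀ g ∈ P, g ≠ 0 → f.natDegree ≤ g.natDegree) :
    ∀ g ∈ P, ∃ (k : ℕ) (q : A[X]), C f.leadingCoeff ^ k * g = q * f := by
  have ha0 : f.leadingCoeff ≠ 0 := Polynomial.leadingCoeff_ne_zero.2 hf0
  intro g
  induction h : g.natDegree using Nat.strong_induction_on generalizing g with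
  | _ n ih =>
    intro hgP
    by_cases hg0 : g = 0
    · exact ⟨0, 0, by rw [hg0]; simp⟩
    have hdn : f.natDegree ≤ g.natDegree := hmin g hgP hg0
    obtain ⟨g', hg'⟩ : ∃ g' : A[X], g' = C f.leadingCoeff * g -
        C g.leadingCoeff * X ^ (g.natDegree - f.natDegree) * f := ⟨_, rfl⟩
    have hg'P : g' ∈ P := by
      rw [hg']
      exact P.sub_mem (P.mul_mem_left _ hgP) (P.mul_mem_left _ hfP)
    have hCa0 : (C f.leadingCoeff : A[X]) ≠ 0 := by
      rw [Ne, Polynomial.C_eq_zero]; exact ha0
    have hp0 : C f.leadingCoeff * g ≠ 0 := mul_ne_zero hCa0 hg0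
    have hglc : g.leadingCoeff ≠ 0 := Polynomial.leadingCoeff_ne_zero.2 hg0
    have hq0 : C g.leadingCoeff * X ^ (g.natDegree - f.natDegree) * f ≠ 0 := by
      refine mul_ne_zero (mul_ne_zero ?_ (pow_ne_zero _ Polynomial.X_ne_zero)) hf0
      rw [Ne, Polynomial.C_eq_zero]; exact hglc
    have hdeg : (C f.leadingCoeff * g).degree =
        (C g.leadingCoeff * X ^ (g.natDegree - f.natDegree) * f).degree := by
      rw [Polynomial.degree_mul, Polynomial.degree_mul, Polynomial.degree_mul,
        Polynomial.degree_C ha0, Polynomial.degree_C hglc, Polynomial.degree_X_pow,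
        Polynomial.degree_eq_natDegree hg0, Polynomial.degree_eq_natDegree hf0, zero_add, zero_add,
        ← Nat.cast_add, Nat.sub_add_cancel hdn]
    have hlc : (C f.leadingCoeff * g).leadingCoeff =
        (C g.leadingCoeff * X ^ (g.natDegree - f.natDegree) * f).leadingCoeff := by
      rw [Polynomial.leadingCoeff_mul, Polynomial.leadingCoeff_mul, Polynomial.leadingCoeff_mul,
        Polynomial.leadingCoeff_C, Polynomial.leadingCoeff_C, Polynomial.leadingCoeff_X_pow,
        mul_one, mul_comm]
    have hlt : g'.degree < (C f.leadingCoeff * g).degree := by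
      rw [hg']; exact Polynomial.degree_sub_lt_left hdeg hp0 hlc
    have hdegp : (C f.leadingCoeff * g).degree = g.degree := by
      rw [Polynomial.degree_mul, Polynomial.degree_C ha0, zero_add]
    rw [hdegp] at hlt
    by_cases hg'0 : g' = 0
    · refine ⟨1, C g.leadingCoeff * X ^ (g.natDegree - f.natDegree), ?_⟩
      rw [hg'0] at hg'
      rw [pow_one]
      exact (sub_eq_zero.1 hg'.symm)
    · have hnlt : g'.natDegree < n := by
        rw [← h]; exact Polynomial.natDegree_lt_natDegree hg'0 hlt
      obtain ⟨k, q, hkq⟩ := ih g'.natDegree hnlt g' rfl hg'P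
      refine ⟨k + 1, q + C f.leadingCoeff ^ k * (C g.leadingCoeff *
        X ^ (g.natDegree - f.natDegree)), ?_⟩
      have : C f.leadingCoeff * g = g' +
          C g.leadingCoeff * X ^ (g.natDegree - f.natDegree) * f := by rw [hg']; ring
      rw [pow_succ, mul_assoc, this, mul_add, hkq]
      ring

theorem horizontal_map_eq_span {A : Type u} [CommRing A] [IsDomain A] (P : Ideal A[X])
    [P.IsPrime] (hP0 : P ≠ ⊥) (hcomap : P.comap (C : A →+* A[X]) = ⊥) :
    ∃ x : Localization.AtPrime P,
      P.map (algebraMap A[X] (Localization.AtPrime P)) = Ideal.span {x} := by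
  classical
  have hex : ∃ n : ℕ, ∃ f ∈ P, f ≠ 0 ∧ f.natDegree = n := by
    obtain ⟨f, hfP, hf0⟩ := Submodule.exists_mem_ne_zero_of_ne_bot hP0
    exact ⟨_, f, hfP, hf0, rfl⟩
  obtain ⟨f, hfP, hf0, hfn⟩ := Nat.find_spec hex
  have hmin : ∀ g ∈ P, g ≠ 0 → f.natDegree ≤ g.natDegree := by
    intro g hgP hg0
    rw [hfn]
    exact Nat.find_min' hex ⟨g, hgP, hg0, rfl⟩
  have hdiv := exists_pow_mul_eq_mul P f hfP hf0 hmin
  have ha0 : f.leadingCoeff ≠ 0 := Polynomial.leadingCoeff_ne_zero.2 hf0
  have hCa : (C f.leadingCoeff : A[X]) ∉ P := by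
    intro hmem
    have : f.leadingCoeff ∈ P.comap (C : A →+* A[X]) := hmem
    rw [hcomap, Ideal.mem_bot] at this
    exact ha0 this
  have hunit : IsUnit (algebraMap A[X] (Localization.AtPrime P) (C f.leadingCoeff)) :=
    IsLocalization.map_units (Localization.AtPrime P) (⟨_, hCa⟩ : P.primeCompl)
  refine ⟨algebraMap A[X] (Localization.AtPrime P) f, le_antisymm ?_ ?_⟩
  · rw [Ideal.map_le_iff_le_comap]
    intro g hgP
    rw [Ideal.mem_comap, Ideal.mem_span_singleton']
    obtain ⟨k, q, hkq⟩ := hdiv g hgP
    have hk : IsUnit (algebraMap A[X] (Localization.AtPrime P) (C f.leadingCoeff) ^ k) :=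
      hunit.pow k
    obtain ⟨u, hu⟩ := hk
    refine ⟨↑u⁻¹ * algebraMap A[X] (Localization.AtPrime P) q, ?_⟩
    have h2 : algebraMap A[X] (Localization.AtPrime P) (C f.leadingCoeff) ^ k *
        algebraMap A[X] (Localization.AtPrime P) g =
        algebraMap A[X] (Localization.AtPrime P) q * algebraMap A[X] (Localization.AtPrime P) f := by
      rw [← map_pow, ← map_mul, ← map_mul, hkq]
    rw [← hu] at h2
    rw [mul_assoc, ← h2, ← mul_assoc, Units.inv_mul, one_mul]
  · rw [Ideal.span_le, Set.singleton_subset_iff]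
    exact Ideal.mem_map_of_mem _ hfP

theorem vertical_map_eq_span {A : Type u} [CommRing A] [IsDomain A] (p : Ideal A) [p.IsPrime]
    (P : Ideal A[X]) [P.IsPrime] (hPp : P = p.map (C : A →+* A[X]))
    (hcomap : P.comap (C : A →+* A[X]) = p)
    (a0 : A) (ha0 : a0 ∈ p) (h : ∀ b ∈ p, ∃ t, t ∉ p ∧ ∃ c, t * b = a0 * c) :
    P.map (algebraMap A[X] (Localization.AtPrime P)) =
      Ideal.span {algebraMap A[X] (Localization.AtPrime P) (C a0)} := by
  apply le_antisymm
  · have : P.map (algebraMap A[X] (Localization.AtPrime P)) =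
        p.map ((algebraMap A[X] (Localization.AtPrime P)).comp (C : A →+* A[X])) := by
      rw [← Ideal.map_map]
      exact congrArg (Ideal.map (algebraMap A[X] (Localization.AtPrime P))) hPp
    rw [this, Ideal.map_le_iff_le_comap]
    intro b hb
    rw [Ideal.mem_comap, RingHom.comp_apply, Ideal.mem_span_singleton']
    obtain ⟨t, htp, c, htc⟩ := h b hb
    have hCt : (C t : A[X]) ∉ P := by
      intro hmem
      have : t ∈ P.comap (C : A →+* A[X]) := hmem
      rw [hcomap] at this
      exact htp this
    have hunit : IsUnit (algebraMap A[X] (Localization.AtPrime P) (C t)) :=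
      IsLocalization.map_units (Localization.AtPrime P) (⟨_, hCt⟩ : P.primeCompl)
    obtain ⟨u, hu⟩ := hunit
    refine ⟨↑u⁻¹ * algebraMap A[X] (Localization.AtPrime P) (C c), ?_⟩
    have h2 : algebraMap A[X] (Localization.AtPrime P) (C t) *
        algebraMap A[X] (Localization.AtPrime P) (C b) =
        algebraMap A[X] (Localization.AtPrime P) (C a0) *
          algebraMap A[X] (Localization.AtPrime P) (C c) := by
      rw [← map_mul, ← map_mul, htc, map_mul, map_mul]
    rw [← hu] at h2
    rw [mul_assoc, mul_comm (algebraMap A[X] (Localization.AtPrime P) (C c)), ← h2, ← mul_assoc,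
      Units.inv_mul, one_mul]
  · rw [Ideal.span_le, Set.singleton_subset_iff]
    apply Ideal.mem_map_of_mem
    rw [hPp]
    exact Ideal.mem_map_of_mem _ ha0

/-- In a DVR localization `A_p`, the ideal `p` is "locally principal" in the explicit sense. -/
theorem exists_local_generator {A : Type u} [CommRing A] [IsDomain A] (p : Ideal A) [p.IsPrime]
    [IsDiscreteValuationRing (Localization.AtPrime p)] :
    ∃ a0 ∈ p, ∀ b ∈ p, ∃ t, t ∉ p ∧ ∃ c, t * b = a0 * c := by
  obtain ⟨π, hπ⟩ := IsDiscreteValuationRing.exists_irreducible (Localization.AtPrime p)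
  have hmax : IsLocalRing.maximalIdeal (Localization.AtPrime p) = Ideal.span {π} :=
    (IsDiscreteValuationRing.irreducible_iff_uniformizer π).1 hπ
  obtain ⟨⟨a0, s⟩, hs⟩ := IsLocalization.mk'_surjective p.primeCompl π
  have hπs : π * algebraMap A (Localization.AtPrime p) s = algebraMap A (Localization.AtPrime p) a0 := by
    rw [← hs, IsLocalization.mk'_spec]
  have hsunit : IsUnit (algebraMap A (Localization.AtPrime p) s) :=
    IsLocalization.map_units (Localization.AtPrime p) s
  have hmem_iff : ∀ y : A, algebraMap A (Localization.AtPrime p) y ∈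
      IsLocalRing.maximalIdeal (Localization.AtPrime p) ↔ y ∈ p := by
    intro y
    have := Localization.AtPrime.under_maximalIdeal (I := p)
    conv_rhs => rw [← this]
    rfl
  have ha0p : a0 ∈ p := by
    rw [← hmem_iff, ← hπs, hmax]
    exact Ideal.mul_mem_right _ _ (Ideal.mem_span_singleton_self π)
  refine ⟨a0, ha0p, ?_⟩
  intro b hb
  have hb' : algebraMap A (Localization.AtPrime p) b ∈ Ideal.span {π} := by
    rw [← hmax, hmem_iff]; exact hb
  rw [Ideal.mem_span_singleton'] at hb'
  obtain ⟨y, hy⟩ := hb'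
  obtain ⟨⟨c, t⟩, hct⟩ := IsLocalization.mk'_surjective p.primeCompl y
  have hyt : y * algebraMap A (Localization.AtPrime p) t = algebraMap A (Localization.AtPrime p) c := by
    rw [← hct, IsLocalization.mk'_spec]
  -- alg (s * t * b) = alg (a0 * c)
  have heq : algebraMap A (Localization.AtPrime p) ((s : A) * t * b) =
      algebraMap A (Localization.AtPrime p) (a0 * c) := by
    rw [map_mul, map_mul, map_mul, ← hy, ← hπs, ← hyt]
    ring
  have hinj : Function.Injective (algebraMap A (Localization.AtPrime p)) :=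
    IsLocalization.injective _ p.primeCompl_le_nonZeroDivisors
  refine ⟨(s : A) * t, ?_, c, hinj heq⟩
  exact (s * t).2

end Groth.Agent.Lib.PolyR1
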