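import Mathlib
import Groth.Prelude.Def_W4sga6xxiiiPolyMap

open TensorProduct

namespace Groth.Agent.Lib.PolyUnits

universe u

variable {A : Type u} [CommRing A]

/-- the truncated binomial series. -/
noncomputable def E (a : A) (m : ℕ) (n : ℤ) : A :=
  ∑ k ∈ Finset.range (m + 1), ((Ring.choose n k : ℤ) : A) * a ^ k

theorem E_zero (a : A) (m : ℕ) : E a m 0 = 1 := by
  unfold E
  rw [Finset.sum_range_succ']
  have h : ∀ k ∈ Finset.range m, ((Ring.choose (0 : ℤ) (k + 1) : ℤ) : A) * a ^ (k + 1) = 0 := by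
    intro k _
    rw [Ring.choose_zero_succ, Int.cast_zero, zero_mul]
  rw [Finset.sum_eq_zero h, Ring.choose_zero_right, Int.cast_one, pow_zero, mul_one, zero_add]

theorem E_succ (a : A) (m : ℕ) (ha : a ^ (m + 1) = 0) (n : ℤ) :
    E a m (n + 1) = E a m n * (1 + a) := by
  unfold E
  rw [mul_add, mul_one, Finset.sum_mul]
  have h2 : ∑ k ∈ Finset.range (m + 1), ((Ring.choose n k : ℤ) : A) * a ^ k * a =
      ∑ k ∈ Finset.range m, ((Ring.choose n k : ℤ) : A) * a ^ (k + 1) := by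
    rw [Finset.sum_range_succ, mul_assoc, ← pow_succ, ha, mul_zero, add_zero]
    exact Finset.sum_congr rfl (fun k _ => by rw [mul_assoc, ← pow_succ])
  have h1 : ∑ k ∈ Finset.range (m + 1), ((Ring.choose (n + 1) k : ℤ) : A) * a ^ k =
      ∑ k ∈ Finset.range m, ((Ring.choose (n + 1) (k + 1) : ℤ) : A) * a ^ (k + 1) +
        ((Ring.choose (n + 1) 0 : ℤ) : A) * a ^ 0 := Finset.sum_range_succ' _ m
  have h3 : ∑ k ∈ Finset.range (m + 1), ((Ring.choose n k : ℤ) : A) * a ^ k =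
      ∑ k ∈ Finset.range m, ((Ring.choose n (k + 1) : ℤ) : A) * a ^ (k + 1) +
        ((Ring.choose n 0 : ℤ) : A) * a ^ 0 := Finset.sum_range_succ' _ m
  have h4 : ∑ k ∈ Finset.range m, ((Ring.choose (n + 1) (k + 1) : ℤ) : A) * a ^ (k + 1) =
      ∑ k ∈ Finset.range m, ((Ring.choose n k : ℤ) : A) * a ^ (k + 1) +
        ∑ k ∈ Finset.range m, ((Ring.choose n (k + 1) : ℤ) : A) * a ^ (k + 1) := by
    rw [← Finset.sum_add_distrib]
    exact Finset.sum_congr rfl (fun k _ => by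
      rw [Ring.choose_succ_succ, Int.cast_add, add_mul])
  rw [h2, h1, h3, h4, Ring.choose_zero_right, Ring.choose_zero_right]
  ring

theorem coe_zpow_eq_E (a : A) (m : ℕ) (ha : a ^ (m + 1) = 0) (u : Aˣ) (hu : (u : A) = 1 + a)
    (n : ℤ) : ((u ^ n : Aˣ) : A) = E a m n := by
  induction n using Int.induction_on with
  | zero => rw [zpow_zero, Units.val_one, E_zero]
  | succ i ih =>
    rw [zpow_add_one, Units.val_mul, ih, E_succ a m ha, hu]
  | pred i ih =>
    have h1 : E a m (-(i : ℤ)) = E a m (-(i : ℤ) - 1) * (1 + a) := by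
      have := E_succ a m ha (-(i : ℤ) - 1)
      rwa [sub_add_cancel] at this
    rw [zpow_sub_one, Units.val_mul, ih, h1, ← hu, mul_assoc, Units.mul_inv, mul_one]

theorem main (A : Type u) [CommRing A] (I : Ideal A) (m : ℕ) (hI : I ^ (m + 1) = ⊥)
    (P : Subgroup Aˣ) (hP : ∀ u : Aˣ, u ∈ P ↔ (u : A) - 1 ∈ I) :
    W4sga6xxiii.IsPolyMapLE
      (fun u : Additive P => (((Additive.toMul u : P) : Aˣ) : A) ⊗ₜ[ℤ] (1 : ℚ)) m := by
  classical
  intro r x
  let ν : P →* A := (Units.coeHom A).comp P.subtype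
  let a : Fin r → A := fun i => (((Additive.toMul (x i) : P) : Aˣ) : A) - 1
  have haI : ∀ i, a i ∈ I := fun i => (hP _).1 (Additive.toMul (x i)).2
  have ha0 : ∀ i, a i ^ (m + 1) = 0 := by
    intro i
    have : a i ^ (m + 1) ∈ I ^ (m + 1) := Ideal.pow_mem_pow (haI i) _
    rw [hI] at this
    exact (Ideal.mem_bot).1 this
  have hu : ∀ i, (((Additive.toMul (x i) : P) : Aˣ) : A) = 1 + a i := by
    intro i; simp only [a]; ring
  refine ⟨fun k => (∏ i, a i ^ (k i : ℕ)) ⊗ₜ[ℤ] (1 : ℚ), ?_, ?_⟩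
  · intro k hk
    have h1 : ∏ i, a i ^ (k i : ℕ) ∈ ∏ i : Fin r, I ^ (k i : ℕ) :=
      Ideal.prod_mem_prod (fun i _ => Ideal.pow_mem_pow (haI i) _)
    rw [Finset.prod_pow_eq_pow_sum] at h1
    have h2 : I ^ (∑ i, (k i : ℕ)) ≤ I ^ (m + 1) := Ideal.pow_le_pow_right (by omega)
    have h3 := h2 h1
    rw [hI] at h3
    show (∏ i, a i ^ (k i : ℕ)) ⊗ₜ[ℤ] (1 : ℚ) = 0
    rw [(Ideal.mem_bot).1 h3, TensorProduct.zero_tmul]
  · intro n
    have hg : (((Additive.toMul (∑ i, n i • x i) : P) : Aˣ) : A) = ∏ i, E (a i) m (n i) := by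
      have h1 : (((Additive.toMul (∑ i, n i • x i) : P) : Aˣ) : A) =
          ν (∏ i, Additive.toMul (x i) ^ n i) := by
        show ν (Additive.toMul (∑ i, n i • x i)) = _
        rw [toMul_sum]
        simp only [toMul_zsmul]
      rw [h1, map_prod]
      refine Finset.prod_congr rfl (fun i _ => ?_)
      show (((Additive.toMul (x i) ^ n i : P) : Aˣ) : A) = _
      rw [Subgroup.coe_zpow]
      exact coe_zpow_eq_E (a i) m (ha0 i) _ (hu i) (n i)
    have hexp : ∏ i, E (a i) m (n i) =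
        ∑ k : Fin r → Fin (m + 1),
          ((∏ i, Ring.choose (n i) (k i : ℕ) : ℤ) : A) * ∏ i, a i ^ (k i : ℕ) := by
      have h1 : ∀ i, E (a i) m (n i) =
          ∑ k : Fin (m + 1), ((Ring.choose (n i) (k : ℕ) : ℤ) : A) * a i ^ (k : ℕ) := by
        intro i
        unfold E
        rw [Finset.sum_range]
      simp only [h1]
      rw [Finset.prod_univ_sum, Fintype.piFinset_univ]
      refine Finset.sum_congr rfl (fun k _ => ?_)
      rw [Finset.prod_mul_distrib, Int.cast_prod]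
    show (((Additive.toMul (∑ i, n i • x i) : P) : Aˣ) : A) ⊗ₜ[ℤ] (1 : ℚ) = _
    rw [hg, hexp, TensorProduct.sum_tmul]
    refine Finset.sum_congr rfl (fun k _ => ?_)
    show _ = (∏ i, Ring.choose (n i) (k i : ℕ)) • ((∏ i, a i ^ (k i : ℕ)) ⊗ₜ[ℤ] (1 : ℚ))
    rw [TensorProduct.smul_tmul', zsmul_eq_mul]

end Groth.Agent.Lib.PolyUnits
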