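import Mathlib

set_option autoImplicit false
universe v u
set_option linter.style.haveILetI false

namespace Groth.Agent.Lib.PostnikovH4

open CategoryTheory Limits Pretriangulated

variable {D : Type u} [Category.{v} D] [Preadditive D] [HasZeroObject D] [HasShift D ℤ]
  [∀ n : ℤ, (shiftFunctor D n).Additive] [Pretriangulated D]

variable (X : ChainComplex D ℕ)

structure St (m : ℕ) where
  Y : D
  a : Y ⟶ X.X m

variable {X}

open Classical in
noncomputable def beta {m : ℕ} (s : St X m) : X.X (m+1) ⟶ s.Y :=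
  if h : ∃ β : X.X (m+1) ⟶ s.Y, β ≫ s.a = X.d (m+1) m then h.choose else 0

lemma beta_spec {m : ℕ} (s : St X m) (h : ∃ β : X.X (m+1) ⟶ s.Y, β ≫ s.a = X.d (m+1) m) :
    beta s ≫ s.a = X.d (m+1) m := by
  unfold beta
  rw [dif_pos h]
  exact h.choose_spec

noncomputable def next {m : ℕ} (s : St X m) : St X (m+1) :=
  ⟨(distinguished_cocone_triangle₁ (beta s)).choose,
   (distinguished_cocone_triangle₁ (beta s)).choose_spec.choose⟩

noncomputable def cc {m : ℕ} (s : St X m) : s.Y ⟶ ((next s).Y)⟦(1 : ℤ)⟧ :=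
  (distinguished_cocone_triangle₁ (beta s)).choose_spec.choose_spec.choose

lemma next_dist {m : ℕ} (s : St X m) :
    Triangle.mk (next s).a (beta s) (cc s) ∈ distTriang D :=
  (distinguished_cocone_triangle₁ (beta s)).choose_spec.choose_spec.choose_spec

variable (X) in
noncomputable def stage : (m : ℕ) → St X m
  | 0 => ⟨X.X 0, 𝟙 _⟩
  | (m+1) => next (stage m)

lemma eq_zero_of_next {m : ℕ} (s : St X m) {W : D} (φ : W ⟶ (next s).Y)
    (h0 : φ ≫ (next s).a = 0) (hW : ∀ g : W⟦(1 : ℤ)⟧ ⟶ s.Y, g = 0) : φ = 0 := by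
  obtain ⟨g, hg⟩ := Triangle.coyoneda_exact₁ _ (next_dist s) (φ⟦(1 : ℤ)⟧') (by
    show φ⟦(1 : ℤ)⟧' ≫ ((next s).a)⟦(1 : ℤ)⟧' = 0
    rw [← Functor.map_comp, h0, Functor.map_zero])
  have hg' : (shiftFunctor D (1 : ℤ)).map φ = 0 := by
    refine hg.trans ?_
    rw [hW g]
    exact zero_comp
  exact (shiftFunctor D (1 : ℤ)).map_injective (by rw [hg', Functor.map_zero])

section

variable (n : ℕ)
  (hX : ∀ i j : ℕ, j + 2 < i → i ≤ n →
    ∀ φ : (shiftFunctor D ((i : ℤ) - j - 2)).obj (X.X i) ⟶ X.X j, φ = 0)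

include hX

lemma hX' (i j : ℕ) (t : ℤ) (hji : j + 2 < i) (hi : i ≤ n) (ht : t = (i : ℤ) - j - 2)
    (φ : (X.X i)⟦t⟧ ⟶ X.X j) : φ = 0 := by
  subst ht
  exact hX i j hji hi φ

lemma P (m : ℕ) : ∀ (i : ℕ) (t : ℤ), i ≤ n → m + 2 < i → t = (i : ℤ) - m - 2 →
    ∀ φ : (X.X i)⟦t⟧ ⟶ (stage X m).Y, φ = 0 := by
  induction m with
  | zero =>
    intro i t hi hmi ht φ
    exact hX' n hX i 0 t hmi hi ht φ
  | succ m ih =>
    intro i t hi hmi ht φ
    refine eq_zero_of_next (stage X m) φ ?_ ?_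
    · exact hX' n hX i (m+1) t hmi hi ht _
    · intro g
      have h1 := ih i (t+1) hi (by omega) (by push_cast at ht ⊢; omega)
        ((shiftFunctorAdd' D t 1 (t+1) rfl).hom.app (X.X i) ≫ g)
      calc g = (shiftFunctorAdd' D t 1 (t+1) rfl).inv.app (X.X i) ≫
            (shiftFunctorAdd' D t 1 (t+1) rfl).hom.app (X.X i) ≫ g := by simp
        _ = 0 := by rw [h1, comp_zero]

lemma V0 (m : ℕ) (hm : m + 2 ≤ n) (φ : X.X (m+1+1) ⟶ (stage X m).Y)
    (h0 : φ ≫ (stage X m).a = 0) : φ = 0 := by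
  cases m with
  | zero =>
    have h1 : φ ≫ 𝟙 _ = 0 := h0
    simpa using h1
  | succ m =>
    refine eq_zero_of_next (stage X m) φ h0 ?_
    intro g
    exact P n hX m (m+1+1+1) 1 hm (by omega) (by push_cast; ring) g

lemma L (m : ℕ) (hm : m < n) :
    ∃ β : X.X (m+1) ⟶ (stage X m).Y, β ≫ (stage X m).a = X.d (m+1) m := by
  induction m with
  | zero => exact ⟨X.d (0+1) 0, by show X.d (0+1) 0 ≫ 𝟙 _ = _; simp⟩
  | succ m ih =>
    have hz : X.d (m+1+1) (m+1) ≫ beta (stage X m) = 0 := by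
      refine V0 n hX m (by omega) _ ?_
      rw [Category.assoc, beta_spec (stage X m) (ih (by omega)), X.d_comp_d]
    obtain ⟨β, hβ⟩ := Triangle.coyoneda_exact₂ _ (next_dist (stage X m)) (X.d (m+1+1) (m+1)) hz
    exact ⟨β, hβ.symm⟩

theorem main : ∃ (Y : ℕ → D) (a : ∀ k, Y k ⟶ X.X k) (b : ∀ k, X.X (k + 1) ⟶ Y k)
    (c : ∀ k, Y k ⟶ (shiftFunctor D (1 : ℤ)).obj (Y (k + 1))),
    IsIso (a 0) ∧ ∀ k, k < n →
      Triangle.mk (a (k + 1)) (b k) (c k) ∈ distTriang D ∧ b k ≫ a k = X.d (k + 1) k := by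
  refine ⟨fun k => (stage X k).Y, fun k => (stage X k).a, fun k => beta (stage X k),
    fun k => cc (stage X k), ?_, ?_⟩
  · show IsIso (𝟙 (X.X 0))
    infer_instance
  · intro k hk
    exact ⟨next_dist (stage X k), beta_spec _ (L n hX k hk)⟩

end

end Groth.Agent.Lib.PostnikovH4
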