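import Mathlib

namespace Groth.Agent.Lib.PowBasis

open Polynomial

universe u

theorem field_li {κ : Type*} [Field κ] (p : ℕ) [Fact p.Prime] [CharP κ p] (G : κ[X])
    (hsep : G.Separable) (s : ℕ) (d : ℕ) (hd : G.natDegree = d) :
    LinearIndependent κ (fun i : Fin d => AdjoinRoot.root G ^ (p ^ s * (i : ℕ))) := by
  classical
  subst hd
  rw [Fintype.linearIndependent_iff]
  intro c hc
  obtain ⟨h, hh⟩ : ∃ h : κ[X], h = ∑ i : Fin G.natDegree, C (c i) * X ^ (i : ℕ) := ⟨_, rfl⟩
  obtain ⟨H, hH⟩ : ∃ H : κ[X], H = ∑ i : Fin G.natDegree, C (c i) * X ^ (p ^ s * (i : ℕ)) :=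
    ⟨_, rfl⟩
  have hmkH : AdjoinRoot.mk G H = 0 := by
    refine Eq.trans ?_ hc
    rw [hH, map_sum]
    apply Finset.sum_congr rfl
    intro i _
    rw [map_mul, map_pow, AdjoinRoot.mk_C, AdjoinRoot.mk_X, Algebra.smul_def,
      AdjoinRoot.algebraMap_eq]
  have hdvd : G ∣ H := AdjoinRoot.mk_eq_zero.mp hmkH
  let Ω := AlgebraicClosure κ
  let ι : κ →+* Ω := algebraMap κ Ω
  haveI : CharP Ω p := charP_of_injective_algebraMap (algebraMap κ Ω).injective p
  haveI : ExpChar Ω p := ExpChar.prime Fact.out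
  have hcoef : ∀ i : Fin G.natDegree, h.coeff (i : ℕ) = c i := by
    intro i
    rw [hh, Polynomial.finset_sum_coeff, Finset.sum_eq_single i]
    · rw [coeff_C_mul_X_pow, if_pos rfl]
    · intro j _ hj
      rw [coeff_C_mul_X_pow, if_neg]
      intro hij
      exact hj (Fin.ext hij).symm
    · intro hi; exact absurd (Finset.mem_univ _) hi
  have hev : ∀ r : Ω, (h.map ι).eval (r ^ p ^ s) = (H.map ι).eval r := by
    intro r
    rw [hh, hH, Polynomial.map_sum, Polynomial.map_sum, eval_finset_sum, eval_finset_sum]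
    apply Finset.sum_congr rfl
    intro i _
    simp only [Polynomial.map_mul, Polynomial.map_C, Polynomial.map_pow, Polynomial.map_X,
      eval_mul, eval_C, eval_pow, eval_X]
    rw [← pow_mul]
  have hroots_nodup : (G.map ι).roots.Nodup := Polynomial.nodup_roots hsep.map
  have hcard : (G.map ι).roots.toFinset.card = G.natDegree := by
    rw [Multiset.toFinset_card_of_nodup hroots_nodup, IsAlgClosed.card_roots_eq_natDegree,
      Polynomial.natDegree_map]
  have hinjq : Function.Injective
      (fun r : ↥(G.map ι).roots.toFinset => ((r : Ω)) ^ p ^ s) := by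
    intro a b hab
    apply Subtype.ext
    apply iterateFrobenius_inj Ω p s
    rw [iterateFrobenius_def, iterateFrobenius_def]; exact hab
  have hmap0 : h.map ι = 0 := by
    by_cases h0 : h = 0
    · rw [h0, Polynomial.map_zero]
    apply eq_zero_of_natDegree_lt_card_of_eval_eq_zero (h.map ι) hinjq
    · intro r
      have hr : r.1 ∈ (G.map ι).roots := Multiset.mem_toFinset.mp r.2
      have hr' : (G.map ι).eval r.1 = 0 := (Polynomial.mem_roots'.mp hr).2
      show (h.map ι).eval ((r : Ω) ^ p ^ s) = 0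
      rw [hev]
      exact Polynomial.eval_eq_zero_of_dvd_of_eval_eq_zero (Polynomial.map_dvd ι hdvd) hr'
    · rw [Fintype.card_coe, hcard, Polynomial.natDegree_map]
      exact (Polynomial.natDegree_lt_iff_degree_lt h0).mpr
        (by rw [hh]; exact Polynomial.degree_sum_fin_lt c)
  have h0 : h = 0 := (Polynomial.map_eq_zero ι).mp hmap0
  intro i
  rw [← hcoef i, h0, coeff_zero]

theorem main {A : Type u} [CommRing A] [IsLocalRing A] (p : ℕ) [Fact p.Prime]
    [CharP (IsLocalRing.ResidueField A) p] (g : Polynomial A) (hg : g.Monic) (hsep : g.Separable)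
    (s : ℕ) :
    ∃ b : Module.Basis (Fin g.natDegree) A (AdjoinRoot g),
      ∀ i : Fin g.natDegree, b i = AdjoinRoot.root g ^ (p ^ s * (i : ℕ)) := by
  classical
  obtain ⟨res, hres⟩ : ∃ r : A →+* IsLocalRing.ResidueField A, r = IsLocalRing.residue A :=
    ⟨_, rfl⟩
  have hsurj : Function.Surjective res := by rw [hres]; exact IsLocalRing.residue_surjective
  obtain ⟨G, hGdef⟩ : ∃ G : (IsLocalRing.ResidueField A)[X], G = g.map res := ⟨_, rfl⟩
  have hG : G.Monic := by rw [hGdef]; exact hg.map res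
  have hGsep : G.Separable := by rw [hGdef]; exact hsep.map
  have hdeg : G.natDegree = g.natDegree := by rw [hGdef]; exact hg.natDegree_map res
  have hli := field_li p G hGsep s g.natDegree hdeg
  haveI : Module.Finite (IsLocalRing.ResidueField A) (AdjoinRoot G) := hG.finite_adjoinRoot
  haveI : Module.Finite A (AdjoinRoot g) := hg.finite_adjoinRoot
  have hfin : Module.finrank (IsLocalRing.ResidueField A) (AdjoinRoot G) = G.natDegree :=
    (AdjoinRoot.powerBasis' hG).finrank.trans (AdjoinRoot.powerBasis'_dim hG)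
  have hspan := hli.span_eq_top_of_card_eq_finrank' (by rw [Fintype.card_fin, hfin, hdeg])
  have key : ∀ f : A[X], AdjoinRoot.mk g f ∈
      Submodule.span A (Set.range fun i : Fin g.natDegree =>
        AdjoinRoot.root g ^ (p ^ s * (i : ℕ))) ⊔
      (IsLocalRing.maximalIdeal A) • (⊤ : Submodule A (AdjoinRoot g)) := by
    intro f
    have h1 : AdjoinRoot.mk G (f.map res) ∈ Submodule.span (IsLocalRing.ResidueField A)
        (Set.range fun i : Fin g.natDegree => AdjoinRoot.root G ^ (p ^ s * (i : ℕ))) := by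
      rw [hspan]; trivial
    obtain ⟨cbar, hcbar⟩ := (Submodule.mem_span_range_iff_exists_fun _).mp h1
    choose c hc using fun i => hsurj (cbar i)
    obtain ⟨F, hF⟩ : ∃ F : A[X],
        F = f - ∑ i : Fin g.natDegree, C (c i) * X ^ (p ^ s * (i : ℕ)) := ⟨_, rfl⟩
    have h2 : AdjoinRoot.mk G (F.map res) = 0 := by
      rw [hF, Polynomial.map_sub, map_sub, sub_eq_zero, ← hcbar, Polynomial.map_sum, map_sum]
      apply Finset.sum_congr rfl
      intro i _
      rw [Polynomial.map_mul, Polynomial.map_C, Polynomial.map_pow, Polynomial.map_X, map_mul,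
        map_pow, AdjoinRoot.mk_C, AdjoinRoot.mk_X, hc, Algebra.smul_def,
        AdjoinRoot.algebraMap_eq]
    obtain ⟨ubar, hubar⟩ := AdjoinRoot.mk_eq_zero.mp h2
    obtain ⟨u, hu⟩ := Polynomial.map_surjective res hsurj ubar
    obtain ⟨W, hWdef⟩ : ∃ W : A[X], W = F - g * u := ⟨_, rfl⟩
    have hW : W.map res = 0 := by
      rw [hWdef, Polynomial.map_sub, Polynomial.map_mul, hu, hubar, ← hGdef, sub_self]
    have hWm : ∀ n, W.coeff n ∈ IsLocalRing.maximalIdeal A := fun n => by
      rw [← IsLocalRing.residue_eq_zero_iff, ← hres, ← Polynomial.coeff_map, hW, coeff_zero]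
    have hmkW : AdjoinRoot.mk g W ∈
        (IsLocalRing.maximalIdeal A) • (⊤ : Submodule A (AdjoinRoot g)) := by
      rw [W.as_sum_range_C_mul_X_pow, map_sum]
      apply Submodule.sum_mem
      intro n _
      rw [map_mul, map_pow, AdjoinRoot.mk_C, AdjoinRoot.mk_X, ← AdjoinRoot.algebraMap_eq,
        ← Algebra.smul_def]
      exact Submodule.smul_mem_smul (hWm n) Submodule.mem_top
    have hf : f = W + g * u + ∑ i : Fin g.natDegree, C (c i) * X ^ (p ^ s * (i : ℕ)) := by
      rw [hWdef, hF]; ring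
    have hmk : AdjoinRoot.mk g f = AdjoinRoot.mk g W +
        ∑ i : Fin g.natDegree, c i • AdjoinRoot.root g ^ (p ^ s * (i : ℕ)) := by
      conv_lhs => rw [hf]
      rw [map_add, map_add, map_mul, AdjoinRoot.mk_self, zero_mul, add_zero, map_sum]
      congr 1
      apply Finset.sum_congr rfl
      intro i _
      rw [map_mul, map_pow, AdjoinRoot.mk_C, AdjoinRoot.mk_X, Algebra.smul_def,
        AdjoinRoot.algebraMap_eq]
    rw [hmk]
    exact Submodule.add_mem _ (Submodule.mem_sup_right hmkW)
      (Submodule.mem_sup_left (Submodule.sum_mem _ fun i _ =>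
        Submodule.smul_mem _ _ (Submodule.subset_span ⟨i, rfl⟩)))
  have hN : Submodule.span A (Set.range fun i : Fin g.natDegree =>
        AdjoinRoot.root g ^ (p ^ s * (i : ℕ))) = ⊤ := by
    rw [eq_top_iff]
    apply Submodule.le_of_le_smul_of_le_jacobson_bot Module.Finite.fg_top
      (IsLocalRing.maximalIdeal_le_jacobson ⊥)
    intro x _
    obtain ⟨f, rfl⟩ := AdjoinRoot.mk_surjective x
    exact key f
  have hfinA : Module.finrank A (AdjoinRoot g) = g.natDegree :=
    (AdjoinRoot.powerBasis' hg).finrank.trans (AdjoinRoot.powerBasis'_dim hg)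
  have hliA : LinearIndependent A (fun i : Fin g.natDegree =>
        AdjoinRoot.root g ^ (p ^ s * (i : ℕ))) :=
    linearIndependent_of_top_le_span_of_card_eq_finrank (by rw [hN])
      (by rw [Fintype.card_fin, hfinA])
  exact ⟨Module.Basis.mk hliA (by rw [hN]), fun i => Module.Basis.mk_apply _ _ i⟩

end Groth.Agent.Lib.PowBasis
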