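import Mathlib
import Groth.Prelude.Def_W4c1imperftorsorsPerf

/-!
# The preperfection of `R[α]/(uα, α² − v²)` (helper9)
-/

set_option autoImplicit false

universe u

namespace Groth.Agent.PrePerf

open TensorProduct W4c1imperftorsors

section General

variable (p : ℕ) [Fact p.Prime] (R : Type u) [CommRing R] [CharP R p]
  (A : Type u) [CommRing A] [Algebra R A]

/-- `a : A` viewed in the copy `ASrc p R A i`. -/
def toA (i : ℕ) (a : A) : ASrc p R A i := (aEquiv p R A i).symm a

/-- `b : ASrc p R A i` viewed in `A`. -/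
def ofA (i : ℕ) (b : ASrc p R A i) : A := aEquiv p R A i b

omit [Fact p.Prime] [CharP R p] in
@[simp] lemma ofA_toA (i : ℕ) (a : A) : ofA p R A i (toA p R A i a) = a := rfl

omit [Fact p.Prime] [CharP R p] in
@[simp] lemma toA_ofA (i : ℕ) (b : ASrc p R A i) : toA p R A i (ofA p R A i b) = b := rfl

omit [Fact p.Prime] [CharP R p] in
lemma toA_add (i : ℕ) (a b : A) : toA p R A i (a + b) = toA p R A i a + toA p R A i b := rfl

omit [Fact p.Prime] [CharP R p] in
lemma toA_mul (i : ℕ) (a b : A) : toA p R A i (a * b) = toA p R A i a * toA p R A i b := rfl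

omit [Fact p.Prime] [CharP R p] in
lemma toA_one (i : ℕ) : toA p R A i 1 = 1 := rfl

lemma src_smul_R (i : ℕ) (s : Src p R i) (r : R) :
    s • r = (srcEquiv p R i s) ^ (p ^ i) * r := by
  rw [Algebra.smul_def, algebraMap_src]

omit [Fact p.Prime] [CharP R p] in
lemma src_smul_A (i : ℕ) (s : Src p R i) (b : ASrc p R A i) :
    s • b = toA p R A i (algebraMap R A (srcEquiv p R i s) * ofA p R A i b) := by
  rw [Algebra.smul_def, algebraMap_aSrc]
  rfl

/-- Moving a scalar of `R` across the twisted tensor product. -/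
lemma tmul_algebraMap_mul (i : ℕ) (r s : R) (a : A) :
    r ⊗ₜ[Src p R i] toA p R A i (algebraMap R A s * a) =
      (s ^ (p ^ i) * r) ⊗ₜ[Src p R i] toA p R A i a := by
  have h1 : toA p R A i (algebraMap R A s * a) = ((srcEquiv p R i).symm s) • toA p R A i a := by
    rw [src_smul_A]
    rfl
  have h2 : s ^ (p ^ i) * r = ((srcEquiv p R i).symm s) • r := by
    rw [src_smul_R]
    rfl
  rw [h1, h2, TensorProduct.smul_tmul]

variable [CharP A p]

lemma relFrob_tmul (i : ℕ) (r : R) (a : A) :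
    relFrob p R A i (r ⊗ₜ[Src p R (i + 1)] toA p R A (i + 1) a) =
      r ⊗ₜ[Src p R i] toA p R A i (a ^ p) := by
  show relFrobAux p R A i (r ⊗ₜ[Src p R (i + 1)] toA p R A (i + 1) a) = _
  rw [relFrobAux, Algebra.TensorProduct.lift_tmul]
  show algebraMap R (Twist p R A i) r * ((1 : R) ⊗ₜ[Src p R i] toA p R A i (a ^ p)) = _
  rw [Algebra.TensorProduct.algebraMap_apply, Algebra.algebraMap_self, RingHom.id_apply,
    Algebra.TensorProduct.tmul_mul_tmul, mul_one, one_mul]

end General


section Model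

variable (p : ℕ) [Fact p.Prime] (R : Type u) [CommRing R] [CharP R p]
  (A : Type u) [CommRing A] [Algebra R A]

/-- The Frobenius-semilinear lift of an `R`-linear functional `c : A → R` to the `i`-th twist:
`r ⊗ a ↦ r * (c a) ^ (p ^ i)`. -/
noncomputable def coef0 (c0 : A →ₗ[R] R) (i : ℕ) : Twist p R A i →+ R :=
  TensorProduct.liftAddHom
    (AddMonoidHom.mk' (fun r : R =>
      AddMonoidHom.mk' (fun b : ASrc p R A i => r * (c0 (ofA p R A i b)) ^ (p ^ i))
        (by
          intro b b'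
          have e : ofA p R A i (b + b') = ofA p R A i b + ofA p R A i b' := rfl
          rw [e, map_add, add_pow_char_pow, mul_add]))
      (by
        intro r r'
        ext b
        show (r + r') * (c0 (ofA p R A i b)) ^ (p ^ i) =
          r * (c0 (ofA p R A i b)) ^ (p ^ i) + r' * (c0 (ofA p R A i b)) ^ (p ^ i)
        rw [add_mul]))
    (by
      intro s r b
      simp only [AddMonoidHom.mk'_apply]
      rw [src_smul_R, src_smul_A, ofA_toA, ← Algebra.smul_def, map_smul, smul_eq_mul, mul_pow]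
      ring)

lemma coef0_tmul (c0 : A →ₗ[R] R) (i : ℕ) (r : R) (a : A) :
    coef0 p R A c0 i (r ⊗ₜ[Src p R i] toA p R A i a) = r * (c0 a) ^ (p ^ i) := rfl

variable (u : R)

lemma span_le_comap_frob (i : ℕ) :
    Ideal.span ({u} : Set R) ≤
      Ideal.comap (iterateFrobenius R p i) (Ideal.span ({u ^ (p ^ i)} : Set R)) := by
  rw [Ideal.span_singleton_le_iff_mem, Ideal.mem_comap, iterateFrobenius_def]
  exact Ideal.mem_span_singleton_self _

/-- `R/(u) → R/(u^(p^i))`, induced by the `i`-th power of Frobenius. -/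
noncomputable def frobQ (i : ℕ) :
    R ⧸ Ideal.span ({u} : Set R) →+* R ⧸ Ideal.span ({u ^ (p ^ i)} : Set R) :=
  Ideal.quotientMap _ (iterateFrobenius R p i) (span_le_comap_frob p R u i)

lemma frobQ_mk (i : ℕ) (x : R) :
    frobQ p R u i (Ideal.Quotient.mk _ x) = Ideal.Quotient.mk _ (x ^ (p ^ i)) := by
  rw [frobQ, Ideal.quotientMap_mk, iterateFrobenius_def]

/-- The Frobenius-semilinear lift of `c : A → R/(u)` to the `i`-th twist:
`r ⊗ a ↦ r * Frob^i (c a)` in `R/(u^(p^i))`. -/
noncomputable def coef1 (c1 : A →ₗ[R] R ⧸ Ideal.span ({u} : Set R)) (i : ℕ) :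
    Twist p R A i →+ R ⧸ Ideal.span ({u ^ (p ^ i)} : Set R) :=
  TensorProduct.liftAddHom
    (AddMonoidHom.mk' (fun r : R =>
      AddMonoidHom.mk' (fun b : ASrc p R A i =>
        Ideal.Quotient.mk (Ideal.span ({u ^ (p ^ i)} : Set R)) r *
          frobQ p R u i (c1 (ofA p R A i b)))
        (by
          intro b b'
          have e : ofA p R A i (b + b') = ofA p R A i b + ofA p R A i b' := rfl
          rw [e, map_add, map_add, mul_add]))
      (by
        intro r r'
        ext b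
        show Ideal.Quotient.mk (Ideal.span ({u ^ (p ^ i)} : Set R)) (r + r') *
            frobQ p R u i (c1 (ofA p R A i b)) =
          Ideal.Quotient.mk (Ideal.span ({u ^ (p ^ i)} : Set R)) r *
            frobQ p R u i (c1 (ofA p R A i b)) +
          Ideal.Quotient.mk (Ideal.span ({u ^ (p ^ i)} : Set R)) r' *
            frobQ p R u i (c1 (ofA p R A i b))
        rw [map_add, add_mul]))
    (by
      intro s r b
      simp only [AddMonoidHom.mk'_apply]
      rw [src_smul_R, src_smul_A, ofA_toA, ← Algebra.smul_def, map_smul]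
      obtain ⟨y, hy⟩ := Ideal.Quotient.mk_surjective (c1 (ofA p R A i b))
      rw [← hy]
      have e : (srcEquiv p R i s) • (Ideal.Quotient.mk (Ideal.span ({u} : Set R)) y) =
          Ideal.Quotient.mk _ ((srcEquiv p R i s) * y) := rfl
      rw [e, frobQ_mk, frobQ_mk, ← map_mul, ← map_mul, mul_pow]
      congr 1
      ring)

lemma coef1_tmul (c1 : A →ₗ[R] R ⧸ Ideal.span ({u} : Set R)) (i : ℕ) (r : R) (a : A) :
    coef1 p R A u c1 i (r ⊗ₜ[Src p R i] toA p R A i a) =
      Ideal.Quotient.mk _ r * frobQ p R u i (c1 a) := rfl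

end Model


section Main

variable (p : ℕ) [Fact p.Prime] (R : Type u) [CommRing R] [CharP R p]
  (A : Type u) [CommRing A] [Algebra R A] [CharP A p]

lemma mem_prePerf_iff (x : Π j : ℕ, Twist p R A j) :
    x ∈ prePerf p R A ↔ ∀ j, relFrob p R A j (x (j + 1)) = x j := by
  unfold prePerf
  rw [Algebra.mem_iInf]
  rfl

lemma coe_algebraMap_prePerf (a : R) (j : ℕ) :
    ((algebraMap R ↥(prePerf p R A) a : ↥(prePerf p R A)) : Π j : ℕ, Twist p R A j) j =
      a ⊗ₜ[Src p R j] toA p R A j 1 := by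
  show algebraMap R (Twist p R A j) a = _
  rw [Algebra.TensorProduct.algebraMap_apply, Algebra.algebraMap_self, RingHom.id_apply]
  rfl

theorem bijective_of_model (hp2 : p ≠ 2) (u v : R)
    (hsep : ∀ N : ℕ, 1 ≤ N → ∀ g : R,
      (∀ n : ℕ, g ∈ Ideal.span {v ^ n} ⊔ Ideal.span {u ^ N}) → g ∈ Ideal.span {u ^ N})
    (α : A) (hα1 : algebraMap R A u * α = 0) (hα2 : α ^ 2 = algebraMap R A (v ^ 2))
    (hspan : ∀ b : A, ∃ s s' : R, b = algebraMap R A s + algebraMap R A s' * α)
    (c0 : A →ₗ[R] R) (c1 : A →ₗ[R] R ⧸ Ideal.span ({u} : Set R))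
    (h01 : c0 1 = 1) (h0α : c0 α = 0) (h11 : c1 1 = 0) (h1α : c1 α = 1) :
    Function.Bijective (algebraMap R ↥(prePerf p R A)) := by
  have hpr : p.Prime := Fact.out
  obtain ⟨k, hk⟩ : ∃ k, p = 2 * k + 1 := by
    rcases hpr.eq_two_or_odd' with h | h
    · exact absurd h hp2
    · exact h
  have hk1 : 1 ≤ k := by
    have := hpr.two_le
    omega
  have hαp : α ^ p = algebraMap R A (v ^ (2 * k)) * α := by
    have e : α ^ p = (α ^ 2) ^ k * α := by
      conv_lhs => rw [hk]
      rw [pow_succ, pow_mul]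
    rw [e, hα2, ← map_pow, ← pow_mul]
  have hppos : ∀ i : ℕ, 0 < p ^ i := fun i => pow_pos hpr.pos i
  -- normal form
  have hnf : ∀ (i : ℕ) (x : Twist p R A i), ∃ a b : R,
      x = a ⊗ₜ[Src p R i] toA p R A i 1 + b ⊗ₜ[Src p R i] toA p R A i α := by
    intro i x
    induction x using TensorProduct.induction_on with
    | zero => exact ⟨0, 0, by rw [zero_tmul, zero_tmul, add_zero]⟩
    | tmul r y =>
      obtain ⟨s, s', hy⟩ := hspan (ofA p R A i y)
      refine ⟨s ^ (p ^ i) * r, s' ^ (p ^ i) * r, ?_⟩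
      have : y = toA p R A i (algebraMap R A s * 1) + toA p R A i (algebraMap R A s' * α) := by
        rw [← toA_add, mul_one, ← hy, toA_ofA]
      rw [this, tmul_add, tmul_algebraMap_mul, tmul_algebraMap_mul]
    | add x y hx hy =>
      obtain ⟨a, b, rfl⟩ := hx
      obtain ⟨a', b', rfl⟩ := hy
      exact ⟨a + a', b + b', by rw [add_tmul, add_tmul]; abel⟩
  -- coefficient extraction
  have hc0 : ∀ (i : ℕ) (a b : R), coef0 p R A c0 i
      (a ⊗ₜ[Src p R i] toA p R A i 1 + b ⊗ₜ[Src p R i] toA p R A i α) = a := by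
    intro i a b
    rw [map_add, coef0_tmul, coef0_tmul, h01, h0α, one_pow, zero_pow (hppos i).ne', mul_one,
      mul_zero, add_zero]
  have hc1 : ∀ (i : ℕ) (a b : R), coef1 p R A u c1 i
      (a ⊗ₜ[Src p R i] toA p R A i 1 + b ⊗ₜ[Src p R i] toA p R A i α) =
        Ideal.Quotient.mk _ b := by
    intro i a b
    rw [map_add, coef1_tmul, coef1_tmul, h11, h1α, map_zero, map_one, mul_zero, mul_one, zero_add]
  -- Frobenius on normal forms
  have hF : ∀ (i : ℕ) (a b : R), relFrob p R A i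
      (a ⊗ₜ[Src p R (i + 1)] toA p R A (i + 1) 1 + b ⊗ₜ[Src p R (i + 1)] toA p R A (i + 1) α) =
        a ⊗ₜ[Src p R i] toA p R A i 1 +
          (v ^ (2 * k * p ^ i) * b) ⊗ₜ[Src p R i] toA p R A i α := by
    intro i a b
    rw [map_add, relFrob_tmul, relFrob_tmul, one_pow, hαp, tmul_algebraMap_mul, ← pow_mul]
  -- killing
  have hkill : ∀ (i : ℕ) (b : R), b ∈ Ideal.span ({u ^ (p ^ i)} : Set R) →
      b ⊗ₜ[Src p R i] toA p R A i α = 0 := by
    intro i b hb
    obtain ⟨c, rfl⟩ := Ideal.mem_span_singleton'.mp hb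
    rw [mul_comm, ← tmul_algebraMap_mul, hα1]
    exact tmul_zero _ _
  constructor
  · intro a a' h
    have h0 : ((algebraMap R ↥(prePerf p R A) a : ↥(prePerf p R A)) :
        Π j : ℕ, Twist p R A j) 0 =
        ((algebraMap R ↥(prePerf p R A) a' : ↥(prePerf p R A)) : Π j : ℕ, Twist p R A j) 0 := by
      rw [h]
    rw [coe_algebraMap_prePerf, coe_algebraMap_prePerf] at h0
    have h1 := congrArg (coef0 p R A c0 0) h0
    rw [coef0_tmul, coef0_tmul, h01, one_pow, mul_one, mul_one] at h1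
    exact h1
  · intro x
    have hx := (mem_prePerf_iff p R A x.1).mp x.2
    choose a b hab using fun i => hnf i (x.1 i)
    have hstep : ∀ i, a (i + 1) = a i ∧
        b i - v ^ (2 * k * p ^ i) * b (i + 1) ∈ Ideal.span ({u ^ (p ^ i)} : Set R) := by
      intro i
      have h1 := hx i
      rw [hab (i + 1), hF] at h1
      have h2 := hab i
      rw [← h1] at h2
      constructor
      · have := congrArg (coef0 p R A c0 i) h2
        rw [hc0, hc0] at this
        exact this
      · have := congrArg (coef1 p R A u c1 i) h2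
        rw [hc1, hc1] at this
        rw [← Ideal.Quotient.eq_zero_iff_mem, map_sub, this, sub_self]
    have hmem : ∀ (n i : ℕ), b i ∈
        (Ideal.span {v ^ n} ⊔ Ideal.span {u ^ (p ^ i)} : Ideal R) := by
      intro n
      induction n with
      | zero =>
        intro i
        rw [pow_zero, Ideal.span_singleton_one, top_sup_eq]
        trivial
      | succ n ih =>
        intro i
        have h1 := (hstep i).2
        have h2 := ih (i + 1)
        have e : b i = (b i - v ^ (2 * k * p ^ i) * b (i + 1)) +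
            v ^ (2 * k * p ^ i) * b (i + 1) := by ring
        rw [e]
        refine Ideal.add_mem _ (Ideal.mem_sup_right h1) ?_
        obtain ⟨y, hy, z, hz, hyz⟩ := Submodule.mem_sup.mp h2
        obtain ⟨y', rfl⟩ := Ideal.mem_span_singleton'.mp hy
        obtain ⟨z', rfl⟩ := Ideal.mem_span_singleton'.mp hz
        rw [← hyz, mul_add]
        refine Ideal.add_mem _ (Ideal.mem_sup_left ?_) (Ideal.mem_sup_right ?_)
        · rw [Ideal.mem_span_singleton]
          obtain ⟨e', he'⟩ : ∃ e', 2 * k * p ^ i = e' + 1 := by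
            have : 0 < 2 * k * p ^ i := by have := hppos i; positivity
            exact ⟨2 * k * p ^ i - 1, by omega⟩
          exact ⟨v ^ e' * y', by rw [he']; ring⟩
        · rw [Ideal.mem_span_singleton]
          have hpp : p ^ (i + 1) = p ^ i + p ^ i * (2 * k) := by
            have e1 : p ^ i * p = p ^ i * (2 * k + 1) := congrArg (p ^ i * ·) hk
            rw [pow_succ, e1]
            ring
          exact ⟨v ^ (2 * k * p ^ i) * z' * u ^ (p ^ i * (2 * k)), by rw [hpp, pow_add]; ring⟩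
    have hb : ∀ i, b i ∈ Ideal.span ({u ^ (p ^ i)} : Set R) :=
      fun i => hsep (p ^ i) (hppos i) (b i) (fun n => hmem n i)
    have ha : ∀ i, a i = a 0 := by
      intro i
      induction i with
      | zero => rfl
      | succ i ih => rw [(hstep i).1, ih]
    refine ⟨a 0, Subtype.ext ?_⟩
    funext i
    rw [coe_algebraMap_prePerf, hab i, hkill i (b i) (hb i), add_zero, ha i]

end Main


section Instance

open Polynomial

variable (p : ℕ) [Fact p.Prime] (R : Type u) [CommRing R] [CharP R p] (u v : R)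

/-- The ideal `(uX, X² − v²)` of `R[X]`. -/
noncomputable abbrev relIdeal : Ideal R[X] := Ideal.span {(C u * X : R[X]), X ^ 2 - C (v ^ 2)}

omit [Fact p.Prime] [CharP R p] in
lemma monic_m : (X ^ 2 - C (v ^ 2) : R[X]).Monic :=
  monic_X_pow_sub_C _ (by norm_num)

omit [Fact p.Prime] [CharP R p] in
lemma degree_m [Nontrivial R] : (X ^ 2 - C (v ^ 2) : R[X]).degree = 2 := by
  rw [degree_X_pow_sub_C (by norm_num)]
  rfl

omit [Fact p.Prime] [CharP R p] in
lemma mod_eq [Nontrivial R] (P : R[X]) :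
    P %ₘ (X ^ 2 - C (v ^ 2)) = C ((P %ₘ (X ^ 2 - C (v ^ 2))).coeff 1) * X +
      C ((P %ₘ (X ^ 2 - C (v ^ 2))).coeff 0) := by
  apply eq_X_add_C_of_degree_le_one
  have h := degree_modByMonic_lt P (monic_m R v)
  rw [degree_m] at h
  exact Order.le_of_lt_succ h

omit [Fact p.Prime] [CharP R p] in
/-- Remainders of elements of the ideal. -/
lemma mod_of_mem [Nontrivial R] (huv : u * v = 0) (P : R[X]) (hP : P ∈ relIdeal R u v) :
    ∃ a : R, P %ₘ (X ^ 2 - C (v ^ 2)) = C (a * u) * X := by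
  obtain ⟨Q1, Q2, hQ⟩ := Ideal.mem_span_pair.mp hP
  have hQ1 := modByMonic_add_div Q1 (X ^ 2 - C (v ^ 2))
  have hr1 := mod_eq R v Q1
  set a0 := (Q1 %ₘ (X ^ 2 - C (v ^ 2))).coeff 0 with ha0
  set a1 := (Q1 %ₘ (X ^ 2 - C (v ^ 2))).coeff 1 with ha1
  set q1 := Q1 /ₘ (X ^ 2 - C (v ^ 2)) with hq1
  refine ⟨a0, ?_⟩
  have hCuv : (C u : R[X]) * C v = 0 := by rw [← C_mul, huv, C_0]
  have hdvd : (X ^ 2 - C (v ^ 2) : R[X]) ∣ P - C (a0 * u) * X := by
    refine ⟨C a1 * C u + q1 * C u * X + Q2, ?_⟩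
    rw [← hQ, ← hQ1, hr1, C_mul, C_pow]
    linear_combination (C a1 * C v) * hCuv
  rw [modByMonic_eq_of_dvd_sub (monic_m R v) hdvd, modByMonic_eq_self_iff (monic_m R v), degree_m]
  calc (C (a0 * u) * X : R[X]).degree ≤ 1 := by
        refine (degree_C_mul_X_le _).trans ?_
        exact le_rfl
    _ < 2 := by norm_num

/-- The constant-coefficient functional on `R[X]/(uX, X² − v²)`. -/
noncomputable def c0 [Nontrivial R] (huv : u * v = 0) : (R[X] ⧸ relIdeal R u v) →ₗ[R] R :=
  (Submodule.liftQ ((relIdeal R u v).restrictScalars R)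
    ((lcoeff R 0).comp (modByMonicHom (X ^ 2 - C (v ^ 2))))
    (by
      intro P hP
      obtain ⟨a, ha⟩ := mod_of_mem R u v huv P hP
      rw [LinearMap.mem_ker, LinearMap.comp_apply, modByMonicHom_apply, ha, lcoeff_apply,
        coeff_C_mul, coeff_X_zero, mul_zero])).comp
    (Submodule.Quotient.restrictScalarsEquiv R (relIdeal R u v)).symm.toLinearMap

/-- The linear-coefficient functional on `R[X]/(uX, X² − v²)`, with values in `R/(u)`. -/
noncomputable def c1 [Nontrivial R] (huv : u * v = 0) :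
    (R[X] ⧸ relIdeal R u v) →ₗ[R] R ⧸ Ideal.span ({u} : Set R) :=
  (Submodule.liftQ ((relIdeal R u v).restrictScalars R)
    ((Submodule.mkQ (Ideal.span ({u} : Set R))).comp
      ((lcoeff R 1).comp (modByMonicHom (X ^ 2 - C (v ^ 2)))))
    (by
      intro P hP
      obtain ⟨a, ha⟩ := mod_of_mem R u v huv P hP
      rw [LinearMap.mem_ker, LinearMap.comp_apply, LinearMap.comp_apply, modByMonicHom_apply, ha,
        lcoeff_apply, coeff_C_mul, coeff_X_one, mul_one, Submodule.mkQ_apply,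
        Submodule.Quotient.mk_eq_zero]
      exact Ideal.mem_span_singleton'.mpr ⟨a, rfl⟩)).comp
    (Submodule.Quotient.restrictScalarsEquiv R (relIdeal R u v)).symm.toLinearMap

lemma c0_mk [Nontrivial R] (huv : u * v = 0) (P : R[X]) :
    c0 R u v huv (Ideal.Quotient.mk _ P) = (P %ₘ (X ^ 2 - C (v ^ 2))).coeff 0 := rfl

lemma c1_mk [Nontrivial R] (huv : u * v = 0) (P : R[X]) :
    c1 R u v huv (Ideal.Quotient.mk _ P) =
      Ideal.Quotient.mk _ ((P %ₘ (X ^ 2 - C (v ^ 2))).coeff 1) := rfl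

end Instance


section Final

open Polynomial

variable (p : ℕ) [Fact p.Prime] (R : Type u) [CommRing R] [CharP R p] (u v : R)

/-- S13047. -/
theorem prePerf_bijective (hp : p ≠ 2) (huv : u * v = 0)
    (hsep : ∀ N : ℕ, 1 ≤ N → ∀ g : R,
      (∀ n : ℕ, g ∈ Ideal.span {v ^ n} ⊔ Ideal.span {u ^ N}) → g ∈ Ideal.span {u ^ N})
    [CharP (R[X] ⧸ Ideal.span {(C u * X : R[X]), X ^ 2 - C (v ^ 2)}) p] :
    Function.Bijective
      (algebraMap R ↥(prePerf p R
        (R[X] ⧸ Ideal.span {(C u * X : R[X]), X ^ 2 - C (v ^ 2)}))) := by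
  haveI : Nontrivial R := CharP.nontrivial_of_char_ne_one (Fact.out : p.Prime).ne_one
  have hm := monic_m R v
  have hmmem : (X ^ 2 - C (v ^ 2) : R[X]) ∈ relIdeal R u v := Ideal.subset_span (by simp)
  have h1mod : (1 : R[X]) %ₘ (X ^ 2 - C (v ^ 2)) = 1 := by
    rw [modByMonic_eq_self_iff hm, degree_one, degree_m]
    norm_num
  have hXmod : (X : R[X]) %ₘ (X ^ 2 - C (v ^ 2)) = X := by
    rw [modByMonic_eq_self_iff hm, degree_X, degree_m]
    norm_num
  refine bijective_of_model p R _ hp u v hsep (Ideal.Quotient.mk (relIdeal R u v) X) ?_ ?_ ?_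
    (c0 R u v huv) (c1 R u v huv) ?_ ?_ ?_ ?_
  · show Ideal.Quotient.mk (relIdeal R u v) (C u) * Ideal.Quotient.mk (relIdeal R u v) X = 0
    rw [← map_mul, Ideal.Quotient.eq_zero_iff_mem]
    exact Ideal.subset_span (by simp)
  · show (Ideal.Quotient.mk (relIdeal R u v) X) ^ 2 =
      Ideal.Quotient.mk (relIdeal R u v) (C (v ^ 2))
    rw [← map_pow, Ideal.Quotient.eq]
    exact hmmem
  · intro b
    obtain ⟨P, rfl⟩ := Ideal.Quotient.mk_surjective b
    refine ⟨(P %ₘ (X ^ 2 - C (v ^ 2))).coeff 0, (P %ₘ (X ^ 2 - C (v ^ 2))).coeff 1, ?_⟩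
    show Ideal.Quotient.mk (relIdeal R u v) P =
      Ideal.Quotient.mk (relIdeal R u v) (C ((P %ₘ (X ^ 2 - C (v ^ 2))).coeff 0)) +
        Ideal.Quotient.mk (relIdeal R u v) (C ((P %ₘ (X ^ 2 - C (v ^ 2))).coeff 1)) *
          Ideal.Quotient.mk (relIdeal R u v) X
    rw [← map_mul, ← map_add, Ideal.Quotient.eq]
    have h1 := modByMonic_add_div P (X ^ 2 - C (v ^ 2))
    have h2 := mod_eq R v P
    have : P - (C ((P %ₘ (X ^ 2 - C (v ^ 2))).coeff 0) +
        C ((P %ₘ (X ^ 2 - C (v ^ 2))).coeff 1) * X) =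
          (X ^ 2 - C (v ^ 2)) * (P /ₘ (X ^ 2 - C (v ^ 2))) := by
      linear_combination h2 - h1
    rw [this]
    exact Ideal.mul_mem_right _ _ hmmem
  · show c0 R u v huv (Ideal.Quotient.mk (relIdeal R u v) 1) = 1
    rw [c0_mk, h1mod, coeff_one_zero]
  · rw [c0_mk, hXmod, coeff_X_zero]
  · show c1 R u v huv (Ideal.Quotient.mk (relIdeal R u v) 1) = 0
    rw [c1_mk, h1mod, coeff_one, if_neg one_ne_zero, map_zero]
  · rw [c1_mk, hXmod, coeff_X_one, map_one]

end Final

end Groth.Agent.PrePerf
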