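import Mathlib

/-!
# Precompleteness w.r.t. `I` and `J` implies precompleteness w.r.t. `I ⊔ J` (S9603)
-/

universe u

namespace Groth.Agent.Lib.PrecompleteSup

open AdicCompletion

variable {R : Type*} [CommRing R] {M : Type*} [AddCommGroup M] [Module R M]

lemma partial_sum_cauchy (I : Ideal R) (c : ℕ → M)
    (hc : ∀ n, c n ∈ (I ^ n • ⊤ : Submodule R M)) :
    ∀ {m n}, m ≤ n → (∑ k ∈ Finset.range m, c k) ≡ (∑ k ∈ Finset.range n, c k)
      [SMOD (I ^ m • ⊤ : Submodule R M)] := by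
  have key : AdicCompletion.IsAdicCauchy I M (fun n => ∑ k ∈ Finset.range n, c k) := by
    rw [AdicCompletion.isAdicCauchy_iff]
    intro n
    rw [SModEq.sub_mem, Finset.sum_range_succ, sub_add_cancel_left]
    exact neg_mem (hc n)
  intro m n hmn
  exact key hmn

theorem isPrecomplete_sup (I J : Ideal R) (hI : IsPrecomplete I M) (hJ : IsPrecomplete J M) :
    IsPrecomplete (I ⊔ J) M := by
  refine ⟨fun f hf => ?_⟩
  have hstep : ∀ n, f (2 * (n + 1)) - f (2 * n) ∈
      (I ^ n • ⊤ : Submodule R M) ⊔ (J ^ n • ⊤ : Submodule R M) := by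
    intro n
    have h1 : f (2 * n) ≡ f (2 * (n + 1)) [SMOD ((I ⊔ J) ^ (2 * n) • ⊤ : Submodule R M)] :=
      hf (by omega)
    have h2 : f (2 * (n + 1)) - f (2 * n) ∈ ((I ⊔ J) ^ (2 * n) • ⊤ : Submodule R M) :=
      SModEq.sub_mem.mp h1.symm
    have h3 : ((I ⊔ J) ^ (2 * n) • ⊤ : Submodule R M) ≤ I ^ n • ⊤ ⊔ J ^ n • ⊤ := by
      rw [← Submodule.sup_smul, two_mul]
      exact Submodule.smul_mono_left Ideal.sup_pow_add_le_pow_sup_pow
    exact h3 h2
  choose a ha b hb hab using fun n => Submodule.mem_sup.mp (hstep n)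
  obtain ⟨La, hLa⟩ := hI.prec (partial_sum_cauchy I a ha)
  obtain ⟨Lb, hLb⟩ := hJ.prec (partial_sum_cauchy J b hb)
  refine ⟨f 0 + La + Lb, fun n => ?_⟩
  have h1 : f n ≡ f (2 * n) [SMOD ((I ⊔ J) ^ n • ⊤ : Submodule R M)] := hf (by omega)
  refine h1.trans ?_
  have htel : ∀ n, f (2 * n) = f 0 + ∑ k ∈ Finset.range n, a k + ∑ k ∈ Finset.range n, b k := by
    intro n
    induction n with
    | zero => simp
    | succ n ih =>
      rw [Finset.sum_range_succ, Finset.sum_range_succ]
      have h2 := hab n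
      have h3 : f (2 * (n + 1)) = f (2 * n) + (a n + b n) := by rw [h2]; abel
      rw [h3, ih]; abel
  rw [htel n, SModEq.sub_mem]
  have e : (f 0 + ∑ k ∈ Finset.range n, a k + ∑ k ∈ Finset.range n, b k) - (f 0 + La + Lb)
      = (∑ k ∈ Finset.range n, a k - La) + (∑ k ∈ Finset.range n, b k - Lb) := by abel
  rw [e]
  have hIle : (I ^ n • ⊤ : Submodule R M) ≤ (I ⊔ J) ^ n • ⊤ :=
    Submodule.smul_mono_left (Ideal.pow_right_mono le_sup_left n)
  have hJle : (J ^ n • ⊤ : Submodule R M) ≤ (I ⊔ J) ^ n • ⊤ :=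
    Submodule.smul_mono_left (Ideal.pow_right_mono le_sup_right n)
  exact add_mem (hIle (SModEq.sub_mem.mp (hLa n))) (hJle (SModEq.sub_mem.mp (hLb n)))

theorem main {A : Type u} [CommRing A] {r : ℕ} (f : Fin r → A) (M : Type u) [AddCommGroup M]
    [Module A M] (h : ∀ i, Function.Surjective (AdicCompletion.of (Ideal.span {f i}) M)) :
    Function.Surjective (AdicCompletion.of (Ideal.span (Set.range f)) M) := by
  rw [AdicCompletion.of_surjective_iff]
  have h' : ∀ i, IsPrecomplete (Ideal.span {f i}) M :=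
    fun i => AdicCompletion.of_surjective_iff.mp (h i)
  clear h
  induction r with
  | zero =>
    have : Set.range f = ∅ := Set.range_eq_empty f
    rw [this, Ideal.span_empty]
    infer_instance
  | succ r ih =>
    have hr : Set.range f = Set.range (f ∘ Fin.castSucc) ∪ {f (Fin.last r)} := by
      ext x; constructor
      · rintro ⟨i, rfl⟩
        refine Fin.lastCases ?_ (fun j => ?_) i
        · right; rfl
        · left; exact ⟨j, rfl⟩
      · rintro (⟨j, rfl⟩ | hx)
        · exact ⟨_, rfl⟩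
        · rw [Set.mem_singleton_iff] at hx; exact ⟨_, hx.symm⟩
    rw [hr, Ideal.span_union]
    exact isPrecomplete_sup _ _ (ih (f ∘ Fin.castSucc) (fun i => h' _)) (h' _)

end Groth.Agent.Lib.PrecompleteSup
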