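import Mathlib

/-!
# Topology generated by two precoverages `P`, `P'` (helper8)
-/

universe w v₁ u₁

open CategoryTheory

namespace Groth.Agent.Lib.PrecovGenH8

variable {C : Type u₁} [Category.{v₁} C] (C' : C → Prop) (P P' : Precoverage C)

/-- `f : Y ⟶ X` is good for `S'`: `Y ∈ C'` and `S'.pullback f` contains a `P'`-family. -/
def Good {X : C} (S' : Sieve X) {Y : C} (f : Y ⟶ X) : Prop :=
  C' Y ∧ ∃ R' ∈ P' Y, ∀ ⦃Z : C⦄ ⦃g : Z ⟶ Y⦄, R' g → S' (g ≫ f)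

/-- `S'` contains a composite family `P' ∘ P` with middle objects in `C'`. -/
def Comp (X : C) (S' : Sieve X) : Prop :=
  ∃ R ∈ P X, ∀ ⦃Y : C⦄ ⦃f : Y ⟶ X⦄, R f → Good C' P' S' f

theorem exists_refine [P.IsStableUnderComposition]
    (hb : ∀ X : C, ∃ R ∈ P X, ∀ ⦃Y : C⦄ ⦃f : Y ⟶ X⦄, R f → C' Y)
    {X : C} {R : Presieve X} (hR : R ∈ P X) :
    ∃ R₂ ∈ P X, ∀ ⦃Y : C⦄ ⦃f : Y ⟶ X⦄, R₂ f →
      C' Y ∧ ∃ (Y₀ : C) (f₀ : Y₀ ⟶ X) (t : Y ⟶ Y₀), R f₀ ∧ t ≫ f₀ = f := by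
  obtain ⟨ι, Z, g, rfl⟩ := R.exists_eq_ofArrows
  choose Q hQ hQC using fun i => hb (Z i)
  choose σ W k hk using fun i => (Q i).exists_eq_ofArrows
  refine ⟨_, Precoverage.comp_mem_coverings g hR k (fun i => by rw [← hk i]; exact hQ i), ?_⟩
  rintro Y f ⟨⟨i, j⟩⟩
  exact ⟨hQC i (by rw [hk i]; exact ⟨j⟩), Z i, g i, k i j, ⟨i⟩, rfl⟩

section

variable [P.HasPullbacks] [P.IsStableUnderBaseChange] [P.IsStableUnderComposition]
    (hP'C : ∀ ⦃X : C⦄ ⦃R : Presieve X⦄, R ∈ P' X → C' X ∧ ∀ ⦃Y : C⦄ ⦃f : Y ⟶ X⦄, R f → C' Y)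
    (hP'id : ∀ ⦃X : C⦄, C' X → Presieve.singleton (𝟙 X) ∈ P' X)
    (ha : ∀ ⦃X : C⦄ ⦃R : Presieve X⦄, R ∈ P' X → ∀ ⦃T : C⦄ (g : T ⟶ X), C' T →
      ∃ _ : R.HasPullbacks g, Presieve.pullbackArrows g R ∈ P' T)
    (hb : ∀ X : C, ∃ R ∈ P X, ∀ ⦃Y : C⦄ ⦃f : Y ⟶ X⦄, R f → C' Y)
    (hc : ∀ ⦃S : C⦄ ⦃R₁ : Presieve S⦄, R₁ ∈ P' S →
      ∀ (R₂ : ∀ ⦃Y : C⦄ ⦃f : Y ⟶ S⦄, R₁ f → Presieve Y),
        (∀ ⦃Y : C⦄ ⦃f : Y ⟶ S⦄ (hf : R₁ f), R₂ hf ∈ P Y ∧ ∀ ⦃Z : C⦄ ⦃g : Z ⟶ Y⦄, R₂ hf g → C' Z) →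
      ∀ (R₃ : ∀ ⦃Y : C⦄ ⦃f : Y ⟶ S⦄ (hf : R₁ f) ⦃Z : C⦄ ⦃g : Z ⟶ Y⦄, R₂ hf g → Presieve Z),
        (∀ ⦃Y : C⦄ ⦃f : Y ⟶ S⦄ (hf : R₁ f) ⦃Z : C⦄ ⦃g : Z ⟶ Y⦄ (hg : R₂ hf g), R₃ hf hg ∈ P' Z) →
      ∃ T ∈ P' S, ∀ ⦃W : C⦄ ⦃q : W ⟶ S⦄, T q →
        ∃ (Y Z V : C) (f : Y ⟶ S) (hf : R₁ f) (g : Z ⟶ Y) (hg : R₂ hf g) (h : V ⟶ Z) (_ : R₃ hf hg h)
          (r : W ⟶ V), r ≫ h ≫ g ≫ f = q)

include hP'C hP'id ha hb hc

theorem comp_of_saturate {X : C} {S' : Sieve X} (h : (P ⊔ P').Saturate X S') :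
    Comp C' P P' X S' := by
  induction h with
  | of X R₀ hR₀ =>
    rcases hR₀ with hR₀ | hR₀
    · obtain ⟨R₂, hR₂, h₂⟩ := exists_refine C' P hb hR₀
      refine ⟨R₂, hR₂, fun Y f hf => ?_⟩
      obtain ⟨hY, Y₀, f₀, t, hf₀, rfl⟩ := h₂ hf
      refine ⟨hY, Presieve.singleton (𝟙 Y), hP'id hY, ?_⟩
      rintro Z g ⟨⟩
      rw [Category.id_comp]
      exact Sieve.downward_closed _ (Sieve.le_generate R₀ _ _ hf₀) t
    · obtain ⟨R, hR, hRC⟩ := hb X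
      refine ⟨R, hR, fun Y f hf => ⟨hRC hf, ?_⟩⟩
      obtain ⟨hpb, hmem⟩ := ha hR₀ f (hRC hf)
      refine ⟨_, hmem, ?_⟩
      rintro Z g ⟨W, h, hh⟩
      haveI := R₀.hasPullback f hh
      rw [← Limits.pullback.condition]
      exact Sieve.downward_closed _ (Sieve.le_generate R₀ _ _ hh) _
  | top X =>
    obtain ⟨R, hR, hRC⟩ := hb X
    exact ⟨R, hR, fun Y f hf =>
      ⟨hRC hf, Presieve.singleton (𝟙 Y), hP'id (hRC hf), fun _ _ _ => trivial⟩⟩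
  | pullback X S hS Y f ih =>
    obtain ⟨R, hR, hgood⟩ := ih
    haveI : R.HasPullbacks f := P.hasPullbacks_of_mem f hR
    have hR₁ : R.pullbackArrows f ∈ P Y := Precoverage.pullbackArrows_mem f hR
    obtain ⟨R₂, hR₂, h₂⟩ := exists_refine C' P hb hR₁
    refine ⟨R₂, hR₂, fun Z a ha' => ?_⟩
    obtain ⟨hZ, Y₀, f₀, t, hf₀, rfl⟩ := h₂ ha'
    obtain ⟨W, h, hh⟩ := hf₀
    haveI := R.hasPullback f hh
    obtain ⟨-, R', hR', hR'S⟩ := hgood hh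
    obtain ⟨hpb, hmem⟩ := ha hR' (t ≫ Limits.pullback.fst h f) hZ
    refine ⟨hZ, _, hmem, ?_⟩
    rintro V k ⟨V', h', hh'⟩
    haveI := R'.hasPullback (t ≫ Limits.pullback.fst h f) hh'
    show S ((Limits.pullback.snd h' (t ≫ Limits.pullback.fst h f) ≫ t ≫
      Limits.pullback.snd h f) ≫ f)
    have e : (Limits.pullback.snd h' (t ≫ Limits.pullback.fst h f) ≫ t ≫
        Limits.pullback.snd h f) ≫ f =
        Limits.pullback.fst h' (t ≫ Limits.pullback.fst h f) ≫ h' ≫ h := by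
      rw [Category.assoc, Category.assoc, ← Limits.pullback.condition (f := h) (g := f),
        ← Category.assoc t, ← Category.assoc, ← Limits.pullback.condition, Category.assoc]
    rw [e]
    exact Sieve.downward_closed _ (hR'S hh') _
  | transitive X S R hS hR ih₁ ih₂ =>
    obtain ⟨R₁, hR₁, hgood₁⟩ := ih₁
    refine ⟨R₁, hR₁, fun Y f hf => ?_⟩
    obtain ⟨hY, R', hR', hR'S⟩ := hgood₁ hf
    have key : ∀ ⦃Z : C⦄ ⦃g : Z ⟶ Y⦄ (hg : R' g),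
        Comp C' P P' Z (R.pullback (g ≫ f)) := fun Z g hg => ih₂ (hR'S hg)
    unfold Comp Good at key
    choose R₂ hR₂ hC R₃ hR₃ hR₃S using key
    obtain ⟨T, hT, hTq⟩ := hc hR' R₂ (fun Z g hg => ⟨hR₂ hg, fun Z' g' hg' => hC hg hg'⟩) R₃
      (fun Z g hg Z' g' hg' => hR₃ hg hg')
    refine ⟨hY, T, hT, fun W q hq => ?_⟩
    obtain ⟨Y₁, Z₁, V, g, hg, g', hg', h, hh, r, rfl⟩ := hTq hq
    have := hR₃S hg hg' hh
    rw [Sieve.pullback_apply] at this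
    have e : (r ≫ h ≫ g' ≫ g) ≫ f = r ≫ (h ≫ g') ≫ g ≫ f := by simp only [Category.assoc]
    rw [e]
    exact Sieve.downward_closed _ this r

theorem mem_generated_iff (X : C) (S' : Sieve X) :
    S' ∈ (P ⊔ P').toGrothendieck X ↔
      ∃ (R : Presieve X) (_ : R ∈ P X) (_ : ∀ ⦃Y : C⦄ ⦃f : Y ⟶ X⦄, R f → C' Y)
        (R' : ∀ ⦃Y : C⦄ ⦃f : Y ⟶ X⦄, R f → Presieve Y),
        (∀ ⦃Y : C⦄ ⦃f : Y ⟶ X⦄ (hf : R f), R' hf ∈ P' Y) ∧
        ∀ ⦃Y : C⦄ ⦃f : Y ⟶ X⦄ (hf : R f) ⦃Z : C⦄ ⦃g : Z ⟶ Y⦄, R' hf g → S' (g ≫ f) := by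
  constructor
  · intro h
    obtain ⟨R, hR, hgood⟩ := comp_of_saturate C' P P' hP'C hP'id ha hb hc h
    unfold Good at hgood
    choose hC R' hR' hS' using hgood
    exact ⟨R, hR, hC, R', hR', hS'⟩
  · rintro ⟨R, hR, -, R', hR', hS'⟩
    refine (P ⊔ P').toGrothendieck.transitive
      (Precoverage.generate_mem_toGrothendieck (Or.inl hR)) S' ?_
    rintro Y f ⟨Z, h, f₀, hf₀, rfl⟩
    rw [Sieve.pullback_comp]
    apply GrothendieckTopology.pullback_stable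
    refine GrothendieckTopology.superset_covering _ ?_
      (Precoverage.generate_mem_toGrothendieck (Or.inr (hR' hf₀)))
    rw [Sieve.generate_le_iff]
    intro W g hg
    exact hS' hf₀ hg

theorem isSheaf_generated_iff (F : Cᵒᵖ ⥤ Type w) :
    Presieve.IsSheaf (P ⊔ P').toGrothendieck F ↔
      (∀ ⦃X : C⦄ ⦃R : Presieve X⦄, R ∈ P X → Presieve.IsSheafFor F R) ∧
      (∀ ⦃X : C⦄ ⦃R : Presieve X⦄, R ∈ P' X → Presieve.IsSheafFor F R) := by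
  constructor
  · intro h
    exact ⟨fun X R hR => (Presieve.isSheafFor_iff_generate R).2
        (h _ (Precoverage.generate_mem_toGrothendieck (Or.inl hR))),
      fun X R hR => (Presieve.isSheafFor_iff_generate R).2
        (h _ (Precoverage.generate_mem_toGrothendieck (Or.inr hR)))⟩
  · rintro ⟨hP, hP'⟩
    have hmem := mem_generated_iff C' P P' hP'C hP'id ha hb hc
    -- separatedness
    have hsep : ∀ ⦃X : C⦄ (S : Sieve X), S ∈ (P ⊔ P').toGrothendieck X →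
        Presieve.IsSeparatedFor F S.arrows := by
      intro X S hS
      obtain ⟨R, hR, -, R', hR', hS'⟩ := (hmem X S).1 hS
      intro x t₁ t₂ h₁ h₂
      refine (hP hR).isSeparatedFor.ext (fun Y f hf => ?_)
      refine (hP' (hR' hf)).isSeparatedFor.ext (fun Z g hg => ?_)
      have e₁ := h₁ (g ≫ f) (hS' hf hg)
      have e₂ := h₂ (g ≫ f) (hS' hf hg)
      rw [op_comp, Functor.map_comp_apply] at e₁ e₂
      rw [e₁, e₂]
    intro X S hS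
    rw [← Presieve.isSeparatedFor_and_exists_isAmalgamation_iff_isSheafFor]
    refine ⟨hsep S hS, fun x hx => ?_⟩
    obtain ⟨R, hR, hRC, R', hR', hS'⟩ := (hmem X S).1 hS
    -- local amalgamations
    let xf : ∀ ⦃Y : C⦄ ⦃f : Y ⟶ X⦄ (hf : R f), Presieve.FamilyOfElements F (R' hf) :=
      fun Y f hf Z g hg => x (g ≫ f) (hS' hf hg)
    have hxf : ∀ ⦃Y : C⦄ ⦃f : Y ⟶ X⦄ (hf : R f), (xf hf).Compatible := by
      intro Y f hf Z₁ Z₂ W g₁ g₂ k₁ k₂ hk₁ hk₂ comm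
      exact hx g₁ g₂ (hS' hf hk₁) (hS' hf hk₂) (by rw [← Category.assoc, comm, Category.assoc])
    let y : Presieve.FamilyOfElements F R :=
      fun Y f hf => (hP' (hR' hf)).amalgamate (xf hf) (hxf hf)
    have hy : ∀ ⦃Y : C⦄ ⦃f : Y ⟶ X⦄ (hf : R f) ⦃Z : C⦄ ⦃g : Z ⟶ Y⦄ (hg : R' hf g),
        F.map g.op (y f hf) = x (g ≫ f) (hS' hf hg) :=
      fun Y f hf Z g hg => (hP' (hR' hf)).valid_glue (hxf hf) g hg
    have hycomp : y.Compatible := by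
      intro Y₁ Y₂ Z g₁ g₂ f₁ f₂ hf₁ hf₂ comm
      let U : Sieve Z := (Sieve.generate (R' hf₁)).pullback g₁ ⊓ (Sieve.generate (R' hf₂)).pullback g₂
      have hU : U ∈ (P ⊔ P').toGrothendieck Z :=
        GrothendieckTopology.intersection_covering _
          (GrothendieckTopology.pullback_stable _ _
            (Precoverage.generate_mem_toGrothendieck (Or.inr (hR' hf₁))))
          (GrothendieckTopology.pullback_stable _ _
            (Precoverage.generate_mem_toGrothendieck (Or.inr (hR' hf₂))))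
      refine (hsep U hU).ext (fun W k hk => ?_)
      obtain ⟨⟨V₁, a₁, b₁, hb₁, e₁⟩, ⟨V₂, a₂, b₂, hb₂, e₂⟩⟩ := hk
      have s₁ : F.map k.op (F.map g₁.op (y f₁ hf₁)) = F.map a₁.op (x (b₁ ≫ f₁) (hS' hf₁ hb₁)) := by
        rw [← hy hf₁ hb₁, ← Functor.map_comp_apply, ← Functor.map_comp_apply, ← op_comp, ← op_comp, e₁]
      have s₂ : F.map k.op (F.map g₂.op (y f₂ hf₂)) = F.map a₂.op (x (b₂ ≫ f₂) (hS' hf₂ hb₂)) := by
        rw [← hy hf₂ hb₂, ← Functor.map_comp_apply, ← Functor.map_comp_apply, ← op_comp, ← op_comp, e₂]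
      rw [s₁, s₂]
      refine hx a₁ a₂ _ _ ?_
      rw [← Category.assoc, e₁, ← Category.assoc, e₂, Category.assoc, Category.assoc, comm]
    let z := (hP hR).amalgamate y hycomp
    have hz : ∀ ⦃Y : C⦄ ⦃f : Y ⟶ X⦄ (hf : R f), F.map f.op z = y f hf :=
      fun Y f hf => (hP hR).valid_glue hycomp f hf
    refine ⟨z, fun W h hh => ?_⟩
    -- the composite sieve
    let S₀ : Sieve X := Sieve.generate (Presieve.bind R R')
    have hS₀ : S₀ ∈ (P ⊔ P').toGrothendieck X :=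
      (hmem X S₀).2 ⟨R, hR, hRC, R', hR', fun Y f hf Z g hg =>
        Sieve.le_generate _ _ _ ⟨Y, g, f, hf, hg, rfl⟩⟩
    have hV : S₀.pullback h ∈ (P ⊔ P').toGrothendieck W :=
      GrothendieckTopology.pullback_stable _ _ hS₀
    refine (hsep _ hV).ext (fun W' k hk => ?_)
    obtain ⟨V, a, b, ⟨Y, g, f, hf, hg, rfl⟩, e⟩ := hk
    have s₁ : F.map k.op (F.map h.op z) = F.map a.op (x (g ≫ f) (hS' hf hg)) := by
      rw [← hy hf hg, ← hz hf, ← Functor.map_comp_apply, ← Functor.map_comp_apply,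
        ← Functor.map_comp_apply, ← op_comp, ← op_comp, ← op_comp, ← e, Category.assoc]
    rw [s₁]
    exact hx a k (hS' hf hg) hh e

end

end Groth.Agent.Lib.PrecovGenH8
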