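import Mathlib
import Groth.Agent.Lib.GeomIrr4_lead

set_option autoImplicit false
set_option backward.isDefEq.respectTransparency false
set_option linter.unusedSimpArgs false
set_option linter.unusedVariables false
set_option linter.unusedSectionVars false
set_option linter.style.longLine false
set_option linter.style.haveILetI false
set_option linter.unnecessarySimpa false
set_option maxHeartbeats 1600000

/-!
# Zero-divisors of `L ⊗[k] K` are nilpotent when `K / k` is a primary extension
-/

namespace Groth.Agent.Lib.Flatif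

open TensorProduct Polynomial

universe u

/-- Over a domain `D`, in a flat `D`-algebra whose nilradical is prime, an algebraic zero-divisor
is nilpotent. -/
theorem isNilpotent_of_mul_eq_zero_of_isAlgebraic {D R : Type*} [CommRing D] [IsDomain D]
    [CommRing R] [Algebra D R] [Module.Flat D R] (hN : (nilradical R).IsPrime) (s z : R)
    (hs : IsAlgebraic D s) (hsz : s * z = 0) (hz : z ≠ 0) : IsNilpotent s := by
  obtain ⟨p, hp0, hp⟩ := hs
  obtain ⟨q, hpq, hq⟩ := Polynomial.exists_eq_pow_rootMultiplicity_mul_and_not_dvd p hp0 0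
  have hq0 : q.coeff 0 ≠ 0 := by
    intro h
    apply hq
    rw [C_0, sub_zero]
    exact Polynomial.X_dvd_iff.mpr h
  have h1 : s ^ (p.rootMultiplicity 0) * aeval s q = 0 := by
    have h := hp
    rw [hpq, C_0, sub_zero, map_mul, map_pow, aeval_X] at h
    exact h
  have h2 : s ∈ nilradical R ∨ aeval s q ∈ nilradical R := by
    have h : s ^ (p.rootMultiplicity 0) * aeval s q ∈ nilradical R := by
      rw [h1]; exact zero_mem _
    rcases hN.mem_or_mem h with h | h
    · exact Or.inl (hN.mem_of_pow_mem _ h)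
    · exact Or.inr h
  rcases h2 with h | h
  · exact mem_nilradical.mp h
  · exfalso
    obtain ⟨m, hm⟩ := mem_nilradical.mp h
    have e : aeval s q = s * aeval s q.divX + algebraMap D R (q.coeff 0) := by
      have h := congrArg (aeval s) (Polynomial.X_mul_divX_add q)
      rw [map_add, map_mul, aeval_X, aeval_C] at h
      exact h.symm
    have h3 : aeval s q * z = (q.coeff 0) • z := by
      rw [e, add_mul, Algebra.smul_def]
      have h0 : s * aeval s q.divX * z = 0 := by
        rw [mul_right_comm, hsz, zero_mul]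
      rw [h0, zero_add]
    have h4 : ∀ n : ℕ, (aeval s q) ^ n * z = (q.coeff 0) ^ n • z := by
      intro n
      induction n with
      | zero => simp
      | succ n ih => rw [pow_succ, mul_assoc, h3, mul_smul_comm, ih, smul_smul, ← pow_succ']
    have h5 : (q.coeff 0) ^ m • z = 0 := by rw [← h4, hm, zero_mul]
    have h6 : (q.coeff 0) ^ m ∈ nonZeroDivisors D :=
      mem_nonZeroDivisors_of_ne_zero (pow_ne_zero m hq0)
    have h7 := Module.Flat.isSMulRegular_of_nonZeroDivisors (M := R) h6
    refine hz (h7 ?_)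
    show (q.coeff 0) ^ m • z = (q.coeff 0) ^ m • (0 : R)
    rw [h5, smul_zero]

/-- The core: `P → L` an algebraic extension of a domain by a field, `P ⊗ K` a domain. -/
theorem isNilpotent_of_mul_eq_zero_tensor_aux {k K L P : Type u} [Field k] [Field K] [Field L]
    [Algebra k K] [Algebra k L] [CommRing P] [Algebra k P] [Algebra P L] [IsScalarTower k P L]
    [FaithfulSMul P L] [Algebra.IsAlgebraic P L] [IsDomain (P ⊗[k] K)]
    (hN : (nilradical (L ⊗[k] K)).IsPrime) (s z : L ⊗[k] K) (hsz : s * z = 0) (hz : z ≠ 0) :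
    IsNilpotent s := by
  classical
  haveI : IsDomain P := IsDomain.of_faithfulSMul P L
  -- the algebra structure `D → R`
  letI algDR : Algebra (P ⊗[k] K) (L ⊗[k] K) :=
    (Algebra.TensorProduct.map (IsScalarTower.toAlgHom k P L) (AlgHom.id k K)).toRingHom.toAlgebra
  have halgDR : ∀ (a : P) (b : K), algebraMap (P ⊗[k] K) (L ⊗[k] K) (a ⊗ₜ[k] b) =
      (algebraMap P L a) ⊗ₜ[k] b := fun a b => by
    show (Algebra.TensorProduct.map (IsScalarTower.toAlgHom k P L) (AlgHom.id k K))
      (a ⊗ₜ[k] b) = _
    rw [Algebra.TensorProduct.map_tmul]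
    rfl
  haveI tow : IsScalarTower P (P ⊗[k] K) (L ⊗[k] K) := by
    apply IsScalarTower.of_algebraMap_eq
    intro a
    rw [Algebra.TensorProduct.algebraMap_apply, Algebra.TensorProduct.algebraMap_apply, halgDR]
    rfl
  -- flatness of `L` over `P`
  letI := FractionRing.liftAlgebra P L
  haveI := FractionRing.isScalarTower_liftAlgebra P L
  haveI : Module.Flat P (FractionRing P) :=
    IsLocalization.flat (FractionRing P) (nonZeroDivisors P)
  haveI : Module.Flat P L := Module.Flat.trans P (FractionRing P) L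
  -- the pushout square
  have hpo : Algebra.IsPushout P L (P ⊗[k] K) (L ⊗[k] K) := by
    refine Algebra.IsPushout.tensorProduct_tensorProduct k K P L ?_
    ext b
    show algebraMap (P ⊗[k] K) (L ⊗[k] K) ((1 : P) ⊗ₜ[k] b) = (1 : L) ⊗ₜ[k] b
    rw [halgDR, map_one]
  have hpo' : Algebra.IsPushout P (P ⊗[k] K) L (L ⊗[k] K) := hpo.symm
  haveI : Module.Flat (P ⊗[k] K) (L ⊗[k] K) :=
    Module.Flat.isBaseChange (R := P) (S := P ⊗[k] K) (M := L) (N := L ⊗[k] K) hpo'.out
  -- algebraicity
  have hinj : Function.Injective (algebraMap P (P ⊗[k] K)) := by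
    have h := Algebra.TensorProduct.includeLeft_injective (R := k) (S := k) (A := P) (B := K)
      (algebraMap k K).injective
    intro a b hab
    apply h
    exact hab
  have halg : ∀ t : L ⊗[k] K, IsAlgebraic (P ⊗[k] K) t := by
    intro t
    induction t using TensorProduct.induction_on with
    | zero => exact isAlgebraic_zero
    | tmul l a =>
      have h1 : IsAlgebraic P (l ⊗ₜ[k] (1 : K) : L ⊗[k] K) :=
        (Algebra.IsAlgebraic.isAlgebraic l).algHom
          (Algebra.TensorProduct.includeLeft : L →ₐ[P] L ⊗[k] K)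
      have h2 : IsAlgebraic (P ⊗[k] K) (l ⊗ₜ[k] (1 : K) : L ⊗[k] K) :=
        h1.extendScalars hinj
      have h3 : (l ⊗ₜ[k] a : L ⊗[k] K) =
          algebraMap (P ⊗[k] K) (L ⊗[k] K) ((1 : P) ⊗ₜ[k] a) * (l ⊗ₜ[k] (1 : K)) := by
        rw [halgDR, Algebra.TensorProduct.tmul_mul_tmul, mul_one, map_one, one_mul]
      rw [h3]
      exact (isAlgebraic_algebraMap _).mul h2
    | add x y hx hy => exact hx.add hy
  exact isNilpotent_of_mul_eq_zero_of_isAlgebraic hN s z (halg s) hsz hz

/-- **Zero-divisors of `L ⊗[k] K` are nilpotent** when `k` is separably closed in `K`. -/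
theorem isNilpotent_of_mul_eq_zero_tensor {k K : Type u} [Field k] [Field K] [Algebra k K]
    (hK : ∀ α : K, IsSeparable k α → α ∈ Set.range (algebraMap k K))
    (L : Type u) [Field L] [Algebra k L] (s z : L ⊗[k] K) (hsz : s * z = 0) (hz : z ≠ 0) :
    IsNilpotent s := by
  classical
  have hN : (nilradical (L ⊗[k] K)).IsPrime := by
    haveI := Groth.Agent.Lib.GeomIrr.geomIrr_of_sepClosed_in hK L
    exact PrimeSpectrum.irreducibleSpace_iff_isPrime_nilradical.mp this
  obtain ⟨ι, x, hx⟩ := exists_isTranscendenceBasis' k L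
  -- the domain `D = P ⊗ K`
  let e1 : (↥(Algebra.adjoin k (Set.range x)) ⊗[k] K) ≃ₐ[k] (MvPolynomial ι k ⊗[k] K) :=
    Algebra.TensorProduct.congr hx.1.aevalEquiv.symm AlgEquiv.refl
  let e2 : (MvPolynomial ι k ⊗[k] K) ≃ₐ[k] (K ⊗[k] MvPolynomial ι k) :=
    Algebra.TensorProduct.comm k (MvPolynomial ι k) K
  let e3 : (K ⊗[k] MvPolynomial ι k) ≃ₐ[K] MvPolynomial ι K :=
    MvPolynomial.algebraTensorAlgEquiv k K
  let e : (↥(Algebra.adjoin k (Set.range x)) ⊗[k] K) ≃+* MvPolynomial ι K :=
    (e1.toRingEquiv.trans e2.toRingEquiv).trans e3.toRingEquiv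
  haveI : IsDomain (↥(Algebra.adjoin k (Set.range x)) ⊗[k] K) :=
    Function.Injective.isDomain e.toRingHom e.injective
  haveI : FaithfulSMul ↥(Algebra.adjoin k (Set.range x)) L := inferInstance
  haveI : Algebra.IsAlgebraic ↥(Algebra.adjoin k (Set.range x)) L := hx.isAlgebraic
  exact isNilpotent_of_mul_eq_zero_tensor_aux (P := ↥(Algebra.adjoin k (Set.range x))) hN s z hsz hz

end Groth.Agent.Lib.Flatif
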