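import Mathlib

set_option autoImplicit false
set_option backward.isDefEq.respectTransparency false
set_option linter.unusedSimpArgs false
set_option linter.unusedVariables false
set_option linter.unusedSectionVars false
set_option linter.style.longLine false
set_option linter.style.haveILetI false
set_option linter.unnecessarySimpa false
set_option maxHeartbeats 1600000

/-!
# Nonzerodivisors on `(Bx ⊗[A] L) ⊗[Bx] G` for `G` of finite length over a local ring `Bx`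
-/

namespace Groth.Agent.Lib.Flatif

open TensorProduct IsLocalRing

universe u

/-- An injective linear map between modules killed by a maximal ideal has a linear retraction. -/
lemma exists_retraction {A : Type*} [CommRing A] (m : Ideal A) [m.IsMaximal] {V G : Type*}
    [AddCommGroup V] [AddCommGroup G] [Module A V] [Module A G]
    (hV : ∀ a ∈ m, ∀ v : V, a • v = 0) (hG : ∀ a ∈ m, ∀ g : G, a • g = 0)
    (j : V →ₗ[A] G) (hj : Function.Injective j) : ∃ r : G →ₗ[A] V, ∀ v, r (j v) = v := by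
  letI : Field (A ⧸ m) := Ideal.Quotient.field m
  have tV : Module.IsTorsionBySet A V (m : Set A) := fun v a => hV a.1 a.2 v
  have tG : Module.IsTorsionBySet A G (m : Set A) := fun g a => hG a.1 a.2 g
  letI mV : Module (A ⧸ m) V := tV.module
  letI mG : Module (A ⧸ m) G := tG.module
  let j' : V →ₗ[A ⧸ m] G :=
    { toFun := j
      map_add' := j.map_add
      map_smul' := fun c v => by
        obtain ⟨a, rfl⟩ := Ideal.Quotient.mk_surjective c
        show j (a • v) = a • j v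
        exact j.map_smul a v }
  have hj' : LinearMap.ker j' = ⊥ := LinearMap.ker_eq_bot.mpr hj
  obtain ⟨r', hr'⟩ := j'.exists_leftInverse_of_injective hj'
  refine ⟨{ toFun := r'
            map_add' := r'.map_add
            map_smul' := fun a g => by
              show r' (Ideal.Quotient.mk m a • g) = Ideal.Quotient.mk m a • r' g
              exact r'.map_smul _ g }, fun v => ?_⟩
  exact LinearMap.congr_fun hr' v

section NZD

variable {A Bx L : Type u} [CommRing A] [CommRing Bx] [CommRing L] [Algebra A Bx] [Algebra A L]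

/-- The comparison `(Bx ⊗[A] L) ⊗[Bx] G ≃ G ⊗[A] L`. -/
noncomputable def eG (A L : Type u) {Bx : Type u} [CommRing A] [CommRing Bx] [CommRing L]
    [Algebra A Bx] [Algebra A L] (G : Type u) [AddCommGroup G] [Module Bx G] [Module A G]
    [IsScalarTower A Bx G] : (Bx ⊗[A] L) ⊗[Bx] G ≃ₗ[Bx] G ⊗[A] L :=
  (TensorProduct.comm Bx (Bx ⊗[A] L) G) ≪≫ₗ
    (TensorProduct.AlgebraTensorModule.cancelBaseChange A Bx Bx G L)

lemma eG_tmul {G : Type u} [AddCommGroup G] [Module Bx G] [Module A G] [IsScalarTower A Bx G]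
    (b : Bx) (l : L) (g : G) :
    eG A L G ((b ⊗ₜ[A] l) ⊗ₜ[Bx] g) = (b • g) ⊗ₜ[A] l := by
  simp [eG]

lemma eG_natural {V G : Type u} [AddCommGroup V] [AddCommGroup G]
    [Module Bx V] [Module A V] [IsScalarTower A Bx V] [Module Bx G] [Module A G]
    [IsScalarTower A Bx G] (j : V →ₗ[Bx] G) (z : (Bx ⊗[A] L) ⊗[Bx] V) :
    eG A L G (LinearMap.lTensor (Bx ⊗[A] L) j z) =
      LinearMap.rTensor L (j.restrictScalars A) (eG A L V z) := by
  induction z using TensorProduct.induction_on with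
  | zero => simp
  | add x y hx hy => rw [map_add, map_add, hx, hy, map_add, map_add]
  | tmul c v =>
    induction c using TensorProduct.induction_on with
    | zero => simp
    | add c₁ c₂ h₁ h₂ =>
      rw [TensorProduct.add_tmul, map_add, map_add, h₁, h₂, map_add, map_add]
    | tmul b l =>
      rw [LinearMap.lTensor_tmul, eG_tmul, eG_tmul, LinearMap.rTensor_tmul,
        LinearMap.restrictScalars_apply, map_smul]

lemma lTensor_smul {V G : Type u} [AddCommGroup V] [AddCommGroup G]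
    [Module Bx V] [Module Bx G] (j : V →ₗ[Bx] G) (c : Bx ⊗[A] L) (z : (Bx ⊗[A] L) ⊗[Bx] V) :
    LinearMap.lTensor (Bx ⊗[A] L) j (c • z) = c • LinearMap.lTensor (Bx ⊗[A] L) j z := by
  have h := map_smul (j.baseChange (Bx ⊗[A] L)) c z
  exact h

lemma lTensor_injective_of_torsion (m : Ideal A) [m.IsMaximal] {V G : Type u}
    [AddCommGroup V] [AddCommGroup G]
    [Module Bx V] [Module A V] [IsScalarTower A Bx V] [Module Bx G] [Module A G]
    [IsScalarTower A Bx G] (hV : ∀ a ∈ m, ∀ v : V, a • v = 0) (hG : ∀ a ∈ m, ∀ g : G, a • g = 0)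
    (j : V →ₗ[Bx] G) (hj : Function.Injective j) :
    Function.Injective (LinearMap.lTensor (Bx ⊗[A] L) j) := by
  obtain ⟨r, hr⟩ := exists_retraction m hV hG (j.restrictScalars A) hj
  rw [injective_iff_map_eq_zero]
  intro z hz
  have h1 := eG_natural (A := A) (L := L) j z
  rw [hz, map_zero] at h1
  have h2 : LinearMap.rTensor L r (LinearMap.rTensor L (j.restrictScalars A) (eG A L V z)) =
      eG A L V z := by
    rw [← LinearMap.comp_apply, ← LinearMap.rTensor_comp]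
    have h3 : r ∘ₗ (j.restrictScalars A) = LinearMap.id := LinearMap.ext hr
    rw [h3, LinearMap.rTensor_id, LinearMap.id_apply]
  rw [← h1, map_zero] at h2
  exact (eG A L V).map_eq_zero_iff.mp h2.symm

variable [IsLocalRing Bx]

/-- The case of a module killed by the maximal ideal. -/
lemma nzd_base (c : Bx ⊗[A] L)
    (hK : ∀ y : (Bx ⊗[A] L) ⊗[Bx] (Bx ⧸ maximalIdeal Bx), c • y = 0 → y = 0)
    {V : Type u} [AddCommGroup V] [Module Bx V]
    (hV : ∀ t ∈ maximalIdeal Bx, ∀ v : V, t • v = 0) (z : (Bx ⊗[A] L) ⊗[Bx] V)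
    (hz : c • z = 0) : z = 0 := by
  classical
  letI : Field (Bx ⧸ maximalIdeal Bx) := Ideal.Quotient.field _
  have tV : Module.IsTorsionBySet Bx V (maximalIdeal Bx : Set Bx) := fun v a => hV a.1 a.2 v
  letI mV : Module (Bx ⧸ maximalIdeal Bx) V := tV.module
  haveI : IsScalarTower Bx (Bx ⧸ maximalIdeal Bx) V := Module.IsTorsionBySet.isScalarTower tV
  let b := Module.Basis.ofVectorSpace (Bx ⧸ maximalIdeal Bx) V
  let e : V ≃ₗ[Bx] (↥(Module.Basis.ofVectorSpaceIndex (Bx ⧸ maximalIdeal Bx) V) →₀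
      (Bx ⧸ maximalIdeal Bx)) := b.repr.restrictScalars Bx
  let Φ : (Bx ⊗[A] L) ⊗[Bx] V ≃ₗ[Bx ⊗[A] L]
      (↥(Module.Basis.ofVectorSpaceIndex (Bx ⧸ maximalIdeal Bx) V) →₀
        (Bx ⊗[A] L) ⊗[Bx] (Bx ⧸ maximalIdeal Bx)) :=
    (TensorProduct.AlgebraTensorModule.congr (LinearEquiv.refl (Bx ⊗[A] L) (Bx ⊗[A] L)) e) ≪≫ₗ
      TensorProduct.finsuppRight Bx (Bx ⊗[A] L) (Bx ⊗[A] L) (Bx ⧸ maximalIdeal Bx) _
  have h0 : Φ z = 0 := by
    ext i
    rw [Finsupp.zero_apply]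
    apply hK
    rw [← Finsupp.smul_apply, ← map_smul, hz, map_zero, Finsupp.zero_apply]
  exact Φ.map_eq_zero_iff.mp h0

/-- **The filtration argument.** -/
theorem nzd (m : Ideal A) [m.IsMaximal] (c : Bx ⊗[A] L)
    (hK : ∀ y : (Bx ⊗[A] L) ⊗[Bx] (Bx ⧸ maximalIdeal Bx), c • y = 0 → y = 0) :
    ∀ (n : ℕ) (G : Type u) [AddCommGroup G] [Module Bx G] [Module A G] [IsScalarTower A Bx G],
      (∀ a ∈ m, ∀ g : G, a • g = 0) → (∀ t ∈ maximalIdeal Bx ^ n, ∀ g : G, t • g = 0) →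
      ∀ z : (Bx ⊗[A] L) ⊗[Bx] G, c • z = 0 → z = 0 := by
  intro n
  induction n with
  | zero =>
    intro G _ _ _ _ hm hn z hz
    have hG : ∀ g : G, g = 0 := fun g => by
      have h := hn 1 (by rw [pow_zero, Ideal.one_eq_top]; exact Submodule.mem_top) g
      rwa [one_smul] at h
    have h0 : ∀ w : (Bx ⊗[A] L) ⊗[Bx] G, w = 0 := fun w => by
      induction w using TensorProduct.induction_on with
      | zero => rfl
      | tmul x g => rw [hG g, TensorProduct.tmul_zero]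
      | add x y hx hy => rw [hx, hy, add_zero]
    exact h0 z
  | succ n ih =>
    intro G _ _ _ _ hm hn z hz
    set G₁ : Submodule Bx G := maximalIdeal Bx • ⊤ with hG₁
    have hQ : ∀ t ∈ maximalIdeal Bx, ∀ v : G ⧸ G₁, t • v = 0 := by
      intro t ht v
      obtain ⟨g, rfl⟩ := Submodule.Quotient.mk_surjective _ v
      rw [← Submodule.Quotient.mk_smul, Submodule.Quotient.mk_eq_zero]
      exact Submodule.smul_mem_smul ht Submodule.mem_top
    have h1 : LinearMap.lTensor (Bx ⊗[A] L) G₁.mkQ z = 0 := by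
      apply nzd_base c hK hQ
      rw [← lTensor_smul, hz, map_zero]
    have hex : Function.Exact (LinearMap.lTensor (Bx ⊗[A] L) G₁.subtype)
        (LinearMap.lTensor (Bx ⊗[A] L) G₁.mkQ) :=
      lTensor_exact (Bx ⊗[A] L) (LinearMap.exact_subtype_mkQ G₁) (Submodule.mkQ_surjective G₁)
    obtain ⟨z₁, hz₁⟩ := (hex z).mp h1
    have hm₁ : ∀ a ∈ m, ∀ g : G₁, a • g = 0 := fun a ha g => by
      apply Subtype.ext
      rw [Submodule.coe_smul_of_tower, hm a ha g.1, Submodule.coe_zero]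
    have hn₁ : ∀ t ∈ maximalIdeal Bx ^ n, ∀ g : G₁, t • g = 0 := by
      intro t ht g
      apply Subtype.ext
      rw [Submodule.coe_smul, Submodule.coe_zero]
      have hg : (g : G) ∈ maximalIdeal Bx • (⊤ : Submodule Bx G) := g.2
      refine Submodule.smul_induction_on hg (fun a ha y _ => ?_) (fun y₁ y₂ h₁ h₂ => ?_)
      · rw [smul_smul]
        exact hn (t * a) (by rw [pow_succ]; exact Ideal.mul_mem_mul ht ha) y
      · rw [smul_add, h₁, h₂, add_zero]
    have h2 : c • z₁ = 0 := by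
      apply lTensor_injective_of_torsion (A := A) (L := L) m hm₁ hm G₁.subtype
        (Submodule.injective_subtype G₁)
      rw [map_zero, lTensor_smul, hz₁, hz]
    have h3 := ih ↥G₁ hm₁ hn₁ z₁ h2
    rw [← hz₁, h3, map_zero]

/-- The hypothesis `hK` of `nzd` from the nilpotence of zero-divisors of `L ⊗[A] κ(Bx)`. -/
theorem hK_of_alpha (c : Bx ⊗[A] L) {Ω : Type*} [Field Ω] (χ : (Bx ⊗[A] L) →+* Ω)
    (hχm : ∀ t ∈ maximalIdeal Bx, χ (t ⊗ₜ[A] (1 : L)) = 0) (hχc : χ c ≠ 0)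
    (hα : ∀ s z : L ⊗[A] (Bx ⧸ maximalIdeal Bx), s * z = 0 → z ≠ 0 → IsNilpotent s) :
    ∀ y : (Bx ⊗[A] L) ⊗[Bx] (Bx ⧸ maximalIdeal Bx), c • y = 0 → y = 0 := by
  intro y hy
  by_contra hy0
  let e₁ : ((Bx ⊗[A] L) ⊗[Bx] (Bx ⧸ maximalIdeal Bx)) ≃ₐ[Bx]
      ((Bx ⧸ maximalIdeal Bx) ⊗[Bx] (Bx ⊗[A] L)) :=
    Algebra.TensorProduct.comm Bx (Bx ⊗[A] L) (Bx ⧸ maximalIdeal Bx)
  let e₂ : ((Bx ⧸ maximalIdeal Bx) ⊗[Bx] (Bx ⊗[A] L)) ≃ₐ[Bx] ((Bx ⧸ maximalIdeal Bx) ⊗[A] L) :=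
    Algebra.TensorProduct.cancelBaseChange A Bx Bx (Bx ⧸ maximalIdeal Bx) L
  let e₃ : ((Bx ⧸ maximalIdeal Bx) ⊗[A] L) ≃ₐ[A] (L ⊗[A] (Bx ⧸ maximalIdeal Bx)) :=
    Algebra.TensorProduct.comm A (Bx ⧸ maximalIdeal Bx) L
  let ε : ((Bx ⊗[A] L) ⊗[Bx] (Bx ⧸ maximalIdeal Bx)) ≃+* (L ⊗[A] (Bx ⧸ maximalIdeal Bx)) :=
    (e₁.toRingEquiv.trans e₂.toRingEquiv).trans e₃.toRingEquiv
  have h1' : ∀ y' : (Bx ⊗[A] L) ⊗[Bx] (Bx ⧸ maximalIdeal Bx),
      c • y' = (c ⊗ₜ[Bx] (1 : Bx ⧸ maximalIdeal Bx)) * y' := by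
    intro y'
    induction y' using TensorProduct.induction_on with
    | zero => simp
    | tmul a b =>
      rw [TensorProduct.smul_tmul', Algebra.TensorProduct.tmul_mul_tmul, one_mul, smul_eq_mul]
    | add x y hx hy => rw [smul_add, mul_add, hx, hy]
  have h1 := h1' y
  have h2 : ε (c ⊗ₜ[Bx] (1 : Bx ⧸ maximalIdeal Bx)) * ε y = 0 := by
    rw [← map_mul, ← h1, hy, map_zero]
  have h3 : IsNilpotent (ε (c ⊗ₜ[Bx] (1 : Bx ⧸ maximalIdeal Bx))) :=
    hα _ _ h2 (fun h => hy0 (ε.map_eq_zero_iff.mp h))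
  have h4 : IsNilpotent (c ⊗ₜ[Bx] (1 : Bx ⧸ maximalIdeal Bx) :
      (Bx ⊗[A] L) ⊗[Bx] (Bx ⧸ maximalIdeal Bx)) := by
    have := h3.map ε.symm
    rwa [RingEquiv.symm_apply_apply] at this
  -- the character
  letI algBxΩ : Algebra Bx Ω := (χ.comp (algebraMap Bx (Bx ⊗[A] L))).toAlgebra
  let f : (Bx ⊗[A] L) →ₐ[Bx] Ω := { χ with commutes' := fun b => rfl }
  let g : (Bx ⧸ maximalIdeal Bx) →ₐ[Bx] Ω :=
    Ideal.Quotient.liftₐ (maximalIdeal Bx) (Algebra.ofId Bx Ω) (fun t ht => by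
      show χ (algebraMap Bx (Bx ⊗[A] L) t) = 0
      rw [Algebra.TensorProduct.algebraMap_apply]
      exact hχm t ht)
  let χ' : ((Bx ⊗[A] L) ⊗[Bx] (Bx ⧸ maximalIdeal Bx)) →ₐ[Bx] Ω :=
    Algebra.TensorProduct.productMap f g
  have h5 : χ' (c ⊗ₜ[Bx] (1 : Bx ⧸ maximalIdeal Bx)) = χ c := by
    rw [Algebra.TensorProduct.productMap_apply_tmul, map_one, mul_one]
    rfl
  have h6 : IsNilpotent (χ c) := by
    rw [← h5]
    exact h4.map χ'
  exact hχc h6.eq_zero

end NZD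

end Groth.Agent.Lib.Flatif
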