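import Mathlib
import Groth.Agent.Lib.Flatif7_lead
import Groth.Agent.Lib.Prim2_lead

set_option autoImplicit false
set_option backward.isDefEq.respectTransparency false
set_option linter.unusedSimpArgs false
set_option linter.unusedVariables false
set_option linter.unusedSectionVars false
set_option linter.style.longLine false
set_option linter.style.haveILetI false
set_option linter.unnecessarySimpa false
set_option maxHeartbeats 1600000

/-!
# Independence upstairs at a single point (primary residue extension), part 1: `li_core_prim`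
-/

namespace Groth.Agent.Lib.Flatif

open TensorProduct IsLocalRing

universe u

section Aux

variable {A Bx L G : Type u} [CommRing A] [CommRing Bx] [CommRing L] [Algebra A Bx] [Algebra A L]
  [AddCommGroup G] [Module Bx G]

lemma tp_zero_smul (z : (Bx ⊗[A] L) ⊗[Bx] G) : (0 : Bx ⊗[A] L) • z = 0 := zero_smul _ _

lemma tp_mul_smul (c d : Bx ⊗[A] L) (z : (Bx ⊗[A] L) ⊗[Bx] G) : (c * d) • z = c • d • z :=
  mul_smul _ _ _

lemma tp_add_smul (c d : Bx ⊗[A] L) (z : (Bx ⊗[A] L) ⊗[Bx] G) : (c + d) • z = c • z + d • z :=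
  add_smul _ _ _

end Aux

section Core

variable {A B Bx A' B' : Type u} [CommRing A] [CommRing B] [CommRing Bx] [CommRing A']
  [CommRing B'] [IsLocalRing A] [IsLocalRing A'] [IsLocalRing Bx]
  [Algebra A B] [Algebra B Bx] [Algebra A Bx] [IsScalarTower A B Bx]
  [Algebra A A'] [Algebra A' B'] [Algebra B B'] [Algebra A B']
  [IsScalarTower A A' B'] [IsScalarTower A B B'] [Algebra.IsPushout A B A' B']
  (p : Ideal B) [p.IsPrime] [IsLocalization.AtPrime Bx p]
  {M M' G : Type u} [AddCommGroup M] [AddCommGroup M'] [AddCommGroup G]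
  [Module B M] [Module A M] [IsScalarTower A B M]
  [Module B' M'] [Module B M'] [Module A' M'] [IsScalarTower B B' M'] [IsScalarTower A' B' M']
  [Module Bx G] [Module B G] [Module A G] [IsScalarTower B Bx G] [IsScalarTower A B G]
  [IsScalarTower A Bx G]
  (ι : M →ₗ[B] M') (hι : IsBaseChange B' ι) (gbar : M →ₗ[B] G)

local notation "κ'" => A' ⧸ maximalIdeal A'
local notation "k" => A ⧸ maximalIdeal A

include hι in
theorem li_core_prim
    (hloc : ∀ a ∈ maximalIdeal A, algebraMap A A' a ∈ maximalIdeal A')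
    (hm : ∀ a ∈ maximalIdeal A, ∀ g : G, a • g = 0)
    (hn : ∃ n : ℕ, ∀ t ∈ maximalIdeal Bx ^ n, ∀ g : G, t • g = 0)
    {r : ℕ} (x : Fin r → M)
    (hind : ∀ a : Fin r → A, ∑ i, a i • gbar (x i) = 0 → ∀ i, a i ∈ maximalIdeal A)
    (a' : Fin r → A')
    (q₀ : Ideal B') [q₀.IsPrime] (hq₀p : q₀.comap (algebraMap B B') = p)
    (hq₀m : q₀.comap (algebraMap A' B') = maximalIdeal A')
    (hα : ∀ s z : κ' ⊗[A] (Bx ⧸ maximalIdeal Bx), s * z = 0 → z ≠ 0 → IsNilpotent s)
    (hyp : ∃ s : B', s ∉ q₀ ∧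
      s • ∑ i, a' i • ι (x i) ∈ maximalIdeal A' • (⊤ : Submodule A' M')) :
    ∀ i, a' i ∈ maximalIdeal A' := by
  classical
  by_contra hcon
  push_neg at hcon
  obtain ⟨i₀, hi₀⟩ := hcon
  obtain ⟨s, hsq, hmem⟩ := hyp
  obtain ⟨n, hn⟩ := hn
  -- the ring map `φ : B' → C = Bx ⊗[A] κ'`
  let fB : B →ₐ[A] (Bx ⊗[A] κ') :=
    (Algebra.TensorProduct.includeLeft : Bx →ₐ[A] Bx ⊗[A] κ').comp (IsScalarTower.toAlgHom A B Bx)
  let gA : A' →ₐ[A] (Bx ⊗[A] κ') :=
    (Algebra.TensorProduct.includeRight : κ' →ₐ[A] Bx ⊗[A] κ').comp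
      (IsScalarTower.toAlgHom A A' κ')
  let φ : B' →ₐ[A] (Bx ⊗[A] κ') := Algebra.pushoutDesc B' fB gA (fun _ _ => mul_comm _ _)
  have hφB : ∀ b : B, φ (algebraMap B B' b) = (algebraMap B Bx b) ⊗ₜ[A] (1 : κ') :=
    fun b => Algebra.pushoutDesc_left B' fB gA _ b
  have hφA : ∀ a : A', φ (algebraMap A' B' a) =
      (1 : Bx) ⊗ₜ[A] (Ideal.Quotient.mk (maximalIdeal A') a) :=
    fun a => Algebra.pushoutDesc_right B' fB gA _ a
  -- the residue character at `q₀`
  let res : B' →+* FractionRing (B' ⧸ q₀) :=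
    (algebraMap (B' ⧸ q₀) (FractionRing (B' ⧸ q₀))).comp (Ideal.Quotient.mk q₀)
  have hres0 : ∀ b' : B', res b' = 0 ↔ b' ∈ q₀ := fun b' => by
    show algebraMap (B' ⧸ q₀) (FractionRing (B' ⧸ q₀)) (Ideal.Quotient.mk q₀ b') = 0 ↔ _
    rw [map_eq_zero_iff _ (IsFractionRing.injective (B' ⧸ q₀) (FractionRing (B' ⧸ q₀))),
      Ideal.Quotient.eq_zero_iff_mem]
  have hunit : ∀ y : p.primeCompl, IsUnit ((res.comp (algebraMap B B')) y) := by
    intro y
    refine Ne.isUnit fun h0 => ?_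
    have h1 : algebraMap B B' (y : B) ∈ q₀ := (hres0 _).mp h0
    have h2 : (y : B) ∈ q₀.comap (algebraMap B B') := h1
    rw [hq₀p] at h2
    exact y.2 h2
  let χ₁ : Bx →+* FractionRing (B' ⧸ q₀) :=
    IsLocalization.lift (M := p.primeCompl) (g := res.comp (algebraMap B B')) hunit
  have hχ₁ : ∀ b : B, χ₁ (algebraMap B Bx b) = res (algebraMap B B' b) :=
    fun b => IsLocalization.lift_eq hunit b
  let χ₂ : κ' →+* FractionRing (B' ⧸ q₀) :=
    Ideal.Quotient.lift (maximalIdeal A') (res.comp (algebraMap A' B')) (fun a ha => by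
      show res (algebraMap A' B' a) = 0
      rw [hres0]
      have h2 : a ∈ q₀.comap (algebraMap A' B') := by rw [hq₀m]; exact ha
      exact h2)
  have hχ₂ : ∀ a : A', χ₂ (Ideal.Quotient.mk (maximalIdeal A') a) = res (algebraMap A' B' a) :=
    fun a => Ideal.Quotient.lift_mk _ _ _
  letI algAΩ : Algebra A (FractionRing (B' ⧸ q₀)) := (res.comp (algebraMap A B')).toAlgebra
  let f₁ : Bx →ₐ[A] FractionRing (B' ⧸ q₀) :=
    { χ₁ with
      commutes' := fun a => by
        show χ₁ (algebraMap A Bx a) = res (algebraMap A B' a)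
        rw [IsScalarTower.algebraMap_apply A B Bx, hχ₁, ← IsScalarTower.algebraMap_apply A B B'] }
  let f₂ : κ' →ₐ[A] FractionRing (B' ⧸ q₀) :=
    { χ₂ with
      commutes' := fun a => by
        show χ₂ (algebraMap A κ' a) = res (algebraMap A B' a)
        rw [IsScalarTower.algebraMap_apply A A' κ']
        show χ₂ (Ideal.Quotient.mk (maximalIdeal A') (algebraMap A A' a)) = _
        rw [hχ₂, ← IsScalarTower.algebraMap_apply A A' B'] }
  let χ : (Bx ⊗[A] κ') →ₐ[A] FractionRing (B' ⧸ q₀) := Algebra.TensorProduct.productMap f₁ f₂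
  have hχt : ∀ (b : Bx) (l : κ'), χ (b ⊗ₜ[A] l) = χ₁ b * χ₂ l := fun b l => rfl
  have hχm : ∀ t ∈ maximalIdeal Bx, χ (t ⊗ₜ[A] (1 : κ')) = 0 := by
    intro t ht
    rw [hχt, map_one, mul_one]
    have h1 : maximalIdeal Bx ≤ (RingHom.ker χ₁) := by
      rw [← IsLocalization.AtPrime.map_eq_maximalIdeal p Bx, Ideal.map_le_iff_le_comap]
      intro b hb
      rw [Ideal.mem_comap, RingHom.mem_ker, hχ₁, hres0]
      have h2 : b ∈ q₀.comap (algebraMap B B') := by rw [hq₀p]; exact hb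
      exact h2
    exact (RingHom.mem_ker).mp (h1 ht)
  let resA : B' →ₐ[A] FractionRing (B' ⧸ q₀) := { res with commutes' := fun a => rfl }
  have hχφ : ∀ b' : B', χ (φ b') = res b' := by
    have h0 : χ.comp φ = resA := by
      apply Algebra.IsPushout.algHom_ext (R := A) (S := B) (R' := A') (S' := B')
      · ext a
        show χ (φ (algebraMap A' B' a)) = res (algebraMap A' B' a)
        rw [hφA, hχt, map_one, one_mul, hχ₂]
      · ext b
        show χ (φ (algebraMap B B' b)) = res (algebraMap B B' b)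
        rw [hφB, hχt, map_one, mul_one, hχ₁]
    intro b'
    exact AlgHom.congr_fun h0 b'
  have hχs : (χ : (Bx ⊗[A] κ') →+* FractionRing (B' ⧸ q₀)) (φ s) ≠ 0 := by
    show χ (φ s) ≠ 0
    rw [hχφ]
    exact fun h => hsq ((hres0 s).mp h)
  have hK := hK_of_alpha (A := A) (Bx := Bx) (L := κ') (φ s)
    (χ : (Bx ⊗[A] κ') →+* FractionRing (B' ⧸ q₀)) hχm hχs hα
  have hnzd := nzd (A := A) (Bx := Bx) (L := κ') (maximalIdeal A) (φ s) hK n G hm hn
  -- the comparison map `Θ`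
  let β : B' →+ M →+ ((Bx ⊗[A] κ') ⊗[Bx] G) :=
    { toFun := fun b' =>
        { toFun := fun y => φ b' • ((1 : Bx ⊗[A] κ') ⊗ₜ[Bx] gbar y)
          map_zero' := by rw [map_zero, TensorProduct.tmul_zero, smul_zero]
          map_add' := fun y₁ y₂ => by rw [map_add, TensorProduct.tmul_add, smul_add] }
      map_zero' := by
        ext y
        show φ 0 • ((1 : Bx ⊗[A] κ') ⊗ₜ[Bx] gbar y) = 0
        rw [map_zero]
        exact tp_zero_smul _
      map_add' := fun b₁ b₂ => by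
        ext y
        show φ (b₁ + b₂) • ((1 : Bx ⊗[A] κ') ⊗ₜ[Bx] gbar y) =
          φ b₁ • ((1 : Bx ⊗[A] κ') ⊗ₜ[Bx] gbar y) + φ b₂ • ((1 : Bx ⊗[A] κ') ⊗ₜ[Bx] gbar y)
        rw [map_add]
        exact tp_add_smul _ _ _ }
  have hβ : ∀ (b' : B') (y : M), β b' y = φ b' • ((1 : Bx ⊗[A] κ') ⊗ₜ[Bx] gbar y) :=
    fun b' y => rfl
  have hbal : ∀ (b : B) (b' : B') (y : M), β (b • b') y = β b' (b • y) := by
    intro b b' y
    rw [hβ, hβ, Algebra.smul_def, map_mul, hφB, map_smul, ← algebraMap_smul Bx b (gbar y),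
      ← TensorProduct.smul_tmul]
    have e1 : ((algebraMap B Bx b) • (1 : Bx ⊗[A] κ')) = (algebraMap B Bx b) ⊗ₜ[A] (1 : κ') := by
      rw [Algebra.TensorProduct.one_def, TensorProduct.smul_tmul', smul_eq_mul, mul_one]
    rw [e1, mul_comm]
    have e2 : ∀ (c d : Bx ⊗[A] κ') (g : G),
        (c * d) • ((1 : Bx ⊗[A] κ') ⊗ₜ[Bx] g) = c • (d ⊗ₜ[Bx] g) := by
      intro c d g
      rw [TensorProduct.smul_tmul', TensorProduct.smul_tmul', smul_eq_mul, smul_eq_mul, mul_one]
    exact e2 _ _ _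
  let Θ' : B' ⊗[B] M →+ ((Bx ⊗[A] κ') ⊗[Bx] G) := TensorProduct.liftAddHom β hbal
  have hΘ't : ∀ (b' : B') (y : M), Θ' (b' ⊗ₜ[B] y) = β b' y := fun b' y => rfl
  have hΘ's : ∀ (b' : B') (t : B' ⊗[B] M), Θ' (b' • t) = φ b' • Θ' t := by
    intro b' t
    induction t using TensorProduct.induction_on with
    | zero => rw [smul_zero, map_zero, smul_zero]
    | tmul b'' y =>
      rw [TensorProduct.smul_tmul', smul_eq_mul, hΘ't, hΘ't, hβ, hβ, map_mul]
      exact tp_mul_smul _ _ _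
    | add t₁ t₂ h₁ h₂ => rw [smul_add, map_add, h₁, h₂, map_add, smul_add]
  let Θ : M' → ((Bx ⊗[A] κ') ⊗[Bx] G) := fun w => Θ' (hι.equiv.symm w)
  have hΘadd : ∀ w₁ w₂ : M', Θ (w₁ + w₂) = Θ w₁ + Θ w₂ := fun w₁ w₂ => by
    show Θ' (hι.equiv.symm (w₁ + w₂)) = _
    rw [map_add, map_add]
  have hΘ0 : Θ 0 = 0 := by
    show Θ' (hι.equiv.symm 0) = 0
    rw [map_zero, map_zero]
  have hΘsum : ∀ (t : Finset (Fin r)) (w : Fin r → M'), Θ (∑ i ∈ t, w i) = ∑ i ∈ t, Θ (w i) := by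
    intro t w
    induction t using Finset.induction_on with
    | empty => simpa using hΘ0
    | insert a t ha ih => rw [Finset.sum_insert ha, Finset.sum_insert ha, hΘadd, ih]
  have hΘs : ∀ (b' : B') (w : M'), Θ (b' • w) = φ b' • Θ w := fun b' w => by
    show Θ' (hι.equiv.symm (b' • w)) = _
    rw [map_smul, hΘ's]
  have hΘι : ∀ y : M, Θ (ι y) = (1 : Bx ⊗[A] κ') ⊗ₜ[Bx] gbar y := fun y => by
    show Θ' (hι.equiv.symm (ι y)) = _
    rw [hι.equiv_symm_apply, hΘ't, hβ, map_one, one_smul]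
  have hΘA : ∀ (a : A') (w : M'), Θ (a • w) =
      ((1 : Bx) ⊗ₜ[A] (Ideal.Quotient.mk (maximalIdeal A') a)) • Θ w := fun a w => by
    rw [← algebraMap_smul B' a w, hΘs, hφA]
  have hΘm : ∀ w ∈ maximalIdeal A' • (⊤ : Submodule A' M'), Θ w = 0 := by
    intro w hw
    refine Submodule.smul_induction_on hw (fun a ha v _ => ?_) (fun w₁ w₂ h₁ h₂ => ?_)
    · rw [hΘA, Ideal.Quotient.eq_zero_iff_mem.mpr ha, TensorProduct.tmul_zero]
      exact tp_zero_smul _
    · rw [hΘadd, h₁, h₂, add_zero]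
  -- the element `z`
  have hzval : Θ (∑ i, a' i • ι (x i)) =
      ∑ i, (((1 : Bx) ⊗ₜ[A] (Ideal.Quotient.mk (maximalIdeal A') (a' i))) ⊗ₜ[Bx] gbar (x i)) := by
    rw [hΘsum]
    refine Finset.sum_congr rfl fun i _ => ?_
    rw [hΘA, hΘι, TensorProduct.smul_tmul', smul_eq_mul, mul_one]
  have hz0 : Θ (∑ i, a' i • ι (x i)) = 0 := by
    apply hnzd
    rw [← hΘs]
    exact hΘm _ hmem
  -- Step Z: `z ≠ 0`
  obtain ⟨ψ, hψ⟩ : ∃ ψ : G →ₗ[A] κ', ∀ j : Fin r, ψ (gbar (x j)) = if j = i₀ then 1 else 0 := by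
    letI fk : Field k := Ideal.Quotient.field _
    have hbot : ∀ g ∈ maximalIdeal A • (⊤ : Submodule A G), g = 0 := by
      intro g hg
      refine Submodule.smul_induction_on hg (fun a ha g _ => hm a ha g) (fun x y hx hy => ?_)
      rw [hx, hy, add_zero]
    have hli : LinearIndependent k (fun j : Fin r => ((1 : k) ⊗ₜ[A] gbar (x j) : k ⊗[A] G)) := by
      rw [Fintype.linearIndependent_iff]
      intro c hc j
      choose a ha using fun j => Ideal.Quotient.mk_surjective (I := maximalIdeal A) (c j)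
      have h1 : ∑ j, c j • ((1 : k) ⊗ₜ[A] gbar (x j) : k ⊗[A] G) =
          (1 : k) ⊗ₜ[A] (∑ j, a j • gbar (x j)) := by
        rw [TensorProduct.tmul_sum]
        refine Finset.sum_congr rfl fun j _ => ?_
        rw [TensorProduct.smul_tmul', smul_eq_mul, mul_one, ← ha j, TensorProduct.tmul_smul,
          TensorProduct.smul_tmul']
        congr 1
        rw [Algebra.smul_def, mul_one]
        rfl
      rw [h1, Groth.Agent.Lib.ArtinFlat.one_tmul_eq_zero_iff] at hc
      have h2 := hind a (hbot _ hc) j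
      rw [← ha j]
      exact Ideal.Quotient.eq_zero_iff_mem.mpr h2
    let f : (Fin r → k) →ₗ[k] (k ⊗[A] G) :=
      Fintype.linearCombination k (fun j : Fin r => ((1 : k) ⊗ₜ[A] gbar (x j) : k ⊗[A] G))
    have hker : LinearMap.ker f = ⊥ := by
      refine LinearMap.ker_eq_bot'.mpr fun c hc => funext fun j => ?_
      exact (Fintype.linearIndependent_iff.mp hli) c
        (by rw [← Fintype.linearCombination_apply]; exact hc) j
    obtain ⟨gl, hgl⟩ := f.exists_leftInverse_of_injective hker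
    let φ₀ : (k ⊗[A] G) →ₗ[k] k := (LinearMap.proj i₀).comp gl
    have hφ₀ : ∀ j : Fin r, φ₀ ((1 : k) ⊗ₜ[A] gbar (x j)) = if j = i₀ then 1 else 0 := by
      intro j
      have e1 : f (Pi.single j 1) = (1 : k) ⊗ₜ[A] gbar (x j) := by
        rw [Fintype.linearCombination_apply_single, one_smul]
      have e2 : gl (f (Pi.single j 1)) = Pi.single j 1 := LinearMap.congr_fun hgl _
      show (gl ((1 : k) ⊗ₜ[A] gbar (x j))) i₀ = _
      rw [← e1, e2, Pi.single_apply]
      by_cases h : j = i₀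
      · rw [if_pos h, if_pos h.symm]
      · rw [if_neg h, if_neg (Ne.symm h)]
    have hle : maximalIdeal A ≤ LinearMap.ker (Algebra.linearMap A κ') := by
      intro a ha
      rw [LinearMap.mem_ker, Algebra.linearMap_apply,
        IsScalarTower.algebraMap_apply A A' κ']
      exact Ideal.Quotient.eq_zero_iff_mem.mpr (hloc a ha)
    let kκ : k →ₗ[A] κ' := Submodule.liftQ (maximalIdeal A) (Algebra.linearMap A κ') hle
    have hkκ1 : kκ 1 = 1 := by
      show kκ (Submodule.Quotient.mk 1) = 1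
      rw [Submodule.liftQ_apply, Algebra.linearMap_apply, map_one]
    let ψ : G →ₗ[A] κ' := kκ ∘ₗ (φ₀.restrictScalars A) ∘ₗ (TensorProduct.mk A k G 1)
    have hψ : ∀ j : Fin r, ψ (gbar (x j)) = if j = i₀ then 1 else 0 := by
      intro j
      show kκ (φ₀ ((1 : k) ⊗ₜ[A] gbar (x j))) = _
      rw [hφ₀]
      by_cases h : j = i₀
      · rw [if_pos h, if_pos h, hkκ1]
      · rw [if_neg h, if_neg h, map_zero]
    exact ⟨ψ, hψ⟩
  let Ψ : (G ⊗[A] κ') →ₗ[A] κ' := TensorProduct.lift ((LinearMap.mul A κ').comp ψ)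
  have hΨ : ∀ (g : G) (l : κ'), Ψ (g ⊗ₜ[A] l) = ψ g * l := fun g l => rfl
  have h3 : Ψ (eG A κ' G (Θ (∑ i, a' i • ι (x i)))) =
      Ideal.Quotient.mk (maximalIdeal A') (a' i₀) := by
    rw [hzval, map_sum, map_sum]
    rw [Finset.sum_eq_single i₀]
    · rw [eG_tmul, one_smul, hΨ, hψ, if_pos rfl, one_mul]
    · intro j _ hj
      rw [eG_tmul, one_smul, hΨ, hψ, if_neg hj, zero_mul]
    · intro h
      exact absurd (Finset.mem_univ _) h
  rw [hz0, map_zero, map_zero] at h3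
  exact hi₀ (Ideal.Quotient.eq_zero_iff_mem.mp h3.symm)

end Core

end Groth.Agent.Lib.Flatif
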