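import Mathlib
import Groth.Prelude
import Groth.Agent.Lib.Flatif8_lead
import Groth.Agent.Lib.Prim1_lead
import Groth.Agent.Lib.Prim4_lead

set_option autoImplicit false
set_option backward.isDefEq.respectTransparency false
set_option linter.unusedSimpArgs false
set_option linter.unusedVariables false
set_option linter.unusedSectionVars false
set_option linter.style.longLine false
set_option linter.style.haveILetI false
set_option linter.unnecessarySimpa false
set_option maxHeartbeats 1600000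

/-!
# Flatness over an Artinian local base tested at one point of each member of a family,
when the residue extension is primary (S4899)
-/

namespace Groth.Agent.Lib.Flatif

open CategoryTheory CategoryTheory.Limits AlgebraicGeometry TopologicalSpace Opposite IsLocalRing
open TensorProduct

universe u

/-- Zero-divisors of `L ⊗[A₀] K` are nilpotent when `K / k` is primary, `A₀ → k` surjective. -/
theorem hα_of_prim' {A₀ k K L : Type u} [CommRing A₀] [Field k] [Field K] [Field L]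
    [Algebra A₀ k] [Algebra A₀ K] [Algebra A₀ L] [Algebra k K] [Algebra k L]
    [IsScalarTower A₀ k K] [IsScalarTower A₀ k L]
    (hsurj : Function.Surjective (algebraMap A₀ k))
    (hK : ∀ α : K, IsSeparable k α → α ∈ Set.range (algebraMap k K)) :
    ∀ s z : L ⊗[A₀] K, s * z = 0 → z ≠ 0 → IsNilpotent s := by
  intro s z hsz hz
  haveI : TensorProduct.CompatibleSMul A₀ k L K :=
    TensorProduct.CompatibleSMul.of_algebraMap_surjective _ _ hsurj
  let e : L ⊗[A₀] K ≃ₐ[k] L ⊗[k] K := Algebra.TensorProduct.equivOfCompatibleSMul k A₀ k L K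
  have h1 : e s * e z = 0 := by rw [← map_mul, hsz, map_zero]
  have h2 : e z ≠ 0 := fun h => hz (e.map_eq_zero_iff.mp h)
  have h3 := isNilpotent_of_mul_eq_zero_tensor hK L (e s) (e z) h1 h2
  have h4 := h3.map e.symm
  rwa [AlgEquiv.symm_apply_apply] at h4

lemma Γevaluation_surjective_closedPoint {R : Type u} [CommRing R] [IsLocalRing R]
    (y : Spec (CommRingCat.of R)) (hy : y = closedPoint R) :
    Function.Surjective ((Spec (CommRingCat.of R)).Γevaluation y).hom := by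
  haveI : IsLocalRing Γ(Spec (CommRingCat.of R), ⊤) := isLocalRing_Γ R
  have hW := isAffineOpen_top (Spec (CommRingCat.of R))
  letI alg : Algebra Γ(Spec (CommRingCat.of R), ⊤) ((Spec (CommRingCat.of R)).presheaf.stalk y) :=
    TopCat.Presheaf.algebra_section_stalk (Spec (CommRingCat.of R)).presheaf
      (⟨y, trivial⟩ : (⊤ : (Spec (CommRingCat.of R)).Opens))
  haveI hpr : (hW.primeIdealOf ⟨y, trivial⟩).asIdeal.IsPrime := (hW.primeIdealOf ⟨y, trivial⟩).isPrime
  haveI hlocz : IsLocalization.AtPrime ((Spec (CommRingCat.of R)).presheaf.stalk y)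
      (hW.primeIdealOf ⟨y, trivial⟩).asIdeal := hW.isLocalization_stalk ⟨y, trivial⟩
  have hunits : (hW.primeIdealOf ⟨y, trivial⟩).asIdeal.primeCompl ≤
      IsUnit.submonoid Γ(Spec (CommRingCat.of R), ⊤) := by
    intro a ha
    have ha' : a ∉ (hW.primeIdealOf ⟨y, trivial⟩).asIdeal := ha
    rw [primeIdealOf_closedPoint y hy] at ha'
    by_contra hnu
    exact ha' ((mem_maximalIdeal a).mpr hnu)
  let e := IsLocalization.atUnits Γ(Spec (CommRingCat.of R), ⊤)
    (hW.primeIdealOf ⟨y, trivial⟩).asIdeal.primeCompl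
    (S := (Spec (CommRingCat.of R)).presheaf.stalk y) hunits
  intro t
  obtain ⟨s, rfl⟩ := (Spec (CommRingCat.of R)).residue_surjective y t
  refine ⟨e.symm s, ?_⟩
  have h1 : (Spec (CommRingCat.of R)).presheaf.germ ⊤ y trivial (e.symm s) = s :=
    e.apply_symm_apply s
  show (Spec (CommRingCat.of R)).residue y
    ((Spec (CommRingCat.of R)).presheaf.germ ⊤ y trivial (e.symm s)) = _
  rw [h1]

/-- **EGA IV 11.5.x (primary residue extension), Artinian local base, general cartesian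
squares**: one flat point above `x` in each member of the family suffices. -/
theorem main_general_prim {A : Type u} [CommRing A] [IsArtinianRing A] [IsLocalRing A]
    {X : Scheme.{u}} (f : X ⟶ Spec (CommRingCat.of A)) [LocallyOfFiniteType f]
    (F : X.Modules) (hF : Coh.IsCoh F) (x : X)
    (hprim : letI := (f.residueFieldMap x).hom.toAlgebra
      ∀ a : ↑(X.residueField x), IsSeparable ↑((Spec (CommRingCat.of A)).residueField (f x)) a →
        a ∈ (f.residueFieldMap x).hom.range)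
    {ι : Type*} (A' : ι → Type u) [∀ i, CommRing (A' i)] [∀ i, IsLocalRing (A' i)]
    (u : ∀ i, A →+* A' i) (hu : ∀ a : A, (∀ i, u i a = 0) → a = 0)
    (X' : ι → Scheme.{u}) (g' : ∀ i, X' i ⟶ X)
    (f' : ∀ i, X' i ⟶ Spec (CommRingCat.of (A' i)))
    (hc : ∀ i, IsPullback (g' i) (f' i) f (Spec.map (CommRingCat.ofHom (u i))))
    (hflat : ∀ i : ι, ∃ x' : X' i, g' i x' = x ∧ f' i x' = IsLocalRing.closedPoint (A' i) ∧
      FlatMod.IsFlatOverAt (f' i) ((Scheme.Modules.pullback (g' i)).obj F) x') :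
    FlatMod.IsFlatOverAt f F x := by
  classical
  haveI : F.IsQuasicoherent := hF.1
  haveI : SheafOfModules.IsFiniteType (R := X.ringCatSheaf) F := hF.2
  have hW : IsAffineOpen (⊤ : (Spec (CommRingCat.of A)).Opens) := isAffineOpen_top _
  obtain ⟨_, ⟨U, hU : IsAffineOpen U, rfl⟩, hxU, -⟩ :=
    (X.isBasis_affineOpens).exists_subset_of_mem_open (Set.mem_univ x) isOpen_univ
  have hUW : U ≤ f ⁻¹ᵁ (⊤ : (Spec (CommRingCat.of A)).Opens) := fun _ _ => trivial
  rw [FlatSecH8.isFlatOverAt_iff_flat_stalk f F hW hUW hxU]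
  -- base ring instances
  haveI : IsLocalRing Γ(Spec (CommRingCat.of A), ⊤) := isLocalRing_Γ A
  haveI : IsArtinianRing Γ(Spec (CommRingCat.of A), ⊤) := isArtinianRing_Γ A
  -- algebra instances downstairs
  letI algAB : Algebra Γ(Spec (CommRingCat.of A), ⊤) Γ(X, U) := (f.appLE ⊤ U hUW).hom.toAlgebra
  letI algBBx : Algebra Γ(X, U) (X.presheaf.stalk x) :=
    TopCat.Presheaf.algebra_section_stalk X.presheaf (⟨x, hxU⟩ : U)
  letI algABx : Algebra Γ(Spec (CommRingCat.of A), ⊤) (X.presheaf.stalk x) :=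
    ((X.presheaf.germ U x hxU).hom.comp (f.appLE ⊤ U hUW).hom).toAlgebra
  haveI : IsScalarTower Γ(Spec (CommRingCat.of A), ⊤) Γ(X, U) (X.presheaf.stalk x) :=
    IsScalarTower.of_algebraMap_eq' rfl
  haveI hpprime : (hU.primeIdealOf ⟨x, hxU⟩).asIdeal.IsPrime := (hU.primeIdealOf ⟨x, hxU⟩).isPrime
  haveI : IsLocalization.AtPrime (X.presheaf.stalk x) (hU.primeIdealOf ⟨x, hxU⟩).asIdeal :=
    hU.isLocalization_stalk ⟨x, hxU⟩
  -- noetherian
  have hft : (f.appLE ⊤ U hUW).hom.FiniteType :=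
    HasRingHomProperty.appLE @LocallyOfFiniteType f inferInstance ⟨⊤, hW⟩ ⟨U, hU⟩ _
  haveI : Algebra.FiniteType Γ(Spec (CommRingCat.of A), ⊤) Γ(X, U) := hft
  haveI : IsNoetherianRing Γ(Spec (CommRingCat.of A), ⊤) := inferInstance
  haveI : IsNoetherianRing Γ(X, U) :=
    Algebra.FiniteType.isNoetherianRing Γ(Spec (CommRingCat.of A), ⊤) Γ(X, U)
  haveI : IsNoetherianRing (X.presheaf.stalk x) :=
    IsLocalization.isNoetherianRing (hU.primeIdealOf ⟨x, hxU⟩).asIdeal.primeCompl _ inferInstance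
  -- modules downstairs
  letI mAM : Module Γ(Spec (CommRingCat.of A), ⊤) Γ(F, U) :=
    Module.compHom _ (f.appLE ⊤ U hUW).hom
  haveI : IsScalarTower Γ(Spec (CommRingCat.of A), ⊤) Γ(X, U) Γ(F, U) :=
    IsScalarTower.of_algebraMap_smul fun _ _ => rfl
  letI mBL : Module Γ(X, U) (F.presheaf.stalk x) := StalkLocH8.modSec F hxU
  letI mAL : Module Γ(Spec (CommRingCat.of A), ⊤) (F.presheaf.stalk x) :=
    Module.compHom _ ((X.presheaf.germ U x hxU).hom.comp (f.appLE ⊤ U hUW).hom)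
  haveI : IsScalarTower Γ(Spec (CommRingCat.of A), ⊤) Γ(X, U) (F.presheaf.stalk x) :=
    IsScalarTower.of_algebraMap_smul fun _ _ => rfl
  haveI : IsScalarTower Γ(X, U) (X.presheaf.stalk x) (F.presheaf.stalk x) :=
    IsScalarTower.of_algebraMap_smul fun _ _ => rfl
  haveI : IsScalarTower Γ(Spec (CommRingCat.of A), ⊤) (X.presheaf.stalk x) (F.presheaf.stalk x) :=
    IsScalarTower.of_algebraMap_smul fun _ _ => rfl
  haveI hlocℓ := StalkLocH8.isLocalizedModule_germLin F hU hxU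
  haveI : Module.Finite Γ(X, U) Γ(F, U) := QCohFT.finite_of_isFiniteType F hU
  haveI : Module.Finite (X.presheaf.stalk x) (F.presheaf.stalk x) :=
    Module.Finite.of_isLocalizedModule (Rₚ := X.presheaf.stalk x)
      (hU.primeIdealOf ⟨x, hxU⟩).asIdeal.primeCompl (StalkLocH8.germLin F hxU)
  -- the residue fields
  have hfx : f x = closedPoint A := by
    apply PrimeSpectrum.ext
    haveI : (f x).asIdeal.IsPrime := (f x).isPrime
    exact IsLocalRing.eq_maximalIdeal (IsArtinianRing.isMaximal_of_isPrime (f x).asIdeal)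
  have hsurj := Γevaluation_surjective_closedPoint (f x) hfx
  letI fK : Field ((X.presheaf.stalk x) ⧸ maximalIdeal (X.presheaf.stalk x)) :=
    Ideal.Quotient.field _
  letI algkK : Algebra ↑((Spec (CommRingCat.of A)).residueField (f x))
      ((X.presheaf.stalk x) ⧸ maximalIdeal (X.presheaf.stalk x)) :=
    (f.residueFieldMap x).hom.toAlgebra
  letI algA₀k : Algebra Γ(Spec (CommRingCat.of A), ⊤)
      ↑((Spec (CommRingCat.of A)).residueField (f x)) :=
    ((Spec (CommRingCat.of A)).Γevaluation (f x)).hom.toAlgebra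
  have hsurj' : Function.Surjective (algebraMap Γ(Spec (CommRingCat.of A), ⊤)
      ↑((Spec (CommRingCat.of A)).residueField (f x))) := hsurj
  haveI towK : IsScalarTower Γ(Spec (CommRingCat.of A), ⊤)
      ↑((Spec (CommRingCat.of A)).residueField (f x))
      ((X.presheaf.stalk x) ⧸ maximalIdeal (X.presheaf.stalk x)) := by
    apply IsScalarTower.of_algebraMap_eq
    intro a
    show X.residue x (X.presheaf.germ U x hxU ((f.appLE ⊤ U hUW).hom a)) =
      (f.residueFieldMap x).hom (((Spec (CommRingCat.of A)).Γevaluation (f x)).hom a)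
    have h1 := Scheme.Γevaluation_naturality_apply f x a
    rw [h1]
    show X.residue x _ = X.residue x _
    congr 1
    rw [Scheme.Hom.appLE, CommRingCat.comp_apply, TopCat.Presheaf.germ_res_apply]
    rfl
  have hK : ∀ α : (X.presheaf.stalk x) ⧸ maximalIdeal (X.presheaf.stalk x),
      IsSeparable ↑((Spec (CommRingCat.of A)).residueField (f x)) α →
        α ∈ Set.range (algebraMap ↑((Spec (CommRingCat.of A)).residueField (f x))
          ((X.presheaf.stalk x) ⧸ maximalIdeal (X.presheaf.stalk x))) := by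
    intro α hα
    obtain ⟨b, hb⟩ := hprim α hα
    exact ⟨b, hb⟩
  have hkerev : RingHom.ker ((Spec (CommRingCat.of A)).Γevaluation (f x)).hom =
      maximalIdeal Γ(Spec (CommRingCat.of A), ⊤) :=
    IsLocalRing.eq_maximalIdeal (RingHom.ker_isMaximal_of_surjective _ hsurj)
  refine flat_of_rt (X.presheaf.stalk x) (hU.primeIdealOf ⟨x, hxU⟩).asIdeal
    (StalkLocH8.germLin F hxU) ?_
  intro r xs c hind hrel j
  have hinj : Function.Injective (Scheme.ΓSpecIso (CommRingCat.of A)).hom.hom :=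
    (Scheme.ΓSpecIso (CommRingCat.of A)).commRingCatIsoToRingEquiv.injective
  refine hinj ((hu _ fun i => ?_).trans (map_zero _).symm)
  -- the `i`-th member of the family
  have hW' : IsAffineOpen (⊤ : (Spec (CommRingCat.of (A' i))).Opens) := isAffineOpen_top _
  have hW'W : (⊤ : (Spec (CommRingCat.of (A' i))).Opens) ≤
      (Spec.map (CommRingCat.ofHom (u i))) ⁻¹ᵁ ⊤ := fun _ _ => trivial
  obtain ⟨hU', hpo⟩ := Groth.Agent.Lib.LimClosed.affine_pushout (hc i) hW hU hW' hUW hW'W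
  set U' : (X' i).Opens := (g' i) ⁻¹ᵁ U ⊓ (f' i) ⁻¹ᵁ ⊤ with hU'def
  have hU'U : U' ≤ (g' i) ⁻¹ᵁ U := inf_le_left
  have hU'W' : U' ≤ (f' i) ⁻¹ᵁ ⊤ := inf_le_right
  haveI : IsLocalRing Γ(Spec (CommRingCat.of (A' i)), ⊤) := isLocalRing_Γ (A' i)
  letI algAA' : Algebra Γ(Spec (CommRingCat.of A), ⊤) Γ(Spec (CommRingCat.of (A' i)), ⊤) :=
    ((Spec.map (CommRingCat.ofHom (u i))).appLE ⊤ ⊤ hW'W).hom.toAlgebra
  letI algBB' : Algebra Γ(X, U) Γ(X' i, U') := ((g' i).appLE U U' hU'U).hom.toAlgebra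
  letI algA'B' : Algebra Γ(Spec (CommRingCat.of (A' i)), ⊤) Γ(X' i, U') :=
    ((f' i).appLE ⊤ U' hU'W').hom.toAlgebra
  letI algAB' : Algebra Γ(Spec (CommRingCat.of A), ⊤) Γ(X' i, U') :=
    (((g' i).appLE U U' hU'U).hom.comp (f.appLE ⊤ U hUW).hom).toAlgebra
  haveI : IsScalarTower Γ(Spec (CommRingCat.of A), ⊤) Γ(X, U) Γ(X' i, U') :=
    IsScalarTower.of_algebraMap_eq' rfl
  haveI : IsScalarTower Γ(Spec (CommRingCat.of A), ⊤) Γ(Spec (CommRingCat.of (A' i)), ⊤)
      Γ(X' i, U') := by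
    refine IsScalarTower.of_algebraMap_eq' ?_
    change ((g' i).appLE U U' hU'U).hom.comp (f.appLE ⊤ U hUW).hom =
      ((f' i).appLE ⊤ U' hU'W').hom.comp
        ((Spec.map (CommRingCat.ofHom (u i))).appLE ⊤ ⊤ hW'W).hom
    rw [← CommRingCat.hom_comp, ← CommRingCat.hom_comp]
    congr 1
    exact hpo.w
  haveI : Algebra.IsPushout Γ(Spec (CommRingCat.of A), ⊤) Γ(X, U)
      Γ(Spec (CommRingCat.of (A' i)), ⊤) Γ(X' i, U') :=
    CommRingCat.isPushout_iff_isPushout.mp hpo
  set F' := (Scheme.Modules.pullback (g' i)).obj F with hF'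
  letI mBM' : Module Γ(X, U) Γ(F', U') := Module.compHom _ ((g' i).appLE U U' hU'U).hom
  haveI : IsScalarTower Γ(X, U) Γ(X' i, U') Γ(F', U') :=
    IsScalarTower.of_algebraMap_smul fun _ _ => rfl
  letI mA'M' : Module Γ(Spec (CommRingCat.of (A' i)), ⊤) Γ(F', U') :=
    Module.compHom _ ((f' i).appLE ⊤ U' hU'W').hom
  haveI : IsScalarTower Γ(Spec (CommRingCat.of (A' i)), ⊤) Γ(X' i, U') Γ(F', U') :=
    IsScalarTower.of_algebraMap_smul fun _ _ => rfl
  have bc := PBH8.isBaseChange_cUV (g' i) F hU'U hU' hU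
  -- the flat point
  obtain ⟨x'₀, hgx₀, hfx₀, hfl₀⟩ := hflat i
  have hx'₀U' : x'₀ ∈ U' := by
    refine ⟨?_, trivial⟩
    show g' i x'₀ ∈ U
    rw [hgx₀]
    exact hxU
  haveI hq₀prime : (hU'.primeIdealOf ⟨x'₀, hx'₀U'⟩).asIdeal.IsPrime :=
    (hU'.primeIdealOf ⟨x'₀, hx'₀U'⟩).isPrime
  have hq₀p : (hU'.primeIdealOf ⟨x'₀, hx'₀U'⟩).asIdeal.comap
      (algebraMap Γ(X, U) Γ(X' i, U')) = (hU.primeIdealOf ⟨x, hxU⟩).asIdeal := by
    have h1 := IsAffineOpen.comap_primeIdealOf_appLE (f := g' i) U hU U' hU' hU'U hx'₀U'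
    have h2 : hU.primeIdealOf ⟨g' i x'₀, hU'U hx'₀U'⟩ = hU.primeIdealOf ⟨x, hxU⟩ := by
      congr 1
      exact Subtype.ext hgx₀
    exact congrArg PrimeSpectrum.asIdeal (h1.trans h2)
  have hq₀m : (hU'.primeIdealOf ⟨x'₀, hx'₀U'⟩).asIdeal.comap
      (algebraMap Γ(Spec (CommRingCat.of (A' i)), ⊤) Γ(X' i, U')) =
      maximalIdeal Γ(Spec (CommRingCat.of (A' i)), ⊤) := by
    have h1 := IsAffineOpen.comap_primeIdealOf_appLE (f := f' i) ⊤ hW' U' hU' hU'W' hx'₀U'
    have h2 := primeIdealOf_closedPoint (f' i x'₀) hfx₀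
    exact (congrArg PrimeSpectrum.asIdeal h1).trans h2
  have hFC : FCAt Γ(Spec (CommRingCat.of (A' i)), ⊤) Γ(F', U')
      (hU'.primeIdealOf ⟨x'₀, hx'₀U'⟩).asIdeal := by
    have hfl := hfl₀
    rw [FlatSecH8.isFlatOverAt_iff_flat_stalk (f' i) F' hW' hU'W' hx'₀U'] at hfl
    letI mB'L' : Module Γ(X' i, U') (F'.presheaf.stalk x'₀) := StalkLocH8.modSec F' hx'₀U'
    letI mA'L' : Module Γ(Spec (CommRingCat.of (A' i)), ⊤) (F'.presheaf.stalk x'₀) :=
      Module.compHom _ (((X' i).presheaf.germ U' x'₀ hx'₀U').hom.comp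
        ((f' i).appLE ⊤ U' hU'W').hom)
    haveI : IsScalarTower Γ(Spec (CommRingCat.of (A' i)), ⊤) Γ(X' i, U')
        (F'.presheaf.stalk x'₀) := IsScalarTower.of_algebraMap_smul fun _ _ => rfl
    haveI hl' : IsLocalizedModule (hU'.primeIdealOf ⟨x'₀, hx'₀U'⟩).asIdeal.primeCompl
        (StalkLocH8.germLin F' hx'₀U') := StalkLocH8.isLocalizedModule_germLin F' hU' hx'₀U'
    haveI : Module.Flat Γ(Spec (CommRingCat.of (A' i)), ⊤) (F'.presheaf.stalk x'₀) := hfl
    exact fcAt_of_flat_localized _ (StalkLocH8.germLin F' hx'₀U')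
  -- the nilpotence of zero-divisors
  have hloc' : ∀ a ∈ maximalIdeal Γ(Spec (CommRingCat.of A), ⊤),
      algebraMap Γ(Spec (CommRingCat.of A), ⊤) Γ(Spec (CommRingCat.of (A' i)), ⊤) a ∈
        maximalIdeal Γ(Spec (CommRingCat.of (A' i)), ⊤) :=
    hloc_of_artinian (algebraMap Γ(Spec (CommRingCat.of A), ⊤)
      Γ(Spec (CommRingCat.of (A' i)), ⊤))
  letI fL : Field (Γ(Spec (CommRingCat.of (A' i)), ⊤) ⧸
      maximalIdeal Γ(Spec (CommRingCat.of (A' i)), ⊤)) := Ideal.Quotient.field _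
  have hkerL : RingHom.ker ((Spec (CommRingCat.of A)).Γevaluation (f x)).hom ≤
      RingHom.ker (algebraMap Γ(Spec (CommRingCat.of A), ⊤)
        (Γ(Spec (CommRingCat.of (A' i)), ⊤) ⧸
          maximalIdeal Γ(Spec (CommRingCat.of (A' i)), ⊤))) := by
    rw [hkerev]
    intro a ha
    rw [RingHom.mem_ker, IsScalarTower.algebraMap_apply Γ(Spec (CommRingCat.of A), ⊤)
      Γ(Spec (CommRingCat.of (A' i)), ⊤)]
    exact Ideal.Quotient.eq_zero_iff_mem.mpr (hloc' a ha)
  letI algkL : Algebra ↑((Spec (CommRingCat.of A)).residueField (f x))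
      (Γ(Spec (CommRingCat.of (A' i)), ⊤) ⧸ maximalIdeal Γ(Spec (CommRingCat.of (A' i)), ⊤)) :=
    (RingHom.liftOfSurjective ((Spec (CommRingCat.of A)).Γevaluation (f x)).hom hsurj
      ⟨algebraMap Γ(Spec (CommRingCat.of A), ⊤)
        (Γ(Spec (CommRingCat.of (A' i)), ⊤) ⧸
          maximalIdeal Γ(Spec (CommRingCat.of (A' i)), ⊤)), hkerL⟩).toAlgebra
  haveI towL : IsScalarTower Γ(Spec (CommRingCat.of A), ⊤)
      ↑((Spec (CommRingCat.of A)).residueField (f x))
      (Γ(Spec (CommRingCat.of (A' i)), ⊤) ⧸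
        maximalIdeal Γ(Spec (CommRingCat.of (A' i)), ⊤)) := by
    apply IsScalarTower.of_algebraMap_eq
    intro a
    exact (RingHom.liftOfSurjective_comp_apply
      ((Spec (CommRingCat.of A)).Γevaluation (f x)).hom hsurj
      ⟨algebraMap Γ(Spec (CommRingCat.of A), ⊤)
        (Γ(Spec (CommRingCat.of (A' i)), ⊤) ⧸
          maximalIdeal Γ(Spec (CommRingCat.of (A' i)), ⊤)), hkerL⟩ a).symm
  have hα := hα_of_prim' (A₀ := Γ(Spec (CommRingCat.of A), ⊤))
    (k := ↑((Spec (CommRingCat.of A)).residueField (f x)))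
    (K := (X.presheaf.stalk x) ⧸ maximalIdeal (X.presheaf.stalk x))
    (L := Γ(Spec (CommRingCat.of (A' i)), ⊤) ⧸ maximalIdeal Γ(Spec (CommRingCat.of (A' i)), ⊤))
    hsurj' hK
  have h0 : algebraMap Γ(Spec (CommRingCat.of A), ⊤) Γ(Spec (CommRingCat.of (A' i)), ⊤) (c j)
      ∈ (⊥ : Ideal Γ(Spec (CommRingCat.of (A' i)), ⊤)) := by
    refine rt_single_prim (X.presheaf.stalk x) (hU.primeIdealOf ⟨x, hxU⟩).asIdeal
      (PBH8.cUVLin (g' i) F hU'U) bc (StalkLocH8.germLin F hxU) hloc'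
      (hU'.primeIdealOf ⟨x'₀, hx'₀U'⟩).asIdeal hq₀p hq₀m hFC hα ⊥ ⊥ ?_ xs c hind ?_ j
    · intro a ha
      rw [Ideal.mem_bot] at ha ⊢
      rw [ha, map_zero]
    · rw [hrel]
      exact zero_mem _
  -- back to `A`
  have h1 : ((Spec.map (CommRingCat.ofHom (u i))).appLE ⊤ ⊤ hW'W).hom (c j) = 0 :=
    Ideal.mem_bot.mp h0
  rw [Groth.Agent.Lib.LimClosed.appLE_top_top] at h1
  have hnat := Scheme.ΓSpecIso_naturality (CommRingCat.ofHom (u i))
  have h2 := congrArg (fun φ => φ.hom (c j)) hnat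
  simp only [CommRingCat.hom_comp, RingHom.comp_apply, CommRingCat.hom_ofHom] at h2
  rw [h1, map_zero] at h2
  exact h2.symm

/-- **S4899.** -/
theorem main4899 {A : Type u} [CommRing A] [IsArtinianRing A] [IsLocalRing A]
    {X : Scheme.{u}} (f : X ⟶ Spec (CommRingCat.of A)) [LocallyOfFiniteType f]
    (F : X.Modules) (hF : Coh.IsCoh F) (x : X)
    {ι : Type u} (A' : ι → Type u) [∀ i, CommRing (A' i)] [∀ i, IsLocalRing (A' i)]
    (u : ∀ i, A →+* A' i) (hu : ∀ a : A, (∀ i, u i a = 0) → a = 0)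
    (hprim : letI := (f.residueFieldMap x).hom.toAlgebra
      ∀ a : ↑(X.residueField x), IsSeparable ↑((Spec (CommRingCat.of A)).residueField (f x)) a →
        a ∈ (f.residueFieldMap x).hom.range)
    (hflat : ∀ i : ι, ∃ x' : ↥(pullback f (Spec.map (CommRingCat.ofHom (u i)))),
      pullback.fst f (Spec.map (CommRingCat.ofHom (u i))) x' = x ∧
      pullback.snd f (Spec.map (CommRingCat.ofHom (u i))) x' = IsLocalRing.closedPoint (A' i) ∧
      FlatMod.IsFlatOverAt (pullback.snd f (Spec.map (CommRingCat.ofHom (u i))))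
        ((Scheme.Modules.pullback (pullback.fst f (Spec.map (CommRingCat.ofHom (u i))))).obj F)
          x') :
    FlatMod.IsFlatOverAt f F x :=
  main_general_prim f F hF x hprim A' u hu
    (fun i => pullback f (Spec.map (CommRingCat.ofHom (u i))))
    (fun i => pullback.fst _ _) (fun i => pullback.snd _ _)
    (fun i => IsPullback.of_hasPullback _ _) hflat

end Groth.Agent.Lib.Flatif
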