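import Mathlib
import Groth.Prelude
import Groth.Agent.Lib.Flatif8_lead
import Groth.Agent.Lib.Flatif9_lead
import Groth.Agent.Lib.Prim5_lead

set_option autoImplicit false
set_option backward.isDefEq.respectTransparency false
set_option linter.unusedSimpArgs false
set_option linter.unusedVariables false
set_option linter.unusedSectionVars false
set_option linter.style.longLine false
set_option linter.style.haveILetI false
set_option linter.unnecessarySimpa false
set_option maxHeartbeats 1600000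

/-!
# Flatness over a Noetherian local base tested at one point of each member of a family,
when the residue extension is primary (S4902)
-/

namespace Groth.Agent.Lib.Flatif

open CategoryTheory CategoryTheory.Limits AlgebraicGeometry TopologicalSpace Opposite IsLocalRing
open TensorProduct

universe u

/-- Transfer of "primary residue extension" along a commutative square of fields whose
horizontal maps are surjective. -/
lemma prim_transfer {k K k' K' : Type*} [Field k] [Field K] [Field k'] [Field K']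
    (a : k →+* K) (a' : k' →+* K') (β : k →+* k') (γ : K →+* K')
    (hsq : γ.comp a = a'.comp β) (hβ : Function.Surjective β) (hγ : Function.Surjective γ)
    (h : letI := a.toAlgebra
      ∀ α : K, IsSeparable k α → α ∈ a.range) :
    letI := a'.toAlgebra
    ∀ α' : K', IsSeparable k' α' → α' ∈ a'.range := by
  letI algkK := a.toAlgebra
  letI algk'K' := a'.toAlgebra
  intro α' hα'
  let eβ : k ≃+* k' := RingEquiv.ofBijective β ⟨β.injective, hβ⟩
  let eγ : K ≃+* K' := RingEquiv.ofBijective γ ⟨γ.injective, hγ⟩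
  have he : RingHom.comp (algebraMap k K) (eβ.symm : k' →+* k) =
      RingHom.comp (eγ.symm : K' →+* K) (algebraMap k' K') := by
    refine RingHom.ext fun t => ?_
    show a (eβ.symm t) = eγ.symm (a' t)
    apply eγ.injective
    rw [RingEquiv.apply_symm_apply]
    show γ (a (eβ.symm t)) = a' t
    have h1 := congrArg (fun φ => φ (eβ.symm t)) hsq
    simp only [RingHom.comp_apply] at h1
    rw [h1]
    congr 1
    exact eβ.apply_symm_apply t
  have h1 : IsSeparable k (eγ.symm α') := IsSeparable.of_equiv_equiv eβ.symm eγ.symm he hα'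
  obtain ⟨b, hb⟩ := h _ h1
  refine ⟨β b, ?_⟩
  have h2 := congrArg (fun φ => φ b) hsq
  simp only [RingHom.comp_apply] at h2
  rw [← h2, hb]
  exact eγ.apply_symm_apply α'

lemma residueFieldMap_surjective_of_isPreimmersion {X Y : Scheme.{u}} (g : X ⟶ Y)
    [IsPreimmersion g] (z : X) : Function.Surjective (g.residueFieldMap z).hom := by
  intro t
  obtain ⟨s, rfl⟩ := X.residue_surjective z t
  obtain ⟨r, rfl⟩ := g.stalkMap_surjective z s
  refine ⟨Y.residue (g z) r, ?_⟩
  have h := Scheme.residue_residueFieldMap g z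
  exact congrArg (fun φ => φ.hom r) h

/-- Transfer of "primary residue extension" along a commutative square of schemes whose
horizontal maps are preimmersions. -/
lemma hprim_transfer {X Y X₀ Y₀ : Scheme.{u}} (f : X ⟶ Y) (j : Y₀ ⟶ Y) (p₁ : X₀ ⟶ X)
    (p₂ : X₀ ⟶ Y₀) (w : p₁ ≫ f = p₂ ≫ j) [IsPreimmersion p₁] [IsPreimmersion j]
    (xt : X₀) (x : X) (hx : p₁ xt = x)
    (hprim : letI := (f.residueFieldMap x).hom.toAlgebra
      ∀ a : ↑(X.residueField x), IsSeparable ↑(Y.residueField (f x)) a →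
        a ∈ (f.residueFieldMap x).hom.range) :
    letI := (p₂.residueFieldMap xt).hom.toAlgebra
    ∀ a : ↑(X₀.residueField xt), IsSeparable ↑(Y₀.residueField (p₂ xt)) a →
      a ∈ (p₂.residueFieldMap xt).hom.range := by
  subst hx
  have hpt : f (p₁ xt) = j (p₂ xt) := by
    rw [← Scheme.Hom.comp_apply, ← Scheme.Hom.comp_apply, w]
  refine prim_transfer (f.residueFieldMap (p₁ xt)).hom (p₂.residueFieldMap xt).hom
    ((Y.residueFieldCongr hpt).hom ≫ j.residueFieldMap (p₂ xt)).hom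
    (p₁.residueFieldMap xt).hom ?_ ?_ ?_ hprim
  · have h1 := Scheme.residueFieldMap_comp p₁ f xt
    have h2 := Scheme.residueFieldMap_comp p₂ j xt
    have h3 := Scheme.Hom.residueFieldMap_congr w xt
    rw [h1, h2] at h3
    refine RingHom.ext fun t => ?_
    have h4 := congrArg (fun φ => φ.hom t) h3
    exact h4
  · have h1 : Function.Surjective (j.residueFieldMap (p₂ xt)).hom :=
      residueFieldMap_surjective_of_isPreimmersion j (p₂ xt)
    intro t
    obtain ⟨s, rfl⟩ := h1 t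
    refine ⟨(Y.residueFieldCongr hpt).inv.hom s, ?_⟩
    show (j.residueFieldMap (p₂ xt)).hom
      ((Y.residueFieldCongr hpt).hom.hom ((Y.residueFieldCongr hpt).inv.hom s)) = _
    congr 1
    exact congrArg (fun φ => φ.hom s) (Y.residueFieldCongr hpt).inv_hom_id
  · exact residueFieldMap_surjective_of_isPreimmersion p₁ xt

/-- **EGA IV 11.5.x (primary residue extension), Noetherian local base, general cartesian
squares**: one flat point above `x` in each member of the family suffices. -/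
theorem main_noeth_prim {A : Type u} [CommRing A] [IsNoetherianRing A] [IsLocalRing A]
    {X : Scheme.{u}} (f : X ⟶ Spec (CommRingCat.of A)) [LocallyOfFiniteType f]
    (F : X.Modules) (hF : Coh.IsCoh F) (x : X) (hx : f x = closedPoint A)
    (hprim : letI := (f.residueFieldMap x).hom.toAlgebra
      ∀ a : ↑(X.residueField x), IsSeparable ↑((Spec (CommRingCat.of A)).residueField (f x)) a →
        a ∈ (f.residueFieldMap x).hom.range)
    {ι : Type*} (A' : ι → Type u) [∀ i, CommRing (A' i)] [∀ i, IsLocalRing (A' i)]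
    (u : ∀ i, A →+* A' i)
    (hloc : ∀ i, ∀ a ∈ maximalIdeal A, u i a ∈ maximalIdeal (A' i))
    (htop : ∀ N : ℕ, ∃ s : Finset (ι × ℕ),
      ⨅ p ∈ s, Ideal.comap (u p.1) (maximalIdeal (A' p.1) ^ p.2) ≤ maximalIdeal A ^ N)
    (X' : ι → Scheme.{u}) (g' : ∀ i, X' i ⟶ X)
    (f' : ∀ i, X' i ⟶ Spec (CommRingCat.of (A' i)))
    (hc : ∀ i, IsPullback (g' i) (f' i) f (Spec.map (CommRingCat.ofHom (u i))))
    (hflat : ∀ i : ι, ∃ x' : X' i, g' i x' = x ∧ f' i x' = IsLocalRing.closedPoint (A' i) ∧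
      FlatMod.IsFlatOverAt (f' i) ((Scheme.Modules.pullback (g' i)).obj F) x') :
    FlatMod.IsFlatOverAt f F x := by
  classical
  haveI : F.IsQuasicoherent := hF.1
  haveI : SheafOfModules.IsFiniteType (R := X.ringCatSheaf) F := hF.2
  have hW : IsAffineOpen (⊤ : (Spec (CommRingCat.of A)).Opens) := isAffineOpen_top _
  obtain ⟨_, ⟨U, hU : IsAffineOpen U, rfl⟩, hxU, -⟩ :=
    (X.isBasis_affineOpens).exists_subset_of_mem_open (Set.mem_univ x) isOpen_univ
  have hUW : U ≤ f ⁻¹ᵁ (⊤ : (Spec (CommRingCat.of A)).Opens) := fun _ _ => trivial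
  rw [FlatSecH8.isFlatOverAt_iff_flat_stalk f F hW hUW hxU]
  -- base ring instances
  haveI : IsLocalRing Γ(Spec (CommRingCat.of A), ⊤) := isLocalRing_Γ A
  haveI : IsNoetherianRing Γ(Spec (CommRingCat.of A), ⊤) := isNoetherianRing_Γ A
  -- algebra instances downstairs
  letI algAB : Algebra Γ(Spec (CommRingCat.of A), ⊤) Γ(X, U) := (f.appLE ⊤ U hUW).hom.toAlgebra
  letI algBBx : Algebra Γ(X, U) (X.presheaf.stalk x) :=
    TopCat.Presheaf.algebra_section_stalk X.presheaf (⟨x, hxU⟩ : U)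
  letI algABx : Algebra Γ(Spec (CommRingCat.of A), ⊤) (X.presheaf.stalk x) :=
    ((X.presheaf.germ U x hxU).hom.comp (f.appLE ⊤ U hUW).hom).toAlgebra
  haveI : IsScalarTower Γ(Spec (CommRingCat.of A), ⊤) Γ(X, U) (X.presheaf.stalk x) :=
    IsScalarTower.of_algebraMap_eq' rfl
  haveI hpprime : (hU.primeIdealOf ⟨x, hxU⟩).asIdeal.IsPrime := (hU.primeIdealOf ⟨x, hxU⟩).isPrime
  haveI : IsLocalization.AtPrime (X.presheaf.stalk x) (hU.primeIdealOf ⟨x, hxU⟩).asIdeal :=
    hU.isLocalization_stalk ⟨x, hxU⟩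
  -- noetherian
  have hft : (f.appLE ⊤ U hUW).hom.FiniteType :=
    HasRingHomProperty.appLE @LocallyOfFiniteType f inferInstance ⟨⊤, hW⟩ ⟨U, hU⟩ _
  haveI : Algebra.FiniteType Γ(Spec (CommRingCat.of A), ⊤) Γ(X, U) := hft
  haveI : IsNoetherianRing Γ(X, U) :=
    Algebra.FiniteType.isNoetherianRing Γ(Spec (CommRingCat.of A), ⊤) Γ(X, U)
  haveI : IsNoetherianRing (X.presheaf.stalk x) :=
    IsLocalization.isNoetherianRing (hU.primeIdealOf ⟨x, hxU⟩).asIdeal.primeCompl _ inferInstance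
  -- modules downstairs
  letI mAM : Module Γ(Spec (CommRingCat.of A), ⊤) Γ(F, U) :=
    Module.compHom _ (f.appLE ⊤ U hUW).hom
  haveI : IsScalarTower Γ(Spec (CommRingCat.of A), ⊤) Γ(X, U) Γ(F, U) :=
    IsScalarTower.of_algebraMap_smul fun _ _ => rfl
  letI mBL : Module Γ(X, U) (F.presheaf.stalk x) := StalkLocH8.modSec F hxU
  letI mAL : Module Γ(Spec (CommRingCat.of A), ⊤) (F.presheaf.stalk x) :=
    Module.compHom _ ((X.presheaf.germ U x hxU).hom.comp (f.appLE ⊤ U hUW).hom)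
  haveI : IsScalarTower Γ(Spec (CommRingCat.of A), ⊤) Γ(X, U) (F.presheaf.stalk x) :=
    IsScalarTower.of_algebraMap_smul fun _ _ => rfl
  haveI : IsScalarTower Γ(X, U) (X.presheaf.stalk x) (F.presheaf.stalk x) :=
    IsScalarTower.of_algebraMap_smul fun _ _ => rfl
  haveI : IsScalarTower Γ(Spec (CommRingCat.of A), ⊤) (X.presheaf.stalk x) (F.presheaf.stalk x) :=
    IsScalarTower.of_algebraMap_smul fun _ _ => rfl
  haveI hlocℓ := StalkLocH8.isLocalizedModule_germLin F hU hxU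
  haveI : Module.Finite Γ(X, U) Γ(F, U) := QCohFT.finite_of_isFiniteType F hU
  haveI : Module.Finite (X.presheaf.stalk x) (F.presheaf.stalk x) :=
    Module.Finite.of_isLocalizedModule (Rₚ := X.presheaf.stalk x)
      (hU.primeIdealOf ⟨x, hxU⟩).asIdeal.primeCompl (StalkLocH8.germLin F hxU)
  -- the structure map to the local ring of `x` is local
  have hAB : (maximalIdeal Γ(Spec (CommRingCat.of A), ⊤)).map
      (algebraMap Γ(Spec (CommRingCat.of A), ⊤) (X.presheaf.stalk x)) ≤ Ideal.jacobson ⊥ := by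
    rw [IsLocalRing.jacobson_eq_maximalIdeal ⊥ bot_ne_top, Ideal.map_le_iff_le_comap]
    intro a ha
    have h1 := IsAffineOpen.comap_primeIdealOf_appLE (f := f) ⊤ hW U hU hUW hxU
    have h2 := primeIdealOf_closedPoint (f x) hx
    have h3 : a ∈ ((hU.primeIdealOf ⟨x, hxU⟩).comap (f.appLE ⊤ U hUW).hom).asIdeal := by
      rw [h1, h2]
      exact ha
    have h4 : (f.appLE ⊤ U hUW).hom a ∈ (hU.primeIdealOf ⟨x, hxU⟩).asIdeal := h3
    rw [hU.primeIdealOf_eq_map_closedPoint] at h4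
    exact h4
  -- the residue fields
  have hsurj := Γevaluation_surjective_closedPoint (f x) hx
  letI fK : Field ((X.presheaf.stalk x) ⧸ maximalIdeal (X.presheaf.stalk x)) :=
    Ideal.Quotient.field _
  letI algkK : Algebra ↑((Spec (CommRingCat.of A)).residueField (f x))
      ((X.presheaf.stalk x) ⧸ maximalIdeal (X.presheaf.stalk x)) :=
    (f.residueFieldMap x).hom.toAlgebra
  letI algA₀k : Algebra Γ(Spec (CommRingCat.of A), ⊤)
      ↑((Spec (CommRingCat.of A)).residueField (f x)) :=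
    ((Spec (CommRingCat.of A)).Γevaluation (f x)).hom.toAlgebra
  have hsurj' : Function.Surjective (algebraMap Γ(Spec (CommRingCat.of A), ⊤)
      ↑((Spec (CommRingCat.of A)).residueField (f x))) := hsurj
  haveI towK : IsScalarTower Γ(Spec (CommRingCat.of A), ⊤)
      ↑((Spec (CommRingCat.of A)).residueField (f x))
      ((X.presheaf.stalk x) ⧸ maximalIdeal (X.presheaf.stalk x)) := by
    apply IsScalarTower.of_algebraMap_eq
    intro a
    show X.residue x (X.presheaf.germ U x hxU ((f.appLE ⊤ U hUW).hom a)) =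
      (f.residueFieldMap x).hom (((Spec (CommRingCat.of A)).Γevaluation (f x)).hom a)
    have h1 := Scheme.Γevaluation_naturality_apply f x a
    rw [h1]
    show X.residue x _ = X.residue x _
    congr 1
    rw [Scheme.Hom.appLE, CommRingCat.comp_apply, TopCat.Presheaf.germ_res_apply]
    rfl
  have hK : ∀ α : (X.presheaf.stalk x) ⧸ maximalIdeal (X.presheaf.stalk x),
      IsSeparable ↑((Spec (CommRingCat.of A)).residueField (f x)) α →
        α ∈ Set.range (algebraMap ↑((Spec (CommRingCat.of A)).residueField (f x))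
          ((X.presheaf.stalk x) ⧸ maximalIdeal (X.presheaf.stalk x))) := by
    intro α hα
    obtain ⟨b, hb⟩ := hprim α hα
    exact ⟨b, hb⟩
  have hkerev : RingHom.ker ((Spec (CommRingCat.of A)).Γevaluation (f x)).hom =
      maximalIdeal Γ(Spec (CommRingCat.of A), ⊤) :=
    IsLocalRing.eq_maximalIdeal (RingHom.ker_isMaximal_of_surjective _ hsurj)
  refine flat_of_rt_noeth (X.presheaf.stalk x) (hU.primeIdealOf ⟨x, hxU⟩).asIdeal
    (StalkLocH8.germLin F hxU) hAB ?_
  intro N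
  obtain ⟨s, hs⟩ := htop N
  refine ⟨Ideal.comap (Scheme.ΓSpecIso (CommRingCat.of A)).hom.hom
    (⨅ p ∈ s, Ideal.comap (u p.1) (maximalIdeal (A' p.1) ^ p.2)), ?_, ⟨s.sup Prod.snd, ?_⟩, ?_⟩
  · intro a₀ ha₀
    rw [mem_maxPow_iff]
    exact hs (Ideal.mem_comap.mp ha₀)
  · intro a₀ ha₀
    rw [mem_maxPow_iff] at ha₀
    rw [Ideal.mem_comap]
    simp only [Ideal.mem_iInf]
    intro p hp
    have hk : maximalIdeal A ^ p.2 ≤ Ideal.comap (u p.1) (maximalIdeal (A' p.1) ^ p.2) := by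
      rw [← Ideal.map_le_iff_le_comap, Ideal.map_pow]
      have hm : Ideal.map (u p.1) (maximalIdeal A) ≤ maximalIdeal (A' p.1) :=
        Ideal.map_le_iff_le_comap.mpr (fun a ha => Ideal.mem_comap.mpr (hloc p.1 a ha))
      exact Ideal.pow_right_mono hm _
    exact hk (Ideal.pow_le_pow_right (Finset.le_sup (f := Prod.snd) hp) ha₀)
  intro r xs c hind hrel j
  rw [Ideal.mem_comap]
  simp only [Ideal.mem_iInf]
  intro pn hpn
  rw [Ideal.mem_comap, ← ΓSpecIso_nat_apply]
  -- the `i`-th member of the family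
  have hW' : IsAffineOpen (⊤ : (Spec (CommRingCat.of (A' pn.1))).Opens) := isAffineOpen_top _
  have hW'W : (⊤ : (Spec (CommRingCat.of (A' pn.1))).Opens) ≤
      (Spec.map (CommRingCat.ofHom (u pn.1))) ⁻¹ᵁ ⊤ := fun _ _ => trivial
  obtain ⟨hU', hpo⟩ := Groth.Agent.Lib.LimClosed.affine_pushout (hc pn.1) hW hU hW' hUW hW'W
  set U' : (X' pn.1).Opens := (g' pn.1) ⁻¹ᵁ U ⊓ (f' pn.1) ⁻¹ᵁ ⊤ with hU'def
  have hU'U : U' ≤ (g' pn.1) ⁻¹ᵁ U := inf_le_left
  have hU'W' : U' ≤ (f' pn.1) ⁻¹ᵁ ⊤ := inf_le_right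
  haveI : IsLocalRing Γ(Spec (CommRingCat.of (A' pn.1)), ⊤) := isLocalRing_Γ (A' pn.1)
  rw [← mem_maxPow_iff]
  letI algAA' : Algebra Γ(Spec (CommRingCat.of A), ⊤) Γ(Spec (CommRingCat.of (A' pn.1)), ⊤) :=
    ((Spec.map (CommRingCat.ofHom (u pn.1))).appLE ⊤ ⊤ hW'W).hom.toAlgebra
  letI algBB' : Algebra Γ(X, U) Γ(X' pn.1, U') := ((g' pn.1).appLE U U' hU'U).hom.toAlgebra
  letI algA'B' : Algebra Γ(Spec (CommRingCat.of (A' pn.1)), ⊤) Γ(X' pn.1, U') :=
    ((f' pn.1).appLE ⊤ U' hU'W').hom.toAlgebra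
  letI algAB' : Algebra Γ(Spec (CommRingCat.of A), ⊤) Γ(X' pn.1, U') :=
    (((g' pn.1).appLE U U' hU'U).hom.comp (f.appLE ⊤ U hUW).hom).toAlgebra
  haveI : IsScalarTower Γ(Spec (CommRingCat.of A), ⊤) Γ(X, U) Γ(X' pn.1, U') :=
    IsScalarTower.of_algebraMap_eq' rfl
  haveI : IsScalarTower Γ(Spec (CommRingCat.of A), ⊤) Γ(Spec (CommRingCat.of (A' pn.1)), ⊤)
      Γ(X' pn.1, U') := by
    refine IsScalarTower.of_algebraMap_eq' ?_
    change ((g' pn.1).appLE U U' hU'U).hom.comp (f.appLE ⊤ U hUW).hom =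
      ((f' pn.1).appLE ⊤ U' hU'W').hom.comp
        ((Spec.map (CommRingCat.ofHom (u pn.1))).appLE ⊤ ⊤ hW'W).hom
    rw [← CommRingCat.hom_comp, ← CommRingCat.hom_comp]
    congr 1
    exact hpo.w
  haveI : Algebra.IsPushout Γ(Spec (CommRingCat.of A), ⊤) Γ(X, U)
      Γ(Spec (CommRingCat.of (A' pn.1)), ⊤) Γ(X' pn.1, U') :=
    CommRingCat.isPushout_iff_isPushout.mp hpo
  set F' := (Scheme.Modules.pullback (g' pn.1)).obj F with hF'
  letI mBM' : Module Γ(X, U) Γ(F', U') := Module.compHom _ ((g' pn.1).appLE U U' hU'U).hom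
  haveI : IsScalarTower Γ(X, U) Γ(X' pn.1, U') Γ(F', U') :=
    IsScalarTower.of_algebraMap_smul fun _ _ => rfl
  letI mA'M' : Module Γ(Spec (CommRingCat.of (A' pn.1)), ⊤) Γ(F', U') :=
    Module.compHom _ ((f' pn.1).appLE ⊤ U' hU'W').hom
  haveI : IsScalarTower Γ(Spec (CommRingCat.of (A' pn.1)), ⊤) Γ(X' pn.1, U') Γ(F', U') :=
    IsScalarTower.of_algebraMap_smul fun _ _ => rfl
  have bc := PBH8.isBaseChange_cUV (g' pn.1) F hU'U hU' hU
  have halg : ∀ a₀ : Γ(Spec (CommRingCat.of A), ⊤),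
      algebraMap Γ(Spec (CommRingCat.of A), ⊤) Γ(Spec (CommRingCat.of (A' pn.1)), ⊤) a₀ =
        (Spec.map (CommRingCat.ofHom (u pn.1))).appTop.hom a₀ := by
    intro a₀
    show ((Spec.map (CommRingCat.ofHom (u pn.1))).appLE ⊤ ⊤ hW'W).hom a₀ = _
    rw [Groth.Agent.Lib.LimClosed.appLE_top_top]
  -- the flat point
  obtain ⟨x'₀, hgx₀, hfx₀, hfl₀⟩ := hflat pn.1
  have hx'₀U' : x'₀ ∈ U' := by
    refine ⟨?_, trivial⟩
    show g' pn.1 x'₀ ∈ U
    rw [hgx₀]
    exact hxU
  haveI hq₀prime : (hU'.primeIdealOf ⟨x'₀, hx'₀U'⟩).asIdeal.IsPrime :=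
    (hU'.primeIdealOf ⟨x'₀, hx'₀U'⟩).isPrime
  have hq₀p : (hU'.primeIdealOf ⟨x'₀, hx'₀U'⟩).asIdeal.comap
      (algebraMap Γ(X, U) Γ(X' pn.1, U')) = (hU.primeIdealOf ⟨x, hxU⟩).asIdeal := by
    have h1 := IsAffineOpen.comap_primeIdealOf_appLE (f := g' pn.1) U hU U' hU' hU'U hx'₀U'
    have h2 : hU.primeIdealOf ⟨g' pn.1 x'₀, hU'U hx'₀U'⟩ = hU.primeIdealOf ⟨x, hxU⟩ := by
      congr 1
      exact Subtype.ext hgx₀
    exact congrArg PrimeSpectrum.asIdeal (h1.trans h2)
  have hq₀m : (hU'.primeIdealOf ⟨x'₀, hx'₀U'⟩).asIdeal.comap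
      (algebraMap Γ(Spec (CommRingCat.of (A' pn.1)), ⊤) Γ(X' pn.1, U')) =
      maximalIdeal Γ(Spec (CommRingCat.of (A' pn.1)), ⊤) := by
    have h1 := IsAffineOpen.comap_primeIdealOf_appLE (f := f' pn.1) ⊤ hW' U' hU' hU'W' hx'₀U'
    have h2 := primeIdealOf_closedPoint (f' pn.1 x'₀) hfx₀
    exact (congrArg PrimeSpectrum.asIdeal h1).trans h2
  have hFC : FCAt Γ(Spec (CommRingCat.of (A' pn.1)), ⊤) Γ(F', U')
      (hU'.primeIdealOf ⟨x'₀, hx'₀U'⟩).asIdeal := by
    have hfl := hfl₀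
    rw [FlatSecH8.isFlatOverAt_iff_flat_stalk (f' pn.1) F' hW' hU'W' hx'₀U'] at hfl
    letI mB'L' : Module Γ(X' pn.1, U') (F'.presheaf.stalk x'₀) := StalkLocH8.modSec F' hx'₀U'
    letI mA'L' : Module Γ(Spec (CommRingCat.of (A' pn.1)), ⊤) (F'.presheaf.stalk x'₀) :=
      Module.compHom _ (((X' pn.1).presheaf.germ U' x'₀ hx'₀U').hom.comp
        ((f' pn.1).appLE ⊤ U' hU'W').hom)
    haveI : IsScalarTower Γ(Spec (CommRingCat.of (A' pn.1)), ⊤) Γ(X' pn.1, U')
        (F'.presheaf.stalk x'₀) := IsScalarTower.of_algebraMap_smul fun _ _ => rfl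
    haveI hl' : IsLocalizedModule (hU'.primeIdealOf ⟨x'₀, hx'₀U'⟩).asIdeal.primeCompl
        (StalkLocH8.germLin F' hx'₀U') := StalkLocH8.isLocalizedModule_germLin F' hU' hx'₀U'
    haveI : Module.Flat Γ(Spec (CommRingCat.of (A' pn.1)), ⊤) (F'.presheaf.stalk x'₀) := hfl
    exact fcAt_of_flat_localized _ (StalkLocH8.germLin F' hx'₀U')
  -- the nilpotence of zero-divisors
  have hloc' : ∀ a ∈ maximalIdeal Γ(Spec (CommRingCat.of A), ⊤),
      algebraMap Γ(Spec (CommRingCat.of A), ⊤) Γ(Spec (CommRingCat.of (A' pn.1)), ⊤) a ∈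
        maximalIdeal Γ(Spec (CommRingCat.of (A' pn.1)), ⊤) := by
    intro a₀ ha₀
    rw [halg, mem_max_iff, ΓSpecIso_nat_apply]
    exact hloc pn.1 _ ((mem_max_iff A a₀).mp ha₀)
  letI fL : Field (Γ(Spec (CommRingCat.of (A' pn.1)), ⊤) ⧸
      maximalIdeal Γ(Spec (CommRingCat.of (A' pn.1)), ⊤)) := Ideal.Quotient.field _
  have hkerL : RingHom.ker ((Spec (CommRingCat.of A)).Γevaluation (f x)).hom ≤
      RingHom.ker (algebraMap Γ(Spec (CommRingCat.of A), ⊤)
        (Γ(Spec (CommRingCat.of (A' pn.1)), ⊤) ⧸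
          maximalIdeal Γ(Spec (CommRingCat.of (A' pn.1)), ⊤))) := by
    rw [hkerev]
    intro a ha
    rw [RingHom.mem_ker, IsScalarTower.algebraMap_apply Γ(Spec (CommRingCat.of A), ⊤)
      Γ(Spec (CommRingCat.of (A' pn.1)), ⊤)]
    exact Ideal.Quotient.eq_zero_iff_mem.mpr (hloc' a ha)
  letI algkL : Algebra ↑((Spec (CommRingCat.of A)).residueField (f x))
      (Γ(Spec (CommRingCat.of (A' pn.1)), ⊤) ⧸
        maximalIdeal Γ(Spec (CommRingCat.of (A' pn.1)), ⊤)) :=
    (RingHom.liftOfSurjective ((Spec (CommRingCat.of A)).Γevaluation (f x)).hom hsurj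
      ⟨algebraMap Γ(Spec (CommRingCat.of A), ⊤)
        (Γ(Spec (CommRingCat.of (A' pn.1)), ⊤) ⧸
          maximalIdeal Γ(Spec (CommRingCat.of (A' pn.1)), ⊤)), hkerL⟩).toAlgebra
  haveI towL : IsScalarTower Γ(Spec (CommRingCat.of A), ⊤)
      ↑((Spec (CommRingCat.of A)).residueField (f x))
      (Γ(Spec (CommRingCat.of (A' pn.1)), ⊤) ⧸
        maximalIdeal Γ(Spec (CommRingCat.of (A' pn.1)), ⊤)) := by
    apply IsScalarTower.of_algebraMap_eq
    intro a
    exact (RingHom.liftOfSurjective_comp_apply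
      ((Spec (CommRingCat.of A)).Γevaluation (f x)).hom hsurj
      ⟨algebraMap Γ(Spec (CommRingCat.of A), ⊤)
        (Γ(Spec (CommRingCat.of (A' pn.1)), ⊤) ⧸
          maximalIdeal Γ(Spec (CommRingCat.of (A' pn.1)), ⊤)), hkerL⟩ a).symm
  have hα := hα_of_prim' (A₀ := Γ(Spec (CommRingCat.of A), ⊤))
    (k := ↑((Spec (CommRingCat.of A)).residueField (f x)))
    (K := (X.presheaf.stalk x) ⧸ maximalIdeal (X.presheaf.stalk x))
    (L := Γ(Spec (CommRingCat.of (A' pn.1)), ⊤) ⧸
      maximalIdeal Γ(Spec (CommRingCat.of (A' pn.1)), ⊤))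
    hsurj' hK
  have h0 : algebraMap Γ(Spec (CommRingCat.of A), ⊤) Γ(Spec (CommRingCat.of (A' pn.1)), ⊤) (c j)
      ∈ maximalIdeal Γ(Spec (CommRingCat.of (A' pn.1)), ⊤) ^ pn.2 := by
    refine rt_single_prim (X.presheaf.stalk x) (hU.primeIdealOf ⟨x, hxU⟩).asIdeal
      (PBH8.cUVLin (g' pn.1) F hU'U) bc (StalkLocH8.germLin F hxU) hloc'
      (hU'.primeIdealOf ⟨x'₀, hx'₀U'⟩).asIdeal hq₀p hq₀m hFC hα
      (Ideal.comap (Scheme.ΓSpecIso (CommRingCat.of A)).hom.hom
        (⨅ p ∈ s, Ideal.comap (u p.1) (maximalIdeal (A' p.1) ^ p.2)))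
      (maximalIdeal Γ(Spec (CommRingCat.of (A' pn.1)), ⊤) ^ pn.2) ?_ xs c hind hrel j
    intro a₀ ha₀
    rw [halg, mem_maxPow_iff, ΓSpecIso_nat_apply]
    have h1 : (Scheme.ΓSpecIso (CommRingCat.of A)).hom.hom a₀ ∈
        ⨅ p ∈ s, Ideal.comap (u p.1) (maximalIdeal (A' p.1) ^ p.2) := ha₀
    simp only [Ideal.mem_iInf] at h1
    exact Ideal.mem_comap.mp (h1 pn hpn)
  rw [halg] at h0
  exact h0

/-- **S4902.** -/
theorem main4902 {X Y : Scheme.{u}} [IsLocallyNoetherian Y]
    (f : X ⟶ Y) [LocallyOfFiniteType f] (F : X.Modules) (hF : Coh.IsCoh F) (x : X)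
    (hprim : letI := (f.residueFieldMap x).hom.toAlgebra
      ∀ a : ↑(X.residueField x), IsSeparable ↑(Y.residueField (f x)) a →
        a ∈ (f.residueFieldMap x).hom.range)
    {ι : Type u} (A : ι → Type u) [∀ i, CommRing (A i)] [∀ i, IsLocalRing (A i)]
    (φ : ∀ i, (Y.presheaf.stalk (f x) : Type u) →+* A i) [∀ i, IsLocalHom (φ i)]
    (htop : ∀ N : ℕ, ∃ s : Finset (ι × ℕ),
      ⨅ p ∈ s, Ideal.comap (φ p.1) (IsLocalRing.maximalIdeal (A p.1) ^ p.2) ≤
        IsLocalRing.maximalIdeal ↑(Y.presheaf.stalk (f x)) ^ N)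
    (hflat : ∀ i : ι, ∃ x' : ↥(pullback f (Spec.map (CommRingCat.ofHom (φ i)) ≫
        Y.fromSpecStalk (f x))),
      pullback.fst f (Spec.map (CommRingCat.ofHom (φ i)) ≫ Y.fromSpecStalk (f x)) x' = x ∧
      pullback.snd f (Spec.map (CommRingCat.ofHom (φ i)) ≫ Y.fromSpecStalk (f x)) x' =
        IsLocalRing.closedPoint (A i) ∧
      FlatMod.IsFlatOverAt
        (pullback.snd f (Spec.map (CommRingCat.ofHom (φ i)) ≫ Y.fromSpecStalk (f x)))
        ((Scheme.Modules.pullback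
          (pullback.fst f (Spec.map (CommRingCat.ofHom (φ i)) ≫ Y.fromSpecStalk (f x)))).obj F)
        x') :
    FlatMod.IsFlatOverAt f F x := by
  haveI : F.IsQuasicoherent := hF.1
  haveI : SheafOfModules.IsFiniteType (R := X.ringCatSheaf) F := hF.2
  obtain ⟨xt, hxt1, hxt2⟩ := Scheme.Pullback.exists_preimage_pullback (f := f)
    (g := Y.fromSpecStalk (f x)) x (closedPoint (Y.presheaf.stalk (f x)))
    (Scheme.fromSpecStalk_closedPoint).symm
  haveI hpre : IsPreimmersion (pullback.fst f (Y.fromSpecStalk (f x))) :=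
    MorphismProperty.of_isPullback (P := @IsPreimmersion)
      (IsPullback.of_hasPullback f (Y.fromSpecStalk (f x))).flip inferInstance
  have hprim₀ := hprim_transfer f (Y.fromSpecStalk (f x))
    (pullback.fst f (Y.fromSpecStalk (f x))) (pullback.snd f (Y.fromSpecStalk (f x)))
    pullback.condition xt x hxt1 hprim
  have key : FlatMod.IsFlatOverAt f F (pullback.fst f (Y.fromSpecStalk (f x)) xt) := by
    refine isFlatOverAt_of_fromSpecStalk f F (f x) (pullback.fst f (Y.fromSpecStalk (f x)))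
      (pullback.snd f (Y.fromSpecStalk (f x))) (IsPullback.of_hasPullback _ _) xt ?_
    have hF₀ : Coh.IsCoh ((Scheme.Modules.pullback
        (pullback.fst f (Y.fromSpecStalk (f x)))).obj F) :=
      ⟨PBH8.isQuasicoherent_pullback _ F, FpqcH8.isFiniteType_pullback _ F⟩
    have hloc : ∀ i, ∀ a ∈ maximalIdeal ↑(Y.presheaf.stalk (f x)),
        φ i a ∈ maximalIdeal (A i) := by
      intro i a ha
      rw [mem_maximalIdeal, mem_nonunits_iff] at ha ⊢
      exact fun hu => ha (IsLocalHom.map_nonunit a hu)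
    refine main_noeth_prim (A := ↑(Y.presheaf.stalk (f x)))
      (pullback.snd f (Y.fromSpecStalk (f x))) _ hF₀ xt hxt2 hprim₀ A φ hloc htop
      (fun i => pullback f (Spec.map (CommRingCat.ofHom (φ i)) ≫ Y.fromSpecStalk (f x)))
      (fun i => pullback.lift
        (pullback.fst f (Spec.map (CommRingCat.ofHom (φ i)) ≫ Y.fromSpecStalk (f x)))
        (pullback.snd f (Spec.map (CommRingCat.ofHom (φ i)) ≫ Y.fromSpecStalk (f x)) ≫
          Spec.map (CommRingCat.ofHom (φ i)))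
        (by rw [Category.assoc]; exact pullback.condition))
      (fun i => pullback.snd f (Spec.map (CommRingCat.ofHom (φ i)) ≫ Y.fromSpecStalk (f x)))
      ?_ ?_
    · intro i
      refine IsPullback.of_right ?_ (pullback.lift_snd _ _ _)
        (IsPullback.of_hasPullback f (Y.fromSpecStalk (f x)))
      rw [pullback.lift_fst]
      exact IsPullback.of_hasPullback f _
    · intro i
      obtain ⟨x', hx'1, hx'2, hx'3⟩ := hflat i
      have hfst : pullback.lift
          (pullback.fst f (Spec.map (CommRingCat.ofHom (φ i)) ≫ Y.fromSpecStalk (f x)))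
          (pullback.snd f (Spec.map (CommRingCat.ofHom (φ i)) ≫ Y.fromSpecStalk (f x)) ≫
            Spec.map (CommRingCat.ofHom (φ i)))
          (by rw [Category.assoc]; exact pullback.condition) ≫
            pullback.fst f (Y.fromSpecStalk (f x)) =
          pullback.fst f (Spec.map (CommRingCat.ofHom (φ i)) ≫ Y.fromSpecStalk (f x)) :=
        pullback.lift_fst _ _ _
      refine ⟨x', ?_, hx'2, ?_⟩
      · apply (pullback.fst f (Y.fromSpecStalk (f x))).isEmbedding.injective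
        rw [← Scheme.Hom.comp_apply, hfst, hx'1, hxt1]
      · exact DescH8.isFlatOverAt_of_iso _
          ((Scheme.Modules.pullbackComp _ (pullback.fst f (Y.fromSpecStalk (f x)))).app F ≪≫
            (Scheme.Modules.pullbackCongr hfst).app F).symm x' hx'3
  rwa [hxt1] at key

end Groth.Agent.Lib.Flatif
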