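import Mathlib
import Groth.Prelude

set_option autoImplicit false
set_option linter.style.haveILetI false
set_option linter.unusedVariables false

universe u

open Polynomial

namespace Groth.Agent.Lib.PrimElH4

section
variable (K L : Type u) [Field K] [CommRing L] [Algebra K L] [Module.Finite K L]

theorem finQuot (I : Ideal L) : Module.Finite K (L ⧸ I) :=
  Module.Finite.of_surjective (Ideal.Quotient.mkₐ K I).toLinearMap
    (Ideal.Quotient.mkₐ_surjective K I)

/-- the map to the product of residue fields -/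
noncomputable def toPi : L →ₗ[K] (∀ m : MaximalSpectrum L, L ⧸ m.asIdeal) :=
  LinearMap.pi (fun m => (Ideal.Quotient.mkₐ K m.asIdeal).toLinearMap)

theorem toPi_injective [IsReduced L] : Function.Injective (toPi K L) := by
  haveI : IsArtinianRing L := IsArtinianRing.of_finite K L
  rw [← LinearMap.ker_eq_bot, LinearMap.ker_eq_bot']
  intro x hx
  have hmem : ∀ m : MaximalSpectrum L, x ∈ m.asIdeal := by
    intro m
    have h1 : toPi K L x m = 0 := by rw [hx]; rfl
    exact Ideal.Quotient.eq_zero_iff_mem.mp h1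
  have hnil : x ∈ nilradical L := by
    rw [nilradical_eq_sInf, Ideal.mem_sInf]
    intro p hp
    haveI : Ideal.IsPrime p := hp
    exact hmem ⟨p, inferInstance⟩
  exact (mem_nilradical.mp hnil).eq_zero

theorem finrank_le_sum [IsReduced L] [Fintype (MaximalSpectrum L)] :
    Module.finrank K L ≤ ∑ m : MaximalSpectrum L, Module.finrank K (L ⧸ m.asIdeal) := by
  haveI : ∀ m : MaximalSpectrum L, Module.Finite K (L ⧸ m.asIdeal) := fun m => finQuot K L _
  rw [← Module.finrank_pi_fintype K]
  exact LinearMap.finrank_le_finrank_of_injective (toPi_injective K L)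

theorem isSeparable_quot [Algebra.IsSeparable K L] (I : Ideal L) [I.IsMaximal] :
    letI : Field (L ⧸ I) := Ideal.Quotient.field I
    Algebra.IsSeparable K (L ⧸ I) := by
  letI : Field (L ⧸ I) := Ideal.Quotient.field I
  refine ⟨fun y => ?_⟩
  obtain ⟨x, rfl⟩ := Ideal.Quotient.mk_surjective y
  have hx : IsSeparable K x := Algebra.IsSeparable.isSeparable K x
  have hdvd : minpoly K (Ideal.Quotient.mk I x) ∣ minpoly K x := by
    apply minpoly.dvd
    have h1 := Polynomial.aeval_algHom_apply (Ideal.Quotient.mkₐ K I) x (minpoly K x)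
    rw [minpoly.aeval, map_zero] at h1
    exact h1
  exact Polynomial.Separable.of_dvd hx hdvd

theorem card_emb (F : Type u) [Field F] [Algebra K F] [Module.Finite K F]
    [Algebra.IsSeparable K F] (Ω : Type u) [Field Ω] [Algebra K Ω] [IsAlgClosed Ω] :
    Nat.card (F →ₐ[K] Ω) = Module.finrank K F := by
  rw [← Field.finSepDegree_eq_of_isAlgClosed K F Ω,
    Field.finSepDegree_eq_finrank_of_isSeparable]

theorem finrank_le_card [IsReduced L] [Algebra.IsSeparable K L] (Ω : Type u) [Field Ω]
    [Algebra K Ω] [IsAlgClosed Ω] :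
    Module.finrank K L ≤ Nat.card (L →ₐ[K] Ω) := by
  classical
  haveI : IsArtinianRing L := IsArtinianRing.of_finite K L
  haveI : Fintype (MaximalSpectrum L) := Fintype.ofFinite _
  haveI hfq : ∀ m : MaximalSpectrum L, Module.Finite K (L ⧸ m.asIdeal) :=
    fun m => finQuot K L _
  refine (finrank_le_sum K L).trans ?_
  have hcard : ∀ m : MaximalSpectrum L,
      Module.finrank K (L ⧸ m.asIdeal) = Nat.card ((L ⧸ m.asIdeal) →ₐ[K] Ω) := by
    intro m
    haveI := m.isMaximal
    letI : Field (L ⧸ m.asIdeal) := Ideal.Quotient.field m.asIdeal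
    haveI := isSeparable_quot K L m.asIdeal
    exact (card_emb K (L ⧸ m.asIdeal) Ω).symm
  have hker : ∀ (n : MaximalSpectrum L) (ψ : (L ⧸ n.asIdeal) →ₐ[K] Ω) (x : L),
      ψ (Ideal.Quotient.mk n.asIdeal x) = 0 ↔ x ∈ n.asIdeal := by
    intro n ψ x
    haveI := n.isMaximal
    letI : Field (L ⧸ n.asIdeal) := Ideal.Quotient.field n.asIdeal
    rw [← Ideal.Quotient.eq_zero_iff_mem]
    exact map_eq_zero_iff ψ (ψ : (L ⧸ n.asIdeal) →+* Ω).injective
  let Ψ : (Σ m : MaximalSpectrum L, ((L ⧸ m.asIdeal) →ₐ[K] Ω)) → (L →ₐ[K] Ω) :=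
    fun p => p.2.comp (Ideal.Quotient.mkₐ K p.1.asIdeal)
  have hΨ : Function.Injective Ψ := by
    rintro ⟨m, φ⟩ ⟨m', φ'⟩ h
    have hval : ∀ x : L, φ (Ideal.Quotient.mk m.asIdeal x) =
        φ' (Ideal.Quotient.mk m'.asIdeal x) := fun x => AlgHom.congr_fun h x
    have hm : m = m' := by
      apply MaximalSpectrum.ext
      ext x
      rw [← hker m φ x, ← hker m' φ' x, hval x]
    subst hm
    have hφ : φ = φ' := by
      apply AlgHom.ext
      intro y
      obtain ⟨x, rfl⟩ := Ideal.Quotient.mk_surjective y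
      exact hval x
    rw [hφ]
  calc ∑ m : MaximalSpectrum L, Module.finrank K (L ⧸ m.asIdeal)
      = ∑ m : MaximalSpectrum L, Nat.card ((L ⧸ m.asIdeal) →ₐ[K] Ω) :=
        Finset.sum_congr rfl (fun m _ => hcard m)
    _ = Nat.card (Σ m : MaximalSpectrum L, ((L ⧸ m.asIdeal) →ₐ[K] Ω)) := by
        rw [Nat.card_sigma]
    _ ≤ Nat.card (L →ₐ[K] Ω) := Nat.card_le_card_of_injective Ψ hΨ

theorem exists_good (z t : L) (hgen : Algebra.adjoin K ({z, t} : Set L) = ⊤)
    (Ω : Type u) [Field Ω] [Algebra K Ω] (S : Finset K)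
    (hS : Nat.card (L →ₐ[K] Ω) * Nat.card (L →ₐ[K] Ω) - Nat.card (L →ₐ[K] Ω) < S.card) :
    ∃ c ∈ S, Function.Injective (fun σ : L →ₐ[K] Ω => σ (c • z + t)) := by
  classical
  haveI : Fintype (L →ₐ[K] Ω) := Fintype.ofFinite _
  let bad : Finset K := (Finset.univ : Finset (L →ₐ[K] Ω)).offDiag.biUnion
    (fun p => S.filter (fun c => p.1 (c • z + t) = p.2 (c • z + t)))
  have h1 : ∀ p ∈ (Finset.univ : Finset (L →ₐ[K] Ω)).offDiag,
      (S.filter (fun c => p.1 (c • z + t) = p.2 (c • z + t))).card ≤ 1 := by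
    rintro ⟨σ, τ⟩ hp
    rw [Finset.mem_offDiag] at hp
    have hne : σ ≠ τ := hp.2.2
    rw [Finset.card_le_one]
    intro c hc c' hc'
    rw [Finset.mem_filter] at hc hc'
    by_contra hcc
    apply hne
    have e1 : algebraMap K Ω c * σ z + σ t = algebraMap K Ω c * τ z + τ t := by
      have h2 := hc.2
      simp only [map_add, Algebra.smul_def, map_mul, AlgHom.commutes] at h2
      exact h2
    have e2 : algebraMap K Ω c' * σ z + σ t = algebraMap K Ω c' * τ z + τ t := by
      have h2 := hc'.2
      simp only [map_add, Algebra.smul_def, map_mul, AlgHom.commutes] at h2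
      exact h2
    have e3 : algebraMap K Ω (c - c') * (σ z - τ z) = 0 := by
      rw [map_sub]
      linear_combination e1 - e2
    have hz : σ z = τ z := by
      rcases mul_eq_zero.mp e3 with h | h
      · exfalso
        apply hcc
        have h3 := (map_eq_zero_iff (algebraMap K Ω) (algebraMap K Ω).injective).mp h
        exact sub_eq_zero.mp h3
      · exact sub_eq_zero.mp h
    have ht : σ t = τ t := by
      rw [hz] at e1
      exact add_left_cancel e1
    apply AlgHom.ext_of_adjoin_eq_top hgen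
    intro x hx
    rcases hx with rfl | rfl
    · exact hz
    · exact ht
  have hbad : bad.card ≤ (Finset.univ : Finset (L →ₐ[K] Ω)).offDiag.card * 1 :=
    Finset.card_biUnion_le_card_mul _ _ 1 h1
  rw [mul_one, Finset.offDiag_card, Finset.card_univ, ← Nat.card_eq_fintype_card] at hbad
  obtain ⟨c, hcS, hcb⟩ := Finset.exists_mem_notMem_of_card_lt_card (lt_of_le_of_lt hbad hS)
  refine ⟨c, hcS, ?_⟩
  intro σ τ hστ
  by_contra hne
  apply hcb
  rw [Finset.mem_biUnion]
  refine ⟨(σ, τ), ?_, ?_⟩
  · rw [Finset.mem_offDiag]; exact ⟨Finset.mem_univ _, Finset.mem_univ _, hne⟩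
  · rw [Finset.mem_filter]; exact ⟨hcS, hστ⟩

theorem adjoin_eq_top_of_injective (Ω : Type u) [Field Ω] [Algebra K Ω] (u : L)
    (hinj : Function.Injective (fun σ : L →ₐ[K] Ω => σ u))
    (hcard : Module.finrank K L ≤ Nat.card (L →ₐ[K] Ω)) :
    Algebra.adjoin K ({u} : Set L) = ⊤ := by
  classical
  haveI : Fintype (L →ₐ[K] Ω) := Fintype.ofFinite _
  have hu : IsIntegral K u := Algebra.IsIntegral.isIntegral u
  have hp0 : minpoly K u ≠ 0 := minpoly.ne_zero hu
  have hpm : (minpoly K u).map (algebraMap K Ω) ≠ 0 :=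
    (Polynomial.map_ne_zero_iff (algebraMap K Ω).injective).mpr hp0
  have hroots : ∀ σ : L →ₐ[K] Ω, σ u ∈ ((minpoly K u).map (algebraMap K Ω)).roots := by
    intro σ
    rw [Polynomial.mem_roots hpm, Polynomial.IsRoot.def, Polynomial.eval_map,
      ← Polynomial.aeval_def]
    have h1 := Polynomial.aeval_algHom_apply σ u (minpoly K u)
    rw [h1, minpoly.aeval, map_zero]
  have hle : Nat.card (L →ₐ[K] Ω) ≤ (minpoly K u).natDegree := by
    rw [Nat.card_eq_fintype_card, ← Finset.card_univ,
      ← Finset.card_image_of_injective Finset.univ hinj]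
    calc (Finset.univ.image (fun σ : L →ₐ[K] Ω => σ u)).card
        ≤ ((minpoly K u).map (algebraMap K Ω)).roots.toFinset.card := by
          apply Finset.card_le_card
          intro y hy
          rw [Finset.mem_image] at hy
          obtain ⟨σ, -, rfl⟩ := hy
          rw [Multiset.mem_toFinset]
          exact hroots σ
      _ ≤ Multiset.card ((minpoly K u).map (algebraMap K Ω)).roots :=
          Multiset.toFinset_card_le _
      _ ≤ ((minpoly K u).map (algebraMap K Ω)).natDegree := Polynomial.card_roots' _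
      _ = (minpoly K u).natDegree := Polynomial.natDegree_map _
  have hfin : Module.finrank K (Algebra.adjoin K ({u} : Set L)) = (minpoly K u).natDegree := by
    rw [(Algebra.adjoin.powerBasis hu).finrank]
    rfl
  have htop : Subalgebra.toSubmodule (Algebra.adjoin K ({u} : Set L)) = ⊤ := by
    apply Submodule.eq_top_of_finrank_eq
    apply le_antisymm (Submodule.finrank_le _)
    calc Module.finrank K L ≤ Nat.card (L →ₐ[K] Ω) := hcard
      _ ≤ (minpoly K u).natDegree := hle
      _ = _ := hfin.symm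
  exact Algebra.toSubmodule_eq_top.mp htop

theorem main [IsReduced L] [Algebra.IsSeparable K L] (z t : L)
    (hgen : Algebra.adjoin K ({z, t} : Set L) = ⊤) (S : Finset K)
    (hS : Module.finrank K L ^ (4 * Module.finrank K L) ≤ S.card) :
    ∃ c ∈ S, Algebra.adjoin K ({c • z + t} : Set L) = ⊤ := by
  have hge := finrank_le_card K L (AlgebraicClosure K)
  have hle := card_algHom_le_finrank K L (AlgebraicClosure K)
  have heq : Nat.card (L →ₐ[K] AlgebraicClosure K) = Module.finrank K L := le_antisymm hle hge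
  have hlt : Nat.card (L →ₐ[K] AlgebraicClosure K) * Nat.card (L →ₐ[K] AlgebraicClosure K)
      - Nat.card (L →ₐ[K] AlgebraicClosure K) < S.card := by
    rw [heq]
    refine lt_of_lt_of_le ?_ hS
    rcases Nat.eq_zero_or_pos (Module.finrank K L) with h0 | hpos
    · rw [h0]; simp
    · calc Module.finrank K L * Module.finrank K L - Module.finrank K L
          < Module.finrank K L * Module.finrank K L := Nat.sub_lt (Nat.mul_pos hpos hpos) hpos
        _ = Module.finrank K L ^ 2 := (sq _).symm
        _ ≤ Module.finrank K L ^ (4 * Module.finrank K L) :=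
          Nat.pow_le_pow_right hpos (by omega)
  obtain ⟨c, hcS, hinj⟩ := exists_good K L z t hgen (AlgebraicClosure K) S hlt
  exact ⟨c, hcS, adjoin_eq_top_of_injective K L (AlgebraicClosure K) (c • z + t) hinj hge⟩

end

end Groth.Agent.Lib.PrimElH4
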