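import Mathlib
import Groth.Agent.Lib.PrinPart1_helper6

/-!
# Transition maps `P^m(F) ⟶ P^n(F)` for `n ≤ m`; monotonicity of the order (helper6)
-/

set_option autoImplicit false
universe u
open CategoryTheory CategoryTheory.Limits AlgebraicGeometry TopologicalSpace Opposite

namespace Groth.Agent.Lib.PrinPart3H6

open Scheme.Modules

section General

variable {X Z Z' : Scheme.{u}} (g : Z' ⟶ Z) (p : Z ⟶ X) (q : Z' ⟶ X) (e : g ≫ p = q)
  (F : X.Modules)

/-- The adjoint target of `theta`. -/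
noncomputable def thetaAdj :
    F ⟶ (pushforward p).obj ((pushforward g).obj ((Scheme.Modules.pullback q).obj F)) :=
  (pullbackPushforwardAdjunction q).unit.app F ≫
    (pushforwardCongr e.symm).hom.app ((Scheme.Modules.pullback q).obj F) ≫
      (pushforwardComp g p).inv.app ((Scheme.Modules.pullback q).obj F)

theorem thetaAdj_app (U : X.Opens) (t : Γ(F, U)) :
    (thetaAdj g p q e F).app U t =
      ((Scheme.Modules.pullback q).obj F).presheaf.map
        (eqToHom (show g ⁻¹ᵁ (p ⁻¹ᵁ U) = q ⁻¹ᵁ U by rw [← e]; rfl)).op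
        (OmegaSh.pullSect q F U t) := by
  unfold thetaAdj
  rw [Hom.comp_app, Hom.comp_app, pushforwardComp_inv_app_app, pushforwardCongr_hom_app_app]
  rfl

/-- `p^* F ⟶ g_* q^* F` for `g ≫ p = q`. -/
noncomputable def theta :
    (Scheme.Modules.pullback p).obj F ⟶ (pushforward g).obj ((Scheme.Modules.pullback q).obj F) :=
  ((pullbackPushforwardAdjunction p).homEquiv F _).symm (thetaAdj g p q e F)

theorem unit_theta :
    (pullbackPushforwardAdjunction p).unit.app F ≫ (pushforward p).map (theta g p q e F) =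
      thetaAdj g p q e F := by
  have := Equiv.apply_symm_apply
    ((pullbackPushforwardAdjunction p).homEquiv F
      ((pushforward g).obj ((Scheme.Modules.pullback q).obj F))) (thetaAdj g p q e F)
  rw [Adjunction.homEquiv_unit] at this
  exact this

theorem theta_pullSect (U : X.Opens) (t : Γ(F, U)) :
    (theta g p q e F).app (p ⁻¹ᵁ U) (OmegaSh.pullSect p F U t) =
      ((Scheme.Modules.pullback q).obj F).presheaf.map
        (eqToHom (show g ⁻¹ᵁ (p ⁻¹ᵁ U) = q ⁻¹ᵁ U by rw [← e]; rfl)).op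
        (OmegaSh.pullSect q F U t) := by
  rw [← thetaAdj_app, ← unit_theta, Hom.comp_app, pushforward_map_app]
  rfl

variable (p1 : Z ⟶ X) (q1 : Z' ⟶ X) (e1 : g ≫ p1 = q1) {M : Z.Modules} {N : Z'.Modules}
  (θ : M ⟶ (pushforward g).obj N)

/-- `(p_1)_* M ⟶ (q_1)_* N` induced by `θ : M ⟶ g_* N` when `g ≫ p_1 = q_1`. -/
noncomputable def rhoGen : (pushforward p1).obj M ⟶ (pushforward q1).obj N :=
  (pushforward p1).map θ ≫ (pushforwardComp g p1).hom.app N ≫ (pushforwardCongr e1).hom.app N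

theorem rhoGen_app (U : X.Opens) (x : Γ((pushforward p1).obj M, U)) :
    (rhoGen g p1 q1 e1 θ).app U x = N.presheaf.map
      (eqToHom (show q1 ⁻¹ᵁ U = g ⁻¹ᵁ (p1 ⁻¹ᵁ U) by rw [← e1]; rfl)).op
        (θ.app (p1 ⁻¹ᵁ U) x) := by
  unfold rhoGen
  rw [Hom.comp_app, Hom.comp_app, pushforwardComp_hom_app_app, pushforwardCongr_hom_app_app,
    pushforward_map_app]
  rfl

theorem theta_res {A B : Z.Opens} (i : A ⟶ B) (x : Γ(M, B)) :
    θ.app A (M.presheaf.map i.op x) =
      N.presheaf.map ((Opens.map g.base).map i).op (θ.app B x) :=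
  congr($((Scheme.Modules.Hom.mapPresheaf θ).naturality i.op) x)

/-- The general form of `rho (d^m t) = d^n t`. -/
theorem rhoGen_theta (U : X.Opens) (t : Γ(F, U)) (hp : p1 ⁻¹ᵁ U ≤ p ⁻¹ᵁ U)
    (hq : q1 ⁻¹ᵁ U ≤ q ⁻¹ᵁ U) :
    (rhoGen g p1 q1 e1 (theta g p q e F)).app U
        (((Scheme.Modules.pullback p).obj F).presheaf.map (homOfLE hp).op
          (OmegaSh.pullSect p F U t)) =
      ((Scheme.Modules.pullback q).obj F).presheaf.map (homOfLE hq).op
        (OmegaSh.pullSect q F U t) := by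
  rw [rhoGen_app, theta_res, theta_pullSect, OmegaSh.resM_resM, OmegaSh.resM_resM]
  exact congrArg (fun i => ((Scheme.Modules.pullback q).obj F).presheaf.map
    (Quiver.Hom.op i) (OmegaSh.pullSect q F U t)) (Subsingleton.elim _ _)

end General

section Diag

variable {X S : Scheme.{u}} (f : X ⟶ S) {n m : ℕ} (h : n ≤ m)

/-- The transition morphism of the infinitesimal neighbourhoods of the diagonal. -/
noncomputable abbrev tr : PrinPart.nbhd f n ⟶ PrinPart.nbhd f m :=
  PrinPart.infNbhdMap (PrinPart.diagCl f) h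

theorem tr_pr1 : tr f h ≫ PrinPart.pr1 f m = PrinPart.pr1 f n := by
  simp only [PrinPart.pr1, PrinPart.nbhdι, Category.assoc]
  exact PrinPart.infNbhdMap_ι_assoc _ h _

theorem tr_pr2 : tr f h ≫ PrinPart.pr2 f m = PrinPart.pr2 f n := by
  simp only [PrinPart.pr2, PrinPart.nbhdι, Category.assoc]
  exact PrinPart.infNbhdMap_ι_assoc _ h _

variable (F : X.Modules)

/-- The transition map `P^m(F) ⟶ P^n(F)`. -/
noncomputable def rho : PrinPart.PMod f m F ⟶ PrinPart.PMod f n F :=
  rhoGen (tr f h) (PrinPart.pr1 f m) (PrinPart.pr1 f n) (tr_pr1 f h)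
    (theta (tr f h) (PrinPart.pr2 f m) (PrinPart.pr2 f n) (tr_pr2 f h) F)

theorem rho_dP (U : X.Opens) (t : Γ(F, U)) :
    (rho f h F).app U (PrinPart.dP f m F U t) = PrinPart.dP f n F U t := by
  rw [PrinPart.dP_apply, PrinPart.dP_apply]
  exact rhoGen_theta (tr f h) (PrinPart.pr2 f m) (PrinPart.pr2 f n) (tr_pr2 f h) F
    (PrinPart.pr1 f m) (PrinPart.pr1 f n) (tr_pr1 f h) U t
    (PrinPart.preimage_pr1 f m U).le (PrinPart.preimage_pr1 f n U).le

include h in
theorem isDiffOpLE_of_le (G : X.Modules) (D : F.presheaf ⟶ G.presheaf)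
    (hD : PrinPart.IsDiffOpLE f F G n D) : PrinPart.IsDiffOpLE f F G m D := by
  obtain ⟨u, hu⟩ := hD
  refine ⟨rho f h F ≫ u, fun U t => ?_⟩
  rw [hu, ← rho_dP f h F U t]
  rfl

end Diag

end Groth.Agent.Lib.PrinPart3H6
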