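import Mathlib
import Groth.Prelude
import Groth.Agent.Lib.ParaUfd3_helper5

/-!
# Gluing local generators with values in the fraction field on an open `Y ⊆ Spec R` with trivial
Picard group (helper5).  APPEND-ONLY once landed.
-/

set_option autoImplicit false
universe u
open CategoryTheory AlgebraicGeometry TopologicalSpace Opposite

noncomputable section

namespace Groth.Agent.PrincCyc

open QcqsLoc GenLocH8 TensH8 FLFH8 QCohExtn Groth.Agent.UfdVal Groth.Agent.PicUfd
  Groth.Agent.CocycMod Groth.Agent.ParaUfd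

variable {R : CommRingCat.{u}} [IsDomain R] {Y : Scheme.{u}} {g : Y ⟶ Spec R} [IsOpenImmersion g]

/-- the common value of local generators in the fraction field, whose quotients are units on the
overlaps of the charts -/
theorem exists_common' (hpic : ParaF.PicTrivial Y) (i₀ : Y)
    (V : Y → Y.Opens) (s : Y → R) (f : Y → FractionRing R) (hyV : ∀ y, y ∈ V y)
    (hch : ∀ y, IsChart g (V y) (s y))
    (hf0 : ∀ y, f y ≠ 0) (hrel : ∀ y y' : Y, IsUnitAway (s y * s y') (f y / f y')) :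
    ∃ z : FractionRing R, z ≠ 0 ∧ ∀ y, ∃ u : Γ(Y, V y), IsUnit u ∧
      gam (hch y) u * f y = z := by
  have hch2 : ∀ i j : Y, IsChart g (V i ⊓ V j) (s i * s j) := fun i j => (hch i).inf (hch j)
  -- transition units
  have hη : ∀ i j : Y, ∃ t : Γ(Y, V i ⊓ V j), IsUnit t ∧ gam (hch2 i j) t = f i / f j := by
    intro i j
    exact exists_unit_of_isUnitAway (hch2 i j) (div_ne_zero (hf0 i) (hf0 j)) (hrel i j)
  choose t htu ht using hη
  let η : ∀ i j : Y, (Γ(Y, V i ⊓ V j))ˣ := fun i j => (htu i j).unit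
  have hηv : ∀ i j, ((η i j : (Γ(Y, V i ⊓ V j))ˣ) : Γ(Y, V i ⊓ V j)) = t i j :=
    fun i j => (htu i j).unit_spec
  have hcoc : Cocycle V η := by
    intro i j k
    have hW : IsChart g ((V i ⊓ V j) ⊓ V k) (s i * s j * s k) := (hch2 i j).inf (hch k)
    rw [hηv, hηv, hηv]
    apply gam_injective hW
    rw [map_mul]
    have l1 : (V i ⊓ V j) ⊓ V k ≤ V i ⊓ V k := inf_le_inf_right (V k) inf_le_left
    have l2 : (V i ⊓ V j) ⊓ V k ≤ V i ⊓ V j := inf_le_left
    have l3 : (V i ⊓ V j) ⊓ V k ≤ V j ⊓ V k := inf_le_inf_right (V k) inf_le_right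
    show gam hW (rX l1 (t i k)) = gam hW (rX l2 (t i j)) * gam hW (rX l3 (t j k))
    rw [gam_rX (hch2 i k) hW l1, gam_rX (hch2 i j) hW l2, gam_rX (hch2 j k) hW l3, ht, ht, ht]
    have h1 := hf0 i
    have h2 := hf0 j
    have h3 := hf0 k
    field_simp
  have hU : iSup V = ⊤ := by
    rw [eq_top_iff]
    intro x _
    exact Opens.mem_iSup.mpr ⟨x, hyV x⟩
  have hL := isInvertible_L V η id hyV hcoc hU
  obtain ⟨α⟩ := hpic _ hL
  obtain ⟨τ, hτdef⟩ : ∃ τ : Γ(CocycMod.L V η id hyV hcoc, ⊤), τ = ap α.inv ⊤ (toM 1) := ⟨_, rfl⟩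
  have hτ : IsGen (CocycMod.L V η id hyV hcoc) ⊤ τ := by
    rw [hτdef]
    exact isGen_of_iso α.symm (isGen_one ⊤)
  have hu : ∀ y : Y, ∃ u : Γ(Y, V y), IsUnit u ∧
      rF (CocycMod.L V η id hyV hcoc) (le_top : V y ≤ ⊤) τ = u • sec V η id hyV hcoc y := by
    intro y
    obtain ⟨u, hu⟩ := (isGen_sec V η id hyV hcoc y).exists_coef
      (rF (CocycMod.L V η id hyV hcoc) le_top τ)
    refine ⟨u, ?_, hu⟩
    apply isUnit_of_isGen_smul (isGen_sec V η id hyV hcoc y)
    rw [← hu]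
    exact hτ.res le_top
  choose u huu hu using hu
  have hkey : ∀ i j : Y, gam (hch i) (u i) * (f i / f j) = gam (hch j) (u j) := by
    intro i j
    have e1 := congrArg (rF (CocycMod.L V η id hyV hcoc) (inf_le_left : V i ⊓ V j ≤ V i)) (hu i)
    have e2 := congrArg (rF (CocycMod.L V η id hyV hcoc) (inf_le_right : V i ⊓ V j ≤ V j)) (hu j)
    rw [rF_rF, rF_smul] at e1 e2
    rw [rF_sec, ← mul_smul] at e1
    have e3 := e1.symm.trans e2
    have e4 := IsGen.coef_ext ((isGen_sec V η id hyV hcoc j).res inf_le_right) e3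
    have e5 := congrArg (gam (hch2 i j)) e4
    rw [map_mul, gam_rX (hch i) (hch2 i j), gam_rX (hch j) (hch2 i j), hηv, ht] at e5
    exact e5
  refine ⟨gam (hch i₀) (u i₀) * f i₀,
    mul_ne_zero ((huu i₀).map _).ne_zero (hf0 i₀), fun y => ⟨u y, huu y, ?_⟩⟩
  have h1 := hkey y i₀
  rw [← h1]
  have h2 := hf0 y
  have h3 := hf0 i₀
  field_simp

/-- transport of `IsUnitAway` along an isomorphism of fraction fields -/
theorem isUnitAway_map {A : Type u} [CommRing A] [IsDomain A] {K K' : Type u} [Field K] [Field K']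
    [Algebra A K] [Algebra A K'] [IsFractionRing A K] [IsFractionRing A K'] (e : K ≃ₐ[A] K')
    {h : A} {x : K} (hx : IsUnitAway h x) : IsUnitAway h (e x) := by
  obtain ⟨a, a', N, h1, h2⟩ := hx
  refine ⟨a, a', N, ?_, ?_⟩
  · have := congrArg e h1
    rwa [map_mul, AlgEquiv.commutes, AlgEquiv.commutes] at this
  · have := congrArg e h2
    rwa [map_mul, map_inv₀, AlgEquiv.commutes, AlgEquiv.commutes] at this

/-- finitely many primes not contained in `q` contain a common element outside `q` -/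
theorem exists_notMem_forall_mem {A : Type u} [CommRing A] (q : Ideal A) [hq : q.IsPrime]
    {ι : Type*} (B : Finset ι) (p : ι → Ideal A) (h : ∀ i ∈ B, ¬ p i ≤ q) :
    ∃ s : A, s ∉ q ∧ ∀ i ∈ B, s ∈ p i := by
  have h1 : ¬ B.inf p ≤ q := by
    intro hle
    obtain ⟨i, hi, hle'⟩ := (Ideal.IsPrime.inf_le' hq).mp hle
    exact h i hi hle'
  obtain ⟨s, hs, hsq⟩ := SetLike.not_le_iff_exists.mp h1
  refine ⟨s, hsq, fun i hi => ?_⟩
  exact (Finset.inf_le hi : B.inf p ≤ p i) hs

theorem isUnitAway_mono {A : Type u} [CommRing A] [IsDomain A] {K : Type u} [Field K]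
    [Algebra A K] [IsFractionRing A K] {h : A} {x : K} (hx : IsUnitAway h x) (h' : A) :
    IsUnitAway (h' * h) x := by
  obtain ⟨a, a', N, h1, h2⟩ := hx
  refine ⟨a * h' ^ N, a' * h' ^ N, N, ?_, ?_⟩
  · rw [mul_pow, map_mul, map_mul, ← h1]; ring
  · rw [mul_pow, map_mul, map_mul, ← h2]; ring

/-- **Gluing local generators on the punctured spectrum.**  Let `A` be a local domain with fraction
field `K` whose punctured spectrum has trivial Picard group.  Given, for every non-closed point `q`,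
a function `s q ∉ q` and a nonzero `f q ∈ K` such that `f q / f q'` is a unit away from
`s q * s q'`, there is a nonzero `z ∈ K` such that `z / f q` is a unit on a neighbourhood of `q`,
for every non-closed `q`. -/
theorem exists_common_local (A : Type u) [CommRing A] [IsLocalRing A] [IsDomain A]
    (K : Type u) [Field K] [Algebra A K] [IsFractionRing A K]
    (hpic : ParaF.PicTrivial (FEt.puncturedSpec A : Scheme.{u}))
    (q₀ : PrimeSpectrum A) (hq₀ : q₀ ≠ IsLocalRing.closedPoint A)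
    (s : PrimeSpectrum A → A) (f : PrimeSpectrum A → K)
    (hs : ∀ q, q ≠ IsLocalRing.closedPoint A → s q ∉ q.asIdeal)
    (hf0 : ∀ q, f q ≠ 0)
    (hrel : ∀ q q', q ≠ IsLocalRing.closedPoint A → q' ≠ IsLocalRing.closedPoint A →
      IsUnitAway (s q * s q') (f q / f q')) :
    ∃ z : K, z ≠ 0 ∧ ∀ q, q ≠ IsLocalRing.closedPoint A →
      ∃ t : A, t ∉ q.asIdeal ∧ IsUnitAway t (z / f q) := by
  let e : FractionRing A ≃ₐ[A] K := FractionRing.algEquiv A K
  let P : ↥(FEt.puncturedSpec A : Scheme.{u}) → PrimeSpectrum A :=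
    fun y => (FEt.puncturedSpec A).ι y
  have hP : ∀ y, P y ≠ IsLocalRing.closedPoint A := fun y => y.2
  have hgood : ∀ y : ↥(FEt.puncturedSpec A : Scheme.{u}),
      ∃ (V : (FEt.puncturedSpec A : Scheme.{u}).Opens) (s₀ : A), y ∈ V ∧
        IsChart (R := CommRingCat.of A) (FEt.puncturedSpec A).ι V (s₀ * s (P y)) := by
    intro y
    obtain ⟨V₀, s₀, hyV₀, hc₀⟩ := exists_chart (R := CommRingCat.of A)
      (g := (FEt.puncturedSpec A).ι) y
    have hs₁ := hs (P y) (hP y)
    have hs₁0 : s (P y) ≠ 0 := by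
      intro h0
      rw [h0] at hs₁
      exact hs₁ (Ideal.zero_mem _)
    refine ⟨(FEt.puncturedSpec A).ι ⁻¹ᵁ D (R := CommRingCat.of A) (s₀ * s (P y)), s₀, ?_,
      ⟨mul_ne_zero hc₀.ne hs₁0, ?_, rfl⟩⟩
    · show (FEt.puncturedSpec A).ι y ∈ D (R := CommRingCat.of A) (s₀ * s (P y))
      rw [D_mul]
      refine ⟨?_, hs₁⟩
      have h1 := hyV₀
      rw [hc₀.eq] at h1
      exact h1
    · rw [D_mul]
      exact inf_le_left.trans hc₀.le
  choose V s₀ hyV hch using hgood
  have hf'0 : ∀ y, e.symm (f (P y)) ≠ 0 := fun y =>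
    (map_ne_zero_iff _ e.symm.injective).mpr (hf0 (P y))
  have hrel' : ∀ y y', IsUnitAway (s₀ y * s (P y) * (s₀ y' * s (P y')))
      (e.symm (f (P y)) / e.symm (f (P y'))) := by
    intro y y'
    have h1 : IsUnitAway (s (P y) * s (P y')) (e.symm (f (P y)) / e.symm (f (P y'))) := by
      rw [← map_div₀]
      exact isUnitAway_map e.symm (hrel (P y) (P y') (hP y) (hP y'))
    have h2 := isUnitAway_mono h1 (s₀ y * s₀ y')
    have e1 : s₀ y * s (P y) * (s₀ y' * s (P y')) = s₀ y * s₀ y' * (s (P y) * s (P y')) := by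
      ring
    rw [e1]
    exact h2
  obtain ⟨z, hz0, hz⟩ := exists_common' (R := CommRingCat.of A) (g := (FEt.puncturedSpec A).ι)
    hpic ⟨q₀, hq₀⟩ V (fun y => s₀ y * s (P y)) (fun y => e.symm (f (P y))) hyV hch hf'0 hrel'
  refine ⟨e z, (map_ne_zero_iff _ e.injective).mpr hz0, ?_⟩
  intro q hq
  obtain ⟨u, huu, hu⟩ := hz ⟨q, hq⟩
  refine ⟨s₀ ⟨q, hq⟩ * s q, ?_, ?_⟩
  · have hy := hyV ⟨q, hq⟩
    rw [(hch ⟨q, hq⟩).eq] at hy
    exact hy
  · have h1 := isUnitAway_map e (isUnitAway_gam (hch ⟨q, hq⟩) huu)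
    have h2 : e (gam (hch ⟨q, hq⟩) u) = e z / f q := by
      rw [← hu, map_mul, AlgEquiv.apply_symm_apply]
      have := hf0 q
      show _ = _ * f q / f q
      field_simp
    rw [h2] at h1
    exact h1

end Groth.Agent.PrincCyc
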