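import Mathlib
import Groth.Prelude
import Groth.Agent.Lib.PrincCyc1_helper5
import Groth.Agent.Lib.PrincCyc2_helper5
import Groth.Agent.Lib.Tens49_helper8

/-!
# Codimension one cycles on a normal scheme are principal at points with parafactorial local ring
once they are principal at the proper generizations (helper5).  APPEND-ONLY once landed.
-/

set_option autoImplicit false
universe u

open CategoryTheory IsLocalRing AlgebraicGeometry TopologicalSpace Opposite

namespace Groth.Agent.PrincCyc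

open Groth.Agent.CDivUFD Groth.Agent.UfdVal

variable {X : Scheme.{u}} [IsIntegral X] [IsLocallyNoetherian X]

/-- a rational function with order zero at the codimension one generizations of `x` off `h = 0` is
a unit away from `h` -/
theorem isUnitAway_of_ord_eq_zero (hX : Pi1.IsNormalScheme X) (x : X) (h : X.presheaf.stalk x)
    (hh : h ≠ 0) (u : X.functionField) (hu : u ≠ 0)
    (H : ∀ (x' : X) (hsp : x' ⤳ x), Order.coheight x' = 1 → h ∉ genPrime hsp →
      Scheme.ord u x' = 0) :
    IsUnitAway (R := X.presheaf.stalk x) h u := by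
  obtain ⟨N₁, a₁, h₁⟩ := exists_mul_pow hX x h hh u hu
    (fun x' hsp hco hn => (H x' hsp hco hn).ge)
  obtain ⟨N₂, a₂, h₂⟩ := exists_mul_pow hX x h hh u⁻¹ (inv_ne_zero hu)
    (fun x' hsp hco hn => by rw [ord_inv u hu, H x' hsp hco hn]; simp)
  refine ⟨a₁ * h ^ N₂, a₂ * h ^ N₁, N₁ + N₂, ?_, ?_⟩
  · rw [pow_add, map_mul, map_mul, ← h₁]; ring
  · rw [pow_add, map_mul, map_mul, ← h₂]; ring

/-- **The inductive step.** -/
theorem step (hX : Pi1.IsNormalScheme X) (Z : X → ℤ) (x : X)
    (hZfin : {z : X | z ⤳ x ∧ Z z ≠ 0}.Finite)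
    (hdim : (2 : WithBot ℕ∞) ≤ ringKrullDim (X.presheaf.stalk x))
    (hpara : ParaF.IsParafactorialLocalRing (X.presheaf.stalk x))
    (IH : ∀ x₀ : X, x₀ ⤳ x → x₀ ≠ x → ∃ f : X.functionField, f ≠ 0 ∧
      ∀ x' : X, Order.coheight x' = 1 → x' ⤳ x₀ → Z x' = Scheme.ord f x') :
    ∃ f : X.functionField, f ≠ 0 ∧
      ∀ x' : X, Order.coheight x' = 1 → x' ⤳ x → Z x' = Scheme.ord f x' := by
  classical
  have hpic := ((TensH8.isParafactorialLocalRing_iff (X.presheaf.stalk x)).mp hpara).2
  have hmax : (2 : ℕ∞) ≤ (maximalIdeal (X.presheaf.stalk x)).height := by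
    rw [← IsLocalRing.maximalIdeal_height_eq_ringKrullDim] at hdim
    have h1 : ((2 : ℕ∞) : WithBot ℕ∞) ≤
        (((maximalIdeal (X.presheaf.stalk x)).height : ℕ∞) : WithBot ℕ∞) := hdim
    exact WithBot.coe_le_coe.1 h1
  -- data for each prime
  have hdata : ∀ q : PrimeSpectrum (X.presheaf.stalk x),
      ∃ (s : X.presheaf.stalk x) (f : X.functionField), f ≠ 0 ∧
      (q ≠ IsLocalRing.closedPoint (X.presheaf.stalk x) → s ∉ q.asIdeal ∧
        ∀ (x' : X) (hsp : x' ⤳ x), Order.coheight x' = 1 → s ∉ genPrime hsp →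
          Z x' = Scheme.ord f x') := by
    intro q
    by_cases hq : q = IsLocalRing.closedPoint (X.presheaf.stalk x)
    · exact ⟨1, 1, one_ne_zero, fun h => absurd hq h⟩
    · haveI := q.isPrime
      obtain ⟨x₀, h₀, hq₀⟩ := exists_genPrime_eq' x q.asIdeal
      have hne : x₀ ≠ x := by
        intro he
        apply hq
        apply PrimeSpectrum.ext
        rw [hq₀, genPrime_eq_maximalIdeal_of_eq h₀ he]
        rfl
      obtain ⟨f, hf0, hf⟩ := IH x₀ h₀ hne
      have hfin : {z : X | z ⤳ x ∧ Order.coheight z = 1 ∧ Z z ≠ Scheme.ord f z}.Finite := by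
        apply (hZfin.union (finite_gen_ord_ne_zero x f hf0)).subset
        rintro z ⟨hz, hco, hne⟩
        by_cases hZz : Z z = 0
        · right
          refine ⟨hz, hco, ?_⟩
          intro h0
          exact hne (by rw [hZz, h0])
        · left
          exact ⟨hz, hZz⟩
      let p : X → Ideal (X.presheaf.stalk x) := fun z => if h : z ⤳ x then genPrime h else ⊤
      obtain ⟨s, hsq, hs⟩ := exists_notMem_forall_mem q.asIdeal hfin.toFinset p (by
        intro z hz hle
        rw [Set.Finite.mem_toFinset] at hz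
        obtain ⟨hzx, hco, hne⟩ := hz
        have hpz : p z = genPrime hzx := dif_pos hzx
        rw [hpz, hq₀] at hle
        exact hne (hf z hco (specializes_of_genPrime_le hzx h₀ hle)))
      refine ⟨s, f, hf0, fun _ => ⟨hsq, ?_⟩⟩
      intro x' hsp hco hs'
      by_contra hne
      have hmem : x' ∈ hfin.toFinset := hfin.mem_toFinset.mpr ⟨hsp, hco, hne⟩
      have h1 := hs x' hmem
      have hpz : p x' = genPrime hsp := dif_pos hsp
      rw [hpz] at h1
      exact hs' h1
  choose s f hf0 hsf using hdata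
  -- relations
  have hrel : ∀ q q', q ≠ IsLocalRing.closedPoint (X.presheaf.stalk x) →
      q' ≠ IsLocalRing.closedPoint (X.presheaf.stalk x) →
      IsUnitAway (R := X.presheaf.stalk x) (s q * s q') (f q / f q') := by
    intro q q' hq hq'
    obtain ⟨hs1, hZ1⟩ := hsf q hq
    obtain ⟨hs2, hZ2⟩ := hsf q' hq'
    have hs10 : s q ≠ 0 := by
      intro h0
      rw [h0] at hs1
      exact hs1 (Ideal.zero_mem _)
    have hs20 : s q' ≠ 0 := by
      intro h0
      rw [h0] at hs2
      exact hs2 (Ideal.zero_mem _)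
    apply isUnitAway_of_ord_eq_zero hX x _ (mul_ne_zero hs10 hs20) _
      (div_ne_zero (hf0 q) (hf0 q'))
    intro x' hsp hco hn
    have hn1 : s q ∉ genPrime hsp := fun hm => hn (Ideal.mul_mem_right _ _ hm)
    have hn2 : s q' ∉ genPrime hsp := fun hm => hn (Ideal.mul_mem_left _ _ hm)
    rw [div_eq_mul_inv, Scheme.ord_mul (hf0 q) (inv_ne_zero (hf0 q')), ord_inv _ (hf0 q'),
      ← hZ1 x' hsp hco hn1, ← hZ2 x' hsp hco hn2]
    ring
  -- the punctured spectrum is not empty
  have hq₀ : (⟨⊥, Ideal.isPrime_bot⟩ : PrimeSpectrum (X.presheaf.stalk x)) ≠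
      IsLocalRing.closedPoint (X.presheaf.stalk x) := by
    intro he
    have h1 : (⊥ : Ideal (X.presheaf.stalk x)) = maximalIdeal (X.presheaf.stalk x) :=
      congrArg PrimeSpectrum.asIdeal he
    rw [← h1, Ideal.height_bot] at hmax
    exact absurd hmax (by decide)
  obtain ⟨z, hz0, hz⟩ := exists_common_local (X.presheaf.stalk x) X.functionField hpic _ hq₀ s f
    (fun q hq => (hsf q hq).1) hf0 hrel
  refine ⟨z, hz0, ?_⟩
  intro x' hco hsp
  have hht := height_genPrime hsp hco
  have hqm : (⟨genPrime hsp, inferInstance⟩ : PrimeSpectrum (X.presheaf.stalk x)) ≠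
      IsLocalRing.closedPoint (X.presheaf.stalk x) := by
    intro he
    have h1 : genPrime hsp = maximalIdeal (X.presheaf.stalk x) :=
      congrArg PrimeSpectrum.asIdeal he
    rw [← h1, hht] at hmax
    exact absurd hmax (by decide)
  obtain ⟨t, ht, a, a', N, h1, h2⟩ := hz _ hqm
  obtain ⟨hs1, hZ1⟩ := hsf _ hqm
  have hzf : z / f ⟨genPrime hsp, inferInstance⟩ ≠ 0 := div_ne_zero hz0 (hf0 _)
  have e0 := ord_eq_zero_of_unitAway hX hsp hco t ht _ hzf a a' N h1 h2
  have e1 : Scheme.ord z x' =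
      Scheme.ord (z / f ⟨genPrime hsp, inferInstance⟩ * f ⟨genPrime hsp, inferInstance⟩) x' := by
    rw [div_mul_cancel₀ _ (hf0 _)]
  rw [hZ1 x' hsp hco hs1, e1, Scheme.ord_mul hzf (hf0 _), e0, zero_add]

end Groth.Agent.PrincCyc
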