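import Mathlib
import Groth.Agent.Lib.PrincRad1_helper3
import Groth.Agent.Lib.HS8_helper9

/-!
# Bounding the number of components of a principal divisor (helper3)

In a Noetherian local domain of dimension `d` in which every height one prime has coheight `d - 1`,
the number of minimal primes over `(f)` is at most the colength of a parameter ideal
`(f, g_1, …, g_{d-1})`.
-/

set_option autoImplicit false
universe u
open IsLocalRing

namespace Groth.Agent.Lib.PrincRadH3

theorem ncard_minimalPrimes_le {R : Type u} [CommRing R] [IsDomain R] [IsNoetherianRing R]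
    [IsLocalRing R] (d : ℕ) (hd : ringKrullDim R = d)
    (hequi : ∀ P : Ideal R, P.IsPrime → P.height = 1 →
      ringKrullDim (R ⧸ P) = ((d - 1 : ℕ) : WithBot ℕ∞))
    (f : R) (hf0 : f ≠ 0) (hfm : f ∈ maximalIdeal R) (g : Fin (d - 1) → R)
    (hg : ∀ i, g i ∈ maximalIdeal R)
    (hrad : maximalIdeal R ≤ (Ideal.span (insert f (Set.range g))).radical) :
    ((Ideal.span {f}).minimalPrimes.ncard : ℕ∞) ≤
      Module.length R (R ⧸ Ideal.span (insert f (Set.range g))) := by
  classical
  set I : Ideal R := Ideal.span {f} with hI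
  set π := Ideal.Quotient.mk I with hπ
  have hπs : Function.Surjective π := Ideal.Quotient.mk_surjective
  have hIm : I ≤ maximalIdeal R := (Ideal.span_singleton_le_iff_mem _).2 hfm
  have hne : I ≠ ⊤ := fun h => (maximalIdeal.isMaximal R).ne_top (top_le_iff.1 (h ▸ hIm))
  haveI : Nontrivial (R ⧸ I) := Ideal.Quotient.nontrivial_iff.mpr hne
  haveI : IsLocalRing (R ⧸ I) := IsLocalRing.of_surjective' π hπs
  set g' : Fin (d - 1) → R ⧸ I := fun i => π (g i) with hg'
  -- dimension of the quotient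
  have hnzd : f ∈ nonZeroDivisors R := mem_nonZeroDivisors_of_ne_zero hf0
  have hle1 : ringKrullDim (R ⧸ I) + 1 ≤ ringKrullDim R :=
    ringKrullDim_quotient_succ_le_of_nonZeroDivisor hnzd
  obtain ⟨⟨P, hPmin⟩⟩ := Ideal.nonempty_minimalPrimes hne
  have hPdata := (mem_minimalPrimes_span_iff f hf0 P).1 hPmin
  have hge : ((d - 1 : ℕ) : WithBot ℕ∞) ≤ ringKrullDim (R ⧸ I) := by
    rw [← hequi P hPdata.1 hPdata.2.1]
    exact ringKrullDim_le_of_surjective (Ideal.Quotient.factor hPmin.1.2)
      (Ideal.Quotient.factor_surjective _)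
  have hdim : ringKrullDim (R ⧸ I) = ((d - 1 : ℕ) : WithBot ℕ∞) := by
    rw [hd] at hle1
    have hnb : ringKrullDim (R ⧸ I) ≠ ⊥ := by
      intro h
      rw [h] at hge
      exact absurd hge (by simp)
    obtain ⟨n, hn⟩ := WithBot.ne_bot_iff_exists.1 hnb
    rw [← hn] at hle1 hge ⊢
    have h1 : n + 1 ≤ (d : ℕ∞) := by exact_mod_cast hle1
    have h2 : ((d - 1 : ℕ) : ℕ∞) ≤ n := by
      have h3 := hge
      rwa [show ((d - 1 : ℕ) : WithBot ℕ∞) = (((d - 1 : ℕ) : ℕ∞) : WithBot ℕ∞) from rfl,
        WithBot.coe_le_coe] at h3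
    have hnt : n ≠ ⊤ := by
      intro h
      rw [h] at h1
      simp at h1
    obtain ⟨m, rfl⟩ := ENat.ne_top_iff_exists.1 hnt
    have h1' : m + 1 ≤ d := by exact_mod_cast h1
    have h2' : d - 1 ≤ m := by exact_mod_cast h2
    have : m = d - 1 := by omega
    rw [this]
    rfl
  -- the images of the `g i` form a system of parameters
  have hmapmax : ∀ x : R, x ∈ maximalIdeal R → π x ∈ maximalIdeal (R ⧸ I) := by
    intro x hx
    rw [mem_maximalIdeal, mem_nonunits_iff]
    intro hu
    obtain ⟨c, hc⟩ := hu.exists_left_inv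
    obtain ⟨c, rfl⟩ := hπs c
    have h1 : π (c * x - 1) = 0 := by
      rw [map_sub, map_mul, map_one, hc, sub_self]
    rw [Ideal.Quotient.eq_zero_iff_mem] at h1
    have h2 : c * x - 1 ∈ maximalIdeal R := hIm h1
    have h3 : (1 : R) ∈ maximalIdeal R := by
      have : (1 : R) = c * x - (c * x - 1) := by ring
      rw [this]
      exact sub_mem (Ideal.mul_mem_left _ _ hx) h2
    exact (maximalIdeal.isMaximal R).ne_top ((Ideal.eq_top_iff_one _).2 h3)
  have hmax : ∀ x : R, π x ∈ maximalIdeal (R ⧸ I) → x ∈ maximalIdeal R := by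
    intro x hx
    rw [mem_maximalIdeal, mem_nonunits_iff] at hx ⊢
    exact fun hu => hx (hu.map π)
  have hg'm : ∀ i, g' i ∈ maximalIdeal (R ⧸ I) := fun i => hmapmax _ (hg i)
  have hmapspan : (Ideal.span (insert f (Set.range g))).map π = Ideal.span (Set.range g') := by
    rw [Ideal.map_span, Set.image_insert_eq]
    have h0 : π f = 0 := by
      rw [Ideal.Quotient.eq_zero_iff_mem]
      exact Ideal.mem_span_singleton_self f
    rw [h0, Ideal.span_insert_zero, ← Set.range_comp]
    rfl
  have hsop : maximalIdeal (R ⧸ I) ≤ (Ideal.span (Set.range g')).radical := by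
    intro y hy
    obtain ⟨x, rfl⟩ := hπs y
    obtain ⟨n, hn⟩ := hrad (hmax x hy)
    refine ⟨n, ?_⟩
    rw [← hmapspan, ← map_pow]
    exact Ideal.mem_map_of_mem _ hn
  have key := Groth.Agent.HS9.card_top_primes_le (R ⧸ I) (d - 1) hdim g' hg'm hsop
  -- all minimal primes of the quotient are top-dimensional
  have hset : {p : Ideal (R ⧸ I) | p ∈ minimalPrimes (R ⧸ I) ∧
      ringKrullDim ((R ⧸ I) ⧸ p) = ((d - 1 : ℕ) : WithBot ℕ∞)} = minimalPrimes (R ⧸ I) := by
    ext p
    simp only [Set.mem_setOf_eq, and_iff_left_iff_imp]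
    intro hp
    have hPmem : p.comap π ∈ I.minimalPrimes := by
      rw [Ideal.minimalPrimes_eq_comap]
      exact ⟨p, hp, rfl⟩
    have hdata := (mem_minimalPrimes_span_iff f hf0 _).1 hPmem
    have hker : RingHom.ker ((Ideal.Quotient.mk p).comp π) = p.comap π := by
      rw [← RingHom.comap_ker, Ideal.mk_ker]
    have e1 : R ⧸ RingHom.ker ((Ideal.Quotient.mk p).comp π) ≃+* (R ⧸ I) ⧸ p :=
      RingHom.quotientKerEquivOfSurjective (f := (Ideal.Quotient.mk p).comp π)
        (Ideal.Quotient.mk_surjective.comp hπs)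
    have e2 : R ⧸ p.comap π ≃+* (R ⧸ I) ⧸ p := (Ideal.quotEquivOfEq hker.symm).trans e1
    rw [← ringKrullDim_eq_of_ringEquiv e2]
    exact hequi _ hdata.1 hdata.2.1
  rw [hset] at key
  have hcard : I.minimalPrimes.ncard = (minimalPrimes (R ⧸ I)).ncard := by
    rw [Ideal.minimalPrimes_eq_comap]
    exact Set.ncard_image_of_injective _ (Ideal.comap_injective_of_surjective π hπs)
  rw [hcard]
  refine le_trans key ?_
  -- compare the lengths
  rw [← Module.length_eq_of_surjective (S := R) (R := R ⧸ I)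
    (M := (R ⧸ I) ⧸ Ideal.span (Set.range g')) hπs]
  set 𝔞 : Ideal R := Ideal.span (insert f (Set.range g)) with h𝔞
  let φ : R →ₗ[R] (R ⧸ I) ⧸ Ideal.span (Set.range g') :=
    Algebra.linearMap R ((R ⧸ I) ⧸ Ideal.span (Set.range g'))
  have hφ : ∀ x : R, φ x = Ideal.Quotient.mk (Ideal.span (Set.range g')) (π x) := fun x => rfl
  have hφs : Function.Surjective φ := by
    intro y
    obtain ⟨y, rfl⟩ := Ideal.Quotient.mk_surjective y
    obtain ⟨x, rfl⟩ := hπs y
    exact ⟨x, hφ x⟩
  have hker : (𝔞 : Submodule R R) ≤ LinearMap.ker φ := by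
    intro x hx
    rw [LinearMap.mem_ker, hφ, Ideal.Quotient.eq_zero_iff_mem, ← hmapspan]
    exact Ideal.mem_map_of_mem _ hx
  have hsurj : Function.Surjective (Submodule.liftQ (𝔞 : Submodule R R) φ hker) := by
    rw [← LinearMap.range_eq_top, Submodule.range_liftQ, LinearMap.range_eq_top]
    exact hφs
  exact Module.length_le_of_surjective _ hsurj

end Groth.Agent.Lib.PrincRadH3
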