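import Mathlib
import Groth.Agent.Lib.SopPow_helper8

/-! Systems of parameters: stability under perturbation by elements of a high power of `m`. -/

open Ideal IsLocalRing Module
open scoped Pointwise

namespace SopPowH8

variable {R : Type*} [CommRing R] [IsNoetherianRing R] [IsLocalRing R]

theorem exists_sop' (d : ℕ) (hd : ringKrullDim R = d) (f : R)
    (hf : f ∈ maximalIdeal R) (hmin : ∀ p ∈ minimalPrimes R, f ∉ p) (k : ℕ) :
    ∃ g : Fin (d - 1) → R, (∀ i, g i ∈ maximalIdeal R ^ k) ∧ (∀ i, g i ∈ maximalIdeal R) ∧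
      maximalIdeal R ≤ (Ideal.span (insert f (Set.range g))).radical := by
  classical
  set k' := max k 1 with hk'
  have hk'1 : 1 ≤ k' := le_max_right _ _
  have hk'k : k ≤ k' := le_max_left _ _
  set π := Ideal.Quotient.mk (span {f}) with hπ
  have hπs : Function.Surjective π := Ideal.Quotient.mk_surjective
  have hne : span {f} ≠ ⊤ := by
    intro h
    have : (1 : R) ∈ maximalIdeal R := by
      have h1 : (1 : R) ∈ span {f} := by rw [h]; trivial
      exact (Ideal.span_le.mpr (by simpa using hf)) h1
    exact (maximalIdeal.isMaximal R).ne_top ((Ideal.eq_top_iff_one _).mpr this)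
  haveI : Nontrivial (R ⧸ span {f}) := Ideal.Quotient.nontrivial_iff.mpr hne
  haveI : IsLocalRing (R ⧸ span {f}) := IsLocalRing.of_surjective' π hπs
  set mb := maximalIdeal (R ⧸ span {f}) with hmb
  -- dimension of the quotient
  have hdim := dim_quot_succ_le hmin
  rw [hd, ← maximalIdeal_height_eq_ringKrullDim] at hdim
  have hfin : mb.height ≠ ⊤ := Ideal.height_ne_top_of_isPrime
  set e := mb.height.toNat with he
  have hee : (e : ℕ∞) = mb.height := ENat.coe_toNat hfin
  have hed : e + 1 ≤ d := by
    rw [← hee] at hdim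
    exact_mod_cast hdim
  -- the ideal
  set I : Ideal (R ⧸ span {f}) := (maximalIdeal R ^ k').map π with hI
  have hprime : ∀ P : Ideal (R ⧸ span {f}), P.IsPrime → I ≤ P → P = mb := by
    intro P hP hIP
    have h1 : maximalIdeal R ^ k' ≤ P.comap π := Ideal.map_le_iff_le_comap.mp hIP
    have h2 : maximalIdeal R ≤ P.comap π := (Ideal.IsPrime.pow_le_iff (by omega)).mp h1
    have h3 : P.comap π = maximalIdeal R :=
      ((maximalIdeal.isMaximal R).eq_of_le (Ideal.IsPrime.ne_top inferInstance) h2).symm
    have h4 : P = (maximalIdeal R).map π := by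
      rw [← h3, Ideal.map_comap_of_surjective π hπs]
    have h5 : P.IsMaximal := by
      rcases Ideal.map_eq_top_or_isMaximal_of_surjective π hπs (maximalIdeal.isMaximal R) with h | h
      · exact absurd (h4.trans h) hP.ne_top
      · rw [h4]; exact h
    exact IsLocalRing.eq_maximalIdeal h5
  have hIh : (e : ℕ∞) ≤ I.height := by
    rw [Ideal.height_eq_inf_minimalPrimes]
    refine le_iInf₂ fun P hP => ?_
    rw [hprime P hP.1.1 hP.1.2, hee]
  obtain ⟨J, hJI, hJr, hJh⟩ := exists_spanRank_le_and_le_height_of_le_height I e hIh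
  have hJfg : J.FG := IsNoetherian.noetherian J
  obtain ⟨s, hsc, hsJ⟩ := Submodule.FG.exists_span_finset_card_eq_spanFinrank hJfg
  have hsc' : s.card ≤ e := by
    rw [hsc]; exact (Submodule.FG.spanRank_le_iff hJfg e).mp hJr
  -- lifts
  have hlift : ∀ y ∈ s, ∃ x ∈ maximalIdeal R ^ k', π x = y := by
    intro y hy
    have : y ∈ I := hJI (hsJ ▸ Submodule.subset_span hy)
    exact (Ideal.mem_map_iff_of_surjective π hπs).mp this
  choose! lift hlift1 hlift2 using hlift
  let en : Fin s.card ≃ s := s.equivFin.symm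
  let g : Fin (d - 1) → R := fun i =>
    if h : i.1 < s.card then lift (en ⟨i.1, h⟩ : R ⧸ span {f}) else 0
  have hgmem : ∀ i, g i ∈ maximalIdeal R ^ k' := by
    intro i
    simp only [g]
    split_ifs with h
    · exact hlift1 _ (en ⟨i.1, h⟩).2
    · exact Ideal.zero_mem _
  refine ⟨g, fun i => Ideal.pow_le_pow_right hk'k (hgmem i),
    fun i => Ideal.pow_le_self (by omega) (hgmem i), ?_⟩
  rw [Ideal.radical_eq_sInf]
  refine le_sInf ?_
  rintro P ⟨hQP, hP⟩
  have hfP : span {f} ≤ P := by
    rw [Ideal.span_le]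
    simpa using hQP (Ideal.subset_span (Set.mem_insert _ _))
  have hker : RingHom.ker π ≤ P := by rwa [hπ, Ideal.mk_ker]
  haveI : (P.map π).IsPrime := Ideal.map_isPrime_of_surjective hπs hker
  have hcomap : (P.map π).comap π = P :=
    (Ideal.comap_map_of_surjective' π hπs P).trans (sup_eq_left.mpr hker)
  have hJP : J ≤ P.map π := by
    rw [← hsJ, Submodule.span_le]
    intro y hy
    obtain ⟨j, hj⟩ := en.surjective ⟨y, hy⟩
    have hjd : j.1 < d - 1 := by have := j.2; omega
    have hg : g ⟨j.1, hjd⟩ = lift y := by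
      simp only [g]
      rw [dif_pos j.2]
      have : (en ⟨j.1, j.2⟩ : R ⧸ span {f}) = y := by
        have := congrArg Subtype.val hj
        simpa using this
      rw [this]
    have : g ⟨j.1, hjd⟩ ∈ P := hQP (Ideal.subset_span (Set.mem_insert_of_mem _ ⟨_, rfl⟩))
    rw [hg] at this
    rw [← hlift2 y hy]
    exact Ideal.mem_map_of_mem π this
  have hle : P.map π ≤ mb := IsLocalRing.le_maximalIdeal (Ideal.IsPrime.ne_top inferInstance)
  have heq : P.map π = mb := by
    refine Ideal.eq_of_le_of_height_le (I := P.map π) hle ?_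
    rw [← hee]
    exact hJh.trans (Ideal.height_mono hJP)
  have hPm : P = maximalIdeal R := by
    rw [← hcomap, heq]
    have : (mb.comap π).IsMaximal := Ideal.comap_isMaximal_of_surjective π hπs
    exact IsLocalRing.eq_maximalIdeal this
  rw [hPm]


theorem exists_sop_stable (d : ℕ) (hd : ringKrullDim R = d) (f : R)
    (hf : f ∈ maximalIdeal R) (hmin : ∀ p ∈ minimalPrimes R, f ∉ p) :
    ∃ (g : Fin (d - 1) → R) (N : ℕ), (∀ i, g i ∈ maximalIdeal R) ∧
      maximalIdeal R ≤ (Ideal.span (insert f (Set.range g))).radical ∧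
      ∀ h ∈ maximalIdeal R ^ N,
        Ideal.span (insert (f + h) (Set.range g)) = Ideal.span (insert f (Set.range g)) := by
  obtain ⟨g, -, hgm, hrad⟩ := exists_sop' d hd f hf hmin 1
  set Q := Ideal.span (insert f (Set.range g)) with hQ
  obtain ⟨N, hN⟩ := Ideal.exists_pow_le_of_le_radical_of_fg hrad
    (IsNoetherian.noetherian (maximalIdeal R))
  refine ⟨g, N + 1, hgm, hrad, fun h hh => ?_⟩
  have hpow : maximalIdeal R ^ (N + 1) ≤ maximalIdeal R * Q := by
    rw [pow_succ']
    exact Ideal.mul_mono_right hN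
  have hhQ : h ∈ maximalIdeal R * Q := hpow hh
  have hhQ' : h ∈ Q := (Ideal.mul_le_right : maximalIdeal R * Q ≤ Q) hhQ
  apply le_antisymm
  · rw [Ideal.span_le]
    intro x hx
    rcases hx with hx | hx
    · rw [hx]; exact Q.add_mem (Ideal.subset_span (Set.mem_insert _ _)) hhQ'
    · exact Ideal.subset_span (Set.mem_insert_of_mem _ hx)
  · have hle : Q ≤ Ideal.span (insert (f + h) (Set.range g)) ⊔ maximalIdeal R • Q := by
      rw [hQ, Ideal.span_le]
      intro x hx
      rcases hx with hx | hx
      · have h1 : f + h ∈ Ideal.span (insert (f + h) (Set.range g)) ⊔ maximalIdeal R • Q :=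
          Submodule.mem_sup_left (Ideal.subset_span (Set.mem_insert _ _))
        have h2 : h ∈ Ideal.span (insert (f + h) (Set.range g)) ⊔ maximalIdeal R • Q :=
          Submodule.mem_sup_right hhQ
        have h3 := Submodule.sub_mem _ h1 h2
        rw [add_sub_cancel_right] at h3
        rw [hx]; exact h3
      · exact Submodule.mem_sup_left (Ideal.subset_span (Set.mem_insert_of_mem _ hx))
    exact Submodule.le_of_le_smul_of_le_jacobson_bot (IsNoetherian.noetherian Q)
      (IsLocalRing.maximalIdeal_le_jacobson ⊥) hle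

end SopPowH8
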