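import Mathlib
import Groth.Agent.Lib.PrincRad2_helper3
import Groth.Agent.Lib.SopPow2_helper8

/-!
# Principal radical ideals in Noetherian normal local domains (helper3)

`main`: in a Noetherian normal local domain of dimension `d` all of whose height one primes have
coheight `d - 1`, every nonzero radical ideal contains a nonzero `f` with `R/fR` reduced.
-/

set_option autoImplicit false
universe u
open IsLocalRing

namespace Groth.Agent.Lib.PrincRadH3

section Aux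

/-- a parameter ideal `(f', g_1, …, g_{d-1})` cannot equal `(c f', g_1, …, g_{d-1})` with `c ∈ m` -/
theorem false_of_mul_mem {R : Type u} [CommRing R] [IsNoetherianRing R] [IsLocalRing R] (d : ℕ)
    (hd : ringKrullDim R = d) (hd1 : 1 ≤ d) (g : Fin (d - 1) → R)
    (hg : ∀ i, g i ∈ maximalIdeal R) (f' c : R) (hc : c ∈ maximalIdeal R)
    (hrad : maximalIdeal R ≤ (Ideal.span (insert f' (Set.range g))).radical)
    (hspan : Ideal.span (insert (f' * c) (Set.range g)) = Ideal.span (insert f' (Set.range g))) :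
    False := by
  set 𝔞 := Ideal.span (insert f' (Set.range g)) with h𝔞
  set 𝔟 := Ideal.span (Set.range g) with h𝔟
  have h1 : Ideal.span (insert (f' * c) (Set.range g)) ≤ 𝔟 ⊔ maximalIdeal R • 𝔞 := by
    rw [Ideal.span_le]
    rintro x (rfl | hx)
    · apply Ideal.mem_sup_right
      rw [smul_eq_mul, mul_comm f' c]
      exact Ideal.mul_mem_mul hc (Ideal.subset_span (Set.mem_insert _ _))
    · exact Ideal.mem_sup_left (Ideal.subset_span hx)
  rw [hspan] at h1
  have hle : 𝔞 ≤ 𝔟 :=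
    Submodule.le_of_le_smul_of_le_jacobson_bot (IsNoetherian.noetherian 𝔞)
      (IsLocalRing.maximalIdeal_le_jacobson ⊥) h1
  have h𝔟m : 𝔟 ≤ maximalIdeal R := Ideal.span_le.2 (by rintro x ⟨i, rfl⟩; exact hg i)
  have hmin : maximalIdeal R ∈ 𝔟.minimalPrimes := by
    refine ⟨⟨inferInstance, h𝔟m⟩, ?_⟩
    rintro q ⟨hq, hqb⟩ _
    exact le_trans hrad (hq.radical_le_iff.2 (le_trans hle hqb))
  have h2 : (maximalIdeal R).height ≤ (Set.range g).ncard :=
    Ideal.height_le_card_of_mem_minimalPrimes_span (Set.finite_range g) hmin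
  have h3 : (Set.range g).ncard ≤ d - 1 := by
    rw [← Set.image_univ]
    refine le_trans (Set.ncard_image_le Set.finite_univ) ?_
    rw [Set.ncard_univ, Nat.card_fin]
  have h4 : ((maximalIdeal R).height : WithBot ℕ∞) = (d : WithBot ℕ∞) := by
    rw [IsLocalRing.maximalIdeal_height_eq_ringKrullDim, hd]
  have h5 : (maximalIdeal R).height = (d : ℕ∞) := by
    have : ((maximalIdeal R).height : WithBot ℕ∞) = ((d : ℕ∞) : WithBot ℕ∞) := h4
    exact WithBot.coe_injective this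
  rw [h5] at h2
  have h6 : d ≤ (Set.range g).ncard := by exact_mod_cast h2
  omega

variable {R : Type u} [CommRing R] [IsDomain R] [IsNoetherianRing R] [IsIntegrallyClosed R]

/-- for a radical ideal `J` and a height one prime `P` there is `y ∉ P` with `y P ⊆ J` -/
theorem exists_mul_mem_of_isRadical (J : Ideal R) (hJ : J.IsRadical) (hJ0 : J ≠ ⊥) (P : Ideal R)
    [hP : P.IsPrime] (h1 : P.height = 1) : ∃ y, y ∉ P ∧ ∀ π ∈ P, y * π ∈ J := by
  classical
  have hfin := Ideal.finite_minimalPrimes_of_isNoetherianRing R J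
  set T := hfin.toFinset.erase P with hT
  have hnot : ¬ (T.inf id ≤ P) := by
    rw [Ideal.IsPrime.inf_le' hP]
    rintro ⟨Q, hQT, hQP⟩
    rw [hT, Finset.mem_erase, Set.Finite.mem_toFinset] at hQT
    obtain ⟨hQne, hQmin⟩ := hQT
    have hQ0 : Q ≠ ⊥ := fun h => hJ0 (le_bot_iff.1 (h ▸ hQmin.1.2))
    exact hQne (eq_of_le_of_height_one hQmin.1.1 hP h1 hQ0 hQP)
  obtain ⟨y, hyT, hyP⟩ := SetLike.not_le_iff_exists.1 hnot
  refine ⟨y, hyP, fun π hπ => ?_⟩
  rw [← hJ.radical, ← Ideal.sInf_minimalPrimes, Ideal.mem_sInf]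
  intro Q hQ
  by_cases hQP : Q = P
  · rw [hQP]
    exact Ideal.mul_mem_left _ _ hπ
  · have hQT : Q ∈ T := by
      rw [hT, Finset.mem_erase, Set.Finite.mem_toFinset]
      exact ⟨hQP, hQ⟩
    have hyQ : y ∈ Q := (Finset.inf_le (f := id) hQT) hyT
    exact Ideal.mul_mem_right _ _ hyQ

end Aux

section Main

variable (R : Type u) [CommRing R] [IsDomain R] [IsNoetherianRing R] [IsLocalRing R]
  [IsIntegrallyClosed R]

/-- the one-dimensional case -/
theorem main_dim_one (J : Ideal R) (hJ : J.IsRadical) (hJ0 : J ≠ ⊥)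
    (hm1 : (maximalIdeal R).height = 1) :
    ∃ f ∈ J, f ≠ 0 ∧ IsReduced (R ⧸ Ideal.span {f}) := by
  obtain ⟨π, hπm, hπ⟩ := exists_vv_eq_one (maximalIdeal R) hm1
  obtain ⟨y, hym, hy⟩ := exists_mul_mem_of_isRadical J hJ hJ0 (maximalIdeal R) hm1
  have hyu : IsUnit y := by
    by_contra h
    exact hym ((mem_maximalIdeal y).2 h)
  have hπJ : π ∈ J := by
    have h1 := hy π hπm
    have h2 := J.mul_mem_left (↑hyu.unit⁻¹ : R) h1
    rwa [← mul_assoc, IsUnit.val_inv_mul, one_mul] at h2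
  have hπ0 : π ≠ 0 := by
    intro h
    rw [h, vv_zero _ hm1] at hπ
    exact absurd hπ (by simp)
  refine ⟨π, hπJ, hπ0, ?_⟩
  apply isReduced_of_vv_eq_one π hπ0
  intro P hP h1 hπP
  have hPm : P = maximalIdeal R :=
    eq_of_le_of_height_one hP inferInstance hm1 (ne_bot_of_height_one h1)
      (IsLocalRing.le_maximalIdeal hP.ne_top)
  rw [hPm]
  exact hπ

/-- the case of dimension different from one: perturbation argument -/
theorem main_aux (d : ℕ) (hd : ringKrullDim R = d)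
    (hequi : ∀ P : Ideal R, P.IsPrime → P.height = 1 →
      ringKrullDim (R ⧸ P) = ((d - 1 : ℕ) : WithBot ℕ∞))
    (J : Ideal R) (hJ : J.IsRadical) (hJ0 : J ≠ ⊥) (hJm : J ≤ maximalIdeal R)
    (hm1 : (maximalIdeal R).height ≠ 1) :
    ∃ f ∈ J, f ≠ 0 ∧ IsReduced (R ⧸ Ideal.span {f}) := by
  classical
  obtain ⟨f₀, hf₀J, hf₀0⟩ := Submodule.exists_mem_ne_zero_of_ne_bot hJ0
  have hf₀m : f₀ ∈ maximalIdeal R := hJm hf₀J
  have hmin : ∀ p ∈ minimalPrimes R, f₀ ∉ p := by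
    intro p hp
    rw [IsDomain.minimalPrimes_eq_singleton_bot, Set.mem_singleton_iff] at hp
    rw [hp, Ideal.mem_bot]
    exact hf₀0
  obtain ⟨g, N, hgm, hrad, hstab⟩ := SopPowH8.exists_sop_stable d hd f₀ hf₀m hmin
  set 𝔞 := Ideal.span (insert f₀ (Set.range g)) with h𝔞
  have hd1 : 1 ≤ d := by
    by_contra hlt
    have hd0 : d = 0 := by omega
    have h4 : ((maximalIdeal R).height : WithBot ℕ∞) = ((0 : ℕ∞) : WithBot ℕ∞) := by
      rw [IsLocalRing.maximalIdeal_height_eq_ringKrullDim, hd, hd0]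
      rfl
    have h5 : (maximalIdeal R).height = 0 := WithBot.coe_injective h4
    rw [Ideal.height_eq_zero_iff_eq_bot] at h5
    rw [h5, Ideal.mem_bot] at hf₀m
    exact hf₀0 hf₀m
  -- the family of perturbations
  let F : Set R := {f | f ≠ 0 ∧ f - f₀ ∈ maximalIdeal R ^ N ⊓ J}
  have hF₀ : f₀ ∈ F := ⟨hf₀0, by rw [sub_self]; exact zero_mem _⟩
  have hFJ : ∀ f ∈ F, f ∈ J := fun f hf => by
    have := J.add_mem hf.2.2 hf₀J
    rwa [sub_add_cancel] at this
  have hFspan : ∀ f ∈ F, Ideal.span (insert f (Set.range g)) = 𝔞 := fun f hf => by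
    have := hstab (f - f₀) hf.2.1
    rwa [add_sub_cancel] at this
  -- the length bound
  have hlen : Module.length R (R ⧸ 𝔞) ≠ ⊤ := by
    have h𝔞m : 𝔞 ≤ maximalIdeal R := Ideal.span_le.2 (by
      rintro x (rfl | ⟨i, rfl⟩)
      · exact hf₀m
      · exact hgm i)
    haveI : IsArtinianRing (R ⧸ 𝔞) := by
      apply IsLocalRing.quotient_artinian_of_mem_minimalPrimes_of_isLocalRing
      refine ⟨⟨inferInstance, h𝔞m⟩, ?_⟩
      rintro q ⟨hq, hqa⟩ _
      exact le_trans hrad (hq.radical_le_iff.2 hqa)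
    rw [Module.length_eq_of_surjective (S := R) (R := R ⧸ 𝔞) (M := R ⧸ 𝔞)
      Ideal.Quotient.mk_surjective]
    exact Module.length_ne_top
  obtain ⟨L, hL⟩ := ENat.ne_top_iff_exists.1 hlen
  have hbound : ∀ f ∈ F, (Ideal.span {f}).minimalPrimes.ncard ≤ L := fun f hf => by
    have h1 := ncard_minimalPrimes_le d hd hequi f hf.1 (hJm (hFJ f hf)) g hgm
      (by rw [hFspan f hf]; exact hrad)
    rw [hFspan f hf, ← hL] at h1
    exact_mod_cast h1
  obtain ⟨f, hfF, hfmax⟩ : ∃ f ∈ F, ∀ f' ∈ F,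
      (Ideal.span {f'}).minimalPrimes.ncard ≤ (Ideal.span {f}).minimalPrimes.ncard := by
    let S : Set ℕ := (fun f : R => (Ideal.span {f}).minimalPrimes.ncard) '' F
    have hSne : S.Nonempty := ⟨_, f₀, hF₀, rfl⟩
    have hSbdd : BddAbove S := ⟨L, by rintro _ ⟨f, hf, rfl⟩; exact hbound f hf⟩
    obtain ⟨f, hf, hfe⟩ := Nat.sSup_mem hSne hSbdd
    exact ⟨f, hf, fun f' hf' => by
      show (fun f : R => (Ideal.span {f}).minimalPrimes.ncard) f' ≤
        (fun f : R => (Ideal.span {f}).minimalPrimes.ncard) f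
      rw [hfe]
      exact le_csSup hSbdd ⟨f', hf', rfl⟩⟩
  have hf0 : f ≠ 0 := hfF.1
  refine ⟨f, hFJ f hfF, hf0, ?_⟩
  apply isReduced_of_vv_eq_one f hf0
  intro P₁ hP₁ h1 hfP₁
  by_contra hne1
  haveI := hP₁
  have hge1 : 1 ≤ vv P₁ f := (one_le_vv_iff P₁ h1 f).2 hfP₁
  have hnt : vv P₁ f ≠ ⊤ := fun h => hf0 ((vv_eq_top_iff P₁ h1 f).1 h)
  obtain ⟨a, ha⟩ := ENat.ne_top_iff_exists.1 hnt
  have ha2 : 2 ≤ a := by
    rw [← ha] at hge1 hne1
    have h3 : 1 ≤ a := by exact_mod_cast hge1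
    have h4 : a ≠ 1 := by
      intro h
      apply hne1
      rw [h]
      rfl
    omega
  -- ingredients of the perturbation
  obtain ⟨x₁, hx₁P, hx₁⟩ := exists_vv_eq_one P₁ h1
  obtain ⟨yJ, hyJP, hyJ⟩ := exists_mul_mem_of_isRadical J hJ hJ0 P₁ h1
  have hfin := Ideal.finite_minimalPrimes_of_isNoetherianRing R (Ideal.span {f})
  set T := hfin.toFinset.erase P₁ with hT
  have hTmem : ∀ Q, Q ∈ T ↔ Q ≠ P₁ ∧ Q.IsPrime ∧ Q.height = 1 ∧ f ∈ Q := by
    intro Q
    rw [hT, Finset.mem_erase, Set.Finite.mem_toFinset, mem_minimalPrimes_span_iff f hf0]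
  have hY : ¬ (maximalIdeal R ^ N ⊓ T.inf (fun P => vIdeal P ((vv P f).toNat + 1)) ≤ P₁) := by
    rw [Ideal.IsPrime.inf_le hP₁]
    rintro (h | h)
    · have hmP : maximalIdeal R ≤ P₁ := fun x hx =>
        hP₁.mem_of_pow_mem N (h (Ideal.pow_mem_pow hx N))
      have : P₁ = maximalIdeal R :=
        le_antisymm (IsLocalRing.le_maximalIdeal hP₁.ne_top) hmP
      exact hm1 (this ▸ h1)
    · rw [Ideal.IsPrime.inf_le' hP₁] at h
      obtain ⟨Q, hQT, hQle⟩ := h
      obtain ⟨hQne, hQp, hQ1, -⟩ := (hTmem Q).1 hQT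
      haveI := hQp
      exact vIdeal_not_le Q hQ1 P₁ h1 hQne _ hQle
  obtain ⟨y, hyY, hyP⟩ := SetLike.not_le_iff_exists.1 hY
  obtain ⟨hyN, hyT⟩ := Ideal.mem_inf.1 hyY
  set h := yJ * y * x₁ ^ (a - 1) with hh
  have hxpow : x₁ ^ (a - 1) ∈ P₁ := Ideal.pow_mem_of_mem P₁ hx₁P (a - 1) (by omega)
  have hhJ : h ∈ J := by
    have h2 : h = y * (yJ * x₁ ^ (a - 1)) := by rw [hh]; ring
    rw [h2]
    exact Ideal.mul_mem_left _ _ (hyJ _ hxpow)
  have hhN : h ∈ maximalIdeal R ^ N := by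
    have h2 : h = (yJ * x₁ ^ (a - 1)) * y := by rw [hh]; ring
    rw [h2]
    exact Ideal.mul_mem_left _ _ hyN
  have hhP₁ : vv P₁ h = ((a - 1 : ℕ) : ℕ∞) := by
    rw [hh, vv_mul P₁ h1, vv_mul P₁ h1, vv_pow P₁ h1, hx₁, (vv_eq_zero_iff P₁ h1 yJ).2 hyJP,
      (vv_eq_zero_iff P₁ h1 y).2 hyP]
    simp
  have hhQ : ∀ Q ∈ T, vv Q f + 1 ≤ vv Q h := by
    intro Q hQT
    obtain ⟨hQne, hQp, hQ1, hfQ⟩ := (hTmem Q).1 hQT
    haveI := hQp
    have h2 : y ∈ vIdeal Q ((vv Q f).toNat + 1) := by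
      have h3 := Finset.inf_le (f := fun P => vIdeal P ((vv P f).toNat + 1)) hQT
      exact h3 hyT
    rw [mem_vIdeal Q hQ1] at h2
    have hQnt : vv Q f ≠ ⊤ := fun h => hf0 ((vv_eq_top_iff Q hQ1 f).1 h)
    have h4 : (((vv Q f).toNat + 1 : ℕ) : ℕ∞) = vv Q f + 1 := by
      push_cast
      rw [ENat.coe_toNat hQnt]
    rw [h4] at h2
    refine le_trans h2 ?_
    rw [hh, vv_mul Q hQ1, vv_mul Q hQ1]
    calc vv Q y ≤ vv Q yJ + vv Q y := le_add_self
      _ ≤ vv Q yJ + vv Q y + vv Q (x₁ ^ (a - 1)) := le_self_add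
  set f' := f + h with hf'
  have hf'P₁ : vv P₁ f' = ((a - 1 : ℕ) : ℕ∞) := by
    have hlt : vv P₁ h < vv P₁ f := by
      rw [hhP₁, ← ha]
      exact_mod_cast (by omega : a - 1 < a)
    rw [hf', add_comm, vv_add_eq_of_lt P₁ h1 hlt, hhP₁]
  have hf'0 : f' ≠ 0 := by
    intro h0
    rw [h0, vv_zero P₁ h1] at hf'P₁
    exact ENat.top_ne_coe _ hf'P₁
  have hf'F : f' ∈ F := by
    refine ⟨hf'0, ?_⟩
    have h2 : f' - f₀ = (f - f₀) + h := by rw [hf']; ring
    rw [h2]
    exact add_mem hfF.2 (Ideal.mem_inf.2 ⟨hhN, hhJ⟩)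
  have hsub : (Ideal.span {f}).minimalPrimes ⊆ (Ideal.span {f'}).minimalPrimes := by
    intro Q hQ
    rw [mem_minimalPrimes_span_iff f hf0] at hQ
    rw [mem_minimalPrimes_span_iff f' hf'0]
    obtain ⟨hQp, hQ1, hfQ⟩ := hQ
    refine ⟨hQp, hQ1, ?_⟩
    haveI := hQp
    by_cases hQP : Q = P₁
    · subst hQP
      rw [← one_le_vv_iff Q hQ1, hf'P₁]
      exact_mod_cast (by omega : 1 ≤ a - 1)
    · have hQT : Q ∈ T := (hTmem Q).2 ⟨hQP, hQp, hQ1, hfQ⟩
      have h2 : 1 ≤ vv Q h := le_trans le_add_self (hhQ Q hQT)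
      rw [hf']
      exact Q.add_mem hfQ ((one_le_vv_iff Q hQ1 h).1 h2)
  have hne : (Ideal.span {f}).minimalPrimes ≠ (Ideal.span {f'}).minimalPrimes := by
    intro heq
    have hdvd : f' ∣ f := by
      apply dvd_of_vv_le f' f hf'0
      intro P hP hP1 hf'P
      haveI := hP
      have hPmem : P ∈ (Ideal.span {f}).minimalPrimes := by
        rw [heq, mem_minimalPrimes_span_iff f' hf'0]
        exact ⟨hP, hP1, hf'P⟩
      rw [mem_minimalPrimes_span_iff f hf0] at hPmem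
      by_cases hPP : P = P₁
      · subst hPP
        rw [hf'P₁, ← ha]
        exact_mod_cast (by omega : a - 1 ≤ a)
      · have hPT : P ∈ T := (hTmem P).2 ⟨hPP, hPmem⟩
        have hPnt : vv P f ≠ ⊤ := fun h => hf0 ((vv_eq_top_iff P hP1 f).1 h)
        have hlt : vv P f < vv P h := by
          refine lt_of_lt_of_le ?_ (hhQ P hPT)
          exact ENat.lt_add_one_iff hPnt |>.2 le_rfl
        rw [hf', vv_add_eq_of_lt P hP1 hlt]
    obtain ⟨c, hc⟩ := hdvd
    have hvc : vv P₁ c = 1 := by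
      have h2 := congrArg (vv P₁) hc
      rw [vv_mul P₁ h1, hf'P₁, ← ha] at h2
      have hcnt : vv P₁ c ≠ ⊤ := by
        intro htop
        rw [htop, add_top] at h2
        exact absurd h2 (by simp)
      obtain ⟨k, hk⟩ := ENat.ne_top_iff_exists.1 hcnt
      rw [← hk] at h2 ⊢
      have h3 : a = a - 1 + k := by exact_mod_cast h2
      have : k = 1 := by omega
      rw [this]
      rfl
    have hcm : c ∈ maximalIdeal R :=
      IsLocalRing.le_maximalIdeal hP₁.ne_top ((one_le_vv_iff P₁ h1 c).1 (by rw [hvc]))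
    refine false_of_mul_mem d hd hd1 g hgm f' c hcm (by rw [hFspan f' hf'F]; exact hrad) ?_
    rw [← hc, hFspan f hfF, hFspan f' hf'F]
  have hlt : (Ideal.span {f}).minimalPrimes.ncard < (Ideal.span {f'}).minimalPrimes.ncard :=
    Set.ncard_lt_ncard (lt_of_le_of_ne hsub hne)
      (Ideal.finite_minimalPrimes_of_isNoetherianRing R _)
  exact absurd (hfmax f' hf'F) (not_le.2 hlt)

/-- every nonzero radical ideal of a Noetherian normal local domain whose height one primes all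
have coheight `d - 1` contains a nonzero element generating a radical ideal -/
theorem main (d : ℕ) (hd : ringKrullDim R = d)
    (hequi : ∀ P : Ideal R, P.IsPrime → P.height = 1 →
      ringKrullDim (R ⧸ P) = ((d - 1 : ℕ) : WithBot ℕ∞))
    (J : Ideal R) (hJ : J.IsRadical) (hJ0 : J ≠ ⊥) :
    ∃ f ∈ J, f ≠ 0 ∧ IsReduced (R ⧸ Ideal.span {f}) := by
  by_cases hJt : J = ⊤
  · refine ⟨1, by rw [hJt]; trivial, one_ne_zero, ?_⟩
    haveI : Subsingleton (R ⧸ Ideal.span {(1 : R)}) := by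
      rw [Ideal.span_singleton_one]
      exact Ideal.Quotient.subsingleton_iff.2 rfl
    infer_instance
  · have hJm : J ≤ maximalIdeal R := IsLocalRing.le_maximalIdeal hJt
    by_cases hm1 : (maximalIdeal R).height = 1
    · exact main_dim_one R J hJ hJ0 hm1
    · exact main_aux R d hd hequi J hJ hJ0 hJm hm1

end Main

end Groth.Agent.Lib.PrincRadH3
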