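import Mathlib
import Groth.Agent.Lib.PrincRad3_helper3
import Groth.Agent.Lib.Catenary_helper5

/-!
# Principal radical ideals: the catenary case and the two-dimensional case (helper3)
-/

set_option autoImplicit false
universe u
open IsLocalRing

namespace Groth.Agent.Lib.PrincRadH3

section

variable (R : Type u) [CommRing R] [IsDomain R] [IsNoetherianRing R] [IsLocalRing R]

theorem exists_dim : ∃ d : ℕ, ringKrullDim R = d := by
  have h1 : ringKrullDim R < ⊤ := ringKrullDim_lt_top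
  have h2 : ringKrullDim R ≠ ⊥ := ringKrullDim_ne_bot
  obtain ⟨n, hn⟩ := WithBot.ne_bot_iff_exists.1 h2
  have hnt : n ≠ ⊤ := by
    intro h
    rw [← hn, h] at h1
    exact lt_irrefl _ h1
  obtain ⟨m, rfl⟩ := ENat.ne_top_iff_exists.1 hnt
  exact ⟨m, hn.symm⟩

theorem coheight_bot_eq : ((Order.coheight (⟨⊥, Ideal.isPrime_bot⟩ : PrimeSpectrum R) : ℕ∞) :
    WithBot ℕ∞) = ringKrullDim R := by
  apply le_antisymm (Order.coheight_le_krullDim _)
  show Order.krullDim (PrimeSpectrum R) ≤ _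
  rw [Order.krullDim_eq_iSup_coheight]
  apply iSup_le
  intro a
  exact WithBot.coe_le_coe.2 (Order.coheight_anti
    (show (⟨⊥, Ideal.isPrime_bot⟩ : PrimeSpectrum R) ≤ a from (bot_le : (⊥ : Ideal R) ≤ a.asIdeal)))

/-- in a catenary Noetherian local domain of dimension `d` height one primes have coheight
`d - 1` -/
theorem hequi_of_catenary (hc : CAlg.IsCatenary R) (d : ℕ) (hd : ringKrullDim R = d)
    (P : Ideal R) (hP : P.IsPrime) (h1 : P.height = 1) :
    ringKrullDim (R ⧸ P) = ((d - 1 : ℕ) : WithBot ℕ∞) := by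
  haveI := hP
  have hcov : (⟨⊥, Ideal.isPrime_bot⟩ : PrimeSpectrum R) ⋖ ⟨P, hP⟩ := by
    refine ⟨?_, ?_⟩
    · show (⊥ : Ideal R) < P
      exact bot_lt_iff_ne_bot.2 (ne_bot_of_height_one h1)
    · intro q hq1 hq2
      have hq1' : (⊥ : Ideal R) < q.asIdeal := hq1
      have hq2' : q.asIdeal < P := hq2
      have hq0 : q.asIdeal ≠ ⊥ := bot_lt_iff_ne_bot.1 hq1'
      have := eq_of_le_of_height_one q.2 hP h1 hq0 (le_of_lt hq2')
      exact (ne_of_lt hq2') this
  have h2 := Groth.Agent.Hartshorne.coheight_eq_of_covBy hc _ _ hcov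
  have h3 := coheight_bot_eq R
  rw [hd, h2] at h3
  rw [Groth.Agent.Hartshorne.ringKrullDim_quotient_eq_coheight P]
  have h4 : Order.coheight (⟨P, hP⟩ : PrimeSpectrum R) + 1 = (d : ℕ∞) := by
    have : ((Order.coheight (⟨P, hP⟩ : PrimeSpectrum R) + 1 : ℕ∞) : WithBot ℕ∞) =
        ((d : ℕ∞) : WithBot ℕ∞) := h3
    exact WithBot.coe_injective this
  have hnt : Order.coheight (⟨P, hP⟩ : PrimeSpectrum R) ≠ ⊤ := by
    intro h
    rw [h] at h4
    simp at h4
  obtain ⟨k, hk⟩ := ENat.ne_top_iff_exists.1 hnt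
  rw [← hk] at h4 ⊢
  have h5 : k + 1 = d := by exact_mod_cast h4
  have : k = d - 1 := by omega
  rw [this]
  rfl

/-- in a Noetherian local domain of dimension two height one primes have coheight one -/
theorem hequi_of_dim_two (hd : ringKrullDim R = 2) (P : Ideal R) (hP : P.IsPrime)
    (h1 : P.height = 1) : ringKrullDim (R ⧸ P) = ((2 - 1 : ℕ) : WithBot ℕ∞) := by
  haveI := hP
  have hP0 : P ≠ ⊥ := ne_bot_of_height_one h1
  obtain ⟨x, hxP, hx0⟩ := Submodule.exists_mem_ne_zero_of_ne_bot hP0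
  -- upper bound
  have hle : ringKrullDim (R ⧸ P) + 1 ≤ 2 := by
    rw [← hd]
    exact ringKrullDim_succ_le_of_surjective (Ideal.Quotient.mk P) Ideal.Quotient.mk_surjective
      (mem_nonZeroDivisors_of_ne_zero hx0) (Ideal.Quotient.eq_zero_iff_mem.2 hxP)
  -- lower bound
  have hmh : (maximalIdeal R).height = 2 := by
    have h4 : ((maximalIdeal R).height : WithBot ℕ∞) = ((2 : ℕ∞) : WithBot ℕ∞) := by
      rw [IsLocalRing.maximalIdeal_height_eq_ringKrullDim, hd]
      rfl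
    exact WithBot.coe_injective h4
  have hPm : P ≠ maximalIdeal R := by
    intro h
    rw [h, hmh] at h1
    exact absurd h1 (by norm_num)
  have hlt : (⟨P, hP⟩ : PrimeSpectrum R) < ⟨maximalIdeal R, inferInstance⟩ :=
    lt_of_le_of_ne (IsLocalRing.le_maximalIdeal hP.ne_top)
      (fun h => hPm (congrArg PrimeSpectrum.asIdeal h))
  have hco := Order.coheight_add_one_le hlt
  have h1le : (1 : ℕ∞) ≤ Order.coheight (⟨P, hP⟩ : PrimeSpectrum R) := le_trans le_add_self hco
  rw [Groth.Agent.Hartshorne.ringKrullDim_quotient_eq_coheight P] at hle ⊢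
  have h5 : Order.coheight (⟨P, hP⟩ : PrimeSpectrum R) + 1 ≤ 2 := by
    have : ((Order.coheight (⟨P, hP⟩ : PrimeSpectrum R) + 1 : ℕ∞) : WithBot ℕ∞) ≤
        ((2 : ℕ∞) : WithBot ℕ∞) := hle
    exact WithBot.coe_le_coe.1 this
  have hnt : Order.coheight (⟨P, hP⟩ : PrimeSpectrum R) ≠ ⊤ := by
    intro h
    rw [h] at h5
    simp at h5
  obtain ⟨k, hk⟩ := ENat.ne_top_iff_exists.1 hnt
  rw [← hk] at h5 h1le ⊢
  have h6 : k + 1 ≤ 2 := by exact_mod_cast h5
  have h7 : 1 ≤ k := by exact_mod_cast h1le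
  have : k = 1 := by omega
  rw [this]
  rfl

variable [IsIntegrallyClosed R]

/-- catenary Noetherian normal local domains: nonzero radical ideals contain a nonzero element
generating a radical ideal -/
theorem main_catenary (hc : CAlg.IsCatenary R) (J : Ideal R) (hJ : J.IsRadical) (hJ0 : J ≠ ⊥) :
    ∃ f ∈ J, f ≠ 0 ∧ IsReduced (R ⧸ Ideal.span {f}) := by
  obtain ⟨d, hd⟩ := exists_dim R
  exact main R d hd (hequi_of_catenary R hc d hd) J hJ hJ0

/-- the two-dimensional case -/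
theorem main_dim_two (hd : ringKrullDim R = 2) (J : Ideal R) (hJ : J.IsRadical) (hJ0 : J ≠ ⊥) :
    ∃ f ∈ J, f ≠ 0 ∧ IsReduced (R ⧸ Ideal.span {f}) :=
  main R 2 hd (hequi_of_dim_two R hd) J hJ hJ0

end

end Groth.Agent.Lib.PrincRadH3
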