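import Mathlib
import Groth.Agent.Lib.PrincRad1_helper3

/-!
# Approximation at height one primes, colon ideals under flat base change, and descent of
`n`-th powers along weakly unramified flat local maps of normal domains (helper3)
-/

set_option autoImplicit false
universe u
open IsLocalRing TensorProduct

namespace Groth.Agent.Lib.PrincRadH3

section FlatColon

variable {R T : Type u} [CommRing R] [CommRing T] [Algebra R T]

/-- the colon ideal `((f) : t)` as a kernel -/
noncomputable def colonMap (t f : R) : R →ₗ[R] R ⧸ Ideal.span {f} :=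
  (Ideal.span {f}).mkQ ∘ₗ LinearMap.lsmul R R t

theorem mem_ker_colonMap (t f x : R) :
    x ∈ LinearMap.ker (colonMap t f) ↔ f ∣ t * x := by
  rw [LinearMap.mem_ker]
  show Ideal.Quotient.mk (Ideal.span {f}) (t * x) = 0 ↔ _
  rw [Ideal.Quotient.eq_zero_iff_mem, Ideal.mem_span_singleton]

theorem lid_rTensor_mem (J : Ideal R) (z : J ⊗[R] T) :
    (TensorProduct.lid R T) (J.subtype.rTensor T z) ∈ J • (⊤ : Submodule R T) := by
  induction z using TensorProduct.induction_on with
  | zero => simp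
  | tmul j x =>
    simp only [LinearMap.rTensor_tmul, Submodule.coe_subtype, TensorProduct.lid_tmul]
    exact Submodule.smul_mem_smul j.2 trivial
  | add x y hx hy =>
    simp only [map_add]
    exact add_mem hx hy

/-- flat base change of a colon ideal: if `f ∣ t x` in `T` then `x ∈ ((f) : t) T` -/
theorem mem_map_ker_colonMap [Module.Flat R T] (t f : R) (x : T)
    (hx : algebraMap R T f ∣ algebraMap R T t * x) :
    x ∈ Ideal.map (algebraMap R T) (LinearMap.ker (colonMap t f)) := by
  set φ := colonMap t f with hφ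
  have hex : Function.Exact (LinearMap.ker φ).subtype φ := LinearMap.exact_subtype_ker_map φ
  have hex2 := Module.Flat.rTensor_exact T hex
  have h1 : φ.rTensor T ((1 : R) ⊗ₜ[R] x) = 0 := by
    rw [LinearMap.rTensor_tmul]
    obtain ⟨b, hb⟩ := hx
    have hφ1 : φ 1 = t • (Ideal.Quotient.mk (Ideal.span {f}) 1) := by
      rw [hφ]
      show Ideal.Quotient.mk (Ideal.span {f}) (t * 1) = _
      rw [mul_one, Algebra.smul_def, map_one, mul_one]
      rfl
    rw [hφ1, TensorProduct.smul_tmul, Algebra.smul_def, hb, ← Algebra.smul_def,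
      ← TensorProduct.smul_tmul]
    have : f • (Ideal.Quotient.mk (Ideal.span {f}) 1) = 0 := by
      rw [Algebra.smul_def, map_one, mul_one]
      exact Ideal.Quotient.eq_zero_iff_mem.2 (Ideal.mem_span_singleton_self f)
    rw [this, TensorProduct.zero_tmul]
  obtain ⟨z, hz⟩ := (hex2 _).mp h1
  have := lid_rTensor_mem (T := T) (LinearMap.ker φ) z
  rw [hz, TensorProduct.lid_tmul, one_smul, Ideal.smul_top_eq_map] at this
  exact this

end FlatColon

section Approx

variable {R : Type u} [CommRing R] [IsDomain R] [IsNoetherianRing R] [IsIntegrallyClosed R]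

/-- local divisibility: `v_P(x) ≤ v_P(y)` gives `y s = x c` with `s ∉ P` -/
theorem exists_mul_eq_mul (P : Ideal R) [hP : P.IsPrime] (h1 : P.height = 1) (x y : R)
    (h : vv P x ≤ vv P y) : ∃ s, s ∉ P ∧ ∃ c, y * s = x * c := by
  rw [vv_eq P h1, vv_eq P h1] at h
  haveI := dvr P h1
  rw [IsDiscreteValuationRing.addVal_le_iff_dvd] at h
  obtain ⟨c, hc⟩ := h
  obtain ⟨⟨r, s⟩, hrs⟩ := IsLocalization.surj P.primeCompl c
  refine ⟨s, s.2, r, ?_⟩
  apply algebraMap_injective P
  rw [map_mul, map_mul, hc, mul_assoc]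
  congr 1

theorem vv_ne_top (P : Ideal R) [hP : P.IsPrime] (h1 : P.height = 1) {x : R} (hx : x ≠ 0) :
    vv P x ≠ ⊤ := fun h => hx ((vv_eq_top_iff P h1 x).1 h)

/-- weak approximation: prescribed finite orders at finitely many height one primes -/
theorem exists_vv_eq (S : Finset (Ideal R)) (hS : ∀ p ∈ S, p.IsPrime ∧ p.height = 1)
    (m : Ideal R → ℕ) : ∃ t : R, ∀ p ∈ S, vv p t = m p := by
  classical
  have hex : ∀ p : Ideal R, ∃ tp : R, p ∈ S →
      (vv p tp = m p ∧ ∀ p' ∈ S, p' ≠ p → ((m p' + 1 : ℕ) : ℕ∞) ≤ vv p' tp) := by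
    intro p
    by_cases hp : p ∈ S
    · obtain ⟨hpp, hp1⟩ := hS p hp
      haveI := hpp
      obtain ⟨π, hπp, hπ⟩ := exists_vv_eq_one p hp1
      have hnot : ¬ ((S.erase p).inf (fun p' => vIdeal p' (m p' + 1)) ≤ p) := by
        rw [Ideal.IsPrime.inf_le' hpp]
        rintro ⟨p', hp', hle⟩
        rw [Finset.mem_erase] at hp'
        obtain ⟨hp'p, hp'1⟩ := hS p' hp'.2
        haveI := hp'p
        exact vIdeal_not_le p' hp'1 p hp1 hp'.1 _ hle
      obtain ⟨y, hyT, hyp⟩ := SetLike.not_le_iff_exists.1 hnot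
      refine ⟨π ^ (m p) * y, fun _ => ⟨?_, ?_⟩⟩
      · rw [vv_mul p hp1, vv_pow p hp1, hπ, (vv_eq_zero_iff p hp1 y).2 hyp]
        simp
      · intro p' hp' hne
        obtain ⟨hp'p, hp'1⟩ := hS p' hp'
        haveI := hp'p
        have h2 : y ∈ vIdeal p' (m p' + 1) :=
          (Finset.inf_le (f := fun p' => vIdeal p' (m p' + 1))
            (Finset.mem_erase.2 ⟨hne, hp'⟩)) hyT
        rw [mem_vIdeal p' hp'1] at h2
        rw [vv_mul p' hp'1]
        exact le_trans h2 le_add_self
    · exact ⟨0, fun h => absurd h hp⟩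
  choose tp htp using hex
  refine ⟨∑ p ∈ S, tp p, fun p hp => ?_⟩
  obtain ⟨hpp, hp1⟩ := hS p hp
  haveI := hpp
  rw [← Finset.add_sum_erase S tp hp]
  have hrest : ∑ p' ∈ S.erase p, tp p' ∈ vIdeal p (m p + 1) := by
    refine Ideal.sum_mem _ fun p' hp' => ?_
    rw [Finset.mem_erase] at hp'
    rw [mem_vIdeal p hp1]
    exact (htp p' hp'.2).2 p hp (Ne.symm hp'.1)
  rw [mem_vIdeal p hp1] at hrest
  have hlt : vv p (tp p) < vv p (∑ p' ∈ S.erase p, tp p') := by
    rw [(htp p hp).1]
    refine lt_of_lt_of_le ?_ hrest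
    exact_mod_cast Nat.lt_succ_self _
  rw [vv_add_eq_of_lt p hp1 hlt, (htp p hp).1]

end Approx

end Groth.Agent.Lib.PrincRadH3
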