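import Mathlib
import Groth.Agent.Lib.PrincRad5_helper3

/-!
# Descent of `n`-th powers along weakly unramified flat local maps of normal domains (helper3)
-/

set_option autoImplicit false
universe u
open IsLocalRing

namespace Groth.Agent.Lib.PrincRadH3

section Mono

variable {R : Type u} [CommRing R] [IsDomain R] [IsNoetherianRing R] [IsIntegrallyClosed R]

theorem vv_le_of_dvd (P : Ideal R) [hP : P.IsPrime] (h1 : P.height = 1) {a b : R} (h : a ∣ b) :
    vv P a ≤ vv P b := by
  obtain ⟨c, rfl⟩ := h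
  rw [vv_mul P h1]
  exact le_self_add

theorem vv_unit (P : Ideal R) [hP : P.IsPrime] (h1 : P.height = 1) (w : Rˣ) :
    vv P (w : R) = 0 := by
  rw [vv_eq_zero_iff P h1]
  intro h
  exact hP.ne_top (Ideal.eq_top_of_isUnit_mem _ h w.isUnit)

/-- cancelling a nonzero natural factor in an inequality in `ℕ∞` -/
theorem enat_le_of_nsmul_le {n : ℕ} (hn : n ≠ 0) {x y : ℕ∞} (h : n • x ≤ n • y) : x ≤ y := by
  rw [nsmul_eq_mul, nsmul_eq_mul] at h
  exact (ENat.mul_le_mul_left_iff (by exact_mod_cast hn) (ENat.coe_ne_top n)).1 h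

end Mono

section Unram

variable {A B : Type u} [CommRing A] [IsDomain A] [IsNoetherianRing A] [IsIntegrallyClosed A]
  [CommRing B] [IsDomain B] [IsNoetherianRing B] [IsIntegrallyClosed B] [Algebra A B]

/-- along a weakly unramified extension of height one primes the valuations agree -/
theorem vv_algebraMap_of_unramified (p : Ideal A) [hp : p.IsPrime] (hp1 : p.height = 1)
    (q : Ideal B) [hq : q.IsPrime] (hq1 : q.height = 1) (hqp : q.comap (algebraMap A B) = p)
    (hun : Ideal.map (algebraMap B (Localization.AtPrime q)) (Ideal.map (algebraMap A B) p) =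
      maximalIdeal (Localization.AtPrime q))
    (a : A) : vv q (algebraMap A B a) = vv p a := by
  obtain ⟨π, hπp, hπ⟩ := exists_vv_eq_one p hp1
  haveI := dvr q hq1
  have hnq : ∀ s : A, s ∉ p → algebraMap A B s ∉ q := by
    intro s hs h
    apply hs
    rw [← hqp]
    exact h
  have hnotin : ∀ s : A, s ∉ p → vv q (algebraMap A B s) = 0 := fun s hs =>
    (vv_eq_zero_iff q hq1 _).2 (hnq s hs)
  have hπq : vv q (algebraMap A B π) = 1 := by
    have hmax : maximalIdeal (Localization.AtPrime q) =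
        Ideal.span {algebraMap B (Localization.AtPrime q) (algebraMap A B π)} := by
      apply le_antisymm
      · rw [← hun, Ideal.map_map, Ideal.map_le_iff_le_comap]
        intro a ha
        rw [Ideal.mem_comap, Ideal.mem_span_singleton]
        have hle : vv p π ≤ vv p a := by
          rw [hπ]
          exact (one_le_vv_iff p hp1 a).2 ha
        obtain ⟨s, hs, c, hc⟩ := exists_mul_eq_mul p hp1 π a hle
        have hsu : IsUnit (algebraMap B (Localization.AtPrime q) (algebraMap A B s)) := by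
          rw [IsLocalization.AtPrime.isUnit_to_map_iff (Localization.AtPrime q) q]
          exact hnq s hs
        have h2 := congrArg (fun z => algebraMap B (Localization.AtPrime q) (algebraMap A B z)) hc
        simp only [map_mul] at h2
        show algebraMap B (Localization.AtPrime q) (algebraMap A B π) ∣
          algebraMap B (Localization.AtPrime q) (algebraMap A B a)
        rw [← hsu.dvd_mul_right, h2]
        exact Dvd.intro _ rfl
      · rw [Ideal.span_le, Set.singleton_subset_iff, SetLike.mem_coe,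
          IsLocalization.AtPrime.to_map_mem_maximal_iff (Localization.AtPrime q) q]
        have : π ∈ q.comap (algebraMap A B) := by
          rw [hqp]
          exact hπp
        exact this
    have hirr := (IsDiscreteValuationRing.irreducible_iff_uniformizer _).2 hmax
    rw [vv_eq q hq1]
    exact IsDiscreteValuationRing.addVal_uniformizer hirr
  by_cases ha : a = 0
  · rw [ha, map_zero, vv_zero q hq1, vv_zero p hp1]
  obtain ⟨k, hk⟩ := ENat.ne_top_iff_exists.1 (vv_ne_top p hp1 ha)
  have hpow : vv p (π ^ k) = k := by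
    rw [vv_pow p hp1, hπ]
    simp
  have hle : vv p (π ^ k) ≤ vv p a := by
    rw [hpow, ← hk]
  obtain ⟨s, hs, c, hc⟩ := exists_mul_eq_mul p hp1 (π ^ k) a hle
  have hcp : c ∉ p := by
    have h2 := congrArg (vv p) hc
    rw [vv_mul p hp1, vv_mul p hp1, hpow, ← hk, (vv_eq_zero_iff p hp1 s).2 hs] at h2
    rw [← vv_eq_zero_iff p hp1]
    have h3 : (k : ℕ∞) + 0 = k + vv p c := h2
    exact (ENat.add_right_injective_of_ne_top (ENat.coe_ne_top k) h3).symm
  have h3 := congrArg (fun z => vv q (algebraMap A B z)) hc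
  simp only [map_mul, map_pow] at h3
  rw [vv_mul q hq1, vv_mul q hq1, vv_pow q hq1, hπq, hnotin s hs, hnotin c hcp] at h3
  rw [← hk]
  simpa using h3

end Unram

section Descent

variable (A B : Type u) [CommRing A] [IsDomain A] [IsNoetherianRing A] [IsLocalRing A]
  [IsIntegrallyClosed A] [CommRing B] [IsDomain B] [IsNoetherianRing B] [IsLocalRing B]
  [IsIntegrallyClosed B] [Algebra A B] [IsLocalHom (algebraMap A B)] [Module.Flat A B]

/-- if `f = w hⁿ` in `B` and valuations at the components of `f` are preserved by suitable height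
one primes of `B`, then `f` is a unit times an `n`-th power in `A` -/
theorem nth_power_descent (f : A) (h : B) (n : ℕ) (hn : 1 ≤ n) (w : Bˣ)
    (hf : algebraMap A B f = (w : B) * h ^ n)
    (hval : ∀ p : Ideal A, p.IsPrime → p.height = 1 → f ∈ p →
      ∃ q : Ideal B, q.IsPrime ∧ q.height = 1 ∧ ∀ a : A, vv q (algebraMap A B a) = vv p a) :
    ∃ (g : A) (u : Aˣ), f = (u : A) * g ^ n := by
  classical
  have hn0 : n ≠ 0 := by omega
  by_cases hf0 : f = 0
  · exact ⟨0, 1, by rw [hf0, zero_pow hn0, mul_zero]⟩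
  haveI : Module.FaithfullyFlat A B := Module.FaithfullyFlat.of_flat_of_isLocalHom
  have hinj : Function.Injective (algebraMap A B) := by
    rw [RingHom.injective_iff_ker_eq_bot, RingHom.ker_eq_comap_bot]
    have := Ideal.comap_map_eq_self_of_faithfullyFlat (B := B) (⊥ : Ideal A)
    rwa [Ideal.map_bot] at this
  have hh0 : h ≠ 0 := by
    intro h0
    rw [h0, zero_pow hn0, mul_zero] at hf
    exact hf0 (hinj (by rw [hf, map_zero]))
  have hfin := Ideal.finite_minimalPrimes_of_isNoetherianRing A (Ideal.span {f})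
  set S := hfin.toFinset with hS
  have hSmem : ∀ p, p ∈ S ↔ p.IsPrime ∧ p.height = 1 ∧ f ∈ p := by
    intro p
    rw [hS, Set.Finite.mem_toFinset, mem_minimalPrimes_span_iff f hf0]
  have hSp : ∀ p ∈ S, p.IsPrime ∧ p.height = 1 := fun p hp =>
    ⟨((hSmem p).1 hp).1, ((hSmem p).1 hp).2.1⟩
  -- Step 1: the multiplicities of `f` are divisible by `n`
  have hex : ∀ p : Ideal A, ∃ e : ℕ, p ∈ S → vv p f = ((n * e : ℕ) : ℕ∞) := by
    intro p
    by_cases hp : p ∈ S
    · obtain ⟨hpp, hp1, hfp⟩ := (hSmem p).1 hp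
      obtain ⟨q, hqp, hq1, hq⟩ := hval p hpp hp1 hfp
      haveI := hqp
      obtain ⟨e, he⟩ := ENat.ne_top_iff_exists.1 (vv_ne_top q hq1 hh0)
      refine ⟨e, fun _ => ?_⟩
      rw [← hq f, hf, vv_mul q hq1, vv_pow q hq1, vv_unit q hq1, ← he, zero_add]
      push_cast
      rw [nsmul_eq_mul]
    · exact ⟨0, fun h => absurd h hp⟩
  choose e he using hex
  -- Step 2: the auxiliary element `t`
  obtain ⟨t, ht⟩ := exists_vv_eq S hSp (fun p => (n - 1) * e p)
  -- Step 3: `f ∣ t x` implies `f ∣ xⁿ`
  have key1 : ∀ x : A, f ∣ t * x → f ∣ x ^ n := by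
    intro x hx
    apply dvd_of_vv_le f (x ^ n) hf0
    intro P hP hP1 hfP
    haveI := hP
    have hPS : P ∈ S := (hSmem P).2 ⟨hP, hP1, hfP⟩
    have h2 := vv_le_of_dvd P hP1 hx
    rw [vv_mul P hP1, he P hPS, ht P hPS] at h2
    rw [he P hPS, vv_pow P hP1]
    by_cases hxt : vv P x = ⊤
    · rw [hxt]
      cases n with
      | zero => exact absurd rfl hn0
      | succ k => simp
    · obtain ⟨j, hj⟩ := ENat.ne_top_iff_exists.1 hxt
      rw [← hj] at h2 ⊢
      have h3 : n * e P ≤ (n - 1) * e P + j := by exact_mod_cast h2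
      have h4 : e P ≤ j := by
        have : n * e P = (n - 1) * e P + e P := by
          obtain ⟨k, rfl⟩ : ∃ k, n = k + 1 := ⟨n - 1, by omega⟩
          simp only [Nat.add_sub_cancel]
          ring
        omega
      rw [nsmul_eq_mul]
      exact_mod_cast Nat.mul_le_mul_left n h4
  -- Step 4: `f ∣ xⁿ` in `A` implies `h ∣ x` in `B`
  have key1B : ∀ x : A, f ∣ x ^ n → h ∣ algebraMap A B x := by
    rintro x ⟨c, hc⟩
    apply dvd_of_vv_le h _ hh0
    intro Q hQ hQ1 _
    haveI := hQ
    have h2 := congrArg (fun z => vv Q (algebraMap A B z)) hc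
    simp only [map_mul, map_pow] at h2
    rw [hf, vv_pow Q hQ1, vv_mul Q hQ1, vv_mul Q hQ1, vv_unit Q hQ1, zero_add, vv_pow Q hQ1] at h2
    apply enat_le_of_nsmul_le hn0
    rw [h2]
    exact le_self_add
  -- Step 5: `h ∈ I B`
  have hft : f ^ (n - 1) ∣ t ^ n := by
    apply dvd_of_vv_le _ _ (pow_ne_zero _ hf0)
    intro P hP hP1 hfP
    haveI := hP
    have hfP' : f ∈ P := hP.mem_of_pow_mem _ hfP
    have hPS : P ∈ S := (hSmem P).2 ⟨hP, hP1, hfP'⟩
    rw [vv_pow P hP1, vv_pow P hP1, he P hPS, ht P hPS, nsmul_eq_mul, nsmul_eq_mul]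
    have : (n - 1) * (n * e P) = n * ((n - 1) * e P) := by ring
    exact_mod_cast le_of_eq this
  obtain ⟨s, hs⟩ := hft
  have hht : h ^ (n - 1) ∣ algebraMap A B t := by
    apply dvd_of_vv_le _ _ (pow_ne_zero _ hh0)
    intro Q hQ hQ1 _
    haveI := hQ
    have h2 := congrArg (fun z => vv Q (algebraMap A B z)) hs
    simp only [map_mul, map_pow] at h2
    rw [hf, vv_pow Q hQ1, vv_mul Q hQ1, vv_pow Q hQ1, vv_mul Q hQ1, vv_unit Q hQ1, zero_add,
      vv_pow Q hQ1] at h2
    apply enat_le_of_nsmul_le hn0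
    rw [h2, vv_pow Q hQ1, smul_smul, smul_smul, mul_comm n (n - 1)]
    exact le_self_add
  obtain ⟨t', ht'⟩ := hht
  have hmem : h ∈ Ideal.map (algebraMap A B) (LinearMap.ker (colonMap t f)) := by
    apply mem_map_ker_colonMap
    refine ⟨(↑w⁻¹ : B) * t', ?_⟩
    rw [ht', hf]
    have hpow : h ^ (n - 1) * h = h ^ n := by
      rw [← pow_succ]
      congr 1
      omega
    calc h ^ (n - 1) * t' * h = (h ^ (n - 1) * h) * t' := by ring
      _ = h ^ n * t' := by rw [hpow]
      _ = (w : B) * (↑w⁻¹ : B) * (h ^ n * t') := by rw [Units.mul_inv, one_mul]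
      _ = (w : B) * h ^ n * ((↑w⁻¹ : B) * t') := by ring
  -- Step 6: a generator
  have hgen : ∃ g : A, f ∣ t * g ∧ ∃ c : Bˣ, algebraMap A B g = (c : B) * h := by
    by_contra hcon
    push_neg at hcon
    have hle : Ideal.map (algebraMap A B) (LinearMap.ker (colonMap t f)) ≤
        maximalIdeal B * Ideal.span {h} := by
      rw [Ideal.map_le_iff_le_comap]
      intro x hx
      rw [mem_ker_colonMap] at hx
      obtain ⟨c, hc⟩ := key1B x (key1 x hx)
      have hc' : algebraMap A B x = c * h := by rw [hc, mul_comm]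
      rw [Ideal.mem_comap, hc']
      refine Ideal.mul_mem_mul ?_ (Ideal.mem_span_singleton_self h)
      rw [mem_maximalIdeal, mem_nonunits_iff]
      intro hcu
      exact hcon x hx hcu.unit hc'
    obtain ⟨z, hz, hzh⟩ := Ideal.mem_mul_span_singleton.1 (hle hmem)
    have h1z : (z - 1) * h = 0 := by rw [sub_mul, hzh, one_mul, sub_self]
    rcases mul_eq_zero.1 h1z with h1 | h1
    · have : z = 1 := sub_eq_zero.1 h1
      rw [this] at hz
      exact (maximalIdeal.isMaximal B).ne_top ((Ideal.eq_top_iff_one _).2 hz)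
    · exact hh0 h1
  obtain ⟨g, hg1, c, hgc⟩ := hgen
  have hd1 : f ∣ g ^ n := key1 g hg1
  have hd2 : g ^ n ∣ f := by
    have h1 : algebraMap A B f ∈ Ideal.map (algebraMap A B) (Ideal.span {g ^ n}) := by
      rw [Ideal.map_span, Set.image_singleton, Ideal.mem_span_singleton, map_pow, hgc, hf]
      refine ⟨(w : B) * (↑(c⁻¹ ^ n) : B), ?_⟩
      rw [mul_pow]
      calc (w : B) * h ^ n = ((c : B) ^ n * (↑(c⁻¹ ^ n) : B)) * ((w : B) * h ^ n) := by
            rw [Units.val_pow_eq_pow_val, ← mul_pow, Units.mul_inv, one_pow, one_mul]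
        _ = (c : B) ^ n * h ^ n * ((w : B) * (↑(c⁻¹ ^ n) : B)) := by ring
    have h2 : f ∈ (Ideal.map (algebraMap A B) (Ideal.span {g ^ n})).comap (algebraMap A B) := h1
    rw [Ideal.comap_map_eq_self_of_faithfullyFlat] at h2
    exact Ideal.mem_span_singleton.1 h2
  obtain ⟨u, hu⟩ := associated_of_dvd_dvd hd2 hd1
  exact ⟨g, u, by rw [← hu, mul_comm]⟩

end Descent

end Groth.Agent.Lib.PrincRadH3
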