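import Mathlib

/-!
# Images of `Spec B → Spec A` are exactly the pro-constructible sets (helper3)
APPEND-ONLY once landed.
-/

set_option autoImplicit false
universe u

namespace Groth.Agent.Lib.ProConsImageH3

open PrimeSpectrum Topology

variable {A : Type u} [CommRing A]

/-- a point outside the image of `Spec B → Spec A` is separated from it by a constructible set -/
theorem exists_constructible_of_notMem {B : Type u} [CommRing B] (f : A →+* B)
    (p : PrimeSpectrum A) (hp : p ∉ Set.range (comap f)) :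
    ∃ C : Set (PrimeSpectrum A), IsConstructible C ∧ Set.range (comap f) ⊆ C ∧ p ∉ C := by
  classical
  rw [PrimeSpectrum.mem_range_comap_iff] at hp
  have hlt : ¬ (p.asIdeal.map f).comap f ≤ p.asIdeal := fun h =>
    hp (le_antisymm h Ideal.le_comap_map)
  obtain ⟨s, hs, hsp⟩ := SetLike.not_le_iff_exists.1 hlt
  rw [Ideal.mem_comap, Ideal.map, Ideal.span] at hs
  obtain ⟨T, hT, hsT⟩ := Submodule.mem_span_finite_of_mem_span hs
  obtain ⟨T', hT', rfl⟩ : ∃ T' : Finset A, (T' : Set A) ⊆ p.asIdeal ∧ T'.image f = T := by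
    have := (Finset.subset_set_image_iff (s := (p.asIdeal : Set A)) (t := T) (f := f)).1 hT
    obtain ⟨T', h1, h2⟩ := this
    exact ⟨T', h1, h2⟩
  refine ⟨(zeroLocus (T' : Set A))ᶜ ∪ ((zeroLocus {s})ᶜ)ᶜ, ?_, ?_, ?_⟩
  · refine IsConstructible.union ?_ (IsConstructible.compl ?_)
    · exact (isRetrocompact_zeroLocus_compl T'.finite_toSet).isConstructible
        (isClosed_zeroLocus _).isOpen_compl
    · exact (isRetrocompact_zeroLocus_compl (Set.finite_singleton s)).isConstructible
        (isClosed_zeroLocus _).isOpen_compl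
  · rintro _ ⟨q, rfl⟩
    by_cases hq : comap f q ∈ zeroLocus (T' : Set A)
    · right
      rw [compl_compl, mem_zeroLocus, Set.singleton_subset_iff]
      show f s ∈ q.asIdeal
      have hle : Submodule.span B ((T'.image f : Finset B) : Set B) ≤ q.asIdeal := by
        rw [Submodule.span_le]
        intro b hb
        rw [Finset.coe_image] at hb
        obtain ⟨a, ha, rfl⟩ := hb
        exact hq ha
      exact hle hsT
    · exact Or.inl hq
  · rintro (h | h)
    · exact h hT'
    · rw [compl_compl, mem_zeroLocus, Set.singleton_subset_iff] at h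
      exact hsp h

theorem forward {B : Type u} [CommRing B] (f : A →+* B) :
    ∃ S : Set (Set (PrimeSpectrum A)), (∀ s ∈ S, IsConstructible s) ∧
      Set.range (comap f) = ⋂₀ S := by
  refine ⟨{C | IsConstructible C ∧ Set.range (comap f) ⊆ C}, fun s hs => hs.1, ?_⟩
  apply Set.Subset.antisymm
  · intro p hp
    rw [Set.mem_sInter]
    intro C hC
    exact hC.2 hp
  · intro p hp
    by_contra hcon
    obtain ⟨C, hC1, hC2, hC3⟩ := exists_constructible_of_notMem f p hcon
    exact hC3 (Set.mem_sInter.1 hp C ⟨hC1, hC2⟩)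

/-- the product of the residue fields of the points of `E` -/
abbrev PB (E : Set (PrimeSpectrum A)) : Type u := ∀ p : E, p.1.asIdeal.ResidueField

/-- the canonical map to the product of residue fields -/
noncomputable def toPB (E : Set (PrimeSpectrum A)) : A →+* PB E :=
  Pi.ringHom fun p => algebraMap A p.1.asIdeal.ResidueField

theorem toPB_apply (E : Set (PrimeSpectrum A)) (a : A) (p : E) :
    toPB E a p = algebraMap A p.1.asIdeal.ResidueField a := rfl

theorem subset_range (E : Set (PrimeSpectrum A)) : E ⊆ Set.range (comap (toPB E)) := by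
  intro p hp
  refine ⟨comap (Pi.evalRingHom (fun q : E => q.1.asIdeal.ResidueField) ⟨p, hp⟩)
    ⟨⊥, Ideal.isPrime_bot⟩, ?_⟩
  ext a
  simp only [comap_asIdeal, Ideal.mem_comap, Ideal.mem_bot]
  rw [Pi.evalRingHom_apply, toPB_apply, Ideal.algebraMap_residueField_eq_zero]

theorem range_subset_of_basic (E : Set (PrimeSpectrum A)) (C : BasicConstructibleSetData A)
    (hC : ∀ p ∈ E, p ∉ C.toSet) (Q : PrimeSpectrum (PB E)) : comap (toPB E) Q ∉ C.toSet := by
  classical
  intro hmem
  rw [BasicConstructibleSetData.toSet, Set.mem_diff, mem_zeroLocus, mem_zeroLocus,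
    Set.singleton_subset_iff] at hmem
  obtain ⟨hg, hf⟩ := hmem
  have hg' : ∀ i, toPB E (C.g i) ∈ Q.asIdeal := fun i => hg ⟨i, rfl⟩
  have hf' : toPB E C.f ∉ Q.asIdeal := hf
  -- the componentwise inverse
  let inv : PB E → PB E := fun x p => (x p)⁻¹
  have hzero : toPB E C.f * ∏ i, (1 - toPB E (C.g i) * inv (toPB E (C.g i))) = 0 := by
    funext p
    rw [Pi.mul_apply, Pi.zero_apply, Finset.prod_apply]
    by_cases h : ∃ i, C.g i ∉ p.1.asIdeal
    · obtain ⟨i, hi⟩ := h
      have h0 : (1 - toPB E (C.g i) * inv (toPB E (C.g i))) p = 0 := by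
        rw [Pi.sub_apply, Pi.one_apply, Pi.mul_apply]
        show 1 - toPB E (C.g i) p * (toPB E (C.g i) p)⁻¹ = 0
        have hne : toPB E (C.g i) p ≠ 0 := by
          rw [toPB_apply, Ne, Ideal.algebraMap_residueField_eq_zero]
          exact hi
        rw [mul_inv_cancel₀ hne, sub_self]
      rw [Finset.prod_eq_zero (Finset.mem_univ i) h0, mul_zero]
    · push Not at h
      have hfp : C.f ∈ p.1.asIdeal := by
        by_contra hcon
        apply hC p.1 p.2
        rw [BasicConstructibleSetData.toSet, Set.mem_diff, mem_zeroLocus, mem_zeroLocus,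
          Set.singleton_subset_iff]
        refine ⟨?_, hcon⟩
        rintro _ ⟨i, rfl⟩
        exact h i
      have : toPB E C.f p = 0 := by
        rw [toPB_apply, Ideal.algebraMap_residueField_eq_zero]
        exact hfp
      rw [this, zero_mul]
  have hmem0 : toPB E C.f * ∏ i, (1 - toPB E (C.g i) * inv (toPB E (C.g i))) ∈ Q.asIdeal := by
    rw [hzero]
    exact Q.asIdeal.zero_mem
  rcases Q.isPrime.mem_or_mem hmem0 with h | h
  · exact hf' h
  · rw [Ideal.IsPrime.prod_mem_iff] at h
    obtain ⟨i, -, hi⟩ := h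
    have h1 : (1 : PB E) ∈ Q.asIdeal := by
      have := Q.asIdeal.add_mem hi (Q.asIdeal.mul_mem_right (inv (toPB E (C.g i))) (hg' i))
      rwa [sub_add_cancel] at this
    exact Q.isPrime.ne_top ((Ideal.eq_top_iff_one _).2 h1)

theorem backward (E : Set (PrimeSpectrum A)) (S : Set (Set (PrimeSpectrum A)))
    (hS : ∀ s ∈ S, IsConstructible s) (hE : E = ⋂₀ S) :
    Set.range (comap (toPB E)) = E := by
  apply Set.Subset.antisymm
  · rintro _ ⟨Q, rfl⟩
    have hE' : ∀ x, x ∈ E ↔ ∀ s ∈ S, x ∈ s := fun x => by rw [hE, Set.mem_sInter]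
    rw [hE']
    intro s hs
    by_contra hcon
    obtain ⟨D, hD⟩ := exists_constructibleSetData_iff.2 (hS s hs).compl
    have hmem : comap (toPB E) Q ∈ D.toSet := by rw [hD]; exact hcon
    rw [ConstructibleSetData.toSet, Set.mem_iUnion₂] at hmem
    obtain ⟨C, hCD, hC⟩ := hmem
    refine range_subset_of_basic E C (fun p hp hpC => ?_) Q hC
    have hps : p ∈ s := (hE' p).1 hp s hs
    have : p ∈ D.toSet := by
      rw [ConstructibleSetData.toSet, Set.mem_iUnion₂]
      exact ⟨C, hCD, hpC⟩
    rw [hD] at this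
    exact this hps
  · exact subset_range E

theorem main (E : Set (PrimeSpectrum A)) :
    (∃ (B : Type u) (_ : CommRing B) (f : A →+* B), Set.range (PrimeSpectrum.comap f) = E) ↔
      ∃ S : Set (Set (PrimeSpectrum A)), (∀ s ∈ S, IsConstructible s) ∧ E = ⋂₀ S := by
  constructor
  · rintro ⟨B, _, f, rfl⟩
    exact forward f
  · rintro ⟨S, hS, hE⟩
    exact ⟨PB E, inferInstance, toPB E, backward E S hS hE⟩

end Groth.Agent.Lib.ProConsImageH3
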