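import Mathlib
import Groth.Prelude.Def_ProCons
import Groth.Agent.Lib.ProConsGen_helper8

namespace Groth.Agent.Lib.ProConsOpenAtH8

open Topology TopologicalSpace Set CategoryTheory AlgebraicGeometry Set.Notation
open Groth.Agent.Lib.ProConsTopH8 Groth.Agent.Lib.ProConsLocH8 Groth.Agent.Lib.ProConsCptH8
  Groth.Agent.Lib.ProConsImgH8 Groth.Agent.Lib.ProConsGenH8

universe u

/-- If `f` is open at `x`, generizations of `f x` lift to generizations of `x`. -/
theorem exists_generization_of_openAt {X Y : Scheme.{u}} (f : X ⟶ Y) (x : X)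
    (hopen : ∀ U ∈ 𝓝 x, f.base '' U ∈ 𝓝 (f.base x)) (y' : Y) (hy' : y' ⤳ f.base x) :
    ∃ x' : X, x' ⤳ x ∧ f.base x' = y' := by
  by_contra hcon
  push Not at hcon
  obtain ⟨W, hW, hxW, -, i1, i2, i3, i4⟩ := exists_spectral_open X x univ isOpen_univ (mem_univ x)
  have hcl := isClosed_restrict_of_pro
    (Groth.Agent.Lib.ProConsSchH8.isProConstructible_preimage f _
      (isProConstructible_singleton Y y')) hW
  obtain ⟨S, hS, hES⟩ := exists_sUnion_of_isOpen
    ((@isOpen_compl_iff W _ (constructibleTopology W)).2 hcl)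
  have hn : (W ↓∩ (f.base ⁻¹' {y'}))ᶜ ∈ 𝓝 (⟨x, hxW⟩ : W) := by
    refine mem_nhds_of_sUnion_of_generizations S hS hES ⟨x, hxW⟩ (fun x' hx' hx'E => ?_)
    exact hcon x'.1 (hx'.map continuous_subtype_val) hx'E
  have h2 := hW.isOpenEmbedding_subtypeVal.image_mem_nhds.2 hn
  have h3 := hopen _ h2
  have h4 : y' ∈ f.base '' (Subtype.val '' (W ↓∩ (f.base ⁻¹' {y'}))ᶜ) :=
    mem_of_mem_nhds (hy' h3)
  obtain ⟨_, ⟨z, hz, rfl⟩, hzy⟩ := h4
  exact hz hzy

/-- For `f` locally of finite presentation: if generizations of `f x` lift to generizations of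
`x`, then `f` is open at `x`. -/
theorem openAt_of_generizations_lift {X Y : Scheme.{u}} (f : X ⟶ Y)
    [LocallyOfFinitePresentation f] (x : X)
    (hgen : ∀ y' : Y, y' ⤳ f.base x → ∃ x' : X, x' ⤳ x ∧ f.base x' = y') :
    ∀ U ∈ 𝓝 x, f.base '' U ∈ 𝓝 (f.base x) := by
  intro U hU
  obtain ⟨_, ⟨V, hV, rfl⟩, hyV, -⟩ :=
    Y.isBasis_affineOpens.exists_subset_of_mem_open (mem_univ (f.base x)) isOpen_univ
  haveI : IsAffine (V : Scheme.{u}) := hV
  have k1 : CompactSpace ↥(V : Set Y) := inferInstanceAs (CompactSpace (V : Scheme.{u}))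
  have k2 : QuasiSober ↥(V : Set Y) := inferInstanceAs (QuasiSober (V : Scheme.{u}))
  have k3 : PrespectralSpace ↥(V : Set Y) := inferInstanceAs (PrespectralSpace (V : Scheme.{u}))
  have k4 : QuasiSeparatedSpace ↥(V : Set Y) :=
    inferInstanceAs (QuasiSeparatedSpace (V : Scheme.{u}))
  obtain ⟨_, ⟨W, hW, rfl⟩, hxW, hWU⟩ :=
    X.isBasis_affineOpens.exists_subset_of_mem_open
      (show x ∈ interior U ∩ f.base ⁻¹' (V : Set Y) from ⟨mem_interior_iff_mem_nhds.2 hU, hyV⟩)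
      (isOpen_interior.inter (f ⁻¹ᵁ V).2)
  haveI : IsAffine (W : Scheme.{u}) := hW
  have hle : W ≤ f ⁻¹ᵁ V := fun z hz => (hWU hz).2
  let g := f.resLE V W hle
  have hD : IsConstructible (g.base '' (univ : Set ↥(W : Set X))) :=
    g.isConstructible_image IsConstructible.univ
  have hn : (g.base '' (univ : Set ↥(W : Set X))) ∈ 𝓝 (⟨f.base x, hyV⟩ : ↥(V : Set Y)) := by
    refine @mem_nhds_of_sUnion_of_generizations _ _ k1 k2 k3 k4 _ {g.base '' univ}
      (fun T hT => by rw [mem_singleton_iff.1 hT]; exact hD) (sUnion_singleton _).symm _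
      (fun v' hv' => ?_)
    obtain ⟨x', hx', hfx'⟩ := hgen v'.1 (hv'.map continuous_subtype_val)
    have hx'W : x' ∈ (W : Set X) := hx'.mem_open W.2 hxW
    exact ⟨⟨x', hx'W⟩, mem_univ _,
      Subtype.ext ((Scheme.Hom.coe_resLE_apply f hle ⟨x', hx'W⟩).trans hfx')⟩
  have h2 := V.2.isOpenEmbedding_subtypeVal.image_mem_nhds.2 hn
  refine Filter.mem_of_superset h2 ?_
  rintro _ ⟨_, ⟨w, -, rfl⟩, rfl⟩
  exact ⟨w.1, interior_subset (hWU w.2).1, (Scheme.Hom.coe_resLE_apply f hle w).symm⟩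

end Groth.Agent.Lib.ProConsOpenAtH8
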