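import Mathlib
import Groth.Agent.Lib.ProConsImage_helper3

set_option autoImplicit false
set_option linter.style.haveILetI false
set_option linter.unusedVariables false
set_option linter.unusedSectionVars false
set_option backward.isDefEq.respectTransparency false
set_option maxHeartbeats 800000

universe u

open AlgebraicGeometry CategoryTheory CategoryTheory.Limits Topology

namespace Groth.Agent.Lib.ProConsSchH4

/-- pro-constructible: an intersection of constructible sets. -/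
def ProC {T : Type*} [TopologicalSpace T] (E : Set T) : Prop :=
  ∃ S : Set (Set T), (∀ s ∈ S, IsConstructible s) ∧ E = ⋂₀ S

section Top

variable {T : Type*} [TopologicalSpace T]

theorem proC_empty : ProC (∅ : Set T) :=
  ⟨{∅}, fun s hs => by rw [Set.mem_singleton_iff.mp hs]; exact IsConstructible.empty,
    (Set.sInter_singleton _).symm⟩

theorem proC_union {E₁ E₂ : Set T} (h1 : ProC E₁) (h2 : ProC E₂) : ProC (E₁ ∪ E₂) := by
  obtain ⟨S₁, hS₁, rfl⟩ := h1
  obtain ⟨S₂, hS₂, rfl⟩ := h2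
  refine ⟨{s | ∃ s₁ ∈ S₁, ∃ s₂ ∈ S₂, s = s₁ ∪ s₂}, ?_, ?_⟩
  · rintro _ ⟨s₁, h1, s₂, h2, rfl⟩
    exact (hS₁ s₁ h1).union (hS₂ s₂ h2)
  · ext x
    constructor
    · intro hx
      rw [Set.mem_sInter]
      rintro _ ⟨s₁, h1, s₂, h2, rfl⟩
      rcases hx with h | h
      · exact Or.inl (Set.mem_sInter.mp h s₁ h1)
      · exact Or.inr (Set.mem_sInter.mp h s₂ h2)
    · intro h
      rw [Set.mem_sInter] at h
      by_contra hcon
      rw [Set.mem_union, not_or, Set.mem_sInter, Set.mem_sInter] at hcon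
      obtain ⟨hc1, hc2⟩ := hcon
      push_neg at hc1 hc2
      obtain ⟨s₁, h1, hx1⟩ := hc1
      obtain ⟨s₂, h2, hx2⟩ := hc2
      rcases h _ ⟨s₁, h1, s₂, h2, rfl⟩ with h' | h'
      · exact hx1 h'
      · exact hx2 h'

theorem proC_biUnion {ι : Type*} (s : Finset ι) (E : ι → Set T) (h : ∀ i ∈ s, ProC (E i)) :
    ProC (⋃ i ∈ s, E i) := by
  classical
  induction s using Finset.induction_on with
  | empty => simpa using (proC_empty : ProC (∅ : Set T))
  | insert a s ha ih =>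
    rw [Finset.set_biUnion_insert]
    exact proC_union (h a (Finset.mem_insert_self a s))
      (ih (fun i hi => h i (Finset.mem_insert_of_mem hi)))

theorem proC_iUnion {ι : Type*} [Finite ι] (E : ι → Set T) (h : ∀ i, ProC (E i)) :
    ProC (⋃ i, E i) := by
  classical
  haveI := Fintype.ofFinite ι
  have h1 := proC_biUnion Finset.univ E (fun i _ => h i)
  simpa using h1

theorem proC_image_openEmbedding {U : Type*} [TopologicalSpace U] (j : U → T)
    (hj : IsOpenEmbedding j) (hr : IsRetrocompact (Set.range j)) {E : Set U} (h : ProC E) :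
    ProC (j '' E) := by
  obtain ⟨S, hS, rfl⟩ := h
  refine ⟨insert (Set.range j) ((fun s => j '' s) '' S), ?_, ?_⟩
  · intro s hs
    rcases Set.mem_insert_iff.mp hs with rfl | ⟨s', hs', rfl⟩
    · exact IsRetrocompact.isConstructible hj.isOpen_range hr
    · exact IsConstructible.image_of_isOpenEmbedding hj hr (hS s' hs')
  · ext x
    constructor
    · rintro ⟨y, hy, rfl⟩
      rw [Set.mem_sInter]
      intro s hs
      rcases Set.mem_insert_iff.mp hs with rfl | ⟨s', hs', rfl⟩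
      · exact ⟨y, rfl⟩
      · exact ⟨y, Set.mem_sInter.mp hy s' hs', rfl⟩
    · intro h
      rw [Set.mem_sInter] at h
      obtain ⟨y, rfl⟩ := h (Set.range j) (Set.mem_insert _ _)
      refine ⟨y, Set.mem_sInter.mpr (fun s' hs' => ?_), rfl⟩
      obtain ⟨y', hy', hyy⟩ := h (j '' s') (Set.mem_insert_of_mem _ ⟨s', hs', rfl⟩)
      rwa [hj.injective hyy] at hy'

end Top

theorem proC_preimage {X Y : Scheme.{u}} (f : X ⟶ Y) {E : Set Y} (h : ProC E) :
    ProC (f ⁻¹' E) := by
  obtain ⟨S, hS, rfl⟩ := h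
  refine ⟨(fun s => f ⁻¹' s) '' S, ?_, ?_⟩
  · rintro _ ⟨s, hs, rfl⟩
    exact f.isConstructible_preimage (hS s hs)
  · ext x
    constructor
    · intro hx
      rw [Set.mem_sInter]
      rintro _ ⟨s, hs, rfl⟩
      exact Set.mem_sInter.mp hx s hs
    · intro hx
      rw [Set.mem_sInter] at hx
      exact Set.mem_sInter.mpr (fun s hs => hx _ ⟨s, hs, rfl⟩)

theorem spec_map_apply {R S : Type u} [CommRing R] [CommRing S] (φ : R →+* S)
    (w : PrimeSpectrum S) :
    (Spec.map (CommRingCat.ofHom φ)) w = PrimeSpectrum.comap φ w := rfl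

theorem affine_backward_aux (Y : Scheme.{u}) [IsAffine Y] (E : Set Y)
    (E' : Set (PrimeSpectrum Γ(Y, ⊤))) (hE'def : ∀ z : Spec Γ(Y, ⊤), z ∈ E' ↔ Y.isoSpec.inv z ∈ E)
    (B : Type u) [CommRing B] (φ : Γ(Y, ⊤) →+* B)
    (hb : Set.range (PrimeSpectrum.comap φ) = E') :
    Set.range (Spec.map (CommRingCat.ofHom φ) ≫ Y.isoSpec.inv) = E := by
  ext x
  constructor
  · rintro ⟨w, rfl⟩
    have h0 : PrimeSpectrum.comap φ w ∈ E' :=
      hb ▸ (⟨w, rfl⟩ : PrimeSpectrum.comap φ w ∈ Set.range (PrimeSpectrum.comap φ))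
    exact (hE'def _).mp h0
  · intro hx
    have h1 : Y.isoSpec.hom x ∈ E' := by
      rw [hE'def, Scheme.hom_inv_apply]
      exact hx
    have h1' : Y.isoSpec.hom x ∈ Set.range (PrimeSpectrum.comap φ) := hb.symm ▸ h1
    obtain ⟨w, hw⟩ := h1'
    refine ⟨w, ?_⟩
    show Y.isoSpec.inv ((Spec.map (CommRingCat.ofHom φ)) w) = x
    have h2 : (Spec.map (CommRingCat.ofHom φ)) w = Y.isoSpec.hom x := hw
    rw [h2, Scheme.hom_inv_apply]

/-- A pro-constructible subset of an affine scheme is the image of an affine scheme. -/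
theorem affine_backward (Y : Scheme.{u}) [IsAffine Y] (E : Set Y) (hE : ProC E) :
    ∃ (W : Scheme.{u}) (g : W ⟶ Y), IsAffine W ∧ Set.range g = E := by
  obtain ⟨S', hS', hE'⟩ := proC_preimage Y.isoSpec.inv hE
  have hb := Groth.Agent.Lib.ProConsImageH3.backward (A := Γ(Y, ⊤))
    (Y.isoSpec.inv ⁻¹' E) S' hS' hE'
  exact ⟨Spec (CommRingCat.of (Groth.Agent.Lib.ProConsImageH3.PB (A := Γ(Y, ⊤))
      (Y.isoSpec.inv ⁻¹' E))),
    Spec.map (CommRingCat.ofHom (Groth.Agent.Lib.ProConsImageH3.toPB (A := Γ(Y, ⊤))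
      (Y.isoSpec.inv ⁻¹' E))) ≫ Y.isoSpec.inv, inferInstance,
    affine_backward_aux Y E (Y.isoSpec.inv ⁻¹' E) (fun z => Iff.rfl) _ _ hb⟩

/-- A morphism between affine schemes has pro-constructible range. -/
theorem affine_forward {W Y : Scheme.{u}} [IsAffine W] [IsAffine Y] (a : W ⟶ Y) :
    ProC (Set.range a) := by
  obtain ⟨φ, hφ⟩ : ∃ φ : Γ(Y, ⊤) ⟶ Γ(W, ⊤),
      Spec.map φ = W.isoSpec.inv ≫ a ≫ Y.isoSpec.hom :=
    ⟨Spec.preimage _, Spec.map_preimage _⟩
  obtain ⟨S, hS, hrange⟩ := Groth.Agent.Lib.ProConsImageH3.forward (A := Γ(Y, ⊤)) φ.hom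
  have h1 : ProC (Set.range (Spec.map φ)) := ⟨S, hS, hrange⟩
  have h2 := proC_preimage Y.isoSpec.hom h1
  have h3 : Set.range a = Y.isoSpec.hom ⁻¹' Set.range (Spec.map φ) := by
    ext x
    constructor
    · rintro ⟨w, rfl⟩
      refine ⟨W.isoSpec.hom w, ?_⟩
      rw [hφ]
      show Y.isoSpec.hom (a (W.isoSpec.inv (W.isoSpec.hom w))) = Y.isoSpec.hom (a w)
      rw [Scheme.hom_inv_apply]
    · rintro ⟨v, hv⟩
      refine ⟨W.isoSpec.inv v, ?_⟩
      rw [hφ] at hv
      have hv' : Y.isoSpec.hom (a (W.isoSpec.inv v)) = Y.isoSpec.hom x := hv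
      have h4 := congrArg (fun z => Y.isoSpec.inv z) hv'
      simp only [Scheme.hom_inv_apply] at h4
      exact h4
  rw [h3]
  exact h2

/-- A morphism from a quasi-compact scheme to an affine scheme has pro-constructible range. -/
theorem compact_forward {P Y : Scheme.{u}} [CompactSpace P] [IsAffine Y] (s : P ⟶ Y) :
    ProC (Set.range s) := by
  let 𝒱 := P.affineCover.finiteSubcover
  have hfin : Finite 𝒱.I₀ := inferInstance
  have haff : ∀ l, IsAffine (𝒱.X l) := inferInstance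
  have h1 : Set.range s = ⋃ l, Set.range (𝒱.f l ≫ s) := by
    ext x
    constructor
    · rintro ⟨y, rfl⟩
      obtain ⟨l, w, rfl⟩ := 𝒱.exists_eq y
      exact Set.mem_iUnion.mpr ⟨l, w, rfl⟩
    · intro hx
      obtain ⟨l, w, rfl⟩ := Set.mem_iUnion.mp hx
      exact ⟨(𝒱.f l) w, rfl⟩
  rw [h1]
  exact proC_iUnion _ (fun l => affine_forward (𝒱.f l ≫ s))

theorem main2479 {X : Scheme.{u}} [CompactSpace X] [QuasiSeparatedSpace X] (E : Set X) :
    (∃ (X' : Scheme.{u}) (f : X' ⟶ X), QuasiCompact f ∧ Set.range f.base = E) ↔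
      ∃ S : Set (Set X), (∀ s ∈ S, IsConstructible s) ∧ E = ⋂₀ S := by
  let 𝒰 := X.affineCover.finiteSubcover
  have hfin : Finite 𝒰.I₀ := inferInstance
  have haff : ∀ j, IsAffine (𝒰.X j) := inferInstance
  constructor
  · rintro ⟨X', f, hf, rfl⟩
    show ProC (Set.range f)
    have h1 : Set.range f = ⋃ j, (𝒰.f j) '' ((𝒰.f j) ⁻¹' Set.range f) := by
      ext x
      constructor
      · intro hx
        obtain ⟨j, y, rfl⟩ := 𝒰.exists_eq x
        exact Set.mem_iUnion.mpr ⟨j, y, hx, rfl⟩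
      · intro hx
        obtain ⟨j, y, hy, rfl⟩ := Set.mem_iUnion.mp hx
        exact hy
    rw [h1]
    refine proC_iUnion _ (fun j => ?_)
    have hcomp : IsCompact (Set.range (𝒰.f j)) := isCompact_range (𝒰.f j).continuous
    refine proC_image_openEmbedding _ (𝒰.f j).isOpenEmbedding
      (hcomp.isRetrocompact (𝒰.f j).isOpenEmbedding.isOpen_range) ?_
    rw [← Scheme.Pullback.range_snd f (𝒰.f j)]
    haveI : CompactSpace ↥(pullback f (𝒰.f j)) :=
      QuasiCompact.compactSpace_of_compactSpace (pullback.snd f (𝒰.f j))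
    exact compact_forward (pullback.snd f (𝒰.f j))
  · intro hE
    have hE' : ProC E := hE
    choose W g hW hg using fun j =>
      affine_backward (𝒰.X j) ((𝒰.f j) ⁻¹' E) (proC_preimage (𝒰.f j) hE')
    let F : ∀ j, W j ⟶ X := fun j => g j ≫ 𝒰.f j
    haveI : ∀ j, IsAffine (W j) := hW
    haveI : IsAffine (∐ W) := inferInstance
    refine ⟨∐ W, Sigma.desc F, (quasiCompact_iff_compactSpace _).mpr inferInstance, ?_⟩
    ext x
    constructor
    · rintro ⟨y, rfl⟩
      obtain ⟨⟨t, w⟩, rfl⟩ := (sigmaMk W).surjective y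
      rw [sigmaMk_mk]
      change (Sigma.desc F) ((Sigma.ι W t) w) ∈ E
      rw [← Scheme.Hom.comp_apply, Sigma.ι_desc]
      have h1 : (g t) w ∈ (𝒰.f t) ⁻¹' E := by
        rw [← hg t]
        exact ⟨w, rfl⟩
      exact h1
    · intro hx
      obtain ⟨j, y, rfl⟩ := 𝒰.exists_eq x
      have hy : y ∈ Set.range (g j) := by
        rw [hg j]; exact hx
      obtain ⟨w, rfl⟩ := hy
      refine ⟨Sigma.ι W j w, ?_⟩
      change (Sigma.desc F) ((Sigma.ι W j) w) = _
      rw [← Scheme.Hom.comp_apply, Sigma.ι_desc]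
      rfl

end Groth.Agent.Lib.ProConsSchH4
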