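import Mathlib
import Groth.Prelude.Def_ProEtS

/-!
# Continuity of the comparison functors of pro-étale sites (helper7)
-/

set_option autoImplicit false
set_option backward.isDefEq.respectTransparency false
universe u
open CategoryTheory CategoryTheory.Limits Opposite AlgebraicGeometry

namespace Groth.Agent.Lib.ProEtCont_helper7

lemma topology_eq (S : Scheme.{u}) : Scheme.ProEt.topology S =
    (Scheme.ProEt.forget S).restrictedTopology (Scheme.proetaleTopology.over S) :=
  MorphismProperty.toGrothendieck_comap_forget_eq_restrictedTopology _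
    Scheme.proetalePrecoverage_le_precoverage_weaklyEtale

lemma over_mono {C : Type*} [Category C] {J K : GrothendieckTopology C} (h : J ≤ K) (X : C) :
    J.over X ≤ K.over X := by
  intro Y S hS
  rw [GrothendieckTopology.mem_over_iff] at hS ⊢
  exact h _ hS

theorem epsCont (X : Scheme.{u}) : ProEtS.EpsCont X := by
  haveI : PreservesFiniteLimits (ProEtS.eps X) := by
    haveI h : PreservesFiniteLimits (ProEtS.eps X ⋙ Scheme.ProEt.forget X) :=
      inferInstanceAs (PreservesFiniteLimits (Scheme.Etale.forget X))
    exact preservesFiniteLimits_of_reflects_of_preserves (ProEtS.eps X) (Scheme.ProEt.forget X)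
  haveI : RepresentablyFlat (ProEtS.eps X) := flat_of_preservesFiniteLimits _
  show (ProEtS.eps X).IsContinuous _ _
  rw [Functor.isContinuous_iff_coverPreserving]
  refine ⟨fun {U S} hS => ?_⟩
  rw [topology_eq, Functor.mem_restrictedTopology_iff, ← Sieve.functorPushforward_comp]
  have h1 : S.functorPushforward (MorphismProperty.Over.forget @Etale ⊤ X) ∈
      (X.overGrothendieckTopology @Etale) ((MorphismProperty.Over.forget @Etale ⊤ X).obj U) :=
    Functor.mem_restrictedTopology_iff.1 hS
  exact over_mono Scheme.etaleTopology_le_proetaleTopology X _ h1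

theorem pCont {X Y : Scheme.{u}} (f : X ⟶ Y) : ProEtS.PCont f := by
  haveI : PreservesFiniteLimits (ProEtS.bcP f) := by
    have h : PreservesFiniteLimits (ProEtS.bcP f ⋙ Scheme.ProEt.forget X) := by
      let e : ProEtS.bcP f ⋙ Scheme.ProEt.forget X ≅ Scheme.ProEt.forget Y ⋙ Over.pullback f :=
        MorphismProperty.Over.pullbackCompForgetIso (P := @WeaklyEtale) (Q := ⊤) f
      exact preservesFiniteLimits_of_natIso e.symm
    exact preservesFiniteLimits_of_reflects_of_preserves (ProEtS.bcP f) (Scheme.ProEt.forget X)
  haveI : RepresentablyFlat (ProEtS.bcP f) := flat_of_preservesFiniteLimits _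
  show (ProEtS.bcP f).IsContinuous _ _
  rw [Functor.isContinuous_iff_coverPreserving]
  refine ⟨fun {U S} hS => ?_⟩
  rw [topology_eq] at hS ⊢
  rw [Functor.mem_restrictedTopology_iff] at hS ⊢
  rw [← Sieve.functorPushforward_comp]
  have h1 := (GrothendieckTopology.coverPreserving_overPullback
    (J := Scheme.proetaleTopology) f).cover_preserve hS
  rw [← Sieve.functorPushforward_comp] at h1
  exact h1

end Groth.Agent.Lib.ProEtCont_helper7
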