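import Mathlib
import Groth.Prelude.Def_ProEtS
import Groth.Agent.Lib.LanExact_helper7
import Groth.Agent.Lib.AdjTripleUnit_helper7
import Groth.Agent.Lib.OverShriekBig_helper7
import Groth.Agent.Lib.ProEtCont_helper7

/-!
# Big and small pro-étale sites (helper7)

* restriction from the big pro-étale site of `S` to the small pro-étale site of an `S`-scheme `T`
  preserves injectives;
* `F → u^s u_s F` is an isomorphism and `R^q u^s (u_s F) = 0`.
-/

set_option autoImplicit false
set_option backward.isDefEq.respectTransparency false
universe u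
open CategoryTheory CategoryTheory.Limits AlgebraicGeometry Opposite

namespace Groth.Agent.Lib.ProEtBigSmall_helper7

section Derived

variable {A B : Type*} [Category A] [Abelian A] [Category B] [Abelian B]
  [HasInjectiveResolutions A]

/-- the higher right derived functors of an exact functor vanish -/
theorem isZero_rightDerived_of_exact (F : A ⥤ B) [F.Additive] [PreservesFiniteLimits F]
    [PreservesFiniteColimits F] (X : A) (q : ℕ) : IsZero ((F.rightDerived (q + 1)).obj X) := by
  refine IsZero.of_iso ?_ ((injectiveResolution X).isoRightDerivedObj F (q + 1))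
  refine (HomologicalComplex.exactAt_iff_isZero_homology _ _).1 ?_
  have h := (injectiveResolution X).cocomplex_exactAt_succ q
  have h' : ((injectiveResolution X).cocomplex.sc (q + 1)).Exact := h
  exact h'.map F

end Derived

variable (T : Scheme.{u})

instance ab5 : AB5OfSize.{u, u+1} AddCommGrpCat.{u+1} :=
  AB5OfSize_of_univLE.{u, u+1, u+1, u+1} AddCommGrpCat.{u+1}

theorem lan_forget_exact :
    PreservesFiniteLimits ((Scheme.ProEt.forget T).op.lan :
      (T.ProEtᵒᵖ ⥤ AddCommGrpCat.{u+1}) ⥤ (Over T)ᵒᵖ ⥤ AddCommGrpCat.{u+1}) := by
  haveI : ∀ X : (Over T)ᵒᵖ, IsFiltered (CostructuredArrow (Scheme.ProEt.forget T).op X) := fun X =>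
    IsFiltered.of_equivalence (structuredArrowOpEquivalence (Scheme.ProEt.forget T) (unop X))
  exact LanExact_helper7.lan_preservesFiniteLimits_of_flat AddCommGrpCat.{u+1}
    (Scheme.ProEt.forget T)

/-- restriction from the big to the small pro-étale site -/
noncomputable abbrev resP : Sheaf (Scheme.proetaleTopology.over T) AddCommGrpCat.{u+1} ⥤ ProEtS.AbP T :=
  (Scheme.ProEt.forget T).sheafPushforwardContinuous AddCommGrpCat.{u+1}
    (Scheme.ProEt.topology T) (Scheme.proetaleTopology.over T)

/-- its left adjoint -/
noncomputable abbrev pullP : ProEtS.AbP T ⥤ Sheaf (Scheme.proetaleTopology.over T) AddCommGrpCat.{u+1} :=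
  (Scheme.ProEt.forget T).sheafPullback AddCommGrpCat.{u+1}
    (Scheme.ProEt.topology T) (Scheme.proetaleTopology.over T)

noncomputable abbrev adjP : pullP T ⊣ resP T :=
  (Scheme.ProEt.forget T).sheafAdjunctionContinuous AddCommGrpCat.{u+1}
    (Scheme.ProEt.topology T) (Scheme.proetaleTopology.over T)

instance pull_exact : PreservesFiniteLimits (pullP T) := by
  haveI := lan_forget_exact T
  exact Functor.sheafPullbackConstruction.preservesFiniteLimits (Scheme.ProEt.forget T)
    AddCommGrpCat.{u+1} (Scheme.ProEt.topology T) (Scheme.proetaleTopology.over T)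

theorem resP_injective (I : Sheaf (Scheme.proetaleTopology.over T) AddCommGrpCat.{u+1})
    [Injective I] : Injective ((resP T).obj I) :=
  Injective.injective_of_adjoint (adjP T) I

instance cocont : (Scheme.ProEt.forget T).IsCocontinuous (Scheme.ProEt.topology T)
    (Scheme.proetaleTopology.over T) := by
  rw [ProEtCont_helper7.topology_eq]
  infer_instance

section Slice

variable {C : Type (u+1)} [Category.{u} C] (J : GrothendieckTopology C) {X : C} (U : Over X)

/-- restriction along the iterated slice equivalence preserves injectives -/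
theorem slice_injective (I₁ : Sheaf ((J.over X).over U) AddCommGrpCat.{u+1}) [Injective I₁] :
    Injective ((U.iteratedSliceBackward.sheafPushforwardContinuous AddCommGrpCat.{u+1}
      (J.over U.left) ((J.over X).over U)).obj I₁) := by
  let adjE : U.iteratedSliceForward ⊣ U.iteratedSliceBackward := U.iteratedSliceEquiv.toAdjunction
  let adjE' : U.iteratedSliceBackward ⊣ U.iteratedSliceForward :=
    U.iteratedSliceEquiv.symm.toAdjunction
  let adj₁ := adjE.sheafPushforwardContinuous (E := AddCommGrpCat.{u+1})
    ((J.over X).over U) (J.over U.left)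
  let adj₂ := adjE'.sheafPushforwardContinuous (E := AddCommGrpCat.{u+1})
    (J.over U.left) ((J.over X).over U)
  haveI : (U.iteratedSliceForward.sheafPushforwardContinuous AddCommGrpCat.{u+1}
      ((J.over X).over U) (J.over U.left)).PreservesMonomorphisms :=
    Functor.preservesMonomorphisms_of_adjunction adj₂
  exact Injective.injective_of_adjoint adj₁ I₁

end Slice

theorem main7295 {T S : Scheme.{u}} (f : T ⟶ S)
    [(Scheme.ProEt.forget T ⋙ Over.map f).IsContinuous (Scheme.ProEt.topology T)
      (Scheme.proetaleTopology.over S)]
    (I : Sheaf (Scheme.proetaleTopology.over S) AddCommGrpCat.{u + 1}) [Injective I] :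
    Injective (((Scheme.ProEt.forget T ⋙ Over.map f).sheafPushforwardContinuous AddCommGrpCat.{u + 1}
      (Scheme.ProEt.topology T) (Scheme.proetaleTopology.over S)).obj I) := by
  let I₁ := (OverShriekBig_helper7.restr (Over.mk f) (Scheme.proetaleTopology.over S)).obj I
  haveI : Injective I₁ := OverShriekBig_helper7.restr_injective (Over.mk f) _ I
  let I₂ := ((Over.mk f).iteratedSliceBackward.sheafPushforwardContinuous AddCommGrpCat.{u+1}
      (Scheme.proetaleTopology.over (Over.mk f).left)
      ((Scheme.proetaleTopology.over S).over (Over.mk f))).obj I₁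
  haveI : Injective I₂ := slice_injective Scheme.proetaleTopology (Over.mk f) I₁
  exact (resP_injective T I₂ : Injective ((resP T).obj I₂))

theorem main7296 (S : Scheme.{u})
    [((Scheme.ProEt.forget S).sheafPushforwardContinuous AddCommGrpCat.{u + 1} (Scheme.ProEt.topology S)
      (Scheme.proetaleTopology.over S)).Additive]
    [HasInjectiveResolutions (Sheaf (Scheme.proetaleTopology.over S) AddCommGrpCat.{u + 1})]
    (F : ProEtS.AbP S) :
    IsIso (((Scheme.ProEt.forget S).sheafAdjunctionContinuous AddCommGrpCat.{u + 1}
      (Scheme.ProEt.topology S) (Scheme.proetaleTopology.over S)).unit.app F) ∧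
    ∀ q : ℕ, 0 < q →
      IsZero ((((Scheme.ProEt.forget S).sheafPushforwardContinuous AddCommGrpCat.{u + 1}
        (Scheme.ProEt.topology S) (Scheme.proetaleTopology.over S)).rightDerived q).obj
        (((Scheme.ProEt.forget S).sheafPullback AddCommGrpCat.{u + 1} (Scheme.ProEt.topology S)
          (Scheme.proetaleTopology.over S)).obj F)) := by
  constructor
  · haveI := AdjTripleUnit_helper7.isIso_unit_cont (Scheme.ProEt.forget S) AddCommGrpCat.{u+1}
      (Scheme.ProEt.topology S) (Scheme.proetaleTopology.over S)
    infer_instance
  · intro q hq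
    obtain ⟨q, rfl⟩ := Nat.exists_eq_succ_of_ne_zero hq.ne'
    haveI : PreservesFiniteLimits (resP S) := by
      haveI : PreservesLimitsOfSize.{0, 0} (resP S) := (adjP S).rightAdjoint_preservesLimits
      exact PreservesLimitsOfSize.preservesFiniteLimits _
    haveI : PreservesFiniteColimits (resP S) := by
      haveI : PreservesColimitsOfSize.{0, 0} (resP S) :=
        ((Scheme.ProEt.forget S).sheafAdjunctionCocontinuous AddCommGrpCat.{u+1}
          (Scheme.ProEt.topology S) (Scheme.proetaleTopology.over S)).leftAdjoint_preservesColimits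
      exact PreservesColimitsOfSize.preservesFiniteColimits _
    exact isZero_rightDerived_of_exact (resP S) _ q

end Groth.Agent.Lib.ProEtBigSmall_helper7
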