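import Mathlib
import Groth.Prelude.Def_ProEtS
import Groth.Agent.Lib.ExtZeroVanish_helper3
import Groth.Agent.Lib.DenseCI3_helper3

/-!
# Gluing coverings of the pro-étale site along a closed subscheme and its open complement
(helper3)
-/

set_option autoImplicit false
set_option linter.all false
set_option maxHeartbeats 1600000
universe u

open AlgebraicGeometry CategoryTheory Limits Opposite TopologicalSpace

namespace Groth.Agent.Lib.ProEtGlueH3

open Groth.Agent.Lib.WCSiteH3 Groth.Agent.Lib.DenseCIH3 Groth.Agent.Lib.ExtZeroVanishH3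

/-- A sieve is covering as soon as, locally around each point, it contains finitely many
quasi-compact morphisms jointly surjective onto an open neighbourhood. -/
theorem mem_of_local_fin {Z : Scheme.{u}} (W : Z.ProEt) (S : Sieve W)
    (h : ∀ p : W.left, ∃ (O : Scheme.{u}) (o : O ⟶ W.left) (ι : Type) (_ : Finite ι)
      (T : ι → Z.ProEt)
      (g : ∀ k, T k ⟶ W) (g' : ∀ k, (T k).left ⟶ O), IsOpenImmersion o ∧ p ∈ Set.range o ∧
        (∀ k, g' k ≫ o = (g k).left) ∧ (∀ k, QuasiCompact (g' k)) ∧ (∀ k, S (g k)) ∧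
        ∀ y : O, ∃ k, y ∈ Set.range (g' k)) :
    S ∈ Scheme.ProEt.topology Z W := by
  choose O o ι hι T g g' hopen hp hfac hqc hS hcov using h
  haveI : ∀ p, Finite (ι p) := hι
  haveI : ∀ p, IsOpenImmersion (o p) := hopen
  haveI : ∀ p, WeaklyEtale (o p ≫ W.hom) := fun p => inferInstance
  let Ok : W.left → Z.ProEt := fun p => Scheme.ProEt.mk (o p ≫ W.hom)
  let ok : ∀ p, Ok p ⟶ W := fun p => MorphismProperty.Over.homMk (o p) rfl
  have hR : Sieve.generate (Presieve.ofArrows Ok ok) ∈ Scheme.ProEt.topology Z W :=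
    zariski_mem W Ok ok (fun p => hopen p) (fun x => ⟨x, hp x⟩)
  refine (Scheme.ProEt.topology Z).transitive hR S ?_
  rintro Y f ⟨Y', k, _, ⟨p⟩, rfl⟩
  rw [Sieve.pullback_comp]
  apply (Scheme.ProEt.topology Z).pullback_stable
  have hw : ∀ k, g' p k ≫ (Ok p).hom = (T p k).hom := by
    intro k
    show g' p k ≫ o p ≫ W.hom = _
    rw [← Category.assoc, hfac p k]
    exact MorphismProperty.Over.w (g p k)
  let gp : ∀ k, T p k ⟶ Ok p := fun k => MorphismProperty.Over.homMk (g' p k) (hw k)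
  have hgp : ∀ k, gp k ≫ ok p = g p k := by
    intro k
    apply MorphismProperty.Over.Hom.ext
    exact hfac p k
  have hfin : Sieve.generate (Presieve.ofArrows (T p) gp) ∈ Scheme.ProEt.topology Z (Ok p) :=
    ofArrows_mem_topology_of_finite (T p) gp (fun k => hqc p k) (fun y => hcov p y)
  refine (Scheme.ProEt.topology Z).superset_covering ?_ hfin
  rintro Y'' f' ⟨Y3, k', _, ⟨l⟩, rfl⟩
  show S ((k' ≫ gp l) ≫ ok p)
  rw [Category.assoc, hgp]
  exact S.downward_closed (hS p l) k'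

/-- The closed part of the gluing lemma. -/
theorem closed_part {X Z : Scheme.{u}} (i : Z ⟶ X) [IsClosedImmersion i] (V : X.ProEt)
    (R : Sieve V)
    (h1 : R.functorPushforward (ProEtS.bcP i) ∈
      Scheme.ProEt.topology Z ((ProEtS.bcP i).obj V))
    (O : V.left.Opens) (hO : IsAffineOpen O) :
    ∃ (n : ℕ) (T : Fin n → X.ProEt) (g : ∀ k, T k ⟶ V)
      (g' : ∀ k, (T k).left ⟶ (O : Scheme.{u})),
      (∀ k, g' k ≫ O.ι = (g k).left) ∧ (∀ k, QuasiCompact (g' k)) ∧ (∀ k, R (g k)) ∧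
      ∀ y : ↥(O : Scheme.{u}), V.hom (O.ι y) ∈ Set.range i → ∃ k, y ∈ Set.range (g' k) := by
  obtain ⟨OZ, hOZdef⟩ : ∃ OZ : (pullback V.hom i).Opens, OZ = pullback.fst V.hom i ⁻¹ᵁ O :=
    ⟨_, rfl⟩
  have hOZ : IsAffineOpen OZ := hOZdef ▸ hO.preimage (pullback.fst V.hom i)
  haveI : IsAffine (OZ : Scheme.{u}) := hOZ
  haveI : WeaklyEtale (pullback.snd V.hom i) := inferInstance
  haveI : WeaklyEtale (OZ.ι ≫ pullback.snd V.hom i) := inferInstance
  let A : Z.ProEt := Scheme.ProEt.mk (OZ.ι ≫ pullback.snd V.hom i)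
  let a : A ⟶ (ProEtS.bcP i).obj V := MorphismProperty.Over.homMk OZ.ι rfl
  have hA := (Scheme.ProEt.topology Z).pullback_stable a h1
  haveI : CompactSpace A.left := (inferInstance : CompactSpace (OZ : Scheme.{u}))
  obtain ⟨n, W, w, hWaff, hSw, hcov⟩ := exists_finite_affine A _ hA
  have hSw' : ∀ k, ∃ (V' : X.ProEt) (b : V' ⟶ V) (c : W k ⟶ (ProEtS.bcP i).obj V'),
      R b ∧ w k ≫ a = c ≫ (ProEtS.bcP i).map b := hSw
  choose V' b c hRb hfac using hSw'
  obtain ⟨cl, hcl⟩ : ∃ cl : ∀ k, (W k).left ⟶ pullback (V' k).hom i,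
      ∀ k, cl k = (c k).left := ⟨_, fun _ => rfl⟩
  obtain ⟨wl, hwl⟩ : ∃ wl : ∀ k, (W k).left ⟶ (OZ : Scheme.{u}),
      ∀ k, wl k = (w k).left := ⟨_, fun _ => rfl⟩
  obtain ⟨m, hm⟩ : ∃ m : ∀ k, (W k).left ⟶ (V' k).left,
      ∀ k, m k = cl k ≫ pullback.fst (V' k).hom i := ⟨_, fun _ => rfl⟩
  have hsub : ∀ t : ↥(pullback V.hom i), t ∈ OZ ↔ (pullback.fst V.hom i) t ∈ O := by
    intro t
    rw [hOZdef]
    rfl
  have key : ∀ k, m k ≫ (b k).left = wl k ≫ OZ.ι ≫ pullback.fst V.hom i := by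
    intro k
    obtain ⟨bm, hbm⟩ : ∃ bm : pullback (V' k).hom i ⟶ pullback V.hom i,
      bm = ((ProEtS.bcP i).map (b k)).left := ⟨_, rfl⟩
    have e1 : bm ≫ pullback.fst V.hom i = pullback.fst (V' k).hom i ≫ (b k).left := by
      rw [hbm]; exact pullback.lift_fst _ _ _
    have e2 : wl k ≫ OZ.ι = cl k ≫ bm := by
      rw [hbm, hwl, hcl]
      exact congrArg (fun t => t.left) (hfac k)
    rw [hm k]
    calc (cl k ≫ pullback.fst (V' k).hom i) ≫ (b k).left
        = cl k ≫ (pullback.fst (V' k).hom i ≫ (b k).left) := Category.assoc _ _ _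
      _ = cl k ≫ (bm ≫ pullback.fst V.hom i) := by rw [e1]
      _ = (cl k ≫ bm) ≫ pullback.fst V.hom i := (Category.assoc _ _ _).symm
      _ = (wl k ≫ OZ.ι) ≫ pullback.fst V.hom i := by rw [e2]
      _ = _ := Category.assoc _ _ _
  haveI : ∀ k, CompactSpace (W k).left := fun k => by haveI := hWaff k; infer_instance
  have hK : ∀ k, Set.range (m k) ⊆ ((b k).left ⁻¹ᵁ O : (V' k).left.Opens) := by
    rintro k _ ⟨x, rfl⟩
    show (b k).left (m k x) ∈ O
    have e : (b k).left (m k x) = (pullback.fst V.hom i) (OZ.ι (wl k x)) :=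
      congrArg (fun t => t.base x) (key k)
    rw [e]
    exact (hsub _).mp (wl k x).2
  have hQ : ∀ k, ∃ Q : (V' k).left.Opens, IsCompact (Q : Set (V' k).left) ∧
      Set.range (m k) ⊆ Q ∧ Q ≤ (b k).left ⁻¹ᵁ O := by
    intro k
    obtain ⟨Qs, hc, ho, h1, h2⟩ := PrespectralSpace.exists_isCompact_and_isOpen_between
      (isCompact_range (m k).continuous) ((b k).left ⁻¹ᵁ O).isOpen (hK k)
    exact ⟨⟨Qs, ho⟩, hc, h1, h2⟩
  choose Q hQc hKQ hQO using hQ
  haveI : ∀ k, WeaklyEtale ((Q k).ι ≫ (V' k).hom) := fun k => inferInstance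
  let T : Fin n → X.ProEt := fun k => Scheme.ProEt.mk ((Q k).ι ≫ (V' k).hom)
  let q : ∀ k, T k ⟶ V' k := fun k => MorphismProperty.Over.homMk (Q k).ι rfl
  have hrange : ∀ k, Set.range ((Q k).ι ≫ (b k).left) ⊆ Set.range O.ι := by
    rintro k _ ⟨x, rfl⟩
    rw [Scheme.Opens.range_ι]
    exact hQO k x.2
  refine ⟨n, T, fun k => q k ≫ b k,
    fun k => IsOpenImmersion.lift O.ι ((Q k).ι ≫ (b k).left) (hrange k), ?_, ?_, ?_, ?_⟩
  · intro k
    exact IsOpenImmersion.lift_fac _ _ _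
  · intro k
    haveI : CompactSpace ↥(T k).left := isCompact_iff_compactSpace.mp (hQc k)
    haveI : IsAffine (O : Scheme.{u}) := hO
    exact quasiCompact_of_compactSpace _
  · intro k
    exact R.downward_closed (hRb k) (q k)
  · rintro y ⟨z', hz'⟩
    obtain ⟨z, hz1, hz2⟩ := Scheme.Pullback.exists_preimage_pullback (f := V.hom) (g := i)
      (O.ι y) z' hz'.symm
    have hzO : z ∈ OZ := by
      rw [hsub, hz1]
      exact y.2
    obtain ⟨k, x, hx⟩ := hcov ⟨z, hzO⟩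
    refine ⟨k, ⟨m k x, hKQ k ⟨x, rfl⟩⟩, ?_⟩
    apply O.ι.isOpenEmbedding.injective
    have e0 : O.ι ((IsOpenImmersion.lift O.ι ((Q k).ι ≫ (b k).left) (hrange k))
        ⟨m k x, hKQ k ⟨x, rfl⟩⟩) = ((Q k).ι ≫ (b k).left) ⟨m k x, hKQ k ⟨x, rfl⟩⟩ :=
      congrArg (fun t => t.base ⟨m k x, hKQ k ⟨x, rfl⟩⟩)
        (IsOpenImmersion.lift_fac O.ι ((Q k).ι ≫ (b k).left) (hrange k))
    refine e0.trans ?_
    show (b k).left (m k x) = _
    have e : (b k).left (m k x) = (pullback.fst V.hom i) (OZ.ι (wl k x)) :=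
      congrArg (fun t => t.base x) (key k)
    rw [e, ← hz1]
    have hx' : wl k x = ⟨z, hzO⟩ := by rw [hwl]; exact hx
    rw [hx']
    rfl

/-- Gluing lemma: a sieve on `V` is covering if it contains everything lying over the open part
`U` and its base change to the closed part `Z` is covering. -/
theorem glue_mem {X Z U : Scheme.{u}} (i : Z ⟶ X) [IsClosedImmersion i] (j : U ⟶ X)
    [IsOpenImmersion j] [QuasiCompact j] (hc : Set.range j = (Set.range i)ᶜ)
    (V : X.ProEt) (R : Sieve V)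
    (h1 : R.functorPushforward (ProEtS.bcP i) ∈
      Scheme.ProEt.topology Z ((ProEtS.bcP i).obj V))
    (h2 : ∀ (T : X.ProEt) (g : T ⟶ V), Set.range (g.left ≫ V.hom) ⊆ Set.range j → R g) :
    R ∈ Scheme.ProEt.topology X V := by
  apply mem_of_local_fin
  intro p
  obtain ⟨_, ⟨O', hO', rfl⟩, hpO, -⟩ := V.left.isBasis_affineOpens.exists_subset_of_mem_open
    (Set.mem_univ p) isOpen_univ
  obtain ⟨O, hOeq⟩ : ∃ O : V.left.Opens, O = O' := ⟨_, rfl⟩
  have hO : IsAffineOpen O := hOeq ▸ hO'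
  have hpO' : p ∈ O := hOeq ▸ hpO
  obtain ⟨n, T, g, g', hfac, hqc, hR, hcov⟩ := closed_part i V R h1 O hO
  -- the open part
  haveI : WeaklyEtale (pullback.fst (O.ι ≫ V.hom) j ≫ O.ι ≫ V.hom) := inferInstance
  let T₀ : X.ProEt := Scheme.ProEt.mk (pullback.fst (O.ι ≫ V.hom) j ≫ O.ι ≫ V.hom)
  let g₀ : T₀ ⟶ V := MorphismProperty.Over.homMk (pullback.fst (O.ι ≫ V.hom) j ≫ O.ι)
    (Category.assoc _ _ _)
  have hR₀ : R g₀ := by
    apply h2
    rintro _ ⟨t, rfl⟩
    refine ⟨pullback.snd (O.ι ≫ V.hom) j t, ?_⟩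
    have e := congrArg (fun k => k.base t) (pullback.condition (f := O.ι ≫ V.hom) (g := j))
    have e' : j (pullback.snd (O.ι ≫ V.hom) j t) =
        (O.ι ≫ V.hom) (pullback.fst (O.ι ≫ V.hom) j t) := e.symm
    rw [e']
    rfl
  let T' : Option (Fin n) → X.ProEt := fun o => match o with
    | none => T₀
    | some k => T k
  let gg : ∀ o, T' o ⟶ V := fun o => match o with
    | none => g₀
    | some k => g k
  let gg' : ∀ o, (T' o).left ⟶ (O : Scheme.{u}) := fun o => match o with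
    | none => pullback.fst (O.ι ≫ V.hom) j
    | some k => g' k
  refine ⟨(O : Scheme.{u}), O.ι, Option (Fin n), inferInstance, T', gg, gg', inferInstance,
    ?_, ?_, ?_, ?_, ?_⟩
  · rw [Scheme.Opens.range_ι]
    exact hpO'
  · rintro (_ | k)
    · rfl
    · exact hfac k
  · rintro (_ | k)
    · show QuasiCompact (pullback.fst (O.ι ≫ V.hom) j)
      infer_instance
    · exact hqc k
  · rintro (_ | k)
    · exact hR₀
    · exact hR k
  · intro y
    by_cases h : V.hom (O.ι y) ∈ Set.range j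
    · obtain ⟨u, hu⟩ := h
      obtain ⟨t, ht1, ht2⟩ := Scheme.Pullback.exists_preimage_pullback (f := O.ι ≫ V.hom)
        (g := j) y u hu.symm
      exact ⟨none, t, ht1⟩
    · rw [hc] at h
      obtain ⟨k, hk⟩ := hcov y (not_not.mp h)
      exact ⟨some k, hk⟩

end Groth.Agent.Lib.ProEtGlueH3
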