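import Mathlib
import Groth.Prelude.Def_ProEtS
import Groth.Agent.Lib.ProEtGlue1_helper3
import Groth.Agent.Lib.LanProd2_helper3

/-!
# Joint conservativity of `j⁻¹` and `i⁻¹` on abelian pro-étale sheaves (helper3)
-/

set_option autoImplicit false
set_option linter.all false
set_option maxHeartbeats 1600000
universe u

open AlgebraicGeometry CategoryTheory Limits Opposite TopologicalSpace

namespace Groth.Agent.Lib.ProEtGlueH3

open Groth.Agent.Lib.WCSiteH3 Groth.Agent.Lib.DenseCIH3 Groth.Agent.Lib.ExtZeroVanishH3
  Groth.Agent.Lib.LanProdH3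

section General

variable {C : Type (u+1)} [Category.{u} C] {D : Type (u+1)} [Category.{u} D] (G : C ⥤ D)
  (F : Cᵒᵖ ⥤ AddCommGrpCat.{u+1}) (E : G.op.LeftExtension F)

/-- An element of a filtered pointwise left Kan extension which vanishes already vanishes at a
finite stage. -/
theorem exists_map_eq_zero (hE : E.IsPointwiseLeftKanExtension) {W : D}
    [IsCofiltered (StructuredArrow W G)] {V : C} (a : W ⟶ G.obj V) (s : F.obj (op V))
    (h : E.right.map a.op (E.hom.app (op V) s) = 0) :
    ∃ (V' : C) (b : V' ⟶ V) (c : W ⟶ G.obj V'), c ≫ G.map b = a ∧ F.map b.op s = 0 := by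
  haveI : IsFiltered (CostructuredArrow G.op (op W)) :=
    IsFiltered.of_equivalence (structuredArrowOpEquivalence G W)
  haveI : PreservesFilteredColimitsOfSize.{u, u+1} (forget AddCommGrpCat.{u+1}) :=
    preservesFilteredColimitsOfSize_shrink.{u+1, u+1, u, u+1} _
  let i0 : CostructuredArrow G.op (op W) := CostructuredArrow.mk (Y := op V) a.op
  have h' : (E.coconeAt (op W)).ι.app i0 s = (E.coconeAt (op W)).ι.app i0 0 := by
    rw [map_zero]
    exact h
  obtain ⟨k, p, q, hpq⟩ := Concrete.isColimit_exists_of_rep_eq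
    (CostructuredArrow.proj G.op (op W) ⋙ F) (i := i0) (j := i0) (hE (op W))
    (s : ToType ((CostructuredArrow.proj G.op (op W) ⋙ F).obj i0))
    (0 : ToType ((CostructuredArrow.proj G.op (op W) ⋙ F).obj i0)) h'
  refine ⟨k.left.unop, p.left.unop, k.hom.unop, ?_, ?_⟩
  · have := CostructuredArrow.w p
    exact congrArg Quiver.Hom.unop this
  · have hq : (CostructuredArrow.proj G.op (op W) ⋙ F).map q 0 = 0 := map_zero _
    rw [hq] at hpq
    exact hpq

end General

/-- Sections of `G` over objects lying over `U` vanish if `j⁻¹ G = 0`. -/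
theorem eq_zero_of_over {X U : Scheme.{u}} (j : U ⟶ X) [IsOpenImmersion j] [ProEtS.JPCont j]
    (G : ProEtS.AbP X) (hU : IsZero ((ProEtS.restrP j).obj G)) (T : X.ProEt)
    (hT : Set.range T.hom ⊆ Set.range j) (x : G.obj.obj (op T)) : x = 0 := by
  obtain ⟨l, hl⟩ : ∃ l : T.left ⟶ U, l ≫ j = T.hom :=
    ⟨IsOpenImmersion.lift j T.hom hT, IsOpenImmersion.lift_fac _ _ _⟩
  haveI : WeaklyEtale j := inferInstance
  let Uo : X.ProEt := Scheme.ProEt.mk j
  let lo : T ⟶ Uo := MorphismProperty.Over.homMk l hl
  haveI : WeaklyEtale l := weaklyEtale_left lo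
  let T' : U.ProEt := Scheme.ProEt.mk l
  let e : T ⟶ (ProEtS.compP j).obj T' := MorphismProperty.Over.homMk (𝟙 T.left)
    ((Category.id_comp _).trans hl)
  let e' : (ProEtS.compP j).obj T' ⟶ T := MorphismProperty.Over.homMk (𝟙 T.left)
    ((Category.id_comp _).trans hl.symm)
  have hee : e ≫ e' = 𝟙 T := by
    apply MorphismProperty.Over.Hom.ext
    exact Category.id_comp _
  have hz : IsZero (((ProEtS.restrP j).obj G).obj.obj (op T')) :=
    (Functor.isZero_iff _).mp ((sheafToPresheaf _ _).map_isZero hU) (op T')
  haveI : Subsingleton (G.obj.obj (op ((ProEtS.compP j).obj T'))) :=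
    AddCommGrpCat.subsingleton_of_isZero hz
  have h0 : G.obj.map e'.op x = 0 := Subsingleton.elim _ _
  have h1 : G.obj.map e.op (G.obj.map e'.op x) = x := by
    rw [← ConcreteCategory.comp_apply, ← Functor.map_comp, ← op_comp, hee, op_id,
      CategoryTheory.Functor.map_id]
    rfl
  rw [← h1, h0, map_zero]

/-- Joint conservativity of `j⁻¹` and `i⁻¹`: a sheaf whose restrictions to the open part and to
the closed complement vanish is zero. -/
theorem isZero_of_restr_pull {X Z U : Scheme.{u}} (i : Z ⟶ X) [IsClosedImmersion i] (j : U ⟶ X)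
    [IsOpenImmersion j] [QuasiCompact j] (hc : Set.range j = (Set.range i)ᶜ)
    [ProEtS.JPCont j] [ProEtS.PCont i] (G : ProEtS.AbP X)
    (hU : IsZero ((ProEtS.restrP j).obj G)) (hZ : IsZero ((ProEtS.pullP i).obj G)) :
    IsZero G := by
  have key : ∀ (V : X.ProEt) (s : G.obj.obj (op V)), s = 0 := by
    intro V s
    let R : Sieve V :=
      { arrows := fun V' b => G.obj.map b.op s = 0
        downward_closed := by
          intro Y Y' f hf g
          show G.obj.map (g ≫ f).op s = 0
          rw [op_comp, Functor.map_comp, ConcreteCategory.comp_apply, hf, map_zero] }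
    have hR : R ∈ Scheme.ProEt.topology X V := by
      refine glue_mem i j hc V R ?_ ?_
      · -- the closed part
        let e := Functor.sheafPullbackConstruction.sheafPullbackIso (ProEtS.bcP i)
          AddCommGrpCat.{u+1} (Scheme.ProEt.topology X) (Scheme.ProEt.topology Z)
        let P : Z.ProEtᵒᵖ ⥤ AddCommGrpCat.{u+1} := (ProEtS.bcP i).op.lan.obj G.obj
        let E : (ProEtS.bcP i).op.LeftExtension G.obj :=
          Functor.LeftExtension.mk _ ((ProEtS.bcP i).op.leftKanExtensionUnit G.obj)
        have hE : E.IsPointwiseLeftKanExtension :=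
          Functor.isPointwiseLeftKanExtensionLeftKanExtensionUnit _ _
        have hzQ : IsZero ((presheafToSheaf (Scheme.ProEt.topology Z) AddCommGrpCat.{u+1}).obj P) :=
          IsZero.of_iso hZ (e.app G).symm
        have hz : IsZero (((presheafToSheaf (Scheme.ProEt.topology Z)
            AddCommGrpCat.{u+1}).obj P).obj.obj (op ((ProEtS.bcP i).obj V))) :=
          (Functor.isZero_iff _).mp ((sheafToPresheaf _ _).map_isZero hzQ) _
        haveI : Subsingleton ((sheafify (Scheme.ProEt.topology Z) P).obj
            (op ((ProEtS.bcP i).obj V))) := AddCommGrpCat.subsingleton_of_isZero hz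
        obtain ⟨t, ht⟩ : ∃ t : P.obj (op ((ProEtS.bcP i).obj V)), t = E.hom.app (op V) s :=
          ⟨_, rfl⟩
        have hmem := Presheaf.equalizerSieve_mem (Scheme.ProEt.topology Z)
          (toSheafify (Scheme.ProEt.topology Z) P) (X := op ((ProEtS.bcP i).obj V)) t 0
          (Subsingleton.elim _ _)
        refine (Scheme.ProEt.topology Z).superset_covering ?_ hmem
        intro W a ha
        have ha' : P.map a.op t = 0 := by
          have : P.map a.op t = P.map a.op 0 := ha
          rw [this, map_zero]
        haveI := representablyFlat_bcP i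
        haveI : IsCofiltered (StructuredArrow W (ProEtS.bcP i)) := RepresentablyFlat.cofiltered _
        rw [ht] at ha'
        obtain ⟨V', b, c, hcb, hb⟩ := exists_map_eq_zero (ProEtS.bcP i) G.obj E hE a s ha'
        exact ⟨V', b, c, hb, hcb.symm⟩
      · -- the open part
        intro T g hT
        refine eq_zero_of_over j G hU T ?_ _
        rw [← MorphismProperty.Over.w g]
        exact hT
    refine Sheaf.isSeparated G V R hR s 0 ?_
    intro Y f hf
    rw [map_zero]
    exact hf
  rw [IsZero.iff_id_eq_zero]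
  apply Sheaf.hom_ext
  ext V x
  exact key V.unop _

end Groth.Agent.Lib.ProEtGlueH3
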