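import Mathlib
import Groth.Prelude.Def_ProEtS
import Groth.Agent.Lib.MonoCounit_helper7

/-!
# Open immersions on the pro-étale site: `j_!` and `j_*` are fully faithful (helper7)
-/

set_option autoImplicit false
set_option backward.isDefEq.respectTransparency false
universe u
open CategoryTheory CategoryTheory.Limits Opposite AlgebraicGeometry

namespace Groth.Agent.Lib.ProEtOpenImm_helper7

section General

variable {𝒞 : Type*} [Category 𝒞] (P : MorphismProperty 𝒞) [P.IsStableUnderComposition]
  {X Y : 𝒞} (f : X ⟶ Y) [P.HasPullbacksAlong f] [P.IsStableUnderBaseChangeAlong f] [Mono f]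
  (hPf : P f)

theorem isIso_unit_mapPullbackAdj :
    IsIso (MorphismProperty.Over.mapPullbackAdj P ⊤ f hPf trivial).unit := by
  haveI : ∀ U, IsIso ((MorphismProperty.Over.mapPullbackAdj P ⊤ f hPf trivial).unit.app U) := by
    intro U
    haveI : IsIso ((MorphismProperty.Over.forget P ⊤ X ⋙ Over.forget X).map
        ((MorphismProperty.Over.mapPullbackAdj P ⊤ f hPf trivial).unit.app U)) := by
      have h1 : pullback.fst (U.hom ≫ f) f ≫ U.hom = pullback.snd (U.hom ≫ f) f := by
        rw [← cancel_mono f, Category.assoc]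
        exact pullback.condition
      refine ⟨pullback.fst (U.hom ≫ f) f, pullback.lift_fst _ _ _, ?_⟩
      apply pullback.hom_ext
      · exact (Category.assoc _ _ _).trans ((congrArg (fun t => pullback.fst (U.hom ≫ f) f ≫ t)
          (pullback.lift_fst _ _ _)).trans ((Category.comp_id _).trans (Category.id_comp _).symm))
      · exact (Category.assoc _ _ _).trans ((congrArg (fun t => pullback.fst (U.hom ≫ f) f ≫ t)
          (pullback.lift_snd _ _ _)).trans (h1.trans (Category.id_comp _).symm))
    exact isIso_of_reflects_iso _ (MorphismProperty.Over.forget P ⊤ X ⋙ Over.forget X)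
  exact NatIso.isIso_of_isIso_app _

end General

theorem main {U X : Scheme.{u}} (j : U ⟶ X) [IsOpenImmersion j]
    [ProEtS.JPCont j] [ProEtS.PCont j] (F G : ProEtS.AbP U) :
    IsIso ((ProEtS.extZeroPAdj j).unit.app F) ∧ IsIso ((ProEtS.pullPushAdjP j).counit.app G) := by
  have hj : WeaklyEtale j := inferInstance
  let adj : ProEtS.compP j ⊣ ProEtS.bcP j :=
    MorphismProperty.Over.mapPullbackAdj (@WeaklyEtale) ⊤ j hj trivial
  haveI : IsIso adj.unit := isIso_unit_mapPullbackAdj (@WeaklyEtale) j hj
  let adj₂ : ProEtS.restrP j ⊣ ProEtS.pushP j :=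
    adj.sheafPushforwardContinuous (E := AddCommGrpCat.{u + 1}) (Scheme.ProEt.topology U)
      (Scheme.ProEt.topology X)
  haveI : IsIso adj₂.counit := by
    haveI : ∀ P, IsIso (adj₂.counit.app P) := fun P =>
      MonoCounit_helper7.isIso_counit_of_isIso_unit adj _ _ _ P
    exact NatIso.isIso_of_isIso_app _
  constructor
  · let t : Adjunction.Triple (ProEtS.extZeroP j) (ProEtS.restrP j) (ProEtS.pushP j) :=
      ⟨ProEtS.extZeroPAdj j, adj₂⟩
    haveI : IsIso (ProEtS.extZeroPAdj j).unit := t.isIso_unit_iff_isIso_counit.2 inferInstance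
    infer_instance
  · have h := Adjunction.leftAdjointUniq_hom_app_counit (ProEtS.pullPushAdjP j) adj₂ G
    rw [← h]
    infer_instance

end Groth.Agent.Lib.ProEtOpenImm_helper7
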