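import Mathlib
import Groth.Prelude.Def_ProEtS
import Groth.Agent.Lib.ProEtGlue2_helper3
import Groth.Agent.Lib.LanExact_helper7
import Groth.Agent.Lib.ProEtOpenImm_helper7
import Groth.Agent.Lib.DenseCI5_helper3
import Groth.Agent.S0730

/-!
# The sequence `0 → j_! j⁻¹ F → F → i_* i⁻¹ F → 0` on the pro-étale site (helper3)
-/

set_option autoImplicit false
set_option linter.all false
set_option maxHeartbeats 1600000
universe u

open AlgebraicGeometry CategoryTheory Limits Opposite TopologicalSpace

namespace Groth.Agent.Lib.ProEtGlueH3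

open Groth.Agent.Lib.WCSiteH3 Groth.Agent.Lib.DenseCIH3 Groth.Agent.Lib.ExtZeroVanishH3
  Groth.Agent.Lib.LanProdH3

/-- A sheaf all of whose sections vanish is zero. -/
theorem isZero_of_sections {X : Scheme.{u}} (G : ProEtS.AbP X)
    (h : ∀ (V : X.ProEt) (s : G.obj.obj (op V)), s = 0) : IsZero G := by
  rw [IsZero.iff_id_eq_zero]
  apply Sheaf.hom_ext
  ext V x
  exact h V.unop _

/-- Sections of an abelian sheaf over an empty object vanish. -/
theorem eq_zero_of_isEmpty {X : Scheme.{u}} (G : ProEtS.AbP X) (T : X.ProEt) [IsEmpty T.left]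
    (s : G.obj.obj (op T)) : s = 0 := by
  have h := Sheaf.isTerminalOfBotCover G T (Scheme.ProEt.bot_mem_topology T)
  have hz : IsZero (G.obj.obj (op T)) :=
    IsZero.of_iso (isZero_zero _) (h.uniqueUpToIso HasZeroObject.zeroIsTerminal)
  haveI := AddCommGrpCat.subsingleton_of_isZero hz
  exact Subsingleton.elim _ _

section

variable {X Z U : Scheme.{u}} (i : Z ⟶ X) (j : U ⟶ X) [IsOpenImmersion j]
  [ProEtS.JPCont j] [ProEtS.PCont i]

/-- `j⁻¹ i_* = 0` when the images of `j` and `i` are disjoint. -/
theorem isZero_restr_push (hd : Disjoint (Set.range j) (Set.range i)) (M : ProEtS.AbP Z) :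
    IsZero ((ProEtS.restrP j).obj ((ProEtS.pushP i).obj M)) := by
  apply isZero_of_sections
  intro T s
  haveI : IsEmpty ↥((ProEtS.bcP i).obj ((ProEtS.compP j).obj T)).left := by
    constructor
    intro p
    obtain ⟨p', hp'⟩ : ∃ p' : ↥(pullback (T.hom ≫ j) i), p' = p := ⟨_, rfl⟩
    have e := congrArg (fun k => k.base p') (pullback.condition (f := T.hom ≫ j) (g := i))
    have e' : j (T.hom (pullback.fst (T.hom ≫ j) i p')) = i (pullback.snd (T.hom ≫ j) i p') := e
    exact Set.disjoint_left.mp hd ⟨_, rfl⟩ ⟨_, e'.symm⟩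
  exact eq_zero_of_isEmpty M ((ProEtS.bcP i).obj ((ProEtS.compP j).obj T)) s

/-- `i⁻¹ j_! = 0` when the images of `j` and `i` are disjoint. -/
theorem isZero_pull_extZero (hd : Disjoint (Set.range j) (Set.range i)) (N : ProEtS.AbP U) :
    IsZero ((ProEtS.pullP i).obj ((ProEtS.extZeroP j).obj N)) := by
  rw [IsZero.iff_id_eq_zero]
  apply ((ProEtS.pullPushAdjP i).homEquiv _ _).injective
  apply ((ProEtS.extZeroPAdj j).homEquiv _ _).injective
  exact (isZero_restr_push i j hd _).eq_of_tgt _ _

/-- Every morphism `j_! A ⟶ i_* B` vanishes. -/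
theorem eq_zero_of_extZero_push (hd : Disjoint (Set.range j) (Set.range i)) {A : ProEtS.AbP U}
    {B : ProEtS.AbP Z} (f : (ProEtS.extZeroP j).obj A ⟶ (ProEtS.pushP i).obj B) : f = 0 := by
  apply ((ProEtS.extZeroPAdj j).homEquiv _ _).injective
  exact (isZero_restr_push i j hd _).eq_of_tgt _ _

end

section Exactness

variable {X U : Scheme.{u}} (j : U ⟶ X) [IsOpenImmersion j] [ProEtS.JPCont j]

/-- `j⁻¹` is also a left adjoint (of `j_*`). -/
noncomputable def restrPushAdj [ProEtS.PCont j] : ProEtS.restrP j ⊣ ProEtS.pushP j :=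
  have hj : WeaklyEtale j := inferInstance
  let adj : ProEtS.compP j ⊣ ProEtS.bcP j :=
    MorphismProperty.Over.mapPullbackAdj (@WeaklyEtale) ⊤ j hj trivial
  adj.sheafPushforwardContinuous (E := AddCommGrpCat.{u + 1}) (Scheme.ProEt.topology U)
      (Scheme.ProEt.topology X)

instance preservesFiniteLimits_restrP : PreservesFiniteLimits (ProEtS.restrP j) := by
  haveI := (ProEtS.extZeroPAdj j).rightAdjoint_preservesLimits
  infer_instance

instance preservesFiniteColimits_restrP : PreservesFiniteColimits (ProEtS.restrP j) := by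
  haveI : ProEtS.PCont j := Groth.Agent.S0730.result j
  haveI := (restrPushAdj j).leftAdjoint_preservesColimits
  infer_instance

end Exactness

section Exactness2

variable {X Z : Scheme.{u}} (i : Z ⟶ X) [ProEtS.PCont i]

instance preservesFiniteColimits_pullP : PreservesFiniteColimits (ProEtS.pullP i) := by
  haveI := (ProEtS.pullPushAdjP i).leftAdjoint_preservesColimits
  infer_instance

instance ab5' : AB5OfSize.{u, u+1} AddCommGrpCat.{u+1} :=
  AB5OfSize_of_univLE.{u, u+1, u+1, u+1} AddCommGrpCat.{u+1}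

instance preservesFiniteLimits_pullP : PreservesFiniteLimits (ProEtS.pullP i) := by
  haveI := representablyFlat_bcP i
  haveI : ∀ W : Z.ProEtᵒᵖ, IsFiltered (CostructuredArrow (ProEtS.bcP i).op W) := fun W =>
    IsFiltered.of_equivalence (structuredArrowOpEquivalence (ProEtS.bcP i) (unop W))
  haveI : PreservesFiniteLimits ((ProEtS.bcP i).op.lan :
      (X.ProEtᵒᵖ ⥤ AddCommGrpCat.{u+1}) ⥤ Z.ProEtᵒᵖ ⥤ AddCommGrpCat.{u+1}) :=
    LanExact_helper7.lan_preservesFiniteLimits_of_flat AddCommGrpCat.{u+1} (ProEtS.bcP i)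
  exact Functor.sheafPullbackConstruction.preservesFiniteLimits (ProEtS.bcP i)
    AddCommGrpCat.{u+1} (Scheme.ProEt.topology X) (Scheme.ProEt.topology Z)

end Exactness2

section Main

variable {X Z U : Scheme.{u}} (i : Z ⟶ X) [IsClosedImmersion i] (j : U ⟶ X) [IsOpenImmersion j]
  [QuasiCompact j] [ProEtS.JPCont j] [ProEtS.PCont i]

/-- `j⁻¹` of the counit `j_! j⁻¹ F → F` is an isomorphism. -/
theorem isIso_restr_counit (F : ProEtS.AbP X) :
    IsIso ((ProEtS.restrP j).map ((ProEtS.extZeroPAdj j).counit.app F)) := by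
  haveI : ProEtS.PCont j := Groth.Agent.S0730.result j
  haveI : IsIso ((ProEtS.extZeroPAdj j).unit.app ((ProEtS.restrP j).obj F)) :=
    (ProEtOpenImm_helper7.main j ((ProEtS.restrP j).obj F) ((ProEtS.restrP j).obj F)).1
  have h := (ProEtS.extZeroPAdj j).right_triangle_components F
  haveI : IsIso ((ProEtS.extZeroPAdj j).unit.app ((ProEtS.restrP j).obj F) ≫
      (ProEtS.restrP j).map ((ProEtS.extZeroPAdj j).counit.app F)) := by
    rw [h]; exact IsIso.id _
  exact IsIso.of_isIso_comp_left ((ProEtS.extZeroPAdj j).unit.app ((ProEtS.restrP j).obj F)) _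

/-- `i⁻¹` of the unit `F → i_* i⁻¹ F` is an isomorphism. -/
theorem isIso_pull_unit (F : ProEtS.AbP X) :
    IsIso ((ProEtS.pullP i).map ((ProEtS.pullPushAdjP i).unit.app F)) := by
  haveI : IsIso ((ProEtS.pullPushAdjP i).counit.app ((ProEtS.pullP i).obj F)) :=
    main0741 i _
  have h := (ProEtS.pullPushAdjP i).left_triangle_components F
  haveI : IsIso ((ProEtS.pullP i).map ((ProEtS.pullPushAdjP i).unit.app F) ≫
      (ProEtS.pullPushAdjP i).counit.app ((ProEtS.pullP i).obj F)) := by
    rw [h]; exact IsIso.id _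
  exact IsIso.of_isIso_comp_right _ ((ProEtS.pullPushAdjP i).counit.app ((ProEtS.pullP i).obj F))

/-- A complex which becomes `≅ → 0` after `j⁻¹` and `0 → ≅` after `i⁻¹` is short exact. -/
theorem shortExact_of_restr_pull (hc : Set.range j = (Set.range i)ᶜ)
    (S : ShortComplex (ProEtS.AbP X))
    (hz1 : IsZero ((ProEtS.pullP i).obj S.X₁)) (hz3 : IsZero ((ProEtS.restrP j).obj S.X₃))
    (hjf : IsIso ((ProEtS.restrP j).map S.f)) (hig : IsIso ((ProEtS.pullP i).map S.g)) :
    S.ShortExact := by
  -- mono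
  haveI : Mono S.f := by
    apply Preadditive.mono_of_kernel_zero
    have hK : IsZero (kernel S.f) := by
      apply isZero_of_restr_pull i j hc
      · have h0 : (ProEtS.restrP j).map (kernel.ι S.f) = 0 := by
          have : (ProEtS.restrP j).map (kernel.ι S.f) ≫ (ProEtS.restrP j).map S.f = 0 := by
            rw [← Functor.map_comp, kernel.condition, Functor.map_zero]
          exact zero_of_comp_mono _ this
        exact IsZero.of_mono_eq_zero _ h0
      · exact IsZero.of_mono ((ProEtS.pullP i).map (kernel.ι S.f)) hz1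
    exact hK.eq_of_src _ _
  -- epi
  haveI : Epi S.g := by
    apply Preadditive.epi_of_cokernel_zero
    have hQ : IsZero (cokernel S.g) := by
      apply isZero_of_restr_pull i j hc
      · exact IsZero.of_epi ((ProEtS.restrP j).map (cokernel.π S.g)) hz3
      · have h0 : (ProEtS.pullP i).map (cokernel.π S.g) = 0 := by
          have : (ProEtS.pullP i).map S.g ≫ (ProEtS.pullP i).map (cokernel.π S.g) = 0 := by
            rw [← Functor.map_comp, cokernel.condition, Functor.map_zero]
          exact zero_of_epi_comp _ this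
        exact IsZero.of_epi_eq_zero _ h0
    exact hQ.eq_of_tgt _ _
  -- exactness in the middle
  have hex : S.Exact := by
    rw [ShortComplex.exact_iff_isZero_homology]
    apply isZero_of_restr_pull i j hc
    · refine IsZero.of_iso ?_ (S.mapHomologyIso (ProEtS.restrP j)).symm
      rw [← ShortComplex.exact_iff_isZero_homology]
      have hg0 : (S.map (ProEtS.restrP j)).g = 0 := hz3.eq_of_tgt _ _
      rw [ShortComplex.exact_iff_epi _ hg0]
      show Epi ((ProEtS.restrP j).map S.f)
      infer_instance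
    · refine IsZero.of_iso ?_ (S.mapHomologyIso (ProEtS.pullP i)).symm
      rw [← ShortComplex.exact_iff_isZero_homology]
      have hf0 : (S.map (ProEtS.pullP i)).f = 0 := hz1.eq_of_src _ _
      rw [ShortComplex.exact_iff_mono _ hf0]
      show Mono ((ProEtS.pullP i).map S.g)
      infer_instance
  exact ShortComplex.ShortExact.mk hex

theorem main0726 (hc : Set.range j = (Set.range i)ᶜ) (F : ProEtS.AbP X) :
    ∃ h : (ProEtS.extZeroPAdj j).counit.app F ≫ (ProEtS.pullPushAdjP i).unit.app F = 0,
      (ShortComplex.mk _ _ h).ShortExact := by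
  have hd : Disjoint (Set.range j) (Set.range i) := by
    rw [hc]
    exact disjoint_compl_left
  have h : (ProEtS.extZeroPAdj j).counit.app F ≫ (ProEtS.pullPushAdjP i).unit.app F = 0 :=
    eq_zero_of_extZero_push i j hd _
  refine ⟨h, ?_⟩
  apply shortExact_of_restr_pull i j hc
  · exact isZero_pull_extZero i j hd _
  · exact isZero_restr_push i j hd _
  · exact isIso_restr_counit j F
  · exact isIso_pull_unit i F

end Main

end Groth.Agent.Lib.ProEtGlueH3
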