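import Mathlib
import Groth.Prelude.Def_DerCA
import Groth.Agent.S6587
import Groth.Agent.Lib.TruncChain_helper4

set_option autoImplicit false
set_option linter.style.haveILetI false

universe w v u

open CategoryTheory Limits Pretriangulated DerivedCategory Opposite

namespace Groth.Agent.Lib.ProIsoDH4

open Groth.Agent.Lib.TruncChainH4 Groth.Agent.S6587

section ConeSystem

variable {D : Type*} [Category D] [Preadditive D] [HasZeroObject D] [HasShift D ℤ]
  [∀ n : ℤ, (shiftFunctor D n).Additive] [Pretriangulated D]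

/-- A levelwise map of inverse systems can be completed to an inverse system of
distinguished triangles. -/
theorem exists_cone_system (X Y : ARSys.PS D) (f : X ⟶ Y) :
    ∃ (Z : ARSys.PS D) (g : Y ⟶ Z) (h : Z ⟶ X ⋙ shiftFunctor D (1 : ℤ)),
      ∀ n : ℕ, Triangle.mk (f.app (op n)) (g.app (op n)) (h.app (op n)) ∈ distTriang D := by
  choose Z0 g0 h0 hT using fun n : ℕ => distinguished_cocone_triangle (f.app (op n))
  have hc : ∀ n : ℕ, ∃ c : Z0 (n + 1) ⟶ Z0 n,
      g0 (n + 1) ≫ c = Y.map (homOfLE (n.le_add_right 1)).op ≫ g0 n ∧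
      h0 (n + 1) ≫ (X.map (homOfLE (n.le_add_right 1)).op)⟦(1 : ℤ)⟧' = c ≫ h0 n := by
    intro n
    obtain ⟨c, hc1, hc2⟩ := complete_distinguished_triangle_morphism _ _ (hT (n + 1)) (hT n)
      (X.map (homOfLE (n.le_add_right 1)).op) (Y.map (homOfLE (n.le_add_right 1)).op)
      (f.naturality _).symm
    exact ⟨c, hc1, hc2⟩
  choose c hc1 hc2 using hc
  let Z : ARSys.PS D := Functor.ofOpSequence c
  let g : Y ⟶ Z := NatTrans.ofOpSequence (G := Z) (fun n => g0 n) (fun n => by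
    rw [Functor.ofOpSequence_map_homOfLE_succ]
    exact (hc1 n).symm)
  let h : Z ⟶ X ⋙ shiftFunctor D (1 : ℤ) :=
    NatTrans.ofOpSequence (F := Z) (G := X ⋙ shiftFunctor D (1 : ℤ)) (fun n => h0 n) (fun n => by
      rw [Functor.ofOpSequence_map_homOfLE_succ]
      exact (hc2 n).symm)
  exact ⟨Z, g, h, fun n => hT n⟩

end ConeSystem

variable {A : Type u} [Category.{v} A] [Abelian A] [HasDerivedCategory.{w} A]

/-- The cohomology systems of the cones are pro-zero when `f` is a pro-isomorphism on cohomology. -/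
theorem homology_proZero (X Y Z : ARSys.PS (DerivedCategory A)) (f : X ⟶ Y) (g : Y ⟶ Z)
    (h : Z ⟶ X ⋙ shiftFunctor (DerivedCategory A) (1 : ℤ))
    (hT : ∀ n : ℕ, Triangle.mk (f.app (op n)) (g.app (op n)) (h.app (op n)) ∈
      distTriang (DerivedCategory A))
    (hH : ∀ i : ℤ, DerCA.IsProIso (Functor.whiskerRight f (homologyFunctor A i))) (p : ℤ) :
    ∀ n : ℕ, ∃ (m : ℕ) (hnm : n ≤ m), (homologyFunctor A p).map (ARSys.tr Z hnm) = 0 := by
  intro n
  obtain ⟨m1, h1, β, -, hβ⟩ := hH p n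
  obtain ⟨m2, h2, β', hβ', -⟩ := hH (p + 1) m1
  refine ⟨m2, h1.trans h2, ?_⟩
  have hβ1 : β ≫ (homologyFunctor A p).map (f.app (op n)) =
      (homologyFunctor A p).map (ARSys.tr Y h1) := hβ
  have hβ2 : (homologyFunctor A (p + 1)).map (f.app (op m2)) ≫ β' =
      (homologyFunctor A (p + 1)).map (ARSys.tr X h2) := hβ'
  have star : (homologyFunctor A p).map (g.app (op m1)) ≫
      (homologyFunctor A p).map (ARSys.tr Z h1) = 0 := by
    have e1 : g.app (op m1) ≫ ARSys.tr Z h1 = ARSys.tr Y h1 ≫ g.app (op n) :=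
      (tr_naturality g h1).symm
    have e2 : f.app (op n) ≫ g.app (op n) = 0 := comp_distTriang_mor_zero₁₂ _ (hT n)
    rw [← CategoryTheory.Functor.map_comp, e1, CategoryTheory.Functor.map_comp, ← hβ1,
      Category.assoc, ← CategoryTheory.Functor.map_comp, e2, CategoryTheory.Functor.map_zero,
      comp_zero]
  let φ : Triangle.mk (f.app (op m2)) (g.app (op m2)) (h.app (op m2)) ⟶
      Triangle.mk (f.app (op m1)) (g.app (op m1)) (h.app (op m1)) :=
    { hom₁ := ARSys.tr X h2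
      hom₂ := ARSys.tr Y h2
      hom₃ := ARSys.tr Z h2
      comm₁ := (f.naturality _).symm
      comm₂ := (g.naturality _).symm
      comm₃ := (h.naturality _).symm }
  obtain ⟨d1, hd1⟩ : ∃ d1 : (homologyFunctor A p).obj (Z.obj (op m1)) ⟶
      (homologyFunctor A (p + 1)).obj (X.obj (op m1)),
      d1 = HomologySequence.δ (Triangle.mk (f.app (op m1)) (g.app (op m1)) (h.app (op m1)))
        p (p + 1) rfl := ⟨_, rfl⟩
  obtain ⟨d2, hd2⟩ : ∃ d2 : (homologyFunctor A p).obj (Z.obj (op m2)) ⟶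
      (homologyFunctor A (p + 1)).obj (X.obj (op m2)),
      d2 = HomologySequence.δ (Triangle.mk (f.app (op m2)) (g.app (op m2)) (h.app (op m2)))
        p (p + 1) rfl := ⟨_, rfl⟩
  have nat : (homologyFunctor A p).map (ARSys.tr Z h2) ≫ d1 =
      d2 ≫ (homologyFunctor A (p + 1)).map (ARSys.tr X h2) := by
    rw [hd1, hd2]
    exact (homologyFunctor A 0).homologySequenceδ_naturality _ _ φ p (p + 1) rfl
  have hδ : d2 ≫ (homologyFunctor A (p + 1)).map (f.app (op m2)) = 0 := by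
    rw [hd2]
    exact HomologySequence.δ_comp _ (hT m2) p (p + 1) rfl
  have h3 : (homologyFunctor A p).map (ARSys.tr Z h2) ≫ d1 = 0 := by
    rw [nat, ← hβ2, ← Category.assoc, hδ, zero_comp]
  subst hd1
  obtain ⟨A', π, hπ, x₁, hx⟩ : ∃ (A' : A) (π : A' ⟶ (homologyFunctor A p).obj (Z.obj (op m2)))
      (_ : Epi π) (x₁ : A' ⟶ (homologyFunctor A p).obj (Y.obj (op m1))),
      π ≫ (homologyFunctor A p).map (ARSys.tr Z h2) =
        x₁ ≫ (homologyFunctor A p).map (g.app (op m1)) :=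
    (HomologySequence.exact₃ _ (hT m1) p (p + 1) rfl).exact_up_to_refinements
      ((homologyFunctor A p).map (ARSys.tr Z h2)) h3
  have h4 : (homologyFunctor A p).map (ARSys.tr Z h2) ≫
      (homologyFunctor A p).map (ARSys.tr Z h1) = 0 := by
    rw [← cancel_epi π, ← Category.assoc, hx, Category.assoc, star, comp_zero, comp_zero]
  rw [← tr_comp Z h1 h2, CategoryTheory.Functor.map_comp]
  exact h4

section ProZero

variable (Z : ARSys.PS (DerivedCategory A)) (a' b : ℤ)
  (hge : ∀ n : ℕ, (Z.obj (op n)).IsGE a') (hle : ∀ n : ℕ, (Z.obj (op n)).IsLE b)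
  (hz : ∀ (p : ℤ) (n : ℕ), ∃ (m : ℕ) (hnm : n ≤ m), (homologyFunctor A p).map (ARSys.tr Z hnm) = 0)

include hge hle hz

lemma uniform_zero : ∀ n : ℕ, ∃ (m : ℕ) (hnm : n ≤ m),
    ∀ p : ℤ, (homologyFunctor A p).map (ARSys.tr Z hnm) = 0 := by
  have claim : ∀ (r : ℕ) (n : ℕ), ∃ (m : ℕ) (hnm : n ≤ m),
      ∀ p : ℤ, a' ≤ p → p < a' + r → (homologyFunctor A p).map (ARSys.tr Z hnm) = 0 := by
    intro r
    induction r with
    | zero =>
      intro n
      exact ⟨n, le_refl n, fun p h1 h2 => by exfalso; simp at h2; omega⟩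
    | succ r ih =>
      intro n
      obtain ⟨m1, h1, hm1⟩ := ih n
      obtain ⟨m2, h2, hm2⟩ := hz (a' + r) m1
      refine ⟨m2, h1.trans h2, fun p hp1 hp2 => ?_⟩
      rw [← tr_comp Z h1 h2, CategoryTheory.Functor.map_comp]
      by_cases hp : p < a' + r
      · rw [hm1 p hp1 hp, comp_zero]
      · obtain rfl : p = a' + r := by push_cast at hp2; omega
        rw [hm2, zero_comp]
  intro n
  obtain ⟨m, hnm, hm⟩ := claim ((b - a' + 1).toNat) n
  refine ⟨m, hnm, fun p => ?_⟩
  by_cases hp1 : a' ≤ p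
  · by_cases hp2 : p ≤ b
    · have := Int.self_le_toNat (b - a' + 1)
      exact hm p hp1 (by omega)
    · haveI := hle m
      exact (isZero_of_isLE (Z.obj (op m)) b p (by omega)).eq_of_src _ _
  · haveI := hge m
    exact (isZero_of_isGE (Z.obj (op m)) a' p (by omega)).eq_of_src _ _

lemma exists_chain : ∀ (N : ℕ) (n : ℕ), ∃ (m : ℕ) (hnm : n ≤ m),
    Chain a' b (b + 1) (ARSys.tr Z hnm) N := by
  intro N
  induction N with
  | zero =>
    intro n
    refine ⟨n, le_refl n, ?_⟩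
    have h0 : ARSys.tr Z (le_refl n) = 𝟙 _ := Z.map_id (op n)
    rw [h0]
    exact Chain.id _ (hge n) (hle n)
  | succ N ih =>
    intro n
    obtain ⟨m1, h1, hch⟩ := ih n
    obtain ⟨m2, h2, hz2⟩ := uniform_zero Z a' b hge hle hz m1
    refine ⟨m2, h1.trans h2, ?_⟩
    rw [← tr_comp Z h1 h2]
    exact Chain.cons _ _ N (hge m2) (hle m2) (fun p _ => hz2 p) hch

lemma isProZero : DerCA.IsProZero Z := by
  intro n
  obtain ⟨m, hnm, hch⟩ := exists_chain Z a' b hge hle hz ((b - a' + 1).toNat) n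
  refine ⟨m, hnm, Chain.eq_zero _ a' b ?_ _ hch⟩
  have := Int.self_le_toNat (b - a' + 1)
  omega

end ProZero

theorem main (X Y : ARSys.PS (DerivedCategory A)) (f : X ⟶ Y) (a b : ℤ)
    (hX : ∀ (n : ℕ) (i : ℤ), i < a ∨ b < i →
      IsZero ((homologyFunctor A i).obj (X.obj (op n))))
    (hY : ∀ (n : ℕ) (i : ℤ), i < a ∨ b < i →
      IsZero ((homologyFunctor A i).obj (Y.obj (op n))))
    (hH : ∀ i : ℤ, DerCA.IsProIso (Functor.whiskerRight f (homologyFunctor A i))) :
    DerCA.IsProIso f := by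
  obtain ⟨Z, g, h, hT⟩ := exists_cone_system X Y f
  have hZge : ∀ n : ℕ, (Z.obj (op n)).IsGE (a - 1) := fun n => by
    rw [isGE_iff]
    intro p hp
    refine (HomologySequence.exact₃ _ (hT n) p (p + 1) rfl).isZero_of_both_zeros ?_ ?_
    · exact (hY n p (Or.inl (by omega))).eq_of_src _ _
    · exact (hX n (p + 1) (Or.inl (by omega))).eq_of_tgt _ _
  have hZle : ∀ n : ℕ, (Z.obj (op n)).IsLE b := fun n => by
    rw [isLE_iff]
    intro p hp
    refine (HomologySequence.exact₃ _ (hT n) p (p + 1) rfl).isZero_of_both_zeros ?_ ?_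
    · exact (hY n p (Or.inr hp)).eq_of_src _ _
    · exact (hX n (p + 1) (Or.inr (by omega))).eq_of_tgt _ _
  have hZ : DerCA.IsProZero Z :=
    isProZero Z (a - 1) b hZge hZle (fun p => homology_proZero X Y Z f g h hT hH p)
  exact Groth.Agent.S6587.result X Y Z f g h hT hZ

end Groth.Agent.Lib.ProIsoDH4
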