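import Mathlib
import Groth.Prelude.Def_DerCA
import Groth.Agent.Lib.ProIsoD_helper4

/-!
# Pro-systems of complexes of modules, I (helper1)

General machinery: for a short exact sequence of inverse systems of complexes of modules over a
Noetherian ring `0 → Z → T → Y → 0` such that the transition maps of `Z` are `I`-divisible and the
cohomology of each `Z_n` is killed by a power of `I`, the map `T → Y` is a pro-isomorphism in the
derived category (Artin–Rees + the ghost lemma of helper4).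
-/

set_option autoImplicit false
set_option linter.style.haveILetI false

universe u

open CategoryTheory CategoryTheory.Limits Opposite DerivedCategory Pretriangulated

attribute [local instance] HasDerivedCategory.standard

namespace Groth.Agent.Lib.ProKosH1

open Groth.Agent.S6587

section ProIso

variable {C : Type*} [Category C]

/-- the one-step transition map of an inverse system -/
abbrev stp (Z : ℕᵒᵖ ⥤ C) (n : ℕ) : Z.obj (op (n + 1)) ⟶ Z.obj (op n) :=
  Z.map (homOfLE (Nat.le_add_right n 1)).op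

lemma tr_eq_tr_stp (Z : ℕᵒᵖ ⥤ C) {n m : ℕ} (h : n ≤ m) (h1 : n + 1 ≤ m) :
    ARSys.tr Z h = ARSys.tr Z h1 ≫ stp Z n := by
  dsimp only [ARSys.tr, stp]
  rw [← Z.map_comp]
  rfl

lemma isProIso_of_isIso {X Y : ARSys.PS C} (a : X ⟶ Y) (h : ∀ n : ℕ, IsIso (a.app (op n))) :
    DerCA.IsProIso a := by
  intro n
  haveI := h n
  refine ⟨n, le_rfl, inv (a.app (op n)), ?_, ?_⟩
  · rw [IsIso.hom_inv_id]
    exact (X.map_id _).symm
  · rw [IsIso.inv_hom_id]
    exact (Y.map_id _).symm

lemma isProIso_comp {X Y Z : ARSys.PS C} {a : X ⟶ Y} {b : Y ⟶ Z} (ha : DerCA.IsProIso a)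
    (hb : DerCA.IsProIso b) : DerCA.IsProIso (a ≫ b) := by
  intro n
  obtain ⟨m1, h1, c1, hc1, hc1'⟩ := ha n
  obtain ⟨m2, h2, c2, hc2, hc2'⟩ := hb m1
  refine ⟨m2, h1.trans h2, c2 ≫ c1, ?_, ?_⟩
  · rw [NatTrans.comp_app, Category.assoc, ← Category.assoc (b.app (op m2)), hc2,
      ← Category.assoc, ← tr_naturality a h2, Category.assoc, hc1, tr_comp]
  · rw [NatTrans.comp_app, Category.assoc, ← Category.assoc c1, hc1', tr_naturality b h1,
      ← Category.assoc, hc2', tr_comp]

/-- two out of three for pro-isomorphisms -/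
lemma isProIso_of_comp {X Y Z : ARSys.PS C} {a : X ⟶ Y} {b : Y ⟶ Z} (ha : DerCA.IsProIso a)
    (hab : DerCA.IsProIso (a ≫ b)) : DerCA.IsProIso b := by
  intro n
  obtain ⟨m2, h2, c2, hc2, hc2'⟩ := hab n
  obtain ⟨m3, h3, c3, -, hc3'⟩ := ha m2
  rw [NatTrans.comp_app] at hc2 hc2'
  have hc2n : a.app (op m2) ≫ b.app (op m2) ≫ c2 = ARSys.tr X h2 := by
    simpa only [Category.assoc] using hc2
  refine ⟨m3, h2.trans h3, ARSys.tr Z h3 ≫ c2 ≫ a.app (op n), ?_, ?_⟩
  · have e1 : b.app (op m3) ≫ ARSys.tr Z h3 = ARSys.tr Y h3 ≫ b.app (op m2) :=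
      (tr_naturality b h3).symm
    calc b.app (op m3) ≫ ARSys.tr Z h3 ≫ c2 ≫ a.app (op n)
        = (b.app (op m3) ≫ ARSys.tr Z h3) ≫ c2 ≫ a.app (op n) := by
          simp only [Category.assoc]
      _ = (ARSys.tr Y h3 ≫ b.app (op m2)) ≫ c2 ≫ a.app (op n) := by rw [e1]
      _ = c3 ≫ (a.app (op m2) ≫ b.app (op m2) ≫ c2) ≫ a.app (op n) := by
          rw [← hc3']
          simp only [Category.assoc]
      _ = c3 ≫ ARSys.tr X h2 ≫ a.app (op n) := by rw [hc2n]
      _ = c3 ≫ a.app (op m2) ≫ ARSys.tr Y h2 := by rw [tr_naturality a h2]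
      _ = ARSys.tr Y h3 ≫ ARSys.tr Y h2 := by rw [← Category.assoc, hc3']
      _ = ARSys.tr Y (h2.trans h3) := tr_comp Y h2 h3
  · rw [Category.assoc, Category.assoc, hc2', tr_comp]

lemma isProIso_whiskerRight {D : Type*} [Category D] {X Y : ARSys.PS C} {a : X ⟶ Y}
    (ha : DerCA.IsProIso a) (F : C ⥤ D) : DerCA.IsProIso (Functor.whiskerRight a F) := by
  intro n
  obtain ⟨m, h, c, hc, hc'⟩ := ha n
  refine ⟨m, h, F.map c, ?_, ?_⟩
  · show F.map (a.app (op m)) ≫ F.map c = F.map (ARSys.tr X h)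
    rw [← F.map_comp, hc]
  · show F.map c ≫ F.map (a.app (op n)) = F.map (ARSys.tr Y h)
    rw [← F.map_comp, hc']

end ProIso

variable {A : Type u} [CommRing A]

/-! ### Divisibility and killing -/

/-- the transition maps of the system are divisible by `I` (termwise) -/
def IDiv (I : Ideal A) (Z : ℕᵒᵖ ⥤ DRing.Cx A) : Prop :=
  ∀ (n : ℕ) (i : ℤ) (z : (Z.obj (op (n + 1))).X i),
    ((stp Z n).f i).hom z ∈ (I • ⊤ : Submodule A ((Z.obj (op n)).X i))

lemma idiv_tr {I : Ideal A} {Z : ℕᵒᵖ ⥤ DRing.Cx A} (hZ : IDiv I Z) :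
    ∀ (k n m : ℕ) (h : n ≤ m), m = n + k → ∀ (i : ℤ) (z : (Z.obj (op m)).X i),
      ((ARSys.tr Z h).f i).hom z ∈ (I ^ k • ⊤ : Submodule A ((Z.obj (op n)).X i)) := by
  intro k
  induction k with
  | zero =>
    intro n m h hm i z
    rw [pow_zero, Ideal.one_eq_top, Submodule.top_smul]
    trivial
  | succ k ih =>
    intro n m h hm i z
    have h1 : n + 1 ≤ m := by omega
    rw [tr_eq_tr_stp Z h h1, HomologicalComplex.comp_f, ModuleCat.hom_comp, LinearMap.comp_apply]
    have hz := ih (n + 1) m h1 (by omega) i z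
    have hle : (I ^ k • ⊤ : Submodule A ((Z.obj (op (n + 1))).X i)).map ((stp Z n).f i).hom ≤
        I ^ (k + 1) • ⊤ := by
      rw [Submodule.map_smul'', pow_succ, Submodule.mul_smul]
      refine Submodule.smul_mono le_rfl ?_
      rintro _ ⟨x, -, rfl⟩
      exact hZ n i x
    exact hle (Submodule.mem_map_of_mem hz)

/-- the cohomology of the complex is killed by a power of `I` (in boundary form) -/
def Kill (I : Ideal A) (Z : DRing.Cx A) : Prop :=
  ∃ N : ℕ, ∀ c ∈ I ^ N, ∀ (i : ℤ) (z : Z.X i), (Z.d i (i + 1)).hom z = 0 →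
    ∃ w : Z.X (i - 1), (Z.d (i - 1) i).hom w = c • z

/-- Artin–Rees: far transition maps send cycles to boundaries. -/
theorem exists_tr_boundary [IsNoetherianRing A] (I : Ideal A) (Z : ℕᵒᵖ ⥤ DRing.Cx A)
    (hdiv : IDiv I Z) (hfin : ∀ (n : ℕ) (i : ℤ), Module.Finite A ((Z.obj (op n)).X i))
    (hkill : ∀ n : ℕ, Kill I (Z.obj (op n))) (n : ℕ) (i : ℤ) :
    ∃ k : ℕ, ∀ (m : ℕ) (h : n ≤ m), n + k ≤ m → ∀ z : (Z.obj (op m)).X i,
      ((Z.obj (op m)).d i (i + 1)).hom z = 0 →
      ∃ w : (Z.obj (op n)).X (i - 1),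
        ((Z.obj (op n)).d (i - 1) i).hom w = ((ARSys.tr Z h).f i).hom z := by
  obtain ⟨N₀, hN₀⟩ := hkill n
  haveI := hfin n i
  let Zc : Submodule A ((Z.obj (op n)).X i) := LinearMap.ker ((Z.obj (op n)).d i (i + 1)).hom
  obtain ⟨c, hc⟩ := Ideal.exists_pow_inf_eq_pow_smul I Zc
  refine ⟨c + N₀, fun m h hm z hz => ?_⟩
  have h1 : ((ARSys.tr Z h).f i).hom z ∈
      (I ^ (m - n) • ⊤ : Submodule A ((Z.obj (op n)).X i)) :=
    idiv_tr hdiv (m - n) n m h (by omega) i z
  have h2 : ((ARSys.tr Z h).f i).hom z ∈ Zc := by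
    rw [LinearMap.mem_ker]
    have e := congrArg (fun f => f.hom z) ((ARSys.tr Z h).comm i (i + 1))
    simp only [ModuleCat.hom_comp, LinearMap.comp_apply] at e
    rw [e, hz, map_zero]
  have h3 : ((ARSys.tr Z h).f i).hom z ∈
      (I ^ (m - n - c) • (I ^ c • ⊤ ⊓ Zc) : Submodule A ((Z.obj (op n)).X i)) := by
    rw [← hc (m - n) (by omega)]
    exact ⟨h1, h2⟩
  have h4 : (I ^ (m - n - c) • (I ^ c • ⊤ ⊓ Zc) : Submodule A ((Z.obj (op n)).X i)) ≤
      I ^ N₀ • Zc :=
    Submodule.smul_mono (Ideal.pow_le_pow_right (by omega)) inf_le_right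
  have h5 : (I ^ N₀ • Zc : Submodule A ((Z.obj (op n)).X i)) ≤
      LinearMap.range ((Z.obj (op n)).d (i - 1) i).hom := by
    rw [Submodule.smul_le]
    intro r hr x hx
    obtain ⟨w, hw⟩ := hN₀ r hr i x hx
    exact ⟨w, hw⟩
  exact h5 (h4 h3)

lemma homologyMap_eq_zero_of_boundary {C D : DRing.Cx A} (f : C ⟶ D) (i : ℤ)
    (h : ∀ z : C.X i, (C.d i (i + 1)).hom z = 0 →
      ∃ w : D.X (i - 1), (D.d (i - 1) i).hom w = (f.f i).hom z) :
    HomologicalComplex.homologyMap f i = 0 := by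
  rw [← cancel_epi (C.homologyπ i), comp_zero, HomologicalComplex.homologyπ_naturality]
  refine ModuleCat.hom_ext (LinearMap.ext fun x => ?_)
  have hx : (C.d i (i + 1)).hom ((C.iCycles i).hom x) = 0 := by
    have e := congrArg (fun g => g.hom x) (C.iCycles_d i (i + 1))
    simpa only [ModuleCat.hom_comp, LinearMap.comp_apply, ModuleCat.hom_zero,
      LinearMap.zero_apply] using e
  obtain ⟨w, hw⟩ := h _ hx
  have e1 : (HomologicalComplex.cyclesMap f i).hom x = (D.toCycles (i - 1) i).hom w := by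
    apply (ModuleCat.mono_iff_injective (D.iCycles i)).1 inferInstance
    have e2 := congrArg (fun g => g.hom x) (HomologicalComplex.cyclesMap_i f i)
    have e3 := congrArg (fun g => g.hom w) (D.toCycles_i (i - 1) i)
    simp only [ModuleCat.hom_comp, LinearMap.comp_apply] at e2 e3
    rw [e2, e3, hw]
  rw [ModuleCat.hom_comp, LinearMap.comp_apply, e1]
  have e4 := congrArg (fun g => g.hom w) (D.toCycles_comp_homologyπ (i - 1) i)
  simpa only [ModuleCat.hom_comp, LinearMap.comp_apply, ModuleCat.hom_zero,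
    LinearMap.zero_apply] using e4

lemma homologyFunctor_map_Q_eq_zero {C D : DRing.Cx A} (f : C ⟶ D) (i : ℤ)
    (h : HomologicalComplex.homologyMap f i = 0) :
    (DerivedCategory.homologyFunctor (ModuleCat.{u} A) i).map (DerivedCategory.Q.map f) = 0 := by
  have e : (DerivedCategory.homologyFunctor (ModuleCat.{u} A) i).map (DerivedCategory.Q.map f) ≫
      (DerivedCategory.homologyFunctorFactors _ i).hom.app D =
      (DerivedCategory.homologyFunctorFactors _ i).hom.app C ≫
        HomologicalComplex.homologyMap f i :=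
    (DerivedCategory.homologyFunctorFactors _ i).hom.naturality f
  have e' : (DerivedCategory.homologyFunctor (ModuleCat.{u} A) i).map (DerivedCategory.Q.map f) ≫
      (DerivedCategory.homologyFunctorFactors _ i).hom.app D = 0 := by
    rw [e, h]
    exact comp_zero
  calc (DerivedCategory.homologyFunctor (ModuleCat.{u} A) i).map (DerivedCategory.Q.map f)
      = (DerivedCategory.homologyFunctor (ModuleCat.{u} A) i).map (DerivedCategory.Q.map f) ≫
          (DerivedCategory.homologyFunctorFactors _ i).hom.app D ≫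
            (DerivedCategory.homologyFunctorFactors _ i).inv.app D := by
        rw [Iso.hom_inv_id_app]
        exact (Category.comp_id _).symm
    _ = 0 := by rw [← Category.assoc, e', zero_comp]

/-- the system `Q(Z_n)` is pro-zero in `D(A)` -/
theorem isProZero_Q [IsNoetherianRing A] (I : Ideal A) (Z : ℕᵒᵖ ⥤ DRing.Cx A) (a b : ℤ)
    (hbdd : ∀ (n : ℕ) (i : ℤ), (i < a ∨ b < i) → IsZero ((Z.obj (op n)).X i))
    (hfin : ∀ (n : ℕ) (i : ℤ), Module.Finite A ((Z.obj (op n)).X i))
    (hdiv : IDiv I Z) (hkill : ∀ n : ℕ, Kill I (Z.obj (op n))) :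
    DerCA.IsProZero (Z ⋙ DerivedCategory.Q) := by
  refine Groth.Agent.Lib.ProIsoDH4.isProZero (Z ⋙ DerivedCategory.Q) a b ?_ ?_ ?_
  · intro n
    show (DerivedCategory.Q.obj (Z.obj (op n))).IsGE a
    rw [DerivedCategory.isGE_iff]
    intro i hi
    exact IsZero.of_iso (ShortComplex.isZero_homology_of_isZero_X₂ _ (hbdd n i (Or.inl hi)))
      ((DerivedCategory.homologyFunctorFactors _ i).app (Z.obj (op n)))
  · intro n
    show (DerivedCategory.Q.obj (Z.obj (op n))).IsLE b
    rw [DerivedCategory.isLE_iff]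
    intro i hi
    exact IsZero.of_iso (ShortComplex.isZero_homology_of_isZero_X₂ _ (hbdd n i (Or.inr hi)))
      ((DerivedCategory.homologyFunctorFactors _ i).app (Z.obj (op n)))
  · intro p n
    obtain ⟨k, hk⟩ := exists_tr_boundary I Z hdiv hfin hkill n p
    refine ⟨n + k, Nat.le_add_right n k, ?_⟩
    show (DerivedCategory.homologyFunctor (ModuleCat.{u} A) p).map
      (DerivedCategory.Q.map (ARSys.tr Z (Nat.le_add_right n k))) = 0
    exact homologyFunctor_map_Q_eq_zero _ p
      (homologyMap_eq_zero_of_boundary _ p (fun z hz => hk (n + k) _ le_rfl z hz))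

/-! ### Pro-isomorphism from a short exact sequence with pro-zero kernel -/

theorem isProIso_of_ses (Z T Y : ℕᵒᵖ ⥤ DRing.Cx A) (ι : Z ⟶ T) (γ : T ⟶ Y)
    (w : ∀ n : ℕ, ι.app (op n) ≫ γ.app (op n) = 0)
    (hS : ∀ n : ℕ, (ShortComplex.mk (ι.app (op n)) (γ.app (op n)) (w n)).ShortExact)
    (hZ : DerCA.IsProZero (Z ⋙ DerivedCategory.Q)) :
    DerCA.IsProIso (Functor.whiskerRight γ DerivedCategory.Q) := by
  intro n
  obtain ⟨m1, h1, hz1⟩ := hZ n
  obtain ⟨m2, h2, hz2⟩ := hZ m1
  have hz1' : DerivedCategory.Q.map (ARSys.tr Z h1) = 0 := hz1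
  have hz2' : DerivedCategory.Q.map (ARSys.tr Z h2) = 0 := hz2
  let φ : ShortComplex.mk (ι.app (op m2)) (γ.app (op m2)) (w m2) ⟶
      ShortComplex.mk (ι.app (op m1)) (γ.app (op m1)) (w m1) :=
    { τ₁ := ARSys.tr Z h2
      τ₂ := ARSys.tr T h2
      τ₃ := ARSys.tr Y h2
      comm₁₂ := tr_naturality ι h2
      comm₂₃ := tr_naturality γ h2 }
  have hT1 := DerivedCategory.triangleOfSES_distinguished (hS m1)
  have e1 : DerivedCategory.Q.map (ARSys.tr Y h2) ≫
      DerivedCategory.triangleOfSESδ (hS m1) = 0 := by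
    have e := DerivedCategory.triangleOfSESδ_naturality (hS m2) (hS m1) φ
    have e' : DerivedCategory.Q.map (ARSys.tr Y h2) ≫ DerivedCategory.triangleOfSESδ (hS m1) =
        DerivedCategory.triangleOfSESδ (hS m2) ≫
          (DerivedCategory.Q.map (ARSys.tr Z h2))⟦(1 : ℤ)⟧' := e.symm
    rw [e', hz2', Functor.map_zero, comp_zero]
  obtain ⟨b₂, hb₂'⟩ : ∃ b₂ : DerivedCategory.Q.obj (Y.obj (op m2)) ⟶
      DerivedCategory.Q.obj (T.obj (op m1)),
      DerivedCategory.Q.map (ARSys.tr Y h2) = b₂ ≫ DerivedCategory.Q.map (γ.app (op m1)) :=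
    Triangle.coyoneda_exact₃ _ hT1 (DerivedCategory.Q.map (ARSys.tr Y h2)) e1
  have e2 : (DerivedCategory.Q.map (γ.app (op m2)) ≫ b₂ -
      DerivedCategory.Q.map (ARSys.tr T h2)) ≫ DerivedCategory.Q.map (γ.app (op m1)) = 0 := by
    rw [Preadditive.sub_comp, Category.assoc, ← hb₂', ← DerivedCategory.Q.map_comp,
      ← DerivedCategory.Q.map_comp, tr_naturality γ h2, sub_self]
  obtain ⟨w', hw'⟩ : ∃ w' : DerivedCategory.Q.obj (T.obj (op m2)) ⟶
      DerivedCategory.Q.obj (Z.obj (op m1)),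
      DerivedCategory.Q.map (γ.app (op m2)) ≫ b₂ - DerivedCategory.Q.map (ARSys.tr T h2) =
        w' ≫ DerivedCategory.Q.map (ι.app (op m1)) :=
    Triangle.coyoneda_exact₂ _ hT1 _ e2
  have hw'' : DerivedCategory.Q.map (γ.app (op m2)) ≫ b₂ =
      DerivedCategory.Q.map (ARSys.tr T h2) +
        w' ≫ DerivedCategory.Q.map (ι.app (op m1)) := by
    rw [← hw']
    abel
  refine ⟨m2, h1.trans h2, b₂ ≫ DerivedCategory.Q.map (ARSys.tr T h1), ?_, ?_⟩
  · show DerivedCategory.Q.map (γ.app (op m2)) ≫ b₂ ≫ DerivedCategory.Q.map (ARSys.tr T h1) =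
      DerivedCategory.Q.map (ARSys.tr T (h1.trans h2))
    rw [← Category.assoc, hw'', Preadditive.add_comp, Category.assoc,
      ← DerivedCategory.Q.map_comp, ← DerivedCategory.Q.map_comp, tr_comp T h1 h2,
      ← tr_naturality ι h1, DerivedCategory.Q.map_comp, hz1', zero_comp, comp_zero, add_zero]
  · show (b₂ ≫ DerivedCategory.Q.map (ARSys.tr T h1)) ≫
      DerivedCategory.Q.map (γ.app (op n)) = DerivedCategory.Q.map (ARSys.tr Y (h1.trans h2))
    rw [Category.assoc, ← DerivedCategory.Q.map_comp, tr_naturality γ h1,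
      DerivedCategory.Q.map_comp, ← Category.assoc, ← hb₂', ← DerivedCategory.Q.map_comp,
      tr_comp Y h1 h2]

/-! ### Kernel complexes -/

section Ker

variable {T Y : DRing.Cx A} (g : T ⟶ Y)

lemma d_mem_ker (i j : ℤ) (x : T.X i) (hx : x ∈ LinearMap.ker (g.f i).hom) :
    (T.d i j).hom x ∈ LinearMap.ker (g.f j).hom := by
  rw [LinearMap.mem_ker] at hx ⊢
  have e := congrArg (fun f => f.hom x) (g.comm i j)
  simp only [ModuleCat.hom_comp, LinearMap.comp_apply] at e
  rw [← e, hx, map_zero]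

/-- the termwise kernel of a morphism of complexes of modules -/
noncomputable def kerCx : DRing.Cx A where
  X i := ModuleCat.of A (LinearMap.ker (g.f i).hom)
  d i j := ModuleCat.ofHom ((T.d i j).hom.restrict (d_mem_ker g i j))
  shape i j h := by
    refine ModuleCat.hom_ext (LinearMap.ext fun x => Subtype.ext ?_)
    show (T.d i j).hom x.1 = 0
    rw [T.shape i j h]
    rfl
  d_comp_d' i j k _ _ := by
    refine ModuleCat.hom_ext (LinearMap.ext fun x => Subtype.ext ?_)
    show (T.d j k).hom ((T.d i j).hom x.1) = 0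
    have e := congrArg (fun f => f.hom x.1) (T.d_comp_d i j k)
    rw [ModuleCat.hom_comp, LinearMap.comp_apply] at e
    exact e

/-- the inclusion of the kernel complex -/
noncomputable def kerι : kerCx g ⟶ T where
  f i := ModuleCat.ofHom (LinearMap.ker (g.f i).hom).subtype
  comm' i j _ := by
    refine ModuleCat.hom_ext (LinearMap.ext fun x => ?_)
    rfl

lemma kerι_comp : kerι g ≫ g = 0 := by
  ext i : 1
  refine ModuleCat.hom_ext (LinearMap.ext fun x => ?_)
  show (g.f i).hom x.1 = 0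
  exact x.2

lemma kerCx_shortExact (hg : ∀ i, Function.Surjective (g.f i).hom) :
    (ShortComplex.mk (kerι g) g (kerι_comp g)).ShortExact := by
  apply HomologicalComplex.shortExact_of_degreewise_shortExact
  intro i
  refine ShortComplex.ShortExact.mk' ?_ ?_ ?_
  · rw [ShortComplex.ShortExact.moduleCat_exact_iff_function_exact]
    exact LinearMap.exact_subtype_ker_map (g.f i).hom
  · exact (ModuleCat.mono_iff_injective _).2 (Submodule.injective_subtype _)
  · exact (ModuleCat.epi_iff_surjective _).2 (hg i)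

/-- the kernel complex is killed by a power of `I` on cohomology as soon as the source has
null-homotopies and the target is killed. -/
lemma kill_kerCx (I : Ideal A)
    (h1 : ∃ N : ℕ, ∀ a ∈ I ^ N, Nonempty (Homotopy (a • 𝟙 T) 0))
    (h2 : ∃ N : ℕ, ∀ b ∈ I ^ N, b • 𝟙 Y = 0) : Kill I (kerCx g) := by
  obtain ⟨N1, hN1⟩ := h1
  obtain ⟨N2, hN2⟩ := h2
  refine ⟨N1 + N2, fun c hc => ?_⟩
  rw [pow_add] at hc
  refine Submodule.mul_induction_on
    (C := fun c => ∀ (i : ℤ) (z : (kerCx g).X i), ((kerCx g).d i (i + 1)).hom z = 0 →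
      ∃ w : (kerCx g).X (i - 1), ((kerCx g).d (i - 1) i).hom w = c • z) hc ?_ ?_
  · intro a ha b hb i z hz
    obtain ⟨H⟩ := hN1 a ha
    have hcomm := H.comm i
    rw [dNext_eq H.hom (show (ComplexShape.up ℤ).Rel i (i + 1) from rfl),
      prevD_eq H.hom (show (ComplexShape.up ℤ).Rel (i - 1) i from by simp)] at hcomm
    have e := congrArg (fun f => f.hom z.1) hcomm
    simp only [HomologicalComplex.smul_f_apply, HomologicalComplex.id_f,
      HomologicalComplex.zero_f, add_zero, ModuleCat.hom_add, ModuleCat.hom_comp,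
      ModuleCat.hom_smul, ModuleCat.hom_id, LinearMap.add_apply, LinearMap.comp_apply,
      LinearMap.smul_apply, LinearMap.id_apply] at e
    have hz1 : (T.d i (i + 1)).hom z.1 = 0 := congrArg Subtype.val hz
    rw [hz1, map_zero, zero_add] at e
    have hw : b • (H.hom i (i - 1)).hom z.1 ∈ LinearMap.ker ((g.f (i - 1)).hom) := by
      rw [LinearMap.mem_ker, map_smul]
      have e2 : ((b • 𝟙 Y : Y ⟶ Y).f (i - 1)).hom
          ((g.f (i - 1)).hom ((H.hom i (i - 1)).hom z.1)) =
          ((0 : Y ⟶ Y).f (i - 1)).hom ((g.f (i - 1)).hom ((H.hom i (i - 1)).hom z.1)) := by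
        rw [hN2 b hb]
      simpa only [HomologicalComplex.smul_f_apply, HomologicalComplex.id_f, ModuleCat.hom_smul,
        ModuleCat.hom_id, LinearMap.smul_apply, LinearMap.id_apply, HomologicalComplex.zero_f,
        ModuleCat.hom_zero, LinearMap.zero_apply] using e2
    refine ⟨⟨_, hw⟩, Subtype.ext ?_⟩
    show (T.d (i - 1) i).hom (b • (H.hom i (i - 1)).hom z.1) = (a * b) • z.1
    rw [map_smul, ← e, smul_smul, mul_comm]
  · intro x y hx hy i z hz
    obtain ⟨w1, hw1⟩ := hx i z hz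
    obtain ⟨w2, hw2⟩ := hy i z hz
    exact ⟨w1 + w2, by rw [map_add, hw1, hw2, add_smul]⟩

end Ker

section KerSys

variable {T Y : ℕᵒᵖ ⥤ DRing.Cx A} (γ : T ⟶ Y)

lemma map_mem_ker {n m : ℕᵒᵖ} (f : n ⟶ m) (i : ℤ) (x : (T.obj n).X i)
    (hx : x ∈ LinearMap.ker ((γ.app n).f i).hom) :
    ((T.map f).f i).hom x ∈ LinearMap.ker ((γ.app m).f i).hom := by
  rw [LinearMap.mem_ker] at hx ⊢
  have e := congrArg (fun φ => (φ.f i).hom x) (γ.naturality f)
  simp only [HomologicalComplex.comp_f, ModuleCat.hom_comp, LinearMap.comp_apply] at e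
  rw [e, hx, map_zero]

/-- the inverse system of kernel complexes -/
noncomputable def kerSys : ℕᵒᵖ ⥤ DRing.Cx A where
  obj n := kerCx (γ.app n)
  map {n m} f :=
    { f := fun i => ModuleCat.ofHom (((T.map f).f i).hom.restrict (map_mem_ker γ f i))
      comm' := fun i j _ => by
        refine ModuleCat.hom_ext (LinearMap.ext fun x => Subtype.ext ?_)
        have e := congrArg (fun φ => φ.hom x.1) ((T.map f).comm i j)
        simp only [ModuleCat.hom_comp, LinearMap.comp_apply] at e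
        exact e }
  map_id n := by
    ext i : 1
    refine ModuleCat.hom_ext (LinearMap.ext fun x => Subtype.ext ?_)
    show ((T.map (𝟙 n)).f i).hom x.1 = x.1
    rw [T.map_id]
    rfl
  map_comp f g := by
    ext i : 1
    refine ModuleCat.hom_ext (LinearMap.ext fun x => Subtype.ext ?_)
    show ((T.map (f ≫ g)).f i).hom x.1 = ((T.map g).f i).hom (((T.map f).f i).hom x.1)
    rw [T.map_comp]
    rfl

/-- the inclusion of the kernel system -/
noncomputable def kerSysι : kerSys γ ⟶ T where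
  app n := kerι (γ.app n)
  naturality n m f := by
    ext i : 1
    refine ModuleCat.hom_ext (LinearMap.ext fun x => ?_)
    rfl

lemma kerSysι_comp (n : ℕ) : (kerSysι γ).app (op n) ≫ γ.app (op n) = 0 := kerι_comp _

lemma idiv_kerSys (I : Ideal A)
    (h : ∀ (n : ℕ) (i : ℤ) (z : (T.obj (op (n + 1))).X i),
      ((γ.app (op (n + 1))).f i).hom z = 0 →
      ((stp T n).f i).hom z ∈
        (I • LinearMap.ker ((γ.app (op n)).f i).hom : Submodule A ((T.obj (op n)).X i))) :
    IDiv I (kerSys γ) := by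
  intro n i z
  have hz := h n i z.1 (LinearMap.mem_ker.1 z.2)
  rw [← Submodule.map_subtype_top (LinearMap.ker ((γ.app (op n)).f i).hom),
    ← Submodule.map_smul''] at hz
  obtain ⟨y, hy, hyz⟩ := hz
  have e : y = ((stp (kerSys γ) n).f i).hom z := Subtype.ext hyz
  rw [← e]
  exact hy

/-- **main theorem of this file** -/
theorem isProIso_of_kerSys [IsNoetherianRing A] (I : Ideal A) (a b : ℤ)
    (hsurj : ∀ (n : ℕ) (i : ℤ), Function.Surjective ((γ.app (op n)).f i).hom)
    (hbdd : ∀ (n : ℕ) (i : ℤ), (i < a ∨ b < i) → IsZero ((T.obj (op n)).X i))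
    (hfin : ∀ (n : ℕ) (i : ℤ), Module.Finite A ((T.obj (op n)).X i))
    (hdiv : ∀ (n : ℕ) (i : ℤ) (z : (T.obj (op (n + 1))).X i),
      ((γ.app (op (n + 1))).f i).hom z = 0 →
      ((stp T n).f i).hom z ∈
        (I • LinearMap.ker ((γ.app (op n)).f i).hom : Submodule A ((T.obj (op n)).X i)))
    (hk1 : ∀ n : ℕ, ∃ N : ℕ, ∀ a ∈ I ^ N, Nonempty (Homotopy (a • 𝟙 (T.obj (op n))) 0))
    (hk2 : ∀ n : ℕ, ∃ N : ℕ, ∀ b ∈ I ^ N, b • 𝟙 (Y.obj (op n)) = 0) :
    DerCA.IsProIso (Functor.whiskerRight γ DerivedCategory.Q) := by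
  refine isProIso_of_ses (kerSys γ) T Y (kerSysι γ) γ (kerSysι_comp γ)
    (fun n => kerCx_shortExact _ (hsurj n)) ?_
  refine isProZero_Q I (kerSys γ) a b ?_ ?_ (idiv_kerSys γ I hdiv)
    (fun n => kill_kerCx _ I (hk1 n) (hk2 n))
  · intro n i hi
    haveI : Subsingleton ((T.obj (op n)).X i) :=
      ModuleCat.subsingleton_of_isZero (hbdd n i hi)
    haveI : Subsingleton (((kerSys γ).obj (op n)).X i) :=
      ⟨fun x y => Subtype.ext (Subsingleton.elim (α := (T.obj (op n)).X i) _ _)⟩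
    exact ModuleCat.isZero_of_subsingleton _
  · intro n i
    haveI := hfin n i
    haveI : IsNoetherian A ((T.obj (op n)).X i) := isNoetherian_of_isNoetherianRing_of_finite A _
    exact Module.IsNoetherian.finite A (LinearMap.ker ((γ.app (op n)).f i).hom)

end KerSys

end Groth.Agent.Lib.ProKosH1
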