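import Mathlib
import Groth.Prelude.Def_DTen
import Groth.Agent.Lib.ProKos1_helper1
import Groth.Agent.Lib.HomCx2_helper2

/-!
# Pro-systems of complexes of modules, II (helper1): tensoring with a bounded complex of finite
modules

`K ⊗ -` on complexes of modules: termwise right exactness, preservation of `I`-divisibility and of
null-homotopies of scalars, boundedness and finiteness of the terms.  Consequence
(`isProIso_tensor`): the pro-isomorphism criterion of part I is stable under `K ⊗ -`.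
-/

set_option autoImplicit false
set_option linter.style.haveILetI false

universe u

open CategoryTheory CategoryTheory.Limits Opposite MonoidalCategory

attribute [local instance] HasDerivedCategory.standard

namespace Groth.Agent.Lib.ProKosH1

open Groth.Agent.Lib.HomCx

variable {A : Type u} [CommRing A]

lemma eq_zero_of_isZero' {M : ModuleCat.{u} A} (h : IsZero M) (x : M) : x = 0 := by
  haveI := ModuleCat.subsingleton_of_isZero h
  exact Subsingleton.elim _ _

section Span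

variable (K L : DRing.Cx A) (i : ℤ)

/-- the pure tensors span each term of the tensor product -/
lemma tensor_span_eq_top :
    Submodule.span A {z : (K ⊗ L : DRing.Cx A).X i |
      ∃ (p q : ℤ) (hpq : p + q = i) (x : K.X p) (y : L.X q), z = ιt K L p q i hpq x y} = ⊤ := by
  set S : Submodule A ((K ⊗ L : DRing.Cx A).X i) := Submodule.span A
    {z | ∃ (p q : ℤ) (hpq : p + q = i) (x : K.X p) (y : L.X q), z = ιt K L p q i hpq x y}
    with hS
  have h : (ModuleCat.ofHom S.mkQ : (K ⊗ L : DRing.Cx A).X i ⟶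
      ModuleCat.of A (((K ⊗ L : DRing.Cx A).X i) ⧸ S)) = 0 := by
    apply hom_ext_tensor
    intro p q hpq x y
    show S.mkQ (ιt K L p q i hpq x y) = 0
    rw [Submodule.mkQ_apply, Submodule.Quotient.mk_eq_zero]
    exact Submodule.subset_span ⟨p, q, hpq, x, y, rfl⟩
  have h2 : S.mkQ = 0 := congrArg ModuleCat.Hom.hom h
  rw [← Submodule.ker_mkQ S, h2, LinearMap.ker_zero]

lemma tensor_mem_of_ιt {M : Type*} [AddCommGroup M] [Module A M]
    (f : (K ⊗ L : DRing.Cx A).X i →ₗ[A] M) (N : Submodule A M)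
    (h : ∀ (p q : ℤ) (hpq : p + q = i) (x : K.X p) (y : L.X q), f (ιt K L p q i hpq x y) ∈ N)
    (z : (K ⊗ L : DRing.Cx A).X i) : f z ∈ N := by
  have hle : (⊤ : Submodule A ((K ⊗ L : DRing.Cx A).X i)) ≤ N.comap f := by
    rw [← tensor_span_eq_top K L i, Submodule.span_le]
    rintro _ ⟨p, q, hpq, x, y, rfl⟩
    exact h p q hpq x y
  exact hle (Submodule.mem_top (x := z))

/-- `y ↦ x ⊗ y` as a linear map -/
noncomputable def ιtL (p q : ℤ) (hpq : p + q = i) (x : K.X p) :
    L.X q →ₗ[A] (K ⊗ L : DRing.Cx A).X i :=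
  (HomologicalComplex.ιTensorObj K L p q i hpq).hom ∘ₗ TensorProduct.mk A (K.X p) (L.X q) x

lemma ιtL_apply (p q : ℤ) (hpq : p + q = i) (x : K.X p) (y : L.X q) :
    ιtL K L i p q hpq x y = ιt K L p q i hpq x y := rfl

lemma ιt_zero_left (p q : ℤ) (hpq : p + q = i) (y : L.X q) : ιt K L p q i hpq 0 y = 0 := by
  dsimp only [ιt]
  rw [TensorProduct.zero_tmul, map_zero]

lemma ιt_zero_right (p q : ℤ) (hpq : p + q = i) (x : K.X p) : ιt K L p q i hpq x 0 = 0 := by
  dsimp only [ιt]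
  rw [TensorProduct.tmul_zero, map_zero]

end Span

/-! ### Divisibility -/

lemma idiv_tensorLeft (K : DRing.Cx A) {I : Ideal A} {Z : ℕᵒᵖ ⥤ DRing.Cx A} (hZ : IDiv I Z) :
    IDiv I (Z ⋙ tensorLeft K) := by
  intro n i z
  show ((K ◁ stp Z n).f i).hom z ∈
    (I • ⊤ : Submodule A ((K ⊗ Z.obj (op n) : DRing.Cx A).X i))
  refine tensor_mem_of_ιt K (Z.obj (op (n + 1))) i _ _ (fun p q hpq x y => ?_) z
  rw [whiskerLeft_ιt]
  have hy := hZ n q y
  have hφ : (I • ⊤ : Submodule A ((Z.obj (op n)).X q)).map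
      (ιtL K (Z.obj (op n)) i p q hpq x) ≤ I • ⊤ := by
    rw [Submodule.map_smul'']
    exact Submodule.smul_mono le_rfl le_top
  exact hφ (Submodule.mem_map_of_mem hy)

/-! ### Right exactness -/

/-- `- ⊗ K ≅ K ⊗ -` -/
noncomputable def braidNatIso (K : DRing.Cx A) : tensorRight K ≅ tensorLeft K :=
  NatIso.ofComponents (fun X => DTen.braidCx X K) (by
    intro X Y f
    have h := DTen.braidCx_naturality f (𝟙 K)
    rw [MonoidalCategory.tensorHom_id, MonoidalCategory.id_tensorHom] at h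
    exact h)

/-- `K ⊗ -` is a left adjoint -/
noncomputable def tensorLeftAdj (K : DRing.Cx A) : tensorLeft K ⊣ DRing.homCxFunctor K :=
  (adjC K).ofNatIsoLeft (braidNatIso K)

lemma tensor_exact (K : DRing.Cx A) {S : ShortComplex (DRing.Cx A)} (hS : S.ShortExact) (i : ℤ)
    (z : (K ⊗ S.X₂ : DRing.Cx A).X i) (hz : ((K ◁ S.g).f i).hom z = 0) :
    ∃ z' : (K ⊗ S.X₁ : DRing.Cx A).X i, ((K ◁ S.f).f i).hom z' = z := by
  haveI : (tensorLeft K).IsLeftAdjoint := (tensorLeftAdj K).isLeftAdjoint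
  have h1 : (S.map (tensorLeft K)).Exact :=
    hS.exact.map_of_epi_of_preservesCokernel (tensorLeft K) hS.epi_g inferInstance
  have h2 := (HomologicalComplex.exact_iff_degreewise_exact _).1 h1 i
  rw [ShortComplex.ShortExact.moduleCat_exact_iff_function_exact] at h2
  exact (h2 z).1 hz

lemma surjective_whiskerLeft (K : DRing.Cx A) {L M : DRing.Cx A} (g : L ⟶ M)
    (hg : ∀ q, Function.Surjective (g.f q).hom) (i : ℤ) :
    Function.Surjective ((K ◁ g).f i).hom := by
  intro z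
  have hmem : (LinearMap.id : _ →ₗ[A] _) z ∈ LinearMap.range ((K ◁ g).f i).hom := by
    refine tensor_mem_of_ιt K M i LinearMap.id _ (fun p q hpq x y => ?_) z
    obtain ⟨y', rfl⟩ := hg q y
    exact ⟨ιt K L p q i hpq x y', whiskerLeft_ιt K g p q i hpq x y'⟩
  exact hmem

/-! ### Scalars and homotopies -/

lemma whiskerLeft_smul_id (K : DRing.Cx A) (a : A) (L : DRing.Cx A) :
    K ◁ (a • 𝟙 L) = a • 𝟙 (K ⊗ L) := by
  ext i : 1
  apply hom_ext_tensor
  intro p q hpq x y
  rw [whiskerLeft_ιt]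
  simp only [HomologicalComplex.smul_f_apply, HomologicalComplex.id_f, ModuleCat.hom_smul,
    ModuleCat.hom_id, LinearMap.smul_apply, LinearMap.id_apply]
  dsimp only [ιt]
  rw [TensorProduct.tmul_smul, map_smul]

lemma whiskerLeft_eq_zero (K : DRing.Cx A) (L M : DRing.Cx A) : K ◁ (0 : L ⟶ M) = 0 := by
  ext i : 1
  apply hom_ext_tensor
  intro p q hpq x y
  rw [whiskerLeft_ιt]
  simp only [HomologicalComplex.zero_f, ModuleCat.hom_zero, LinearMap.zero_apply]
  exact ιt_zero_right K M i p q hpq x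

lemma nonempty_homotopy_whiskerLeft (K : DRing.Cx A) {L : DRing.Cx A} (a : A)
    (h : Homotopy (a • 𝟙 L) 0) : Nonempty (Homotopy (a • 𝟙 (K ⊗ L)) 0) := by
  have H' : Homotopy (K ◁ (a • 𝟙 L)) (K ◁ (0 : L ⟶ L)) :=
    HomologicalComplex.mapBifunctorMapHomotopy₂ (𝟙 K) h (curriedTensor (ModuleCat.{u} A))
      (ComplexShape.up ℤ)
  exact ⟨(Homotopy.ofEq (whiskerLeft_smul_id K a L).symm).trans
    (H'.trans (Homotopy.ofEq (whiskerLeft_eq_zero K L L)))⟩

/-! ### Boundedness and finiteness -/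

lemma isZero_tensor_X (K L : DRing.Cx A) (a b a' b' : ℤ)
    (hK : ∀ p, (p < a ∨ b < p) → IsZero (K.X p)) (hL : ∀ q, (q < a' ∨ b' < q) → IsZero (L.X q))
    (i : ℤ) (hi : i < a + a' ∨ b + b' < i) : IsZero ((K ⊗ L : DRing.Cx A).X i) := by
  have h0 : ∀ z : (K ⊗ L : DRing.Cx A).X i, z = 0 := by
    intro z
    have hmem : (LinearMap.id : _ →ₗ[A] _) z ∈
        (⊥ : Submodule A ((K ⊗ L : DRing.Cx A).X i)) := by
      refine tensor_mem_of_ιt K L i LinearMap.id ⊥ (fun p q hpq x y => ?_) z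
      rw [LinearMap.id_apply, Submodule.mem_bot]
      by_cases hp : p < a ∨ b < p
      · rw [eq_zero_of_isZero' (hK p hp) x]
        exact ιt_zero_left K L i p q hpq y
      · have hq : q < a' ∨ b' < q := by omega
        rw [eq_zero_of_isZero' (hL q hq) y]
        exact ιt_zero_right K L i p q hpq x
    exact (Submodule.mem_bot A).1 hmem
  haveI : Subsingleton ((K ⊗ L : DRing.Cx A).X i) := ⟨fun x y => by rw [h0 x, h0 y]⟩
  exact ModuleCat.isZero_of_subsingleton _

lemma finite_tensor_X (K L : DRing.Cx A) (a b : ℤ)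
    (hK : ∀ p, (p < a ∨ b < p) → IsZero (K.X p))
    (hKf : ∀ p, Module.Finite A (K.X p)) (hLf : ∀ q, Module.Finite A (L.X q)) (i : ℤ) :
    Module.Finite A ((K ⊗ L : DRing.Cx A).X i) := by
  let N : ℤ → Submodule A ((K ⊗ L : DRing.Cx A).X i) := fun p =>
    LinearMap.range (HomologicalComplex.ιTensorObj K L p (i - p) i (by omega)).hom
  have hN : ∀ p, (N p).FG := by
    intro p
    haveI := hKf p
    haveI := hLf (i - p)
    haveI : Module.Finite A ((K.X p ⊗ L.X (i - p) : ModuleCat.{u} A)) :=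
      inferInstanceAs (Module.Finite A (TensorProduct A (K.X p) (L.X (i - p))))
    show (LinearMap.range (HomologicalComplex.ιTensorObj K L p (i - p) i (by omega)).hom).FG
    rw [LinearMap.range_eq_map]
    exact Submodule.FG.map _ Module.Finite.fg_top
  have htop : (⊤ : Submodule A ((K ⊗ L : DRing.Cx A).X i)) ≤ ⨆ p ∈ Finset.Icc a b, N p := by
    intro z _
    have hmem : (LinearMap.id : _ →ₗ[A] _) z ∈ ⨆ p ∈ Finset.Icc a b, N p := by
      refine tensor_mem_of_ιt K L i LinearMap.id _ (fun p q hpq x y => ?_) z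
      rw [LinearMap.id_apply]
      by_cases hp : p < a ∨ b < p
      · rw [eq_zero_of_isZero' (hK p hp) x, ιt_zero_left]
        exact Submodule.zero_mem _
      · obtain rfl : q = i - p := by omega
        refine Submodule.mem_iSup_of_mem p (Submodule.mem_iSup_of_mem
          (Finset.mem_Icc.2 ⟨by omega, by omega⟩) ?_)
        exact ⟨x ⊗ₜ[A] y, rfl⟩
    exact hmem
  rw [Module.finite_def]
  have hfg := Submodule.fg_biSup (Finset.Icc a b) N (fun p _ => hN p)
  rwa [top_le_iff.1 htop] at hfg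

/-! ### The kernel system of `K ⊗ κ` -/

theorem hdiv_tensor (K : DRing.Cx A) (I : Ideal A) {Lsys Ssys : ℕᵒᵖ ⥤ DRing.Cx A}
    (κ : Lsys ⟶ Ssys)
    (hsurj : ∀ (n : ℕ) (i : ℤ), Function.Surjective ((κ.app (op n)).f i).hom)
    (hdiv : IDiv I (kerSys κ)) :
    ∀ (n : ℕ) (i : ℤ) (z : ((Lsys ⋙ tensorLeft K).obj (op (n + 1))).X i),
      (((Functor.whiskerRight κ (tensorLeft K)).app (op (n + 1))).f i).hom z = 0 →
      ((stp (Lsys ⋙ tensorLeft K) n).f i).hom z ∈
        (I • LinearMap.ker (((Functor.whiskerRight κ (tensorLeft K)).app (op n)).f i).hom :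
          Submodule A (((Lsys ⋙ tensorLeft K).obj (op n)).X i)) := by
  intro n i z hz
  have hS := kerCx_shortExact (κ.app (op (n + 1))) (hsurj (n + 1))
  obtain ⟨z', rfl⟩ := tensor_exact K hS i z hz
  have h1 := idiv_tensorLeft K hdiv n i z'
  have nat' : stp (kerSys κ) n ≫ (kerSysι κ).app (op n) =
      (kerSysι κ).app (op (n + 1)) ≫ stp Lsys n := (kerSysι κ).naturality _
  have e0 : (tensorLeft K).map (stp (kerSys κ) n) ≫ (tensorLeft K).map ((kerSysι κ).app (op n)) =
      (tensorLeft K).map ((kerSysι κ).app (op (n + 1))) ≫ (tensorLeft K).map (stp Lsys n) := by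
    rw [← (tensorLeft K).map_comp, ← (tensorLeft K).map_comp, nat']
  have e : ((K ◁ stp Lsys n).f i).hom (((K ◁ (kerSysι κ).app (op (n + 1))).f i).hom z') =
      ((K ◁ (kerSysι κ).app (op n)).f i).hom (((K ◁ stp (kerSys κ) n).f i).hom z') := by
    have h := congrArg (fun φ => (φ.f i).hom z') e0
    simp only [HomologicalComplex.comp_f, ModuleCat.hom_comp, LinearMap.comp_apply] at h
    exact h.symm
  show ((K ◁ stp Lsys n).f i).hom (((K ◁ (kerSysι κ).app (op (n + 1))).f i).hom z') ∈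
    (I • LinearMap.ker ((K ◁ κ.app (op n)).f i).hom :
      Submodule A ((K ⊗ Lsys.obj (op n) : DRing.Cx A).X i))
  rw [e]
  have hle : (I • ⊤ : Submodule A ((K ⊗ (kerSys κ).obj (op n) : DRing.Cx A).X i)).map
      ((K ◁ (kerSysι κ).app (op n)).f i).hom ≤
      I • LinearMap.ker ((K ◁ κ.app (op n)).f i).hom := by
    rw [Submodule.map_smul'']
    refine Submodule.smul_mono le_rfl ?_
    rintro _ ⟨v, -, rfl⟩
    rw [LinearMap.mem_ker]
    have e1 : (tensorLeft K).map ((kerSysι κ).app (op n)) ≫ (tensorLeft K).map (κ.app (op n)) =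
        0 := by
      rw [← (tensorLeft K).map_comp, kerSysι_comp]
      exact whiskerLeft_eq_zero K _ _
    have h := congrArg (fun φ => (φ.f i).hom v) e1
    simp only [HomologicalComplex.comp_f, ModuleCat.hom_comp, LinearMap.comp_apply,
      HomologicalComplex.zero_f, ModuleCat.hom_zero, LinearMap.zero_apply] at h
    exact h
  exact hle (Submodule.mem_map_of_mem h1)

/-- **Stability of the pro-isomorphism criterion under `K ⊗ -`.** -/
theorem isProIso_tensor [IsNoetherianRing A] (K : DRing.Cx A) (I : Ideal A) (aK bK : ℤ)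
    (hK : ∀ p, (p < aK ∨ bK < p) → IsZero (K.X p)) (hKf : ∀ p, Module.Finite A (K.X p))
    {Lsys Ssys : ℕᵒᵖ ⥤ DRing.Cx A} (κ : Lsys ⟶ Ssys) (aL bL : ℤ)
    (hsurj : ∀ (n : ℕ) (i : ℤ), Function.Surjective ((κ.app (op n)).f i).hom)
    (hbdd : ∀ (n : ℕ) (i : ℤ), (i < aL ∨ bL < i) → IsZero ((Lsys.obj (op n)).X i))
    (hfin : ∀ (n : ℕ) (i : ℤ), Module.Finite A ((Lsys.obj (op n)).X i))
    (hdiv : ∀ (n : ℕ) (i : ℤ) (z : (Lsys.obj (op (n + 1))).X i),
      ((κ.app (op (n + 1))).f i).hom z = 0 →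
      ((stp Lsys n).f i).hom z ∈
        (I • LinearMap.ker ((κ.app (op n)).f i).hom : Submodule A ((Lsys.obj (op n)).X i)))
    (hk1 : ∀ n : ℕ, ∃ N : ℕ, ∀ a ∈ I ^ N, Nonempty (Homotopy (a • 𝟙 (Lsys.obj (op n))) 0))
    (hk2 : ∀ n : ℕ, ∃ N : ℕ, ∀ b ∈ I ^ N, b • 𝟙 (Ssys.obj (op n)) = 0) :
    DerCA.IsProIso (Functor.whiskerRight (Functor.whiskerRight κ (tensorLeft K))
      DerivedCategory.Q) := by
  refine isProIso_of_kerSys (Functor.whiskerRight κ (tensorLeft K)) I (aK + aL) (bK + bL)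
    ?_ ?_ ?_ (hdiv_tensor K I κ hsurj (idiv_kerSys κ I hdiv)) ?_ ?_
  · intro n i
    exact surjective_whiskerLeft K _ (hsurj n) i
  · intro n i hi
    exact isZero_tensor_X K _ aK bK aL bL hK (hbdd n) i hi
  · intro n i
    exact finite_tensor_X K _ aK bK hK hKf (hfin n) i
  · intro n
    obtain ⟨N, hN⟩ := hk1 n
    refine ⟨N, fun a ha => ?_⟩
    obtain ⟨H⟩ := hN a ha
    exact nonempty_homotopy_whiskerLeft K a H
  · intro n
    obtain ⟨N, hN⟩ := hk2 n
    refine ⟨N, fun b hb => ?_⟩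
    show b • 𝟙 (K ⊗ Ssys.obj (op n)) = 0
    rw [← whiskerLeft_smul_id, hN b hb, whiskerLeft_eq_zero]

end Groth.Agent.Lib.ProKosH1
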