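import Mathlib
import Groth.Prelude.Def_ega3
import Groth.Agent.Lib.ProKos2_helper1
import Groth.Agent.Lib.KoszulHtpy_helper7
import Groth.Agent.Lib.KFlatMod2_helper2

/-!
# Pro-systems of complexes of modules, III (helper1): the Koszul pro-system of an ideal

For a list `l` of elements of an ideal `I`, the inverse system `n ↦ Kos(f₁^{n+1}, …, f_r^{n+1})`
(iterated mapping cones), its augmentation to `n ↦ (A/I^{n+1})[0]`, and all the properties needed
for the pro-isomorphism criterion of parts I and II.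
-/

set_option autoImplicit false
set_option linter.style.haveILetI false

universe u

open CategoryTheory CategoryTheory.Limits Opposite MonoidalCategory CochainComplex
  CochainComplex.HomComplex

attribute [local instance] HasDerivedCategory.standard

namespace Groth.Agent.Lib.ProKosH1

open Groth.Agent.Lib.KFlatMod Groth.Agent.Lib.KFlatGen Groth.Agent.Lib.KoszulHtpyH7

variable {A : Type u} [CommRing A] (I : Ideal A)

/-! ### The target system -/

/-- `A / I^{n+1}` -/
noncomputable abbrev SnMod (n : ℕ) : ModuleCat.{u} A := (CohIII.adicSystem I (ModuleCat.of A A)).obj (op n)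

/-- `(A / I^{n+1})[0]` -/
noncomputable abbrev Sn (n : ℕ) : DRing.Cx A :=
  (HomologicalComplex.single (ModuleCat.{u} A) (ComplexShape.up ℤ) 0).obj (SnMod I n)

/-- the system `n ↦ (A/I^{n+1})[0]` -/
noncomputable abbrev Ssys : ℕᵒᵖ ⥤ DRing.Cx A :=
  CohIII.adicSystem I (ModuleCat.of A A) ⋙
    HomologicalComplex.single (ModuleCat.{u} A) (ComplexShape.up ℤ) 0

/-- the projection `A ⟶ A / I^{n+1}` -/
noncomputable def π (n : ℕ) : ModuleCat.of A A ⟶ SnMod I n :=
  ModuleCat.ofHom (Submodule.mkQ (I ^ (n + 1) • (⊤ : Submodule A (ModuleCat.of A A))))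

lemma π_surjective (n : ℕ) : Function.Surjective (π I n).hom :=
  Submodule.mkQ_surjective _

lemma π_ker (n : ℕ) (a : ModuleCat.of A A) (h : (π I n).hom a = 0) :
    a ∈ (I ^ (n + 1) • ⊤ : Submodule A (ModuleCat.of A A)) := by
  have h' : a ∈ LinearMap.ker
      (Submodule.mkQ (I ^ (n + 1) • (⊤ : Submodule A (ModuleCat.of A A)))) := h
  rwa [Submodule.ker_mkQ] at h'

lemma π_nat (n : ℕ) :
    π I (n + 1) ≫ (CohIII.adicSystem I (ModuleCat.of A A)).map
      (homOfLE (Nat.le_add_right n 1)).op = π I n := by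
  unfold CohIII.adicSystem
  rw [Functor.ofOpSequence_map_homOfLE_succ]
  rfl

lemma smul_SnMod (n : ℕ) {c : A} (hc : c ∈ I ^ (n + 1)) (y : SnMod I n) : c • y = 0 := by
  obtain ⟨a, rfl⟩ := π_surjective I n y
  rw [← map_smul]
  exact (Submodule.Quotient.mk_eq_zero _).2 (Submodule.smul_mem_smul hc trivial)

lemma iso_inv_hom_apply {M N : ModuleCat.{u} A} (e : M ≅ N) (x : M) :
    e.inv.hom (e.hom.hom x) = x := by
  have h := congrArg (fun f => f.hom x) e.hom_inv_id
  simpa only [ModuleCat.hom_comp, LinearMap.comp_apply, ModuleCat.hom_id, LinearMap.id_apply]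
    using h

lemma iso_hom_inv_apply {M N : ModuleCat.{u} A} (e : M ≅ N) (y : N) :
    e.hom.hom (e.inv.hom y) = y := by
  have h := congrArg (fun f => f.hom y) e.inv_hom_id
  simpa only [ModuleCat.hom_comp, LinearMap.comp_apply, ModuleCat.hom_id, LinearMap.id_apply]
    using h

lemma smul_Sn (n : ℕ) {c : A} (hc : c ∈ I ^ (n + 1)) (q : ℤ) (s : (Sn I n).X q) : c • s = 0 := by
  by_cases hq : q = 0
  · subst hq
    let e := HomologicalComplex.singleObjXSelf (ComplexShape.up ℤ) (0 : ℤ) (SnMod I n)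
    rw [← iso_inv_hom_apply e s, ← map_smul, smul_SnMod I n hc, map_zero]
  · rw [eq_zero_of_isZero' (HomologicalComplex.isZero_single_obj_X (ComplexShape.up ℤ) 0
      (SnMod I n) q hq) s, smul_zero]

lemma smul_id_Sn (n : ℕ) {c : A} (hc : c ∈ I ^ (n + 1)) : c • 𝟙 (Sn I n) = 0 := by
  refine HomologicalComplex.hom_ext _ _ (fun q => ?_)
  refine ModuleCat.hom_ext (LinearMap.ext fun s => ?_)
  show c • s = 0
  exact smul_Sn I n hc q s

lemma smul_comp_Sn (n : ℕ) {c : A} (hc : c ∈ I ^ (n + 1)) {X : DRing.Cx A} (β : X ⟶ Sn I n) :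
    c • β = 0 := by
  have h : c • β = β ≫ (c • 𝟙 (Sn I n)) := by
    rw [Linear.comp_smul, Category.comp_id]
  rw [h, smul_id_Sn I n hc, comp_zero]

/-! ### The Koszul system -/

/-- the Koszul complex on `f₁^{n+1}, …, f_r^{n+1}` -/
noncomputable def Lk : List I → ℕ → DRing.Cx A
  | [], _ => (HomologicalComplex.single (ModuleCat.{u} A) (ComplexShape.up ℤ) 0).obj
      (ModuleCat.of A A)
  | f :: l, n => CochainComplex.mappingCone (((f : A) ^ (n + 1)) • 𝟙 (Lk l n))

/-- the transition maps -/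
noncomputable def Lstep : ∀ (l : List I) (n : ℕ), Lk I l (n + 1) ⟶ Lk I l n
  | [], _ => 𝟙 _
  | f :: l, n => CochainComplex.mappingCone.map (((f : A) ^ (n + 1 + 1)) • 𝟙 (Lk I l (n + 1)))
      (((f : A) ^ (n + 1)) • 𝟙 (Lk I l n)) ((f : A) • Lstep l n) (Lstep l n) (by
        simp only [Linear.smul_comp, Linear.comp_smul, Category.id_comp, Category.comp_id,
          smul_smul, ← pow_succ])

/-- the augmentation -/
noncomputable def Lkap : ∀ (l : List I) (n : ℕ), Lk I l n ⟶ Sn I n
  | [], n => (HomologicalComplex.single (ModuleCat.{u} A) (ComplexShape.up ℤ) 0).map (π I n)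
  | f :: l, n => CochainComplex.mappingCone.desc _ 0 (Lkap l n) (by
      rw [δ_zero, Linear.smul_comp, Category.id_comp,
        smul_comp_Sn I n (Ideal.pow_mem_pow f.2 (n + 1)), Cochain.ofHom_zero])

variable {I}

/-! ### Generalities on mapping cones of complexes of modules -/

section Cone

variable {F G F' G' K K' : DRing.Cx A}

lemma map_mem_smul_top {M N : Type*} [AddCommGroup M] [Module A M] [AddCommGroup N] [Module A N]
    (J : Ideal A) (g : M →ₗ[A] N) {x : M} (hx : x ∈ (J • ⊤ : Submodule A M)) :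
    g x ∈ (J • ⊤ : Submodule A N) := by
  have hle : (J • ⊤ : Submodule A M).map g ≤ J • ⊤ := by
    rw [Submodule.map_smul'']
    exact Submodule.smul_mono le_rfl le_top
  exact hle (Submodule.mem_map_of_mem hx)

/-- decomposition of an element of a mapping cone -/
lemma cone_decomp (φ : F ⟶ G) (q : ℤ) (z : (mappingCone φ).X q) :
    z = ((mappingCone.inl φ).v (q + 1) q (by omega)).hom
          (((mappingCone.fst φ).1.v q (q + 1) rfl).hom z) +
        ((mappingCone.inr φ).f q).hom (((mappingCone.snd φ).v q q (add_zero q)).hom z) := by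
  have h := congrArg (fun g => g.hom z) (mappingCone.id_X φ q (q + 1) rfl)
  simp only [ModuleCat.hom_add, ModuleCat.hom_comp, LinearMap.add_apply, LinearMap.comp_apply,
    ModuleCat.hom_id, LinearMap.id_apply] at h
  exact h.symm

lemma cone_map_apply (φ : F ⟶ G) (φ' : F' ⟶ G') (a : F ⟶ F') (b : G ⟶ G')
    (comm : φ ≫ b = a ≫ φ') (q : ℤ) (z : (mappingCone φ).X q) :
    ((mappingCone.map φ φ' a b comm).f q).hom z =
      ((mappingCone.inl φ').v (q + 1) q (by omega)).hom
        ((a.f (q + 1)).hom (((mappingCone.fst φ).1.v q (q + 1) rfl).hom z)) +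
      ((mappingCone.inr φ').f q).hom
        ((b.f q).hom (((mappingCone.snd φ).v q q (add_zero q)).hom z)) := by
  have h : (mappingCone.map φ φ' a b comm).f q =
      (mappingCone.fst φ).1.v q (q + 1) rfl ≫
        (a.f (q + 1) ≫ (mappingCone.inl φ').v (q + 1) q (by omega)) +
      (mappingCone.snd φ).v q q (add_zero q) ≫ (b.f q ≫ (mappingCone.inr φ').f q) := by
    rw [mappingCone.map, mappingCone.desc_f _ _ _ _ q (q + 1) rfl]
    simp only [Cochain.zero_cochain_comp_v, Cochain.ofHom_v, HomologicalComplex.comp_f]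
  rw [h]
  simp only [ModuleCat.hom_add, ModuleCat.hom_comp, LinearMap.add_apply, LinearMap.comp_apply]

lemma cone_desc_apply (φ : F ⟶ G) (β : G ⟶ K)
    (eq : δ (-1) 0 (0 : Cochain F K (-1)) = Cochain.ofHom (φ ≫ β)) (q : ℤ)
    (z : (mappingCone φ).X q) :
    ((mappingCone.desc φ 0 β eq).f q).hom z =
      (β.f q).hom (((mappingCone.snd φ).v q q (add_zero q)).hom z) := by
  rw [mappingCone.desc_f _ _ _ _ q (q + 1) rfl]
  simp only [Cochain.zero_v, comp_zero, zero_add, ModuleCat.hom_comp, LinearMap.comp_apply]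

lemma cone_finite (φ : F ⟶ G) (q : ℤ) (h1 : Module.Finite A (F.X (q + 1)))
    (h2 : Module.Finite A (G.X q)) : Module.Finite A ((mappingCone φ).X q) := by
  refine Module.Finite.of_surjective
    (((mappingCone.inl φ).v (q + 1) q (by omega)).hom.coprod ((mappingCone.inr φ).f q).hom)
    (fun z => ⟨((((mappingCone.fst φ).1.v q (q + 1) rfl).hom z),
      (((mappingCone.snd φ).v q q (add_zero q)).hom z)), ?_⟩)
  rw [LinearMap.coprod_apply]
  exact (cone_decomp φ q z).symm

lemma cone_map_mem (J : Ideal A) (φ : F ⟶ G) (φ' : F' ⟶ G') (a : F ⟶ F') (b : G ⟶ G')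
    (comm : φ ≫ b = a ≫ φ') (q : ℤ)
    (ha : ∀ x : F.X (q + 1), (a.f (q + 1)).hom x ∈ (J • ⊤ : Submodule A (F'.X (q + 1))))
    (hb : ∀ x : G.X q, (b.f q).hom x ∈ (J • ⊤ : Submodule A (G'.X q)))
    (z : (mappingCone φ).X q) :
    ((mappingCone.map φ φ' a b comm).f q).hom z ∈
      (J • ⊤ : Submodule A ((mappingCone φ').X q)) := by
  rw [cone_map_apply]
  exact Submodule.add_mem _ (map_mem_smul_top J _ (ha _)) (map_mem_smul_top J _ (hb _))

lemma cone_desc_ker (J : Ideal A) (φ : F ⟶ G) (β : G ⟶ K)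
    (eq : δ (-1) 0 (0 : Cochain F K (-1)) = Cochain.ofHom (φ ≫ β)) (q : ℤ)
    (h0 : IsZero (F.X (q + 1)))
    (hβ : ∀ w : G.X q, (β.f q).hom w = 0 → w ∈ (J • ⊤ : Submodule A (G.X q)))
    (z : (mappingCone φ).X q) (hz : ((mappingCone.desc φ 0 β eq).f q).hom z = 0) :
    z ∈ (J • ⊤ : Submodule A ((mappingCone φ).X q)) := by
  rw [cone_desc_apply] at hz
  have h1 := hβ _ hz
  rw [cone_decomp φ q z, eq_zero_of_isZero' h0 (((mappingCone.fst φ).1.v q (q + 1) rfl).hom z),
    map_zero, zero_add]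
  exact map_mem_smul_top J _ h1

lemma cone_desc_surjective (φ : F ⟶ G) (β : G ⟶ K)
    (eq : δ (-1) 0 (0 : Cochain F K (-1)) = Cochain.ofHom (φ ≫ β)) (q : ℤ)
    (hβ : Function.Surjective (β.f q).hom) :
    Function.Surjective ((mappingCone.desc φ 0 β eq).f q).hom := by
  intro s
  obtain ⟨y, hy⟩ := hβ s
  refine ⟨((mappingCone.inr φ).f q).hom y, ?_⟩
  have h := congrArg (fun g => g.hom y) (mappingCone.inr_f_desc_f φ 0 β eq q)
  simp only [ModuleCat.hom_comp, LinearMap.comp_apply] at h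
  exact h.trans hy

lemma cone_map_desc (φ : F ⟶ G) (φ' : F' ⟶ G') (a : F ⟶ F') (b : G ⟶ G')
    (comm : φ ≫ b = a ≫ φ') (β : G ⟶ K) (β' : G' ⟶ K') (t : K ⟶ K')
    (eq : δ (-1) 0 (0 : Cochain F K (-1)) = Cochain.ofHom (φ ≫ β))
    (eq' : δ (-1) 0 (0 : Cochain F' K' (-1)) = Cochain.ofHom (φ' ≫ β'))
    (h : b ≫ β' = β ≫ t) :
    mappingCone.map φ φ' a b comm ≫ mappingCone.desc φ' 0 β' eq' =
      mappingCone.desc φ 0 β eq ≫ t := by
  refine HomologicalComplex.hom_ext _ _ (fun q => ?_)
  rw [mappingCone.ext_from_iff _ (q + 1) q rfl]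
  constructor
  · simp [mappingCone.map]
  · have hq := congrArg (fun g => g.f q) h
    simp only [HomologicalComplex.comp_f] at hq
    simp [mappingCone.map, hq]

end Cone

/-! ### Properties -/

lemma Lk_isZero : ∀ (l : List I) (n : ℕ) (q : ℤ), (q < -(l.length : ℤ) ∨ 0 < q) →
    IsZero ((Lk I l n).X q)
  | [], n, q, hq => HomologicalComplex.isZero_single_obj_X (ComplexShape.up ℤ) 0 _ q (by
      simp only [List.length_nil, Nat.cast_zero, neg_zero] at hq
      omega)
  | f :: l, n, q, hq => by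
      show IsZero ((mappingCone _).X q)
      rw [mappingCone.isZero_X_iff]
      simp only [List.length_cons, Nat.cast_add, Nat.cast_one] at hq
      exact ⟨Lk_isZero l n (q + 1) (by omega), Lk_isZero l n q (by omega)⟩

lemma Lk_nil_isZero (n : ℕ) (q : ℤ) (hq : q ≠ 0) : IsZero ((Lk I [] n).X q) :=
  Lk_isZero [] n q (by
    simp only [List.length_nil, Nat.cast_zero, neg_zero]
    omega)

lemma Lk_finite : ∀ (l : List I) (n : ℕ) (q : ℤ), Module.Finite A ((Lk I l n).X q)
  | [], n, q => by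
      by_cases hq : q = 0
      · subst hq
        let e := HomologicalComplex.singleObjXSelf (ComplexShape.up ℤ) (0 : ℤ) (ModuleCat.of A A)
        exact Module.Finite.of_surjective e.inv.hom (fun y => ⟨e.hom.hom y, iso_inv_hom_apply e y⟩)
      · haveI := ModuleCat.subsingleton_of_isZero (Lk_nil_isZero (I := I) n q hq)
        exact Module.Finite.of_surjective (0 : A →ₗ[A] _) (fun y => ⟨0, Subsingleton.elim _ _⟩)
  | f :: l, n, q => cone_finite _ q (Lk_finite l n (q + 1)) (Lk_finite l n q)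

lemma Lk_kf : ∀ (l : List I) (n : ℕ), KF A (Lk I l n)
  | [], n => (kf_iff _).2 (isKFlat_single (flatClass A) (ModuleCat.of A A)
      (inferInstanceAs (Module.Flat A A)) 0)
  | f :: l, n => (kf_iff _).2 ((isKFlat_mappingCone _).1 ((kf_iff _).1 (Lk_kf l n))
      ((kf_iff _).1 (Lk_kf l n)))

lemma Lkap_surjective : ∀ (l : List I) (n : ℕ) (q : ℤ),
    Function.Surjective ((Lkap I l n).f q).hom
  | [], n, q => by
      by_cases hq : q = 0
      · subst hq
        intro s
        let e := HomologicalComplex.singleObjXSelf (ComplexShape.up ℤ) (0 : ℤ) (ModuleCat.of A A)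
        let e' := HomologicalComplex.singleObjXSelf (ComplexShape.up ℤ) (0 : ℤ) (SnMod I n)
        obtain ⟨a, ha⟩ := π_surjective I n (e'.hom.hom s)
        refine ⟨e.inv.hom a, ?_⟩
        show ((((HomologicalComplex.single (ModuleCat.{u} A) (ComplexShape.up ℤ) 0).map
          (π I n)).f 0).hom) (e.inv.hom a) = s
        rw [HomologicalComplex.single_map_f_self]
        simp only [ModuleCat.hom_comp, LinearMap.comp_apply]
        rw [iso_hom_inv_apply e a, ha, iso_inv_hom_apply e' s]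
      · intro s
        exact ⟨0, by rw [map_zero]; exact (eq_zero_of_isZero'
          (HomologicalComplex.isZero_single_obj_X (ComplexShape.up ℤ) 0 (SnMod I n) q hq) s).symm⟩
  | f :: l, n, q => cone_desc_surjective _ _ _ q (Lkap_surjective l n q)

lemma Lkap_nat : ∀ (l : List I) (n : ℕ),
    Lstep I l n ≫ Lkap I l n =
      Lkap I l (n + 1) ≫ (Ssys I).map (homOfLE (Nat.le_add_right n 1)).op
  | [], n => by
      show 𝟙 _ ≫ (HomologicalComplex.single (ModuleCat.{u} A) (ComplexShape.up ℤ) 0).map (π I n) =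
        (HomologicalComplex.single (ModuleCat.{u} A) (ComplexShape.up ℤ) 0).map (π I (n + 1)) ≫
          (HomologicalComplex.single (ModuleCat.{u} A) (ComplexShape.up ℤ) 0).map
            ((CohIII.adicSystem I (ModuleCat.of A A)).map (homOfLE (Nat.le_add_right n 1)).op)
      rw [Category.id_comp, ← Functor.map_comp, π_nat]
  | f :: l, n => cone_map_desc _ _ _ _ _ _ _ _ _ _ (Lkap_nat l n)

/-- away from degree `0` the transition maps are divisible by `I` -/
lemma Lstep_mem : ∀ (l : List I) (n : ℕ) (q : ℤ), q ≠ 0 → ∀ y : (Lk I l (n + 1)).X q,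
    ((Lstep I l n).f q).hom y ∈ (I • ⊤ : Submodule A ((Lk I l n).X q))
  | [], n, q, hq, y => by
      rw [eq_zero_of_isZero' (Lk_nil_isZero (I := I) (n + 1) q hq) y, map_zero]
      exact Submodule.zero_mem _
  | f :: l, n, q, hq, y => cone_map_mem I _ _ _ _ _ q
      (fun x => by
        rw [HomologicalComplex.smul_f_apply, ModuleCat.hom_smul, LinearMap.smul_apply]
        exact Submodule.smul_mem_smul f.2 Submodule.mem_top)
      (fun x => Lstep_mem l n q hq x) y

/-- the kernel of the augmentation in degree `0` -/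
lemma Lkap_ker : ∀ (l : List I) (n : ℕ) (y : (Lk I l n).X 0), ((Lkap I l n).f 0).hom y = 0 →
    y ∈ (I ^ (n + 1) • ⊤ : Submodule A ((Lk I l n).X 0))
  | [], n, y, hy => by
      let e := HomologicalComplex.singleObjXSelf (ComplexShape.up ℤ) (0 : ℤ) (ModuleCat.of A A)
      let e' := HomologicalComplex.singleObjXSelf (ComplexShape.up ℤ) (0 : ℤ) (SnMod I n)
      have hy' : ((((HomologicalComplex.single (ModuleCat.{u} A) (ComplexShape.up ℤ) 0).map
          (π I n)).f 0).hom) y = 0 := hy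
      rw [HomologicalComplex.single_map_f_self] at hy'
      simp only [ModuleCat.hom_comp, LinearMap.comp_apply] at hy'
      have h1 : (π I n).hom (e.hom.hom y) = 0 := by
        have := congrArg e'.hom.hom hy'
        rwa [iso_hom_inv_apply e', map_zero] at this
      have h2 := π_ker I n _ h1
      have h3 := map_mem_smul_top (I ^ (n + 1)) e.inv.hom h2
      rwa [iso_inv_hom_apply e y] at h3
  | f :: l, n, y, hy => cone_desc_ker (I ^ (n + 1)) _ _ _ 0
      (Lk_isZero l n (0 + 1) (Or.inr (by omega))) (fun w hw => Lkap_ker l n w hw) y hy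

lemma Lk_null : ∀ (l : List I) (n : ℕ), ∀ g ∈ l,
    ((g : A) ^ (n + 1)) ∈ nullIdeal (R := A) (Lk I l n)
  | [], n, g, hg => by simp at hg
  | f :: l, n, g, hg => by
      rw [List.mem_cons] at hg
      rcases hg with rfl | hg
      · exact ⟨homotopyA (Lk I l n) (((g : A) ^ (n + 1)))⟩
      · obtain ⟨h⟩ := Lk_null l n g hg
        exact ⟨homotopyB (Lk I l n) (((f : A) ^ (n + 1))) (((g : A) ^ (n + 1))) h⟩

variable (I)

/-- the Koszul pro-system -/
noncomputable def Lsys (l : List I) : ℕᵒᵖ ⥤ DRing.Cx A := Functor.ofOpSequence (Lstep I l)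

/-- the augmentation of the Koszul pro-system -/
noncomputable def Lκ (l : List I) : Lsys I l ⟶ Ssys I :=
  NatTrans.ofOpSequence (fun n => Lkap I l n) (fun n => by
    show (Functor.ofOpSequence (Lstep I l)).map _ ≫ _ = _
    rw [Functor.ofOpSequence_map_homOfLE_succ]
    exact Lkap_nat l n)

lemma stp_Lsys (l : List I) (n : ℕ) : stp (Lsys I l) n = Lstep I l n :=
  Functor.ofOpSequence_map_homOfLE_succ _ n

/-- **The Koszul pro-system and its properties.** -/
theorem exists_koszul_system [IsNoetherianRing A] :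
    ∃ (Lsys : ℕᵒᵖ ⥤ DRing.Cx A) (κ : Lsys ⟶ Ssys I) (aL : ℤ),
      (∀ n : ℕ, KF A (Lsys.obj (op n))) ∧
      (∀ (n : ℕ) (i : ℤ), Function.Surjective ((κ.app (op n)).f i).hom) ∧
      (∀ (n : ℕ) (i : ℤ), (i < aL ∨ 0 < i) → IsZero ((Lsys.obj (op n)).X i)) ∧
      (∀ (n : ℕ) (i : ℤ), Module.Finite A ((Lsys.obj (op n)).X i)) ∧
      (∀ (n : ℕ) (i : ℤ) (z : (Lsys.obj (op (n + 1))).X i),
        ((κ.app (op (n + 1))).f i).hom z = 0 →
        ((stp Lsys n).f i).hom z ∈
          (I • LinearMap.ker ((κ.app (op n)).f i).hom : Submodule A ((Lsys.obj (op n)).X i))) ∧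
      (∀ n : ℕ, ∃ N : ℕ, ∀ a ∈ I ^ N, Nonempty (Homotopy (a • 𝟙 (Lsys.obj (op n))) 0)) ∧
      (∀ n : ℕ, ∃ N : ℕ, ∀ b ∈ I ^ N, b • 𝟙 ((Ssys I).obj (op n)) = 0) := by
  classical
  obtain ⟨s, hs⟩ : I.FG := (isNoetherianRing_iff_ideal_fg A).1 inferInstance I
  let l : List I := s.attach.toList.map (fun x => ⟨x.1, by
    rw [← hs]
    exact Ideal.subset_span x.2⟩)
  have hl : ∀ x ∈ s, ∃ g ∈ l, (g : A) = x := by
    intro x hx
    refine ⟨⟨x, by rw [← hs]; exact Ideal.subset_span hx⟩, ?_, rfl⟩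
    exact List.mem_map.2 ⟨⟨x, hx⟩, Finset.mem_toList.2 (Finset.mem_attach _ _), rfl⟩
  refine ⟨Lsys I l, Lκ I l, -(l.length : ℤ), ?_, ?_, ?_, ?_, ?_, ?_, ?_⟩
  · intro n
    exact Lk_kf l n
  · intro n i
    exact Lkap_surjective l n i
  · intro n i hi
    exact Lk_isZero l n i hi
  · intro n i
    exact Lk_finite l n i
  · intro n i z hz
    rw [stp_Lsys]
    have hz' : ((Lkap I l (n + 1)).f i).hom z = 0 := hz
    show ((Lstep I l n).f i).hom z ∈
      (I • LinearMap.ker ((Lkap I l n).f i).hom : Submodule A ((Lk I l n).X i))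
    by_cases hi : i = 0
    · subst hi
      have h1 := Lkap_ker l (n + 1) z hz'
      have hle : (I ^ (n + 1 + 1) • ⊤ : Submodule A ((Lk I l (n + 1)).X 0)).map
          ((Lstep I l n).f 0).hom ≤ I • LinearMap.ker ((Lkap I l n).f 0).hom := by
        rw [Submodule.map_smul'', pow_succ', Submodule.mul_smul]
        refine Submodule.smul_mono le_rfl ?_
        rw [Submodule.smul_le]
        intro c hc x _
        rw [LinearMap.mem_ker, map_smul]
        exact smul_Sn I n hc 0 _
      exact hle (Submodule.mem_map_of_mem h1)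
    · have h1 := Lstep_mem l n i hi z
      have hle : (I • ⊤ : Submodule A ((Lk I l n).X i)) ≤
          I • LinearMap.ker ((Lkap I l n).f i).hom := by
        refine Submodule.smul_mono le_rfl ?_
        intro x _
        rw [LinearMap.mem_ker]
        exact eq_zero_of_isZero' (HomologicalComplex.isZero_single_obj_X (ComplexShape.up ℤ) 0
          (SnMod I n) i hi) _
      exact hle h1
  · intro n
    let J : Ideal A := Ideal.span {x | ∃ g ∈ l, x = (g : A) ^ (n + 1)}
    have hJ : J ≤ nullIdeal (R := A) (Lk I l n) := by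
      rw [Ideal.span_le]
      rintro _ ⟨g, hg, rfl⟩
      exact Lk_null l n g hg
    have hrad : I ≤ J.radical := by
      rw [← hs, Ideal.span_le]
      intro x hx
      obtain ⟨g, hg, rfl⟩ := hl x hx
      exact ⟨n + 1, Ideal.subset_span ⟨g, hg, rfl⟩⟩
    obtain ⟨N, hN⟩ := Ideal.exists_pow_le_of_le_radical_of_fg hrad ⟨s, hs⟩
    exact ⟨N, fun a ha => hJ (hN ha)⟩
  · intro n
    exact ⟨n + 1, fun b hb => smul_id_Sn I n hb⟩

end Groth.Agent.Lib.ProKosH1
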