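import Mathlib
import Groth.Prelude.Def_ega3
import Groth.Agent.Lib.ProKos3_helper1
import Groth.Agent.Lib.LTen2_helper2

/-!
# Pro-systems of complexes of modules, IV (helper1): `{K ⊗^L A/I^{n+1}} ≅ {K ⊗ A/I^{n+1}}`

Assembly of parts I–III: for a Noetherian ring `A`, an ideal `I` and a bounded complex `K` of
finite modules, the canonical maps `K ⊗^L A/I^{n+1} ⟶ K ⊗ (A/I^{n+1})[0]` form a pro-isomorphism.
-/

set_option autoImplicit false
set_option linter.style.haveILetI false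

universe u

open CategoryTheory CategoryTheory.Limits Opposite MonoidalCategory

attribute [local instance] HasDerivedCategory.standard

namespace Groth.Agent.Lib.ProKosH1

variable {A : Type u} [CommRing A]

/-- **pro-isomorphism `{K ⊗^L A/I^{n+1}} ⟶ {K ⊗ (A/I^{n+1})[0]}`** -/
theorem isProIso_εLeft [IsNoetherianRing A] [DTen.HasLTen A] (I : Ideal A) (K : DRing.Cx A)
    (a b : ℤ) (hK : DRing.VanishesOutside K a b) (hKf : ∀ i : ℤ, Module.Finite A (K.X i)) :
    DerCA.IsProIso (Functor.whiskerLeft (Ssys I) (DTen.εLeft A K)) := by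
  obtain ⟨Lsys, κ, aL, hkf, hsurj, hbdd, hfin, hdiv, hk1, hk2⟩ := exists_koszul_system I
  have hγ : DerCA.IsProIso (Functor.whiskerRight (Functor.whiskerRight κ (tensorLeft K))
      DerivedCategory.Q) :=
    isProIso_tensor K I a b hK hKf κ aL 0 hsurj hbdd hfin hdiv hk1 hk2
  have hκ : DerCA.IsProIso (Functor.whiskerRight κ DerivedCategory.Q) :=
    isProIso_of_kerSys κ I aL 0 hsurj hbdd hfin hdiv hk1 hk2
  have hβ : DerCA.IsProIso (Functor.whiskerRight (Functor.whiskerRight κ DerivedCategory.Q)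
      ((DTen.LTen A).obj (DerivedCategory.Q.obj K))) :=
    isProIso_whiskerRight hκ _
  let LK : Dual.D A ⥤ Dual.D A := (DTen.LTen A).obj (DerivedCategory.Q.obj K)
  let β : (Lsys ⋙ (DerivedCategory.Q ⋙ LK) : ℕᵒᵖ ⥤ Dual.D A) ⟶
      Ssys I ⋙ (DerivedCategory.Q ⋙ LK) :=
    Functor.whiskerRight κ (DerivedCategory.Q ⋙ LK)
  let γ' : (Lsys ⋙ (tensorLeft K ⋙ DerivedCategory.Q) : ℕᵒᵖ ⥤ Dual.D A) ⟶
      Ssys I ⋙ (tensorLeft K ⋙ DerivedCategory.Q) :=
    Functor.whiskerRight κ (tensorLeft K ⋙ DerivedCategory.Q)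
  let e : (Lsys ⋙ (DerivedCategory.Q ⋙ LK) : ℕᵒᵖ ⥤ Dual.D A) ⟶
      Lsys ⋙ (tensorLeft K ⋙ DerivedCategory.Q) :=
    Functor.whiskerLeft Lsys (DTen.εLeft A K)
  have hβ' : DerCA.IsProIso β := hβ
  have hγ' : DerCA.IsProIso γ' := hγ
  have he : DerCA.IsProIso e := by
    apply isProIso_of_isIso
    intro n
    exact Groth.Agent.Lib.LTen2.isIso_ε_of_kf_right A K _ (hkf n)
  have hsq : β ≫ Functor.whiskerLeft (Ssys I) (DTen.εLeft A K) = e ≫ γ' := by
    ext n
    exact (DTen.εLeft A K).naturality (κ.app n)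
  refine isProIso_of_comp hβ' ?_
  rw [hsq]
  exact isProIso_comp he hγ'

end Groth.Agent.Lib.ProKosH1
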