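import Mathlib
import Groth.Prelude.Def_ega3
import Groth.Prelude.Def_DTen3
import Groth.Agent.Lib.ProKos4_helper1
import Groth.Agent.Lib.TenExact_helper2

/-!
# Pro-systems of complexes of modules, V (helper1): the right-handed version and `I^n M ⟶ I ⊗^L M`

* `isProIso_εRight`: `{A/I^{n+1} ⊗^L K} ⟶ {(A/I^{n+1})[0] ⊗ K}` is a pro-isomorphism.
* `main13578`: for a finite module `M` over a Noetherian ring, `I^n M ⟶ M` factors through
  `I ⊗^L M ⟶ M` for some `n > 0`.
-/

set_option autoImplicit false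
set_option linter.style.haveILetI false

universe u

open CategoryTheory CategoryTheory.Limits Opposite MonoidalCategory

attribute [local instance] HasDerivedCategory.standard

namespace Groth.Agent.Lib.ProKosH1

open Groth.Agent.Lib.KFlatMod Groth.Agent.Lib.KFlatGen

section General

variable {C D : Type*} [Category C] [Category D]

/-- transport of a pro-isomorphism along an isomorphism of functors -/
lemma isProIso_whiskerRight_of_natIso {X Y : ARSys.PS C} (a : X ⟶ Y) {F G : C ⥤ D} (e : F ≅ G)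
    (h : DerCA.IsProIso (Functor.whiskerRight a F)) :
    DerCA.IsProIso (Functor.whiskerRight a G) := by
  have h1 : DerCA.IsProIso (Functor.whiskerLeft X e.inv) :=
    isProIso_of_isIso _ (fun n => by dsimp; infer_instance)
  have h2 : DerCA.IsProIso (Functor.whiskerLeft Y e.hom) :=
    isProIso_of_isIso _ (fun n => by dsimp; infer_instance)
  have h3 : Functor.whiskerRight a G =
      Functor.whiskerLeft X e.inv ≫ Functor.whiskerRight a F ≫ Functor.whiskerLeft Y e.hom := by
    ext n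
    simp
  rw [h3]
  exact isProIso_comp h1 (isProIso_comp h h2)

end General

variable {A : Type u} [CommRing A]

/-- **pro-isomorphism `{A/I^{n+1} ⊗^L K} ⟶ {(A/I^{n+1})[0] ⊗ K}`** -/
theorem isProIso_εRight [IsNoetherianRing A] [DTen.HasLTen A] (I : Ideal A) (K : DRing.Cx A)
    (a b : ℤ) (hK : DRing.VanishesOutside K a b) (hKf : ∀ i : ℤ, Module.Finite A (K.X i)) :
    DerCA.IsProIso (Functor.whiskerLeft (Ssys I) (DTen.εRight A K)) := by
  obtain ⟨Lsys, κ, aL, hkf, hsurj, hbdd, hfin, hdiv, hk1, hk2⟩ := exists_koszul_system I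
  have hγ : DerCA.IsProIso (Functor.whiskerRight (Functor.whiskerRight κ (tensorLeft K))
      DerivedCategory.Q) :=
    isProIso_tensor K I a b hK hKf κ aL 0 hsurj hbdd hfin hdiv hk1 hk2
  have hγ0 : DerCA.IsProIso (Functor.whiskerRight κ (tensorLeft K ⋙ DerivedCategory.Q)) := hγ
  have hγR : DerCA.IsProIso (Functor.whiskerRight κ (tensorRight K ⋙ DerivedCategory.Q)) :=
    isProIso_whiskerRight_of_natIso κ
      (Functor.isoWhiskerRight (braidNatIso K).symm DerivedCategory.Q) hγ0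
  have hκ : DerCA.IsProIso (Functor.whiskerRight κ DerivedCategory.Q) :=
    isProIso_of_kerSys κ I aL 0 hsurj hbdd hfin hdiv hk1 hk2
  have hβ : DerCA.IsProIso (Functor.whiskerRight (Functor.whiskerRight κ DerivedCategory.Q)
      ((DTen.LTen A).flip.obj (DerivedCategory.Q.obj K))) :=
    isProIso_whiskerRight hκ _
  let RK : Dual.D A ⥤ Dual.D A := (DTen.LTen A).flip.obj (DerivedCategory.Q.obj K)
  let β : (Lsys ⋙ (DerivedCategory.Q ⋙ RK) : ℕᵒᵖ ⥤ Dual.D A) ⟶
      Ssys I ⋙ (DerivedCategory.Q ⋙ RK) :=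
    Functor.whiskerRight κ (DerivedCategory.Q ⋙ RK)
  let γ' : (Lsys ⋙ DRing.tensorCxQ A K : ℕᵒᵖ ⥤ Dual.D A) ⟶ Ssys I ⋙ DRing.tensorCxQ A K :=
    Functor.whiskerRight κ (DRing.tensorCxQ A K)
  let e : (Lsys ⋙ (DerivedCategory.Q ⋙ RK) : ℕᵒᵖ ⥤ Dual.D A) ⟶ Lsys ⋙ DRing.tensorCxQ A K :=
    Functor.whiskerLeft Lsys (DTen.εRight A K)
  have hβ' : DerCA.IsProIso β := hβ
  have hγ' : DerCA.IsProIso γ' := hγR
  have he : DerCA.IsProIso e := by
    apply isProIso_of_isIso
    intro n
    exact Groth.Agent.Lib.LTen2.isIso_ε_of_kf_left A _ K (hkf n)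
  have hsq : β ≫ Functor.whiskerLeft (Ssys I) (DTen.εRight A K) = e ≫ γ' := by
    ext n
    exact (DTen.εRight A K).naturality (κ.app n)
  refine isProIso_of_comp hβ' ?_
  rw [hsq]
  exact isProIso_comp he hγ'

/-! ### `I^n M ⟶ M` factors through `I ⊗^L M` -/

lemma π_nat' (I : Ideal A) (k : ℕ) : ∀ (m : ℕ) (h : k ≤ m),
    π I m ≫ (CohIII.adicSystem I (ModuleCat.of A A)).map (homOfLE h).op = π I k := by
  intro m h
  induction m, h using Nat.le_induction with
  | base =>
    rw [show (homOfLE (le_refl k)).op = 𝟙 (op k) from Subsingleton.elim _ _, CategoryTheory.Functor.map_id,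
      Category.comp_id]
  | succ m h ih =>
    rw [show (homOfLE (Nat.le_succ_of_le h)).op =
        (homOfLE (Nat.le_add_right m 1)).op ≫ (homOfLE h).op from Subsingleton.elim _ _,
      Functor.map_comp, ← Category.assoc, π_nat, ih]

lemma mem_of_mem_pow_one (I : Ideal A) (y : ModuleCat.of A A)
    (h : y ∈ (I ^ (0 + 1) • ⊤ : Submodule A (ModuleCat.of A A))) : (y : A) ∈ I := by
  have e : (I ^ (0 + 1) • (⊤ : Submodule A A)) = I := by
    rw [zero_add, pow_one, Ideal.smul_eq_mul, Ideal.mul_top]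
  have h' : (y : A) ∈ (I ^ (0 + 1) • (⊤ : Submodule A A)) := h
  rwa [e] at h'

lemma mem_pow_one_of_mem (I : Ideal A) (y : A) (h : y ∈ I) :
    (y : ModuleCat.of A A) ∈ (I ^ (0 + 1) • ⊤ : Submodule A (ModuleCat.of A A)) := by
  have e : (I ^ (0 + 1) • (⊤ : Submodule A A)) = I := by
    rw [zero_add, pow_one, Ideal.smul_eq_mul, Ideal.mul_top]
  show y ∈ (I ^ (0 + 1) • (⊤ : Submodule A A))
  rwa [e]

/-- the short complex `0 ⟶ I ⟶ A ⟶ A/I ⟶ 0` -/
noncomputable def sesI (I : Ideal A) : ShortComplex (ModuleCat.{u} A) :=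
  ShortComplex.mk (ModuleCat.ofHom I.subtype : ModuleCat.of A ↥I ⟶ ModuleCat.of A A) (π I 0) (by
    refine ModuleCat.hom_ext (LinearMap.ext fun x => ?_)
    exact (Submodule.Quotient.mk_eq_zero _).2 (mem_pow_one_of_mem I x.1 x.2))

lemma sesI_shortExact (I : Ideal A) : (sesI I).ShortExact where
  exact := (ShortComplex.ShortExact.moduleCat_exact_iff_function_exact _).mpr (fun y => by
    constructor
    · intro h
      exact ⟨⟨y, mem_of_mem_pow_one I y (π_ker I 0 y h)⟩, rfl⟩
    · rintro ⟨x, rfl⟩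
      exact (Submodule.Quotient.mk_eq_zero _).2 (mem_pow_one_of_mem I x.1 x.2))
  mono_f := (ModuleCat.mono_iff_injective _).mpr (Submodule.injective_subtype I)
  epi_g := (ModuleCat.epi_iff_surjective _).mpr (π_surjective I 0)

/-- maps out of `M[0]` into a complex killed by `I^n` vanish on `(I^n M)[0]` -/
lemma single_subtype_comp_eq_zero (I : Ideal A) (n : ℕ) (M : Type u) [AddCommGroup M] [Module A M]
    {T : DRing.Cx A}
    (ψ : (HomologicalComplex.single (ModuleCat.{u} A) (ComplexShape.up ℤ) 0).obj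
      (ModuleCat.of A M) ⟶ T)
    (hT : ∀ a ∈ I ^ n, a • 𝟙 T = 0) :
    (HomologicalComplex.single (ModuleCat.{u} A) (ComplexShape.up ℤ) 0).map
      (ModuleCat.ofHom (I ^ n • (⊤ : Submodule A M)).subtype) ≫ ψ = 0 := by
  refine HomologicalComplex.from_single_hom_ext ?_
  rw [HomologicalComplex.comp_f, HomologicalComplex.zero_f, HomologicalComplex.single_map_f_self]
  let e' := HomologicalComplex.singleObjXSelf (ComplexShape.up ℤ) (0 : ℤ) (ModuleCat.of A M)
  have key : ∀ y : M, y ∈ (I ^ n • (⊤ : Submodule A M)) →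
      (ψ.f 0).hom (e'.inv.hom y) = 0 := by
    intro y hy
    refine Submodule.smul_induction_on hy (fun a ha z _ => ?_) (fun x z hx hz => ?_)
    · have h := congrArg (fun φ => (φ.f 0).hom ((ψ.f 0).hom (e'.inv.hom z))) (hT a ha)
      simp only [HomologicalComplex.smul_f_apply, HomologicalComplex.id_f, ModuleCat.hom_smul,
        ModuleCat.hom_id, LinearMap.smul_apply, LinearMap.id_apply, HomologicalComplex.zero_f,
        ModuleCat.hom_zero, LinearMap.zero_apply] at h
      rw [map_smul, map_smul]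
      exact h
    · rw [map_add, map_add, hx, hz, add_zero]
  refine ModuleCat.hom_ext (LinearMap.ext fun z => ?_)
  exact key _ (Submodule.coe_mem _)

lemma smul_id_Sn_tensor (I : Ideal A) (m : ℕ) (M0 : DRing.Cx A) {a : A} (ha : a ∈ I ^ (m + 1)) :
    a • 𝟙 (Sn I m ⊗ M0) = 0 := by
  have h1 : a • 𝟙 (M0 ⊗ Sn I m) = 0 := by
    rw [← whiskerLeft_smul_id, smul_id_Sn I m ha, whiskerLeft_eq_zero]
  calc a • 𝟙 (Sn I m ⊗ M0)
      = (DTen.braidCx (Sn I m) M0).hom ≫ (a • 𝟙 (M0 ⊗ Sn I m)) ≫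
          (DTen.braidCx (Sn I m) M0).inv := by
        rw [Linear.smul_comp, Linear.comp_smul, Category.id_comp, Iso.hom_inv_id]
    _ = 0 := by rw [h1, zero_comp, comp_zero]

open DerivedCategory in
/-- **`I^n M ⟶ M` factors through `I ⊗^L M ⟶ M` for some `n > 0`** -/
theorem main13578 (A : Type u) [CommRing A] [IsNoetherianRing A] [DTen.HasLTen A] (I : Ideal A)
    (M : Type u) [AddCommGroup M] [Module A M] [Module.Finite A M] :
    ∃ (n : ℕ) (_ : 0 < n)
      (g : DerivedCategory.Q.obj ((HomologicalComplex.single (ModuleCat.{u} A) (ComplexShape.up ℤ) 0).obj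
              (ModuleCat.of A ↥(I ^ n • (⊤ : Submodule A M)))) ⟶
            (DTen.LTen₂ A).obj (DerivedCategory.Q.obj ((HomologicalComplex.single (ModuleCat.{u} A) (ComplexShape.up ℤ) 0).obj
              (ModuleCat.of A ↥I)),
              DerivedCategory.Q.obj ((HomologicalComplex.single (ModuleCat.{u} A) (ComplexShape.up ℤ) 0).obj
              (ModuleCat.of A M)))),
      g ≫ (DTen.LTen₂ A).map (Prod.mkHom
              (DerivedCategory.Q.map ((HomologicalComplex.single (ModuleCat.{u} A) (ComplexShape.up ℤ) 0).map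
                (ModuleCat.ofHom I.subtype)))
              (𝟙 _)) ≫
          (DTen.unitL A).app (DerivedCategory.Q.obj ((HomologicalComplex.single (ModuleCat.{u} A) (ComplexShape.up ℤ) 0).obj
              (ModuleCat.of A M))) =
        DerivedCategory.Q.map ((HomologicalComplex.single (ModuleCat.{u} A) (ComplexShape.up ℤ) 0).map
          (ModuleCat.ofHom (I ^ n • (⊤ : Submodule A M)).subtype)) := by
  classical
  let sg := HomologicalComplex.single (ModuleCat.{u} A) (ComplexShape.up ℤ) 0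
  let M0 : DRing.Cx A := sg.obj (ModuleCat.of A M)
  let A0 : DRing.Cx A := sg.obj (ModuleCat.of A A)
  have hM0 : DRing.VanishesOutside M0 0 0 := by
    intro i hi
    exact HomologicalComplex.isZero_single_obj_X (ComplexShape.up ℤ) 0 (ModuleCat.of A M) i
      (by omega)
  have hM0f : ∀ i : ℤ, Module.Finite A (M0.X i) := by
    intro i
    by_cases hi : i = 0
    · subst hi
      let e := HomologicalComplex.singleObjXSelf (ComplexShape.up ℤ) (0 : ℤ) (ModuleCat.of A M)
      haveI : Module.Finite A (ModuleCat.of A M) := inferInstanceAs (Module.Finite A M)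
      exact Module.Finite.of_surjective e.inv.hom (fun y => ⟨e.hom.hom y, iso_inv_hom_apply e y⟩)
    · haveI := ModuleCat.subsingleton_of_isZero (HomologicalComplex.isZero_single_obj_X
        (ComplexShape.up ℤ) 0 (ModuleCat.of A M) i hi)
      exact Module.Finite.of_surjective (0 : A →ₗ[A] _) (fun y => ⟨0, Subsingleton.elim _ _⟩)
  obtain ⟨m, hm, b, hb, -⟩ := isProIso_εRight I M0 0 0 hM0 hM0f 0
  let RK : Dual.D A ⥤ Dual.D A := DTen.tensorRightD A (Q.obj M0)
  let p : ∀ k : ℕ, A0 ⟶ Sn I k := fun k => sg.map (π I k)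
  let t : Sn I m ⟶ Sn I 0 :=
    sg.map ((CohIII.adicSystem I (ModuleCat.of A A)).map (homOfLE hm).op)
  have hp : p m ≫ t = p 0 := by
    show sg.map (π I m) ≫ sg.map _ = sg.map (π I 0)
    rw [← sg.map_comp, π_nat']
  have hb' : (DTen.ε A).app (Sn I m, M0) ≫ b = RK.map (Q.map t) := hb
  have hnat : RK.map (Q.map (p m)) ≫ (DTen.ε A).app (Sn I m, M0) =
      (DTen.ε A).app (A0, M0) ≫ Q.map (p m ▷ M0) := (DTen.εRight A M0).naturality (p m)
  have hul : (DTen.unitL A).app (Q.obj M0) =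
      (DTen.ε A).app (A0, M0) ≫ Q.map (λ_ M0).hom := DTen.unitL_app A M0
  have hkf1 : KF A A0 := (kf_iff _).2 (isKFlat_single (flatClass A) (ModuleCat.of A A)
    (inferInstanceAs (Module.Flat A A)) 0)
  haveI hε : IsIso ((DTen.ε A).app (A0, M0)) :=
    Groth.Agent.Lib.LTen2.isIso_ε_of_kf_left A A0 M0 hkf1
  haveI hu : IsIso ((DTen.unitL A).app (Q.obj M0)) := by
    rw [hul]; infer_instance
  have hinv : inv ((DTen.unitL A).app (Q.obj M0)) ≫ (DTen.ε A).app (A0, M0) =
      Q.map (λ_ M0).inv := by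
    rw [IsIso.inv_comp_eq]
    conv_rhs => rw [hul]
    rw [Category.assoc, ← Q.map_comp, Iso.hom_inv_id, Q.map_id]
    exact (Category.comp_id _).symm
  let ι : sg.obj (ModuleCat.of A ↥(I ^ (m + 1) • (⊤ : Submodule A M))) ⟶ M0 :=
    sg.map (ModuleCat.ofHom (I ^ (m + 1) • (⊤ : Submodule A M)).subtype)
  have hzero : ι ≫ (λ_ M0).inv ≫ p m ▷ M0 = 0 :=
    single_subtype_comp_eq_zero I (m + 1) M ((λ_ M0).inv ≫ p m ▷ M0)
      (fun a ha => smul_id_Sn_tensor I m M0 ha)
  obtain ⟨f, hfdef⟩ : ∃ f : Q.obj (sg.obj (ModuleCat.of A ↥(I ^ (m + 1) • (⊤ : Submodule A M)))) ⟶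
      RK.obj (Q.obj A0), f = Q.map ι ≫ inv ((DTen.unitL A).app (Q.obj M0)) := ⟨_, rfl⟩
  have hf : f ≫ RK.map (Q.map (p 0)) = 0 := by
    calc f ≫ RK.map (Q.map (p 0))
        = f ≫ RK.map (Q.map (p m)) ≫ RK.map (Q.map t) := by
          rw [← RK.map_comp, ← Q.map_comp, hp]
      _ = f ≫ RK.map (Q.map (p m)) ≫ (DTen.ε A).app (Sn I m, M0) ≫ b := by rw [hb']
      _ = f ≫ (DTen.ε A).app (A0, M0) ≫ Q.map (p m ▷ M0) ≫ b := by
          rw [← Category.assoc (RK.map _), hnat, Category.assoc]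
      _ = Q.map ι ≫ (inv ((DTen.unitL A).app (Q.obj M0)) ≫ (DTen.ε A).app (A0, M0)) ≫
            Q.map (p m ▷ M0) ≫ b := by rw [hfdef]; simp only [Category.assoc]
      _ = Q.map ι ≫ Q.map (λ_ M0).inv ≫ Q.map (p m ▷ M0) ≫ b := by rw [hinv]
      _ = Q.map (ι ≫ (λ_ M0).inv ≫ p m ▷ M0) ≫ b := by
          simp only [Functor.map_comp, Category.assoc]
      _ = 0 := by rw [hzero, Functor.map_zero, zero_comp]
  have hS := sesI_shortExact I
  obtain ⟨y, hy⟩ := Groth.Agent.Lib.TenExact.coyonedaExact_tensorRightD (Q.obj M0) _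
    hS.singleTriangle_distinguished f hf
  have hy' : f = y ≫ (DTen.LTen₂ A).map (Prod.mkHom
      (Q.map (sg.map (ModuleCat.ofHom I.subtype))) (𝟙 (Q.obj M0))) := hy
  refine ⟨m + 1, Nat.succ_pos m, y, ?_⟩
  have hfin : (y ≫ (DTen.LTen₂ A).map (Prod.mkHom
      (Q.map (sg.map (ModuleCat.ofHom I.subtype))) (𝟙 (Q.obj M0)))) ≫
      (DTen.unitL A).app (Q.obj M0) = Q.map ι := by
    rw [← hy', hfdef, Category.assoc, IsIso.inv_hom_id]
    exact Category.comp_id _
  rw [← Category.assoc]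
  exact hfin

end Groth.Agent.Lib.ProKosH1
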