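import Mathlib
import Groth.Prelude.Def_CohTop
import Groth.Agent.Lib.ProOpen3_helper2
import Groth.Agent.Lib.StalkRpush1_helper2

/-!
# Stalks of higher direct images along spectral maps (helper2)

`f : X ⟶ Y` a spectral map of spectral spaces, `y ∈ Y`: `(R^p f_* F)_y ≃+ H^p(f⁻¹(E), F|)`, `E` the
generalizations of `y`.
APPEND-ONLY once landed.
-/

set_option autoImplicit false
universe u
open CategoryTheory CategoryTheory.Limits TopologicalSpace Opposite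

namespace Groth.Agent.Lib.ProOpenH2

open Groth.Agent.Lib.NbhdColimH2 Groth.Agent.Lib.SoftH2 Groth.Agent.Lib.SoftCompact2_helper7
open Groth.Agent.Lib.StalkRpushH2

section S0884

variable {X Y : TopCat.{u}} [SpectralSpace X] [SpectralSpace Y] (f : X ⟶ Y) (y : Y)

/-- the preimage of the generalizations of `y` -/
abbrev genFib : Set X := {x : X | y ∈ closure {f x}}

/-- preimages of quasi-compact open neighbourhoods of `y` -/
def nbY : Set (Opens X) :=
  {U | ∃ V : Opens Y, y ∈ V ∧ IsCompact (V : Set Y) ∧ U = (Opens.map f).obj V}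

lemma nbY_ne : (nbY f y).Nonempty := ⟨(Opens.map f).obj ⊤, ⊤, trivial, isCompact_univ, rfl⟩

lemma nbY_cpt (hf : IsSpectralMap f) : ∀ U ∈ nbY f y, IsCompact (U : Set X) := by
  rintro U ⟨V, -, hV, rfl⟩
  exact hf.isCompact_preimage_of_isOpen V.isOpen hV

lemma nbY_dir : ∀ U ∈ nbY f y, ∀ U' ∈ nbY f y, ∃ U'' ∈ nbY f y, U'' ≤ U ⊓ U' := by
  rintro U ⟨V, hyV, hV, rfl⟩ U' ⟨V', hyV', hV', rfl⟩
  refine ⟨(Opens.map f).obj (V ⊓ V'), ⟨V ⊓ V', ⟨hyV, hyV'⟩, ?_, rfl⟩, ?_⟩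
  · exact QuasiSeparatedSpace.inter_isCompact (V : Set Y) (V' : Set Y) V.isOpen hV V'.isOpen hV'
  · exact le_inf (fun x hx => hx.1) (fun x hx => hx.2)

lemma mem_genFib_iff (x : X) : x ∈ genFib f y ↔ ∀ U ∈ nbY f y, x ∈ U := by
  constructor
  · rintro hx U ⟨V, hyV, -, rfl⟩
    obtain ⟨z, hzV, hz⟩ := mem_closure_iff.mp hx (V : Set Y) V.isOpen hyV
    rw [Set.mem_singleton_iff.mp hz] at hzV
    exact hzV
  · intro h
    by_contra hx
    have hy' : y ∈ (closure ({f x} : Set Y))ᶜ := hx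
    obtain ⟨V, ⟨hVo, hVc⟩, hyV, hVsub⟩ :=
      (PrespectralSpace.isTopologicalBasis (X := Y)).exists_subset_of_mem_open hy'
        isClosed_closure.isOpen_compl
    have hxV : f x ∈ V := h ((Opens.map f).obj ⟨V, hVo⟩) ⟨⟨V, hVo⟩, hyV, hVc, rfl⟩
    exact hVsub hxV (subset_closure (Set.mem_singleton (f x)))

lemma genFib_sub (V : (OpenNhds y)ᵒᵖ) :
    NP (genFib f y) (((OpenNhds.inclusion y).op ⋙ (Opens.map f).op).obj V) := by
  intro x hx
  obtain ⟨z, hzV, hz⟩ := mem_closure_iff.mp hx (V.unop.1 : Set Y) V.unop.1.isOpen V.unop.2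
  rw [Set.mem_singleton_iff.mp hz] at hzV
  exact hzV

/-- `V ↦ f⁻¹V` from neighbourhoods of `y` to neighbourhoods of `f⁻¹(gen y)` -/
noncomputable def ΘY : (OpenNhds y)ᵒᵖ ⥤ N (genFib f y) :=
  (NP (genFib f y)).lift ((OpenNhds.inclusion y).op ⋙ (Opens.map f).op) (genFib_sub f y)

theorem ΘY_final (hf : IsSpectralMap f) : (ΘY f y).Final := by
  refine Functor.final_of_exists_of_isFiltered _ ?_ ?_
  · intro d
    obtain ⟨U, ⟨V, hyV, hVc, rfl⟩, hUd⟩ := exists_le_of_subset (nbY f y) (nbY_ne f y)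
      (nbY_cpt f y hf) (nbY_dir f y) d.obj.unop
      (fun x hx => d.property ((mem_genFib_iff f y x).mpr hx))
    exact ⟨op ⟨V, hyV⟩,
      ⟨homN (genFib f y) d.property (genFib_sub f y (op ⟨V, hyV⟩)) hUd⟩⟩
  · intro d c s s'
    refine ⟨c, 𝟙 c, ?_⟩
    have : s = s' := by
      apply ObjectProperty.hom_ext
      exact Subsingleton.elim _ _
    rw [this]

theorem main0884 (hf : IsSpectralMap f) (F : CohTop.Ab X) (p : ℕ) :
    Nonempty (CohTop.stalk ((CohTop.Rpush f p).obj F) y ≃+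
      CohTop.H ((CohTop.pull (iK (genFib f y))).obj F) p) := by
  obtain ⟨e0⟩ := Groth.Agent.S0461.result f F p
  obtain ⟨e1⟩ := stalk_congr y e0
  obtain ⟨e2⟩ := stalk_sheafify y ((Opens.map f).op ⋙ cP F p)
  haveI := ΘY_final f y hf
  have e3 : colimit (ΘY f y ⋙ ((NP (genFib f y)).ι ⋙ cP F p)) ≅
      colimit ((NP (genFib f y)).ι ⋙ cP F p) := Functor.Final.colimitIso (ΘY f y) _
  have e4 : (OpenNhds.inclusion y).op ⋙ ((Opens.map f).op ⋙ cP F p) ≅
      ΘY f y ⋙ ((NP (genFib f y)).ι ⋙ cP F p) := Iso.refl _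
  obtain ⟨e5⟩ := main_proOpen (nbY f y) (nbY_ne f y) (nbY_cpt f y hf) (nbY_dir f y) (genFib f y)
    (mem_genFib_iff f y) p F
  exact ⟨((e1 ≪≫ e2 ≪≫ (HasColimit.isoOfNatIso e4).trans e3).addCommGroupIsoToAddEquiv).trans e5⟩

end S0884

end Groth.Agent.Lib.ProOpenH2
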