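import Mathlib

set_option autoImplicit false
set_option linter.style.haveILetI false
set_option linter.unusedSectionVars false

universe u

open CategoryTheory CategoryTheory.Limits Opposite

namespace Groth.Agent.Lib.ProRepH4

variable {C : Type u} [SmallCategory C] [HasFiniteLimits C] (F : C ⥤ Type u)

/-- An element `(X, ξ)` is minimal if `ξ` does not come from a proper subobject of `X`. -/
def IsMinEl (p : F.Elements) : Prop :=
  ∀ (T : C) (m : T ⟶ p.1), Mono m → (∃ ζ : F.obj T, F.map m ζ = p.2) → IsIso m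

/-- The category of minimal elements. -/
abbrev J := ObjectProperty.FullSubcategory (fun p : F.Elements => IsMinEl F p)

/-- The diagram of minimal elements. -/
abbrev Dg : J F ⥤ C := ObjectProperty.ι _ ⋙ CategoryOfElements.π F

lemma epi_of_min {p q : F.Elements} (hq : IsMinEl F q) (u : p ⟶ q) : Epi u.val := by
  constructor
  intro Z g h hgh
  haveI := hq _ (equalizer.ι g h) inferInstance
    ⟨F.map (equalizer.lift u.val hgh) p.2, by
      rw [← FunctorToTypes.map_comp_apply, equalizer.lift_ι]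
      exact u.2⟩
  exact (cancel_epi (equalizer.ι g h)).1 (equalizer.condition g h)

lemma exists_min (hart : ∀ X : C, IsArtinianObject X) (q : F.Elements) :
    ∃ (p : F.Elements) (_ : IsMinEl F p) (m : p ⟶ q), Mono m.val := by
  haveI := hart q.1
  have hne : ({P : Subobject q.1 | ∃ ζ : F.obj (P : C), F.map P.arrow ζ = q.2}).Nonempty :=
    ⟨⊤, F.map (inv (⊤ : Subobject q.1).arrow) q.2, by
      rw [← FunctorToTypes.map_comp_apply, IsIso.inv_hom_id, FunctorToTypes.map_id_apply]⟩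
  obtain ⟨P₀, ⟨ξ₀, hξ₀⟩, hmin⟩ := (wellFounded_lt (α := Subobject q.1)).has_min _ hne
  refine ⟨⟨(P₀ : C), ξ₀⟩, ?_, ⟨P₀.arrow, hξ₀⟩, inferInstance⟩
  intro T m hm hζ'
  obtain ⟨ζ, hζ⟩ := hζ'
  haveI := hm
  have hQ : Subobject.mk (m ≫ P₀.arrow) ∈
      {P : Subobject q.1 | ∃ ζ : F.obj (P : C), F.map P.arrow ζ = q.2} := by
    refine ⟨F.map (Subobject.underlyingIso (m ≫ P₀.arrow)).inv ζ, ?_⟩
    rw [← FunctorToTypes.map_comp_apply, Subobject.underlyingIso_arrow,
      FunctorToTypes.map_comp_apply, hζ]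
    exact hξ₀
  have hle : Subobject.mk (m ≫ P₀.arrow) ≤ P₀ := Subobject.mk_le_of_comm m rfl
  have heq : Subobject.mk (m ≫ P₀.arrow) = P₀ := eq_of_le_of_not_lt hle (hmin _ hQ)
  have hge : P₀ ≤ Subobject.mk (m ≫ P₀.arrow) := heq.ge
  have hk : Subobject.ofLEMk P₀ (m ≫ P₀.arrow) hge ≫ m = 𝟙 _ := by
    rw [← cancel_mono P₀.arrow, Category.assoc, Subobject.ofLEMk_comp, Category.id_comp]
  haveI : IsSplitEpi m := ⟨⟨⟨_, hk⟩⟩⟩
  exact isIso_of_mono_of_isSplitEpi m

variable [PreservesFiniteLimits F]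

lemma hom_unique {p : F.Elements} (hp : IsMinEl F p) {Z : C} (a b : p.1 ⟶ Z)
    (hab : F.map a p.2 = F.map b p.2) : a = b := by
  have hl := isLimitForkMapOfIsLimit F (equalizer.condition a b) (equalizerIsEqualizer a b)
  obtain ⟨ζ, hζ, -⟩ := Types.unique_of_type_equalizer _ _ hl p.2 hab
  haveI := hp _ (equalizer.ι a b) inferInstance ⟨ζ, hζ⟩
  exact (cancel_epi (equalizer.ι a b)).1 (equalizer.condition a b)

lemma exists_prod_elt (X Y : C) (ξ : F.obj X) (η : F.obj Y) :
    ∃ ζ : F.obj (X ⨯ Y), F.map prod.fst ζ = ξ ∧ F.map prod.snd ζ = η := by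
  obtain ⟨w, hw⟩ : ∃ w : (F.obj X ⨯ F.obj Y : Type u),
      w = (Types.binaryProductIso (F.obj X) (F.obj Y)).inv ((ξ, η) : F.obj X × F.obj Y) :=
    ⟨_, rfl⟩
  have hw1 : (prod.fst : (F.obj X ⨯ F.obj Y) ⟶ F.obj X) w = ξ := by
    rw [hw]
    exact ConcreteCategory.congr_hom
      (Types.binaryProductIso_inv_comp_fst (F.obj X) (F.obj Y)) ((ξ, η) : F.obj X × F.obj Y)
  have hw2 : (prod.snd : (F.obj X ⨯ F.obj Y) ⟶ F.obj Y) w = η := by
    rw [hw]
    exact ConcreteCategory.congr_hom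
      (Types.binaryProductIso_inv_comp_snd (F.obj X) (F.obj Y)) ((ξ, η) : F.obj X × F.obj Y)
  refine ⟨(PreservesLimitPair.iso F X Y).inv w, ?_, ?_⟩
  · exact (ConcreteCategory.congr_hom (PreservesLimitPair.iso_inv_fst F X Y) w).trans hw1
  · exact (ConcreteCategory.congr_hom (PreservesLimitPair.iso_inv_snd F X Y) w).trans hw2

lemma isCofiltered (hart : ∀ X : C, IsArtinianObject X) : IsCofiltered (J F) where
  cone_objs := by
    intro j j'
    obtain ⟨ζ, h1, h2⟩ := exists_prod_elt F j.obj.1 j'.obj.1 j.obj.2 j'.obj.2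
    obtain ⟨p, hp, m, _⟩ := exists_min F hart ⟨j.obj.1 ⨯ j'.obj.1, ζ⟩
    refine ⟨⟨p, hp⟩, ObjectProperty.homMk ⟨m.val ≫ prod.fst, ?_⟩,
      ObjectProperty.homMk ⟨m.val ≫ prod.snd, ?_⟩, trivial⟩
    · rw [FunctorToTypes.map_comp_apply, m.2]
      exact h1
    · rw [FunctorToTypes.map_comp_apply, m.2]
      exact h2
  cone_maps := by
    intro j j' f g
    refine ⟨j, 𝟙 j, ?_⟩
    have hfg : f = g := by
      apply ObjectProperty.hom_ext
      apply CategoryOfElements.ext
      exact hom_unique F j.property _ _ (f.hom.2.trans g.hom.2.symm)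
    rw [hfg]
  nonempty := by
    obtain ⟨p, hp, m, _⟩ := exists_min F hart
      ⟨⊤_ C, (PreservesTerminal.iso F).inv (Types.terminalIso.inv PUnit.unit)⟩
    exact ⟨⟨p, hp⟩⟩

/-- The cocone with point `F`. -/
noncomputable def cc : Cocone ((Dg F).op ⋙ coyoneda) where
  pt := F
  ι :=
    { app := fun j => coyonedaEquiv.symm j.unop.obj.2
      naturality := by
        intro j j' φ
        ext Z g
        show F.map ((Dg F).map φ.unop ≫ g) j'.unop.obj.2 = F.map g j.unop.obj.2
        rw [FunctorToTypes.map_comp_apply]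
        congr 1
        exact φ.unop.hom.2 }

noncomputable def cc_isColimit (hart : ∀ X : C, IsArtinianObject X) : IsColimit (cc F) := by
  haveI := isCofiltered F hart
  apply evaluationJointlyReflectsColimits
  intro Z
  apply Types.FilteredColimit.isColimitOf
  · intro z
    obtain ⟨p, hp, m, _⟩ := exists_min F hart ⟨Z, z⟩
    exact ⟨op ⟨p, hp⟩, m.val, m.2.symm⟩
  · intro i j g g' hgg'
    obtain ⟨k, a, b, -⟩ := IsCofilteredOrEmpty.cone_objs i.unop j.unop
    refine ⟨op k, a.op, b.op, ?_⟩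
    show (Dg F).map a ≫ g = (Dg F).map b ≫ g'
    apply hom_unique F k.property
    have e1 : F.map ((Dg F).map a ≫ g) k.obj.2 = F.map g (F.map ((Dg F).map a) k.obj.2) :=
      FunctorToTypes.map_comp_apply F _ _ _
    have e2 : F.map ((Dg F).map b ≫ g') k.obj.2 = F.map g' (F.map ((Dg F).map b) k.obj.2) :=
      FunctorToTypes.map_comp_apply F _ _ _
    have ha : F.map ((Dg F).map a) k.obj.2 = i.unop.obj.2 := a.hom.2
    have hb : F.map ((Dg F).map b) k.obj.2 = j.unop.obj.2 := b.hom.2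
    exact e1.trans ((congrArg (fun t => F.map g t) ha).trans
      (hgg'.trans ((congrArg (fun t => F.map g' t) hb).symm.trans e2.symm)))

theorem main5691 (hart : ∀ X : C, IsArtinianObject X) :
    ∃ (J : Type u) (_ : SmallCategory J) (_ : IsCofiltered J) (D : J ⥤ C),
      (∀ ⦃j j' : J⦄ (a : j ⟶ j'), Epi (D.map a)) ∧
        Nonempty (F ≅ colimit (D.op ⋙ coyoneda)) := by
  refine ⟨J F, inferInstance, isCofiltered F hart, Dg F, ?_, ?_⟩
  · intro j j' a
    exact epi_of_min F j'.property a.hom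
  · exact ⟨IsColimit.coconePointUniqueUpToIso (cc_isColimit F hart) (colimit.isColimit _)⟩

end Groth.Agent.Lib.ProRepH4
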