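import Groth.Statements.S11420
import Groth.Agent.Lib.Rigidity2_lead
import Groth.Agent.Lib.TorsorSeq_lead
import Groth.Agent.Lib.ExtProps_lead

/-! # Actions of connected groups on products of complete varieties (lead) -/

set_option backward.isDefEq.respectTransparency false
set_option backward.isDefEq.respectTransparency.types false
set_option linter.unusedSimpArgs false
set_option linter.unusedVariables false
set_option linter.unusedSectionVars false
set_option linter.style.longLine false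
set_option linter.style.haveILetI false
set_option maxHeartbeats 800000

universe u

open CategoryTheory CategoryTheory.Limits MonoidalCategory CartesianMonoidalCategory MonObj GrpObj
  AlgebraicGeometry Opposite Topology

namespace Groth.Agent.Lib.ProdAct

open Groth.Agent.Lib.AssocBundle Groth.Agent.Lib.IsogKernel Groth.Agent.Lib.AntiAffine
  Groth.Agent.Lib.Rigidity Groth.Agent.Lib.TorsorSeq

theorem action_ext {S : Scheme.{u}} {G X : Over S} [GrpObj G] (b b' : AlgGrp.Action G X)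
    (h : b.act = b'.act) : b = b' := by
  obtain ⟨a1, h1, h2⟩ := b
  obtain ⟨a2, h3, h4⟩ := b'
  have e : a1 = a2 := h
  subst e
  rfl

/-- the formal part: an action on a product whose components depend only on the respective
factors is a product action, uniquely -/
theorem prod_formal {S : Scheme.{u}} {G X Y : Over S} [GrpObj G] (a : AlgGrp.Action G (X ⊗ Y))
    (bact : G ⊗ X ⟶ X) (cact : G ⊗ Y ⟶ Y)
    (HB : ∀ (T : Over S) (g : T ⟶ G) (x : T ⟶ X) (y : T ⟶ Y),
      lift g (lift x y) ≫ a.act ≫ fst X Y = lift g x ≫ bact)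
    (HC : ∀ (T : Over S) (g : T ⟶ G) (x : T ⟶ X) (y : T ⟶ Y),
      lift g (lift x y) ≫ a.act ≫ snd X Y = lift g y ≫ cact)
    (x₀ : 𝟙_ (Over S) ⟶ X) (y₀ : 𝟙_ (Over S) ⟶ Y) :
    ∃ (b : AlgGrp.Action G X) (c : AlgGrp.Action G Y),
      a.act = lift ((G ◁ fst X Y) ≫ b.act) ((G ◁ snd X Y) ≫ c.act) ∧
      ∀ (b' : AlgGrp.Action G X) (c' : AlgGrp.Action G Y),
        a.act = lift ((G ◁ fst X Y) ≫ b'.act) ((G ◁ snd X Y) ≫ c'.act) → b' = b ∧ c' = c := by
  have hb1 : ∀ (T : Over S) (x : T ⟶ X), lift (1 : T ⟶ G) x ≫ bact = x := by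
    intro T x
    rw [← HB T 1 x (toUnit T ≫ y₀), ← Category.assoc, act_one' a, lift_fst]
  have hc1 : ∀ (T : Over S) (y : T ⟶ Y), lift (1 : T ⟶ G) y ≫ cact = y := by
    intro T y
    rw [← HC T 1 (toUnit T ≫ x₀) y, ← Category.assoc, act_one' a, lift_snd]
  have hb2 : ∀ (T : Over S) (g h : T ⟶ G) (x : T ⟶ X),
      lift (g * h) x ≫ bact = lift g (lift h x ≫ bact) ≫ bact := by
    intro T g h x
    obtain ⟨y, hy⟩ : ∃ y : T ⟶ Y, y = toUnit T ≫ y₀ := ⟨_, rfl⟩
    obtain ⟨p, hp⟩ : ∃ p : T ⟶ X ⊗ Y, p = lift h (lift x y) ≫ a.act := ⟨_, rfl⟩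
    have e1 : p ≫ fst X Y = lift h x ≫ bact := by rw [hp, Category.assoc, HB]
    have e2 : lift g p ≫ a.act ≫ fst X Y = lift g (p ≫ fst X Y) ≫ bact := by
      have h0 := HB T g (p ≫ fst X Y) (p ≫ snd X Y)
      rw [lift_comp_fst_snd] at h0
      exact h0
    calc lift (g * h) x ≫ bact = lift (g * h) (lift x y) ≫ a.act ≫ fst X Y :=
          (HB T (g * h) x y).symm
      _ = lift g p ≫ a.act ≫ fst X Y := by
          rw [← Category.assoc, act_mul' a, hp]
          simp only [Category.assoc]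
      _ = lift g (p ≫ fst X Y) ≫ bact := e2
      _ = lift g (lift h x ≫ bact) ≫ bact := by rw [e1]
  have hc2 : ∀ (T : Over S) (g h : T ⟶ G) (y : T ⟶ Y),
      lift (g * h) y ≫ cact = lift g (lift h y ≫ cact) ≫ cact := by
    intro T g h y
    obtain ⟨x, hx⟩ : ∃ x : T ⟶ X, x = toUnit T ≫ x₀ := ⟨_, rfl⟩
    obtain ⟨p, hp⟩ : ∃ p : T ⟶ X ⊗ Y, p = lift h (lift x y) ≫ a.act := ⟨_, rfl⟩
    have e1 : p ≫ snd X Y = lift h y ≫ cact := by rw [hp, Category.assoc, HC]
    have e2 : lift g p ≫ a.act ≫ snd X Y = lift g (p ≫ snd X Y) ≫ cact := by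
      have h0 := HC T g (p ≫ fst X Y) (p ≫ snd X Y)
      rw [lift_comp_fst_snd] at h0
      exact h0
    calc lift (g * h) y ≫ cact = lift (g * h) (lift x y) ≫ a.act ≫ snd X Y :=
          (HC T (g * h) x y).symm
      _ = lift g p ≫ a.act ≫ snd X Y := by
          rw [← Category.assoc, act_mul' a, hp]
          simp only [Category.assoc]
      _ = lift g (p ≫ snd X Y) ≫ cact := e2
      _ = lift g (lift h y ≫ cact) ≫ cact := by rw [e1]
  have hid : lift (fst G (X ⊗ Y)) (lift (snd G (X ⊗ Y) ≫ fst X Y) (snd G (X ⊗ Y) ≫ snd X Y)) =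
      𝟙 (G ⊗ (X ⊗ Y)) := by
    apply CartesianMonoidalCategory.hom_ext
    · rw [lift_fst, Category.id_comp]
    · rw [lift_snd, Category.id_comp]
      apply CartesianMonoidalCategory.hom_ext
      · rw [lift_fst]
      · rw [lift_snd]
  have hw1 : G ◁ fst X Y = lift (fst G (X ⊗ Y)) (snd G (X ⊗ Y) ≫ fst X Y) := by
    apply CartesianMonoidalCategory.hom_ext
    · rw [whiskerLeft_fst, lift_fst]
    · rw [whiskerLeft_snd, lift_snd]
  have hw2 : G ◁ snd X Y = lift (fst G (X ⊗ Y)) (snd G (X ⊗ Y) ≫ snd X Y) := by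
    apply CartesianMonoidalCategory.hom_ext
    · rw [whiskerLeft_fst, lift_fst]
    · rw [whiskerLeft_snd, lift_snd]
  have hdec : a.act = lift ((G ◁ fst X Y) ≫ bact) ((G ◁ snd X Y) ≫ cact) := by
    apply CartesianMonoidalCategory.hom_ext
    · have h0 := HB _ (fst G (X ⊗ Y)) (snd G (X ⊗ Y) ≫ fst X Y) (snd G (X ⊗ Y) ≫ snd X Y)
      rw [hid, Category.id_comp] at h0
      rw [lift_fst, hw1]
      exact h0
    · have h0 := HC _ (fst G (X ⊗ Y)) (snd G (X ⊗ Y) ≫ fst X Y) (snd G (X ⊗ Y) ≫ snd X Y)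
      rw [hid, Category.id_comp] at h0
      rw [lift_snd, hw2]
      exact h0
  refine ⟨actionOfPointwise bact hb1 hb2, actionOfPointwise cact hc1 hc2, hdec, ?_⟩
  intro b' c' hab
  have hb' : b'.act = bact := by
    have h1 := HB _ (fst G X) (snd G X) (toUnit (G ⊗ X) ≫ y₀)
    rw [lift_fst_snd, Category.id_comp] at h1
    have e : lift (fst G X) (lift (snd G X) (toUnit (G ⊗ X) ≫ y₀)) ≫ (G ◁ fst X Y) =
        𝟙 (G ⊗ X) := by
      apply CartesianMonoidalCategory.hom_ext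
      · rw [Category.assoc, whiskerLeft_fst, lift_fst, Category.id_comp]
      · rw [Category.assoc, whiskerLeft_snd, lift_snd_assoc, lift_fst, Category.id_comp]
    rw [← h1, hab, lift_fst, ← Category.assoc, e, Category.id_comp]
  have hc' : c'.act = cact := by
    have h1 := HC _ (fst G Y) (toUnit (G ⊗ Y) ≫ x₀) (snd G Y)
    rw [lift_fst_snd, Category.id_comp] at h1
    have e : lift (fst G Y) (lift (toUnit (G ⊗ Y) ≫ x₀) (snd G Y)) ≫ (G ◁ snd X Y) =
        𝟙 (G ⊗ Y) := by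
      apply CartesianMonoidalCategory.hom_ext
      · rw [Category.assoc, whiskerLeft_fst, lift_fst, Category.id_comp]
      · rw [Category.assoc, whiskerLeft_snd, lift_snd_assoc, lift_snd, Category.id_comp]
    rw [← h1, hab, lift_snd, ← Category.assoc, e, Category.id_comp]
  exact ⟨action_ext _ _ hb', action_ext _ _ hc'⟩

variable {k : Type u} [Field k]

/-- a morphism out of `W × B`, `W` anti-affine, constant on `W × b₀`, does not depend on the
`W`-coordinate -/
theorem indep (W B Z : Over (Spec (CommRingCat.of k))) (hW : AA W) [CompactSpace W.left]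
    [QuasiSeparatedSpace W.left] [LocallyOfFiniteType B.hom] [QuasiCompact B.hom]
    [ConnectedSpace ↥B.left] [IsSeparated Z.hom]
    (w₀ : 𝟙_ (Over (Spec (CommRingCat.of k))) ⟶ W) (b₀ : 𝟙_ (Over (Spec (CommRingCat.of k))) ⟶ B)
    (z₀ : 𝟙_ (Over (Spec (CommRingCat.of k))) ⟶ Z) (F : W ⊗ B ⟶ Z)
    (hF : (W ◁ b₀) ≫ F = toUnit _ ≫ z₀) {T : Over (Spec (CommRingCat.of k))} (w : T ⟶ W)
    (b : T ⟶ B) : lift w b ≫ F = lift (toUnit T ≫ w₀) b ≫ F := by
  obtain ⟨pt₀⟩ : Nonempty ↥(𝟙_ (Over (Spec (CommRingCat.of k)))).left :=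
    (inferInstance : Nonempty (PrimeSpectrum k))
  haveI hsub : Subsingleton ↥(𝟙_ (Over (Spec (CommRingCat.of k)))).left :=
    (inferInstance : Subsingleton (PrimeSpectrum k))
  haveI : IsNoetherianRing (CommRingCat.of k) := inferInstanceAs (IsNoetherianRing k)
  haveI : IsLocallyNoetherian B.left := LocallyOfFiniteType.isLocallyNoetherian B.hom
  haveI : CompactSpace B.left := QuasiCompact.compactSpace_of_compactSpace B.hom
  have hfp : ∀ p, ((W ◁ b₀) ≫ F).left p = z₀.left pt₀ := by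
    intro p
    rw [hF]
    exact congrArg (fun t => z₀.left t) (Subsingleton.elim _ pt₀)
  have key := rigid_rat W B Z hW w₀ b₀ F (z₀.left pt₀) hfp
  have e0 : b ≫ lift (toUnit B ≫ w₀) (𝟙 B) = lift (toUnit T ≫ w₀) b := by
    apply CartesianMonoidalCategory.hom_ext
    · rw [Category.assoc, lift_fst, lift_fst, ← Category.assoc, comp_toUnit]
    · rw [Category.assoc, lift_snd, lift_snd, Category.comp_id]
  calc lift w b ≫ F = lift w b ≫ snd W B ≫ lift (toUnit B ≫ w₀) (𝟙 B) ≫ F := by rw [← key]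
    _ = (b ≫ lift (toUnit B ≫ w₀) (𝟙 B)) ≫ F := by rw [lift_snd_assoc, Category.assoc]
    _ = lift (toUnit T ≫ w₀) b ≫ F := by rw [e0]

section Phi

variable {G X Y : Over (Spec (CommRingCat.of k))} [GrpObj G] (a : AlgGrp.Action G (X ⊗ Y))

/-- `(y, (g, x)) ↦ pr₁ (g · (x, y))` -/
noncomputable def PhiX : Y ⊗ (G ⊗ X) ⟶ X :=
  lift (snd Y (G ⊗ X) ≫ fst G X) (lift (snd Y (G ⊗ X) ≫ snd G X) (fst Y (G ⊗ X))) ≫
    a.act ≫ fst X Y

/-- `(x, (g, y)) ↦ pr₂ (g · (x, y))` -/
noncomputable def PhiY : X ⊗ (G ⊗ Y) ⟶ Y :=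
  lift (snd X (G ⊗ Y) ≫ fst G Y) (lift (fst X (G ⊗ Y)) (snd X (G ⊗ Y) ≫ snd G Y)) ≫
    a.act ≫ snd X Y

theorem PhiX_pt {T : Over (Spec (CommRingCat.of k))} (y : T ⟶ Y) (g : T ⟶ G) (x : T ⟶ X) :
    lift y (lift g x) ≫ PhiX a = lift g (lift x y) ≫ a.act ≫ fst X Y := by
  have e : lift y (lift g x) ≫ lift (snd Y (G ⊗ X) ≫ fst G X)
      (lift (snd Y (G ⊗ X) ≫ snd G X) (fst Y (G ⊗ X))) = lift g (lift x y) := by
    apply CartesianMonoidalCategory.hom_ext
    · simp only [Category.assoc, lift_fst, lift_snd, lift_fst_assoc, lift_snd_assoc]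
    · apply CartesianMonoidalCategory.hom_ext <;>
        simp only [Category.assoc, lift_fst, lift_snd, lift_fst_assoc, lift_snd_assoc]
  unfold PhiX
  rw [← Category.assoc, e]

theorem PhiY_pt {T : Over (Spec (CommRingCat.of k))} (x : T ⟶ X) (g : T ⟶ G) (y : T ⟶ Y) :
    lift x (lift g y) ≫ PhiY a = lift g (lift x y) ≫ a.act ≫ snd X Y := by
  have e : lift x (lift g y) ≫ lift (snd X (G ⊗ Y) ≫ fst G Y)
      (lift (fst X (G ⊗ Y)) (snd X (G ⊗ Y) ≫ snd G Y)) = lift g (lift x y) := by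
    apply CartesianMonoidalCategory.hom_ext
    · simp only [Category.assoc, lift_fst, lift_snd, lift_fst_assoc, lift_snd_assoc]
    · apply CartesianMonoidalCategory.hom_ext <;>
        simp only [Category.assoc, lift_fst, lift_snd, lift_fst_assoc, lift_snd_assoc]
  unfold PhiY
  rw [← Category.assoc, e]

theorem PhiX_base (x₀ : 𝟙_ (Over (Spec (CommRingCat.of k))) ⟶ X) :
    (Y ◁ lift η[G] x₀) ≫ PhiX a = toUnit _ ≫ x₀ := by
  have ew : Y ◁ lift η[G] x₀ = lift (fst Y (𝟙_ _))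
      (lift (snd Y (𝟙_ _) ≫ η[G]) (snd Y (𝟙_ _) ≫ x₀)) := by
    apply CartesianMonoidalCategory.hom_ext
    · rw [whiskerLeft_fst, lift_fst]
    · rw [whiskerLeft_snd, lift_snd, comp_lift]
  have hone : snd Y (𝟙_ (Over (Spec (CommRingCat.of k)))) ≫ η[G] =
      (1 : Y ⊗ 𝟙_ (Over (Spec (CommRingCat.of k))) ⟶ G) := by
    rw [Hom.one_def]
    congr 1
    exact toUnit_unique _ _
  rw [ew, PhiX_pt, hone, ← Category.assoc, act_one' a, lift_fst]
  congr 1
  exact toUnit_unique _ _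

theorem PhiY_base (y₀ : 𝟙_ (Over (Spec (CommRingCat.of k))) ⟶ Y) :
    (X ◁ lift η[G] y₀) ≫ PhiY a = toUnit _ ≫ y₀ := by
  have ew : X ◁ lift η[G] y₀ = lift (fst X (𝟙_ _))
      (lift (snd X (𝟙_ _) ≫ η[G]) (snd X (𝟙_ _) ≫ y₀)) := by
    apply CartesianMonoidalCategory.hom_ext
    · rw [whiskerLeft_fst, lift_fst]
    · rw [whiskerLeft_snd, lift_snd, comp_lift]
  have hone : snd X (𝟙_ (Over (Spec (CommRingCat.of k)))) ≫ η[G] =
      (1 : X ⊗ 𝟙_ (Over (Spec (CommRingCat.of k))) ⟶ G) := by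
    rw [Hom.one_def]
    congr 1
    exact toUnit_unique _ _
  rw [ew, PhiY_pt, hone, ← Category.assoc, act_one' a, lift_snd]
  congr 1
  exact toUnit_unique _ _

end Phi

theorem lft_tensor (G X : Over (Spec (CommRingCat.of k))) [LocallyOfFiniteType G.hom]
    [LocallyOfFiniteType X.hom] : LocallyOfFiniteType (G ⊗ X).hom := by
  haveI : LocallyOfFiniteType (fst G X).left :=
    (inferInstance : LocallyOfFiniteType (pullback.fst G.hom X.hom))
  rw [← Over.w (fst G X)]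
  infer_instance

theorem qc_tensor (G X : Over (Spec (CommRingCat.of k))) [QuasiCompact G.hom]
    [QuasiCompact X.hom] : QuasiCompact (G ⊗ X).hom := by
  haveI : QuasiCompact (fst G X).left :=
    (inferInstance : QuasiCompact (pullback.fst G.hom X.hom))
  rw [← Over.w (fst G X)]
  infer_instance

theorem main11420 (k : Type u) [Field k] [IsAlgClosed k]
    (G X Y : Over (Spec (CommRingCat.of k))) [GrpObj G] [LocallyOfFiniteType G.hom]
    [QuasiCompact G.hom] [ConnectedSpace ↥G.left]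
    [IsProper X.hom] [IsIntegral X.left]
    [IsProper Y.hom] [IsIntegral Y.left]
    (a : AlgGrp.Action G (X ⊗ Y)) :
    ∃ (b : AlgGrp.Action G X) (c : AlgGrp.Action G Y),
      a.act = lift ((G ◁ fst X Y) ≫ b.act) ((G ◁ snd X Y) ≫ c.act) ∧
      ∀ (b' : AlgGrp.Action G X) (c' : AlgGrp.Action G Y),
        a.act = lift ((G ◁ fst X Y) ≫ b'.act) ((G ◁ snd X Y) ≫ c'.act) → b' = b ∧ c' = c := by
  have hAX : AA X := Groth.Agent.Lib.AutFix.aa_of_proper X
  have hAY : AA Y := Groth.Agent.Lib.AutFix.aa_of_proper Y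
  obtain ⟨hcX, hqX⟩ := qcqs X
  obtain ⟨hcY, hqY⟩ := qcqs Y
  haveI := hcX
  haveI := hqX
  haveI := hcY
  haveI := hqY
  haveI : Nonempty X.left := nonempty_of_aa X hAX
  haveI : Nonempty Y.left := nonempty_of_aa Y hAY
  obtain ⟨x₁, -, hx₁⟩ := (isClosed_univ (X := X.left)).exists_closed_singleton Set.univ_nonempty
  obtain ⟨x₀, -⟩ := Groth.Agent.Lib.UUinv.exists_rat X x₁ hx₁
  obtain ⟨y₁, -, hy₁⟩ := (isClosed_univ (X := Y.left)).exists_closed_singleton Set.univ_nonempty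
  obtain ⟨y₀, -⟩ := Groth.Agent.Lib.UUinv.exists_rat Y y₁ hy₁
  haveI : GeometricallyConnected G.hom := Groth.Agent.Lib.ExtProps.geomConn_grp G
  haveI : UniversallyOpen G.hom := inferInstance
  haveI : ConnectedSpace X.left := inferInstance
  haveI : ConnectedSpace Y.left := inferInstance
  haveI hcGX : ConnectedSpace ↥(G ⊗ X).left :=
    (inferInstance : ConnectedSpace ↥(pullback G.hom X.hom))
  haveI hcGY : ConnectedSpace ↥(G ⊗ Y).left :=
    (inferInstance : ConnectedSpace ↥(pullback G.hom Y.hom))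
  haveI := lft_tensor G X
  haveI := lft_tensor G Y
  haveI := qc_tensor G X
  haveI := qc_tensor G Y
  have HB : ∀ (T : Over (Spec (CommRingCat.of k))) (g : T ⟶ G) (x : T ⟶ X) (y : T ⟶ Y),
      lift g (lift x y) ≫ a.act ≫ fst X Y =
        lift g x ≫ (lift (toUnit (G ⊗ X) ≫ y₀) (𝟙 (G ⊗ X)) ≫ PhiX a) := by
    intro T g x y
    have h1 := indep Y (G ⊗ X) X hAY y₀ (lift η[G] x₀) x₀ (PhiX a) (PhiX_base a x₀) y (lift g x)
    have e0 : lift g x ≫ lift (toUnit (G ⊗ X) ≫ y₀) (𝟙 (G ⊗ X)) =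
        lift (toUnit T ≫ y₀) (lift g x) := by
      apply CartesianMonoidalCategory.hom_ext
      · rw [Category.assoc, lift_fst, lift_fst, ← Category.assoc, comp_toUnit]
      · rw [Category.assoc, lift_snd, lift_snd, Category.comp_id]
    rw [← PhiX_pt a, h1, ← Category.assoc, e0]
  have HC : ∀ (T : Over (Spec (CommRingCat.of k))) (g : T ⟶ G) (x : T ⟶ X) (y : T ⟶ Y),
      lift g (lift x y) ≫ a.act ≫ snd X Y =
        lift g y ≫ (lift (toUnit (G ⊗ Y) ≫ x₀) (𝟙 (G ⊗ Y)) ≫ PhiY a) := by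
    intro T g x y
    have h1 := indep X (G ⊗ Y) Y hAX x₀ (lift η[G] y₀) y₀ (PhiY a) (PhiY_base a y₀) x (lift g y)
    have e0 : lift g y ≫ lift (toUnit (G ⊗ Y) ≫ x₀) (𝟙 (G ⊗ Y)) =
        lift (toUnit T ≫ x₀) (lift g y) := by
      apply CartesianMonoidalCategory.hom_ext
      · rw [Category.assoc, lift_fst, lift_fst, ← Category.assoc, comp_toUnit]
      · rw [Category.assoc, lift_snd, lift_snd, Category.comp_id]
    rw [← PhiY_pt a, h1, ← Category.assoc, e0]
  exact prod_formal a _ _ HB HC x₀ y₀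

end Groth.Agent.Lib.ProdAct
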