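import Mathlib

/-! Closures in products over a field. -/

universe u
open AlgebraicGeometry CategoryTheory CategoryTheory.Limits

namespace ProdClH8

/-- **Lemma S.** In `P = X ×_k Y`, a point `w` with `q w ∈ closure B` lies in the closure of
the points of the fibre `p⁻¹(p w)` mapping into `B`. -/
theorem mem_closure_fibre {k : Type u} [Field k] {P X Y : Scheme.{u}}
    {p : P ⟶ X} {q : P ⟶ Y} {f : X ⟶ Spec (CommRingCat.of k)} {g : Y ⟶ Spec (CommRingCat.of k)}
    (sq : IsPullback p q f g) (B : Set Y) (w : P) (hw : q w ∈ closure B) :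
    w ∈ closure (⇑p ⁻¹' {p w} ∩ ⇑q ⁻¹' B) := by
  set a := p w with ha
  have sqL : IsPullback (p.fiberι a) (p.fiberToSpecResidueField a) p
      (X.fromSpecResidueField a) := IsPullback.of_hasPullback _ _
  have sq' := sqL.paste_horiz sq.flip
  haveI : UniversallyOpen (X.fromSpecResidueField a ≫ f) := inferInstance
  haveI : UniversallyOpen (p.fiberι a ≫ q) := MorphismProperty.of_isPullback sq'.flip inferInstance
  rw [mem_closure_iff]
  intro O hO hwO
  have hopen : IsOpen (⇑(p.fiberι a ≫ q) '' (⇑(p.fiberι a) ⁻¹' O)) :=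
    (p.fiberι a ≫ q).isOpenMap _ (hO.preimage (p.fiberι a).continuous)
  have hmem : q w ∈ ⇑(p.fiberι a ≫ q) '' (⇑(p.fiberι a) ⁻¹' O) := by
    refine ⟨p.asFiber w, ?_, ?_⟩
    · rw [Set.mem_preimage, Scheme.Hom.fiberι_asFiber]; exact hwO
    · rw [Scheme.Hom.comp_apply, Scheme.Hom.fiberι_asFiber]
  obtain ⟨b, ⟨t, htO, htb⟩, hbB⟩ := mem_closure_iff.mp hw _ hopen hmem
  refine ⟨(p.fiberι a) t, htO, ?_, ?_⟩
  · have h1 : p ((p.fiberι a) t) = a := by
      have := (p.range_fiberι a).le (Set.mem_range_self t)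
      exact this
    exact h1
  · rw [Set.mem_preimage, ← Scheme.Hom.comp_apply, htb]
    exact hbB

theorem closure_inter_preimage {k : Type u} [Field k] {P X Y : Scheme.{u}}
    {p : P ⟶ X} {q : P ⟶ Y} {f : X ⟶ Spec (CommRingCat.of k)} {g : Y ⟶ Spec (CommRingCat.of k)}
    (sq : IsPullback p q f g) (A : Set X) (B : Set Y) :
    closure (⇑p ⁻¹' A ∩ ⇑q ⁻¹' B) = ⇑p ⁻¹' closure A ∩ ⇑q ⁻¹' closure B := by
  apply Set.Subset.antisymm
  · apply closure_minimal
    · exact Set.inter_subset_inter (Set.preimage_mono subset_closure)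
        (Set.preimage_mono subset_closure)
    · exact (isClosed_closure.preimage p.continuous).inter (isClosed_closure.preimage q.continuous)
  · rintro w ⟨hwA, hwB⟩
    have h1 : w ∈ closure (⇑q ⁻¹' {q w} ∩ ⇑p ⁻¹' A) := mem_closure_fibre sq.flip A w hwA
    have h2 : ⇑q ⁻¹' {q w} ∩ ⇑p ⁻¹' A ⊆ ⇑p ⁻¹' A ∩ ⇑q ⁻¹' closure B := by
      rintro t ⟨ht1, ht2⟩
      refine ⟨ht2, ?_⟩
      have : q t = q w := ht1
      rw [Set.mem_preimage, this]; exact hwB
    have h3 : ⇑p ⁻¹' A ∩ ⇑q ⁻¹' closure B ⊆ closure (⇑p ⁻¹' A ∩ ⇑q ⁻¹' B) := by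
      rintro t ⟨ht1, ht2⟩
      have h4 := mem_closure_fibre sq B t ht2
      refine closure_mono ?_ h4
      rintro s ⟨hs1, hs2⟩
      refine ⟨?_, hs2⟩
      have : p s = p t := hs1
      rw [Set.mem_preimage, this]; exact ht1
    exact closure_minimal h3 isClosed_closure (closure_mono h2 h1)

end ProdClH8
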