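import Mathlib

set_option autoImplicit false
set_option linter.all false
set_option maxHeartbeats 1600000

universe u

open CategoryTheory AlgebraicGeometry

namespace Groth.Agent.Lib.ProdSpecInjH3

variable {ι : Type u} (A : ι → CommRingCat.{u})

/-- the product ring -/
abbrev B : CommRingCat.{u} := CommRingCat.of (∀ i, A i)

/-- the projections -/
abbrev pr (i : ι) : B A ⟶ A i := CommRingCat.ofHom (Pi.evalRingHom (fun j => (A j : Type u)) i)

/-- the ring map attached to a morphism from an affine scheme -/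
noncomputable abbrev psi {E : Scheme.{u}} {R : CommRingCat.{u}} (σ : Spec R ⟶ E) : Γ(E, ⊤) ⟶ R :=
  σ.appTop ≫ (Scheme.ΓSpecIso R).hom

lemma comp_toSpecΓ {E : Scheme.{u}} {R : CommRingCat.{u}} (σ : Spec R ⟶ E) :
    σ ≫ E.toSpecΓ = Spec.map (psi σ) := by
  rw [Scheme.toSpecΓ_naturality, ← SpecMap_ΓSpecIso_hom, ← Spec.map_comp]

/-- the product of the ring maps -/
noncomputable abbrev psiProd {E : Scheme.{u}} (σ : ∀ i, Spec (A i) ⟶ E) : Γ(E, ⊤) ⟶ B A :=
  CommRingCat.ofHom (Pi.ringHom (fun i => (psi (σ i)).hom))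

lemma psiProd_pr {E : Scheme.{u}} (σ : ∀ i, Spec (A i) ⟶ E) (i : ι) :
    psiProd A σ ≫ pr A i = psi (σ i) := by
  ext x
  rfl

/-- morphisms from `Spec (∏ A i)` to a quasi-affine scheme: existence of a lift -/
theorem exists_lift_of_isQuasiAffine (E : Scheme.{u}) [E.IsQuasiAffine]
    (σ : ∀ i, Spec (A i) ⟶ E) :
    ∃ s : Spec (B A) ⟶ E, ∀ i, Spec.map (pr A i) ≫ s = σ i := by
  -- the range of `E ⟶ Spec Γ(E)` is a quasi-compact open
  have hopen : IsOpen (Set.range E.toSpecΓ) := E.toSpecΓ.isOpenEmbedding.isOpen_range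
  have hcomp : IsCompact (Set.range E.toSpecΓ) := isCompact_range E.toSpecΓ.continuous
  obtain ⟨t, ht⟩ := PrimeSpectrum.isCompact_isOpen_iff.mp ⟨hcomp, hopen⟩
  -- for each `i`, the images of `t` generate the unit ideal of `A i`
  have hspan : ∀ i, Ideal.span (Set.range (fun c : t => (psi (σ i)).hom c.1)) = ⊤ := by
    intro i
    by_contra hne
    obtain ⟨m, hm, hle⟩ := Ideal.exists_le_maximal _ hne
    let x : Spec (A i) := ⟨m, hm.isPrime⟩
    have hx : (σ i ≫ E.toSpecΓ) x ∈ Set.range E.toSpecΓ := ⟨σ i x, rfl⟩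
    rw [comp_toSpecΓ, ← ht] at hx
    apply hx
    rw [PrimeSpectrum.mem_zeroLocus]
    intro c hc
    have : (psi (σ i)).hom c ∈ m := hle (Ideal.subset_span ⟨⟨c, hc⟩, rfl⟩)
    exact this
  -- hence the images of `t` generate the unit ideal of the product
  have hcoef : ∀ i, ∃ a : t → A i, ∑ c, a c * (psi (σ i)).hom c.1 = 1 := by
    intro i
    have h1 : (1 : A i) ∈ Ideal.span (Set.range (fun c : t => (psi (σ i)).hom c.1)) := by
      rw [hspan i]; trivial
    exact Ideal.mem_span_range_iff_exists_fun.mp h1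
  choose a ha using hcoef
  have hone : ∑ c : t, (fun i => a i c : ∀ i, A i) * (psiProd A σ).hom c.1 = 1 := by
    funext i
    rw [Finset.sum_apply]
    exact ha i
  have hrange : Set.range (Spec.map (psiProd A σ)) ⊆ Set.range E.toSpecΓ := by
    rintro _ ⟨q, rfl⟩
    rw [← ht]
    intro hq
    rw [PrimeSpectrum.mem_zeroLocus] at hq
    have h1 : (1 : B A) ∈ q.asIdeal := by
      rw [← hone]
      refine Ideal.sum_mem _ (fun c _ => Ideal.mul_mem_left _ _ ?_)
      exact hq c.2
    exact q.isPrime.ne_top (q.asIdeal.eq_top_iff_one.mpr h1)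
  refine ⟨IsOpenImmersion.lift E.toSpecΓ (Spec.map (psiProd A σ)) hrange, fun i => ?_⟩
  rw [← cancel_mono E.toSpecΓ, Category.assoc, IsOpenImmersion.lift_fac, ← Spec.map_comp,
    psiProd_pr, comp_toSpecΓ]

/-- a quasi-compact, separated, locally quasi-finite monomorphism to `Spec (∏ A i)` through which
all `Spec (A i)` factor is an isomorphism -/
theorem isIso_of_sections (E : Scheme.{u}) (p : E ⟶ Spec (B A)) [QuasiCompact p]
    [LocallyOfFiniteType p] [IsSeparated p] [LocallyQuasiFinite p] [Mono p]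
    (σ : ∀ i, Spec (A i) ⟶ E) (hσ : ∀ i, σ i ≫ p = Spec.map (pr A i)) : IsIso p := by
  haveI : CompactSpace E := QuasiCompact.compactSpace_of_compactSpace p
  haveI : IsAffine p.normalization := isAffine_of_isAffineHom p.fromNormalization
  haveI : E.IsQuasiAffine := Scheme.IsQuasiAffine.of_isImmersion p.toNormalization
  obtain ⟨s, hs⟩ := exists_lift_of_isQuasiAffine A E σ
  have hsp : s ≫ p = 𝟙 _ := by
    rw [← Spec.map_preimage (s ≫ p), ← Spec.map_id]
    congr 1
    ext b i
    have h1 : Spec.map (pr A i) ≫ (s ≫ p) = Spec.map (pr A i) := by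
      rw [← Category.assoc, hs, hσ]
    rw [← Spec.map_preimage (s ≫ p), ← Spec.map_comp] at h1
    have h2 := Spec.map_injective h1
    exact congrArg (fun φ : B A ⟶ A i => φ.hom b) h2
  refine ⟨s, ?_, hsp⟩
  rw [← cancel_mono p, Category.assoc, hsp, Category.comp_id, Category.id_comp]

end Groth.Agent.Lib.ProdSpecInjH3
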