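import Mathlib
import Groth.Prelude
import Groth.Agent.Lib.AlgSpDiag_helper7
import Groth.Agent.Lib.ProdSpecInj_helper3

set_option autoImplicit false
set_option linter.all false
set_option maxHeartbeats 1600000

universe u

open CategoryTheory CategoryTheory.Limits AlgebraicGeometry

namespace Groth.Agent.Lib.ProdSpecInjH3

open AlgSp Groth.Agent.Lib.AlgSpDiag_helper7

theorem main (S : Scheme.{u}) (X : AlgSp.Space S) (hqs : AlgSp.IsQuasiSeparatedSp X.obj)
    {ι : Type u} (A : ι → CommRingCat.{u}) (h : Spec (CommRingCat.of (∀ i, A i)) ⟶ S) :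
    Function.Injective (fun g : (AlgSp.ofScheme S).obj (Over.mk h) ⟶ X => fun i : ι =>
      (AlgSp.ofScheme S).map (Over.homMk
        (Spec.map (CommRingCat.ofHom (Pi.evalRingHom (fun j => (A j : Type u)) i)))
        rfl : Over.mk (Spec.map (CommRingCat.ofHom (Pi.evalRingHom (fun j => (A j : Type u)) i)) ≫ h) ⟶
          Over.mk h) ≫ g) := by
  intro g g' hgg'
  have hi : ∀ i : ι, (yon S).map (Over.homMk
        (Spec.map (CommRingCat.ofHom (Pi.evalRingHom (fun j => (A j : Type u)) i)))
        rfl : Over.mk (Spec.map (CommRingCat.ofHom (Pi.evalRingHom (fun j => (A j : Type u)) i)) ≫ h) ⟶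
          Over.mk h) ≫ g.hom = (yon S).map (Over.homMk
        (Spec.map (CommRingCat.ofHom (Pi.evalRingHom (fun j => (A j : Type u)) i)))
        rfl : Over.mk (Spec.map (CommRingCat.ofHom (Pi.evalRingHom (fun j => (A j : Type u)) i)) ≫ h) ⟶
          Over.mk h) ≫ g'.hom := fun i => by
    have h0 := congrFun hgg' i
    exact congrArg InducedCategory.Hom.hom h0
  -- the equalizer as a pullback of the diagonal
  have hX := X.property
  let γ : (yon S).obj (Over.mk h) ⟶ X.obj ⨯ X.obj := prod.lift g.hom g'.hom
  have hd : Representable (Limits.diag X.obj) := hX.diag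
  have sq := hd.isPullback γ
  obtain ⟨hlft, hmono, hsep, hlqf⟩ := diag_properties hX
  haveI : QuasiCompact (hd.snd γ).left := hqs.property _ _ _ sq
  haveI : LocallyOfFiniteType (hd.snd γ).left := hlft.property _ _ _ sq
  haveI : Mono (hd.snd γ).left := hmono.property _ _ _ sq
  haveI : IsSeparated (hd.snd γ).left := hsep.property _ _ _ sq
  haveI : LocallyQuasiFinite (hd.snd γ).left := hlqf.property _ _ _ sq
  -- the sections
  have hw : ∀ i : ι, ((yon S).map (Over.homMk
        (Spec.map (CommRingCat.ofHom (Pi.evalRingHom (fun j => (A j : Type u)) i)))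
        rfl : Over.mk (Spec.map (CommRingCat.ofHom (Pi.evalRingHom (fun j => (A j : Type u)) i)) ≫ h) ⟶
          Over.mk h) ≫ g.hom) ≫ Limits.diag X.obj = (yon S).map (Over.homMk
        (Spec.map (CommRingCat.ofHom (Pi.evalRingHom (fun j => (A j : Type u)) i)))
        rfl : Over.mk (Spec.map (CommRingCat.ofHom (Pi.evalRingHom (fun j => (A j : Type u)) i)) ≫ h) ⟶
          Over.mk h) ≫ γ := by
    intro i
    apply Limits.prod.hom_ext
    · simp only [γ, Category.assoc, prod.lift_fst, Limits.diag, Category.comp_id]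
    · simp only [γ, Category.assoc, prod.lift_snd, Limits.diag, Category.comp_id]
      exact hi i
  have hiso : IsIso (hd.snd γ).left :=
    isIso_of_sections A _ (hd.snd γ).left (fun i => (hd.lift _ _ (hw i)).left) (fun i => by
      rw [← Over.comp_left, hd.lift_snd]
      rfl)
  haveI : IsIso ((Over.forget S).map (hd.snd γ)) := hiso
  haveI : IsIso (hd.snd γ) := isIso_of_reflects_iso _ (Over.forget S)
  have hγ : γ = inv ((yon S).map (hd.snd γ)) ≫ hd.fst γ ≫ Limits.diag X.obj := by
    rw [sq.w, IsIso.inv_hom_id_assoc]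
  have h1 : g.hom = γ ≫ prod.fst := by simp only [γ, prod.lift_fst]
  have h2 : g'.hom = γ ≫ prod.snd := by simp only [γ, prod.lift_snd]
  apply ObjectProperty.hom_ext
  rw [h1, h2, hγ]
  simp only [Category.assoc, Limits.diag, prod.lift_fst, prod.lift_snd]

end Groth.Agent.Lib.ProdSpecInjH3
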