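import Mathlib
import Groth.Prelude.Def_CohCx

set_option autoImplicit false
set_option linter.style.haveILetI false
set_option linter.unusedSectionVars false

universe w v u t

open CategoryTheory CategoryTheory.Limits

namespace Groth.Agent.Lib.ProdTAH4

section General

variable {𝒜 : Type u} [Category.{v} 𝒜] [Abelian 𝒜] [HasExt.{w} 𝒜]

/-- lifting through the epi of a short exact sequence when `Ext¹` vanishes. -/
lemma exists_lift_of_ext_one {S : ShortComplex 𝒜} (hS : S.ShortExact) (A : 𝒜)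
    [Subsingleton (Abelian.Ext A S.X₁ 1)] (c : A ⟶ S.X₃) : ∃ d : A ⟶ S.X₂, d ≫ S.g = c := by
  obtain ⟨x₂, hx₂⟩ := Abelian.Ext.covariant_sequence_exact₃ A hS (Abelian.Ext.mk₀ c)
    (rfl : 0 + 1 = 1) (Subsingleton.elim _ _)
  refine ⟨Abelian.Ext.homEquiv₀ x₂, (Abelian.Ext.mk₀_bijective _ _).1 ?_⟩
  rw [← Abelian.Ext.mk₀_comp_mk₀, Abelian.Ext.mk₀_homEquiv₀_apply]
  exact hx₂

variable {T : Type t} [HasProductsOfShape T 𝒜]

lemma prod_zero (S : T → ShortComplex 𝒜) :
    (Limits.Pi.map fun t => (S t).f) ≫ (Limits.Pi.map fun t => (S t).g) = 0 := by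
  refine Pi.hom_ext _ _ (fun t => ?_)
  rw [Category.assoc, Limits.Pi.map_π, Limits.Pi.map_π_assoc, (S t).zero, comp_zero, zero_comp]

/-- the product of a family of short complexes -/
noncomputable def prodSC (S : T → ShortComplex 𝒜) : ShortComplex 𝒜 :=
  ShortComplex.mk (Limits.Pi.map fun t => (S t).f) (Limits.Pi.map fun t => (S t).g) (prod_zero S)

/-- componentwise lifting -/
lemma exists_lift_prod' (S : T → ShortComplex 𝒜) (hS : ∀ t, (S t).ShortExact) (A : 𝒜)
    (h1 : ∀ t, Subsingleton (Abelian.Ext A (S t).X₁ 1)) (c : A ⟶ ∏ᶜ fun t => (S t).X₃) :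
    ∃ d : A ⟶ ∏ᶜ fun t => (S t).X₂, d ≫ (Limits.Pi.map fun t => (S t).g) = c := by
  have hl : ∀ t, ∃ d : A ⟶ (S t).X₂, d ≫ (S t).g = c ≫ Pi.π _ t := fun t => by
    haveI := h1 t
    exact exists_lift_of_ext_one (hS t) A _
  choose d hd using hl
  refine ⟨Pi.lift d, ?_⟩
  refine Pi.hom_ext _ _ (fun t => ?_)
  rw [Category.assoc, Limits.Pi.map_π, Pi.lift_π_assoc, hd]

lemma exists_lift_prod (S : T → ShortComplex 𝒜) (hS : ∀ t, (S t).ShortExact) (A : 𝒜)
    (h1 : ∀ t, Subsingleton (Abelian.Ext A (S t).X₁ 1)) (c : A ⟶ (prodSC S).X₃) :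
    ∃ d : A ⟶ (prodSC S).X₂, d ≫ (prodSC S).g = c :=
  exists_lift_prod' S hS A h1 c

lemma ker_lift (S : T → ShortComplex 𝒜) (hS : ∀ t, (S t).ShortExact) {A : 𝒜}
    (k : A ⟶ ∏ᶜ fun t => (S t).X₂) (hk : k ≫ (Limits.Pi.map fun t => (S t).g) = 0) :
    ∃ l : A ⟶ ∏ᶜ fun t => (S t).X₁, l ≫ (Limits.Pi.map fun t => (S t).f) = k := by
  haveI : ∀ t, Mono (S t).f := fun t => (hS t).mono_f
  have hk' : ∀ t, (k ≫ Pi.π _ t) ≫ (S t).g = 0 := fun t => by
    have h := congrArg (fun m => m ≫ Pi.π _ t) hk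
    rw [Category.assoc, Limits.Pi.map_π, zero_comp] at h
    rw [Category.assoc]
    exact h
  refine ⟨Pi.lift (fun t => (hS t).exact.lift (k ≫ Pi.π _ t) (hk' t)), ?_⟩
  refine Pi.hom_ext _ _ (fun t => ?_)
  rw [Category.assoc, Limits.Pi.map_π, Pi.lift_π_assoc, ShortComplex.Exact.lift_f]

lemma prodSC_exact (S : T → ShortComplex 𝒜) (hS : ∀ t, (S t).ShortExact) : (prodSC S).Exact := by
  haveI : ∀ t, Mono (S t).f := fun t => (hS t).mono_f
  haveI : Mono (prodSC S).f := by dsimp [prodSC]; infer_instance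
  apply ShortComplex.exact_of_f_is_kernel
  refine KernelFork.IsLimit.ofι' _ _ (fun {A} k hk => ?_)
  exact ⟨(ker_lift S hS k hk).choose, (ker_lift S hS k hk).choose_spec⟩

lemma prodSC_shortExact (𝒯 : ObjectProperty 𝒜)
    (h𝒯 : ∀ G : 𝒜, ∃ (A : 𝒜) (π : A ⟶ G), 𝒯 A ∧ Epi π)
    (S : T → ShortComplex 𝒜) (hS : ∀ t, (S t).ShortExact)
    (h1 : ∀ t A, 𝒯 A → Subsingleton (Abelian.Ext A (S t).X₁ 1)) : (prodSC S).ShortExact := by
  haveI : ∀ t, Mono (S t).f := fun t => (hS t).mono_f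
  refine ShortComplex.ShortExact.mk' (prodSC_exact S hS) (by dsimp [prodSC]; infer_instance) ?_
  obtain ⟨A, π, hA, hπ⟩ := h𝒯 (prodSC S).X₃
  obtain ⟨d, hd⟩ := exists_lift_prod S hS A (fun t => h1 t A hA) π
  haveI := hπ
  exact epi_of_epi_fac hd

variable [EnoughInjectives 𝒜]

/-- the injective presentation of an object as a short complex. -/
noncomputable def injSC (X : 𝒜) : ShortComplex 𝒜 :=
  ShortComplex.mk (Injective.ι X) (cokernel.π (Injective.ι X)) (cokernel.condition _)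

lemma injSC_shortExact (X : 𝒜) : (injSC X).ShortExact :=
  ShortComplex.ShortExact.mk' (ShortComplex.exact_cokernel _)
    (by dsimp [injSC]; infer_instance) (by dsimp [injSC]; infer_instance)

instance (X : 𝒜) : Injective (injSC X).X₂ := by dsimp [injSC]; infer_instance

instance (F : T → 𝒜) : Injective (prodSC (fun t => injSC (F t))).X₂ := by
  dsimp [prodSC]; infer_instance

/-- the cokernel of an injective presentation of a "totally acyclic" object is again so. -/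
lemma acyclic_coker (X A : 𝒜) (hX : ∀ q : ℕ, Subsingleton (Abelian.Ext A X (q + 1))) (q : ℕ) :
    Subsingleton (Abelian.Ext A (injSC X).X₃ (q + 1)) := by
  refine subsingleton_of_forall_eq 0 (fun x => ?_)
  haveI : Subsingleton (Abelian.Ext A (injSC X).X₁ (q + 1 + 1)) := hX (q + 1)
  obtain ⟨x₂, hx₂⟩ := Abelian.Ext.covariant_sequence_exact₃ A (injSC_shortExact X) x
    (rfl : q + 1 + 1 = q + 1 + 1) (Subsingleton.elim _ _)
  rw [← hx₂, Abelian.Ext.eq_zero_of_injective x₂, Abelian.Ext.zero_comp]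

theorem main (𝒯 : ObjectProperty 𝒜)
    (h𝒯 : ∀ G : 𝒜, ∃ (A : 𝒜) (π : A ⟶ G), 𝒯 A ∧ Epi π) (p : ℕ) :
    ∀ (F : T → 𝒜), (∀ t A, 𝒯 A → ∀ q : ℕ, Subsingleton (Abelian.Ext A (F t) (q + 1))) →
      ∀ A, 𝒯 A → Subsingleton (Abelian.Ext A (∏ᶜ F) (p + 1)) := by
  induction p with
  | zero =>
    intro F hF A hA
    refine subsingleton_of_forall_eq 0 (fun x => ?_)
    have hPS : (prodSC (fun t => injSC (F t))).ShortExact :=
      prodSC_shortExact 𝒯 h𝒯 _ (fun t => injSC_shortExact (F t)) (fun t B hB => hF t B hB 0)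
    obtain ⟨x₃, hx₃⟩ := Abelian.Ext.covariant_sequence_exact₁ A hPS
      (show Abelian.Ext A (prodSC (fun t => injSC (F t))).X₁ (0 + 1) from x)
      (Abelian.Ext.eq_zero_of_injective _) (rfl : 0 + 1 = 0 + 1)
    obtain ⟨d, hd⟩ := exists_lift_prod (fun t => injSC (F t)) (fun t => injSC_shortExact (F t)) A
      (fun t => hF t A hA 0) (Abelian.Ext.homEquiv₀ x₃)
    have h3 : x₃ = (Abelian.Ext.mk₀ d).comp
        (Abelian.Ext.mk₀ (prodSC (fun t => injSC (F t))).g) (add_zero 0) := by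
      rw [Abelian.Ext.mk₀_comp_mk₀, hd, Abelian.Ext.mk₀_homEquiv₀_apply]
    have h4 := hx₃
    rw [h3, Abelian.Ext.comp_assoc_of_second_deg_zero, hPS.comp_extClass,
      Abelian.Ext.comp_zero] at h4
    exact h4.symm
  | succ p ih =>
    intro F hF A hA
    refine subsingleton_of_forall_eq 0 (fun x => ?_)
    have hPS : (prodSC (fun t => injSC (F t))).ShortExact :=
      prodSC_shortExact 𝒯 h𝒯 _ (fun t => injSC_shortExact (F t)) (fun t B hB => hF t B hB 0)
    obtain ⟨x₃, hx₃⟩ := Abelian.Ext.covariant_sequence_exact₁ A hPS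
      (show Abelian.Ext A (prodSC (fun t => injSC (F t))).X₁ (p + 1 + 1) from x)
      (Abelian.Ext.eq_zero_of_injective _) (rfl : p + 1 + 1 = p + 1 + 1)
    haveI : Subsingleton (Abelian.Ext A (prodSC (fun t => injSC (F t))).X₃ (p + 1)) :=
      ih (fun t => (injSC (F t)).X₃)
        (fun t B hB q => acyclic_coker (F t) B (fun q' => hF t B hB q') q) A hA
    have h4 := hx₃
    rw [Subsingleton.elim x₃ 0, Abelian.Ext.zero_comp] at h4
    exact h4.symm

end General

section Sheaf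

variable {C : Type u} [SmallCategory C] (J : GrothendieckTopology C)

theorem main8564 {T : Type u} (F : T → Sheaf J AddCommGrpCat.{u})
    (hF : ∀ t, CohCx.IsTotallyAcyclic (F t)) : CohCx.IsTotallyAcyclic (∏ᶜ F) := by
  intro K p
  let 𝒯 : ObjectProperty (Sheaf J AddCommGrpCat.{u}) := fun A =>
    ∃ K : Sheaf J (Type u),
      A = (presheafToSheaf J AddCommGrpCat.{u}).obj (K.obj ⋙ AddCommGrpCat.free.{u})
  have h𝒯 : ∀ G : Sheaf J AddCommGrpCat.{u}, ∃ (A : Sheaf J AddCommGrpCat.{u}) (π : A ⟶ G),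
      𝒯 A ∧ Epi π := fun G => by
    haveI : (sheafCompose J (forget AddCommGrpCat.{u})).Faithful := inferInstance
    exact ⟨_, (Sheaf.adjunction J AddCommGrpCat.adj).counit.app G,
      ⟨(sheafCompose J (forget AddCommGrpCat.{u})).obj G, rfl⟩,
      Adjunction.counit_epi_of_R_faithful (Sheaf.adjunction J AddCommGrpCat.adj) G⟩
  exact main 𝒯 h𝒯 p F (fun t A hA q => by
    obtain ⟨K', rfl⟩ := hA
    exact hF t K' q) _ ⟨K, rfl⟩

end Sheaf

end Groth.Agent.Lib.ProdTAH4
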