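import Mathlib

set_option autoImplicit false
set_option maxHeartbeats 1000000

open TensorProduct

namespace ProdValH1

universe u

variable {J : Type u} (A : J → Type u) [∀ j, CommRing (A j)] [∀ j, IsDomain (A j)]

theorem nzd_eq :
    nonZeroDivisors (∀ j, A j) = Submonoid.pi Set.univ (fun j => nonZeroDivisors (A j)) := by
  classical
  ext x
  rw [Submonoid.mem_pi]
  constructor
  · intro hx j _
    rw [mem_nonZeroDivisors_iff_ne_zero]
    intro h0
    have h1 : (Pi.single j (1 : A j) : ∀ j, A j) * x = 0 := by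
      funext i
      by_cases hij : i = j
      · subst hij
        simp [h0]
      · simp [Pi.single_eq_of_ne hij]
    have h2 := (mem_nonZeroDivisors_iff_right.mp hx) _ h1
    have h3 := congrFun h2 j
    rw [Pi.single_eq_same] at h3
    exact one_ne_zero h3
  · intro hx
    rw [mem_nonZeroDivisors_iff_right]
    intro y hy
    funext j
    have h1 : y j * x j = 0 := congrFun hy j
    exact (mul_right_mem_nonZeroDivisors_eq_zero_iff (hx j trivial)).mp h1

theorem isLocalization (K : J → Type u) [∀ j, Field (K j)] [∀ j, Algebra (A j) (K j)]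
    [∀ j, IsFractionRing (A j) (K j)] :
    IsLocalization (nonZeroDivisors (∀ j, A j)) (∀ j, K j) := by
  rw [nzd_eq]
  infer_instance

variable [∀ j, ValuationRing (A j)]

theorem bezout : IsBezout (∀ j, A j) := by
  classical
  rw [IsBezout.iff_span_pair_isPrincipal]
  intro a b
  have hd : ∀ j, a j ∣ b j ∨ b j ∣ a j := fun j => ValuationRing.dvd_total (a j) (b j)
  let e : ∀ j, A j := fun j => if a j ∣ b j then 1 else 0
  let g : ∀ j, A j := fun j => if a j ∣ b j then a j else b j
  refine ⟨⟨g, ?_⟩⟩
  have ha : g ∣ a := by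
    have h : ∀ j, g j ∣ a j := by
      intro j
      simp only [g]
      split_ifs with h
      · exact dvd_rfl
      · exact (hd j).resolve_left h
    choose c hc using h
    exact ⟨c, funext hc⟩
  have hb : g ∣ b := by
    have h : ∀ j, g j ∣ b j := by
      intro j
      simp only [g]
      split_ifs with h
      · exact h
      · exact dvd_rfl
    choose c hc using h
    exact ⟨c, funext hc⟩
  have hg : g = e * a + (1 - e) * b := by
    funext j
    simp only [g, e, Pi.add_apply, Pi.mul_apply, Pi.sub_apply, Pi.one_apply]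
    split_ifs <;> ring
  apply le_antisymm
  · refine Submodule.span_le.mpr ?_
    intro x hx
    rcases hx with rfl | hx
    · exact Ideal.mem_span_singleton.mpr ha
    · rw [Set.mem_singleton_iff] at hx
      subst hx
      exact Ideal.mem_span_singleton.mpr hb
  · refine Submodule.span_le.mpr ?_
    intro x hx
    rw [Set.mem_singleton_iff] at hx
    subst hx
    rw [hg]
    exact Ideal.add_mem _ (Ideal.mul_mem_left _ _ (Ideal.subset_span (by simp)))
      (Ideal.mul_mem_left _ _ (Ideal.subset_span (by simp)))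

theorem flat_ideal (I : Ideal (∀ j, A j)) : Module.Flat (∀ j, A j) I := by
  classical
  haveI := bezout A
  rw [Module.Flat.iff_lift_lsmul_comp_subtype_injective]
  intro L hL
  obtain ⟨g, rfl⟩ := (IsBezout.isPrincipal_of_FG L hL).principal
  have hg : g ∈ Submodule.span (∀ j, A j) {g} := Submodule.mem_span_singleton_self g
  rw [injective_iff_map_eq_zero]
  intro t ht
  have hform : ∀ t : (↥(Submodule.span (∀ j, A j) {g})) ⊗[∀ j, A j] I,
      ∃ x : I, t = (⟨g, hg⟩ : ↥(Submodule.span (∀ j, A j) {g})) ⊗ₜ[∀ j, A j] x := by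
    intro t
    induction t using TensorProduct.induction_on with
    | zero => exact ⟨0, (TensorProduct.tmul_zero _ _).symm⟩
    | tmul r y =>
      obtain ⟨r, hr⟩ := r
      obtain ⟨c, rfl⟩ := Submodule.mem_span_singleton.mp hr
      exact ⟨c • y, TensorProduct.smul_tmul c
        (⟨g, hg⟩ : ↥(Submodule.span (∀ j, A j) {g})) y⟩
    | add t₁ t₂ h₁ h₂ =>
      obtain ⟨x₁, rfl⟩ := h₁
      obtain ⟨x₂, rfl⟩ := h₂
      exact ⟨x₁ + x₂, (TensorProduct.tmul_add _ _ _).symm⟩
  obtain ⟨x, rfl⟩ := hform t
  rw [TensorProduct.lift.tmul] at ht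
  have hgx0 : g • x = 0 := ht
  have hgx : g * (x : ∀ j, A j) = 0 := congrArg Subtype.val hgx0
  let e : ∀ j, A j := fun j => if g j = 0 then 1 else 0
  have heg : e • g = 0 := by
    funext j
    show e j * g j = 0
    simp only [e]
    split_ifs with h
    · rw [h, mul_zero]
    · rw [zero_mul]
  have hex : e • x = x := by
    apply Subtype.ext
    funext j
    show e j * (x : ∀ j, A j) j = (x : ∀ j, A j) j
    simp only [e]
    split_ifs with h
    · rw [one_mul]
    · have h1 : g j * (x : ∀ j, A j) j = 0 := congrFun hgx j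
      rw [zero_mul]
      exact ((mul_eq_zero.mp h1).resolve_left h).symm
  have h0 : e • (⟨g, hg⟩ : ↥(Submodule.span (∀ j, A j) {g})) = 0 := Subtype.ext heg
  calc (⟨g, hg⟩ : ↥(Submodule.span (∀ j, A j) {g})) ⊗ₜ[∀ j, A j] x
      = (⟨g, hg⟩ : ↥(Submodule.span (∀ j, A j) {g})) ⊗ₜ[∀ j, A j] (e • x) := by rw [hex]
    _ = (e • (⟨g, hg⟩ : ↥(Submodule.span (∀ j, A j) {g}))) ⊗ₜ[∀ j, A j] x :=
        (TensorProduct.smul_tmul e _ x).symm
    _ = (0 : ↥(Submodule.span (∀ j, A j) {g})) ⊗ₜ[∀ j, A j] x := by rw [h0]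
    _ = 0 := TensorProduct.zero_tmul _ _

end ProdValH1
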