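import Mathlib
import Groth.Prelude.Def_CohTop
import Groth.Agent.Lib.AffVanish_helper9
import Groth.Agent.Lib.FlasqueAcyclic_helper2
import Groth.Agent.Lib.ExtAcyclicClass_helper2

/-!
# Cohomology of profinite spaces vanishes

On a profinite space every open cover is refined by a finite partition into clopens; hence every
epimorphism of abelian sheaves is surjective on global sections, and dimension shifting gives
`H^{p+1}(X, F) = 0`.
-/

universe u

open CategoryTheory CategoryTheory.Limits Opposite TopologicalSpace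
open Groth.Agent.Lib.FlasqueAcyclic

namespace ProfAcyc

open AffVanish (Sec rs apS)

variable {X : TopCat.{u}}

/-- The section `c` lifts over `V`. -/
def Lifts {F G : TopCat.Sheaf AddCommGrpCat.{u} X} (π : F ⟶ G) (c : Sec G ⊤) (V : Opens X) : Prop :=
  ∃ b : Sec F V, apS π V b = rs G (le_top : V ≤ ⊤) c

variable {F G : TopCat.Sheaf AddCommGrpCat.{u} X} (π : F ⟶ G) (c : Sec G ⊤)

theorem Lifts.mono {V W : Opens X} (h : W ≤ V) (hV : Lifts π c V) : Lifts π c W := by
  obtain ⟨b, hb⟩ := hV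
  refine ⟨rs F h b, ?_⟩
  rw [AffVanish.ap_rs, hb, AffVanish.rs_rs]

theorem lifts_bot : Lifts π c ⊥ :=
  ⟨0, AffVanish.eq_of_bot G rfl _ _⟩

theorem Lifts.sup {A B : Opens X} (hAc : IsClosed (A : Set X)) (hA : Lifts π c A)
    (hB : Lifts π c B) : Lifts π c (A ⊔ B) := by
  let B' : Opens X := B ⊓ ⟨(A : Set X)ᶜ, hAc.isOpen_compl⟩
  have hB'B : B' ≤ B := inf_le_left
  obtain ⟨a, ha⟩ := hA
  obtain ⟨b, hb⟩ := hB.mono π c hB'B
  have hdisj : A ⊓ B' = ⊥ := by
    ext x
    constructor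
    · rintro ⟨hxA, -, hxA'⟩
      exact absurd hxA hxA'
    · intro hx
      exact absurd hx (Set.notMem_empty x)
  have hcov : A ⊔ B ≤ A ⊔ B' := by
    intro x hx
    by_cases hxA : x ∈ A
    · exact Or.inl hxA
    · rcases hx with hx | hx
      · exact absurd hx hxA
      · exact Or.inr ⟨hx, hxA⟩
  have hA' : A ≤ A ⊔ B := le_sup_left
  have hB'' : B' ≤ A ⊔ B := hB'B.trans le_sup_right
  obtain ⟨s, hsa, hsb⟩ := AffVanish.glue₂ F hA' hB'' hcov a b (AffVanish.eq_of_bot F hdisj _ _)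
  refine ⟨s, ?_⟩
  apply AffVanish.eq_of_cover₂ G hA' hB'' hcov
  · rw [← AffVanish.ap_rs, hsa, ha, AffVanish.rs_rs]
  · rw [← AffVanish.ap_rs, hsb, hb, AffVanish.rs_rs]

/-- On a profinite space, epimorphisms of abelian sheaves are surjective on global sections. -/
theorem surj_top [CompactSpace X] [T2Space X] [TotallyDisconnectedSpace X] [Epi π] :
    ∃ b : Sec F ⊤, apS π ⊤ b = c := by
  have key : ∃ A : Opens X, IsClosed (A : Set X) ∧ (Set.univ : Set X) ⊆ A ∧ Lifts π c A := by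
    refine IsCompact.induction_on (p := fun T : Set X =>
      ∃ A : Opens X, IsClosed (A : Set X) ∧ T ⊆ A ∧ Lifts π c A) isCompact_univ ?_ ?_ ?_ ?_
    · exact ⟨⊥, isClosed_empty, Set.empty_subset _, lifts_bot π c⟩
    · rintro S T hST ⟨A, hAc, hTA, hA⟩
      exact ⟨A, hAc, hST.trans hTA, hA⟩
    · rintro S T ⟨A, hAc, hSA, hA⟩ ⟨B, hBc, hTB, hB⟩
      refine ⟨A ⊔ B, hAc.union hBc, ?_, hA.sup π c hAc hB⟩
      exact Set.union_subset_union hSA hTB
    · intro x _
      obtain ⟨W, hW, hxW, b, hb⟩ := AffVanish.exists_local_lift π c x (Set.mem_univ x)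
      obtain ⟨C, hC, hxC, hCW⟩ :=
        (isTopologicalBasis_isClopen (X := X)).exists_subset_of_mem_open hxW W.2
      refine ⟨C, mem_nhdsWithin_of_mem_nhds (hC.isOpen.mem_nhds hxC),
        ⟨C, hC.isOpen⟩, hC.isClosed, subset_rfl, ?_⟩
      exact Lifts.mono π c (V := W) (W := ⟨C, hC.isOpen⟩) hCW ⟨b, hb⟩
  obtain ⟨A, -, hA, hl⟩ := key
  obtain ⟨b, hb⟩ := hl.mono π c (W := ⊤) (fun x _ => hA (Set.mem_univ x))
  refine ⟨b, ?_⟩
  rw [hb]
  exact AffVanish.rs_self G _ c

/-- **Cohomology of profinite spaces vanishes in positive degrees.** -/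
theorem H_eq_zero [CompactSpace X] [T2Space X] [TotallyDisconnectedSpace X] (F : CohTop.Ab X)
    (p : ℕ) (ξ : CohTop.H F (p + 1)) : ξ = 0 := by
  refine Groth.Agent.Lib.ExtAcyclic.ext_eq_zero_of_class _ (fun _ : CohTop.Ab X => True)
    (fun _ _ => trivial) (fun _ _ _ _ => trivial) ?_ p F trivial ξ
  intro S hS _ φ
  haveI : Epi (C := TopCat.Sheaf AddCommGrpCat.{u} X) S.g := hS.epi_g
  obtain ⟨b, hb⟩ := surj_top (F := S.X₂) (G := S.X₃) S.g (constEquiv S.X₃ φ)
  refine ⟨(constEquiv S.X₂).symm b, ?_⟩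
  apply (constEquiv S.X₃).injective
  rw [constEquiv_comp, Equiv.apply_symm_apply]
  exact hb

end ProfAcyc
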