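import Mathlib
import Groth.Agent.Lib.FinInvLim_lead

/-!
# Right exactness of Mathlib's profinite completion of groups
-/

namespace Groth.Agent.Lib.ProfCompl

open CategoryTheory ProfiniteGrp ProfiniteGrp.ProfiniteCompletion

universe u v

theorem exists_compatible' {J : Type u} [Preorder J] [IsCodirectedOrder J]
    (X : J → Type v) [∀ j, Finite (X j)] [∀ j, Nonempty (X j)]
    (π : ∀ {i j : J}, i ≤ j → X i → X j)
    (hid : ∀ (i : J) (x : X i), π (le_refl i) x = x)
    (hcomp : ∀ {i j k : J} (h1 : i ≤ j) (h2 : j ≤ k) (x : X i),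
      π h2 (π h1 x) = π (h1.trans h2) x) :
    ∃ s : ∀ j, X j, ∀ (i j : J) (h : i ≤ j), π h (s i) = s j := by
  obtain ⟨s, hs⟩ := Groth.Agent.Lib.FinInvLim.exists_compatible (J := Jᵒᵈ)
    (fun j => X (OrderDual.ofDual j))
    (fun {i j} h => π (OrderDual.ofDual_le_ofDual.mpr h)) (fun i x => hid _ x)
    (fun h1 h2 x => hcomp _ _ x)
  exact ⟨fun j => s (OrderDual.toDual j), fun i j h =>
    hs (OrderDual.toDual j) (OrderDual.toDual i) (OrderDual.toDual_le_toDual.mpr h)⟩

section general

variable {G G' : Type u} [Group G] [Group G']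

lemma map_eta (f : G →* G') (g : G) :
    (profiniteCompletion.map (GrpCat.ofHom f)).hom (etaFn (GrpCat.of G) g) =
      etaFn (GrpCat.of G') (f g) := by
  have h := lift_eta (G := GrpCat.of G) (P := completion (GrpCat.of G'))
    (GrpCat.ofHom f ≫ eta (GrpCat.of G'))
  exact ConcreteCategory.congr_hom h g

instance discr (K : FiniteIndexNormalSubgroup G) :
    DiscreteTopology ↥((diagram (GrpCat.of G)).obj K) := ⟨rfl⟩

lemma map_apply_component (f : G →* G') (x : completion (GrpCat.of G))
    (H : FiniteIndexNormalSubgroup G') :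
    (((profiniteCompletion.map (GrpCat.ofHom f)).hom x).1 H : G' ⧸ H.toSubgroup) =
      QuotientGroup.map (H.comap f).toSubgroup H.toSubgroup f (fun _ h => h)
        (x.1 (H.comap f)) := by
  let g₁ : completion (GrpCat.of G) → ↥((diagram (GrpCat.of G')).obj H) :=
    fun x => ((profiniteCompletion.map (GrpCat.ofHom f)).hom x).1 H
  let g₂ : completion (GrpCat.of G) → ↥((diagram (GrpCat.of G')).obj H) :=
    fun x => (QuotientGroup.map (H.comap f).toSubgroup H.toSubgroup f (fun _ h => h)
      (x.1 (H.comap f)) : G' ⧸ H.toSubgroup)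
  have hc1 : Continuous g₁ := by
    have h1 : Continuous (fun y : completion (GrpCat.of G') => y.1 H) :=
      (continuous_apply H).comp continuous_subtype_val
    exact h1.comp (profiniteCompletion.map (GrpCat.ofHom f)).hom.continuous_toFun
  have hc2 : Continuous g₂ := by
    have h1 : Continuous (fun y : completion (GrpCat.of G) => y.1 (H.comap f)) :=
      (continuous_apply (H.comap f)).comp continuous_subtype_val
    let φ : ↥((diagram (GrpCat.of G)).obj (H.comap f)) → ↥((diagram (GrpCat.of G')).obj H) :=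
      fun z => (QuotientGroup.map (H.comap f).toSubgroup H.toSubgroup f (fun _ h => h) z :
        G' ⧸ H.toSubgroup)
    have h2 : Continuous φ := continuous_of_discreteTopology
    exact h2.comp h1
  have heq : g₁ = g₂ := by
    refine (denseRange (G := GrpCat.of G)).equalizer hc1 hc2 ?_
    funext g
    show ((profiniteCompletion.map (GrpCat.ofHom f)).hom (etaFn (GrpCat.of G) g)).1 H = _
    rw [map_eta]
    rfl
  exact congrFun heq x

lemma compat (c : completion (GrpCat.of G)) {W W' : FiniteIndexNormalSubgroup G} (h : W ≤ W') :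
    QuotientGroup.map W.toSubgroup W'.toSubgroup (MonoidHom.id G) h (c.1 W) = c.1 W' :=
  c.2 (homOfLE h)

/-- build an element of the completion from a compatible family -/
def mkElt (s : ∀ W : FiniteIndexNormalSubgroup G, G ⧸ W.toSubgroup)
    (hs : ∀ (W W' : FiniteIndexNormalSubgroup G) (h : W ≤ W'),
      QuotientGroup.map W.toSubgroup W'.toSubgroup (MonoidHom.id G) h (s W) = s W') :
    completion (GrpCat.of G) :=
  ⟨fun W => s W, fun W W' π => hs W W' (leOfHom π)⟩

lemma mkElt_val (s : ∀ W : FiniteIndexNormalSubgroup G, G ⧸ W.toSubgroup) (hs)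
    (W : FiniteIndexNormalSubgroup G) :
    ((mkElt s hs).1 W : G ⧸ W.toSubgroup) = s W := rfl

lemma ext_elt (c c' : completion (GrpCat.of G))
    (h : ∀ W : FiniteIndexNormalSubgroup G, (c.1 W : G ⧸ W.toSubgroup) = c'.1 W) : c = c' :=
  Subtype.ext (funext h)

lemma one_val (W : FiniteIndexNormalSubgroup G) :
    ((1 : completion (GrpCat.of G)).1 W : G ⧸ W.toSubgroup) = 1 := rfl

/-- the whole group -/
abbrev topF : FiniteIndexNormalSubgroup G where
  toSubgroup := ⊤
  isNormal' := inferInstance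
  isFiniteIndex' := inferInstance

/-- image of a finite-index normal subgroup under a surjection -/
abbrev mapP (p : G →* G') (hp : Function.Surjective p) (V : FiniteIndexNormalSubgroup G) :
    FiniteIndexNormalSubgroup G' where
  toSubgroup := V.toSubgroup.map p
  isNormal' := Subgroup.Normal.map V.isNormal' p hp
  isFiniteIndex' :=
    ⟨ne_zero_of_dvd_ne_zero V.isFiniteIndex'.index_ne_zero (Subgroup.index_map_dvd _ hp)⟩

end general

section exact

variable {A B C : Type u} [Group A] [Group B] [Group C]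

theorem surjective_map (p : B →* C) (hp : Function.Surjective p) :
    Function.Surjective (profiniteCompletion.map (GrpCat.ofHom p)).hom := by
  intro c
  haveI hN : ∀ V : FiniteIndexNormalSubgroup B, (Subgroup.map p V.toSubgroup).Normal :=
    fun V => Subgroup.Normal.map V.isNormal' p hp
  let X : FiniteIndexNormalSubgroup B → Type u := fun V =>
    {β : B ⧸ V.toSubgroup // QuotientGroup.map V.toSubgroup (mapP p hp V).toSubgroup p
      (Subgroup.le_comap_map p _) β = c.1 (mapP p hp V)}
  haveI : ∀ V, Finite (X V) := fun V => Subtype.finite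
  haveI : ∀ V, Nonempty (X V) := by
    intro V
    obtain ⟨y, hy⟩ := QuotientGroup.mk_surjective
      (c.1 (mapP p hp V) : C ⧸ (mapP p hp V).toSubgroup)
    obtain ⟨x, rfl⟩ := hp y
    exact ⟨⟨QuotientGroup.mk x, by rw [QuotientGroup.map_mk]; exact hy⟩⟩
  have hmono : ∀ {V V' : FiniteIndexNormalSubgroup B}, V ≤ V' → mapP p hp V ≤ mapP p hp V' := by
    intro V V' h y hy
    obtain ⟨x, hx, rfl⟩ := hy
    exact ⟨x, h hx, rfl⟩
  let π : ∀ {V V' : FiniteIndexNormalSubgroup B}, V ≤ V' → X V → X V' := fun {V V'} h β =>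
    ⟨QuotientGroup.map V.toSubgroup V'.toSubgroup (MonoidHom.id B) h β.1, by
      obtain ⟨β, hβ⟩ := β
      obtain ⟨x, rfl⟩ := QuotientGroup.mk_surjective β
      rw [QuotientGroup.map_mk] at hβ
      have hc := compat c (hmono h)
      rw [← hβ, QuotientGroup.map_mk] at hc
      simp only [QuotientGroup.map_mk, MonoidHom.id_apply] at hc ⊢
      exact hc⟩
  have hid : ∀ (V : FiniteIndexNormalSubgroup B) (x : X V), π (le_refl V) x = x := by
    intro V x
    obtain ⟨β, hβ⟩ := x
    obtain ⟨x, rfl⟩ := QuotientGroup.mk_surjective β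
    apply Subtype.ext
    simp only [π, QuotientGroup.map_mk, MonoidHom.id_apply]
  have hcomp : ∀ {V V' V'' : FiniteIndexNormalSubgroup B} (h1 : V ≤ V') (h2 : V' ≤ V'')
      (x : X V), π h2 (π h1 x) = π (h1.trans h2) x := by
    intro V V' V'' h1 h2 x
    obtain ⟨β, hβ⟩ := x
    obtain ⟨x, rfl⟩ := QuotientGroup.mk_surjective β
    apply Subtype.ext
    simp only [π, QuotientGroup.map_mk, MonoidHom.id_apply]
  obtain ⟨s, hs⟩ := exists_compatible' X (fun {V V'} h => π h) hid hcomp
  refine ⟨mkElt (fun V => (s V).1) (fun V V' h => congrArg Subtype.val (hs V V' h)), ?_⟩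
  apply ext_elt
  intro W
  rw [map_apply_component]
  show QuotientGroup.map (W.comap p).toSubgroup W.toSubgroup p (fun _ h => h)
    (s (W.comap p)).1 = c.1 W
  have h2 := (s (W.comap p)).2
  obtain ⟨x, hx⟩ := QuotientGroup.mk_surjective (s (W.comap p)).1
  rw [← hx] at h2 ⊢
  rw [QuotientGroup.map_mk] at h2 ⊢
  have hle : mapP p hp (W.comap p) ≤ W := by
    intro y hy
    obtain ⟨x, hx, rfl⟩ := hy
    exact hx
  have hc := compat c hle
  rw [← h2, QuotientGroup.map_mk] at hc
  simpa using hc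

theorem range_le_ker (ι : A →* B) (p : B →* C) (hex : ∀ a, p (ι a) = 1) :
    (profiniteCompletion.map (GrpCat.ofHom ι)).hom.toMonoidHom.range ≤
      (profiniteCompletion.map (GrpCat.ofHom p)).hom.toMonoidHom.ker := by
  rintro _ ⟨a, rfl⟩
  rw [MonoidHom.mem_ker]
  apply ext_elt
  intro W
  show ((profiniteCompletion.map (GrpCat.ofHom p)).hom
    ((profiniteCompletion.map (GrpCat.ofHom ι)).hom a)).1 W = _
  rw [map_apply_component, map_apply_component]
  show _ = (1 : C ⧸ W.toSubgroup)
  obtain ⟨x, hx⟩ := QuotientGroup.mk_surjective (a.1 ((W.comap p).comap ι))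
  rw [← hx, QuotientGroup.map_mk, QuotientGroup.map_mk, hex]
  rfl

theorem ker_le_range (ι : A →* B) (p : B →* C) (hp : Function.Surjective p)
    (hex : p.ker = ι.range) :
    (profiniteCompletion.map (GrpCat.ofHom p)).hom.toMonoidHom.ker ≤
      (profiniteCompletion.map (GrpCat.ofHom ι)).hom.toMonoidHom.range := by
  intro b hb
  haveI hN : ∀ V : FiniteIndexNormalSubgroup B, (Subgroup.map p V.toSubgroup).Normal :=
    fun V => Subgroup.Normal.map V.isNormal' p hp
  rw [MonoidHom.mem_ker] at hb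
  have hb' : (profiniteCompletion.map (GrpCat.ofHom p)).hom b = 1 := hb
  have hbW : ∀ W : FiniteIndexNormalSubgroup C,
      QuotientGroup.map (W.comap p).toSubgroup W.toSubgroup p (fun _ h => h)
        (b.1 (W.comap p)) = 1 := by
    intro W
    have h1 := map_apply_component p b W
    rw [hb'] at h1
    exact h1.symm.trans (one_val W)
  have key : ∀ V : FiniteIndexNormalSubgroup B, ∃ a : A,
      (b.1 V : B ⧸ V.toSubgroup) = QuotientGroup.mk (ι a) := by
    intro V
    have hW := hbW (mapP p hp V)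
    have hVle : V ≤ (mapP p hp V).comap p := fun x hx => ⟨x, hx, rfl⟩
    have hb2 := compat b hVle
    obtain ⟨x, hx⟩ := QuotientGroup.mk_surjective (b.1 V : B ⧸ V.toSubgroup)
    rw [← hx, QuotientGroup.map_mk, MonoidHom.id_apply] at hb2
    rw [← hb2, QuotientGroup.map_mk, QuotientGroup.eq_one_iff] at hW
    obtain ⟨v, hv, hpv⟩ := hW
    have hmem : x * v⁻¹ ∈ p.ker := by
      rw [MonoidHom.mem_ker, map_mul, map_inv, hpv, mul_inv_cancel]
    rw [hex] at hmem
    obtain ⟨a, ha⟩ := hmem
    refine ⟨a, ?_⟩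
    rw [← hx, ha]
    refine (QuotientGroup.eq (s := V.toSubgroup)).mpr ?_
    have : x⁻¹ * (x * v⁻¹) = v⁻¹ := by group
    rw [this]
    exact inv_mem hv
  let J : Type u :=
    {UV : FiniteIndexNormalSubgroup A × FiniteIndexNormalSubgroup B // UV.1 ≤ UV.2.comap ι}
  haveI : IsCodirectedOrder J :=
    ⟨fun j j' => ⟨⟨(j.1.1 ⊓ j'.1.1, j.1.2 ⊓ j'.1.2), fun x hx => by
        have h1 : ι x ∈ j.1.2 := j.2 ((inf_le_left : j.1.1 ⊓ j'.1.1 ≤ j.1.1) hx)
        have h2 : ι x ∈ j'.1.2 := j'.2 ((inf_le_right : j.1.1 ⊓ j'.1.1 ≤ j'.1.1) hx)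
        exact ⟨h1, h2⟩⟩,
      ⟨inf_le_left, inf_le_left⟩, ⟨inf_le_right, inf_le_right⟩⟩⟩
  let X : J → Type u := fun j =>
    {α : A ⧸ j.1.1.toSubgroup //
      QuotientGroup.map j.1.1.toSubgroup j.1.2.toSubgroup ι (fun x hx => j.2 hx) α = b.1 j.1.2}
  haveI : ∀ j, Finite (X j) := fun j => Subtype.finite
  haveI : ∀ j, Nonempty (X j) := by
    intro j
    obtain ⟨a, ha⟩ := key j.1.2
    exact ⟨⟨QuotientGroup.mk a, by rw [QuotientGroup.map_mk]; exact ha.symm⟩⟩
  let π : ∀ {j j' : J}, j ≤ j' → X j → X j' := fun {j j'} h α =>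
    ⟨QuotientGroup.map j.1.1.toSubgroup j'.1.1.toSubgroup (MonoidHom.id A) h.1 α.1, by
      obtain ⟨α, hα⟩ := α
      obtain ⟨x, rfl⟩ := QuotientGroup.mk_surjective α
      rw [QuotientGroup.map_mk] at hα
      have hc := compat b h.2
      rw [← hα, QuotientGroup.map_mk] at hc
      simp only [QuotientGroup.map_mk, MonoidHom.id_apply] at hc ⊢
      exact hc⟩
  have hid : ∀ (j : J) (x : X j), π (le_refl j) x = x := by
    intro j x
    obtain ⟨β, hβ⟩ := x
    obtain ⟨x, rfl⟩ := QuotientGroup.mk_surjective β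
    apply Subtype.ext
    simp only [π, QuotientGroup.map_mk, MonoidHom.id_apply]
  have hcomp : ∀ {j j' j'' : J} (h1 : j ≤ j') (h2 : j' ≤ j'') (x : X j),
      π h2 (π h1 x) = π (h1.trans h2) x := by
    intro j j' j'' h1 h2 x
    obtain ⟨β, hβ⟩ := x
    obtain ⟨x, rfl⟩ := QuotientGroup.mk_surjective β
    apply Subtype.ext
    simp only [π, QuotientGroup.map_mk, MonoidHom.id_apply]
  obtain ⟨s, hs⟩ := exists_compatible' X (fun {j j'} h => π h) hid hcomp
  let jt : FiniteIndexNormalSubgroup A → J := fun U =>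
    ⟨(U, topF), fun x _ => Subgroup.mem_top (ι x)⟩
  refine ⟨mkElt (fun U => (s (jt U)).1) (fun U U' h => ?_), ?_⟩
  · have hle : jt U ≤ jt U' := ⟨h, le_refl (topF : FiniteIndexNormalSubgroup B)⟩
    exact congrArg Subtype.val (hs (jt U) (jt U') hle)
  · show (profiniteCompletion.map (GrpCat.ofHom ι)).hom _ = b
    apply ext_elt
    intro V
    rw [map_apply_component]
    show QuotientGroup.map (V.comap ι).toSubgroup V.toSubgroup ι (fun _ h => h)
      (s (jt (V.comap ι))).1 = b.1 V
    let j1 : J := ⟨(V.comap ι, V), le_refl _⟩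
    have hle : j1 ≤ jt (V.comap ι) :=
      ⟨le_refl (V.comap ι), fun x _ => Subgroup.mem_top x⟩
    have h1 := congrArg Subtype.val (hs j1 (jt (V.comap ι)) hle)
    have h2 := (s j1).2
    obtain ⟨x, hx⟩ := QuotientGroup.mk_surjective (s j1).1
    rw [← hx] at h2
    simp only [π] at h1
    rw [← hx, QuotientGroup.map_mk, MonoidHom.id_apply] at h1
    rw [← h1, QuotientGroup.map_mk]
    rw [QuotientGroup.map_mk] at h2
    exact h2

end exact

end Groth.Agent.Lib.ProfCompl
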