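import Mathlib

/-!
# The spectrum of the ring of locally constant functions on a profinite space (helper3)

For a profinite space `T` and a ring `A`, `Spec (LocallyConstant T A) ≃ₜ Spec A × T`.
-/

set_option autoImplicit false
set_option linter.all false
set_option maxHeartbeats 1600000
universe u

open TopologicalSpace

namespace Groth.Agent.Lib.ProfLocH3

variable (A : Type u) [CommRing A] (T : Type u) [TopologicalSpace T]

/-- The characteristic function of a clopen subset. -/
noncomputable abbrev ee {P : Set T} (hP : IsClopen P) : LocallyConstant T A :=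
  LocallyConstant.charFn A hP

variable {A T}

theorem ee_apply {P : Set T} (hP : IsClopen P) (t : T) [Decidable (t ∈ P)] :
    ee A T hP t = if t ∈ P then 1 else 0 := by
  show (LocallyConstant.charFn A hP : T → A) t = _
  rw [LocallyConstant.coe_charFn]
  simp [Set.indicator]

theorem ee_apply_of_mem {P : Set T} (hP : IsClopen P) {t : T} (ht : t ∈ P) :
    ee A T hP t = 1 := by
  classical
  rw [ee_apply, if_pos ht]

theorem ee_apply_of_not_mem {P : Set T} (hP : IsClopen P) {t : T} (ht : t ∉ P) :
    ee A T hP t = 0 := by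
  classical
  rw [ee_apply, if_neg ht]

theorem ee_mul {P Q : Set T} (hP : IsClopen P) (hQ : IsClopen Q) :
    ee A T hP * ee A T hQ = ee A T (hP.inter hQ) := by
  classical
  ext t
  rw [LocallyConstant.mul_apply, ee_apply, ee_apply, ee_apply]
  by_cases h1 : t ∈ P <;> by_cases h2 : t ∈ Q <;> simp [h1, h2]

theorem ee_add_compl {P : Set T} (hP : IsClopen P) :
    ee A T hP + ee A T hP.compl = 1 := by
  classical
  ext t
  rw [LocallyConstant.add_apply, ee_apply, ee_apply, LocallyConstant.one_apply]
  by_cases h1 : t ∈ P <;> simp [h1]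

theorem ee_mul_compl {P : Set T} (hP : IsClopen P) :
    ee A T hP * ee A T hP.compl = 0 := by
  classical
  ext t
  rw [LocallyConstant.mul_apply, ee_apply, ee_apply, LocallyConstant.zero_apply]
  by_cases h1 : t ∈ P <;> simp [h1]

theorem ee_empty : ee A T (isClopen_empty : IsClopen (∅ : Set T)) = 0 := by
  ext t
  rw [ee_apply_of_not_mem _ (Set.notMem_empty t), LocallyConstant.zero_apply]

/-- A function vanishing on a clopen set is killed by its characteristic function. -/
theorem ee_mul_eq_zero {P : Set T} (hP : IsClopen P) (φ : LocallyConstant T A)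
    (h : ∀ t ∈ P, φ t = 0) : ee A T hP * φ = 0 := by
  classical
  ext t
  rw [LocallyConstant.mul_apply, ee_apply, LocallyConstant.zero_apply]
  by_cases h1 : t ∈ P
  · rw [if_pos h1, one_mul, h t h1]
  · rw [if_neg h1, zero_mul]

section Prime

variable [CompactSpace T] [T2Space T] [TotallyDisconnectedSpace T]

theorem exists_clopen_sep {t t' : T} (h : t ≠ t') : ∃ P : Set T, IsClopen P ∧ t ∈ P ∧ t' ∉ P := by
  have hopen : IsOpen ({t'}ᶜ : Set T) := isOpen_compl_singleton
  obtain ⟨P, hP, htP, hsub⟩ := (isTopologicalBasis_isClopen (X := T)).exists_subset_of_mem_open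
    (show t ∈ ({t'}ᶜ : Set T) from h) hopen
  exact ⟨P, hP, htP, fun h' => hsub h' rfl⟩

variable (𝔮 : Ideal (LocallyConstant T A)) [h𝔮 : 𝔮.IsPrime]

include h𝔮 in
theorem ee_mem_or_compl {P : Set T} (hP : IsClopen P) :
    ee A T hP ∈ 𝔮 ∨ ee A T hP.compl ∈ 𝔮 := by
  apply h𝔮.mem_or_mem
  rw [ee_mul_compl]
  exact 𝔮.zero_mem

include h𝔮 in
theorem not_both {P : Set T} (hP : IsClopen P) (h1 : ee A T hP ∈ 𝔮) (h2 : ee A T hP.compl ∈ 𝔮) :
    False := by
  apply h𝔮.ne_top
  rw [Ideal.eq_top_iff_one, ← ee_add_compl hP]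
  exact 𝔮.add_mem h1 h2

include h𝔮 in
/-- Every prime of `LocallyConstant T A` lies over a unique point of `T`. -/
theorem existsUnique_point : ∃! t : T, ∀ P : Set T, ∀ hP : IsClopen P, t ∈ P → ee A T hP ∉ 𝔮 := by
  classical
  -- existence by compactness
  have hex : ∃ t : T, ∀ P : Set T, ∀ hP : IsClopen P, t ∈ P → ee A T hP ∉ 𝔮 := by
    by_contra hcon
    push Not at hcon
    choose P hP htP hmem using hcon
    obtain ⟨s, hs⟩ := isCompact_univ.elim_finite_subcover P (fun t => (hP t).isOpen)
      (fun t _ => Set.mem_iUnion.mpr ⟨t, htP t⟩)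
    -- the product of the complements' characteristic functions
    have key : ∀ s' : Finset T, ee A T (isClopen_biInter_finset (s := s')
        (f := fun t => (P t)ᶜ) (fun t _ => (hP t).compl)) ∉ 𝔮 := by
      intro s'
      induction s' using Finset.induction_on with
      | empty =>
        intro h
        apply h𝔮.ne_top
        rw [Ideal.eq_top_iff_one]
        convert h using 1
        ext t
        rw [LocallyConstant.one_apply, ee_apply_of_mem]
        simp
      | insert a s' ha ih =>
        intro h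
        have e : ee A T (isClopen_biInter_finset (s := insert a s')
            (f := fun t => (P t)ᶜ) (fun t _ => (hP t).compl)) =
            ee A T (hP a).compl * ee A T (isClopen_biInter_finset (s := s')
              (f := fun t => (P t)ᶜ) (fun t _ => (hP t).compl)) := by
          rw [ee_mul]
          congr 1
          ext t
          simp
        rw [e] at h
        rcases h𝔮.mem_or_mem h with h1 | h1
        · exact not_both 𝔮 (hP a) (hmem a) h1
        · exact ih h1
    apply key s
    have hempty : (⋂ t ∈ s, (P t)ᶜ) = (∅ : Set T) := by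
      rw [Set.eq_empty_iff_forall_notMem]
      intro t ht
      have := hs (Set.mem_univ t)
      rw [Set.mem_iUnion₂] at this
      obtain ⟨i, hi, hti⟩ := this
      rw [Set.mem_iInter₂] at ht
      exact ht i hi hti
    have e : ee A T (isClopen_biInter_finset (s := s)
        (f := fun t => (P t)ᶜ) (fun t _ => (hP t).compl)) = 0 := by
      ext t
      rw [LocallyConstant.zero_apply, ee_apply_of_not_mem]
      rw [hempty]
      exact Set.notMem_empty t
    rw [e]
    exact 𝔮.zero_mem
  obtain ⟨t, ht⟩ := hex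
  refine ⟨t, ht, ?_⟩
  intro t' ht'
  by_contra hne
  obtain ⟨P, hP, h1, h2⟩ := exists_clopen_sep hne
  rcases ee_mem_or_compl 𝔮 hP with h | h
  · exact ht' P hP h1 h
  · exact ht Pᶜ hP.compl h2 h

end Prime

section Homeo

variable [CompactSpace T] [T2Space T] [TotallyDisconnectedSpace T]

/-- The point of `T` under a prime of `LocallyConstant T A`. -/
noncomputable def pt (𝔮 : PrimeSpectrum (LocallyConstant T A)) : T :=
  (existsUnique_point 𝔮.asIdeal).exists.choose

theorem pt_spec (𝔮 : PrimeSpectrum (LocallyConstant T A)) {P : Set T} (hP : IsClopen P) :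
    pt 𝔮 ∈ P ↔ ee A T hP ∉ 𝔮.asIdeal := by
  constructor
  · intro h
    exact (existsUnique_point 𝔮.asIdeal).exists.choose_spec P hP h
  · intro h
    by_contra hn
    have h2 : ee A T hP.compl ∉ 𝔮.asIdeal :=
      (existsUnique_point 𝔮.asIdeal).exists.choose_spec Pᶜ hP.compl hn
    rcases ee_mem_or_compl 𝔮.asIdeal hP with h' | h'
    · exact h h'
    · exact h2 h'

theorem pt_eq (𝔮 : PrimeSpectrum (LocallyConstant T A)) (t : T)
    (h : ∀ P : Set T, ∀ hP : IsClopen P, t ∈ P → ee A T hP ∉ 𝔮.asIdeal) : pt 𝔮 = t :=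
  (existsUnique_point 𝔮.asIdeal).unique
    (existsUnique_point 𝔮.asIdeal).exists.choose_spec h

theorem mem_iff_const (𝔮 : PrimeSpectrum (LocallyConstant T A)) (φ : LocallyConstant T A) :
    φ ∈ 𝔮.asIdeal ↔ LocallyConstant.const T (φ (pt 𝔮)) ∈ 𝔮.asIdeal := by
  have hP : IsClopen (φ ⁻¹' {φ (pt 𝔮)}) :=
    ⟨φ.isLocallyConstant.isClosed_fiber _, φ.isLocallyConstant.isOpen_fiber _⟩
  have hmem : pt 𝔮 ∈ φ ⁻¹' {φ (pt 𝔮)} := rfl
  have hnot := (pt_spec 𝔮 hP).mp hmem
  have hz : ee A T hP * (φ - LocallyConstant.const T (φ (pt 𝔮))) = 0 := by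
    apply ee_mul_eq_zero
    intro t ht
    rw [LocallyConstant.sub_apply, LocallyConstant.coe_const, Function.const_apply]
    exact sub_eq_zero.mpr ht
  have hd : φ - LocallyConstant.const T (φ (pt 𝔮)) ∈ 𝔮.asIdeal := by
    have := 𝔮.isPrime.mem_or_mem (hz ▸ 𝔮.asIdeal.zero_mem :
      ee A T hP * (φ - LocallyConstant.const T (φ (pt 𝔮))) ∈ 𝔮.asIdeal)
    exact this.resolve_left hnot
  constructor
  · intro h
    have := 𝔮.asIdeal.sub_mem h hd
    rwa [sub_sub_cancel] at this
  · intro h
    have := 𝔮.asIdeal.add_mem hd h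
    rwa [sub_add_cancel] at this

theorem algebraMap_eq_const (a : A) :
    algebraMap A (LocallyConstant T A) a = LocallyConstant.const T a := by
  ext t
  rfl

/-- `Spec (LocallyConstant T A) → Spec A × T`. -/
noncomputable def toProd (𝔮 : PrimeSpectrum (LocallyConstant T A)) : PrimeSpectrum A × T :=
  (PrimeSpectrum.comap (algebraMap A (LocallyConstant T A)) 𝔮, pt 𝔮)

/-- `Spec A × T → Spec (LocallyConstant T A)`. -/
noncomputable def ofProd (p : PrimeSpectrum A × T) : PrimeSpectrum (LocallyConstant T A) :=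
  PrimeSpectrum.comap (LocallyConstant.evalRingHom p.2) p.1

theorem mem_ofProd (p : PrimeSpectrum A × T) (φ : LocallyConstant T A) :
    φ ∈ (ofProd p).asIdeal ↔ φ p.2 ∈ p.1.asIdeal := Iff.rfl

theorem mem_toProd_fst (𝔮 : PrimeSpectrum (LocallyConstant T A)) (a : A) :
    a ∈ (toProd 𝔮).1.asIdeal ↔ LocallyConstant.const T a ∈ 𝔮.asIdeal := by
  show algebraMap A (LocallyConstant T A) a ∈ 𝔮.asIdeal ↔ _
  rw [algebraMap_eq_const]

theorem toProd_ofProd (p : PrimeSpectrum A × T) : toProd (ofProd p) = p := by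
  apply Prod.ext
  · apply PrimeSpectrum.ext
    ext a
    rw [mem_toProd_fst, mem_ofProd]
    rfl
  · apply pt_eq
    intro P hP ht
    rw [mem_ofProd, ee_apply_of_mem hP ht]
    exact fun h => p.1.isPrime.ne_top ((Ideal.eq_top_iff_one _).mpr h)

theorem ofProd_toProd (𝔮 : PrimeSpectrum (LocallyConstant T A)) : ofProd (toProd 𝔮) = 𝔮 := by
  apply PrimeSpectrum.ext
  ext φ
  rw [mem_ofProd, mem_toProd_fst]
  exact (mem_iff_const 𝔮 φ).symm

theorem continuous_pt : Continuous (pt : PrimeSpectrum (LocallyConstant T A) → T) := by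
  rw [(isTopologicalBasis_isClopen (X := T)).continuous_iff]
  intro P hP
  have : (pt : PrimeSpectrum (LocallyConstant T A) → T) ⁻¹' P =
      (PrimeSpectrum.basicOpen (ee A T hP) : Set _) := by
    ext 𝔮
    exact pt_spec 𝔮 hP
  rw [this]
  exact (PrimeSpectrum.basicOpen _).isOpen

theorem continuous_toProd :
    Continuous (toProd : PrimeSpectrum (LocallyConstant T A) → PrimeSpectrum A × T) :=
  (PrimeSpectrum.continuous_comap _).prodMk continuous_pt

theorem continuous_ofProd :
    Continuous (ofProd : PrimeSpectrum A × T → PrimeSpectrum (LocallyConstant T A)) := by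
  rw [PrimeSpectrum.isTopologicalBasis_basic_opens.continuous_iff]
  rintro _ ⟨φ, rfl⟩
  rw [isOpen_iff_forall_mem_open]
  rintro ⟨x, t⟩ hxt
  have hxt' : φ t ∉ x.asIdeal := hxt
  refine ⟨(PrimeSpectrum.basicOpen (φ t) : Set _) ×ˢ (φ ⁻¹' {φ t}), ?_, ?_, ?_⟩
  · rintro ⟨x', t'⟩ ⟨h1, h2⟩
    show φ t' ∉ x'.asIdeal
    have h2' : φ t' = φ t := h2
    rw [h2']
    exact h1
  · exact (PrimeSpectrum.basicOpen _).isOpen.prod (φ.isLocallyConstant.isOpen_fiber _)
  · exact ⟨hxt', rfl⟩

/-- `Spec (LocallyConstant T A) ≃ₜ Spec A × T`. -/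
noncomputable def specHomeo : PrimeSpectrum (LocallyConstant T A) ≃ₜ PrimeSpectrum A × T where
  toFun := toProd
  invFun := ofProd
  left_inv := ofProd_toProd
  right_inv := toProd_ofProd
  continuous_toFun := continuous_toProd
  continuous_invFun := continuous_ofProd

end Homeo

end Groth.Agent.Lib.ProfLocH3
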