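import Mathlib
import Groth.Agent.Lib.ProfLoc1_helper3

/-!
# Localising `LocallyConstant T A` along a family of multiplicative sets (helper3)

Given a profinite space `T` and submonoids `Sm t ⊆ A` depending "openly" on `t`, the ring
`B = 𝕊⁻¹ LocallyConstant T A`, `𝕊 = {φ | ∀ t, φ t ∈ Sm t}`, has
`Spec B = {(x, t) | x ∩ Sm t = ∅} ⊆ Spec A × T`.
-/

set_option autoImplicit false
set_option linter.all false
set_option maxHeartbeats 1600000
universe u

open TopologicalSpace

namespace Groth.Agent.Lib.ProfLocH3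

variable {A : Type u} [CommRing A] {T : Type u} [TopologicalSpace T]

/-- The multiplicative set of locally constant functions with `φ t ∈ Sm t` for all `t`. -/
def bigS (Sm : T → Submonoid A) : Submonoid (LocallyConstant T A) where
  carrier := {φ | ∀ t, φ t ∈ Sm t}
  mul_mem' := fun {a b} ha hb t => by
    rw [LocallyConstant.mul_apply]
    exact (Sm t).mul_mem (ha t) (hb t)
  one_mem' := fun t => (Sm t).one_mem

theorem mem_bigS (Sm : T → Submonoid A) (φ : LocallyConstant T A) :
    φ ∈ bigS Sm ↔ ∀ t, φ t ∈ Sm t := Iff.rfl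

/-- The openness condition on the family of submonoids. -/
def IsOpenFamily (Sm : T → Submonoid A) : Prop :=
  ∀ t, ∀ f ∈ Sm t, ∃ P : Set T, IsClopen P ∧ t ∈ P ∧ ∀ t' ∈ P, f ∈ Sm t'

/-- The function equal to `f` on `P` and to `1` outside. -/
noncomputable def patch (f : A) {P : Set T} (hP : IsClopen P) : LocallyConstant T A :=
  LocallyConstant.const T f * ee A T hP + ee A T hP.compl

theorem patch_apply_of_mem (f : A) {P : Set T} (hP : IsClopen P) {t : T} (ht : t ∈ P) :
    patch f hP t = f := by
  unfold patch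
  rw [LocallyConstant.add_apply, LocallyConstant.mul_apply, ee_apply_of_mem hP ht,
    ee_apply_of_not_mem hP.compl (fun h => h ht), mul_one, add_zero]
  rfl

theorem patch_apply_of_not_mem (f : A) {P : Set T} (hP : IsClopen P) {t : T} (ht : t ∉ P) :
    patch f hP t = 1 := by
  unfold patch
  rw [LocallyConstant.add_apply, LocallyConstant.mul_apply, ee_apply_of_not_mem hP ht,
    ee_apply_of_mem hP.compl ht, mul_zero, zero_add]

theorem patch_mem_bigS (Sm : T → Submonoid A) (f : A) {P : Set T} (hP : IsClopen P)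
    (h : ∀ t ∈ P, f ∈ Sm t) : patch f hP ∈ bigS Sm := by
  intro t
  by_cases ht : t ∈ P
  · rw [patch_apply_of_mem f hP ht]
    exact h t ht
  · rw [patch_apply_of_not_mem f hP ht]
    exact (Sm t).one_mem

variable (Sm : T → Submonoid A)

/-- The localisation. -/
abbrev BB : Type u := Localization (bigS Sm)

variable [CompactSpace T] [T2Space T] [TotallyDisconnectedSpace T]

/-- `Spec B → Spec A × T`. -/
noncomputable def specMap (y : PrimeSpectrum (BB Sm)) : PrimeSpectrum A × T :=
  toProd (PrimeSpectrum.comap (algebraMap (LocallyConstant T A) (BB Sm)) y)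

theorem specMap_fst (y : PrimeSpectrum (BB Sm)) :
    (specMap Sm y).1 = PrimeSpectrum.comap (algebraMap A (BB Sm)) y := by
  apply PrimeSpectrum.ext
  ext a
  show algebraMap (LocallyConstant T A) (BB Sm) (algebraMap A (LocallyConstant T A) a) ∈ y.asIdeal ↔
    algebraMap A (BB Sm) a ∈ y.asIdeal
  rw [← IsScalarTower.algebraMap_apply]

theorem isEmbedding_specMap : Topology.IsEmbedding (specMap Sm) :=
  (specHomeo (A := A) (T := T)).isEmbedding.comp
    (PrimeSpectrum.localization_comap_isEmbedding (BB Sm) (bigS Sm))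

theorem range_specMap (hopen : IsOpenFamily Sm) :
    Set.range (specMap Sm) = {p : PrimeSpectrum A × T | Disjoint (Sm p.2 : Set A) p.1.asIdeal} := by
  have hr := PrimeSpectrum.localization_comap_range (BB Sm) (bigS Sm)
  ext p
  constructor
  · rintro ⟨y, rfl⟩
    have hy : Disjoint (bigS Sm : Set (LocallyConstant T A))
        (PrimeSpectrum.comap (algebraMap (LocallyConstant T A) (BB Sm)) y).asIdeal := by
      have : PrimeSpectrum.comap (algebraMap (LocallyConstant T A) (BB Sm)) y ∈
          Set.range (PrimeSpectrum.comap (algebraMap (LocallyConstant T A) (BB Sm))) := ⟨y, rfl⟩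
      rw [hr] at this
      exact this
    obtain ⟨𝔮, h𝔮⟩ : ∃ 𝔮, 𝔮 = PrimeSpectrum.comap (algebraMap (LocallyConstant T A) (BB Sm)) y :=
      ⟨_, rfl⟩
    rw [← h𝔮] at hy
    have hgoal : Disjoint (Sm (toProd 𝔮).2 : Set A) ((toProd 𝔮).1.asIdeal : Set A) → specMap Sm y ∈
        {p : PrimeSpectrum A × T | Disjoint (Sm p.2 : Set A) p.1.asIdeal} := by
      intro h
      rw [h𝔮] at h
      exact h
    apply hgoal
    rw [Set.disjoint_left]
    intro f hf hfx
    obtain ⟨P, hP, htP, hPS⟩ := hopen _ f hf
    have h1 : patch f hP ∈ bigS Sm := patch_mem_bigS Sm f hP hPS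
    have h2 : patch f hP ∈ 𝔮.asIdeal := by
      have htP' : pt 𝔮 ∈ P := htP
      rw [mem_iff_const, patch_apply_of_mem f hP htP']
      exact (mem_toProd_fst 𝔮 f).mp hfx
    exact Set.disjoint_left.mp hy h1 h2
  · intro hp
    have hp' : Disjoint (Sm p.2 : Set A) p.1.asIdeal := hp
    have hd : Disjoint (bigS Sm : Set (LocallyConstant T A)) (ofProd p).asIdeal := by
      rw [Set.disjoint_left]
      intro φ hφ hφq
      exact Set.disjoint_left.mp hp' (hφ p.2) ((mem_ofProd p φ).mp hφq)
    have : ofProd p ∈ Set.range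
        (PrimeSpectrum.comap (algebraMap (LocallyConstant T A) (BB Sm))) := by
      rw [hr]
      exact hd
    obtain ⟨y, hy⟩ := this
    refine ⟨y, ?_⟩
    show toProd (PrimeSpectrum.comap _ y) = p
    rw [hy, toProd_ofProd]

end Groth.Agent.Lib.ProfLocH3
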