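import Mathlib
import Groth.Prelude.Def_PBC
import Groth.Agent.Lib.ProfLoc2_helper3
import Groth.Agent.Lib.IndEtale1_helper3

/-!
# `𝕊⁻¹ LocallyConstant T A` is ind-Zariski over `A` (helper3)
-/

set_option autoImplicit false
set_option linter.all false
set_option maxHeartbeats 1600000
universe u

open TopologicalSpace CategoryTheory Limits

namespace Groth.Agent.Lib.ProfLocH3

variable {A : Type u} [CommRing A] {T : Type u} [TopologicalSpace T]

/-- Functions on a discrete quotient, as locally constant functions on `T`. -/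
def incl (Q : DiscreteQuotient T) : (Q → A) →ₐ[A] LocallyConstant T A where
  toFun h := ⟨h ∘ Q.proj, (IsLocallyConstant.of_discrete h).comp_continuous Q.proj_continuous⟩
  map_one' := by ext; rfl
  map_mul' _ _ := by ext; rfl
  map_zero' := by ext; rfl
  map_add' _ _ := by ext; rfl
  commutes' a := by ext; rfl

theorem incl_apply (Q : DiscreteQuotient T) (h : Q → A) (t : T) : incl Q h t = h (Q.proj t) := rfl

/-- Restriction to a finer discrete quotient. -/
def res {Q Q' : DiscreteQuotient T} (hle : Q' ≤ Q) : (Q → A) →ₐ[A] (Q' → A) where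
  toFun h := h ∘ DiscreteQuotient.ofLE hle
  map_one' := rfl
  map_mul' _ _ := rfl
  map_zero' := rfl
  map_add' _ _ := rfl
  commutes' a := rfl

theorem res_apply {Q Q' : DiscreteQuotient T} (hle : Q' ≤ Q) (h : Q → A) (q : Q') :
    res hle h q = h (DiscreteQuotient.ofLE hle q) := rfl

theorem incl_res {Q Q' : DiscreteQuotient T} (hle : Q' ≤ Q) (h : Q → A) :
    incl Q' (res hle h) = incl Q h := by
  ext t
  rw [incl_apply, incl_apply, res_apply, DiscreteQuotient.ofLE_proj]

/-- Every locally constant function is measurable for a fine enough discrete quotient. -/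
theorem exists_incl_eq (φ : LocallyConstant T A) {Q : DiscreteQuotient T}
    (hQ : Q ≤ φ.discreteQuotient) : ∃ h : Q → A, incl Q h = φ := by
  refine ⟨φ.lift ∘ DiscreteQuotient.ofLE hQ, ?_⟩
  ext t
  rw [incl_apply, Function.comp_apply, DiscreteQuotient.ofLE_proj]
  rfl

variable (Sm : T → Submonoid A)

/-- The index set of the ind-Zariski presentation. -/
structure Stage where
  Q : DiscreteQuotient T
  f : Q → A
  hf : ∀ t, f (Q.proj t) ∈ Sm t

namespace Stage

variable {Sm}

instance : Preorder (Stage Sm) where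
  le j j' := j'.Q ≤ j.Q ∧ ∀ t, j.f (j.Q.proj t) ∣ j'.f (j'.Q.proj t)
  le_refl j := ⟨le_rfl, fun t => dvd_rfl⟩
  le_trans a b c h h' := ⟨h'.1.trans h.1, fun t => (h.2 t).trans (h'.2 t)⟩

theorem le_def (j j' : Stage Sm) :
    j ≤ j' ↔ j'.Q ≤ j.Q ∧ ∀ t, j.f (j.Q.proj t) ∣ j'.f (j'.Q.proj t) := Iff.rfl

instance : Nonempty (Stage Sm) :=
  ⟨⟨⊤, fun _ => 1, fun t => (Sm t).one_mem⟩⟩

/-- Common refinement. -/
def sup (j j' : Stage Sm) : Stage Sm where
  Q := j.Q ⊓ j'.Q
  f := fun q => j.f (DiscreteQuotient.ofLE inf_le_left q) * j'.f (DiscreteQuotient.ofLE inf_le_right q)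
  hf := fun t => by
    rw [DiscreteQuotient.ofLE_proj, DiscreteQuotient.ofLE_proj]
    exact (Sm t).mul_mem (j.hf t) (j'.hf t)

theorem sup_f_proj (j j' : Stage Sm) (t : T) :
    (sup j j').f ((sup j j').Q.proj t) = j.f (j.Q.proj t) * j'.f (j'.Q.proj t) := by
  show j.f (DiscreteQuotient.ofLE inf_le_left ((j.Q ⊓ j'.Q).proj t)) *
    j'.f (DiscreteQuotient.ofLE inf_le_right ((j.Q ⊓ j'.Q).proj t)) = _
  rw [DiscreteQuotient.ofLE_proj, DiscreteQuotient.ofLE_proj]

theorem le_sup_left (j j' : Stage Sm) : j ≤ sup j j' := by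
  refine ⟨inf_le_left, fun t => ?_⟩
  rw [sup_f_proj]
  exact dvd_mul_right _ _

theorem le_sup_right (j j' : Stage Sm) : j' ≤ sup j j' := by
  refine ⟨inf_le_right, fun t => ?_⟩
  rw [sup_f_proj]
  exact dvd_mul_left _ _

instance : IsDirected (Stage Sm) (· ≤ ·) :=
  ⟨fun j j' => ⟨sup j j', le_sup_left j j', le_sup_right j j'⟩⟩

/-- The function on `T` attached to a stage lies in the multiplicative set. -/
theorem incl_f_mem (j : Stage Sm) : incl j.Q j.f ∈ bigS Sm := fun t => j.hf t

/-- The ring at a stage. -/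
abbrev SR (j : Stage Sm) : Type u := Localization.Away j.f

theorem isUnit_toB (j : Stage Sm) (y : Submonoid.powers j.f) :
    IsUnit (((IsScalarTower.toAlgHom A (LocallyConstant T A) (BB Sm)).comp (incl j.Q)) y) := by
  obtain ⟨_, n, rfl⟩ := y
  show IsUnit (algebraMap (LocallyConstant T A) (BB Sm) (incl j.Q (j.f ^ n)))
  rw [map_pow, map_pow]
  exact (IsLocalization.map_units (BB Sm) (⟨incl j.Q j.f, incl_f_mem j⟩ : bigS Sm)).pow n

/-- The map from a stage to `B`. -/
noncomputable def toB (j : Stage Sm) : SR j →ₐ[A] BB Sm :=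
  IsLocalization.liftAlgHom (M := Submonoid.powers j.f)
    (f := (IsScalarTower.toAlgHom A (LocallyConstant T A) (BB Sm)).comp (incl j.Q)) (isUnit_toB j)

theorem toB_algebraMap (j : Stage Sm) (h : j.Q → A) :
    toB j (algebraMap (j.Q → A) (SR j) h) =
      algebraMap (LocallyConstant T A) (BB Sm) (incl j.Q h) := by
  unfold toB
  rw [IsLocalization.liftAlgHom_apply, IsLocalization.lift_eq]
  rfl

theorem dvd_of_le {j j' : Stage Sm} (h : j ≤ j') :
    res h.1 j.f ∣ j'.f := by
  have hq : ∀ q' : j'.Q, ∃ c : A, j'.f q' = res h.1 j.f q' * c := by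
    intro q'
    obtain ⟨t, rfl⟩ := j'.Q.proj_surjective q'
    rw [res_apply, DiscreteQuotient.ofLE_proj]
    exact h.2 t
  choose c hc using hq
  exact ⟨c, funext hc⟩

theorem isUnit_tr {j j' : Stage Sm} (h : j ≤ j') (y : Submonoid.powers j.f) :
    IsUnit (((IsScalarTower.toAlgHom A (j'.Q → A) (SR j')).comp (res h.1)) y) := by
  obtain ⟨_, n, rfl⟩ := y
  show IsUnit (algebraMap (j'.Q → A) (SR j') (res h.1 (j.f ^ n)))
  rw [map_pow, map_pow]
  apply IsUnit.pow
  obtain ⟨c, hc⟩ := dvd_of_le h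
  have hu : IsUnit (algebraMap (j'.Q → A) (SR j') j'.f) :=
    IsLocalization.Away.algebraMap_isUnit j'.f
  have e := congrArg (algebraMap (j'.Q → A) (SR j')) hc
  rw [map_mul] at e
  rw [e] at hu
  exact isUnit_of_mul_isUnit_left hu

/-- Transition maps. -/
noncomputable def tr {j j' : Stage Sm} (h : j ≤ j') : SR j →ₐ[A] SR j' :=
  IsLocalization.liftAlgHom (M := Submonoid.powers j.f)
    (f := (IsScalarTower.toAlgHom A (j'.Q → A) (SR j')).comp (res h.1)) (isUnit_tr h)

theorem tr_algebraMap {j j' : Stage Sm} (h : j ≤ j') (x : j.Q → A) :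
    tr h (algebraMap (j.Q → A) (SR j) x) = algebraMap (j'.Q → A) (SR j') (res h.1 x) := by
  unfold tr
  rw [IsLocalization.liftAlgHom_apply, IsLocalization.lift_eq]
  rfl

theorem algHom_ext' {j : Stage Sm} {P : Type*} [CommRing P] [Algebra A P] (g g' : SR j →ₐ[A] P)
    (h : ∀ x : j.Q → A, g (algebraMap _ (SR j) x) = g' (algebraMap _ (SR j) x)) : g = g' := by
  apply AlgHom.coe_ringHom_injective
  apply IsLocalization.ringHom_ext (Submonoid.powers j.f)
  exact RingHom.ext fun x => h x

theorem tr_refl (j : Stage Sm) : tr (le_refl j) = AlgHom.id A (SR j) := by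
  apply algHom_ext'
  intro x
  rw [tr_algebraMap]
  have e : res (le_refl j : j ≤ j).1 x = x := by
    funext q
    rw [res_apply, DiscreteQuotient.ofLE_refl_apply]
  rw [e]
  rfl

theorem tr_trans {j j' j'' : Stage Sm} (h : j ≤ j') (h' : j' ≤ j'') :
    (tr h').comp (tr h) = tr (h.trans h') := by
  apply algHom_ext'
  intro x
  rw [AlgHom.comp_apply, tr_algebraMap, tr_algebraMap, tr_algebraMap]
  have e : res h'.1 (res h.1 x) = res (h.trans h').1 x := by
    funext q
    rw [res_apply, res_apply, res_apply, DiscreteQuotient.ofLE_ofLE]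
  rw [e]

theorem toB_tr {j j' : Stage Sm} (h : j ≤ j') : (toB j').comp (tr h) = toB j := by
  apply algHom_ext'
  intro x
  rw [AlgHom.comp_apply, tr_algebraMap, toB_algebraMap, toB_algebraMap, incl_res]

end Stage

open Stage

/-- The diagram of stages. -/
noncomputable def stageDiag : Stage Sm ⥤ Under (CommRingCat.of A) where
  obj j := Under.mk (CommRingCat.ofHom (algebraMap A (SR j)))
  map {j j'} h := Under.homMk (CommRingCat.ofHom (tr (leOfHom h)).toRingHom) (by
    ext a
    exact (tr (leOfHom h)).commutes a)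
  map_id j := by
    apply Under.UnderMorphism.ext
    apply CommRingCat.hom_ext
    show (tr (le_refl j)).toRingHom = _
    rw [tr_refl]
    rfl
  map_comp {j j' j''} f g := by
    apply Under.UnderMorphism.ext
    apply CommRingCat.hom_ext
    show (tr ((leOfHom f).trans (leOfHom g))).toRingHom = _
    rw [← tr_trans (leOfHom f) (leOfHom g)]
    rfl

/-- The cocone with vertex `B`. -/
noncomputable def stageCocone : Cocone (stageDiag Sm) where
  pt := Under.mk (CommRingCat.ofHom (algebraMap A (BB Sm)))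
  ι :=
    { app := fun j => Under.homMk (CommRingCat.ofHom (toB j).toRingHom) (by
        ext a
        exact (toB j).commutes a)
      naturality := fun j j' f => by
        apply Under.UnderMorphism.ext
        apply CommRingCat.hom_ext
        show ((toB j').comp (tr (leOfHom f))).toRingHom = (toB j).toRingHom
        rw [toB_tr] }

theorem stageDiag_map_apply {j j' : Stage Sm} (h : j ⟶ j') (y : SR j) :
    ((stageDiag Sm).map h).right.hom y = tr (leOfHom h) y := rfl

theorem stageCocone_app_apply (j : Stage Sm) (y : SR j) :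
    ((stageCocone Sm).ι.app j).right.hom y = toB j y := rfl

theorem surj_stage (b : BB Sm) : ∃ (j : Stage Sm) (y : SR j), toB j y = b := by
  obtain ⟨φ, σ, rfl⟩ := IsLocalization.exists_mk'_eq (bigS Sm) b
  obtain ⟨Q, hQ⟩ : ∃ Q : DiscreteQuotient T,
      Q = φ.discreteQuotient ⊓ (σ : LocallyConstant T A).discreteQuotient := ⟨_, rfl⟩
  obtain ⟨h, hh⟩ := exists_incl_eq φ (hQ ▸ inf_le_left : Q ≤ φ.discreteQuotient)
  obtain ⟨f, hf⟩ := exists_incl_eq (σ : LocallyConstant T A)
    (hQ ▸ inf_le_right : Q ≤ (σ : LocallyConstant T A).discreteQuotient)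
  have hft : ∀ t, f (Q.proj t) = (σ : LocallyConstant T A) t := fun t =>
    congrArg (fun ψ : LocallyConstant T A => ψ t) hf
  let j : Stage Sm := ⟨Q, f, fun t => by
    rw [hft]
    exact σ.2 t⟩
  refine ⟨j, IsLocalization.mk' (SR j) h
    (⟨j.f, Submonoid.mem_powers _⟩ : Submonoid.powers j.f), ?_⟩
  rw [IsLocalization.eq_mk'_iff_mul_eq]
  have e : algebraMap (LocallyConstant T A) (BB Sm) (σ : LocallyConstant T A) =
      toB j (algebraMap (j.Q → A) (SR j) j.f) := by
    rw [toB_algebraMap]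
    exact congrArg _ hf.symm
  rw [e, ← map_mul]
  have e2 : IsLocalization.mk' (SR j) h
      (⟨j.f, Submonoid.mem_powers _⟩ : Submonoid.powers j.f) *
      algebraMap (j.Q → A) (SR j) j.f = algebraMap (j.Q → A) (SR j) h :=
    IsLocalization.mk'_spec (SR j) h (⟨j.f, Submonoid.mem_powers _⟩ : Submonoid.powers j.f)
  rw [e2, toB_algebraMap, hh]

theorem inj_stage (j : Stage Sm) (y : SR j) (hy : toB j y = 0) :
    ∃ (j' : Stage Sm) (h : j ≤ j'), tr h y = 0 := by
  obtain ⟨h, s, rfl⟩ := IsLocalization.exists_mk'_eq (Submonoid.powers j.f) y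
  have h1 : toB j (algebraMap (j.Q → A) (SR j) h) = 0 := by
    rw [← IsLocalization.mk'_spec (SR j) h s, map_mul, hy, zero_mul]
  rw [toB_algebraMap, IsLocalization.map_eq_zero_iff (bigS Sm)] at h1
  obtain ⟨σ, hσ⟩ := h1
  obtain ⟨Q', hQ'⟩ : ∃ Q' : DiscreteQuotient T,
      Q' = j.Q ⊓ (σ : LocallyConstant T A).discreteQuotient := ⟨_, rfl⟩
  have hle : Q' ≤ j.Q := hQ' ▸ inf_le_left
  obtain ⟨s', hs'⟩ := exists_incl_eq (σ : LocallyConstant T A)
    (hQ' ▸ inf_le_right : Q' ≤ (σ : LocallyConstant T A).discreteQuotient)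
  have hs't : ∀ t, s' (Q'.proj t) = (σ : LocallyConstant T A) t := fun t =>
    congrArg (fun ψ : LocallyConstant T A => ψ t) hs'
  let j' : Stage Sm := ⟨Q', res hle j.f * s', fun t => by
    show res hle j.f (Q'.proj t) * s' (Q'.proj t) ∈ Sm t
    rw [res_apply, DiscreteQuotient.ofLE_proj, hs't]
    exact (Sm t).mul_mem (j.hf t) (σ.2 t)⟩
  have hjj' : j ≤ j' := by
    refine ⟨hle, fun t => ?_⟩
    show _ ∣ res hle j.f (Q'.proj t) * s' (Q'.proj t)
    rw [res_apply, DiscreteQuotient.ofLE_proj]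
    exact dvd_mul_right _ _
  refine ⟨j', hjj', ?_⟩
  -- `s' * res h = 0`
  have hz : s' * res hjj'.1 h = 0 := by
    funext q
    obtain ⟨t, rfl⟩ := Q'.proj_surjective q
    show s' (Q'.proj t) * res hjj'.1 h (Q'.proj t) = 0
    rw [res_apply, DiscreteQuotient.ofLE_proj, hs't]
    exact congrArg (fun ψ : LocallyConstant T A => ψ t) hσ
  have hu : IsUnit (algebraMap (j'.Q → A) (SR j') s') := by
    have hu' : IsUnit (algebraMap (j'.Q → A) (SR j') j'.f) :=
      IsLocalization.Away.algebraMap_isUnit j'.f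
    have e : algebraMap (j'.Q → A) (SR j') j'.f =
        algebraMap (j'.Q → A) (SR j') (res hle j.f) * algebraMap (j'.Q → A) (SR j') s' := by
      rw [← map_mul]
    rw [e] at hu'
    exact isUnit_of_mul_isUnit_right hu'
  have h2 : algebraMap (j'.Q → A) (SR j') (res hjj'.1 h) = 0 := by
    have := congrArg (algebraMap (j'.Q → A) (SR j')) hz
    rw [map_mul, map_zero] at this
    exact (hu.mul_right_eq_zero).mp this
  have h3 : tr hjj' (IsLocalization.mk' (SR j) h s) *
      tr hjj' (algebraMap (j.Q → A) (SR j) s) = 0 := by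
    rw [← map_mul, IsLocalization.mk'_spec, tr_algebraMap, h2]
  have hu2 : IsUnit (tr hjj' (algebraMap (j.Q → A) (SR j) (s : j.Q → A))) :=
    (IsLocalization.map_units (SR j) s).map (tr hjj')
  exact (hu2.mul_left_eq_zero).mp h3

/-- The cocone of stages is a colimit cocone. -/
noncomputable def isColimitStageCocone : IsColimit (stageCocone Sm) := by
  apply IndEtaleH3.isColimitOfSurjInj
  · intro (b : BB Sm)
    obtain ⟨j, y, hy⟩ := surj_stage Sm b
    exact ⟨j, y, hy⟩
  · intro j (y : SR j) hy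
    obtain ⟨j', h, hh⟩ := inj_stage Sm j y hy
    exact ⟨j', homOfLE h, hh⟩

variable [CompactSpace T]

/-- `B = 𝕊⁻¹ LocallyConstant T A` is ind-Zariski over `A`. -/
theorem isIndZariski_BB : EtPBC.IsIndZariski A (BB Sm) := by
  refine ⟨Stage Sm, inferInstance, inferInstance, stageDiag Sm, stageCocone Sm,
    isColimitStageCocone Sm, ?_, ⟨Iso.refl _⟩⟩
  intro j
  have h0 : ((stageDiag Sm).obj j).hom.hom.toAlgebra = (inferInstance : Algebra A (SR j)) :=
    Algebra.algebra_ext _ _ (fun r => rfl)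
  rw [h0]
  haveI : Finite j.Q := inferInstance
  haveI : Algebra.IsLocalIso A (j.Q → A) := Algebra.IsLocalIso.pi_of_finite A (fun _ : j.Q => A)
  exact Algebra.IsLocalIso.trans A (j.Q → A) (SR j)

end Groth.Agent.Lib.ProfLocH3
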