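import Mathlib
import Groth.Prelude.Def_PBC
import Groth.Agent.Lib.ProfLoc3_helper3
import Groth.Agent.Lib.SpectralProd_helper8

/-!
# Base change of `Spec A` along a profinite space over `π₀(Spec A)` (helper3)
-/

set_option autoImplicit false
set_option linter.all false
set_option maxHeartbeats 1600000
universe u

open TopologicalSpace Topology

namespace Groth.Agent.Lib.ProfLocH3

open Groth.Agent.Lib.SpectralProdH8

variable {A : Type u} [CommRing A] {T : Type u} [TopologicalSpace T]
  (g : C(T, ConnectedComponents (PrimeSpectrum A)))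

/-- Elements of `A` vanishing nowhere on the connected component `g t`. -/
def compS (t : T) : Submonoid A where
  carrier := {f | ∀ x : PrimeSpectrum A, ConnectedComponents.mk x = g t → f ∉ x.asIdeal}
  mul_mem' := fun ha hb x hx h => (x.isPrime.mem_or_mem h).elim (ha x hx) (hb x hx)
  one_mem' := fun x _ h => x.isPrime.ne_top ((Ideal.eq_top_iff_one _).mpr h)

theorem mem_compS (t : T) (f : A) :
    f ∈ compS g t ↔ ∀ x : PrimeSpectrum A, ConnectedComponents.mk x = g t → f ∉ x.asIdeal :=
  Iff.rfl

variable [CompactSpace T] [T2Space T] [TotallyDisconnectedSpace T]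

theorem isOpenFamily_compS : IsOpenFamily (compS g) := by
  haveI : T2Space (ConnectedComponents (PrimeSpectrum A)) := t2Space_connectedComponents
  intro t f hf
  have hK : IsClosed ((ConnectedComponents.mk : PrimeSpectrum A → _) ''
      (PrimeSpectrum.zeroLocus ({f} : Set A))) :=
    ((PrimeSpectrum.isClosed_zeroLocus _).isCompact.image
      ConnectedComponents.continuous_coe).isClosed
  have hgt : g t ∉ (ConnectedComponents.mk : PrimeSpectrum A → _) ''
      (PrimeSpectrum.zeroLocus ({f} : Set A)) := by
    rintro ⟨x, hx, hxt⟩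
    apply hf x hxt
    rw [PrimeSpectrum.mem_zeroLocus] at hx
    exact hx rfl
  have hopen : IsOpen (g ⁻¹' ((ConnectedComponents.mk : PrimeSpectrum A → _) ''
      (PrimeSpectrum.zeroLocus ({f} : Set A)))ᶜ) := hK.isOpen_compl.preimage g.continuous
  obtain ⟨P, hP, htP, hsub⟩ := (isTopologicalBasis_isClopen (X := T)).exists_subset_of_mem_open
    (show t ∈ g ⁻¹' ((ConnectedComponents.mk : PrimeSpectrum A → _) ''
      (PrimeSpectrum.zeroLocus ({f} : Set A)))ᶜ from hgt) hopen
  refine ⟨P, hP, htP, fun t' ht' x hx hfx => ?_⟩
  apply hsub ht'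
  refine ⟨x, ?_, hx⟩
  rw [PrimeSpectrum.mem_zeroLocus]
  rintro _ rfl
  exact hfx

theorem disjoint_compS_iff (p : PrimeSpectrum A × T) :
    Disjoint (compS g p.2 : Set A) p.1.asIdeal ↔ ConnectedComponents.mk p.1 = g p.2 := by
  haveI : T2Space (ConnectedComponents (PrimeSpectrum A)) := t2Space_connectedComponents
  constructor
  · intro hd
    by_contra hne
    obtain ⟨U, hU, h1, h2⟩ := exists_clopen_sep (T := ConnectedComponents (PrimeSpectrum A))
      (Ne.symm hne)
    have hs : IsClopen ((ConnectedComponents.mk : PrimeSpectrum A → _) ⁻¹' U) :=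
      hU.preimage ConnectedComponents.continuous_coe
    obtain ⟨e, -, he⟩ := PrimeSpectrum.exists_idempotent_basicOpen_eq_of_isClopen hs
    have hmem : ∀ y : PrimeSpectrum A, ConnectedComponents.mk y ∈ U ↔ e ∉ y.asIdeal := by
      intro y
      have : y ∈ (ConnectedComponents.mk : PrimeSpectrum A → _) ⁻¹' U ↔
          y ∈ (PrimeSpectrum.basicOpen e : Set (PrimeSpectrum A)) := by rw [he]
      exact this
    have he1 : e ∈ compS g p.2 := fun y hy => (hmem y).mp (hy ▸ h1)
    have he2 : e ∈ p.1.asIdeal := by
      by_contra h
      exact h2 ((hmem p.1).mpr h)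
    exact Set.disjoint_left.mp hd he1 he2
  · intro h
    rw [Set.disjoint_left]
    intro f hf hfx
    exact hf p.1 h hfx

theorem main0697 (A : Type u) [CommRing A] (T : Type u)
    [TopologicalSpace T] [CompactSpace T] [T2Space T] [TotallyDisconnectedSpace T]
    (g : C(T, ConnectedComponents (PrimeSpectrum A))) :
    ∃ (B : Type u) (_ : CommRing B) (_ : Algebra A B)
      (e : ConnectedComponents (PrimeSpectrum B) ≃ₜ T),
      EtPBC.IsIndZariski A B ∧
      (∀ y : PrimeSpectrum B,
        g (e (ConnectedComponents.mk y)) =
          ConnectedComponents.mk (PrimeSpectrum.comap (algebraMap A B) y)) ∧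
      Topology.IsEmbedding (fun y : PrimeSpectrum B =>
        (PrimeSpectrum.comap (algebraMap A B) y, e (ConnectedComponents.mk y))) ∧
      Set.range (fun y : PrimeSpectrum B =>
        (PrimeSpectrum.comap (algebraMap A B) y, e (ConnectedComponents.mk y))) =
        {p : PrimeSpectrum A × T | ConnectedComponents.mk p.1 = g p.2} := by
  have hrange : Set.range (specMap (compS g)) =
      {p : PrimeSpectrum A × T | ConnectedComponents.mk p.1 = g p.2} := by
    rw [range_specMap _ (isOpenFamily_compS g)]
    ext p
    exact disjoint_compS_iff g p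
  -- the homeomorphism onto the fibre product
  let hB : PrimeSpectrum (BB (compS g)) ≃ₜ
      {p : PrimeSpectrum A × T // ConnectedComponents.mk p.1 = g p.2} :=
    (isEmbedding_specMap (compS g)).toHomeomorph.trans (Homeomorph.setCongr hrange)
  have hB_apply : ∀ y, (hB y).1 = specMap (compS g) y := fun y => rfl
  obtain ⟨e0, he0⟩ := exists_homeomorph_fib g
  have hfib : ∀ z, IsConnected (hB ⁻¹' {z}) := by
    intro z
    have : hB ⁻¹' {z} = {hB.symm z} := by
      ext y
      simp only [Set.mem_preimage, Set.mem_singleton_iff]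
      constructor
      · intro h
        rw [← h, Homeomorph.symm_apply_apply]
      · intro h
        rw [h, Homeomorph.apply_symm_apply]
    rw [this]
    exact isConnected_singleton
  let e1 := hB.isQuotientMap.isCoinducing.connectedComponentsHomeomorph hfib
  let e := e1.trans e0
  have he : ∀ y : PrimeSpectrum (BB (compS g)),
      e (ConnectedComponents.mk y) = (specMap (compS g) y).2 := by
    intro y
    show e0 (e1 (ConnectedComponents.mk y)) = _
    have : e1 (ConnectedComponents.mk y) = ConnectedComponents.mk (hB y) := rfl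
    rw [this, he0, hB_apply]
  have hfun : (fun y : PrimeSpectrum (BB (compS g)) =>
      (PrimeSpectrum.comap (algebraMap A (BB (compS g))) y, e (ConnectedComponents.mk y))) =
      specMap (compS g) := by
    funext y
    exact Prod.ext (specMap_fst (compS g) y).symm (he y)
  refine ⟨BB (compS g), inferInstance, inferInstance, e, isIndZariski_BB (compS g), ?_, ?_, ?_⟩
  · intro y
    rw [he, ← specMap_fst]
    have : specMap (compS g) y ∈ Set.range (specMap (compS g)) := ⟨y, rfl⟩
    rw [hrange] at this
    exact this.symm
  · rw [hfun]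
    exact isEmbedding_specMap (compS g)
  · rw [hfun]
    exact hrange

end Groth.Agent.Lib.ProfLocH3
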