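import Mathlib

/-!
# Fibre products with the spectrum of a "profinite" algebra over a field (S7460)

Let `k` be a field and `A` a `k`-algebra which is a directed union of subalgebras isomorphic to
finite products of copies of `k`.  For every `k`-scheme `X` the canonical map
`|Spec A ×_k X| → |Spec A| × |X|` is a homeomorphism.

* `exists_idem`: for a prime `𝔭` of `A` and finitely many elements `a_j`, an idempotent-like
  element `ε ∉ 𝔭` with `ε a_j = ε c_j`, `c_j ∈ k`.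
* `exists_sub_mem`: every element of `A` is congruent to a constant modulo any prime.
* `key`: basic opens of `Spec (A ⊗ R)` are locally rectangles.
* `main7460`.
-/

set_option autoImplicit false
set_option linter.unusedVariables false
set_option linter.unusedTactic false
set_option linter.unreachableTactic false
set_option linter.unusedSectionVars false
set_option linter.style.haveILetI false
set_option linter.deprecated false
set_option maxHeartbeats 1600000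

universe u

open CategoryTheory CategoryTheory.Limits AlgebraicGeometry TopologicalSpace
open scoped TensorProduct

namespace Groth.Agent.Lib.ProfProdH4

section alg

variable {k : Type u} [Field k] {A : Type u} [CommRing A] [Algebra k A]

theorem exists_idem
    (hA : ∀ s : Finset A, ∃ (B : Subalgebra k A) (n : ℕ), (↑s : Set A) ⊆ (B : Set A) ∧
      Nonempty (B ≃ₐ[k] (Fin n → k)))
    (𝔭 : Ideal A) [h𝔭 : 𝔭.IsPrime] (s : Finset A) :
    ∃ (ε : A) (c : A → k), ε ∉ 𝔭 ∧ ∀ a ∈ s, ε * a = ε * algebraMap k A (c a) := by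
  classical
  obtain ⟨B, n, hsB, ⟨e⟩⟩ := hA s
  obtain ⟨j, hj⟩ : ∃ j : (Fin n → k) →ₐ[k] A, ∀ b : B, j (e b) = (b : A) :=
    ⟨B.val.comp (e.symm : (Fin n → k) →ₐ[k] B), fun b => by
      show B.val (e.symm (e b)) = b
      rw [AlgEquiv.symm_apply_apply]
      rfl⟩
  have hsum0 : ∑ i : Fin n, (Pi.single i (1 : k) : Fin n → k) = 1 :=
    Finset.univ_sum_single (1 : Fin n → k)
  have hsum : ∑ i : Fin n, j (Pi.single i (1 : k)) = 1 := by
    rw [← map_sum, hsum0]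
    exact map_one j
  obtain ⟨i₀, hi₀⟩ : ∃ i, j (Pi.single i (1 : k)) ∉ 𝔭 := by
    by_contra hcon
    have hall : ∀ i, j (Pi.single i (1 : k)) ∈ 𝔭 := fun i => by
      by_contra hi
      exact hcon ⟨i, hi⟩
    have h1 : (1 : A) ∈ 𝔭 := by
      rw [← hsum]
      exact Ideal.sum_mem _ (fun i _ => hall i)
    exact h𝔭.ne_top ((Ideal.eq_top_iff_one _).mpr h1)
  refine ⟨j (Pi.single i₀ (1 : k)), fun a => if h : a ∈ B then e ⟨a, h⟩ i₀ else 0, hi₀, ?_⟩
  intro a ha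
  have haB : a ∈ B := hsB ha
  show j (Pi.single i₀ (1 : k)) * a =
    j (Pi.single i₀ (1 : k)) * algebraMap k A (if h : a ∈ B then e ⟨a, h⟩ i₀ else 0)
  rw [dif_pos haB]
  have h1 : a = j (e ⟨a, haB⟩) := (hj ⟨a, haB⟩).symm
  have h2 : (Pi.single i₀ (1 : k) : Fin n → k) * e ⟨a, haB⟩ =
      Pi.single i₀ (1 : k) * algebraMap k (Fin n → k) (e ⟨a, haB⟩ i₀) := by
    funext t
    show (Pi.single i₀ (1 : k) : Fin n → k) t * e ⟨a, haB⟩ t =
      (Pi.single i₀ (1 : k) : Fin n → k) t * (e ⟨a, haB⟩ i₀)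
    rcases eq_or_ne t i₀ with ht | ht
    · rw [ht]
    · rw [Pi.single_eq_of_ne ht, zero_mul, zero_mul]
  calc j (Pi.single i₀ (1 : k)) * a
      = j (Pi.single i₀ (1 : k)) * j (e ⟨a, haB⟩) :=
        congrArg (fun t => j (Pi.single i₀ (1 : k)) * t) h1
    _ = j (Pi.single i₀ (1 : k) * e ⟨a, haB⟩) := (map_mul j _ _).symm
    _ = j (Pi.single i₀ (1 : k) * algebraMap k (Fin n → k) (e ⟨a, haB⟩ i₀)) := by rw [h2]
    _ = j (Pi.single i₀ (1 : k)) * j (algebraMap k (Fin n → k) (e ⟨a, haB⟩ i₀)) :=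
        map_mul j _ _
    _ = j (Pi.single i₀ (1 : k)) * algebraMap k A (e ⟨a, haB⟩ i₀) := by
        rw [AlgHom.commutes]

theorem exists_sub_mem
    (hA : ∀ s : Finset A, ∃ (B : Subalgebra k A) (n : ℕ), (↑s : Set A) ⊆ (B : Set A) ∧
      Nonempty (B ≃ₐ[k] (Fin n → k)))
    (𝔭 : Ideal A) [h𝔭 : 𝔭.IsPrime] (b : A) : ∃ c : k, b - algebraMap k A c ∈ 𝔭 := by
  obtain ⟨ε, c, hε, hc⟩ := exists_idem hA 𝔭 {b}
  refine ⟨c b, ?_⟩
  have h0 : ε * (b - algebraMap k A (c b)) = 0 := by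
    rw [mul_sub, hc b (Finset.mem_singleton_self b), sub_self]
  have hmem : ε * (b - algebraMap k A (c b)) ∈ 𝔭 := by
    rw [h0]
    exact 𝔭.zero_mem
  exact (h𝔭.mem_or_mem hmem).resolve_left hε

theorem key
    (hA : ∀ s : Finset A, ∃ (B : Subalgebra k A) (n : ℕ), (↑s : Set A) ⊆ (B : Set A) ∧
      Nonempty (B ≃ₐ[k] (Fin n → k)))
    {R : Type u} [CommRing R] [Algebra k R] (𝔔 : PrimeSpectrum (A ⊗[k] R)) (g : A ⊗[k] R)
    (hg : g ∉ 𝔔.asIdeal) :
    ∃ (ε : A) (ρ : R), (ε ⊗ₜ[k] (1 : R)) ∉ 𝔔.asIdeal ∧ ((1 : A) ⊗ₜ[k] ρ) ∉ 𝔔.asIdeal ∧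
      ∀ 𝔔' : PrimeSpectrum (A ⊗[k] R), (ε ⊗ₜ[k] (1 : R)) ∉ 𝔔'.asIdeal →
        ((1 : A) ⊗ₜ[k] ρ) ∉ 𝔔'.asIdeal → g ∉ 𝔔'.asIdeal := by
  classical
  obtain ⟨S, hS⟩ := TensorProduct.exists_finset g
  obtain ⟨𝔭, h𝔭def⟩ : ∃ 𝔭 : Ideal A, 𝔭 = 𝔔.asIdeal.comap
      (Algebra.TensorProduct.includeLeftRingHom : A →+* A ⊗[k] R) := ⟨_, rfl⟩
  haveI h𝔭 : 𝔭.IsPrime := by
    rw [h𝔭def]
    exact Ideal.comap_isPrime _ _
  obtain ⟨ε, c, hε, hc⟩ := exists_idem hA 𝔭 (S.image Prod.fst)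
  obtain ⟨ρ, hρ⟩ : ∃ ρ : R, ρ = ∑ m ∈ S, c m.1 • m.2 := ⟨_, rfl⟩
  have hR : (ε ⊗ₜ[k] (1 : R)) * ((1 : A) ⊗ₜ[k] ρ) = ε ⊗ₜ[k] ρ := by
    rw [Algebra.TensorProduct.tmul_mul_tmul, mul_one, one_mul]
  have hL : (ε ⊗ₜ[k] (1 : R)) * g = ε ⊗ₜ[k] ρ := by
    rw [hS, Finset.mul_sum, hρ, TensorProduct.tmul_sum]
    refine Finset.sum_congr rfl (fun m hm => ?_)
    have hm1 : m.1 ∈ S.image Prod.fst := Finset.mem_image_of_mem _ hm
    rw [Algebra.TensorProduct.tmul_mul_tmul, one_mul, hc m.1 hm1, TensorProduct.tmul_smul,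
      TensorProduct.smul_tmul', Algebra.smul_def, mul_comm (algebraMap k A (c m.1)) ε]
  have hE : (ε ⊗ₜ[k] (1 : R)) * g = (ε ⊗ₜ[k] (1 : R)) * ((1 : A) ⊗ₜ[k] ρ) := hL.trans hR.symm
  have hε' : (ε ⊗ₜ[k] (1 : R)) ∉ 𝔔.asIdeal := fun h => hε (by
    rw [h𝔭def]
    exact Ideal.mem_comap.mpr h)
  refine ⟨ε, ρ, hε', ?_, ?_⟩
  · intro h
    have hmem : (ε ⊗ₜ[k] (1 : R)) * g ∈ 𝔔.asIdeal := by
      rw [hE]
      exact 𝔔.asIdeal.mul_mem_left _ h
    rcases 𝔔.isPrime.mem_or_mem hmem with h1 | h1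
    · exact hε' h1
    · exact hg h1
  · intro 𝔔' h1 h2 h3
    have hmem : (ε ⊗ₜ[k] (1 : R)) * ((1 : A) ⊗ₜ[k] ρ) ∈ 𝔔'.asIdeal := by
      rw [← hE]
      exact 𝔔'.asIdeal.mul_mem_left _ h3
    rcases 𝔔'.isPrime.mem_or_mem hmem with h4 | h4
    · exact h1 h4
    · exact h2 h4

end alg

section sch

variable (k : Type u) [Field k] (A : Type u) [CommRing A] [Algebra k A]

/-- injectivity of `|Spec A ×_k X| → |Spec A| × |X|` -/
theorem inj
    (hA : ∀ s : Finset A, ∃ (B : Subalgebra k A) (n : ℕ), (↑s : Set A) ⊆ (B : Set A) ∧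
      Nonempty (B ≃ₐ[k] (Fin n → k)))
    (X : Scheme.{u}) (f : X ⟶ Spec (CommRingCat.of k))
    (a : Spec (CommRingCat.of A) ⟶ Spec (CommRingCat.of k))
    (ha : a = Spec.map (CommRingCat.ofHom (algebraMap k A)))
    (z z' : ↑(pullback a f))
    (h1 : pullback.fst a f z = pullback.fst a f z')
    (h2 : pullback.snd a f z = pullback.snd a f z') : z = z' := by
  obtain ⟨a₀, ha₀⟩ : ∃ a₀ : PrimeSpectrum A, a₀ = pullback.fst a f z := ⟨_, rfl⟩
  haveI : a₀.asIdeal.IsPrime := a₀.isPrime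
  haveI : IsDomain (A ⧸ a₀.asIdeal) := Ideal.Quotient.isDomain _
  obtain ⟨q, hq⟩ : ∃ q : A →+* A ⧸ a₀.asIdeal, q = Ideal.Quotient.mk a₀.asIdeal := ⟨_, rfl⟩
  have hbij : Function.Bijective (q.comp (algebraMap k A)) := by
    constructor
    · exact RingHom.injective _
    · intro y
      obtain ⟨b, rfl⟩ := Ideal.Quotient.mk_surjective y
      obtain ⟨c, hc⟩ := exists_sub_mem hA a₀.asIdeal b
      refine ⟨c, ?_⟩
      rw [hq]
      exact (Ideal.Quotient.eq.mpr hc).symm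
  obtain ⟨σ, hσ⟩ : ∃ σ : Spec (CommRingCat.of (A ⧸ a₀.asIdeal)) ⟶ Spec (CommRingCat.of A),
      σ = Spec.map (CommRingCat.ofHom q) := ⟨_, rfl⟩
  have hcomp : σ ≫ a = Spec.map (CommRingCat.ofHom (q.comp (algebraMap k A))) := by
    rw [CommRingCat.ofHom_comp, Spec.map_comp, hσ, ha]
  haveI : IsIso (CommRingCat.ofHom (q.comp (algebraMap k A))) :=
    (ConcreteCategory.isIso_iff_bijective _).mpr hbij
  haveI : IsIso (σ ≫ a) := by
    rw [hcomp]
    infer_instance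
  have hpb : IsPullback (pullback.snd σ (pullback.fst a f) ≫ pullback.snd a f)
      (pullback.fst σ (pullback.fst a f)) f (σ ≫ a) :=
    (IsPullback.of_hasPullback σ (pullback.fst a f)).flip.paste_horiz
      (IsPullback.of_hasPullback a f).flip
  haveI : IsIso (pullback.snd σ (pullback.fst a f) ≫ pullback.snd a f) :=
    hpb.isIso_fst_of_isIso
  have hr : Set.range (pullback.snd σ (pullback.fst a f)) =
      (pullback.fst a f) ⁻¹' Set.range σ :=
    Scheme.Pullback.range_snd σ (pullback.fst a f)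
  have hmem : pullback.fst a f z ∈ Set.range σ := by
    refine ⟨(⟨⊥, Ideal.bot_prime⟩ : PrimeSpectrum (A ⧸ a₀.asIdeal)), ?_⟩
    rw [← ha₀, hσ]
    show PrimeSpectrum.comap q ⟨⊥, Ideal.bot_prime⟩ = a₀
    apply PrimeSpectrum.ext
    show Ideal.comap q ⊥ = a₀.asIdeal
    rw [← RingHom.ker_eq_comap_bot, hq, Ideal.mk_ker]
  obtain ⟨w, hw⟩ : z ∈ Set.range (pullback.snd σ (pullback.fst a f)) := by
    rw [hr]
    exact hmem
  obtain ⟨w', hw'⟩ : z' ∈ Set.range (pullback.snd σ (pullback.fst a f)) := by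
    rw [hr]
    show pullback.fst a f z' ∈ Set.range σ
    rw [← h1]
    exact hmem
  have hww : (pullback.snd σ (pullback.fst a f) ≫ pullback.snd a f) w =
      (pullback.snd σ (pullback.fst a f) ≫ pullback.snd a f) w' := by
    rw [Scheme.Hom.comp_apply, Scheme.Hom.comp_apply, hw, hw']
    exact h2
  have hweq : w = w' :=
    (pullback.snd σ (pullback.fst a f) ≫ pullback.snd a f).homeomorph.injective hww
  rw [← hw, ← hw', hweq]

/-- rectangles form a basis: the local statement behind openness. -/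
theorem rect
    (hA : ∀ s : Finset A, ∃ (B : Subalgebra k A) (n : ℕ), (↑s : Set A) ⊆ (B : Set A) ∧
      Nonempty (B ≃ₐ[k] (Fin n → k)))
    (X : Scheme.{u}) (f : X ⟶ Spec (CommRingCat.of k))
    (W : Set ↑(pullback (Spec.map (CommRingCat.ofHom (algebraMap k A))) f)) (hW : IsOpen W)
    (z : ↑(pullback (Spec.map (CommRingCat.ofHom (algebraMap k A))) f)) (hz : z ∈ W) :
    ∃ (V₁ : Set ↑(Spec (CommRingCat.of A))) (V₂ : Set ↑X), IsOpen V₁ ∧ IsOpen V₂ ∧
      pullback.fst (Spec.map (CommRingCat.ofHom (algebraMap k A))) f z ∈ V₁ ∧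
      pullback.snd (Spec.map (CommRingCat.ofHom (algebraMap k A))) f z ∈ V₂ ∧
      ∀ z' : ↑(pullback (Spec.map (CommRingCat.ofHom (algebraMap k A))) f),
        pullback.fst (Spec.map (CommRingCat.ofHom (algebraMap k A))) f z' ∈ V₁ →
        pullback.snd (Spec.map (CommRingCat.ofHom (algebraMap k A))) f z' ∈ V₂ → z' ∈ W := by
  obtain ⟨U, hU, hxU, -⟩ := exists_isAffineOpen_mem_and_subset
    (x := pullback.snd (Spec.map (CommRingCat.ofHom (algebraMap k A))) f z) (U := ⊤)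
    (TopologicalSpace.Opens.mem_top _)
  obtain ⟨φ, hφ⟩ : ∃ φ : CommRingCat.of k ⟶ Γ(X, U), Spec.map φ = hU.fromSpec ≫ f :=
    ⟨Spec.preimage _, Spec.map_preimage _⟩
  letI : Algebra k Γ(X, U) := φ.hom.toAlgebra
  have hb : Spec.map (CommRingCat.ofHom (algebraMap k Γ(X, U))) = hU.fromSpec ≫ f := hφ
  have e₁ : Spec.map (CommRingCat.ofHom (algebraMap k A)) ≫ 𝟙 (Spec (CommRingCat.of k)) =
      𝟙 (Spec (CommRingCat.of A)) ≫ Spec.map (CommRingCat.ofHom (algebraMap k A)) := by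
    rw [Category.comp_id, Category.id_comp]
  have e₂ : Spec.map (CommRingCat.ofHom (algebraMap k Γ(X, U))) ≫ 𝟙 (Spec (CommRingCat.of k)) =
      hU.fromSpec ≫ f := by
    rw [Category.comp_id, hb]
  obtain ⟨m, hm1, hm2, hmr⟩ : ∃ m : pullback (Spec.map (CommRingCat.ofHom (algebraMap k A)))
      (Spec.map (CommRingCat.ofHom (algebraMap k Γ(X, U)))) ⟶
      pullback (Spec.map (CommRingCat.ofHom (algebraMap k A))) f,
      m ≫ pullback.fst (Spec.map (CommRingCat.ofHom (algebraMap k A))) f =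
        pullback.fst (Spec.map (CommRingCat.ofHom (algebraMap k A)))
          (Spec.map (CommRingCat.ofHom (algebraMap k Γ(X, U)))) ∧
      m ≫ pullback.snd (Spec.map (CommRingCat.ofHom (algebraMap k A))) f =
        pullback.snd (Spec.map (CommRingCat.ofHom (algebraMap k A)))
          (Spec.map (CommRingCat.ofHom (algebraMap k Γ(X, U)))) ≫ hU.fromSpec ∧
      Set.range m =
        pullback.fst (Spec.map (CommRingCat.ofHom (algebraMap k A))) f ⁻¹'
          Set.range (𝟙 (Spec (CommRingCat.of A))) ∩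
        pullback.snd (Spec.map (CommRingCat.ofHom (algebraMap k A))) f ⁻¹'
          Set.range hU.fromSpec :=
    ⟨pullback.map _ _ _ _ (𝟙 _) hU.fromSpec (𝟙 _) e₁ e₂,
      (pullback.lift_fst _ _ _).trans (Category.comp_id _), pullback.lift_snd _ _ _,
      Scheme.Pullback.range_map (f := Spec.map (CommRingCat.ofHom (algebraMap k A)))
        (g := Spec.map (CommRingCat.ofHom (algebraMap k Γ(X, U))))
        (Spec.map (CommRingCat.ofHom (algebraMap k A))) f (𝟙 _) hU.fromSpec (𝟙 _) e₁ e₂⟩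
  obtain ⟨ψ, hψ1, hψ2, hψr⟩ : ∃ ψ : Spec (CommRingCat.of (A ⊗[k] Γ(X, U))) ⟶
      pullback (Spec.map (CommRingCat.ofHom (algebraMap k A))) f,
      ψ ≫ pullback.fst (Spec.map (CommRingCat.ofHom (algebraMap k A))) f =
        Spec.map (CommRingCat.ofHom Algebra.TensorProduct.includeLeftRingHom) ∧
      ψ ≫ pullback.snd (Spec.map (CommRingCat.ofHom (algebraMap k A))) f =
        Spec.map (CommRingCat.ofHom (R := Γ(X, U)) (S := A ⊗[k] Γ(X, U))
          (RingHomClass.toRingHom Algebra.TensorProduct.includeRight)) ≫ hU.fromSpec ∧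
      ∀ z' : ↑(pullback (Spec.map (CommRingCat.ofHom (algebraMap k A))) f),
        pullback.snd (Spec.map (CommRingCat.ofHom (algebraMap k A))) f z' ∈ U →
          z' ∈ Set.range ψ := by
    refine ⟨(pullbackSpecIso k A Γ(X, U)).inv ≫ m, ?_, ?_, ?_⟩
    · rw [Category.assoc, hm1]
      exact pullbackSpecIso_inv_fst k A Γ(X, U)
    · rw [Category.assoc, hm2, ← Category.assoc, pullbackSpecIso_inv_snd]
    · intro z' hz'
      have hz'm : z' ∈ Set.range m := by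
        rw [hmr]
        refine ⟨⟨_, rfl⟩, ?_⟩
        show pullback.snd (Spec.map (CommRingCat.ofHom (algebraMap k A))) f z' ∈
          Set.range hU.fromSpec
        rw [hU.range_fromSpec]
        exact hz'
      obtain ⟨y, rfl⟩ := hz'm
      refine ⟨(pullbackSpecIso k A Γ(X, U)).hom y, ?_⟩
      rw [← Scheme.Hom.comp_apply, Iso.hom_inv_id_assoc]
  have hπ1 : ∀ 𝔔' : ↥(Spec (CommRingCat.of (A ⊗[k] Γ(X, U)))),
      pullback.fst (Spec.map (CommRingCat.ofHom (algebraMap k A))) f (ψ 𝔔') =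
        Spec.map (CommRingCat.ofHom (Algebra.TensorProduct.includeLeftRingHom :
          A →+* A ⊗[k] Γ(X, U))) 𝔔' := by
    intro 𝔔'
    rw [← Scheme.Hom.comp_apply, hψ1]
  have hπ2 : ∀ 𝔔' : ↥(Spec (CommRingCat.of (A ⊗[k] Γ(X, U)))),
      pullback.snd (Spec.map (CommRingCat.ofHom (algebraMap k A))) f (ψ 𝔔') =
        hU.fromSpec (Spec.map (CommRingCat.ofHom (R := Γ(X, U)) (S := A ⊗[k] Γ(X, U))
          (RingHomClass.toRingHom Algebra.TensorProduct.includeRight)) 𝔔') := by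
    intro 𝔔'
    rw [← Scheme.Hom.comp_apply, hψ2, Scheme.Hom.comp_apply]
  obtain ⟨𝔔, h𝔔⟩ := hψr z hxU
  obtain ⟨W', hW'def⟩ : ∃ W' : Set (PrimeSpectrum (A ⊗[k] Γ(X, U))), W' = ψ ⁻¹' W := ⟨_, rfl⟩
  have hW' : IsOpen W' := by
    rw [hW'def]
    exact hW.preimage ψ.continuous
  have h𝔔W : 𝔔 ∈ W' := by
    rw [hW'def]
    show ψ 𝔔 ∈ W
    rw [h𝔔]
    exact hz
  obtain ⟨_, ⟨g, rfl⟩, hg𝔔, hgW⟩ :=
    PrimeSpectrum.isTopologicalBasis_basic_opens.exists_subset_of_mem_open h𝔔W hW'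
  obtain ⟨ε, ρ, hε, hρ, hkey⟩ := key hA (R := Γ(X, U)) 𝔔 g hg𝔔
  refine ⟨(PrimeSpectrum.basicOpen ε : Set (PrimeSpectrum A)),
    hU.fromSpec '' (PrimeSpectrum.basicOpen ρ : Set (PrimeSpectrum Γ(X, U))),
    (PrimeSpectrum.basicOpen ε).isOpen,
    hU.fromSpec.isOpenEmbedding.isOpenMap _ (PrimeSpectrum.basicOpen ρ).isOpen, ?_, ?_, ?_⟩
  · rw [← h𝔔, hπ1]
    exact hε
  · rw [← h𝔔, hπ2]
    exact ⟨_, hρ, rfl⟩
  · intro z' hz1 hz2
    obtain ⟨y, hy, hy2⟩ := hz2
    have hz'U : pullback.snd (Spec.map (CommRingCat.ofHom (algebraMap k A))) f z' ∈ U := by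
      rw [← hy2]
      have hyr : hU.fromSpec y ∈ Set.range hU.fromSpec := ⟨y, rfl⟩
      rw [hU.range_fromSpec] at hyr
      exact hyr
    obtain ⟨𝔔', rfl⟩ := hψr z' hz'U
    rw [hπ1] at hz1
    rw [hπ2] at hy2
    have hy' : y = Spec.map (CommRingCat.ofHom (R := Γ(X, U)) (S := A ⊗[k] Γ(X, U))
          (RingHomClass.toRingHom Algebra.TensorProduct.includeRight)) 𝔔' :=
      hU.fromSpec.isOpenEmbedding.injective hy2
    rw [hy'] at hy
    have hgnot : g ∉ (𝔔' : PrimeSpectrum (A ⊗[k] Γ(X, U))).asIdeal := hkey 𝔔' hz1 hy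
    have : (𝔔' : PrimeSpectrum (A ⊗[k] Γ(X, U))) ∈ W' := hgW hgnot
    rw [hW'def] at this
    exact this

/-- **S7460** -/
theorem main7460
    (hA : ∀ s : Finset A, ∃ (B : Subalgebra k A) (n : ℕ), (↑s : Set A) ⊆ (B : Set A) ∧
      Nonempty (B ≃ₐ[k] (Fin n → k)))
    (X : Scheme.{u}) (f : X ⟶ Spec (CommRingCat.of k)) :
    IsHomeomorph (fun p : ↑(pullback (Spec.map (CommRingCat.ofHom (algebraMap k A))) f) =>
      (pullback.fst (Spec.map (CommRingCat.ofHom (algebraMap k A))) f p,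
        pullback.snd (Spec.map (CommRingCat.ofHom (algebraMap k A))) f p)) := by
  have hsurj : Function.Surjective
      (fun p : ↑(pullback (Spec.map (CommRingCat.ofHom (algebraMap k A))) f) =>
      (pullback.fst (Spec.map (CommRingCat.ofHom (algebraMap k A))) f p,
        pullback.snd (Spec.map (CommRingCat.ofHom (algebraMap k A))) f p)) := by
    rintro ⟨a', x'⟩
    haveI : Subsingleton ↥(Spec (CommRingCat.of k)) :=
      inferInstanceAs (Subsingleton (PrimeSpectrum k))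
    obtain ⟨z, hz1, hz2⟩ := Scheme.Pullback.exists_preimage_pullback
      (f := Spec.map (CommRingCat.ofHom (algebraMap k A))) (g := f) a' x'
      (Subsingleton.elim _ _)
    exact ⟨z, Prod.ext hz1 hz2⟩
  have hinj : Function.Injective
      (fun p : ↑(pullback (Spec.map (CommRingCat.ofHom (algebraMap k A))) f) =>
      (pullback.fst (Spec.map (CommRingCat.ofHom (algebraMap k A))) f p,
        pullback.snd (Spec.map (CommRingCat.ofHom (algebraMap k A))) f p)) := by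
    intro z z' hzz'
    exact inj k A hA X f _ rfl z z' (congrArg Prod.fst hzz') (congrArg Prod.snd hzz')
  refine ⟨?_, ?_, hinj, hsurj⟩
  · exact (pullback.fst (Spec.map (CommRingCat.ofHom (algebraMap k A))) f).continuous.prodMk
      (pullback.snd (Spec.map (CommRingCat.ofHom (algebraMap k A))) f).continuous
  · intro W hW
    rw [isOpen_iff_forall_mem_open]
    rintro ⟨a', x'⟩ ⟨z, hzW, hzeq⟩
    obtain ⟨V₁, V₂, hV₁, hV₂, h1, h2, h3⟩ := rect k A hA X f W hW z hzW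
    refine ⟨V₁ ×ˢ V₂, ?_, hV₁.prod hV₂, ?_⟩
    · rintro ⟨a'', x''⟩ ⟨ha'', hx''⟩
      obtain ⟨z', hz'⟩ := hsurj (a'', x'')
      have hz'1 : pullback.fst (Spec.map (CommRingCat.ofHom (algebraMap k A))) f z' = a'' :=
        congrArg Prod.fst hz'
      have hz'2 : pullback.snd (Spec.map (CommRingCat.ofHom (algebraMap k A))) f z' = x'' :=
        congrArg Prod.snd hz'
      refine ⟨z', h3 z' ?_ ?_, hz'⟩
      · rw [hz'1]
        exact ha''
      · rw [hz'2]
        exact hx''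
    · rw [← hzeq]
      exact ⟨h1, h2⟩

end sch

end Groth.Agent.Lib.ProfProdH4
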