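import Mathlib
import Groth.Prelude
import Groth.Agent.Lib.FLF8_helper8
import Groth.Agent.Lib.Tens29_helper8
import Groth.Agent.Lib.QCohExact_helper9

/-!
# Direct images under finite locally free / affine morphisms (helper8)
* `isFinLocFree_pushforward`: `f_* E` is finite locally free for `f` finite locally free and `E` finite locally free;
* `epi_pushforward_map`: `f_*` of an epimorphism of quasi-coherent modules is an epimorphism, `f` affine.
APPEND-ONLY once landed.
-/

set_option autoImplicit false
universe u

namespace Groth.Agent.Lib.ProjAffH8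

open AlgebraicGeometry CategoryTheory CategoryTheory.Limits TopologicalSpace Opposite
open QcqsLoc QCohExtn FLFH8

section Alg

theorem fp_flat_trans {A B N : Type u} [CommRing A] [CommRing B] [AddCommGroup N]
    [Module A N] [Module B N] (ψ : A →+* B) (hsm : ∀ (a : A) (n : N), a • n = ψ a • n)
    (h1 : ψ.Finite) (h2 : ψ.Flat) (h3 : ψ.FinitePresentation)
    [Module.FinitePresentation B N] [Module.Flat B N] :
    Module.FinitePresentation A N ∧ Module.Flat A N := by
  letI := ψ.toAlgebra
  haveI : IsScalarTower A B N := IsScalarTower.of_algebraMap_smul fun a n => (hsm a n).symm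
  haveI : Module.Finite A B := h1
  haveI : Module.Flat A B := h2
  haveI : Algebra.FinitePresentation A B := h3
  haveI : Module.FinitePresentation A B :=
    Module.FinitePresentation.of_finite_of_finitePresentation A B
  exact ⟨Module.FinitePresentation.trans A N B, Module.Flat.trans A B N⟩

end Alg

noncomputable section

variable {X Y : Scheme.{u}} (f : X ⟶ Y)

/-- The direct image of a finite locally free module under a finite locally free morphism is
finite locally free. -/
theorem isFinLocFree_pushforward (hf : Mor2.IsFinLocFree f) (E : X.Modules)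
    (hE : FlatMod.IsFinLocFree E) :
    FlatMod.IsFinLocFree ((Scheme.Modules.pushforward f).obj E) := by
  obtain ⟨hfin, hflat, hfp⟩ := hf
  haveI := hfin
  haveI := hflat
  haveI := hfp
  haveI : E.IsQuasicoherent := isQuasicoherent_of_finLocFree E hE
  haveI : ((Scheme.Modules.pushforward f).obj E).IsQuasicoherent :=
    QCohCrit.isQuasicoherent_pushforward f E
  apply finLocFree_of_fp_flat_sections
  intro V
  have hU : IsAffineOpen (f ⁻¹ᵁ V.1) := V.2.preimage f
  obtain ⟨e1, e2⟩ := fp_flat_sections_of_finLocFree E hE hU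
  haveI := e1
  haveI := e2
  have h2 : (f.app V.1).hom.Flat := by
    rw [Scheme.Hom.app_eq_appLE]
    exact HasRingHomProperty.appLE (P := @Flat) f inferInstance V ⟨_, hU⟩ le_rfl
  have h3 : (f.app V.1).hom.FinitePresentation := by
    rw [Scheme.Hom.app_eq_appLE]
    exact HasRingHomProperty.appLE (P := @LocallyOfFinitePresentation) f inferInstance V
      ⟨_, hU⟩ le_rfl
  let _ : Module Γ(Y, V.1) Γ(E, f ⁻¹ᵁ V.1) :=
    inferInstanceAs (Module Γ(Y, V.1) Γ((Scheme.Modules.pushforward f).obj E, V.1))
  exact fp_flat_trans (A := Γ(Y, V.1)) (B := Γ(X, f ⁻¹ᵁ V.1))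
    (N := Γ(E, f ⁻¹ᵁ V.1)) (f.app V.1).hom (fun _ _ => rfl)
    (f.finite_app V.1 V.2) h2 h3

/-- For `f` affine, `f_*` of an epimorphism of quasi-coherent modules is an epimorphism. -/
theorem epi_pushforward_map [IsAffineHom f] {E G : X.Modules} [E.IsQuasicoherent]
    [G.IsQuasicoherent] (p : E ⟶ G) [Epi p] : Epi ((Scheme.Modules.pushforward f).map p) := by
  refine TensH8.epi_of_locally_surjective _ (fun U m x hx => ?_)
  obtain ⟨_, ⟨V, hV : IsAffineOpen V, rfl⟩, hxV, hVU⟩ :=
    (Y.isBasis_affineOpens).exists_subset_of_mem_open hx U.2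
  have hVU' : V ≤ U := hVU
  obtain ⟨z, hz⟩ := QCohExact.app_surjective_of_epi p (hV.preimage f)
    (rF ((Scheme.Modules.pushforward f).obj G) hVU' m)
  exact ⟨V, hVU', hxV, z, hz⟩

end

end Groth.Agent.Lib.ProjAffH8
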