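import Mathlib
import Groth.Prelude
import Groth.Agent.Lib.DMod24_helper6
import Groth.Agent.Lib.CyclesFlat_helper2

/-!
# Bounded projective representatives over rings of finite global dimension (helper3)

* `shortExact_opcycles`: `0 → coker d^{j-1} → K^{j+1} → coker d^j → 0` when `K` is exact at `j`.
* `exists_proj_rep`: if every `A`-module has projective dimension `≤ d`, an object of
  `D^{[a, c]}(A)` is represented by a complex of projective modules vanishing outside `[a - d, c]`.
-/

set_option autoImplicit false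
set_option linter.all false
set_option maxHeartbeats 1600000

universe v u
open CategoryTheory CategoryTheory.Limits
attribute [local instance] HasDerivedCategory.standard

namespace Groth.Agent.Lib.ProjAmpH3

section Abelian

variable {𝒜 : Type u} [Category.{v} 𝒜] [Abelian 𝒜]

lemma fromOpcycles_pOpcycles (K : CochainComplex 𝒜 ℤ) (j : ℤ) :
    K.fromOpcycles j (j + 1) ≫ K.pOpcycles (j + 1) = 0 := by
  rw [← cancel_epi (K.pOpcycles j), K.p_fromOpcycles_assoc, comp_zero, K.d_pOpcycles]

/-- `0 → coker d^{j-1} → K^{j+1} → coker d^j → 0` when `K` is exact at `j` -/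
lemma shortExact_opcycles (K : CochainComplex 𝒜 ℤ) (j : ℤ) (hex : K.ExactAt j) :
    (ShortComplex.mk (K.fromOpcycles j (j + 1)) (K.pOpcycles (j + 1))
      (fromOpcycles_pOpcycles K j)).ShortExact := by
  have hprev : (ComplexShape.up ℤ).prev (j + 1) = j := by simp
  have hcoker : IsColimit (CokernelCofork.ofπ (K.pOpcycles (j + 1))
      (fromOpcycles_pOpcycles K j)) :=
    isCokernelOfComp (K.pOpcycles j) (K.d j (j + 1)) (K.opcyclesIsCokernel j (j + 1) hprev)
      (fromOpcycles_pOpcycles K j) (K.p_fromOpcycles j (j + 1))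
  have hmono : Mono (K.fromOpcycles j (j + 1)) := by
    have h1 : (ComplexShape.up ℤ).prev j = j - 1 := by simp
    have h2 : (ComplexShape.up ℤ).next j = j + 1 := by simp
    have hS := (K.exactAt_iff' (j - 1) j (j + 1) h1 h2).1 hex
    have hm : Mono (K.sc' (j - 1) j (j + 1)).fromOpcycles := hS.mono_fromOpcycles
    have h3 := K.opcyclesIsoSc'_inv_fromOpcycles (j - 1) j (j + 1) h1 h2
    have h4 := (Iso.inv_comp_eq (K.opcyclesIsoSc' (j - 1) j (j + 1) h1 h2)).1 h3
    rw [h4]
    exact @mono_comp _ _ _ _ _ _ inferInstance _ hm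
  exact
    { exact := ShortComplex.exact_of_g_is_cokernel _ hcoker
      mono_f := hmono
      epi_g := inferInstanceAs (Epi (K.pOpcycles (j + 1))) }

/-- syzygies: projective dimension of the cokernels of a complex of projectives -/
theorem pdLT_opcycles (K : CochainComplex 𝒜 ℤ) (hK : ∀ i, Projective (K.X i)) (a : ℤ)
    (hex : ∀ i : ℤ, i < a → K.ExactAt i) (d : ℕ)
    (ha : HasProjectiveDimensionLT (K.opcycles a) (d + 1)) :
    ∀ (t m : ℕ), t + m = d → HasProjectiveDimensionLT (K.opcycles (a - t)) (m + 1) := by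
  intro t
  induction t with
  | zero =>
    intro m hm
    have : m = d := by omega
    subst this
    simpa using ha
  | succ t ih =>
    intro m hm
    have h1 := ih (m + 1) (by omega)
    have hS := shortExact_opcycles K (a - ((t + 1 : ℕ) : ℤ)) (hex _ (by push_cast; omega))
    have e : a - ((t + 1 : ℕ) : ℤ) + 1 = a - (t : ℤ) := by push_cast; omega
    haveI := hK (a - ((t + 1 : ℕ) : ℤ) + 1)
    have h2 : HasProjectiveDimensionLT (K.X (a - ((t + 1 : ℕ) : ℤ) + 1)) (m + 1) :=
      hasProjectiveDimensionLT_of_ge _ 1 (m + 1) (by omega)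
    have h3 : HasProjectiveDimensionLT (K.opcycles (a - ((t + 1 : ℕ) : ℤ) + 1)) (m + 1 + 1) := by
      rw [e]; exact h1
    exact hS.hasProjectiveDimensionLT_X₁ (m + 1) h2 h3

end Abelian

section Ring

variable {A : Type u} [CommRing A]

open DRing

/-- bounded projective representatives over a ring of global dimension `≤ d` -/
theorem exists_proj_rep (d : ℕ) (hA : ∀ M : ModuleCat.{u} A, HasProjectiveDimensionLT M (d + 1))
    (K : Dual.D A) (a c : ℤ) [K.IsGE a] [K.IsLE c] :
    ∃ L : Cx A, (∀ i : ℤ, Module.Projective A (L.X i)) ∧ VanishesOutside L (a - d) c ∧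
      Nonempty (toD L ≅ K) := by
  obtain ⟨L₀, hfree, hva, ⟨e⟩⟩ := DMod_helper6.exists_free_resolution K c
  haveI : (DerivedCategory.Q.obj L₀).IsGE a := DerivedCategory.TStructure.t.isGE_of_iso e.symm a
  haveI : L₀.IsGE a := (DerivedCategory.isGE_Q_obj_iff L₀ a).1 inferInstance
  haveI : L₀.IsGE (a - d) := L₀.isGE_of_ge (a - d) a (by omega)
  have hproj : ∀ i, Projective (L₀.X i) := fun i => by
    haveI := hfree i
    exact (IsProjective.iff_projective (R := A) (L₀.X i)).1 inferInstance
  have hsyz := pdLT_opcycles L₀ hproj a (fun i hi => L₀.exactAt_of_isGE a i hi) d (hA _) d 0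
    (by omega)
  have hsyz' : HasProjectiveDimensionLT (L₀.opcycles (a - d)) 1 := hsyz
  haveI : Projective (L₀.opcycles (a - d)) :=
    projective_iff_hasProjectiveDimensionLT_one.2 hsyz'
  have hC : Projective (cokernel (L₀.d (a - d - 1) (a - d))) :=
    Projective.of_iso (CyclesFlat.opcyclesIsoCokernel L₀ (a - d)) inferInstance
  have hterms := CyclesFlat.truncGE_mem (Fl := fun M : ModuleCat.{u} A => Projective M)
    (fun Z hZ => hZ.projective) (fun e h => Projective.of_iso e h) L₀ hproj (a - d) hC
  refine ⟨L₀.truncGE (a - d), fun i => ?_, ?_, ⟨?_⟩⟩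
  · exact (IsProjective.iff_projective (R := A) ((L₀.truncGE (a - d)).X i)).2 (hterms i)
  · rintro i (hi | hi)
    · exact (L₀.truncGE (a - d)).isZero_of_isStrictlyGE (a - d) i hi
    · obtain h | rfl | h := lt_trichotomy i (a - d)
      · exact (L₀.truncGE (a - d)).isZero_of_isStrictlyGE (a - d) i h
      · exact IsZero.of_iso (IsZero.of_epi (L₀.pOpcycles (a - d)) (hva _ hi))
          (L₀.truncGEXIsoOpcycles (a - d))
      · exact IsZero.of_iso (hva i hi) (L₀.truncGEXIso (a - d) i h)
  · exact (asIso (DerivedCategory.Q.map (L₀.πTruncGE (a - d)))).symm ≪≫ e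

end Ring

end Groth.Agent.Lib.ProjAmpH3
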