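import Mathlib

namespace Groth.Agent.Lib.ProjAvoid

open AlgebraicGeometry DirectSum

universe u

lemma avoid {R A ι : Type*} [CommRing R] [CommRing A] [Algebra R A] (W : Submodule R A)
    (p : Ideal R) (m : ℕ) (lam : Fin m → R) (hlam : ∀ j j', j ≠ j' → lam j - lam j' ∉ p)
    (Q : ι → Ideal A) :
    ∀ s : Finset ι, (∀ i ∈ s, ∀ a : R, a ∉ p → ∀ v : A, a • v ∈ Q i → v ∈ Q i) →
      (∀ i ∈ s, ∃ v ∈ W, v ∉ Q i) → s.card ≤ m → ∃ g ∈ W, ∀ i ∈ s, g ∉ Q i := by
  classical
  intro s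
  induction s using Finset.induction_on with
  | empty => intro _ _ _; exact ⟨0, W.zero_mem, fun i hi => by simp at hi⟩
  | insert i₀ s hi₀ ih =>
    intro hb hc hcard
    rw [Finset.card_insert_of_notMem hi₀] at hcard
    obtain ⟨u, huW, hu⟩ := ih (fun i hi => hb i (Finset.mem_insert_of_mem hi))
      (fun i hi => hc i (Finset.mem_insert_of_mem hi)) (by omega)
    by_cases hu0 : u ∈ Q i₀
    · obtain ⟨v, hvW, hv⟩ := hc i₀ (Finset.mem_insert_self _ _)
      by_contra hcon
      push_neg at hcon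
      have hbad : ∀ j : Fin m, ∃ i : s, v + lam j • u ∈ Q i := by
        intro j
        obtain ⟨i, hi, hgi⟩ := hcon (v + lam j • u) (W.add_mem hvW (W.smul_mem _ huW))
        rcases Finset.mem_insert.mp hi with hii | hi'
        · exfalso
          apply hv
          rw [hii] at hgi
          have h1 : lam j • u ∈ Q i₀ := by
            rw [Algebra.smul_def]; exact (Q i₀).mul_mem_left _ hu0
          have h2 := (Q i₀).sub_mem hgi h1
          rwa [add_sub_cancel_right] at h2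
        · exact ⟨⟨i, hi'⟩, hgi⟩
      choose F hF using hbad
      have hlt : Fintype.card s < Fintype.card (Fin m) := by
        rw [Fintype.card_coe, Fintype.card_fin]; omega
      obtain ⟨j, j', hjj', hFjj'⟩ := Fintype.exists_ne_map_eq_of_card_lt F hlt
      have h1 := hF j
      have h2 := hF j'
      rw [hFjj'] at h1
      have h3 : (lam j - lam j') • u ∈ Q (F j') := by
        have h4 := (Q (F j')).sub_mem h1 h2
        have e : (v + lam j • u) - (v + lam j' • u) = (lam j - lam j') • u := by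
          rw [sub_smul]; abel
        rwa [e] at h4
      exact hu (F j') (F j').2
        (hb (F j') (Finset.mem_insert_of_mem (F j').2) _ (hlam j j' hjj') u h3)
    · refine ⟨u, huW, fun i hi => ?_⟩
      rcases Finset.mem_insert.mp hi with hii | hi'
      · rw [hii]; exact hu0
      · exact hu i hi'

lemma exists_scalars {R : Type u} [CommRing R] (p : Ideal R) [p.IsPrime] (d : ℕ)
    (hcard : (d : Cardinal.{u}) ≤ Cardinal.mk p.ResidueField) :
    ∃ lam : Fin d → R, ∀ j j', j ≠ j' → lam j - lam j' ∉ p := by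
  have hD : (d : Cardinal.{u}) ≤ Cardinal.mk (R ⧸ p) := by
    rcases finite_or_infinite (R ⧸ p) with hfin | hinf
    · haveI : p.IsMaximal :=
        Ideal.Quotient.maximal_of_isField p (Finite.isField_of_domain (R ⧸ p))
      have hbij := Ideal.bijective_algebraMap_quotient_residueField p
      rw [Cardinal.mk_congr (Equiv.ofBijective _ hbij)]
      exact hcard
    · exact ((Cardinal.natCast_lt_aleph0 (n := d)).le).trans (Cardinal.aleph0_le_mk _)
  obtain ⟨S, hS⟩ := Cardinal.le_mk_iff_exists_set.mp hD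
  obtain ⟨t, -, ht⟩ := Cardinal.mk_set_eq_nat_iff_finset.mp hS
  let e := t.equivFinOfCardEq ht
  have hsurj : ∀ b : R ⧸ p, ∃ a : R, Ideal.Quotient.mk p a = b := Ideal.Quotient.mk_surjective
  choose ℓ hℓ using hsurj
  refine ⟨fun j => ℓ (e.symm j : R ⧸ p), ?_⟩
  intro j j' hjj' hmem
  apply hjj'
  have h1 : Ideal.Quotient.mk p (ℓ (e.symm j : R ⧸ p)) =
      Ideal.Quotient.mk p (ℓ (e.symm j' : R ⧸ p)) := Ideal.Quotient.eq.mpr hmem
  rw [hℓ, hℓ] at h1
  exact e.symm.injective (Subtype.ext h1)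

variable {R A : Type u} [CommRing R] [CommRing A] [Algebra R A] (𝒜 : ℕ → Submodule R A)
  [GradedAlgebra 𝒜]

lemma exists_deg_zero_sub_mem (T : Set A) (I : Ideal A) (hI : ∀ t ∈ T, t ∈ I)
    (c : A) (hc : c ∈ Algebra.adjoin R T) : ∃ r ∈ 𝒜 0, c - r ∈ I := by
  refine Algebra.adjoin_induction (p := fun c _ => ∃ r ∈ 𝒜 0, c - r ∈ I) ?_ ?_ ?_ ?_ hc
  · intro x hx
    exact ⟨0, zero_mem _, by rw [sub_zero]; exact hI x hx⟩
  · intro r
    exact ⟨algebraMap R A r, SetLike.algebraMap_mem_graded 𝒜 r, by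
      rw [sub_self]; exact I.zero_mem⟩
  · rintro x y _ _ ⟨r1, h1, h1'⟩ ⟨r2, h2, h2'⟩
    refine ⟨r1 + r2, add_mem h1 h2, ?_⟩
    have : x + y - (r1 + r2) = (x - r1) + (y - r2) := by ring
    rw [this]; exact I.add_mem h1' h2'
  · rintro x y _ _ ⟨r1, h1, h1'⟩ ⟨r2, h2, h2'⟩
    refine ⟨r1 * r2, ?_, ?_⟩
    · have := SetLike.mul_mem_graded h1 h2
      simpa using this
    · have : x * y - r1 * r2 = (x - r1) * y + r1 * (y - r2) := by ring
      rw [this]; exact I.add_mem (I.mul_mem_right _ h1') (I.mul_mem_left _ h2')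

lemma exists_not_mem (hgen : Algebra.adjoin R (𝒜 1 : Set A) = ⊤) (x : Proj 𝒜) :
    ∃ v ∈ 𝒜 1, v ∉ x.asHomogeneousIdeal.toIdeal := by
  by_contra hcon
  push_neg at hcon
  apply x.not_irrelevant_le
  rw [HomogeneousIdeal.irrelevant_le]
  intro n hn b hb
  have hb' : b ∈ 𝒜 n := hb
  obtain ⟨r, hr, hbr⟩ := exists_deg_zero_sub_mem 𝒜 (𝒜 1 : Set A) x.asHomogeneousIdeal.toIdeal
    (fun t ht => hcon t ht) b (by rw [hgen]; trivial)
  have h1 := x.asHomogeneousIdeal.isHomogeneous n hbr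
  have h2 : ((decompose 𝒜 (b - r) n : 𝒜 n) : A) = b := by
    rw [decompose_sub, DirectSum.sub_apply, Submodule.coe_sub, decompose_of_mem_same 𝒜 hb',
      decompose_of_mem_ne 𝒜 hr (Nat.pos_iff_ne_zero.mp hn).symm, sub_zero]
  rw [h2] at h1
  exact h1

theorem main (hgen : Algebra.adjoin R (𝒜 1 : Set A) = ⊤) (hfg : (𝒜 1).FG)
    (p : Ideal R) [p.IsPrime] {d : ℕ} (x : Fin d → Proj 𝒜)
    (hx : ∀ i, ((x i).asHomogeneousIdeal.toIdeal).comap (algebraMap R A) = p)
    (hcard : (d : Cardinal) ≤ Cardinal.mk p.ResidueField) :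
    ∃ g ∈ 𝒜 1, ∀ i, x i ∈ Proj.basicOpen 𝒜 g := by
  obtain ⟨lam, hlam⟩ := exists_scalars p d hcard
  obtain ⟨g, hgW, hg⟩ := avoid (𝒜 1) p d lam hlam
    (fun i => (x i).asHomogeneousIdeal.toIdeal) Finset.univ
    (fun i _ a ha v hav => by
      have hprime : ((x i).asHomogeneousIdeal.toIdeal).IsPrime := (x i).isPrime
      have hav' : algebraMap R A a * v ∈ (x i).asHomogeneousIdeal.toIdeal := by
        rw [← Algebra.smul_def]; exact hav
      rcases hprime.mem_or_mem hav' with h1 | h1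
      · exfalso
        apply ha
        rw [← hx i]; exact Ideal.mem_comap.mpr h1
      · exact h1)
    (fun i _ => exists_not_mem 𝒜 hgen (x i))
    (by rw [Finset.card_univ, Fintype.card_fin])
  refine ⟨g, hgW, fun i => ?_⟩
  rw [Proj.mem_basicOpen]
  exact hg i (Finset.mem_univ i)

end Groth.Agent.Lib.ProjAvoid
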