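import Mathlib

/-! Helper lemmas on `Proj` of a graded ring. -/

universe u

open AlgebraicGeometry CategoryTheory HomogeneousLocalization

namespace Groth.Agent.Lib.ProjBasic_helper3

theorem away_isReduced {A σ : Type*} [CommRing A] [SetLike σ A] [AddSubgroupClass σ A]
    (𝒜 : ℕ → σ) [GradedRing 𝒜]
    (hred : ∀ f ∈ (HomogeneousIdeal.irrelevant 𝒜).toIdeal, IsNilpotent f → f = 0)
    {d : ℕ} (hd : 0 < d) (f : A) (hf : f ∈ 𝒜 d) : IsReduced (Away 𝒜 f) := by
  constructor
  rintro x ⟨k, hk⟩
  apply HomogeneousLocalization.val_injective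
  rw [HomogeneousLocalization.val_zero]
  obtain ⟨⟨a, s⟩, h⟩ := IsLocalization.surj (Submonoid.powers f) x.val
  have hfirr : f ∈ (HomogeneousIdeal.irrelevant 𝒜).toIdeal :=
    HomogeneousIdeal.mem_irrelevant_of_mem 𝒜 hd hf
  have h1 : algebraMap A (Localization.Away f) (a ^ k) = 0 := by
    rw [map_pow, ← h, mul_pow, ← HomogeneousLocalization.val_pow, hk, HomogeneousLocalization.val_zero, zero_mul]
  obtain ⟨⟨_, j, rfl⟩, hj⟩ := (IsLocalization.map_eq_zero_iff (Submonoid.powers f) _ _).mp h1
  have h2 : IsNilpotent (f * a) := by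
    refine ⟨j + k, ?_⟩
    have : (f * a) ^ (j + k) = f ^ k * a ^ j * (f ^ j * a ^ k) := by ring
    rw [this]
    simp only at hj
    rw [hj, mul_zero]
  have h3 : f * a = 0 := hred _ (Ideal.mul_mem_right _ _ hfirr) h2
  have hu : IsUnit (algebraMap A (Localization.Away f) f) :=
    IsLocalization.map_units (M := Submonoid.powers f) _ ⟨f, 1, pow_one f⟩
  have h4 : algebraMap A (Localization.Away f) a = 0 := by
    have := congr_arg (algebraMap A (Localization.Away f)) h3
    rw [map_mul, map_zero] at this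
    exact (hu.mul_right_eq_zero).mp this
  have hs : IsUnit (algebraMap A (Localization.Away f) s) := IsLocalization.map_units _ s
  rw [h4] at h
  exact (hs.mul_left_eq_zero).mp h

theorem proj_isReduced {A σ : Type u} [CommRing A] [SetLike σ A] [AddSubgroupClass σ A]
    (𝒜 : ℕ → σ) [GradedRing 𝒜]
    (hred : ∀ f ∈ (HomogeneousIdeal.irrelevant 𝒜).toIdeal, IsNilpotent f → f = 0) :
    AlgebraicGeometry.IsReduced (Proj 𝒜) := by
  have : ∀ i, AlgebraicGeometry.IsReduced ((Proj.affineOpenCover 𝒜).openCover.X i) := by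
    intro i
    have : _root_.IsReduced (Away 𝒜 (i.2 : A)) := away_isReduced 𝒜 hred i.1.2 _ i.2.2
    change AlgebraicGeometry.IsReduced (Spec (.of (Away 𝒜 (i.2 : A))))
    infer_instance
  exact IsReduced.of_openCover _ (Proj.affineOpenCover 𝒜).openCover

end Groth.Agent.Lib.ProjBasic_helper3
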