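import Groth.Agent.Lib.ComodDual_helper9

/-!
# Comodules over a projective coalgebra: dual-basis expansions and generated subcomodules
-/

set_option autoImplicit false
universe u v w w'
open TensorProduct

namespace Groth.Agent.Lib.ProjComod_helper9

open Groth.Agent.Lib.Comod_helper9 Groth.Agent.Lib.ComodDual_helper9

variable {k : Type u} [CommRing k] {C : Type v} [AddCommGroup C] [Module k C]

/-- dual-basis expansion of an element of `M ⊗ C` for projective `C`. -/
theorem exists_expansion [hC : Module.Projective k C] {M : Type w} [AddCommGroup M] [Module k M]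
    (x : M ⊗[k] C) :
    ∃ (F : Finset C) (φ : C → (C →ₗ[k] k)), x = ∑ c ∈ F, ev M (φ c) x ⊗ₜ[k] c := by
  classical
  obtain ⟨s, hs⟩ := Module.projective_def'.mp hC
  let φ : C → (C →ₗ[k] k) := fun c => Finsupp.lapply c ∘ₗ s
  suffices h : ∃ F : Finset C, (∀ c ∉ F, ev M (φ c) x = 0) ∧ x = ∑ c ∈ F, ev M (φ c) x ⊗ₜ[k] c by
    obtain ⟨F, -, hF⟩ := h
    exact ⟨F, φ, hF⟩
  induction x using TensorProduct.induction_on with
  | zero => exact ⟨∅, by simp, by simp⟩
  | tmul m d =>
    refine ⟨(s d).support, ?_, ?_⟩
    · intro c hc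
      rw [ev_tmul]
      show (s d) c • m = 0
      rw [Finsupp.notMem_support_iff.mp hc, zero_smul]
    · have hd : d = ∑ c ∈ (s d).support, (s d) c • c := by
        have := LinearMap.congr_fun hs d
        simp only [LinearMap.comp_apply, Finsupp.linearCombination_apply, Finsupp.sum, id,
          LinearMap.id_apply] at this
        exact this.symm
      conv_lhs => rw [hd]
      rw [TensorProduct.tmul_sum]
      apply Finset.sum_congr rfl
      intro c _
      rw [ev_tmul, TensorProduct.tmul_smul, TensorProduct.smul_tmul']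
      rfl
  | add x y hx hy =>
    obtain ⟨F, hF0, hF⟩ := hx
    obtain ⟨G, hG0, hG⟩ := hy
    refine ⟨F ∪ G, ?_, ?_⟩
    · intro c hc
      rw [Finset.notMem_union] at hc
      rw [map_add, hF0 c hc.1, hG0 c hc.2, add_zero]
    · simp only [map_add, TensorProduct.add_tmul, Finset.sum_add_distrib]
      congr 1
      · refine hF.trans ?_
        apply Finset.sum_subset Finset.subset_union_left
        intro c _ hc
        rw [hF0 c hc, TensorProduct.zero_tmul]
      · refine hG.trans ?_
        apply Finset.sum_subset Finset.subset_union_right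
        intro c _ hc
        rw [hG0 c hc, TensorProduct.zero_tmul]

/-- functionals separate the points of `M ⊗ C` when `C` is projective. -/
theorem eq_zero_of_forall_ev [Module.Projective k C] {M : Type w} [AddCommGroup M] [Module k M]
    (x : M ⊗[k] C) (h : ∀ φ : C →ₗ[k] k, ev M φ x = 0) : x = 0 := by
  obtain ⟨F, φ, hF⟩ := exists_expansion x
  rw [hF]
  apply Finset.sum_eq_zero
  intro c _
  rw [h, TensorProduct.zero_tmul]

variable [Coalgebra k C] {V : Type w} [AddCommGroup V] [Module k V]

/-- Over a projective coalgebra a submodule stable under all functionals is a subcomodule. -/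
theorem isSubcomod_of_act_mem [Module.Projective k C] [c : HopfRep.Comod k C V] (W : Submodule k V)
    (h : ∀ (φ : C →ₗ[k] k), ∀ w ∈ W, act φ w ∈ W) :
    HopfRep.IsSubcomod (k := k) (A := C) W := by
  intro w hw
  rw [mem_range_subtype_rTensor_iff]
  apply eq_zero_of_forall_ev
  intro φ
  rw [ev_rTensor, Submodule.mkQ_apply, Submodule.Quotient.mk_eq_zero]
  exact h φ w hw

/-- the subcomodule generated by a submodule -/
noncomputable def gen [c : HopfRep.Comod k C V] (M : Submodule k V) : Submodule k V :=
  ⨆ φ : C →ₗ[k] k, M.map (act φ)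

theorem le_gen [c : HopfRep.Comod k C V] (M : Submodule k V) : M ≤ gen (C := C) M := by
  intro m hm
  apply Submodule.mem_iSup_of_mem ((1 : WithConv (C →ₗ[k] k)).ofConv)
  exact ⟨m, hm, act_one m⟩

theorem gen_le [c : HopfRep.Comod k C V] (M W' : Submodule k V)
    (hW' : HopfRep.IsSubcomod (k := k) (A := C) W') (hM : M ≤ W') : gen (C := C) M ≤ W' := by
  apply iSup_le
  intro φ
  rw [Submodule.map_le_iff_le_comap]
  intro m hm
  exact act_mem_of_isSubcomod W' hW' φ (hM hm)

theorem isSubcomod_gen [Module.Projective k C] [c : HopfRep.Comod k C V] (M : Submodule k V) :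
    HopfRep.IsSubcomod (k := k) (A := C) (gen (C := C) M) := by
  apply isSubcomod_of_act_mem
  intro ψ
  show gen (C := C) M ≤ (gen (C := C) M).comap (act ψ)
  apply iSup_le
  intro φ
  rw [Submodule.map_le_iff_le_comap]
  intro m hm
  show act ψ (act φ m) ∈ gen (C := C) M
  have := act_mul (WithConv.toConv ψ) (WithConv.toConv φ) m
  simp only [WithConv.ofConv_toConv] at this
  rw [← this]
  exact Submodule.mem_iSup_of_mem _ ⟨m, hm, rfl⟩

theorem fg_gen [Module.Projective k C] [c : HopfRep.Comod k C V] (M : Submodule k V) (hM : M.FG) :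
    (gen (C := C) M).FG := by
  classical
  obtain ⟨s, rfl⟩ := hM
  choose F φ hF using fun v : V => exists_expansion (c.coact v)
  let G : Finset V := s.biUnion fun v => (F v).image fun d => act (φ v d) v
  refine ⟨G, le_antisymm ?_ ?_⟩
  · rw [Submodule.span_le]
    intro w hw
    rw [Finset.mem_coe, Finset.mem_biUnion] at hw
    obtain ⟨v, hv, hw⟩ := hw
    rw [Finset.mem_image] at hw
    obtain ⟨d, _, rfl⟩ := hw
    exact Submodule.mem_iSup_of_mem _ ⟨v, Submodule.subset_span hv, rfl⟩
  · apply iSup_le
    intro ψ
    rw [Submodule.map_le_iff_le_comap, Submodule.span_le]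
    intro v hv
    show act ψ v ∈ Submodule.span k (G : Set V)
    rw [act_apply, hF v, map_sum]
    apply Submodule.sum_mem
    intro d hd
    rw [ev_tmul]
    apply Submodule.smul_mem
    apply Submodule.subset_span
    rw [Finset.mem_coe, Finset.mem_biUnion]
    exact ⟨v, hv, Finset.mem_image.mpr ⟨d, hd, rfl⟩⟩

end Groth.Agent.Lib.ProjComod_helper9
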