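import Mathlib

namespace Groth.Agent.Lib.ProjCover

open AlgebraicGeometry DirectSum

universe u

variable {R A : Type u} [CommRing R] [CommRing A] [Algebra R A] (𝒜 : ℕ → Submodule R A)
  [GradedAlgebra 𝒜]

lemma exists_deg_zero_sub_mem {s : ℕ} (f : Fin s → A) (I : Ideal A) (hI : ∀ i, f i ∈ I)
    (c : A) (hc : c ∈ Algebra.adjoin R (Set.range f)) : ∃ r ∈ 𝒜 0, c - r ∈ I := by
  refine Algebra.adjoin_induction (p := fun c _ => ∃ r ∈ 𝒜 0, c - r ∈ I) ?_ ?_ ?_ ?_ hc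
  · rintro x ⟨i, rfl⟩
    exact ⟨0, zero_mem _, by rw [sub_zero]; exact hI i⟩
  · intro r
    exact ⟨algebraMap R A r, SetLike.algebraMap_mem_graded 𝒜 r, by
      rw [sub_self]; exact I.zero_mem⟩
  · rintro x y _ _ ⟨r1, h1, h1'⟩ ⟨r2, h2, h2'⟩
    refine ⟨r1 + r2, add_mem h1 h2, ?_⟩
    have : x + y - (r1 + r2) = (x - r1) + (y - r2) := by ring
    rw [this]; exact I.add_mem h1' h2'
  · rintro x y _ _ ⟨r1, h1, h1'⟩ ⟨r2, h2, h2'⟩
    refine ⟨r1 * r2, ?_, ?_⟩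
    · have := SetLike.mul_mem_graded h1 h2
      simpa using this
    · have : x * y - r1 * r2 = (x - r1) * y + r1 * (y - r2) := by ring
      rw [this]; exact I.add_mem (I.mul_mem_right _ h1') (I.mul_mem_left _ h2')

theorem main {s : ℕ} (f : Fin s → A) (deg : Fin s → ℕ) (hdeg : ∀ i, 0 < deg i)
    (hf : ∀ i, f i ∈ 𝒜 (deg i))
    (hgen : Algebra.adjoin R (Set.range f) = ⊤) (a : ℕ) (ha : 0 < a) :
    (⨆ g : 𝒜 (a * Finset.univ.lcm deg), Proj.basicOpen 𝒜 (g : A)) = ⊤ := by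
  rw [eq_top_iff]
  intro x _
  rw [TopologicalSpace.Opens.mem_iSup]
  obtain ⟨i, hi⟩ : ∃ i, f i ∉ x.asHomogeneousIdeal := by
    by_contra hcon
    push_neg at hcon
    apply x.not_irrelevant_le
    rw [HomogeneousIdeal.irrelevant_le]
    intro n hn b hb
    have hb' : b ∈ 𝒜 n := hb
    obtain ⟨r, hr, hbr⟩ := exists_deg_zero_sub_mem 𝒜 f x.asHomogeneousIdeal.toIdeal
      (fun i => hcon i) b (by rw [hgen]; trivial)
    have h1 := x.asHomogeneousIdeal.isHomogeneous n hbr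
    have h2 : ((decompose 𝒜 (b - r) n : 𝒜 n) : A) = b := by
      rw [decompose_sub, DirectSum.sub_apply, Submodule.coe_sub, decompose_of_mem_same 𝒜 hb',
        decompose_of_mem_ne 𝒜 hr (Nat.pos_iff_ne_zero.mp hn).symm, sub_zero]
    rw [h2] at h1
    exact h1
  have hdvd : deg i ∣ a * Finset.univ.lcm deg :=
    Dvd.dvd.mul_left (Finset.dvd_lcm (Finset.mem_univ i)) a
  obtain ⟨m, hm⟩ := hdvd
  have hg : f i ^ m ∈ 𝒜 (a * Finset.univ.lcm deg) := by
    have := SetLike.pow_mem_graded m (hf i)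
    rw [smul_eq_mul, mul_comm, ← hm] at this
    exact this
  refine ⟨⟨f i ^ m, hg⟩, ?_⟩
  rw [Proj.mem_basicOpen]
  intro hmem
  exact hi (x.isPrime.mem_of_pow_mem m hmem)

end Groth.Agent.Lib.ProjCover
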