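import Mathlib
import Groth.Prelude.Def_CohB1
import Groth.Agent.Lib.ProjMap_helper3
import Groth.Agent.Lib.GradedQuot_helper3
import Groth.Agent.Lib.ProjGamma_helper5
import Groth.Agent.Lib.CoprodImm_helper5

/-!
# Linear embeddings of projective spaces and disjoint unions of projective schemes (helper3)

* `linHom g hg`: the graded homomorphism `R[X_0..X_N] → R[X_0..X_n]`, `X_i ↦ g i` (`g i` linear forms).
* `linMap`: the induced closed immersion `P^n_R ⟶ P^N_R` (when `linHom` is surjective), over `Spec R`.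
* `exists_coprod_closedImmersion`: the disjoint union of closed subschemes of `P^n` and `P^m` is a
  closed subscheme of `P^{n+m+1}`.
-/

set_option autoImplicit false
set_option linter.all false
set_option maxHeartbeats 1600000
universe u
open CategoryTheory CategoryTheory.Limits AlgebraicGeometry MvPolynomial

namespace Groth.Agent.Lib.ProjDisjH3
open CohB1

variable {R : Type u} [CommRing R] {N n : ℕ}

/-- The graded homomorphism `X_i ↦ g i`. -/
noncomputable def linHom (g : Fin (N + 1) → MvPolynomial (Fin (n + 1)) R)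
    (hg : ∀ i, (g i).IsHomogeneous 1) : polyGrading N R →+*ᵍ polyGrading n R where
  toRingHom := (MvPolynomial.aeval g).toRingHom
  map_mem {d x} hx := by
    have hx' : x.IsHomogeneous d := hx
    have := hx'.aeval g hg
    rw [one_mul] at this
    exact this

@[simp] theorem linHom_apply (g : Fin (N + 1) → MvPolynomial (Fin (n + 1)) R)
    (hg : ∀ i, (g i).IsHomogeneous 1) (p : MvPolynomial (Fin (N + 1)) R) :
    linHom g hg p = MvPolynomial.aeval g p := rfl

theorem linHom_surjective (g : Fin (N + 1) → MvPolynomial (Fin (n + 1)) R)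
    (hg : ∀ i, (g i).IsHomogeneous 1) (s : Fin (n + 1) → Fin (N + 1))
    (hs : ∀ j, g (s j) = X j) : Function.Surjective (linHom g hg) := by
  intro p
  refine ⟨MvPolynomial.rename s p, ?_⟩
  rw [linHom_apply, MvPolynomial.aeval_rename]
  have : g ∘ s = X := funext hs
  rw [this, MvPolynomial.aeval_X_left]
  rfl

section Map

variable (g : Fin (N + 1) → MvPolynomial (Fin (n + 1)) R) (hg : ∀ i, (g i).IsHomogeneous 1)
  (hsurj : Function.Surjective (linHom g hg))

/-- The linear embedding `P^n_R ⟶ P^N_R`. -/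
noncomputable def linMap : ProjSpace n R ⟶ ProjSpace N R :=
  Proj.map (linHom g hg)
    (Groth.Agent.Lib.GradedQuot_helper3.irrelevant_le_map_of_surjective (linHom g hg) hsurj)

theorem isClosedImmersion_linMap : IsClosedImmersion (linMap g hg hsurj) :=
  Groth.Agent.Lib.ProjMap_helper3.map_isClosedImmersion _ _ _ hsurj _

theorem linMap_preimage_basicOpen (f : MvPolynomial (Fin (N + 1)) R) :
    linMap g hg hsurj ⁻¹ᵁ Proj.basicOpen (polyGrading N R) f =
      Proj.basicOpen (polyGrading n R) (MvPolynomial.aeval g f) := rfl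

theorem linMap_toSpec : linMap g hg hsurj ≫ ProjSpace.toSpec N R = ProjSpace.toSpec n R := by
  have h1 := Groth.Agent.Lib.ProjMap_helper3.map_toSpecZero (polyGrading N R) (polyGrading n R)
    (linHom g hg)
    (Groth.Agent.Lib.GradedQuot_helper3.irrelevant_le_map_of_surjective (linHom g hg) hsurj)
  have h2 : CommRingCat.ofHom (algebraMap R (polyGrading N R 0)) ≫
      CommRingCat.ofHom (linHom g hg).gradedZeroRingHom =
      CommRingCat.ofHom (algebraMap R (polyGrading n R 0)) := by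
    apply CommRingCat.hom_ext
    apply RingHom.ext
    intro r
    apply Subtype.ext
    show MvPolynomial.aeval g (C r) = C r
    rw [MvPolynomial.aeval_C]
    rfl
  show Proj.map (linHom g hg) _ ≫ (Proj.toSpecZero (polyGrading N R) ≫
      Spec.map (CommRingCat.ofHom (algebraMap R (polyGrading N R 0)))) =
    Proj.toSpecZero (polyGrading n R) ≫
      Spec.map (CommRingCat.ofHom (algebraMap R (polyGrading n R 0)))
  rw [← Category.assoc, h1, Category.assoc, ← Spec.map_comp, h2]

end Map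

theorem exists_mem_basicOpen_X (z : ProjSpace N R) :
    ∃ i : Fin (N + 1), z ∈ Proj.basicOpen (polyGrading N R) (X i) := by
  obtain ⟨i, y, hy⟩ := (Groth.Agent.ProjGamma5.cover N R).exists_eq z
  obtain ⟨i', hi'⟩ : ∃ i' : Fin (N + 1), i' = i := ⟨i, rfl⟩
  subst hi'
  refine ⟨i', ?_⟩
  have h1 : z ∈ (Proj.awayι (polyGrading N R) (X i' : MvPolynomial (Fin (N + 1)) R)
      (Groth.Agent.ProjGamma5.X_mem N R i') one_pos).opensRange := ⟨y, hy⟩
  rw [Proj.opensRange_awayι] at h1
  exact h1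

theorem linMap_disjoint {m : ℕ} (g₁ : Fin (N + 1) → MvPolynomial (Fin (n + 1)) R)
    (hg₁ : ∀ i, (g₁ i).IsHomogeneous 1) (hsurj₁ : Function.Surjective (linHom g₁ hg₁))
    (g₂ : Fin (N + 1) → MvPolynomial (Fin (m + 1)) R)
    (hg₂ : ∀ i, (g₂ i).IsHomogeneous 1) (hsurj₂ : Function.Surjective (linHom g₂ hg₂))
    (hdisj : ∀ i, g₁ i = 0 ∨ g₂ i = 0) (p : ProjSpace n R) (q : ProjSpace m R) :
    (linMap g₁ hg₁ hsurj₁).base p ≠ (linMap g₂ hg₂ hsurj₂).base q := by
  intro h
  obtain ⟨i, hi⟩ := exists_mem_basicOpen_X ((linMap g₁ hg₁ hsurj₁).base p)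
  rcases hdisj i with h0 | h0
  · have hp : p ∈ linMap g₁ hg₁ hsurj₁ ⁻¹ᵁ Proj.basicOpen (polyGrading N R) (X i) := hi
    rw [linMap_preimage_basicOpen, MvPolynomial.aeval_X, h0, Proj.basicOpen_zero] at hp
    exact hp
  · rw [h] at hi
    have hq : q ∈ linMap g₂ hg₂ hsurj₂ ⁻¹ᵁ Proj.basicOpen (polyGrading N R) (X i) := hi
    rw [linMap_preimage_basicOpen, MvPolynomial.aeval_X, h0, Proj.basicOpen_zero] at hq
    exact hq

section Main

variable (R) (n m : ℕ)

/-- first block of variables -/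
noncomputable def g₁ : Fin (n + m + 1 + 1) → MvPolynomial (Fin (n + 1)) R := fun i =>
  if h : i.val < n + 1 then X ⟨i.val, h⟩ else 0

/-- second block of variables -/
noncomputable def g₂ : Fin (n + m + 1 + 1) → MvPolynomial (Fin (m + 1)) R := fun i =>
  if h : n + 1 ≤ i.val then X ⟨i.val - (n + 1), by have := i.isLt; omega⟩ else 0

theorem hg₁ (i : Fin (n + m + 1 + 1)) : (g₁ R n m i).IsHomogeneous 1 := by
  unfold g₁
  split_ifs
  · exact isHomogeneous_X _ _
  · exact isHomogeneous_zero _ _ _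

theorem hg₂ (i : Fin (n + m + 1 + 1)) : (g₂ R n m i).IsHomogeneous 1 := by
  unfold g₂
  split_ifs
  · exact isHomogeneous_X _ _
  · exact isHomogeneous_zero _ _ _

theorem hsurj₁ : Function.Surjective (linHom (g₁ R n m) (hg₁ R n m)) := by
  refine linHom_surjective _ _ (fun j => ⟨j.val, by have := j.isLt; omega⟩) (fun j => ?_)
  unfold g₁
  rw [dif_pos (by simpa using j.isLt)]

theorem hsurj₂ : Function.Surjective (linHom (g₂ R n m) (hg₂ R n m)) := by
  refine linHom_surjective _ _ (fun j => ⟨n + 1 + j.val, by have := j.isLt; omega⟩) (fun j => ?_)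
  unfold g₂
  rw [dif_pos (by simp)]
  congr 1
  apply Fin.ext
  simp

theorem hdisj (i : Fin (n + m + 1 + 1)) : g₁ R n m i = 0 ∨ g₂ R n m i = 0 := by
  by_cases h : i.val < n + 1
  · right
    unfold g₂
    rw [dif_neg (by omega)]
  · left
    unfold g₁
    rw [dif_neg h]

variable {R n m}

theorem exists_coprod_closedImmersion {X₁ X₂ : Scheme.{u}}
    (p₁ : X₁ ⟶ Spec (CommRingCat.of R)) (p₂ : X₂ ⟶ Spec (CommRingCat.of R))
    (i₁ : X₁ ⟶ ProjSpace n R) [IsClosedImmersion i₁] (h₁ : i₁ ≫ ProjSpace.toSpec n R = p₁)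
    (i₂ : X₂ ⟶ ProjSpace m R) [IsClosedImmersion i₂] (h₂ : i₂ ≫ ProjSpace.toSpec m R = p₂) :
    ∃ j : X₁ ⨿ X₂ ⟶ ProjSpace (n + m + 1) R, IsClosedImmersion j ∧
      j ≫ ProjSpace.toSpec (n + m + 1) R = coprod.desc p₁ p₂ := by
  haveI := isClosedImmersion_linMap (g₁ R n m) (hg₁ R n m) (hsurj₁ R n m)
  haveI := isClosedImmersion_linMap (g₂ R n m) (hg₂ R n m) (hsurj₂ R n m)
  refine ⟨coprod.desc (i₁ ≫ linMap (g₁ R n m) (hg₁ R n m) (hsurj₁ R n m))
    (i₂ ≫ linMap (g₂ R n m) (hg₂ R n m) (hsurj₂ R n m)), ?_, ?_⟩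
  · refine Groth.Agent.CoprodImm.isClosedImmersion_coprodDesc _ _ (fun x y => ?_)
    rw [Scheme.Hom.comp_base, Scheme.Hom.comp_base]
    exact linMap_disjoint (g₁ R n m) (hg₁ R n m) (hsurj₁ R n m) (g₂ R n m) (hg₂ R n m)
      (hsurj₂ R n m) (hdisj R n m) _ _
  · apply coprod.hom_ext
    · rw [coprod.inl_desc_assoc, coprod.inl_desc, Category.assoc, linMap_toSpec, h₁]
    · rw [coprod.inr_desc_assoc, coprod.inr_desc, Category.assoc, linMap_toSpec, h₂]

end Main

end Groth.Agent.Lib.ProjDisjH3
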