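import Mathlib

/-!
# Projectivity from two quotients `R/I`, `R/J` with `I ∩ J = 0` (lead)
-/

set_option autoImplicit false

open scoped TensorProduct

namespace Groth.Agent.Lib.ProjGlue

universe u

variable {R : Type u} [CommRing R]

lemma coord_mem_of_mem_smul_top (I : Ideal R) {ι : Type u} (x : ι →₀ R)
    (hx : x ∈ (I • ⊤ : Submodule R (ι →₀ R))) (i : ι) : x i ∈ I := by
  refine Submodule.smul_induction_on hx (fun r hr m _ => ?_) (fun a b ha hb => ?_)
  · rw [Finsupp.smul_apply, smul_eq_mul]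
    exact I.mul_mem_right _ hr
  · rw [Finsupp.add_apply]
    exact I.add_mem ha hb

lemma exists_preimage_smul_top (I : Ideal R) {M P : Type u} [AddCommGroup M] [Module R M]
    [AddCommGroup P] [Module R P] (g : M →ₗ[R] P) (hg : Function.Surjective g) (y : P)
    (hy : y ∈ (I • ⊤ : Submodule R P)) : ∃ u ∈ (I • ⊤ : Submodule R M), g u = y := by
  have h : (I • ⊤ : Submodule R P) = Submodule.map g (I • ⊤) := by
    rw [Submodule.map_smul'', Submodule.map_top, LinearMap.range_eq_top.mpr hg]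
  rw [h] at hy
  exact Submodule.mem_map.mp hy

/-- A linear map into `M ⧸ I M` kills `I P`. -/
lemma map_eq_zero_of_mem_smul_top (I : Ideal R) {M P : Type u} [AddCommGroup M] [Module R M]
    [AddCommGroup P] [Module R P] (φ : P →ₗ[R] M ⧸ (I • ⊤ : Submodule R M)) (q : P)
    (hq : q ∈ (I • ⊤ : Submodule R P)) : φ q = 0 := by
  refine Submodule.smul_induction_on hq (fun r hr m _ => ?_) (fun a b ha hb => ?_)
  · obtain ⟨z, hz⟩ := Submodule.Quotient.mk_surjective _ (φ m)
    rw [map_smul, ← hz, ← Submodule.Quotient.mk_smul, Submodule.Quotient.mk_eq_zero]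
    exact Submodule.smul_mem_smul hr Submodule.mem_top
  · rw [map_add, ha, hb, add_zero]

lemma exists_section_mod (I : Ideal R) {M P : Type u} [AddCommGroup M] [Module R M]
    [AddCommGroup P] [Module R P] (g : M →ₗ[R] P) (hg : Function.Surjective g)
    (hproj : Module.Projective (R ⧸ I) ((R ⧸ I) ⊗[R] P)) :
    ∃ s : P →ₗ[R] M ⧸ (I • ⊤ : Submodule R M), ∀ (p : P) (x : M),
      s p = Submodule.Quotient.mk x → g x - p ∈ (I • ⊤ : Submodule R P) := by
  haveI := hproj
  have hsurj : Function.Surjective (g.baseChange (R ⧸ I)) :=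
    LinearMap.lTensor_surjective (R ⧸ I) hg
  obtain ⟨s₀, hs₀⟩ :=
    Module.projective_lifting_property (g.baseChange (R ⧸ I)) LinearMap.id hsurj
  refine ⟨((TensorProduct.quotTensorEquivQuotSMul M I).toLinearMap ∘ₗ
    (s₀.restrictScalars R)) ∘ₗ (TensorProduct.mk R (R ⧸ I) P 1), fun p x hx => ?_⟩
  have hw : s₀ (1 ⊗ₜ[R] p) = 1 ⊗ₜ[R] x := by
    have h1 : (TensorProduct.quotTensorEquivQuotSMul M I) (s₀ (1 ⊗ₜ[R] p)) =
        Submodule.Quotient.mk x := hx
    have h2 := congrArg (TensorProduct.quotTensorEquivQuotSMul M I).symm h1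
    rw [LinearEquiv.symm_apply_apply, TensorProduct.quotTensorEquivQuotSMul_symm_mk] at h2
    exact h2
  have h3 : (g.baseChange (R ⧸ I)) (s₀ (1 ⊗ₜ[R] p)) = 1 ⊗ₜ[R] p :=
    LinearMap.congr_fun hs₀ (1 ⊗ₜ[R] p)
  rw [hw, LinearMap.baseChange_tmul] at h3
  have h4 := congrArg (TensorProduct.quotTensorEquivQuotSMul P I) h3
  rw [TensorProduct.quotTensorEquivQuotSMul_mk_one_tmul,
    TensorProduct.quotTensorEquivQuotSMul_mk_one_tmul] at h4
  exact (Submodule.Quotient.eq _).mp h4

theorem core (I J : Ideal R) {F P : Type u} [AddCommGroup F] [Module R F]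
    [AddCommGroup P] [Module R P]
    (hF : (I • ⊤ : Submodule R F) ⊓ (J • ⊤ : Submodule R F) = ⊥)
    (g : F →ₗ[R] P) (hg : Function.Surjective g)
    (hI : Module.Projective (R ⧸ I) ((R ⧸ I) ⊗[R] P))
    (hJ : Module.Projective (R ⧸ J) ((R ⧸ J) ⊗[R] P)) :
    ∃ s : P →ₗ[R] F, g ∘ₗ s = LinearMap.id := by
  obtain ⟨s₁, h₁⟩ := exists_section_mod I g hg hI
  obtain ⟨F', hF'def⟩ : ∃ F' : Submodule R F,
      F' = (LinearMap.range s₁).comap (I • ⊤ : Submodule R F).mkQ := ⟨_, rfl⟩
  have hF'mem : ∀ x : F, x ∈ F' ↔ ∃ q, s₁ q = Submodule.Quotient.mk x := fun x => by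
    rw [hF'def, Submodule.mem_comap, LinearMap.mem_range]
    rfl
  have hi : ∀ p, ∃ x ∈ F', g x = p := by
    intro p
    obtain ⟨x, hx⟩ := Submodule.Quotient.mk_surjective _ (s₁ p)
    have h3 := h₁ p x hx.symm
    obtain ⟨u, hu, hgu⟩ := exists_preimage_smul_top I g hg _ h3
    refine ⟨x - u, (hF'mem _).mpr ⟨p, ?_⟩, ?_⟩
    · rw [← hx]
      refine (Submodule.Quotient.eq _).mpr ?_
      rw [sub_sub_cancel]
      exact hu
    · rw [map_sub, hgu]
      abel
  have hii : ∀ x ∈ F', g x = 0 → x ∈ (I • ⊤ : Submodule R F) := by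
    intro x hx hgx
    obtain ⟨q, hq⟩ := (hF'mem x).mp hx
    have h3 := h₁ q x hq
    rw [hgx, zero_sub] at h3
    have hq' : q ∈ (I • ⊤ : Submodule R P) := by
      have := Submodule.neg_mem _ h3
      rwa [neg_neg] at this
    have h4 := map_eq_zero_of_mem_smul_top I s₁ q hq'
    rw [hq] at h4
    exact (Submodule.Quotient.mk_eq_zero _).mp h4
  obtain ⟨g', hg'def⟩ : ∃ g' : F' →ₗ[R] P, ∀ x : F', g' x = g x := ⟨g.domRestrict F', fun _ => rfl⟩
  have hg' : Function.Surjective g' := fun p => by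
    obtain ⟨x, hx, hgx⟩ := hi p
    exact ⟨⟨x, hx⟩, (hg'def _).trans hgx⟩
  obtain ⟨s₂, h₂⟩ := exists_section_mod (M := F') J g' hg' hJ
  have hinj : ∀ x : F', Submodule.Quotient.mk (p := (J • ⊤ : Submodule R F')) x = 0 →
      g' x = 0 → x = 0 := by
    intro x hx1 hx2
    have hxJ : x ∈ (J • ⊤ : Submodule R F') := (Submodule.Quotient.mk_eq_zero _).mp hx1
    have hxJF : (x : F) ∈ (J • ⊤ : Submodule R F) := by
      have h5 : F'.subtype x ∈ Submodule.map F'.subtype (J • ⊤) :=
        Submodule.mem_map_of_mem hxJ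
      rw [Submodule.map_smul''] at h5
      exact Submodule.smul_mono le_rfl le_top h5
    have hxIF : (x : F) ∈ (I • ⊤ : Submodule R F) :=
      hii x x.2 ((hg'def x).symm.trans hx2)
    have h8 : (x : F) ∈ (I • ⊤ : Submodule R F) ⊓ (J • ⊤ : Submodule R F) := ⟨hxIF, hxJF⟩
    rw [hF] at h8
    exact Subtype.ext ((Submodule.mem_bot R).mp h8)
  -- for every `p` there is a unique `x ∈ F'` with `[x] = s₂ p` and `g x = p`
  have hex : ∀ p, ∃ x : F', Submodule.Quotient.mk x = s₂ p ∧ g' x = p := by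
    intro p
    obtain ⟨x₀, hx₀⟩ := Submodule.Quotient.mk_surjective _ (s₂ p)
    have h3 := h₂ p x₀ hx₀.symm
    obtain ⟨u, hu, hgu⟩ := exists_preimage_smul_top (M := F') J g' hg' _ h3
    refine ⟨x₀ - u, ?_, ?_⟩
    · rw [← hx₀]
      refine (Submodule.Quotient.eq _).mpr ?_
      have : x₀ - u - x₀ = -u := by abel
      rw [this]
      exact Submodule.neg_mem _ hu
    · rw [map_sub, hgu]
      abel
  choose σ hσ1 hσ2 using hex
  have huniq : ∀ (p : P) (x : F'), Submodule.Quotient.mk x = s₂ p → g' x = p → x = σ p := by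
    intro p x h1 h2
    have h3 : x - σ p = 0 := by
      apply hinj
      · rw [Submodule.Quotient.mk_sub, h1, hσ1, sub_self]
      · rw [map_sub, h2, hσ2, sub_self]
    exact sub_eq_zero.mp h3
  let s : P →ₗ[R] F :=
    { toFun := fun p => (σ p : F)
      map_add' := fun p q => by
        have h := huniq (p + q) (σ p + σ q)
          (by rw [Submodule.Quotient.mk_add, hσ1, hσ1, map_add])
          (by rw [map_add, hσ2, hσ2])
        rw [← h]
        rfl
      map_smul' := fun r p => by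
        have h := huniq (r • p) (r • σ p)
          (by rw [Submodule.Quotient.mk_smul, hσ1, map_smul])
          (by rw [map_smul, hσ2])
        rw [← h]
        rfl }
  refine ⟨s, LinearMap.ext fun p => ?_⟩
  show g (σ p : F) = p
  rw [← hg'def, hσ2]

theorem main (I J : Ideal R) (hIJ : I ⊓ J = ⊥) (P : Type u) [AddCommGroup P] [Module R P]
    (hI : Module.Projective (R ⧸ I) ((R ⧸ I) ⊗[R] P))
    (hJ : Module.Projective (R ⧸ J) ((R ⧸ J) ⊗[R] P)) : Module.Projective R P := by
  let g : (P →₀ R) →ₗ[R] P := Finsupp.linearCombination R id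
  have hg : Function.Surjective g := fun p => ⟨Finsupp.single p 1, by simp [g]⟩
  have hF : (I • ⊤ : Submodule R (P →₀ R)) ⊓ (J • ⊤ : Submodule R (P →₀ R)) = ⊥ := by
    rw [eq_bot_iff]
    intro x hx
    rw [Submodule.mem_bot]
    apply Finsupp.ext
    intro i
    have h6 := coord_mem_of_mem_smul_top I x hx.1 i
    have h7 := coord_mem_of_mem_smul_top J x hx.2 i
    have h8 : x i ∈ I ⊓ J := ⟨h6, h7⟩
    rw [hIJ] at h8
    simpa using h8
  obtain ⟨s, hs⟩ := core I J hF g hg hI hJ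
  exact Module.Projective.of_split s g hs

end Groth.Agent.Lib.ProjGlue
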