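import Mathlib
import Groth.Prelude.Def_CAlg
import Groth.Agent.Lib.GorField_helper9
import Groth.Agent.Lib.DepthDescent_helper5
import Groth.Agent.Lib.LaurentCM_helper1

/-! Proj of a Gorenstein graded ring with homogeneous units of consecutive degrees is Gorenstein:
`A_g` is a Laurent polynomial ring over `A_(g)` when `g = f f'` with `deg f' = deg f + 1`
(helper1). -/

set_option autoImplicit false
set_option maxHeartbeats 400000

namespace Groth.Agent.Lib.ProjGorH1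

open LaurentPolynomial DirectSum HomogeneousLocalization Groth.Agent.GorFlat9

universe u

variable {A : Type u} [CommRing A] (𝒜 : ℕ → AddSubgroup A) [GradedRing 𝒜]

/-- the data: `g = f f'` with `f`, `f'` homogeneous of consecutive degrees -/
structure Data where
  g : A
  f : A
  f' : A
  e : ℕ
  d : ℕ
  hg : g ∈ 𝒜 e
  hf : f ∈ 𝒜 d
  hf' : f' ∈ 𝒜 (d + 1)
  hgf : g = f * f'

variable {𝒜}
variable (D : Data 𝒜)

/-- the localization `A_g` -/
abbrev L : Type u := Localization.Away D.g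

/-- the degree zero part `A_(g)` -/
abbrev C : Type u := Away 𝒜 D.g

/-! ### the coaction -/

/-- the coaction, with values in Laurent polynomials over the localization -/
noncomputable def co : A →+* (L D)[T;T⁻¹] :=
  (DirectSum.toSemiring
    (fun i => ((AddMonoidAlgebra.singleAddHom ((i : ℕ) : ℤ) : L D →+ (L D)[T;T⁻¹]).comp
      ((algebraMap A (L D)).toAddMonoidHom.comp (𝒜 i).subtype)))
    (by
      change AddMonoidAlgebra.single ((0 : ℕ) : ℤ) (algebraMap A (L D) (1 : A)) = 1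
      rw [map_one, Nat.cast_zero]
      rfl)
    (by
      intro i j ai aj
      change AddMonoidAlgebra.single ((i + j : ℕ) : ℤ)
          (algebraMap A (L D) ((ai : A) * (aj : A))) =
        AddMonoidAlgebra.single ((i : ℕ) : ℤ) (algebraMap A (L D) (ai : A)) *
          AddMonoidAlgebra.single ((j : ℕ) : ℤ) (algebraMap A (L D) (aj : A))
      rw [AddMonoidAlgebra.single_mul_single, map_mul, Nat.cast_add])).comp
    (DirectSum.decomposeRingEquiv 𝒜).toRingHom

theorem co_of_mem {i : ℕ} {a : A} (ha : a ∈ 𝒜 i) :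
    co D a = AddMonoidAlgebra.single ((i : ℕ) : ℤ) (algebraMap A (L D) a) := by
  unfold co
  rw [RingHom.comp_apply]
  change DirectSum.toSemiring _ _ _ (DirectSum.decompose 𝒜 a) = _
  rw [DirectSum.decompose_of_mem 𝒜 ha, DirectSum.toSemiring_of]
  rfl

theorem coeff_co (a : A) (i : ℕ) :
    (co D a).coeff ((i : ℕ) : ℤ) = algebraMap A (L D) ((decompose 𝒜 a) i : A) := by
  classical
  induction a using DirectSum.Decomposition.inductionOn 𝒜 with
  | zero => simp
  | @homogeneous j x =>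
    rw [co_of_mem D x.2, AddMonoidAlgebra.coeff_single, Finsupp.single_apply]
    by_cases h : j = i
    · subst h
      rw [if_pos rfl, decompose_of_mem_same 𝒜 x.2]
    · have h' : ¬ ((j : ℤ) = (i : ℤ)) := fun h' => h (by exact_mod_cast h')
      rw [if_neg h', decompose_of_mem_ne 𝒜 x.2 h, map_zero]
  | add x y hx hy =>
    rw [map_add, AddMonoidAlgebra.coeff_add, Finsupp.add_apply, hx, hy, decompose_add,
      DirectSum.add_apply, AddSubgroup.coe_add, map_add]

/-! ### units -/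

/-- the unit `g` -/
noncomputable def Gu : (L D)ˣ :=
  (IsLocalization.Away.algebraMap_isUnit (S := L D) D.g).unit

theorem coe_Gu : ((Gu D : (L D)ˣ) : L D) = algebraMap A (L D) D.g := IsUnit.unit_spec _

theorem isUnit_f : IsUnit (algebraMap A (L D) D.f) := by
  have h : IsUnit (algebraMap A (L D) D.f * algebraMap A (L D) D.f') := by
    rw [← map_mul, ← D.hgf]
    exact IsLocalization.Away.algebraMap_isUnit D.g
  exact isUnit_of_mul_isUnit_left h

theorem isUnit_f' : IsUnit (algebraMap A (L D) D.f') := by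
  have h : IsUnit (algebraMap A (L D) D.f * algebraMap A (L D) D.f') := by
    rw [← map_mul, ← D.hgf]
    exact IsLocalization.Away.algebraMap_isUnit D.g
  exact isUnit_of_mul_isUnit_right h

/-- the unit `f` -/
noncomputable def Fu : (L D)ˣ := (isUnit_f D).unit

/-- the unit `f'` -/
noncomputable def Fu' : (L D)ˣ := (isUnit_f' D).unit

theorem coe_Fu : ((Fu D : (L D)ˣ) : L D) = algebraMap A (L D) D.f := IsUnit.unit_spec _

theorem coe_Fu' : ((Fu' D : (L D)ˣ) : L D) = algebraMap A (L D) D.f' := IsUnit.unit_spec _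

/-- the unit `t = f'/f` of degree one -/
noncomputable def tu : (L D)ˣ := Fu' D * (Fu D)⁻¹

/-! ### the coaction on the localization -/

theorem isUnit_co : IsUnit (co D D.g) := by
  rw [co_of_mem D D.hg]
  refine IsUnit.of_mul_eq_one
    (AddMonoidAlgebra.single (-(D.e : ℤ)) (((Gu D)⁻¹ : (L D)ˣ) : L D)) ?_
  rw [AddMonoidAlgebra.single_mul_single, ← coe_Gu, add_neg_cancel, Units.mul_inv]
  rfl

/-- the coaction of `A_g` -/
noncomputable def Θ : L D →+* (L D)[T;T⁻¹] :=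
  IsLocalization.Away.lift D.g (isUnit_co D)

theorem Θ_algebraMap (a : A) : Θ D (algebraMap A (L D) a) = co D a :=
  IsLocalization.Away.lift_eq _ _ _

/-- homogeneous elements of `A_g` -/
abbrev IsHom (n : ℤ) (z : L D) : Prop := Θ D z = AddMonoidAlgebra.single n z

theorem isHom_algebraMap {i : ℕ} {a : A} (ha : a ∈ 𝒜 i) :
    IsHom D (i : ℤ) (algebraMap A (L D) a) := by
  unfold IsHom
  rw [Θ_algebraMap, co_of_mem D ha]

theorem isHom_one : IsHom D 0 1 := by
  unfold IsHom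
  rw [map_one]
  rfl

theorem isHom_mul {m n : ℤ} {z w : L D} (h1 : IsHom D m z) (h2 : IsHom D n w) :
    IsHom D (m + n) (z * w) := by
  unfold IsHom at *
  rw [map_mul, h1, h2, AddMonoidAlgebra.single_mul_single]

theorem isHom_inv {n : ℤ} (u : (L D)ˣ) (h : IsHom D n (u : L D)) :
    IsHom D (-n) ((u⁻¹ : (L D)ˣ) : L D) := by
  unfold IsHom at *
  have h1 : Θ D ((u⁻¹ : (L D)ˣ) : L D) * Θ D (u : L D) = 1 := by
    rw [← map_mul, Units.inv_mul, map_one]
  have h2 : AddMonoidAlgebra.single n (u : L D) *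
      AddMonoidAlgebra.single (-n) ((u⁻¹ : (L D)ˣ) : L D) = (1 : (L D)[T;T⁻¹]) := by
    rw [AddMonoidAlgebra.single_mul_single, add_neg_cancel, Units.mul_inv]
    rfl
  calc Θ D ((u⁻¹ : (L D)ˣ) : L D)
      = Θ D ((u⁻¹ : (L D)ˣ) : L D) * (AddMonoidAlgebra.single n (u : L D) *
          AddMonoidAlgebra.single (-n) ((u⁻¹ : (L D)ˣ) : L D)) := by rw [h2, mul_one]
    _ = (Θ D ((u⁻¹ : (L D)ˣ) : L D) * Θ D (u : L D)) *
          AddMonoidAlgebra.single (-n) ((u⁻¹ : (L D)ˣ) : L D) := by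
        rw [← h]
        exact (mul_assoc _ _ _).symm
    _ = AddMonoidAlgebra.single (-n) ((u⁻¹ : (L D)ˣ) : L D) := by rw [h1, one_mul]

theorem isHom_pow {n : ℤ} {z : L D} (h : IsHom D n z) (k : ℕ) :
    IsHom D ((k : ℤ) * n) (z ^ k) := by
  induction k with
  | zero =>
    rw [pow_zero, Nat.cast_zero, zero_mul]
    exact isHom_one D
  | succ k ih =>
    rw [pow_succ, Nat.cast_succ, add_mul, one_mul]
    exact isHom_mul D ih h

theorem isHom_zpow {n : ℤ} (u : (L D)ˣ) (h : IsHom D n (u : L D)) (k : ℤ) :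
    IsHom D (k * n) ((u ^ k : (L D)ˣ) : L D) := by
  obtain ⟨m, rfl | rfl⟩ := Int.eq_nat_or_neg k
  · rw [zpow_natCast, Units.val_pow_eq_pow_val]
    exact isHom_pow D h m
  · rw [zpow_neg, zpow_natCast, ← inv_pow, Units.val_pow_eq_pow_val, neg_mul, ← mul_neg]
    exact isHom_pow D (isHom_inv D u h) m

theorem isHom_Gu_inv : IsHom D (-(D.e : ℤ)) (((Gu D)⁻¹ : (L D)ˣ) : L D) :=
  isHom_inv D (Gu D) (by rw [coe_Gu]; exact isHom_algebraMap D D.hg)

theorem isHom_tu : IsHom D 1 ((tu D : (L D)ˣ) : L D) := by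
  have h1 : IsHom D ((D.d + 1 : ℕ) : ℤ) ((Fu' D : (L D)ˣ) : L D) := by
    rw [coe_Fu']
    exact isHom_algebraMap D D.hf'
  have h2 : IsHom D (-(D.d : ℤ)) (((Fu D)⁻¹ : (L D)ˣ) : L D) :=
    isHom_inv D (Fu D) (by rw [coe_Fu]; exact isHom_algebraMap D D.hf)
  have h3 := isHom_mul D h1 h2
  have hdeg : (((D.d + 1 : ℕ) : ℤ)) + (-(D.d : ℤ)) = 1 := by
    push_cast
    ring
  rw [hdeg] at h3
  unfold tu
  rw [Units.val_mul]
  exact h3

/-! ### fractions -/

theorem mk_eq (a : A) (k : ℕ) (h : D.g ^ k ∈ Submonoid.powers D.g) :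
    (Localization.mk a ⟨D.g ^ k, h⟩ : L D) =
      algebraMap A (L D) a * ((((Gu D)⁻¹ ^ k : (L D)ˣ)) : L D) := by
  rw [Localization.mk_eq_mk', IsLocalization.mk'_eq_iff_eq_mul, mul_assoc]
  have h1 : ((((Gu D)⁻¹ ^ k : (L D)ˣ)) : L D) * algebraMap A (L D) (D.g ^ k) = 1 := by
    rw [map_pow, ← coe_Gu, ← Units.val_pow_eq_pow_val, ← Units.val_mul, ← mul_pow,
      inv_mul_cancel, one_pow, Units.val_one]
  rw [h1, mul_one]

theorem eq_of_surj {z : L D} {k : ℕ} {a : A}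
    (h : z * algebraMap A (L D) D.g ^ k = algebraMap A (L D) a) :
    z = algebraMap A (L D) a * ((((Gu D)⁻¹ ^ k : (L D)ˣ)) : L D) := by
  rw [← h, mul_assoc, ← coe_Gu, ← Units.val_pow_eq_pow_val, ← Units.val_mul, ← mul_pow,
    mul_inv_cancel, one_pow, Units.val_one, mul_one]

theorem isHom_Gu_inv_pow (k : ℕ) :
    IsHom D ((k : ℤ) * (-(D.e : ℤ))) ((((Gu D)⁻¹ ^ k : (L D)ˣ)) : L D) := by
  rw [Units.val_pow_eq_pow_val]
  exact isHom_pow D (isHom_Gu_inv D) k

theorem isHom_val (c : C D) : IsHom D 0 c.val := by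
  obtain ⟨k, a, ha, rfl⟩ := Away.mk_surjective 𝒜 D.hg c
  rw [Away.val_mk, mk_eq]
  have h2 := isHom_mul D (isHom_algebraMap D ha) (isHom_Gu_inv_pow D k)
  have hdeg : (((k • D.e : ℕ)) : ℤ) + (k : ℤ) * (-(D.e : ℤ)) = 0 := by
    rw [smul_eq_mul]
    push_cast
    ring
  rw [hdeg] at h2
  exact h2

theorem exists_val_eq_of_isHom_zero {w : L D} (hw : IsHom D 0 w) : ∃ c : C D, c.val = w := by
  obtain ⟨k, a, hka⟩ := IsLocalization.Away.surj D.g w
  have hw1 := eq_of_surj D hka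
  have hΘ : Θ D w = co D a * AddMonoidAlgebra.single ((k : ℤ) * (-(D.e : ℤ)))
      ((((Gu D)⁻¹ ^ k : (L D)ˣ)) : L D) := by
    have h3 : Θ D ((((Gu D)⁻¹ ^ k : (L D)ˣ)) : L D) = _ := isHom_Gu_inv_pow D k
    rw [hw1, map_mul, Θ_algebraMap, h3]
  have h0 : (Θ D w).coeff 0 = w := by
    have hw' : Θ D w = AddMonoidAlgebra.single 0 w := hw
    rw [hw', AddMonoidAlgebra.coeff_single, Finsupp.single_eq_same]
  rw [hΘ, AddMonoidAlgebra.coeff_mul_single_apply] at h0
  have hidx : (0 : ℤ) + -((k : ℤ) * (-(D.e : ℤ))) = ((k • D.e : ℕ) : ℤ) := by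
    rw [smul_eq_mul]
    push_cast
    ring
  rw [hidx, coeff_co] at h0
  refine ⟨Away.mk 𝒜 D.hg k ((decompose 𝒜 a) (k • D.e) : A) (SetLike.coe_mem _), ?_⟩
  rw [Away.val_mk, mk_eq, h0]

/-! ### the Laurent polynomial structure -/

/-- the comparison map `A_(g)[T;T⁻¹] → A_g`, `T ↦ f'/f` -/
noncomputable def Ψ : (C D)[T;T⁻¹] →+* L D :=
  AddMonoidAlgebra.liftNCRingHom (algebraMap (C D) (L D))
    ((Units.coeHom (L D)).comp (zpowersHom (L D)ˣ (tu D)))
    (fun _ _ => Commute.all _ _)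

theorem Ψ_single (n : ℤ) (c : C D) :
    Ψ D (AddMonoidAlgebra.single n c) = c.val * ((tu D ^ n : (L D)ˣ) : L D) := by
  unfold Ψ
  rw [AddMonoidAlgebra.liftNCRingHom_single]
  rfl

theorem isHom_Ψ_single (m : ℤ) (c : C D) :
    IsHom D m (c.val * ((tu D ^ m : (L D)ˣ) : L D)) := by
  have h := isHom_mul D (isHom_val D c) (isHom_zpow D (tu D) (isHom_tu D) m)
  rwa [zero_add, mul_one] at h

theorem coeff_Θ_Ψ (x : (C D)[T;T⁻¹]) (n : ℤ) :
    (Θ D (Ψ D x)).coeff n = (x.coeff n).val * ((tu D ^ n : (L D)ˣ) : L D) := by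
  induction x using LaurentPolynomial.induction_on' with
  | add p q hp hq =>
    rw [map_add, map_add, AddMonoidAlgebra.coeff_add, Finsupp.add_apply, hp, hq,
      AddMonoidAlgebra.coeff_add, Finsupp.add_apply, val_add, add_mul]
  | C_mul_T m c =>
    rw [← single_eq_C_mul_T, Ψ_single]
    have h : Θ D (c.val * ((tu D ^ m : (L D)ˣ) : L D)) = _ := isHom_Ψ_single D m c
    rw [h, AddMonoidAlgebra.coeff_single, AddMonoidAlgebra.coeff_single, Finsupp.single_apply,
      Finsupp.single_apply]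
    by_cases hmn : m = n
    · subst hmn
      rw [if_pos rfl, if_pos rfl]
    · rw [if_neg hmn, if_neg hmn, val_zero, zero_mul]

theorem Ψ_injective : Function.Injective (Ψ D) := by
  rw [injective_iff_map_eq_zero]
  intro x hx
  ext n
  have h := coeff_Θ_Ψ D x n
  rw [hx, map_zero, AddMonoidAlgebra.coeff_zero, Finsupp.zero_apply] at h
  have h2 : (x.coeff n).val = 0 := (Units.mul_left_eq_zero _).1 h.symm
  rw [AddMonoidAlgebra.coeff_zero, Finsupp.zero_apply]
  exact h2.trans val_zero.symm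

theorem exists_of_isHom {n : ℤ} {z : L D} (hz : IsHom D n z) : ∃ x, Ψ D x = z := by
  have hw : IsHom D 0 (z * ((tu D ^ (-n) : (L D)ˣ) : L D)) := by
    have h := isHom_mul D hz (isHom_zpow D (tu D) (isHom_tu D) (-n))
    rwa [mul_one, add_neg_cancel] at h
  obtain ⟨c, hc⟩ := exists_val_eq_of_isHom_zero D hw
  refine ⟨AddMonoidAlgebra.single n c, ?_⟩
  rw [Ψ_single, hc, mul_assoc, ← Units.val_mul, ← zpow_add, neg_add_cancel, zpow_zero,
    Units.val_one, mul_one]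

theorem exists_algebraMap (a : A) : ∃ x, Ψ D x = algebraMap A (L D) a := by
  induction a using DirectSum.Decomposition.inductionOn 𝒜 with
  | zero => exact ⟨0, by rw [map_zero, map_zero]⟩
  | @homogeneous i y => exact exists_of_isHom D (isHom_algebraMap D y.2)
  | add p q hp hq =>
    obtain ⟨x1, h1⟩ := hp
    obtain ⟨x2, h2⟩ := hq
    exact ⟨x1 + x2, by rw [map_add, map_add, h1, h2]⟩

theorem Ψ_surjective : Function.Surjective (Ψ D) := by
  intro z
  obtain ⟨k, a, hka⟩ := IsLocalization.Away.surj D.g z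
  have hz := eq_of_surj D hka
  obtain ⟨x1, h1⟩ := exists_algebraMap D a
  obtain ⟨x2, h2⟩ := exists_of_isHom D (isHom_Gu_inv_pow D k)
  exact ⟨x1 * x2, by rw [map_mul, h1, h2, ← hz]⟩

/-- `A_(g)[T;T⁻¹] ≃ A_g` -/
noncomputable def Ψequiv : (C D)[T;T⁻¹] ≃+* L D :=
  RingEquiv.ofBijective (Ψ D) ⟨Ψ_injective D, Ψ_surjective D⟩

/-! ### the Gorenstein property -/

theorem gor_away [hA : LocCoh.IsGorensteinRing A] : LocCoh.IsGorensteinRing (C D) := by
  haveI : IsNoetherianRing A := hA.toIsNoetherian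
  rcases subsingleton_or_nontrivial (C D) with hs | hn
  · exact { toIsNoetherian := inferInstance
            isGorensteinLocalRing_localization := fun p hp =>
              absurd (Subsingleton.elim _ _) hp.ne_top }
  · have h1 : LocCoh.IsGorensteinRing (L D) :=
      isGorRing_of_isLocalization (Submonoid.powers D.g) (L D)
    have h2 : LocCoh.IsGorensteinRing (C D)[T;T⁻¹] := isGorRing_of_ringEquiv (Ψequiv D).symm h1
    haveI : IsNoetherianRing (C D)[T;T⁻¹] := h2.toIsNoetherian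
    haveI : IsNoetherianRing (C D) :=
      Groth.Agent.DepthLib.isNoetherianRing_of_faithfullyFlat (C D) (C D)[T;T⁻¹]
    haveI := h2
    exact isGorRing_of_faithfullyFlat (C D) (C D)[T;T⁻¹]

/-! ### the stalks of `Proj` -/
section proj

open AlgebraicGeometry Pointwise

theorem gor_stalk (g : A) {e : ℕ} (hg : g ∈ 𝒜 e) (he : 0 < e) (x : Proj 𝒜)
    (hx : x ∈ Proj.basicOpen 𝒜 g) (hC : LocCoh.IsGorensteinRing (Away 𝒜 g)) :
    LocCoh.IsGorensteinLocalRing ((Proj 𝒜).presheaf.stalk x) := by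
  have hU : IsAffineOpen (Proj.basicOpen 𝒜 g) := Proj.isAffineOpen_basicOpen 𝒜 g hg he
  letI : Algebra Γ(Proj 𝒜, Proj.basicOpen 𝒜 g) ((Proj 𝒜).presheaf.stalk x) :=
    (Proj 𝒜).presheaf.algebra_section_stalk ⟨x, hx⟩
  haveI : IsLocalization.AtPrime ((Proj 𝒜).presheaf.stalk x)
      (hU.primeIdealOf ⟨x, hx⟩).asIdeal := hU.isLocalization_stalk ⟨x, hx⟩
  let e1 : Away 𝒜 g ≃+* Γ(Proj 𝒜, Proj.basicOpen 𝒜 g) :=
    (Proj.basicOpenIsoAway 𝒜 g hg he).commRingCatIsoToRingEquiv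
  have hΓ : LocCoh.IsGorensteinRing Γ(Proj 𝒜, Proj.basicOpen 𝒜 g) := isGorRing_of_ringEquiv e1 hC
  have e2 : Localization.AtPrime (hU.primeIdealOf ⟨x, hx⟩).asIdeal
      ≃ₐ[Γ(Proj 𝒜, Proj.basicOpen 𝒜 g)] (Proj 𝒜).presheaf.stalk x :=
    IsLocalization.algEquiv (hU.primeIdealOf ⟨x, hx⟩).asIdeal.primeCompl _ _
  exact (gorenstein_congr e2.toRingEquiv).1 (hΓ.isGorensteinLocalRing_localization _)

theorem exists_component_notMem (I : Ideal A) (u : A) (hu : u ∉ I) :
    ∃ i, (decompose 𝒜 u i : A) ∉ I := by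
  classical
  by_contra h
  push_neg at h
  apply hu
  rw [← DirectSum.sum_support_decompose 𝒜 u]
  exact Ideal.sum_mem _ fun i _ => h i

theorem exists_elements
    (hsharp : ∃ d₀ : ℕ, ∀ d : ℕ, d₀ ≤ d → ∀ n : ℕ, 1 ≤ n →
      𝒜 ((n + 1) * d) = AddSubgroup.closure ((𝒜 d : Set A) * (𝒜 (n * d) : Set A)))
    (x : Proj 𝒜) :
    ∃ (d : ℕ) (f f' : A), f ∈ 𝒜 d ∧ f' ∈ 𝒜 (d + 1) ∧
      f * f' ∉ x.asHomogeneousIdeal.toIdeal := by
  obtain ⟨d₀, H⟩ := hsharp
  haveI hprime : x.asHomogeneousIdeal.toIdeal.IsPrime := x.isPrime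
  obtain ⟨k, h, hk, hh, hhx⟩ : ∃ (k : ℕ) (h : A), 0 < k ∧ h ∈ 𝒜 k ∧
      h ∉ x.asHomogeneousIdeal.toIdeal := by
    obtain ⟨a, ha, hax⟩ := SetLike.not_le_iff_exists.1 x.not_irrelevant_le
    obtain ⟨i, hi⟩ := exists_component_notMem (𝒜 := 𝒜) x.asHomogeneousIdeal.toIdeal a hax
    have hi0 : i ≠ 0 := by
      rintro rfl
      apply hi
      have h0 : (decompose 𝒜 a 0 : A) = 0 := ha
      rw [h0]
      exact Ideal.zero_mem _
    exact ⟨i, decompose 𝒜 a i, Nat.pos_of_ne_zero hi0, SetLike.coe_mem _, hi⟩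
  have key : ∀ d, d₀ ≤ d → 1 ≤ d → ∃ f ∈ 𝒜 d, f ∉ x.asHomogeneousIdeal.toIdeal := by
    intro d hd hd1
    by_contra hcon
    push_neg at hcon
    have h1 : h ^ d ∈ 𝒜 (d • k) := SetLike.pow_mem_graded d hh
    have h2 : ∀ m, 1 ≤ m → ∀ y ∈ 𝒜 (m * d), y ∈ x.asHomogeneousIdeal.toIdeal := by
      intro m hm y hy
      rcases Nat.lt_or_ge m 2 with hlt | hge
      · have hm1 : m = 1 := by omega
        subst hm1
        rw [one_mul] at hy
        exact hcon y hy
      · obtain ⟨n, rfl⟩ : ∃ n, m = n + 1 := ⟨m - 1, by omega⟩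
        rw [H d hd n (by omega)] at hy
        refine (AddSubgroup.closure_le
          (K := x.asHomogeneousIdeal.toIdeal.toAddSubgroup)).2 ?_ hy
        rintro _ ⟨a, ha, b, hb, rfl⟩
        exact Ideal.mul_mem_right _ _ (hcon a ha)
    have h3 : h ^ d ∈ x.asHomogeneousIdeal.toIdeal := by
      refine h2 k hk _ ?_
      rwa [smul_eq_mul, mul_comm] at h1
    exact hhx (hprime.mem_of_pow_mem _ h3)
  obtain ⟨f, hf, hfx⟩ := key (max d₀ 1) (le_max_left _ _) (le_max_right _ _)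
  obtain ⟨f', hf', hfx'⟩ := key (max d₀ 1 + 1)
    (le_trans (le_max_left _ _) (Nat.le_succ _)) (Nat.le_add_left _ _)
  refine ⟨max d₀ 1, f, f', hf, hf', ?_⟩
  intro hmem
  rcases hprime.mem_or_mem hmem with h | h
  · exact hfx h
  · exact hfx' h

theorem main18666 (A : Type u) [CommRing A] (𝒜 : ℕ → AddSubgroup A) [GradedRing 𝒜]
    [LocCoh.IsGorensteinRing A]
    (hsharp : ∃ d₀ : ℕ, ∀ d : ℕ, d₀ ≤ d → ∀ n : ℕ, 1 ≤ n →
      𝒜 ((n + 1) * d) = AddSubgroup.closure ((𝒜 d : Set A) * (𝒜 (n * d) : Set A)))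
    (x : Proj 𝒜) : LocCoh.IsGorensteinLocalRing ((Proj 𝒜).presheaf.stalk x) := by
  obtain ⟨d, f, f', hf, hf', hx⟩ := exists_elements hsharp x
  have hg : f * f' ∈ 𝒜 (d + (d + 1)) := SetLike.GradedMul.mul_mem hf hf'
  let D : Data 𝒜 := ⟨f * f', f, f', d + (d + 1), d, hg, hf, hf', rfl⟩
  exact gor_stalk (f * f') hg (by omega) x hx (gor_away D)

end proj

end Groth.Agent.Lib.ProjGorH1
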