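import Mathlib
import Groth.Prelude

set_option autoImplicit false
set_option linter.style.haveILetI false
set_option linter.unusedVariables false

universe u

open CategoryTheory AlgebraicGeometry TopologicalSpace HomogeneousLocalization

namespace Groth.Agent.Lib.ProjNZDDenseH4

variable {R A : Type u} [CommRing R] [CommRing A] [Algebra R A]
  (𝒜 : ℕ → Submodule R A) [GradedAlgebra 𝒜]

theorem awayMap_injective {m e : ℕ} {f g : A} (hf : f ∈ 𝒜 m) (hg : g ∈ 𝒜 e)
    (hnz : g ∈ nonZeroDivisors A) {x : A} (hx : x = f * g) :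
    Function.Injective (awayMap 𝒜 hg hx) := by
  rw [injective_iff_map_eq_zero]
  intro y hy
  obtain ⟨n, a, ha, rfl⟩ := Away.mk_surjective 𝒜 hf y
  rw [awayMap_mk 𝒜 hg hx n hf a ha] at hy
  have hy' := congrArg HomogeneousLocalization.val hy
  rw [Away.val_mk, HomogeneousLocalization.val_zero, Localization.mk_eq_mk',
    IsLocalization.mk'_eq_zero_iff] at hy'
  obtain ⟨⟨_, k, rfl⟩, hk⟩ := hy'
  have hk' : x ^ k * (a * g ^ n) = 0 := hk
  have h2 : g ^ (k + n) * (f ^ k * a) = 0 := by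
    rw [← hk', hx]
    ring
  have h3 : f ^ k * a = 0 :=
    (mul_left_mem_nonZeroDivisors_eq_zero_iff (pow_mem hnz (k + n))).mp h2
  apply HomogeneousLocalization.val_injective
  rw [Away.val_mk, HomogeneousLocalization.val_zero, Localization.mk_eq_mk',
    IsLocalization.mk'_eq_zero_iff]
  exact ⟨⟨f ^ k, k, rfl⟩, h3⟩

theorem iso_hom_injective {S T : CommRingCat.{u}} (e : S ≅ T) : Function.Injective e.hom.hom := by
  intro a b hab
  have h : ∀ c, e.inv.hom (e.hom.hom c) = c := fun c => by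
    rw [← RingHom.comp_apply, ← CommRingCat.hom_comp, e.hom_inv_id]
    rfl
  rw [← h a, ← h b, hab]

theorem iso_hom_surjective {S T : CommRingCat.{u}} (e : S ≅ T) :
    Function.Surjective e.hom.hom := by
  intro c
  refine ⟨e.inv.hom c, ?_⟩
  rw [← RingHom.comp_apply, ← CommRingCat.hom_comp, e.inv_hom_id]
  rfl

theorem inj_res {f g : A} {m e : ℕ} (hf : f ∈ 𝒜 m) (hm : 0 < m) (hg : g ∈ 𝒜 e) (he : 0 < e)
    (hnz : g ∈ nonZeroDivisors A)
    (W : (Proj 𝒜).Opens) (hW : W = Proj.basicOpen 𝒜 (f * g)) (h : W ≤ Proj.basicOpen 𝒜 f) :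
    Function.Injective ((Proj 𝒜).presheaf.map (homOfLE h).op).hom := by
  subst hW
  have E := Proj.awayMap_awayToSection 𝒜 (f := f) hg (x := f * g) rfl
  have hfg : f * g ∈ 𝒜 (m + e) := SetLike.mul_mem_graded hf hg
  have i1 : Function.Surjective (Proj.awayToSection 𝒜 f).hom := by
    rw [← Proj.basicOpenIsoAway_hom 𝒜 f hf hm]
    exact iso_hom_surjective _
  have i2 : Function.Injective (Proj.awayToSection 𝒜 (f * g)).hom := by
    rw [← Proj.basicOpenIsoAway_hom 𝒜 (f * g) hfg (Nat.add_pos_left hm e)]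
    exact iso_hom_injective _
  rw [injective_iff_map_eq_zero]
  intro s hs
  obtain ⟨t, rfl⟩ := i1 s
  have h1 : (Proj.awayToSection 𝒜 (f * g)).hom (awayMap 𝒜 hg rfl t) =
      ((Proj 𝒜).presheaf.map (homOfLE h).op).hom ((Proj.awayToSection 𝒜 f).hom t) :=
    congrArg (fun φ => φ.hom t) E
  rw [hs, ← map_zero (Proj.awayToSection 𝒜 (f * g)).hom] at h1
  have h2 := i2 h1
  have h3 : t = 0 := by
    have := awayMap_injective 𝒜 hf hg hnz (rfl : f * g = f * g)
    exact (injective_iff_map_eq_zero _).mp this t h2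
  rw [h3, map_zero]

theorem main {d : ℕ} (hd : 0 < d) (g : A) (hg : g ∈ 𝒜 d)
    (hnz : g ∈ nonZeroDivisors A) :
    (Proj.basicOpen 𝒜 g).ι.ker = ⊥ := by
  classical
  haveI : QuasiCompact (Proj.basicOpen 𝒜 g).ι := by
    haveI : IsAffine (Proj.basicOpen 𝒜 g).toScheme := Proj.isAffineOpen_basicOpen 𝒜 g hg hd
    infer_instance
  let U : (Σ i : PNat, 𝒜 i) → (Proj 𝒜).affineOpens := fun i =>
    ⟨Proj.basicOpen 𝒜 (i.2 : A), Proj.isAffineOpen_basicOpen 𝒜 (i.2 : A) i.2.2 i.1.2⟩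
  refine Scheme.IdealSheafData.ext_of_iSup_eq_top U ?_ ?_
  · refine Proj.iSup_basicOpen_eq_top 𝒜 (fun i : (Σ i : PNat, 𝒜 i) => (i.2 : A)) ?_
    intro z hz
    rw [← DirectSum.sum_support_decompose 𝒜 z]
    refine Ideal.sum_mem _ fun c hc => if hc0 : c = 0 then ?_ else
      Ideal.subset_span ⟨⟨⟨c, Nat.pos_iff_ne_zero.mpr hc0⟩, _⟩, rfl⟩
    convert Ideal.zero_mem _
    subst hc0
    exact hz
  · intro i
    rw [Scheme.Hom.ker_apply, Scheme.IdealSheafData.ideal_bot, Pi.bot_apply,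
      ← RingHom.injective_iff_ker_eq_bot]
    have hW : (Proj.basicOpen 𝒜 g).ι ''ᵁ (Proj.basicOpen 𝒜 g).ι ⁻¹ᵁ
        (Proj.basicOpen 𝒜 (i.2 : A)) = Proj.basicOpen 𝒜 ((i.2 : A) * g) := by
      rw [Scheme.Hom.image_preimage_eq_opensRange_inf, Scheme.Opens.opensRange_ι,
        Proj.basicOpen_mul, inf_comm]
    exact inj_res 𝒜 (f := (i.2 : A)) (g := g) i.2.2 i.1.2 hg hd hnz _ hW _

end Groth.Agent.Lib.ProjNZDDenseH4
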