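import Groth.Prelude.Def_Twist2
import Mathlib

/-!
# Global sections of `O(d)` on `Proj` of an integrally closed graded domain (helper5)

Used for S10908: for a Noetherian integrally closed graded domain generated in degree one with
`S_1 ≠ 0`, the map `S_d → Γ(Proj S, O(d))` of the prelude `Twist.globalOf` is bijective.
-/

set_option autoImplicit false
universe u

open DirectSum HomogeneousIdeal

namespace Groth.Agent.ProjNormalH5

variable {R A : Type u} [CommRing R] [CommRing A] [Algebra R A] (𝒜 : ℕ → Submodule R A)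
  [GradedAlgebra 𝒜]

/-- In a graded domain: if `c * t` is homogeneous of degree `e + j` with `t ≠ 0` homogeneous of
degree `j`, then `c` is homogeneous of degree `e`. -/
theorem mem_of_mul_mem [IsDomain A] {c t : A} {e j : ℕ} (ht : t ∈ 𝒜 j) (ht0 : t ≠ 0)
    (h : c * t ∈ 𝒜 (e + j)) : c ∈ 𝒜 e := by
  classical
  have hz : ∀ m, m ≠ e → (decompose 𝒜 c m : A) = 0 := by
    intro m hm
    have h1 : (decompose 𝒜 (c * t) (m + j) : A) = decompose 𝒜 c m * t :=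
      coe_decompose_mul_add_of_right_mem 𝒜 ht
    have h2 : (decompose 𝒜 (c * t) (m + j) : A) = 0 :=
      decompose_of_mem_ne 𝒜 h (by omega)
    rw [h2] at h1
    exact (mul_eq_zero.mp h1.symm).resolve_right ht0
  rw [← sum_support_decompose 𝒜 c]
  refine sum_mem fun m _ => ?_
  by_cases hm : m = e
  · subst hm; exact SetLike.coe_mem _
  · rw [hz m hm]; exact zero_mem _

/-- If `𝒜` is generated in degree one then `𝒜 n ⊆ (𝒜₊)^n`. -/
theorem mem_irrelevant_pow (hgen : ∀ i : ℕ, 𝒜 1 * 𝒜 i = 𝒜 (i + 1)) (n : ℕ) {y : A}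
    (hy : y ∈ 𝒜 n) : y ∈ (HomogeneousIdeal.irrelevant 𝒜).toIdeal ^ n := by
  induction n generalizing y with
  | zero => simp
  | succ n ih =>
    rw [← hgen n] at hy
    refine Submodule.mul_induction_on hy (fun a ha b hb => ?_) (fun a b ha hb => add_mem ha hb)
    rw [pow_succ']
    exact Ideal.mul_mem_mul (HomogeneousIdeal.mem_irrelevant_of_mem 𝒜 Nat.one_pos ha) (ih hb)

/-- The algebraic core: `a₁, t₁` homogeneous of degrees `j₁ + d`, `j₁`, `t₁ ≠ 0`; if for every point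
`x` of `Proj` there is a homogeneous `t ∉ x` with `a₁ * t ∈ (t₁)`, then `a₁ ∈ (t₁)`. -/
theorem exists_mul_eq [IsDomain A] [IsNoetherianRing A]
    (hgen : ∀ i : ℕ, 𝒜 1 * 𝒜 i = 𝒜 (i + 1)) (h1 : 𝒜 1 ≠ ⊥) (hint : IsIntegrallyClosed A)
    {j₁ d : ℕ} {a₁ t₁ : A} (ha₁ : a₁ ∈ 𝒜 (j₁ + d)) (ht₁ : t₁ ∈ 𝒜 j₁) (ht₁0 : t₁ ≠ 0)
    (hloc : ∀ x : ProjectiveSpectrum 𝒜, ∃ t, SetLike.IsHomogeneousElem 𝒜 t ∧
      t ∉ x.asHomogeneousIdeal ∧ ∃ c, c * t₁ = a₁ * t) :
    ∃ a₀, a₀ * t₁ = a₁ := by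
  classical
  obtain ⟨f, hf1, hf0⟩ := Submodule.exists_mem_ne_zero_of_ne_bot h1
  let J : Ideal A :=
    { carrier := {b | ∃ c, c * t₁ = a₁ * b}
      zero_mem' := ⟨0, by simp⟩
      add_mem' := by
        rintro b b' ⟨c, hc⟩ ⟨c', hc'⟩
        exact ⟨c + c', by rw [add_mul, hc, hc', mul_add]⟩
      smul_mem' := by
        rintro r b ⟨c, hc⟩
        exact ⟨r * c, by rw [smul_eq_mul, mul_assoc, hc]; ring⟩ }
  have memJ : ∀ b, b ∈ J ↔ ∃ c, c * t₁ = a₁ * b := fun b => Iff.rfl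
  set J' : Ideal A := Ideal.span {t | SetLike.IsHomogeneousElem 𝒜 t ∧ t ∈ J} with hJ'
  have hJ'hom : J'.IsHomogeneous 𝒜 := Ideal.homogeneous_span 𝒜 _ (fun x hx => hx.1)
  have hJ'J : J' ≤ J := Ideal.span_le.mpr (fun t ht => ht.2)
  have hrad : (HomogeneousIdeal.irrelevant 𝒜).toIdeal ≤ J'.radical := by
    rw [hJ'hom.radical_eq]
    refine le_sInf ?_
    rintro P ⟨hPh, hJP, hPp⟩
    by_contra hnot
    let x : ProjectiveSpectrum 𝒜 := ⟨⟨P, hPh⟩, hPp, hnot⟩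
    obtain ⟨t, hth, htx, c, hc⟩ := hloc x
    exact htx (hJP (Ideal.subset_span ⟨hth, (memJ t).mpr ⟨c, hc⟩⟩))
  obtain ⟨k, hk⟩ := Ideal.exists_pow_le_of_le_radical_of_fg hrad (IsNoetherian.noetherian _)
  set Ik : Ideal A := Ideal.span {y | ∃ n, k ≤ n ∧ y ∈ 𝒜 n} with hIk
  -- multiplication by `a₁ / t₁` preserves `Ik`
  have key : ∀ y ∈ Ik, ∃ c ∈ Ik, c * t₁ = a₁ * y := by
    intro y hy
    refine Submodule.span_induction (p := fun y _ => ∃ c ∈ Ik, c * t₁ = a₁ * y) ?_ ?_ ?_ ?_ hy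
    · rintro y ⟨n, hn, hyn⟩
      have hyJ : y ∈ J :=
        hJ'J (hk (Ideal.pow_le_pow_right hn (mem_irrelevant_pow 𝒜 hgen n hyn)))
      obtain ⟨c, hc⟩ := (memJ y).mp hyJ
      refine ⟨c, Ideal.subset_span ⟨n + d, by omega, ?_⟩, hc⟩
      refine mem_of_mul_mem 𝒜 ht₁ ht₁0 (e := n + d) ?_
      rw [hc]
      have := SetLike.mul_mem_graded ha₁ hyn
      have e : j₁ + d + n = n + d + j₁ := by omega
      rwa [e] at this
    · exact ⟨0, zero_mem _, by simp⟩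
    · rintro y z _ _ ⟨c, hc, hc'⟩ ⟨c', hc2, hc2'⟩
      exact ⟨c + c', add_mem hc hc2, by rw [add_mul, hc', hc2', mul_add]⟩
    · rintro r y _ ⟨c, hc, hc'⟩
      exact ⟨r * c, Ideal.mul_mem_left _ _ hc, by rw [smul_eq_mul, mul_assoc, hc']; ring⟩
  -- integrality
  let K := FractionRing A
  let φ := algebraMap A K
  have hφ : Function.Injective φ := IsFractionRing.injective A K
  have hφt : φ t₁ ≠ 0 := fun h => ht₁0 (hφ (by rw [h, map_zero]))
  let σ : K := φ a₁ / φ t₁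
  let N : Submodule A K := Submodule.map (Algebra.linearMap A K) Ik
  have hN : N ≠ ⊥ := by
    intro hN
    have hfk : f ^ k ∈ Ik := Ideal.subset_span ⟨k, le_rfl, by
      have := SetLike.pow_mem_graded k hf1
      simpa using this⟩
    have : φ (f ^ k) ∈ N := Submodule.mem_map_of_mem hfk
    rw [hN, Submodule.mem_bot] at this
    exact pow_ne_zero k hf0 (hφ (by rw [this, map_zero]))
  have hN' : N.FG := Submodule.FG.map _ (IsNoetherian.noetherian Ik)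
  have hσ : ∀ n ∈ N, σ • n ∈ N := by
    rintro _ ⟨y, hy, rfl⟩
    obtain ⟨c, hc, hc'⟩ := key y hy
    refine ⟨c, hc, ?_⟩
    show φ c = σ * φ y
    have : φ c * φ t₁ = φ a₁ * φ y := by rw [← map_mul, hc', map_mul]
    rw [show σ = φ a₁ / φ t₁ from rfl, div_mul_eq_mul_div, eq_div_iff hφt, this]
  have hint' : IsIntegral A σ := isIntegral_of_smul_mem_submodule N hN hN' σ hσ
  obtain ⟨a₀, ha₀⟩ := (IsIntegrallyClosed.isIntegral_iff (R := A) (K := K)).mp hint'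
  refine ⟨a₀, hφ ?_⟩
  rw [map_mul]
  show φ a₀ * φ t₁ = φ a₁
  rw [show φ a₀ = σ from ha₀, show σ = φ a₁ / φ t₁ from rfl, div_mul_cancel₀ _ hφt]

open Opposite in
/-- `S_d → Γ(Proj S, O(d))` is bijective for a Noetherian integrally closed graded domain generated in
degree one with `S_1 ≠ 0`. -/
theorem globalOf_bijective [IsDomain A] [IsNoetherianRing A]
    (hgen : ∀ i : ℕ, 𝒜 1 * 𝒜 i = 𝒜 (i + 1)) (h1 : 𝒜 1 ≠ ⊥) (hint : IsIntegrallyClosed A) (d : ℕ) :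
    Function.Bijective (fun a : ↥(𝒜 d) => Twist.globalOf 𝒜 a) := by
  classical
  obtain ⟨f, hf1, hf0⟩ := Submodule.exists_mem_ne_zero_of_ne_bot h1
  -- the generic point
  let η : ProjectiveSpectrum 𝒜 :=
    ⟨⟨⊥, Ideal.IsHomogeneous.bot 𝒜⟩, Ideal.isPrime_bot, fun hle => hf0 (by
      have : f ∈ (⊥ : Ideal A) := hle (HomogeneousIdeal.mem_irrelevant_of_mem 𝒜 Nat.one_pos hf1)
      simpa using this)⟩
  have hη0 : ∀ {c : A}, c ∉ η.asHomogeneousIdeal → c ≠ 0 := by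
    intro c hc h0
    exact hc (by rw [h0]; exact zero_mem _)
  have hηle : ∀ x : ProjectiveSpectrum 𝒜, η ≤ x := by
    intro x
    show η.asHomogeneousIdeal ≤ x.asHomogeneousIdeal
    intro c hc
    have : c = 0 := by simpa using (show c ∈ (⊥ : Ideal A) from hc)
    rw [this]; exact zero_mem _
  refine ⟨?_, ?_⟩
  · intro a b hab
    have h := congrArg (fun s : Twist.sectN (𝒜 := 𝒜) (d : ℤ) (op ⊤) =>
      ((s.1 ⟨η, trivial⟩ : Twist.twistAt 𝒜 d η) : Twist.Loc 𝒜 η)) hab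
    have h' := h
    dsimp only [Twist.globalOf] at h'
    rw [Localization.mk_eq_mk_iff, Localization.r_iff_exists] at h'
    obtain ⟨c, hc⟩ := h'
    have hc0 : (c : A) ≠ 0 := hη0 c.2
    have := mul_left_cancel₀ hc0 hc
    simp only [one_mul] at this
    exact Subtype.ext this
  · intro s
    have rep : ∀ x : ProjectiveSpectrum 𝒜, ∃ (i j : ℕ) (a : 𝒜 i) (t : 𝒜 j)
        (hx : t.1 ∉ x.asHomogeneousIdeal) (hη : t.1 ∉ η.asHomogeneousIdeal),
        ((i : ℤ) = j + d ∨ a.1 = 0) ∧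
          (s.1 ⟨x, trivial⟩).1 = Localization.mk a.1 ⟨t.1, hx⟩ ∧
          (s.1 ⟨η, trivial⟩).1 = Localization.mk a.1 ⟨t.1, hη⟩ := by
      intro x
      obtain ⟨V, mV, iV, i, j, a, t, nin, hdeg, w⟩ := s.2 ⟨x, trivial⟩
      have hηV : η ∈ V := by
        have hsp : η ⤳ x := by
          rw [specializes_iff_mem_closure, ← ProjectiveSpectrum.le_iff_mem_closure]
          exact hηle x
        exact hsp.mem_open V.2 mV
      exact ⟨i, j, a, t, nin ⟨x, mV⟩, nin ⟨η, hηV⟩, hdeg, w ⟨x, mV⟩, w ⟨η, hηV⟩⟩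
    obtain ⟨i₁, j₁, a₁, t₁, -, ht₁η, hdeg₁, -, hs₁⟩ := rep η
    have ht₁0 : t₁.1 ≠ 0 := hη0 ht₁η
    -- cross-multiplied comparison with the representation at `η`
    have cross : ∀ (x : ProjectiveSpectrum 𝒜) (j : ℕ) (a : A) (t : 𝒜 j)
        (hη : t.1 ∉ η.asHomogeneousIdeal),
        (s.1 ⟨η, trivial⟩).1 = Localization.mk a ⟨t.1, hη⟩ → a * t₁.1 = a₁.1 * t.1 := by
      intro x j a t hη h
      rw [hs₁, Localization.mk_eq_mk_iff, Localization.r_iff_exists] at h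
      obtain ⟨c, hc⟩ := h
      have hc0 : (c : A) ≠ 0 := hη0 c.2
      have := mul_left_cancel₀ hc0 hc
      simp only at this
      rw [mul_comm a, mul_comm a₁.1, this]
    -- the element `a₀`
    obtain ⟨a₀, ha₀d, ha₀⟩ : ∃ a₀ : A, a₀ ∈ 𝒜 d ∧ a₀ * t₁.1 = a₁.1 := by
      rcases hdeg₁ with hdeg | hzero
      · have hi : i₁ = j₁ + d := by exact_mod_cast hdeg
        have ha₁ : a₁.1 ∈ 𝒜 (j₁ + d) := hi ▸ a₁.2
        obtain ⟨a₀, ha₀⟩ := exists_mul_eq 𝒜 hgen h1 hint ha₁ t₁.2 ht₁0 (by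
          intro x
          obtain ⟨i, j, a, t, hx, hη, -, -, hsη⟩ := rep x
          exact ⟨t.1, ⟨j, t.2⟩, hx, a.1, cross x j a.1 t hη hsη⟩)
        refine ⟨a₀, mem_of_mul_mem 𝒜 t₁.2 ht₁0 (e := d) ?_, ha₀⟩
        rw [ha₀, add_comm]; exact ha₁
      · exact ⟨0, zero_mem _, by rw [hzero, zero_mul]⟩
    refine ⟨⟨a₀, ha₀d⟩, ?_⟩
    refine Subtype.ext (funext fun x => Subtype.ext ?_)
    obtain ⟨x, hx⟩ := x
    obtain ⟨i, j, a, t, hxt, hη, -, hsx, hsη⟩ := rep x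
    have hc := cross x j a.1 t hη hsη
    have hat : a.1 = t.1 * a₀ := by
      have : a.1 * t₁.1 = (t.1 * a₀) * t₁.1 := by rw [hc, ← ha₀]; ring
      exact mul_right_cancel₀ ht₁0 this
    show Localization.mk a₀ _ = (s.1 ⟨x, hx⟩).1
    rw [show (s.1 ⟨x, hx⟩).1 = Localization.mk a.1 ⟨t.1, hxt⟩ from hsx, Localization.mk_eq_mk_iff,
      Localization.r_iff_exists]
    exact ⟨1, by simp [hat]⟩

end Groth.Agent.ProjNormalH5
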