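import Mathlib

/-!
# Homogeneous localizations of a normal graded ring are normal (helper3)

`A_(𝔭)` embeds in `A_𝔭`; an element of `A_𝔭` which is a quotient of two elements of `A_(𝔭)` is in
`A_(𝔭)` (take homogeneous components).  Hence `A_(𝔭)` is an integrally closed domain when `A_𝔭` is,
and the stalks of `Proj A` are integrally closed domains.
-/

set_option autoImplicit false
universe u

namespace Groth.Agent.Lib.ProjNormalStalkH3

open Function

section General

theorem isIntegrallyClosed_of_div {R S : Type u} [CommRing R] [IsDomain R] [CommRing S] [IsDomain S]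
    [IsIntegrallyClosed S] [Algebra R S] (hinj : Injective (algebraMap R S))
    (h : ∀ (a b : R) (c : S), c * algebraMap R S b = algebraMap R S a → ∃ r : R, r * b = a) :
    IsIntegrallyClosed R := by
  have hfa : FaithfulSMul R (FractionRing S) := by
    rw [faithfulSMul_iff_algebraMap_injective, IsScalarTower.algebraMap_eq R S (FractionRing S)]
    exact (FaithfulSMul.algebraMap_injective S (FractionRing S)).comp hinj
  letI : Algebra (FractionRing R) (FractionRing S) :=
    FractionRing.liftAlgebra R (FractionRing S)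
  haveI : IsScalarTower R (FractionRing R) (FractionRing S) :=
    FractionRing.isScalarTower_liftAlgebra R (FractionRing S)
  refine (isIntegrallyClosed_iff (FractionRing R)).2 fun {x} hx => ?_
  obtain ⟨b₁, b₂, hb₂, rfl⟩ := IsFractionRing.div_surjective (A := R) x
  have hb₂0 : b₂ ≠ 0 := nonZeroDivisors.ne_zero hb₂
  have hb₂K : algebraMap R (FractionRing R) b₂ ≠ 0 := by
    rw [Ne, map_eq_zero_iff _ (IsFractionRing.injective _ _)]
    exact hb₂0
  have hb₂L : algebraMap S (FractionRing S) (algebraMap R S b₂) ≠ 0 := by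
    rw [Ne, map_eq_zero_iff _ (IsFractionRing.injective _ _), map_eq_zero_iff _ hinj]
    exact hb₂0
  have hy : IsIntegral S (algebraMap (FractionRing R) (FractionRing S)
      (algebraMap _ _ b₁ / algebraMap _ _ b₂)) :=
    (hx.map (IsScalarTower.toAlgHom R (FractionRing R) (FractionRing S))).tower_top
  obtain ⟨c, hc⟩ := IsIntegrallyClosed.algebraMap_eq_of_integral hy
  have hrel : c * algebraMap R S b₂ = algebraMap R S b₁ := by
    apply IsFractionRing.injective S (FractionRing S)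
    rw [map_mul, hc, map_div₀,
      ← IsScalarTower.algebraMap_apply R (FractionRing R) (FractionRing S),
      ← IsScalarTower.algebraMap_apply R (FractionRing R) (FractionRing S),
      IsScalarTower.algebraMap_apply R S (FractionRing S) b₁,
      IsScalarTower.algebraMap_apply R S (FractionRing S) b₂]
    exact div_mul_cancel₀ _ hb₂L
  obtain ⟨r, hr⟩ := h b₁ b₂ c hrel
  refine ⟨r, ?_⟩
  rw [eq_div_iff hb₂K, ← map_mul, hr]

end General

section Graded

open HomogeneousLocalization DirectSum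

variable {A : Type u} [CommRing A] (𝒜 : ℕ → AddSubgroup A) [GradedRing 𝒜]
  (𝔭 : Ideal A) [𝔭.IsPrime]

theorem exists_component_notMem (u : A) (hu : u ∉ 𝔭) : ∃ i, (decompose 𝒜 u i : A) ∉ 𝔭 := by
  classical
  by_contra h
  push_neg at h
  apply hu
  rw [← DirectSum.sum_support_decompose 𝒜 u]
  exact Ideal.sum_mem _ fun i _ => h i

theorem div_lemma (a b : AtPrime 𝒜 𝔭) (c : Localization.AtPrime 𝔭) (h : c * b.val = a.val) :
    ∃ r : AtPrime 𝒜 𝔭, r * b = a := by
  obtain ⟨⟨α, a₁, a₂, ha₂⟩, rfl⟩ := mk_surjective a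
  obtain ⟨⟨β, b₁, b₂, hb₂⟩, rfl⟩ := mk_surjective b
  obtain ⟨f, s, rfl⟩ := IsLocalization.exists_mk'_eq 𝔭.primeCompl c
  rw [val_mk, val_mk, ← Localization.mk_eq_mk', Localization.mk_mul, Localization.mk_eq_mk_iff,
    Localization.r_iff_exists] at h
  obtain ⟨t, ht⟩ := h
  simp only [Submonoid.coe_mul] at ht
  have huv : (t * (s * b₂) : A) * a₁ = (t * (a₂ * f) : A) * b₁ := by
    linear_combination -ht
  have hu : (t * (s * b₂) : A) ∉ 𝔭 := by
    have : (t * (s * b₂) : A) ∈ 𝔭.primeCompl :=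
      Submonoid.mul_mem _ t.2 (Submonoid.mul_mem _ s.2 hb₂)
    exact this
  obtain ⟨i, hi⟩ := exists_component_notMem 𝒜 𝔭 _ hu
  have hcomp : (decompose 𝒜 ((t * (s * b₂) : A) * a₁) (i + α) : A) =
      decompose 𝒜 (t * (s * b₂) : A) i * a₁ :=
    DirectSum.coe_decompose_mul_add_of_right_mem 𝒜 a₁.2
  by_cases hle : β ≤ i + α
  · have h2 : (decompose 𝒜 ((t * (a₂ * f) : A) * b₁) (i + α) : A) =
        decompose 𝒜 (t * (a₂ * f) : A) (i + α - β) * b₁ :=
      DirectSum.coe_decompose_mul_of_right_mem_of_le 𝒜 b₁.2 hle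
    have hw : (decompose 𝒜 (t * (a₂ * f) : A) (i + α - β) : A) * b₁ =
        (decompose 𝒜 (t * (s * b₂) : A) i : A) * a₁ := by
      rw [← h2, ← hcomp, huv]
    have hmem1 : (decompose 𝒜 (t * (a₂ * f) : A) (i + α - β) : A) * b₂ ∈ 𝒜 (i + α) := by
      have := SetLike.GradedMul.mul_mem (decompose 𝒜 (t * (a₂ * f) : A) (i + α - β)).2 b₂.2
      rwa [Nat.sub_add_cancel hle] at this
    have hmem2 : (decompose 𝒜 (t * (s * b₂) : A) i : A) * a₂ ∈ 𝒜 (i + α) :=
      SetLike.GradedMul.mul_mem (decompose 𝒜 (t * (s * b₂) : A) i).2 a₂.2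
    have hmem3 : (decompose 𝒜 (t * (s * b₂) : A) i : A) * a₂ ∈ 𝔭.primeCompl :=
      Submonoid.mul_mem _ hi ha₂
    refine ⟨mk ⟨i + α, ⟨_, hmem1⟩, ⟨_, hmem2⟩, hmem3⟩, ?_⟩
    rw [ext_iff_val, val_mul, val_mk, val_mk, val_mk, Localization.mk_mul,
      Localization.mk_eq_mk_iff, Localization.r_iff_exists]
    refine ⟨1, ?_⟩
    simp only [Submonoid.coe_mul, Submonoid.coe_one, one_mul]
    linear_combination ((a₂ : A) * b₂) * hw
  · have h2 : (decompose 𝒜 ((t * (a₂ * f) : A) * b₁) (i + α) : A) = 0 :=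
      DirectSum.coe_decompose_mul_of_right_mem_of_not_le 𝒜 b₁.2 hle
    have h0 : (decompose 𝒜 (t * (s * b₂) : A) i : A) * a₁ = 0 := by
      rw [← hcomp, huv, h2]
    refine ⟨0, ?_⟩
    rw [zero_mul, ext_iff_val, val_zero, val_mk, Localization.mk_eq_mk']
    symm
    rw [IsLocalization.mk'_eq_zero_iff]
    exact ⟨⟨_, hi⟩, h0⟩

theorem atPrime_normal [IsDomain (Localization.AtPrime 𝔭)]
    [IsIntegrallyClosed (Localization.AtPrime 𝔭)] :
    IsDomain (AtPrime 𝒜 𝔭) ∧ IsIntegrallyClosed (AtPrime 𝒜 𝔭) := by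
  have hinj : Injective (algebraMap (AtPrime 𝒜 𝔭) (Localization.AtPrime 𝔭)) :=
    val_injective 𝔭.primeCompl
  haveI : IsDomain (AtPrime 𝒜 𝔭) := hinj.isDomain
  refine ⟨inferInstance, isIntegrallyClosed_of_div hinj ?_⟩
  intro a b c h
  exact div_lemma 𝒜 𝔭 a b c h

end Graded

section Proj

open AlgebraicGeometry

theorem main (A : Type u) [CommRing A] (𝒜 : ℕ → AddSubgroup A) [GradedRing 𝒜]
    (hA : ∀ (p : Ideal A) [p.IsPrime], IsDomain (Localization.AtPrime p) ∧
      IsIntegrallyClosed (Localization.AtPrime p))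
    (x : Proj 𝒜) :
    IsDomain ((Proj 𝒜).presheaf.stalk x) ∧ IsIntegrallyClosed ((Proj 𝒜).presheaf.stalk x) := by
  haveI := (hA x.asHomogeneousIdeal.toIdeal).1
  haveI := (hA x.asHomogeneousIdeal.toIdeal).2
  obtain ⟨h1, h2⟩ := atPrime_normal 𝒜 x.asHomogeneousIdeal.toIdeal
  let e : (Proj 𝒜).presheaf.stalk x ≃+*
      HomogeneousLocalization.AtPrime 𝒜 x.asHomogeneousIdeal.toIdeal :=
    (Proj.stalkIso 𝒜 x).commRingCatIsoToRingEquiv
  haveI : IsDomain ((Proj 𝒜).presheaf.stalk x) := e.toMulEquiv.isDomain _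
  exact ⟨inferInstance, IsIntegrallyClosed.of_equiv e.symm⟩

end Proj

end Groth.Agent.Lib.ProjNormalStalkH3
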