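import Mathlib
import Groth.Prelude
import Groth.Agent.Lib.ProjTwAmpleD_helper5
import Groth.Agent.Lib.ProjQLim2_helper5

/-!
# Some `O(D)` is ample on a quasi-compact open subscheme of `Proj` (helper5)

Used for S9817.
-/

set_option autoImplicit false
universe u
open CategoryTheory CategoryTheory.Limits AlgebraicGeometry TopologicalSpace Opposite

namespace Groth.Agent.ProjOpenAmple

open TensH8 GenLocH8 Groth.Agent.ProjTw

section general
variable {X U : Scheme.{u}} (j : U ⟶ X) [IsOpenImmersion j]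

/-- Variant of `TensH8.isAmpleOn_restrict_iff` (←) needing invertibility only on the open
subscheme. -/
theorem isAmpleOn_restrict_of {L : X.Modules} (hL' : PicF.IsInvertible (L.restrict j))
    (V' : U.Opens) (h : IsAmpleOn L (j ''ᵁ V')) : IsAmpleOn (L.restrict j) V' := by
  obtain ⟨hc, h⟩ := h
  refine ⟨(isCompact_image_iff j V').mp hc, fun y hy => ?_⟩
  obtain ⟨n, σ, O, haff, hxO, hOV, hloc⟩ := h (j y) ⟨y, hy, rfl⟩
  obtain ⟨O', hO'V', rfl⟩ := exists_eq_image j hOV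
  have hloc' := (hasLocus_restrict_iff j (Frame.pow L (n + 1)) σ O').mpr hloc
  obtain ⟨σ', hσ'⟩ := hloc'.change_frame hL' ((Frame.pow L (n + 1)).restrict j)
    (Frame.pow (L.restrict j) (n + 1)) _
  refine ⟨n, σ', O', (j.isAffineOpen_iff_of_isOpenImmersion).mp haff, ?_, hO'V', hσ'⟩
  obtain ⟨y', hy', hyy'⟩ := hxO
  have : y' = y := j.isOpenEmbedding.injective hyy'
  exact this ▸ hy'

theorem isAmple_restrict_of {L : X.Modules} (hL' : PicF.IsInvertible (L.restrict j))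
    (h : IsAmpleOn L j.opensRange) : CohB1.IsAmple (L.restrict j) := by
  rw [isAmple_iff_isAmpleOn_top hL']
  apply isAmpleOn_restrict_of j hL'
  rwa [Scheme.Hom.image_top_eq_opensRange]

/-- A local generator on an affine open inside the range restricts to a local generator. -/
theorem exists_gen_restrict {L : X.Modules} {O : X.Opens} (hO : O ≤ j.opensRange)
    (hOaff : IsAffineOpen O) (e : Γ(L, O)) (he : IsGen L O e) (y : U) (hy : j y ∈ O) :
    ∃ W' : U.Opens, IsAffineOpen W' ∧ y ∈ W' ∧ ∃ e' : Γ(L.restrict j, W'),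
      IsGen (L.restrict j) W' e' := by
  rw [← Scheme.Hom.image_top_eq_opensRange] at hO
  obtain ⟨O', -, rfl⟩ := exists_eq_image j hO
  refine ⟨O', (j.isAffineOpen_iff_of_isOpenImmersion).mp hOaff, ?_, e, isGen_restrict j L e he⟩
  obtain ⟨y', hy', hyy'⟩ := hy
  have : y' = y := j.isOpenEmbedding.injective hyy'
  exact this ▸ hy'

end general

section proj
variable {R A : Type u} [CommRing R] [CommRing A] [Algebra R A] (𝒜 : ℕ → Submodule R A)
  [GradedAlgebra 𝒜]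

/-- A quasi-compact open of `Proj` is covered by opens `D_+(f) ⊆ V` with `f` of one degree `D > 0`. -/
theorem exists_deg_cover (V : (Proj 𝒜).Opens) (hV : IsCompact (V : Set (Proj 𝒜))) :
    ∃ D : ℕ, 0 < D ∧ ∀ z ∈ V, ∃ f ∈ 𝒜 D,
      z ∈ Proj.basicOpen 𝒜 f ∧ Proj.basicOpen 𝒜 f ≤ V := by
  classical
  choose! d hd f hf hzf hfV using fun (z : Proj 𝒜) (hz : z ∈ V) =>
    Groth.Agent.ProjQLim.exists_homogeneous_basicOpen 𝒜 z V hz
  obtain ⟨t, ht⟩ := hV.elim_finite_subcover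
    (fun z : V => ((Proj.basicOpen 𝒜 (f z.1) : (Proj 𝒜).Opens) : Set (Proj 𝒜)))
    (fun z => (Proj.basicOpen 𝒜 (f z.1)).isOpen)
    (fun z hz => Set.mem_iUnion.mpr ⟨⟨z, hz⟩, hzf z hz⟩)
  have hDpos : 0 < ∏ z ∈ t, d z.1 := Finset.prod_pos (fun z _ => hd z.1 z.2)
  refine ⟨∏ z ∈ t, d z.1, hDpos, fun z' hz' => ?_⟩
  obtain ⟨z, hzt, hz'z⟩ := Set.mem_iUnion₂.mp (ht hz')
  obtain ⟨k, hk⟩ : d z.1 ∣ ∏ z ∈ t, d z.1 := Finset.dvd_prod_of_mem (fun z : V => d z.1) hzt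
  have hk0 : 0 < k := by
    rcases Nat.eq_zero_or_pos k with rfl | h
    · rw [mul_zero] at hk; omega
    · exact h
  refine ⟨f z.1 ^ k, ?_, ?_, ?_⟩
  · have := SetLike.pow_mem_graded k (hf z.1 z.2)
    rwa [smul_eq_mul, mul_comm, ← hk] at this
  · rw [Proj.basicOpen_pow 𝒜 _ k hk0]; exact hz'z
  · rw [Proj.basicOpen_pow 𝒜 _ k hk0]; exact hfV z.1 z.2

variable {X : Scheme.{u}} (j : X ⟶ Proj 𝒜) [IsOpenImmersion j]

theorem isAmple_restrict_twist [CompactSpace X] {D : ℕ} (hD : 0 < D)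
    (hcov : ∀ z ∈ j.opensRange, ∃ f ∈ 𝒜 D,
      z ∈ Proj.basicOpen 𝒜 f ∧ Proj.basicOpen 𝒜 f ≤ j.opensRange) :
    CohB1.IsAmple ((Twist.twist 𝒜 (D : ℤ)).restrict j) := by
  have hLinv : PicF.IsInvertible ((Twist.twist 𝒜 (D : ℤ)).restrict j) := by
    apply isInvertible_of_gens
    intro x
    obtain ⟨f, hf, hxf, hfV⟩ := hcov (j x) ⟨x, rfl⟩
    exact exists_gen_restrict j hfV (Proj.isAffineOpen_basicOpen 𝒜 f hf hD) _
      (isGen_genSecK 𝒜 hD hf 1 (D : ℤ) (by simp)) x hxf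
  apply isAmple_restrict_of j hLinv
  have hc : IsCompact ((j.opensRange : (Proj 𝒜).Opens) : Set (Proj 𝒜)) := by
    have : ((j.opensRange : (Proj 𝒜).Opens) : Set (Proj 𝒜)) = Set.range j := rfl
    rw [this]
    exact isCompact_range j.continuous
  refine ⟨hc, fun x hx => ?_⟩
  obtain ⟨g, hg, hxg, hgV⟩ := hcov x hx
  refine ⟨0, SecTwist.val (SecTwist.powHom (secHomD 𝒜 hg) 1) j.opensRange, Proj.basicOpen 𝒜 g,
    Proj.isAffineOpen_basicOpen 𝒜 g hg hD, hxg, hgV, ?_⟩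
  have h1 := hasLocus_val (Frame.pow (Twist.twist 𝒜 (D : ℤ)) 1)
    (SecTwist.powHom (secHomD 𝒜 hg) 1) j.opensRange
  have h2 : CohB1.genLocus (CohB1.tensorPow (Twist.twist 𝒜 (D : ℤ)) 1)
      (SecTwist.powHom (secHomD 𝒜 hg) 1) ⊓ j.opensRange = Proj.basicOpen 𝒜 g := by
    ext y
    constructor
    · rintro ⟨hy1, hy2⟩
      obtain ⟨f, hf, hyf, -⟩ := hcov y hy2
      have : y ∈ CohB1.genLocus (CohB1.tensorPow (Twist.twist 𝒜 (D : ℤ)) 1)
          (SecTwist.powHom (secHomD 𝒜 hg) 1) ⊓ Proj.basicOpen 𝒜 f := ⟨hy1, hyf⟩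
      rw [genLocus_secHomD_inf 𝒜 hD hf hg] at this
      exact this.2
    · intro hy
      have hy2 := hgV hy
      obtain ⟨f, hf, hyf, -⟩ := hcov y hy2
      have : y ∈ Proj.basicOpen 𝒜 f ⊓ Proj.basicOpen 𝒜 g := ⟨hyf, hy⟩
      rw [← genLocus_secHomD_inf 𝒜 hD hf hg] at this
      exact ⟨this.1, hy2⟩
  rw [h2] at h1
  exact h1

/-- **S9817.** -/
theorem exists_isAmple_pullback [CompactSpace X] :
    ∃ d : ℕ, 0 < d ∧ CohB1.IsAmple ((Scheme.Modules.pullback j).obj (Twist.twist 𝒜 (d : ℤ))) := by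
  have hc : IsCompact ((j.opensRange : (Proj 𝒜).Opens) : Set (Proj 𝒜)) := by
    have : ((j.opensRange : (Proj 𝒜).Opens) : Set (Proj 𝒜)) = Set.range j := rfl
    rw [this]
    exact isCompact_range j.continuous
  obtain ⟨D, hD, hcov⟩ := exists_deg_cover 𝒜 j.opensRange hc
  refine ⟨D, hD, ?_⟩
  rw [← isAmple_congr ((Scheme.Modules.restrictFunctorIsoPullback j).app (Twist.twist 𝒜 (D : ℤ)))]
  exact isAmple_restrict_twist 𝒜 j hD hcov

end proj

end Groth.Agent.ProjOpenAmple
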