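import Mathlib
import Groth.Prelude.Def_W4c1imperftorsorsPerf

/-!
# Tensoring a projective module with a submodule of a product (helper1)

Generic lemmas: for a projective module `M` and jointly injective maps `e i : P → T i`, the map
`M ⊗ P → Π i, M ⊗ T i` is injective; for finite projective `M` and `P` the inverse limit of a tower
`T (i+1) → T i`, the image is the module of compatible sequences.
-/

namespace Groth.Agent.Lib.ProjPiH1

open TensorProduct

theorem nat_sq {R : Type*} [CommRing R] {M M' N N' : Type*} [AddCommGroup M] [Module R M]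
    [AddCommGroup M'] [Module R M'] [AddCommGroup N] [Module R N] [AddCommGroup N'] [Module R N']
    (u : M →ₗ[R] M') (g : N →ₗ[R] N') (z : M ⊗[R] N) :
    LinearMap.lTensor M' g (LinearMap.rTensor N u z) =
      LinearMap.rTensor N' u (LinearMap.lTensor M g z) := by
  have h1 := LinearMap.lTensor_comp_rTensor (R := R) (f := u) (g := g)
  have h2 := LinearMap.rTensor_comp_lTensor (R := R) (f := u) (g := g)
  have h3 : (LinearMap.lTensor M' g ∘ₗ LinearMap.rTensor N u) z =
      (LinearMap.rTensor N' u ∘ₗ LinearMap.lTensor M g) z := by rw [h1, h2]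
  exact h3

theorem fsl_nat {R : Type*} [CommRing R] {N N' : Type*} [AddCommGroup N] [Module R N]
    [AddCommGroup N'] [Module R N'] (g : N →ₗ[R] N') (I : Type*) [DecidableEq I]
    (w : (I →₀ R) ⊗[R] N) (j : I) :
    finsuppScalarLeft R N' I (LinearMap.lTensor (I →₀ R) g w) j =
      g (finsuppScalarLeft R N I w j) := by
  induction w using TensorProduct.induction_on with
  | zero => simp
  | tmul f x => simp [finsuppScalarLeft_apply_tmul_apply]
  | add a b ha hb => simp only [map_add, Finsupp.add_apply, ha, hb]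

section
variable {R : Type*} [CommRing R] {ι : Type*} {T : ι → Type*} [∀ i, AddCommGroup (T i)]
  [∀ i, Module R (T i)] {P : Type*} [AddCommGroup P] [Module R P] (e : ∀ i, P →ₗ[R] T i)

theorem free_inj (he : ∀ x : P, (∀ i, e i x = 0) → x = 0) (I : Type*)
    (z : (I →₀ R) ⊗[R] P) (hz : ∀ i, LinearMap.lTensor (I →₀ R) (e i) z = 0) : z = 0 := by
  classical
  apply (finsuppScalarLeft R P I).injective
  rw [map_zero]
  refine Finsupp.ext fun j => ?_
  rw [Finsupp.zero_apply]
  apply he
  intro i
  rw [← fsl_nat, hz, map_zero, Finsupp.zero_apply]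

theorem proj_inj (he : ∀ x : P, (∀ i, e i x = 0) → x = 0) (M : Type*) [AddCommGroup M]
    [Module R M] [Module.Projective R M] :
    Function.Injective (LinearMap.pi fun i => LinearMap.lTensor M (e i) :
      M ⊗[R] P →ₗ[R] (∀ i, M ⊗[R] T i)) := by
  obtain ⟨s, hs⟩ := Module.projective_def'.mp (inferInstance : Module.Projective R M)
  rw [injective_iff_map_eq_zero]
  intro z hz
  have hz' : ∀ i, LinearMap.lTensor M (e i) z = 0 := fun i => congrFun hz i
  have h1 : LinearMap.rTensor P s z = 0 := by
    apply free_inj e he M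
    intro i
    rw [nat_sq, hz' i, map_zero]
  have h2 : LinearMap.rTensor P (Finsupp.linearCombination R id ∘ₗ s) z = z := by
    rw [hs]; simp
  rw [← h2, LinearMap.rTensor_comp, LinearMap.comp_apply, h1, map_zero]

end

section
variable {R : Type*} [CommRing R] {T : ℕ → Type*} [∀ i, AddCommGroup (T i)]
  [∀ i, Module R (T i)] {P : Type*} [AddCommGroup P] [Module R P] (e : ∀ i, P →ₗ[R] T i)
  (Fr : ∀ i, T (i + 1) →ₗ[R] T i)

theorem range_compat (hc : ∀ i x, Fr i (e (i + 1) x) = e i x) (M : Type*) [AddCommGroup M]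
    [Module R M] (z : M ⊗[R] P) (i : ℕ) :
    LinearMap.lTensor M (Fr i) (LinearMap.lTensor M (e (i + 1)) z) =
      LinearMap.lTensor M (e i) z := by
  have : Fr i ∘ₗ e (i + 1) = e i := LinearMap.ext (hc i)
  rw [← LinearMap.comp_apply, ← LinearMap.lTensor_comp, this]

theorem free_surj (hsurj : ∀ t : ∀ i, T i, (∀ i, Fr i (t (i + 1)) = t i) → ∃ x : P, ∀ i, e i x = t i)
    (I : Type*) [Fintype I] (y : ∀ i, (I →₀ R) ⊗[R] T i)
    (hy : ∀ i, LinearMap.lTensor (I →₀ R) (Fr i) (y (i + 1)) = y i) :
    ∃ z : (I →₀ R) ⊗[R] P, ∀ i, LinearMap.lTensor (I →₀ R) (e i) z = y i := by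
  classical
  have hcomp : ∀ j : I, ∃ x : P, ∀ i, e i x = finsuppScalarLeft R (T i) I (y i) j := by
    intro j
    apply hsurj
    intro i
    rw [← fsl_nat, hy]
  choose x hx using hcomp
  refine ⟨∑ j, (Finsupp.single j (1 : R)) ⊗ₜ[R] x j, fun i => ?_⟩
  rw [map_sum]
  simp only [LinearMap.lTensor_tmul, hx]
  apply (finsuppScalarLeft R (T i) I).injective
  rw [map_sum]
  refine Finsupp.ext fun j => ?_
  simp [finsuppScalarLeft_apply_tmul_apply, Finsupp.finsetSum_apply, Finsupp.single_apply]

theorem proj_range (hc : ∀ i x, Fr i (e (i + 1) x) = e i x)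
    (hsurj : ∀ t : ∀ i, T i, (∀ i, Fr i (t (i + 1)) = t i) → ∃ x : P, ∀ i, e i x = t i)
    (M : Type*) [AddCommGroup M] [Module R M] [Module.Finite R M] [Module.Projective R M]
    (y : ∀ i, M ⊗[R] T i) :
    y ∈ LinearMap.range (LinearMap.pi fun i => LinearMap.lTensor M (e i) :
        M ⊗[R] P →ₗ[R] (∀ i, M ⊗[R] T i)) ↔
      ∀ i, LinearMap.lTensor M (Fr i) (y (i + 1)) = y i := by
  constructor
  · rintro ⟨z, rfl⟩ i
    simp only [LinearMap.pi_apply]
    exact range_compat e Fr hc M z i
  · intro hy
    obtain ⟨n, f, g, -, -, hfg⟩ := Module.Finite.exists_comp_eq_id_of_projective R M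
    let E := Finsupp.linearEquivFunOnFinite R R (Fin n)
    let ι' : M →ₗ[R] (Fin n →₀ R) := E.symm.toLinearMap ∘ₗ g
    let π' : (Fin n →₀ R) →ₗ[R] M := f ∘ₗ E.toLinearMap
    have hπι : π' ∘ₗ ι' = LinearMap.id := by
      ext m
      have := congrArg (fun h => h m) hfg
      simpa [π', ι'] using this
    obtain ⟨z', hz'⟩ := free_surj e Fr hsurj (Fin n)
      (fun i => LinearMap.rTensor (T i) ι' (y i)) (by
        intro i
        rw [nat_sq, hy i])
    refine ⟨LinearMap.rTensor P π' z', ?_⟩
    funext i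
    rw [LinearMap.pi_apply, nat_sq, hz' i, ← LinearMap.comp_apply, ← LinearMap.rTensor_comp,
      hπι, LinearMap.rTensor_id, LinearMap.id_apply]

end

/-! ### Instantiation for the preperfection -/

section
open W4c1imperftorsors
universe u

variable (p : ℕ) [Fact p.Prime] (R : Type u) [CommRing R] [CharP R p]
    (A : Type u) [CommRing A] [Algebra R A] [CharP A p]

theorem prePerf_inj (M : Type u) [AddCommGroup M] [Module R M] [Module.Projective R M] :
    Function.Injective
      (LinearMap.pi fun i : ℕ =>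
        LinearMap.lTensor M
          (((Pi.evalAlgHom R (fun k => W4c1imperftorsors.Twist p R A k) i).comp
            (W4c1imperftorsors.prePerf p R A).val).toLinearMap) :
        M ⊗[R] ↥(W4c1imperftorsors.prePerf p R A) →ₗ[R] (Π i : ℕ, M ⊗[R] W4c1imperftorsors.Twist p R A i)) := by
  refine proj_inj (fun i : ℕ => (((Pi.evalAlgHom R (fun k => W4c1imperftorsors.Twist p R A k) i).comp
            (W4c1imperftorsors.prePerf p R A).val).toLinearMap)) ?_ M
  intro x hx
  exact Subtype.ext (funext fun i => hx i)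

theorem prePerf_range (M : Type u) [AddCommGroup M] [Module R M] [Module.Finite R M] [Module.Projective R M]
    (y : Π i : ℕ, M ⊗[R] W4c1imperftorsors.Twist p R A i) :
    y ∈ LinearMap.range
        (LinearMap.pi fun i : ℕ =>
        LinearMap.lTensor M
          (((Pi.evalAlgHom R (fun k => W4c1imperftorsors.Twist p R A k) i).comp
            (W4c1imperftorsors.prePerf p R A).val).toLinearMap) :
        M ⊗[R] ↥(W4c1imperftorsors.prePerf p R A) →ₗ[R] (Π i : ℕ, M ⊗[R] W4c1imperftorsors.Twist p R A i)) ↔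
      ∀ i : ℕ, LinearMap.lTensor M (W4c1imperftorsors.relFrob p R A i).toLinearMap (y (i + 1)) = y i := by
  refine proj_range (fun i : ℕ => (((Pi.evalAlgHom R (fun k => W4c1imperftorsors.Twist p R A k) i).comp
            (W4c1imperftorsors.prePerf p R A).val).toLinearMap))
    (fun i => (W4c1imperftorsors.relFrob p R A i).toLinearMap) ?_ ?_ M y
  · intro i x
    have hx := x.2
    unfold W4c1imperftorsors.prePerf at hx
    rw [Algebra.mem_iInf] at hx
    exact hx i
  · intro t ht
    refine ⟨⟨t, ?_⟩, fun i => rfl⟩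
    unfold W4c1imperftorsors.prePerf
    rw [Algebra.mem_iInf]
    intro i
    exact ht i

end

end Groth.Agent.Lib.ProjPiH1
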