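import Mathlib
import Groth.Prelude
import Groth.Agent.Lib.Dehom_helper4
import Groth.Agent.Lib.PtCountEq_helper4
import Groth.Agent.Lib.ZetaAffLine_helper4
import Groth.Agent.Lib.ProjSpaceProper_helper4
import Groth.Agent.S13055

/-!
# Point count and zeta function of projective space over a finite field (helper4).
APPEND-ONLY once landed.
-/

set_option autoImplicit false
set_option linter.style.haveILetI false
set_option linter.unusedVariables false

universe u

open CategoryTheory CategoryTheory.Limits AlgebraicGeometry TopologicalSpace Opposite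

namespace Groth.Agent.Lib.ProjPtCountH4

open Groth.Agent.Lib

theorem card_partition {α : Type*} {ι : Type*} [Fintype ι] (p : ι → α → Prop)
    [∀ i, Finite {a // p i a}]
    (h : ∀ a, ∃! i, p i a) : Nat.card α = ∑ i, Nat.card {a // p i a} := by
  classical
  have e : α ≃ Σ i, {a // p i a} :=
    { toFun := fun a => ⟨(h a).choose, a, (h a).choose_spec.1⟩
      invFun := fun s => s.2.1
      left_inv := fun a => rfl
      right_inv := fun s => by
        obtain ⟨i, a, ha⟩ := s
        have h1 : (h a).choose = i := ((h a).choose_spec.2 i ha).symm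
        subst h1
        rfl }
  rw [Nat.card_congr e, Nat.card_sigma]

section Main

variable (n : ℕ) (k : Type u) [Field k] (k' : Type u) [Field k'] [Algebra k k']

theorem X_mem' (i : Fin (n + 1)) :
    (MvPolynomial.X i : MvPolynomial (Fin (n + 1)) k) ∈ CohB1.polyGrading n k 1 :=
  (MvPolynomial.mem_homogeneousSubmodule 1 _).mpr (MvPolynomial.isHomogeneous_X k i)

abbrev Aw (i : Fin (n + 1)) : Type u :=
  HomogeneousLocalization.Away (CohB1.polyGrading n k)
    (MvPolynomial.X i : MvPolynomial (Fin (n + 1)) k)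

noncomputable abbrev aι (i : Fin (n + 1)) :
    Spec (CommRingCat.of (Aw n k i)) ⟶ Proj (CohB1.polyGrading n k) :=
  Proj.awayι (CohB1.polyGrading n k) (MvPolynomial.X i) (X_mem' n k i) one_pos

noncomputable def ρ (i : Fin (n + 1)) : k →+* Aw n k i :=
  (HomogeneousLocalization.fromZeroRingHom (CohB1.polyGrading n k)
    (Submonoid.powers (MvPolynomial.X i : MvPolynomial (Fin (n + 1)) k))).comp
    (algebraMap k (CohB1.polyGrading n k 0))

noncomputable def toStr : Proj (CohB1.polyGrading n k) ⟶ Spec (CommRingCat.of k) :=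
  CohB1.ProjSpace.toSpec n k

theorem aι_toStr (i : Fin (n + 1)) :
    aι n k i ≫ toStr n k = Spec.map (CommRingCat.ofHom (ρ n k i)) := by
  have h1 : aι n k i ≫ Proj.toSpecZero (CohB1.polyGrading n k) =
      Spec.map (CommRingCat.ofHom (HomogeneousLocalization.fromZeroRingHom
        (CohB1.polyGrading n k)
        (Submonoid.powers (MvPolynomial.X i : MvPolynomial (Fin (n + 1)) k)))) :=
    Proj.awayι_toSpecZero (CohB1.polyGrading n k) (MvPolynomial.X i) (X_mem' n k i) one_pos
  have h2 : toStr n k = Proj.toSpecZero (CohB1.polyGrading n k) ≫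
      Spec.map (CommRingCat.ofHom (algebraMap k (CohB1.polyGrading n k 0))) := rfl
  rw [h2, ← Category.assoc, h1, ← Spec.map_comp, ← CommRingCat.ofHom_comp]
  rfl

noncomputable def mm (i : Fin (n + 1)) (ψ : Aw n k i →+* k') :
    Spec (CommRingCat.of k') ⟶ Proj (CohB1.polyGrading n k) :=
  Spec.map (CommRingCat.ofHom ψ) ≫ aι n k i

theorem mm_injective (i : Fin (n + 1)) : Function.Injective (mm n k k' i) := by
  intro ψ ψ' h
  have h1 : Spec.map (CommRingCat.ofHom ψ) = Spec.map (CommRingCat.ofHom ψ') :=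
    (cancel_mono (aι n k i)).mp h
  have h2 := Spec.map_injective h1
  exact congrArg CommRingCat.Hom.hom h2

theorem mm_toStr (i : Fin (n + 1)) (ψ : Aw n k i →+* k') :
    mm n k k' i ψ ≫ toStr n k = Spec.map (CommRingCat.ofHom (ψ.comp (ρ n k i))) := by
  unfold mm
  rw [Category.assoc, aι_toStr, ← Spec.map_comp, ← CommRingCat.ofHom_comp]

theorem mm_over_iff (i : Fin (n + 1)) (ψ : Aw n k i →+* k') :
    mm n k k' i ψ ≫ toStr n k = Spec.map (CommRingCat.ofHom (algebraMap k k')) ↔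
      ψ.comp (ρ n k i) = algebraMap k k' := by
  rw [mm_toStr]
  constructor
  · intro h
    exact congrArg CommRingCat.Hom.hom (Spec.map_injective h)
  · intro h
    rw [h]

noncomputable def y₀ : ↥(Spec (CommRingCat.of k')) :=
  (⟨⊥, Ideal.bot_prime⟩ : PrimeSpectrum k')

theorem eq_y₀ (y : ↥(Spec (CommRingCat.of k'))) : y = y₀ k' := by
  haveI : Subsingleton (PrimeSpectrum k') := inferInstance
  exact Subsingleton.elim (α := PrimeSpectrum k') y (y₀ k')

theorem exists_mm (i : Fin (n + 1))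
    (h : Spec (CommRingCat.of k') ⟶ Proj (CohB1.polyGrading n k))
    (hi : h (y₀ k') ∈ Proj.basicOpen (CohB1.polyGrading n k)
      (MvPolynomial.X i : MvPolynomial (Fin (n + 1)) k)) :
    ∃ ψ : Aw n k i →+* k', h = mm n k k' i ψ := by
  have H : Set.range h ⊆ Set.range (aι n k i) := by
    rintro _ ⟨y, rfl⟩
    rw [eq_y₀ k' y]
    have h1 := hi
    rw [← Proj.opensRange_awayι (CohB1.polyGrading n k) (MvPolynomial.X i) (X_mem' n k i)
      one_pos] at h1
    exact h1
  refine ⟨(Spec.preimage (IsOpenImmersion.lift (aι n k i) h H)).hom, ?_⟩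
  unfold mm
  rw [CommRingCat.ofHom_hom, Spec.map_preimage, IsOpenImmersion.lift_fac]

theorem mm_mem_self (i : Fin (n + 1)) (ψ : Aw n k i →+* k') :
    mm n k k' i ψ (y₀ k') ∈ Proj.basicOpen (CohB1.polyGrading n k)
      (MvPolynomial.X i : MvPolynomial (Fin (n + 1)) k) := by
  rw [← Proj.opensRange_awayι (CohB1.polyGrading n k) (MvPolynomial.X i) (X_mem' n k i) one_pos]
  exact ⟨_, rfl⟩

theorem elem_eq (i j : Fin (n + 1)) (hj : j ≠ i) :
    HomogeneousLocalization.Away.isLocalizationElem (𝒜 := CohB1.polyGrading n k)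
      (X_mem' n k i) (X_mem' n k j) = DehomH4.Φ n k i (MvPolynomial.X ⟨j, hj⟩) := by
  apply HomogeneousLocalization.val_injective
  have h1 : DehomH4.Φ n k i (MvPolynomial.X ⟨j, hj⟩) =
      (HomogeneousLocalization.mk ⟨1, ⟨MvPolynomial.X j, MvPolynomial.isHomogeneous_X k j⟩,
      ⟨MvPolynomial.X i, MvPolynomial.isHomogeneous_X k i⟩, ⟨1, pow_one _⟩⟩ :
      HomogeneousLocalization.Away (CohB1.polyGrading n k) (MvPolynomial.X i)) :=
    MvPolynomial.eval₂_X _ _ _
  rw [h1, HomogeneousLocalization.val_mk]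
  show Localization.mk ((MvPolynomial.X j : MvPolynomial (Fin (n + 1)) k) ^ 1)
    ⟨(MvPolynomial.X i : MvPolynomial (Fin (n + 1)) k) ^ 1, _⟩ = _
  simp only [pow_one]

theorem mm_mem_iff (i j : Fin (n + 1)) (hj : j ≠ i) (ψ : Aw n k i →+* k') :
    mm n k k' i ψ (y₀ k') ∈ Proj.basicOpen (CohB1.polyGrading n k)
      (MvPolynomial.X j : MvPolynomial (Fin (n + 1)) k) ↔
      ψ (DehomH4.Φ n k i (MvPolynomial.X ⟨j, hj⟩)) ≠ 0 := by
  have h1 : mm n k k' i ψ (y₀ k') ∈ Proj.basicOpen (CohB1.polyGrading n k)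
      (MvPolynomial.X j : MvPolynomial (Fin (n + 1)) k) ↔
      (Spec.map (CommRingCat.ofHom ψ)) (y₀ k') ∈ (aι n k i) ⁻¹ᵁ
        Proj.basicOpen (CohB1.polyGrading n k)
          (MvPolynomial.X j : MvPolynomial (Fin (n + 1)) k) := Iff.rfl
  rw [h1, Proj.awayι_preimage_basicOpen (CohB1.polyGrading n k) (X_mem' n k i) one_pos
    (X_mem' n k j) one_pos, elem_eq n k i j hj]
  have h2 : (DehomH4.Φ n k i (MvPolynomial.X ⟨j, hj⟩)) ∈
      ((Spec.map (CommRingCat.ofHom ψ)) (y₀ k')).asIdeal ↔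
      ψ (DehomH4.Φ n k i (MvPolynomial.X ⟨j, hj⟩)) = 0 := by
    show ψ (DehomH4.Φ n k i (MvPolynomial.X ⟨j, hj⟩)) ∈ (⊥ : Ideal k') ↔ _
    exact Ideal.mem_bot
  exact not_congr h2

noncomputable def eΦ (i : Fin (n + 1)) :
    MvPolynomial {j : Fin (n + 1) // j ≠ i} k ≃+* Aw n k i :=
  RingEquiv.ofBijective (DehomH4.Φ n k i) (DehomH4.bij n k i)

noncomputable def ψc (i : Fin (n + 1)) (c : {j : Fin (n + 1) // j ≠ i} → k') :
    Aw n k i →+* k' :=
  (MvPolynomial.eval₂Hom (algebraMap k k') c).comp (eΦ n k i).symm.toRingHom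

theorem ψc_Φ (i : Fin (n + 1)) (c : {j : Fin (n + 1) // j ≠ i} → k')
    (p : MvPolynomial {j : Fin (n + 1) // j ≠ i} k) :
    ψc n k k' i c (DehomH4.Φ n k i p) = MvPolynomial.eval₂Hom (algebraMap k k') c p := by
  have h1 : (eΦ n k i).symm (DehomH4.Φ n k i p) = p := (eΦ n k i).symm_apply_apply p
  show (MvPolynomial.eval₂Hom (algebraMap k k') c) ((eΦ n k i).symm (DehomH4.Φ n k i p)) = _
  rw [h1]

theorem Φ_C (i : Fin (n + 1)) (r : k) :
    DehomH4.Φ n k i (MvPolynomial.C r) = ρ n k i r :=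
  MvPolynomial.eval₂_C _ _ r

theorem ψc_over (i : Fin (n + 1)) (c : {j : Fin (n + 1) // j ≠ i} → k') :
    (ψc n k k' i c).comp (ρ n k i) = algebraMap k k' := by
  refine RingHom.ext (fun r => ?_)
  rw [RingHom.comp_apply, ← Φ_C, ψc_Φ, MvPolynomial.eval₂Hom_C]

theorem eq_ψc (i : Fin (n + 1)) (ψ : Aw n k i →+* k')
    (hψ : ψ.comp (ρ n k i) = algebraMap k k') :
    ψ = ψc n k k' i (fun j => ψ (DehomH4.Φ n k i (MvPolynomial.X j))) := by
  refine RingHom.ext (fun x => ?_)
  obtain ⟨p, rfl⟩ := DehomH4.surj n k i x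
  rw [ψc_Φ]
  have h1 : ψ.comp (DehomH4.Φ n k i) = MvPolynomial.eval₂Hom (algebraMap k k')
      (fun j => ψ (DehomH4.Φ n k i (MvPolynomial.X j))) := by
    refine MvPolynomial.ringHom_ext (fun r => ?_) (fun j => ?_)
    · rw [RingHom.comp_apply, Φ_C, MvPolynomial.eval₂Hom_C]
      exact DFunLike.congr_fun hψ r
    · rw [RingHom.comp_apply, MvPolynomial.eval₂Hom_X']
  exact DFunLike.congr_fun h1 p

/-- the `k'`-points of projective space over `k` -/
abbrev HH : Type u :=
  {h : Spec (CommRingCat.of k') ⟶ Proj (CohB1.polyGrading n k) //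
    h ≫ toStr n k = Spec.map (CommRingCat.ofHom (algebraMap k k'))}

def pred (i : Fin (n + 1)) (h : HH n k k') : Prop :=
  h.1 (y₀ k') ∈ Proj.basicOpen (CohB1.polyGrading n k)
      (MvPolynomial.X i : MvPolynomial (Fin (n + 1)) k) ∧
    ∀ j : Fin (n + 1), j < i → h.1 (y₀ k') ∉ Proj.basicOpen (CohB1.polyGrading n k)
      (MvPolynomial.X j : MvPolynomial (Fin (n + 1)) k)

theorem pred_unique (h : HH n k k') : ∃! i, pred n k k' i h := by
  classical
  have hcov := DehomH4.cover n k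
  have hq' : h.1 (y₀ k') ∈ (⨆ i : Fin (n + 1), Proj.basicOpen (CohB1.polyGrading n k)
      (MvPolynomial.X i : MvPolynomial (Fin (n + 1)) k)) := by
    rw [hcov]; trivial
  obtain ⟨i₁, hi₁⟩ := TopologicalSpace.Opens.mem_iSup.mp hq'
  have hne : (Finset.univ.filter (fun i : Fin (n + 1) =>
      h.1 (y₀ k') ∈ Proj.basicOpen (CohB1.polyGrading n k)
        (MvPolynomial.X i : MvPolynomial (Fin (n + 1)) k))).Nonempty :=
    ⟨i₁, Finset.mem_filter.mpr ⟨Finset.mem_univ _, hi₁⟩⟩
  have hmem := Finset.min'_mem _ hne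
  have hmin := fun j hj => Finset.min'_le (Finset.univ.filter (fun i : Fin (n + 1) =>
      h.1 (y₀ k') ∈ Proj.basicOpen (CohB1.polyGrading n k)
        (MvPolynomial.X i : MvPolynomial (Fin (n + 1)) k))) j hj
  refine ⟨Finset.min' _ hne, ⟨(Finset.mem_filter.mp hmem).2, fun j hj hjm => ?_⟩, ?_⟩
  · have := hmin j (Finset.mem_filter.mpr ⟨Finset.mem_univ _, hjm⟩)
    exact absurd hj (not_lt.mpr this)
  · intro i' hi'
    rcases lt_trichotomy i' (Finset.min' _ hne) with hlt | heq | hgt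
    · have := hmin i' (Finset.mem_filter.mpr ⟨Finset.mem_univ _, hi'.1⟩)
      exact absurd hlt (not_lt.mpr this)
    · exact heq
    · exact absurd (Finset.mem_filter.mp hmem).2 (hi'.2 _ hgt)

/-- coordinates of a point of the `i`-th stratum -/
noncomputable def cd (i : Fin (n + 1)) (d : {j : Fin (n + 1) // i < j} → k') :
    {j : Fin (n + 1) // j ≠ i} → k' :=
  fun j => if h : i < j.1 then d ⟨j.1, h⟩ else 0

noncomputable def FF (i : Fin (n + 1)) (d : {j : Fin (n + 1) // i < j} → k') :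
    {h : HH n k k' // pred n k k' i h} :=
  ⟨⟨mm n k k' i (ψc n k k' i (cd n k' i d)),
    (mm_over_iff n k k' i _).mpr (ψc_over n k k' i _)⟩,
    ⟨mm_mem_self n k k' i _, fun j hj => by
      have hji : j ≠ i := ne_of_lt hj
      rw [mm_mem_iff n k k' i j hji, not_not, ψc_Φ, MvPolynomial.eval₂Hom_X']
      exact dif_neg (not_lt.mpr hj.le)⟩⟩

theorem FF_injective (i : Fin (n + 1)) : Function.Injective (FF n k k' i) := by
  intro d d' h
  have h1 : mm n k k' i (ψc n k k' i (cd n k' i d)) = mm n k k' i (ψc n k k' i (cd n k' i d')) :=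
    congrArg (fun z : {h : HH n k k' // pred n k k' i h} => z.1.1) h
  have h2 := mm_injective n k k' i h1
  funext j
  have hji : j.1 ≠ i := ne_of_gt j.2
  have h3 := DFunLike.congr_fun h2 (DehomH4.Φ n k i (MvPolynomial.X ⟨j.1, hji⟩))
  rw [ψc_Φ, ψc_Φ, MvPolynomial.eval₂Hom_X', MvPolynomial.eval₂Hom_X'] at h3
  have e1 : cd n k' i d ⟨j.1, hji⟩ = d j := dif_pos j.2
  have e2 : cd n k' i d' ⟨j.1, hji⟩ = d' j := dif_pos j.2
  rw [e1, e2] at h3
  exact h3

theorem FF_surjective (i : Fin (n + 1)) : Function.Surjective (FF n k k' i) := by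
  rintro ⟨⟨h, hover⟩, hi, hlt⟩
  obtain ⟨ψ, rfl⟩ := exists_mm n k k' i h hi
  have hψ : ψ.comp (ρ n k i) = algebraMap k k' := (mm_over_iff n k k' i ψ).mp hover
  have hc := eq_ψc n k k' i ψ hψ
  refine ⟨fun j => ψ (DehomH4.Φ n k i (MvPolynomial.X ⟨j.1, ne_of_gt j.2⟩)), ?_⟩
  apply Subtype.ext
  apply Subtype.ext
  show mm n k k' i (ψc n k k' i (cd n k' i _)) = mm n k k' i ψ
  have hcd : cd n k' i (fun j : {j : Fin (n + 1) // i < j} =>
      ψ (DehomH4.Φ n k i (MvPolynomial.X ⟨j.1, ne_of_gt j.2⟩))) =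
      (fun j => ψ (DehomH4.Φ n k i (MvPolynomial.X j))) := by
    funext j
    by_cases hj : i < j.1
    · exact dif_pos hj
    · have hj' : j.1 < i := lt_of_le_of_ne (not_lt.mp hj) j.2
      have h0 := hlt j.1 hj'
      rw [mm_mem_iff n k k' i j.1 j.2, not_not] at h0
      have e1 : cd n k' i (fun j : {j : Fin (n + 1) // i < j} =>
          ψ (DehomH4.Φ n k i (MvPolynomial.X ⟨j.1, ne_of_gt j.2⟩))) j = 0 := dif_neg hj
      rw [e1]
      exact h0.symm
  rw [hcd, ← hc]

theorem card_stratum [Finite k'] (i : Fin (n + 1)) :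
    Nat.card {h : HH n k k' // pred n k k' i h} = Nat.card k' ^ (n - i.1) := by
  classical
  rw [← Nat.card_eq_of_bijective (FF n k k' i) ⟨FF_injective n k k' i, FF_surjective n k k' i⟩,
    Nat.card_fun]
  congr 1
  rw [Nat.card_eq_fintype_card, Fintype.card_subtype, Finset.filter_lt_eq_Ioi, Fin.card_Ioi]
  omega

theorem card_HH [Finite k'] :
    Nat.card (HH n k k') = ∑ j ∈ Finset.range (n + 1), Nat.card k' ^ j := by
  haveI : ∀ i, Finite {h : HH n k k' // pred n k k' i h} := fun i =>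
    Finite.of_surjective (FF n k k' i) (FF_surjective n k k' i)
  rw [card_partition (pred n k k') (pred_unique n k k')]
  have h1 : ∀ i : Fin (n + 1), Nat.card {h : HH n k k' // pred n k k' i h} =
      Nat.card k' ^ (n - i.1) := fun i => card_stratum n k k' i
  rw [Finset.sum_congr rfl (fun i _ => h1 i),
    Fin.sum_univ_eq_sum_range (fun i => Nat.card k' ^ (n - i)) (n + 1)]
  exact Finset.sum_range_reflect (fun j => Nat.card k' ^ j) (n + 1) ▸ rfl

theorem pointCount_eq [Finite k'] :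
    SgaExt.pointCount (CohB1.ProjSpace.toSpec n k) k' =
      ∑ j ∈ Finset.range (n + 1), Nat.card k' ^ j :=
  card_HH n k k'

end Main

section Final

variable (n : ℕ) (k : Type u) [Field k] [Finite k]

theorem nPts_eq (m : ℕ) (hm : 1 ≤ m) :
    Zeta.nPts (CohB1.ProjSpace.toSpec n k) m =
      ∑ j ∈ Finset.range (n + 1), (Nat.card k ^ m) ^ j := by
  haveI := ProjSpaceProperH4.isProper_toSpec n k
  obtain ⟨k', hF, hA, hFin, rfl⟩ := ZetaAffLineH4.exists_ext k m hm
  letI : Field k' := hF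
  letI : Algebra k k' := hA
  haveI : Finite k' := hFin
  rw [← PtCountEqH4.main13050 (CohB1.ProjSpace.toSpec n k) k', pointCount_eq n k k',
    Module.natCard_eq_pow_finrank (K := k) (V := k')]

theorem main13053 :
    Zeta.zetaFun (CohB1.ProjSpace.toSpec n k) *
        ∏ i ∈ Finset.range (n + 1),
          (1 - PowerSeries.C ((Nat.card k : ℚ) ^ i) * PowerSeries.X) = 1 := by
  haveI := ProjSpaceProperH4.isProper_toSpec n k
  have hcoeff : ∀ i ∈ Finset.range (n + 1),
      (∑ j ∈ Finset.range (n + 1), (Polynomial.X : Polynomial ℤ) ^ j).coeff i = 1 := by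
    intro i hi
    rw [Polynomial.finset_sum_coeff]
    simp only [Polynomial.coeff_X_pow]
    rw [Finset.sum_ite_eq (Finset.range (n + 1)) i (fun _ => (1 : ℤ)), if_pos hi]
  have hdeg : (∑ j ∈ Finset.range (n + 1), (Polynomial.X : Polynomial ℤ) ^ j).natDegree = n := by
    apply le_antisymm
    · refine Polynomial.natDegree_sum_le_of_forall_le _ _ (fun j hj => ?_)
      exact (Polynomial.natDegree_X_pow_le j).trans
        (Nat.lt_succ_iff.mp (Finset.mem_range.mp hj))
    · apply Polynomial.le_natDegree_of_ne_zero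
      rw [hcoeff n (Finset.self_mem_range_succ n)]
      exact one_ne_zero
  have hP : ∀ m : ℕ, 1 ≤ m → (Zeta.nPts (CohB1.ProjSpace.toSpec n k) m : ℤ) =
      (∑ j ∈ Finset.range (n + 1), (Polynomial.X : Polynomial ℤ) ^ j).eval
        ((Nat.card k : ℤ) ^ m) := by
    intro m hm
    rw [nPts_eq n k m hm, Polynomial.eval_finset_sum]
    push_cast
    refine Finset.sum_congr rfl (fun j _ => ?_)
    rw [Polynomial.eval_pow, Polynomial.eval_X]
  have key := Groth.Agent.S13055.result (CohB1.ProjSpace.toSpec n k) _ hP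
  rw [hdeg] at key
  have e1 : ∏ i ∈ Finset.range (n + 1),
      (1 - PowerSeries.C ((Nat.card k : ℚ) ^ i) * PowerSeries.X) ^
        ((∑ j ∈ Finset.range (n + 1), (Polynomial.X : Polynomial ℤ) ^ j).coeff i).toNat =
      ∏ i ∈ Finset.range (n + 1),
        (1 - PowerSeries.C ((Nat.card k : ℚ) ^ i) * PowerSeries.X) :=
    Finset.prod_congr rfl (fun i hi => by rw [hcoeff i hi]; simp)
  have e2 : ∏ i ∈ Finset.range (n + 1),
      (1 - PowerSeries.C ((Nat.card k : ℚ) ^ i) * PowerSeries.X) ^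
        (-(∑ j ∈ Finset.range (n + 1), (Polynomial.X : Polynomial ℤ) ^ j).coeff i).toNat = 1 :=
    Finset.prod_eq_one (fun i hi => by rw [hcoeff i hi]; simp)
  rw [e1, e2] at key
  exact key

end Final

end Groth.Agent.Lib.ProjPtCountH4
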