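import Mathlib
import Groth.Prelude.Def_SGA1
import Groth.Agent.Lib.GQuot2_helper6

/-!
# Quotient of an affine scheme by a finite group, ring-level criterion (helper6)
-/

set_option backward.isDefEq.respectTransparency false
set_option backward.isDefEq.respectTransparency.types false
set_option autoImplicit false

universe u

open CategoryTheory CategoryTheory.Limits AlgebraicGeometry TopologicalSpace

namespace Groth.Agent.Lib.ProjQuotH6

lemma aut_hom_eq_inv_inv {X : Scheme.{u}} {G : Type u} [Group G] (ρ : G →* Aut X) (g : G) :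
    (ρ g).hom = (ρ g⁻¹).inv := by
  rw [map_inv]
  rfl

/-- `Spec θ` is a quotient by `G` when `θ` is injective with image the invariants of the ring
endomorphisms `τ g` through which the action is given. -/
theorem isQuot_Spec {G : Type u} [Group G] [Finite G] {A' B' : CommRingCat.{u}} (θ : B' ⟶ A')
    (τ : G → (A' ⟶ A')) (ρ' : G →* Aut (Spec A'))
    (hρ' : ∀ g, (ρ' g).inv = Spec.map (τ g))
    (hinj : Function.Injective θ.hom) (hτθ : ∀ g, θ ≫ τ g = θ)
    (hinv : ∀ a : A', (∀ g, (τ g).hom a = a) → a ∈ Set.range θ.hom) :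
    SGA1.IsQuot ρ' (Spec.map θ) := by
  have hρhom : ∀ g, (ρ' g).hom = Spec.map (τ g⁻¹) := by
    intro g
    rw [aut_hom_eq_inv_inv, hρ']
  have hinv' : ∀ g : G, (ρ' g).hom ≫ Spec.map θ = Spec.map θ := by
    intro g
    rw [hρhom, ← Spec.map_comp, hτθ]
  have hnat : ∀ {R S : CommRingCat.{u}} (φ : R ⟶ S) (s : Γ(Spec R, ⊤)),
      (Scheme.ΓSpecIso S).hom.hom ((Spec.map φ).appTop.hom s) =
        φ.hom ((Scheme.ΓSpecIso R).hom.hom s) := by
    intro R S φ s
    exact congrArg (fun m => m.hom s) (Scheme.ΓSpecIso_naturality φ)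
  refine IsQuotH8.isQuot_of_affine ρ' _ hinv' ?_ ?_
  · intro a b hab
    have h1 := hnat θ a
    have h2 := hnat θ b
    have h3 : (Spec.map θ).appTop.hom a = (Spec.map θ).appTop.hom b := hab
    rw [h3, h2] at h1
    have h4 := hinj h1
    exact (ConcreteCategory.bijective_of_isIso (Scheme.ΓSpecIso B').hom).1 h4.symm
  · intro s hs
    have hfix : ∀ g' : G, (τ g').hom ((Scheme.ΓSpecIso A').hom.hom s) =
        (Scheme.ΓSpecIso A').hom.hom s := by
      intro g'
      have h2 := hs g'⁻¹
      have h3 : ((ρ' g'⁻¹).hom.appTop).hom s = s := h2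
      have h4 : (ρ' g'⁻¹).hom.appTop = (Spec.map (τ g')).appTop := by
        rw [hρhom, inv_inv]
      rw [h4] at h3
      have h5 := hnat (τ g') s
      rw [h3] at h5
      exact h5.symm
    obtain ⟨b, hb⟩ := hinv _ hfix
    refine ⟨(Scheme.ΓSpecIso B').inv.hom b, ?_⟩
    apply (ConcreteCategory.bijective_of_isIso (Scheme.ΓSpecIso A').hom).1
    have h6 := hnat θ ((Scheme.ΓSpecIso B').inv.hom b)
    have h7 : (Scheme.ΓSpecIso B').hom.hom ((Scheme.ΓSpecIso B').inv.hom b) = b := by
      have := congrArg (fun m => m.hom b) (Scheme.ΓSpecIso B').inv_hom_id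
      exact this
    rw [h7] at h6
    exact h6.trans hb

end Groth.Agent.Lib.ProjQuotH6
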