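import Mathlib

/-!
# Homogeneous localizations and invariants under a finite group (helper6)
-/

set_option backward.isDefEq.respectTransparency false
set_option backward.isDefEq.respectTransparency.types false
set_option autoImplicit false

universe u

open HomogeneousLocalization

namespace Groth.Agent.Lib.ProjQuotH6

section valmap

variable {A B : Type u} [CommRing A] [CommRing B] {σA σB : Type*}
  [SetLike σA A] [AddSubgroupClass σA A] [SetLike σB B] [AddSubgroupClass σB B]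
  {𝒜 : ℕ → σA} {ℬ : ℕ → σB} [GradedRing 𝒜] [GradedRing ℬ]

lemma val_map (g : 𝒜 →+*ᵍ ℬ) {P : Submonoid A} {Q : Submonoid B} (h : P ≤ Q.comap g)
    (x : HomogeneousLocalization 𝒜 P) :
    (HomogeneousLocalization.map g h x).val =
      IsLocalization.map (Localization Q) (g : A →+* B) h x.val := by
  obtain ⟨c, rfl⟩ := x.mk_surjective
  rw [HomogeneousLocalization.map_mk, val_mk, val_mk]
  conv_rhs => rw [Localization.mk_eq_mk'_apply, IsLocalization.map_mk', ← Localization.mk_eq_mk'_apply]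
  rfl

lemma val_awayMap (g : 𝒜 →+*ᵍ ℬ) (f : A) (x : Away 𝒜 f) :
    (Away.map g f x).val = Localization.awayMap (g : A →+* B) f x.val :=
  val_map g _ x

end valmap

section setting

variable {R A : Type u} [CommRing R] [CommRing A] [Algebra R A] (𝒜 : ℕ → Submodule R A)
  [GradedAlgebra 𝒜] {G : Type u} [Group G] [MulSemiringAction G A]
  (hGdeg : ∀ (σ : G) (i : ℕ) (a : A), a ∈ 𝒜 i → σ • a ∈ 𝒜 i)
  {C : Type u} [CommRing C] [Algebra R C] (𝒞 : ℕ → Submodule R C) [GradedAlgebra 𝒞]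
  (ι : C →ₐ[R] A)
  (hιdeg : ∀ (i : ℕ) (a : A), a ∈ (𝒞 i).map ι.toLinearMap ↔ (a ∈ 𝒜 i ∧ ∀ σ : G, σ • a = a))

/-- The action of `σ` as a graded ring endomorphism. -/
def sg (σ : G) : 𝒜 →+*ᵍ 𝒜 :=
  ⟨MulSemiringAction.toRingHom G A σ, fun {i x} hx => hGdeg σ i x hx⟩

include hιdeg in
lemma ι_mem {i : ℕ} {x : C} (hx : x ∈ 𝒞 i) : ι x ∈ 𝒜 i :=
  ((hιdeg i _).mp (Submodule.mem_map_of_mem hx)).1

include hιdeg in
lemma ι_inv {i : ℕ} {x : C} (hx : x ∈ 𝒞 i) (σ : G) : σ • ι x = ι x :=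
  ((hιdeg i _).mp (Submodule.mem_map_of_mem hx)).2 σ

/-- `ι` as a graded ring homomorphism. -/
def ig : 𝒞 →+*ᵍ 𝒜 :=
  ⟨ι.toRingHom, fun {_ _} hx => ι_mem 𝒜 𝒞 ι hιdeg hx⟩

/-- The map `C_(c) → A_(ι c)`. -/
def θc (c : C) : Away 𝒞 c →+* Away 𝒜 (ι c) :=
  Away.map (ig 𝒜 𝒞 ι hιdeg) c

lemma val_θc (c : C) (x : Away 𝒞 c) :
    (θc 𝒜 𝒞 ι hιdeg c x).val = Localization.awayMap ι.toRingHom c x.val :=
  val_awayMap (ig 𝒜 𝒞 ι hιdeg) c x

lemma powers_le (σ : G) (f : A) (hf : σ • f = f) :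
    Submonoid.powers f ≤ (Submonoid.powers f).comap (sg 𝒜 hGdeg σ) := by
  rintro _ ⟨n, rfl⟩
  refine ⟨n, ?_⟩
  change f ^ n = σ • (f ^ n)
  rw [smul_pow', hf]

/-- The action of `σ` on `A_(f)` for invariant `f`. -/
def τf (σ : G) (f : A) (hf : σ • f = f) : Away 𝒜 f →+* Away 𝒜 f :=
  HomogeneousLocalization.map (sg 𝒜 hGdeg σ) (powers_le 𝒜 hGdeg σ f hf)

lemma val_τf (σ : G) (f : A) (hf : σ • f = f) (x : Away 𝒜 f) :
    (τf 𝒜 hGdeg σ f hf x).val =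
      IsLocalization.map (Localization (Submonoid.powers f)) (MulSemiringAction.toRingHom G A σ)
        (powers_le 𝒜 hGdeg σ f hf) x.val :=
  val_map (sg 𝒜 hGdeg σ) _ x

lemma val_τf_mk (σ : G) (f : A) (hf : σ • f = f) {n : ℕ} (hfn : f ∈ 𝒜 n) (k : ℕ) (b : A)
    (hb : b ∈ 𝒜 (k • n)) :
    (τf 𝒜 hGdeg σ f hf (Away.mk 𝒜 hfn k b hb)).val =
      Localization.mk (σ • b) (⟨f ^ k, k, rfl⟩ : Submonoid.powers f) := by
  rw [val_τf, Away.val_mk, Localization.mk_eq_mk'_apply, IsLocalization.map_mk',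
    ← Localization.mk_eq_mk'_apply]
  congr 1
  apply Subtype.ext
  change σ • (f ^ k) = f ^ k
  rw [smul_pow', hf]

lemma val_θc_mk (c : C) {n : ℕ} (hc : c ∈ 𝒞 n) (k : ℕ) (a : C) (ha : a ∈ 𝒞 (k • n)) :
    (θc 𝒜 𝒞 ι hιdeg c (Away.mk 𝒞 hc k a ha)).val =
      Localization.mk (ι a) (⟨ι c ^ k, k, rfl⟩ : Submonoid.powers (ι c)) := by
  rw [val_θc, Away.val_mk, Localization.mk_eq_mk'_apply, Localization.awayMap,
    IsLocalization.Away.map, IsLocalization.map_mk', ← Localization.mk_eq_mk'_apply]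
  congr 1
  apply Subtype.ext
  change ι (c ^ k) = ι c ^ k
  rw [map_pow]

include hιdeg in
lemma θc_injective (hι : Function.Injective ι) (c : C) :
    Function.Injective (θc 𝒜 𝒞 ι hιdeg c) := by
  intro x y hxy
  apply HomogeneousLocalization.val_injective
  have h1 := congrArg HomogeneousLocalization.val hxy
  rw [val_θc, val_θc] at h1
  refine (Localization.awayMap_injective_iff.mpr ?_) h1
  intro a ha
  have : a = 0 := hι (by rw [map_zero]; exact ha)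
  exact ⟨0, by rw [this, mul_zero]⟩

lemma τf_θc (c : C) {n : ℕ} (hc : c ∈ 𝒞 n) (σ : G) (x : Away 𝒞 c) :
    τf 𝒜 hGdeg σ (ι c) (ι_inv 𝒜 𝒞 ι hιdeg hc σ) (θc 𝒜 𝒞 ι hιdeg c x) = θc 𝒜 𝒞 ι hιdeg c x := by
  obtain ⟨k, a, ha, rfl⟩ := Away.mk_surjective 𝒞 hc x
  apply HomogeneousLocalization.val_injective
  have e : θc 𝒜 𝒞 ι hιdeg c (Away.mk 𝒞 hc k a ha) =
      Away.mk 𝒜 (ι_mem 𝒜 𝒞 ι hιdeg hc) k (ι a) (ι_mem 𝒜 𝒞 ι hιdeg ha) := by
    apply HomogeneousLocalization.val_injective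
    rw [val_θc_mk, Away.val_mk]
  rw [e, val_τf_mk, Away.val_mk, ι_inv 𝒜 𝒞 ι hιdeg ha σ]

include hιdeg in
lemma mem_range_θc [Finite G] (c : C) {n : ℕ} (hc : c ∈ 𝒞 n) (y : Away 𝒜 (ι c))
    (hy : ∀ σ : G, τf 𝒜 hGdeg σ (ι c) (ι_inv 𝒜 𝒞 ι hιdeg hc σ) y = y) :
    y ∈ Set.range (θc 𝒜 𝒞 ι hιdeg c) := by
  classical
  haveI := Fintype.ofFinite G
  have hιc := ι_mem 𝒜 𝒞 ι hιdeg hc
  obtain ⟨k, b, hb, rfl⟩ := Away.mk_surjective 𝒜 hιc y
  have h1 : ∀ σ : G, ∃ m : ℕ, ι c ^ m * (σ • b) = ι c ^ m * b := by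
    intro σ
    have h := congrArg HomogeneousLocalization.val (hy σ)
    rw [val_τf_mk, Away.val_mk, Localization.mk_eq_mk_iff, Localization.r_iff_exists] at h
    obtain ⟨⟨_, m, rfl⟩, hm⟩ := h
    refine ⟨m + k, ?_⟩
    simp only at hm
    rw [pow_add, mul_assoc, mul_assoc]
    exact hm
  choose m hm using h1
  obtain ⟨M, hM⟩ : ∃ M : ℕ, ∀ σ, m σ ≤ M := ⟨Finset.univ.sup m, fun σ => Finset.le_sup (Finset.mem_univ σ)⟩
  have h2 : ∀ σ : G, σ • (ι c ^ M * b) = ι c ^ M * b := by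
    intro σ
    rw [smul_mul', smul_pow', ι_inv 𝒜 𝒞 ι hιdeg hc σ, ← Nat.sub_add_cancel (hM σ), pow_add,
      mul_assoc, hm σ, mul_assoc]
  have h3 : ι c ^ M * b ∈ 𝒜 ((M + k) • n) := by
    rw [add_smul]
    exact SetLike.mul_mem_graded (SetLike.pow_mem_graded M hιc) hb
  obtain ⟨a', ha', ha'b⟩ := (hιdeg ((M + k) • n) (ι c ^ M * b)).mpr ⟨h3, h2⟩
  refine ⟨Away.mk 𝒞 hc (M + k) a' ha', ?_⟩
  apply HomogeneousLocalization.val_injective
  rw [val_θc_mk, Away.val_mk, Localization.mk_eq_mk_iff, Localization.r_iff_exists]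
  refine ⟨1, ?_⟩
  have : ι a' = ι c ^ M * b := ha'b
  simp only [OneMemClass.coe_one, one_mul, this]
  ring

end setting

end Groth.Agent.Lib.ProjQuotH6
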