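import Mathlib
import Groth.Agent.Lib.ProjQuot2_helper6

/-!
# Invariant homogeneous elements avoiding a prime (helper6)
-/

set_option backward.isDefEq.respectTransparency false
set_option backward.isDefEq.respectTransparency.types false
set_option autoImplicit false

universe u

open HomogeneousLocalization

namespace Groth.Agent.Lib.ProjQuotH6

variable {R A : Type u} [CommRing R] [CommRing A] [Algebra R A] (𝒜 : ℕ → Submodule R A)
  [GradedAlgebra 𝒜] {G : Type u} [Group G] [MulSemiringAction G A]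
  (hGdeg : ∀ (σ : G) (i : ℕ) (a : A), a ∈ 𝒜 i → σ • a ∈ 𝒜 i)
  {C : Type u} [CommRing C] [Algebra R C] (𝒞 : ℕ → Submodule R C) [GradedAlgebra 𝒞]
  (ι : C →ₐ[R] A)
  (hιdeg : ∀ (i : ℕ) (a : A), a ∈ (𝒞 i).map ι.toLinearMap ↔ (a ∈ 𝒜 i ∧ ∀ σ : G, σ • a = a))

include hGdeg in
lemma smul_decompose (σ : G) (a : A) (i : ℕ) :
    σ • (DirectSum.decompose 𝒜 a i : A) = (DirectSum.decompose 𝒜 (σ • a) i : A) := by
  have := GradedRingHom.map_directSumDecompose (𝒜 := 𝒜) (ℬ := 𝒜) (sg 𝒜 hGdeg σ) (x := a) (i := i)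
  exact this

include hGdeg hιdeg in
/-- A prime not containing a homogeneous element of positive degree does not contain some
invariant homogeneous element of positive degree. -/
lemma exists_invariant_not_mem [Finite G] (p : Ideal A) [p.IsPrime]
    {n : ℕ} (hn : 0 < n) {f : A} (hf : f ∈ 𝒜 n) (hfp : f ∉ p) :
    ∃ (m : ℕ) (c : C), 0 < m ∧ c ∈ 𝒞 m ∧ ι c ∉ p := by
  classical
  haveI := Fintype.ofFinite G
  by_contra hcon
  push_neg at hcon
  apply hfp
  set P := MulSemiringAction.charpoly G f with hP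
  set N := P.natDegree with hN
  have hmonic : P.Monic := MulSemiringAction.monic_charpoly G f
  have h0 : P.eval f = 0 := MulSemiringAction.eval_charpoly G f
  rw [Polynomial.eval_eq_sum_range, Finset.sum_range_succ, hmonic.coeff_natDegree, one_mul] at h0
  have h1 := congrArg (GradedRing.proj 𝒜 (N * n)) h0
  rw [map_add, map_sum, map_zero] at h1
  have hfN : f ^ N ∈ 𝒜 (N * n) := by
    have := SetLike.pow_mem_graded N hf
    rwa [smul_eq_mul] at this
  have h2 : GradedRing.proj 𝒜 (N * n) (f ^ N) = f ^ N := by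
    rw [GradedRing.proj_apply, DirectSum.decompose_of_mem_same 𝒜 hfN]
  rw [h2] at h1
  have h3 : ∀ j ∈ Finset.range N, GradedRing.proj 𝒜 (N * n) (P.coeff j * f ^ j) ∈ p := by
    intro j hj
    have hjN : j < N := Finset.mem_range.mp hj
    have hfj : f ^ j ∈ 𝒜 (j * n) := by
      have := SetLike.pow_mem_graded j hf
      rwa [smul_eq_mul] at this
    have hle : j * n ≤ N * n := Nat.mul_le_mul_right n hjN.le
    rw [GradedRing.proj_apply, DirectSum.coe_decompose_mul_of_right_mem_of_le 𝒜 hfj hle]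
    apply Ideal.mul_mem_right
    have hpos : 0 < N * n - j * n := by
      rw [← Nat.sub_mul]
      exact Nat.mul_pos (Nat.sub_pos_of_lt hjN) hn
    have hinv : ∀ σ : G, σ • (DirectSum.decompose 𝒜 (P.coeff j) (N * n - j * n) : A) =
        (DirectSum.decompose 𝒜 (P.coeff j) (N * n - j * n) : A) := by
      intro σ
      rw [smul_decompose 𝒜 hGdeg, MulSemiringAction.smul_coeff_charpoly]
    obtain ⟨c, hc, hcb⟩ := (hιdeg (N * n - j * n) _).mpr ⟨SetLike.coe_mem _, hinv⟩
    have := hcon _ c hpos hc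
    have e : ι c = (DirectSum.decompose 𝒜 (P.coeff j) (N * n - j * n) : A) := hcb
    rwa [e] at this
  have h4 : f ^ N ∈ p := by
    have : f ^ N = - ∑ j ∈ Finset.range N, GradedRing.proj 𝒜 (N * n) (P.coeff j * f ^ j) := by
      rw [eq_neg_iff_add_eq_zero, add_comm]
      exact h1
    rw [this]
    exact neg_mem (Ideal.sum_mem _ h3)
  exact Ideal.IsPrime.mem_of_pow_mem inferInstance N h4

end Groth.Agent.Lib.ProjQuotH6
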