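import Mathlib
import Groth.Agent.Lib.ProjQuot1_helper6
import Groth.Agent.Lib.ProjQuot3_helper6

/-!
# `Proj B ⟶ Proj B^G` is a quotient (helper6)
-/

set_option backward.isDefEq.respectTransparency false
set_option backward.isDefEq.respectTransparency.types false
set_option autoImplicit false

universe u

open HomogeneousLocalization CategoryTheory CategoryTheory.Limits AlgebraicGeometry

namespace Groth.Agent.Lib.ProjQuotH6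

variable {R A : Type u} [CommRing R] [CommRing A] [Algebra R A] (𝒜 : ℕ → Submodule R A)
  [GradedAlgebra 𝒜] {G : Type u} [Group G] [MulSemiringAction G A]
  (hGdeg : ∀ (σ : G) (i : ℕ) (a : A), a ∈ 𝒜 i → σ • a ∈ 𝒜 i)
  {C : Type u} [CommRing C] [Algebra R C] (𝒞 : ℕ → Submodule R C) [GradedAlgebra 𝒞]
  (ι : C →ₐ[R] A)
  (hιdeg : ∀ (i : ℕ) (a : A), a ∈ (𝒞 i).map ι.toLinearMap ↔ (a ∈ 𝒜 i ∧ ∀ σ : G, σ • a = a))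

section tau

lemma τf_mk (σ : G) (f : A) (hf : σ • f = f) {n : ℕ} (hfn : f ∈ 𝒜 n) (k : ℕ) (b : A)
    (hb : b ∈ 𝒜 (k • n)) :
    τf 𝒜 hGdeg σ f hf (Away.mk 𝒜 hfn k b hb) = Away.mk 𝒜 hfn k (σ • b) (hGdeg σ _ _ hb) := by
  apply HomogeneousLocalization.val_injective
  rw [val_τf_mk, Away.val_mk]

lemma τf_one (f : A) {n : ℕ} (hfn : f ∈ 𝒜 n) (h1 : (1 : G) • f = f) :
    τf 𝒜 hGdeg 1 f h1 = RingHom.id _ := by
  ext x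
  obtain ⟨k, b, hb, rfl⟩ := Away.mk_surjective 𝒜 hfn x
  rw [τf_mk]
  simp only [one_smul, RingHom.id_apply]

lemma τf_mul (σ σ' : G) (f : A) {n : ℕ} (hfn : f ∈ 𝒜 n) (h : σ • f = f) (h' : σ' • f = f)
    (h'' : (σ * σ') • f = f) :
    τf 𝒜 hGdeg (σ * σ') f h'' = (τf 𝒜 hGdeg σ f h).comp (τf 𝒜 hGdeg σ' f h') := by
  ext x
  obtain ⟨k, b, hb, rfl⟩ := Away.mk_surjective 𝒜 hfn x
  rw [RingHom.comp_apply, τf_mk, τf_mk, τf_mk]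
  simp only [mul_smul]

end tau

section chartAction

variable {n : ℕ} (f : A) (hfn : f ∈ 𝒜 n) (hinv : ∀ σ : G, σ • f = f)

/-- `Spec` of the action of `σ` on `A_(f)`. -/
noncomputable abbrev specτ (σ : G) :
    Spec (CommRingCat.of (Away 𝒜 f)) ⟶ Spec (CommRingCat.of (Away 𝒜 f)) :=
  Spec.map (CommRingCat.ofHom (τf 𝒜 hGdeg σ f (hinv σ)))

include hfn in
lemma specτ_mul (σ σ' : G) :
    specτ 𝒜 hGdeg f hinv (σ * σ') = specτ 𝒜 hGdeg f hinv σ ≫ specτ 𝒜 hGdeg f hinv σ' := by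
  unfold specτ
  rw [← Spec.map_comp, τf_mul 𝒜 hGdeg σ σ' f hfn (hinv σ) (hinv σ')]
  rfl

include hfn in
lemma specτ_one : specτ 𝒜 hGdeg f hinv 1 = 𝟙 _ := by
  unfold specτ
  rw [τf_one 𝒜 hGdeg f hfn]
  exact Spec.map_id _

/-- The action of `G` on the chart `Spec A_(f)` for invariant `f`. -/
noncomputable def ρc : G →* Aut (Spec (CommRingCat.of (Away 𝒜 f))) :=
  MonoidHom.mk' (fun σ =>
    { hom := specτ 𝒜 hGdeg f hinv σ⁻¹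
      inv := specτ 𝒜 hGdeg f hinv σ
      hom_inv_id := by rw [← specτ_mul 𝒜 hGdeg f hfn, inv_mul_cancel, specτ_one 𝒜 hGdeg f hfn]
      inv_hom_id := by rw [← specτ_mul 𝒜 hGdeg f hfn, mul_inv_cancel, specτ_one 𝒜 hGdeg f hfn] })
    (fun σ σ' => by
      apply Iso.ext
      change specτ 𝒜 hGdeg f hinv (σ * σ')⁻¹ =
        specτ 𝒜 hGdeg f hinv σ'⁻¹ ≫ specτ 𝒜 hGdeg f hinv σ⁻¹
      rw [mul_inv_rev, specτ_mul 𝒜 hGdeg f hfn])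

lemma ρc_inv (σ : G) : (ρc 𝒜 hGdeg f hfn hinv σ).inv = specτ 𝒜 hGdeg f hinv σ := rfl

lemma ρc_hom (σ : G) : (ρc 𝒜 hGdeg f hfn hinv σ).hom = specτ 𝒜 hGdeg f hinv σ⁻¹ := rfl

end chartAction

section main

variable (ρ : G →* Aut (Proj 𝒜))
  (hρ : ∀ (σ : G) (n : ℕ) (f : A) (hn : 0 < n) (hf : f ∈ 𝒜 n)
    (θ : CommRingCat.of (HomogeneousLocalization.Away 𝒜 f) ⟶
      CommRingCat.of (HomogeneousLocalization.Away 𝒜 (σ • f))),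
    (algebraMap (HomogeneousLocalization.Away 𝒜 (σ • f)) (Localization.Away (σ • f))).comp θ.hom =
      (Localization.awayMap (MulSemiringAction.toRingHom G A σ) f).comp
        (algebraMap (HomogeneousLocalization.Away 𝒜 f) (Localization.Away f)) →
    Proj.awayι 𝒜 (σ • f) (hGdeg σ n f hf) hn ≫ (ρ σ).inv = Spec.map θ ≫ Proj.awayι 𝒜 f hf hn)
  (π : Proj 𝒜 ⟶ Proj 𝒞)
  (hπ : ∀ (n : ℕ) (c : C) (hn : 0 < n) (hc : c ∈ 𝒞 n)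
    (θ : CommRingCat.of (HomogeneousLocalization.Away 𝒞 c) ⟶
      CommRingCat.of (HomogeneousLocalization.Away 𝒜 (ι c))),
    (algebraMap (HomogeneousLocalization.Away 𝒜 (ι c)) (Localization.Away (ι c))).comp θ.hom =
      (Localization.awayMap ι.toRingHom c).comp
        (algebraMap (HomogeneousLocalization.Away 𝒞 c) (Localization.Away c)) →
    Proj.awayι 𝒜 (ι c) ((hιdeg n (ι c)).mp (Submodule.mem_map_of_mem hc)).1 hn ≫ π =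
      Spec.map θ ≫ Proj.awayι 𝒞 c hc hn)

include hρ in
lemma hρ_gen (σ : G) (n : ℕ) (f : A) (hn : 0 < n) (hf : f ∈ 𝒜 n) (f' : A) (e : σ • f = f')
    (hf' : f' ∈ 𝒜 n)
    (h : Submonoid.powers f ≤ (Submonoid.powers f').comap (MulSemiringAction.toRingHom G A σ))
    (θ : CommRingCat.of (Away 𝒜 f) ⟶ CommRingCat.of (Away 𝒜 f'))
    (hθ : ∀ x, (θ.hom x).val = IsLocalization.map (Localization (Submonoid.powers f'))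
      (MulSemiringAction.toRingHom G A σ) h x.val) :
    Proj.awayι 𝒜 f' hf' hn ≫ (ρ σ).inv = Spec.map θ ≫ Proj.awayι 𝒜 f hf hn := by
  subst e
  apply hρ σ n f hn hf θ
  ext x
  exact hθ x

include hρ in
lemma awayι_ρ_inv (σ : G) {n : ℕ} (f : A) (hn : 0 < n) (hf : f ∈ 𝒜 n) (hinv : ∀ σ : G, σ • f = f) :
    Proj.awayι 𝒜 f hf hn ≫ (ρ σ).inv = specτ 𝒜 hGdeg f hinv σ ≫ Proj.awayι 𝒜 f hf hn :=
  hρ_gen 𝒜 hGdeg ρ hρ σ n f hn hf f (hinv σ) hf (powers_le 𝒜 hGdeg σ f (hinv σ)) _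
    (fun x => val_τf 𝒜 hGdeg σ f (hinv σ) x)

include hρ in
lemma ρc_equivariant (σ : G) {n : ℕ} (f : A) (hn : 0 < n) (hf : f ∈ 𝒜 n)
    (hinv : ∀ σ : G, σ • f = f) :
    (ρc 𝒜 hGdeg f hf hinv σ).hom ≫ Proj.awayι 𝒜 f hf hn =
      Proj.awayι 𝒜 f hf hn ≫ (ρ σ).hom := by
  rw [ρc_hom, aut_hom_eq_inv_inv ρ σ, awayι_ρ_inv 𝒜 hGdeg ρ hρ σ⁻¹ f hn hf hinv]

include hπ in
lemma awayι_π {n : ℕ} (c : C) (hn : 0 < n) (hc : c ∈ 𝒞 n) :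
    Proj.awayι 𝒜 (ι c) (ι_mem 𝒜 𝒞 ι hιdeg hc) hn ≫ π =
      Spec.map (CommRingCat.ofHom (θc 𝒜 𝒞 ι hιdeg c)) ≫ Proj.awayι 𝒞 c hc hn := by
  apply hπ n c hn hc
  ext x
  exact val_θc 𝒜 𝒞 ι hιdeg c x

include hιdeg in
lemma isQuot_chart [Finite G] (hι : Function.Injective ι) {n : ℕ} (c : C) (hc : c ∈ 𝒞 n) :
    SGA1.IsQuot (ρc 𝒜 hGdeg (ι c) (ι_mem 𝒜 𝒞 ι hιdeg hc) (ι_inv 𝒜 𝒞 ι hιdeg hc))
      (Spec.map (CommRingCat.ofHom (θc 𝒜 𝒞 ι hιdeg c))) := by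
  refine isQuot_Spec (CommRingCat.ofHom (θc 𝒜 𝒞 ι hιdeg c))
    (fun σ => CommRingCat.ofHom (τf 𝒜 hGdeg σ (ι c) (ι_inv 𝒜 𝒞 ι hιdeg hc σ))) _
    (fun σ => rfl) ?_ ?_ ?_
  · exact θc_injective 𝒜 𝒞 ι hιdeg hι c
  · intro σ
    apply CommRingCat.hom_ext
    apply RingHom.ext
    intro x
    exact τf_θc 𝒜 hGdeg 𝒞 ι hιdeg c hc σ x
  · intro y hy
    exact mem_range_θc 𝒜 hGdeg 𝒞 ι hιdeg c hc y hy

include hGdeg hιdeg in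
lemma exists_chart [Finite G] (x : Proj 𝒜) :
    ∃ (n : ℕ) (c : C) (hn : 0 < n) (hc : c ∈ 𝒞 n),
      x ∈ (Proj.awayι 𝒜 (ι c) (ι_mem 𝒜 𝒞 ι hιdeg hc) hn).opensRange := by
  obtain ⟨i, hx⟩ : ∃ i, x ∈ ((Proj.affineOpenCover 𝒜).f i).opensRange :=
    ⟨_, (Proj.affineOpenCover 𝒜).covers x⟩
  replace hx : x ∈ (Proj.awayι 𝒜 (i.2 : A) i.2.2 i.1.2).opensRange := hx
  rw [Proj.opensRange_awayι, Proj.mem_basicOpen] at hx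
  haveI : (x.asHomogeneousIdeal.toIdeal).IsPrime := x.isPrime
  obtain ⟨m, c, hm, hc, hcx⟩ := exists_invariant_not_mem 𝒜 hGdeg 𝒞 ι hιdeg
    x.asHomogeneousIdeal.toIdeal i.1.2 i.2.2 hx
  refine ⟨m, c, hm, hc, ?_⟩
  rw [Proj.opensRange_awayι, Proj.mem_basicOpen]
  exact hcx

lemma θc_isLocalizationElem {n n' : ℕ} (c c' : C) (hc : c ∈ 𝒞 n) (hc' : c' ∈ 𝒞 n') :
    θc 𝒜 𝒞 ι hιdeg c' (Away.isLocalizationElem hc' hc) =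
      Away.isLocalizationElem (ι_mem 𝒜 𝒞 ι hιdeg hc') (ι_mem 𝒜 𝒞 ι hιdeg hc) := by
  apply HomogeneousLocalization.val_injective
  unfold Away.isLocalizationElem
  rw [val_θc_mk, Away.val_mk, map_pow]

include hGdeg hπ in
lemma π_preimage_basicOpen [Finite G] {n : ℕ} (c : C) (hn : 0 < n) (hc : c ∈ 𝒞 n) :
    π ⁻¹ᵁ (Proj.basicOpen 𝒞 c) = Proj.basicOpen 𝒜 (ι c) := by
  ext x
  obtain ⟨n', c', hn', hc', z, rfl⟩ := exists_chart 𝒜 hGdeg 𝒞 ι hιdeg x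
  have h1 : (Proj.awayι 𝒜 (ι c') (ι_mem 𝒜 𝒞 ι hιdeg hc') hn') ⁻¹ᵁ (π ⁻¹ᵁ (Proj.basicOpen 𝒞 c)) =
      (Proj.awayι 𝒜 (ι c') (ι_mem 𝒜 𝒞 ι hιdeg hc') hn') ⁻¹ᵁ (Proj.basicOpen 𝒜 (ι c)) := by
    rw [← Scheme.Hom.comp_preimage, awayι_π 𝒜 𝒞 ι hιdeg π hπ c' hn' hc', Scheme.Hom.comp_preimage,
      Proj.awayι_preimage_basicOpen 𝒞 hc' hn' hc hn, SpecMap_preimage_basicOpen,
      Proj.awayι_preimage_basicOpen 𝒜 (ι_mem 𝒜 𝒞 ι hιdeg hc') hn' (ι_mem 𝒜 𝒞 ι hιdeg hc) hn]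
    congr 1
    exact θc_isLocalizationElem 𝒜 𝒞 ι hιdeg c c' hc hc'
  have h2 := congrArg (fun U : (Spec (CommRingCat.of (Away 𝒜 (ι c')))).Opens => z ∈ U) h1
  exact h2 ▸ Iff.rfl

lemma hom_ext_of_openImmersions {X Y : Scheme.{u}} (F F' : X ⟶ Y)
    (H : ∀ x : X, ∃ (Z : Scheme.{u}) (a : Z ⟶ X) (_ : IsOpenImmersion a),
      x ∈ a.opensRange ∧ a ≫ F = a ≫ F') : F = F' := by
  apply Scheme.hom_ext_of_forall
  intro x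
  obtain ⟨Z, a, ha, hx, hF⟩ := H x
  refine ⟨a.opensRange, hx, ?_⟩
  rw [← cancel_epi a.isoOpensRange.hom, ← Category.assoc, ← Category.assoc,
    Scheme.Hom.isoOpensRange_hom_ι]
  exact hF

include hρ hπ in
lemma ρ_π [Finite G] (σ : G) : (ρ σ).hom ≫ π = π := by
  apply hom_ext_of_openImmersions
  intro x
  obtain ⟨n, c, hn, hc, hx⟩ := exists_chart 𝒜 hGdeg 𝒞 ι hιdeg x
  refine ⟨_, Proj.awayι 𝒜 (ι c) (ι_mem 𝒜 𝒞 ι hιdeg hc) hn, inferInstance, hx, ?_⟩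
  rw [← Category.assoc, ← ρc_equivariant 𝒜 hGdeg ρ hρ σ (ι c) hn (ι_mem 𝒜 𝒞 ι hιdeg hc)
    (ι_inv 𝒜 𝒞 ι hιdeg hc), Category.assoc, awayι_π 𝒜 𝒞 ι hιdeg π hπ c hn hc, ← Category.assoc]
  congr 1
  rw [ρc_hom]
  unfold specτ
  rw [← Spec.map_comp]
  congr 1
  apply CommRingCat.hom_ext
  apply RingHom.ext
  intro y
  exact τf_θc 𝒜 hGdeg 𝒞 ι hιdeg c hc σ⁻¹ y

include hρ hπ in
/-- `π : Proj 𝒜 ⟶ Proj 𝒞` is a quotient by `G`. -/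
theorem isQuot_proj [Finite G] (hι : Function.Injective ι) : SGA1.IsQuot ρ π := by
  refine GQuotH6.isQuot_of_charts ρ π (ρ_π 𝒜 hGdeg 𝒞 ι hιdeg ρ hρ π hπ) ?_
  intro y
  obtain ⟨i, hy⟩ : ∃ i, y ∈ ((Proj.affineOpenCover 𝒞).f i).opensRange :=
    ⟨_, (Proj.affineOpenCover 𝒞).covers y⟩
  replace hy : y ∈ (Proj.awayι 𝒞 (i.2 : C) i.2.2 i.1.2).opensRange := hy
  refine ⟨(Proj.awayι 𝒞 (i.2 : C) i.2.2 i.1.2).opensRange, hy, ?_⟩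
  refine ⟨_, _, Proj.awayι 𝒜 (ι (i.2 : C)) (ι_mem 𝒜 𝒞 ι hιdeg i.2.2) i.1.2,
    Proj.awayι 𝒞 (i.2 : C) i.2.2 i.1.2,
    Spec.map (CommRingCat.ofHom (θc 𝒜 𝒞 ι hιdeg (i.2 : C))),
    ρc 𝒜 hGdeg (ι (i.2 : C)) (ι_mem 𝒜 𝒞 ι hιdeg i.2.2) (ι_inv 𝒜 𝒞 ι hιdeg i.2.2),
    inferInstance, inferInstance, ?_, ?_, ?_, ?_⟩
  · refine IsOpenImmersion.isPullback _ _ _ _ (awayι_π 𝒜 𝒞 ι hιdeg π hπ _ i.1.2 i.2.2) ?_
    rw [Proj.opensRange_awayι, Proj.opensRange_awayι]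
    exact π_preimage_basicOpen 𝒜 hGdeg 𝒞 ι hιdeg π hπ _ i.1.2 i.2.2
  · intro σ
    exact ρc_equivariant 𝒜 hGdeg ρ hρ σ _ i.1.2 _ _
  · intro z hz
    exact hz
  · exact isQuot_chart 𝒜 hGdeg 𝒞 ι hιdeg hι _ i.2.2

end main

end Groth.Agent.Lib.ProjQuotH6
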