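import Mathlib

/-!
# Algebra for "separates points and tangent vectors" (helper2)
APPEND-ONLY once landed.
-/

set_option autoImplicit false
universe u

namespace Groth.Agent.Lib.SepTanH2

section FreeGen
variable {R M : Type*} [CommRing R] [AddCommGroup M] [Module R M]

/-- `t` is a free generator of `M`. -/
structure FreeGen (t : M) : Prop where
  span : ∀ z : M, ∃ a : R, z = a • t
  inj : ∀ a : R, a • t = 0 → a = 0

variable {t : M} (ht : FreeGen (R := R) t)
include ht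

/-- The linear equivalence `R ≃ M`, `a ↦ a • t`. -/
noncomputable def FreeGen.equiv : R ≃ₗ[R] M :=
  LinearEquiv.ofBijective (LinearMap.toSpanSingleton R M t)
    ⟨by
      intro a b hab
      have h1 : (a - b) • t = 0 := by
        rw [sub_smul]
        exact sub_eq_zero.mpr hab
      exact sub_eq_zero.mp (ht.inj _ h1),
     by
      intro z
      obtain ⟨a, rfl⟩ := ht.span z
      exact ⟨a, rfl⟩⟩

theorem FreeGen.equiv_apply (a : R) : ht.equiv a = a • t := rfl

theorem FreeGen.map_ideal (I : Ideal R) :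
    Submodule.map (ht.equiv : R →ₗ[R] M) I = I • (⊤ : Submodule R M) := by
  have h1 : (I : Submodule R R) = I • (⊤ : Submodule R R) := by
    rw [Ideal.smul_top_eq_map]
    simp
  conv_lhs => rw [h1]
  rw [Submodule.map_smul'', Submodule.map_top, LinearMap.range_eq_top.mpr ht.equiv.surjective]

theorem FreeGen.smul_mem_iff (I : Ideal R) (a : R) :
    a • t ∈ I • (⊤ : Submodule R M) ↔ a ∈ I := by
  rw [← ht.map_ideal I]
  constructor
  · rintro ⟨b, hb, hbt⟩
    have : b = a := ht.equiv.injective hbt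
    exact this ▸ hb
  · intro ha
    exact ⟨a, ha, rfl⟩

theorem FreeGen.le_iff (I J : Ideal R) (S : Set R) :
    I • (⊤ : Submodule R M) ≤ Submodule.span R ((fun a => a • t) '' S) ⊔ J • (⊤ : Submodule R M) ↔
      I ≤ Ideal.span S ⊔ J := by
  rw [← ht.map_ideal I, ← ht.map_ideal J]
  have h2 : Submodule.span R ((fun a => a • t) '' S) =
      Submodule.map (ht.equiv : R →ₗ[R] M) (Ideal.span S) := by
    rw [Ideal.span, Submodule.map_span]
    rfl
  rw [h2, ← Submodule.map_sup]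
  exact Submodule.map_le_map_iff_of_injective ht.equiv.injective _ _

end FreeGen

section Surj

/-- A finite ring homomorphism which is surjective modulo every maximal ideal of the source is
surjective. -/
theorem surjective_of_maximal {A B : Type*} [CommRing A] [CommRing B] (φ : A →+* B)
    (hφ : φ.Finite)
    (h : ∀ 𝔪 : Ideal A, 𝔪.IsMaximal → ∀ b : B, ∃ a : A, b - φ a ∈ 𝔪.map φ) :
    Function.Surjective φ := by
  algebraize [φ]
  let N : Submodule A B := LinearMap.range (Algebra.linearMap A B)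
  have hQ : ∀ 𝔪 : Ideal A, 𝔪.IsMaximal →
      (⊤ : Submodule A (B ⧸ N)) ≤ 𝔪 • (⊤ : Submodule A (B ⧸ N)) := by
    intro 𝔪 h𝔪 z _
    obtain ⟨b, rfl⟩ := N.mkQ_surjective z
    obtain ⟨a, ha⟩ := h 𝔪 h𝔪 b
    have h1 : N.mkQ b = N.mkQ (b - φ a) := by
      rw [map_sub]
      have : N.mkQ (φ a) = 0 := by
        rw [Submodule.mkQ_apply, Submodule.Quotient.mk_eq_zero]
        exact ⟨a, rfl⟩
      rw [this, sub_zero]
    rw [h1]
    have h2 : b - φ a ∈ 𝔪 • (⊤ : Submodule A B) := by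
      rw [Ideal.smul_top_eq_map]
      exact ha
    have h3 : Submodule.map N.mkQ (𝔪 • (⊤ : Submodule A B)) ≤ 𝔪 • (⊤ : Submodule A (B ⧸ N)) := by
      rw [Submodule.map_smul'']
      exact Submodule.smul_mono le_rfl le_top
    exact h3 ⟨_, h2, rfl⟩
  have hsub : Subsingleton (B ⧸ N) := by
    by_contra hns
    have hne : Module.annihilator A (B ⧸ N) ≠ ⊤ := by
      intro h0
      exact hns (Module.annihilator_eq_top_iff.mp h0)
    obtain ⟨𝔪, h𝔪, hle⟩ := Ideal.exists_le_maximal _ hne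
    obtain ⟨r, hr1, hr2⟩ := Submodule.exists_sub_one_mem_and_smul_eq_zero_of_fg_of_le_smul 𝔪
      (⊤ : Submodule A (B ⧸ N)) Module.Finite.fg_top (hQ 𝔪 h𝔪)
    have hr : r ∈ 𝔪 := hle (Module.mem_annihilator.mpr fun n => hr2 n trivial)
    have h1 : (1 : A) ∈ 𝔪 := by
      have := 𝔪.sub_mem hr hr1
      rwa [sub_sub_cancel] at this
    exact h𝔪.ne_top ((Ideal.eq_top_iff_one _).mpr h1)
  have hN : N = ⊤ := Submodule.Quotient.subsingleton_iff.mp hsub
  intro b
  have hb : b ∈ N := hN ▸ Submodule.mem_top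
  obtain ⟨a, ha⟩ := hb
  exact ⟨a, ha⟩

/-- Local algebra behind "separates tangent vectors": if `𝔫` is the only prime of `B` over the
maximal ideal `𝔪` of `A`, the residue field of `𝔫` is that of `𝔪`, and `𝔫 B_𝔫 = 𝔪 B_𝔫 + 𝔫² B_𝔫`, then
`A → B` is surjective modulo `𝔪`. -/
theorem exists_sub_mem_map {A B S : Type*} [CommRing A] [CommRing B] [CommRing S] [Algebra B S]
    (φ : A →+* B) (𝔪 : Ideal A) (𝔫 : Ideal B) [𝔫.IsPrime] [IsLocalization.AtPrime S 𝔫]
    [IsNoetherianRing B]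
    (huniq : ∀ 𝔮 : Ideal B, 𝔮.IsPrime → 𝔪.map φ ≤ 𝔮 → 𝔮 = 𝔫)
    (hres : ∀ b : B, ∃ a : A, b - φ a ∈ 𝔫)
    (htan : 𝔫.map (algebraMap B S) ≤
      (𝔪.map φ).map (algebraMap B S) ⊔ (𝔫.map (algebraMap B S)) ^ 2) :
    ∀ b : B, ∃ a : A, b - φ a ∈ 𝔪.map φ := by
  haveI : IsLocalRing S := IsLocalization.AtPrime.isLocalRing S 𝔫
  haveI : IsNoetherianRing S := IsLocalization.isNoetherianRing 𝔫.primeCompl S inferInstance
  have hmax : 𝔫.map (algebraMap B S) = IsLocalRing.maximalIdeal S :=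
    IsLocalization.AtPrime.map_eq_maximalIdeal 𝔫 S
  -- step a
  have ha : 𝔫.map (algebraMap B S) ≤ (𝔪.map φ).map (algebraMap B S) := by
    refine Submodule.le_of_le_smul_of_le_jacobson_bot (I := 𝔫.map (algebraMap B S))
      (IsNoetherian.noetherian _) ?_ ?_
    · rw [hmax, IsLocalRing.jacobson_eq_maximalIdeal ⊥ bot_ne_top]
    · rw [smul_eq_mul, ← sq]
      exact htan
  -- step b
  have hb : 𝔫 ≤ 𝔪.map φ := by
    intro b hbn
    have h1 : algebraMap B S b ∈ (𝔪.map φ).map (algebraMap B S) :=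
      ha (Ideal.mem_map_of_mem _ hbn)
    rw [IsLocalization.mem_map_algebraMap_iff 𝔫.primeCompl S] at h1
    obtain ⟨⟨⟨i, hi⟩, ⟨s, hs⟩⟩, h2⟩ := h1
    simp only at h2
    rw [← map_mul, IsLocalization.eq_iff_exists 𝔫.primeCompl S] at h2
    obtain ⟨⟨s', hs'⟩, h3⟩ := h2
    simp only at h3
    -- u = s' * s
    have hu : s' * s ∉ 𝔫 := fun h => (Ideal.IsPrime.mem_or_mem inferInstance h).elim hs' hs
    have hub : (s' * s) * b ∈ 𝔪.map φ := by
      have : (s' * s) * b = s' * i := by rw [← h3]; ring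
      rw [this]
      exact Ideal.mul_mem_left _ _ hi
    have htop : 𝔪.map φ ⊔ Ideal.span {s' * s} = ⊤ := by
      by_contra hne
      obtain ⟨𝔮, h𝔮, hle⟩ := Ideal.exists_le_maximal _ hne
      have := huniq 𝔮 h𝔮.isPrime (le_sup_left.trans hle)
      exact hu (this ▸ hle (Ideal.mem_sup_right (Ideal.mem_span_singleton_self _)))
    have h1' : (1 : B) ∈ 𝔪.map φ ⊔ Ideal.span {s' * s} := htop ▸ Submodule.mem_top
    obtain ⟨i', hi', j, hj, hij⟩ := Submodule.mem_sup.mp h1'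
    obtain ⟨c, rfl⟩ := Ideal.mem_span_singleton'.mp hj
    have : b = b * i' + c * ((s' * s) * b) := by
      calc b = b * 1 := (mul_one b).symm
        _ = b * (i' + c * (s' * s)) := by rw [hij]
        _ = b * i' + c * ((s' * s) * b) := by ring
    rw [this]
    exact Ideal.add_mem _ (Ideal.mul_mem_left _ _ hi') (Ideal.mul_mem_left _ _ hub)
  intro b
  obtain ⟨a, ha'⟩ := hres b
  exact ⟨a, hb ha'⟩

/-- Residue fields over an algebraically closed field: if every element of `A` is congruent to a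
constant modulo `𝔪`, `A → B` is integral and `𝔫` is a maximal ideal of `B` containing the image of `𝔪`,
then every element of `B` is congruent to a constant modulo `𝔫`. -/
theorem exists_const_sub_mem {k A B : Type*} [Field k] [IsAlgClosed k] [CommRing A] [CommRing B]
    (γ : k →+* A) (φ : A →+* B) (hφ : φ.IsIntegral) (𝔪 : Ideal A) (𝔫 : Ideal B) [h𝔫 : 𝔫.IsMaximal]
    (hle : 𝔪 ≤ 𝔫.comap φ) (hN : ∀ s : A, ∃ c : k, s - γ c ∈ 𝔪) :
    ∀ b : B, ∃ c : k, b - φ (γ c) ∈ 𝔫 := by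
  letI : Field (B ⧸ 𝔫) := Ideal.Quotient.field 𝔫
  let ι' : A →+* B ⧸ 𝔫 := (Ideal.Quotient.mk 𝔫).comp φ
  have hι' : ι'.IsIntegral :=
    RingHom.IsIntegral.trans _ _ hφ (RingHom.isIntegral_of_surjective _ Ideal.Quotient.mk_surjective)
  have hkill : ∀ a ∈ 𝔪, ι' a = 0 := by
    intro a ha
    exact Ideal.Quotient.eq_zero_iff_mem.mpr (hle ha)
  let ιbar : A ⧸ 𝔪 →+* B ⧸ 𝔫 := Ideal.Quotient.lift 𝔪 ι' hkill
  have hcomp : ιbar.comp (Ideal.Quotient.mk 𝔪) = ι' := by
    ext a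
    rfl
  have hιbar : ιbar.IsIntegral := by
    apply RingHom.IsIntegral.tower_top (Ideal.Quotient.mk 𝔪) ιbar
    rw [hcomp]
    exact hι'
  let σ : k →+* A ⧸ 𝔪 := (Ideal.Quotient.mk 𝔪).comp γ
  have hσ : Function.Surjective σ := by
    intro z
    obtain ⟨s, rfl⟩ := Ideal.Quotient.mk_surjective z
    obtain ⟨c, hc⟩ := hN s
    refine ⟨c, ?_⟩
    show Ideal.Quotient.mk 𝔪 (γ c) = Ideal.Quotient.mk 𝔪 s
    rw [eq_comm, ← sub_eq_zero, ← map_sub]
    exact Ideal.Quotient.eq_zero_iff_mem.mpr hc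
  have hι : (ιbar.comp σ).IsIntegral :=
    RingHom.IsIntegral.trans _ _ (RingHom.isIntegral_of_surjective _ hσ) hιbar
  have hbij := IsAlgClosed.ringHom_bijective_of_isIntegral (ιbar.comp σ) hι
  intro b
  obtain ⟨c, hc⟩ := hbij.2 (Ideal.Quotient.mk 𝔫 b)
  refine ⟨c, ?_⟩
  have h1 : Ideal.Quotient.mk 𝔫 (φ (γ c)) = Ideal.Quotient.mk 𝔫 b := hc
  rw [← Ideal.Quotient.eq_zero_iff_mem, map_sub, h1, sub_self]

end Surj

end Groth.Agent.Lib.SepTanH2
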