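import Mathlib
import Groth.Prelude
import Groth.Agent.Lib.ClProjIdeal1_helper2
import Groth.Agent.Lib.SecOrd1_helper8
import Groth.Agent.Lib.SepTan1_helper2
import Groth.Agent.Lib.ProjGlobal_helper9

/-!
# Germs of pulled-back sections of `O(1)` (helper2)
APPEND-ONLY once landed.
-/

set_option autoImplicit false
universe u
open CategoryTheory CategoryTheory.Limits AlgebraicGeometry TopologicalSpace Opposite DirectSum
open HomogeneousLocalization QcqsLoc GenLocH8 TensH8 PBH8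

namespace Groth.Agent.Lib.SepTanH2

open Groth.Agent.GrTw Groth.Agent.ProjUPU Groth.Agent.Lib.TwPullH2 Groth.Agent.Lib.ClProjIdealH2

section Germ
variable {A S : Type u} [CommRing A] [CommRing S] [Algebra A S] (𝒮 : ℕ → Submodule A S)
  [GradedAlgebra 𝒮] {X : Scheme.{u}} (r : X ⟶ Proj 𝒮)
  (hcov : ∀ x : Proj 𝒮, ∃ f ∈ 𝒮 1, x ∈ Proj.basicOpen 𝒮 f)

include hcov in
/-- Local description of the germs of the pulled-back sections of `O(1)` at a point over
`D_+(f)`. -/
theorem exists_local_data (x : X) {f : S} (hf : f ∈ 𝒮 1)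
    (hx : x ∈ r ⁻¹ᵁ Proj.basicOpen 𝒮 f) :
    ∃ t : ((Scheme.Modules.pullback r).obj (Twist.twist 𝒮 1)).presheaf.stalk x,
      FreeGen (R := X.presheaf.stalk x) t ∧
      ∀ (g : S) (hg : g ∈ 𝒮 1),
        (((Scheme.Modules.pullback r).obj (Twist.twist 𝒮 1)).presheaf.germ ⊤ x trivial).hom
          (ProjUP.pullSec r (Twist.twist 𝒮 1) (sig 𝒮 hg)) =
        (X.presheaf.germ (r ⁻¹ᵁ Proj.basicOpen 𝒮 f) x hx).hom (q 𝒮 r hf 1 g hg) • t := by
  have hgen := isGen_psec 𝒮 r hcov hf (le_rfl : r ⁻¹ᵁ Proj.basicOpen 𝒮 f ≤ _)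
  have h1 := SecOrdH8.stalk_gen hgen hx
  refine ⟨_, ⟨h1.1, h1.2⟩, ?_⟩
  intro g hg
  have h2 := psec_eq_smul 𝒮 r hf hg (le_rfl : r ⁻¹ᵁ Proj.basicOpen 𝒮 f ≤ _)
  have h3 : (((Scheme.Modules.pullback r).obj (Twist.twist 𝒮 1)).presheaf.germ ⊤ x trivial).hom
      (ProjUP.pullSec r (Twist.twist 𝒮 1) (sig 𝒮 hg)) =
      (((Scheme.Modules.pullback r).obj (Twist.twist 𝒮 1)).presheaf.germ
        (r ⁻¹ᵁ Proj.basicOpen 𝒮 f) x hx).hom
        (psec r (Twist.twist 𝒮 1) (sig 𝒮 hg) (r ⁻¹ᵁ Proj.basicOpen 𝒮 f)) :=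
    (SecOrdH8.germ_rF _ le_top x hx _).symm
  rw [h3, h2, Groth.Agent.Lib.QCohLoc_helper4.germ_smul]
  congr 2
  unfold q
  rw [Scheme.Hom.app_eq_appLE]
  rfl

include hcov in
/-- The germ at `x` of the pulled-back section `g` of `O(1)` lies in `𝔪_x L_x` iff `g` vanishes at
`r x`. -/
theorem germ_mem_iff (x : X) {g : S} (hg : g ∈ 𝒮 1) :
    (((Scheme.Modules.pullback r).obj (Twist.twist 𝒮 1)).presheaf.germ ⊤ x trivial).hom
        (ProjUP.pullSec r (Twist.twist 𝒮 1) (sig 𝒮 hg)) ∈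
      IsLocalRing.maximalIdeal (X.presheaf.stalk x) •
        (⊤ : Submodule (X.presheaf.stalk x)
          (((Scheme.Modules.pullback r).obj (Twist.twist 𝒮 1)).presheaf.stalk x)) ↔
      r x ∉ Proj.basicOpen 𝒮 g := by
  obtain ⟨f, hf, hxf⟩ := hcov (r x)
  have hx : x ∈ r ⁻¹ᵁ Proj.basicOpen 𝒮 f := hxf
  obtain ⟨t, ht, hdata⟩ := exists_local_data 𝒮 r hcov x hf hx
  rw [hdata g hg, ht.smul_mem_iff, IsLocalRing.mem_maximalIdeal, mem_nonunits_iff,
    ← Scheme.mem_basicOpen _ _ _ hx, basicOpen_q]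
  constructor
  · intro h h'
    exact h ⟨hxf, h'⟩
  · intro h h'
    exact h h'.2

end Germ

section PullLin
variable {X Y : Scheme.{u}} (r : X ⟶ Y) (N : Y.Modules)

theorem pullSec_add (s s' : Γ(N, ⊤)) :
    ProjUP.pullSec r N (s + s') = ProjUP.pullSec r N s + ProjUP.pullSec r N s' := by
  rw [pullSec_eq_cUV, pullSec_eq_cUV, pullSec_eq_cUV, cUV_add]

theorem pullSec_smul (a : Γ(Y, ⊤)) (s : Γ(N, ⊤)) :
    ProjUP.pullSec r N (a • s) = (r.appTop).hom a • ProjUP.pullSec r N s := by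
  rw [pullSec_eq_cUV, pullSec_eq_cUV, cUV_smul]
  have h : r.appLE ⊤ ⊤ (le_top : (⊤ : X.Opens) ≤ r ⁻¹ᵁ ⊤) = r.appTop := r.appLE_eq_app (U := ⊤)
  rw [h]

theorem pullSec_zero : ProjUP.pullSec r N (0 : Γ(N, ⊤)) = 0 := by
  have h := pullSec_add r N 0 0
  rw [add_zero] at h
  exact left_eq_add.mp h

theorem pullSec_sum {ι : Type*} (s : Finset ι) (σ : ι → Γ(N, ⊤)) :
    ProjUP.pullSec r N (∑ j ∈ s, σ j) = ∑ j ∈ s, ProjUP.pullSec r N (σ j) := by
  classical
  induction s using Finset.induction_on with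
  | empty => simpa using pullSec_zero r N
  | insert a s ha ih => rw [Finset.sum_insert ha, Finset.sum_insert ha, pullSec_add, ih]

end PullLin

section Pn
variable (k : Type u) [Field k] (n : ℕ)

/-- The linear form `Σ c_j T_j`. -/
noncomputable def lin (c : Fin (n + 1) → k) : MvPolynomial (Fin (n + 1)) k :=
  ∑ j, MvPolynomial.C (c j) * MvPolynomial.X j

theorem C_mul_mem (a : k) {ℓ : MvPolynomial (Fin (n + 1)) k} (hℓ : ℓ ∈ CohB1.polyGrading n k 1) :
    MvPolynomial.C a * ℓ ∈ CohB1.polyGrading n k 1 := by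
  rw [MvPolynomial.C_mul']
  exact Submodule.smul_mem _ _ hℓ

theorem lin_mem (c : Fin (n + 1) → k) : lin k n c ∈ CohB1.polyGrading n k 1 := by
  unfold lin
  exact Submodule.sum_mem _ fun j _ => C_mul_mem k n (c j) (Groth.Agent.VAmpPn.hX n j)

/-- The constant `a` as a global function on `P^n_k`. -/
noncomputable def strP (a : k) : Γ(Proj (CohB1.polyGrading n k), ⊤) :=
  ProjUP.toGlobal (CohB1.ProjSpace.toSpec n k) a

theorem valO_strP (a : k) (y : Proj (CohB1.polyGrading n k)) :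
    Groth.Agent.ProjGlobal.valO (CohB1.polyGrading n k) (strP k n a) ⟨y, trivial⟩ =
      Localization.mk (MvPolynomial.C a) 1 := by
  have h1 : strP k n a = (Proj.toSpecZero (CohB1.polyGrading n k)).appTop.hom
      ((Scheme.ΓSpecIso (CommRingCat.of (CohB1.polyGrading n k 0))).inv.hom
        (algebraMap k (CohB1.polyGrading n k 0) a)) := by
    unfold strP ProjUP.toGlobal CohB1.ProjSpace.toSpec
    rw [Scheme.Hom.comp_appTop]
    have h2 := Scheme.ΓSpecIso_inv_naturality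
      (CommRingCat.ofHom (algebraMap k (CohB1.polyGrading n k 0)))
    have h3 := ConcreteCategory.congr_hom h2 a
    exact congrArg (Proj.toSpecZero (CohB1.polyGrading n k)).appTop.hom h3.symm
  rw [h1]
  exact (Groth.Agent.ProjGlobal.valO_toSpecZero (CohB1.polyGrading n k) _ y).trans rfl

theorem sig_C_mul (a : k) {ℓ : MvPolynomial (Fin (n + 1)) k}
    (hℓ : ℓ ∈ CohB1.polyGrading n k 1) :
    sig (CohB1.polyGrading n k) (C_mul_mem k n a hℓ) =
      strP k n a • sig (CohB1.polyGrading n k) hℓ := by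
  apply Subtype.ext
  funext y
  apply Subtype.ext
  refine Eq.trans ?_ (ProjTw.smul_valN (CohB1.polyGrading n k) 1 (op ⊤) (strP k n a)
    (sig (CohB1.polyGrading n k) hℓ) y).symm
  have h1 := valO_strP k n a y.1
  have h2 : ((show Twist.O (𝒜 := CohB1.polyGrading n k) (op ⊤) from strP k n a).1 y).val =
      Localization.mk (MvPolynomial.C a) 1 := h1
  rw [h2]
  show Localization.mk _ _ = Localization.mk _ _ * Localization.mk _ _
  rw [Localization.mk_mul, one_mul]

theorem sig_add {ℓ ℓ' : MvPolynomial (Fin (n + 1)) k}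
    (hℓ : ℓ ∈ CohB1.polyGrading n k 1) (hℓ' : ℓ' ∈ CohB1.polyGrading n k 1) :
    sig (CohB1.polyGrading n k) (add_mem hℓ hℓ') =
      sig (CohB1.polyGrading n k) hℓ + sig (CohB1.polyGrading n k) hℓ' := by
  apply Subtype.ext
  funext y
  apply Subtype.ext
  show Localization.mk _ _ = Localization.mk _ _ + Localization.mk _ _
  rw [Localization.add_mk_self]

theorem sig_zero :
    sig (CohB1.polyGrading n k) (zero_mem (CohB1.polyGrading n k 1)) = 0 := by
  apply Subtype.ext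
  funext y
  apply Subtype.ext
  show Localization.mk _ _ = 0
  rw [Localization.mk_zero]

theorem sig_congr {ℓ ℓ' : MvPolynomial (Fin (n + 1)) k}
    (hℓ : ℓ ∈ CohB1.polyGrading n k 1) (hℓ' : ℓ' ∈ CohB1.polyGrading n k 1) (h : ℓ = ℓ') :
    sig (CohB1.polyGrading n k) hℓ = sig (CohB1.polyGrading n k) hℓ' := by
  subst h
  rfl

theorem sig_sum {ι : Type*} (s : Finset ι) (ℓ : ι → MvPolynomial (Fin (n + 1)) k)
    (hℓ : ∀ j, ℓ j ∈ CohB1.polyGrading n k 1)
    (h : ∑ j ∈ s, ℓ j ∈ CohB1.polyGrading n k 1) :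
    sig (CohB1.polyGrading n k) h = ∑ j ∈ s, sig (CohB1.polyGrading n k) (hℓ j) := by
  classical
  induction s using Finset.induction_on with
  | empty =>
    refine Eq.trans ?_ Finset.sum_empty.symm
    exact (sig_congr k n _ _ Finset.sum_empty).trans (sig_zero k n)
  | insert a s ha ih =>
    refine Eq.trans ?_ (Finset.sum_insert ha).symm
    have hs : ∑ j ∈ s, ℓ j ∈ CohB1.polyGrading n k 1 := Submodule.sum_mem _ fun j _ => hℓ j
    rw [← ih hs]
    exact (sig_congr k n _ _ (Finset.sum_insert ha)).trans (sig_add k n (hℓ a) hs)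

variable {k n}
variable {X : Scheme.{u}} (pX : X ⟶ Spec (CommRingCat.of k))
  (f : X ⟶ CohB1.ProjSpace n k) (hf : f ≫ CohB1.ProjSpace.toSpec n k = pX)

include hf in
theorem toGlobal_eq (a : k) : ProjUP.toGlobal pX a = (f.appTop).hom (strP k n a) := by
  subst hf
  unfold strP ProjUP.toGlobal
  rw [Scheme.Hom.comp_appTop]
  rfl

include hf in
/-- The section `Σ c_j s_j` of `f^* O(1)` is the pull-back of the linear form `Σ c_j T_j`. -/
theorem sum_eq_pullSec (c : Fin (n + 1) → k) :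
    (∑ j, ProjUP.toGlobal pX (c j) •
      ProjUP.pullSec f (Twist.twistProjSpace n k 1) (ProjUP.coord n k j)) =
    ProjUP.pullSec (show X ⟶ Proj (CohB1.polyGrading n k) from f)
      (Twist.twist (CohB1.polyGrading n k) 1) (sig (CohB1.polyGrading n k) (lin_mem k n c)) := by
  have h1 : sig (CohB1.polyGrading n k) (lin_mem k n c) =
      ∑ j, strP k n (c j) • sig (CohB1.polyGrading n k) (Groth.Agent.VAmpPn.hX n j) := by
    refine (sig_sum k n Finset.univ (fun j => MvPolynomial.C (c j) * MvPolynomial.X j)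
      (fun j => C_mul_mem k n (c j) (Groth.Agent.VAmpPn.hX n j)) (lin_mem k n c)).trans ?_
    exact Finset.sum_congr rfl fun j _ => sig_C_mul k n (c j) (Groth.Agent.VAmpPn.hX n j)
  rw [h1, pullSec_sum]
  refine Finset.sum_congr rfl fun j _ => ?_
  rw [pullSec_smul, toGlobal_eq pX f hf]
  rfl

end Pn

end Groth.Agent.Lib.SepTanH2
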