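import Mathlib
import Groth.Prelude
import Groth.Agent.Lib.SepTan2_helper2
import Groth.Agent.Lib.ProjSpaceProper_helper4

/-!
# Closed points of projective space over an algebraically closed field (helper2)
APPEND-ONLY once landed.
-/

set_option autoImplicit false
universe u
open CategoryTheory CategoryTheory.Limits AlgebraicGeometry TopologicalSpace Opposite DirectSum
open HomogeneousLocalization QcqsLoc GenLocH8 TensH8 PBH8

namespace Groth.Agent.Lib.SepTanH2

open Groth.Agent.GrTw Groth.Agent.ProjUPU Groth.Agent.Lib.TwPullH2 Groth.Agent.Lib.ClProjIdealH2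

section Gen

theorem mem_primeIdealOf_iff {Y : Scheme.{u}} {U : Y.Opens} (hU : IsAffineOpen U) (y : Y)
    (hy : y ∈ U) (s : Γ(Y, U)) :
    s ∈ (hU.primeIdealOf ⟨y, hy⟩).asIdeal ↔ y ∉ Y.basicOpen s := by
  rw [hU.primeIdealOf_eq_map_closedPoint, Scheme.mem_basicOpen _ _ _ hy]
  show (Y.presheaf.germ U y hy).hom s ∈ IsLocalRing.maximalIdeal _ ↔ _
  rw [IsLocalRing.mem_maximalIdeal, mem_nonunits_iff]

/-- A maximal ideal of the ring of an affine open of a Jacobson scheme is the ideal of a closed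
point. -/
theorem exists_closedPt_of_isMaximal {Y : Scheme.{u}} [JacobsonSpace Y] {U : Y.Opens}
    (hU : IsAffineOpen U) (𝔪 : Ideal Γ(Y, U)) [h𝔪 : 𝔪.IsMaximal] :
    ∃ (y : Y) (hy : y ∈ U), IsClosed ({y} : Set Y) ∧ (hU.primeIdealOf ⟨y, hy⟩).asIdeal = 𝔪 := by
  let 𝔭 : PrimeSpectrum Γ(Y, U) := ⟨𝔪, h𝔪.isPrime⟩
  have hy : hU.fromSpec 𝔭 ∈ U := by
    have : hU.fromSpec 𝔭 ∈ Set.range hU.fromSpec := ⟨𝔭, rfl⟩
    rw [hU.range_fromSpec] at this
    exact this
  refine ⟨hU.fromSpec 𝔭, hy, ?_, ?_⟩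
  · have h1 : IsClosed ({𝔭} : Set (PrimeSpectrum Γ(Y, U))) :=
      (PrimeSpectrum.isClosed_singleton_iff_isMaximal 𝔭).mpr h𝔪
    have h2 : IsLocallyClosed (hU.fromSpec '' ({𝔭} : Set (Spec Γ(Y, U)))) :=
      IsLocallyClosed.image h1.isLocallyClosed hU.fromSpec.isOpenEmbedding.isInducing
        hU.fromSpec.isOpenEmbedding.isOpen_range.isLocallyClosed
    have h3 : (hU.fromSpec '' ({𝔭} : Set (Spec Γ(Y, U)))) = {hU.fromSpec 𝔭} := Set.image_singleton
    rw [h3] at h2
    exact isClosed_singleton_of_isLocallyClosed_singleton h2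
  · have h3 : hU.fromSpec (hU.primeIdealOf ⟨hU.fromSpec 𝔭, hy⟩) = hU.fromSpec 𝔭 :=
      hU.fromSpec_primeIdealOf ⟨hU.fromSpec 𝔭, hy⟩
    have h4 := hU.fromSpec.isOpenEmbedding.injective h3
    exact congrArg PrimeSpectrum.asIdeal h4

theorem primeIdealOf_injective {Y : Scheme.{u}} {U : Y.Opens} (hU : IsAffineOpen U) {y z : Y}
    (hy : y ∈ U) (hz : z ∈ U)
    (h : (hU.primeIdealOf ⟨y, hy⟩).asIdeal = (hU.primeIdealOf ⟨z, hz⟩).asIdeal) : y = z := by
  have h1 : hU.primeIdealOf ⟨y, hy⟩ = hU.primeIdealOf ⟨z, hz⟩ := PrimeSpectrum.ext h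
  have h2 := hU.fromSpec_primeIdealOf ⟨y, hy⟩
  have h3 := hU.fromSpec_primeIdealOf ⟨z, hz⟩
  rw [h1] at h2
  exact h2.symm.trans h3

end Gen

section Pn
variable (k : Type u) [Field k] (n : ℕ) (i : Fin (n + 1))

/-- The standard chart `D_+(T_i)`. -/
noncomputable abbrev Dp : (Proj (CohB1.polyGrading n k)).Opens :=
  Proj.basicOpen (CohB1.polyGrading n k) (MvPolynomial.X i)

theorem isAffineOpen_Dp : IsAffineOpen (Dp k n i) :=
  Proj.isAffineOpen_basicOpen _ _ (Groth.Agent.VAmpPn.hX n i) one_pos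

/-- Dehomogenisation with respect to `T_i`. -/
noncomputable abbrev dh : MvPolynomial (Fin (n + 1)) k →+* Γ(Proj (CohB1.polyGrading n k), Dp k n i) :=
  dehom (CohB1.polyGrading n k) (Groth.Agent.VAmpPn.hX n i)

theorem dh_surjective : Function.Surjective (dh k n i) :=
  dehom_surjective _ _

theorem dh_lin {ℓ : MvPolynomial (Fin (n + 1)) k} (hℓ : ℓ ∈ CohB1.polyGrading n k 1) :
    dh k n i ℓ = fr (CohB1.polyGrading n k) (Groth.Agent.VAmpPn.hX n i) 1 ℓ hℓ :=
  dehom_eq_rat _ _ hℓ

theorem dh_X_self : dh k n i (MvPolynomial.X i) = 1 := by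
  rw [dh_lin k n i (Groth.Agent.VAmpPn.hX n i), fr_self]

theorem mem_Dp_lin_iff (y : Proj (CohB1.polyGrading n k)) (hy : y ∈ Dp k n i)
    {ℓ : MvPolynomial (Fin (n + 1)) k} (hℓ : ℓ ∈ CohB1.polyGrading n k 1) :
    dh k n i ℓ ∈ ((isAffineOpen_Dp k n i).primeIdealOf ⟨y, hy⟩).asIdeal ↔
      y ∉ Proj.basicOpen (CohB1.polyGrading n k) ℓ := by
  rw [mem_primeIdealOf_iff, dh_lin k n i hℓ, basicOpen_fr]
  constructor
  · intro h h'
    exact h ⟨hy, h'⟩
  · intro h h'
    exact h h'.2

variable [IsAlgClosed k]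

/-- Nullstellensatz for a closed point of the chart `D_+(T_i)`. -/
theorem exists_point (y : Proj (CohB1.polyGrading n k)) (hy : y ∈ Dp k n i)
    (hcl : IsClosed ({y} : Set (Proj (CohB1.polyGrading n k)))) :
    ∃ a : Fin (n + 1) → k, a i = 1 ∧ ∀ F : MvPolynomial (Fin (n + 1)) k,
      dh k n i F ∈ ((isAffineOpen_Dp k n i).primeIdealOf ⟨y, hy⟩).asIdeal ↔
        MvPolynomial.eval a F = 0 := by
  haveI hmax : ((isAffineOpen_Dp k n i).primeIdealOf ⟨y, hy⟩).asIdeal.IsMaximal :=
    (isAffineOpen_Dp k n i).primeIdealOf_isMaximal_of_isClosed ⟨y, hy⟩ hcl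
  have hM : (((isAffineOpen_Dp k n i).primeIdealOf ⟨y, hy⟩).asIdeal.comap (dh k n i)).IsMaximal :=
    Ideal.comap_isMaximal_of_surjective _ (dh_surjective k n i)
  obtain ⟨a, ha⟩ := MvPolynomial.isMaximal_iff_eq_vanishingIdeal_singleton.mp hM
  have key : ∀ F : MvPolynomial (Fin (n + 1)) k,
      dh k n i F ∈ ((isAffineOpen_Dp k n i).primeIdealOf ⟨y, hy⟩).asIdeal ↔
        MvPolynomial.eval a F = 0 := by
    intro F
    rw [← Ideal.mem_comap, ha, MvPolynomial.mem_vanishingIdeal_singleton_iff]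
    rfl
  refine ⟨a, ?_, key⟩
  have h1 : dh k n i (MvPolynomial.X i - 1) ∈
      ((isAffineOpen_Dp k n i).primeIdealOf ⟨y, hy⟩).asIdeal := by
    rw [map_sub, dh_X_self, map_one, sub_self]
    exact Ideal.zero_mem _
  have h2 := (key _).mp h1
  rw [map_sub, MvPolynomial.eval_X, map_one, sub_eq_zero] at h2
  exact h2

/-- Every function on the chart is congruent to a constant modulo the ideal of a closed point. -/
theorem exists_const (y : Proj (CohB1.polyGrading n k)) (hy : y ∈ Dp k n i)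
    (hcl : IsClosed ({y} : Set (Proj (CohB1.polyGrading n k))))
    (s : Γ(Proj (CohB1.polyGrading n k), Dp k n i)) :
    ∃ c : k, s - dh k n i (MvPolynomial.C c) ∈
      ((isAffineOpen_Dp k n i).primeIdealOf ⟨y, hy⟩).asIdeal := by
  obtain ⟨a, -, key⟩ := exists_point k n i y hy hcl
  obtain ⟨F, rfl⟩ := dh_surjective k n i s
  refine ⟨MvPolynomial.eval a F, ?_⟩
  rw [← map_sub, key, map_sub, MvPolynomial.eval_C, sub_self]

/-- The linear form `T_j - a_j T_i`. -/
noncomputable def linPt (a : Fin (n + 1) → k) (j : Fin (n + 1)) : MvPolynomial (Fin (n + 1)) k :=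
  MvPolynomial.X j - MvPolynomial.C (a j) * MvPolynomial.X i

omit [IsAlgClosed k] in
theorem linPt_mem (a : Fin (n + 1) → k) (j : Fin (n + 1)) :
    linPt k n i a j ∈ CohB1.polyGrading n k 1 :=
  sub_mem (Groth.Agent.VAmpPn.hX n j) (C_mul_mem k n (a j) (Groth.Agent.VAmpPn.hX n i))

omit [IsAlgClosed k] in
theorem eval_linPt (a : Fin (n + 1) → k) (hai : a i = 1) (j : Fin (n + 1)) :
    MvPolynomial.eval a (linPt k n i a j) = 0 := by
  unfold linPt
  rw [map_sub, map_mul, MvPolynomial.eval_X, MvPolynomial.eval_X, MvPolynomial.eval_C, hai,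
    mul_one, sub_self]

omit [IsAlgClosed k] in
theorem dh_linPt (a : Fin (n + 1) → k) (j : Fin (n + 1)) :
    dh k n i (linPt k n i a j) =
      dh k n i (MvPolynomial.X j) - dh k n i (MvPolynomial.C (a j)) := by
  unfold linPt
  rw [map_sub, map_mul, dh_X_self, mul_one]

omit [IsAlgClosed k] in
/-- Every polynomial is, after dehomogenisation, congruent to its value at `a` modulo the ideal
generated by the linear forms `T_j - a_j T_i`. -/
theorem dh_sub_const_mem (a : Fin (n + 1) → k) (F : MvPolynomial (Fin (n + 1)) k) :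
    dh k n i F - dh k n i (MvPolynomial.C (MvPolynomial.eval a F)) ∈
      Ideal.span (Set.range fun j => dh k n i (linPt k n i a j)) := by
  induction F using MvPolynomial.induction_on with
  | C c =>
    rw [MvPolynomial.eval_C, sub_self]
    exact Ideal.zero_mem _
  | add p q hp hq =>
    have : dh k n i (p + q) - dh k n i (MvPolynomial.C (MvPolynomial.eval a (p + q))) =
        (dh k n i p - dh k n i (MvPolynomial.C (MvPolynomial.eval a p))) +
        (dh k n i q - dh k n i (MvPolynomial.C (MvPolynomial.eval a q))) := by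
      rw [map_add, map_add, map_add, map_add]
      ring
    rw [this]
    exact Ideal.add_mem _ hp hq
  | mul_X p j hp =>
    have : dh k n i (p * MvPolynomial.X j) -
        dh k n i (MvPolynomial.C (MvPolynomial.eval a (p * MvPolynomial.X j))) =
        (dh k n i p - dh k n i (MvPolynomial.C (MvPolynomial.eval a p))) *
          dh k n i (MvPolynomial.X j) +
        dh k n i (MvPolynomial.C (MvPolynomial.eval a p)) * dh k n i (linPt k n i a j) := by
      rw [dh_linPt, map_mul, map_mul, MvPolynomial.eval_X, map_mul, map_mul]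
      ring
    rw [this]
    exact Ideal.add_mem _ (Ideal.mul_mem_right _ _ hp)
      (Ideal.mul_mem_left _ _ (Ideal.subset_span ⟨j, rfl⟩))

/-- The ideal of a closed point of the chart is generated by dehomogenised linear forms vanishing
at the point. -/
theorem primeIdealOf_le_span (y : Proj (CohB1.polyGrading n k)) (hy : y ∈ Dp k n i)
    (hcl : IsClosed ({y} : Set (Proj (CohB1.polyGrading n k)))) :
    ((isAffineOpen_Dp k n i).primeIdealOf ⟨y, hy⟩).asIdeal ≤
      Ideal.span {s | ∃ (ℓ : MvPolynomial (Fin (n + 1)) k) (hℓ : ℓ ∈ CohB1.polyGrading n k 1),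
        y ∉ Proj.basicOpen (CohB1.polyGrading n k) ℓ ∧ s = dh k n i ℓ} := by
  obtain ⟨a, hai, key⟩ := exists_point k n i y hy hcl
  intro s hs
  obtain ⟨F, rfl⟩ := dh_surjective k n i s
  have h0 : MvPolynomial.eval a F = 0 := (key F).mp hs
  have h1 := dh_sub_const_mem k n i a F
  rw [h0, map_zero, map_zero, sub_zero] at h1
  refine Ideal.span_mono ?_ h1
  rintro _ ⟨j, rfl⟩
  refine ⟨linPt k n i a j, linPt_mem k n i a j, ?_, rfl⟩
  rw [← mem_Dp_lin_iff k n i y hy (linPt_mem k n i a j), key]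
  exact eval_linPt k n i a hai j

/-- Variant: the ideal of a closed point is generated by the `T_j - a_j T_i`. -/
theorem primeIdealOf_le_span_linPt (y : Proj (CohB1.polyGrading n k)) (hy : y ∈ Dp k n i)
    (a : Fin (n + 1) → k)
    (key : ∀ F : MvPolynomial (Fin (n + 1)) k,
      dh k n i F ∈ ((isAffineOpen_Dp k n i).primeIdealOf ⟨y, hy⟩).asIdeal ↔
        MvPolynomial.eval a F = 0) :
    ((isAffineOpen_Dp k n i).primeIdealOf ⟨y, hy⟩).asIdeal ≤
      Ideal.span (Set.range fun j => dh k n i (linPt k n i a j)) := by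
  intro s hs
  obtain ⟨F, rfl⟩ := dh_surjective k n i s
  have h0 : MvPolynomial.eval a F = 0 := (key F).mp hs
  have h1 := dh_sub_const_mem k n i a F
  rw [h0, map_zero, map_zero, sub_zero] at h1
  exact h1

omit [IsAlgClosed k] in
theorem lin_add (c c' : Fin (n + 1) → k) : lin k n (c + c') = lin k n c + lin k n c' := by
  unfold lin
  rw [← Finset.sum_add_distrib]
  refine Finset.sum_congr rfl fun j _ => ?_
  rw [Pi.add_apply, map_add, add_mul]

omit [IsAlgClosed k] in
theorem lin_smul (r : k) (c : Fin (n + 1) → k) :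
    lin k n (r • c) = MvPolynomial.C r * lin k n c := by
  unfold lin
  rw [Finset.mul_sum]
  refine Finset.sum_congr rfl fun j _ => ?_
  rw [Pi.smul_apply, smul_eq_mul, map_mul, mul_assoc]

omit [IsAlgClosed k] in
theorem lin_single (j : Fin (n + 1)) : lin k n (Pi.single j 1) = MvPolynomial.X j := by
  unfold lin
  rw [Finset.sum_eq_single j]
  · rw [Pi.single_eq_same, map_one, one_mul]
  · intro l _ hl
    rw [Pi.single_eq_of_ne hl, map_zero, zero_mul]
  · intro h
    exact absurd (Finset.mem_univ j) h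

omit [IsAlgClosed k] in
theorem exists_lin_eq_linPt (a : Fin (n + 1) → k) (j : Fin (n + 1)) :
    ∃ c : Fin (n + 1) → k, lin k n c = linPt k n i a j := by
  refine ⟨Pi.single j 1 + (-(a j)) • Pi.single i 1, ?_⟩
  rw [lin_add, lin_smul, lin_single, lin_single]
  unfold linPt
  rw [map_neg]
  ring

/-- Two distinct closed points of `P^n_k` are separated by a linear form: it vanishes at the first
but not at the second. -/
theorem exists_lin_separating (y z : Proj (CohB1.polyGrading n k))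
    (hy : IsClosed ({y} : Set (Proj (CohB1.polyGrading n k))))
    (hz : IsClosed ({z} : Set (Proj (CohB1.polyGrading n k)))) (hyz : y ≠ z) :
    ∃ c : Fin (n + 1) → k, y ∉ Proj.basicOpen (CohB1.polyGrading n k) (lin k n c) ∧
      z ∈ Proj.basicOpen (CohB1.polyGrading n k) (lin k n c) := by
  obtain ⟨i, hyi⟩ := Groth.Agent.VAmpPn.hcovX n y
  obtain ⟨a, hai, key⟩ := exists_point k n i y hyi hy
  by_contra hcon
  push Not at hcon
  -- every `linPt a j` vanishes at `z`
  have hz1 : ∀ j, z ∉ Proj.basicOpen (CohB1.polyGrading n k) (linPt k n i a j) := by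
    intro j
    obtain ⟨c, hc⟩ := exists_lin_eq_linPt k n i a j
    rw [← hc]
    apply hcon c
    rw [hc, ← mem_Dp_lin_iff k n i y hyi (linPt_mem k n i a j), key]
    exact eval_linPt k n i a hai j
  -- hence `z` lies in the chart
  have hzi : z ∈ Dp k n i := by
    by_contra hzi
    obtain ⟨j, hzj⟩ := Groth.Agent.VAmpPn.hcovX n z
    rw [Proj.mem_basicOpen] at hzi hzj
    rw [not_not] at hzi
    apply hzj
    have h1 := hz1 j
    rw [Proj.mem_basicOpen, not_not] at h1
    have h2 : MvPolynomial.X j = linPt k n i a j + MvPolynomial.C (a j) * MvPolynomial.X i := by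
      unfold linPt
      ring
    rw [h2]
    exact Ideal.add_mem _ h1 (Ideal.mul_mem_left _ _ hzi)
  have hle : ((isAffineOpen_Dp k n i).primeIdealOf ⟨y, hyi⟩).asIdeal ≤
      ((isAffineOpen_Dp k n i).primeIdealOf ⟨z, hzi⟩).asIdeal := by
    refine (primeIdealOf_le_span_linPt k n i y hyi a key).trans ?_
    rw [Ideal.span_le]
    rintro _ ⟨j, rfl⟩
    exact (mem_Dp_lin_iff k n i z hzi (linPt_mem k n i a j)).mpr (hz1 j)
  have hmax : ((isAffineOpen_Dp k n i).primeIdealOf ⟨y, hyi⟩).asIdeal.IsMaximal :=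
    (isAffineOpen_Dp k n i).primeIdealOf_isMaximal_of_isClosed ⟨y, hyi⟩ hy
  have heq := hmax.eq_of_le ((isAffineOpen_Dp k n i).primeIdealOf ⟨z, hzi⟩).isPrime.ne_top hle
  exact hyz (primeIdealOf_injective (isAffineOpen_Dp k n i) hyi hzi heq)

end Pn

end Groth.Agent.Lib.SepTanH2
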