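import Mathlib
import Groth.Prelude
import Groth.Agent.Lib.SepTan3_helper2

/-!
# Closed immersions into projective space separate points and tangent vectors (helper2)
APPEND-ONLY once landed.
-/

set_option autoImplicit false
universe u
open CategoryTheory CategoryTheory.Limits AlgebraicGeometry TopologicalSpace Opposite DirectSum
open HomogeneousLocalization QcqsLoc GenLocH8 TensH8 PBH8

namespace Groth.Agent.Lib.SepTanH2

open Groth.Agent.GrTw Groth.Agent.ProjUPU Groth.Agent.Lib.TwPullH2 Groth.Agent.Lib.ClProjIdealH2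

section Germ2
variable {A S : Type u} [CommRing A] [CommRing S] [Algebra A S] (𝒮 : ℕ → Submodule A S)
  [GradedAlgebra 𝒮] {X : Scheme.{u}} (r : X ⟶ Proj 𝒮)
  (hcov : ∀ x : Proj 𝒮, ∃ f ∈ 𝒮 1, x ∈ Proj.basicOpen 𝒮 f)

theorem germ_q_mem_iff (x : X) {f : S} (hf : f ∈ 𝒮 1) (hx : x ∈ r ⁻¹ᵁ Proj.basicOpen 𝒮 f)
    {g : S} (hg : g ∈ 𝒮 1) :
    (X.presheaf.germ (r ⁻¹ᵁ Proj.basicOpen 𝒮 f) x hx).hom (q 𝒮 r hf 1 g hg) ∈
      IsLocalRing.maximalIdeal (X.presheaf.stalk x) ↔ r x ∉ Proj.basicOpen 𝒮 g := by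
  rw [IsLocalRing.mem_maximalIdeal, mem_nonunits_iff, ← Scheme.mem_basicOpen _ _ _ hx, basicOpen_q]
  constructor
  · intro h h'
    exact h ⟨hx, h'⟩
  · intro h h'
    exact h h'.2

include hcov in
/-- The condition "separates tangent vectors" at `x`, in terms of functions on a chart. -/
theorem tan_iff (x : X) {f : S} (hf : f ∈ 𝒮 1) (hx : x ∈ r ⁻¹ᵁ Proj.basicOpen 𝒮 f)
    {κ : Type*} (g : κ → S) (hg : ∀ c, g c ∈ 𝒮 1) :
    (IsLocalRing.maximalIdeal (X.presheaf.stalk x) •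
        (⊤ : Submodule (X.presheaf.stalk x)
          (((Scheme.Modules.pullback r).obj (Twist.twist 𝒮 1)).presheaf.stalk x)) ≤
      Submodule.span (X.presheaf.stalk x)
        {v | ∃ c : κ,
          v = (((Scheme.Modules.pullback r).obj (Twist.twist 𝒮 1)).presheaf.germ ⊤ x trivial).hom
            (ProjUP.pullSec r (Twist.twist 𝒮 1) (sig 𝒮 (hg c))) ∧
          v ∈ IsLocalRing.maximalIdeal (X.presheaf.stalk x) •
            (⊤ : Submodule (X.presheaf.stalk x)
              (((Scheme.Modules.pullback r).obj (Twist.twist 𝒮 1)).presheaf.stalk x))} ⊔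
        (IsLocalRing.maximalIdeal (X.presheaf.stalk x) ^ 2 •
          (⊤ : Submodule (X.presheaf.stalk x)
            (((Scheme.Modules.pullback r).obj (Twist.twist 𝒮 1)).presheaf.stalk x)))) ↔
    IsLocalRing.maximalIdeal (X.presheaf.stalk x) ≤
      Ideal.span {a | ∃ c : κ,
        a = (X.presheaf.germ (r ⁻¹ᵁ Proj.basicOpen 𝒮 f) x hx).hom (q 𝒮 r hf 1 (g c) (hg c)) ∧
        a ∈ IsLocalRing.maximalIdeal (X.presheaf.stalk x)} ⊔
        IsLocalRing.maximalIdeal (X.presheaf.stalk x) ^ 2 := by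
  obtain ⟨t, ht, hdata⟩ := exists_local_data 𝒮 r hcov x hf hx
  rw [← ht.le_iff]
  have hset : {v | ∃ c : κ,
      v = (((Scheme.Modules.pullback r).obj (Twist.twist 𝒮 1)).presheaf.germ ⊤ x trivial).hom
        (ProjUP.pullSec r (Twist.twist 𝒮 1) (sig 𝒮 (hg c))) ∧
      v ∈ IsLocalRing.maximalIdeal (X.presheaf.stalk x) •
        (⊤ : Submodule (X.presheaf.stalk x)
          (((Scheme.Modules.pullback r).obj (Twist.twist 𝒮 1)).presheaf.stalk x))} =
      (fun a : X.presheaf.stalk x => a • t) '' {a | ∃ c : κ,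
        a = (X.presheaf.germ (r ⁻¹ᵁ Proj.basicOpen 𝒮 f) x hx).hom (q 𝒮 r hf 1 (g c) (hg c)) ∧
        a ∈ IsLocalRing.maximalIdeal (X.presheaf.stalk x)} := by
    ext v
    constructor
    · rintro ⟨c, rfl, hv⟩
      rw [hdata (g c) (hg c)] at hv ⊢
      exact ⟨_, ⟨c, rfl, (ht.smul_mem_iff _ _).mp hv⟩, rfl⟩
    · rintro ⟨a, ⟨c, rfl, ha⟩, rfl⟩
      refine ⟨c, (hdata (g c) (hg c)).symm, ?_⟩
      exact (ht.smul_mem_iff _ _).mpr ha
  rw [hset]

end Germ2

section Fwd
variable {k : Type u} [Field k] [IsAlgClosed k] {n : ℕ} {X : Scheme.{u}}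
  (f : X ⟶ Proj (CohB1.polyGrading n k)) [IsClosedImmersion f]

/-- A closed immersion into `P^n_k` separates closed points by linear forms. -/
theorem sepPts_of_isClosedImmersion (P Q : X) (hP : IsClosed ({P} : Set X))
    (hQ : IsClosed ({Q} : Set X)) (hPQ : P ≠ Q) :
    ∃ c : Fin (n + 1) → k, f P ∉ Proj.basicOpen (CohB1.polyGrading n k) (lin k n c) ∧
      f Q ∈ Proj.basicOpen (CohB1.polyGrading n k) (lin k n c) := by
  have hemb := f.isClosedEmbedding
  have hP' : IsClosed ({f P} : Set (Proj (CohB1.polyGrading n k))) := by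
    have := hemb.isClosedMap _ hP
    rwa [Set.image_singleton] at this
  have hQ' : IsClosed ({f Q} : Set (Proj (CohB1.polyGrading n k))) := by
    have := hemb.isClosedMap _ hQ
    rwa [Set.image_singleton] at this
  exact exists_lin_separating k n (f P) (f Q) hP' hQ' (fun h => hPQ (hemb.injective h))

/-- A closed immersion into `P^n_k` separates tangent vectors (chart form). -/
theorem tan_of_isClosedImmersion (P : X) (hP : IsClosed ({P} : Set X)) (i : Fin (n + 1))
    (hPi : P ∈ f ⁻¹ᵁ Dp k n i) :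
    IsLocalRing.maximalIdeal (X.presheaf.stalk P) ≤
      Ideal.span {a | ∃ c : Fin (n + 1) → k,
        a = (X.presheaf.germ (f ⁻¹ᵁ Dp k n i) P hPi).hom
          (q (CohB1.polyGrading n k) f (Groth.Agent.VAmpPn.hX n i) 1 (lin k n c) (lin_mem k n c)) ∧
        a ∈ IsLocalRing.maximalIdeal (X.presheaf.stalk P)} ⊔
        IsLocalRing.maximalIdeal (X.presheaf.stalk P) ^ 2 := by
  refine le_trans ?_ le_sup_left
  have hemb := f.isClosedEmbedding
  have hycl : IsClosed ({f P} : Set (Proj (CohB1.polyGrading n k))) := by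
    have := hemb.isClosedMap _ hP
    rwa [Set.image_singleton] at this
  have hy : f P ∈ Dp k n i := hPi
  have hD := isAffineOpen_Dp k n i
  have hU : IsAffineOpen (f ⁻¹ᵁ Dp k n i) := hD.preimage f
  obtain ⟨a, hai, key⟩ := exists_point k n i (f P) hy hycl
  have hgen := primeIdealOf_le_span_linPt k n i (f P) hy a key
  -- the stalk as a localisation
  letI := X.presheaf.algebra_section_stalk ⟨P, hPi⟩
  haveI := hU.isLocalization_stalk ⟨P, hPi⟩
  have hmax := IsLocalization.AtPrime.map_eq_maximalIdeal (hU.primeIdealOf ⟨P, hPi⟩).asIdeal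
    (X.presheaf.stalk P)
  have hcomap : (hU.primeIdealOf ⟨P, hPi⟩).asIdeal.comap (f.app (Dp k n i)).hom =
      (hD.primeIdealOf ⟨f P, hy⟩).asIdeal := by
    have h1 := IsAffineOpen.comap_primeIdealOf_appLE (f := f) (Dp k n i) hD (f ⁻¹ᵁ Dp k n i) hU
      le_rfl hPi
    rw [Scheme.Hom.appLE_eq_app] at h1
    exact congrArg PrimeSpectrum.asIdeal h1
  have hsurj : Function.Surjective (f.app (Dp k n i)).hom := f.app_surjective _ hD
  have h𝔫 : (hU.primeIdealOf ⟨P, hPi⟩).asIdeal =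
      Ideal.map (f.app (Dp k n i)).hom (hD.primeIdealOf ⟨f P, hy⟩).asIdeal := by
    rw [← hcomap, Ideal.map_comap_of_surjective _ hsurj]
  have h𝔪 : IsLocalRing.maximalIdeal (X.presheaf.stalk P) =
      Ideal.map (algebraMap Γ(X, f ⁻¹ᵁ Dp k n i) (X.presheaf.stalk P))
        (Ideal.map (f.app (Dp k n i)).hom (hD.primeIdealOf ⟨f P, hy⟩).asIdeal) := by
    rw [← hmax, h𝔫]
  refine h𝔪.le.trans ?_
  refine (Ideal.map_mono (Ideal.map_mono hgen)).trans ?_
  rw [Ideal.map_span, Ideal.map_span, Ideal.span_le]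
  rintro _ ⟨_, ⟨_, ⟨j, rfl⟩, rfl⟩, rfl⟩
  apply Ideal.subset_span
  obtain ⟨c, hc⟩ := exists_lin_eq_linPt k n i a j
  have hvan : f P ∉ Proj.basicOpen (CohB1.polyGrading n k) (lin k n c) := by
    rw [hc, ← mem_Dp_lin_iff k n i (f P) hy (linPt_mem k n i a j), key]
    exact eval_linPt k n i a hai j
  have heq : (algebraMap Γ(X, f ⁻¹ᵁ Dp k n i) (X.presheaf.stalk P))
      ((f.app (Dp k n i)).hom (dh k n i (linPt k n i a j))) =
      (X.presheaf.germ (f ⁻¹ᵁ Dp k n i) P hPi).hom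
        (q (CohB1.polyGrading n k) f (Groth.Agent.VAmpPn.hX n i) 1 (lin k n c) (lin_mem k n c)) := by
    rw [← hc, dh_lin k n i (lin_mem k n c)]
    rfl
  refine ⟨c, heq, ?_⟩
  rw [heq]
  exact (germ_q_mem_iff (CohB1.polyGrading n k) f P (Groth.Agent.VAmpPn.hX n i) hPi
    (lin_mem k n c)).mpr hvan

end Fwd

end Groth.Agent.Lib.SepTanH2
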