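import Mathlib
import Groth.Prelude
import Groth.Agent.Lib.SepTan4_helper2

/-!
# Separating points and tangent vectors implies closed immersion (helper2)
APPEND-ONLY once landed.
-/

set_option autoImplicit false
universe u
open CategoryTheory CategoryTheory.Limits AlgebraicGeometry TopologicalSpace Opposite DirectSum
open HomogeneousLocalization QcqsLoc GenLocH8 TensH8 PBH8

namespace Groth.Agent.Lib.SepTanH2

open Groth.Agent.GrTw Groth.Agent.ProjUPU Groth.Agent.Lib.TwPullH2 Groth.Agent.Lib.ClProjIdealH2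

section GenSch

/-- An affine morphism which is surjective on sections over an affine open cover of the target is
a closed immersion. -/
theorem isClosedImmersion_of_cover {X Y : Scheme.{u}} (f : X ⟶ Y) [IsAffineHom f] {ι : Type*}
    (U : ι → Y.Opens) (hU : ∀ i, IsAffineOpen (U i)) (hcov : iSup U = ⊤)
    (hs : ∀ i, Function.Surjective (f.app (U i)).hom) : IsClosedImmersion f := by
  rw [IsZariskiLocalAtTarget.iff_of_iSup_eq_top (P := @IsClosedImmersion) U hcov]
  intro i
  haveI : IsAffine (U i).toScheme := hU i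
  haveI : IsAffine (f ⁻¹ᵁ U i).toScheme := (hU i).preimage f
  apply IsClosedImmersion.of_surjective_of_isAffine
  rw [morphismRestrict_appTop]
  have h1 : ∀ V : Y.Opens, V = U i → Function.Surjective (f.app V).hom := by
    rintro V rfl
    exact hs i
  have h2 := h1 _ (U i).ι_image_top
  have h3 : Function.Bijective (X.presheaf.map
      (eqToHom (image_morphismRestrict_preimage f (U i) ⊤)).op).hom :=
    ConcreteCategory.bijective_of_isIso _
  intro b
  obtain ⟨b', rfl⟩ := h3.2 b
  obtain ⟨a, rfl⟩ := h2 b'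
  exact ⟨a, rfl⟩

/-- In a Jacobson space, an open set containing all closed points is everything. -/
theorem eq_top_of_closedPoints_le {T : Type*} [TopologicalSpace T] [JacobsonSpace T]
    (W : Opens T) (h : ∀ x : T, IsClosed ({x} : Set T) → x ∈ W) : W = ⊤ := by
  have hC : IsClosed ((W : Set T)ᶜ) := W.isOpen.isClosed_compl
  have h1 := closure_inter_closedPoints hC
  have h2 : (W : Set T)ᶜ ∩ closedPoints T = ∅ := by
    ext x
    simp only [Set.mem_inter_iff, Set.mem_compl_iff, Set.mem_empty_iff_false, iff_false, not_and]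
    intro hx hx'
    exact hx (h x hx')
  rw [h2, closure_empty] at h1
  ext x
  simp only [Opens.coe_top, Set.mem_univ, iff_true]
  by_contra hx
  have : x ∈ (W : Set T)ᶜ := hx
  rw [← h1] at this
  exact this

/-- In a Jacobson space, a closed set with a single closed point is that point. -/
theorem eq_singleton_of_closedPoints {T : Type*} [TopologicalSpace T] [JacobsonSpace T]
    {Z : Set T} (hZ : IsClosed Z) {P : T} (hP : IsClosed ({P} : Set T)) (hPZ : P ∈ Z)
    (h : ∀ x ∈ Z, IsClosed ({x} : Set T) → x = P) : Z = {P} := by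
  have h1 := closure_inter_closedPoints hZ
  have h2 : Z ∩ closedPoints T = {P} := by
    ext x
    simp only [Set.mem_inter_iff, Set.mem_singleton_iff]
    constructor
    · rintro ⟨hx, hx'⟩
      exact h x hx hx'
    · rintro rfl
      exact ⟨hPZ, hP⟩
  rw [h2, hP.closure_eq] at h1
  exact h1.symm

theorem fiber_eq_singleton {X Y : Scheme.{u}} (f : X ⟶ Y) [IsProper f] [JacobsonSpace X]
    (H1 : ∀ P Q : X, IsClosed ({P} : Set X) → IsClosed ({Q} : Set X) → P ≠ Q → f P ≠ f Q)
    (P : X) (hP : IsClosed ({P} : Set X)) : f ⁻¹' {f P} = {P} := by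
  have hfP : IsClosed ({f P} : Set Y) := by
    have := f.isClosedMap _ hP
    rwa [Set.image_singleton] at this
  apply eq_singleton_of_closedPoints (hfP.preimage f.continuous) hP rfl
  intro Q hQ hQcl
  by_contra hne
  exact H1 Q P hQcl hP hne hQ

/-- A proper morphism from a Jacobson scheme whose fibres through closed points are singletons is
finite. -/
theorem isFinite_of_fiber_singleton {X Y : Scheme.{u}} (f : X ⟶ Y) [IsProper f] [JacobsonSpace X]
    (h : ∀ P : X, IsClosed ({P} : Set X) → f ⁻¹' {f P} = {P}) : IsFinite f := by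
  haveI : LocallyQuasiFinite f := by
    rw [← Scheme.Hom.quasiFiniteLocus_eq_top_iff]
    apply eq_top_of_closedPoints_le
    intro P hP
    rw [Scheme.Hom.mem_quasiFiniteLocus, Scheme.Hom.quasiFiniteAt_iff_isOpen_singleton_asFiber]
    haveI : Subsingleton (f.fiber (f P)) := by
      refine ⟨fun a b => (f.fiberHomeo (f P)).injective ?_⟩
      have hsub : ∀ z : (f ⁻¹' {f P} : Set X), (z : X) = P := by
        intro z
        have hz := z.2
        have hz' : (z : X) ∈ ({P} : Set X) := (h P hP) ▸ hz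
        exact hz'
      exact Subtype.ext ((hsub _).trans (hsub _).symm)
    exact isOpen_discrete _
  exact IsFinite.of_isProper_of_locallyQuasiFinite f

/-- A prime ideal of the ring of an affine open is the ideal of a point. -/
theorem exists_pt_of_isPrime {Y : Scheme.{u}} {U : Y.Opens}
    (hU : IsAffineOpen U) (𝔮 : Ideal Γ(Y, U)) [h𝔮 : 𝔮.IsPrime] :
    ∃ (y : Y) (hy : y ∈ U), (hU.primeIdealOf ⟨y, hy⟩).asIdeal = 𝔮 := by
  let 𝔭 : PrimeSpectrum Γ(Y, U) := ⟨𝔮, h𝔮⟩
  have hy : hU.fromSpec 𝔭 ∈ U := by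
    have : hU.fromSpec 𝔭 ∈ Set.range hU.fromSpec := ⟨𝔭, rfl⟩
    rw [hU.range_fromSpec] at this
    exact this
  refine ⟨hU.fromSpec 𝔭, hy, ?_⟩
  have h3 : hU.fromSpec (hU.primeIdealOf ⟨hU.fromSpec 𝔭, hy⟩) = hU.fromSpec 𝔭 :=
    hU.fromSpec_primeIdealOf ⟨hU.fromSpec 𝔭, hy⟩
  have h4 := hU.fromSpec.isOpenEmbedding.injective h3
  exact congrArg PrimeSpectrum.asIdeal h4

end GenSch

section Bwd
variable {k : Type u} [Field k] [IsAlgClosed k] {n : ℕ} {X : Scheme.{u}}
  (f : X ⟶ Proj (CohB1.polyGrading n k)) [IsProper f] [JacobsonSpace X] [IsLocallyNoetherian X]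
  [JacobsonSpace (Proj (CohB1.polyGrading n k))]

/-- **Separating points and tangent vectors implies closed immersion** (chart form). -/
theorem isClosedImmersion_of_sep
    (H1 : ∀ P Q : X, IsClosed ({P} : Set X) → IsClosed ({Q} : Set X) → P ≠ Q → f P ≠ f Q)
    (H2 : ∀ (P : X), IsClosed ({P} : Set X) → ∀ (i : Fin (n + 1)) (hPi : P ∈ f ⁻¹ᵁ Dp k n i),
      IsLocalRing.maximalIdeal (X.presheaf.stalk P) ≤
        Ideal.span {a | ∃ c : Fin (n + 1) → k,
          a = (X.presheaf.germ (f ⁻¹ᵁ Dp k n i) P hPi).hom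
            (q (CohB1.polyGrading n k) f (Groth.Agent.VAmpPn.hX n i) 1 (lin k n c)
              (lin_mem k n c)) ∧
          a ∈ IsLocalRing.maximalIdeal (X.presheaf.stalk P)} ⊔
          IsLocalRing.maximalIdeal (X.presheaf.stalk P) ^ 2) :
    IsClosedImmersion f := by
  have hfib := fiber_eq_singleton f H1
  haveI : IsFinite f := isFinite_of_fiber_singleton f hfib
  have hcover : (⨆ i, Dp k n i) = ⊤ := by
    rw [eq_top_iff]
    intro x _
    obtain ⟨i, hi⟩ := Groth.Agent.VAmpPn.hcovX n x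
    exact Opens.mem_iSup.mpr ⟨i, hi⟩
  refine isClosedImmersion_of_cover f (fun i => Dp k n i) (isAffineOpen_Dp k n) hcover
    (fun i => ?_)
  have hD := isAffineOpen_Dp k n i
  have hU : IsAffineOpen (f ⁻¹ᵁ Dp k n i) := hD.preimage f
  haveI : IsNoetherianRing Γ(X, f ⁻¹ᵁ Dp k n i) :=
    IsLocallyNoetherian.component_noetherian ⟨_, hU⟩
  have hcomap : ∀ (x : X) (hx : x ∈ f ⁻¹ᵁ Dp k n i),
      (hU.primeIdealOf ⟨x, hx⟩).asIdeal.comap (f.app (Dp k n i)).hom =
        (hD.primeIdealOf ⟨f x, hx⟩).asIdeal := by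
    intro x hx
    have h1 := IsAffineOpen.comap_primeIdealOf_appLE (f := f) (Dp k n i) hD (f ⁻¹ᵁ Dp k n i) hU
      le_rfl hx
    rw [Scheme.Hom.appLE_eq_app] at h1
    exact congrArg PrimeSpectrum.asIdeal h1
  refine surjective_of_maximal _ (f.finite_app _ hD) ?_
  intro 𝔪 h𝔪 b
  obtain ⟨y, hy, hycl, h𝔪y⟩ := exists_closedPt_of_isMaximal hD 𝔪
  -- points of the chart over `𝔪` map to `y`
  have hpt : ∀ (x : X) (hx : x ∈ f ⁻¹ᵁ Dp k n i),
      𝔪.map (f.app (Dp k n i)).hom ≤ (hU.primeIdealOf ⟨x, hx⟩).asIdeal → f x = y := by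
    intro x hx hle
    have h1 : 𝔪 ≤ (hD.primeIdealOf ⟨f x, hx⟩).asIdeal := by
      rw [← hcomap x hx]
      exact Ideal.map_le_iff_le_comap.mp hle
    have h2 := h𝔪.eq_of_le (hD.primeIdealOf ⟨f x, hx⟩).isPrime.ne_top h1
    exact primeIdealOf_injective hD hx hy (h2.symm.trans h𝔪y.symm)
  by_cases hex : ∃ P : X, f P = y
  · obtain ⟨P0, hP0⟩ := hex
    have hZ : IsClosed (f ⁻¹' {y}) := hycl.preimage f.continuous
    obtain ⟨P, hPZ, hPcl⟩ := nonempty_inter_closedPoints ⟨P0, hP0⟩ hZ.isLocallyClosed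
    have hfP : f P = y := hPZ
    have hPi : P ∈ f ⁻¹ᵁ Dp k n i := by
      show f P ∈ Dp k n i
      rw [hfP]
      exact hy
    letI := X.presheaf.algebra_section_stalk ⟨P, hPi⟩
    haveI := hU.isLocalization_stalk ⟨P, hPi⟩
    have hmax := IsLocalization.AtPrime.map_eq_maximalIdeal (hU.primeIdealOf ⟨P, hPi⟩).asIdeal
      (X.presheaf.stalk P)
    haveI h𝔫max : (hU.primeIdealOf ⟨P, hPi⟩).asIdeal.IsMaximal :=
      hU.primeIdealOf_isMaximal_of_isClosed ⟨P, hPi⟩ hPcl
    refine exists_sub_mem_map (S := X.presheaf.stalk P) (f.app (Dp k n i)).hom 𝔪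
      (hU.primeIdealOf ⟨P, hPi⟩).asIdeal ?_ ?_ ?_ b
    · -- uniqueness of the prime over `𝔪`
      intro 𝔮 h𝔮 hle
      obtain ⟨x, hx, hxq⟩ := exists_pt_of_isPrime hU 𝔮
      have hfx : f x = y := hpt x hx (hxq ▸ hle)
      have hxP : x = P := by
        have : x ∈ f ⁻¹' {f P} := by
          show f x = f P
          rw [hfx, hfP]
        rw [hfib P hPcl] at this
        exact this
      subst hxP
      exact hxq.symm
    · -- residue fields
      intro b'
      obtain ⟨c, hc⟩ := exists_const_sub_mem ((dh k n i).comp MvPolynomial.C)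
        (f.app (Dp k n i)).hom (f.finite_app _ hD).to_isIntegral 𝔪
        (hU.primeIdealOf ⟨P, hPi⟩).asIdeal
        (by
          rw [hcomap P hPi]
          have : (hD.primeIdealOf ⟨f P, hPi⟩).asIdeal = 𝔪 := by
            rw [← h𝔪y]
            congr 2
            exact Subtype.ext hfP
          exact this.ge)
        (by
          intro s
          obtain ⟨c, hc⟩ := exists_const k n i y hy hycl s
          exact ⟨c, h𝔪y ▸ hc⟩) b'
      exact ⟨_, hc⟩
    · -- tangent condition
      rw [hmax]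
      refine (H2 P hPcl i hPi).trans (sup_le_sup_right ?_ _)
      rw [Ideal.span_le]
      rintro _ ⟨c, rfl, hc⟩
      have hvan := (germ_q_mem_iff (CohB1.polyGrading n k) f P (Groth.Agent.VAmpPn.hX n i) hPi
        (lin_mem k n c)).mp hc
      have h1 : dh k n i (lin k n c) ∈ 𝔪 := by
        rw [← h𝔪y, mem_Dp_lin_iff k n i y hy (lin_mem k n c), ← hfP]
        exact hvan
      rw [dh_lin k n i (lin_mem k n c)] at h1
      exact Ideal.mem_map_of_mem _ (Ideal.mem_map_of_mem _ h1)
  · -- no point over `y`: the extended ideal is the unit ideal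
    have htop : 𝔪.map (f.app (Dp k n i)).hom = ⊤ := by
      by_contra hne
      obtain ⟨𝔫', h𝔫', hle⟩ := Ideal.exists_le_maximal _ hne
      haveI := h𝔫'.isPrime
      obtain ⟨x, hx, hxq⟩ := exists_pt_of_isPrime hU 𝔫'
      exact hex ⟨x, hpt x hx (hxq ▸ hle)⟩
    exact ⟨0, htop ▸ Submodule.mem_top⟩

end Bwd

end Groth.Agent.Lib.SepTanH2
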