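import Mathlib
import Groth.Prelude
import Groth.Agent.Lib.SepTan5_helper2
import Groth.Agent.Lib.ProjUP6_helper5
import Groth.Agent.Lib.ProjTwAmpleD_helper5
import Groth.Agent.S3572

/-!
# Closed immersions of `Proj` into projective space defined by sections of `O(n)` (helper2)
APPEND-ONLY once landed.
-/

set_option autoImplicit false
universe u
open CategoryTheory CategoryTheory.Limits AlgebraicGeometry TopologicalSpace Opposite DirectSum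
open HomogeneousLocalization QcqsLoc GenLocH8 TensH8 PBH8

namespace Groth.Agent.Lib.ProjEmbH2

open Groth.Agent.GrTw Groth.Agent.ProjUPU Groth.Agent.Lib.TwPullH2 Groth.Agent.Lib.ClProjIdealH2
open Groth.Agent.Lib.SepTanH2

section Sch

/-- A morphism with closed range which, over a family of affine opens of the target covering the
range, is affine and surjective on sections, is a closed immersion. -/
theorem isClosedImmersion_of_cover_range {X Y : Scheme.{u}} (f : X ⟶ Y) {ι : Type*}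
    (V : ι → Y.Opens) (hV : ∀ i, IsAffineOpen (V i)) (hfV : ∀ i, IsAffineOpen (f ⁻¹ᵁ V i))
    (hs : ∀ i, Function.Surjective (f.app (V i)).hom)
    (hcov : ∀ x : X, ∃ i, f x ∈ V i) (hcl : IsClosed (Set.range f)) : IsClosedImmersion f := by
  let W : Y.Opens := ⟨(Set.range f)ᶜ, hcl.isOpen_compl⟩
  have hW : ∀ U : Y.Opens, U ≤ W → f ⁻¹ᵁ U = ⊥ := by
    intro U hU
    ext x
    simp only [Opens.coe_bot, Set.mem_empty_iff_false, iff_false]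
    intro hx
    exact hU hx ⟨x, rfl⟩
  -- the big cover
  let κ := ι ⊕ {U : Y.Opens // IsAffineOpen U ∧ U ≤ W}
  let V' : κ → Y.Opens := Sum.elim V (fun U => U.1)
  have hV' : ∀ k, IsAffineOpen (V' k) := by
    rintro (i | U)
    · exact hV i
    · exact U.2.1
  have hfV' : ∀ k, IsAffineOpen (f ⁻¹ᵁ V' k) := by
    rintro (i | U)
    · exact hfV i
    · show IsAffineOpen (f ⁻¹ᵁ U.1)
      rw [hW U.1 U.2.2]
      exact isAffineOpen_bot X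
  have hex : ∀ y : Y, ∃ k, y ∈ V' k := by
    intro y
    by_cases hy : y ∈ Set.range f
    · obtain ⟨x, rfl⟩ := hy
      obtain ⟨i, hi⟩ := hcov x
      exact ⟨Sum.inl i, hi⟩
    · have hyW : y ∈ W := hy
      obtain ⟨U, hU, hyU, hUW⟩ := exists_isAffineOpen_mem_and_subset (U := W) hyW
      exact ⟨Sum.inr ⟨U, hU, hUW⟩, hyU⟩
  haveI : IsAffineHom f := by
    apply isAffineHom_of_forall_exists_isAffineOpen
    intro y
    obtain ⟨k, hk⟩ := hex y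
    exact ⟨V' k, hk, hV' k, hfV' k⟩
  refine isClosedImmersion_of_cover f V' hV' ?_ ?_
  · rw [eq_top_iff]
    intro y _
    obtain ⟨k, hk⟩ := hex y
    exact Opens.mem_iSup.mpr ⟨k, hk⟩
  · rintro (i | U)
    · exact hs i
    · intro b
      have h1 : ∀ O : X.Opens, O = ⊥ → Subsingleton Γ(X, O) := by
        rintro O rfl
        infer_instance
      haveI : Subsingleton Γ(X, f ⁻¹ᵁ V' (Sum.inr U)) := h1 _ (hW U.1 U.2.2)
      exact ⟨0, Subsingleton.elim _ _⟩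

end Sch

section Tgt
variable {A S : Type u} [CommRing A] [CommRing S] [Algebra A S] (𝒮 : ℕ → Submodule A S)
  [GradedAlgebra 𝒮] {X : Scheme.{u}} (r : X ⟶ Proj 𝒮) {L : X.Modules}
  (τ : (Scheme.Modules.pullback r).obj (Twist.twist 𝒮 1) ≅ L)
  (hcov : ∀ x : Proj 𝒮, ∃ f ∈ 𝒮 1, x ∈ Proj.basicOpen 𝒮 f)

theorem ap_psec_tau {g : S} (hg : g ∈ 𝒮 1) {s : Γ(L, ⊤)}
    (hτ : τ.hom.app ⊤ (ProjUP.pullSec r (Twist.twist 𝒮 1) (sig 𝒮 hg)) = s) (U : X.Opens) :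
    QCohExtn.ap τ.hom U (psec r (Twist.twist 𝒮 1) (sig 𝒮 hg) U) = rF L (le_top : U ≤ ⊤) s := by
  unfold psec
  rw [QCohExtn.ap_rF]
  exact congrArg _ hτ

include hcov in
theorem isGen_tau {g : S} (hg : g ∈ 𝒮 1) {s : Γ(L, ⊤)}
    (hτ : τ.hom.app ⊤ (ProjUP.pullSec r (Twist.twist 𝒮 1) (sig 𝒮 hg)) = s) {U : X.Opens}
    (h : U ≤ r ⁻¹ᵁ Proj.basicOpen 𝒮 g) : IsGen L U (rF L (le_top : U ≤ ⊤) s) := by
  have := isGen_of_iso τ (isGen_psec 𝒮 r hcov hg h)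
  rwa [ap_psec_tau 𝒮 r τ hg hτ] at this

include hcov in
theorem le_preimage_of_isGen {g : S} (hg : g ∈ 𝒮 1) {s : Γ(L, ⊤)}
    (hτ : τ.hom.app ⊤ (ProjUP.pullSec r (Twist.twist 𝒮 1) (sig 𝒮 hg)) = s) {U : X.Opens}
    (hU : IsGen L U (rF L (le_top : U ≤ ⊤) s)) : U ≤ r ⁻¹ᵁ Proj.basicOpen 𝒮 g := by
  intro x hx
  refine mem_of_isGen 𝒮 r hcov hg (U := U) ?_ hx
  have h1 := isGen_of_iso τ.symm hU
  have h2 : QCohExtn.ap τ.symm.hom U (rF L (le_top : U ≤ ⊤) s) =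
      psec r (Twist.twist 𝒮 1) (sig 𝒮 hg) U := by
    rw [← ap_psec_tau 𝒮 r τ hg hτ U]
    have h3 : QCohExtn.ap (τ.hom ≫ τ.inv) U (psec r (Twist.twist 𝒮 1) (sig 𝒮 hg) U) =
        QCohExtn.ap τ.inv U (QCohExtn.ap τ.hom U (psec r (Twist.twist 𝒮 1) (sig 𝒮 hg) U)) := rfl
    rw [τ.hom_inv_id] at h3
    exact h3.symm
  rwa [h2] at h1

theorem rF_eq_smul_tau {f g : S} (hf : f ∈ 𝒮 1) (hg : g ∈ 𝒮 1) {sf sg : Γ(L, ⊤)}
    (hτf : τ.hom.app ⊤ (ProjUP.pullSec r (Twist.twist 𝒮 1) (sig 𝒮 hf)) = sf)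
    (hτg : τ.hom.app ⊤ (ProjUP.pullSec r (Twist.twist 𝒮 1) (sig 𝒮 hg)) = sg) {U : X.Opens}
    (h : U ≤ r ⁻¹ᵁ Proj.basicOpen 𝒮 f) :
    rF L (le_top : U ≤ ⊤) sg =
      (r.appLE (Proj.basicOpen 𝒮 f) U h (rat 𝒮 hf hg)) • rF L (le_top : U ≤ ⊤) sf := by
  have e1 := psec_eq_smul 𝒮 r hf hg h
  have e3 := congrArg (QCohExtn.ap τ.hom U) e1
  rw [QCohExtn.ap_smul, ap_psec_tau 𝒮 r τ hg hτg, ap_psec_tau 𝒮 r τ hf hτf] at e3
  exact e3

end Tgt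

section Cst
variable {R : Type u} [CommRing R] {X Y : Scheme.{u}} (qX : X ⟶ Spec (CommRingCat.of R))
  (qY : Y ⟶ Spec (CommRingCat.of R)) (r : X ⟶ Y) (hr : r ≫ qY = qX)

/-- The constant function `c` on an open of a scheme over `Spec R`. -/
noncomputable abbrev cst (U : X.Opens) (c : R) : Γ(X, U) :=
  rX (le_top : U ≤ ⊤) (ProjUP.toGlobal qX c)

include hr in
theorem toGlobal_comp (c : R) : ProjUP.toGlobal qX c = (r.appTop).hom (ProjUP.toGlobal qY c) := by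
  subst hr
  unfold ProjUP.toGlobal
  rw [Scheme.Hom.comp_appTop]
  rfl

include hr in
theorem appLE_cst {V : Y.Opens} {U : X.Opens} (h : U ≤ r ⁻¹ᵁ V) (c : R) :
    (r.appLE V U h).hom (cst qY V c) = cst qX U c := by
  unfold cst
  rw [toGlobal_comp qX qY r hr c]
  have h1 := Scheme.Hom.map_appLE r h (homOfLE (le_top : V ≤ ⊤)).op
  have ht : (⊤ : X.Opens) ≤ r ⁻¹ᵁ (⊤ : Y.Opens) := fun _ _ => trivial
  have h2 := Scheme.Hom.appLE_map r ht (homOfLE (le_top : U ≤ ⊤)).op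
  have h3 : (r.appLE V U h).hom (rX (le_top : V ≤ ⊤) (ProjUP.toGlobal qY c)) =
      (Y.presheaf.map (homOfLE (le_top : V ≤ ⊤)).op ≫ r.appLE V U h).hom
        (ProjUP.toGlobal qY c) := rfl
  have h4 : rX (le_top : U ≤ ⊤) ((r.appTop).hom (ProjUP.toGlobal qY c)) =
      (r.appLE ⊤ ⊤ ht ≫
        X.presheaf.map (homOfLE (le_top : U ≤ ⊤)).op).hom (ProjUP.toGlobal qY c) := by
    have h5 : r.appLE ⊤ ⊤ ht = r.appTop := (Scheme.Hom.app_eq_appLE r).symm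
    rw [h5]
    rfl
  rw [h3, h4, h1, h2]

end Cst

section Src
variable {R A : Type u} [CommRing R] [CommRing A] [Algebra R A] (𝒜 : ℕ → Submodule R A)
  [GradedAlgebra 𝒜]

theorem mem_one_smul {D : ℕ} {g : A} (hg : g ∈ 𝒜 D) : g ∈ 𝒜 (1 • D) := by
  simpa using hg

/-- `g / f` on `D_+(f)`, for `f`, `g` homogeneous of the same degree. -/
noncomputable abbrev rt {D : ℕ} {f g : A} (hf : f ∈ 𝒜 D) (hg : g ∈ 𝒜 D) :
    Γ(Proj 𝒜, Proj.basicOpen 𝒜 f) :=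
  fracO 𝒜 hf 1 g (mem_one_smul 𝒜 hg)

theorem rF_globalOf_eq_smul {D : ℕ} {f g : A} (hf : f ∈ 𝒜 D) (hg : g ∈ 𝒜 D) :
    rF (Twist.twist 𝒜 (D : ℤ)) (le_top : Proj.basicOpen 𝒜 f ≤ ⊤) (Twist.globalOf 𝒜 ⟨g, hg⟩) =
      rt 𝒜 hf hg • (show Γ(Twist.twist 𝒜 (D : ℤ), Proj.basicOpen 𝒜 f) from
        ProjTw.genSecK 𝒜 hf 1 (D : ℤ) (by simp)) := by
  apply Subtype.ext
  funext y
  apply Subtype.ext
  refine Eq.trans ?_ (ProjTw.smul_valN 𝒜 (D : ℤ) (op (ProjectiveSpectrum.basicOpen 𝒜 f))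
    (rt 𝒜 hf hg) (ProjTw.genSecK 𝒜 hf 1 (D : ℤ) (by simp)) y).symm
  show Localization.mk _ _ = Localization.mk _ _ * Localization.mk _ _
  rw [Localization.mk_mul, Localization.mk_eq_mk_iff, Localization.r_iff_exists]
  refine ⟨1, ?_⟩
  simp only [Submonoid.coe_mul, Submonoid.coe_one, one_mul]
  simp
  exact mul_comm f g

theorem basicOpen_rt {D : ℕ} {f g : A} (hf : f ∈ 𝒜 D) (hg : g ∈ 𝒜 D) :
    (Proj 𝒜).basicOpen (rt 𝒜 hf hg) = Proj.basicOpen 𝒜 f ⊓ Proj.basicOpen 𝒜 g := by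
  ext y
  constructor
  · intro hy
    have hyf : y ∈ Proj.basicOpen 𝒜 f := (Proj 𝒜).basicOpen_le _ hy
    refine ⟨hyf, ?_⟩
    have h2 := (Groth.Agent.ProjQC.mem_basicOpen_iff 𝒜 _ _ y hyf).mp hy
    exact (Groth.Agent.ProjQC.isUnit_iff_of_val 𝒜 y _ g (f ^ 1)
      (fun h => hyf (y.isPrime.mem_of_pow_mem _ h)) (ProjTw.ratio_val 𝒜 hf hg ⟨y, hyf⟩)).mp h2
  · rintro ⟨hyf, hyg⟩
    apply (Groth.Agent.ProjQC.mem_basicOpen_iff 𝒜 _ _ y hyf).mpr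
    exact (Groth.Agent.ProjQC.isUnit_iff_of_val 𝒜 y _ g (f ^ 1)
      (fun h => hyf (y.isPrime.mem_of_pow_mem _ h)) (ProjTw.ratio_val 𝒜 hf hg ⟨y, hyf⟩)).mpr hyg

theorem isGen_globalOf {D : ℕ} (hD : 0 < D) {f : A} (hf : f ∈ 𝒜 D) :
    IsGen (Twist.twist 𝒜 (D : ℤ)) (Proj.basicOpen 𝒜 f)
      (rF (Twist.twist 𝒜 (D : ℤ)) (le_top : Proj.basicOpen 𝒜 f ≤ ⊤)
        (Twist.globalOf 𝒜 ⟨f, hf⟩)) := by
  rw [ProjTw.rF_globalOf_deg 𝒜 hf]
  exact ProjTw.isGen_genSecK 𝒜 hD hf 1 (D : ℤ) (by simp)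

theorem le_basicOpen_of_isGen {D : ℕ} (hD : 0 < D)
    (hcov : ∀ x : Proj 𝒜, ∃ f ∈ 𝒜 D, x ∈ Proj.basicOpen 𝒜 f) {g : A} (hg : g ∈ 𝒜 D)
    {W : (Proj 𝒜).Opens}
    (hW : IsGen (Twist.twist 𝒜 (D : ℤ)) W
      (rF (Twist.twist 𝒜 (D : ℤ)) (le_top : W ≤ ⊤) (Twist.globalOf 𝒜 ⟨g, hg⟩))) :
    W ≤ Proj.basicOpen 𝒜 g := by
  intro x hx
  obtain ⟨f, hf, hxf⟩ := hcov x
  have hO1 : W ⊓ Proj.basicOpen 𝒜 f ≤ W := inf_le_left
  have hO2 : W ⊓ Proj.basicOpen 𝒜 f ≤ Proj.basicOpen 𝒜 f := inf_le_right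
  have he := (ProjTw.isGen_genSecK 𝒜 hD hf 1 (D : ℤ) (by simp)).res hO2
  have hg2 := hW.res hO1
  rw [rF_rF] at hg2
  have h1 : rF (Twist.twist 𝒜 (D : ℤ)) (le_top : W ⊓ Proj.basicOpen 𝒜 f ≤ ⊤)
      (Twist.globalOf 𝒜 ⟨g, hg⟩) =
      rX hO2 (rt 𝒜 hf hg) • rF (Twist.twist 𝒜 (D : ℤ)) hO2
        (show Γ(Twist.twist 𝒜 (D : ℤ), Proj.basicOpen 𝒜 f) from
          ProjTw.genSecK 𝒜 hf 1 (D : ℤ) (by simp)) := by
    rw [← rF_smul, ← rF_globalOf_eq_smul 𝒜 hf hg, rF_rF]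
  rw [h1] at hg2
  have hc := isUnit_of_isGen_smul he hg2
  have h5 := Scheme.basicOpen_of_isUnit (Proj 𝒜) hc
  have h6 : (Proj 𝒜).basicOpen (rX hO2 (rt 𝒜 hf hg)) =
      (W ⊓ Proj.basicOpen 𝒜 f) ⊓ (Proj 𝒜).basicOpen (rt 𝒜 hf hg) :=
    Scheme.basicOpen_res (Proj 𝒜) (rt 𝒜 hf hg) (homOfLE hO2).op
  rw [h6, basicOpen_rt] at h5
  have hx' : x ∈ W ⊓ Proj.basicOpen 𝒜 f := ⟨hx, hxf⟩
  rw [← h5] at hx'
  exact hx'.2.2

end Src

section Main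
variable {R A : Type u} [CommRing R] [CommRing A] [Algebra R A] (𝒜 : ℕ → Submodule R A)
  [GradedAlgebra 𝒜]

/-- The structure morphism of `Proj 𝒜` over `Spec R`. -/
noncomputable abbrev qX : Proj 𝒜 ⟶ Spec (CommRingCat.of R) :=
  Proj.toSpecZero 𝒜 ≫ Spec.map (CommRingCat.ofHom (algebraMap R (𝒜 0)))

theorem surjective_app_of_appLE {X Y : Scheme.{u}} (r : X ⟶ Y) (V : Y.Opens) (U : X.Opens)
    (h : U ≤ r ⁻¹ᵁ V) (h' : r ⁻¹ᵁ V ≤ U) (hs : Function.Surjective (r.appLE V U h).hom) :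
    Function.Surjective (r.app V).hom := by
  have heq : r ⁻¹ᵁ V = U := le_antisymm h' h
  have key : ∀ (U' : X.Opens) (e : U' = r ⁻¹ᵁ V) (h'' : U' ≤ r ⁻¹ᵁ V),
      Function.Surjective (r.appLE V U' h'').hom → Function.Surjective (r.app V).hom := by
    rintro U' rfl h'' hs'
    rwa [Scheme.Hom.appLE_eq_app] at hs'
  exact key U heq.symm h hs

/-- **Main criterion**: sections `b j ∈ 𝒜 n` of `O(n)` on `Proj 𝒜` such that the `D_+(b j)`,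
`j ∈ J`, cover and have rings of functions generated by the ratios `b i / b j` define a closed
immersion into projective space (if the range is closed) pulling `O(1)` back to `O(n)`. -/
theorem exists_closedImmersion_of_sections (n : ℕ) (hn : 0 < n) (N : ℕ) (b : Fin (N + 1) → A)
    (hb : ∀ j, b j ∈ 𝒜 n) (J : Set (Fin (N + 1)))
    (H1 : ∀ x : Proj 𝒜, ∃ j ∈ J, x ∈ Proj.basicOpen 𝒜 (b j))
    (H2 : ∀ j ∈ J, ∀ T : Subring Γ(Proj 𝒜, Proj.basicOpen 𝒜 (b j)),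
      (∀ i, rt 𝒜 (hb j) (hb i) ∈ T) →
      (∀ c : R, cst (qX 𝒜) (Proj.basicOpen 𝒜 (b j)) c ∈ T) → T = ⊤)
    (H3 : ∀ r : Proj 𝒜 ⟶ CohB1.ProjSpace N R, r ≫ CohB1.ProjSpace.toSpec N R = qX 𝒜 →
      IsClosed (Set.range r)) :
    ∃ r : Proj 𝒜 ⟶ CohB1.ProjSpace N R, IsClosedImmersion r ∧
      r ≫ CohB1.ProjSpace.toSpec N R = qX 𝒜 ∧
      Nonempty ((Scheme.Modules.pullback r).obj (Twist.twistProjSpace N R 1) ≅
        Twist.twist 𝒜 (n : ℤ)) := by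
  classical
  have hcovD : ∀ x : Proj 𝒜, ∃ f ∈ 𝒜 n, x ∈ Proj.basicOpen 𝒜 f := by
    intro x
    obtain ⟨j, -, hj⟩ := H1 x
    exact ⟨b j, hb j, hj⟩
  have hL : PicF.IsInvertible (Twist.twist 𝒜 (n : ℤ)) := by
    apply TensH8.isInvertible_of_gens
    intro x
    obtain ⟨f, hf, hx⟩ := hcovD x
    exact ⟨Proj.basicOpen 𝒜 f, Proj.isAffineOpen_basicOpen 𝒜 f hf hn, hx, _,
      ProjTw.isGen_genSecK 𝒜 hn hf 1 (n : ℤ) (by simp)⟩
  let s : Fin (N + 1) → ProjUP.Γm (Twist.twist 𝒜 (n : ℤ)) :=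
    fun j => Twist.globalOf 𝒜 ⟨b j, hb j⟩
  have hs : ProjUP.GeneratedBy (Twist.twist 𝒜 (n : ℤ)) s := by
    intro x
    obtain ⟨j, -, hx⟩ := H1 x
    have he := ProjTw.isGen_genSecK 𝒜 hn (hb j) 1 (n : ℤ) (by simp)
    obtain ⟨h1, -⟩ := SecOrdH8.stalk_gen he hx
    rw [eq_top_iff]
    intro z _
    obtain ⟨a, rfl⟩ := h1 z
    apply Submodule.smul_mem
    apply Submodule.subset_span
    refine ⟨j, ?_⟩
    show _ = _
    rw [← ProjTw.rF_globalOf_deg 𝒜 (hb j)]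
    exact (SecOrdH8.germ_rF (Twist.twist 𝒜 (n : ℤ)) le_top x hx _).symm
  obtain ⟨r0, hr0, τ0, hτ0⟩ := Groth.Agent.S3572.result N (qX 𝒜) (Twist.twist 𝒜 (n : ℤ)) hL s hs
  refine ⟨r0, ?_, hr0, ⟨τ0⟩⟩
  -- work in `Proj (polyGrading N R)`
  let r : Proj 𝒜 ⟶ Proj (CohB1.polyGrading N R) := r0
  let τ : (Scheme.Modules.pullback r).obj (Twist.twist (CohB1.polyGrading N R) 1) ≅
      Twist.twist 𝒜 (n : ℤ) := τ0
  have hτ : ∀ i, τ.hom.app ⊤ (ProjUP.pullSec r (Twist.twist (CohB1.polyGrading N R) 1)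
      (sig (CohB1.polyGrading N R) (Groth.Agent.VAmpPn.hX N i))) = s i := hτ0
  have hcov := Groth.Agent.VAmpPn.hcov (R := R) N
  have hUV : ∀ j, Proj.basicOpen 𝒜 (b j) ≤
      r ⁻¹ᵁ Proj.basicOpen (CohB1.polyGrading N R) (MvPolynomial.X j) := fun j =>
    le_preimage_of_isGen (CohB1.polyGrading N R) r τ hcov (Groth.Agent.VAmpPn.hX N j) (hτ j)
      (isGen_globalOf 𝒜 hn (hb j))
  have hVU : ∀ j, r ⁻¹ᵁ Proj.basicOpen (CohB1.polyGrading N R) (MvPolynomial.X j) ≤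
      Proj.basicOpen 𝒜 (b j) := fun j =>
    le_basicOpen_of_isGen 𝒜 hn hcovD (hb j)
      (isGen_tau (CohB1.polyGrading N R) r τ hcov (Groth.Agent.VAmpPn.hX N j) (hτ j) le_rfl)
  have hrat : ∀ j i, (r.appLE (Proj.basicOpen (CohB1.polyGrading N R) (MvPolynomial.X j))
      (Proj.basicOpen 𝒜 (b j)) (hUV j)).hom
      (rat (CohB1.polyGrading N R) (Groth.Agent.VAmpPn.hX N j) (Groth.Agent.VAmpPn.hX N i)) =
      rt 𝒜 (hb j) (hb i) := by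
    intro j i
    have e1 := rF_eq_smul_tau (CohB1.polyGrading N R) r τ (Groth.Agent.VAmpPn.hX N j)
      (Groth.Agent.VAmpPn.hX N i) (hτ j) (hτ i) (hUV j)
    have e2 := rF_globalOf_eq_smul 𝒜 (hb j) (hb i)
    rw [← ProjTw.rF_globalOf_deg 𝒜 (hb j)] at e2
    exact IsGen.coef_ext (isGen_globalOf 𝒜 hn (hb j)) (e1.symm.trans e2)
  have hsurj : ∀ j ∈ J, Function.Surjective
      (r.appLE (Proj.basicOpen (CohB1.polyGrading N R) (MvPolynomial.X j))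
        (Proj.basicOpen 𝒜 (b j)) (hUV j)).hom := by
    intro j hj
    have hT := H2 j hj (r.appLE (Proj.basicOpen (CohB1.polyGrading N R) (MvPolynomial.X j))
      (Proj.basicOpen 𝒜 (b j)) (hUV j)).hom.range ?_ ?_
    · intro y
      have : y ∈ (⊤ : Subring Γ(Proj 𝒜, Proj.basicOpen 𝒜 (b j))) := Subring.mem_top y
      rw [← hT] at this
      exact this
    · intro i
      exact ⟨_, hrat j i⟩
    · intro c
      exact ⟨_, appLE_cst (qX 𝒜) (CohB1.ProjSpace.toSpec N R) r hr0 (hUV j) c⟩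
  refine isClosedImmersion_of_cover_range r
    (fun j : J => Proj.basicOpen (CohB1.polyGrading N R) (MvPolynomial.X j.1))
    (fun j => Proj.isAffineOpen_basicOpen _ _ (Groth.Agent.VAmpPn.hX N j.1) one_pos)
    (fun j => ?_) (fun j => ?_) (fun x => ?_) (H3 r0 hr0)
  · have h1 : r ⁻¹ᵁ Proj.basicOpen (CohB1.polyGrading N R) (MvPolynomial.X j.1) =
        Proj.basicOpen 𝒜 (b j.1) := le_antisymm (hVU j.1) (hUV j.1)
    rw [h1]
    exact Proj.isAffineOpen_basicOpen 𝒜 (b j.1) (hb j.1) hn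
  · exact surjective_app_of_appLE r _ _ (hUV j.1) (hVU j.1) (hsurj j.1 j.2)
  · obtain ⟨j, hj, hx⟩ := H1 x
    exact ⟨⟨j, hj⟩, hUV j hx⟩

end Main

end Groth.Agent.Lib.ProjEmbH2
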