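import Mathlib
import Groth.Prelude
import Groth.Agent.Lib.ProjSecEmb1_helper2
import Groth.Agent.Lib.ProjSpaceProper_helper4
import Groth.Agent.Lib.ESZ1_helper6

/-!
# Closed immersions of `Proj` into projective space defined by sections of `O(n)`, part 2 (helper2)
APPEND-ONLY once landed.
-/

set_option autoImplicit false
universe u
open CategoryTheory CategoryTheory.Limits AlgebraicGeometry TopologicalSpace Opposite DirectSum
open HomogeneousLocalization QcqsLoc GenLocH8 TensH8 PBH8

namespace Groth.Agent.Lib.ProjEmbH2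

open Groth.Agent.GrTw Groth.Agent.ProjUPU Groth.Agent.Lib.TwPullH2 Groth.Agent.Lib.ClProjIdealH2
open Groth.Agent.Lib.SepTanH2

section Proper
variable {R A : Type u} [CommRing R] [CommRing A] [Algebra R A] (𝒜 : ℕ → Submodule R A)
  [GradedAlgebra 𝒜] {s : ℕ} (f : Fin s → A) (deg : Fin s → ℕ) (hdeg : ∀ i, 0 < deg i)
  (hf : ∀ i, f i ∈ 𝒜 (deg i)) (hgen : Algebra.adjoin R (Set.range f) = ⊤)

include hdeg hf hgen in
theorem surjective_algebraMap_zero : Function.Surjective (algebraMap R (𝒜 0)) := by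
  classical
  have key : ∀ x : A, ((DirectSum.decompose 𝒜 x 0 : 𝒜 0) : A) ∈ Set.range (algebraMap R A) := by
    intro x
    have hx : x ∈ Algebra.adjoin R (Set.range f) := hgen ▸ Algebra.mem_top
    induction hx using Algebra.adjoin_induction with
    | mem x hx =>
      obtain ⟨i, rfl⟩ := hx
      rw [DirectSum.decompose_of_mem_ne 𝒜 (hf i) (hdeg i).ne']
      exact ⟨0, map_zero _⟩
    | algebraMap c =>
      rw [DirectSum.decompose_of_mem_same 𝒜 (SetLike.algebraMap_mem_graded 𝒜 c)]
      exact ⟨c, rfl⟩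
    | add x y _ _ hx hy =>
      obtain ⟨a, ha⟩ := hx
      obtain ⟨b, hb⟩ := hy
      refine ⟨a + b, ?_⟩
      rw [map_add, ha, hb, DirectSum.decompose_add]
      rfl
    | mul x y _ _ hx hy =>
      obtain ⟨a, ha⟩ := hx
      obtain ⟨b, hb⟩ := hy
      refine ⟨a * b, ?_⟩
      rw [map_mul, ha, hb]
      have h1 := map_mul (GradedRing.projZeroRingHom 𝒜) x y
      exact h1.symm
  rintro ⟨a, ha⟩
  obtain ⟨c, hc⟩ := key a
  refine ⟨c, Subtype.ext ?_⟩
  rw [DirectSum.decompose_of_mem_same 𝒜 ha] at hc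
  exact hc

include hgen in
theorem finiteType_zero : Algebra.FiniteType (𝒜 0) A := by
  classical
  refine ⟨⟨Finset.univ.image f, ?_⟩⟩
  rw [eq_top_iff]
  rintro x -
  have hx : x ∈ Algebra.adjoin R (Set.range f) := hgen ▸ Algebra.mem_top
  induction hx using Algebra.adjoin_induction with
  | mem x hx =>
    obtain ⟨i, rfl⟩ := hx
    exact Algebra.subset_adjoin (by simp)
  | algebraMap c =>
    have : (algebraMap R A c) = algebraMap (𝒜 0) A (algebraMap R (𝒜 0) c) := rfl
    rw [this]
    exact Subalgebra.algebraMap_mem _ _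
  | add x y _ _ hx hy => exact add_mem hx hy
  | mul x y _ _ hx hy => exact mul_mem hx hy

include hdeg hf hgen in
theorem isProper_qX : IsProper (qX 𝒜) := by
  haveI := finiteType_zero 𝒜 f hgen
  have h1 : IsProper (Proj.toSpecZero 𝒜) := inferInstance
  have h2 : IsClosedImmersion (Spec.map (CommRingCat.ofHom (algebraMap R (𝒜 0)))) :=
    IsClosedImmersion.spec_of_surjective _ (surjective_algebraMap_zero 𝒜 f deg hdeg hf hgen)
  have h3 : IsProper (Spec.map (CommRingCat.ofHom (algebraMap R (𝒜 0)))) := inferInstance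
  exact MorphismProperty.comp_mem _ _ _ h1 h3

include hdeg hf hgen in
theorem isClosed_range_of_over (N : ℕ) (r : Proj 𝒜 ⟶ CohB1.ProjSpace N R)
    (hr : r ≫ CohB1.ProjSpace.toSpec N R = qX 𝒜) : IsClosed (Set.range r) := by
  haveI hp : IsProper (CohB1.ProjSpace.toSpec N R) :=
    Groth.Agent.Lib.ProjSpaceProperH4.isProper_toSpec N R
  haveI : IsProper (r ≫ CohB1.ProjSpace.toSpec N R) := hr ▸ isProper_qX 𝒜 f deg hdeg hf hgen
  haveI : IsProper r := IsProper.of_comp r (CohB1.ProjSpace.toSpec N R)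
  exact r.isClosedMap.isClosed_range

end Proper

section Transfer
variable {R : Type u} [CommRing R]

/-- Transfer a closed immersion into `P^N_R` to one into `P^N_ℤ ×_ℤ Spec R`. -/
theorem exists_over_of_projSpace {X : Scheme.{u}} (q : X ⟶ Spec (CommRingCat.of R)) (L : X.Modules)
    (N : ℕ) (r : X ⟶ CohB1.ProjSpace N R) [IsClosedImmersion r]
    (hr : r ≫ CohB1.ProjSpace.toSpec N R = q)
    (hL : Nonempty ((Scheme.Modules.pullback r).obj (Twist.twistProjSpace N R 1) ≅ L)) :
    ∃ i : X ⟶ CohB1.ProjSpaceOver N (Spec (CommRingCat.of R)), IsClosedImmersion i ∧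
      i ≫ pullback.snd (CohB1.ProjSpace.toSpec N (ULift.{u} ℤ))
        (specULiftZIsTerminal.from (Spec (CommRingCat.of R))) = q ∧
      Nonempty (L ≅ (Scheme.Modules.pullback i).obj
        (Twist.twistOver N (Spec (CommRingCat.of R)) 1)) := by
  obtain ⟨e⟩ := hL
  obtain ⟨e'⟩ := Groth.Agent.Lib.ESZH6.pullback_projIso_hom_twistOver N R 1
  refine ⟨r ≫ (Groth.Agent.Lib.ESZH6.projIso N R).hom, inferInstance, ?_, ?_⟩
  · rw [Category.assoc]
    have h1 := Groth.Agent.Lib.ESZH6.projIso_hom_toBase N R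
    unfold CohB1.ProjSpaceOver.toBase at h1
    rw [h1, hr]
  · exact ⟨e.symm ≪≫ (Scheme.Modules.pullback r).mapIso e'.symm ≪≫
      (Scheme.Modules.pullbackComp r (Groth.Agent.Lib.ESZH6.projIso N R).hom).app _⟩

end Transfer

end Groth.Agent.Lib.ProjEmbH2
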