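import Mathlib
import Groth.Prelude
import Groth.Agent.Lib.ProjSecEmb2_helper2

/-!
# Closed immersions of `Proj` into projective space defined by sections of `O(n)`, part 3:
`Proj` covered in degree one (helper2)
APPEND-ONLY once landed.
-/

set_option autoImplicit false
universe u
open CategoryTheory CategoryTheory.Limits AlgebraicGeometry TopologicalSpace Opposite DirectSum
open HomogeneousLocalization QcqsLoc GenLocH8 TensH8 PBH8

namespace Groth.Agent.Lib.ProjEmbH2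

open Groth.Agent.GrTw Groth.Agent.ProjUPU Groth.Agent.Lib.TwPullH2 Groth.Agent.Lib.ClProjIdealH2
open Groth.Agent.Lib.SepTanH2

section FinGen

/-- A finite type algebra generated by a set is generated by a finite subset of it. -/
theorem exists_finset_subset_adjoin_eq_top {R A : Type*} [CommRing R] [CommRing A] [Algebra R A]
    [Algebra.FiniteType R A] (G : Set A) (hG : Algebra.adjoin R G = ⊤) :
    ∃ F : Finset A, (F : Set A) ⊆ G ∧ Algebra.adjoin R (F : Set A) = ⊤ := by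
  classical
  have key : ∀ x ∈ Algebra.adjoin R G,
      ∃ F : Finset A, (F : Set A) ⊆ G ∧ x ∈ Algebra.adjoin R (F : Set A) := by
    intro x hx
    induction hx using Algebra.adjoin_induction with
    | mem x hx =>
      refine ⟨{x}, ?_, Algebra.subset_adjoin (by simp)⟩
      simpa using hx
    | algebraMap c => exact ⟨∅, by simp, Subalgebra.algebraMap_mem _ c⟩
    | add x y _ _ hx hy =>
      obtain ⟨F1, h1, h1'⟩ := hx
      obtain ⟨F2, h2, h2'⟩ := hy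
      refine ⟨F1 ∪ F2, ?_, add_mem (Algebra.adjoin_mono ?_ h1') (Algebra.adjoin_mono ?_ h2')⟩
      · rw [Finset.coe_union]
        exact Set.union_subset h1 h2
      · rw [Finset.coe_union]
        exact Set.subset_union_left
      · rw [Finset.coe_union]
        exact Set.subset_union_right
    | mul x y _ _ hx hy =>
      obtain ⟨F1, h1, h1'⟩ := hx
      obtain ⟨F2, h2, h2'⟩ := hy
      refine ⟨F1 ∪ F2, ?_, mul_mem (Algebra.adjoin_mono ?_ h1') (Algebra.adjoin_mono ?_ h2')⟩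
      · rw [Finset.coe_union]
        exact Set.union_subset h1 h2
      · rw [Finset.coe_union]
        exact Set.subset_union_left
      · rw [Finset.coe_union]
        exact Set.subset_union_right
  obtain ⟨S0, hS0⟩ := (Algebra.FiniteType.out : (⊤ : Subalgebra R A).FG)
  have key' : ∀ x : A, ∃ F : Finset A, (F : Set A) ⊆ G ∧ x ∈ Algebra.adjoin R (F : Set A) :=
    fun x => key x (hG ▸ Algebra.mem_top)
  choose F hF1 hF2 using key'
  refine ⟨S0.biUnion F, ?_, ?_⟩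
  · intro y hy
    rw [Finset.coe_biUnion] at hy
    obtain ⟨x, -, hy⟩ := Set.mem_iUnion₂.mp hy
    exact hF1 x hy
  · rw [eq_top_iff, ← hS0, Algebra.adjoin_le_iff]
    intro x hx
    refine Algebra.adjoin_mono ?_ (hF2 x)
    intro y hy
    rw [Finset.coe_biUnion]
    exact Set.mem_iUnion₂.mpr ⟨x, hx, hy⟩

end FinGen

section Reindex
variable {R A : Type u} [CommRing R] [CommRing A] [Algebra R A] (𝒜 : ℕ → Submodule R A)
  [GradedAlgebra 𝒜]

/-- The main criterion for a family indexed by an arbitrary nonempty finite type. -/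
theorem exists_closedImmersion_of_sections_fintype {ι : Type*} [Fintype ι] [Nonempty ι]
    (n : ℕ) (hn : 0 < n) (b : ι → A) (hb : ∀ j, b j ∈ 𝒜 n) (J : Set ι)
    (H1 : ∀ x : Proj 𝒜, ∃ j ∈ J, x ∈ Proj.basicOpen 𝒜 (b j))
    (H2 : ∀ j ∈ J, ∀ T : Subring Γ(Proj 𝒜, Proj.basicOpen 𝒜 (b j)),
      (∀ i, rt 𝒜 (hb j) (hb i) ∈ T) →
      (∀ c : R, cst (qX 𝒜) (Proj.basicOpen 𝒜 (b j)) c ∈ T) → T = ⊤)
    (H3 : ∀ (N : ℕ) (r : Proj 𝒜 ⟶ CohB1.ProjSpace N R),
      r ≫ CohB1.ProjSpace.toSpec N R = qX 𝒜 → IsClosed (Set.range r)) :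
    ∃ (N : ℕ) (r : Proj 𝒜 ⟶ CohB1.ProjSpace N R), IsClosedImmersion r ∧
      r ≫ CohB1.ProjSpace.toSpec N R = qX 𝒜 ∧
      Nonempty ((Scheme.Modules.pullback r).obj (Twist.twistProjSpace N R 1) ≅
        Twist.twist 𝒜 (n : ℤ)) := by
  classical
  obtain ⟨N, hN⟩ : ∃ N, Fintype.card ι = N + 1 :=
    ⟨Fintype.card ι - 1, by have := Fintype.card_pos (α := ι); omega⟩
  let e : ι ≃ Fin (N + 1) := Fintype.equivFinOfCardEq hN
  refine ⟨N, exists_closedImmersion_of_sections 𝒜 n hn N (fun k => b (e.symm k))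
    (fun k => hb _) (e.symm ⁻¹' J) ?_ ?_ (H3 N)⟩
  · intro x
    obtain ⟨j, hj, hx⟩ := H1 x
    refine ⟨e j, ?_, ?_⟩
    · show e.symm (e j) ∈ J
      rw [e.symm_apply_apply]
      exact hj
    · show x ∈ Proj.basicOpen 𝒜 (b (e.symm (e j)))
      rw [e.symm_apply_apply]
      exact hx
  · intro k hk T hrat hcst
    refine H2 (e.symm k) hk T (fun i => ?_) hcst
    have heq : rt 𝒜 (hb (e.symm k)) (hb i) = rt 𝒜 (hb (e.symm k)) (hb (e.symm (e i))) :=
      fracO_congr 𝒜 (hb (e.symm k)) _ _ rfl (congrArg b (e.symm_apply_apply i).symm)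
    rw [heq]
    exact hrat (e i)

end Reindex

section DegOne
variable {R A : Type u} [CommRing R] [CommRing A] [Algebra R A] (𝒜 : ℕ → Submodule R A)
  [GradedAlgebra 𝒜]

theorem valO_cst (U : (Proj 𝒜).Opens) (c : R) (y : U) :
    valO 𝒜 (cst (qX 𝒜) U c) y = Localization.mk (algebraMap R A c) 1 := by
  have h1 : ProjUP.toGlobal (qX 𝒜) c = (Proj.toSpecZero 𝒜).appTop.hom
      ((Scheme.ΓSpecIso (CommRingCat.of (𝒜 0))).inv.hom (algebraMap R (𝒜 0) c)) := by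
    unfold ProjUP.toGlobal qX
    rw [Scheme.Hom.comp_appTop]
    have h2 := Scheme.ΓSpecIso_inv_naturality (CommRingCat.ofHom (algebraMap R (𝒜 0)))
    have h3 := ConcreteCategory.congr_hom h2 c
    exact congrArg (Proj.toSpecZero 𝒜).appTop.hom h3.symm
  unfold cst
  rw [valO_rX, h1]
  exact (Groth.Agent.ProjGlobal.valO_toSpecZero 𝒜 _ y.1).trans rfl

/-- The key generation statement on the chart `D_+(g^n)`, `g` of degree one. -/
theorem eq_top_of_degOne {s : ℕ} (f : Fin s → A) (deg : Fin s → ℕ)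
    (hf : ∀ i, f i ∈ 𝒜 (deg i)) (hgen : Algebra.adjoin R (Set.range f) = ⊤)
    (n : ℕ) (hn : 0 < n) (hdn : ∀ i, deg i ≤ n) {g : A} (hg : g ∈ 𝒜 1) (hgn : g ^ n ∈ 𝒜 n)
    (hfg : ∀ i, f i * g ^ (n - deg i) ∈ 𝒜 n)
    (T : Subring Γ(Proj 𝒜, Proj.basicOpen 𝒜 (g ^ n)))
    (hrat : ∀ i, rt 𝒜 hgn (hfg i) ∈ T)
    (hcst : ∀ c : R, cst (qX 𝒜) (Proj.basicOpen 𝒜 (g ^ n)) c ∈ T) : T = ⊤ := by
  have hUV : Proj.basicOpen 𝒜 (g ^ n) ≤ Proj.basicOpen 𝒜 g := (Proj.basicOpen_pow 𝒜 g n hn).le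
  have hA : ∀ a : A, rX hUV (dehom 𝒜 hg a) ∈ T := by
    intro a
    have ha : a ∈ Algebra.adjoin R (Set.range f) := hgen ▸ Algebra.mem_top
    induction ha using Algebra.adjoin_induction with
    | mem a ha =>
      obtain ⟨i, rfl⟩ := ha
      have heq : rX hUV (dehom 𝒜 hg (f i)) = rt 𝒜 hgn (hfg i) := by
        apply Groth.Agent.GStar.extO
        intro y
        rw [valO_rX, dehom_of_mem 𝒜 hg (hf i), Groth.Agent.GStar.valO_frO, valO_fracO]
        apply Groth.Agent.GStar.mk_eq_mk_of_mul_eq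
        show f i * (g ^ n) ^ 1 = f i * g ^ (n - deg i) * g ^ deg i
        rw [pow_one, mul_assoc, ← pow_add, Nat.sub_add_cancel (hdn i)]
      rw [heq]
      exact hrat i
    | algebraMap c =>
      have heq : rX hUV (dehom 𝒜 hg (algebraMap R A c)) =
          cst (qX 𝒜) (Proj.basicOpen 𝒜 (g ^ n)) c := by
        apply Groth.Agent.GStar.extO
        intro y
        rw [valO_rX, dehom_of_mem 𝒜 hg (SetLike.algebraMap_mem_graded 𝒜 c),
          Groth.Agent.GStar.valO_frO, valO_cst, Localization.mk_eq_mk_iff,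
          Localization.r_iff_exists]
        exact ⟨1, by simp⟩
      rw [heq]
      exact hcst c
    | add x y _ _ hx hy =>
      rw [map_add, map_add]
      exact T.add_mem hx hy
    | mul x y _ _ hx hy =>
      rw [map_mul, map_mul]
      exact T.mul_mem hx hy
  rw [eq_top_iff]
  intro z _
  obtain ⟨k, c, hc, rfl⟩ := exists_eq_fracO 𝒜 hn hgn z
  have heq : fracO 𝒜 hgn k c hc = rX hUV (dehom 𝒜 hg c) := by
    apply Groth.Agent.GStar.extO
    intro y
    rw [valO_rX, dehom_of_mem 𝒜 hg hc, Groth.Agent.GStar.valO_frO, valO_fracO]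
    apply Groth.Agent.GStar.mk_eq_mk_of_mul_eq
    show c * g ^ (k • n) = c * (g ^ n) ^ k
    rw [smul_eq_mul, ← pow_mul, mul_comm k n]
  rw [heq]
  exact hA c

end DegOne

section Main13183
variable {R A : Type u} [CommRing R] [CommRing A] [Algebra R A] (𝒜 : ℕ → Submodule R A)
  [GradedAlgebra 𝒜]

/-- The family of sections of `O(n)` used for a `Proj` covered in degree one. -/
def famB {s : ℕ} (f : Fin s → A) (deg : Fin s → ℕ) (n : ℕ) (G1 : Finset (𝒜 1)) :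
    Option (G1 ⊕ (Fin s × G1)) → A
  | none => 0
  | some (Sum.inl g) => ((g : 𝒜 1) : A) ^ n
  | some (Sum.inr (i, g)) => f i * ((g : 𝒜 1) : A) ^ (n - deg i)

theorem famB_mem {s : ℕ} (f : Fin s → A) (deg : Fin s → ℕ) (hf : ∀ i, f i ∈ 𝒜 (deg i)) (n : ℕ)
    (hdn : ∀ i, deg i ≤ n) (G1 : Finset (𝒜 1)) (j : Option (G1 ⊕ (Fin s × G1))) :
    famB 𝒜 f deg n G1 j ∈ 𝒜 n := by
  rcases j with _ | g | ⟨i, g⟩
  · exact zero_mem _
  · exact pow_mem_deg 𝒜 g.1.2 n
  · have h1 := SetLike.mul_mem_graded (hf i) (pow_mem_deg 𝒜 g.1.2 (n - deg i))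
    rwa [Nat.add_sub_cancel' (hdn i)] at h1

theorem main13183_aux {s : ℕ} (f : Fin s → A) (deg : Fin s → ℕ) (hdeg : ∀ i, 0 < deg i)
    (hf : ∀ i, f i ∈ 𝒜 (deg i)) (hgen : Algebra.adjoin R (Set.range f) = ⊤)
    (n : ℕ) (hn : 0 < n) (hdn : ∀ i, deg i ≤ n) (G1 : Finset (𝒜 1))
    (hG1 : ∀ x : Proj 𝒜, ∃ g ∈ G1, x ∈ Proj.basicOpen 𝒜 (g : A)) :
    ∃ (N : ℕ) (i : Proj 𝒜 ⟶ CohB1.ProjSpaceOver N (Spec (CommRingCat.of R))),
      IsClosedImmersion i ∧
      i ≫ pullback.snd (CohB1.ProjSpace.toSpec N (ULift.{u} ℤ))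
        (specULiftZIsTerminal.from (Spec (CommRingCat.of R))) =
        Proj.toSpecZero 𝒜 ≫ Spec.map (CommRingCat.ofHom (algebraMap R (𝒜 0))) ∧
      Nonempty (Twist.twist 𝒜 (n : ℤ) ≅
        (Scheme.Modules.pullback i).obj (Twist.twistOver N (Spec (CommRingCat.of R)) 1)) := by
  classical
  have hb := famB_mem 𝒜 f deg hf n hdn G1
  have H1 : ∀ x : Proj 𝒜, ∃ j ∈ {j : Option (G1 ⊕ (Fin s × G1)) | ∃ g, j = some (Sum.inl g)},
      x ∈ Proj.basicOpen 𝒜 (famB 𝒜 f deg n G1 j) := by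
    intro x
    obtain ⟨g, hg, hxg⟩ := hG1 x
    refine ⟨some (Sum.inl ⟨g, hg⟩), ⟨_, rfl⟩, ?_⟩
    show x ∈ Proj.basicOpen 𝒜 ((g : A) ^ n)
    rw [Proj.basicOpen_pow 𝒜 _ n hn]
    exact hxg
  have H2 : ∀ j ∈ {j : Option (G1 ⊕ (Fin s × G1)) | ∃ g, j = some (Sum.inl g)},
      ∀ T : Subring Γ(Proj 𝒜, Proj.basicOpen 𝒜 (famB 𝒜 f deg n G1 j)),
      (∀ i, rt 𝒜 (hb j) (hb i) ∈ T) →
      (∀ c : R, cst (qX 𝒜) (Proj.basicOpen 𝒜 (famB 𝒜 f deg n G1 j)) c ∈ T) → T = ⊤ := by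
    rintro j ⟨g, rfl⟩ T hrat hcst
    exact eq_top_of_degOne 𝒜 f deg hf hgen n hn hdn g.1.2 (hb (some (Sum.inl g)))
      (fun i => hb (some (Sum.inr (i, g)))) T (fun i => hrat (some (Sum.inr (i, g)))) hcst
  obtain ⟨N, r, hr1, hr2, hr3⟩ := exists_closedImmersion_of_sections_fintype 𝒜 n hn
    (famB 𝒜 f deg n G1) hb {j | ∃ g, j = some (Sum.inl g)} H1 H2
    (fun N r hr => isClosed_range_of_over 𝒜 f deg hdeg hf hgen N r hr)
  haveI := hr1
  obtain ⟨i, hi1, hi2, hi3⟩ :=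
    exists_over_of_projSpace (qX 𝒜) (Twist.twist 𝒜 (n : ℤ)) N r hr2 hr3
  exact ⟨N, i, hi1, hi2, hi3⟩

/-- **S13183**: `Proj` of a finite type graded algebra generated in degrees `1..d` and covered
in degree one embeds into a projective space by `O(n)`, `n ≥ d`. -/
theorem main13183 (d : ℕ)
    (hgen : Algebra.adjoin R (⋃ i ∈ Finset.Icc 1 d, (𝒜 i : Set A)) = ⊤)
    (hcov : (⨆ g : 𝒜 1, Proj.basicOpen 𝒜 (g : A)) = ⊤) [Algebra.FiniteType R A] (n : ℕ)
    (hn : d ≤ n) (hn1 : 0 < n) :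
    ∃ (N : ℕ) (i : Proj 𝒜 ⟶ CohB1.ProjSpaceOver N (Spec (CommRingCat.of R))),
      IsClosedImmersion i ∧
      i ≫ pullback.snd (CohB1.ProjSpace.toSpec N (ULift.{u} ℤ))
        (specULiftZIsTerminal.from (Spec (CommRingCat.of R))) =
        Proj.toSpecZero 𝒜 ≫ Spec.map (CommRingCat.ofHom (algebraMap R (𝒜 0))) ∧
      Nonempty (Twist.twist 𝒜 (n : ℤ) ≅
        (Scheme.Modules.pullback i).obj (Twist.twistOver N (Spec (CommRingCat.of R)) 1)) := by
  classical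
  obtain ⟨F, hFG, hF⟩ := exists_finset_subset_adjoin_eq_top _ hgen
  have hdg : ∀ x : F, ∃ i, 1 ≤ i ∧ i ≤ d ∧ (x : A) ∈ 𝒜 i := by
    intro x
    have h1 := hFG x.2
    simp only [Set.mem_iUnion, Finset.mem_Icc] at h1
    obtain ⟨i, ⟨h1, h2⟩, h3⟩ := h1
    exact ⟨i, h1, h2, h3⟩
  choose dg hdg1 hdg2 hdg3 using hdg
  let e := F.equivFin
  let f : Fin F.card → A := fun i => (e.symm i : A)
  let deg : Fin F.card → ℕ := fun i => dg (e.symm i)
  have hdeg : ∀ i, 0 < deg i := fun i => hdg1 _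
  have hdn : ∀ i, deg i ≤ n := fun i => (hdg2 _).trans hn
  have hf : ∀ i, f i ∈ 𝒜 (deg i) := fun i => hdg3 _
  have hgen' : Algebra.adjoin R (Set.range f) = ⊤ := by
    have h1 : Set.range f = (F : Set A) := by
      ext x
      constructor
      · rintro ⟨i, rfl⟩
        exact (e.symm i).2
      · intro hx
        exact ⟨e ⟨x, hx⟩, by simp [f]⟩
    rw [h1]
    exact hF
  haveI : CompactSpace (Proj 𝒜) := by
    constructor
    have h1 : (Set.univ : Set (Proj 𝒜)) =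
        ⋃ i : Fin F.card, ((Proj.basicOpen 𝒜 (f i) : (Proj 𝒜).Opens) : Set (Proj 𝒜)) := by
      ext x
      simp only [Set.mem_univ, Set.mem_iUnion, SetLike.mem_coe, true_iff]
      exact ProjTw.cover_of_adjoin 𝒜 f deg hdeg hf hgen' x
    rw [h1]
    exact isCompact_iUnion
      (fun i => (Proj.isAffineOpen_basicOpen 𝒜 (f i) (hf i) (hdeg i)).isCompact)
  obtain ⟨G1, hG1⟩ := isCompact_univ.elim_finite_subcover
    (fun g : 𝒜 1 => ((Proj.basicOpen 𝒜 (g : A) : (Proj 𝒜).Opens) : Set (Proj 𝒜)))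
    (fun g => (Proj.basicOpen 𝒜 (g : A)).isOpen)
    (by
      intro x _
      have hx : x ∈ (⨆ g : 𝒜 1, Proj.basicOpen 𝒜 (g : A)) := hcov ▸ trivial
      obtain ⟨g, hg⟩ := Opens.mem_iSup.mp hx
      exact Set.mem_iUnion.mpr ⟨g, hg⟩)
  refine main13183_aux 𝒜 f deg hdeg hf hgen' n hn1 hdn G1 ?_
  intro x
  obtain ⟨g, hg, hxg⟩ := Set.mem_iUnion₂.mp (hG1 (Set.mem_univ x))
  exact ⟨g, hg, hxg⟩

end Main13183

end Groth.Agent.Lib.ProjEmbH2
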