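import Mathlib
import Groth.Prelude
import Groth.Agent.Lib.ProjSecEmb3_helper2

/-!
# Closed immersions of `Proj` into projective space defined by sections of `O(n)`, part 4:
weighted generators, `n` a large multiple of the lcm of the degrees (helper2)
APPEND-ONLY once landed.
-/

set_option autoImplicit false
universe u
open CategoryTheory CategoryTheory.Limits AlgebraicGeometry TopologicalSpace Opposite DirectSum
open HomogeneousLocalization QcqsLoc GenLocH8 TensH8 PBH8

namespace Groth.Agent.Lib.ProjEmbH2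

open Groth.Agent.GrTw Groth.Agent.ProjUPU Groth.Agent.Lib.TwPullH2 Groth.Agent.Lib.ClProjIdealH2
open Groth.Agent.Lib.SepTanH2

section Comb

/-- Sub-lemma: a vector of naturals with sum at least `a` dominates a vector with sum exactly `a`. -/
theorem exists_le_sum_eq {s : ℕ} (q : Fin s → ℕ) (a : ℕ) (h : a ≤ ∑ i, q i) :
    ∃ β : Fin s → ℕ, (∀ i, β i ≤ q i) ∧ ∑ i, β i = a := by
  induction a with
  | zero => exact ⟨fun _ => 0, fun _ => Nat.zero_le _, by simp⟩
  | succ a ih =>
    obtain ⟨β, hβ, hsum⟩ := ih (Nat.le_of_succ_le h)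
    have hex : ∃ i, β i < q i := by
      by_contra hcon
      push Not at hcon
      have h1 : ∑ i, q i ≤ ∑ i, β i := Finset.sum_le_sum fun i _ => hcon i
      omega
    obtain ⟨i, hi⟩ := hex
    refine ⟨β + Pi.single i 1, ?_, ?_⟩
    · intro j
      by_cases hj : j = i
      · subst hj
        simp only [Pi.add_apply, Pi.single_eq_same]
        omega
      · simp only [Pi.add_apply, Pi.single_eq_of_ne hj, add_zero]
        exact hβ j
    · simp only [Pi.add_apply, Finset.sum_add_distrib, hsum, Finset.sum_pi_single', Finset.mem_univ,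
        if_true]

/-- Peeling lemma. -/
theorem exists_le_weight_eq {s : ℕ} (deg : Fin s → ℕ) (hdeg : ∀ i, 0 < deg i) (a : ℕ) (ha : 0 < a)
    (has : s - 1 ≤ a) (k : ℕ) (hk : 1 ≤ k) (α : Fin s → ℕ)
    (hα : ∑ i, α i * deg i = (k + 1) * (a * Finset.univ.lcm deg)) :
    ∃ β : Fin s → ℕ, (∀ i, β i ≤ α i) ∧ ∑ i, β i * deg i = a * Finset.univ.lcm deg := by
  set l := Finset.univ.lcm deg with hl
  have hdvd : ∀ i, deg i ∣ l := fun i => Finset.dvd_lcm (Finset.mem_univ i)
  have hlpos : 0 < l := by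
    rw [hl, Nat.pos_iff_ne_zero, Ne, Finset.lcm_eq_zero_iff]
    simp only [Finset.mem_univ, true_and, not_exists]
    intro i
    exact (hdeg i).ne'
  -- `s ≥ 1`
  have hs : 0 < s := by
    rcases Nat.eq_zero_or_pos s with rfl | h
    · exfalso
      rw [Finset.univ_eq_empty, Finset.sum_empty] at hα
      exact (Nat.mul_pos (Nat.succ_pos k) (Nat.mul_pos ha hlpos)).ne' hα.symm
    · exact h
  let e : Fin s → ℕ := fun i => l / deg i
  have he : ∀ i, e i * deg i = l := fun i => Nat.div_mul_cancel (hdvd i)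
  have hepos : ∀ i, 0 < e i := fun i => Nat.div_pos (Nat.le_of_dvd hlpos (hdvd i)) (hdeg i)
  let q : Fin s → ℕ := fun i => α i / e i
  let r : Fin s → ℕ := fun i => α i % e i
  have hqr : ∀ i, α i = e i * q i + r i := fun i => (Nat.div_add_mod (α i) (e i)).symm
  have hr : ∀ i, r i < e i := fun i => Nat.mod_lt _ (hepos i)
  -- the sum decomposes
  have hsum : ∑ i, α i * deg i = l * ∑ i, q i + ∑ i, r i * deg i := by
    rw [Finset.mul_sum, ← Finset.sum_add_distrib]
    refine Finset.sum_congr rfl fun i _ => ?_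
    rw [hqr i, add_mul]
    congr 1
    rw [mul_comm (e i) (q i), mul_assoc, he i, mul_comm]
  -- bound on the remainder
  have hρ : ∑ i, r i * deg i + s ≤ s * l := by
    have h1 : ∀ i, r i * deg i + 1 ≤ l := by
      intro i
      have h2 : (r i + 1) * deg i ≤ e i * deg i := Nat.mul_le_mul_right _ (hr i)
      rw [he i, add_mul, one_mul] at h2
      have := hdeg i
      omega
    have h3 : ∑ i : Fin s, (r i * deg i + 1) ≤ ∑ _i : Fin s, l := Finset.sum_le_sum fun i _ => h1 i
    rw [Finset.sum_add_distrib] at h3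
    simpa using h3
  have hρdvd : l ∣ ∑ i, r i * deg i := by
    have h1 : l ∣ ∑ i, α i * deg i := by
      rw [hα]
      exact ⟨(k + 1) * a, by ring⟩
    rw [hsum] at h1
    exact (Nat.dvd_add_right (Dvd.intro _ rfl)).mp h1
  obtain ⟨t, ht⟩ := hρdvd
  have htlt : t < s := by
    by_contra hcon
    push Not at hcon
    have : s * l ≤ t * l := Nat.mul_le_mul_right _ hcon
    rw [ht, mul_comm l t] at hρ
    omega
  have hta : t ≤ a := by omega
  -- the sum of the quotients
  have hq : a ≤ ∑ i, q i := by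
    have h1 : l * ∑ i, q i + l * t = (k + 1) * (a * l) := by
      rw [← ht, ← hsum, hα]
    have h2 : l * (∑ i, q i + t) = l * ((k + 1) * a) := by
      rw [mul_add, h1]
      ring
    have h3 := Nat.eq_of_mul_eq_mul_left hlpos h2
    have h4 : 2 * a ≤ (k + 1) * a := Nat.mul_le_mul_right _ (by omega)
    omega
  obtain ⟨β', hβ', hβsum⟩ := exists_le_sum_eq q a hq
  refine ⟨fun i => e i * β' i, ?_, ?_⟩
  · intro i
    calc e i * β' i ≤ e i * q i := Nat.mul_le_mul_left _ (hβ' i)
      _ ≤ α i := by rw [hqr i]; exact Nat.le_add_right _ _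
  · calc ∑ i, e i * β' i * deg i = ∑ i, l * β' i := by
          refine Finset.sum_congr rfl fun i _ => ?_
          rw [mul_comm (e i) (β' i), mul_assoc, he i, mul_comm]
      _ = l * ∑ i, β' i := by rw [Finset.mul_sum]
      _ = a * l := by rw [hβsum, mul_comm]


end Comb

section Span
variable {R A : Type*} [CommRing R] [CommRing A] [Algebra R A] (𝒜 : ℕ → Submodule R A)
  [GradedAlgebra 𝒜] {s : ℕ} (f : Fin s → A) (deg : Fin s → ℕ)
  (hf : ∀ i, f i ∈ 𝒜 (deg i)) (hgen : Algebra.adjoin R (Set.range f) = ⊤)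

include hf in
theorem monomial_mem (α : Fin s → ℕ) : ∏ i, f i ^ α i ∈ 𝒜 (∑ i, α i * deg i) := by
  have := SetLike.prod_pow_mem_graded 𝒜 deg f (F := Finset.univ) α (fun i _ => hf i)
  simpa [smul_eq_mul] using this

include hf hgen in
/-- A homogeneous element of degree `m` is an `R`-combination of monomials of weight `m` in the
generators. -/
theorem mem_span_monomials (m : ℕ) (c : A) (hc : c ∈ 𝒜 m) :
    c ∈ Submodule.span R {x | ∃ α : Fin s → ℕ, ∑ i, α i * deg i = m ∧ x = ∏ i, f i ^ α i} := by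
  classical
  have h1 : c ∈ (MvPolynomial.aeval (R := R) f).range := by
    rw [← Algebra.adjoin_range_eq_range_aeval, hgen]
    exact Algebra.mem_top
  obtain ⟨p, hp⟩ := h1
  change MvPolynomial.aeval f p = c at hp
  subst hp
  have h2 : MvPolynomial.aeval f p =
      ∑ v ∈ p.support, algebraMap R A (MvPolynomial.coeff v p) * ∏ i, f i ^ v i := by
    conv_lhs => rw [MvPolynomial.as_sum p, map_sum]
    refine Finset.sum_congr rfl fun v _ => ?_
    rw [MvPolynomial.aeval_monomial, Finsupp.prod_fintype]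
    intro i
    exact pow_zero _
  have h3 : ∀ v : Fin s →₀ ℕ, algebraMap R A (MvPolynomial.coeff v p) * ∏ i, f i ^ v i ∈
      𝒜 (∑ i, v i * deg i) := by
    intro v
    have := SetLike.mul_mem_graded (SetLike.algebraMap_mem_graded 𝒜 (MvPolynomial.coeff v p))
      (monomial_mem 𝒜 f deg hf (fun i => v i))
    rwa [zero_add] at this
  have h4 : MvPolynomial.aeval f p = ((DirectSum.decompose 𝒜 (MvPolynomial.aeval f p) m : 𝒜 m) : A) :=
    (DirectSum.decompose_of_mem_same 𝒜 hc).symm
  rw [h4, h2, DirectSum.decompose_sum, DFinsupp.finsetSum_apply, AddSubmonoidClass.coe_finsetSum]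
  refine Submodule.sum_mem _ fun v _ => ?_
  by_cases hv : ∑ i, v i * deg i = m
  · rw [DirectSum.decompose_of_mem_same 𝒜 (hv ▸ h3 v), Algebra.algebraMap_eq_smul_one, smul_mul_assoc,
      one_mul]
    exact Submodule.smul_mem _ _ (Submodule.subset_span ⟨fun i => v i, hv, rfl⟩)
  · rw [DirectSum.decompose_of_mem_ne 𝒜 (h3 v) hv]
    exact zero_mem _


end Span

section Lcm
variable {R A : Type u} [CommRing R] [CommRing A] [Algebra R A] (𝒜 : ℕ → Submodule R A)
  [GradedAlgebra 𝒜] {s : ℕ} (f : Fin s → A) (deg : Fin s → ℕ)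

/-- The monomial `f^α`. -/
noncomputable def mon (α : Fin s → ℕ) : A := ∏ i, f i ^ α i

/-- Exponent vectors of weight `n` (entries bounded by `n`). -/
abbrev MIdx (n : ℕ) : Type := {α : Fin s → Fin (n + 1) // ∑ i, (α i : ℕ) * deg i = n}

/-- The family of all monomials of weight `n`, plus `0`. -/
noncomputable def famM (n : ℕ) : Option (MIdx deg n) → A
  | none => 0
  | some α => mon f (fun i => (α.1 i : ℕ))

theorem famM_mem (hf : ∀ i, f i ∈ 𝒜 (deg i)) (n : ℕ) (j : Option (MIdx deg n)) :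
    famM f deg n j ∈ 𝒜 n := by
  rcases j with _ | α
  · exact zero_mem _
  · have := monomial_mem 𝒜 f deg hf (fun i => (α.1 i : ℕ))
    rw [α.2] at this
    exact this

theorem fracO_smul {D : ℕ} {b : A} (hb : b ∈ 𝒜 D) (k : ℕ) (r : R) (c : A) (hc : c ∈ 𝒜 (k • D)) :
    fracO 𝒜 hb k (r • c) (Submodule.smul_mem _ r hc) =
      cst (qX 𝒜) (Proj.basicOpen 𝒜 b) r * fracO 𝒜 hb k c hc := by
  apply Groth.Agent.GStar.extO
  intro y
  rw [Groth.Agent.GStar.valO_mul, valO_fracO, valO_fracO, valO_cst, Localization.mk_mul,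
    Localization.mk_eq_mk_iff, Localization.r_iff_exists]
  exact ⟨1, by simp [Algebra.smul_def]⟩

theorem eq_top_of_lcm (hdeg : ∀ i, 0 < deg i) (hf : ∀ i, f i ∈ 𝒜 (deg i))
    (hgen : Algebra.adjoin R (Set.range f) = ⊤) (n : ℕ) (hn : 0 < n)
    (hpeel : ∀ k, 1 ≤ k → ∀ α : Fin s → ℕ, ∑ i, α i * deg i = (k + 1) * n →
      ∃ β : Fin s → ℕ, (∀ i, β i ≤ α i) ∧ ∑ i, β i * deg i = n)
    (α₀ : MIdx deg n)
    (T : Subring Γ(Proj 𝒜, Proj.basicOpen 𝒜 (famM f deg n (some α₀))))
    (hrat : ∀ i, rt 𝒜 (famM_mem 𝒜 f deg hf _ (some α₀)) (famM_mem 𝒜 f deg hf _ i) ∈ T)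
    (hcst : ∀ c : R, cst (qX 𝒜) (Proj.basicOpen 𝒜 (famM f deg n (some α₀))) c ∈ T) :
    T = ⊤ := by
  classical
  have hb := famM_mem 𝒜 f deg hf n (some α₀)
  -- monomials of weight `n`
  have hmon1 : ∀ β : Fin s → ℕ, ∑ i, β i * deg i = n → ∀ h : mon f β ∈ 𝒜 (1 • n),
      fracO 𝒜 hb 1 (mon f β) h ∈ T := by
    intro β hβ h
    have hle : ∀ i, β i < n + 1 := by
      intro i
      have h1 : β i * deg i ≤ ∑ j, β j * deg j :=
        Finset.single_le_sum (f := fun j => β j * deg j) (fun j _ => Nat.zero_le _)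
          (Finset.mem_univ i)
      have h2 : β i ≤ β i * deg i := Nat.le_mul_of_pos_right _ (hdeg i)
      omega
    let β' : MIdx deg n := ⟨fun i => ⟨β i, hle i⟩, hβ⟩
    exact hrat (some β')
  -- monomials of weight `k n`
  have hmon : ∀ (k : ℕ) (α : Fin s → ℕ), ∑ i, α i * deg i = k * n →
      ∀ h : mon f α ∈ 𝒜 (k • n), fracO 𝒜 hb k (mon f α) h ∈ T := by
    intro k
    induction k with
    | zero =>
      intro α hα h
      have hα0 : ∀ i, α i = 0 := by
        intro i
        rw [zero_mul] at hα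
        have h1 := (Finset.sum_eq_zero_iff.mp hα) i (Finset.mem_univ i)
        rcases Nat.mul_eq_zero.mp h1 with h2 | h2
        · exact h2
        · exact absurd h2 (hdeg i).ne'
      have h1 : mon f α = 1 := by
        unfold mon
        simp [hα0]
      have h2 : (1 : A) ∈ 𝒜 (0 • n) := by simpa using (SetLike.GradedOne.one_mem : (1 : A) ∈ 𝒜 0)
      rw [fracO_congr 𝒜 hb h h2 rfl h1, fracO_one 𝒜 hb h2]
      exact T.one_mem
    | succ k ih =>
      intro α hα h
      rcases Nat.eq_zero_or_pos k with rfl | hk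
      · have hα' : ∑ i, α i * deg i = n := by simpa using hα
        have h1 : mon f α ∈ 𝒜 (1 • n) := by simpa using h
        rw [fracO_congr 𝒜 hb h h1 (by norm_num) rfl]
        exact hmon1 α hα' h1
      · obtain ⟨β, hβ, hβw⟩ := hpeel k hk α hα
        let γ : Fin s → ℕ := fun i => α i - β i
        have hαβγ : ∀ i, α i = β i + γ i := fun i => (Nat.add_sub_cancel' (hβ i)).symm
        have hγw : ∑ i, γ i * deg i = k * n := by
          have h1 : ∑ i, α i * deg i = ∑ i, β i * deg i + ∑ i, γ i * deg i := by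
            rw [← Finset.sum_add_distrib]
            refine Finset.sum_congr rfl fun i _ => ?_
            rw [hαβγ i, add_mul]
          rw [hα, hβw] at h1
          have h2 : (k + 1) * n = k * n + n := by ring
          rw [h2] at h1
          omega
        have hmul : mon f α = mon f β * mon f γ := by
          unfold mon
          rw [← Finset.prod_mul_distrib]
          refine Finset.prod_congr rfl fun i _ => ?_
          rw [hαβγ i, pow_add]
        have hβm : mon f β ∈ 𝒜 (1 • n) := by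
          have h5 : mon f β ∈ 𝒜 (∑ i, β i * deg i) := monomial_mem 𝒜 f deg hf β
          rw [hβw] at h5
          simpa using h5
        have hγm : mon f γ ∈ 𝒜 (k • n) := by
          have h5 : mon f γ ∈ 𝒜 (∑ i, γ i * deg i) := monomial_mem 𝒜 f deg hf γ
          rw [hγw] at h5
          simpa [smul_eq_mul] using h5
        have hprod : mon f β * mon f γ ∈ 𝒜 ((1 + k) • n) := by
          rw [← hmul, add_comm]
          exact h
        have h1 := fracO_mul 𝒜 hb 1 k (mon f β) (mon f γ) hβm hγm hprod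
        rw [fracO_congr 𝒜 hb h hprod (add_comm k 1) hmul, ← h1]
        exact T.mul_mem (hmon1 β hβw hβm) (ih γ hγw hγm)
  -- all homogeneous elements
  have hall : ∀ (k : ℕ) (c : A) (hc : c ∈ 𝒜 (k • n)), fracO 𝒜 hb k c hc ∈ T := by
    intro k c hc
    let Nk : Submodule R A :=
      { carrier := {c | ∃ hc : c ∈ 𝒜 (k • n), fracO 𝒜 hb k c hc ∈ T}
        zero_mem' := ⟨zero_mem _, by rw [fracO_zero]; exact T.zero_mem⟩
        add_mem' := by
          rintro x y ⟨hx, hx'⟩ ⟨hy, hy'⟩
          exact ⟨add_mem hx hy, by rw [fracO_add 𝒜 hb k x y hx hy]; exact T.add_mem hx' hy'⟩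
        smul_mem' := by
          rintro r x ⟨hx, hx'⟩
          exact ⟨Submodule.smul_mem _ r hx, by
            rw [fracO_smul 𝒜 hb k r x hx]
            exact T.mul_mem (hcst r) hx'⟩ }
    have h1 := mem_span_monomials 𝒜 f deg hf hgen (k • n) c hc
    have h2 : Submodule.span R
        {x | ∃ α : Fin s → ℕ, ∑ i, α i * deg i = k • n ∧ x = ∏ i, f i ^ α i} ≤ Nk := by
      rw [Submodule.span_le]
      rintro x ⟨α, hα, rfl⟩
      have hm : mon f α ∈ 𝒜 (k • n) := hα ▸ monomial_mem 𝒜 f deg hf α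
      exact ⟨hm, hmon k α (by simpa [smul_eq_mul] using hα) hm⟩
    obtain ⟨hc', h3⟩ := h2 h1
    exact h3
  rw [eq_top_iff]
  intro z _
  obtain ⟨k, c, hc, rfl⟩ := exists_eq_fracO 𝒜 hn hb z
  exact hall k c hc

end Lcm

section Main13182
variable {R A : Type u} [CommRing R] [CommRing A] [Algebra R A] (𝒜 : ℕ → Submodule R A)
  [GradedAlgebra 𝒜]

/-- **S13182**: `Proj` of a graded algebra generated by `f_1, …, f_s` of positive degrees embeds
into a projective space by `O(a l)`, `l` the lcm of the degrees and `a ≥ max(1, s - 1)`. -/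
theorem main13182 {s : ℕ} (f : Fin s → A) (deg : Fin s → ℕ) (hdeg : ∀ i, 0 < deg i)
    (hf : ∀ i, f i ∈ 𝒜 (deg i)) (hgen : Algebra.adjoin R (Set.range f) = ⊤) (a : ℕ) (ha : 0 < a)
    (has : s - 1 ≤ a) :
    ∃ (N : ℕ) (i : Proj 𝒜 ⟶ CohB1.ProjSpaceOver N (Spec (CommRingCat.of R))),
      IsClosedImmersion i ∧
      i ≫ pullback.snd (CohB1.ProjSpace.toSpec N (ULift.{u} ℤ))
        (specULiftZIsTerminal.from (Spec (CommRingCat.of R))) =
        Proj.toSpecZero 𝒜 ≫ Spec.map (CommRingCat.ofHom (algebraMap R (𝒜 0))) ∧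
      Nonempty (Twist.twist 𝒜 ((a * Finset.univ.lcm deg : ℕ) : ℤ) ≅
        (Scheme.Modules.pullback i).obj (Twist.twistOver N (Spec (CommRingCat.of R)) 1)) := by
  classical
  have hlpos : 0 < Finset.univ.lcm deg := by
    rw [Nat.pos_iff_ne_zero, Ne, Finset.lcm_eq_zero_iff]
    simp only [Finset.mem_univ, true_and, not_exists]
    intro i
    exact (hdeg i).ne'
  have hn : 0 < a * Finset.univ.lcm deg := Nat.mul_pos ha hlpos
  have hb := famM_mem 𝒜 f deg hf (a * Finset.univ.lcm deg)
  have H1 : ∀ x : Proj 𝒜, ∃ j ∈ {j : Option (MIdx deg (a * Finset.univ.lcm deg)) | ∃ α, j = some α},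
      x ∈ Proj.basicOpen 𝒜 (famM f deg (a * Finset.univ.lcm deg) j) := by
    intro x
    obtain ⟨i, hi⟩ := ProjTw.cover_of_adjoin 𝒜 f deg hdeg hf hgen x
    have hdvd : deg i ∣ a * Finset.univ.lcm deg :=
      Dvd.dvd.mul_left (Finset.dvd_lcm (Finset.mem_univ i)) a
    have hpos : 0 < a * Finset.univ.lcm deg / deg i :=
      Nat.div_pos (Nat.le_of_dvd hn hdvd) (hdeg i)
    have hw : ∑ j, (((if j = i then
        (⟨a * Finset.univ.lcm deg / deg i, Nat.lt_succ_of_le (Nat.div_le_self _ _)⟩ :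
          Fin (a * Finset.univ.lcm deg + 1)) else 0 : Fin (a * Finset.univ.lcm deg + 1)) : ℕ)) *
        deg j = a * Finset.univ.lcm deg := by
      rw [Finset.sum_eq_single i]
      · simp only [if_true]
        exact Nat.div_mul_cancel hdvd
      · intro j _ hj
        simp [hj]
      · intro h
        exact absurd (Finset.mem_univ i) h
    let α : MIdx deg (a * Finset.univ.lcm deg) := ⟨fun j => if j = i then
        (⟨a * Finset.univ.lcm deg / deg i, Nat.lt_succ_of_le (Nat.div_le_self _ _)⟩ :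
          Fin (a * Finset.univ.lcm deg + 1)) else 0, hw⟩
    refine ⟨some α, ⟨α, rfl⟩, ?_⟩
    have h1 : famM f deg (a * Finset.univ.lcm deg) (some α) =
        f i ^ (a * Finset.univ.lcm deg / deg i) := by
      show mon f _ = _
      unfold mon
      rw [Finset.prod_eq_single i]
      · simp [α]
      · intro j _ hj
        simp [α, hj]
      · intro h
        exact absurd (Finset.mem_univ i) h
    rw [h1, Proj.basicOpen_pow 𝒜 _ _ hpos]
    exact hi
  have H2 : ∀ j ∈ {j : Option (MIdx deg (a * Finset.univ.lcm deg)) | ∃ α, j = some α},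
      ∀ T : Subring Γ(Proj 𝒜, Proj.basicOpen 𝒜 (famM f deg (a * Finset.univ.lcm deg) j)),
      (∀ i, rt 𝒜 (hb j) (hb i) ∈ T) →
      (∀ c : R, cst (qX 𝒜)
        (Proj.basicOpen 𝒜 (famM f deg (a * Finset.univ.lcm deg) j)) c ∈ T) → T = ⊤ := by
    rintro j ⟨α₀, rfl⟩ T hrat hcst
    exact eq_top_of_lcm 𝒜 f deg hdeg hf hgen (a * Finset.univ.lcm deg) hn
      (fun k hk α hα => exists_le_weight_eq deg hdeg a ha has k hk α hα) α₀ T hrat hcst
  obtain ⟨N, r, hr1, hr2, hr3⟩ := exists_closedImmersion_of_sections_fintype 𝒜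
    (a * Finset.univ.lcm deg) hn (famM f deg (a * Finset.univ.lcm deg)) hb
    {j | ∃ α, j = some α} H1 H2
    (fun N r hr => isClosed_range_of_over 𝒜 f deg hdeg hf hgen N r hr)
  haveI := hr1
  obtain ⟨i, hi1, hi2, hi3⟩ :=
    exists_over_of_projSpace (qX 𝒜) (Twist.twist 𝒜 ((a * Finset.univ.lcm deg : ℕ) : ℤ)) N r hr2 hr3
  exact ⟨N, i, hi1, hi2, hi3⟩

end Main13182

end Groth.Agent.Lib.ProjEmbH2
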