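import Mathlib
import Groth.Prelude.Def_CAlg
import Groth.Agent.Lib.PureSk_helper1
import Groth.Agent.Lib.CMEquiv_helper3
import Groth.Agent.Lib.TensorFieldCM_helper9
import Groth.Agent.Lib.TensorSk_helper9
import Groth.Agent.Lib.SerreNormal_helper5
import Groth.Agent.Lib.ProjGor_helper1

/-! Serre's conditions `(S_k)` and the Cohen–Macaulay property pass from a Noetherian `ℕ`-graded
ring `A` to the local rings of `Proj A`: the degree zero part `A_(g)` of `A_g` is a cyclically pure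
subring, and the homogeneous primes of `A_g` are the radicals of the primes of `A_(g)` (helper1). -/

set_option autoImplicit false
set_option maxHeartbeats 400000

namespace Groth.Agent.Lib.ProjSkH1

open LaurentPolynomial DirectSum HomogeneousLocalization Groth.Agent.FlatCM
  Groth.Agent.Lib.ExtRees3H1 Groth.Agent.Lib.PureSkH1

universe u

variable {A : Type u} [CommRing A] (𝒜 : ℕ → AddSubgroup A) [GradedRing 𝒜]

/-- the data: a homogeneous element `g` -/
structure Datum where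
  g : A
  e : ℕ
  hg : g ∈ 𝒜 e

variable {𝒜}
variable (D : Datum 𝒜)

/-- the localization `A_g` -/
abbrev L : Type u := Localization.Away D.g

/-- the degree zero part `A_(g)` -/
abbrev C : Type u := Away 𝒜 D.g

/-! ### the coaction -/

/-- the coaction, with values in Laurent polynomials over the localization -/
noncomputable def co : A →+* (L D)[T;T⁻¹] :=
  (DirectSum.toSemiring
    (fun i => ((AddMonoidAlgebra.singleAddHom ((i : ℕ) : ℤ) : L D →+ (L D)[T;T⁻¹]).comp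
      ((algebraMap A (L D)).toAddMonoidHom.comp (𝒜 i).subtype)))
    (by
      change AddMonoidAlgebra.single ((0 : ℕ) : ℤ) (algebraMap A (L D) (1 : A)) = 1
      rw [map_one, Nat.cast_zero]
      rfl)
    (by
      intro i j ai aj
      change AddMonoidAlgebra.single ((i + j : ℕ) : ℤ)
          (algebraMap A (L D) ((ai : A) * (aj : A))) =
        AddMonoidAlgebra.single ((i : ℕ) : ℤ) (algebraMap A (L D) (ai : A)) *
          AddMonoidAlgebra.single ((j : ℕ) : ℤ) (algebraMap A (L D) (aj : A))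
      rw [AddMonoidAlgebra.single_mul_single, map_mul, Nat.cast_add])).comp
    (DirectSum.decomposeRingEquiv 𝒜).toRingHom

theorem co_of_mem {i : ℕ} {a : A} (ha : a ∈ 𝒜 i) :
    co D a = AddMonoidAlgebra.single ((i : ℕ) : ℤ) (algebraMap A (L D) a) := by
  unfold co
  rw [RingHom.comp_apply]
  change DirectSum.toSemiring _ _ _ (DirectSum.decompose 𝒜 a) = _
  rw [DirectSum.decompose_of_mem 𝒜 ha, DirectSum.toSemiring_of]
  rfl

theorem coeff_co (a : A) (i : ℕ) :
    (co D a).coeff ((i : ℕ) : ℤ) = algebraMap A (L D) ((decompose 𝒜 a) i : A) := by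
  classical
  induction a using DirectSum.Decomposition.inductionOn 𝒜 with
  | zero => simp
  | @homogeneous j x =>
    rw [co_of_mem D x.2, AddMonoidAlgebra.coeff_single, Finsupp.single_apply]
    by_cases h : j = i
    · subst h
      rw [if_pos rfl, decompose_of_mem_same 𝒜 x.2]
    · have h' : ¬ ((j : ℤ) = (i : ℤ)) := fun h' => h (by exact_mod_cast h')
      rw [if_neg h', decompose_of_mem_ne 𝒜 x.2 h, map_zero]
  | add x y hx hy =>
    rw [map_add, AddMonoidAlgebra.coeff_add, Finsupp.add_apply, hx, hy, decompose_add,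
      DirectSum.add_apply, AddSubgroup.coe_add, map_add]

/-! ### units -/

/-- the unit `g` -/
noncomputable def Gu : (L D)ˣ :=
  (IsLocalization.Away.algebraMap_isUnit (S := L D) D.g).unit

theorem coe_Gu : ((Gu D : (L D)ˣ) : L D) = algebraMap A (L D) D.g := IsUnit.unit_spec _

/-! ### the coaction on the localization -/

theorem isUnit_co : IsUnit (co D D.g) := by
  rw [co_of_mem D D.hg]
  refine IsUnit.of_mul_eq_one
    (AddMonoidAlgebra.single (-(D.e : ℤ)) (((Gu D)⁻¹ : (L D)ˣ) : L D)) ?_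
  rw [AddMonoidAlgebra.single_mul_single, ← coe_Gu, add_neg_cancel, Units.mul_inv]
  rfl

/-- the coaction of `A_g` -/
noncomputable def Θ : L D →+* (L D)[T;T⁻¹] :=
  IsLocalization.Away.lift D.g (isUnit_co D)

theorem Θ_algebraMap (a : A) : Θ D (algebraMap A (L D) a) = co D a :=
  IsLocalization.Away.lift_eq _ _ _

/-- homogeneous elements of `A_g` -/
abbrev IsHom (n : ℤ) (z : L D) : Prop := Θ D z = AddMonoidAlgebra.single n z

theorem isHom_algebraMap {i : ℕ} {a : A} (ha : a ∈ 𝒜 i) :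
    IsHom D (i : ℤ) (algebraMap A (L D) a) := by
  unfold IsHom
  rw [Θ_algebraMap, co_of_mem D ha]

theorem isHom_one : IsHom D 0 1 := by
  unfold IsHom
  rw [map_one]
  rfl

theorem isHom_mul {m n : ℤ} {z w : L D} (h1 : IsHom D m z) (h2 : IsHom D n w) :
    IsHom D (m + n) (z * w) := by
  unfold IsHom at *
  rw [map_mul, h1, h2, AddMonoidAlgebra.single_mul_single]

theorem isHom_inv {n : ℤ} (u : (L D)ˣ) (h : IsHom D n (u : L D)) :
    IsHom D (-n) ((u⁻¹ : (L D)ˣ) : L D) := by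
  unfold IsHom at *
  have h1 : Θ D ((u⁻¹ : (L D)ˣ) : L D) * Θ D (u : L D) = 1 := by
    rw [← map_mul, Units.inv_mul, map_one]
  have h2 : AddMonoidAlgebra.single n (u : L D) *
      AddMonoidAlgebra.single (-n) ((u⁻¹ : (L D)ˣ) : L D) = (1 : (L D)[T;T⁻¹]) := by
    rw [AddMonoidAlgebra.single_mul_single, add_neg_cancel, Units.mul_inv]
    rfl
  calc Θ D ((u⁻¹ : (L D)ˣ) : L D)
      = Θ D ((u⁻¹ : (L D)ˣ) : L D) * (AddMonoidAlgebra.single n (u : L D) *
          AddMonoidAlgebra.single (-n) ((u⁻¹ : (L D)ˣ) : L D)) := by rw [h2, mul_one]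
    _ = (Θ D ((u⁻¹ : (L D)ˣ) : L D) * Θ D (u : L D)) *
          AddMonoidAlgebra.single (-n) ((u⁻¹ : (L D)ˣ) : L D) := by
        rw [← h]
        exact (mul_assoc _ _ _).symm
    _ = AddMonoidAlgebra.single (-n) ((u⁻¹ : (L D)ˣ) : L D) := by rw [h1, one_mul]

theorem isHom_pow {n : ℤ} {z : L D} (h : IsHom D n z) (k : ℕ) :
    IsHom D ((k : ℤ) * n) (z ^ k) := by
  induction k with
  | zero =>
    rw [pow_zero, Nat.cast_zero, zero_mul]
    exact isHom_one D
  | succ k ih =>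
    rw [pow_succ, Nat.cast_succ, add_mul, one_mul]
    exact isHom_mul D ih h

theorem isHom_Gu_inv : IsHom D (-(D.e : ℤ)) (((Gu D)⁻¹ : (L D)ˣ) : L D) :=
  isHom_inv D (Gu D) (by rw [coe_Gu]; exact isHom_algebraMap D D.hg)

/-! ### fractions -/

theorem mk_eq (a : A) (k : ℕ) (h : D.g ^ k ∈ Submonoid.powers D.g) :
    (Localization.mk a ⟨D.g ^ k, h⟩ : L D) =
      algebraMap A (L D) a * ((((Gu D)⁻¹ ^ k : (L D)ˣ)) : L D) := by
  rw [Localization.mk_eq_mk', IsLocalization.mk'_eq_iff_eq_mul, mul_assoc]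
  have h1 : ((((Gu D)⁻¹ ^ k : (L D)ˣ)) : L D) * algebraMap A (L D) (D.g ^ k) = 1 := by
    rw [map_pow, ← coe_Gu, ← Units.val_pow_eq_pow_val, ← Units.val_mul, ← mul_pow,
      inv_mul_cancel, one_pow, Units.val_one]
  rw [h1, mul_one]

theorem eq_of_surj {z : L D} {k : ℕ} {a : A}
    (h : z * algebraMap A (L D) D.g ^ k = algebraMap A (L D) a) :
    z = algebraMap A (L D) a * ((((Gu D)⁻¹ ^ k : (L D)ˣ)) : L D) := by
  rw [← h, mul_assoc, ← coe_Gu, ← Units.val_pow_eq_pow_val, ← Units.val_mul, ← mul_pow,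
    mul_inv_cancel, one_pow, Units.val_one, mul_one]

theorem isHom_Gu_inv_pow (k : ℕ) :
    IsHom D ((k : ℤ) * (-(D.e : ℤ))) ((((Gu D)⁻¹ ^ k : (L D)ˣ)) : L D) := by
  rw [Units.val_pow_eq_pow_val]
  exact isHom_pow D (isHom_Gu_inv D) k

theorem isHom_val (c : C D) : IsHom D 0 c.val := by
  obtain ⟨k, a, ha, rfl⟩ := Away.mk_surjective 𝒜 D.hg c
  rw [Away.val_mk, mk_eq]
  have h2 := isHom_mul D (isHom_algebraMap D ha) (isHom_Gu_inv_pow D k)
  have hdeg : (((k • D.e : ℕ)) : ℤ) + (k : ℤ) * (-(D.e : ℤ)) = 0 := by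
    rw [smul_eq_mul]
    push_cast
    ring
  rw [hdeg] at h2
  exact h2

theorem exists_val_eq_of_isHom_zero {w : L D} (hw : IsHom D 0 w) : ∃ c : C D, c.val = w := by
  obtain ⟨k, a, hka⟩ := IsLocalization.Away.surj D.g w
  have hw1 := eq_of_surj D hka
  have hΘ : Θ D w = co D a * AddMonoidAlgebra.single ((k : ℤ) * (-(D.e : ℤ)))
      ((((Gu D)⁻¹ ^ k : (L D)ˣ)) : L D) := by
    have h3 : Θ D ((((Gu D)⁻¹ ^ k : (L D)ˣ)) : L D) = _ := isHom_Gu_inv_pow D k
    rw [hw1, map_mul, Θ_algebraMap, h3]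
  have h0 : (Θ D w).coeff 0 = w := by
    have hw' : Θ D w = AddMonoidAlgebra.single 0 w := hw
    rw [hw', AddMonoidAlgebra.coeff_single, Finsupp.single_eq_same]
  rw [hΘ, AddMonoidAlgebra.coeff_mul_single_apply] at h0
  have hidx : (0 : ℤ) + -((k : ℤ) * (-(D.e : ℤ))) = ((k • D.e : ℕ) : ℤ) := by
    rw [smul_eq_mul]
    push_cast
    ring
  rw [hidx, coeff_co] at h0
  refine ⟨Away.mk 𝒜 D.hg k ((decompose 𝒜 a) (k • D.e) : A) (SetLike.coe_mem _), ?_⟩
  rw [Away.val_mk, mk_eq, h0]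

/-! ### homogeneous components -/

theorem coeff_co_neg (a : A) (m : ℤ) (hm : m < 0) : (co D a).coeff m = 0 := by
  classical
  induction a using DirectSum.Decomposition.inductionOn 𝒜 with
  | zero => simp
  | @homogeneous j x =>
    rw [co_of_mem D x.2, AddMonoidAlgebra.coeff_single, Finsupp.single_apply, if_neg]
    intro h
    omega
  | add x y hx hy =>
    rw [map_add, AddMonoidAlgebra.coeff_add, Finsupp.add_apply, hx, hy, add_zero]

theorem isHom_zero (n : ℤ) : IsHom D n 0 := by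
  unfold IsHom
  rw [map_zero, AddMonoidAlgebra.single_zero]

theorem isHom_coeff_co (a : A) (m : ℤ) : IsHom D m ((co D a).coeff m) := by
  rcases lt_or_ge m 0 with hm | hm
  · rw [coeff_co_neg D a m hm]
    exact isHom_zero D m
  · obtain ⟨i, rfl⟩ := Int.eq_ofNat_of_zero_le hm
    rw [coeff_co]
    exact isHom_algebraMap D (SetLike.coe_mem _)

theorem isHom_coeff_Θ (z : L D) (n : ℤ) : IsHom D n ((Θ D z).coeff n) := by
  obtain ⟨k, a, hka⟩ := IsLocalization.Away.surj D.g z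
  have hz := eq_of_surj D hka
  have hΘ : Θ D z = co D a * AddMonoidAlgebra.single ((k : ℤ) * (-(D.e : ℤ)))
      ((((Gu D)⁻¹ ^ k : (L D)ˣ)) : L D) := by
    have h3 : Θ D ((((Gu D)⁻¹ ^ k : (L D)ˣ)) : L D) = _ := isHom_Gu_inv_pow D k
    rw [hz, map_mul, Θ_algebraMap, h3]
  rw [hΘ, AddMonoidAlgebra.coeff_mul_single_apply]
  have h := isHom_mul D (isHom_coeff_co D a (n + -((k : ℤ) * (-(D.e : ℤ)))))
    (isHom_Gu_inv_pow D k)
  have hdeg : n + -((k : ℤ) * (-(D.e : ℤ))) + (k : ℤ) * (-(D.e : ℤ)) = n := by ring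
  rw [hdeg] at h
  exact h

/-- the degree zero component -/
noncomputable def ρ0 (z : L D) : L D := (Θ D z).coeff 0

theorem ρ0_add (z w : L D) : ρ0 D (z + w) = ρ0 D z + ρ0 D w := by
  unfold ρ0
  rw [map_add, AddMonoidAlgebra.coeff_add, Finsupp.add_apply]

theorem ρ0_val_mul (c : C D) (z : L D) : ρ0 D (c.val * z) = c.val * ρ0 D z := by
  unfold ρ0
  have hc : Θ D c.val = AddMonoidAlgebra.single 0 c.val := isHom_val D c
  rw [map_mul, hc, mul_comm, AddMonoidAlgebra.coeff_mul_single_apply, neg_zero, add_zero,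
    mul_comm]

theorem ρ0_val (c : C D) : ρ0 D c.val = c.val := by
  unfold ρ0
  have hc : Θ D c.val = AddMonoidAlgebra.single 0 c.val := isHom_val D c
  rw [hc, AddMonoidAlgebra.coeff_single, Finsupp.single_eq_same]

theorem exists_val_eq_ρ0 (z : L D) : ∃ c : C D, c.val = ρ0 D z :=
  exists_val_eq_of_isHom_zero D (isHom_coeff_Θ D z 0)

/-! ### cyclic purity -/

theorem cp (I : Ideal (C D)) :
    (I.map (algebraMap (C D) (L D))).comap (algebraMap (C D) (L D)) ≤ I := by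
  intro c hc
  rw [Ideal.mem_comap] at hc
  have hc' : algebraMap (C D) (L D) c ∈ I • (⊤ : Submodule (C D) (L D)) := by
    rw [Ideal.smul_top_eq_map]
    exact hc
  have key : ∀ z ∈ I • (⊤ : Submodule (C D) (L D)), ∃ c' ∈ I, c'.val = ρ0 D z := by
    intro z hz
    refine Submodule.smul_induction_on hz ?_ ?_
    · intro i hi l _
      obtain ⟨cl, hcl⟩ := exists_val_eq_ρ0 D l
      refine ⟨i * cl, I.mul_mem_right _ hi, ?_⟩
      rw [Algebra.smul_def, HomogeneousLocalization.algebraMap_apply, ρ0_val_mul, val_mul, hcl]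
    · rintro z w ⟨c1, hc1, h1⟩ ⟨c2, hc2, h2⟩
      exact ⟨c1 + c2, I.add_mem hc1 hc2, by rw [val_add, h1, h2, ρ0_add]⟩
  obtain ⟨c', hc'I, hc'v⟩ := key _ hc'
  rw [HomogeneousLocalization.algebraMap_apply, ρ0_val] at hc'v
  have heq : c' = c := HomogeneousLocalization.val_injective _ hc'v
  rw [← heq]
  exact hc'I

/-! ### homogeneous primes -/

open AlgebraicGeometry in
theorem gd (he : 0 < D.e) (q : Ideal (C D)) (hq : q.IsPrime) :
    ∃ P : Ideal (L D), P.IsPrime ∧ P.comap (algebraMap (C D) (L D)) = q ∧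
      ∀ 𝔑 : Ideal (L D), 𝔑.IsPrime → q.map (algebraMap (C D) (L D)) ≤ 𝔑 → P ≤ 𝔑 := by
  classical
  let qs : PrimeSpectrum (C D) := ⟨q, hq⟩
  obtain ⟨𝔞, h𝔞def⟩ : ∃ 𝔞 : Ideal A,
      𝔞 = ProjIsoSpecTopComponent.FromSpec.carrier.asIdeal D.hg he qs := ⟨_, rfl⟩
  have h𝔞 : 𝔞.IsPrime := by
    rw [h𝔞def]
    exact ProjIsoSpecTopComponent.FromSpec.carrier.asIdeal.prime D.hg he qs
  have hg𝔞 : D.g ∉ 𝔞 := by
    rw [h𝔞def]
    exact ProjIsoSpecTopComponent.FromSpec.carrier.denom_notMem D.hg he qs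
  have hdisj : Disjoint (Submonoid.powers D.g : Set A) (𝔞 : Set A) :=
    (Ideal.disjoint_powers_iff_notMem_of_isPrime _).2 hg𝔞
  refine ⟨𝔞.map (algebraMap A (L D)),
    IsLocalization.isPrime_of_isPrime_disjoint (Submonoid.powers D.g) (L D) 𝔞 h𝔞 hdisj, ?_, ?_⟩
  · have h := ProjIsoSpecTopComponent.toSpec_fromSpec 𝒜 D.hg he qs
    rw [h𝔞def]
    exact congrArg PrimeSpectrum.asIdeal h
  · intro 𝔑 h𝔑 hle
    rw [Ideal.map_le_iff_le_comap]
    intro a ha
    rw [Ideal.mem_comap]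
    have hcomp : ∀ i, algebraMap A (L D) (decompose 𝒜 a i : A) ∈ 𝔑 := by
      intro i
      rw [h𝔞def] at ha
      have h1 := (ProjIsoSpecTopComponent.FromSpec.mem_carrier_iff D.hg qs a).1 ha i
      have h2 := hle (Ideal.mem_map_of_mem (algebraMap (C D) (L D)) h1)
      rw [HomogeneousLocalization.algebraMap_apply, HomogeneousLocalization.val_mk] at h2
      dsimp only at h2
      rw [mk_eq D] at h2
      have h3 := (Ideal.mul_unit_mem_iff_mem 𝔑 (Units.isUnit _)).1 h2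
      rw [map_pow] at h3
      have h4 := h𝔑.mem_of_pow_mem _ h3
      rw [GradedRing.proj_apply] at h4
      exact h4
    rw [← DirectSum.sum_support_decompose 𝒜 a, map_sum]
    exact Ideal.sum_mem _ fun i _ => hcomp i

theorem good (he : 0 < D.e) : Good (algebraMap (C D) (L D)) := ⟨cp D, gd D he⟩

/-! ### the degree zero part -/

theorem hasSk_away (he : 0 < D.e) [IsNoetherianRing A] (k : ℕ) (hA : LocCoh.HasSk k A A) :
    LocCoh.HasSk k (C D) (C D) := by
  haveI : IsNoetherianRing (L D) :=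
    IsLocalization.isNoetherianRing (Submonoid.powers D.g) _ inferInstance
  have hL : LocCoh.HasSk k (L D) (L D) := by
    rw [hasSk_self_iff_skLoc]
    intro 𝔑 h𝔑
    rw [skLoc_loc_iff (Submonoid.powers D.g) (L D) k 𝔑]
    exact (hasSk_self_iff_skLoc k A).1 hA _
  exact hasSk_of_good _ (good D he) k hL

theorem isNoetherianRing_away (he : 0 < D.e) [IsNoetherianRing A] : IsNoetherianRing (C D) := by
  haveI : IsNoetherianRing (L D) :=
    IsLocalization.isNoetherianRing (Submonoid.powers D.g) _ inferInstance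
  exact (good D he).isNoetherianRing

theorem cm_away (he : 0 < D.e) [hA : LocCoh.IsCohenMacaulayRing A] :
    LocCoh.IsCohenMacaulayRing (C D) := by
  haveI : LocCoh.IsCohenMacaulayRing (L D) :=
    Groth.Agent.TensorCM.isCMRing_of_isLocalization (Submonoid.powers D.g) (L D)
  exact cmRing_of_good _ (good D he)

/-! ### the stalks of `Proj` -/
section proj

open AlgebraicGeometry Pointwise

theorem cm_stalk (g : A) {e : ℕ} (hg : g ∈ 𝒜 e) (he : 0 < e) (x : Proj 𝒜)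
    (hx : x ∈ Proj.basicOpen 𝒜 g) (hC : LocCoh.IsCohenMacaulayRing (Away 𝒜 g)) :
    LocCoh.IsCohenMacaulayLocalRing ((Proj 𝒜).presheaf.stalk x) := by
  have hU : IsAffineOpen (Proj.basicOpen 𝒜 g) := Proj.isAffineOpen_basicOpen 𝒜 g hg he
  letI : Algebra Γ(Proj 𝒜, Proj.basicOpen 𝒜 g) ((Proj 𝒜).presheaf.stalk x) :=
    (Proj 𝒜).presheaf.algebra_section_stalk ⟨x, hx⟩
  haveI : IsLocalization.AtPrime ((Proj 𝒜).presheaf.stalk x)
      (hU.primeIdealOf ⟨x, hx⟩).asIdeal := hU.isLocalization_stalk ⟨x, hx⟩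
  let e1 : Away 𝒜 g ≃+* Γ(Proj 𝒜, Proj.basicOpen 𝒜 g) :=
    (Proj.basicOpenIsoAway 𝒜 g hg he).commRingCatIsoToRingEquiv
  have hΓ : LocCoh.IsCohenMacaulayRing Γ(Proj 𝒜, Proj.basicOpen 𝒜 g) :=
    Groth.Agent.Lib.CMEquivH3.isCohenMacaulayRing_of_ringEquiv e1 hC
  have e2 : Localization.AtPrime (hU.primeIdealOf ⟨x, hx⟩).asIdeal
      ≃ₐ[Γ(Proj 𝒜, Proj.basicOpen 𝒜 g)] (Proj 𝒜).presheaf.stalk x :=
    IsLocalization.algEquiv (hU.primeIdealOf ⟨x, hx⟩).asIdeal.primeCompl _ _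
  exact Groth.Agent.Lib.CMEquivH3.isCohenMacaulayLocalRing_of_ringEquiv e2.toRingEquiv
    (hΓ.isCohenMacaulayLocalRing_localization _)

theorem sk_stalk (k : ℕ) (g : A) {e : ℕ} (hg : g ∈ 𝒜 e) (he : 0 < e) (x : Proj 𝒜)
    (hx : x ∈ Proj.basicOpen 𝒜 g) [IsNoetherianRing (Away 𝒜 g)]
    (hC : LocCoh.HasSk k (Away 𝒜 g) (Away 𝒜 g)) :
    LocCoh.HasSk k ((Proj 𝒜).presheaf.stalk x) ((Proj 𝒜).presheaf.stalk x) := by
  have hU : IsAffineOpen (Proj.basicOpen 𝒜 g) := Proj.isAffineOpen_basicOpen 𝒜 g hg he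
  letI : Algebra Γ(Proj 𝒜, Proj.basicOpen 𝒜 g) ((Proj 𝒜).presheaf.stalk x) :=
    (Proj 𝒜).presheaf.algebra_section_stalk ⟨x, hx⟩
  haveI : IsLocalization.AtPrime ((Proj 𝒜).presheaf.stalk x)
      (hU.primeIdealOf ⟨x, hx⟩).asIdeal := hU.isLocalization_stalk ⟨x, hx⟩
  let e1 : Away 𝒜 g ≃+* Γ(Proj 𝒜, Proj.basicOpen 𝒜 g) :=
    (Proj.basicOpenIsoAway 𝒜 g hg he).commRingCatIsoToRingEquiv
  haveI : IsNoetherianRing Γ(Proj 𝒜, Proj.basicOpen 𝒜 g) := isNoetherianRing_of_ringEquiv _ e1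
  have hΓ : LocCoh.HasSk k Γ(Proj 𝒜, Proj.basicOpen 𝒜 g) Γ(Proj 𝒜, Proj.basicOpen 𝒜 g) :=
    Groth.Agent.TensorCM.hasSk_of_ringEquiv k e1 hC
  have e2 : Localization.AtPrime (hU.primeIdealOf ⟨x, hx⟩).asIdeal
      ≃ₐ[Γ(Proj 𝒜, Proj.basicOpen 𝒜 g)] (Proj 𝒜).presheaf.stalk x :=
    IsLocalization.algEquiv (hU.primeIdealOf ⟨x, hx⟩).asIdeal.primeCompl _ _
  haveI : IsNoetherianRing (Localization.AtPrime (hU.primeIdealOf ⟨x, hx⟩).asIdeal) :=
    IsLocalization.isNoetherianRing (hU.primeIdealOf ⟨x, hx⟩).asIdeal.primeCompl _ inferInstance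
  exact Groth.Agent.TensorCM.hasSk_of_ringEquiv k e2.toRingEquiv
    (Groth.Agent.SerreLib.hasSk_localization _ _ k hΓ)

theorem exists_hom_notMem (x : Proj 𝒜) :
    ∃ (k : ℕ) (h : A), 0 < k ∧ h ∈ 𝒜 k ∧ h ∉ x.asHomogeneousIdeal.toIdeal := by
  obtain ⟨a, ha, hax⟩ := SetLike.not_le_iff_exists.1 x.not_irrelevant_le
  obtain ⟨i, hi⟩ := Groth.Agent.Lib.ProjGorH1.exists_component_notMem (𝒜 := 𝒜)
    x.asHomogeneousIdeal.toIdeal a hax
  have hi0 : i ≠ 0 := by
    rintro rfl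
    apply hi
    have h0 : (decompose 𝒜 a 0 : A) = 0 := ha
    rw [h0]
    exact Ideal.zero_mem _
  exact ⟨i, decompose 𝒜 a i, Nat.pos_of_ne_zero hi0, SetLike.coe_mem _, hi⟩

theorem main14655 (A : Type u) [CommRing A]
    (𝒜 : ℕ → AddSubgroup A) [GradedRing 𝒜] [LocCoh.IsCohenMacaulayRing A] (x : Proj 𝒜) :
    LocCoh.IsCohenMacaulayLocalRing ((Proj 𝒜).presheaf.stalk x) := by
  obtain ⟨e, g, he, hg, hx⟩ := exists_hom_notMem x
  let D : Datum 𝒜 := ⟨g, e, hg⟩
  exact cm_stalk g hg he x hx (cm_away D he)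

theorem main14656 (A : Type u) [CommRing A] [IsNoetherianRing A]
    (𝒜 : ℕ → AddSubgroup A) [GradedRing 𝒜] (hA : LocCoh.HasSk 1 A A) (x : Proj 𝒜) :
    LocCoh.HasSk 1 ((Proj 𝒜).presheaf.stalk x) ((Proj 𝒜).presheaf.stalk x) := by
  obtain ⟨e, g, he, hg, hx⟩ := exists_hom_notMem x
  let D : Datum 𝒜 := ⟨g, e, hg⟩
  haveI : IsNoetherianRing (Away 𝒜 g) := isNoetherianRing_away D he
  exact sk_stalk 1 g hg he x hx (hasSk_away D he 1 hA)

end proj

end Groth.Agent.Lib.ProjSkH1
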