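import Mathlib
import Groth.Prelude.Def_RelProj2
import Groth.Prelude.Def_Coh
import Groth.Agent.Lib.SymGr2_helper5
import Groth.Agent.Lib.CoprodImm_helper5
import Groth.Agent.Lib.RelProj_helper3
import Groth.Agent.Lib.ProjMap_helper3
import Groth.Agent.Lib.RelProjTN4_helper5

/-!
# `P(E) ⨿ P(F) ⟶ P(E ⊕ F)` is a closed immersion  (helper5)
-/

set_option autoImplicit false
universe u
open AlgebraicGeometry CategoryTheory CategoryTheory.Limits Opposite TopologicalSpace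
open scoped HomogeneousIdeal

noncomputable section

namespace Groth.Agent.ProjSum

open Groth.Agent.SymAlg Groth.Agent.SymSum Groth.Agent.SymGr RelSpec Groth.Agent.RelProjTN

variable {Y PE P : Scheme.{u}} (E G : Y.Modules) [E.IsQuasicoherent]
  (𝒮E 𝒮 : RelProj.QCGrAlg Y)
  (jE : E ⟶ 𝒮E.toModule) (hjE : RelProj.IsGrSymAlg E 𝒮E jE)
  (j : G ⟶ 𝒮.toModule)
  (πE : 𝒮.toQCAlg ⟶ 𝒮E.toQCAlg) (hπE : RelProj.IsGradedHom πE)
  (pr : G ⟶ E) (inc : E ⟶ G) (hinc : inc ≫ pr = 𝟙 E)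
  (hjπE : j ≫ RelSpec.QCAlg.Hom.toModuleMap πE = pr ≫ jE)

include hjπE in
theorem πE_j (U : Y.Opens) (w : Γ(G, U)) :
    (πE.hom.app (op U)).hom (jAdd G 𝒮.toQCAlg j U w) =
      jAdd E 𝒮E.toQCAlg jE U (pr.app U w) :=
  congrArg (fun t => (Scheme.Modules.Hom.app t U) w) hjπE

theorem πE_str (U : Y.Opens) (a : Γ(Y, U)) :
    (πE.hom.app (op U)).hom ((𝒮.str.app (op U)).hom a) = (𝒮E.str.app (op U)).hom a :=
  congrArg (fun t => (t.app (op U)).hom a) πE.comm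

include hjE hjπE hinc in
theorem πE_surjective (U : Y.Opens) (hU : IsAffineOpen U) :
    Function.Surjective (πE.hom.app (op U)).hom := by
  refine surjective_of_gen E 𝒮E jE hjE U hU _ (fun a => ⟨_, πE_str 𝒮E 𝒮 πE U a⟩) (fun m => ?_)
  refine ⟨jAdd G 𝒮.toQCAlg j U (inc.app U m), ?_⟩
  rw [πE_j E G 𝒮E 𝒮 jE j πE pr hjπE]
  congr 1
  exact congrArg (fun t => (Scheme.Modules.Hom.app t U) m) hinc

variable (hirrE : ∀ (U : Y.Opens) (hU : IsAffineOpen U),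
      (𝒮E.deg U hU)₊ ≤ ((𝒮.deg U hU)₊).map (RelProj.gradedHomAt πE hπE U hU))
  (p : P ⟶ Y) (pE : PE ⟶ Y)
  (chart : ∀ (U : Y.Opens) (hU : IsAffineOpen U), ((p ⁻¹ᵁ U : P.Opens) : Scheme.{u}) ≅ Proj (𝒮.deg U hU))
  (chartE : ∀ (U : Y.Opens) (hU : IsAffineOpen U), ((pE ⁻¹ᵁ U : PE.Opens) : Scheme.{u}) ≅ Proj (𝒮E.deg U hU))
  (hP : RelProj.IsRelProj 𝒮 p chart) (hPE : RelProj.IsRelProj 𝒮E pE chartE)
  (hE' : PE ⟶ P) (hhE : RelProj.IsRelProjMap πE hπE hirrE chart chartE hE')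

include hjE hjπE hinc hP hPE hhE in
theorem isClosedImmersion_hE' : IsClosedImmersion hE' := by
  refine Groth.Agent.Lib.RelProj_helper3.relProjMap_of_chart πE hπE hirrE @IsClosedImmersion hP hPE
    hE' hhE fun U hU => ?_
  exact Groth.Agent.Lib.ProjMap_helper3.map_isClosedImmersion _ _ _
    (πE_surjective E G 𝒮E 𝒮 jE hjE j πE pr inc hinc hjπE U hU) _

include hP hPE hhE in
/-- Pointwise description of `hE'` in a chart. -/
theorem hE'_apply (z' : PE) (U : Y.Opens) (hU : IsAffineOpen U) (hz : hE'.base z' ∈ p ⁻¹ᵁ U) :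
    ∃ ζ : Proj (𝒮E.deg U hU),
      zpt p chart U hU (hE'.base z') hz =
        (Proj.map (RelProj.gradedHomAt πE hπE U hU) (hirrE U hU)).base ζ := by
  have hcomp := Groth.Agent.Lib.RelProj_helper3.relProjMap_comp πE hπE hirrE hP hPE hE' hhE
  have hz' : z' ∈ pE ⁻¹ᵁ U := by
    show pE.base z' ∈ U
    rw [← hcomp]; exact hz
  refine ⟨(chartE U hU).hom.base ⟨z', hz'⟩, ?_⟩
  apply (RelProj.emb p chart U hU).isOpenEmbedding.injective
  rw [emb_zpt]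
  have h1 := congrArg (fun t => t.base ⟨z', hz'⟩) (hhE U hU)
  exact h1

include hjπE hP hPE hhE in
/-- Points in the image of `hE'` contain `j(w)` for `w` in the kernel of the projection. -/
theorem mem_of_hE' (z' : PE) (U : Y.Opens) (hU : IsAffineOpen U) (hz : hE'.base z' ∈ p ⁻¹ᵁ U)
    (w : Γ(G, U)) (hw : pr.app U w = 0) :
    jAdd G 𝒮.toQCAlg j U w ∈ (zpt p chart U hU (hE'.base z') hz).asHomogeneousIdeal := by
  obtain ⟨ζ, hζ⟩ := hE'_apply 𝒮E 𝒮 πE hπE hirrE p pE chart chartE hP hPE hE' hhE z' U hU hz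
  by_contra hnot
  have h1 : zpt p chart U hU (hE'.base z') hz ∈ Proj.basicOpen (𝒮.deg U hU)
      (jAdd G 𝒮.toQCAlg j U w) :=
    (Proj.mem_basicOpen _ _ _).mpr hnot
  rw [hζ] at h1
  have h2 : ζ ∈ (Proj.map (RelProj.gradedHomAt πE hπE U hU) (hirrE U hU)) ⁻¹ᵁ
      Proj.basicOpen (𝒮.deg U hU) (jAdd G 𝒮.toQCAlg j U w) := h1
  rw [Proj.map_preimage_basicOpen] at h2
  have h3 : RelProj.gradedHomAt πE hπE U hU (jAdd G 𝒮.toQCAlg j U w) = 0 := by
    show (πE.hom.app (op U)).hom _ = 0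
    rw [πE_j E G 𝒮E 𝒮 jE j πE pr hjπE, hw, map_zero]
  rw [h3, Proj.basicOpen_zero] at h2
  exact h2

end Groth.Agent.ProjSum
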