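import Mathlib
import Groth.Prelude
import Groth.Agent.Lib.ProjTwAmpleD_helper5
import Groth.Agent.Lib.GrDeg_lead

/-!
# `O(n)` on `Proj` is generated by the sections `b/1`, `b ∈ A_n`, as soon as
`A_{n + kL} = A_n A_{kL}` for all `k` (lead)
-/

set_option autoImplicit false
universe u
open CategoryTheory CategoryTheory.Limits AlgebraicGeometry TopologicalSpace Opposite DirectSum
open HomogeneousLocalization

namespace Groth.Agent.ProjTwL

open Groth.Agent.ProjTw QcqsLoc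

section
variable {R A : Type u} [CommRing R] [CommRing A] [Algebra R A] (𝒜 : ℕ → Submodule R A)
  [GradedAlgebra 𝒜]

/-- The value at a point of a section of `O(n)`, in the localisation. -/
abbrev valT {n : ℤ} {V : (Proj 𝒜).Opens} (t : Γ(Twist.twist 𝒜 n, V)) (y : V) :
    Twist.Loc 𝒜 y.1 :=
  (((show Twist.sectN (𝒜 := 𝒜) n (op V) from t).1 y : Twist.twistAt 𝒜 n y.1) : Twist.Loc 𝒜 y.1)

theorem ext_valT {n : ℤ} {V : (Proj 𝒜).Opens} (s t : Γ(Twist.twist 𝒜 n, V))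
    (h : ∀ y : V, valT 𝒜 s y = valT 𝒜 t y) : s = t := by
  apply Subtype.ext
  funext y
  apply Subtype.ext
  exact h y

theorem generatedBy_globalOf_of_mul (n m : ℕ)
    (hmul : ∀ j : ℕ, 𝒜 (n + (m + 1) • j) ≤ 𝒜 n * 𝒜 ((m + 1) • j)) :
    ProjUP.GeneratedBy (Twist.twist 𝒜 (n : ℤ))
      (fun b : 𝒜 n => (Twist.globalOf 𝒜 b : ProjUP.Γm (Twist.twist 𝒜 (n : ℤ)))) := by
  intro x
  rw [eq_top_iff]
  intro z _
  obtain ⟨O, hxO, l, rfl⟩ := TopCat.Presheaf.exists_germ_eq (Twist.twist 𝒜 (n : ℤ)).presheaf z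
  have hloc : ∃ (V : (Proj 𝒜).Opens) (_ : x ∈ V) (hV : V ≤ O) (i' j : ℕ) (a : 𝒜 i') (s : 𝒜 j)
      (nin : ∀ y : V, s.1 ∉ y.1.asHomogeneousIdeal), ((i' : ℤ) = j + n ∨ a.1 = 0) ∧
      ∀ y : V, valT 𝒜 (rF (Twist.twist 𝒜 (n : ℤ)) hV l) y = Localization.mk a.1 ⟨s.1, nin y⟩ := by
    obtain ⟨V, hxV, iV, i', j, a, s, nin, cond, hw⟩ :=
      (show Twist.sectN (𝒜 := 𝒜) (n : ℤ) (op O) from l).2 ⟨x, hxO⟩
    exact ⟨V, hxV, iV.le, i', j, a, s, nin, cond, hw⟩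
  obtain ⟨V, hxV, hV, i', j, a, s, nin, cond, hw⟩ := hloc
  have hVs : V ≤ Proj.basicOpen 𝒜 s.1 := fun y hy => nin ⟨y, hy⟩
  have ha : a.1 ∈ 𝒜 (j + n) := by
    rcases cond with h | h
    · have h' : i' = j + n := by exact_mod_cast h
      exact h' ▸ a.2
    · rw [h]
      exact zero_mem _
  have hw₀ : a.1 * s.1 ^ m ∈ 𝒜 (n + (m + 1) • j) := by
    have h1 : a.1 * s.1 ^ m ∈ 𝒜 (j + n + m • j) :=
      SetLike.mul_mem_graded ha (SetLike.pow_mem_graded m s.2)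
    have e : j + n + m • j = n + (m + 1) • j := by
      simp only [smul_eq_mul]
      ring
    exact e ▸ h1
  have pow_nin : ∀ y : V, s.1 ^ (m + 1) ∉ y.1.asHomogeneousIdeal :=
    fun y h => nin y (y.1.isPrime.mem_of_pow_mem _ h)
  -- the key claim, by induction on membership in the product
  have key : ∀ w ∈ 𝒜 n * 𝒜 ((m + 1) • j),
      ∃ t : Γ(Twist.twist 𝒜 (n : ℤ), V),
        (∀ y : V, valT 𝒜 t y = Localization.mk w ⟨s.1 ^ (m + 1), pow_nin y⟩) ∧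
        (Twist.twist 𝒜 (n : ℤ)).presheaf.germ V x hxV t ∈
          Submodule.span ((Proj 𝒜).presheaf.stalk x)
            (Set.range fun b : 𝒜 n =>
              ((Twist.twist 𝒜 (n : ℤ)).presheaf.germ ⊤ x trivial).hom
                (Twist.globalOf 𝒜 b : ProjUP.Γm (Twist.twist 𝒜 (n : ℤ)))) := by
    intro w hwmem
    refine Submodule.mul_induction_on hwmem ?_ ?_
    · intro b hb c hc
      let c0 : Twist.O (𝒜 := 𝒜) (op (ProjectiveSpectrum.basicOpen 𝒜 s.1)) :=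
        (Proj.awayToSection 𝒜 s.1).hom (Away.mk 𝒜 s.2 (m + 1) c hc)
      let cV : Γ(Proj 𝒜, V) :=
        rX hVs (show Γ(Proj 𝒜, Proj.basicOpen 𝒜 s.1) from c0)
      refine ⟨cV • rF (Twist.twist 𝒜 (n : ℤ)) (le_top : V ≤ ⊤)
        (Twist.globalOf 𝒜 ⟨b, hb⟩), fun y => ?_, ?_⟩
      · refine (smul_valN 𝒜 (n : ℤ) (op V) cV
          (rF (Twist.twist 𝒜 (n : ℤ)) (le_top : V ≤ ⊤)
            (Twist.globalOf 𝒜 ⟨b, hb⟩)) y).trans ?_
        show Localization.mk c ⟨s.1 ^ (m + 1), _⟩ * Localization.mk b ⟨1, _⟩ =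
          Localization.mk (b * c) ⟨s.1 ^ (m + 1), _⟩
        rw [Localization.mk_mul, Localization.mk_eq_mk_iff, Localization.r_iff_exists]
        refine ⟨1, ?_⟩
        simp only [Submonoid.coe_mul, Submonoid.coe_one, one_mul, mul_one]
        ring
      · rw [Groth.Agent.Lib.QCohLoc_helper4.germ_smul]
        refine Submodule.smul_mem _ _ (Submodule.subset_span ⟨⟨b, hb⟩, ?_⟩)
        exact (SecOrdH8.germ_rF (Twist.twist 𝒜 (n : ℤ)) le_top x hxV _).symm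
    · rintro w₁ w₂ ⟨t₁, h₁, g₁⟩ ⟨t₂, h₂, g₂⟩
      refine ⟨t₁ + t₂, fun y => ?_, ?_⟩
      · refine Eq.trans (show valT 𝒜 (t₁ + t₂) y = valT 𝒜 t₁ y + valT 𝒜 t₂ y from rfl) ?_
        rw [h₁ y, h₂ y, Localization.add_mk_self]
      · rw [map_add]
        exact Submodule.add_mem _ g₁ g₂
  obtain ⟨t, ht, htmem⟩ := key _ (hmul j hw₀)
  have hlt : rF (Twist.twist 𝒜 (n : ℤ)) hV l = t := by
    apply ext_valT
    intro y
    refine (hw y).trans (Eq.trans ?_ (ht y).symm)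
    rw [Localization.mk_eq_mk_iff, Localization.r_iff_exists]
    refine ⟨1, ?_⟩
    simp only [Submonoid.coe_one, one_mul]
    ring
  have e := SecOrdH8.germ_rF (Twist.twist 𝒜 (n : ℤ))
    hV x hxV l
  rw [hlt] at e
  exact e ▸ htmem

end

end Groth.Agent.ProjTwL
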