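import Mathlib
import Groth.Prelude
import Groth.Agent.Lib.ProjTwGen_helper5

/-!
# Sections of `O(k)` with an inverse in `O(-k)` are local generators (helper5)
-/

set_option autoImplicit false
universe u
open CategoryTheory CategoryTheory.Limits AlgebraicGeometry TopologicalSpace Opposite DirectSum
open HomogeneousLocalization

namespace Groth.Agent.ProjTw

section
variable {R A : Type u} [CommRing R] [CommRing A] [Algebra R A] (𝒜 : ℕ → Submodule R A)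
  [GradedAlgebra 𝒜]

/-- Degree-zero fractions come from the homogeneous localisation. -/
theorem exists_val_eq_of_mem_twistAt_zero (x : ProjectiveSpectrum 𝒜) (p : Twist.Loc 𝒜 x)
    (hp : p ∈ Twist.twistAt 𝒜 0 x) : ∃ c : Twist.A0 𝒜 x, c.val = p := by
  unfold Twist.twistAt at hp
  induction hp using Submodule.span_induction with
  | mem p hp =>
    obtain ⟨i, j, a, s, hs, hij, rfl⟩ := hp
    have hij' : i = j := by omega
    subst hij'
    exact ⟨HomogeneousLocalization.mk ⟨i, a, s, hs⟩, HomogeneousLocalization.val_mk _⟩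
  | zero => exact ⟨0, HomogeneousLocalization.val_zero⟩
  | add p q _ _ hp hq =>
    obtain ⟨c, rfl⟩ := hp
    obtain ⟨c', rfl⟩ := hq
    exact ⟨c + c', HomogeneousLocalization.val_add _ _⟩
  | smul c q _ hq =>
    obtain ⟨c', rfl⟩ := hq
    refine ⟨c * c', ?_⟩
    rw [HomogeneousLocalization.val_mul, Algebra.smul_def]
    rfl

/-- A section of `O(0)` as a section of the structure sheaf. -/
noncomputable def sec0ToO (U : (Opens (ProjectiveSpectrum.top 𝒜))ᵒᵖ)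
    (t : Twist.sectN (𝒜 := 𝒜) 0 U) : Twist.O (𝒜 := 𝒜) U :=
  ⟨fun x => Classical.choose (exists_val_eq_of_mem_twistAt_zero 𝒜 x.1 (t.1 x).1 (t.1 x).2),
    fun x => by
      obtain ⟨V, hxV, iV, i, j, a, σ, nin, cond, w⟩ := t.2 x
      rcases cond with hij | ha
      · have hij' : i = j := by omega
        subst hij'
        refine ⟨V, hxV, iV, i, a, σ, nin, fun y => ?_⟩
        apply HomogeneousLocalization.val_injective
        rw [Classical.choose_spec (exists_val_eq_of_mem_twistAt_zero 𝒜 _ _ (t.1 (iV y)).2),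
          HomogeneousLocalization.val_mk]
        exact w y
      · refine ⟨V, hxV, iV, 0, 0, ⟨1, SetLike.GradedOne.one_mem⟩,
          fun y h => y.1.isPrime.ne_top ((Ideal.eq_top_iff_one _).mpr h), fun y => ?_⟩
        apply HomogeneousLocalization.val_injective
        rw [Classical.choose_spec (exists_val_eq_of_mem_twistAt_zero 𝒜 _ _ (t.1 (iV y)).2),
          HomogeneousLocalization.val_mk]
        refine (w y).trans ?_
        show Localization.mk a.1 _ = Localization.mk 0 _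
        rw [ha, Localization.mk_zero, Localization.mk_zero]⟩

theorem sec0ToO_val (U : (Opens (ProjectiveSpectrum.top 𝒜))ᵒᵖ)
    (t : Twist.sectN (𝒜 := 𝒜) 0 U) (x : U.unop) :
    ((sec0ToO 𝒜 U t).1 x).val = ((t.1 x : Twist.twistAt 𝒜 0 x.1) : Twist.Loc 𝒜 x.1) :=
  Classical.choose_spec (exists_val_eq_of_mem_twistAt_zero 𝒜 x.1 (t.1 x).1 (t.1 x).2)

/-- A section of `O(j)`, `j = 0`, as a section of the structure sheaf. -/
noncomputable def secToO (j : ℤ) (hj : j = 0) (U : (Opens (ProjectiveSpectrum.top 𝒜))ᵒᵖ)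
    (t : Twist.sectN (𝒜 := 𝒜) j U) : Twist.O (𝒜 := 𝒜) U := by
  subst hj
  exact sec0ToO 𝒜 U t

theorem secToO_val (j : ℤ) (hj : j = 0) (U : (Opens (ProjectiveSpectrum.top 𝒜))ᵒᵖ)
    (t : Twist.sectN (𝒜 := 𝒜) j U) (x : U.unop) :
    ((secToO 𝒜 j hj U t).1 x).val = ((t.1 x : Twist.twistAt 𝒜 j x.1) : Twist.Loc 𝒜 x.1) := by
  subst hj
  exact sec0ToO_val 𝒜 U t x

/-- **A section of `O(k)` with an inverse in `O(-k)` is a generator.** -/
theorem isGen_of_inverse (k : ℤ) (W : (Proj 𝒜).Opens) (e : Twist.sectN (𝒜 := 𝒜) k (op W))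
    (e' : Twist.sectN (𝒜 := 𝒜) (-k) (op W))
    (hee' : ∀ x : W, (((e'.1 x : Twist.twistAt 𝒜 (-k) x.1) : Twist.Loc 𝒜 x.1)) *
      ((e.1 x : Twist.twistAt 𝒜 k x.1) : Twist.Loc 𝒜 x.1) = 1) :
    GenLocH8.IsGen (Twist.twist 𝒜 k) W e := by
  intro O hO
  have hres : ∀ x : O,
      ((((QcqsLoc.rF (Twist.twist 𝒜 k) hO e : Twist.sectN (𝒜 := 𝒜) k (op O)).1 x :
        Twist.twistAt 𝒜 k x.1) : Twist.Loc 𝒜 x.1)) =
      ((e.1 ⟨x.1, hO x.2⟩ : Twist.twistAt 𝒜 k x.1) : Twist.Loc 𝒜 x.1) := fun x => rfl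
  constructor
  · intro l₀
    obtain ⟨l, rfl⟩ : ∃ l : Twist.sectN (𝒜 := 𝒜) k (op O), l = l₀ := ⟨l₀, rfl⟩
    let e'O : Twist.sectN (𝒜 := 𝒜) (-k) (op O) := QcqsLoc.rF (Twist.twist 𝒜 (-k)) hO e'
    refine ⟨secToO 𝒜 (k + -k) (add_neg_cancel k) (op O) (mulSec 𝒜 k (-k) (op O) l e'O), ?_⟩
    apply Subtype.ext
    funext x
    apply Subtype.ext
    refine Eq.trans ?_ (smul_valN 𝒜 k (op O) _ (QcqsLoc.rF (Twist.twist 𝒜 k) hO e) x).symm
    rw [secToO_val, hres x]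
    have h1 : ((((mulSec 𝒜 k (-k) (op O) l e'O).1 x : Twist.twistAt 𝒜 (k + -k) x.1) :
        Twist.Loc 𝒜 x.1)) = ((l.1 x : Twist.twistAt 𝒜 k x.1) : Twist.Loc 𝒜 x.1) *
        ((e'.1 ⟨x.1, hO x.2⟩ : Twist.twistAt 𝒜 (-k) x.1) : Twist.Loc 𝒜 x.1) := rfl
    have hu : ((e'.1 ⟨x.1, hO x.2⟩ : Twist.twistAt 𝒜 (-k) x.1) : Twist.Loc 𝒜 x.1) *
        ((e.1 ⟨x.1, hO x.2⟩ : Twist.twistAt 𝒜 k x.1) : Twist.Loc 𝒜 x.1) = 1 :=
      hee' ⟨x.1, hO x.2⟩
    refine Eq.trans ?_ (congrArg (· * ((e.1 ⟨x.1, hO x.2⟩ : Twist.twistAt 𝒜 k x.1) :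
      Twist.Loc 𝒜 x.1)) h1).symm
    exact ((mul_assoc _ _ _).trans ((congrArg (((l.1 x : Twist.twistAt 𝒜 k x.1) :
      Twist.Loc 𝒜 x.1) * ·) hu).trans (mul_one _))).symm
  · intro c₀ hc
    obtain ⟨c, rfl⟩ : ∃ c : Twist.O (𝒜 := 𝒜) (op O), c = c₀ := ⟨c₀, rfl⟩
    apply Subtype.ext
    funext x
    apply HomogeneousLocalization.val_injective
    have h0 := congrArg (fun s : Twist.sectN (𝒜 := 𝒜) k (op O) =>
      ((s.1 x : Twist.twistAt 𝒜 k x.1) : Twist.Loc 𝒜 x.1)) hc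
    have h1 := (smul_valN 𝒜 k (op O) c (QcqsLoc.rF (Twist.twist 𝒜 k) hO e) x).symm.trans h0
    rw [hres x] at h1
    have h2 : (c.1 x).val * ((e.1 ⟨x.1, hO x.2⟩ : Twist.twistAt 𝒜 k x.1) : Twist.Loc 𝒜 x.1) = 0 :=
      h1
    have hu : ((e'.1 ⟨x.1, hO x.2⟩ : Twist.twistAt 𝒜 (-k) x.1) : Twist.Loc 𝒜 x.1) *
        ((e.1 ⟨x.1, hO x.2⟩ : Twist.twistAt 𝒜 k x.1) : Twist.Loc 𝒜 x.1) = 1 :=
      hee' ⟨x.1, hO x.2⟩
    have h4 : (c.1 x).val = 0 := by
      calc (c.1 x).val = (c.1 x).val * 1 := (mul_one _).symm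
        _ = (c.1 x).val * (((e'.1 ⟨x.1, hO x.2⟩ : Twist.twistAt 𝒜 (-k) x.1) : Twist.Loc 𝒜 x.1) *
            ((e.1 ⟨x.1, hO x.2⟩ : Twist.twistAt 𝒜 k x.1) : Twist.Loc 𝒜 x.1)) :=
            congrArg ((c.1 x).val * ·) hu.symm
        _ = ((c.1 x).val * ((e.1 ⟨x.1, hO x.2⟩ : Twist.twistAt 𝒜 k x.1) : Twist.Loc 𝒜 x.1)) *
            ((e'.1 ⟨x.1, hO x.2⟩ : Twist.twistAt 𝒜 (-k) x.1) : Twist.Loc 𝒜 x.1) := by ring
        _ = 0 := by rw [h2, zero_mul]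
    exact h4.trans (HomogeneousLocalization.val_zero).symm

theorem ratio_deg_eq (n : ℤ) (i j d : ℕ) (hij : i = j + d) :
    ((n.toNat • i + (-n).toNat • j : ℕ) : ℤ) = ((n.toNat • j + (-n).toNat • i : ℕ) : ℕ) + n * d := by
  have h := Int.toNat_sub_toNat_neg n
  subst hij
  push_cast
  simp only [smul_eq_mul]
  push_cast
  linear_combination (d : ℤ) * h

/-- The section `(a/b)^n` of `O(nd)` over `D_+(ab)`, `deg a = deg b + d`. -/
def ratioSec {i j d : ℕ} {a b : A} (ha : a ∈ 𝒜 i) (hb : b ∈ 𝒜 j) (hij : i = j + d) (n : ℤ) :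
    Twist.sectN (𝒜 := 𝒜) (n * d) (op (ProjectiveSpectrum.basicOpen 𝒜 (a * b))) :=
  fracSecN 𝒜 (n * d) (a ^ n.toNat * b ^ (-n).toNat)
    (SetLike.mul_mem_graded (SetLike.pow_mem_graded n.toNat ha)
      (SetLike.pow_mem_graded (-n).toNat hb))
    (b ^ n.toNat * a ^ (-n).toNat)
    (SetLike.mul_mem_graded (SetLike.pow_mem_graded n.toNat hb)
      (SetLike.pow_mem_graded (-n).toNat ha))
    (ratio_deg_eq n i j d hij) _
    (fun x h => (x.1.isPrime.mem_or_mem h).elim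
      (fun h' => x.2 (Ideal.mul_mem_left _ _ (x.1.isPrime.mem_of_pow_mem _ h')))
      (fun h' => x.2 (Ideal.mul_mem_right _ _ (x.1.isPrime.mem_of_pow_mem _ h'))))

/-- The section `(b/a)^n` of `O(-nd)` over `D_+(ab)`, `deg a = deg b + d`. -/
def ratioSecInv {i j d : ℕ} {a b : A} (ha : a ∈ 𝒜 i) (hb : b ∈ 𝒜 j) (hij : i = j + d) (n : ℤ) :
    Twist.sectN (𝒜 := 𝒜) (-(n * d)) (op (ProjectiveSpectrum.basicOpen 𝒜 (a * b))) :=
  fracSecN 𝒜 (-(n * d)) (b ^ n.toNat * a ^ (-n).toNat)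
    (SetLike.mul_mem_graded (SetLike.pow_mem_graded n.toNat hb)
      (SetLike.pow_mem_graded (-n).toNat ha))
    (a ^ n.toNat * b ^ (-n).toNat)
    (SetLike.mul_mem_graded (SetLike.pow_mem_graded n.toNat ha)
      (SetLike.pow_mem_graded (-n).toNat hb))
    (by have := ratio_deg_eq n i j d hij; omega) _
    (fun x h => (x.1.isPrime.mem_or_mem h).elim
      (fun h' => x.2 (Ideal.mul_mem_right _ _ (x.1.isPrime.mem_of_pow_mem _ h')))
      (fun h' => x.2 (Ideal.mul_mem_left _ _ (x.1.isPrime.mem_of_pow_mem _ h'))))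

/-- **`(a/b)^n` generates `O(nd)` over `D_+(ab)`.** -/
theorem isGen_ratioSec {i j d : ℕ} {a b : A} (ha : a ∈ 𝒜 i) (hb : b ∈ 𝒜 j) (hij : i = j + d)
    (n : ℤ) :
    GenLocH8.IsGen (Twist.twist 𝒜 (n * d)) (Proj.basicOpen 𝒜 (a * b))
      (ratioSec 𝒜 ha hb hij n) := by
  refine isGen_of_inverse 𝒜 (n * d) (Proj.basicOpen 𝒜 (a * b)) (ratioSec 𝒜 ha hb hij n)
    (ratioSecInv 𝒜 ha hb hij n) (fun x => ?_)
  show Localization.mk _ _ * Localization.mk _ _ = 1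
  rw [Localization.mk_mul]
  exact (Localization.mk_eq_mk_iff.mpr (Localization.r_iff_exists.mpr
    ⟨1, by simp only [OneMemClass.coe_one, one_mul, mul_one, Submonoid.coe_mul]; ring⟩)).trans
    Localization.mk_one

theorem twist_restrict_basicOpen_mul {i j d : ℕ} (hd : 0 < d) {a b : A} (ha : a ∈ 𝒜 i)
    (hb : b ∈ 𝒜 j) (hij : i = j + d) (n : ℤ) :
    Nonempty ((Twist.twist 𝒜 (n * d)).restrict (Proj.basicOpen 𝒜 (a * b)).ι ≅
      Coh.structureModule ↑(Proj.basicOpen 𝒜 (a * b))) :=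
  iso_of_isGen _ (Proj.isAffineOpen_basicOpen 𝒜 (a * b) (SetLike.mul_mem_graded ha hb)
    (by omega)) (isGen_ratioSec 𝒜 ha hb hij n)

/-- Every point of `Proj` lies in some `D_+(g)` with `g` homogeneous of positive degree. -/
theorem exists_pos_homog_not_mem (y : ProjectiveSpectrum 𝒜) :
    ∃ (m : ℕ) (g : A), 0 < m ∧ g ∈ 𝒜 m ∧ g ∉ y.asHomogeneousIdeal := by
  by_contra hcon
  push Not at hcon
  apply y.not_irrelevant_le
  intro a ha
  have ha0 : GradedRing.proj 𝒜 0 a = 0 := (HomogeneousIdeal.mem_irrelevant_iff 𝒜 a).mp ha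
  refine (y.asHomogeneousIdeal.isHomogeneous.mem_iff).mpr (fun l => ?_)
  rcases Nat.eq_zero_or_pos l with rfl | hl
  · have : (DirectSum.decompose 𝒜 a 0 : A) = 0 := ha0
    rw [this]
    exact Ideal.zero_mem _
  · exact hcon l _ hl (DirectSum.decompose 𝒜 a l).2

/-- Homogeneous positive-degree basic opens form a basis of `Proj`. -/
theorem exists_homog_basicOpen (Y : (Proj 𝒜).Opens) (y : Proj 𝒜) (hy : y ∈ Y) :
    ∃ (m : ℕ) (h : A), 0 < m ∧ h ∈ 𝒜 m ∧ y ∈ Proj.basicOpen 𝒜 h ∧ Proj.basicOpen 𝒜 h ≤ Y := by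
  obtain ⟨_, ⟨r, rfl⟩, hyr, hrY⟩ :=
    (ProjectiveSpectrum.isTopologicalBasis_basic_opens 𝒜).exists_subset_of_mem_open hy Y.2
  have hyr' : r ∉ (y : ProjectiveSpectrum 𝒜).asHomogeneousIdeal := hyr
  obtain ⟨l, hl⟩ : ∃ l, (DirectSum.decompose 𝒜 r l : A) ∉
      (y : ProjectiveSpectrum 𝒜).asHomogeneousIdeal := by
    by_contra hcon
    push Not at hcon
    exact hyr' (((y : ProjectiveSpectrum 𝒜).asHomogeneousIdeal.isHomogeneous.mem_iff).mpr hcon)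
  obtain ⟨m, g, hm, hg, hgy⟩ := exists_pos_homog_not_mem 𝒜 (y : ProjectiveSpectrum 𝒜)
  refine ⟨l + m, (DirectSum.decompose 𝒜 r l : A) * g, by omega,
    SetLike.mul_mem_graded (DirectSum.decompose 𝒜 r l).2 hg,
    fun h => ((y : ProjectiveSpectrum 𝒜).isPrime.mem_or_mem h).elim hl hgy, ?_⟩
  intro P hP
  apply hrY
  show r ∉ (P : ProjectiveSpectrum 𝒜).asHomogeneousIdeal
  intro hr
  exact hP (Ideal.mul_mem_right _ _
    (((P : ProjectiveSpectrum 𝒜).asHomogeneousIdeal.isHomogeneous.mem_iff).mp hr l))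

/-- A quasi-compact open of `Proj` is covered by `D_+(a) ⊆ Y` with `a` of one fixed positive
degree. -/
theorem exists_deg_cover (Y : (Proj 𝒜).Opens) (hY : IsCompact (Y : Set (Proj 𝒜))) :
    ∃ d : ℕ, 0 < d ∧ ∀ y : Proj 𝒜, y ∈ Y → ∃ a : A, a ∈ 𝒜 d ∧ y ∈ Proj.basicOpen 𝒜 a ∧
      Proj.basicOpen 𝒜 a ≤ Y := by
  choose m h hm hh hyh hle using fun y : Y => exists_homog_basicOpen 𝒜 Y y.1 y.2
  obtain ⟨t, ht⟩ := hY.elim_finite_subcover
    (fun y : Y => ((Proj.basicOpen 𝒜 (h y) : (Proj 𝒜).Opens) : Set (Proj 𝒜)))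
    (fun y => (Proj.basicOpen 𝒜 (h y)).2)
    (fun z hz => Set.mem_iUnion.mpr ⟨⟨z, hz⟩, hyh ⟨z, hz⟩⟩)
  refine ⟨∏ k ∈ t, m k, Finset.prod_pos (fun k _ => hm k), fun y hy => ?_⟩
  obtain ⟨k, hk⟩ := Set.mem_iUnion.mp (ht hy)
  obtain ⟨hkt, hyk⟩ := Set.mem_iUnion.mp hk
  have hdvd : m k ∣ ∏ k ∈ t, m k := Finset.dvd_prod_of_mem m hkt
  obtain ⟨e, he⟩ := hdvd
  have hyk' : h k ∉ (y : ProjectiveSpectrum 𝒜).asHomogeneousIdeal := hyk
  refine ⟨h k ^ e, ?_, fun hcon => hyk' ((y : ProjectiveSpectrum 𝒜).isPrime.mem_of_pow_mem _ hcon),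
    fun P hP => hle k (fun hcon => hP (?_))⟩
  · have := SetLike.pow_mem_graded e (hh k)
    rw [he, mul_comm]
    exact this
  · have hpos : e ≠ 0 := by
      rintro rfl
      have : 0 < ∏ k ∈ t, m k := Finset.prod_pos (fun k _ => hm k)
      omega
    exact Ideal.pow_mem_of_mem _ hcon e (Nat.pos_of_ne_zero hpos)

end

end Groth.Agent.ProjTw
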