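import Mathlib
import Groth.Prelude.Def_BigSite
import Groth.Agent.Lib.EtZeroDim_helper7

/-!
# Condition (A): `f_*` is faithful and the counit `f⁻¹ f_* F ⟶ F` is an epimorphism (helper7)
-/

set_option autoImplicit false
set_option backward.isDefEq.respectTransparency false
universe u
open CategoryTheory CategoryTheory.Limits AlgebraicGeometry Opposite TopologicalSpace

namespace Groth.Agent.Lib.PropA_helper7

open Groth.Agent.Lib.HensStalk_helper7 Groth.Agent.Lib.EtSchSite_helper7
  Groth.Agent.Lib.EtFlasque_helper7 Groth.Agent.Lib.EtHpull0_helper7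
  Groth.Agent.Lib.EtMVses_helper7 Groth.Agent.Lib.EtZeroDim_helper7

variable {X Y : Scheme.{u}}

section Glue

variable (F : EtCoh.Ab X) (Z : X.Etale) {ι : Type} (W : ι → Z.left.Opens)

/-- an open of an étale `X`-scheme as an étale `X`-scheme -/
noncomputable abbrev WO (k : ι) : X.Etale :=
  haveI : Etale Z.hom := Z.prop
  Scheme.Etale.mk ((W k).ι ≫ Z.hom)

/-- the inclusion -/
noncomputable abbrev jW (k : ι) : WO Z W k ⟶ Z :=
  MorphismProperty.Over.homMk (W k).ι rfl trivial

instance mono_jW (k : ι) : Mono (jW Z W k) :=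
  haveI : Mono (jW Z W k).left := inferInstanceAs (Mono (W k).ι)
  mono_of_left_mono _

theorem cover_mem (hcov : ∀ z : Z.left, ∃ k, z ∈ W k) :
    Sieve.ofArrows (fun k => WO Z W k) (fun k => jW Z W k) ∈ X.smallEtaleTopology Z := by
  apply sieve_mem_of_forall_exists
  intro z
  obtain ⟨k, hk⟩ := hcov z
  have hk' : z ∈ Set.range (W k).ι := by rw [Scheme.Opens.range_ι]; exact hk
  exact ⟨WO Z W k, jW Z W k, Sieve.ofArrows_mk _ _ k, hk'⟩

theorem mem_of_ι (O : Z.left.Opens) (y : O.toScheme) : O.ι y ∈ O := by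
  have := Set.mem_range_self (f := O.ι) y
  rw [Scheme.Opens.range_ι] at this
  exact this

theorem glue (hcov : ∀ z : Z.left, ∃ k, z ∈ W k) (hd : ∀ k l, k ≠ l → Disjoint (W k) (W l))
    (s : ∀ k, F.obj.obj (op (WO Z W k))) :
    ∃ r : F.obj.obj (op Z), ∀ k, F.obj.map (jW Z W k).op r = s k := by
  have hQ : Presieve.IsSheaf X.smallEtaleTopology (F.obj ⋙ forget AddCommGrpCat.{u + 1}) :=
    (isSheaf_iff_isSheaf_of_type _ _).1
      ((Presheaf.isSheaf_iff_isSheaf_forget _ F.obj (forget AddCommGrpCat.{u + 1})).1 F.2)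
  have hsh : Presieve.IsSheafFor (F.obj ⋙ forget AddCommGrpCat.{u + 1})
      (Presieve.ofArrows (fun k => WO Z W k) (fun k => jW Z W k)) :=
    (Presieve.isSheafFor_iff_generate _).2 (hQ _ (cover_mem Z W hcov))
  rw [Presieve.isSheafFor_arrows_iff] at hsh
  obtain ⟨r, hr, -⟩ := hsh s (by
    intro k l Z' gi gj hij
    by_cases hkl : k = l
    · subst hkl
      have : gi = gj := (cancel_mono (jW Z W k)).1 hij
      rw [this]
    · haveI : IsEmpty Z'.left := by
        refine ⟨fun z' => ?_⟩
        have h0 : gi.left ≫ (W k).ι = gj.left ≫ (W l).ι :=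
          congrArg (fun m => m.left) hij
        have h1 : (W k).ι (gi.left z') = (W l).ι (gj.left z') :=
          congrArg (fun (m : Z'.left ⟶ Z.left) => m z') h0
        have hk1 : (W k).ι (gi.left z') ∈ W k := mem_of_ι Z _ _
        have hl1 : (W l).ι (gj.left z') ∈ W l := mem_of_ι Z _ _
        rw [← h1] at hl1
        have : (W k).ι (gi.left z') ∈ (⊥ : Z.left.Opens) := (hd k l hkl).le_bot ⟨hk1, hl1⟩
        exact absurd this (by simp)
      exact (subsingleton_of_isEmpty F Z').elim _ _)
  exact ⟨r, hr⟩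

end Glue

theorem exists_counit_preimage (f : X ⟶ Y) (F : EtCoh.Ab X) (A : Y.Etale)
    (t : F.obj.obj (op ((EtCoh.bc f).obj A))) :
    ∃ τ : ((EtCoh.pull f).obj ((EtCoh.push f).obj F)).obj.obj (op ((EtCoh.bc f).obj A)),
      ((EtCoh.pullPushAdj f).counit.app F).hom.app (op ((EtCoh.bc f).obj A)) τ = t := by
  have h : ((EtCoh.pullPushAdj f).unit.app ((EtCoh.push f).obj F)).hom.app (op A) ≫
      ((EtCoh.pullPushAdj f).counit.app F).hom.app (op ((EtCoh.bc f).obj A)) = 𝟙 _ :=
    congrArg (fun m => m.hom.app (op A)) ((EtCoh.pullPushAdj f).right_triangle_components F)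
  refine ⟨((EtCoh.pullPushAdj f).unit.app ((EtCoh.push f).obj F)).hom.app (op A) t, ?_⟩
  have h2 := ConcreteCategory.congr_hom h t
  rw [ConcreteCategory.comp_apply] at h2
  exact h2

theorem counit_epi (f : X ⟶ Y) (hA : BigSite.PropA f) (F : EtCoh.Ab X) :
    Epi ((EtCoh.pullPushAdj f).counit.app F) := by
  haveI : Sheaf.IsLocallySurjective ((EtCoh.pullPushAdj f).counit.app F) := by
    refine ⟨fun {U} s => ?_⟩
    apply sieve_mem_of_forall_exists
    intro pt
    haveI : Etale U.hom := U.prop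
    obtain ⟨V, v, hv, W, hWc, h, hh, hpt⟩ := hA U.left U.hom pt
    haveI : Etale v := hv
    let A : Y.Etale := Scheme.Etale.mk v
    let B : X.Etale := (EtCoh.bc f).obj A
    let Z : X.Etale := Scheme.Etale.mk (pullback.fst f v)
    let e : Z ≅ B := MorphismProperty.Over.isoMk (pullbackSymmetry f v)
      (pullbackSymmetry_hom_comp_snd f v)
    let Wc : Z.left.Opens := ⟨(W : Set ↥(pullback f v))ᶜ, hWc.isOpen_compl⟩
    let Wfam : Bool → Z.left.Opens := fun b => bif b then W else Wc
    have hcov : ∀ z : Z.left, ∃ b, z ∈ Wfam b := by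
      intro z
      by_cases hz : z ∈ W
      · exact ⟨true, hz⟩
      · exact ⟨false, hz⟩
    have hd : ∀ k l, k ≠ l → Disjoint (Wfam k) (Wfam l) := by
      intro k l hkl
      rw [disjoint_iff]
      ext z
      simp only [Opens.coe_inf, Set.mem_inter_iff, SetLike.mem_coe, Opens.coe_bot,
        Set.mem_empty_iff_false, iff_false, not_and]
      cases k <;> cases l
      · exact absurd rfl hkl
      · intro h1 h2; exact h1 h2
      · intro h1 h2; exact h2 h1
      · exact absurd rfl hkl
    let k : WO Z Wfam true ⟶ U := MorphismProperty.Over.homMk h hh trivial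
    let s' : ∀ b, F.obj.obj (op (WO Z Wfam b)) := fun b =>
      match b with
      | true => F.obj.map k.op s
      | false => 0
    obtain ⟨r, hr⟩ := glue F Z Wfam hcov hd s'
    obtain ⟨τ, hτ⟩ := exists_counit_preimage f F A (F.obj.map e.inv.op r)
    refine ⟨WO Z Wfam true, k,
      ⟨((EtCoh.pull f).obj ((EtCoh.push f).obj F)).obj.map (jW Z Wfam true ≫ e.hom).op τ, ?_⟩,
      hpt⟩
    have e1 : (jW Z Wfam true ≫ e.hom) ≫ e.inv = jW Z Wfam true := by
      rw [Category.assoc, e.hom_inv_id, Category.comp_id]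
    calc ((EtCoh.pullPushAdj f).counit.app F).hom.app (op (WO Z Wfam true))
          (((EtCoh.pull f).obj ((EtCoh.push f).obj F)).obj.map (jW Z Wfam true ≫ e.hom).op τ)
        = F.obj.map (jW Z Wfam true ≫ e.hom).op
            (((EtCoh.pullPushAdj f).counit.app F).hom.app (op B) τ) :=
          app_map_apply ((EtCoh.pullPushAdj f).counit.app F) (jW Z Wfam true ≫ e.hom) τ
      _ = F.obj.map (jW Z Wfam true ≫ e.hom).op (F.obj.map e.inv.op r) := by rw [hτ]
      _ = F.obj.map ((jW Z Wfam true ≫ e.hom) ≫ e.inv).op r :=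
          (map_comp_apply F _ _ r).symm
      _ = F.obj.map (jW Z Wfam true).op r := by rw [e1]
      _ = F.obj.map k.op s := hr true
  infer_instance

theorem main (f : X ⟶ Y) (hA : BigSite.PropA f) :
    (EtCoh.push f).ReflectsMonomorphisms ∧ (EtCoh.push f).ReflectsEpimorphisms ∧
      (∀ F : EtCoh.Ab X, Epi ((EtCoh.pullPushAdj f).counit.app F)) ∧ (EtCoh.push f).Faithful := by
  have hc := fun F => counit_epi f hA F
  haveI : (EtCoh.push f).Faithful := (EtCoh.pullPushAdj f).faithful_R_of_epi_counit_app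
  exact ⟨inferInstance, inferInstance, hc, inferInstance⟩

end Groth.Agent.Lib.PropA_helper7
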