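import Mathlib
import Groth.Prelude.Def_BigSite
import Groth.Agent.Lib.EtIntPropB_helper7
import Groth.Agent.Lib.EtClosedPtA_helper7

/-!
# Condition (C) for integral morphisms that are closed topological embeddings (helper7)
-/

set_option autoImplicit false
set_option backward.isDefEq.respectTransparency false
set_option backward.isDefEq.respectTransparency.types false
set_option linter.style.haveILetI false
set_option linter.unusedSectionVars false
universe u
open CategoryTheory CategoryTheory.Limits AlgebraicGeometry Opposite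

namespace Groth.Agent.Lib.PropCIntH7

open Groth.Agent.Lib.EtIntH7 Groth.Agent.Lib.EtClosedPtH7

/-- Two morphisms out of an empty scheme agree. -/
theorem hom_ext_of_isEmpty {Z T : Scheme.{u}} [IsEmpty Z] (a b : Z ⟶ T) : a = b :=
  (isInitialOfIsEmpty (X := Z)).hom_ext a b

theorem mem_of_ι' {Q : Scheme.{u}} (O : Q.Opens) (y : O.toScheme) : O.ι y ∈ O := by
  have := Set.mem_range_self (f := O.ι) y
  rw [Scheme.Opens.range_ι] at this
  exact this

/-- Glue morphisms along a disjoint open cover. -/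
theorem glue_disjoint {Q T : Scheme.{u}} {μ : Type u} (W : μ → Q.Opens)
    (hd : ∀ a b, a ≠ b → Disjoint (W a) (W b)) (hc : (⨆ a, W a) = ⊤)
    (h : ∀ a, (W a).toScheme ⟶ T) :
    ∃ k : Q ⟶ T, ∀ a, (W a).ι ≫ k = h a := by
  have hU : TopologicalSpace.IsOpenCover W := hc
  let 𝒰 : Q.OpenCover := Q.openCoverOfIsOpenCover W hU
  have compat : ∀ a b : μ, pullback.fst (𝒰.f a) (𝒰.f b) ≫ h a =
      pullback.snd (𝒰.f a) (𝒰.f b) ≫ h b := by
    intro a b
    by_cases hab : a = b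
    · subst hab
      have : pullback.fst (𝒰.f a) (𝒰.f a) = pullback.snd (𝒰.f a) (𝒰.f a) := by
        rw [← cancel_mono (𝒰.f a)]
        exact pullback.condition
      rw [this]
    · haveI : IsEmpty ↑(pullback (𝒰.f a) (𝒰.f b)) := by
        refine ⟨fun z => ?_⟩
        have h0 : pullback.fst (𝒰.f a) (𝒰.f b) ≫ (W a).ι =
            pullback.snd (𝒰.f a) (𝒰.f b) ≫ (W b).ι := pullback.condition
        have h1 : (W a).ι ((pullback.fst (𝒰.f a) (𝒰.f b)) z) =
            (W b).ι ((pullback.snd (𝒰.f a) (𝒰.f b)) z) :=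
          (Scheme.Hom.comp_apply _ _ _).symm.trans
            ((congrArg (fun (m : pullback (𝒰.f a) (𝒰.f b) ⟶ Q) => m z) h0).trans
              (Scheme.Hom.comp_apply _ _ _))
        have hk1 : (W a).ι ((pullback.fst (𝒰.f a) (𝒰.f b)) z) ∈ W a := mem_of_ι' _ _
        have hl1 : (W b).ι ((pullback.snd (𝒰.f a) (𝒰.f b)) z) ∈ W b := mem_of_ι' _ _
        rw [← h1] at hl1
        have : (W a).ι ((pullback.fst (𝒰.f a) (𝒰.f b)) z) ∈ (⊥ : Q.Opens) :=
          (hd a b hab).le_bot ⟨hk1, hl1⟩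
        exact absurd this (by simp)
      exact hom_ext_of_isEmpty _ _
  exact ⟨𝒰.glueMorphisms h compat, fun a => 𝒰.ι_glueMorphisms h compat a⟩

theorem hom_ext_disjoint {Q T : Scheme.{u}} {μ : Type u} (W : μ → Q.Opens)
    (hc : (⨆ a, W a) = ⊤) (k k' : Q ⟶ T) (hk : ∀ a, (W a).ι ≫ k = (W a).ι ≫ k') : k = k' := by
  have hU : TopologicalSpace.IsOpenCover W := hc
  exact (Q.openCoverOfIsOpenCover W hU).hom_ext k k' hk

variable {X Y : Scheme.{u}}

/-- Assemble a family of partial solutions of (C) over the members of a disjoint open cover. -/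
theorem cover_family (f : X ⟶ Y) {U : Scheme.{u}} (g : U ⟶ X) {S : Scheme.{u}} (σ : S ⟶ Y)
    (𝒱 : S.OpenCover) (hdis : ∀ i j, i ≠ j → IsEmpty ↑(pullback (𝒱.f i) (𝒱.f j)))
    (v : ∀ i, 𝒱.X i ⟶ Y) (hv : ∀ i, 𝒱.f i ≫ σ = v i)
    (h : ∀ i, pullback f (v i) ⟶ U) (hh : ∀ i, h i ≫ g = pullback.fst f (v i)) :
    ∃ h' : pullback f σ ⟶ U, h' ≫ g = pullback.fst f σ ∧
      ∀ i, Set.range (h i).base ⊆ Set.range h'.base := by
  let 𝒰 : (pullback f σ).OpenCover := 𝒱.pullback₁ (pullback.snd f σ)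
  have hq : ∀ i, (pullback.fst (pullback.snd f σ) (𝒱.f i) ≫ pullback.fst f σ) ≫ f =
      pullback.snd (pullback.snd f σ) (𝒱.f i) ≫ v i := by
    intro i
    rw [Category.assoc, pullback.condition, ← Category.assoc, pullback.condition,
      Category.assoc, hv]
  let q : ∀ i, pullback (pullback.snd f σ) (𝒱.f i) ⟶ pullback f (v i) := fun i =>
    pullback.lift (pullback.fst _ _ ≫ pullback.fst f σ) (pullback.snd _ _) (hq i)
  have hq1 : ∀ i, q i ≫ pullback.fst f (v i) =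
      pullback.fst (pullback.snd f σ) (𝒱.f i) ≫ pullback.fst f σ := fun i =>
    pullback.lift_fst _ _ _
  have hq2 : ∀ i, q i ≫ pullback.snd f (v i) = pullback.snd (pullback.snd f σ) (𝒱.f i) :=
    fun i => pullback.lift_snd _ _ _
  have hr : ∀ i, pullback.fst f (v i) ≫ f = (pullback.snd f (v i) ≫ 𝒱.f i) ≫ σ := by
    intro i
    rw [Category.assoc, hv, pullback.condition]
  let r0 : ∀ i, pullback f (v i) ⟶ pullback f σ := fun i =>
    pullback.lift (pullback.fst f (v i)) (pullback.snd f (v i) ≫ 𝒱.f i) (hr i)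
  have hr01 : ∀ i, r0 i ≫ pullback.fst f σ = pullback.fst f (v i) := fun i =>
    pullback.lift_fst _ _ _
  have hr02 : ∀ i, r0 i ≫ pullback.snd f σ = pullback.snd f (v i) ≫ 𝒱.f i := fun i =>
    pullback.lift_snd _ _ _
  let r : ∀ i, pullback f (v i) ⟶ pullback (pullback.snd f σ) (𝒱.f i) := fun i =>
    pullback.lift (r0 i) (pullback.snd f (v i)) (hr02 i)
  have hr1 : ∀ i, r i ≫ pullback.fst (pullback.snd f σ) (𝒱.f i) = r0 i := fun i =>
    pullback.lift_fst _ _ _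
  have hr2 : ∀ i, r i ≫ pullback.snd (pullback.snd f σ) (𝒱.f i) = pullback.snd f (v i) :=
    fun i => pullback.lift_snd _ _ _
  have hrq : ∀ i, r i ≫ q i = 𝟙 _ := by
    intro i
    apply pullback.hom_ext
    · rw [Category.assoc, hq1, ← Category.assoc, hr1, hr01, Category.id_comp]
    · rw [Category.assoc, hq2, hr2, Category.id_comp]
  have hUf : ∀ i, 𝒰.f i = pullback.fst (pullback.snd f σ) (𝒱.f i) := fun i => rfl
  have compat : ∀ i j, pullback.fst (𝒰.f i) (𝒰.f j) ≫ q i ≫ h i =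
      pullback.snd (𝒰.f i) (𝒰.f j) ≫ q j ≫ h j := by
    intro i j
    by_cases hij : i = j
    · subst hij
      have : pullback.fst (𝒰.f i) (𝒰.f i) = pullback.snd (𝒰.f i) (𝒰.f i) := by
        rw [← cancel_mono (𝒰.f i)]
        exact pullback.condition
      rw [this]
    · haveI : IsEmpty ↑(pullback (𝒰.f i) (𝒰.f j)) := by
        haveI := hdis i j hij
        have hc : (pullback.fst (𝒰.f i) (𝒰.f j) ≫ pullback.snd (pullback.snd f σ) (𝒱.f i)) ≫
            𝒱.f i = (pullback.snd (𝒰.f i) (𝒰.f j) ≫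
              pullback.snd (pullback.snd f σ) (𝒱.f j)) ≫ 𝒱.f j := by
          have e1 : pullback.fst (𝒰.f i) (𝒰.f j) ≫ 𝒰.f i =
              pullback.snd (𝒰.f i) (𝒰.f j) ≫ 𝒰.f j := pullback.condition
          rw [Category.assoc, ← pullback.condition, Category.assoc, ← pullback.condition,
            ← hUf i, ← hUf j, ← Category.assoc, e1, Category.assoc]
        exact Function.isEmpty
          (pullback.lift _ _ hc : pullback (𝒰.f i) (𝒰.f j) ⟶ pullback (𝒱.f i) (𝒱.f j)).base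
      exact hom_ext_of_isEmpty _ _
  have hglue : ∀ i, 𝒰.f i ≫ 𝒰.glueMorphisms (fun i => q i ≫ h i) compat = q i ≫ h i :=
    fun i => 𝒰.ι_glueMorphisms (fun i => q i ≫ h i) compat i
  refine ⟨𝒰.glueMorphisms (fun i => q i ≫ h i) compat, ?_, ?_⟩
  · apply 𝒰.hom_ext
    intro i
    rw [← Category.assoc, hglue, Category.assoc, hh, hq1]
    rfl
  · rintro i _ ⟨p, rfl⟩
    have e : (r i ≫ 𝒰.f i) ≫ 𝒰.glueMorphisms (fun i => q i ≫ h i) compat = h i := by
      rw [Category.assoc, hglue, ← Category.assoc, hrq, Category.id_comp]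
    refine ⟨(r i ≫ 𝒰.f i) p, ?_⟩
    exact (Scheme.Hom.comp_apply _ _ _).symm.trans
      (congrArg (fun (m : pullback f (v i) ⟶ U) => m p) e)

/-- The pointwise step, assuming `u` is alone in its fibre. -/
theorem pointC (f : X ⟶ Y) [IsIntegralHom f] (hf : Topology.IsClosedEmbedding f.base)
    (U : Scheme.{u}) (g : U ⟶ X) [Etale g] (u : U) (hu : ∀ u' : U, g u' = g u → u' = u) :
    ∃ (V : Scheme.{u}) (v : V ⟶ Y) (_ : Etale v) (h : pullback f v ⟶ U),
      h ≫ g = pullback.fst f v ∧ u ∈ Set.range h.base := by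
  have hopen : IsOpen (Set.range g.base) := g.isOpenMap.isOpen_range
  obtain ⟨V', hV', hV'e⟩ := hf.isInducing.isOpen_iff.mp hopen
  obtain ⟨VO, hVO⟩ : ∃ VO : Y.Opens, (VO : Set Y) = V' := ⟨⟨V', hV'⟩, rfl⟩
  have hmem : ∀ x : X, f x ∈ VO ↔ x ∈ Set.range g.base := by
    intro x
    have h1 : x ∈ f.base ⁻¹' V' ↔ x ∈ Set.range g.base := by rw [hV'e]
    rw [← hVO] at h1
    exact h1
  have hrange : Set.range (g ≫ f) ⊆ Set.range VO.ι := by
    rintro _ ⟨u', rfl⟩
    rw [Scheme.Opens.range_ι]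
    have h1 : (g ≫ f) u' = f (g u') := Scheme.Hom.comp_apply _ _ _
    rw [h1]
    exact (hmem (g u')).2 ⟨u', rfl⟩
  obtain ⟨g0, hg0⟩ : ∃ g0 : U ⟶ VO.toScheme, g0 ≫ VO.ι = g ≫ f :=
    ⟨IsOpenImmersion.lift VO.ι (g ≫ f) hrange, IsOpenImmersion.lift_fac _ _ _⟩
  obtain ⟨g', hg'1, hg'2⟩ : ∃ g' : U ⟶ pullback f VO.ι,
      g' ≫ pullback.fst f VO.ι = g ∧ g' ≫ pullback.snd f VO.ι = g0 :=
    ⟨pullback.lift g g0 hg0.symm, pullback.lift_fst _ _ _, pullback.lift_snd _ _ _⟩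
  haveI : Etale g' := by
    haveI : Etale (g' ≫ pullback.fst f VO.ι) := by rw [hg'1]; infer_instance
    exact Etale.of_comp g' (pullback.fst f VO.ι)
  have hsurj : ∀ x : ↥(pullback f VO.ι), ∃ i : PUnit.{u + 1},
      x ∈ Set.range ((fun _ : PUnit.{u + 1} => g') i).base := by
    intro x
    have h1 : f ((pullback.fst f VO.ι) x) = VO.ι ((pullback.snd f VO.ι) x) :=
      (Scheme.Hom.comp_apply _ _ _).symm.trans
        ((congrArg (fun (m : pullback f VO.ι ⟶ Y) => m x)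
          (pullback.condition (f := f) (g := VO.ι))).trans (Scheme.Hom.comp_apply _ _ _))
    have h2 : f ((pullback.fst f VO.ι) x) ∈ VO := by
      rw [h1]
      exact mem_of_ι' _ _
    obtain ⟨u', hu'⟩ := (hmem _).1 h2
    refine ⟨PUnit.unit, u', ?_⟩
    apply (pullback.fst f VO.ι).isOpenEmbedding.injective
    have h3 : (pullback.fst f VO.ι) (g' u') = g u' :=
      (Scheme.Hom.comp_apply _ _ _).symm.trans (congrArg (fun (m : U ⟶ X) => m u') hg'1)
    exact h3.trans hu'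
  obtain ⟨κ, V1, v1, hv1, hcov1, hW⟩ := propB_int f VO.toScheme VO.ι PUnit.{u + 1}
    (fun _ => U) (fun _ => g') (fun _ => inferInstance) hsurj
  obtain ⟨j, y', hy'⟩ := hcov1 (g0 u)
  haveI := hv1 j
  have hfy : f (g u) = (v1 j ≫ VO.ι) y' := by
    have a1 : (v1 j ≫ VO.ι) y' = VO.ι (v1 j y') := Scheme.Hom.comp_apply _ _ _
    have a2 : VO.ι (g0 u) = f (g u) :=
      (Scheme.Hom.comp_apply _ _ _).symm.trans
        ((congrArg (fun (m : U ⟶ Y) => m u) hg0).trans (Scheme.Hom.comp_apply _ _ _))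
    rw [a1]
    exact a2.symm.trans (congrArg (fun w => VO.ι w) hy'.symm)
  obtain ⟨z, hz1, hz2⟩ := Scheme.Pullback.exists_preimage_pullback (g u) y' hfy
  obtain ⟨μ, W, hd, hc, hWa⟩ := hW j
  choose ia ha hha using hWa
  obtain ⟨k, hk⟩ := glue_disjoint W hd hc ha
  have hkg : k ≫ g = pullback.fst f (v1 j ≫ VO.ι) := by
    apply hom_ext_disjoint W hc
    intro a
    have e4 : pullback.map f (v1 j ≫ VO.ι) f VO.ι (𝟙 X) (v1 j) (𝟙 Y) (by simp) (by simp) ≫
        pullback.fst f VO.ι = pullback.fst f (v1 j ≫ VO.ι) := by simp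
    calc (W a).ι ≫ k ≫ g = ((W a).ι ≫ k) ≫ g := (Category.assoc _ _ _).symm
      _ = ha a ≫ g := congrArg (· ≫ g) (hk a)
      _ = ha a ≫ g' ≫ pullback.fst f VO.ι := by rw [hg'1]
      _ = (ha a ≫ g') ≫ pullback.fst f VO.ι := (Category.assoc _ _ _).symm
      _ = ((W a).ι ≫ pullback.map f (v1 j ≫ VO.ι) f VO.ι (𝟙 X) (v1 j) (𝟙 Y)
            (by simp) (by simp)) ≫ pullback.fst f VO.ι :=
          congrArg (· ≫ pullback.fst f VO.ι) (hha a)
      _ = (W a).ι ≫ pullback.fst f (v1 j ≫ VO.ι) := by rw [Category.assoc, e4]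
  refine ⟨V1 j, v1 j ≫ VO.ι, inferInstance, k, hkg, z, ?_⟩
  apply hu
  have h5 : g (k z) = (pullback.fst f (v1 j ≫ VO.ι)) z :=
    (Scheme.Hom.comp_apply _ _ _).symm.trans
      (congrArg (fun (m : pullback f (v1 j ≫ VO.ι) ⟶ X) => m z) hkg)
  exact h5.trans hz1

/-- The pointwise step. -/
theorem pointC' (f : X ⟶ Y) [IsIntegralHom f] (hf : Topology.IsClosedEmbedding f.base)
    (U : Scheme.{u}) (g : U ⟶ X) [Etale g] (u : U) :
    ∃ (V : Scheme.{u}) (v : V ⟶ Y) (_ : Etale v) (h : pullback f v ⟶ U),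
      h ≫ g = pullback.fst f v ∧ u ∈ Set.range h.base := by
  haveI : LocallyQuasiFinite g := lqf_of_etale' g
  obtain ⟨O, hO, hOe⟩ := isOpen_inter_eq_singleton_of_mem_discrete
    (g.isDiscrete_preimage_singleton (g u)) (x := u) rfl
  obtain ⟨UO, hUO⟩ : ∃ UO : U.Opens, (UO : Set U) = O := ⟨⟨O, hO⟩, rfl⟩
  have huO : u ∈ UO := by
    have : u ∈ O ∩ g ⁻¹' {g u} := by rw [hOe]; rfl
    have h1 : u ∈ O := this.1
    rw [← hUO] at h1
    exact h1
  obtain ⟨u1, hu1⟩ : u ∈ Set.range UO.ι := by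
    rw [Scheme.Opens.range_ι]
    exact huO
  have hfib : ∀ u' : UO.toScheme, (UO.ι ≫ g) u' = (UO.ι ≫ g) u1 → u' = u1 := by
    intro u' he
    have e1 : (UO.ι ≫ g) u' = g (UO.ι u') := Scheme.Hom.comp_apply _ _ _
    have e2 : (UO.ι ≫ g) u1 = g (UO.ι u1) := Scheme.Hom.comp_apply _ _ _
    have e3 : g (UO.ι u') = g u := by
      rw [← e1, he, e2, hu1]
    have h1 : UO.ι u' ∈ O := by
      have := mem_of_ι' UO u'
      rw [← hUO]
      exact this
    have h2 : UO.ι u' ∈ O ∩ g ⁻¹' {g u} := ⟨h1, e3⟩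
    rw [hOe] at h2
    have h3 : UO.ι u' = u := h2
    exact UO.ι.isOpenEmbedding.injective (h3.trans hu1.symm)
  obtain ⟨V, v, hv, h1, hh1, p, hp⟩ := pointC f hf UO.toScheme (UO.ι ≫ g) u1 hfib
  refine ⟨V, v, hv, h1 ≫ UO.ι, ?_, p, ?_⟩
  · rw [Category.assoc, hh1]
  · have : (h1 ≫ UO.ι) p = UO.ι (h1 p) := Scheme.Hom.comp_apply _ _ _
    exact this.trans ((congrArg (fun w => UO.ι w) hp).trans hu1)

/-- Condition (C) for integral morphisms which are closed embeddings topologically. -/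
theorem propC_int (f : X ⟶ Y) [IsIntegralHom f] (hf : Topology.IsClosedEmbedding f.base) :
    BigSite.PropC f := by
  intro U g _
  choose V v hv h hh hu using fun u : U => pointC' f hf U g u
  obtain ⟨h', hh', hr⟩ := cover_family f g (Sigma.desc v) (sigmaOpenCover V)
    (fun i j hij => isEmpty_pullback_sigmaι_of_ne V hij) v (fun i => Sigma.ι_desc v i) h hh
  refine ⟨∐ V, Sigma.desc v, IsZariskiLocalAtSource.sigmaDesc hv, h', hh', ?_⟩
  exact ⟨fun u => hr u (hu u)⟩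

end Groth.Agent.Lib.PropCIntH7
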