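import Mathlib
import Groth.Prelude.Def_BigSite
import Groth.Prelude.Def_SGA4b
import Groth.Agent.Lib.EtZeroDim_helper7

/-!
# Condition (C): `f_*` on sheaves of sets reflects monomorphisms and epimorphisms (helper7)
-/

set_option autoImplicit false
set_option backward.isDefEq.respectTransparency false
universe u
open CategoryTheory CategoryTheory.Limits AlgebraicGeometry Opposite TopologicalSpace

namespace Groth.Agent.Lib.PropC_helper7

open Groth.Agent.Lib.HensStalk_helper7 Groth.Agent.Lib.EtSchSite_helper7
  Groth.Agent.Lib.EtFlasque_helper7 Groth.Agent.Lib.EtHpull0_helper7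
  Groth.Agent.Lib.EtMVses_helper7 Groth.Agent.Lib.EtZeroDim_helper7

variable {X Y : Scheme.{u}} (f : X ⟶ Y)

theorem exists_bc_cover (hC : BigSite.PropC f) (U : X.Etale) :
    ∃ (A : Y.Etale) (k : (EtCoh.bc f).obj A ⟶ U), Function.Surjective k.left := by
  haveI : Etale U.hom := U.prop
  obtain ⟨V, v, hv, h, hh, hs⟩ := hC U.left U.hom
  haveI := hv
  refine ⟨Scheme.Etale.mk v, MorphismProperty.Over.homMk ((pullbackSymmetry v f).hom ≫ h)
    (by rw [Category.assoc, hh]; exact pullbackSymmetry_hom_comp_fst v f) trivial, ?_⟩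
  intro x
  obtain ⟨y, hy⟩ := hs.surj x
  refine ⟨(pullbackSymmetry v f).inv y, ?_⟩
  have e : (pullbackSymmetry v f).inv ≫ (pullbackSymmetry v f).hom ≫ h = h := by simp
  exact (congrArg (fun m : pullback f v ⟶ U.left => m y) e).trans hy

theorem reflects (hC : BigSite.PropC f) :
    (EtDesc.pushSh f).ReflectsMonomorphisms ∧ (EtDesc.pushSh f).ReflectsEpimorphisms := by
  refine ⟨⟨fun {F G} a hm => ?_⟩, ⟨fun {F G} a he => ?_⟩⟩
  · haveI := hm
    have hinj : ∀ A : Y.Etale, Function.Injective (a.hom.app (op ((EtCoh.bc f).obj A))) := by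
      intro A
      haveI : Mono ((sheafToPresheaf _ _).map ((EtDesc.pushSh f).map a)) := inferInstance
      exact (mono_iff_injective _).1 ((NatTrans.mono_iff_mono_app _).1 this (op A))
    haveI : Sheaf.IsLocallyInjective a := by
      rw [Sheaf.isLocallyInjective_iff_injective]
      intro U s s' hss
      obtain ⟨A, k, hk⟩ := exists_bc_cover f hC U.unop
      have h1 : F.obj.map k.op s = F.obj.map k.op s' := by
        apply hinj A
        have n1 : a.hom.app (op ((EtCoh.bc f).obj A)) (F.obj.map k.op s) =
            G.obj.map k.op (a.hom.app U s) := NatTrans.naturality_apply a.hom k.op s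
        have n2 : a.hom.app (op ((EtCoh.bc f).obj A)) (F.obj.map k.op s') =
            G.obj.map k.op (a.hom.app U s') := NatTrans.naturality_apply a.hom k.op s'
        exact n1.trans ((congrArg (G.obj.map k.op) hss).trans n2.symm)
      have hF : Presieve.IsSheaf X.smallEtaleTopology F.obj :=
        (isSheaf_iff_isSheaf_of_type _ _).1 F.2
      have hR : Sieve.generate (Presieve.singleton k) ∈ X.smallEtaleTopology U.unop := by
        apply sieve_mem_of_forall_exists
        intro w
        obtain ⟨y, hy⟩ := hk w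
        exact ⟨_, k, ⟨_, 𝟙 _, k, Presieve.singleton.mk, Category.id_comp _⟩, y, hy⟩
      refine (hF _ hR).isSeparatedFor.ext ?_
      rintro Y' g ⟨W, m, _, ⟨⟩, rfl⟩
      rw [op_comp, CategoryTheory.FunctorToTypes.map_comp_apply, CategoryTheory.FunctorToTypes.map_comp_apply, h1]
    exact Sheaf.mono_of_isLocallyInjective a
  · haveI hls : Sheaf.IsLocallySurjective ((EtDesc.pushSh f).map a) :=
      (Sheaf.isLocallySurjective_iff_epi _).2 he
    haveI : Sheaf.IsLocallySurjective a := by
      refine ⟨fun {U} t => ?_⟩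
      obtain ⟨A, k, hk⟩ := exists_bc_cover f hC U
      have hmem := hls.imageSieve_mem (U := A) (G.obj.map k.op t)
      apply sieve_mem_of_forall_exists
      intro w
      obtain ⟨y, hy⟩ := hk w
      have hmem' := (EtCoh.coverPreserving_bc f).cover_preserve hmem
      obtain ⟨B', m, hm, y', hy'⟩ := exists_of_mem _ hmem' y
      obtain ⟨A', g, n, hg, rfl⟩ := hm
      obtain ⟨σ, hσ⟩ := hg
      have hσ' : a.hom.app (op ((EtCoh.bc f).obj A')) σ =
          G.obj.map ((EtCoh.bc f).map g).op (G.obj.map k.op t) := hσ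
      refine ⟨B', n ≫ (EtCoh.bc f).map g ≫ k, ⟨F.obj.map n.op σ, ?_⟩, y', ?_⟩
      · rw [NatTrans.naturality_apply, hσ']
        simp only [op_comp, CategoryTheory.FunctorToTypes.map_comp_apply]
      · show k.left ((n ≫ (EtCoh.bc f).map g).left y') = w
        rw [hy']
        exact hy
    exact (Sheaf.isLocallySurjective_iff_epi a).1 inferInstance

end Groth.Agent.Lib.PropC_helper7
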