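import Mathlib
import Groth.Agent.Lib.SchemeIdem_helper3
import Groth.Agent.Lib.NoethLocConn_helper7

set_option autoImplicit false
set_option linter.style.haveILetI false
set_option linter.unusedSectionVars false

universe u

open CategoryTheory CategoryTheory.Limits AlgebraicGeometry

namespace Groth.Agent.Lib.PropConnFibH4

/-- Over an Artinian ring, basic opens of the spectrum of an integral algebra are clopen. -/
theorem isClopen_basicOpen_of_isIntegral {R₀ A : Type u} [CommRing R₀] [IsArtinianRing R₀]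
    [CommRing A] (φ : R₀ →+* A) (hφ : φ.IsIntegral) (f : A) :
    IsClopen (PrimeSpectrum.basicOpen f : Set (PrimeSpectrum A)) := by
  letI : Algebra R₀ A := φ.toAlgebra
  have hf : IsIntegral R₀ f := hφ f
  let B : Subalgebra R₀ A := Algebra.adjoin R₀ {f}
  haveI : Module.Finite R₀ B := Algebra.finite_adjoin_simple_of_isIntegral hf
  haveI : IsArtinianRing B := IsArtinianRing.of_finite R₀ B
  let fB : B := ⟨f, Algebra.subset_adjoin (Set.mem_singleton f)⟩
  have hcl : IsClopen (PrimeSpectrum.basicOpen fB : Set (PrimeSpectrum B)) := isClopen_discrete _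
  have hpre : (PrimeSpectrum.comap B.val.toRingHom) ⁻¹'
      (PrimeSpectrum.basicOpen fB : Set (PrimeSpectrum B)) =
      (PrimeSpectrum.basicOpen f : Set (PrimeSpectrum A)) := by
    ext p
    exact Iff.rfl
  rw [← hpre]
  exact hcl.preimage (PrimeSpectrum.continuous_comap B.val.toRingHom)

set_option maxHeartbeats 1600000 in
/-- For a proper scheme over a field, the fibre of the affinisation map through a point lying
under a one-point scheme is the connected component of that point. -/
theorem aux (k : Type u) [Field k] {X P : Scheme.{u}} (f : X ⟶ Spec (CommRingCat.of k))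
    [IsProper f] [Subsingleton P] (pt : P ⟶ X) (t : P) :
    Set.range ⇑(pullback.fst X.toSpecΓ (pt ≫ X.toSpecΓ)).base =
      connectedComponent (pt.base t) := by
  haveI : IsLocallyNoetherian X := LocallyOfFiniteType.isLocallyNoetherian f
  haveI : LocallyConnectedSpace X := by
    apply Groth.Agent.Lib.NoethLocConnH7.locallyConnectedSpace
    intro x
    obtain ⟨_, ⟨W, hW : IsAffineOpen W, rfl⟩, hxW, -⟩ :=
      (X.isBasis_affineOpens).exists_subset_of_mem_open (Set.mem_univ x) isOpen_univ
    haveI : IsNoetherianRing Γ(X, W) := IsLocallyNoetherian.component_noetherian ⟨W, hW⟩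
    haveI : TopologicalSpace.NoetherianSpace W := noetherianSpace_of_isAffineOpen W hW
    exact ⟨(W : Set X), W.isOpen.mem_nhds hxW,
      inferInstanceAs (TopologicalSpace.NoetherianSpace W)⟩
  obtain ⟨e₀, he₀⟩ : ∃ e₀ : X, e₀ = pt.base t := ⟨_, rfl⟩
  rw [← he₀]
  let τf : X → PrimeSpectrum Γ(X, ⊤) := fun x => X.toSpecΓ.base x
  have hτc : Continuous τf := X.toSpecΓ.continuous
  have hcomp : ∀ s : P, (pt ≫ X.toSpecΓ).base s = X.toSpecΓ.base (pt.base s) := fun s => rfl
  have hL : Set.range ⇑(pullback.fst X.toSpecΓ (pt ≫ X.toSpecΓ)).base =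
      {x | τf x = τf e₀} := by
    have h1 : Set.range ⇑(pullback.fst X.toSpecΓ (pt ≫ X.toSpecΓ)).base =
        ⇑X.toSpecΓ.base ⁻¹' Set.range ⇑(pt ≫ X.toSpecΓ).base :=
      Scheme.Pullback.range_fst (f := X.toSpecΓ) (g := pt ≫ X.toSpecΓ)
    rw [h1]
    ext x
    constructor
    · rintro ⟨s, hs⟩
      have hst : s = t := Subsingleton.elim _ _
      rw [hst, hcomp, ← he₀] at hs
      exact hs.symm
    · intro hx
      refine ⟨t, ?_⟩
      rw [hcomp, ← he₀]
      exact hx.symm
  have hint : (f.appTop).hom.IsIntegral := isIntegral_appTop_of_universallyClosed f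
  have hsurj : Function.Surjective (Scheme.ΓSpecIso (CommRingCat.of k)).inv.hom :=
    (ConcreteCategory.bijective_of_isIso (Scheme.ΓSpecIso (CommRingCat.of k)).inv).2
  have hφ : ((f.appTop).hom.comp (Scheme.ΓSpecIso (CommRingCat.of k)).inv.hom).IsIntegral :=
    RingHom.IsIntegral.trans _ _ (RingHom.isIntegral_of_surjective _ hsurj) hint
  have hC : IsClopen (connectedComponent e₀) :=
    ⟨isClosed_connectedComponent, isOpen_connectedComponent⟩
  obtain ⟨ε, hε, hεC⟩ := Groth.Agent.Lib.SchemeIdemH3.exists_idem_of_isClopen X _ hC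
  have hpre : ∀ x : X, x ∈ connectedComponent e₀ ↔
      τf x ∈ (PrimeSpectrum.basicOpen ε : Set (PrimeSpectrum Γ(X, ⊤))) := by
    intro x
    rw [← hεC]
    have h := Scheme.toSpecΓ_preimage_basicOpen X ε
    constructor
    · intro hx
      have h2 : x ∈ X.toSpecΓ ⁻¹ᵁ PrimeSpectrum.basicOpen ε := by rw [h]; exact hx
      exact h2
    · intro hx
      have h2 : x ∈ X.toSpecΓ ⁻¹ᵁ PrimeSpectrum.basicOpen ε := hx
      rw [h] at h2
      exact h2
  rw [hL]
  ext x
  constructor
  · intro hx
    have hx' : τf x = τf e₀ := hx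
    rw [hpre, hx', ← hpre]
    exact mem_connectedComponent
  · intro hx
    show τf x = τf e₀
    by_contra hne
    obtain ⟨g, hg⟩ : ∃ g : Γ(X, ⊤), ¬ (g ∈ (τf x).asIdeal ↔ g ∈ (τf e₀).asIdeal) := by
      by_contra hall
      push_neg at hall
      exact hne (PrimeSpectrum.ext (Ideal.ext hall))
    have hcl := isClopen_basicOpen_of_isIntegral _ hφ g
    have hcl' : IsClopen (τf ⁻¹' (PrimeSpectrum.basicOpen g : Set (PrimeSpectrum Γ(X, ⊤)))) :=
      hcl.preimage hτc
    by_cases hgx : g ∈ (τf x).asIdeal
    · have hge : g ∉ (τf e₀).asIdeal := fun h => hg ⟨fun _ => h, fun _ => hgx⟩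
      have hsub := hcl'.connectedComponent_subset
        (show e₀ ∈ τf ⁻¹' (PrimeSpectrum.basicOpen g : Set (PrimeSpectrum Γ(X, ⊤))) from hge)
      exact (hsub hx) hgx
    · have hge : g ∈ (τf e₀).asIdeal := by
        by_contra h
        exact hg ⟨fun h' => absurd h' hgx, fun h' => absurd h' h⟩
      have hxC : connectedComponent x = connectedComponent e₀ := (connectedComponent_eq hx).symm
      have hsub := hcl'.connectedComponent_subset
        (show x ∈ τf ⁻¹' (PrimeSpectrum.basicOpen g : Set (PrimeSpectrum Γ(X, ⊤))) from hgx)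
      rw [hxC] at hsub
      exact (hsub mem_connectedComponent) hge

end Groth.Agent.Lib.PropConnFibH4
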