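import Mathlib
import Groth.Agent.Lib.CatHtBot_helper8
import Groth.Agent.Lib.SchFT_helper8
import Groth.Agent.Lib.CartDim_helper8
import Groth.Agent.Lib.Cart2_helper8
set_option autoImplicit false
open AlgebraicGeometry CategoryTheory CategoryTheory.Limits TopologicalSpace
universe u
namespace PropIntH8
open Groth.Agent.SchFTH8

theorem exists_bot_of_irreducible {X : Scheme.{u}} [IrreducibleSpace X] {U : X.Opens}
    (hU : IsAffineOpen U) (hne : (U : Set X).Nonempty) :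
    ∃ p0 : PrimeSpectrum Γ(X, U), ∀ q, p0 ≤ q := by
  have hη : genericPoint X ∈ U := by
    have := ((genericPoint_spec X).mem_open_set_iff U.2).mpr (by simpa using hne)
    exact this
  refine ⟨hU.primeIdealOf ⟨genericPoint X, hη⟩, fun q => ?_⟩
  have hq := fromSpec_mem hU q
  rw [← primeIdealOf_fromSpec hU q hq, ← specializes_iff_primeIdealOf_le hU _ _ hη hq]
  exact genericPoint_specializes _

theorem exists_bot_stalk {X : Scheme.{u}} [IrreducibleSpace X] (x : X) :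
    ∃ p0 : PrimeSpectrum (X.presheaf.stalk x), ∀ q, p0 ≤ q := by
  obtain ⟨_, ⟨U, hU : IsAffineOpen U, rfl⟩, hxU, -⟩ :=
    (X.isBasis_affineOpens).exists_subset_of_mem_open (Set.mem_univ x) isOpen_univ
  obtain ⟨p0, hp0⟩ := exists_bot_of_irreducible hU ⟨x, hxU⟩
  letI : Algebra Γ(X, U) (X.presheaf.stalk x) :=
    TopCat.Presheaf.algebra_section_stalk X.presheaf (⟨x, hxU⟩ : U)
  haveI : IsLocalization.AtPrime (X.presheaf.stalk x) (hU.primeIdealOf ⟨x, hxU⟩).asIdeal :=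
    hU.isLocalization_stalk ⟨x, hxU⟩
  let e := IsLocalization.primeSpectrumOrderIso (hU.primeIdealOf ⟨x, hxU⟩).asIdeal.primeCompl
    (X.presheaf.stalk x)
  have hd : Disjoint ((hU.primeIdealOf ⟨x, hxU⟩).asIdeal.primeCompl : Set Γ(X, U))
      (p0.asIdeal : Set Γ(X, U)) := by
    rw [Set.disjoint_left]
    intro a ha ha'
    exact ha (hp0 _ ha')
  refine ⟨e.symm ⟨p0, hd⟩, fun q => ?_⟩
  rw [OrderIso.symm_apply_le]
  exact hp0 _

theorem mem_support_of_mem_primeIdealOf {X : Scheme.{u}} (I : X.IdealSheafData)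
    (U : X.affineOpens) (f : Γ(X, U.1)) (hI : I.ideal U = Ideal.span {f}) (x : X) (hx : x ∈ U.1)
    (hf : f ∈ (U.2.primeIdealOf ⟨x, hx⟩).asIdeal) : x ∈ I.support := by
  rw [Scheme.IdealSheafData.mem_support_iff_of_mem hx, Scheme.mem_zeroLocus_iff]
  intro g hg
  rw [← CartDimH8.mem_primeIdealOf_iff U.2 x hx g]
  have : (I.ideal U) ≤ (U.2.primeIdealOf ⟨x, hx⟩).asIdeal := by
    rw [hI, Ideal.span_le, Set.singleton_subset_iff]
    exact hf
  exact this hg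


theorem dim_stalk_eq_succ {X : Scheme.{u}} [IsLocallyNoetherian X] [IrreducibleSpace X]
    (hcat : ∀ x : X, CAlg.IsCatenary (X.presheaf.stalk x))
    (𝓘 : X.IdealSheafData) (hY : BlowUp.IsEffCartierIdeal 𝓘) (z ζ : X) (hzζ : z ⤳ ζ)
    (hζ : ζ ∈ 𝓘.support) (hz : z ∉ 𝓘.support)
    (hmin : ∀ ζ' : X, ζ' ∈ 𝓘.support → z ⤳ ζ' → ζ' ⤳ ζ → ζ' = ζ) :
    ringKrullDim (X.presheaf.stalk ζ) = ringKrullDim (X.presheaf.stalk z) + 1 := by
  obtain ⟨U, hζU, f, hf, hI⟩ := hY ζ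
  have hU : IsAffineOpen U.1 := U.2
  have hzU : z ∈ U.1 := hzζ.mem_open U.1.2 hζU
  haveI : IsNoetherianRing Γ(X, U.1) := IsLocallyNoetherian.component_noetherian U
  obtain ⟨P, hP⟩ : ∃ P, P = hU.primeIdealOf ⟨ζ, hζU⟩ := ⟨_, rfl⟩
  obtain ⟨Q, hQ⟩ : ∃ Q, Q = hU.primeIdealOf ⟨z, hzU⟩ := ⟨_, rfl⟩
  haveI := P.2
  haveI := Q.2
  have hQP : Q.asIdeal ≤ P.asIdeal := by
    rw [hP, hQ]
    exact (specializes_iff_primeIdealOf_le hU z ζ hzU hζU).mp hzζ
  have hfP : f ∈ P.asIdeal := by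
    rw [hP]
    apply CartDimH8.ideal_le_primeIdealOf_of_mem_support 𝓘 U ζ hζU hζ
    rw [hI]
    exact Ideal.subset_span rfl
  have hfQ : f ∉ Q.asIdeal := by
    intro hc
    rw [hQ] at hc
    exact hz (mem_support_of_mem_primeIdealOf 𝓘 U f hI z hzU hc)
  have hmin' : ∀ P' : Ideal Γ(X, U.1), P'.IsPrime → Q.asIdeal ≤ P' → f ∈ P' → P' ≤ P.asIdeal →
      P' = P.asIdeal := by
    intro P' hP' hQP' hfP' hP'P
    have hmem := fromSpec_mem hU ⟨P', hP'⟩
    have hpr := primeIdealOf_fromSpec hU ⟨P', hP'⟩ hmem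
    have h1 : hU.fromSpec ⟨P', hP'⟩ ∈ 𝓘.support := by
      apply mem_support_of_mem_primeIdealOf 𝓘 U f hI _ hmem
      rw [hpr]
      exact hfP'
    have h2 : z ⤳ hU.fromSpec ⟨P', hP'⟩ := by
      rw [specializes_iff_primeIdealOf_le hU _ _ hzU hmem, hpr, ← hQ]
      exact hQP'
    have h3 : hU.fromSpec ⟨P', hP'⟩ ⤳ ζ := by
      rw [specializes_iff_primeIdealOf_le hU _ _ hmem hζU, hpr, ← hP]
      exact hP'P
    have h4 := hmin _ h1 h2 h3
    have h5 : hU.primeIdealOf ⟨hU.fromSpec ⟨P', hP'⟩, hmem⟩ = hU.primeIdealOf ⟨ζ, hζU⟩ := by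
      congr 1
      exact Subtype.ext h4
    rw [hpr, ← hP] at h5
    exact congrArg PrimeSpectrum.asIdeal h5
  letI : Algebra Γ(X, U.1) (X.presheaf.stalk ζ) :=
    TopCat.Presheaf.algebra_section_stalk X.presheaf (⟨ζ, hζU⟩ : U.1)
  haveI : IsLocalization.AtPrime (X.presheaf.stalk ζ) P.asIdeal := by
    subst hP
    exact hU.isLocalization_stalk ⟨ζ, hζU⟩
  obtain ⟨p0, hp0⟩ := exists_bot_stalk ζ
  letI : OrderBot (PrimeSpectrum (X.presheaf.stalk ζ)) := { bot := p0, bot_le := hp0 }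
  have hd : Disjoint (P.asIdeal.primeCompl : Set Γ(X, U.1)) (P.asIdeal : Set Γ(X, U.1)) := by
    rw [Set.disjoint_left]
    intro a ha ha'
    exact ha ha'
  have key := Groth.Agent.CatHtBotH8.height_eq_succ P.asIdeal.primeCompl (X.presheaf.stalk ζ)
    (hcat ζ) Q.asIdeal P.asIdeal hQP hd f hfP hfQ hmin'
  rw [ringKrullDim_stalk_eq_height hU ζ hζU, ringKrullDim_stalk_eq_height hU z hzU, ← hP, ← hQ,
    key]
  push_cast
  rfl

theorem iInf_dim_support_eq_one {X : Scheme.{u}} [IsLocallyNoetherian X]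
    (𝓘 : X.IdealSheafData) (hY : BlowUp.IsEffCartierIdeal 𝓘) (ζ : X) (hζ : ζ ∈ 𝓘.support) :
    (⨅ y : (𝓘.support : Set X), ringKrullDim (X.presheaf.stalk y.1)) = 1 := by
  apply le_antisymm
  · obtain ⟨U, hζU, f, hf, hI⟩ := hY ζ
    have hU : IsAffineOpen U.1 := U.2
    haveI : IsNoetherianRing Γ(X, U.1) := IsLocallyNoetherian.component_noetherian U
    have hfP : Ideal.span {f} ≤ (hU.primeIdealOf ⟨ζ, hζU⟩).asIdeal := by
      rw [← hI]
      exact CartDimH8.ideal_le_primeIdealOf_of_mem_support 𝓘 U ζ hζU hζ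
    obtain ⟨P', hP'min, hP'le⟩ := Ideal.exists_minimalPrimes_le hfP
    have hP' : P'.IsPrime := hP'min.1.1
    have hmem := fromSpec_mem hU ⟨P', hP'⟩
    have hpr := primeIdealOf_fromSpec hU ⟨P', hP'⟩ hmem
    have h1 : hU.fromSpec ⟨P', hP'⟩ ∈ 𝓘.support := by
      apply mem_support_of_mem_primeIdealOf 𝓘 U f hI _ hmem
      rw [hpr]
      exact hP'min.1.2 (Ideal.subset_span rfl)
    refine iInf_le_of_le ⟨hU.fromSpec ⟨P', hP'⟩, h1⟩ ?_
    rw [ringKrullDim_stalk_eq_height hU _ hmem, hpr]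
    have := Ideal.height_le_one_of_isPrincipal_of_mem_minimalPrimes (Ideal.span {f}) P' hP'min
    exact_mod_cast this
  · refine le_iInf ?_
    rintro ⟨y, hy⟩
    obtain ⟨U, hyU, f, hf, hI⟩ := hY y
    have hU : IsAffineOpen U.1 := U.2
    rw [ringKrullDim_stalk_eq_height hU y hyU]
    have hfP : f ∈ (hU.primeIdealOf ⟨y, hyU⟩).asIdeal := by
      apply CartDimH8.ideal_le_primeIdealOf_of_mem_support 𝓘 U y hyU hy
      rw [hI]
      exact Ideal.subset_span rfl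
    haveI := (hU.primeIdealOf ⟨y, hyU⟩).2
    have hne : (hU.primeIdealOf ⟨y, hyU⟩).asIdeal.height ≠ 0 := by
      intro h0
      rw [Ideal.height_eq_zero_iff] at h0
      exact Set.disjoint_left.mp (Ideal.disjoint_nonZeroDivisors_of_mem_minimalPrimes h0) hfP hf
    have : (1 : ℕ∞) ≤ (hU.primeIdealOf ⟨y, hyU⟩).asIdeal.height :=
      Order.one_le_iff_ne_zero.mpr hne
    exact_mod_cast this

end PropIntH8
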