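import Mathlib
import Groth.Agent.Lib.ClImmNhd_helper4

/-!
# Morphisms proper over a neighbourhood of their image (helper4)
-/

set_option autoImplicit false
universe u
set_option linter.style.haveILetI false

open CategoryTheory CategoryTheory.Limits AlgebraicGeometry TopologicalSpace

namespace Groth.Agent.Lib.ProperAtH4

open Groth.Agent.Lib.ClImmNhdH4

variable {X Y : Scheme.{u}}

theorem isIso_preimage_ι (f : X ⟶ Y) (U : Y.Opens) (h : ∀ x : X, f x ∈ U) :
    IsIso (f ⁻¹ᵁ U).ι :=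
  (isIso_iff_isOpenImmersion_and_surjective _).mpr
    ⟨inferInstance, ⟨fun x => ⟨⟨x, h x⟩, rfl⟩⟩⟩

theorem mem_of_fac (f : X ⟶ Y) (U : Y.Opens) (φ : X ⟶ U.toScheme) (hφ : φ ≫ U.ι = f) (x : X) :
    f x ∈ U := by
  subst hφ
  rw [Scheme.Hom.comp_apply]
  exact (φ x).2

theorem isProper_restrict_iff_of_fac (f : X ⟶ Y) (U : Y.Opens) (φ : X ⟶ U.toScheme)
    (hφ : φ ≫ U.ι = f) : IsProper (f ∣_ U) ↔ IsProper φ := by
  haveI := isIso_preimage_ι f U (mem_of_fac f U φ hφ)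
  have e : f ∣_ U = (f ⁻¹ᵁ U).ι ≫ φ := by
    rw [← cancel_mono U.ι, morphismRestrict_ι, Category.assoc, hφ]
  rw [e]
  exact MorphismProperty.cancel_left_of_respectsIso @IsProper (f ⁻¹ᵁ U).ι φ

theorem main3460 (f : X ⟶ Y) :
    (∃ (Z : Scheme.{u}) (g : X ⟶ Z) (h : Z ⟶ Y), IsProper g ∧ IsImmersion h ∧ g ≫ h = f) ↔
      ∀ x : X, ∃ U : Y.Opens, f.base x ∈ U ∧ IsProper (f ∣_ U) := by
  constructor
  · rintro ⟨Z, g, h, hg, hh, hgh⟩ x
    haveI := hg
    haveI := hh
    have hφ : (g ≫ h.liftCoborder) ≫ h.coborderRange.ι = f := by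
      rw [Category.assoc, Scheme.Hom.liftCoborder_ι, hgh]
    exact ⟨h.coborderRange, mem_of_fac f _ _ hφ x,
      (isProper_restrict_iff_of_fac f _ _ hφ).mpr inferInstance⟩
  · intro H
    choose U hU hP using H
    obtain ⟨W, hW⟩ : ∃ W : Y.Opens, W = ⨆ x, U x := ⟨_, rfl⟩
    have hle : ∀ x, U x ≤ W := fun x => by rw [hW]; exact le_iSup U x
    have hPW : IsProper (f ∣_ W) := by
      refine restrict_of_forall_exists (P := @IsProper) f W fun a ha => ?_
      rw [hW, TopologicalSpace.Opens.mem_iSup] at ha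
      obtain ⟨x, hx⟩ := ha
      exact ⟨U x, hx, hP x⟩
    have hrange : Set.range f ⊆ Set.range W.ι := by
      rw [Scheme.Opens.range_ι]
      rintro _ ⟨x, rfl⟩
      exact hle x (hU x)
    refine ⟨W.toScheme, IsOpenImmersion.lift W.ι f hrange, W.ι, ?_, inferInstance,
      IsOpenImmersion.lift_fac _ _ _⟩
    exact (isProper_restrict_iff_of_fac f W _ (IsOpenImmersion.lift_fac _ _ _)).mp hPW

end Groth.Agent.Lib.ProperAtH4
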