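import Mathlib

set_option autoImplicit false
universe u
open CategoryTheory CategoryTheory.Limits AlgebraicGeometry

namespace Groth.Agent.Lib.ProperDescentH7

/-- Separatedness descends along a quasi-compact flat surjective base change. -/
theorem isSeparated_of_pullback_snd {X Y Y' : Scheme.{u}} (f : X ⟶ Y) (g : Y' ⟶ Y) [QuasiCompact g]
    [Flat g] [Surjective g] (hP : IsSeparated (pullback.snd f g)) : IsSeparated f := by
  have hq : (@Surjective ⊓ @Flat ⊓ @QuasiCompact : MorphismProperty Scheme.{u}) g :=
    ⟨⟨‹_›, ‹_›⟩, ‹_›⟩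
  have h3 : (MorphismProperty.diagonal @UniversallyClosed) f :=
    MorphismProperty.of_pullback_snd_of_descendsAlong
      (P := MorphismProperty.diagonal @UniversallyClosed)
      (Q := @Surjective ⊓ @Flat ⊓ @QuasiCompact) hq
      (show UniversallyClosed (pullback.diagonal (pullback.snd f g)) from inferInstance)
  have h3' : UniversallyClosed (pullback.diagonal f) := h3
  constructor
  exact IsClosedImmersion.of_isPreimmersion _ (pullback.diagonal f).isClosedMap.isClosed_range

/-- Properness descends along a quasi-compact flat surjective base change. -/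
theorem isProper_of_pullback_snd {X Y Y' : Scheme.{u}} (f : X ⟶ Y) (g : Y' ⟶ Y) [QuasiCompact g]
    [Flat g] [Surjective g] (hP : IsProper (pullback.snd f g)) : IsProper f := by
  have hq : (@Surjective ⊓ @Flat ⊓ @QuasiCompact : MorphismProperty Scheme.{u}) g :=
    ⟨⟨‹_›, ‹_›⟩, ‹_›⟩
  have h1 : UniversallyClosed f :=
    MorphismProperty.of_pullback_snd_of_descendsAlong (P := @UniversallyClosed)
      (Q := @Surjective ⊓ @Flat ⊓ @QuasiCompact) hq inferInstance
  have h2 : LocallyOfFiniteType f :=
    MorphismProperty.of_pullback_snd_of_descendsAlong (P := @LocallyOfFiniteType)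
      (Q := @Surjective ⊓ @Flat ⊓ @QuasiCompact) hq inferInstance
  have h4 : IsSeparated f := isSeparated_of_pullback_snd f g inferInstance
  exact { }

/-- Separatedness can be checked after precomposing with a surjective closed immersion. -/
theorem isSeparated_of_surjective_isClosedImmersion_comp {T W S : Scheme.{u}} (ℓ : T ⟶ W)
    (ψ : W ⟶ S) [IsClosedImmersion ℓ] [Surjective ℓ] [IsSeparated (ℓ ≫ ψ)] : IsSeparated ψ := by
  constructor
  apply IsClosedImmersion.of_isPreimmersion
  let m := pullback.map (ℓ ≫ ψ) (ℓ ≫ ψ) ψ ψ ℓ ℓ (𝟙 S) (by simp) (by simp)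
  have hm : IsClosedImmersion m :=
    MorphismProperty.pullbackMap (P := @IsClosedImmersion) ‹_› ‹_› rfl rfl
  have hnat : ℓ ≫ pullback.diagonal ψ = pullback.diagonal (ℓ ≫ ψ) ≫ m := by
    apply pullback.hom_ext
    · simp only [m, pullback.map, Category.assoc, pullback.lift_fst, pullback.diagonal_fst,
        Category.comp_id, pullback.diagonal_fst_assoc]
    · simp only [m, pullback.map, Category.assoc, pullback.lift_snd, pullback.diagonal_snd,
        Category.comp_id, pullback.diagonal_snd_assoc]
  have hr : Set.range (pullback.diagonal ψ) = m '' Set.range (pullback.diagonal (ℓ ≫ ψ)) := by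
    ext x
    constructor
    · rintro ⟨w, rfl⟩
      obtain ⟨t, rfl⟩ := ℓ.surjective w
      refine ⟨pullback.diagonal (ℓ ≫ ψ) t, ⟨t, rfl⟩, ?_⟩
      rw [← Scheme.Hom.comp_apply, ← hnat, Scheme.Hom.comp_apply]
    · rintro ⟨_, ⟨t, rfl⟩, rfl⟩
      refine ⟨ℓ t, ?_⟩
      rw [← Scheme.Hom.comp_apply, hnat, Scheme.Hom.comp_apply]
  rw [hr]
  exact m.isClosedEmbedding.isClosedMap _
    (pullback.diagonal (ℓ ≫ ψ)).isClosedEmbedding.isClosed_range

end Groth.Agent.Lib.ProperDescentH7
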