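import Groth.Agent.Lib.IsogKernel_lead
import Groth.Agent.Lib.TorsorProp_helper7

/-! # Properness of a homomorphism from properness on the kernel of a proper quotient (lead) -/

set_option backward.isDefEq.respectTransparency false
set_option backward.isDefEq.respectTransparency.types false
set_option linter.unusedSimpArgs false
set_option linter.unusedVariables false
set_option linter.unusedSectionVars false
set_option linter.style.longLine false
set_option linter.style.haveILetI false
set_option maxHeartbeats 800000

universe u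

open CategoryTheory CategoryTheory.Limits MonoidalCategory CartesianMonoidalCategory MonObj GrpObj
  AlgebraicGeometry Opposite Topology

namespace Groth.Agent.Lib.ProperKer

open Groth.Agent.Lib.AssocBundle Groth.Agent.Lib.IsogKernel Groth.Agent.Lib.TorsorProp_helper7

variable {S : Scheme.{u}}

/-- properness descends along fpqc covers -/
theorem isProper_descends :
    MorphismProperty.DescendsAlong (@IsProper)
      (@Surjective ⊓ @Flat ⊓ @QuasiCompact : MorphismProperty Scheme.{u}) where
  of_isPullback {A X Y Z fst snd f g} h hf hfst := by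
    haveI : IsProper fst := hfst
    haveI := isSeparated_descends.{u}
    have hsep : IsSeparated g :=
      MorphismProperty.of_isPullback_of_descendsAlong (P := @IsSeparated) h hf inferInstance
    have huc : UniversallyClosed g :=
      MorphismProperty.of_isPullback_of_descendsAlong (P := @UniversallyClosed) h hf inferInstance
    have hlft : LocallyOfFiniteType g :=
      MorphismProperty.of_isPullback_of_descendsAlong (P := @LocallyOfFiniteType) h hf
        inferInstance
    exact {}

section main

variable {G G' G'' H : Over S} [GrpObj G] [GrpObj G''] [GrpObj H]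
  (p : G ⟶ G'') [IsMonHom p] (i : G' ⟶ G) (hker : AlgGrp.IsKernel i p)
  (u : G ⟶ H) [IsMonHom u]

/-- `(n, g) ↦ i(n) g` -/
noncomputable def cc : G' ⊗ G ⟶ G := (i ▷ G) ≫ μ[G]

/-- `(n, g) ↦ (u(i(n) g), g)` -/
noncomputable def ww : G' ⊗ G ⟶ H ⊗ G := lift (cc i ≫ u) (snd G' G)

/-- `(h, g) ↦ h u(g)⁻¹` -/
noncomputable def dd : H ⊗ G ⟶ H := fst H G * (snd H G ≫ u)⁻¹

theorem cc_pt {T : Over S} (n : T ⟶ G') (b : T ⟶ G) : lift n b ≫ cc i = (n ≫ i) * b :=
  act_pt i n b

theorem ww_pt {T : Over S} (n : T ⟶ G') (b : T ⟶ G) :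
    lift n b ≫ ww i u = lift (((n ≫ i) * b) ≫ u) b := by
  unfold ww
  rw [comp_lift, ← Category.assoc, cc_pt, lift_snd]

theorem dd_pt {T : Over S} (a : T ⟶ H) (b : T ⟶ G) :
    lift a b ≫ dd u = a * (b ≫ u)⁻¹ := by
  unfold dd
  rw [MonObj.comp_mul, GrpObj.comp_inv, ← Category.assoc, lift_fst, lift_snd]

theorem ww_snd {T : Over S} (l : T ⟶ G' ⊗ G) : (l ≫ ww i u) ≫ snd H G = l ≫ snd G' G := by
  unfold ww
  rw [Category.assoc, lift_snd]

/-- the second square: `ww` is a base change of `i ≫ u` -/
theorem sq2 : IsPullback (fst G' G) (ww i u) (i ≫ u) (dd u) := by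
  have key : ∀ {T : Over S} (n : T ⟶ G') (b : T ⟶ G),
      lift n b ≫ ww i u ≫ dd u = n ≫ i ≫ u := by
    intro T n b
    rw [← Category.assoc, ww_pt, dd_pt, MonObj.mul_comp, _root_.mul_inv_cancel_right,
      Category.assoc]
  apply isPullback_of_exists_unique
  · have e : ww i u ≫ dd u = lift (fst G' G) (snd G' G) ≫ ww i u ≫ dd u := by
      rw [lift_fst_snd, Category.id_comp]
    rw [e, key]
  · intro T n a han
    refine ⟨lift n (a ≫ snd H G), lift_fst _ _, ?_⟩
    rw [ww_pt]
    have h1 : a ≫ dd u = (a ≫ fst H G) * ((a ≫ snd H G) ≫ u)⁻¹ := by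
      have := dd_pt u (a ≫ fst H G) (a ≫ snd H G)
      rwa [← lift_eta a] at this
    have h2 : a ≫ fst H G = (n ≫ i ≫ u) * ((a ≫ snd H G) ≫ u) := by
      rw [han, h1, _root_.inv_mul_cancel_right]
    apply CartesianMonoidalCategory.hom_ext
    · rw [lift_fst, h2, MonObj.mul_comp, Category.assoc]
    · rw [lift_snd]
  · intro T l l' h1 h2
    have h3 : l ≫ snd G' G = l' ≫ snd G' G := by
      rw [← ww_snd i u l, ← ww_snd i u l', h2]
    exact CartesianMonoidalCategory.hom_ext _ _ h1 h3

include hker in
/-- the first square: `ww` is the base change of `(u, p)` along `H ◁ p` -/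
theorem sq1 : IsPullback (ww i u) (cc i) (H ◁ p) (lift u p) := by
  apply isPullback_of_exists_unique
  · have key : ∀ {T : Over S} (n : T ⟶ G') (b : T ⟶ G),
        lift n b ≫ ww i u ≫ (H ◁ p) = lift n b ≫ cc i ≫ lift u p := by
      intro T n b
      rw [← Category.assoc, ww_pt, ← Category.assoc, cc_pt, lift_whiskerLeft, comp_lift]
      congr 1
      rw [MonObj.mul_comp, ker_comp i p hker, _root_.one_mul]
    have e1 : ww i u ≫ (H ◁ p) = lift (fst G' G) (snd G' G) ≫ ww i u ≫ (H ◁ p) := by
      rw [lift_fst_snd, Category.id_comp]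
    have e2 : cc i ≫ lift u p = lift (fst G' G) (snd G' G) ≫ cc i ≫ lift u p := by
      rw [lift_fst_snd, Category.id_comp]
    rw [e1, e2, key]
  · intro T a b hab
    have ha1 : a ≫ fst H G = b ≫ u := by
      have := congrArg (· ≫ fst H G'') hab
      simpa [Category.assoc] using this
    have ha2 : (a ≫ snd H G) ≫ p = b ≫ p := by
      have := congrArg (· ≫ snd H G'') hab
      simpa [Category.assoc] using this
    obtain ⟨n, hn⟩ := ker_diff_left i p hker b (a ≫ snd H G) ha2.symm
    refine ⟨lift n (a ≫ snd H G), ?_, ?_⟩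
    · rw [ww_pt, ← hn]
      apply CartesianMonoidalCategory.hom_ext
      · rw [lift_fst, ha1]
      · rw [lift_snd]
    · rw [cc_pt, ← hn]
  · intro T l l' h1 h2
    have h3 : l ≫ snd G' G = l' ≫ snd G' G := by
      rw [← ww_snd i u l, ← ww_snd i u l', h1]
    have e1 : l ≫ cc i = ((l ≫ fst G' G) ≫ i) * (l ≫ snd G' G) := by
      have := cc_pt i (l ≫ fst G' G) (l ≫ snd G' G)
      rwa [← lift_eta l] at this
    have e2 : l' ≫ cc i = ((l' ≫ fst G' G) ≫ i) * (l' ≫ snd G' G) := by
      have := cc_pt i (l' ≫ fst G' G) (l' ≫ snd G' G)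
      rwa [← lift_eta l'] at this
    rw [e1, e2, h3] at h2
    have h4 : (l ≫ fst G' G) ≫ i = (l' ≫ fst G' G) ≫ i := _root_.mul_right_cancel h2
    exact CartesianMonoidalCategory.hom_ext _ _ (ker_mono i p hker _ _ h4) h3

include hker in
theorem main [QuasiCompact G.hom] [IsProper G''.hom] [Surjective p.left] [Flat p.left]
    (hu : IsProper (i ≫ u).left) : IsProper u.left := by
  -- `ww` is proper
  have hw : IsProper (ww i u).left :=
    MorphismProperty.of_isPullback (P := @IsProper)
      ((sq2 i u).map (Over.forget S) :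
        IsPullback (fst G' G).left (ww i u).left (i ≫ u).left (dd u).left) hu
  -- `H ◁ p` is an fpqc cover
  haveI : QuasiCompact p.left := qc_left p
  have hcov : (@Surjective ⊓ @Flat ⊓ @QuasiCompact : MorphismProperty Scheme.{u}) (H ◁ p).left := by
    have sq := (isPullback_whiskerLeft H p).flip
    exact ⟨⟨MorphismProperty.of_isPullback (P := @Surjective) sq inferInstance,
      MorphismProperty.of_isPullback (P := @Flat) sq inferInstance⟩,
      MorphismProperty.of_isPullback (P := @QuasiCompact) sq inferInstance⟩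
  -- `(u, p)` is proper by descent
  haveI := isProper_descends.{u}
  have hv : IsProper (lift u p).left :=
    MorphismProperty.of_isPullback_of_descendsAlong (P := @IsProper)
      ((sq1 p i hker u).map (Over.forget S) :
        IsPullback (ww i u).left (cc i).left (H ◁ p).left (lift u p).left) hcov hw
  -- the projection `H × G'' → H` is proper
  have hpr : IsProper (fst H G'').left :=
    MorphismProperty.of_isPullback (P := @IsProper)
      ((IsPullback.of_hasPullback H.hom G''.hom).flip :
        IsPullback (snd H G'').left (fst H G'').left G''.hom H.hom) inferInstance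
  have e : u.left = (lift u p).left ≫ (fst H G'').left := by
    rw [← Over.comp_left, lift_fst]
  rw [e]
  infer_instance

end main

end Groth.Agent.Lib.ProperKer
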