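import Mathlib
import Groth.Agent.Lib.BezoutFP_helper3

/-!
# Flat finite type modules over valuation rings are finitely presented (helper1)
(Stacks, More on Algebra 15.25.5.)  APPEND-ONLY once landed.
-/

set_option autoImplicit false

namespace Groth.Agent.Lib.ValFPH1

universe u v

section Filt

variable {k : Type u} [CommRing k] {ι : Type v} {r : ℕ}

/-- multiplication by `x_j` on `k[x]^r`, as a `k`-linear map -/
noncomputable def mulX (j : ι) : (Fin r → MvPolynomial ι k) →ₗ[k] (Fin r → MvPolynomial ι k) :=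
  (LinearMap.lsmul (MvPolynomial ι k) (Fin r → MvPolynomial ι k)
    (MvPolynomial.X j)).restrictScalars k

theorem mulX_apply (j : ι) (w : Fin r → MvPolynomial ι k) :
    mulX j w = (MvPolynomial.X j : MvPolynomial ι k) • w := rfl

/-- `I' + Σ_j x_j I'` -/
noncomputable def up (I' : Submodule k (Fin r → MvPolynomial ι k)) :
    Submodule k (Fin r → MvPolynomial ι k) :=
  I' ⊔ ⨆ j : ι, I'.map (mulX j)

theorem le_up (I' : Submodule k (Fin r → MvPolynomial ι k)) : I' ≤ up I' := le_sup_left

theorem mulX_mem_up {I' : Submodule k (Fin r → MvPolynomial ι k)} (j : ι)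
    {w : Fin r → MvPolynomial ι k} (hw : w ∈ I') : mulX j w ∈ up I' :=
  le_sup_right (a := I') (le_iSup (fun j => I'.map (mulX j)) j (Submodule.mem_map_of_mem hw))

theorem up_le {I' J : Submodule k (Fin r → MvPolynomial ι k)} (h1 : I' ≤ J)
    (h2 : ∀ j, ∀ w ∈ I', mulX j w ∈ J) : up I' ≤ J := by
  refine sup_le h1 (iSup_le fun j => ?_)
  rintro _ ⟨w, hw, rfl⟩
  exact h2 j w hw

structure IsGoodFiltration (I : ℕ → Submodule k (Fin r → MvPolynomial ι k)) : Prop where
  mono : ∀ d, I d ≤ I (d + 1)
  mulX : ∀ d j, ∀ w ∈ I d, mulX j w ∈ I (d + 1)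
  deg : ∀ d, ∀ w ∈ I d, ∀ i, (w i).totalDegree ≤ d

namespace IsGoodFiltration

variable {I : ℕ → Submodule k (Fin r → MvPolynomial ι k)} (hI : IsGoodFiltration I)
include hI

theorem mono' {d e : ℕ} (h : d ≤ e) : I d ≤ I e :=
  monotone_nat_of_le_succ hI.mono h

theorem X_pow_smul_mem (j : ι) (n : ℕ) {e : ℕ} {w : Fin r → MvPolynomial ι k} (hw : w ∈ I e) :
    ((MvPolynomial.X j : MvPolynomial ι k) ^ n) • w ∈ I (e + n) := by
  induction n with
  | zero => rw [pow_zero, one_smul]; exact hw
  | succ n ih =>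
    rw [pow_succ', mul_smul, ← add_assoc]
    exact hI.mulX _ j _ ih

theorem monomial_smul_mem (s : ι →₀ ℕ) (a : k) {e : ℕ} {w : Fin r → MvPolynomial ι k}
    (hw : w ∈ I e) : (MvPolynomial.monomial s a) • w ∈ I (e + s.sum fun _ n => n) := by
  classical
  induction s using Finsupp.induction generalizing e w with
  | zero =>
    rw [Finsupp.sum_zero_index, add_zero]
    have h : (MvPolynomial.monomial (0 : ι →₀ ℕ) a) • w = a • w := by
      funext i
      rw [Pi.smul_apply, Pi.smul_apply, smul_eq_mul, ← MvPolynomial.C_apply, MvPolynomial.C_mul']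
    rw [h]
    exact Submodule.smul_mem _ _ hw
  | single_add j n s hj hn ih =>
    rw [MvPolynomial.monomial_single_add, mul_smul]
    have h1 := ih (e := e) hw
    have h2 := hI.X_pow_smul_mem j n h1
    have h3 : (Finsupp.single j n + s).sum (fun _ n => n) = (s.sum fun _ n => n) + n := by
      rw [Finsupp.sum_add_index' (fun _ => rfl) (fun _ _ _ => rfl),
        Finsupp.sum_single_index rfl, add_comm]
    rw [h3, ← add_assoc]
    exact h2

theorem smul_mem_of_deg {q : MvPolynomial ι k} {a : ℕ} (hq : q.totalDegree ≤ a) {b : ℕ}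
    {w : Fin r → MvPolynomial ι k} (hw : w ∈ I b) : q • w ∈ I (a + b) := by
  classical
  rw [← MvPolynomial.support_sum_monomial_coeff q, Finset.sum_smul]
  refine Submodule.sum_mem _ fun s hs => ?_
  have h1 := hI.monomial_smul_mem s (q.coeff s) hw
  refine hI.mono' ?_ h1
  have := (MvPolynomial.le_totalDegree hs).trans hq
  omega

theorem monomial_smul_mem_up (s : ι →₀ ℕ) (c : k) {a : ℕ} (ha : 1 ≤ a)
    (hs : (s.sum fun _ n => n) ≤ a) {b : ℕ} {w : Fin r → MvPolynomial ι k} (hw : w ∈ I b) :
    (MvPolynomial.monomial s c) • w ∈ up (I (a + b - 1)) := by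
  classical
  induction s using Finsupp.induction with
  | zero =>
    have h1 := hI.monomial_smul_mem (0 : ι →₀ ℕ) c hw
    rw [Finsupp.sum_zero_index, add_zero] at h1
    exact le_up _ (hI.mono' (by omega) h1)
  | single_add j n s hj hn _ =>
    obtain ⟨n', rfl⟩ := Nat.exists_eq_succ_of_ne_zero hn
    have h3 : (Finsupp.single j (n' + 1) + s).sum (fun _ n => n) =
        (s.sum fun _ n => n) + (n' + 1) := by
      rw [Finsupp.sum_add_index' (fun _ => rfl) (fun _ _ _ => rfl),
        Finsupp.sum_single_index rfl, add_comm]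
    rw [h3] at hs
    rw [MvPolynomial.monomial_single_add, pow_succ', mul_assoc, mul_smul]
    have h1 := hI.monomial_smul_mem s c hw
    have h2 := hI.X_pow_smul_mem j n' h1
    rw [← mul_smul] at h2
    have h4 : ((MvPolynomial.X j : MvPolynomial ι k) ^ n' * MvPolynomial.monomial s c) • w ∈
        I (a + b - 1) := hI.mono' (by omega) h2
    exact mulX_mem_up j h4

theorem smul_mem_up {q : MvPolynomial ι k} {a : ℕ} (ha : 1 ≤ a) (hq : q.totalDegree ≤ a) {b : ℕ}
    {w : Fin r → MvPolynomial ι k} (hw : w ∈ I b) : q • w ∈ up (I (a + b - 1)) := by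
  classical
  rw [← MvPolynomial.support_sum_monomial_coeff q, Finset.sum_smul]
  refine Submodule.sum_mem _ fun s hs => ?_
  exact hI.monomial_smul_mem_up s _ ha ((MvPolynomial.le_totalDegree hs).trans hq) hw

end IsGoodFiltration

end Filt

section Rees

variable (κ : Type u) [Field κ] (ι : Type v) [Finite ι]

/-- the Rees-type homomorphism `κ[y, t] → κ[x][t]`, `y_j ↦ x_j t`, `t ↦ t`. -/
noncomputable def θ : MvPolynomial (Option ι) κ →ₐ[κ] Polynomial (MvPolynomial ι κ) :=
  MvPolynomial.aeval (fun o : Option ι =>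
    Option.elim o (Polynomial.X) (fun j => Polynomial.C (MvPolynomial.X j) * Polynomial.X))

theorem θ_X_none : θ κ ι (MvPolynomial.X none) = Polynomial.X := by
  rw [θ, MvPolynomial.aeval_X]
  rfl

theorem θ_X_some (j : ι) :
    θ κ ι (MvPolynomial.X (some j)) = Polynomial.C (MvPolynomial.X j) * Polynomial.X := by
  rw [θ, MvPolynomial.aeval_X]
  rfl

theorem θ_C (a : κ) : θ κ ι (MvPolynomial.C a) = Polynomial.C (MvPolynomial.C a) := by
  rw [θ, MvPolynomial.aeval_C]
  rfl

theorem theta_coeff_deg (c : MvPolynomial (Option ι) κ) (a : ℕ) :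
    ((θ κ ι c).coeff a).totalDegree ≤ a := by
  induction c using MvPolynomial.induction_on generalizing a with
  | C k =>
    rw [θ_C, Polynomial.coeff_C]
    split_ifs
    · rw [MvPolynomial.totalDegree_C]; exact Nat.zero_le _
    · rw [MvPolynomial.totalDegree_zero]; exact Nat.zero_le _
  | add p q hp hq =>
    rw [map_add, Polynomial.coeff_add]
    exact (MvPolynomial.totalDegree_add _ _).trans (max_le (hp a) (hq a))
  | mul_X p o hp =>
    rw [map_mul]
    cases o with
    | none =>
      rw [θ_X_none]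
      cases a with
      | zero => rw [Polynomial.coeff_mul_X_zero, MvPolynomial.totalDegree_zero]
      | succ a => rw [Polynomial.coeff_mul_X]; exact (hp a).trans (Nat.le_succ a)
    | some j =>
      rw [θ_X_some, ← mul_assoc]
      cases a with
      | zero => rw [Polynomial.coeff_mul_X_zero, MvPolynomial.totalDegree_zero]
      | succ a =>
        rw [Polynomial.coeff_mul_X, Polynomial.coeff_mul_C]
        refine (MvPolynomial.totalDegree_mul _ _).trans ?_
        rw [MvPolynomial.totalDegree_X]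
        exact Nat.add_le_add_right (hp a) 1

theorem exists_theta_monomial (s : ι →₀ ℕ) (a : κ) (d : ℕ) (hd : (s.sum fun _ e => e) ≤ d) :
    ∃ c, θ κ ι c = Polynomial.C (MvPolynomial.monomial s a) * Polynomial.X ^ d := by
  classical
  induction s using Finsupp.induction generalizing d with
  | zero =>
    refine ⟨MvPolynomial.C a * MvPolynomial.X none ^ d, ?_⟩
    rw [map_mul, map_pow, θ_X_none, θ_C]
    rfl
  | single_add j n s hj hn ih =>
    have h3 : (Finsupp.single j n + s).sum (fun _ n => n) = (s.sum fun _ n => n) + n := by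
      rw [Finsupp.sum_add_index' (fun _ => rfl) (fun _ _ _ => rfl),
        Finsupp.sum_single_index rfl, add_comm]
    rw [h3] at hd
    obtain ⟨c, hc⟩ := ih (d - n) (by omega)
    refine ⟨c * MvPolynomial.X (some j) ^ n, ?_⟩
    rw [map_mul, hc, map_pow, θ_X_some, mul_pow, MvPolynomial.monomial_single_add,
      ← Polynomial.C_pow]
    have hdn : d = (d - n) + n := by omega
    conv_rhs => rw [hdn, pow_add, Polynomial.C_mul]
    ring

theorem exists_theta (q : MvPolynomial ι κ) (d : ℕ) (hq : q.totalDegree ≤ d) :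
    ∃ c, θ κ ι c = Polynomial.C q * Polynomial.X ^ d := by
  classical
  have h : ∀ s ∈ q.support, ∃ c, θ κ ι c =
      Polynomial.C (MvPolynomial.monomial s (q.coeff s)) * Polynomial.X ^ d :=
    fun s hs => exists_theta_monomial κ ι s _ d ((MvPolynomial.le_totalDegree hs).trans hq)
  choose! c hc using h
  refine ⟨∑ s ∈ q.support, c s, ?_⟩
  rw [map_sum, Finset.sum_congr rfl hc, ← Finset.sum_mul, ← map_sum,
    MvPolynomial.support_sum_monomial_coeff]

variable {κ ι} {r : ℕ}

/-- coefficient vectors -/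
noncomputable def coeffVec (u : Fin r → MvPolynomial (Option ι) κ) (d : ℕ) :
    Fin r → MvPolynomial ι κ := fun i => (θ κ ι (u i)).coeff d

theorem coeffVec_add (u u' : Fin r → MvPolynomial (Option ι) κ) (d : ℕ) :
    coeffVec (u + u') d = coeffVec u d + coeffVec u' d := by
  funext i
  simp only [coeffVec, Pi.add_apply, map_add, Polynomial.coeff_add]

theorem coeffVec_zero (d : ℕ) : coeffVec (0 : Fin r → MvPolynomial (Option ι) κ) d = 0 := by
  funext i
  simp only [coeffVec, Pi.zero_apply, map_zero, Polynomial.coeff_zero]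

theorem coeffVec_smul (c : MvPolynomial (Option ι) κ) (u : Fin r → MvPolynomial (Option ι) κ)
    (d : ℕ) : coeffVec (c • u) d =
      ∑ p ∈ Finset.HasAntidiagonal.antidiagonal d, (θ κ ι c).coeff p.1 • coeffVec u p.2 := by
  funext i
  simp only [coeffVec, Pi.smul_apply, smul_eq_mul, map_mul, Polynomial.coeff_mul,
    Finset.sum_apply]

theorem coeffVec_sum_smul (gens : Finset (Fin r → MvPolynomial (Option ι) κ))
    (f : (Fin r → MvPolynomial (Option ι) κ) → MvPolynomial (Option ι) κ) (d : ℕ) :
    coeffVec (∑ u ∈ gens, f u • u) d =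
      ∑ u ∈ gens, ∑ p ∈ Finset.HasAntidiagonal.antidiagonal d,
        (θ κ ι (f u)).coeff p.1 • coeffVec u p.2 := by
  classical
  induction gens using Finset.induction_on with
  | empty => rw [Finset.sum_empty, Finset.sum_empty, coeffVec_zero]
  | insert a s ha ih =>
    rw [Finset.sum_insert ha, Finset.sum_insert ha, coeffVec_add, ih, coeffVec_smul]

/-- the Rees submodule attached to a filtration -/
noncomputable def W (I : ℕ → Submodule κ (Fin r → MvPolynomial ι κ)) (hI : IsGoodFiltration I) :
    Submodule (MvPolynomial (Option ι) κ) (Fin r → MvPolynomial (Option ι) κ) where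
  carrier := {u | ∀ d, coeffVec u d ∈ I d}
  add_mem' := by
    intro u u' hu hu' d
    rw [coeffVec_add]
    exact add_mem (hu d) (hu' d)
  zero_mem' := by
    intro d
    rw [coeffVec_zero]
    exact zero_mem _
  smul_mem' := by
    intro c u hu d
    rw [coeffVec_smul]
    refine Submodule.sum_mem _ fun p hp => ?_
    have hpd : p.1 + p.2 = d := Finset.HasAntidiagonal.mem_antidiagonal.mp hp
    rw [← hpd]
    exact hI.smul_mem_of_deg (theta_coeff_deg κ ι c p.1) (hu p.2)

theorem mem_W (I : ℕ → Submodule κ (Fin r → MvPolynomial ι κ)) (hI : IsGoodFiltration I)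
    (u : Fin r → MvPolynomial (Option ι) κ) : u ∈ W I hI ↔ ∀ d, coeffVec u d ∈ I d := Iff.rfl

theorem exists_bound2 {α : Type*} {r : ℕ} (s : Finset α) (N : α → Fin r → ℕ) :
    ∃ d₀, ∀ u ∈ s, ∀ i, N u i ≤ d₀ :=
  ⟨s.sup (fun u => Finset.univ.sup (N u)), fun u hu i =>
    (Finset.le_sup (f := N u) (Finset.mem_univ i)).trans
      (Finset.le_sup (f := fun u => Finset.univ.sup (N u)) hu)⟩

theorem exists_stab (I : ℕ → Submodule κ (Fin r → MvPolynomial ι κ)) (hI : IsGoodFiltration I) :
    ∃ d₀, ∀ d, d₀ < d → I d ≤ up (I (d - 1)) := by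
  classical
  haveI : IsNoetherianRing (MvPolynomial (Option ι) κ) := inferInstance
  haveI : IsNoetherian (MvPolynomial (Option ι) κ) (Fin r → MvPolynomial (Option ι) κ) :=
    inferInstance
  obtain ⟨gens, hgens⟩ := (IsNoetherian.noetherian (W I hI) : (W I hI).FG)
  obtain ⟨d₀, hd₀⟩ := exists_bound2 gens (fun u i => (θ κ ι (u i)).natDegree)
  refine ⟨d₀, fun d hd w hw => ?_⟩
  have hex : ∀ i, ∃ c, θ κ ι c = Polynomial.C (w i) * Polynomial.X ^ d :=
    fun i => exists_theta κ ι (w i) d (hI.deg d w hw i)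
  choose uw huw using hex
  have hcv : ∀ e, coeffVec uw e = if e = d then w else 0 := by
    intro e
    funext i
    simp only [coeffVec, huw, Polynomial.coeff_C_mul_X_pow]
    split_ifs <;> rfl
  have huwW : uw ∈ W I hI := by
    rw [mem_W]
    intro e
    rw [hcv]
    split_ifs with h'
    · rw [h']; exact hw
    · exact zero_mem _
  rw [← hgens] at huwW
  obtain ⟨f, -, hf⟩ := Submodule.mem_span_finset.mp huwW
  have hw_eq : w = ∑ u ∈ gens, ∑ p ∈ Finset.HasAntidiagonal.antidiagonal d,
      (θ κ ι (f u)).coeff p.1 • coeffVec u p.2 := by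
    rw [← coeffVec_sum_smul, hf, hcv, if_pos rfl]
  rw [hw_eq]
  refine Submodule.sum_mem _ fun u hu => Submodule.sum_mem _ fun p hp => ?_
  have hpd : p.1 + p.2 = d := Finset.HasAntidiagonal.mem_antidiagonal.mp hp
  have huW : u ∈ W I hI := by rw [← hgens]; exact Submodule.subset_span hu
  rw [mem_W] at huW
  by_cases hb : p.2 ≤ d₀
  · have ha : 1 ≤ p.1 := by omega
    have h2 := hI.smul_mem_up ha (theta_coeff_deg κ ι (f u) p.1) (huW p.2)
    rwa [hpd] at h2
  · have h0 : coeffVec u p.2 = 0 := by
      funext i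
      apply Polynomial.coeff_eq_zero_of_natDegree_lt
      have h1 := hd₀ u hu i
      omega
    rw [h0, smul_zero]
    exact zero_mem _

end Rees

section Val

theorem totalDegree_map_le' {R S : Type*} [CommSemiring R] [CommSemiring S] {ι : Type*}
    (f : R →+* S) (p : MvPolynomial ι R) :
    (MvPolynomial.map f p).totalDegree ≤ p.totalDegree :=
  Finset.sup_mono (MvPolynomial.support_map_subset f p)

variable (V : Type u) [CommRing V] (ι : Type u) (r : ℕ)

/-- vectors of polynomials of total degree `≤ d` -/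
noncomputable def Fd (d : ℕ) : Submodule V (Fin r → MvPolynomial ι V) :=
  Submodule.pi Set.univ (fun _ : Fin r => MvPolynomial.restrictTotalDegree ι V d)

variable {V ι r}

theorem mem_Fd {d : ℕ} {g : Fin r → MvPolynomial ι V} :
    g ∈ Fd V ι r d ↔ ∀ i, (g i).totalDegree ≤ d := by
  simp only [Fd, Submodule.mem_pi, Set.mem_univ, forall_true_left,
    MvPolynomial.mem_restrictTotalDegree]

theorem Fd_fg [Finite ι] (d : ℕ) : (Fd V ι r d).FG :=
  Submodule.fg_pi (fun _ => Module.Finite.iff_fg.mp inferInstance)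

variable [IsDomain V] [ValuationRing V] [Finite ι]
variable {M : Type u} [AddCommGroup M] [Module (MvPolynomial ι V) M] [Module V M]
  [IsScalarTower V (MvPolynomial ι V) M] [Module.IsTorsionFree V M]
variable (π : (Fin r → MvPolynomial ι V) →ₗ[MvPolynomial ι V] M)

/-- elements of the kernel of degree `≤ d` -/
noncomputable def Kd (d : ℕ) : Submodule V (Fin r → MvPolynomial ι V) :=
  Fd V ι r d ⊓ LinearMap.ker (π.restrictScalars V)

theorem mem_Kd {d : ℕ} {g : Fin r → MvPolynomial ι V} :
    g ∈ Kd π d ↔ (∀ i, (g i).totalDegree ≤ d) ∧ π g = 0 := by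
  rw [Kd, Submodule.mem_inf, mem_Fd, LinearMap.mem_ker, LinearMap.restrictScalars_apply]

theorem Kd_fg (d : ℕ) : (Kd π d).FG := by
  classical
  haveI : Module.Finite V ↥(Fd V ι r d) := Module.Finite.iff_fg.mpr (Fd_fg d)
  have key : ∀ (l : ↥(Fd V ι r d) →ₗ[V] M), (LinearMap.ker l).FG := by
    intro l
    haveI : Module.Finite V ↥(LinearMap.range l) := Module.Finite.range l
    haveI : Module.Free V ↥(LinearMap.range l) := BezoutFPH3.free_of_torsionFree V _
    haveI : Module.FinitePresentation V ↥(LinearMap.range l) :=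
      Module.finitePresentation_of_projective V _
    have h1 : (LinearMap.ker l.rangeRestrict).FG :=
      Module.FinitePresentation.fg_ker l.rangeRestrict l.surjective_rangeRestrict
    rwa [LinearMap.ker_rangeRestrict] at h1
  have h2 : Kd π d =
      (LinearMap.ker ((π.restrictScalars V).domRestrict (Fd V ι r d))).map
        (Fd V ι r d).subtype := by
    ext g
    simp only [Kd, Submodule.mem_inf, LinearMap.mem_ker, Submodule.mem_map,
      Submodule.subtype_apply]
    constructor
    · rintro ⟨hg, hπ⟩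
      exact ⟨⟨g, hg⟩, hπ, rfl⟩
    · rintro ⟨⟨y, hy⟩, hπ, rfl⟩
      exact ⟨hy, hπ⟩
  rw [h2]
  exact (key _).map _

theorem Kd_mono (d : ℕ) : Kd π d ≤ Kd π (d + 1) := by
  intro g hg
  rw [mem_Kd] at hg ⊢
  exact ⟨fun i => (hg.1 i).trans (Nat.le_succ d), hg.2⟩

theorem Kd_mono' {d e : ℕ} (h : d ≤ e) : Kd π d ≤ Kd π e :=
  monotone_nat_of_le_succ (Kd_mono π) h

theorem mulX_mem_Kd (d : ℕ) (j : ι) {g : Fin r → MvPolynomial ι V} (hg : g ∈ Kd π d) :
    mulX j g ∈ Kd π (d + 1) := by
  rw [mem_Kd] at hg ⊢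
  refine ⟨fun i => ?_, ?_⟩
  · rw [mulX_apply, Pi.smul_apply, smul_eq_mul]
    refine (MvPolynomial.totalDegree_mul _ _).trans ?_
    rw [MvPolynomial.totalDegree_X, add_comm]
    exact Nat.add_le_add_right (hg.1 i) 1
  · rw [mulX_apply, map_smul, hg.2, smul_zero]

variable (V ι r) in
/-- reduction modulo the maximal ideal -/
noncomputable def redF : (Fin r → MvPolynomial ι V) →+
    (Fin r → MvPolynomial ι (IsLocalRing.ResidueField V)) where
  toFun g := fun i => MvPolynomial.map (IsLocalRing.residue V) (g i)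
  map_zero' := by
    funext i
    simp only [Pi.zero_apply, map_zero]
  map_add' g g' := by
    funext i
    simp only [Pi.add_apply, map_add]

theorem redF_apply (g : Fin r → MvPolynomial ι V) (i : Fin r) :
    redF V ι r g i = MvPolynomial.map (IsLocalRing.residue V) (g i) := rfl

theorem redF_smul (q : MvPolynomial ι V) (g : Fin r → MvPolynomial ι V) :
    redF V ι r (q • g) = (MvPolynomial.map (IsLocalRing.residue V) q) • redF V ι r g := by
  funext i
  rw [Pi.smul_apply, redF_apply, redF_apply, Pi.smul_apply, smul_eq_mul, smul_eq_mul, map_mul]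

theorem redF_smul_V (a : V) (g : Fin r → MvPolynomial ι V) :
    redF V ι r (a • g) = (IsLocalRing.residue V a) • redF V ι r g := by
  funext i
  rw [Pi.smul_apply, redF_apply, redF_apply, Pi.smul_apply, MvPolynomial.smul_eq_C_mul,
    MvPolynomial.smul_eq_C_mul, map_mul, MvPolynomial.map_C]

theorem redF_mulX (j : ι) (g : Fin r → MvPolynomial ι V) :
    redF V ι r (mulX j g) = mulX j (redF V ι r g) := by
  rw [mulX_apply, mulX_apply, redF_smul, MvPolynomial.map_X]

/-- image of a `V`-submodule under reduction, as a `κ`-submodule -/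
noncomputable def redSub (N : Submodule V (Fin r → MvPolynomial ι V)) :
    Submodule (IsLocalRing.ResidueField V)
      (Fin r → MvPolynomial ι (IsLocalRing.ResidueField V)) where
  carrier := {w | ∃ g ∈ N, redF V ι r g = w}
  add_mem' := by
    rintro _ _ ⟨g, hg, rfl⟩ ⟨g', hg', rfl⟩
    exact ⟨g + g', add_mem hg hg', map_add _ _ _⟩
  zero_mem' := ⟨0, zero_mem _, map_zero _⟩
  smul_mem' := by
    rintro c _ ⟨g, hg, rfl⟩
    obtain ⟨a, rfl⟩ := IsLocalRing.residue_surjective c
    exact ⟨a • g, N.smul_mem a hg, redF_smul_V a g⟩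

theorem mem_redSub {N : Submodule V (Fin r → MvPolynomial ι V)}
    {w : Fin r → MvPolynomial ι (IsLocalRing.ResidueField V)} :
    w ∈ redSub N ↔ ∃ g ∈ N, redF V ι r g = w := Iff.rfl

theorem redSub_mono {N N' : Submodule V (Fin r → MvPolynomial ι V)} (h : N ≤ N') :
    redSub N ≤ redSub N' := by
  rintro _ ⟨g, hg, rfl⟩
  exact ⟨g, h hg, rfl⟩

theorem redSub_up (N : Submodule V (Fin r → MvPolynomial ι V)) :
    up (redSub N) ≤ redSub (up N) := by
  refine up_le (redSub_mono (le_up N)) ?_
  rintro j _ ⟨g, hg, rfl⟩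
  exact ⟨mulX j g, mulX_mem_up j hg, redF_mulX j g⟩

theorem isGood : IsGoodFiltration (fun d => redSub (Kd π d)) where
  mono d := redSub_mono (Kd_mono π d)
  mulX d j w hw := by
    obtain ⟨g, hg, rfl⟩ := hw
    exact ⟨mulX j g, mulX_mem_Kd π d j hg, redF_mulX j g⟩
  deg d w hw i := by
    obtain ⟨g, hg, rfl⟩ := hw
    rw [mem_Kd] at hg
    exact (totalDegree_map_le' _ _).trans (hg.1 i)

theorem mem_smul_Kd (d : ℕ) {g : Fin r → MvPolynomial ι V} (hg : g ∈ Kd π d)
    (h0 : redF V ι r g = 0) : g ∈ (IsLocalRing.maximalIdeal V) • Kd π d := by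
  classical
  obtain ⟨C, hC_iff⟩ : ∃ C : Finset V, ∀ c, c ∈ C ↔
      ∃ i, ∃ s ∈ (g i).support, (g i).coeff s = c := by
    refine ⟨Finset.univ.biUnion (fun i => (g i).support.image (fun s => (g i).coeff s)),
      fun c => ?_⟩
    simp only [Finset.mem_biUnion, Finset.mem_univ, true_and, Finset.mem_image]
  have hCm : ∀ c ∈ C, c ∈ IsLocalRing.maximalIdeal V ∧ c ≠ 0 := by
    intro c hc
    obtain ⟨i, s, hs, rfl⟩ := (hC_iff c).mp hc
    refine ⟨?_, MvPolynomial.mem_support_iff.mp hs⟩
    rw [← IsLocalRing.residue_eq_zero_iff, ← MvPolynomial.coeff_map, ← redF_apply, h0]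
    rfl
  by_cases hC : C.Nonempty
  · obtain ⟨a, haC, hdiv⟩ := BezoutFPH3.exists_dvd_all V C hC
    obtain ⟨ham, ha0⟩ := hCm a haC
    have hdvd : ∀ i, MvPolynomial.C a ∣ g i := by
      intro i
      rw [MvPolynomial.C_dvd_iff_dvd_coeff]
      intro s
      by_cases hs : s ∈ (g i).support
      · exact hdiv _ ((hC_iff _).mpr ⟨i, s, hs, rfl⟩)
      · rw [MvPolynomial.notMem_support_iff.mp hs]
        exact dvd_zero a
    choose g' hg' using hdvd
    have hgg' : g = a • g' := by
      funext i
      rw [Pi.smul_apply, MvPolynomial.smul_eq_C_mul]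
      exact hg' i
    rw [mem_Kd] at hg
    have hg'K : g' ∈ Kd π d := by
      rw [mem_Kd]
      refine ⟨fun i => ?_, ?_⟩
      · by_cases hz : g' i = 0
        · rw [hz, MvPolynomial.totalDegree_zero]
          exact Nat.zero_le d
        · have h1 := hg.1 i
          have hCa : (MvPolynomial.C a : MvPolynomial ι V) ≠ 0 := by
            rwa [Ne, MvPolynomial.C_eq_zero]
          rw [hg' i, MvPolynomial.totalDegree_mul_of_isDomain hCa hz,
            MvPolynomial.totalDegree_C, zero_add] at h1
          exact h1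
      · have h1 := hg.2
        rw [hgg', LinearMap.map_smul_of_tower] at h1
        exact (smul_eq_zero_iff_right ha0).mp h1
    rw [hgg']
    exact Submodule.smul_mem_smul ham hg'K
  · have hg0 : g = 0 := by
      funext i
      rw [Pi.zero_apply, ← MvPolynomial.support_eq_empty]
      by_contra hne
      obtain ⟨s, hs⟩ := Finset.nonempty_iff_ne_empty.mpr hne
      exact hC ⟨_, (hC_iff _).mpr ⟨i, s, hs, rfl⟩⟩
    rw [hg0]
    exact zero_mem _

theorem Kd_succ_le_up (e : ℕ) (h : redSub (Kd π (e + 1)) ≤ up (redSub (Kd π e))) :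
    Kd π (e + 1) ≤ up (Kd π e) := by
  have hup_le : up (Kd π e) ≤ Kd π (e + 1) :=
    up_le (Kd_mono π e) (fun j w hw => mulX_mem_Kd π e j hw)
  refine Submodule.le_of_le_smul_of_le_jacobson_bot (I := IsLocalRing.maximalIdeal V)
    (Kd_fg π (e + 1)) (IsLocalRing.jacobson_eq_maximalIdeal _ bot_ne_top).ge ?_
  intro g hg
  have h1 : redF V ι r g ∈ redSub (up (Kd π e)) := redSub_up _ (h ⟨g, hg, rfl⟩)
  obtain ⟨h', hh, hhg⟩ := h1
  have h2 : g - h' ∈ Kd π (e + 1) := sub_mem hg (hup_le hh)
  have h3 : redF V ι r (g - h') = 0 := by rw [map_sub, hhg, sub_self]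
  have h4 := mem_smul_Kd π (e + 1) h2 h3
  have h5 : g = h' + (g - h') := by abel
  rw [h5]
  exact Submodule.add_mem_sup hh h4

/-- **Key theorem**: the kernel of a map from a finite free `V[x]`-module to a `V`-torsion-free
module is finitely generated. -/
theorem ker_fg : (LinearMap.ker π).FG := by
  classical
  obtain ⟨d₀, hd₀⟩ := exists_stab (fun d => redSub (Kd π d)) (isGood π)
  have hstep : ∀ e, d₀ ≤ e → Kd π (e + 1) ≤ up (Kd π e) := by
    intro e he
    have h1 := hd₀ (e + 1) (by omega)
    rw [Nat.add_sub_cancel] at h1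
    exact Kd_succ_le_up π e h1
  have hind : ∀ d, Kd π d ≤
      (Submodule.span (MvPolynomial ι V) (Kd π d₀ : Set (Fin r → MvPolynomial ι V))).restrictScalars
        V := by
    intro d
    induction d with
    | zero => exact fun g hg => Submodule.subset_span (Kd_mono' π (Nat.zero_le d₀) hg)
    | succ e ih =>
      by_cases he : e + 1 ≤ d₀
      · exact fun g hg => Submodule.subset_span (Kd_mono' π he hg)
      · refine (hstep e (by omega)).trans (up_le ih (fun j w hw => ?_))
        rw [mulX_apply]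
        exact Submodule.smul_mem (Submodule.span (MvPolynomial ι V)
          (Kd π d₀ : Set (Fin r → MvPolynomial ι V))) (MvPolynomial.X j) (ih hw)
  have hker : LinearMap.ker π =
      Submodule.span (MvPolynomial ι V) (Kd π d₀ : Set (Fin r → MvPolynomial ι V)) := by
    apply le_antisymm
    · intro g hg
      exact hind (Finset.univ.sup (fun i => (g i).totalDegree)) ((mem_Kd π).mpr
        ⟨fun i => Finset.le_sup (f := fun i => (g i).totalDegree) (Finset.mem_univ i),
          LinearMap.mem_ker.mp hg⟩)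
    · refine Submodule.span_le.mpr fun g hg => ?_
      exact LinearMap.mem_ker.mpr ((mem_Kd π).mp hg).2
  obtain ⟨G, hG⟩ := Kd_fg π d₀
  rw [hker, ← hG, Submodule.span_span_of_tower]
  exact ⟨G, rfl⟩

end Val

section Main

variable {A B M : Type u} [CommRing A] [CommRing B] [Algebra A B]
  [AddCommGroup M] [Module B M] {ι : Type u} {r : ℕ}

/-- componentwise application of `ρ` -/
noncomputable def rhoF (ρ : MvPolynomial ι A →ₐ[A] B) (f : Fin r → MvPolynomial ι A) : Fin r → B :=
  fun i => ρ (f i)

theorem rhoF_apply (ρ : MvPolynomial ι A →ₐ[A] B) (f : Fin r → MvPolynomial ι A) (i : Fin r) :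
    rhoF ρ f i = ρ (f i) := rfl

theorem rhoF_add (ρ : MvPolynomial ι A →ₐ[A] B) (f g : Fin r → MvPolynomial ι A) :
    rhoF ρ (f + g) = rhoF ρ f + rhoF ρ g := by
  funext i
  exact map_add ρ _ _

theorem rhoF_zero (ρ : MvPolynomial ι A →ₐ[A] B) :
    rhoF ρ (0 : Fin r → MvPolynomial ι A) = 0 := by
  funext i
  exact map_zero ρ

theorem rhoF_smul (ρ : MvPolynomial ι A →ₐ[A] B) (s : MvPolynomial ι A)
    (f : Fin r → MvPolynomial ι A) : rhoF ρ (s • f) = ρ s • rhoF ρ f := by
  funext i
  rw [Pi.smul_apply, rhoF_apply, rhoF_apply, Pi.smul_apply, smul_eq_mul, smul_eq_mul, map_mul]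

/-- the induced map on the polynomial side -/
noncomputable def piS (ρ : MvPolynomial ι A →ₐ[A] B) [Module (MvPolynomial ι A) M]
    (hsm : ∀ (s : MvPolynomial ι A) (m : M), s • m = ρ s • m) (πB : (Fin r → B) →ₗ[B] M) :
    (Fin r → MvPolynomial ι A) →ₗ[MvPolynomial ι A] M where
  toFun f := πB (rhoF ρ f)
  map_add' f g := by rw [rhoF_add, map_add]
  map_smul' s f := by rw [RingHom.id_apply, rhoF_smul, map_smul, hsm]

theorem piS_apply (ρ : MvPolynomial ι A →ₐ[A] B) [Module (MvPolynomial ι A) M]
    (hsm : ∀ (s : MvPolynomial ι A) (m : M), s • m = ρ s • m) (πB : (Fin r → B) →ₗ[B] M)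
    (f : Fin r → MvPolynomial ι A) : piS ρ hsm πB f = πB (rhoF ρ f) := rfl

theorem rhoF_mem_span (ρ : MvPolynomial ι A →ₐ[A] B) (G : Set (Fin r → MvPolynomial ι A))
    (f : Fin r → MvPolynomial ι A) (hf : f ∈ Submodule.span (MvPolynomial ι A) G) :
    rhoF ρ f ∈ Submodule.span B (rhoF ρ '' G) := by
  induction hf using Submodule.span_induction with
  | mem x hx => exact Submodule.subset_span (Set.mem_image_of_mem _ hx)
  | zero => rw [rhoF_zero]; exact zero_mem _
  | add x y _ _ hx hy => rw [rhoF_add]; exact add_mem hx hy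
  | smul s x _ hx => rw [rhoF_smul]; exact Submodule.smul_mem _ _ hx

theorem ker_fg_of_essFiniteType [IsDomain A] [ValuationRing A] [Module A M] [IsScalarTower A B M]
    [Module.IsTorsionFree A M] [Finite ι] (ρ : MvPolynomial ι A →ₐ[A] B)
    [Module (MvPolynomial ι A) M] [IsScalarTower A (MvPolynomial ι A) M]
    (hsm : ∀ (s : MvPolynomial ι A) (m : M), s • m = ρ s • m)
    (hloc : ∀ b : B, ∃ t ∈ ρ.range, IsUnit t ∧ b * t ∈ ρ.range)
    (πB : (Fin r → B) →ₗ[B] M) : (LinearMap.ker πB).FG := by
  classical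
  obtain ⟨G, hG⟩ := ker_fg (piS ρ hsm πB)
  refine ⟨G.image (rhoF ρ), ?_⟩
  rw [Finset.coe_image]
  apply le_antisymm
  · rw [Submodule.span_le]
    rintro _ ⟨f, hf, rfl⟩
    have h1 : f ∈ LinearMap.ker (piS ρ hsm πB) := by
      rw [← hG]
      exact Submodule.subset_span hf
    exact LinearMap.mem_ker.mpr (LinearMap.mem_ker.mp h1)
  · intro b hb
    choose t ht htu htb using hloc
    have hT : ∀ i, (∏ j, t (b j)) * b i ∈ ρ.range := by
      intro i
      rw [← Finset.prod_erase_mul Finset.univ (fun j => t (b j)) (Finset.mem_univ i), mul_assoc,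
        mul_comm (t (b i))]
      exact Subalgebra.mul_mem _ (Subalgebra.prod_mem _ fun j _ => ht (b j)) (htb (b i))
    have hTu : IsUnit (∏ j, t (b j)) :=
      Finset.prod_induction _ IsUnit (fun _ _ => IsUnit.mul) isUnit_one (fun j _ => htu (b j))
    have hT' : ∀ i, ∃ p, ρ p = (∏ j, t (b j)) * b i := fun i => (AlgHom.mem_range ρ).mp (hT i)
    choose f hf using hT'
    have h2 : rhoF ρ f = (∏ j, t (b j)) • b := by
      funext i
      rw [rhoF_apply, hf i, Pi.smul_apply, smul_eq_mul]
    have hfker : f ∈ LinearMap.ker (piS ρ hsm πB) := by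
      rw [LinearMap.mem_ker, piS_apply, h2, map_smul, LinearMap.mem_ker.mp hb, smul_zero]
    rw [← hG] at hfker
    have h1 := rhoF_mem_span ρ _ f hfker
    rw [h2] at h1
    obtain ⟨u, hu⟩ := hTu
    have h3 : b = ((u⁻¹ : Bˣ) : B) • ((∏ j, t (b j)) • b) := by
      rw [← hu, smul_smul, Units.inv_mul, one_smul]
    rw [h3]
    exact Submodule.smul_mem _ _ h1

/-- **S2049**: finite modules over an essentially finite type algebra over a valuation ring which
are flat over the valuation ring are finitely presented. -/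
theorem main2049 [IsDomain A] [ValuationRing A] [Algebra.EssFiniteType A B] [Module A M]
    [IsScalarTower A B M] [Module.Finite B M] [Module.Flat A M] :
    Module.FinitePresentation B M := by
  classical
  obtain ⟨σ, hσ⟩ := (Algebra.essFiniteType_iff (R := A) (S := B)).mp inferInstance
  obtain ⟨r, πB, hπB⟩ := Module.Finite.exists_fin' B M
  haveI : Module.IsTorsionFree A M :=
    Submodule.isTorsionFree_iff_torsion_eq_bot.mpr Module.Flat.torsion_eq_bot
  have hrange : (MvPolynomial.aeval (R := A) (fun x : σ => (x : B))).range =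
      Algebra.adjoin A (σ : Set B) := by
    rw [← Algebra.adjoin_range_eq_range_aeval]
    congr 1
    ext x
    simp
  letI modS : Module (MvPolynomial σ A) M :=
    Module.compHom M ((MvPolynomial.aeval (R := A) (fun x : σ => (x : B)) :
      MvPolynomial σ A →ₐ[A] B) : MvPolynomial σ A →+* B)
  haveI : IsScalarTower A (MvPolynomial σ A) M := ⟨fun a s m => by
    change (MvPolynomial.aeval (R := A) (fun x : σ => (x : B))) (a • s) • m =
      a • ((MvPolynomial.aeval (R := A) (fun x : σ => (x : B))) s • m)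
    rw [map_smul, smul_assoc]⟩
  have hker := ker_fg_of_essFiniteType (M := M)
    (MvPolynomial.aeval (R := A) (fun x : σ => (x : B))) (fun s m => rfl)
    (by rw [hrange]; exact hσ) πB
  exact Module.finitePresentation_of_free_of_surjective πB hπB hker

end Main

end Groth.Agent.Lib.ValFPH1
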