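import Mathlib
import Groth.Agent.Lib.ValFP_helper1
import Groth.Agent.Lib.FlatFP_helper1

/-!
# Finitely presented algebras over Prüfer domains are coherent (helper1)
APPEND-ONLY once landed.
-/

set_option autoImplicit false
open TensorProduct

namespace Groth.Agent.Lib.PruferCohH1

universe u

/-- f.p. over `S` and `S → A` surjective ⇒ f.p. over `A` -/
theorem fp_of_surjective {S A M : Type u} [CommRing S] [CommRing A] [Algebra S A]
    (hsurj : Function.Surjective (algebraMap S A)) [AddCommGroup M] [Module A M] [Module S M]
    [IsScalarTower S A M] [Module.FinitePresentation S M] : Module.FinitePresentation A M := by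
  classical
  obtain ⟨k, π, hπ⟩ := Module.Finite.exists_fin' S M
  obtain ⟨G, hG⟩ := Module.FinitePresentation.fg_ker π hπ
  let φ : (Fin k → S) →ₗ[S] (Fin k → A) := (Algebra.linearMap S A).compLeft (Fin k)
  let πA : (Fin k → A) →ₗ[A] M := (Pi.basisFun A (Fin k)).constr A (fun i => π (Pi.single i 1))
  have hφ : ∀ c i, φ c i = algebraMap S A (c i) := fun c i => rfl
  have hcomp : (πA.restrictScalars S) ∘ₗ φ = π := by
    apply LinearMap.pi_ext
    intro i x
    have h1 : φ (Pi.single i x) = algebraMap S A x • (Pi.basisFun A (Fin k)) i := by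
      funext j
      rw [hφ, Pi.smul_apply, Pi.basisFun_apply, smul_eq_mul]
      by_cases hij : j = i
      · subst hij; simp
      · simp [Pi.single_eq_of_ne hij]
    have h2 : (Pi.single i x : Fin k → S) = x • Pi.single i 1 := by
      funext j
      by_cases hij : j = i
      · subst hij; simp
      · simp [Pi.single_eq_of_ne hij]
    rw [LinearMap.comp_apply, LinearMap.restrictScalars_apply, h1, map_smul,
      Module.Basis.constr_basis, algebraMap_smul, ← map_smul, ← h2]
  have hπA : Function.Surjective πA := fun m => by
    obtain ⟨c, rfl⟩ := hπ m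
    exact ⟨φ c, LinearMap.congr_fun hcomp c⟩
  have hφsurj : Function.Surjective φ := fun b => by
    choose c hc using fun i => hsurj (b i)
    exact ⟨c, funext fun i => by rw [hφ, hc]⟩
  have hker : LinearMap.ker πA = Submodule.span A (φ '' (G : Set (Fin k → S))) := by
    apply le_antisymm
    · intro b hb
      obtain ⟨c, rfl⟩ := hφsurj b
      have hc : c ∈ LinearMap.ker π := by
        rw [LinearMap.mem_ker, ← hcomp]
        exact LinearMap.mem_ker.mp hb
      rw [← hG] at hc
      have h2 : Submodule.map φ (Submodule.span S (G : Set (Fin k → S))) ≤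
          (Submodule.span A (φ '' (G : Set (Fin k → S)))).restrictScalars S := by
        rw [Submodule.map_span]
        exact Submodule.span_le_restrictScalars S A _
      exact h2 (Submodule.mem_map_of_mem hc)
    · rw [Submodule.span_le]
      rintro _ ⟨g, hg, rfl⟩
      have hgk : g ∈ LinearMap.ker π := by
        rw [← hG]
        exact Submodule.subset_span hg
      rw [SetLike.mem_coe, LinearMap.mem_ker]
      exact (LinearMap.congr_fun hcomp g).trans (LinearMap.mem_ker.mp hgk)
  refine Module.finitePresentation_of_free_of_surjective πA hπA ?_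
  rw [hker]
  exact Submodule.fg_span ((Finset.finite_toSet G).image _)

section Prufer

variable {R : Type u} [CommRing R] [IsDomain R]
  (hR : ∀ (p : Ideal R) [p.IsPrime], ValuationRing (Localization.AtPrime p)) (n : ℕ)
  {M : Type u} [AddCommGroup M] [Module (MvPolynomial (Fin n) R) M] [Module R M]
  [IsScalarTower R (MvPolynomial (Fin n) R) M] [Module.Finite (MvPolynomial (Fin n) R) M]
  [Module.Flat R M]

include hR in
theorem loc_fp (p : Ideal R) [p.IsPrime] :
    Module.FinitePresentation
      (Localization (Algebra.algebraMapSubmonoid (MvPolynomial (Fin n) R) p.primeCompl))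
      (LocalizedModule (Algebra.algebraMapSubmonoid (MvPolynomial (Fin n) R) p.primeCompl) M) := by
  haveI := hR p
  letI modA : Module (Localization.AtPrime p)
      (LocalizedModule (Algebra.algebraMapSubmonoid (MvPolynomial (Fin n) R) p.primeCompl) M) :=
    Module.compHom _ (algebraMap (Localization.AtPrime p)
      (Localization (Algebra.algebraMapSubmonoid (MvPolynomial (Fin n) R) p.primeCompl)))
  haveI : IsScalarTower (Localization.AtPrime p)
      (Localization (Algebra.algebraMapSubmonoid (MvPolynomial (Fin n) R) p.primeCompl))
      (LocalizedModule (Algebra.algebraMapSubmonoid (MvPolynomial (Fin n) R) p.primeCompl) M) :=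
    ⟨fun a b m => by
      rw [Algebra.smul_def, mul_smul]
      rfl⟩
  haveI : IsScalarTower R (Localization.AtPrime p)
      (LocalizedModule (Algebra.algebraMapSubmonoid (MvPolynomial (Fin n) R) p.primeCompl) M) :=
    ⟨fun r a m => by
      change algebraMap (Localization.AtPrime p)
        (Localization (Algebra.algebraMapSubmonoid (MvPolynomial (Fin n) R) p.primeCompl))
          (r • a) • m = r • (algebraMap (Localization.AtPrime p)
        (Localization (Algebra.algebraMapSubmonoid (MvPolynomial (Fin n) R) p.primeCompl)) a • m)
      rw [Algebra.smul_def, map_mul, ← IsScalarTower.algebraMap_apply, mul_smul, algebraMap_smul]⟩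
  haveI : Module.Flat R
      (LocalizedModule (Algebra.algebraMapSubmonoid (MvPolynomial (Fin n) R) p.primeCompl) M) := by
    rw [Groth.Agent.Lib.FlatLocFP1H6.flat_localizedModule_iff]
    intro I ξ h
    refine ⟨1, one_mem _, ?_⟩
    rw [one_smul]
    exact (map_eq_zero_iff _ (Module.Flat.lTensor_preserves_injective_linearMap (M := M)
      I.subtype Subtype.val_injective)).mp h
  haveI : Module.Flat (Localization.AtPrime p)
      (LocalizedModule (Algebra.algebraMapSubmonoid (MvPolynomial (Fin n) R) p.primeCompl) M) :=
    (Module.flat_iff_of_isLocalization (Localization.AtPrime p) p.primeCompl _).mpr inferInstance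
  haveI : Algebra.EssFiniteType (Localization.AtPrime p)
      (Localization (Algebra.algebraMapSubmonoid (MvPolynomial (Fin n) R) p.primeCompl)) :=
    Algebra.EssFiniteType.of_comp R _ _
  exact Groth.Agent.Lib.ValFPH1.main2049 (A := Localization.AtPrime p)
    (B := Localization (Algebra.algebraMapSubmonoid (MvPolynomial (Fin n) R) p.primeCompl))
    (M := LocalizedModule (Algebra.algebraMapSubmonoid (MvPolynomial (Fin n) R) p.primeCompl) M)

include hR in
/-- Raynaud–Gruson over a Prüfer domain, polynomial ring case. -/
theorem prufer_fp : Module.FinitePresentation (MvPolynomial (Fin n) R) M := by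
  classical
  refine Groth.Agent.Lib.FlatFPH1.main2050 n {⟨⊥, Ideal.isPrime_bot⟩} ?_ ?_
  · intro r r' h
    have h1 := congrFun h ⟨⟨⊥, Ideal.isPrime_bot⟩, Finset.mem_singleton_self _⟩
    exact IsLocalization.injective (Localization.AtPrime (⊥ : Ideal R))
      (Ideal.primeCompl_le_nonZeroDivisors ⊥) h1
  · intro p _
    exact loc_fp hR n p

end Prufer

section Coh

variable {R : Type u} [CommRing R] [IsDomain R]
  (hR : ∀ (p : Ideal R) [p.IsPrime], ValuationRing (Localization.AtPrime p))

include hR in
theorem coherent_aux (n : ℕ) (A : Type u) [CommRing A] [Algebra (MvPolynomial (Fin n) R) A]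
    (hsurj : Function.Surjective (algebraMap (MvPolynomial (Fin n) R) A))
    (hker : (RingHom.ker (algebraMap (MvPolynomial (Fin n) R) A)).FG) (I : Ideal A) (hI : I.FG) :
    Module.FinitePresentation A I := by
  classical
  have hI'fg : (I.comap (algebraMap (MvPolynomial (Fin n) R) A)).FG := by
    refine Ideal.fg_of_fg_map_of_fg_inf_ker_of_surjective
      (f := algebraMap (MvPolynomial (Fin n) R) A) ?_ ?_ hsurj
    · rw [Ideal.map_comap_of_surjective _ hsurj]
      exact hI
    · have hle : RingHom.ker (algebraMap (MvPolynomial (Fin n) R) A) ≤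
          I.comap (algebraMap (MvPolynomial (Fin n) R) A) := Ideal.comap_mono bot_le
      rw [inf_eq_right.mpr hle]
      exact hker
  haveI : Module.Finite (MvPolynomial (Fin n) R)
      ↥(I.comap (algebraMap (MvPolynomial (Fin n) R) A)) := Module.Finite.iff_fg.mpr hI'fg
  haveI : Module.IsTorsionFree R (MvPolynomial (Fin n) R) :=
    Submodule.isTorsionFree_iff_torsion_eq_bot.mpr Module.Flat.torsion_eq_bot
  haveI : Module.IsTorsionFree R ↥(I.comap (algebraMap (MvPolynomial (Fin n) R) A)) :=
    Function.Injective.moduleIsTorsionFree
      (fun x : ↥(I.comap (algebraMap (MvPolynomial (Fin n) R) A)) => (x : MvPolynomial (Fin n) R))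
      Subtype.val_injective (fun r m => rfl)
  haveI : Module.Flat R ↥(I.comap (algebraMap (MvPolynomial (Fin n) R) A)) := by
    rw [Module.Flat.flat_iff_torsion_eq_bot_of_valuationRing_localization_isMaximal
      (fun P hP => hR P), ← Submodule.isTorsionFree_iff_torsion_eq_bot]
    infer_instance
  haveI : Module.FinitePresentation (MvPolynomial (Fin n) R)
      ↥(I.comap (algebraMap (MvPolynomial (Fin n) R) A)) := prufer_fp hR n
  let l : ↥(I.comap (algebraMap (MvPolynomial (Fin n) R) A)) →ₗ[MvPolynomial (Fin n) R] ↥I :=
    { toFun := fun x => ⟨algebraMap (MvPolynomial (Fin n) R) A x.1, x.2⟩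
      map_add' := fun x y => Subtype.ext (map_add _ _ _)
      map_smul' := fun s x => Subtype.ext (by
        show algebraMap (MvPolynomial (Fin n) R) A (s * x.1) =
          s • algebraMap (MvPolynomial (Fin n) R) A x.1
        rw [map_mul, Algebra.smul_def]) }
  have hl : Function.Surjective l := by
    rintro ⟨a, ha⟩
    obtain ⟨s, rfl⟩ := hsurj a
    exact ⟨⟨s, ha⟩, rfl⟩
  have hkerl : (LinearMap.ker l).FG := by
    apply Submodule.fg_of_fg_map_injective
      (Submodule.subtype (I.comap (algebraMap (MvPolynomial (Fin n) R) A))) Subtype.val_injective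
    have hmap : (LinearMap.ker l).map
        (Submodule.subtype (I.comap (algebraMap (MvPolynomial (Fin n) R) A))) =
        RingHom.ker (algebraMap (MvPolynomial (Fin n) R) A) := by
      ext x
      constructor
      · rintro ⟨y, hy, rfl⟩
        exact congrArg Subtype.val (LinearMap.mem_ker.mp hy)
      · intro hx
        refine ⟨⟨x, ?_⟩, ?_, rfl⟩
        · show algebraMap (MvPolynomial (Fin n) R) A x ∈ I
          rw [RingHom.mem_ker.mp hx]
          exact zero_mem _
        · exact LinearMap.mem_ker.mpr (Subtype.ext (RingHom.mem_ker.mp hx))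
    rw [hmap]
    exact hker
  haveI : Module.FinitePresentation (MvPolynomial (Fin n) R) ↥I :=
    Module.finitePresentation_of_surjective l hl hkerl
  exact fp_of_surjective hsurj

include hR in
/-- **S14742**: finitely presented algebras over Prüfer domains are coherent. -/
theorem main14742 (A : Type u) [CommRing A] [Algebra R A] [Algebra.FinitePresentation R A]
    (I : Ideal A) (hI : I.FG) : Module.FinitePresentation A I := by
  obtain ⟨n, f, hf, hker⟩ := Algebra.FinitePresentation.out (R := R) (A := A)
  letI : Algebra (MvPolynomial (Fin n) R) A := f.toRingHom.toAlgebra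
  exact coherent_aux hR n A hf hker I hI

end Coh

end Groth.Agent.Lib.PruferCohH1
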