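import Mathlib
import Groth.Prelude.Def_Found
import Groth.Agent.Lib.PruferDim3_helper8
import Groth.Agent.Lib.TrdegBound_helper8

universe u
open AlgebraicGeometry CategoryTheory

namespace Groth.Agent.Lib.PruferDimH8

section order
variable {α : Type*} [PartialOrder α] (δ : α → ℤ)

theorem chain_le (ha : ∀ x y : α, x < y → δ y < δ x) (s : LTSeries α) :
    ∀ i : Fin (s.length + 1), (i.1 : ℤ) ≤ δ (s 0) - δ (s i) := by
  intro i
  induction i using Fin.induction with
  | zero => simp
  | succ i ih =>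
    have h1 : s (Fin.castSucc i) < s (Fin.succ i) := s.step i
    have h2 := ha _ _ h1
    simp only [Fin.val_succ, Fin.val_castSucc] at ih ⊢
    push_cast
    omega

theorem chain_eq (hb : ∀ x y : α, x ⋖ y → δ x = δ y + 1) (s : LTSeries α)
    (hs : ∀ i : Fin s.length, s (Fin.castSucc i) ⋖ s (Fin.succ i)) :
    ∀ i : Fin (s.length + 1), (i.1 : ℤ) = δ (s 0) - δ (s i) := by
  intro i
  induction i using Fin.induction with
  | zero => simp
  | succ i ih =>
    have h2 := hb _ _ (hs i)
    simp only [Fin.val_succ, Fin.val_castSucc] at ih ⊢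
    push_cast
    omega

end order

theorem catenary_of_delta {A : Type u} [CommRing A] (δ : PrimeSpectrum A → ℤ)
    (ha : ∀ x y : PrimeSpectrum A, x < y → δ y < δ x)
    (hb : ∀ x y : PrimeSpectrum A, x ⋖ y → δ x = δ y + 1) : CAlg.IsCatenary A := by
  constructor
  · intro p q _
    refine ⟨(δ p - δ q).toNat, ?_⟩
    intro s hs1 hs2
    have h := chain_le δ ha s (Fin.last _)
    have h0 : s 0 = p := hs1
    have h1 : s (Fin.last _) = q := hs2
    rw [h0, h1] at h
    simp only [Fin.val_last] at h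
    omega
  · intro s t hst1 hst2 hs ht
    have h1 := chain_eq δ hb s hs (Fin.last _)
    have h2 := chain_eq δ hb t ht (Fin.last _)
    have e1 : s 0 = t 0 := hst1
    have e2 : s (Fin.last _) = t (Fin.last _) := hst2
    rw [e1, e2] at h1
    simp only [Fin.val_last] at h1 h2
    omega

theorem dim_lt_top_of_delta {A : Type u} [CommRing A] (δ : PrimeSpectrum A → ℤ)
    (ha : ∀ x y : PrimeSpectrum A, x < y → δ y < δ x) (lo hi : ℤ)
    (hbound : ∀ x, lo ≤ δ x ∧ δ x ≤ hi) : ringKrullDim A < ⊤ := by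
  have h : ringKrullDim A ≤ ((hi - lo).toNat : ℕ) := by
    unfold ringKrullDim Order.krullDim
    apply iSup_le
    intro s
    have h1 := chain_le δ ha s (Fin.last _)
    simp only [Fin.val_last] at h1
    have h2 := hbound (s 0)
    have h3 := hbound (s (Fin.last _))
    have : s.length ≤ (hi - lo).toNat := by omega
    exact_mod_cast this
  refine lt_of_le_of_lt h ?_
  have h' : (((hi - lo).toNat : ℕ) : WithBot ℕ∞) = ((((hi - lo).toNat : ℕ∞)) : WithBot ℕ∞) := rfl
  rw [h', ← WithBot.coe_top, WithBot.coe_lt_coe]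
  exact ENat.natCast_lt_top _

section main
variable {R : Type u} [CommRing R] [IsDomain R]
  (hR : ∀ (p : Ideal R) [p.IsPrime], ValuationRing (Localization.AtPrime p))
  (hdim : ringKrullDim R < ⊤)
  {S : Type u} [CommRing S] [Algebra R S] [Algebra.FiniteType R S]

include hdim in
theorem exists_delta_bounds : ∃ lo hi : ℤ, ∀ P : Ideal S, P.IsPrime →
    lo ≤ delta R P ∧ delta R P ≤ hi := by
  set φ := Spec.map (CommRingCat.ofHom (algebraMap R S)) with hφ
  haveI : LocallyOfFiniteType φ := by
    rw [HasRingHomProperty.Spec_iff (P := @LocallyOfFiniteType)]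
    exact RingHom.finiteType_algebraMap.mpr inferInstance
  obtain ⟨n, hn⟩ := Groth.Agent.TrdegBoundH8.exists_global_bound φ
  obtain ⟨D, hD⟩ : ∃ D : ℕ, ringKrullDim R ≤ (D : WithBot ℕ∞) := by
    rcases h : ringKrullDim R with _ | e
    · exact ⟨0, bot_le⟩
    · have he : e ≠ ⊤ := by
        intro he
        rw [h, he] at hdim
        exact lt_irrefl _ hdim
      refine ⟨e.toNat, ?_⟩
      have : ((e.toNat : ℕ) : WithBot ℕ∞) = ((e : ℕ∞) : WithBot ℕ∞) := by
        have h1 : ((e.toNat : ℕ) : ℕ∞) = e := ENat.natCast_toNat he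
        rw [← h1]; rfl
      rw [this]
      exact le_rfl
  refine ⟨-(D : ℤ), (n : ℤ), ?_⟩
  intro P hP
  haveI := hP
  unfold delta
  have h1 : Algebra.trdeg (R ⧸ P.under R) (S ⧸ P) ≤ n := by
    rw [← ResTrdegSpecH8.resTrdeg_spec (A := R) (C := S) P]
    exact hn (⟨P, hP⟩ : PrimeSpectrum S)
  have h2 : Cardinal.toNat (Algebra.trdeg (R ⧸ P.under R) (S ⧸ P)) ≤ n := by
    have := Cardinal.toNat_le_toNat h1 (Cardinal.natCast_lt_aleph0)
    rwa [Cardinal.toNat_natCast] at this
  have h3 : (P.under R).height.toNat ≤ D := by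
    haveI : (P.under R).IsPrime := Ideal.comap_isPrime _ _
    have h4 := Ideal.height_le_ringKrullDim_of_ne_top (I := P.under R) Ideal.IsPrime.ne_top'
    have h5 := h4.trans hD
    have h6 : ((P.under R).height : WithBot ℕ∞) ≤ (((D : ℕ∞)) : WithBot ℕ∞) := h5
    have h7 : (P.under R).height ≤ (D : ℕ∞) := WithBot.coe_le_coe.mp h6
    have := ENat.toNat_le_toNat h7 (ENat.natCast_ne_top D)
    rwa [ENat.toNat_natCast] at this
  constructor <;> omega

include hR hdim in
theorem main14734 (M : Submonoid S) (T : Type u) [CommRing T] [Algebra S T] [IsLocalization M T] :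
    CAlg.IsCatenary S ∧ ringKrullDim S < ⊤ ∧ CAlg.IsCatenary T ∧ ringKrullDim T < ⊤ := by
  obtain ⟨lo, hi, hb⟩ := exists_delta_bounds (R := R) (S := S) hdim
  -- S
  let δS : PrimeSpectrum S → ℤ := fun x => delta R x.asIdeal
  have haS : ∀ x y : PrimeSpectrum S, x < y → δS y < δS x := by
    intro x y hxy
    exact delta_lt hR hdim x.asIdeal y.asIdeal hxy
  have hbS : ∀ x y : PrimeSpectrum S, x ⋖ y → δS x = δS y + 1 := by
    intro x y hxy
    exact (covBy_iff hR hdim x.asIdeal y.asIdeal hxy.lt).mp hxy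
  -- T
  let c : PrimeSpectrum T → PrimeSpectrum S := PrimeSpectrum.comap (algebraMap S T)
  have hcinj : Function.Injective c := PrimeSpectrum.localization_comap_injective T M
  have hcmono : ∀ x y : PrimeSpectrum T, x ≤ y → c x ≤ c y := by
    intro x y hxy
    exact Ideal.comap_mono hxy
  have hcle : ∀ x y : PrimeSpectrum T, c x ≤ c y → x ≤ y := by
    intro x y hxy
    have h1 : (c x).asIdeal ≤ (c y).asIdeal := hxy
    have h2 := Ideal.map_mono (f := algebraMap S T) h1
    have e1 : (c x).asIdeal.map (algebraMap S T) = x.asIdeal := IsLocalization.map_under M T _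
    have e2 : (c y).asIdeal.map (algebraMap S T) = y.asIdeal := IsLocalization.map_under M T _
    rw [e1, e2] at h2
    exact h2
  have hclt : ∀ x y : PrimeSpectrum T, x < y → c x < c y := by
    intro x y hxy
    exact lt_of_le_of_ne (hcmono x y hxy.le) (fun e => hxy.ne (hcinj e))
  have hccov : ∀ x y : PrimeSpectrum T, x ⋖ y → c x ⋖ c y := by
    intro x y hxy
    refine ⟨hclt x y hxy.lt, ?_⟩
    intro z hxz hzy
    have hdy : Disjoint (M : Set S) ((c y).asIdeal : Set S) :=
      ((IsLocalization.isPrime_iff_isPrime_disjoint M T y.asIdeal).mp y.isPrime).2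
    have hdz : Disjoint (M : Set S) (z.asIdeal : Set S) := by
      rw [Set.disjoint_left] at hdy ⊢
      intro s hs hs'
      exact hdy hs (hzy.le hs')
    let z' : PrimeSpectrum T := ⟨z.asIdeal.map (algebraMap S T),
      IsLocalization.isPrime_of_isPrime_disjoint M T _ z.isPrime hdz⟩
    have hz' : c z' = z := by
      apply PrimeSpectrum.ext
      exact IsLocalization.under_map_of_isPrime_disjoint M T z.isPrime hdz
    rw [← hz'] at hxz hzy
    have h1 : x < z' := lt_of_le_of_ne (hcle _ _ hxz.le) (fun e => hxz.ne (by rw [e]))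
    have h2 : z' < y := lt_of_le_of_ne (hcle _ _ hzy.le) (fun e => hzy.ne (by rw [e]))
    exact hxy.2 h1 h2
  let δT : PrimeSpectrum T → ℤ := fun x => δS (c x)
  have haT : ∀ x y : PrimeSpectrum T, x < y → δT y < δT x := fun x y hxy =>
    haS _ _ (hclt x y hxy)
  have hbT : ∀ x y : PrimeSpectrum T, x ⋖ y → δT x = δT y + 1 := fun x y hxy =>
    hbS _ _ (hccov x y hxy)
  refine ⟨catenary_of_delta δS haS hbS,
    dim_lt_top_of_delta δS haS lo hi (fun x => hb x.asIdeal x.isPrime),
    catenary_of_delta δT haT hbT,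
    dim_lt_top_of_delta δT haT lo hi (fun x => hb (c x).asIdeal (c x).isPrime)⟩

end main

end Groth.Agent.Lib.PruferDimH8
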