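import Mathlib

namespace Groth.Agent.Lib.PruferInfH4

universe u

section KL
variable {K : Type u} [Field K]

/-- geometric sum -/
def gs (a : K) (s : ℕ) : K := ∑ k ∈ Finset.range s, a ^ k

theorem gs_zero (a : K) : gs a 0 = 0 := by simp [gs]

theorem gs_succ (a : K) (s : ℕ) : gs a (s + 1) = gs a s + a ^ s := by
  simp [gs, Finset.sum_range_succ]

theorem gs_one (a : K) : gs a 1 = 1 := by simp [gs]

theorem gs_add (a : K) (s t : ℕ) : gs a (s + t) = gs a s + a ^ s * gs a t := by
  induction t with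
  | zero => simp [gs_zero]
  | succ t ih => rw [← add_assoc, gs_succ, ih, gs_succ, pow_add]; ring

variable {Γ : Type*} [LinearOrderedCommGroupWithZero Γ] (v : Valuation K Γ)

theorem v_gs_le_one {a : K} (ha : v a ≤ 1) (s : ℕ) : v (gs a s) ≤ 1 := by
  unfold gs
  apply Valuation.map_sum_le
  intro k _
  rw [map_pow]
  exact pow_le_one₀ zero_le' ha

theorem v_gs_of_one_lt {a : K} (ha : 1 < v a) (n : ℕ) : v (gs a (n + 1)) = v a ^ n := by
  induction n with
  | zero => simp [gs_one]
  | succ n ih =>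
    rw [gs_succ]
    have h : v (gs a (n + 1)) < v (a ^ (n + 1)) := by
      rw [ih, map_pow]
      exact pow_lt_pow_right₀ ha (Nat.lt_succ_self n)
    rw [Valuation.map_add_eq_of_lt_right _ h, map_pow]

theorem v_gs_sub_one_lt {a : K} (ha : v a ≤ 1) {t : ℕ} (ht : v (gs a t) < 1) (m : ℕ) :
    v (gs a (1 + m * t) - 1) < 1 := by
  induction m with
  | zero => simp [gs_one]
  | succ m ih =>
    have e : gs a (1 + (m + 1) * t) - 1 =
        (gs a (1 + m * t) - 1) + a ^ (1 + m * t) * gs a t := by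
      have : 1 + (m + 1) * t = (1 + m * t) + t := by ring
      rw [this, gs_add]; ring
    rw [e]
    apply Valuation.map_add_lt _ ih
    rw [map_mul, map_pow]
    calc v a ^ (1 + m * t) * v (gs a t) ≤ 1 * v (gs a t) :=
          mul_le_mul' (pow_le_one₀ zero_le' ha) le_rfl
      _ < 1 := by rwa [one_mul]

theorem v_gs_eq_one {a : K} (ha : v a ≤ 1) {t : ℕ} (ht : v (gs a t) < 1) {N : ℕ}
    (hN : t ∣ N) : v (gs a (1 + N)) = 1 := by
  obtain ⟨m, rfl⟩ := hN
  have h := v_gs_sub_one_lt v ha ht m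
  have e : gs a (1 + t * m) = (gs a (1 + m * t) - 1) + 1 := by rw [mul_comm]; ring
  rw [e, Valuation.map_add_eq_of_lt_right]
  · exact v.map_one
  · rw [v.map_one]; exact h

theorem key {ι : Type*} [Finite ι] [Nonempty ι] (W : ι → ValuationSubring K) (a : K) :
    ∃ y : K, y ≠ 0 ∧ (∀ i, y ∈ W i ∧ a * y ∈ W i) ∧ ∀ i, a ∈ W i → y⁻¹ ∈ W i := by
  classical
  cases nonempty_fintype ι
  let P : ι → ℕ → Prop := fun i t => 1 ≤ t ∧ (W i).valuation (gs a t) < 1
  let t : ι → ℕ := fun i => if h : ∃ t, P i t then h.choose else 1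
  have ht1 : ∀ i, 1 ≤ t i := by
    intro i
    by_cases h : ∃ t, P i t
    · simp only [t, dif_pos h]; exact h.choose_spec.1
    · simp only [t, dif_neg h]; exact le_rfl
  obtain ⟨N, hNdef⟩ : ∃ N, N = ∏ i, t i := ⟨_, rfl⟩
  have hNpos : 1 ≤ N := by
    rw [hNdef]
    exact Nat.one_le_iff_ne_zero.mpr
      (Finset.prod_ne_zero_iff.mpr fun i _ => by have := ht1 i; omega)
  have hdvd : ∀ i, t i ∣ N := fun i => hNdef ▸ Finset.dvd_prod_of_mem t (Finset.mem_univ i)
  have hin : ∀ i, a ∈ W i → (W i).valuation (gs a (1 + N)) = 1 := by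
    intro i hi
    have ha : (W i).valuation a ≤ 1 := ((W i).valuation_le_one_iff a).mpr hi
    by_cases h : ∃ t, P i t
    · have hspec := h.choose_spec
      have hti : t i = h.choose := by simp only [t, dif_pos h]
      exact v_gs_eq_one _ ha hspec.2 (hti ▸ hdvd i)
    · apply le_antisymm (v_gs_le_one _ ha _)
      by_contra hlt
      exact h ⟨1 + N, by omega, not_le.mp hlt⟩
  have hout : ∀ i, a ∉ W i →
      (W i).valuation (gs a (1 + N)) = (W i).valuation a ^ N ∧ 1 < (W i).valuation a := by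
    intro i hi
    have ha : 1 < (W i).valuation a :=
      not_le.mp (fun h => hi (((W i).valuation_le_one_iff a).mp h))
    refine ⟨?_, ha⟩
    rw [add_comm]; exact v_gs_of_one_lt _ ha N
  have hne : gs a (1 + N) ≠ 0 := by
    obtain ⟨i⟩ := ‹Nonempty ι›
    intro h0
    by_cases hi : a ∈ W i
    · have := hin i hi
      rw [h0, map_zero] at this
      exact zero_ne_one this
    · obtain ⟨h1, h2⟩ := hout i hi
      rw [h0, map_zero] at h1
      have hpos : 0 < (W i).valuation a := lt_trans zero_lt_one h2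
      exact (pow_ne_zero N hpos.ne') h1.symm
  refine ⟨(gs a (1 + N))⁻¹, inv_ne_zero hne, fun i => ?_, fun i hi => ?_⟩
  · by_cases hi : a ∈ W i
    · have h1 := hin i hi
      have ha : (W i).valuation a ≤ 1 := ((W i).valuation_le_one_iff a).mpr hi
      constructor
      · rw [← (W i).valuation_le_one_iff, map_inv₀, h1, inv_one]
      · rw [← (W i).valuation_le_one_iff, map_mul, map_inv₀, h1, inv_one, mul_one]; exact ha
    · obtain ⟨h1, h2⟩ := hout i hi
      have hpos : 0 < (W i).valuation a := lt_trans zero_lt_one h2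
      constructor
      · rw [← (W i).valuation_le_one_iff, map_inv₀, h1]
        exact inv_le_one_of_one_le₀ (one_le_pow₀ h2.le)
      · rw [← (W i).valuation_le_one_iff, map_mul, map_inv₀, h1,
          mul_inv_le_iff₀ (pow_pos hpos N), one_mul]
        exact le_self_pow₀ h2.le (by omega)
  · rw [inv_inv, ← (W i).valuation_le_one_iff, hin i hi]

end KL


section Loc

variable {R L : Type u} [CommRing R] [IsDomain R] [Field L] [Algebra R L] [IsFractionRing R L]

/-- membership in the localization of `R` at the prime `m`, inside the fraction field `L` -/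
def InLoc (m : Ideal R) (x : L) : Prop :=
  ∃ r s : R, s ∉ m ∧ x * algebraMap R L s = algebraMap R L r

theorem one_notMem (m : Ideal R) [hm : m.IsPrime] : (1 : R) ∉ m :=
  (Ideal.ne_top_iff_one m).mp hm.ne_top

theorem inLoc_algebraMap (m : Ideal R) [m.IsPrime] (r : R) : InLoc m (algebraMap R L r) :=
  ⟨r, 1, one_notMem m, by rw [map_one, mul_one]⟩

theorem inLoc_mul {m : Ideal R} [hm : m.IsPrime] {x y : L} (hx : InLoc m x) (hy : InLoc m y) :
    InLoc m (x * y) := by
  obtain ⟨r, s, hs, e⟩ := hx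
  obtain ⟨r', s', hs', e'⟩ := hy
  refine ⟨r * r', s * s', fun h => (hm.mem_or_mem h).elim hs hs', ?_⟩
  rw [map_mul, map_mul, ← e, ← e']; ring

theorem inLoc_add {m : Ideal R} [hm : m.IsPrime] {x y : L} (hx : InLoc m x) (hy : InLoc m y) :
    InLoc m (x + y) := by
  obtain ⟨r, s, hs, e⟩ := hx
  obtain ⟨r', s', hs', e'⟩ := hy
  refine ⟨r * s' + r' * s, s * s', fun h => (hm.mem_or_mem h).elim hs hs', ?_⟩
  rw [map_add, map_mul, map_mul, map_mul, ← e, ← e']; ring

theorem inLoc_neg {m : Ideal R} {x : L} (hx : InLoc m x) : InLoc m (-x) := by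
  obtain ⟨r, s, hs, e⟩ := hx
  exact ⟨-r, s, hs, by rw [map_neg, ← e]; ring⟩

theorem inLoc_or_inv (m : Ideal R) [m.IsPrime] (h : ValuationRing (Localization.AtPrime m))
    (x : L) : InLoc m x ∨ InLoc m x⁻¹ := by
  obtain ⟨r₁, r₂, hr₂, rfl⟩ := IsFractionRing.div_surjective (A := R) x
  have hr₂' : r₂ ≠ 0 := nonZeroDivisors.ne_zero hr₂
  have hinjL := IsFractionRing.injective R L
  have hr₂L : algebraMap R L r₂ ≠ 0 := fun h0 => hr₂' (hinjL (by rw [h0, map_zero]))
  by_cases hr₁ : r₁ = 0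
  · left
    rw [hr₁, map_zero, zero_div]
    exact ⟨0, 1, one_notMem m, by simp⟩
  have hr₁L : algebraMap R L r₁ ≠ 0 := fun h0 => hr₁ (hinjL (by rw [h0, map_zero]))
  have hinj : Function.Injective (algebraMap R (Localization.AtPrime m)) :=
    IsLocalization.injective _ (Ideal.primeCompl_le_nonZeroDivisors m)
  obtain ⟨c, hc⟩ := h.cond' (algebraMap R _ r₁) (algebraMap R _ r₂)
  obtain ⟨t, s, rfl⟩ := IsLocalization.exists_mk'_eq m.primeCompl c
  rcases hc with hc | hc
  · right
    rw [IsLocalization.mul_mk'_eq_mk'_of_mul, IsLocalization.mk'_eq_iff_eq_mul, ← map_mul] at hc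
    have e := hinj hc
    refine ⟨t, s, s.2, ?_⟩
    rw [inv_div, div_mul_eq_mul_div, div_eq_iff hr₁L, ← map_mul, ← map_mul, mul_comm t, e]
  · left
    rw [IsLocalization.mul_mk'_eq_mk'_of_mul, IsLocalization.mk'_eq_iff_eq_mul, ← map_mul] at hc
    have e := hinj hc
    refine ⟨t, s, s.2, ?_⟩
    rw [div_mul_eq_mul_div, div_eq_iff hr₂L, ← map_mul, ← map_mul, mul_comm t, e]

/-- the localization at a prime as a valuation subring of the fraction field -/
noncomputable def V (m : Ideal R) [m.IsPrime] (h : ValuationRing (Localization.AtPrime m)) :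
    ValuationSubring L where
  carrier := {x | InLoc m x}
  mul_mem' := fun hx hy => inLoc_mul hx hy
  one_mem' := by simpa using inLoc_algebraMap (L := L) m 1
  add_mem' := fun hx hy => inLoc_add hx hy
  zero_mem' := by simpa using inLoc_algebraMap (L := L) m 0
  neg_mem' := fun hx => inLoc_neg hx
  mem_or_inv_mem' := inLoc_or_inv m h

theorem mem_V {m : Ideal R} [m.IsPrime] {h : ValuationRing (Localization.AtPrime m)} {x : L} :
    x ∈ V (L := L) m h ↔ InLoc m x := Iff.rfl

theorem mem_range_of_forall_inLoc (x : L)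
    (hx : ∀ i : MaximalSpectrum R, InLoc i.asIdeal x) : x ∈ (algebraMap R L).range := by
  let D : Ideal R :=
    { carrier := {s | ∃ r, x * algebraMap R L s = algebraMap R L r}
      add_mem' := by
        rintro a b ⟨r, hr⟩ ⟨r', hr'⟩
        exact ⟨r + r', by rw [map_add, mul_add, hr, hr', map_add]⟩
      zero_mem' := ⟨0, by simp⟩
      smul_mem' := by
        rintro c a ⟨r, hr⟩
        exact ⟨c * r, by rw [smul_eq_mul, map_mul, map_mul, ← hr]; ring⟩ }
  have hD : D = ⊤ := by
    by_contra hne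
    obtain ⟨M, hM, hDM⟩ := Ideal.exists_le_maximal D hne
    obtain ⟨r, s, hs, e⟩ := hx ⟨M, hM⟩
    exact hs (hDM ⟨r, e⟩)
  have h1 : (1 : R) ∈ D := hD ▸ Submodule.mem_top
  obtain ⟨r, hr⟩ := h1
  exact ⟨r, by rw [← hr, map_one, mul_one]⟩

end Loc


section Main

variable (R L : Type u) [CommRing R] [IsDomain R] [Field L] [Algebra R L] [IsFractionRing R L]
  (hR : ∀ (p : Ideal R) [p.IsPrime], ValuationRing (Localization.AtPrime p)) (K : Subfield L)

/-- the ring `R ∩ K` -/
abbrev T : Subring L := (algebraMap R L).range ⊓ K.toSubring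

/-- the valuation rings of `K` induced by the maximal ideals of `R` -/
noncomputable def W (i : MaximalSpectrum R) : ValuationSubring K :=
  (V (L := L) i.asIdeal (hR i.asIdeal)).comap K.subtype

theorem mem_W (i : MaximalSpectrum R) (w : K) :
    w ∈ W R L hR K i ↔ InLoc i.asIdeal (w : L) := Iff.rfl

theorem mem_T_iff (x : L) : x ∈ T R L K ↔ x ∈ K ∧ ∀ i : MaximalSpectrum R, InLoc i.asIdeal x := by
  constructor
  · rintro ⟨⟨r, rfl⟩, hK⟩
    exact ⟨hK, fun i => inLoc_algebraMap _ r⟩
  · rintro ⟨hK, h⟩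
    exact ⟨mem_range_of_forall_inLoc x h, hK⟩

/-- `R ∩ K → K` -/
noncomputable def toK : T R L K →+* K :=
  (T R L K).subtype.codRestrict K (fun z => ((mem_T_iff R L K z.1).mp z.2).1)

theorem toK_coe (z : T R L K) : ((toK R L K z : K) : L) = z.1 := rfl

theorem toK_injective : Function.Injective (toK R L K) := by
  intro z z' h
  apply Subtype.ext
  rw [← toK_coe, ← toK_coe, h]

/-- elements of `K` lying in all the valuation rings are in `R ∩ K` -/
noncomputable def ofK (w : K) (h : ∀ i, w ∈ W R L hR K i) : T R L K :=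
  ⟨w.1, (mem_T_iff R L K w.1).mpr ⟨w.2, fun i => h i⟩⟩

theorem toK_ofK (w : K) (h : ∀ i, w ∈ W R L hR K i) : toK R L K (ofK R L hR K w h) = w :=
  Subtype.ext rfl

theorem toK_mem_W (z : T R L K) (i : MaximalSpectrum R) : toK R L K z ∈ W R L hR K i :=
  ((mem_T_iff R L K z.1).mp z.2).2 i

/-- `R ∩ K → W i` -/
noncomputable def toW (i : MaximalSpectrum R) : T R L K →+* W R L hR K i :=
  (toK R L K).codRestrict (W R L hR K i) (fun z => toK_mem_W R L hR K z i)

/-- the centre of `W i` on `R ∩ K` -/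
noncomputable def pp (i : MaximalSpectrum R) : Ideal (T R L K) :=
  (IsLocalRing.maximalIdeal (W R L hR K i)).comap (toW R L hR K i)

instance (i : MaximalSpectrum R) : (pp R L hR K i).IsPrime := by
  unfold pp; infer_instance

theorem mem_pp_iff (i : MaximalSpectrum R) (z : T R L K) :
    z ∈ pp R L hR K i ↔ (W R L hR K i).valuation (toK R L K z) < 1 := by
  unfold pp
  rw [Ideal.mem_comap, ValuationSubring.valuation_lt_one_iff]
  rfl

theorem nonempty_maxSpec : Nonempty (MaximalSpectrum R) := by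
  obtain ⟨M, hM⟩ := Ideal.exists_maximal R
  exact ⟨⟨M, hM⟩⟩

theorem exists_le_pp [Finite (MaximalSpectrum R)] (I : Ideal (T R L K)) (hI : I ≠ ⊤) :
    ∃ i, I ≤ pp R L hR K i := by
  classical
  cases nonempty_fintype (MaximalSpectrum R)
  obtain ⟨i₀⟩ := nonempty_maxSpec R
  have hsub : (I : Set (T R L K)) ⊆
      ⋃ i ∈ ((Finset.univ : Finset (MaximalSpectrum R)) : Set (MaximalSpectrum R)),
        (pp R L hR K i : Set (T R L K)) := by
    intro z hz
    by_contra hnot
    simp only [Set.mem_iUnion, not_exists] at hnot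
    have hv : ∀ i, ¬ (W R L hR K i).valuation (toK R L K z) < 1 := fun i h =>
      hnot i (by simp) ((mem_pp_iff R L hR K i z).mpr h)
    have hunit : ∀ i, (toK R L K z)⁻¹ ∈ W R L hR K i := by
      intro i
      rw [← ValuationSubring.valuation_le_one_iff, map_inv₀]
      exact inv_le_one_of_one_le₀ (not_lt.mp (hv i))
    have hz0 : toK R L K z ≠ 0 := by
      intro h0
      apply hv i₀
      rw [h0, map_zero]
      exact zero_lt_one
    have h1 : z * ofK R L hR K (toK R L K z)⁻¹ hunit = 1 :=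
      toK_injective R L K (by rw [map_mul, toK_ofK, map_one, mul_inv_cancel₀ hz0])
    exact hI ((Ideal.eq_top_iff_one I).mpr (h1 ▸ I.mul_mem_right _ hz))
  obtain ⟨i, _, hi⟩ := (Ideal.subset_union_prime i₀ i₀ (fun i _ _ _ => inferInstance)).mp hsub
  exact ⟨i, hi⟩

include hR in
theorem finite_maxSpec [Finite (MaximalSpectrum R)] : Finite (MaximalSpectrum (T R L K)) := by
  classical
  have h : ∀ M : MaximalSpectrum (T R L K), ∃ i, M.asIdeal = pp R L hR K i := by
    intro M
    obtain ⟨i, hi⟩ := exists_le_pp R L hR K M.asIdeal M.isMaximal.ne_top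
    exact ⟨i, M.isMaximal.eq_of_le (Ideal.IsPrime.ne_top inferInstance) hi⟩
  choose f hf using h
  refine Finite.of_injective f ?_
  intro M M' hMM'
  apply MaximalSpectrum.ext
  rw [hf M, hf M', hMM']

include hR in
theorem frac [Finite (MaximalSpectrum R)] (x : L) (hx : x ∈ K) :
    ∃ a b : L, a ∈ T R L K ∧ b ∈ T R L K ∧ b ≠ 0 ∧ x = a / b := by
  haveI := nonempty_maxSpec R
  obtain ⟨y, hy0, hy, -⟩ := key (W R L hR K) (⟨x, hx⟩ : K)
  refine ⟨x * y.1, y.1, ?_, ?_, ?_, ?_⟩
  · exact (ofK R L hR K (⟨x, hx⟩ * y) (fun i => (hy i).2)).2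
  · exact (ofK R L hR K y (fun i => (hy i).1)).2
  · intro h0
    exact hy0 (Subtype.ext h0)
  · have : (y : L) ≠ 0 := fun h0 => hy0 (Subtype.ext h0)
    field_simp

include hR in
theorem valuationRing_loc [Finite (MaximalSpectrum R)] (q : Ideal (T R L K)) [hq : q.IsPrime] :
    ValuationRing (Localization.AtPrime q) := by
  haveI := nonempty_maxSpec R
  obtain ⟨i, hi⟩ := exists_le_pp R L hR K q hq.ne_top
  -- an element of `K` in all `W j` which is a unit in `W i` gives an element outside `q`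
  have hout : ∀ (y : K) (hy : ∀ j, y ∈ W R L hR K j), y ≠ 0 → y⁻¹ ∈ W R L hR K i →
      ofK R L hR K y hy ∈ q.primeCompl := by
    intro y hy hy0 hyi hmem
    have h1 := (mem_pp_iff R L hR K i _).mp (hi hmem)
    rw [toK_ofK] at h1
    have h2 : (W R L hR K i).valuation y⁻¹ ≤ 1 :=
      ((W R L hR K i).valuation_le_one_iff _).mpr hyi
    rw [map_inv₀, inv_le_one₀ ((Valuation.pos_iff _).mpr hy0)] at h2
    exact absurd h1 (not_lt.mpr h2)
  have hne : ∀ s : q.primeCompl, toK R L K s.1 ≠ 0 := by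
    intro s h0
    have : s.1 = 0 := toK_injective R L K (by rw [h0, map_zero])
    exact s.2 (this ▸ q.zero_mem)
  refine { cond' := fun a b => ?_ }
  obtain ⟨x, s, rfl⟩ := IsLocalization.exists_mk'_eq q.primeCompl a
  obtain ⟨y, t, rfl⟩ := IsLocalization.exists_mk'_eq q.primeCompl b
  by_cases hy : y = 0
  · exact ⟨0, Or.inl (by rw [hy, IsLocalization.mk'_zero, mul_zero])⟩
  by_cases hx : x = 0
  · exact ⟨0, Or.inr (by rw [hx, IsLocalization.mk'_zero, mul_zero])⟩
  have hx' : toK R L K x ≠ 0 := fun h0 => hx (toK_injective R L K (by rw [h0, map_zero]))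
  have hy' : toK R L K y ≠ 0 := fun h0 => hy (toK_injective R L K (by rw [h0, map_zero]))
  have hs' := hne s
  have ht' := hne t
  obtain ⟨z, hz⟩ : ∃ z : K, z = toK R L K x * toK R L K t / (toK R L K y * toK R L K s) :=
    ⟨_, rfl⟩
  rcases (W R L hR K i).mem_or_inv_mem z with hzi | hzi
  · obtain ⟨y₀, hy0, hy₀, hunit⟩ := key (W R L hR K) z
    have hY := hout y₀ (fun j => (hy₀ j).1) hy0 (hunit i hzi)
    refine ⟨IsLocalization.mk' _ (ofK R L hR K (z * y₀) (fun j => (hy₀ j).2))
      ⟨ofK R L hR K y₀ (fun j => (hy₀ j).1), hY⟩, Or.inr ?_⟩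
    rw [← IsLocalization.mk'_mul]
    apply IsLocalization.mk'_eq_of_eq
    apply toK_injective R L K
    simp only [map_mul, toK_ofK, Submonoid.coe_mul]
    rw [hz]
    field_simp
  · obtain ⟨y₀, hy0, hy₀, hunit⟩ := key (W R L hR K) z⁻¹
    have hY := hout y₀ (fun j => (hy₀ j).1) hy0 (hunit i hzi)
    refine ⟨IsLocalization.mk' _ (ofK R L hR K (z⁻¹ * y₀) (fun j => (hy₀ j).2))
      ⟨ofK R L hR K y₀ (fun j => (hy₀ j).1), hY⟩, Or.inl ?_⟩
    rw [← IsLocalization.mk'_mul]
    apply IsLocalization.mk'_eq_of_eq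
    apply toK_injective R L K
    simp only [map_mul, toK_ofK, Submonoid.coe_mul]
    rw [hz]
    field_simp

include hR in
theorem main (hfin : Finite (MaximalSpectrum R)) :
    (∀ (p : Ideal ↥((algebraMap R L).range ⊓ K.toSubring)) [p.IsPrime],
        ValuationRing (Localization.AtPrime p)) ∧
      Finite (MaximalSpectrum ↥((algebraMap R L).range ⊓ K.toSubring)) ∧
      ∀ x : L, x ∈ K → ∃ a b : L, a ∈ (algebraMap R L).range ⊓ K.toSubring ∧
        b ∈ (algebraMap R L).range ⊓ K.toSubring ∧ b ≠ 0 ∧ x = a / b :=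
  ⟨fun p _ => valuationRing_loc R L hR K p, finite_maxSpec R L hR K, frac R L hR K⟩

end Main

end Groth.Agent.Lib.PruferInfH4
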