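import Mathlib
import Groth.Agent.Lib.PruferInf_helper4

namespace Groth.Agent.Lib.PruferDimH4

open Groth.Agent.Lib.PruferInfH4

universe u

section Gamma

variable {Γ : Type*} [LinearOrderedCommGroupWithZero Γ]

/-- `g` is infinitely smaller than `h` -/
def Ll (g h : Γ) : Prop := ∀ e : ℕ, g < h ^ e

theorem bad_unique {g h a : Γ} (h1 : Ll g h) (h2 : ¬ Ll a h) (h3 : ¬ Ll g a) : False := by
  unfold Ll at h2 h3
  push_neg at h2 h3
  obtain ⟨e1, he1⟩ := h2
  obtain ⟨e2, he2⟩ := h3
  have h4 : h ^ (e1 * e2) ≤ a ^ e2 := by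
    rw [pow_mul]; exact pow_le_pow_left' he1 e2
  exact absurd (h1 (e1 * e2)) (not_lt.mpr (h4.trans he2))

theorem Ll_mul {a x y : Γ} (hx : Ll a x) (hy : Ll a y) : Ll a (x * y) := by
  intro e
  rcases le_total x y with h | h
  · calc a < x ^ (2 * e) := hx _
      _ = (x * x) ^ e := by rw [pow_mul, pow_two]
      _ ≤ (x * y) ^ e := pow_le_pow_left' (mul_le_mul' le_rfl h) e
  · calc a < y ^ (2 * e) := hy _
      _ = (y * y) ^ e := by rw [pow_mul, pow_two]
      _ ≤ (x * y) ^ e := pow_le_pow_left' (mul_le_mul' h le_rfl) e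

theorem Ll_pow {a x : Γ} (hx : Ll a x) (n : ℕ) : Ll a (x ^ n) := by
  intro e; rw [← pow_mul]; exact hx _

theorem Ll_one {a : Γ} (ha : a < 1) : Ll a 1 := by
  intro e; rw [one_pow]; exact ha

theorem Ll_prod {ι : Type*} (t : Finset ι) {a : Γ} (ha : a < 1) (g : ι → Γ) (γ : ι → ℕ)
    (hg : ∀ i ∈ t, Ll a (g i)) : Ll a (∏ i ∈ t, g i ^ γ i) :=
  Finset.prod_induction _ (Ll a) (fun _ _ => Ll_mul) (Ll_one ha) (fun i hi => Ll_pow (hg i hi) _)

theorem dv_aux {ι : Type*} [DecidableEq ι] (g : ι → Γ) (h0 : ∀ i, 0 < g i) (h1 : ∀ i, g i < 1)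
    (hc : ∀ i j, i ≠ j → Ll (g i) (g j) ∨ Ll (g j) (g i)) (t : Finset ι) :
    ∀ γ δ : ι → ℕ, ∏ i ∈ t, g i ^ γ i = ∏ i ∈ t, g i ^ δ i → ∀ i ∈ t, γ i = δ i := by
  induction t using Finset.strongInduction with
  | H t ih =>
    intro γ δ hprod
    rcases t.eq_empty_or_nonempty with rfl | hne
    · intro i hi; simp at hi
    obtain ⟨m, hm, hmin⟩ := Finset.exists_min_image t g hne
    have hll : ∀ i ∈ t.erase m, Ll (g m) (g i) := by
      intro i hi
      have him : i ≠ m := Finset.ne_of_mem_erase hi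
      have hit : i ∈ t := Finset.mem_of_mem_erase hi
      rcases hc m i him.symm with h | h
      · exact h
      · exfalso
        have := h 1
        rw [pow_one] at this
        exact absurd this (not_lt.mpr (hmin i hit))
    have split : ∀ γ : ι → ℕ, ∏ i ∈ t, g i ^ γ i = g m ^ γ m * ∏ i ∈ t.erase m, g i ^ γ i :=
      fun γ => (Finset.mul_prod_erase t (fun i => g i ^ γ i) hm).symm
    have key : ∀ γ δ : ι → ℕ, ∏ i ∈ t, g i ^ γ i = ∏ i ∈ t, g i ^ δ i → ¬ γ m < δ m := by
      intro γ δ hprod hlt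
      rw [split γ, split δ] at hprod
      obtain ⟨k, hk⟩ : ∃ k, δ m = γ m + (k + 1) := ⟨δ m - γ m - 1, by omega⟩
      rw [hk, pow_add, mul_assoc] at hprod
      have hP := mul_left_cancel₀ (pow_ne_zero _ (h0 m).ne') hprod
      have hQ : ∏ i ∈ t.erase m, g i ^ δ i ≤ 1 :=
        Finset.prod_le_one' (fun i _ => pow_le_one' (h1 i).le _)
      have h2 : g m ^ (k + 1) * ∏ i ∈ t.erase m, g i ^ δ i ≤ g m := by
        calc g m ^ (k + 1) * ∏ i ∈ t.erase m, g i ^ δ i ≤ g m ^ (k + 1) * 1 :=
              mul_le_mul' le_rfl hQ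
          _ = g m ^ k * g m := by rw [mul_one, pow_succ]
          _ ≤ 1 * g m := mul_le_mul' (pow_le_one' (h1 m).le _) le_rfl
          _ = g m := one_mul _
      have h3 : g m < ∏ i ∈ t.erase m, g i ^ γ i := by
        have := Ll_prod (t.erase m) (h1 m) g γ hll 1
        rwa [pow_one] at this
      rw [hP] at h3
      exact absurd h3 (not_lt.mpr h2)
    have hm_eq : γ m = δ m := by
      rcases lt_trichotomy (γ m) (δ m) with h | h | h
      · exact absurd h (key γ δ hprod)
      · exact h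
      · exact absurd h (key δ γ hprod.symm)
    intro i hi
    by_cases him : i = m
    · rw [him]; exact hm_eq
    · rw [split γ, split δ, hm_eq] at hprod
      have hP := mul_left_cancel₀ (pow_ne_zero _ (h0 m).ne') hprod
      exact ih (t.erase m) (Finset.erase_ssubset hm) γ δ hP i (Finset.mem_erase.mpr ⟨him, hi⟩)

theorem H_some {ι : Type*} [Fintype ι] [DecidableEq ι] (g : ι → Γ) (a : Γ)
    (h0 : ∀ i, 0 < g i) (h1 : ∀ i, g i < 1)
    (hc : ∀ i j, i ≠ j → Ll (g i) (g j) ∨ Ll (g j) (g i))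
    (ha : a = 1 ∨ (0 < a ∧ a < 1 ∧ ∀ i, Ll a (g i) ∨ Ll (g i) a)) :
    ∀ (γ δ : ι → ℕ) (e e' : ℕ),
      a ^ e * ∏ i, g i ^ γ i = a ^ e' * ∏ i, g i ^ δ i → γ = δ := by
  intro γ δ e e' h
  rcases ha with rfl | ⟨ha0, ha1, hac⟩
  · simp only [one_pow, one_mul] at h
    funext i
    exact dv_aux g h0 h1 hc Finset.univ γ δ h i (Finset.mem_univ i)
  · have hG0 : ∀ o : Option ι, 0 < o.elim a g := by
      rintro (_ | i)
      · exact ha0
      · exact h0 i
    have hG1 : ∀ o : Option ι, o.elim a g < 1 := by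
      rintro (_ | i)
      · exact ha1
      · exact h1 i
    have hGc : ∀ o o' : Option ι, o ≠ o' →
        Ll (o.elim a g) (o'.elim a g) ∨ Ll (o'.elim a g) (o.elim a g) := by
      rintro (_ | i) (_ | j) hne
      · exact absurd rfl hne
      · exact hac j
      · exact (hac i).symm
      · exact hc i j (fun h => hne (congrArg some h))
    have := dv_aux (fun o : Option ι => o.elim a g) hG0 hG1 hGc Finset.univ
      (fun o => o.elim e γ) (fun o => o.elim e' δ)
      (by rw [Fintype.prod_option, Fintype.prod_option]; exact h)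
    funext i
    exact this (some i) (Finset.mem_univ _)

end Gamma

section Val

variable {F : Type*} [Field F] {Γ : Type*} [LinearOrderedCommGroupWithZero Γ] (v : Valuation F Γ)

theorem sum_ne_zero_of_distinct {α : Type*} [DecidableEq α] (t : Finset α) (ht : t.Nonempty)
    (f : α → F) (hf : ∀ a ∈ t, f a ≠ 0)
    (hd : ∀ a ∈ t, ∀ b ∈ t, v (f a) = v (f b) → a = b) : ∑ a ∈ t, f a ≠ 0 := by
  obtain ⟨m, hm, hmax⟩ := Finset.exists_max_image t (fun a => v (f a)) ht
  have hlt : ∀ a ∈ t.erase m, v (f a) < v (f m) := by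
    intro a ha
    have hat := Finset.mem_of_mem_erase ha
    have ham := Finset.ne_of_mem_erase ha
    exact lt_of_le_of_ne (hmax a hat) (fun h => ham (hd a hat m hm h))
  have hm0 : v (f m) ≠ 0 := (Valuation.ne_zero_iff v).mpr (hf m hm)
  have h1 : v (∑ a ∈ t.erase m, f a) < v (f m) := Valuation.map_sum_lt v hm0 hlt
  rw [← Finset.add_sum_erase t f hm]
  intro h0
  have h2 : v (f m + ∑ a ∈ t.erase m, f a) = v (f m) := Valuation.map_add_eq_of_lt_left v h1
  rw [h0, map_zero] at h2
  exact hm0 h2.symm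

theorem int_le_one (c : ℤ) : v (c : F) ≤ 1 :=
  (Valuation.mem_integer_iff v _).mp (intCast_mem v.integer c)

/-- the integers of valuation `< 1` -/
def intIdeal : Ideal ℤ where
  carrier := {c | v (c : F) < 1}
  add_mem' := by
    intro a b ha hb
    show v ((a + b : ℤ) : F) < 1
    rw [Int.cast_add]
    exact Valuation.map_add_lt v ha hb
  zero_mem' := by
    show v ((0 : ℤ) : F) < 1
    rw [Int.cast_zero, map_zero]
    exact zero_lt_one
  smul_mem' := by
    intro c a ha
    show v ((c • a : ℤ) : F) < 1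
    rw [smul_eq_mul, Int.cast_mul, map_mul]
    calc v (c : F) * v (a : F) ≤ 1 * v (a : F) := mul_le_mul' (int_le_one v c) le_rfl
      _ = v (a : F) := one_mul _
      _ < 1 := ha

theorem mem_intIdeal (c : ℤ) : c ∈ intIdeal v ↔ v (c : F) < 1 := Iff.rfl

theorem int_val : ∃ π : F, (π = 1 ∨ (0 < v π ∧ v π < 1)) ∧
    ∀ c : ℤ, (c : F) ≠ 0 → ∃ e : ℕ, v (c : F) = v π ^ e := by
  obtain ⟨p, hp⟩ : ∃ p : ℤ, Ideal.span {p} = intIdeal v :=
    ⟨_, Ideal.span_singleton_generator (intIdeal v)⟩
  have hmem : ∀ c : ℤ, v (c : F) < 1 → ∃ d : ℤ, c = p * d := by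
    intro c hc
    have : c ∈ Ideal.span {p} := by rw [hp]; exact (mem_intIdeal v c).mpr hc
    obtain ⟨d, hd⟩ := Ideal.mem_span_singleton'.mp this
    exact ⟨d, by rw [← hd, mul_comm]⟩
  have hpI : v (p : F) < 1 := by
    rw [← mem_intIdeal, ← hp]
    exact Ideal.mem_span_singleton_self p
  by_cases hp0 : (p : F) = 0
  · refine ⟨1, Or.inl rfl, fun c hc => ⟨0, ?_⟩⟩
    rw [pow_zero]
    by_contra hne
    have hlt : v (c : F) < 1 := lt_of_le_of_ne (int_le_one v c) hne
    obtain ⟨d, rfl⟩ := hmem c hlt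
    apply hc
    rw [Int.cast_mul, hp0, zero_mul]
  · have hpne : p ≠ 0 := by
      rintro rfl
      exact hp0 Int.cast_zero
    have hp2 : 2 ≤ p.natAbs := by
      have h0 : p.natAbs ≠ 0 := Int.natAbs_ne_zero.mpr hpne
      have h1 : p.natAbs ≠ 1 := by
        intro h1
        have hvp : v (p : F) = 1 := by
          rcases Int.natAbs_eq p with h | h
          · rw [h, h1]; simp
          · rw [h, h1]; simp
        exact absurd hpI (by rw [hvp]; exact lt_irrefl _)
      omega
    refine ⟨(p : F), Or.inr ⟨(Valuation.pos_iff v).mpr hp0, hpI⟩, ?_⟩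
    have main : ∀ n : ℕ, ∀ c : ℤ, c.natAbs = n → (c : F) ≠ 0 →
        ∃ e : ℕ, v (c : F) = v (p : F) ^ e := by
      intro n
      induction n using Nat.strong_induction_on with
      | _ n ih =>
        intro c hcn hc
        by_cases h1 : v (c : F) = 1
        · exact ⟨0, by rw [pow_zero, h1]⟩
        · have hlt : v (c : F) < 1 := lt_of_le_of_ne (int_le_one v c) h1
          obtain ⟨d, hd⟩ := hmem c hlt
          have hd0 : (d : F) ≠ 0 := by
            intro h0
            apply hc
            rw [hd, Int.cast_mul, h0, mul_zero]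
          have hdne : d ≠ 0 := by
            rintro rfl
            exact hd0 Int.cast_zero
          have hlt' : d.natAbs < n := by
            rw [← hcn, hd, Int.natAbs_mul]
            have h3 : 1 ≤ d.natAbs := Int.natAbs_pos.mpr hdne
            nlinarith
          obtain ⟨e, he⟩ := ih d.natAbs hlt' d rfl hd0
          exact ⟨e + 1, by rw [hd, Int.cast_mul, map_mul, he, pow_succ, mul_comm]⟩
    exact fun c hc => main c.natAbs c rfl hc

theorem algInd (π : F) (hπ : ∀ c : ℤ, (c : F) ≠ 0 → ∃ e : ℕ, v (c : F) = v π ^ e)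
    {ι : Type*} [Fintype ι] (y : ι → F) (hy : ∀ i, y i ≠ 0)
    (H : ∀ (γ δ : ι → ℕ) (e e' : ℕ),
      v π ^ e * ∏ i, v (y i) ^ γ i = v π ^ e' * ∏ i, v (y i) ^ δ i → γ = δ) :
    AlgebraicIndependent (⊥ : Subalgebra ℤ F) y := by
  classical
  rw [algebraicIndependent_iff]
  intro p hp
  by_contra hne
  have hsupp : p.support.Nonempty := by
    rw [Finset.nonempty_iff_ne_empty]
    intro h
    exact hne (MvPolynomial.support_eq_empty.mp h)
  rw [MvPolynomial.aeval_def, MvPolynomial.eval₂_eq'] at hp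
  have hcoeff : ∀ d ∈ p.support, ∃ e : ℕ,
      v (algebraMap (⊥ : Subalgebra ℤ F) F (p.coeff d)) = v π ^ e ∧
        algebraMap (⊥ : Subalgebra ℤ F) F (p.coeff d) ≠ 0 := by
    intro d hd
    have hc : p.coeff d ≠ 0 := MvPolynomial.mem_support_iff.mp hd
    obtain ⟨c, hc'⟩ := Algebra.mem_bot.mp (p.coeff d).2
    have hval : algebraMap (⊥ : Subalgebra ℤ F) F (p.coeff d) = (c : F) := by
      rw [← eq_intCast (algebraMap ℤ F) c, hc']
      rfl
    have hne0 : algebraMap (⊥ : Subalgebra ℤ F) F (p.coeff d) ≠ 0 := by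
      intro h0
      exact hc (Subtype.ext h0)
    obtain ⟨e, he⟩ := hπ c (by rw [← hval]; exact hne0)
    exact ⟨e, by rw [hval, he], hne0⟩
  refine sum_ne_zero_of_distinct v p.support hsupp
    (fun d => algebraMap (⊥ : Subalgebra ℤ F) F (p.coeff d) * ∏ i, y i ^ d i) ?_ ?_ hp
  · intro d hd
    obtain ⟨e, he, hne0⟩ := hcoeff d hd
    exact mul_ne_zero hne0 (Finset.prod_ne_zero_iff.mpr fun i _ => pow_ne_zero _ (hy i))
  · intro d hd d' hd' hvv
    obtain ⟨e, he, -⟩ := hcoeff d hd
    obtain ⟨e', he', -⟩ := hcoeff d' hd'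
    simp only [map_mul, map_prod, map_pow] at hvv
    rw [he, he'] at hvv
    exact DFunLike.coe_injective (H _ _ e e' hvv)

end Val

section Closure

variable {L : Type u} [Field L]

theorem isAlgebraic_closure (S : Set L) :
    Algebra.IsAlgebraic
      (Algebra.adjoin (⊥ : Subalgebra ℤ (Subfield.closure S))
        ((Subfield.closure S).subtype ⁻¹' S)) (Subfield.closure S) := by
  constructor
  rintro ⟨x, hx⟩
  refine Subfield.closure_induction
    (p := fun x hx => IsAlgebraic
      (Algebra.adjoin (⊥ : Subalgebra ℤ (Subfield.closure S))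
        ((Subfield.closure S).subtype ⁻¹' S)) (⟨x, hx⟩ : Subfield.closure S))
    ?_ ?_ ?_ ?_ ?_ ?_ hx
  · intro x hxS
    have hmem : (⟨x, Subfield.subset_closure hxS⟩ : Subfield.closure S) ∈
        (Subfield.closure S).subtype ⁻¹' S := hxS
    exact isAlgebraic_algebraMap
      (⟨_, Algebra.subset_adjoin hmem⟩ : Algebra.adjoin (⊥ : Subalgebra ℤ (Subfield.closure S))
        ((Subfield.closure S).subtype ⁻¹' S))
  · exact isAlgebraic_one
  · intro x y hx hy px py
    exact px.add py
  · intro x hx px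
    exact px.neg
  · intro x hx px
    exact px.inv
  · intro x y hx hy px py
    exact px.mul py

end Closure

section Main

variable (R L : Type u) [CommRing R] [IsDomain R] [Field L] [Algebra R L] [IsFractionRing R L]
  (hR : ∀ (p : Ideal R) [p.IsPrime], ValuationRing (Localization.AtPrime p)) (K : Subfield L)

include hR in
theorem val_lt_of_mem_of_notMem [Finite (MaximalSpectrum R)] (i : MaximalSpectrum R)
    (q : Ideal (T R L K)) [hq : q.IsPrime] (hqi : q ≤ pp R L hR K i) {a b : T R L K}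
    (ha : a ∉ q) (hb : b ∈ q) :
    (W R L hR K i).valuation (toK R L K b) < (W R L hR K i).valuation (toK R L K a) := by
  haveI := nonempty_maxSpec R
  by_contra hnot
  have hle := not_lt.mp hnot
  have ha0 : toK R L K a ≠ 0 := by
    intro h0
    have : a = 0 := toK_injective R L K (by rw [h0, map_zero])
    exact ha (this ▸ q.zero_mem)
  have hb0 : toK R L K b ≠ 0 := by
    intro h0
    rw [h0, map_zero] at hle
    exact ha0 ((Valuation.zero_iff _).mp (le_antisymm hle zero_le'))
  obtain ⟨z, hz⟩ : ∃ z : K, z = toK R L K a / toK R L K b := ⟨_, rfl⟩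
  have hzi : z ∈ W R L hR K i := by
    rw [← ValuationSubring.valuation_le_one_iff, hz, map_div₀]
    exact div_le_one_of_le₀ hle zero_le'
  obtain ⟨y, hy0, hy, hunit⟩ := key (W R L hR K) z
  have hyi := hunit i hzi
  have hmul : ofK R L hR K (z * y) (fun j => (hy j).2) * b =
      a * ofK R L hR K y (fun j => (hy j).1) := by
    apply toK_injective R L K
    simp only [map_mul, toK_ofK]
    rw [hz]
    field_simp
  have hmem : a * ofK R L hR K y (fun j => (hy j).1) ∈ q := hmul ▸ q.mul_mem_left _ hb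
  rcases hq.mem_or_mem hmem with h | h
  · exact ha h
  · have h1 := (mem_pp_iff R L hR K i _).mp (hqi h)
    rw [toK_ofK] at h1
    have h2 : (W R L hR K i).valuation y⁻¹ ≤ 1 :=
      ((W R L hR K i).valuation_le_one_iff _).mpr hyi
    rw [map_inv₀, inv_le_one₀ ((Valuation.pos_iff _).mpr hy0)] at h2
    exact absurd h1 (not_lt.mpr h2)

include hR in
theorem chain_length_le [Finite (MaximalSpectrum R)] (N : ℕ)
    (hN : Algebra.trdeg (⊥ : Subalgebra ℤ K) K ≤ (N : Cardinal))
    (p : LTSeries (PrimeSpectrum (T R L K))) : p.length ≤ N + 1 := by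
  classical
  obtain ⟨i, hi⟩ := exists_le_pp R L hR K (p.last).asIdeal (p.last).isPrime.ne_top
  obtain ⟨v, hv⟩ : ∃ v : Valuation K (W R L hR K i).ValueGroup,
    v = (W R L hR K i).valuation := ⟨_, rfl⟩
  have hle : ∀ a : Fin (p.length + 1), (p a).asIdeal ≤ pp R L hR K i := fun a =>
    le_trans ((PrimeSpectrum.asIdeal_le_asIdeal _ _).mpr (p.monotone (Fin.le_last a))) hi
  have hx : ∀ j : Fin p.length,
      ∃ x : T R L K, x ∈ (p j.succ).asIdeal ∧ x ∉ (p j.castSucc).asIdeal := by
    intro j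
    exact SetLike.exists_of_lt ((PrimeSpectrum.asIdeal_lt_asIdeal _ _).mpr
      (p.strictMono (Fin.castSucc_lt_succ_iff.mpr le_rfl)))
  choose x hx1 hx2 using hx
  have hx0 : ∀ j, toK R L K (x j) ≠ 0 := by
    intro j h0
    have : x j = 0 := toK_injective R L K (by rw [h0, map_zero])
    exact hx2 j (this ▸ Ideal.zero_mem _)
  have g0 : ∀ j, 0 < v (toK R L K (x j)) := fun j => (Valuation.pos_iff v).mpr (hx0 j)
  have g1 : ∀ j, v (toK R L K (x j)) < 1 := by
    intro j
    rw [hv]
    exact (mem_pp_iff R L hR K i _).mp (hle _ (hx1 j))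
  have gll : ∀ j l : Fin p.length, j < l →
      Ll (v (toK R L K (x j))) (v (toK R L K (x l))) := by
    intro j l hjl e
    have hsc : j.succ ≤ l.castSucc := Fin.succ_le_castSucc_iff.mpr hjl
    have hb : x j ∈ (p l.castSucc).asIdeal :=
      (PrimeSpectrum.asIdeal_le_asIdeal _ _).mpr (p.monotone hsc) (hx1 j)
    have ha : x l ^ e ∉ (p l.castSucc).asIdeal := fun h =>
      hx2 l ((p l.castSucc).isPrime.mem_of_pow_mem e h)
    haveI := (p l.castSucc).isPrime
    have := val_lt_of_mem_of_notMem R L hR K i (p l.castSucc).asIdeal (hle _) ha hb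
    rw [map_pow, map_pow, ← hv] at this
    exact this
  obtain ⟨π, hπ1, hπ⟩ := int_val v
  obtain ⟨good, hgood⟩ : ∃ good : Fin p.length → Prop, good = fun j =>
    (π = 1 ∨ Ll (v π) (v (toK R L K (x j))) ∨ Ll (v (toK R L K (x j))) (v π)) := ⟨_, rfl⟩
  have hbad : ∀ j l, ¬ good j → ¬ good l → j = l := by
    intro j l hj hl
    by_contra hne
    rw [hgood] at hj hl
    simp only [not_or] at hj hl
    rcases lt_or_gt_of_ne hne with h | h
    · exact bad_unique (gll j l h) hl.2.1 hj.2.2
    · exact bad_unique (gll l j h) hj.2.1 hl.2.2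
  have hH : ∀ (γ δ : {j // good j} → ℕ) (e e' : ℕ),
      v π ^ e * ∏ i : {j // good j}, v (toK R L K (x i.1)) ^ γ i =
        v π ^ e' * ∏ i : {j // good j}, v (toK R L K (x i.1)) ^ δ i → γ = δ := by
    apply H_some (fun j : {j // good j} => v (toK R L K (x j.1))) (v π)
      (fun j => g0 j.1) (fun j => g1 j.1)
    · intro j l hjl
      have hne : j.1 ≠ l.1 := fun h => hjl (Subtype.ext h)
      rcases lt_or_gt_of_ne hne with h | h
      · exact Or.inl (gll _ _ h)
      · exact Or.inr (gll _ _ h)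
    · rcases hπ1 with h1 | ⟨h0, h1⟩
      · exact Or.inl (by rw [h1, map_one])
      · refine Or.inr ⟨h0, h1, fun j => ?_⟩
        have hj : π = 1 ∨ Ll (v π) (v (toK R L K (x j.1))) ∨ Ll (v (toK R L K (x j.1))) (v π) :=
          Eq.mp (congrFun hgood j.1) j.2
        rcases hj with h | h | h
        · rw [h, map_one] at h1; exact absurd h1 (lt_irrefl _)
        · exact Or.inl h
        · exact Or.inr h
  have hAI : AlgebraicIndependent (⊥ : Subalgebra ℤ K)
      (fun j : {j // good j} => toK R L K (x j.1)) :=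
    algInd v π hπ (fun j : {j // good j} => toK R L K (x j.1)) (fun j => hx0 j.1) hH
  have hcard : Fintype.card {j // good j} ≤ N := by
    have h := hAI.lift_cardinalMk_le_trdeg
    rw [Cardinal.mk_fintype, Cardinal.lift_natCast, Cardinal.lift_uzero] at h
    exact_mod_cast h.trans hN
  have hbad' : Fintype.card {j // ¬ good j} ≤ 1 :=
    Fintype.card_le_one_iff_subsingleton.mpr
      ⟨fun a b => Subtype.ext (hbad a.1 b.1 a.2 b.2)⟩
  have hsplit := Fintype.card_subtype_compl good
  rw [Fintype.card_fin] at hsplit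
  omega

include hR in
theorem krullDim_lt_top [Finite (MaximalSpectrum R)] (N : ℕ)
    (hN : Algebra.trdeg (⊥ : Subalgebra ℤ K) K ≤ (N : Cardinal)) :
    ringKrullDim (T R L K) < ⊤ := by
  have h : ringKrullDim (T R L K) ≤ ((N + 1 : ℕ) : WithBot ℕ∞) := by
    unfold ringKrullDim Order.krullDim
    apply iSup_le
    intro p
    exact_mod_cast chain_length_le R L hR K N hN p
  exact lt_of_le_of_lt h (WithBot.coe_lt_coe.mpr (ENat.natCast_lt_top (N + 1)))

/-- `R ∩ K` as a subring of `R` -/
def R' : Subring R := (T R L K).comap (algebraMap R L)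

/-- `R' ≃ R ∩ K` -/
noncomputable def eqv : R' R L K ≃+* T R L K :=
  RingEquiv.ofBijective ((algebraMap R L).restrict (R' R L K) (T R L K) (fun _ hx => hx))
    ⟨fun a b h => Subtype.ext (IsFractionRing.injective R L (congrArg Subtype.val h)),
     fun z => by
       obtain ⟨⟨r, hr⟩, -⟩ := z.2
       exact ⟨⟨r, by show algebraMap R L r ∈ T R L K; rw [hr]; exact z.2⟩, Subtype.ext hr⟩⟩

include hR in
theorem main_aux [Finite (MaximalSpectrum R)] (N : ℕ)
    (hN : Algebra.trdeg (⊥ : Subalgebra ℤ K) K ≤ (N : Cardinal)) :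
    (∀ (p : Ideal (R' R L K)) [p.IsPrime], ValuationRing (Localization.AtPrime p)) ∧
      Finite (MaximalSpectrum (R' R L K)) ∧ ringKrullDim (R' R L K) < ⊤ := by
  refine ⟨fun p _ => ?_, ?_, ?_⟩
  · haveI : (p.comap ((eqv R L K).symm : T R L K →+* R' R L K)).IsPrime := inferInstance
    haveI := valuationRing_loc R L hR K (p.comap ((eqv R L K).symm : T R L K →+* R' R L K))
    let f := Localization.localRingEquiv
      (p.comap ((eqv R L K).symm : T R L K →+* R' R L K)) p (eqv R L K).symm rfl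
    exact Function.Surjective.valuationRing f.toRingHom f.surjective
  · haveI := finite_maxSpec R L hR K
    refine Finite.of_injective
      (fun M : MaximalSpectrum (R' R L K) =>
        (⟨M.asIdeal.comap ((eqv R L K).symm : T R L K →+* R' R L K),
          Ideal.comap_isMaximal_of_surjective _ (eqv R L K).symm.surjective⟩ :
          MaximalSpectrum (T R L K))) ?_
    intro M M' h
    apply MaximalSpectrum.ext
    exact Ideal.comap_injective_of_surjective _ (eqv R L K).symm.surjective
      (congrArg MaximalSpectrum.asIdeal h)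
  · rw [ringKrullDim_eq_of_ringEquiv (eqv R L K)]
    exact krullDim_lt_top R L hR K N hN

end Main

theorem main (R : Type u) [CommRing R] [IsDomain R]
    (hR : ∀ (p : Ideal R) [p.IsPrime], ValuationRing (Localization.AtPrime p))
    (hfin : Finite (MaximalSpectrum R)) (s : Finset R) :
    ∃ R' : Subring R, (↑s : Set R) ⊆ R' ∧
      (∀ (p : Ideal R') [p.IsPrime], ValuationRing (Localization.AtPrime p)) ∧
      Finite (MaximalSpectrum R') ∧ ringKrullDim R' < ⊤ := by
  classical
  obtain ⟨S, hS⟩ : ∃ S : Set (FractionRing R),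
    S = algebraMap R (FractionRing R) '' (↑s : Set R) := ⟨_, rfl⟩
  have hN : Algebra.trdeg (⊥ : Subalgebra ℤ (Subfield.closure S)) (Subfield.closure S) ≤
      (s.card : Cardinal) := by
    haveI := isAlgebraic_closure S
    refine (Algebra.IsAlgebraic.trdeg_le_cardinalMk _
      ((Subfield.closure S).subtype ⁻¹' S)).trans ?_
    refine (Cardinal.mk_preimage_of_injective _ _ (RingHom.injective _)).trans ?_
    rw [hS]
    refine Cardinal.mk_image_le.trans ?_
    exact le_of_eq Cardinal.mk_coe_finset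
  refine ⟨R' R (FractionRing R) (Subfield.closure S), ?_,
    main_aux R (FractionRing R) hR (Subfield.closure S) s.card hN⟩
  intro r hr
  show algebraMap R (FractionRing R) r ∈ T R (FractionRing R) (Subfield.closure S)
  refine Subring.mem_inf.mpr ⟨⟨r, rfl⟩, ?_⟩
  apply Subfield.subset_closure
  rw [hS]
  exact ⟨r, hr, rfl⟩

end Groth.Agent.Lib.PruferDimH4
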