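import Mathlib

namespace Groth.Agent.Lib.PruferSemi

universe u

theorem total_of_le (R : Type u) [CommRing R] [IsDomain R]
    (hR : ∀ (p : Ideal R) [p.IsPrime], ValuationRing (Localization.AtPrime p))
    (M : Ideal R) (hM : M.IsPrime) (p q : Ideal R) (hp : p.IsPrime) (hq : q.IsPrime)
    (hpM : p ≤ M) (hqM : q ≤ M) : p ≤ q ∨ q ≤ p := by
  haveI := hM
  haveI := hR M
  have hdp : Disjoint (M.primeCompl : Set R) p := by
    rw [Set.disjoint_left]; intro x hx hxp; exact (Ideal.mem_primeCompl_iff.mp hx) (hpM hxp)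
  have hdq : Disjoint (M.primeCompl : Set R) q := by
    rw [Set.disjoint_left]; intro x hx hxq; exact (Ideal.mem_primeCompl_iff.mp hx) (hqM hxq)
  have e1 := IsLocalization.under_map_of_isPrime_disjoint M.primeCompl
    (Localization.AtPrime M) hp hdp
  have e2 := IsLocalization.under_map_of_isPrime_disjoint M.primeCompl
    (Localization.AtPrime M) hq hdq
  have htot : @Std.Total (Ideal (Localization.AtPrime M)) (· ≤ ·) :=
    ValuationRing.iff_ideal_total.mp inferInstance
  rcases htot.total (p.map (algebraMap R (Localization.AtPrime M)))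
    (q.map (algebraMap R (Localization.AtPrime M))) with h | h
  · left; exact e1.symm.trans_le ((Ideal.comap_mono h).trans_eq e2)
  · right; exact e2.symm.trans_le ((Ideal.comap_mono h).trans_eq e1)

theorem finite_le (R : Type u) [CommRing R] [IsDomain R]
    (hR : ∀ (p : Ideal R) [p.IsPrime], ValuationRing (Localization.AtPrime p))
    (hdim : ringKrullDim R < ⊤) (M : Ideal R) (hM : M.IsPrime) :
    {p : PrimeSpectrum R | p.asIdeal ≤ M}.Finite := by
  obtain ⟨d, hd⟩ : ∃ d : ℕ, ∀ p : PrimeSpectrum R, Order.height p ≤ (d : ℕ∞) := by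
    have h1 : ∀ p : PrimeSpectrum R, (Order.height p : WithBot ℕ∞) ≤ ringKrullDim R :=
      fun p => Order.height_le_krullDim p
    generalize ringKrullDim R = D at hdim h1
    induction D using WithBot.recBotCoe with
    | bot => exact ⟨0, fun p => absurd (h1 p) (by simp)⟩
    | coe n =>
      induction n using ENat.recTopCoe with
      | top => exact absurd hdim (by rw [WithBot.coe_top]; exact lt_irrefl _)
      | coe d => exact ⟨d, fun p => WithBot.coe_le_coe.mp (h1 p)⟩
  have hfin : ∀ p : PrimeSpectrum R, Order.height p ≠ ⊤ := fun p h => by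
    have := hd p; rw [h] at this; exact absurd this (by simp)
  refine Set.Finite.of_injOn (f := fun p : PrimeSpectrum R => (Order.height p).toNat)
    (t := Set.Iic d) ?_ ?_ (Set.finite_Iic d)
  · intro p _
    exact ENat.toNat_le_of_le_natCast (hd p)
  · intro p hp q hq hpq
    simp only at hpq
    have hh : Order.height p = Order.height q := by
      rw [← ENat.natCast_toNat (hfin p), ← ENat.natCast_toNat (hfin q), hpq]
    by_contra hne
    rcases total_of_le R hR M hM p.asIdeal q.asIdeal p.isPrime q.isPrime hp hq with h | h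
    · have hlt : p < q := lt_of_le_of_ne (show p ≤ q from h) hne
      have := Order.height_strictMono hlt (lt_top_iff_ne_top.mpr (hfin p))
      rw [hh] at this; exact lt_irrefl _ this
    · have hlt : q < p := lt_of_le_of_ne (show q ≤ p from h) (Ne.symm hne)
      have := Order.height_strictMono hlt (lt_top_iff_ne_top.mpr (hfin q))
      rw [hh] at this; exact lt_irrefl _ this

theorem main (R : Type u) [CommRing R] [IsDomain R]
    (hR : ∀ (p : Ideal R) [p.IsPrime], ValuationRing (Localization.AtPrime p))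
    (hfin : Finite (MaximalSpectrum R)) (hdim : ringKrullDim R < ⊤)
    (m : Ideal R) [hm : m.IsMaximal] :
    (∃ a : R, ∀ (p : Ideal R), p.IsPrime → (a ∈ p ↔ p = m)) ∧
      ∃ b : R, b ∉ m ∧ IsLocalization.AtPrime (Localization.Away b) m := by
  classical
  have hall : (Set.univ : Set (PrimeSpectrum R)).Finite := by
    have hU : (⋃ M : MaximalSpectrum R, {p : PrimeSpectrum R | p.asIdeal ≤ M.asIdeal}).Finite :=
      Set.finite_iUnion (fun M => finite_le R hR hdim M.asIdeal M.isMaximal.isPrime)
    refine hU.subset (fun p _ => ?_)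
    obtain ⟨M, hM, hpM⟩ := Ideal.exists_le_maximal p.asIdeal p.isPrime.ne_top
    exact Set.mem_iUnion.mpr ⟨⟨M, hM⟩, hpM⟩
  haveI : Finite (PrimeSpectrum R) := Set.finite_univ_iff.mp hall
  haveI : Fintype (PrimeSpectrum R) := Fintype.ofFinite _
  refine ⟨?_, ?_⟩
  · let S : Finset (PrimeSpectrum R) := Finset.univ.filter (fun p => p.asIdeal ≠ m)
    have hnot : ¬ ((m : Set R) ⊆ ⋃ i ∈ (↑S : Set (PrimeSpectrum R)), (i.asIdeal : Set R)) := by
      intro hsub
      have hmp : PrimeSpectrum R := ⟨m, hm.isPrime⟩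
      obtain ⟨i, hiS, hmi⟩ := (Ideal.subset_union_prime (s := S)
        (f := fun i : PrimeSpectrum R => i.asIdeal) hmp hmp (fun i _ _ _ => i.isPrime)).mp hsub
      have : i.asIdeal = m := (hm.eq_of_le i.isPrime.ne_top hmi).symm
      exact (Finset.mem_filter.mp hiS).2 this
    obtain ⟨a, ham, hau⟩ := Set.not_subset.mp hnot
    refine ⟨a, fun p hp => ⟨fun hap => ?_, fun h => h ▸ ham⟩⟩
    by_contra hne
    apply hau
    simp only [Set.mem_iUnion]
    exact ⟨⟨p, hp⟩, Finset.mem_coe.mpr (Finset.mem_filter.mpr ⟨Finset.mem_univ _, hne⟩), hap⟩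
  · let S' : Finset (PrimeSpectrum R) := Finset.univ.filter (fun p => ¬ p.asIdeal ≤ m)
    have hnot : ¬ (S'.inf (fun p => p.asIdeal) ≤ m) := by
      intro hle
      obtain ⟨i, hiS, him⟩ := (Ideal.IsPrime.inf_le' hm.isPrime).mp hle
      exact (Finset.mem_filter.mp hiS).2 him
    obtain ⟨b, hbJ, hbm⟩ := SetLike.not_le_iff_exists.mp hnot
    have hbp : ∀ p : PrimeSpectrum R, ¬ p.asIdeal ≤ m → b ∈ p.asIdeal := by
      intro p hp
      exact (Submodule.mem_finsetInf.mp hbJ) p (Finset.mem_filter.mpr ⟨Finset.mem_univ _, hp⟩)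
    refine ⟨b, hbm, ?_⟩
    have hpow : Submonoid.powers b ≤ m.primeCompl := by
      rintro x ⟨n, rfl⟩
      exact fun h => hbm (hm.isPrime.mem_of_pow_mem n h)
    refine IsLocalization.of_le (M := Submonoid.powers b) (S := Localization.Away b)
      (N := m.primeCompl) (h₁ := hpow) (h₂ := ?_)
    intro s hs
    by_contra hnu
    obtain ⟨Q, hQ, hsQ⟩ := exists_max_ideal_of_mem_nonunits hnu
    haveI := hQ.isPrime
    let P : PrimeSpectrum R := ⟨Q.comap (algebraMap R (Localization.Away b)), inferInstance⟩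
    have hbP : b ∉ P.asIdeal := by
      intro hb
      have hu : IsUnit (algebraMap R (Localization.Away b) b) :=
        IsLocalization.Away.algebraMap_isUnit b
      exact hQ.ne_top (Ideal.eq_top_of_isUnit_mem _ hb hu)
    have hPm : P.asIdeal ≤ m := by
      by_contra h; exact hbP (hbp P h)
    exact hs (hPm hsQ)

end Groth.Agent.Lib.PruferSemi
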