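import Mathlib
import Groth.Agent.Lib.PruferSemi_lead

namespace Groth.Agent.Lib.PruferNoeth

universe u

open TopologicalSpace

theorem finite_spec (R : Type u) [CommRing R] [IsDomain R]
    (hR : ∀ (p : Ideal R) [p.IsPrime], ValuationRing (Localization.AtPrime p))
    (hfin : Finite (MaximalSpectrum R)) (hdim : ringKrullDim R < ⊤) :
    Finite (PrimeSpectrum R) := by
  have hall : (Set.univ : Set (PrimeSpectrum R)).Finite := by
    have hU : (⋃ M : MaximalSpectrum R, {p : PrimeSpectrum R | p.asIdeal ≤ M.asIdeal}).Finite :=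
      Set.finite_iUnion (fun M => Groth.Agent.Lib.PruferSemi.finite_le R hR hdim M.asIdeal
        M.isMaximal.isPrime)
    refine hU.subset (fun p _ => ?_)
    obtain ⟨M, hM, hpM⟩ := Ideal.exists_le_maximal p.asIdeal p.isPrime.ne_top
    exact Set.mem_iUnion.mpr ⟨⟨M, hM⟩, hpM⟩
  exact Set.finite_univ_iff.mp hall

theorem main (R : Type u) [CommRing R] [IsDomain R]
    (hR : ∀ (p : Ideal R) [p.IsPrime], ValuationRing (Localization.AtPrime p))
    (hfin : Finite (MaximalSpectrum R)) (hdim : ringKrullDim R < ⊤)
    (S : Type u) [CommRing S] [Algebra R S] [Algebra.FiniteType R S]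
    (M : Submonoid S) (T : Type u) [CommRing T] [Algebra S T] [IsLocalization M T] :
    NoetherianSpace (PrimeSpectrum S) ∧ NoetherianSpace (PrimeSpectrum T) := by
  haveI : Finite (PrimeSpectrum R) := finite_spec R hR hfin hdim
  have hS : NoetherianSpace (PrimeSpectrum S) := by
    rw [← noetherian_univ_iff]
    have hcover : (Set.univ : Set (PrimeSpectrum S)) =
        ⋃ p : PrimeSpectrum R, PrimeSpectrum.comap (algebraMap R S) ⁻¹' {p} := by
      ext q; simp
    rw [hcover]
    haveI : ∀ p : PrimeSpectrum R,
        NoetherianSpace (PrimeSpectrum.comap (algebraMap R S) ⁻¹' {p}) := by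
      intro p
      haveI : IsNoetherianRing (p.asIdeal.Fiber S) :=
        Algebra.FiniteType.isNoetherianRing p.asIdeal.ResidueField _
      exact (noetherianSpace_iff_of_homeomorph
        (PrimeSpectrum.preimageHomeomorphFiber R S p)).mpr inferInstance
    exact NoetherianSpace.iUnion _
  refine ⟨hS, ?_⟩
  haveI := hS
  exact (PrimeSpectrum.localization_comap_isInducing T M).noetherianSpace

end Groth.Agent.Lib.PruferNoeth
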