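import Mathlib

/-!
# Polynomial lemmas about powers of the ideal of variables (helper3)
-/

set_option autoImplicit false
open MvPolynomial

namespace Groth.Agent.Lib.Prym5Poly_helper3

variable {K : Type*} [Field K]

theorem mem_idealOfVars_iff {σ : Type*} (p : MvPolynomial σ K) :
    p ∈ idealOfVars σ K ↔ constantCoeff p = 0 := by
  rw [← pow_one (idealOfVars σ K), mem_pow_idealOfVars_iff']
  constructor
  · intro h
    exact h 0 (by simp)
  · intro h x hx
    have hx0 : x = 0 := by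
      have : Finsupp.degree x = 0 := by omega
      exact (Finsupp.degree_eq_zero_iff x).1 this
    subst hx0
    exact h

theorem sub_C_mem {σ : Type*} (p : MvPolynomial σ K) :
    p - C (constantCoeff p) ∈ idealOfVars σ K := by
  rw [mem_idealOfVars_iff]
  simp

theorem pderiv_mem {σ : Type*} (i : σ) {p : MvPolynomial σ K}
    (hp : p ∈ idealOfVars σ K ^ 2) : pderiv i p ∈ idealOfVars σ K := by
  rw [pow_two] at hp
  refine Submodule.mul_induction_on hp ?_ ?_
  · intro a ha b hb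
    rw [pderiv_mul]
    exact Ideal.add_mem _ (Ideal.mul_mem_left _ _ hb) (Ideal.mul_mem_right _ _ ha)
  · intro a b ha hb
    rw [map_add]
    exact Ideal.add_mem _ ha hb

/-- The substitution `z ↦ 0`. -/
noncomputable def killLast : MvPolynomial (Fin 3) K →ₐ[K] MvPolynomial (Fin 2) K :=
  aeval (Fin.snoc (α := fun _ => MvPolynomial (Fin 2) K) (X : Fin 2 → MvPolynomial (Fin 2) K) 0)

theorem killLast_rename (p : MvPolynomial (Fin 2) K) :
    killLast (rename (Fin.castSucc : Fin 2 → Fin 3) p) = p := by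
  rw [killLast, aeval_rename]
  have : (Fin.snoc (α := fun _ => MvPolynomial (Fin 2) K)
      (X : Fin 2 → MvPolynomial (Fin 2) K) 0 ∘ Fin.castSucc) = X := by
    ext i : 1
    simp
  rw [this, aeval_X_left]
  rfl

theorem killLast_X_two : killLast (X (2 : Fin 3) : MvPolynomial (Fin 3) K) = 0 := by
  rw [killLast, aeval_X]
  exact Fin.snoc_last (α := fun _ => MvPolynomial (Fin 2) K) _ _

theorem killLast_map_le :
    (idealOfVars (Fin 3) K).map (killLast (K := K)) ≤ idealOfVars (Fin 2) K := by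
  rw [idealOfVars, Ideal.map_span, Ideal.span_le]
  rintro _ ⟨_, ⟨i, rfl⟩, rfl⟩
  induction i using Fin.lastCases with
  | last =>
    have : killLast (X (Fin.last 2) : MvPolynomial (Fin 3) K) = 0 := killLast_X_two
    rw [SetLike.mem_coe]
    erw [this]
    exact Ideal.zero_mem _
  | cast j =>
    have : killLast (X (Fin.castSucc j) : MvPolynomial (Fin 3) K) = X j := by
      rw [killLast, aeval_X]
      exact Fin.snoc_castSucc (α := fun _ => MvPolynomial (Fin 2) K) _ _ _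
    rw [SetLike.mem_coe]
    erw [this]
    exact Ideal.subset_span ⟨j, rfl⟩

theorem killLast_mem_pow {n : ℕ} {p : MvPolynomial (Fin 3) K}
    (hp : p ∈ idealOfVars (Fin 3) K ^ n) : killLast p ∈ idealOfVars (Fin 2) K ^ n := by
  have h1 : killLast p ∈ (idealOfVars (Fin 3) K ^ n).map (killLast (K := K)) :=
    Ideal.mem_map_of_mem _ hp
  rw [Ideal.map_pow] at h1
  exact Ideal.pow_right_mono killLast_map_le n h1

theorem rename_map_le :
    (idealOfVars (Fin 2) K).map (rename (Fin.castSucc : Fin 2 → Fin 3) : _ →ₐ[K] _) ≤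
      idealOfVars (Fin 3) K := by
  rw [idealOfVars, Ideal.map_span, Ideal.span_le]
  rintro _ ⟨_, ⟨i, rfl⟩, rfl⟩
  rw [SetLike.mem_coe]
  erw [rename_X]
  exact Ideal.subset_span ⟨_, rfl⟩

theorem rename_mem_pow {n : ℕ} {p : MvPolynomial (Fin 2) K}
    (hp : p ∈ idealOfVars (Fin 2) K ^ n) :
    rename (Fin.castSucc : Fin 2 → Fin 3) p ∈ idealOfVars (Fin 3) K ^ n := by
  have h1 : rename (Fin.castSucc : Fin 2 → Fin 3) p ∈
      (idealOfVars (Fin 2) K ^ n).map (rename (Fin.castSucc : Fin 2 → Fin 3) : _ →ₐ[K] _) :=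
    Ideal.mem_map_of_mem _ hp
  rw [Ideal.map_pow] at h1
  exact Ideal.pow_right_mono rename_map_le n h1

theorem pderiv_last_rename (p : MvPolynomial (Fin 2) K) :
    pderiv (2 : Fin 3) (rename (Fin.castSucc : Fin 2 → Fin 3) p) = 0 := by
  classical
  refine pderiv_eq_zero_of_notMem_vars fun h => ?_
  have h2 := vars_rename (Fin.castSucc : Fin 2 → Fin 3) p h
  rw [Finset.mem_image] at h2
  obtain ⟨j, -, hj⟩ := h2
  exact absurd hj (by fin_cases j <;> decide)

theorem X_two_mem : (X (2 : Fin 3) : MvPolynomial (Fin 3) K) ∈ idealOfVars (Fin 3) K :=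
  Ideal.subset_span ⟨_, rfl⟩

/-- The quadratic form in `z`. -/
noncomputable def quad (G₂ G₃ G₄ : MvPolynomial (Fin 2) K) : MvPolynomial (Fin 3) K :=
  rename (Fin.castSucc : Fin 2 → Fin 3) G₂ * X (2 : Fin 3) ^ 2
    + 2 * rename (Fin.castSucc : Fin 2 → Fin 3) G₃ * X (2 : Fin 3)
    + rename (Fin.castSucc : Fin 2 → Fin 3) G₄

theorem killLast_quad (G₂ G₃ G₄ : MvPolynomial (Fin 2) K) :
    killLast (quad G₂ G₃ G₄) = G₄ := by
  simp [quad, killLast_rename, killLast_X_two]

theorem killLast_pderiv_quad (G₂ G₃ G₄ : MvPolynomial (Fin 2) K) :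
    killLast (pderiv (2 : Fin 3) (quad G₂ G₃ G₄)) = 2 * G₃ := by
  have h2 : pderiv (2 : Fin 3) (2 : MvPolynomial (Fin 3) K) = 0 := by
    have : (2 : MvPolynomial (Fin 3) K) = C 2 := (map_ofNat (C (σ := Fin 3) (R := K)) 2).symm
    rw [this, pderiv_C]
  have h2' : killLast (2 : MvPolynomial (Fin 3) K) = 2 := map_ofNat killLast 2
  simp [quad, pderiv_mul, pderiv_pow, pderiv_last_rename, pderiv_X_self, h2, h2', killLast_rename,
    killLast_X_two]

theorem G4_mem_sq_of_quad_mem_sq {G₂ G₃ G₄ : MvPolynomial (Fin 2) K}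
    (h : quad G₂ G₃ G₄ ∈ idealOfVars (Fin 3) K ^ 2) : G₄ ∈ idealOfVars (Fin 2) K ^ 2 := by
  have := killLast_mem_pow h
  rwa [killLast_quad] at this

theorem G3_mem_of_quad_mem_sq (h2 : (2 : K) ≠ 0) {G₂ G₃ G₄ : MvPolynomial (Fin 2) K}
    (h : quad G₂ G₃ G₄ ∈ idealOfVars (Fin 3) K ^ 2) : G₃ ∈ idealOfVars (Fin 2) K := by
  have h1 : pderiv (2 : Fin 3) (quad G₂ G₃ G₄) ∈ idealOfVars (Fin 3) K ^ 1 := by
    rw [pow_one]; exact pderiv_mem _ h
  have h3 := killLast_mem_pow h1
  rw [killLast_pderiv_quad, pow_one] at h3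
  have h4 : G₃ = C ((2 : K)⁻¹) * (2 * G₃) := by
    have : (2 : MvPolynomial (Fin 2) K) = C 2 := (map_ofNat (C (σ := Fin 2) (R := K)) 2).symm
    rw [this, ← mul_assoc, ← C_mul, inv_mul_cancel₀ h2, C_1, one_mul]
  rw [h4]
  exact Ideal.mul_mem_left _ _ h3

theorem quad_mem_sq_of {G₂ G₃ G₄ : MvPolynomial (Fin 2) K}
    (h3 : G₃ ∈ idealOfVars (Fin 2) K) (h4 : G₄ ∈ idealOfVars (Fin 2) K ^ 2) :
    quad G₂ G₃ G₄ ∈ idealOfVars (Fin 3) K ^ 2 := by
  unfold quad
  refine Ideal.add_mem _ (Ideal.add_mem _ ?_ ?_) (rename_mem_pow h4)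
  · exact Ideal.mul_mem_left _ _ (Ideal.pow_mem_pow X_two_mem 2)
  · rw [mul_assoc, pow_two]
    refine Ideal.mul_mem_left _ _ (Ideal.mul_mem_mul ?_ X_two_mem)
    have := rename_mem_pow (n := 1) (by rwa [pow_one])
    rwa [pow_one] at this

end Groth.Agent.Lib.Prym5Poly_helper3
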