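import Mathlib
import Groth.Prelude
import Groth.Agent.Lib.ZMTFin2_helper7

/-!
# Pointwise criterion for pseudo-finite morphisms (S4825)
-/

set_option backward.isDefEq.respectTransparency false
set_option autoImplicit false
set_option linter.style.haveILetI false

open CategoryTheory CategoryTheory.Limits AlgebraicGeometry

universe u

namespace Groth.Agent.Lib.PseudoFinH7

/-- forward direction: base change of a factorization. -/
theorem baseChange_fac {X Y Y' W : Scheme.{u}} (f' : X ⟶ Y') (u : Y' ⟶ Y) (j : W ⟶ Y)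
    [IsImmersion f'] [IsFinite u] :
    ∃ (Z : Scheme.{u}) (g : pullback (f' ≫ u) j ⟶ Z) (v : Z ⟶ W),
      IsImmersion g ∧ IsFinite v ∧ g ≫ v = pullback.snd (f' ≫ u) j := by
  let g : pullback (f' ≫ u) j ⟶ pullback u j :=
    pullback.lift (pullback.fst _ _ ≫ f') (pullback.snd _ _) (by simp [pullback.condition])
  refine ⟨pullback u j, g, pullback.snd u j, ?_, inferInstance, pullback.lift_snd _ _ _⟩
  have s : IsPullback (pullback.fst (f' ≫ u) j) (g ≫ pullback.snd u j) (f' ≫ u) j := by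
    rw [pullback.lift_snd]
    exact IsPullback.of_hasPullback _ _
  have t : IsPullback (pullback.fst u j) (pullback.snd u j) u j := IsPullback.of_hasPullback _ _
  have sq : IsPullback (pullback.fst (f' ≫ u) j) g f' (pullback.fst u j) :=
    IsPullback.of_bot s (pullback.lift_fst _ _ _).symm t
  exact MorphismProperty.of_isPullback (P := @IsImmersion) sq inferInstance

theorem locallyQuasiFinite_of_stalk {X Y : Scheme.{u}} (f : X ⟶ Y)
    [LocallyOfFiniteType f] [QuasiCompact f]
    (H : ∀ y : Y, LocallyQuasiFinite (pullback.snd f (Y.fromSpecStalk y))) :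
    LocallyQuasiFinite f := by
  rw [locallyQuasiFinite_iff_finite_preimage_singleton]
  intro y
  haveI := H y
  have hfin := (pullback.snd f (Y.fromSpecStalk y)).finite_preimage_singleton
    (IsLocalRing.closedPoint (Y.presheaf.stalk y))
  refine (hfin.image (pullback.fst f (Y.fromSpecStalk y))).subset ?_
  intro x hx
  obtain ⟨z, hz1, hz2⟩ := Scheme.Pullback.exists_preimage_pullback (f := f)
    (g := Y.fromSpecStalk y) x (IsLocalRing.closedPoint (Y.presheaf.stalk y))
    (by rw [Scheme.fromSpecStalk_closedPoint]; exact hx)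
  exact ⟨z, hz2, hz1⟩

theorem isSeparated_of_stalk {X Y : Scheme.{u}} (f : X ⟶ Y) [QuasiSeparated f]
    (H : ∀ y : Y, IsSeparated (pullback.snd f (Y.fromSpecStalk y))) :
    IsSeparated f := by
  refine IsSeparated.of_valuativeCriterion f ?_
  intro S
  constructor
  rintro ⟨l₁, hl₁, hl₁'⟩ ⟨l₂, hl₂, hl₂'⟩
  ext : 1
  dsimp at *
  have hφ := Scheme.Spec_stalkClosedPointTo_fromSpecStalk S.i₂
  set y : Y := S.i₂ (IsLocalRing.closedPoint S.R) with hy
  set φ := Scheme.stalkClosedPointTo S.i₂ with hφdef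
  haveI := H y
  let m₁ : Spec (.of S.R) ⟶ pullback f (Y.fromSpecStalk y) :=
    pullback.lift l₁ (Spec.map φ) (by rw [hl₁', hφ])
  let m₂ : Spec (.of S.R) ⟶ pullback f (Y.fromSpecStalk y) :=
    pullback.lift l₂ (Spec.map φ) (by rw [hl₂', hφ])
  have hc : CommSq (Spec.map (CommRingCat.ofHom (algebraMap S.R S.K)) ≫ m₁)
      (Spec.map (CommRingCat.ofHom (algebraMap S.R S.K)))
      (pullback.snd f (Y.fromSpecStalk y)) (Spec.map φ) := ⟨by simp [m₁]⟩
  let S' : ValuativeCommSq (pullback.snd f (Y.fromSpecStalk y)) :=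
    ⟨S.R, S.K, Spec.map (CommRingCat.ofHom (algebraMap S.R S.K)) ≫ m₁, Spec.map φ, hc⟩
  have : Subsingleton S'.commSq.LiftStruct :=
    IsSeparated.valuativeCriterion (pullback.snd f (Y.fromSpecStalk y)) S'
  let L₁ : S'.commSq.LiftStruct := ⟨m₁, rfl, by simp [S', m₁]⟩
  have hL2 : Spec.map (CommRingCat.ofHom (algebraMap S.R S.K)) ≫ m₂ =
      Spec.map (CommRingCat.ofHom (algebraMap S.R S.K)) ≫ m₁ := by
    apply pullback.hom_ext
    · simp [m₁, m₂, hl₁, hl₂]
    · simp [m₁, m₂]
  let L₂ : S'.commSq.LiftStruct := ⟨m₂, hL2, by simp [S', m₂]⟩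
  have h₁₂ : L₁ = L₂ := Subsingleton.elim _ _
  have hm : m₁ = m₂ := congrArg CommSq.LiftStruct.l h₁₂
  calc l₁ = m₁ ≫ pullback.fst _ _ := (pullback.lift_fst _ _ _).symm
    _ = m₂ ≫ pullback.fst _ _ := by rw [hm]
    _ = l₂ := pullback.lift_fst _ _ _

/-- **S4825**. -/
theorem main4825 {X Y : Scheme.{u}} (f : X ⟶ Y) [IsNoetherian Y]
    [LocallyOfFiniteType f] [QuasiCompact f] :
    (∃ (Y' : Scheme.{u}) (f' : X ⟶ Y') (u : Y' ⟶ Y), IsImmersion f' ∧ IsFinite u ∧ f' ≫ u = f) ↔
      ∀ y : Y, ∃ (Z : Scheme.{u}) (g : pullback f (Y.fromSpecStalk y) ⟶ Z)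
        (u : Z ⟶ Spec (Y.presheaf.stalk y)),
        IsImmersion g ∧ IsFinite u ∧ g ≫ u = pullback.snd f (Y.fromSpecStalk y) := by
  constructor
  · rintro ⟨Y', f', u, h1, h2, rfl⟩ y
    exact baseChange_fac f' u (Y.fromSpecStalk y)
  · intro H
    haveI : IsLocallyNoetherian X := LocallyOfFiniteType.isLocallyNoetherian f
    haveI : QuasiSeparated f := QuasiSeparated.of_quasiSeparatedSpace f
    haveI : LocallyQuasiFinite f := by
      refine locallyQuasiFinite_of_stalk f fun y => ?_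
      obtain ⟨Z, g, u, hg, hu, hgu⟩ := H y
      rw [← hgu]
      infer_instance
    haveI : IsSeparated f := by
      refine isSeparated_of_stalk f fun y => ?_
      obtain ⟨Z, g, u, hg, hu, hgu⟩ := H y
      rw [← hgu]
      infer_instance
    obtain ⟨T, j, π, hj, -, hπ, hjπ⟩ := ZMTFinH7.main0385 f
    exact ⟨T, j, π, inferInstance, hπ, hjπ⟩

end Groth.Agent.Lib.PseudoFinH7
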