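import Mathlib
import Groth.Agent.Lib.PshModInj_helper3

/-!
# Injective presheaves of modules: transition maps along "epimorphisms" are surjective
(library for S8780, helper3)
-/

universe u

open CategoryTheory

namespace Groth.Agent.Lib.PshModInjH3

noncomputable section

variable {C : Type (u+1)} [Category.{u} C] {R : Cᵒᵖ ⥤ RingCat.{u}}

theorem map_surjective_of_injective (I : PresheafOfModules.{u+1} R) [Injective I] {Y Z : Cᵒᵖ}
    (g : Y ⟶ Z) (hg : ∀ (X : Cᵒᵖ) (f₁ f₂ : Z ⟶ X), g ≫ f₁ = g ≫ f₂ → f₁ = f₂)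
    (z : I.obj Z) : ∃ y : I.obj Y, res I g y = z := by
  classical
  let J : ∀ X : Cᵒᵖ, ModuleCat.{u+1} (R.obj X) := fun X => Injective.under (I.obj X)
  let j : ∀ X : Cᵒᵖ, I.obj X ⟶ J X := fun X => Injective.ι (I.obj X)
  haveI hmono : Mono (sharp J j) := by
    apply PresheafOfModules.mono_of_injective
    intro W y y' h
    have h1 : toC J ((sharp J j).app W y) W (𝟙 W) = toC J ((sharp J j).app W y') W (𝟙 W) := by
      rw [h]
    rw [sharp_apply, sharp_apply] at h1
    have hmono : Function.Injective (j W) := (ModuleCat.mono_iff_injective _).1 inferInstance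
    have h2 := hmono h1
    rw [res_id, res_id] at h2
    exact h2
  let r : coind J ⟶ I := Injective.factorThru (𝟙 I) (sharp J j)
  have hr : sharp J j ≫ r = 𝟙 I := Injective.comp_factorThru _ _
  let b : Coind J Z := toC J ((sharp J j).app Z z)
  let a : Coind J Y := fun X h => if hh : ∃ f : Z ⟶ X, g ≫ f = h then b X hh.choose else 0
  have ha : ∀ (X : Cᵒᵖ) (f : Z ⟶ X), a X (g ≫ f) = b X f := by
    intro X f
    have hh : ∃ f' : Z ⟶ X, g ≫ f' = g ≫ f := ⟨f, rfl⟩
    simp only [a, dif_pos hh]
    rw [hg X _ _ hh.choose_spec]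
  have hab : (coind J).map g (ofC J a) = (sharp J j).app Z z := by
    change toC J ((coind J).map g (ofC J a)) = toC J ((sharp J j).app Z z)
    funext X f
    rw [toC_map]
    exact ha X f
  refine ⟨r.app Y (ofC J a), ?_⟩
  rw [res_eq, ← PresheafOfModules.naturality_apply, hab]
  have := congr(($hr).app Z z)
  exact this

end

end Groth.Agent.Lib.PshModInjH3
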