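import Mathlib
import Groth.Agent.Lib.ModSite9_helper8

set_option autoImplicit false
set_option linter.unusedSectionVars false
set_option linter.style.haveILetI false
universe u

open CategoryTheory Limits Opposite MonoidalCategory

namespace Groth.Agent.Lib.PshTensorH4

open Groth.Agent.Lib.ModSiteH8

variable {C : Type u} [SmallCategory C] (R : Cᵒᵖ ⥤ CommRingCat.{u})

/-- the free presheaf of modules on the underlying presheaf of sets -/
noncomputable abbrev freeCover (G : PM R) : PM R :=
  PresheafOfModules.freeObj (R := R ⋙ forget₂ CommRingCat.{u} RingCat.{u}) (G.presheaf ⋙ forget _)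

/-- the counit -/
noncomputable abbrev freeCoverπ (G : PM R) : freeCover R G ⟶ G :=
  PresheafOfModules.freeObjDesc (𝟙 _)

lemma freeCover_flat (G : PM R) (X : Cᵒᵖ) : Module.Flat (R.obj X) ((freeCover R G).obj X) := by
  show Module.Flat (R.obj X) (((G.presheaf ⋙ forget _).obj X) →₀ (R.obj X))
  infer_instance

set_option backward.isDefEq.respectTransparency.types false in
lemma freeCoverπ_surjective (G : PM R) (X : Cᵒᵖ) : Function.Surjective ((freeCoverπ R G).app X) := by
  intro x
  refine ⟨ModuleCat.freeMk (R := (R ⋙ forget₂ CommRingCat.{u} RingCat.{u}).obj X) x, ?_⟩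
  exact ModuleCat.freeDesc_apply _ x

theorem exists_flat_cover (G : PM R) : ∃ (P : PM R) (p : P ⟶ G), Epi p ∧
    PreservesFiniteLimits ((curriedTensor (PM R)).flip.obj P) := by
  refine ⟨freeCover R G, freeCoverπ R G,
    PresheafOfModules.epi_of_surjective (fun X => freeCoverπ_surjective R G X), ?_⟩
  exact preservesFiniteLimits_tensorRight_of_flat R _ (freeCover_flat R G)


instance preservesFiniteColimits_obj (X : PM R) :
    PreservesFiniteColimits ((curriedTensor (PM R)).obj X) := by
  haveI : PreservesColimitsOfSize.{u, u} (tensorLeft X) := inferInstance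
  exact (inferInstance : PreservesFiniteColimits (tensorLeft X))

instance preservesFiniteColimits_flip (Y : PM R) :
    PreservesFiniteColimits ((curriedTensor (PM R)).flip.obj Y) := by
  haveI : PreservesColimitsOfSize.{u, u} (tensorRight Y) := inferInstance
  exact (inferInstance : PreservesFiniteColimits (tensorRight Y))

instance additive_obj (X : PM R) : ((curriedTensor (PM R)).obj X).Additive :=
  additive_of_preservesFiniteColimits _

instance additive_flip (Y : PM R) : ((curriedTensor (PM R)).flip.obj Y).Additive :=
  additive_of_preservesFiniteColimits _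

theorem tensor_shortExact (S : ShortComplex (PM R)) (hS : S.ShortExact)
    (hF : PreservesFiniteLimits (tensorRight S.X₃)) (G : PM R)
    [(tensorRight G).PreservesZeroMorphisms] :
    (S.map (tensorRight G)).ShortExact := by
  haveI : PreservesFiniteLimits ((curriedTensor (PM R)).flip.obj S.X₃) := hF
  exact Groth.Agent.Lib.TensorFlatH8.shortExact_map_flip (curriedTensor (PM R))
    (fun X => BraidedCategory.tensorLeftIsoTensorRight X)
    (exists_flat_cover R) S hS G

end Groth.Agent.Lib.PshTensorH4
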