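import Groth.Prelude.Def_W4c4chowquasisplitNorm
import Mathlib

/-!
# The Chow group of zero cycles of the spectrum of a field, and norm subgroups (helper1)

`CH_0(Spec k) ≅ ℤ` through the coefficient at the point; the push-forward from `Spec F` multiplies
by `[F : k]`; intermediate fields of prescribed degree through Sylow/Galois theory.
-/

universe u

open AlgebraicGeometry CategoryTheory

namespace Groth.Agent.Lib.PtChowH1

noncomputable section

/-! ### arithmetic -/

/-- A subgroup of `ℤ` containing, for every prime `p`, the prime-to-`p` part of `n ≠ 0`, is `⊤`. -/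
theorem int_subgroup_eq_top (H : AddSubgroup ℤ) (n : ℕ) (hn : n ≠ 0)
    (h : ∀ p : ℕ, p.Prime → ((n / p ^ n.factorization p : ℕ) : ℤ) ∈ H) : H = ⊤ := by
  obtain ⟨g, hg⟩ := Int.subgroup_cyclic H
  have hdvd : ∀ p : ℕ, p.Prime → g ∣ ((n / p ^ n.factorization p : ℕ) : ℤ) := by
    intro p hp
    have h1 := h p hp
    rw [hg, AddSubgroup.mem_closure_singleton] at h1
    obtain ⟨c, hc⟩ := h1
    exact ⟨c, by rw [← hc, smul_eq_mul, mul_comm]⟩
  have hunit : g.natAbs = 1 := by
    by_contra hne
    obtain ⟨q, hq, hqd⟩ := Nat.exists_prime_and_dvd hne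
    have h1 : (q : ℤ) ∣ g := Int.natCast_dvd.mpr hqd
    have h2 := h1.trans (hdvd q hq)
    have h3 : q ∣ n / q ^ n.factorization q := Int.natCast_dvd_natCast.mp h2
    exact Nat.not_dvd_ordCompl hq hn h3
  rw [eq_top_iff]
  intro m _
  rw [hg, AddSubgroup.mem_closure_singleton]
  rcases Int.natAbs_eq g with h' | h'
  · exact ⟨m, by rw [h', hunit]; simp⟩
  · exact ⟨-m, by rw [h', hunit]; simp⟩

/-! ### Galois theory -/

section Galois

variable (k : Type u) [Field k] (K : Type u) [Field K] [Algebra k K]

/-- Inside a finite Galois subextension `L`, for every prime power `p ^ e` dividing `[L : k]`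
there is an intermediate field `F` with `[F : k] * p ^ e = [L : k]`. -/
theorem exists_intermediate_finrank (L : IntermediateField k K) [FiniteDimensional k L]
    [IsGalois k L] (p e : ℕ) (hp : p.Prime) (hdvd : p ^ e ∣ Module.finrank k L) :
    ∃ F : IntermediateField k K, FiniteDimensional k F ∧
      Module.finrank k F * p ^ e = Module.finrank k L := by
  haveI : Fact p.Prime := ⟨hp⟩
  have hcard : Nat.card (L ≃ₐ[k] L) = Module.finrank k L := IsGalois.card_aut_eq_finrank k L
  obtain ⟨H, hH⟩ := Sylow.exists_subgroup_card_pow_prime (G := L ≃ₐ[k] L) p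
    (by rw [hcard]; exact hdvd)
  let E : IntermediateField k L := IntermediateField.fixedField H
  have h1 : Module.finrank E L = p ^ e := by
    rw [IntermediateField.finrank_fixedField_eq_card, hH]
  have h2 : Module.finrank k E * Module.finrank E L = Module.finrank k L :=
    Module.finrank_mul_finrank k E L
  let e' : E ≃ₐ[k] IntermediateField.lift E := IntermediateField.liftAlgEquiv E
  refine ⟨IntermediateField.lift E, ?_, ?_⟩
  · exact Module.Finite.equiv e'.toLinearEquiv
  · rw [← e'.toLinearEquiv.finrank_eq, ← h1, h2]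

end Galois

/-! ### residue degree of `Spec F ⟶ Spec k` -/

section Res

/-- `R → κ(x)` for a point `x` of `Spec R`. -/
def toRes (R : Type u) [Field R] (x : ↥(Spec (CommRingCat.of R))) :
    CommRingCat.of R ⟶ (Spec (CommRingCat.of R)).residueField x :=
  (Scheme.ΓSpecIso (CommRingCat.of R)).inv ≫ (Spec (CommRingCat.of R)).Γevaluation x

set_option backward.isDefEq.respectTransparency.types false in
theorem toRes_bijective (R : Type u) [Field R] (x : ↥(Spec (CommRingCat.of R))) :
    Function.Bijective (toRes R x).hom := by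
  haveI := x.isPrime
  have hx : x.asIdeal = ⊥ := Ideal.eq_bot_of_prime x.asIdeal
  haveI : x.asIdeal.IsMaximal := by rw [hx]; exact Ideal.bot_isMaximal
  have h1 : toRes R x = CommRingCat.ofHom (algebraMap R x.asIdeal.ResidueField) ≫
      (Scheme.Spec.residueFieldIso (CommRingCat.of R) x).inv :=
    (Scheme.Spec.algebraMap_residueFieldIso_inv (CommRingCat.of R) x).symm
  rw [h1]
  have h2 : Function.Bijective (algebraMap R x.asIdeal.ResidueField) :=
    ⟨(algebraMap R x.asIdeal.ResidueField).injective, Ideal.algebraMap_residueField_surjective _⟩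
  have h3 : Function.Bijective ((Scheme.Spec.residueFieldIso (CommRingCat.of R) x).inv.hom) :=
    ((Scheme.Spec.residueFieldIso (CommRingCat.of R) x).symm.commRingCatIsoToRingEquiv).bijective
  rw [CommRingCat.hom_comp, RingHom.coe_comp]
  exact h3.comp h2

theorem residueDegree_spec (k F : Type u) [Field k] [Field F] [Algebra k F]
    (x : ↥(Spec (CommRingCat.of F))) :
    (Spec.map (CommRingCat.ofHom (algebraMap k F))).residueDegree x = Module.finrank k F := by
  unfold Scheme.Hom.residueDegree
  letI := ((Spec.map (CommRingCat.ofHom (algebraMap k F))).residueFieldMap x).hom.toAlgebra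
  symm
  have hnat := Scheme.Γevaluation_naturality (Spec.map (CommRingCat.ofHom (algebraMap k F))) x
  have hnat2 := Scheme.ΓSpecIso_inv_naturality (CommRingCat.ofHom (algebraMap k F))
  have key : toRes k ((Spec.map (CommRingCat.ofHom (algebraMap k F))) x) ≫
      (Spec.map (CommRingCat.ofHom (algebraMap k F))).residueFieldMap x =
      CommRingCat.ofHom (algebraMap k F) ≫ toRes F x := by
    unfold toRes
    rw [Category.assoc, hnat, ← Category.assoc, ← hnat2, Category.assoc]
  refine Algebra.finrank_eq_of_equiv_equiv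
    (RingEquiv.ofBijective (toRes k _).hom (toRes_bijective k _))
    (RingEquiv.ofBijective (toRes F x).hom (toRes_bijective F x)) ?_
  ext a
  exact congrArg (fun g => g.hom a) key

end Res

/-! ### the Chow group of the point -/

section Chow

variable (k : Type u) [Field k]

/-- Evaluation of a zero cycle of `Spec k` at the point. -/
def evPt : ↥(ChowOps.zk (Spec (CommRingCat.of k)) (fun _ => (0 : ℤ)) 0) →+ ℤ where
  toFun α := (α : AlgebraicCycle (Spec (CommRingCat.of k)) ℤ) default
  map_zero' := rfl
  map_add' a b := by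
    show ((a + b : ↥(ChowOps.zk (Spec (CommRingCat.of k)) (fun _ => (0 : ℤ)) 0)) :
      AlgebraicCycle (Spec (CommRingCat.of k)) ℤ) default = _
    rw [AddSubgroup.coe_add, Function.locallyFinsuppWithin.coe_add]; rfl

theorem ratEquivZero_eq_zero (α : AlgebraicCycle (Spec (CommRingCat.of k)) ℤ)
    (h : Cyc.RatEquivZero (X := Spec (CommRingCat.of k)) (fun _ => (0 : ℤ)) 0 α) : α = 0 := by
  obtain ⟨ι, ξ, f, hδ, -, -, hα⟩ := h
  haveI : IsEmpty ι := ⟨fun i => by have := hδ i; norm_num at this⟩
  apply Function.locallyFinsuppWithin.ext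
  intro x
  rw [hα x, finsum_of_isEmpty]; rfl

theorem ratTriv_le_ker :
    ChowOps.ratTriv (Spec (CommRingCat.of k)) (fun _ => (0 : ℤ)) 0 ≤ (evPt k).ker := by
  unfold ChowOps.ratTriv
  rw [AddSubgroup.closure_le]
  intro a ha
  have h0 : (a : AlgebraicCycle (Spec (CommRingCat.of k)) ℤ) = 0 := ratEquivZero_eq_zero k _ ha
  show evPt k a = 0
  show (a : AlgebraicCycle (Spec (CommRingCat.of k)) ℤ) default = 0
  rw [h0]; rfl

/-- The degree isomorphism `CH_0(Spec k) → ℤ` (as a homomorphism). -/
def degCH : ChowOps.CH (Spec (CommRingCat.of k)) (fun _ => (0 : ℤ)) 0 →+ ℤ :=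
  QuotientAddGroup.lift _ (evPt k) (ratTriv_le_ker k)

theorem degCH_cl (α : AlgebraicCycle (Spec (CommRingCat.of k)) ℤ)
    (h : α ∈ Cyc.Zk (Spec (CommRingCat.of k)) (fun _ => (0 : ℤ)) 0) :
    degCH k (ChowOps.cl α h) = α default := rfl

theorem degCH_injective : Function.Injective (degCH k) := by
  rw [injective_iff_map_eq_zero]
  intro c hc
  obtain ⟨a, rfl⟩ := QuotientAddGroup.mk_surjective c
  have h0 : (a : AlgebraicCycle (Spec (CommRingCat.of k)) ℤ) default = 0 := hc
  have h1 : a = 0 := by
    apply Subtype.ext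
    apply Function.locallyFinsuppWithin.ext
    intro x
    rw [Unique.eq_default x, h0]; rfl
  rw [h1]; rfl

theorem mem_Zk (α : AlgebraicCycle (Spec (CommRingCat.of k)) ℤ) :
    α ∈ Cyc.Zk (Spec (CommRingCat.of k)) (fun _ => (0 : ℤ)) 0 := fun _ hx => absurd rfl hx

open Classical in
theorem degCH_surjective : Function.Surjective (degCH k) := by
  intro m
  exact ⟨ChowOps.cl (Function.locallyFinsuppWithin.single default m) (mem_Zk k _), by
    rw [degCH_cl]; simp⟩

/-- The push-forward along `Spec F ⟶ Spec k` multiplies the coefficient by `[F : k]`. -/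
theorem map_apply_spec (F : Type u) [Field F] [Algebra k F]
    (α : AlgebraicCycle (Spec (CommRingCat.of F)) ℤ) :
    (AlgebraicCycle.map (Spec.map (CommRingCat.ofHom (algebraMap k F)))
      (fun _ => (0 : ℤ)) (fun _ => (0 : ℤ)) α) default = α default * (Module.finrank k F : ℤ) := by
  unfold AlgebraicCycle.map
  rw [Function.locallyFinsupp.map_apply]
  have hset : ∀ (g : ↥(Spec (CommRingCat.of F)) → ↥(Spec (CommRingCat.of k))),
      g ⁻¹' {default} = Set.univ :=
    fun g => Set.eq_univ_of_forall (fun x => Subsingleton.elim _ _)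
  rw [hset, finsum_mem_univ, finsum_unique]
  rw [AlgebraicCycle.mapCoeff, if_pos rfl, residueDegree_spec]

variable (K : Type u) [Field K] [Algebra k K]

/-- Every multiple of `[F : k]` is the degree of an element of the norm subgroup. -/
theorem exists_mem_degCH (F : IntermediateField k K) (hF : FiniteDimensional k F) (hne : F ≠ ⊥)
    (α : AlgebraicCycle (Spec (CommRingCat.of (F : Type u))) ℤ) :
    ∃ c ∈ QsChow.ptNormSubgroup k K, degCH k c = α default * (Module.finrank k F : ℤ) := by
  have h : AlgebraicCycle.map (Spec.map (CommRingCat.ofHom (algebraMap k F)))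
      (fun _ => (0 : ℤ)) (fun _ => (0 : ℤ)) α ∈
        Cyc.Zk (Spec (CommRingCat.of k)) (fun _ => 0) 0 := mem_Zk k _
  refine ⟨ChowOps.cl _ h, AddSubgroup.subset_closure ⟨F, hF, hne, α, h, rfl⟩, ?_⟩
  rw [degCH_cl]; exact map_apply_spec k F α

open Classical in
theorem finrank_mem_map (F : IntermediateField k K) (hF : FiniteDimensional k F) (hne : F ≠ ⊥) :
    (Module.finrank k F : ℤ) ∈ (QsChow.ptNormSubgroup k K).map (degCH k) := by
  obtain ⟨c, hc, hdeg⟩ := exists_mem_degCH k K F hF hne
    (Function.locallyFinsuppWithin.single default 1)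
  refine ⟨c, hc, ?_⟩
  rw [hdeg]; simp

theorem eq_top_of_map_eq_top (h : (QsChow.ptNormSubgroup k K).map (degCH k) = ⊤) :
    QsChow.ptNormSubgroup k K = ⊤ := by
  rw [eq_top_iff]
  intro c _
  have h1 : degCH k c ∈ (QsChow.ptNormSubgroup k K).map (degCH k) := h ▸ AddSubgroup.mem_top _
  obtain ⟨c', hc', heq⟩ := h1
  exact degCH_injective k heq ▸ hc'

/-- S17743. -/
theorem ptNorm_top (L : IntermediateField k K) [FiniteDimensional k L] [IsGalois k L]
    (hL : ∀ p n : ℕ, p.Prime → Module.finrank k L ≠ p ^ n) :
    QsChow.ptNormSubgroup k K = ⊤ := by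
  apply eq_top_of_map_eq_top
  have hn0 : Module.finrank k L ≠ 0 := Module.finrank_pos.ne'
  apply int_subgroup_eq_top _ (Module.finrank k L) hn0
  intro p hp
  obtain ⟨F, hF, hFd⟩ := exists_intermediate_finrank k K L p _ hp (Nat.ordProj_dvd _ p)
  have hne : F ≠ ⊥ := by
    intro hbot
    have h1 : Module.finrank k F = 1 := IntermediateField.finrank_eq_one_iff.mpr hbot
    rw [h1, one_mul] at hFd
    exact hL p _ hp hFd.symm
  have hdiv : Module.finrank k L / p ^ (Module.finrank k L).factorization p =
      Module.finrank k F := by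
    exact Nat.div_eq_of_eq_mul_left (pow_pos hp.pos _) hFd.symm
  rw [hdiv]
  exact finrank_mem_map k K F hF hne

/-- S17744. -/
theorem ptNorm_index (L : IntermediateField k K) [FiniteDimensional k L] [IsGalois k L]
    (p n : ℕ) (hp : p.Prime) (hn : 1 ≤ n) (hL : Module.finrank k L = p ^ n)
    (hF : ∀ F : IntermediateField k K, FiniteDimensional k F →
      ∃ e : ℕ, Module.finrank k F = p ^ e) :
    (QsChow.ptNormSubgroup k K).index = p := by
  have hmap : (QsChow.ptNormSubgroup k K).map (degCH k) = AddSubgroup.zmultiples (p : ℤ) := by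
    apply le_antisymm
    · rw [AddSubgroup.map_le_iff_le_comap]
      unfold QsChow.ptNormSubgroup
      rw [AddSubgroup.closure_le]
      rintro c ⟨F, hFd, hne, α, h, rfl⟩
      show degCH k (ChowOps.cl _ h) ∈ AddSubgroup.zmultiples (p : ℤ)
      rw [degCH_cl, map_apply_spec]
      obtain ⟨e, he⟩ := hF F hFd
      have he0 : e ≠ 0 := by
        rintro rfl
        exact hne (IntermediateField.finrank_eq_one_iff.mp (by rw [he, pow_zero]))
      obtain ⟨e', rfl⟩ := Nat.exists_eq_succ_of_ne_zero he0
      rw [he, Int.mem_zmultiples_iff]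
      refine ⟨α default * (p : ℤ) ^ e', ?_⟩
      push_cast
      rw [pow_succ]; ring
    · apply AddSubgroup.zmultiples_le_of_mem
      obtain ⟨F, hFd, hFeq⟩ := exists_intermediate_finrank k K L p (n - 1) hp
        (by rw [hL]; exact pow_dvd_pow p (Nat.sub_le n 1))
      have hFp : Module.finrank k F = p := by
        have h1 : p ^ n = p * p ^ (n - 1) := by rw [← pow_succ', Nat.sub_add_cancel hn]
        rw [hL, h1] at hFeq
        exact Nat.eq_of_mul_eq_mul_right (pow_pos hp.pos _) hFeq
      have hne : F ≠ ⊥ := by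
        intro hbot
        have h1 : Module.finrank k F = 1 := IntermediateField.finrank_eq_one_iff.mpr hbot
        rw [hFp] at h1; exact hp.one_lt.ne' h1
      have := finrank_mem_map k K F hFd hne
      rwa [hFp] at this
  have hidx := AddSubgroup.index_map_of_bijective (f := degCH k)
    ⟨degCH_injective k, degCH_surjective k⟩ (QsChow.ptNormSubgroup k K)
  rw [← hidx, hmap, Int.index_zmultiples]; simp

end Chow

end

end Groth.Agent.Lib.PtChowH1
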