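import Mathlib
import Groth.Prelude.Def_SgaExt
import Groth.Agent.Lib.FibreCone_helper5

set_option autoImplicit false
set_option linter.style.haveILetI false
set_option linter.unusedSectionVars false

universe u

open CategoryTheory CategoryTheory.Limits AlgebraicGeometry

namespace Groth.Agent.Lib.PtCountBoundH4

local notation:max "sm[" k ", " K "]" => Spec.map (CommRingCat.ofHom (algebraMap k K))

/-! ### Algebra: counting points of an algebra integral over a polynomial ring -/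

theorem card_algHom_le {k A : Type u} [Field k] [CommRing A] [Algebra k A]
    [Algebra.FiniteType k A] (s : ℕ) (g : MvPolynomial (Fin s) k →ₐ[k] A)
    (hint : ∀ a : A, ∃ p : Polynomial (MvPolynomial (Fin s) k),
      p.Monic ∧ Polynomial.eval₂ g.toRingHom a p = 0) :
    ∃ c : ℕ, ∀ (k' : Type u) [Field k'] [Algebra k k'] [Finite k'],
      Finite (A →ₐ[k] k') ∧ Nat.card (A →ₐ[k] k') ≤ c * Nat.card k' ^ s := by
  classical
  obtain ⟨T, hT⟩ := (Algebra.FiniteType.out : (⊤ : Subalgebra k A).FG)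
  choose p hpm hp0 using hint
  refine ⟨∏ a : ↥T, (p a.1).natDegree, ?_⟩
  intro k' _ _ _
  letI : Fintype k' := Fintype.ofFinite k'
  let vOf : (A →ₐ[k] k') → (Fin s → k') := fun φ i => φ (g (MvPolynomial.X i))
  have hφg : ∀ φ : A →ₐ[k] k', φ.comp g = MvPolynomial.aeval (vOf φ) := by
    intro φ
    refine MvPolynomial.algHom_ext fun i => ?_
    rw [MvPolynomial.aeval_X]
    rfl
  let R : (Fin s → k') → Finset (↥T → k') := fun v =>
    Fintype.piFinset fun a : ↥T =>
      ((p a.1).map (MvPolynomial.aeval v : MvPolynomial (Fin s) k →ₐ[k] k').toRingHom).roots.toFinset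
  let D : Finset ((Fin s → k') × (↥T → k')) :=
    Finset.univ.biUnion fun v => (R v).image (Prod.mk v)
  let Ψ : (A →ₐ[k] k') → (Fin s → k') × (↥T → k') := fun φ => (vOf φ, fun a => φ a.1)
  have hΨinj : Function.Injective Ψ := by
    intro φ₁ φ₂ h
    have h2 : (fun a : ↥T => φ₁ a.1) = fun a : ↥T => φ₂ a.1 := (Prod.ext_iff.mp h).2
    exact AlgHom.ext_of_adjoin_eq_top hT
      (fun a ha => congrFun h2 ⟨a, Finset.mem_coe.mp ha⟩)
  have hmem : ∀ φ, Ψ φ ∈ D := by
    intro φ
    refine Finset.mem_biUnion.mpr ⟨vOf φ, Finset.mem_univ _, Finset.mem_image.mpr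
      ⟨fun a => φ a.1, ?_, rfl⟩⟩
    refine Fintype.mem_piFinset.mpr fun a => ?_
    have hne : (p a.1).map
        (MvPolynomial.aeval (vOf φ) : MvPolynomial (Fin s) k →ₐ[k] k').toRingHom ≠ 0 :=
      ((hpm a.1).map _).ne_zero
    refine Multiset.mem_toFinset.mpr ((Polynomial.mem_roots hne).mpr ?_)
    have key : Polynomial.eval₂ (φ.toRingHom.comp g.toRingHom) (φ.toRingHom a.1) (p a.1) = 0 := by
      rw [← Polynomial.hom_eval₂, hp0, map_zero]
    have hτ : φ.toRingHom.comp g.toRingHom =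
        (MvPolynomial.aeval (vOf φ) : MvPolynomial (Fin s) k →ₐ[k] k').toRingHom := by
      rw [← hφg φ]; rfl
    rw [hτ] at key
    rw [Polynomial.IsRoot.def, Polynomial.eval_map]
    exact key
  let Ψ' : (A →ₐ[k] k') → ↥D := fun φ => ⟨Ψ φ, hmem φ⟩
  have hΨ'inj : Function.Injective Ψ' := fun φ₁ φ₂ h => hΨinj (congrArg Subtype.val h)
  haveI hfin : Finite (A →ₐ[k] k') := Finite.of_injective Ψ' hΨ'inj
  refine ⟨hfin, ?_⟩
  have hRle : ∀ v, (R v).card ≤ ∏ a : ↥T, (p a.1).natDegree := by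
    intro v
    rw [Fintype.card_piFinset]
    refine Finset.prod_le_prod (fun _ _ => Nat.zero_le _) fun a _ => ?_
    exact (Multiset.toFinset_card_le _).trans
      ((Polynomial.card_roots' _).trans Polynomial.natDegree_map_le)
  have hD : D.card ≤ (∏ a : ↥T, (p a.1).natDegree) * Nat.card k' ^ s := by
    calc D.card ≤ ∑ v ∈ (Finset.univ : Finset (Fin s → k')), ((R v).image (Prod.mk v)).card :=
          Finset.card_biUnion_le
      _ ≤ ∑ v ∈ (Finset.univ : Finset (Fin s → k')), (R v).card :=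
          Finset.sum_le_sum fun v _ => Finset.card_image_le
      _ ≤ (Finset.univ : Finset (Fin s → k')).card • ∏ a : ↥T, (p a.1).natDegree :=
          Finset.sum_le_card_nsmul _ _ _ fun v _ => hRle v
      _ = (∏ a : ↥T, (p a.1).natDegree) * Nat.card k' ^ s := by
          rw [Finset.card_univ, Fintype.card_fun, Fintype.card_fin, smul_eq_mul,
            Nat.card_eq_fintype_card, mul_comm]
  calc Nat.card (A →ₐ[k] k') ≤ Nat.card ↥D := Nat.card_le_card_of_injective Ψ' hΨ'inj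
    _ = D.card := by rw [Nat.card_eq_fintype_card, Fintype.card_coe]
    _ ≤ _ := hD

/-- ring-hom version, without an `Algebra` instance on `A`. -/
theorem card_ringHom_le {k A : Type u} [Field k] [CommRing A] (ι : k →+* A) (hι : ι.FiniteType)
    (s : ℕ) (g : MvPolynomial (Fin s) k →+* A) (hgι : g.comp MvPolynomial.C = ι)
    (hint : ∀ a : A, ∃ p : Polynomial (MvPolynomial (Fin s) k),
      p.Monic ∧ Polynomial.eval₂ g a p = 0) :
    ∃ c : ℕ, ∀ (k' : Type u) [Field k'] [Algebra k k'] [Finite k'],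
      Finite {ψ : A →+* k' // ψ.comp ι = algebraMap k k'} ∧
        Nat.card {ψ : A →+* k' // ψ.comp ι = algebraMap k k'} ≤ c * Nat.card k' ^ s := by
  letI : Algebra k A := ι.toAlgebra
  haveI : Algebra.FiniteType k A := hι
  let g' : MvPolynomial (Fin s) k →ₐ[k] A :=
    { g with commutes' := fun x => RingHom.congr_fun hgι x }
  obtain ⟨c, hc⟩ := card_algHom_le s g' (fun a => hint a)
  refine ⟨c, fun k' _ _ _ => ?_⟩
  obtain ⟨hfin, hle⟩ := hc k'
  let Θ : {ψ : A →+* k' // ψ.comp ι = algebraMap k k'} → (A →ₐ[k] k') := fun ψ =>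
    { ψ.1 with commutes' := fun x => RingHom.congr_fun ψ.2 x }
  have hΘ : Function.Injective Θ := fun ψ₁ ψ₂ h =>
    Subtype.ext (RingHom.ext fun a => AlgHom.congr_fun h a)
  exact ⟨Finite.of_injective Θ hΘ, (Nat.card_le_card_of_injective Θ hΘ).trans hle⟩

/-! ### Scheme side -/

theorem exists_ringHom_of_range_subset {X : Scheme.{u}} (U : X.Opens) (hU : IsAffineOpen U)
    (k' : Type u) [Field k'] (g' : Spec (CommRingCat.of k') ⟶ X)
    (hg' : Set.range g'.base ⊆ (U : Set X)) :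
    ∃ ψ : Γ(X, U) ⟶ CommRingCat.of k', Spec.map ψ ≫ hU.fromSpec = g' := by
  have hrange : Set.range g'.base ⊆ Set.range hU.fromSpec.base := by
    have h0 : Set.range hU.fromSpec.base = (U : Set X) := hU.range_fromSpec
    rw [h0]; exact hg'
  exact ⟨Spec.preimage (IsOpenImmersion.lift hU.fromSpec g' hrange), by
    rw [Spec.map_preimage, IsOpenImmersion.lift_fac]⟩

theorem exists_affine_bound {k : Type u} [Field k] [Finite k] {X : Scheme.{u}}
    (f : X ⟶ Spec (CommRingCat.of k)) [LocallyOfFiniteType f] (r : ℕ)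
    (hr : topologicalKrullDim X ≤ r) (U : X.Opens) (hU : IsAffineOpen U) :
    ∃ c : ℕ, ∀ (k' : Type u) [Field k'] [Algebra k k'] [Finite k'],
      {g : Spec (CommRingCat.of k') ⟶ X | g ≫ f = sm[k, k'] ∧
        Set.range g.base ⊆ (U : Set X)}.Finite ∧
      {g : Spec (CommRingCat.of k') ⟶ X | g ≫ f = sm[k, k'] ∧
        Set.range g.base ⊆ (U : Set X)}.ncard ≤ c * Nat.card k ^ (r * Module.finrank k k') := by
  let φ : CommRingCat.of k ⟶ Γ(X, U) := Spec.preimage (hU.fromSpec ≫ f)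
  have hφ : Spec.map φ = hU.fromSpec ≫ f := Spec.map_preimage _
  have hft : φ.hom.FiniteType := by
    have h1 : LocallyOfFiniteType (hU.fromSpec ≫ f) := inferInstance
    rw [← hφ] at h1
    exact (HasRingHomProperty.Spec_iff (P := @LocallyOfFiniteType)).mp h1
  letI alg : Algebra k Γ(X, U) := φ.hom.toAlgebra
  haveI : Algebra.FiniteType k Γ(X, U) := hft
  rcases subsingleton_or_nontrivial Γ(X, U) with hsub | hnt
  · refine ⟨0, fun k' _ _ _ => ?_⟩
    have hempty : {g : Spec (CommRingCat.of k') ⟶ X | g ≫ f = sm[k, k'] ∧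
        Set.range g.base ⊆ (U : Set X)} = ∅ := by
      ext g'
      simp only [Set.mem_setOf_eq, Set.mem_empty_iff_false, iff_false]
      rintro ⟨-, hg2⟩
      obtain ⟨ψ, -⟩ := exists_ringHom_of_range_subset U hU k' g' hg2
      have h1 : (1 : k') = 0 := by
        rw [← map_one ψ.hom, Subsingleton.elim (1 : Γ(X, U)) 0, map_zero]
      exact one_ne_zero h1
    rw [hempty]
    exact ⟨Set.finite_empty, by simp⟩
  obtain ⟨s, g, hginj, hgint⟩ := exists_integral_inj_algHom_of_fg k Γ(X, U)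
  have hs : s ≤ r := by
    have h1 : ((s : ℕ∞) : WithBot ℕ∞) ≤ ringKrullDim Γ(X, U) :=
      Groth.Agent.FibreCone.natCast_le_ringKrullDim_of_injective k Γ(X, U) s g hginj
    have h2 : ringKrullDim Γ(X, U) ≤ topologicalKrullDim X := by
      rw [← PrimeSpectrum.topologicalKrullDim_eq_ringKrullDim]
      exact hU.fromSpec.isOpenEmbedding.isInducing.topologicalKrullDim_le
    have h3 : ((s : ℕ∞) : WithBot ℕ∞) ≤ ((r : ℕ) : WithBot ℕ∞) := h1.trans (h2.trans hr)
    exact_mod_cast h3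
  obtain ⟨c, hc⟩ := card_ringHom_le φ.hom hft s g.toRingHom
    (RingHom.ext fun x => g.commutes x) (fun a => hgint a)
  refine ⟨c, fun k' _ _ _ => ?_⟩
  obtain ⟨hfin, hle⟩ := hc k'
  have hex : ∀ g' : Spec (CommRingCat.of k') ⟶ X,
      g' ∈ {g : Spec (CommRingCat.of k') ⟶ X | g ≫ f = sm[k, k'] ∧
        Set.range g.base ⊆ (U : Set X)} →
      ∃ ψ : Γ(X, U) ⟶ CommRingCat.of k', Spec.map ψ ≫ hU.fromSpec = g' := by
    intro g' hg'
    exact exists_ringHom_of_range_subset U hU k' g' hg'.2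
  choose ψ hψ using hex
  have hcomm : ∀ (g' : Spec (CommRingCat.of k') ⟶ X) (hg' : g' ∈ {g : Spec (CommRingCat.of k') ⟶ X |
      g ≫ f = sm[k, k'] ∧ Set.range g.base ⊆ (U : Set X)}),
      (ψ g' hg').hom.comp φ.hom = algebraMap k k' := by
    intro g' hg'
    have h1 : φ ≫ ψ g' hg' = CommRingCat.ofHom (algebraMap k k') := by
      apply Spec.map_injective
      rw [Spec.map_comp, hφ, ← Category.assoc, hψ g' hg']
      exact hg'.1
    exact congrArg (fun t : CommRingCat.of k ⟶ CommRingCat.of k' => t.hom) h1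
  let Θ : ↥{g : Spec (CommRingCat.of k') ⟶ X | g ≫ f = sm[k, k'] ∧
      Set.range g.base ⊆ (U : Set X)} →
      {ψ : Γ(X, U) →+* k' // ψ.comp φ.hom = algebraMap k k'} :=
    fun x => ⟨(ψ x.1 x.2).hom, hcomm x.1 x.2⟩
  have hΘ : Function.Injective Θ := by
    intro x y h
    have h1 : (ψ x.1 x.2).hom = (ψ y.1 y.2).hom := congrArg Subtype.val h
    have h2 : ψ x.1 x.2 = ψ y.1 y.2 := CommRingCat.hom_ext h1
    apply Subtype.ext
    rw [← hψ x.1 x.2, ← hψ y.1 y.2, h2]
  haveI : Finite ↥{g : Spec (CommRingCat.of k') ⟶ X | g ≫ f = sm[k, k'] ∧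
      Set.range g.base ⊆ (U : Set X)} := Finite.of_injective Θ hΘ
  refine ⟨Set.toFinite _, ?_⟩
  have hq : 0 < Nat.card k := Nat.card_pos
  have hk' : Nat.card k' = Nat.card k ^ Module.finrank k k' := Module.natCard_eq_pow_finrank
  calc _ = Nat.card ↥{g : Spec (CommRingCat.of k') ⟶ X | g ≫ f = sm[k, k'] ∧
        Set.range g.base ⊆ (U : Set X)} := (Nat.card_coe_set_eq _).symm
    _ ≤ Nat.card {ψ : Γ(X, U) →+* k' // ψ.comp φ.hom = algebraMap k k'} :=
        Nat.card_le_card_of_injective Θ hΘ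
    _ ≤ c * Nat.card k' ^ s := hle
    _ = c * Nat.card k ^ (Module.finrank k k' * s) := by rw [hk', ← pow_mul]
    _ ≤ c * Nat.card k ^ (r * Module.finrank k k') := by
        refine Nat.mul_le_mul_left c (Nat.pow_le_pow_right hq ?_)
        rw [mul_comm]
        exact Nat.mul_le_mul_right _ hs

theorem main13062 {k : Type u} [Field k] [Finite k] {X : Scheme.{u}}
    (f : X ⟶ Spec (CommRingCat.of k)) [LocallyOfFiniteType f] [QuasiCompact f] (r : ℕ)
    (hr : topologicalKrullDim X ≤ r) :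
    ∃ c : ℕ, ∀ (k' : Type u) [Field k'] [Algebra k k'] [Finite k'],
      SgaExt.pointCount f k' ≤ c * Nat.card k ^ (r * Module.finrank k k') := by
  haveI : CompactSpace X := QuasiCompact.compactSpace_of_compactSpace f
  have hch : ∀ x : X, ∃ U : X.Opens, IsAffineOpen U ∧ x ∈ U := fun x => by
    obtain ⟨U, hU, hx, -⟩ := TopologicalSpace.Opens.isBasis_iff_nbhd.mp X.isBasis_affineOpens
      (TopologicalSpace.Opens.mem_top x)
    exact ⟨U, hU, hx⟩
  choose U hU hxU using hch
  obtain ⟨t, ht⟩ := isCompact_univ.elim_finite_subcover (fun x => ((U x : X.Opens) : Set X))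
    (fun x => (U x).isOpen) (fun x _ => Set.mem_iUnion.mpr ⟨x, hxU x⟩)
  have hb := fun x : X => exists_affine_bound f r hr (U x) (hU x)
  choose c hc using hb
  refine ⟨∑ x ∈ t, c x, fun k' _ _ _ => ?_⟩
  haveI : Subsingleton ↥(Spec (CommRingCat.of k')) :=
    inferInstanceAs (Subsingleton (PrimeSpectrum k'))
  let pt : ↥(Spec (CommRingCat.of k')) := (default : PrimeSpectrum k')
  have hcov : {g : Spec (CommRingCat.of k') ⟶ X | g ≫ f = sm[k, k']} ⊆
      ⋃ x ∈ t, {g : Spec (CommRingCat.of k') ⟶ X | g ≫ f = sm[k, k'] ∧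
        Set.range g.base ⊆ ((U x : X.Opens) : Set X)} := by
    intro g hg
    obtain ⟨x, hx, hgx⟩ := Set.mem_iUnion₂.mp (ht (Set.mem_univ (g.base pt)))
    refine Set.mem_iUnion₂.mpr ⟨x, hx, hg, ?_⟩
    rintro _ ⟨z, rfl⟩
    have hz : z = pt := Subsingleton.elim _ _
    rw [hz]; exact hgx
  have hfinU : (⋃ x ∈ t, {g : Spec (CommRingCat.of k') ⟶ X | g ≫ f = sm[k, k'] ∧
        Set.range g.base ⊆ ((U x : X.Opens) : Set X)}).Finite :=
    Set.Finite.biUnion t.finite_toSet (fun x _ => (hc x k').1)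
  calc SgaExt.pointCount f k'
      = Nat.card ↥{g : Spec (CommRingCat.of k') ⟶ X | g ≫ f = sm[k, k']} := rfl
    _ = {g : Spec (CommRingCat.of k') ⟶ X | g ≫ f = sm[k, k']}.ncard :=
        Nat.card_coe_set_eq _
    _ ≤ (⋃ x ∈ t, {g : Spec (CommRingCat.of k') ⟶ X | g ≫ f = sm[k, k'] ∧
        Set.range g.base ⊆ ((U x : X.Opens) : Set X)}).ncard := Set.ncard_le_ncard hcov hfinU
    _ ≤ ∑ x ∈ t, {g : Spec (CommRingCat.of k') ⟶ X | g ≫ f = sm[k, k'] ∧
        Set.range g.base ⊆ ((U x : X.Opens) : Set X)}.ncard := Finset.set_ncard_biUnion_le t _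
    _ ≤ ∑ x ∈ t, c x * Nat.card k ^ (r * Module.finrank k k') :=
        Finset.sum_le_sum fun x _ => (hc x k').2
    _ = (∑ x ∈ t, c x) * Nat.card k ^ (r * Module.finrank k k') := (Finset.sum_mul _ _ _).symm

end Groth.Agent.Lib.PtCountBoundH4
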