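import Mathlib
import Groth.Agent.Lib.FTInt_helper8
import Groth.Agent.Lib.IntegralHeight_helper5
import Groth.Agent.Lib.PtCountBound_helper4

set_option autoImplicit false
set_option linter.style.haveILetI false
set_option linter.unusedSectionVars false

universe u

open CategoryTheory CategoryTheory.Limits AlgebraicGeometry

namespace Groth.Agent.Lib.PtCountIntH4

/-! ### Part 0: small facts -/

theorem intCast_ne_zero_of_lt {F : Type*} [Field F] (p : ℕ) [CharP F p] (n : ℤ) (hn : n ≠ 0)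
    (hlt : n.natAbs < p) : ((n : ℤ) : F) ≠ 0 := by
  intro h0
  have h1 : (p : ℤ) ∣ n := (CharP.intCast_eq_zero_iff F p n).mp h0
  have h2 : p ∣ n.natAbs := Int.natCast_dvd.mp h1
  have h3 : p ≤ n.natAbs := Nat.le_of_dvd (Int.natAbs_pos.mpr hn) h2
  omega

theorem real_conv (N C p m e : ℕ) (h : N ≤ C * (p ^ m) ^ e) (x : ℝ)
    (hx : x = ((m * e : ℕ) : ℝ)) :
    (N : ℝ) ≤ ((C : ℝ) + 1) * (p : ℝ) ^ x := by
  subst hx
  rw [Real.rpow_natCast]
  have h1 : (N : ℝ) ≤ (C : ℝ) * ((p : ℝ) ^ (m * e)) := by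
    have h2 := (Nat.cast_le (α := ℝ)).mpr h
    rw [← pow_mul] at h2
    push_cast at h2
    exact h2
  have h2 : (0 : ℝ) ≤ (p : ℝ) ^ (m * e) := by positivity
  exact h1.trans (mul_le_mul_of_nonneg_right (by linarith) h2)

/-! ### Part 1: counting ring homs given integrality data over `ℤ[x₁..x_s]` -/

theorem card_ringHom_le_of_data {A : Type u} [CommRing A] (T : Finset A)
    (hT : Algebra.adjoin ℤ (T : Set A) = ⊤) (s : ℕ)
    (h : MvPolynomial (Fin s) ℤ →+* A)
    (D : ↥T → ℤ) (Q : ↥T → Polynomial (MvPolynomial (Fin s) ℤ)) (hQ : ∀ a, (Q a).Monic)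
    (F : Type u) [Field F] [Finite F]
    (hD : ∀ a : ↥T, ((D a : ℤ) : F) ≠ 0)
    (hrel : ∀ (φ : A →+* F) (a : ↥T),
      φ (Polynomial.eval₂ h (((D a : ℤ) : A) * a.1) (Q a)) = 0) :
    Nat.card (A →+* F) ≤ (∏ a : ↥T, (Q a).natDegree) * Nat.card F ^ s := by
  classical
  letI : Fintype F := Fintype.ofFinite F
  let vOf : (A →+* F) → (Fin s → F) := fun φ i => φ (h (MvPolynomial.X i))
  let ρ : (Fin s → F) → (MvPolynomial (Fin s) ℤ →+* F) := fun v =>
    MvPolynomial.eval₂Hom (Int.castRingHom F) v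
  have hφh : ∀ φ : A →+* F, φ.comp h = ρ (vOf φ) := by
    intro φ
    refine MvPolynomial.ringHom_ext (fun n => ?_) (fun i => ?_)
    · exact RingHom.congr_fun (Subsingleton.elim ((φ.comp h).comp MvPolynomial.C)
        ((ρ (vOf φ)).comp MvPolynomial.C)) n
    · exact (MvPolynomial.eval₂Hom_X' (Int.castRingHom F) (vOf φ) i).symm
  let R : (Fin s → F) → Finset (↥T → F) := fun v =>
    Fintype.piFinset fun a : ↥T => ((Q a).map (ρ v)).roots.toFinset
  let Dset : Finset ((Fin s → F) × (↥T → F)) :=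
    Finset.univ.biUnion fun v => (R v).image (Prod.mk v)
  let Ψ : (A →+* F) → (Fin s → F) × (↥T → F) :=
    fun φ => (vOf φ, fun a => φ (((D a : ℤ) : A) * a.1))
  have hΨinj : Function.Injective Ψ := by
    intro φ₁ φ₂ he
    have h2 : (fun a : ↥T => φ₁ (((D a : ℤ) : A) * a.1)) =
        fun a : ↥T => φ₂ (((D a : ℤ) : A) * a.1) := (Prod.ext_iff.mp he).2
    have h3 : ∀ a ∈ (T : Set A), φ₁.toIntAlgHom a = φ₂.toIntAlgHom a := by
      intro a ha
      have h4 := congrFun h2 ⟨a, Finset.mem_coe.mp ha⟩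
      simp only [map_mul, map_intCast] at h4
      exact mul_left_cancel₀ (hD ⟨a, Finset.mem_coe.mp ha⟩) h4
    have h5 := AlgHom.ext_of_adjoin_eq_top hT h3
    exact RingHom.ext fun x => AlgHom.congr_fun h5 x
  have hmem : ∀ φ, Ψ φ ∈ Dset := by
    intro φ
    refine Finset.mem_biUnion.mpr ⟨vOf φ, Finset.mem_univ _, Finset.mem_image.mpr
      ⟨fun a => φ (((D a : ℤ) : A) * a.1), ?_, rfl⟩⟩
    refine Fintype.mem_piFinset.mpr fun a => ?_
    have hne : (Q a).map (ρ (vOf φ)) ≠ 0 := ((hQ a).map _).ne_zero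
    refine Multiset.mem_toFinset.mpr ((Polynomial.mem_roots hne).mpr ?_)
    rw [Polynomial.IsRoot.def, Polynomial.eval_map, ← hφh φ, ← Polynomial.hom_eval₂]
    exact hrel φ a
  let Ψ' : (A →+* F) → ↥Dset := fun φ => ⟨Ψ φ, hmem φ⟩
  have hΨ'inj : Function.Injective Ψ' := fun φ₁ φ₂ h => hΨinj (congrArg Subtype.val h)
  have hRle : ∀ v, (R v).card ≤ ∏ a : ↥T, (Q a).natDegree := by
    intro v
    rw [Fintype.card_piFinset]
    refine Finset.prod_le_prod (fun _ _ => Nat.zero_le _) fun a _ => ?_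
    exact (Multiset.toFinset_card_le _).trans
      ((Polynomial.card_roots' _).trans Polynomial.natDegree_map_le)
  have hDc : Dset.card ≤ (∏ a : ↥T, (Q a).natDegree) * Nat.card F ^ s := by
    calc Dset.card
        ≤ ∑ v ∈ (Finset.univ : Finset (Fin s → F)), ((R v).image (Prod.mk v)).card :=
          Finset.card_biUnion_le
      _ ≤ ∑ v ∈ (Finset.univ : Finset (Fin s → F)), (R v).card :=
          Finset.sum_le_sum fun v _ => Finset.card_image_le
      _ ≤ (Finset.univ : Finset (Fin s → F)).card • ∏ a : ↥T, (Q a).natDegree :=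
          Finset.sum_le_card_nsmul _ _ _ fun v _ => hRle v
      _ = (∏ a : ↥T, (Q a).natDegree) * Nat.card F ^ s := by
          rw [Finset.card_univ, Fintype.card_fun, Fintype.card_fin, smul_eq_mul,
            Nat.card_eq_fintype_card, mul_comm]
  calc Nat.card (A →+* F) ≤ Nat.card ↥Dset := Nat.card_le_card_of_injective Ψ' hΨ'inj
    _ = Dset.card := by rw [Nat.card_eq_fintype_card, Fintype.card_coe]
    _ ≤ _ := hDc

/-! ### Part 2: clearing denominators -/

theorem clear_denoms {B : Type u} [CommRing B] [Algebra ℚ B] (s : ℕ)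
    (g' : MvPolynomial (Fin s) ℚ →ₐ[ℚ] B) (z : B) (hz : g'.toRingHom.IsIntegralElem z) :
    ∃ n : ℤ, n ≠ 0 ∧ ∃ Q : Polynomial (MvPolynomial (Fin s) ℤ), Q.Monic ∧
      Polynomial.eval₂ (g'.toRingHom.comp (MvPolynomial.map (algebraMap ℤ ℚ)))
        ((n : B) * z) Q = 0 := by
  letI a1 : Algebra (MvPolynomial (Fin s) ℚ) B := g'.toRingHom.toAlgebra
  letI a2 : Algebra (MvPolynomial (Fin s) ℤ) (MvPolynomial (Fin s) ℚ) :=
    MvPolynomial.algebraMvPolynomial
  letI a3 : Algebra (MvPolynomial (Fin s) ℤ) B :=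
    (g'.toRingHom.comp (MvPolynomial.map (algebraMap ℤ ℚ))).toAlgebra
  haveI : IsScalarTower (MvPolynomial (Fin s) ℤ) (MvPolynomial (Fin s) ℚ) B :=
    IsScalarTower.of_algebraMap_eq (fun x => rfl)
  haveI hloc : IsLocalization ((nonZeroDivisors ℤ).map (MvPolynomial.C (σ := Fin s)))
      (MvPolynomial (Fin s) ℚ) := MvPolynomial.isLocalization (nonZeroDivisors ℤ) ℚ
  obtain ⟨⟨m, hm⟩, hint⟩ := IsIntegral.exists_multiple_integral_of_isLocalization
    ((nonZeroDivisors ℤ).map (MvPolynomial.C (σ := Fin s))) z hz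
  obtain ⟨n, hn, rfl⟩ := Submonoid.mem_map.mp hm
  obtain ⟨Q, hQm, hQ0⟩ := hint
  refine ⟨n, nonZeroDivisors.ne_zero hn, Q, hQm, ?_⟩
  have e1 : algebraMap (MvPolynomial (Fin s) ℤ) B (MvPolynomial.C n) = (n : B) := by
    show g' (MvPolynomial.map (algebraMap ℤ ℚ) (MvPolynomial.C n)) = _
    rw [MvPolynomial.map_C]
    calc g' (MvPolynomial.C (algebraMap ℤ ℚ n)) = algebraMap ℚ B (algebraMap ℤ ℚ n) :=
          g'.commutes _
      _ = (n : B) := by rw [eq_intCast (algebraMap ℤ ℚ) n, map_intCast]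
  have e2 : ((⟨MvPolynomial.C n, hm⟩ :
      ↥((nonZeroDivisors ℤ).map (MvPolynomial.C (σ := Fin s)))) • z) = (n : B) * z := by
    rw [Submonoid.smul_def, Algebra.smul_def, e1]
  rw [e2] at hQ0
  exact hQ0

theorem generic_data {A : Type u} [CommRing A] (T : Finset A) (B : Type u) [CommRing B]
    [Algebra ℚ B] [Algebra A B]
    [IsLocalization (Algebra.algebraMapSubmonoid A (nonZeroDivisors ℤ)) B] (s : ℕ)
    (g : MvPolynomial (Fin s) ℚ →ₐ[ℚ] B) (hg : g.toRingHom.IsIntegral) :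
    ∃ (h : MvPolynomial (Fin s) ℤ →+* A) (n m : ↥T → ℤ)
      (Q : ↥T → Polynomial (MvPolynomial (Fin s) ℤ)),
      ∀ a : ↥T, n a ≠ 0 ∧ m a ≠ 0 ∧ (Q a).Monic ∧
        ((m a : ℤ) : A) * Polynomial.eval₂ h (((n a : ℤ) : A) * a.1) (Q a) = 0 := by
  classical
  have hcast : ∀ k : ℤ, algebraMap A B (algebraMap ℤ A k) = algebraMap ℚ B (k : ℚ) := fun k => by
    rw [eq_intCast (algebraMap ℤ A) k, map_intCast, map_intCast]
  obtain ⟨⟨d, hd⟩, hdy⟩ := IsLocalization.exist_integer_multiples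
    (Algebra.algebraMapSubmonoid A (nonZeroDivisors ℤ)) (Finset.univ : Finset (Fin s))
    (fun i => g (MvPolynomial.X i))
  obtain ⟨N, hN, rfl⟩ := Submonoid.mem_map.mp hd
  have hN0 : N ≠ 0 := nonZeroDivisors.ne_zero hN
  have hNq : (N : ℚ) ≠ 0 := by exact_mod_cast hN0
  have hb' : ∀ i : Fin s, ∃ bi : A,
      algebraMap A B bi = (algebraMap ℤ A N) • g (MvPolynomial.X i) :=
    fun i => RingHom.mem_rangeS.mp (hdy i (Finset.mem_univ i))
  choose b hb using hb'
  let g' : MvPolynomial (Fin s) ℚ →ₐ[ℚ] B := MvPolynomial.aeval (fun i => algebraMap A B (b i))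
  let τ : MvPolynomial (Fin s) ℚ →ₐ[ℚ] MvPolynomial (Fin s) ℚ :=
    MvPolynomial.aeval (fun i => MvPolynomial.C ((N : ℚ)⁻¹) * MvPolynomial.X i)
  have hgτ : g'.comp τ = g := by
    refine MvPolynomial.algHom_ext fun i => ?_
    calc (g'.comp τ) (MvPolynomial.X i)
        = g' (MvPolynomial.C ((N : ℚ)⁻¹) * MvPolynomial.X i) := by
          show g' (τ (MvPolynomial.X i)) = _
          rw [MvPolynomial.aeval_X]
      _ = algebraMap ℚ B ((N : ℚ)⁻¹) * algebraMap A B (b i) := by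
          rw [map_mul]
          congr 1
          · exact g'.commutes _
          · exact MvPolynomial.aeval_X _ i
      _ = algebraMap ℚ B ((N : ℚ)⁻¹) * (algebraMap ℚ B (N : ℚ) * g (MvPolynomial.X i)) := by
          rw [hb i, Algebra.smul_def, hcast]
      _ = g (MvPolynomial.X i) := by
          rw [← mul_assoc, ← map_mul, inv_mul_cancel₀ hNq, map_one, one_mul]
  have hint' : ∀ z : B, g'.toRingHom.IsIntegralElem z := by
    intro z
    obtain ⟨P, hPm, hP0⟩ := hg z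
    refine ⟨P.map τ.toRingHom, hPm.map _, ?_⟩
    rw [Polynomial.eval₂_map]
    have hc : g'.toRingHom.comp τ.toRingHom = g.toRingHom := by
      rw [← hgτ]; rfl
    rw [hc]
    exact hP0
  let h : MvPolynomial (Fin s) ℤ →+* A :=
    (MvPolynomial.aeval b : MvPolynomial (Fin s) ℤ →ₐ[ℤ] A).toRingHom
  have hcomp : g'.toRingHom.comp (MvPolynomial.map (algebraMap ℤ ℚ)) = (algebraMap A B).comp h := by
    refine MvPolynomial.ringHom_ext (fun k => ?_) (fun i => ?_)
    · exact RingHom.congr_fun (Subsingleton.elim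
        ((g'.toRingHom.comp (MvPolynomial.map (algebraMap ℤ ℚ))).comp MvPolynomial.C)
        (((algebraMap A B).comp h).comp MvPolynomial.C)) k
    · show g' (MvPolynomial.map (algebraMap ℤ ℚ) (MvPolynomial.X i)) =
        algebraMap A B (MvPolynomial.aeval b (MvPolynomial.X i))
      rw [MvPolynomial.map_X, MvPolynomial.aeval_X, MvPolynomial.aeval_X]
  have key : ∀ a : ↥T, ∃ (n m : ℤ) (Q : Polynomial (MvPolynomial (Fin s) ℤ)),
      n ≠ 0 ∧ m ≠ 0 ∧ Q.Monic ∧
        ((m : ℤ) : A) * Polynomial.eval₂ h (((n : ℤ) : A) * a.1) Q = 0 := by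
    intro a
    obtain ⟨n, hn, Q, hQm, hQ0⟩ := clear_denoms s g' (algebraMap A B a.1) (hint' _)
    rw [hcomp] at hQ0
    have e1 : ((n : ℤ) : B) * algebraMap A B a.1 = algebraMap A B (((n : ℤ) : A) * a.1) := by
      rw [map_mul, map_intCast]
    rw [e1, ← Polynomial.hom_eval₂] at hQ0
    obtain ⟨⟨d, hd⟩, hd0⟩ := (IsLocalization.map_eq_zero_iff
      (Algebra.algebraMapSubmonoid A (nonZeroDivisors ℤ)) B _).mp hQ0
    obtain ⟨m, hm, rfl⟩ := Submonoid.mem_map.mp hd
    refine ⟨n, m, Q, hn, nonZeroDivisors.ne_zero hm, hQm, ?_⟩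
    have hd1 : algebraMap ℤ A m * Polynomial.eval₂ h (((n : ℤ) : A) * a.1) Q = 0 := hd0
    rw [eq_intCast (algebraMap ℤ A) m] at hd1
    exact hd1
  choose n m Q hn hm hQ hrel using key
  exact ⟨h, n, m, Q, fun a => ⟨hn a, hm a, hQ a, hrel a⟩⟩

/-! ### Part 3: dimension -/

theorem dim_ge_of_nn {k : Type*} [Field k] {B : Type u} [CommRing B] [Algebra k B] (s : ℕ)
    (g : MvPolynomial (Fin s) k →ₐ[k] B)
    (hginj : Function.Injective g) (hgint : g.toRingHom.IsIntegral) :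
    ((s : ℕ) : WithBot ℕ∞) ≤ ringKrullDim B := by
  letI : Algebra (MvPolynomial (Fin s) k) B := g.toRingHom.toAlgebra
  haveI : Algebra.IsIntegral (MvPolynomial (Fin s) k) B := ⟨hgint⟩
  have h1 := Groth.Agent.IntegralHeight.ringKrullDim_le_of_isIntegral_of_injective
    (MvPolynomial (Fin s) k) B hginj
  have h2 : ringKrullDim (MvPolynomial (Fin s) k) = ringKrullDim k + Nat.card (Fin s) :=
    MvPolynomial.ringKrullDim_of_isNoetherianRing
  rw [h2, ringKrullDim_eq_zero_of_field, zero_add] at h1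
  simp only [Nat.card_eq_fintype_card, Fintype.card_fin] at h1
  exact h1

theorem dim_succ_le (A : Type u) [CommRing A] [Algebra.FiniteType ℤ A] (B : Type u)
    [CommRing B] [Algebra A B]
    [IsLocalization (Algebra.algebraMapSubmonoid A (nonZeroDivisors ℤ)) B] (s : ℕ)
    (hs : ((s : ℕ) : WithBot ℕ∞) ≤ ringKrullDim B) :
    (((s + 1 : ℕ)) : WithBot ℕ∞) ≤ ringKrullDim A := by
  classical
  obtain ⟨l, hl⟩ := Order.le_krullDim_iff.mp hs
  let cm : PrimeSpectrum B → PrimeSpectrum A := PrimeSpectrum.comap (algebraMap A B)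
  have hcm : StrictMono cm :=
    Monotone.strictMono_of_injective (fun p q hpq => Ideal.comap_mono hpq)
      (PrimeSpectrum.localization_comap_injective B
        (Algebra.algebraMapSubmonoid A (nonZeroDivisors ℤ)))
  let l' : LTSeries (PrimeSpectrum A) := l.map cm hcm
  have hlast : l'.last = cm l.last := LTSeries.last_map l cm hcm
  have hPdisj : ∀ n : ℤ, n ≠ 0 → algebraMap ℤ A n ∉ l'.last.asIdeal := by
    intro n hn hmem
    rw [hlast] at hmem
    have h1 : algebraMap A B (algebraMap ℤ A n) ∈ l.last.asIdeal := hmem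
    have hu : IsUnit (algebraMap A B (algebraMap ℤ A n)) :=
      IsLocalization.map_units B
        (⟨algebraMap ℤ A n, Algebra.mem_algebraMapSubmonoid_of_mem
          (⟨n, mem_nonZeroDivisors_of_ne_zero hn⟩ : nonZeroDivisors ℤ)⟩ :
          Algebra.algebraMapSubmonoid A (nonZeroDivisors ℤ))
    exact l.last.isPrime.ne_top (Ideal.eq_top_of_isUnit_mem _ h1 hu)
  have hnotmax : ¬ l'.last.asIdeal.IsMaximal := by
    intro hmax
    have hK : IsField (A ⧸ l'.last.asIdeal) :=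
      (Ideal.Quotient.maximal_ideal_iff_isField_quotient _).mp hmax
    haveI : @Algebra.FiniteType ℤ (A ⧸ l'.last.asIdeal) _ _ (Ring.toIntAlgebra _) :=
      Algebra.FiniteType.of_surjective ((Ideal.Quotient.mk l'.last.asIdeal).toIntAlgHom)
        Ideal.Quotient.mk_surjective
    haveI : Finite (A ⧸ l'.last.asIdeal) :=
      Groth.Agent.FTIntH8.finite_of_field_finiteType_int _ hK
    letI : Fintype (A ⧸ l'.last.asIdeal) := Fintype.ofFinite _
    have h0 : ((Fintype.card (A ⧸ l'.last.asIdeal) : ℕ) : A ⧸ l'.last.asIdeal) = 0 :=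
      Nat.cast_card_eq_zero _
    have hne : ((Fintype.card (A ⧸ l'.last.asIdeal) : ℕ) : ℤ) ≠ 0 := by
      exact_mod_cast Fintype.card_ne_zero
    apply hPdisj _ hne
    rw [← Ideal.Quotient.eq_zero_iff_mem, eq_intCast, map_intCast, Int.cast_natCast]
    exact h0
  obtain ⟨𝔪, h𝔪, hle⟩ := Ideal.exists_le_maximal l'.last.asIdeal l'.last.isPrime.ne_top
  have hlt : l'.last < (⟨𝔪, h𝔪.isPrime⟩ : PrimeSpectrum A) := by
    refine lt_of_le_of_ne (show l'.last ≤ (⟨𝔪, h𝔪.isPrime⟩ : PrimeSpectrum A) from hle) ?_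
    intro he
    apply hnotmax
    have : l'.last.asIdeal = 𝔪 := congrArg PrimeSpectrum.asIdeal he
    rw [this]
    exact h𝔪
  let l'' : LTSeries (PrimeSpectrum A) := l'.snoc ⟨𝔪, h𝔪.isPrime⟩ hlt
  have hlen : l''.length = s + 1 := by
    show (l'.snoc _ hlt).length = s + 1
    rw [RelSeries.snoc_length]
    show l.length + 1 = s + 1
    rw [hl]
  have hfin := Order.LTSeries.length_le_krullDim l''
  rw [hlen] at hfin
  exact hfin

/-! ### Part 4: the generic bound (large primes) -/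

open TensorProduct in
theorem generic_bound (A : Type u) [CommRing A] [Algebra.FiniteType ℤ A] (r : ℕ)
    (hr : ringKrullDim A ≤ r) :
    ∃ c p₀ : ℕ, ∀ p : ℕ, p.Prime → p₀ ≤ p →
      ∀ (F : Type u) [Field F] [Finite F] [CharP F p],
      (r = 0 → Nat.card (A →+* F) = 0) ∧ Nat.card (A →+* F) ≤ c * Nat.card F ^ (r - 1) := by
  classical
  letI : Algebra A (ℚ ⊗[ℤ] A) := Algebra.TensorProduct.rightAlgebra
  haveI hloc : IsLocalization (Algebra.algebraMapSubmonoid A (nonZeroDivisors ℤ)) (ℚ ⊗[ℤ] A) :=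
    IsLocalization.tensorRight ℚ (nonZeroDivisors ℤ)
  rcases subsingleton_or_nontrivial (ℚ ⊗[ℤ] A) with hsub | hnt
  · have h10 : algebraMap A (ℚ ⊗[ℤ] A) 1 = 0 := Subsingleton.elim _ _
    obtain ⟨⟨d, hd⟩, hd0⟩ := (IsLocalization.map_eq_zero_iff
      (Algebra.algebraMapSubmonoid A (nonZeroDivisors ℤ)) (ℚ ⊗[ℤ] A) (1 : A)).mp h10
    obtain ⟨n, hn, rfl⟩ := Submonoid.mem_map.mp hd
    have hn0 : n ≠ 0 := nonZeroDivisors.ne_zero hn
    have hnA : ((n : ℤ) : A) = 0 := by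
      have hd1 : algebraMap ℤ A n * 1 = 0 := hd0
      rw [mul_one, eq_intCast (algebraMap ℤ A) n] at hd1
      exact hd1
    refine ⟨0, n.natAbs + 1, fun p hp hpp F _ _ _ => ?_⟩
    have hnF : ((n : ℤ) : F) ≠ 0 := intCast_ne_zero_of_lt p n hn0 (by omega)
    haveI : IsEmpty (A →+* F) :=
      ⟨fun φ => hnF (by rw [← map_intCast φ n, hnA, map_zero])⟩
    exact ⟨fun _ => Nat.card_of_isEmpty, by rw [Nat.card_of_isEmpty]; exact Nat.zero_le _⟩
  · haveI := hnt
    obtain ⟨s, g, hginj, hgint⟩ := exists_integral_inj_algHom_of_fg ℚ (ℚ ⊗[ℤ] A)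
    have hsB : ((s : ℕ) : WithBot ℕ∞) ≤ ringKrullDim (ℚ ⊗[ℤ] A) := dim_ge_of_nn s g hginj hgint
    have hs1 : (((s + 1 : ℕ)) : WithBot ℕ∞) ≤ ringKrullDim A := dim_succ_le A (ℚ ⊗[ℤ] A) s hsB
    have hsr : s + 1 ≤ r := by
      have h3 : (((s + 1 : ℕ)) : WithBot ℕ∞) ≤ ((r : ℕ) : WithBot ℕ∞) := hs1.trans hr
      exact_mod_cast h3
    obtain ⟨T, hT⟩ := (Algebra.FiniteType.out : (⊤ : Subalgebra ℤ A).FG)
    obtain ⟨h, n, m, Q, hdata⟩ := generic_data T (ℚ ⊗[ℤ] A) s g hgint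
    refine ⟨∏ a : ↥T, (Q a).natDegree, 1 + ∑ a : ↥T, ((n a).natAbs + (m a).natAbs),
      fun p hp hpp F _ _ _ => ⟨fun h0 => absurd h0 (by omega), ?_⟩⟩
    have hbound : ∀ a : ↥T, (n a).natAbs < p ∧ (m a).natAbs < p := by
      intro a
      have h4 := Finset.single_le_sum (f := fun a : ↥T => (n a).natAbs + (m a).natAbs)
        (fun i _ => Nat.zero_le _) (Finset.mem_univ a)
      constructor <;> omega
    have h1 := card_ringHom_le_of_data T hT s h n Q (fun a => (hdata a).2.2.1) F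
      (fun a => intCast_ne_zero_of_lt p (n a) (hdata a).1 (hbound a).1)
      (fun φ a => by
        have hm : ((m a : ℤ) : F) ≠ 0 :=
          intCast_ne_zero_of_lt p (m a) (hdata a).2.1 (hbound a).2
        have h2 : ((m a : ℤ) : F) * φ (Polynomial.eval₂ h (((n a : ℤ) : A) * a.1) (Q a)) = 0 := by
          rw [← map_intCast φ, ← map_mul, (hdata a).2.2.2, map_zero]
        exact (mul_eq_zero.mp h2).resolve_left hm)
    calc Nat.card (A →+* F) ≤ (∏ a : ↥T, (Q a).natDegree) * Nat.card F ^ s := h1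
      _ ≤ (∏ a : ↥T, (Q a).natDegree) * Nat.card F ^ (r - 1) :=
        Nat.mul_le_mul_left _ (Nat.pow_le_pow_right Nat.card_pos (by omega))

/-! ### Part 5: the special bound (a fixed prime) -/

open TensorProduct in
theorem special_bound (A : Type u) [CommRing A] [Algebra.FiniteType ℤ A] (r : ℕ)
    (hr : ringKrullDim A ≤ r) (p : ℕ) (hp : p.Prime) :
    ∃ c : ℕ, ∀ (F : Type u) [Field F] [Finite F] [CharP F p],
      Nat.card (A →+* F) ≤ c * Nat.card F ^ r := by
  classical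
  haveI : Fact p.Prime := ⟨hp⟩
  let π : A →+* (ZMod p) ⊗[ℤ] A :=
    (Algebra.TensorProduct.includeRight : A →ₐ[ℤ] (ZMod p) ⊗[ℤ] A).toRingHom
  have hπ : Function.Surjective π :=
    Algebra.TensorProduct.includeRight_surjective A ZMod.intCast_surjective
  have hlift : ∀ (F : Type u) [Field F] [CharP F p] (φ : A →+* F),
      ∃ φ' : (ZMod p) ⊗[ℤ] A →+* F, φ'.comp π = φ := by
    intro F _ _ φ
    let f : ZMod p →ₐ[ℤ] F := (ZMod.castHom (dvd_refl p) F).toIntAlgHom
    have hc : ∀ (x : ZMod p) (y : A), Commute (f x) (φ.toIntAlgHom y) :=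
      fun _ _ => Commute.all _ _
    refine ⟨(Algebra.TensorProduct.lift f φ.toIntAlgHom hc).toRingHom, ?_⟩
    ext a
    show Algebra.TensorProduct.lift f φ.toIntAlgHom hc ((1 : ZMod p) ⊗ₜ[ℤ] a) = φ a
    rw [Algebra.TensorProduct.lift_tmul, map_one, one_mul]
    rfl
  rcases subsingleton_or_nontrivial ((ZMod p) ⊗[ℤ] A) with hsub | hnt
  · refine ⟨0, fun F _ _ _ => ?_⟩
    haveI : IsEmpty (A →+* F) := ⟨fun φ => by
      obtain ⟨φ', -⟩ := hlift F φ
      have h1 : (1 : F) = 0 := by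
        rw [← map_one φ', Subsingleton.elim (1 : (ZMod p) ⊗[ℤ] A) 0, map_zero]
      exact one_ne_zero h1⟩
    rw [Nat.card_of_isEmpty]
    exact Nat.zero_le _
  · haveI := hnt
    obtain ⟨s, g, hginj, hgint⟩ := exists_integral_inj_algHom_of_fg (ZMod p) ((ZMod p) ⊗[ℤ] A)
    have hsB : ((s : ℕ) : WithBot ℕ∞) ≤ ringKrullDim ((ZMod p) ⊗[ℤ] A) :=
      dim_ge_of_nn s g hginj hgint
    have hsr : s ≤ r := by
      have h3 : ((s : ℕ) : WithBot ℕ∞) ≤ ((r : ℕ) : WithBot ℕ∞) :=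
        hsB.trans ((ringKrullDim_le_of_surjective π hπ).trans hr)
      exact_mod_cast h3
    obtain ⟨T, hT⟩ := (Algebra.FiniteType.out : (⊤ : Subalgebra ℤ A).FG)
    have hb' : ∀ i : Fin s, ∃ bi : A, π bi = g (MvPolynomial.X i) := fun i => hπ _
    choose b hb using hb'
    let h : MvPolynomial (Fin s) ℤ →+* A :=
      (MvPolynomial.aeval b : MvPolynomial (Fin s) ℤ →ₐ[ℤ] A).toRingHom
    let mp : MvPolynomial (Fin s) ℤ →+* MvPolynomial (Fin s) (ZMod p) :=
      MvPolynomial.map (Int.castRingHom (ZMod p))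
    have hmp : Function.Surjective mp :=
      MvPolynomial.map_surjective (Int.castRingHom (ZMod p)) ZMod.intCast_surjective
    have hcomp : π.comp h = g.toRingHom.comp mp := by
      refine MvPolynomial.ringHom_ext (fun k => ?_) (fun i => ?_)
      · exact RingHom.congr_fun (Subsingleton.elim ((π.comp h).comp MvPolynomial.C)
          ((g.toRingHom.comp mp).comp MvPolynomial.C)) k
      · show π (MvPolynomial.aeval b (MvPolynomial.X i)) =
          g (MvPolynomial.map (Int.castRingHom (ZMod p)) (MvPolynomial.X i))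
        rw [MvPolynomial.aeval_X, MvPolynomial.map_X, hb]
    have key : ∀ a : ↥T, ∃ Q : Polynomial (MvPolynomial (Fin s) ℤ), Q.Monic ∧
        π (Polynomial.eval₂ h a.1 Q) = 0 := by
      intro a
      obtain ⟨P, hPm, hP0⟩ := hgint (π a.1)
      obtain ⟨Q, hQP, -, hQm⟩ := Polynomial.lifts_and_natDegree_eq_and_monic
        (Polynomial.mem_lifts_of_surjective hmp P) hPm
      refine ⟨Q, hQm, ?_⟩
      rw [Polynomial.hom_eval₂, hcomp, ← Polynomial.eval₂_map, hQP]
      exact hP0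
    choose Q hQm hQ0 using key
    refine ⟨∏ a : ↥T, (Q a).natDegree, fun F _ _ _ => ?_⟩
    have h1 := card_ringHom_le_of_data T hT s h (fun _ => (1 : ℤ)) Q hQm F
      (fun a => by
        show (((1 : ℤ) : ℤ) : F) ≠ 0
        rw [Int.cast_one]
        exact one_ne_zero)
      (fun φ a => by
        show φ (Polynomial.eval₂ h ((((1 : ℤ) : ℤ) : A) * a.1) (Q a)) = 0
        obtain ⟨φ', hφ'⟩ := hlift F φ
        rw [Int.cast_one, one_mul, ← hφ']
        show φ' (π (Polynomial.eval₂ h a.1 (Q a))) = 0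
        rw [hQ0 a, map_zero])
    calc Nat.card (A →+* F) ≤ (∏ a : ↥T, (Q a).natDegree) * Nat.card F ^ s := h1
      _ ≤ (∏ a : ↥T, (Q a).natDegree) * Nat.card F ^ r :=
        Nat.mul_le_mul_left _ (Nat.pow_le_pow_right Nat.card_pos hsr)

/-! ### Part 6: ring-level statement -/

theorem ring_bound (A : Type u) [CommRing A] [Algebra.FiniteType ℤ A] (r : ℕ)
    (hr : ringKrullDim A ≤ r) :
    ∃ C p₀ : ℕ, ∀ p : ℕ, p.Prime → ∀ (F : Type u) [Field F] [Finite F] [CharP F p],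
      (p₀ ≤ p → (r = 0 → Nat.card (A →+* F) = 0) ∧
        Nat.card (A →+* F) ≤ C * Nat.card F ^ (r - 1)) ∧
      Nat.card (A →+* F) ≤ C * Nat.card F ^ r := by
  obtain ⟨c, p₀, hgen⟩ := generic_bound A r hr
  have hsp : ∀ p : ℕ, ∃ c : ℕ, p.Prime → ∀ (F : Type u) [Field F] [Finite F] [CharP F p],
      Nat.card (A →+* F) ≤ c * Nat.card F ^ r := by
    intro p
    by_cases hp : p.Prime
    · obtain ⟨c, hc⟩ := special_bound A r hr p hp
      exact ⟨c, fun _ => hc⟩
    · exact ⟨0, fun h => absurd h hp⟩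
  choose cs hcs using hsp
  refine ⟨c + ∑ q ∈ Finset.range p₀, cs q, p₀, fun p hp F _ _ _ => ?_⟩
  have hF1 : 1 ≤ Nat.card F := Nat.card_pos
  have hpow : Nat.card F ^ (r - 1) ≤ Nat.card F ^ r := Nat.pow_le_pow_right hF1 (Nat.sub_le _ _)
  have hgen' : p₀ ≤ p → (r = 0 → Nat.card (A →+* F) = 0) ∧
      Nat.card (A →+* F) ≤ (c + ∑ q ∈ Finset.range p₀, cs q) * Nat.card F ^ (r - 1) := by
    intro hpp
    obtain ⟨h1, h2⟩ := hgen p hp hpp F
    exact ⟨h1, h2.trans (Nat.mul_le_mul_right _ (Nat.le_add_right _ _))⟩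
  refine ⟨hgen', ?_⟩
  rcases le_or_gt p₀ p with hpp | hpp
  · exact (hgen' hpp).2.trans (Nat.mul_le_mul_left _ hpow)
  · have h1 := hcs p hp F
    have h2 : cs p ≤ c + ∑ q ∈ Finset.range p₀, cs q :=
      (Finset.single_le_sum (f := cs) (fun i _ => Nat.zero_le _)
        (Finset.mem_range.mpr hpp)).trans (Nat.le_add_left _ _)
    exact h1.trans (Nat.mul_le_mul_right _ h2)

/-! ### Part 7: schemes -/

theorem main13070 {X : Scheme.{u}}
    (f : X ⟶ Spec (CommRingCat.of (ULift.{u} ℤ))) [LocallyOfFiniteType f] [QuasiCompact f] (r : ℕ)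
    (hr : topologicalKrullDim X ≤ r) :
    ∃ (c : ℝ) (p₀ : ℕ), 0 < c ∧ ∀ (p m : ℕ), p.Prime → 1 ≤ m →
      ∀ (F : Type u) [Field F], Nat.card F = p ^ m →
        (p₀ ≤ p → (Nat.card (Spec (CommRingCat.of F) ⟶ X) : ℝ) ≤
            c * (p : ℝ) ^ ((m : ℝ) * ((r : ℝ) - 1))) ∧
        (p < p₀ → (Nat.card (Spec (CommRingCat.of F) ⟶ X) : ℝ) ≤ c * (p : ℝ) ^ ((m : ℝ) * r)) := by
  classical
  haveI : CompactSpace X := QuasiCompact.compactSpace_of_compactSpace f
  have hch : ∀ x : X, ∃ U : X.Opens, IsAffineOpen U ∧ x ∈ U := fun x => by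
    obtain ⟨U, hU, hx, -⟩ := TopologicalSpace.Opens.isBasis_iff_nbhd.mp X.isBasis_affineOpens
      (TopologicalSpace.Opens.mem_top x)
    exact ⟨U, hU, hx⟩
  choose U hU hxU using hch
  obtain ⟨t, ht⟩ := isCompact_univ.elim_finite_subcover (fun x => ((U x : X.Opens) : Set X))
    (fun x => (U x).isOpen) (fun x _ => Set.mem_iUnion.mpr ⟨x, hxU x⟩)
  have hb : ∀ x : X, ∃ C p₀ : ℕ, ∀ p : ℕ, p.Prime →
      ∀ (F : Type u) [Field F] [Finite F] [CharP F p],
      (p₀ ≤ p → (r = 0 → Nat.card (Γ(X, U x) →+* F) = 0) ∧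
        Nat.card (Γ(X, U x) →+* F) ≤ C * Nat.card F ^ (r - 1)) ∧
      Nat.card (Γ(X, U x) →+* F) ≤ C * Nat.card F ^ r := by
    intro x
    haveI := Groth.Agent.FTIntH8.finiteType_int_sec f (U x) (hU x)
    refine ring_bound Γ(X, U x) r ?_
    have h2 : ringKrullDim Γ(X, U x) ≤ topologicalKrullDim X := by
      rw [← PrimeSpectrum.topologicalKrullDim_eq_ringKrullDim]
      exact (hU x).fromSpec.isOpenEmbedding.isInducing.topologicalKrullDim_le
    exact h2.trans hr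
  choose C P₀ hCP using hb
  refine ⟨((∑ x ∈ t, C x : ℕ) : ℝ) + 1, ∑ x ∈ t, P₀ x, by positivity, ?_⟩
  intro p m hp hm F _ hcard
  haveI : Finite F := Nat.finite_of_card_ne_zero (by rw [hcard]; exact pow_ne_zero _ hp.ne_zero)
  letI : Fintype F := Fintype.ofFinite F
  haveI : Fact p.Prime := ⟨hp⟩
  haveI : CharP F p := charP_of_card_eq_prime_pow (f := m)
    (by rw [← Nat.card_eq_fintype_card]; exact hcard)
  haveI : Subsingleton ↥(Spec (CommRingCat.of F)) :=
    inferInstanceAs (Subsingleton (PrimeSpectrum F))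
  let pt : ↥(Spec (CommRingCat.of F)) := (default : PrimeSpectrum F)
  let S : X → Set (Spec (CommRingCat.of F) ⟶ X) := fun x =>
    {g | Set.range g.base ⊆ ((U x : X.Opens) : Set X)}
  have hcov : (Set.univ : Set (Spec (CommRingCat.of F) ⟶ X)) ⊆ ⋃ x ∈ t, S x := by
    intro g _
    obtain ⟨x, hx, hgx⟩ := Set.mem_iUnion₂.mp (ht (Set.mem_univ (g.base pt)))
    refine Set.mem_iUnion₂.mpr ⟨x, hx, ?_⟩
    rintro _ ⟨z, rfl⟩
    have hz : z = pt := Subsingleton.elim _ _
    rw [hz]; exact hgx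
  have hSx : ∀ x : X, (S x).Finite ∧ (S x).ncard ≤ Nat.card (Γ(X, U x) →+* F) := by
    intro x
    haveI := Groth.Agent.FTIntH8.finiteType_int_sec f (U x) (hU x)
    haveI : Finite (Γ(X, U x) →+* F) := Groth.Agent.FTIntH8.finite_ringHom _ _
    have hex : ∀ g' ∈ S x, ∃ ψ : Γ(X, U x) ⟶ CommRingCat.of F,
        Spec.map ψ ≫ (hU x).fromSpec = g' := fun g' hg' =>
      Groth.Agent.Lib.PtCountBoundH4.exists_ringHom_of_range_subset (U x) (hU x) F g' hg'
    choose ψ hψ using hex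
    let Θ : ↥(S x) → (Γ(X, U x) →+* F) := fun y => (ψ y.1 y.2).hom
    have hΘ : Function.Injective Θ := by
      intro y y' h
      have h2 : ψ y.1 y.2 = ψ y'.1 y'.2 := CommRingCat.hom_ext h
      apply Subtype.ext
      rw [← hψ y.1 y.2, ← hψ y'.1 y'.2, h2]
    haveI : Finite ↥(S x) := Finite.of_injective Θ hΘ
    refine ⟨Set.toFinite _, ?_⟩
    rw [← Nat.card_coe_set_eq]
    exact Nat.card_le_card_of_injective Θ hΘ
  have hfinU : (⋃ x ∈ t, S x).Finite :=
    Set.Finite.biUnion t.finite_toSet (fun x _ => (hSx x).1)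
  have hN : Nat.card (Spec (CommRingCat.of F) ⟶ X) ≤ ∑ x ∈ t, Nat.card (Γ(X, U x) →+* F) :=
    calc Nat.card (Spec (CommRingCat.of F) ⟶ X)
        = (Set.univ : Set (Spec (CommRingCat.of F) ⟶ X)).ncard := (Set.ncard_univ _).symm
      _ ≤ (⋃ x ∈ t, S x).ncard := Set.ncard_le_ncard hcov hfinU
      _ ≤ ∑ x ∈ t, (S x).ncard := Finset.set_ncard_biUnion_le t _
      _ ≤ ∑ x ∈ t, Nat.card (Γ(X, U x) →+* F) := Finset.sum_le_sum fun x _ => (hSx x).2
  have hNr : Nat.card (Spec (CommRingCat.of F) ⟶ X) ≤ (∑ x ∈ t, C x) * (p ^ m) ^ r := by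
    refine hN.trans ?_
    rw [Finset.sum_mul]
    refine Finset.sum_le_sum fun x _ => ?_
    have h1 := (hCP x p hp F).2
    rw [hcard] at h1
    exact h1
  constructor
  · intro hpp
    have hPx : ∀ x ∈ t, P₀ x ≤ p := fun x hx =>
      (Finset.single_le_sum (f := P₀) (fun i _ => Nat.zero_le _) hx).trans hpp
    rcases Nat.eq_zero_or_pos r with hr0 | hr1
    · have hN0 : Nat.card (Spec (CommRingCat.of F) ⟶ X) = 0 := by
        have h1 : ∑ x ∈ t, Nat.card (Γ(X, U x) →+* F) = 0 :=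
          Finset.sum_eq_zero fun x hx => ((hCP x p hp F).1 (hPx x hx)).1 hr0
        rw [h1] at hN
        exact Nat.le_zero.mp hN
      rw [hN0, Nat.cast_zero]
      have h5 : (0 : ℝ) ≤ (p : ℝ) ^ ((m : ℝ) * ((r : ℝ) - 1)) :=
        Real.rpow_nonneg (Nat.cast_nonneg p) _
      positivity
    · have hNr1 : Nat.card (Spec (CommRingCat.of F) ⟶ X) ≤
          (∑ x ∈ t, C x) * (p ^ m) ^ (r - 1) := by
        refine hN.trans ?_
        rw [Finset.sum_mul]
        refine Finset.sum_le_sum fun x hx => ?_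
        have h1 := ((hCP x p hp F).1 (hPx x hx)).2
        rw [hcard] at h1
        exact h1
      exact real_conv _ _ p m (r - 1) hNr1 _
        (by rw [Nat.cast_mul, Nat.cast_sub hr1, Nat.cast_one])
  · intro _
    exact real_conv _ _ p m r hNr _ (by rw [Nat.cast_mul])

end Groth.Agent.Lib.PtCountIntH4
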