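import Mathlib
import Groth.Agent.Lib.DomDimOne4_helper6

/-!
# Pointwise functions varying along DVRs on integrally closed rings, ring-level part (helper6)

* `exists_dvr_over_prime`: a DVR of the fraction field of a Noetherian domain centred at a given
  nonzero prime.
* `isIntegral_of_forall_dvr`: an element of the fraction field lying in all DVRs containing a
  Noetherian domain is integral.
* `exists_global`: abstract form of the theorem: a family of "values" in fields `κ x` (with
  `A → κ x` of kernel `x` and image generating `κ x` as a field) that varies algebraically along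
  DVRs comes from a global element, for `A` reduced Noetherian integrally closed in its total
  ring of fractions.
-/

set_option autoImplicit false
universe u

namespace Groth.Agent.Lib.PtFunICH6

open IsLocalRing Groth.Agent.Lib.DomDimOne

/-- DVR of the fraction field centred at a given nonzero prime of a Noetherian domain. -/
theorem exists_dvr_over_prime (B : Type u) [CommRing B] [IsDomain B] [IsNoetherianRing B]
    (L : Type u) [Field L] [Algebra B L] [IsFractionRing B L] (q : Ideal B) [q.IsPrime]
    (y : B) (hy : y ∈ q) (hy0 : y ≠ 0) :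
    ∃ R : ValuationSubring L, IsDiscreteValuationRing R ∧ (∀ b : B, algebraMap B L b ∈ R) ∧
      (∀ b ∈ q, R.valuation (algebraMap B L b) < 1) ∧
      ∀ b : B, b ∉ q → (algebraMap B L b)⁻¹ ∈ R := by
  haveI := isNoetherianRing_locAtPrime L B q
  have hnf : ¬ IsField (locAtPrime L B q) := by
    intro hf
    have h1 := mem_maximalIdeal_locAtPrime_of_mem L B q y hy
    rw [IsLocalRing.isField_iff_maximalIdeal_eq.1 hf, Ideal.mem_bot] at h1
    have h2 : algebraMap B L y = 0 := congrArg Subtype.val h1
    exact hy0 ((map_eq_zero_iff _ (IsFractionRing.injective B L)).1 h2)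
  obtain ⟨R, hR, hmem, hlt⟩ := exists_dvr_dominating (locAtPrime L B q) hnf L
  refine ⟨R, hR, fun b => hmem (algebraMap B _ b), fun b hb =>
    hlt _ (mem_maximalIdeal_locAtPrime_of_mem L B q b hb), fun b hb => ?_⟩
  obtain ⟨u, hu⟩ := (isUnit_algebraMap_locAtPrime_iff L B q b).2 hb
  have h3 := hmem (↑u⁻¹ : locAtPrime L B q)
  have h4 : algebraMap (locAtPrime L B q) L (↑u⁻¹ : locAtPrime L B q) = (algebraMap B L b)⁻¹ := by
    apply eq_inv_of_mul_eq_one_left
    have h5 : (↑u⁻¹ : locAtPrime L B q) * algebraMap B (locAtPrime L B q) b = 1 := by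
      rw [← hu]; exact u.inv_mul
    have h6 := congrArg (algebraMap (locAtPrime L B q) L) h5
    rw [map_mul, map_one] at h6
    exact h6
  rw [← h4]; exact h3

/-- An element of the fraction field of a Noetherian domain lying in every DVR containing the
domain is integral over it. -/
theorem isIntegral_of_forall_dvr (D : Type u) [CommRing D] [IsDomain D] [IsNoetherianRing D]
    (L : Type u) [Field L] [Algebra D L] [IsFractionRing D L] (q : L)
    (h : ∀ V : ValuationSubring L, IsDiscreteValuationRing V →
      (∀ d, algebraMap D L d ∈ V) → q ∈ V) :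
    IsIntegral D q := by
  classical
  by_contra hq
  have hq0 : q ≠ 0 := by rintro rfl; exact hq isIntegral_zero
  letI := invertibleOfNonzero hq0
  let B : Subalgebra D L := Algebra.adjoin D {q⁻¹}
  let xinv : B := ⟨q⁻¹, Algebra.subset_adjoin rfl⟩
  have hne : Ideal.span {xinv} ≠ ⊤ := fun eq ↦ hq <|
    have ⟨p, hp, hpx⟩ := Algebra.exists_aeval_invOf_eq_zero_of_idealMap_adjoin_sup_span_eq_top
      q⁻¹ (⊥ : Ideal D) bot_ne_top (top_unique <| eq.ge.trans le_sup_right)
    ⟨p, by simpa [Polynomial.Monic, sub_eq_zero] using hp, hpx⟩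
  have hBfg : B.FG := by
    have := Subalgebra.fg_adjoin_finset (R := D) ({q⁻¹} : Finset L)
    rwa [Finset.coe_singleton] at this
  haveI hFT : Algebra.FiniteType D B := (Subalgebra.fg_iff_finiteType B).1 hBfg
  haveI hBN : IsNoetherianRing B := Algebra.FiniteType.isNoetherianRing D B
  haveI hBfrac : IsFractionRing B L := IsFractionRing.of_field B L (fun z => by
    obtain ⟨a, b, hb, rfl⟩ := IsFractionRing.div_surjective (A := D) z
    exact ⟨algebraMap D B a, algebraMap D B b, rfl⟩)
  obtain ⟨𝔪, h𝔪max, h𝔪le⟩ := Ideal.exists_le_maximal _ hne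
  haveI := h𝔪max.isPrime
  have hx𝔪 : xinv ∈ 𝔪 := h𝔪le (Ideal.subset_span rfl)
  have hx0 : xinv ≠ 0 := fun h0 => inv_ne_zero hq0 (congrArg Subtype.val h0)
  obtain ⟨V, hV, hmem, hlt, -⟩ := exists_dvr_over_prime B L 𝔪 xinv hx𝔪 hx0
  have hqV : q ∈ V := h V hV (fun d => hmem (algebraMap D B d))
  have h1 : V.valuation q⁻¹ < 1 := hlt xinv hx𝔪
  have h2 : V.valuation q ≤ 1 := (V.valuation_le_one_iff q).2 hqV
  have h3 : V.valuation q * V.valuation q⁻¹ = 1 := by
    rw [← map_mul, mul_inv_cancel₀ hq0, map_one]
  have h4 : V.valuation q * V.valuation q⁻¹ < 1 :=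
    calc V.valuation q * V.valuation q⁻¹ ≤ 1 * V.valuation q⁻¹ := mul_le_mul' h2 le_rfl
      _ = V.valuation q⁻¹ := one_mul _
      _ < 1 := h1
  exact absurd h3 h4.ne

end Groth.Agent.Lib.PtFunICH6
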