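import Mathlib
import Groth.Agent.Lib.PtFunIC1_helper6

/-!
# Pointwise functions varying along DVRs on integrally closed rings, abstract theorem (helper6)
-/

set_option autoImplicit false
universe u

namespace Groth.Agent.Lib.PtFunICH6

open IsLocalRing

section Abstract

variable {A : Type u} [CommRing A] (κ : PrimeSpectrum A → Type u) [∀ x, Field (κ x)]
  (e : ∀ x, A →+* κ x) (he1 : ∀ x a, e x a = 0 ↔ a ∈ x.asIdeal)
  (he2 : ∀ x (z : κ x), ∃ a s, s ∉ x.asIdeal ∧ e x s * z = e x a) (f : ∀ x, κ x)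

/-- the DVR hypothesis in ring terms -/
def DVRHyp : Prop :=
  ∀ (V : Type u) [CommRing V] [IsDomain V] [IsDiscreteValuationRing V] (φ : A →+* V),
    ∃ v : V, ∀ (x : PrimeSpectrum A) (y : PrimeSpectrum V), PrimeSpectrum.comap φ y = x →
      ∀ a s : A, e x s * f x = e x a → φ s * v - φ a ∈ y.asIdeal

/-- `κ x` as an algebra over `A ⧸ x` -/
noncomputable def qAlg (x : PrimeSpectrum A) : Algebra (A ⧸ x.asIdeal) (κ x) :=
  (Ideal.Quotient.lift x.asIdeal (e x) (fun a ha => (he1 x a).2 ha)).toAlgebra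

include he2 in
theorem isFractionRing_q (x : PrimeSpectrum A) :
    letI := qAlg κ e he1 x; IsFractionRing (A ⧸ x.asIdeal) (κ x) := by
  letI := qAlg κ e he1 x
  haveI : FaithfulSMul (A ⧸ x.asIdeal) (κ x) := by
    rw [faithfulSMul_iff_algebraMap_injective, injective_iff_map_eq_zero]
    intro d hd
    obtain ⟨a, rfl⟩ := Ideal.Quotient.mk_surjective d
    exact Ideal.Quotient.eq_zero_iff_mem.2 ((he1 x a).1 hd)
  exact IsFractionRing.of_field _ _ (fun z => by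
    obtain ⟨a, s, hs, h⟩ := he2 x z
    have hs0 : e x s ≠ 0 := fun h0 => hs ((he1 x s).1 h0)
    refine ⟨Ideal.Quotient.mk _ a, Ideal.Quotient.mk _ s, ?_⟩
    show z = e x a / e x s
    rw [eq_div_iff hs0, mul_comm]; exact h)

include he1 he2 in
theorem isIntegralElem_of_dvrHyp [IsNoetherianRing A] (H : DVRHyp κ e f) (x : PrimeSpectrum A) :
    (e x).IsIntegralElem (f x) := by
  letI := qAlg κ e he1 x
  haveI := isFractionRing_q κ e he1 he2 x
  have hint : IsIntegral (A ⧸ x.asIdeal) (f x) := by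
    apply isIntegral_of_forall_dvr
    intro V hV hmem
    haveI := hV
    let φ : A →+* V := (e x).codRestrict V.toSubring (fun a => hmem (Ideal.Quotient.mk _ a))
    obtain ⟨v, hv⟩ := H V φ
    obtain ⟨a, s, hs, h⟩ := he2 x (f x)
    have hs0 : e x s ≠ 0 := fun h0 => hs ((he1 x s).1 h0)
    have hcomap : PrimeSpectrum.comap φ ⟨⊥, Ideal.isPrime_bot⟩ = x := by
      apply PrimeSpectrum.ext
      ext c
      show φ c ∈ (⊥ : Ideal V) ↔ c ∈ x.asIdeal
      rw [Ideal.mem_bot, ← he1 x c]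
      constructor
      · intro h0; exact congrArg Subtype.val h0
      · intro h0; exact Subtype.ext h0
    have h1 := hv x ⟨⊥, Ideal.isPrime_bot⟩ hcomap a s h
    have h1' : φ s * v - φ a = 0 := (Ideal.mem_bot).1 h1
    rw [sub_eq_zero] at h1'
    have h2 : e x s * (v : κ x) = e x a := congrArg Subtype.val h1'
    have h3 : f x = (v : κ x) := mul_left_cancel₀ hs0 (h.trans h2.symm)
    rw [h3]; exact v.2
  obtain ⟨P', hP'm, hP'0⟩ := hint
  obtain ⟨P, hP, -, hPm⟩ := Polynomial.lifts_and_natDegree_eq_and_monic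
    ((Polynomial.mem_lifts _).2
      (Polynomial.map_surjective _ (Ideal.Quotient.mk_surjective (I := x.asIdeal)) P')) hP'm
  have hcomp : (algebraMap (A ⧸ x.asIdeal) (κ x)).comp (Ideal.Quotient.mk x.asIdeal) = e x :=
    RingHom.ext fun a => rfl
  refine ⟨P, hPm, ?_⟩
  rw [← hP, Polynomial.eval₂_map, hcomp] at hP'0
  exact hP'0

include he1 he2 in
theorem exists_global [IsReduced A] [IsNoetherianRing A] [IsIntegrallyClosed A]
    (H : DVRHyp κ e f) : ∃ a' : A, ∀ x, e x a' = f x := by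
  classical
  have hI := isIntegralElem_of_dvrHyp κ e he1 he2 f H
  choose P hPm hP0 using hI
  choose a s hs has using fun x => he2 x (f x)
  have hs0 : ∀ x, e x (s x) ≠ 0 := fun x h0 => hs x ((he1 x _).1 h0)
  have hfin : {x : PrimeSpectrum A | IsMin x}.Finite := PrimeSpectrum.finite_setOfPred_isMin A
  obtain ⟨M, hMmem⟩ : ∃ M : Finset (PrimeSpectrum A), ∀ x, x ∈ M ↔ IsMin x :=
    ⟨hfin.toFinset, fun x => by rw [Set.Finite.mem_toFinset]; rfl⟩
  have hε : ∀ x : PrimeSpectrum A, ∃ ε : A, IsMin x → ε ∉ x.asIdeal ∧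
      ∀ y ∈ M, y ≠ x → ε ∈ y.asIdeal := by
    intro x
    by_cases hx : IsMin x
    swap
    · exact ⟨0, fun h => absurd h hx⟩
    have hnle : ¬ ((M.erase x).inf PrimeSpectrum.asIdeal ≤ x.asIdeal) := by
      rw [Ideal.IsPrime.inf_le' x.isPrime]
      rintro ⟨y, hy, hyx⟩
      rw [Finset.mem_erase] at hy
      have hyx' : y ≤ x := hyx
      exact hy.1 (le_antisymm hyx' (hx hyx'))
    obtain ⟨ε, hεmem, hεx⟩ := SetLike.not_le_iff_exists.1 hnle
    refine ⟨ε, fun _ => ⟨hεx, fun y hy hyx => ?_⟩⟩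
    exact (Finset.inf_le (f := PrimeSpectrum.asIdeal) (Finset.mem_erase.2 ⟨hyx, hy⟩)) hεmem
  choose ε hε using hε
  obtain ⟨a0, ha0⟩ : ∃ a0 : A, a0 = ∑ x ∈ M, ε x * a x := ⟨_, rfl⟩
  obtain ⟨s0, hs0def⟩ : ∃ s0 : A, s0 = ∑ x ∈ M, ε x * s x := ⟨_, rfl⟩
  have hsum : ∀ (c : PrimeSpectrum A → A) (x : PrimeSpectrum A), x ∈ M →
      e x (∑ y ∈ M, ε y * c y) = e x (ε x) * e x (c x) := by
    intro c x hx
    rw [map_sum, Finset.sum_eq_single x]
    · rw [map_mul]
    · intro y hy hyx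
      rw [map_mul, (he1 x (ε y)).2 ((hε y ((hMmem y).1 hy)).2 x hx (Ne.symm hyx)), zero_mul]
    · intro h; exact absurd hx h
  have hεx : ∀ x ∈ M, e x (ε x) ≠ 0 := fun x hx h0 =>
    (hε x ((hMmem x).1 hx)).1 ((he1 x _).1 h0)
  have hs0x : ∀ x ∈ M, e x s0 ≠ 0 := fun x hx => by
    rw [hs0def, hsum s x hx]; exact mul_ne_zero (hεx x hx) (hs0 x)
  have hrel : ∀ x ∈ M, e x s0 * f x = e x a0 := fun x hx => by
    rw [hs0def, ha0, hsum s x hx, hsum a x hx, mul_assoc, has x]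
  have hzero : ∀ b : A, (∀ x ∈ M, e x b = 0) → b = 0 := by
    intro b hb
    have h1 : b ∈ (⊥ : Ideal A).radical := by
      rw [← Ideal.sInf_minimalPrimes, Ideal.mem_sInf]
      intro 𝔭 h𝔭
      have hmin : IsMin (⟨𝔭, h𝔭.1.1⟩ : PrimeSpectrum A) := PrimeSpectrum.isMin_iff.2 h𝔭
      exact (he1 ⟨𝔭, h𝔭.1.1⟩ b).1 (hb _ ((hMmem _).2 hmin))
    obtain ⟨n, hn⟩ := h1
    have hnil : IsNilpotent b := ⟨n, (Ideal.mem_bot).1 hn⟩
    exact hnil.eq_zero
  have hS : s0 ∈ nonZeroDivisors A := by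
    rw [mem_nonZeroDivisors_iff_left]
    intro b hb
    apply hzero
    intro x hx
    have h1 := congrArg (e x) hb
    rw [map_mul, map_zero] at h1
    exact (mul_eq_zero.1 h1).resolve_left (hs0x x hx)
  obtain ⟨Q, hQ⟩ : ∃ Q : Polynomial A, Q = ∏ x ∈ M, P x := ⟨_, rfl⟩
  have hQm : Q.Monic := by rw [hQ]; exact Polynomial.monic_prod_of_monic _ _ (fun x _ => hPm x)
  have hQ0 : ∀ x ∈ M, Polynomial.eval₂ (e x) (f x) Q = 0 := by
    intro x hx
    rw [hQ, Polynomial.eval₂_finsetProd]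
    exact Finset.prod_eq_zero hx (hP0 x)
  obtain ⟨N, hN⟩ : ∃ N : A, N = (Polynomial.scaleRoots Q s0).eval a0 := ⟨_, rfl⟩
  have hscale : ∀ {F : Type u} [CommRing F] (ψ : A →+* F) (t : F), ψ s0 * t = ψ a0 →
      ψ N = ψ s0 ^ Q.natDegree * Polynomial.eval₂ ψ t Q := by
    intro F _ ψ t ht
    rw [hN, ← Polynomial.scaleRoots_eval₂_mul, ht, Polynomial.eval₂_at_apply]
  have hN0 : N = 0 := hzero N (fun x hx => by
    rw [hscale (e x) (f x) (hrel x hx), hQ0 x hx, mul_zero])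
  obtain ⟨t, ht⟩ : ∃ t : FractionRing A,
      t = IsLocalization.mk' (FractionRing A) a0 (⟨s0, hS⟩ : nonZeroDivisors A) := ⟨_, rfl⟩
  have hts : algebraMap A (FractionRing A) s0 * t = algebraMap A (FractionRing A) a0 := by
    rw [ht, mul_comm]; exact IsLocalization.mk'_spec (FractionRing A) a0 ⟨s0, hS⟩
  have hunit : IsUnit (algebraMap A (FractionRing A) s0) :=
    IsLocalization.map_units (FractionRing A) (⟨s0, hS⟩ : nonZeroDivisors A)
  have htint : IsIntegral A t := by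
    refine ⟨Q, hQm, ?_⟩
    have h1 := hscale (algebraMap A (FractionRing A)) t hts
    rw [hN0, map_zero] at h1
    exact (hunit.pow _).mul_right_eq_zero.1 h1.symm
  obtain ⟨a', ha'⟩ := IsIntegrallyClosed.algebraMap_eq_of_integral htint
  have ha's : s0 * a' = a0 := by
    apply IsFractionRing.injective A (FractionRing A)
    rw [map_mul, ha', hts]
  have hmin : ∀ x ∈ M, e x a' = f x := by
    intro x hx
    apply mul_left_cancel₀ (hs0x x hx)
    rw [← map_mul, ha's, hrel x hx]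
  refine ⟨a', fun x => ?_⟩
  by_cases hx : IsMin x
  · exact hmin x ((hMmem x).2 hx)
  obtain ⟨𝔭, h𝔭, h𝔭x⟩ := Ideal.exists_minimalPrimes_le (I := ⊥) (J := x.asIdeal) bot_le
  obtain ⟨x₀, hx₀def⟩ : ∃ x₀ : PrimeSpectrum A, x₀ = ⟨𝔭, h𝔭.1.1⟩ := ⟨_, rfl⟩
  have hx₀min : IsMin x₀ := by rw [hx₀def]; exact PrimeSpectrum.isMin_iff.2 h𝔭
  have hx₀M : x₀ ∈ M := (hMmem x₀).2 hx₀min
  have hx₀x : x₀.asIdeal ≤ x.asIdeal := by rw [hx₀def]; exact h𝔭x
  have hlt : ∃ b ∈ x.asIdeal, b ∉ x₀.asIdeal := by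
    by_contra hcon
    push_neg at hcon
    have hxx : x = x₀ := PrimeSpectrum.ext (le_antisymm hcon hx₀x)
    exact hx (hxx ▸ hx₀min)
  obtain ⟨b, hbx, hbx₀⟩ := hlt
  letI := qAlg κ e he1 x₀
  haveI := isFractionRing_q κ e he1 he2 x₀
  obtain ⟨q, hqdef⟩ : ∃ q : Ideal (A ⧸ x₀.asIdeal),
      q = Ideal.map (Ideal.Quotient.mk x₀.asIdeal) x.asIdeal := ⟨_, rfl⟩
  haveI hqprime : q.IsPrime := by
    rw [hqdef]
    exact Ideal.map_isPrime_of_surjective Ideal.Quotient.mk_surjective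
      (by rw [Ideal.mk_ker]; exact hx₀x)
  have hqmem : ∀ c : A, Ideal.Quotient.mk x₀.asIdeal c ∈ q ↔ c ∈ x.asIdeal := by
    intro c; rw [hqdef]; exact Ideal.mem_quotient_iff_mem hx₀x
  obtain ⟨V, hV, hmem, hlt1, hinv⟩ := exists_dvr_over_prime (A ⧸ x₀.asIdeal) (κ x₀) q
    (Ideal.Quotient.mk _ b) ((hqmem b).2 hbx)
    (fun h0 => hbx₀ (Ideal.Quotient.eq_zero_iff_mem.1 h0))
  haveI := hV
  let φ : A →+* V := (e x₀).codRestrict V.toSubring (fun c => hmem (Ideal.Quotient.mk _ c))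
  obtain ⟨v, hv⟩ := H V φ
  have hcomap0 : PrimeSpectrum.comap φ ⟨⊥, Ideal.isPrime_bot⟩ = x₀ := by
    apply PrimeSpectrum.ext
    ext c
    show φ c ∈ (⊥ : Ideal V) ↔ c ∈ x₀.asIdeal
    rw [Ideal.mem_bot, ← he1 x₀ c]
    constructor
    · intro h0; exact congrArg Subtype.val h0
    · intro h0; exact Subtype.ext h0
  have hcomap1 : PrimeSpectrum.comap φ (IsLocalRing.closedPoint V) = x := by
    apply PrimeSpectrum.ext
    ext c
    show φ c ∈ maximalIdeal V ↔ c ∈ x.asIdeal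
    rw [V.valuation_lt_one_iff]
    constructor
    · intro hc
      by_contra hcx
      have h1 : (e x₀ c)⁻¹ ∈ V := hinv (Ideal.Quotient.mk _ c) (fun h => hcx ((hqmem c).1 h))
      have h2 : V.valuation (e x₀ c)⁻¹ ≤ 1 := (V.valuation_le_one_iff _).2 h1
      have hc0 : e x₀ c ≠ 0 := by
        intro h0; exact hcx (hx₀x ((he1 x₀ c).1 h0))
      have h3 : V.valuation (e x₀ c) * V.valuation (e x₀ c)⁻¹ = 1 := by
        rw [← map_mul, mul_inv_cancel₀ hc0, map_one]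
      have h4 : V.valuation (e x₀ c) * V.valuation (e x₀ c)⁻¹ < 1 :=
        calc V.valuation (e x₀ c) * V.valuation (e x₀ c)⁻¹
            ≤ V.valuation (e x₀ c) * 1 := mul_le_mul' le_rfl h2
          _ = V.valuation (e x₀ c) := mul_one _
          _ < 1 := hc
      exact absurd h3 h4.ne
    · intro hc
      exact hlt1 _ ((hqmem c).2 hc)
  have h5 := hv x₀ ⟨⊥, Ideal.isPrime_bot⟩ hcomap0 a' 1
    (by rw [map_one, one_mul]; exact (hmin x₀ hx₀M).symm)
  rw [map_one, one_mul] at h5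
  have h6 : v = φ a' := sub_eq_zero.1 ((Ideal.mem_bot).1 h5)
  have h7 := hv x (IsLocalRing.closedPoint V) hcomap1 (a x) (s x) (has x)
  rw [h6, ← map_mul, ← map_sub] at h7
  have h8 : s x * a' - a x ∈ (PrimeSpectrum.comap φ (IsLocalRing.closedPoint V)).asIdeal := h7
  rw [hcomap1] at h8
  have h9 : e x (s x) * e x a' = e x (a x) := by
    have h10 := (he1 x _).2 h8
    rwa [map_sub, map_mul, sub_eq_zero] at h10
  exact mul_left_cancel₀ (hs0 x) (h9.trans (has x).symm)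

end Abstract

end Groth.Agent.Lib.PtFunICH6
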