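import Mathlib
import Groth.Prelude.Def_HTop2

/-!
# Seminormal / absolutely weakly normal rings: reformulation, localization (helper6)
-/

set_option autoImplicit false

namespace Groth.Agent.Lib.Seminormal

open HTop

universe u

section Ring
variable {A : Type u} [CommRing A]

theorem eq_of_sq_cube [IsReduced A] {a b : A} (h2 : a ^ 2 = b ^ 2) (h3 : a ^ 3 = b ^ 3) :
    a = b := by
  have h0 : (a - b) ^ 3 = 0 := by linear_combination (-3 * a - 3 * b) * h2 + 4 * h3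
  exact sub_eq_zero.1 (IsReduced.eq_zero _ ⟨3, h0⟩)

theorem eq_of_pow_prime [IsReduced A] {p : ℕ} (hp : p.Prime) {a b : A} (h1 : a ^ p = b ^ p)
    (h2 : (p : A) * a = p * b) : a = b := by
  obtain ⟨r, hr⟩ := exists_add_pow_prime_eq hp b (a - b)
  have hd : (p : A) * (a - b) = 0 := by rw [mul_sub, h2, sub_self]
  have h0 : (a - b) ^ p = 0 := by
    have e1 : b + (a - b) = a := by ring
    rw [e1] at hr
    have e2 : (p : A) * b * (a - b) * r = 0 := by
      calc (p : A) * b * (a - b) * r = ((p : A) * (a - b)) * (b * r) := by ring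
        _ = 0 := by rw [hd, zero_mul]
    rw [e2, add_zero, h1] at hr
    linear_combination -hr
  exact sub_eq_zero.1 (IsReduced.eq_zero _ ⟨p, h0⟩)

/-- existence half of seminormality -/
def SNEx (A : Type u) [CommRing A] : Prop :=
  ∀ x y : A, x ^ 3 = y ^ 2 → ∃ a, x = a ^ 2 ∧ y = a ^ 3

/-- existence half of the `p`-conditions of absolute weak normality -/
def AWNEx (A : Type u) [CommRing A] : Prop :=
  ∀ p : ℕ, p.Prime → ∀ x y : A, (p : A) ^ p * x = y ^ p → ∃ a : A, x = a ^ p ∧ y = (p : A) * a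

theorem isSeminormalRing_iff : IsSeminormalRing A ↔ IsReduced A ∧ SNEx A := by
  constructor
  · intro h
    refine ⟨?_, fun x y hxy => (h x y hxy).exists⟩
    rw [isReduced_iff_pow_one_lt 2 one_lt_two]
    intro b hb
    obtain ⟨a, _, hu⟩ := h 0 0 (by ring)
    have h1 := hu b ⟨by rw [hb], by rw [pow_succ, hb, zero_mul]⟩
    have h2 := hu 0 ⟨by ring, by ring⟩
    rw [h1, h2]
  · rintro ⟨hred, h⟩ x y hxy
    obtain ⟨a, ha2, ha3⟩ := h x y hxy
    refine ⟨a, ⟨ha2, ha3⟩, ?_⟩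
    rintro b ⟨hb2, hb3⟩
    exact eq_of_sq_cube (hb2.symm.trans ha2) (hb3.symm.trans ha3)

theorem isAWNRing_iff : IsAWNRing A ↔ IsReduced A ∧ SNEx A ∧ AWNEx A := by
  constructor
  · rintro ⟨h1, h2⟩
    obtain ⟨hred, hsn⟩ := isSeminormalRing_iff.1 h1
    exact ⟨hred, hsn, fun p hp x y hxy => (h2 p hp x y hxy).exists⟩
  · rintro ⟨hred, hsn, h⟩
    refine ⟨isSeminormalRing_iff.2 ⟨hred, hsn⟩, fun p hp x y hxy => ?_⟩
    obtain ⟨a, ha1, ha2⟩ := h p hp x y hxy
    refine ⟨a, ⟨ha1, ha2⟩, ?_⟩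
    rintro b ⟨hb1, hb2⟩
    exact eq_of_pow_prime hp (hb1.symm.trans ha1) (hb2.symm.trans ha2)

/-- invariance under ring isomorphisms -/
theorem SNEx.of_ringEquiv {B : Type u} [CommRing B] (e : A ≃+* B) (h : SNEx A) : SNEx B := by
  intro x y hxy
  obtain ⟨a, ha2, ha3⟩ := h (e.symm x) (e.symm y) (by rw [← map_pow, ← map_pow, hxy])
  refine ⟨e a, ?_, ?_⟩
  · rw [← map_pow, ← ha2, RingEquiv.apply_symm_apply]
  · rw [← map_pow, ← ha3, RingEquiv.apply_symm_apply]

theorem AWNEx.of_ringEquiv {B : Type u} [CommRing B] (e : A ≃+* B) (h : AWNEx A) : AWNEx B := by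
  intro p hp x y hxy
  obtain ⟨a, ha1, ha2⟩ := h p hp (e.symm x) (e.symm y)
    (by rw [← map_pow, ← hxy, map_mul, map_pow, map_natCast])
  refine ⟨e a, ?_, ?_⟩
  · rw [← map_pow, ← ha1, RingEquiv.apply_symm_apply]
  · rw [← map_natCast e, ← map_mul, ← ha2, RingEquiv.apply_symm_apply]

theorem isSeminormalRing_of_ringEquiv {B : Type u} [CommRing B] (e : A ≃+* B)
    (h : IsSeminormalRing A) : IsSeminormalRing B := by
  rw [isSeminormalRing_iff] at h ⊢
  haveI := h.1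
  exact ⟨isReduced_of_injective e.symm.toRingHom e.symm.injective, h.2.of_ringEquiv e⟩

theorem isAWNRing_of_ringEquiv {B : Type u} [CommRing B] (e : A ≃+* B)
    (h : IsAWNRing A) : IsAWNRing B := by
  rw [isAWNRing_iff] at h ⊢
  haveI := h.1
  exact ⟨isReduced_of_injective e.symm.toRingHom e.symm.injective, h.2.1.of_ringEquiv e,
    h.2.2.of_ringEquiv e⟩

section Away
variable {S : Type u} [CommRing S] [Algebra A S] (f : A) [IsLocalization.Away f S]

include f in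
theorem exists_denom (x : S) : ∃ n, ∀ N, n ≤ N → ∃ x₁ : A, x * algebraMap A S f ^ N = algebraMap A S x₁ := by
  obtain ⟨⟨x₀, ⟨_, n, rfl⟩⟩, hx⟩ := IsLocalization.surj (Submonoid.powers f) x
  simp only [map_pow] at hx
  refine ⟨n, fun N hN => ⟨x₀ * f ^ (N - n), ?_⟩⟩
  rw [map_mul, map_pow, ← hx, mul_assoc, ← pow_add, Nat.add_sub_cancel' hN]

include f in
theorem exists_pow_mul_eq {a b : A} (h : algebraMap A S a = algebraMap A S b) :
    ∃ k, f ^ k * a = f ^ k * b := by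
  obtain ⟨⟨_, k, rfl⟩, hk⟩ := (IsLocalization.eq_iff_exists (Submonoid.powers f) S).1 h
  exact ⟨k, hk⟩

include f in
theorem SNEx.away (h : SNEx A) : SNEx S := by
  intro x y hxy
  obtain ⟨n, hn⟩ := exists_denom f x
  obtain ⟨m, hm⟩ := exists_denom f y
  obtain ⟨x₁, hx₁⟩ := hn (2 * (n + m)) (by omega)
  obtain ⟨y₁, hy₁⟩ := hm (3 * (n + m)) (by omega)
  have heq : algebraMap A S (x₁ ^ 3) = algebraMap A S (y₁ ^ 2) := by
    rw [map_pow, map_pow, ← hx₁, ← hy₁, mul_pow, mul_pow, hxy, ← pow_mul, ← pow_mul]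
    congr 2
    ring
  obtain ⟨k, hk⟩ := exists_pow_mul_eq f heq
  have h2 : (f ^ (2 * k) * x₁) ^ 3 = (f ^ (3 * k) * y₁) ^ 2 := by
    have e : (f ^ (2 * k) * x₁) ^ 3 = f ^ (5 * k) * (f ^ k * x₁ ^ 3) := by ring
    rw [e, hk]
    ring
  obtain ⟨a, ha2, ha3⟩ := h _ _ h2
  refine ⟨IsLocalization.mk' S a (⟨f ^ (n + m + k), n + m + k, rfl⟩ : Submonoid.powers f), ?_, ?_⟩
  · rw [← IsLocalization.mk'_pow, IsLocalization.eq_mk'_iff_mul_eq, ← ha2]
    simp only [SubmonoidClass.coe_pow, map_mul, map_pow]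
    rw [← hx₁]
    ring
  · rw [← IsLocalization.mk'_pow, IsLocalization.eq_mk'_iff_mul_eq, ← ha3]
    simp only [SubmonoidClass.coe_pow, map_mul, map_pow]
    rw [← hy₁]
    ring

include f in
theorem AWNEx.away (h : AWNEx A) : AWNEx S := by
  intro p hp x y hxy
  obtain ⟨n, hn⟩ := exists_denom f x
  obtain ⟨m, hm⟩ := exists_denom f y
  have hp1 : 1 ≤ p := hp.one_lt.le
  obtain ⟨x₁, hx₁⟩ := hn (p * (n + m)) (by nlinarith)
  obtain ⟨y₁, hy₁⟩ := hm (n + m) (by omega)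
  have heq : algebraMap A S ((p : A) ^ p * x₁) = algebraMap A S (y₁ ^ p) := by
    rw [map_mul, map_pow, map_pow, map_natCast, ← hx₁, ← hy₁, mul_pow, ← hxy, ← pow_mul]
    ring
  obtain ⟨k, hk⟩ := exists_pow_mul_eq f heq
  have h2 : (p : A) ^ p * (f ^ (p * k) * x₁) = (f ^ k * y₁) ^ p := by
    obtain ⟨q, rfl⟩ : ∃ q, p = q + 1 := ⟨p - 1, by omega⟩
    have e : ((q + 1 : ℕ) : A) ^ (q + 1) * (f ^ ((q + 1) * k) * x₁) =
        f ^ (q * k) * (f ^ k * (((q + 1 : ℕ) : A) ^ (q + 1) * x₁)) := by ring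
    rw [e, hk]
    ring
  obtain ⟨a, ha1, ha2⟩ := h p hp _ _ h2
  refine ⟨IsLocalization.mk' S a (⟨f ^ (n + m + k), n + m + k, rfl⟩ : Submonoid.powers f), ?_, ?_⟩
  · rw [← IsLocalization.mk'_pow, IsLocalization.eq_mk'_iff_mul_eq, ← ha1]
    simp only [SubmonoidClass.coe_pow, map_mul, map_pow]
    rw [← hx₁]
    ring
  · rw [← map_natCast (algebraMap A S) p, IsLocalization.mul_mk'_eq_mk'_of_mul,
      IsLocalization.eq_mk'_iff_mul_eq, ← ha2]
    simp only [map_mul, map_pow]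
    rw [← hy₁]
    ring

include f in
theorem isSeminormalRing_away (h : IsSeminormalRing A) : IsSeminormalRing S := by
  rw [isSeminormalRing_iff] at h ⊢
  exact ⟨isReduced_localizationPreserves (Submonoid.powers f) S h.1, h.2.away f⟩

include f in
theorem isAWNRing_away (h : IsAWNRing A) : IsAWNRing S := by
  rw [isAWNRing_iff] at h ⊢
  exact ⟨isReduced_localizationPreserves (Submonoid.powers f) S h.1, h.2.1.away f, h.2.2.away f⟩

end Away

end Ring

end Groth.Agent.Lib.Seminormal
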