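import Mathlib
import Groth.Prelude.Def_HTop2
import Groth.Prelude.Def_W4c1hilbchowincPtFun
import Groth.Agent.Lib.Seminormal_helper6
set_option autoImplicit false
universe u

/-!
# Pointwise functions `y / x` and seminormality (helper6)
-/

open AlgebraicGeometry CategoryTheory W4c1hilbchowinc

namespace Groth.Agent.Lib.PtFunSNH6

/-- the pointwise function `p ↦ y(p) / x(p)` (zero where `x` vanishes) -/
noncomputable def quot {X : Scheme.{u}} (x y : Γ(X, ⊤)) : PtFun X :=
  fun p => X.Γevaluation p y / X.Γevaluation p x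

theorem pullback_quot {X Z : Scheme.{u}} (g : Z ⟶ X) (x y : Γ(X, ⊤)) :
    (quot x y).pullback g = quot (g.appTop x) (g.appTop y) := by
  funext p
  simp only [PtFun.pullback, quot]
  rw [map_div₀, Scheme.Γevaluation_naturality_apply, Scheme.Γevaluation_naturality_apply]

theorem isAlgebraic_quot {Z : Scheme.{u}} [IsDomain Γ(Z, ⊤)] [IsIntegrallyClosed Γ(Z, ⊤)]
    (x y : Γ(Z, ⊤)) (h : x ^ 3 = y ^ 2) : (quot x y).IsAlgebraic := by
  by_cases hx : x = 0
  · refine ⟨0, funext fun p => ?_⟩
    simp only [PtFun.ofSection, quot, hx, map_zero, div_zero]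
  · obtain ⟨r, hr⟩ : x ∣ y := (IsIntegrallyClosed.pow_dvd_pow_iff (n := 2) two_ne_zero).mp
      ⟨x, by rw [← h]; ring⟩
    have hr2 : r ^ 2 = x := by
      have h1 : x ^ 2 * r ^ 2 = x ^ 2 * x := by
        calc x ^ 2 * r ^ 2 = (x * r) ^ 2 := by ring
          _ = y ^ 2 := by rw [← hr]
          _ = x ^ 3 := h.symm
          _ = x ^ 2 * x := by ring
      exact mul_left_cancel₀ (pow_ne_zero 2 hx) h1
    refine ⟨r, funext fun p => ?_⟩
    simp only [PtFun.ofSection, quot]
    by_cases hp : Z.Γevaluation p x = 0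
    · rw [hp, div_zero]
      have h2 : (Z.Γevaluation p r) ^ 2 = 0 := by rw [← map_pow, hr2, hp]
      exact pow_eq_zero_iff (two_ne_zero) |>.mp h2
    · rw [eq_div_iff hp, ← map_mul, mul_comm, ← hr]

/-- a section of a reduced scheme all of whose values vanish is zero -/
theorem eq_zero_of_forall_evaluation {X : Scheme.{u}} [IsReduced X] (a : Γ(X, ⊤))
    (h : ∀ p : X, X.Γevaluation p a = 0) : a = 0 := by
  rw [← basicOpen_eq_bot_iff, Scheme.basicOpen_eq_bot_iff_forall_evaluation_eq_zero]
  intro p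
  exact h p.1

theorem sq_cube_of_ofSection_eq_quot {X : Scheme.{u}} [IsReduced X] (x y a : Γ(X, ⊤))
    (h : x ^ 3 = y ^ 2) (ha : PtFun.ofSection X a = quot x y) : x = a ^ 2 ∧ y = a ^ 3 := by
  have hv : ∀ p : X, X.Γevaluation p a = X.Γevaluation p y / X.Γevaluation p x :=
    fun p => congrFun ha p
  have hh : ∀ p : X, (X.Γevaluation p x) ^ 3 = (X.Γevaluation p y) ^ 2 := by
    intro p; rw [← map_pow, ← map_pow, h]
  constructor
  · rw [← sub_eq_zero]
    apply eq_zero_of_forall_evaluation
    intro p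
    rw [map_sub, map_pow, hv p]
    by_cases hp : X.Γevaluation p x = 0
    · rw [hp, div_zero]; ring
    · rw [div_pow, ← hh p]
      field_simp
      ring
  · rw [← sub_eq_zero]
    apply eq_zero_of_forall_evaluation
    intro p
    rw [map_sub, map_pow, hv p]
    by_cases hp : X.Γevaluation p x = 0
    · have hy : X.Γevaluation p y = 0 := by
        have := hh p
        rw [hp] at this
        exact (pow_eq_zero_iff two_ne_zero).mp (this.symm.trans (by ring))
      rw [hp, hy, div_zero]; ring
    · have hy : X.Γevaluation p y ≠ 0 := by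
        intro hy
        have := hh p
        rw [hy] at this
        exact hp ((pow_eq_zero_iff three_ne_zero).mp (this.trans (by ring)))
      rw [div_pow, hh p]
      field_simp
      ring

theorem main13111 (A : Type u) [CommRing A] [IsReduced A]
    (h : ∀ f : PtFun (Spec (CommRingCat.of A)), f.VariesAlongDVR →
      ∃! a : Γ(Spec (CommRingCat.of A), ⊤), PtFun.ofSection (Spec (CommRingCat.of A)) a = f) :
    HTop.IsSeminormalRing A := by
  rw [Groth.Agent.Lib.Seminormal.isSeminormalRing_iff]
  refine ⟨inferInstance, fun x y hxy => ?_⟩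
  let e := (Scheme.ΓSpecIso (CommRingCat.of A)).commRingCatIsoToRingEquiv
  haveI : IsReduced (Spec (CommRingCat.of A)) := inferInstance
  have hxy' : (e.symm x) ^ 3 = (e.symm y) ^ 2 := by rw [← map_pow, ← map_pow, hxy]
  have hvar : (quot (e.symm x) (e.symm y)).VariesAlongDVR := by
    intro R _ _ _ g
    rw [pullback_quot]
    let eR := (Scheme.ΓSpecIso (CommRingCat.of R)).commRingCatIsoToRingEquiv
    haveI : IsDomain Γ(Spec (CommRingCat.of R), ⊤) := MulEquiv.isDomain R eR.toMulEquiv
    haveI : IsIntegrallyClosed Γ(Spec (CommRingCat.of R), ⊤) :=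
      IsIntegrallyClosed.of_equiv eR.symm
    apply isAlgebraic_quot
    have h3 := congrArg (fun t => g.appTop t) hxy'
    simp only [map_pow] at h3
    exact h3
  obtain ⟨a, ha, -⟩ := h _ hvar
  obtain ⟨h1, h2⟩ := sq_cube_of_ofSection_eq_quot _ _ a hxy' ha
  refine ⟨e a, ?_, ?_⟩
  · rw [← map_pow, ← h1, RingEquiv.apply_symm_apply]
  · rw [← map_pow, ← h2, RingEquiv.apply_symm_apply]

end Groth.Agent.Lib.PtFunSNH6
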