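import Mathlib
import Groth.Prelude.Def_W4c1hilbchowincPtFun
import Groth.Agent.Lib.PtFunIC2_helper6
import Groth.Agent.Lib.PtFunSN_helper6

/-!
# Pointwise functions varying along DVRs on integrally closed rings, scheme part (helper6)
-/

set_option autoImplicit false
universe u

open AlgebraicGeometry CategoryTheory W4c1hilbchowinc

namespace Groth.Agent.Lib.PtFunICH6

variable (A : Type u) [CommRing A]

/-- evaluation at a point of `Spec A`, as a ring hom from `A` -/
noncomputable def evA (x : PrimeSpectrum A) :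
    A →+* (Spec (CommRingCat.of A)).residueField x :=
  ((Spec (CommRingCat.of A)).Γevaluation x).hom.comp
    (Scheme.ΓSpecIso (CommRingCat.of A)).inv.hom

theorem evA_apply (x : PrimeSpectrum A) (a : A) :
    evA A x a = (Spec (CommRingCat.of A)).Γevaluation x
      ((Scheme.ΓSpecIso (CommRingCat.of A)).inv a) := rfl

theorem evA_eq_zero_iff (x : PrimeSpectrum A) (a : A) : evA A x a = 0 ↔ a ∈ x.asIdeal := by
  rw [evA_apply, Scheme.evaluation_eq_zero_iff_notMem_basicOpen, basicOpen_eq_of_affine]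
  show ¬ (x ∈ PrimeSpectrum.basicOpen a) ↔ _
  rw [PrimeSpectrum.mem_basicOpen, not_not]

theorem exists_rep_evA (x : PrimeSpectrum A) (z : (Spec (CommRingCat.of A)).residueField x) :
    ∃ a s : A, s ∉ x.asIdeal ∧ evA A x s * z = evA A x a := by
  have hcomp : ∀ a : A, evA A x a = (Scheme.Spec.residueFieldIso (CommRingCat.of A) x).inv
      (algebraMap A x.asIdeal.ResidueField a) := by
    intro a
    have h1 := Scheme.Spec.algebraMap_residueFieldIso_inv (CommRingCat.of A) x
    exact (congr($h1 a)).symm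
  obtain ⟨z0, rfl⟩ : ∃ z0 : x.asIdeal.ResidueField,
      (Scheme.Spec.residueFieldIso (CommRingCat.of A) x).inv z0 = z :=
    ⟨(Scheme.Spec.residueFieldIso (CommRingCat.of A) x).hom z, by simp⟩
  have hq : ∀ c : A, algebraMap (A ⧸ x.asIdeal) x.asIdeal.ResidueField
      (Ideal.Quotient.mk _ c) = algebraMap A x.asIdeal.ResidueField c := fun c =>
    (IsScalarTower.algebraMap_apply A (A ⧸ x.asIdeal) x.asIdeal.ResidueField c).symm
  obtain ⟨a', s', hs', h⟩ := IsFractionRing.div_surjective (A := A ⧸ x.asIdeal) z0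
  obtain ⟨a, rfl⟩ := Ideal.Quotient.mk_surjective a'
  obtain ⟨s, rfl⟩ := Ideal.Quotient.mk_surjective s'
  have hs : s ∉ x.asIdeal := fun hs => by
    have h0 : Ideal.Quotient.mk x.asIdeal s = 0 := Ideal.Quotient.eq_zero_iff_mem.2 hs
    exact nonZeroDivisors.ne_zero hs' h0
  have hs0 : algebraMap A x.asIdeal.ResidueField s ≠ 0 := by
    rw [Ne, Ideal.algebraMap_residueField_eq_zero]; exact hs
  refine ⟨a, s, hs, ?_⟩
  rw [hcomp, hcomp, ← map_mul]
  congr 1
  rw [← h, hq, hq]
  field_simp

variable {A}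

theorem core (f : PtFun (Spec (CommRingCat.of A))) (V : Type u) [CommRing V] (φ : A →+* V)
    (σ : Γ(Spec (CommRingCat.of V), ⊤))
    (hσ : PtFun.ofSection _ σ = f.pullback (Spec.map (CommRingCat.ofHom φ)))
    (y : PrimeSpectrum V) (a s : A)
    (h : evA A (Spec.map (CommRingCat.ofHom φ) y) s * f (Spec.map (CommRingCat.ofHom φ) y) =
      evA A (Spec.map (CommRingCat.ofHom φ) y) a) :
    φ s * (Scheme.ΓSpecIso (CommRingCat.of V)).hom σ - φ a ∈ y.asIdeal := by
  rw [← evA_eq_zero_iff V y]
  have hnat : ∀ c : A, evA V y (φ c) = (Spec.map (CommRingCat.ofHom φ)).residueFieldMap y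
      (evA A (Spec.map (CommRingCat.ofHom φ) y) c) := by
    intro c
    rw [evA_apply, evA_apply, Scheme.Γevaluation_naturality_apply]
    congr 1
    have h1 := Scheme.ΓSpecIso_inv_naturality (CommRingCat.ofHom φ)
    exact congr($h1 c)
  have hσy : evA V y ((Scheme.ΓSpecIso (CommRingCat.of V)).hom σ) =
      (Spec.map (CommRingCat.ofHom φ)).residueFieldMap y (f (Spec.map (CommRingCat.ofHom φ) y)) := by
    have h1 := congrFun hσ y
    rw [evA_apply, Iso.hom_inv_id_apply]
    exact h1
  rw [map_sub, map_mul, hnat, hnat, hσy, ← map_mul, h, sub_self]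

theorem main13110 (A : Type u) [CommRing A] [IsReduced A] [IsNoetherianRing A]
    [IsIntegrallyClosed A]
    (f : PtFun (Spec (CommRingCat.of A))) (hf : f.VariesAlongDVR) :
    ∃! a : Γ(Spec (CommRingCat.of A), ⊤), PtFun.ofSection (Spec (CommRingCat.of A)) a = f := by
  have H : DVRHyp (fun x : PrimeSpectrum A => (Spec (CommRingCat.of A)).residueField x)
      (evA A) f := by
    intro V _ _ _ φ
    obtain ⟨σ, hσ⟩ := hf V (Spec.map (CommRingCat.ofHom φ))
    refine ⟨(Scheme.ΓSpecIso (CommRingCat.of V)).hom σ, ?_⟩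
    rintro x y rfl a s h
    exact core f V φ σ hσ y a s h
  obtain ⟨a', ha'⟩ := exists_global
    (fun x : PrimeSpectrum A => (Spec (CommRingCat.of A)).residueField x) (evA A)
    (evA_eq_zero_iff A) (exists_rep_evA A) f H
  refine ⟨(Scheme.ΓSpecIso (CommRingCat.of A)).inv a', ?_, ?_⟩
  · funext x; exact ha' x
  · intro b hb
    have h1 := Groth.Agent.Lib.PtFunSNH6.eq_zero_of_forall_evaluation
      (X := Spec (CommRingCat.of A)) (b - (Scheme.ΓSpecIso (CommRingCat.of A)).inv a')
      (fun x => by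
        have h2 : (Spec (CommRingCat.of A)).Γevaluation x b = f x := congrFun hb x
        rw [map_sub, h2, sub_eq_zero]
        exact (ha' x).symm)
    exact sub_eq_zero.1 h1

end Groth.Agent.Lib.PtFunICH6
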