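import Mathlib
import Groth.Prelude.Def_W4c1hilbchowincPtFun
import Groth.Agent.Lib.PtFunIC3_helper6
import Groth.Agent.Lib.DVRExcGen_lead

/-!
# Pointwise functions: from complete DVRs to all DVRs (helper6)
-/

set_option autoImplicit false
universe u

open AlgebraicGeometry CategoryTheory W4c1hilbchowinc IsLocalRing

namespace Groth.Agent.Lib.PtFunICH6

theorem pullback_comp {X Y Z : Scheme.{u}} (g : Z ⟶ Y) (h : Y ⟶ X) (f : PtFun X) :
    (f.pullback h).pullback g = f.pullback (g ≫ h) := by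
  funext z
  show g.residueFieldMap z (h.residueFieldMap (g z) (f (h (g z)))) =
    (g ≫ h).residueFieldMap z (f ((g ≫ h) z))
  rw [Scheme.residueFieldMap_comp]
  rfl

variable {A : Type u} [CommRing A]

theorem evA_map {V : Type u} [CommRing V] (φ : A →+* V) (y : PrimeSpectrum V) (c : A) :
    evA V y (φ c) = (Spec.map (CommRingCat.ofHom φ)).residueFieldMap y
      (evA A (Spec.map (CommRingCat.ofHom φ) y) c) := by
  rw [evA_apply, evA_apply, Scheme.Γevaluation_naturality_apply]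
  congr 1
  have h1 := Scheme.ΓSpecIso_inv_naturality (CommRingCat.ofHom φ)
  exact congr($h1 c)

theorem evA_hom (y : PrimeSpectrum A) (σ : Γ(Spec (CommRingCat.of A), ⊤)) :
    evA A y ((Scheme.ΓSpecIso (CommRingCat.of A)).hom σ) =
      PtFun.ofSection (Spec (CommRingCat.of A)) σ y := by
  rw [evA_apply, Iso.hom_inv_id_apply]
  rfl

/-- a pointwise function on the spectrum of a DVR which becomes algebraic on the completion is
algebraic -/
theorem isAlgebraic_of_completion (R : Type u) [CommRing R] [IsDomain R]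
    [IsDiscreteValuationRing R] (F : PtFun (Spec (CommRingCat.of R)))
    (h : (F.pullback (Spec.map (CommRingCat.ofHom (algebraMap R (EGA4.Cpl R))))).IsAlgebraic) :
    F.IsAlgebraic := by
  obtain ⟨hdom, hdvr, hinj, -⟩ := Groth.Agent.Lib.DVRExcGen.cpl_dvr R
  obtain ⟨hloc, hnoeth, -, hff, hlh, -⟩ := Groth.Agent.Lib.AnUnramH3.completion_facts R
  haveI := hdom
  haveI := hff
  haveI := hlh
  obtain ⟨ι, hι⟩ : ∃ ι : R →+* EGA4.Cpl R, ι = algebraMap R (EGA4.Cpl R) := ⟨_, rfl⟩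
  rw [← hι] at h
  obtain ⟨σ', hσ'⟩ := h
  obtain ⟨v', hv'def⟩ : ∃ v' : EGA4.Cpl R,
      v' = (Scheme.ΓSpecIso (CommRingCat.of (EGA4.Cpl R))).hom σ' := ⟨_, rfl⟩
  let η' : PrimeSpectrum (EGA4.Cpl R) := ⟨⊥, Ideal.isPrime_bot⟩
  obtain ⟨a, b, hb, hab⟩ := exists_rep_evA R (Spec.map (CommRingCat.ofHom ι) η')
    (F (Spec.map (CommRingCat.ofHom ι) η'))
  have h1 := core F (EGA4.Cpl R) ι σ' hσ' η' a b hab
  rw [← hv'def] at h1
  have h2 : ι b * v' = ι a := sub_eq_zero.1 ((Ideal.mem_bot).1 h1)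
  have hb0 : ι b ≠ 0 := fun h0 => hb (by
    show ι b ∈ (⊥ : Ideal (EGA4.Cpl R))
    rw [h0]; exact Ideal.zero_mem _)
  have hdvd : b ∣ a := by
    rcases ValuationRing.dvd_total b a with hba | ⟨w, hw⟩
    · exact hba
    · have ha0 : ι a ≠ 0 := by
        intro h0; apply hb0; rw [hw, map_mul, h0, zero_mul]
      have h3 : ι a * (ι w * v' - 1) = 0 := by
        rw [mul_sub, mul_one, ← mul_assoc, ← map_mul, ← hw, h2, sub_self]
      have h4 : ι w * v' = 1 := sub_eq_zero.1 ((mul_eq_zero.1 h3).resolve_left ha0)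
      have h5 : IsUnit (ι w) := IsUnit.of_mul_eq_one _ h4
      have h6 : IsUnit w := by
        rw [hι] at h5
        exact IsUnit.of_map (algebraMap R (EGA4.Cpl R)) w h5
      obtain ⟨u, rfl⟩ := h6
      exact ⟨↑u⁻¹, by rw [hw, mul_assoc, Units.mul_inv, mul_one]⟩
  obtain ⟨v, hv⟩ := hdvd
  have hv' : v' = ι v := by
    apply mul_left_cancel₀ hb0
    rw [h2, hv, map_mul]
  refine ⟨(Scheme.ΓSpecIso (CommRingCat.of R)).inv v, ?_⟩
  funext y
  obtain ⟨y', rfl⟩ : ∃ y' : PrimeSpectrum (EGA4.Cpl R), Spec.map (CommRingCat.ofHom ι) y' = y := by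
    obtain ⟨y', hy'⟩ :=
      PrimeSpectrum.comap_surjective_of_faithfullyFlat (A := R) (B := EGA4.Cpl R) y
    exact ⟨y', by rw [hι]; exact hy'⟩
  show evA R (Spec.map (CommRingCat.ofHom ι) y') v = F (Spec.map (CommRingCat.ofHom ι) y')
  apply ((Spec.map (CommRingCat.ofHom ι)).residueFieldMap y').hom.injective
  have h7 := evA_map ι y' v
  have h8 : evA (EGA4.Cpl R) y' v' = (Spec.map (CommRingCat.ofHom ι)).residueFieldMap y'
      (F (Spec.map (CommRingCat.ofHom ι) y')) := by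
    rw [hv'def, evA_hom, hσ']
    rfl
  rw [← hv', h8] at h7
  exact h7.symm

theorem variesAlongDVR_of_complete {X : Scheme.{u}} (f : PtFun X)
    (hf : f.VariesAlongCompleteDVR) : f.VariesAlongDVR := by
  intro R _ _ _ g
  apply isAlgebraic_of_completion R
  rw [pullback_comp]
  obtain ⟨hdom, hdvr, -, -⟩ := Groth.Agent.Lib.DVRExcGen.cpl_dvr R
  obtain ⟨hloc, hnoeth, hc, -⟩ := Groth.Agent.Lib.AnUnramH3.completion_facts R
  exact @hf (EGA4.Cpl R) _ hdom hdvr hc _

end Groth.Agent.Lib.PtFunICH6
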