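import Mathlib
set_option autoImplicit false
universe u

/-!
# Descent of sections along proper surjective maps to seminormal schemes, part 1 (helper6)
Field-valued points, evaluation of a global section at a point, and the key lemma: the value of a
section satisfying the cocycle condition at a point of `Y` only depends on the image in `X`, and
lies in the residue field of that image.
-/

open AlgebraicGeometry CategoryTheory Limits TensorProduct

namespace Groth.Agent.Lib.SNDescentH6

/-- evaluation of a global section at a ring-valued point -/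
noncomputable def ev {Y : Scheme.{u}} {R : Type u} [CommRing R]
    (z : Spec (CommRingCat.of R) ⟶ Y) : Γ(Y, ⊤) →+* R :=
  (z.appTop ≫ (Scheme.ΓSpecIso (CommRingCat.of R)).hom).hom

theorem ev_comp {Y : Scheme.{u}} {R R' : Type u} [CommRing R] [CommRing R']
    (f : R →+* R') (z : Spec (CommRingCat.of R) ⟶ Y) :
    ev (Spec.map (CommRingCat.ofHom f) ≫ z) = f.comp (ev z) := by
  unfold ev
  rw [Scheme.Hom.comp_appTop, Category.assoc, Scheme.ΓSpecIso_naturality, ← Category.assoc]
  rfl

theorem ev_congr {Y : Scheme.{u}} {R : Type u} [CommRing R]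
    {z₁ z₂ : Spec (CommRingCat.of R) ⟶ Y} {s : Γ(Y, ⊤)} (h : z₁.appTop s = z₂.appTop s) :
    ev z₁ s = ev z₂ s := by
  unfold ev
  show (Scheme.ΓSpecIso (CommRingCat.of R)).hom (z₁.appTop s) =
    (Scheme.ΓSpecIso (CommRingCat.of R)).hom (z₂.appTop s)
  rw [h]

theorem comp_toSpecΓ {Y : Scheme.{u}} {R : Type u} [CommRing R]
    (z : Spec (CommRingCat.of R) ⟶ Y) :
    z ≫ Y.toSpecΓ = Spec.map (CommRingCat.ofHom (ev z)) := by
  rw [Scheme.toSpecΓ_naturality, ← SpecMap_ΓSpecIso_hom, ← Spec.map_comp]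
  rfl

theorem surjective_SpecMap_field {K L : Type u} [Field K] [Field L] (ι : K →+* L) :
    Surjective (Spec.map (CommRingCat.ofHom ι)) := by
  refine ⟨fun x => ⟨(⟨⊥, Ideal.isPrime_bot⟩ : PrimeSpectrum L), ?_⟩⟩
  exact Subsingleton.elim (α := PrimeSpectrum K) _ _

/-- a surjective morphism has points over every field-valued point, after extending the field -/
theorem exists_point_over {P S : Scheme.{u}} (f : P ⟶ S) [Surjective f] {L : Type u} [Field L]
    (y : Spec (CommRingCat.of L) ⟶ S) :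
    ∃ (M : Type u) (_ : Field M) (β : L →+* M) (z : Spec (CommRingCat.of M) ⟶ P),
      z ≫ f = Spec.map (CommRingCat.ofHom β) ≫ y := by
  haveI : Surjective (pullback.snd f y) := MorphismProperty.pullback_snd (P := @Surjective) _ _ ‹_›
  obtain ⟨w, -⟩ := (pullback.snd f y).surjective (⟨⊥, Ideal.isPrime_bot⟩ : PrimeSpectrum L)
  obtain ⟨φ, hφ⟩ := Spec.map_surjective
    ((pullback f y).fromSpecResidueField w ≫ pullback.snd f y)
  refine ⟨(pullback f y).residueField w, inferInstance, φ.hom,
    (pullback f y).fromSpecResidueField w ≫ pullback.fst f y, ?_⟩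
  rw [Category.assoc, pullback.condition, ← Category.assoc, ← hφ]
  rfl

theorem cocycle {X Y : Scheme.{u}} (π : Y ⟶ X) (s : Γ(Y, ⊤))
    (hs : (pullback.fst π π).appTop s = (pullback.snd π π).appTop s)
    (T : Scheme.{u}) (z₁ z₂ : T ⟶ Y) (h : z₁ ≫ π = z₂ ≫ π) : z₁.appTop s = z₂.appTop s := by
  calc z₁.appTop s = (pullback.lift z₁ z₂ h ≫ pullback.fst π π).appTop s := by
        rw [pullback.lift_fst]
    _ = (pullback.lift z₁ z₂ h).appTop ((pullback.fst π π).appTop s) := by
        rw [Scheme.Hom.comp_appTop]; rfl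
    _ = (pullback.lift z₁ z₂ h).appTop ((pullback.snd π π).appTop s) := by rw [hs]
    _ = (pullback.lift z₁ z₂ h ≫ pullback.snd π π).appTop s := by
        rw [Scheme.Hom.comp_appTop]; rfl
    _ = z₂.appTop s := by rw [pullback.lift_snd]

/-- descent of elements along a field extension -/
theorem mem_range_of_tmul_eq {K L : Type u} [Field K] [Field L] [Algebra K L] (d : L)
    (h : d ⊗ₜ[K] (1 : L) = (1 : L) ⊗ₜ[K] d) : ∃ c : K, algebraMap K L c = d := by
  have h4 := (Algebra.IsEffective.of_faithfullyFlat K L d).mp (by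
    rw [Algebra.TensorProduct.includeLeftSubRight_apply]; exact sub_eq_zero.mpr h)
  obtain ⟨c, hc⟩ := h4
  exact ⟨c, hc⟩

/-- **Key lemma**: the value of a cocycle section at points over a fixed field-valued point of `X`
is a constant of the base field. -/
theorem key_lemma {X Y : Scheme.{u}} (π : Y ⟶ X) [Surjective π] (s : Γ(Y, ⊤))
    (hcoc : ∀ (T : Scheme.{u}) (z₁ z₂ : T ⟶ Y), z₁ ≫ π = z₂ ≫ π → z₁.appTop s = z₂.appTop s)
    {K : Type u} [Field K] (x : Spec (CommRingCat.of K) ⟶ X) :
    ∃ c : K, ∀ (L : Type u) [Field L] (ι : K →+* L) (z : Spec (CommRingCat.of L) ⟶ Y),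
      z ≫ π = Spec.map (CommRingCat.ofHom ι) ≫ x → ev z s = ι c := by
  obtain ⟨L₀, _, ι₀, z₀, hz₀⟩ := exists_point_over π x
  have hd : ∃ c, ι₀ c = ev z₀ s := by
    letI : Algebra K L₀ := ι₀.toAlgebra
    let il : L₀ →+* L₀ ⊗[K] L₀ := Algebra.TensorProduct.includeLeftRingHom
    let ir : L₀ →+* L₀ ⊗[K] L₀ :=
      (Algebra.TensorProduct.includeRight (R := K) (A := L₀) (B := L₀)).toRingHom
    have hcomp : il.comp ι₀ = ir.comp ι₀ := by
      ext a
      have h1 : il (ι₀ a) = algebraMap K (L₀ ⊗[K] L₀) a :=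
        (Algebra.TensorProduct.includeLeft (R := K) (S := K) (A := L₀) (B := L₀)).commutes a
      have h2 : ir (ι₀ a) = algebraMap K (L₀ ⊗[K] L₀) a :=
        (Algebra.TensorProduct.includeRight (R := K) (A := L₀) (B := L₀)).commutes a
      exact h1.trans h2.symm
    have h1 : (Spec.map (CommRingCat.ofHom il) ≫ z₀) ≫ π =
        (Spec.map (CommRingCat.ofHom ir) ≫ z₀) ≫ π := by
      rw [Category.assoc, Category.assoc, hz₀, ← Category.assoc, ← Category.assoc,
        ← Spec.map_comp, ← Spec.map_comp, ← CommRingCat.ofHom_comp, ← CommRingCat.ofHom_comp,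
        hcomp]
    have h3 := ev_congr (hcoc _ _ _ h1)
    rw [ev_comp, ev_comp] at h3
    exact mem_range_of_tmul_eq (ev z₀ s) h3
  obtain ⟨c, hc⟩ := hd
  refine ⟨c, fun L _ ι z hz => ?_⟩
  haveI : Surjective (Spec.map (CommRingCat.ofHom ι₀)) := surjective_SpecMap_field ι₀
  obtain ⟨M, _, β, w, hw⟩ := exists_point_over (Spec.map (CommRingCat.ofHom ι₀))
    (Spec.map (CommRingCat.ofHom ι))
  obtain ⟨α, rfl⟩ := Spec.map_surjective w
  have hαβ : α.hom.comp ι₀ = β.comp ι := by
    rw [← Spec.map_comp, ← Spec.map_comp] at hw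
    exact congrArg CommRingCat.Hom.hom (Spec.map_injective hw)
  have h1 : (Spec.map (CommRingCat.ofHom α.hom) ≫ z₀) ≫ π =
      (Spec.map (CommRingCat.ofHom β) ≫ z) ≫ π := by
    rw [Category.assoc, Category.assoc, hz₀, hz, ← Category.assoc, ← Category.assoc]
    exact congrArg (· ≫ x) hw
  have h2 := ev_congr (hcoc _ _ _ h1)
  rw [ev_comp, ev_comp] at h2
  apply β.injective
  have h3 : α.hom (ι₀ c) = β (ι c) := RingHom.congr_fun hαβ c
  rw [← h3, hc]
  exact h2.symm

/-- sections are determined by their pullback along a surjective morphism to a reduced scheme -/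
theorem injective_app {X Y : Scheme.{u}} [IsReduced X] (π : Y ⟶ X) [Surjective π]
    (U : X.Opens) : Function.Injective (π.app U) := by
  rw [injective_iff_map_eq_zero]
  intro a ha
  rw [← basicOpen_eq_bot_iff]
  have h1 : π ⁻¹ᵁ (X.basicOpen a) = ⊥ := by
    rw [Scheme.preimage_basicOpen, ha]
    exact Scheme.basicOpen_zero _ _
  by_contra hne
  obtain ⟨x, hx⟩ : ∃ x, x ∈ X.basicOpen a := by
    by_contra hcon
    push_neg at hcon
    exact hne (by ext x; simpa using hcon x)
  obtain ⟨y, rfl⟩ := π.surjective x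
  have : y ∈ π ⁻¹ᵁ (X.basicOpen a) := hx
  rw [h1] at this
  exact this

end Groth.Agent.Lib.SNDescentH6
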