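import Mathlib
import Groth.Agent.Lib.Seminormal_helper6

/-!
# Seminormal / AWN schemes: every open of a seminormal scheme has a seminormal ring of sections
(helper6)
-/

set_option autoImplicit false

namespace Groth.Agent.Lib.Seminormal

open AlgebraicGeometry CategoryTheory TopologicalSpace HTop Opposite

universe u

variable {X : Scheme.{u}}

theorem res_res {U V W : X.Opens} (h1 : V ≤ U) (h2 : W ≤ V) (x : Γ(X, U)) :
    X.presheaf.map (homOfLE h2).op (X.presheaf.map (homOfLE h1).op x) =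
      X.presheaf.map (homOfLE (h2.trans h1)).op x := by
  rw [← CommRingCat.comp_apply, ← Functor.map_comp]
  rfl

/-- gluing sections which agree on overlaps -/
theorem exists_glue (U : X.Opens) {ι : Type*} (W : ι → X.Opens) (hW : ∀ i, W i ≤ U)
    (hcov : U ≤ iSup W) (a : ∀ i, Γ(X, W i))
    (hcomp : ∀ i j, X.presheaf.map (homOfLE (inf_le_left : W i ⊓ W j ≤ W i)).op (a i) =
      X.presheaf.map (homOfLE (inf_le_right : W i ⊓ W j ≤ W j)).op (a j)) :
    ∃ s : Γ(X, U), ∀ i, X.presheaf.map (homOfLE (hW i)).op s = a i := by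
  obtain ⟨s, hs, -⟩ := X.sheaf.existsUnique_gluing' (U := W) U (fun i => homOfLE (hW i)) hcov a
    (fun i j => hcomp i j)
  exact ⟨s, hs⟩

theorem eq_of_locally_eq (U : X.Opens) {ι : Type*} (W : ι → X.Opens) (hW : ∀ i, W i ≤ U)
    (hcov : U ≤ iSup W) (s t : Γ(X, U))
    (h : ∀ i, X.presheaf.map (homOfLE (hW i)).op s = X.presheaf.map (homOfLE (hW i)).op t) :
    s = t :=
  X.sheaf.eq_of_locally_eq' (U := W) U (fun i => homOfLE (hW i)) hcov s t h

theorem SNEx.of_cover [IsReduced X] (U : X.Opens)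
    (hU : ∀ p ∈ U, ∃ V : X.Opens, p ∈ V ∧ V ≤ U ∧ SNEx Γ(X, V)) : SNEx Γ(X, U) := by
  intro x y hxy
  choose V hpV hVU hV using hU
  have hcov : U ≤ iSup (fun p : U => V p.1 p.2) :=
    fun p hp => Opens.mem_iSup.2 ⟨⟨p, hp⟩, hpV p hp⟩
  have hloc : ∀ p : U, ∃ a : Γ(X, V p.1 p.2),
      X.presheaf.map (homOfLE (hVU p.1 p.2)).op x = a ^ 2 ∧
      X.presheaf.map (homOfLE (hVU p.1 p.2)).op y = a ^ 3 := by
    intro p
    apply hV p.1 p.2
    rw [← map_pow, ← map_pow, hxy]
  choose a ha2 ha3 using hloc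
  obtain ⟨s, hs⟩ := exists_glue U (fun p : U => V p.1 p.2) (fun p => hVU p.1 p.2) hcov a
    (fun p q => by
      apply eq_of_sq_cube
      · rw [← map_pow, ← map_pow, ← ha2, ← ha2, res_res, res_res]
      · rw [← map_pow, ← map_pow, ← ha3, ← ha3, res_res, res_res])
  refine ⟨s, ?_, ?_⟩
  · apply eq_of_locally_eq U (fun p : U => V p.1 p.2) (fun p => hVU p.1 p.2) hcov
    intro p
    rw [map_pow, hs p]
    exact ha2 p
  · apply eq_of_locally_eq U (fun p : U => V p.1 p.2) (fun p => hVU p.1 p.2) hcov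
    intro p
    rw [map_pow, hs p]
    exact ha3 p

theorem AWNEx.of_cover [IsReduced X] (U : X.Opens)
    (hU : ∀ p ∈ U, ∃ V : X.Opens, p ∈ V ∧ V ≤ U ∧ AWNEx Γ(X, V)) : AWNEx Γ(X, U) := by
  intro n hn x y hxy
  choose V hpV hVU hV using hU
  have hcov : U ≤ iSup (fun p : U => V p.1 p.2) :=
    fun p hp => Opens.mem_iSup.2 ⟨⟨p, hp⟩, hpV p hp⟩
  have hloc : ∀ p : U, ∃ a : Γ(X, V p.1 p.2),
      X.presheaf.map (homOfLE (hVU p.1 p.2)).op x = a ^ n ∧
      X.presheaf.map (homOfLE (hVU p.1 p.2)).op y = (n : Γ(X, V p.1 p.2)) * a := by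
    intro p
    apply hV p.1 p.2 n hn
    rw [← map_pow, ← hxy, map_mul, map_pow, map_natCast]
  choose a ha1 ha2 using hloc
  obtain ⟨s, hs⟩ := exists_glue U (fun p : U => V p.1 p.2) (fun p => hVU p.1 p.2) hcov a
    (fun p q => by
      apply eq_of_pow_prime hn
      · rw [← map_pow, ← map_pow, ← ha1, ← ha1, res_res, res_res]
      · have e1 : ∀ (W' W'' : X.Opens) (h : W'' ≤ W') (b : Γ(X, W')),
            (n : Γ(X, W'')) * X.presheaf.map (homOfLE h).op b =
              X.presheaf.map (homOfLE h).op ((n : Γ(X, W')) * b) := by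
          intro W' W'' h b
          rw [map_mul, map_natCast]
        rw [e1, e1, ← ha2, ← ha2, res_res, res_res])
  refine ⟨s, ?_, ?_⟩
  · apply eq_of_locally_eq U (fun p : U => V p.1 p.2) (fun p => hVU p.1 p.2) hcov
    intro p
    rw [map_pow, hs p]
    exact ha1 p
  · apply eq_of_locally_eq U (fun p : U => V p.1 p.2) (fun p => hVU p.1 p.2) hcov
    intro p
    rw [map_mul, map_natCast, hs p]
    exact ha2 p

theorem isReduced_of_forall_exists
    (h : ∀ x : X, ∃ U : X.affineOpens, x ∈ (U : X.Opens) ∧ _root_.IsReduced Γ(X, U)) :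
    IsReduced X := by
  have (x : X) : _root_.IsReduced (X.presheaf.stalk x) := by
    obtain ⟨U, hxU, hU⟩ := h x
    obtain ⟨y, rfl⟩ : ∃ y, U.2.fromSpec y = x :=
      ⟨U.2.primeIdealOf ⟨x, hxU⟩, U.2.fromSpec_primeIdealOf ⟨x, hxU⟩⟩
    exact isReduced_of_injective _
      (asIso <| (U.2.fromSpec).stalkMap y).commRingCatIsoToRingEquiv.injective
  exact isReduced_of_isReduced_stalk _

theorem isReduced_of_isSeminormal (hX : IsSeminormal X) : IsReduced X :=
  isReduced_of_forall_exists fun x => by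
    obtain ⟨U, hxU, hU⟩ := hX x
    exact ⟨U, hxU, (isSeminormalRing_iff.1 hU).1⟩

/-- every open of a seminormal scheme has a seminormal ring of sections -/
theorem isSeminormalRing_of_isSeminormal (hX : IsSeminormal X) (U : X.Opens) :
    IsSeminormalRing Γ(X, U) := by
  haveI := isReduced_of_isSeminormal hX
  rw [isSeminormalRing_iff]
  refine ⟨inferInstance, SNEx.of_cover U fun p hp => ?_⟩
  obtain ⟨W, hpW, hW⟩ := hX p
  obtain ⟨g, hg1, hg2⟩ := W.2.exists_basicOpen_le ⟨p, hp⟩ hpW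
  haveI := W.2.isLocalization_basicOpen g
  exact ⟨X.basicOpen g, hg2, hg1, (isSeminormalRing_iff.1 (isSeminormalRing_away g hW)).2⟩

theorem isAWNRing_of_isAWN (hX : IsAWN X) (U : X.Opens) : IsAWNRing Γ(X, U) := by
  have hX' : IsSeminormal X := fun x => by
    obtain ⟨W, hxW, hW⟩ := hX x
    exact ⟨W, hxW, hW.1⟩
  haveI := isReduced_of_isSeminormal hX'
  rw [isAWNRing_iff]
  refine ⟨inferInstance, (isSeminormalRing_iff.1 (isSeminormalRing_of_isSeminormal hX' U)).2,
    AWNEx.of_cover U fun p hp => ?_⟩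
  obtain ⟨W, hpW, hW⟩ := hX p
  obtain ⟨g, hg1, hg2⟩ := W.2.exists_basicOpen_le ⟨p, hp⟩ hpW
  haveI := W.2.isLocalization_basicOpen g
  exact ⟨X.basicOpen g, hg2, hg1, (isAWNRing_iff.1 (isAWNRing_away g hW)).2.2⟩

/-- local-to-global principle for ring properties which glue on schemes -/
theorem of_span_of_glue' (R : CommRingCat.{u}) (s : Finset R)
    (hs : Ideal.span (s : Set R) = ⊤) (P : ∀ (B : Type u) [CommRing B], Prop)
    (hP : ∀ (B C : Type u) [CommRing B] [CommRing C], (B ≃+* C) → P B → P C)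
    (hglue : ∀ Y : Scheme.{u}, (∀ y : Y, ∃ U : Y.affineOpens, y ∈ (U : Y.Opens) ∧ P Γ(Y, U)) →
      ∀ U : Y.Opens, P Γ(Y, U))
    (h : ∀ f ∈ s, P (Localization.Away f)) : P R := by
  have key : ∀ y : Spec R, ∃ U : (Spec R).affineOpens,
      y ∈ (U : (Spec R).Opens) ∧ P Γ(Spec R, U) := by
    intro y
    have hex : ∃ f ∈ s, f ∉ (y : PrimeSpectrum R).asIdeal := by
      by_contra hcon
      push Not at hcon
      have hle : Ideal.span (s : Set R) ≤ (y : PrimeSpectrum R).asIdeal :=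
        Ideal.span_le.2 (fun f hf => hcon f hf)
      rw [hs] at hle
      exact (y : PrimeSpectrum R).2.ne_top (top_le_iff.1 hle)
    obtain ⟨f, hfs, hfy⟩ := hex
    refine ⟨⟨PrimeSpectrum.basicOpen f, IsAffineOpen.Spec_basicOpen f⟩, hfy, ?_⟩
    have e : Localization.Away f ≃+* Γ(Spec R, PrimeSpectrum.basicOpen f) :=
      (IsLocalization.algEquiv (Submonoid.powers f) (Localization.Away f)
        Γ(Spec R, PrimeSpectrum.basicOpen f)).toRingEquiv
    exact hP _ _ e (h f hfs)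
  have htop := hglue (Spec R) key ⊤
  exact hP _ _ (Scheme.ΓSpecIso R).commRingCatIsoToRingEquiv htop

theorem of_span_of_glue {A : Type u} [CommRing A] (s : Finset A)
    (hs : Ideal.span (s : Set A) = ⊤) (P : ∀ (B : Type u) [CommRing B], Prop)
    (hP : ∀ (B C : Type u) [CommRing B] [CommRing C], (B ≃+* C) → P B → P C)
    (hglue : ∀ Y : Scheme.{u}, (∀ y : Y, ∃ U : Y.affineOpens, y ∈ (U : Y.Opens) ∧ P Γ(Y, U)) →
      ∀ U : Y.Opens, P Γ(Y, U))
    (h : ∀ f ∈ s, P (Localization.Away f)) : P A :=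
  of_span_of_glue' (CommRingCat.of A) s hs P hP hglue h

end Groth.Agent.Lib.Seminormal
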