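import Mathlib
import Groth.Agent.Lib.SNDescent1_helper6
import Groth.Agent.Lib.UnivHomeo24_helper6
import Groth.Agent.Lib.SeminormalSch_helper6
set_option autoImplicit false
universe u

/-!
# Descent of sections along proper surjective maps to seminormal schemes, part 2 (helper6)
The affine-local statement (`A[s]` is subintegral over `A`) and the gluing.
-/

open AlgebraicGeometry CategoryTheory Limits TensorProduct Opposite TopologicalSpace

namespace Groth.Agent.Lib.SNDescentH6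

open Groth.Agent.Lib.UnivHomeo Groth.Agent.Lib

section Alg

variable {A B : Type u} [CommRing A] [CommRing B] [Algebra A B] (s : B)

/-- the generator of `A[s]` -/
def gen : Algebra.adjoin A {s} := ⟨s, Algebra.subset_adjoin (Set.mem_singleton s)⟩

theorem exists_rep (c : Algebra.adjoin A {s}) :
    ∃ p : Polynomial A, c = Polynomial.aeval (gen (A := A) s) p := by
  have hc : (c : B) ∈ (Polynomial.aeval s : Polynomial A →ₐ[A] B).range := by
    rw [← Algebra.adjoin_singleton_eq_range_aeval]; exact c.2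
  obtain ⟨p, hp⟩ := hc
  refine ⟨p, Subtype.ext ?_⟩
  rw [← Subalgebra.aeval_coe]
  exact hp.symm

theorem apply_aeval {K : Type u} [CommRing K] (ψ : Algebra.adjoin A {s} →+* K)
    (p : Polynomial A) :
    ψ (Polynomial.aeval (gen (A := A) s) p) =
      Polynomial.eval₂ (ψ.comp (algebraMap A (Algebra.adjoin A {s}))) (ψ (gen s)) p := by
  rw [Polynomial.aeval_def, Polynomial.hom_eval₂]

theorem exists_factor_of_range_le {C K K' : Type u} [CommRing C] [Field K] [Field K']
    (ι : K →+* K') (ψ' : C →+* K') (h : ∀ c, ψ' c ∈ ι.range) :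
    ∃ ψ : C →+* K, ι.comp ψ = ψ' := by
  let e : K ≃+* ι.range := RingEquiv.ofBijective ι.rangeRestrict
    ⟨fun a b hab => ι.injective (congrArg Subtype.val hab), ι.rangeRestrict_surjective⟩
  refine ⟨e.symm.toRingHom.comp (ψ'.codRestrict ι.range h), ?_⟩
  ext c
  have h1 : e (e.symm ⟨ψ' c, h c⟩) = ⟨ψ' c, h c⟩ := e.apply_symm_apply _
  exact congrArg Subtype.val h1

end Alg

theorem map_map_eq {X : Scheme.{u}} {U V W : X.Opens} (f : op U ⟶ op V) (g : op V ⟶ op W)
    (h : op U ⟶ op W) (a : Γ(X, U)) :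
    X.presheaf.map g (X.presheaf.map f a) = X.presheaf.map h a := by
  rw [← CommRingCat.comp_apply, ← Functor.map_comp]
  exact congrArg (fun k => X.presheaf.map k a) (Subsingleton.elim _ _)

theorem app_res {X Y : Scheme.{u}} (π : Y ⟶ X) {U W : X.Opens} (h : W ≤ U) (a : Γ(X, U)) :
    π.app W (X.presheaf.map (homOfLE h).op a) =
      Y.presheaf.map (homOfLE (π.preimage_mono h)).op (π.app U a) := by
  have := π.naturality (homOfLE h).op
  exact congr($this a)

/-- conversion between the restricted morphism and sections over the open -/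
theorem app_of_restrict {X Y : Scheme.{u}} (π : Y ⟶ X) (U : X.Opens) (s : Γ(Y, ⊤))
    (t' : Γ(U.toScheme, ⊤)) (h : (π ∣_ U).appTop t' = (π ⁻¹ᵁ U).ι.appTop s) :
    π.app U (U.topIso.hom t') = Y.presheaf.map (homOfLE le_top).op s := by
  have hA : U.topIso.hom t' = X.presheaf.map (eqToHom U.ι_image_top.symm).op t' := rfl
  rw [hA]
  have hB := congr($(π.naturality (eqToHom U.ι_image_top.symm).op) t')
  rw [CommRingCat.comp_apply, CommRingCat.comp_apply] at hB
  rw [hB]
  have h2 : Y.presheaf.map (eqToHom (image_morphismRestrict_preimage π U ⊤)).op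
      (π.app (U.ι ''ᵁ ⊤) t') =
      Y.presheaf.map (homOfLE (x := (π ⁻¹ᵁ U).ι ''ᵁ ((π ∣_ U) ⁻¹ᵁ ⊤)) le_top).op s := by
    rw [morphismRestrict_appTop] at h
    exact h
  have hle : π ⁻¹ᵁ U ≤ (π ⁻¹ᵁ U).ι ''ᵁ ((π ∣_ U) ⁻¹ᵁ ⊤) := (Scheme.Opens.ι_image_top _).ge
  have h' := congrArg (Y.presheaf.map (homOfLE hle).op) h2
  rw [map_map_eq _ _ ((Opens.map π.base).map (eqToHom U.ι_image_top.symm).op.unop).op,
    map_map_eq _ _ (homOfLE le_top).op] at h'
  exact h'

/-- **Affine-local descent.** -/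
theorem exists_descend_affine {X Y : Scheme.{u}} [IsAffine X]
    (hA : HTop.IsSeminormalRing Γ(X, ⊤))
    (π : Y ⟶ X) [IsProper π] [Surjective π] [IsReduced Y] (s : Γ(Y, ⊤))
    (hcoc : ∀ (T : Scheme.{u}) (z₁ z₂ : T ⟶ Y), z₁ ≫ π = z₂ ≫ π → z₁.appTop s = z₂.appTop s) :
    ∃ t : Γ(X, ⊤), π.appTop t = s := by
  haveI hAred : _root_.IsReduced Γ(X, ⊤) := (Seminormal.isSeminormalRing_iff.1 hA).1
  haveI : IsReduced X := isReduced_of_isAffine_isReduced X
  haveI : CompactSpace Y := (quasiCompact_iff_compactSpace π).mp inferInstance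
  letI : Algebra Γ(X, ⊤) Γ(Y, ⊤) := π.appTop.hom.toAlgebra
  have hs_int : IsIntegral Γ(X, ⊤) s := isIntegral_appTop_of_universallyClosed π s
  let C : Subalgebra Γ(X, ⊤) Γ(Y, ⊤) := Algebra.adjoin Γ(X, ⊤) {s}
  let sC : C := gen s
  haveI : Algebra.IsIntegral Γ(X, ⊤) C := Algebra.IsIntegral.adjoin (fun x hx => by
    rw [Set.mem_singleton_iff.mp hx]; exact hs_int)
  haveI : _root_.IsReduced C := isReduced_of_injective C.val Subtype.val_injective
  have hinjB : Function.Injective (algebraMap Γ(X, ⊤) Γ(Y, ⊤)) := injective_app π ⊤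
  have hinj : Function.Injective (algebraMap Γ(X, ⊤) C) :=
    fun a b h => hinjB (congrArg Subtype.val h)
  have hker : RingHom.ker (algebraMap Γ(X, ⊤) C) ≤ nilradical Γ(X, ⊤) := by
    rw [(RingHom.injective_iff_ker_eq_bot _).mp hinj]; exact bot_le
  -- the map to `Spec C`
  let incl : CommRingCat.of C ⟶ Γ(Y, ⊤) := CommRingCat.ofHom C.val.toRingHom
  let g : Y ⟶ Spec (CommRingCat.of C) := Y.toSpecΓ ≫ Spec.map incl
  have hgπ : π ≫ X.isoSpec.hom =
      g ≫ Spec.map (CommRingCat.ofHom (algebraMap Γ(X, ⊤) C)) := by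
    rw [Scheme.isoSpec_hom, Scheme.toSpecΓ_naturality, Category.assoc, ← Spec.map_comp]
    rfl
  haveI : Surjective g := by
    haveI : UniversallyClosed (g ≫ Spec.map (CommRingCat.ofHom (algebraMap Γ(X, ⊤) C))) := by
      rw [← hgπ]; infer_instance
    haveI : UniversallyClosed g := UniversallyClosed.of_comp_of_isSeparated g
      (Spec.map (CommRingCat.ofHom (algebraMap Γ(X, ⊤) C)))
    haveI : IsDominant g := isDominant_of_of_appTop_injective (by
      have : g.appTop = (Scheme.ΓSpecIso (CommRingCat.of C)).hom ≫ incl := by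
        rw [Scheme.Hom.comp_appTop, Scheme.toSpecΓ_appTop, Scheme.ΓSpecIso_naturality]
      rw [this]
      intro a b hab
      exact (ConcreteCategory.bijective_of_isIso
        (Scheme.ΓSpecIso (CommRingCat.of C)).hom).1 (Subtype.val_injective hab))
    exact surjective_of_isDominant_of_isClosed_range g (g.isClosedMap.isClosed_range)
  -- the combined lemma
  have CL : ∀ (K : Type u) [Field K] (χ : Γ(X, ⊤) →+* K), ∃ c : K, ∀ (L : Type u) [Field L]
      (ι : K →+* L) (ψ : C →+* L), ψ.comp (algebraMap Γ(X, ⊤) C) = ι.comp χ → ψ sC = ι c := by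
    intro K _ χ
    obtain ⟨c, hc⟩ := key_lemma π s hcoc (Spec.map (CommRingCat.ofHom χ) ≫ X.isoSpec.inv)
    refine ⟨c, fun L _ ι ψ hψ => ?_⟩
    obtain ⟨M, _, β, z, hz⟩ := exists_point_over g (Spec.map (CommRingCat.ofHom ψ))
    have e1 : Spec.map (CommRingCat.ofHom ψ) ≫
        Spec.map (CommRingCat.ofHom (algebraMap Γ(X, ⊤) C)) =
        Spec.map (CommRingCat.ofHom ι) ≫ Spec.map (CommRingCat.ofHom χ) := by
      rw [← Spec.map_comp, ← Spec.map_comp, ← CommRingCat.ofHom_comp, ← CommRingCat.ofHom_comp,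
        hψ]
    have h1 : z ≫ π = Spec.map (CommRingCat.ofHom (β.comp ι)) ≫
        (Spec.map (CommRingCat.ofHom χ) ≫ X.isoSpec.inv) := by
      calc z ≫ π = (z ≫ π ≫ X.isoSpec.hom) ≫ X.isoSpec.inv := by simp
        _ = (z ≫ g) ≫ Spec.map (CommRingCat.ofHom (algebraMap Γ(X, ⊤) C)) ≫
            X.isoSpec.inv := by rw [hgπ]; simp only [Category.assoc]
        _ = Spec.map (CommRingCat.ofHom β) ≫ Spec.map (CommRingCat.ofHom ι) ≫
            Spec.map (CommRingCat.ofHom χ) ≫ X.isoSpec.inv := by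
          rw [hz, Category.assoc, reassoc_of% e1]
        _ = _ := by
          rw [CommRingCat.ofHom_comp, Spec.map_comp, Category.assoc]
    have h2 : ev z s = β (ι c) := hc M (β.comp ι) z h1
    have h3 : ev z s = β (ψ sC) := by
      have e2 : Spec.map (incl ≫ CommRingCat.ofHom (ev z)) =
          Spec.map (CommRingCat.ofHom (β.comp ψ)) := by
        rw [Spec.map_comp, ← comp_toSpecΓ, Category.assoc, CommRingCat.ofHom_comp, Spec.map_comp]
        exact hz
      have e3 := congrArg CommRingCat.Hom.hom (Spec.map_injective e2)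
      exact RingHom.congr_fun e3 sC
    exact β.injective (h3.symm.trans h2)
  have hPU : PU Γ(X, ⊤) C := by
    intro K _ ψ₁ ψ₂ h
    obtain ⟨c, hc⟩ := CL K (ψ₁.comp (algebraMap Γ(X, ⊤) C))
    have e1 : ψ₁ sC = c := hc K (RingHom.id K) ψ₁ (RingHom.id_comp _).symm
    have e2 : ψ₂ sC = c := hc K (RingHom.id K) ψ₂ (h.symm.trans (RingHom.id_comp _).symm)
    ext x
    obtain ⟨p, rfl⟩ := exists_rep s x
    rw [apply_aeval, apply_aeval, h]
    exact congrArg (fun y => Polynomial.eval₂ _ y p) (e1.trans e2.symm)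
  have hPE : PE Γ(X, ⊤) C := by
    intro K _ χ
    obtain ⟨c₀, hc⟩ := CL K χ
    obtain ⟨K', _, ι, ψ', hψ'⟩ := exists_field_ext (A := Γ(X, ⊤)) (B := C) hker K χ
    have e1 : ψ' sC = ι c₀ := hc K' ι ψ' hψ'
    have hr : ∀ x, ψ' x ∈ ι.range := by
      intro x
      obtain ⟨p, rfl⟩ := exists_rep s x
      rw [apply_aeval, hψ']
      refine ⟨Polynomial.eval₂ χ c₀ p, ?_⟩
      rw [Polynomial.hom_eval₂]
      exact congrArg (fun y => Polynomial.eval₂ _ y p) e1.symm
    obtain ⟨ψ, hψ⟩ := exists_factor_of_range_le ι ψ' hr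
    refine ⟨ψ, RingHom.ext fun a => ι.injective ?_⟩
    have h1 : ι (ψ (algebraMap Γ(X, ⊤) C a)) = ψ' (algebraMap Γ(X, ⊤) C a) :=
      RingHom.congr_fun hψ _
    rw [RingHom.comp_apply, h1]
    exact RingHom.congr_fun hψ' a
  have hU := (isUnivHomeo_iff_alg Γ(X, ⊤) C).mpr ⟨inferInstance, hPU, hker⟩
  obtain ⟨t, ht⟩ := (bijective_of_isSeminormalRing_of_PE hA hU hPE).2 sC
  exact ⟨t, congrArg Subtype.val ht⟩

/-- **Descent of sections along proper surjective morphisms to a seminormal scheme.** -/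
theorem main13113 {X Y : Scheme.{u}} (hX : HTop.IsSeminormal X) (π : Y ⟶ X) [IsProper π]
    [Surjective π] [IsReduced Y]
    (s : Γ(Y, ⊤)) (hs : (pullback.fst π π).appTop s = (pullback.snd π π).appTop s) :
    ∃! t : Γ(X, ⊤), π.appTop t = s := by
  haveI : IsReduced X := Seminormal.isReduced_of_isSeminormal hX
  have hcoc := cocycle π s hs
  have hinj : ∀ U : X.Opens, Function.Injective (π.app U) := injective_app π
  have hloc : ∀ U : X.affineOpens, ∃ t : Γ(X, U.1),
      π.app U.1 t = Y.presheaf.map (homOfLE le_top).op s := by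
    intro U
    haveI : IsAffine U.1.toScheme := U.2
    haveI : Surjective (π ∣_ U.1) := IsZariskiLocalAtTarget.restrict ‹Surjective π› U.1
    have hA : HTop.IsSeminormalRing Γ(U.1.toScheme, ⊤) :=
      Seminormal.isSeminormalRing_of_isSeminormal hX (U.1.ι ''ᵁ ⊤)
    have hcoc' : ∀ (T : Scheme.{u}) (z₁ z₂ : T ⟶ (π ⁻¹ᵁ U.1).toScheme),
        z₁ ≫ (π ∣_ U.1) = z₂ ≫ (π ∣_ U.1) →
        z₁.appTop ((π ⁻¹ᵁ U.1).ι.appTop s) = z₂.appTop ((π ⁻¹ᵁ U.1).ι.appTop s) := by
      intro T z₁ z₂ h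
      have h1 : (z₁ ≫ (π ⁻¹ᵁ U.1).ι) ≫ π = (z₂ ≫ (π ⁻¹ᵁ U.1).ι) ≫ π := by
        rw [Category.assoc, Category.assoc, ← morphismRestrict_ι, ← Category.assoc,
          ← Category.assoc, h]
      have h2 := hcoc T _ _ h1
      rw [Scheme.Hom.comp_appTop, Scheme.Hom.comp_appTop] at h2
      exact h2
    obtain ⟨t', ht'⟩ := exists_descend_affine hA (π ∣_ U.1) ((π ⁻¹ᵁ U.1).ι.appTop s) hcoc'
    exact ⟨U.1.topIso.hom t', app_of_restrict π U.1 s t' ht'⟩
  choose tU htU using hloc
  have hcompat : ∀ U V : X.affineOpens,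
      X.presheaf.map (homOfLE (inf_le_left : U.1 ⊓ V.1 ≤ U.1)).op (tU U) =
        X.presheaf.map (homOfLE (inf_le_right : U.1 ⊓ V.1 ≤ V.1)).op (tU V) := by
    intro U V
    apply hinj (U.1 ⊓ V.1)
    rw [app_res, app_res, htU, htU, map_map_eq _ _ (homOfLE le_top).op,
      map_map_eq _ _ (homOfLE le_top).op]
  obtain ⟨t, ht⟩ := Seminormal.exists_glue (⊤ : X.Opens) (fun U : X.affineOpens => U.1)
    (fun _ => le_top) (by rw [iSup_affineOpens_eq_top X]) tU hcompat
  have hmain : π.appTop t = s := by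
    apply Seminormal.eq_of_locally_eq (X := Y) ⊤ (fun U : X.affineOpens => π ⁻¹ᵁ U.1)
      (fun _ => le_top)
    · intro y _
      have hy : π y ∈ (⊤ : X.Opens) := trivial
      rw [← iSup_affineOpens_eq_top X] at hy
      obtain ⟨U, hU⟩ := Opens.mem_iSup.mp hy
      exact Opens.mem_iSup.mpr ⟨U, hU⟩
    · intro U
      have h1 := app_res π (le_top : U.1 ≤ ⊤) t
      rw [ht U, htU] at h1
      exact h1.symm
  exact ⟨t, hmain, fun t' ht' => hinj ⊤ (ht'.trans hmain.symm)⟩

end Groth.Agent.Lib.SNDescentH6
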