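import Mathlib
import Groth.Prelude.Def_HTop2
import Groth.Prelude.Def_W4c1hilbchowincPtFun
import Groth.Agent.Lib.PtFunIC4_helper6
import Groth.Agent.Lib.SNDescent2_helper6

/-!
# Pointwise functions on seminormal rings with finite normalization (helper6)
-/

set_option autoImplicit false
universe u

open AlgebraicGeometry CategoryTheory W4c1hilbchowinc IsLocalRing

namespace Groth.Agent.Lib.PtFunICH6

open Groth.Agent.Lib.UnivHomeo Groth.Agent.Lib Groth.Agent.Lib.SNDescentH6

/-- ring-level descent: an integral element `s` of a reduced extension of a seminormal ring whose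
value at every field point of `A[s]` is determined (rationally) by the point of `A` lies in `A`. -/
theorem descend_of_CL {A B : Type u} [CommRing A] [CommRing B] [Algebra A B]
    (hA : HTop.IsSeminormalRing A) [IsReduced B] (s : B) (hs_int : IsIntegral A s)
    (hinjB : Function.Injective (algebraMap A B))
    (CL : ∀ (K : Type u) [Field K] (χ : A →+* K), ∃ c : K, ∀ (L : Type u) [Field L]
      (ι : K →+* L) (ψ : Algebra.adjoin A {s} →+* L),
      ψ.comp (algebraMap A (Algebra.adjoin A {s})) = ι.comp χ → ψ (gen s) = ι c) :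
    ∃ t : A, algebraMap A B t = s := by
  let C : Subalgebra A B := Algebra.adjoin A {s}
  let sC : C := gen s
  haveI : Algebra.IsIntegral A C := Algebra.IsIntegral.adjoin (fun x hx => by
    rw [Set.mem_singleton_iff.mp hx]; exact hs_int)
  haveI : _root_.IsReduced C := isReduced_of_injective C.val Subtype.val_injective
  have hinj : Function.Injective (algebraMap A C) :=
    fun a b h => hinjB (congrArg Subtype.val h)
  have hker : RingHom.ker (algebraMap A C) ≤ nilradical A := by
    rw [(RingHom.injective_iff_ker_eq_bot _).mp hinj]; exact bot_le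
  have hPU : PU A C := by
    intro K _ ψ₁ ψ₂ h
    obtain ⟨c, hc⟩ := CL K (ψ₁.comp (algebraMap A C))
    have e1 : ψ₁ sC = c := hc K (RingHom.id K) ψ₁ (RingHom.id_comp _).symm
    have e2 : ψ₂ sC = c := hc K (RingHom.id K) ψ₂ (h.symm.trans (RingHom.id_comp _).symm)
    ext x
    obtain ⟨p, rfl⟩ := exists_rep s x
    rw [apply_aeval, apply_aeval, h]
    exact congrArg (fun y => Polynomial.eval₂ _ y p) (e1.trans e2.symm)
  have hPE : PE A C := by
    intro K _ χ
    obtain ⟨c₀, hc⟩ := CL K χ
    obtain ⟨K', _, ι, ψ', hψ'⟩ := exists_field_ext (A := A) (B := C) hker K χ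
    have e1 : ψ' sC = ι c₀ := hc K' ι ψ' hψ'
    have hr : ∀ x, ψ' x ∈ ι.range := by
      intro x
      obtain ⟨p, rfl⟩ := exists_rep s x
      rw [apply_aeval, hψ']
      refine ⟨Polynomial.eval₂ χ c₀ p, ?_⟩
      rw [Polynomial.hom_eval₂]
      exact congrArg (fun y => Polynomial.eval₂ _ y p) e1.symm
    obtain ⟨ψ, hψ⟩ := exists_factor_of_range_le ι ψ' hr
    refine ⟨ψ, RingHom.ext fun a => ι.injective ?_⟩
    have h1 : ι (ψ (algebraMap A C a)) = ψ' (algebraMap A C a) :=
      RingHom.congr_fun hψ _
    rw [RingHom.comp_apply, h1]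
    exact RingHom.congr_fun hψ' a
  have hU := (isUnivHomeo_iff_alg A C).mpr ⟨inferInstance, hPU, hker⟩
  obtain ⟨t, ht⟩ := (bijective_of_isSeminormalRing_of_PE hA hU hPE).2 sC
  exact ⟨t, congrArg Subtype.val ht⟩

section Nrm

variable (A : Type u) [CommRing A]

/-- the total ring of fractions of `A` is also the total ring of fractions of the integral closure
of `A` in it -/
theorem isFractionRing_nrm :
    IsFractionRing (integralClosure A (FractionRing A)) (FractionRing A) := by
  have hinjA : Function.Injective (algebraMap A (FractionRing A)) := IsFractionRing.injective A _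
  have hunits : ∀ b : integralClosure A (FractionRing A),
      b ∈ nonZeroDivisors (integralClosure A (FractionRing A)) → IsUnit (b : FractionRing A) := by
    intro b hb
    obtain ⟨⟨a, s⟩, h⟩ := IsLocalization.surj (nonZeroDivisors A) (b : FractionRing A)
    have hsu : IsUnit (algebraMap A (FractionRing A) s) := IsLocalization.map_units _ s
    have ha : a ∈ nonZeroDivisors A := by
      rw [mem_nonZeroDivisors_iff_left]
      intro c hc
      have h0 : (b : FractionRing A) * algebraMap A (FractionRing A) c *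
          algebraMap A (FractionRing A) s = 0 := by
        rw [mul_right_comm, h, ← map_mul, hc, map_zero]
      have h1 : b * algebraMap A (integralClosure A (FractionRing A)) c = 0 :=
        Subtype.ext (hsu.mul_left_eq_zero.1 h0)
      have h2 := (mem_nonZeroDivisors_iff_left.1 hb) _ h1
      exact hinjA ((congrArg Subtype.val h2).trans (map_zero _).symm)
    have hau : IsUnit (algebraMap A (FractionRing A) a) :=
      IsLocalization.map_units _ (⟨a, ha⟩ : nonZeroDivisors A)
    rw [← h] at hau
    exact isUnit_of_mul_isUnit_left hau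
  refine (isLocalization_iff _ _).2 ⟨fun y => hunits y.1 y.2, fun z => ?_, ?_⟩
  · obtain ⟨⟨a, s⟩, h⟩ := IsLocalization.surj (nonZeroDivisors A) z
    have hsu : IsUnit (algebraMap A (FractionRing A) s) := IsLocalization.map_units _ s
    have hs' : algebraMap A (integralClosure A (FractionRing A)) s ∈
        nonZeroDivisors (integralClosure A (FractionRing A)) := by
      rw [mem_nonZeroDivisors_iff_left]
      intro x hx
      have h1 : algebraMap A (FractionRing A) s * (x : FractionRing A) = 0 :=
        congrArg Subtype.val hx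
      exact Subtype.ext (hsu.mul_right_eq_zero.1 h1)
    exact ⟨(algebraMap A _ a, ⟨algebraMap A _ s, hs'⟩), h⟩
  · intro x y hxy
    exact ⟨1, by rw [Subtype.ext hxy]⟩

end Nrm

section Main

variable (A : Type u) [CommRing A]

local notation "A'" => integralClosure A (FractionRing A)
local notation "π" => Spec.map (CommRingCat.ofHom (algebraMap A (integralClosure A (FractionRing A))))

/-- **Main theorem (S13109).** -/
theorem main13109 [IsNoetherianRing A] (hA : HTop.IsSeminormalRing A)
    (hfin : Module.Finite A (integralClosure A (FractionRing A)))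
    (f : PtFun (Spec (CommRingCat.of A))) (hf : f.VariesAlongCompleteDVR) :
    ∃! a : Γ(Spec (CommRingCat.of A), ⊤), PtFun.ofSection (Spec (CommRingCat.of A)) a = f := by
  haveI hAred : _root_.IsReduced A := (Seminormal.isSeminormalRing_iff.1 hA).1
  have hf' := variesAlongDVR_of_complete f hf
  haveI : Module.Finite A A' := hfin
  haveI : IsNoetherianRing A' := IsNoetherianRing.of_finite A A'
  haveI : _root_.IsReduced (FractionRing A) := inferInstance
  haveI : _root_.IsReduced A' := isReduced_of_injective (A').val Subtype.val_injective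
  haveI : IsFractionRing A' (FractionRing A) := isFractionRing_nrm A
  haveI : IsIntegrallyClosed A' :=
    (isIntegrallyClosed_iff_isIntegrallyClosedIn (FractionRing A)).2 inferInstance
  haveI : Algebra.IsIntegral A A' := inferInstance
  have hinjA' : Function.Injective (algebraMap A A') := fun a b h =>
    IsFractionRing.injective A (FractionRing A) (congrArg Subtype.val h)
  have hf'' : (f.pullback π).VariesAlongDVR := by
    intro R _ _ _ g
    rw [pullback_comp]
    exact hf' R (g ≫ π)
  obtain ⟨σ', hσ', -⟩ := main13110 A' (f.pullback π) hf''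
  obtain ⟨a', ha'def⟩ : ∃ a' : A', a' = (Scheme.ΓSpecIso (CommRingCat.of A')).hom σ' := ⟨_, rfl⟩
  -- the key vanishing
  have hkey : ∀ (x' : PrimeSpectrum A') (a s : A),
      evA A (π x') s * f (π x') = evA A (π x') a →
      algebraMap A A' s * a' - algebraMap A A' a ∈ x'.asIdeal := by
    intro x' a s h
    rw [ha'def]
    exact core f A' (algebraMap A A') σ' hσ' x' a s h
  -- descent
  have CL : ∀ (K : Type u) [Field K] (χ : A →+* K), ∃ c : K, ∀ (L : Type u) [Field L]
      (ι : K →+* L) (ψ : Algebra.adjoin A {a'} →+* L),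
      ψ.comp (algebraMap A (Algebra.adjoin A {a'})) = ι.comp χ → ψ (gen a') = ι c := by
    intro K _ χ
    haveI hker : (RingHom.ker χ).IsPrime := RingHom.ker_isPrime χ
    obtain ⟨x, hx⟩ : ∃ x : PrimeSpectrum A, x = ⟨RingHom.ker χ, hker⟩ := ⟨_, rfl⟩
    obtain ⟨a, s, hs, has⟩ := exists_rep_evA A x (f x)
    have hgen : ∀ x₁ : PrimeSpectrum A, x₁ = x → evA A x₁ s * f x₁ = evA A x₁ a := by
      rintro _ rfl; exact has
    have hχs : χ s ≠ 0 := fun h0 => hs (by rw [hx]; exact h0)
    refine ⟨χ a / χ s, fun L _ ι ψ hψ => ?_⟩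
    haveI : Algebra.IsIntegral (Algebra.adjoin A {a'}) A' := Algebra.IsIntegral.tower_top A
    haveI hq : (RingHom.ker ψ).IsPrime := RingHom.ker_isPrime ψ
    obtain ⟨𝔮, h𝔮⟩ : ∃ 𝔮 : Ideal (Algebra.adjoin A {a'}), 𝔮 = RingHom.ker ψ := ⟨_, rfl⟩
    haveI h𝔮p : 𝔮.IsPrime := by rw [h𝔮]; exact hq
    obtain ⟨Q, -, hQp, hQ⟩ := Ideal.exists_ideal_over_prime_of_isIntegral
      (R := Algebra.adjoin A {a'}) (S := A') 𝔮 (⊥ : Ideal A') (by
        intro c hc
        have h0 : algebraMap (Algebra.adjoin A {a'}) A' c = 0 := hc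
        have h1 : c = 0 := Subtype.ext h0
        rw [h1]; exact Ideal.zero_mem _)
    have hπ : π ⟨Q, hQp⟩ = x := by
      rw [hx]
      apply PrimeSpectrum.ext
      ext c
      show algebraMap A A' c ∈ Q ↔ c ∈ RingHom.ker χ
      have h1 : algebraMap A A' c ∈ Q ↔ algebraMap A (Algebra.adjoin A {a'}) c ∈ RingHom.ker ψ := by
        rw [← h𝔮, ← hQ, Ideal.mem_comap]; rfl
      rw [h1, RingHom.mem_ker, RingHom.mem_ker]
      have h2 : ψ (algebraMap A (Algebra.adjoin A {a'}) c) = ι (χ c) := RingHom.congr_fun hψ c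
      rw [h2, map_eq_zero_iff ι ι.injective]
    have h3 := hkey ⟨Q, hQp⟩ a s (hgen _ hπ)
    have h4 : algebraMap A (Algebra.adjoin A {a'}) s * gen a' -
        algebraMap A (Algebra.adjoin A {a'}) a ∈ RingHom.ker ψ := by
      rw [← h𝔮, ← hQ, Ideal.mem_comap]; exact h3
    rw [RingHom.mem_ker] at h4
    have h4' : ψ (algebraMap A (Algebra.adjoin A {a'}) s * gen a' -
        algebraMap A (Algebra.adjoin A {a'}) a) =
        ψ (algebraMap A (Algebra.adjoin A {a'}) s) * ψ (gen a') -
          ψ (algebraMap A (Algebra.adjoin A {a'}) a) := by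
      rw [← map_mul]; exact map_sub ψ _ _
    rw [h4', sub_eq_zero] at h4
    have h5 : ψ (algebraMap A (Algebra.adjoin A {a'}) s) = ι (χ s) := RingHom.congr_fun hψ s
    have h6 : ψ (algebraMap A (Algebra.adjoin A {a'}) a) = ι (χ a) := RingHom.congr_fun hψ a
    rw [h5, h6] at h4
    have hιs : ι (χ s) ≠ 0 := (map_ne_zero_iff ι ι.injective).2 hχs
    rw [map_div₀, eq_div_iff hιs, mul_comm]
    exact h4
  obtain ⟨t, ht⟩ := descend_of_CL hA a' (Algebra.IsIntegral.isIntegral a') hinjA' CL
  -- conclusion
  have hex : ∀ x : PrimeSpectrum A, (Spec (CommRingCat.of A)).Γevaluation x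
      ((Scheme.ΓSpecIso (CommRingCat.of A)).inv t) = f x := by
    intro x
    haveI hxp : x.asIdeal.IsPrime := x.isPrime
    obtain ⟨Q, -, hQp, hQ⟩ := Ideal.exists_ideal_over_prime_of_isIntegral (S := A') x.asIdeal
      (⊥ : Ideal A') (by
        intro c hc
        have h0 : algebraMap A A' c = 0 := hc
        rw [hinjA' (h0.trans (map_zero _).symm)]; exact Ideal.zero_mem _)
    obtain ⟨x', rfl⟩ : ∃ x' : PrimeSpectrum A', π x' = x :=
      ⟨⟨Q, hQp⟩, PrimeSpectrum.ext hQ⟩
    show evA A (π x') t = f (π x')
    apply ((π).residueFieldMap x').hom.injective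
    have h7 := evA_map (algebraMap A A') x' t
    rw [ht, ha'def, evA_hom, hσ'] at h7
    exact h7.symm
  refine ⟨(Scheme.ΓSpecIso (CommRingCat.of A)).inv t, funext hex, ?_⟩
  intro b hb
  have h1 := Groth.Agent.Lib.PtFunSNH6.eq_zero_of_forall_evaluation
    (X := Spec (CommRingCat.of A)) (b - (Scheme.ΓSpecIso (CommRingCat.of A)).inv t)
    (fun x => by
      have h2 : (Spec (CommRingCat.of A)).Γevaluation x b = f x := congrFun hb x
      rw [map_sub, h2, sub_eq_zero]
      exact (hex x).symm)
  exact sub_eq_zero.1 h1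

end Main

end Groth.Agent.Lib.PtFunICH6
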