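import Mathlib
import Groth.Prelude.Def_W4c5quivmodgenus0Quiv

namespace Groth.Agent.Lib.PtQuiv1
open PtQuiv

theorem main (K : Type*) [Field K] (ι : Type*) [Fintype ι]
    (s : ι → (Fin 2 → K)) (hs : ∀ i, s i ≠ 0) (θ : ι → ℚ) (h0 : ∀ i, 0 ≤ θ i)
    (h2 : ∑ i, θ i = 2) :
    QSemistable (-1) θ s ↔
      ∀ (J : Finset ι) (v : Fin 2 → K), (∀ i ∈ J, s i ∈ K ∙ v) → ∑ i ∈ J, θ i ≤ 1 := by
  unfold QSemistable
  constructor
  · rintro ⟨_, h⟩ J v hJ
    have := h (K ∙ v) J hJ
    unfold QWt at this
    have hd : (Module.finrank K (K ∙ v) : ℚ) ≤ 1 := by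
      have : Module.finrank K (K ∙ v) ≤ 1 := by
        have := finrank_span_le_card (R := K) ({v} : Set (Fin 2 → K))
        simpa using this
      exact_mod_cast this
    linarith
  · intro h
    refine ⟨by rw [h2]; norm_num, ?_⟩
    intro L I hLI
    unfold QWt
    have hle2 : Module.finrank K L ≤ 2 := by
      have := Submodule.finrank_le L
      simpa using this
    have hsumI : ∑ i ∈ I, θ i ≤ 2 := by
      rw [← h2]
      exact Finset.sum_le_univ_sum_of_nonneg h0
    rcases Nat.lt_or_ge (Module.finrank K L) 1 with hd | hd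
    · have hd0 : Module.finrank K L = 0 := by omega
      have hL : L = ⊥ := Submodule.finrank_eq_zero.mp hd0
      have hI : I = ∅ := by
        apply Finset.eq_empty_of_forall_notMem
        intro i hi
        have := hLI i hi
        rw [hL, Submodule.mem_bot] at this
        exact hs i this
      rw [hI, hd0]; simp
    · rcases Nat.lt_or_ge (Module.finrank K L) 2 with hd' | hd'
      · have hd1 : Module.finrank K L = 1 := by omega
        obtain ⟨v, hv, hvL⟩ := finrank_eq_one_iff'.mp hd1
        have hJ : ∀ i ∈ I, s i ∈ K ∙ (v : Fin 2 → K) := by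
          intro i hi
          obtain ⟨c, hc⟩ := hvL ⟨s i, hLI i hi⟩
          rw [Submodule.mem_span_singleton]
          exact ⟨c, by simpa using congrArg Subtype.val hc⟩
        have := h I v hJ
        rw [hd1]; push_cast; linarith
      · have hd2 : Module.finrank K L = 2 := by omega
        rw [hd2]; push_cast; linarith

end Groth.Agent.Lib.PtQuiv1
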