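import Mathlib
import Groth.Prelude.Def_W4c5quivmodgenus0Quiv

namespace Groth.Agent.Lib.PtQuiv2
open PtQuiv

variable {K : Type*} [Field K]

theorem par_symm {u v : Fin 2 → K} (hu : u ≠ 0) (h : u ∈ K ∙ v) : v ∈ K ∙ u := by
  obtain ⟨c, hc⟩ := Submodule.mem_span_singleton.mp h
  have hc0 : c ≠ 0 := by
    rintro rfl
    rw [zero_smul] at hc
    exact hu hc.symm
  exact Submodule.mem_span_singleton.mpr
    ⟨c⁻¹, by rw [← hc, smul_smul, inv_mul_cancel₀ hc0, one_smul]⟩

theorem pair_of_finrank_one {L : Submodule K (Fin 2 → K)} (hd : Module.finrank K L = 1)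
    {u w : Fin 2 → K} (hu : u ∈ L) (hw : w ∈ L) (hw0 : w ≠ 0) : u ∈ K ∙ w := by
  obtain ⟨v, hv, hvL⟩ := finrank_eq_one_iff'.mp hd
  obtain ⟨a, ha⟩ := hvL ⟨u, hu⟩
  obtain ⟨b, hb⟩ := hvL ⟨w, hw⟩
  have ha' : a • (v : Fin 2 → K) = u := by simpa using congrArg Subtype.val ha
  have hb' : b • (v : Fin 2 → K) = w := by simpa using congrArg Subtype.val hb
  have hb0 : b ≠ 0 := by
    rintro rfl
    rw [zero_smul] at hb'
    exact hw0 hb'.symm
  refine Submodule.mem_span_singleton.mpr ⟨a / b, ?_⟩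
  rw [← hb', ← ha', smul_smul, div_mul_cancel₀ a hb0]

theorem mp_dir {ι : Type*} [Fintype ι] (s : ι → (Fin 2 → K)) (hs : ∀ i, s i ≠ 0)
    (θ : ι → ℚ) (h2 : ∑ i, θ i = 2) (hst : QStable (-1) θ s) :
    ∃ i j k : ι, s i ∉ K ∙ s j ∧ s j ∉ K ∙ s k ∧ s i ∉ K ∙ s k := by
  classical
  by_contra hno
  push_neg at hno
  obtain ⟨⟨_, hss⟩, hstab⟩ := hst
  have hne : Nonempty ι := by
    by_contra h
    rw [not_nonempty_iff] at h
    rw [Finset.univ_eq_empty, Finset.sum_empty] at h2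
    norm_num at h2
  obtain ⟨i₀⟩ := hne
  have hline : ∀ x : ι, (∑ y ∈ Finset.univ.filter (fun y => s y ∈ K ∙ s x), θ y) ≤ 1 := by
    intro x
    have := hss (K ∙ s x) (Finset.univ.filter (fun y => s y ∈ K ∙ s x))
      (fun y hy => (Finset.mem_filter.mp hy).2)
    unfold QWt at this
    rw [finrank_span_singleton (hs x)] at this
    push_cast at this
    linarith
  have h1 := hline i₀
  have hj : ∃ j₀, s j₀ ∉ K ∙ s i₀ := by
    by_contra hall
    push_neg at hall
    have : Finset.univ.filter (fun y => s y ∈ K ∙ s i₀) = Finset.univ :=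
      Finset.filter_true_of_mem fun y _ => hall y
    rw [this, h2] at h1
    norm_num at h1
  obtain ⟨j₀, hj₀⟩ := hj
  have h1' := hline j₀
  have hcover : ∀ k, s k ∈ K ∙ s i₀ ∨ s k ∈ K ∙ s j₀ := by
    intro k
    by_contra hk
    push_neg at hk
    obtain ⟨hk1, hk2⟩ := hk
    have h2' : s i₀ ∉ K ∙ s k := fun h => hk1 (par_symm (hs i₀) h)
    exact hk2 (par_symm (hs j₀) (hno j₀ i₀ k hj₀ h2'))
  have hdisj : Disjoint (Finset.univ.filter (fun y => s y ∈ K ∙ s i₀))
      (Finset.univ.filter (fun y => s y ∈ K ∙ s j₀)) := by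
    rw [Finset.disjoint_filter]
    intro x _ hx1 hx2
    have h3 : s j₀ ∈ K ∙ s x := par_symm (hs x) hx2
    have h4 : K ∙ s x ≤ K ∙ s i₀ := (Submodule.span_singleton_le_iff_mem _ _).mpr hx1
    exact hj₀ (h4 h3)
  have hunion : Finset.univ.filter (fun y => s y ∈ K ∙ s i₀) ∪
      Finset.univ.filter (fun y => s y ∈ K ∙ s j₀) = Finset.univ := by
    rw [← Finset.filter_or]
    exact Finset.filter_true_of_mem fun y _ => hcover y
  have hsum : ∑ y ∈ Finset.univ.filter (fun y => s y ∈ K ∙ s i₀), θ y +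
      ∑ y ∈ Finset.univ.filter (fun y => s y ∈ K ∙ s j₀), θ y = 2 := by
    rw [← Finset.sum_union hdisj, hunion, h2]
  have hone : ∑ y ∈ Finset.univ.filter (fun y => s y ∈ K ∙ s i₀), θ y = 1 := by linarith
  have hw0 : QWt K (-1) θ (K ∙ s i₀) (Finset.univ.filter (fun y => s y ∈ K ∙ s i₀)) = 0 := by
    unfold QWt
    rw [finrank_span_singleton (hs i₀), hone]
    norm_num
  rcases hstab (K ∙ s i₀) (Finset.univ.filter (fun y => s y ∈ K ∙ s i₀))
    (fun y hy => (Finset.mem_filter.mp hy).2) hw0 with ⟨hbot, _⟩ | ⟨_, huniv⟩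
  · have : s i₀ ∈ K ∙ s i₀ := Submodule.mem_span_singleton_self _
    rw [hbot, Submodule.mem_bot] at this
    exact hs i₀ this
  · have : j₀ ∈ Finset.univ.filter (fun y => s y ∈ K ∙ s i₀) := by
      rw [huniv]; exact Finset.mem_univ _
    exact hj₀ (Finset.mem_filter.mp this).2

section Converse

variable {ι : Type*} [Fintype ι] [DecidableEq ι]

/-- indicator weight -/
noncomputable def ind (a x : ι) : ℚ := if x = a then 7 / 12 else 0

theorem ind_nonneg (a x : ι) : 0 ≤ ind a x := by unfold ind; split_ifs <;> norm_num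

theorem sum_ind (I : Finset ι) (a : ι) :
    ∑ x ∈ I, ind a x = if a ∈ I then (7 / 12 : ℚ) else 0 := by
  unfold ind
  rw [Finset.sum_ite_eq']

/-- the weight -/
noncomputable def th (ε : ℚ) (i j k x : ι) : ℚ := ε + (ind i x + ind j x + ind k x)

theorem sum_th (ε : ℚ) (i j k : ι) (I : Finset ι) :
    ∑ x ∈ I, th ε i j k x = (I.card : ℚ) * ε +
      ((if i ∈ I then (7 / 12 : ℚ) else 0) + (if j ∈ I then (7 / 12 : ℚ) else 0) +
        (if k ∈ I then (7 / 12 : ℚ) else 0)) := by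
  unfold th
  rw [Finset.sum_add_distrib, Finset.sum_add_distrib, Finset.sum_add_distrib, sum_ind, sum_ind,
    sum_ind, Finset.sum_const, nsmul_eq_mul]

theorem mpr_dir (s : ι → (Fin 2 → K)) (hs : ∀ i, s i ≠ 0) (i j k : ι)
    (hij : s i ∉ K ∙ s j) (hjk : s j ∉ K ∙ s k) (hik : s i ∉ K ∙ s k) :
    ∃ θ : ι → ℚ, (∀ i, 0 ≤ θ i) ∧ (∀ i, θ i ≤ 1) ∧ ∑ i, θ i = 2 ∧ QStable (-1) θ s := by
  have hne_ij : i ≠ j := fun h => hij (by rw [h]; exact Submodule.mem_span_singleton_self _)
  have hne_jk : j ≠ k := fun h => hjk (by rw [h]; exact Submodule.mem_span_singleton_self _)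
  have hne_ik : i ≠ k := fun h => hik (by rw [h]; exact Submodule.mem_span_singleton_self _)
  have hNpos : (0 : ℚ) < (Fintype.card ι : ℚ) := by
    have : 0 < Fintype.card ι := Fintype.card_pos_iff.mpr ⟨i⟩
    exact_mod_cast this
  obtain ⟨ε, hεpos, hNε⟩ : ∃ ε : ℚ, 0 < ε ∧ (Fintype.card ι : ℚ) * ε = 1 / 4 :=
    ⟨1 / (4 * (Fintype.card ι : ℚ)), by positivity, by field_simp⟩
  have hεle : ε ≤ 1 / 4 := by
    have h1 : (1 : ℚ) ≤ (Fintype.card ι : ℚ) := by
      have : 1 ≤ Fintype.card ι := Fintype.card_pos_iff.mpr ⟨i⟩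
      exact_mod_cast this
    nlinarith
  have hθ0 : ∀ x, 0 ≤ th ε i j k x := fun x => by
    unfold th
    have := ind_nonneg i x; have := ind_nonneg j x; have := ind_nonneg k x
    linarith
  have hθpos : ∀ x, 0 < th ε i j k x := fun x => by
    unfold th
    have := ind_nonneg i x; have := ind_nonneg j x; have := ind_nonneg k x
    linarith
  have hθ1 : ∀ x, th ε i j k x ≤ 1 := fun x => by
    unfold th ind
    by_cases h1 : x = i <;> by_cases h2 : x = j <;> by_cases h3 : x = k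
    · exact absurd (h1.symm.trans h2) hne_ij
    · exact absurd (h1.symm.trans h2) hne_ij
    · exact absurd (h1.symm.trans h3) hne_ik
    · rw [if_pos h1, if_neg h2, if_neg h3]; linarith
    · exact absurd (h2.symm.trans h3) hne_jk
    · rw [if_neg h1, if_pos h2, if_neg h3]; linarith
    · rw [if_neg h1, if_neg h2, if_pos h3]; linarith
    · rw [if_neg h1, if_neg h2, if_neg h3]; linarith
  have hθsum : ∑ x, th ε i j k x = 2 := by
    rw [sum_th, Finset.card_univ, hNε]
    simp only [Finset.mem_univ, if_true]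
    norm_num
  have key : ∀ (L : Submodule K (Fin 2 → K)) (I : Finset ι), QSubrep s L I →
      QWt K (-1) (th ε i j k) L I ≤ 0 ∧ (QWt K (-1) (th ε i j k) L I = 0 →
        (L = ⊥ ∧ I = ∅) ∨ (L = ⊤ ∧ I = Finset.univ)) := by
    intro L I hLI
    unfold QWt
    have hle2 : Module.finrank K L ≤ 2 := by
      have := Submodule.finrank_le L
      simpa using this
    have hsumI : ∑ x ∈ I, th ε i j k x ≤ 2 := by
      rw [← hθsum]
      exact Finset.sum_le_univ_sum_of_nonneg hθ0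
    have hcases : Module.finrank K L = 0 ∨ Module.finrank K L = 1 ∨ Module.finrank K L = 2 := by
      omega
    rcases hcases with hd0 | hd1 | hd2
    · have hL : L = ⊥ := Submodule.finrank_eq_zero.mp hd0
      have hI : I = ∅ := by
        apply Finset.eq_empty_of_forall_notMem
        intro x hx
        have := hLI x hx
        rw [hL, Submodule.mem_bot] at this
        exact hs x this
      refine ⟨by rw [hI, hd0]; simp, fun _ => Or.inl ⟨hL, hI⟩⟩
    · have hpair : ∀ a b, a ∈ I → b ∈ I → s a ∈ K ∙ s b := fun a b ha hb =>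
        pair_of_finrank_one hd1 (hLI a ha) (hLI b hb) (hs b)
      have hij' : ¬ (i ∈ I ∧ j ∈ I) := fun h => hij (hpair i j h.1 h.2)
      have hjk' : ¬ (j ∈ I ∧ k ∈ I) := fun h => hjk (hpair j k h.1 h.2)
      have hik' : ¬ (i ∈ I ∧ k ∈ I) := fun h => hik (hpair i k h.1 h.2)
      have hbound : (if i ∈ I then (7 / 12 : ℚ) else 0) + (if j ∈ I then (7 / 12 : ℚ) else 0) +
          (if k ∈ I then (7 / 12 : ℚ) else 0) ≤ 7 / 12 := by
        by_cases hi : i ∈ I <;> by_cases hj : j ∈ I <;> by_cases hk : k ∈ I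
        · exact absurd ⟨hi, hj⟩ hij'
        · exact absurd ⟨hi, hj⟩ hij'
        · exact absurd ⟨hi, hk⟩ hik'
        · rw [if_pos hi, if_neg hj, if_neg hk]; norm_num
        · exact absurd ⟨hj, hk⟩ hjk'
        · rw [if_neg hi, if_pos hj, if_neg hk]; norm_num
        · rw [if_neg hi, if_neg hj, if_pos hk]; norm_num
        · rw [if_neg hi, if_neg hj, if_neg hk]; norm_num
      have hcard : (I.card : ℚ) * ε ≤ 1 / 4 := by
        rw [← hNε]
        have : (I.card : ℚ) ≤ (Fintype.card ι : ℚ) := by exact_mod_cast Finset.card_le_univ I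
        exact mul_le_mul_of_nonneg_right this hεpos.le
      have hlt : ∑ x ∈ I, th ε i j k x < 1 := by
        rw [sum_th]
        linarith
      rw [hd1]
      push_cast
      refine ⟨by linarith, fun h => ?_⟩
      linarith
    · have hL : L = ⊤ := Submodule.eq_top_of_finrank_eq (by rw [hd2, Module.finrank_fin_fun])
      rw [hd2]
      push_cast
      refine ⟨by linarith, fun h => Or.inr ⟨hL, ?_⟩⟩
      by_contra hI
      obtain ⟨x, hx⟩ : ∃ x, x ∉ I := by
        by_contra hall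
        push_neg at hall
        exact hI (Finset.eq_univ_iff_forall.mpr hall)
      have := Finset.sum_lt_sum_of_subset (f := th ε i j k) (Finset.subset_univ I)
        (Finset.mem_univ x) hx (hθpos x) (fun y _ _ => hθ0 y)
      rw [hθsum] at this
      linarith
  refine ⟨th ε i j k, hθ0, hθ1, hθsum, ⟨⟨by rw [hθsum]; norm_num, fun L I h => (key L I h).1⟩,
    fun L I h => (key L I h).2⟩⟩

end Converse

theorem main61 (K : Type*) [Field K] (ι : Type*) [Fintype ι] (s : ι → (Fin 2 → K))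
    (hs : ∀ i, s i ≠ 0) :
    (∃ θ : ι → ℚ, (∀ i, 0 ≤ θ i) ∧ (∀ i, θ i ≤ 1) ∧ ∑ i, θ i = 2 ∧ PtQuiv.QStable (-1) θ s) ↔
      ∃ i j k : ι, s i ∉ K ∙ s j ∧ s j ∉ K ∙ s k ∧ s i ∉ K ∙ s k := by
  classical
  constructor
  · rintro ⟨θ, _, _, h2, hst⟩
    exact mp_dir s hs θ h2 hst
  · rintro ⟨i, j, k, hij, hjk, hik⟩
    exact mpr_dir s hs i j k hij hjk hik

end Groth.Agent.Lib.PtQuiv2
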