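import Mathlib
import Groth.Prelude

set_option autoImplicit false
set_option linter.style.haveILetI false
set_option linter.unusedVariables false

universe u v

open PtQuiv Module

namespace Groth.Agent.Lib.PtQuivH4

section Basic

variable {K : Type u} [Field K]

theorem finrank_line (U : Submodule K K) [Decidable (U = ⊤)] :
    (finrank K U : ℚ) = if U = ⊤ then 1 else 0 := by
  rcases Ideal.eq_bot_or_top U with h | h
  · have hne : ¬ U = ⊤ := by rw [h]; exact bot_ne_top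
    rw [if_neg hne, h, finrank_bot, Nat.cast_zero]
  · rw [if_pos h, h, finrank_top, Module.finrank_self, Nat.cast_one]

theorem ite_line (U : Submodule K K) [Decidable (U = ⊤)] (x : ℚ) :
    (if U = ⊤ then x else 0) = (finrank K U : ℚ) * x := by
  rw [finrank_line U]
  split_ifs
  · rw [one_mul]
  · rw [zero_mul]

theorem li_pair {x y : Fin 2 → K} (h : LinearIndependent K ![x, y]) :
    ∀ c d : K, c • x + d • y = 0 → c = 0 ∧ d = 0 := LinearIndependent.pair_iff.mp h

theorem span_pair {x y : Fin 2 → K} (h : LinearIndependent K ![x, y]) (w : Fin 2 → K) :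
    ∃ c d : K, w = c • x + d • y := by
  have hcard : Fintype.card (Fin 2) = finrank K (Fin 2 → K) := by
    rw [Fintype.card_fin, Module.finrank_fin_fun]
  have hspan : Submodule.span K (Set.range ![x, y]) = ⊤ :=
    h.span_eq_top_of_card_eq_finrank' hcard
  have hw : w ∈ Submodule.span K (Set.range ![x, y]) := by rw [hspan]; exact Submodule.mem_top
  obtain ⟨c, hc⟩ := (Submodule.mem_span_range_iff_exists_fun K).mp hw
  refine ⟨c 0, c 1, ?_⟩
  rw [← hc, Fin.sum_univ_two]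
  rfl

theorem one_le_finrank (L : Submodule K (Fin 2 → K)) {w : Fin 2 → K} (hw : w ≠ 0)
    (hmem : w ∈ L) : (1 : ℚ) ≤ (finrank K L : ℚ) := by
  have h1 : finrank K (Submodule.span K {w}) = 1 := finrank_span_singleton hw
  have h2 : Submodule.span K {w} ≤ L := (Submodule.span_singleton_le_iff_mem w L).mpr hmem
  have h3 := Submodule.finrank_mono h2
  rw [h1] at h3
  exact_mod_cast h3

theorem mul_nonpos' {c X : ℚ} (hc : 0 < c) (hX : X ≤ 0) : c * X ≤ 0 :=
  mul_nonpos_of_nonneg_of_nonpos hc.le hX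

theorem P_ineq_of {c X : ℚ} (hc : 0 < c) (h : c * X ≤ 0) : X ≤ 0 := by
  by_contra hcon
  push_neg at hcon
  have := mul_pos hc hcon
  linarith

end Basic

section Main

variable {K : Type u} [Field K] {κ : Type v} [Fintype κ] [DecidableEq κ] (a b : κ)
  (s : κ → (Fin 2 → K)) (θ : κ → ℚ)

theorem sum_split (hab : a ≠ b) (f : κ → ℚ) (I : Finset κ) :
    ∑ i ∈ I, f i = ∑ i ∈ I.subtype (fun i => i ≠ a ∧ i ≠ b), f i.1 +
      (if a ∈ I then f a else 0) + (if b ∈ I then f b else 0) := by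
  have h3 := Finset.sum_filter_add_sum_filter_not I (fun i => i ≠ a ∧ i ≠ b) f
  have h4 : I.filter (fun i => ¬ (i ≠ a ∧ i ≠ b)) =
      ({a, b} : Finset κ).filter (fun i => i ∈ I) := by
    ext i
    simp only [Finset.mem_filter, Finset.mem_insert, Finset.mem_singleton]
    constructor
    · rintro ⟨hi, hn⟩
      refine ⟨?_, hi⟩
      by_contra hne
      push_neg at hne
      exact hn ⟨hne.1, hne.2⟩
    · rintro ⟨hi | hi, hI⟩
      · exact ⟨hI, fun h => h.1 hi⟩
      · exact ⟨hI, fun h => h.2 hi⟩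
  have h5 : ∑ i ∈ I.subtype (fun i => i ≠ a ∧ i ≠ b), f i.1 =
      ∑ i ∈ I.filter (fun i => i ≠ a ∧ i ≠ b), f i := Finset.sum_subtype_eq_sum_filter f
  have h6 : ∑ x ∈ ({a, b} : Finset κ).filter (fun i => i ∈ I), f x =
      (if a ∈ I then f a else 0) + (if b ∈ I then f b else 0) := by
    rw [Finset.sum_filter, Finset.sum_pair hab]
  rw [h4, h6] at h3
  linarith

theorem sum_total (hab : a ≠ b) (f : κ → ℚ) :
    ∑ i : {i : κ // i ≠ a ∧ i ≠ b}, f i.1 = ∑ i, f i - f a - f b := by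
  have h := sum_split a b hab f Finset.univ
  rw [if_pos (Finset.mem_univ a), if_pos (Finset.mem_univ b)] at h
  have h' : (Finset.univ : Finset κ).subtype (fun i => i ≠ a ∧ i ≠ b) = Finset.univ := by
    ext i
    simp only [Finset.mem_subtype, Finset.mem_univ]
  rw [h'] at h
  linarith

theorem sub_sum_le (hab : a ≠ b) (h0 : ∀ i, 0 ≤ θ i) (h2 : ∑ i, θ i = 2)
    (J : Finset {i : κ // i ≠ a ∧ i ≠ b}) : ∑ i ∈ J, θ i.1 ≤ 2 - θ a - θ b := by
  have h := sum_total a b hab θ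
  rw [h2] at h
  rw [← h]
  exact Finset.sum_le_sum_of_subset_of_nonneg (Finset.subset_univ J) (fun i _ _ => h0 i.1)

theorem PWt_eq (c x y : ℚ) (U : Fin 2 → Submodule K K)
    (I : Finset {i : κ // i ≠ a ∧ i ≠ b}) :
    PWt K ![c * x, c * y] (fun i : {i : κ // i ≠ a ∧ i ≠ b} => c * θ i.1) U I =
      c * (x * (finrank K (U 0) : ℚ) + y * (finrank K (U 1) : ℚ) + ∑ i ∈ I, θ i.1) := by
  have hs : ∑ i ∈ I, (fun i : {i : κ // i ≠ a ∧ i ≠ b} => c * θ i.1) i =
      c * ∑ i ∈ I, θ i.1 := (Finset.mul_sum I (fun i => θ i.1) c).symm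
  show ∑ j, ![c * x, c * y] j * (finrank K (U j) : ℚ) +
    ∑ i ∈ I, (fun i : {i : κ // i ≠ a ∧ i ≠ b} => c * θ i.1) i = _
  rw [hs, Fin.sum_univ_two]
  show (c * x) * (finrank K (U 0) : ℚ) + (c * y) * (finrank K (U 1) : ℚ) +
    c * ∑ i ∈ I, θ i.1 = _
  ring

theorem total_zero (hab : a ≠ b) (h2 : ∑ i, θ i = 2) (c : ℚ) :
    (∑ j, ![c * (θ a - 1), c * (θ b - 1)] j) +
      ∑ i : {i : κ // i ≠ a ∧ i ≠ b},
        (fun i : {i : κ // i ≠ a ∧ i ≠ b} => c * θ i.1) i = 0 := by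
  have hs : ∑ i : {i : κ // i ≠ a ∧ i ≠ b},
      (fun i : {i : κ // i ≠ a ∧ i ≠ b} => c * θ i.1) i =
      c * ∑ i : {i : κ // i ≠ a ∧ i ≠ b}, θ i.1 :=
    (Finset.mul_sum Finset.univ (fun i : {i : κ // i ≠ a ∧ i ≠ b} => θ i.1) c).symm
  rw [hs, sum_total a b hab θ, h2, Fin.sum_univ_two]
  show c * (θ a - 1) + c * (θ b - 1) + c * (2 - θ a - θ b) = 0
  ring

theorem li_of_semistable (hab : a ≠ b) (hθ : 1 < θ a + θ b)
    (hQ : ∀ (L : Submodule K (Fin 2 → K)) (I : Finset κ), QSubrep s L I →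
      QWt K (-1) θ L I ≤ 0) : LinearIndependent K ![s a, s b] := by
  rw [linearIndependent_iff_card_eq_finrank_span, Fintype.card_fin]
  have hsub : QSubrep s (Submodule.span K (Set.range ![s a, s b])) {a, b} := by
    intro i hi
    rw [Finset.mem_insert, Finset.mem_singleton] at hi
    rcases hi with h | h
    · rw [h]; exact Submodule.subset_span ⟨0, rfl⟩
    · rw [h]; exact Submodule.subset_span ⟨1, rfl⟩
  have h1 := hQ _ _ hsub
  unfold QWt at h1
  rw [Finset.sum_pair hab] at h1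
  have h2 : (1 : ℚ) < (finrank K (Submodule.span K (Set.range ![s a, s b])) : ℚ) := by
    linarith
  have h3 : 1 < finrank K (Submodule.span K (Set.range ![s a, s b])) := by exact_mod_cast h2
  have h4 : (Set.range ![s a, s b]).finrank K ≤ Fintype.card (Fin 2) :=
    finrank_range_le_card _
  rw [Fintype.card_fin] at h4
  have h5 : (Set.range ![s a, s b]).finrank K =
      finrank K (Submodule.span K (Set.range ![s a, s b])) := rfl
  omega

/-! ### From `P`-subrepresentations to `Q`-subrepresentations -/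

/-- The subspace of the plane attached to a pair of subspaces of the line. -/
noncomputable def Lup (U : Fin 2 → Submodule K K) : Submodule K (Fin 2 → K) :=
  (U 0).map (LinearMap.toSpanSingleton K (Fin 2 → K) (s a)) ⊔
    (U 1).map (LinearMap.toSpanSingleton K (Fin 2 → K) (s b))

theorem mem_Lup (U : Fin 2 → Submodule K K) {x y : K} (hx : x ∈ U 0) (hy : y ∈ U 1) :
    x • s a + y • s b ∈ Lup a b s U :=
  add_mem (Submodule.mem_sup_left (Submodule.mem_map.mpr ⟨x, hx, rfl⟩))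
    (Submodule.mem_sup_right (Submodule.mem_map.mpr ⟨y, hy, rfl⟩))

theorem finrank_Lup_le (U : Fin 2 → Submodule K K) :
    finrank K (Lup a b s U) ≤ finrank K (U 0) + finrank K (U 1) := by
  unfold Lup
  refine (Submodule.finrank_add_le_finrank_add_finrank _ _).trans ?_
  exact Nat.add_le_add (Submodule.finrank_map_le _ _) (Submodule.finrank_map_le _ _)

open Classical in
/-- The index set attached to a `P`-subrepresentation. -/
noncomputable def Iup (U : Fin 2 → Submodule K K) (I : Finset {i : κ // i ≠ a ∧ i ≠ b}) :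
    Finset κ :=
  Finset.univ.filter (fun i =>
    (∃ h : i ≠ a ∧ i ≠ b, (⟨i, h⟩ : {i : κ // i ≠ a ∧ i ≠ b}) ∈ I) ∨
      (i = a ∧ U 0 = ⊤) ∨ (i = b ∧ U 1 = ⊤))

theorem mem_Iup (U : Fin 2 → Submodule K K) (I : Finset {i : κ // i ≠ a ∧ i ≠ b}) (i : κ) :
    i ∈ Iup a b U I ↔
      ((∃ h : i ≠ a ∧ i ≠ b, (⟨i, h⟩ : {i : κ // i ≠ a ∧ i ≠ b}) ∈ I) ∨
        (i = a ∧ U 0 = ⊤) ∨ (i = b ∧ U 1 = ⊤)) := by
  unfold Iup
  rw [Finset.mem_filter]
  exact ⟨fun h => h.2, fun h => ⟨Finset.mem_univ i, h⟩⟩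

theorem Iup_subtype (U : Fin 2 → Submodule K K) (I : Finset {i : κ // i ≠ a ∧ i ≠ b}) :
    (Iup a b U I).subtype (fun i => i ≠ a ∧ i ≠ b) = I := by
  ext j
  rw [Finset.mem_subtype, mem_Iup]
  constructor
  · rintro (⟨h, hj⟩ | ⟨h, _⟩ | ⟨h, _⟩)
    · exact hj
    · exact absurd h j.2.1
    · exact absurd h j.2.2
  · intro hj
    exact Or.inl ⟨j.2, hj⟩

theorem a_mem_Iup (hab : a ≠ b) (U : Fin 2 → Submodule K K)
    (I : Finset {i : κ // i ≠ a ∧ i ≠ b}) : a ∈ Iup a b U I ↔ U 0 = ⊤ := by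
  rw [mem_Iup]
  constructor
  · rintro (⟨h, _⟩ | ⟨_, h⟩ | ⟨h, _⟩)
    · exact absurd rfl h.1
    · exact h
    · exact absurd h hab
  · intro h; exact Or.inr (Or.inl ⟨rfl, h⟩)

theorem b_mem_Iup (hab : a ≠ b) (U : Fin 2 → Submodule K K)
    (I : Finset {i : κ // i ≠ a ∧ i ≠ b}) : b ∈ Iup a b U I ↔ U 1 = ⊤ := by
  rw [mem_Iup]
  constructor
  · rintro (⟨h, _⟩ | ⟨h, _⟩ | ⟨_, h⟩)
    · exact absurd rfl h.2
    · exact absurd h.symm hab
    · exact h
  · intro h; exact Or.inr (Or.inr ⟨rfl, h⟩)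

theorem sum_Iup (hab : a ≠ b) (U : Fin 2 → Submodule K K)
    (I : Finset {i : κ // i ≠ a ∧ i ≠ b}) :
    ∑ i ∈ Iup a b U I, θ i = ∑ i ∈ I, θ i.1 + (finrank K (U 0) : ℚ) * θ a +
      (finrank K (U 1) : ℚ) * θ b := by
  classical
  have h := sum_split a b hab θ (Iup a b U I)
  rw [Iup_subtype] at h
  have ha : (if a ∈ Iup a b U I then θ a else 0) = (finrank K (U 0) : ℚ) * θ a :=
    (if_congr (a_mem_Iup a b hab U I) rfl rfl).trans (ite_line (U 0) (θ a))
  have hb : (if b ∈ Iup a b U I then θ b else 0) = (finrank K (U 1) : ℚ) * θ b :=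
    (if_congr (b_mem_Iup a b hab U I) rfl rfl).trans (ite_line (U 1) (θ b))
  rw [ha, hb] at h
  exact h

theorem qsubrep_up (t : {i : κ // i ≠ a ∧ i ≠ b} → (Fin 2 → K))
    (ht : ∀ i, s i.1 = t i 0 • s a + t i 1 • s b) (U : Fin 2 → Submodule K K)
    (I : Finset {i : κ // i ≠ a ∧ i ≠ b}) (hUI : PSubrep t U I) :
    QSubrep s (Lup a b s U) (Iup a b U I) := by
  intro i hi
  rw [mem_Iup] at hi
  rcases hi with ⟨h, hj⟩ | ⟨hia, hU⟩ | ⟨hib, hU⟩
  · have e : s i = t ⟨i, h⟩ 0 • s a + t ⟨i, h⟩ 1 • s b := ht ⟨i, h⟩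
    rw [e]
    exact mem_Lup a b s U (hUI ⟨i, h⟩ hj 0) (hUI ⟨i, h⟩ hj 1)
  · rw [hia]
    have h1 : (1 : K) ∈ U 0 := by rw [hU]; exact Submodule.mem_top
    have h2 := mem_Lup a b s U h1 (zero_mem (U 1))
    rw [one_smul, zero_smul, add_zero] at h2
    exact h2
  · rw [hib]
    have h1 : (1 : K) ∈ U 1 := by rw [hU]; exact Submodule.mem_top
    have h2 := mem_Lup a b s U (zero_mem (U 0)) h1
    rw [zero_smul, one_smul, zero_add] at h2
    exact h2

theorem fwd_ineq (hab : a ≠ b)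
    (hQ : ∀ (L : Submodule K (Fin 2 → K)) (I : Finset κ), QSubrep s L I →
      QWt K (-1) θ L I ≤ 0)
    (t : {i : κ // i ≠ a ∧ i ≠ b} → (Fin 2 → K))
    (ht : ∀ i, s i.1 = t i 0 • s a + t i 1 • s b) (U : Fin 2 → Submodule K K)
    (I : Finset {i : κ // i ≠ a ∧ i ≠ b}) (hUI : PSubrep t U I) :
    (θ a - 1) * (finrank K (U 0) : ℚ) + (θ b - 1) * (finrank K (U 1) : ℚ) +
      ∑ i ∈ I, θ i.1 ≤ 0 := by
  have h1 := hQ _ _ (qsubrep_up a b s t ht U I hUI)
  unfold QWt at h1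
  rw [sum_Iup a b θ hab U I] at h1
  have h2 : (finrank K (Lup a b s U) : ℚ) ≤
      (finrank K (U 0) : ℚ) + (finrank K (U 1) : ℚ) := by
    exact_mod_cast finrank_Lup_le a b s U
  linarith

theorem fwd_zero (hab : a ≠ b)
    (hQ : ∀ (L : Submodule K (Fin 2 → K)) (I : Finset κ), QSubrep s L I →
      QWt K (-1) θ L I ≤ 0)
    (hQ0 : ∀ (L : Submodule K (Fin 2 → K)) (I : Finset κ), QSubrep s L I →
      QWt K (-1) θ L I = 0 → (L = ⊥ ∧ I = ∅) ∨ (L = ⊤ ∧ I = Finset.univ))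
    (t : {i : κ // i ≠ a ∧ i ≠ b} → (Fin 2 → K))
    (ht : ∀ i, s i.1 = t i 0 • s a + t i 1 • s b) (U : Fin 2 → Submodule K K)
    (I : Finset {i : κ // i ≠ a ∧ i ≠ b}) (hUI : PSubrep t U I)
    (hzero : (θ a - 1) * (finrank K (U 0) : ℚ) + (θ b - 1) * (finrank K (U 1) : ℚ) +
      ∑ i ∈ I, θ i.1 = 0) :
    (U = ⊥ ∧ I = ∅) ∨ (U = ⊤ ∧ I = Finset.univ) := by
  have hsub := qsubrep_up a b s t ht U I hUI
  have h1 := hQ _ _ hsub
  have h2 : (finrank K (Lup a b s U) : ℚ) ≤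
      (finrank K (U 0) : ℚ) + (finrank K (U 1) : ℚ) := by
    exact_mod_cast finrank_Lup_le a b s U
  have h3 : QWt K (-1) θ (Lup a b s U) (Iup a b U I) = 0 := by
    unfold QWt at h1 ⊢
    rw [sum_Iup a b θ hab U I] at h1 ⊢
    linarith
  have e := Iup_subtype a b U I
  rcases hQ0 _ _ hsub h3 with ⟨_, hI⟩ | ⟨_, hI⟩
  · left
    have hI' : I = ∅ := by
      rw [hI] at e
      rw [← e]
      ext j
      simp only [Finset.mem_subtype, Finset.notMem_empty]
    have hU0 : U 0 = ⊥ := by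
      rcases Ideal.eq_bot_or_top (U 0) with h | h
      · exact h
      · exfalso
        have hm := (a_mem_Iup a b hab U I).mpr h
        rw [hI] at hm
        exact absurd hm (Finset.notMem_empty a)
    have hU1 : U 1 = ⊥ := by
      rcases Ideal.eq_bot_or_top (U 1) with h | h
      · exact h
      · exfalso
        have hm := (b_mem_Iup a b hab U I).mpr h
        rw [hI] at hm
        exact absurd hm (Finset.notMem_empty b)
    refine ⟨?_, hI'⟩
    funext j
    exact (Fin.forall_fin_two (p := fun j => U j = ⊥)).mpr ⟨hU0, hU1⟩ j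
  · right
    have hU0 : U 0 = ⊤ :=
      (a_mem_Iup a b hab U I).mp (by rw [hI]; exact Finset.mem_univ a)
    have hU1 : U 1 = ⊤ :=
      (b_mem_Iup a b hab U I).mp (by rw [hI]; exact Finset.mem_univ b)
    have hI' : I = Finset.univ := by
      rw [hI] at e
      rw [← e]
      ext j
      simp only [Finset.mem_subtype, Finset.mem_univ]
    refine ⟨?_, hI'⟩
    funext j
    exact (Fin.forall_fin_two (p := fun j => U j = ⊤)).mpr ⟨hU0, hU1⟩ j

/-! ### From `Q`-subrepresentations to `P`-subrepresentations -/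

open Classical in
/-- The pair of subspaces of the line attached to a subspace of the plane. -/
noncomputable def Udn (L : Submodule K (Fin 2 → K)) : Fin 2 → Submodule K K :=
  ![if s a ∈ L then ⊤ else ⊥, if s b ∈ L then ⊤ else ⊥]

open Classical in
theorem Udn_zero_of_mem (L : Submodule K (Fin 2 → K)) (h : s a ∈ L) :
    Udn a b s L 0 = ⊤ := by
  show (if s a ∈ L then (⊤ : Submodule K K) else ⊥) = ⊤
  exact if_pos h

open Classical in
theorem Udn_zero_of_not_mem (L : Submodule K (Fin 2 → K)) (h : s a ∉ L) :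
    Udn a b s L 0 = ⊥ := by
  show (if s a ∈ L then (⊤ : Submodule K K) else ⊥) = ⊥
  exact if_neg h

open Classical in
theorem Udn_one_of_mem (L : Submodule K (Fin 2 → K)) (h : s b ∈ L) :
    Udn a b s L 1 = ⊤ := by
  show (if s b ∈ L then (⊤ : Submodule K K) else ⊥) = ⊤
  exact if_pos h

open Classical in
theorem Udn_one_of_not_mem (L : Submodule K (Fin 2 → K)) (h : s b ∉ L) :
    Udn a b s L 1 = ⊥ := by
  show (if s b ∈ L then (⊤ : Submodule K K) else ⊥) = ⊥
  exact if_neg h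

theorem d0_cases (L : Submodule K (Fin 2 → K)) :
    (s a ∈ L ∧ (finrank K (Udn a b s L 0) : ℚ) = 1) ∨
      (s a ∉ L ∧ (finrank K (Udn a b s L 0) : ℚ) = 0) := by
  by_cases h : s a ∈ L
  · left
    refine ⟨h, ?_⟩
    rw [Udn_zero_of_mem a b s L h, finrank_top, Module.finrank_self, Nat.cast_one]
  · right
    refine ⟨h, ?_⟩
    rw [Udn_zero_of_not_mem a b s L h, finrank_bot, Nat.cast_zero]

theorem d1_cases (L : Submodule K (Fin 2 → K)) :
    (s b ∈ L ∧ (finrank K (Udn a b s L 1) : ℚ) = 1) ∨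
      (s b ∉ L ∧ (finrank K (Udn a b s L 1) : ℚ) = 0) := by
  by_cases h : s b ∈ L
  · left
    refine ⟨h, ?_⟩
    rw [Udn_one_of_mem a b s L h, finrank_top, Module.finrank_self, Nat.cast_one]
  · right
    refine ⟨h, ?_⟩
    rw [Udn_one_of_not_mem a b s L h, finrank_bot, Nat.cast_zero]

theorem L_top (hspan : ∀ w : Fin 2 → K, ∃ x y : K, w = x • s a + y • s b)
    (L : Submodule K (Fin 2 → K)) (ha : s a ∈ L) (hb : s b ∈ L) : L = ⊤ := by
  rw [eq_top_iff]
  intro w _
  obtain ⟨x, y, hxy⟩ := hspan w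
  rw [hxy]
  exact L.add_mem (L.smul_mem x ha) (L.smul_mem y hb)

theorem finrank_ge (hLI' : ∀ x y : K, x • s a + y • s b = 0 → x = 0 ∧ y = 0)
    (hspan : ∀ w : Fin 2 → K, ∃ x y : K, w = x • s a + y • s b)
    (L : Submodule K (Fin 2 → K)) :
    (finrank K (Udn a b s L 0) : ℚ) + (finrank K (Udn a b s L 1) : ℚ) ≤
      (finrank K L : ℚ) := by
  have hsa : s a ≠ 0 := fun h => by
    have h1 := (hLI' 1 0 (by rw [h, smul_zero, zero_smul, add_zero])).1
    exact one_ne_zero h1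
  have hsb : s b ≠ 0 := fun h => by
    have h1 := (hLI' 0 1 (by rw [h, smul_zero, zero_smul, zero_add])).2
    exact one_ne_zero h1
  rcases d0_cases a b s L with ⟨ha, h0⟩ | ⟨ha, h0⟩ <;>
    rcases d1_cases a b s L with ⟨hb, h1⟩ | ⟨hb, h1⟩
  · have hL := L_top a b s hspan L ha hb
    rw [h0, h1, hL, finrank_top, Module.finrank_fin_fun]
    norm_num
  · rw [h0, h1, add_zero]
    exact one_le_finrank L hsa ha
  · rw [h0, h1, zero_add]
    exact one_le_finrank L hsb hb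
  · rw [h0, h1, add_zero]
    exact Nat.cast_nonneg _

theorem psub_dn (hLI' : ∀ x y : K, x • s a + y • s b = 0 → x = 0 ∧ y = 0)
    (t : {i : κ // i ≠ a ∧ i ≠ b} → (Fin 2 → K))
    (ht : ∀ i, s i.1 = t i 0 • s a + t i 1 • s b)
    (L : Submodule K (Fin 2 → K)) (I : Finset κ) (hsub : QSubrep s L I)
    (hcase : s a ∈ L ∨ s b ∈ L ∨ L = ⊥) :
    PSubrep t (Udn a b s L) (I.subtype (fun i => i ≠ a ∧ i ≠ b)) := by
  intro i hi
  rw [Finset.mem_subtype] at hi
  have hsi : t i 0 • s a + t i 1 • s b ∈ L := by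
    rw [← ht i]; exact hsub i.1 hi
  have h0 : t i 0 ∈ Udn a b s L 0 := by
    by_cases ha : s a ∈ L
    · rw [Udn_zero_of_mem a b s L ha]; exact Submodule.mem_top
    · rw [Udn_zero_of_not_mem a b s L ha]
      have h0' : t i 0 = 0 := by
        rcases hcase with h | h | h
        · exact absurd h ha
        · have h1 : t i 0 • s a ∈ L :=
            (Submodule.add_mem_iff_left L (L.smul_mem _ h)).mp hsi
          by_contra hne
          exact ha ((Submodule.smul_mem_iff L hne).mp h1)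
        · rw [h, Submodule.mem_bot] at hsi
          exact (hLI' _ _ hsi).1
      rw [h0']; exact zero_mem _
  have h1 : t i 1 ∈ Udn a b s L 1 := by
    by_cases hb : s b ∈ L
    · rw [Udn_one_of_mem a b s L hb]; exact Submodule.mem_top
    · rw [Udn_one_of_not_mem a b s L hb]
      have h0' : t i 1 = 0 := by
        rcases hcase with h | h | h
        · have h1 : t i 1 • s b ∈ L :=
            (Submodule.add_mem_iff_right L (L.smul_mem _ h)).mp hsi
          by_contra hne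
          exact hb ((Submodule.smul_mem_iff L hne).mp h1)
        · exact absurd h hb
        · rw [h, Submodule.mem_bot] at hsi
          exact (hLI' _ _ hsi).2
      rw [h0']; exact zero_mem _
  intro j
  exact (Fin.forall_fin_two (p := fun j => t i j ∈ Udn a b s L j)).mpr ⟨h0, h1⟩ j

theorem A_le (h0 : ∀ i, 0 ≤ θ i) (L : Submodule K (Fin 2 → K)) (I : Finset κ)
    (hsub : QSubrep s L I) :
    (if a ∈ I then θ a else 0) ≤ (finrank K (Udn a b s L 0) : ℚ) * θ a := by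
  rcases d0_cases a b s L with ⟨ha, hd⟩ | ⟨ha, hd⟩
  · rw [hd, one_mul]
    split_ifs
    · exact le_refl _
    · exact h0 a
  · rw [hd, zero_mul, if_neg (fun h => ha (hsub a h))]

theorem B_le (h0 : ∀ i, 0 ≤ θ i) (L : Submodule K (Fin 2 → K)) (I : Finset κ)
    (hsub : QSubrep s L I) :
    (if b ∈ I then θ b else 0) ≤ (finrank K (Udn a b s L 1) : ℚ) * θ b := by
  rcases d1_cases a b s L with ⟨hb, hd⟩ | ⟨hb, hd⟩
  · rw [hd, one_mul]
    split_ifs
    · exact le_refl _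
    · exact h0 b
  · rw [hd, zero_mul, if_neg (fun h => hb (hsub b h))]

theorem bwd_ineq (hab : a ≠ b) (h0 : ∀ i, 0 ≤ θ i) (h2 : ∑ i, θ i = 2)
    (hθ : 1 < θ a + θ b)
    (hLI' : ∀ x y : K, x • s a + y • s b = 0 → x = 0 ∧ y = 0)
    (hspan : ∀ w : Fin 2 → K, ∃ x y : K, w = x • s a + y • s b)
    (t : {i : κ // i ≠ a ∧ i ≠ b} → (Fin 2 → K))
    (ht : ∀ i, s i.1 = t i 0 • s a + t i 1 • s b)
    (hP : ∀ (U : Fin 2 → Submodule K K) (I : Finset {i : κ // i ≠ a ∧ i ≠ b}),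
      PSubrep t U I →
      (θ a - 1) * (finrank K (U 0) : ℚ) + (θ b - 1) * (finrank K (U 1) : ℚ) +
        ∑ i ∈ I, θ i.1 ≤ 0)
    (L : Submodule K (Fin 2 → K)) (I : Finset κ) (hsub : QSubrep s L I) :
    QWt K (-1) θ L I ≤ 0 := by
  have hsplit := sum_split a b hab θ I
  unfold QWt
  by_cases hcase : s a ∈ L ∨ s b ∈ L ∨ L = ⊥
  · have hp := hP _ _ (psub_dn a b s hLI' t ht L I hsub hcase)
    have hA := A_le a b s θ h0 L I hsub
    have hB := B_le a b s θ h0 L I hsub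
    have hfin := finrank_ge a b s hLI' hspan L
    linarith
  · push_neg at hcase
    obtain ⟨ha, hb, hL⟩ := hcase
    rw [if_neg (fun h => ha (hsub a h)), if_neg (fun h => hb (hsub b h))] at hsplit
    have h3 := sub_sum_le a b θ hab h0 h2 (I.subtype (fun i => i ≠ a ∧ i ≠ b))
    obtain ⟨w, hwL, hw0⟩ := Submodule.exists_mem_ne_zero_of_ne_bot hL
    have h4 := one_le_finrank L hw0 hwL
    linarith

theorem bwd_zero (hab : a ≠ b) (h0 : ∀ i, 0 ≤ θ i) (h1 : ∀ i, θ i ≤ 1)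
    (h2 : ∑ i, θ i = 2) (hθ : 1 < θ a + θ b)
    (hLI' : ∀ x y : K, x • s a + y • s b = 0 → x = 0 ∧ y = 0)
    (hspan : ∀ w : Fin 2 → K, ∃ x y : K, w = x • s a + y • s b)
    (t : {i : κ // i ≠ a ∧ i ≠ b} → (Fin 2 → K))
    (ht : ∀ i, s i.1 = t i 0 • s a + t i 1 • s b)
    (hP : ∀ (U : Fin 2 → Submodule K K) (I : Finset {i : κ // i ≠ a ∧ i ≠ b}),
      PSubrep t U I →
      (θ a - 1) * (finrank K (U 0) : ℚ) + (θ b - 1) * (finrank K (U 1) : ℚ) +
        ∑ i ∈ I, θ i.1 ≤ 0)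
    (hP0 : ∀ (U : Fin 2 → Submodule K K) (I : Finset {i : κ // i ≠ a ∧ i ≠ b}),
      PSubrep t U I →
      (θ a - 1) * (finrank K (U 0) : ℚ) + (θ b - 1) * (finrank K (U 1) : ℚ) +
        ∑ i ∈ I, θ i.1 = 0 → (U = ⊥ ∧ I = ∅) ∨ (U = ⊤ ∧ I = Finset.univ))
    (L : Submodule K (Fin 2 → K)) (I : Finset κ) (hsub : QSubrep s L I)
    (hz : QWt K (-1) θ L I = 0) :
    (L = ⊥ ∧ I = ∅) ∨ (L = ⊤ ∧ I = Finset.univ) := by
  have hpa : 0 < θ a := by linarith [h1 b]
  have hpb : 0 < θ b := by linarith [h1 a]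
  have hsplit := sum_split a b hab θ I
  unfold QWt at hz
  have hor : ∀ i : κ, ¬ (i ≠ a ∧ i ≠ b) → i = a ∨ i = b := by
    intro i hi
    by_contra hne
    push_neg at hne
    exact hi hne
  by_cases hcase : s a ∈ L ∨ s b ∈ L ∨ L = ⊥
  · have hPs := psub_dn a b s hLI' t ht L I hsub hcase
    have hp := hP _ _ hPs
    have hA := A_le a b s θ h0 L I hsub
    have hB := B_le a b s θ h0 L I hsub
    have hfin := finrank_ge a b s hLI' hspan L
    have hX : (θ a - 1) * (finrank K (Udn a b s L 0) : ℚ) +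
        (θ b - 1) * (finrank K (Udn a b s L 1) : ℚ) +
        ∑ i ∈ I.subtype (fun i => i ≠ a ∧ i ≠ b), θ i.1 = 0 := by linarith
    have hAeq : (if a ∈ I then θ a else 0) = (finrank K (Udn a b s L 0) : ℚ) * θ a := by
      linarith
    have hBeq : (if b ∈ I then θ b else 0) = (finrank K (Udn a b s L 1) : ℚ) * θ b := by
      linarith
    rcases hP0 _ _ hPs hX with ⟨hU, hIP⟩ | ⟨hU, hIP⟩
    · left
      have ha : s a ∉ L := fun h => by
        have e1 := Udn_zero_of_mem a b s L h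
        have e2 : Udn a b s L 0 = ⊥ := congrFun hU 0
        rw [e2] at e1
        exact bot_ne_top e1
      have hb : s b ∉ L := fun h => by
        have e1 := Udn_one_of_mem a b s L h
        have e2 : Udn a b s L 1 = ⊥ := congrFun hU 1
        rw [e2] at e1
        exact bot_ne_top e1
      have hL : L = ⊥ := by
        rcases hcase with h | h | h
        · exact absurd h ha
        · exact absurd h hb
        · exact h
      refine ⟨hL, ?_⟩
      rw [Finset.eq_empty_iff_forall_notMem]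
      intro i hi
      by_cases hp' : i ≠ a ∧ i ≠ b
      · have hm : (⟨i, hp'⟩ : {i : κ // i ≠ a ∧ i ≠ b}) ∈
            I.subtype (fun i => i ≠ a ∧ i ≠ b) := Finset.mem_subtype.mpr hi
        rw [hIP] at hm
        exact absurd hm (Finset.notMem_empty _)
      · rcases hor i hp' with h | h
        · rw [h] at hi; exact ha (hsub a hi)
        · rw [h] at hi; exact hb (hsub b hi)
    · right
      have ha : s a ∈ L := by
        by_contra h
        have e1 := Udn_zero_of_not_mem a b s L h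
        have e2 : Udn a b s L 0 = ⊤ := congrFun hU 0
        rw [e2] at e1
        exact top_ne_bot e1
      have hb : s b ∈ L := by
        by_contra h
        have e1 := Udn_one_of_not_mem a b s L h
        have e2 : Udn a b s L 1 = ⊤ := congrFun hU 1
        rw [e2] at e1
        exact top_ne_bot e1
      have hL : L = ⊤ := L_top a b s hspan L ha hb
      have hd0 : (finrank K (Udn a b s L 0) : ℚ) = 1 := by
        rcases d0_cases a b s L with ⟨_, hd⟩ | ⟨hn, _⟩
        · exact hd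
        · exact absurd ha hn
      have hd1 : (finrank K (Udn a b s L 1) : ℚ) = 1 := by
        rcases d1_cases a b s L with ⟨_, hd⟩ | ⟨hn, _⟩
        · exact hd
        · exact absurd hb hn
      rw [hd0, one_mul] at hAeq
      rw [hd1, one_mul] at hBeq
      have haI : a ∈ I := by
        by_contra h
        rw [if_neg h] at hAeq
        linarith
      have hbI : b ∈ I := by
        by_contra h
        rw [if_neg h] at hBeq
        linarith
      refine ⟨hL, ?_⟩
      rw [Finset.eq_univ_iff_forall]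
      intro i
      by_cases hp' : i ≠ a ∧ i ≠ b
      · have hm : (⟨i, hp'⟩ : {i : κ // i ≠ a ∧ i ≠ b}) ∈
            I.subtype (fun i => i ≠ a ∧ i ≠ b) := by rw [hIP]; exact Finset.mem_univ _
        exact Finset.mem_subtype.mp hm
      · rcases hor i hp' with h | h
        · rw [h]; exact haI
        · rw [h]; exact hbI
  · exfalso
    push_neg at hcase
    obtain ⟨ha, hb, hL⟩ := hcase
    rw [if_neg (fun h => ha (hsub a h)), if_neg (fun h => hb (hsub b h))] at hsplit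
    have h3 := sub_sum_le a b θ hab h0 h2 (I.subtype (fun i => i ≠ a ∧ i ≠ b))
    obtain ⟨w, hwL, hw0⟩ := Submodule.exists_mem_ne_zero_of_ne_bot hL
    have h4 := one_le_finrank L hw0 hwL
    linarith

end Main

theorem main62 (K : Type u) [Field K]
    (κ : Type v) [Fintype κ] [DecidableEq κ] (a b : κ) (hab : a ≠ b) (s : κ → (Fin 2 → K))
    (θ : κ → ℚ) (h0 : ∀ i, 0 ≤ θ i) (h1 : ∀ i, θ i ≤ 1) (h2 : ∑ i, θ i = 2)
    (hθ : 1 < θ a + θ b) (hθ' : θ a + θ b < 2) :
    PtQuiv.QSemistable (-1) θ s ↔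
      (LinearIndependent K ![s a, s b] ∧
        ∀ t : {i : κ // i ≠ a ∧ i ≠ b} → (Fin 2 → K),
          (∀ i, s i.1 = t i 0 • s a + t i 1 • s b) →
            PtQuiv.PSemistable ![(2 - θ a - θ b)⁻¹ * (θ a - 1), (2 - θ a - θ b)⁻¹ * (θ b - 1)]
              (fun i : {i : κ // i ≠ a ∧ i ≠ b} => (2 - θ a - θ b)⁻¹ * θ i.1) t) := by
  have hc : 0 < (2 - θ a - θ b)⁻¹ := inv_pos.mpr (by linarith)
  constructor
  · rintro ⟨_, hQ⟩
    refine ⟨li_of_semistable a b s θ hab hθ hQ, fun t ht => ⟨?_, fun U I hUI => ?_⟩⟩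
    · exact total_zero a b θ hab h2 _
    · rw [PWt_eq a b θ _ _ _ U I]
      exact mul_nonpos' hc (fwd_ineq a b s θ hab hQ t ht U I hUI)
  · rintro ⟨hLI, hP⟩
    have hLI' := li_pair hLI
    have hspan := span_pair hLI
    choose x y hxy using fun i : {i : κ // i ≠ a ∧ i ≠ b} => hspan (s i.1)
    have hPt := hP (fun i => ![x i, y i]) hxy
    have hPX : ∀ (U : Fin 2 → Submodule K K) (I : Finset {i : κ // i ≠ a ∧ i ≠ b}),
        PSubrep (fun i => ![x i, y i]) U I →
        (θ a - 1) * (finrank K (U 0) : ℚ) + (θ b - 1) * (finrank K (U 1) : ℚ) +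
          ∑ i ∈ I, θ i.1 ≤ 0 := fun U I hUI => by
      have h := hPt.2 U I hUI
      rw [PWt_eq a b θ _ _ _ U I] at h
      exact P_ineq_of hc h
    refine ⟨by rw [h2]; norm_num, fun L I hsub => ?_⟩
    exact bwd_ineq a b s θ hab h0 h2 hθ hLI' hspan _ hxy hPX L I hsub

theorem main63 (K : Type u) [Field K]
    (κ : Type v) [Fintype κ] [DecidableEq κ] (a b : κ) (hab : a ≠ b) (s : κ → (Fin 2 → K))
    (θ : κ → ℚ) (h0 : ∀ i, 0 ≤ θ i) (h1 : ∀ i, θ i ≤ 1) (h2 : ∑ i, θ i = 2)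
    (hθ : 1 < θ a + θ b) (hθ' : θ a + θ b < 2) :
    PtQuiv.QStable (-1) θ s ↔
      (LinearIndependent K ![s a, s b] ∧
        ∀ t : {i : κ // i ≠ a ∧ i ≠ b} → (Fin 2 → K),
          (∀ i, s i.1 = t i 0 • s a + t i 1 • s b) →
            PtQuiv.PStable ![(2 - θ a - θ b)⁻¹ * (θ a - 1), (2 - θ a - θ b)⁻¹ * (θ b - 1)]
              (fun i : {i : κ // i ≠ a ∧ i ≠ b} => (2 - θ a - θ b)⁻¹ * θ i.1) t) := by
  have hc : 0 < (2 - θ a - θ b)⁻¹ := inv_pos.mpr (by linarith)
  constructor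
  · rintro ⟨⟨_, hQ⟩, hQ0⟩
    refine ⟨li_of_semistable a b s θ hab hθ hQ, fun t ht =>
      ⟨⟨?_, fun U I hUI => ?_⟩, fun U I hUI hz => ?_⟩⟩
    · exact total_zero a b θ hab h2 _
    · rw [PWt_eq a b θ _ _ _ U I]
      exact mul_nonpos' hc (fwd_ineq a b s θ hab hQ t ht U I hUI)
    · rw [PWt_eq a b θ _ _ _ U I] at hz
      exact fwd_zero a b s θ hab hQ hQ0 t ht U I hUI
        ((mul_eq_zero.mp hz).resolve_left hc.ne')
  · rintro ⟨hLI, hP⟩
    have hLI' := li_pair hLI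
    have hspan := span_pair hLI
    choose x y hxy using fun i : {i : κ // i ≠ a ∧ i ≠ b} => hspan (s i.1)
    have hPt := hP (fun i => ![x i, y i]) hxy
    have hPX : ∀ (U : Fin 2 → Submodule K K) (I : Finset {i : κ // i ≠ a ∧ i ≠ b}),
        PSubrep (fun i => ![x i, y i]) U I →
        (θ a - 1) * (finrank K (U 0) : ℚ) + (θ b - 1) * (finrank K (U 1) : ℚ) +
          ∑ i ∈ I, θ i.1 ≤ 0 := fun U I hUI => by
      have h := hPt.1.2 U I hUI
      rw [PWt_eq a b θ _ _ _ U I] at h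
      exact P_ineq_of hc h
    have hPX0 : ∀ (U : Fin 2 → Submodule K K) (I : Finset {i : κ // i ≠ a ∧ i ≠ b}),
        PSubrep (fun i => ![x i, y i]) U I →
        (θ a - 1) * (finrank K (U 0) : ℚ) + (θ b - 1) * (finrank K (U 1) : ℚ) +
          ∑ i ∈ I, θ i.1 = 0 → (U = ⊥ ∧ I = ∅) ∨ (U = ⊤ ∧ I = Finset.univ) :=
      fun U I hUI hX => by
        apply hPt.2 U I hUI
        rw [PWt_eq a b θ _ _ _ U I, hX, mul_zero]
    refine ⟨⟨by rw [h2]; norm_num, fun L I hsub => ?_⟩, fun L I hsub hz => ?_⟩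
    · exact bwd_ineq a b s θ hab h0 h2 hθ hLI' hspan _ hxy hPX L I hsub
    · exact bwd_zero a b s θ hab h0 h1 h2 hθ hLI' hspan _ hxy hPX hPX0 L I hsub hz

end Groth.Agent.Lib.PtQuivH4
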