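import Mathlib
import Groth.Prelude.Def_W4c2gaugesfzipsQuiet
import Groth.Agent.Lib.FrobSm7_helper8

/-!
# Frobenius of a smooth algebra over a perfect field: faithfully flat and a `p`-th root morphism

* `isRootTower_of_basis`: an algebra `S/R` with elements `y i` (`i < n`), `y i ^ p ∈ R`, such that
  the monomials `∏ y i ^ e i` (`e i < p`) form an `R`-basis of `S`, is a tower of `n` elementary
  `p`-th root extractions.
* `isFreeOn_frobenius_of_chart`: Frobenius of an algebra étale over `k[X₁..Xₙ]` (`k` perfect) is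
  free on the monomials of small exponents (from helper8's relative Frobenius results).
* `isPthRoot_SpecMap`, `main`.
-/

set_option autoImplicit false

universe u

namespace Groth.Agent.Lib.PthRootH1

open Polynomial TensorProduct FrobSmH8 FrobAlg CategoryTheory AlgebraicGeometry

/-! ## Part A: root towers from monomial bases -/

theorem isRootTower_zero_of_basis (p : ℕ) {R S : Type u} [CommRing R] [CommRing S] [Algebra R S]
    {ι : Type*} [Unique ι] (b : Module.Basis ι R S) (hb : b default = 1) :
    Quiet.IsRootTower p 0 R S := by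
  have hbij : Function.Bijective (algebraMap R S) := by
    constructor
    · intro r r' h
      have h1 : r • b default = r' • b default := by
        rw [hb, Algebra.smul_def, Algebra.smul_def, mul_one, mul_one]
        exact h
      have h2 : b.repr (r • b default) default = b.repr (r' • b default) default := by rw [h1]
      simpa using h2
    · intro s
      refine ⟨b.repr s default, ?_⟩
      have h := b.sum_repr s
      rw [Fintype.sum_unique, hb, Algebra.smul_def, mul_one] at h
      exact h
  show Nonempty (S ≃ₐ[R] R)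
  exact ⟨(AlgEquiv.ofBijective (Algebra.ofId R S) hbij).symm⟩

theorem isRootTower_of_basis (p : ℕ) (hp : p ≠ 0) (n : ℕ) :
    ∀ (R S : Type u) [CommRing R] [CommRing S] [Algebra R S] [Nontrivial S]
      (y : Fin n → S) (a : Fin n → R), (∀ i, y i ^ p = algebraMap R S (a i)) →
      ∀ (b : Module.Basis (Fin n → Fin p) R S), (∀ e, b e = ∏ i, y i ^ (e i : ℕ)) →
      Quiet.IsRootTower p n R S := by
  induction n with
  | zero =>
    intro R S _ _ _ _ y a hy b hb
    refine isRootTower_zero_of_basis p b ?_
    rw [hb]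
    simp
  | succ n ih =>
    intro R S _ _ _ _ y a hy b hb
    haveI : Nontrivial R := (algebraMap R S).domain_nontrivial
    have hmonic : (X ^ p - C (a 0) : R[X]).Monic := monic_X_pow_sub_C (a 0) hp
    have hdeg : (X ^ p - C (a 0) : R[X]).natDegree = p := natDegree_X_pow_sub_C
    have heval : (X ^ p - C (a 0) : R[X]).eval₂
        ((Algebra.ofId R S : R →ₐ[R] S) : R →+* S) (y 0) = 0 := by
      show (X ^ p - C (a 0) : R[X]).eval₂ (algebraMap R S) (y 0) = 0
      rw [eval₂_sub, eval₂_pow, eval₂_X, eval₂_C, hy 0, sub_self]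
    let f : Quiet.RootRing p R (a 0) →ₐ[R] S :=
      AdjoinRoot.liftAlgHom (X ^ p - C (a 0) : R[X]) (Algebra.ofId R S) (y 0) heval
    have hfroot : f (AdjoinRoot.root (X ^ p - C (a 0) : R[X])) = y 0 :=
      AdjoinRoot.liftAlgHom_root _ _ _ _
    letI alg1 : Algebra (Quiet.RootRing p R (a 0)) S := f.toRingHom.toAlgebra
    haveI tower : IsScalarTower R (Quiet.RootRing p R (a 0)) S :=
      IsScalarTower.of_algebraMap_eq (fun r => (f.commutes r).symm)
    let b1 : Module.Basis (Fin p) R (Quiet.RootRing p R (a 0)) :=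
      (AdjoinRoot.powerBasisAux' hmonic).reindex (finCongr hdeg)
    have hb1 : ∀ j : Fin p, b1 j = AdjoinRoot.root (X ^ p - C (a 0) : R[X]) ^ (j : ℕ) := by
      intro j
      have h := (AdjoinRoot.powerBasis' hmonic).basis_eq_pow ((finCongr hdeg).symm j)
      show ((AdjoinRoot.powerBasisAux' hmonic).reindex (finCongr hdeg)) j = _
      rw [Module.Basis.reindex_apply]
      exact h
    let s : (Fin n → Fin p) → S := fun e' => ∏ i, y (Fin.succ i) ^ (e' i : ℕ)
    let β : (Σ _ : (Fin n → Fin p), Fin p) ≃ (Fin (n + 1) → Fin p) :=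
      (Equiv.sigmaEquivProd _ _).trans
        ((Equiv.prodComm _ _).trans (Fin.consEquiv (fun _ : Fin (n + 1) => Fin p)))
    have hβ : ∀ (e' : Fin n → Fin p) (j : Fin p), β ⟨e', j⟩ = Fin.cons j e' := fun e' j => rfl
    have hfree : IsFreeOn f.toRingHom s := by
      refine isFreeOn_of_bases f b1 b s β ?_
      intro e' j
      show f (b1 j) * (∏ i, y (Fin.succ i) ^ (e' i : ℕ)) = b (β ⟨e', j⟩)
      rw [hb1, map_pow, hfroot, hb, hβ, Fin.prod_univ_succ]
      simp only [Fin.cons_zero, Fin.cons_succ]
    have hfree' : IsFreeOn (algebraMap (Quiet.RootRing p R (a 0)) S) s := hfree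
    show ∃ (a' : R) (_ : Algebra (Quiet.RootRing p R a') S),
      IsScalarTower R (Quiet.RootRing p R a') S ∧
        Quiet.IsRootTower p n (Quiet.RootRing p R a') S
    refine ⟨a 0, alg1, tower, ?_⟩
    refine ih (Quiet.RootRing p R (a 0)) S (fun i => y (Fin.succ i))
      (fun i => algebraMap R (Quiet.RootRing p R (a 0)) (a (Fin.succ i))) ?_ hfree'.basis ?_
    · intro i
      rw [hy, IsScalarTower.algebraMap_apply R (Quiet.RootRing p R (a 0)) S]
    · intro e'
      exact hfree'.basis_apply e'

/-! ## Part B: exponent vectors -/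

/-- Exponent vectors with entries `< p`, as functions to `Fin p`. -/
noncomputable def smallExpEquiv (n p : ℕ) : (Fin n → Fin p) ≃ SmallExp (Fin n) p where
  toFun e := ⟨Finsupp.equivFunOnFinite.symm (fun i => (e i : ℕ)), fun i => by
    show ((e i : ℕ)) < p
    exact (e i).2⟩
  invFun x := fun i => ⟨x.1 i, x.2 i⟩
  left_inv e := by
    funext i
    rfl
  right_inv x := by
    apply Subtype.ext
    ext i
    rfl

theorem monomial_eq_prod (n : ℕ) (k : Type*) [CommSemiring k] (m : Fin n →₀ ℕ) :
    (MvPolynomial.monomial m (1 : k)) =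
      ∏ i, (MvPolynomial.X i : MvPolynomial (Fin n) k) ^ (m i) := by
  rw [MvPolynomial.monomial_eq, map_one, one_mul, Finsupp.prod_fintype]
  intro i
  exact pow_zero _

/-! ## Part C: Frobenius of a chart -/

theorem includeLeft_bijective {R : Type*} [CommRing R] (B T : Type*) [CommRing B] [CommRing T]
    [Algebra R B] [Algebra R T] (h : Function.Bijective (algebraMap R T)) :
    Function.Bijective (Algebra.TensorProduct.includeLeft : B →ₐ[R] B ⊗[R] T) := by
  let e0 : R ≃ₐ[R] T := AlgEquiv.ofBijective (Algebra.ofId R T) h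
  let E : B ⊗[R] T ≃ₐ[R] B :=
    (Algebra.TensorProduct.congr (AlgEquiv.refl : B ≃ₐ[R] B) e0.symm).trans
      (Algebra.TensorProduct.rid R R B)
  have hE : ∀ b : B, E (b ⊗ₜ[R] (1 : T)) = b := by
    intro b
    simp [E]
  refine Function.bijective_iff_has_inverse.mpr ⟨E, fun b => hE b, fun x => ?_⟩
  apply E.injective
  exact hE (E x)

theorem algebraMap_twist_bijective (p : ℕ) [Fact p.Prime] (k : Type u) [CommRing k] [CharP k p]
    [PerfectRing k p] : Function.Bijective (algebraMap k (Twist p k)) := by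
  have h : (algebraMap k (Twist p k) : k → Twist p k) = (toTwist p k) ∘ (frobenius k p) := rfl
  rw [h]
  exact (toTwist p k).bijective.comp (bijective_frobenius k p)

theorem relFrob_comp_includeLeft (p : ℕ) [Fact p.Prime] (k : Type u) [CommRing k] [CharP k p]
    (C : Type u) [CommRing C] [Algebra k C] [CharP C p] :
    (relFrob p k C).comp
      ((Algebra.TensorProduct.includeLeft : C →ₐ[k] BaseChange p k C) : C →+* BaseChange p k C) =
      frobenius C p := by
  ext c
  show relFrob p k C (c ⊗ₜ[k] (1 : Twist p k)) = c ^ p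
  rw [relFrob_tmul', map_one, map_one, mul_one]

theorem isFreeOn_frobenius_of_chart (p : ℕ) [Fact p.Prime] (k : Type u) [Field k] [CharP k p]
    [PerfectRing k p] (n : ℕ) (C : Type u) [CommRing C] [Algebra k C]
    [Algebra (MvPolynomial (Fin n) k) C] [IsScalarTower k (MvPolynomial (Fin n) k) C] [CharP C p]
    [Algebra.Etale (MvPolynomial (Fin n) k) C] :
    IsFreeOn (frobenius C p) (fun e : SmallExp (Fin n) p =>
      algebraMap (MvPolynomial (Fin n) k) C (MvPolynomial.monomial e.1 (1 : k))) := by
  have h1 := isFreeOn_relFrob_of_etale_mvPolynomial p k n C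
  have hbij := includeLeft_bijective (R := k) C (Twist p k) (algebraMap_twist_bijective p k)
  let eI : C ≃+* BaseChange p k C :=
    RingEquiv.ofBijective (Algebra.TensorProduct.includeLeft : C →ₐ[k] BaseChange p k C) hbij
  have h2 := h1.comp_equiv eI
  have h3 : (relFrob p k C).comp (eI : C →+* BaseChange p k C) = frobenius C p :=
    relFrob_comp_includeLeft p k C
  rw [h3] at h2
  exact h2

theorem frobenius_flat_of_smooth (p : ℕ) [Fact p.Prime] (k : Type u) [Field k] [CharP k p]
    [PerfectRing k p] (A : Type u) [CommRing A] [Algebra k A] [CharP A p] [Algebra.Smooth k A] :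
    (frobenius A p).Flat := by
  have h1 := relFrob_flat_of_smooth p k A
  have hbij := includeLeft_bijective (R := k) A (Twist p k) (algebraMap_twist_bijective p k)
  rw [← relFrob_comp_includeLeft p k A]
  exact RingHom.Flat.comp (.of_bijective hbij) h1

theorem frobenius_faithfullyFlat (p : ℕ) [Fact p.Prime] (k : Type u) [Field k] [CharP k p]
    [PerfectRing k p] (A : Type u) [CommRing A] [Algebra k A] [CharP A p] [Algebra.Smooth k A] :
    (frobenius A p).FaithfullyFlat := by
  rw [RingHom.FaithfullyFlat.iff_flat_and_comap_surjective]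
  refine ⟨frobenius_flat_of_smooth p k A, fun Q => ⟨Q, ?_⟩⟩
  apply PrimeSpectrum.ext
  ext a
  show frobenius A p a ∈ Q.asIdeal ↔ a ∈ Q.asIdeal
  rw [frobenius_def]
  exact Q.isPrime.pow_mem_iff_mem p (Fact.out : p.Prime).pos

theorem isRootTower_of_chart (p : ℕ) [Fact p.Prime] (k : Type u) [Field k] [CharP k p]
    [PerfectRing k p] (n : ℕ) (C D : Type u) [CommRing C] [CommRing D] [Algebra k C]
    [Algebra (MvPolynomial (Fin n) k) C] [IsScalarTower k (MvPolynomial (Fin n) k) C] [CharP C p]
    [Algebra.Etale (MvPolynomial (Fin n) k) C] [Nontrivial D] (ε : C ≃+* D) (φ : C →+* D)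
    (hφ : ∀ c, φ c = ε (c ^ p)) :
    @Quiet.IsRootTower p n C D _ _ φ.toAlgebra := by
  have hp : p.Prime := Fact.out
  have h2 := isFreeOn_frobenius_of_chart p k n C
  have h3 := h2.equiv_comp ε
  have h4 : (ε : C →+* D).comp (frobenius C p) = φ := by
    ext c
    show ε (frobenius C p c) = φ c
    rw [hφ, frobenius_def]
  rw [h4] at h3
  letI alg : Algebra C D := φ.toAlgebra
  have h5 : IsFreeOn (algebraMap C D) (fun e : SmallExp (Fin n) p =>
      ε (algebraMap (MvPolynomial (Fin n) k) C (MvPolynomial.monomial e.1 (1 : k)))) := h3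
  refine isRootTower_of_basis p hp.ne_zero n C D
    (fun i => ε (algebraMap (MvPolynomial (Fin n) k) C (MvPolynomial.X i)))
    (fun i => algebraMap (MvPolynomial (Fin n) k) C (MvPolynomial.X i)) ?_
    (h5.basis.reindex (smallExpEquiv n p).symm) ?_
  · intro i
    show _ = φ _
    rw [hφ, map_pow]
  · intro e
    rw [Module.Basis.reindex_apply, Equiv.symm_symm, h5.basis_apply]
    show ε (algebraMap (MvPolynomial (Fin n) k) C
      (MvPolynomial.monomial ((smallExpEquiv n p) e).1 (1 : k))) = _
    rw [monomial_eq_prod, map_prod, map_prod]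
    refine Finset.prod_congr rfl (fun i _ => ?_)
    rw [map_pow, map_pow]
    rfl

/-! ## Part F: localizations -/

theorem isRootTower_of_localization (p : ℕ) [Fact p.Prime] (k : Type u) [Field k] [CharP k p]
    [PerfectRing k p] (A : Type u) [CommRing A] [Algebra k A] [CharP A p] (q : Ideal A)
    [q.IsPrime] (f : A) (hfq : f ∉ q) (n : ℕ)
    [Algebra (MvPolynomial (Fin n) k) (Localization.Away f)]
    [IsScalarTower k (MvPolynomial (Fin n) k) (Localization.Away f)]
    [Algebra.Etale (MvPolynomial (Fin n) k) (Localization.Away f)]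
    (L₁ L₂ : Type u) [CommRing L₁] [CommRing L₂] [Algebra A L₁] [Algebra A L₂]
    [IsLocalization.Away f L₁] (g : A) (hg : g = f ^ p) [IsLocalization.Away g L₂]
    (φ : L₁ →+* L₂) (hφ : ∀ r, φ (algebraMap A L₁ r) = algebraMap A L₂ (r ^ p)) :
    @Quiet.IsRootTower p n L₁ L₂ _ _ φ.toAlgebra := by
  have hp : p.Prime := Fact.out
  subst hg
  haveI hL2 : IsLocalization.Away f L₂ := by
    refine IsLocalization.of_le (M := Submonoid.powers (f ^ p)) (Submonoid.powers f) ?_ ?_
    · rw [Submonoid.powers_le]
      exact ⟨p, rfl⟩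
    · rintro _ ⟨m, rfl⟩
      have hu : IsUnit (algebraMap A L₂ (f ^ p)) := IsLocalization.Away.algebraMap_isUnit (f ^ p)
      rw [map_pow] at hu ⊢
      exact ((isUnit_pow_iff hp.ne_zero).mp hu).pow m
  let δ : Localization.Away f ≃ₐ[A] L₁ := IsLocalization.algEquiv (Submonoid.powers f) _ _
  let ε : L₁ ≃ₐ[A] L₂ := IsLocalization.algEquiv (Submonoid.powers f) _ _
  haveI : Nontrivial (Localization.Away f) := nontrivial_away_of_notMem q f hfq
  haveI : Nontrivial L₁ := δ.symm.toEquiv.nontrivial
  haveI : Nontrivial L₂ := ε.symm.toEquiv.nontrivial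
  haveI : CharP L₁ p := charP_of_algebra' p hp A L₁
  have hφε : ∀ s, φ s = ε (s ^ p) := by
    have hcomp : φ = (ε : L₁ →+* L₂).comp (frobenius L₁ p) := by
      refine IsLocalization.ringHom_ext (Submonoid.powers f) ?_
      ext r
      show φ (algebraMap A L₁ r) = ε (frobenius L₁ p (algebraMap A L₁ r))
      rw [hφ, frobenius_def, ← map_pow, AlgEquiv.commutes]
    intro s
    rw [hcomp]
    rfl
  letI algP : Algebra (MvPolynomial (Fin n) k) L₁ :=
    ((δ : Localization.Away f →+* L₁).comp
      (algebraMap (MvPolynomial (Fin n) k) (Localization.Away f))).toAlgebra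
  letI algk : Algebra k L₁ := ((algebraMap A L₁).comp (algebraMap k A)).toAlgebra
  haveI : IsScalarTower k (MvPolynomial (Fin n) k) L₁ := by
    refine IsScalarTower.of_algebraMap_eq (fun c => ?_)
    show algebraMap A L₁ (algebraMap k A c) =
      δ (algebraMap (MvPolynomial (Fin n) k) (Localization.Away f)
        (algebraMap k (MvPolynomial (Fin n) k) c))
    rw [← IsScalarTower.algebraMap_apply k (MvPolynomial (Fin n) k) (Localization.Away f),
      IsScalarTower.algebraMap_apply k A (Localization.Away f), AlgEquiv.commutes]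
  let δP : Localization.Away f ≃ₐ[MvPolynomial (Fin n) k] L₁ :=
    AlgEquiv.ofRingEquiv (f := δ.toRingEquiv) (fun x => rfl)
  haveI : Algebra.Etale (MvPolynomial (Fin n) k) L₁ := Algebra.Etale.of_equiv δP
  exact isRootTower_of_chart p k n L₁ L₂ ε.toRingEquiv φ hφε

/-! ## Part E: schemes -/

theorem SpecMap_app_algebraMap {R S : CommRingCat.{u}} (φ : R ⟶ S) (U : (Spec R).Opens) (r : R) :
    ((Spec.map φ).app U).hom (algebraMap R Γ(Spec R, U) r) =
      algebraMap S Γ(Spec S, (Spec.map φ) ⁻¹ᵁ U) (φ.hom r) := by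
  rw [IsAffineOpen.algebraMap_Spec_obj, IsAffineOpen.algebraMap_Spec_obj]
  have h : ((Scheme.ΓSpecIso R).inv ≫ (Spec R).presheaf.map (homOfLE le_top).op) ≫
      (Spec.map φ).app U = φ ≫ (Scheme.ΓSpecIso S).inv ≫
        (Spec S).presheaf.map (homOfLE (le_top : (Spec.map φ) ⁻¹ᵁ U ≤ ⊤)).op := by
    have h3 := Scheme.ΓSpecIso_inv_naturality φ
    rw [Category.assoc, Scheme.Hom.naturality, ← Category.assoc φ, h3, Category.assoc]
    rfl
  have h2 := congrArg (fun ψ => ψ.hom r) h
  exact h2

theorem isPthRoot_SpecMap (p : ℕ) [Fact p.Prime] (k : Type u) [Field k] [CharP k p]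
    [PerfectRing k p] (R : CommRingCat.{u}) [Algebra k R] [CharP R p] [Algebra.Smooth k R]
    (F : R ⟶ R) (hF : ∀ r : R, F.hom r = r ^ p) :
    Quiet.IsPthRoot p (Spec.map F) := by
  intro x
  haveI : x.asIdeal.IsPrime := x.isPrime
  obtain ⟨f, hfq, n, _, _, hse⟩ :=
    Algebra.IsSmoothAt.exists_isStandardEtale_mvPolynomial (R := k) (p := x.asIdeal)
  haveI : Algebra.Etale (MvPolynomial (Fin n) k) (Localization.Away f) := inferInstance
  refine ⟨⟨PrimeSpectrum.basicOpen f, IsAffineOpen.Spec_basicOpen f⟩, hfq, ?_, ?_⟩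
  · exact IsAffineOpen.Spec_basicOpen (F.hom f)
  · refine ⟨n, ?_⟩
    haveI : IsLocalization.Away (F.hom f)
        Γ(Spec R, (Spec.map F) ⁻¹ᵁ (PrimeSpectrum.basicOpen f)) :=
      inferInstanceAs (IsLocalization.Away (F.hom f) Γ(Spec R, PrimeSpectrum.basicOpen (F.hom f)))
    exact isRootTower_of_localization p k R x.asIdeal f hfq n
      Γ(Spec R, PrimeSpectrum.basicOpen f)
      Γ(Spec R, (Spec.map F) ⁻¹ᵁ (PrimeSpectrum.basicOpen f))
      (F.hom f) (hF f) ((Spec.map F).app (PrimeSpectrum.basicOpen f)).hom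
      (fun r => by rw [SpecMap_app_algebraMap, hF])

theorem main (p : ℕ) [Fact p.Prime] (k : Type u) [Field k] [CharP k p] [PerfectRing k p]
    (A : Type u) [CommRing A] [Algebra k A] [CharP A p] [Algebra.Smooth k A] :
    (frobenius A p).FaithfullyFlat ∧
      Quiet.IsPthRoot p (Spec.map (CommRingCat.ofHom (frobenius A p))) :=
  ⟨frobenius_faithfullyFlat p k A,
    isPthRoot_SpecMap p k (CommRingCat.of A) (CommRingCat.ofHom (frobenius A p)) (fun _ => rfl)⟩

end Groth.Agent.Lib.PthRootH1
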