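import Mathlib
import Groth.Agent.Lib.PthRoot1_helper1

/-!
# Frobenius modulo an ideal: `P/I → P/(I^{[p]})` for `P` smooth over a perfect field

* `isRootTower_of_isFreeOn_monomials`: root tower from a monomial basis given as `IsFreeOn`.
* `IsFreeOn.quotient`: freeness passes to quotients `R/J → S/JS`.
* `isRootTower_of_quotient_localization`, `isPthRoot_SpecMap_quotient`: `Spec` of the map induced
  by Frobenius `P/I → P/(Frob(I))` is an extraction of `p`-th roots.
* `faithfullyFlat_quotientMap`: faithful flatness passes to quotients.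
* `isRegular_map_frobenius`: Frobenius of a smooth algebra over a perfect field preserves regular
  sequences.
* `isRegular_append_of_quotient`.
-/

set_option autoImplicit false

universe u

namespace Groth.Agent.Lib.PthRootH1

open Polynomial TensorProduct FrobSmH8 FrobAlg CategoryTheory AlgebraicGeometry

/-! ## General lemmas -/

theorem isRootTower_of_isFreeOn_monomials (p : ℕ) (hp : p ≠ 0) (k : Type*) [CommSemiring k]
    (n : ℕ) (L₁ L₂ : Type u) [CommRing L₁] [CommRing L₂] [Nontrivial L₂] (φ : L₁ →+* L₂)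
    (γ : MvPolynomial (Fin n) k →+* L₂) (a : Fin n → L₁)
    (ha : ∀ i, γ (MvPolynomial.X i) ^ p = φ (a i))
    (hfree : IsFreeOn φ (fun e : SmallExp (Fin n) p => γ (MvPolynomial.monomial e.1 (1 : k)))) :
    @Quiet.IsRootTower p n L₁ L₂ _ _ φ.toAlgebra := by
  letI alg : Algebra L₁ L₂ := φ.toAlgebra
  have h5 : IsFreeOn (algebraMap L₁ L₂)
      (fun e : SmallExp (Fin n) p => γ (MvPolynomial.monomial e.1 (1 : k))) := hfree
  refine isRootTower_of_basis p hp n L₁ L₂ (fun i => γ (MvPolynomial.X i)) a ?_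
    (h5.basis.reindex (smallExpEquiv n p).symm) ?_
  · intro i
    exact ha i
  · intro e
    rw [Module.Basis.reindex_apply, Equiv.symm_symm, h5.basis_apply]
    show γ (MvPolynomial.monomial ((smallExpEquiv n p) e).1 (1 : k)) = _
    rw [monomial_eq_prod, map_prod]
    refine Finset.prod_congr rfl (fun i _ => ?_)
    rw [map_pow]
    rfl

theorem isFreeOn_quotient {R S : Type*} [CommRing R] [CommRing S] {f : R →+* S} {E : Type*}
    {s : E → S} (h : IsFreeOn f s) (J : Ideal R) (K : Ideal S) (hK : K = J.map f)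
    (hle : J ≤ K.comap f) :
    IsFreeOn (Ideal.quotientMap K f hle) (fun e => Ideal.Quotient.mk K (s e)) := by
  subst hK
  letI := f.toAlgebra
  have h' : IsFreeOn (algebraMap R S) s := h
  let eq := Algebra.TensorProduct.quotIdealMapEquivQuotTensor S J
  let b₀ : Module.Basis E (R ⧸ J) ((R ⧸ J) ⊗[R] S) :=
    Algebra.TensorProduct.basis (R ⧸ J) h'.basis
  let b : Module.Basis E (R ⧸ J) (S ⧸ J.map (algebraMap R S)) := b₀.map eq.symm.toLinearEquiv
  have hb : ∀ e, b e = Ideal.Quotient.mk (J.map (algebraMap R S)) (s e) := by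
    intro e
    show eq.symm (b₀ e) = _
    rw [AlgEquiv.symm_apply_eq]
    show Algebra.TensorProduct.basis (R ⧸ J) h'.basis e = eq (Ideal.Quotient.mk _ (s e))
    rw [Algebra.TensorProduct.basis_apply, h'.basis_apply,
      Algebra.TensorProduct.quotIdealMapEquivQuotTensor_mk]
  have h2 := IsFreeOn.of_basis b
  have h3 : (⇑b : E → S ⧸ J.map (algebraMap R S)) =
      fun e => Ideal.Quotient.mk (J.map (algebraMap R S)) (s e) := funext hb
  rw [h3] at h2
  exact h2

theorem away_of_pow {R : Type*} [CommRing R] (L : Type*) [CommRing L] [Algebra R L] (x : R)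
    (m : ℕ) (hm : m ≠ 0) [IsLocalization.Away (x ^ m) L] : IsLocalization.Away x L := by
  refine IsLocalization.of_le (M := Submonoid.powers (x ^ m)) (Submonoid.powers x) ?_ ?_
  · rw [Submonoid.powers_le]
    exact ⟨m, rfl⟩
  · rintro _ ⟨j, rfl⟩
    have hu : IsUnit (algebraMap R L (x ^ m)) := IsLocalization.Away.algebraMap_isUnit (x ^ m)
    rw [map_pow] at hu ⊢
    exact ((isUnit_pow_iff hm).mp hu).pow j

theorem faithfullyFlat_quotientMap {R S : Type*} [CommRing R] [CommRing S] {f : R →+* S}
    (hf : f.FaithfullyFlat) (J : Ideal R) :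
    (Ideal.quotientMap (J.map f) f Ideal.le_comap_map).FaithfullyFlat := by
  letI := f.toAlgebra
  haveI : Module.FaithfullyFlat R S := hf
  let eq := Algebra.TensorProduct.quotIdealMapEquivQuotTensor S J
  haveI : Module.FaithfullyFlat (R ⧸ J) (S ⧸ J.map (algebraMap R S)) :=
    Module.FaithfullyFlat.of_linearEquiv _ _ eq.toLinearEquiv
  have h := RingHom.faithfullyFlat_algebraMap_iff.mpr this
  exact h

/-! ## The local statement -/

theorem isRootTower_of_quotient_localization (p : ℕ) [Fact p.Prime] (k : Type u) [Field k]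
    [CharP k p] [PerfectRing k p] (P : Type u) [CommRing P] [Algebra k P] [CharP P p]
    (q : Ideal P) [q.IsPrime] (f : P) (hfq : f ∉ q) (n : ℕ)
    [Algebra (MvPolynomial (Fin n) k) (Localization.Away f)]
    [IsScalarTower k (MvPolynomial (Fin n) k) (Localization.Away f)]
    [Algebra.Etale (MvPolynomial (Fin n) k) (Localization.Away f)]
    (Q₁ Q₂ : Type u) [CommRing Q₁] [CommRing Q₂] (π₁ : P →+* Q₁) (π₂ : P →+* Q₂)
    (hπ₁ : Function.Surjective π₁) (hπ₂ : Function.Surjective π₂)
    (hq : RingHom.ker π₁ ≤ q)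
    (hker : RingHom.ker π₂ = (RingHom.ker π₁).map (frobenius P p))
    (β : Q₁ →+* Q₂) (hβ : ∀ c, β (π₁ c) = π₂ (c ^ p))
    (L₁ L₂ : Type u) [CommRing L₁] [CommRing L₂] [Algebra Q₁ L₁] [Algebra Q₂ L₂]
    [IsLocalization.Away (π₁ f) L₁] (g : Q₂) (hg : g = π₂ f ^ p) [IsLocalization.Away g L₂]
    (φ : L₁ →+* L₂) (hφ : ∀ x, φ (algebraMap Q₁ L₁ x) = algebraMap Q₂ L₂ (β x)) :
    @Quiet.IsRootTower p n L₁ L₂ _ _ φ.toAlgebra := by
  have hp : p.Prime := Fact.out
  subst hg
  haveI : IsLocalization.Away (π₂ f) L₂ := away_of_pow L₂ (π₂ f) p hp.ne_zero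
  haveI : Nontrivial (Localization.Away f) := nontrivial_away_of_notMem q f hfq
  haveI : CharP (Localization.Away f) p := charP_of_algebra' p hp P _
  have hfreeC := isFreeOn_frobenius_of_chart p k n (Localization.Away f)
  -- ideals of the chart ring
  let J : Ideal (Localization.Away f) :=
    (RingHom.ker π₁).map (algebraMap P (Localization.Away f))
  let K : Ideal (Localization.Away f) :=
    (RingHom.ker π₂).map (algebraMap P (Localization.Away f))
  have hcommF : (algebraMap P (Localization.Away f)).comp (frobenius P p) =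
      (frobenius (Localization.Away f) p).comp (algebraMap P (Localization.Away f)) := by
    ext c
    show algebraMap P _ (frobenius P p c) = frobenius _ p (algebraMap P _ c)
    rw [frobenius_def, frobenius_def, map_pow]
  have hK : K = J.map (frobenius (Localization.Away f) p) := by
    show (RingHom.ker π₂).map _ = ((RingHom.ker π₁).map _).map _
    rw [hker, Ideal.map_map, Ideal.map_map, hcommF]
  have hle : J ≤ K.comap (frobenius (Localization.Away f) p) := by
    rw [hK]
    exact Ideal.le_comap_map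
  have hfreeQ := isFreeOn_quotient hfreeC J K hK hle
  -- localization structures on the quotients of the chart ring
  haveI hD1 : IsLocalization.Away (Ideal.Quotient.mk (RingHom.ker π₁) f)
      (Localization.Away f ⧸ J) := by
    have h0 : IsLocalization
        (Algebra.algebraMapSubmonoid (P ⧸ RingHom.ker π₁) (Submonoid.powers f))
        (Localization.Away f ⧸ (RingHom.ker π₁).map (algebraMap P (Localization.Away f))) :=
      inferInstance
    rw [Algebra.algebraMapSubmonoid_powers] at h0
    exact h0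
  haveI hD2 : IsLocalization.Away (Ideal.Quotient.mk (RingHom.ker π₂) f)
      (Localization.Away f ⧸ K) := by
    have h0 : IsLocalization
        (Algebra.algebraMapSubmonoid (P ⧸ RingHom.ker π₂) (Submonoid.powers f))
        (Localization.Away f ⧸ (RingHom.ker π₂).map (algebraMap P (Localization.Away f))) :=
      inferInstance
    rw [Algebra.algebraMapSubmonoid_powers] at h0
    exact h0
  -- identifications
  let h₁ : Q₁ ≃+* P ⧸ RingHom.ker π₁ := (RingHom.quotientKerEquivOfSurjective hπ₁).symm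
  have hh₁ : ∀ c, h₁ (π₁ c) = Ideal.Quotient.mk _ c :=
    fun c => RingHom.quotientKerEquivOfSurjective_symm_apply hπ₁ c
  let h₂ : Q₂ ≃+* P ⧸ RingHom.ker π₂ := (RingHom.quotientKerEquivOfSurjective hπ₂).symm
  have hh₂ : ∀ c, h₂ (π₂ c) = Ideal.Quotient.mk _ c :=
    fun c => RingHom.quotientKerEquivOfSurjective_symm_apply hπ₂ c
  let α₁ : L₁ ≃+* (Localization.Away f ⧸ J) :=
    IsLocalization.ringEquivOfRingEquiv (M := Submonoid.powers (π₁ f))
      (T := Submonoid.powers (Ideal.Quotient.mk (RingHom.ker π₁) f)) L₁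
      (Localization.Away f ⧸ J) h₁ (by
        rw [Submonoid.map_powers]
        congr 1
        exact hh₁ f)
  have hα₁ : ∀ x, α₁ (algebraMap Q₁ L₁ x) =
      algebraMap (P ⧸ RingHom.ker π₁) (Localization.Away f ⧸ J) (h₁ x) :=
    fun x => IsLocalization.ringEquivOfRingEquiv_eq _ x
  let α₂ : L₂ ≃+* (Localization.Away f ⧸ K) :=
    IsLocalization.ringEquivOfRingEquiv (M := Submonoid.powers (π₂ f))
      (T := Submonoid.powers (Ideal.Quotient.mk (RingHom.ker π₂) f)) L₂
      (Localization.Away f ⧸ K) h₂ (by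
        rw [Submonoid.map_powers]
        congr 1
        exact hh₂ f)
  have hα₂ : ∀ x, α₂ (algebraMap Q₂ L₂ x) =
      algebraMap (P ⧸ RingHom.ker π₂) (Localization.Away f ⧸ K) (h₂ x) :=
    fun x => IsLocalization.ringEquivOfRingEquiv_eq _ x
  -- compatibility
  have hcompat : ∀ x : L₁, α₂ (φ x) =
      Ideal.quotientMap K (frobenius (Localization.Away f) p) hle (α₁ x) := by
    have hc : (α₂ : L₂ →+* _).comp φ =
        (Ideal.quotientMap K (frobenius (Localization.Away f) p) hle).comp
          (α₁ : L₁ →+* _) := by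
      refine IsLocalization.ringHom_ext (Submonoid.powers (π₁ f)) ?_
      ext x
      obtain ⟨c, rfl⟩ := hπ₁ x
      show α₂ (φ (algebraMap Q₁ L₁ (π₁ c))) =
        Ideal.quotientMap K _ hle (α₁ (algebraMap Q₁ L₁ (π₁ c)))
      rw [hφ, hβ, hα₂, hh₂, hα₁, hh₁]
      show Ideal.Quotient.mk K (algebraMap P _ (c ^ p)) =
        Ideal.Quotient.mk K (frobenius _ p (algebraMap P _ c))
      rw [frobenius_def, map_pow]
    intro x
    exact congrArg (fun ψ : L₁ →+* _ => ψ x) hc
  have hφeq : ((α₂.symm : _ →+* L₂).comp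
      ((Ideal.quotientMap K (frobenius (Localization.Away f) p) hle).comp
        (α₁ : L₁ →+* _))) = φ := by
    ext x
    show α₂.symm (Ideal.quotientMap K _ hle (α₁ x)) = φ x
    rw [← hcompat, RingEquiv.symm_apply_apply]
  have hfreeφ := (hfreeQ.comp_equiv α₁).equiv_comp α₂.symm
  rw [hφeq] at hfreeφ
  -- nontriviality
  have hI'q : RingHom.ker π₂ ≤ q := by
    rw [hker, Ideal.map_le_iff_le_comap]
    intro i hi
    show frobenius P p i ∈ q
    rw [frobenius_def]
    exact Ideal.pow_mem_of_mem q (hq hi) p hp.pos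
  haveI : Nontrivial (Localization.Away f ⧸ K) := by
    rw [Ideal.Quotient.nontrivial_iff]
    have hKq : K ≤ q.map (algebraMap P (Localization.Away f)) := Ideal.map_mono hI'q
    have hprime : (q.map (algebraMap P (Localization.Away f))).IsPrime :=
      IsLocalization.isPrime_of_isPrime_disjoint (Submonoid.powers f) _ _ ‹q.IsPrime›
        ((Ideal.disjoint_powers_iff_notMem_of_isPrime _).mpr hfq)
    intro htop
    exact hprime.ne_top (top_le_iff.mp (htop ▸ hKq))
  haveI : Nontrivial L₂ := α₂.toEquiv.nontrivial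
  refine isRootTower_of_isFreeOn_monomials p hp.ne_zero k n L₁ L₂ φ
    (((α₂.symm : _ →+* L₂).comp (Ideal.Quotient.mk K)).comp
      (algebraMap (MvPolynomial (Fin n) k) (Localization.Away f)))
    (fun i => α₁.symm (Ideal.Quotient.mk J
      (algebraMap (MvPolynomial (Fin n) k) (Localization.Away f) (MvPolynomial.X i)))) ?_ hfreeφ
  intro i
  show (α₂.symm (Ideal.Quotient.mk K (algebraMap (MvPolynomial (Fin n) k) (Localization.Away f)
    (MvPolynomial.X i)))) ^ p = φ (α₁.symm (Ideal.Quotient.mk J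
      (algebraMap (MvPolynomial (Fin n) k) (Localization.Away f) (MvPolynomial.X i))))
  rw [← map_pow α₂.symm, ← map_pow (Ideal.Quotient.mk K), RingEquiv.symm_apply_eq, hcompat,
    RingEquiv.apply_symm_apply]
  rfl

/-! ## Schemes -/

theorem isPthRoot_SpecMap_quotient (p : ℕ) [Fact p.Prime] (k : Type u) [Field k] [CharP k p]
    [PerfectRing k p] (P : Type u) [CommRing P] [Algebra k P] [CharP P p] [Algebra.Smooth k P]
    (R S : CommRingCat.{u}) (π₁ : P →+* R) (π₂ : P →+* S)
    (hπ₁ : Function.Surjective π₁) (hπ₂ : Function.Surjective π₂)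
    (hker : RingHom.ker π₂ = (RingHom.ker π₁).map (frobenius P p))
    (F : R ⟶ S) (hF : ∀ c, F.hom (π₁ c) = π₂ (c ^ p)) :
    Quiet.IsPthRoot p (Spec.map F) := by
  intro x
  haveI : x.asIdeal.IsPrime := x.isPrime
  haveI : (x.asIdeal.comap π₁).IsPrime := Ideal.comap_isPrime π₁ x.asIdeal
  have hq : RingHom.ker π₁ ≤ x.asIdeal.comap π₁ := fun c hc => by
    show π₁ c ∈ x.asIdeal
    rw [RingHom.mem_ker.mp hc]
    exact x.asIdeal.zero_mem
  obtain ⟨f, hfq, n, _, _, hse⟩ :=
    Algebra.IsSmoothAt.exists_isStandardEtale_mvPolynomial (R := k) (p := x.asIdeal.comap π₁)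
  haveI : Algebra.Etale (MvPolynomial (Fin n) k) (Localization.Away f) := inferInstance
  refine ⟨⟨PrimeSpectrum.basicOpen (π₁ f), IsAffineOpen.Spec_basicOpen (π₁ f)⟩, hfq, ?_, ?_⟩
  · exact IsAffineOpen.Spec_basicOpen (F.hom (π₁ f))
  · refine ⟨n, ?_⟩
    haveI : IsLocalization.Away (F.hom (π₁ f))
        Γ(Spec S, (Spec.map F) ⁻¹ᵁ (PrimeSpectrum.basicOpen (π₁ f))) :=
      inferInstanceAs (IsLocalization.Away (F.hom (π₁ f))
        Γ(Spec S, PrimeSpectrum.basicOpen (F.hom (π₁ f))))
    exact isRootTower_of_quotient_localization p k P (x.asIdeal.comap π₁) f hfq n R S π₁ π₂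
      hπ₁ hπ₂ hq hker F.hom hF
      Γ(Spec R, PrimeSpectrum.basicOpen (π₁ f))
      Γ(Spec S, (Spec.map F) ⁻¹ᵁ (PrimeSpectrum.basicOpen (π₁ f)))
      (F.hom (π₁ f)) (by rw [hF, map_pow])
      ((Spec.map F).app (PrimeSpectrum.basicOpen (π₁ f))).hom
      (fun r => SpecMap_app_algebraMap F _ r)

/-! ## Regular sequences -/

open RingTheory.Sequence in
theorem isRegular_append_of_quotient {R : Type*} [CommRing R] (rs₁ rs₂ : List R) (J : Ideal R)
    (hJ : J = Ideal.ofList rs₁) (h1 : IsRegular R rs₁)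
    (h2 : IsRegular (R ⧸ J) (rs₂.map (Ideal.Quotient.mk J))) : IsRegular R (rs₁ ++ rs₂) := by
  subst hJ
  have hsub : (Ideal.ofList rs₁ • ⊤ : Submodule R R) = Ideal.ofList rs₁ := by
    rw [smul_eq_mul, Ideal.mul_top]
  constructor
  · rw [isWeaklyRegular_append_iff]
    refine ⟨h1.toIsWeaklyRegular, ?_⟩
    have hw : IsWeaklyRegular (R ⧸ Ideal.ofList rs₁) rs₂ :=
      (isWeaklyRegular_map_algebraMap_iff (R ⧸ Ideal.ofList rs₁) (R ⧸ Ideal.ofList rs₁)
        rs₂).mp h2.toIsWeaklyRegular
    exact ((Submodule.quotEquivOfEq _ _ hsub).isWeaklyRegular_congr rs₂).mpr hw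
  · intro htop
    apply h2.top_ne_smul
    have h3 : Ideal.ofList (rs₁ ++ rs₂) = ⊤ := by
      have h := htop.symm
      rwa [smul_eq_mul, Ideal.mul_top] at h
    rw [smul_eq_mul, Ideal.mul_top]
    symm
    rw [Ideal.eq_top_iff_one]
    have h4 : (1 : R) ∈ Ideal.ofList (rs₁ ++ rs₂) := h3 ▸ Submodule.mem_top
    have h5 : Ideal.Quotient.mk (Ideal.ofList rs₁) 1 ∈
        (Ideal.ofList (rs₁ ++ rs₂)).map (Ideal.Quotient.mk (Ideal.ofList rs₁)) :=
      Ideal.mem_map_of_mem _ h4
    rw [map_one] at h5
    have h6 : (Ideal.ofList (rs₁ ++ rs₂)).map (Ideal.Quotient.mk (Ideal.ofList rs₁)) ≤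
        Ideal.ofList (rs₂.map (Ideal.Quotient.mk (Ideal.ofList rs₁))) := by
      rw [Ideal.map_le_iff_le_comap]
      refine Ideal.span_le.mpr ?_
      intro x hx
      rcases List.mem_append.mp hx with hx1 | hx2
      · rw [SetLike.mem_coe, Ideal.mem_comap]
        have h0 : Ideal.Quotient.mk (Ideal.ofList rs₁) x = 0 :=
          Ideal.Quotient.eq_zero_iff_mem.mpr (Ideal.subset_span hx1)
        rw [h0]
        exact Ideal.zero_mem _
      · rw [SetLike.mem_coe, Ideal.mem_comap]
        exact Ideal.subset_span (List.mem_map_of_mem hx2)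
    exact h6 h5

theorem faithfullyFlat_twist (p : ℕ) [Fact p.Prime] (k : Type u) [Field k] [CharP k p]
    [PerfectRing k p] (P : Type u) [CommRing P] [Algebra k P] [CharP P p] [Algebra.Smooth k P] :
    Module.FaithfullyFlat P (Twist p P) := by
  rw [← RingHom.faithfullyFlat_algebraMap_iff]
  have h1 := frobenius_faithfullyFlat p k P
  have h2 : ((toTwist p P : P →+* Twist p P)).FaithfullyFlat :=
    .of_bijective (toTwist p P).bijective
  exact RingHom.FaithfullyFlat.stableUnderComposition _ _ h1 h2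

open RingTheory.Sequence in
theorem isRegular_map_frobenius (p : ℕ) [Fact p.Prime] (k : Type u) [Field k] [CharP k p]
    [PerfectRing k p] (P : Type u) [CommRing P] [Algebra k P] [CharP P p] [Algebra.Smooth k P]
    {rs : List P} (h : IsRegular P rs) : IsRegular P (rs.map (fun x => x ^ p)) := by
  haveI := faithfullyFlat_twist p k P
  have h2 := h.of_faithfullyFlat (S := Twist p P)
  exact h2

theorem smooth_mvPolynomial (A : Type u) [CommRing A] (r : ℕ) :
    Algebra.Smooth A (MvPolynomial (Fin r) A) :=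
  { formallySmooth := inferInstance, finitePresentation := inferInstance }

open RingTheory.Sequence in
theorem regular_part (p : ℕ) [Fact p.Prime] (k : Type u) [Field k] [CharP k p]
    [PerfectRing k p] (A : Type u) [CommRing A] [Algebra k A] [CharP A p] [Algebra.Smooth k A]
    (n : ℕ) (t : Fin n → A) (ht : IsRegular A (List.ofFn t)) (r m : ℕ)
    (v : Fin m → MvPolynomial (Fin r) A)
    (hv : IsRegular
      (MvPolynomial (Fin r) A ⧸ Ideal.span (Set.range fun i => MvPolynomial.C (t i) ^ p))
      (List.ofFn fun j => Ideal.Quotient.mk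
        (Ideal.span (Set.range fun i => MvPolynomial.C (t i) ^ p)) (v j))) :
    IsRegular (MvPolynomial (Fin r) A)
      (List.ofFn (fun i => MvPolynomial.C (t i) ^ (p ^ 2)) ++ List.ofFn (fun j => v j ^ p)) := by
  have hp : p.Prime := Fact.out
  haveI : Nontrivial A := CharP.nontrivial_of_char_ne_one (R := A) hp.ne_one
  haveI := smooth_mvPolynomial A r
  haveI : Algebra.Smooth k (MvPolynomial (Fin r) A) :=
    Algebra.Smooth.comp k A (MvPolynomial (Fin r) A)
  have h1 : IsRegular (MvPolynomial (Fin r) A)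
      ((List.ofFn t).map (algebraMap A (MvPolynomial (Fin r) A))) := ht.of_faithfullyFlat
  rw [List.map_ofFn] at h1
  have h1' : IsRegular (MvPolynomial (Fin r) A) (List.ofFn (fun i => MvPolynomial.C (t i))) := h1
  have h2 := isRegular_map_frobenius p k (MvPolynomial (Fin r) A) h1'
  rw [List.map_ofFn] at h2
  have h2' : IsRegular (MvPolynomial (Fin r) A)
      (List.ofFn (fun i => MvPolynomial.C (t i) ^ p)) := h2
  have hJ : Ideal.span (Set.range fun i => MvPolynomial.C (t i) ^ p) =
      Ideal.ofList (List.ofFn (fun i => (MvPolynomial.C (t i) : MvPolynomial (Fin r) A) ^ p)) := by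
    show _ = Ideal.span _
    congr 1
    ext x
    exact (List.mem_ofFn' _ x).symm
  have h3 : IsRegular (MvPolynomial (Fin r) A)
      (List.ofFn (fun i => MvPolynomial.C (t i) ^ p) ++ List.ofFn v) := by
    refine isRegular_append_of_quotient _ _ _ hJ h2' ?_
    rw [List.map_ofFn]
    exact hv
  have h4 := isRegular_map_frobenius p k (MvPolynomial (Fin r) A) h3
  rw [List.map_append, List.map_ofFn, List.map_ofFn] at h4
  have e1 : ((fun x : MvPolynomial (Fin r) A => x ^ p) ∘ fun i => MvPolynomial.C (t i) ^ p) =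
      fun i => MvPolynomial.C (t i) ^ (p ^ 2) := by
    funext i
    show (MvPolynomial.C (t i) ^ p) ^ p = _
    rw [← pow_mul, sq]
  rw [e1] at h4
  exact h4

/-! ## Main theorem for S19480 -/

open RingTheory.Sequence in
theorem main19480 (p : ℕ) [Fact p.Prime] (k : Type u) [Field k] [CharP k p] [PerfectRing k p]
    (A : Type u) [CommRing A] [Algebra k A] [CharP A p] [Algebra.Smooth k A] (n : ℕ)
    (t : Fin n → A) (ht : IsRegular A (List.ofFn t)) (r m : ℕ)
    (v : Fin m → MvPolynomial (Fin r) A)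
    (hv : IsRegular
      (MvPolynomial (Fin r) A ⧸ Ideal.span (Set.range fun i => MvPolynomial.C (t i) ^ p))
      (List.ofFn fun j => Ideal.Quotient.mk
        (Ideal.span (Set.range fun i => MvPolynomial.C (t i) ^ p)) (v j))) :
    IsRegular (MvPolynomial (Fin r) A)
        (List.ofFn (fun i => MvPolynomial.C (t i) ^ (p ^ 2)) ++ List.ofFn (fun j => v j ^ p)) ∧
      (Ideal.quotientMap ((Ideal.span (Set.range (fun i => MvPolynomial.C (t i) ^ p) ∪
        Set.range v)).map (frobenius (MvPolynomial (Fin r) A) p))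
        (frobenius (MvPolynomial (Fin r) A) p) Ideal.le_comap_map).FaithfullyFlat ∧
      Quiet.IsPthRoot p (Spec.map (CommRingCat.ofHom (Ideal.quotientMap
        ((Ideal.span (Set.range (fun i => MvPolynomial.C (t i) ^ p) ∪ Set.range v)).map
          (frobenius (MvPolynomial (Fin r) A) p))
        (frobenius (MvPolynomial (Fin r) A) p) Ideal.le_comap_map))) := by
  haveI := smooth_mvPolynomial A r
  haveI : Algebra.Smooth k (MvPolynomial (Fin r) A) :=
    Algebra.Smooth.comp k A (MvPolynomial (Fin r) A)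
  refine ⟨regular_part p k A n t ht r m v hv,
    faithfullyFlat_quotientMap (frobenius_faithfullyFlat p k (MvPolynomial (Fin r) A)) _, ?_⟩
  exact isPthRoot_SpecMap_quotient p k (MvPolynomial (Fin r) A)
    (CommRingCat.of (MvPolynomial (Fin r) A ⧸
      Ideal.span (Set.range (fun i => MvPolynomial.C (t i) ^ p) ∪ Set.range v)))
    (CommRingCat.of (MvPolynomial (Fin r) A ⧸
      (Ideal.span (Set.range (fun i => MvPolynomial.C (t i) ^ p) ∪ Set.range v)).map
        (frobenius (MvPolynomial (Fin r) A) p)))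
    (Ideal.Quotient.mk _) (Ideal.Quotient.mk _) Ideal.Quotient.mk_surjective
    Ideal.Quotient.mk_surjective (by rw [Ideal.mk_ker, Ideal.mk_ker]) _ (fun _ => rfl)

end Groth.Agent.Lib.PthRootH1
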