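import Mathlib
import Groth.Prelude.Def_Found
import Groth.Agent.Lib.AnUnramNagata2_helper3
import Groth.Agent.Lib.N1Descent_helper3

/-!
# `p`-th roots in the completion of a Nagata local domain descend (helper3)
APPEND-ONLY once landed.
-/

set_option autoImplicit false
universe u

namespace Groth.Agent.Lib.PthRootComplH3

open IsLocalRing TensorProduct Polynomial Groth.Agent.Lib.AnUnramNagataH3
  Groth.Agent.Lib.AnUnramNagata2H3

section AdjoinRootDomain

variable (A : Type u) [CommRing A] [IsDomain A]

/-- If a monic `f ∈ A[X]` is irreducible over the fraction field then `A[X]/(f)` is a domain. -/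
theorem isDomain_adjoinRoot_of_irreducible_map (f : A[X]) (hf : f.Monic)
    (hirr : Irreducible (f.map (algebraMap A (FractionRing A)))) :
    IsDomain (AdjoinRoot f) := by
  set K := FractionRing A
  set fK := f.map (algebraMap A K) with hfK
  haveI : Fact (Irreducible fK) := ⟨hirr⟩
  let φ : AdjoinRoot f →+* AdjoinRoot fK :=
    AdjoinRoot.lift ((AdjoinRoot.of fK).comp (algebraMap A K)) (AdjoinRoot.root fK) (by
      rw [← Polynomial.eval₂_map, ← hfK]
      exact AdjoinRoot.eval₂_root fK)
  have hφ : Function.Injective φ := by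
    rw [injective_iff_map_eq_zero]
    intro x hx
    obtain ⟨g, rfl⟩ := AdjoinRoot.mk_surjective x
    have h1 : φ (AdjoinRoot.mk f g) = AdjoinRoot.mk fK (g.map (algebraMap A K)) := by
      show AdjoinRoot.lift _ _ _ (AdjoinRoot.mk f g) = _
      rw [AdjoinRoot.lift_mk, ← Polynomial.eval₂_map, ← AdjoinRoot.aeval_eq]
      rfl
    rw [h1, AdjoinRoot.mk_eq_zero, hfK,
      Polynomial.map_dvd_map _ (IsFractionRing.injective A K) hf] at hx
    exact AdjoinRoot.mk_eq_zero.2 hx
  exact hφ.isDomain φ

end AdjoinRootDomain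

section Main

variable (A : Type u) [CommRing A] [IsDomain A] [IsLocalRing A]
  (R' : Type u) [CommRing R'] [IsLocalRing R'] [Algebra A R']

/-- `A` Nagata local domain of characteristic `p`, `R' ∈ 𝒞(A)`: any `a ∈ A` with a `p`-th root
in `R'` has a `p`-th root in `A`. -/
theorem exists_pth_root_of_inC (hA : CAlg.IsNagata A) (h : InC A R')
    (p : ℕ) [Fact p.Prime] [CharP A p] (a : A)
    (hα : ∃ α : R', α ^ p = algebraMap A R' a) : ∃ b : A, b ^ p = a := by
  haveI := hA.1
  haveI := h.noeth
  haveI := h.flat
  haveI := h.loc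
  haveI : Module.FaithfullyFlat A R' := Module.FaithfullyFlat.of_flat_of_isLocalHom
  have hinj : Function.Injective (algebraMap A R') :=
    FaithfulSMul.algebraMap_injective A R'
  haveI : CharP R' p := charP_of_injective_algebraMap hinj p
  have hp : p.Prime := Fact.out
  obtain ⟨n, hn⟩ := exists_nat_dim_le A
  haveI hred : IsReduced R' := isReduced_of_inC n A hA hn R' h
  obtain ⟨α, hα⟩ := hα
  set K := FractionRing A
  by_cases hK : ∃ x : K, x ^ p = algebraMap A K a
  · obtain ⟨x, hx⟩ := hK
    obtain ⟨b, c, hc, rfl⟩ := IsFractionRing.div_surjective (A := A) x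
    have hc0 : c ≠ 0 := nonZeroDivisors.ne_zero hc
    have hcK : algebraMap A K c ≠ 0 := by
      rw [Ne, map_eq_zero_iff _ (IsFractionRing.injective A K)]; exact hc0
    have h1 : b ^ p = a * c ^ p := by
      apply IsFractionRing.injective A K
      rw [map_pow, map_mul, map_pow, ← hx, div_pow, div_mul_cancel₀ _ (pow_ne_zero _ hcK)]
    -- in R'
    have h2 : (algebraMap A R' c * α - algebraMap A R' b) ^ p = 0 := by
      rw [sub_pow_char, mul_pow, hα, ← map_pow, ← map_pow, ← map_mul, h1, mul_comm, sub_self]
    have h3 : algebraMap A R' c * α = algebraMap A R' b := by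
      have := IsReduced.eq_zero _ ⟨p, h2⟩
      exact sub_eq_zero.1 this
    have h4 : b ∈ Ideal.span {c} := by
      rw [← Ideal.comap_map_eq_self_of_faithfullyFlat (B := R') (Ideal.span {c})]
      show algebraMap A R' b ∈ (Ideal.span {c}).map (algebraMap A R')
      rw [← h3, Ideal.map_span, Set.image_singleton]
      exact Ideal.mul_mem_right _ _ (Ideal.mem_span_singleton_self _)
    obtain ⟨d, rfl⟩ := Ideal.mem_span_singleton'.1 h4
    refine ⟨d, ?_⟩
    rw [mul_pow] at h1
    have h5 : c ^ p * d ^ p = c ^ p * a := by rw [mul_comm (c ^ p), h1, mul_comm]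
    exact mul_left_cancel₀ (pow_ne_zero _ hc0) h5
  · exfalso
    push Not at hK
    have hirrK : Irreducible (X ^ p - C (algebraMap A K a) : K[X]) :=
      X_pow_sub_C_irreducible_of_prime hp hK
    set f : A[X] := X ^ p - C a with hf
    have hmonic : f.Monic := monic_X_pow_sub_C a hp.ne_zero
    have hfmap : f.map (algebraMap A K) = X ^ p - C (algebraMap A K a) := by
      simp [hf]
    have hdeg : f.natDegree = p := natDegree_X_pow_sub_C
    haveI : IsDomain (AdjoinRoot f) :=
      isDomain_adjoinRoot_of_irreducible_map A f hmonic (by rw [hfmap]; exact hirrK)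
    haveI : Module.Finite A (AdjoinRoot f) := hmonic.finite_adjoinRoot
    haveI hredT : IsReduced (AdjoinRoot f ⊗[A] R') :=
      isReduced_tensor_of_finite_domain A R' hA h (AdjoinRoot f)
    haveI hredT' : IsReduced (R' ⊗[A] AdjoinRoot f) :=
      isReduced_of_injective (Algebra.TensorProduct.comm A R' (AdjoinRoot f)).toRingHom
        (Algebra.TensorProduct.comm A R' (AdjoinRoot f)).injective
    -- the nilpotent element
    set z : R' ⊗[A] AdjoinRoot f := (1 : R') ⊗ₜ[A] AdjoinRoot.root f - α ⊗ₜ[A] (1 : AdjoinRoot f)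
      with hz
    have hinj2 : Function.Injective (algebraMap R' (R' ⊗[A] AdjoinRoot f)) := by
      haveI : Module.Free A (AdjoinRoot f) := hmonic.free_adjoinRoot
      exact Algebra.TensorProduct.includeLeft_injective (S := A)
        (FaithfulSMul.algebraMap_injective A (AdjoinRoot f))
    haveI : CharP (R' ⊗[A] AdjoinRoot f) p := charP_of_injective_algebraMap hinj2 p
    have hroot : AdjoinRoot.root f ^ p = algebraMap A (AdjoinRoot f) a := by
      have := AdjoinRoot.eval₂_root f
      rw [hf, eval₂_sub, eval₂_pow, eval₂_X, eval₂_C, sub_eq_zero] at this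
      exact this
    have hzp : z ^ p = 0 := by
      rw [hz, sub_pow_char, Algebra.TensorProduct.tmul_pow, Algebra.TensorProduct.tmul_pow,
        one_pow, one_pow, hroot, hα, Algebra.algebraMap_eq_smul_one, Algebra.algebraMap_eq_smul_one,
        TensorProduct.smul_tmul, sub_self]
    have hz0 : z = 0 := IsReduced.eq_zero _ ⟨p, hzp⟩
    -- coefficient computation
    let pb := AdjoinRoot.powerBasis' hmonic
    have hdim : pb.dim = p := by rw [AdjoinRoot.powerBasis'_dim, hdeg]
    let bs := Algebra.TensorProduct.basis R' pb.basis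
    let i1 : Fin pb.dim := ⟨1, by rw [hdim]; exact hp.one_lt⟩
    let i0 : Fin pb.dim := ⟨0, by rw [hdim]; exact hp.pos⟩
    have hb1 : pb.basis i1 = AdjoinRoot.root f := by
      rw [PowerBasis.basis_eq_pow]; simp [pb, i1]
    have hb0 : pb.basis i0 = 1 := by
      rw [PowerBasis.basis_eq_pow]; simp [i0]
    have h01 : i0 ≠ i1 := by
      intro h; have := congrArg Fin.val h; simp [i0, i1] at this
    have hrepr : bs.repr z i1 = 1 := by
      rw [hz, map_sub, ← hb1, ← hb0]
      simp only [bs, Algebra.TensorProduct.basis_repr_tmul, Module.Basis.repr_self,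
        Finsupp.coe_sub, Pi.sub_apply, Finsupp.smul_apply, Finsupp.mapRange_apply,
        Finsupp.single_eq_same, Finsupp.single_eq_of_ne h01.symm, map_one, map_zero, smul_eq_mul,
        mul_one, mul_zero, sub_zero, one_smul]
    rw [hz0, map_zero, Finsupp.zero_apply] at hrepr
    exact zero_ne_one hrepr

end Main

end Groth.Agent.Lib.PthRootComplH3
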