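import Mathlib

/-!
# Integral closure in a purely inseparable degree `p` extension, via a derivation (helper3)
APPEND-ONLY once landed.
-/

set_option autoImplicit false
universe u

namespace Groth.Agent.Lib.PthRootICH3

section Core

variable (R : Type u) [CommRing R] [IsDomain R] [IsNoetherianRing R] [IsIntegrallyClosed R]
  (K : Type u) [Field K] [Algebra R K] [IsFractionRing R K] (p : ℕ) [Fact p.Prime] [CharP K p]
  (D : Derivation ℤ K K) (hD : ∀ r : R, ∃ s : R, D (algebraMap R K r) = algebraMap R K s)
  (L : Type u) [Field L] [Algebra K L] [Algebra R L] [IsScalarTower R K L]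

omit [IsFractionRing R K] in
theorem D_pow_mul (c a : K) (j : ℕ) :
    D (c ^ p * a ^ j) = c ^ p * ((j : K) * a ^ (j - 1) * D a) := by
  rw [Derivation.leibniz, Derivation.leibniz_pow, Derivation.leibniz_pow]
  simp only [smul_eq_mul, nsmul_eq_mul, CharP.cast_eq_zero, zero_mul, mul_zero, add_zero]
  ring

omit [IsFractionRing R K] in
theorem natCast_pow_char (n : ℕ) : ((n : ℕ) : K) ^ p = (n : K) := by
  have := map_natCast (frobenius K p) n
  rwa [frobenius_def] at this

include hD in
set_option maxHeartbeats 1000000 in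
theorem key (a₀ : R) (x : L) (hx : x ^ p = algebraMap K L (algebraMap R K a₀)) :
    ∀ (i : ℕ), i < p → ∀ (c : ℕ → K),
      IsIntegral R (∑ j ∈ Finset.range (i + 1), algebraMap K L (c j) * x ^ j) →
      ∀ j ≤ i, ∃ r : R, algebraMap R K r = D (algebraMap R K a₀) ^ i * c j := by
  have hp := (Fact.out : p.Prime)
  haveI : CharP L p := charP_of_injective_algebraMap (algebraMap K L).injective p
  have hinjKL := (algebraMap K L).injective
  have hxint : IsIntegral R x := by
    apply IsIntegral.of_pow hp.pos
    rw [hx, ← IsScalarTower.algebraMap_apply]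
    exact isIntegral_algebraMap
  have hRK : ∀ w : K, IsIntegral R (algebraMap K L w) → ∃ r : R, algebraMap R K r = w := by
    intro w hw
    have h1 : IsIntegral R w := (isIntegral_algebraMap_iff hinjKL).mp hw
    exact IsIntegrallyClosed.isIntegral_iff.mp h1
  have hKL : ∀ r : R, IsIntegral R (algebraMap K L (algebraMap R K r)) := by
    intro r
    rw [← IsScalarTower.algebraMap_apply]
    exact isIntegral_algebraMap
  obtain ⟨d₀, hd₀⟩ := hD a₀
  intro i
  induction i with
  | zero =>
    intro _ c hc j hj
    obtain rfl : j = 0 := Nat.le_zero.mp hj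
    simp only [zero_add, Finset.range_one, Finset.sum_singleton, pow_zero, mul_one] at hc
    obtain ⟨r, hr⟩ := hRK _ hc
    exact ⟨r, by rw [hr, pow_zero, one_mul]⟩
  | succ i ih =>
    intro hi c hc
    have hi' : i < p := by omega
    -- the element `e = y ^ p`
    have he : algebraMap K L (∑ j ∈ Finset.range (i + 1 + 1), c j ^ p * (algebraMap R K a₀) ^ j) =
        (∑ j ∈ Finset.range (i + 1 + 1), algebraMap K L (c j) * x ^ j) ^ p := by
      rw [sum_pow_char, map_sum]
      refine Finset.sum_congr rfl fun j _ => ?_
      rw [mul_pow, ← pow_mul, mul_comm j p, pow_mul, hx, map_mul, map_pow, map_pow]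
    obtain ⟨e₀, he₀⟩ := hRK _ (by rw [he]; exact hc.pow p)
    obtain ⟨s, hs⟩ := hD e₀
    have hDe : D (∑ j ∈ Finset.range (i + 1 + 1), c j ^ p * (algebraMap R K a₀) ^ j) =
        ∑ j ∈ Finset.range (i + 1), ((j + 1 : ℕ) : K) * D (algebraMap R K a₀) * c (j + 1) ^ p *
          (algebraMap R K a₀) ^ j := by
      rw [map_sum, Finset.sum_range_succ']
      simp only [D_pow_mul K p D]
      simp only [Nat.cast_zero, zero_mul, mul_zero, add_zero, Nat.add_sub_cancel]
      refine Finset.sum_congr rfl fun j _ => ?_
      ring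
    -- the element `z`
    have hz : algebraMap K L (D (algebraMap R K a₀) ^ (p - 1) *
        D (∑ j ∈ Finset.range (i + 1 + 1), c j ^ p * (algebraMap R K a₀) ^ j)) =
        (∑ j ∈ Finset.range (i + 1), algebraMap K L (((j + 1 : ℕ) : K) *
          D (algebraMap R K a₀) * c (j + 1)) * x ^ j) ^ p := by
      rw [sum_pow_char, hDe, Finset.mul_sum, map_sum]
      refine Finset.sum_congr rfl fun j _ => ?_
      rw [mul_pow, ← pow_mul, mul_comm j p, pow_mul, hx, ← map_pow (algebraMap K L),
        ← map_pow (algebraMap K L), ← map_mul (algebraMap K L)]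
      congr 1
      rw [mul_pow, mul_pow, natCast_pow_char K p]
      have h1 : D (algebraMap R K a₀) ^ p =
          D (algebraMap R K a₀) ^ (p - 1) * D (algebraMap R K a₀) :=
        (pow_sub_one_mul hp.ne_zero _).symm
      rw [h1]
      ring
    have hzint : IsIntegral R (∑ j ∈ Finset.range (i + 1), algebraMap K L (((j + 1 : ℕ) : K) *
          D (algebraMap R K a₀) * c (j + 1)) * x ^ j) := by
      apply IsIntegral.of_pow hp.pos
      rw [← hz, ← he₀, hs, hd₀, ← map_pow, ← map_mul]
      exact hKL _
    have ih' := ih hi' (fun j => ((j + 1 : ℕ) : K) * D (algebraMap R K a₀) * c (j + 1)) hzint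
    -- the coefficients of positive index
    have hsucc : ∀ j ≤ i, ∃ r : R,
        algebraMap R K r = D (algebraMap R K a₀) ^ (i + 1) * c (j + 1) := by
      intro j hj
      obtain ⟨r, hr⟩ := ih' j hj
      have hcop : Nat.Coprime (j + 1) p :=
        ((Nat.Prime.coprime_iff_not_dvd hp).mpr
          (Nat.not_dvd_of_pos_of_lt (Nat.succ_pos j) (by omega))).symm
      obtain ⟨m, -, hm⟩ := Nat.exists_mul_mod_eq_one_of_coprime hcop hp.one_lt
      have hm' : ((j + 1 : ℕ) : K) * (m : K) = 1 := by
        have h1 : p * ((j + 1) * m / p) + (j + 1) * m % p = (j + 1) * m := Nat.div_add_mod _ _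
        calc ((j + 1 : ℕ) : K) * (m : K) = (((j + 1) * m : ℕ) : K) := by push_cast; ring
          _ = ((p * ((j + 1) * m / p) + (j + 1) * m % p : ℕ) : K) := by rw [h1]
          _ = 1 := by
            rw [hm]
            push_cast
            rw [CharP.cast_eq_zero]
            ring
      refine ⟨(m : R) * r, ?_⟩
      rw [map_mul, map_natCast, hr, pow_succ]
      calc (m : K) * (D (algebraMap R K a₀) ^ i * (((j + 1 : ℕ) : K) * D (algebraMap R K a₀) *
            c (j + 1)))
          = (((j + 1 : ℕ) : K) * (m : K)) * (D (algebraMap R K a₀) ^ i * D (algebraMap R K a₀) *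
            c (j + 1)) := by ring
        _ = D (algebraMap R K a₀) ^ i * D (algebraMap R K a₀) * c (j + 1) := by
          rw [hm', one_mul]
    intro j hj
    rcases Nat.eq_zero_or_eq_succ_pred j with h0 | h1
    · subst h0
      apply hRK
      have hsplit : algebraMap K L (D (algebraMap R K a₀) ^ (i + 1) * c 0) =
          algebraMap K L (D (algebraMap R K a₀) ^ (i + 1)) *
            (∑ j ∈ Finset.range (i + 1 + 1), algebraMap K L (c j) * x ^ j) -
          ∑ j ∈ Finset.range (i + 1), algebraMap K L (D (algebraMap R K a₀) ^ (i + 1) *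
            c (j + 1)) * x ^ (j + 1) := by
        rw [Finset.sum_range_succ' _ (i + 1), mul_add, Finset.mul_sum, pow_zero, mul_one,
          map_mul]
        have : ∀ j ∈ Finset.range (i + 1),
            algebraMap K L (D (algebraMap R K a₀) ^ (i + 1)) *
              (algebraMap K L (c (j + 1)) * x ^ (j + 1)) =
            algebraMap K L (D (algebraMap R K a₀) ^ (i + 1) * c (j + 1)) * x ^ (j + 1) := by
          intro j _
          rw [map_mul, mul_assoc]
        rw [Finset.sum_congr rfl this]
        ring
      rw [hsplit]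
      refine IsIntegral.sub (IsIntegral.mul ?_ hc) (IsIntegral.sum _ fun j' hj' => ?_)
      · rw [hd₀, ← map_pow]
        exact hKL _
      · obtain ⟨r, hr⟩ := hsucc j' (by have := Finset.mem_range.mp hj'; omega)
        rw [← hr]
        exact (hKL r).mul (hxint.pow _)
    · rw [h1]
      exact hsucc (j.pred) (by omega)

include hD in
set_option maxHeartbeats 1000000 in
theorem core (a₀ : R) (ha : D (algebraMap R K a₀) ≠ 0) (x : L)
    (hx : x ^ p = algebraMap K L (algebraMap R K a₀))
    (hgen : IntermediateField.adjoin K {x} = ⊤) : Module.Finite R (integralClosure R L) := by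
  have hp := (Fact.out : p.Prime)
  -- spanning
  have hspan : ∀ y : L, ∃ c : ℕ → K, y = ∑ j ∈ Finset.range p, algebraMap K L (c j) * x ^ j := by
    intro y
    have hxalg : IsAlgebraic K x :=
      (IsIntegral.of_pow hp.pos (hx ▸ isIntegral_algebraMap)).isAlgebraic
    have hy : y ∈ (IntermediateField.adjoin K {x}).toSubalgebra := by
      rw [hgen]
      trivial
    rw [IntermediateField.adjoin_simple_toSubalgebra_of_isAlgebraic hxalg,
      Algebra.adjoin_singleton_eq_range_aeval] at hy
    obtain ⟨f, rfl⟩ := hy
    have hg : (Polynomial.X ^ p - Polynomial.C (algebraMap R K a₀) : Polynomial K).Monic :=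
      Polynomial.monic_X_pow_sub_C _ hp.ne_zero
    have hgdeg : (Polynomial.X ^ p - Polynomial.C (algebraMap R K a₀) : Polynomial K).natDegree
        = p := Polynomial.natDegree_X_pow_sub_C
    have hg1 : (Polynomial.X ^ p - Polynomial.C (algebraMap R K a₀) : Polynomial K) ≠ 1 := by
      intro h
      have h2 := congrArg Polynomial.natDegree h
      rw [hgdeg, Polynomial.natDegree_one] at h2
      exact hp.ne_zero h2
    have hgx : Polynomial.aeval x
        (Polynomial.X ^ p - Polynomial.C (algebraMap R K a₀) : Polynomial K) = 0 := by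
      simp [hx]
    have hf : Polynomial.aeval x f = Polynomial.aeval x
        (f %ₘ (Polynomial.X ^ p - Polynomial.C (algebraMap R K a₀) : Polynomial K)) := by
      conv_lhs => rw [← Polynomial.modByMonic_add_div f
        (Polynomial.X ^ p - Polynomial.C (algebraMap R K a₀) : Polynomial K)]
      rw [map_add, map_mul, hgx, zero_mul, add_zero]
    refine ⟨fun j => (f %ₘ (Polynomial.X ^ p - Polynomial.C (algebraMap R K a₀) :
      Polynomial K)).coeff j, ?_⟩
    show Polynomial.aeval x f = _
    rw [hf, Polynomial.aeval_eq_sum_range' (n := p)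
      (lt_of_lt_of_eq (Polynomial.natDegree_modByMonic_lt f hg hg1) hgdeg)]
    simp only [Algebra.smul_def]
  let N : Submodule R L := Submodule.span R (Set.range fun j : Fin p =>
    algebraMap K L ((D (algebraMap R K a₀))⁻¹ ^ (p - 1)) * x ^ (j : ℕ))
  have hN : N.FG := Submodule.fg_span (Set.finite_range _)
  haveI : IsNoetherian R N := isNoetherian_of_fg_of_noetherian N hN
  have hle : Subalgebra.toSubmodule (integralClosure R L) ≤ N := by
    intro y hy
    obtain ⟨c, rfl⟩ := hspan y
    have hy' : IsIntegral R (∑ j ∈ Finset.range ((p - 1) + 1), algebraMap K L (c j) * x ^ j) := by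
      rw [Nat.sub_add_cancel hp.pos]
      exact hy
    have hk := key R K p D hD L a₀ x hx (p - 1) (Nat.sub_lt hp.pos one_pos) c hy'
    refine Submodule.sum_mem _ fun j hj => ?_
    have hj' : j < p := Finset.mem_range.mp hj
    obtain ⟨r, hr⟩ := hk j (by omega)
    have h1 : algebraMap K L (c j) * x ^ j =
        r • (algebraMap K L ((D (algebraMap R K a₀))⁻¹ ^ (p - 1)) * x ^ j) := by
      rw [Algebra.smul_def, IsScalarTower.algebraMap_apply R K L, hr, ← mul_assoc, ← map_mul]
      congr 2
      rw [mul_comm (D (algebraMap R K a₀) ^ (p - 1)), mul_assoc, ← mul_pow,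
        mul_inv_cancel₀ ha, one_pow, mul_one]
    rw [h1]
    exact Submodule.smul_mem _ r (Submodule.subset_span ⟨⟨j, hj'⟩, rfl⟩)
  exact Module.Finite.of_injective (Submodule.inclusion hle) (Submodule.inclusion_injective hle)

include hD in
theorem main (a : K) (ha : D a ≠ 0) (x : L) (hx : x ^ p = algebraMap K L a)
    (hgen : IntermediateField.adjoin K {x} = ⊤) : Module.Finite R (integralClosure R L) := by
  have hp := (Fact.out : p.Prime)
  obtain ⟨r, s, hs, rfl⟩ := IsFractionRing.div_surjective (A := R) a
  have hs0 : algebraMap R K s ≠ 0 :=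
    IsFractionRing.to_map_ne_zero_of_mem_nonZeroDivisors hs
  have hpow : algebraMap R K s ^ p = algebraMap R K s ^ (p - 1) * algebraMap R K s :=
    (pow_sub_one_mul hp.ne_zero _).symm
  have ha₀ : algebraMap R K (r * s ^ (p - 1)) =
      algebraMap R K s ^ p * (algebraMap R K r / algebraMap R K s) := by
    rw [map_mul, map_pow, hpow, mul_assoc, mul_div_cancel₀ _ hs0, mul_comm]
  have hDa₀ : D (algebraMap R K (r * s ^ (p - 1))) ≠ 0 := by
    rw [ha₀, Derivation.leibniz, Derivation.leibniz_pow]
    simp only [smul_eq_mul, nsmul_eq_mul, CharP.cast_eq_zero, zero_mul, mul_zero, add_zero]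
    exact mul_ne_zero (pow_ne_zero _ hs0) ha
  have hx' : (algebraMap K L (algebraMap R K s) * x) ^ p =
      algebraMap K L (algebraMap R K (r * s ^ (p - 1))) := by
    rw [mul_pow, hx, ha₀, map_mul, map_pow]
  have hgen' : IntermediateField.adjoin K {algebraMap K L (algebraMap R K s) * x} = ⊤ := by
    apply top_le_iff.mp
    rw [← hgen, IntermediateField.adjoin_simple_le_iff]
    have h1 : x = (algebraMap K L (algebraMap R K s))⁻¹ *
        (algebraMap K L (algebraMap R K s) * x) := by
      rw [← mul_assoc, inv_mul_cancel₀ ((map_ne_zero _).mpr hs0), one_mul]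
    have h2 : (algebraMap K L (algebraMap R K s))⁻¹ *
        (algebraMap K L (algebraMap R K s) * x) ∈
        IntermediateField.adjoin K {algebraMap K L (algebraMap R K s) * x} :=
      mul_mem (inv_mem (IntermediateField.algebraMap_mem _ _))
        (IntermediateField.mem_adjoin_simple_self K _)
    rwa [← h1] at h2
  exact core R K p D hD L (r * s ^ (p - 1)) hDa₀ _ hx' hgen'

end Core

end Groth.Agent.Lib.PthRootICH3
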