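import Mathlib

set_option maxSynthPendingDepth 3

/-!
# Forms of degree `n - 1` through `n` points of the projective plane (lead)
-/

namespace Groth.Agent.Lib.PtsP2

open MvPolynomial

universe u

variable {k : Type u} [Field k]

/-- the linear form with coefficient vector `a`. -/
noncomputable def lin (a : Fin 3 → k) : MvPolynomial (Fin 3) k := ∑ i, C (a i) * X i

lemma lin_isHomogeneous (a : Fin 3 → k) : (lin a).IsHomogeneous 1 := by
  unfold lin
  apply IsHomogeneous.sum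
  intro i _
  exact isHomogeneous_C_mul_X (a i) i

lemma aeval_lin (a v : Fin 3 → k) : aeval v (lin a) = ∑ i, a i * v i := by
  unfold lin
  rw [map_sum]
  apply Finset.sum_congr rfl
  intro i _
  rw [map_mul, aeval_C, aeval_X]
  rfl

lemma exists_coeffs (f : (Fin 3 → k) →ₗ[k] k) :
    ∃ a : Fin 3 → k, ∀ x : Fin 3 → k, ∑ i, a i * x i = f x := by
  refine ⟨fun i => f (fun j => if i = j then 1 else 0), fun x => ?_⟩
  rw [LinearMap.pi_apply_eq_sum_univ f x]
  apply Finset.sum_congr rfl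
  intro i _
  rw [smul_eq_mul, mul_comm]

lemma eq_zero_of_map_eq_bot {V : Type*} [AddCommGroup V] [Module k V] {p : Submodule k V}
    {f : Module.Dual k V} (h : p.map f = ⊥) {x : V} (hx : x ∈ p) : f x = 0 := by
  have h1 : f x ∈ p.map f := Submodule.mem_map_of_mem hx
  rw [h] at h1
  exact (Submodule.mem_bot k).mp h1

theorem exists_sep {v w : Fin 3 → k} (h : LinearIndependent k ![v, w]) :
    ∃ a : Fin 3 → k, (∑ i, a i * w i = 0) ∧ (∑ i, a i * v i ≠ 0) := by
  have hv : v ∉ Submodule.span k ({w} : Set (Fin 3 → k)) := by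
    intro hmem
    obtain ⟨c, hc⟩ := Submodule.mem_span_singleton.mp hmem
    rw [LinearIndependent.pair_iff] at h
    have := (h 1 (-c) (by rw [one_smul, neg_smul, hc, add_neg_cancel])).1
    exact one_ne_zero this
  obtain ⟨f, hfv, hfmap⟩ := Submodule.exists_dual_map_eq_bot_of_notMem hv inferInstance
  obtain ⟨a, ha⟩ := exists_coeffs f
  refine ⟨a, ?_, ?_⟩
  · rw [ha]; exact eq_zero_of_map_eq_bot hfmap (Submodule.mem_span_singleton_self w)
  · rw [ha]; exact hfv

theorem exists_form_sep' (S : Finset (Fin 3 → k)) (v₀ : Fin 3 → k)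
    (hS : ∀ w ∈ S, LinearIndependent k ![v₀, w]) :
    ∃ F : MvPolynomial (Fin 3) k, F.IsHomogeneous S.card ∧ (∀ w ∈ S, aeval w F = 0) ∧
      aeval v₀ F ≠ 0 := by
  classical
  have hex : ∀ w : Fin 3 → k, ∃ a : Fin 3 → k, w ∈ S →
      ((∑ i, a i * w i = 0) ∧ (∑ i, a i * v₀ i ≠ 0)) := by
    intro w
    by_cases hw : w ∈ S
    · obtain ⟨a, h1, h2⟩ := exists_sep (hS w hw)
      exact ⟨a, fun _ => ⟨h1, h2⟩⟩
    · exact ⟨0, fun h => absurd h hw⟩
  choose a ha using hex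
  refine ⟨∏ w ∈ S, lin (a w), ?_, ?_, ?_⟩
  · have := IsHomogeneous.prod S (fun w => lin (a w)) (fun _ => 1)
      (fun w _ => lin_isHomogeneous (a w))
    rwa [Finset.sum_const, smul_eq_mul, mul_one] at this
  · intro w hw
    rw [map_prod]
    exact Finset.prod_eq_zero hw (by rw [aeval_lin]; exact (ha w hw).1)
  · rw [map_prod, Finset.prod_ne_zero_iff]
    intro w hw
    rw [aeval_lin]
    exact (ha w hw).2

theorem exists_form_sep (Λ : Finset (Fin 3 → k))
    (hdist : ∀ v ∈ Λ, ∀ w ∈ Λ, v ≠ w → LinearIndependent k ![v, w])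
    (v₀ : Fin 3 → k) (hv₀ : v₀ ∈ Λ) :
    ∃ F : MvPolynomial (Fin 3) k, F.IsHomogeneous (Λ.card - 1) ∧
      (∀ w ∈ Λ, w ≠ v₀ → aeval w F = 0) ∧ aeval v₀ F ≠ 0 := by
  classical
  obtain ⟨F, h1, h2, h3⟩ := exists_form_sep' (Λ.erase v₀) v₀
    (fun w hw => hdist v₀ hv₀ w (Finset.mem_of_mem_erase hw) (Finset.ne_of_mem_erase hw).symm)
  rw [Finset.card_erase_of_mem hv₀] at h1
  exact ⟨F, h1, fun w hw hne => h2 w (Finset.mem_erase.mpr ⟨hne, hw⟩), h3⟩

theorem finrank_homogeneous (d : ℕ) :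
    Module.finrank k (homogeneousSubmodule (Fin 3) k d) = (d + 2).choose 2 := by
  classical
  have hmemT : ∀ m : Fin 3 →₀ ℕ,
      m ∈ (Finset.univ : Finset (Fin 3)).finsuppAntidiag d ↔ m.degree = d := by
    intro m
    rw [Finset.mem_finsuppAntidiag, Finsupp.degree_eq_sum]
    exact ⟨fun h => h.1, fun h => ⟨h, Finset.subset_univ _⟩⟩
  let Φ : ↥(homogeneousSubmodule (Fin 3) k d) →ₗ[k]
      (((Finset.univ : Finset (Fin 3)).finsuppAntidiag d) → k) :=
    { toFun := fun p t => coeff t.1 p.1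
      map_add' := fun p q => by ext t; simp
      map_smul' := fun c p => by ext t; simp }
  have hinj : Function.Injective Φ := by
    rw [injective_iff_map_eq_zero]
    intro p hp
    apply Subtype.ext
    ext m
    by_cases hm : m ∈ (Finset.univ : Finset (Fin 3)).finsuppAntidiag d
    · have h2 : coeff m p.1 = 0 := congrFun hp ⟨m, hm⟩
      rw [h2]; simp
    · have h1 : p.1.IsHomogeneous d := (mem_homogeneousSubmodule d p.1).mp p.2
      rw [h1.coeff_eq_zero (fun h => hm ((hmemT m).mpr h))]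
      simp
  have hsurj : Function.Surjective Φ := by
    intro g
    refine ⟨⟨∑ t : ((Finset.univ : Finset (Fin 3)).finsuppAntidiag d), monomial t.1 (g t), ?_⟩, ?_⟩
    · rw [mem_homogeneousSubmodule]
      apply IsHomogeneous.sum
      intro t _
      exact isHomogeneous_monomial _ ((hmemT t.1).mp t.2)
    · funext t'
      change coeff t'.1 (∑ t : ((Finset.univ : Finset (Fin 3)).finsuppAntidiag d),
        monomial t.1 (g t)) = g t'
      rw [coeff_sum]
      simp only [coeff_monomial]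
      rw [Finset.sum_eq_single t']
      · simp
      · intro t _ hne
        rw [if_neg]
        intro h
        exact hne (Subtype.ext h)
      · intro h; exact absurd (Finset.mem_univ _) h
  have e := LinearEquiv.ofBijective Φ ⟨hinj, hsurj⟩
  rw [e.finrank_eq, Module.finrank_fintype_fun_eq_card, Fintype.card_coe,
    Finset.card_finsuppAntidiag_nat_eq_choose, Finset.card_univ, Fintype.card_fin]
  have h3 : 3 + d - 1 = d + 2 := by omega
  rw [h3, Nat.choose_symm_add]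

lemma mem_forms_iff (d : ℕ) (Λ : Finset (Fin 3 → k)) (F : MvPolynomial (Fin 3) k) :
    F ∈ (homogeneousSubmodule (Fin 3) k d ⊓
      ⨅ v ∈ Λ, LinearMap.ker (aeval v).toLinearMap) ↔
      F.IsHomogeneous d ∧ ∀ v ∈ Λ, aeval v F = 0 := by
  simp only [Submodule.mem_inf, Submodule.mem_iInf, LinearMap.mem_ker,
    AlgHom.toLinearMap_apply, mem_homogeneousSubmodule]

theorem finrank_forms (d : ℕ) (Λ : Finset (Fin 3 → k)) (hd : Λ.card - 1 = d)
    (hdist : ∀ v ∈ Λ, ∀ w ∈ Λ, v ≠ w → LinearIndependent k ![v, w])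
    (H : Submodule k (MvPolynomial (Fin 3) k)) (hH : H = homogeneousSubmodule (Fin 3) k d) :
    Module.finrank k ↥(H ⊓ ⨅ v ∈ Λ, LinearMap.ker (aeval v).toLinearMap) + Λ.card
      = (d + 2).choose 2 := by
  classical
  have hHfin : Module.finrank k ↥H = (d + 2).choose 2 := by
    rw [hH]; exact finrank_homogeneous d
  haveI hfin : Module.Finite k ↥H := by
    rw [hH]; exact Module.Finite.iff_fg.mpr (homogeneousSubmodule_fg (Fin 3) k d)
  let Ψ : MvPolynomial (Fin 3) k →ₗ[k] (Λ → k) :=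
    LinearMap.pi (fun v : Λ => (aeval (v : Fin 3 → k)).toLinearMap)
  have hker : (⨅ v ∈ Λ, LinearMap.ker (aeval v).toLinearMap) = LinearMap.ker Ψ := by
    ext p
    rw [LinearMap.mem_ker]
    constructor
    · intro h
      funext v
      have h1 := (Submodule.mem_iInf _).mp ((Submodule.mem_iInf _).mp h v.1) v.2
      exact LinearMap.mem_ker.mp h1
    · intro h
      refine (Submodule.mem_iInf _).mpr (fun v => (Submodule.mem_iInf _).mpr (fun hv => ?_))
      exact LinearMap.mem_ker.mpr (congrFun h ⟨v, hv⟩)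
  let f : ↥H →ₗ[k] (Λ → k) := Ψ ∘ₗ H.subtype
  have hf : f = Ψ ∘ₗ H.subtype := rfl
  have hsurj : Function.Surjective f := by
    intro g
    have hF : ∀ v : Λ, ∃ F : MvPolynomial (Fin 3) k, F.IsHomogeneous d ∧
        (∀ w ∈ Λ, w ≠ v.1 → aeval w F = 0) ∧ aeval v.1 F ≠ 0 := by
      intro v
      have := exists_form_sep Λ hdist v.1 v.2
      rwa [hd] at this
    choose F hFhom hFvan hFv using hF
    refine ⟨⟨∑ v : Λ, C (g v / aeval v.1 (F v)) * F v, ?_⟩, ?_⟩
    · rw [hH, mem_homogeneousSubmodule]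
      apply IsHomogeneous.sum
      intro v _
      exact (hFhom v).C_mul _
    · funext w
      change aeval w.1 (∑ v : Λ, C (g v / aeval v.1 (F v)) * F v) = g w
      rw [map_sum, Finset.sum_eq_single w]
      · rw [map_mul, aeval_C]
        exact div_mul_cancel₀ _ (hFv w)
      · intro v _ hvw
        rw [map_mul, hFvan v w.1 w.2 (fun h => hvw (Subtype.ext h.symm)), mul_zero]
      · intro h; exact absurd (Finset.mem_univ _) h
  have hrange : LinearMap.range f = ⊤ := LinearMap.range_eq_top.mpr hsurj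
  have h1 := LinearMap.finrank_range_add_finrank_ker f
  rw [hrange, finrank_top, Module.finrank_fintype_fun_eq_card, Fintype.card_coe, hHfin] at h1
  have h2 : H ⊓ (⨅ v ∈ Λ, LinearMap.ker (aeval v).toLinearMap)
      = Submodule.map H.subtype (LinearMap.ker f) := by
    rw [hker, ← Submodule.map_comap_subtype, ← LinearMap.ker_comp]
  rw [h2, ← (Submodule.equivMapOfInjective H.subtype H.injective_subtype
    (LinearMap.ker f)).finrank_eq]
  omega

theorem main_S14427 (k : Type u) [Field k] (n : ℕ) (hn : 3 ≤ n)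
    (Λ : Finset (Fin 3 → k)) (hcard : Λ.card = n) (h0 : ∀ v ∈ Λ, v ≠ 0)
    (hdist : ∀ v ∈ Λ, ∀ w ∈ Λ, v ≠ w → LinearIndependent k ![v, w]) :
    Module.finrank k ↥(MvPolynomial.homogeneousSubmodule (Fin 3) k (n - 1) ⊓
      ⨅ v ∈ Λ, LinearMap.ker (MvPolynomial.aeval v).toLinearMap) = Nat.choose (n + 1) 2 - n := by
  have h := finrank_forms (n - 1) Λ (by rw [hcard]) hdist _ rfl
  rw [hcard] at h
  have e : n - 1 + 2 = n + 1 := by omega
  rw [e] at h
  omega

theorem half (n : ℕ) (hn : 3 ≤ n) (Λ Λ' : Finset (Fin 3 → k)) (hcard' : Λ'.card = n)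
    (h0' : ∀ v ∈ Λ', v ≠ 0)
    (hline' : ¬ ∃ ℓ : (Fin 3 → k) →ₗ[k] k, ℓ ≠ 0 ∧ ∀ v ∈ Λ', ℓ v = 0)
    (hsub : ∀ F : MvPolynomial (Fin 3) k, F.IsHomogeneous (n - 1) →
      (∀ w ∈ Λ', aeval w F = 0) → ∀ v ∈ Λ, aeval v F = 0) :
    ∀ v ∈ Λ, ∃ w ∈ Λ', ∃ c : k, v = c • w := by
  classical
  intro v hv
  by_contra hcon
  push_neg at hcon
  have hind : ∀ w ∈ Λ', LinearIndependent k ![v, w] := by
    intro w hw
    exact LinearIndependent.pair_symm_iff.mp
      ((LinearIndependent.pair_iff' (h0' w hw)).mpr (fun a h => hcon w hw a h.symm))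
  have hne : Λ'.Nonempty := by
    rw [← Finset.card_pos]; omega
  obtain ⟨w₁, hw₁⟩ := hne
  have hlt : Submodule.span k ({v, w₁} : Set (Fin 3 → k)) < ⊤ := by
    rw [lt_top_iff_ne_top]
    intro htop
    have h1 : Module.finrank k (Submodule.span k
        ((({v, w₁} : Finset (Fin 3 → k)) : Set (Fin 3 → k))))
        ≤ ({v, w₁} : Finset (Fin 3 → k)).card :=
      finrank_span_finset_le_card (R := k) _
    rw [Finset.coe_insert, Finset.coe_singleton, htop, finrank_top,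
      Module.finrank_fintype_fun_eq_card, Fintype.card_fin] at h1
    have h2 : ({v, w₁} : Finset (Fin 3 → k)).card ≤ 2 := Finset.card_le_two
    omega
  obtain ⟨ℓ₀, hℓ₀, hℓ₀map⟩ := Submodule.exists_dual_map_eq_bot_of_lt_top hlt inferInstance
  have hℓv : ℓ₀ v = 0 := eq_zero_of_map_eq_bot hℓ₀map (Submodule.subset_span (by simp))
  have hℓw₁ : ℓ₀ w₁ = 0 := eq_zero_of_map_eq_bot hℓ₀map (Submodule.subset_span (by simp))
  have hex2 : ∃ w₂ ∈ Λ', ℓ₀ w₂ ≠ 0 := by
    by_contra h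
    push_neg at h
    exact hline' ⟨ℓ₀, hℓ₀, h⟩
  obtain ⟨w₂, hw₂, hℓw₂⟩ := hex2
  have hw21 : w₂ ≠ w₁ := fun h => hℓw₂ (h ▸ hℓw₁)
  have hvnot : v ∉ Submodule.span k ({w₁, w₂} : Set (Fin 3 → k)) := by
    intro hmem
    obtain ⟨a, b, hab⟩ := Submodule.mem_span_pair.mp hmem
    have h1 : ℓ₀ v = a * ℓ₀ w₁ + b * ℓ₀ w₂ := by
      rw [← hab, map_add, map_smul, map_smul, smul_eq_mul, smul_eq_mul]
    rw [hℓv, hℓw₁, mul_zero, zero_add] at h1
    have hb : b = 0 := by
      rcases mul_eq_zero.mp h1.symm with h | h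
      · exact h
      · exact absurd h hℓw₂
    apply hcon w₁ hw₁ a
    rw [← hab, hb, zero_smul, add_zero]
  obtain ⟨f, hfv, hfmap⟩ := Submodule.exists_dual_map_eq_bot_of_notMem hvnot inferInstance
  have hfw₁ : f w₁ = 0 := eq_zero_of_map_eq_bot hfmap (Submodule.subset_span (by simp))
  have hfw₂ : f w₂ = 0 := eq_zero_of_map_eq_bot hfmap (Submodule.subset_span (by simp))
  obtain ⟨a, ha⟩ := exists_coeffs f
  have hScard : ((Λ'.erase w₁).erase w₂).card = n - 2 := by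
    rw [Finset.card_erase_of_mem (Finset.mem_erase.mpr ⟨hw21, hw₂⟩),
      Finset.card_erase_of_mem hw₁, hcard']
    omega
  obtain ⟨G, hGhom, hGvan, hGv⟩ := exists_form_sep' ((Λ'.erase w₁).erase w₂) v
    (fun w hw => hind w (Finset.mem_of_mem_erase (Finset.mem_of_mem_erase hw)))
  have hFhom : (lin a * G).IsHomogeneous (n - 1) := by
    have := (lin_isHomogeneous a).mul hGhom
    rw [hScard] at this
    have e : 1 + (n - 2) = n - 1 := by omega
    rw [e] at this
    exact this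
  have hFvan : ∀ w ∈ Λ', aeval w (lin a * G) = 0 := by
    intro w hw
    rw [map_mul, aeval_lin, ha]
    by_cases h1 : w = w₁
    · rw [h1, hfw₁, zero_mul]
    by_cases h2 : w = w₂
    · rw [h2, hfw₂, zero_mul]
    · rw [hGvan w (Finset.mem_erase.mpr ⟨h2, Finset.mem_erase.mpr ⟨h1, hw⟩⟩), mul_zero]
  have hfin := hsub _ hFhom hFvan v hv
  rw [map_mul, aeval_lin, ha] at hfin
  rcases mul_eq_zero.mp hfin with h | h
  · exact hfv h
  · exact hGv h

theorem main_S14428 (k : Type u) [Field k] (n : ℕ) (hn : 3 ≤ n)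
    (Λ Λ' : Finset (Fin 3 → k)) (hcard : Λ.card = n) (hcard' : Λ'.card = n)
    (h0 : ∀ v ∈ Λ, v ≠ 0) (h0' : ∀ v ∈ Λ', v ≠ 0)
    (hline : ¬ ∃ ℓ : (Fin 3 → k) →ₗ[k] k, ℓ ≠ 0 ∧ ∀ v ∈ Λ, ℓ v = 0)
    (hline' : ¬ ∃ ℓ : (Fin 3 → k) →ₗ[k] k, ℓ ≠ 0 ∧ ∀ v ∈ Λ', ℓ v = 0)
    (heq : (MvPolynomial.homogeneousSubmodule (Fin 3) k (n - 1) ⊓
        ⨅ v ∈ Λ, LinearMap.ker (MvPolynomial.aeval v).toLinearMap) =
      (MvPolynomial.homogeneousSubmodule (Fin 3) k (n - 1) ⊓
        ⨅ v ∈ Λ', LinearMap.ker (MvPolynomial.aeval v).toLinearMap)) :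
    (∀ v ∈ Λ, ∃ w ∈ Λ', ∃ c : k, v = c • w) ∧ (∀ w ∈ Λ', ∃ v ∈ Λ, ∃ c : k, w = c • v) := by
  refine ⟨half n hn Λ Λ' hcard' h0' hline' ?_, half n hn Λ' Λ hcard h0 hline ?_⟩
  · intro F hF hvan v hv
    have h1 : F ∈ (homogeneousSubmodule (Fin 3) k (n - 1) ⊓
        ⨅ v ∈ Λ', LinearMap.ker (aeval v).toLinearMap) :=
      (mem_forms_iff _ _ _).mpr ⟨hF, hvan⟩
    rw [← heq] at h1
    exact ((mem_forms_iff _ _ _).mp h1).2 v hv
  · intro F hF hvan v hv
    have h1 : F ∈ (homogeneousSubmodule (Fin 3) k (n - 1) ⊓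
        ⨅ v ∈ Λ, LinearMap.ker (aeval v).toLinearMap) :=
      (mem_forms_iff _ _ _).mpr ⟨hF, hvan⟩
    rw [heq] at h1
    exact ((mem_forms_iff _ _ _).mp h1).2 v hv

end Groth.Agent.Lib.PtsP2
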