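import Mathlib
import Groth.Prelude
import Groth.Agent.Lib.PullGlue2_helper9

/-!
# Glueing invertible modules given on a finite closed cover with discrete overlaps (helper9).
APPEND-ONLY once landed.
-/

set_option autoImplicit false
universe u
open CategoryTheory CategoryTheory.Limits AlgebraicGeometry Opposite TopologicalSpace

namespace PullGlue9

open QcqsLoc QCohExtn GenLocH8 TensH8

section Topo

variable {Y : Type*} [TopologicalSpace Y] {P : Type*} [Finite P]

/-- a neighbourhood of `y` meeting a finite union of closed discrete sets at most in `y` -/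
theorem exists_nhd_of_discrete_iUnion (A : P → Set Y) (hA : ∀ p, IsClosed (A p))
    (hdisc : ∀ p, DiscreteTopology ↥(A p)) (y : Y) :
    ∃ O : Set Y, IsOpen O ∧ y ∈ O ∧ ∀ z ∈ O, ∀ p, z ∈ A p → z = y := by
  have key : ∀ p, ∃ O : Set Y, IsOpen O ∧ y ∈ O ∧ ∀ z ∈ O, z ∈ A p → z = y := by
    intro p
    by_cases hy : y ∈ A p
    · haveI := hdisc p
      have h1 : IsOpen ({⟨y, hy⟩} : Set ↥(A p)) := isOpen_discrete _
      obtain ⟨W', hW'o, hW'⟩ := isOpen_induced_iff.mp h1
      refine ⟨W', hW'o, ?_, ?_⟩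
      · have : (⟨y, hy⟩ : ↥(A p)) ∈ Subtype.val ⁻¹' W' := by rw [hW']; rfl
        exact this
      · intro z hz hzA
        have : (⟨z, hzA⟩ : ↥(A p)) ∈ Subtype.val ⁻¹' W' := hz
        rw [hW'] at this
        exact congrArg Subtype.val this
    · exact ⟨(A p)ᶜ, (hA p).isOpen_compl, hy, fun z hz hzA => absurd hzA hz⟩
  choose O hOo hyO hO using key
  exact ⟨⋂ p, O p, isOpen_iInter_of_finite hOo, Set.mem_iInter.mpr hyO,
    fun z hz p hzA => hO p z (Set.mem_iInter.mp hz p) hzA⟩

end Topo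

section Cover

variable {X : Scheme.{u}} {n : ℕ} (Z : Fin n → X.IdealSheafData)

/-- the complement of the union of the `Z j`, `j ≠ i` -/
def WW (i : Fin n) : X.Opens :=
  ⟨(⋃ j : {j : Fin n // j ≠ i}, ((Z j.1).support : Set X))ᶜ,
    (isClosed_iUnion_of_finite (fun j : {j : Fin n // j ≠ i} =>
      (Z j.1).support.isClosed)).isOpen_compl⟩

theorem mem_WW {i : Fin n} {z : X} :
    z ∈ WW Z i ↔ ∀ j, j ≠ i → z ∉ ((Z j).support : Set X) := by
  show z ∈ (⋃ j : {j : Fin n // j ≠ i}, ((Z j.1).support : Set X))ᶜ ↔ _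
  rw [Set.mem_compl_iff, Set.mem_iUnion]
  constructor
  · intro h j hj hz
    exact h ⟨⟨j, hj⟩, hz⟩
  · rintro h ⟨⟨j, hj⟩, hz⟩
    exact h j hj hz

/-- the complement of the union of the pairwise intersections -/
def VV : X.Opens :=
  ⟨(⋃ p : {p : Fin n × Fin n // p.1 ≠ p.2},
      ((Z p.1.1).support : Set X) ∩ ((Z p.1.2).support : Set X))ᶜ,
    (isClosed_iUnion_of_finite (fun p : {p : Fin n × Fin n // p.1 ≠ p.2} =>
      ((Z p.1.1).support.isClosed).inter (Z p.1.2).support.isClosed)).isOpen_compl⟩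

theorem mem_VV {z : X} :
    z ∈ VV Z ↔ ∀ i j, i ≠ j → z ∈ ((Z i).support : Set X) → z ∉ ((Z j).support : Set X) := by
  show z ∈ (⋃ p : {p : Fin n × Fin n // p.1 ≠ p.2},
      ((Z p.1.1).support : Set X) ∩ ((Z p.1.2).support : Set X))ᶜ ↔ _
  rw [Set.mem_compl_iff, Set.mem_iUnion]
  constructor
  · intro h i j hij hi hj
    exact h ⟨⟨(i, j), hij⟩, hi, hj⟩
  · rintro h ⟨⟨⟨i, j⟩, hij⟩, hi, hj⟩
    exact h i j hij hi hj

theorem WW_le_VV (i : Fin n) : WW Z i ≤ VV Z := by
  intro z hz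
  rw [mem_WW] at hz
  rw [mem_VV]
  intro a b hab ha hb
  by_cases hai : a = i
  · subst hai
    exact hz b (Ne.symm hab) hb
  · exact hz a hai ha

variable (hcov : ⋃ i, ((Z i).support : Set X) = Set.univ)

include hcov in
theorem mem_support_of_mem_WW {i : Fin n} {z : X} (hz : z ∈ WW Z i) :
    z ∈ ((Z i).support : Set X) := by
  have h1 : z ∈ ⋃ i, ((Z i).support : Set X) := by rw [hcov]; trivial
  obtain ⟨j, hj⟩ := Set.mem_iUnion.mp h1
  by_cases hji : j = i
  · subst hji
    exact hj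
  · exact absurd hj ((mem_WW Z).mp hz j hji)

theorem mem_WW_of_mem_VV {i : Fin n} {z : X} (hz : z ∈ VV Z)
    (hzi : z ∈ ((Z i).support : Set X)) : z ∈ WW Z i := by
  rw [mem_WW]
  intro j hji hzj
  exact (mem_VV Z).mp hz i j (Ne.symm hji) hzi hzj

include hcov in
theorem WW_disjoint {i j : Fin n} (hij : i ≠ j) {z : X} (hi : z ∈ WW Z i) (hj : z ∈ WW Z j) :
    False :=
  (mem_WW Z).mp hj i hij (mem_support_of_mem_WW Z hcov hi)

include hcov in
/-- the closed immersion `Z i ⟶ X` is an isomorphism over `WW Z i` when `X` is reduced -/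
theorem isIso_restrict_WW [IsReduced X] (i : Fin n) :
    IsIso ((Z i).subschemeι ∣_ WW Z i) := by
  haveI : IsClosedImmersion ((Z i).subschemeι ∣_ WW Z i) :=
    IsZariskiLocalAtTarget.restrict (inferInstanceAs (IsClosedImmersion (Z i).subschemeι)) _
  haveI : Surjective ((Z i).subschemeι ∣_ WW Z i) := by
    constructor
    intro w
    have hw : w.1 ∈ ((Z i).support : Set X) := mem_support_of_mem_WW Z hcov w.2
    rw [← Scheme.IdealSheafData.range_subschemeι] at hw
    obtain ⟨z, hz⟩ := hw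
    have hzW : z ∈ (Z i).subschemeι ⁻¹ᵁ WW Z i := by
      show (Z i).subschemeι z ∈ WW Z i
      rw [hz]
      exact w.2
    refine ⟨⟨z, hzW⟩, ?_⟩
    apply Subtype.ext
    rw [morphismRestrict_base_coe]
    exact hz
  exact isIso_of_isClosedImmersion_of_surjective _

include hcov in
/-- functions on opens inside `VV Z` are families of functions on the preimages in the `Z i` -/
theorem star_of_cover [IsReduced X] : Star (fun i => (Z i).subschemeι) (VV Z) := by
  intro D hD D' h h'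
  obtain rfl : D' = fun i => (Z i).subschemeι ⁻¹ᵁ D :=
    funext (fun i => le_antisymm (h i) (h' i))
  have hpre : ∀ i, (Z i).subschemeι ⁻¹ᵁ D = (Z i).subschemeι ⁻¹ᵁ (D ⊓ WW Z i) := by
    intro i
    ext z
    constructor
    · intro hz
      refine ⟨hz, mem_WW_of_mem_VV Z (hD hz) ?_⟩
      rw [← Scheme.IdealSheafData.range_subschemeι]
      exact ⟨z, rfl⟩
    · intro hz
      exact hz.1
  have hbij : ∀ i, Function.Bijective (((Z i).subschemeι).appLE (D ⊓ WW Z i)
      ((Z i).subschemeι ⁻¹ᵁ D) (hpre i).le).hom := by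
    intro i
    haveI := isIso_restrict_WW Z hcov i
    exact bij_appLE_of_eq _ (WW Z i) _ inf_le_right _ (hpre i)
  have hex : ∀ x ∈ D, ∃ i, x ∈ D ⊓ WW Z i := by
    intro x hx
    obtain ⟨i, hi⟩ : ∃ i, x ∈ ((Z i).support : Set X) := by
      have h1 : x ∈ ⋃ i, ((Z i).support : Set X) := by rw [hcov]; trivial
      exact Set.mem_iUnion.mp h1
    exact ⟨i, hx, mem_WW_of_mem_VV Z (hD hx) hi⟩
  constructor
  · intro a b hab
    apply eqX_of_cover
    intro x hx
    obtain ⟨i, hi⟩ := hex x hx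
    refine ⟨D ⊓ WW Z i, inf_le_left, hi, ?_⟩
    apply (hbij i).1
    rw [appLE_rX, appLE_rX]
    exact congrFun hab i
  · intro g
    choose c hc using fun i => (hbij i).2 (g i)
    obtain ⟨t, ht⟩ := glueX (fun i => D ⊓ WW Z i) D (fun i => inf_le_left)
      (fun x hx => by
        obtain ⟨i, hi⟩ := hex x hx
        exact Opens.mem_iSup.mpr ⟨i, hi⟩) c (by
        intro i j
        by_cases hij : i = j
        · subst hij
          rfl
        · have hbot : (D ⊓ WW Z i) ⊓ (D ⊓ WW Z j) = ⊥ := by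
            apply le_antisymm _ bot_le
            intro z hz
            exact (WW_disjoint Z hcov hij hz.1.2 hz.2.2).elim
          haveI : Subsingleton Γ(X, (D ⊓ WW Z i) ⊓ (D ⊓ WW Z j)) := by
            rw [hbot]
            infer_instance
          exact Subsingleton.elim _ _)
    refine ⟨t, ?_⟩
    funext i
    show ((Z i).subschemeι.appLE D _ _).hom t = g i
    rw [← hc i, ← ht i, appLE_rX]

end Cover

/-- **S7670** -/
theorem main7670 (X : Scheme.{u}) [IsReduced X]
    (n : ℕ) (Z : Fin n → X.IdealSheafData)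
    (hcov : ⋃ i, ((Z i).support : Set X) = Set.univ)
    (hdisc : ∀ i j, i ≠ j →
      DiscreteTopology ↥(((Z i).support : Set X) ∩ ((Z j).support : Set X)))
    (L : ∀ i, (Z i).subscheme.Modules) (hL : ∀ i, PicF.IsInvertible (L i)) :
    ∃ M : X.Modules, PicF.IsInvertible M ∧
      ∀ i, Nonempty ((Scheme.Modules.pullback (Z i).subschemeι).obj M ≅ L i) := by
  have hchart : ∀ y : X, ∃ Vc : X.Opens, IsAffineOpen Vc ∧ y ∈ Vc ∧
      (∀ z ∈ Vc, z ∉ VV Z → z = y) ∧
      ∀ i : Fin n, ∃ e : Γ(L i, (Z i).subschemeι ⁻¹ᵁ Vc),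
        IsGen (L i) ((Z i).subschemeι ⁻¹ᵁ Vc) e := by
    intro y
    obtain ⟨O, hOo, hyO, hO⟩ := exists_nhd_of_discrete_iUnion
      (P := {p : Fin n × Fin n // p.1 ≠ p.2})
      (fun p => ((Z p.1.1).support : Set X) ∩ ((Z p.1.2).support : Set X))
      (fun p => ((Z p.1.1).support.isClosed).inter (Z p.1.2).support.isClosed)
      (fun p => hdisc p.1.1 p.1.2 p.2) y
    obtain ⟨_, ⟨W, hW : IsAffineOpen W, rfl⟩, hyW, hle⟩ :=
      (X.isBasis_affineOpens).exists_subset_of_mem_open hyO hOo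
    obtain ⟨Vc, hVc, hyVc, hVcW, he⟩ := exists_chart_of_finite (J := Fin n)
      (X := fun i => (Z i).subscheme) (fun i => (Z i).subschemeι) L hL y W hW hyW
    refine ⟨Vc, hVc, hyVc, fun z hz hzV => ?_, he⟩
    have h1 : z ∈ ⋃ p : {p : Fin n × Fin n // p.1 ≠ p.2},
        ((Z p.1.1).support : Set X) ∩ ((Z p.1.2).support : Set X) := not_not.mp hzV
    obtain ⟨p, hp⟩ := Set.mem_iUnion.mp h1
    exact hO z (hle (hVcW hz)) p hp
  choose Vc hVaff hyV hpt he using hchart
  choose ε hε using he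
  exact exists_of_charts (J := Fin n) (X := fun i => (Z i).subscheme)
    (f := fun i => (Z i).subschemeι) (V := VV Z) L Vc hVaff hyV (by
      intro y z hyz w hw
      by_contra hwV
      exact hyz ((hpt y w hw.1 hwV).symm.trans (hpt z w hw.2 hwV))) ε hε
    (star_of_cover Z hcov)

end PullGlue9
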