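import Mathlib
import Groth.Prelude
import Groth.Agent.S0927
import Groth.Agent.S11319
import Groth.Agent.Lib.Leray_helper9
import Groth.Agent.Lib.Tens45_helper8
import Groth.Agent.Lib.TensInv2_helper9
import Groth.Agent.Lib.HHVan_helper9

/-!
# Cohomology of the pullback of an invertible module along `f` with `Rf_* O_X = O_Y` (helper9)
APPEND-ONLY once landed.
-/

set_option autoImplicit false
universe u

open CategoryTheory CategoryTheory.Limits AlgebraicGeometry Opposite TopologicalSpace

namespace PullInvCohH9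

open PFormH9

/-- the isomorphism on cohomology induced by an isomorphism of modules -/
noncomputable def hhEquiv {X : Scheme.{u}} {M N : X.Modules} (e : M ≅ N) (p : ℕ) :
    Coh.HH X M p ≃+ Coh.HH X N p where
  toFun := Groth.Agent.HHVan.hmap e.hom p
  invFun := Groth.Agent.HHVan.hmap e.inv p
  left_inv x := by
    rw [← Groth.Agent.HHVan.hmap_comp, e.hom_inv_id, Groth.Agent.HHVan.hmap_id]
  right_inv x := by
    rw [← Groth.Agent.HHVan.hmap_comp, e.inv_hom_id, Groth.Agent.HHVan.hmap_id]
  map_add' := map_add _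

theorem nonempty_HH_addEquiv_of_iso {X : Scheme.{u}} {M N : X.Modules} (e : M ≅ N) (p : ℕ) :
    Nonempty (Coh.HH X M p ≃+ Coh.HH X N p) := ⟨hhEquiv e p⟩

variable {X Y : Scheme.{u}} (f : X ⟶ Y)

theorem main [HasInjectiveResolutions X.Modules]
    (hR : ∀ i : ℕ, IsZero ((Coh.Rpush f (i + 1)).obj (Coh.structureModule X)))
    (h0 : Nonempty ((Coh.push f).obj (Coh.structureModule X) ≅ Coh.structureModule Y))
    (L : Y.Modules) (hL : PicF.IsInvertible L) (p : ℕ) :
    Nonempty (Coh.HH X ((Scheme.Modules.pullback f).obj L) p ≃+ Coh.HH Y L p) := by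
  have hflf : FlatMod.IsFinLocFree L := TensH8.isFinLocFree_of_isInvertible hL
  -- `f^* L ⊗ O_X ≅ f^* L`
  let ρ : CohB1.tensorMod ((Scheme.Modules.pullback f).obj L) (Coh.structureModule X) ≅
      (Scheme.Modules.pullback f).obj L := Groth.Agent.TensInv.rightUnit _
  -- vanishing of the higher direct images of `f^* L`
  have hvan : ∀ q : ℕ, IsZero ((Coh.RpushAb f (q + 1)).obj
      (Coh.toAb ((Scheme.Modules.pullback f).obj L))) := by
    intro q
    obtain ⟨e⟩ := Groth.Agent.S0927.result f (Coh.structureModule X) L hflf (q + 1)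
    have h1 : IsZero (CohB1.tensorMod L ((Coh.Rpush f (q + 1)).obj (Coh.structureModule X))) :=
      (TL L).map_isZero (hR q)
    have h2 : IsZero ((Coh.Rpush f (q + 1)).obj ((Scheme.Modules.pullback f).obj L)) :=
      (h1.of_iso e.symm).of_iso ((Coh.Rpush f (q + 1)).mapIso ρ).symm
    obtain ⟨e'⟩ := Groth.Agent.S11319.result f ((Scheme.Modules.pullback f).obj L) (q + 1)
    exact ((SheafOfModules.toSheaf.{u} Y.ringCatSheaf).map_isZero h2).of_iso e'.symm
  obtain ⟨e1⟩ := Leray.nonempty_H_addEquiv_push f.base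
    (Coh.toAb ((Scheme.Modules.pullback f).obj L)) hvan p
  -- `f_* f^* L ≅ L`
  obtain ⟨e0⟩ := h0
  let α : (Scheme.Modules.pushforward f).obj ((Scheme.Modules.pullback f).obj L) ≅ L :=
    (Scheme.Modules.pushforward f).mapIso ρ.symm ≪≫
      ((projIso f L hflf).app (Coh.structureModule X)).symm ≪≫
      Groth.Agent.TensInv.mapL L e0 ≪≫ Groth.Agent.TensInv.rightUnit L
  obtain ⟨e2⟩ := nonempty_HH_addEquiv_of_iso α p
  exact ⟨e1.trans e2⟩

end PullInvCohH9
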