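import Mathlib

/-!
# Base change to an open of the base vs restriction to its preimage (helper4)
-/

set_option autoImplicit false
set_option linter.unusedVariables false
set_option linter.unusedTactic false
set_option linter.unreachableTactic false
set_option linter.unusedSectionVars false
set_option linter.style.haveILetI false
set_option linter.deprecated false
set_option maxHeartbeats 1600000

universe u

open CategoryTheory CategoryTheory.Limits AlgebraicGeometry TopologicalSpace

namespace Groth.Agent.Lib.PullbackMapIsoH4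

theorem isIso_pullback_map_of_restrict {S X Y : Scheme.{u}} (h : Y ⟶ S) (p : X ⟶ Y) (U : S.Opens)
    (hiso : IsIso (p ∣_ (h ⁻¹ᵁ U)))
    (e1 : (p ≫ h) ≫ 𝟙 S = p ≫ h) (e2 : U.ι ≫ 𝟙 S = 𝟙 _ ≫ U.ι) :
    IsIso (pullback.map (p ≫ h) U.ι h U.ι p (𝟙 _) (𝟙 _) e1 e2) := by
  obtain ⟨m, hm⟩ : ∃ m, m = pullback.map (p ≫ h) U.ι h U.ι p (𝟙 _) (𝟙 _) e1 e2 := ⟨_, rfl⟩
  rw [← hm]
  have hm1 : m ≫ pullback.fst h U.ι = pullback.fst (p ≫ h) U.ι ≫ p := by
    rw [hm]; exact pullback.lift_fst _ _ _
  have hm2 : m ≫ pullback.snd h U.ι = pullback.snd (p ≫ h) U.ι := by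
    rw [hm]; exact (pullback.lift_snd _ _ _).trans (Category.comp_id _)
  have sqA : IsPullback m (pullback.fst (p ≫ h) U.ι) (pullback.fst h U.ι) p := by
    refine IsPullback.of_right ?_ hm1 (IsPullback.of_hasPullback h U.ι).flip
    rw [hm2]
    exact (IsPullback.of_hasPullback (p ≫ h) U.ι).flip
  have hV : (pullback.fst h U.ι).opensRange = h ⁻¹ᵁ U := by
    apply TopologicalSpace.Opens.ext
    show Set.range (pullback.fst h U.ι).base = h.base ⁻¹' (U : Set S)
    rw [Scheme.Pullback.range_fst, Scheme.Opens.range_ι]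
  rw [← hV] at hiso
  haveI : IsIso (pullback.snd p (pullback.fst h U.ι)) :=
    ((MorphismProperty.isomorphisms Scheme).arrow_mk_iso_iff
      (morphismRestrictOpensRange p (pullback.fst h U.ι))).mp hiso
  rw [← sqA.flip.isoPullback_hom_snd]
  infer_instance

end Groth.Agent.Lib.PullbackMapIsoH4
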