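import Mathlib

/-!
# Sections over the punctured disc extending over the disc (helper3)
-/

namespace Groth.Agent.Lib.PuncDiscH3

open PowerSeries LaurentSeries

theorem coeff_theta {R R' : Type*} [CommRing R] [CommRing R'] (φ : R →+* R')
    (θ : R⸨X⸩ →+* R'⸨X⸩)
    (hθ : θ.comp (algebraMap R⟦X⟧ R⸨X⸩) = (algebraMap R'⟦X⟧ R'⸨X⸩).comp (PowerSeries.map φ))
    (x : R⸨X⸩) (i : ℤ) : (θ x).coeff i = φ (x.coeff i) := by
  obtain ⟨⟨p, s⟩, hps⟩ := IsLocalization.surj (Submonoid.powers (PowerSeries.X : R⟦X⟧)) x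
  obtain ⟨N, hN⟩ := s.2
  have hθp : ∀ q : R⟦X⟧, θ ((q : R⟦X⟧) : R⸨X⸩) = ((PowerSeries.map φ q : R'⟦X⟧) : R'⸨X⸩) :=
    fun q => RingHom.congr_fun hθ q
  have h1 : x * HahnSeries.single (N : ℤ) (1 : R) = ((p : R⟦X⟧) : R⸨X⸩) := by
    rw [← HahnSeries.ofPowerSeries_X_pow]
    have : (s : R⟦X⟧) = PowerSeries.X ^ N := hN.symm
    rw [← this]
    exact hps
  have hθX : θ (HahnSeries.single (N : ℤ) (1 : R)) = HahnSeries.single (N : ℤ) (1 : R') := by
    rw [← HahnSeries.ofPowerSeries_X_pow, hθp, map_pow, PowerSeries.map_X,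
      HahnSeries.ofPowerSeries_X_pow]
  have h2 : θ x * HahnSeries.single (N : ℤ) (1 : R') =
      ((PowerSeries.map φ p : R'⟦X⟧) : R'⸨X⸩) := by
    have := congrArg θ h1
    rw [map_mul, hθp, hθX] at this
    exact this
  have h3 : (θ x).coeff i = ((PowerSeries.map φ p : R'⟦X⟧) : R'⸨X⸩).coeff (i + N) := by
    rw [← h2, HahnSeries.coeff_mul_single_add, mul_one]
  have h4 : x.coeff i = ((p : R⟦X⟧) : R⸨X⸩).coeff (i + N) := by
    rw [← h1, HahnSeries.coeff_mul_single_add, mul_one]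
  rw [h3, h4, PowerSeries.coeff_coe, PowerSeries.coeff_coe]
  split_ifs
  · simp
  · simp [PowerSeries.coeff_map]

theorem main (R : Type*) [CommRing R] (B : Type*) [CommRing B] [Algebra R⟦X⟧ B]
    (s : B →ₐ[R⟦X⟧] R⸨X⸩) :
    ∃ I : Ideal R, ∀ (R' : Type*) [CommRing R'] (φ : R →+* R') (θ : R⸨X⸩ →+* R'⸨X⸩),
      θ.comp (algebraMap R⟦X⟧ R⸨X⸩) = (algebraMap R'⟦X⟧ R'⸨X⸩).comp (PowerSeries.map φ) →
      ((∃ s' : B →+* R'⟦X⟧, s'.comp (algebraMap R⟦X⟧ B) = PowerSeries.map φ ∧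
          (algebraMap R'⟦X⟧ R'⸨X⸩).comp s' = θ.comp s.toRingHom) ↔ I ≤ RingHom.ker φ) := by
  refine ⟨Ideal.span {r | ∃ (b : B) (i : ℤ), i < 0 ∧ (s b).coeff i = r}, ?_⟩
  intro R' _ φ θ hθ
  have hc := coeff_theta φ θ hθ
  constructor
  · rintro ⟨s', hs'1, hs'2⟩
    rw [Ideal.span_le]
    rintro r ⟨b, i, hi, rfl⟩
    show φ ((s b).coeff i) = 0
    rw [← hc]
    have : θ (s b) = ((s' b : R'⟦X⟧) : R'⸨X⸩) := (RingHom.congr_fun hs'2 b).symm
    rw [this, PowerSeries.coeff_coe, if_pos hi]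
  · intro hI
    have hneg : ∀ b i, i < 0 → (θ (s b)).coeff i = 0 := by
      intro b i hi
      rw [hc]
      exact hI (Ideal.subset_span ⟨b, i, hi, rfl⟩)
    have hcoe : ∀ b, ((PowerSeries.mk fun n : ℕ => (θ (s b)).coeff n : R'⟦X⟧) : R'⸨X⸩)
        = θ (s b) := by
      intro b
      ext i
      rw [PowerSeries.coeff_coe]
      split_ifs with hi
      · exact (hneg b i hi).symm
      · rw [PowerSeries.coeff_mk]
        congr 1
        omega
    have hinj : Function.Injective (algebraMap R'⟦X⟧ R'⸨X⸩) :=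
      HahnSeries.ofPowerSeries_injective
    let s'fun : B → R'⟦X⟧ := fun b => PowerSeries.mk fun n : ℕ => (θ (s b)).coeff n
    have hs' : ∀ b, algebraMap R'⟦X⟧ R'⸨X⸩ (s'fun b) = θ (s b) := hcoe
    let s' : B →+* R'⟦X⟧ :=
      { toFun := s'fun
        map_one' := hinj (by rw [hs', map_one, map_one, map_one])
        map_mul' := fun a b => hinj (by rw [hs', map_mul, map_mul, map_mul, hs', hs'])
        map_zero' := hinj (by rw [hs', map_zero, map_zero, map_zero])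
        map_add' := fun a b => hinj (by rw [hs', map_add, map_add, map_add, hs', hs']) }
    refine ⟨s', RingHom.ext fun p => ?_, RingHom.ext fun b => ?_⟩
    · apply hinj
      show algebraMap _ _ (s'fun (algebraMap R⟦X⟧ B p)) = algebraMap _ _ (PowerSeries.map φ p)
      rw [hs', AlgHom.commutes]
      exact RingHom.congr_fun hθ p
    · exact hs' b

end Groth.Agent.Lib.PuncDiscH3
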