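import Mathlib
import Groth.Prelude
import Groth.Agent.Lib.StalkGen_helper5

/-!
# Generizations, irreducible components and localizations of stalks (helper3)
-/

set_option autoImplicit false
universe u

open CategoryTheory IsLocalRing AlgebraicGeometry TopologicalSpace Opposite

namespace Groth.Agent.Lib.PunctConnH3

open Groth.Agent.StalkGen

variable {X : Scheme.{u}}

/-- the local ring at a generization `x₀` of `x` is the localization of `O_x` at the prime of
`x₀` -/
theorem nonempty_stalk_equiv_atPrime {x₀ x : X} (h : x₀ ⤳ x) :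
    Nonempty (X.presheaf.stalk x₀ ≃+* Localization.AtPrime (genPrime h)) := by
  obtain ⟨_, ⟨W, hW : IsAffineOpen W, rfl⟩, hxW, -⟩ :=
    (X.isBasis_affineOpens).exists_subset_of_mem_open (Set.mem_univ x) isOpen_univ
  have hx : x ∈ W := hxW
  have hx₀ : x₀ ∈ W := h.mem_open W.isOpen hx
  letI a1 := TopCat.Presheaf.algebra_section_stalk X.presheaf (⟨x, hx⟩ : W)
  haveI l1 : IsLocalization.AtPrime (X.presheaf.stalk x) (hW.primeIdealOf ⟨x, hx⟩).asIdeal :=
    hW.isLocalization_stalk ⟨x, hx⟩
  letI a2 := TopCat.Presheaf.algebra_section_stalk X.presheaf (⟨x₀, hx₀⟩ : W)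
  haveI l2 : IsLocalization.AtPrime (X.presheaf.stalk x₀) (hW.primeIdealOf ⟨x₀, hx₀⟩).asIdeal :=
    hW.isLocalization_stalk ⟨x₀, hx₀⟩
  have h2 : (genPrime h).comap (algebraMap Γ(X, W) (X.presheaf.stalk x)) =
      (hW.primeIdealOf ⟨x₀, hx₀⟩).asIdeal := comap_genPrime hW hx h
  have l3 : IsLocalization.AtPrime (Localization.AtPrime (genPrime h))
      ((genPrime h).comap (algebraMap Γ(X, W) (X.presheaf.stalk x))) :=
    IsLocalization.isLocalization_isLocalization_atPrime_isLocalization
      (hW.primeIdealOf ⟨x, hx⟩).asIdeal.primeCompl (Localization.AtPrime (genPrime h))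
      (genPrime h)
  have hM : ((genPrime h).comap (algebraMap Γ(X, W) (X.presheaf.stalk x))).primeCompl =
      (hW.primeIdealOf ⟨x₀, hx₀⟩).asIdeal.primeCompl := by
    ext a
    simp only [Ideal.mem_primeCompl_iff]
    rw [h2]
  have l3' : IsLocalization (hW.primeIdealOf ⟨x₀, hx₀⟩).asIdeal.primeCompl
      (Localization.AtPrime (genPrime h)) := by
    rw [← hM]
    exact l3
  exact ⟨(IsLocalization.algEquiv (hW.primeIdealOf ⟨x₀, hx₀⟩).asIdeal.primeCompl
    (X.presheaf.stalk x₀) (Localization.AtPrime (genPrime h))).toRingEquiv⟩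

/-- the prime of `x` itself is the maximal ideal -/
theorem genPrime_self (x : X) (h : x ⤳ x) : genPrime h = maximalIdeal (X.presheaf.stalk x) := by
  unfold genPrime
  have : X.presheaf.stalkSpecializes h = 𝟙 _ := TopCat.Presheaf.stalkSpecializes_refl _ _
  rw [this]
  rfl

/-- a generic point of an irreducible component has no proper generizations -/
theorem eq_of_specializes_of_mem_irreducibleComponents {x : X}
    (hx : closure ({x} : Set X) ∈ irreducibleComponents X) {y : X} (h : y ⤳ x) : y = x := by
  have h1 : closure ({x} : Set X) ⊆ closure {y} := specializes_iff_closure_subset.mp h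
  have h2 : closure ({y} : Set X) ⊆ closure {x} :=
    hx.2 (isIrreducible_singleton.closure) h1
  have h3 : x ⤳ y := specializes_iff_closure_subset.mpr h2
  exact (h.antisymm h3).eq

/-- if `x` has no proper generizations, its local ring is zero-dimensional -/
theorem maximalIdeal_mem_minimalPrimes_of_forall (x : X) (hmax : ∀ y : X, y ⤳ x → y = x) :
    maximalIdeal (X.presheaf.stalk x) ∈ minimalPrimes (X.presheaf.stalk x) := by
  refine ⟨⟨inferInstance, bot_le⟩, ?_⟩
  rintro q ⟨hq, -⟩ -
  haveI := hq
  obtain ⟨x₀, h, rfl⟩ := exists_genPrime_eq x q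
  obtain rfl := hmax x₀ h
  rw [genPrime_self]

/-- if the local ring at `x` is zero-dimensional, `x` has no proper generizations -/
theorem eq_of_specializes_of_minimal (x : X)
    (hmin : maximalIdeal (X.presheaf.stalk x) ∈ minimalPrimes (X.presheaf.stalk x)) {y : X}
    (h : y ⤳ x) : y = x := by
  apply eq_of_genPrime_eq_maximalIdeal h
  have hle : genPrime h ≤ maximalIdeal (X.presheaf.stalk x) :=
    IsLocalRing.le_maximalIdeal (Ideal.IsPrime.ne_top inferInstance)
  exact le_antisymm hle (hmin.2 ⟨inferInstance, bot_le⟩ hle)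

/-- a point whose local ring is zero-dimensional is the generic point of an irreducible
component -/
theorem closure_mem_irreducibleComponents_of_minimal (x : X)
    (hmin : maximalIdeal (X.presheaf.stalk x) ∈ minimalPrimes (X.presheaf.stalk x)) :
    closure ({x} : Set X) ∈ irreducibleComponents X := by
  refine ⟨isIrreducible_singleton.closure, ?_⟩
  intro Z hZ hle
  obtain ⟨η, hη⟩ := QuasiSober.sober hZ.closure isClosed_closure
  have hη' : closure ({η} : Set X) = closure Z := hη
  have hxη : η ⤳ x := by
    rw [specializes_iff_mem_closure, hη']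
    exact subset_closure (hle (subset_closure rfl))
  obtain rfl := eq_of_specializes_of_minimal x hmin hxη
  show Z ⊆ closure {η}
  rw [hη']
  exact subset_closure

end Groth.Agent.Lib.PunctConnH3
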