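import Mathlib
import Groth.Prelude.Def_FEt
import Groth.Agent.Lib.FEtFaithful_helper4

/-! # Faithfulness of restriction of finite étale covers to a punctured hypersurface (lead) -/

set_option autoImplicit false
set_option backward.isDefEq.respectTransparency false
set_option linter.unusedSimpArgs false
set_option linter.unusedVariables false
set_option linter.unusedSectionVars false
set_option linter.style.longLine false
set_option linter.style.haveILetI false
set_option linter.unnecessarySimpa false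
set_option maxHeartbeats 1600000

universe u

open CategoryTheory CategoryTheory.Limits AlgebraicGeometry TopologicalSpace

namespace Groth.Agent.Lib.PunctFaithful

/-- In a Noetherian local ring, a prime `p₀` with `dim A/p₀ ≥ 2` and an element `f` of the maximal
ideal: there is a non-maximal prime containing `p₀` and `f`. -/
theorem exists_prime_between {A : Type u} [CommRing A] [IsNoetherianRing A] [IsLocalRing A] (f : A)
    (hf : f ∈ IsLocalRing.maximalIdeal A) (p₀ : Ideal A) [hp₀ : p₀.IsPrime]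
    (hdim : (2 : WithBot ℕ∞) ≤ ringKrullDim (A ⧸ p₀)) :
    ∃ q : Ideal A, q.IsPrime ∧ p₀ ≤ q ∧ f ∈ q ∧ q ≠ IsLocalRing.maximalIdeal A := by
  haveI : Nontrivial (A ⧸ p₀) := Ideal.Quotient.nontrivial_iff.mpr hp₀.ne_top
  haveI : IsLocalRing (A ⧸ p₀) :=
    IsLocalRing.of_surjective' (Ideal.Quotient.mk p₀) Ideal.Quotient.mk_surjective
  have hfbar : (Ideal.Quotient.mk p₀) f ∈ IsLocalRing.maximalIdeal (A ⧸ p₀) := by
    rw [IsLocalRing.mem_maximalIdeal, mem_nonunits_iff]
    intro hunit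
    obtain ⟨bbar, hb⟩ := hunit.exists_right_inv
    obtain ⟨b, rfl⟩ := Ideal.Quotient.mk_surjective bbar
    have h1 : f * b - 1 ∈ p₀ := by
      rw [← Ideal.Quotient.eq_zero_iff_mem, map_sub, map_mul, hb, map_one, sub_self]
    have h2 : f * b - 1 ∈ IsLocalRing.maximalIdeal A := IsLocalRing.le_maximalIdeal hp₀.ne_top h1
    have h3 : f * b ∈ IsLocalRing.maximalIdeal A := Ideal.mul_mem_right _ _ hf
    have h4 : (1 : A) ∈ IsLocalRing.maximalIdeal A := by
      have := Ideal.sub_mem _ h3 h2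
      simpa using this
    exact (Ideal.ne_top_iff_one _).mp (IsLocalRing.maximalIdeal.isMaximal A).ne_top h4
  have hI : Ideal.span {(Ideal.Quotient.mk p₀) f} ≤ IsLocalRing.maximalIdeal (A ⧸ p₀) := by
    rw [Ideal.span_singleton_le_iff_mem]
    exact hfbar
  obtain ⟨qbar, hqmin, hqle⟩ := Ideal.exists_minimalPrimes_le hI
  haveI hqbarprime : qbar.IsPrime := hqmin.1.1
  have hht : qbar.height ≤ 1 :=
    Ideal.height_le_one_of_isPrincipal_of_mem_minimalPrimes _ qbar hqmin
  have hqne : qbar ≠ IsLocalRing.maximalIdeal (A ⧸ p₀) := by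
    intro heq
    rw [heq] at hht
    have h1 : ((IsLocalRing.maximalIdeal (A ⧸ p₀)).height : WithBot ℕ∞) ≤ ((1 : ℕ∞) : WithBot ℕ∞) :=
      WithBot.coe_le_coe.mpr hht
    rw [IsLocalRing.maximalIdeal_height_eq_ringKrullDim] at h1
    have h2 : (2 : WithBot ℕ∞) ≤ ((1 : ℕ∞) : WithBot ℕ∞) := hdim.trans h1
    have h3 : ((2 : ℕ∞) : WithBot ℕ∞) ≤ ((1 : ℕ∞) : WithBot ℕ∞) := h2
    have h4 : (2 : ℕ∞) ≤ 1 := WithBot.coe_le_coe.mp h3
    exact absurd h4 (by decide)
  refine ⟨qbar.comap (Ideal.Quotient.mk p₀), inferInstance, ?_, ?_, ?_⟩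
  · intro x hx
    rw [Ideal.mem_comap, Ideal.Quotient.eq_zero_iff_mem.mpr hx]
    exact zero_mem _
  · rw [Ideal.mem_comap]
    exact hqmin.1.2 (Ideal.subset_span (Set.mem_singleton _))
  · intro heq
    apply hqne
    have hmax : ((IsLocalRing.maximalIdeal (A ⧸ p₀)).comap (Ideal.Quotient.mk p₀)) =
        IsLocalRing.maximalIdeal A :=
      IsLocalRing.eq_maximalIdeal
        (Ideal.comap_isMaximal_of_surjective _ Ideal.Quotient.mk_surjective)
    have h1 : qbar.comap (Ideal.Quotient.mk p₀) =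
        (IsLocalRing.maximalIdeal (A ⧸ p₀)).comap (Ideal.Quotient.mk p₀) := heq.trans hmax.symm
    have h2 := congrArg (Ideal.map (Ideal.Quotient.mk p₀)) h1
    rwa [Ideal.map_comap_of_surjective _ Ideal.Quotient.mk_surjective,
      Ideal.map_comap_of_surjective _ Ideal.Quotient.mk_surjective] at h2

theorem main9485 (A : Type u) [CommRing A] [IsNoetherianRing A] [IsLocalRing A] (f : A)
    (hf : f ∈ IsLocalRing.maximalIdeal A)
    (U' : (Spec (CommRingCat.of A)).Opens) (hU' : U' ≤ FEt.puncturedSpec A)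
    (u' : pullback (FEt.puncturedSpec A).ι
      (Spec.map (CommRingCat.ofHom (Ideal.Quotient.mk (Ideal.span {f})))) ⟶ (U' : Scheme.{u}))
    (hu' : u' ≫ U'.ι = (pullback.fst (FEt.puncturedSpec A).ι
      (Spec.map (CommRingCat.ofHom (Ideal.Quotient.mk (Ideal.span {f})))) ≫
        (FEt.puncturedSpec A).ι))
    (hdim : ∀ p : PrimeSpectrum A, p.asIdeal ∈ minimalPrimes A → p ∈ U' → f ∉ p.asIdeal →
      (2 : WithBot ℕ∞) ≤ ringKrullDim (A ⧸ p.asIdeal)) :
    (FEt.restrict u').Faithful := by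
  -- key lemma 1: points of the punctured hypersurface lie in `U'` and in the range of `u'`
  have key1 : ∀ q : PrimeSpectrum A, f ∈ q.asIdeal → q ≠ IsLocalRing.closedPoint A →
      ∃ hq : q ∈ U', (⟨q, hq⟩ : ↥(U' : Scheme.{u})) ∈ Set.range u'.base := by
    intro q hfq hqne
    have hqp : q ∈ FEt.puncturedSpec A := hqne
    have hqr : q ∈ Set.range (PrimeSpectrum.comap (Ideal.Quotient.mk (Ideal.span {f}))) := by
      rw [_root_.range_comap_of_surjective _ _ Ideal.Quotient.mk_surjective, Ideal.mk_ker,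
        PrimeSpectrum.mem_zeroLocus]
      intro x hx
      obtain ⟨a, rfl⟩ := Ideal.mem_span_singleton'.mp hx
      exact Ideal.mul_mem_left _ _ hfq
    obtain ⟨y₁, hy₁⟩ := hqr
    obtain ⟨z, hz1, -⟩ := Scheme.Pullback.exists_preimage_pullback
      (f := (FEt.puncturedSpec A).ι)
      (g := Spec.map (CommRingCat.ofHom (Ideal.Quotient.mk (Ideal.span {f}))))
      (⟨q, hqp⟩ : ↥((FEt.puncturedSpec A : (Spec (CommRingCat.of A)).Opens) : Scheme.{u})) y₁
      hy₁.symm
    have h1 : U'.ι (u' z) = q := by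
      rw [← Scheme.Hom.comp_apply, hu', Scheme.Hom.comp_apply, hz1]
      rfl
    have hq : q ∈ U' := by
      rw [← h1]
      exact (u' z).2
    exact ⟨hq, z, Subtype.ext h1⟩
  have hD : ∀ C : Set ↥(U' : Scheme.{u}), IsOpen C → IsClosed C → C.Nonempty →
      (C ∩ Set.range u'.base).Nonempty := by
    rintro C hCo hCc ⟨⟨p, hpU⟩, hpC⟩
    obtain ⟨p₀I, hp₀min, hp₀le⟩ := Ideal.exists_minimalPrimes_le (bot_le : ⊥ ≤ p.asIdeal)
    let p₀ : PrimeSpectrum A := ⟨p₀I, hp₀min.1.1⟩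
    have hsp : p₀ ⤳ p := (PrimeSpectrum.le_iff_specializes p₀ p).mp hp₀le
    have hp₀U : p₀ ∈ U' := hsp.mem_open U'.2 hpU
    have hsp' : (⟨p₀, hp₀U⟩ : ↥(U' : Scheme.{u})) ⤳ ⟨p, hpU⟩ :=
      (U'.ι.isEmbedding.isInducing.specializes_iff).mp hsp
    have hp₀C : (⟨p₀, hp₀U⟩ : ↥(U' : Scheme.{u})) ∈ C := hsp'.mem_open hCo hpC
    by_cases hfp : f ∈ p₀.asIdeal
    · have hne : p₀ ≠ IsLocalRing.closedPoint A := hU' hp₀U
      obtain ⟨hq, hr⟩ := key1 p₀ hfp hne
      exact ⟨⟨p₀, hp₀U⟩, hp₀C, hr⟩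
    · have hd := hdim p₀ hp₀min hp₀U hfp
      haveI : p₀.asIdeal.IsPrime := p₀.2
      obtain ⟨q, hqprime, hp₀q, hfq, hqne⟩ := exists_prime_between f hf p₀.asIdeal hd
      let qP : PrimeSpectrum A := ⟨q, hqprime⟩
      have hqne' : qP ≠ IsLocalRing.closedPoint A := by
        intro h
        exact hqne (congrArg PrimeSpectrum.asIdeal h)
      obtain ⟨hqU, hr⟩ := key1 qP hfq hqne'
      have hsp2 : p₀ ⤳ qP := (PrimeSpectrum.le_iff_specializes p₀ qP).mp hp₀q
      have hsp2' : (⟨p₀, hp₀U⟩ : ↥(U' : Scheme.{u})) ⤳ ⟨qP, hqU⟩ :=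
        (U'.ι.isEmbedding.isInducing.specializes_iff).mp hsp2
      exact ⟨⟨qP, hqU⟩, hsp2'.mem_closed hCc hp₀C, hr⟩
  exact Groth.Agent.Lib.FEtFaithfulH4.faithful_of_clopen u' hD

end Groth.Agent.Lib.PunctFaithful
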