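import Mathlib
import Groth.Agent.Lib.Branches10_helper6
import Groth.Agent.Lib.MoriNagata6_helper3
import Groth.Agent.Lib.IntegralHeight_helper5

/-!
# Sections over the punctured spectrum lie in the normalisation, ring-level part (helper3)
APPEND-ONLY once landed.
-/

set_option autoImplicit false
universe u

namespace Groth.Agent.Lib.PunctNormH3

open IsLocalRing Groth.Agent.Lib.MoriNagataH3 Groth.Agent.Lib.Branches RedNorm

section Height

variable {R : Type u} [CommRing R]

theorem two_le_height_iff (p : Ideal R) [p.IsPrime] :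
    2 ≤ p.height ↔ ∃ q₀ q₁ : Ideal R, q₀.IsPrime ∧ q₁.IsPrime ∧ q₀ < q₁ ∧ q₁ < p := by
  constructor
  · intro h
    by_contra hne
    have h1 : p.height ≤ ((1 : ℕ) : ℕ∞) := by
      rw [Ideal.height_le_iff]
      intro q₁ hq₁ hlt
      haveI := hq₁
      have h0 : q₁.height ≤ ((0 : ℕ) : ℕ∞) := by
        rw [Ideal.height_le_iff]
        intro q₀ hq₀ hlt₀
        exact absurd ⟨q₀, q₁, hq₀, hq₁, hlt₀, hlt⟩ hne
      exact lt_of_le_of_lt h0 (by norm_num)
    have : (2 : ℕ∞) ≤ 1 := h.trans h1
    exact absurd this (by norm_num)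
  · rintro ⟨q₀, q₁, hq₀, hq₁, h01, h1p⟩
    by_contra hne
    haveI := hq₁
    have h1 : p.height ≤ ((1 : ℕ) : ℕ∞) := by
      have h2 : p.height < 2 := not_le.mp hne
      exact Order.le_of_lt_add_one (by simpa [one_add_one_eq_two] using h2)
    rw [Ideal.height_le_iff] at h1
    have h3 : q₁.height < ((1 : ℕ) : ℕ∞) := h1 q₁ hq₁ h1p
    have h4 : q₁.height ≤ ((0 : ℕ) : ℕ∞) := by
      have : q₁.height = 0 := ENat.lt_one_iff_eq_zero.mp h3
      rw [this]; rfl
    rw [Ideal.height_le_iff] at h4
    exact absurd (h4 q₀ hq₀ h01) (by simp)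

end Height

section Domain

variable (R : Type u) [CommRing R] [IsDomain R] [IsNoetherianRing R] [IsLocalRing R]
  (K : Type u) [Field K] [Algebra R K] [IsFractionRing R K]

/-- Mori–Nagata: over a Noetherian local domain whose normalisation has only maximal ideals of height
at least two, an element of the fraction field with an `𝔪`-primary ideal of denominators is
integral. -/
theorem mem_integralClosure_of_pow
    (hht : ∀ n : Ideal (integralClosure R K), n.IsMaximal → 2 ≤ n.height)
    (x : K) (hx : ∀ c ∈ maximalIdeal R, ∃ k : ℕ, algebraMap R K c ^ k * x ∈ integralClosure R K) :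
    x ∈ integralClosure R K := by
  by_contra hxn
  obtain ⟨Cα, hfinα, Qα, hQαp, hht1, hQα⟩ := exists_finite_height_one R K x hxn
  haveI := hfinα
  haveI := hQαp
  haveI : Algebra.IsIntegral R Cα := Algebra.IsIntegral.of_finite _ Cα
  have hintα : Cα ≤ integralClosure R K := fun z hz => by
    have h1 : IsIntegral R (⟨z, hz⟩ : Cα) := Algebra.IsIntegral.isIntegral _
    exact h1.map (Cα.val)
  -- `Qα` lies over the maximal ideal
  have hle : maximalIdeal R ≤ Qα.comap (algebraMap R Cα) := by
    intro c hc
    obtain ⟨k, hk⟩ := hx c hc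
    have h1 : algebraMap R Cα (c ^ k) ∈ Qα := hQα (c ^ k) (by rw [map_pow]; exact hk)
    rw [map_pow] at h1
    exact hQαp.mem_of_pow_mem k h1
  have hne : Qα.comap (algebraMap R Cα) ≠ ⊤ := (Ideal.comap_isPrime _ Qα).ne_top
  have heq : Qα.comap (algebraMap R Cα) = maximalIdeal R :=
    ((maximalIdeal.isMaximal R).eq_of_le hne hle).symm
  haveI : (Qα.comap (algebraMap R Cα)).IsMaximal := by rw [heq]; exact maximalIdeal.isMaximal R
  have hQmax : Qα.IsMaximal :=
    Ideal.isMaximal_of_isIntegral_of_isMaximal_comap (R := R) Qα inferInstance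
  -- a prime of the normalisation over `Qα`
  letI algC : Algebra Cα (integralClosure R K) := (Subalgebra.inclusion hintα).toRingHom.toAlgebra
  haveI : IsScalarTower R Cα (integralClosure R K) :=
    IsScalarTower.of_algebraMap_eq fun a => ((Subalgebra.inclusion hintα).commutes a).symm
  haveI : Algebra.IsIntegral Cα (integralClosure R K) :=
    ⟨fun s => (Algebra.IsIntegral.isIntegral (R := R) s).tower_top⟩
  have hιinj : Function.Injective (algebraMap Cα (integralClosure R K)) :=
    Subalgebra.inclusion_injective hintα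
  have hker : RingHom.ker (algebraMap Cα (integralClosure R K)) = ⊥ :=
    (RingHom.injective_iff_ker_eq_bot _).mp hιinj
  obtain ⟨n, hnprime, hn⟩ := Ideal.exists_ideal_over_prime_of_isIntegral_of_isDomain
    (S := integralClosure R K) Qα (by rw [hker]; exact bot_le)
  haveI := hnprime
  haveI : (n.comap (algebraMap Cα (integralClosure R K))).IsMaximal := by rw [hn]; exact hQmax
  have hnmax : n.IsMaximal :=
    Ideal.isMaximal_of_isIntegral_of_isMaximal_comap (R := Cα) n inferInstance
  have h2 : 2 ≤ n.height := hht n hnmax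
  have h3 : n.height ≤ (n.comap (algebraMap Cα (integralClosure R K))).height :=
    Groth.Agent.IntegralHeight.height_le_height_comap_of_isIntegral Cα n
  rw [hn, hht1] at h3
  have : (2 : ℕ∞) ≤ 1 := h2.trans h3
  exact absurd this (by norm_num)

end Domain

section Reduced

variable (A : Type u) [CommRing A] [IsNoetherianRing A] [IsLocalRing A] [IsReduced A]

/-- Transfer of the height hypothesis to the components. -/
theorem two_le_height_component
    (hdim : ∀ (m' : Ideal ↥(integralClosure A (FractionRing A))) [m'.IsMaximal],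
      m'.comap (algebraMap A ↥(integralClosure A (FractionRing A))) = maximalIdeal A →
        2 ≤ ringKrullDim (Localization.AtPrime m'))
    (q : Ideal A) [q.IsPrime] (hq : q ∈ minimalPrimes A)
    (n : Ideal (integralClosure (A ⧸ q) (FractionRing (A ⧸ q)))) (hn : n.IsMaximal) :
    2 ≤ n.height := by
  classical
  have hfin : (minimalPrimes A).Finite := minimalPrimes.finite_of_isNoetherianRing A
  haveI : Fintype (minimalPrimes A) := hfin.fintype
  obtain ⟨e, hsum, he1, he0, hkere⟩ := exists_idempotents_full (R := A)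
  let q' : minimalPrimes A := ⟨q, hq⟩
  have hsurj : Function.Surjective (compMapSub q') := compMapSub_surjective hfin q'
  haveI := hn
  haveI hm'max : (n.comap (compMapSub q')).IsMaximal :=
    Ideal.comap_isMaximal_of_surjective _ hsurj
  obtain ⟨m', hm'⟩ : ∃ m', m' = n.comap (compMapSub q') := ⟨_, rfl⟩
  haveI hm'max' : m'.IsMaximal := by rw [hm']; exact hm'max
  haveI hm'p : m'.IsPrime := hm'max'.isPrime
  have hover : m'.comap (algebraMap A ↥(integralClosure A (FractionRing A))) = maximalIdeal A := by
    haveI : (m'.comap (algebraMap A ↥(integralClosure A (FractionRing A)))).IsMaximal :=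
      Ideal.isMaximal_comap_of_isIntegral_of_isMaximal (R := A) m'
    exact IsLocalRing.eq_maximalIdeal inferInstance
  have h1 := hdim m' hover
  rw [IsLocalization.AtPrime.ringKrullDim_eq_height m' (Localization.AtPrime m')] at h1
  have h2 : (2 : ℕ∞) ≤ m'.height := by
    have h3 : ((2 : ℕ∞) : WithBot ℕ∞) = (2 : WithBot ℕ∞) := rfl
    rw [← h3] at h1
    exact WithBot.coe_le_coe.mp h1
  obtain ⟨P₀, P₁, hP₀, hP₁, h01, h1m⟩ := (two_le_height_iff m').mp h2
  -- `e q'` is not in `m'`
  have heq' : e q' ∉ m' := by
    intro h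
    rw [hm'] at h
    have : compMapSub q' (e q') ∈ n := h
    rw [he1] at this
    exact hn.ne_top ((Ideal.eq_top_iff_one _).mpr this)
  -- primes below `m'` contain the kernel
  have hkerle : ∀ P : Ideal (integralClosure A (FractionRing A)), P.IsPrime → P ≤ m' →
      RingHom.ker (compMapSub q') ≤ P := by
    intro P hP hPm x hx
    have h0 : x * e q' = 0 := hkere q' x hx
    have h3 : x * e q' ∈ P := by rw [h0]; exact P.zero_mem
    rcases hP.mem_or_mem h3 with h | h
    · exact h
    · exact absurd (hPm h) heq'
  have hk0 := hkerle P₀ hP₀ (h01.le.trans h1m.le)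
  have hk1 := hkerle P₁ hP₁ h1m.le
  have hcm : ∀ P : Ideal (integralClosure A (FractionRing A)), RingHom.ker (compMapSub q') ≤ P →
      (P.map (compMapSub q')).comap (compMapSub q') = P := by
    intro P hP
    rw [Ideal.comap_map_of_surjective _ hsurj]
    exact sup_eq_left.mpr hP
  refine (two_le_height_iff n).mpr ⟨P₀.map (compMapSub q'), P₁.map (compMapSub q'),
    Ideal.map_isPrime_of_surjective hsurj hk0, Ideal.map_isPrime_of_surjective hsurj hk1, ?_, ?_⟩
  · refine lt_of_le_of_ne (Ideal.map_mono h01.le) ?_
    intro h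
    have := congrArg (Ideal.comap (compMapSub q')) h
    rw [hcm P₀ hk0, hcm P₁ hk1] at this
    exact h01.ne this
  · refine lt_of_le_of_ne ?_ ?_
    · rw [Ideal.map_le_iff_le_comap, ← hm']
      exact h1m.le
    · intro h
      have := congrArg (Ideal.comap (compMapSub q')) h
      rw [hcm P₁ hk1, ← hm'] at this
      exact h1m.ne this

/-- The ring-level core: an element of the total fraction ring with an `𝔪`-primary ideal of
denominators is integral. -/
theorem isIntegral_of_pow
    (hdim : ∀ (m' : Ideal ↥(integralClosure A (FractionRing A))) [m'.IsMaximal],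
      m'.comap (algebraMap A ↥(integralClosure A (FractionRing A))) = maximalIdeal A →
        2 ≤ ringKrullDim (Localization.AtPrime m'))
    (z : FractionRing A)
    (hz : ∀ f ∈ maximalIdeal A, ∃ (k : ℕ) (x : A),
      algebraMap A (FractionRing A) f ^ k * z = algebraMap A (FractionRing A) x) :
    IsIntegral A z := by
  classical
  have hfin : (minimalPrimes A).Finite := minimalPrimes.finite_of_isNoetherianRing A
  haveI : Fintype (minimalPrimes A) := hfin.fintype
  -- each component is integral
  have hcomp : ∀ (q : Ideal A) [q.IsPrime] (hq : q ∈ minimalPrimes A),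
      IsIntegral A (piMin q hq z) := by
    intro q _ hq
    haveI : IsLocalRing (A ⧸ q) :=
      IsLocalRing.of_surjective' (Ideal.Quotient.mk q) Ideal.Quotient.mk_surjective
    have hmem : piMin q hq z ∈ integralClosure (A ⧸ q) (FractionRing (A ⧸ q)) := by
      refine mem_integralClosure_of_pow (A ⧸ q) (FractionRing (A ⧸ q))
        (fun n hn => two_le_height_component A hdim q hq n hn) _ ?_
      intro c hc
      obtain ⟨f, rfl⟩ := Ideal.Quotient.mk_surjective c
      have hf : f ∈ maximalIdeal A := by
        by_contra hfn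
        have hu : IsUnit f := by
          by_contra hnu
          exact hfn ((mem_maximalIdeal f).mpr hnu)
        exact (mem_maximalIdeal _).mp hc (hu.map (Ideal.Quotient.mk q))
      obtain ⟨k, x, hkx⟩ := hz f hf
      refine ⟨k, ?_⟩
      have h1 := congrArg (piMin q hq) hkx
      rw [map_mul, map_pow, AlgHom.commutes, AlgHom.commutes] at h1
      have h2 : algebraMap (A ⧸ q) (FractionRing (A ⧸ q)) (Ideal.Quotient.mk q f) =
          algebraMap A (FractionRing (A ⧸ q)) f := rfl
      rw [h2, h1]
      have h3 : algebraMap A (FractionRing (A ⧸ q)) x =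
          algebraMap (A ⧸ q) (FractionRing (A ⧸ q)) (Ideal.Quotient.mk q x) := rfl
      rw [h3]
      exact Subalgebra.algebraMap_mem _ _
    haveI : Algebra.IsIntegral A (A ⧸ q) :=
      Algebra.isIntegral_of_surjective Ideal.Quotient.mk_surjective
    exact isIntegral_trans _ hmem
  -- lift the components
  have hlift : ∀ q : minimalPrimes A, ∃ u : FractionRing A, IsIntegral A u ∧
      (∀ (r : Ideal A) [r.IsPrime] (hr : r ∈ minimalPrimes A),
        piMin r hr u = if r = q.1 then piMin r hr z else 0) := by
    intro q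
    haveI : q.1.IsPrime := q.2.1.1
    obtain ⟨u, hu1, hu2, hu3⟩ := exists_integral_lift hfin q.1 q.2 (piMin q.1 q.2 z)
      (hcomp q.1 q.2)
    refine ⟨u, hu1, ?_⟩
    intro r _ hr
    by_cases hrq : r = q.1
    · subst hrq
      rw [if_pos rfl]
      exact hu2
    · rw [if_neg hrq]
      exact hu3 r hr hrq
  choose u hu1 hu2 using hlift
  have hzsum : z = ∑ q : minimalPrimes A, u q := by
    apply eq_of_forall_piMin
    intro p _ hp
    rw [map_sum, Finset.sum_eq_single (⟨p, hp⟩ : minimalPrimes A)]
    · rw [hu2 ⟨p, hp⟩ p hp, if_pos rfl]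
    · intro r _ hr
      rw [hu2 r p hp, if_neg]
      intro h
      exact hr (Subtype.ext h.symm)
    · intro h
      exact absurd (Finset.mem_univ _) h
  rw [hzsum]
  exact IsIntegral.sum _ (fun q _ => hu1 q)

end Reduced

end Groth.Agent.Lib.PunctNormH3
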