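import Mathlib
import Groth.Prelude.Def_FEt
import Groth.Agent.Lib.PunctNorm1_helper3

/-!
# Sections over the punctured spectrum lie in the normalisation (helper3)
APPEND-ONLY once landed.
-/

set_option autoImplicit false
universe u

namespace Groth.Agent.Lib.PunctNormH3

open AlgebraicGeometry CategoryTheory Opposite TopologicalSpace IsLocalRing

section Abstract

/-- The formal gluing argument: sections over `⋃_{f ∈ m} D(f)` embed into `Q` through `D(t)`. -/
theorem abstract_core {A Q G : Type u} [CommRing A] [CommRing Q] [Algebra A Q] [CommRing G]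
    (hinj : Function.Injective (algebraMap A Q))
    (ρ : A →+* G) (m : Ideal A) (t : A) (htm : t ∈ m) (ht : t ∈ nonZeroDivisors A)
    (htu : IsUnit (algebraMap A Q t))
    (S : A → Type u) [∀ f, CommRing (S f)] [∀ f, Algebra A (S f)]
    [∀ f, IsLocalization.Away f (S f)]
    (r : ∀ f : m, G →+* S f)
    (hrρ : ∀ (f : m) (a : A), r f (ρ a) = algebraMap A (S f) a)
    (c₁ : ∀ f g : A, S f →ₐ[A] S (f * g)) (c₂ : ∀ f g : A, S g →ₐ[A] S (f * g))
    (hc : ∀ (f g : m) (s : G), c₁ f g (r f s) = c₂ f g (r g s))
    (hsep : ∀ s : G, (∀ f : m, r f s = 0) → s = 0) :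
    ∃ φ₀ : G →+* Q, Function.Injective φ₀ ∧ φ₀.comp ρ = algebraMap A Q ∧
      ∀ s, ∀ f ∈ m, ∃ (k : ℕ) (x : A),
        algebraMap A Q f ^ k * φ₀ s = algebraMap A Q x := by
  classical
  let t' : m := ⟨t, htm⟩
  let L : S t →+* Q := IsLocalization.Away.lift t htu
  have hL : ∀ a : A, L (algebraMap A (S t) a) = algebraMap A Q a := fun a =>
    IsLocalization.Away.lift_eq t htu a
  have hunit : ∀ f : A, IsUnit (algebraMap A (S f) f) := fun f =>
    IsLocalization.Away.algebraMap_isUnit f
  -- `L` is injective
  have hLinj : ∀ y : S t, L y = 0 → y = 0 := by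
    intro y hy
    obtain ⟨n, a, hya⟩ := IsLocalization.Away.surj t y
    have h1 : algebraMap A Q a = 0 := by
      rw [← hL, ← hya, map_mul, hy, zero_mul]
    have ha : a = 0 := hinj (by rw [h1, map_zero])
    rw [ha, map_zero] at hya
    exact ((hunit t).pow n).mul_left_eq_zero.mp hya
  -- the vanishing lemma
  have hvan : ∀ (f : A) (a : A), algebraMap A (S (f * t)) a = 0 →
      ∃ l : ℕ, f ^ l * a = 0 := by
    intro f a ha
    obtain ⟨⟨_, l, rfl⟩, hl⟩ :=
      (IsLocalization.map_eq_zero_iff (Submonoid.powers (f * t)) (S (f * t)) a).mp ha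
    refine ⟨l, ?_⟩
    have h1 : t ^ l * (f ^ l * a) = 0 := by
      have : (f * t) ^ l * a = 0 := hl
      rw [mul_pow] at this
      rw [← this]; ring
    have h2 : t ^ l ∈ nonZeroDivisors A := pow_mem ht l
    exact (mul_cancel_left_mem_nonZeroDivisors h2).mp (by rw [h1, mul_zero])
  refine ⟨L.comp (r t'), ?_, ?_, ?_⟩
  · -- injectivity
    rw [injective_iff_map_eq_zero]
    intro s hs
    have h0 : r t' s = 0 := hLinj _ hs
    apply hsep
    intro f
    obtain ⟨k, a, hka⟩ := IsLocalization.Away.surj (f : A) (r f s)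
    have h1 : algebraMap A (S ((f : A) * t)) a = 0 := by
      have h2 := congrArg (c₁ (f : A) t) hka
      rw [map_mul, map_pow, AlgHom.commutes, AlgHom.commutes, hc f t' s, h0, map_zero,
        zero_mul] at h2
      exact h2.symm
    obtain ⟨l, hl⟩ := hvan f a h1
    have h3 : algebraMap A (S (f : A)) (f : A) ^ l * algebraMap A (S (f : A)) a = 0 := by
      rw [← map_pow, ← map_mul, hl, map_zero]
    have h4 : algebraMap A (S (f : A)) a = 0 := ((hunit f).pow l).mul_right_eq_zero.mp h3
    rw [h4] at hka
    exact ((hunit f).pow k).mul_left_eq_zero.mp hka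
  · ext a
    rw [RingHom.comp_apply, RingHom.comp_apply, hrρ, hL]
  · intro s f hf
    let f' : m := ⟨f, hf⟩
    obtain ⟨k, a, hka⟩ := IsLocalization.Away.surj f (r f' s)
    obtain ⟨w, hw⟩ : ∃ w : S t, w = r t' s * algebraMap A (S t) f ^ k - algebraMap A (S t) a :=
      ⟨_, rfl⟩
    have hcw : c₂ f t w = 0 := by
      rw [hw, map_sub, map_mul, map_pow, AlgHom.commutes, AlgHom.commutes, ← hc f' t' s]
      have h2 := congrArg (c₁ f t) hka
      rw [map_mul, map_pow, AlgHom.commutes, AlgHom.commutes] at h2
      rw [h2, sub_self]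
    obtain ⟨j, b, hjb⟩ := IsLocalization.Away.surj t w
    have h1 : algebraMap A (S (f * t)) b = 0 := by
      have h2 := congrArg (c₂ f t) hjb
      rw [map_mul, hcw, zero_mul, AlgHom.commutes] at h2
      exact h2.symm
    obtain ⟨l, hl⟩ := hvan f b h1
    have h3 : algebraMap A (S t) f ^ l * w = 0 := by
      have h4 : algebraMap A (S t) f ^ l * w * algebraMap A (S t) t ^ j = 0 := by
        rw [mul_assoc, hjb, ← map_pow, ← map_mul, hl, map_zero]
      exact ((hunit t).pow j).mul_left_eq_zero.mp h4
    refine ⟨l + k, f ^ l * a, ?_⟩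
    have h5 := congrArg L h3
    rw [hw, map_mul, map_pow, hL, map_sub, map_mul, map_pow, hL, hL, map_zero] at h5
    rw [RingHom.comp_apply, map_mul, map_pow, pow_add]
    linear_combination h5

end Abstract

section Sheaf

variable (R : CommRingCat.{u})

/-- Restriction maps of the structure sheaf of `Spec R`. -/
noncomputable def res {U V : (Spec R).Opens} (h : V ≤ U) :
    Γ(Spec R, U) →+* Γ(Spec R, V) :=
  ((Spec R).presheaf.map (homOfLE h).op).hom

theorem res_algebraMap {U V : (Spec R).Opens} (h : V ≤ U) (a : R) :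
    res R h (algebraMap R Γ(Spec R, U) a) = algebraMap R Γ(Spec R, V) a := by
  show (((Scheme.ΓSpecIso R).inv ≫ (Spec R).presheaf.map (homOfLE le_top).op) ≫
    (Spec R).presheaf.map (homOfLE h).op).hom a = _
  rw [Category.assoc, ← Functor.map_comp]
  rfl

theorem res_res {U V W : (Spec R).Opens} (h : V ≤ U) (h' : W ≤ V) (s : Γ(Spec R, U)) :
    res R h' (res R h s) = res R (h'.trans h) s := by
  show ((Spec R).presheaf.map (homOfLE h).op ≫
    (Spec R).presheaf.map (homOfLE h').op).hom s = _
  rw [← Functor.map_comp]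
  rfl

/-- Restriction as an algebra homomorphism. -/
noncomputable def resAlg {U V : (Spec R).Opens} (h : V ≤ U) :
    Γ(Spec R, U) →ₐ[R] Γ(Spec R, V) :=
  { res R h with commutes' := res_algebraMap R h }

theorem resAlg_apply {U V : (Spec R).Opens} (h : V ≤ U) (s : Γ(Spec R, U)) :
    resAlg R h s = res R h s := rfl

end Sheaf

section Main

variable (R : CommRingCat.{u}) [IsLocalRing R]

/-- The punctured spectrum. -/
def punct : (Spec R).Opens :=
  ⟨({IsLocalRing.closedPoint R}ᶜ : Set (PrimeSpectrum R)),
    (IsLocalRing.isClosed_singleton_closedPoint (R := R)).isOpen_compl⟩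

/-- The basic open `D(f)` as an open of `Spec R`. -/
def bo (f : R) : (Spec R).Opens := PrimeSpectrum.basicOpen f

theorem bo_le_punct (f : R) (hf : f ∈ maximalIdeal R) : bo R f ≤ punct R := by
  intro p hp
  have hp' : f ∉ p.asIdeal := (PrimeSpectrum.mem_basicOpen f p).mp hp
  show p ∈ ({IsLocalRing.closedPoint R}ᶜ : Set (PrimeSpectrum R))
  intro h
  rw [Set.mem_singleton_iff] at h
  apply hp'
  rw [h]
  exact hf

theorem bo_mul_le_left (f g : R) : bo R (f * g) ≤ bo R f := by
  intro p hp
  have hp' : f * g ∉ p.asIdeal := (PrimeSpectrum.mem_basicOpen _ p).mp hp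
  exact (PrimeSpectrum.mem_basicOpen f p).mpr (fun h => hp' (p.asIdeal.mul_mem_right _ h))

theorem bo_mul_le_right (f g : R) : bo R (f * g) ≤ bo R g := by
  intro p hp
  have hp' : f * g ∉ p.asIdeal := (PrimeSpectrum.mem_basicOpen _ p).mp hp
  exact (PrimeSpectrum.mem_basicOpen g p).mpr (fun h => hp' (p.asIdeal.mul_mem_left _ h))

instance (f : R) : IsLocalization.Away f Γ(Spec R, bo R f) :=
  inferInstanceAs (IsLocalization.Away f Γ(Spec R, PrimeSpectrum.basicOpen f))

theorem punct_le_iSup : punct R ≤ ⨆ f : maximalIdeal R, bo R f := by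
  intro p hp
  have hp' : p ≠ IsLocalRing.closedPoint R := hp
  have hnle : ¬ (maximalIdeal R ≤ p.asIdeal) := by
    intro hle
    apply hp'
    apply PrimeSpectrum.ext
    exact ((maximalIdeal.isMaximal R).eq_of_le p.2.ne_top hle).symm
  obtain ⟨f, hf, hfp⟩ := SetLike.not_le_iff_exists.mp hnle
  rw [TopologicalSpace.Opens.mem_iSup]
  exact ⟨⟨f, hf⟩, (PrimeSpectrum.mem_basicOpen f p).mpr hfp⟩

variable [IsNoetherianRing R] [IsReduced R]

theorem main5079'
    (hdim : ∀ (m' : Ideal ↥(integralClosure R (FractionRing R))) [m'.IsMaximal],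
      m'.comap (algebraMap R ↥(integralClosure R (FractionRing R))) = IsLocalRing.maximalIdeal R →
        2 ≤ ringKrullDim (Localization.AtPrime m')) :
    (((Spec R).presheaf.map (homOfLE (le_top : punct R ≤ ⊤)).op).hom.comp
        (Scheme.ΓSpecIso R).inv.hom).IsIntegral ∧
      ∃ φ : ↑((Spec R).presheaf.obj (op (punct R))) →+* ↥(integralClosure R (FractionRing R)),
        Function.Injective φ ∧
          φ.comp (((Spec R).presheaf.map (homOfLE (le_top : punct R ≤ ⊤)).op).hom.comp
            (Scheme.ΓSpecIso R).inv.hom) =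
              algebraMap R ↥(integralClosure R (FractionRing R)) := by
  classical
  have hρ : ((Spec R).presheaf.map (homOfLE (le_top : punct R ≤ ⊤)).op).hom.comp
      (Scheme.ΓSpecIso R).inv.hom = algebraMap R Γ(Spec R, punct R) := rfl
  rw [hρ]
  have hfin : (minimalPrimes R).Finite := minimalPrimes.finite_of_isNoetherianRing R
  have hinjQ : Function.Injective (algebraMap R (FractionRing R)) :=
    IsLocalization.injective _ (le_refl (nonZeroDivisors R))
  -- the maximal ideal is not a minimal prime
  have hmnot : maximalIdeal R ∉ minimalPrimes R := by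
    intro hmin
    have hinj' : Function.Injective (algebraMap R (integralClosure R (FractionRing R))) := by
      intro x y hxy
      apply hinjQ
      exact congrArg Subtype.val hxy
    haveI : Nontrivial (integralClosure R (FractionRing R)) := hinj'.nontrivial
    obtain ⟨m', hm'⟩ := Ideal.exists_maximal (integralClosure R (FractionRing R))
    haveI := hm'
    have hover : m'.comap (algebraMap R ↥(integralClosure R (FractionRing R))) =
        maximalIdeal R := by
      haveI : (m'.comap (algebraMap R ↥(integralClosure R (FractionRing R)))).IsMaximal :=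
        Ideal.isMaximal_comap_of_isIntegral_of_isMaximal (R := R) m'
      exact IsLocalRing.eq_maximalIdeal inferInstance
    have h1 := hdim m' hover
    rw [IsLocalization.AtPrime.ringKrullDim_eq_height m' (Localization.AtPrime m')] at h1
    have h2 : (2 : ℕ∞) ≤ m'.height := by
      have h3 : ((2 : ℕ∞) : WithBot ℕ∞) = (2 : WithBot ℕ∞) := rfl
      rw [← h3] at h1
      exact WithBot.coe_le_coe.mp h1
    obtain ⟨P₀, P₁, hP₀, hP₁, h01, h1m⟩ := (two_le_height_iff m').mp h2
    haveI := hP₀
    haveI := hP₁
    have hlt : P₁.comap (algebraMap R ↥(integralClosure R (FractionRing R))) <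
        m'.comap (algebraMap R ↥(integralClosure R (FractionRing R))) :=
      Groth.Agent.IntegralHeight.comap_strictMono_of_isIntegral R
        (integralClosure R (FractionRing R))
        (a := ⟨P₁, hP₁⟩) (b := ⟨m', inferInstance⟩) h1m
    rw [hover] at hlt
    have hle : maximalIdeal R ≤ P₁.comap (algebraMap R ↥(integralClosure R (FractionRing R))) :=
      hmin.2 ⟨Ideal.comap_isPrime _ _, bot_le⟩ hlt.le
    exact absurd hlt (not_lt_of_ge hle)
  -- a non-zero-divisor in the maximal ideal
  obtain ⟨t, htm, ht⟩ : ∃ t ∈ maximalIdeal R, t ∈ nonZeroDivisors R := by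
    have hnot : ¬ ((maximalIdeal R : Set R) ⊆ ⋃ q ∈ (hfin.toFinset : Set (Ideal R)),
        ((id q : Ideal R) : Set R)) := by
      rw [Ideal.subset_union_prime (f := id) ⊥ ⊥]
      · rintro ⟨q, hq, hle⟩
        have hq' : q ∈ minimalPrimes R := hfin.mem_toFinset.mp hq
        have hqp : q.IsPrime := hq'.1.1
        have heq : maximalIdeal R = q := (maximalIdeal.isMaximal R).eq_of_le hqp.ne_top hle
        rw [heq] at hmnot
        exact hmnot hq'
      · intro q hq _ _
        exact (hfin.mem_toFinset.mp hq).1.1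
    obtain ⟨t, htm, htq⟩ := Set.not_subset.mp hnot
    refine ⟨t, htm, ?_⟩
    apply RedNorm.mem_nonZeroDivisors_of_forall_notMem
    intro q hq htq'
    apply htq
    exact Set.mem_iUnion₂.mpr ⟨q, hfin.mem_toFinset.mpr hq, htq'⟩
  have htu : IsUnit (algebraMap R (FractionRing R) t) :=
    IsLocalization.map_units (FractionRing R) (⟨t, ht⟩ : nonZeroDivisors R)
  obtain ⟨φ₀, hφinj, hφρ, hφden⟩ := abstract_core (A := R) (Q := FractionRing R)
    (G := Γ(Spec R, punct R)) hinjQ (algebraMap R Γ(Spec R, punct R)) (maximalIdeal R) t htm ht htu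
    (fun f => Γ(Spec R, bo R f))
    (fun f => res R (bo_le_punct R f f.2))
    (fun f a => res_algebraMap R _ a)
    (fun f g => resAlg R (bo_mul_le_left R f g))
    (fun f g => resAlg R (bo_mul_le_right R f g))
    (fun f g s => by
      rw [resAlg_apply, resAlg_apply, res_res, res_res])
    (fun s hs => by
      refine TopCat.Sheaf.eq_of_locally_eq' (Spec R).sheaf (fun f : maximalIdeal R => bo R f)
        (punct R) (fun f => homOfLE (bo_le_punct R f f.2)) (punct_le_iSup R) s 0 ?_
      intro f
      have h1 := hs f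
      have h2 : res R (bo_le_punct R f f.2) (0 : Γ(Spec R, punct R)) = 0 := map_zero _
      exact h1.trans h2.symm)
  -- integrality
  have hint : ∀ s, IsIntegral R (φ₀ s) := fun s =>
    isIntegral_of_pow R hdim (φ₀ s) (hφden s)
  let φ : Γ(Spec R, punct R) →+* integralClosure R (FractionRing R) :=
    φ₀.codRestrict (integralClosure R (FractionRing R)) hint
  have hφ : ∀ s, ((φ s : integralClosure R (FractionRing R)) : FractionRing R) = φ₀ s :=
    fun s => rfl
  have hφinj' : Function.Injective φ := by
    intro s s' h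
    apply hφinj
    rw [← hφ, ← hφ, h]
  have hφρ' : φ.comp (algebraMap R Γ(Spec R, punct R)) =
      algebraMap R ↥(integralClosure R (FractionRing R)) := by
    ext a
    have := congrArg (fun g => g a) hφρ
    exact this
  refine ⟨?_, φ, hφinj', hφρ'⟩
  intro s
  obtain ⟨P, hPm, hP⟩ := (φ s).2
  refine ⟨P, hPm, ?_⟩
  apply hφinj
  rw [map_zero, Polynomial.hom_eval₂, hφρ]
  exact hP

end Main

end Groth.Agent.Lib.PunctNormH3
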