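import Mathlib
import Groth.Prelude.Def_Hensel
import Groth.Agent.Lib.HensBranches4_helper3
import Groth.Agent.S0505
import Groth.Agent.Lib.Unibranch3_helper3
import Groth.Agent.Lib.QuotBaseChange_helper3

/-!
# Connectedness of the punctured spectrum of a local ring: henselization versus completion
(helper3)
-/

set_option autoImplicit false
set_option maxSynthPendingDepth 3
universe u

namespace Groth.Agent.Lib.PuncConnH3

open IsLocalRing PrimeSpectrum

section Criterion

variable {R : Type u} [CommRing R] [IsLocalRing R]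

/-- all "idempotent sections over the punctured spectrum" (written with denominators `t ^ N`) are
trivial -/
def TrivIdem (t : R) : Prop :=
  ∀ (N : ℕ) (E : R), E * E = t ^ N * E →
    (∀ s ∈ maximalIdeal R ^ N, s * E ∈ Ideal.span {t ^ N}) → E = 0 ∨ E = t ^ N

theorem eq_closedPoint_of_maximalIdeal_le (p : PrimeSpectrum R) (h : maximalIdeal R ≤ p.asIdeal) :
    p = closedPoint R := by
  apply PrimeSpectrum.ext
  exact ((maximalIdeal.isMaximal R).eq_of_le p.2.ne_top h).symm

theorem exists_mem_pow_notMem (p : PrimeSpectrum R) (hp : p ≠ closedPoint R) (N : ℕ) :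
    ∃ s ∈ maximalIdeal R ^ N, s ∉ p.asIdeal := by
  by_contra hcon
  push_neg at hcon
  have h1 : maximalIdeal R ^ N ≤ p.asIdeal := fun s hs => hcon s hs
  exact hp (eq_closedPoint_of_maximalIdeal_le p (p.2.le_of_pow_le h1))

/-- an element lying in all primes containing `I`, all of which are the maximal ideal -/
theorem exists_pow_mem_of_zeroLocus_subset (I : Ideal R) (t : R) (htm : t ∈ maximalIdeal R)
    (h : ∀ p : PrimeSpectrum R, I ≤ p.asIdeal → p = closedPoint R) : ∃ j : ℕ, t ^ j ∈ I := by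
  have h1 : t ∈ I.radical := by
    rw [Ideal.radical_eq_sInf, Ideal.mem_sInf]
    rintro J ⟨hIJ, hJ⟩
    have := h ⟨J, hJ⟩ hIJ
    have h2 : J = maximalIdeal R := congrArg PrimeSpectrum.asIdeal this
    rw [h2]; exact htm
  exact h1

theorem trivIdem_of_isPreconnected (t : R) (htm : t ∈ maximalIdeal R)
    (htreg : IsSMulRegular R t)
    (h : IsPreconnected ({closedPoint R}ᶜ : Set (PrimeSpectrum R))) : TrivIdem t := by
  intro N E hE2 hEm
  have hreg : ∀ k : ℕ, ∀ x : R, t ^ k * x = 0 → x = 0 := by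
    intro k x hx
    have := (htreg.pow k)
    apply this
    simpa using hx
  set I₀ : Ideal R := (Ideal.span {E}).annihilator with hI₀
  set I₁ : Ideal R := (Ideal.span {t ^ N - E}).annihilator with hI₁
  have hmem₀ : ∀ y : R, y ∈ I₀ ↔ y * E = 0 := fun y => by
    rw [hI₀, Submodule.mem_annihilator_span_singleton, smul_eq_mul]
  have hmem₁ : ∀ y : R, y ∈ I₁ ↔ y * (t ^ N - E) = 0 := fun y => by
    rw [hI₁, Submodule.mem_annihilator_span_singleton, smul_eq_mul]
  have hu : IsOpen ((zeroLocus (I₀ : Set R))ᶜ) := (isClosed_zeroLocus _).isOpen_compl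
  have hv : IsOpen ((zeroLocus (I₁ : Set R))ᶜ) := (isClosed_zeroLocus _).isOpen_compl
  have hcov : ({closedPoint R}ᶜ : Set (PrimeSpectrum R)) ⊆
      (zeroLocus (I₀ : Set R))ᶜ ∪ (zeroLocus (I₁ : Set R))ᶜ := by
    intro p hp
    have hp' : p ≠ closedPoint R := hp
    obtain ⟨s, hsm, hsp⟩ := exists_mem_pow_notMem p hp' N
    obtain ⟨r, hr⟩ := Ideal.mem_span_singleton'.mp (hEm s hsm)
    -- r * (r - s) = 0
    have hrr : r * (r - s) = 0 := by
      apply hreg (2 * N)
      have e1 : t ^ (2 * N) * (r * (r - s)) = (r * t ^ N) * (r * t ^ N) - s * t ^ N * (r * t ^ N) := by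
        rw [two_mul, pow_add]; ring
      rw [e1, hr]
      have e2 : s * E * (s * E) - s * t ^ N * (s * E) = s * s * (E * E - t ^ N * E) := by ring
      rw [e2, hE2, sub_self, mul_zero]
    by_cases hrp : r ∈ p.asIdeal
    · left
      have hrs : r - s ∉ p.asIdeal := fun h' => hsp (by
        have := p.asIdeal.sub_mem hrp h'
        simpa using this)
      intro hpz
      rw [mem_zeroLocus] at hpz
      have hy : (r - s) * s ∈ I₀ := by
        rw [hmem₀]
        have e3 : (r - s) * s * E = (r - s) * (s * E) := by ring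
        rw [e3, ← hr]
        have e4 : (r - s) * (r * t ^ N) = t ^ N * (r * (r - s)) := by ring
        rw [e4, hrr, mul_zero]
      exact (p.2.mul_mem_iff_mem_or_mem.mp (hpz hy)).elim hrs hsp
    · right
      intro hpz
      rw [mem_zeroLocus] at hpz
      have hy : r * s ∈ I₁ := by
        rw [hmem₁]
        have e3 : r * s * (t ^ N - E) = r * (s * t ^ N - s * E) := by ring
        rw [e3, ← hr]
        have e4 : r * (s * t ^ N - r * t ^ N) = - (t ^ N * (r * (r - s))) := by ring
        rw [e4, hrr, mul_zero, neg_zero]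
      exact (p.2.mul_mem_iff_mem_or_mem.mp (hpz hy)).elim hrp hsp
  have hdisj : ∀ p : PrimeSpectrum R, p ∈ (zeroLocus (I₀ : Set R))ᶜ →
      p ∈ (zeroLocus (I₁ : Set R))ᶜ → False := by
    intro p hp0 hp1
    have h0 : ¬ ((I₀ : Set R) ⊆ p.asIdeal) := fun h' => hp0 ((mem_zeroLocus _ _).mpr h')
    have h1 : ¬ ((I₁ : Set R) ⊆ p.asIdeal) := fun h' => hp1 ((mem_zeroLocus _ _).mpr h')
    rw [Set.not_subset] at h0 h1
    obtain ⟨y₀, hy₀, hy₀p⟩ := h0
    obtain ⟨y₁, hy₁, hy₁p⟩ := h1
    have e0 : y₀ * E = 0 := (hmem₀ y₀).mp hy₀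
    have e1 : y₁ * (t ^ N - E) = 0 := (hmem₁ y₁).mp hy₁
    have e2 : y₀ * y₁ = 0 := by
      apply hreg N
      have : t ^ N * (y₀ * y₁) = y₀ * (y₁ * (t ^ N - E)) + y₁ * (y₀ * E) := by ring
      rw [this, e0, e1, mul_zero, mul_zero, add_zero]
    have : y₀ * y₁ ∈ p.asIdeal := by rw [e2]; exact p.asIdeal.zero_mem
    exact (p.2.mul_mem_iff_mem_or_mem.mp this).elim hy₀p hy₁p
  have hpre := h _ _ hu hv hcov
  by_cases hne0 : (({closedPoint R}ᶜ : Set (PrimeSpectrum R)) ∩
      (zeroLocus (I₀ : Set R))ᶜ).Nonempty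
  · by_cases hne1 : (({closedPoint R}ᶜ : Set (PrimeSpectrum R)) ∩
        (zeroLocus (I₁ : Set R))ᶜ).Nonempty
    · obtain ⟨p, -, hp0, hp1⟩ := hpre hne0 hne1
      exact (hdisj p hp0 hp1).elim
    · -- all punctured points are in the first open: E = 0
      left
      have hall : ∀ p : PrimeSpectrum R, I₀ ≤ p.asIdeal → p = closedPoint R := by
        intro p hp
        by_contra hpc
        have hpU : p ∈ ({closedPoint R}ᶜ : Set (PrimeSpectrum R)) := hpc
        rcases hcov hpU with h0 | h1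
        · exact h0 ((mem_zeroLocus _ _).mpr hp)
        · exact hne1 ⟨p, hpU, h1⟩
      obtain ⟨j, hj⟩ := exists_pow_mem_of_zeroLocus_subset I₀ t htm hall
      exact hreg j E ((hmem₀ _).mp hj)
  · right
    have hall : ∀ p : PrimeSpectrum R, I₁ ≤ p.asIdeal → p = closedPoint R := by
      intro p hp
      by_contra hpc
      have hpU : p ∈ ({closedPoint R}ᶜ : Set (PrimeSpectrum R)) := hpc
      rcases hcov hpU with h0 | h1
      · exact hne0 ⟨p, hpU, h0⟩
      · exact h1 ((mem_zeroLocus _ _).mpr hp)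
    obtain ⟨j, hj⟩ := exists_pow_mem_of_zeroLocus_subset I₁ t htm hall
    have := hreg j _ ((hmem₁ _).mp hj)
    exact (sub_eq_zero.mp this).symm

theorem isPreconnected_of_trivIdem [IsNoetherianRing R] (t : R) (htm : t ∈ maximalIdeal R)
    (htreg : IsSMulRegular R t) (H : TrivIdem t) :
    IsPreconnected ({closedPoint R}ᶜ : Set (PrimeSpectrum R)) := by
  classical
  have hreg : ∀ k : ℕ, ∀ x : R, t ^ k * x = 0 → x = 0 := by
    intro k x hx
    have := (htreg.pow k)
    apply this
    simpa using hx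
  intro u v hu hv hcov hne1 hne2
  by_contra hcon
  rw [Set.not_nonempty_iff_eq_empty] at hcon
  obtain ⟨p₁, hp₁U, hp₁u⟩ := hne1
  obtain ⟨p₂, hp₂U, hp₂v⟩ := hne2
  have hUo : IsOpen ({closedPoint R}ᶜ : Set (PrimeSpectrum R)) :=
    (isClosed_singleton_closedPoint (R := R)).isOpen_compl
  set W₁ : Set (PrimeSpectrum R) := {closedPoint R}ᶜ ∩ u with hW₁
  set W₂ : Set (PrimeSpectrum R) := {closedPoint R}ᶜ ∩ v with hW₂
  have hW₁o : IsOpen W₁ := hUo.inter hu
  have hW₂o : IsOpen W₂ := hUo.inter hv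
  obtain ⟨I₁, hI₁⟩ := (isClosed_iff_zeroLocus_ideal _).mp hW₂o.isClosed_compl
  obtain ⟨I₂, hI₂⟩ := (isClosed_iff_zeroLocus_ideal _).mp hW₁o.isClosed_compl
  -- membership characterizations
  have hmemW₂ : ∀ p : PrimeSpectrum R, p ∈ W₂ ↔ ¬ (I₁ ≤ p.asIdeal) := by
    intro p
    have : p ∈ W₂ᶜ ↔ I₁ ≤ p.asIdeal := by rw [hI₁, mem_zeroLocus]; rfl
    rw [← this, Set.mem_compl_iff, not_not]
  have hmemW₁ : ∀ p : PrimeSpectrum R, p ∈ W₁ ↔ ¬ (I₂ ≤ p.asIdeal) := by
    intro p
    have : p ∈ W₁ᶜ ↔ I₂ ≤ p.asIdeal := by rw [hI₂, mem_zeroLocus]; rfl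
    rw [← this, Set.mem_compl_iff, not_not]
  have hW₁₂ : ∀ p : PrimeSpectrum R, p ∈ W₁ → p ∈ W₂ → False := by
    intro p h1 h2
    have : p ∈ ({closedPoint R}ᶜ : Set (PrimeSpectrum R)) ∩ (u ∩ v) := ⟨h1.1, h1.2, h2.2⟩
    rw [hcon] at this
    exact this
  have hWcov : ∀ p : PrimeSpectrum R, p ≠ closedPoint R → p ∈ W₁ ∨ p ∈ W₂ := by
    intro p hp
    rcases hcov hp with h | h
    · exact Or.inl ⟨hp, h⟩
    · exact Or.inr ⟨hp, h⟩
  -- I₁ * I₂ is nilpotent
  have hnil : I₁ * I₂ ≤ nilradical R := by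
    have : zeroLocus ((I₁ * I₂ : Ideal R) : Set R) = Set.univ := by
      rw [zeroLocus_mul, ← hI₁, ← hI₂]
      ext p
      simp only [Set.mem_union, Set.mem_compl_iff, Set.mem_univ, iff_true]
      by_contra hc
      push_neg at hc
      exact hW₁₂ p hc.2 hc.1
    exact (zeroLocus_eq_univ_iff _).mp this
  obtain ⟨c, hc⟩ := IsNoetherianRing.isNilpotent_nilradical R
  have hJ : I₁ ^ (c + 1) * I₂ ^ (c + 1) = ⊥ := by
    rw [← mul_pow, eq_bot_iff]
    calc (I₁ * I₂) ^ (c + 1) ≤ nilradical R ^ (c + 1) := Ideal.pow_right_mono hnil _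
      _ = ⊥ := by rw [pow_succ, hc, Ideal.zero_eq_bot, Ideal.bot_mul]
  set J₁ := I₁ ^ (c + 1) with hJ₁
  set J₂ := I₂ ^ (c + 1) with hJ₂
  have hJmul : ∀ x ∈ J₁, ∀ y ∈ J₂, x * y = 0 := by
    intro x hx y hy
    have : x * y ∈ J₁ * J₂ := Ideal.mul_mem_mul hx hy
    rw [hJ] at this
    exact this
  -- 𝔪^a ≤ J₁ ⊔ J₂
  have hsup : ∀ p : PrimeSpectrum R, J₁ ⊔ J₂ ≤ p.asIdeal → p = closedPoint R := by
    intro p hp
    by_contra hpc
    have h1 : I₁ ≤ p.asIdeal := p.2.le_of_pow_le (le_sup_left.trans hp)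
    have h2 : I₂ ≤ p.asIdeal := p.2.le_of_pow_le (le_sup_right.trans hp)
    rcases hWcov p hpc with h | h
    · exact (hmemW₁ p).mp h h2
    · exact (hmemW₂ p).mp h h1
  have hrad : maximalIdeal R ≤ (J₁ ⊔ J₂).radical := by
    intro x hx
    rw [Ideal.radical_eq_sInf, Ideal.mem_sInf]
    rintro J ⟨hle, hJp⟩
    have := hsup ⟨J, hJp⟩ hle
    have h2 : J = maximalIdeal R := congrArg PrimeSpectrum.asIdeal this
    rw [h2]; exact hx
  obtain ⟨a, ha⟩ := Ideal.exists_pow_le_of_le_radical_of_fg hrad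
    (IsNoetherian.noetherian (maximalIdeal R))
  obtain ⟨x₁, hx₁, x₂, hx₂, hx⟩ := Submodule.mem_sup.mp (ha (Ideal.pow_mem_pow htm a))
  have hx12 : x₁ * x₂ = 0 := hJmul x₁ hx₁ x₂ hx₂
  have hx1sq : x₁ * x₁ = t ^ a * x₁ := by
    rw [← hx, add_mul, mul_comm x₂ x₁, hx12, add_zero]
  -- the colon ideal
  set K : Ideal R := (Ideal.span {t ^ a}).colon {x₁} with hK
  have hKmem : ∀ y : R, y ∈ K ↔ y * x₁ ∈ Ideal.span {t ^ a} := by
    intro y
    rw [hK, Submodule.mem_colon_singleton, smul_eq_mul]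
  have hKall : ∀ p : PrimeSpectrum R, K ≤ p.asIdeal → p = closedPoint R := by
    intro p hp
    by_contra hpc
    rcases hWcov p hpc with h | h
    · have h2 := (hmemW₁ p).mp h
      rw [SetLike.not_le_iff_exists] at h2
      obtain ⟨y, hy, hyp⟩ := h2
      have hyJ : y ^ (c + 1) ∈ J₂ := Ideal.pow_mem_pow hy _
      have hyK : y ^ (c + 1) ∈ K := by
        rw [hKmem, mul_comm, hJmul x₁ hx₁ _ hyJ]
        exact Ideal.zero_mem _
      exact hyp (p.2.mem_of_pow_mem _ (hp hyK))
    · have h2 := (hmemW₂ p).mp h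
      rw [SetLike.not_le_iff_exists] at h2
      obtain ⟨y, hy, hyp⟩ := h2
      have hyJ : y ^ (c + 1) ∈ J₁ := Ideal.pow_mem_pow hy _
      have hyK : y ^ (c + 1) ∈ K := by
        rw [hKmem]
        have e1 : y ^ (c + 1) * x₁ = y ^ (c + 1) * t ^ a - y ^ (c + 1) * x₂ := by
          rw [← hx]; ring
        rw [e1, hJmul _ hyJ x₂ hx₂, sub_zero]
        exact Ideal.mul_mem_left _ _ (Ideal.subset_span rfl)
      exact hyp (p.2.mem_of_pow_mem _ (hp hyK))
  have hradK : maximalIdeal R ≤ K.radical := by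
    intro x hx
    rw [Ideal.radical_eq_sInf, Ideal.mem_sInf]
    rintro J ⟨hle, hJp⟩
    have := hKall ⟨J, hJp⟩ hle
    have h2 : J = maximalIdeal R := congrArg PrimeSpectrum.asIdeal this
    rw [h2]; exact hx
  obtain ⟨N', hN'⟩ := Ideal.exists_pow_le_of_le_radical_of_fg hradK
    (IsNoetherian.noetherian (maximalIdeal R))
  -- the idempotent section
  have hE2 : (t ^ N' * x₁) * (t ^ N' * x₁) = t ^ (a + N') * (t ^ N' * x₁) := by
    have e1 : (t ^ N' * x₁) * (t ^ N' * x₁) = t ^ N' * t ^ N' * (x₁ * x₁) := by ring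
    rw [e1, hx1sq, pow_add]; ring
  have hEm : ∀ s ∈ maximalIdeal R ^ (a + N'), s * (t ^ N' * x₁) ∈ Ideal.span {t ^ (a + N')} := by
    intro s hs
    have hs' : s ∈ K := hN' (Ideal.pow_le_pow_right (Nat.le_add_left N' a) hs)
    obtain ⟨r, hr⟩ := Ideal.mem_span_singleton'.mp ((hKmem s).mp hs')
    rw [Ideal.mem_span_singleton']
    refine ⟨r, ?_⟩
    have e1 : s * (t ^ N' * x₁) = t ^ N' * (s * x₁) := by ring
    rw [e1, ← hr, pow_add]; ring
  rcases H (a + N') (t ^ N' * x₁) hE2 hEm with h0 | h1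
  · -- x₁ = 0, so J₁ = 0, so W₂ is empty
    have hx10 : x₁ = 0 := hreg N' x₁ h0
    have hx2 : x₂ = t ^ a := by rw [← hx, hx10, zero_add]
    have hJ₁0 : ∀ y ∈ I₁, y ^ (c + 1) = 0 := by
      intro y hy
      apply hreg a
      rw [mul_comm, ← hx2]
      exact hJmul _ (Ideal.pow_mem_pow hy _) x₂ hx₂
    have hI₁p : I₁ ≤ p₂.asIdeal := fun y hy =>
      p₂.2.mem_of_pow_mem (c + 1) (by rw [hJ₁0 y hy]; exact Ideal.zero_mem _)
    exact (hmemW₂ p₂).mp ⟨hp₂U, hp₂v⟩ hI₁p
  · have hx1 : x₁ = t ^ a := by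
      have e1 : t ^ N' * (x₁ - t ^ a) = 0 := by
        rw [mul_sub, h1, pow_add]; ring
      exact sub_eq_zero.mp (hreg N' _ e1)
    have hJ₂0 : ∀ y ∈ I₂, y ^ (c + 1) = 0 := by
      intro y hy
      apply hreg a
      rw [← hx1]
      exact hJmul x₁ hx₁ _ (Ideal.pow_mem_pow hy _)
    have hI₂p : I₂ ≤ p₁.asIdeal := fun y hy =>
      p₁.2.mem_of_pow_mem (c + 1) (by rw [hJ₂0 y hy]; exact Ideal.zero_mem _)
    exact (hmemW₁ p₁).mp ⟨hp₁U, hp₁u⟩ hI₂p

theorem isPreconnected_punctured_iff [IsNoetherianRing R] (t : R) (htm : t ∈ maximalIdeal R)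
    (htreg : IsSMulRegular R t) :
    IsPreconnected ({closedPoint R}ᶜ : Set (PrimeSpectrum R)) ↔ TrivIdem t :=
  ⟨trivIdem_of_isPreconnected t htm htreg, isPreconnected_of_trivIdem t htm htreg⟩

end Criterion

section Core

variable {R T : Type u} [CommRing R] [HenselianLocalRing R] [IsNoetherianRing R]
  [CommRing T] [IsLocalRing T] [Algebra R T] [Module.FaithfullyFlat R T]

theorem mul_cancel_of_flat' (t : R) (htreg : IsSMulRegular R t) (n : ℕ) (x y : T)
    (h : algebraMap R T t ^ n * x = algebraMap R T t ^ n * y) : x = y := by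
  have hreg : IsSMulRegular R (t ^ n) := htreg.pow n
  have hreg' : IsSMulRegular T (algebraMap R T (t ^ n)) := hreg.of_flat
  apply hreg'
  show algebraMap R T (t ^ n) * x = algebraMap R T (t ^ n) * y
  rw [map_pow]
  exact h

theorem exists_root' (δ : R) (hδ : δ ∈ maximalIdeal R) :
    ∃ r₀ : R, r₀ ∈ maximalIdeal R ∧ r₀ * r₀ - r₀ - δ = 0 := by
  have hmonic : (Polynomial.X ^ 2 - Polynomial.X - Polynomial.C δ : Polynomial R).Monic := by
    have h1 : (Polynomial.X ^ 2 - Polynomial.X - Polynomial.C δ : Polynomial R) =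
        Polynomial.X ^ 2 - (Polynomial.X + Polynomial.C δ) := by ring
    rw [h1]
    apply Polynomial.monic_X_pow_sub
    rw [Polynomial.degree_X_add_C]
    norm_num
  obtain ⟨a, ha, ha0⟩ := HenselianLocalRing.is_henselian
    (Polynomial.X ^ 2 - Polynomial.X - Polynomial.C δ : Polynomial R) hmonic 0
    (by
      simp only [Polynomial.eval_sub, Polynomial.eval_pow, Polynomial.eval_X, Polynomial.eval_C]
      rw [zero_pow (by norm_num), sub_zero, zero_sub]
      exact neg_mem hδ)
    (by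
      simp only [Polynomial.derivative_sub, Polynomial.derivative_X_pow, Polynomial.derivative_X,
        Polynomial.derivative_C, Polynomial.eval_sub, Polynomial.eval_mul, Polynomial.eval_pow,
        Polynomial.eval_X, Polynomial.eval_C, Polynomial.eval_one, Polynomial.eval_zero]
      norm_num)
  rw [sub_zero] at ha0
  refine ⟨a, ha0, ?_⟩
  have := ha
  rw [Polynomial.IsRoot.def] at this
  simp only [Polynomial.eval_sub, Polynomial.eval_pow, Polynomial.eval_X, Polynomial.eval_C] at this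
  rw [← this]; ring

/-- **Core claim, general form**: if the idempotent sections over the punctured spectrum of the
henselian ring `R` are trivial, so are those of `T`. -/
theorem eq_zero_or_eq_pow_of_trivIdem
    (hdense : ∀ (k : ℕ) (x : T), ∃ r : R,
      x - algebraMap R T r ∈ Ideal.map (algebraMap R T) (maximalIdeal R ^ k))
    (t : R) (htreg : IsSMulRegular R t) (H : TrivIdem t) (N : ℕ) (b : T)
    (hb2 : b * b = algebraMap R T t ^ N * b)
    (hbm : ∀ s ∈ maximalIdeal R ^ N, algebraMap R T s * b ∈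
      Ideal.span {algebraMap R T t ^ N}) :
    b = 0 ∨ b = algebraMap R T t ^ N := by
  classical
  set f := algebraMap R T with hf
  set τ := f t with hτ
  -- generators of 𝔪^N
  obtain ⟨n, s, hs⟩ := Submodule.fg_iff_exists_fin_generating_family.mp
    (IsNoetherian.noetherian (maximalIdeal R ^ N))
  set I : Ideal R := LinearMap.ker (Groth.Agent.Lib.HensBranchesH3.colonMap s (Ideal.span {t ^ N})) with hI
  have hmapspan : ∀ k : ℕ, Ideal.map f (Ideal.span {t ^ k}) = Ideal.span {τ ^ k} := by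
    intro k
    rw [Ideal.map_span, Set.image_singleton, map_pow]
  have hsmem : ∀ i, s i ∈ maximalIdeal R ^ N := fun i => by
    rw [← hs]; exact Submodule.subset_span ⟨i, rfl⟩
  have hbI : b ∈ Ideal.map f I := by
    apply Groth.Agent.Lib.HensBranchesH3.mem_map_ker_colonMap
    intro i
    rw [hmapspan]
    exact hbm _ (hsmem i)
  -- 𝔪^N I ⊆ (t^N)
  have hmI : maximalIdeal R ^ N * I ≤ Ideal.span {t ^ N} := by
    rw [Ideal.mul_le]
    intro u hu y hy
    rw [hI, Groth.Agent.Lib.HensBranchesH3.mem_ker_colonMap] at hy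
    rw [← hs] at hu
    induction hu using Submodule.span_induction with
    | mem v hv => obtain ⟨i, rfl⟩ := hv; exact hy i
    | zero => rw [zero_mul]; exact Ideal.zero_mem _
    | add v w _ _ hv hw => rw [add_mul]; exact Ideal.add_mem _ hv hw
    | smul a v _ hv => rw [smul_eq_mul, mul_assoc]; exact Ideal.mul_mem_left _ _ hv
  -- approximation
  obtain ⟨b₀, hb₀I, hb₀⟩ := Groth.Agent.Lib.HensBranchesH3.exists_sub_mem_map_mul (maximalIdeal R) (2 * N + 1)
    (hdense (2 * N + 1)) I b hbI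
  have hle : maximalIdeal R ^ (2 * N + 1) * I ≤ maximalIdeal R ^ (N + 1) * Ideal.span {t ^ N} := by
    have : 2 * N + 1 = (N + 1) + N := by ring
    rw [this, pow_add, mul_assoc]
    exact Ideal.mul_mono_right hmI
  have hb₀' : b - f b₀ ∈ Ideal.map f (maximalIdeal R ^ (N + 1)) * Ideal.span {τ ^ N} := by
    rw [← hmapspan, ← Ideal.map_mul]
    exact Ideal.map_mono hle hb₀
  obtain ⟨ε, hε, hεb⟩ := Ideal.mem_mul_span_singleton.mp hb₀'
  -- 𝔪^N T · b ⊆ (τ^N)
  have hmb : ∀ u ∈ Ideal.map f (maximalIdeal R ^ N), u * b ∈ Ideal.span {τ ^ N} := by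
    intro u hu
    unfold Ideal.map at hu
    induction hu using Submodule.span_induction with
    | mem v hv => obtain ⟨w, hw, rfl⟩ := hv; exact hbm w hw
    | zero => rw [zero_mul]; exact Ideal.zero_mem _
    | add v w _ _ hv hw => rw [add_mul]; exact Ideal.add_mem _ hv hw
    | smul a v _ hv => rw [smul_eq_mul, mul_assoc]; exact Ideal.mul_mem_left _ _ hv
  have hεm : ε ∈ Ideal.map f (maximalIdeal R) := by
    refine Ideal.map_mono ?_ hε
    exact Ideal.pow_le_self (Nat.succ_ne_zero N)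
  -- ε b = ζ τ^N with ζ ∈ 𝔪 T
  have hεb' : ε * b ∈ Ideal.map f (maximalIdeal R) * Ideal.span {τ ^ N} := by
    rw [pow_succ', Ideal.map_mul] at hε
    refine Submodule.mul_induction_on hε ?_ ?_
    · intro u hu v hv
      rw [mul_assoc]
      exact Ideal.mul_mem_mul hu (hmb v hv)
    · intro u v hu hv
      rw [add_mul]; exact Ideal.add_mem _ hu hv
  obtain ⟨ζ, hζ, hζb⟩ := Ideal.mem_mul_span_singleton.mp hεb'
  -- the key computation
  set y := ε * ε + ε - 2 * ζ with hy
  have hym : y ∈ Ideal.map f (maximalIdeal R) :=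
    Ideal.sub_mem _ (Ideal.add_mem _ (Ideal.mul_mem_left _ _ hεm) hεm) (Ideal.mul_mem_left _ _ hζ)
  have hfb₀ : f b₀ = b - ε * τ ^ N := by rw [hεb]; ring
  have hcomp : f (b₀ * b₀ - t ^ N * b₀) = τ ^ (2 * N) * y := by
    rw [map_sub, map_mul, map_mul, map_pow, hfb₀, hy]
    have e1 : (b - ε * τ ^ N) * (b - ε * τ ^ N) - τ ^ N * (b - ε * τ ^ N) =
        (b * b - τ ^ N * b) - 2 * (ε * b) * τ ^ N + (ε * ε + ε) * (τ ^ N * τ ^ N) := by ring
    rw [e1, hb2, sub_self, ← hζb, two_mul N, pow_add]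
    ring
  -- descend
  have hmem : b₀ * b₀ - t ^ N * b₀ ∈ Ideal.span {t ^ (2 * N)} := by
    rw [← Ideal.comap_map_eq_self_of_faithfullyFlat (B := T) (Ideal.span {t ^ (2 * N)}),
      Ideal.mem_comap, hmapspan, hcomp]
    exact Ideal.mul_mem_right _ _ (Ideal.subset_span rfl)
  obtain ⟨δ, hδ⟩ := Ideal.mem_span_singleton'.mp hmem
  have hfδ : f δ = y := by
    apply mul_cancel_of_flat' t htreg (2 * N)
    rw [← hcomp, ← hδ, map_mul, map_pow, mul_comm]
  have hδm : δ ∈ maximalIdeal R := by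
    rw [← Ideal.comap_map_eq_self_of_faithfullyFlat (B := T) (maximalIdeal R), Ideal.mem_comap,
      hfδ]
    exact hym
  obtain ⟨r₀, hr₀m, hr₀⟩ := exists_root' δ hδm
  have hprod : (b₀ - t ^ N * r₀) * (b₀ - t ^ N * (1 - r₀)) = 0 := by
    have e1 : (b₀ - t ^ N * r₀) * (b₀ - t ^ N * (1 - r₀)) =
        (b₀ * b₀ - t ^ N * b₀) - t ^ (2 * N) * (r₀ * r₀ - r₀) := by
      rw [two_mul N, pow_add]; ring
    have e2 : r₀ * r₀ - r₀ = δ := by
      have := hr₀; linear_combination this
    rw [e1, e2, ← hδ]; ring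
  -- conclude
  have hfinal : ∀ r : R, b₀ = t ^ N * r → b = 0 ∨ b = τ ^ N := by
    intro r hr
    have hb : b = τ ^ N * (f r + ε) := by
      have : b = f b₀ + ε * τ ^ N := by rw [hεb]; ring
      rw [this, hr, map_mul, map_pow]; ring
    have hc : (f r + ε) * (f r + ε) = f r + ε := by
      apply mul_cancel_of_flat' t htreg (2 * N)
      have e1 : τ ^ (2 * N) * ((f r + ε) * (f r + ε)) =
          (τ ^ N * (f r + ε)) * (τ ^ N * (f r + ε)) := by rw [two_mul N, pow_add]; ring
      have e2 : τ ^ (2 * N) * (f r + ε) = τ ^ N * (τ ^ N * (f r + ε)) := by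
        rw [two_mul N, pow_add]; ring
      rw [e1, e2, ← hb, hb2]
    rcases Groth.Agent.Lib.HensBranchesH3.idempotent_eq_zero_or_one _ hc with h0 | h1
    · left; rw [hb, h0, mul_zero]
    · right; rw [hb, h1, mul_one]
  -- the idempotent section of `R`
  have hvunit : IsUnit (1 - 2 * r₀) := by
    have h2 : 2 * r₀ ∈ maximalIdeal R := Ideal.mul_mem_left _ _ hr₀m
    by_contra hnu
    have h3 : (1 - 2 * r₀) ∈ maximalIdeal R := hnu
    have h4 : (1 : R) ∈ maximalIdeal R := by
      have := Ideal.add_mem _ h3 h2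
      simpa using this
    exact (maximalIdeal.isMaximal R).ne_top ((Ideal.eq_top_iff_one _).mpr h4)
  obtain ⟨u, hu⟩ := hvunit.exists_left_inv
  have hw2 : (b₀ - t ^ N * r₀) * (b₀ - t ^ N * r₀) =
      t ^ N * (1 - 2 * r₀) * (b₀ - t ^ N * r₀) := by
    linear_combination hprod
  have hE2 : (u * (b₀ - t ^ N * r₀)) * (u * (b₀ - t ^ N * r₀)) =
      t ^ N * (u * (b₀ - t ^ N * r₀)) := by
    linear_combination (u * u) * hw2 + (t ^ N * u * (b₀ - t ^ N * r₀)) * hu
  have hEm : ∀ s ∈ maximalIdeal R ^ N, s * (u * (b₀ - t ^ N * r₀)) ∈ Ideal.span {t ^ N} := by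
    intro s hs
    have h1 : s * b₀ ∈ Ideal.span {t ^ N} := hmI (Ideal.mul_mem_mul hs hb₀I)
    have e1 : s * (u * (b₀ - t ^ N * r₀)) = u * (s * b₀) - (s * u * r₀) * t ^ N := by ring
    rw [e1]
    exact Ideal.sub_mem _ (Ideal.mul_mem_left _ _ h1)
      (Ideal.mul_mem_left _ _ (Ideal.subset_span rfl))
  rcases H N _ hE2 hEm with h0 | h1
  · apply hfinal r₀
    have h2 : (1 - 2 * r₀) * (u * (b₀ - t ^ N * r₀)) = 0 := by rw [h0, mul_zero]
    have h3 : b₀ - t ^ N * r₀ = 0 := by
      have e2 : (1 - 2 * r₀) * (u * (b₀ - t ^ N * r₀)) =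
          (u * (1 - 2 * r₀)) * (b₀ - t ^ N * r₀) := by ring
      rw [e2, hu, one_mul] at h2
      exact h2
    exact sub_eq_zero.mp h3
  · apply hfinal (1 - r₀)
    have h2 : (1 - 2 * r₀) * (u * (b₀ - t ^ N * r₀)) = (1 - 2 * r₀) * t ^ N := by rw [h1]
    have e2 : (1 - 2 * r₀) * (u * (b₀ - t ^ N * r₀)) =
        (u * (1 - 2 * r₀)) * (b₀ - t ^ N * r₀) := by ring
    rw [e2, hu, one_mul] at h2
    linear_combination h2

end Core

section Assembly

variable {R T : Type u} [CommRing R] [HenselianLocalRing R] [IsNoetherianRing R]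
  [CommRing T] [IsLocalRing T] [IsNoetherianRing T] [Algebra R T] [Module.FaithfullyFlat R T]

theorem isPreconnected_punctured_iff_of_dense
    (hdense : ∀ (k : ℕ) (x : T), ∃ r : R,
      x - algebraMap R T r ∈ Ideal.map (algebraMap R T) (maximalIdeal R ^ k))
    (hmax : Ideal.map (algebraMap R T) (maximalIdeal R) = maximalIdeal T)
    (t : R) (htm : t ∈ maximalIdeal R) (htreg : IsSMulRegular R t) :
    IsPreconnected ({closedPoint T}ᶜ : Set (PrimeSpectrum T)) ↔
      IsPreconnected ({closedPoint R}ᶜ : Set (PrimeSpectrum R)) := by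
  have hτm : algebraMap R T t ∈ maximalIdeal T := by
    rw [← hmax]; exact Ideal.mem_map_of_mem _ htm
  have hτreg : IsSMulRegular T (algebraMap R T t) := htreg.of_flat
  have hinj : Function.Injective (algebraMap R T) := FaithfulSMul.algebraMap_injective R T
  rw [isPreconnected_punctured_iff t htm htreg, isPreconnected_punctured_iff _ hτm hτreg]
  constructor
  · intro H N E hE2 hEm
    have h1 := H N (algebraMap R T E) (by rw [← map_pow, ← map_mul, ← map_mul, hE2]) (by
      intro s hs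
      rw [← hmax, ← Ideal.map_pow] at hs
      unfold Ideal.map at hs
      induction hs using Submodule.span_induction with
      | mem v hv =>
        obtain ⟨w, hw, rfl⟩ := hv
        obtain ⟨r, hr⟩ := Ideal.mem_span_singleton'.mp (hEm w hw)
        rw [Ideal.mem_span_singleton']
        exact ⟨algebraMap R T r, by rw [← map_pow, ← map_mul, ← map_mul, hr]⟩
      | zero => rw [zero_mul]; exact Ideal.zero_mem _
      | add v w _ _ hv hw => rw [add_mul]; exact Ideal.add_mem _ hv hw
      | smul a v _ hv => rw [smul_eq_mul, mul_assoc]; exact Ideal.mul_mem_left _ _ hv)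
    rcases h1 with h | h
    · left
      exact hinj (by rw [h, map_zero])
    · right
      exact hinj (by rw [h, map_pow])
  · intro H N b hb2 hbm
    exact eq_zero_or_eq_pow_of_trivIdem hdense t htreg H N b hb2 (fun s hs => hbm _ (by
      rw [← hmax, ← Ideal.map_pow]; exact Ideal.mem_map_of_mem _ hs))

end Assembly

section Quot

variable {S : Type u} [CommRing S] [IsLocalRing S]

theorem maximalIdeal_quotient (I : Ideal S) [IsLocalRing (S ⧸ I)] :
    maximalIdeal (S ⧸ I) = (maximalIdeal S).map (Ideal.Quotient.mk I) := by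
  have h1 : (maximalIdeal (S ⧸ I)).comap (Ideal.Quotient.mk I) = maximalIdeal S := by
    haveI : ((maximalIdeal (S ⧸ I)).comap (Ideal.Quotient.mk I)).IsMaximal :=
      Ideal.comap_isMaximal_of_surjective _ Ideal.Quotient.mk_surjective
    exact IsLocalRing.eq_maximalIdeal this
  rw [← h1, Ideal.map_comap_of_surjective _ Ideal.Quotient.mk_surjective]

theorem isPreconnected_punctured_quotient_iff (I : Ideal S) (hI : I ≤ nilradical S)
    [IsLocalRing (S ⧸ I)] :
    IsPreconnected ({closedPoint (S ⧸ I)}ᶜ : Set (PrimeSpectrum (S ⧸ I))) ↔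
      IsPreconnected ({closedPoint S}ᶜ : Set (PrimeSpectrum S)) := by
  have hbij := comap_quotientMk_bijective_of_le_nilradical hI
  have hind := (isEmbedding_comap_of_surjective _ (Ideal.Quotient.mk I)
    Ideal.Quotient.mk_surjective).isInducing
  have hcp : comap (Ideal.Quotient.mk I) (closedPoint (S ⧸ I)) = closedPoint S := by
    apply PrimeSpectrum.ext
    show (maximalIdeal (S ⧸ I)).comap (Ideal.Quotient.mk I) = maximalIdeal S
    haveI : ((maximalIdeal (S ⧸ I)).comap (Ideal.Quotient.mk I)).IsMaximal :=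
      Ideal.comap_isMaximal_of_surjective _ Ideal.Quotient.mk_surjective
    exact IsLocalRing.eq_maximalIdeal this
  rw [← hind.isPreconnected_image, Set.image_compl_eq hbij, Set.image_singleton, hcp]

/-- a reduced Noetherian local ring whose maximal ideal is not a minimal prime has a regular
element in its maximal ideal -/
theorem exists_regular_of_reduced [IsNoetherianRing S] [IsReduced S]
    (hm : maximalIdeal S ∉ minimalPrimes S) :
    ∃ t ∈ maximalIdeal S, IsSMulRegular S t := by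
  classical
  have hfin : (minimalPrimes S).Finite := minimalPrimes.finite_of_isNoetherianRing S
  have h1 : ∃ t ∈ maximalIdeal S, ∀ p ∈ minimalPrimes S, t ∉ p := by
    by_contra hcon
    push_neg at hcon
    have hsub : ((maximalIdeal S : Ideal S) : Set S) ⊆
        ⋃ p ∈ (hfin.toFinset : Set (Ideal S)), (id p : Ideal S) := by
      intro t ht
      obtain ⟨p, hp, htp⟩ := hcon t ht
      simp only [Set.mem_iUnion]
      exact ⟨p, by simpa using hp, htp⟩
    have h2 := (Ideal.subset_union_prime (R := S) (s := hfin.toFinset) (f := id)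
      (maximalIdeal S) (maximalIdeal S) (fun i hi _ _ => by
        have : i ∈ minimalPrimes S := by simpa using hi
        exact this.1.1)).mp hsub
    obtain ⟨p, hp, hle⟩ := h2
    have hp' : p ∈ minimalPrimes S := by simpa using hp
    have : maximalIdeal S = p :=
      (maximalIdeal.isMaximal S).eq_of_le hp'.1.1.ne_top hle
    exact hm (this ▸ hp')
  obtain ⟨t, htm, htp⟩ := h1
  refine ⟨t, htm, ?_⟩
  intro x y hxy
  have h3 : t * (x - y) = 0 := by
    have : t • x = t • y := hxy
    rw [smul_eq_mul, smul_eq_mul] at this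
    rw [mul_sub, this, sub_self]
  have h4 : x - y ∈ nilradical S := by
    rw [nilradical_eq_sInf, Ideal.mem_sInf]
    intro q hq
    have hq' : q.IsPrime := hq
    obtain ⟨p, hp, hpq⟩ := Ideal.exists_minimalPrimes_le (I := ⊥) (J := q) bot_le
    have h5 : t * (x - y) ∈ p := by rw [h3]; exact p.zero_mem
    exact hpq ((hp.1.1.mul_mem_iff_mem_or_mem.mp h5).resolve_left (htp p hp))
  rw [nilradical_eq_zero S] at h4
  exact sub_eq_zero.mp h4

end Quot

section General

variable {S T : Type u} [CommRing S] [HenselianLocalRing S] [IsNoetherianRing S]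
  [CommRing T] [IsLocalRing T] [IsNoetherianRing T] [Algebra S T] [Module.FaithfullyFlat S T]

/-- henselian Noetherian local `S`, with a faithfully flat dense local extension `T` with
`𝔪_S T = 𝔪_T`: the punctured spectra are connected together -/
theorem isPreconnected_punctured_iff_general
    (hdense : ∀ (k : ℕ) (x : T), ∃ r : S,
      x - algebraMap S T r ∈ Ideal.map (algebraMap S T) (maximalIdeal S ^ k))
    (hmax : Ideal.map (algebraMap S T) (maximalIdeal S) = maximalIdeal T) :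
    IsPreconnected ({closedPoint T}ᶜ : Set (PrimeSpectrum T)) ↔
      IsPreconnected ({closedPoint S}ᶜ : Set (PrimeSpectrum S)) := by
  classical
  set 𝔫 : Ideal S := nilradical S with h𝔫
  set J : Ideal T := 𝔫.map (algebraMap S T) with hJ
  have h𝔫m : 𝔫 ≤ maximalIdeal S := nilradical_le_prime (maximalIdeal S)
  have hJnil : J ≤ nilradical T := by
    rw [hJ, Ideal.map_le_iff_le_comap]
    intro x hx
    rw [Ideal.mem_comap, mem_nilradical]
    exact (mem_nilradical.mp hx).map _
  have hJm : J ≤ maximalIdeal T := hJnil.trans (nilradical_le_prime (maximalIdeal T))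
  haveI : IsLocalRing (S ⧸ 𝔫) := Groth.Agent.Lib.UnibranchH3.isLocalRing_quotient 𝔫 h𝔫m
  haveI : HenselianLocalRing (S ⧸ 𝔫) := Groth.Agent.S0505.result S _
  haveI : IsLocalRing (T ⧸ J) := Groth.Agent.Lib.UnibranchH3.isLocalRing_quotient J hJm
  haveI : Module.FaithfullyFlat (S ⧸ 𝔫) (T ⧸ J) :=
    Groth.Agent.Lib.IndEtaleH3.faithfullyFlat_quotient 𝔫
  haveI : IsReduced (S ⧸ 𝔫) :=
    (Ideal.isRadical_iff_quotient_reduced 𝔫).mp (Ideal.radical_isRadical _)
  have hcomp : (algebraMap (S ⧸ 𝔫) (T ⧸ J)).comp (Ideal.Quotient.mk 𝔫) =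
      (Ideal.Quotient.mk J).comp (algebraMap S T) := RingHom.ext fun s => rfl
  have hmax' : Ideal.map (algebraMap (S ⧸ 𝔫) (T ⧸ J)) (maximalIdeal (S ⧸ 𝔫)) =
      maximalIdeal (T ⧸ J) := by
    rw [maximalIdeal_quotient 𝔫, maximalIdeal_quotient J, Ideal.map_map, hcomp, ← Ideal.map_map,
      hmax]
  have hdense' : ∀ (k : ℕ) (x : T ⧸ J), ∃ r : S ⧸ 𝔫,
      x - algebraMap (S ⧸ 𝔫) (T ⧸ J) r ∈
        Ideal.map (algebraMap (S ⧸ 𝔫) (T ⧸ J)) (maximalIdeal (S ⧸ 𝔫) ^ k) := by
    intro k x
    obtain ⟨x, rfl⟩ := Ideal.Quotient.mk_surjective x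
    obtain ⟨r, hr⟩ := hdense k x
    refine ⟨Ideal.Quotient.mk 𝔫 r, ?_⟩
    have h1 : Ideal.Quotient.mk J x - algebraMap (S ⧸ 𝔫) (T ⧸ J) (Ideal.Quotient.mk 𝔫 r) =
        Ideal.Quotient.mk J (x - algebraMap S T r) := by
      rw [map_sub]; rfl
    rw [h1, maximalIdeal_quotient 𝔫, ← Ideal.map_pow, Ideal.map_map, hcomp, ← Ideal.map_map]
    exact Ideal.mem_map_of_mem _ hr
  rw [← isPreconnected_punctured_quotient_iff J hJnil,
    ← isPreconnected_punctured_quotient_iff 𝔫 le_rfl]
  by_cases hm : maximalIdeal (S ⧸ 𝔫) ∈ minimalPrimes (S ⧸ 𝔫)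
  · have hS : ∀ q : PrimeSpectrum (S ⧸ 𝔫), q = closedPoint (S ⧸ 𝔫) := by
      intro q
      apply eq_closedPoint_of_maximalIdeal_le
      exact hm.2 ⟨q.2, bot_le⟩ (le_maximalIdeal q.2.ne_top)
    have hT : ∀ P : PrimeSpectrum (T ⧸ J), P = closedPoint (T ⧸ J) := by
      intro P
      apply eq_closedPoint_of_maximalIdeal_le
      have h1 := hS (comap (algebraMap (S ⧸ 𝔫) (T ⧸ J)) P)
      have h2 : P.asIdeal.comap (algebraMap (S ⧸ 𝔫) (T ⧸ J)) = maximalIdeal (S ⧸ 𝔫) :=
        congrArg PrimeSpectrum.asIdeal h1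
      rw [← hmax', Ideal.map_le_iff_le_comap, h2]
    have e1 : ({closedPoint (S ⧸ 𝔫)}ᶜ : Set (PrimeSpectrum (S ⧸ 𝔫))) = ∅ := by
      ext q
      simp only [Set.mem_compl_iff, Set.mem_singleton_iff, Set.mem_empty_iff_false, iff_false,
        not_not]
      exact hS q
    have e2 : ({closedPoint (T ⧸ J)}ᶜ : Set (PrimeSpectrum (T ⧸ J))) = ∅ := by
      ext q
      simp only [Set.mem_compl_iff, Set.mem_singleton_iff, Set.mem_empty_iff_false, iff_false,
        not_not]
      exact hT q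
    rw [e1, e2]
    exact ⟨fun _ => isPreconnected_empty, fun _ => isPreconnected_empty⟩
  · obtain ⟨t, htm, htreg⟩ := exists_regular_of_reduced hm
    exact isPreconnected_punctured_iff_of_dense hdense' hmax' t htm htreg

end General

section Main

variable (A S : Type u) [CommRing A] [IsLocalRing A]
    [IsNoetherianRing A] [CommRing S] [IsLocalRing S] [Algebra A S] [IsLocalHom (algebraMap A S)]
    [Hensel.IsHenselization A S]

theorem isPreconnected_punctured_completion_iff :
    IsPreconnected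
        ({closedPoint (AdicCompletion (maximalIdeal A) A)}ᶜ :
          Set (PrimeSpectrum (AdicCompletion (maximalIdeal A) A))) ↔
      IsPreconnected ({closedPoint S}ᶜ : Set (PrimeSpectrum S)) := by
  obtain ⟨hloc, hnoeth, hcompl, hff, hlh, hmax⟩ := AnUnramH3.completion_facts A
  haveI := hloc
  haveI := hnoeth
  haveI := hcompl
  haveI hh : HenselianLocalRing (AdicCompletion (maximalIdeal A) A) :=
    Groth.Agent.Lib.CompleteFiniteH3.henselianLocalRing_of_isAdicComplete _
  obtain ⟨ψ, hψ, -⟩ := Hensel.IsHenselization.universal (R := A) (S := S)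
    (AdicCompletion (maximalIdeal A) A) (algebraMap A (AdicCompletion (maximalIdeal A) A)) hlh
  haveI hloc0 : IsLocalHom (ψ.comp (algebraMap A S)) := by
    rw [hψ]; exact hlh
  haveI : IsLocalHom ψ := Groth.Agent.Lib.HensInductionH3.isLocalHom_of_comp A S ψ hloc0
  letI : Algebra S (AdicCompletion (maximalIdeal A) A) := ψ.toAlgebra
  haveI : IsScalarTower A S (AdicCompletion (maximalIdeal A) A) :=
    IsScalarTower.of_algebraMap_eq (fun a => (DFunLike.congr_fun hψ a).symm)
  haveI : Module.Flat S (AdicCompletion (maximalIdeal A) A) :=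
    Groth.Agent.Lib.IndEtaleH3.flat_of_flat_of_isIndEtale
      (Groth.Agent.Lib.UnibranchH3.isIndEtale_of_isHenselization A S) _
  haveI : IsLocalHom (algebraMap S (AdicCompletion (maximalIdeal A) A)) :=
    (inferInstance : IsLocalHom ψ)
  haveI : Module.FaithfullyFlat S (AdicCompletion (maximalIdeal A) A) :=
    Module.FaithfullyFlat.of_flat_of_isLocalHom
  haveI hSh : HenselianLocalRing S := Hensel.IsHenselization.henselian A
  haveI : IsNoetherianRing S :=
    Groth.Agent.Lib.HensBranchesH3.isNoetherianRing_of_isHenselization A S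
  have hmS : Ideal.map (algebraMap A S) (maximalIdeal A) ≤ maximalIdeal S := by
    rw [Ideal.map_le_iff_le_comap]
    intro a ha
    exact _root_.map_nonunit (algebraMap A S) a ha
  have hmapmap : ∀ I : Ideal A, Ideal.map (algebraMap A (AdicCompletion (maximalIdeal A) A)) I =
      Ideal.map (algebraMap S (AdicCompletion (maximalIdeal A) A)) (Ideal.map (algebraMap A S) I) := by
    intro I
    rw [Ideal.map_map, ← IsScalarTower.algebraMap_eq]
  have hmax' : Ideal.map (algebraMap S (AdicCompletion (maximalIdeal A) A)) (maximalIdeal S) =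
      maximalIdeal (AdicCompletion (maximalIdeal A) A) := by
    apply le_antisymm
    · rw [Ideal.map_le_iff_le_comap]
      intro s hs
      exact _root_.map_nonunit (algebraMap S (AdicCompletion (maximalIdeal A) A)) s hs
    · rw [← hmax, hmapmap]
      exact Ideal.map_mono hmS
  have hdense : ∀ (k : ℕ) (x : AdicCompletion (maximalIdeal A) A), ∃ r : S,
      x - algebraMap S (AdicCompletion (maximalIdeal A) A) r ∈
        Ideal.map (algebraMap S (AdicCompletion (maximalIdeal A) A)) (maximalIdeal S ^ k) := by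
    intro k x
    obtain ⟨a, ha⟩ := Groth.Agent.Lib.FSAdicComplH3.exists_sub_mem_map_pow (maximalIdeal A)
      (IsNoetherian.noetherian _) k x
    refine ⟨algebraMap A S a, ?_⟩
    rw [← IsScalarTower.algebraMap_apply A S (AdicCompletion (maximalIdeal A) A)]
    rw [hmapmap, Ideal.map_pow] at ha
    exact Ideal.map_mono (Ideal.pow_right_mono hmS k) ha
  exact isPreconnected_punctured_iff_general hdense hmax'

end Main

end Groth.Agent.Lib.PuncConnH3
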