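import Mathlib
import Groth.Prelude
import Groth.Agent.Lib.HartogsRing_helper5

/-!
# Hartogs extension under flat base change (helper5)

`X` locally Noetherian, `ι : U₀ ⟶ X` an open immersion such that the local rings of `X` outside
its range have depth `≥ 2`, `g : T ⟶ X` flat, `κ : T₀ ⟶ T` the base change of `ι`.
Then `κ.app O : Γ(T, O) ⟶ Γ(T₀, κ⁻¹ O)` is an isomorphism for every open `O` of `T`.
-/

set_option linter.style.haveILetI false

universe u

open CategoryTheory CategoryTheory.Limits IsLocalRing AlgebraicGeometry TopologicalSpace Opposite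

namespace Groth.Agent.Lib.PurDesc

open QcqsLoc

section structureSheaf

variable {X : Scheme.{u}} [IsLocallyNoetherian X]

/-- Hartogs for the structure sheaf, for every open `V`: `Γ(X, V) → Γ(X, V ⊓ U)` is bijective. -/
theorem bijective_res_inf (U : X.Opens)
    (hU : ∀ x : X, x ∉ U → (2 : ℕ∞) ≤ LocCoh.depth (X.presheaf.stalk x) (X.presheaf.stalk x))
    (V : X.Opens) :
    Function.Bijective (X.presheaf.map (homOfLE (inf_le_left : V ⊓ U ≤ V)).op) := by
  haveI : (Coh.structureModule X).IsQuasicoherent := SerreCrit.isQuasicoherent_OO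
  haveI := Groth.Agent.HartogsRing.isFiniteType_structureModule (X := X)
  have hd : ∀ x : X, x ∉ U → (2 : ℕ∞) ≤
      LocCoh.depth (X.presheaf.stalk x) ((Coh.structureModule X).presheaf.stalk x) := by
    intro x hx
    rw [Groth.Agent.HartogsRing.depth_structureModule_stalk]
    exact hU x hx
  have hinj := Groth.Agent.Hartogs.inj (Coh.structureModule X) U hd V
  have hsurj := Groth.Agent.Hartogs.surj (Coh.structureModule X) U hd V
  constructor
  · intro a b hab
    have hab' : rX (inf_le_left : V ⊓ U ≤ V) a = rX (inf_le_left : V ⊓ U ≤ V) b := hab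
    have h0 : rF (Coh.structureModule X) (inf_le_left : V ⊓ U ≤ V)
        ((a - b : Γ(X, V)) : Γ(Coh.structureModule X, V)) = 0 := by
      show rX (inf_le_left : V ⊓ U ≤ V) (a - b) = 0
      rw [map_sub, hab', sub_self]
    have := hinj _ h0
    exact sub_eq_zero.mp this
  · intro b
    obtain ⟨a, ha⟩ := hsurj (b : Γ(Coh.structureModule X, V ⊓ U))
    exact ⟨(a : Γ(X, V)), ha⟩

/-- variant with an arbitrary inequality `V' ≤ V` where `V' = V ⊓ U` -/
theorem bijective_res_of_eq (U : X.Opens)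
    (hU : ∀ x : X, x ∉ U → (2 : ℕ∞) ≤ LocCoh.depth (X.presheaf.stalk x) (X.presheaf.stalk x))
    (V V' : X.Opens) (h : V' ≤ V) (e : V' = V ⊓ U) :
    Function.Bijective (X.presheaf.map (homOfLE h).op) := by
  subst e
  exact bijective_res_inf U hU V

end structureSheaf

section openImm

variable {X U₀ : Scheme.{u}} [IsLocallyNoetherian X] (ι : U₀ ⟶ X) [IsOpenImmersion ι]
  (hU : ∀ x : X, x ∉ ι.opensRange →
    (2 : ℕ∞) ≤ LocCoh.depth (X.presheaf.stalk x) (X.presheaf.stalk x))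

include hU in
/-- `ι.app W` is an isomorphism for every open `W` of `X`. -/
theorem isIso_app_of_depth (W : X.Opens) : IsIso (ι.app W) := by
  have he : ι ''ᵁ (ι ⁻¹ᵁ W) = W ⊓ ι.opensRange := by
    rw [Scheme.Hom.image_preimage_eq_opensRange_inf, inf_comm]
  have hle : ι ''ᵁ (ι ⁻¹ᵁ W) ≤ W := he ▸ inf_le_left
  have h1 : ι.app W = X.presheaf.map (homOfLE hle).op ≫ (ι.appIso (ι ⁻¹ᵁ W)).hom := by
    rw [Scheme.Hom.appIso_hom', Scheme.Hom.map_appLE, Scheme.Hom.appLE_eq_app]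
  rw [h1]
  haveI : IsIso (X.presheaf.map (homOfLE hle).op) :=
    (ConcreteCategory.isIso_iff_bijective _).mpr
      (bijective_res_of_eq ι.opensRange hU W _ hle he)
  infer_instance

end openImm

section flat

variable {X U₀ T T₀ : Scheme.{u}} [IsLocallyNoetherian X] (ι : U₀ ⟶ X) [IsOpenImmersion ι]
  (hU : ∀ x : X, x ∉ ι.opensRange →
    (2 : ℕ∞) ≤ LocCoh.depth (X.presheaf.stalk x) (X.presheaf.stalk x))
  (g : T ⟶ X) [Flat g] (g₀ : T₀ ⟶ U₀) (κ : T₀ ⟶ T) (H : IsPullback g₀ κ ι g)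

include hU H in
/-- the affine piece -/
theorem isIso_app_affine (W : X.Opens) (hW : IsAffineOpen W) (T' : T.Opens)
    (hT' : IsAffineOpen T') (hle : T' ≤ g ⁻¹ᵁ W) : IsIso (κ.app T') := by
  have hUY : κ ⁻¹ᵁ T' = g₀ ⁻¹ᵁ (ι ⁻¹ᵁ W) ⊓ κ ⁻¹ᵁ T' := by
    refine (inf_eq_right.mpr ?_).symm
    rw [← Scheme.Hom.comp_preimage, H.w, Scheme.Hom.comp_preimage]
    exact κ.preimage_mono hle
  have hc : IsCompact (X := U₀) (ι ⁻¹ᵁ W) := ι.isCompact_preimage hW.isCompact
  have hqs : IsQuasiSeparated (α := U₀) (ι ⁻¹ᵁ W) :=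
    ι.isQuasiSeparated_preimage hW.isQuasiSeparated
  have hiso := isIso_pushoutSection_of_isQuasiSeparated_of_flat_right H hle
    (le_refl (ι ⁻¹ᵁ W)) hUY hW hT' hc hqs
  have hpo := (isIso_pushoutSection_iff H hle (le_refl (ι ⁻¹ᵁ W)) hUY).mp hiso
  haveI : IsIso (ι.appLE W (ι ⁻¹ᵁ W) (le_refl _)) := by
    rw [Scheme.Hom.appLE_eq_app]
    exact isIso_app_of_depth ι hU W
  have := hpo.isIso_inr_of_isIso
  rwa [Scheme.Hom.appLE_eq_app] at this

include hU H in
/-- **Hartogs under flat base change.** -/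
theorem isIso_app_of_flat (O : T.Opens) : IsIso (κ.app O) := by
  let I := {T' : T.Opens // IsAffineOpen T' ∧ ∃ W : X.Opens, IsAffineOpen W ∧ T' ≤ g ⁻¹ᵁ W}
  let B : I → T.Opens := fun i => i.1
  have hB : Opens.IsBasis (Set.range B) := by
    rw [Opens.isBasis_iff_nbhd]
    intro O x hx
    obtain ⟨_, ⟨W, hW : IsAffineOpen W, rfl⟩, hxW, -⟩ :=
      (X.isBasis_affineOpens).exists_subset_of_mem_open (Set.mem_univ (g.base x)) isOpen_univ
    have hx' : x ∈ (g ⁻¹ᵁ W ⊓ O : T.Opens) := ⟨hxW, hx⟩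
    obtain ⟨_, ⟨T', hT' : IsAffineOpen T', rfl⟩, hxT', hT'O⟩ :=
      (T.isBasis_affineOpens).exists_subset_of_mem_open hx' (g ⁻¹ᵁ W ⊓ O).isOpen
    have hT'O' : T' ≤ g ⁻¹ᵁ W ⊓ O := hT'O
    exact ⟨T', ⟨⟨T', hT', W, hW, hT'O'.trans inf_le_left⟩, rfl⟩, hxT', hT'O'.trans inf_le_right⟩
  let F : TopCat.Sheaf CommRingCat.{u} T := T.sheaf
  let G : TopCat.Sheaf CommRingCat.{u} T :=
    ⟨κ.base _* T₀.presheaf, TopCat.Sheaf.pushforward_sheaf_of_sheaf _ T₀.sheaf.property⟩
  let φ : F ⟶ G := ⟨κ.c⟩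
  have hφ : IsIso φ := by
    refine TopCat.Sheaf.isIso_iff_isIso_basis (B := B) hB (φ := φ) ?_
    rintro ⟨T', hT', W, hW, hle⟩
    exact isIso_app_affine ι hU g g₀ κ H W hW T' hT' hle
  have h3 : IsIso κ.c := by
    haveI := hφ
    have h2 := Functor.map_isIso (TopCat.Sheaf.forget CommRingCat.{u} T) φ
    exact h2
  exact (NatIso.isIso_app_of_isIso κ.c (op O) : _)

end flat

end Groth.Agent.Lib.PurDesc
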