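import Mathlib
import Groth.Prelude
import Groth.Agent.Lib.PurDesc1_helper5
import Groth.Agent.Lib.SchemeIdem_helper3
import Groth.Agent.Lib.FEtFull_helper4
import Groth.Agent.Lib.FEtFaithful_helper4

/-!
# Full faithfulness of restriction of finite étale covers from Hartogs (helper5)
-/

set_option linter.style.haveILetI false

universe u

open CategoryTheory CategoryTheory.Limits IsLocalRing AlgebraicGeometry TopologicalSpace Opposite

namespace Groth.Agent.Lib.PurDesc

open Groth.Agent.Lib.SchemeIdemH3

section clopen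

variable {W₀ W : Scheme.{u}} (κ : W₀ ⟶ W)

/-- if `κ` is injective on global functions, every nonempty clopen subset meets its range -/
theorem clopen_inter_range_nonempty (hκ : Function.Injective κ.appTop.hom) (C : Set W)
    (hC : IsClopen C) (hne : C.Nonempty) : (C ∩ Set.range κ.base).Nonempty := by
  by_contra hcon
  rw [Set.not_nonempty_iff_eq_empty] at hcon
  obtain ⟨e, he, heC⟩ := exists_idem_of_isClopen W C hC
  have key : κ.appTop.hom e = 0 := by
    refine eq_of_basicOpen_eq W₀ (he.map _) IsIdempotentElem.zero ?_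
    rw [Scheme.basicOpen_zero]
    refine Opens.ext (Set.eq_empty_of_forall_notMem fun x hx => ?_)
    have hx' : x ∈ κ ⁻¹ᵁ W.basicOpen e := by
      rw [Scheme.preimage_basicOpen_top]
      exact hx
    have h1 : κ.base x ∈ C := by
      rw [← heC]; exact hx'
    have : κ.base x ∈ C ∩ Set.range κ.base := ⟨h1, x, rfl⟩
    rw [hcon] at this
    exact this
  have he0 : e = 0 := hκ (by rw [key, map_zero])
  rw [← heC, he0, Scheme.basicOpen_zero] at hne
  obtain ⟨x, hx⟩ := hne
  exact hx

/-- if `κ` is bijective on global functions, every clopen subset of the source is the preimage of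
a clopen subset of the target -/
theorem exists_clopen_preimage [IsIso κ.appTop] (C₀ : Set W₀) (hC₀ : IsClopen C₀) :
    ∃ C : Set W, IsClopen C ∧ κ.base ⁻¹' C = C₀ := by
  obtain ⟨e₀, he₀, heC₀⟩ := exists_idem_of_isClopen W₀ C₀ hC₀
  let e : Γ(W, ⊤) := (inv κ.appTop).hom e₀
  have he : IsIdempotentElem e := he₀.map _
  have hee : κ.appTop.hom e = e₀ := by
    show (inv κ.appTop ≫ κ.appTop).hom e₀ = e₀
    rw [IsIso.inv_hom_id]
    rfl
  refine ⟨(W.basicOpen e : Set W), isClopen_basicOpen W he, ?_⟩
  have h1 : κ ⁻¹ᵁ W.basicOpen e = W₀.basicOpen e₀ := by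
    rw [Scheme.preimage_basicOpen_top]
    exact congrArg _ hee
  rw [← heC₀]
  exact congrArg (fun O : W₀.Opens => (O : Set W₀)) h1

end clopen

section FF

variable {X U₀ V V₀ : Scheme.{u}} [IsLocallyNoetherian X] (ι : U₀ ⟶ X) [IsOpenImmersion ι]
  (hU : ∀ x : X, x ∉ ι.opensRange →
    (2 : ℕ∞) ≤ LocCoh.depth (X.presheaf.stalk x) (X.presheaf.stalk x))
  (a : V ⟶ X) [Flat a] (a₀ : V₀ ⟶ U₀) (j : V₀ ⟶ V) (H : IsPullback a₀ j ι a)

include hU H in
/-- the projection from the base change of a finite étale cover is bijective on functions -/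
theorem isIso_fst_app {W : Scheme.{u}} (c : W ⟶ V) [IsFinite c] [Etale c] (O : W.Opens) :
    IsIso ((pullback.fst c j).app O) := by
  have H' : IsPullback (pullback.snd c j ≫ a₀) (pullback.fst c j) ι (c ≫ a) :=
    ((IsPullback.of_hasPullback c j).paste_vert H.flip).flip
  exact isIso_app_of_flat ι hU (c ≫ a) (pullback.snd c j ≫ a₀) (pullback.fst c j) H' O

include hU H in
theorem full_restrict : (FEt.restrict j).Full := by
  have hj : IsIso j.appTop := isIso_app_of_flat ι hU a a₀ j H ⊤
  refine Groth.Agent.Lib.FEtFullH4.full_of_clopen j ?_ ?_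
  · intro C hCo hCc hne
    exact clopen_inter_range_nonempty j
      ((ConcreteCategory.isIso_iff_bijective j.appTop).mp hj).1 C ⟨hCc, hCo⟩ hne
  · intro W c _ _ C hC
    haveI : IsIso (pullback.fst c j).appTop := isIso_fst_app ι hU a a₀ j H c ⊤
    exact exists_clopen_preimage (pullback.fst c j) C hC

include hU H in
theorem faithful_restrict : (FEt.restrict j).Faithful := by
  have hj : IsIso j.appTop := isIso_app_of_flat ι hU a a₀ j H ⊤
  refine Groth.Agent.Lib.FEtFaithfulH4.faithful_of_clopen j ?_
  intro C hCo hCc hne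
  exact clopen_inter_range_nonempty j
    ((ConcreteCategory.isIso_iff_bijective j.appTop).mp hj).1 C ⟨hCc, hCo⟩ hne

end FF

end Groth.Agent.Lib.PurDesc
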