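import Mathlib
import Groth.Prelude
import Groth.Agent.Lib.SpecQ1_helper5
import Groth.Agent.Lib.RelSpecBC_helper5
import Groth.Agent.Lib.AffSpec1_helper5

/-!
# Flat base change for the relative spectrum of a direct image algebra (helper5)
-/

set_option linter.style.haveILetI false
set_option autoImplicit false

universe u

open CategoryTheory CategoryTheory.Limits AlgebraicGeometry TopologicalSpace Opposite RelSpec

noncomputable section

namespace Groth.Agent.Lib.PurDesc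

open Groth.Agent.PullbackLocal

section bc

variable {S S' Y Y' : Scheme.{u}} {f : Y ⟶ S} {g : S' ⟶ S} {f' : Y' ⟶ S'} {g' : Y' ⟶ Y}
  (H : IsPullback g' f' f g) [QuasiCompact f] [QuasiSeparated f] [QuasiCompact f']
  [QuasiSeparated f']

include H in
theorem bc_le (U : S.Opens) : f' ⁻¹ᵁ (g ⁻¹ᵁ U) ≤ g' ⁻¹ᵁ (f ⁻¹ᵁ U) := by
  rw [← Scheme.Hom.comp_preimage, ← Scheme.Hom.comp_preimage, H.w]

/-- the `g`-morphism `f_* O_Y → f'_* O_{Y'}` of a commutative square -/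
def bcQHom : QHom g (QCAlg.directImage f) (QCAlg.directImage f') where
  app U := g'.appLE (f ⁻¹ᵁ U) (f' ⁻¹ᵁ (g ⁻¹ᵁ U)) (bc_le H U)
  naturality {U V} i := by
    change g'.appLE (f ⁻¹ᵁ U) (f' ⁻¹ᵁ (g ⁻¹ᵁ U)) (bc_le H U) ≫
        Y'.presheaf.map (homOfLE (f'.preimage_mono (g.preimage_mono i))).op =
      Y.presheaf.map (homOfLE (f.preimage_mono i)).op ≫
        g'.appLE (f ⁻¹ᵁ V) (f' ⁻¹ᵁ (g ⁻¹ᵁ V)) (bc_le H V)
    rw [Scheme.Hom.appLE_map, Scheme.Hom.map_appLE]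
  str_app U := by
    change f.app U ≫ g'.appLE (f ⁻¹ᵁ U) (f' ⁻¹ᵁ (g ⁻¹ᵁ U)) (bc_le H U) =
      g.app U ≫ f'.app (g ⁻¹ᵁ U)
    rw [Scheme.Hom.app_eq_appLE, Scheme.Hom.appLE_comp_appLE, ← Scheme.Hom.comp_app,
      Scheme.Hom.app_eq_appLE]
    exact appLE_congr H.w _ _ _ _

theorem bcQHom_appLE (U : S.Opens) (U' : S'.Opens) (hle : U' ≤ g ⁻¹ᵁ U) :
    (bcQHom H).appLE U U' hle =
      g'.appLE (f ⁻¹ᵁ U) (f' ⁻¹ᵁ U') ((f'.preimage_mono hle).trans (bc_le H U)) := by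
  change g'.appLE (f ⁻¹ᵁ U) (f' ⁻¹ᵁ (g ⁻¹ᵁ U)) (bc_le H U) ≫
      Y'.presheaf.map (homOfLE (f'.preimage_mono hle)).op = _
  rw [Scheme.Hom.appLE_map]

theorem isQBaseChange_bcQHom [Flat g] : IsQBaseChange (bcQHom H) := by
  intro U hU U' hU' hle
  rw [bcQHom_appLE]
  have hUY : f' ⁻¹ᵁ U' = g' ⁻¹ᵁ (f ⁻¹ᵁ U) ⊓ f' ⁻¹ᵁ U' :=
    (inf_eq_right.mpr ((f'.preimage_mono hle).trans (bc_le H U))).symm
  have hc : IsCompact (X := Y) (f ⁻¹ᵁ U) := f.isCompact_preimage hU.isCompact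
  have hqs : IsQuasiSeparated (α := Y) (f ⁻¹ᵁ U) :=
    f.isQuasiSeparated_preimage hU.isQuasiSeparated
  have hiso := isIso_pushoutSection_of_isQuasiSeparated_of_flat_right H hle
    (le_refl (f ⁻¹ᵁ U)) hUY hU hU' hc hqs
  have hpo := (isIso_pushoutSection_iff H hle (le_refl (f ⁻¹ᵁ U)) hUY).mp hiso
  have hpo' := hpo.flip
  have e1 : f.appLE U (f ⁻¹ᵁ U) (le_refl _) = (QCAlg.directImage f).str.app (op U) := by
    first
      | (rw [Scheme.Hom.appLE_eq_app]; done)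
      | (rw [Scheme.Hom.appLE_eq_app]; rfl)
  have e2 : f'.appLE U' (f' ⁻¹ᵁ U') (le_refl _) =
      (QCAlg.directImage f').str.app (op U') := by
    first
      | (rw [Scheme.Hom.appLE_eq_app]; done)
      | (rw [Scheme.Hom.appLE_eq_app]; rfl)
  rw [e1, e2] at hpo'
  exact hpo'

include H in
/-- **Flat base change**: `Spec(f'_* O_{Y'})` is the base change of `Spec(f_* O_Y)`. -/
theorem exists_isPullback_spec [Flat g] :
    ∃ h : (QCAlg.directImage f').spec ⟶ (QCAlg.directImage f).spec,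
      IsPullback h (QCAlg.directImage f').π (QCAlg.directImage f).π g := by
  obtain ⟨h, hh⟩ := Groth.Agent.SpecQ.exists_isSpecQMap g (QCAlg.directImage f)
    (QCAlg.directImage f') (bcQHom H)
  exact ⟨h, Groth.Agent.RelSpecBC.isPullback_spec g _ _ (bcQHom H) h hh (isQBaseChange_bcQHom H)⟩

end bc

end Groth.Agent.Lib.PurDesc
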