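import Mathlib
import Groth.Prelude
import Groth.Agent.Lib.PurDesc3_helper5
import Groth.Agent.Lib.TorsorProp_helper7

/-!
# Essential surjectivity of restriction of finite étale covers by fpqc descent (helper5)
-/

set_option linter.style.haveILetI false
set_option autoImplicit false

universe u

open CategoryTheory CategoryTheory.Limits AlgebraicGeometry TopologicalSpace Opposite RelSpec

noncomputable section

namespace Groth.Agent.Lib.PurDesc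

section specMapIso

variable {S : Scheme.{u}} {A B : QCAlg S}

theorem specMap_comp_specMap_eq_id (φ : A ⟶ B) (ψ : B ⟶ A) (h : ψ.hom ≫ φ.hom = 𝟙 _) :
    QCAlg.specMap φ ≫ QCAlg.specMap ψ = 𝟙 B.spec := by
  apply colimit.hom_ext
  intro U
  change B.ι U.1 U.2 ≫ QCAlg.specMap φ ≫ QCAlg.specMap ψ = B.ι U.1 U.2 ≫ 𝟙 _
  rw [reassoc_of% (QCAlg.ι_specMap U.1 U.2 φ), QCAlg.ι_specMap U.1 U.2 ψ, ← Spec.map_comp_assoc,
    ← NatTrans.comp_app, h, Category.comp_id]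
  have : (𝟙 B.presheaf : B.presheaf ⟶ B.presheaf).app (op U.1) = 𝟙 _ := rfl
  rw [this, Spec.map_id, Category.id_comp]

theorem isIso_specMap_of_isIso_hom (φ : A ⟶ B) [IsIso φ.hom] : IsIso (QCAlg.specMap φ) := by
  let ψ : B ⟶ A := ⟨inv φ.hom, by rw [IsIso.comp_inv_eq, φ.comm]⟩
  refine ⟨QCAlg.specMap ψ, ?_, ?_⟩
  · exact specMap_comp_specMap_eq_id φ ψ (IsIso.inv_hom_id _)
  · exact specMap_comp_specMap_eq_id ψ φ (IsIso.hom_inv_id _)

end specMapIso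

section dirMap

variable {S Y Y' : Scheme.{u}} (f : Y ⟶ S) (f' : Y' ⟶ S) [QuasiCompact f] [QuasiSeparated f]
  [QuasiCompact f'] [QuasiSeparated f'] (κ : Y' ⟶ Y) (w : κ ≫ f = f')

/-- functoriality of the direct image algebra -/
def dirMap : QCAlg.directImage f ⟶ QCAlg.directImage f' :=
  ⟨AffAlg.algHom f f' κ w, AffAlg.algHom_comm f f' κ w⟩

theorem isIso_dirMap_hom (hκ : ∀ O : Y.Opens, IsIso (κ.app O)) :
    IsIso (dirMap f f' κ w).hom := by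
  haveI : IsIso κ.c := by
    rw [NatTrans.isIso_iff_isIso_app]
    intro O
    exact hκ O.unop
  show IsIso ((TopCat.Presheaf.pushforward CommRingCat.{u} f.base).map κ.c ≫ eqToHom _)
  infer_instance

end dirMap

section ES

variable {V V₀ V₁ V₁₀ : Scheme.{u}} (j : V₀ ⟶ V) [IsOpenImmersion j] [QuasiCompact j]
  (p : V₁ ⟶ V) [Flat p] [Surjective p] [QuasiCompact p]
  (p₀ : V₁₀ ⟶ V₀) (j₁ : V₁₀ ⟶ V₁) (H : IsPullback p₀ j₁ j p)

include H in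
/-- extension of a finite étale cover, scheme-level statement -/
theorem exists_extension
    (H1 : ∀ (E₁₀ : Scheme.{u}) (e₁₀ : E₁₀ ⟶ V₁₀) [IsFinite e₁₀] [Etale e₁₀],
      ∃ (E₁ : Scheme.{u}) (e₁ : E₁ ⟶ V₁) (κ : E₁₀ ⟶ E₁),
        IsFinite e₁ ∧ Etale e₁ ∧ IsPullback κ e₁₀ e₁ j₁)
    (H2 : ∀ (W W₀ : Scheme.{u}) (c : W ⟶ V₁) (κ : W₀ ⟶ W) (c₀ : W₀ ⟶ V₁₀) [IsFinite c] [Etale c],
      IsPullback κ c₀ c j₁ → ∀ O : W.Opens, IsIso (κ.app O))
    {E₀ : Scheme.{u}} (e₀ : E₀ ⟶ V₀) [IsFinite e₀] [Etale e₀] :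
    ∃ (E : Scheme.{u}) (π : E ⟶ V) (k : E₀ ⟶ E), IsFinite π ∧ Etale π ∧ IsPullback k e₀ π j := by
  haveI hj₁ : IsOpenImmersion j₁ := MorphismProperty.of_isPullback (P := @IsOpenImmersion) H
    inferInstance
  haveI hj₁c : QuasiCompact j₁ := MorphismProperty.of_isPullback (P := @QuasiCompact) H
    inferInstance
  haveI hfl : Flat j := inferInstance
  -- the relative spectrum of the direct image
  let A : QCAlg V := QCAlg.directImage (e₀ ≫ j)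
  -- base change along `j`
  have Hj : IsPullback (𝟙 E₀) e₀ (e₀ ≫ j) j := by
    have h1 : IsPullback (𝟙 E₀) e₀ e₀ (𝟙 V₀) := IsPullback.id_horiz e₀
    have h2 : IsPullback (𝟙 V₀) (𝟙 V₀) j j := IsKernelPair.id_of_mono j
    have h3 := h1.paste_vert h2
    rwa [Category.comp_id] at h3
  obtain ⟨h₀, hh₀⟩ := exists_isPullback_spec Hj
  -- base change along `p`
  let e₁₀ : pullback e₀ p₀ ⟶ V₁₀ := pullback.snd e₀ p₀
  have Hp : IsPullback (pullback.fst e₀ p₀) (e₁₀ ≫ j₁) (e₀ ≫ j) p :=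
    (IsPullback.of_hasPullback e₀ p₀).paste_vert H
  obtain ⟨h₁, hh₁⟩ := exists_isPullback_spec Hp
  -- purity upstairs
  obtain ⟨E₁, e₁, κ, hE₁f, hE₁e, Hκ⟩ := H1 _ e₁₀
  have hκiso : ∀ O : E₁.Opens, IsIso (κ.app O) := H2 _ _ e₁ κ e₁₀ Hκ
  let φ : QCAlg.directImage e₁ ⟶ QCAlg.directImage (e₁₀ ≫ j₁) :=
    dirMap e₁ (e₁₀ ≫ j₁) κ Hκ.w
  haveI : IsIso φ.hom := isIso_dirMap_hom e₁ (e₁₀ ≫ j₁) κ Hκ.w hκiso
  haveI : IsIso (QCAlg.specMap φ) := isIso_specMap_of_isIso_hom φ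
  have hπ₁ : (QCAlg.directImage (e₁₀ ≫ j₁)).π =
      QCAlg.specMap φ ≫ Groth.Agent.AffSpec.toX e₁ ≫ e₁ := by
    rw [Groth.Agent.AffSpec.toX_comp, QCAlg.specMap_π]
  have hfin₁ : IsFinite (QCAlg.directImage (e₁₀ ≫ j₁)).π := by
    rw [hπ₁]; infer_instance
  have het₁ : Etale (QCAlg.directImage (e₁₀ ≫ j₁)).π := by
    rw [hπ₁]; infer_instance
  -- descent
  have hQ : (@Surjective ⊓ @Flat ⊓ @QuasiCompact : MorphismProperty Scheme.{u}) p :=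
    ⟨⟨inferInstance, inferInstance⟩, inferInstance⟩
  haveI := Groth.Agent.Lib.TorsorProp_helper7.isFinite_descends.{u}
  have hfin : IsFinite A.π :=
    MorphismProperty.of_isPullback_of_descendsAlong (P := @IsFinite) hh₁.flip hQ hfin₁
  have het : Etale A.π :=
    MorphismProperty.of_isPullback_of_descendsAlong (P := @Etale) hh₁.flip hQ het₁
  -- conclusion
  refine ⟨A.spec, A.π, Groth.Agent.AffSpec.fromX e₀ ≫ h₀, hfin, het, ?_⟩
  refine IsPullback.of_iso hh₀ (asIso (Groth.Agent.AffSpec.toX e₀)) (Iso.refl _) (Iso.refl _)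
    (Iso.refl _) ?_ ?_ ?_ ?_
  · simp [Groth.Agent.AffSpec.fromX]
  · simp [Groth.Agent.AffSpec.toX_comp]
  · simp only [Iso.refl_hom, Category.comp_id, Category.id_comp]
    rfl
  · simp

include H in
/-- **Essential surjectivity by descent.** -/
theorem essSurj_restrict (H1 : (FEt.restrict j₁).EssSurj)
    (H2 : ∀ (W W₀ : Scheme.{u}) (c : W ⟶ V₁) (κ : W₀ ⟶ W) (c₀ : W₀ ⟶ V₁₀) [IsFinite c] [Etale c],
      IsPullback κ c₀ c j₁ → ∀ O : W.Opens, IsIso (κ.app O)) :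
    (FEt.restrict j).EssSurj := by
  refine ⟨fun E₀ => ?_⟩
  haveI hE₀f : IsFinite E₀.hom := E₀.prop.1
  haveI hE₀e : Etale E₀.hom := E₀.prop.2
  have H1' : ∀ (E₁₀ : Scheme.{u}) (e₁₀ : E₁₀ ⟶ V₁₀) [IsFinite e₁₀] [Etale e₁₀],
      ∃ (E₁ : Scheme.{u}) (e₁ : E₁ ⟶ V₁) (κ : E₁₀ ⟶ E₁),
        IsFinite e₁ ∧ Etale e₁ ∧ IsPullback κ e₁₀ e₁ j₁ := by
    intro E₁₀ e₁₀ _ _
    let X₁₀ : FEt.Cat V₁₀ := MorphismProperty.Over.mk ⊤ e₁₀ ⟨inferInstance, inferInstance⟩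
    obtain ⟨E₁, ⟨θ⟩⟩ := H1.mem_essImage X₁₀
    let θl : pullback E₁.hom j₁ ≅ E₁₀ :=
      (MorphismProperty.Over.forget _ _ _ ⋙ CategoryTheory.Over.forget _).mapIso θ
    have hθl : θl.hom ≫ e₁₀ = pullback.snd E₁.hom j₁ := MorphismProperty.Over.w θ.hom
    refine ⟨E₁.left, E₁.hom, θl.inv ≫ pullback.fst E₁.hom j₁, E₁.prop.1, E₁.prop.2, ?_⟩
    refine IsPullback.of_iso (IsPullback.of_hasPullback E₁.hom j₁) θl (Iso.refl _) (Iso.refl _)
      (Iso.refl _) ?_ ?_ ?_ ?_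
    · simp
    · simp [hθl]
    · simp
    · simp
  obtain ⟨E, π, k, hfin, het, Hk⟩ := exists_extension j p p₀ j₁ H H1' H2 E₀.hom
  let Ê : FEt.Cat V := MorphismProperty.Over.mk ⊤ π ⟨hfin, het⟩
  refine ⟨Ê, ⟨?_⟩⟩
  refine MorphismProperty.Over.isoMk Hk.isoPullback.symm ?_
  exact Hk.isoPullback_inv_snd

end ES

end Groth.Agent.Lib.PurDesc
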