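import Mathlib
import Groth.Prelude
import Groth.Agent.Lib.TrDual4_helper5

/-!
# Finiteness of the sections of a finite étale cover of a Hartogs-open (helper5)

`X` locally Noetherian, `W` an affine open, `ι : U₀ ⟶ X` an open immersion with
`Γ(X, W) → Γ(U₀, ι⁻¹ W)` bijective, `π₀ : V ⟶ U₀` finite étale. Then `Γ(V, π₀⁻¹ ι⁻¹ W)` is a finite
`Γ(X, W)`-module.  The proof embeds it, by the trace form, into a finite free module.
-/

set_option linter.style.haveILetI false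
set_option autoImplicit false

universe u

open CategoryTheory CategoryTheory.Limits AlgebraicGeometry TopologicalSpace Opposite
open QcqsLoc QCohExtn

namespace Groth.Agent.Lib.PurExt

open Groth.Agent.Lib.TrDual

section Trace

variable {U₀ V : Scheme.{u}} (π₀ : V ⟶ U₀) [IsFinite π₀] [Etale π₀]

/-- the global trace on sections over an open -/
noncomputable def Tr (O : U₀.Opens) (t : Γ(V, π₀ ⁻¹ᵁ O)) : Γ(U₀, O) :=
  ofG (𝟙 U₀) (ap (TT (idSq π₀) (1 : Γ(V, ⊤))) O (toG π₀ t))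

theorem Tr_add (O : U₀.Opens) (t t' : Γ(V, π₀ ⁻¹ᵁ O)) :
    Tr π₀ O (t + t') = Tr π₀ O t + Tr π₀ O t' := by
  unfold Tr
  rw [toG_add, map_add, ofG_add]
  rfl

theorem Tr_zero (O : U₀.Opens) : Tr π₀ O 0 = 0 := by
  have h := Tr_add π₀ O 0 0
  rw [add_zero] at h
  exact left_eq_add.mp h

theorem Tr_smul (O : U₀.Opens) (r : Γ(U₀, O)) (t : Γ(V, π₀ ⁻¹ᵁ O)) :
    Tr π₀ O ((π₀.app O).hom r * t) = r * Tr π₀ O t := by
  unfold Tr
  rw [← smul_toG, ap_smul, ofG_smul]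
  congr 1

theorem Tr_res_free {O D : U₀.Opens} (hD : D ∈ FreeOpens π₀) (h : D ≤ O)
    (t : Γ(V, π₀ ⁻¹ᵁ O)) :
    (U₀.presheaf.map (homOfLE h).op).hom (Tr π₀ O t) =
      trH (π₀.app D).hom ((V.presheaf.map (homOfLE (preimage_mono π₀ h)).op).hom t) := by
  unfold Tr
  have h1 : (U₀.presheaf.map (homOfLE h).op).hom
      (ofG (𝟙 U₀) (ap (TT (idSq π₀) (1 : Γ(V, ⊤))) O (toG π₀ t))) =
      ofG (𝟙 U₀) (rF (GG (𝟙 U₀)) h (ap (TT (idSq π₀) (1 : Γ(V, ⊤))) O (toG π₀ t))) := rfl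
  rw [h1, ← ap_rF, rF_toG, ap_TT (idSq π₀) 1 hD, ofG_toG]
  congr 1
  have h2 : resTop (1 : Γ(V, ⊤)) (π₀ ⁻¹ᵁ ((𝟙 U₀ : U₀ ⟶ U₀) ⁻¹ᵁ D)) = 1 := by
    unfold resTop
    exact map_one _
  rw [h2, one_mul, id_appLE]
  rw [← CommRingCat.comp_apply, ← Functor.map_comp]
  rfl

end Trace

section Loc

/-- the qcqs lemma for an open equal to a basic open -/
theorem isLocalization_of_eq_qcqs {V : Scheme.{u}} {P Pj : V.Opens} (hc : IsCompact (P : Set V))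
    (hqs : IsQuasiSeparated (P : Set V)) (β : Γ(V, P)) (e : Pj = V.basicOpen β) (i : Pj ≤ P) :
    @IsLocalization.Away _ _ β Γ(V, Pj) _ (V.presheaf.map (homOfLE i).op).hom.toAlgebra := by
  subst e
  exact isLocalization_basicOpen_of_qcqs hc hqs β

theorem isUnit_res_of_eq {U₀ : Scheme.{u}} {O D : U₀.Opens} (ρ : Γ(U₀, O))
    (e : D = U₀.basicOpen ρ) (i : D ≤ O) :
    IsUnit ((U₀.presheaf.map (homOfLE i).op).hom ρ) := by
  subst e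
  exact U₀.toRingedSpace.isUnit_res_basicOpen ρ

variable {U₀ V : Scheme.{u}} (π₀ : V ⟶ U₀) [IsFinite π₀] [Etale π₀]

theorem app_res' {O D : U₀.Opens} (h : D ≤ O) (r : Γ(U₀, O)) :
    (V.presheaf.map (homOfLE (preimage_mono π₀ h)).op).hom ((π₀.app O).hom r) =
      (π₀.app D).hom ((U₀.presheaf.map (homOfLE h).op).hom r) := by
  rw [← CommRingCat.comp_apply, ← CommRingCat.comp_apply]
  congr 2
  exact (π₀.naturality (homOfLE h).op).symm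

/-- the local test set -/
theorem exists_test_set_local {O : U₀.Opens} (hOc : IsCompact (O : Set U₀))
    (hOqs : IsQuasiSeparated (O : Set U₀)) (ρ : Γ(U₀, O))
    (hD : U₀.basicOpen ρ ∈ FreeOpens π₀) :
    ∃ S : Set Γ(V, π₀ ⁻¹ᵁ O), S.Finite ∧ ∀ s : Γ(V, π₀ ⁻¹ᵁ O),
      (∀ b ∈ S, Tr π₀ O (s * b) = 0) →
      (V.presheaf.map (homOfLE (preimage_mono π₀ (U₀.basicOpen_le ρ))).op).hom s = 0 := by
  have hDO : U₀.basicOpen ρ ≤ O := U₀.basicOpen_le ρ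
  have hPc : IsCompact ((π₀ ⁻¹ᵁ O : V.Opens) : Set V) := π₀.isCompact_preimage hOc
  have hPqs : IsQuasiSeparated ((π₀ ⁻¹ᵁ O : V.Opens) : Set V) :=
    π₀.isQuasiSeparated_preimage hOqs
  set β : Γ(V, π₀ ⁻¹ᵁ O) := (π₀.app O).hom ρ with hβ
  have hPj : π₀ ⁻¹ᵁ (U₀.basicOpen ρ) = V.basicOpen β := Scheme.preimage_basicOpen π₀ ρ
  set res : Γ(V, π₀ ⁻¹ᵁ O) →+* Γ(V, π₀ ⁻¹ᵁ (U₀.basicOpen ρ)) :=
    (V.presheaf.map (homOfLE (preimage_mono π₀ hDO)).op).hom with hres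
  set φ : Γ(U₀, U₀.basicOpen ρ) →+* Γ(V, π₀ ⁻¹ᵁ (U₀.basicOpen ρ)) :=
    (π₀.app (U₀.basicOpen ρ)).hom with hφ
  have hloc := isLocalization_of_eq_qcqs hPc hPqs β hPj (preimage_mono π₀ hDO)
  have hfe : FinFreeEt φ := finFreeEt_of_mem π₀ hD
  set u : Γ(U₀, U₀.basicOpen ρ) := (U₀.presheaf.map (homOfLE hDO).op).hom ρ with hu
  have huu : IsUnit u := isUnit_res_of_eq ρ rfl hDO
  have hresβ : res β = φ u := app_res' π₀ hDO ρ
  -- lifting elements of the localization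
  have hsurj : ∀ y : Γ(V, π₀ ⁻¹ᵁ (U₀.basicOpen ρ)), ∃ (x : Γ(V, π₀ ⁻¹ᵁ O)) (n : ℕ),
      res x = res β ^ n * y := by
    intro y
    letI := res.toAlgebra
    haveI : IsLocalization.Away β Γ(V, π₀ ⁻¹ᵁ (U₀.basicOpen ρ)) := hloc
    obtain ⟨⟨x, ⟨_, n, rfl⟩⟩, hx⟩ := IsLocalization.surj (Submonoid.powers β) y
    refine ⟨x, n, ?_⟩
    have hx' : y * res (β ^ n) = res x := hx
    rw [← hx', map_pow, mul_comm]
  choose lift expo hlift using hsurj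
  -- a finite spanning set
  letI algφ : Algebra Γ(U₀, U₀.basicOpen ρ) Γ(V, π₀ ⁻¹ᵁ (U₀.basicOpen ρ)) := φ.toAlgebra
  haveI hfin : Module.Finite Γ(U₀, U₀.basicOpen ρ) Γ(V, π₀ ⁻¹ᵁ (U₀.basicOpen ρ)) := hfe.2.1
  obtain ⟨T, hTfin, hTspan⟩ := Submodule.fg_def.mp
    (Module.Finite.fg_top (R := Γ(U₀, U₀.basicOpen ρ)) (M := Γ(V, π₀ ⁻¹ᵁ (U₀.basicOpen ρ))))
  refine ⟨lift '' T, hTfin.image lift, fun s hs => ?_⟩
  refine trH_nondeg hfe (res s) 0 (fun z => ?_)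
  rw [zero_mul, trH_zero]
  have hz : z ∈ Submodule.span Γ(U₀, U₀.basicOpen ρ) T := by rw [hTspan]; trivial
  induction hz using Submodule.span_induction with
  | mem y hy =>
    have h0 := hs (lift y) ⟨y, hy, rfl⟩
    have h1 := Tr_res_free π₀ hD hDO (s * lift y)
    rw [h0, map_zero] at h1
    have h2 : (V.presheaf.map (homOfLE (preimage_mono π₀ hDO)).op).hom (s * lift y) =
        φ (u ^ expo y) * (res s * y) := by
      show res (s * lift y) = _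
      rw [map_mul, hlift y, hresβ, map_pow]
      ring
    rw [h2, trH_mul_left] at h1
    exact ((huu.pow (expo y)).mul_right_eq_zero).mp h1.symm
  | zero => rw [mul_zero, trH_zero]
  | add a b _ _ ha hb => rw [mul_add, trH_add, ha, hb, add_zero]
  | smul r a _ ha =>
    have : res s * (r • a) = φ r * (res s * a) := by
      rw [Algebra.smul_def]
      show res s * (φ r * a) = _
      ring
    rw [this, trH_mul_left, ha, mul_zero]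

end Loc

section Glob

variable {X U₀ V : Scheme.{u}} [IsLocallyNoetherian X] (ι : U₀ ⟶ X) [IsOpenImmersion ι]
  (π₀ : V ⟶ U₀) [IsFinite π₀] [Etale π₀]

/-- every point of `ι⁻¹ W` lies in a free basic open of a function on `ι⁻¹ W` -/
theorem exists_free_basicOpen (W : X.Opens) (hW : IsAffineOpen W) (u : U₀)
    (hu : u ∈ ι ⁻¹ᵁ W) :
    ∃ ρ : Γ(U₀, ι ⁻¹ᵁ W), u ∈ U₀.basicOpen ρ ∧ U₀.basicOpen ρ ∈ FreeOpens π₀ := by
  obtain ⟨Ou, hOu, huOu, hOuO⟩ := FlatNormH4.exists_isFreeOpen π₀ (ι ⁻¹ᵁ W) u hu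
  -- a basic open of `W` inside the image of `Ou`
  have hmem : ι.base u ∈ (ι ''ᵁ Ou : X.Opens) := ⟨u, huOu, rfl⟩
  obtain ⟨f, hf, hxf⟩ := hW.exists_basicOpen_le (V := ι ''ᵁ Ou) ⟨ι.base u, hmem⟩ hu
  set ρ : Γ(U₀, ι ⁻¹ᵁ W) := (ι.app W).hom f with hρ
  have hb : U₀.basicOpen ρ = ι ⁻¹ᵁ (X.basicOpen f) := (Scheme.preimage_basicOpen ι f).symm
  have hle : U₀.basicOpen ρ ≤ Ou := by
    rw [hb]
    intro v hv
    have hv' : ι.base v ∈ (ι ''ᵁ Ou : X.Opens) := hf hv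
    obtain ⟨v', hv'Ou, hvv'⟩ := hv'
    have : v' = v := ι.isOpenEmbedding.injective hvv'
    exact this ▸ hv'Ou
  refine ⟨ρ, ?_, ?_⟩
  · rw [hb]; exact hxf
  · -- basic open of a free open
    set r : Γ(U₀, Ou) := (U₀.presheaf.map (homOfLE hOuO).op).hom ρ with hr
    have hW' : U₀.basicOpen ρ = U₀.basicOpen r := by
      rw [hr, Scheme.basicOpen_res]
      exact (inf_eq_right.mpr hle).symm
    exact (FlatNormH4.isFreeOpen_basicOpen π₀ Ou hOu r (U₀.basicOpen ρ) hW' (homOfLE hle)).1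

/-- a finite global test set -/
theorem exists_test_set (W : X.Opens) (hW : IsAffineOpen W) :
    ∃ S : Set Γ(V, π₀ ⁻¹ᵁ (ι ⁻¹ᵁ W)), S.Finite ∧ ∀ s : Γ(V, π₀ ⁻¹ᵁ (ι ⁻¹ᵁ W)),
      (∀ b ∈ S, Tr π₀ (ι ⁻¹ᵁ W) (s * b) = 0) → s = 0 := by
  have hOc : IsCompact ((ι ⁻¹ᵁ W : U₀.Opens) : Set U₀) := ι.isCompact_preimage hW.isCompact
  have hOqs : IsQuasiSeparated ((ι ⁻¹ᵁ W : U₀.Opens) : Set U₀) :=
    ι.isQuasiSeparated_preimage hW.isQuasiSeparated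
  choose ρ hρ1 hρ2 using fun u : (ι ⁻¹ᵁ W : U₀.Opens) =>
    exists_free_basicOpen ι π₀ W hW u.1 u.2
  obtain ⟨F, hF⟩ := hOc.elim_finite_subcover (fun u : (ι ⁻¹ᵁ W : U₀.Opens) =>
    ((U₀.basicOpen (ρ u) : U₀.Opens) : Set U₀)) (fun u => (U₀.basicOpen (ρ u)).isOpen)
    (fun v hv => Set.mem_iUnion.mpr ⟨⟨v, hv⟩, hρ1 ⟨v, hv⟩⟩)
  choose S hSfin hS using fun u : (ι ⁻¹ᵁ W : U₀.Opens) =>
    exists_test_set_local π₀ hOc hOqs (ρ u) (hρ2 u)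
  refine ⟨⋃ u ∈ F, S u, F.finite_toSet.biUnion (fun u _ => hSfin u), fun s hs => ?_⟩
  have key : ∀ u ∈ F, (V.presheaf.map
      (homOfLE (preimage_mono π₀ (U₀.basicOpen_le (ρ u)))).op).hom s = 0 := by
    intro u hu
    exact hS u s (fun b hb => hs b (Set.mem_biUnion hu hb))
  -- glue
  refine toO_injective (Z := V) ?_
  refine (eq_zero_of_cover (Coh.structureModule V) (toO s) fun y hy => ?_)
  have hy' : π₀.base y ∈ ((ι ⁻¹ᵁ W : U₀.Opens) : Set U₀) := hy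
  obtain ⟨u, huF, hyu⟩ := Set.mem_iUnion₂.mp (hF hy')
  refine ⟨π₀ ⁻¹ᵁ (U₀.basicOpen (ρ u)), preimage_mono π₀ (U₀.basicOpen_le (ρ u)), hyu, ?_⟩
  rw [rF_toO, key u huF]
  rfl

/-- **Finiteness.** -/
theorem finite_app (W : X.Opens) (hW : IsAffineOpen W)
    (hι : Function.Surjective (ι.app W).hom) : ((π₀ ≫ ι).app W).hom.Finite := by
  haveI : IsNoetherianRing Γ(X, W) := IsLocallyNoetherian.component_noetherian ⟨W, hW⟩
  obtain ⟨S, hSfin, hS⟩ := exists_test_set ι π₀ W hW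
  set ψ : Γ(X, W) →+* Γ(V, π₀ ⁻¹ᵁ (ι ⁻¹ᵁ W)) :=
    (π₀.app (ι ⁻¹ᵁ W)).hom.comp (ι.app W).hom with hψ
  have hcomp : ((π₀ ≫ ι).app W).hom = ψ := by
    rw [Scheme.Hom.comp_app]
    rfl
  rw [hcomp]
  letI algB : Algebra Γ(X, W) Γ(V, π₀ ⁻¹ᵁ (ι ⁻¹ᵁ W)) := ψ.toAlgebra
  letI algR : Algebra Γ(X, W) Γ(U₀, ι ⁻¹ᵁ W) := (ι.app W).hom.toAlgebra
  show Module.Finite Γ(X, W) Γ(V, π₀ ⁻¹ᵁ (ι ⁻¹ᵁ W))
  haveI : Finite S := hSfin.to_subtype
  haveI : Module.Finite Γ(X, W) Γ(U₀, ι ⁻¹ᵁ W) :=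
    Module.Finite.of_surjective (Algebra.linearMap Γ(X, W) Γ(U₀, ι ⁻¹ᵁ W)) hι
  let Φ : Γ(V, π₀ ⁻¹ᵁ (ι ⁻¹ᵁ W)) →ₗ[Γ(X, W)] (S → Γ(U₀, ι ⁻¹ᵁ W)) :=
    { toFun := fun s b => Tr π₀ (ι ⁻¹ᵁ W) (s * b.1)
      map_add' := fun s s' => by
        funext b
        show Tr π₀ (ι ⁻¹ᵁ W) ((s + s') * b.1) = _
        rw [add_mul, Tr_add]
        rfl
      map_smul' := fun r s => by
        funext b
        show Tr π₀ (ι ⁻¹ᵁ W) ((r • s) * b.1) = r • Tr π₀ (ι ⁻¹ᵁ W) (s * b.1)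
        rw [Algebra.smul_def, Algebra.smul_def]
        show Tr π₀ (ι ⁻¹ᵁ W) (((π₀.app (ι ⁻¹ᵁ W)).hom ((ι.app W).hom r) * s) * b.1) =
          (ι.app W).hom r * Tr π₀ (ι ⁻¹ᵁ W) (s * b.1)
        rw [mul_assoc, Tr_smul] }
  have hΦ : Function.Injective Φ := by
    rw [injective_iff_map_eq_zero]
    intro s hs
    apply hS
    intro b hb
    exact congrFun hs ⟨b, hb⟩
  exact Module.Finite.of_injective Φ hΦ

end Glob

end Groth.Agent.Lib.PurExt
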