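import Mathlib
import Groth.Prelude
import Groth.Agent.Lib.PurExt1_helper5
import Groth.Agent.Lib.PurDesc4_helper5
import Groth.Agent.Lib.PurDesc1_helper5
import Groth.Agent.Lib.HartConv1_helper8
import Groth.Agent.S8255

/-!
# The finite extension `Spec_X (j_* O_V)` of a finite étale cover `V` of a Hartogs-open (helper5)
-/

set_option linter.style.haveILetI false
set_option autoImplicit false

universe u

open CategoryTheory CategoryTheory.Limits AlgebraicGeometry TopologicalSpace Opposite RelSpec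

noncomputable section

namespace Groth.Agent.Lib.PurExt

open Groth.Agent.Lib.PurDesc

section Ext

variable {X U₀ V : Scheme.{u}} [IsLocallyNoetherian X] (ι : U₀ ⟶ X) [IsOpenImmersion ι]
  (π₀ : V ⟶ U₀) [IsFinite π₀] [Etale π₀]

/-- the quasi-coherent algebra `j_* O_V` on `X` -/
abbrev extAlg : QCAlg X := QCAlg.directImage (π₀ ≫ ι)

/-- finiteness of `Spec_X (j_* O_V) → X` when `O_X → ι_* O_{U₀}` is surjective on affine opens -/
theorem isFinite_π (hι : ∀ W : X.Opens, IsAffineOpen W → Function.Surjective (ι.app W).hom) :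
    IsFinite (extAlg ι π₀).π := by
  refine ⟨fun W hW => ?_⟩
  haveI : IsIso ((extAlg ι π₀).gammaAff W hW) :=
    Groth.Agent.RelSpecBC.isIso_gammaAff _ W hW
  have h1 : (extAlg ι π₀).π.app W =
      (extAlg ι π₀).str.app (op W) ≫ inv ((extAlg ι π₀).gammaAff W hW) := by
    rw [IsIso.eq_comp_inv]
    exact (extAlg ι π₀).π_app_gammaAff W hW
  rw [h1, CommRingCat.hom_comp]
  have h2 : ((extAlg ι π₀).str.app (op W)).hom.Finite := finite_app ι π₀ W hW (hι W hW)
  refine RingHom.Finite.comp ?_ h2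
  refine RingHom.Finite.of_surjective _ ?_
  exact ((ConcreteCategory.isIso_iff_bijective
    (inv ((extAlg ι π₀).gammaAff W hW))).mp inferInstance).2

/-- the cover `V` is the restriction of `Spec_X (j_* O_V)` -/
theorem exists_isPullback_ext :
    ∃ k : V ⟶ (extAlg ι π₀).spec, IsPullback k π₀ (extAlg ι π₀).π ι := by
  haveI hfl : Flat ι := inferInstance
  have Hj : IsPullback (𝟙 V) π₀ (π₀ ≫ ι) ι := by
    have h1 : IsPullback (𝟙 V) π₀ π₀ (𝟙 U₀) := IsPullback.id_horiz π₀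
    have h2 : IsPullback (𝟙 U₀) (𝟙 U₀) ι ι := IsKernelPair.id_of_mono ι
    have h3 := h1.paste_vert h2
    rwa [Category.comp_id] at h3
  obtain ⟨h₀, hh₀⟩ := exists_isPullback_spec Hj
  refine ⟨Groth.Agent.AffSpec.fromX π₀ ≫ h₀, ?_⟩
  refine IsPullback.of_iso hh₀ (asIso (Groth.Agent.AffSpec.toX π₀)) (Iso.refl _) (Iso.refl _)
    (Iso.refl _) ?_ ?_ ?_ ?_
  · simp [Groth.Agent.AffSpec.fromX]
  · simp [Groth.Agent.AffSpec.toX_comp]
  · simp only [Iso.refl_hom, Category.comp_id, Category.id_comp]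
  · simp

end Ext

section Depth

theorem isIso_map_of_eq {Z : Scheme.{u}} {O₁ O₂ : Z.Opens} (h : O₁ = O₂) (i : O₁ ≤ O₂) :
    IsIso (Z.presheaf.map (homOfLE i).op) := by
  subst h
  have : homOfLE i = 𝟙 O₁ := rfl
  rw [this, op_id, Z.presheaf.map_id]
  infer_instance

variable {X U₀ V : Scheme.{u}} [IsLocallyNoetherian X] (ι : U₀ ⟶ X) [IsOpenImmersion ι]
  (π₀ : V ⟶ U₀) [IsFinite π₀] [Etale π₀]

theorem preimage_inf_range (W : X.Opens) :
    (π₀ ≫ ι) ⁻¹ᵁ (W ⊓ ι.opensRange) = (π₀ ≫ ι) ⁻¹ᵁ W := by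
  ext v
  constructor
  · intro hv; exact hv.1
  · intro hv
    refine ⟨hv, ?_⟩
    show (π₀ ≫ ι).base v ∈ Set.range ι.base
    rw [Scheme.Hom.comp_base]
    exact ⟨π₀.base v, rfl⟩

/-- Hartogs for `Spec_X (j_* O_V)` along the preimage of the range of `ι`. -/
theorem bijective_res_spec (W : X.Opens) :
    Function.Bijective ((extAlg ι π₀).spec.presheaf.map
      (homOfLE (inf_le_left : (extAlg ι π₀).π ⁻¹ᵁ W ⊓ (extAlg ι π₀).π ⁻¹ᵁ ι.opensRange ≤
        (extAlg ι π₀).π ⁻¹ᵁ W)).op) := by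
  haveI hg : IsIso (extAlg ι π₀).gammaMap := Groth.Agent.S8255.result (extAlg ι π₀)
  have i : W ⊓ ι.opensRange ≤ W := inf_le_left
  have hnat := (extAlg ι π₀).gammaMap.naturality (homOfLE i).op
  haveI h1 : IsIso ((extAlg ι π₀).gammaMap.app (op W)) := NatIso.isIso_app_of_isIso _ _
  haveI h2 : IsIso ((extAlg ι π₀).gammaMap.app (op (W ⊓ ι.opensRange))) :=
    NatIso.isIso_app_of_isIso _ _
  haveI h3 : IsIso ((extAlg ι π₀).presheaf.map (homOfLE i).op) :=
    isIso_map_of_eq (Z := V) (preimage_inf_range ι π₀ W)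
      ((π₀ ≫ ι).preimage_mono i)
  have h4 : ((extAlg ι π₀).π.base _* (extAlg ι π₀).spec.presheaf).map (homOfLE i).op =
      (extAlg ι π₀).gammaMap.app (op W) ≫ (extAlg ι π₀).presheaf.map (homOfLE i).op ≫
        inv ((extAlg ι π₀).gammaMap.app (op (W ⊓ ι.opensRange))) := by
    rw [← Category.assoc, IsIso.eq_comp_inv]
    exact hnat
  have h5 : IsIso (((extAlg ι π₀).π.base _* (extAlg ι π₀).spec.presheaf).map (homOfLE i).op) := by
    rw [h4]; infer_instance
  exact (ConcreteCategory.isIso_iff_bijective _).mp h5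

open HartConvH8 in
theorem two_le_depth_spec (hfin : IsFinite (extAlg ι π₀).π) (y : (extAlg ι π₀).spec)
    (hy : (extAlg ι π₀).π.base y ∉ ι.opensRange) :
    (2 : ℕ∞) ≤ LocCoh.depth ((extAlg ι π₀).spec.presheaf.stalk y)
      ((extAlg ι π₀).spec.presheaf.stalk y) := by
  haveI : IsLocallyNoetherian (extAlg ι π₀).spec :=
    LocallyOfFiniteType.isLocallyNoetherian (extAlg ι π₀).π
  obtain ⟨_, ⟨W, hW : IsAffineOpen W, rfl⟩, hxW, -⟩ :=
    (X.isBasis_affineOpens).exists_subset_of_mem_open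
      (Set.mem_univ ((extAlg ι π₀).π.base y)) isOpen_univ
  have hW' : IsAffineOpen ((extAlg ι π₀).π ⁻¹ᵁ W) := hW.preimage (extAlg ι π₀).π
  have hyW' : y ∈ (extAlg ι π₀).π ⁻¹ᵁ W := hxW
  haveI : (Coh.structureModule (extAlg ι π₀).spec).IsQuasicoherent :=
    SerreCrit.isQuasicoherent_OO
  haveI := Groth.Agent.HartogsRing.isFiniteType_structureModule (X := (extAlg ι π₀).spec)
  haveI : IsNoetherianRing Γ((extAlg ι π₀).spec, (extAlg ι π₀).π ⁻¹ᵁ W) :=
    IsLocallyNoetherian.component_noetherian ⟨_, hW'⟩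
  haveI : Module.Finite Γ((extAlg ι π₀).spec, (extAlg ι π₀).π ⁻¹ᵁ W)
      Γ(Coh.structureModule (extAlg ι π₀).spec, (extAlg ι π₀).π ⁻¹ᵁ W) :=
    QCohFT.finite_of_isFiniteType _ hW'
  have hbij : Function.Bijective (ZClosH8.res (Coh.structureModule (extAlg ι π₀).spec)
      (inf_le_left : (extAlg ι π₀).π ⁻¹ᵁ W ⊓ (extAlg ι π₀).π ⁻¹ᵁ ι.opensRange ≤
        (extAlg ι π₀).π ⁻¹ᵁ W)) := bijective_res_spec ι π₀ W
  have h2 := two_le_idealDepth (Coh.structureModule (extAlg ι π₀).spec) hW'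
    ((extAlg ι π₀).π ⁻¹ᵁ ι.opensRange) hbij
    (idealOf ((extAlg ι π₀).π ⁻¹ᵁ W) ((extAlg ι π₀).π ⁻¹ᵁ ι.opensRange)) (fun f hf => hf)
  have hIy : idealOf ((extAlg ι π₀).π ⁻¹ᵁ W) ((extAlg ι π₀).π ⁻¹ᵁ ι.opensRange) ≤
      (hW'.primeIdealOf ⟨y, hyW'⟩).asIdeal := by
    intro f hf
    by_contra hfp
    exact hy (hf (mem_basicOpen_of_notMem_prime hW' hyW' hfp))
  have h3 := two_le_depth_stalk (Coh.structureModule (extAlg ι π₀).spec) hW' hyW' _ hIy h2
  rwa [Groth.Agent.HartogsRing.depth_structureModule_stalk] at h3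

end Depth

end Groth.Agent.Lib.PurExt
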