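import Mathlib
import Groth.Prelude
import Groth.Agent.Lib.PurExt2_helper5
import Groth.Agent.Lib.PurDesc2_helper5
import Groth.Agent.Lib.SerreNormal_helper5

/-!
# Extension criterion over an affine base: `V` extends iff `Γ(V, O_V)` is étale (helper5)
-/

set_option linter.style.haveILetI false
set_option autoImplicit false

universe u

open CategoryTheory CategoryTheory.Limits AlgebraicGeometry TopologicalSpace Opposite RelSpec
open IsLocalRing

noncomputable section

namespace Groth.Agent.Lib.PurExt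

open Groth.Agent.Lib.PurDesc

section Stalk

variable (A : Type u) [CommRing A] [IsLocalRing A] [IsNoetherianRing A]

/-- the stalk of `Spec A` at the closed point of a local ring `A` is `A` -/
def stalkEquiv :
    A ≃+* ((Spec (CommRingCat.of A)).presheaf.stalk (closedPoint A)) := by
  letI : Algebra A ((Spec.structureSheaf A).presheaf.stalk (closedPoint A)) :=
    StructureSheaf.stalkAlgebra A _
  haveI : IsLocalization.AtPrime ((Spec.structureSheaf A).presheaf.stalk (closedPoint A))
      (closedPoint A).asIdeal := StructureSheaf.IsLocalization.to_stalk A _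
  have h : (closedPoint A).asIdeal.primeCompl ≤ IsUnit.submonoid A := by
    intro a ha
    exact IsLocalRing.notMem_maximalIdeal.mp ha
  exact (IsLocalization.atUnits A (closedPoint A).asIdeal.primeCompl
    (S := (Spec.structureSheaf A).presheaf.stalk (closedPoint A)) h).toRingEquiv

theorem depth_stalk_closedPoint :
    LocCoh.depth ((Spec (CommRingCat.of A)).presheaf.stalk (closedPoint A))
      ((Spec (CommRingCat.of A)).presheaf.stalk (closedPoint A)) = LocCoh.depth A A :=
  (Groth.Agent.SerreLib.depth_eq_of_ringEquiv _ _ (stalkEquiv A)).symm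

/-- Hartogs hypothesis for the punctured spectrum of a local ring of depth `≥ 2` -/
theorem depth_hyp_punctured (hd : (2 : ℕ∞) ≤ LocCoh.depth A A) :
    ∀ x : (Spec (CommRingCat.of A) : Scheme.{u}), x ∉ (FEt.puncturedSpec A).ι.opensRange →
      (2 : ℕ∞) ≤ LocCoh.depth ((Spec (CommRingCat.of A)).presheaf.stalk x)
        ((Spec (CommRingCat.of A)).presheaf.stalk x) := by
  intro x hx
  rw [Scheme.Opens.opensRange_ι] at hx
  have hx' : x = closedPoint A := by
    by_contra hne
    exact hx hne
  subst hx'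
  rw [depth_stalk_closedPoint]
  exact hd

end Stalk

section AffineCrit

variable {X U₀ V : Scheme.{u}} [IsAffine X] [IsLocallyNoetherian X] (ι : U₀ ⟶ X)
  [IsOpenImmersion ι] (π₀ : V ⟶ U₀) [IsFinite π₀] [Etale π₀]

theorem etale_π_of_etale_appTop (h : ((π₀ ≫ ι).appTop).hom.Etale) :
    Etale (extAlg ι π₀).π := by
  haveI : IsAffine (extAlg ι π₀).spec := isAffine_of_isAffineHom (extAlg ι π₀).π
  rw [HasRingHomProperty.iff_of_isAffine (P := @Etale)]
  haveI hiso : IsIso ((extAlg ι π₀).gammaAff ⊤ (isAffineOpen_top X)) :=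
    Groth.Agent.RelSpecBC.isIso_gammaAff _ ⊤ (isAffineOpen_top X)
  have h1 : (extAlg ι π₀).π.app ⊤ =
      (extAlg ι π₀).str.app (op ⊤) ≫ inv ((extAlg ι π₀).gammaAff ⊤ (isAffineOpen_top X)) := by
    rw [IsIso.eq_comp_inv]
    exact (extAlg ι π₀).π_app_gammaAff ⊤ (isAffineOpen_top X)
  show ((extAlg ι π₀).π.app ⊤).hom.Etale
  rw [h1, CommRingCat.hom_comp]
  have h2 : ((extAlg ι π₀).str.app (op ⊤)).hom.Etale := h
  refine RingHom.Etale.stableUnderComposition _ _ h2 ?_
  exact RingHom.Etale.of_bijective ((ConcreteCategory.isIso_iff_bijective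
    (inv ((extAlg ι π₀).gammaAff ⊤ (isAffineOpen_top X)))).mp inferInstance)

variable (hU : ∀ x : X, x ∉ ι.opensRange →
    (2 : ℕ∞) ≤ LocCoh.depth (X.presheaf.stalk x) (X.presheaf.stalk x))

include hU in
theorem etale_appTop_of_extension {Y : Scheme.{u}} (c : Y ⟶ X) [IsFinite c] [Etale c]
    (θ : pullback c ι ≅ V) (hθ : θ.hom ≫ π₀ = pullback.snd c ι) :
    ((π₀ ≫ ι).appTop).hom.Etale := by
  haveI : IsAffine Y := isAffine_of_isAffineHom c
  haveI hκ : IsIso (pullback.fst c ι).appTop :=
    isIso_fst_app ι hU (𝟙 X) (𝟙 U₀) ι (IsPullback.id_horiz ι) c ⊤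
  haveI hθiso : IsIso θ.hom.appTop := by
    refine ⟨θ.inv.appTop, ?_, ?_⟩
    · rw [← Scheme.Hom.comp_appTop, Iso.inv_hom_id, Scheme.Hom.id_appTop]
    · rw [← Scheme.Hom.comp_appTop, Iso.hom_inv_id, Scheme.Hom.id_appTop]
  have hc : c.appTop.hom.Etale := HasRingHomProperty.appTop (P := @Etale) c inferInstance
  have e1 : pullback.fst c ι ≫ c = θ.hom ≫ π₀ ≫ ι := by
    rw [pullback.condition, ← Category.assoc, hθ]
  have e2 : c.appTop ≫ (pullback.fst c ι).appTop = (π₀ ≫ ι).appTop ≫ θ.hom.appTop := by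
    rw [← Scheme.Hom.comp_appTop, ← Scheme.Hom.comp_appTop, e1]
  have e3 : (π₀ ≫ ι).appTop = c.appTop ≫ (pullback.fst c ι).appTop ≫ inv θ.hom.appTop := by
    rw [← Category.assoc, IsIso.eq_comp_inv, e2]
  rw [e3, CommRingCat.hom_comp]
  refine RingHom.Etale.stableUnderComposition _ _ hc ?_
  exact RingHom.Etale.of_bijective ((ConcreteCategory.isIso_iff_bijective
    ((pullback.fst c ι).appTop ≫ inv θ.hom.appTop)).mp inferInstance)

end AffineCrit

end Groth.Agent.Lib.PurExt
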