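import Mathlib
import Groth.Agent.Lib.Depth_helper5

set_option linter.style.haveILetI false

/-!
# Extension across the closed point for submodules of depth ≥ 2

`mem_of_punctured`: `A` Noetherian local domain (not a field), `V` torsion-free, `M ≤ V` a finite
submodule of depth ≥ 2, `x : V` with `x ∈ M` locally on the punctured spectrum.  Then `x ∈ M`.
-/

namespace Groth.Agent.Lib.PurGal

open IsLocalRing RingTheory.Sequence

universe u

variable (A : Type u) [CommRing A] [IsLocalRing A] [IsNoetherianRing A] [IsDomain A]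
variable (V : Type u) [AddCommGroup V] [Module A V] [Module.IsTorsionFree A V]

/-- base step: if `m • y ⊆ M` and `M` carries a weakly regular sequence of length two in `m`
then `y ∈ M`. -/
theorem mem_of_maximalIdeal_smul_mem (M : Submodule A V) (a b : A)
    (ha : a ∈ maximalIdeal A) (hb : b ∈ maximalIdeal A) (ha0 : a ≠ 0)
    (hreg : IsWeaklyRegular M [a, b]) (y : V) (hy : ∀ d ∈ maximalIdeal A, d • y ∈ M) : y ∈ M := by
  rw [isWeaklyRegular_cons_iff, isWeaklyRegular_cons_iff] at hreg
  obtain ⟨-, hbreg, -⟩ := hreg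
  let u : M := ⟨a • y, hy a ha⟩
  let v : M := ⟨b • y, hy b hb⟩
  have huv : b • u = a • v := by
    apply Subtype.ext
    change b • a • y = a • b • y
    exact smul_comm b a y
  have h0 : b • (Submodule.Quotient.mk u : QuotSMulTop a M) = b • 0 := by
    rw [smul_zero, ← Submodule.Quotient.mk_smul, huv, Submodule.Quotient.mk_eq_zero]
    exact Submodule.smul_mem_pointwise_smul _ _ _ Submodule.mem_top
  have h1 := hbreg h0
  rw [Submodule.Quotient.mk_eq_zero] at h1
  obtain ⟨w, -, hw⟩ := h1
  have h2 : a • (w : V) = a • y := congrArg Subtype.val hw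
  have hareg : IsSMulRegular V a :=
    Module.IsTorsionFree.isSMulRegular (IsRegular.of_ne_zero ha0)
  have := hareg h2
  rw [← this]
  exact w.2

theorem mem_of_pow_smul_mem (M : Submodule A V) (a b : A)
    (ha : a ∈ maximalIdeal A) (hb : b ∈ maximalIdeal A) (ha0 : a ≠ 0)
    (hreg : IsWeaklyRegular M [a, b]) :
    ∀ (k : ℕ) (y : V), (∀ d ∈ maximalIdeal A ^ k, d • y ∈ M) → y ∈ M := by
  intro k
  induction k with
  | zero =>
    intro y hy
    have := hy 1 (by simp)
    rwa [one_smul] at this
  | succ k IH =>
    intro y hy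
    apply IH
    intro c hc
    apply mem_of_maximalIdeal_smul_mem A V M a b ha hb ha0 hreg
    intro d hd
    rw [smul_smul]
    apply hy
    rw [pow_succ']
    exact Ideal.mul_mem_mul hd hc

theorem mem_of_punctured (hm : maximalIdeal A ≠ ⊥)
    (M : Submodule A V) [Module.Finite A M]
    (hM : 2 ≤ LocCoh.idealDepth (maximalIdeal A) M)
    (x : V) (hx : ∀ p : Ideal A, p.IsPrime → p ≠ maximalIdeal A → ∃ s ∉ p, s • x ∈ M) :
    x ∈ M := by
  -- torsion-free consequence at the generic point
  have hgen : ∃ s : A, s ≠ 0 ∧ s • x ∈ M := by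
    obtain ⟨s, hs, hsx⟩ := hx ⊥ Ideal.isPrime_bot (Ne.symm hm)
    exact ⟨s, fun h => hs (by rw [h]; exact Submodule.zero_mem _), hsx⟩
  by_cases hsub : Subsingleton M
  · obtain ⟨s, hs0, hsx⟩ := hgen
    have h0 : (⟨s • x, hsx⟩ : M) = 0 := Subsingleton.elim _ _
    have h1 : s • x = s • (0 : V) := by
      rw [smul_zero]
      exact congrArg Subtype.val h0
    have := (Module.IsTorsionFree.isSMulRegular (M := V) (IsRegular.of_ne_zero hs0)) h1
    rw [this]
    exact Submodule.zero_mem _
  rw [not_subsingleton_iff_nontrivial] at hsub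
  have h2 := (Groth.Agent.DepthLib.le_idealDepth_iff (maximalIdeal A) (↥M) 2).mp (by exact_mod_cast hM)
  rcases h2 with h2 | ⟨rs, hreg, hmem, hlen⟩
  · exfalso
    have hle : (⊤ : Submodule A M) ≤ maximalIdeal A • ⊤ := h2.ge
    have hbot := Submodule.eq_bot_of_le_smul_of_le_jacobson_bot (maximalIdeal A) ⊤
      (Module.Finite.fg_top) hle (IsLocalRing.maximalIdeal_le_jacobson _)
    exact top_ne_bot hbot
  · match rs, hlen with
    | [a, b], _ =>
      have ha : a ∈ maximalIdeal A := hmem a (by simp)
      have hb : b ∈ maximalIdeal A := hmem b (by simp)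
      have ha0 : a ≠ 0 := by
        rintro rfl
        rw [isWeaklyRegular_cons_iff] at hreg
        obtain ⟨z, hz⟩ := exists_ne (0 : M)
        apply hz
        apply hreg.1
        simp
      -- the conductor ideal
      let I : Ideal A := M.comap (LinearMap.toSpanSingleton A V x)
      have hI : ∀ c, c ∈ I ↔ c • x ∈ M := fun c => by
        simp [I, Submodule.mem_comap, LinearMap.toSpanSingleton_apply]
      have hrad : maximalIdeal A ≤ I.radical := by
        rw [Ideal.radical_eq_sInf]
        apply le_sInf
        rintro p ⟨hIp, hp⟩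
        by_contra hcon
        have hpm : p ≠ maximalIdeal A := fun h => hcon h.ge
        obtain ⟨s, hs, hsx⟩ := hx p hp hpm
        exact hs (hIp ((hI s).mpr hsx))
      obtain ⟨k, hk⟩ := Ideal.exists_pow_le_of_le_radical_of_fg hrad
        (IsNoetherian.noetherian _)
      exact mem_of_pow_smul_mem A V M a b ha hb ha0 hreg k x
        (fun d hd => (hI d).mp (hk hd))

end Groth.Agent.Lib.PurGal
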