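import Mathlib

set_option linter.style.haveILetI false

/-!
# Trace duality: pure algebra

Given `A`-algebras `B`, `B'` (`B'` a domain), a finite injective family `τ j : B →ₐ[A] B'` whose sum
is (the image of) an `A`-linear "trace" `T : B → A`, and trace-dual families `e, e'` at `s`
(`s • y = ∑ i, T (e' i * y) • e i`), we show:

* `ortho`: `∑ i, τ j (e i) * τ j' (e' i) = s · δ_{j j'}`;
* `smul_eq_sum`: every `A`-linear `f : B → B'` satisfies `s • f = ∑ j, c j • τ j`;
* `prod_formula`, `td_prod`: trace-dual families at `s ^ |J|` for `B'` w.r.t. a family `ρ σ` permuting `τ`.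
-/

namespace Groth.Agent.Lib.PurGal

universe u v

open scoped BigOperators

section

variable {A B B' : Type u} [CommRing A] [CommRing B] [CommRing B'] [IsDomain B']
  [Algebra A B] [Algebra A B']
variable {J : Type u} [Fintype J] [DecidableEq J] (τ : J → (B →ₐ[A] B'))
variable (T : B →ₗ[A] A) (hT : ∀ y, algebraMap A B' (T y) = ∑ j, τ j y)
variable {ι : Type v} [Fintype ι] (e e' : ι → B) (s : A)

include hT in
/-- every `A`-linear map `B → B'` is, after multiplying by `s`, a `B'`-combination of the `τ j`. -/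
theorem smul_eq_sum (h : ∀ y, s • y = ∑ i, T (e' i * y) • e i) (f : B →ₗ[A] B') (y : B) :
    algebraMap A B' s * f y = ∑ j, (∑ i, τ j (e' i) * f (e i)) * τ j y := by
  have h1 : algebraMap A B' s * f y = f (s • y) := by
    rw [map_smul, Algebra.smul_def]
  rw [h1, h y, map_sum]
  have h2 : ∀ i, f (T (e' i * y) • e i) = ∑ j, τ j (e' i) * f (e i) * τ j y := by
    intro i
    rw [map_smul, Algebra.smul_def, hT, Finset.sum_mul]
    apply Finset.sum_congr rfl
    intro j _
    rw [map_mul]
    ring
  simp_rw [h2]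
  rw [Finset.sum_comm]
  apply Finset.sum_congr rfl
  intro j _
  rw [Finset.sum_mul]

include hT in
/-- orthogonality relations. -/
theorem ortho (hτ : Function.Injective τ) (h : ∀ y, s • y = ∑ i, T (e' i * y) • e i) (j j' : J) :
    ∑ i, τ j (e i) * τ j' (e' i) = if j = j' then algebraMap A B' s else 0 := by
  have hli : LinearIndependent B' (fun j => (τ j).toLinearMap) :=
    (linearIndependent_toLinearMap A B B').comp τ hτ
  rw [Fintype.linearIndependent_iff] at hli
  let g : J → B' := fun j' => ∑ i, τ j (e i) * τ j' (e' i) -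
    (if j = j' then algebraMap A B' s else 0)
  have hg : ∑ j', g j' • (τ j').toLinearMap = 0 := by
    apply LinearMap.ext
    intro y
    rw [LinearMap.sum_apply, LinearMap.zero_apply]
    simp only [LinearMap.smul_apply, AlgHom.toLinearMap_apply, smul_eq_mul, g, sub_mul,
      Finset.sum_sub_distrib, ite_mul, zero_mul, Finset.sum_ite_eq, Finset.mem_univ, if_true]
    rw [sub_eq_zero]
    have h1 : algebraMap A B' s * τ j y = τ j (s • y) := by
      rw [map_smul, Algebra.smul_def]
    rw [h1, h y, map_sum]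
    have h2 : ∀ i, τ j (T (e' i * y) • e i) = ∑ j', τ j (e i) * τ j' (e' i) * τ j' y := by
      intro i
      rw [map_smul, Algebra.smul_def, hT, Finset.sum_mul]
      apply Finset.sum_congr rfl
      intro j' _
      rw [map_mul]
      ring
    simp_rw [h2]
    rw [Finset.sum_comm]
    apply Finset.sum_congr rfl
    intro j' _
    rw [Finset.sum_mul]
  have := hli g hg j'
  simp only [g, sub_eq_zero] at this
  exact this

end

section prod

variable {A B B' : Type u} [CommRing A] [CommRing B] [CommRing B'] [IsDomain B']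
  [Algebra A B] [Algebra A B']
variable {J : Type u} [Fintype J] [DecidableEq J] (τ : J → (B →ₐ[A] B'))
variable {G : Type u} [Fintype G] [DecidableEq G] [One G] (ρ : G → (B' →ₐ[A] B'))
  (act : G → J → J) (hact : ∀ σ j y, ρ σ (τ j y) = τ (act σ j) y)
variable {ι : Type v} [Fintype ι] [DecidableEq ι] (e e' : ι → B) (s : A)

/-- product families -/
noncomputable def prodFam (e : ι → B) (φ : J → ι) : B' := ∏ j, τ j (e (φ j))

include hact in
theorem prod_formula
    (hO : ∀ j j', ∑ i, τ j (e i) * τ j' (e' i) = if j = j' then algebraMap A B' s else 0)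
    (σ : G) :
    ∑ φ : J → ι, prodFam τ e φ * ρ σ (prodFam τ e' φ) =
      if (∀ j, act σ j = j) then algebraMap A B' (s ^ Fintype.card J) else 0 := by
  have h1 : ∀ φ : J → ι, prodFam τ e φ * ρ σ (prodFam τ e' φ) =
      ∏ j, (τ j (e (φ j)) * τ (act σ j) (e' (φ j))) := by
    intro φ
    rw [prodFam, prodFam, map_prod, ← Finset.prod_mul_distrib]
    apply Finset.prod_congr rfl
    intro j _
    rw [hact]
  simp_rw [h1]
  have h2 := Finset.prod_univ_sum (fun _ : J => (Finset.univ : Finset ι))
    (fun (j : J) (i : ι) => τ j (e i) * τ (act σ j) (e' i))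
  rw [Fintype.piFinset_univ] at h2
  rw [← h2]
  simp_rw [hO]
  split_ifs with hfix
  · rw [Finset.prod_congr rfl (fun j _ => if_pos (hfix j).symm), Finset.prod_const,
      Finset.card_univ, map_pow]
  · push Not at hfix
    obtain ⟨j, hj⟩ := hfix
    exact Finset.prod_eq_zero (Finset.mem_univ j) (if_neg (Ne.symm hj))

variable (T' : B' →ₗ[A] A) (hT' : ∀ z, algebraMap A B' (T' z) = ∑ σ, ρ σ z)

include hact hT' in
/-- trace-dual families for `B'` at `s ^ |J|`. -/
theorem td_prod
    (hO : ∀ j j', ∑ i, τ j (e i) * τ j' (e' i) = if j = j' then algebraMap A B' s else 0)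
    (hρ1 : ∀ z, ρ 1 z = z) (hfix : ∀ σ, (∀ j, act σ j = j) → σ = 1)
    (hact1 : ∀ j, act 1 j = j) (z : B') :
    (s ^ Fintype.card J) • z = ∑ φ : J → ι, T' (prodFam τ e' φ * z) • prodFam τ e φ := by
  have h1 : ∀ φ : J → ι, T' (prodFam τ e' φ * z) • prodFam τ e φ =
      ∑ σ, prodFam τ e φ * ρ σ (prodFam τ e' φ) * ρ σ z := by
    intro φ
    rw [Algebra.smul_def, hT', Finset.sum_mul]
    apply Finset.sum_congr rfl
    intro σ _
    rw [map_mul]
    ring
  simp_rw [h1]
  rw [Finset.sum_comm]
  simp_rw [← Finset.sum_mul, prod_formula τ ρ act hact e e' s hO]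
  have h2 : ∀ σ : G, (∀ j, act σ j = j) ↔ σ = 1 :=
    fun σ => ⟨hfix σ, fun h => by rw [h]; exact hact1⟩
  simp_rw [h2, ite_mul, zero_mul, Finset.sum_ite_eq', Finset.mem_univ, if_true, hρ1,
    Algebra.smul_def]

end prod

end Groth.Agent.Lib.PurGal
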