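import Mathlib
import Groth.Agent.Lib.TraceEtale_lead

set_option linter.style.haveILetI false

namespace Groth.Agent.Lib.PurGal

universe u

open IsLocalization Algebra

theorem formallyEtale_localization (A B : Type u) [CommRing A] [CommRing B] [Algebra A B]
    (M : Submonoid B)
    (h : ∀ (q : Ideal B) [q.IsPrime], Disjoint (M : Set B) (q : Set B) → Algebra.IsEtaleAt A q) :
    Algebra.FormallyEtale A (Localization M) := by
  rw [← Algebra.etaleLocus_eq_univ_iff]
  ext Q
  simp only [Set.mem_univ, iff_true, Algebra.mem_etaleLocus_iff]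
  let q : Ideal B := Q.asIdeal.comap (algebraMap B (Localization M))
  haveI : q.IsPrime := Ideal.comap_isPrime _ _
  have hdisj : Disjoint (M : Set B) (q : Set B) :=
    ((IsLocalization.isPrime_iff_isPrime_disjoint M (Localization M) Q.asIdeal).mp Q.isPrime).2
  haveI := h q hdisj
  let e := IsLocalization.localizationLocalizationAtPrimeIsoLocalization M Q.asIdeal
  exact Algebra.FormallyEtale.of_equiv (e.restrictScalars A)

theorem exists_td (A B : Type u) [CommRing A] [IsDomain A] [IsIntegrallyClosed A]
    [IsNoetherianRing A]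
    [CommRing B] [IsDomain B] [IsIntegrallyClosed B] [Algebra A B] [Module.Finite A B]
    [Module.IsTorsionFree A B] (p : Ideal A) [p.IsPrime]
    (h : ∀ (q : Ideal B) [q.IsPrime], q.comap (algebraMap A B) ≤ p → Algebra.IsEtaleAt A q) :
    ∃ s : A, s ∉ p ∧ ∃ (r : ℕ) (e e' : Fin r → B), ∀ y : B,
      s • y = ∑ i, Algebra.intTrace A B (e' i * y) • e i := by
  classical
  let M := p.primeCompl
  let Ap := Localization.AtPrime p
  let Bp := Localization (Algebra.algebraMapSubmonoid B M)
  haveI : FaithfulSMul A B := by
    rw [faithfulSMul_iff_algebraMap_injective]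
    exact (Module.isTorsionFree_iff_algebraMap_injective).mp inferInstance
  have hM : M ≤ nonZeroDivisors A := p.primeCompl_le_nonZeroDivisors
  have hM' : Algebra.algebraMapSubmonoid B M ≤ nonZeroDivisors B :=
    algebraMapSubmonoid_le_nonZeroDivisors_of_faithfulSMul _ hM
  haveI hfe : Algebra.FormallyEtale A Bp := by
    apply formallyEtale_localization
    intro q _ hq
    apply h
    intro a ha
    by_contra hap
    exact Set.disjoint_left.mp hq
      (⟨a, hap, rfl⟩ : algebraMap A B a ∈ Algebra.algebraMapSubmonoid B M) ha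
  haveI : Algebra.FormallyEtale Ap Bp := Algebra.FormallyEtale.localization_base M
  haveI : Module.Finite Ap Bp := Module.Finite.of_isLocalization A B M
  haveI : IsNoetherianRing Ap := IsLocalization.isNoetherianRing M Ap inferInstance
  haveI : Algebra.FinitePresentation Ap Bp :=
    Algebra.FinitePresentation.of_finiteType.mp inferInstance
  haveI : Algebra.Etale Ap Bp := ⟨inferInstance, inferInstance⟩
  haveI : Module.Flat Ap Bp := Algebra.Smooth.flat Ap Bp
  haveI : Module.Free Ap Bp := Module.free_of_flat_of_isLocalRing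
  haveI : IsDomain Bp := IsLocalization.isDomain_localization hM'
  haveI : IsIntegrallyClosed Bp := isIntegrallyClosed_of_isLocalization Bp _ hM'
  haveI : IsIntegrallyClosed Ap := isIntegrallyClosed_of_isLocalization Ap _ hM
  haveI : Module.IsTorsionFree Ap Bp := inferInstance
  let c := Module.finBasis Ap Bp
  have hu : ∀ i, ∃ u : Bp, ∀ z : Bp, Algebra.trace Ap Bp (u * z) = c.coord i z :=
    fun i => TraceEtale.traceSurj_of_unramified c (c.coord i)
  choose u hu using hu
  obtain ⟨⟨t, t0, ht0, rfl⟩, ht⟩ := IsLocalization.exist_integer_multiples_of_finset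
    (Algebra.algebraMapSubmonoid B M) (Finset.univ.image c ∪ Finset.univ.image u)
  have hc : ∀ i, ∃ e : B, algebraMap B Bp e = t0 • c i := by
    intro i
    obtain ⟨e, he⟩ := ht (c i) (Finset.mem_union_left _ (Finset.mem_image_of_mem _ (Finset.mem_univ i)))
    refine ⟨e, ?_⟩
    rw [he]
    simp only [algebraMap_smul]
  have hu' : ∀ i, ∃ e : B, algebraMap B Bp e = t0 • u i := by
    intro i
    obtain ⟨e, he⟩ := ht (u i) (Finset.mem_union_right _ (Finset.mem_image_of_mem _ (Finset.mem_univ i)))
    refine ⟨e, ?_⟩
    rw [he]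
    simp only [algebraMap_smul]
  choose e he using hc
  choose e' he' using hu'
  refine ⟨t0 * t0, Submonoid.mul_mem _ ht0 ht0, _, e, e', fun y => ?_⟩
  apply IsLocalization.injective Bp hM'
  have key : ∀ i, algebraMap B Bp (Algebra.intTrace A B (e' i * y) • e i)
      = (t0 * t0) • (c.repr (algebraMap B Bp y) i • c i) := by
    intro i
    have h1 : algebraMap A Ap (Algebra.intTrace A B (e' i * y)) =
        t0 • c.repr (algebraMap B Bp y) i := by
      rw [Algebra.intTrace_eq_of_isLocalization A B (Aₘ := Ap) (Bₘ := Bp) M,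
        Algebra.intTrace_eq_trace, map_mul, he', smul_mul_assoc, LinearMap.map_smul_of_tower, hu]
      rfl
    rw [Algebra.smul_def, map_mul, ← IsScalarTower.algebraMap_apply,
      IsScalarTower.algebraMap_apply A Ap Bp, h1, he, ← Algebra.smul_def]
    rw [smul_assoc, smul_comm (c.repr _ i) t0, smul_smul]
  rw [map_sum, Finset.sum_congr rfl (fun i _ => key i), ← Finset.smul_sum, c.sum_repr,
    Algebra.smul_def, map_mul, ← IsScalarTower.algebraMap_apply, ← Algebra.smul_def]

end Groth.Agent.Lib.PurGal
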