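import Mathlib
import Groth.Agent.Lib.TorsionFree_helper9
import Groth.Agent.Lib.ReflexiveLoc_helper5

/-! Reflexive modules over (Noetherian) domains (helper1): kernels of maps from reflexive to
torsion-free modules are reflexive, embeddings into free modules with torsion-free cokernel,
flat base change, `Hom`, localization. -/

universe u

namespace Groth.Agent.Lib.ReflexiveH1

open TensorProduct

section

variable (R : Type u) [CommRing R] [IsDomain R]

/-- A functional on a submodule of a finite module extends, after multiplication by a nonzero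
scalar. -/
theorem exists_extend_smul {M M' : Type u} [AddCommGroup M] [Module R M] [AddCommGroup M']
    [Module R M'] [Module.Finite R M'] (ι : M →ₗ[R] M') (hι : Function.Injective ι)
    (φ : M →ₗ[R] R) :
    ∃ (r : R) (ψ : M' →ₗ[R] R), r ≠ 0 ∧ ∀ m, ψ (ι m) = r * φ m := by
  classical
  let K := FractionRing R
  let ιK : K ⊗[R] M →ₗ[K] K ⊗[R] M' := ι.baseChange K
  have hιK : Function.Injective ιK := by
    have h1 := Module.Flat.lTensor_preserves_injective_linearMap (M := K) ι hι
    intro x y hxy
    exact h1 hxy
  obtain ⟨g, hg⟩ := ιK.exists_leftInverse_of_injective (LinearMap.ker_eq_bot.mpr hιK)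
  let φK : K ⊗[R] M →ₗ[K] K := LinearMap.liftBaseChange K ((Algebra.linearMap R K).comp φ)
  let ψ₀ : M' →ₗ[R] K := ((φK.comp g).restrictScalars R).comp (TensorProduct.mk R K M' 1)
  have h0 : ∀ m, ψ₀ (ι m) = algebraMap R K (φ m) := by
    intro m
    have h1 : ψ₀ (ι m) = φK (g ((1 : K) ⊗ₜ[R] ι m)) := rfl
    have h2 : (1 : K) ⊗ₜ[R] ι m = ιK ((1 : K) ⊗ₜ[R] m) := (LinearMap.baseChange_tmul _ _ _).symm
    have h3 : g (ιK ((1 : K) ⊗ₜ[R] m)) = (1 : K) ⊗ₜ[R] m := LinearMap.congr_fun hg _
    rw [h1, h2, h3]
    simp [φK]
  obtain ⟨Y, hY⟩ := (Module.Finite.fg_top : (⊤ : Submodule R M').FG)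
  obtain ⟨b, hb⟩ := IsLocalization.exist_integer_multiples_of_finset (nonZeroDivisors R)
    (Y.image ψ₀)
  have hall : ∀ x : M', ∃ c : R, algebraMap R K c = (b : R) • ψ₀ x := by
    intro x
    have hx : x ∈ Submodule.span R (Y : Set M') := by
      rw [hY]
      trivial
    induction hx using Submodule.span_induction with
    | mem y hy =>
      obtain ⟨c, hc⟩ := hb (ψ₀ y) (Finset.mem_image_of_mem _ hy)
      exact ⟨c, hc⟩
    | zero => exact ⟨0, by simp⟩
    | add x y _ _ hx hy =>
      obtain ⟨c, hc⟩ := hx
      obtain ⟨d, hd⟩ := hy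
      exact ⟨c + d, by rw [map_add, map_add, smul_add, hc, hd]⟩
    | smul a x _ hx =>
      obtain ⟨c, hc⟩ := hx
      exact ⟨a * c, by rw [map_mul, map_smul, smul_comm, ← hc, Algebra.smul_def]⟩
  choose c hc using hall
  have hinjK : Function.Injective (algebraMap R K) := IsFractionRing.injective R K
  let ψ : M' →ₗ[R] R :=
    { toFun := c
      map_add' := fun x y => hinjK (by rw [map_add, hc, hc, hc, map_add, smul_add])
      map_smul' := fun a x => hinjK (by
        rw [hc, map_smul, smul_comm, ← hc, RingHom.id_apply, smul_eq_mul, map_mul,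
          Algebra.smul_def]) }
  refine ⟨b, ψ, nonZeroDivisors.coe_ne_zero b, ?_⟩
  intro m
  apply hinjK
  change algebraMap R K (c (ι m)) = _
  rw [hc, h0, map_mul, Algebra.smul_def]

/-- Kernel of a map from a reflexive module to a torsion-free module is reflexive. -/
theorem reflexive_of_exact {M M' M'' : Type u} [AddCommGroup M] [Module R M]
    [AddCommGroup M'] [Module R M'] [Module.Finite R M'] [AddCommGroup M''] [Module R M'']
    [Module.Finite R M'']
    (f : M →ₗ[R] M') (g : M' →ₗ[R] M'') (hf : Function.Injective f) (hfg : Function.Exact f g)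
    [Module.IsReflexive R M'] [Module.IsTorsionFree R M''] : Module.IsReflexive R M := by
  constructor
  constructor
  · rw [injective_iff_map_eq_zero]
    intro m hm
    apply hf
    rw [map_zero]
    apply (Module.bijective_dual_eval R M').1
    rw [map_zero]
    ext ψ
    have h1 := LinearMap.congr_fun hm (ψ.comp f)
    simpa using h1
  · intro θ
    let θ' : Module.Dual R (Module.Dual R M') := θ.comp (Module.Dual.transpose f)
    obtain ⟨m', hm'⟩ := (Module.bijective_dual_eval R M').2 θ'
    have hm'' : ∀ ψ : Module.Dual R M', ψ m' = θ (ψ.comp f) := by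
      intro ψ
      have h1 := LinearMap.congr_fun hm' ψ
      simp only [θ', Module.Dual.eval_apply, LinearMap.comp_apply,
        Module.Dual.transpose_apply] at h1
      exact h1
    obtain ⟨n, j, hj⟩ :=
      Groth.Agent.Lib.TorsionFree_helper9.exists_injective_to_fin_fun R M''
    have hgf : ∀ x, g (f x) = 0 := fun x => (hfg (f x)).mpr ⟨x, rfl⟩
    have hgm : g m' = 0 := by
      apply hj
      rw [map_zero]
      funext i
      have h1 := hm'' ((LinearMap.proj i).comp (j.comp g))
      have h2 : ((LinearMap.proj i).comp (j.comp g)).comp f = 0 := by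
        ext x
        simp [hgf x]
      rw [h2, map_zero] at h1
      exact h1
    obtain ⟨m, rfl⟩ := (hfg m').mp hgm
    refine ⟨m, ?_⟩
    ext φ
    obtain ⟨r, ψ, hr, hψ⟩ := exists_extend_smul R f hf φ
    have h1 := hm'' ψ
    have h2 : ψ.comp f = r • φ := by
      ext x
      simp [hψ x]
    rw [h2, map_smul, hψ, smul_eq_mul] at h1
    rw [Module.Dual.eval_apply]
    exact mul_left_cancel₀ hr h1

theorem lin_eq_sum {b : ℕ} {N : Type u} [AddCommGroup N] [Module R N]
    (ψ : (Fin b → R) →ₗ[R] N) (w : Fin b → R) : ψ w = ∑ i, w i • ψ (Pi.single i 1) := by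
  rw [LinearMap.pi_apply_eq_sum_univ ψ w]
  refine Finset.sum_congr rfl (fun i _ => ?_)
  have : (fun j => if i = j then (1 : R) else 0) = Pi.single i 1 := by
    funext j
    simp [Pi.single_apply, eq_comm]
  rw [this]

variable [IsNoetherianRing R]

/-- Reflexive iff embeds in a finite free module with torsion-free cokernel. -/
theorem reflexive_iff_exists_embedding (M : Type u) [AddCommGroup M] [Module R M]
    [Module.Finite R M] :
    Module.IsReflexive R M ↔ ∃ (n : ℕ) (f : M →ₗ[R] (Fin n → R)), Function.Injective f ∧
      Module.IsTorsionFree R ((Fin n → R) ⧸ LinearMap.range f) := by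
  constructor
  · intro hM
    haveI : Module.Finite R (Module.Dual R M) := Module.IsNoetherian.finite R _
    obtain ⟨n, π, hπ⟩ := Module.Finite.exists_fin' R (Module.Dual R M)
    let F : M →ₗ[R] (Fin n → R) := LinearMap.pi (fun i => π (Pi.single i 1))
    have hFapp : ∀ m i, F m i = π (Pi.single i 1) m := fun m i => rfl
    have hπw : ∀ (w : Fin n → R) (m : M), π w m = ∑ i, w i * F m i := by
      intro w m
      rw [lin_eq_sum R π w]
      simp [hFapp]
    refine ⟨n, F, ?_, ?_⟩
    · rw [injective_iff_map_eq_zero]
      intro m hm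
      apply (Module.bijective_dual_eval R M).1
      rw [map_zero]
      ext φ
      obtain ⟨w, rfl⟩ := hπ φ
      rw [Module.Dual.eval_apply, hπw, hm]
      simp
    · constructor
      intro r hr x y hxy
      obtain ⟨v, rfl⟩ := Submodule.Quotient.mk_surjective _ x
      obtain ⟨v', rfl⟩ := Submodule.Quotient.mk_surjective _ y
      have hr0 : r ≠ 0 := hr.ne_zero
      change r • Submodule.Quotient.mk v = r • Submodule.Quotient.mk v' at hxy
      rw [← Submodule.Quotient.mk_smul, ← Submodule.Quotient.mk_smul, Submodule.Quotient.eq,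
        ← smul_sub] at hxy
      rw [Submodule.Quotient.eq]
      obtain ⟨m, hm⟩ := hxy
      set u := v - v' with hu
      have hwell : ∀ w : Fin n → R, π w = 0 → ∑ i, w i * u i = 0 := by
        intro w hw
        have h1 : r * ∑ i, w i * u i = 0 := by
          rw [Finset.mul_sum]
          have h2 : ∀ i, r * (w i * u i) = w i * F m i := by
            intro i
            rw [hm, Pi.smul_apply, smul_eq_mul]
            ring
          simp_rw [h2]
          rw [← hπw, hw]
          rfl
        exact (mul_eq_zero.mp h1).resolve_left hr0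
      let Θ₀ : (Fin n → R) →ₗ[R] R :=
        { toFun := fun w => ∑ i, w i * u i
          map_add' := fun w w' => by simp [add_mul, Finset.sum_add_distrib]
          map_smul' := fun c w => by simp [Finset.mul_sum, mul_assoc] }
      have hker : LinearMap.ker π ≤ LinearMap.ker Θ₀ := fun w hw => hwell w hw
      let Θ : Module.Dual R (Module.Dual R M) :=
        ((LinearMap.ker π).liftQ Θ₀ hker).comp (π.quotKerEquivOfSurjective hπ).symm.toLinearMap
      have hΘ : ∀ w, Θ (π w) = ∑ i, w i * u i := by
        intro w
        have h1 : (π.quotKerEquivOfSurjective hπ).symm (π w) = Submodule.Quotient.mk w := by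
          rw [LinearEquiv.symm_apply_eq]
          rfl
        change ((LinearMap.ker π).liftQ Θ₀ hker) ((π.quotKerEquivOfSurjective hπ).symm (π w)) = _
        rw [h1]
        rfl
      obtain ⟨m₀, hm₀⟩ := (Module.bijective_dual_eval R M).2 Θ
      refine ⟨m₀, ?_⟩
      funext i
      rw [hFapp]
      have h3 := LinearMap.congr_fun hm₀ (π (Pi.single i 1))
      rw [Module.Dual.eval_apply] at h3
      rw [h3, hΘ]
      simp [Pi.single_apply]
  · rintro ⟨n, f, hf, htf⟩
    haveI := htf
    exact reflexive_of_exact R f (LinearMap.range f).mkQ hf (LinearMap.exact_map_mkQ_range f)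

/-- Flat base change of a reflexive module to another domain is reflexive. -/
theorem reflexive_baseChange (R' : Type u) [CommRing R'] [IsDomain R']
    [Algebra R R'] [Module.Flat R R'] (M : Type u) [AddCommGroup M] [Module R M]
    [Module.Finite R M] [Module.IsReflexive R M] :
    Module.IsReflexive R' (R' ⊗[R] M) := by
  obtain ⟨n, f, hf, htf⟩ := (reflexive_iff_exists_embedding R M).mp inferInstance
  haveI := htf
  obtain ⟨k, j, hj⟩ := Groth.Agent.Lib.TorsionFree_helper9.exists_injective_to_fin_fun R
    ((Fin n → R) ⧸ LinearMap.range f)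
  let h : (Fin n → R) →ₗ[R] (Fin k → R) := j.comp (LinearMap.range f).mkQ
  have hex : Function.Exact f h := by
    intro y
    constructor
    · intro hy
      have h1 : (LinearMap.range f).mkQ y = 0 := hj (by rw [map_zero]; exact hy)
      exact (LinearMap.exact_map_mkQ_range f y).mp h1
    · rintro ⟨x, rfl⟩
      change j ((LinearMap.range f).mkQ (f x)) = 0
      rw [(LinearMap.exact_map_mkQ_range f (f x)).mpr ⟨x, rfl⟩, map_zero]
  have hf' : Function.Injective (f.baseChange R') := by
    have h1 := Module.Flat.lTensor_preserves_injective_linearMap (M := R') f hf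
    intro x y hxy
    exact h1 hxy
  have hex' : Function.Exact (f.baseChange R') (h.baseChange R') := by
    have h1 := Module.Flat.lTensor_exact R' hex
    exact h1
  exact reflexive_of_exact R' (f.baseChange R') (h.baseChange R') hf' hex'

theorem pi_reflexive (N : Type u) [AddCommGroup N] [Module R N] [Module.IsReflexive R N] :
    ∀ b : ℕ, Module.IsReflexive R (Fin b → N)
  | 0 => by
    haveI : Module.Free R (Fin 0 → N) := Module.Free.of_subsingleton R _
    infer_instance
  | b + 1 => by
    haveI := pi_reflexive N b
    exact Module.equiv (Fin.consLinearEquiv R (fun _ : Fin (b + 1) => N))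

/-- `Hom(M, N)` is reflexive when `N` is. -/
theorem hom_reflexive (M N : Type u) [AddCommGroup M] [Module R M] [Module.Finite R M]
    [AddCommGroup N] [Module R N] [Module.Finite R N] [Module.IsReflexive R N] :
    Module.IsReflexive R (M →ₗ[R] N) := by
  obtain ⟨b, π, hπ⟩ := Module.Finite.exists_fin' R M
  haveI : Module.Finite R (LinearMap.ker π) := Module.IsNoetherian.finite R _
  obtain ⟨a, ρ, hρ⟩ := Module.Finite.exists_fin' R (LinearMap.ker π)
  let σ : (Fin a → R) →ₗ[R] (Fin b → R) := (LinearMap.ker π).subtype.comp ρ
  have hσker : ∀ w, π (σ w) = 0 := fun w => (ρ w).2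
  have hσsurj : ∀ w, π w = 0 → ∃ t, σ t = w := by
    intro w hw
    obtain ⟨t, ht⟩ := hρ ⟨w, hw⟩
    exact ⟨t, by change ((ρ t : LinearMap.ker π) : Fin b → R) = w; rw [ht]⟩
  let F : (M →ₗ[R] N) →ₗ[R] (Fin b → N) :=
    LinearMap.pi (fun i => LinearMap.applyₗ (π (Pi.single i 1)))
  have hFapp : ∀ (φ : M →ₗ[R] N) i, F φ i = φ (π (Pi.single i 1)) := fun φ i => rfl
  let G : (Fin b → N) →ₗ[R] (Fin a → N) :=
    { toFun := fun v j => ∑ i, σ (Pi.single j 1) i • v i
      map_add' := fun v w => by
        funext j
        simp [smul_add, Finset.sum_add_distrib]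
      map_smul' := fun c v => by
        funext j
        simp [Finset.smul_sum, smul_comm c] }
  have hGapp : ∀ v j, G v j = ∑ i, σ (Pi.single j 1) i • v i := fun v j => rfl
  have hFinj : Function.Injective F := by
    rw [injective_iff_map_eq_zero]
    intro φ hφ
    ext x
    obtain ⟨w, rfl⟩ := hπ x
    have h1 := lin_eq_sum R (φ.comp π) w
    rw [LinearMap.comp_apply] at h1
    rw [h1]
    simp only [LinearMap.comp_apply, LinearMap.zero_apply]
    refine Finset.sum_eq_zero (fun i _ => ?_)
    have h2 : φ (π (Pi.single i 1)) = 0 := by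
      rw [← hFapp, hφ]
      rfl
    rw [h2, smul_zero]
  have hex : Function.Exact F G := by
    intro v
    constructor
    · intro hv
      let ψ : (Fin b → R) →ₗ[R] N :=
        { toFun := fun w => ∑ i, w i • v i
          map_add' := fun w w' => by simp [add_smul, Finset.sum_add_distrib]
          map_smul' := fun c w => by simp [Finset.smul_sum, mul_smul] }
      have hψapp : ∀ w, ψ w = ∑ i, w i • v i := fun w => rfl
      have hψσ : ∀ t, ψ (σ t) = 0 := by
        intro t
        have h1 := lin_eq_sum R (ψ.comp σ) t
        rw [LinearMap.comp_apply] at h1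
        rw [h1]
        refine Finset.sum_eq_zero (fun j _ => ?_)
        have h2 : (ψ.comp σ) (Pi.single j 1) = G v j := by
          rw [LinearMap.comp_apply, hψapp, hGapp]
        rw [h2, hv]
        simp
      have hker : LinearMap.ker π ≤ LinearMap.ker ψ := by
        intro w hw
        obtain ⟨t, rfl⟩ := hσsurj w hw
        exact hψσ t
      let φ : M →ₗ[R] N :=
        ((LinearMap.ker π).liftQ ψ hker).comp (π.quotKerEquivOfSurjective hπ).symm.toLinearMap
      have hφ : ∀ w, φ (π w) = ψ w := by
        intro w
        have h1 : (π.quotKerEquivOfSurjective hπ).symm (π w) = Submodule.Quotient.mk w := by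
          rw [LinearEquiv.symm_apply_eq]
          rfl
        change ((LinearMap.ker π).liftQ ψ hker) ((π.quotKerEquivOfSurjective hπ).symm (π w)) = _
        rw [h1]
        rfl
      refine ⟨φ, ?_⟩
      funext i
      rw [hFapp, hφ, hψapp]
      simp [Pi.single_apply]
    · rintro ⟨φ, rfl⟩
      funext j
      rw [hGapp]
      have h1 := lin_eq_sum R (φ.comp π) (σ (Pi.single j 1))
      rw [LinearMap.comp_apply, hσker, map_zero] at h1
      simp only [LinearMap.comp_apply] at h1
      simp only [hFapp]
      rw [← h1]
      rfl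
  haveI : Module.Finite R (M →ₗ[R] N) := Module.IsNoetherian.finite R _
  haveI := pi_reflexive R N b
  exact reflexive_of_exact R F G hFinj hex

/-- Reflexivity can be checked at all primes, or at all maximal ideals. -/
theorem reflexive_iff_localized (M : Type u) [AddCommGroup M] [Module R M] [Module.Finite R M] :
    (Module.IsReflexive R M ↔
      ∀ (p : Ideal R) [p.IsPrime],
        Module.IsReflexive (Localization.AtPrime p) (LocalizedModule p.primeCompl M)) ∧
    (Module.IsReflexive R M ↔
      ∀ (m : Ideal R) (_ : m.IsMaximal),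
        Module.IsReflexive (Localization.AtPrime m) (LocalizedModule m.primeCompl M)) := by
  haveI : Module.FinitePresentation R M := Module.finitePresentation_of_finite R M
  haveI : Module.Finite R (Module.Dual R M) := Module.IsNoetherian.finite R _
  haveI : Module.FinitePresentation R (Module.Dual R M) :=
    Module.finitePresentation_of_finite R _
  have h1 : Module.IsReflexive R M → ∀ (p : Ideal R) [p.IsPrime],
      Module.IsReflexive (Localization.AtPrime p) (LocalizedModule p.primeCompl M) := by
    intro hM p hp
    exact Groth.Agent.ReflexiveLoc.isReflexive_of_isLocalizedModule p.primeCompl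
      (Localization.AtPrime p) (LocalizedModule.mkLinearMap p.primeCompl M)
  have h2 : (∀ (m : Ideal R) (_ : m.IsMaximal),
      Module.IsReflexive (Localization.AtPrime m) (LocalizedModule m.primeCompl M)) →
      Module.IsReflexive R M := by
    intro h
    refine ⟨bijective_of_localized_maximal (Module.Dual.eval R M) ?_⟩
    intro J hJ
    haveI := h J hJ
    exact Groth.Agent.ReflexiveLoc.bijective_map_eval M J
  exact ⟨⟨h1, fun h => h2 (fun m hm => @h m hm.isPrime)⟩,
    ⟨fun hM m hm => @h1 hM m hm.isPrime, h2⟩⟩

end

end Groth.Agent.Lib.ReflexiveH1
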