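import Mathlib
import Groth.Agent.Lib.PurGal1_helper5
import Groth.Agent.Lib.PurGal2_helper5
import Groth.Agent.Lib.DepthRefl_helper5
import Groth.Agent.Lib.ExtTop_helper5
import Groth.Agent.Lib.GlDim_helper5
import Groth.Agent.Lib.Reflexive_helper1

set_option linter.style.haveILetI false

/-!
# `Hom_A(B, B') ≅ B'^J` from local trace duality

`Psi τ : (J → B') →ₗ[A] (B →ₗ[A] B')`, `c ↦ ∑ j, c j • τ j`.  It is injective (Dedekind), and over a
regular local ring of dimension `≥ 2`, with `B'` finite reflexive, it is bijective as soon as it is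
"locally surjective on the punctured spectrum".
-/

namespace Groth.Agent.Lib.PurGal

universe u

open IsLocalRing

section

variable {A B B' : Type u} [CommRing A] [CommRing B] [CommRing B'] [IsDomain B']
  [Algebra A B] [Algebra A B']
variable {J : Type u} [Fintype J] [DecidableEq J] (τ : J → (B →ₐ[A] B'))

/-- `c ↦ ∑ j, c j • τ j` -/
noncomputable def Psi : (J → B') →ₗ[A] (B →ₗ[A] B') where
  toFun c := ∑ j, c j • (τ j).toLinearMap
  map_add' c c' := by
    simp only [Pi.add_apply, add_smul, Finset.sum_add_distrib]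
  map_smul' a c := by
    simp only [Pi.smul_apply, RingHom.id_apply, Finset.smul_sum, smul_assoc]

theorem Psi_apply (c : J → B') (y : B) : Psi τ c y = ∑ j, c j * τ j y := by
  simp [Psi, LinearMap.sum_apply]

theorem Psi_injective (hτ : Function.Injective τ) : Function.Injective (Psi τ) := by
  have hli : LinearIndependent B' (fun j => (τ j).toLinearMap) :=
    (linearIndependent_toLinearMap A B B').comp τ hτ
  rw [Fintype.linearIndependent_iff] at hli
  rw [injective_iff_map_eq_zero]
  intro c hc
  funext j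
  exact hli c hc j

variable [IsRegularLocalRing A] [Module.Finite A B'] [Module.IsReflexive A B']
  [Module.IsTorsionFree A B']

theorem two_le_depth (hA : (2 : WithBot ℕ∞) ≤ ringKrullDim A)
    (N : Type u) [AddCommGroup N] [Module A N] [Module.Finite A N] [Module.IsReflexive A N] :
    2 ≤ LocCoh.idealDepth (maximalIdeal A) N := by
  haveI : IsNoetherianRing A := inferInstance
  obtain ⟨d, hd⟩ := Groth.Agent.GlDim.exists_dim A
  have h1 := Groth.Agent.DepthLib.reflexive_min_depth (maximalIdeal A) N
  rw [Groth.Agent.ExtTop.regular_depth A d hd] at h1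
  have h2 : (2 : ℕ∞) ≤ (d : ℕ∞) := by
    rw [hd] at hA
    have : ((2 : ℕ) : WithBot ℕ∞) ≤ ((d : ℕ) : WithBot ℕ∞) := by exact_mod_cast hA
    exact_mod_cast this
  rwa [min_eq_left h2] at h1

theorem Psi_bijective (hA : (2 : WithBot ℕ∞) ≤ ringKrullDim A) (hτ : Function.Injective τ)
    (h : ∀ (f : B →ₗ[A] B') (p : Ideal A), p.IsPrime → p ≠ maximalIdeal A →
      ∃ s ∉ p, ∃ c : J → B', ∀ y, algebraMap A B' s * f y = ∑ j, c j * τ j y) :
    Function.Bijective (Psi τ) := by
  haveI : IsNoetherianRing A := inferInstance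
  haveI : IsDomain A := Groth.Agent.RegularLib.isDomain A
  refine ⟨Psi_injective τ hτ, ?_⟩
  intro f
  let M : Submodule A (B →ₗ[A] B') := LinearMap.range (Psi τ)
  let eM : (J → B') ≃ₗ[A] M := LinearEquiv.ofInjective (Psi τ) (Psi_injective τ hτ)
  haveI : Module.Finite A M := Module.Finite.equiv eM
  haveI : Module.IsReflexive A (J → B') := by
    haveI := Groth.Agent.Lib.ReflexiveH1.pi_reflexive A B' (Fintype.card J)
    exact Module.equiv (LinearEquiv.funCongrLeft A B' (Fintype.equivFin J))
  have hdepth : 2 ≤ LocCoh.idealDepth (maximalIdeal A) M := by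
    rw [← Groth.Agent.DepthLib.idealDepth_congr (maximalIdeal A) (J → B') eM]
    exact two_le_depth hA (J → B')
  have hm : maximalIdeal A ≠ ⊥ := by
    intro hbot
    have h2 : ((maximalIdeal A).height : WithBot ℕ∞) = ringKrullDim A :=
      IsLocalRing.maximalIdeal_height_eq_ringKrullDim
    rw [hbot, Ideal.height_bot] at h2
    rw [← h2] at hA
    have h3 : ((2 : ℕ∞) : WithBot ℕ∞) ≤ ((0 : ℕ∞) : WithBot ℕ∞) := hA
    rw [WithBot.coe_le_coe] at h3
    norm_num at h3
  have hmem : f ∈ M := by
    apply mem_of_punctured A (B →ₗ[A] B') hm M hdepth f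
    intro p hp hpm
    obtain ⟨s, hs, c, hc⟩ := h f p hp hpm
    refine ⟨s, hs, c, ?_⟩
    apply LinearMap.ext
    intro y
    rw [Psi_apply, LinearMap.smul_apply, Algebra.smul_def, hc]
  exact hmem

end

end Groth.Agent.Lib.PurGal
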