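import Mathlib
import Groth.Agent.Lib.PurGal4_helper5
import Groth.Agent.Lib.AusPur11_helper5
import Groth.Agent.Lib.DepthHom_helper5

set_option linter.style.haveILetI false

/-!
# Freeness of `B` from local trace duality, in an abstract Galois setup
-/

namespace Groth.Agent.Lib.PurGal

universe u

open IsLocalRing

section

variable (A K L N B B' : Type u) [CommRing A] [IsRegularLocalRing A] [IsDomain A]
  [IsIntegrallyClosed A]
  [Field K] [Field L] [Field N] [CommRing B] [CommRing B']
  [Algebra A K] [IsFractionRing A K]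
  [Algebra K L] [Algebra A L] [IsScalarTower A K L] [FiniteDimensional K L]
  [Algebra K N] [Algebra A N] [IsScalarTower A K N] [FiniteDimensional K N] [IsGalois K N]
  [Algebra A B] [IsDomain B] [IsIntegrallyClosed B] [Module.Finite A B]
  [Module.IsTorsionFree A B]
  [Algebra B L] [IsScalarTower A B L] [IsIntegralClosure B A L]
  [Algebra A B'] [IsDomain B'] [IsIntegrallyClosed B'] [Module.Finite A B']
  [Module.IsTorsionFree A B']
  [Algebra B' N] [IsScalarTower A B' N] [IsIntegralClosure B' A N]

theorem free_of_galois (hA : (2 : WithBot ℕ∞) ≤ ringKrullDim A)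
    [Module.IsReflexive A B] [Module.IsReflexive A B']
    (H1 : ∀ y : L, algebraMap K N (Algebra.trace K L y) = ∑ τ : L →ₐ[K] N, τ y)
    (H2 : ∀ σ : N ≃ₐ[K] N, (∀ (τ : L →ₐ[K] N) (y : L), σ (τ y) = τ y) → σ = 1)
    (hTD : ∀ p : Ideal A, p.IsPrime → p ≠ maximalIdeal A → ∃ s ∉ p,
      ∃ (r : ℕ) (e e' : Fin r → B),
        ∀ y : B, s • y = ∑ i, Algebra.intTrace A B (e' i * y) • e i) :
    Module.Free A B := by
  classical
  haveI : IsNoetherianRing A := inferInstance
  let J := L →ₐ[K] N
  let G := N ≃ₐ[K] N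
  let τ : J → (B →ₐ[A] B') := fun j => galRestrict' A B B' j
  let ρ : G → (B' →ₐ[A] B') := fun σ => galRestrict' A B' B' (σ : N →ₐ[K] N)
  let act : G → J → J := fun σ j => (σ : N →ₐ[K] N).comp j
  have hinjN : Function.Injective (algebraMap B' N) :=
    IsIntegralClosure.algebraMap_injective B' A N
  have hτ_apply : ∀ (j : J) (y : B), algebraMap B' N (τ j y) = j (algebraMap B L y) :=
    fun j y => algebraMap_galRestrict'_apply A B B' j y
  have hρ_apply : ∀ (σ : G) (z : B'), algebraMap B' N (ρ σ z) = σ (algebraMap B' N z) :=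
    fun σ z => algebraMap_galRestrict'_apply A B' B' (σ : N →ₐ[K] N) z
  have hact : ∀ σ j y, ρ σ (τ j y) = τ (act σ j) y := by
    intro σ j y
    apply hinjN
    rw [hρ_apply, hτ_apply, hτ_apply]
    rfl
  have hT : ∀ y, algebraMap A B' (Algebra.intTrace A B y) = ∑ j, τ j y := by
    intro y
    apply hinjN
    rw [map_sum, ← IsScalarTower.algebraMap_apply, IsScalarTower.algebraMap_apply A K N,
      Algebra.algebraMap_intTrace (K := K) (L := L), H1]
    simp_rw [hτ_apply]
    exact Fintype.sum_equiv (Equiv.refl _) _ _ (fun _ => rfl)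
  have hT' : ∀ z, algebraMap A B' (Algebra.intTrace A B' z) = ∑ σ, ρ σ z := by
    intro z
    apply hinjN
    rw [map_sum, ← IsScalarTower.algebraMap_apply, IsScalarTower.algebraMap_apply A K N,
      Algebra.algebraMap_intTrace (K := K) (L := N), trace_eq_sum_automorphisms]
    simp_rw [hρ_apply]
    exact Fintype.sum_equiv (Equiv.refl _) _ _ (fun _ => rfl)
  haveI : IsFractionRing B L := IsIntegralClosure.isFractionRing_of_finite_extension A K L B
  haveI : IsFractionRing B' N := IsIntegralClosure.isFractionRing_of_finite_extension A K N B'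
  have hτinj : Function.Injective τ := by
    intro j j' hjj'
    apply AlgHom.coe_ringHom_injective
    apply IsLocalization.ringHom_ext (nonZeroDivisors B)
    ext y
    simp only [RingHom.comp_apply, AlgHom.coe_toRingHom]
    rw [← hτ_apply, ← hτ_apply, hjj']
  have hρinj : Function.Injective ρ := by
    intro σ σ' hσ
    apply AlgEquiv.coe_ringEquiv_injective
    apply RingEquiv.toRingHom_injective
    apply IsLocalization.ringHom_ext (nonZeroDivisors B')
    ext z
    simp only [RingHom.comp_apply]
    change σ (algebraMap B' N z) = σ' (algebraMap B' N z)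
    rw [← hρ_apply, ← hρ_apply, hσ]
  have hρ1 : ∀ z, ρ 1 z = z := by
    intro z
    apply hinjN
    rw [hρ_apply]
    rfl
  have hfix : ∀ σ : G, (∀ j, act σ j = j) → σ = 1 := by
    intro σ hσ
    apply H2
    intro j y
    exact congrArg (fun (k : J) => k y) (hσ j)
  have hact1 : ∀ j, act 1 j = j := by
    intro j
    apply AlgHom.ext
    intro y
    rfl
  -- local surjectivity for `τ`
  have hlocτ : ∀ (f : B →ₗ[A] B') (p : Ideal A), p.IsPrime → p ≠ maximalIdeal A →
      ∃ s ∉ p, ∃ c : J → B', ∀ y, algebraMap A B' s * f y = ∑ j, c j * τ j y := by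
    intro f p hp hpm
    obtain ⟨s, hs, r, e, e', h⟩ := hTD p hp hpm
    exact ⟨s, hs, _, fun y => smul_eq_sum τ (Algebra.intTrace A B) hT e e' s h f y⟩
  have hlocρ : ∀ (f : B' →ₗ[A] B') (p : Ideal A), p.IsPrime → p ≠ maximalIdeal A →
      ∃ s ∉ p, ∃ c : G → B', ∀ z, algebraMap A B' s * f z = ∑ σ, c σ * ρ σ z := by
    intro f p hp hpm
    obtain ⟨s, hs, r, e, e', h⟩ := hTD p hp hpm
    have hO := ortho τ (Algebra.intTrace A B) hT e e' s hτinj h
    have htd := td_prod τ ρ act hact e e' s (Algebra.intTrace A B') hT' hO hρ1 hfix hact1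
    refine ⟨s ^ Fintype.card J, fun hmem => hs (hp.mem_of_pow_mem _ hmem),
      fun σ => ∑ φ, ρ σ (prodFam τ e' φ) * f (prodFam τ e φ), fun z => ?_⟩
    exact smul_eq_sum ρ (Algebra.intTrace A B') hT' (prodFam τ e) (prodFam τ e')
      (s ^ Fintype.card J) htd f z
  have hbijτ := Psi_bijective τ hA hτinj hlocτ
  have hbijρ := Psi_bijective ρ hA hρinj hlocρ
  -- Auslander's theorem: `B'` is free
  let g := Fintype.card G
  let eG : (B' →ₗ[A] B') ≃ₗ[A] (Fin g → B') :=
    (LinearEquiv.ofBijective (Psi ρ) hbijρ).symm.trans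
      (LinearEquiv.funCongrLeft A B' (Fintype.equivFin G).symm)
  haveI : Module.Free A B' := AusPur.auslander A B' g eG
  haveI : Module.Free A (B →ₗ[A] B') :=
    Module.Free.of_equiv (LinearEquiv.ofBijective (Psi τ) hbijτ)
  -- `A` is a direct summand of `B'`
  let b := Module.Free.chooseBasis A B'
  obtain ⟨k⟩ : Nonempty (Module.Free.ChooseBasisIndex A B') := by
    by_contra hne
    rw [not_nonempty_iff] at hne
    have h0 : (1 : B') = 0 := by
      apply b.ext_elem
      intro k
      exact hne.elim k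
    exact one_ne_zero h0
  let i : A →ₗ[A] B' := LinearMap.toSpanSingleton A B' (b k)
  let π : B' →ₗ[A] A := b.coord k
  have hπi : ∀ a, π (i a) = a := by
    intro a
    simp [i, π]
  let F : (B →ₗ[A] A) →ₗ[A] (B →ₗ[A] B') := LinearMap.llcomp A B A B' i
  let Gm : (B →ₗ[A] B') →ₗ[A] (B →ₗ[A] A) := LinearMap.llcomp A B B' A π
  haveI : Module.Projective A (Module.Dual A B) := by
    apply Module.Projective.of_split F Gm
    apply LinearMap.ext
    intro f
    apply LinearMap.ext
    intro y
    simp only [F, Gm, LinearMap.comp_apply, LinearMap.llcomp_apply, LinearMap.id_apply]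
    exact hπi _
  haveI : Module.Finite A (Module.Dual A B) := Groth.Agent.DepthLib.finite_hom B A
  haveI : Module.Free A (Module.Dual A B) := Module.free_of_flat_of_isLocalRing
  haveI : Module.Free A (Module.Dual A (Module.Dual A B)) := inferInstance
  exact Module.Free.of_equiv (Module.evalEquiv A B).symm

end

end Groth.Agent.Lib.PurGal
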