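import Mathlib
import Groth.Agent.Lib.PurGal5_helper5
import Groth.Agent.Lib.PurGal3_helper5
import Groth.Agent.Lib.IntClosRefl_helper4
import Groth.Agent.Lib.NormalLift_helper4
import Groth.Agent.Lib.PurityFinFlat_helper3

set_option linter.style.haveILetI false

namespace Groth.Agent.Lib.PurGal

universe u

open IsLocalRing IntermediateField nonZeroDivisors

section fields

variable (K L : Type u) [Field K] [Field L] [Algebra K L] [FiniteDimensional K L]
  [Algebra.IsSeparable K L]

local notation3 "Ω" => AlgebraicClosure L
local notation3 "E" => IntermediateField.normalClosure K L (AlgebraicClosure L)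

theorem H1_normalClosure (y : L) :
    algebraMap K E (Algebra.trace K L y) = ∑ τ : L →ₐ[K] E, τ y := by
  apply (algebraMap E Ω).injective
  rw [← IsScalarTower.algebraMap_apply, trace_eq_sum_embeddings Ω, map_sum]
  exact (Fintype.sum_equiv (normalClosure.algHomEquiv K L Ω) _ _ (fun _ => rfl)).symm

theorem H2_normalClosure (σ : E ≃ₐ[K] E)
    (h : ∀ (τ : L →ₐ[K] E) (y : L), σ (τ y) = τ y) : σ = 1 := by
  let S : IntermediateField K E :=
    (AlgHom.equalizer (σ : E →ₐ[K] E) (AlgHom.id K E)).toIntermediateField (fun x hx => by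
      rw [AlgHom.mem_equalizer] at hx ⊢
      simp only [AlgHom.coe_id, id_eq] at hx ⊢
      rw [map_inv₀, hx])
  have hS : ∀ z : E, z ∈ S ↔ σ z = z := fun z => by
    change z ∈ AlgHom.equalizer (σ : E →ₐ[K] E) (AlgHom.id K E) ↔ _
    rw [AlgHom.mem_equalizer]
    simp
  have hle : E ≤ S.map (IntermediateField.val E) := by
    rw [normalClosure_le_iff]
    rintro f _ ⟨y, rfl⟩
    refine ⟨(normalClosure.algHomEquiv K L Ω).symm f y, (hS _).mpr (h _ y), ?_⟩
    exact congrArg (fun g => g y) ((normalClosure.algHomEquiv K L Ω).apply_symm_apply f)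
  apply AlgEquiv.ext
  intro x
  obtain ⟨z, hz, hzx⟩ := hle x.2
  have hzx' : z = x := Subtype.ext hzx
  rw [← hzx']
  exact (hS z).mp hz

end fields

section main

theorem free_of_td (A B : Type u) [CommRing A] [IsRegularLocalRing A] [IsDomain A]
    [IsIntegrallyClosed A] (hA : (2 : WithBot ℕ∞) ≤ ringKrullDim A)
    [CommRing B] [IsDomain B] [IsIntegrallyClosed B] [Algebra A B] [Module.Finite A B]
    [Module.IsTorsionFree A B]
    (hTD : ∀ p : Ideal A, p.IsPrime → p ≠ maximalIdeal A → ∃ s ∉ p,
      ∃ (r : ℕ) (e e' : Fin r → B),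
        ∀ y : B, s • y = ∑ i, Algebra.intTrace A B (e' i * y) • e i) :
    Module.Free A B := by
  haveI : IsNoetherianRing A := inferInstance
  let K := FractionRing A
  let L := FractionRing B
  letI iKL : Algebra K L := FractionRing.liftAlgebra A L
  haveI : IsScalarTower A K L := FractionRing.isScalarTower_liftAlgebra A L
  haveI : IsIntegralClosure B A L := IsIntegralClosure.of_isIntegrallyClosed _ _ _
  haveI : Algebra.IsAlgebraic K L := isAlgebraic_of_isFractionRing A B ..
  haveI : IsLocalization (Algebra.algebraMapSubmonoid B A⁰) L :=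
    IsIntegralClosure.isLocalization _ K _ _
  haveI : FiniteDimensional K L := .of_isLocalization A B A⁰
  have hm : (⊥ : Ideal A) ≠ maximalIdeal A := by
    intro hbot
    have h2 : ((maximalIdeal A).height : WithBot ℕ∞) = ringKrullDim A :=
      IsLocalRing.maximalIdeal_height_eq_ringKrullDim
    rw [← hbot, Ideal.height_bot] at h2
    rw [← h2] at hA
    have h3 : ((2 : ℕ∞) : WithBot ℕ∞) ≤ ((0 : ℕ∞) : WithBot ℕ∞) := hA
    rw [WithBot.coe_le_coe] at h3
    norm_num at h3
  haveI : Algebra.IsSeparable K L := by
    by_contra hsep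
    have h0 := Algebra.trace_eq_zero_of_not_isSeparable hsep
    obtain ⟨s, hs, r, e, e', h⟩ := hTD ⊥ Ideal.isPrime_bot hm
    have h1 : s • (1 : B) = 0 := by
      rw [h 1]
      apply Finset.sum_eq_zero
      intro i _
      have : Algebra.intTrace A B (e' i * 1) = 0 := by
        apply IsFractionRing.injective A K
        rw [Algebra.algebraMap_intTrace (K := K) (L := L), h0]
        simp
      rw [this, zero_smul]
    have hs0 : s ≠ 0 := fun h => hs (by rw [h]; exact Ideal.zero_mem _)
    have h2 : s • (1 : B) = s • 0 := by rw [h1, smul_zero]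
    have := (Module.IsTorsionFree.isSMulRegular (M := B) (IsRegular.of_ne_zero hs0)) h2
    exact one_ne_zero this
  let Ω := AlgebraicClosure L
  let E := IntermediateField.normalClosure K L Ω
  haveI : FiniteDimensional K E := normalClosure.is_finiteDimensional K L Ω
  haveI : Normal K E := normalClosure.normal K L Ω
  haveI : Algebra.IsSeparable K E := by
    have hsep : ∀ f : L →ₐ[K] Ω, Algebra.IsSeparable K f.fieldRange := fun f =>
      AlgEquiv.Algebra.isSeparable (AlgEquiv.ofInjectiveField f)
    change Algebra.IsSeparable K (⨆ f : L →ₐ[K] Ω, f.fieldRange : IntermediateField K Ω)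
    infer_instance
  haveI : IsGalois K E := ⟨⟩
  let B' := integralClosure A E
  haveI i4 : IsIntegrallyClosed B' := integralClosure.isIntegrallyClosedOfFiniteExtension K
  haveI i5 : Module.Finite A B' := IsIntegralClosure.finite A K E B'
  haveI i6a : Module.IsTorsionFree A E := .trans_faithfulSMul A K E
  haveI i6 : Module.IsTorsionFree A B' := inferInstance
  haveI i7 : Module.IsReflexive A B' := IntClosReflH4.main A K E
  haveI i8 : Module.IsReflexive A B := by
    haveI : Module.Finite A (integralClosure A L) :=
      Module.Finite.equiv (IsIntegralClosure.equiv A B L (integralClosure A L)).toLinearEquiv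
    haveI := IntClosReflH4.main A K L
    exact Module.equiv (IsIntegralClosure.equiv A B L (integralClosure A L)).toLinearEquiv.symm
  exact free_of_galois A K L E B B' hA (H1_normalClosure K L) (H2_normalClosure K L) hTD

/-- **Purity for finite normal algebras** (Zariski–Nagata): `A` regular local of dimension `≥ 2`,
`B` a finite normal domain over `A`, étale over the punctured spectrum.  Then `B` is étale. -/
theorem purity_finite (A B : Type u) [CommRing A] [IsRegularLocalRing A]
    (hA : (2 : WithBot ℕ∞) ≤ ringKrullDim A) [CommRing B] [IsDomain B] [IsIntegrallyClosed B]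
    [Algebra A B] [Module.Finite A B] (hinj : Function.Injective (algebraMap A B))
    (h : ∀ (q : Ideal B) (_ : q.IsPrime), q.comap (algebraMap A B) ≠ IsLocalRing.maximalIdeal A →
      Algebra.IsEtaleAt A q) : Algebra.Etale A B := by
  haveI : IsDomain A := Groth.Agent.RegularLib.isDomain A
  haveI : IsIntegrallyClosed A :=
    Groth.Agent.Lib.NormalLiftH4.isIntegrallyClosed_of_isRegularLocalRing A
  haveI : IsNoetherianRing A := inferInstance
  haveI : Module.IsTorsionFree A B := Module.isTorsionFree_iff_algebraMap_injective.mpr hinj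
  have hTD : ∀ p : Ideal A, p.IsPrime → p ≠ maximalIdeal A → ∃ s ∉ p,
      ∃ (r : ℕ) (e e' : Fin r → B),
        ∀ y : B, s • y = ∑ i, Algebra.intTrace A B (e' i * y) • e i := by
    intro p hp hpm
    haveI := hp
    apply exists_td A B p
    intro q hq hqp
    apply h q hq
    intro heq
    apply hpm
    have hle : maximalIdeal A ≤ p := heq ▸ hqp
    exact ((IsLocalRing.maximalIdeal.isMaximal A).eq_of_le hp.ne_top hle).symm
  haveI : Module.Free A B := free_of_td A B hA hTD
  exact Groth.Agent.Lib.PurityFFH3.etale_of_punctured hA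
    (fun q hq => h q.asIdeal q.isPrime hq)

end main

end Groth.Agent.Lib.PurGal
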