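import Mathlib
set_option autoImplicit false
universe u
namespace PurInsepH8

/-- In a tower `K ⊆ F ⊆ E` with `E/K` normal, if every `K`-automorphism of `E` fixes `F`
pointwise then `F/K` is purely inseparable. -/
theorem isPurelyInseparable_of_aut_fix (K F E : Type u) [Field K] [Field F] [Field E]
    [Algebra K F] [Algebra F E] [Algebra K E] [IsScalarTower K F E] [Normal K E]
    (h : ∀ τ : E ≃ₐ[K] E, ∀ f : F, τ (algebraMap F E f) = algebraMap F E f) :
    IsPurelyInseparable K F := by
  classical
  rw [isPurelyInseparable_iff_natSepDegree_eq_one]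
  intro x
  have hint : IsIntegral K (algebraMap F E x) := (Normal.isIntegral inferInstance _)
  have hmin : minpoly K (algebraMap F E x) = minpoly K x :=
    minpoly.algebraMap_eq (algebraMap F E).injective x
  have hsplit : ((minpoly K x).map (algebraMap K E)).Splits := by
    rw [← hmin]
    exact Normal.splits inferInstance _
  rw [Polynomial.natSepDegree_eq_of_splits _ hsplit]
  have hroots : ((minpoly K x).aroots E).toFinset = {algebraMap F E x} := by
    ext y
    rw [Multiset.mem_toFinset, Finset.mem_singleton, ← hmin,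
      ← isConjRoot_iff_mem_minpoly_aroots hint, isConjRoot_iff_exists_algEquiv]
    constructor
    · rintro ⟨σ, hσ⟩
      calc y = σ.symm (σ y) := (σ.symm_apply_apply y).symm
        _ = σ.symm (algebraMap F E x) := by rw [hσ]
        _ = algebraMap F E x := h σ.symm x
    · rintro rfl
      exact ⟨1, rfl⟩
  rw [hroots, Finset.card_singleton]

/-- Ring-hom form with transport along isomorphisms. -/
theorem isPurelyInseparable_of_transport {K F E K' E' : Type u} [Field K] [Field F] [Field E]
    [Field K'] [Field E'] (i₁ : K →+* F) (i₂ : F →+* E) (a : K' →+* E') (c : K' →+* K)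
    (e : E' →+* E) (hc : Function.Bijective c) (he : Function.Bijective e)
    (hsq : ∀ k', i₂ (i₁ (c k')) = e (a k'))
    (hnorm : @Normal K' E' _ _ a.toAlgebra)
    (haut : ∀ τ' : E' ≃+* E', (∀ k', τ' (a k') = a k') →
      ∀ e' : E', (∃ f : F, e e' = i₂ f) → e (τ' e') = e e') :
    i₁.IsPurelyInseparable := by
  letI : Algebra K F := i₁.toAlgebra
  letI : Algebra F E := i₂.toAlgebra
  letI : Algebra K E := (i₂.comp i₁).toAlgebra
  haveI : IsScalarTower K F E := IsScalarTower.of_algebraMap_eq (fun x => rfl)
  letI : Algebra K' E' := a.toAlgebra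
  haveI := hnorm
  let cE : K' ≃+* K := RingEquiv.ofBijective c hc
  let eE : E' ≃+* E := RingEquiv.ofBijective e he
  haveI : Normal K E := Normal.of_equiv_equiv (F := K') (E := E') (f := cE) (g := eE) (by
    ext k'
    exact hsq k')
  change IsPurelyInseparable K F
  apply isPurelyInseparable_of_aut_fix K F E
  intro τ f
  obtain ⟨e', he'⟩ := he.2 (i₂ f)
  have h1 := haut (eE.trans (τ.toRingEquiv.trans eE.symm)) (by
    intro k'
    change eE.symm (τ (e (a k'))) = a k'
    rw [← hsq k']
    have h2 : τ (i₂ (i₁ (c k'))) = i₂ (i₁ (c k')) := τ.commutes (c k')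
    rw [h2, hsq k']
    exact eE.symm_apply_apply _) e' ⟨f, he'⟩
  change e (eE.symm (τ (e e'))) = e e' at h1
  have h3 : e (eE.symm (τ (e e'))) = τ (e e') := eE.apply_symm_apply _
  rw [h3, he'] at h1
  exact h1

end PurInsepH8
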