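import Mathlib
import Groth.Agent.Lib.PurGal3_helper5
import Groth.Agent.Lib.Depth_helper5
import Groth.Agent.Lib.EtNormal_helper4

set_option linter.style.haveILetI false

/-!
# Purity for finite algebras of depth `≥ 2`: preliminaries

* `exists_pow_le_of_punctured`: an ideal of a Noetherian local ring not contained in any non-maximal
  prime contains a power of the maximal ideal.
* `etale_localization_atPrime`: a finite algebra étale at all primes over generizations of `p` becomes
  étale after localizing at `p`.
* `isTorsionFree_of_punctured`: a finite algebra over a local domain which has an `m`-regular element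
  and is étale on the punctured spectrum is torsion-free.
* `normal_localization_of_isEtaleAt`: the local ring at an étale point over a normal domain is a normal
  domain, flat over the base.
-/

namespace Groth.Agent.Lib.PurRed

universe u

open IsLocalRing nonZeroDivisors

section pow

variable (A : Type u) [CommRing A] [IsLocalRing A] [IsNoetherianRing A]

theorem exists_pow_le_of_punctured (I : Ideal A)
    (h : ∀ p : Ideal A, p.IsPrime → p ≠ maximalIdeal A → ∃ s ∉ p, s ∈ I) :
    ∃ k : ℕ, maximalIdeal A ^ k ≤ I := by
  have hrad : maximalIdeal A ≤ I.radical := by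
    rw [Ideal.radical_eq_sInf]
    apply le_sInf
    rintro p ⟨hIp, hp⟩
    by_contra hcon
    have hpm : p ≠ maximalIdeal A := fun h => hcon h.ge
    obtain ⟨s, hs, hsI⟩ := h p hp hpm
    exact hs (hIp hsI)
  exact Ideal.exists_pow_le_of_le_radical_of_fg hrad (IsNoetherian.noetherian _)

end pow

section loc

variable (A B : Type u) [CommRing A] [IsNoetherianRing A] [CommRing B] [Algebra A B]
  [Module.Finite A B]

/-- localizing a finite algebra at a prime `p` all of whose generizations are étale points gives a
finite étale algebra over `A_p`. -/
theorem etale_localization_atPrime (p : Ideal A) [p.IsPrime]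
    (h : ∀ (q : Ideal B) [q.IsPrime], q.comap (algebraMap A B) ≤ p → Algebra.IsEtaleAt A q) :
    Algebra.Etale (Localization.AtPrime p)
      (Localization (Algebra.algebraMapSubmonoid B p.primeCompl)) := by
  let M := p.primeCompl
  let Ap := Localization.AtPrime p
  let Bp := Localization (Algebra.algebraMapSubmonoid B M)
  haveI hfe : Algebra.FormallyEtale A Bp := by
    apply Groth.Agent.Lib.PurGal.formallyEtale_localization
    intro q _ hq
    apply h
    intro a ha
    by_contra hap
    exact Set.disjoint_left.mp hq
      (⟨a, hap, rfl⟩ : algebraMap A B a ∈ Algebra.algebraMapSubmonoid B M) ha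
  haveI : Algebra.FormallyEtale Ap Bp := Algebra.FormallyEtale.localization_base M
  haveI : Module.Finite Ap Bp := Module.Finite.of_isLocalization A B M
  haveI : IsNoetherianRing Ap := IsLocalization.isNoetherianRing M Ap inferInstance
  haveI : Algebra.FinitePresentation Ap Bp :=
    Algebra.FinitePresentation.of_finiteType.mp inferInstance
  exact ⟨inferInstance, inferInstance⟩

end loc

section normal

variable (A B : Type u) [CommRing A] [IsDomain A] [IsIntegrallyClosed A] [CommRing B]
  [Algebra A B] [Algebra.FinitePresentation A B]

/-- the local ring of `B` at a prime where `B` is étale over the normal domain `A` is a normal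
domain, flat over `A`. -/
theorem normal_localization_of_isEtaleAt (q : Ideal B) [q.IsPrime] [Algebra.IsEtaleAt A q] :
    IsDomain (Localization.AtPrime q) ∧ IsIntegrallyClosed (Localization.AtPrime q) ∧
      Module.Flat A (Localization.AtPrime q) := by
  obtain ⟨f, hfq, hf⟩ := Algebra.exists_etale_of_isEtaleAt (R := A) q
  let Bf := Localization.Away f
  have hle : Submonoid.powers f ≤ q.primeCompl := by
    rintro _ ⟨n, rfl⟩
    exact fun hmem => hfq (Ideal.IsPrime.mem_of_pow_mem inferInstance n hmem)
  letI : Algebra Bf (Localization.AtPrime q) :=
    IsLocalization.localizationAlgebraOfSubmonoidLe Bf (Localization.AtPrime q) _ _ hle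
  haveI : IsScalarTower B Bf (Localization.AtPrime q) :=
    IsLocalization.localization_isScalarTower_of_submonoid_le Bf _ _ _ hle
  haveI : IsLocalization (Submonoid.map (algebraMap B Bf) q.primeCompl)
      (Localization.AtPrime q) :=
    IsLocalization.isLocalization_of_submonoid_le Bf _ _ _ hle
  haveI : IsScalarTower A Bf (Localization.AtPrime q) := by
    refine IsScalarTower.of_algebraMap_eq (fun x => ?_)
    rw [IsScalarTower.algebraMap_apply A B (Localization.AtPrime q),
      IsScalarTower.algebraMap_apply B Bf (Localization.AtPrime q),
      ← IsScalarTower.algebraMap_apply A B Bf]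
  obtain ⟨h1, h2⟩ := Groth.Agent.Lib.EtNormalH4.isDomain_and_isIntegrallyClosed (A := A) (B := Bf)
    (S := Localization.AtPrime q) (Submonoid.map (algebraMap B Bf) q.primeCompl)
  refine ⟨h1, h2, ?_⟩
  haveI : Module.Flat Bf (Localization.AtPrime q) :=
    IsLocalization.flat _ (Submonoid.map (algebraMap B Bf) q.primeCompl)
  haveI : Module.Flat A Bf := Algebra.Smooth.flat A Bf
  exact Module.Flat.trans A Bf (Localization.AtPrime q)

end normal

end Groth.Agent.Lib.PurRed
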