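import Mathlib
import Groth.Agent.Lib.PurRed1_helper5

set_option linter.style.haveILetI false

/-!
# Torsion-freeness and local normality
-/

namespace Groth.Agent.Lib.PurRed

universe u

open IsLocalRing nonZeroDivisors

section tf

variable (A B : Type u) [CommRing A] [IsLocalRing A] [IsNoetherianRing A] [IsDomain A]
  [CommRing B] [Algebra A B] [Module.Finite A B]

/-- a finite algebra with an `m`-regular element which is étale on the punctured spectrum is
torsion-free. -/
theorem isTorsionFree_of_punctured (a₁ : A) (ha₁ : a₁ ∈ maximalIdeal A) (hreg : IsSMulRegular B a₁)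
    (h : ∀ (q : Ideal B) [q.IsPrime], q.comap (algebraMap A B) ≠ maximalIdeal A →
      Algebra.IsEtaleAt A q) : Module.IsTorsionFree A B := by
  refine ⟨fun a ha => ?_⟩
  have ha0 : a ≠ 0 := ha.ne_zero
  rw [isSMulRegular_iff_right_eq_zero_of_smul]
  intro b hab
  have hI : ∃ k : ℕ, maximalIdeal A ^ k ≤ Ideal.torsionOf A B b := by
    apply exists_pow_le_of_punctured
    intro p hp hpm
    haveI := hp
    let Ap := Localization.AtPrime p
    let Bp := Localization (Algebra.algebraMapSubmonoid B p.primeCompl)
    haveI : Algebra.Etale Ap Bp := etale_localization_atPrime A B p (by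
      intro q _ hq
      apply h q
      intro heq
      apply hpm
      have hle : maximalIdeal A ≤ p := heq ▸ hq
      exact ((IsLocalRing.maximalIdeal.isMaximal A).eq_of_le hp.ne_top hle).symm)
    haveI : Module.Flat Ap Bp := Algebra.Smooth.flat Ap Bp
    haveI : Module.IsTorsionFree Ap Bp := inferInstance
    have hane : algebraMap A Ap a ≠ 0 := by
      intro h0
      apply ha0
      exact (IsLocalization.to_map_eq_zero_iff Ap p.primeCompl_le_nonZeroDivisors).mp h0
    have hb0 : algebraMap B Bp b = 0 := by
      have h1 : algebraMap A Ap a • algebraMap B Bp b = algebraMap A Ap a • 0 := by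
        rw [smul_zero, algebraMap_smul, Algebra.smul_def, IsScalarTower.algebraMap_apply A B Bp,
          ← map_mul, ← Algebra.smul_def, hab, map_zero]
      exact (Module.IsTorsionFree.isSMulRegular (M := Bp) (IsRegular.of_ne_zero hane)) h1
    obtain ⟨⟨s, s₀, hs₀, rfl⟩, hs⟩ :=
      (IsLocalization.map_eq_zero_iff (Algebra.algebraMapSubmonoid B p.primeCompl) Bp b).mp hb0
    refine ⟨s₀, hs₀, ?_⟩
    rw [Ideal.mem_torsionOf_iff, Algebra.smul_def]
    exact hs
  obtain ⟨k, hk⟩ := hI
  have h1 : a₁ ^ k • b = 0 := by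
    have := hk (Ideal.pow_mem_pow ha₁ k)
    rwa [Ideal.mem_torsionOf_iff] at this
  exact (hreg.pow k).right_eq_zero_of_smul h1

end tf

section LN

variable (A B : Type u) [CommRing A] [IsDomain A] [IsIntegrallyClosed A] [IsNoetherianRing A]
  [CommRing B] [Algebra A B] [Module.Finite A B] [Module.IsTorsionFree A B]
  (L : Type u) [CommRing L] [Algebra A L] [Algebra B L] [IsScalarTower A B L]
  [IsLocalization (Algebra.algebraMapSubmonoid B A⁰) L]

/-- **local normality**: an element of the generic fibre `L` of `B`, integral over `A`, lies in `B`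
after multiplication by some `s ∉ p`, provided `B` is étale at all primes over generizations of `p`. -/
theorem exists_smul_eq_of_isIntegral (p : Ideal A) [p.IsPrime]
    (h : ∀ (q : Ideal B) [q.IsPrime], q.comap (algebraMap A B) ≤ p → Algebra.IsEtaleAt A q)
    (y : L) (hy : IsIntegral A y) : ∃ s ∉ p, ∃ c : B, s • y = algebraMap B L c := by
  classical
  haveI : Algebra.FinitePresentation A B :=
    Algebra.FinitePresentation.of_finiteType.mp inferInstance
  have hS : Algebra.algebraMapSubmonoid B A⁰ ≤ B⁰ := by
    rintro _ ⟨a, ha, rfl⟩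
    have hreg : IsSMulRegular B a :=
      Module.IsTorsionFree.isSMulRegular (IsRegular.of_ne_zero (nonZeroDivisors.ne_zero ha))
    rw [mem_nonZeroDivisors_iff_right]
    intro z hz
    apply hreg.right_eq_zero_of_smul
    rw [Algebra.smul_def, mul_comm]
    exact hz
  have hinjL : Function.Injective (algebraMap B L) := IsLocalization.injective L hS
  obtain ⟨⟨b₀, ⟨_, a₀, ha₀, rfl⟩⟩, hb₀⟩ :=
    IsLocalization.surj (Algebra.algebraMapSubmonoid B A⁰) y
  simp only at hb₀
  have ha₀ne : a₀ ≠ 0 := nonZeroDivisors.ne_zero ha₀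
  have hunit : IsUnit (algebraMap B L (algebraMap A B a₀)) :=
    IsLocalization.map_units L (⟨_, a₀, ha₀, rfl⟩ : Algebra.algebraMapSubmonoid B A⁰)
  obtain ⟨f, hf, hfy⟩ := hy
  have hrel : Polynomial.eval₂ (algebraMap A B) b₀ (f.scaleRoots a₀) = 0 := by
    apply hinjL
    rw [map_zero, Polynomial.hom_eval₂, ← IsScalarTower.algebraMap_eq, ← hb₀, mul_comm,
      ← IsScalarTower.algebraMap_apply, Polynomial.scaleRoots_eval₂_mul, hfy, mul_zero]
  let I : Ideal B := Submodule.comap (LinearMap.toSpanSingleton B B b₀)
    (Ideal.span {algebraMap A B a₀})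
  have hI : ∀ r : B, r ∈ I ↔ ∃ c, c * algebraMap A B a₀ = r * b₀ := fun r => by
    simp only [I, Submodule.mem_comap, LinearMap.toSpanSingleton_apply, smul_eq_mul]
    exact Ideal.mem_span_singleton'
  by_contra hcon
  push Not at hcon
  have hdisj : Disjoint (I : Set B) (Algebra.algebraMapSubmonoid B p.primeCompl : Set B) := by
    rw [Set.disjoint_left]
    rintro _ hmem ⟨s, hs, rfl⟩
    obtain ⟨c, hc⟩ := (hI _).mp hmem
    apply hcon s hs c
    apply hunit.mul_left_cancel
    rw [← map_mul, mul_comm _ c, hc, map_mul, ← hb₀, Algebra.smul_def,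
      IsScalarTower.algebraMap_apply A B L]
    ring
  obtain ⟨q, hq, hIq, hqdisj⟩ := Ideal.exists_le_prime_disjoint I _ hdisj
  haveI := hq
  have hqp : q.comap (algebraMap A B) ≤ p := by
    intro a ha
    by_contra hap
    exact Set.disjoint_left.mp hqdisj ha ⟨a, hap, rfl⟩
  haveI := h q hqp
  obtain ⟨hdom, hic, hflat⟩ := normal_localization_of_isEtaleAt A B q
  let D := Localization.AtPrime q
  haveI : Module.IsTorsionFree A D := inferInstance
  let F := FractionRing D
  have hαne : algebraMap A D a₀ ≠ 0 := by
    intro h0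
    have hreg : IsSMulRegular D a₀ :=
      Module.IsTorsionFree.isSMulRegular (IsRegular.of_ne_zero ha₀ne)
    have h1 : a₀ • (1 : D) = a₀ • 0 := by
      rw [smul_zero, Algebra.smul_def, mul_one, h0]
    exact one_ne_zero (hreg h1)
  have hαF : algebraMap A F a₀ ≠ 0 := by
    rw [IsScalarTower.algebraMap_apply A D F]
    intro h0
    exact hαne ((IsFractionRing.injective D F) (by rw [h0, map_zero]))
  let x : F := (algebraMap A F a₀)⁻¹ * algebraMap D F (algebraMap B D b₀)
  have hx : algebraMap A F a₀ * x = algebraMap D F (algebraMap B D b₀) := by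
    simp only [x]
    rw [← mul_assoc, mul_inv_cancel₀ hαF, one_mul]
  have hfx : Polynomial.eval₂ (algebraMap A F) x f = 0 := by
    have h1 := Polynomial.scaleRoots_eval₂_mul (p := f) (algebraMap A F) x a₀
    rw [hx] at h1
    have h2 : Polynomial.eval₂ (algebraMap A F) (algebraMap D F (algebraMap B D b₀))
        (f.scaleRoots a₀) = 0 := by
      have := congrArg (fun z => algebraMap D F (algebraMap B D z)) hrel
      simp only [map_zero] at this
      rw [Polynomial.hom_eval₂, Polynomial.hom_eval₂] at this
      rw [← this]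
      congr 1
    rw [h2] at h1
    exact (mul_eq_zero.mp h1.symm).resolve_left (pow_ne_zero _ hαF)
  have hxint : IsIntegral D x := IsIntegral.tower_top (R := A) ⟨f, hf, hfx⟩
  obtain ⟨γ, hγ⟩ := IsIntegrallyClosed.isIntegral_iff.mp hxint
  have hβ : algebraMap B D b₀ = algebraMap A D a₀ * γ := by
    apply IsFractionRing.injective D F
    rw [map_mul, hγ, ← IsScalarTower.algebraMap_apply A D F, hx]
  obtain ⟨c, r, hcr⟩ := IsLocalization.exists_mk'_eq q.primeCompl γ
  have h3 : algebraMap B D (b₀ * r) = algebraMap B D (algebraMap A B a₀ * c) := by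
    rw [map_mul, map_mul, hβ, ← hcr, mul_assoc, IsLocalization.mk'_spec,
      ← IsScalarTower.algebraMap_apply A B D]
  obtain ⟨r', hr'⟩ := (IsLocalization.eq_iff_exists q.primeCompl D).mp h3
  have hmemI : (r' : B) * r ∈ I := by
    rw [hI]
    refine ⟨r' * c, ?_⟩
    have := hr'
    linear_combination -this
  have := hIq hmemI
  rcases hq.mem_or_mem this with h4 | h4
  · exact r'.2 h4
  · exact r.2 h4

end LN

end Groth.Agent.Lib.PurRed
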