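import Mathlib
import Groth.Agent.Lib.PurRed2_helper5
import Groth.Agent.Lib.PurGal6_helper5

set_option linter.style.haveILetI false

namespace Groth.Agent.Lib.PurRed

universe u

open IsLocalRing nonZeroDivisors

theorem etale_of_subsingleton (A B : Type u) [CommRing A] [CommRing B] [Algebra A B]
    [Algebra.FinitePresentation A B] [Subsingleton B] : Algebra.Etale A B := by
  rw [← Algebra.etaleLocus_eq_univ_iff_etale, Set.eq_univ_iff_forall]
  intro q
  exact absurd (Subsingleton.elim (1 : B) 0 ▸ q.asIdeal.zero_mem : (1 : B) ∈ q.asIdeal)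
    (q.asIdeal.ne_top_iff_one.mp q.isPrime.ne_top)

/-- integrality in a finite product -/
theorem isIntegral_pi {R : Type*} [CommRing R] {I : Type*} [Fintype I] (Li : I → Type*)
    [∀ i, CommRing (Li i)] [∀ i, Algebra R (Li i)] (x : ∀ i, Li i) (hx : ∀ i, IsIntegral R (x i)) :
    IsIntegral R x := by
  classical
  choose f hf hfx using hx
  refine ⟨∏ i, f i, Polynomial.monic_prod_of_monic _ _ (fun i _ => hf i), ?_⟩
  funext i
  have h1 : Polynomial.eval₂ (algebraMap R (∀ i, Li i)) x (∏ i, f i) i =
      Polynomial.eval₂ (algebraMap R (Li i)) (x i) (∏ i, f i) := by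
    have := Polynomial.hom_eval₂ (∏ i, f i) (algebraMap R (∀ i, Li i)) (Pi.evalRingHom Li i) x
    exact this
  rw [h1, Pi.zero_apply, Polynomial.eval₂_finsetProd]
  exact Finset.prod_eq_zero (Finset.mem_univ i) (hfx i)


section RLT

variable (A B : Type u) [CommRing A] [IsRegularLocalRing A] [CommRing B] [Algebra A B]
  [Module.Finite A B]

theorem etale_of_depth_local (hA : (2 : WithBot ℕ∞) ≤ ringKrullDim A)
    (hdepth : 2 ≤ LocCoh.idealDepth (maximalIdeal A) B)
    (h : ∀ (q : Ideal B) [q.IsPrime], q.comap (algebraMap A B) ≠ maximalIdeal A →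
      Algebra.IsEtaleAt A q) : Algebra.Etale A B := by
  classical
  haveI : IsDomain A := Groth.Agent.RegularLib.isDomain A
  haveI : IsIntegrallyClosed A :=
    Groth.Agent.Lib.NormalLiftH4.isIntegrallyClosed_of_isRegularLocalRing A
  haveI : IsNoetherianRing A := inferInstance
  haveI : Algebra.FinitePresentation A B :=
    Algebra.FinitePresentation.of_finiteType.mp inferInstance
  by_cases hsub : Subsingleton B
  · exact etale_of_subsingleton A B
  rw [not_subsingleton_iff_nontrivial] at hsub
  -- a regular element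
  have h2 := (Groth.Agent.DepthLib.le_idealDepth_iff (maximalIdeal A) B 2).mp
    (by exact_mod_cast hdepth)
  have hreg : ∃ a₁ ∈ maximalIdeal A, IsSMulRegular B a₁ := by
    rcases h2 with h2 | ⟨rs, hreg, hmem, hlen⟩
    · exfalso
      have hle : (⊤ : Submodule A B) ≤ maximalIdeal A • ⊤ := h2.ge
      have hbot := Submodule.eq_bot_of_le_smul_of_le_jacobson_bot (maximalIdeal A) ⊤
        (Module.Finite.fg_top) hle (IsLocalRing.maximalIdeal_le_jacobson _)
      exact top_ne_bot hbot
    · match rs, hlen with
      | [a, b], _ =>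
        rw [RingTheory.Sequence.isWeaklyRegular_cons_iff] at hreg
        exact ⟨a, hmem a (by simp), hreg.1⟩
  obtain ⟨a₁, ha₁, hreg₁⟩ := hreg
  haveI : Module.IsTorsionFree A B := isTorsionFree_of_punctured A B a₁ ha₁ hreg₁ h
  -- the generic fibre
  let K := FractionRing A
  let S := Algebra.algebraMapSubmonoid B A⁰
  let L := Localization S
  have hS : S ≤ B⁰ := by
    rintro _ ⟨a, ha, rfl⟩
    have hreg : IsSMulRegular B a :=
      Module.IsTorsionFree.isSMulRegular (IsRegular.of_ne_zero (nonZeroDivisors.ne_zero ha))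
    rw [mem_nonZeroDivisors_iff_right]
    intro z hz
    apply hreg.right_eq_zero_of_smul
    rw [Algebra.smul_def, mul_comm]
    exact hz
  have hinjL : Function.Injective (algebraMap B L) := IsLocalization.injective L hS
  have hm : (⊥ : Ideal A) ≠ maximalIdeal A := by
    intro hbot
    have h2 : ((maximalIdeal A).height : WithBot ℕ∞) = ringKrullDim A :=
      IsLocalRing.maximalIdeal_height_eq_ringKrullDim
    rw [← hbot, Ideal.height_bot] at h2
    rw [← h2] at hA
    have h3 : ((2 : ℕ∞) : WithBot ℕ∞) ≤ ((0 : ℕ∞) : WithBot ℕ∞) := hA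
    rw [WithBot.coe_le_coe] at h3
    norm_num at h3
  haveI : Algebra.FormallyEtale A L := by
    apply Groth.Agent.Lib.PurGal.formallyEtale_localization
    intro q _ hq
    apply h q
    intro heq
    apply hm
    rw [← heq, eq_comm, eq_bot_iff]
    intro a ha
    by_contra ha0
    exact Set.disjoint_left.mp hq
      (⟨a, mem_nonZeroDivisors_of_ne_zero ha0, rfl⟩ : algebraMap A B a ∈ S) ha
  haveI : Algebra.FormallyEtale K L := Algebra.FormallyEtale.localization_base A⁰
  haveI : Module.Finite K L := Module.Finite.of_isLocalization A B A⁰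
  haveI : Algebra.FinitePresentation K L :=
    Algebra.FinitePresentation.of_finiteType.mp inferInstance
  haveI : Algebra.Etale K L := ⟨inferInstance, inferInstance⟩
  obtain ⟨I, hIfin, Li, hfield, halg, e, hLi⟩ :=
    (Algebra.Etale.iff_exists_algEquiv_prod K L).mp inferInstance
  haveI := hIfin
  letI : Fintype I := Fintype.ofFinite I
  letI := hfield
  letI := halg
  haveI hfinLi : ∀ i, Module.Finite K (Li i) := fun i => (hLi i).1
  haveI hsepLi : ∀ i, Algebra.IsSeparable K (Li i) := fun i => (hLi i).2
  letI algALi : ∀ i, Algebra A (Li i) := fun i =>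
    ((algebraMap K (Li i)).comp (algebraMap A K)).toAlgebra
  haveI towLi : ∀ i, IsScalarTower A K (Li i) := fun i => IsScalarTower.of_algebraMap_eq' rfl
  let C : ∀ i, Subalgebra A (Li i) := fun i => integralClosure A (Li i)
  -- the map to the product of the field factors
  let φ : B →ₐ[A] (∀ i, Li i) :=
    (e.restrictScalars A).toAlgHom.comp (IsScalarTower.toAlgHom A B L)
  have hφint : ∀ (b : B) (i : I), φ b i ∈ C i := by
    intro b i
    have hb : IsIntegral A b := Algebra.IsIntegral.isIntegral b
    exact hb.map ((Pi.evalAlgHom A Li i).comp φ)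
  let Φ : B →ₐ[A] (∀ i, C i) :=
    Pi.algHom A _ (fun i => ((Pi.evalAlgHom A Li i).comp φ).codRestrict (C i) (fun b => hφint b i))
  have hΦ_apply : ∀ (b : B) (i : I), ((Φ b i : C i) : Li i) = φ b i := fun b i => rfl
  have hφinj : Function.Injective φ := by
    intro b b' hbb'
    apply hinjL
    exact e.injective hbb'
  have hΦinj : Function.Injective Φ := by
    intro b b' hbb'
    apply hφinj
    funext i
    rw [← hΦ_apply, ← hΦ_apply, hbb']
  have hpm_of : ∀ (p : Ideal A), p.IsPrime → p ≠ maximalIdeal A → ∀ (q : Ideal B) [q.IsPrime],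
      q.comap (algebraMap A B) ≤ p → Algebra.IsEtaleAt A q := by
    intro p hp hpm q _ hq
    apply h q
    intro heq
    apply hpm
    have hle : maximalIdeal A ≤ p := heq ▸ hq
    exact ((IsLocalRing.maximalIdeal.isMaximal A).eq_of_le hp.ne_top hle).symm
  haveI tfLi : ∀ i, Module.IsTorsionFree A (Li i) := fun i => .trans_faithfulSMul A K (Li i)
  have hΦsurj : Function.Surjective Φ := by
    intro x
    let V := ∀ i, Li i
    let ψ : B →ₗ[A] V := φ.toLinearMap
    let M : Submodule A V := LinearMap.range ψ
    let eM : B ≃ₗ[A] M := LinearEquiv.ofInjective ψ hφinj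
    haveI : Module.Finite A M := Module.Finite.equiv eM
    have hdM : 2 ≤ LocCoh.idealDepth (maximalIdeal A) M := by
      rw [← Groth.Agent.DepthLib.idealDepth_congr (maximalIdeal A) B eM]
      exact hdepth
    let x' : V := fun i => (x i : Li i)
    have hx' : x' ∈ M := by
      apply Groth.Agent.Lib.PurGal.mem_of_punctured A V (Ne.symm hm) M hdM x'
      intro p hp hpm
      haveI := hp
      have hxint : IsIntegral A x' := isIntegral_pi Li x' (fun i => (x i).2)
      have hyint : IsIntegral A ((e.restrictScalars A).symm x') :=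
        hxint.map (e.restrictScalars A).symm.toAlgHom
      obtain ⟨s, hs, c, hc⟩ := exists_smul_eq_of_isIntegral A B L p (hpm_of p hp hpm) _ hyint
      refine ⟨s, hs, c, ?_⟩
      change (e.restrictScalars A) (algebraMap B L c) = s • x'
      rw [← hc, map_smul, AlgEquiv.apply_symm_apply]
    obtain ⟨b, hb⟩ := hx'
    refine ⟨b, ?_⟩
    funext i
    apply Subtype.ext
    rw [hΦ_apply]
    exact congrFun hb i
  let Ψ : B ≃ₐ[A] (∀ i, C i) := AlgEquiv.ofBijective Φ ⟨hΦinj, hΦsurj⟩
  have hCet : ∀ i, Algebra.Etale A (C i) := by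
    intro i
    haveI : IsIntegrallyClosed (C i) := integralClosure.isIntegrallyClosedOfFiniteExtension K
    haveI : Module.Finite A (C i) := IsIntegralClosure.finite A K (Li i) (C i)
    have hinjC : Function.Injective (algebraMap A (C i)) := by
      intro a a' haa'
      have h1 : algebraMap A (Li i) a = algebraMap A (Li i) a' := congrArg Subtype.val haa'
      rw [IsScalarTower.algebraMap_apply A K (Li i), IsScalarTower.algebraMap_apply A K (Li i)] at h1
      exact IsFractionRing.injective A K ((algebraMap K (Li i)).injective h1)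
    apply Groth.Agent.Lib.PurGal.purity_finite A (C i) hA hinjC
    intro Q hQ hQm
    haveI := hQ
    let πi : B →ₐ[A] C i := (Pi.evalAlgHom A (fun i => C i) i).comp Φ
    have hπsurj : Function.Surjective πi := (Function.surjective_eval i).comp hΦsurj
    let q : Ideal B := Q.comap πi
    haveI : q.IsPrime := Ideal.comap_isPrime _ _
    have hq : q.comap (algebraMap A B) ≠ maximalIdeal A := by
      intro heq
      apply hQm
      rw [← heq]
      ext a
      simp only [Ideal.mem_comap, q]
      rw [AlgHom.commutes]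
    haveI := h q hq
    let T := Localization.AtPrime Q
    letI algBT : Algebra B T := ((algebraMap (C i) T).comp πi.toRingHom).toAlgebra
    have halgBT : ∀ b : B, algebraMap B T b = algebraMap (C i) T (πi b) := fun b => rfl
    haveI : IsScalarTower A B T := by
      refine IsScalarTower.of_algebraMap_eq (fun a => ?_)
      rw [halgBT, AlgHom.commutes, ← IsScalarTower.algebraMap_apply A (C i) T]
    -- the idempotent of the `i`-th factor
    let ε : B := Ψ.symm (Pi.single i 1)
    have hε : ∀ b : B, πi b = 0 → ε * b = 0 := by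
      intro b hb
      apply Ψ.injective
      rw [map_mul, map_zero, AlgEquiv.apply_symm_apply]
      funext j
      by_cases hj : j = i
      · subst hj
        have : Ψ b j = πi b := rfl
        rw [Pi.mul_apply, this, hb, mul_zero, Pi.zero_apply]
      · rw [Pi.mul_apply, Pi.single_eq_of_ne hj, zero_mul, Pi.zero_apply]
    have hεi : πi ε = 1 := by
      change Ψ (Ψ.symm (Pi.single i 1)) i = 1
      rw [AlgEquiv.apply_symm_apply, Pi.single_eq_same]
    have hεq : ε ∈ q.primeCompl := by
      change ¬ (πi ε ∈ Q)
      rw [hεi]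
      exact Q.ne_top_iff_one.mp hQ.ne_top
    haveI : IsLocalization.AtPrime T q := by
      refine ⟨?_, ?_, ?_⟩
      · rintro ⟨y, hy⟩
        rw [halgBT]
        exact IsLocalization.map_units T (⟨πi y, hy⟩ : Q.primeCompl)
      · intro z
        obtain ⟨⟨c, t, ht⟩, hz⟩ := IsLocalization.surj Q.primeCompl z
        obtain ⟨b, rfl⟩ := hπsurj c
        obtain ⟨s, rfl⟩ := hπsurj t
        exact ⟨⟨b, ⟨s, ht⟩⟩, hz⟩
      · intro x y hxy
        rw [halgBT, halgBT] at hxy
        obtain ⟨t, ht⟩ := (IsLocalization.eq_iff_exists Q.primeCompl T).mp hxy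
        have ht0 : (t : C i) ≠ 0 := fun h0 => t.2 (by rw [h0]; exact Q.zero_mem)
        have hxy' : πi (x - y) = 0 := by
          rw [map_sub, sub_eq_zero]
          exact mul_left_cancel₀ ht0 ht
        refine ⟨⟨ε, hεq⟩, ?_⟩
        have := hε (x - y) hxy'
        rw [mul_sub, sub_eq_zero] at this
        exact this
    let θ := IsLocalization.algEquiv q.primeCompl (Localization.AtPrime q) T
    exact Algebra.FormallyEtale.of_equiv (θ.restrictScalars A)
  haveI := hCet
  exact Algebra.Etale.of_equiv Ψ.symm

end RLT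

end Groth.Agent.Lib.PurRed
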