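import Mathlib
import Groth.Agent.Lib.Depth_helper5
import Groth.Agent.Lib.DepthLoc_helper5
import Groth.Agent.Lib.DepthRefl_helper5
import Groth.Agent.Lib.PurRed3_helper5
import Groth.Agent.Lib.SerreNormal_helper5

set_option linter.style.haveILetI false

namespace Groth.Agent.Lib.PurRed

universe u

open IsLocalRing

section bridge

variable (A B N : Type u) [CommRing A] [IsNoetherianRing A] [CommRing B] [Algebra A B]
  [AddCommGroup N] [Module A N] [Module B N] [IsScalarTower A B N] [Module.Finite A N]

/-- depth `≥ 1` along `I B` (as a `B`-module) gives depth `≥ 1` along `I` (as an `A`-module). -/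
theorem one_le_depth_restrict (I : Ideal A)
    (h : 1 ≤ LocCoh.idealDepth (I.map (algebraMap A B)) N) : 1 ≤ LocCoh.idealDepth I N := by
  by_contra hcon
  obtain ⟨P, hP, hIP⟩ := Groth.Agent.DepthLib.exists_associatedPrime_of_not_one_le I N hcon
  obtain ⟨hPprime, n₀, hn₀⟩ := isAssociatedPrime_iff.1 hP
  have hmem : ∀ c, c ∈ P ↔ c • n₀ = 0 := by
    intro c
    rw [hn₀, Submodule.mem_colon_singleton, Submodule.mem_bot]
  have hn₀ne : n₀ ≠ 0 := by
    rintro rfl
    apply hPprime.ne_top
    rw [Ideal.eq_top_iff_one, hmem, smul_zero]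
  have hkill : ∀ x ∈ I.map (algebraMap A B), x • n₀ = 0 := by
    intro x hx
    refine Submodule.span_induction (p := fun x _ => x • n₀ = 0) ?_ ?_ ?_ ?_ hx
    · rintro _ ⟨c, hc, rfl⟩
      rw [algebraMap_smul]
      exact (hmem c).mp (hIP hc)
    · rw [zero_smul]
    · intro x y _ _ hx hy
      rw [add_smul, hx, hy, add_zero]
    · intro b x _ hx
      rw [smul_eq_mul, mul_smul, hx, smul_zero]
  rcases (Groth.Agent.DepthLib.one_le_idealDepth_iff (I.map (algebraMap A B)) N).1 h with
    htop | ⟨x, hxJ, hreg⟩
  · apply hcon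
    apply (Groth.Agent.DepthLib.one_le_idealDepth_iff I N).2
    left
    rw [eq_top_iff]
    intro n _
    have hn : n ∈ (I.map (algebraMap A B)) • (⊤ : Submodule B N) := by
      rw [htop]
      exact Submodule.mem_top
    refine Submodule.smul_induction_on hn ?_ ?_
    · intro x hx n' _
      refine Submodule.span_induction
        (p := fun x _ => ∀ n' : N, x • n' ∈ I • (⊤ : Submodule A N)) ?_ ?_ ?_ ?_ hx n'
      · rintro _ ⟨c, hc, rfl⟩ n'
        rw [algebraMap_smul]
        exact Submodule.smul_mem_smul hc Submodule.mem_top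
      · intro n'
        rw [zero_smul]
        exact Submodule.zero_mem _
      · intro x y _ _ hx hy n'
        rw [add_smul]
        exact Submodule.add_mem _ (hx n') (hy n')
      · intro b x _ hx n'
        rw [smul_eq_mul, mul_comm, mul_smul]
        exact hx (b • n')
    · intro x y hx hy
      exact Submodule.add_mem _ hx hy
  · exact hn₀ne (hreg.right_eq_zero_of_smul (hkill x hxJ))

end bridge

section DC

variable (A B : Type u) [CommRing A] [IsLocalRing A] [IsNoetherianRing A] [CommRing B]
  [Algebra A B] [Module.Finite A B]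

/-- **depth conversion**: a finite algebra over a Noetherian local ring whose local rings at the
primes over the maximal ideal have depth `≥ 2` has depth `≥ 2` as a module. -/
theorem two_le_depth_of_local
    (h : ∀ (q : Ideal B) [q.IsPrime], q.comap (algebraMap A B) = maximalIdeal A →
      (2 : ℕ∞) ≤ LocCoh.depth (Localization.AtPrime q) (Localization.AtPrime q)) :
    (2 : ℕ∞) ≤ LocCoh.idealDepth (maximalIdeal A) B := by
  haveI : IsNoetherianRing B := IsNoetherianRing.of_finite A B
  let J : Ideal B := (maximalIdeal A).map (algebraMap A B)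
  have h2B : ((2 : ℕ) : ℕ∞) ≤ LocCoh.idealDepth J B := by
    apply Groth.Agent.DepthLib.le_idealDepth_of_forall_localization J 2 B
    intro q _ hJq
    rw [Groth.Agent.DepthLib.depth_locSelf]
    apply h q
    have hle : maximalIdeal A ≤ q.comap (algebraMap A B) := Ideal.map_le_iff_le_comap.mp hJq
    exact ((IsLocalRing.maximalIdeal.isMaximal A).eq_of_le
      (Ideal.comap_ne_top _ (Ideal.IsPrime.ne_top inferInstance)) hle).symm
  have h1B : 1 ≤ LocCoh.idealDepth J B := le_trans (by norm_num) h2B
  have h1A : 1 ≤ LocCoh.idealDepth (maximalIdeal A) B :=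
    one_le_depth_restrict A B B (maximalIdeal A) h1B
  rcases (Groth.Agent.DepthLib.one_le_idealDepth_iff (maximalIdeal A) B).1 h1A with
    htop | ⟨a, ha, hreg⟩
  · have := (Groth.Agent.DepthLib.le_idealDepth_iff (maximalIdeal A) B 2).2 (Or.inl htop)
    exact_mod_cast this
  let a' : B := algebraMap A B a
  have ha' : a' ∈ J := Ideal.mem_map_of_mem _ ha
  have hreg' : IsSMulRegular B a' := by
    intro x y hxy
    apply hreg
    simpa [a', Algebra.smul_def] using hxy
  let Q := B ⧸ Ideal.span {a'}
  let gB : B →ₗ[B] Q := Submodule.mkQ (Ideal.span {a'})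
  let gA : B →ₗ[A] Q := gB.restrictScalars A
  have hsurj : Function.Surjective gB := Submodule.mkQ_surjective _
  have hker : ∀ y : B, gB y = 0 ↔ ∃ c, a' * c = y := by
    intro y
    rw [Submodule.mkQ_apply, Submodule.Quotient.mk_eq_zero, Ideal.mem_span_singleton']
    constructor
    · rintro ⟨c, hc⟩
      exact ⟨c, by rw [mul_comm]; exact hc⟩
    · rintro ⟨c, hc⟩
      exact ⟨c, by rw [mul_comm]; exact hc⟩
  have hexB : Function.Exact (a' • LinearMap.id : B →ₗ[B] B) gB := by
    intro y
    rw [hker]
    constructor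
    · rintro ⟨c, hc⟩
      exact ⟨c, by simpa using hc⟩
    · rintro ⟨c, hc⟩
      exact ⟨c, by simpa using hc⟩
  have hexA : Function.Exact (a • LinearMap.id : B →ₗ[A] B) gA := by
    intro y
    change gB y = 0 ↔ _
    rw [hker]
    constructor
    · rintro ⟨c, hc⟩
      exact ⟨c, by simpa [a', Algebra.smul_def] using hc⟩
    · rintro ⟨c, hc⟩
      exact ⟨c, by simpa [a', Algebra.smul_def] using hc⟩
  haveI : Module.Finite A Q := Module.Finite.of_surjective gA hsurj
  have hQB : ((1 : ℕ) : ℕ∞) ≤ LocCoh.idealDepth J Q :=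
    (Groth.Agent.DepthLib.le_idealDepth_iff_of_smul_ses J B Q ha' hreg' gB hsurj hexB 1).2 h2B
  have hQA : ((1 : ℕ) : ℕ∞) ≤ LocCoh.idealDepth (maximalIdeal A) Q := by
    have := one_le_depth_restrict A B Q (maximalIdeal A) (by exact_mod_cast hQB)
    exact_mod_cast this
  have := (Groth.Agent.DepthLib.le_idealDepth_iff_of_smul_ses (maximalIdeal A) B Q ha hreg gA hsurj
    hexA 1).1 hQA
  exact_mod_cast this

end DC

section global

/-- inductive step: localise at `p` and apply the local purity theorem -/
theorem step {A B : Type u} [CommRing A] [CommRing B] [Algebra A B]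
    [IsNoetherianRing A] [Module.Finite A B]
    (p : Ideal A) [p.IsPrime] (hreg : IsRegularLocalRing (Localization.AtPrime p))
    (hht : (2 : ℕ∞) ≤ p.height)
    (hdepth : ∀ q : PrimeSpectrum B, q.asIdeal.comap (algebraMap A B) = p →
      (2 : ℕ∞) ≤ LocCoh.depth (Localization.AtPrime q.asIdeal) (Localization.AtPrime q.asIdeal))
    (IH : ∀ q' : PrimeSpectrum B, q'.asIdeal.comap (algebraMap A B) < p →
      Algebra.IsEtaleAt A q'.asIdeal)
    (q : PrimeSpectrum B) (hq : q.asIdeal.comap (algebraMap A B) = p) :
    Algebra.IsEtaleAt A q.asIdeal := by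
  let Ap := Localization.AtPrime p
  let M := Algebra.algebraMapSubmonoid B p.primeCompl
  let Bp := Localization M
  haveI : IsNoetherianRing B := IsNoetherianRing.of_finite A B
  haveI : IsNoetherianRing Ap := IsLocalization.isNoetherianRing p.primeCompl Ap inferInstance
  haveI : Module.Finite Ap Bp := Module.Finite.of_isLocalization A B p.primeCompl
  haveI : IsNoetherianRing Bp := IsNoetherianRing.of_finite Ap Bp
  have hdim : (2 : WithBot ℕ∞) ≤ ringKrullDim Ap := by
    rw [IsLocalization.AtPrime.ringKrullDim_eq_height p Ap,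
      show (2 : WithBot ℕ∞) = ((2 : ℕ∞) : WithBot ℕ∞) from rfl, WithBot.coe_le_coe]
    exact hht
  have hmax : (IsLocalRing.maximalIdeal Ap).comap (algebraMap A Ap) = p :=
    IsLocalization.AtPrime.comap_maximalIdeal Ap p
  have hcomm : ∀ Q : Ideal Bp, (Q.comap (algebraMap B Bp)).comap (algebraMap A B) =
      (Q.comap (algebraMap Ap Bp)).comap (algebraMap A Ap) := by
    intro Q
    rw [Ideal.comap_comap, Ideal.comap_comap, ← IsScalarTower.algebraMap_eq A B Bp,
      ← IsScalarTower.algebraMap_eq A Ap Bp]
  -- depth of `Bp` over `Ap`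
  have hdepthAp : (2 : ℕ∞) ≤ LocCoh.idealDepth (IsLocalRing.maximalIdeal Ap) Bp := by
    apply two_le_depth_of_local Ap Bp
    intro Q _ hQ
    have h1 : (Q.comap (algebraMap B Bp)).comap (algebraMap A B) = p := by
      rw [hcomm, hQ, hmax]
    have h2 := hdepth ⟨Q.comap (algebraMap B Bp), inferInstance⟩ h1
    rw [Groth.Agent.SerreLib.depth_eq_of_ringEquiv _ _
      (IsLocalization.localizationLocalizationAtPrimeIsoLocalization M Q).toRingEquiv] at h2
    exact h2
  have h' : ∀ (Q : Ideal Bp) [Q.IsPrime],
      Q.comap (algebraMap Ap Bp) ≠ IsLocalRing.maximalIdeal Ap → Algebra.IsEtaleAt Ap Q := by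
    intro Q _ hQ
    have hPprime : (Q.comap (algebraMap Ap Bp)).IsPrime := inferInstance
    have hPle : Q.comap (algebraMap Ap Bp) ≤ IsLocalRing.maximalIdeal Ap :=
      IsLocalRing.le_maximalIdeal hPprime.ne_top
    have hlt : (Q.comap (algebraMap B Bp)).comap (algebraMap A B) < p := by
      rw [hcomm]
      refine lt_of_le_of_ne ?_ ?_
      · exact (Ideal.comap_mono hPle).trans_eq hmax
      · intro heq
        apply hQ
        have hmc : Ideal.map (algebraMap A Ap)
            (Ideal.comap (algebraMap A Ap) (Q.comap (algebraMap Ap Bp))) =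
            Q.comap (algebraMap Ap Bp) :=
          IsLocalization.map_comap p.primeCompl Ap (Q.comap (algebraMap Ap Bp))
        exact hmc.symm.trans ((congrArg (Ideal.map (algebraMap A Ap)) heq).trans
          (IsLocalization.AtPrime.map_eq_maximalIdeal p Ap))
    haveI e1 : Algebra.IsEtaleAt A (Q.comap (algebraMap B Bp)) :=
      IH ⟨Q.comap (algebraMap B Bp), inferInstance⟩ hlt
    haveI : Q.LiesOver (Q.comap (algebraMap B Bp)) := ⟨rfl⟩
    haveI : Algebra.FormallyEtale B Bp := Algebra.FormallyEtale.of_isLocalization M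
    haveI : Algebra.FormallyEtale Bp (Localization.AtPrime Q) :=
      Algebra.FormallyEtale.of_isLocalization Q.primeCompl
    haveI e2 : Algebra.IsEtaleAt B Q :=
      Algebra.FormallyEtale.comp B Bp (Localization.AtPrime Q)
    haveI e3 : Algebra.IsEtaleAt A Q :=
      Algebra.IsEtaleAt.comp (Q.comap (algebraMap B Bp)) Q
    exact Algebra.FormallyEtale.localization_base p.primeCompl
  haveI hEt : Algebra.Etale Ap Bp := etale_of_depth_local Ap Bp hdim hdepthAp h'
  have hle : M ≤ q.asIdeal.primeCompl := by
    rintro _ ⟨a, ha, rfl⟩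
    intro hmem
    exact ha (by rw [← hq]; exact hmem)
  letI : Algebra Bp (Localization.AtPrime q.asIdeal) :=
    IsLocalization.localizationAlgebraOfSubmonoidLe Bp (Localization.AtPrime q.asIdeal) _ _ hle
  haveI : IsScalarTower B Bp (Localization.AtPrime q.asIdeal) :=
    IsLocalization.localization_isScalarTower_of_submonoid_le Bp _ _ _ hle
  haveI : IsLocalization (Submonoid.map (algebraMap B Bp) q.asIdeal.primeCompl)
      (Localization.AtPrime q.asIdeal) :=
    IsLocalization.isLocalization_of_submonoid_le Bp _ _ _ hle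
  haveI : Algebra.FormallyEtale Bp (Localization.AtPrime q.asIdeal) :=
    Algebra.FormallyEtale.of_isLocalization
      (Submonoid.map (algebraMap B Bp) q.asIdeal.primeCompl)
  haveI : Algebra.FormallyEtale A Ap := Algebra.FormallyEtale.of_isLocalization p.primeCompl
  haveI : Algebra.FormallyEtale Ap Bp := inferInstance
  haveI : Algebra.FormallyEtale A Bp := Algebra.FormallyEtale.comp A Ap Bp
  haveI : IsScalarTower A Bp (Localization.AtPrime q.asIdeal) := by
    refine IsScalarTower.of_algebraMap_eq (fun x => ?_)
    rw [IsScalarTower.algebraMap_apply A B (Localization.AtPrime q.asIdeal),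
      IsScalarTower.algebraMap_apply B Bp (Localization.AtPrime q.asIdeal),
      ← IsScalarTower.algebraMap_apply A B Bp]
  exact Algebra.FormallyEtale.comp A Bp (Localization.AtPrime q.asIdeal)

/-- **Purity for finite algebras of depth `≥ 2`** (global form).  `A` Noetherian, `B` a finite
`A`-algebra, `Z` a set of primes of `A` ("bad set") at which `A` is regular of dimension `≥ 2`
and such that the local rings of `B` over `Z` have depth `≥ 2`.  If `B` is étale over `A` at the
primes not over `Z`, then `B` is étale over `A`. -/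
theorem etale_of_depth {A B : Type u} [CommRing A] [CommRing B] [Algebra A B]
    [IsNoetherianRing A] [Module.Finite A B] (Z : Set (PrimeSpectrum A))
    (hreg : ∀ p ∈ Z, IsRegularLocalRing (Localization.AtPrime p.asIdeal) ∧
      (2 : ℕ∞) ≤ p.asIdeal.height)
    (hdepth : ∀ q : PrimeSpectrum B, q.comap (algebraMap A B) ∈ Z →
      (2 : ℕ∞) ≤ LocCoh.depth (Localization.AtPrime q.asIdeal) (Localization.AtPrime q.asIdeal))
    (het : ∀ q : PrimeSpectrum B, q.comap (algebraMap A B) ∉ Z →
      Algebra.IsEtaleAt A q.asIdeal) : Algebra.Etale A B := by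
  haveI : Algebra.FiniteType A B := inferInstance
  haveI : Algebra.FinitePresentation A B :=
    Algebra.FinitePresentation.of_finiteType.1 inferInstance
  rw [← Algebra.etaleLocus_eq_univ_iff_etale, Set.eq_univ_iff_forall]
  have key : ∀ n : ℕ, ∀ q : PrimeSpectrum B,
      (q.asIdeal.comap (algebraMap A B)).height = (n : ℕ∞) →
        Algebra.IsEtaleAt A q.asIdeal := by
    intro n
    induction n using Nat.strong_induction_on with
    | _ n ih =>
      intro q hq
      by_cases hZ : q.comap (algebraMap A B) ∈ Z
      · obtain ⟨hr, h2⟩ := hreg _ hZ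
        refine step (q.asIdeal.comap (algebraMap A B)) hr h2 ?_ ?_ q rfl
        · intro q₁ hq₁
          apply hdepth q₁
          have : q₁.comap (algebraMap A B) = q.comap (algebraMap A B) := PrimeSpectrum.ext hq₁
          rw [this]
          exact hZ
        · intro q' hlt
          have hfin : (q'.asIdeal.comap (algebraMap A B)).height ≠ ⊤ :=
            Ideal.height_ne_top (Ideal.IsPrime.ne_top inferInstance)
          obtain ⟨m, hm⟩ := ENat.ne_top_iff_exists.mp hfin
          have hmn : m < n := by
            have h3 := Ideal.height_strict_mono_of_isPrime hlt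
            rw [hq, ← hm] at h3
            exact_mod_cast h3
          exact ih m hmn q' hm.symm
      · exact het q hZ
  intro q
  have hfin : (q.asIdeal.comap (algebraMap A B)).height ≠ ⊤ :=
    Ideal.height_ne_top (Ideal.IsPrime.ne_top inferInstance)
  obtain ⟨n, hn⟩ := ENat.ne_top_iff_exists.mp hfin
  exact key n q hn.symm

end global

end Groth.Agent.Lib.PurRed
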