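import Mathlib
import Groth.Prelude
import Groth.Agent.Lib.PurityFinFlat_helper3

/-!
# Purity for finite flat morphisms (helper4)

`f : X ⟶ Y` finite flat, `Y` locally Noetherian, étale over an open `U` whose complement consists
of points of codimension `≥ 2`.  Then `f` is étale.  Built on helper3's local ring-level result
`PurityFFH3.etale_of_punctured`.
-/

set_option autoImplicit false
set_option linter.unusedVariables false
set_option linter.unusedTactic false
set_option linter.unreachableTactic false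
set_option linter.unusedSectionVars false
set_option linter.style.haveILetI false
set_option maxHeartbeats 800000
set_option backward.isDefEq.respectTransparency false

universe u

open AlgebraicGeometry CategoryTheory CategoryTheory.Limits TopologicalSpace

namespace Groth.Agent.Lib.PurityFFSchH4

section Alg

/-- inductive step: localise at `p` and apply the local purity theorem -/
theorem step {A B Ap Bp : Type u} [CommRing A] [CommRing B] [CommRing Ap] [CommRing Bp]
    [Algebra A B] [Algebra A Ap] [Algebra B Bp] [Algebra Ap Bp] [Algebra A Bp]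
    [IsScalarTower A B Bp] [IsScalarTower A Ap Bp]
    [IsNoetherianRing A] [Module.Finite A B] [Module.Flat A B]
    (p : Ideal A) [p.IsPrime] [IsLocalization.AtPrime Ap p]
    [IsLocalization (Algebra.algebraMapSubmonoid B p.primeCompl) Bp]
    (hht : (2 : ℕ∞) ≤ p.height)
    (IH : ∀ q' : PrimeSpectrum B, q'.asIdeal.comap (algebraMap A B) < p →
      Algebra.IsEtaleAt A q'.asIdeal)
    (q : PrimeSpectrum B) (hq : q.asIdeal.comap (algebraMap A B) = p) :
    Algebra.IsEtaleAt A q.asIdeal := by
  haveI : IsLocalRing Ap := IsLocalization.AtPrime.isLocalRing Ap p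
  haveI : IsNoetherianRing Ap := IsLocalization.isNoetherianRing p.primeCompl Ap inferInstance
  haveI : Module.Finite Ap Bp := Module.Finite.of_isLocalization A B p.primeCompl
  haveI : IsLocalizedModule p.primeCompl (IsScalarTower.toAlgHom A B Bp).toLinearMap :=
    isLocalizedModule_iff_isLocalization.mpr inferInstance
  haveI : Module.Flat Ap Bp :=
    Module.Flat.of_isLocalizedModule Ap p.primeCompl (IsScalarTower.toAlgHom A B Bp).toLinearMap
  have hdim : (2 : WithBot ℕ∞) ≤ ringKrullDim Ap := by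
    rw [IsLocalization.AtPrime.ringKrullDim_eq_height p Ap,
      show (2 : WithBot ℕ∞) = ((2 : ℕ∞) : WithBot ℕ∞) from rfl, WithBot.coe_le_coe]
    exact hht
  have hmax : (IsLocalRing.maximalIdeal Ap).comap (algebraMap A Ap) = p :=
    IsLocalization.AtPrime.comap_maximalIdeal Ap p
  have h' : ∀ Q : PrimeSpectrum Bp,
      Q.asIdeal.comap (algebraMap Ap Bp) ≠ IsLocalRing.maximalIdeal Ap →
      Algebra.IsEtaleAt Ap Q.asIdeal := by
    intro Q hQ
    have hPprime : (Q.asIdeal.comap (algebraMap Ap Bp)).IsPrime := inferInstance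
    have hPle : Q.asIdeal.comap (algebraMap Ap Bp) ≤ IsLocalRing.maximalIdeal Ap :=
      IsLocalRing.le_maximalIdeal hPprime.ne_top
    have hcomm : (Q.asIdeal.comap (algebraMap B Bp)).comap (algebraMap A B) =
        (Q.asIdeal.comap (algebraMap Ap Bp)).comap (algebraMap A Ap) := by
      rw [Ideal.comap_comap, Ideal.comap_comap, ← IsScalarTower.algebraMap_eq A B Bp,
        ← IsScalarTower.algebraMap_eq A Ap Bp]
    have hlt : (Q.asIdeal.comap (algebraMap B Bp)).comap (algebraMap A B) < p := by
      rw [hcomm]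
      refine lt_of_le_of_ne ?_ ?_
      · rw [← hmax]
        exact Ideal.comap_mono hPle
      · intro heq
        apply hQ
        have hmc : Ideal.map (algebraMap A Ap)
            (Ideal.comap (algebraMap A Ap) (Q.asIdeal.comap (algebraMap Ap Bp))) =
            Q.asIdeal.comap (algebraMap Ap Bp) :=
          IsLocalization.map_comap p.primeCompl Ap (Q.asIdeal.comap (algebraMap Ap Bp))
        rw [heq] at hmc
        exact hmc.symm.trans (IsLocalization.AtPrime.map_eq_maximalIdeal p Ap)
    haveI e1 : Algebra.IsEtaleAt A (Q.asIdeal.comap (algebraMap B Bp)) :=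
      IH ⟨Q.asIdeal.comap (algebraMap B Bp), inferInstance⟩ hlt
    haveI : (Q.asIdeal).LiesOver (Q.asIdeal.comap (algebraMap B Bp)) := ⟨rfl⟩
    haveI : Algebra.FormallyEtale B Bp :=
      Algebra.FormallyEtale.of_isLocalization (Algebra.algebraMapSubmonoid B p.primeCompl)
    haveI : Algebra.FormallyEtale Bp (Localization.AtPrime Q.asIdeal) :=
      Algebra.FormallyEtale.of_isLocalization Q.asIdeal.primeCompl
    haveI e2 : Algebra.IsEtaleAt B Q.asIdeal :=
      Algebra.FormallyEtale.comp B Bp (Localization.AtPrime Q.asIdeal)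
    haveI e3 : Algebra.IsEtaleAt A Q.asIdeal :=
      Algebra.IsEtaleAt.comp (Q.asIdeal.comap (algebraMap B Bp)) Q.asIdeal
    exact Algebra.FormallyEtale.localization_base p.primeCompl
  haveI hEt : Algebra.Etale Ap Bp := Groth.Agent.Lib.PurityFFH3.etale_of_punctured hdim h'
  have hle : Algebra.algebraMapSubmonoid B p.primeCompl ≤ q.asIdeal.primeCompl := by
    rintro _ ⟨a, ha, rfl⟩
    intro hmem
    exact ha (by rw [← hq]; exact hmem)
  letI : Algebra Bp (Localization.AtPrime q.asIdeal) :=
    IsLocalization.localizationAlgebraOfSubmonoidLe Bp (Localization.AtPrime q.asIdeal) _ _ hle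
  haveI : IsScalarTower B Bp (Localization.AtPrime q.asIdeal) :=
    IsLocalization.localization_isScalarTower_of_submonoid_le Bp _ _ _ hle
  haveI : IsLocalization (Submonoid.map (algebraMap B Bp) q.asIdeal.primeCompl)
      (Localization.AtPrime q.asIdeal) :=
    IsLocalization.isLocalization_of_submonoid_le Bp _ _ _ hle
  haveI : Algebra.FormallyEtale Bp (Localization.AtPrime q.asIdeal) :=
    Algebra.FormallyEtale.of_isLocalization
      (Submonoid.map (algebraMap B Bp) q.asIdeal.primeCompl)
  haveI : Algebra.FormallyEtale A Ap := Algebra.FormallyEtale.of_isLocalization p.primeCompl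
  haveI : Algebra.FormallyEtale Ap Bp := inferInstance
  haveI : Algebra.FormallyEtale A Bp := Algebra.FormallyEtale.comp A Ap Bp
  haveI : IsScalarTower A Bp (Localization.AtPrime q.asIdeal) := by
    refine IsScalarTower.of_algebraMap_eq (fun x => ?_)
    rw [IsScalarTower.algebraMap_apply A B (Localization.AtPrime q.asIdeal),
      IsScalarTower.algebraMap_apply B Bp (Localization.AtPrime q.asIdeal),
      ← IsScalarTower.algebraMap_apply A B Bp]
  exact Algebra.FormallyEtale.comp A Bp (Localization.AtPrime q.asIdeal)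

/-- **Purity for finite flat algebras** (global form): a finite flat algebra over a Noetherian
ring which is étale at all primes over primes of height `≤ 1` is étale. -/
theorem etale_of_height_le_one {A B : Type u} [CommRing A] [CommRing B] [Algebra A B]
    [IsNoetherianRing A] [Module.Finite A B] [Module.Flat A B]
    (H : ∀ q : PrimeSpectrum B, (q.asIdeal.comap (algebraMap A B)).height ≤ 1 →
      Algebra.IsEtaleAt A q.asIdeal) : Algebra.Etale A B := by
  haveI : Algebra.FiniteType A B := inferInstance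
  haveI : Algebra.FinitePresentation A B :=
    Algebra.FinitePresentation.of_finiteType.1 inferInstance
  rw [← Algebra.etaleLocus_eq_univ_iff_etale, Set.eq_univ_iff_forall]
  have key : ∀ n : ℕ, ∀ q : PrimeSpectrum B,
      (q.asIdeal.comap (algebraMap A B)).height = (n : ℕ∞) →
        Algebra.IsEtaleAt A q.asIdeal := by
    intro n
    induction n using Nat.strong_induction_on with
    | _ n ih =>
      intro q hq
      by_cases hn : n ≤ 1
      · exact H q (by rw [hq]; exact_mod_cast hn)
      · have h2 : (2 : ℕ∞) ≤ (q.asIdeal.comap (algebraMap A B)).height := by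
          rw [hq]
          exact_mod_cast (by omega : 2 ≤ n)
        refine step (Ap := Localization.AtPrime (q.asIdeal.comap (algebraMap A B)))
          (Bp := Localization (Algebra.algebraMapSubmonoid B
            (q.asIdeal.comap (algebraMap A B)).primeCompl))
          (q.asIdeal.comap (algebraMap A B)) h2 ?_ q rfl
        intro q' hlt
        have hfin : (q'.asIdeal.comap (algebraMap A B)).height ≠ ⊤ :=
          Ideal.height_ne_top (Ideal.IsPrime.ne_top inferInstance)
        obtain ⟨m, hm⟩ := ENat.ne_top_iff_exists.mp hfin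
        have hmn : m < n := by
          have h3 := Ideal.height_strict_mono_of_isPrime hlt
          rw [hq, ← hm] at h3
          exact_mod_cast h3
        exact ih m hmn q' hm.symm
  intro q
  have hfin : (q.asIdeal.comap (algebraMap A B)).height ≠ ⊤ :=
    Ideal.height_ne_top (Ideal.IsPrime.ne_top inferInstance)
  obtain ⟨n, hn⟩ := ENat.ne_top_iff_exists.mp hfin
  exact key n q hn.symm

end Alg

section Sch

variable {X Y : Scheme.{u}} (f : X ⟶ Y)

/-- For affine `f` and affine `W`, `f ∣_ W` is étale iff the ring map `f.app W` is. -/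
theorem etale_restrict_iff [IsAffineHom f] (W : Y.Opens) (hW : IsAffineOpen W) :
    Etale (f ∣_ W) ↔ (f.app W).hom.Etale := by
  haveI : IsAffine (W : Scheme.{u}) := hW
  haveI : IsAffine ((f ⁻¹ᵁ W : X.Opens) : Scheme.{u}) := hW.preimage f
  rw [HasRingHomProperty.iff_of_isAffine (P := @Etale), morphismRestrict_appTop,
    CommRingCat.hom_comp, RingHom.Etale.respectsIso.cancel_right_isIso]
  have aux : ∀ W' : Y.Opens, W' = W → ((f.app W').hom.Etale ↔ (f.app W).hom.Etale) := by
    rintro _ rfl
    exact Iff.rfl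
  exact aux _ (Scheme.Opens.ι_image_top W)

/-- étaleness over `U` restricts to smaller opens -/
theorem etale_restrict_of_le (U W : Y.Opens) (hWU : W ≤ U) [Etale (f ∣_ U)] :
    Etale (f ∣_ W) := by
  have e1 : (f ∣_ W) ≫ W.ι = (f ⁻¹ᵁ W).ι ≫ f := morphismRestrict_ι f W
  have e0 : (f ∣_ U) ≫ U.ι = (f ⁻¹ᵁ U).ι ≫ f := morphismRestrict_ι f U
  haveI h0 : Etale ((f ⁻¹ᵁ U).ι ≫ f) := by
    rw [← e0]
    infer_instance
  have e2 : (f ⁻¹ᵁ W).ι = X.homOfLE (f.preimage_mono hWU) ≫ (f ⁻¹ᵁ U).ι :=
    (X.homOfLE_ι _).symm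
  have h1 : Etale ((f ∣_ W) ≫ W.ι) := by
    rw [e1, e2, Category.assoc]
    infer_instance
  exact MorphismProperty.of_postcomp (W := @Etale) (W' := @Etale) (f ∣_ W) W.ι inferInstance h1

/-- the ring map on an affine open is étale -/
theorem etale_app_of_affine [IsLocallyNoetherian Y] [IsFinite f] [Flat f] (U : Y.Opens)
    (hU : ∀ y : Y, y ∉ U → (2 : WithBot ℕ∞) ≤ ringKrullDim (Y.presheaf.stalk y))
    [Etale (f ∣_ U)] (W : Y.Opens) (hW : IsAffineOpen W) :
    (f.app W).hom.Etale := by
  letI algWB : Algebra Γ(Y, W) Γ(X, f ⁻¹ᵁ W) := (f.app W).hom.toAlgebra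
  haveI : IsNoetherianRing Γ(Y, W) := IsLocallyNoetherian.component_noetherian ⟨W, hW⟩
  haveI : Module.Finite Γ(Y, W) Γ(X, f ⁻¹ᵁ W) := IsFinite.finite_app f W hW
  haveI : Module.Flat Γ(Y, W) Γ(X, f ⁻¹ᵁ W) := by
    have hfl := f.flat_appLE hW (hW.preimage f) le_rfl
    rw [← Scheme.Hom.app_eq_appLE] at hfl
    exact hfl
  show Algebra.Etale Γ(Y, W) Γ(X, f ⁻¹ᵁ W)
  apply etale_of_height_le_one
  intro q hq
  obtain ⟨p, hp⟩ : ∃ p : PrimeSpectrum Γ(Y, W),
      p.asIdeal = q.asIdeal.comap (algebraMap Γ(Y, W) Γ(X, f ⁻¹ᵁ W)) :=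
    ⟨⟨q.asIdeal.comap (algebraMap Γ(Y, W) Γ(X, f ⁻¹ᵁ W)), inferInstance⟩, rfl⟩
  rw [← hp] at hq
  have hyW : hW.fromSpec p ∈ W := by
    rw [← SetLike.mem_coe, ← hW.range_fromSpec]
    exact Set.mem_range_self p
  have hyU : hW.fromSpec p ∈ U := by
    by_contra hne
    have h2 := hU _ hne
    letI := TopCat.Presheaf.algebra_section_stalk Y.presheaf (⟨hW.fromSpec p, hyW⟩ : W)
    haveI := hW.isLocalization_stalk' p hyW
    rw [IsLocalization.AtPrime.ringKrullDim_eq_height p.asIdeal
      (Y.presheaf.stalk (hW.fromSpec p))] at h2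
    have h3 : (2 : ℕ∞) ≤ p.asIdeal.height := by
      rw [show (2 : WithBot ℕ∞) = ((2 : ℕ∞) : WithBot ℕ∞) from rfl, WithBot.coe_le_coe] at h2
      exact h2
    exact absurd (h3.trans hq) (by decide)
  obtain ⟨a, haU, hya⟩ := hW.exists_basicOpen_le (V := U) ⟨hW.fromSpec p, hyU⟩ hyW
  have haW : Y.basicOpen a ≤ W := Y.basicOpen_le a
  have hap : a ∉ p.asIdeal := by
    have h4 : p ∈ hW.fromSpec ⁻¹ᵁ Y.basicOpen a := hya
    rw [hW.fromSpec_preimage_basicOpen] at h4
    exact h4
  haveI : Etale (f ∣_ Y.basicOpen a) := etale_restrict_of_le f U _ haU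
  have hD : (f.app (Y.basicOpen a)).hom.Etale :=
    (etale_restrict_iff f _ (hW.basicOpen a)).mp inferInstance
  have hnat : Y.presheaf.map (homOfLE haW).op ≫ f.app (Y.basicOpen a) =
      f.app W ≫ X.presheaf.map ((Opens.map f.base).map (homOfLE haW)).op :=
    f.naturality (homOfLE haW).op
  have hρY : (Y.presheaf.map (homOfLE haW).op).hom.Etale := by
    letI : Algebra Γ(Y, W) Γ(Y, Y.basicOpen a) := (Y.presheaf.map (homOfLE haW).op).hom.toAlgebra
    haveI : IsLocalization.Away a Γ(Y, Y.basicOpen a) :=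
      hW.isLocalization_of_eq_basicOpen a (homOfLE haW) rfl
    show Algebra.Etale Γ(Y, W) Γ(Y, Y.basicOpen a)
    exact Algebra.Etale.of_isLocalizationAway a
  have hcomp : (f.app W ≫ X.presheaf.map ((Opens.map f.base).map (homOfLE haW)).op).hom.Etale := by
    rw [← hnat, CommRingCat.hom_comp]
    exact RingHom.Etale.stableUnderComposition _ _ hρY hD
  have hpre : f ⁻¹ᵁ Y.basicOpen a = X.basicOpen ((f.app W).hom a) := Scheme.preimage_basicOpen f a
  letI algX : Algebra Γ(X, f ⁻¹ᵁ W) Γ(X, f ⁻¹ᵁ Y.basicOpen a) :=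
    (X.presheaf.map ((Opens.map f.base).map (homOfLE haW)).op).hom.toAlgebra
  haveI locX : IsLocalization.Away ((f.app W).hom a) Γ(X, f ⁻¹ᵁ Y.basicOpen a) :=
    (hW.preimage f).isLocalization_of_eq_basicOpen ((f.app W).hom a)
      ((Opens.map f.base).map (homOfLE haW)) hpre
  letI algA : Algebra Γ(Y, W) Γ(X, f ⁻¹ᵁ Y.basicOpen a) :=
    (f.app W ≫ X.presheaf.map ((Opens.map f.base).map (homOfLE haW)).op).hom.toAlgebra
  haveI : IsScalarTower Γ(Y, W) Γ(X, f ⁻¹ᵁ W) Γ(X, f ⁻¹ᵁ Y.basicOpen a) :=
    IsScalarTower.of_algebraMap_eq (fun x => rfl)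
  haveI hB'' : Algebra.Etale Γ(Y, W) Γ(X, f ⁻¹ᵁ Y.basicOpen a) := hcomp
  haveI : Algebra.FormallyEtale Γ(Y, W) Γ(X, f ⁻¹ᵁ Y.basicOpen a) := inferInstance
  have hFE : Algebra.FormallyEtale Γ(Y, W) (Localization.Away ((f.app W).hom a)) :=
    Algebra.FormallyEtale.of_equiv
      ((IsLocalization.algEquiv (Submonoid.powers ((f.app W).hom a))
        (Localization.Away ((f.app W).hom a))
        Γ(X, f ⁻¹ᵁ Y.basicOpen a)).restrictScalars Γ(Y, W)).symm
  have hsub := Algebra.basicOpen_subset_etaleLocus_iff.mpr hFE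
  refine hsub (show q ∈ PrimeSpectrum.basicOpen ((f.app W).hom a) from fun hmem => hap ?_)
  rw [hp]
  exact hmem

/-- **Purity for finite flat morphisms**: finite flat, étale over an open whose complement has
codimension `≥ 2` in a locally Noetherian scheme, implies étale. -/
theorem main [IsLocallyNoetherian Y] [IsFinite f] [Flat f] (U : Y.Opens)
    (hU : ∀ y : Y, y ∉ U → (2 : WithBot ℕ∞) ≤ ringKrullDim (Y.presheaf.stalk y))
    [Etale (f ∣_ U)] : Etale f := by
  refine IsZariskiLocalAtTarget.of_iSup_eq_top (P := @Etale)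
    (fun W : Y.affineOpens => (W : Y.Opens)) (iSup_affineOpens_eq_top Y) (fun W => ?_)
  exact (etale_restrict_iff f W.1 W.2).mpr (etale_app_of_affine f U hU W.1 W.2)

end Sch

end Groth.Agent.Lib.PurityFFSchH4
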