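import Mathlib
import Groth.Prelude
import Groth.Agent.Lib.PurRed4_helper5
import Groth.Agent.Lib.PurExt3_helper5
import Groth.Agent.Lib.PurityFFSch_helper4

/-!
# Purity of the branch locus, scheme level (helper5)

`X` locally Noetherian, `ι : U₀ ⟶ X` an open immersion whose complement consists of regular points
of dimension `≥ 2`, `π₀ : V ⟶ U₀` finite étale.  Then `Spec_X (ι_* π₀_* O_V) → X` is finite étale.
-/

set_option linter.style.haveILetI false
set_option autoImplicit false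
set_option linter.unusedVariables false
set_option linter.unusedSectionVars false
set_option maxHeartbeats 800000
set_option backward.isDefEq.respectTransparency false

universe u

open CategoryTheory CategoryTheory.Limits AlgebraicGeometry TopologicalSpace Opposite RelSpec

noncomputable section

namespace Groth.Agent.Lib.PurSch

open Groth.Agent.Lib.PurExt Groth.Agent.Lib.PurityFFSchH4

section General

variable {X Y : Scheme.{u}} (f : X ⟶ Y)

/-- the image of `fromSpec q` is `fromSpec` of the contraction -/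
theorem base_fromSpec (W : Y.Opens) (hW : IsAffineOpen W) (hW' : IsAffineOpen (f ⁻¹ᵁ W))
    (q : PrimeSpectrum Γ(X, f ⁻¹ᵁ W)) :
    f.base (hW'.fromSpec.base q) = hW.fromSpec.base (q.comap (f.app W).hom) := by
  have h := IsAffineOpen.SpecMap_appLE_fromSpec f hW hW' le_rfl
  rw [← Scheme.Hom.app_eq_appLE] at h
  have h2 := congrArg (fun g => g.base q) h
  simp only [Scheme.Hom.comp_base, TopCat.comp_app] at h2
  exact h2.symm

/-- étale at primes lying over an open where the (affine) morphism is étale -/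
theorem isEtaleAt_of_mem [IsAffineHom f] (U : Y.Opens) [Etale (f ∣_ U)] (W : Y.Opens)
    (hW : IsAffineOpen W) (q : PrimeSpectrum Γ(X, f ⁻¹ᵁ W))
    (hq : hW.fromSpec.base (q.comap (f.app W).hom) ∈ U) :
    @Algebra.IsEtaleAt Γ(Y, W) Γ(X, f ⁻¹ᵁ W) _ _ (f.app W).hom.toAlgebra q.asIdeal _ := by
  letI algWB : Algebra Γ(Y, W) Γ(X, f ⁻¹ᵁ W) := (f.app W).hom.toAlgebra
  obtain ⟨p, hp⟩ : ∃ p : PrimeSpectrum Γ(Y, W), p = q.comap (f.app W).hom := ⟨_, rfl⟩
  rw [← hp] at hq
  have hyW : hW.fromSpec p ∈ W := by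
    rw [← SetLike.mem_coe, ← hW.range_fromSpec]
    exact Set.mem_range_self p
  obtain ⟨a, haU, hya⟩ := hW.exists_basicOpen_le (V := U) ⟨hW.fromSpec p, hq⟩ hyW
  have haW : Y.basicOpen a ≤ W := Y.basicOpen_le a
  have hap : a ∉ p.asIdeal := by
    have h4 : p ∈ hW.fromSpec ⁻¹ᵁ Y.basicOpen a := hya
    rw [hW.fromSpec_preimage_basicOpen] at h4
    exact h4
  haveI : Etale (f ∣_ Y.basicOpen a) := etale_restrict_of_le f U _ haU
  have hD : (f.app (Y.basicOpen a)).hom.Etale :=
    (etale_restrict_iff f _ (hW.basicOpen a)).mp inferInstance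
  have hnat : Y.presheaf.map (homOfLE haW).op ≫ f.app (Y.basicOpen a) =
      f.app W ≫ X.presheaf.map ((Opens.map f.base).map (homOfLE haW)).op :=
    f.naturality (homOfLE haW).op
  have hρY : (Y.presheaf.map (homOfLE haW).op).hom.Etale := by
    letI : Algebra Γ(Y, W) Γ(Y, Y.basicOpen a) := (Y.presheaf.map (homOfLE haW).op).hom.toAlgebra
    haveI : IsLocalization.Away a Γ(Y, Y.basicOpen a) :=
      hW.isLocalization_of_eq_basicOpen a (homOfLE haW) rfl
    show Algebra.Etale Γ(Y, W) Γ(Y, Y.basicOpen a)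
    exact Algebra.Etale.of_isLocalizationAway a
  have hcomp : (f.app W ≫ X.presheaf.map ((Opens.map f.base).map (homOfLE haW)).op).hom.Etale := by
    rw [← hnat, CommRingCat.hom_comp]
    exact RingHom.Etale.stableUnderComposition _ _ hρY hD
  have hpre : f ⁻¹ᵁ Y.basicOpen a = X.basicOpen ((f.app W).hom a) := Scheme.preimage_basicOpen f a
  letI algX : Algebra Γ(X, f ⁻¹ᵁ W) Γ(X, f ⁻¹ᵁ Y.basicOpen a) :=
    (X.presheaf.map ((Opens.map f.base).map (homOfLE haW)).op).hom.toAlgebra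
  haveI locX : IsLocalization.Away ((f.app W).hom a) Γ(X, f ⁻¹ᵁ Y.basicOpen a) :=
    (hW.preimage f).isLocalization_of_eq_basicOpen ((f.app W).hom a)
      ((Opens.map f.base).map (homOfLE haW)) hpre
  letI algA : Algebra Γ(Y, W) Γ(X, f ⁻¹ᵁ Y.basicOpen a) :=
    (f.app W ≫ X.presheaf.map ((Opens.map f.base).map (homOfLE haW)).op).hom.toAlgebra
  haveI : IsScalarTower Γ(Y, W) Γ(X, f ⁻¹ᵁ W) Γ(X, f ⁻¹ᵁ Y.basicOpen a) :=
    IsScalarTower.of_algebraMap_eq (fun x => rfl)
  haveI hB'' : Algebra.Etale Γ(Y, W) Γ(X, f ⁻¹ᵁ Y.basicOpen a) := hcomp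
  haveI : Algebra.FormallyEtale Γ(Y, W) Γ(X, f ⁻¹ᵁ Y.basicOpen a) := inferInstance
  have hFE : Algebra.FormallyEtale Γ(Y, W) (Localization.Away ((f.app W).hom a)) :=
    Algebra.FormallyEtale.of_equiv
      ((IsLocalization.algEquiv (Submonoid.powers ((f.app W).hom a))
        (Localization.Away ((f.app W).hom a))
        Γ(X, f ⁻¹ᵁ Y.basicOpen a)).restrictScalars Γ(Y, W)).symm
  have hsub := Algebra.basicOpen_subset_etaleLocus_iff.mpr hFE
  refine hsub (show q ∈ PrimeSpectrum.basicOpen ((f.app W).hom a) from fun hmem => hap ?_)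
  rw [hp]
  exact hmem

end General

section Main

variable {X U₀ V : Scheme.{u}} [IsLocallyNoetherian X] (ι : U₀ ⟶ X) [IsOpenImmersion ι]
  (π₀ : V ⟶ U₀) [IsFinite π₀] [Etale π₀]

/-- `Spec_X (ι_* π₀_* O_V) → X` restricted over the range of `ι` is étale -/
theorem etale_restrict_range : Etale ((extAlg ι π₀).π ∣_ ι.opensRange) := by
  obtain ⟨k, Hk⟩ := exists_isPullback_ext ι π₀
  have H1 := (isPullback_morphismRestrict (extAlg ι π₀).π ι.opensRange).flip
  have hcomm : ((extAlg ι π₀).π ⁻¹ᵁ ι.opensRange).ι ≫ (extAlg ι π₀).π =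
      (((extAlg ι π₀).π ∣_ ι.opensRange) ≫ ι.isoOpensRange.inv) ≫ ι := by
    rw [Category.assoc, Scheme.Hom.isoOpensRange_inv_comp]
    exact H1.w
  let l := Hk.lift _ _ hcomm
  have hl1 : l ≫ k = ((extAlg ι π₀).π ⁻¹ᵁ ι.opensRange).ι := Hk.lift_fst _ _ hcomm
  have hl2 : l ≫ π₀ = ((extAlg ι π₀).π ∣_ ι.opensRange) ≫ ι.isoOpensRange.inv :=
    Hk.lift_snd _ _ hcomm
  have s : IsPullback (l ≫ k) ((extAlg ι π₀).π ∣_ ι.opensRange) (extAlg ι π₀).π
      (ι.isoOpensRange.inv ≫ ι) := by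
    rw [hl1, Scheme.Hom.isoOpensRange_inv_comp]
    exact H1
  have H2 : IsPullback l ((extAlg ι π₀).π ∣_ ι.opensRange) π₀ ι.isoOpensRange.inv :=
    IsPullback.of_right s hl2 Hk
  exact MorphismProperty.of_isPullback (P := @Etale) H2 inferInstance

/-- **Purity of the branch locus** (scheme level): the finite extension `Spec_X (ι_* π₀_* O_V)` of
a finite étale cover of an open whose complement consists of regular points of dimension `≥ 2`
is étale. -/
theorem etale_ext (hfin : IsFinite (extAlg ι π₀).π)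
    (hreg : ∀ x : X, x ∉ ι.opensRange → IsRegularLocalRing (X.presheaf.stalk x) ∧
      (2 : WithBot ℕ∞) ≤ ringKrullDim (X.presheaf.stalk x)) :
    Etale (extAlg ι π₀).π := by
  haveI := hfin
  haveI := etale_restrict_range ι π₀
  refine IsZariskiLocalAtTarget.of_iSup_eq_top (P := @Etale)
    (fun W : X.affineOpens => (W : X.Opens)) (iSup_affineOpens_eq_top X) (fun W => ?_)
  refine (etale_restrict_iff (extAlg ι π₀).π W.1 W.2).mpr ?_
  obtain ⟨W, hW⟩ := W
  letI alg : Algebra Γ(X, W) Γ((extAlg ι π₀).spec, (extAlg ι π₀).π ⁻¹ᵁ W) :=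
    ((extAlg ι π₀).π.app W).hom.toAlgebra
  haveI : IsNoetherianRing Γ(X, W) := IsLocallyNoetherian.component_noetherian ⟨W, hW⟩
  haveI : Module.Finite Γ(X, W) Γ((extAlg ι π₀).spec, (extAlg ι π₀).π ⁻¹ᵁ W) :=
    IsFinite.finite_app (extAlg ι π₀).π W hW
  show Algebra.Etale Γ(X, W) Γ((extAlg ι π₀).spec, (extAlg ι π₀).π ⁻¹ᵁ W)
  have hW' : IsAffineOpen ((extAlg ι π₀).π ⁻¹ᵁ W) := hW.preimage (extAlg ι π₀).π
  haveI : IsLocallyNoetherian (extAlg ι π₀).spec :=
    LocallyOfFiniteType.isLocallyNoetherian (extAlg ι π₀).π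
  haveI : IsNoetherianRing Γ((extAlg ι π₀).spec, (extAlg ι π₀).π ⁻¹ᵁ W) :=
    IsLocallyNoetherian.component_noetherian ⟨_, hW'⟩
  refine Groth.Agent.Lib.PurRed.etale_of_depth {p | hW.fromSpec.base p ∉ ι.opensRange} ?_ ?_ ?_
  · intro p hp
    have hxW : hW.fromSpec p ∈ W := by
      rw [← SetLike.mem_coe, ← hW.range_fromSpec]
      exact Set.mem_range_self p
    letI := TopCat.Presheaf.algebra_section_stalk X.presheaf (⟨hW.fromSpec p, hxW⟩ : W)
    haveI := hW.isLocalization_stalk' p hxW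
    obtain ⟨h1, h2⟩ := hreg _ hp
    constructor
    · exact IsRegularLocalRing.of_ringEquiv (IsLocalization.algEquiv p.asIdeal.primeCompl
        (X.presheaf.stalk (hW.fromSpec p)) (Localization.AtPrime p.asIdeal)).toRingEquiv
    · rw [IsLocalization.AtPrime.ringKrullDim_eq_height p.asIdeal
        (X.presheaf.stalk (hW.fromSpec p))] at h2
      rw [show (2 : WithBot ℕ∞) = ((2 : ℕ∞) : WithBot ℕ∞) from rfl, WithBot.coe_le_coe] at h2
      exact h2
  · intro q hq
    have hyW' : hW'.fromSpec q ∈ (extAlg ι π₀).π ⁻¹ᵁ W := by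
      rw [← SetLike.mem_coe, ← hW'.range_fromSpec]
      exact Set.mem_range_self q
    have hy : (extAlg ι π₀).π.base (hW'.fromSpec.base q) ∉ ι.opensRange := by
      rw [base_fromSpec (extAlg ι π₀).π W hW hW' q]
      exact hq
    have h2 := two_le_depth_spec ι π₀ hfin _ hy
    letI := TopCat.Presheaf.algebra_section_stalk (extAlg ι π₀).spec.presheaf
      (⟨hW'.fromSpec q, hyW'⟩ : ((extAlg ι π₀).π ⁻¹ᵁ W : (extAlg ι π₀).spec.Opens))
    haveI := hW'.isLocalization_stalk' q hyW'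
    rw [Groth.Agent.SerreLib.depth_eq_of_ringEquiv _ _ (IsLocalization.algEquiv
      q.asIdeal.primeCompl (Localization.AtPrime q.asIdeal)
      ((extAlg ι π₀).spec.presheaf.stalk (hW'.fromSpec q))).toRingEquiv]
    exact h2
  · intro q hq
    have hq' : hW.fromSpec.base (q.comap ((extAlg ι π₀).π.app W).hom) ∈ ι.opensRange :=
      not_not.mp hq
    exact isEtaleAt_of_mem (extAlg ι π₀).π ι.opensRange W hW q hq'

end Main

end Groth.Agent.Lib.PurSch
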