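import Mathlib
import Groth.Prelude
import Groth.Agent.Lib.PurSch1_helper5
import Groth.Agent.Lib.ExtTop_helper5
import Groth.Agent.Lib.GlDim_helper5
import Groth.Agent.Lib.FEtRestrictFF_helper4

/-!
# Purity for finite étale covers: restriction is an equivalence (helper5)
-/

set_option linter.style.haveILetI false
set_option autoImplicit false
set_option linter.unusedVariables false
set_option linter.unusedSectionVars false
set_option maxHeartbeats 800000

universe u

open CategoryTheory CategoryTheory.Limits AlgebraicGeometry TopologicalSpace Opposite RelSpec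

noncomputable section

namespace Groth.Agent.Lib.PurSch

/-- depth of a regular local ring of dimension `≥ 2` is `≥ 2` -/
theorem two_le_depth_of_regular (A : Type u) [CommRing A] [IsRegularLocalRing A]
    (h : (2 : WithBot ℕ∞) ≤ ringKrullDim A) : (2 : ℕ∞) ≤ LocCoh.depth A A := by
  obtain ⟨d, hdim⟩ := Groth.Agent.GlDim.exists_dim A
  have h1 : LocCoh.depth A A = d := Groth.Agent.ExtTop.regular_depth A d hdim
  rw [h1]
  rw [hdim] at h
  exact_mod_cast h

variable {X : Scheme.{u}} [IsLocallyNoetherian X] (U : X.Opens)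
  (hreg : ∀ x : X, x ∉ U → IsRegularLocalRing (X.presheaf.stalk x) ∧
    (2 : WithBot ℕ∞) ≤ ringKrullDim (X.presheaf.stalk x))

include hreg

theorem depth_hyp : ∀ x : X, x ∉ U →
    (2 : ℕ∞) ≤ LocCoh.depth (X.presheaf.stalk x) (X.presheaf.stalk x) := by
  intro x hx
  obtain ⟨h1, h2⟩ := hreg x hx
  exact two_le_depth_of_regular _ h2

/-- **Purity**: every finite étale cover of `U` extends to `X` when the complement of `U` consists
of regular points of dimension `≥ 2`. -/
theorem essSurj_restrict : (FEt.restrict U.ι).EssSurj := by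
  refine ⟨fun V => ?_⟩
  have hU : ∀ x : X, x ∉ U.ι.opensRange →
      (2 : ℕ∞) ≤ LocCoh.depth (X.presheaf.stalk x) (X.presheaf.stalk x) := by
    intro x hx
    rw [Scheme.Opens.opensRange_ι] at hx
    exact depth_hyp U hreg x hx
  have hreg' : ∀ x : X, x ∉ U.ι.opensRange → IsRegularLocalRing (X.presheaf.stalk x) ∧
      (2 : WithBot ℕ∞) ≤ ringKrullDim (X.presheaf.stalk x) := by
    intro x hx
    rw [Scheme.Opens.opensRange_ι] at hx
    exact hreg x hx
  let π₀ : V.left ⟶ (U : Scheme.{u}) := V.hom
  haveI : IsFinite π₀ := V.prop.1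
  haveI : Etale π₀ := V.prop.2
  have hι : ∀ W : X.Opens, IsAffineOpen W → Function.Surjective (U.ι.app W).hom := by
    intro W _
    haveI := Groth.Agent.Lib.PurDesc.isIso_app_of_depth U.ι hU W
    exact ((ConcreteCategory.isIso_iff_bijective (U.ι.app W)).mp inferInstance).2
  have hfin := Groth.Agent.Lib.PurExt.isFinite_π U.ι π₀ hι
  have het := etale_ext U.ι π₀ hfin hreg'
  obtain ⟨k, Hk⟩ := Groth.Agent.Lib.PurExt.exists_isPullback_ext U.ι π₀
  refine ⟨MorphismProperty.Over.mk ⊤ (Groth.Agent.Lib.PurExt.extAlg U.ι π₀).π ⟨hfin, het⟩, ⟨?_⟩⟩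
  refine MorphismProperty.Over.isoMk Hk.isoPullback.symm ?_
  exact Hk.isoPullback_inv_snd

/-- **Purity**: restriction of finite étale covers is an equivalence. -/
theorem isEquivalence_restrict : (FEt.restrict U.ι).IsEquivalence := by
  obtain ⟨hfull, hfaith⟩ := Groth.Agent.Lib.FEtRestrictFFH4.main U (depth_hyp U hreg)
  haveI := essSurj_restrict U hreg
  exact { faithful := hfaith, full := hfull, essSurj := inferInstance }

end Groth.Agent.Lib.PurSch
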