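import Mathlib
import Groth.Prelude.Def_FlatCA

/-!
# Projective modules are universally pure (lead)

For `B` of finite type over `A` and `N` a finite `B`-module which is projective over `A`, there is no
impurity of `N` over any base change.  The proof is the content-ideal argument: the coordinates of an
element (with respect to a dual basis of the projective module) generate a finitely generated ideal,
and a Cayley–Hamilton form of Nakayama's lemma gives the contradiction.
-/

set_option autoImplicit false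
set_option linter.unusedSimpArgs false
set_option linter.unusedVariables false
set_option linter.unusedSectionVars false
set_option linter.style.longLine false
set_option linter.style.haveILetI false
set_option linter.unnecessarySimpa false
set_option maxHeartbeats 1600000

namespace Groth.Agent.Lib.Pure9005

open TensorProduct

universe u

/-- Cayley–Hamilton form of Nakayama's lemma. -/
theorem exists_eval_smul_eq_zero {R M : Type u} [CommRing R] [AddCommGroup M] [Module R M]
    (N : Submodule R M) (hN : N.FG) (J : Ideal R) (d : R) (h : ∀ n ∈ N, d • n ∈ J • N) :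
    ∃ r : R, (∃ m : ℕ, r - d ^ m ∈ J) ∧ ∀ n ∈ N, r • n = 0 := by
  haveI : Module.Finite R N := Module.Finite.iff_fg.mpr hN
  have hf : LinearMap.range (algebraMap R (Module.End R N) d) ≤ J • (⊤ : Submodule R N) := by
    rintro _ ⟨n, rfl⟩
    have h1 : d • (n : M) ∈ J • N := h n n.2
    have h2 : (J • (⊤ : Submodule R N)).map N.subtype = J • N := by
      rw [Submodule.map_smul'', Submodule.map_top, Submodule.range_subtype]
    rw [← h2] at h1
    obtain ⟨y, hy, hyeq⟩ := h1
    have hyn : y = (algebraMap R (Module.End R N) d) n := by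
      apply Subtype.ext
      rw [Module.algebraMap_end_apply]
      exact hyeq
    rw [← hyn]
    exact hy
  obtain ⟨p, hmonic, -, hcoeff, hp⟩ :=
    LinearMap.exists_monic_and_natDegree_eq_and_coeff_mem_pow_and_aeval_eq_zero R _ J hf
  refine ⟨p.eval d, ⟨p.natDegree, ?_⟩, ?_⟩
  · rw [Polynomial.eval_eq_sum_range, Finset.sum_range_succ, hmonic.coeff_natDegree, one_mul,
      add_sub_cancel_right]
    refine Ideal.sum_mem _ fun k hk => ?_
    have hk' : k < p.natDegree := Finset.mem_range.mp hk
    exact Ideal.mul_mem_right _ _ (Ideal.pow_le_self (by omega) (hcoeff k))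
  · intro n hn
    rw [Polynomial.aeval_algebraMap_apply_eq_algebraMap_eval] at hp
    have h3 := congrArg (fun g => g ⟨n, hn⟩) hp
    simp only [Module.algebraMap_end_apply, LinearMap.zero_apply] at h3
    exact congrArg Subtype.val h3

theorem le_of_mul_mem_sup {R : Type u} [CommRing R] (t' t : Ideal R) [t'.IsPrime] [t.IsPrime]
    (hle : t' ≤ t) (I : Ideal R) (hI : I.FG) (d : R) (hd : d ∉ t)
    (h : ∀ i ∈ I, d * i ∈ t' ⊔ t * I) : I ≤ t' := by
  have key : ∀ n ∈ Submodule.map (Submodule.mkQ t') I, d • n ∈ t • Submodule.map (Submodule.mkQ t') I := by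
    rintro _ ⟨i, hi, rfl⟩
    obtain ⟨u, hu, w, hw, huw⟩ := Submodule.mem_sup.mp (h i hi)
    have h5 : d • (Submodule.mkQ t') i = (Submodule.mkQ t') w := by
      rw [← map_smul, smul_eq_mul, ← huw, map_add]
      have h6 : (Submodule.mkQ t') u = 0 := (Submodule.Quotient.mk_eq_zero _).mpr hu
      rw [h6, zero_add]
    rw [h5, ← Submodule.map_smul'']
    exact Submodule.mem_map_of_mem hw
  obtain ⟨r, ⟨m, hr⟩, hr0⟩ := exists_eval_smul_eq_zero (Submodule.map (Submodule.mkQ t') I)
    (Submodule.FG.map (Submodule.mkQ t') hI) t d key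
  intro i hi
  have h1 : r • (Submodule.mkQ t') i = 0 := hr0 _ (Submodule.mem_map_of_mem hi)
  have h2 : r * i ∈ t' := by
    rw [← map_smul, smul_eq_mul] at h1
    exact (Submodule.Quotient.mk_eq_zero _).mp h1
  rcases Ideal.IsPrime.mem_or_mem inferInstance h2 with h3 | h3
  · exfalso
    have h4 : d ^ m ∈ t := by
      have h7 := t.sub_mem (hle h3) hr
      simpa using h7
    exact hd (Ideal.IsPrime.mem_of_pow_mem inferInstance m h4)
  · exact h3

attribute [local instance] Algebra.TensorProduct.rightAlgebra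

section core

variable {A' B' N' : Type u} [CommRing A'] [CommRing B'] [Algebra A' B'] [AddCommGroup N']
  [Module B' N'] [Module A' N'] [IsScalarTower A' B' N'] (t' : Ideal A') [t'.IsPrime]

theorem exists_smul_eq_one_tmul (w : t'.ResidueField ⊗[A'] N') :
    ∃ d ∉ t', ∃ x : N', (algebraMap A' t'.ResidueField d) • w = (1 : t'.ResidueField) ⊗ₜ[A'] x := by
  induction w using TensorProduct.induction_on with
  | zero =>
    exact ⟨1, fun h => (Ideal.IsPrime.ne_top inferInstance) ((Ideal.eq_top_iff_one _).mpr h), 0,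
      by simp⟩
  | tmul k n =>
    obtain ⟨l, rfl⟩ := IsLocalRing.residue_surjective k
    obtain ⟨⟨a, d⟩, rfl⟩ := IsLocalization.mk'_surjective t'.primeCompl l
    refine ⟨d, d.2, a • n, ?_⟩
    have hk : algebraMap A' t'.ResidueField d *
        IsLocalRing.residue _ (IsLocalization.mk' (Localization.AtPrime t') a d) =
        algebraMap A' t'.ResidueField a := by
      rw [IsScalarTower.algebraMap_apply A' (Localization.AtPrime t') t'.ResidueField,
        IsScalarTower.algebraMap_apply A' (Localization.AtPrime t') t'.ResidueField a,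
        IsLocalRing.ResidueField.algebraMap_eq, ← map_mul, mul_comm, IsLocalization.mk'_spec]
    rw [TensorProduct.smul_tmul', smul_eq_mul, hk, Algebra.algebraMap_eq_smul_one,
      TensorProduct.smul_tmul]
  | add w1 w2 h1 h2 =>
    obtain ⟨d1, hd1, x1, e1⟩ := h1
    obtain ⟨d2, hd2, x2, e2⟩ := h2
    refine ⟨d1 * d2, fun h => (Ideal.IsPrime.mem_or_mem inferInstance h).elim hd1 hd2,
      d2 • x1 + d1 • x2, ?_⟩
    have a1 : (algebraMap A' t'.ResidueField d1 * algebraMap A' t'.ResidueField d2) • w1 =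
        (1 : t'.ResidueField) ⊗ₜ[A'] (d2 • x1) := by
      rw [mul_comm, mul_smul, e1, TensorProduct.smul_tmul', smul_eq_mul, mul_one,
        Algebra.algebraMap_eq_smul_one, TensorProduct.smul_tmul]
    have a2 : (algebraMap A' t'.ResidueField d1 * algebraMap A' t'.ResidueField d2) • w2 =
        (1 : t'.ResidueField) ⊗ₜ[A'] (d1 • x2) := by
      rw [mul_smul, e2, TensorProduct.smul_tmul', smul_eq_mul, mul_one,
        Algebra.algebraMap_eq_smul_one, TensorProduct.smul_tmul]
    rw [map_mul, smul_add, TensorProduct.tmul_add, a1, a2]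

theorem coord_mem_of_tmul_eq_zero (c : N' →ₗ[A'] A') (y : N')
    (h : (1 : t'.ResidueField) ⊗ₜ[A'] y = 0) : c y ∈ t' := by
  have h1 := congrArg (fun w => TensorProduct.rid A' t'.ResidueField
    (LinearMap.lTensor t'.ResidueField c w)) h
  simp only [LinearMap.lTensor_tmul, TensorProduct.rid_tmul, map_zero] at h1
  rw [← Algebra.algebraMap_eq_smul_one, Ideal.algebraMap_residueField_eq_zero] at h1
  exact h1

theorem eq_sum_coords (s : N' →ₗ[A'] (N' →₀ A'))
    (hs : Finsupp.linearCombination A' id ∘ₗ s = LinearMap.id) (x : N') :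
    x = (s x).sum fun j a => a • j := by
  have h := LinearMap.congr_fun hs x
  simp only [LinearMap.comp_apply, Finsupp.linearCombination_apply, LinearMap.id_apply, id] at h
  exact h.symm

theorem tmul_eq_zero_of_coords (s : N' →ₗ[A'] (N' →₀ A'))
    (hs : Finsupp.linearCombination A' id ∘ₗ s = LinearMap.id) (x : N')
    (h : ∀ j, s x j ∈ t') : (1 : t'.ResidueField) ⊗ₜ[A'] x = 0 := by
  rw [eq_sum_coords s hs x, Finsupp.sum, TensorProduct.tmul_sum]
  refine Finset.sum_eq_zero fun j _ => ?_
  rw [← TensorProduct.smul_tmul, ← Algebra.algebraMap_eq_smul_one,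
    Ideal.algebraMap_residueField_eq_zero.mpr (h j), TensorProduct.zero_tmul]

theorem coord_mem (s : N' →ₗ[A'] (N' →₀ A')) (J : Ideal A') (y : N')
    (hy : y ∈ J • (⊤ : Submodule A' N')) (j : N') : s y j ∈ J := by
  refine Submodule.smul_induction_on hy (fun r hr n _ => ?_) (fun y1 y2 h1 h2 => ?_)
  · rw [map_smul, Finsupp.smul_apply, smul_eq_mul]
    exact J.mul_mem_right _ hr
  · rw [map_add, Finsupp.add_apply]
    exact J.add_mem h1 h2

theorem smul_mem_smul_top (J : Ideal A') (b : B') (y : N')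
    (hy : y ∈ J • (⊤ : Submodule A' N')) : b • y ∈ J • (⊤ : Submodule A' N') := by
  refine Submodule.smul_induction_on hy (fun r hr n _ => ?_) (fun y1 y2 h1 h2 => ?_)
  · rw [smul_comm]
    exact Submodule.smul_mem_smul hr Submodule.mem_top
  · rw [smul_add]
    exact Submodule.add_mem _ h1 h2

theorem smul_mem_of_mem_map (t J : Ideal A') (z : B') (hz : z ∈ t.map (algebraMap A' B'))
    (y : N') (hy : y ∈ J • (⊤ : Submodule A' N')) :
    z • y ∈ (t * J) • (⊤ : Submodule A' N') := by
  have hz2 : z ∈ Submodule.span B' (algebraMap A' B' '' (t : Set A')) := hz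
  clear hz
  induction hz2 using Submodule.span_induction generalizing y with
  | mem z hz3 =>
    obtain ⟨a, ha, rfl⟩ := hz3
    rw [algebraMap_smul, Submodule.mul_smul]
    exact Submodule.smul_mem_smul ha hy
  | zero => rw [zero_smul]; exact Submodule.zero_mem _
  | add z1 z2 _ _ h1 h2 => rw [add_smul]; exact Submodule.add_mem _ (h1 y hy) (h2 y hy)
  | smul b z1 _ h1 =>
    rw [smul_eq_mul, mul_smul b z1 y]
    exact smul_mem_smul_top (t * J) b (z1 • y) (h1 y hy)

theorem core_algebra (s : N' →ₗ[A'] (N' →₀ A'))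
    (hs : Finsupp.linearCombination A' id ∘ₗ s = LinearMap.id) (t : Ideal A') [t.IsPrime]
    (hle : t' ≤ t) (P : Ideal B') (x : N') (I : Ideal A') (hIfg : I.FG)
    (hcI : ∀ j, s x j ∈ I) (hgen : ∀ J : Ideal A', (∀ j, s x j ∈ J) → I ≤ J)
    (ha : ¬ ∀ j, s x j ∈ t')
    (hb : ∀ π ∈ P, ∃ k : ℕ, ∀ j, s (π ^ k • x) j ∈ t')
    (d : A') (hd : d ∉ t) (hdP : algebraMap A' B' d ∈ P ⊔ t.map (algebraMap A' B')) : False := by
  obtain ⟨π, hπ, z, hz, hsum⟩ := Submodule.mem_sup.mp hdP
  obtain ⟨k, hk⟩ := hb π hπ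
  have hxI : x ∈ I • (⊤ : Submodule A' N') := by
    have h := Submodule.sum_mem (I • (⊤ : Submodule A' N')) (t := (s x).support)
      (f := fun j => s x j • j) (fun j _ => Submodule.smul_mem_smul (hcI j) Submodule.mem_top)
    have hx := eq_sum_coords s hs x
    rw [Finsupp.sum] at hx
    rw [hx]
    exact h
  have hz' : (algebraMap A' B' d) ^ k - π ^ k ∈ t.map (algebraMap A' B') := by
    refine Ideal.Quotient.eq.mp ?_
    rw [map_pow, map_pow]
    congr 1
    rw [← hsum, map_add, Ideal.Quotient.eq_zero_iff_mem.mpr hz, add_zero]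
  have hkey : ∀ j, d ^ k * s x j ∈ t' ⊔ t * I := by
    intro j
    have h1 : (d ^ k) • x = π ^ k • x + ((algebraMap A' B' d) ^ k - π ^ k) • x := by
      rw [← add_smul, add_sub_cancel, ← map_pow, algebraMap_smul]
    have h2 : s ((d ^ k) • x) j = d ^ k * s x j := by
      rw [map_smul, Finsupp.smul_apply, smul_eq_mul]
    rw [← h2, h1, map_add, Finsupp.add_apply]
    exact Submodule.add_mem_sup (hk j)
      (coord_mem s _ _ (smul_mem_of_mem_map t I _ hz' x hxI) j)
  have hIle : I ≤ t' := by
    refine le_of_mul_mem_sup t' t hle I hIfg (d ^ k)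
      (fun h => hd (Ideal.IsPrime.mem_of_pow_mem inferInstance k h)) ?_
    have h1 : I ≤ Submodule.colon (t' ⊔ t * I) {d ^ k} := hgen _ (fun j => by
      rw [Submodule.mem_colon_singleton, smul_eq_mul, mul_comm (s x j) (d ^ k)]
      exact hkey j)
    intro i hi
    have h2 := h1 hi
    rw [Submodule.mem_colon_singleton, smul_eq_mul, mul_comm i (d ^ k)] at h2
    exact h2
  exact ha fun j => hIle (hcI j)

theorem fiber_step (P : Ideal B') (s : N' →ₗ[A'] (N' →₀ A'))
    (hs : Finsupp.linearCombination A' id ∘ₗ s = LinearMap.id)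
    (v : (t'.Fiber B') ⊗[B'] N')
    (hv : FlatCA.fiberIdeal t' P = (Submodule.colon
      (⊥ : Submodule (t'.Fiber B') ((t'.Fiber B') ⊗[B'] N')) {v}).radical)
    (hne : FlatCA.fiberIdeal t' P ≠ ⊤) :
    ∃ x : N', (¬ ∀ j, s x j ∈ t') ∧ ∀ π ∈ P, ∃ k : ℕ, ∀ j, s (π ^ k • x) j ∈ t' := by
  have hv0 : v ≠ 0 := by
    rintro rfl
    apply hne
    rw [hv, Ideal.eq_top_iff_one]
    apply Ideal.le_radical
    rw [Submodule.mem_colon_singleton]
    simp
  obtain ⟨d, hd, x, hdx⟩ := exists_smul_eq_one_tmul t'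
    (Algebra.IsPushout.cancelBaseChange A' t'.ResidueField B' (t'.Fiber B') N' v)
  have hτ : (algebraMap A' t'.ResidueField d) • v = (1 : t'.Fiber B') ⊗ₜ[B'] x := by
    apply (Algebra.IsPushout.cancelBaseChange A' t'.ResidueField B' (t'.Fiber B') N').injective
    rw [map_smul, hdx, Algebra.IsPushout.cancelBaseChange_tmul]
  have hdne : algebraMap A' t'.ResidueField d ≠ 0 :=
    fun h => hd (Ideal.algebraMap_residueField_eq_zero.mp h)
  refine ⟨x, ?_, ?_⟩
  · intro hall
    have h0 : (1 : t'.ResidueField) ⊗ₜ[A'] x = 0 := tmul_eq_zero_of_coords t' s hs x hall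
    have h1 : (1 : t'.Fiber B') ⊗ₜ[B'] x = 0 := by
      apply (Algebra.IsPushout.cancelBaseChange A' t'.ResidueField B' (t'.Fiber B') N').injective
      rw [Algebra.IsPushout.cancelBaseChange_tmul, h0, map_zero]
    rw [h1] at hτ
    apply hv0
    have h2 := congrArg (fun y => (algebraMap A' t'.ResidueField d)⁻¹ • y) hτ
    simp only [smul_smul, inv_mul_cancel₀ hdne, one_smul, smul_zero] at h2
    exact h2
  · intro π hπ
    have hmem : (1 : t'.ResidueField) ⊗ₜ[A'] π ∈ FlatCA.fiberIdeal t' P :=
      Ideal.mem_map_of_mem _ hπ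
    rw [hv] at hmem
    obtain ⟨k, hk⟩ := hmem
    rw [Submodule.mem_colon_singleton, Submodule.mem_bot] at hk
    refine ⟨k, fun j => coord_mem_of_tmul_eq_zero t' (Finsupp.lapply j ∘ₗ s) _ ?_⟩
    have h2 : (1 : t'.Fiber B') ⊗ₜ[B'] (π ^ k • x) = 0 := by
      have h3 : ((1 : t'.ResidueField) ⊗ₜ[A'] π) ^ k • ((1 : t'.Fiber B') ⊗ₜ[B'] x) = 0 := by
        rw [← hτ, smul_comm, hk, smul_zero]
      rw [TensorProduct.smul_tmul', smul_eq_mul, mul_one, Algebra.TensorProduct.tmul_pow,
        one_pow] at h3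
      rw [← TensorProduct.smul_tmul, Algebra.smul_def, mul_one]
      exact h3
    have h4 := congrArg
      (Algebra.IsPushout.cancelBaseChange A' t'.ResidueField B' (t'.Fiber B') N') h2
    rw [Algebra.IsPushout.cancelBaseChange_tmul, map_zero] at h4
    exact h4

end core

theorem main9005 {A B : Type u} [CommRing A] [CommRing B] [Algebra A B] [Algebra.FiniteType A B] (N : Type u) [AddCommGroup N] [Module B N] [Module A N] [IsScalarTower A B N] [Module.Finite B N] [Module.Projective A N] : FlatCA.IsUnivPure A B N := by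
  intro p _ A' B' N' _ _ _ _ _ _ _ _ _ _ _ _ _ _ f t' t _ _ P _ himp
  obtain ⟨hpo, hbc, hle, hto, hPo, hass, hcl⟩ := himp
  haveI := hpo
  haveI : Algebra.IsPushout A A' B B' := Algebra.IsPushout.symm hpo
  let e1 : N' ≃ₗ[A'] A' ⊗[A] N := (hbc.equiv.symm.restrictScalars A') ≪≫ₗ
    (Algebra.IsPushout.cancelBaseChange A A' B B' N)
  haveI : Module.Projective A' N' := Module.Projective.of_equiv e1.symm
  obtain ⟨s, hs⟩ := (Module.projective_def' (R := A') (P := N')).mp inferInstance
  obtain ⟨d, hd, hdP⟩ : ∃ d ∉ t, algebraMap A' B' d ∈ P ⊔ t.map (algebraMap A' B') := by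
    by_contra hno
    push_neg at hno
    have hdisj : Disjoint ((P ⊔ t.map (algebraMap A' B') : Ideal B') : Set B')
        (Algebra.algebraMapSubmonoid B' t.primeCompl : Set B') :=
      Set.disjoint_left.mpr (fun y hy ⟨d, hd, hdy⟩ => hno d hd (hdy ▸ hy))
    obtain ⟨P', hP'prime, hle', hdisj'⟩ := Ideal.exists_le_prime_disjoint _ _ hdisj
    haveI := hP'prime
    refine hcl P' (le_sup_left.trans hle') ⟨?_⟩
    ext a
    rw [Ideal.under_def, Ideal.mem_comap]
    constructor
    · intro ha
      exact hle' (Ideal.mem_sup_right (Ideal.mem_map_of_mem _ ha))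
    · intro ha
      by_contra hat
      exact Set.disjoint_left.mp hdisj' ha ⟨a, hat, rfl⟩
  obtain ⟨hprime, v, hv⟩ := hass
  obtain ⟨x, hxa, hxb⟩ := fiber_step t' P s hs v hv hprime.ne_top
  exact core_algebra t' s hs t hle P x (Ideal.span (Set.range (s x)))
    (Submodule.fg_span (s x).finite_range) (fun j => Ideal.subset_span ⟨j, rfl⟩)
    (fun J hJ => Ideal.span_le.mpr (by rintro _ ⟨j, rfl⟩; exact hJ j)) hxa hxb d hd hdP

end Groth.Agent.Lib.Pure9005
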