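import Mathlib
import Groth.Prelude.Def_FlatCA

/-!
# Universal purity along a fibre is purity of all base changes (lead)
-/

set_option autoImplicit false
set_option linter.unusedSimpArgs false
set_option linter.unusedVariables false
set_option linter.unusedSectionVars false
set_option linter.style.longLine false
set_option linter.style.haveILetI false
set_option linter.unnecessarySimpa false
set_option maxHeartbeats 1600000

namespace Groth.Agent.Lib.Pure9008

open TensorProduct

universe u

theorem isEtaleNhd_refl (A' : Type u) [CommRing A'] (t : Ideal A') [t.IsPrime] :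
    FlatCA.IsEtaleNhd A' A' t t := by
  refine ⟨inferInstance, ⟨by simp [Ideal.under_def]⟩, ?_⟩
  rw! [Algebra.ofId_self, Ideal.ResidueField.mapₐ_id]
  exact Function.bijective_id

theorem main9008 {A B : Type u} [CommRing A] [CommRing B] [Algebra A B] [Algebra.FiniteType A B] (N : Type u) [AddCommGroup N] [Module B N] [Module.Finite B N] (p : Ideal A) [p.IsPrime] : FlatCA.IsUnivPureAlong A B N p ↔ ∀ (A' B' N' : Type u) [CommRing A'] [CommRing B'] [Algebra A A'] [Algebra B B'] [Algebra A' B'] [Algebra A B'] [IsScalarTower A B B'] [IsScalarTower A A' B'] [Algebra.IsPushout A B A' B'] [AddCommGroup N'] [Module B' N'] [Module B N'] [IsScalarTower B B' N'] (g : N →ₗ[B] N'), IsBaseChange B' g → ∀ (p' : Ideal A') [p'.IsPrime], p'.LiesOver p → FlatCA.IsPureAlong A' B' N' p' := by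
  constructor
  · intro H A' B' N' _ _ _ _ _ _ _ _ _ _ _ _ _ g hg p' _ hp'
    intro A'' B'' N'' _ _ _ _ _ _ _ _ _ _ _ _ _ _ f' t' t _ _ P _ hEt himp
    letI : Algebra A A'' := ((algebraMap A' A'').comp (algebraMap A A')).toAlgebra
    haveI : IsScalarTower A A' A'' := IsScalarTower.of_algebraMap_eq fun x => rfl
    letI : Algebra B B'' := ((algebraMap B' B'').comp (algebraMap B B')).toAlgebra
    haveI : IsScalarTower B B' B'' := IsScalarTower.of_algebraMap_eq fun x => rfl
    letI : Algebra A B'' := ((algebraMap A'' B'').comp (algebraMap A A'')).toAlgebra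
    haveI : IsScalarTower A A'' B'' := IsScalarTower.of_algebraMap_eq fun x => rfl
    haveI : IsScalarTower A B' B'' := IsScalarTower.of_algebraMap_eq fun x => by
      show algebraMap A'' B'' (algebraMap A' A'' (algebraMap A A' x)) =
        algebraMap B' B'' (algebraMap A B' x)
      rw [← IsScalarTower.algebraMap_apply A' A'' B'', IsScalarTower.algebraMap_apply A' B' B'',
        ← IsScalarTower.algebraMap_apply A A' B']
    haveI : IsScalarTower A B B'' := IsScalarTower.of_algebraMap_eq fun x => by
      rw [IsScalarTower.algebraMap_apply A B' B'', IsScalarTower.algebraMap_apply A B B',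
        ← IsScalarTower.algebraMap_apply B B' B'']
    letI : Module B N'' := Module.compHom N'' (algebraMap B B'')
    haveI : IsScalarTower B B'' N'' := ⟨fun b c n => by
      show (b • c) • n = algebraMap B B'' b • c • n
      rw [Algebra.smul_def, mul_smul]⟩
    haveI : IsScalarTower B B' N'' := IsScalarTower.of_algebraMap_smul fun b n => by
      show algebraMap B B' b • n = algebraMap B' B'' (algebraMap B B' b) • n
      rw [algebraMap_smul B'' (algebraMap B B' b) n]
    obtain ⟨hpo', hbc', hle, hto, hPo, hass, hcl⟩ := himp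
    haveI := hpo'
    haveI : Algebra.IsPushout A A' B B' := Algebra.IsPushout.symm inferInstance
    haveI : Algebra.IsPushout A' A'' B' B'' := Algebra.IsPushout.symm hpo'
    have hpo2 : Algebra.IsPushout A A'' B B'' :=
      (Algebra.IsPushout.comp_iff A A' B B' (T := A'') (T' := B'')).mpr inferInstance
    haveI := hp'
    haveI := hto
    refine H A'' B'' N'' ((f'.restrictScalars B).comp g) t' t P
      ⟨Algebra.IsPushout.symm hpo2, IsBaseChange.comp hg hbc', hle, ?_, hPo, hass, hcl⟩
    exact Ideal.LiesOver.trans t p' p
  · intro H A' B' N' _ _ _ _ _ _ _ _ _ _ _ _ _ _ f t' t _ _ P _ himp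
    obtain ⟨hpo, hbc, hle, hto, hPo, hass, hcl⟩ := himp
    haveI := hpo
    have h1 := H A' B' N' f hbc t hto
    refine h1 A' B' N' LinearMap.id t' t P (isEtaleNhd_refl A' t)
      ⟨?_, IsBaseChange.ofEquiv (LinearEquiv.refl B' N'), hle, ⟨by simp [Ideal.under_def]⟩,
        hPo, hass, hcl⟩
    exact ⟨IsBaseChange.linearMap A' B'⟩

end Groth.Agent.Lib.Pure9008
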