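import Mathlib
import Groth.Prelude.Def_SGA2
import Groth.Prelude.Def_FEt
import Groth.Prelude.Def_LefX
import Groth.Agent.Lib.LefConn1_helper5

/-!
# Connectedness from purity (essential surjectivity + fullness of restriction of finite étale covers)
-/

universe u

open AlgebraicGeometry CategoryTheory CategoryTheory.Limits TopologicalSpace

namespace Groth.Agent.Lib.PureConn

/-- An open immersion with closed range is finite étale. -/
theorem prop_of_isOpenImmersion {X Y : Scheme.{u}} (f : X ⟶ Y) [IsOpenImmersion f]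
    (h : IsClosed (Set.range f)) : FEt.prop f := by
  haveI : IsClosedImmersion f := IsClosedImmersion.of_isPreimmersion f h
  exact ⟨inferInstance, inferInstance⟩

/-- A finite étale morphism with nonempty source onto a connected scheme is surjective. -/
theorem surjective_of_prop {E T : Scheme.{u}} (p : E ⟶ T) (hp : FEt.prop p) [Nonempty E]
    [PreconnectedSpace T] : Function.Surjective p := by
  haveI : IsFinite p := hp.1
  haveI : Etale p := hp.2
  have hopen : IsOpen (Set.range p) := p.isOpenMap.isOpen_range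
  have hclosed : IsClosed (Set.range p) := p.isClosedMap.isClosed_range
  have hne : (Set.range p).Nonempty := Set.range_nonempty _
  have := (isClopen_iff.mp ⟨hclosed, hopen⟩).resolve_left hne.ne_empty
  exact Set.range_eq_univ.mp this

/-- If restriction of finite étale covers along `j : W ⟶ T` is essentially surjective and `T` is
preconnected, then so is `W`. -/
theorem preconnected_of_essSurj {W T : Scheme.{u}} (j : W ⟶ T) [PreconnectedSpace T]
    (h : (FEt.restrict j).EssSurj) : PreconnectedSpace W := by
  rw [preconnectedSpace_iff_clopen]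
  intro C hC
  by_cases hne : C = ∅
  · exact Or.inl hne
  right
  let C' : W.Opens := ⟨C, hC.2⟩
  have hr : Set.range C'.ι = C := by
    rw [Scheme.Opens.range_ι]; rfl
  have hprop : FEt.prop C'.ι := prop_of_isOpenImmersion _ (by rw [hr]; exact hC.1)
  let obj : FEt.Cat W := MorphismProperty.Over.mk ⊤ C'.ι hprop
  obtain ⟨E, ⟨e⟩⟩ := h.mem_essImage obj
  have hw : e.hom.left ≫ C'.ι = pullback.snd E.hom j := MorphismProperty.Over.w e.hom
  have hw' : e.inv.left ≫ pullback.snd E.hom j = C'.ι := MorphismProperty.Over.w e.inv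
  obtain ⟨c, hc⟩ := Set.nonempty_iff_ne_empty.mpr hne
  let q : ↥(pullback E.hom j) := e.inv.left (⟨c, hc⟩ : C')
  haveI : Nonempty E.left := ⟨(pullback.fst E.hom j) q⟩
  have hsurj : Function.Surjective E.hom := @surjective_of_prop E.left T E.hom E.prop _ _
  haveI : Surjective E.hom := ⟨hsurj⟩
  have hsurj2 : Function.Surjective (pullback.snd E.hom j) :=
    (inferInstance : Surjective (pullback.snd E.hom j)).surj
  rw [← hr, Set.range_eq_univ]
  intro w
  obtain ⟨z, hz⟩ := hsurj2 w
  let φ : pullback E.hom j ⟶ (C' : Scheme.{u}) := e.hom.left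
  have hφ : φ ≫ C'.ι = pullback.snd E.hom j := hw
  refine ⟨φ z, ?_⟩
  rw [← Scheme.Hom.comp_apply, hφ, hz]

/-- If restriction along `j : W ⟶ T` is full and `T` is nonempty, then `W` is nonempty. -/
theorem nonempty_of_full {W T : Scheme.{u}} (j : W ⟶ T) [Nonempty T]
    (h : (FEt.restrict j).Full) : Nonempty W := by
  by_contra hW
  rw [not_nonempty_iff] at hW
  let E1 : FEt.Cat T := MorphismProperty.Over.mk ⊤ (𝟙 T) ⟨inferInstance, inferInstance⟩
  let E0 : FEt.Cat T := MorphismProperty.Over.mk ⊤ (Scheme.emptyTo T)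
    (prop_of_isOpenImmersion _ (by rw [Set.range_eq_empty]; exact isClosed_empty))
  haveI : IsEmpty ↥(pullback E1.hom j) := Function.isEmpty (pullback.snd E1.hom j)
  let g : (FEt.restrict j).obj E1 ⟶ (FEt.restrict j).obj E0 :=
    MorphismProperty.Over.homMk ((isInitialOfIsEmpty (X := pullback E1.hom j)).to _)
      ((isInitialOfIsEmpty (X := pullback E1.hom j)).hom_ext _ _) trivial
  obtain ⟨f, -⟩ := h.map_surjective g
  have t : T := Classical.arbitrary T
  exact (inferInstance : IsEmpty (∅ : Scheme.{u})).false (f.left t)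

end Groth.Agent.Lib.PureConn

namespace Groth.Agent.Lib.PureConn

/-- The spectrum of a local ring is connected. -/
theorem connectedSpace_spec_of_isLocalRing (A : Type u) [CommRing A] [IsLocalRing A] :
    ConnectedSpace (PrimeSpectrum A) := by
  haveI : Nonempty (PrimeSpectrum A) := ⟨IsLocalRing.closedPoint A⟩
  haveI : PreconnectedSpace (PrimeSpectrum A) := by
    rw [preconnectedSpace_iff_clopen]
    intro C hC
    have key : ∀ D : Set (PrimeSpectrum A), IsClosed D → D.Nonempty →
        IsLocalRing.closedPoint A ∈ D := by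
      rintro D hD ⟨x, hx⟩
      exact (IsLocalRing.specializes_closedPoint x).mem_closed hD hx
    by_contra hcon
    rw [not_or] at hcon
    have h1 := key C hC.1 (Set.nonempty_iff_ne_empty.mpr hcon.1)
    have h2 := key Cᶜ hC.2.isClosed_compl (Set.nonempty_compl.mpr hcon.2)
    exact h2 h1
  exact ConnectedSpace.mk inferInstance

theorem main17790 (A : Type u) [CommRing A] [IsLocalRing A] (I : Ideal A)
    (hpure : SGA2.IsPurePair (Spec (CommRingCat.of A)) (FEt.puncturedSpec A))
    (hlef : Lef.LefCond (↑(FEt.puncturedSpec A) : Scheme.{u})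
      ((Spec.map (CommRingCat.ofHom (Ideal.Quotient.mk I))).ker.comap (FEt.puncturedSpec A).ι)) :
    IsConnected (((Spec.map (CommRingCat.ofHom (Ideal.Quotient.mk I))).ker.support :
      Set ↥(Spec (CommRingCat.of A))) ∩
        (FEt.puncturedSpec A : Set ↥(Spec (CommRingCat.of A)))) := by
  set X := Spec (CommRingCat.of A) with hX
  set U := FEt.puncturedSpec A with hUdef
  set K := (Spec.map (CommRingCat.ofHom (Ideal.Quotient.mk I))).ker with hK
  -- Step 1: `X` is connected
  haveI hXc : ConnectedSpace ↥X := connectedSpace_spec_of_isLocalRing A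
  -- the top open
  haveI hTc : ConnectedSpace ↥((⊤ : X.Opens) : Scheme.{u}) := by
    have : _root_.IsConnected ((⊤ : X.Opens) : Set ↥X) := by
      rw [Opens.coe_top]; exact isConnected_univ
    exact isConnected_iff_connectedSpace.mp this
  have hV := hpure ⊤
  haveI := hV
  haveI hWp : PreconnectedSpace ↥((⊤ ⊓ U : X.Opens) : Scheme.{u}) :=
    preconnected_of_essSurj (X.homOfLE (inf_le_left : ⊤ ⊓ U ≤ ⊤)) inferInstance
  haveI hWn : Nonempty ↥((⊤ ⊓ U : X.Opens) : Scheme.{u}) :=
    nonempty_of_full (X.homOfLE (inf_le_left : ⊤ ⊓ U ≤ ⊤)) inferInstance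
  have hWc : ConnectedSpace ↥((⊤ ⊓ U : X.Opens) : Scheme.{u}) := ConnectedSpace.mk hWn
  have hUc : ConnectedSpace ↥(U : Scheme.{u}) := by
    have e : (⊤ ⊓ U : X.Opens) = U := top_inf_eq U
    rw [e] at hWc
    exact hWc
  -- Step 2: Lefschetz
  have h2 := LefConn.main2946 (U : Scheme.{u}) (K.comap U.ι) hlef ⊤ (fun _ _ => trivial)
  haveI hUtop : ConnectedSpace ↥((⊤ : (U : Scheme.{u}).Opens)) := by
    have : _root_.IsConnected ((⊤ : (U : Scheme.{u}).Opens) : Set ↥(U : Scheme.{u})) := by
      rw [Opens.coe_top]; exact isConnected_univ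
    exact isConnected_iff_connectedSpace.mp this
  have h3 : ConnectedSpace ↥((K.comap U.ι).support : Set ↥(U : Scheme.{u})) := h2.mpr hUtop
  have h4 : _root_.IsConnected ((K.comap U.ι).support : Set ↥(U : Scheme.{u})) :=
    isConnected_iff_connectedSpace.mpr h3
  have h5 := h4.image U.ι U.ι.continuous.continuousOn
  have h6 : U.ι '' ((K.comap U.ι).support : Set ↥(U : Scheme.{u})) =
      (K.support : Set ↥X) ∩ (U : Set ↥X) := by
    rw [Scheme.IdealSheafData.support_comap]
    show U.ι '' (U.ι ⁻¹' (K.support : Set X)) = _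
    rw [Set.image_preimage_eq_inter_range, Scheme.Opens.range_ι]
  rw [← h6]
  exact h5

end Groth.Agent.Lib.PureConn
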