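import Mathlib

/-!
# Descent of flatness along universally injective ring maps (helper9) – S0274, S0279.
-/

set_option autoImplicit false
universe u
open TensorProduct

namespace PureDescent9

variable {R S : Type u} [CommRing R] [CommRing S] [Algebra R S]

/-- Purity in the form we use: if `1 ⊗ p = 0` in `S ⊗ P` then `p = 0`. -/
theorem eq_zero_of_one_tmul_eq_zero
    (h : ∀ (P : Type u) [AddCommGroup P] [Module R P],
      Function.Injective (LinearMap.lTensor P (Algebra.linearMap R S)))
    {P : Type u} [AddCommGroup P] [Module R P] (p : P)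
    (hp : (1 : S) ⊗ₜ[R] p = 0) : p = 0 := by
  have h1 : (LinearMap.lTensor P (Algebra.linearMap R S)) (p ⊗ₜ[R] (1 : R)) = 0 := by
    rw [LinearMap.lTensor_tmul, Algebra.linearMap_apply, map_one]
    have := congrArg (TensorProduct.comm R S P) hp
    simpa using this
  have h2 : p ⊗ₜ[R] (1 : R) = 0 := h P (by rw [h1, map_zero])
  have := congrArg (TensorProduct.rid R P) h2
  simpa using this

/-- Core step: if `M = F / ker π` has flat base change and `Σ fᵢ xtᵢ ∈ ker π` then
`Σ fᵢ xtᵢ = Σ fᵢ κᵢ` for some `κᵢ ∈ ker π`. -/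
theorem core
    (h : ∀ (P : Type u) [AddCommGroup P] [Module R P],
      Function.Injective (LinearMap.lTensor P (Algebra.linearMap R S)))
    {M F : Type u} [AddCommGroup M] [Module R M] [Module.Flat S (S ⊗[R] M)]
    [AddCommGroup F] [Module R F] (π : F →ₗ[R] M) (hπ : Function.Surjective π)
    {l : ℕ} (f : Fin l → R) (xt : Fin l → F) (hfx : ∑ i, f i • π (xt i) = 0) :
    ∃ κ : Fin l → LinearMap.ker π, ∑ i, f i • xt i = ∑ i, f i • (κ i : F) := by
  classical
  -- the submodule N = Σ f_i K
  let φ : (Fin l → LinearMap.ker π) →ₗ[R] F :=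
    ∑ i, f i • ((LinearMap.ker π).subtype ∘ₗ LinearMap.proj i)
  have hφ : ∀ κ : Fin l → LinearMap.ker π, φ κ = ∑ i, f i • (κ i : F) := by
    intro κ; simp [φ, LinearMap.sum_apply]
  have hfN : ∀ (i : Fin l) (κ : LinearMap.ker π), f i • (κ : F) ∈ LinearMap.range φ := by
    intro i κ
    refine ⟨Pi.single i κ, ?_⟩
    rw [hφ, Finset.sum_eq_single i]
    · simp
    · intro j _ hji; simp [Pi.single_eq_of_ne hji]
    · intro hi; exact absurd (Finset.mem_univ i) hi
  -- key: k ∈ N
  have hkN : ∑ i, f i • xt i ∈ LinearMap.range φ := by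
    rw [← Submodule.Quotient.mk_eq_zero]
    apply eq_zero_of_one_tmul_eq_zero h
    -- `S`-flatness gives a trivial relation
    have hrelS : ∑ i, (algebraMap R S (f i)) • ((1 : S) ⊗ₜ[R] π (xt i) : S ⊗[R] M) = 0 := by
      simp only [algebraMap_smul, ← TensorProduct.tmul_smul, ← TensorProduct.tmul_sum, hfx,
        TensorProduct.tmul_zero]
    obtain ⟨n, a, y, hxy, hfa⟩ :=
      Module.Flat.isTrivialRelation_of_sum_smul_eq_zero (R := S) hrelS
    replace hxy : ∀ i, (1 : S) ⊗ₜ[R] π (xt i) = ∑ j, a i j • y j := hxy
    replace hfa : ∀ j, ∑ i, algebraMap R S (f i) * a i j = 0 := hfa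
    have hπS : Function.Surjective (π.baseChange S) := by
      rw [LinearMap.baseChange_eq_ltensor]
      exact LinearMap.lTensor_surjective S hπ
    choose yt hyt using fun j => hπS (y j)
    let k' : Fin l → S ⊗[R] F := fun i => (1 : S) ⊗ₜ[R] xt i - ∑ j, a i j • yt j
    have hk' : ∀ i, π.baseChange S (k' i) = 0 := by
      intro i
      simp only [k', map_sub, map_sum, map_smul, LinearMap.baseChange_tmul, hyt]
      rw [hxy i]; exact sub_self _
    have hex : Function.Exact (LinearMap.lTensor S (LinearMap.ker π).subtype)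
        (LinearMap.lTensor S π) :=
      lTensor_exact S (LinearMap.exact_subtype_ker_map π) hπ
    have hw : ∀ i, ∃ w : S ⊗[R] (LinearMap.ker π),
        LinearMap.lTensor S (LinearMap.ker π).subtype w = k' i := fun i =>
      (hex (k' i)).mp (by
        have := hk' i
        rwa [← LinearMap.baseChange_eq_ltensor])
    choose w hw using hw
    have hsum : ∑ i, (algebraMap R S (f i)) • k' i = (1 : S) ⊗ₜ[R] (∑ i, f i • xt i) := by
      simp only [k', smul_sub, Finset.sum_sub_distrib, Finset.smul_sum, smul_smul]
      rw [Finset.sum_comm]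
      have h0 : ∀ j, ∑ i, (algebraMap R S (f i) * a i j) • yt j = 0 := fun j => by
        rw [← Finset.sum_smul, hfa j, zero_smul]
      simp only [h0, Finset.sum_const_zero, sub_zero]
      simp only [algebraMap_smul, ← TensorProduct.tmul_smul, ← TensorProduct.tmul_sum]
    have hψ : ∀ i, f i • ((LinearMap.range φ).mkQ ∘ₗ (LinearMap.ker π).subtype) = 0 := by
      intro i
      ext κ
      simp only [LinearMap.smul_apply, LinearMap.comp_apply, Submodule.subtype_apply,
        LinearMap.zero_apply, ← map_smul]
      exact (Submodule.Quotient.mk_eq_zero _).mpr (hfN i κ)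
    have hterm : ∀ i, (LinearMap.lTensor S (LinearMap.range φ).mkQ)
        ((algebraMap R S (f i)) • k' i) = 0 := by
      intro i
      rw [algebraMap_smul, map_smul, ← hw i, ← LinearMap.comp_apply, ← LinearMap.lTensor_comp,
        ← LinearMap.smul_apply, ← LinearMap.lTensor_smul, hψ i, LinearMap.lTensor_zero,
        LinearMap.zero_apply]
    have : (1 : S) ⊗ₜ[R] ((LinearMap.range φ).mkQ (∑ i, f i • xt i)) =
        (LinearMap.lTensor S (LinearMap.range φ).mkQ) ((1 : S) ⊗ₜ[R] (∑ i, f i • xt i)) := by
      rw [LinearMap.lTensor_tmul]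
    change (1 : S) ⊗ₜ[R] ((LinearMap.range φ).mkQ (∑ i, f i • xt i)) = 0
    rw [this, ← hsum, map_sum]
    exact Finset.sum_eq_zero fun i _ => hterm i
  obtain ⟨κ, hκ⟩ := hkN
  exact ⟨κ, by rw [← hκ, hφ]⟩

/-- Flatness descends along universally injective ring maps. -/
theorem flat_of_flat_baseChange
    (h : ∀ (P : Type u) [AddCommGroup P] [Module R P],
      Function.Injective (LinearMap.lTensor P (Algebra.linearMap R S)))
    (M : Type u) [AddCommGroup M] [Module R M] [Module.Flat S (S ⊗[R] M)] :
    Module.Flat R M := by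
  classical
  apply Module.Flat.of_forall_isTrivialRelation
  intro l f x hfx
  -- free cover
  have hπ : Function.Surjective (Finsupp.linearCombination R (id : M → M)) :=
    fun m => ⟨Finsupp.single m 1, by simp⟩
  have hxt : ∀ i, (Finsupp.linearCombination R (id : M → M)) (Finsupp.single (x i) 1) = x i :=
    fun i => by simp
  obtain ⟨κ, hκ⟩ := core h (Finsupp.linearCombination R (id : M → M)) hπ f
    (fun i => Finsupp.single (x i) 1) (by simp only [hxt]; exact hfx)
  have hrel : ∑ i, f i • ((Finsupp.single (x i) 1 : M →₀ R) - (κ i : M →₀ R)) = 0 := by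
    simp only [smul_sub, Finset.sum_sub_distrib]
    rw [hκ]; exact sub_self _
  obtain ⟨n, a, y, hxy, hfa⟩ := Module.Flat.isTrivialRelation_of_sum_smul_eq_zero hrel
  refine ⟨n, a, fun j => (Finsupp.linearCombination R (id : M → M)) (y j), fun i => ?_, hfa⟩
  have := congrArg (Finsupp.linearCombination R (id : M → M)) (hxy i)
  rw [map_sub, hxt, (LinearMap.mem_ker.mp (κ i).2), sub_zero] at this
  rw [this, map_sum]
  simp [map_smul]

/-- Étale algebras descend along universally injective ring maps, given descent of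
finite presentation. -/
theorem etale_of_etale_baseChange
    (h : ∀ (P : Type u) [AddCommGroup P] [Module R P],
      Function.Injective (LinearMap.lTensor P (Algebra.linearMap R S)))
    (A : Type u) [CommRing A] [Algebra R A] [Algebra.Etale S (S ⊗[R] A)]
    (hfp : Algebra.FinitePresentation R A) : Algebra.Etale R A := by
  haveI : Module.Flat S (S ⊗[R] A) := inferInstance
  haveI : Module.Flat R A := flat_of_flat_baseChange h A
  haveI : Algebra.FormallyUnramified R A := by
    constructor
    let _ : Algebra A (S ⊗[R] A) := Algebra.TensorProduct.rightAlgebra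
    have hsub : Subsingleton (S ⊗[R] Ω[A⁄R]) :=
      (KaehlerDifferential.tensorKaehlerEquivBase R S A (S ⊗[R] A)).subsingleton
    refine ⟨fun a b => ?_⟩
    have : a - b = 0 := eq_zero_of_one_tmul_eq_zero h (a - b) (Subsingleton.elim _ _)
    exact sub_eq_zero.mp this
  exact Algebra.Etale.of_formallyUnramified_of_flat

end PureDescent9
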