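import Groth.Agent.Lib.MLDom_lead
import Mathlib.Algebra.Module.CharacterModule
import Groth.Prelude.Def_W4stkadequatePure

/-!
# Pure projective / pure injective modules (lead's helper library)
-/

universe u

namespace Groth.Agent.Lib.PureExt_lead

open TensorProduct Groth.Agent.Lib.MLPure_lead Groth.Agent.Lib.MLDom_lead

variable {R : Type u} [CommRing R]

/-- Finitely presented modules are pure projective. -/
theorem exists_lift_of_fp {P L N : Type u} [AddCommGroup P] [Module R P] [AddCommGroup L]
    [Module R L] [AddCommGroup N] [Module R N] [Module.FinitePresentation R P]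
    (g : L →ₗ[R] N) (hg : Function.Surjective g)
    (hker : ∀ (Q : Type u) [AddCommGroup Q] [Module R Q],
      Function.Injective ((LinearMap.ker g).subtype.rTensor Q))
    (φ : P →ₗ[R] N) : ∃ ψ : P →ₗ[R] L, g ∘ₗ ψ = φ := by
  let E : Submodule R (L × P) := LinearMap.ker (g.coprod (-φ))
  have hE : ∀ e : E, g e.1.1 = φ e.1.2 := by
    intro e
    have := LinearMap.mem_ker.mp e.2
    simp only [LinearMap.coprod_apply, LinearMap.neg_apply] at this
    exact add_neg_eq_zero.mp this
  let pE : E →ₗ[R] P := LinearMap.snd R L P ∘ₗ E.subtype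
  have hpE : Function.Surjective pE := by
    intro p
    obtain ⟨l, hl⟩ := hg (φ p)
    refine ⟨⟨(l, p), ?_⟩, rfl⟩
    rw [LinearMap.mem_ker, LinearMap.coprod_apply, LinearMap.neg_apply, hl, add_neg_cancel]
  let i : LinearMap.ker g →ₗ[R] E :=
    LinearMap.codRestrict E (LinearMap.inl R L P ∘ₗ (LinearMap.ker g).subtype) (by
      intro k
      rw [LinearMap.mem_ker, LinearMap.coprod_apply]
      simp [LinearMap.mem_ker.mp k.2])
  have hexact : Function.Exact i pE := by
    intro e
    constructor
    · intro he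
      have he2 : e.1.2 = 0 := he
      have h0 : g e.1.1 = 0 := by rw [hE e, he2, map_zero]
      refine ⟨⟨e.1.1, LinearMap.mem_ker.mpr h0⟩, ?_⟩
      apply Subtype.ext
      apply Prod.ext
      · rfl
      · exact he2.symm
    · rintro ⟨k, rfl⟩
      rfl
  have hi : ∀ (Q : Type u) [AddCommGroup Q] [Module R Q], Function.Injective (i.rTensor Q) := by
    intro Q _ _
    have hcomp : (LinearMap.fst R L P ∘ₗ E.subtype) ∘ₗ i = (LinearMap.ker g).subtype :=
      LinearMap.ext fun k => rfl
    have := hker Q
    rw [← hcomp, LinearMap.rTensor_comp, LinearMap.coe_comp] at this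
    exact this.of_comp
  obtain ⟨s, hs⟩ := exists_section_of_universallyInjective i pE hexact hpE hi
  refine ⟨LinearMap.fst R L P ∘ₗ E.subtype ∘ₗ s, LinearMap.ext fun p => ?_⟩
  have h1 := hE (s p)
  have h2 : (s p).1.2 = p := LinearMap.congr_fun hs p
  simp only [LinearMap.comp_apply, LinearMap.fst_apply, Submodule.subtype_apply]
  rw [h1, h2]

/-- Direct sums of finitely presented modules are pure projective. -/
theorem exists_lift_of_dfinsupp {ι : Type u} (Q : ι → Type u) [∀ i, AddCommGroup (Q i)]
    [∀ i, Module R (Q i)] [∀ i, Module.FinitePresentation R (Q i)]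
    {L N : Type u} [AddCommGroup L] [Module R L] [AddCommGroup N] [Module R N]
    (g : L →ₗ[R] N) (hg : Function.Surjective g)
    (hker : ∀ (T : Type u) [AddCommGroup T] [Module R T],
      Function.Injective ((LinearMap.ker g).subtype.rTensor T))
    (φ : (Π₀ i, Q i) →ₗ[R] N) : ∃ ψ : (Π₀ i, Q i) →ₗ[R] L, g ∘ₗ ψ = φ := by
  classical
  have h : ∀ i, ∃ ψ : Q i →ₗ[R] L, g ∘ₗ ψ = φ ∘ₗ DFinsupp.lsingle i := fun i =>
    exists_lift_of_fp g hg hker _
  choose ψ hψ using h
  refine ⟨DFinsupp.lsum ℕ ψ, ?_⟩
  refine DFinsupp.lhom_ext' fun i => LinearMap.ext fun x => ?_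
  simp only [LinearMap.comp_apply, DFinsupp.lsingle_apply, DFinsupp.lsum_single]
  exact LinearMap.congr_fun (hψ i) x

/-- If every map from a finitely presented module lifts along `g`, the inclusion of `ker g` is
universally injective. -/
theorem ker_universallyInjective_of_lift {L N : Type u} [AddCommGroup L] [Module R L]
    [AddCommGroup N] [Module R N] (g : L →ₗ[R] N)
    (hlift : ∀ (T : Type u) [AddCommGroup T] [Module R T] [Module.FinitePresentation R T]
      (τ : T →ₗ[R] N), ∃ lam : T →ₗ[R] L, g ∘ₗ lam = τ)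
    (Q : Type u) [AddCommGroup Q] [Module R Q] :
    Function.Injective ((LinearMap.ker g).subtype.rTensor Q) := by
  classical
  rw [injective_iff_map_eq_zero]
  intro z hz
  obtain ⟨n, k, q, rfl⟩ := TensorProduct.exists_sum_tmul_eq z
  let fK : (Fin n → R) →ₗ[R] LinearMap.ker g := Fintype.linearCombination R k
  let z' : (Fin n → R) ⊗[R] Q := ∑ i, (Pi.single i (1 : R) : Fin n → R) ⊗ₜ[R] q i
  have hz' : (fK.rTensor Q) z' = ∑ i, k i ⊗ₜ[R] q i := by
    simp only [z', fK, map_sum, LinearMap.rTensor_tmul, Fintype.linearCombination_apply_single,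
      one_smul]
  have hfL : (((LinearMap.ker g).subtype ∘ₗ fK).rTensor Q) z' = 0 := by
    rw [LinearMap.rTensor_comp, LinearMap.comp_apply, hz', hz]
  obtain ⟨T, _, _, _, g₀, h, hh, hg₀⟩ :=
    exists_fp_factor_fin ((LinearMap.ker g).subtype ∘ₗ fK) z' hfL
  have hW : (LinearMap.range g₀).FG := Submodule.fg_range g₀
  have : Module.FinitePresentation R (T ⧸ LinearMap.range g₀) :=
    Module.finitePresentation_of_surjective (LinearMap.range g₀).mkQ
      (Submodule.mkQ_surjective _) (by rw [Submodule.ker_mkQ]; exact hW)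
  have hWker : LinearMap.range g₀ ≤ LinearMap.ker (g ∘ₗ h) := by
    rintro _ ⟨v, rfl⟩
    rw [LinearMap.mem_ker, LinearMap.comp_apply, ← LinearMap.comp_apply h g₀, hh]
    exact LinearMap.mem_ker.mp (fK v).2
  obtain ⟨lam, hlam⟩ := hlift (T ⧸ LinearMap.range g₀) ((LinearMap.range g₀).liftQ (g ∘ₗ h) hWker)
  let κ : T →ₗ[R] LinearMap.ker g :=
    LinearMap.codRestrict (LinearMap.ker g) (h - lam ∘ₗ (LinearMap.range g₀).mkQ) (by
      intro t
      rw [LinearMap.mem_ker, LinearMap.sub_apply, map_sub, LinearMap.comp_apply,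
        ← LinearMap.comp_apply g lam, hlam, Submodule.mkQ_apply, Submodule.liftQ_apply,
        LinearMap.comp_apply, sub_self])
  have hκ : κ ∘ₗ g₀ = fK := by
    refine LinearMap.ext fun v => Subtype.ext ?_
    show h (g₀ v) - lam ((LinearMap.range g₀).mkQ (g₀ v)) = (fK v : L)
    have h0 : (LinearMap.range g₀).mkQ (g₀ v) = 0 := by
      rw [Submodule.mkQ_apply, Submodule.Quotient.mk_eq_zero]
      exact ⟨v, rfl⟩
    rw [h0, map_zero, sub_zero, ← LinearMap.comp_apply, hh]
    rfl
  rw [← hz', ← hκ, LinearMap.rTensor_comp, LinearMap.comp_apply, hg₀, map_zero]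

/-- A map from a standard finitely presented module to `M`. -/
structure FPMap (R : Type u) [CommRing R] (M : Type u) [AddCommGroup M] [Module R M] :
    Type u where
  r : ℕ
  L : Submodule R (Fin r → R)
  hL : L.FG
  h : ((Fin r → R) ⧸ L) →ₗ[R] M

/-- The finitely presented module underlying an `FPMap`. -/
def FPMap.carrier {M : Type u} [AddCommGroup M] [Module R M] (j : FPMap R M) : Type u :=
  (Fin j.r → R) ⧸ j.L

noncomputable instance {M : Type u} [AddCommGroup M] [Module R M] (j : FPMap R M) :
    AddCommGroup j.carrier :=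
  inferInstanceAs (AddCommGroup ((Fin j.r → R) ⧸ j.L))

noncomputable instance {M : Type u} [AddCommGroup M] [Module R M] (j : FPMap R M) :
    Module R j.carrier :=
  inferInstanceAs (Module R ((Fin j.r → R) ⧸ j.L))

instance {M : Type u} [AddCommGroup M] [Module R M] (j : FPMap R M) :
    Module.FinitePresentation R j.carrier :=
  (Module.finitePresentation_of_surjective j.L.mkQ j.L.mkQ_surjective
    (by rw [Submodule.ker_mkQ]; exact j.hL) :
      Module.FinitePresentation R ((Fin j.r → R) ⧸ j.L))

/-- The structure map of an `FPMap`, on the carrier. -/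
def FPMap.hom {M : Type u} [AddCommGroup M] [Module R M] (j : FPMap R M) : j.carrier →ₗ[R] M :=
  j.h

theorem exists_pure_projective_cover (M : Type u) [AddCommGroup M] [Module R M] :
    ∃ (ι : Type u) (Q : ι → Type u) (_ : ∀ i, AddCommGroup (Q i)) (_ : ∀ i, Module R (Q i)),
      (∀ i, Module.FinitePresentation R (Q i)) ∧
      ∃ g : (Π₀ i, Q i) →ₗ[R] M, Function.Surjective g ∧
        ∀ (T : Type u) [AddCommGroup T] [Module R T],
          Function.Injective ((LinearMap.ker g).subtype.rTensor T) := by
  classical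
  let g : (Π₀ j : FPMap R M, j.carrier) →ₗ[R] M := DFinsupp.lsum ℕ fun j => j.hom
  have hlift : ∀ (T : Type u) [AddCommGroup T] [Module R T] [Module.FinitePresentation R T]
      (τ : T →ₗ[R] M), ∃ lam : T →ₗ[R] (Π₀ j : FPMap R M, j.carrier), g ∘ₗ lam = τ := by
    intro T _ _ _ τ
    obtain ⟨n, K, e, hK⟩ := Module.FinitePresentation.exists_fin R T
    let j : FPMap R M := ⟨n, K, hK, τ ∘ₗ e.symm.toLinearMap⟩
    let e' : T →ₗ[R] j.carrier := e.toLinearMap
    refine ⟨DFinsupp.lsingle j ∘ₗ e', LinearMap.ext fun t => ?_⟩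
    simp only [g, LinearMap.comp_apply, DFinsupp.lsingle_apply, DFinsupp.lsum_single]
    show τ (e.symm (e t)) = τ t
    rw [LinearEquiv.symm_apply_apply]
  have hsurj : Function.Surjective g := by
    intro m
    obtain ⟨lam, hlam⟩ := hlift R (LinearMap.toSpanSingleton R M m)
    refine ⟨lam 1, ?_⟩
    have := LinearMap.congr_fun hlam 1
    simpa using this
  exact ⟨FPMap R M, FPMap.carrier, fun j => inferInstance, fun j => inferInstance,
    fun j => inferInstance, g, hsurj,
    fun T _ _ => ker_universallyInjective_of_lift g hlift T⟩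

theorem range_subtype_universallyInjective {L M N : Type u} [AddCommGroup L] [Module R L]
    [AddCommGroup M] [Module R M] [AddCommGroup N] [Module R N]
    (f : L →ₗ[R] M) (g : M →ₗ[R] N)
    (h : ∀ (Q : Type u) [AddCommGroup Q] [Module R Q],
      Function.Exact (f.rTensor Q) (g.rTensor Q))
    (Q : Type u) [AddCommGroup Q] [Module R Q] :
    Function.Injective ((LinearMap.range g).subtype.rTensor Q) := by
  have hgf : ∀ x, g (f x) = 0 := by
    intro x
    have h1 := (h R).apply_apply_eq_zero (x ⊗ₜ[R] (1 : R))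
    rw [LinearMap.rTensor_tmul, LinearMap.rTensor_tmul] at h1
    have h2 := congrArg (TensorProduct.rid R N) h1
    rwa [TensorProduct.rid_tmul, one_smul, map_zero] at h2
  rw [injective_iff_map_eq_zero]
  intro z hz
  obtain ⟨w, rfl⟩ := LinearMap.rTensor_surjective Q g.surjective_rangeRestrict z
  have hcomp : (LinearMap.range g).subtype ∘ₗ g.rangeRestrict = g := LinearMap.ext fun x => rfl
  rw [← LinearMap.comp_apply, ← LinearMap.rTensor_comp, hcomp] at hz
  obtain ⟨v, rfl⟩ := ((h Q) w).mp hz
  have h0 : g.rangeRestrict ∘ₗ f = 0 := LinearMap.ext fun x => Subtype.ext (hgf x)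
  rw [← LinearMap.comp_apply, ← LinearMap.rTensor_comp, h0, LinearMap.rTensor_zero,
    LinearMap.zero_apply]

theorem charEval_universallyInjective (M : Type u) [AddCommGroup M] [Module R M]
    (Q : Type u) [AddCommGroup Q] [Module R Q] :
    Function.Injective ((PureExt.charEval R M).rTensor Q) := by
  rw [rTensor_injective_iff_lcomp_surjective]
  intro c
  let c' : Q →ₗ[R] CharacterModule M :=
    { toFun := fun q => (AddMonoidHom.mk' (fun m => c m q)
        (fun a b => by rw [map_add]; rfl) : M →+ AddCircle (1 : ℚ))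
      map_add' := fun a b => by
        ext m
        exact map_add (c m) a b
      map_smul' := fun r q => by
        ext m
        show c m (r • q) = c (r • m) q
        rw [c.map_smul r m, CharacterModule.smul_apply] }
  refine ⟨CharacterModule.dual c', ?_⟩
  refine LinearMap.ext fun m => DFunLike.ext _ _ fun q => ?_
  rfl

end Groth.Agent.Lib.PureExt_lead
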