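import Mathlib
import Groth.Prelude.Def_FlatCA
import Groth.Prelude.Def_Found

/-!
# S1223: a flat algebra with geometrically integral fibres is universally pure (lead)
-/

set_option autoImplicit false
universe u

namespace Groth.Agent.Lib.PureGeomInt

open TensorProduct

section Domain

variable {A B : Type u} [CommRing A] [CommRing B] [Algebra A B]

/-- geometric integrality, ring form: `B ⊗[A] K` is a domain for every field `K` over `A` -/
theorem isDomain_tensor (h : FlatCA.GeomIntegralFibres A B) (K : Type u) [Field K] [Algebra A K] :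
    IsDomain (B ⊗[A] K) := by
  have hpo := CommRingCat.isPushout_tensorProduct A B K
  have hpb := AlgebraicGeometry.isPullback_SpecMap_of_isPushout _ _ _ _ hpo
  have hint := h.geometrically_isIntegral
    (AlgebraicGeometry.Spec.map (CommRingCat.ofHom (algebraMap A K))) _ _ hpb
  exact (AlgebraicGeometry.affine_isIntegral_iff _).mp hint

theorem fiber_isDomain (h : FlatCA.GeomIntegralFibres A B) {A' B' : Type u} [CommRing A']
    [CommRing B'] [Algebra A A'] [Algebra B B'] [Algebra A' B'] [Algebra A B']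
    [IsScalarTower A B B'] [IsScalarTower A A' B'] [Algebra.IsPushout A A' B B']
    (K : Type u) [Field K] [Algebra A' K] [Algebra A K] [IsScalarTower A A' K] :
    IsDomain (K ⊗[A'] B') := by
  haveI := isDomain_tensor h K
  let e1 : K ⊗[A'] B' ≃ₐ[A'] K ⊗[A'] (A' ⊗[A] B) :=
    Algebra.TensorProduct.congr (AlgEquiv.refl : K ≃ₐ[A'] K)
      (Algebra.IsPushout.equiv A A' B B').symm
  let e2 : K ⊗[A'] (A' ⊗[A] B) ≃ₐ[A'] K ⊗[A] B :=
    Algebra.TensorProduct.cancelBaseChange A A' A' K B
  let e3 : K ⊗[A] B ≃ₐ[A] B ⊗[A] K := Algebra.TensorProduct.comm A K B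
  exact MulEquiv.isDomain (B ⊗[A] K)
    ((e1.trans e2).toRingEquiv.trans e3.toRingEquiv).toMulEquiv

end Domain

attribute [local instance] Algebra.TensorProduct.rightAlgebra

theorem eq_bot_of_isAssociatedPrime_of_equiv {F M : Type*} [CommRing F] [IsDomain F]
    [AddCommGroup M] [Module F M] (e : M ≃ₗ[F] F) (I : Ideal F) (h : IsAssociatedPrime I M) :
    I = ⊥ := by
  obtain ⟨hI, x, hx⟩ := h
  have hx0 : x ≠ 0 := by
    rintro rfl
    apply hI.ne_top
    rw [hx, Ideal.radical_eq_top, Ideal.eq_top_iff_one, Submodule.mem_colon_singleton, smul_zero]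
    exact Submodule.zero_mem _
  rw [eq_bot_iff]
  intro c hc
  rw [hx] at hc
  obtain ⟨n, hn⟩ := hc
  rw [Submodule.mem_colon_singleton, Submodule.mem_bot] at hn
  have h1 : e (c ^ n • x) = 0 := by rw [hn, map_zero]
  rw [map_smul, smul_eq_mul, mul_eq_zero] at h1
  rcases h1 with h1 | h1
  · exact Ideal.mem_bot.mpr (eq_zero_of_pow_eq_zero h1)
  · exact absurd (e.map_eq_zero_iff.mp h1) hx0

theorem fiberIdeal_eq_bot {R S : Type u} [CommRing R] [CommRing S] [Algebra R S] (p : Ideal R)
    [p.IsPrime] [IsDomain (p.Fiber S)] (M : Type u) [AddCommGroup M] [Module S M]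
    (e0 : M ≃ₗ[S] S) (I : Ideal (p.Fiber S))
    (h : I ∈ associatedPrimes (p.Fiber S) (FlatCA.fiberMod p S M)) : I = ⊥ := by
  let eM : ((p.Fiber S) ⊗[S] M) ≃ₗ[p.Fiber S] (p.Fiber S) :=
    (TensorProduct.AlgebraTensorModule.congr (LinearEquiv.refl (p.Fiber S) (p.Fiber S)) e0) ≪≫ₗ
      TensorProduct.AlgebraTensorModule.rid S (p.Fiber S) (p.Fiber S)
  exact eq_bot_of_isAssociatedPrime_of_equiv (M := (p.Fiber S) ⊗[S] M) eM I h

theorem mem_of_tmul_eq_zero {R : Type u} [CommRing R] (p : Ideal R) [p.IsPrime] (M : Type u)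
    [AddCommGroup M] [Module R M] [Module.Flat R M] (m : M)
    (h : (1 : p.ResidueField) ⊗ₜ[R] m = 0) : m ∈ (p • ⊤ : Submodule R M) := by
  let ι : (R ⧸ p) →ₗ[R] p.ResidueField :=
    (IsScalarTower.toAlgHom R (R ⧸ p) p.ResidueField).toLinearMap
  have hι : Function.Injective ι := IsFractionRing.injective (R ⧸ p) p.ResidueField
  have hι1 : ι 1 = 1 := by
    show (IsScalarTower.toAlgHom R (R ⧸ p) p.ResidueField) 1 = 1
    exact map_one _
  have hinj := Module.Flat.rTensor_preserves_injective_linearMap (M := M) ι hι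
  have h1 : (1 : R ⧸ p) ⊗ₜ[R] m = 0 := by
    apply hinj
    rw [LinearMap.rTensor_tmul, map_zero, hι1, h]
  have h2 := TensorProduct.quotTensorEquivQuotSMul_mk_tmul (M := M) p 1 m
  rw [map_one, h1, map_zero, one_smul] at h2
  exact (Submodule.Quotient.mk_eq_zero _).mp h2.symm

theorem main {A B : Type u} [CommRing A] [CommRing B] [Algebra A B] [Module.Flat A B]
    (h : FlatCA.GeomIntegralFibres A B) : FlatCA.IsUnivPure A B B := by
  intro p hp A' B' N' _ _ _ _ _ _ _ _ _ _ _ _ _ _ f t' t _ _ P _ himp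
  obtain ⟨hpush, hbc, htt, htp, hPt, hass, hno⟩ := himp
  haveI := hPt
  haveI := hpush
  haveI hsymm : Algebra.IsPushout A A' B B' := hpush.symm
  haveI : Module.Flat A' B' := Module.Flat.isBaseChange (R := A) (M := B) (S := A') B' hsymm.out
  haveI : IsDomain (t'.Fiber B') := fiber_isDomain h t'.ResidueField
  let e0 : N' ≃ₗ[B'] B' := hbc.equiv.symm ≪≫ₗ TensorProduct.AlgebraTensorModule.rid B B' B'
  have hbot : FlatCA.fiberIdeal t' P = ⊥ := fiberIdeal_eq_bot t' N' e0 _ hass
  have hP : ∀ b' ∈ P, b' ∈ (t' • ⊤ : Submodule A' B') := by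
    intro b' hb'
    apply mem_of_tmul_eq_zero t' B' b'
    have h1 : (1 : t'.ResidueField) ⊗ₜ[A'] b' ∈ FlatCA.fiberIdeal t' P :=
      Ideal.mem_map_of_mem _ hb'
    rw [hbot] at h1
    exact Ideal.mem_bot.mp h1
  -- the prime `P'`
  haveI : IsDomain (B ⊗[A] t.ResidueField) := isDomain_tensor h t.ResidueField
  let g : B' →ₐ[A] B ⊗[A] t.ResidueField :=
    Algebra.pushoutDesc B' (Algebra.TensorProduct.includeLeft : B →ₐ[A] B ⊗[A] t.ResidueField)
      ((Algebra.TensorProduct.includeRight : t.ResidueField →ₐ[A] B ⊗[A] t.ResidueField).comp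
        (IsScalarTower.toAlgHom A A' t.ResidueField)) (fun _ _ => Commute.all _ _)
  have hgA' : ∀ a : A', g (algebraMap A' B' a) =
      (1 : B) ⊗ₜ[A] (algebraMap A' t.ResidueField a) := by
    intro a
    exact Algebra.pushoutDesc_right B' _ _ _ a
  have hg0 : ∀ b' ∈ (t' • ⊤ : Submodule A' B'), g b' = 0 := by
    intro b' hb'
    refine Submodule.smul_induction_on hb' ?_ ?_
    · intro a ha b _
      rw [Algebra.smul_def, map_mul, hgA', Ideal.algebraMap_residueField_eq_zero.mpr (htt ha),
        TensorProduct.tmul_zero, zero_mul]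
    · intro x y hx hy
      rw [map_add, hx, hy, add_zero]
  haveI hP'prime : (RingHom.ker g.toRingHom).IsPrime := RingHom.ker_isPrime g.toRingHom
  refine hno (RingHom.ker g.toRingHom) ?_ ⟨?_⟩
  · intro b' hb'
    rw [RingHom.mem_ker]
    exact hg0 b' (hP b' hb')
  · ext a
    rw [Ideal.under_def, Ideal.mem_comap, RingHom.mem_ker]
    show a ∈ t ↔ g (algebraMap A' B' a) = 0
    rw [hgA']
    constructor
    · intro ha
      rw [Ideal.algebraMap_residueField_eq_zero.mpr ha, TensorProduct.tmul_zero]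
    · intro ha
      have hinj : Function.Injective
          (Algebra.TensorProduct.includeRight : t.ResidueField →ₐ[A] B ⊗[A] t.ResidueField) :=
        RingHom.injective
          (Algebra.TensorProduct.includeRight :
            t.ResidueField →ₐ[A] B ⊗[A] t.ResidueField).toRingHom
      have h0 : algebraMap A' t.ResidueField a = 0 := by
        apply hinj
        rw [map_zero]
        exact ha
      exact Ideal.algebraMap_residueField_eq_zero.mp h0

end Groth.Agent.Lib.PureGeomInt
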