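import Mathlib
import Groth.Prelude.Def_Brnch

/-!
# Embeddings of a residue field of an integral extension of a local ring, and pure inseparability
(helper3)
-/

set_option autoImplicit false
universe u

namespace Groth.Agent.Lib.PureInsepH3

open IsLocalRing

section FieldPart

variable (k E : Type u) [Field k] [Field E] [Algebra k E] [Algebra.IsAlgebraic k E]

theorem nonempty_algHom_closure : Nonempty (E →ₐ[k] AlgebraicClosure k) := ⟨IsAlgClosed.lift⟩

theorem subsingleton_algHom_closure_iff :
    Subsingleton (E →ₐ[k] AlgebraicClosure k) ↔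
      ∀ x : E, ∃ n : ℕ, x ^ (ringExpChar E) ^ n ∈ (algebraMap k E).range := by
  haveI : ExpChar k (ringExpChar E) :=
    (algebraMap k E).expChar (algebraMap k E).injective (ringExpChar E)
  rw [← isPurelyInseparable_iff_pow_mem k (ringExpChar E),
    isPurelyInseparable_iff_subsingleton_emb]
  exact (Equiv.subsingleton_congr (Field.embEquivOfIsAlgClosed k E (AlgebraicClosure k))).symm

end FieldPart

section LocalPart

variable (A : Type u) [CommRing A] [IsLocalRing A] (B : Type u) [CommRing B] (φ : A →+* B)
  (M : Ideal B)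

/-- embeddings of the residue field of `M` over the residue field of `A` into the algebraic closure
of the latter -/
abbrev EmbG : Type u :=
  {σ : B ⧸ M →+* AlgebraicClosure (ResidueField A) //
    σ.comp ((Ideal.Quotient.mk M).comp φ) = Brnch.toClosure A}

variable [M.IsMaximal]

theorem embG_facts (hφ : φ.IsIntegral) :
    Nonempty (EmbG A B φ M) ∧ (Subsingleton (EmbG A B φ M) ↔
      ∀ x : B ⧸ M, ∃ n : ℕ, x ^ (ringExpChar (B ⧸ M)) ^ n ∈
        ((Ideal.Quotient.mk M).comp φ).range) := by
  letI : Field (B ⧸ M) := Ideal.Quotient.field M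
  obtain ⟨f, hf⟩ : ∃ f : A →+* B ⧸ M, f = (Ideal.Quotient.mk M).comp φ := ⟨_, rfl⟩
  rw [← hf]
  have hfint : f.IsIntegral := by
    rw [hf]
    exact hφ.trans _ _ (RingHom.isIntegral_of_surjective _ Ideal.Quotient.mk_surjective)
  have hker : RingHom.ker f = maximalIdeal A := by
    haveI : (RingHom.ker f).IsMaximal := by
      haveI : (⊥ : Ideal (B ⧸ M)).IsMaximal := Ideal.bot_isMaximal
      exact Ideal.isMaximal_comap_of_isIntegral_of_isMaximal' f hfint ⊥
    exact IsLocalRing.eq_maximalIdeal this
  haveI : IsLocalHom f := ⟨fun a ha => by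
    have h1 : f a ≠ 0 := ha.ne_zero
    have h2 : a ∉ maximalIdeal A := by
      rw [← hker, RingHom.mem_ker]; exact h1
    exact (IsLocalRing.notMem_maximalIdeal).mp h2⟩
  letI : Algebra (ResidueField A) (B ⧸ M) := (ResidueField.lift f).toAlgebra
  have hcomp : (algebraMap (ResidueField A) (B ⧸ M)).comp (residue A) = f :=
    ResidueField.lift_comp_residue f
  have halg : ∀ a, algebraMap (ResidueField A) (B ⧸ M) (residue A a) = f a :=
    fun a => RingHom.congr_fun hcomp a
  haveI : Algebra.IsIntegral (ResidueField A) (B ⧸ M) := ⟨fun x => by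
    obtain ⟨p, hp, hpx⟩ := hfint x
    refine ⟨p.map (residue A), hp.map _, ?_⟩
    rw [Polynomial.eval₂_map, hcomp]
    exact hpx⟩
  haveI : Algebra.IsAlgebraic (ResidueField A) (B ⧸ M) := Algebra.IsIntegral.isAlgebraic
  have hrange : (algebraMap (ResidueField A) (B ⧸ M)).range = f.range := by
    ext y
    constructor
    · rintro ⟨c, rfl⟩
      obtain ⟨a, rfl⟩ := residue_surjective c
      exact ⟨a, (halg a).symm⟩
    · rintro ⟨a, rfl⟩
      exact ⟨residue A a, halg a⟩
  let e : {σ : B ⧸ M →+* AlgebraicClosure (ResidueField A) //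
      σ.comp f = Brnch.toClosure A} ≃
      ((B ⧸ M) →ₐ[ResidueField A] AlgebraicClosure (ResidueField A)) :=
    { toFun := fun σ => { σ.1 with
        commutes' := fun c => by
          obtain ⟨a, rfl⟩ := residue_surjective c
          have h1 := RingHom.congr_fun σ.2 a
          rw [RingHom.comp_apply] at h1
          change σ.1 (algebraMap (ResidueField A) (B ⧸ M) (residue A a)) = _
          rw [halg a, h1]
          rfl }
      invFun := fun τ => ⟨τ.toRingHom, by
        ext a
        rw [RingHom.comp_apply, ← halg a]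
        exact τ.commutes (residue A a)⟩
      left_inv := fun σ => by
        apply Subtype.ext
        ext x
        rfl
      right_inv := fun τ => by
        ext x
        rfl }
  have hne : Nonempty {σ : B ⧸ M →+* AlgebraicClosure (ResidueField A) //
      σ.comp f = Brnch.toClosure A} := by
    obtain ⟨τ⟩ := nonempty_algHom_closure (ResidueField A) (B ⧸ M)
    exact ⟨e.symm τ⟩
  have hss : Subsingleton {σ : B ⧸ M →+* AlgebraicClosure (ResidueField A) //
      σ.comp f = Brnch.toClosure A} ↔
      ∀ x : B ⧸ M, ∃ n : ℕ, x ^ (ringExpChar (B ⧸ M)) ^ n ∈ f.range := by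
    rw [Equiv.subsingleton_congr e, subsingleton_algHom_closure_iff, hrange]
  clear_value e
  subst hf
  exact ⟨hne, hss⟩

/-- transport of uniqueness of embeddings along a surjective ring map -/
theorem subsingleton_embG_of_surjective (B' : Type u) [CommRing B'] (g : B →+* B')
    (hg : Function.Surjective g) (M' : Ideal B') (hM : M ≤ M'.comap g)
    (h : Subsingleton (EmbG A B φ M)) : Subsingleton (EmbG A B' (g.comp φ) M') := by
  let q : B ⧸ M →+* B' ⧸ M' := Ideal.quotientMap M' g hM
  have hq : Function.Surjective q := Ideal.quotientMap_surjective hg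
  have hqmk : ∀ b, q (Ideal.Quotient.mk M b) = Ideal.Quotient.mk M' (g b) := fun b =>
    Ideal.quotientMap_mk
  refine ⟨fun σ₁ σ₂ => ?_⟩
  have key : ∀ σ : EmbG A B' (g.comp φ) M',
      (σ.1.comp q).comp ((Ideal.Quotient.mk M).comp φ) = Brnch.toClosure A := by
    intro σ
    ext a
    have h0 := RingHom.congr_fun σ.2 a
    simp only [RingHom.comp_apply] at h0 ⊢
    rw [hqmk]
    exact h0
  have h1 : (⟨σ₁.1.comp q, key σ₁⟩ : EmbG A B φ M) = ⟨σ₂.1.comp q, key σ₂⟩ :=
    Subsingleton.elim _ _
  have h2 : σ₁.1.comp q = σ₂.1.comp q := congrArg Subtype.val h1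
  apply Subtype.ext
  refine RingHom.ext fun y => ?_
  obtain ⟨x, rfl⟩ := hq y
  exact RingHom.congr_fun h2 x

theorem forall_subsingleton_embG_of_ringEquiv (B' : Type u) [CommRing B'] (e : B ≃+* B')
    (φ' : A →+* B') (hφ' : ∀ a, e (φ a) = φ' a)
    (H : ∀ (N : Ideal B) [N.IsMaximal], Subsingleton (EmbG A B φ N))
    (M' : Ideal B') [M'.IsMaximal] : Subsingleton (EmbG A B' φ' M') := by
  haveI hmax : (M'.comap (e : B →+* B')).IsMaximal :=
    Ideal.comap_isMaximal_of_surjective (e : B →+* B') e.surjective
  have h := subsingleton_embG_of_surjective A B φ (M'.comap (e : B →+* B')) B' (e : B →+* B')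
    e.surjective M' le_rfl (H _)
  have h2 : (e : B →+* B').comp φ = φ' := RingHom.ext fun a => hφ' a
  rw [h2] at h
  exact h

end LocalPart

section Count

theorem enat_card_eq_card_sigma_iff {ι : Type u} [Finite ι] (β : ι → Type u)
    (hne : ∀ i, Nonempty (β i)) :
    ENat.card ι = ENat.card (Σ i, β i) ↔ ∀ i, Subsingleton (β i) := by
  constructor
  · intro h i
    haveI : Finite (Σ i, β i) := by
      rw [← ENat.card_lt_top, ← h]
      exact ENat.card_lt_top_of_finite
    have hsurj : Function.Surjective (Sigma.fst : (Σ i, β i) → ι) := fun j =>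
      ⟨⟨j, (hne j).some⟩, rfl⟩
    have hcard : Nat.card (Σ i, β i) ≤ Nat.card ι := by
      rw [ENat.card_eq_coe_natCard, ENat.card_eq_coe_natCard, Nat.cast_inj] at h
      exact h.symm.le
    have hbij := hsurj.bijective_of_nat_card_le hcard
    refine ⟨fun b₁ b₂ => ?_⟩
    have h1 : (⟨i, b₁⟩ : Σ i, β i) = ⟨i, b₂⟩ := hbij.1 rfl
    exact sigma_mk_injective h1
  · intro h
    haveI : ∀ i, Unique (β i) := fun i =>
      haveI := h i
      uniqueOfSubsingleton (hne i).some
    exact (ENat.card_congr (Equiv.sigmaUnique ι β)).symm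

end Count

section Emb

variable (A : Type u) [CommRing A] [IsLocalRing A]

theorem isIntegral_toNormRed' :
    ((algebraMap (CAlg2.red A) (CAlg2.normRed A)).comp
      (Ideal.Quotient.mk (nilradical A))).IsIntegral := by
  refine RingHom.IsIntegral.trans _ _
    (RingHom.isIntegral_of_surjective _ Ideal.Quotient.mk_surjective) ?_
  exact algebraMap_isIntegral_iff.mpr inferInstance

theorem emb_facts (m' : MaximalSpectrum (CAlg2.normRed A)) :
    Nonempty (Brnch.Emb A m') ∧ (Subsingleton (Brnch.Emb A m') ↔
      ∀ x : CAlg2.normRed A ⧸ m'.asIdeal, ∃ n : ℕ,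
        x ^ (ringExpChar (CAlg2.normRed A ⧸ m'.asIdeal)) ^ n ∈ (Brnch.toResidue A m').range) := by
  haveI := m'.isMaximal
  exact embG_facts A (CAlg2.normRed A) _ m'.asIdeal (isIntegral_toNormRed' A)

/-- the number of branches equals the number of geometric branches iff all residue field
extensions of the normalization admit a unique embedding -/
theorem numBranches_eq_numGeomBranches_iff (hfin : (minimalPrimes A).Finite)
    (hfinB : Brnch.numBranches A ≠ ⊤) :
    Brnch.numBranches A = Brnch.numGeomBranches A ↔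
      ∀ m' : MaximalSpectrum (CAlg2.normRed A), Subsingleton (Brnch.Emb A m') := by
  have hnb : Brnch.numBranches A = ENat.card (MaximalSpectrum (CAlg2.normRed A)) := by
    unfold Brnch.numBranches
    rw [if_pos hfin]
  have hngb : Brnch.numGeomBranches A =
      ENat.card (Σ m' : MaximalSpectrum (CAlg2.normRed A), Brnch.Emb A m') := by
    unfold Brnch.numGeomBranches
    rw [if_pos hfin]
  haveI : Finite (MaximalSpectrum (CAlg2.normRed A)) := by
    rw [← ENat.card_lt_top, ← hnb]
    exact lt_top_iff_ne_top.mpr hfinB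
  rw [hnb, hngb]
  exact enat_card_eq_card_sigma_iff _ (fun m' => (emb_facts A m').1)

end Emb

end Groth.Agent.Lib.PureInsepH3
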