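import Mathlib
import Groth.Prelude.Def_CAlgX

set_option autoImplicit false
set_option maxHeartbeats 1000000
universe u
open CategoryTheory TensorProduct

namespace Groth.Agent.Lib.PureResH1

section linalg
variable {R : Type u} [CommRing R]

/-- universally exact at the middle term -/
def UE {X Y Z : Type u} [AddCommGroup X] [Module R X] [AddCommGroup Y] [Module R Y]
    [AddCommGroup Z] [Module R Z] (a : X →ₗ[R] Y) (b : Y →ₗ[R] Z) : Prop :=
  ∀ (Q : Type u) [AddCommGroup Q] [Module R Q] (y : Y ⊗[R] Q),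
    b.rTensor Q y = 0 → ∃ x : X ⊗[R] Q, a.rTensor Q x = y

/-- pure projective -/
def PureProj (R : Type u) [CommRing R] (P : Type u) [AddCommGroup P] [Module R P] : Prop :=
  ∀ ⦃L T : Type u⦄ [AddCommGroup L] [Module R L] [AddCommGroup T] [Module R T] (g : L →ₗ[R] T),
    Function.Surjective g → CAlgX.UniversallyInjective R (LinearMap.ker g).subtype →
      ∀ φ : P →ₗ[R] T, ∃ ψ : P →ₗ[R] L, g ∘ₗ ψ = φ

variable {P V W X Y Z Y' : Type u} [AddCommGroup P] [Module R P] [AddCommGroup V] [Module R V]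
  [AddCommGroup W] [Module R W] [AddCommGroup X] [Module R X] [AddCommGroup Y] [Module R Y]
  [AddCommGroup Z] [Module R Z] [AddCommGroup Y'] [Module R Y']

lemma rid_rTensor (a : X →ₗ[R] Y) (w : X ⊗[R] R) :
    TensorProduct.rid R Y (a.rTensor R w) = a (TensorProduct.rid R X w) := by
  induction w using TensorProduct.induction_on with
  | zero => simp
  | tmul x r => simp
  | add w1 w2 h1 h2 => simp [h1, h2]

lemma UE.exact {a : X →ₗ[R] Y} {b : Y →ₗ[R] Z} (h : UE a b) (y : Y) (hy : b y = 0) :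
    ∃ x, a x = y := by
  obtain ⟨w, hw⟩ := h R (y ⊗ₜ[R] (1 : R))
    (by rw [LinearMap.rTensor_tmul, hy, TensorProduct.zero_tmul])
  refine ⟨TensorProduct.rid R X w, ?_⟩
  rw [← rid_rTensor, hw, TensorProduct.rid_tmul, one_smul]

lemma uinj_ker (e : V →ₗ[R] W) (c : W →ₗ[R] X) (a' : X →ₗ[R] Y') (hce : ∀ v, c (e v) = 0)
    (hac : ∀ w, a' (c w) = 0) (h1 : UE e c) (h2 : ∀ x, a' x = 0 → ∃ w, c w = x) :
    CAlgX.UniversallyInjective R (LinearMap.ker a').subtype := by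
  intro Q _ _
  rw [injective_iff_map_eq_zero]
  intro z hz
  let c' : W →ₗ[R] ↥(LinearMap.ker a') :=
    LinearMap.codRestrict _ c (fun w => LinearMap.mem_ker.mpr (hac w))
  have hc' : Function.Surjective c' := by
    intro x
    obtain ⟨w, hw⟩ := h2 x.1 (LinearMap.mem_ker.mp x.2)
    exact ⟨w, Subtype.ext hw⟩
  obtain ⟨y, rfl⟩ := LinearMap.rTensor_surjective Q hc' z
  have hcomp : (LinearMap.ker a').subtype ∘ₗ c' = c := LinearMap.ext fun w => rfl
  have hy : c.rTensor Q y = 0 := by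
    rw [← hcomp, LinearMap.rTensor_comp, LinearMap.comp_apply]; exact hz
  obtain ⟨w, rfl⟩ := h1 Q y hy
  rw [← LinearMap.comp_apply, ← LinearMap.rTensor_comp]
  have : c' ∘ₗ e = 0 := LinearMap.ext fun v => Subtype.ext (hce v)
  rw [this, LinearMap.rTensor_zero, LinearMap.zero_apply]

lemma pure_lift (hP : PureProj R P) (e : V →ₗ[R] W) (c : W →ₗ[R] X) (a : X →ₗ[R] Y)
    (b : Y →ₗ[R] Z) (hce : ∀ v, c (e v) = 0) (hac : ∀ w, a (c w) = 0) (hba : ∀ x, b (a x) = 0)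
    (h1 : UE e c) (h2 : UE c a) (h3 : UE a b) (g : P →ₗ[R] Y) (hg : ∀ p, b (g p) = 0) :
    ∃ h : P →ₗ[R] X, a ∘ₗ h = g := by
  let a' : X →ₗ[R] ↥(LinearMap.ker b) :=
    LinearMap.codRestrict _ a (fun x => LinearMap.mem_ker.mpr (hba x))
  have ha' : Function.Surjective a' := by
    intro y
    obtain ⟨x, hx⟩ := h3.exact y.1 (LinearMap.mem_ker.mp y.2)
    exact ⟨x, Subtype.ext hx⟩
  have hu : CAlgX.UniversallyInjective R (LinearMap.ker a').subtype := by
    apply uinj_ker e c a' hce (fun w => Subtype.ext (hac w)) h1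
    intro x hx
    exact h2.exact x (congrArg Subtype.val hx)
  let g' : P →ₗ[R] ↥(LinearMap.ker b) :=
    LinearMap.codRestrict _ g (fun p => LinearMap.mem_ker.mpr (hg p))
  obtain ⟨ψ, hψ⟩ := hP a' ha' hu g'
  refine ⟨ψ, LinearMap.ext fun p => ?_⟩
  have := LinearMap.congr_fun hψ p
  exact congrArg Subtype.val this

end linalg


section cat
variable {R : Type u} [CommRing R]
open MonoidalCategory

variable {N : ModuleCat.{u} R} (N' : ChainComplex (ModuleCat.{u} R) ℕ)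
  (ε : N' ⟶ (ChainComplex.single₀ (ModuleCat.{u} R)).obj N)
  (hN' : ∀ T : ModuleCat.{u} R, QuasiIso (((MonoidalCategory.tensorRight T).mapHomologicalComplex
    (ComplexShape.down ℕ)).map ε))

include hN' in
lemma ue_succ (n : ℕ) : UE (N'.d (n + 2) (n + 1)).hom (N'.d (n + 1) n).hom := by
  intro Q _ _ y hy
  have := hN' (ModuleCat.of R Q)
  have hL : ((((MonoidalCategory.tensorRight (ModuleCat.of R Q)).mapHomologicalComplex
      (ComplexShape.down ℕ)).obj ((ChainComplex.single₀ (ModuleCat.{u} R)).obj N))).ExactAt (n + 1) := by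
    apply ShortComplex.exact_of_isZero_X₂
    exact Functor.map_isZero (MonoidalCategory.tensorRight (ModuleCat.of R Q)) (HomologicalComplex.isZero_single_obj_X (ComplexShape.down ℕ) 0 N (n + 1) (by simp))
  have hK := (quasiIsoAt_iff_exactAt' (((MonoidalCategory.tensorRight (ModuleCat.of R Q)).mapHomologicalComplex
      (ComplexShape.down ℕ)).map ε) (n + 1) hL).mp inferInstance
  rw [HomologicalComplex.exactAt_iff' _ (n + 2) (n + 1) n (by simp) (by simp)] at hK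
  rw [ShortComplex.moduleCat_exact_iff] at hK
  exact hK y hy


include hN' in
lemma ue_zero_aux (Q : Type u) [AddCommGroup Q] [Module R Q] :
    (∀ y : ↑(N'.X 0) ⊗[R] Q, (ε.f 0).hom.rTensor Q y = 0 →
      ∃ x : ↑(N'.X 1) ⊗[R] Q, (N'.d 1 0).hom.rTensor Q x = y) ∧
    Function.Surjective ((ε.f 0).hom.rTensor Q) := by
  have := hN' (ModuleCat.of R Q)
  have h1 := (quasiIsoAt_iff' (((MonoidalCategory.tensorRight (ModuleCat.of R Q)).mapHomologicalComplex
      (ComplexShape.down ℕ)).map ε) 1 0 0 (by exact ChainComplex.prev ℕ 0) (by exact ChainComplex.next_nat_zero)).mp inferInstance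
  rw [ShortComplex.quasiIso_iff_of_zeros' _
    (by
      show (MonoidalCategory.tensorRight (ModuleCat.of R Q)).map (N'.d 0 0) = 0
      rw [N'.shape 0 0 (by simp)]; exact Functor.map_zero _ _ _)
    (by
      show (MonoidalCategory.tensorRight (ModuleCat.of R Q)).map
        (((ChainComplex.single₀ (ModuleCat.{u} R)).obj N).d 1 0) = 0
      rw [HomologicalComplex.single_obj_d]; exact Functor.map_zero _ _ _)
    (by
      show (MonoidalCategory.tensorRight (ModuleCat.of R Q)).map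
        (((ChainComplex.single₀ (ModuleCat.{u} R)).obj N).d 0 0) = 0
      rw [HomologicalComplex.single_obj_d]; exact Functor.map_zero _ _ _)] at h1
  obtain ⟨hex, hepi⟩ := h1
  rw [ShortComplex.moduleCat_exact_iff] at hex
  rw [ModuleCat.epi_iff_surjective] at hepi
  exact ⟨fun y hy => hex y hy, hepi⟩

include hN' in
lemma ue_zero : UE (N'.d 1 0).hom (ε.f 0).hom :=
  fun Q _ _ y hy => (ue_zero_aux N' ε hN' Q).1 y hy

include hN' in
lemma ue_eps : UE (ε.f 0).hom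
    (0 : ↑(((ChainComplex.single₀ (ModuleCat.{u} R)).obj N).X 0) →ₗ[R] PUnit.{u + 1}) :=
  fun Q _ _ y _ => (ue_zero_aux N' ε hN' Q).2 y

lemma dd_apply (K : ChainComplex (ModuleCat.{u} R) ℕ) (i j k : ℕ) (v : ↑(K.X i)) :
    (K.d j k).hom ((K.d i j).hom v) = 0 := by
  have h := K.d_comp_d i j k
  have : (K.d i j ≫ K.d j k).hom v = (0 : K.X i ⟶ K.X k).hom v := by rw [h]
  exact this

lemma d_eps_apply (v : ↑(N'.X 1)) : (ε.f 0).hom ((N'.d 1 0).hom v) = 0 := by
  have h : N'.d 1 0 ≫ ε.f 0 = 0 := by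
    rw [← ε.comm 1 0, HomologicalComplex.single_obj_d, Limits.comp_zero]
  have : (N'.d 1 0 ≫ ε.f 0).hom v = (0 : N'.X 1 ⟶ _).hom v := by rw [h]
  exact this

include hN' in
lemma lift_succ (X : ModuleCat.{u} R) (hX : PureProj R X) (k : ℕ) (g : X ⟶ N'.X (k + 1))
    (hg : g ≫ N'.d (k + 1) k = 0) : ∃ h : X ⟶ N'.X (k + 2), h ≫ N'.d (k + 2) (k + 1) = g := by
  obtain ⟨h, hh⟩ := pure_lift hX (N'.d (k + 4) (k + 3)).hom (N'.d (k + 3) (k + 2)).hom
    (N'.d (k + 2) (k + 1)).hom (N'.d (k + 1) k).hom (dd_apply N' _ _ _) (dd_apply N' _ _ _)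
    (dd_apply N' _ _ _) (ue_succ N' ε hN' (k + 2)) (ue_succ N' ε hN' (k + 1)) (ue_succ N' ε hN' k)
    g.hom (fun p => by
      have := LinearMap.congr_fun (congrArg ModuleCat.Hom.hom hg) p
      exact this)
  exact ⟨ModuleCat.ofHom h, ModuleCat.hom_ext hh⟩

include hN' in
lemma lift_zero (X : ModuleCat.{u} R) (hX : PureProj R X) (g : X ⟶ N'.X 0)
    (hg : g ≫ ε.f 0 = 0) : ∃ h : X ⟶ N'.X 1, h ≫ N'.d 1 0 = g := by
  obtain ⟨h, hh⟩ := pure_lift hX (N'.d 3 2).hom (N'.d 2 1).hom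
    (N'.d 1 0).hom (ε.f 0).hom (dd_apply N' _ _ _) (dd_apply N' _ _ _)
    (d_eps_apply N' ε) (ue_succ N' ε hN' 1) (ue_succ N' ε hN' 0) (ue_zero N' ε hN')
    g.hom (fun p => by
      have := LinearMap.congr_fun (congrArg ModuleCat.Hom.hom hg) p
      exact this)
  exact ⟨ModuleCat.ofHom h, ModuleCat.hom_ext hh⟩

include hN' in
lemma lift_eps (X : ModuleCat.{u} R) (hX : PureProj R X)
    (g : X ⟶ ((ChainComplex.single₀ (ModuleCat.{u} R)).obj N).X 0) :
    ∃ h : X ⟶ N'.X 0, h ≫ ε.f 0 = g := by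
  obtain ⟨h, hh⟩ := pure_lift hX (N'.d 2 1).hom (N'.d 1 0).hom
    (ε.f 0).hom (0 : ↑(((ChainComplex.single₀ (ModuleCat.{u} R)).obj N).X 0) →ₗ[R] PUnit.{u + 1})
    (dd_apply N' _ _ _) (d_eps_apply N' ε) (fun _ => rfl)
    (ue_succ N' ε hN' 0) (ue_zero N' ε hN') (ue_eps N' ε hN')
    g.hom (fun _ => rfl)
  exact ⟨ModuleCat.ofHom h, ModuleCat.hom_ext hh⟩

include hN' in
theorem main8775 {M : ModuleCat.{u} R} (f : M ⟶ N) (P : ChainComplex (ModuleCat.{u} R) ℕ)
    (π : P ⟶ (ChainComplex.single₀ (ModuleCat.{u} R)).obj M)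
    (hP : ∀ n : ℕ, PureProj R (P.X n)) :
    ∃ φ : P ⟶ N', φ ≫ ε = π ≫ (ChainComplex.single₀ (ModuleCat.{u} R)).map f := by
  obtain ⟨φ0, h0⟩ := lift_eps N' ε hN' (P.X 0) (hP 0)
    (π.f 0 ≫ ((ChainComplex.single₀ (ModuleCat.{u} R)).map f).f 0)
  have hπ : P.d 1 0 ≫ π.f 0 = 0 := by
    rw [← π.comm 1 0, HomologicalComplex.single_obj_d, Limits.comp_zero]
  obtain ⟨φ1, h1⟩ := lift_zero N' ε hN' (P.X 1) (hP 1) (P.d 1 0 ≫ φ0) (by
    rw [Category.assoc, h0, ← Category.assoc, hπ, Limits.zero_comp])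
  have hsucc : ∀ (n : ℕ) (p : Σ' (f : P.X n ⟶ N'.X n) (f' : P.X (n + 1) ⟶ N'.X (n + 1)),
      f' ≫ N'.d (n + 1) n = P.d (n + 1) n ≫ f),
      ∃ f'' : P.X (n + 2) ⟶ N'.X (n + 2), f'' ≫ N'.d (n + 2) (n + 1) = P.d (n + 2) (n + 1) ≫ p.2.1 := by
    rintro n ⟨f, f', hff⟩
    apply lift_succ N' ε hN' (P.X (n + 2)) (hP (n + 2)) n
    rw [Category.assoc, hff, ← Category.assoc, P.d_comp_d, Limits.zero_comp]
  refine ⟨ChainComplex.mkHom P N' φ0 φ1 h1
    (fun n p => ⟨Classical.choose (hsucc n p), Classical.choose_spec (hsucc n p)⟩), ?_⟩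
  apply HomologicalComplex.to_single_hom_ext
  rw [HomologicalComplex.comp_f, HomologicalComplex.comp_f, ChainComplex.mkHom_f_0]
  exact h0

include hN' in
theorem main8776 (P : ChainComplex (ModuleCat.{u} R) ℕ) (hP : ∀ n : ℕ, PureProj R (P.X n))
    (α β : P ⟶ N') (hαβ : α ≫ ε = β ≫ ε) : Nonempty (Homotopy α β) := by
  have he : ∀ i j, (α - β).f i ≫ N'.d i j = P.d i j ≫ (α - β).f j := fun i j => (α - β).comm i j
  have hε : (α - β).f 0 ≫ ε.f 0 = 0 := by
    rw [← HomologicalComplex.comp_f, Preadditive.sub_comp, hαβ, sub_self]; rfl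
  obtain ⟨z, hz⟩ := lift_zero N' ε hN' (P.X 0) (hP 0) ((α - β).f 0) hε
  obtain ⟨o, ho⟩ := lift_succ N' ε hN' (P.X 1) (hP 1) 0 ((α - β).f 1 - P.d 1 0 ≫ z) (by
    rw [Preadditive.sub_comp, Category.assoc, hz, he, sub_self])
  have hsucc : ∀ (n : ℕ) (p : Σ' (f : P.X n ⟶ N'.X (n + 1)) (f' : P.X (n + 1) ⟶ N'.X (n + 2)),
      (α - β).f (n + 1) = P.d (n + 1) n ≫ f + f' ≫ N'.d (n + 2) (n + 1)),
      ∃ f'' : P.X (n + 2) ⟶ N'.X (n + 3),
        (α - β).f (n + 2) = P.d (n + 2) (n + 1) ≫ p.2.1 + f'' ≫ N'.d (n + 3) (n + 2) := by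
    rintro n ⟨f, f', hff⟩
    obtain ⟨f'', hf''⟩ := lift_succ N' ε hN' (P.X (n + 2)) (hP (n + 2)) (n + 1)
      ((α - β).f (n + 2) - P.d (n + 2) (n + 1) ≫ f') (by
        have h2 : f' ≫ N'.d (n + 2) (n + 1) = (α - β).f (n + 1) - P.d (n + 1) n ≫ f :=
          eq_sub_of_add_eq' hff.symm
        rw [Preadditive.sub_comp, Category.assoc, h2, he, Preadditive.comp_sub,
          ← Category.assoc (P.d (n + 2) (n + 1)), P.d_comp_d, Limits.zero_comp, sub_zero, sub_self])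
    exact ⟨f'', by rw [hf'']; abel⟩
  refine ⟨Homotopy.equivSubZero.symm (Homotopy.mkInductive (α - β) z hz.symm o
    (by rw [ho]; abel)
    (fun n p => ⟨Classical.choose (hsucc n p), Classical.choose_spec (hsucc n p)⟩))⟩

end cat

end Groth.Agent.Lib.PureResH1
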