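import Mathlib
import Groth.Prelude.Def_CAlgX
import Groth.Agent.Lib.PureRes1_helper1

set_option autoImplicit false
set_option maxHeartbeats 1000000
universe u
open CategoryTheory TensorProduct

namespace Groth.Agent.Lib.PureResH1

section linalg2
variable {R : Type u} [CommRing R]

/-- pure injective -/
def PureInj (R : Type u) [CommRing R] (I : Type u) [AddCommGroup I] [Module R I] : Prop :=
  ∀ ⦃K L : Type u⦄ [AddCommGroup K] [Module R K] [AddCommGroup L] [Module R L] (g : K →ₗ[R] L),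
    CAlgX.UniversallyInjective R g → ∀ φ : K →ₗ[R] I, ∃ ψ : L →ₗ[R] I, ψ ∘ₗ g = φ

variable {I X Y Z : Type u} [AddCommGroup I] [Module R I] [AddCommGroup X] [Module R X]
  [AddCommGroup Y] [Module R Y] [AddCommGroup Z] [Module R Z]

lemma pure_ext (hI : PureInj R I) (a : X →ₗ[R] Y) (b : Y →ₗ[R] Z) (hba : ∀ x, b (a x) = 0)
    (h1 : UE a b) (g : Y →ₗ[R] I) (hg : ∀ x, g (a x) = 0) : ∃ h : Z →ₗ[R] I, h ∘ₗ b = g := by
  have hle : LinearMap.range a ≤ LinearMap.ker b := by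
    rintro _ ⟨x, rfl⟩; exact LinearMap.mem_ker.mpr (hba x)
  have hle' : LinearMap.range a ≤ LinearMap.ker g := by
    rintro _ ⟨x, rfl⟩; exact LinearMap.mem_ker.mpr (hg x)
  let bb : (Y ⧸ LinearMap.range a) →ₗ[R] Z := (LinearMap.range a).liftQ b hle
  let gg : (Y ⧸ LinearMap.range a) →ₗ[R] I := (LinearMap.range a).liftQ g hle'
  have hu : CAlgX.UniversallyInjective R bb := by
    intro Q _ _
    rw [injective_iff_map_eq_zero]
    intro z hz
    obtain ⟨y, rfl⟩ := LinearMap.rTensor_surjective Q (Submodule.mkQ_surjective (LinearMap.range a)) z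
    have hcomp : bb ∘ₗ (LinearMap.range a).mkQ = b := LinearMap.ext fun w => rfl
    have hy : b.rTensor Q y = 0 := by
      rw [← hcomp, LinearMap.rTensor_comp, LinearMap.comp_apply]; exact hz
    obtain ⟨w, rfl⟩ := h1 Q y hy
    rw [← LinearMap.comp_apply, ← LinearMap.rTensor_comp]
    have : (LinearMap.range a).mkQ ∘ₗ a = 0 := LinearMap.ext fun v => by
      show (LinearMap.range a).mkQ (a v) = 0
      rw [Submodule.mkQ_apply, Submodule.Quotient.mk_eq_zero]
      exact LinearMap.mem_range_self a v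
    rw [this, LinearMap.rTensor_zero, LinearMap.zero_apply]
  obtain ⟨ψ, hψ⟩ := hI bb hu gg
  refine ⟨ψ, LinearMap.ext fun y => ?_⟩
  have := LinearMap.congr_fun hψ ((LinearMap.range a).mkQ y)
  exact this

end linalg2

section cat2
variable {R : Type u} [CommRing R]
open MonoidalCategory

variable {M : ModuleCat.{u} R} (M' : CochainComplex (ModuleCat.{u} R) ℕ)
  (η : (CochainComplex.single₀ (ModuleCat.{u} R)).obj M ⟶ M')
  (hM' : ∀ T : ModuleCat.{u} R, QuasiIso (((MonoidalCategory.tensorRight T).mapHomologicalComplex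
    (ComplexShape.up ℕ)).map η))

include hM' in
lemma cue_succ (n : ℕ) : UE (M'.d n (n + 1)).hom (M'.d (n + 1) (n + 2)).hom := by
  intro Q _ _ y hy
  have := hM' (ModuleCat.of R Q)
  have hK : ((((MonoidalCategory.tensorRight (ModuleCat.of R Q)).mapHomologicalComplex
      (ComplexShape.up ℕ)).obj ((CochainComplex.single₀ (ModuleCat.{u} R)).obj M))).ExactAt (n + 1) := by
    apply ShortComplex.exact_of_isZero_X₂
    exact Functor.map_isZero (MonoidalCategory.tensorRight (ModuleCat.of R Q))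
      (HomologicalComplex.isZero_single_obj_X (ComplexShape.up ℕ) 0 M (n + 1) (by simp))
  have hL := (quasiIsoAt_iff_exactAt (((MonoidalCategory.tensorRight (ModuleCat.of R Q)).mapHomologicalComplex
      (ComplexShape.up ℕ)).map η) (n + 1) hK).mp inferInstance
  rw [HomologicalComplex.exactAt_iff' _ n (n + 1) (n + 2) (by simp) (by simp)] at hL
  rw [ShortComplex.moduleCat_exact_iff] at hL
  exact hL y hy

include hM' in
lemma cue_zero_aux (Q : Type u) [AddCommGroup Q] [Module R Q] :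
    (∀ y : ↑(M'.X 0) ⊗[R] Q, (M'.d 0 1).hom.rTensor Q y = 0 →
      ∃ x : ↑(((CochainComplex.single₀ (ModuleCat.{u} R)).obj M).X 0) ⊗[R] Q,
        (η.f 0).hom.rTensor Q x = y) ∧
    Function.Injective ((η.f 0).hom.rTensor Q) := by
  have := hM' (ModuleCat.of R Q)
  have h1 := (quasiIsoAt_iff' (((MonoidalCategory.tensorRight (ModuleCat.of R Q)).mapHomologicalComplex
      (ComplexShape.up ℕ)).map η) 0 0 1 (by exact CochainComplex.prev_nat_zero)
      (by exact CochainComplex.next ℕ 0)).mp inferInstance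
  rw [ShortComplex.quasiIso_iff_of_zeros _
    (by
      show (MonoidalCategory.tensorRight (ModuleCat.of R Q)).map
        (((CochainComplex.single₀ (ModuleCat.{u} R)).obj M).d 0 0) = 0
      rw [HomologicalComplex.single_obj_d]; exact Functor.map_zero _ _ _)
    (by
      show (MonoidalCategory.tensorRight (ModuleCat.of R Q)).map
        (((CochainComplex.single₀ (ModuleCat.{u} R)).obj M).d 0 1) = 0
      rw [HomologicalComplex.single_obj_d]; exact Functor.map_zero _ _ _)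
    (by
      show (MonoidalCategory.tensorRight (ModuleCat.of R Q)).map (M'.d 0 0) = 0
      rw [M'.shape 0 0 (by simp)]; exact Functor.map_zero _ _ _)] at h1
  obtain ⟨hex, hmono⟩ := h1
  rw [ShortComplex.moduleCat_exact_iff] at hex
  rw [ModuleCat.mono_iff_injective] at hmono
  exact ⟨fun y hy => hex y hy, hmono⟩

include hM' in
lemma cue_zero : UE (η.f 0).hom (M'.d 0 1).hom :=
  fun Q _ _ y hy => (cue_zero_aux M' η hM' Q).1 y hy

include hM' in
lemma cue_eta : UE (0 : PUnit.{u + 1} →ₗ[R]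
    ↑(((CochainComplex.single₀ (ModuleCat.{u} R)).obj M).X 0)) (η.f 0).hom :=
  fun Q _ _ y hy => ⟨0, by
    rw [map_zero]
    exact ((cue_zero_aux M' η hM' Q).2 (by rw [hy, map_zero])).symm⟩

lemma cdd_apply (K : CochainComplex (ModuleCat.{u} R) ℕ) (i j k : ℕ) (v : ↑(K.X i)) :
    (K.d j k).hom ((K.d i j).hom v) = 0 := by
  have h := K.d_comp_d i j k
  have : (K.d i j ≫ K.d j k).hom v = (0 : K.X i ⟶ K.X k).hom v := by rw [h]
  exact this

lemma eta_d_apply (v : ↑(((CochainComplex.single₀ (ModuleCat.{u} R)).obj M).X 0)) :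
    (M'.d 0 1).hom ((η.f 0).hom v) = 0 := by
  have h : η.f 0 ≫ M'.d 0 1 = 0 := by
    rw [η.comm 0 1, HomologicalComplex.single_obj_d, Limits.zero_comp]
  have : (η.f 0 ≫ M'.d 0 1).hom v = (0 : _ ⟶ M'.X 1).hom v := by rw [h]
  exact this

include hM' in
lemma ext_succ (Y : ModuleCat.{u} R) (hY : PureInj R Y) (k : ℕ) (g : M'.X (k + 1) ⟶ Y)
    (hg : M'.d k (k + 1) ≫ g = 0) : ∃ h : M'.X (k + 2) ⟶ Y, M'.d (k + 1) (k + 2) ≫ h = g := by
  obtain ⟨h, hh⟩ := pure_ext hY (M'.d k (k + 1)).hom (M'.d (k + 1) (k + 2)).hom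
    (cdd_apply M' _ _ _) (cue_succ M' η hM' k) g.hom (fun p => by
      have := LinearMap.congr_fun (congrArg ModuleCat.Hom.hom hg) p
      exact this)
  exact ⟨ModuleCat.ofHom h, ModuleCat.hom_ext hh⟩

include hM' in
lemma ext_zero (Y : ModuleCat.{u} R) (hY : PureInj R Y) (g : M'.X 0 ⟶ Y)
    (hg : η.f 0 ≫ g = 0) : ∃ h : M'.X 1 ⟶ Y, M'.d 0 1 ≫ h = g := by
  obtain ⟨h, hh⟩ := pure_ext hY (η.f 0).hom (M'.d 0 1).hom
    (eta_d_apply M' η) (cue_zero M' η hM') g.hom (fun p => by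
      have := LinearMap.congr_fun (congrArg ModuleCat.Hom.hom hg) p
      exact this)
  exact ⟨ModuleCat.ofHom h, ModuleCat.hom_ext hh⟩

include hM' in
lemma ext_eta (Y : ModuleCat.{u} R) (hY : PureInj R Y)
    (g : ((CochainComplex.single₀ (ModuleCat.{u} R)).obj M).X 0 ⟶ Y) :
    ∃ h : M'.X 0 ⟶ Y, η.f 0 ≫ h = g := by
  obtain ⟨h, hh⟩ := pure_ext hY (0 : PUnit.{u + 1} →ₗ[R]
      ↑(((CochainComplex.single₀ (ModuleCat.{u} R)).obj M).X 0)) (η.f 0).hom
    (fun _ => by rw [LinearMap.zero_apply, map_zero]) (cue_eta M' η hM') g.hom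
    (fun _ => by rw [LinearMap.zero_apply, map_zero])
  exact ⟨ModuleCat.ofHom h, ModuleCat.hom_ext hh⟩

include hM' in
theorem main8778 {N : ModuleCat.{u} R} (f : M ⟶ N) (I : CochainComplex (ModuleCat.{u} R) ℕ)
    (ε : (CochainComplex.single₀ (ModuleCat.{u} R)).obj N ⟶ I)
    (hI : ∀ n : ℕ, PureInj R (I.X n)) :
    ∃ φ : M' ⟶ I, η ≫ φ = (CochainComplex.single₀ (ModuleCat.{u} R)).map f ≫ ε := by
  obtain ⟨φ0, h0⟩ := ext_eta M' η hM' (I.X 0) (hI 0)
    (((CochainComplex.single₀ (ModuleCat.{u} R)).map f).f 0 ≫ ε.f 0)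
  have hε : ε.f 0 ≫ I.d 0 1 = 0 := by
    rw [ε.comm 0 1, HomologicalComplex.single_obj_d, Limits.zero_comp]
  obtain ⟨φ1, h1⟩ := ext_zero M' η hM' (I.X 1) (hI 1) (φ0 ≫ I.d 0 1) (by
    rw [← Category.assoc, h0, Category.assoc, hε, Limits.comp_zero])
  have hsucc : ∀ (n : ℕ) (p : Σ' (f : M'.X n ⟶ I.X n) (f' : M'.X (n + 1) ⟶ I.X (n + 1)),
      f ≫ I.d n (n + 1) = M'.d n (n + 1) ≫ f'),
      ∃ f'' : M'.X (n + 2) ⟶ I.X (n + 2),
        p.2.1 ≫ I.d (n + 1) (n + 2) = M'.d (n + 1) (n + 2) ≫ f'' := by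
    rintro n ⟨f, f', hff⟩
    obtain ⟨f'', hf''⟩ := ext_succ M' η hM' (I.X (n + 2)) (hI (n + 2)) n
      (f' ≫ I.d (n + 1) (n + 2)) (by
        rw [← Category.assoc, ← hff, Category.assoc, I.d_comp_d, Limits.comp_zero])
    exact ⟨f'', hf''.symm⟩
  refine ⟨CochainComplex.mkHom M' I φ0 φ1 h1.symm
    (fun n p => ⟨Classical.choose (hsucc n p), Classical.choose_spec (hsucc n p)⟩), ?_⟩
  apply HomologicalComplex.from_single_hom_ext
  rw [HomologicalComplex.comp_f, HomologicalComplex.comp_f, CochainComplex.mkHom_f_0]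
  exact h0

include hM' in
theorem main8779 (I : CochainComplex (ModuleCat.{u} R) ℕ) (hI : ∀ n : ℕ, PureInj R (I.X n))
    (α β : M' ⟶ I) (hαβ : η ≫ α = η ≫ β) : Nonempty (Homotopy α β) := by
  have he : ∀ i j, (α - β).f i ≫ I.d i j = M'.d i j ≫ (α - β).f j := fun i j => (α - β).comm i j
  have hη : η.f 0 ≫ (α - β).f 0 = 0 := by
    rw [← HomologicalComplex.comp_f, Preadditive.comp_sub, hαβ, sub_self]; rfl
  obtain ⟨z, hz⟩ := ext_zero M' η hM' (I.X 0) (hI 0) ((α - β).f 0) hη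
  obtain ⟨o, ho⟩ := ext_succ M' η hM' (I.X 1) (hI 1) 0 ((α - β).f 1 - z ≫ I.d 0 1) (by
    rw [Preadditive.comp_sub, ← Category.assoc, hz, he, sub_self])
  have hsucc : ∀ (n : ℕ) (p : Σ' (f : M'.X (n + 1) ⟶ I.X n) (f' : M'.X (n + 2) ⟶ I.X (n + 1)),
      (α - β).f (n + 1) = f ≫ I.d n (n + 1) + M'.d (n + 1) (n + 2) ≫ f'),
      ∃ f'' : M'.X (n + 3) ⟶ I.X (n + 2),
        (α - β).f (n + 2) = p.2.1 ≫ I.d (n + 1) (n + 2) + M'.d (n + 2) (n + 3) ≫ f'' := by
    rintro n ⟨f, f', hff⟩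
    obtain ⟨f'', hf''⟩ := ext_succ M' η hM' (I.X (n + 2)) (hI (n + 2)) (n + 1)
      ((α - β).f (n + 2) - f' ≫ I.d (n + 1) (n + 2)) (by
        have h2 : M'.d (n + 1) (n + 2) ≫ f' = (α - β).f (n + 1) - f ≫ I.d n (n + 1) :=
          eq_sub_of_add_eq' hff.symm
        rw [Preadditive.comp_sub, ← Category.assoc, h2, ← he, Preadditive.sub_comp,
          Category.assoc f, I.d_comp_d, Limits.comp_zero, sub_zero, sub_self])
    exact ⟨f'', by rw [hf'']; abel⟩
  refine ⟨Homotopy.equivSubZero.symm (Homotopy.mkCoinductive (α - β) z hz.symm o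
    (by rw [ho]; abel)
    (fun n p => ⟨Classical.choose (hsucc n p), Classical.choose_spec (hsucc n p)⟩))⟩

end cat2

end Groth.Agent.Lib.PureResH1
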