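import Mathlib
import Groth.Prelude.Def_CAlgX
import Groth.Agent.Lib.PureRes2_helper1

set_option autoImplicit false
set_option maxHeartbeats 1000000
universe u
open CategoryTheory TensorProduct

namespace Groth.Agent.Lib.PureResH1

section charmod
variable {R : Type u} [CommRing R]

lemma pureInj_characterModule (B : Type u) [AddCommGroup B] [Module R B] :
    PureInj R (CharacterModule B) := by
  intro K L _ _ _ _ g hg φ
  have h := (rTensor_injective_iff_lcomp_surjective (R := R) (B := B) (f := g)).mp (hg B)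
  obtain ⟨ψ, hψ⟩ := h φ
  exact ⟨ψ, hψ⟩

/-- evaluation into the double character module -/
noncomputable def ev (M : Type u) [AddCommGroup M] [Module R M] :
    M →ₗ[R] CharacterModule (CharacterModule M) where
  toFun m := (AddMonoidHom.mk' (fun χ : CharacterModule M => χ m) (fun _ _ => rfl) :
    CharacterModule M →+ AddCircle (1 : ℚ))
  map_add' m m' := by
    ext χ
    exact map_add χ m m'
  map_smul' r m := by
    ext χ
    rfl

lemma ev_apply (M : Type u) [AddCommGroup M] [Module R M] (m : M) (χ : CharacterModule M) :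
    ev (R := R) M m χ = χ m := rfl

noncomputable def flipC {M Q : Type u} [AddCommGroup M] [Module R M] [AddCommGroup Q] [Module R Q]
    (φ : M →ₗ[R] CharacterModule Q) : Q →ₗ[R] CharacterModule M where
  toFun q := (AddMonoidHom.mk' (fun m => φ m q) (fun a b => by rw [map_add]; rfl) :
    M →+ AddCircle (1 : ℚ))
  map_add' q q' := by
    ext m
    exact map_add (φ m) q q'
  map_smul' r q := by
    ext m
    show φ m (r • q) = φ (r • m) q
    have h : φ (r • m) = r • φ m := map_smul φ r m
    rw [h]; rfl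

lemma ev_uinj (M : Type u) [AddCommGroup M] [Module R M] :
    CAlgX.UniversallyInjective R (ev (R := R) M) := by
  intro Q _ _
  rw [rTensor_injective_iff_lcomp_surjective]
  intro φ
  refine ⟨CharacterModule.dual (flipC φ), ?_⟩
  ext m q
  rfl

variable {C E C' E' E₀ : Type u} [AddCommGroup C] [Module R C] [AddCommGroup E] [Module R E]
  [AddCommGroup C'] [Module R C'] [AddCommGroup E'] [Module R E'] [AddCommGroup E₀] [Module R E₀]

lemma ue_A (j : C →ₗ[R] E) (j' : (E ⧸ LinearMap.range j) →ₗ[R] E')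
    (hj' : CAlgX.UniversallyInjective R j') : UE j (j' ∘ₗ (LinearMap.range j).mkQ) := by
  intro Q _ _ y hy
  rw [LinearMap.rTensor_comp, LinearMap.comp_apply] at hy
  have h0 : (LinearMap.range j).mkQ.rTensor Q y = 0 := by
    apply hj' Q
    rw [hy, map_zero]
  have hex : Function.Exact j (LinearMap.range j).mkQ := LinearMap.exact_map_mkQ_range j
  have := rTensor_exact Q hex (Submodule.mkQ_surjective _)
  exact (this y).mp h0

lemma ue_B (p₀ : E₀ →ₗ[R] C) (hp₀ : Function.Surjective p₀) (j : C →ₗ[R] E)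
    (j' : (E ⧸ LinearMap.range j) →ₗ[R] E') (hj' : CAlgX.UniversallyInjective R j') :
    UE (j ∘ₗ p₀) (j' ∘ₗ (LinearMap.range j).mkQ) := by
  intro Q _ _ y hy
  obtain ⟨c, rfl⟩ := ue_A j j' hj' Q y hy
  obtain ⟨x, rfl⟩ := LinearMap.rTensor_surjective Q hp₀ c
  exact ⟨x, by rw [LinearMap.rTensor_comp, LinearMap.comp_apply]⟩

end charmod

section construct
variable {R : Type u} [CommRing R]

noncomputable def Cseq (M : ModuleCat.{u} R) : ℕ → ModuleCat.{u} R
  | 0 => M
  | n + 1 => ModuleCat.of R (CharacterModule (CharacterModule (Cseq M n)) ⧸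
      LinearMap.range (ev (R := R) (Cseq M n)))

noncomputable def Xseq (M : ModuleCat.{u} R) (n : ℕ) : ModuleCat.{u} R :=
  ModuleCat.of R (CharacterModule (CharacterModule (Cseq M n)))

noncomputable def dlin (M : ModuleCat.{u} R) (n : ℕ) :
    CharacterModule (CharacterModule (Cseq M n)) →ₗ[R]
      CharacterModule (CharacterModule (Cseq M (n + 1))) :=
  (ev (R := R) (Cseq M (n + 1))) ∘ₗ (LinearMap.range (ev (R := R) (Cseq M n))).mkQ

noncomputable def dseq (M : ModuleCat.{u} R) (n : ℕ) : Xseq M n ⟶ Xseq M (n + 1) :=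
  ModuleCat.ofHom (dlin M n)

lemma dlin_ev (M : ModuleCat.{u} R) (n : ℕ) (c : Cseq M n) :
    dlin M n (ev (R := R) (Cseq M n) c) = 0 := by
  show (ev (R := R) (Cseq M (n + 1))) ((LinearMap.range (ev (R := R) (Cseq M n))).mkQ
    (ev (R := R) (Cseq M n) c)) = 0
  have : (LinearMap.range (ev (R := R) (Cseq M n))).mkQ (ev (R := R) (Cseq M n) c) = 0 := by
    rw [Submodule.mkQ_apply, Submodule.Quotient.mk_eq_zero]
    exact LinearMap.mem_range_self _ c
  rw [this]
  exact map_zero (ev (R := R) (Cseq M (n + 1)))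

lemma dseq_sq (M : ModuleCat.{u} R) (n : ℕ) : dseq M n ≫ dseq M (n + 1) = 0 := by
  apply ModuleCat.hom_ext
  apply LinearMap.ext
  intro x
  show dlin M (n + 1) (dlin M n x) = 0
  exact dlin_ev M (n + 1) _

noncomputable def Icx (M : ModuleCat.{u} R) : CochainComplex (ModuleCat.{u} R) ℕ :=
  CochainComplex.of (Xseq M) (dseq M) (dseq_sq M)

lemma Icx_d (M : ModuleCat.{u} R) (n : ℕ) : (Icx M).d n (n + 1) = dseq M n :=
  CochainComplex.of_d _ _ n

noncomputable def eta0 (M : ModuleCat.{u} R) : M ⟶ (Icx M).X 0 :=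
  ModuleCat.ofHom (ev (R := R) (Cseq M 0))

lemma eta0_d (M : ModuleCat.{u} R) : eta0 M ≫ (Icx M).d 0 1 = 0 := by
  rw [Icx_d]
  apply ModuleCat.hom_ext
  apply LinearMap.ext
  intro x
  exact dlin_ev M 0 x

noncomputable def etaI (M : ModuleCat.{u} R) :
    (CochainComplex.single₀ (ModuleCat.{u} R)).obj M ⟶ Icx M :=
  (CochainComplex.fromSingle₀Equiv (Icx M) M).symm ⟨eta0 M, eta0_d M⟩

lemma etaI_f0 (M : ModuleCat.{u} R) : (etaI M).f 0 = eta0 M :=
  CochainComplex.fromSingle₀Equiv_symm_apply_f_zero _ _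

lemma ue_eta (M : ModuleCat.{u} R) : UE (ev (R := R) (Cseq M 0)) (dlin M 0) :=
  ue_A _ _ (ev_uinj _)

lemma ue_d (M : ModuleCat.{u} R) (n : ℕ) : UE (dlin M n) (dlin M (n + 1)) :=
  ue_B _ (Submodule.mkQ_surjective _) _ _ (ev_uinj _)

open MonoidalCategory in
lemma exactAt_of_ue (K : CochainComplex (ModuleCat.{u} R) ℕ) (T : ModuleCat.{u} R) (n : ℕ)
    (h : UE (K.d n (n + 1)).hom (K.d (n + 1) (n + 2)).hom) :
    (((MonoidalCategory.tensorRight T).mapHomologicalComplex (ComplexShape.up ℕ)).obj K).ExactAt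
      (n + 1) := by
  rw [HomologicalComplex.exactAt_iff' _ n (n + 1) (n + 2) (by simp) (by simp),
    ShortComplex.moduleCat_exact_iff]
  intro y hy
  exact h T y hy

open MonoidalCategory in
lemma quasiIsoAt_succ_of_ue {M : ModuleCat.{u} R} (K : CochainComplex (ModuleCat.{u} R) ℕ)
    (η : (CochainComplex.single₀ (ModuleCat.{u} R)).obj M ⟶ K) (T : ModuleCat.{u} R) (n : ℕ)
    (h : UE (K.d n (n + 1)).hom (K.d (n + 1) (n + 2)).hom) :
    QuasiIsoAt (((MonoidalCategory.tensorRight T).mapHomologicalComplex (ComplexShape.up ℕ)).map η)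
      (n + 1) := by
  have hK : ((((MonoidalCategory.tensorRight T).mapHomologicalComplex
      (ComplexShape.up ℕ)).obj ((CochainComplex.single₀ (ModuleCat.{u} R)).obj M))).ExactAt (n + 1) := by
    apply ShortComplex.exact_of_isZero_X₂
    exact Functor.map_isZero (MonoidalCategory.tensorRight T)
      (HomologicalComplex.isZero_single_obj_X (ComplexShape.up ℕ) 0 M (n + 1) (by simp))
  rw [quasiIsoAt_iff_exactAt _ (n + 1) hK]
  exact exactAt_of_ue K T n h

open MonoidalCategory in
lemma quasiIsoAt_zero_of_ue {M : ModuleCat.{u} R} (K : CochainComplex (ModuleCat.{u} R) ℕ)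
    (η : (CochainComplex.single₀ (ModuleCat.{u} R)).obj M ⟶ K) (T : ModuleCat.{u} R)
    (h1 : UE (η.f 0).hom (K.d 0 1).hom) (h2 : Function.Injective ((η.f 0).hom.rTensor T)) :
    QuasiIsoAt (((MonoidalCategory.tensorRight T).mapHomologicalComplex (ComplexShape.up ℕ)).map η)
      0 := by
  rw [quasiIsoAt_iff' _ 0 0 1 (by exact CochainComplex.prev_nat_zero)
      (by exact CochainComplex.next ℕ 0)]
  rw [ShortComplex.quasiIso_iff_of_zeros _
    (by
      show (MonoidalCategory.tensorRight T).map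
        (((CochainComplex.single₀ (ModuleCat.{u} R)).obj M).d 0 0) = 0
      rw [HomologicalComplex.single_obj_d]; exact Functor.map_zero _ _ _)
    (by
      show (MonoidalCategory.tensorRight T).map
        (((CochainComplex.single₀ (ModuleCat.{u} R)).obj M).d 0 1) = 0
      rw [HomologicalComplex.single_obj_d]; exact Functor.map_zero _ _ _)
    (by
      show (MonoidalCategory.tensorRight T).map (K.d 0 0) = 0
      rw [K.shape 0 0 (by simp)]; exact Functor.map_zero _ _ _)]
  refine ⟨?_, ?_⟩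
  · rw [ShortComplex.moduleCat_exact_iff]
    intro y hy
    exact h1 T y hy
  · rw [ModuleCat.mono_iff_injective]
    exact h2

theorem main8777 (M : ModuleCat.{u} R) :
    ∃ (I : CochainComplex (ModuleCat.{u} R) ℕ)
      (η : (CochainComplex.single₀ (ModuleCat.{u} R)).obj M ⟶ I),
      (∀ n : ℕ, PureInj R (I.X n)) ∧
      ∀ T : ModuleCat.{u} R, QuasiIso (((MonoidalCategory.tensorRight T).mapHomologicalComplex
        (ComplexShape.up ℕ)).map η) := by
  refine ⟨Icx M, etaI M, fun n => pureInj_characterModule _, fun T => ⟨fun i => ?_⟩⟩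
  cases i with
  | zero =>
    apply quasiIsoAt_zero_of_ue
    · rw [etaI_f0, Icx_d]
      exact ue_eta M
    · rw [etaI_f0]
      exact ev_uinj _ T
  | succ n =>
    apply quasiIsoAt_succ_of_ue
    rw [Icx_d, Icx_d]
    exact ue_d M n

end construct

end Groth.Agent.Lib.PureResH1
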