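import Mathlib
import Groth.Prelude.Def_CAlgX
import Groth.Agent.Lib.PureRes1_helper1
import Groth.Agent.S8770

set_option autoImplicit false
set_option maxHeartbeats 1000000
universe u
open CategoryTheory TensorProduct

namespace Groth.Agent.Lib.PureResH1

section cover
variable {R : Type u} [CommRing R]

/-- a direct summand of a direct sum of finitely presented modules -/
def IsSummandDF (R : Type u) [CommRing R] (P : Type u) [AddCommGroup P] [Module R P] : Prop :=
  ∃ (ι : Type u) (Q : ι → Type u) (_ : ∀ i, AddCommGroup (Q i)) (_ : ∀ i, Module R (Q i)),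
    (∀ i, Module.FinitePresentation R (Q i)) ∧
    ∃ (s : P →ₗ[R] (Π₀ i, Q i)) (r : (Π₀ i, Q i) →ₗ[R] P), r ∘ₗ s = LinearMap.id

lemma exists_cover (A : ModuleCat.{u} R) : ∃ (P : ModuleCat.{u} R) (g : P ⟶ A),
    IsSummandDF R P ∧ Function.Surjective g.hom ∧
      CAlgX.UniversallyInjective R (LinearMap.ker g.hom).subtype := by
  obtain ⟨ι, Q, i1, i2, hfp, g, hg, hu⟩ := Groth.Agent.S8770.result R A
  exact ⟨ModuleCat.of R (Π₀ i, Q i), ModuleCat.ofHom g,
    ⟨ι, Q, i1, i2, hfp, LinearMap.id, LinearMap.id, rfl⟩, hg, hu⟩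

noncomputable def cov (A : ModuleCat.{u} R) : ModuleCat.{u} R := Classical.choose (exists_cover A)

noncomputable def covMap (A : ModuleCat.{u} R) : cov A ⟶ A :=
  Classical.choose (Classical.choose_spec (exists_cover A))

lemma cov_spec (A : ModuleCat.{u} R) : IsSummandDF R (cov A) ∧ Function.Surjective (covMap A).hom ∧
    CAlgX.UniversallyInjective R (LinearMap.ker (covMap A).hom).subtype :=
  Classical.choose_spec (Classical.choose_spec (exists_cover A))

variable {E C E' E₂ : Type u} [AddCommGroup E] [Module R E] [AddCommGroup C] [Module R C]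
  [AddCommGroup E'] [Module R E'] [AddCommGroup E₂] [Module R E₂]

lemma ue_C (g : E →ₗ[R] C) (hg : Function.Surjective g) (g₂ : E₂ →ₗ[R] ↥(LinearMap.ker g))
    (hg₂ : Function.Surjective g₂) : UE ((LinearMap.ker g).subtype ∘ₗ g₂) g := by
  intro Q _ _ y hy
  have hex : Function.Exact (LinearMap.ker g).subtype g := LinearMap.exact_subtype_ker_map g
  have := rTensor_exact Q hex hg
  obtain ⟨c, rfl⟩ := (this y).mp hy
  obtain ⟨x, rfl⟩ := LinearMap.rTensor_surjective Q hg₂ c
  exact ⟨x, by rw [LinearMap.rTensor_comp, LinearMap.comp_apply]⟩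

lemma ue_post {X Y Z Z' : Type u} [AddCommGroup X] [Module R X] [AddCommGroup Y] [Module R Y]
    [AddCommGroup Z] [Module R Z] [AddCommGroup Z'] [Module R Z'] (a : X →ₗ[R] Y) (b : Y →ₗ[R] Z)
    (j : Z →ₗ[R] Z') (hj : CAlgX.UniversallyInjective R j) (h : UE a b) : UE a (j ∘ₗ b) := by
  intro Q _ _ y hy
  rw [LinearMap.rTensor_comp, LinearMap.comp_apply] at hy
  apply h Q y
  apply hj Q
  rw [hy, map_zero]

end cover

section construct
variable {R : Type u} [CommRing R]

noncomputable def Kseq (M : ModuleCat.{u} R) : ℕ → ModuleCat.{u} R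
  | 0 => M
  | n + 1 => ModuleCat.of R ↥(LinearMap.ker (covMap (Kseq M n)).hom)

noncomputable def Pseq (M : ModuleCat.{u} R) (n : ℕ) : ModuleCat.{u} R := cov (Kseq M n)

/-- `P_n → K_n` -/
noncomputable def glin (M : ModuleCat.{u} R) (n : ℕ) : ↑(Pseq M n) →ₗ[R] ↑(Kseq M n) :=
  (covMap (Kseq M n)).hom

lemma glin_surj (M : ModuleCat.{u} R) (n : ℕ) : Function.Surjective (glin M n) :=
  (cov_spec (Kseq M n)).2.1

/-- `K_{n+1} = ker g_n → P_n` -/
noncomputable def ilin (M : ModuleCat.{u} R) (n : ℕ) : ↑(Kseq M (n + 1)) →ₗ[R] ↑(Pseq M n) :=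
  (LinearMap.ker (glin M n)).subtype

lemma ilin_uinj (M : ModuleCat.{u} R) (n : ℕ) : CAlgX.UniversallyInjective R (ilin M n) :=
  (cov_spec (Kseq M n)).2.2

lemma glin_ilin (M : ModuleCat.{u} R) (n : ℕ) (c : ↑(Kseq M (n + 1))) :
    glin M n (ilin M n c) = 0 := by
  have hc : (ilin M n c) ∈ LinearMap.ker (glin M n) := Subtype.property (p := fun x => x ∈ LinearMap.ker (glin M n)) c
  exact LinearMap.mem_ker.mp hc

noncomputable def pdlin (M : ModuleCat.{u} R) (n : ℕ) : ↑(Pseq M (n + 1)) →ₗ[R] ↑(Pseq M n) :=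
  ilin M n ∘ₗ glin M (n + 1)

noncomputable def pdseq (M : ModuleCat.{u} R) (n : ℕ) : Pseq M (n + 1) ⟶ Pseq M n :=
  ModuleCat.ofHom (pdlin M n)

lemma pdseq_sq (M : ModuleCat.{u} R) (n : ℕ) : pdseq M (n + 1) ≫ pdseq M n = 0 := by
  apply ModuleCat.hom_ext
  apply LinearMap.ext
  intro x
  show ilin M n (glin M (n + 1) (ilin M (n + 1) (glin M (n + 2) x))) = 0
  rw [glin_ilin, map_zero]

noncomputable def Pcx (M : ModuleCat.{u} R) : ChainComplex (ModuleCat.{u} R) ℕ :=
  ChainComplex.of (Pseq M) (pdseq M) (pdseq_sq M)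

lemma Pcx_d (M : ModuleCat.{u} R) (n : ℕ) : (Pcx M).d (n + 1) n = pdseq M n :=
  ChainComplex.of_d _ _ n

noncomputable def pi0 (M : ModuleCat.{u} R) : (Pcx M).X 0 ⟶ M :=
  ModuleCat.ofHom (glin M 0)

lemma d_pi0 (M : ModuleCat.{u} R) : (Pcx M).d 1 0 ≫ pi0 M = 0 := by
  rw [Pcx_d]
  apply ModuleCat.hom_ext
  apply LinearMap.ext
  intro x
  show glin M 0 (ilin M 0 (glin M 1 x)) = 0
  rw [glin_ilin]

noncomputable def piP (M : ModuleCat.{u} R) :
    Pcx M ⟶ (ChainComplex.single₀ (ModuleCat.{u} R)).obj M :=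
  (ChainComplex.toSingle₀Equiv (Pcx M) M).symm ⟨pi0 M, d_pi0 M⟩

lemma piP_f0 (M : ModuleCat.{u} R) : (piP M).f 0 = pi0 M :=
  ChainComplex.toSingle₀Equiv_symm_apply_f_zero _ _

lemma pue_zero (M : ModuleCat.{u} R) : UE (pdlin M 0) (glin M 0) :=
  ue_C (glin M 0) (glin_surj M 0) (glin M 1) (glin_surj M 1)

lemma pue_succ (M : ModuleCat.{u} R) (n : ℕ) : UE (pdlin M (n + 1)) (pdlin M n) :=
  ue_post _ _ _ (ilin_uinj M n)
    (ue_C (glin M (n + 1)) (glin_surj M (n + 1)) (glin M (n + 2)) (glin_surj M (n + 2)))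

open MonoidalCategory in
lemma cquasiIsoAt_succ_of_ue {M : ModuleCat.{u} R} (K : ChainComplex (ModuleCat.{u} R) ℕ)
    (π : K ⟶ (ChainComplex.single₀ (ModuleCat.{u} R)).obj M) (T : ModuleCat.{u} R) (n : ℕ)
    (h : UE (K.d (n + 2) (n + 1)).hom (K.d (n + 1) n).hom) :
    QuasiIsoAt (((MonoidalCategory.tensorRight T).mapHomologicalComplex (ComplexShape.down ℕ)).map π)
      (n + 1) := by
  have hL : ((((MonoidalCategory.tensorRight T).mapHomologicalComplex
      (ComplexShape.down ℕ)).obj ((ChainComplex.single₀ (ModuleCat.{u} R)).obj M))).ExactAt (n + 1) := by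
    apply ShortComplex.exact_of_isZero_X₂
    exact Functor.map_isZero (MonoidalCategory.tensorRight T)
      (HomologicalComplex.isZero_single_obj_X (ComplexShape.down ℕ) 0 M (n + 1) (by simp))
  rw [quasiIsoAt_iff_exactAt' _ (n + 1) hL,
    HomologicalComplex.exactAt_iff' _ (n + 2) (n + 1) n (by simp) (by simp),
    ShortComplex.moduleCat_exact_iff]
  intro y hy
  exact h T y hy

open MonoidalCategory in
lemma cquasiIsoAt_zero_of_ue {M : ModuleCat.{u} R} (K : ChainComplex (ModuleCat.{u} R) ℕ)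
    (π : K ⟶ (ChainComplex.single₀ (ModuleCat.{u} R)).obj M) (T : ModuleCat.{u} R)
    (h1 : UE (K.d 1 0).hom (π.f 0).hom) (h2 : Function.Surjective ((π.f 0).hom.rTensor T)) :
    QuasiIsoAt (((MonoidalCategory.tensorRight T).mapHomologicalComplex (ComplexShape.down ℕ)).map π)
      0 := by
  rw [quasiIsoAt_iff' _ 1 0 0 (by exact ChainComplex.prev ℕ 0)
      (by exact ChainComplex.next_nat_zero)]
  rw [ShortComplex.quasiIso_iff_of_zeros' _
    (by
      show (MonoidalCategory.tensorRight T).map (K.d 0 0) = 0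
      rw [K.shape 0 0 (by simp)]; exact Functor.map_zero _ _ _)
    (by
      show (MonoidalCategory.tensorRight T).map
        (((ChainComplex.single₀ (ModuleCat.{u} R)).obj M).d 1 0) = 0
      rw [HomologicalComplex.single_obj_d]; exact Functor.map_zero _ _ _)
    (by
      show (MonoidalCategory.tensorRight T).map
        (((ChainComplex.single₀ (ModuleCat.{u} R)).obj M).d 0 0) = 0
      rw [HomologicalComplex.single_obj_d]; exact Functor.map_zero _ _ _)]
  refine ⟨?_, ?_⟩
  · rw [ShortComplex.moduleCat_exact_iff]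
    intro y hy
    exact h1 T y hy
  · rw [ModuleCat.epi_iff_surjective]
    exact h2

theorem main8774 (M : ModuleCat.{u} R) :
    ∃ (P : ChainComplex (ModuleCat.{u} R) ℕ)
      (π : P ⟶ (ChainComplex.single₀ (ModuleCat.{u} R)).obj M),
      (∀ n : ℕ, IsSummandDF R (P.X n)) ∧
      ∀ N : ModuleCat.{u} R, QuasiIso (((MonoidalCategory.tensorRight N).mapHomologicalComplex
        (ComplexShape.down ℕ)).map π) := by
  refine ⟨Pcx M, piP M, fun n => (cov_spec (Kseq M n)).1, fun T => ⟨fun i => ?_⟩⟩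
  cases i with
  | zero =>
    apply cquasiIsoAt_zero_of_ue
    · rw [piP_f0, Pcx_d]
      exact pue_zero M
    · rw [piP_f0]
      exact LinearMap.rTensor_surjective T (glin_surj M 0)
  | succ n =>
    apply cquasiIsoAt_succ_of_ue
    rw [Pcx_d, Pcx_d]
    exact pue_succ M n

end construct

end Groth.Agent.Lib.PureResH1
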