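import Mathlib
import Groth.Agent.Lib.FlatFibre_helper9
import Groth.Agent.Lib.Flat23_helper8
import Groth.Agent.Lib.McCoy_helper8
import Groth.Prelude.Def_FlatCA

set_option autoImplicit false
universe u

open TensorProduct

namespace Groth.Agent.Lib.PureSpreadH4

section L

variable {A : Type u} [CommRing A] {N M : Type u} [AddCommGroup N] [Module A N]
  [AddCommGroup M] [Module A M]

/-- If `u ⊗ A/m` is injective and `V` is killed by the maximal ideal `m`, then `u ⊗ V` is
injective. -/
theorem lTensor_injective_of_torsion (u : N →ₗ[A] M) (m : Ideal A) [m.IsMaximal]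
    (hm : Function.Injective (u.lTensor (A ⧸ m)))
    (V : Type u) [AddCommGroup V] [Module A V] (hV : ∀ a ∈ m, ∀ v : V, a • v = 0) :
    Function.Injective (u.lTensor V) := by
  let _ : Field (A ⧸ m) := Ideal.Quotient.field m
  have hT : Module.IsTorsionBySet A V (m : Set A) := by
    intro v a
    exact hV a.1 a.2 v
  letI : Module (A ⧸ m) V := hT.module
  haveI : IsScalarTower A (A ⧸ m) V := hT.isScalarTower
  let uk : (A ⧸ m) ⊗[A] N →ₗ[A ⧸ m] (A ⧸ m) ⊗[A] M := u.baseChange (A ⧸ m)
  have huk : Function.Injective uk := by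
    have : (uk : (A ⧸ m) ⊗[A] N → (A ⧸ m) ⊗[A] M) = u.lTensor (A ⧸ m) := by
      ext z; rfl
    rw [this]; exact hm
  have h1 : Function.Injective (uk.lTensor V) :=
    Module.Flat.lTensor_preserves_injective_linearMap (M := V) uk huk
  have key : ∀ w : V ⊗[A ⧸ m] ((A ⧸ m) ⊗[A] N),
      TensorProduct.AlgebraTensorModule.cancelBaseChange A (A ⧸ m) (A ⧸ m) V M (uk.lTensor V w) =
        u.lTensor V (TensorProduct.AlgebraTensorModule.cancelBaseChange A (A ⧸ m) (A ⧸ m) V N w) := by
    intro w
    induction w using TensorProduct.induction_on with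
    | zero => simp
    | tmul v y =>
      induction y using TensorProduct.induction_on with
      | zero => simp
      | tmul c n =>
        simp only [LinearMap.lTensor_tmul, uk, LinearMap.baseChange_tmul,
          TensorProduct.AlgebraTensorModule.cancelBaseChange_tmul]
      | add y₁ y₂ h₁ h₂ =>
        simp only [TensorProduct.tmul_add, map_add, h₁, h₂]
    | add w₁ w₂ h₁ h₂ => simp only [map_add, h₁, h₂]
  intro z₁ z₂ hz
  let e := TensorProduct.AlgebraTensorModule.cancelBaseChange A (A ⧸ m) (A ⧸ m) V N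
  obtain ⟨w₁, rfl⟩ := e.surjective z₁
  obtain ⟨w₂, rfl⟩ := e.surjective z₂
  congr 1
  apply h1
  apply (TensorProduct.AlgebraTensorModule.cancelBaseChange A (A ⧸ m) (A ⧸ m) V M).injective
  rw [key, key]
  exact hz

end L


section K

variable {A : Type u} [CommRing A] {N M : Type u} [AddCommGroup N] [Module A N]
  [AddCommGroup M] [Module A M]

theorem lid_lTensor (u : N →ₗ[A] M) (z : A ⊗[A] N) :
    TensorProduct.lid A M (u.lTensor A z) = u (TensorProduct.lid A N z) := by
  induction z using TensorProduct.induction_on with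
  | zero => simp
  | tmul a n => simp
  | add z₁ z₂ h₁ h₂ => simp only [map_add, h₁, h₂]

/-- Key step: if `x ∈ J N`, `u x ∈ I M` with `M` flat and `u` injective modulo the maximal
ideal `m`, then `x ∈ (m J + I ∩ J) N`. -/
theorem mem_smul_of_flat (u : N →ₗ[A] M) [Module.Flat A M] (m : Ideal A) [m.IsMaximal]
    (hm : Function.Injective (u.lTensor (A ⧸ m))) (J I : Ideal A) (x : N)
    (hxJ : x ∈ J • (⊤ : Submodule A N)) (hux : u x ∈ I • (⊤ : Submodule A M)) :
    x ∈ (m * J ⊔ I ⊓ J) • (⊤ : Submodule A N) := by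
  set K : Ideal A := m * J ⊔ I ⊓ J with hK
  have hKJ : K ≤ J := sup_le Ideal.mul_le_right inf_le_right
  let ιKJ : K →ₗ[A] J := Submodule.inclusion hKJ
  let q : J →ₗ[A] (↥J ⧸ LinearMap.range ιKJ) := (LinearMap.range ιKJ).mkQ
  have hex : Function.Exact ιKJ q := LinearMap.exact_map_mkQ_range ιKJ
  have hq : Function.Surjective q := Submodule.mkQ_surjective _
  have hV : ∀ a ∈ m, ∀ v : (↥J ⧸ LinearMap.range ιKJ), a • v = 0 := by
    intro a ha v
    obtain ⟨j, rfl⟩ := hq v
    rw [← map_smul]
    apply (hex _).mpr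
    refine ⟨⟨(a • j : J), ?_⟩, rfl⟩
    apply Ideal.mem_sup_left
    exact Ideal.mul_mem_mul ha j.2
  -- Step 1
  have hx' : x ∈ LinearMap.range ((TensorProduct.lid A N).toLinearMap.comp (J.subtype.rTensor N)) := by
    rw [Ideal.subtype_rTensor_range]; exact hxJ
  obtain ⟨ξ, hξ⟩ := hx'
  -- Step 2
  have h2 : (q.rTensor M) (u.lTensor J ξ) = 0 := by
    let ι' : (I ⊓ J : Ideal A) →ₗ[A] J := Submodule.inclusion inf_le_right
    have hex' : Function.Exact ι' (I.mkQ ∘ₗ J.subtype) := by
      intro j
      constructor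
      · intro h
        have hjI : (j : A) ∈ I := by
          have : I.mkQ (j : A) = 0 := h
          rwa [Submodule.mkQ_apply, Submodule.Quotient.mk_eq_zero] at this
        exact ⟨⟨(j : A), ⟨hjI, j.2⟩⟩, rfl⟩
      · rintro ⟨j', rfl⟩
        show I.mkQ ((j' : A)) = 0
        rw [Submodule.mkQ_apply, Submodule.Quotient.mk_eq_zero]
        exact j'.2.1
    have hexM := Module.Flat.rTensor_exact M hex'
    have hz : ((I.mkQ ∘ₗ J.subtype).rTensor M) (u.lTensor J ξ) = 0 := by
      rw [LinearMap.rTensor_comp, LinearMap.comp_apply]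
      apply (TensorProduct.quotTensorEquivQuotSMul M I).injective
      rw [map_zero]
      have e1 := LinearMap.congr_fun (TensorProduct.quotTensorEquivQuotSMul_comp_mkQ_rTensor
        (M := M) I) ((J.subtype.rTensor M) (u.lTensor J ξ))
      simp only [LinearMap.comp_apply, LinearEquiv.coe_coe] at e1
      rw [e1, Submodule.mkQ_apply, Submodule.Quotient.mk_eq_zero]
      have e2 : (J.subtype.rTensor M) (u.lTensor J ξ) = u.lTensor A ((J.subtype.rTensor N) ξ) := by
        rw [← LinearMap.comp_apply, ← LinearMap.comp_apply, LinearMap.rTensor_comp_lTensor,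
          LinearMap.lTensor_comp_rTensor]
      rw [e2, lid_lTensor]
      have : (TensorProduct.lid A N) ((J.subtype.rTensor N) ξ) = x := hξ
      rw [this]
      exact hux
    obtain ⟨η', hη'⟩ := (hexM _).mp hz
    rw [← hη', ← LinearMap.comp_apply, ← LinearMap.rTensor_comp]
    have : q ∘ₗ ι' = 0 := by
      ext j'
      apply (hex _).mpr
      exact ⟨⟨(j' : A), Ideal.mem_sup_right j'.2⟩, rfl⟩
    rw [this, LinearMap.rTensor_zero, LinearMap.zero_apply]
  -- Step 3, 4
  have h3 : (u.lTensor _) ((q.rTensor N) ξ) = 0 := by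
    rw [← LinearMap.comp_apply, LinearMap.lTensor_comp_rTensor, ← LinearMap.rTensor_comp_lTensor,
      LinearMap.comp_apply, h2]
  have h4 : (q.rTensor N) ξ = 0 :=
    lTensor_injective_of_torsion u m hm _ hV (by rw [h3, map_zero])
  -- Step 5
  obtain ⟨ξ', hξ'⟩ := (rTensor_exact N hex hq _).mp h4
  have : x ∈ LinearMap.range ((TensorProduct.lid A N).toLinearMap.comp (K.subtype.rTensor N)) := by
    refine ⟨ξ', ?_⟩
    rw [← hξ, ← hξ']
    simp only [LinearMap.comp_apply]
    rw [← LinearMap.comp_apply (J.subtype.rTensor N), ← LinearMap.rTensor_comp]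
    rfl
  rwa [Ideal.subtype_rTensor_range] at this

end K


section Content

variable {A : Type u} [CommRing A] {N M : Type u} [AddCommGroup N] [Module A N]
  [AddCommGroup M] [Module A M]

/-- An element of `J N` lies in `J₁ N` for a finitely generated `J₁ ≤ J`. -/
theorem exists_fg_le_of_mem_smul_top (J : Ideal A) (x : N) (hx : x ∈ J • (⊤ : Submodule A N)) :
    ∃ J₁ : Ideal A, J₁ ≤ J ∧ J₁.FG ∧ x ∈ J₁ • (⊤ : Submodule A N) := by
  refine Submodule.smul_induction_on hx ?_ ?_
  · intro r hr n _
    refine ⟨Ideal.span {r}, (Ideal.span_singleton_le_iff_mem J).mpr hr, ⟨{r}, by simp⟩, ?_⟩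
    exact Submodule.smul_mem_smul (Ideal.mem_span_singleton_self r) trivial
  · rintro y z ⟨J₁, h1, h2, h3⟩ ⟨J₂, h4, h5, h6⟩
    refine ⟨J₁ ⊔ J₂, sup_le h1 h4, Submodule.FG.sup h2 h5, ?_⟩
    exact add_mem (Submodule.smul_mono_left le_sup_left h3) (Submodule.smul_mono_left le_sup_right h6)

/-- Global Nakayama: a finitely generated ideal `J` with `J ≤ m J + I` for every maximal ideal
`m` is contained in `I`. -/
theorem le_of_forall_le_mul_sup (J I : Ideal A) (hJ : J.FG)
    (h : ∀ m : Ideal A, m.IsMaximal → J ≤ m * J ⊔ I) : J ≤ I := by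
  by_contra hne
  have hcol : (I : Submodule A A).colon (J : Set A) ≠ ⊤ := by
    intro htop
    apply hne
    intro j hj
    have h1 : (1 : A) ∈ (I : Submodule A A).colon (J : Set A) := by rw [htop]; trivial
    have := Submodule.mem_colon.mp h1 j hj
    simpa using this
  obtain ⟨m, hmmax, hle⟩ := Ideal.exists_le_maximal _ hcol
  let P : Submodule A (A ⧸ I) := Submodule.map (Submodule.mkQ I) J
  have hPfg : P.FG := Submodule.FG.map _ hJ
  have hPle : P ≤ m • P := by
    rintro _ ⟨j, hj, rfl⟩
    have hj' := h m hmmax hj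
    obtain ⟨y, hy, z, hz, rfl⟩ := Submodule.mem_sup.mp hj'
    rw [map_add]
    have hz0 : Submodule.mkQ I z = 0 := by
      rw [Submodule.mkQ_apply, Submodule.Quotient.mk_eq_zero]; exact hz
    rw [hz0, add_zero]
    have : Submodule.mkQ I y ∈ Submodule.map (Submodule.mkQ I) (m • (J : Submodule A A)) :=
      ⟨y, by simpa using hy, rfl⟩
    rwa [Submodule.map_smul''] at this
  obtain ⟨r, hr1, hr2⟩ := Submodule.exists_sub_one_mem_and_smul_eq_zero_of_fg_of_le_smul m P hPfg hPle
  have hrcol : r ∈ (I : Submodule A A).colon (J : Set A) := by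
    rw [Submodule.mem_colon]
    intro j hj
    have := hr2 (Submodule.mkQ I j) ⟨j, hj, rfl⟩
    rw [← map_smul, Submodule.mkQ_apply, Submodule.Quotient.mk_eq_zero] at this
    exact this
  have hrm : r ∈ m := hle hrcol
  have : (1 : A) ∈ m := by
    have := m.sub_mem hrm hr1
    simpa using this
  exact hmmax.ne_top ((Ideal.eq_top_iff_one m).mpr this)

/-- If `x` has content ideal `J` and `u x ∈ I M`, then `x ∈ I N`. -/
theorem mem_smul_of_content (u : N →ₗ[A] M) [Module.Flat A M]
    (hm : ∀ (m : Ideal A) [m.IsMaximal], Function.Injective (u.lTensor (A ⧸ m)))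
    (x : N) (J : Ideal A) (hxJ : x ∈ J • (⊤ : Submodule A N))
    (hJmin : ∀ J' : Ideal A, x ∈ J' • (⊤ : Submodule A N) → J ≤ J')
    (I : Ideal A) (hux : u x ∈ I • (⊤ : Submodule A M)) : x ∈ I • (⊤ : Submodule A N) := by
  have hJfg : J.FG := by
    obtain ⟨J₁, h1, h2, h3⟩ := exists_fg_le_of_mem_smul_top J x hxJ
    have : J = J₁ := le_antisymm (hJmin J₁ h3) h1
    rw [this]; exact h2
  have hJI : J ≤ I := by
    apply le_of_forall_le_mul_sup J I hJfg
    intro m hmmax
    haveI := hmmax
    have := mem_smul_of_flat u m (hm m) J I x hxJ hux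
    exact (hJmin _ this).trans (sup_le_sup_left inf_le_left _)
  exact Submodule.smul_mono_left hJI hxJ

/-- Universal injectivity from content ideals. -/
theorem univInj_of_content (u : N →ₗ[A] M) [Module.Flat A M]
    (hm : ∀ (m : Ideal A) [m.IsMaximal], Function.Injective (u.lTensor (A ⧸ m)))
    (hc : ∀ x : N, ∃ J : Ideal A, x ∈ J • (⊤ : Submodule A N) ∧
      ∀ J' : Ideal A, x ∈ J' • (⊤ : Submodule A N) → J ≤ J')
    (Q : Type u) [AddCommGroup Q] [Module A Q] : Function.Injective (u.lTensor Q) := by
  have hall : ∀ (I : Ideal A) (x : N), u x ∈ I • (⊤ : Submodule A M) →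
      x ∈ I • (⊤ : Submodule A N) := by
    intro I x hux
    obtain ⟨J, hxJ, hJmin⟩ := hc x
    exact mem_smul_of_content u hm x J hxJ hJmin I hux
  have hinj : Function.Injective u := by
    rw [injective_iff_map_eq_zero]
    intro x hx
    have := hall ⊥ x (by rw [hx]; exact zero_mem _)
    rwa [Submodule.bot_smul, Submodule.mem_bot] at this
  haveI : Module.Flat A (M ⧸ LinearMap.range u) := by
    apply Groth.Agent.Lib.McCoyH8.flat_coker
    intro I
    rw [Groth.Agent.Lib.FlatFibre.lTensor_quot_injective_iff]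
    exact hall I
  exact Flat23H8.lTensor_injective_of_flat_cokernel u (LinearMap.range u).mkQ hinj
    (Submodule.mkQ_surjective _) (LinearMap.exact_map_mkQ_range u) Q

end Content


section Proj

variable {A : Type u} [CommRing A]

theorem mem_smul_top_finsupp_iff {ι : Type*} (J : Ideal A) (y : ι →₀ A) :
    y ∈ J • (⊤ : Submodule A (ι →₀ A)) ↔ ∀ i, y i ∈ J := by
  classical
  constructor
  · intro h
    refine Submodule.smul_induction_on h ?_ ?_
    · intro r hr n _ i
      rw [Finsupp.smul_apply, smul_eq_mul]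
      exact J.mul_mem_right _ hr
    · intro a b ha hb i
      rw [Finsupp.add_apply]
      exact J.add_mem (ha i) (hb i)
  · intro h
    rw [← Finsupp.sum_single y]
    refine Submodule.sum_mem _ (fun i _ => ?_)
    have : Finsupp.single i (y i) = (y i) • (Finsupp.single i (1 : A)) := by
      rw [Finsupp.smul_single, smul_eq_mul, mul_one]
    rw [this]
    exact Submodule.smul_mem_smul (h i) trivial

theorem map_mem_smul_top {P P' : Type*} [AddCommGroup P] [Module A P] [AddCommGroup P']
    [Module A P'] (f : P →ₗ[A] P') (J : Ideal A) {x : P} (hx : x ∈ J • (⊤ : Submodule A P)) :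
    f x ∈ J • (⊤ : Submodule A P') :=
  Submodule.smul_top_le_comap_smul_top J f hx

/-- Elements of projective modules have content ideals. -/
theorem exists_content_of_projective (P : Type u) [AddCommGroup P] [Module A P]
    [Module.Projective A P] (x : P) :
    ∃ I : Ideal A, x ∈ I • (⊤ : Submodule A P) ∧
      ∀ J : Ideal A, x ∈ J • (⊤ : Submodule A P) → I ≤ J := by
  obtain ⟨s, hs⟩ := Module.projective_def'.mp (inferInstance : Module.Projective A P)
  have hiff : ∀ J : Ideal A, x ∈ J • (⊤ : Submodule A P) ↔ ∀ i, s x i ∈ J := by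
    intro J
    rw [← mem_smul_top_finsupp_iff]
    constructor
    · intro h; exact map_mem_smul_top s J h
    · intro h
      have := map_mem_smul_top (Finsupp.linearCombination A id) J h
      rwa [← LinearMap.comp_apply, hs, LinearMap.id_apply] at this
  refine ⟨Ideal.span (Set.range (s x)), ?_, ?_⟩
  · rw [hiff]
    intro i
    exact Ideal.subset_span ⟨i, rfl⟩
  · intro J hJ
    rw [Ideal.span_le]
    rintro _ ⟨i, rfl⟩
    exact (hiff J).mp hJ i

end Proj


section Spread

variable {A B : Type u} [CommRing A] [CommRing B] [Algebra A B] (T : Submonoid B)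
  (N : Type u) [AddCommGroup N] [Module (Localization T) N] [Module A N]
  [IsScalarTower A (Localization T) N]

theorem smul_mem_smul_top_of_mem (l : Localization T) (J : Ideal A) {x : N}
    (hx : x ∈ J • (⊤ : Submodule A N)) : l • x ∈ J • (⊤ : Submodule A N) := by
  refine Submodule.smul_induction_on hx ?_ ?_
  · intro r hr n _
    rw [smul_comm]
    exact Submodule.smul_mem_smul hr trivial
  · intro a b ha hb
    rw [smul_add]
    exact add_mem ha hb

theorem smul_mem_smul_top_iff (l : Localization T) (hl : IsUnit l) (J : Ideal A)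
    (x : N) : l • x ∈ J • (⊤ : Submodule A N) ↔ x ∈ J • (⊤ : Submodule A N) := by
  constructor
  · intro h
    obtain ⟨v, rfl⟩ := hl
    have := smul_mem_smul_top_of_mem T N (↑v⁻¹ : Localization T) J h
    rwa [smul_smul, Units.inv_mul, one_smul] at this
  · exact smul_mem_smul_top_of_mem T N l J

variable (C : Type u) [CommRing C] [Algebra B C] [Algebra C (Localization T)]
  [IsScalarTower B C (Localization T)] [Module C N] [IsScalarTower C (Localization T) N]
  (N' : Type u) [AddCommGroup N'] [Module C N'] (g : N' →ₗ[C] N)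

theorem algebraMap_smul_g (b : B) (n' : N') :
    (algebraMap B (Localization T) b) • g n' = g ((algebraMap B C b) • n') := by
  rw [map_smul, IsScalarTower.algebraMap_apply B C (Localization T),
    algebraMap_smul (Localization T) (algebraMap B C b) (g n')]

/-- Every element of `N = T⁻¹ N'` becomes an element of `N'` after multiplication by some
`t ∈ T`. -/
theorem exists_smul_eq_g (hbc : IsBaseChange (Localization T) g) (x : N) :
    ∃ t ∈ T, ∃ x' : N', (algebraMap B (Localization T) t) • x = g x' := by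
  refine hbc.inductionOn x (fun x => ∃ t ∈ T, ∃ x' : N',
    (algebraMap B (Localization T) t) • x = g x') ?_ ?_ ?_ ?_
  · exact ⟨1, T.one_mem, 0, by simp⟩
  · intro n'
    exact ⟨1, T.one_mem, n', by simp⟩
  · rintro l y ⟨t, ht, y', hy⟩
    obtain ⟨⟨b, s⟩, rfl⟩ := IsLocalization.mk'_surjective T l
    refine ⟨s * t, T.mul_mem s.2 ht, (algebraMap B C b) • y', ?_⟩
    have e : algebraMap B (Localization T) (s * t) * IsLocalization.mk' (Localization T) b s =
        algebraMap B (Localization T) b * algebraMap B (Localization T) t := by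
      rw [map_mul, mul_comm (algebraMap B (Localization T) (s : B)), mul_assoc,
        IsLocalization.mk'_spec', mul_comm]
    rw [← algebraMap_smul_g T N C N' g, ← hy, smul_smul, smul_smul, e]
  · rintro y₁ y₂ ⟨t₁, h₁, y₁', e₁⟩ ⟨t₂, h₂, y₂', e₂⟩
    refine ⟨t₁ * t₂, T.mul_mem h₁ h₂, (algebraMap B C t₂) • y₁' + (algebraMap B C t₁) • y₂', ?_⟩
    rw [map_add, ← algebraMap_smul_g T N C N' g, ← algebraMap_smul_g T N C N' g, ← e₁, ← e₂,
      smul_add, smul_smul, smul_smul, map_mul, mul_comm (algebraMap B (Localization T) t₂)]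

variable [Algebra A C] [IsScalarTower A C N] [Module A N'] [IsScalarTower A C N']

/-- Content ideals exist for elements of a module with a pure spreadout. -/
theorem exists_content_of_spreadout (hbc : IsBaseChange (Localization T) g)
    [Module.Projective A N']
    (huniv : ∀ (Q : Type u) [AddCommGroup Q] [Module A Q],
      Function.Injective ((g.restrictScalars A).lTensor Q)) (x : N) :
    ∃ I : Ideal A, x ∈ I • (⊤ : Submodule A N) ∧
      ∀ J : Ideal A, x ∈ J • (⊤ : Submodule A N) → I ≤ J := by
  obtain ⟨t, ht, x', hx'⟩ := exists_smul_eq_g T N C N' g hbc x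
  have hunit : IsUnit (algebraMap B (Localization T) t) :=
    IsLocalization.map_units (Localization T) (⟨t, ht⟩ : T)
  have hiff : ∀ J : Ideal A, x ∈ J • (⊤ : Submodule A N) ↔ x' ∈ J • (⊤ : Submodule A N') := by
    intro J
    rw [← smul_mem_smul_top_iff T N _ hunit J x, hx']
    constructor
    · intro h
      have hinj := huniv (A ⧸ J)
      rw [Groth.Agent.Lib.FlatFibre.lTensor_quot_injective_iff] at hinj
      exact hinj x' h
    · intro h
      exact map_mem_smul_top (g.restrictScalars A) J h
  obtain ⟨I, hI1, hI2⟩ := exists_content_of_projective (A := A) N' x'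
  refine ⟨I, (hiff I).mpr hI1, fun J hJ => hI2 J ((hiff J).mp hJ)⟩

end Spread

section Main


theorem main1293 {A B : Type u} [CommRing A] [CommRing B] [Algebra A B]
    (T : Submonoid B) (N : Type u) [AddCommGroup N] [Module (Localization T) N] [Module A N]
    [IsScalarTower A (Localization T) N]
    (h : FlatCA.HasPureSpreadout A B T N) :
    (∀ x : N, ∃ I : Ideal A, x ∈ I • (⊤ : Submodule A N) ∧
      ∀ J : Ideal A, x ∈ J • (⊤ : Submodule A N) → I ≤ J) ∧
    ∀ (M : Type u) [AddCommGroup M] [Module A M] [Module.Flat A M] (u : N →ₗ[A] M),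
      (∀ (m : Ideal A) [m.IsMaximal], Function.Injective (u.lTensor (A ⧸ m))) →
        FlatCA.UnivInj A u := by
  obtain ⟨C, i1, i2, i3, i4, i5, i6, i7, i8, i9, i10, N', i11, i12, i13, i14, g, _, _, hbc, hproj,
    huniv⟩ := h
  have hc : ∀ x : N, ∃ I : Ideal A, x ∈ I • (⊤ : Submodule A N) ∧
      ∀ J : Ideal A, x ∈ J • (⊤ : Submodule A N) → I ≤ J := by
    intro x
    exact exists_content_of_spreadout T N C N' g hbc huniv x
  refine ⟨hc, ?_⟩
  intro M _ _ _ u hm Q _ _
  exact univInj_of_content u hm hc Q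

end Main

end Groth.Agent.Lib.PureSpreadH4
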