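import Mathlib

set_option autoImplicit false

/-! Extension by the empty set along an open immersion, for sheaves of sets on a space. -/

namespace Groth.Agent.Lib.ShriekOpen_helper7
open CategoryTheory TopologicalSpace Opposite
universe u

section Thin
variable {α : Type u} [TopologicalSpace α]

lemma op_hom_eq {A B : (Opens α)ᵒᵖ} (f g : A ⟶ B) : f = g :=
  Quiver.Hom.unop_inj (Subsingleton.elim _ _)

lemma thin_eq (G : (Opens α)ᵒᵖ ⥤ Type u) {A B B' C : (Opens α)ᵒᵖ} (f : A ⟶ B) (g : B ⟶ C)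
    (f' : A ⟶ B') (g' : B' ⟶ C) (s : G.obj A) :
    G.map g (G.map f s) = G.map g' (G.map f' s) := by
  rw [← CategoryTheory.Functor.map_comp_apply, ← CategoryTheory.Functor.map_comp_apply,
    op_hom_eq (f ≫ g) (f' ≫ g')]

lemma thin_self (G : (Opens α)ᵒᵖ ⥤ Type u) {A B : (Opens α)ᵒᵖ} (f : A ⟶ B) (g : B ⟶ A)
    (s : G.obj A) : G.map g (G.map f s) = s := by
  rw [← CategoryTheory.Functor.map_comp_apply, op_hom_eq (f ≫ g) (𝟙 A),
    CategoryTheory.Functor.map_id_apply]

end Thin

variable {X : TopCat.{u}} (U : Opens X)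

/-- Image of an open of `U` in `X`. -/
def img (W : Opens U) : Opens X :=
  ⟨Subtype.val '' (W : Set U), U.isOpen.isOpenMap_subtype_val _ W.isOpen⟩

/-- Preimage of an open of `X` in `U`. -/
def pre (V : Opens X) : Opens U :=
  ⟨Subtype.val ⁻¹' (V : Set X), V.isOpen.preimage continuous_subtype_val⟩

lemma img_mono {W W' : Opens U} (h : W ≤ W') : img U W ≤ img U W' := by
  rintro x ⟨y, hy, rfl⟩
  exact ⟨y, h hy, rfl⟩

lemma pre_mono {V V' : Opens X} (h : V ≤ V') : pre U V ≤ pre U V' := fun _ hx => h hx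

lemma img_pre_le (V : Opens X) : img U (pre U V) ≤ V := by
  rintro x ⟨y, hy, rfl⟩
  exact hy

lemma le_img_pre (V : Opens X) (h : V ≤ U) : V ≤ img U (pre U V) :=
  fun x hx => ⟨⟨x, h hx⟩, hx, rfl⟩

lemma pre_img_le (W : Opens U) : pre U (img U W) ≤ W := by
  rintro x ⟨y, hy, hxy⟩
  exact (Subtype.ext hxy) ▸ hy

lemma le_pre_img (W : Opens U) : W ≤ pre U (img U W) := fun x hx => ⟨x, hx, rfl⟩

lemma img_le (W : Opens U) : img U W ≤ U := by
  rintro x ⟨y, _, rfl⟩
  exact y.2

/-- The restriction functor. -/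
noncomputable abbrev R : X.Sheaf (Type u) ⥤ (TopCat.of U).Sheaf (Type u) :=
  U.sheafRestrict (C := Type u)

/-- Sections over opens not contained in `U` are empty. -/
def P (G : X.Sheaf (Type u)) : Prop := ∀ V : Opens X, ¬ V ≤ U → IsEmpty (G.obj.obj (op V))

lemma P_iff_stalk (G : X.Sheaf (Type u)) :
    P U G ↔ ∀ x : X, x ∉ U → IsEmpty (G.presheaf.stalk x) := by
  constructor
  · intro hP x hx
    refine ⟨fun t => ?_⟩
    obtain ⟨V, m, s, -⟩ := TopCat.Presheaf.germ_exist G.presheaf t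
    exact (hP V (fun h => hx (h m))).false s
  · intro h V hV
    obtain ⟨x, hxV, hxU⟩ := SetLike.not_le_iff_exists.1 hV
    exact ⟨fun s => (h x hxU).false (G.presheaf.germ V x hxV s)⟩

variable {U} {G H : X.Sheaf (Type u)}

lemma leU (hP : P U G) {V : Opens X} (s : G.obj.obj (op V)) : V ≤ U := by
  by_contra h
  exact (hP V h).false s

lemma ψ_nat (ψ : (R U).obj G ⟶ (R U).obj H) {W W' : Opens U} (g : W' ⟶ W)
    (t : G.obj.obj (op (img U W))) :
    ψ.hom.app (op W') (G.obj.map (homOfLE (img_mono U g.le)).op t) =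
      H.obj.map (homOfLE (img_mono U g.le)).op (ψ.hom.app (op W) t) :=
  NatTrans.naturality_apply ψ.hom g.op t

/-- Extension of a morphism between restrictions, when the source has empty sections outside
`U`. -/
noncomputable def extend (hP : P U G) (ψ : (R U).obj G ⟶ (R U).obj H) : G ⟶ H :=
  ObjectProperty.homMk
  { app := fun V => TypeCat.ofHom (fun s : G.obj.obj V =>
      (H.obj.map (homOfLE (le_img_pre U V.unop (leU hP (V := V.unop) s))).op
        (ψ.hom.app (op (pre U V.unop))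
          (G.obj.map (homOfLE (img_pre_le U V.unop)).op s)) : H.obj.obj V))
    naturality := fun V V' f => by
      refine ConcreteCategory.hom_ext _ _ (fun s => ?_)
      let g : pre U V'.unop ⟶ pre U V.unop := homOfLE (pre_mono U f.unop.le)
      have hV : V.unop ≤ U := leU hP (V := V.unop) s
      have hV' : V'.unop ≤ U := f.unop.le.trans hV
      show H.obj.map (homOfLE (le_img_pre U V'.unop hV')).op
          (ψ.hom.app (op (pre U V'.unop))
            (G.obj.map (homOfLE (img_pre_le U V'.unop)).op (G.obj.map f s))) =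
        H.obj.map f (H.obj.map (homOfLE (le_img_pre U V.unop hV)).op
          (ψ.hom.app (op (pre U V.unop)) (G.obj.map (homOfLE (img_pre_le U V.unop)).op s)))
      have e1 : G.obj.map (homOfLE (img_pre_le U V'.unop)).op (G.obj.map f s) =
          G.obj.map (homOfLE (img_mono U g.le)).op
            (G.obj.map (homOfLE (img_pre_le U V.unop)).op s) :=
        thin_eq G.obj _ _ _ _ s
      rw [e1, ψ_nat ψ g]
      exact thin_eq H.obj _ _ _ _ _ }

lemma R_map_extend (hP : P U G) (ψ : (R U).obj G ⟶ (R U).obj H) :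
    (R U).map (extend hP ψ) = ψ := by
  refine ObjectProperty.hom_ext _ (NatTrans.ext (funext fun W =>
    ConcreteCategory.hom_ext _ _ fun s => ?_))
  let e : pre U (img U W.unop) ⟶ W.unop := homOfLE (pre_img_le U W.unop)
  show H.obj.map (homOfLE (le_img_pre U (img U W.unop) (img_le U W.unop))).op
      (ψ.hom.app (op (pre U (img U W.unop)))
        (G.obj.map (homOfLE (img_pre_le U (img U W.unop))).op s)) = ψ.hom.app W s
  have e1 : G.obj.map (homOfLE (img_pre_le U (img U W.unop))).op s =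
      G.obj.map (homOfLE (img_mono U e.le)).op s :=
    congrArg (fun m => G.obj.map m s) (op_hom_eq _ _)
  rw [e1, ψ_nat ψ e]
  exact thin_self H.obj _ _ _

lemma hom_eq_of_R (hP : P U G) (φ : G ⟶ H) (V : (Opens X)ᵒᵖ) (s : G.obj.obj V) :
    φ.hom.app V s = H.obj.map (homOfLE (le_img_pre U V.unop (leU hP (V := V.unop) s))).op
      (((R U).map φ).hom.app (op (pre U V.unop))
        (G.obj.map (homOfLE (img_pre_le U V.unop)).op s)) := by
  show _ = H.obj.map _ (φ.hom.app (op (img U (pre U V.unop)))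
    (G.obj.map (homOfLE (img_pre_le U V.unop)).op s))
  rw [NatTrans.naturality_apply φ.hom]
  exact (thin_self H.obj _ _ _).symm

lemma R_map_bijective (hP : P U G) (H : X.Sheaf (Type u)) :
    Function.Bijective (fun φ : G ⟶ H => (R U).map φ) := by
  refine ⟨fun φ φ' h => ?_, fun ψ => ⟨extend hP ψ, R_map_extend hP ψ⟩⟩
  have h' : (R U).map φ = (R U).map φ' := h
  refine ObjectProperty.hom_ext _ (NatTrans.ext (funext fun V =>
    ConcreteCategory.hom_ext _ _ fun s => ?_))
  rw [hom_eq_of_R hP φ, hom_eq_of_R hP φ', h']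

variable (L : (TopCat.of U).Sheaf (Type u) ⥤ X.Sheaf (Type u))
  (adj : L ⊣ U.sheafRestrict (C := Type u))

include adj in
lemma isIso_counit (hP : P U G) : IsIso (adj.counit.app G) := by
  rw [isIso_iff_coyoneda_map_bijective]
  intro T
  have key : ∀ x : G ⟶ T, adj.homEquiv _ _ (adj.counit.app G ≫ x) = (R U).map x := by
    intro x
    rw [Adjunction.homEquiv_unit, CategoryTheory.Functor.map_comp, ← Category.assoc,
      adj.right_triangle_components, Category.id_comp]
  refine ⟨fun x x' h => ?_, fun y => ?_⟩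
  · have h0 : adj.counit.app G ≫ x = adj.counit.app G ≫ x' := h
    have h2 : (R U).map x = (R U).map x' := by rw [← key x, ← key x', h0]
    exact (R_map_bijective hP T).1 h2
  · obtain ⟨x, hx⟩ := (R_map_bijective hP T).2 (adj.homEquiv _ _ y)
    have hx' : (R U).map x = adj.homEquiv _ _ y := hx
    refine ⟨x, ?_⟩
    show adj.counit.app G ≫ x = y
    apply (adj.homEquiv _ _).injective
    rw [key x, hx']

variable (U) in
/-- The subterminal sheaf represented by `U`. -/
def Epre : (Opens X)ᵒᵖ ⥤ Type u where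
  obj V := ULift.{u} (PLift (V.unop ≤ U))
  map {V V'} f := TypeCat.ofHom (fun h => ⟨⟨f.unop.le.trans h.down.down⟩⟩)
  map_id V := ConcreteCategory.hom_ext _ _ (fun h => Subsingleton.elim (α := ULift (PLift _)) _ _)
  map_comp f g :=
    ConcreteCategory.hom_ext _ _ (fun h => Subsingleton.elim (α := ULift (PLift _)) _ _)

variable (U) in
lemma Epre_isSheaf : Presheaf.IsSheaf (Opens.grothendieckTopology X) (Epre U) := by
  rw [isSheaf_iff_isSheaf_of_type]
  intro V S hS x hx
  have hV : V ≤ U := by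
    intro v hv
    obtain ⟨V', f, hf, hv'⟩ := hS v hv
    exact (x f hf).down.down hv'
  refine ⟨(⟨⟨hV⟩⟩ : ULift (PLift (V ≤ U))), fun V' f hf => ?_, fun t _ => ?_⟩
  · exact Subsingleton.elim (α := ULift (PLift (V' ≤ U))) _ _
  · exact Subsingleton.elim (α := ULift (PLift (V ≤ U))) _ _

variable (U) in
/-- The subterminal sheaf represented by `U`. -/
def E : X.Sheaf (Type u) := ⟨Epre U, Epre_isSheaf U⟩

variable (U) in
/-- Every sheaf on `U` maps to the restriction of `E`. -/
noncomputable def toRE (F : (TopCat.of U).Sheaf (Type u)) : F ⟶ (R U).obj (E U) :=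
  ObjectProperty.homMk
  { app := fun W => TypeCat.ofHom
      (fun _ => (⟨⟨img_le U W.unop⟩⟩ : ULift (PLift (img U W.unop ≤ U))))
    naturality := fun W W' f => ConcreteCategory.hom_ext _ _ (fun s =>
      Subsingleton.elim (α := ULift (PLift (img U W'.unop ≤ U))) _ _) }

include adj in
lemma P_L (F : (TopCat.of U).Sheaf (Type u)) : P U (L.obj F) := by
  intro V hV
  let m : L.obj F ⟶ E U := (adj.homEquiv F (E U)).symm (toRE U F)
  exact ⟨fun s => hV (m.hom.app (op V) s).down.down⟩

variable (U) in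
lemma R_essSurj (T : (TopCat.of U).Sheaf (Type u)) :
    ∃ H : X.Sheaf (Type u), Nonempty ((R U).obj H ≅ T) := by
  refine ⟨(TopCat.Sheaf.pushforward (Type u) U.inclusion').obj T, ⟨?_⟩⟩
  refine ObjectProperty.isoMk _ (NatIso.ofComponents (fun W => T.obj.mapIso
    (⟨(homOfLE (le_pre_img U W.unop)).op, (homOfLE (pre_img_le U W.unop)).op,
      op_hom_eq _ _, op_hom_eq _ _⟩ : op (pre U (img U W.unop)) ≅ W)) ?_)
  intro W W' f
  refine ConcreteCategory.hom_ext _ _ (fun s => ?_)
  exact thin_eq T.obj _ _ _ _ s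

include adj in
lemma unit_comp_bij (F : (TopCat.of U).Sheaf (Type u)) (H : X.Sheaf (Type u)) :
    Function.Bijective
      (fun y : (R U).obj (L.obj F) ⟶ (R U).obj H => adj.unit.app F ≫ y) := by
  have hρ := R_map_bijective (P_L L adj F) H
  have key : ∀ φ : L.obj F ⟶ H, adj.unit.app F ≫ (R U).map φ = adj.homEquiv F H φ :=
    fun φ => (Adjunction.homEquiv_unit adj F H φ).symm
  refine ⟨fun y₁ y₂ h => ?_, fun z => ?_⟩
  · have h0 : adj.unit.app F ≫ y₁ = adj.unit.app F ≫ y₂ := h
    obtain ⟨φ₁, h₁⟩ := hρ.2 y₁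
    obtain ⟨φ₂, h₂⟩ := hρ.2 y₂
    have h₁' : (R U).map φ₁ = y₁ := h₁
    have h₂' : (R U).map φ₂ = y₂ := h₂
    have h3 : adj.homEquiv F H φ₁ = adj.homEquiv F H φ₂ := by
      rw [← key φ₁, ← key φ₂, h₁', h₂', h0]
    have h4 : φ₁ = φ₂ := (adj.homEquiv F H).injective h3
    rw [← h₁', ← h₂', h4]
  · refine ⟨(R U).map ((adj.homEquiv F H).symm z), ?_⟩
    show adj.unit.app F ≫ (R U).map ((adj.homEquiv F H).symm z) = z
    rw [key, Equiv.apply_symm_apply]

include adj in
lemma isIso_unit (F : (TopCat.of U).Sheaf (Type u)) : IsIso (adj.unit.app F) := by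
  rw [isIso_iff_coyoneda_map_bijective]
  intro T
  obtain ⟨H, ⟨θ⟩⟩ := R_essSurj U T
  obtain ⟨hinj, hsurj⟩ := unit_comp_bij L adj F H
  constructor
  · intro y₁ y₂ h
    have h0 : adj.unit.app F ≫ y₁ = adj.unit.app F ≫ y₂ := h
    have h' : adj.unit.app F ≫ (y₁ ≫ θ.inv) = adj.unit.app F ≫ (y₂ ≫ θ.inv) := by
      rw [← Category.assoc, ← Category.assoc, h0]
    exact (cancel_mono θ.inv).1 (hinj h')
  · intro z
    obtain ⟨y, hy⟩ := hsurj (z ≫ θ.inv)
    have hy' : adj.unit.app F ≫ y = z ≫ θ.inv := hy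
    refine ⟨y ≫ θ.hom, ?_⟩
    show adj.unit.app F ≫ y ≫ θ.hom = z
    rw [← Category.assoc, hy', Category.assoc, θ.inv_hom_id, Category.comp_id]

include adj in
theorem main :
    L.Full ∧ L.Faithful ∧
    ∀ G : X.Sheaf (Type u), L.essImage G ↔ ∀ x : X, x ∉ U → IsEmpty (G.presheaf.stalk x) := by
  haveI : ∀ F, IsIso (adj.unit.app F) := isIso_unit L adj
  haveI : IsIso adj.unit := NatIso.isIso_of_isIso_app _
  have ff := adj.fullyFaithfulLOfIsIsoUnit
  refine ⟨ff.full, ff.faithful, fun G => ?_⟩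
  rw [← P_iff_stalk]
  constructor
  · rintro ⟨F, ⟨e⟩⟩ V hV
    exact ⟨fun s => (P_L L adj F V hV).false (e.inv.hom.app (op V) s)⟩
  · intro hP
    haveI := isIso_counit L adj hP
    exact ⟨(R U).obj G, ⟨asIso (adj.counit.app G)⟩⟩

end Groth.Agent.Lib.ShriekOpen_helper7
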