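import Mathlib
import Groth.Agent.Lib.ShriekOpen_helper7

set_option autoImplicit false

/-! Pushforward of sheaves of sets along a closed embedding. -/

namespace Groth.Agent.Lib.PushClosed_helper7
open CategoryTheory TopologicalSpace Opposite
open Groth.Agent.Lib.ShriekOpen_helper7 (op_hom_eq thin_eq thin_self)
universe u

lemma thin_eq₁ {α : Type u} [TopologicalSpace α] (G : (Opens α)ᵒᵖ ⥤ Type u)
    {A B C : (Opens α)ᵒᵖ} (f : A ⟶ B) (g : B ⟶ C) (h : A ⟶ C) (s : G.obj A) :
    G.map g (G.map f s) = G.map h s := by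
  rw [← CategoryTheory.Functor.map_comp_apply, op_hom_eq (f ≫ g) h]

variable {Z X : TopCat.{u}} (i : Z ⟶ X) (hi : Topology.IsClosedEmbedding i)

/-- The pushforward functor. -/
noncomputable abbrev Pi : Z.Sheaf (Type u) ⥤ X.Sheaf (Type u) :=
  TopCat.Sheaf.pushforward (Type u) i

include hi in
lemma le_ΨM (V : Opens X) : V ≤ hi.isInducing.functor.obj ((Opens.map i).obj V) :=
  hi.isInducing.le_functorObj_iff.2 le_rfl

include hi in
lemma MΨ_le (W : Opens Z) : (Opens.map i).obj (hi.isInducing.functor.obj W) ≤ W :=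
  (hi.isInducing.map_functorObj W).le

include hi in
lemma le_MΨ (W : Opens Z) : W ≤ (Opens.map i).obj (hi.isInducing.functor.obj W) :=
  (hi.isInducing.map_functorObj W).ge

/-- The open complement of the image. -/
def Cc : Opens X := ⟨(Set.range i)ᶜ, hi.isClosed_range.isOpen_compl⟩

lemma map_eq_bot {V : Opens X} (hV : V ≤ Cc i hi) : (Opens.map i).obj V = ⊥ := by
  refine le_bot_iff.1 (fun z hz => ?_)
  exact (hV hz ⟨z, rfl⟩).elim

/-- Sections over opens disjoint from the image are singletons. -/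
def C1 (G : X.Sheaf (Type u)) : Prop :=
  ∀ V : Opens X, V ≤ Cc i hi → Nonempty (Unique (G.obj.obj (op V)))

variable {i hi}

lemma C1.subsingleton {G : X.Sheaf (Type u)} (h : C1 i hi G) {V : Opens X} (hV : V ≤ Cc i hi)
    (s t : G.obj.obj (op V)) : s = t := by
  obtain ⟨u⟩ := h V hV
  exact (u.uniq s).trans (u.uniq t).symm

lemma stalk_of_C1 {G : X.Sheaf (Type u)} (h : C1 i hi G) (x : X) (hx : x ∉ Set.range i) :
    Nonempty (Unique (G.presheaf.stalk x)) := by
  have hxC : x ∈ Cc i hi := hx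
  obtain ⟨u⟩ := h (Cc i hi) le_rfl
  refine ⟨⟨⟨G.presheaf.germ (Cc i hi) x hxC u.default⟩, fun t => ?_⟩⟩
  obtain ⟨V, m, s, rfl⟩ := TopCat.Presheaf.germ_exist G.presheaf t
  refine TopCat.Presheaf.germ_ext G.presheaf (V ⊓ Cc i hi) ⟨m, hxC⟩ (Opens.infLELeft _ _)
    (Opens.infLERight _ _) ?_
  exact h.subsingleton inf_le_right _ _

lemma C1_of_stalk {G : X.Sheaf (Type u)}
    (h : ∀ x : X, x ∉ Set.range i → Nonempty (Unique (G.presheaf.stalk x))) : C1 i hi G := by
  have hsub : ∀ (V : Opens X), V ≤ Cc i hi → ∀ s t : G.obj.obj (op V), s = t := by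
    intro V hV s t
    refine TopCat.Presheaf.section_ext G V s t (fun x hx => ?_)
    obtain ⟨u⟩ := h x (hV hx)
    exact (u.uniq _).trans (u.uniq _).symm
  intro V hV
  rw [unique_iff_subsingleton_and_nonempty]
  refine ⟨⟨hsub V hV⟩, ?_⟩
  have hex : ∀ x : V, ∃ (Vx : Opens X) (_ : (x : X) ∈ Vx), Nonempty (G.obj.obj (op Vx)) := by
    intro x
    obtain ⟨u⟩ := h x (hV x.2)
    obtain ⟨Vx, m, s, -⟩ := TopCat.Presheaf.germ_exist G.presheaf u.default
    exact ⟨Vx, m, ⟨s⟩⟩
  choose Vx mx sx using hex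
  let Uf : V → Opens X := fun x => Vx x ⊓ V
  let sf : ∀ x : V, G.obj.obj (op (Uf x)) := fun x =>
    G.obj.map (Opens.infLELeft (Vx x) V).op (sx x).some
  have hcompat : TopCat.Presheaf.IsCompatible G.1 Uf sf := by
    intro x y
    exact hsub _ (inf_le_left.trans (inf_le_right.trans hV)) _ _
  have hcover : V ≤ iSup Uf := by
    intro x hx
    exact Opens.mem_iSup.2 ⟨⟨x, hx⟩, mx ⟨x, hx⟩, hx⟩
  obtain ⟨s, -, -⟩ := G.existsUnique_gluing' Uf V (fun x => Opens.infLERight (Vx x) V) hcover sf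
    hcompat
  exact ⟨s⟩

lemma C1_push (F : Z.Sheaf (Type u)) : C1 i hi ((Pi i).obj F) := by
  intro V hV
  exact ⟨(Limits.Types.isTerminalEquivUnique _) (F.isTerminalOfEqEmpty (map_eq_bot i hi hV))⟩

lemma iso_hom_inv_apply {G G' : X.Sheaf (Type u)} (e : G ≅ G') (V : (Opens X)ᵒᵖ)
    (s : G'.obj.obj V) : e.hom.hom.app V (e.inv.hom.app V s) = s :=
  congrArg (fun m : G' ⟶ G' => m.hom.app V s) e.inv_hom_id

lemma C1_of_iso {G G' : X.Sheaf (Type u)} (e : G ≅ G') (h : C1 i hi G) : C1 i hi G' := by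
  intro V hV
  obtain ⟨u⟩ := h V hV
  rw [unique_iff_subsingleton_and_nonempty]
  refine ⟨⟨fun s t => ?_⟩, ⟨e.hom.hom.app (op V) u.default⟩⟩
  rw [← iso_hom_inv_apply e (op V) s, ← iso_hom_inv_apply e (op V) t,
    h.subsingleton hV (e.inv.hom.app (op V) s) (e.inv.hom.app (op V) t)]

lemma Q_bij {G : X.Sheaf (Type u)} (hC1 : C1 i hi G) {V' V : Opens X} (h : V' ≤ V)
    (hM : (Opens.map i).obj V ≤ (Opens.map i).obj V') :
    Function.Bijective (G.obj.map (homOfLE h).op) := by
  have hV₀ : V ⊓ Cc i hi ≤ Cc i hi := inf_le_right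
  have hcover : V ≤ V' ⊔ (V ⊓ Cc i hi) := by
    intro x hx
    by_cases hxr : x ∈ Set.range i
    · obtain ⟨z, rfl⟩ := hxr
      exact Or.inl (hM hx)
    · exact Or.inr ⟨hx, hxr⟩
  constructor
  · intro s t hst
    exact G.eq_of_locally_eq₂ (homOfLE h) (homOfLE (inf_le_left : V ⊓ Cc i hi ≤ V)) hcover s t hst
      (hC1.subsingleton hV₀ _ _)
  · intro s'
    obtain ⟨u₀⟩ := hC1 (V ⊓ Cc i hi) hV₀
    let Uf : Bool → Opens X := fun b => cond b V' (V ⊓ Cc i hi)
    let sf : ∀ b, G.obj.obj (op (Uf b)) := fun b =>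
      Bool.rec (motive := fun b => G.obj.obj (op (Uf b))) u₀.default s' b
    have hle : ∀ b, Uf b ≤ V := fun b => by
      cases b
      · exact (inf_le_left : V ⊓ Cc i hi ≤ V)
      · exact h
    have hcompat : TopCat.Presheaf.IsCompatible G.1 Uf sf := by
      rintro (_ | _) (_ | _)
      · exact hC1.subsingleton (inf_le_left.trans hV₀) _ _
      · exact hC1.subsingleton (inf_le_left.trans hV₀) _ _
      · exact hC1.subsingleton (inf_le_right.trans hV₀) _ _
      · exact congrArg (fun m => G.obj.map m s') (op_hom_eq _ _)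
    have hcover' : V ≤ iSup Uf :=
      hcover.trans (sup_le (le_iSup Uf true) (le_iSup Uf false))
    obtain ⟨s, hs, -⟩ := G.existsUnique_gluing' Uf V (fun b => homOfLE (hle b)) hcover' sf hcompat
    exact ⟨s, hs true⟩

/-- The presheaf on `Z` attached to a sheaf on `X`. -/
noncomputable def Fpre (G : X.Sheaf (Type u)) : (Opens Z)ᵒᵖ ⥤ Type u :=
  hi.isInducing.functor.op ⋙ G.obj

lemma Fpre_isSheaf {G : X.Sheaf (Type u)} (hC1 : C1 i hi G) :
    TopCat.Presheaf.IsSheaf (Fpre (hi := hi) G) := by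
  refine TopCat.Presheaf.isSheaf_of_isSheafUniqueGluing_types _ ?_
  intro ι W sf hsf
  have hle : (⨆ a, hi.isInducing.functor.obj (W a)) ≤ hi.isInducing.functor.obj (iSup W) :=
    iSup_le (fun a => (hi.isInducing.functor.map (Opens.leSupr W a)).le)
  have hM : (Opens.map i).obj (hi.isInducing.functor.obj (iSup W)) ≤
      (Opens.map i).obj (⨆ a, hi.isInducing.functor.obj (W a)) := by
    intro z hz
    have hz' : z ∈ iSup W := MΨ_le i hi _ hz
    obtain ⟨a, ha⟩ := Opens.mem_iSup.1 hz'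
    have : z ∈ (Opens.map i).obj (hi.isInducing.functor.obj (W a)) := le_MΨ i hi _ ha
    exact Opens.mem_iSup.2 ⟨a, this⟩
  have hbij := Q_bij hC1 hle hM
  have hcompatG : TopCat.Presheaf.IsCompatible G.1 (fun a => hi.isInducing.functor.obj (W a)) sf := by
    intro a b
    have hk : hi.isInducing.functor.obj (W a) ⊓ hi.isInducing.functor.obj (W b) ≤
        hi.isInducing.functor.obj (W a ⊓ W b) := by
      refine hi.isInducing.le_functorObj_iff.2 (fun z hz => ?_)
      exact ⟨MΨ_le i hi _ hz.1, MΨ_le i hi _ hz.2⟩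
    have h1 := hsf a b
    have h2 : G.obj.map (hi.isInducing.functor.map (Opens.infLELeft (W a) (W b))).op (sf a) =
        G.obj.map (hi.isInducing.functor.map (Opens.infLERight (W a) (W b))).op (sf b) := h1
    have h3 := congrArg (G.obj.map (homOfLE hk).op) h2
    refine Eq.trans ?_ (h3.trans ?_)
    · exact (thin_eq₁ G.obj _ _ _ (sf a)).symm
    · exact thin_eq₁ G.obj _ _ _ (sf b)
  obtain ⟨s', hs', huniq⟩ :=
    G.existsUnique_gluing (fun a => hi.isInducing.functor.obj (W a)) sf hcompatG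
  obtain ⟨s, hs⟩ := hbij.2 s'
  refine ⟨s, fun a => ?_, fun s₂ hs₂ => ?_⟩
  · show G.obj.map (hi.isInducing.functor.map (Opens.leSupr W a)).op s = sf a
    rw [← hs' a, ← hs]
    exact (thin_eq₁ G.obj _ _ _ s).symm
  · apply hbij.1
    rw [hs]
    apply huniq
    intro a
    have h4 : G.obj.map (hi.isInducing.functor.map (Opens.leSupr W a)).op s₂ = sf a := hs₂ a
    rw [← h4]
    exact thin_eq₁ G.obj _ _ _ s₂

lemma mem_essImage_of_C1 {G : X.Sheaf (Type u)} (hC1 : C1 i hi G) : (Pi i).essImage G := by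
  let FG : Z.Sheaf (Type u) := ⟨Fpre (hi := hi) G, Fpre_isSheaf hC1⟩
  let αnat : ((Pi i).obj FG).obj ⟶ G.obj :=
    { app := fun V => G.obj.map (homOfLE (le_ΨM i hi V.unop)).op
      naturality := fun V V' f =>
        ConcreteCategory.hom_ext _ _ fun s => thin_eq G.obj _ _ _ _ s }
  haveI : ∀ V, IsIso (αnat.app V) := fun V =>
    (isIso_iff_bijective _).2 (Q_bij hC1 (le_ΨM i hi V.unop) (MΨ_le i hi _))
  haveI : IsIso αnat := NatIso.isIso_of_isIso_app _
  exact ⟨FG, ⟨ObjectProperty.isoMk _ (asIso αnat)⟩⟩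

section FF
variable {F F' : Z.Sheaf (Type u)}

lemma ψ_natZ (ψ : (Pi i).obj F ⟶ (Pi i).obj F') {V V' : Opens X} (g : V' ⟶ V)
    (t : F.obj.obj (op ((Opens.map i).obj V))) :
    ψ.hom.app (op V') (F.obj.map ((Opens.map i).map g).op t) =
      F'.obj.map ((Opens.map i).map g).op (ψ.hom.app (op V) t) :=
  NatTrans.naturality_apply ψ.hom g.op t

variable (hi) in
/-- Descend a morphism between pushforwards. -/
noncomputable def extendZ (ψ : (Pi i).obj F ⟶ (Pi i).obj F') : F ⟶ F' :=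
  ObjectProperty.homMk
  { app := fun W => TypeCat.ofHom (fun s : F.obj.obj W =>
      (F'.obj.map (homOfLE (le_MΨ i hi W.unop)).op
        (ψ.hom.app (op (hi.isInducing.functor.obj W.unop))
          (F.obj.map (homOfLE (MΨ_le i hi W.unop)).op s)) : F'.obj.obj W))
    naturality := fun W W' f => by
      refine ConcreteCategory.hom_ext _ _ (fun s => ?_)
      let g : hi.isInducing.functor.obj W'.unop ⟶ hi.isInducing.functor.obj W.unop :=
        hi.isInducing.functor.map f.unop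
      show F'.obj.map (homOfLE (le_MΨ i hi W'.unop)).op
          (ψ.hom.app (op (hi.isInducing.functor.obj W'.unop))
            (F.obj.map (homOfLE (MΨ_le i hi W'.unop)).op (F.obj.map f s))) =
        F'.obj.map f (F'.obj.map (homOfLE (le_MΨ i hi W.unop)).op
          (ψ.hom.app (op (hi.isInducing.functor.obj W.unop))
            (F.obj.map (homOfLE (MΨ_le i hi W.unop)).op s)))
      have e1 : F.obj.map (homOfLE (MΨ_le i hi W'.unop)).op (F.obj.map f s) =
          F.obj.map ((Opens.map i).map g).op (F.obj.map (homOfLE (MΨ_le i hi W.unop)).op s) :=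
        thin_eq F.obj _ _ _ _ s
      rw [e1, ψ_natZ ψ g]
      exact thin_eq F'.obj _ _ _ _ _ }

lemma Pi_map_extendZ (ψ : (Pi i).obj F ⟶ (Pi i).obj F') : (Pi i).map (extendZ hi ψ) = ψ := by
  refine ObjectProperty.hom_ext _ (NatTrans.ext (funext fun V =>
    ConcreteCategory.hom_ext _ _ fun s => ?_))
  let k : V.unop ⟶ hi.isInducing.functor.obj ((Opens.map i).obj V.unop) :=
    homOfLE (le_ΨM i hi V.unop)
  show F'.obj.map (homOfLE (le_MΨ i hi ((Opens.map i).obj V.unop))).op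
      (ψ.hom.app (op (hi.isInducing.functor.obj ((Opens.map i).obj V.unop)))
        (F.obj.map (homOfLE (MΨ_le i hi ((Opens.map i).obj V.unop))).op s)) = ψ.hom.app V s
  have e1 : F.obj.map ((Opens.map i).map k).op
      (F.obj.map (homOfLE (MΨ_le i hi ((Opens.map i).obj V.unop))).op s) = s :=
    thin_self F.obj _ _ s
  have e2 := ψ_natZ ψ k (F.obj.map (homOfLE (MΨ_le i hi ((Opens.map i).obj V.unop))).op s)
  rw [e1] at e2
  have e3 : ψ.hom.app V s = ψ.hom.app (op V.unop) s := rfl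
  rw [e3, e2]
  exact congrArg (fun m => F'.obj.map m _) (op_hom_eq _ _)

lemma hom_eq_of_Pi (α : F ⟶ F') (W : (Opens Z)ᵒᵖ) (s : F.obj.obj W) :
    α.hom.app W s = F'.obj.map (homOfLE (le_MΨ i hi W.unop)).op
      (((Pi i).map α).hom.app (op (hi.isInducing.functor.obj W.unop))
        (F.obj.map (homOfLE (MΨ_le i hi W.unop)).op s)) := by
  show _ = F'.obj.map _ (α.hom.app (op ((Opens.map i).obj (hi.isInducing.functor.obj W.unop)))
    (F.obj.map (homOfLE (MΨ_le i hi W.unop)).op s))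
  rw [NatTrans.naturality_apply α.hom]
  exact (thin_self F'.obj _ _ _).symm

end FF

include hi in
theorem main :
    (TopCat.Sheaf.pushforward (Type u) i).Full ∧ (TopCat.Sheaf.pushforward (Type u) i).Faithful ∧
    ∀ G : X.Sheaf (Type u), (TopCat.Sheaf.pushforward (Type u) i).essImage G ↔
      ∀ x : X, x ∉ Set.range i → Nonempty (Unique (G.presheaf.stalk x)) := by
  refine ⟨⟨fun {F F'} ψ => ⟨extendZ hi ψ, Pi_map_extendZ ψ⟩⟩, ⟨fun {F F'} α β h => ?_⟩,
    fun G => ⟨?_, fun h => mem_essImage_of_C1 (hi := hi) (C1_of_stalk h)⟩⟩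
  · refine ObjectProperty.hom_ext _ (NatTrans.ext (funext fun W =>
      ConcreteCategory.hom_ext _ _ fun s => ?_))
    rw [hom_eq_of_Pi (hi := hi) α, hom_eq_of_Pi (hi := hi) β, h]
  · rintro ⟨F, ⟨e⟩⟩
    exact stalk_of_C1 (C1_of_iso e (C1_push (hi := hi) F))

end Groth.Agent.Lib.PushClosed_helper7
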