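import Mathlib
import Groth.Prelude.Def_CohTop
import Groth.Agent.Lib.PushClosed_helper7

set_option autoImplicit false

/-! Pushforward of abelian sheaves along a closed embedding. -/

namespace Groth.Agent.Lib.PushClosedAb_helper7
open CategoryTheory TopologicalSpace Opposite Limits
open Groth.Agent.Lib.ShriekOpen_helper7 (op_hom_eq)
open Groth.Agent.Lib.PushClosed_helper7 (le_ΨM MΨ_le le_MΨ Cc map_eq_bot C1 Q_bij Fpre Fpre_isSheaf)
universe u

lemma thin_sq {α : Type u} [TopologicalSpace α] {C : Type*} [Category C] (G : (Opens α)ᵒᵖ ⥤ C)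
    {A B B' D : (Opens α)ᵒᵖ} (f : A ⟶ B) (g : B ⟶ D) (f' : A ⟶ B') (g' : B' ⟶ D) :
    G.map f ≫ G.map g = G.map f' ≫ G.map g' := by
  rw [← G.map_comp, ← G.map_comp, op_hom_eq (f ≫ g) (f' ≫ g')]

lemma thin_app {α : Type u} [TopologicalSpace α] (G : (Opens α)ᵒᵖ ⥤ AddCommGrpCat.{u})
    {A B D : (Opens α)ᵒᵖ} (f : A ⟶ B) (g : B ⟶ D) (h : A ⟶ D) (s : G.obj A) :
    G.map g (G.map f s) = G.map h s := by
  rw [← ConcreteCategory.comp_apply, ← G.map_comp, op_hom_eq (f ≫ g) h]

/-- Abelian sheaves on a space. -/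
abbrev AbS (X : TopCat.{u}) : Type (u + 1) :=
  Sheaf (Opens.grothendieckTopology X) AddCommGrpCat.{u}

variable {Z X : TopCat.{u}} (i : Z ⟶ X) (hi : Topology.IsClosedEmbedding i)

/-- The pushforward functor. -/
noncomputable abbrev Pa : AbS Z ⥤ AbS X := TopCat.Sheaf.pushforward AddCommGrpCat.{u} i

section FF

include hi in
lemma Ψ_full : hi.isInducing.functor.Full := by
  refine ⟨fun {W W'} f => ⟨homOfLE ?_, Subsingleton.elim _ _⟩⟩
  exact (le_MΨ i hi W).trans (((Opens.map i).map f).le.trans (MΨ_le i hi W'))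

include hi in
lemma isLoc : (Opens.map i).op.IsLocalization
    (((MorphismProperty.isomorphisms (Opens Z)).inverseImage (Opens.map i)).op) := by
  haveI := Ψ_full i hi
  haveI : hi.isInducing.functor.Faithful := ⟨fun {_ _} _ _ _ => Subsingleton.elim _ _⟩
  haveI := hi.isInducing.adjunction.isLocalization
  infer_instance

include hi in
lemma pre_full (C : Type*) [Category C] :
    ((Functor.whiskeringLeft (Opens X)ᵒᵖ (Opens Z)ᵒᵖ C).obj (Opens.map i).op).Full := by
  haveI := isLoc i hi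
  exact Localization.full_whiskeringLeft _
    (((MorphismProperty.isomorphisms (Opens Z)).inverseImage (Opens.map i)).op) C

include hi in
lemma pre_faithful (C : Type*) [Category C] :
    ((Functor.whiskeringLeft (Opens X)ᵒᵖ (Opens Z)ᵒᵖ C).obj (Opens.map i).op).Faithful := by
  haveI := isLoc i hi
  exact Localization.faithful_whiskeringLeft _
    (((MorphismProperty.isomorphisms (Opens Z)).inverseImage (Opens.map i)).op) C

include hi in
lemma Pa_full : (Pa i).Full := by
  haveI := pre_full i hi AddCommGrpCat.{u}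
  refine ⟨fun {F F'} ψ => ?_⟩
  obtain ⟨α, hα⟩ := ((Functor.whiskeringLeft (Opens X)ᵒᵖ (Opens Z)ᵒᵖ AddCommGrpCat.{u}).obj
    (Opens.map i).op).map_surjective (X := F.obj) (Y := F'.obj) ψ.hom
  exact ⟨ObjectProperty.homMk α, ObjectProperty.hom_ext _ hα⟩

include hi in
lemma Pa_faithful : (Pa i).Faithful := by
  haveI := pre_faithful i hi AddCommGrpCat.{u}
  refine ⟨fun {F F'} α β h => ?_⟩
  refine ObjectProperty.hom_ext _ ?_
  apply ((Functor.whiskeringLeft (Opens X)ᵒᵖ (Opens Z)ᵒᵖ AddCommGrpCat.{u}).obj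
    (Opens.map i).op).map_injective
  exact congrArg (fun m : (Pa i).obj F ⟶ (Pa i).obj F' => m.hom) h

end FF

lemma subsing (F : AbS Z) {W : Opens Z} (h : W = ⊥) : Subsingleton (F.obj.obj (op W)) := by
  have hT : IsTerminal (F.obj.obj (op W)) := TopCat.Sheaf.isTerminalOfEqEmpty F h
  have hZ : IsZero (F.obj.obj (op W)) :=
    (isZero_zero _).of_iso (hT.uniqueUpToIso HasZeroObject.zeroIsTerminal)
  exact AddCommGrpCat.subsingleton_of_isZero hZ

include hi in
lemma Pa_epi {F F' : AbS Z} (φ : F ⟶ F') [hφ : Epi φ] : Epi ((Pa i).map φ) := by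
  have h1 := (TopCat.Sheaf.isLocallySurjective_iff_epi φ).mpr hφ
  have h2 := (TopCat.Presheaf.isLocallySurjective_iff φ.hom).mp h1
  refine (TopCat.Sheaf.isLocallySurjective_iff_epi ((Pa i).map φ)).mp ?_
  refine (TopCat.Presheaf.isLocallySurjective_iff _).mpr ?_
  intro V t x hx
  by_cases hxr : x ∈ Set.range i
  · obtain ⟨z, rfl⟩ := hxr
    obtain ⟨W, hW, ⟨s, hs⟩, hzW⟩ := h2 ((Opens.map i).obj V) t z hx
    have hM : (Opens.map i).obj (V ⊓ hi.isInducing.functor.obj W) ≤ W := by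
      intro y hy
      exact MΨ_le i hi W hy.2
    refine ⟨V ⊓ hi.isInducing.functor.obj W, inf_le_left,
      ⟨F.obj.map (homOfLE hM).op s, ?_⟩, ⟨hx, le_MΨ i hi W hzW⟩⟩
    show φ.hom.app (op ((Opens.map i).obj (V ⊓ hi.isInducing.functor.obj W)))
        (F.obj.map (homOfLE hM).op s) =
      F'.obj.map ((Opens.map i).map (homOfLE (inf_le_left :
        V ⊓ hi.isInducing.functor.obj W ≤ V))).op t
    have hs' : φ.hom.app (op W) s = F'.obj.map (homOfLE hW).op t := hs
    rw [NatTrans.naturality_apply φ.hom, hs']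
    exact thin_app F'.obj _ _ _ t
  · have hb : (Opens.map i).obj (V ⊓ Cc i hi) = ⊥ := map_eq_bot i hi inf_le_right
    refine ⟨V ⊓ Cc i hi, inf_le_left,
      ⟨(0 : F.obj.obj (op ((Opens.map i).obj (V ⊓ Cc i hi)))), ?_⟩, ⟨hx, hxr⟩⟩
    exact (subsing F' hb).elim _ _

include hi in
lemma Pa_pfc [(Pa i).Additive] : PreservesFiniteColimits (Pa i) := by
  rw [Functor.preservesFiniteColimits_iff_forall_exact_map_and_epi]
  intro S hS
  haveI : PreservesLimitsOfSize.{0, 0} (Pa i) :=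
    (TopCat.Sheaf.pullbackPushforwardAdjunction AddCommGrpCat.{u} i).rightAdjoint_preservesLimits
  have hlim : PreservesFiniteLimits (Pa i) := inferInstance
  have h1 := (Functor.preservesFiniteLimits_iff_forall_exact_map_and_mono (Pa i)).1 hlim S hS
  haveI := hS.epi_g
  exact ⟨h1.1, Pa_epi i hi S.g⟩

section Ess

/-- The underlying sheaf of sets. -/
noncomputable def und (G : AbS X) : X.Sheaf (Type u) :=
  (sheafCompose (Opens.grothendieckTopology X) (forget AddCommGrpCat.{u})).obj G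

variable {i hi}

lemma C1_und {G : AbS X}
    (h : ∀ x : X, x ∉ Set.range i →
      IsZero (TopCat.Presheaf.stalk (C := AddCommGrpCat.{u}) G.obj x)) :
    C1 i hi (und G) := by
  intro V hV
  have hsub : ∀ s t : G.obj.obj (op V), s = t := by
    intro s t
    refine TopCat.Presheaf.section_ext G V s t (fun x hx => ?_)
    haveI := AddCommGrpCat.subsingleton_of_isZero (h x (hV hx))
    exact Subsingleton.elim _ _
  exact ⟨⟨⟨(0 : G.obj.obj (op V))⟩, fun t => hsub _ _⟩⟩

lemma Q_iso {G : AbS X} (hC1 : C1 i hi (und G)) {V' V : Opens X} (h : V' ≤ V)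
    (hM : (Opens.map i).obj V ≤ (Opens.map i).obj V') :
    IsIso (G.obj.map (homOfLE h).op) := by
  have hb : Function.Bijective ((und G).obj.map (homOfLE h).op) := Q_bij hC1 h hM
  exact (ConcreteCategory.isIso_iff_bijective _).2 hb

/-- The sheaf on `Z`. -/
noncomputable def FGa (G : AbS X) (hC1 : C1 i hi (und G)) : AbS Z :=
  ⟨hi.isInducing.functor.op ⋙ G.obj, by
    rw [Presheaf.isSheaf_iff_isSheaf_forget (s := forget AddCommGrpCat.{u})]
    exact Fpre_isSheaf (hi := hi) hC1⟩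

lemma mem_essImage {G : AbS X} (hC1 : C1 i hi (und G)) : (Pa i).essImage G := by
  let αnat : ((Pa i).obj (FGa G hC1)).obj ⟶ G.obj :=
    { app := fun V => G.obj.map (homOfLE (le_ΨM i hi V.unop)).op
      naturality := fun V V' f => thin_sq G.obj _ _ _ _ }
  haveI : ∀ V, IsIso (αnat.app V) := fun V =>
    Q_iso hC1 (le_ΨM i hi V.unop) (MΨ_le i hi _)
  haveI : IsIso αnat := NatIso.isIso_of_isIso_app _
  exact ⟨FGa G hC1, ⟨ObjectProperty.isoMk _ (asIso αnat)⟩⟩

include hi in
variable (i) in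
lemma stalk_zero (F : AbS Z) (x : X) (hx : x ∉ Set.range i) :
    IsZero (TopCat.Presheaf.stalk (C := AddCommGrpCat.{u}) ((Pa i).obj F).obj x) := by
  have key : ∀ t : (TopCat.Presheaf.stalk (C := AddCommGrpCat.{u}) ((Pa i).obj F).obj x :
      AddCommGrpCat.{u}), t = 0 := by
    intro t
    obtain ⟨V, m, s, rfl⟩ := TopCat.Presheaf.germ_exist ((Pa i).obj F).obj t
    have hxC : x ∈ Cc i hi := hx
    have hb : (Opens.map i).obj (V ⊓ Cc i hi) = ⊥ := map_eq_bot i hi inf_le_right
    have h0 : ((Pa i).obj F).obj.map (homOfLE (inf_le_left : V ⊓ Cc i hi ≤ V)).op s = 0 :=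
      (subsing F hb).elim _ _
    rw [← TopCat.Presheaf.germ_res_apply ((Pa i).obj F).obj
      (homOfLE (inf_le_left : V ⊓ Cc i hi ≤ V)) x ⟨m, hxC⟩ s, h0]
    exact map_zero _
  haveI : Subsingleton (TopCat.Presheaf.stalk (C := AddCommGrpCat.{u}) ((Pa i).obj F).obj x :
      AddCommGrpCat.{u}) := ⟨fun a b => by rw [key a, key b]⟩
  exact AddCommGrpCat.isZero_of_subsingleton _

end Ess

include hi in
theorem main [(Pa i).Additive] :
    PreservesFiniteColimits (Pa i) ∧ (Pa i).Full ∧ (Pa i).Faithful ∧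
      (∀ F : AbS X, (Pa i).essImage F ↔ ∀ x : X, x ∉ Set.range i →
        IsZero (TopCat.Presheaf.stalk (C := AddCommGrpCat.{u}) F.obj x)) ∧
      Nonempty (Pa i ⋙ TopCat.Sheaf.pullback AddCommGrpCat.{u} i ≅ 𝟭 (AbS Z)) := by
  have adj := TopCat.Sheaf.pullbackPushforwardAdjunction AddCommGrpCat.{u} i
  haveI hF : (TopCat.Sheaf.pushforward AddCommGrpCat.{u} i).Full := Pa_full i hi
  haveI hFa : (TopCat.Sheaf.pushforward AddCommGrpCat.{u} i).Faithful := Pa_faithful i hi
  haveI : IsIso adj.counit := Adjunction.counit_isIso_of_R_fully_faithful adj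
  have e0 := asIso adj.counit
  refine ⟨Pa_pfc i hi, Pa_full i hi, Pa_faithful i hi, fun G => ⟨?_, fun h =>
    mem_essImage (hi := hi) (C1_und h)⟩, ⟨e0⟩⟩
  rintro ⟨F, ⟨e⟩⟩ x hx
  have e' : TopCat.Presheaf.stalk (C := AddCommGrpCat.{u}) ((Pa i).obj F).obj x ≅
      TopCat.Presheaf.stalk (C := AddCommGrpCat.{u}) G.obj x :=
    (TopCat.Presheaf.stalkFunctor AddCommGrpCat.{u} x).mapIso ((sheafToPresheaf _ _).mapIso e)
  exact (stalk_zero i (hi := hi) F x hx).of_iso e'.symm

end Groth.Agent.Lib.PushClosedAb_helper7
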