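import Mathlib
import Groth.Prelude
import Groth.Agent.Lib.ReflExt1_helper8
import Groth.Agent.Lib.HartConv1_helper8

/-!
# `j_*(F|_U)` coherent: depth at least two off `U` and the universal property (helper2)
APPEND-ONLY once landed.
-/

set_option autoImplicit false
universe u

open CategoryTheory AlgebraicGeometry TopologicalSpace Opposite IsLocalRing
open QcqsLoc GenLocH8 SecOrdH8 FLFH8 QCohExtn RefHullH8 RefBasisH8 HomLinH8 SDivGenH8 SDivFreeH8

namespace Groth.Agent.Lib.PushCohDepth

variable {X : Scheme.{u}}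

/-- a restriction map between equal opens is bijective -/
theorem map_bijective {Z : Scheme.{u}} (G : Z.Modules) {A B : Z.Opens} (f : A ⟶ B) (hBA : B ≤ A) :
    Function.Bijective (G.presheaf.map f.op) := by
  have e : A = B := le_antisymm (leOfHom f) hBA
  subst e
  have hf : f = 𝟙 A := Subsingleton.elim _ _
  subst hf
  rw [op_id, G.presheaf.map_id]
  constructor
  · intro a b h
    simpa using h
  · intro b
    exact ⟨b, by simp⟩

/-- part (a): depth at least two of `j_*(F|_U)` at the points outside `U` -/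
theorem two_le_depth_push [IsLocallyNoetherian X] (U : X.Opens) (F : X.Modules)
    (hF' : Coh.IsCoh ((Coh.push U.ι).obj (F.restrict U.ι))) (x : X) (hx : x ∉ U) :
    (2 : ℕ∞) ≤ LocCoh.depth (X.presheaf.stalk x)
      (((Coh.push U.ι).obj (F.restrict U.ι)).presheaf.stalk x) := by
  haveI : ((Coh.push U.ι).obj (F.restrict U.ι)).IsQuasicoherent := hF'.1
  haveI : SheafOfModules.IsFiniteType (R := X.ringCatSheaf)
      ((Coh.push U.ι).obj (F.restrict U.ι)) := hF'.2
  refine HartConvH8.two_le_depth_of_bijective ((Coh.push U.ι).obj (F.restrict U.ι)) U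
    (fun W hW => ?_) x hx
  show Function.Bijective ((F.restrict U.ι).presheaf.map
    ((Opens.map U.ι.base).map (homOfLE (inf_le_left : W ⊓ U ≤ W))).op)
  apply map_bijective
  intro y hy
  exact ⟨hy, y.2⟩

/-- part (b): the universal property -/
theorem univ [IsLocallyNoetherian X] (U : X.Opens) (F G : X.Modules) (hG : Coh.IsCoh G)
    (φ : F ⟶ G) (hφ : IsIso ((Scheme.Modules.restrictFunctor U.ι).map φ))
    (hdepth : ∀ x : X, x ∉ U →
      (2 : ℕ∞) ≤ LocCoh.depth (X.presheaf.stalk x) (G.presheaf.stalk x)) :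
    (∃! ψ : G ⟶ (Coh.push U.ι).obj (F.restrict U.ι),
        φ ≫ ψ = (Scheme.Modules.restrictAdjunction U.ι).unit.app F) ∧
      ∀ ψ : G ⟶ (Coh.push U.ι).obj (F.restrict U.ι),
        φ ≫ ψ = (Scheme.Modules.restrictAdjunction U.ι).unit.app F → IsIso ψ := by
  haveI : G.IsQuasicoherent := hG.1
  haveI : SheafOfModules.IsFiniteType (R := X.ringCatSheaf) G := hG.2
  have hunitG : IsIso ((Scheme.Modules.restrictAdjunction U.ι).unit.app G) := by
    apply SubExt.isIso_of_bijective
    intro V
    have e : ⇑(ap ((Scheme.Modules.restrictAdjunction U.ι).unit.app G) V) =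
        ⇑(rF G (U.ι.image_preimage_le V)) := funext (fun s => FreeLocH8.ap_unit_eq G U V s)
    rw [e]
    have e2 : U.ι ''ᵁ (U.ι ⁻¹ᵁ V) = V ⊓ U := by
      rw [FreeLocH8.image_preimage_eq_inf, inf_comm]
    refine ReflExtH8.rF_bijective_congr G e2 _ inf_le_left ⟨?_, ?_⟩
    · rw [injective_iff_map_eq_zero]
      intro s hs
      exact Groth.Agent.Hartogs.inj G U hdepth V s hs
    · intro t
      exact Groth.Agent.Hartogs.surj G U hdepth V t
  obtain ⟨adj, hadj⟩ : ∃ adj : Scheme.Modules.restrictFunctor U.ι ⊣ Scheme.Modules.pushforward U.ι,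
      adj = Scheme.Modules.restrictAdjunction U.ι := ⟨_, rfl⟩
  rw [← hadj] at hunitG ⊢
  set ψ0 : G ⟶ (Scheme.Modules.pushforward U.ι).obj ((Scheme.Modules.restrictFunctor U.ι).obj F) :=
    adj.unit.app G ≫ (Scheme.Modules.pushforward U.ι).map
      (inv ((Scheme.Modules.restrictFunctor U.ι).map φ)) with hψ0
  have h0 : φ ≫ ψ0 = adj.unit.app F := by
    have hnat := adj.unit.naturality φ
    simp only [Functor.id_obj, Functor.id_map, Functor.comp_obj, Functor.comp_map] at hnat
    rw [hψ0, ← Category.assoc, hnat, Category.assoc, ← Functor.map_comp, IsIso.hom_inv_id,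
      CategoryTheory.Functor.map_id, Category.comp_id]
  have key : ∀ ψ : G ⟶ (Scheme.Modules.pushforward U.ι).obj
      ((Scheme.Modules.restrictFunctor U.ι).obj F), φ ≫ ψ = adj.unit.app F → ψ = ψ0 := by
    intro ψ hψ
    have h1 : (adj.homEquiv G _).symm ψ = inv ((Scheme.Modules.restrictFunctor U.ι).map φ) := by
      rw [Adjunction.homEquiv_counit]
      rw [← cancel_epi ((Scheme.Modules.restrictFunctor U.ι).map φ), ← Category.assoc,
        ← Functor.map_comp, hψ, IsIso.hom_inv_id]
      exact adj.left_triangle_components F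
    have h2 := congrArg (adj.homEquiv G _) h1
    rw [Equiv.apply_symm_apply, Adjunction.homEquiv_unit] at h2
    exact h2
  haveI : IsIso ψ0 := by rw [hψ0]; infer_instance
  refine ⟨⟨ψ0, h0, fun ψ hψ => key ψ hψ⟩, fun ψ hψ => ?_⟩
  rw [key ψ hψ]
  infer_instance

theorem main12226 (X : Scheme.{u}) [IsNoetherian X] (U : X.Opens)
    (F : X.Modules) (hF' : Coh.IsCoh ((Coh.push U.ι).obj (F.restrict U.ι))) :
    (∀ x : ↥X, x ∉ U → (2 : ℕ∞) ≤ LocCoh.depth (X.presheaf.stalk x)
        (((Coh.push U.ι).obj (F.restrict U.ι)).presheaf.stalk x)) ∧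
    ∀ (G : X.Modules) (hG : Coh.IsCoh G) (φ : F ⟶ G),
      IsIso ((Scheme.Modules.restrictFunctor U.ι).map φ) →
      (∀ x : ↥X, x ∉ U → (2 : ℕ∞) ≤ LocCoh.depth (X.presheaf.stalk x) (G.presheaf.stalk x)) →
        (∃! ψ : G ⟶ (Coh.push U.ι).obj (F.restrict U.ι),
            φ ≫ ψ = (Scheme.Modules.restrictAdjunction U.ι).unit.app F) ∧
          ∀ ψ : G ⟶ (Coh.push U.ι).obj (F.restrict U.ι),
            φ ≫ ψ = (Scheme.Modules.restrictAdjunction U.ι).unit.app F → IsIso ψ :=
  ⟨fun x hx => two_le_depth_push U F hF' x hx,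
    fun G hG φ hφ hdepth => univ U F G hG φ hφ hdepth⟩

end Groth.Agent.Lib.PushCohDepth
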