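import Mathlib
import Groth.Prelude.Def_CohSite

set_option autoImplicit false
set_option linter.style.haveILetI false
set_option linter.unusedSectionVars false

universe u

namespace Groth.Agent.Lib.PushExactH4

open CategoryTheory Opposite Limits

theorem main9121 {C D : Type u} [SmallCategory C] [SmallCategory D]
    (J : GrothendieckTopology C) (K : GrothendieckTopology D) (u : D ⥤ C) [u.IsContinuous K J]
    [PreservesFiniteLimits (u.sheafPullback (Type u) K J)]
    [(u.sheafPushforwardContinuous (Type u) K J).PreservesEpimorphisms] :
    PreservesFiniteColimits (u.sheafPushforwardContinuous AddCommGrpCat.{u} K J) := by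
  haveI : PreservesLimitsOfSize.{u, u} (u.sheafPushforwardContinuous AddCommGrpCat.{u} K J) :=
    (u.sheafAdjunctionContinuous AddCommGrpCat.{u} K J).rightAdjoint_preservesLimits
  haveI : PreservesFiniteLimits (u.sheafPushforwardContinuous AddCommGrpCat.{u} K J) :=
    inferInstance
  haveI : (u.sheafPushforwardContinuous AddCommGrpCat.{u} K J).Additive :=
    Functor.additive_of_preserves_binary_products _
  rw [Functor.preservesFiniteColimits_iff_forall_exact_map_and_epi
    (u.sheafPushforwardContinuous AddCommGrpCat.{u} K J)]
  intro S hS
  have h1 := (Functor.preservesFiniteLimits_iff_forall_exact_map_and_mono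
    (u.sheafPushforwardContinuous AddCommGrpCat.{u} K J)).mp inferInstance S hS
  refine ⟨h1.1, ?_⟩
  haveI := hS.epi_g
  haveI hls : Sheaf.IsLocallySurjective S.g :=
    (Sheaf.isLocallySurjective_iff_epi' (φ := S.g)).mpr inferInstance
  haveI h2 : Sheaf.IsLocallySurjective
      ((sheafCompose J (forget AddCommGrpCat.{u})).map S.g) := inferInstance
  haveI h2' : Epi ((sheafCompose J (forget AddCommGrpCat.{u})).map S.g) := inferInstance
  haveI h3 : Epi ((u.sheafPushforwardContinuous (Type u) K J).map
      ((sheafCompose J (forget AddCommGrpCat.{u})).map S.g)) := inferInstance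
  have h4 : Sheaf.IsLocallySurjective ((u.sheafPushforwardContinuous (Type u) K J).map
      ((sheafCompose J (forget AddCommGrpCat.{u})).map S.g)) :=
    (Sheaf.isLocallySurjective_iff_epi _).mpr inferInstance
  have h5 : Presheaf.IsLocallySurjective K
      ((u.sheafPushforwardContinuous AddCommGrpCat.{u} K J).map S.g).hom := by
    rw [Presheaf.isLocallySurjective_iff_whisker_forget]
    exact h4
  haveI : Sheaf.IsLocallySurjective
      ((u.sheafPushforwardContinuous AddCommGrpCat.{u} K J).map S.g) := h5
  infer_instance

end Groth.Agent.Lib.PushExactH4
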