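import Mathlib
import Groth.Agent.Lib.PushClosed_helper7

set_option autoImplicit false

/-! Pushforward of sheaves of sets along a closed map with finite separated fibres preserves
epimorphisms. -/

namespace Groth.Agent.Lib.PushFinFib_helper7
open CategoryTheory TopologicalSpace Opposite Limits
open Groth.Agent.Lib.ShriekOpen_helper7 (op_hom_eq)
open Groth.Agent.Lib.PushClosed_helper7 (thin_eq₁)
universe u

lemma eq_of_bot {X : TopCat.{u}} (F : X.Sheaf (Type u)) {W : Opens X} (h : W = ⊥)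
    (a b : F.obj.obj (op W)) : a = b := by
  have u := (Limits.Types.isTerminalEquivUnique _) (F.isTerminalOfEqEmpty h)
  exact (u.uniq a).trans (u.uniq b).symm

theorem main {X Y : TopCat.{u}} (π : X ⟶ Y)
    (h1 : ∀ (y : Y) (U : Set X), IsOpen U → π ⁻¹' {y} ⊆ U →
      ∃ V : Set Y, IsOpen V ∧ y ∈ V ∧ π ⁻¹' V ⊆ U)
    (h2 : ∀ y : Y, (π ⁻¹' {y}).Finite ∧ ∃ U : X → Set X,
      (∀ x ∈ π ⁻¹' {y}, IsOpen (U x) ∧ x ∈ U x) ∧ (π ⁻¹' {y}).PairwiseDisjoint U) :
    (TopCat.Sheaf.pushforward (Type u) π).PreservesEpimorphisms := by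
  refine ⟨fun {F G} φ hφ => ?_⟩
  have l1 := (TopCat.Sheaf.isLocallySurjective_iff_epi φ).mpr hφ
  have l2 := (TopCat.Presheaf.isLocallySurjective_iff φ.hom).mp l1
  refine (TopCat.Sheaf.isLocallySurjective_iff_epi
    ((TopCat.Sheaf.pushforward (Type u) π).map φ)).mp ?_
  refine (TopCat.Presheaf.isLocallySurjective_iff _).mpr ?_
  intro V t y hy
  obtain ⟨-, U, hU, hdisj⟩ := h2 y
  have hex : ∀ x : {x : X // x ∈ π ⁻¹' {y}}, ∃ (W : Opens X) (hW : W ≤ (Opens.map π).obj V),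
      (∃ s : F.obj.obj (op W), φ.hom.app (op W) s = G.obj.map (homOfLE hW).op t) ∧
        (x : X) ∈ W ∧ (W : Set X) ⊆ U x := by
    intro x
    have hxy : π (x : X) = y := x.2
    have hxV : (x : X) ∈ (Opens.map π).obj V := by
      show π (x : X) ∈ V
      rw [hxy]
      exact hy
    obtain ⟨W, hW, ⟨s, hs⟩, hxW⟩ := l2 ((Opens.map π).obj V) t x hxV
    have hs' : φ.hom.app (op W) s = G.obj.map (homOfLE hW).op t := hs
    let Ux : Opens X := ⟨U x, (hU x x.2).1⟩
    refine ⟨W ⊓ Ux, inf_le_left.trans hW,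
      ⟨F.obj.map (homOfLE (inf_le_left : W ⊓ Ux ≤ W)).op s, ?_⟩, ⟨hxW, (hU x x.2).2⟩,
      fun p hp => hp.2⟩
    rw [NatTrans.naturality_apply φ.hom, hs']
    exact thin_eq₁ G.obj _ _ _ t
  choose W hW hs hxW hWU using hex
  choose s hs using hs
  have hcompat : TopCat.Presheaf.IsCompatible F.1 W s := by
    intro x x'
    by_cases hxx : x = x'
    · subst hxx
      exact congrArg (fun m => F.obj.map m (s x)) (op_hom_eq _ _)
    · have hbot : W x ⊓ W x' = ⊥ := by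
        refine le_bot_iff.1 (fun p hp => ?_)
        have hne : (x : X) ≠ (x' : X) := fun h => hxx (Subtype.ext h)
        exact (Set.disjoint_left.1 (hdisj x.2 x'.2 hne) (hWU x hp.1) (hWU x' hp.2)).elim
      exact eq_of_bot F hbot _ _
  obtain ⟨sg, hsg, -⟩ := F.existsUnique_gluing W s hcompat
  have hle : iSup W ≤ (Opens.map π).obj V := iSup_le hW
  have hφsg : φ.hom.app (op (iSup W)) sg = G.obj.map (homOfLE hle).op t := by
    refine G.eq_of_locally_eq' W (iSup W) (fun x => Opens.leSupr W x) le_rfl _ _ (fun x => ?_)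
    have e1 : F.obj.map (Opens.leSupr W x).op sg = s x := hsg x
    rw [← NatTrans.naturality_apply φ.hom, e1, hs x]
    exact (thin_eq₁ G.obj _ _ _ t).symm
  have hsub : π ⁻¹' {y} ⊆ ((iSup W : Opens X) : Set X) := by
    intro x hx
    exact Opens.mem_iSup.2 ⟨⟨x, hx⟩, hxW ⟨x, hx⟩⟩
  obtain ⟨V₀, hV₀, hyV₀, hV₀W⟩ := h1 y _ (iSup W).2 hsub
  let V' : Opens Y := ⟨V₀, hV₀⟩ ⊓ V
  have hle' : (Opens.map π).obj V' ≤ iSup W := fun p hp => hV₀W hp.1
  refine ⟨V', inf_le_right, ⟨F.obj.map (homOfLE hle').op sg, ?_⟩, ⟨hyV₀, hy⟩⟩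
  show φ.hom.app (op ((Opens.map π).obj V')) (F.obj.map (homOfLE hle').op sg) =
    G.obj.map ((Opens.map π).map (homOfLE (inf_le_right : V' ≤ V))).op t
  rw [NatTrans.naturality_apply φ.hom, hφsg]
  exact thin_eq₁ G.obj _ _ _ t

end Groth.Agent.Lib.PushFinFib_helper7
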