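import Mathlib
import Groth.Prelude
import Groth.Agent.Lib.FlatSec_helper8
import Groth.Agent.Lib.QCohCrit_helper9

/-!
# Flatness over the base of a direct image along an affine morphism (helper8)
APPEND-ONLY once landed.
-/

set_option autoImplicit false
universe u

open CategoryTheory AlgebraicGeometry TopologicalSpace Opposite

namespace PushFlatH8

variable {X Y S : Scheme.{u}} (f : X ⟶ Y) (q : Y ⟶ S) (F : X.Modules)

theorem preimage_le {V : S.Opens} {U : Y.Opens} (e : U ≤ q ⁻¹ᵁ V) :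
    f ⁻¹ᵁ U ≤ (f ≫ q) ⁻¹ᵁ V := fun _ hx => e hx

theorem module_eq {V : S.Opens} {U : Y.Opens} (e : U ≤ q ⁻¹ᵁ V) :
    (Module.compHom Γ((Scheme.Modules.pushforward f).obj F, U) (q.appLE V U e).hom :
      Module Γ(S, V) Γ((Scheme.Modules.pushforward f).obj F, U)) =
    (Module.compHom Γ(F, f ⁻¹ᵁ U) ((f ≫ q).appLE V (f ⁻¹ᵁ U) (preimage_le f q e)).hom :
      Module Γ(S, V) Γ(F, f ⁻¹ᵁ U)) := by
  apply Module.ext'
  intro r m
  change (f.app U).hom ((q.appLE V U e).hom r) • (id m : Γ(F, f ⁻¹ᵁ U)) =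
    ((f ≫ q).appLE V (f ⁻¹ᵁ U) (preimage_le f q e)).hom r • (id m : Γ(F, f ⁻¹ᵁ U))
  congr 1
  have h1 : (f ≫ q).appLE V (f ⁻¹ᵁ U) (preimage_le f q e) = q.appLE V U e ≫ f.app U := by
    rw [f.app_eq_appLE, Scheme.Hom.appLE_comp_appLE f q V U (f ⁻¹ᵁ U) e le_rfl]
  rw [h1]
  rfl

theorem exists_affine_pair (y : Y) : ∃ (V : S.Opens) (U : Y.Opens), IsAffineOpen V ∧
    IsAffineOpen U ∧ y ∈ U ∧ U ≤ q ⁻¹ᵁ V := by
  obtain ⟨_, ⟨V, hV : IsAffineOpen V, rfl⟩, hyV, -⟩ :=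
    (S.isBasis_affineOpens).exists_subset_of_mem_open (Set.mem_univ (q.base y)) isOpen_univ
  obtain ⟨_, ⟨U, hU : IsAffineOpen U, rfl⟩, hyU, hUV⟩ :=
    (Y.isBasis_affineOpens).exists_subset_of_mem_open (show y ∈ q ⁻¹ᵁ V from hyV)
      (q ⁻¹ᵁ V).isOpen
  exact ⟨V, U, hV, hU, hyU, hUV⟩

variable [IsAffineHom f] [F.IsQuasicoherent]

theorem isFlatOver_push_iff :
    FlatMod.IsFlatOver (f ≫ q) F ↔
      FlatMod.IsFlatOver q ((Scheme.Modules.pushforward f).obj F) := by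
  haveI : ((Scheme.Modules.pushforward f).obj F).IsQuasicoherent :=
    QCohCrit.isQuasicoherent_pushforward f F
  constructor
  · intro h y
    obtain ⟨V, U, hV, hU, hyU, e⟩ := exists_affine_pair q y
    have hU' : IsAffineOpen (f ⁻¹ᵁ U) := hU.preimage f
    rw [FlatSecH8.isFlatOverAt_iff_flat_stalk q _ hV e hyU]
    apply FlatSecH8.flat_stalk_of_flat_sections q _ hU e hyU
    rw [module_eq f q F e]
    apply FlatSecH8.flat_sections_of_flat_stalks (f ≫ q) F hU' (preimage_le f q e)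
    intro x hxU
    exact (FlatSecH8.isFlatOverAt_iff_flat_stalk (f ≫ q) F hV (preimage_le f q e) hxU).1 (h x)
  · intro h x
    obtain ⟨V, U, hV, hU, hyU, e⟩ := exists_affine_pair q (f.base x)
    have hU' : IsAffineOpen (f ⁻¹ᵁ U) := hU.preimage f
    have hxU : x ∈ f ⁻¹ᵁ U := hyU
    rw [FlatSecH8.isFlatOverAt_iff_flat_stalk (f ≫ q) F hV (preimage_le f q e) hxU]
    apply FlatSecH8.flat_stalk_of_flat_sections (f ≫ q) F hU' (preimage_le f q e) hxU
    have key := FlatSecH8.flat_sections_of_flat_stalks q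
      ((Scheme.Modules.pushforward f).obj F) hU e
      (fun y' hy'U => (FlatSecH8.isFlatOverAt_iff_flat_stalk q _ hV e hy'U).1 (h y'))
    rw [module_eq f q F e] at key
    exact key

end PushFlatH8
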