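import Mathlib
import Groth.Agent.Lib.ExtKFlat_helper2

/-!
# Base change in a pushout square of rings (helper2)

For a pushout square `R' → A'`, `R' → R`, `B = R ⊗_{R'} A'`, and an `A'`-module `M`:
`R ⊗_{R'} (M|_{R'}) ≅ (B ⊗_{A'} M)|_R`, naturally in `M`; the same for complexes.
-/

set_option autoImplicit false
universe u
open CategoryTheory Limits TensorProduct ChangeOfRings

namespace Groth.Agent.Lib.PushoutBC

open Groth.Agent.ExtendScalarsLib Groth.Agent.Lib.ExtKFlat

variable {R' R A' B : Type u} [CommRing R'] [CommRing R] [CommRing A'] [CommRing B]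
  [Algebra R' R] [Algebra R' A'] [Algebra R B] [Algebra A' B] [Algebra R' B]
  [IsScalarTower R' R B] [IsScalarTower R' A' B] [Algebra.IsPushout R' R A' B]

section

variable (M : ModuleCat.{u} A')

attribute [local instance] modL

/-- `R`-linear form of `extendScalarsEquivTensor` -/
noncomputable def e1 : ((res R B).obj ((ext A' B).obj M)) ≃ₗ[R] B ⊗[A'] M where
  toFun x := extendScalarsEquivTensor (S := B) M x
  invFun y := (extendScalarsEquivTensor (S := B) M).symm y
  map_add' x y := (extendScalarsEquivTensor (S := B) M).map_add x y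
  map_smul' r x := by
    change extendScalarsEquivTensor (S := B) M
      ((algebraMap R B r) • (show (ext A' B).obj M from x)) = _
    rw [(extendScalarsEquivTensor (S := B) M).map_smul, algebraMap_smul]
    rfl
  left_inv x := (extendScalarsEquivTensor (S := B) M).left_inv x
  right_inv y := (extendScalarsEquivTensor (S := B) M).right_inv y

/-- the `R`-linear equivalence `(B ⊗_{A'} M)|_R ≃ R ⊗_{R'} M|_{R'}` -/
noncomputable def θEquiv :
    ((res R B).obj ((ext A' B).obj M)) ≃ₗ[R] ((ext R' R).obj ((res R' A').obj M)) :=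
  (e1 (R := R) M) ≪≫ₗ (Algebra.IsPushout.cancelBaseChange R' R A' B M) ≪≫ₗ
    (show (R ⊗[R'] M) ≃ₗ[R] ((ext R' R).obj ((res R' A').obj M)) from
      (extendScalarsEquivTensor (S := R) ((res R' A').obj M)).symm)

/-- pure tensors in `R ⊗_{R'} M|_{R'}` -/
noncomputable def tmR (r : R) (m : M) : (ext R' R).obj ((res R' A').obj M) :=
  r ⊗ₜ[R',algebraMap R' R] (m : (res R' A').obj M)

/-- pure tensors in `(B ⊗_{A'} M)|_R` -/
noncomputable def tmB (b : B) (m : M) : (res R B).obj ((ext A' B).obj M) :=
  ((b ⊗ₜ[A',algebraMap A' B] m : (ext A' B).obj M) : (res R B).obj ((ext A' B).obj M))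

lemma θEquiv_symm_one_tmul (m : M) :
    (θEquiv (R' := R') (R := R) (B := B) M).symm (tmR (R' := R') (R := R) M 1 m) =
      tmB (R := R) (B := B) M 1 m := by
  show (extendScalarsEquivTensor (S := B) M).symm
    ((Algebra.IsPushout.cancelBaseChange R' R A' B M).symm
      (extendScalarsEquivTensor (S := R) ((res R' A').obj M)
        (tmR (R' := R') (R := R) M 1 m))) = _
  have h1 : extendScalarsEquivTensor (S := R) ((res R' A').obj M)
      (tmR (R' := R') (R := R) M 1 m) = (1 : R) ⊗ₜ[R'] m := rfl
  have h2 : extendScalarsEquivTensor (S := B) M (tmB (R := R) (B := B) M 1 m) =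
      (1 : B) ⊗ₜ[A'] m := rfl
  rw [LinearEquiv.symm_apply_eq, h2, h1, LinearEquiv.symm_apply_eq]
  exact (Algebra.IsPushout.cancelBaseChange_tmul R' R A' B M m).symm

/-- the isomorphism `R ⊗_{R'} M|_{R'} ≅ (B ⊗_{A'} M)|_R` in `ModuleCat R` -/
noncomputable def θIso :
    (ext R' R).obj ((res R' A').obj M) ≅ (res R B).obj ((ext A' B).obj M) :=
  (θEquiv (R' := R') (R := R) (B := B) M).symm.toModuleIso

lemma θIso_hom_one_tmul (m : M) :
    (θIso (R' := R') (R := R) (B := B) M).hom.hom (tmR (R' := R') (R := R) M 1 m) =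
      tmB (R := R) (B := B) M 1 m :=
  θEquiv_symm_one_tmul M m

end

lemma θIso_naturality {M M' : ModuleCat.{u} A'} (f : M ⟶ M') :
    (ext R' R).map ((res R' A').map f) ≫ (θIso (R' := R') (R := R) (B := B) M').hom =
      (θIso (R' := R') (R := R) (B := B) M).hom ≫ (res R B).map ((ext A' B).map f) := by
  apply ModuleCat.ExtendScalars.hom_ext
  intro m
  show (θIso (R' := R') (R := R) (B := B) M').hom.hom
      (tmR (R' := R') (R := R) M' 1 (f.hom m)) =
    ((res R B).map ((ext A' B).map f)).hom ((θIso (R' := R') (R := R) (B := B) M).hom.hom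
      (tmR (R' := R') (R := R) M 1 m))
  rw [θIso_hom_one_tmul, θIso_hom_one_tmul]
  rfl

variable (R' R A' B)

/-- the natural isomorphism `ext_{R'→R} ∘ res_{R'→A'} ≅ res_{R→B} ∘ ext_{A'→B}` -/
noncomputable def θNatIso : res R' A' ⋙ ext R' R ≅ ext A' B ⋙ res R B :=
  NatIso.ofComponents (fun M => θIso (R' := R') (R := R) (B := B) M)
    (fun {M M'} f => θIso_naturality (R' := R') (R := R) (B := B) f)

/-- the isomorphism of complexes -/
noncomputable def θCx (K : CochainComplex (ModuleCat.{u} A') ℤ) :
    ((ext R' R).mapHomologicalComplex (ComplexShape.up ℤ)).obj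
        (((res R' A').mapHomologicalComplex (ComplexShape.up ℤ)).obj K) ≅
      ((res R B).mapHomologicalComplex (ComplexShape.up ℤ)).obj
        (((ext A' B).mapHomologicalComplex (ComplexShape.up ℤ)).obj K) :=
  HomologicalComplex.Hom.isoOfComponents (fun i => θIso (R' := R') (R := R) (B := B) (K.X i))
    (fun i j _ => (θIso_naturality (R' := R') (R := R) (B := B) (K.d i j)).symm)

end Groth.Agent.Lib.PushoutBC
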