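import Mathlib
import Groth.Agent.Lib.PushoutFlat_helper5
import Groth.Agent.Lib.PinchBC_helper5

/-!
# Flatness and base change of a pushout along a closed immersion and a finite flat morphism
-/

namespace Groth.Agent.ShPushoutInt

open CategoryTheory Limits AlgebraicGeometry TopologicalSpace Opposite
open Groth.Agent.RSPushout Groth.Agent.RSPushoutCrit Groth.Agent.FibSqLib Groth.Agent.PushoutLocal
open Groth.Agent.ShPushout

universe u

/-- if `X → P` is affine in a pushout square then the fibres of `Y → Y'` lie in affine opens -/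
theorem haff_of_affine {X Y Y' P : Scheme.{u}} (i : Y ⟶ X) (h : Y ⟶ Y') (q : X ⟶ P)
    [IsAffineHom q] (j : Y' ⟶ P) (w : i ≫ q = h ≫ j) (y' : Y') :
    ∃ U : X.Opens, IsAffineOpen U ∧ h ⁻¹' {y'} ⊆ (i ⁻¹ᵁ U : Set ↑Y) := by
  obtain ⟨_, ⟨W, hW, rfl⟩, hyW, -⟩ := P.isBasis_affineOpens.exists_subset_of_mem_open
    (Set.mem_univ (j y')) isOpen_univ
  refine ⟨q ⁻¹ᵁ W, hW.preimage q, ?_⟩
  intro y hy
  have hy' : h y = y' := hy
  show q (i y) ∈ W
  have e : q (i y) = j (h y) := by
    have := congrArg (fun m => m.base) w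
    exact congr($this y)
  rw [e, hy']
  exact hyW

theorem flat_and_isPushout_baseChange
    {S X Y Y' P T XT YT Y'T PT : Scheme.{u}}
    (i : Y ⟶ X) [IsClosedImmersion i] (h : Y ⟶ Y') [IsIntegralHom h] [Flat h]
    (q : X ⟶ P) [IsAffineHom q] (j : Y' ⟶ P) (hP : IsPushout i h q j)
    (sP : P ⟶ S) [Flat (q ≫ sP)] [Flat (j ≫ sP)] (g : T ⟶ S)
    (pP : PT ⟶ P) (sPT : PT ⟶ T) (hPT : IsPullback pP sPT sP g)
    (pX : XT ⟶ X) (qT : XT ⟶ PT) (hXT : IsPullback pX qT q pP)
    (pY' : Y'T ⟶ Y') (jT : Y'T ⟶ PT) (hY'T : IsPullback pY' jT j pP)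
    (pY : YT ⟶ Y) (iT : YT ⟶ XT) (hYT : IsPullback pY iT i pX)
    (hT : YT ⟶ Y'T) (hhT₁ : hT ≫ pY' = pY ≫ h) (hhT₂ : hT ≫ jT = iT ≫ qT) :
    Flat sP ∧ IsPushout iT hT qT jT := by
  have haff := haff_of_affine i h q j hP.w
  have hG := isPushout_G_of_isPushout' i h haff q j hP
  haveI : IsClosedImmersion j := isClosedImmersion_inr' i h q j hG haff
  haveI : Flat (h ≫ j ≫ sP) := inferInstance
  have hflat : Flat sP := flat_of_pushout i h q j hG sP
  refine ⟨hflat, ?_⟩
  have hw : h ≫ j ≫ sP = i ≫ q ≫ sP := by rw [← Category.assoc, ← hP.w, Category.assoc]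
  haveI : Flat (i ≫ q ≫ sP) := by
    rw [← hw]
    infer_instance
  have sqX : IsPullback pX (qT ≫ sPT) (q ≫ sP) g := hXT.paste_vert hPT
  have sqY' : IsPullback pY' (jT ≫ sPT) (j ≫ sP) g := hY'T.paste_vert hPT
  have sqY : IsPullback pY (iT ≫ qT ≫ sPT) (i ≫ q ≫ sP) g := hYT.paste_vert sqX
  have key := Groth.Agent.PinchBC.isPushout_baseChange (q ≫ sP) (j ≫ sP) sP (i ≫ q ≫ sP) i h q j
    rfl hw rfl rfl hG g
    (sqY.isoPullback.inv ≫ iT ≫ sqX.isoPullback.hom)
    (sqY.isoPullback.inv ≫ hT ≫ sqY'.isoPullback.hom)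
    (sqX.isoPullback.inv ≫ qT ≫ hPT.isoPullback.hom)
    (sqY'.isoPullback.inv ≫ jT ≫ hPT.isoPullback.hom)
    (by rw [Category.assoc, Category.assoc, IsPullback.isoPullback_hom_fst, ← hYT.w,
      IsPullback.isoPullback_inv_fst_assoc])
    (by rw [Category.assoc, Category.assoc, IsPullback.isoPullback_hom_snd,
      IsPullback.isoPullback_inv_snd])
    (by rw [Category.assoc, Category.assoc, IsPullback.isoPullback_hom_fst, hhT₁,
      IsPullback.isoPullback_inv_fst_assoc])
    (by rw [Category.assoc, Category.assoc, IsPullback.isoPullback_hom_snd,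
      ← Category.assoc hT, hhT₂, Category.assoc, IsPullback.isoPullback_inv_snd])
    (by rw [Category.assoc, Category.assoc, IsPullback.isoPullback_hom_fst, ← hXT.w,
      IsPullback.isoPullback_inv_fst_assoc])
    (by rw [Category.assoc, Category.assoc, IsPullback.isoPullback_hom_snd,
      IsPullback.isoPullback_inv_snd])
    (by rw [Category.assoc, Category.assoc, IsPullback.isoPullback_hom_fst, ← hY'T.w,
      IsPullback.isoPullback_inv_fst_assoc])
    (by rw [Category.assoc, Category.assoc, IsPullback.isoPullback_hom_snd,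
      IsPullback.isoPullback_inv_snd])
  have hS := isPushout_of_G _ _ _ _ key
  refine IsPushout.of_iso hS sqY.isoPullback.symm sqX.isoPullback.symm sqY'.isoPullback.symm
    hPT.isoPullback.symm ?_ ?_ ?_ ?_
  · simp
  · simp
  · simp
  · simp

end Groth.Agent.ShPushoutInt
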