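import Mathlib
import Groth.Agent.Lib.SchPushoutInt_helper5
import Groth.Agent.Lib.ThickAff5_helper6

/-!
# The pushout of a thickening and an affine morphism of schemes — helper7

`X ⟶ X'` a thickening (surjective closed immersion), `X ⟶ Y` affine: the pushout `Y ⊔_X X'` exists
in schemes.  Built on helper5's sheafed-space pushout framework (`ShPushout`, `ShPushoutInt`), with
the "good opens" supplied by helper6's theorem that a thickening of an affine scheme is affine.
The structural lemmas are helper5's proofs with the integrality hypothesis replaced by the existence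
of good opens.
-/

namespace Groth.Agent.Lib.PushoutThick_helper7

open CategoryTheory Limits AlgebraicGeometry TopologicalSpace Opposite
open Groth.Agent.RSPushout Groth.Agent.RSPushoutCrit Groth.Agent.FibSqLib Groth.Agent.PushoutLocal
open Groth.Agent.ShPushout Groth.Agent.ShPushoutInt

universe u

section Good

variable {X Y Z : Scheme.{u}} (i : Z ⟶ X) (j : Z ⟶ Y) {P : SheafedSpace CommRingCat.{u}}
  (a : G.obj X ⟶ P) (b : G.obj Y ⟶ P) (hP : IsPushout (G.map i) (G.map j) a b)

include hP in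
theorem exists_good_thick [IsClosedImmersion i] (hs : Function.Surjective i) [IsAffineHom j]
    (p : P) : ∃ U : Opens P, p ∈ U ∧ IsAffineOpen (pre a U) ∧ IsAffineOpen (pre b U) := by
  have hi : Function.Injective i := i.isEmbedding.injective
  have hh : IsHomeomorph i :=
    isHomeomorph_iff_isEmbedding_surjective.2 ⟨i.isClosedEmbedding.isEmbedding, hs⟩
  have keyY : ∀ y : Y, ∃ U : Opens P, b.hom.base y ∈ U ∧ IsAffineOpen (pre a U) ∧
      IsAffineOpen (pre b U) := by
    intro y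
    obtain ⟨_, ⟨UY, hUY, rfl⟩, hyUY, -⟩ :=
      Y.isBasis_affineOpens.exists_subset_of_mem_open (Set.mem_univ y) isOpen_univ
    let UX : X.Opens := ⟨i '' (j ⁻¹ᵁ UY : Set Z), hh.isOpenMap _ (j ⁻¹ᵁ UY).isOpen⟩
    have hUX : i ⁻¹ᵁ UX = j ⁻¹ᵁ UY := Opens.ext (Set.preimage_image_eq _ hh.injective)
    obtain ⟨U, hU1, hU2⟩ := exists_open' i j a b hP hi UX UY hUX
    refine ⟨U, ?_, ?_, ?_⟩
    · have : y ∈ pre b U := by rw [hU2]; exact hyUY
      exact this
    · rw [hU1]
      have hZa : IsAffineOpen (i ⁻¹ᵁ UX) := by rw [hUX]; exact hUY.preimage j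
      haveI : IsAffine (i ⁻¹ᵁ UX).toScheme := hZa
      haveI : Surjective (i ∣_ UX) := IsZariskiLocalAtTarget.restrict ⟨hs⟩ UX
      exact Groth.Agent.Lib.ThickAffH6.isAffine_of_thickening (i ∣_ UX)
    · rw [hU2]; exact hUY
  rcases exists_pt i j a b hP p with ⟨x, rfl⟩ | ⟨y, rfl⟩
  · obtain ⟨z, rfl⟩ := hs x
    obtain ⟨U, h1, h2, h3⟩ := keyY (j z)
    refine ⟨U, ?_, h2, h3⟩
    rw [comm_pt i j a b hP z]
    exact h1
  · exact keyY y

end Good

section Construct

variable {X Y Z : Scheme.{u}} (i : Z ⟶ X) (j : Z ⟶ Y) [IsClosedImmersion i] [IsAffineHom j]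
  (hs : Function.Surjective i)

/-- the pushout as a scheme -/
noncomputable def PS : Scheme.{u} where
  toLocallyRingedSpace := PL i j
  local_affine := by
    intro x
    obtain ⟨U, hxU, hXa, hYa⟩ := exists_good_thick i j _ _ (isPushout_PL i j) hs x
    obtain ⟨f, hf, hrange⟩ := exists_chart' i j _ _ (isPushout_PL i j) U hXa hYa
    refine ⟨⟨⟨_, hf.base_open.isOpen_range⟩, ?_⟩, (PL i j).presheaf.obj (op U), ⟨?_⟩⟩
    · show x ∈ Set.range f.hom.base
      rw [hrange]
      exact hxU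
    · apply LocallyRingedSpace.isoOfSheafedSpaceIso
      refine SheafedSpace.forgetToPresheafedSpace.preimageIso ?_
      apply PresheafedSpace.IsOpenImmersion.isoOfRangeEq (PresheafedSpace.ofRestrict _ _) f.hom
      exact Subtype.range_coe_subtype

/-- the first coprojection -/
noncomputable def inlS : X ⟶ PS i j hs := Scheme.Hom.mk (pushout.inl i.toLRSHom j.toLRSHom)

/-- the second coprojection -/
noncomputable def inrS : Y ⟶ PS i j hs := Scheme.Hom.mk (pushout.inr i.toLRSHom j.toLRSHom)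

theorem isPushout_PS :
    IsPushout (G.map i) (G.map j) (G.map (inlS i j hs)) (G.map (inrS i j hs)) :=
  isPushout_PL i j

end Construct

section Structure

variable {X Y Z Q : Scheme.{u}} (i : Z ⟶ X) (j : Z ⟶ Y) (a : X ⟶ Q) (b : Y ⟶ Q)
  (hQ : IsPushout (G.map i) (G.map j) (G.map a) (G.map b))

variable [IsClosedImmersion i]
  (hgood : ∀ p : Q, ∃ U : Q.Opens, p ∈ U ∧ IsAffineOpen (a ⁻¹ᵁ U) ∧ IsAffineOpen (b ⁻¹ᵁ U))

include hQ hgood in
theorem exists_good_sch (p : Q) : ∃ U : Q.Opens, p ∈ U ∧ IsAffineOpen U ∧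
    IsAffineOpen (a ⁻¹ᵁ U) ∧ IsAffineOpen (b ⁻¹ᵁ U) := by
  obtain ⟨U, hp, hXa, hYa⟩ := hgood p
  exact ⟨U, hp, isAffineOpen_of_good' i j a b hQ U hXa hYa, hXa, hYa⟩

include hQ hgood in
theorem isClosedImmersion_inr : IsClosedImmersion b := by
  choose U hU using fun p : Q => exists_good_sch i j a b hQ hgood p
  refine HasAffineProperty.of_iSup_eq_top (P := @IsClosedImmersion)
    (fun p => ⟨U p, (hU p).2.1⟩) ?_ ?_
  · rw [eq_top_iff]
    intro p _
    exact Opens.mem_iSup.mpr ⟨p, (hU p).1⟩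
  · intro p
    refine ⟨(hU p).2.2.2, ?_⟩
    rw [morphismRestrict_appTop]
    have h1 : Function.Surjective (b.app ((U p).ι ''ᵁ ⊤)) :=
      app_surjective_of_eq b (by simp) (app_surjective_inr' i j a b hQ (U p) (hU p).2.2.1)
    have h2 := (ConcreteCategory.bijective_of_isIso (Y.presheaf.map
      (eqToHom (image_morphismRestrict_preimage b (U p) ⊤)).op)).2
    intro t
    obtain ⟨t', ht'⟩ := h2 t
    obtain ⟨s, hs⟩ := h1 t'
    refine ⟨s, ?_⟩
    rw [← ht', ← hs]
    rfl

include hQ hgood in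
theorem ker_le {T : Scheme.{u}} (u : T ⟶ X) (v : T ⟶ Y) [QuasiCompact u]
    (huv : u ≫ a = v ≫ b) : i.ker ≤ u.ker := by
  choose U hU using fun p : Q => exists_good_sch i j a b hQ hgood p
  refine Scheme.IdealSheafData.le_of_iSup_eq_top
    (fun p : Q => (⟨a ⁻¹ᵁ U p, (hU p).2.2.1⟩ : X.affineOpens)) ?_ ?_
  · rw [eq_top_iff]
    intro x _
    exact Opens.mem_iSup.mpr ⟨a x, (hU (a x)).1⟩
  · intro p
    rw [Scheme.Hom.ker_apply, Scheme.Hom.ker_apply]
    intro α hα
    rw [RingHom.mem_ker] at hα ⊢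
    have hα' : i.app (a ⁻¹ᵁ U p) α = 0 := hα
    show u.app (a ⁻¹ᵁ U p) α = 0
    obtain ⟨r, hr1, hr2⟩ := (fibSq_sch' i j a b hQ (U p)).surj 0 α
      (by rw [map_zero]; exact hα'.symm)
    have hsq := Groth.Agent.PinchBC.appLE_square u a v b huv
      (U := U p) (V₁ := a ⁻¹ᵁ U p) (V₂ := b ⁻¹ᵁ U p) (W := u ⁻¹ᵁ (a ⁻¹ᵁ U p)) le_rfl le_rfl le_rfl
      (by rw [← Scheme.Hom.comp_preimage, ← Scheme.Hom.comp_preimage, huv])
    rw [← Scheme.Hom.app_eq_appLE, ← Scheme.Hom.app_eq_appLE, ← Scheme.Hom.app_eq_appLE] at hsq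
    have h1 := congr($hsq r)
    rw [CommRingCat.comp_apply, CommRingCat.comp_apply] at h1
    have hr1' : b.app (U p) r = 0 := hr1
    have hr2' : a.app (U p) r = α := hr2
    rw [hr1', hr2', map_zero] at h1
    exact h1

include hQ hgood in
theorem isPullback_sch : IsPullback i j a b := by
  haveI := isClosedImmersion_inr i j a b hQ hgood
  have w := comm_sch i j a b hQ
  have hk : i.ker ≤ (pullback.fst a b).ker :=
    ker_le i j a b hQ hgood (pullback.fst a b) (pullback.snd a b) pullback.condition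
  refine ⟨⟨w⟩, ⟨PullbackCone.IsLimit.mk w
    (fun s => pullback.lift s.fst s.snd s.condition ≫
      IsClosedImmersion.lift i (pullback.fst a b) hk)
    (fun s => ?_) (fun s => ?_) (fun s m h1 h2 => ?_)⟩⟩
  · rw [Category.assoc, IsClosedImmersion.lift_fac, pullback.lift_fst]
  · rw [← cancel_mono b, Category.assoc, Category.assoc, ← w, IsClosedImmersion.lift_fac_assoc,
      pullback.lift_fst_assoc, s.condition]
  · rw [← cancel_mono i, h1, Category.assoc, IsClosedImmersion.lift_fac, pullback.lift_fst]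

end Structure

/-- The pushout of a thickening and an affine morphism exists in schemes, is cartesian, and the
second coprojection is again a thickening. -/
theorem main {X X' Y : Scheme.{u}} (t : X ⟶ X') [IsClosedImmersion t]
    (ht : Function.Surjective t) (f : X ⟶ Y) [IsAffineHom f] :
    ∃ (Y' : Scheme.{u}) (f' : X' ⟶ Y') (b : Y ⟶ Y'), IsPushout t f f' b ∧ IsPullback t f f' b ∧
      IsClosedImmersion b ∧ Function.Surjective b := by
  have hQ := isPushout_PS t f ht
  have hgood : ∀ p : PS t f ht, ∃ U : (PS t f ht).Opens, p ∈ U ∧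
      IsAffineOpen (inlS t f ht ⁻¹ᵁ U) ∧ IsAffineOpen (inrS t f ht ⁻¹ᵁ U) :=
    fun p => exists_good_thick t f (G.map (inlS t f ht)) (G.map (inrS t f ht)) hQ ht p
  refine ⟨PS t f ht, inlS t f ht, inrS t f ht, isPushout_of_G t f _ _ hQ,
    isPullback_sch t f _ _ hQ hgood, isClosedImmersion_inr t f _ _ hQ hgood, ?_⟩
  intro p
  rcases exists_pt t f _ _ hQ p with ⟨x', hx'⟩ | ⟨y, hy⟩
  · obtain ⟨x, rfl⟩ := ht x'
    refine ⟨f x, ?_⟩
    rw [← hx']
    exact (comm_pt t f _ _ hQ x).symm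
  · exact ⟨y, hy⟩

end Groth.Agent.Lib.PushoutThick_helper7
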