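import Mathlib

set_option autoImplicit false
set_option linter.unusedVariables false
set_option linter.unusedTactic false
set_option linter.unreachableTactic false
set_option linter.unusedSectionVars false
set_option linter.style.haveILetI false
set_option maxHeartbeats 800000
set_option backward.isDefEq.respectTransparency false

/-!
# Points of a quasi-affine scheme with values in an adically complete ring (helper4)

For `A` an `I`-adically complete ring and `X` quasi-affine, `X(A) = lim X(A/I^n)`.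
-/

universe u

namespace Groth.Agent.Lib.QAffAdicH4

open CategoryTheory AlgebraicGeometry

/-- Compatibility for all `m ≤ n` from successive ones. -/
theorem factorPow_compat (A : Type u) [CommRing A] (I : Ideal A) {R : Type u} [CommRing R]
    (ψ : (n : ℕ) → R →+* A ⧸ I ^ n)
    (h : ∀ n, (Ideal.Quotient.factorPowSucc I n).comp (ψ (n + 1)) = ψ n) :
    ∀ {m n : ℕ} (hle : m ≤ n), (Ideal.Quotient.factorPow I hle).comp (ψ n) = ψ m := by
  intro m n hle
  induction n, hle using Nat.le_induction with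
  | base =>
    ext r
    obtain ⟨y, hy⟩ := Ideal.Quotient.mk_surjective (ψ m r)
    rw [RingHom.comp_apply, ← hy]
    exact Ideal.Quotient.factor_mk _ y
  | succ n hmn ih =>
    ext r
    obtain ⟨y, hy⟩ := Ideal.Quotient.mk_surjective (ψ (n + 1) r)
    have h1 : ψ n r = Ideal.Quotient.mk (I ^ n) y := by
      rw [← h n, RingHom.comp_apply, ← hy]
      exact Ideal.Quotient.factor_mk _ y
    have h2 : ψ m r = Ideal.Quotient.mk (I ^ m) y := by
      rw [← ih, RingHom.comp_apply, h1]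
      exact Ideal.Quotient.factor_mk _ y
    rw [RingHom.comp_apply, ← hy, h2]
    exact Ideal.Quotient.factor_mk _ y

theorem main (A : Type u) [CommRing A] (I : Ideal A) [IsAdicComplete I A]
    (X : Scheme.{u}) [X.IsQuasiAffine] :
    (∀ f g : Spec (CommRingCat.of A) ⟶ X,
      (∀ n : ℕ, Spec.map (CommRingCat.ofHom (Ideal.Quotient.mk (I ^ n))) ≫ f =
        Spec.map (CommRingCat.ofHom (Ideal.Quotient.mk (I ^ n))) ≫ g) → f = g) ∧
    (∀ e : ∀ n : ℕ, Spec (CommRingCat.of (A ⧸ I ^ n)) ⟶ X,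
      (∀ n : ℕ, Spec.map (CommRingCat.ofHom (Ideal.Quotient.factorPowSucc I n)) ≫ e (n + 1) = e n) →
      ∃ f : Spec (CommRingCat.of A) ⟶ X,
        ∀ n : ℕ, Spec.map (CommRingCat.ofHom (Ideal.Quotient.mk (I ^ n))) ≫ f = e n) := by
  refine ⟨fun f g hfg => ?_, fun e he => ?_⟩
  · rw [← cancel_mono X.toSpecΓ]
    obtain ⟨α, hα⟩ : ∃ α : Γ(X, ⊤) ⟶ CommRingCat.of A, Spec.map α = f ≫ X.toSpecΓ :=
      ⟨Spec.preimage _, Spec.map_preimage _⟩
    obtain ⟨β, hβ⟩ : ∃ β : Γ(X, ⊤) ⟶ CommRingCat.of A, Spec.map β = g ≫ X.toSpecΓ :=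
      ⟨Spec.preimage _, Spec.map_preimage _⟩
    rw [← hα, ← hβ]
    congr 1
    apply CommRingCat.hom_ext
    apply RingHom.ext
    intro r
    have hn : ∀ n : ℕ, Ideal.Quotient.mk (I ^ n) (α.hom r)
        = Ideal.Quotient.mk (I ^ n) (β.hom r) := by
      intro n
      have h1 : Spec.map (α ≫ CommRingCat.ofHom (Ideal.Quotient.mk (I ^ n)))
          = Spec.map (β ≫ CommRingCat.ofHom (Ideal.Quotient.mk (I ^ n))) := by
        rw [Spec.map_comp, Spec.map_comp, hα, hβ, ← Category.assoc, ← Category.assoc, hfg n]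
      have h2 := Spec.map_injective h1
      have h3 : (α ≫ CommRingCat.ofHom (Ideal.Quotient.mk (I ^ n))).hom r
          = (β ≫ CommRingCat.ofHom (Ideal.Quotient.mk (I ^ n))).hom r := by rw [h2]
      exact h3
    have hsub : α.hom r - β.hom r = 0 := by
      apply IsHausdorff.haus' (I := I)
      intro n
      have e1 : (I ^ n • ⊤ : Submodule A A) = I ^ n := by
        rw [Ideal.smul_eq_mul, Ideal.mul_top]
      rw [SModEq.zero, e1]
      exact Ideal.Quotient.eq.mp (hn n)
    exact sub_eq_zero.mp hsub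
  · obtain ⟨ψ, hψ⟩ : ∃ ψ : ∀ n : ℕ, Γ(X, ⊤) ⟶ CommRingCat.of (A ⧸ I ^ n),
        ∀ n, Spec.map (ψ n) = e n ≫ X.toSpecΓ :=
      ⟨fun n => Spec.preimage (e n ≫ X.toSpecΓ), fun n => Spec.map_preimage _⟩
    have hcompat : ∀ n, (Ideal.Quotient.factorPowSucc I n).comp (ψ (n + 1)).hom = (ψ n).hom := by
      intro n
      have h1 : Spec.map (ψ (n + 1) ≫ CommRingCat.ofHom (Ideal.Quotient.factorPowSucc I n))
          = Spec.map (ψ n) := by
        rw [Spec.map_comp, hψ, hψ, ← Category.assoc, he n]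
      have h2 := Spec.map_injective h1
      rw [← h2]
      rfl
    obtain ⟨Φ, hΦ⟩ : ∃ Φ : Γ(X, ⊤) ⟶ CommRingCat.of A,
        ∀ n, Φ ≫ CommRingCat.ofHom (Ideal.Quotient.mk (I ^ n)) = ψ n := by
      have hc : ∀ {m n : ℕ} (hle : m ≤ n), (Ideal.Quotient.factorPow I hle).comp
          ((fun n => (ψ n).hom) n) = (fun n => (ψ n).hom) m :=
        factorPow_compat A I (fun n => (ψ n).hom) hcompat
      refine ⟨CommRingCat.ofHom (IsAdicComplete.liftRingHom I (fun n => (ψ n).hom) hc),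
        fun n => ?_⟩
      apply CommRingCat.hom_ext
      exact IsAdicComplete.mk_comp_liftRingHom I (fun n => (ψ n).hom) hc n
    have hf' : ∀ n, Spec.map (CommRingCat.ofHom (Ideal.Quotient.mk (I ^ n))) ≫ Spec.map Φ
        = e n ≫ X.toSpecΓ := by
      intro n
      rw [← Spec.map_comp, hΦ n, hψ n]
    have hrange : Set.range ⇑(Spec.map Φ) ⊆ Set.range ⇑X.toSpecΓ := by
      rintro _ ⟨p, rfl⟩
      obtain ⟨p', hp'⟩ : ∃ p' : PrimeSpectrum A, p' = p := ⟨p, rfl⟩
      obtain ⟨m, hm, hpm⟩ := Ideal.exists_le_maximal p'.asIdeal p'.isPrime.ne_top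
      have hIm : I ≤ m := (IsAdicComplete.le_jacobson_bot I).trans (sInf_le ⟨bot_le, hm⟩)
      obtain ⟨M, hM⟩ : ∃ M : PrimeSpectrum A, M.asIdeal = m := ⟨⟨m, hm.isPrime⟩, rfl⟩
      have hle : p' ≤ M := (PrimeSpectrum.asIdeal_le_asIdeal p' M).mp (by rw [hM]; exact hpm)
      have hspec0 : p' ⤳ M := (PrimeSpectrum.le_iff_specializes p' M).mp hle
      have hspec : (p : ↥(Spec (CommRingCat.of A))) ⤳ (M : ↥(Spec (CommRingCat.of A))) := by
        rw [← hp']; exact hspec0
      have hMz : M ∈ PrimeSpectrum.zeroLocus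
          (RingHom.ker (Ideal.Quotient.mk (I ^ 1)) : Set A) := by
        rw [Ideal.mk_ker, pow_one, PrimeSpectrum.mem_zeroLocus, hM]
        exact hIm
      rw [← range_comap_of_surjective _ _ Ideal.Quotient.mk_surjective] at hMz
      obtain ⟨q, hq⟩ := hMz
      have hfM : (Spec.map Φ) (M : ↥(Spec (CommRingCat.of A))) ∈ Set.range ⇑X.toSpecΓ := by
        have h1 : (Spec.map (CommRingCat.ofHom (Ideal.Quotient.mk (I ^ 1))))
            (q : ↥(Spec (CommRingCat.of (A ⧸ I ^ 1)))) = (M : ↥(Spec (CommRingCat.of A))) := hq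
        rw [← h1, ← Scheme.Hom.comp_apply, hf' 1, Scheme.Hom.comp_apply]
        exact ⟨_, rfl⟩
      exact (hspec.map (Spec.map Φ).continuous).mem_open
        (IsOpenImmersion.isOpen_range X.toSpecΓ) hfM
    refine ⟨IsOpenImmersion.lift X.toSpecΓ (Spec.map Φ) hrange, fun n => ?_⟩
    rw [← cancel_mono X.toSpecΓ, Category.assoc, IsOpenImmersion.lift_fac, hf' n]

end Groth.Agent.Lib.QAffAdicH4
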