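import Mathlib
import Groth.Prelude.Def_Fitting
import Groth.Prelude.Def_Mor2
import Groth.Prelude.Def_Pi1
import Groth.Agent.Lib.NormQAff_helper4
import Groth.Agent.Lib.FldNorm_helper4
import Groth.Agent.Lib.FlatNorm_helper4
import Groth.Agent.Lib.ProperOver_helper9
import Groth.Agent.Lib.AbVarFibre_helper4

set_option autoImplicit false
set_option linter.unusedVariables false
set_option linter.unusedTactic false
set_option linter.unreachableTactic false
set_option linter.unusedSectionVars false
set_option linter.style.haveILetI false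
set_option linter.deprecated false
set_option maxHeartbeats 1600000

/-!
# Descent of quasi-affineness along finite surjective morphisms
-/

universe u

namespace Groth.Agent.Lib.QAffDescH4

open CategoryTheory AlgebraicGeometry TopologicalSpace Opposite
open Groth.Agent.Lib.FlatNormH4 Groth.Agent.Lib.NormQAffH4

variable {X Y : Scheme.{u}}

/-- A finite surjective morphism with a (weak) norm descends quasi-affineness. -/
theorem isQuasiAffine_of_weakNorm (π : X ⟶ Y) [IsFinite π] (hsurj : Function.Surjective π)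
    (N : WeakNorm π) [X.IsQuasiAffine] : Y.IsQuasiAffine := by
  haveI : CompactSpace Y := hsurj.compactSpace π.continuous
  refine Scheme.IsQuasiAffine.of_forall_exists_mem_basicOpen Y (fun y => ?_)
  obtain ⟨V, hV, hyV, -⟩ := exists_isAffineOpen_mem_and_subset (x := y) (U := ⊤) trivial
  obtain ⟨x₀, hx₀⟩ := hsurj y
  have hFfin : (π ⁻¹' {y}).Finite := Scheme.Hom.finite_preimage_singleton π y
  obtain ⟨r, hrF, hrW⟩ := exists_basicOpen_of_finite (π ⁻¹ᵁ V) (π ⁻¹' {y}) hFfin
    (fun x hx => by
      show π x ∈ V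
      rw [show π x = y from hx]; exact hyV) x₀
  set f' : Γ(X, π ⁻¹ᵁ ⊤) :=
    (X.presheaf.map (homOfLE (le_top : π ⁻¹ᵁ (⊤ : Y.Opens) ≤ ⊤)).op).hom r with hf'
  have hbo : X.basicOpen f' = (π ⁻¹ᵁ ⊤) ⊓ X.basicOpen r := X.basicOpen_res r _
  have hbo' : X.basicOpen f' = X.basicOpen r := by
    rw [hbo]; exact inf_eq_right.mpr (fun x _ => trivial)
  set t : Γ(Y, ⊤) := N.norm ⊤ f' with ht
  have hle : Y.basicOpen t ≤ V := by
    intro y' hy'
    obtain ⟨x', rfl⟩ := hsurj y'
    by_contra hnot
    have hx'r : x' ∉ X.basicOpen f' := by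
      rw [hbo']
      intro h; exact hnot (hrW h)
    have hxtop : π.base x' ∈ (⊤ : Y.Opens) := trivial
    have hnu : ¬ IsUnit ((X.presheaf.germ (π ⁻¹ᵁ ⊤) x' hxtop) f') := fun hu =>
      hx'r ((X.mem_basicOpen f' x' hxtop).mpr hu)
    have hmem := N.norm_mem ⊤ f' x' hxtop ((IsLocalRing.mem_maximalIdeal _).mpr hnu)
    have hnu' := (IsLocalRing.mem_maximalIdeal _).mp hmem
    exact hnu' ((Y.mem_basicOpen t (π.base x') hxtop).mp hy')
  have hymem : y ∈ Y.basicOpen t := by
    have hZcl : IsClosed (π '' ((X.basicOpen r : Set X)ᶜ)) :=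
      π.isClosedMap _ (X.basicOpen r).isOpen.isClosed_compl
    let V' : Y.Opens := ⟨(π '' ((X.basicOpen r : Set X)ᶜ))ᶜ, hZcl.isOpen_compl⟩
    have hyV' : y ∈ V' := by
      rintro ⟨x, hx, hxy⟩
      exact hx (hrF x hxy)
    have hpre : π ⁻¹ᵁ V' ≤ X.basicOpen f' := by
      intro x hx
      rw [hbo']
      by_contra hxr
      exact hx ⟨x, hxr, rfl⟩
    let i : V' ⟶ ⊤ := homOfLE le_top
    set g : Γ(X, π ⁻¹ᵁ V') := (X.presheaf.map ((Opens.map π.base).map i).op).hom f' with hg
    have hgu : IsUnit g := by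
      refine RingedSpace.isUnit_of_isUnit_germ X.toLocallyRingedSpace.toRingedSpace
        (π ⁻¹ᵁ V') g (fun x hx => ?_)
      have e := X.presheaf.germ_res_apply ((Opens.map π.base).map i) x hx f'
      have hu : IsUnit ((X.presheaf.germ (π ⁻¹ᵁ ⊤) x trivial) f') :=
        (X.mem_basicOpen f' x trivial).mp (hpre hx)
      exact (congrArg IsUnit e).mpr hu
    have hNu : IsUnit (N.norm V' g) := hgu.map (N.norm V')
    have hres := N.norm_res i f'
    have hu2 : IsUnit ((Y.presheaf.map i.op) t) := (congrArg IsUnit hres).mpr hNu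
    have hu3 : IsUnit ((Y.presheaf.germ ⊤ y trivial) t) := by
      have e := Y.presheaf.germ_res_apply i y hyV' t
      exact (congrArg IsUnit e).mp (hu2.map (Y.presheaf.germ V' y hyV').hom)
    exact (Y.mem_basicOpen t y trivial).mpr hu3
  refine ⟨t, ?_, hymem⟩
  have hres : Y.basicOpen ((Y.presheaf.map (homOfLE (le_top : V ≤ ⊤)).op).hom t)
      = V ⊓ Y.basicOpen t := Y.basicOpen_res t _
  have heq : Y.basicOpen t = Y.basicOpen ((Y.presheaf.map (homOfLE (le_top : V ≤ ⊤)).op).hom t) := by
    rw [hres]; exact (inf_eq_right.mpr hle).symm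
  rw [heq]
  exact hV.basicOpen _

/-- Case 1: finite locally free. -/
theorem isQuasiAffine_of_finLocFree (π : X ⟶ Y) [IsFinite π] [Surjective π] [X.IsQuasiAffine]
    (h : Mor2.IsFinLocFree π) : Y.IsQuasiAffine := by
  obtain ⟨hfin, hflat, hfp⟩ := h
  haveI := hflat
  haveI := hfp
  exact isQuasiAffine_of_weakNorm π π.surjective (weakNorm π)

/-- Case 2: the target is integral and normal. -/
theorem isQuasiAffine_of_normal (π : X ⟶ Y) [IsFinite π] [Surjective π] [X.IsQuasiAffine]
    [IsIntegral Y] (hY : Pi1.IsNormalScheme Y) : Y.IsQuasiAffine := by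
  obtain ⟨x, hx⟩ := π.surjective (genericPoint Y)
  have hZ : IsClosed (closure ({x} : Set X)) := isClosed_closure
  have hrange : Set.range (ProperOver.redι (closure ({x} : Set X)) hZ) = closure ({x} : Set X) :=
    ProperOver.range_redι _ hZ
  haveI : IsReduced (ProperOver.red (closure ({x} : Set X)) hZ) :=
    Groth.Agent.Lib.AbVarFibreH4.isReduced_red' _ hZ
  haveI : IrreducibleSpace ↥(ProperOver.red (closure ({x} : Set X)) hZ) := by
    have h1 : IsIrreducible (Set.range (ProperOver.redι (closure ({x} : Set X)) hZ)) := by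
      rw [hrange]; exact isIrreducible_singleton.closure
    haveI : IrreducibleSpace ↥(Set.range (ProperOver.redι (closure ({x} : Set X)) hZ)) :=
      isIrreducible_iff_irreducibleSpace.mp h1
    exact ((ProperOver.redι (closure ({x} : Set X))
      hZ).isClosedEmbedding.isEmbedding.toHomeomorph).irreducibleSpace_iff.mpr inferInstance
  haveI : IsIntegral (ProperOver.red (closure ({x} : Set X)) hZ) :=
    isIntegral_of_irreducibleSpace_of_isReduced _
  haveI : CompactSpace ↥(ProperOver.red (closure ({x} : Set X)) hZ) :=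
    (ProperOver.redι (closure ({x} : Set X)) hZ).isClosedEmbedding.compactSpace
  haveI : (ProperOver.red (closure ({x} : Set X)) hZ).IsQuasiAffine :=
    Scheme.IsQuasiAffine.of_isImmersion (ProperOver.redι (closure ({x} : Set X)) hZ)
  have hsurj' : Function.Surjective (ProperOver.redι (closure ({x} : Set X)) hZ ≫ π) := by
    intro y
    have hcl : IsClosed (π '' closure ({x} : Set X)) := π.isClosedMap _ hZ
    have hgen : genericPoint Y ∈ π '' closure ({x} : Set X) :=
      ⟨x, subset_closure (Set.mem_singleton x), hx⟩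
    have huniv : closure ({genericPoint Y} : Set Y) ⊆ π '' closure ({x} : Set X) :=
      hcl.closure_subset_iff.mpr (Set.singleton_subset_iff.mpr hgen)
    have hy : y ∈ closure ({genericPoint Y} : Set Y) := by
      rw [genericPoint_closure]; trivial
    obtain ⟨z, hzZ, hzy⟩ := huniv hy
    rw [← hrange] at hzZ
    obtain ⟨z', rfl⟩ := hzZ
    exact ⟨z', (Scheme.Hom.comp_apply _ π z').trans hzy⟩
  haveI : Surjective (ProperOver.redι (closure ({x} : Set X)) hZ ≫ π) := ⟨hsurj'⟩
  obtain ⟨d, hd⟩ := Groth.Agent.Lib.FldNormH4.main8881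
    (ProperOver.redι (closure ({x} : Set X)) hZ ≫ π) hY
  exact Groth.Agent.Lib.NormQAffH4.main8880 _ d hd inferInstance

theorem main8860 (π : X ⟶ Y) [IsFinite π] [Surjective π]
    (hX : X.IsQuasiAffine) (h : Mor2.IsFinLocFree π ∨ (IsIntegral Y ∧ Pi1.IsNormalScheme Y)) :
    Y.IsQuasiAffine := by
  haveI := hX
  rcases h with h | ⟨hint, hnorm⟩
  · exact isQuasiAffine_of_finLocFree π h
  · haveI := hint
    exact isQuasiAffine_of_normal π hnorm

end Groth.Agent.Lib.QAffDescH4
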