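import Mathlib
import Groth.Prelude
import Groth.Agent.S8255

set_option autoImplicit false
set_option linter.style.haveILetI false
set_option linter.unusedVariables false

universe u

open CategoryTheory CategoryTheory.Limits AlgebraicGeometry TopologicalSpace Opposite

namespace Groth.Agent.Lib.RelSpecImmH6

theorem inj_comp {A B D : CommRingCat.{u}} (a : A ⟶ B) (b : B ⟶ D)
    (ha : Function.Injective a.hom) (hb : Function.Injective b.hom) :
    Function.Injective (a ≫ b).hom := by
  rw [CommRingCat.hom_comp, RingHom.coe_comp]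
  exact hb.comp ha

theorem inj_iff_of_bij {A B D : CommRingCat.{u}} (a : A ⟶ B) (b : B ⟶ D)
    (ha : Function.Bijective a.hom) :
    Function.Injective (a ≫ b).hom ↔ Function.Injective b.hom := by
  rw [CommRingCat.hom_comp, RingHom.coe_comp]
  exact Function.Injective.of_comp_iff' _ ha

/-- A quasi-compact immersion with trivial kernel is an open immersion. -/
theorem isOpenImmersion_of_ker_eq_bot {X Z : Scheme.{u}} (g : X ⟶ Z) [IsImmersion g]
    [QuasiCompact g] (h : g.ker = ⊥) : IsOpenImmersion g := by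
  haveI : IsSchemeTheoreticallyDominant g := ⟨h⟩
  haveI : IsIso g.liftCoborder := by
    rw [IsClosedImmersion.isIso_iff_ker_eq_bot]
    refine Scheme.IdealSheafData.ext ?_
    funext U
    rw [Scheme.Hom.ker_apply, Scheme.IdealSheafData.ideal_bot, Pi.bot_apply,
      ← RingHom.injective_iff_ker_eq_bot, liftCoborder_app]
    have h1 := g.app_injective (g.coborderRange.ι ''ᵁ U.1)
    have h2 : Function.Injective
        (X.presheaf.map (eqToHom (g.liftCoborder_preimage U.1)).op).hom :=
      (ConcreteCategory.bijective_of_isIso _).injective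
    exact inj_comp _ _ h1 h2
  rw [← g.liftCoborder_ι]
  infer_instance

variable {X Y : Scheme.{u}} (C : RelSpec.QCAlg Y)

theorem algHom_app (g : X ⟶ C.spec) (U : Y.Opens) :
    (AffAlg.algHom C.π (g ≫ C.π) g rfl).app (op U) = g.app (C.π ⁻¹ᵁ U) := by
  simp only [AffAlg.algHom]
  rfl

theorem main (f : X ⟶ Y) [QuasiCompact f] [QuasiSeparated f] (g : X ⟶ C.spec) (w : g ≫ C.π = f)
    [IsImmersion g] (φ : C ⟶ RelSpec.QCAlg.directImage f)
    (hφ : C.gammaMap ≫ φ.hom = AffAlg.algHom C.π f g w) :
    (g.ker = ⊥ ↔ ∀ U : Y.Opens, Function.Injective (φ.hom.app (Opposite.op U)).hom) ∧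
      (g.ker = ⊥ → IsOpenImmersion g) := by
  subst w
  haveI : QuasiCompact g := QuasiCompact.of_comp g C.π
  haveI : IsIso C.gammaMap := Groth.Agent.S8255.result C
  have key : ∀ U : Y.Opens, (C.gammaMap.app (op U)) ≫ φ.hom.app (op U) = g.app (C.π ⁻¹ᵁ U) := by
    intro U
    rw [← NatTrans.comp_app, hφ, algHom_app]
  have hbij : ∀ U : Y.Opens, Function.Bijective (C.gammaMap.app (op U)).hom := fun U =>
    ConcreteCategory.bijective_of_isIso (C.gammaMap.app (op U))
  have hiff : ∀ U : Y.Opens, Function.Injective (φ.hom.app (op U)).hom ↔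
      Function.Injective (g.app (C.π ⁻¹ᵁ U)).hom := by
    intro U
    rw [← key U]
    exact (inj_iff_of_bij _ _ (hbij U)).symm
  refine ⟨⟨fun h U => ?_, fun h => ?_⟩, fun h => isOpenImmersion_of_ker_eq_bot g h⟩
  · haveI : IsSchemeTheoreticallyDominant g := ⟨h⟩
    rw [hiff]
    exact g.app_injective _
  · refine Scheme.IdealSheafData.ext_of_iSup_eq_top
      (fun U : Y.affineOpens => (⟨C.π ⁻¹ᵁ U.1, U.2.preimage C.π⟩ : C.spec.affineOpens)) ?_ ?_
    · rw [eq_top_iff]
      intro z _
      obtain ⟨_, ⟨V, hV : IsAffineOpen V, rfl⟩, hzV, -⟩ :=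
        (Y.isBasis_affineOpens).exists_subset_of_mem_open (Set.mem_univ (C.π.base z)) isOpen_univ
      exact Opens.mem_iSup.mpr ⟨⟨V, hV⟩, hzV⟩
    · intro U
      rw [Scheme.Hom.ker_apply, Scheme.IdealSheafData.ideal_bot, Pi.bot_apply,
        ← RingHom.injective_iff_ker_eq_bot]
      exact (hiff U.1).mp (h U.1)

end Groth.Agent.Lib.RelSpecImmH6
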