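import Mathlib
import Groth.Prelude
import Groth.Agent.S8255
import Groth.Agent.S3569
import Groth.Agent.Lib.RelSpecImm_helper6
import Groth.Agent.Lib.DirImgPO_helper5

set_option autoImplicit false
set_option linter.style.haveILetI false
set_option linter.unusedVariables false

universe u

open CategoryTheory CategoryTheory.Limits AlgebraicGeometry TopologicalSpace Opposite

namespace Groth.Agent.Lib.QAffSpecH6

/-- A morphism from a quasi-affine scheme to an affine scheme inducing an isomorphism on global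
sections is an open immersion. -/
theorem isOpenImmersion_of_isIso_appTop {Q W : Scheme.{u}} [Q.IsQuasiAffine] [IsAffine W]
    (c : Q ⟶ W) [IsIso c.appTop] : IsOpenImmersion c := by
  have h1 : c ≫ W.toSpecΓ = Q.toSpecΓ ≫ Spec.map c.appTop := Scheme.toSpecΓ_naturality c
  have h2 : c = (Q.toSpecΓ ≫ Spec.map c.appTop) ≫ inv W.toSpecΓ := by
    rw [← h1, Category.assoc, IsIso.hom_inv_id, Category.comp_id]
  rw [h2]
  infer_instance

variable {X S : Scheme.{u}} (f : X ⟶ S) [QuasiCompact f] [QuasiSeparated f]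

theorem exists_canonical :
    ∃ (c : X ⟶ (RelSpec.QCAlg.directImage f).spec)
      (e : c ≫ (RelSpec.QCAlg.directImage f).π = f),
      (RelSpec.QCAlg.directImage f).gammaMap =
        AffAlg.algHom (RelSpec.QCAlg.directImage f).π f c e := by
  obtain ⟨h, hh⟩ := (Groth.Agent.S3569.result (RelSpec.QCAlg.directImage f).π f).2
    ⟨(RelSpec.QCAlg.directImage f).gammaMap, (RelSpec.QCAlg.directImage f).π_c_gammaMap⟩
  exact ⟨h.1, h.2, (congrArg Subtype.val hh).symm⟩

theorem iSup_preimage_affineOpens (A : RelSpec.QCAlg S) :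
    ⨆ V : S.affineOpens, A.π ⁻¹ᵁ V.1 = ⊤ := by
  rw [eq_top_iff]
  intro z _
  obtain ⟨_, ⟨V, hV : IsAffineOpen V, rfl⟩, hzV, -⟩ :=
    (S.isBasis_affineOpens).exists_subset_of_mem_open (Set.mem_univ (A.π.base z)) isOpen_univ
  exact Opens.mem_iSup.mpr ⟨⟨V, hV⟩, hzV⟩

theorem preimage_eq (c : X ⟶ (RelSpec.QCAlg.directImage f).spec)
    (e : c ≫ (RelSpec.QCAlg.directImage f).π = f) (V : S.Opens) :
    c ⁻¹ᵁ ((RelSpec.QCAlg.directImage f).π ⁻¹ᵁ V) = f ⁻¹ᵁ V := by
  rw [← Scheme.Hom.comp_preimage, e]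

theorem isIso_app_of_eq (c : X ⟶ (RelSpec.QCAlg.directImage f).spec)
    (e : c ≫ (RelSpec.QCAlg.directImage f).π = f)
    (hc : (RelSpec.QCAlg.directImage f).gammaMap =
        AffAlg.algHom (RelSpec.QCAlg.directImage f).π f c e) (V : S.Opens) :
    IsIso (c.app ((RelSpec.QCAlg.directImage f).π ⁻¹ᵁ V)) := by
  haveI : IsIso (RelSpec.QCAlg.directImage f).gammaMap :=
    Groth.Agent.S8255.result (RelSpec.QCAlg.directImage f)
  have h1 : IsIso ((AffAlg.algHom (RelSpec.QCAlg.directImage f).π f c e).app (op V)) := by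
    rw [← hc]
    exact NatIso.isIso_app_of_isIso (RelSpec.QCAlg.directImage f).gammaMap (op V)
  rw [Groth.Agent.DirImgPO.algHom_app] at h1
  have h2 : c.app ((RelSpec.QCAlg.directImage f).π ⁻¹ᵁ V) =
      c.appLE ((RelSpec.QCAlg.directImage f).π ⁻¹ᵁ V) (f ⁻¹ᵁ V)
        (by rw [preimage_eq f c e V]) ≫
      X.presheaf.map (eqToHom (preimage_eq f c e V)).op := by
    rw [Scheme.Hom.appLE_map, ← Scheme.Hom.app_eq_appLE]
  rw [h2]
  infer_instance

theorem fwd (hf : MoreMor.IsQuasiAffineHom f) :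
    ∃ (c : X ⟶ (RelSpec.QCAlg.directImage f).spec)
      (e : c ≫ (RelSpec.QCAlg.directImage f).π = f),
      (RelSpec.QCAlg.directImage f).gammaMap =
        AffAlg.algHom (RelSpec.QCAlg.directImage f).π f c e ∧ QuasiCompact c ∧ IsOpenImmersion c := by
  obtain ⟨c, e, hc⟩ := exists_canonical f
  refine ⟨c, e, hc, ?_, ?_⟩
  · haveI : QuasiCompact (c ≫ (RelSpec.QCAlg.directImage f).π) := by rw [e]; infer_instance
    exact QuasiCompact.of_comp c (RelSpec.QCAlg.directImage f).π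
  · rw [IsZariskiLocalAtTarget.iff_of_iSup_eq_top (P := @IsOpenImmersion)
      (fun V : S.affineOpens => (RelSpec.QCAlg.directImage f).π ⁻¹ᵁ V.1)
      (iSup_preimage_affineOpens (RelSpec.QCAlg.directImage f))]
    intro V
    haveI : IsAffine ((RelSpec.QCAlg.directImage f).π ⁻¹ᵁ V.1) :=
      V.2.preimage (RelSpec.QCAlg.directImage f).π
    haveI : (c ⁻¹ᵁ ((RelSpec.QCAlg.directImage f).π ⁻¹ᵁ V.1) : Scheme.{u}).IsQuasiAffine := by
      rw [preimage_eq f c e V.1]
      exact hf.2 V.1 V.2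
    haveI : IsIso (c ∣_ ((RelSpec.QCAlg.directImage f).π ⁻¹ᵁ V.1)).appTop := by
      rw [morphismRestrict_appTop]
      have hW : ((RelSpec.QCAlg.directImage f).π ⁻¹ᵁ V.1).ι ''ᵁ ⊤ =
          (RelSpec.QCAlg.directImage f).π ⁻¹ᵁ V.1 := by simp
      have h3 : IsIso (c.app (((RelSpec.QCAlg.directImage f).π ⁻¹ᵁ V.1).ι ''ᵁ ⊤)) := by
        rw [hW]; exact isIso_app_of_eq f c e hc V.1
      exact @IsIso.comp_isIso _ _ _ _ _ _ _ h3 (Functor.map_isIso X.presheaf _)
    exact isOpenImmersion_of_isIso_appTop _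

theorem bwd (c : X ⟶ (RelSpec.QCAlg.directImage f).spec)
    (e : c ≫ (RelSpec.QCAlg.directImage f).π = f) [QuasiCompact c] [IsOpenImmersion c] :
    MoreMor.IsQuasiAffineHom f := by
  refine ⟨inferInstance, fun V hV => ?_⟩
  rw [← preimage_eq f c e V]
  haveI : IsAffine ((RelSpec.QCAlg.directImage f).π ⁻¹ᵁ V) :=
    hV.preimage (RelSpec.QCAlg.directImage f).π
  haveI : CompactSpace (c ⁻¹ᵁ ((RelSpec.QCAlg.directImage f).π ⁻¹ᵁ V) : Scheme.{u}) :=
    isCompact_iff_compactSpace.mp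
      (c.isCompact_preimage (hV.preimage (RelSpec.QCAlg.directImage f).π).isCompact)
  exact Scheme.IsQuasiAffine.of_isImmersion (c ∣_ ((RelSpec.QCAlg.directImage f).π ⁻¹ᵁ V))

theorem main :
    MoreMor.IsQuasiAffineHom f ↔
      ∃ (c : X ⟶ (RelSpec.QCAlg.directImage f).spec)
        (e : c ≫ (RelSpec.QCAlg.directImage f).π = f),
        (RelSpec.QCAlg.directImage f).gammaMap =
          AffAlg.algHom (RelSpec.QCAlg.directImage f).π f c e ∧ QuasiCompact c ∧ IsOpenImmersion c :=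
  ⟨fwd f, fun ⟨c, e, _, h1, h2⟩ => by haveI := h1; haveI := h2; exact bwd f c e⟩

end Groth.Agent.Lib.QAffSpecH6
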