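import Mathlib
import Groth.Prelude
import Groth.Agent.Lib.ImmDescent2_helper6
import Groth.Agent.Lib.QAffSpec_helper6
import Groth.Agent.Lib.SymAlg7_helper5

set_option autoImplicit false
set_option linter.style.haveILetI false
set_option linter.unusedVariables false

universe u

open CategoryTheory CategoryTheory.Limits AlgebraicGeometry TopologicalSpace Opposite RelSpec

namespace Groth.Agent.Lib.QAffFactorH6

theorem quasiSeparated_of_isQuasiAffineHom {X Y : Scheme.{u}} (f : X ⟶ Y)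
    (hf : MoreMor.IsQuasiAffineHom f) : QuasiSeparated f := by
  refine HasAffineProperty.of_iSup_eq_top (P := @QuasiSeparated) (fun U : Y.affineOpens => U)
    (iSup_affineOpens_eq_top Y) (fun U => ?_)
  haveI := hf.2 U.1 U.2
  show QuasiSeparatedSpace ↑(f ⁻¹ᵁ U.1)
  infer_instance

theorem main {X Y : Scheme.{u}} [CompactSpace Y] [Y.IsSeparated]
    (f : X ⟶ Y) (hf : Mor2.IsQuasiAffine f) [LocallyOfFiniteType f] :
    ∃ (X'' : Scheme.{u}) (g : X'' ⟶ Y) (j : X ⟶ X''),
      IsAffineHom g ∧ LocallyOfFiniteType g ∧ IsImmersion j ∧ j ≫ g = f := by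
  have hf' : MoreMor.IsQuasiAffineHom f := hf
  haveI : QuasiCompact f := hf.1
  haveI : QuasiSeparated f := quasiSeparated_of_isQuasiAffineHom f hf'
  obtain ⟨c, e, -, hqc, hoi⟩ := Groth.Agent.Lib.QAffSpecH6.fwd f hf'
  haveI := hoi
  obtain ⟨C', φ, -, hft, himm⟩ :=
    Groth.Agent.Lib.ImmDescent2H6.exists_sub f (QCAlg.directImage f) c e
  refine ⟨C'.spec, C'.π, c ≫ QCAlg.specMap φ, inferInstance, ?_, himm, ?_⟩
  · refine Groth.Agent.SymAlg.of_chart_π @LocallyOfFiniteType C' (fun U hU => ?_)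
    rw [HasRingHomProperty.Spec_iff (P := @LocallyOfFiniteType)]
    exact hft ⟨U, hU⟩
  · rw [Category.assoc, QCAlg.specMap_π, e]

end Groth.Agent.Lib.QAffFactorH6
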