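import Mathlib
import Groth.Agent.Lib.WeakAss_helper4

/-!
# Weakly associated primes and finite ring maps (helper7)

For a finite ring map `R → S` and an `S`-module `N`, the contraction of a weakly associated prime
of `N` over `S` is weakly associated to `N` over `R`.
-/

set_option backward.isDefEq.respectTransparency false
set_option backward.isDefEq.respectTransparency.types false
set_option linter.style.haveILetI false
set_option linter.unusedSectionVars false
set_option linter.unusedVariables false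
set_option autoImplicit false
set_option maxHeartbeats 1600000
set_option maxSynthPendingDepth 3

open TensorProduct

namespace Groth.Agent.Lib.QCEtH7

open Groth.Agent.Lib.WeakAss_helper4

section FiniteAlg

variable {R S : Type*} [CommRing R] [CommRing S] [Algebra R S]

theorem aeval_eq_divX (s : S) (P : Polynomial R) :
    Polynomial.aeval s P = s * Polynomial.aeval s P.divX + algebraMap R S (P.coeff 0) := by
  conv_lhs => rw [← Polynomial.divX_mul_X_add P]
  rw [map_add, map_mul, Polynomial.aeval_X, Polynomial.aeval_C, mul_comm]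

theorem exists_poly_aux (p : Ideal R) (q : Ideal S) [hq : q.IsPrime]
    (hpq : ∀ c ∈ p, algebraMap R S c ∈ q) (s : S) (hs : s ∉ q) :
    ∀ (i : ℕ) (P : Polynomial R), P.coeff i ∉ p → Polynomial.aeval s P ∈ q →
      ∃ Q : Polynomial R, Polynomial.aeval s Q ∈ q ∧ Q.coeff 0 ∉ p := by
  intro i
  induction i with
  | zero =>
    intro P h1 h2
    exact ⟨P, h2, h1⟩
  | succ i ih =>
    intro P h1 h2
    by_cases h0 : P.coeff 0 ∈ p
    · apply ih P.divX
      · rw [Polynomial.coeff_divX]
        exact h1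
      · rw [aeval_eq_divX] at h2
        have h4 : s * Polynomial.aeval s P.divX ∈ q :=
          (Ideal.add_mem_iff_left q (hpq _ h0)).1 h2
        exact (hq.mem_or_mem h4).resolve_left hs
    · exact ⟨P, h2, h0⟩

/-- the key separation: an element outside `q` killed, modulo `J`, by an element avoiding all
the other primes over the contraction of `q` -/
theorem exists_mul_mem_of_minimal [Algebra.IsIntegral R S] (J q : Ideal S)
    (hq : q ∈ J.minimalPrimes)
    (hfin : ((q.comap (algebraMap R S)).primesOver S).Finite) :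
    ∃ g h : S, g ∉ q ∧ h * g ∈ J ∧ ∀ q'' : Ideal S, q''.IsPrime →
      q''.comap (algebraMap R S) = q.comap (algebraMap R S) → q'' ≠ q → h ∉ q'' := by
  classical
  haveI hqp : q.IsPrime := hq.1.1
  obtain ⟨p, hp⟩ : ∃ p : Ideal R, p = q.comap (algebraMap R S) := ⟨_, rfl⟩
  haveI hpp : p.IsPrime := by
    rw [hp]
    infer_instance
  rw [← hp] at hfin
  have hpq : ∀ c ∈ p, algebraMap R S c ∈ q := by
    intro c hc
    rw [hp] at hc
    exact hc
  -- elements separating the other primes over `p` from `q`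
  have hsep : ∀ q'' : Ideal S, ∃ s : S,
      q''.IsPrime → q''.comap (algebraMap R S) = p → q'' ≠ q → s ∈ q'' ∧ s ∉ q := by
    intro q''
    by_cases hc : q''.IsPrime ∧ q''.comap (algebraMap R S) = p ∧ q'' ≠ q
    · obtain ⟨h1, h2, h3⟩ := hc
      haveI := h1
      have hnle : ¬ q'' ≤ q := by
        intro hle
        have hlt : q'' < q := lt_of_le_of_ne hle h3
        have h4 := Ideal.IsIntegral.comap_lt_comap (R := R) hlt
        rw [h2, ← hp] at h4
        exact lt_irrefl _ h4
      obtain ⟨s, hs1, hs2⟩ := Set.not_subset.1 hnle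
      exact ⟨s, fun _ _ _ => ⟨hs1, hs2⟩⟩
    · refine ⟨0, fun h1 h2 h3 => ?_⟩
      exact absurd ⟨h1, h2, h3⟩ hc
  choose sfun hsfun using hsep
  obtain ⟨Sg, hSg⟩ : ∃ Sg : Finset (Ideal S), Sg = hfin.toFinset.erase q := ⟨_, rfl⟩
  have hmemSg : ∀ q'' : Ideal S, q'' ∈ Sg ↔
      q'' ≠ q ∧ q''.IsPrime ∧ q''.comap (algebraMap R S) = p := by
    intro q''
    rw [hSg, Finset.mem_erase, Set.Finite.mem_toFinset]
    constructor
    · rintro ⟨h1, h2, h3⟩
      exact ⟨h1, h2, h3.over.symm⟩
    · rintro ⟨h1, h2, h3⟩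
      exact ⟨h1, h2, ⟨h3.symm⟩⟩
  obtain ⟨s, hs⟩ : ∃ s : S, s = ∏ q'' ∈ Sg, sfun q'' := ⟨_, rfl⟩
  have hsq : s ∉ q := by
    rw [hs, hqp.prod_mem_iff]
    rintro ⟨q'', hq'', hmem⟩
    obtain ⟨h1, h2, h3⟩ := (hmemSg q'').1 hq''
    exact (hsfun q'' h2 h3 h1).2 hmem
  have hsSg : ∀ q'' : Ideal S, q''.IsPrime → q''.comap (algebraMap R S) = p → q'' ≠ q →
      s ∈ q'' := by
    intro q'' h2 h3 h1
    have hmem : q'' ∈ Sg := (hmemSg q'').2 ⟨h1, h2, h3⟩
    rw [hs]
    exact Ideal.mem_of_dvd q'' (Finset.dvd_prod_of_mem sfun hmem) (hsfun q'' h2 h3 h1).1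
  -- the integral equation of `s`
  obtain ⟨P, hPm, hP0⟩ := Algebra.IsIntegral.isIntegral (R := R) s
  have hPc : P.coeff P.natDegree ∉ p := by
    rw [hPm.coeff_natDegree]
    exact (Ideal.ne_top_iff_one p).1 hpp.ne_top
  have hPq : Polynomial.aeval s P ∈ q := by
    rw [Polynomial.aeval_def, hP0]
    exact q.zero_mem
  obtain ⟨Q, hQq, hQ0⟩ := exists_poly_aux p q hpq s hsq P.natDegree P hPc hPq
  obtain ⟨u, hu, n, hun⟩ := exists_mul_pow_mem hq hQq
  refine ⟨u, (Polynomial.aeval s Q) ^ n, hu, ?_, ?_⟩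
  · rw [mul_comm]
    exact hun
  · intro q'' h2 h3 h1 hmem
    rw [← hp] at h3
    have h5 : Polynomial.aeval s Q ∈ q'' := h2.mem_of_pow_mem n hmem
    rw [aeval_eq_divX] at h5
    have h6 : algebraMap R S (Q.coeff 0) ∈ q'' :=
      (Ideal.add_mem_iff_right q'' (q''.mul_mem_right _ (hsSg q'' h2 h3 h1))).1 h5
    apply hQ0
    rw [← h3]
    exact h6

/-- **Stacks 10.66.13 (the nontrivial inclusion)**: for a finite ring map `R → S` and an
`S`-module `N`, the contraction of a prime of `S` minimal over the annihilator of an element of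
`N` is minimal over the `R`-annihilator of an element of `N`. -/
theorem exists_minimalPrimes_comap_of_finite [Module.Finite R S] {N : Type*} [AddCommGroup N]
    [Module S N] (x : N) (q : Ideal S)
    (hq : q ∈ (Submodule.span S {x}).annihilator.minimalPrimes) :
    ∃ x' : N, q.comap (algebraMap R S) ∈
      ((Submodule.span S {x'}).annihilator.comap (algebraMap R S)).minimalPrimes := by
  haveI hqp : q.IsPrime := hq.1.1
  haveI : Algebra.IsIntegral R S := inferInstance
  have hfin : ((q.comap (algebraMap R S)).primesOver S).Finite :=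
    Algebra.QuasiFinite.finite_primesOver _
  obtain ⟨g, h, hg, hhg, hsep⟩ := exists_mul_mem_of_minimal (R := R) _ q hq hfin
  obtain ⟨J, hJ⟩ : ∃ J : Ideal S, J = (Submodule.span S {x}).annihilator := ⟨_, rfl⟩
  obtain ⟨J', hJ'⟩ : ∃ J' : Ideal S, J' = (Submodule.span S {g • x}).annihilator := ⟨_, rfl⟩
  rw [← hJ] at hq hhg
  have hJJ' : J ≤ J' := by
    intro a ha
    rw [hJ, Submodule.mem_annihilator_span_singleton] at ha
    rw [hJ', Submodule.mem_annihilator_span_singleton, smul_comm, ha, smul_zero]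
  have hJ'q : J' ≤ q := by
    intro a ha
    rw [hJ', Submodule.mem_annihilator_span_singleton, smul_smul] at ha
    have h1 : a * g ∈ J := by
      rw [hJ, Submodule.mem_annihilator_span_singleton]
      exact ha
    exact (hqp.mem_or_mem (hq.1.2 h1)).resolve_right hg
  have hhJ' : h ∈ J' := by
    rw [hJ', Submodule.mem_annihilator_span_singleton, smul_smul]
    rw [hJ, Submodule.mem_annihilator_span_singleton] at hhg
    exact hhg
  refine ⟨g • x, ?_⟩
  rw [← hJ']
  refine ⟨⟨inferInstance, Ideal.comap_mono hJ'q⟩, ?_⟩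
  rintro p' ⟨hp'prime, hp'J'⟩ hp'le
  haveI := hp'prime
  -- lying over and going up
  obtain ⟨q', hq'J', hq'prime, hq'p'⟩ :=
    Ideal.exists_ideal_over_prime_of_isIntegral (S := S) p' J' hp'J'
  haveI := hq'prime
  obtain ⟨q'', hq''q', hq''prime, hq''p⟩ :=
    Ideal.exists_ideal_over_prime_of_isIntegral_of_isPrime (S := S)
      (q.comap (algebraMap R S)) q' (by rw [hq'p']; exact hp'le)
  have hq''eq : q'' = q := by
    by_contra hne
    exact hsep q'' hq''prime hq''p hne (hq''q' (hq'J' hhJ'))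
  have hq'q : q' ≤ q := hq''eq ▸ hq''q'
  have hqq' : q ≤ q' := hq.2 ⟨hq'prime, hJJ'.trans hq'J'⟩ hq'q
  rw [← hq'p']
  exact Ideal.comap_mono hqq'

end FiniteAlg

end Groth.Agent.Lib.QCEtH7
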