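import Mathlib
import Groth.Agent.Lib.QCEt15_helper7
import Groth.Agent.Lib.QCEt16_helper7

/-!
# Weakly associated points of pushforwards of quasi-coherent modules along finite morphisms
(helper7)
-/

set_option backward.isDefEq.respectTransparency false
set_option backward.isDefEq.respectTransparency.types false
set_option linter.style.haveILetI false
set_option linter.unusedSectionVars false
set_option linter.unusedVariables false
set_option autoImplicit false
set_option maxHeartbeats 1600000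
set_option maxSynthPendingDepth 3

universe u v

open CategoryTheory Limits Opposite AlgebraicGeometry AlgSp TensorProduct

namespace Groth.Agent.Lib.QCEtH7

open Groth.Agent.Lib.WeakAssEtH7 Groth.Agent.Lib.IdealEtBH7 Groth.Agent.Lib.EtPostcomp_helper7
  Groth.Agent.Lib.EtStalkPt_helper7 Groth.Agent.Lib.AlgSpPoints_helper7
  Groth.Agent.Lib.AlgSpPullback_helper7 Groth.Agent.Lib.AlgSpQC_helper7
  Groth.Agent.Lib.EtNbhd_helper7 Groth.Agent.Lib.WeakAss_helper4

variable {S : Scheme.{u}}

/-- **S10815** -/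
theorem main10815 (X Y : AlgSp.Space S) (f : X ⟶ Y) (hf : AlgSp.Representable f.hom)
    (hfin : AlgSp.IsFiniteMor f.hom) (M : AlgSp.ModEt X.obj) [M.IsQuasicoherent] :
    AlgSp.WeakAssEt ((AlgSp.pushModEt hf).obj M) =
      AlgSp.Points.map f.hom '' AlgSp.WeakAssEt M := by
  have haff : IsAffineMor f.hom := by
    intro Z hZ g
    obtain ⟨W, i, fst, sq, hW, _⟩ := hfin hZ g
    exact ⟨W, i, fst, sq, hW⟩
  apply Set.Subset.antisymm (main10818 X Y f hf haff M)
  rintro y ⟨x, hx, rfl⟩
  obtain ⟨V, hV, v, hv⟩ := exists_affine_chart Y.property (Points.map f.hom x)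
  haveI := hV
  have hfinH : RepWith @IsFinite f.hom :=
    Groth.Agent.Lib.AlgSpGlue2H7.repWith_of_affine_local @IsFinite f.hom (fun Z hZ g => by
      obtain ⟨W, i, fst, sq, hW, hi⟩ := hfin hZ g
      exact ⟨W, i, fst, sq, hi⟩)
  haveI hfh : IsFinite (hf.snd V.obj.hom).left :=
    hfinH.2 V.obj.hom (hf.fst V.obj.hom) (hf.snd V.obj.hom) (hf.isPullback V.obj.hom)
  haveI hU : IsAffine ((EtOver.bc hf).obj V).obj.left.left :=
    isAffine_of_isAffineHom (hf.snd V.obj.hom).left
  obtain ⟨u', hu'v, s', hs'⟩ := exists_lift_weakAss X Y f hf M x hx V v hv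
  letI alg : Algebra Γ(V.obj.left.left, ⊤) Γ(((EtOver.bc hf).obj V).obj.left.left, ⊤) :=
    (hf.snd V.obj.hom).left.appTop.hom.toAlgebra
  haveI hmf : Module.Finite Γ(V.obj.left.left, ⊤) Γ(((EtOver.bc hf).obj V).obj.left.left, ⊤) :=
    (hf.snd V.obj.hom).left.finite_appTop
  letI : Module Γ(((EtOver.bc hf).obj V).obj.left.left, ⊤)
      (sectModEt M ((EtOver.bc hf).obj V)) :=
    Module.compHom _ (upΓ ((EtOver.bc hf).obj V))
  have h1 : ∀ s : sectModEt M ((EtOver.bc hf).obj V), annSect s =
      (Submodule.span Γ(((EtOver.bc hf).obj V).obj.left.left, ⊤) {s}).annihilator := by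
    intro s
    ext a
    rw [mem_annSect_iff, Submodule.mem_annihilator_span_singleton]
    exact Iff.rfl
  rw [h1] at hs'
  obtain ⟨s'', hs''⟩ := exists_minimalPrimes_comap_of_finite (R := Γ(V.obj.left.left, ⊤)) s' _ hs'
  rw [← h1] at hs''
  obtain ⟨t, ht⟩ := annSect_push X Y f hf M V s''
  have h2 : Ideal.comap (hf.snd V.obj.hom).left.appTop.hom
      (primeAtPt ((EtOver.bc hf).obj V).obj.left.left u') = primeAtPt V.obj.left.left v := by
    have h3 := primeAtPt_comap (hf.snd V.obj.hom).left u'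
    rw [hu'v] at h3
    exact h3
  refine ⟨V, hV, v, hv, t, ?_⟩
  rw [ht, ← h2]
  exact hs''

end Groth.Agent.Lib.QCEtH7
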