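import Mathlib
import Groth.Agent.Lib.QCEt38_helper7

/-!
# Base change of submodules, annihilators and localisations away from an element (helper7)
-/

set_option backward.isDefEq.respectTransparency false
set_option backward.isDefEq.respectTransparency.types false
set_option linter.style.haveILetI false
set_option linter.unusedSectionVars false
set_option linter.unusedVariables false
set_option autoImplicit false
set_option maxHeartbeats 1600000
set_option maxSynthPendingDepth 3

universe u v

open TensorProduct

namespace Groth.Agent.Lib.QCEtH7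

section InstForm

variable {A A' : Type*} [CommRing A] [CommRing A'] [Algebra A A']

/-- **flat base change of a submodule spanned by the image** (instance form) -/
theorem isBaseChange_of_sub [Module.Flat A A']
    {N P1 N' P1' : Type*} [AddCommGroup N] [Module A N] [AddCommGroup P1] [Module A P1]
    [AddCommGroup N'] [Module A N'] [Module A' N'] [IsScalarTower A A' N']
    [AddCommGroup P1'] [Module A P1'] [Module A' P1'] [IsScalarTower A A' P1']
    (f : N →ₗ[A] P1) (f' : N' →ₗ[A'] P1')
    (hf : Function.Injective f) (hf' : Function.Injective f')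
    (β : N →ₗ[A] N') (β1 : P1 →ₗ[A] P1')
    (h1 : ∀ n, f' (β n) = β1 (f n)) (hb1 : IsBaseChange A' β1)
    (hspan : ∀ n' : N', f' n' ∈ Submodule.span A' (Set.range fun n => β1 (f n))) :
    IsBaseChange A' β := by
  have hinjT := Module.Flat.lTensor_preserves_injective_linearMap (M := A') f hf
  have hi : ∀ z : A' ⊗[A] N, f' (β.liftBaseChange A' z) = hb1.equiv (f.lTensor A' z) := by
    intro z
    induction z using TensorProduct.induction_on with
    | zero => rw [map_zero, map_zero, map_zero, map_zero]
    | tmul a n =>
      rw [LinearMap.liftBaseChange_tmul, map_smul, h1, LinearMap.lTensor_tmul,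
        IsBaseChange.equiv_tmul]
    | add x y hx hy => rw [map_add, map_add, map_add, map_add, hx, hy]
  have hinj : Function.Injective (β.liftBaseChange A') := by
    rw [injective_iff_map_eq_zero]
    intro z hz
    have h := hi z
    rw [hz, map_zero] at h
    have h3 : f.lTensor A' z = 0 := by
      apply hb1.equiv.injective
      rw [← h, map_zero]
    apply hinjT
    rw [h3, map_zero]
  have hsurj : Function.Surjective (β.liftBaseChange A') := by
    intro n'
    have hle : Submodule.span A' (Set.range fun n => β1 (f n)) ≤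
        LinearMap.range (f'.comp (β.liftBaseChange A')) := by
      rw [Submodule.span_le]
      rintro _ ⟨n, rfl⟩
      refine ⟨(1 : A') ⊗ₜ[A] n, ?_⟩
      rw [LinearMap.comp_apply, LinearMap.liftBaseChange_tmul, one_smul, h1]
    obtain ⟨z, hz⟩ := hle (hspan n')
    exact ⟨z, hf' hz⟩
  exact IsBaseChange.of_equiv (LinearEquiv.ofBijective (β.liftBaseChange A') ⟨hinj, hsurj⟩)
    (fun x => by
      rw [LinearEquiv.ofBijective_apply, LinearMap.liftBaseChange_tmul, one_smul])

end InstForm

section HomForm

variable {A B : Type*} [CommRing A] [CommRing B] (φ : A →+* B)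

/-- ring-hom form of `isBaseChange_of_sub` -/
theorem IsBCAlong.of_sub (hflat : φ.Flat)
    {N P1 N' P1' : Type*} [AddCommGroup N] [Module A N] [AddCommGroup P1] [Module A P1]
    [AddCommGroup N'] [Module B N'] [AddCommGroup P1'] [Module B P1']
    (f : N →ₗ[A] P1) (f' : N' →ₗ[B] P1')
    (hf : Function.Injective f) (hf' : Function.Injective f')
    (β : N →+ N') (β1 : P1 →+ P1') (hβ : IsSemi φ β)
    (h1 : ∀ n, f' (β n) = β1 (f n)) (hb1 : IsBCAlong φ β1)
    (hspan : ∀ n' : N', f' n' ∈ Submodule.span B (Set.range fun n => β1 (f n))) :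
    IsBCAlong φ β := by
  refine ⟨hβ, ?_⟩
  letI := φ.toAlgebra
  haveI : Module.Flat A B := hflat
  letI := modAlong φ N'
  haveI := towerAlong φ N'
  letI := modAlong φ P1'
  haveI := towerAlong φ P1'
  exact isBaseChange_of_sub f f' hf hf' (linAlong φ β hβ) (linAlong φ β1 hb1.1) h1 hb1.2 hspan

/-- the multiplication map by a finite family of scalars -/
def mulFam {K : Type*} {R P : Type*} [CommRing R] [AddCommGroup P] [Module R P] (a : K → R) :
    P →ₗ[R] (K → P) where
  toFun p k := a k • p
  map_add' p q := by
    funext k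
    exact smul_add _ _ _
  map_smul' c p := by
    funext k
    exact smul_comm _ _ _

theorem mulFam_apply {K : Type*} {R P : Type*} [CommRing R] [AddCommGroup P] [Module R P]
    (a : K → R) (p : P) (k : K) : mulFam a p k = a k • p := rfl

/-- **flat base change of annihilated elements**: an element of the base change killed by the
images of finitely many scalars is a combination of images of elements killed by the scalars -/
theorem IsBCAlong.span_ann (hflat : φ.Flat) {P P' : Type*} [AddCommGroup P] [Module A P]
    [AddCommGroup P'] [Module B P'] (β1 : P →+ P') (hb1 : IsBCAlong φ β1)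
    {K : Type*} [Fintype K] [DecidableEq K] (a : K → A)
    (p' : P') (hp' : ∀ k, φ (a k) • p' = 0) :
    p' ∈ Submodule.span B (β1 '' {p | ∀ k, a k • p = 0}) := by
  obtain ⟨N, hN⟩ : ∃ N : Submodule A P, N = LinearMap.ker (mulFam (P := P) a) := ⟨_, rfl⟩
  obtain ⟨N', hN'⟩ : ∃ N' : Submodule B P',
      N' = LinearMap.ker (mulFam (P := P') (fun k => φ (a k))) := ⟨_, rfl⟩
  have hmemN : ∀ p : P, p ∈ N ↔ ∀ k, a k • p = 0 := by
    intro p
    rw [hN, LinearMap.mem_ker]
    constructor
    · intro h k
      exact congrFun h k
    · intro h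
      funext k
      exact h k
  have hmemN' : ∀ p : P', p ∈ N' ↔ ∀ k, φ (a k) • p = 0 := by
    intro p
    rw [hN', LinearMap.mem_ker]
    constructor
    · intro h k
      exact congrFun h k
    · intro h
      funext k
      exact h k
  have hmap : ∀ n : N, β1 n.1 ∈ N' := by
    intro n
    rw [hmemN']
    intro k
    rw [← hb1.1 (a k) n.1, (hmemN n.1).1 n.2 k, map_zero]
  obtain ⟨β, hβ⟩ : ∃ β : N →+ N', ∀ n : N, (β n).1 = β1 n.1 :=
    ⟨AddMonoidHom.mk' (fun n => ⟨β1 n.1, hmap n⟩) (fun x y => by
      apply Subtype.ext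
      show β1 (x.1 + y.1) = β1 x.1 + β1 y.1
      exact map_add β1 _ _), fun n => rfl⟩
  have hβsemi : IsSemi φ β := by
    intro c n
    apply Subtype.ext
    rw [hβ]
    show β1 (c • n.1) = φ c • (β n).1
    rw [hb1.1, hβ]
  have hbc : IsBCAlong φ β := by
    refine IsBCAlong.of_exact φ hflat N.subtype (mulFam a) N'.subtype
      (mulFam (fun k => φ (a k))) Subtype.val_injective ?_ ?_ Subtype.val_injective ?_
      β β1 (piAdd fun _ : K => β1) hβsemi ?_ ?_ hb1 (IsBCAlong.pi φ _ fun _ => hb1)
    · intro n
      funext k
      exact (hmemN n.1).1 n.2 k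
    · intro p hp
      refine ⟨⟨p, ?_⟩, rfl⟩
      rw [hmemN]
      intro k
      exact congrFun hp k
    · intro n
      funext k
      exact (hmemN' n.1).1 n.2 k
    · intro n
      exact hβ n
    · intro p
      funext k
      rw [mulFam_apply, piAdd_apply, mulFam_apply]
      exact (hb1.1 (a k) p).symm
  have htop := IsBCAlong.span_image_eq_top φ hbc Set.univ Submodule.span_univ
  have hp'N : p' ∈ N' := (hmemN' p').2 hp'
  have hmem : (⟨p', hp'N⟩ : N') ∈ Submodule.span B (β '' Set.univ) := by
    rw [htop]
    trivial
  have h2 := Submodule.apply_mem_span_image_of_mem_span N'.subtype hmem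
  refine Submodule.span_mono ?_ h2
  rintro _ ⟨_, ⟨n, -, rfl⟩, rfl⟩
  refine ⟨n.1, (hmemN n.1).1 n.2, ?_⟩
  exact (hβ n).symm

/-- the kernel of a base change along a localisation away from an element consists of the
elements killed by a power of that element -/
theorem IsBCAlong.exists_pow_smul_eq_zero (a : A)
    (hloc : @IsLocalization.Away A _ a B _ φ.toAlgebra)
    {N N' : Type*} [AddCommGroup N] [Module A N] [AddCommGroup N'] [Module B N']
    (ρ : N →+ N') (h : IsBCAlong φ ρ) (n : N) (hn : ρ n = 0) : ∃ k : ℕ, a ^ k • n = 0 := by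
  obtain ⟨hsemi, hb⟩ := h
  letI := φ.toAlgebra
  letI := modAlong φ N'
  haveI := towerAlong φ N'
  haveI : IsLocalization (Submonoid.powers a) B := hloc
  have hb' : IsBaseChange B (linAlong φ ρ hsemi) := hb
  haveI hlm : IsLocalizedModule (Submonoid.powers a) (linAlong φ ρ hsemi) :=
    (isLocalizedModule_iff_isBaseChange (Submonoid.powers a) B (linAlong φ ρ hsemi)).2 hb'
  have h0 : linAlong φ ρ hsemi n = 0 := hn
  obtain ⟨⟨c, k, hk⟩, hc⟩ :=
    (IsLocalizedModule.eq_zero_iff (Submonoid.powers a) (linAlong φ ρ hsemi)).1 h0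
  refine ⟨k, ?_⟩
  have hk' : a ^ k = c := hk
  rw [hk']
  exact hc

end HomForm

end Groth.Agent.Lib.QCEtH7
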