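import Mathlib
import Groth.Agent.Lib.QCEt39_helper7

/-!
# Open pieces of objects of the small étale site, basic opens and localisation (helper7)
-/

set_option backward.isDefEq.respectTransparency false
set_option backward.isDefEq.respectTransparency.types false
set_option linter.style.haveILetI false
set_option linter.unusedSectionVars false
set_option linter.unusedVariables false
set_option autoImplicit false
set_option maxHeartbeats 1600000
set_option maxSynthPendingDepth 3

universe u v

open CategoryTheory Limits Opposite AlgebraicGeometry AlgSp TensorProduct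

namespace Groth.Agent.Lib.QCEtH7

open Groth.Agent.Lib.WeakAssEtH7 Groth.Agent.Lib.IdealEtBH7 Groth.Agent.Lib.EtPostcomp_helper7
  Groth.Agent.Lib.EtStalkPt_helper7 Groth.Agent.Lib.AlgSpPoints_helper7

variable {S : Scheme.{u}} {X : Sp S}

section RingLemmas

/-- localisation away from an element, transported along an isomorphism of the target -/
theorem away_comp_equiv {R S₁ S₂ : Type*} [CommRing R] [CommRing S₁] [CommRing S₂]
    (ψ : R →+* S₁) (e : S₁ ≃+* S₂) (a : R)
    (h : @IsLocalization.Away R _ a S₁ _ ψ.toAlgebra) :
    @IsLocalization.Away R _ a S₂ _ (e.toRingHom.comp ψ).toAlgebra := by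
  letI := ψ.toAlgebra
  letI := (e.toRingHom.comp ψ).toAlgebra
  haveI : IsLocalization (Submonoid.powers a) S₁ := h
  exact IsLocalization.isLocalization_of_algEquiv (Submonoid.powers a)
    (AlgEquiv.ofRingEquiv (f := e) (fun x => rfl))

/-- localisation away from an element, transported along an isomorphism of the source -/
theorem away_equiv_comp {R R' S₁ : Type*} [CommRing R] [CommRing R'] [CommRing S₁]
    (e : R' ≃+* R) (ψ : R →+* S₁) (a : R)
    (h : @IsLocalization.Away R _ a S₁ _ ψ.toAlgebra) :
    @IsLocalization.Away R' _ (e.symm a) S₁ _ (ψ.comp e.toRingHom).toAlgebra := by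
  letI := ψ.toAlgebra
  haveI : IsLocalization (Submonoid.powers a) S₁ := h
  have h1 := IsLocalization.isLocalization_of_base_ringEquiv (Submonoid.powers a) S₁ e.symm
  have h2 : Submonoid.map e.symm (Submonoid.powers a) = Submonoid.powers (e.symm a) :=
    Submonoid.map_powers _ a
  rw [h2] at h1
  exact h1

end RingLemmas

section OpenObj

/-- an open piece of an object of the small étale site -/
noncomputable abbrev openObj (E : EtOver X) (V : E.obj.left.left.Opens) : EtOver X :=
  chartOpen E.obj.hom E.property V

/-- the inclusion of an open piece -/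
noncomputable def openObjι (E : EtOver X) (V : E.obj.left.left.Opens) : openObj E V ⟶ E :=
  EtOver.homMk (openι E.obj.left V) rfl

theorem openObjι_left (E : EtOver X) (V : E.obj.left.left.Opens) :
    (openObjι E V).hom.left.left = V.ι := rfl

theorem range_openObjι (E : EtOver X) (V : E.obj.left.left.Opens) :
    Set.range (openObjι E V).hom.left.left = (V : Set E.obj.left.left) := by
  rw [openObjι_left]
  exact Scheme.Opens.range_ι V

theorem range_ofPt_openObj (E : EtOver X) (V : E.obj.left.left.Opens) :
    Set.range (Points.ofPt (openObj E V).obj.hom) =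
      Points.ofPt E.obj.hom '' (V : Set E.obj.left.left) := by
  ext q
  constructor
  · rintro ⟨v, rfl⟩
    refine ⟨(openObjι E V).hom.left.left v, ?_, (ofPt_etOver_map (openObjι E V) v).symm⟩
    rw [← range_openObjι]
    exact ⟨v, rfl⟩
  · rintro ⟨w, hw, rfl⟩
    rw [← range_openObjι] at hw
    obtain ⟨v, rfl⟩ := hw
    exact ⟨v, ofPt_etOver_map (openObjι E V) v⟩

theorem isAffine_basicObj (E : EtOver X) [IsAffine E.obj.left.left]
    (a : Γ(E.obj.left.left, ⊤)) :
    IsAffine (openObj E (E.obj.left.left.basicOpen a)).obj.left.left :=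
  (isAffineOpen_top E.obj.left.left).basicOpen a

/-- functions on a basic open piece are the localisation away from the function -/
theorem away_resRing_basic (E : EtOver X) [IsAffine E.obj.left.left]
    (a : Γ(E.obj.left.left, ⊤)) :
    @IsLocalization.Away (Rg E) _ (upR E a)
      (Rg (openObj E (E.obj.left.left.basicOpen a))) _
      (resRing (openObjι E (E.obj.left.left.basicOpen a))).toAlgebra := by
  obtain ⟨Y, hY⟩ : ∃ Y : Scheme.{u}, Y = E.obj.left.left := ⟨_, rfl⟩
  obtain ⟨V, hV⟩ : ∃ V : E.obj.left.left.Opens, V = E.obj.left.left.basicOpen a := ⟨_, rfl⟩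
  have h0 : IsLocalization.Away a Γ(E.obj.left.left, E.obj.left.left.basicOpen a) :=
    (isAffineOpen_top E.obj.left.left).isLocalization_basicOpen a
  -- the restriction map to the basic open
  obtain ⟨ψ, hψ⟩ : ∃ ψ : Γ(E.obj.left.left, ⊤) →+* Γ(E.obj.left.left, E.obj.left.left.basicOpen a),
      ψ = (E.obj.left.left.presheaf.map
        (homOfLE (E.obj.left.left.basicOpen_le a)).op).hom := ⟨_, rfl⟩
  have h1 : @IsLocalization.Away _ _ a _ _ ψ.toAlgebra := by
    rw [hψ]
    exact h0
  -- the isomorphism with the functions on the open subscheme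
  obtain ⟨e, he⟩ : ∃ e : Γ(E.obj.left.left, E.obj.left.left.basicOpen a) ≃+*
      Γ((E.obj.left.left.basicOpen a).toScheme, ⊤),
      e = (E.obj.left.left.basicOpen a).topIso.symm.commRingCatIsoToRingEquiv := ⟨_, rfl⟩
  have h2 := away_comp_equiv ψ e a h1
  have h3 : e.toRingHom.comp ψ = (E.obj.left.left.basicOpen a).ι.appTop.hom := by
    rw [he, hψ]
    apply RingHom.ext
    intro x
    show ((E.obj.left.left.basicOpen a).topIso.inv.hom)
      ((E.obj.left.left.presheaf.map (homOfLE (E.obj.left.left.basicOpen_le a)).op).hom x) = _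
    rw [Scheme.Opens.ι_appTop, Scheme.Opens.topIso_inv]
    rw [← CommRingCat.comp_apply, ← Functor.map_comp]
    rfl
  rw [h3] at h2
  -- lift to the universe-lifted rings
  have h4 := away_equiv_comp (ULift.ringEquiv.{u, u + 1} (R := Γ(E.obj.left.left, ⊤)))
    (E.obj.left.left.basicOpen a).ι.appTop.hom a h2
  have h5 := away_comp_equiv _
    (ULift.ringEquiv.{u, u + 1} (R := Γ((E.obj.left.left.basicOpen a).toScheme, ⊤))).symm _ h4
  have h6 : resRing (openObjι E (E.obj.left.left.basicOpen a)) =
      ((ULift.ringEquiv.{u, u + 1}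
        (R := Γ((E.obj.left.left.basicOpen a).toScheme, ⊤))).symm.toRingHom.comp
        ((E.obj.left.left.basicOpen a).ι.appTop.hom.comp
          (ULift.ringEquiv.{u, u + 1} (R := Γ(E.obj.left.left, ⊤))).toRingHom)) := by
    apply RingHom.ext
    intro x
    rfl
  rw [h6]
  exact h5

/-- a section of a module with base change restricting to zero on a basic open piece is killed
by a power of the function -/
theorem exists_pow_smul_eq_zero_of_res_basic (F : ModEt X) (hF : HasBC F) (E : EtOver X)
    [hE : IsAffine E.obj.left.left] (a : Γ(E.obj.left.left, ⊤)) (s : Sec F E)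
    (h : resAdd F (openObjι E (E.obj.left.left.basicOpen a)) s = 0) :
    ∃ k : ℕ, (upR E a) ^ k • s = 0 :=
  IsBCAlong.exists_pow_smul_eq_zero _ (upR E a) (away_resRing_basic E a) _
    (hF _ E (isAffine_basicObj E a) hE (openObjι E (E.obj.left.left.basicOpen a))) s h

/-- a function becomes a unit on an object mapping into its basic open -/
theorem isUnit_resRing_of_forall_mem {V W : EtOver X} (g : V ⟶ W)
    (a : Γ(W.obj.left.left, ⊤))
    (h : ∀ v : V.obj.left.left, g.hom.left.left v ∈ W.obj.left.left.basicOpen a) :
    IsUnit (resRing g (upR W a)) := by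
  have h1 : IsUnit (g.hom.left.left.appTop.hom a) := by
    apply V.obj.left.left.toRingedSpace.isUnit_of_isUnit_germ ⊤
    intro x hx
    have hx' : x ∈ V.obj.left.left.basicOpen (g.hom.left.left.appTop.hom a) := by
      have h2 := Scheme.preimage_basicOpen_top g.hom.left.left a
      have h3 : x ∈ g.hom.left.left ⁻¹ᵁ W.obj.left.left.basicOpen a := h x
      rw [h2] at h3
      exact h3
    exact (Scheme.mem_basicOpen_top _ _ x).1 hx'
  rw [resRing_upR]
  exact h1.map (ULift.ringEquiv.{u, u + 1}
    (R := Γ(V.obj.left.left, ⊤))).symm.toRingHom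

end OpenObj

end Groth.Agent.Lib.QCEtH7
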