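import Mathlib
import Groth.Agent.Lib.QCEt40_helper7

/-!
# Sections supported on the complement of a quasi-compact open subspace (helper7): S10085
-/

set_option backward.isDefEq.respectTransparency false
set_option backward.isDefEq.respectTransparency.types false
set_option linter.style.haveILetI false
set_option linter.unusedSectionVars false
set_option linter.unusedVariables false
set_option autoImplicit false
set_option maxHeartbeats 1600000
set_option maxSynthPendingDepth 3

universe u v

open CategoryTheory Limits Opposite AlgebraicGeometry AlgSp TensorProduct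

namespace Groth.Agent.Lib.QCEtH7

open Groth.Agent.Lib.WeakAssEtH7 Groth.Agent.Lib.IdealEtBH7 Groth.Agent.Lib.EtPostcomp_helper7
  Groth.Agent.Lib.EtStalkPt_helper7 Groth.Agent.Lib.AlgSpPoints_helper7
  Groth.Agent.Lib.AlgSpQC_helper7

variable {S : Scheme.{u}} {X : Sp S}

section Supp

variable (F : ModEt X) (A : Set (Points X))

/-- sections vanishing over every object whose image lies in `A` -/
def suppSet (U : EtOver X) : Set (Sec F U) :=
  {s | ∀ (V : EtOver X) (g : V ⟶ U), Set.range (Points.ofPt V.obj.hom) ⊆ A → resAdd F g s = 0}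

/-- the sub-presheaf of sections supported off `A` -/
noncomputable def suppSub : PresheafOfModules.Submodule F.val where
  obj U :=
    { carrier := suppSet F A U.unop
      zero_mem' := by
        intro V g hV
        exact map_zero _
      add_mem' := by
        intro s t hs ht V g hV
        rw [map_add, hs V g hV, ht V g hV, add_zero]
      smul_mem' := by
        intro c s hs V g hV
        have h1 : resAdd F g (c • s) = resRing g c • resAdd F g s := resAdd_semi F g c s
        rw [h1, hs V g hV, smul_zero] }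
  map := by
    intro U U' f s hs V g hV
    have h1 : resAdd F g (F.val.map f s) = resAdd F (g ≫ f.unop) s := by
      rw [resAdd_comp]
      rfl
    have h2 := hs V (g ≫ f.unop) hV
    rw [← h1] at h2
    exact h2

theorem mem_suppSub_iff (U : EtOver X) (s : Sec F U) :
    s ∈ (suppSub F A).obj (op U) ↔ ∀ (V : EtOver X) (g : V ⟶ U),
      Set.range (Points.ofPt V.obj.hom) ⊆ A → resAdd F g s = 0 := Iff.rfl

theorem range_ofPt_subset {V U : EtOver X} (g : V ⟶ U) :
    Set.range (Points.ofPt V.obj.hom) ⊆ Set.range (Points.ofPt U.obj.hom) := by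
  rintro _ ⟨v, rfl⟩
  exact ⟨g.hom.left.left v, (ofPt_etOver_map g v).symm⟩

theorem suppSub_isLocal : IsLocalSub F (suppSub F A) := by
  intro U s hs
  rw [mem_suppSub_iff]
  intro V g hV
  apply eq_zero_of_sieve F V _ ((memSieve F (suppSub F A) U s).pullback g)
    ((etTop X).pullback_stable g hs)
  intro V' h hh
  have h1 : resAdd F (h ≫ g) s ∈ (suppSub F A).obj (op V') := hh
  have h2 := (mem_suppSub_iff F A V' _).1 h1 V' (𝟙 V') ((range_ofPt_subset h).trans hV)
  rw [resAdd_id] at h2
  show resAdd F h (resAdd F g s) = 0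
  rw [← resAdd_comp]
  exact h2

variable {F A}

/-- a supported section over an affine object is killed by a power of any finitely generated
ideal cutting out the complement of `A` -/
theorem exists_pow_le_annSect (hF : HasBC F) (W : EtOver X) [hW : IsAffine W.obj.left.left]
    (s : Sec F W) (hs : s ∈ (suppSub F A).obj (op W)) (I : Ideal Γ(W.obj.left.left, ⊤))
    (hI : I.FG)
    (hz : W.obj.left.left.zeroLocus (U := ⊤) (I : Set Γ(W.obj.left.left, ⊤)) =
      {w | Points.ofPt W.obj.hom w ∉ A}) :
    ∃ n : ℕ, I ^ n ≤ annSect s := by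
  apply Ideal.exists_pow_le_of_le_radical_of_fg _ hI
  intro f hf
  have hD : Set.range (Points.ofPt (openObj W (W.obj.left.left.basicOpen f)).obj.hom) ⊆ A := by
    rw [range_ofPt_openObj]
    rintro _ ⟨w, hw, rfl⟩
    by_contra hcon
    have hw' : w ∈ W.obj.left.left.zeroLocus (U := ⊤) (I : Set Γ(W.obj.left.left, ⊤)) := by
      rw [hz]
      exact hcon
    exact ((Scheme.mem_zeroLocus_iff _ _ _).1 hw') f hf hw
  have h0 := (mem_suppSub_iff F A W s).1 hs _ (openObjι W _) hD
  obtain ⟨k, hk⟩ := exists_pow_smul_eq_zero_of_res_basic F hF W f s h0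
  refine ⟨k, ?_⟩
  rw [mem_annSect_iff, map_pow]
  exact hk

theorem zeroLocus_annSect_subset {W : EtOver X} (s : Sec F W)
    (I : Ideal Γ(W.obj.left.left, ⊤)) (n : ℕ) (h : I ^ n ≤ annSect s) :
    W.obj.left.left.zeroLocus (U := ⊤) ((annSect s : Ideal Γ(W.obj.left.left, ⊤)) :
      Set Γ(W.obj.left.left, ⊤)) ⊆
      W.obj.left.left.zeroLocus (U := ⊤) (I : Set Γ(W.obj.left.left, ⊤)) := by
  intro w hw
  rw [Scheme.mem_zeroLocus_iff] at hw ⊢
  intro f hf hwf
  have h1 : f ^ (n + 1) ∈ annSect s :=
    h (Ideal.pow_le_pow_right (Nat.le_succ n) (Ideal.pow_mem_pow hf (n + 1)))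
  have h2 := hw _ h1
  rw [Scheme.basicOpen_pow _ f (by omega : 0 < n + 1)] at h2
  exact h2 hwf

/-- a section whose annihilator has zero locus off `A` is supported off `A` -/
theorem mem_suppSub_of_zeroLocus (W : EtOver X) (s : Sec F W)
    (h : W.obj.left.left.zeroLocus (U := ⊤) ((annSect s : Ideal Γ(W.obj.left.left, ⊤)) :
      Set Γ(W.obj.left.left, ⊤)) ⊆ {w | Points.ofPt W.obj.hom w ∉ A}) :
    s ∈ (suppSub F A).obj (op W) := by
  rw [mem_suppSub_iff]
  intro V g hV
  let T : Sieve V :=
    { arrows := fun V' h => F.val.map h.op (resAdd F g s) = 0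
      downward_closed := by
        intro V₁ V₂ f hf k
        show F.val.map (k ≫ f).op (resAdd F g s) = 0
        rw [op_comp, PresheafOfModules.map_comp_apply, hf, map_zero] }
  apply eq_zero_of_sieve F V _ T
  · apply sieve_mem_of_forall_exists
    intro v
    have hv : Points.ofPt W.obj.hom (g.hom.left.left v) ∈ A := by
      rw [← ofPt_etOver_map g v]
      exact hV ⟨v, rfl⟩
    have hnz : g.hom.left.left v ∉ W.obj.left.left.zeroLocus (U := ⊤)
        ((annSect s : Ideal Γ(W.obj.left.left, ⊤)) : Set Γ(W.obj.left.left, ⊤)) :=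
      fun hc => h hc hv
    rw [Scheme.mem_zeroLocus_iff] at hnz
    push Not at hnz
    obtain ⟨a, ha, hva⟩ := hnz
    obtain ⟨O, hO⟩ : ∃ O : V.obj.left.left.Opens,
        O = g.hom.left.left ⁻¹ᵁ W.obj.left.left.basicOpen a := ⟨_, rfl⟩
    subst hO
    refine ⟨openObj V (g.hom.left.left ⁻¹ᵁ W.obj.left.left.basicOpen a),
      openObjι V (g.hom.left.left ⁻¹ᵁ W.obj.left.left.basicOpen a), ?_, ?_⟩
    · show resAdd F (openObjι V (g.hom.left.left ⁻¹ᵁ W.obj.left.left.basicOpen a))
        (resAdd F g s) = 0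
      rw [← resAdd_comp]
      have hunit : IsUnit (resRing (openObjι V (g.hom.left.left ⁻¹ᵁ W.obj.left.left.basicOpen a) ≫ g)
          (upR W a)) := by
        apply isUnit_resRing_of_forall_mem
        intro y
        have hy : (openObjι V (g.hom.left.left ⁻¹ᵁ W.obj.left.left.basicOpen a)).hom.left.left y ∈
            ((g.hom.left.left ⁻¹ᵁ W.obj.left.left.basicOpen a : V.obj.left.left.Opens) :
              Set V.obj.left.left) := by
          rw [← range_openObjι]
          exact ⟨y, rfl⟩
        exact hy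
      have h1 : resRing (openObjι V (g.hom.left.left ⁻¹ᵁ W.obj.left.left.basicOpen a) ≫ g)
          (upR W a) •
          resAdd F (openObjι V (g.hom.left.left ⁻¹ᵁ W.obj.left.left.basicOpen a) ≫ g) s = 0 := by
        rw [← resAdd_semi F (openObjι V (g.hom.left.left ⁻¹ᵁ W.obj.left.left.basicOpen a) ≫ g)
          (upR W a) s]
        have h2 : upR W a • s = 0 := (mem_annSect_iff s a).1 ha
        rw [h2, map_zero]
      exact hunit.smul_eq_zero.1 h1
    · rw [range_openObjι]
      exact hva
  · intro V' h hh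
    exact hh

end Supp

section Part1

/-- the image of the second projection of a pullback along a chart -/
theorem range_left_of_isPullback {F G : Sp S} {f : F ⟶ G} {T V : Over S}
    {g : (yon S).obj T ⟶ G} {fst : (yon S).obj V ⟶ F} {snd : V ⟶ T}
    (sq : IsPullback fst ((yon S).map snd) f g) :
    Set.range snd.left = {t | Points.ofPt g t ∈ Set.range (Points.map f)} := by
  ext t
  constructor
  · rintro ⟨v, rfl⟩
    refine ⟨Points.ofPt fst v, ?_⟩
    rw [Points.map_ofPt, sq.w, ofPt_comp]
  · rintro ⟨x, hx⟩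
    rw [Points.ofPt_eq_map_ofScheme] at hx
    obtain ⟨z, _, hz⟩ := exists_of_isPullback sq x _ hx
    obtain ⟨v, rfl⟩ := ofScheme_surjective V z
    refine ⟨v, ?_⟩
    apply ofScheme_injective T
    rw [← hz, ← Points.ofPt_eq_map_ofScheme, ofPt_yon_map]

/-- on an affine object the complement of a quasi-compact open subspace is cut out by a
finitely generated ideal -/
theorem exists_fg_ideal_of_qc_open {U : Sp S} (j : U ⟶ X) (hj : RepWith @IsOpenImmersion j)
    (hjqc : IsQuasiCompactMor j) (W : EtOver X) [IsAffine W.obj.left.left] :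
    ∃ I : Ideal Γ(W.obj.left.left, ⊤), I.FG ∧
      W.obj.left.left.zeroLocus (U := ⊤) (I : Set Γ(W.obj.left.left, ⊤)) =
        {w | Points.ofPt W.obj.hom w ∉ Set.range (Points.map j)} := by
  have hq : RepWith @QuasiCompact j := (repWith_quasiCompact_iff j hj.rep).2 hjqc
  have sq := hj.rep.isPullback W.obj.hom
  haveI hoi : IsOpenImmersion (hj.rep.snd W.obj.hom).left := hj.property_snd W.obj.hom
  haveI hqc : QuasiCompact (hj.rep.snd W.obj.hom).left :=
    ((repWith_iff _ _).1 hq).2 _ _ _ sq
  have hrange := range_left_of_isPullback sq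
  haveI : CompactSpace (hj.rep.pullback W.obj.hom).left :=
    QuasiCompact.compactSpace_of_compactSpace (hj.rep.snd W.obj.hom).left
  have hc : IsCompact (Set.range (hj.rep.snd W.obj.hom).left) :=
    isCompact_range (hj.rep.snd W.obj.hom).left.continuous
  have ho : IsOpen (Set.range (hj.rep.snd W.obj.hom).left) :=
    (hj.rep.snd W.obj.hom).left.isOpenEmbedding.isOpen_range
  obtain ⟨s, hs, hU⟩ := isCompact_and_isOpen_iff_finite_and_eq_biUnion_basicOpen.1 ⟨hc, ho⟩
  refine ⟨Ideal.span s, ⟨hs.toFinset, by rw [Set.Finite.coe_toFinset]⟩, ?_⟩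
  rw [Scheme.zeroLocus_span]
  ext w
  rw [Scheme.mem_zeroLocus_iff]
  show _ ↔ Points.ofPt W.obj.hom w ∉ Set.range (Points.map j)
  have hiff : Points.ofPt W.obj.hom w ∈ Set.range (Points.map j) ↔
      ∃ i ∈ s, w ∈ W.obj.left.left.basicOpen i := by
    have h1 : w ∈ Set.range (hj.rep.snd W.obj.hom).left ↔
        Points.ofPt W.obj.hom w ∈ Set.range (Points.map j) := by
      rw [hrange]
      exact Iff.rfl
    rw [← h1, hU]
    simp only [Set.mem_iUnion, SetLike.mem_coe, exists_prop]
  rw [hiff]
  push Not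
  exact Iff.rfl

end Part1

section SuppSheaf

variable (F : ModEt X) (A : Set (Points X))

/-- the sheaf of sections supported off `A` -/
noncomputable def suppSheaf : ModEt X := subSheaf (suppSub_isLocal F A)

/-- the inclusion -/
noncomputable def suppι : suppSheaf F A ⟶ F := subSheafι (suppSub_isLocal F A)

instance mono_suppι : Mono (suppι F A) := mono_subSheafι _

theorem suppι_mem (E : EtOver X) (n : Sec (suppSheaf F A) E) :
    secLin (suppι F A) E n ∈ (suppSub F A).obj (op E) := by
  have h := range_subSheafι (suppSub_isLocal F A) (op E)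
  have h1 : secLin (suppι F A) E n ∈
      Set.range ((subSheafι (suppSub_isLocal F A)).val.app (op E)).hom := ⟨n, rfl⟩
  rw [h] at h1
  exact h1

theorem exists_suppι_eq (E : EtOver X) (s : Sec F E) (hs : s ∈ (suppSub F A).obj (op E)) :
    ∃ n : Sec (suppSheaf F A) E, secLin (suppι F A) E n = s := by
  have h := range_subSheafι (suppSub_isLocal F A) (op E)
  have h1 : s ∈ Set.range ((subSheafι (suppSub_isLocal F A)).val.app (op E)).hom := by
    rw [h]
    exact hs
  exact h1

/-- on every affine object the complement of `A` is cut out by a finitely generated ideal -/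
def CutOutFG (A : Set (Points X)) : Prop :=
  ∀ (W : EtOver X), IsAffine W.obj.left.left → ∃ I : Ideal Γ(W.obj.left.left, ⊤), I.FG ∧
    W.obj.left.left.zeroLocus (U := ⊤) (I : Set Γ(W.obj.left.left, ⊤)) =
      {w | Points.ofPt W.obj.hom w ∉ A}

/-- the zero locus of the extension of an ideal along a morphism of the site -/
theorem zeroLocus_map_eq {E' E : EtOver X} (g : E' ⟶ E) (I : Ideal Γ(E.obj.left.left, ⊤))
    (hIz : E.obj.left.left.zeroLocus (U := ⊤) (I : Set Γ(E.obj.left.left, ⊤)) =
      {w | Points.ofPt E.obj.hom w ∉ A}) :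
    E'.obj.left.left.zeroLocus (U := ⊤)
      ((I.map g.hom.left.left.appTop.hom : Ideal Γ(E'.obj.left.left, ⊤)) :
        Set Γ(E'.obj.left.left, ⊤)) = {w | Points.ofPt E'.obj.hom w ∉ A} := by
  show E'.obj.left.left.zeroLocus (U := ⊤)
    ((Ideal.span (g.hom.left.left.appTop.hom '' (I : Set Γ(E.obj.left.left, ⊤))) :
      Ideal Γ(E'.obj.left.left, ⊤)) : Set Γ(E'.obj.left.left, ⊤)) = _
  rw [Scheme.zeroLocus_span]
  ext w'
  rw [Scheme.mem_zeroLocus_iff]
  have hz := Set.ext_iff.1 hIz (g.hom.left.left w')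
  rw [Scheme.mem_zeroLocus_iff] at hz
  show _ ↔ Points.ofPt E'.obj.hom w' ∉ A
  rw [ofPt_etOver_map g w']
  refine Iff.trans ?_ hz
  constructor
  · intro h f hf hmem
    refine h _ ⟨f, hf, rfl⟩ ?_
    have h2 := Scheme.preimage_basicOpen_top g.hom.left.left f
    have h3 : w' ∈ g.hom.left.left ⁻¹ᵁ E.obj.left.left.basicOpen f := hmem
    rw [h2] at h3
    exact h3
  · rintro h _ ⟨f, hf, rfl⟩ hmem
    refine h f hf ?_
    have h2 := Scheme.preimage_basicOpen_top g.hom.left.left f
    have h3 : w' ∈ g.hom.left.left ⁻¹ᵁ E.obj.left.left.basicOpen f := by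
      rw [h2]
      exact hmem
    exact h3

variable {F A}

theorem hasBC_supp (hA : CutOutFG A) (hF : HasBC F) : HasBC (suppSheaf F A) := by
  classical
  intro E' E hE' hE g
  haveI := hE'
  haveI := hE
  obtain ⟨I, hIfg, hIz⟩ := hA E hE
  refine IsBCAlong.of_sub (resRing g) (flat_resRing g) (secLin (suppι F A) E)
    (secLin (suppι F A) E') (app_injective_of_mono (suppι F A) E)
    (app_injective_of_mono (suppι F A) E') (resAdd (suppSheaf F A) g) (resAdd F g)
    (resAdd_semi _ g) ?_ (hF E' E hE' hE g) ?_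
  · intro n
    exact PresheafOfModules.naturality_apply (suppι F A).val g.op n
  · intro n'
    obtain ⟨s', hs'⟩ : ∃ s', s' = secLin (suppι F A) E' n' := ⟨_, rfl⟩
    have hs'mem : s' ∈ (suppSub F A).obj (op E') := hs' ▸ suppι_mem F A E' n'
    obtain ⟨I', hI'⟩ : ∃ I' : Ideal Γ(E'.obj.left.left, ⊤),
        I' = I.map g.hom.left.left.appTop.hom := ⟨_, rfl⟩
    have hI'fg : I'.FG := hI' ▸ hIfg.map _
    have hI'z : E'.obj.left.left.zeroLocus (U := ⊤) (I' : Set Γ(E'.obj.left.left, ⊤)) =
        {w | Points.ofPt E'.obj.hom w ∉ A} := hI' ▸ zeroLocus_map_eq A g I hIz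
    obtain ⟨n, hn⟩ := exists_pow_le_annSect hF E' s' hs'mem I' hI'fg hI'z
    obtain ⟨t, ht⟩ := (hIfg.pow (n := n))
    obtain ⟨a, ha⟩ : ∃ a : ↥t → Rg E, a = fun k => upR E k.1 := ⟨_, rfl⟩
    have hkill : ∀ k, resRing g (a k) • s' = 0 := by
      intro k
      have hk : k.1 ∈ I ^ n := by
        rw [← ht]
        exact Ideal.subset_span k.2
      have hk' : g.hom.left.left.appTop.hom k.1 ∈ I' ^ n := by
        rw [hI', ← Ideal.map_pow]
        exact Ideal.mem_map_of_mem _ hk
      have h3 := (mem_annSect_iff s' _).1 (hn hk')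
      rw [ha]
      exact h3
    have hsp := IsBCAlong.span_ann (resRing g) (flat_resRing g) (resAdd F g)
      (hF E' E hE' hE g) a s' hkill
    rw [← hs']
    refine Submodule.span_mono ?_ hsp
    rintro _ ⟨p, hp, rfl⟩
    have hpI : I ^ n ≤ annSect p := by
      rw [← ht, Ideal.span_le]
      intro b hb
      have h4 := hp ⟨b, hb⟩
      rw [ha] at h4
      exact (mem_annSect_iff p b).2 h4
    have hpmem : p ∈ (suppSub F A).obj (op E) := by
      apply mem_suppSub_of_zeroLocus
      exact (zeroLocus_annSect_subset p I n hpI).trans (le_of_eq hIz)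
    obtain ⟨m, hm⟩ := exists_suppι_eq F A E p hpmem
    exact ⟨m, congrArg (resAdd F g) hm⟩

theorem isQuasicoherent_supp (hA : CutOutFG A) (hX : IsAlgSpace X) [F.IsQuasicoherent] :
    (suppSheaf F A).IsQuasicoherent :=
  isQuasicoherent_of_hasBC _ (hasBC_supp hA (hasBC_of_qc hX F))

end SuppSheaf

section Main

variable {S' : Scheme.{u}}

/-- **S10085** -/
theorem main10085 (X : AlgSp.Space S') (U : AlgSp.Space S') (j : U ⟶ X)
    (hj : AlgSp.RepWith @IsOpenImmersion j.hom) (hjqc : AlgSp.IsQuasiCompactMor j.hom)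
    (T : Set (AlgSp.Points X.obj)) (hT : T = (Set.range (AlgSp.Points.map j.hom))ᶜ)
    (F : AlgSp.ModEt X.obj) [F.IsQuasicoherent] :
    (∀ (W : AlgSp.EtOver X.obj), IsAffine W.obj.left.left →
      ∃ I : Ideal Γ(W.obj.left.left, ⊤), I.FG ∧
        W.obj.left.left.zeroLocus (U := ⊤) (I : Set Γ(W.obj.left.left, ⊤)) =
          {w | AlgSp.Points.ofPt W.obj.hom w ∈ T}) ∧
    ∃ (F' : AlgSp.ModEt X.obj) (ι : F' ⟶ F), Mono ι ∧ F'.IsQuasicoherent ∧
      (∀ (W : AlgSp.EtOver X.obj), IsAffine W.obj.left.left →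
        Set.range (ι.val.app (op W)).hom =
          {x : AlgSp.sectModEt F W | W.obj.left.left.zeroLocus (U := ⊤)
              ((AlgSp.annSect x : Ideal Γ(W.obj.left.left, ⊤)) : Set Γ(W.obj.left.left, ⊤)) ⊆
            {w | AlgSp.Points.ofPt W.obj.hom w ∈ T}}) ∧
      ∀ (W : AlgSp.EtOver X.obj), IsAffine W.obj.left.left →
        ∀ I : Ideal Γ(W.obj.left.left, ⊤), I.FG →
          W.obj.left.left.zeroLocus (U := ⊤) (I : Set Γ(W.obj.left.left, ⊤)) =
            {w | AlgSp.Points.ofPt W.obj.hom w ∈ T} →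
          Set.range (ι.val.app (op W)).hom =
            {x : AlgSp.sectModEt F W | ∃ n : ℕ, ∀ a ∈ I ^ n, (AlgSp.upΓ W a) • x = 0} := by
  subst hT
  obtain ⟨A, hAdef⟩ : ∃ A : Set (Points X.obj), A = Set.range (Points.map j.hom) := ⟨_, rfl⟩
  rw [← hAdef]
  have hA : CutOutFG A := by
    intro W hW
    haveI := hW
    rw [hAdef]
    exact exists_fg_ideal_of_qc_open j.hom hj hjqc W
  have hF : HasBC F := hasBC_of_qc X.property F
  have hrange : ∀ W : EtOver X.obj, Set.range ((suppι F A).val.app (op W)).hom =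
      ((suppSub F A).obj (op W) : Set (Sec F W)) :=
    fun W => range_subSheafι (suppSub_isLocal F A) (op W)
  refine ⟨fun W hW => hA W hW, suppSheaf F A, suppι F A, inferInstance,
    isQuasicoherent_supp hA X.property, fun W hW => ?_, fun W hW I hI hz => ?_⟩
  · rw [hrange W]
    haveI := hW
    ext x
    constructor
    · intro hx
      obtain ⟨I, hIfg, hIz⟩ := hA W hW
      obtain ⟨n, hn⟩ := exists_pow_le_annSect hF W x hx I hIfg hIz
      exact (zeroLocus_annSect_subset x I n hn).trans (le_of_eq hIz)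
    · intro hx
      exact mem_suppSub_of_zeroLocus W x hx
  · rw [hrange W]
    haveI := hW
    ext x
    constructor
    · intro hx
      obtain ⟨n, hn⟩ := exists_pow_le_annSect hF W x hx I hI hz
      exact ⟨n, fun a ha => (mem_annSect_iff x a).1 (hn ha)⟩
    · rintro ⟨n, hn⟩
      apply mem_suppSub_of_zeroLocus W x
      have hle : I ^ n ≤ annSect x := fun a ha => (mem_annSect_iff x a).2 (hn a ha)
      exact (zeroLocus_annSect_subset x I n hle).trans (le_of_eq hz)

end Main

end Groth.Agent.Lib.QCEtH7
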