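import Mathlib
import Groth.Agent.Lib.QCEt41_helper7

/-!
# Filtering a coherent module by supports (helper7): S10759
-/

set_option backward.isDefEq.respectTransparency false
set_option backward.isDefEq.respectTransparency.types false
set_option linter.style.haveILetI false
set_option linter.unusedSectionVars false
set_option linter.unusedVariables false
set_option autoImplicit false
set_option maxHeartbeats 1600000
set_option maxSynthPendingDepth 3

universe u v

open CategoryTheory Limits Opposite AlgebraicGeometry AlgSp TensorProduct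

namespace Groth.Agent.Lib.QCEtH7

open Groth.Agent.Lib.WeakAssEtH7 Groth.Agent.Lib.IdealEtBH7 Groth.Agent.Lib.EtPostcomp_helper7
  Groth.Agent.Lib.EtStalkPt_helper7 Groth.Agent.Lib.AlgSpPoints_helper7
  Groth.Agent.Lib.EtNbhd_helper7 Groth.Agent.Lib.EtStalkSupp_helper7
  Groth.Agent.Lib.AlgSpQC_helper7

variable {S : Scheme.{u}} {X : Sp S}

section StalkZero

variable (hX : IsAlgSpace X) (p : FieldPt X) [IsSepClosed p.K]

/-- the stalk of a module vanishes iff all germs vanish -/
theorem isZero_stalk_iff (G : ModEt X) :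
    IsZero (stalkEt p ((toAbEt X).obj G)) ↔
      ∀ (E : EtOver X) (ū : (FieldPt.liftsTo p).obj E) (m : Sec G E),
        germ hX p G E ū m = 0 := by
  have h0 : IsZero (stalkEt p ((toAbEt X).obj G)) ↔
      IsZero ((point hX p).presheafFiber.obj ((toAbEt X).obj G).obj) := Iff.rfl
  rw [h0, AddCommGrpCat.isZero_iff_subsingleton]
  constructor
  · intro h E ū m
    exact Subsingleton.elim _ _
  · intro h
    refine ⟨fun a b => ?_⟩
    obtain ⟨E, ū, m, rfl⟩ := germ_jointly_surjective hX p G a
    obtain ⟨E', ū', m', rfl⟩ := germ_jointly_surjective hX p G b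
    rw [h, h]

/-- restriction of germs -/
theorem germ_resAdd (G : ModEt X) {V E : EtOver X} (g : V ⟶ E) (y : (FieldPt.liftsTo p).obj V)
    (m : Sec G E) :
    germ hX p G V y (resAdd G g m) = germ hX p G E ((FieldPt.liftsTo p).map g y) m :=
  germ_restrict hX p ((toAbEt X).obj G) g y m

end StalkZero

section OpenPart

/-- the open piece of an object lying over an open set of points -/
noncomputable def overOpen (E : EtOver X) (A : Set (Points X)) (hA : IsOpen A) :
    E.obj.left.left.Opens :=
  ⟨Points.ofPt E.obj.hom ⁻¹' A, hA.preimage (Points.continuous_ofPt _)⟩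

theorem mem_overOpen (E : EtOver X) (A : Set (Points X)) (hA : IsOpen A) (e : E.obj.left.left) :
    e ∈ overOpen E A hA ↔ Points.ofPt E.obj.hom e ∈ A := Iff.rfl

theorem range_ofPt_overOpen (E : EtOver X) (A : Set (Points X)) (hA : IsOpen A) :
    Set.range (Points.ofPt (openObj E (overOpen E A hA)).obj.hom) ⊆ A := by
  rw [range_ofPt_openObj]
  rintro _ ⟨e, he, rfl⟩
  exact he

end OpenPart

section Noeth

/-- on a locally Noetherian algebraic space the complement of every open set of points is cut out
by finitely generated ideals on the affine objects -/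
theorem cutOutFG_of_locNoeth (hN : IsLocNoethSp X) (A : Set (Points X)) (hA : IsOpen A) :
    CutOutFG A := by
  intro W hW
  haveI := hW
  haveI : IsNoetherianRing Γ(W.obj.left.left, ⊤) := isNoetherianRing_of_chart hN W
  have hcl : IsClosed {w : W.obj.left.left | Points.ofPt W.obj.hom w ∉ A} :=
    (hA.preimage (Points.continuous_ofPt W.obj.hom)).isClosed_compl
  obtain ⟨I, hI⟩ := (Scheme.eq_zeroLocus_of_isClosed_of_isAffine W.obj.left.left _).1 hcl
  exact ⟨I, (isNoetherianRing_iff_ideal_fg _).1 inferInstance I, hI.symm⟩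

end Noeth

section Main

variable {S' : Scheme.{u}}

/-- **S10759** -/
theorem main10759 (X : AlgSp.Space S') (hN : AlgSp.IsLocNoethSp X.obj)
    (F : AlgSp.ModEt X.obj) [F.IsFinitePresentation] (Z Z' : Set (AlgSp.Points X.obj))
    (hZ : IsClosed Z) (hZ' : IsClosed Z')
    (hsupp : ∀ x : AlgSp.FieldPt X.obj, x.IsGeometric →
      (AlgSp.Points.mk x ∈ Z ∪ Z' ↔ ¬ IsZero (AlgSp.stalkEt x ((AlgSp.toAbEt X.obj).obj F)))) :
    ∃ (G' : AlgSp.ModEt X.obj) (a : G' ⟶ F), Mono a ∧ G'.IsFinitePresentation ∧
      (cokernel a).IsFinitePresentation ∧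
        (∀ x : AlgSp.FieldPt X.obj, x.IsGeometric → AlgSp.Points.mk x ∉ Z' →
          IsZero (AlgSp.stalkEt x ((AlgSp.toAbEt X.obj).obj G'))) ∧
        (∀ x : AlgSp.FieldPt X.obj, x.IsGeometric → AlgSp.Points.mk x ∉ Z →
          IsZero (AlgSp.stalkEt x ((AlgSp.toAbEt X.obj).obj (cokernel a)))) := by
  have hAS : IsAlgSpace X.obj := X.property
  obtain ⟨A, hAdef⟩ : ∃ A : Set (Points X.obj), A = Z'ᶜ := ⟨_, rfl⟩
  have hAo : IsOpen A := hAdef ▸ hZ'.isOpen_compl
  obtain ⟨B, hBdef⟩ : ∃ B : Set (Points X.obj), B = Zᶜ := ⟨_, rfl⟩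
  have hBo : IsOpen B := hBdef ▸ hZ.isOpen_compl
  have hA : CutOutFG A := cutOutFG_of_locNoeth hN A hAo
  haveI hqc : (suppSheaf F A).IsQuasicoherent := isQuasicoherent_supp hA hAS
  haveI hfp : (suppSheaf F A).IsFinitePresentation := main10744 X hN (suppι F A)
  haveI hcfp : (cokernel (suppι F A)).IsFinitePresentation := (main10742 X hN (suppι F A)).2
  refine ⟨suppSheaf F A, suppι F A, inferInstance, hfp, hcfp, ?_, ?_⟩
  · -- stalks of the supported part vanish over `A`
    intro x hx hxZ'
    haveI : IsAlgClosed x.K := hx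
    rw [isZero_stalk_iff hAS x]
    intro E ū m
    -- the open piece of `E` over `A`
    obtain ⟨e, he⟩ : ∃ e : E.obj.left.left,
        e = ū.1.left (default : ↥(Spec (CommRingCat.of x.K))) := ⟨_, rfl⟩
    have heA : e ∈ overOpen E A hAo := by
      rw [mem_overOpen, he, ofPt_lift x E ū, hAdef]
      exact hxZ'
    obtain ⟨v, hv⟩ : ∃ v : (openObj E (overOpen E A hAo)).obj.left.left,
        (openObjι E (overOpen E A hAo)).hom.left.left v = e := by
      have h1 : e ∈ Set.range (openObjι E (overOpen E A hAo)).hom.left.left := by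
        rw [range_openObjι]
        exact heA
      exact h1
    obtain ⟨y, hy, -⟩ := exists_lift_of_map (openObjι E (overOpen E A hAo)) ū v (hv.trans he)
    rw [← hy, ← germ_resAdd]
    -- the restricted section vanishes
    have h0 : resAdd (suppSheaf F A) (openObjι E (overOpen E A hAo)) m = 0 := by
      apply app_injective_of_mono (suppι F A) (openObj E (overOpen E A hAo))
      rw [map_zero]
      have h1 := secLin_resAdd (suppι F A) (openObjι E (overOpen E A hAo)) m
      refine h1.trans ?_
      exact (mem_suppSub_iff F A E _).1 (suppι_mem F A E m) _ _ (range_ofPt_overOpen E A hAo)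
    rw [h0]
    exact germ_zero hAS x _ _ y
  · -- stalks of the quotient vanish over `B`
    intro x hx hxZ
    haveI : IsAlgClosed x.K := hx
    rw [isZero_stalk_iff hAS x]
    intro E ū c
    -- sections of `F` over objects lying over `B` are supported off `A`
    have hkey : ∀ (V : EtOver X.obj), Set.range (Points.ofPt V.obj.hom) ⊆ B →
        ∀ f : Sec F V, f ∈ (suppSub F A).obj (op V) := by
      intro V hVB f
      rw [mem_suppSub_iff]
      intro V' g hV'A
      apply section_eq_zero_of_germs hAS ((toAbEt X.obj).obj F) V'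
      intro q hq vb
      haveI := hq
      -- the point `q` lies outside `Z ∪ Z'`
      have hqpt : Points.mk q ∉ Z ∪ Z' := by
        have h1 : Points.mk q ∈ Set.range (Points.ofPt V'.obj.hom) :=
          ⟨_, ofPt_lift q V' vb⟩
        have h2 : Points.mk q ∈ A := hV'A h1
        have h3 : Points.mk q ∈ B := hVB (range_ofPt_subset g h1)
        rw [hAdef] at h2
        rw [hBdef] at h3
        rintro (h4 | h4)
        · exact h3 h4
        · exact h2 h4
      have hz : IsZero (stalkEt q ((toAbEt X.obj).obj F)) := by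
        by_contra hcon
        exact hqpt ((hsupp q hq).2 hcon)
      exact (isZero_stalk_iff hAS q F).1 hz V' vb _
    -- lift the germ locally
    have hS := imSieve_mem_of_epi (cokernel.π (suppι F A)) E c
    obtain ⟨Y, g, ⟨t, ht⟩, y, hy⟩ := (point hAS x).jointly_surjective _ hS ū
    -- shrink to the part over `B`
    obtain ⟨e, he⟩ : ∃ e : Y.obj.left.left,
        e = y.1.left (default : ↥(Spec (CommRingCat.of x.K))) := ⟨_, rfl⟩
    have heB : e ∈ overOpen Y B hBo := by
      rw [mem_overOpen, he, ofPt_lift x Y y, hBdef]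
      exact hxZ
    obtain ⟨v, hv⟩ : ∃ v : (openObj Y (overOpen Y B hBo)).obj.left.left,
        (openObjι Y (overOpen Y B hBo)).hom.left.left v = e := by
      have h1 : e ∈ Set.range (openObjι Y (overOpen Y B hBo)).hom.left.left := by
        rw [range_openObjι]
        exact heB
      exact h1
    obtain ⟨y', hy', -⟩ := exists_lift_of_map (openObjι Y (overOpen Y B hBo)) y v (hv.trans he)
    have hyy : (FieldPt.liftsTo x).map (openObjι Y (overOpen Y B hBo) ≫ g) y' = ū := by
      rw [(FieldPt.liftsTo x).map_comp]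
      show (FieldPt.liftsTo x).map g ((FieldPt.liftsTo x).map _ y') = ū
      rw [hy']
      exact hy
    rw [← hyy, ← germ_resAdd]
    have h0 : resAdd (cokernel (suppι F A)) (openObjι Y (overOpen Y B hBo) ≫ g) c = 0 := by
      rw [resAdd_comp]
      have h1 : resAdd (cokernel (suppι F A)) g c =
          secLin (cokernel.π (suppι F A)) Y t := ht.symm
      rw [h1, ← secLin_resAdd]
      obtain ⟨m, hm⟩ := exists_suppι_eq F A _ _
        (hkey (openObj Y (overOpen Y B hBo)) (range_ofPt_overOpen Y B hBo)
          (resAdd F (openObjι Y (overOpen Y B hBo)) t))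
      rw [← hm]
      exact secLin_cokernel_condition (suppι F A) _ m
    rw [h0]
    exact germ_zero hAS x _ _ y'

end Main

end Groth.Agent.Lib.QCEtH7
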