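import Mathlib
import Groth.Agent.Lib.QCEt42_helper7
import Groth.Agent.Lib.MonicGsect_helper6

/-!
# Modules annihilated by a power of an ideal and supports (helper7): S10755
-/

set_option backward.isDefEq.respectTransparency false
set_option backward.isDefEq.respectTransparency.types false
set_option linter.style.haveILetI false
set_option linter.unusedSectionVars false
set_option linter.unusedVariables false
set_option autoImplicit false
set_option maxHeartbeats 1600000
set_option maxSynthPendingDepth 3

universe u v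

open CategoryTheory Limits Opposite AlgebraicGeometry AlgSp TensorProduct

namespace Groth.Agent.Lib.QCEtH7

open Groth.Agent.Lib.WeakAssEtH7 Groth.Agent.Lib.IdealEtBH7 Groth.Agent.Lib.EtPostcomp_helper7
  Groth.Agent.Lib.EtStalkPt_helper7 Groth.Agent.Lib.AlgSpPoints_helper7
  Groth.Agent.Lib.EtNbhd_helper7 Groth.Agent.Lib.EtStalkSupp_helper7
  Groth.Agent.Lib.AlgSpQC_helper7

variable {S : Scheme.{u}} {X : Sp S}

section CutOut

/-- the zero locus of the kernel of a closed immersion into an affine scheme is its range -/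
theorem zeroLocus_ker_appTop {Y E : Scheme.{u}} [IsAffine E] (f : Y ⟶ E) [IsClosedImmersion f] :
    E.zeroLocus (U := ⊤) ((RingHom.ker f.appTop.hom : Ideal Γ(E, ⊤)) : Set Γ(E, ⊤)) =
      Set.range f := by
  have h1 := Scheme.Hom.support_ker f
  have hcl : closure (Set.range f) = Set.range f :=
    f.isClosedEmbedding.isClosed_range.closure_eq
  ext x
  have h2 := Scheme.IdealSheafData.mem_support_iff_of_mem (I := f.ker) (x := x)
    (U := ⟨⊤, isAffineOpen_top E⟩) trivial
  rw [Scheme.Hom.ker_apply] at h2
  rw [← hcl, ← h1]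
  exact h2.symm

variable {Z : Sp S} {i : Z ⟶ X}

/-- on an affine object the zero locus of the ideal cutting out a closed subspace is the inverse
image of the closed subspace -/
theorem zeroLocus_ideal_of_cutOut (I : IdealEt X) (hZ : IsCutOutBy I i) (E : EtOver X)
    (hE : IsAffine E.obj.left.left) :
    E.obj.left.left.zeroLocus (U := ⊤)
      ((I.ideal E hE : Ideal Γ(E.obj.left.left, ⊤)) : Set Γ(E.obj.left.left, ⊤)) =
      {e | Points.ofPt E.obj.hom e ∈ Set.range (Points.map i)} := by
  obtain ⟨hi, rfl⟩ := hZ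
  haveI := hE
  haveI : IsClosedImmersion (EtOver.bcπ hi.1 E).left := hi.property_snd E.obj.hom
  have h1 : (idealOfRep hi.1).ideal E hE =
      RingHom.ker (EtOver.bcπ hi.1 E).left.appTop.hom := rfl
  rw [h1, zeroLocus_ker_appTop]
  exact range_left_of_isPullback (EtOver.isPullback_bcObj hi.1 E)

end CutOut

section Kills

variable (M : ModEt X) (I : IdealEt X)

/-- the `n`-th power of the ideal kills all sections over the affine object -/
def Kills (E : EtOver X) (hE : IsAffine E.obj.left.left) (n : ℕ) : Prop :=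
  ∀ a ∈ (I.ideal E hE) ^ n, ∀ s : Sec M E, upR E a • s = 0

variable {M I}

theorem kills_transfer (hI : I.IsQCoh) (hM : HasBC M) {V W : EtOver X}
    (hV : IsAffine V.obj.left.left) (hW : IsAffine W.obj.left.left) (h : V ⟶ W) (n : ℕ)
    (hk : Kills M I W hW n) : Kills M I V hV n := by
  intro a ha s
  have ha' : a ∈ ((I.ideal W hW) ^ n).map h.hom.left.left.appTop.hom := by
    rw [Ideal.map_pow]
    exact Ideal.pow_right_mono (hI h hW hV) n ha
  have hs : s ∈ Submodule.span (Rg V) ((resAdd M h) '' Set.univ) := by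
    rw [IsBCAlong.span_image_eq_top (resRing h) (hM V W hV hW h) Set.univ Submodule.span_univ]
    trivial
  rw [Ideal.map] at ha'
  clear ha
  induction ha' using Submodule.span_induction with
  | mem x hx =>
    obtain ⟨b, hb, rfl⟩ := hx
    induction hs using Submodule.span_induction with
    | mem y hy =>
      obtain ⟨m, -, rfl⟩ := hy
      have h1 : resAdd M h (upR W b • m) = resRing h (upR W b) • resAdd M h m :=
        resAdd_semi M h _ _
      rw [← resRing_upR, ← h1, hk b hb m, map_zero]
    | zero => exact smul_zero _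
    | add y z _ _ hy hz => rw [smul_add, hy, hz, add_zero]
    | smul c y _ hy => rw [smul_comm, hy, smul_zero]
  | zero => rw [upR_zero, zero_smul]
  | add x y _ _ hx hy => rw [upR_add, add_smul, hx, hy, add_zero]
  | smul c x _ hx => rw [smul_eq_mul, upR_mul, mul_smul, hx, smul_zero]

theorem kills_descent (E : EtOver X) (hE : IsAffine E.obj.left.left) (n : ℕ)
    (h : ∀ e : E.obj.left.left, ∃ (V : EtOver X) (hV : IsAffine V.obj.left.left) (g : V ⟶ E),
      e ∈ Set.range g.hom.left.left ∧ Kills M I V hV n) : Kills M I E hE n := by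
  intro a ha s
  apply sect_eq_zero_of_cover
  intro e
  obtain ⟨V, hV, g, he, hk⟩ := h e
  refine ⟨V, g, he, ?_⟩
  have h1 : resAdd M g (upR E a • s) = resRing g (upR E a) • resAdd M g s :=
    resAdd_semi M g _ _
  show resAdd M g (upR E a • s) = 0
  rw [h1, resRing_upR]
  apply hk
  have h2 : g.hom.left.left.appTop.hom a ∈ ((I.ideal E hE) ^ n).map g.hom.left.left.appTop.hom :=
    Ideal.mem_map_of_mem _ ha
  rw [Ideal.map_pow] at h2
  exact Ideal.pow_right_mono (I.map_le g hE hV) n h2

/-- if the power of the ideal kills the sections over an affine atlas, it kills the sections over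
every affine object -/
theorem kills_of_atlas (hX : IsAlgSpace X) (hI : I.IsQCoh) (hM : HasBC M) (W₀ : EtOver X)
    (hW₀ : IsAffine W₀.obj.left.left) (hsurj : Function.Surjective (Points.ofPt W₀.obj.hom))
    (n : ℕ) (hk : Kills M I W₀ hW₀ n) (E : EtOver X) (hE : IsAffine E.obj.left.left) :
    Kills M I E hE n := by
  apply kills_descent E hE n
  intro e
  obtain ⟨w, hw⟩ := hsurj (Points.ofPt E.obj.hom e)
  obtain ⟨P, g, g', v, hv, hv'⟩ := exists_prod' E W₀ e w hw.symm
  obtain ⟨V, ι, hV, v', hv''⟩ := exists_affine_piece P v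
  refine ⟨V, hV, ι ≫ g, ⟨v', ?_⟩, kills_transfer hI hM hV hW₀ (ι ≫ g') n hk⟩
  rw [← hv, ← hv'']
  rfl

end Kills

section Main

variable {S' : Scheme.{u}}

open Groth.Agent.Lib.MonicGsectH6 in
/-- **S10755** -/
theorem main10755 (X : AlgSp.Space S') (hqc : AlgSp.IsQuasiCompactSp X.obj)
    (hN : AlgSp.IsLocNoethSp X.obj) (M : AlgSp.ModEt X.obj) [M.IsFinitePresentation]
    (I : AlgSp.IdealEt X.obj) (hI : I.IsQCoh) {Z : AlgSp.Space S'} (i : Z ⟶ X)
    (hZ : AlgSp.IsCutOutBy I i.hom) :
    (∃ n : ℕ, ∀ (E : AlgSp.EtOver X.obj) (hE : IsAffine E.obj.left.left)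
        (s : AlgSp.sectModEt M E), (I ^ n).ideal E hE ≤ AlgSp.annSect s) ↔
      ∀ x : AlgSp.FieldPt X.obj, x.IsGeometric →
        AlgSp.Points.mk x ∉ Set.range (AlgSp.Points.map i.hom) →
        IsZero (AlgSp.stalkEt x ((AlgSp.toAbEt X.obj).obj M)) := by
  have hAS : IsAlgSpace X.obj := X.property
  have hM : HasBC M := hasBC_of_qc hAS M
  constructor
  · rintro ⟨n, hn⟩ x hx hxZ
    haveI : IsAlgClosed x.K := hx
    rw [isZero_stalk_iff hAS x]
    intro E ū m
    obtain ⟨e, he⟩ : ∃ e : E.obj.left.left,
        e = ū.1.left (default : ↥(Spec (CommRingCat.of x.K))) := ⟨_, rfl⟩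
    obtain ⟨W, ι, hW, w, hw⟩ := exists_affine_piece E e
    obtain ⟨y, hy, hyw⟩ := exists_lift_of_map ι ū w (hw.trans he)
    rw [← hy, ← germ_resAdd]
    have hwZ : w ∉ W.obj.left.left.zeroLocus (U := ⊤)
        ((I.ideal W hW : Ideal Γ(W.obj.left.left, ⊤)) : Set Γ(W.obj.left.left, ⊤)) := by
      rw [zeroLocus_ideal_of_cutOut I hZ W hW]
      intro hc
      apply hxZ
      have h1 : Points.ofPt W.obj.hom w = Points.mk x := by
        rw [← hyw]
        exact ofPt_lift x W y
      rw [← h1]
      exact hc
    rw [Scheme.mem_zeroLocus_iff] at hwZ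
    push Not at hwZ
    obtain ⟨f, hf, hwf⟩ := hwZ
    obtain ⟨v, hv⟩ : ∃ v : (openObj W (W.obj.left.left.basicOpen f)).obj.left.left,
        (openObjι W (W.obj.left.left.basicOpen f)).hom.left.left v = w := by
      have h1 : w ∈ Set.range (openObjι W (W.obj.left.left.basicOpen f)).hom.left.left := by
        rw [range_openObjι]
        exact hwf
      exact h1
    obtain ⟨y', hy', -⟩ := exists_lift_of_map (openObjι W (W.obj.left.left.basicOpen f)) y v
      (hv.trans hyw.symm)
    rw [← hy', ← germ_resAdd]
    have h0 : resAdd M (openObjι W (W.obj.left.left.basicOpen f)) (resAdd M ι m) = 0 := by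
      have hkill : upR W (f ^ (n + 1)) • resAdd M ι m = 0 := by
        have h2 := hn W hW (resAdd M ι m)
        rw [IdealEt.pow_ideal] at h2
        exact (mem_annSect_iff _ _).1
          (h2 (Ideal.pow_le_pow_right (Nat.le_succ n) (Ideal.pow_mem_pow hf (n + 1))))
      have hunit : IsUnit (resRing (openObjι W (W.obj.left.left.basicOpen f))
          (upR W (f ^ (n + 1)))) := by
        apply isUnit_resRing_of_forall_mem
        intro z
        have hz : (openObjι W (W.obj.left.left.basicOpen f)).hom.left.left z ∈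
            ((W.obj.left.left.basicOpen f : W.obj.left.left.Opens) : Set W.obj.left.left) := by
          rw [← range_openObjι]
          exact ⟨z, rfl⟩
        rw [Scheme.basicOpen_pow _ f (by omega : 0 < n + 1)]
        exact hz
      have h3 : resRing (openObjι W (W.obj.left.left.basicOpen f)) (upR W (f ^ (n + 1))) •
          resAdd M (openObjι W (W.obj.left.left.basicOpen f)) (resAdd M ι m) = 0 := by
        rw [← resAdd_semi M (openObjι W (W.obj.left.left.basicOpen f)) _ _, hkill, map_zero]
      exact hunit.smul_eq_zero.1 h3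
    rw [h0]
    exact germ_zero hAS x _ _ y'
  · intro hst
    have hvan : ∀ (V : EtOver X.obj),
        (∀ v, Points.ofPt V.obj.hom v ∉ Set.range (Points.map i.hom)) →
        ∀ τ : Sec M V, τ = 0 := by
      intro V hV τ
      apply section_eq_zero_of_germs hAS ((toAbEt X.obj).obj M) V
      intro q hq vb
      haveI := hq
      have hz : IsZero (stalkEt q ((toAbEt X.obj).obj M)) := by
        apply hst q hq
        rw [← ofPt_lift q V vb]
        exact hV _
      exact (isZero_stalk_iff hAS q M).1 hz V vb _
    obtain ⟨U₀, p₀, hU₀, hpe, hps⟩ := exists_affine_atlas hqc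
    obtain ⟨W₀, hW₀def⟩ : ∃ W₀ : EtOver X.obj, W₀ = EtOver.mk p₀ hpe := ⟨_, rfl⟩
    have hW₀ : IsAffine W₀.obj.left.left := by
      rw [hW₀def]
      exact hU₀
    have hsurj : Function.Surjective (Points.ofPt W₀.obj.hom) := by
      rw [hW₀def]
      exact ofPt_surjective p₀ hps
    haveI := hW₀
    haveI hNR : IsNoetherianRing Γ(W₀.obj.left.left, ⊤) := isNoetherianRing_of_chart hN W₀
    have hJfg : (I.ideal W₀ hW₀).FG := (isNoetherianRing_iff_ideal_fg _).1 hNR _
    have hpow : ∀ m : Sec M W₀, ∃ k : ℕ, (I.ideal W₀ hW₀) ^ k ≤ annSect m := by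
      intro m
      apply Ideal.exists_pow_le_of_le_radical_of_fg _ hJfg
      intro f hf
      have h0 : resAdd M (openObjι W₀ (W₀.obj.left.left.basicOpen f)) m = 0 := by
        apply hvan
        intro v hc
        have h1 : (openObjι W₀ (W₀.obj.left.left.basicOpen f)).hom.left.left v ∈
            ((W₀.obj.left.left.basicOpen f : W₀.obj.left.left.Opens) :
              Set W₀.obj.left.left) := by
          rw [← range_openObjι]
          exact ⟨v, rfl⟩
        have h2 : (openObjι W₀ (W₀.obj.left.left.basicOpen f)).hom.left.left v ∈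
            W₀.obj.left.left.zeroLocus (U := ⊤)
              ((I.ideal W₀ hW₀ : Ideal Γ(W₀.obj.left.left, ⊤)) :
                Set Γ(W₀.obj.left.left, ⊤)) := by
          rw [zeroLocus_ideal_of_cutOut I hZ W₀ hW₀]
          show Points.ofPt W₀.obj.hom
              ((openObjι W₀ (W₀.obj.left.left.basicOpen f)).hom.left.left v) ∈
            Set.range (Points.map i.hom)
          rw [← ofPt_etOver_map]
          exact hc
        exact ((Scheme.mem_zeroLocus_iff _ _ _).1 h2) f hf h1
      obtain ⟨k, hk⟩ := exists_pow_smul_eq_zero_of_res_basic M hM W₀ f m h0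
      refine ⟨k, ?_⟩
      rw [mem_annSect_iff, map_pow]
      exact hk
    haveI hfin : Module.Finite (Rg W₀) (Sec M W₀) := finite_sec M hAS W₀
    obtain ⟨gens, hgens⟩ := hfin.fg_top
    choose k hk using hpow
    obtain ⟨n, hn⟩ : ∃ n : ℕ, ∀ m ∈ gens, k m ≤ n :=
      ⟨gens.sup k, fun m hm => Finset.le_sup hm⟩
    have hkills : Kills M I W₀ hW₀ n := by
      intro a ha s
      have hs : s ∈ Submodule.span (Rg W₀) (gens : Set (Sec M W₀)) := by
        rw [hgens]
        trivial
      induction hs using Submodule.span_induction with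
      | mem y hy => exact (mem_annSect_iff y a).1 (hk y (Ideal.pow_le_pow_right (hn y hy) ha))
      | zero => exact smul_zero _
      | add y z _ _ hy hz => rw [smul_add, hy, hz, add_zero]
      | smul c y _ hy => rw [smul_comm, hy, smul_zero]
    refine ⟨n, fun E hE s => ?_⟩
    rw [IdealEt.pow_ideal]
    intro a ha
    exact (mem_annSect_iff s a).2
      (kills_of_atlas hAS hI hM W₀ hW₀ hsurj n hkills E hE a ha s)

end Main

end Groth.Agent.Lib.QCEtH7
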