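import Mathlib
import Groth.Agent.Lib.QCEt36_helper7
import Groth.Agent.Lib.QCEt42_helper7

/-!
# Surjectivity of a map of coherent modules near a geometric point (helper7): S12194
-/

set_option backward.isDefEq.respectTransparency false
set_option backward.isDefEq.respectTransparency.types false
set_option linter.style.haveILetI false
set_option linter.unusedSectionVars false
set_option linter.unusedVariables false
set_option autoImplicit false
set_option maxHeartbeats 1600000
set_option maxSynthPendingDepth 3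

universe u v

open CategoryTheory Limits Opposite AlgebraicGeometry AlgSp TensorProduct

namespace Groth.Agent.Lib.QCEtH7

open Groth.Agent.Lib.WeakAssEtH7 Groth.Agent.Lib.IdealEtBH7 Groth.Agent.Lib.EtPostcomp_helper7
  Groth.Agent.Lib.EtStalkPt_helper7 Groth.Agent.Lib.AlgSpPoints_helper7
  Groth.Agent.Lib.EtNbhd_helper7 Groth.Agent.Lib.EtStalkSupp_helper7

variable {S : Scheme.{u}} {X : Sp S}

/-- germs vanish at the geometric points lying over an affine object on which all sections of the
module vanish -/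
theorem germsVanish_of_zero_nbhd (K : ModEt X) (hK : HasBC K) (W₁ : EtOver X)
    [hW₁ : IsAffine W₁.obj.left.left] (h0 : ∀ k : Sec K W₁, k = 0) (p : FieldPt X)
    [IsSepClosed p.K] (hp : Points.mk p ∈ Set.range (Points.ofPt W₁.obj.hom)) :
    GermsVanish K p := by
  intro E ū k
  obtain ⟨w, hw⟩ := hp
  have h1 : Points.ofPt E.obj.hom (ū.1.left (default : ↥(Spec (CommRingCat.of p.K)))) =
      Points.ofPt W₁.obj.hom w := (ofPt_lift p E ū).trans hw.symm
  obtain ⟨P, g, g', v, hv1, hv2⟩ := exists_prod' E W₁ _ w h1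
  obtain ⟨y, hy1, hy2⟩ := exists_lift_of_map g ū v hv1
  refine ⟨P, g, y, hy1, ?_⟩
  apply eq_zero_of_range_subset K hK W₁ h0 P
  rintro _ ⟨z, rfl⟩
  rw [ofPt_etOver_map g' z]
  exact ⟨_, rfl⟩

/-- the stalk map is surjective where the germs of the cokernel vanish -/
theorem surjective_stalk_of_germsVanish_cokernel (hX : IsAlgSpace X) {G F : ModEt X} (φ : G ⟶ F)
    (p : FieldPt X) [IsSepClosed p.K] (hv : GermsVanish (cokernel φ) p) :
    Function.Surjective ((point hX p).presheafFiber.map ((toAbEt X).map φ).hom) := by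
  intro γ
  obtain ⟨E, ū, m, rfl⟩ := germ_jointly_surjective hX p F γ
  obtain ⟨V, g, y, hy, hz⟩ := hv E ū (secLin (cokernel.π φ) E m)
  have h0 : secLin (cokernel.π φ) V (resAdd F g m) = 0 := by
    rw [secLin_resAdd]
    exact hz
  obtain ⟨W', ι, n, hW', hpt, hn⟩ := exists_local_preimage φ hX V (resAdd F g m) h0
    (y.1.left (default : ↥(Spec (CommRingCat.of p.K))))
  obtain ⟨w, hw⟩ := hpt
  obtain ⟨z, hz1, hz2⟩ := exists_lift_of_map ι y w hw
  refine ⟨germ hX p G W' z n, ?_⟩
  rw [germ_map, hn, germ_resAdd, hz1, germ_resAdd, hy]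

section Main

variable {S' : Scheme.{u}}

/-- **S12194** -/
theorem main12194 (X : AlgSp.Space S') (hX : AlgSp.IsLocNoethSp X.obj) {G F : AlgSp.ModEt X.obj}
    [G.IsFinitePresentation] [F.IsFinitePresentation] (φ : G ⟶ F) (xbar : AlgSp.FieldPt X.obj)
    (hx : xbar.IsGeometric)
    (hsurj : Epi ((AlgSp.stalkEtFunctor AddCommGrpCat.{u + 1} xbar).map
      ((AlgSp.toAbEt X.obj).map φ))) :
    ∃ (X' : AlgSp.Space S') (j : X' ⟶ X), AlgSp.RepWith @IsOpenImmersion j.hom ∧
      AlgSp.Points.mk xbar ∈ Set.range (AlgSp.Points.map j.hom) ∧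
        ∀ ybar : AlgSp.FieldPt X.obj, ybar.IsGeometric →
          AlgSp.Points.mk ybar ∈ Set.range (AlgSp.Points.map j.hom) →
            Epi ((AlgSp.stalkEtFunctor AddCommGrpCat.{u + 1} ybar).map
              ((AlgSp.toAbEt X.obj).map φ)) := by
  have hAS : IsAlgSpace X.obj := X.property
  haveI : IsAlgClosed xbar.K := hx
  haveI hCfp : (cokernel φ).IsFinitePresentation := (main10742 X hX φ).2
  have hCbc : HasBC (cokernel φ) := hasBC_of_qc hAS _
  have hsurj' : Function.Surjective
      ((point hAS xbar).presheafFiber.map ((toAbEt X.obj).map φ).hom) :=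
    (AddCommGrpCat.epi_iff_surjective _).1 hsurj
  obtain ⟨W₁, hW₁, hmem₁, hzero₁⟩ := exists_affine_nbhd_vanishing (cokernel φ) hAS hCbc
    (fun E _ => finite_sec (cokernel φ) hAS E) xbar (germsVanish_cokernel hAS φ xbar hsurj')
  obtain ⟨X', j, hj, hrange⟩ := Groth.Agent.Lib.AlgSpOpenSub_helper7.exists_openSubspace X
    (Set.range (Points.ofPt W₁.obj.hom))
    (isOpenMap_ofPt_of_etale W₁.obj.hom W₁.property).isOpen_range
  refine ⟨X', j, hj, hrange ▸ hmem₁, fun ybar hy hmem => ?_⟩
  haveI := hW₁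
  haveI : IsAlgClosed ybar.K := hy
  have hv : GermsVanish (cokernel φ) ybar :=
    germsVanish_of_zero_nbhd (cokernel φ) hCbc W₁ hzero₁ ybar (hrange ▸ hmem)
  exact (AddCommGrpCat.epi_iff_surjective _).2
    (surjective_stalk_of_germsVanish_cokernel hAS φ ybar hv)

end Main

end Groth.Agent.Lib.QCEtH7
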