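import Mathlib
import Groth.Prelude
import Groth.Agent.Lib.SubExt_helper9
import Groth.Agent.Lib.QCohExact_helper9

/-!
# Splitting a quasi-coherent module vanishing on `U ∩ V` (helper9)
APPEND-ONLY once landed.
-/

set_option autoImplicit false
universe u

open CategoryTheory CategoryTheory.Limits AlgebraicGeometry Opposite TopologicalSpace
open QcqsLoc QCohExtn

namespace QCSplitH9

variable {X : Scheme.{u}}

/-- sections over opens inside `W` of a module vanishing on `W` vanish -/
theorem eq_zero_of_isZero_restrict (F : X.Modules) (W : X.Opens)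
    (h : IsZero ((Scheme.Modules.restrictFunctor W.ι).obj F)) {O : X.Opens} (hO : O ≤ W)
    (t : Γ(F, O)) : t = 0 := by
  have e : W.ι ''ᵁ (W.ι ⁻¹ᵁ O) = O := by
    rw [Scheme.Hom.image_preimage_eq_opensRange_inf, Scheme.Opens.opensRange_ι]
    exact inf_eq_right.mpr hO
  have hb := SubExt.rF_bijective_of_eq F (W.ι.image_preimage_le O) e
  apply hb.1
  rw [map_zero]
  have h1 : (𝟙 ((Scheme.Modules.restrictFunctor W.ι).obj F)) = 0 := h.eq_of_src _ _
  have h2 := congrArg (fun k : (Scheme.Modules.restrictFunctor W.ι).obj F ⟶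
      (Scheme.Modules.restrictFunctor W.ι).obj F =>
    (Scheme.Modules.Hom.app k (W.ι ⁻¹ᵁ O)) (rF F (W.ι.image_preimage_le O) t)) h1
  simp only [Scheme.Modules.Hom.id_app, Scheme.Modules.Hom.zero_app] at h2
  exact h2

theorem isZero_restrict_of_sections (M : X.Modules) (W : X.Opens)
    (h : ∀ (O : X.Opens), O ≤ W → ∀ t : Γ(M, O), t = 0) :
    IsZero ((Scheme.Modules.restrictFunctor W.ι).obj M) := by
  rw [IsZero.iff_id_eq_zero]
  apply Scheme.Modules.hom_ext
  intro O
  ext s
  have h1 : ∀ t : Γ(M, W.ι ''ᵁ O), t = 0 := fun t =>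
    h _ (by rintro _ ⟨y, -, rfl⟩; exact y.2) t
  exact (h1 _).trans (h1 _).symm

theorem main (U V : X.Opens) [QuasiCompact U.ι] (F : X.Modules) [F.IsQuasicoherent]
    (h : IsZero ((Scheme.Modules.restrictFunctor (U ⊓ V).ι).obj F)) :
    ∃ (A : X.Modules) (i : A ⟶ F), Mono i ∧ A.IsQuasicoherent ∧
      IsZero ((Scheme.Modules.restrictFunctor U.ι).obj A) ∧
      IsZero ((Scheme.Modules.restrictFunctor V.ι).obj (cokernel i)) := by
  haveI : (F.restrict U.ι).IsQuasicoherent := inferInstance
  haveI : ((Scheme.Modules.pushforward U.ι).obj (F.restrict U.ι)).IsQuasicoherent :=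
    QcqsLoc.isQuasicoherent_pushforward_qcqs U.ι (F.restrict U.ι)
  refine ⟨kernel (SubExt.unitMap U F), kernel.ι (SubExt.unitMap U F), inferInstance,
    SubExt.isQuasicoherent_kernel (SubExt.unitMap U F), ?_, ?_⟩
  · apply isZero_restrict_of_sections
    intro O hO t
    apply QCohExact.app_injective_of_mono (kernel.ι (SubExt.unitMap U F)) O
    refine Eq.trans ?_ (map_zero _).symm
    apply (SubExt.unit_bijective U F O hO).1
    refine Eq.trans ?_ (map_zero _).symm
    have := congrArg (fun α => ap α O t) (kernel.condition (SubExt.unitMap U F))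
    exact this
  · apply isZero_restrict_of_sections
    intro O hO t
    haveI : Mono (Abelian.factorThruCoimage (SubExt.unitMap U F)) := inferInstance
    apply QCohExact.app_injective_of_mono (Abelian.factorThruCoimage (SubExt.unitMap U F)) O
    refine Eq.trans ?_ (map_zero _).symm
    have hle : U.ι ''ᵁ (U.ι ⁻¹ᵁ O) ≤ U ⊓ V := by
      rw [Scheme.Hom.image_preimage_eq_opensRange_inf, Scheme.Opens.opensRange_ι]
      exact inf_le_inf_left U hO
    exact eq_zero_of_isZero_restrict F (U ⊓ V) h hle _

end QCSplitH9
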