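import Mathlib

/-! # The topology attached to a class of quasi-compact morphisms (lead) -/

set_option autoImplicit false
set_option linter.unusedSimpArgs false
set_option linter.unusedVariables false
set_option linter.unusedSectionVars false
set_option linter.style.longLine false
set_option linter.unnecessarySimpa false
set_option maxHeartbeats 1600000
set_option backward.isDefEq.respectTransparency false
set_option backward.isDefEq.respectTransparency.types false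
set_option backward.defeqAttrib.useBackward true

universe u

open CategoryTheory CategoryTheory.Limits AlgebraicGeometry Opposite TopologicalSpace

namespace Groth.Agent.Lib.QCTop

variable (C : MorphismProperty Scheme.{u})

/-- local covering datum over an open `W` -/
def LocCov {Y : Scheme.{u}} (R : Sieve Y) (W : Y.Opens) : Prop :=
  ∃ (κ : Type u) (_ : Finite κ) (A : κ → Scheme.{u}) (ψ : ∀ j, A j ⟶ (W : Scheme.{u})),
    (∀ j, IsAffine (A j)) ∧ (∀ j, R.arrows (ψ j ≫ W.ι)) ∧ C (Limits.Sigma.desc ψ)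

/-- covering sieves -/
def Cov (Y : Scheme.{u}) (R : Sieve Y) : Prop :=
  ∃ (ι : Type u) (U : ι → Y.Opens), (∀ i, IsAffineOpen (U i)) ∧ ⨆ i, U i = ⊤ ∧
    ∀ i, LocCov C R (U i)

theorem exists_finset_iSup_eq_top {Z : Scheme.{u}} [CompactSpace Z] {ι : Type u} (U : ι → Z.Opens)
    (h : ⨆ i, U i = ⊤) : ∃ t : Finset ι, ⨆ k : {k // k ∈ t}, U k.1 = ⊤ := by
  obtain ⟨t, ht⟩ := isCompact_univ.elim_finite_subcover (fun i => (U i : Set Z))
    (fun i => (U i).isOpen)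
    (by
      intro x _
      have hx : x ∈ ⨆ i, U i := by rw [h]; trivial
      obtain ⟨i, hi⟩ := Opens.mem_iSup.1 hx
      exact Set.mem_iUnion.2 ⟨i, hi⟩)
  refine ⟨t, ?_⟩
  rw [eq_top_iff]
  intro x _
  obtain ⟨i, hi, hx⟩ := Set.mem_iUnion₂.1 (ht (Set.mem_univ x))
  exact Opens.mem_iSup.2 ⟨⟨i, hi⟩, hx⟩

section

variable [C.IsStableUnderComposition] [C.IsStableUnderBaseChange]
  (hcoprod : ∀ (κ : Type u) [Finite κ] (A B : κ → Scheme.{u}) (f : ∀ j, A j ⟶ B j),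
      (∀ j, C (f j)) → C (Limits.Sigma.map f))
  (haff : ∀ (U : Scheme.{u}) [IsAffine U] (κ : Type u) [Finite κ] (V : κ → U.Opens),
      (∀ j, IsAffineOpen (V j)) → ⨆ j, V j = ⊤ → C (Limits.Sigma.desc fun j => (V j).ι))

include hcoprod in
theorem desc_comp_mem {κ : Type u} [Finite κ] {μ : κ → Type u} {W : Scheme.{u}}
    {A : κ → Scheme.{u}} (ψ : ∀ j, A j ⟶ W) {B : ∀ j, μ j → Scheme.{u}}
    (χ : ∀ j m, B j m ⟶ A j)
    (hψ : C (Limits.Sigma.desc ψ)) (hχ : ∀ j, C (Limits.Sigma.desc (χ j))) :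
    C (Limits.Sigma.desc (fun p : Σ j, μ j => χ p.1 p.2 ≫ ψ p.1)) := by
  have h1 : C (Limits.Sigma.map (fun j => Limits.Sigma.desc (χ j))) :=
    hcoprod κ (fun j => ∐ B j) A (fun j => Limits.Sigma.desc (χ j)) hχ
  have h2 : C (Limits.Sigma.map (fun j => Limits.Sigma.desc (χ j)) ≫ Limits.Sigma.desc ψ) := C.comp_mem _ _ h1 hψ
  have h3 : Limits.Sigma.desc (fun p : Σ j, μ j => χ p.1 p.2 ≫ ψ p.1) =
      (sigmaSigmaIso μ B).inv ≫ Limits.Sigma.map (fun j => Limits.Sigma.desc (χ j)) ≫ Limits.Sigma.desc ψ := by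
    apply Limits.Sigma.hom_ext
    rintro ⟨j, m⟩
    have e1 : Limits.Sigma.ι (fun p : Σ j, μ j => B p.1 p.2) ⟨j, m⟩ ≫ (sigmaSigmaIso μ B).inv =
        Limits.Sigma.ι (B j) m ≫ Limits.Sigma.ι (fun j => ∐ B j) j := Limits.Sigma.ι_desc _ _
    rw [Limits.Sigma.ι_desc, reassoc_of% e1, Limits.Sigma.ι_map_assoc, Limits.Sigma.ι_desc, Limits.Sigma.ι_desc_assoc]
  rw [h3]
  exact (C.cancel_left_of_respectsIso _ _).2 h2

include haff in
theorem locCov_of_mem {Y : Scheme.{u}} (R : Sieve Y) (W : Y.Opens) (hW : IsAffineOpen W)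
    (h : R.arrows W.ι) : LocCov C R W := by
  haveI : IsAffine (W : Scheme.{u}) := hW
  refine ⟨PUnit.{u+1}, inferInstance, fun _ => ((⊤ : (W : Scheme.{u}).Opens) : Scheme.{u}),
    fun _ => (⊤ : (W : Scheme.{u}).Opens).ι, fun _ => isAffineOpen_top _,
    fun _ => R.downward_closed h _, ?_⟩
  exact haff (W : Scheme.{u}) PUnit.{u+1} (fun _ => ⊤) (fun _ => isAffineOpen_top _) (by simp)

include haff in
theorem cov_top (Y : Scheme.{u}) : Cov C Y ⊤ :=
  ⟨Y.affineCover.I₀, fun i => (Y.affineCover.f i).opensRange,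
    fun i => isAffineOpen_opensRange _, Y.affineCover.iSup_opensRange,
    fun i => locCov_of_mem C haff ⊤ _ (isAffineOpen_opensRange _) trivial⟩

include haff in
theorem locCov_pullback {X Y : Scheme.{u}} (f : Y ⟶ X) (R : Sieve X) (W : X.Opens) (W' : Y.Opens)
    (hW : IsAffineOpen W) (hW' : IsAffineOpen W') (e : W' ≤ f ⁻¹ᵁ W) (h : LocCov C R W) :
    LocCov C (R.pullback f) W' := by
  haveI : IsAffine (W : Scheme.{u}) := hW
  haveI : IsAffine (W' : Scheme.{u}) := hW'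
  obtain ⟨κ, hκ, A, ψ, hA, hR, hC⟩ := h
  haveI := hκ
  haveI := hA
  obtain ⟨g, hg⟩ : ∃ g : (W' : Scheme.{u}) ⟶ W, g ≫ W.ι = W'.ι ≫ f :=
    ⟨f.resLE W W' e, Scheme.Hom.resLE_comp_ι f e⟩
  obtain ⟨Pj, hPjdef⟩ : ∃ Pj : κ → (pullback (Limits.Sigma.desc ψ) g).Opens,
      ∀ j, Pj j = (pullback.fst (Limits.Sigma.desc ψ) g) ⁻¹ᵁ (Limits.Sigma.ι A j).opensRange :=
    ⟨_, fun _ => rfl⟩
  have hPj : ∀ j, IsAffineOpen (Pj j) := fun j => by
    rw [hPjdef]
    exact (isAffineOpen_opensRange (Limits.Sigma.ι A j)).preimage (pullback.fst (Limits.Sigma.desc ψ) g)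
  have hcov : ⨆ j, Pj j = ⊤ := by
    have h0 : ⨆ j, (Limits.Sigma.ι A j).opensRange = ⊤ := (sigmaOpenCover A).iSup_opensRange
    have h1 : ⨆ j, Pj j =
        ⨆ j, (pullback.fst (Limits.Sigma.desc ψ) g) ⁻¹ᵁ (Limits.Sigma.ι A j).opensRange :=
      iSup_congr hPjdef
    rw [h1, ← Scheme.Hom.preimage_iSup, h0]
    rfl
  have hsnd : C (pullback.snd (Limits.Sigma.desc ψ) g) := MorphismProperty.pullback_snd _ g hC
  have h1 : C (Limits.Sigma.desc fun j => (Pj j).ι) :=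
    haff (pullback (Limits.Sigma.desc ψ) g) κ Pj hPj hcov
  obtain ⟨lft, hlft⟩ : ∃ lft : ∀ j, (Pj j : Scheme.{u}) ⟶ A j,
      ∀ j, lft j ≫ Limits.Sigma.ι A j = (Pj j).ι ≫ pullback.fst (Limits.Sigma.desc ψ) g := by
    refine ⟨fun j => (pullback.fst (Limits.Sigma.desc ψ) g).resLE (Limits.Sigma.ι A j).opensRange (Pj j)
      (hPjdef j).le ≫ (Limits.Sigma.ι A j).isoOpensRange.inv, fun j => ?_⟩
    rw [Category.assoc, Scheme.Hom.isoOpensRange_inv_comp, Scheme.Hom.resLE_comp_ι]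
  have key : pullback.snd (Limits.Sigma.desc ψ) g ≫ W'.ι ≫ f =
      pullback.fst (Limits.Sigma.desc ψ) g ≫ Limits.Sigma.desc ψ ≫ W.ι := by
    rw [pullback.condition_assoc, hg]
  refine ⟨κ, hκ, fun j => (Pj j : Scheme.{u}),
    fun j => (Pj j).ι ≫ pullback.snd (Limits.Sigma.desc ψ) g, hPj, fun j => ?_, ?_⟩
  · show R.arrows ((((Pj j).ι ≫ pullback.snd (Limits.Sigma.desc ψ) g) ≫ W'.ι) ≫ f)
    have e1 : (((Pj j).ι ≫ pullback.snd (Limits.Sigma.desc ψ) g) ≫ W'.ι) ≫ f =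
        lft j ≫ (ψ j ≫ W.ι) := by
      calc (((Pj j).ι ≫ pullback.snd (Limits.Sigma.desc ψ) g) ≫ W'.ι) ≫ f
          = (Pj j).ι ≫ (pullback.snd (Limits.Sigma.desc ψ) g ≫ W'.ι ≫ f) := by
            simp only [Category.assoc]
        _ = (Pj j).ι ≫ (pullback.fst (Limits.Sigma.desc ψ) g ≫ Limits.Sigma.desc ψ ≫ W.ι) := by rw [key]
        _ = ((Pj j).ι ≫ pullback.fst (Limits.Sigma.desc ψ) g) ≫ Limits.Sigma.desc ψ ≫ W.ι := by
            simp only [Category.assoc]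
        _ = (lft j ≫ Limits.Sigma.ι A j) ≫ Limits.Sigma.desc ψ ≫ W.ι := by rw [hlft j]
        _ = lft j ≫ (ψ j ≫ W.ι) := by rw [Category.assoc, Limits.Sigma.ι_desc_assoc]
    rw [e1]
    exact R.downward_closed (hR j) (lft j)
  · have e2 : Limits.Sigma.desc (fun j => (Pj j).ι ≫ pullback.snd (Limits.Sigma.desc ψ) g) =
        Limits.Sigma.desc (fun j => (Pj j).ι) ≫ pullback.snd (Limits.Sigma.desc ψ) g := by
      apply Limits.Sigma.hom_ext
      intro j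
      rw [Limits.Sigma.ι_desc, Limits.Sigma.ι_desc_assoc]
    rw [e2]
    exact C.comp_mem _ _ h1 hsnd

include haff in
theorem cov_pullback {X Y : Scheme.{u}} (f : Y ⟶ X) (R : Sieve X) (h : Cov C X R) :
    Cov C Y (R.pullback f) := by
  obtain ⟨ι, U, hU, hcov, hloc⟩ := h
  have hex : ∀ y : ↥Y, ∃ (i : ι) (W : Y.Opens), IsAffineOpen W ∧ y ∈ W ∧ W ≤ f ⁻¹ᵁ U i := by
    intro y
    have hy : f y ∈ ⨆ i, U i := by rw [hcov]; trivial
    obtain ⟨i, hi⟩ := Opens.mem_iSup.1 hy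
    have hy' : y ∈ f ⁻¹ᵁ U i := hi
    obtain ⟨W, hW, hyW, hWU⟩ := (Opens.isBasis_iff_nbhd.1 (Scheme.isBasis_affineOpens Y)) hy'
    exact ⟨i, W, hW, hyW, hWU⟩
  choose i W hW hyW hWU using hex
  refine ⟨↥Y, W, hW, ?_, fun y =>
    locCov_pullback C haff f R (U (i y)) (W y) (hU _) (hW y) (hWU y) (hloc _)⟩
  rw [eq_top_iff]
  intro y _
  exact Opens.mem_iSup.2 ⟨y, hyW y⟩

include hcoprod haff in
theorem exists_family_of_cov {Z : Scheme.{u}} [IsAffine Z] (R : Sieve Z) (h : Cov C Z R) :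
    ∃ (μ : Type u) (_ : Finite μ) (B : μ → Scheme.{u}) (χ : ∀ m, B m ⟶ Z),
      (∀ m, IsAffine (B m)) ∧ (∀ m, R.arrows (χ m)) ∧ C (Limits.Sigma.desc χ) := by
  obtain ⟨ι, U, hU, hcov, hloc⟩ := h
  obtain ⟨t, ht⟩ := exists_finset_iSup_eq_top U hcov
  choose κ hκ A ψ hA hR hC using fun k : {k // k ∈ t} => hloc k.1
  haveI := hκ
  refine ⟨Σ k : {k // k ∈ t}, κ k, inferInstance, fun p => A p.1 p.2,
    fun p => ψ p.1 p.2 ≫ (U p.1.1).ι, fun p => hA _ _, fun p => hR _ _, ?_⟩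
  exact desc_comp_mem C hcoprod (fun k : {k // k ∈ t} => (U k.1).ι) ψ
    (haff Z {k // k ∈ t} (fun k => U k.1) (fun k => hU k.1) ht) hC

include hcoprod haff in
theorem cov_trans {X : Scheme.{u}} (R R' : Sieve X) (h : Cov C X R)
    (h' : ∀ ⦃Y : Scheme.{u}⦄ ⦃f : Y ⟶ X⦄, R.arrows f → Cov C Y (R'.pullback f)) :
    Cov C X R' := by
  obtain ⟨ι, U, hU, hcov, hloc⟩ := h
  refine ⟨ι, U, hU, hcov, fun i => ?_⟩
  obtain ⟨κ, hκ, A, ψ, hA, hR, hC⟩ := hloc i
  haveI := hκ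
  have hex : ∀ j, ∃ (μ : Type u) (_ : Finite μ) (B : μ → Scheme.{u}) (χ : ∀ m, B m ⟶ A j),
      (∀ m, IsAffine (B m)) ∧ (∀ m, (R'.pullback (ψ j ≫ (U i).ι)).arrows (χ m)) ∧
        C (Limits.Sigma.desc χ) := fun j => by
    haveI := hA j
    exact exists_family_of_cov C hcoprod haff _ (h' (hR j))
  choose μ hμ B χ hB hR' hC' using hex
  haveI := hμ
  refine ⟨Σ j, μ j, inferInstance, fun p => B p.1 p.2, fun p => χ p.1 p.2 ≫ ψ p.1,
    fun p => hB _ _, fun p => ?_, desc_comp_mem C hcoprod ψ χ hC hC'⟩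
  have h0 := hR' p.1 p.2
  rw [Category.assoc]
  exact h0

/-- the topology on schemes -/
def topo : GrothendieckTopology Scheme.{u} where
  sieves Y := {R | Cov C Y R}
  top_mem' Y := cov_top C haff Y
  pullback_stable' := fun X Y R f h => cov_pullback C haff f R h
  transitive' := fun X R h R' h' => cov_trans C hcoprod haff R R' h h'

end

theorem overEquiv_left_iff {S : Scheme.{u}} {X : Over S} (R : Sieve X) {Z : Over S} (f : Z ⟶ X) :
    (Sieve.overEquiv X R).arrows f.left ↔ R.arrows f := by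
  have h3 : R = (Sieve.overEquiv X).symm (Sieve.overEquiv X R) :=
    (OrderIso.symm_apply_apply _ _).symm
  constructor
  · intro h
    rw [h3]
    exact (Sieve.overEquiv_symm_iff _ _).2 h
  · intro h
    rw [h3] at h
    exact (Sieve.overEquiv_symm_iff _ _).1 h

theorem locCov_iff {S : Scheme.{u}} {X : Over S} (R : Sieve X) (W : X.left.Opens) :
    LocCov C (Sieve.overEquiv X R) W ↔
      ∃ (κ : Type u) (_ : Finite κ) (V : κ → Over S) (φ : ∀ j, V j ⟶ X)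
          (ψ : ∀ j, (V j).left ⟶ (W : Scheme.{u})),
          (∀ j, IsAffine (V j).left) ∧ (∀ j, R.arrows (φ j)) ∧
            (∀ j, ψ j ≫ W.ι = (φ j).left) ∧ C (Limits.Sigma.desc ψ) := by
  constructor
  · rintro ⟨κ, hκ, A, ψ, hA, hR, hC⟩
    refine ⟨κ, hκ, fun j => Over.mk ((ψ j ≫ W.ι) ≫ X.hom),
      fun j => Over.homMk (ψ j ≫ W.ι) rfl, ψ, hA, fun j => ?_, fun j => rfl, hC⟩
    exact (Sieve.overEquiv_iff R (ψ j ≫ W.ι)).1 (hR j)
  · rintro ⟨κ, hκ, V, φ, ψ, hV, hR, hψ, hC⟩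
    refine ⟨κ, hκ, fun j => (V j).left, ψ, hV, fun j => ?_, hC⟩
    rw [hψ j]
    exact (overEquiv_left_iff R (φ j)).2 (hR j)

section

variable [C.IsStableUnderComposition] [C.IsStableUnderBaseChange]
  (hcoprod : ∀ (κ : Type u) [Finite κ] (A B : κ → Scheme.{u}) (f : ∀ j, A j ⟶ B j),
      (∀ j, C (f j)) → C (Limits.Sigma.map f))
  (haff : ∀ (U : Scheme.{u}) [IsAffine U] (κ : Type u) [Finite κ] (V : κ → U.Opens),
      (∀ j, IsAffineOpen (V j)) → ⨆ j, V j = ⊤ → C (Limits.Sigma.desc fun j => (V j).ι))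

theorem mem_topo_over_iff (S : Scheme.{u}) (X : Over S) (R : Sieve X) :
    R ∈ (topo C hcoprod haff).over S X ↔
      ∃ (ι : Type u) (U : ι → X.left.Opens), (∀ i, IsAffineOpen (U i)) ∧ ⨆ i, U i = ⊤ ∧
        ∀ i, ∃ (κ : Type u) (_ : Finite κ) (V : κ → Over S) (φ : ∀ j, V j ⟶ X)
          (ψ : ∀ j, (V j).left ⟶ (U i : Scheme.{u})),
          (∀ j, IsAffine (V j).left) ∧ (∀ j, R.arrows (φ j)) ∧
            (∀ j, ψ j ≫ (U i).ι = (φ j).left) ∧ C (Limits.Sigma.desc ψ) := by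
  rw [GrothendieckTopology.mem_over_iff]
  show Cov C X.left (Sieve.overEquiv X R) ↔ _
  constructor
  · rintro ⟨ι, U, hU, hcov, hloc⟩
    exact ⟨ι, U, hU, hcov, fun i => (locCov_iff C R (U i)).1 (hloc i)⟩
  · rintro ⟨ι, U, hU, hcov, hloc⟩
    exact ⟨ι, U, hU, hcov, fun i => (locCov_iff C R (U i)).2 (hloc i)⟩

include hcoprod haff in
theorem main (S : Scheme.{u}) :
    ∃ J : GrothendieckTopology (Over S), ∀ (X : Over S) (R : Sieve X), R ∈ J X ↔
      ∃ (ι : Type u) (U : ι → X.left.Opens), (∀ i, IsAffineOpen (U i)) ∧ ⨆ i, U i = ⊤ ∧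
        ∀ i, ∃ (κ : Type u) (_ : Finite κ) (V : κ → Over S) (φ : ∀ j, V j ⟶ X)
          (ψ : ∀ j, (V j).left ⟶ (U i : Scheme.{u})),
          (∀ j, IsAffine (V j).left) ∧ (∀ j, R.arrows (φ j)) ∧
            (∀ j, ψ j ≫ (U i).ι = (φ j).left) ∧ C (Limits.Sigma.desc ψ) :=
  ⟨(topo C hcoprod haff).over S, fun X R => mem_topo_over_iff C hcoprod haff S X R⟩

end

end Groth.Agent.Lib.QCTop
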