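import Mathlib
import Groth.Agent.Lib.QCTop_lead

/-! # Sheaves for the topology attached to a class of quasi-compact morphisms (lead) -/

set_option autoImplicit false
set_option linter.unusedSimpArgs false
set_option linter.unusedVariables false
set_option linter.unusedSectionVars false
set_option linter.style.longLine false
set_option linter.unnecessarySimpa false
set_option maxHeartbeats 1600000
set_option backward.isDefEq.respectTransparency false
set_option backward.isDefEq.respectTransparency.types false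
set_option backward.defeqAttrib.useBackward true

universe v u

open CategoryTheory CategoryTheory.Limits AlgebraicGeometry Opposite TopologicalSpace

namespace Groth.Agent.Lib.QCTop

variable (C : MorphismProperty Scheme.{u})

theorem cov_iff {S : Scheme.{u}} {X : Over S} (R : Sieve X) :
    Cov C X.left (Sieve.overEquiv X R) ↔
      ∃ (ι : Type u) (U : ι → X.left.Opens), (∀ i, IsAffineOpen (U i)) ∧ ⨆ i, U i = ⊤ ∧
        ∀ i, ∃ (κ : Type u) (_ : Finite κ) (V : κ → Over S) (φ : ∀ j, V j ⟶ X)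
          (ψ : ∀ j, (V j).left ⟶ (U i : Scheme.{u})),
          (∀ j, IsAffine (V j).left) ∧ (∀ j, R.arrows (φ j)) ∧
            (∀ j, ψ j ≫ (U i).ι = (φ j).left) ∧ C (Limits.Sigma.desc ψ) := by
  constructor
  · rintro ⟨ι, U, hU, hcov, hloc⟩
    exact ⟨ι, U, hU, hcov, fun i => (locCov_iff C R (U i)).1 (hloc i)⟩
  · rintro ⟨ι, U, hU, hcov, hloc⟩
    exact ⟨ι, U, hU, hcov, fun i => (locCov_iff C R (U i)).2 (hloc i)⟩

/-- a jointly surjective family of open immersions generates a Zariski covering sieve over `S` -/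
theorem ofArrows_mem_zar {S : Scheme.{u}} {T : Over S} {κ : Type u} (Tk : κ → Over S)
    (c : ∀ k, Tk k ⟶ T) (hf : ∀ k, IsOpenImmersion (c k).left)
    (hs : ∀ t : ↥T.left, ∃ k, t ∈ Set.range (c k).left) :
    Sieve.ofArrows Tk c ∈ (Scheme.zariskiTopology.over S) T := by
  rw [GrothendieckTopology.mem_over_iff]
  have hmem : Presieve.ofArrows (fun k => (Tk k).left) (fun k => (c k).left) ∈
      Scheme.precoverage @IsOpenImmersion T.left :=
    (Scheme.ofArrows_mem_precoverage_iff _).2 ⟨hs, hf⟩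
  refine Scheme.zariskiTopology.superset_covering ?_ (Precoverage.generate_mem_toGrothendieck hmem)
  rintro Z f ⟨W, a, b, ⟨k⟩, rfl⟩
  rw [Sieve.overEquiv_iff]
  refine ⟨Tk k, Over.homMk a ?_, c k, ⟨k⟩, ?_⟩
  · change a ≫ (Tk k).hom = (a ≫ (c k).left) ≫ T.hom
    rw [Category.assoc, Over.w]
  · ext
    rfl

section

variable [C.IsStableUnderComposition] [C.IsStableUnderBaseChange]
  (hqc : ∀ {A B : Scheme.{u}} (f : A ⟶ B), C f → QuasiCompact f)
  (haff : ∀ (U : Scheme.{u}) [IsAffine U] (κ : Type u) [Finite κ] (V : κ → U.Opens),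
      (∀ j, IsAffineOpen (V j)) → ⨆ j, V j = ⊤ → C (Limits.Sigma.desc fun j => (V j).ι))
  (hres : ∀ (W X' : Scheme.{u}) [IsAffine W] (f : X' ⟶ W), C f →
      ∀ (κ : Type u) [Finite κ] (A : κ → X'.Opens), (∀ l, IsAffineOpen (A l)) → ⨆ l, A l = ⊤ →
        C (Limits.Sigma.desc fun l => (A l).ι ≫ f))

include haff in
/-- Zariski covering sieves are covering -/
theorem cov_of_zar {X : Scheme.{u}} (R : Sieve X) (hR : R ∈ Scheme.zariskiTopology X) :
    Cov C X R := by
  obtain ⟨𝒰, h𝒰⟩ := Scheme.exists_cover_of_mem_grothendieckTopology hR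
  have hex : ∀ x : ↥X, ∃ W : X.Opens, IsAffineOpen W ∧ x ∈ W ∧ R.arrows W.ι := by
    intro x
    obtain ⟨i, y, hy⟩ := 𝒰.exists_eq x
    haveI : IsOpenImmersion (𝒰.f i) := 𝒰.map_prop i
    have hx : x ∈ (𝒰.f i).opensRange := ⟨y, hy⟩
    obtain ⟨W, hW, hxW, hWO⟩ : ∃ W : X.Opens, IsAffineOpen W ∧ x ∈ W ∧
        W ≤ (𝒰.f i).opensRange :=
      (Opens.isBasis_iff_nbhd.1 (Scheme.isBasis_affineOpens X)) hx
    refine ⟨W, hW, hxW, ?_⟩
    have h1 : R.arrows (𝒰.f i) := h𝒰 _ _ (Presieve.ofArrows.mk i)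
    have h2 : W.ι = (X.homOfLE hWO ≫ (𝒰.f i).isoOpensRange.inv) ≫ 𝒰.f i := by
      rw [Category.assoc, Scheme.Hom.isoOpensRange_inv_comp, Scheme.homOfLE_ι]
    rw [h2]
    exact Sieve.downward_closed _ h1 _
  choose W hW hxW hRW using hex
  refine ⟨↥X, W, hW, ?_, fun x => locCov_of_mem C haff _ (W x) (hW x) (hRW x)⟩
  rw [eq_top_iff]
  intro x _
  exact Opens.mem_iSup.2 ⟨x, hxW x⟩

include hqc hres in
theorem locCov_single {X X' : Scheme.{u}} (f : X' ⟶ X) (hf : C f) (R : Sieve X)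
    (hR : ∀ {Z : Scheme.{u}} (h : Z ⟶ X'), R.arrows (h ≫ f)) (W : X.Opens)
    (hW : IsAffineOpen W) : LocCov C R W := by
  haveI : IsAffine (W : Scheme.{u}) := hW
  have hCfi : C (f ∣_ W) := MorphismProperty.of_isPullback (isPullback_morphismRestrict f W).flip hf
  haveI : QuasiCompact (f ∣_ W) := hqc _ hCfi
  haveI : CompactSpace ↥((f ⁻¹ᵁ W : X'.Opens) : Scheme.{u}) :=
    QuasiCompact.compactSpace_of_compactSpace (f ∣_ W)
  obtain ⟨t, ht⟩ := exists_finset_iSup_eq_top
    (fun p => ((((f ⁻¹ᵁ W : X'.Opens) : Scheme.{u}).affineCover.f p).opensRange))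
    (Scheme.OpenCover.iSup_opensRange _)
  have hCd := hres (W : Scheme.{u}) _ (f ∣_ W) hCfi {k // k ∈ t}
    (fun k => ((((f ⁻¹ᵁ W : X'.Opens) : Scheme.{u}).affineCover.f k.1).opensRange))
    (fun k => isAffineOpen_opensRange _) ht
  refine ⟨{k // k ∈ t}, inferInstance,
    fun k => ((((((f ⁻¹ᵁ W : X'.Opens) : Scheme.{u}).affineCover.f k.1).opensRange :
      ((f ⁻¹ᵁ W : X'.Opens) : Scheme.{u}).Opens)) : Scheme.{u}),
    fun k => (((((f ⁻¹ᵁ W : X'.Opens) : Scheme.{u}).affineCover.f k.1).opensRange)).ι ≫ f ∣_ W,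
    fun k => isAffineOpen_opensRange _, fun k => ?_, hCd⟩
  have e1 : ((((((f ⁻¹ᵁ W : X'.Opens) : Scheme.{u}).affineCover.f k.1).opensRange)).ι ≫ f ∣_ W) ≫
      W.ι = ((((((f ⁻¹ᵁ W : X'.Opens) : Scheme.{u}).affineCover.f k.1).opensRange)).ι ≫
        (f ⁻¹ᵁ W).ι) ≫ f := by
    rw [Category.assoc, morphismRestrict_ι, Category.assoc]
  rw [e1]
  exact hR _

end

section sheaf

variable {S : Scheme.{u}} (F : (Over S)ᵒᵖ ⥤ Type v)

theorem zar_le_finest (hZar : Presieve.IsSheaf (Scheme.zariskiTopology.over S) F) :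
    Scheme.zariskiTopology.over S ≤ Sheaf.finestTopologySingle F := by
  intro X R hR Y g
  exact hZar _ ((Scheme.zariskiTopology.over S).pullback_stable g hR)

variable [C.IsStableUnderBaseChange]

theorem single_mem_finest
    (hsingle : ∀ (X X' : Over S) (f : X' ⟶ X), C f.left →
      Presieve.IsSheafFor F (Presieve.singleton f))
    {X X' : Over S} (f : X' ⟶ X) (hf : C f.left) :
    Sieve.generate (Presieve.singleton f) ∈ Sheaf.finestTopologySingle F X := by
  intro Y g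
  rw [← Sieve.pullbackArrows_comm, Presieve.pullback_singleton,
    ← Presieve.isSheafFor_iff_generate]
  apply hsingle
  have sq := (IsPullback.of_hasPullback f g).map (Over.forget S)
  exact MorphismProperty.of_isPullback sq hf

theorem le_finest (J : GrothendieckTopology (Over S))
    (hJ : ∀ (X : Over S) (R : Sieve X), R ∈ J X → Cov C X.left (Sieve.overEquiv X R))
    (hZar : Presieve.IsSheaf (Scheme.zariskiTopology.over S) F)
    (hsingle : ∀ (X X' : Over S) (f : X' ⟶ X), C f.left →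
      Presieve.IsSheafFor F (Presieve.singleton f)) :
    J ≤ Sheaf.finestTopologySingle F := by
  intro X R hR
  obtain ⟨ι, U, hU, hcov, hloc⟩ := hJ X R hR
  have hZ : Sieve.ofArrows (fun i => Over.mk ((U i).ι ≫ X.hom))
      (fun i => (Over.homMk (U i).ι rfl : Over.mk ((U i).ι ≫ X.hom) ⟶ X)) ∈
        Sheaf.finestTopologySingle F X := by
    apply zar_le_finest F hZar X
    apply ofArrows_mem_zar
    · intro i
      show IsOpenImmersion (U i).ι
      infer_instance
    · intro t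
      have ht : t ∈ ⨆ i, U i := by rw [hcov]; trivial
      obtain ⟨i, hi⟩ := Opens.mem_iSup.1 ht
      refine ⟨i, ?_⟩
      show t ∈ Set.range (U i).ι
      rw [Scheme.Opens.range_ι]
      exact hi
  refine (Sheaf.finestTopologySingle F).transitive hZ R ?_
  rintro Y f ⟨W, a, b, ⟨i⟩, rfl⟩
  rw [Sieve.pullback_comp]
  apply (Sheaf.finestTopologySingle F).pullback_stable
  obtain ⟨κ, hκ, A, ψ, hA, hRψ, hC⟩ := hloc i
  have hd : Sieve.generate (Presieve.singleton
      (Over.homMk (Limits.Sigma.desc ψ) rfl :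
        Over.mk (Limits.Sigma.desc ψ ≫ (U i).ι ≫ X.hom) ⟶ Over.mk ((U i).ι ≫ X.hom))) ∈
        Sheaf.finestTopologySingle F (Over.mk ((U i).ι ≫ X.hom)) :=
    single_mem_finest C F hsingle _ hC
  refine (Sheaf.finestTopologySingle F).transitive hd _ ?_
  rintro Y' f' ⟨W', a', b', ⟨⟩, rfl⟩
  rw [Sieve.pullback_comp]
  apply (Sheaf.finestTopologySingle F).pullback_stable
  have hZ' : Sieve.ofArrows
      (fun j => Over.mk (Limits.Sigma.ι A j ≫ Limits.Sigma.desc ψ ≫ (U i).ι ≫ X.hom))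
      (fun j => (Over.homMk (Limits.Sigma.ι A j) rfl :
        Over.mk (Limits.Sigma.ι A j ≫ Limits.Sigma.desc ψ ≫ (U i).ι ≫ X.hom) ⟶
          Over.mk (Limits.Sigma.desc ψ ≫ (U i).ι ≫ X.hom))) ∈
        Sheaf.finestTopologySingle F (Over.mk (Limits.Sigma.desc ψ ≫ (U i).ι ≫ X.hom)) := by
    apply zar_le_finest F hZar
    apply ofArrows_mem_zar
    · intro j
      show IsOpenImmersion (Limits.Sigma.ι A j)
      infer_instance
    · intro t
      obtain ⟨j, y, hy⟩ := (sigmaOpenCover A).exists_eq t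
      exact ⟨j, y, hy⟩
  refine (Sheaf.finestTopologySingle F).superset_covering ?_ hZ'
  rintro Y'' f'' ⟨W'', a'', b'', ⟨j⟩, rfl⟩
  apply Sieve.downward_closed
  show R.arrows (((Over.homMk (Limits.Sigma.ι A j) rfl :
        Over.mk (Limits.Sigma.ι A j ≫ Limits.Sigma.desc ψ ≫ (U i).ι ≫ X.hom) ⟶
          Over.mk (Limits.Sigma.desc ψ ≫ (U i).ι ≫ X.hom)) ≫
      (Over.homMk (Limits.Sigma.desc ψ) rfl :
        Over.mk (Limits.Sigma.desc ψ ≫ (U i).ι ≫ X.hom) ⟶ Over.mk ((U i).ι ≫ X.hom))) ≫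
      (Over.homMk (U i).ι rfl : Over.mk ((U i).ι ≫ X.hom) ⟶ X))
  rw [← overEquiv_left_iff]
  have e1 : Over.Hom.left (((Over.homMk (Limits.Sigma.ι A j) rfl :
        Over.mk (Limits.Sigma.ι A j ≫ Limits.Sigma.desc ψ ≫ (U i).ι ≫ X.hom) ⟶
          Over.mk (Limits.Sigma.desc ψ ≫ (U i).ι ≫ X.hom)) ≫
      (Over.homMk (Limits.Sigma.desc ψ) rfl :
        Over.mk (Limits.Sigma.desc ψ ≫ (U i).ι ≫ X.hom) ⟶ Over.mk ((U i).ι ≫ X.hom))) ≫
      (Over.homMk (U i).ι rfl : Over.mk ((U i).ι ≫ X.hom) ⟶ X)) = ψ j ≫ (U i).ι := by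
    show (Limits.Sigma.ι A j ≫ Limits.Sigma.desc ψ) ≫ (U i).ι = _
    rw [Limits.Sigma.ι_desc]
  rw [e1]
  exact hRψ j

end sheaf

section main

variable [C.IsStableUnderComposition] [C.IsStableUnderBaseChange]

theorem sheaf_iff (S : Scheme.{u})
    (hqc : ∀ {A B : Scheme.{u}} (f : A ⟶ B), C f → QuasiCompact f)
    (haff : ∀ (U : Scheme.{u}) [IsAffine U] (κ : Type u) [Finite κ] (V : κ → U.Opens),
      (∀ j, IsAffineOpen (V j)) → ⨆ j, V j = ⊤ → C (Limits.Sigma.desc fun j => (V j).ι))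
    (hres : ∀ (W X' : Scheme.{u}) [IsAffine W] (f : X' ⟶ W), C f →
      ∀ (κ : Type u) [Finite κ] (A : κ → X'.Opens), (∀ l, IsAffineOpen (A l)) → ⨆ l, A l = ⊤ →
        C (Limits.Sigma.desc fun l => (A l).ι ≫ f))
    (J : GrothendieckTopology (Over S))
    (hJ : ∀ (X : Over S) (R : Sieve X), R ∈ J X ↔
      ∃ (ι : Type u) (U : ι → X.left.Opens), (∀ i, IsAffineOpen (U i)) ∧ ⨆ i, U i = ⊤ ∧
        ∀ i, ∃ (κ : Type u) (_ : Finite κ) (V : κ → Over S) (φ : ∀ j, V j ⟶ X)
          (ψ : ∀ j, (V j).left ⟶ (U i : Scheme.{u})),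
          (∀ j, IsAffine (V j).left) ∧ (∀ j, R.arrows (φ j)) ∧ (∀ j, ψ j ≫ (U i).ι = (φ j).left) ∧
            C (Limits.Sigma.desc ψ))
    (F : (Over S)ᵒᵖ ⥤ Type v) :
    Presieve.IsSheaf J F ↔
      (Presieve.IsSheaf (Scheme.zariskiTopology.over S) F ∧
        ∀ (X X' : Over S) (f : X' ⟶ X), C f.left →
          Presieve.IsSheafFor F (Presieve.singleton f)) := by
  have hJ' : ∀ (X : Over S) (R : Sieve X), R ∈ J X ↔ Cov C X.left (Sieve.overEquiv X R) :=
    fun X R => (hJ X R).trans (cov_iff C R).symm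
  constructor
  · intro hF
    refine ⟨Presieve.isSheaf_of_le F ?_ hF, fun X X' f hf => ?_⟩
    · intro X R hR
      rw [GrothendieckTopology.mem_over_iff] at hR
      exact (hJ' X R).2 (cov_of_zar C haff _ hR)
    · rw [Presieve.isSheafFor_iff_generate]
      apply hF
      rw [hJ']
      refine ⟨X.left.affineCover.I₀, fun i => (X.left.affineCover.f i).opensRange,
        fun i => isAffineOpen_opensRange _, X.left.affineCover.iSup_opensRange, fun i => ?_⟩
      refine locCov_single C hqc hres f.left hf _ (fun {Z} h => ?_) _ (isAffineOpen_opensRange _)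
      have h1 : (Sieve.generate (Presieve.singleton f)).arrows
          ((Over.homMk h rfl : Over.mk (h ≫ X'.hom) ⟶ X') ≫ f) :=
        ⟨_, _, f, Presieve.singleton.mk, rfl⟩
      exact (overEquiv_left_iff _ _).2 h1
  · rintro ⟨hZar, hsingle⟩
    have hle : J ≤ Sheaf.finestTopologySingle F :=
      le_finest C F J (fun X R hR => (hJ' X R).1 hR) hZar hsingle
    intro X R hR
    have h1 : R ∈ Sheaf.finestTopologySingle F X := hle X hR
    have h2 := h1 X (𝟙 X)
    rwa [Sieve.pullback_id] at h2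

end main

end Groth.Agent.Lib.QCTop
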