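import Mathlib
import Groth.Prelude
import Groth.Agent.Lib.StalkSky3_lead
import Groth.Agent.Lib.PB7_helper8
import Groth.Agent.Lib.QcqsLoc_helper9
import Groth.Agent.Lib.SubExt_helper9
import Groth.Agent.Lib.BMod2_helper6
import Groth.Agent.Lib.BMod5_helper6

/-!
# S11130 (lead): quasi-coherence of an arbitrary `O_Y`-module descends along a flat, surjective,
quasi-compact morphism

For `f` flat and surjective the unit `M → f_* f^* M` is a monomorphism (flat pullback is exact and
faithful), so `M` is the kernel of a morphism between direct images of quasi-coherent modules; for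
`f` quasi-compact quasi-separated these are quasi-coherent.  The general quasi-compact case reduces
to this one, locally on `Y`, by replacing `f⁻¹(V)` by a finite disjoint union of affine opens.
-/

set_option autoImplicit false
set_option backward.isDefEq.respectTransparency false
set_option backward.isDefEq.respectTransparency.types false
set_option linter.style.haveILetI false
universe u
open CategoryTheory CategoryTheory.Limits AlgebraicGeometry Opposite TopologicalSpace

namespace Groth.Agent.Lib.QCohDescL

open Groth.Agent.Lib.StalkSkyL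

variable {X Y : Scheme.{u}} (f : X ⟶ Y)

theorem mono_unit [Flat f] [Surjective f] (M : Y.Modules) :
    Mono ((Scheme.Modules.pullbackPushforwardAdjunction f).unit.app M) := by
  haveI := faithful_pullback_of_flat_of_surjective f
  apply Preadditive.mono_of_kernel_zero
  have h2 : (Scheme.Modules.pullback f).map
      (kernel.ι ((Scheme.Modules.pullbackPushforwardAdjunction f).unit.app M)) ≫
      (Scheme.Modules.pullback f).map
        ((Scheme.Modules.pullbackPushforwardAdjunction f).unit.app M) = 0 := by
    rw [← Functor.map_comp, kernel.condition, Functor.map_zero]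
  have h3 := (Scheme.Modules.pullbackPushforwardAdjunction f).left_triangle_components M
  have h1 : (Scheme.Modules.pullback f).map
      (kernel.ι ((Scheme.Modules.pullbackPushforwardAdjunction f).unit.app M)) = 0 := by
    calc (Scheme.Modules.pullback f).map
          (kernel.ι ((Scheme.Modules.pullbackPushforwardAdjunction f).unit.app M))
        = (Scheme.Modules.pullback f).map
          (kernel.ι ((Scheme.Modules.pullbackPushforwardAdjunction f).unit.app M)) ≫ 𝟙 _ :=
          (Category.comp_id _).symm
      _ = (Scheme.Modules.pullback f).map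
          (kernel.ι ((Scheme.Modules.pullbackPushforwardAdjunction f).unit.app M)) ≫
          ((Scheme.Modules.pullback f).map
            ((Scheme.Modules.pullbackPushforwardAdjunction f).unit.app M) ≫
            (Scheme.Modules.pullbackPushforwardAdjunction f).counit.app
              ((Scheme.Modules.pullback f).obj M)) := by rw [h3]; rfl
      _ = ((Scheme.Modules.pullback f).map
          (kernel.ι ((Scheme.Modules.pullbackPushforwardAdjunction f).unit.app M)) ≫
          (Scheme.Modules.pullback f).map
            ((Scheme.Modules.pullbackPushforwardAdjunction f).unit.app M)) ≫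
            (Scheme.Modules.pullbackPushforwardAdjunction f).counit.app
              ((Scheme.Modules.pullback f).obj M) := (Category.assoc _ _ _).symm
      _ = 0 := by rw [h2, zero_comp]
  exact (Scheme.Modules.pullback f).map_injective (h1.trans (Functor.map_zero _ _ _).symm)

theorem isQuasicoherent_of_pullback_qcqs [Flat f] [Surjective f] [QuasiCompact f]
    [QuasiSeparated f] (M : Y.Modules)
    (hq : ((Scheme.Modules.pullback f).obj M).IsQuasicoherent) : M.IsQuasicoherent := by
  let adj := Scheme.Modules.pullbackPushforwardAdjunction f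
  let L := Scheme.Modules.pullback f
  let R := Scheme.Modules.pushforward f
  let η : M ⟶ R.obj (L.obj M) := adj.unit.app M
  haveI hη : Mono η := mono_unit f M
  haveI hLM : (L.obj M).IsQuasicoherent := hq
  haveI hQ0 : (R.obj (L.obj M)).IsQuasicoherent :=
    QcqsLoc.isQuasicoherent_pushforward_qcqs f (L.obj M)
  let π : R.obj (L.obj M) ⟶ cokernel η := cokernel.π η
  haveI hLQ0 : (L.obj (R.obj (L.obj M))).IsQuasicoherent :=
    PBH8.isQuasicoherent_pullback f (R.obj (L.obj M))
  haveI : PreservesColimitsOfSize.{0, 0} L := adj.leftAdjoint_preservesColimits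
  haveI hLC : (L.obj (cokernel η)).IsQuasicoherent := by
    have e : L.obj (cokernel η) ≅ cokernel (L.map η) := PreservesCokernel.iso L η
    haveI : (cokernel (L.map η)).IsQuasicoherent :=
      Groth.Agent.Lib.BModH6.isQuasicoherent_cokernel (L.map η)
    exact (SheafOfModules.isQuasicoherent X.ringCatSheaf).prop_of_iso e.symm inferInstance
  let η' : cokernel η ⟶ R.obj (L.obj (cokernel η)) := adj.unit.app (cokernel η)
  haveI hη' : Mono η' := mono_unit f (cokernel η)
  haveI hQ1 : (R.obj (L.obj (cokernel η))).IsQuasicoherent :=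
    QcqsLoc.isQuasicoherent_pushforward_qcqs f (L.obj (cokernel η))
  haveI hK : (kernel (π ≫ η')).IsQuasicoherent := SubExt.isQuasicoherent_kernel (π ≫ η')
  have e1 : kernel (π ≫ η') ≅ kernel π := kernelCompMono π η'
  have e2 : M ≅ kernel π :=
    IsLimit.conePointUniqueUpToIso
      (Abelian.monoIsKernelOfCokernel (CokernelCofork.ofπ (cokernel.π η) (cokernel.condition η))
        (cokernelIsCokernel η))
      (limit.isLimit (parallelPair π 0))
  exact (SheafOfModules.isQuasicoherent Y.ringCatSheaf).prop_of_iso (e1 ≪≫ e2.symm) hK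

theorem isQuasicoherent_of_pullback [Flat f] [Surjective f] [QuasiCompact f] (M : Y.Modules)
    (hq : ((Scheme.Modules.pullback f).obj M).IsQuasicoherent) : M.IsQuasicoherent := by
  refine Groth.Agent.Lib.BModH6.isQuasicoherent_of_restrict_ι M
    (fun V : Y.affineOpens => (V : Y.Opens)) (iSup_affineOpens_eq_top Y) ?_
  intro V
  have hVc : IsCompact (X := X) ((f ⁻¹ᵁ (V : Y.Opens) : X.Opens) : Set X) :=
    QuasiCompact.isCompact_preimage (f := f) _ (V : Y.Opens).isOpen V.2.isCompact
  obtain ⟨s, hs, hU⟩ := isCompact_iff_finite_and_eq_biUnion_affineOpens.mp hVc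
  haveI : Finite s := hs.to_subtype
  let g : s → Scheme.{u} := fun i => ((i.1 : X.Opens) : Scheme.{u})
  haveI : ∀ i, IsAffine (g i) := fun i => i.1.2
  have hle : ∀ i : s, (i.1 : X.Opens) ≤ f ⁻¹ᵁ (V : Y.Opens) := fun i => by
    rw [hU]
    exact le_iSup₂ (f := fun (j : X.affineOpens) (_ : j ∈ s) => (j : X.Opens)) i.1 i.2
  let fj : ∀ i : s, g i ⟶ ((V : Y.Opens) : Scheme.{u}) :=
    fun i => f.resLE (V : Y.Opens) (i.1 : X.Opens) (hle i)
  have hfj : ∀ i, fj i ≫ (V : Y.Opens).ι = (i.1 : X.Opens).ι ≫ f :=
    fun i => Scheme.Hom.resLE_comp_ι _ _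
  haveI hflat : ∀ i, Flat (fj i) := fun i =>
    IsZariskiLocalAtSource.resLE (P := @Flat) (hle i) inferInstance
  let f' : (∐ g) ⟶ ((V : Y.Opens) : Scheme.{u}) := Sigma.desc fj
  haveI : Flat f' := IsZariskiLocalAtSource.sigmaDesc (P := @Flat) (fun i => hflat i)
  haveI : Surjective f' := by
    refine ⟨fun y => ?_⟩
    obtain ⟨x, hx⟩ := ‹Surjective f›.surj y.1
    have hxV : x ∈ f ⁻¹ᵁ (V : Y.Opens) := by
      show f.base x ∈ (V : Y.Opens)
      rw [hx]; exact y.2
    rw [hU] at hxV
    obtain ⟨i, hi, hxi⟩ : ∃ i ∈ s, x ∈ (i : X.Opens) := by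
      simpa [Opens.mem_iSup] using hxV
    refine ⟨(Sigma.ι g ⟨i, hi⟩).base ⟨x, hxi⟩, ?_⟩
    have h1 : Sigma.ι g ⟨i, hi⟩ ≫ f' = fj ⟨i, hi⟩ := Sigma.ι_desc _ _
    have h2 : f'.base ((Sigma.ι g ⟨i, hi⟩).base ⟨x, hxi⟩) = (fj ⟨i, hi⟩).base ⟨x, hxi⟩ := by
      rw [← h1]; rfl
    rw [h2]
    apply Subtype.ext
    have h3 := congrArg (fun m : g ⟨i, hi⟩ ⟶ Y => m.base ⟨x, hxi⟩) (hfj ⟨i, hi⟩)
    exact h3.trans hx
  haveI : IsAffine ((V : Y.Opens) : Scheme.{u}) := V.2
  haveI : IsAffineHom f' := isAffineHom_of_isAffine f'
  apply isQuasicoherent_of_pullback_qcqs f'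
  let h : (∐ g) ⟶ X := Sigma.desc (fun i => (i.1 : X.Opens).ι)
  have hcomm : f' ≫ (V : Y.Opens).ι = h ≫ f := by
    apply Sigma.hom_ext
    intro i
    rw [← Category.assoc, ← Category.assoc, Sigma.ι_desc, Sigma.ι_desc]
    exact hfj i
  have e : (Scheme.Modules.pullback f').obj
      ((Scheme.Modules.restrictFunctor (V : Y.Opens).ι).obj M) ≅
      (Scheme.Modules.pullback h).obj ((Scheme.Modules.pullback f).obj M) :=
    (Scheme.Modules.pullback f').mapIso
        ((Scheme.Modules.restrictFunctorIsoPullback (V : Y.Opens).ι).app M) ≪≫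
      (Scheme.Modules.pullbackComp f' (V : Y.Opens).ι).app M ≪≫
      (Scheme.Modules.pullbackCongr hcomm).app M ≪≫
      ((Scheme.Modules.pullbackComp h f).app M).symm
  haveI := hq
  exact (SheafOfModules.isQuasicoherent (∐ g).ringCatSheaf).prop_of_iso e.symm
    (PBH8.isQuasicoherent_pullback h ((Scheme.Modules.pullback f).obj M))

theorem main11130 [Flat f] [Surjective f] [QuasiCompact f] (M : Y.Modules) :
    Coh.IsQCoh M ↔ Coh.IsQCoh ((Scheme.Modules.pullback f).obj M) :=
  ⟨fun hM => by
    haveI : M.IsQuasicoherent := hM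
    exact PBH8.isQuasicoherent_pullback f M,
   fun h => isQuasicoherent_of_pullback f M h⟩

end Groth.Agent.Lib.QCohDescL
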