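import Mathlib

/-!
# Base change of a module along a pushout square of rings, in additive-equivalence form (helper8)
APPEND-ONLY once landed.
-/

set_option autoImplicit false
universe u
open TensorProduct

namespace Groth.Agent.Lib.QCohEtH8

theorem exists_thetaM {A R B P M N : Type u} [CommRing A] [CommRing R] [CommRing B] [CommRing P]
    [Algebra A R] [Algebra A B] [Algebra R P] [Algebra B P] [Algebra A P]
    [IsScalarTower A R P] [IsScalarTower A B P] [Algebra.IsPushout A R B P]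
    [AddCommGroup M] [Module R M] [Module A M] [IsScalarTower A R M]
    [AddCommGroup N] [Module P N] [Module R N] [IsScalarTower R P N]
    (φ : M →ₗ[R] N) (hbc : IsBaseChange P φ) :
    ∃ θ : M ⊗[A] B ≃+ N, ∀ (m : M) (b : B), θ (m ⊗ₜ b) = algebraMap B P b • φ m := by
  let e1 : M ⊗[R] (R ⊗[A] B) ≃ₗ[R] M ⊗[A] B :=
    TensorProduct.AlgebraTensorModule.cancelBaseChange A R R M B
  let e2 : R ⊗[A] B ≃ₐ[R] P := Algebra.IsPushout.equiv A R B P
  let e3 : M ⊗[R] (R ⊗[A] B) ≃ₗ[R] M ⊗[R] P := LinearEquiv.lTensor M e2.toLinearEquiv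
  let e4 : M ⊗[R] P ≃ₗ[R] P ⊗[R] M := TensorProduct.comm R M P
  let e5 : P ⊗[R] M ≃ₗ[P] N := hbc.equiv
  refine ⟨e1.symm.toAddEquiv.trans (e3.toAddEquiv.trans (e4.toAddEquiv.trans e5.toAddEquiv)), ?_⟩
  intro m b
  have h1 : e1.symm (m ⊗ₜ[A] b) = m ⊗ₜ[R] ((1 : R) ⊗ₜ[A] b) := by
    rw [LinearEquiv.symm_apply_eq]
    show _ = TensorProduct.AlgebraTensorModule.cancelBaseChange A R R M B _
    rw [TensorProduct.AlgebraTensorModule.cancelBaseChange_tmul, one_smul]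
  show e5 (e4 (e3 (e1.symm (m ⊗ₜ[A] b)))) = _
  rw [h1]
  have h3 : e3 (m ⊗ₜ[R] ((1 : R) ⊗ₜ[A] b)) = m ⊗ₜ[R] (algebraMap B P b) := by
    show m ⊗ₜ[R] (e2 ((1 : R) ⊗ₜ[A] b)) = _
    rw [Algebra.IsPushout.equiv_tmul, map_one, one_mul]
  rw [h3]
  show e5 (algebraMap B P b ⊗ₜ[R] m) = _
  exact hbc.equiv_tmul _ _

end Groth.Agent.Lib.QCohEtH8
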