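import Mathlib
import Groth.Prelude.Def_EtAssoc2
import Groth.Agent.Lib.PB7_helper8
import Groth.Agent.Lib.QCohEt1_helper8

/-!
# The restriction maps of the étale presheaf `U ↦ Γ(U, u^* F)`: semilinearity, base change (helper8)
APPEND-ONLY once landed.
-/

set_option autoImplicit false
universe u
open CategoryTheory AlgebraicGeometry Opposite TopologicalSpace TensorProduct
open AlgebraicGeometry.Scheme.Modules

namespace Groth.Agent.Lib.QCohEtH8

variable {S : Scheme.{u}} (F : S.Modules)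

noncomputable instance instModObj (U : S.Etale) : Module Γ(U.left, ⊤) (EtAssoc.obj F U) :=
  inferInstanceAs (Module Γ(U.left, ⊤) Γ((Scheme.Modules.pullback U.hom).obj F, ⊤))

lemma top_le_preimage {X Y : Scheme.{u}} (f : X ⟶ Y) : (⊤ : X.Opens) ≤ f ⁻¹ᵁ ⊤ :=
  le_of_eq (Opens.map_top f.base).symm

lemma appLE_top {X Y : Scheme.{u}} (f : X ⟶ Y) (h : (⊤ : X.Opens) ≤ f ⁻¹ᵁ ⊤) :
    f.appLE ⊤ ⊤ h = f.appTop := by
  rw [Scheme.Hom.appLE, Scheme.Hom.appTop]
  exact (congrArg (fun m => Scheme.Hom.app f ⊤ ≫ m) (X.presheaf.map_id _)).trans (Category.comp_id _)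

lemma step1_apply {U U' : S.Etale} (g : U' ⟶ U) (x : EtAssoc.obj F U) :
    (EtAssoc.step1 F g) x =
      PBH8.cUV g.left ((Scheme.Modules.pullback U.hom).obj F) (top_le_preimage g.left) x := rfl

lemma step2_smul {U U' : S.Etale} (g : U' ⟶ U) (a : Γ(U'.left, ⊤))
    (y : Γ((Scheme.Modules.pullback g.left).obj ((Scheme.Modules.pullback U.hom).obj F), ⊤)) :
    (EtAssoc.step2 F g) (a • y) = a • (EtAssoc.step2 F g) y :=
  Scheme.Modules.Hom.app_smul (EtAssoc.step2a F g) a y

lemma resMap_apply {U U' : S.Etale} (g : U' ⟶ U) (x : EtAssoc.obj F U) :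
    (EtAssoc.resMap F g) x = (EtAssoc.step2 F g) ((EtAssoc.step1 F g) x) := rfl

lemma resMap_smul {U U' : S.Etale} (g : U' ⟶ U) (a : Γ(U.left, ⊤)) (x : EtAssoc.obj F U) :
    (EtAssoc.resMap F g) (a • x) = g.left.appTop a • (EtAssoc.resMap F g) x := by
  rw [resMap_apply, resMap_apply, step1_apply]
  have h := PBH8.cUV_smul g.left ((Scheme.Modules.pullback U.hom).obj F)
    (top_le_preimage g.left) a x
  rw [appLE_top] at h
  refine (congrArg (EtAssoc.step2 F g) h).trans ?_
  exact step2_smul F g _ _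

instance isIso_step2a {U U' : S.Etale} (g : U' ⟶ U) : IsIso (EtAssoc.step2a F g) := by
  unfold EtAssoc.step2a
  infer_instance

lemma step2_bijective {U U' : S.Etale} (g : U' ⟶ U) :
    Function.Bijective (EtAssoc.step2 F g) := by
  haveI : IsIso (EtAssoc.step2 F g) := by
    unfold EtAssoc.step2
    haveI : IsIso ((Scheme.Modules.toPresheaf U'.left).map (EtAssoc.step2a F g)) :=
      Functor.map_isIso _ _
    exact NatIso.isIso_app_of_isIso _ _
  exact ConcreteCategory.bijective_of_isIso (EtAssoc.step2 F g)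

end Groth.Agent.Lib.QCohEtH8
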