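import Mathlib
import Groth.Prelude.Def_EtAssoc2
import Groth.Agent.Lib.PB7_helper8
import Groth.Agent.Lib.QCohEt1_helper8
import Groth.Agent.Lib.QCohEt2_helper8
import Groth.Agent.Lib.GaCech3_helper8
import Groth.Agent.Lib.EtCartan3_helper8

/-!
# Čech acyclicity of the étale sheaf of a quasi-coherent module, affine case (helper8)
APPEND-ONLY once landed.
-/

set_option autoImplicit false
universe u
open CategoryTheory CategoryTheory.Limits AlgebraicGeometry Opposite TopologicalSpace TensorProduct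
open AlgebraicGeometry.Scheme.Modules

namespace Groth.Agent.Lib.QCohEtH8
open Groth.Agent.Lib.GaCechH8

variable {S : Scheme.{u}} (F : S.Modules) (U : S.Etale)

attribute [local instance] algOver

@[instance_reducible]
noncomputable def modOver (W : Over U) : Module Γ(U.left, ⊤) (EtAssoc.obj F W.left) :=
  Module.compHom _ (W.hom.left.appTop.hom)

attribute [local instance] modOver

instance isScalarTower_modOver (W : Over U) :
    IsScalarTower Γ(U.left, ⊤) Γ(W.left.left, ⊤) (EtAssoc.obj F W.left) :=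
  IsScalarTower.of_algebraMap_smul fun _ _ => rfl

/-- restriction as a linear map over the base ring -/
noncomputable def rM {W W' : Over U} (g : W' ⟶ W) :
    EtAssoc.obj F W.left →ₗ[Γ(U.left, ⊤)] EtAssoc.obj F W'.left :=
  { toFun := fun x => (EtAssoc.resMap F g.left) x
    map_add' := fun x y => map_add _ x y
    map_smul' := fun a x => by
      show (EtAssoc.resMap F g.left) (W.hom.left.appTop.hom a • x) =
        W'.hom.left.appTop.hom a • (EtAssoc.resMap F g.left) x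
      rw [resMap_smul, pb_comm] }

lemma rM_apply {W W' : Over U} (g : W' ⟶ W) (x : EtAssoc.obj F W.left) :
    rM F U g x = (EtAssoc.resMap F g.left) x := rfl

variable [F.IsQuasicoherent] [HasFiniteProducts (Over U)] [IsAffine U.left]

theorem exists_thetaMW (W V : Over U) [IsAffine W.left.left] [IsAffine V.left.left] :
    ∃ θ : (EtAssoc.obj F W.left) ⊗[Γ(U.left, ⊤)] Γ(V.left.left, ⊤) ≃+ EtAssoc.obj F (W ⨯ V).left,
      ∀ (m : EtAssoc.obj F W.left) (b : Γ(V.left.left, ⊤)),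
        θ (m ⊗ₜ b) = (prod.snd (X := W) (Y := V)).left.left.appTop.hom b •
          (EtAssoc.resMap F (prod.fst (X := W) (Y := V)).left) m := by
  haveI : IsAffine (W ⨯ V).left.left := isAffine_prod U W V
  set f := (prod.fst (X := W) (Y := V)).left.left with hf
  have h := top_le_preimage f
  letI algRP : Algebra Γ(W.left.left, ⊤) Γ((W ⨯ V).left.left, ⊤) := (f.appLE ⊤ ⊤ h).hom.toAlgebra
  letI algBP : Algebra Γ(V.left.left, ⊤) Γ((W ⨯ V).left.left, ⊤) :=
    ((prod.snd (X := W) (Y := V)).left.left.appTop.hom).toAlgebra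
  haveI st1 : IsScalarTower Γ(U.left, ⊤) Γ(W.left.left, ⊤) Γ((W ⨯ V).left.left, ⊤) :=
    IsScalarTower.of_algebraMap_eq fun a => by
      show (W ⨯ V).hom.left.appTop.hom a = (f.appLE ⊤ ⊤ h).hom (W.hom.left.appTop.hom a)
      rw [appLE_top]
      exact (pb_comm U prod.fst a).symm
  haveI st2 : IsScalarTower Γ(U.left, ⊤) Γ(V.left.left, ⊤) Γ((W ⨯ V).left.left, ⊤) :=
    IsScalarTower.of_algebraMap_eq fun a => (pb_comm U prod.snd a).symm
  haveI po : Algebra.IsPushout Γ(U.left, ⊤) Γ(W.left.left, ⊤) Γ(V.left.left, ⊤)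
      Γ((W ⨯ V).left.left, ⊤) := by
    rw [← CommRingCat.isPushout_iff_isPushout]
    have h0 := isPushout_appTop_of_isPullback (isPullback_prod U W V)
    have e1 : CommRingCat.ofHom (algebraMap Γ(W.left.left, ⊤) Γ((W ⨯ V).left.left, ⊤)) =
        (prod.fst (X := W) (Y := V)).left.left.appTop := by
      show f.appLE ⊤ ⊤ h = _
      exact appLE_top f h
    rw [e1]
    exact h0
  let F' : W.left.left.Modules := (Scheme.Modules.pullback W.left.hom).obj F
  letI mN : Module Γ(W.left.left, ⊤) Γ((Scheme.Modules.pullback f).obj F', ⊤) :=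
    Module.compHom _ (f.appLE ⊤ ⊤ h).hom
  haveI st3 : IsScalarTower Γ(W.left.left, ⊤) Γ((W ⨯ V).left.left, ⊤)
      Γ((Scheme.Modules.pullback f).obj F', ⊤) :=
    IsScalarTower.of_algebraMap_smul fun _ _ => rfl
  have hbc : IsBaseChange Γ((W ⨯ V).left.left, ⊤) (PBH8.cUVLin f F' h) :=
    PBH8.isBaseChange_cUV f F' h (isAffineOpen_top _) (isAffineOpen_top _)
  letI mA : Module Γ(U.left, ⊤) Γ(F', ⊤) := Module.compHom _ (W.hom.left.appTop.hom)
  haveI st4 : IsScalarTower Γ(U.left, ⊤) Γ(W.left.left, ⊤) Γ(F', ⊤) :=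
    IsScalarTower.of_algebraMap_smul fun _ _ => rfl
  obtain ⟨θ₀, hθ₀⟩ := exists_thetaM (A := Γ(U.left, ⊤)) (R := Γ(W.left.left, ⊤))
    (B := Γ(V.left.left, ⊤)) (P := Γ((W ⨯ V).left.left, ⊤)) (M := Γ(F', ⊤))
    (PBH8.cUVLin f F' h) hbc
  let g : (W ⨯ V).left ⟶ W.left := (prod.fst (X := W) (Y := V)).left
  let ψ : Γ((Scheme.Modules.pullback f).obj F', ⊤) ≃+ EtAssoc.obj F (W ⨯ V).left :=
    AddEquiv.ofBijective (EtAssoc.step2 F g).hom (step2_bijective F g)
  refine ⟨θ₀.trans ψ, fun m b => ?_⟩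
  show (EtAssoc.step2 F g) (θ₀ (m ⊗ₜ b)) = _
  rw [hθ₀ m b]
  refine (step2_smul F g _ _).trans ?_
  rfl

section Assoc

omit [F.IsQuasicoherent] [HasFiniteProducts (Over U)] [IsAffine U.left]

variable {F} {G : EtCoh.Ab S}
  (e : ∀ U : S.Etale, (G.obj.obj (op U) : Type (u + 1)) ≃+ ULift.{u + 1} (EtAssoc.obj F U))
  (he : ∀ (U U' : S.Etale) (g : U' ⟶ U) (s : G.obj.obj (op U)),
    (e U' (G.obj.map g.op s)).down = EtAssoc.resMap F g (e U s).down)

include he in
/-- functoriality of the restriction maps, a consequence of `IsAssoc` -/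
lemma resMap_comp {U₁ U₂ U₃ : S.Etale} (g : U₂ ⟶ U₁) (h : U₃ ⟶ U₂) (x : EtAssoc.obj F U₁) :
    (EtAssoc.resMap F (h ≫ g)) x = (EtAssoc.resMap F h) ((EtAssoc.resMap F g) x) := by
  obtain ⟨s, rfl⟩ : ∃ s, (e U₁ s).down = x := ⟨(e U₁).symm ⟨x⟩, by simp⟩
  rw [← he, ← he, ← he]
  congr 2
  rw [op_comp, G.obj.map_comp]
  rfl

/-- the restriction of `G` to `Over U` -/
noncomputable abbrev QG (G : EtCoh.Ab S) : (Over U)ᵒᵖ ⥤ AddCommGrpCat.{u + 1} :=
  (Over.forget U).op ⋙ G.obj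

/-- sections of `G` as sections of the module -/
noncomputable def εW (W : Over U) : (QG U G).obj (op W) ≃+ EtAssoc.obj F W.left :=
  (e W.left).trans AddEquiv.ulift

include he in
lemma εW_map {W W' : Over U} (g : W' ⟶ W) (s : (QG U G).obj (op W)) :
    εW U e W' (((QG U G).map g.op).hom s) = (EtAssoc.resMap F g.left) (εW U e W s) :=
  he W.left W'.left g.left s

end Assoc

section Cech

variable (V : Over U)

/-- module-level Čech differential -/
noncomputable def dM (n : ℕ) :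
    EtAssoc.obj F (Pw V (n + 1)).left →ₗ[Γ(U.left, ⊤)] EtAssoc.obj F (Pw V (n + 2)).left :=
  ∑ k : Fin (n + 2), (-1 : ℤ) ^ (k : ℕ) • rM F U (fc V n k)

omit [F.IsQuasicoherent] [IsAffine U.left] in
lemma dM_apply (n : ℕ) (x : EtAssoc.obj F (Pw V (n + 1)).left) :
    dM F U V n x = ∑ k : Fin (n + 2), (-1 : ℤ) ^ (k : ℕ) •
      (EtAssoc.resMap F (fc V n k).left) x := by
  simp [dM, rM_apply]

/-- module-level differential of the base changed cover -/
noncomputable def eN (n : ℕ) :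
    EtAssoc.obj F (Pw V (n + 1) ⨯ V).left →+ EtAssoc.obj F (Pw V (n + 2) ⨯ V).left :=
  ∑ k : Fin (n + 2), (-1 : ℤ) ^ (k : ℕ) •
    (EtAssoc.resMap F (prod.map (fc V n k) (𝟙 V)).left).hom

omit [F.IsQuasicoherent] [IsAffine U.left] in
lemma eN_apply (n : ℕ) (x : EtAssoc.obj F (Pw V (n + 1) ⨯ V).left) :
    eN F U V n x = ∑ k : Fin (n + 2), (-1 : ℤ) ^ (k : ℕ) •
      (EtAssoc.resMap F (prod.map (fc V n k) (𝟙 V)).left) x := by
  simp [eN]

variable {F} {G : EtCoh.Ab S}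
  (e : ∀ U : S.Etale, (G.obj.obj (op U) : Type (u + 1)) ≃+ ULift.{u + 1} (EtAssoc.obj F U))
  (he : ∀ (U U' : S.Etale) (g : U' ⟶ U) (s : G.obj.obj (op U)),
    (e U' (G.obj.map g.op s)).down = EtAssoc.resMap F g (e U s).down)

include he in
omit [F.IsQuasicoherent] [IsAffine U.left] in
lemma ε_d1 (n : ℕ) (s : C1 V (QG U G) n) :
    εW U e (Pw V (n + 2)) (d1 V (QG U G) n s) = dM F U V n (εW U e (Pw V (n + 1)) s) := by
  rw [d1_apply, dM_apply, map_sum]
  refine Finset.sum_congr rfl (fun k _ => ?_)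
  rw [map_zsmul, εW_map U e he]

include he in
omit [F.IsQuasicoherent] [IsAffine U.left] in
lemma ε_d2 (n : ℕ) (s : C2 V (QG U G) n) :
    εW U e (Pw V (n + 2) ⨯ V) (d2 V (QG U G) n s) =
      eN F U V n (εW U e (Pw V (n + 1) ⨯ V) s) := by
  rw [d2_apply, eN_apply, map_sum]
  refine Finset.sum_congr rfl (fun k _ => ?_)
  rw [map_zsmul, εW_map U e he]

include he in
omit [F.IsQuasicoherent] in
lemma theta_compatM (n : ℕ)
    (θ₀ : EtAssoc.obj F (Pw V (n + 1)).left ⊗[Γ(U.left, ⊤)] Γ(V.left.left, ⊤) ≃+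
      EtAssoc.obj F (Pw V (n + 1) ⨯ V).left)
    (hθ₀ : ∀ m b, θ₀ (m ⊗ₜ b) =
      (prod.snd (X := Pw V (n + 1)) (Y := V)).left.left.appTop.hom b •
        (EtAssoc.resMap F (prod.fst (X := Pw V (n + 1)) (Y := V)).left) m)
    (θ₁ : EtAssoc.obj F (Pw V (n + 2)).left ⊗[Γ(U.left, ⊤)] Γ(V.left.left, ⊤) ≃+
      EtAssoc.obj F (Pw V (n + 2) ⨯ V).left)
    (hθ₁ : ∀ m b, θ₁ (m ⊗ₜ b) =
      (prod.snd (X := Pw V (n + 2)) (Y := V)).left.left.appTop.hom b •
        (EtAssoc.resMap F (prod.fst (X := Pw V (n + 2)) (Y := V)).left) m)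
    (m : EtAssoc.obj F (Pw V (n + 1)).left) (b : Γ(V.left.left, ⊤)) :
    θ₁ (dM F U V n m ⊗ₜ b) = eN F U V n (θ₀ (m ⊗ₜ b)) := by
  rw [dM_apply, eN_apply, TensorProduct.sum_tmul, map_sum]
  refine Finset.sum_congr rfl (fun k _ => ?_)
  rw [← TensorProduct.smul_tmul', map_zsmul, hθ₁, hθ₀]
  congr 1
  have h1 : (EtAssoc.resMap F (prod.map (fc V n k) (𝟙 V)).left)
      ((prod.snd (X := Pw V (n + 1)) (Y := V)).left.left.appTop.hom b •
        (EtAssoc.resMap F (prod.fst (X := Pw V (n + 1)) (Y := V)).left) m) =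
      (prod.map (fc V n k) (𝟙 V)).left.left.appTop.hom
        ((prod.snd (X := Pw V (n + 1)) (Y := V)).left.left.appTop.hom b) •
        (EtAssoc.resMap F (prod.map (fc V n k) (𝟙 V)).left)
          ((EtAssoc.resMap F (prod.fst (X := Pw V (n + 1)) (Y := V)).left) m) :=
    resMap_smul F _ _ _
  rw [h1, appTop_comp_apply, ← resMap_comp e he, ← resMap_comp e he]
  have e1 : prod.map (fc V n k) (𝟙 V) ≫ prod.snd = prod.snd := by
    rw [prod.map_snd, Category.comp_id]
  have e2 : (prod.map (fc V n k) (𝟙 V)).left ≫ (prod.fst (X := Pw V (n + 1)) (Y := V)).left =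
      (prod.fst (X := Pw V (n + 2)) (Y := V)).left ≫ (fc V n k).left := by
    rw [← Over.comp_left, ← Over.comp_left, prod.map_fst]
  rw [e1, e2]

include he in
theorem qc_exact [IsAffine V.left.left] (hV : Surjective V.hom.left) (p : ℕ)
    (x : C1 V (QG U G) (p + 1)) (hx : d1 V (QG U G) (p + 1) x = 0) :
    ∃ y : C1 V (QG U G) p, d1 V (QG U G) p y = x := by
  haveI := isAffine_Pw U V
  haveI hff : Module.FaithfullyFlat Γ(U.left, ⊤) Γ(V.left.left, ⊤) :=
    (Flat.flat_and_surjective_iff_faithfullyFlat_of_isAffine (f := V.hom.left)).1 ⟨inferInstance, hV⟩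
  obtain ⟨θ₀, hθ₀⟩ := exists_thetaMW F U (Pw V (p + 1)) V
  obtain ⟨θ₁, hθ₁⟩ := exists_thetaMW F U (Pw V (p + 2)) V
  obtain ⟨θ₂, hθ₂⟩ := exists_thetaMW F U (Pw V (p + 3)) V
  have hd : (dM F U V (p + 1)).comp (dM F U V p) = 0 := by
    ext y
    obtain ⟨s, rfl⟩ := (εW U e (Pw V (p + 1))).surjective y
    have h := congrArg (εW U e (Pw V (p + 3))) (d1_d1 V (QG U G) p s)
    rw [ε_d1 U V e he, ε_d1 U V e he, map_zero] at h
    exact h
  have hex : ∀ z : EtAssoc.obj F (Pw V (p + 2) ⨯ V).left, eN F U V (p + 1) z = 0 →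
      ∃ y, eN F U V p y = z := by
    intro z hz
    obtain ⟨s, rfl⟩ := (εW U e (Pw V (p + 2) ⨯ V)).surjective z
    obtain ⟨y, hy⟩ := exact2 V (QG U G) p s (by
      apply (εW U e (Pw V (p + 3) ⨯ V)).injective
      rw [ε_d2 U V e he, map_zero]
      exact hz)
    refine ⟨εW U e (Pw V (p + 1) ⨯ V) y, ?_⟩
    rw [← ε_d2 U V e he, hy]
  have key := descent_exact (dM F U V p) (dM F U V (p + 1)) hd (eN F U V p) (eN F U V (p + 1))
    θ₀ θ₁ θ₂
    (theta_compatM U V e he p θ₀ hθ₀ θ₁ hθ₁) (theta_compatM U V e he (p + 1) θ₁ hθ₁ θ₂ hθ₂) hex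
  obtain ⟨y, hy⟩ := key (εW U e (Pw V (p + 2)) x) (by rw [← ε_d1 U V e he, hx, map_zero])
  refine ⟨(εW U e (Pw V (p + 1))).symm y, ?_⟩
  apply (εW U e (Pw V (p + 2))).injective
  rw [ε_d1 U V e he, AddEquiv.apply_symm_apply]
  exact hy

end Cech

end Groth.Agent.Lib.QCohEtH8

namespace Groth.Agent.Lib.QCohEtH8
open Groth.Agent.Lib.GaCechH8 Groth.Agent.Lib.EtCechPush

attribute [local instance] hasFiniteProducts_over

/-- **Čech acyclicity of the étale sheaf associated to a quasi-coherent module.** -/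
theorem affCech_of_isAssoc {S : Scheme.{u}} (F : S.Modules) [F.IsQuasicoherent] (G : EtCoh.Ab S)
    (hG : EtAssoc.IsAssoc F G) : Groth.Agent.Lib.EtCartanH8.AffCech G := by
  obtain ⟨e, he⟩ := hG
  intro U hU V hV hs p
  haveI := hU
  haveI := hV
  rw [Groth.Agent.Lib.CechSite.isZero_homology_succ_iff]
  exact exact_of_single V (QG U G) p (qc_exact U V e he hs p)

end Groth.Agent.Lib.QCohEtH8
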