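import Mathlib
import Groth.Prelude.Def_EtAssoc2
import Groth.Agent.Lib.PB12_helper8
import Groth.Agent.Lib.QCohEt2_helper8

/-!
# Functoriality of the restriction maps of `U ↦ Γ(U, u^* F)` (helper8)
APPEND-ONLY once landed.
-/

set_option autoImplicit false
universe u
open CategoryTheory CategoryTheory.Limits AlgebraicGeometry Opposite TopologicalSpace
open AlgebraicGeometry.Scheme.Modules

namespace Groth.Agent.Lib.QCohEtH8

variable {S : Scheme.{u}} (F : S.Modules)

/-- `u^* F` -/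
noncomputable abbrev pbM (U : S.Etale) : U.left.Modules := (Scheme.Modules.pullback U.hom).obj F

lemma step2a_eq_sig {U U' : S.Etale} (g : U' ⟶ U) :
    EtAssoc.step2a F g = PBH8.sig g.left U.hom U'.hom (Over.w g.hom) F := by
  unfold EtAssoc.step2a PBH8.sig
  rfl

/-- restriction maps with opens: `Γ(u^*F, V) → Γ(u'^*F, V')` for `g : U' ⟶ U`, `V' ⊆ g⁻¹ V` -/
noncomputable def rr {U U' : S.Etale} (g : U' ⟶ U) {V : U.left.Opens} {V' : U'.left.Opens}
    (h : V' ≤ g.left ⁻¹ᵁ V) (x : Γ(pbM F U, V)) : Γ(pbM F U', V') :=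
  (PBH8.sig g.left U.hom U'.hom (Over.w g.hom) F).app V' (PBH8.cUV g.left (pbM F U) h x)

lemma rr_top {U U' : S.Etale} (g : U' ⟶ U) (x : EtAssoc.obj F U) :
    rr F g (top_le_preimage g.left) x = (EtAssoc.resMap F g) x := by
  rw [resMap_apply, step1_apply]
  unfold rr
  have h := step2a_eq_sig F g
  show _ = ((EtAssoc.step2a F g).app ⊤) _
  rw [h]

lemma rr_add {U U' : S.Etale} (g : U' ⟶ U) {V : U.left.Opens} {V' : U'.left.Opens}
    (h : V' ≤ g.left ⁻¹ᵁ V) (x y : Γ(pbM F U, V)) :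
    rr F g h (x + y) = rr F g h x + rr F g h y := by
  unfold rr
  rw [PBH8.cUV_add, map_add]

lemma rr_comp {U U' U'' : S.Etale} (g : U' ⟶ U) (k : U'' ⟶ U') {V : U.left.Opens}
    {V' : U'.left.Opens} {V'' : U''.left.Opens} (h : V' ≤ g.left ⁻¹ᵁ V)
    (h' : V'' ≤ k.left ⁻¹ᵁ V') (h'' : V'' ≤ (k ≫ g).left ⁻¹ᵁ V) (x : Γ(pbM F U, V)) :
    rr F k h' (rr F g h x) = rr F (k ≫ g) h'' x := by
  unfold rr
  -- move `σ_g` across the canonical map of `k`
  have h1 := PBH8.cUV_naturality k.left (PBH8.sig g.left U.hom U'.hom (Over.w g.hom) F) h'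
    (PBH8.cUV g.left (pbM F U) h x)
  rw [← h1]
  -- composition of canonical maps
  have h2 : PBH8.cUV k.left ((Scheme.Modules.pullback g.left).obj (pbM F U)) h'
      (PBH8.cUV g.left (pbM F U) h x) =
      ((pullbackComp k.left g.left).inv.app (pbM F U)).app V''
        (PBH8.cUV (k.left ≫ g.left) (pbM F U) h'' x) := by
    rw [← PBH8.cUV_comp k.left g.left (pbM F U) h' h h'' x]
    exact (PBH8.iso_hom_inv_app ((pullbackComp k.left g.left).app (pbM F U)) V'' _).symm
  rw [h2]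
  have h3 := PBH8.sig_assoc k.left g.left U.hom U'.hom U''.hom (Over.w g.hom) (Over.w k.hom) F
  have h4 := congrArg (fun φ => (Scheme.Modules.Hom.app φ V'')
    (((pullbackComp k.left g.left).inv.app (pbM F U)).app V''
        (PBH8.cUV (k.left ≫ g.left) (pbM F U) h'' x))) h3
  simp only [Scheme.Modules.Hom.comp_app] at h4
  refine Eq.trans ?_ (Eq.trans h4.symm ?_)
  · rfl
  · show (PBH8.sig (k.left ≫ g.left) U.hom U''.hom
        (by rw [Category.assoc, Over.w g.hom, Over.w k.hom]) F).app V''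
      (((pullbackComp k.left g.left).hom.app (pbM F U)).app V''
        (((pullbackComp k.left g.left).inv.app (pbM F U)).app V'' _)) = _
    exact congrArg (fun z => (PBH8.sig (k.left ≫ g.left) U.hom U''.hom
        (by rw [Category.assoc, Over.w g.hom, Over.w k.hom]) F).app V'' z)
      (PBH8.iso_inv_hom_app ((pullbackComp k.left g.left).app (pbM F U)) V'' _)

lemma rr_id (U : S.Etale) {V V' : U.left.Opens} (h : V' ≤ (𝟙 U : U ⟶ U).left ⁻¹ᵁ V)
    (h' : V' ≤ V) (x : Γ(pbM F U, V)) :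
    rr F (𝟙 U) h x = (pbM F U).presheaf.map (homOfLE h').op x := by
  unfold rr
  have h1 : PBH8.sig (𝟙 U : U ⟶ U).left U.hom U.hom (Over.w (𝟙 U : U ⟶ U).hom) F =
      (pullbackId U.left).hom.app (pbM F U) := PBH8.sig_id U.hom F
  rw [h1]
  exact PBH8.cUV_id (pbM F U) h h' x

lemma rr_res {U U' : S.Etale} (g : U' ⟶ U) {V : U.left.Opens} {V' W' : U'.left.Opens}
    (h : V' ≤ g.left ⁻¹ᵁ V) (hW : W' ≤ V') (x : Γ(pbM F U, V)) :
    (pbM F U').presheaf.map (homOfLE hW).op (rr F g h x) = rr F g (hW.trans h) x := by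
  unfold rr
  rw [← QCohCrit.app_naturality, PBH8.cUV_res]

lemma rr_res_target {U U' : S.Etale} (g : U' ⟶ U) {V W : U.left.Opens} {V' : U'.left.Opens}
    (hW : W ≤ V) (h : V' ≤ g.left ⁻¹ᵁ W) (x : Γ(pbM F U, V)) :
    rr F g h ((pbM F U).presheaf.map (homOfLE hW).op x) =
      rr F g (h.trans (g.left.preimage_mono hW)) x := by
  unfold rr
  rw [PBH8.cUV_res_target]

theorem rr_bijective {U U' : S.Etale} (g : U' ⟶ U) [IsOpenImmersion g.left] (V' : U'.left.Opens)
    (h : V' ≤ g.left ⁻¹ᵁ (g.left ''ᵁ V')) : Function.Bijective (rr F g h) := by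
  have h1 : (rr F g h : _ → _) =
      ((PBH8.sig g.left U.hom U'.hom (Over.w g.hom) F).app V') ∘
        (PBH8.cUV g.left (pbM F U) h) := rfl
  rw [h1]
  exact (ConcreteCategory.bijective_of_isIso
    ((PBH8.sig g.left U.hom U'.hom (Over.w g.hom) F).app V')).comp
    (PBH8.cUV_bijective_of_isOpenImmersion g.left (pbM F U) V' h)

end Groth.Agent.Lib.QCohEtH8
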