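import Mathlib
import Groth.Prelude.Def_EtAssoc2
import Groth.Agent.Lib.QCohEt7_helper8

/-!
# The presheaf `U ↦ Γ(U, u^* F)` on the small étale site (helper8)
APPEND-ONLY once landed.
-/

set_option autoImplicit false
universe u
open CategoryTheory CategoryTheory.Limits AlgebraicGeometry Opposite TopologicalSpace
open AlgebraicGeometry.Scheme.Modules

namespace Groth.Agent.Lib.QCohEtH8

variable {S : Scheme.{u}} (F : S.Modules)

lemma resMap_id' (U : S.Etale) (x : EtAssoc.obj F U) : (EtAssoc.resMap F (𝟙 U)) x = x := by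
  rw [← rr_top, rr_id F U _ le_rfl]
  exact congrArg (fun ψ => ψ x) ((pbM F U).presheaf.map_id _)

lemma resMap_comp' {U U' U'' : S.Etale} (g : U' ⟶ U) (k : U'' ⟶ U') (x : EtAssoc.obj F U) :
    (EtAssoc.resMap F (k ≫ g)) x = (EtAssoc.resMap F k) ((EtAssoc.resMap F g) x) := by
  rw [← rr_top, ← rr_top, ← rr_top]
  exact (rr_comp F g k _ _ _ x).symm

/-- the presheaf `U ↦ Γ(U, u^* F)` (one universe up) -/
noncomputable def Qpre : S.Etaleᵒᵖ ⥤ AddCommGrpCat.{u + 1} where
  obj U := AddCommGrpCat.uliftFunctor.{u + 1, u}.obj (EtAssoc.obj F U.unop)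
  map g := AddCommGrpCat.uliftFunctor.{u + 1, u}.map (EtAssoc.resMap F g.unop)
  map_id U := by
    ext x
    apply ULift.ext
    exact resMap_id' F U.unop x.down
  map_comp g k := by
    ext x
    apply ULift.ext
    exact resMap_comp' F g.unop k.unop x.down

lemma Qpre_map_down {U U' : S.Etale} (g : U' ⟶ U) (s : (Qpre F).obj (op U)) :
    (((Qpre F).map g.op) s).down = (EtAssoc.resMap F g) s.down := rfl

/-- if `Qpre F` is a sheaf then it is associated to `F` -/
theorem isAssoc_of_isSheaf (h : Presheaf.IsSheaf S.smallEtaleTopology (Qpre F)) :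
    EtAssoc.IsAssoc F ⟨Qpre F, h⟩ :=
  ⟨fun U => AddEquiv.refl _, fun U U' g s => rfl⟩

end Groth.Agent.Lib.QCohEtH8
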