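import Mathlib
import Groth.Prelude.Def_EtAssoc2
import Groth.Agent.Lib.QCohEt3_helper8
import Groth.Agent.Lib.QCohEt8_helper8

/-!
# Faithfully flat descent for the presheaf `U ↦ Γ(U, u^* F)`: single affine covers (helper8)
APPEND-ONLY once landed.
-/

set_option autoImplicit false
universe u
open CategoryTheory CategoryTheory.Limits AlgebraicGeometry Opposite TopologicalSpace TensorProduct
open AlgebraicGeometry.Scheme.Modules

namespace Groth.Agent.Lib.QCohEtH8
open Groth.Agent.Lib.GaCechH8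

variable {S : Scheme.{u}} (F : S.Modules) (U : S.Etale)

attribute [local instance] algOver modOver

variable [HasFiniteProducts (Over U)]

section Compat

variable [IsAffine U.left]

/-- compatibility of the base change isomorphisms with restriction along `g ⨯ 𝟙` -/
lemma theta_compat_map {W W' V : Over U} (g : W' ⟶ W)
    (θ₀ : EtAssoc.obj F W.left ⊗[Γ(U.left, ⊤)] Γ(V.left.left, ⊤) ≃+ EtAssoc.obj F (W ⨯ V).left)
    (hθ₀ : ∀ m b, θ₀ (m ⊗ₜ b) = (prod.snd (X := W) (Y := V)).left.left.appTop.hom b •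
        (EtAssoc.resMap F (prod.fst (X := W) (Y := V)).left) m)
    (θ₁ : EtAssoc.obj F W'.left ⊗[Γ(U.left, ⊤)] Γ(V.left.left, ⊤) ≃+
      EtAssoc.obj F (W' ⨯ V).left)
    (hθ₁ : ∀ m b, θ₁ (m ⊗ₜ b) = (prod.snd (X := W') (Y := V)).left.left.appTop.hom b •
        (EtAssoc.resMap F (prod.fst (X := W') (Y := V)).left) m)
    (m : EtAssoc.obj F W.left) (b : Γ(V.left.left, ⊤)) :
    θ₁ ((EtAssoc.resMap F g.left) m ⊗ₜ b) =
      (EtAssoc.resMap F (prod.map g (𝟙 V)).left) (θ₀ (m ⊗ₜ b)) := by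
  rw [hθ₁, hθ₀]
  have h1 : (EtAssoc.resMap F (prod.map g (𝟙 V)).left)
      ((prod.snd (X := W) (Y := V)).left.left.appTop.hom b •
        (EtAssoc.resMap F (prod.fst (X := W) (Y := V)).left) m) =
      (prod.map g (𝟙 V)).left.left.appTop.hom
        ((prod.snd (X := W) (Y := V)).left.left.appTop.hom b) •
        (EtAssoc.resMap F (prod.map g (𝟙 V)).left)
          ((EtAssoc.resMap F (prod.fst (X := W) (Y := V)).left) m) :=
    resMap_smul F _ _ _
  rw [h1, appTop_comp_apply, ← resMap_comp', ← resMap_comp']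
  have e1 : prod.map g (𝟙 V) ≫ prod.snd = prod.snd := by
    rw [prod.map_snd, Category.comp_id]
  have e2 : (prod.map g (𝟙 V)).left ≫ (prod.fst (X := W) (Y := V)).left =
      (prod.fst (X := W') (Y := V)).left ≫ g.left := by
    rw [← Over.comp_left, ← Over.comp_left, prod.map_fst]
  rw [e1, e2]

lemma theta_compatM' (V : Over U) (n : ℕ)
    (θ₀ : EtAssoc.obj F (Pw V (n + 1)).left ⊗[Γ(U.left, ⊤)] Γ(V.left.left, ⊤) ≃+
      EtAssoc.obj F (Pw V (n + 1) ⨯ V).left)
    (hθ₀ : ∀ m b, θ₀ (m ⊗ₜ b) =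
      (prod.snd (X := Pw V (n + 1)) (Y := V)).left.left.appTop.hom b •
        (EtAssoc.resMap F (prod.fst (X := Pw V (n + 1)) (Y := V)).left) m)
    (θ₁ : EtAssoc.obj F (Pw V (n + 2)).left ⊗[Γ(U.left, ⊤)] Γ(V.left.left, ⊤) ≃+
      EtAssoc.obj F (Pw V (n + 2) ⨯ V).left)
    (hθ₁ : ∀ m b, θ₁ (m ⊗ₜ b) =
      (prod.snd (X := Pw V (n + 2)) (Y := V)).left.left.appTop.hom b •
        (EtAssoc.resMap F (prod.fst (X := Pw V (n + 2)) (Y := V)).left) m)
    (m : EtAssoc.obj F (Pw V (n + 1)).left) (b : Γ(V.left.left, ⊤)) :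
    θ₁ (dM F U V n m ⊗ₜ b) = eN F U V n (θ₀ (m ⊗ₜ b)) := by
  rw [dM_apply, eN_apply, TensorProduct.sum_tmul, map_sum]
  refine Finset.sum_congr rfl (fun k _ => ?_)
  rw [← TensorProduct.smul_tmul', map_zsmul]
  congr 1
  exact theta_compat_map F U (fc V n k) θ₀ hθ₀ θ₁ hθ₁ m b

end Compat

section Descent

variable [IsAffine U.left] (V : Over U)

/-- the terminal object of `Over U` -/
noncomputable abbrev Wt : Over U := Over.mk (𝟙 U)

/-- the structure map to the terminal object -/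
noncomputable abbrev τt (W : Over U) : W ⟶ Wt U := Over.homMk W.hom (Category.comp_id _)

lemma hom_ext_Wt {W : Over U} (a b : W ⟶ Wt U) : a = b := by
  apply Over.OverMorphism.ext
  have h1 : a.left = W.hom := (Category.comp_id a.left).symm.trans (Over.w a)
  have h2 : b.left = W.hom := (Category.comp_id b.left).symm.trans (Over.w b)
  rw [h1, h2]

/-- the diagonal section used for the contraction -/
noncomputable def σt : Wt U ⨯ V ⟶ Pw V (0 + 1) ⨯ V :=
  prod.lift (prod.snd ≫ Pi.lift (fun _ => 𝟙 V)) prod.snd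

lemma cn_fc_one : cn V 0 ≫ prod.map (fc V 0 1) (𝟙 V) = prod.map (τt U (Pw V (0 + 1))) (𝟙 V) ≫ σt U V := by
  apply Limits.prod.hom_ext
  · apply Pi.hom_ext
    intro j
    obtain rfl : j = 0 := by
      refine Fin.cases rfl (fun i => i.elim0) j
    rw [Category.assoc, Category.assoc, prod.map_fst_assoc, fc_π]
    have h0 : (1 : Fin 2).succAbove (0 : Fin 1) = 0 := rfl
    rw [h0, cn_fst_π_zero]
    unfold σt
    rw [Category.assoc, Category.assoc, prod.lift_fst_assoc, Category.assoc, Pi.lift_π,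
      Category.comp_id, prod.map_snd, Category.comp_id]
  · rw [Category.assoc, prod.map_snd, Category.comp_id, cn_snd]
    unfold σt
    rw [Category.assoc, prod.lift_snd, prod.map_snd, Category.comp_id]

lemma dM_comp_zero (y : EtAssoc.obj F (Wt U).left) :
    dM F U V 0 ((EtAssoc.resMap F (τt U (Pw V (0 + 1))).left) y) = 0 := by
  rw [dM_apply, Fin.sum_univ_two, ← resMap_comp', ← resMap_comp']
  have e0 : (fc V 0 0).left ≫ (τt U (Pw V (0 + 1))).left = (fc V 0 1).left ≫ (τt U (Pw V (0 + 1))).left := by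
    rw [← Over.comp_left, ← Over.comp_left]
    exact congrArg (fun φ : Pw V (0 + 2) ⟶ Wt U => φ.left) (hom_ext_Wt U _ _)
  rw [e0]
  simp

lemma eN_contract (z : EtAssoc.obj F (Pw V (0 + 1) ⨯ V).left) (hz : eN F U V 0 z = 0) :
    (EtAssoc.resMap F (prod.map (τt U (Pw V (0 + 1))) (𝟙 V)).left)
      ((EtAssoc.resMap F (σt U V).left) z) = z := by
  rw [← resMap_comp', ← Over.comp_left, ← cn_fc_one]
  rw [eN_apply, Fin.sum_univ_two] at hz
  have h1 := congrArg (EtAssoc.resMap F (cn V 0).left) hz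
  simp only [Fin.val_zero, pow_zero, one_smul, Fin.val_one, pow_one, neg_smul, map_add,
    map_neg, map_zero] at h1
  rw [← resMap_comp', ← resMap_comp', ← Over.comp_left, ← Over.comp_left, cn_fc_zero,
    add_neg_eq_zero] at h1
  rw [← h1]
  exact resMap_id' F _ z

end Descent

end Groth.Agent.Lib.QCohEtH8
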