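import Mathlib
import Groth.Prelude.Def_EtAssoc2
import Groth.Agent.Lib.QCohEt10_helper8

/-!
# Faithfully flat descent for the presheaf `U ↦ Γ(U, u^* F)`: exactness in degree zero (helper8)
APPEND-ONLY once landed.
-/

set_option autoImplicit false
universe u
open CategoryTheory CategoryTheory.Limits AlgebraicGeometry Opposite TopologicalSpace TensorProduct
open AlgebraicGeometry.Scheme.Modules

namespace Groth.Agent.Lib.QCohEtH8
open Groth.Agent.Lib.GaCechH8

variable {S : Scheme.{u}} (F : S.Modules) (U : S.Etale)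

attribute [local instance] algOver modOver

variable [HasFiniteProducts (Over U)] [IsAffine U.left] (V : Over U)
  [F.IsQuasicoherent] [IsAffine V.left.left]

theorem descent0_exact (hV : Surjective V.hom.left)
    (x : EtAssoc.obj F (Pw V (0 + 1)).left) (hx : dM F U V 0 x = 0) :
    ∃ t : EtAssoc.obj F (Wt U).left, (EtAssoc.resMap F (τt U (Pw V (0 + 1))).left) t = x := by
  haveI := isAffine_Pw U V
  haveI : IsAffine (Wt U).left.left := ‹IsAffine U.left›
  haveI hff : Module.FaithfullyFlat Γ(U.left, ⊤) Γ(V.left.left, ⊤) :=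
    (Flat.flat_and_surjective_iff_faithfullyFlat_of_isAffine (f := V.hom.left)).1 ⟨inferInstance, hV⟩
  obtain ⟨θ₀, hθ₀⟩ := exists_thetaMW F U (Wt U) V
  obtain ⟨θ₁, hθ₁⟩ := exists_thetaMW F U (Pw V (0 + 1)) V
  obtain ⟨θ₂, hθ₂⟩ := exists_thetaMW F U (Pw V (0 + 2)) V
  let d₀ := rM F U (τt U (Pw V (0 + 1)))
  have hd : (dM F U V 0).comp d₀ = 0 := by
    ext y
    exact dM_comp_zero F U V y
  let e₀ : EtAssoc.obj F (Wt U ⨯ V).left →+ EtAssoc.obj F (Pw V (0 + 1) ⨯ V).left :=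
    (EtAssoc.resMap F (prod.map (τt U (Pw V (0 + 1))) (𝟙 V)).left).hom
  have hex : ∀ z : EtAssoc.obj F (Pw V (0 + 1) ⨯ V).left, eN F U V 0 z = 0 → ∃ y, e₀ y = z :=
    fun z hz => ⟨(EtAssoc.resMap F (σt U V).left) z, eN_contract F U V z hz⟩
  exact descent_exact d₀ (dM F U V 0) hd e₀ (eN F U V 0) θ₀ θ₁ θ₂
    (theta_compat_map F U (τt U (Pw V (0 + 1))) θ₀ hθ₀ θ₁ hθ₁)
    (theta_compatM' F U V 0 θ₁ hθ₁ θ₂ hθ₂) hex x hx

theorem descent0_injective (hV : Surjective V.hom.left) :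
    Function.Injective (EtAssoc.resMap F (τt U (Pw V (0 + 1))).left) := by
  haveI : IsAffine (Wt U).left.left := ‹IsAffine U.left›
  haveI hff : Module.FaithfullyFlat Γ(U.left, ⊤) Γ(V.left.left, ⊤) :=
    (Flat.flat_and_surjective_iff_faithfullyFlat_of_isAffine (f := V.hom.left)).1 ⟨inferInstance, hV⟩
  obtain ⟨θ₀, hθ₀⟩ := exists_thetaMW F U (Wt U) V
  intro t t' htt
  -- restrict along `Wt ⨯ V ⟶ Pw V 1`
  let a : Wt U ⨯ V ⟶ Pw V (0 + 1) := prod.snd ≫ Pi.lift (fun _ => 𝟙 V)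
  have h1 := congrArg (EtAssoc.resMap F a.left) htt
  rw [← resMap_comp', ← resMap_comp', ← Over.comp_left,
    hom_ext_Wt U (a ≫ τt U (Pw V (0 + 1))) (prod.fst (X := Wt U) (Y := V))] at h1
  have h2 : θ₀ (t ⊗ₜ (1 : Γ(V.left.left, ⊤))) = θ₀ (t' ⊗ₜ (1 : Γ(V.left.left, ⊤))) := by
    rw [hθ₀, hθ₀, map_one, one_smul, one_smul]
    exact h1
  have h3 := θ₀.injective h2
  have h4 := congrArg (TensorProduct.comm Γ(U.left, ⊤) (EtAssoc.obj F (Wt U).left)
    Γ(V.left.left, ⊤)) h3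
  rw [TensorProduct.comm_tmul, TensorProduct.comm_tmul] at h4
  exact Module.FaithfullyFlat.tensorProduct_mk_injective (A := Γ(U.left, ⊤))
    (B := Γ(V.left.left, ⊤)) (EtAssoc.obj F (Wt U).left) h4

omit [IsAffine U.left] [F.IsQuasicoherent] [IsAffine V.left.left] in
lemma dM_zero_apply (x : EtAssoc.obj F (Pw V (0 + 1)).left) :
    dM F U V 0 x = (EtAssoc.resMap F (fc V 0 0).left) x - (EtAssoc.resMap F (fc V 0 1).left) x := by
  rw [dM_apply, Fin.sum_univ_two]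
  simp [sub_eq_add_neg]

end Groth.Agent.Lib.QCohEtH8

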