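import Mathlib
import Groth.Prelude.Def_EtAssoc2
import Groth.Agent.Lib.QCohEt11_helper8

/-!
# Descent for single affine covers, in terms of `Over U` (helper8)
APPEND-ONLY once landed.
-/

set_option autoImplicit false
universe u
open CategoryTheory CategoryTheory.Limits AlgebraicGeometry Opposite TopologicalSpace TensorProduct
open AlgebraicGeometry.Scheme.Modules

namespace Groth.Agent.Lib.QCohEtH8
open Groth.Agent.Lib.GaCechH8

variable {S : Scheme.{u}} (F : S.Modules) (U : S.Etale) [HasFiniteProducts (Over U)] (V : Over U)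

/-- the projection `V^1 ⟶ V` -/
noncomputable abbrev π0 : Pw V (0 + 1) ⟶ V := Pi.π (fun _ : Fin (0 + 1) => V) 0

/-- the diagonal `V ⟶ V^1` -/
noncomputable abbrev δ0 : V ⟶ Pw V (0 + 1) := Pi.lift (fun _ => 𝟙 V)

lemma δ0_π0 : δ0 U V ≫ π0 U V = 𝟙 V := Pi.lift_π _ _

lemma resMap_π0_injective : Function.Injective (EtAssoc.resMap F (π0 U V).left) := by
  intro a b hab
  have h1 := congrArg (EtAssoc.resMap F (δ0 U V).left) hab
  rw [← resMap_comp', ← resMap_comp', ← Over.comp_left, δ0_π0] at h1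
  have h2 : ∀ c : EtAssoc.obj F V.left, (EtAssoc.resMap F (𝟙 V : V ⟶ V).left) c = c :=
    fun c => resMap_id' F V.left c
  rw [h2, h2] at h1
  exact h1

lemma τt_left_eq : (τt U (Pw V (0 + 1))).left = (π0 U V).left ≫ V.hom := (Over.w (π0 U V)).symm

variable [IsAffine U.left] [F.IsQuasicoherent] [IsAffine V.left.left]

theorem sheafFor_over (hV : Surjective V.hom.left) (y : EtAssoc.obj F V.left)
    (hy : (EtAssoc.resMap F (fc V 0 0 ≫ π0 U V).left) y =
      (EtAssoc.resMap F (fc V 0 1 ≫ π0 U V).left) y) :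
    ∃ t : EtAssoc.obj F U, (EtAssoc.resMap F V.hom) t = y ∧
      ∀ t' : EtAssoc.obj F U, (EtAssoc.resMap F V.hom) t' = y → t' = t := by
  have hcoc : dM F U V 0 ((EtAssoc.resMap F (π0 U V).left) y) = 0 := by
    rw [dM_zero_apply, sub_eq_zero, ← resMap_comp', ← resMap_comp']
    exact hy
  obtain ⟨t, ht⟩ := descent0_exact F U V hV _ hcoc
  refine ⟨t, ?_, ?_⟩
  · apply resMap_π0_injective F U V
    rw [← resMap_comp', ← τt_left_eq]
    exact ht
  · intro t' ht'
    apply descent0_injective F U V hV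
    show (EtAssoc.resMap F (τt U (Pw V (0 + 1))).left) t' =
      (EtAssoc.resMap F (τt U (Pw V (0 + 1))).left) t
    rw [ht, τt_left_eq, resMap_comp', ht']

end Groth.Agent.Lib.QCohEtH8
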