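import Mathlib
import Groth.Prelude.Def_EtAssoc2
import Groth.Agent.Lib.QCohEt8_helper8
import Groth.Agent.Lib.EtZarAff_helper7

/-!
# The presheaf `U ↦ Γ(U, u^* F)` is a Zariski sheaf on the small étale site (helper8)
APPEND-ONLY once landed.
-/

set_option autoImplicit false
universe u
open CategoryTheory CategoryTheory.Limits AlgebraicGeometry Opposite TopologicalSpace
open AlgebraicGeometry.Scheme.Modules

namespace Groth.Agent.Lib.QCohEtH8

open Groth.Agent.Lib.EtZarAff_helper7

variable {S : Scheme.{u}} (F : S.Modules)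

lemma rr_congr {U U' : S.Etale} {g g' : U' ⟶ U} (e : g = g') {V : U.left.Opens}
    {V' : U'.left.Opens} (h : V' ≤ g.left ⁻¹ᵁ V) (h' : V' ≤ g'.left ⁻¹ᵁ V) (x : Γ(pbM F U, V)) :
    rr F g h x = rr F g' h' x := by
  subst e
  rfl

theorem rr_bijective' {U U' : S.Etale} (g : U' ⟶ U) [IsOpenImmersion g.left]
    (V' : U'.left.Opens) (V : U.left.Opens) (hV : g.left ''ᵁ V' = V)
    (h : V' ≤ g.left ⁻¹ᵁ V) : Function.Bijective (rr F g h) := by
  subst hV
  exact rr_bijective F g V' h

/-- lifting through an open immersion in the small étale site -/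
lemma exists_lift_of_isOpenImmersion {Y Z U : S.Etale} (f : Y ⟶ U) [IsOpenImmersion f.left]
    (g : Z ⟶ U) (h : Set.range g.left ⊆ Set.range f.left) : ∃ a : Z ⟶ Y, a ≫ f = g := by
  have hw : IsOpenImmersion.lift f.left g.left h ≫ Y.hom = Z.hom := by
    have h1 : f.left ≫ U.hom = Y.hom := Over.w f.hom
    have h2 : g.left ≫ U.hom = Z.hom := Over.w g.hom
    rw [← h1, IsOpenImmersion.lift_fac_assoc, h2]
  refine ⟨MorphismProperty.Over.homMk (IsOpenImmersion.lift f.left g.left h) hw trivial, ?_⟩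
  apply MorphismProperty.Over.Hom.ext
  exact IsOpenImmersion.lift_fac f.left g.left h

/-- the presheaf of types -/
noncomputable abbrev QT : S.Etaleᵒᵖ ⥤ Type (u + 1) := Qpre F ⋙ forget AddCommGrpCat.{u + 1}

lemma QT_map_down {U U' : S.Etale} (g : U' ⟶ U) (s : (QT F).obj (op U)) :
    ((QT F).map g.op s : ULift.{u + 1} (EtAssoc.obj F U')).down =
      (EtAssoc.resMap F g) (s : ULift.{u + 1} (EtAssoc.obj F U)).down := rfl

section Zar

variable {F} {U : S.Etale} {R : Sieve U}
  (x : Presieve.FamilyOfElements (QT F) R.arrows) (hx : x.Compatible)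

include hx in
/-- the value of a compatible family on an arrow factoring through an open piece -/
lemma family_eq_rr {Y Z : S.Etale} (f : Y ⟶ U) (hf : R f) (O : U.left.Opens)
    (hb : (⊤ : Y.left.Opens) ≤ f.left ⁻¹ᵁ O) (t : Γ(pbM F U, O))
    (ht : rr F f hb t = (x f hf : ULift.{u + 1} (EtAssoc.obj F Y)).down)
    (g : Z ⟶ U) (hg : R g) (a : Z ⟶ Y) (ha : a ≫ f = g)
    (hgO : (⊤ : Z.left.Opens) ≤ g.left ⁻¹ᵁ O) :
    (x g hg : ULift.{u + 1} (EtAssoc.obj F Z)).down = rr F g hgO t := by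
  have h1 : (QT F).map (𝟙 Z).op (x g hg) = (QT F).map a.op (x f hf) :=
    hx (𝟙 Z) a hg hf (by rw [Category.id_comp, ha])
  have h2 : (QT F).map (𝟙 Z).op (x g hg) = x g hg := by
    rw [op_id, (QT F).map_id]
    rfl
  rw [h2] at h1
  rw [h1, QT_map_down, ← ht, ← rr_top]
  rw [rr_comp F f a hb (top_le_preimage a.left) (by rw [ha]; exact hgO) t]
  exact rr_congr F ha _ _ t

end Zar

instance (Z : S.Etale) (W : Z.left.Opens) : IsOpenImmersion (opnι Z W).left :=
  inferInstanceAs (IsOpenImmersion W.ι)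

lemma opnι_image_top (Z : S.Etale) (W : Z.left.Opens) :
    (opnι Z W).left ''ᵁ (⊤ : (opn Z W).left.Opens) = W :=
  W.ι_image_top

lemma top_le_opnι_preimage (Z : S.Etale) (W : Z.left.Opens) :
    (⊤ : (opn Z W).left.Opens) ≤ (opnι Z W).left ⁻¹ᵁ W :=
  top_le_ι_preimage' W
where top_le_ι_preimage' {X : Scheme.{u}} (W : X.Opens) : (⊤ : W.toScheme.Opens) ≤ W.ι ⁻¹ᵁ W :=
  le_of_eq W.ι_preimage_self.symm

lemma range_opnι (Z : S.Etale) (W : Z.left.Opens) : Set.range (opnι Z W).left = (W : Set Z.left) :=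
  W.range_ι

/-- sections over an open are determined by the corresponding étale object -/
lemma rr_opnι_injective (Z : S.Etale) (W : Z.left.Opens) :
    Function.Injective (rr F (opnι Z W) (top_le_opnι_preimage Z W)) :=
  (rr_bijective' F (opnι Z W) ⊤ W (opnι_image_top Z W) _).1

set_option maxHeartbeats 800000 in
theorem isSheafFor_zar (U : S.Etale) (R : Sieve U) (hR : R ∈ Jzar S U) :
    Presieve.IsSheafFor (QT F) R.arrows := by
  rw [mem_Jzar_iff] at hR
  choose Y f y hRf hoi hfy using hR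
  haveI := hoi
  -- the open pieces
  let O : U.left → U.left.Opens := fun p => (f p).left ''ᵁ (⊤ : (Y p).left.Opens)
  have hpO : ∀ p, p ∈ O p := fun p => ⟨y p, trivial, hfy p⟩
  have hb : ∀ p, (⊤ : (Y p).left.Opens) ≤ (f p).left ⁻¹ᵁ (O p) := fun p =>
    le_of_eq ((f p).left.preimage_image_eq ⊤).symm
  have hbij : ∀ p, Function.Bijective (rr F (f p) (hb p)) := fun p =>
    rr_bijective F (f p) ⊤ (hb p)
  have hrange : ∀ p, Set.range (f p).left = (O p : Set U.left) := by
    intro p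
    ext z
    constructor
    · rintro ⟨w, rfl⟩
      exact ⟨w, trivial, rfl⟩
    · rintro ⟨w, -, rfl⟩
      exact ⟨w, rfl⟩
  let Msh : TopCat.Sheaf Ab U.left := ⟨(pbM F U).presheaf, (pbM F U).isSheaf⟩
  intro x hx
  -- local sections
  have hex : ∀ p, ∃ t : Γ(pbM F U, O p), rr F (f p) (hb p) t =
      (x (f p) (hRf p) : ULift.{u + 1} (EtAssoc.obj F (Y p))).down := fun p => (hbij p).2 _
  choose t ht using hex
  -- key formula
  have key : ∀ (p : U.left) {Z : S.Etale} (g : Z ⟶ U) (hg : R g)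
      (hgO : (⊤ : Z.left.Opens) ≤ g.left ⁻¹ᵁ (O p)),
      (x g hg : ULift.{u + 1} (EtAssoc.obj F Z)).down = rr F g hgO (t p) := by
    intro p Z g hg hgO
    obtain ⟨a, ha⟩ := exists_lift_of_isOpenImmersion (f p) g (by
      rw [hrange p]
      rintro _ ⟨z, rfl⟩
      exact hgO (show z ∈ (⊤ : Z.left.Opens) from trivial))
    exact family_eq_rr x hx (f p) (hRf p) (O p) (hb p) (t p) (ht p) g hg a ha hgO
  -- arrows from opens contained in a piece belong to `R`
  have hRopn : ∀ (p : U.left) {Z : S.Etale} (g : Z ⟶ U)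
      (hgO : (⊤ : Z.left.Opens) ≤ g.left ⁻¹ᵁ (O p)), R g := by
    intro p Z g hgO
    obtain ⟨a, ha⟩ := exists_lift_of_isOpenImmersion (f p) g (by
      rw [hrange p]
      rintro _ ⟨z, rfl⟩
      exact hgO (show z ∈ (⊤ : Z.left.Opens) from trivial))
    rw [← ha]
    exact R.downward_closed (hRf p) a
  -- compatibility of the local sections
  have hcompat : TopCat.Presheaf.IsCompatible Msh.1 O t := by
    intro p q
    let W : U.left.Opens := O p ⊓ O q
    apply rr_opnι_injective F U W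
    have hWp : (⊤ : (opn U W).left.Opens) ≤ (opnι U W).left ⁻¹ᵁ (O p) :=
      (top_le_opnι_preimage U W).trans ((opnι U W).left.preimage_mono inf_le_left)
    have hWq : (⊤ : (opn U W).left.Opens) ≤ (opnι U W).left ⁻¹ᵁ (O q) :=
      (top_le_opnι_preimage U W).trans ((opnι U W).left.preimage_mono inf_le_right)
    have e1 := rr_res_target F (opnι U W) (inf_le_left : W ≤ O p) (top_le_opnι_preimage U W) (t p)
    have e2 := rr_res_target F (opnι U W) (inf_le_right : W ≤ O q) (top_le_opnι_preimage U W) (t q)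
    refine e1.trans (Eq.trans ?_ e2.symm)
    have k1 := key p (opnι U W) (hRopn p _ hWp) hWp
    have k2 := key q (opnι U W) (hRopn p _ hWp) hWq
    exact k1.symm.trans k2
  have hcover : (⊤ : U.left.Opens) ≤ iSup O := by
    intro z _
    exact Opens.mem_iSup.2 ⟨z, hpO z⟩
  obtain ⟨T, hT, -⟩ := Msh.existsUnique_gluing' O ⊤ (fun p => homOfLE le_top) hcover t hcompat
  -- restriction of a global section to a piece, in terms of `rr`
  have hres : ∀ (T' : Γ(pbM F U, ⊤)) (p : U.left) {Z : S.Etale} (g : Z ⟶ U)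
      (hgO : (⊤ : Z.left.Opens) ≤ g.left ⁻¹ᵁ (O p)),
      rr F g hgO ((pbM F U).presheaf.map (homOfLE (le_top : O p ≤ ⊤)).op T') =
        (EtAssoc.resMap F g) T' := by
    intro T' p Z g hgO
    rw [rr_res_target F g (le_top : O p ≤ ⊤) hgO T', ← rr_top]
  refine ⟨ULift.up T, ?_, ?_⟩
  · -- amalgamation
    intro Z g hg
    apply ULift.ext
    rw [QT_map_down]
    let Zsh : TopCat.Sheaf Ab Z.left := ⟨(pbM F Z).presheaf, (pbM F Z).isSheaf⟩
    let W' : U.left → Z.left.Opens := fun p => g.left ⁻¹ᵁ (O p)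
    have hcov' : (⊤ : Z.left.Opens) ≤ iSup W' := by
      intro z _
      exact Opens.mem_iSup.2 ⟨g.left z, hpO (g.left z)⟩
    refine Zsh.eq_of_locally_eq' W' ⊤ (fun p => homOfLE le_top) hcov' _ _ (fun p => ?_)
    apply rr_opnι_injective F Z (W' p)
    let ι' := opnι Z (W' p)
    have hι'O : (⊤ : (opn Z (W' p)).left.Opens) ≤ (ι' ≫ g).left ⁻¹ᵁ (O p) := by
      intro z _
      exact (top_le_opnι_preimage Z (W' p)) (show z ∈ (⊤ : (opn Z (W' p)).left.Opens) from trivial)
    have hRι' : R (ι' ≫ g) := R.downward_closed hg ι'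
    -- left side
    have l1 := rr_res_target F ι' (le_top : W' p ≤ ⊤) (top_le_opnι_preimage Z (W' p))
      ((EtAssoc.resMap F g) T)
    have l2 : rr F ι' ((top_le_opnι_preimage Z (W' p)).trans (ι'.left.preimage_mono le_top))
        ((EtAssoc.resMap F g) T) = (EtAssoc.resMap F (ι' ≫ g)) T := by
      rw [resMap_comp', ← rr_top F ι']
    -- right side
    have r1 := rr_res_target F ι' (le_top : W' p ≤ ⊤) (top_le_opnι_preimage Z (W' p))
      (x g hg : ULift.{u + 1} (EtAssoc.obj F Z)).down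
    have r2 : rr F ι' ((top_le_opnι_preimage Z (W' p)).trans (ι'.left.preimage_mono le_top))
        (x g hg : ULift.{u + 1} (EtAssoc.obj F Z)).down =
        (x (ι' ≫ g) hRι' : ULift.{u + 1} (EtAssoc.obj F (opn Z (W' p)))).down := by
      have h1 : (QT F).map (𝟙 _).op (x (ι' ≫ g) hRι') = (QT F).map ι'.op (x g hg) :=
        hx (𝟙 _) ι' hRι' hg (Category.id_comp _)
      have h2 : (QT F).map (𝟙 _).op (x (ι' ≫ g) hRι') = x (ι' ≫ g) hRι' := by
        rw [op_id, (QT F).map_id]
        rfl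
      rw [h2] at h1
      refine Eq.trans ?_ (congrArg ULift.down h1).symm
      rw [QT_map_down, ← rr_top F ι']
    refine l1.trans (l2.trans (Eq.trans ?_ (r1.trans r2).symm))
    exact ((hres T p (ι' ≫ g) hι'O).symm.trans
      (congrArg (rr F (ι' ≫ g) hι'O) (hT p))).trans (key p (ι' ≫ g) hRι' hι'O).symm
  · -- uniqueness
    intro T' hT'
    apply ULift.ext
    refine Msh.eq_of_locally_eq' O ⊤ (fun p => homOfLE le_top) hcover _ _ (fun p => ?_)
    apply (hbij p).1
    have a1 := hres T'.down p (f p) (hb p)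
    have a2 := hres T p (f p) (hb p)
    refine a1.trans (Eq.trans ?_ a2.symm)
    have b1 : (EtAssoc.resMap F (f p)) T'.down =
        (x (f p) (hRf p) : ULift.{u + 1} (EtAssoc.obj F (Y p))).down :=
      congrArg ULift.down (hT' (f p) (hRf p))
    rw [b1, ← ht p, ← hres T p (f p) (hb p)]
    exact congrArg _ (hT p).symm

end Groth.Agent.Lib.QCohEtH8

namespace Groth.Agent.Lib.QCohEtH8

open Groth.Agent.Lib.EtZarAff_helper7 in
theorem isSheaf_zar {S : Scheme.{u}} (F : S.Modules) :
    Presieve.IsSheaf (Jzar S) (QT F) :=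
  fun U R hR => isSheafFor_zar F U R hR

end Groth.Agent.Lib.QCohEtH8
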