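import Mathlib
import Groth.Prelude.Def_EtAssoc2
import Groth.Agent.Lib.QCohEt12_helper8
import Groth.Agent.Lib.QCohEt9_helper8
import Groth.Agent.Lib.EtCechPush_helper2

/-!
# The presheaf `U ↦ Γ(U, u^* F)` is an étale sheaf (helper8)
APPEND-ONLY once landed.
-/

set_option autoImplicit false
universe u
open CategoryTheory CategoryTheory.Limits AlgebraicGeometry Opposite TopologicalSpace TensorProduct
open AlgebraicGeometry.Scheme.Modules

namespace Groth.Agent.Lib.QCohEtH8
open Groth.Agent.Lib.GaCechH8 Groth.Agent.Lib.EtCechPush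

variable {S : Scheme.{u}} (F : S.Modules) [F.IsQuasicoherent]

attribute [local instance] hasFiniteProducts_over

theorem isSheafFor_singleton_over (U : S.Etale) [IsAffine U.left] (V : Over U)
    [IsAffine V.left.left] (hV : Surjective V.hom.left) :
    Presieve.IsSheafFor (QT F) (Presieve.singleton V.hom) := by
  rw [Presieve.isSheafFor_singleton]
  intro y hy
  have h1 : (fc V 0 0 ≫ π0 U V).left ≫ V.hom = (fc V 0 1 ≫ π0 U V).left ≫ V.hom :=
    (Over.w (fc V 0 0 ≫ π0 U V)).trans (Over.w (fc V 0 1 ≫ π0 U V)).symm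
  have h2 : (EtAssoc.resMap F (fc V 0 0 ≫ π0 U V).left)
      (y : ULift.{u + 1} (EtAssoc.obj F V.left)).down =
      (EtAssoc.resMap F (fc V 0 1 ≫ π0 U V).left)
      (y : ULift.{u + 1} (EtAssoc.obj F V.left)).down := by
    have h3 := congrArg ULift.down (hy _ _ h1)
    rw [QT_map_down, QT_map_down] at h3
    exact h3
  obtain ⟨t, ht, htu⟩ := sheafFor_over F U V hV
    (y : ULift.{u + 1} (EtAssoc.obj F V.left)).down h2
  refine ⟨ULift.up t, ?_, ?_⟩
  · apply ULift.ext
    exact (QT_map_down F V.hom (ULift.up t)).trans ht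
  · intro t' ht'
    apply ULift.ext
    have h5 := congrArg ULift.down ht'
    rw [QT_map_down] at h5
    exact htu (t' : ULift.{u + 1} (EtAssoc.obj F U)).down h5

theorem isSheafFor_singleton_affine {U V' : S.Etale} [IsAffine U.left] [IsAffine V'.left]
    (f : V' ⟶ U) [Surjective f.left] :
    Presieve.IsSheafFor (QT F) (Presieve.singleton f) := by
  haveI : IsAffine (Over.mk f).left.left := ‹IsAffine V'.left›
  have hV : Surjective (Over.mk f).hom.left := ‹Surjective f.left›
  exact isSheafFor_singleton_over F U (Over.mk f) hV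

open Groth.Agent.Lib.EtZarAff_helper7 in
theorem isSheaf_Qpre : Presheaf.IsSheaf S.smallEtaleTopology (Qpre F) := by
  rw [Presheaf.isSheaf_iff_isSheaf_forget _ _ (forget AddCommGrpCat.{u + 1}),
    isSheaf_iff_isSheaf_of_type, main]
  exact ⟨isSheaf_zar F, fun U V _ _ f _ => isSheafFor_singleton_affine F f⟩

theorem exists_isAssoc : ∃ G : EtCoh.Ab S, EtAssoc.IsAssoc F G :=
  ⟨⟨Qpre F, isSheaf_Qpre F⟩, isAssoc_of_isSheaf F (isSheaf_Qpre F)⟩

end Groth.Agent.Lib.QCohEtH8
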