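import Mathlib
import Groth.Prelude.Def_EtAssoc2
import Groth.Prelude.Def_EtZar
import Groth.Agent.Lib.QCohEt3_helper8
import Groth.Agent.Lib.EtZarAcyc_helper7
import Groth.Agent.Lib.FAcyc_helper9
import Groth.Agent.Lib.KRRReg2_helper9

/-!
# `R^q π_* G = 0` for the étale sheaf `G` of a quasi-coherent module (helper8)
APPEND-ONLY once landed.
-/

set_option autoImplicit false
universe u
open CategoryTheory CategoryTheory.Limits AlgebraicGeometry Opposite

namespace Groth.Agent.Lib.QCohEtH8

open Groth.Agent.Lib.EtZarAcyc_helper7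

theorem affAcy_of_affCech {S : Scheme.{u}} (G : EtCoh.Ab S)
    (hG : Groth.Agent.Lib.EtCartanH8.AffCech G) : AffAcy S G := by
  intro W hW q hq x
  obtain ⟨n, rfl⟩ : ∃ n, q = n + 1 := ⟨q - 1, by omega⟩
  exact Groth.Agent.Lib.EtCartanH8.ext_vanish n G hG W hW x

theorem affAcy_of_isAssoc {S : Scheme.{u}} (F : S.Modules) [F.IsQuasicoherent] (G : EtCoh.Ab S)
    (hG : EtAssoc.IsAssoc F G) : AffAcy S G :=
  affAcy_of_affCech G (affCech_of_isAssoc F G hG)

theorem isZero_rightDerived_resZar_of_affAcy (X : Scheme.{u}) [EtZar.ZarCont X]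
    [(EtZar.resZar X).Additive] (q : ℕ) :
    ∀ G : EtCoh.Ab X, AffAcy X G → IsZero (((EtZar.resZar X).rightDerived (q + 1)).obj G) := by
  induction q with
  | zero =>
    intro G hG
    let Sx : ShortComplex (EtCoh.Ab X) :=
      ShortComplex.mk (Injective.ι G) (cokernel.π (Injective.ι G)) (cokernel.condition _)
    have hSx : Sx.ShortExact := { exact := ShortComplex.exact_cokernel (Injective.ι G) }
    haveI : Injective Sx.X₂ := inferInstanceAs (Injective (Injective.under G))
    have hres := shortExact_res Sx hSx hG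
    refine KRRRegH9.isZero_X₁_of_epi (EtZar.resZar X) Sx hSx ?_
      (Functor.isZero_rightDerived_obj_injective_succ (EtZar.resZar X) 0 Sx.X₂)
    haveI : Epi ((EtZar.resZar X).map Sx.g) := hres.epi_g
    let e := (EtZar.resZar X).rightDerivedZeroIsoSelf
    have h4 : ((EtZar.resZar X).rightDerived 0).map Sx.g =
        e.hom.app _ ≫ (EtZar.resZar X).map Sx.g ≫ e.inv.app _ := by
      rw [← e.hom.naturality_assoc, Iso.hom_inv_id_app, Category.comp_id]
    rw [h4]
    infer_instance
  | succ q ih =>
    intro G hG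
    let Sx : ShortComplex (EtCoh.Ab X) :=
      ShortComplex.mk (Injective.ι G) (cokernel.π (Injective.ι G)) (cokernel.condition _)
    have hSx : Sx.ShortExact := { exact := ShortComplex.exact_cokernel (Injective.ι G) }
    haveI : Injective Sx.X₂ := inferInstanceAs (Injective (Injective.under G))
    exact Groth.Agent.Lib.FAcyc.isZero_X₁ (EtZar.resZar X) Sx hSx (q + 1)
      (ih Sx.X₃ (affAcy_X₃ Sx hSx hG))
      (Functor.isZero_rightDerived_obj_injective_succ (EtZar.resZar X) (q + 1) Sx.X₂)

end Groth.Agent.Lib.QCohEtH8
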