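import Mathlib
import Groth.Prelude.Def_EtAssoc2
import Groth.Prelude.Def_EtZar
import Groth.Agent.Lib.PB11_helper8
import Groth.Agent.Lib.QCohEt2_helper8
import Groth.Agent.Lib.ULiftSh_helper8

/-!
# The Zariski restriction of the étale sheaf of a quasi-coherent module (helper8)
APPEND-ONLY once landed.
-/

set_option autoImplicit false
universe u
open CategoryTheory CategoryTheory.Limits AlgebraicGeometry Opposite TopologicalSpace
open AlgebraicGeometry.Scheme.Modules

namespace Groth.Agent.Lib.QCohEtH8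

variable {S : Scheme.{u}} (F : S.Modules)

lemma top_le_ι_preimage (U : S.Opens) : (⊤ : U.toScheme.Opens) ≤ U.ι ⁻¹ᵁ U :=
  le_of_eq U.ι_preimage_self.symm

/-- `Γ(F, U) → Γ(U, ι_U^* F)` -/
noncomputable def τ (U : S.Opens) (x : Γ(F, U)) : EtAssoc.obj F ((EtZar.zarToEt S).obj U) :=
  PBH8.cUV U.ι F (top_le_ι_preimage U) x

lemma τ_add (U : S.Opens) (x y : Γ(F, U)) : τ F U (x + y) = τ F U x + τ F U y :=
  PBH8.cUV_add U.ι F _ x y

lemma step2_apply {U U' : S.Etale} (g : U' ⟶ U)
    (z : Γ((Scheme.Modules.pullback g.left).obj ((Scheme.Modules.pullback U.hom).obj F), ⊤)) :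
    (EtAssoc.step2 F g) z =
      (eqToHom (congrArg (fun h => (Scheme.Modules.pullback h).obj F) (Over.w g.hom))).app ⊤
        (((pullbackComp g.left U.hom).hom.app F).app ⊤ z) := rfl

lemma τ_res {U V : S.Opens} (h : V ≤ U) (x : Γ(F, U)) :
    (EtAssoc.resMap F ((EtZar.zarToEt S).map (homOfLE h))) (τ F U x) =
      τ F V (F.presheaf.map (homOfLE h).op x) := by
  set g := (EtZar.zarToEt S).map (homOfLE h) with hg
  have hw : g.left ≫ ((EtZar.zarToEt S).obj U).hom = ((EtZar.zarToEt S).obj V).hom :=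
    Over.w g.hom
  have hUW : (⊤ : V.toScheme.Opens) ≤ (g.left ≫ ((EtZar.zarToEt S).obj U).hom) ⁻¹ᵁ U := by
    rw [hw]
    exact (top_le_ι_preimage V).trans (V.ι.preimage_mono h)
  rw [resMap_apply, step1_apply, step2_apply]
  have h1 := PBH8.cUV_comp g.left ((EtZar.zarToEt S).obj U).hom F (top_le_preimage g.left)
    (top_le_ι_preimage U) hUW x
  refine (congrArg (fun z => (eqToHom (congrArg (fun h => (Scheme.Modules.pullback h).obj F)
    (Over.w g.hom))).app ⊤ z) h1).trans ?_
  refine (PBH8.cUV_congr F hw hUW x).trans ?_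
  exact (PBH8.cUV_res_target V.ι F h (top_le_ι_preimage V) x).symm

/-- a base change along a bijective ring map is bijective -/
lemma bijective_of_isBaseChange {R T M N : Type u} [CommRing R] [CommRing T] [Algebra R T]
    [AddCommGroup M] [Module R M] [AddCommGroup N] [Module R N] [Module T N]
    [IsScalarTower R T N] (f : M →ₗ[R] N) (hbc : IsBaseChange T f)
    (hb : Function.Bijective (algebraMap R T)) : Function.Bijective f := by
  let ε : R ≃ₗ[R] T := LinearEquiv.ofBijective (Algebra.linearMap R T) hb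
  let e1 : M ≃ₗ[R] TensorProduct R T M :=
    (TensorProduct.lid R M).symm ≪≫ₗ (LinearEquiv.rTensor M ε)
  have h1 : ∀ m, f m = hbc.equiv (e1 m) := by
    intro m
    have : e1 m = (1 : T) ⊗ₜ[R] m := by
      show (LinearEquiv.rTensor M ε) ((TensorProduct.lid R M).symm m) = _
      rw [TensorProduct.lid_symm_apply, LinearEquiv.rTensor_tmul]
      show (algebraMap R T 1) ⊗ₜ[R] m = _
      rw [map_one]
    rw [this, hbc.equiv_tmul, one_smul]
  have h2 : (f : M → N) = (hbc.equiv : _ → N) ∘ (e1 : M → _) := funext h1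
  rw [h2]
  exact hbc.equiv.bijective.comp e1.bijective

variable [F.IsQuasicoherent]

theorem τ_bijective (U : S.Opens) (hU : IsAffineOpen U) : Function.Bijective (τ F U) := by
  haveI : IsAffine U.toScheme := hU
  have h := top_le_ι_preimage U
  letI := (U.ι.appLE U ⊤ h).hom.toAlgebra
  letI : Module Γ(S, U) Γ((Scheme.Modules.pullback U.ι).obj F, ⊤) :=
    Module.compHom _ (U.ι.appLE U ⊤ h).hom
  haveI : IsScalarTower Γ(S, U) Γ(U.toScheme, ⊤) Γ((Scheme.Modules.pullback U.ι).obj F, ⊤) :=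
    IsScalarTower.of_algebraMap_smul fun _ _ => rfl
  have hbc : IsBaseChange Γ(U.toScheme, ⊤) (PBH8.cUVLin U.ι F h) :=
    PBH8.isBaseChange_cUV U.ι F h (isAffineOpen_top _) hU
  have hb : Function.Bijective (algebraMap Γ(S, U) Γ(U.toScheme, ⊤)) := by
    haveI : IsIso (U.ι.appLE U ⊤ h) :=
      inferInstanceAs (IsIso (U.ι.appLE U ⊤ U.ι_preimage_self.ge))
    exact ConcreteCategory.bijective_of_isIso (U.ι.appLE U ⊤ h)
  exact bijective_of_isBaseChange (PBH8.cUVLin U.ι F h) hbc hb

section Zar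

open Groth.Agent.Lib.ULiftShH8

variable {F} {G : EtCoh.Ab S} [EtZar.ZarCont S]
  (e : ∀ U : S.Etale, (G.obj.obj (op U) : Type (u + 1)) ≃+ ULift.{u + 1} (EtAssoc.obj F U))
  (he : ∀ (U U' : S.Etale) (g : U' ⟶ U) (s : G.obj.obj (op U)),
    (e U' (G.obj.map g.op s)).down = EtAssoc.resMap F g (e U s).down)

/-- the comparison on sections -/
noncomputable def αApp (U : S.Opens) :
    (((L S.carrier).obj (Coh.toAb F)).obj.obj (op U) : Type (u + 1)) →+
      (((EtZar.resZar S).obj G).obj.obj (op U) : Type (u + 1)) :=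
  AddMonoidHom.mk' (fun s => (e ((EtZar.zarToEt S).obj U)).symm ⟨τ F U s.down⟩) (by
    intro a b
    have h1 : (⟨τ F U (a + b).down⟩ :
        ULift.{u + 1} (EtAssoc.obj F ((EtZar.zarToEt S).obj U))) =
        ⟨τ F U a.down⟩ + ⟨τ F U b.down⟩ := by
      apply ULift.ext
      exact τ_add F U a.down b.down
    show (e _).symm _ = _
    rw [h1, map_add]
    rfl)

omit [F.IsQuasicoherent] in
lemma αApp_apply (U : S.Opens) (s : ((L S.carrier).obj (Coh.toAb F)).obj.obj (op U)) :
    (e ((EtZar.zarToEt S).obj U) (αApp e U s)).down = τ F U s.down := by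
  show (e _ ((e _).symm _)).down = _
  rw [AddEquiv.apply_symm_apply]

include he in
omit [F.IsQuasicoherent] in
lemma αApp_nat {U V : S.Opens} (h : V ≤ U)
    (s : ((L S.carrier).obj (Coh.toAb F)).obj.obj (op U)) :
    αApp e V (((L S.carrier).obj (Coh.toAb F)).obj.map (homOfLE h).op s) =
      ((EtZar.resZar S).obj G).obj.map (homOfLE h).op (αApp e U s) := by
  apply (e ((EtZar.zarToEt S).obj V)).injective
  apply ULift.ext
  rw [αApp_apply]
  have h2 := he _ _ ((EtZar.zarToEt S).map (homOfLE h)) (αApp e U s)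
  refine Eq.trans ?_ h2.symm
  rw [αApp_apply, τ_res]
  rfl

include he in
omit [F.IsQuasicoherent] in
/-- the comparison morphism of Zariski sheaves -/
lemma exists_α : ∃ α : (L S.carrier).obj (Coh.toAb F) ⟶ (EtZar.resZar S).obj G,
    ∀ (U : S.Opens) (s : ((L S.carrier).obj (Coh.toAb F)).obj.obj (op U)),
      α.hom.app (op U) s = αApp e U s := by
  refine ⟨⟨{ app := fun U => AddCommGrpCat.ofHom (αApp e U.unop)
             naturality := ?_ }⟩, fun U s => rfl⟩
  intro U V f
  ext s
  exact αApp_nat e he f.unop.le s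

include he in
theorem nonempty_iso_resZar : Nonempty ((L S.carrier).obj (Coh.toAb F) ≅ (EtZar.resZar S).obj G) := by
  obtain ⟨α, hα⟩ := exists_α e he
  have hbij : ∀ (V : S.Opens), IsAffineOpen V → Function.Bijective (α.hom.app (op V)) := by
    intro V hV
    have h1 : (α.hom.app (op V) : _ → _) = fun s => αApp e V s := funext (hα V)
    rw [h1]
    have h2 : (fun s => αApp e V s) = (e ((EtZar.zarToEt S).obj V)).symm ∘
        (AddEquiv.ulift (α := EtAssoc.obj F ((EtZar.zarToEt S).obj V))).symm ∘ (τ F V) ∘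
        (AddEquiv.ulift (α := Γ(F, V))) := rfl
    rw [h2]
    exact (e _).symm.bijective.comp (AddEquiv.ulift.symm.bijective.comp
      ((τ_bijective F V hV).comp AddEquiv.ulift.bijective))
  haveI : Sheaf.IsLocallySurjective α := by
    refine ⟨fun {U} c => ?_⟩
    intro x hx
    obtain ⟨_, ⟨V, hV, rfl⟩, hxV, hVU⟩ :=
      S.isBasis_affineOpens.exists_subset_of_mem_open hx U.2
    have hVU' : V ≤ U := hVU
    obtain ⟨b, hb⟩ := (hbij V hV).2 (((EtZar.resZar S).obj G).obj.map (homOfLE hVU').op c)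
    exact ⟨V, homOfLE hVU', ⟨b, hb⟩, hxV⟩
  haveI : Sheaf.IsLocallyInjective α := by
    refine ⟨fun {U} a b hab => ?_⟩
    intro x hx
    obtain ⟨_, ⟨V, hV, rfl⟩, hxV, hVU⟩ :=
      S.isBasis_affineOpens.exists_subset_of_mem_open hx U.unop.2
    have hVU' : V ≤ U.unop := hVU
    refine ⟨V, homOfLE hVU', ?_, hxV⟩
    apply (hbij V hV).1
    have n1 := NatTrans.naturality_apply α.hom (homOfLE hVU').op a
    have n2 := NatTrans.naturality_apply α.hom (homOfLE hVU').op b
    exact n1.trans ((congrArg _ hab).trans n2.symm)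
  haveI : IsIso α := (Sheaf.isLocallyBijective_iff_isIso α).1 ⟨inferInstance, inferInstance⟩
  exact ⟨asIso α⟩

end Zar

end Groth.Agent.Lib.QCohEtH8
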