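import Mathlib
import Groth.Prelude.Def_EtAssoc2
import Groth.Prelude.Def_EtZar
import Groth.Agent.Lib.QCohEt4_helper8
import Groth.Agent.Lib.QCohEt5_helper8
import Groth.Agent.Lib.ZarIso_helper8
import Groth.Agent.Lib.GaZar_helper8

/-!
# Étale cohomology of the étale sheaf of a quasi-coherent module is Zariski cohomology (helper8)
APPEND-ONLY once landed.
-/

set_option autoImplicit false
universe u
open CategoryTheory CategoryTheory.Limits AlgebraicGeometry Opposite TopologicalSpace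

namespace Groth.Agent.Lib.QCohEtH8

open Groth.Agent.Lib.ULiftShH8

theorem et_iso_zar_qcoh {S : Scheme.{u}} (F : S.Modules) [F.IsQuasicoherent] (G : EtCoh.Ab S)
    (hG : EtAssoc.IsAssoc F G) (q : ℕ) :
    Nonempty (EtCoh.H S G q ≃+ ULift.{u + 1} (Coh.HH S F q)) := by
  haveI : EtZar.ZarCont S := Groth.Agent.Lib.ZarContH8.zarCont S
  have hA := affAcy_of_isAssoc F G hG
  obtain ⟨e, he⟩ := hG
  obtain ⟨e1⟩ := Groth.Agent.Lib.ZarIsoH8.et_iso_zar S G hA q
  obtain ⟨e2⟩ := iso_L S.carrier (Coh.toAb F) q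
  obtain ⟨i⟩ := nonempty_iso_resZar e he
  let e3 := ((Sheaf.functorH (Opens.grothendieckTopology S) q).mapIso
    i).addCommGroupIsoToAddEquiv
  exact ⟨e1.trans (e3.symm.trans (e2.symm.trans AddEquiv.ulift.symm))⟩

end Groth.Agent.Lib.QCohEtH8
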