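import Mathlib
import Groth.Agent.Lib.QCohLoc_helper4
import Groth.Prelude.Def_Coh

/-!
# Global sections of quasi-coherent modules on quasi-compact schemes killed on `X_f` (helper1)
-/

set_option autoImplicit false
universe u

namespace Groth.Agent.Lib.QCohGlobalH1

open AlgebraicGeometry CategoryTheory TopologicalSpace Opposite
open Groth.Agent.Lib.QCohLoc_helper4

theorem exists_pow_smul_eq_zero_global (X : Scheme.{u}) [CompactSpace X] (f : Γ(X, ⊤))
    (F : X.Modules) [F.IsQuasicoherent] (s : Γ(F, ⊤))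
    (hs : F.presheaf.map (homOfLE (le_top : X.basicOpen f ≤ ⊤)).op s = 0) :
    ∃ n : ℕ, f ^ n • s = 0 := by
  have hc : IsCompact (X := X) ((⊤ : X.Opens) : Set X) := by simpa using isCompact_univ
  obtain ⟨S, hS, hcov⟩ := isCompact_iff_finite_and_eq_biUnion_affineOpens.mp hc
  have hle' : ∀ W : S, (W.1 : X.Opens) ≤ ⊤ := fun W => le_top
  have hcov' : (⊤ : X.Opens) ≤ ⨆ W : S, (W.1 : X.Opens) := by
    intro x hx
    have hx' : x ∈ (⨆ i ∈ S, (i : X.Opens) : X.Opens) := by rw [← hcov]; exact hx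
    simp only [Opens.mem_iSup] at hx' ⊢
    obtain ⟨W, hW, hxW⟩ := hx'
    exact ⟨⟨W, hW⟩, hxW⟩
  have key : ∀ W : S, ∃ n : ℕ, (X.presheaf.map (homOfLE (hle' W)).op).hom f ^ n •
      F.presheaf.map (homOfLE (hle' W)).op s = 0 := by
    intro W
    have hloc := locOn_of_isQuasicoherent F W.1.2
    apply hloc.ker
    have hbo : X.basicOpen ((X.presheaf.map (homOfLE (hle' W)).op).hom f) ≤ X.basicOpen f :=
      (Scheme.basicOpen_res _ f (homOfLE (hle' W)).op).le.trans inf_le_right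
    have h1 := congrArg (F.presheaf.map (homOfLE hbo).op) hs
    rw [map_zero] at h1
    exact (map_map_eq F _ _ (homOfLE ((X.basicOpen_le _).trans (hle' W))).op s).trans
      ((map_map_eq F _ _ _ s).symm.trans h1)
  choose nfun hn using key
  have : Finite S := hS.to_subtype
  haveI : Fintype S := Fintype.ofFinite S
  refine ⟨Finset.univ.sup nfun, ?_⟩
  refine TopCat.Sheaf.eq_of_locally_eq' ⟨F.presheaf, F.isSheaf⟩
    (fun W : S => (W.1 : X.Opens)) ⊤ (fun W => homOfLE (hle' W)) hcov' _ 0 ?_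
  intro W
  rw [map_zero]
  have h1 : F.presheaf.map (homOfLE (hle' W)).op (f ^ (Finset.univ.sup nfun) • s) =
      (X.presheaf.map (homOfLE (hle' W)).op).hom (f ^ (Finset.univ.sup nfun)) •
        F.presheaf.map (homOfLE (hle' W)).op s :=
    Scheme.Modules.map_smul F (homOfLE (hle' W)) _ s
  have hle2 : nfun W ≤ Finset.univ.sup nfun := Finset.le_sup (Finset.mem_univ W)
  refine h1.trans ?_
  rw [map_pow, ← Nat.sub_add_cancel hle2, pow_add, mul_smul, hn W, smul_zero]

theorem S4340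
    (X : Scheme.{u}) [CompactSpace X] (f : Γ(X, ⊤)) (F : X.Modules) [Coh.IsQCoh F]
    (s : F.val.obj (op ⊤))
    (hs : (F.val.map (homOfLE (le_top : X.basicOpen f ≤ ⊤)).op).hom s = 0) :
    ∃ n : ℕ, 0 < n ∧ (show X.ringCatSheaf.obj.obj (op ⊤) from f) ^ n • s = 0 := by
  haveI : F.IsQuasicoherent := ‹Coh.IsQCoh F›
  obtain ⟨n, hn⟩ := exists_pow_smul_eq_zero_global X f F s hs
  refine ⟨n + 1, Nat.succ_pos _, ?_⟩
  have hn' : (show X.ringCatSheaf.obj.obj (op ⊤) from f) ^ n • s = 0 := hn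
  rw [pow_succ', mul_smul, hn', smul_zero]

end Groth.Agent.Lib.QCohGlobalH1
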