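import Mathlib
import Groth.Prelude
import Groth.Agent.Lib.QcqsLoc_helper9
import Groth.Agent.Lib.RGammaZ_lead
import Groth.Agent.Lib.MVPush5_lead

/-!
# `QCoh(U)` is the localization of `QCoh(X)` at maps that are isomorphisms over `U` (lead; S17647)

APPEND-ONLY once landed.
-/

set_option autoImplicit false
set_option linter.all false
set_option maxHeartbeats 1600000
set_option backward.isDefEq.respectTransparency false
set_option backward.isDefEq.respectTransparency.types false
set_option backward.defeqAttrib.useBackward true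

universe u
open CategoryTheory CategoryTheory.Limits AlgebraicGeometry Opposite TopologicalSpace

namespace Groth.Agent.Lib.QCohLocL

open Groth.Agent.Lib Groth.Agent.Lib.MVPushL Groth.Agent.Lib.RGammaZL

noncomputable section

/-- a map of modules restricts to an isomorphism over `U` iff its kernel and cokernel are
supported off `U` -/
theorem isIso_restrict_map_iff {X : Scheme.{u}} (U : X.Opens) {M N : X.Modules} (g : M ⟶ N) :
    IsIso ((Scheme.Modules.restrictFunctor U.ι).map g) ↔
      CohB1.support (kernel g) ⊆ (↑U : Set X)ᶜ ∧ CohB1.support (cokernel g) ⊆ (↑U : Set X)ᶜ := by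
  constructor
  · intro h
    haveI := h
    constructor
    · apply support_subset_compl_of_isZero_restrict
      exact IsZero.of_iso (isZero_kernel_of_mono ((Scheme.Modules.restrictFunctor U.ι).map g))
        (PreservesKernel.iso (Scheme.Modules.restrictFunctor U.ι) g)
    · apply support_subset_compl_of_isZero_restrict
      exact IsZero.of_iso (isZero_cokernel_of_epi ((Scheme.Modules.restrictFunctor U.ι).map g))
        (PreservesCokernel.iso (Scheme.Modules.restrictFunctor U.ι) g)
  · rintro ⟨hk, hc⟩
    have zk : IsZero ((Scheme.Modules.restrictFunctor U.ι).obj (kernel g)) :=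
      isZero_restrict_of_support U _ (fun x hx hxs => hk hxs hx)
    have zc : IsZero ((Scheme.Modules.restrictFunctor U.ι).obj (cokernel g)) :=
      isZero_restrict_of_support U _ (fun x hx hxs => hc hxs hx)
    haveI : Mono ((Scheme.Modules.restrictFunctor U.ι).map g) :=
      Preadditive.mono_of_isZero_kernel _
        (zk.of_iso (PreservesKernel.iso (Scheme.Modules.restrictFunctor U.ι) g).symm)
    haveI : Epi ((Scheme.Modules.restrictFunctor U.ι).map g) :=
      Preadditive.epi_of_isZero_cokernel _
        (zc.of_iso (PreservesCokernel.iso (Scheme.Modules.restrictFunctor U.ι) g).symm)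
    exact isIso_of_mono_of_epi _

section Loc

variable (X : Scheme.{u}) (U : X.Opens) [QuasiCompact U.ι]

/-- restriction on quasi-coherent modules -/
abbrev Lq : QCohCat.QCoh X ⥤ QCohCat.QCoh (↑U : Scheme.{u}) :=
  ObjectProperty.lift (QCohCat.isQCoh (↑U : Scheme.{u}))
    (ObjectProperty.ι (QCohCat.isQCoh X) ⋙ Scheme.Modules.restrictFunctor U.ι)
    (fun M => @Scheme.Modules.isQuasicoherent_restrictFunctor (↑U : Scheme.{u}) X U.ι
      inferInstance M.obj M.property)

theorem isQCoh_push (N : QCohCat.QCoh (↑U : Scheme.{u})) :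
    QCohCat.isQCoh X ((Scheme.Modules.pushforward U.ι).obj N.obj) := by
  haveI : N.obj.IsQuasicoherent := N.property
  exact QcqsLoc.isQuasicoherent_pushforward_qcqs U.ι N.obj

/-- direct image on quasi-coherent modules -/
abbrev Rq : QCohCat.QCoh (↑U : Scheme.{u}) ⥤ QCohCat.QCoh X :=
  ObjectProperty.lift (QCohCat.isQCoh X)
    (ObjectProperty.ι (QCohCat.isQCoh (↑U : Scheme.{u})) ⋙ Scheme.Modules.pushforward U.ι)
    (fun N => isQCoh_push X U N)

/-- the adjunction between restriction and direct image on quasi-coherent modules -/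
def adjq : Lq X U ⊣ Rq X U :=
  (Scheme.Modules.restrictAdjunction U.ι).restrictFullyFaithful
    (ObjectProperty.fullyFaithfulι _) (ObjectProperty.fullyFaithfulι _) (Iso.refl _) (Iso.refl _)

instance : (Rq X U).Full := inferInstance
instance : (Rq X U).Faithful := inferInstance

/-- **S17647** -/
theorem main17647 :
    (Lq X U).IsLocalization
      (fun (A B : QCohCat.QCoh X) (f : A ⟶ B) =>
        CohB1.support (kernel f.hom) ⊆ (↑U : Set X)ᶜ ∧
          CohB1.support (cokernel f.hom) ⊆ (↑U : Set X)ᶜ) := by
  have h := (adjq X U).isLocalization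
  have hW : ((fun (A B : QCohCat.QCoh X) (f : A ⟶ B) =>
        CohB1.support (kernel f.hom) ⊆ (↑U : Set X)ᶜ ∧
          CohB1.support (cokernel f.hom) ⊆ (↑U : Set X)ᶜ) :
        MorphismProperty (QCohCat.QCoh X)) =
      (MorphismProperty.isomorphisms _).inverseImage (Lq X U) := by
    apply MorphismProperty.ext
    intro A B f
    show (CohB1.support (kernel f.hom) ⊆ (↑U : Set X)ᶜ ∧
      CohB1.support (cokernel f.hom) ⊆ (↑U : Set X)ᶜ) ↔ IsIso ((Lq X U).map f)
    rw [← isIso_restrict_map_iff U f.hom]
    constructor
    · intro hiso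
      haveI : IsIso ((ObjectProperty.ι (QCohCat.isQCoh (↑U : Scheme.{u}))).map
          ((Lq X U).map f)) := hiso
      exact isIso_of_fully_faithful (ObjectProperty.ι (QCohCat.isQCoh (↑U : Scheme.{u}))) _
    · intro hiso
      haveI := hiso
      exact inferInstanceAs (IsIso ((ObjectProperty.ι (QCohCat.isQCoh (↑U : Scheme.{u}))).map
        ((Lq X U).map f)))
  rw [hW]
  exact h

end Loc

end

end Groth.Agent.Lib.QCohLocL
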