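import Mathlib
import Groth.Agent.Lib.LocImm14_helper6
import Groth.Agent.Lib.LocImm10_helper6

/-!
# Gluing two separated schemes along mutual quasi-dominations (helper6)
-/

set_option autoImplicit false
set_option linter.all false
set_option backward.isDefEq.respectTransparency false
universe u
open TopologicalSpace CategoryTheory CategoryTheory.Limits AlgebraicGeometry

namespace Groth.Agent.Lib.QDom1_helper6

open Groth.Agent.Lib.LocImm12_helper6 Groth.Agent.Lib.LocImm13_helper6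
  Groth.Agent.Lib.LocImm14_helper6

theorem isPullback_id_of_mono {U W X : Scheme.{u}} (k : U ⟶ W) (i : W ⟶ X) [Mono i] :
    IsPullback (𝟙 U) k (k ≫ i) i := by
  refine ⟨⟨by simp⟩, ⟨PullbackCone.IsLimit.mk _ (fun s => s.fst) (fun s => by simp)
    (fun s => ?_) (fun s m h₁ h₂ => by simpa using h₁)⟩⟩
  rw [← cancel_mono i, Category.assoc, s.condition]

/-- cancel an open immersion on the right of a scheme-theoretically dominant morphism -/
theorem std_of_comp_openImmersion {U W X : Scheme.{u}} (k : U ⟶ W) (i : W ⟶ X) [IsOpenImmersion i]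
    [QuasiCompact (k ≫ i)] [IsSchemeTheoreticallyDominant (k ≫ i)] :
    IsSchemeTheoreticallyDominant k :=
  IsSchemeTheoreticallyDominant.of_isPullback (isPullback_id_of_mono k i)

/-- a graph-type morphism with closed range is a closed immersion -/
theorem isClosedImmersion_lift {X₁ X₂ S W : Scheme.{u}} (p₁ : X₁ ⟶ S) (p₂ : X₂ ⟶ S)
    (a : W ⟶ X₁) (φ : W ⟶ X₂) [IsOpenImmersion a] (h : a ≫ p₁ = φ ≫ p₂)
    (hc : IsClosed (Set.range (pullback.lift a φ h : W ⟶ pullback p₁ p₂))) :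
    IsClosedImmersion (pullback.lift a φ h : W ⟶ pullback p₁ p₂) := by
  haveI : IsImmersion ((pullback.lift a φ h : W ⟶ pullback p₁ p₂) ≫ pullback.fst p₁ p₂) := by
    rw [pullback.lift_fst]; infer_instance
  haveI : IsImmersion (pullback.lift a φ h : W ⟶ pullback p₁ p₂) :=
    IsImmersion.of_comp _ (pullback.fst p₁ p₂)
  exact IsClosedImmersion.of_isPreimmersion _ hc

/-- two closed subschemes which are both the scheme-theoretic closure of the same `U` agree -/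
theorem exists_iso_of_std {U W₁ W₂ P : Scheme.{u}} (g₁ : W₁ ⟶ P) (g₂ : W₂ ⟶ P)
    [IsClosedImmersion g₁] [IsClosedImmersion g₂] (k₁ : U ⟶ W₁) (k₂ : U ⟶ W₂)
    [IsSchemeTheoreticallyDominant k₁] [IsSchemeTheoreticallyDominant k₂]
    (h : k₁ ≫ g₁ = k₂ ≫ g₂) : ∃ e : W₁ ≅ W₂, e.hom ≫ g₂ = g₁ := by
  have e₁ : (k₁ ≫ g₁).ker = g₁.ker := by
    rw [Scheme.Hom.ker_comp, k₁.ker_eq_bot, Scheme.IdealSheafData.map_bot]
  have e₂ : (k₂ ≫ g₂).ker = g₂.ker := by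
    rw [Scheme.Hom.ker_comp, k₂.ker_eq_bot, Scheme.IdealSheafData.map_bot]
  have hk : g₂.ker = g₁.ker := by rw [← e₁, ← e₂, h]
  haveI := IsClosedImmersion.isIso_lift g₂ g₁ hk
  exact ⟨asIso (IsClosedImmersion.lift g₂ g₁ hk.le), IsClosedImmersion.lift_fac _ _ _⟩

/-- scheme-theoretic dominance can be checked on a cover by two opens -/
theorem std_of_two {A B Y U : Scheme.{u}} (i₁ : A ⟶ Y) (i₂ : B ⟶ Y) [IsOpenImmersion i₁]
    [IsOpenImmersion i₂] (hcov : ∀ y : Y, y ∈ Set.range i₁ ∨ y ∈ Set.range i₂)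
    (j₁ : U ⟶ A) (j₂ : U ⟶ B) [QuasiCompact j₁] [QuasiCompact j₂] [QuasiCompact i₁]
    [QuasiCompact i₂]
    [IsSchemeTheoreticallyDominant j₁] [IsSchemeTheoreticallyDominant j₂]
    (h : j₁ ≫ i₁ = j₂ ≫ i₂) : IsSchemeTheoreticallyDominant (j₁ ≫ i₁) := by
  haveI : QuasiCompact (j₁ ≫ i₁) := inferInstance
  rw [isSchemeTheoreticallyDominant_iff]
  let ι := {V : Y.affineOpens // V.1 ≤ i₁.opensRange ∨ V.1 ≤ i₂.opensRange}
  refine Scheme.IdealSheafData.ext_of_iSup_eq_top (fun V : ι => V.1) ?_ ?_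
  · apply top_unique
    intro y _
    rcases hcov y with hy | hy
    · obtain ⟨_, ⟨V, hV, rfl⟩, hyV, hVU⟩ :=
        Y.isBasis_affineOpens.exists_subset_of_mem_open (show y ∈ (i₁.opensRange : Set Y) from hy)
          i₁.opensRange.isOpen
      exact Opens.mem_iSup.mpr ⟨⟨⟨V, hV⟩, Or.inl hVU⟩, hyV⟩
    · obtain ⟨_, ⟨V, hV, rfl⟩, hyV, hVU⟩ :=
        Y.isBasis_affineOpens.exists_subset_of_mem_open (show y ∈ (i₂.opensRange : Set Y) from hy)
          i₂.opensRange.isOpen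
      exact Opens.mem_iSup.mpr ⟨⟨⟨V, hV⟩, Or.inr hVU⟩, hyV⟩
  · rintro ⟨V, hV | hV⟩
    · simp only [Scheme.Hom.ker_apply, Scheme.IdealSheafData.ideal_bot, Pi.bot_apply]
      rw [← RingHom.injective_iff_ker_eq_bot, Scheme.Hom.comp_app]
      haveI := i₁.isIso_app V.1 hV
      exact (j₁.app_injective _).comp (ConcreteCategory.bijective_of_isIso (i₁.app V.1)).1
    · haveI : QuasiCompact (j₂ ≫ i₂) := inferInstance
      simp only [h, Scheme.Hom.ker_apply, Scheme.IdealSheafData.ideal_bot, Pi.bot_apply]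
      rw [← RingHom.injective_iff_ker_eq_bot, Scheme.Hom.comp_app]
      haveI := i₂.isIso_app V.1 hV
      exact (j₂.app_injective _).comp (ConcreteCategory.bijective_of_isIso (i₂.app V.1)).1

theorem main17890 {S X₁ X₂ U : Scheme.{u}} [IsNoetherian S]
    (p₁ : X₁ ⟶ S) (p₂ : X₂ ⟶ S) [IsSeparated p₁] [QuasiCompact p₁] [LocallyOfFiniteType p₁]
    [IsSeparated p₂] [QuasiCompact p₂] [LocallyOfFiniteType p₂]
    (j₁ : U ⟶ X₁) (j₂ : U ⟶ X₂) [IsOpenImmersion j₁] [IsOpenImmersion j₂]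
    [IsSchemeTheoreticallyDominant j₁] [IsSchemeTheoreticallyDominant j₂] (hj : j₁ ≫ p₁ = j₂ ≫ p₂)
    (W₁ : X₁.Opens) [IsSchemeTheoreticallyDominant W₁.ι] (φ : (↑W₁ : Scheme.{u}) ⟶ X₂)
    (hφ : W₁.ι ≫ p₁ = φ ≫ p₂)
    (hφc : IsClosed (Set.range (fun w => (Limits.pullback.lift W₁.ι φ hφ) w)))
    (k₁ : U ⟶ ↑W₁) (hk₁ : k₁ ≫ W₁.ι = j₁) (hk₁' : k₁ ≫ φ = j₂)
    (W₂ : X₂.Opens) [IsSchemeTheoreticallyDominant W₂.ι] (ψ : (↑W₂ : Scheme.{u}) ⟶ X₁)
    (hψ : W₂.ι ≫ p₂ = ψ ≫ p₁)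
    (hψc : IsClosed (Set.range (fun w => (Limits.pullback.lift W₂.ι ψ hψ) w)))
    (k₂ : U ⟶ ↑W₂) (hk₂ : k₂ ≫ W₂.ι = j₂) (hk₂' : k₂ ≫ ψ = j₁) :
    ∃ (Y : Scheme.{u}) (q : Y ⟶ S) (i₁ : X₁ ⟶ Y) (i₂ : X₂ ⟶ Y), IsSeparated q ∧ QuasiCompact q ∧
      LocallyOfFiniteType q ∧ IsOpenImmersion i₁ ∧ IsOpenImmersion i₂ ∧ i₁ ≫ q = p₁ ∧ i₂ ≫ q = p₂ ∧
      j₁ ≫ i₁ = j₂ ≫ i₂ ∧ QuasiCompact (j₁ ≫ i₁) ∧ IsSchemeTheoreticallyDominant (j₁ ≫ i₁) := by
  haveI : IsNoetherian X₁ := LocImm10_helper6.isNoetherian_of_lft_qc p₁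
  haveI : IsNoetherian X₂ := LocImm10_helper6.isNoetherian_of_lft_qc p₂
  haveI : QuasiCompact (k₁ ≫ W₁.ι) := by rw [hk₁]; infer_instance
  haveI : IsSchemeTheoreticallyDominant (k₁ ≫ W₁.ι) := by rw [hk₁]; infer_instance
  haveI hk₁s : IsSchemeTheoreticallyDominant k₁ := std_of_comp_openImmersion k₁ W₁.ι
  haveI : QuasiCompact (k₂ ≫ W₂.ι) := by rw [hk₂]; infer_instance
  haveI : IsSchemeTheoreticallyDominant (k₂ ≫ W₂.ι) := by rw [hk₂]; infer_instance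
  haveI hk₂s : IsSchemeTheoreticallyDominant k₂ := std_of_comp_openImmersion k₂ W₂.ι
  let g₁ : (W₁ : Scheme.{u}) ⟶ pullback p₁ p₂ := pullback.lift W₁.ι φ hφ
  haveI : IsClosedImmersion g₁ := isClosedImmersion_lift p₁ p₂ W₁.ι φ hφ hφc
  let g₂' : (W₂ : Scheme.{u}) ⟶ pullback p₂ p₁ := pullback.lift W₂.ι ψ hψ
  haveI : IsClosedImmersion g₂' := isClosedImmersion_lift p₂ p₁ W₂.ι ψ hψ hψc
  let g₂ : (W₂ : Scheme.{u}) ⟶ pullback p₁ p₂ := g₂' ≫ (pullbackSymmetry p₂ p₁).hom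
  have hg₂fst : g₂ ≫ pullback.fst p₁ p₂ = ψ := by
    simp only [g₂, g₂', Category.assoc, pullbackSymmetry_hom_comp_fst, pullback.lift_snd]
  have hg₂snd : g₂ ≫ pullback.snd p₁ p₂ = W₂.ι := by
    simp only [g₂, g₂', Category.assoc, pullbackSymmetry_hom_comp_snd, pullback.lift_fst]
  have hkk : k₁ ≫ g₁ = k₂ ≫ g₂ := by
    apply pullback.hom_ext
    · rw [Category.assoc, Category.assoc, hg₂fst, pullback.lift_fst, hk₁, hk₂']
    · rw [Category.assoc, Category.assoc, hg₂snd, pullback.lift_snd, hk₁', hk₂]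
  obtain ⟨e, he⟩ := exists_iso_of_std g₁ g₂ k₁ k₂ hkk
  have hφe : φ = e.hom ≫ W₂.ι := by
    rw [← hg₂snd, ← Category.assoc, he, pullback.lift_snd]
  haveI : IsOpenImmersion φ := by rw [hφe]; infer_instance
  let q : pushout W₁.ι φ ⟶ S := pushout.desc p₁ p₂ hφ
  have hq₁ : pushout.inl W₁.ι φ ≫ q = p₁ := pushout.inl_desc _ _ _
  have hq₂ : pushout.inr W₁.ι φ ≫ q = p₂ := pushout.inr_desc _ _ _
  have hcov : ∀ y : (pushout W₁.ι φ : Scheme.{u}),
      y ∈ Set.range (pushout.inl W₁.ι φ) ∨ y ∈ Set.range (pushout.inr W₁.ι φ) :=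
    fun y => inl_or_inr W₁.ι φ y
  haveI : CompactSpace (pushout W₁.ι φ : Scheme.{u}) :=
    compactSpace_of_two (pushout.inl W₁.ι φ) (pushout.inr W₁.ι φ) hcov
  haveI hlft : LocallyOfFiniteType q :=
    of_two_openImmersions (pushout.inl W₁.ι φ) (pushout.inr W₁.ι φ) @LocallyOfFiniteType hcov q
      (by rw [hq₁]; infer_instance) (by rw [hq₂]; infer_instance)
  haveI : QuasiCompact q := inferInstance
  haveI hnoe : IsNoetherian (pushout W₁.ι φ : Scheme.{u}) :=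
    LocImm10_helper6.isNoetherian_of_lft_qc q
  haveI : QuasiSeparated q := inferInstance
  haveI hsep : IsSeparated q := isSeparated_pushout_desc W₁.ι φ p₁ p₂ hφ hφc
  have hji : j₁ ≫ pushout.inl W₁.ι φ = j₂ ≫ pushout.inr W₁.ι φ := by
    rw [← hk₁, ← hk₁', Category.assoc, Category.assoc, pushout.condition]
  refine ⟨pushout W₁.ι φ, q, pushout.inl W₁.ι φ, pushout.inr W₁.ι φ, hsep, inferInstance, hlft,
    inferInstance, inferInstance, hq₁, hq₂, hji, inferInstance, ?_⟩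
  exact std_of_two (pushout.inl W₁.ι φ) (pushout.inr W₁.ι φ) hcov j₁ j₂ hji

end Groth.Agent.Lib.QDom1_helper6
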