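import Mathlib

set_option autoImplicit false
universe u

open CategoryTheory AlgebraicGeometry Limits TopologicalSpace

namespace QFH8

section

variable {X S : Scheme.{u}}

theorem isClosed_singleton_asFiber_of_isAlgebraic (f : X ⟶ S) (x : X)
    (halg : @Algebra.IsAlgebraic (S.residueField (f.base x)) (X.residueField x) _ _
      (f.residueFieldMap x).hom.toAlgebra) :
    IsClosed ({f.asFiber x} : Set ↑(f.fiber (f.base x))) := by
  haveI hint : IsIntegralHom (Spec.map (f.residueFieldMap x)) := by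
    rw [IsIntegralHom.SpecMap_iff]
    letI := (f.residueFieldMap x).hom.toAlgebra
    haveI : Algebra.IsAlgebraic (S.residueField (f.base x)) (X.residueField x) := halg
    intro a
    exact Algebra.IsIntegral.isIntegral (R := S.residueField (f.base x)) a
  rw [← closure_subset_iff_isClosed]
  intro w hw
  obtain ⟨U, hU, hwU, -⟩ := exists_isAffineOpen_mem_and_subset (X := f.fiber (f.base x)) (x := w)
    (U := ⊤) trivial
  have hzU : f.asFiber x ∈ U := by
    rw [mem_closure_iff] at hw
    obtain ⟨z', hz'U, hz'⟩ := hw U U.isOpen hwU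
    rwa [Set.mem_singleton_iff.mp hz'] at hz'U
  have hrange : Set.range (f.asFiberHom x) ⊆ Set.range U.ι := by
    rw [f.range_asFiberHom, Scheme.Opens.range_ι]
    simpa using hzU
  obtain ⟨c', hc'⟩ : ∃ c' : Spec (X.residueField x) ⟶ U.toScheme, c' ≫ U.ι = f.asFiberHom x :=
    ⟨IsOpenImmersion.lift U.ι (f.asFiberHom x) hrange, IsOpenImmersion.lift_fac _ _ _⟩
  haveI : IsAffine U.toScheme := hU
  haveI : UniversallyClosed (c' ≫ (U.ι ≫ f.fiberToSpecResidueField (f.base x))) := by
    rw [← Category.assoc, hc', f.asFiberHom_fiberToSpecResidueField]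
    infer_instance
  haveI : UniversallyClosed c' :=
    UniversallyClosed.of_comp_of_isSeparated c' (U.ι ≫ f.fiberToSpecResidueField (f.base x))
  have hcl : IsClosed (Set.range c') := c'.isClosedMap.isClosed_range
  obtain ⟨K, hK, hKeq⟩ := U.ι.isOpenEmbedding.isInducing.isClosed_iff.mp hcl
  have hzK : f.asFiber x ∈ K := by
    have h1 : f.asFiber x ∈ Set.range (f.asFiberHom x) := by
      rw [f.range_asFiberHom]; rfl
    obtain ⟨t, ht⟩ := h1
    have h2 : c' t ∈ U.ι ⁻¹' K := by rw [hKeq]; exact ⟨t, rfl⟩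
    have h3 : U.ι (c' t) = f.asFiber x := by
      rw [← ht, ← hc']; rfl
    rw [← h3]
    exact h2
  have hwK : w ∈ K := (hK.closure_subset_iff.mpr (Set.singleton_subset_iff.mpr hzK)) hw
  have h4 : (⟨w, hwU⟩ : U) ∈ U.ι ⁻¹' K := hwK
  rw [hKeq] at h4
  obtain ⟨t, ht⟩ := h4
  have h5 : w ∈ Set.range (f.asFiberHom x) := by
    refine ⟨t, ?_⟩
    rw [← hc']
    change U.ι (c' t) = w
    rw [ht]
    rfl
  rw [f.range_asFiberHom] at h5
  exact h5

theorem isClosed_singleton_of_isClosed_asFiber (f : X ⟶ S) (x : X)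
    (hz : IsClosed ({f.asFiber x} : Set ↑(f.fiber (f.base x))))
    (hs : IsClosed ({f.base x} : Set ↑S)) : IsClosed ({x} : Set ↑X) := by
  have h1 : IsClosed (f ⁻¹' {f.base x}) := hs.preimage f.continuous
  have h2 : IsClosed ((f.fiberHomeo (f.base x)) '' {f.asFiber x}) :=
    (f.fiberHomeo (f.base x)).isClosedMap _ hz
  have h3 := h1.isClosedEmbedding_subtypeVal.isClosedMap _ h2
  convert h3 using 1
  rw [Set.image_singleton, Set.image_singleton]
  congr 1
  exact (f.fiberι_asFiber x).symm

end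

end QFH8
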