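import Mathlib
import Groth.Agent.Lib.TraceEtale_lead

/-!
# Basic tools for purity over quasi-finite maps (helper7)

* `height_eq_under_of_flat` : for a flat map of Noetherian rings, a prime `Q` at which the map is
  quasi-finite has the same height as its contraction.
* `mem_unramifiedLocus_baseChange` : the unramified locus pulls back along a pushout.
* `discr_notMem_of_unramified` : for a finite free algebra, the discriminant is a unit at a prime
  `𝔭` of the base as soon as all primes over `𝔭` are unramified.
-/

set_option autoImplicit false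
set_option backward.isDefEq.respectTransparency false
set_option backward.isDefEq.respectTransparency.types false
set_option linter.style.haveILetI false
set_option linter.unusedSectionVars false

universe u
open TensorProduct

namespace Groth.Agent.Lib.QFBasic

/-- Going-down plus incomparability: flat and quasi-finite at `Q` gives `ht Q = ht (Q ∩ R)`. -/
theorem height_eq_under_of_flat (R S : Type*) [CommRing R] [CommRing S] [Algebra R S]
    [IsNoetherianRing R] [IsNoetherianRing S] [Module.Flat R S] (Q : Ideal S) [Q.IsPrime]
    [Algebra.QuasiFiniteAt R Q] : Q.height = (Q.under R).height := by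
  haveI : Q.LiesOver (Q.under R) := ⟨rfl⟩
  have h := Ideal.height_eq_height_add_of_liesOver_of_hasGoingDown (Q.under R) Q
  set I : Ideal S := (Q.under R).map (algebraMap R S) with hI
  have hIQ : I ≤ Q := by
    rw [hI, Ideal.map_le_iff_le_comap]
  have hsurj : Function.Surjective (Ideal.Quotient.mk I) := Ideal.Quotient.mk_surjective
  have hker : RingHom.ker (Ideal.Quotient.mk I) ≤ Q := by
    rw [Ideal.mk_ker]; exact hIQ
  haveI hQbar : (Q.map (Ideal.Quotient.mk I)).IsPrime :=
    Ideal.map_isPrime_of_surjective hsurj hker
  have hcomapQ : (Q.map (Ideal.Quotient.mk I)).comap (Ideal.Quotient.mk I) = Q := by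
    rw [Ideal.comap_map_of_surjective _ hsurj]
    have : Ideal.comap (Ideal.Quotient.mk I) ⊥ = I := by
      rw [← RingHom.ker_eq_comap_bot, Ideal.mk_ker]
    rw [this]
    exact sup_eq_left.mpr hIQ
  have h0 : (Q.map (Ideal.Quotient.mk I)).height = 0 := by
    have hle : (Q.map (Ideal.Quotient.mk I)).height ≤ ((0 : ℕ) : ℕ∞) := by
      rw [Ideal.height_le_iff]
      intro q₀ hq₀ hlt
      exfalso
      haveI := hq₀
      set Q₀ : Ideal S := q₀.comap (Ideal.Quotient.mk I) with hQ₀
      haveI : Q₀.IsPrime := Ideal.comap_isPrime _ _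
      have hle : Q₀ ≤ Q := by
        rw [← hcomapQ]
        exact Ideal.comap_mono hlt.le
      have hIQ₀ : I ≤ Q₀ := by
        intro x hx
        rw [hQ₀, Ideal.mem_comap]
        have : Ideal.Quotient.mk I x = 0 := Ideal.Quotient.eq_zero_iff_mem.mpr hx
        rw [this]; exact q₀.zero_mem
      have hunder : Q₀.under R = Q.under R := by
        apply le_antisymm
        · exact Ideal.comap_mono hle
        · intro x hx
          rw [Ideal.under_def, Ideal.mem_comap]
          exact hIQ₀ (Ideal.mem_map_of_mem _ hx)
      have heq : Q₀ = Q := Algebra.QuasiFiniteAt.eq_of_le_of_under_eq (R := R) hle hunder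
      have : q₀ = Q.map (Ideal.Quotient.mk I) := by
        rw [← Ideal.map_comap_of_surjective _ hsurj q₀, ← hQ₀, heq]
      exact hlt.ne this
    exact nonpos_iff_eq_zero.mp (by simpa using hle)
  rw [h, h0, add_zero]

/-- The support of a base change of a finite module lies over the support. -/
theorem comap_mem_support_of_mem_support_baseChange {A B : Type*} [CommRing A] [CommRing B]
    [Algebra A B] (M : Type*) [AddCommGroup M] [Module A M] [Module.Finite A M]
    (q : PrimeSpectrum B) (p : PrimeSpectrum A)
    (hp : p.asIdeal = q.asIdeal.comap (algebraMap A B))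
    (h : q ∈ Module.support B (B ⊗[A] M)) : p ∈ Module.support A M := by
  rw [Module.support_eq_zeroLocus, PrimeSpectrum.mem_zeroLocus]
  intro a ha
  have ha' : a ∈ Module.annihilator A M := ha
  have hann : algebraMap A B a ∈ Module.annihilator B (B ⊗[A] M) := by
    rw [Module.mem_annihilator]
    intro z
    induction z using TensorProduct.induction_on with
    | zero => simp
    | tmul b m =>
      have : a • m = 0 := (Module.mem_annihilator.mp ha') m
      rw [TensorProduct.smul_tmul', smul_eq_mul, ← Algebra.smul_def, TensorProduct.smul_tmul,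
        this, TensorProduct.tmul_zero]
    | add x y hx hy => rw [smul_add, hx, hy, add_zero]
  have := Module.annihilator_le_of_mem_support h hann
  change a ∈ p.asIdeal
  rw [hp, Ideal.mem_comap]
  exact this

/-- The unramified locus pulls back along a pushout square. -/
theorem mem_unramifiedLocus_baseChange {R R' A A' : Type u} [CommRing R] [CommRing R'] [CommRing A]
    [CommRing A'] [Algebra R R'] [Algebra R A] [Algebra R A'] [Algebra A A'] [Algebra R' A']
    [IsScalarTower R A A'] [IsScalarTower R R' A'] [Algebra.IsPushout R R' A A']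
    [Algebra.FiniteType R A] (p' : PrimeSpectrum A') (p : PrimeSpectrum A)
    (hp : p.asIdeal = p'.asIdeal.comap (algebraMap A A'))
    (h : p ∈ Algebra.unramifiedLocus R A) : p' ∈ Algebra.unramifiedLocus R' A' := by
  rw [Algebra.unramifiedLocus_eq_compl_support] at h ⊢
  intro hmem
  apply h
  rw [← (KaehlerDifferential.tensorKaehlerEquiv R R' A A').support_eq] at hmem
  exact comap_mem_support_of_mem_support_baseChange (Ω[A⁄R]) p' p hp hmem

/-- Unramifiedness at a prime passes to generizations (essentially of finite type case). -/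
theorem isUnramifiedAt_of_le {R A : Type*} [CommRing R] [CommRing A] [Algebra R A]
    [Algebra.EssFiniteType R A] (Q Q' : Ideal A) [Q.IsPrime] [Q'.IsPrime] (hle : Q ≤ Q')
    (h : Algebra.IsUnramifiedAt R Q') : Algebra.IsUnramifiedAt R Q := by
  have h1 : (⟨Q', inferInstance⟩ : PrimeSpectrum A) ∈ Algebra.unramifiedLocus R A := h
  have hsp : (⟨Q, inferInstance⟩ : PrimeSpectrum A) ⤳ ⟨Q', inferInstance⟩ :=
    (PrimeSpectrum.le_iff_specializes _ _).mp hle
  exact hsp.mem_open Algebra.isOpen_unramifiedLocus h1

section Discr

variable {A B : Type u} [CommRing A] [CommRing B] [Algebra A B]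
variable {ι : Type*} [Fintype ι] [DecidableEq ι] (b : Module.Basis ι A B)

include b in
/-- If all primes of a finite free algebra over `𝔭` are unramified, the localization at `𝔭`
is formally unramified. -/
theorem formallyUnramified_localization (𝔭 : Ideal A) [𝔭.IsPrime]
    (h : ∀ (Q : Ideal B) [Q.IsPrime], Q.under A = 𝔭 → Algebra.IsUnramifiedAt A Q) :
    Algebra.FormallyUnramified (Localization.AtPrime 𝔭)
      (Localization (Algebra.algebraMapSubmonoid B 𝔭.primeCompl)) := by
  haveI : Module.Finite A B := Module.Finite.of_basis b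
  haveI : Algebra.IsIntegral A B := Algebra.IsIntegral.of_finite A B
  rw [Algebra.formallyUnramified_iff_forall]
  intro q
  set Bp := Localization (Algebra.algebraMapSubmonoid B 𝔭.primeCompl) with hBp
  set Q : Ideal B := q.asIdeal.comap (algebraMap B Bp) with hQ
  haveI : Q.IsPrime := Ideal.comap_isPrime _ _
  -- `Q ∩ A ≤ 𝔭`
  have hQ𝔭 : Q.comap (algebraMap A B) ≤ 𝔭 := by
    intro a ha
    by_contra hna
    have hmem : algebraMap A B a ∈ Algebra.algebraMapSubmonoid B 𝔭.primeCompl :=
      ⟨a, hna, rfl⟩
    have hunit : IsUnit (algebraMap B Bp (algebraMap A B a)) :=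
      IsLocalization.map_units Bp ⟨_, hmem⟩
    have : algebraMap B Bp (algebraMap A B a) ∈ q.asIdeal := ha
    exact q.2.ne_top (Ideal.eq_top_of_isUnit_mem _ this hunit)
  obtain ⟨Q', hQQ', hQ'prime, hQ'over⟩ :=
    Ideal.exists_ideal_over_prime_of_isIntegral 𝔭 Q hQ𝔭
  haveI := hQ'prime
  have hun' : Algebra.IsUnramifiedAt A Q' := h Q' hQ'over
  have hun : Algebra.IsUnramifiedAt A Q := isUnramifiedAt_of_le Q Q' hQQ' hun'
  -- transfer to the localization
  haveI : IsLocalization.AtPrime (Localization.AtPrime q.asIdeal) Q :=
    IsLocalization.isLocalization_isLocalization_atPrime_isLocalization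
      (Algebra.algebraMapSubmonoid B 𝔭.primeCompl) (Localization.AtPrime q.asIdeal) q.asIdeal
  let e : Localization.AtPrime Q ≃ₐ[B] Localization.AtPrime q.asIdeal :=
    IsLocalization.algEquiv Q.primeCompl _ _
  haveI : Algebra.FormallyUnramified A (Localization.AtPrime Q) := hun
  haveI : Algebra.FormallyUnramified A (Localization.AtPrime q.asIdeal) :=
    Algebra.FormallyUnramified.of_equiv (e.restrictScalars A)
  exact Algebra.FormallyUnramified.of_restrictScalars A (Localization.AtPrime 𝔭)
    (Localization.AtPrime q.asIdeal)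

include b in
/-- **Discriminant criterion.** -/
theorem discr_notMem_of_unramified (𝔭 : Ideal A) [𝔭.IsPrime]
    (h : ∀ (Q : Ideal B) [Q.IsPrime], Q.under A = 𝔭 → Algebra.IsUnramifiedAt A Q) :
    Algebra.discr A b ∉ 𝔭 := by
  haveI := formallyUnramified_localization b 𝔭 h
  set Ap := Localization.AtPrime 𝔭
  set Bp := Localization (Algebra.algebraMapSubmonoid B 𝔭.primeCompl)
  let b' : Module.Basis ι Ap Bp := b.localizationLocalization Ap 𝔭.primeCompl Bp
  have hunit : IsUnit (Algebra.discr Ap b') :=
    Groth.Agent.Lib.TraceEtale.isUnit_discr_of_traceSurj b'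
      (fun φ => Groth.Agent.Lib.TraceEtale.traceSurj_of_unramified b' φ)
  have hd : Algebra.discr Ap b' = algebraMap A Ap (Algebra.discr A b) :=
    Algebra.discr_localizationLocalization A 𝔭.primeCompl Bp b
  rw [hd, IsLocalization.AtPrime.isUnit_to_map_iff Ap 𝔭] at hunit
  exact hunit

end Discr

end Groth.Agent.Lib.QFBasic
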