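import Mathlib
import Groth.Agent.Lib.PurGal6_helper5
import Groth.Agent.Lib.Serre_helper5
import Groth.Agent.Lib.Regular_helper5
import Groth.Agent.Lib.IntegralHeight_helper5

set_option backward.isDefEq.respectTransparency false
set_option backward.isDefEq.respectTransparency.types false
set_option linter.style.haveILetI false
set_option linter.unusedSectionVars false
set_option autoImplicit false

/-!
# Zariski–Nagata purity, "étale in codimension one" form (helper7)

`R` regular local, `B` a normal domain finite and injective over `R`.  If `B` is étale over `R` at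
all primes lying over primes of height `≤ 1` of `R`, then it is étale at all primes.
-/

namespace Groth.Agent.Lib.WQZN

universe u

open IsLocalRing

section

variable (R B : Type u) [CommRing R] [IsRegularLocalRing R] [CommRing B] [IsDomain B]
  [IsIntegrallyClosed B] [Algebra R B] [Module.Finite R B]

theorem step (hinj : Function.Injective (algebraMap R B))
    (p : Ideal R) [p.IsPrime] (hp : (2 : ℕ∞) ≤ p.height) (Q : Ideal B) [Q.IsPrime]
    (hQ : Q.comap (algebraMap R B) = p)
    (ih : ∀ (q : Ideal B) [q.IsPrime], q.comap (algebraMap R B) < p → Algebra.IsEtaleAt R q) :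
    Algebra.IsEtaleAt R Q := by
  haveI : IsDomain R := Groth.Agent.RegularLib.isDomain R
  let M := p.primeCompl
  let Rp := Localization.AtPrime p
  let MB := Algebra.algebraMapSubmonoid B M
  let Bp := Localization MB
  haveI : IsRegularLocalRing Rp := Groth.Agent.Serre.localization_regular R p
  have hdim : (2 : WithBot ℕ∞) ≤ ringKrullDim Rp := by
    rw [IsLocalization.AtPrime.ringKrullDim_eq_height p Rp]
    exact WithBot.coe_le_coe.mpr hp
  haveI : FaithfulSMul R B := (faithfulSMul_iff_algebraMap_injective R B).2 hinj
  have hM' : MB ≤ nonZeroDivisors B :=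
    algebraMapSubmonoid_le_nonZeroDivisors_of_faithfulSMul B p.primeCompl_le_nonZeroDivisors
  haveI : IsDomain Bp := IsLocalization.isDomain_localization hM'
  haveI : IsIntegrallyClosed Bp := isIntegrallyClosed_of_isLocalization Bp MB hM'
  haveI : Module.Finite Rp Bp := Module.Finite.of_isLocalization R B M
  have hinj' : Function.Injective (algebraMap Rp Bp) := localizationAlgebra_injective Rp Bp hinj
  have hcomapmax : (maximalIdeal Rp).comap (algebraMap R Rp) = p :=
    IsLocalization.AtPrime.under_maximalIdeal Rp p
  have het : Algebra.Etale Rp Bp := by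
    refine Groth.Agent.Lib.PurGal.purity_finite Rp Bp hdim hinj' ?_
    intro q' hq' hne
    haveI := hq'
    let q : Ideal B := q'.comap (algebraMap B Bp)
    haveI : q.IsPrime := Ideal.comap_isPrime _ _
    have hdisj : Disjoint (MB : Set B) (q : Set B) :=
      ((IsLocalization.isPrime_iff_isPrime_disjoint MB Bp q').mp hq').2
    have hle : q.comap (algebraMap R B) ≤ p := by
      intro a ha
      by_contra hap
      exact Set.disjoint_left.mp hdisj (⟨a, hap, rfl⟩ : algebraMap R B a ∈ MB) ha
    have hlt : q.comap (algebraMap R B) < p := by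
      refine lt_of_le_of_ne hle ?_
      intro hcon
      apply hne
      have h1 : (q'.comap (algebraMap Rp Bp)).comap (algebraMap R Rp) = p := by
        rw [Ideal.comap_comap, ← IsScalarTower.algebraMap_eq R Rp Bp,
          IsScalarTower.algebraMap_eq R B Bp, ← Ideal.comap_comap]
        exact hcon
      haveI : (q'.comap (algebraMap Rp Bp)).IsPrime := Ideal.comap_isPrime _ _
      have h2 := (IsLocalization.orderEmbedding M Rp).injective
        (a₁ := q'.comap (algebraMap Rp Bp)) (a₂ := maximalIdeal Rp)
      apply h2
      show (q'.comap (algebraMap Rp Bp)).comap (algebraMap R Rp) =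
        (maximalIdeal Rp).comap (algebraMap R Rp)
      rw [h1, hcomapmax]
    haveI : Algebra.IsEtaleAt R q := ih q hlt
    let e := IsLocalization.localizationLocalizationAtPrimeIsoLocalization MB q'
    haveI : Algebra.FormallyEtale R (Localization.AtPrime q') :=
      Algebra.FormallyEtale.of_equiv (e.restrictScalars R)
    exact Algebra.FormallyEtale.localization_base M
  -- now conclude at `Q`
  have hleQ : MB ≤ Q.primeCompl := by
    rintro _ ⟨a, ha, rfl⟩
    intro hmem
    apply ha
    rw [← hQ]
    exact hmem
  letI : Algebra Bp (Localization.AtPrime Q) :=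
    IsLocalization.localizationAlgebraOfSubmonoidLe Bp (Localization.AtPrime Q) _ _ hleQ
  haveI : IsScalarTower B Bp (Localization.AtPrime Q) :=
    IsLocalization.localization_isScalarTower_of_submonoid_le Bp _ _ _ hleQ
  haveI : IsLocalization (Submonoid.map (algebraMap B Bp) Q.primeCompl)
      (Localization.AtPrime Q) :=
    IsLocalization.isLocalization_of_submonoid_le Bp _ _ _ hleQ
  haveI : IsScalarTower R Bp (Localization.AtPrime Q) := by
    refine IsScalarTower.of_algebraMap_eq (fun x => ?_)
    rw [IsScalarTower.algebraMap_apply R B (Localization.AtPrime Q),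
      IsScalarTower.algebraMap_apply B Bp (Localization.AtPrime Q),
      ← IsScalarTower.algebraMap_apply R B Bp]
  haveI : Algebra.FormallyEtale Bp (Localization.AtPrime Q) :=
    Algebra.FormallyEtale.of_isLocalization (Submonoid.map (algebraMap B Bp) Q.primeCompl)
  haveI : Algebra.FormallyEtale R Rp := Algebra.FormallyEtale.of_isLocalization M
  haveI : Algebra.FormallyEtale Rp Bp := het.1
  haveI : Algebra.FormallyEtale R Bp := Algebra.FormallyEtale.comp R Rp Bp
  exact Algebra.FormallyEtale.comp R Bp (Localization.AtPrime Q)

theorem zn_aux (hinj : Function.Injective (algebraMap R B))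
    (h1 : ∀ (Q : Ideal B) [Q.IsPrime], (Q.comap (algebraMap R B)).height ≤ 1 →
      Algebra.IsEtaleAt R Q) :
    ∀ (n : ℕ) (Q : Ideal B) [Q.IsPrime], (Q.comap (algebraMap R B)).height ≤ (n : ℕ∞) →
      Algebra.IsEtaleAt R Q := by
  intro n
  induction n with
  | zero =>
    intro Q _ hQ
    exact h1 Q (hQ.trans (by norm_num))
  | succ n ih =>
    intro Q _ hQ
    by_cases hle : (Q.comap (algebraMap R B)).height ≤ (n : ℕ∞)
    · exact ih Q hle
    · have heq : (Q.comap (algebraMap R B)).height = ((n + 1 : ℕ) : ℕ∞) := by
        refine le_antisymm hQ ?_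
        have := not_le.mp hle
        exact Order.add_one_le_of_lt this
      by_cases hn : n = 0
      · subst hn
        exact h1 Q (by rw [heq]; norm_num)
      · haveI : (Q.comap (algebraMap R B)).IsPrime := Ideal.comap_isPrime _ _
        refine step R B hinj (Q.comap (algebraMap R B)) ?_ Q rfl ?_
        · rw [heq]
          have : 2 ≤ n + 1 := by omega
          exact_mod_cast this
        · intro q _ hq
          apply ih q
          haveI : (q.comap (algebraMap R B)).IsPrime := Ideal.comap_isPrime _ _
          have hlt := Ideal.height_strict_mono_of_isPrime_of_isPrime hq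
          rw [heq] at hlt
          exact Order.le_of_lt_add_one (by exact_mod_cast hlt)

/-- **Zariski–Nagata purity**: étale in codimension `≤ 1` implies étale. -/
theorem zn (hinj : Function.Injective (algebraMap R B))
    (h1 : ∀ (Q : Ideal B) [Q.IsPrime], (Q.comap (algebraMap R B)).height ≤ 1 →
      Algebra.IsEtaleAt R Q) :
    Algebra.Etale R B := by
  haveI : Algebra.FinitePresentation R B :=
    Algebra.FinitePresentation.of_finiteType.mp inferInstance
  rw [← Algebra.etaleLocus_eq_univ_iff_etale]
  ext Q
  simp only [Set.mem_univ, iff_true, Algebra.mem_etaleLocus_iff]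
  haveI : (Q.asIdeal.comap (algebraMap R B)).IsPrime := Ideal.comap_isPrime _ _
  obtain ⟨n, hn⟩ := ENat.ne_top_iff_exists.mp
    (Ideal.height_ne_top_of_isPrime (I := Q.asIdeal.comap (algebraMap R B)))
  exact zn_aux R B hinj h1 n Q.asIdeal (le_of_eq hn.symm)

end

end Groth.Agent.Lib.WQZN
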