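import Mathlib
import Groth.Agent.Lib.QFBasic_helper7
import Groth.Agent.Lib.WQZN_helper7
import Groth.Agent.Lib.EtDimCrit_helper3
import Groth.Agent.Lib.NormalLift_helper4
import Groth.Agent.S0249

/-!
# Purity criteria on a finite local model (helper7)

`A` Noetherian, `C` a finite type `A`-algebra, `P'` a prime of `C` over `P` such that `C_{P'}` is
a finite `A_P`-module.  Suppose `C` is unramified over `A` at all primes of height one contained in
`P'`.  Then `C` is unramified over `A` at `P'` provided either

* `coreA`: `C` is flat over `A` and `ht P' ≥ 1` (discriminant argument), or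
* `coreB`: `C_{P'}` is a normal domain, `A_P` is regular and `ht P' = ht P ≥ 1`
  (Zariski–Nagata purity).
-/

set_option autoImplicit false
set_option backward.isDefEq.respectTransparency false
set_option backward.isDefEq.respectTransparency.types false
set_option linter.style.haveILetI false
set_option linter.unusedSectionVars false

universe u
open TensorProduct

namespace Groth.Agent.Lib.QFCore

open Groth.Agent.Lib

variable {A C : Type u} [CommRing A] [CommRing C] [Algebra A C]
  (P : Ideal A) [P.IsPrime] (P' : Ideal C) [P'.IsPrime] [P'.LiesOver P]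

/-- Primes of the localization contract to primes below `P'`. -/
theorem under_le (Q : Ideal (Localization.AtPrime P')) [Q.IsPrime] : Q.under C ≤ P' := by
  have h1 : Q ≤ IsLocalRing.maximalIdeal (Localization.AtPrime P') :=
    IsLocalRing.le_maximalIdeal (Ideal.IsPrime.ne_top inferInstance)
  have h2 : (IsLocalRing.maximalIdeal (Localization.AtPrime P')).under C = P' :=
    Localization.AtPrime.under_maximalIdeal
  calc Q.under C ≤ (IsLocalRing.maximalIdeal (Localization.AtPrime P')).under C :=
        Ideal.comap_mono h1
    _ = P' := h2

theorem under_height (Q : Ideal (Localization.AtPrime P')) : (Q.under C).height = Q.height :=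
  IsLocalization.height_under P'.primeCompl Q

/-- Unramifiedness at a prime of the localization, from the contracted prime. -/
theorem isUnramifiedAt_localization (Q : Ideal (Localization.AtPrime P')) [Q.IsPrime]
    (h : Algebra.IsUnramifiedAt A (Q.under C)) :
    letI := Localization.AtPrime.algebraOfLiesOver P P'
    Algebra.IsUnramifiedAt (Localization.AtPrime P) Q := by
  letI := Localization.AtPrime.algebraOfLiesOver P P'
  haveI : IsLocalization.AtPrime (Localization.AtPrime Q) (Q.under C) :=
    IsLocalization.isLocalization_isLocalization_atPrime_isLocalization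
      P'.primeCompl (Localization.AtPrime Q) Q
  let e : Localization.AtPrime (Q.under C) ≃ₐ[C] Localization.AtPrime Q :=
    IsLocalization.algEquiv (Q.under C).primeCompl _ _
  haveI : Algebra.FormallyUnramified A (Localization.AtPrime (Q.under C)) := h
  haveI : Algebra.FormallyUnramified A (Localization.AtPrime Q) :=
    Algebra.FormallyUnramified.of_equiv (e.restrictScalars A)
  exact Algebra.FormallyUnramified.of_restrictScalars A (Localization.AtPrime P)
    (Localization.AtPrime Q)

section Common

variable [IsNoetherianRing A] [Algebra.FiniteType A C]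

/-- The hypothesis on height one primes transfers to the localization. -/
theorem hyp_localization
    (H : ∀ (Q : Ideal C) [Q.IsPrime], Q ≤ P' → Q.height = 1 → Algebra.IsUnramifiedAt A Q)
    (Q : Ideal (Localization.AtPrime P')) [Q.IsPrime] (hQ : Q.height = 1) :
    letI := Localization.AtPrime.algebraOfLiesOver P P'
    Algebra.IsUnramifiedAt (Localization.AtPrime P) Q := by
  apply isUnramifiedAt_localization P P' Q
  exact H (Q.under C) (under_le P' Q) (by rw [under_height P' Q]; exact hQ)

/-- Unramified at `P'` from unramifiedness of the finite local model. -/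
theorem isUnramifiedAt_of_model
    (h : letI := Localization.AtPrime.algebraOfLiesOver P P'
      Algebra.FormallyUnramified (Localization.AtPrime P) (Localization.AtPrime P')) :
    Algebra.IsUnramifiedAt A P' := by
  letI := Localization.AtPrime.algebraOfLiesOver P P'
  haveI := h
  haveI : Algebra.FormallyUnramified A (Localization.AtPrime P) :=
    Algebra.FormallyUnramified.of_isLocalization P.primeCompl
  exact Algebra.FormallyUnramified.comp A (Localization.AtPrime P) (Localization.AtPrime P')

/-- **Flat case.** -/
theorem coreA [Module.Flat A C]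
    (hfin : letI := Localization.AtPrime.algebraOfLiesOver P P'
      Module.Finite (Localization.AtPrime P) (Localization.AtPrime P'))
    (h1 : 1 ≤ P'.height)
    (H : ∀ (Q : Ideal C) [Q.IsPrime], Q ≤ P' → Q.height = 1 → Algebra.IsUnramifiedAt A Q) :
    Algebra.IsUnramifiedAt A P' := by
  letI := Localization.AtPrime.algebraOfLiesOver P P'
  apply isUnramifiedAt_of_model P P'
  haveI : Module.Finite (Localization.AtPrime P) (Localization.AtPrime P') := hfin
  haveI : IsNoetherianRing C := Algebra.FiniteType.isNoetherianRing A C
  haveI : IsNoetherianRing (Localization.AtPrime P) :=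
    IsLocalization.isNoetherianRing P.primeCompl _ inferInstance
  haveI : IsNoetherianRing (Localization.AtPrime P') :=
    IsLocalization.isNoetherianRing P'.primeCompl _ inferInstance
  haveI : Module.Flat (Localization.AtPrime P) (Localization.AtPrime P') := inferInstance
  haveI : Module.Free (Localization.AtPrime P) (Localization.AtPrime P') :=
    Module.free_of_flat_of_isLocalRing
  haveI : Algebra.IsIntegral (Localization.AtPrime P) (Localization.AtPrime P') :=
    Algebra.IsIntegral.of_finite _ _
  let b := Module.finBasis (Localization.AtPrime P) (Localization.AtPrime P')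
  have H' : ∀ (Q : Ideal (Localization.AtPrime P')) [Q.IsPrime], Q.height = 1 →
      Algebra.IsUnramifiedAt (Localization.AtPrime P) Q :=
    fun Q _ hQ => hyp_localization P P' H Q hQ
  have hunit : IsUnit (Algebra.discr (Localization.AtPrime P) b) := by
    by_contra hnu
    have hmem : Algebra.discr (Localization.AtPrime P) b ∈
        IsLocalRing.maximalIdeal (Localization.AtPrime P) :=
      (IsLocalRing.mem_maximalIdeal _).mpr hnu
    have hdimB : (1 : WithBot ℕ∞) ≤ ringKrullDim (Localization.AtPrime P') := by
      rw [IsLocalization.AtPrime.ringKrullDim_eq_height P' (Localization.AtPrime P')]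
      exact_mod_cast h1
    have hdim : (1 : WithBot ℕ∞) ≤ ringKrullDim (Localization.AtPrime P) :=
      hdimB.trans (Groth.Agent.IntegralHeight.ringKrullDim_le_of_isIntegral _ _)
    obtain ⟨𝔭, h𝔭, hd𝔭, hht⟩ := Groth.Agent.S0249.result (Localization.AtPrime P) hdim _ hmem
    haveI := h𝔭
    refine QFBasic.discr_notMem_of_unramified b 𝔭 ?_ hd𝔭
    intro Q _ hQ𝔭
    apply H' Q
    rw [QFBasic.height_eq_under_of_flat (Localization.AtPrime P) (Localization.AtPrime P') Q,
      hQ𝔭, hht]
  haveI : Algebra.Etale (Localization.AtPrime P) (Localization.AtPrime P') :=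
    TraceEtale.etale_of_isUnit_discr b hunit
  infer_instance

/-- **Normal over regular case** (Zariski–Nagata). -/
theorem coreB
    (hfin : letI := Localization.AtPrime.algebraOfLiesOver P P'
      Module.Finite (Localization.AtPrime P) (Localization.AtPrime P'))
    (hdom : IsDomain (Localization.AtPrime P'))
    (hic : IsIntegrallyClosed (Localization.AtPrime P'))
    (hreg : IsRegularLocalRing (Localization.AtPrime P))
    (hdim : P'.height = P.height)
    (h1 : 1 ≤ P'.height)
    (H : ∀ (Q : Ideal C) [Q.IsPrime], Q ≤ P' → Q.height = 1 → Algebra.IsUnramifiedAt A Q) :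
    Algebra.IsUnramifiedAt A P' := by
  letI := Localization.AtPrime.algebraOfLiesOver P P'
  apply isUnramifiedAt_of_model P P'
  haveI : Module.Finite (Localization.AtPrime P) (Localization.AtPrime P') := hfin
  haveI : IsNoetherianRing C := Algebra.FiniteType.isNoetherianRing A C
  haveI : IsNoetherianRing (Localization.AtPrime P) :=
    IsLocalization.isNoetherianRing P.primeCompl _ inferInstance
  haveI : IsNoetherianRing (Localization.AtPrime P') :=
    IsLocalization.isNoetherianRing P'.primeCompl _ inferInstance
  haveI : IsDomain (Localization.AtPrime P) := Groth.Agent.RegularLib.isDomain _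
  haveI : IsIntegrallyClosed (Localization.AtPrime P) :=
    NormalLiftH4.isIntegrallyClosed_of_isRegularLocalRing _
  haveI : Algebra.IsIntegral (Localization.AtPrime P) (Localization.AtPrime P') :=
    Algebra.IsIntegral.of_finite _ _
  have hB : ringKrullDim (Localization.AtPrime P') = P'.height :=
    IsLocalization.AtPrime.ringKrullDim_eq_height P' (Localization.AtPrime P')
  have hR : ringKrullDim (Localization.AtPrime P) = P.height :=
    IsLocalization.AtPrime.ringKrullDim_eq_height P (Localization.AtPrime P)
  -- injectivity by a dimension count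
  have hinj : Function.Injective (algebraMap (Localization.AtPrime P) (Localization.AtPrime P')) := by
    rw [injective_iff_map_eq_zero]
    intro x hx
    by_contra hx0
    let 𝔞 : Ideal (Localization.AtPrime P) :=
      RingHom.ker (algebraMap (Localization.AtPrime P) (Localization.AtPrime P'))
    letI : Algebra (Localization.AtPrime P ⧸ 𝔞) (Localization.AtPrime P') :=
      (RingHom.kerLift (algebraMap (Localization.AtPrime P) (Localization.AtPrime P'))).toAlgebra
    haveI : IsScalarTower (Localization.AtPrime P) (Localization.AtPrime P ⧸ 𝔞)
        (Localization.AtPrime P') :=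
      by
        refine ⟨fun x y z => ?_⟩
        obtain ⟨y', rfl⟩ := Ideal.Quotient.mk_surjective y
        change (algebraMap (Localization.AtPrime P) (Localization.AtPrime P')) (x * y') * z =
          algebraMap (Localization.AtPrime P) (Localization.AtPrime P') x *
            ((algebraMap (Localization.AtPrime P) (Localization.AtPrime P')) y' * z)
        rw [map_mul, mul_assoc]
    haveI : Algebra.IsIntegral (Localization.AtPrime P ⧸ 𝔞) (Localization.AtPrime P') :=
      Algebra.IsIntegral.tower_top (Localization.AtPrime P)
    have e1 : ringKrullDim (Localization.AtPrime P') = ringKrullDim (Localization.AtPrime P ⧸ 𝔞) :=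
      Groth.Agent.IntegralHeight.ringKrullDim_eq_of_isIntegral_of_injective _ _
        (RingHom.kerLift_injective _)
    have e2 : ringKrullDim (Localization.AtPrime P ⧸ 𝔞) + 1 ≤ ringKrullDim (Localization.AtPrime P) :=
      ringKrullDim_succ_le_of_surjective (Ideal.Quotient.mk 𝔞) Ideal.Quotient.mk_surjective
        (mem_nonZeroDivisors_of_ne_zero hx0) (Ideal.Quotient.eq_zero_iff_mem.mpr hx)
    rw [← e1, hB, hR, hdim] at e2
    have hfinP : P.height ≠ ⊤ := Ideal.height_ne_top_of_isPrime
    have h3 : P.height + 1 ≤ P.height := by exact_mod_cast e2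
    exact lt_irrefl _ ((ENat.add_one_le_iff hfinP).mp h3)
  have H' : ∀ (Q : Ideal (Localization.AtPrime P')) [Q.IsPrime], Q.height = 1 →
      Algebra.IsUnramifiedAt (Localization.AtPrime P) Q :=
    fun Q _ hQ => hyp_localization P P' H Q hQ
  -- height ≤ 1 primes
  have H'' : ∀ (Q : Ideal (Localization.AtPrime P')) [Q.IsPrime], Q.height ≤ 1 →
      Algebra.IsUnramifiedAt (Localization.AtPrime P) Q := by
    intro Q _ hQ
    by_cases hQ1 : Q.height = 1
    · exact H' Q hQ1
    · have hQ0 : Q.height = 0 := by
        have : Q.height < 1 := lt_of_le_of_ne hQ hQ1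
        exact Order.lt_one_iff.mp this
      have hbot : Q = ⊥ := Ideal.height_eq_zero_iff_eq_bot.mp hQ0
      have hdimB : (1 : WithBot ℕ∞) ≤ ringKrullDim (Localization.AtPrime P') := by
        rw [hB]; exact_mod_cast h1
      obtain ⟨Q₁, hQ₁, -, hht⟩ := Groth.Agent.S0249.result (Localization.AtPrime P') hdimB 0
        (Ideal.zero_mem _)
      haveI := hQ₁
      exact QFBasic.isUnramifiedAt_of_le Q Q₁ (hbot ▸ bot_le) (H' Q₁ hht)
  -- étale in codimension ≤ 1
  have h1' : ∀ (Q : Ideal (Localization.AtPrime P')) [Q.IsPrime],
      (Q.comap (algebraMap (Localization.AtPrime P) (Localization.AtPrime P'))).height ≤ 1 →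
      Algebra.IsEtaleAt (Localization.AtPrime P) Q := by
    intro Q _ hQ
    set 𝔮 : Ideal (Localization.AtPrime P) :=
      Q.comap (algebraMap (Localization.AtPrime P) (Localization.AtPrime P')) with h𝔮
    haveI : 𝔮.IsPrime := Ideal.comap_isPrime _ _
    haveI : Q.LiesOver 𝔮 := ⟨rfl⟩
    have hle : Q.height ≤ 𝔮.height :=
      Groth.Agent.IntegralHeight.height_le_height_comap_of_isIntegral (Localization.AtPrime P) Q
    haveI hun : Algebra.IsUnramifiedAt (Localization.AtPrime P) Q := H'' Q (hle.trans hQ)
    have hge : 𝔮.height ≤ Q.height := by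
      by_cases hQb : Q = ⊥
      · have : 𝔮 = ⊥ := by
          rw [h𝔮, hQb]; exact Ideal.comap_bot_of_injective _ hinj
        rw [this, Ideal.height_bot]; exact bot_le
      · have : Q.height ≠ 0 := fun h0 => hQb (Ideal.height_eq_zero_iff_eq_bot.mp h0)
        exact hQ.trans (Order.one_le_iff_ne_zero.mpr this)
    letI := Localization.AtPrime.algebraOfLiesOver 𝔮 Q
    haveI : IsLocalHom (algebraMap (Localization.AtPrime 𝔮) (Localization.AtPrime Q)) :=
      Localization.isLocalHom_localRingHom 𝔮 Q _ Ideal.LiesOver.over
    haveI : IsNoetherianRing (Localization.AtPrime 𝔮) :=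
      IsLocalization.isNoetherianRing 𝔮.primeCompl _ inferInstance
    haveI : IsDomain (Localization.AtPrime 𝔮) :=
      IsLocalization.isDomain_localization 𝔮.primeCompl_le_nonZeroDivisors
    haveI : IsIntegrallyClosed (Localization.AtPrime 𝔮) :=
      isIntegrallyClosed_of_isLocalization (Localization.AtPrime 𝔮) 𝔮.primeCompl
        𝔮.primeCompl_le_nonZeroDivisors
    haveI : Algebra.EssFiniteType (Localization.AtPrime P') (Localization.AtPrime Q) :=
      Algebra.EssFiniteType.of_isLocalization _ Q.primeCompl
    haveI : Algebra.EssFiniteType (Localization.AtPrime P) (Localization.AtPrime Q) :=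
      Algebra.EssFiniteType.comp _ (Localization.AtPrime P') _
    haveI : Algebra.EssFiniteType (Localization.AtPrime 𝔮) (Localization.AtPrime Q) :=
      Algebra.EssFiniteType.of_comp (Localization.AtPrime P) _ _
    haveI : Algebra.FormallyUnramified (Localization.AtPrime 𝔮) (Localization.AtPrime Q) :=
      inferInstance
    have hdim' : ringKrullDim (Localization.AtPrime 𝔮) ≤ ringKrullDim (Localization.AtPrime Q) := by
      rw [IsLocalization.AtPrime.ringKrullDim_eq_height 𝔮 (Localization.AtPrime 𝔮),
        IsLocalization.AtPrime.ringKrullDim_eq_height Q (Localization.AtPrime Q)]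
      exact_mod_cast hge
    haveI : Algebra.FormallyEtale (Localization.AtPrime 𝔮) (Localization.AtPrime Q) :=
      EtDimCritH3.formallyEtale_of_formallyUnramified_of_dim_le hdim'
    haveI : Algebra.FormallyEtale (Localization.AtPrime P) (Localization.AtPrime 𝔮) :=
      Algebra.FormallyEtale.of_isLocalization 𝔮.primeCompl
    exact Algebra.FormallyEtale.comp (Localization.AtPrime P) (Localization.AtPrime 𝔮)
      (Localization.AtPrime Q)
  haveI : Algebra.Etale (Localization.AtPrime P) (Localization.AtPrime P') :=
    WQZN.zn (Localization.AtPrime P) (Localization.AtPrime P') hinj h1'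
  infer_instance

end Common

end Groth.Agent.Lib.QFCore
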