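import Mathlib
import Groth.Prelude.Def_QFDual

/-! Base change of the different of a finite free algebra (S8966, S8968). -/

open TensorProduct

namespace Groth.Agent.Lib.QFDiffBC

universe u

section General

/-- A finite module whose annihilator lies in the kernel of a map to a field has nonzero
fibre over that field. -/
theorem nontrivial_tensor_of_ann_le {R : Type u} [CommRing R] {Q : Type u} [AddCommGroup Q]
    [Module R Q] [Module.Finite R Q] (K : Type u) [Field K] [Algebra R K]
    (h : Module.annihilator R Q ≤ RingHom.ker (algebraMap R K)) :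
    Nontrivial (K ⊗[R] Q) := by
  haveI hqp : (RingHom.ker (algebraMap R K)).IsPrime := RingHom.ker_isPrime _
  let p : PrimeSpectrum R := ⟨RingHom.ker (algebraMap R K), hqp⟩
  have hmem : p ∈ Module.support R Q := Module.mem_support_iff_of_finite.2 h
  have hnt : Nontrivial (p.asIdeal.ResidueField ⊗[R] Q) :=
    (Module.mem_support_iff_nontrivial_residueField_tensorProduct p).1 hmem
  let φ : p.asIdeal.ResidueField →ₐ[R] K :=
    Ideal.ResidueField.liftₐ p.asIdeal (Algebra.ofId R K)
      (fun x hx => by
        rw [RingHom.mem_ker]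
        exact (RingHom.mem_ker.1 hx))
      (fun x hx => by
        change IsUnit (algebraMap R K x)
        exact IsUnit.mk0 _ (fun h0 => hx (RingHom.mem_ker.2 h0)))
  letI : Algebra p.asIdeal.ResidueField K := φ.toRingHom.toAlgebra
  haveI : IsScalarTower R p.asIdeal.ResidueField K :=
    IsScalarTower.of_algebraMap_eq (fun x => (φ.commutes x).symm)
  let e := TensorProduct.AlgebraTensorModule.cancelBaseChange R p.asIdeal.ResidueField K K Q
  exact e.symm.toEquiv.nontrivial

end General

variable {A B A' B' : Type u} [CommRing A] [CommRing B] [CommRing A'] [CommRing B']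
  [Algebra A B] [Module.Finite A B] [Module.Free A B] [Algebra A A'] [Algebra B B']
  [Algebra A' B'] [Algebra A B'] [IsScalarTower A A' B'] [IsScalarTower A B B']
  [Module.Finite A' B'] [Module.Free A' B']

theorem trace_pushout (hB : Algebra.IsPushout A A' B B') (x : B) :
    Algebra.trace A' B' (algebraMap B B' x) = algebraMap A A' (Algebra.trace A B x) := by
  let e : A' ⊗[A] B ≃ₗ[A'] B' := hB.out.equiv
  have he : ∀ (a : A') (b : B), e (a ⊗ₜ[A] b) = a • algebraMap B B' b :=
    fun a b => hB.out.equiv_tmul a b
  have h2 : e.conj ((Algebra.lmul A B x).baseChange A') =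
      Algebra.lmul A' B' (algebraMap B B' x) := by
    apply LinearMap.ext; intro y
    obtain ⟨z, rfl⟩ := e.surjective y
    rw [LinearEquiv.conj_apply_apply, LinearEquiv.symm_apply_apply]
    induction z using TensorProduct.induction_on with
    | zero => simp
    | tmul a b =>
      rw [LinearMap.baseChange_tmul, he, he]
      simp only [Algebra.coe_lmul_eq_mul, LinearMap.mul_apply', map_mul, mul_smul_comm]
    | add z w hz hw => simp only [map_add, hz, hw]
  rw [Algebra.trace_apply, Algebra.trace_apply, ← h2, LinearMap.trace_conj',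
    LinearMap.trace_baseChange]

theorem bcFin_trace (hB : Algebra.IsPushout A A' B B') :
    QFDual.bcFin hB (Disc.Omega.trace A B) = Disc.Omega.trace A' B' := by
  apply Disc.Omega.ext
  refine hB.out.algHom_ext _ _ fun x => ?_
  change (QFDual.bcFin hB (Disc.Omega.trace A B)).toLinearMap (algebraMap B B' x) =
    Algebra.trace A' B' (algebraMap B B' x)
  rw [QFDual.bcFin_apply_algebraMap, trace_pushout hB]
  rfl

theorem mk_smul_eq (a : A) (φ : Module.Dual A B) :
    (⟨a • φ⟩ : Disc.Omega A B) = algebraMap A B a • (⟨φ⟩ : Disc.Omega A B) := by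
  apply Disc.Omega.ext; apply LinearMap.ext; intro x
  change a • φ x = φ (algebraMap A B a * x)
  rw [← Algebra.smul_def, map_smul]

/-- Lifting a `B`-linear map out of `ω_{B/A}` to an `A'`-linear map out of `ω_{B'/A'}` which is
semilinear for the `B'`-actions on the image of `ω_{B/A}`. -/
theorem exists_lift (hB : Algebra.IsPushout A A' B B') {P : Type u} [AddCommGroup P]
    [Module B' P] [Module B P] [Module A' P] [Module A P]
    [IsScalarTower B B' P] [IsScalarTower A' B' P] [IsScalarTower A A' P] [IsScalarTower A B P]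
    (g : Disc.Omega A B →ₗ[B] P) :
    ∃ G : Module.Dual A' B' →ₗ[A'] P, ∀ (c' : B') (x : Disc.Omega A B),
      G (c' • QFDual.bcFin hB x).toLinearMap = c' • g x := by
  have hd : IsBaseChange A' hB.out.toDual := hB.out.dual
  let gA : Module.Dual A B →ₗ[A] P :=
    { toFun := fun φ => g ⟨φ⟩
      map_add' := fun φ ψ => by
        have h : (⟨φ + ψ⟩ : Disc.Omega A B) = ⟨φ⟩ + ⟨ψ⟩ := rfl
        rw [h, map_add]
      map_smul' := fun a φ => by
        rw [mk_smul_eq, map_smul, algebraMap_smul B a (g ⟨φ⟩), RingHom.id_apply] }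
  refine ⟨hd.lift gA, ?_⟩
  intro c' x
  induction c' using hB.out.inductionOn with
  | zero => rw [zero_smul, zero_smul, Disc.Omega.zero_toLinearMap, map_zero]
  | tmul b =>
    change (hd.lift gA) (algebraMap B B' b • QFDual.bcFin hB x).toLinearMap =
      algebraMap B B' b • g x
    have e2 := (QFDual.bcFin hB).map_smulₛₗ b x
    rw [← e2, algebraMap_smul B' b (g x)]
    change (hd.lift gA) (hB.out.toDual (b • x).toLinearMap) = b • g x
    rw [hd.lift_eq]
    change g (b • x) = b • g x
    rw [map_smul]
  | smul a' c' ih =>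
    have h : ((a' • c') • QFDual.bcFin hB x).toLinearMap =
        a' • (c' • QFDual.bcFin hB x).toLinearMap := by
      apply LinearMap.ext; intro y
      rw [LinearMap.smul_apply, Disc.Omega.smul_toLinearMap_apply,
        Disc.Omega.smul_toLinearMap_apply, smul_mul_assoc, map_smul]
    rw [h, map_smul, ih, smul_assoc]
  | add c₁ c₂ h₁ h₂ =>
    rw [add_smul, add_smul, ← h₁, ← h₂]
    exact map_add _ _ _

theorem map_le (hB : Algebra.IsPushout A A' B B') :
    Ideal.map (algebraMap B B') (QFDual.different B (Disc.Omega.trace A B)) ≤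
      QFDual.different B' (Disc.Omega.trace A' B') := by
  rw [Ideal.map_le_iff_le_comap]
  intro b hb
  rw [Ideal.mem_comap, QFDual.mem_different_iff]
  rw [QFDual.mem_different_iff] at hb
  intro m'
  have hd : IsBaseChange A' hB.out.toDual := hB.out.dual
  suffices H : ∀ ψ : Module.Dual A' B', ∃ c' : B', c' • Disc.Omega.trace A' B' =
      algebraMap B B' b • (⟨ψ⟩ : Disc.Omega A' B') from H m'.toLinearMap
  intro ψ
  induction ψ using hd.inductionOn with
  | zero =>
    refine ⟨0, ?_⟩
    have h : (⟨0⟩ : Disc.Omega A' B') = 0 := rfl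
    rw [zero_smul, h, smul_zero]
  | tmul φ =>
    obtain ⟨c, hc⟩ := hb ⟨φ⟩
    refine ⟨algebraMap B B' c, ?_⟩
    change algebraMap B B' c • Disc.Omega.trace A' B' =
      algebraMap B B' b • QFDual.bcFin hB ⟨φ⟩
    have e1 := (QFDual.bcFin hB).map_smulₛₗ c (Disc.Omega.trace A B)
    have e2 := (QFDual.bcFin hB).map_smulₛₗ b (⟨φ⟩ : Disc.Omega A B)
    rw [bcFin_trace hB] at e1
    rw [← e1, ← e2, hc]
  | smul a' ψ ih =>
    obtain ⟨c', hc'⟩ := ih
    refine ⟨algebraMap A' B' a' * c', ?_⟩
    rw [mk_smul_eq, mul_smul, hc', smul_comm]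
  | add ψ₁ ψ₂ ih₁ ih₂ =>
    obtain ⟨c₁, h₁⟩ := ih₁
    obtain ⟨c₂, h₂⟩ := ih₂
    refine ⟨c₁ + c₂, ?_⟩
    have h : (⟨ψ₁ + ψ₂⟩ : Disc.Omega A' B') = ⟨ψ₁⟩ + ⟨ψ₂⟩ := rfl
    rw [h, add_smul, smul_add, h₁, h₂]

theorem dual_apply_mem [Module.Invertible B (Disc.Omega A B)]
    (g : Module.Dual B (Disc.Omega A B)) :
    g (Disc.Omega.trace A B) ∈ QFDual.different B (Disc.Omega.trace A B) := by
  rw [QFDual.mem_different_iff]
  intro m
  refine ⟨g m, ?_⟩
  have h := Module.Invertible.tmul_comm (R := B) (m₁ := m) (m₂ := Disc.Omega.trace A B)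
  have h2 := congrArg (TensorProduct.lift ((LinearMap.lsmul B (Disc.Omega A B)).comp g)) h
  simpa using h2

theorem different_le_map (hB : Algebra.IsPushout A A' B B')
    [Module.Invertible B (Disc.Omega A B)] :
    QFDual.different B' (Disc.Omega.trace A' B') ≤
      Ideal.map (algebraMap B B') (QFDual.different B (Disc.Omega.trace A B)) := by
  intro b' hb'
  rw [QFDual.mem_different_iff] at hb'
  have key : ∀ (g : Module.Dual B (Disc.Omega A B)) (m : Disc.Omega A B),
      b' * algebraMap B B' (g m) ∈
        Ideal.map (algebraMap B B') (QFDual.different B (Disc.Omega.trace A B)) := by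
    intro g m
    obtain ⟨G, hG⟩ := exists_lift hB ((Algebra.linearMap B B').comp g)
    obtain ⟨c', hc'⟩ := hb' (QFDual.bcFin hB m)
    have e1 := hG c' (Disc.Omega.trace A B)
    have e2 := hG b' m
    rw [bcFin_trace hB, hc', e2] at e1
    have e3 : b' * algebraMap B B' (g m) =
        c' * algebraMap B B' (g (Disc.Omega.trace A B)) := e1
    rw [e3]
    exact Ideal.mul_mem_left _ _ (Ideal.mem_map_of_mem _ (dual_apply_mem g))
  have key2 : ∀ t : Module.Dual B (Disc.Omega A B) ⊗[B] Disc.Omega A B,
      b' * algebraMap B B' (contractLeft B (Disc.Omega A B) t) ∈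
        Ideal.map (algebraMap B B') (QFDual.different B (Disc.Omega.trace A B)) := by
    intro t
    induction t using TensorProduct.induction_on with
    | zero => rw [map_zero, map_zero, mul_zero]; exact Ideal.zero_mem _
    | tmul g m => rw [contractLeft_apply]; exact key g m
    | add x y hx hy => rw [map_add, map_add, mul_add]; exact Ideal.add_mem _ hx hy
  obtain ⟨t, ht⟩ := (Module.Invertible.bijective (R := B) (M := Disc.Omega A B)).2 1
  have h := key2 t
  rwa [ht, map_one, mul_one] at h

theorem main_8968 (hB : Algebra.IsPushout A A' B B') [Module.Invertible B (Disc.Omega A B)] :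
    Ideal.map (algebraMap B B') (QFDual.different B (Disc.Omega.trace A B)) =
      QFDual.different B' (Disc.Omega.trace A' B') :=
  le_antisymm (map_le hB) (different_le_map hB)

theorem omega_finite : Module.Finite B (Disc.Omega A B) := by
  letI : Module A (Disc.Omega A B) := Module.compHom _ (algebraMap A B)
  haveI : IsScalarTower A B (Disc.Omega A B) :=
    IsScalarTower.of_algebraMap_smul (fun a x => rfl)
  let e : Module.Dual A B →ₗ[A] Disc.Omega A B :=
    { toFun := fun φ => ⟨φ⟩
      map_add' := fun _ _ => rfl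
      map_smul' := fun a φ => mk_smul_eq a φ }
  have he : Function.Surjective e := fun x => ⟨x.toLinearMap, rfl⟩
  haveI : Module.Finite A (Disc.Omega A B) := Module.Finite.of_surjective e he
  exact Module.Finite.of_restrictScalars_finite A B _

/-- The quotient `ω_{B/A} / B τ`. -/
abbrev QMod (A B : Type u) [CommRing A] [CommRing B] [Algebra A B] [Module.Finite A B]
    [Module.Free A B] : Type u :=
  Disc.Omega A B ⧸ Submodule.span B {Disc.Omega.trace A B}

theorem radical_core (hB : Algebra.IsPushout A A' B B') (K : Type u) [Field K] [Algebra B' K]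
    (b' : B') (hb' : b' ∈ QFDual.different B' (Disc.Omega.trace A' B'))
    (hb'K : algebraMap B' K b' ≠ 0)
    (hD : ∀ b ∈ QFDual.different B (Disc.Omega.trace A B),
      algebraMap B' K (algebraMap B B' b) = 0) : False := by
  letI iBK : Algebra B K := ((algebraMap B' K).comp (algebraMap B B')).toAlgebra
  letI iA'K : Algebra A' K := ((algebraMap B' K).comp (algebraMap A' B')).toAlgebra
  letI iAK : Algebra A K := ((algebraMap B' K).comp (algebraMap A B')).toAlgebra
  haveI : IsScalarTower B B' K := IsScalarTower.of_algebraMap_eq (fun x => rfl)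
  haveI : IsScalarTower A' B' K := IsScalarTower.of_algebraMap_eq (fun x => rfl)
  haveI : IsScalarTower A A' K := IsScalarTower.of_algebraMap_eq (fun x => by
    change algebraMap B' K (algebraMap A B' x) =
      algebraMap B' K (algebraMap A' B' (algebraMap A A' x))
    rw [← IsScalarTower.algebraMap_apply A A' B'])
  haveI : IsScalarTower A B K := IsScalarTower.of_algebraMap_eq (fun x => by
    change algebraMap B' K (algebraMap A B' x) =
      algebraMap B' K (algebraMap B B' (algebraMap A B x))
    rw [← IsScalarTower.algebraMap_apply A B B'])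
  haveI : Module.Finite B (Disc.Omega A B) := omega_finite
  have hann : Module.annihilator B (QMod A B) ≤ RingHom.ker (algebraMap B K) := by
    intro r hr
    rw [Module.mem_annihilator] at hr
    rw [RingHom.mem_ker]
    change algebraMap B' K (algebraMap B B' r) = 0
    refine hD r ?_
    rw [QFDual.mem_different_iff]
    intro m
    have h1 := hr (Submodule.Quotient.mk m)
    rw [← Submodule.Quotient.mk_smul, Submodule.Quotient.mk_eq_zero,
      Submodule.mem_span_singleton] at h1
    exact h1
  have hN : Nontrivial (K ⊗[B] QMod A B) := nontrivial_tensor_of_ann_le K hann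
  have hall : ∀ l : Module.Dual K (K ⊗[B] QMod A B), l = 0 := by
    intro l
    let g : Disc.Omega A B →ₗ[B] K :=
      (l.restrictScalars B).comp ((TensorProduct.mk B K (QMod A B) 1).comp
        (Submodule.mkQ (Submodule.span B {Disc.Omega.trace A B})))
    obtain ⟨G, hG⟩ := exists_lift hB g
    have hgτ : g (Disc.Omega.trace A B) = 0 := by
      change l ((1 : K) ⊗ₜ[B] (Submodule.Quotient.mk (Disc.Omega.trace A B) : QMod A B)) = 0
      rw [(Submodule.Quotient.mk_eq_zero _).2 (Submodule.mem_span_singleton_self _),
        TensorProduct.tmul_zero, map_zero]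
    have hg : ∀ m, g m = 0 := by
      intro m
      obtain ⟨c', hc'⟩ := (QFDual.mem_different_iff _ _ _).1 hb' (QFDual.bcFin hB m)
      have e1 := hG c' (Disc.Omega.trace A B)
      have e2 := hG b' m
      rw [bcFin_trace hB, hc', e2, hgτ, smul_zero] at e1
      rw [Algebra.smul_def] at e1
      exact (mul_eq_zero.1 e1).resolve_left hb'K
    apply TensorProduct.AlgebraTensorModule.ext
    intro k y
    obtain ⟨m, rfl⟩ := Submodule.Quotient.mk_surjective _ y
    have h1 : k ⊗ₜ[B] (Submodule.Quotient.mk m : QMod A B) =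
        k • ((1 : K) ⊗ₜ[B] (Submodule.Quotient.mk m : QMod A B)) := by
      rw [TensorProduct.smul_tmul', smul_eq_mul, mul_one]
    rw [h1, map_smul]
    change k • g m = 0
    rw [hg m, smul_zero]
  obtain ⟨n, hn⟩ := exists_ne (0 : K ⊗[B] QMod A B)
  exact hn ((Module.forall_dual_apply_eq_zero_iff K n).1 (fun l => by rw [hall l]; rfl))

theorem main_8966 (hB : Algebra.IsPushout A A' B B') :
    Ideal.map (algebraMap B B') (QFDual.different B (Disc.Omega.trace A B)) ≤
        QFDual.different B' (Disc.Omega.trace A' B') ∧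
      (Ideal.map (algebraMap B B') (QFDual.different B (Disc.Omega.trace A B))).radical =
        (QFDual.different B' (Disc.Omega.trace A' B')).radical := by
  refine ⟨map_le hB, le_antisymm (Ideal.radical_mono (map_le hB)) ?_⟩
  rw [Ideal.radical_le_radical_iff, Ideal.radical_eq_sInf]
  refine le_sInf ?_
  rintro q' ⟨hq', hprime⟩
  intro b' hb'
  by_contra hnot
  haveI := hprime
  refine radical_core hB q'.ResidueField b' hb' ?_ ?_
  · intro h0
    exact hnot (Ideal.algebraMap_residueField_eq_zero.1 h0)
  · intro b hb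
    exact Ideal.algebraMap_residueField_eq_zero.2 (hq' (Ideal.mem_map_of_mem _ hb))

end Groth.Agent.Lib.QFDiffBC
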