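import Mathlib
import Groth.Prelude.Def_QFDual
import Groth.Agent.Lib.QFDiffBC_lead

/-! Flat base change of the different of a finite free algebra (S8967). -/

open TensorProduct

namespace Groth.Agent.Lib.QFDiffFlat

open Groth.Agent.Lib.QFDiffBC

universe u

theorem mem_map_ann_module_of_flat {R S : Type u} [CommRing R] [CommRing S] [Algebra R S]
    [Module.Flat R S] {Q : Type u} [AddCommGroup Q] [Module R Q] {n : ℕ} (x : Fin n → Q) (t : S)
    (h : ∀ i, t ⊗ₜ[R] x i = 0) :
    t ∈ Ideal.map (algebraMap R S)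
      (LinearMap.ker (LinearMap.pi (fun i => LinearMap.toSpanSingleton R Q (x i)))) := by
  classical
  let Ψ : S ⊗[R] R ≃ₗ[S] S := AlgebraTensorModule.rid R S S
  have hΨ : ∀ (m : S) (r : R), Ψ (m ⊗ₜ[R] r) = r • m := fun m r => by
    simp only [Ψ, AlgebraTensorModule.rid_tmul]
  let F : R →ₗ[R] (Fin n → Q) := LinearMap.pi (fun i => LinearMap.toSpanSingleton R Q (x i))
  have hfin : ∀ w : S ⊗[R] (LinearMap.ker F),
      Ψ (AlgebraTensorModule.lTensor S S (LinearMap.ker F).subtype w) ∈
        Ideal.map (algebraMap R S) (LinearMap.ker F) := by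
    intro w
    induction w with
    | zero => simp
    | tmul m κ =>
      rw [AlgebraTensorModule.lTensor_tmul, hΨ, Submodule.subtype_apply, Algebra.smul_def]
      exact Ideal.mul_mem_right _ _ (Ideal.mem_map_of_mem _ κ.2)
    | add y₁ y₂ h₁ h₂ => rw [map_add, map_add]; exact add_mem h₁ h₂
  obtain ⟨z, rfl⟩ := Ψ.surjective t
  have hA : ∀ (i : Fin n) (w : S ⊗[R] R),
      AlgebraTensorModule.lTensor S S (LinearMap.toSpanSingleton R Q (x i)) w =
        (Ψ w) ⊗ₜ[R] x i := by
    intro i w
    induction w with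
    | zero => simp
    | tmul m r =>
      rw [AlgebraTensorModule.lTensor_tmul, hΨ, LinearMap.toSpanSingleton_apply,
        TensorProduct.smul_tmul]
    | add y₁ y₂ h₁ h₂ => simp only [map_add, add_tmul, h₁, h₂]
  have hB2 : ∀ (i : Fin n) (w : S ⊗[R] R),
      TensorProduct.piRight R S S (fun _ : Fin n => Q)
        (AlgebraTensorModule.lTensor S S F w) i =
        AlgebraTensorModule.lTensor S S (LinearMap.toSpanSingleton R Q (x i)) w := by
    intro i w
    induction w with
    | zero => simp
    | tmul m r =>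
      simp only [AlgebraTensorModule.lTensor_tmul, TensorProduct.piRight_apply,
        TensorProduct.piRightHom_tmul]
      rfl
    | add y₁ y₂ h₁ h₂ => simp only [map_add, Pi.add_apply, h₁, h₂]
  have hz0 : AlgebraTensorModule.lTensor S S F z = 0 := by
    apply (TensorProduct.piRight R S S (fun _ : Fin n => Q)).injective
    rw [map_zero]
    funext i
    rw [hB2 i z, hA i z]
    exact h i
  have hz1 : z ∈ LinearMap.ker (AlgebraTensorModule.lTensor S S F) := LinearMap.mem_ker.mpr hz0
  rw [Module.Flat.ker_lTensor_eq S S F] at hz1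
  obtain ⟨w, rfl⟩ := hz1
  exact hfin w

variable {A B A' B' : Type u} [CommRing A] [CommRing B] [CommRing A'] [CommRing B']
  [Algebra A B] [Module.Finite A B] [Module.Free A B] [Algebra A A'] [Algebra B B']
  [Algebra A' B'] [Algebra A B'] [IsScalarTower A A' B'] [IsScalarTower A B B']
  [Module.Finite A' B'] [Module.Free A' B']

theorem tmul_eq_zero_of_mem (hB : Algebra.IsPushout A A' B B') (b' : B')
    (hb' : b' ∈ QFDual.different B' (Disc.Omega.trace A' B')) (m : Disc.Omega A B) :
    b' ⊗ₜ[B] (Submodule.Quotient.mk m : QMod A B) = 0 := by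
  let g : Disc.Omega A B →ₗ[B] B' ⊗[B] QMod A B :=
    (TensorProduct.mk B B' (QMod A B) 1).comp
      (Submodule.mkQ (Submodule.span B {Disc.Omega.trace A B}))
  obtain ⟨G, hG⟩ := exists_lift hB g
  obtain ⟨c', hc'⟩ := (QFDual.mem_different_iff _ _ _).1 hb' (QFDual.bcFin hB m)
  have hgτ : g (Disc.Omega.trace A B) = 0 := by
    change (1 : B') ⊗ₜ[B] (Submodule.Quotient.mk (Disc.Omega.trace A B) : QMod A B) = 0
    rw [(Submodule.Quotient.mk_eq_zero _).2 (Submodule.mem_span_singleton_self _),
      TensorProduct.tmul_zero]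
  have e1 := hG c' (Disc.Omega.trace A B)
  have e2 := hG b' m
  rw [bcFin_trace hB, hc', e2, hgτ, smul_zero] at e1
  have h3 : b' • g m = b' ⊗ₜ[B] (Submodule.Quotient.mk m : QMod A B) := by
    change b' • ((1 : B') ⊗ₜ[B] (Submodule.Quotient.mk m : QMod A B)) = _
    rw [TensorProduct.smul_tmul', smul_eq_mul, mul_one]
  rw [← h3]
  exact e1

theorem main_8967 (hB : Algebra.IsPushout A A' B B') [Module.Flat A A'] :
    Ideal.map (algebraMap B B') (QFDual.different B (Disc.Omega.trace A B)) =
      QFDual.different B' (Disc.Omega.trace A' B') := by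
  refine le_antisymm (map_le hB) ?_
  intro b' hb'
  have : Module.Flat B B' := Module.Flat.isBaseChange A B A' B' hB.symm.out
  have : Module.Finite B (Disc.Omega A B) := omega_finite
  obtain ⟨n, x, hx⟩ := (Submodule.fg_iff_exists_fin_generating_family).1
    (Module.Finite.fg_top : (⊤ : Submodule B (QMod A B)).FG)
  have h1 := mem_map_ann_module_of_flat (R := B) (S := B') x b' (fun i => by
    obtain ⟨m, hm⟩ := Submodule.Quotient.mk_surjective _ (x i)
    rw [← hm]
    exact tmul_eq_zero_of_mem hB b' hb' m)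
  refine Ideal.map_mono ?_ h1
  intro r hr
  rw [LinearMap.mem_ker] at hr
  rw [QFDual.mem_different_iff]
  intro m
  have hy : ∀ y : QMod A B, r • y = 0 := by
    intro y
    have hyt : y ∈ Submodule.span B (Set.range x) := by rw [hx]; trivial
    refine Submodule.span_induction (p := fun y _ => r • y = 0) ?_ ?_ ?_ ?_ hyt
    · rintro _ ⟨i, rfl⟩
      have := congrFun hr i
      simpa using this
    · exact smul_zero r
    · intro a b _ _ ha hb; rw [smul_add, ha, hb, add_zero]
    · intro c a _ ha; rw [smul_comm, ha, smul_zero]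
  have h2 := hy (Submodule.Quotient.mk m)
  rw [← Submodule.Quotient.mk_smul, Submodule.Quotient.mk_eq_zero,
    Submodule.mem_span_singleton] at h2
  exact h2

end Groth.Agent.Lib.QFDiffFlat
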