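import Mathlib
import Groth.Prelude.Def_QFDual
import Groth.Prelude.Def_EGA4b

/-!
# Traces of integral elements land in a normal base (helper3)

`1 ∈ 𝓛_{B/A}` when `A` is a normal ring: the trace of an element integral over `A` is integral
over `A` (eigenvalue argument over an algebraic closure, after base change to the fraction field of
`A_p`), and a normal ring is integrally closed in its total ring of fractions (local–global).
-/

set_option autoImplicit false
universe u

namespace Groth.Agent.Lib.QFDualNormalH3

open TensorProduct Polynomial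

/-- The trace of an integral element of a finite-dimensional algebra over a field is integral. -/
theorem isIntegral_trace_of_field {A F E : Type*} [CommRing A] [Field F] [Algebra A F] [CommRing E]
    [Algebra F E] [Algebra A E] [IsScalarTower A F E] [FiniteDimensional F E] (x : E)
    (hx : IsIntegral A x) : IsIntegral A (Algebra.trace F E x) := by
  classical
  obtain ⟨g, hg, hgx⟩ := hx
  set φ : Module.End F E := Algebra.lmul F E x with hφdef
  let Ω := AlgebraicClosure F
  set φΩ : Module.End Ω (Ω ⊗[F] E) := Module.End.baseChangeHom F Ω E φ with hφΩdef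
  have hφ : aeval φ (g.map (algebraMap A F)) = 0 := by
    rw [hφdef, Polynomial.aeval_algHom_apply (Algebra.lmul F E) x, Polynomial.aeval_map_algebraMap,
      Polynomial.aeval_def, hgx, map_zero]
  have hφΩ : aeval φΩ (g.map (algebraMap A Ω)) = 0 := by
    have h1 : g.map (algebraMap A Ω) = (g.map (algebraMap A F)).map (algebraMap F Ω) := by
      rw [Polynomial.map_map, ← IsScalarTower.algebraMap_eq]
    rw [h1, Polynomial.aeval_map_algebraMap, hφΩdef,
      Polynomial.aeval_algHom_apply (Module.End.baseChangeHom F Ω E) φ, hφ, map_zero]
  have hroots : ∀ μ ∈ φΩ.charpoly.roots, IsIntegral A μ := by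
    intro μ hμ
    have hroot : φΩ.charpoly.IsRoot μ := (Polynomial.mem_roots'.1 hμ).2
    have hev : φΩ.HasEigenvalue μ := (Module.End.hasEigenvalue_iff_isRoot_charpoly φΩ μ).2 hroot
    obtain ⟨v, hv⟩ := hev.exists_hasEigenvector
    have h2 := Module.End.aeval_apply_of_hasEigenvector (p := g.map (algebraMap A Ω)) hv
    rw [hφΩ, LinearMap.zero_apply] at h2
    have h3 : (g.map (algebraMap A Ω)).eval μ = 0 := by
      rcases smul_eq_zero.1 h2.symm with h | h
      · exact h
      · exact absurd h hv.2
    exact ⟨g, hg, by rw [Polynomial.eval₂_eq_eval_map]; exact h3⟩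
  have htr : algebraMap F Ω (Algebra.trace F E x) = φΩ.charpoly.roots.sum := by
    rw [Algebra.trace_apply, ← LinearMap.trace_baseChange φ Ω]
    exact Module.End.trace_eq_sum_roots_charpoly_of_splits (IsAlgClosed.splits _)
  have hint : IsIntegral A (algebraMap F Ω (Algebra.trace F E x)) := by
    rw [htr]
    exact IsIntegral.multiset_sum hroots
  exact (isIntegral_algebraMap_iff (algebraMap F Ω).injective).1 hint

/-- Base change of the trace to a field: integrality of the image of the trace. -/
theorem isIntegral_algebraMap_trace {A K L F : Type*} [CommRing A] [CommRing K] [CommRing L]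
    [Field F] [Algebra A K] [Algebra K L] [Algebra A L] [IsScalarTower A K L] [Algebra K F]
    [Algebra A F] [IsScalarTower A K F] [Module.Free K L] [Module.Finite K L] (x : L)
    (hx : IsIntegral A x) : IsIntegral A (algebraMap K F (Algebra.trace K L x)) := by
  have h1 : algebraMap K F (Algebra.trace K L x) = Algebra.trace F (F ⊗[K] L) (1 ⊗ₜ[K] x) := by
    rw [Algebra.trace_apply, Algebra.trace_apply, ← Algebra.baseChange_lmul,
      LinearMap.trace_baseChange]
  rw [h1]
  letI : Algebra A (F ⊗[K] L) := Algebra.TensorProduct.leftAlgebra
  haveI : IsScalarTower A F (F ⊗[K] L) := inferInstance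
  apply isIntegral_trace_of_field
  exact hx.map ((Algebra.TensorProduct.includeRight (R := K) (A := F) (B := L)).restrictScalars A)

/-- A normal ring is integrally closed in its total ring of fractions, in the form needed here:
an element of `K` whose image in every `Frac (A_p)` is integral over `A` comes from `A`. -/
theorem mem_range_of_forall_isIntegral {A K : Type u} [CommRing A] [CommRing K] [Algebra A K]
    [IsFractionRing A K] (hA : EGA4.IsNormalRing A) (t : K)
    (ht : ∀ (p : Ideal A) [p.IsPrime] (ψ : K →+* FractionRing (Localization.AtPrime p)),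
      (∀ a : A, ψ (algebraMap A K a) = algebraMap A (FractionRing (Localization.AtPrime p)) a) →
        IsIntegral A (ψ t)) :
    t ∈ (algebraMap A K).range := by
  classical
  set N : Submodule A K := LinearMap.range (Algebra.linearMap A K) with hN
  set I : Ideal A := N.colon {t} with hI
  have hmemI : ∀ r : A, r ∈ I ↔ ∃ a : A, algebraMap A K a = r • t := by
    intro r
    rw [hI, Submodule.mem_colon_singleton, hN, LinearMap.mem_range]
    rfl
  suffices h1 : (1 : A) ∈ I by
    obtain ⟨a, ha⟩ := (hmemI 1).1 h1
    exact ⟨a, by rw [ha, one_smul]⟩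
  by_contra hone
  have hne : I ≠ ⊤ := fun h => hone (h ▸ Submodule.mem_top)
  obtain ⟨p, hpmax, hIp⟩ := Ideal.exists_le_maximal I hne
  haveI : p.IsPrime := hpmax.isPrime
  obtain ⟨hdom, hic⟩ := hA p
  haveI := hdom
  haveI := hic
  have hunits : ∀ y : nonZeroDivisors A,
      IsUnit (algebraMap A (FractionRing (Localization.AtPrime p)) y) := by
    intro y
    rw [IsScalarTower.algebraMap_apply A (Localization.AtPrime p)
      (FractionRing (Localization.AtPrime p))]
    have h2 : algebraMap A (Localization.AtPrime p) y ∈ nonZeroDivisors (Localization.AtPrime p) :=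
      IsLocalization.map_nonZeroDivisors_le p.primeCompl (Localization.AtPrime p)
        ⟨y, y.2, rfl⟩
    exact IsLocalization.map_units (FractionRing (Localization.AtPrime p))
      (⟨_, h2⟩ : nonZeroDivisors (Localization.AtPrime p))
  let ψ : K →+* FractionRing (Localization.AtPrime p) :=
    IsLocalization.lift (M := nonZeroDivisors A) hunits
  have hψ : ∀ a : A, ψ (algebraMap A K a) =
      algebraMap A (FractionRing (Localization.AtPrime p)) a := fun a =>
    IsLocalization.lift_eq hunits a
  have hint : IsIntegral A (ψ t) := ht p ψ hψ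
  have hint' : IsIntegral (Localization.AtPrime p) (ψ t) := hint.tower_top
  obtain ⟨a', ha'⟩ := IsIntegrallyClosed.algebraMap_eq_of_integral hint'
  obtain ⟨a, s, has⟩ := IsLocalization.exists_mk'_eq p.primeCompl a'
  obtain ⟨c, σ, hcσ⟩ := IsLocalization.exists_mk'_eq (nonZeroDivisors A) t
  have e1 : t * algebraMap A K σ = algebraMap A K c := by
    rw [← hcσ]
    exact IsLocalization.mk'_spec K c σ
  have e2 : a' * algebraMap A (Localization.AtPrime p) s = algebraMap A (Localization.AtPrime p) a := by
    rw [← has]
    exact IsLocalization.mk'_spec (Localization.AtPrime p) a s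
  have e3 : algebraMap A (FractionRing (Localization.AtPrime p)) ((s : A) * c) =
      algebraMap A (FractionRing (Localization.AtPrime p)) (a * σ) := by
    have e1' := congrArg ψ e1
    rw [map_mul, hψ, hψ] at e1'
    have e2' := congrArg (algebraMap (Localization.AtPrime p)
      (FractionRing (Localization.AtPrime p))) e2
    rw [map_mul, ha', ← IsScalarTower.algebraMap_apply, ← IsScalarTower.algebraMap_apply] at e2'
    rw [map_mul, map_mul, ← e1', ← e2']
    ring
  have e4 : algebraMap A (Localization.AtPrime p) ((s : A) * c) =
      algebraMap A (Localization.AtPrime p) (a * σ) := by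
    apply IsFractionRing.injective (Localization.AtPrime p)
      (FractionRing (Localization.AtPrime p))
    rw [← IsScalarTower.algebraMap_apply, ← IsScalarTower.algebraMap_apply]
    exact e3
  obtain ⟨s', hs'⟩ := (IsLocalization.eq_iff_exists p.primeCompl (Localization.AtPrime p)).1 e4
  have hmem : (s' : A) * (s : A) ∈ I := by
    rw [hmemI]
    refine ⟨(s' : A) * a, ?_⟩
    have hσu : IsUnit (algebraMap A K σ) := IsLocalization.map_units K σ
    apply hσu.mul_right_cancel
    rw [Algebra.smul_def, mul_assoc, e1, ← map_mul, ← map_mul]
    congr 1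
    rw [mul_assoc, mul_assoc, hs']
  have hnot : (s' : A) * (s : A) ∉ p := fun h =>
    (hpmax.isPrime.mem_or_mem h).elim s'.2 s.2
  exact hnot (hIp hmem)

theorem main (A K B L : Type u) [CommRing A] [CommRing K] [CommRing B] [CommRing L] [Algebra A K]
    [Algebra A B] [Algebra B L] [Algebra K L] [Algebra A L] [IsScalarTower A K L]
    [IsScalarTower A B L] (h : QFDual.IsDedekindDefined A K B L) (hA : EGA4.IsNormalRing A) :
    (1 : L) ∈ QFDual.complementary A K B L := by
  classical
  haveI := h.isFractionRing
  haveI := h.finite
  haveI := h.free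
  haveI := h.finiteKL
  show ∀ b : B, Algebra.trace K L (1 * algebraMap B L b) ∈ (algebraMap A K).range
  intro b
  rw [one_mul]
  have hβ : IsIntegral A (algebraMap B L b) :=
    (Algebra.IsIntegral.isIntegral (R := A) b).map (IsScalarTower.toAlgHom A B L)
  refine mem_range_of_forall_isIntegral hA _ ?_
  intro p hp ψ hψ
  obtain ⟨hdom, -⟩ := hA p
  haveI := hdom
  letI : Algebra K (FractionRing (Localization.AtPrime p)) := ψ.toAlgebra
  haveI : IsScalarTower A K (FractionRing (Localization.AtPrime p)) :=
    IsScalarTower.of_algebraMap_eq (fun a => (hψ a).symm)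
  exact isIntegral_algebraMap_trace (A := A) (K := K) (L := L)
    (F := FractionRing (Localization.AtPrime p)) _ hβ

end Groth.Agent.Lib.QFDualNormalH3
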