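import Mathlib
import Groth.Prelude.Def_QFDual

universe u
open TensorProduct

namespace Groth.Agent.Lib.QFDualOneMem

/-- trace formula for a finite "dual family" on a finite free module -/
theorem trace_eq_sum_of_dualFamily {K L : Type*} [CommRing K] [AddCommGroup L] [Module K L]
    [Module.Free K L] [Module.Finite K L] {N : ℕ} (e : Fin N → L) (Ψ : Fin N → (L →ₗ[K] K))
    (h : ∀ y : L, y = ∑ i, Ψ i y • e i) (u : L →ₗ[K] L) :
    LinearMap.trace K L u = ∑ i, Ψ i (u (e i)) := by
  have hu : u = dualTensorHom K L L (∑ i, (Ψ i) ⊗ₜ[K] (u (e i))) := by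
    ext y
    rw [map_sum, LinearMap.sum_apply]
    simp only [dualTensorHom_apply]
    calc u y = u (∑ i, Ψ i y • e i) := by rw [← h y]
      _ = ∑ i, Ψ i y • u (e i) := by rw [map_sum]; simp only [map_smul]
  have key : LinearMap.trace K L (dualTensorHom K L L (∑ i, (Ψ i) ⊗ₜ[K] (u (e i)))) =
      ∑ i, Ψ i (u (e i)) := by
    rw [LinearMap.trace_eq_contract_apply, map_sum]
    simp only [contractLeft_apply]
  exact (congrArg (LinearMap.trace K L) hu).trans key

theorem main (A K B L : Type u) [CommRing A] [CommRing K] [CommRing B] [CommRing L] [Algebra A K]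
    [Algebra A B] [Algebra B L] [Algebra K L] [Algebra A L] [IsScalarTower A K L]
    [IsScalarTower A B L] (h : QFDual.IsDedekindDefined A K B L) [Module.Flat A B] :
    (1 : L) ∈ QFDual.complementary A K B L := by
  haveI := h.isFractionRing
  haveI := h.isLocalization
  haveI := h.isNoetherianRing
  haveI := h.finite
  haveI := h.free
  haveI := h.finiteKL
  haveI : Module.FinitePresentation A B := Module.finitePresentation_of_finite A B
  haveI : Module.Projective A B := Module.Flat.projective_of_finitePresentation
  let f : B →ₗ[A] L := (IsScalarTower.toAlgHom A B L).toLinearMap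
  haveI : IsLocalizedModule (nonZeroDivisors A) f := inferInstance
  have hbc : IsBaseChange K f := IsLocalizedModule.isBaseChange (nonZeroDivisors A) K f
  obtain ⟨N, π, hπ⟩ := Module.Finite.exists_fin' A B
  obtain ⟨σ, hσ⟩ := Module.projective_lifting_property π LinearMap.id hπ
  let e : Fin N → B := fun i => π (fun j => if i = j then 1 else 0)
  let φ : Fin N → (B →ₗ[A] A) := fun i => (LinearMap.proj i).comp σ
  have hx : ∀ x : B, x = ∑ i, φ i x • e i := by
    intro x
    have h1 : π (σ x) = x := by
      have := LinearMap.congr_fun hσ x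
      simpa using this
    calc x = π (σ x) := h1.symm
      _ = ∑ i, (σ x) i • π (fun j => if i = j then 1 else 0) :=
          LinearMap.pi_apply_eq_sum_univ π (σ x)
      _ = _ := rfl
  let Ψ : Fin N → (L →ₗ[K] K) := fun i => hbc.lift ((Algebra.linearMap A K).comp (φ i))
  have hΨ : ∀ i (x : B), Ψ i (f x) = algebraMap A K (φ i x) := by
    intro i x
    exact hbc.lift_eq _ x
  have hy : ∀ y : L, y = ∑ i, Ψ i y • f (e i) := by
    intro y
    have h2 : (LinearMap.id : L →ₗ[K] L) = ∑ i, (Ψ i).smulRight (f (e i)) := by
      apply hbc.algHom_ext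
      intro x
      rw [LinearMap.id_apply, LinearMap.sum_apply]
      simp only [LinearMap.smulRight_apply, hΨ]
      calc f x = f (∑ i, φ i x • e i) := by rw [← hx x]
        _ = ∑ i, algebraMap A K (φ i x) • f (e i) := by
            rw [map_sum]
            refine Finset.sum_congr rfl fun i _ => ?_
            rw [map_smul, algebraMap_smul]
    have h3 := LinearMap.congr_fun h2 y
    simpa [LinearMap.sum_apply] using h3
  show ∀ b : B, Algebra.trace K L (1 * algebraMap B L b) ∈ (algebraMap A K).range
  intro b
  rw [one_mul]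
  have htr := trace_eq_sum_of_dualFamily (fun i => f (e i)) Ψ hy
    (Algebra.lmul K L (algebraMap B L b))
  rw [RingHom.mem_range]
  refine ⟨∑ i, φ i (b * e i), ?_⟩
  rw [Algebra.trace_apply, htr, map_sum]
  refine Finset.sum_congr rfl fun i _ => ?_
  have h4 : (Algebra.lmul K L (algebraMap B L b)) (f (e i)) = f (b * e i) := by
    show algebraMap B L b * algebraMap B L (e i) = algebraMap B L (b * e i)
    rw [map_mul]
  rw [h4, hΨ]

end Groth.Agent.Lib.QFDualOneMem
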