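import Mathlib
import Groth.Agent.Lib.FlatCM3_helper9
import Groth.Agent.Lib.MiracleFlat_helper5
import Groth.Agent.Lib.LocDim_helper8
import Groth.Agent.Lib.DimFT3_helper8
import Groth.Agent.Lib.TensorFieldCM_helper9

/-!
# Flatness at a prime of a quasi-finite algebra over a polynomial ring (helper9)
APPEND-ONLY once landed.
-/

set_option autoImplicit false
universe u

namespace Groth.Agent.QFFlat9

open IsLocalRing

section Alg

/-- a quasi-finite injective extension of domains is algebraic -/
theorem isAlgebraic_of_quasiFinite (D E : Type u) [CommRing D] [IsDomain D] [CommRing E]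
    [IsDomain E] [Algebra D E] [Algebra.QuasiFinite D E]
    (hinj : Function.Injective (algebraMap D E)) : Algebra.IsAlgebraic D E := by
  set K := FractionRing D with hK
  set M := Algebra.algebraMapSubmonoid E (nonZeroDivisors D) with hM
  set E' := Localization M with hE'
  haveI : Algebra.QuasiFinite D E' := inferInstance
  haveI : Algebra.QuasiFinite K E' := Algebra.QuasiFinite.of_restrictScalars D K E'
  haveI : Module.Finite K E' := Module.Finite.of_quasiFinite
  haveI : Algebra.IsAlgebraic K E' := Algebra.IsAlgebraic.of_finite K E'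
  have hMle : M ≤ nonZeroDivisors E := by
    rintro x ⟨y, hy, rfl⟩
    exact map_mem_nonZeroDivisors _ hinj hy
  have hinj' : Function.Injective (algebraMap E E') := IsLocalization.injective E' hMle
  refine ⟨fun s => ?_⟩
  have h1 : IsAlgebraic K (algebraMap E E' s) := Algebra.IsAlgebraic.isAlgebraic _
  have h2 : IsAlgebraic D (algebraMap E E' s) := (IsFractionRing.isAlgebraic_iff D K E').2 h1
  exact (isAlgebraic_algHom_iff (IsScalarTower.toAlgHom D E E') hinj').1 h2

end Alg

section Main

variable (k R S : Type u) [Field k] [CommRing R] [CommRing S]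
  [Algebra k R] [Algebra k S] [Algebra R S] [IsScalarTower k R S] [Algebra.QuasiFinite R S]

/-- transcendence degrees of the residue domains agree along a quasi-finite map -/
theorem trdeg_quot_eq (q : Ideal S) [q.IsPrime] (p : Ideal R) [p.IsPrime] [q.LiesOver p] :
    Algebra.trdeg k (S ⧸ q) = Algebra.trdeg k (R ⧸ p) := by
  haveI : Algebra.QuasiFinite R (S ⧸ q) := inferInstance
  haveI : Algebra.QuasiFinite (R ⧸ p) (S ⧸ q) := Algebra.QuasiFinite.of_restrictScalars R _ _
  have hinj : Function.Injective (algebraMap (R ⧸ p) (S ⧸ q)) :=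
    FaithfulSMul.algebraMap_injective _ _
  haveI : Algebra.IsAlgebraic (R ⧸ p) (S ⧸ q) := isAlgebraic_of_quasiFinite _ _ hinj
  haveI : Nontrivial (R ⧸ p) := inferInstance
  haveI : FaithfulSMul k (R ⧸ p) := inferInstance
  have h := trdeg_add_eq k (R ⧸ p) (A := S ⧸ q)
  rw [trdeg_eq_zero (R := R ⧸ p) (A := S ⧸ q), add_zero] at h
  exact h.symm

omit [Algebra.QuasiFinite R S] in
theorem dim_zero_of_artinian (T : Type u) [CommRing T] [IsArtinianRing T] (q : Ideal T)
    [q.IsPrime] : ringKrullDim (Localization.AtPrime q) = 0 := by
  haveI : IsArtinianRing (Localization.AtPrime q) := inferInstance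
  exact (ringKrullDimZero_iff_ringKrullDim_eq_zero).1 inferInstance

/-- the closed fibre of `R_p → S_q` has dimension zero when `R → S` is quasi-finite -/
theorem fibLocRing_dim_zero (q : Ideal S) [q.IsPrime] :
    ringKrullDim (EGA4.FibLocRing R S q) = 0 := by
  obtain ⟨q', hq', ⟨e'⟩⟩ := Groth.Agent.FlatCM.exists_fibre_equiv R S q
  rw [← ringKrullDim_eq_of_ringEquiv e']
  haveI : IsArtinianRing ((q.comap (algebraMap R S)).Fiber S) := inferInstance
  exact dim_zero_of_artinian _ q'

variable [IsDomain R] [Algebra.FiniteType k R] [IsRegularRing R] [Algebra.FiniteType k S]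

/-- **Flatness criterion** for a quasi-finite algebra over a regular f.t. domain of dimension `d`:
`S_q` is flat over `R` iff `S_q` is CM and `Spec S` has local dimension `d` at `q`. -/
theorem main (d : ℕ) (hd : Algebra.trdeg k R = d) (q : Ideal S) [q.IsPrime] :
    Module.Flat R (Localization.AtPrime q) ↔
      (LocCoh.IsCohenMacaulayLocalRing (Localization.AtPrime q) ∧
        FlatMor.localDim (PrimeSpectrum S) ⟨q, inferInstance⟩ = (d : WithBot ℕ∞)) := by
  haveI : IsNoetherianRing R := Algebra.FiniteType.isNoetherianRing k R
  haveI : IsNoetherianRing S := Algebra.FiniteType.isNoetherianRing k S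
  set p := q.comap (algebraMap R S) with hp
  haveI : q.LiesOver p := ⟨rfl⟩
  letI := Localization.AtPrime.algebraOfLiesOver p q
  haveI : IsLocalHom (algebraMap (Localization.AtPrime p) (Localization.AtPrime q)) :=
    Localization.isLocalHom_localRingHom _ _ _ _
  haveI : IsRegularLocalRing (Localization.AtPrime p) :=
    IsRegularRing.isRegularLocalRing_localization p
  have hRpCM : LocCoh.IsCohenMacaulayLocalRing (Localization.AtPrime p) :=
    (Groth.Agent.FlatCM.isCMRing_of_isRegularRing R).isCohenMacaulayLocalRing_localization p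
  have hI : (maximalIdeal (Localization.AtPrime p)).map
      (algebraMap (Localization.AtPrime p) (Localization.AtPrime q)) =
      p.map (algebraMap R (Localization.AtPrime q)) := by
    rw [← Localization.AtPrime.map_eq_maximalIdeal, Ideal.map_map,
      ← IsScalarTower.algebraMap_eq]
  let e : EGA4.FibRing (Localization.AtPrime p) (Localization.AtPrime q) ≃+*
      EGA4.FibLocRing R S q := Ideal.quotEquivOfEq hI
  have hfib0 : ringKrullDim (EGA4.FibRing (Localization.AtPrime p) (Localization.AtPrime q)) = 0 := by
    rw [ringKrullDim_eq_of_ringEquiv e]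
    exact fibLocRing_dim_zero R S q
  obtain ⟨r, hr, hpr⟩ := Groth.Agent.DimFT3H8.height_add_trdeg_quotient d k R hd p
  have hr' : Algebra.trdeg k (S ⧸ q) = r := (trdeg_quot_eq k R S q p).trans hr
  have hloc := Groth.Agent.LocDimH8.localDim_primeSpectrum k S ⟨q, inferInstance⟩ r hr'
  have hdimp : ringKrullDim (Localization.AtPrime p) = p.height :=
    IsLocalization.AtPrime.ringKrullDim_eq_height p _
  have hdimq : ringKrullDim (Localization.AtPrime q) = q.height :=
    IsLocalization.AtPrime.ringKrullDim_eq_height q _
  haveI : IsNoetherianRing (Localization.AtPrime p) :=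
    IsLocalization.isNoetherianRing p.primeCompl _ inferInstance
  haveI : IsNoetherianRing (Localization.AtPrime q) :=
    IsLocalization.isNoetherianRing q.primeCompl _ inferInstance
  constructor
  · intro hflat
    haveI : Module.Flat (Localization.AtPrime p) (Localization.AtPrime q) := by
      rw [Module.flat_iff_of_isLocalization (Localization.AtPrime p) p.primeCompl]
      exact hflat
    refine ⟨(Groth.Agent.FlatCM.isCM_local_iff _ _).2
      ⟨hRpCM, Groth.Agent.FlatCM.isCMLocalRing_of_dim_zero _ hfib0⟩, ?_⟩
    have h2 := Groth.Agent.FlatCM.dim_eq_add (Localization.AtPrime p) (Localization.AtPrime q)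
    rw [hfib0, add_zero, hdimp, hdimq] at h2
    have h3 : q.height = p.height := by exact_mod_cast h2
    rw [hloc]
    change (((q.height + r : ℕ∞)) : WithBot ℕ∞) = _
    rw [h3, hpr]
    rfl
  · rintro ⟨hCM, hdim⟩
    rw [hloc] at hdim
    have h4 : q.height + (r : ℕ∞) = (d : ℕ∞) := by exact_mod_cast hdim
    have hqp : q.height = p.height := by
      have h5 : q.height + (r : ℕ∞) = p.height + (r : ℕ∞) := by rw [h4, hpr]
      exact ENat.add_left_injective_of_ne_top (ENat.coe_ne_top r) h5
    haveI := hCM
    have hflat : Module.Flat (Localization.AtPrime p) (Localization.AtPrime q) := by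
      apply Groth.Agent.MiracleFlat.flat_of_isCMRing
      rw [hdimp, hdimq, hqp]
      change _ = _ + ringKrullDim (EGA4.FibRing (Localization.AtPrime p) (Localization.AtPrime q))
      rw [hfib0, add_zero]
    exact Module.Flat.trans R (Localization.AtPrime p) (Localization.AtPrime q)

end Main

end Groth.Agent.QFFlat9
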