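import Mathlib

/-!
# Etale-local finite models of quasi-finite algebras (helper7)

Given a finite type `R`-algebra `S` quasi-finite at a prime `q` over `p`, Mathlib's
`Algebra.exists_etale_isIdempotentElem_forall_liesOver_eq` produces an etale neighbourhood
`(R', P)` of `p` and a prime `P'` of `R' ⊗[R] S` over `P` and `q`, isolated in an open and closed
finite piece.  Here we repackage this as: the local ring of `R' ⊗[R] S` at `P'` is a *finite*
module over the local ring of `R'` at `P`.
-/

set_option autoImplicit false
set_option backward.isDefEq.respectTransparency false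
set_option backward.isDefEq.respectTransparency.types false
set_option linter.style.haveILetI false
set_option linter.unusedSectionVars false

universe u
open TensorProduct

namespace Groth.Agent.Lib.QFModel

section Finite

variable {R' S' : Type u} [CommRing R'] [CommRing S'] [Algebra R' S']

/-- If `P'` is the only prime over `P` in the finite piece `D(e)`, then every element outside `P'`
becomes a unit in the localization of `S'[1/e]` at `P`. -/
theorem isUnit_of_notMem (P : Ideal R') [P.IsPrime] (e : S') (P' : Ideal S') [P'.IsPrime]
    [Module.Finite R' (Localization.Away e)]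
    (huniq : ∀ P'' : Ideal S', P''.IsPrime → P''.LiesOver P → e ∉ P'' → P'' = P')
    (t : S') (ht : t ∉ P') :
    IsUnit (algebraMap S'
      (Localization (Algebra.algebraMapSubmonoid (Localization.Away e) P.primeCompl)) t) := by
  set E := Localization.Away e with hE
  set T := Localization (Algebra.algebraMapSubmonoid E P.primeCompl) with hT
  set R₁ := Localization.AtPrime P with hR₁
  by_contra hnu
  obtain ⟨𝔪, hmax, hmem⟩ := exists_max_ideal_of_mem_nonunits
    (show algebraMap S' T t ∈ nonunits T from hnu)
  haveI := hmax
  haveI : Algebra.IsIntegral R₁ T := Algebra.IsIntegral.of_finite R₁ T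
  have h1 : (𝔪.comap (algebraMap R₁ T)).IsMaximal :=
    Ideal.isMaximal_comap_of_isIntegral_of_isMaximal 𝔪
  have h2 : 𝔪.comap (algebraMap R₁ T) = IsLocalRing.maximalIdeal R₁ :=
    IsLocalRing.eq_maximalIdeal h1
  set P'' : Ideal S' := 𝔪.comap (algebraMap S' T) with hP''
  haveI : P''.IsPrime := Ideal.comap_isPrime _ _
  have hover : P''.LiesOver P := by
    refine ⟨?_⟩
    have e1 : P''.under R' = 𝔪.comap (algebraMap R' T) := by
      rw [Ideal.under_def, hP'', Ideal.comap_comap, ← IsScalarTower.algebraMap_eq]
    have e2 : 𝔪.comap (algebraMap R' T) =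
        (𝔪.comap (algebraMap R₁ T)).comap (algebraMap R' R₁) := by
      rw [Ideal.comap_comap, ← IsScalarTower.algebraMap_eq]
    rw [e1, e2, h2]
    exact (Localization.AtPrime.under_maximalIdeal (I := P)).symm
  have he'' : e ∉ P'' := by
    intro h
    have hu : IsUnit (algebraMap S' T e) := by
      rw [IsScalarTower.algebraMap_apply S' E T]
      exact (IsLocalization.Away.algebraMap_isUnit e).map _
    exact hmax.ne_top (Ideal.eq_top_of_isUnit_mem _ h hu)
  have heq := huniq P'' inferInstance hover he''
  apply ht
  rw [← heq]
  exact hmem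

/-- The local ring at `P'` is finite over the local ring at `P`. -/
theorem finite_localization (P : Ideal R') [P.IsPrime] (e : S') (P' : Ideal S') [P'.IsPrime]
    [P'.LiesOver P] (he : e ∉ P') [Module.Finite R' (Localization.Away e)]
    (huniq : ∀ P'' : Ideal S', P''.IsPrime → P''.LiesOver P → e ∉ P'' → P'' = P') :
    letI := Localization.AtPrime.algebraOfLiesOver P P'
    Module.Finite (Localization.AtPrime P) (Localization.AtPrime P') := by
  letI := Localization.AtPrime.algebraOfLiesOver P P'
  set E := Localization.Away e with hE
  set T := Localization (Algebra.algebraMapSubmonoid E P.primeCompl) with hT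
  set R₁ := Localization.AtPrime P with hR₁
  set B := Localization.AtPrime P' with hB
  have key := isUnit_of_notMem P e P' huniq
  have he_unit : IsUnit (algebraMap S' B e) :=
    IsLocalization.map_units B (⟨e, he⟩ : P'.primeCompl)
  let ψ : E →+* B := IsLocalization.Away.lift (g := algebraMap S' B) e he_unit
  have hψ : ∀ s : S', ψ (algebraMap S' E s) = algebraMap S' B s := fun s =>
    IsLocalization.Away.lift_eq e he_unit s
  have hM' : ∀ y : Algebra.algebraMapSubmonoid E P.primeCompl, IsUnit (ψ y) := by
    rintro ⟨_, r, hr, rfl⟩
    have : ψ (algebraMap R' E r) = algebraMap S' B (algebraMap R' S' r) := by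
      rw [IsScalarTower.algebraMap_apply R' S' E, hψ]
    rw [this]
    refine IsLocalization.map_units B (⟨algebraMap R' S' r, ?_⟩ : P'.primeCompl)
    intro h
    apply hr
    rw [P'.over_def P]
    exact h
  let φ : T →+* B := IsLocalization.lift hM'
  have hφE : ∀ x : E, φ (algebraMap E T x) = ψ x := fun x => IsLocalization.lift_eq hM' x
  have hφS : ∀ s : S', φ (algebraMap S' T s) = algebraMap S' B s := by
    intro s
    rw [IsScalarTower.algebraMap_apply S' E T, hφE, hψ]
  have hcomp : φ.comp (algebraMap R₁ T) = algebraMap R₁ B := by
    apply IsLocalization.ringHom_ext P.primeCompl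
    ext r
    simp only [RingHom.comp_apply]
    rw [← IsScalarTower.algebraMap_apply R' R₁ T, IsScalarTower.algebraMap_apply R' S' T, hφS,
      Localization.AtPrime.IsLiesOverAlgebra.algebraMap_eq (p := P) (P := P'),
      Localization.localRingHom_to_map]
  let f : T →ₗ[R₁] B :=
    { toFun := φ
      map_add' := map_add φ
      map_smul' := fun c x => by
        simp only [RingHom.id_apply]
        rw [Algebra.smul_def, map_mul, ← RingHom.comp_apply, hcomp, Algebra.smul_def] }
  have hsurj : Function.Surjective f := by
    intro y
    obtain ⟨⟨s, ⟨t, ht⟩⟩, rfl⟩ := IsLocalization.mk'_surjective P'.primeCompl y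
    have hu := key t ht
    refine ⟨algebraMap S' T s * ↑hu.unit⁻¹, ?_⟩
    change φ (algebraMap S' T s * ↑hu.unit⁻¹) = IsLocalization.mk' B s (⟨t, ht⟩ : P'.primeCompl)
    rw [IsLocalization.eq_mk'_iff_mul_eq]
    change φ (algebraMap S' T s * ↑hu.unit⁻¹) * algebraMap S' B t = algebraMap S' B s
    rw [← hφS t, ← map_mul, mul_assoc]
    have : (↑hu.unit⁻¹ : T) * algebraMap S' T t = 1 := by
      have := hu.unit.inv_mul
      rwa [IsUnit.unit_spec] at this
    rw [this, mul_one, hφS]
  exact Module.Finite.of_surjective f hsurj

end Finite

/-- **Etale-local finite model** of a quasi-finite point. -/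
theorem exists_model (R S : Type u) [CommRing R] [CommRing S] [Algebra R S]
    [Algebra.FiniteType R S] (p : Ideal R) [p.IsPrime] (q : Ideal S) [q.IsPrime] [q.LiesOver p]
    [Algebra.QuasiFiniteAt R q] :
    ∃ (R' : Type u) (_ : CommRing R') (_ : Algebra R R') (_ : Algebra.Etale R R') (P : Ideal R')
      (_ : P.IsPrime) (_ : P.LiesOver p) (P' : Ideal (R' ⊗[R] S)) (_ : P'.IsPrime)
      (_ : P'.LiesOver P),
      P'.comap Algebra.TensorProduct.includeRight.toRingHom = q ∧
      (letI := Localization.AtPrime.algebraOfLiesOver P P'
       Module.Finite (Localization.AtPrime P) (Localization.AtPrime P')) := by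
  obtain ⟨R', i1, i2, i3, P, i4, i5, e, -, P', i6, i7, hq, he, -, hfin, huniq⟩ :=
    Algebra.exists_etale_isIdempotentElem_forall_liesOver_eq p q
  refine ⟨R', i1, i2, i3, P, i4, i5, P', i6, i7, hq, ?_⟩
  exact finite_localization P e P' he huniq

end Groth.Agent.Lib.QFModel
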