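import Mathlib

/-! The projection `R[x_0..x_{n-1}] → (R/p)[x_0..x_{r-1}]` and its kernel. -/

universe u

namespace Groth.Agent.Lib.QFNormH8

open MvPolynomial

variable {R : Type u} [CommRing R] (p : Ideal R) (n r : ℕ)

/-- `θ : R[x_0..x_{n-1}] → (R/p)[x_0..x_{r-1}]`, killing `x_i` for `i ≥ r`. -/
noncomputable def θ : MvPolynomial (Fin n) R →ₐ[R] MvPolynomial (Fin r) (R ⧸ p) :=
  MvPolynomial.aeval (fun i : Fin n => if h : (i : ℕ) < r then X ⟨i, h⟩ else 0)

/-- the ideal `p R[x] + (x_i : i ≥ r)` -/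
noncomputable def P₀ : Ideal (MvPolynomial (Fin n) R) :=
  p.map (algebraMap R (MvPolynomial (Fin n) R)) ⊔
    Ideal.span (Set.range fun i : {i : Fin n // r ≤ (i : ℕ)} =>
      (X (i : Fin n) : MvPolynomial (Fin n) R))

theorem θ_C (a : R) : θ p n r (C a) = C (Ideal.Quotient.mk p a) := by
  unfold θ
  rw [aeval_C]
  rfl

theorem θ_X_lt (i : Fin n) (h : (i : ℕ) < r) : θ p n r (X i) = X ⟨i, h⟩ := by
  unfold θ
  rw [aeval_X, dif_pos h]

theorem θ_X_ge (i : Fin n) (h : r ≤ (i : ℕ)) : θ p n r (X i) = 0 := by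
  unfold θ
  rw [aeval_X, dif_neg (by omega)]

theorem θ_surjective (hrn : r ≤ n) : Function.Surjective (θ p n r) := by
  intro G
  induction G using MvPolynomial.induction_on with
  | C c =>
    obtain ⟨a, rfl⟩ := Ideal.Quotient.mk_surjective c
    exact ⟨C a, θ_C p n r a⟩
  | add F G hF hG =>
    obtain ⟨F', rfl⟩ := hF
    obtain ⟨G', rfl⟩ := hG
    exact ⟨F' + G', map_add _ _ _⟩
  | mul_X F j hF =>
    obtain ⟨F', rfl⟩ := hF
    refine ⟨F' * X (Fin.castLE hrn j), ?_⟩
    rw [map_mul, θ_X_lt p n r (Fin.castLE hrn j) (by simp)]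
    rfl

theorem P₀_le_ker : P₀ p n r ≤ RingHom.ker (θ p n r).toRingHom := by
  unfold P₀
  refine sup_le ?_ ?_
  · rw [Ideal.map_le_iff_le_comap]
    intro a ha
    rw [Ideal.mem_comap, RingHom.mem_ker, MvPolynomial.algebraMap_eq]
    show θ p n r (C a) = 0
    rw [θ_C, (Ideal.Quotient.eq_zero_iff_mem).mpr ha, map_zero]
  · rw [Ideal.span_le]
    rintro _ ⟨i, rfl⟩
    exact θ_X_ge p n r i.1 i.2

theorem ker_θ (hrn : r ≤ n) : RingHom.ker (θ p n r).toRingHom = P₀ p n r := by
  refine le_antisymm ?_ (P₀_le_ker p n r)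
  have hp : ∀ a ∈ p, ((Ideal.Quotient.mk (P₀ p n r)).comp C) a = 0 := by
    intro a ha
    rw [RingHom.comp_apply, Ideal.Quotient.eq_zero_iff_mem]
    exact (le_sup_left : _ ≤ P₀ p n r) (Ideal.mem_map_of_mem _ ha)
  let τ : MvPolynomial (Fin r) (R ⧸ p) →+* MvPolynomial (Fin n) R ⧸ P₀ p n r :=
    eval₂Hom (Ideal.Quotient.lift p ((Ideal.Quotient.mk (P₀ p n r)).comp C) hp)
      (fun i => Ideal.Quotient.mk (P₀ p n r) (X (Fin.castLE hrn i)))
  have hτ : τ.comp (θ p n r).toRingHom = Ideal.Quotient.mk (P₀ p n r) := by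
    apply MvPolynomial.ringHom_ext
    · intro a
      show τ (θ p n r (C a)) = _
      rw [θ_C]
      simp [τ]
    · intro i
      show τ (θ p n r (X i)) = _
      by_cases h : (i : ℕ) < r
      · rw [θ_X_lt p n r i h]
        simp only [τ, eval₂Hom_X']
        congr 2
      · rw [θ_X_ge p n r i (by omega), map_zero]
        symm
        rw [Ideal.Quotient.eq_zero_iff_mem]
        exact (le_sup_right : _ ≤ P₀ p n r)
          (Ideal.subset_span ⟨⟨i, by omega⟩, rfl⟩)
  intro F hF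
  rw [RingHom.mem_ker] at hF
  have h1 : Ideal.Quotient.mk (P₀ p n r) F = 0 := by
    rw [← hτ, RingHom.comp_apply, hF, map_zero]
  exact Ideal.Quotient.eq_zero_iff_mem.mp h1

section factor

variable {S : Type u} [CommRing S] [Algebra R S] (y : Fin n → S)
  (q' : Ideal S) [q'.LiesOver p] (hrn : r ≤ n)

theorem mk_comp_aeval (hy : ∀ i : Fin n, r ≤ (i : ℕ) → y i ∈ q') :
    (Ideal.Quotient.mk q').comp (aeval y : MvPolynomial (Fin n) R →ₐ[R] S).toRingHom =
      (aeval (fun i : Fin r => Ideal.Quotient.mk q' (y (Fin.castLE hrn i))) :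
        MvPolynomial (Fin r) (R ⧸ p) →ₐ[R ⧸ p] S ⧸ q').toRingHom.comp (θ p n r).toRingHom := by
  apply MvPolynomial.ringHom_ext
  · intro a
    show Ideal.Quotient.mk q' (aeval y (C a)) = aeval _ (θ p n r (C a))
    rw [θ_C, aeval_C, aeval_C, Ideal.Quotient.algebraMap_mk_of_liesOver]
  · intro i
    show Ideal.Quotient.mk q' (aeval y (X i)) = aeval _ (θ p n r (X i))
    by_cases h : (i : ℕ) < r
    · rw [θ_X_lt p n r i h, aeval_X, aeval_X]
      congr 2
    · rw [θ_X_ge p n r i (by omega), map_zero, aeval_X]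
      exact Ideal.Quotient.eq_zero_iff_mem.mpr (hy i (by omega))

/-- If the `y_i`, `i < r`, are algebraically independent modulo `q'`, the contraction of `q'` is
`P₀`. -/
theorem comap_eq_P₀ (hy : ∀ i : Fin n, r ≤ (i : ℕ) → y i ∈ q')
    (hind : AlgebraicIndependent (R ⧸ p)
      (fun i : Fin r => Ideal.Quotient.mk q' (y (Fin.castLE hrn i)))) :
    q'.comap (aeval y : MvPolynomial (Fin n) R →ₐ[R] S).toRingHom = P₀ p n r := by
  rw [← ker_θ p n r hrn]
  ext F
  rw [Ideal.mem_comap, RingHom.mem_ker, ← Ideal.Quotient.eq_zero_iff_mem]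
  have h1 := congrArg (fun χ => χ F) (mk_comp_aeval p n r y q' hrn hy)
  simp only [RingHom.comp_apply] at h1
  rw [h1]
  constructor
  · intro h
    exact (injective_iff_map_eq_zero _).mp hind _ h
  · intro h
    rw [h, map_zero]

/-- Conversely, if the contraction of `q'` is `P₀` then the `y_i`, `i < r`, are algebraically
independent modulo `q'`. -/
theorem algebraicIndependent_of_comap_eq (hy : ∀ i : Fin n, r ≤ (i : ℕ) → y i ∈ q')
    (hq' : q'.comap (aeval y : MvPolynomial (Fin n) R →ₐ[R] S).toRingHom = P₀ p n r) :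
    AlgebraicIndependent (R ⧸ p)
      (fun i : Fin r => Ideal.Quotient.mk q' (y (Fin.castLE hrn i))) := by
  rw [← ker_θ p n r hrn] at hq'
  show Function.Injective _
  rw [injective_iff_map_eq_zero]
  intro G hG
  obtain ⟨F, rfl⟩ := θ_surjective p n r hrn G
  have h1 := congrArg (fun χ => χ F) (mk_comp_aeval p n r y q' hrn hy)
  simp only [RingHom.comp_apply] at h1
  have h2 : F ∈ q'.comap (aeval y : MvPolynomial (Fin n) R →ₐ[R] S).toRingHom := by
    rw [Ideal.mem_comap, ← Ideal.Quotient.eq_zero_iff_mem, h1]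
    exact hG
  rw [hq', RingHom.mem_ker] at h2
  exact h2

end factor

end Groth.Agent.Lib.QFNormH8
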