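import Mathlib
import Groth.Agent.Lib.CMDecomp4_helper8
import Groth.Agent.Lib.DimFT3_helper8

/-! Isolating a prime in its fibre by a basic open (key lemma for local quasi-finiteness). -/

universe u

namespace Groth.Agent.Lib.QFNormH8

open TensorProduct

theorem exists_isolating (R S : Type u) [CommRing R] [CommRing S] [Algebra R S]
    [Algebra.FiniteType R S] (p : Ideal R) [p.IsPrime] (q : Ideal S) [q.IsPrime] [q.LiesOver p]
    (Q : Ideal (p.Fiber S)) [Q.IsPrime]
    (hQ : Q.comap (Algebra.TensorProduct.includeRight : S →ₐ[R] p.Fiber S) = q)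
    (I : Ideal S)
    (hI : Q ∈ (I.map (Algebra.TensorProduct.includeRight : S →ₐ[R] p.Fiber S)).minimalPrimes)
    (r : ℕ) (hr : Algebra.trdeg (R ⧸ p) (S ⧸ q) = r) :
    ∃ h : S, h ∉ q ∧ ∀ (q' : Ideal S) [q'.IsPrime] [q'.LiesOver p], I ≤ q' →
      (r : Cardinal) ≤ Algebra.trdeg (R ⧸ p) (S ⧸ q') → h ∉ q' → q' = q := by
  classical
  set incl : S →ₐ[R] p.Fiber S := Algebra.TensorProduct.includeRight with hincl
  haveI : IsNoetherianRing (p.Fiber S) :=
    Algebra.FiniteType.isNoetherianRing p.ResidueField (p.Fiber S)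
  set IT : Ideal (p.Fiber S) := I.map incl with hIT
  have hfin : IT.minimalPrimes.Finite := Ideal.finite_minimalPrimes_of_isNoetherianRing _ IT
  set Ms : Finset (Ideal (p.Fiber S)) := hfin.toFinset.erase Q with hMs
  -- prime avoidance
  have hnot : ¬ (Ms.inf id ≤ Q) := by
    intro hle
    obtain ⟨M, hM, hMQ⟩ := (Ideal.IsPrime.inf_le' (inferInstance : Q.IsPrime)).mp hle
    rw [hMs, Finset.mem_erase, Set.Finite.mem_toFinset] at hM
    have hQM : Q ≤ M := hI.2 hM.2.1 hMQ
    exact hM.1 (le_antisymm hMQ hQM)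
  obtain ⟨t, htM, htQ⟩ := SetLike.not_le_iff_exists.mp hnot
  obtain ⟨a, ha, h, hah⟩ := Ideal.Fiber.exists_smul_eq_one_tmul (p := p) t
  have hunit : IsUnit (algebraMap R (p.Fiber S) a) := by
    rw [IsScalarTower.algebraMap_apply R p.ResidueField (p.Fiber S)]
    apply IsUnit.map
    rw [isUnit_iff_ne_zero, Ne, Ideal.algebraMap_residueField_eq_zero]
    exact ha
  have hincl_h : incl h = (1 : p.ResidueField) ⊗ₜ[R] h := rfl
  have hmem_iff : ∀ (J : Ideal (p.Fiber S)), incl h ∈ J ↔ t ∈ J := by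
    intro J
    rw [hincl_h, ← hah, Algebra.smul_def]
    constructor
    · intro hJ
      have := J.mul_mem_left (↑hunit.unit⁻¹) hJ
      rwa [← mul_assoc, IsUnit.val_inv_mul, one_mul] at this
    · intro hJ
      exact J.mul_mem_left _ hJ
  refine ⟨h, ?_, ?_⟩
  · intro hq
    apply htQ
    rw [← hmem_iff]
    rw [← hQ] at hq
    exact hq
  · intro q' _ _ hIq' hrq' hhq'
    -- the prime of the fibre ring corresponding to q'
    let e := PrimeSpectrum.primesOverOrderIsoFiber R S p
    let Q'ps : PrimeSpectrum (p.Fiber S) := e ⟨q', inferInstance, inferInstance⟩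
    have hQ'c : Q'ps.asIdeal.comap incl = q' := by
      have := congrArg Subtype.val (e.symm_apply_apply ⟨q', inferInstance, inferInstance⟩)
      rw [PrimeSpectrum.coe_primesOverOrderIsoFiber_symm_apply] at this
      exact this
    haveI : Q'ps.asIdeal.IsPrime := Q'ps.isPrime
    have hITQ' : IT ≤ Q'ps.asIdeal := by
      rw [hIT, Ideal.map_le_iff_le_comap]
      intro s hs
      have : s ∈ Q'ps.asIdeal.comap incl := by rw [hQ'c]; exact hIq' hs
      exact this
    obtain ⟨M, hM, hMQ'⟩ := Ideal.exists_minimalPrimes_le hITQ'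
    have hMQ : M = Q := by
      by_contra hne
      have hMin : M ∈ Ms := by
        rw [hMs, Finset.mem_erase, Set.Finite.mem_toFinset]
        exact ⟨hne, hM⟩
      have h1 : t ∈ M := (Finset.inf_le hMin : Ms.inf id ≤ id M) htM
      have h2 : incl h ∈ Q'ps.asIdeal := hMQ' ((hmem_iff M).mpr h1)
      apply hhq'
      rw [← hQ'c]
      exact h2
    rw [hMQ] at hMQ'
    -- dimensions
    obtain ⟨n1, hn1, hn1'⟩ := Groth.Agent.Lib.CMDecompH8.dim_fibre_component_eq_trdeg R S p Q q
      hQ.symm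
    obtain ⟨n2, hn2, hn2'⟩ := Groth.Agent.Lib.CMDecompH8.dim_fibre_component_eq_trdeg R S p
      Q'ps.asIdeal q' hQ'c.symm
    have hn1r : n1 = r := by
      have : (n1 : Cardinal) = (r : Cardinal) := by rw [← hn1', hr]
      exact_mod_cast this
    have hrn2 : r ≤ n2 := by
      rw [hn2'] at hrq'
      exact_mod_cast hrq'
    rw [Groth.Agent.DimFT3H8.ringKrullDim_quotient_eq_coheight] at hn1 hn2
    have hc1 : Order.coheight (⟨Q, inferInstance⟩ : PrimeSpectrum (p.Fiber S)) = (n1 : ℕ∞) := by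
      exact_mod_cast hn1
    have hc2 : Order.coheight (⟨Q'ps.asIdeal, inferInstance⟩ : PrimeSpectrum (p.Fiber S)) =
        (n2 : ℕ∞) := by
      exact_mod_cast hn2
    have hQQ' : Q = Q'ps.asIdeal := by
      by_contra hne
      have hlt : (⟨Q, inferInstance⟩ : PrimeSpectrum (p.Fiber S)) <
          ⟨Q'ps.asIdeal, inferInstance⟩ := lt_of_le_of_ne hMQ' (fun h => hne (congrArg (·.asIdeal) h))
      have := Order.coheight_add_one_le hlt
      rw [hc1, hc2] at this
      have h3 : n2 + 1 ≤ n1 := by exact_mod_cast this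
      omega
    rw [← hQ'c, ← hQQ', hQ]

end Groth.Agent.Lib.QFNormH8
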