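import Mathlib
import Groth.Agent.Lib.CMDecomp4_helper8
import Groth.Agent.Lib.LocDim_helper8
import Groth.Agent.Lib.ResTrdegSpec_helper8

/-! Numerics for the local quasi-finite normalisation: transcendence degrees and heights. -/

universe u

namespace Groth.Agent.Lib.QFNormH8

open TensorProduct

variable (R S : Type u) [CommRing R] [CommRing S] [Algebra R S]
  (p : Ideal R) [p.IsPrime] (q : Ideal S) [q.IsPrime] [q.LiesOver p]

theorem trdeg_residueField_eq [Algebra (Localization.AtPrime p) (Localization.AtPrime q)]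
    [Localization.AtPrime.IsLiesOverAlgebra p q] :
    Algebra.trdeg p.ResidueField q.ResidueField = Algebra.trdeg (R ⧸ p) (S ⧸ q) := by
  apply Groth.Agent.Lib.ResTrdegSpecH8.trdeg_eq_of_fraction_square
    (algebraMap (R ⧸ p) p.ResidueField) (algebraMap (S ⧸ q) q.ResidueField)
  · exact FaithfulSMul.algebraMap_injective _ _
  · exact p.injective_algebraMap_quotient_residueField
  · exact q.injective_algebraMap_quotient_residueField
  · intro x
    obtain ⟨a, rfl⟩ := Ideal.Quotient.mk_surjective x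
    simp [RingHom.algebraMap_toAlgebra, ← IsScalarTower.algebraMap_apply]
  · intro y
    obtain ⟨⟨a, t⟩, h⟩ := IsLocalization.surj (nonZeroDivisors (R ⧸ p)) y
    exact ⟨a, t.1, nonZeroDivisors.ne_zero t.2, h⟩
  · intro y
    obtain ⟨⟨a, t⟩, h⟩ := IsLocalization.surj (nonZeroDivisors (S ⧸ q)) y
    exact ⟨a, t.1, nonZeroDivisors.ne_zero t.2, h⟩

theorem height_add_eq [Algebra.FiniteType R S] (Q : PrimeSpectrum (p.Fiber S))
    (hQ : Q.asIdeal.comap (Algebra.TensorProduct.includeRight : S →ₐ[R] p.Fiber S) = q)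
    (n r : ℕ) (hdim : FlatMor.localDim (PrimeSpectrum (p.Fiber S)) Q = (n : WithBot ℕ∞))
    (hr : Algebra.trdeg (R ⧸ p) (S ⧸ q) = r) :
    Q.asIdeal.height + (r : ℕ∞) = n := by
  obtain ⟨n1, hn1, hn1'⟩ := Groth.Agent.Lib.CMDecompH8.dim_fibre_component_eq_trdeg R S p
    Q.asIdeal q hQ.symm
  have hn1r : n1 = r := by
    have : (n1 : Cardinal) = (r : Cardinal) := by rw [← hn1', hr]
    exact_mod_cast this
  haveI : Algebra.FiniteType p.ResidueField (p.Fiber S ⧸ Q.asIdeal) :=
    Algebra.FiniteType.of_surjective (Ideal.Quotient.mkₐ p.ResidueField Q.asIdeal)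
      (Ideal.Quotient.mkₐ_surjective _ _)
  obtain ⟨m, -, hm2, hm3, -⟩ :=
    Groth.Agent.DimFTH8.exists_dim_eq p.ResidueField (p.Fiber S ⧸ Q.asIdeal)
  have hmr : m = r := by
    have : (m : WithBot ℕ∞) = (n1 : WithBot ℕ∞) := by rw [← hm3, hn1]
    have : m = n1 := by exact_mod_cast this
    omega
  rw [hmr] at hm2
  have h3 := Groth.Agent.LocDimH8.localDim_primeSpectrum p.ResidueField (p.Fiber S) Q r hm2
  rw [hdim] at h3
  have h4 : ((n : ℕ∞) : WithBot ℕ∞) = ((Q.asIdeal.height + (r : ℕ∞) : ℕ∞) : WithBot ℕ∞) := by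
    exact_mod_cast h3
  exact (WithBot.coe_inj.mp h4).symm

end Groth.Agent.Lib.QFNormH8
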