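import Mathlib

/-! Choice of parameters: a transcendence basis modulo `q` and a system of parameters of the fibre
local ring. -/

universe u

namespace Groth.Agent.Lib.QFNormH8

open TensorProduct

theorem exists_params (R S : Type u) [CommRing R] [CommRing S] [Algebra R S]
    [Algebra.FiniteType R S] (p : Ideal R) [p.IsPrime] (q : Ideal S) [q.IsPrime] [q.LiesOver p]
    (Q : PrimeSpectrum (p.Fiber S))
    (hQ : Q.asIdeal.comap (Algebra.TensorProduct.includeRight : S →ₐ[R] p.Fiber S) = q)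
    (n r : ℕ) (hh : Q.asIdeal.height + (r : ℕ∞) = n)
    (hr : Algebra.trdeg (R ⧸ p) (S ⧸ q) = r) :
    ∃ (hrn : r ≤ n) (y : Fin n → S), (∀ i : Fin n, r ≤ (i : ℕ) → y i ∈ q) ∧
      Q.asIdeal ∈ ((Ideal.span (Set.range fun i : {i : Fin n // r ≤ (i : ℕ)} => y i)).map
        (Algebra.TensorProduct.includeRight : S →ₐ[R] p.Fiber S)).minimalPrimes ∧
      AlgebraicIndependent (R ⧸ p)
        (fun i : Fin r => Ideal.Quotient.mk q (y (Fin.castLE hrn i))) := by
  classical
  set incl : S →ₐ[R] p.Fiber S := Algebra.TensorProduct.includeRight with hincl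
  have hrn : r ≤ n := by
    have : (r : ℕ∞) ≤ n := le_add_self.trans_eq hh
    exact_mod_cast this
  haveI : IsNoetherianRing (p.Fiber S) :=
    Algebra.FiniteType.isNoetherianRing p.ResidueField (p.Fiber S)
  obtain ⟨s, hs, hcard⟩ := Ideal.exists_finset_card_eq_height_of_isNoetherianRing Q.asIdeal
  have hsc : s.card = n - r := by
    rw [← hcard] at hh
    have : s.card + r = n := by exact_mod_cast hh
    omega
  let e : Fin (n - r) ≃ s := (s.equivFinOfCardEq hsc).symm
  have hex : ∀ j : Fin (n - r), ∃ a : R, a ∉ p ∧ ∃ h : S,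
      a • ((e j : p.Fiber S)) = (1 : p.ResidueField) ⊗ₜ[R] h := fun j =>
    Ideal.Fiber.exists_smul_eq_one_tmul (p := p) (e j : p.Fiber S)
  choose a ha hS hah using hex
  -- transcendence basis
  haveI : FaithfulSMul (R ⧸ p) (S ⧸ q) := inferInstance
  obtain ⟨B, hB⟩ := exists_isTranscendenceBasis (R ⧸ p) (S ⧸ q)
  have hBcard : Cardinal.mk B = r := by rw [hB.cardinalMk_eq_trdeg, hr]
  obtain ⟨eB⟩ : Nonempty (B ≃ Fin r) := Cardinal.mk_eq_nat_iff.mp hBcard
  have hz : AlgebraicIndependent (R ⧸ p) (fun i : Fin r => ((eB.symm i : B) : S ⧸ q)) :=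
    hB.1.comp eB.symm eB.symm.injective
  have hlift : ∀ i : Fin r, ∃ z' : S, Ideal.Quotient.mk q z' = ((eB.symm i : B) : S ⧸ q) :=
    fun i => Ideal.Quotient.mk_surjective _
  choose z' hz' using hlift
  let y : Fin n → S := fun i =>
    if h : (i : ℕ) < r then z' ⟨i, h⟩ else hS ⟨(i : ℕ) - r, by omega⟩
  have hy_ge : ∀ (i : Fin n) (hi : r ≤ (i : ℕ)), y i = hS ⟨(i : ℕ) - r, by omega⟩ := by
    intro i hi
    simp only [y]
    rw [dif_neg (by omega)]
  have hrange : (Set.range fun i : {i : Fin n // r ≤ (i : ℕ)} => y i) = Set.range hS := by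
    ext x
    constructor
    · rintro ⟨⟨i, hi⟩, rfl⟩
      exact ⟨_, (hy_ge i hi).symm⟩
    · rintro ⟨j, rfl⟩
      refine ⟨⟨⟨r + (j : ℕ), by omega⟩, by simp⟩, ?_⟩
      show y _ = _
      rw [hy_ge _ (by simp)]
      congr 1
      apply Fin.ext
      simp
  have hunit : ∀ j, IsUnit (algebraMap R (p.Fiber S) (a j)) := by
    intro j
    rw [IsScalarTower.algebraMap_apply R p.ResidueField (p.Fiber S)]
    apply IsUnit.map
    rw [isUnit_iff_ne_zero, Ne, Ideal.algebraMap_residueField_eq_zero]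
    exact ha j
  have hinclS : ∀ j, incl (hS j) = algebraMap R (p.Fiber S) (a j) * (e j : p.Fiber S) := by
    intro j
    rw [← Algebra.smul_def, hah j]
    rfl
  have hspan : (Ideal.span (Set.range hS)).map incl = Ideal.span (s : Set (p.Fiber S)) := by
    rw [Ideal.map_span]
    apply le_antisymm
    · rw [Ideal.span_le]
      rintro _ ⟨_, ⟨j, rfl⟩, rfl⟩
      show incl (hS j) ∈ _
      rw [hinclS j]
      exact Ideal.mul_mem_left _ _ (Ideal.subset_span (e j).2)
    · rw [Ideal.span_le]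
      intro x hx
      obtain ⟨j, hj⟩ := e.surjective ⟨x, hx⟩
      have hxj : x = (e j : p.Fiber S) := by rw [hj]
      have h1 : incl (hS j) ∈ Ideal.span ((incl : S → p.Fiber S) '' Set.range hS) :=
        Ideal.subset_span ⟨_, ⟨j, rfl⟩, rfl⟩
      have h2 := Ideal.mul_mem_left _ (↑(hunit j).unit⁻¹) h1
      rw [hinclS j, ← mul_assoc, IsUnit.val_inv_mul, one_mul] at h2
      rw [hxj]
      exact h2
  refine ⟨hrn, y, ?_, ?_, ?_⟩
  · intro i hi
    rw [hy_ge i hi, ← hQ]
    show incl (hS _) ∈ Q.asIdeal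
    rw [hinclS]
    exact Ideal.mul_mem_left _ _ (hs.1.2 (Ideal.subset_span (e _).2))
  · rw [hrange, hspan]
    exact hs
  · have : (fun i : Fin r => Ideal.Quotient.mk q (y (Fin.castLE hrn i))) =
        (fun i : Fin r => ((eB.symm i : B) : S ⧸ q)) := by
      funext i
      simp only [y]
      rw [dif_pos (by simp), ← hz' i]
      rfl
    rw [this]
    exact hz

end Groth.Agent.Lib.QFNormH8
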