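import Mathlib

/-! From quasi-finiteness at a prime to quasi-finiteness on a basic open neighbourhood. -/

universe u

namespace Groth.Agent.Lib.QFNormH8

theorem exists_away_quasiFinite (R' S : Type u) [CommRing R'] [CommRing S] [Algebra R' S]
    [Algebra.FiniteType R' S] (q : Ideal S) [q.IsPrime] [Algebra.QuasiFiniteAt R' q] :
    ∃ g : S, g ∉ q ∧ Algebra.QuasiFinite R' (Localization.Away g) := by
  obtain ⟨S', hS', r, hrp, H⟩ :=
    Algebra.QuasiFiniteAt.exists_fg_and_exists_notMem_and_awayMap_bijective (R := R') q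
  haveI : Module.Finite R' S' := ⟨(Submodule.fg_top _).mpr hS'⟩
  haveI : Algebra.QuasiFinite R' (Localization.Away r) := .trans _ S' _
  exact ⟨r.1, hrp, .of_surjective_algHom (Localization.awayMapₐ S'.val r) H.2⟩

theorem quasiFiniteAt_of_isolated (R' S : Type u) [CommRing R'] [CommRing S] [Algebra R' S]
    [Algebra.FiniteType R' S] (q : Ideal S) [hq : q.IsPrime] (h : S) (hh : h ∉ q)
    (hiso : ∀ q' : PrimeSpectrum S, q'.asIdeal.comap (algebraMap R' S) = q.comap (algebraMap R' S) →
      h ∉ q'.asIdeal → q'.asIdeal = q) :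
    Algebra.QuasiFiniteAt R' q := by
  refine Algebra.QuasiFiniteAt.of_isOpen_singleton_fiber (R := R') (⟨q, hq⟩ : PrimeSpectrum S) ?_
  rw [isOpen_induced_iff]
  refine ⟨PrimeSpectrum.basicOpen h, (PrimeSpectrum.basicOpen h).isOpen, ?_⟩
  ext ⟨q', hq'⟩
  simp only [Set.mem_preimage, Set.mem_singleton_iff, Subtype.mk.injEq]
  constructor
  · intro hmem
    apply PrimeSpectrum.ext
    refine hiso q' ?_ hmem
    have := congrArg PrimeSpectrum.asIdeal hq'
    exact this
  · intro he
    rw [he]
    exact hh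

end Groth.Agent.Lib.QFNormH8
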