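import Mathlib
import Groth.Agent.Lib.QFNorm1_helper8
import Groth.Agent.Lib.QFNorm2_helper8
import Groth.Agent.Lib.QFNorm3_helper8
import Groth.Agent.Lib.QFNorm4_helper8
import Groth.Agent.Lib.QFNorm5_helper8

/-! Local quasi-finite normalisation with prescribed contraction, polynomial ring over `R`. -/

universe u

namespace Groth.Agent.Lib.QFNormH8

open TensorProduct MvPolynomial

theorem exists_qf_param (R S : Type u) [CommRing R] [CommRing S] [Algebra R S]
    [Algebra.FiniteType R S] (p : Ideal R) [p.IsPrime] (q : Ideal S) [q.IsPrime] [q.LiesOver p]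
    [Algebra (Localization.AtPrime p) (Localization.AtPrime q)]
    [Localization.AtPrime.IsLiesOverAlgebra p q] (Q : PrimeSpectrum (p.Fiber S))
    (hQ : Q.asIdeal.comap (Algebra.TensorProduct.includeRight.toRingHom) = q) (n r : ℕ)
    (hdim : FlatMor.localDim (PrimeSpectrum (p.Fiber S)) Q = (n : WithBot ℕ∞))
    (hr : Algebra.trdeg p.ResidueField q.ResidueField = r) :
    ∃ (g : S) (ψ : MvPolynomial (Fin n) R →ₐ[R] S), g ∉ q ∧
      ((algebraMap S (Localization.Away g)).comp ψ.toRingHom).QuasiFinite ∧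
      q.comap ψ.toRingHom = P₀ p n r := by
  have hQ' : Q.asIdeal.comap (Algebra.TensorProduct.includeRight : S →ₐ[R] p.Fiber S) = q := hQ
  have hr' : Algebra.trdeg (R ⧸ p) (S ⧸ q) = r := (trdeg_residueField_eq R S p q).symm.trans hr
  have hh := height_add_eq R S p q Q hQ' n r hdim hr'
  obtain ⟨hrn, y, hy1, hy2, hy3⟩ := exists_params R S p q Q hQ' n r hh hr'
  obtain ⟨h, hhq, hiso⟩ := exists_isolating R S p q Q.asIdeal hQ'
    (Ideal.span (Set.range fun i : {i : Fin n // r ≤ (i : ℕ)} => y i)) hy2 r hr'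
  have hP : q.comap (aeval y : MvPolynomial (Fin n) R →ₐ[R] S).toRingHom = P₀ p n r :=
    comap_eq_P₀ p n r y q hrn hy1 hy3
  letI algR' : Algebra (MvPolynomial (Fin n) R) S :=
    (aeval y : MvPolynomial (Fin n) R →ₐ[R] S).toRingHom.toAlgebra
  haveI : IsScalarTower R (MvPolynomial (Fin n) R) S :=
    IsScalarTower.of_algebraMap_eq fun a =>
      ((aeval y : MvPolynomial (Fin n) R →ₐ[R] S).commutes a).symm
  haveI : Algebra.FiniteType (MvPolynomial (Fin n) R) S :=
    Algebra.FiniteType.of_restrictScalars_finiteType R (MvPolynomial (Fin n) R) S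
  haveI : Algebra.QuasiFiniteAt (MvPolynomial (Fin n) R) q := by
    refine quasiFiniteAt_of_isolated (MvPolynomial (Fin n) R) S q h hhq ?_
    intro q' hq' hhq'
    have hq'c : q'.asIdeal.comap (aeval y : MvPolynomial (Fin n) R →ₐ[R] S).toRingHom =
        P₀ p n r := hq'.trans hP
    have hy' : ∀ i : Fin n, r ≤ (i : ℕ) → y i ∈ q'.asIdeal := by
      intro i hi
      have h1 : (X i : MvPolynomial (Fin n) R) ∈ P₀ p n r :=
        (le_sup_right : _ ≤ P₀ p n r) (Ideal.subset_span ⟨⟨i, hi⟩, rfl⟩)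
      rw [← hq'c, Ideal.mem_comap] at h1
      simpa using h1
    haveI : q'.asIdeal.LiesOver p := by
      constructor
      ext a
      rw [Ideal.under_def, Ideal.mem_comap]
      have h1 : algebraMap R S a = (aeval y : MvPolynomial (Fin n) R →ₐ[R] S).toRingHom (C a) := by
        simp
      rw [h1, ← Ideal.mem_comap, hq'c, ← ker_θ p n r hrn, RingHom.mem_ker]
      show a ∈ p ↔ θ p n r (C a) = 0
      rw [θ_C, map_eq_zero_iff _ (C_injective _ _), Ideal.Quotient.eq_zero_iff_mem]
    have hind := algebraicIndependent_of_comap_eq p n r y q'.asIdeal hrn hy' hq'c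
    have hcard : (r : Cardinal) ≤ Algebra.trdeg (R ⧸ p) (S ⧸ q'.asIdeal) := by
      have := hind.lift_cardinalMk_le_trdeg
      simpa using this
    refine hiso q'.asIdeal ?_ hcard hhq'
    rw [Ideal.span_le]
    rintro _ ⟨i, rfl⟩
    exact hy' i.1 i.2
  obtain ⟨g, hg, hqf⟩ := exists_away_quasiFinite (MvPolynomial (Fin n) R) S q
  refine ⟨g, aeval y, hg, ?_, hP⟩
  have h1 : (algebraMap S (Localization.Away g)).comp
      (aeval y : MvPolynomial (Fin n) R →ₐ[R] S).toRingHom =
      algebraMap (MvPolynomial (Fin n) R) (Localization.Away g) :=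
    (IsScalarTower.algebraMap_eq (MvPolynomial (Fin n) R) S (Localization.Away g)).symm
  rw [h1]
  exact RingHom.quasiFinite_algebraMap.mpr hqf

end Groth.Agent.Lib.QFNormH8
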