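import Mathlib
import Groth.Agent.Lib.QFNorm6_helper8

/-! Local quasi-finite normalisation with prescribed contraction: final form (S9181). -/

universe u

namespace Groth.Agent.Lib.QFNormH8

open TensorProduct MvPolynomial

theorem main9181 (R S : Type u) [CommRing R] [CommRing S]
    [Algebra R S] [Algebra.FiniteType R S] (p : Ideal R) [p.IsPrime] (q : Ideal S) [q.IsPrime] [q.LiesOver p]
    [Algebra (Localization.AtPrime p) (Localization.AtPrime q)]
    [Localization.AtPrime.IsLiesOverAlgebra p q] (Q : PrimeSpectrum (p.Fiber S))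
    (hQ : Q.asIdeal.comap (Algebra.TensorProduct.includeRight.toRingHom) = q) (n r : ℕ)
    (hdim : FlatMor.localDim (PrimeSpectrum (p.Fiber S)) Q = (n : WithBot ℕ∞))
    (hr : Algebra.trdeg p.ResidueField q.ResidueField = r) :
    ∃ (f : R) (g : S), f ∉ p ∧ g ∉ q ∧
      ∃ φ : MvPolynomial (Fin n) (Localization.Away f) →ₐ[R] Localization.Away g,
        φ.toRingHom.FiniteType ∧ φ.toRingHom.QuasiFinite ∧
        (q.map (algebraMap S (Localization.Away g))).comap φ =
          p.map (algebraMap R (MvPolynomial (Fin n) (Localization.Away f))) ⊔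
            Ideal.span (Set.range fun i : {i : Fin n // r ≤ (i : ℕ)} =>
              (MvPolynomial.X (i : Fin n) : MvPolynomial (Fin n) (Localization.Away f))) := by
  obtain ⟨g, ψ, hg, hqf, hP⟩ := exists_qf_param R S p q Q hQ n r hdim hr
  refine ⟨1, g, fun h => (Ideal.IsPrime.ne_top inferInstance) ((Ideal.eq_top_iff_one p).mpr h), hg, ?_⟩
  let e₁ : R ≃ₐ[R] Localization.Away (1 : R) :=
    IsLocalization.atUnits R (Submonoid.powers (1 : R)) (by
      rintro _ ⟨k, rfl⟩
      simp)
  let ι : MvPolynomial (Fin n) R ≃ₐ[R] MvPolynomial (Fin n) (Localization.Away (1 : R)) :=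
    MvPolynomial.mapAlgEquiv (Fin n) e₁
  let ψg : MvPolynomial (Fin n) R →ₐ[R] Localization.Away g :=
    (IsScalarTower.toAlgHom R S (Localization.Away g)).comp ψ
  have hψg : ψg.toRingHom = (algebraMap S (Localization.Away g)).comp ψ.toRingHom := rfl
  let φ : MvPolynomial (Fin n) (Localization.Away (1 : R)) →ₐ[R] Localization.Away g :=
    ψg.comp ι.symm.toAlgHom
  have hφ : φ.toRingHom = ψg.toRingHom.comp ι.symm.toRingEquiv.toRingHom := rfl
  refine ⟨φ, ?_, ?_, ?_⟩
  · have h1 : (φ.toRingHom.comp (algebraMap R (MvPolynomial (Fin n) (Localization.Away (1 : R))))).FiniteType := by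
      have h2 : φ.toRingHom.comp (algebraMap R (MvPolynomial (Fin n) (Localization.Away (1 : R)))) =
          algebraMap R (Localization.Away g) := by
        ext a
        exact φ.commutes a
      rw [h2]
      haveI : Algebra.FiniteType S (Localization.Away g) :=
        IsLocalization.finiteType_of_monoid_fg (Submonoid.powers g) _
      exact (RingHom.finiteType_algebraMap).mpr (Algebra.FiniteType.trans (R := R) (S := S)
        (A := Localization.Away g) inferInstance inferInstance)
    exact RingHom.FiniteType.of_comp_finiteType h1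
  · rw [hφ, hψg]
    exact RingHom.QuasiFinite.respectsIso.2 _ ι.symm.toRingEquiv hqf
  · have hdisj : Disjoint (Submonoid.powers g : Set S) (q : Set S) := by
      rw [Set.disjoint_left]
      rintro _ ⟨k, rfl⟩ hk
      exact hg (Ideal.IsPrime.mem_of_pow_mem inferInstance k hk)
    have hc1 : (q.map (algebraMap S (Localization.Away g))).comap
        (algebraMap S (Localization.Away g)) = q :=
      IsLocalization.under_map_of_isPrime_disjoint (Submonoid.powers g) (Localization.Away g)
        inferInstance hdisj
    have hc2 : (q.map (algebraMap S (Localization.Away g))).comap φ =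
        (((q.map (algebraMap S (Localization.Away g))).comap
          (algebraMap S (Localization.Away g))).comap ψ.toRingHom).comap
            ι.symm.toRingEquiv.toRingHom := rfl
    rw [hc2, hc1, hP]
    have hc3 : (P₀ p n r).comap ι.symm.toRingEquiv.toRingHom =
        (P₀ p n r).map ι.toRingEquiv.toRingHom := by
      exact Ideal.comap_symm ι.toRingEquiv
    rw [hc3]
    unfold P₀
    rw [Ideal.map_sup, Ideal.map_map, Ideal.map_span]
    congr 1
    · congr 1
      refine RingHom.ext fun a => ?_
      exact ι.commutes a
    · congr 1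
      ext x
      constructor
      · rintro ⟨_, ⟨i, rfl⟩, rfl⟩
        exact ⟨i, by simp [ι]⟩
      · rintro ⟨i, rfl⟩
        exact ⟨_, ⟨i, rfl⟩, by simp [ι]⟩

end Groth.Agent.Lib.QFNormH8
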