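import Mathlib

/-!
# Quasi-finite quotients of local rings essentially of finite type (helper3)

`A → B` local, `B` essentially of finite type over Noetherian `A`, finite residue field extension.
A prime `q` of `B` maximal among those of an open set not lying over `𝔪_A` has `B/q` quasi-finite
over `A`.
APPEND-ONLY once landed.
-/

set_option autoImplicit false
universe u

namespace Groth.Agent.Lib.QFPrimeH3

open IsLocalRing

section DimOne

/-- A Noetherian local domain in which every nonzero prime contains a fixed nonzero element has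
only the two primes `0` and the maximal ideal. -/
theorem eq_maximalIdeal_of_forall_mem {D : Type*} [CommRing D] [IsDomain D] [IsNoetherianRing D]
    [IsLocalRing D] (h : D) (hh : h ≠ 0)
    (hall : ∀ P : Ideal D, P.IsPrime → P ≠ ⊥ → h ∈ P) (Q : Ideal D) [hQp : Q.IsPrime]
    (hQ : Q ≠ ⊥) : Q = maximalIdeal D := by
  classical
  by_contra hne
  have hQm : Q < maximalIdeal D := lt_of_le_of_ne (le_maximalIdeal hQp.ne_top) hne
  have hfin : (Ideal.span {h}).minimalPrimes.Finite :=
    Ideal.finite_minimalPrimes_of_isNoetherianRing D _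
  have hhQ : Ideal.span {h} ≤ Q := (Ideal.span_singleton_le_iff_mem Q).2 (hall Q hQp hQ)
  -- the maximal ideal is not minimal over `(h)`
  have hmM : maximalIdeal D ∉ (Ideal.span {h}).minimalPrimes := by
    intro hm
    exact absurd (hm.2 ⟨hQp, hhQ⟩ hQm.le) (not_le_of_gt hQm)
  -- prime avoidance
  have havoid : ¬ ((maximalIdeal D : Set D) ⊆ ⋃ P ∈ (hfin.toFinset : Set (Ideal D)), P) := by
    intro hsub
    obtain ⟨P, hP, hle⟩ := (Ideal.subset_union_prime (R := D) (s := hfin.toFinset)
      (f := fun P => P) (maximalIdeal D) (maximalIdeal D)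
      (fun P hP _ _ => ((hfin.mem_toFinset).1 hP).1.1)).1 hsub
    have hPmem := (hfin.mem_toFinset).1 hP
    have hPeq : P = maximalIdeal D :=
      le_antisymm (le_maximalIdeal hPmem.1.1.ne_top) hle
    exact hmM (hPeq ▸ hPmem)
  obtain ⟨x, hxm, hxP⟩ := Set.not_subset.1 havoid
  have hxP' : ∀ P ∈ (Ideal.span {h}).minimalPrimes, x ∉ P := by
    intro P hP hx
    apply hxP
    exact Set.mem_biUnion (show P ∈ (hfin.toFinset : Set (Ideal D)) from
      Finset.mem_coe.2 ((hfin.mem_toFinset).2 hP)) hx
  have hxle : Ideal.span {x} ≤ maximalIdeal D := (Ideal.span_singleton_le_iff_mem _).2 hxm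
  obtain ⟨P'', hP''min, -⟩ := Ideal.exists_minimalPrimes_le hxle
  haveI hP''p : P''.IsPrime := hP''min.1.1
  have hht : P''.height ≤ 1 :=
    Ideal.height_le_one_of_isPrincipal_of_mem_minimalPrimes (Ideal.span {x}) P'' hP''min
  have hxP'' : x ∈ P'' := hP''min.1.2 (Ideal.mem_span_singleton_self x)
  -- some minimal prime over `(h)` is contained in `Q`, so `x ≠ 0`
  obtain ⟨P₀, hP₀, -⟩ := Ideal.exists_minimalPrimes_le hhQ
  have hx0 : x ≠ 0 := fun h0 => hxP' P₀ hP₀ (h0 ▸ P₀.zero_mem)
  have hP''ne : P'' ≠ ⊥ := fun hb => hx0 (by rw [hb] at hxP''; exact hxP'')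
  have hhP'' : Ideal.span {h} ≤ P'' :=
    (Ideal.span_singleton_le_iff_mem _).2 (hall P'' hP''p hP''ne)
  obtain ⟨P₁, hP₁, hP₁le⟩ := Ideal.exists_minimalPrimes_le hhP''
  haveI hP₁p : P₁.IsPrime := hP₁.1.1
  have hP₁ne : P₁ ≠ ⊥ := fun hb =>
    hh (by
      have : h ∈ P₁ := hP₁.1.2 (Ideal.mem_span_singleton_self h)
      rw [hb] at this
      exact this)
  have hlt : P₁ < P'' := lt_of_le_of_ne hP₁le (fun he => hxP' P₁ hP₁ (he ▸ hxP''))
  haveI : (⊥ : Ideal D).IsPrime := Ideal.isPrime_bot
  have h1 : (⊥ : Ideal D).height + 1 ≤ P₁.height :=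
    Ideal.height_add_one_le_of_lt_of_isPrime (bot_lt_iff_ne_bot.2 hP₁ne)
  have h2 : P₁.height + 1 ≤ P''.height := Ideal.height_add_one_le_of_lt_of_isPrime hlt
  have h3 : (2 : ℕ∞) ≤ P''.height := by
    calc (2 : ℕ∞) = 0 + 1 + 1 := by norm_num
      _ ≤ (⊥ : Ideal D).height + 1 + 1 := by gcongr; exact bot_le
      _ ≤ P₁.height + 1 := by gcongr
      _ ≤ P''.height := h2
  have : (2 : ℕ∞) ≤ 1 := h3.trans hht
  norm_num at this

end DimOne

section Finite

/-- A finite module killed by an ideal `I` is finite over `A` as soon as `B'/I` is. -/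
theorem finite_of_torsion (A B' M : Type*) [CommRing A] [CommRing B'] [Algebra A B']
    [AddCommGroup M] [Module B' M] [Module A M] [IsScalarTower A B' M] [Module.Finite B' M]
    (I : Ideal B') (hI : ∀ b ∈ I, ∀ x : M, b • x = 0) [Module.Finite A (B' ⧸ I)] :
    Module.Finite A M := by
  classical
  obtain ⟨n, f, hf⟩ := Module.Finite.exists_fin' B' M
  let φ : Fin n → (B' ⧸ I) →ₗ[A] M := fun i =>
    (Submodule.liftQ (I.restrictScalars A)
      ((LinearMap.toSpanSingleton B' M (f (Pi.single i 1))).restrictScalars A) (by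
        intro b hb
        rw [LinearMap.mem_ker]
        exact hI b hb _)).comp
      (Submodule.Quotient.restrictScalarsEquiv A I).symm.toLinearMap
  have hφ : ∀ i (b : B'), φ i (Ideal.Quotient.mk I b) = b • f (Pi.single i 1) := by
    intro i b
    rfl
  let Φ : (Fin n → B' ⧸ I) →ₗ[A] M := ∑ i, (φ i).comp (LinearMap.proj i)
  have hΦ : Function.Surjective Φ := by
    intro x
    obtain ⟨c, rfl⟩ := hf x
    refine ⟨fun i => Ideal.Quotient.mk I (c i), ?_⟩
    have hc : c = ∑ i, c i • (Pi.single i (1 : B') : Fin n → B') := by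
      ext j
      simp [Finset.sum_apply, Pi.single_apply]
    conv_rhs => rw [hc, map_sum]
    simp only [Φ, LinearMap.sum_apply, LinearMap.comp_apply, LinearMap.proj_apply, hφ, map_smul]
  exact Module.Finite.of_surjective Φ hΦ

/-- A quotient of a Noetherian local ring by an ideal containing a power of the maximal ideal is
finite over `A` as soon as the residue field is. -/
theorem finite_quotient_of_pow_le (A B' : Type*) [CommRing A] [CommRing B'] [Algebra A B']
    [IsLocalRing B'] [IsNoetherianRing B'] [hres : Module.Finite A (B' ⧸ maximalIdeal B')]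
    (J : Ideal B') (N : ℕ) (hJ : maximalIdeal B' ^ N ≤ J) : Module.Finite A (B' ⧸ J) := by
  have key : ∀ N : ℕ, Module.Finite A (B' ⧸ maximalIdeal B' ^ N) := by
    intro N
    induction N with
    | zero =>
      rw [pow_zero, Ideal.one_eq_top]
      haveI : Subsingleton (B' ⧸ (⊤ : Ideal B')) := Ideal.Quotient.subsingleton_iff.2 rfl
      infer_instance
    | succ N ih =>
      haveI := ih
      let π : (B' ⧸ maximalIdeal B' ^ (N + 1)) →ₐ[B'] (B' ⧸ maximalIdeal B' ^ N) :=
        Ideal.Quotient.factorₐ B' (Ideal.pow_le_pow_right (Nat.le_succ N))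
      have hπ : Function.Surjective π :=
        Ideal.Quotient.factor_surjective (Ideal.pow_le_pow_right (Nat.le_succ N))
      let K : Submodule B' (B' ⧸ maximalIdeal B' ^ (N + 1)) := LinearMap.ker π.toLinearMap
      haveI : Module.Finite B' K := Module.Finite.of_injective K.subtype K.injective_subtype
      haveI hK : Module.Finite A K := by
        refine finite_of_torsion A B' K (maximalIdeal B') ?_
        intro b hb x
        obtain ⟨y, hy⟩ := x
        obtain ⟨z, rfl⟩ := Ideal.Quotient.mk_surjective y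
        apply Subtype.ext
        have hz : z ∈ maximalIdeal B' ^ N := by
          have : π (Ideal.Quotient.mk _ z) = 0 := hy
          rwa [Ideal.Quotient.factorₐ_apply_mk, Ideal.Quotient.eq_zero_iff_mem] at this
        show b • (Ideal.Quotient.mk (maximalIdeal B' ^ (N + 1)) z) = 0
        rw [Algebra.smul_def, Ideal.Quotient.algebraMap_eq, ← map_mul,
          Ideal.Quotient.eq_zero_iff_mem, pow_succ']
        exact Ideal.mul_mem_mul hb hz
      let KA : Submodule A (B' ⧸ maximalIdeal B' ^ (N + 1)) := K.restrictScalars A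
      haveI : Module.Finite A KA := hK
      let πA : (B' ⧸ maximalIdeal B' ^ (N + 1)) →ₗ[A] (B' ⧸ maximalIdeal B' ^ N) :=
        π.toLinearMap.restrictScalars A
      have hker : LinearMap.ker πA = KA := by
        ext x
        rfl
      haveI : Module.Finite A ((B' ⧸ maximalIdeal B' ^ (N + 1)) ⧸ KA) := by
        have e := LinearMap.quotKerEquivOfSurjective πA hπ
        rw [hker] at e
        exact Module.Finite.equiv e.symm
      exact Module.Finite.of_submodule_quotient KA
  haveI := key N
  exact Module.Finite.of_surjective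
    ((Ideal.Quotient.factorₐ B' hJ).toLinearMap.restrictScalars A)
    (Ideal.Quotient.factor_surjective hJ)

end Finite

section ZMT

/-- A localization at a prime of a finite type algebra whose closed fibre is finite is
quasi-finite (via Zariski's main theorem in Mathlib). -/
theorem quasiFinite_of_isLocalization (A C' B' : Type u) [CommRing A] [CommRing C']
    [CommRing B'] [Algebra A C'] [Algebra.FiniteType A C'] [Algebra C' B'] [Algebra A B']
    [IsScalarTower A C' B'] (n : Ideal C') [n.IsPrime] [IsLocalization.AtPrime B' n]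
    (hfin : Module.Finite A (B' ⧸ (n.under A).map (algebraMap A B'))) :
    Algebra.QuasiFinite A B' := by
  let e : Localization.AtPrime n ≃ₐ[C'] B' := IsLocalization.algEquiv n.primeCompl _ _
  let eA : Localization.AtPrime n ≃ₐ[A] B' := e.restrictScalars A
  have h1 : Algebra.QuasiFinite A (Localization.AtPrime n ⧸
      (n.under A).map (algebraMap A (Localization.AtPrime n))) := by
    let e2 : (Localization.AtPrime n ⧸ (n.under A).map (algebraMap A (Localization.AtPrime n)))
        ≃ₐ[A] (B' ⧸ (n.under A).map (algebraMap A B')) :=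
      Ideal.quotientEquivAlg _ _ eA (by
        rw [Ideal.map_map]
        congr 1
        refine RingHom.ext fun a => ?_
        exact (eA.commutes a).symm)
    haveI := hfin
    haveI : Module.Finite A (Localization.AtPrime n ⧸
        (n.under A).map (algebraMap A (Localization.AtPrime n))) :=
      Module.Finite.equiv e2.symm.toLinearEquiv
    infer_instance
  haveI : Algebra.WeaklyQuasiFiniteAt A n := (Algebra.weaklyQuasiFiniteAt_iff n).2 h1
  have h2 : Algebra.QuasiFiniteAt A n := Algebra.QuasiFiniteAt.of_weaklyQuasiFiniteAt n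
  exact (Algebra.QuasiFinite.iff_of_algEquiv eA).1 h2

/-- A local ring essentially of finite type over `A` whose closed fibre is finite over `A` is
quasi-finite over `A`. -/
theorem quasiFinite_of_local (A B' : Type u) [CommRing A] [CommRing B'] [IsLocalRing B']
    [Algebra A B'] [Algebra.EssFiniteType A B']
    (hfin : Module.Finite A (B' ⧸ ((maximalIdeal B').under A).map (algebraMap A B'))) :
    Algebra.QuasiFinite A B' := by
  obtain ⟨n, hn⟩ : ∃ n : Ideal (Algebra.EssFiniteType.subalgebra A B'),
      n = (maximalIdeal B').comap (algebraMap (Algebra.EssFiniteType.subalgebra A B') B') :=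
    ⟨_, rfl⟩
  haveI : n.IsPrime := by rw [hn]; exact Ideal.comap_isPrime _ _
  haveI : IsLocalization.AtPrime B' n := by
    have h := Algebra.EssFiniteType.isLocalization A B'
    have hM : Algebra.EssFiniteType.submonoid A B' = n.primeCompl := by
      ext c
      rw [Ideal.mem_primeCompl_iff, hn, Ideal.mem_comap, mem_maximalIdeal, mem_nonunits_iff,
        not_not]
      exact Iff.rfl
    rw [hM] at h
    exact h
  refine quasiFinite_of_isLocalization A (Algebra.EssFiniteType.subalgebra A B') B' n ?_
  have hu : n.under A = (maximalIdeal B').under A := by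
    rw [hn, Ideal.under, Ideal.under, Ideal.comap_comap, ← IsScalarTower.algebraMap_eq]
  rw [hu]
  exact hfin

end ZMT

section Main

variable {A B : Type u} [CommRing A] [CommRing B] [IsLocalRing A] [IsLocalRing B]
  [IsNoetherianRing A] [Algebra A B] [IsLocalHom (algebraMap A B)] [Algebra.EssFiniteType A B]
  [Module.Finite (ResidueField A) (ResidueField B)]

set_option maxHeartbeats 1600000 in
set_option synthInstance.maxHeartbeats 400000 in
theorem main (V : Set (PrimeSpectrum B)) (hV : IsOpen V)
    (hne : ∃ q ∈ V, q.asIdeal.comap (algebraMap A B) ≠ maximalIdeal A) :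
    ∃ q ∈ V, q.asIdeal.comap (algebraMap A B) ≠ maximalIdeal A ∧
      Algebra.QuasiFinite A (B ⧸ q.asIdeal) := by
  classical
  haveI : IsNoetherianRing B := Algebra.EssFiniteType.isNoetherianRing A B
  obtain ⟨q₀, hq₀V, hq₀⟩ := hne
  obtain ⟨_, ⟨g, rfl⟩, hg₀, hgV⟩ :=
    PrimeSpectrum.isTopologicalBasis_basic_opens.exists_subset_of_mem_open hq₀V hV
  have hSig : ({I | I.IsPrime ∧ g ∉ I ∧ I.comap (algebraMap A B) ≠ maximalIdeal A} :
      Set (Ideal B)).Nonempty := ⟨q₀.asIdeal, q₀.isPrime, hg₀, hq₀⟩
  obtain ⟨(q : Ideal B), ⟨hqp, hgq, hqA⟩, hmax⟩ :=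
    set_has_maximal_iff_noetherian.2 (inferInstance : IsNoetherian B B) _ hSig
  haveI := hqp
  refine ⟨⟨q, hqp⟩, hgV hgq, hqA, ?_⟩
  have hle : Ideal.comap (algebraMap A B) q ≤ maximalIdeal A :=
    le_maximalIdeal (Ideal.comap_isPrime (algebraMap A B) q).ne_top
  obtain ⟨a, ham, haq⟩ : ∃ a ∈ maximalIdeal A, a ∉ Ideal.comap (algebraMap A B) q := by
    by_contra hcon
    push_neg at hcon
    exact hqA (le_antisymm hle hcon)
  haveI : Nontrivial (B ⧸ q) := Ideal.Quotient.nontrivial_iff.2 hqp.ne_top
  haveI : IsLocalRing (B ⧸ q) :=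
    IsLocalRing.of_surjective' (Ideal.Quotient.mk q) Ideal.Quotient.mk_surjective
  haveI hlq : IsLocalHom (Ideal.Quotient.mk q) :=
    IsLocalHom.of_surjective (Ideal.Quotient.mk q) Ideal.Quotient.mk_surjective
  haveI : Algebra.EssFiniteType A (B ⧸ q) := Algebra.EssFiniteType.comp A B (B ⧸ q)
  show Algebra.QuasiFinite A (B ⧸ q)
  apply quasiFinite_of_local
  have hmk : ∀ b ∈ maximalIdeal B, Ideal.Quotient.mk q b ∈ maximalIdeal (B ⧸ q) := by
    intro b hb
    rw [mem_maximalIdeal, mem_nonunits_iff] at hb ⊢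
    exact fun hu => hb (isUnit_of_map_unit (Ideal.Quotient.mk q) b hu)
  have hh0 : Ideal.Quotient.mk q (algebraMap A B a * g) ≠ 0 := by
    rw [Ne, Ideal.Quotient.eq_zero_iff_mem]
    intro hmem
    rcases hqp.mem_or_mem hmem with h1 | h1
    · exact haq h1
    · exact hgq h1
  have hall : ∀ P : Ideal (B ⧸ q), P.IsPrime → P ≠ ⊥ →
      Ideal.Quotient.mk q (algebraMap A B a * g) ∈ P := by
    intro P hP hPne
    haveI := hP
    have hqP : q < P.comap (Ideal.Quotient.mk q) := by
      refine lt_of_le_of_ne ?_ ?_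
      · intro x hx
        show Ideal.Quotient.mk q x ∈ P
        rw [Ideal.Quotient.eq_zero_iff_mem.2 hx]
        exact P.zero_mem
      · intro he
        apply hPne
        rw [eq_bot_iff]
        intro y hy
        obtain ⟨x, rfl⟩ := Ideal.Quotient.mk_surjective y
        have hx : x ∈ P.comap (Ideal.Quotient.mk q) := hy
        rw [← he] at hx
        exact (Ideal.mem_bot).2 (Ideal.Quotient.eq_zero_iff_mem.2 hx)
    have hnot : ¬ ((P.comap (Ideal.Quotient.mk q)).IsPrime ∧ g ∉ P.comap (Ideal.Quotient.mk q) ∧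
        (P.comap (Ideal.Quotient.mk q)).comap (algebraMap A B) ≠ maximalIdeal A) :=
      fun hmem => hmax _ hmem hqP
    have hor : g ∈ P.comap (Ideal.Quotient.mk q) ∨
        (P.comap (Ideal.Quotient.mk q)).comap (algebraMap A B) = maximalIdeal A := by
      by_contra hcon
      push_neg at hcon
      exact hnot ⟨Ideal.comap_isPrime _ _, hcon.1, hcon.2⟩
    rcases hor with h1 | h1
    · rw [map_mul]
      exact P.mul_mem_left _ h1
    · have h2 : a ∈ (P.comap (Ideal.Quotient.mk q)).comap (algebraMap A B) := h1 ▸ ham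
      rw [map_mul]
      exact P.mul_mem_right _ h2
  -- the closed fibre
  have haJ : algebraMap A (B ⧸ q) a ∈
      ((maximalIdeal (B ⧸ q)).under A).map (algebraMap A (B ⧸ q)) := by
    apply Ideal.mem_map_of_mem
    show algebraMap A (B ⧸ q) a ∈ maximalIdeal (B ⧸ q)
    have hml : (maximalIdeal A).map (algebraMap A B) ≤ maximalIdeal B :=
      ((local_hom_TFAE (algebraMap A B)).out 0 2).mp ‹IsLocalHom (algebraMap A B)›
    exact hmk _ (hml (Ideal.mem_map_of_mem _ ham))
  have ha0 : algebraMap A (B ⧸ q) a ≠ 0 := by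
    show Ideal.Quotient.mk q (algebraMap A B a) ≠ 0
    rw [Ne, Ideal.Quotient.eq_zero_iff_mem]
    exact haq
  have hJle : ((maximalIdeal (B ⧸ q)).under A).map (algebraMap A (B ⧸ q)) ≤
      maximalIdeal (B ⧸ q) := Ideal.map_comap_le
  have hrad : maximalIdeal (B ⧸ q) ≤
      (((maximalIdeal (B ⧸ q)).under A).map (algebraMap A (B ⧸ q))).radical := by
    rw [Ideal.radical_eq_sInf]
    refine le_sInf ?_
    rintro P ⟨hJP, hP⟩
    haveI := hP
    have hPne : P ≠ ⊥ := by
      intro hb
      apply ha0
      have := hJP haJ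
      rw [hb] at this
      exact this
    rw [eq_maximalIdeal_of_forall_mem _ hh0 hall P hPne]
  obtain ⟨N, hN⟩ := Ideal.exists_pow_le_of_le_radical_of_fg hrad
    (IsNoetherian.noetherian (maximalIdeal (B ⧸ q)))
  -- the residue field is finite over `A`
  haveI : Module.Finite A (ResidueField A) :=
    Module.Finite.of_surjective (Algebra.linearMap A (ResidueField A)) Ideal.Quotient.mk_surjective
  haveI : Module.Finite A (ResidueField B) := Module.Finite.trans (ResidueField A) (ResidueField B)
  haveI hresB : Module.Finite A (B ⧸ maximalIdeal B) := ‹Module.Finite A (ResidueField B)›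
  haveI : Module.Finite A ((B ⧸ q) ⧸ maximalIdeal (B ⧸ q)) := by
    let φ : (B ⧸ maximalIdeal B) →ₐ[A] ((B ⧸ q) ⧸ maximalIdeal (B ⧸ q)) :=
      Ideal.quotientMapₐ (maximalIdeal (B ⧸ q)) (Ideal.Quotient.mkₐ A q) (fun b hb => hmk b hb)
    have hH : maximalIdeal B ≤ Ideal.comap ((Ideal.Quotient.mkₐ A q : B →ₐ[A] B ⧸ q) : B →+* B ⧸ q)
        (maximalIdeal (B ⧸ q)) := fun b hb => hmk b hb
    have hφ : Function.Surjective φ :=
      Ideal.quotientMap_surjective (H := hH) Ideal.Quotient.mk_surjective
    exact Module.Finite.of_surjective φ.toLinearMap hφ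
  exact finite_quotient_of_pow_le A (B ⧸ q) _ N hN

end Main

end Groth.Agent.Lib.QFPrimeH3
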