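import Mathlib
import Groth.Agent.Lib.QFBasic_helper7
import Groth.Agent.Lib.QFModel_helper7
import Groth.Agent.Lib.QFCore_helper7
import Groth.Agent.Lib.EtNormal_helper4
import Groth.Agent.Lib.EtStalk_helper8
import Groth.Agent.Lib.UnramBC_helper7

/-!
# Purity of the ramification locus at a quasi-finite point (helper7)

`R` Noetherian, `S` a finite type `R`-algebra, quasi-finite at the prime `q`, of height `≥ 1`, and
unramified at all height one primes contained in `q`.  Then `S` is unramified over `R` at `q` if

* `unramified_of_flat`: `S` is flat over `R` (Stacks 0EA3), or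
* `unramified_of_normal`: `S_q` is a normal domain, `R_p` is regular and `ht q = ht p`
  (Stacks 0BMB, Zariski–Nagata purity).
-/

set_option autoImplicit false
set_option backward.isDefEq.respectTransparency false
set_option backward.isDefEq.respectTransparency.types false
set_option linter.style.haveILetI false
set_option linter.unusedSectionVars false

universe u
open TensorProduct

namespace Groth.Agent.Lib.QFPurity

open Groth.Agent.Lib

attribute [local instance] Algebra.TensorProduct.rightAlgebra

section Transfer

variable (R S R' : Type u) [CommRing R] [CommRing S] [CommRing R'] [Algebra R S] [Algebra R R']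
  [Algebra.Etale R R'] [Algebra.FiniteType R S] [IsNoetherianRing R]

theorem etale_right : Algebra.Etale S (R' ⊗[R] S) :=
  Algebra.Etale.of_equiv (Algebra.TensorProduct.commRight R S R')

theorem flat_right : Module.Flat S (R' ⊗[R] S) :=
  Module.Flat.of_linearEquiv (Algebra.TensorProduct.commRight R S R').symm.toLinearEquiv

include R in
theorem noeth_S : IsNoetherianRing S := Algebra.FiniteType.isNoetherianRing R S

include R in
theorem noeth_R' : IsNoetherianRing R' := Algebra.FiniteType.isNoetherianRing R R'

theorem noeth_S' : IsNoetherianRing (R' ⊗[R] S) :=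
  haveI := noeth_R' R R'
  Algebra.FiniteType.isNoetherianRing R' (R' ⊗[R] S)

/-- Heights are preserved under contraction along the etale map `S → R' ⊗ S`. -/
theorem height_comap (Q : Ideal (R' ⊗[R] S)) [Q.IsPrime] :
    (Q.comap (algebraMap S (R' ⊗[R] S))).height = Q.height := by
  haveI := etale_right R S R'
  haveI := flat_right R S R'
  haveI := noeth_S R S
  haveI := noeth_S' R S R'
  exact (QFBasic.height_eq_under_of_flat S (R' ⊗[R] S) Q).symm

/-- The hypothesis on height one primes goes up. -/
theorem hyp_up (q : Ideal S) [q.IsPrime]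
    (H : ∀ (q' : Ideal S) [q'.IsPrime], q' ≤ q → q'.height = 1 → Algebra.IsUnramifiedAt R q')
    (P' : Ideal (R' ⊗[R] S)) [P'.IsPrime] (hq : P'.comap (algebraMap S (R' ⊗[R] S)) = q)
    (Q : Ideal (R' ⊗[R] S)) [Q.IsPrime] (hQP : Q ≤ P') (hQ1 : Q.height = 1) :
    Algebra.IsUnramifiedAt R' Q := by
  haveI : (Q.comap (algebraMap S (R' ⊗[R] S))).IsPrime := Ideal.comap_isPrime _ _
  have hq'q : Q.comap (algebraMap S (R' ⊗[R] S)) ≤ q := by
    rw [← hq]; exact Ideal.comap_mono hQP
  have hq'1 : (Q.comap (algebraMap S (R' ⊗[R] S))).height = 1 := by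
    rw [height_comap R S R' Q, hQ1]
  have h := H (Q.comap (algebraMap S (R' ⊗[R] S))) hq'q hq'1
  exact QFBasic.mem_unramifiedLocus_baseChange (R := R) (R' := R') (A := S) (A' := R' ⊗[R] S)
    ⟨Q, inferInstance⟩ ⟨Q.comap (algebraMap S (R' ⊗[R] S)), inferInstance⟩ rfl h

/-- Unramifiedness comes down. -/
theorem unram_down (q : Ideal S) [q.IsPrime]
    (P' : Ideal (R' ⊗[R] S)) [P'.IsPrime] (hq : P'.comap (algebraMap S (R' ⊗[R] S)) = q)
    (h : Algebra.IsUnramifiedAt R' P') : Algebra.IsUnramifiedAt R q :=
  UnramBCH7.isUnramifiedAt_of_isPushout (R := R) (R' := R') (A := S) (A' := R' ⊗[R] S)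
    ⟨P', inferInstance⟩ ⟨q, inferInstance⟩ hq.symm h

end Transfer

/-- **Stacks 0EA3, ring form.** -/
theorem unramified_of_flat (R S : Type u) [CommRing R] [CommRing S] [Algebra R S]
    [IsNoetherianRing R] [Algebra.FiniteType R S] [Module.Flat R S] (q : Ideal S) [q.IsPrime]
    [Algebra.QuasiFiniteAt R q] (h1 : 1 ≤ q.height)
    (H : ∀ (q' : Ideal S) [q'.IsPrime], q' ≤ q → q'.height = 1 → Algebra.IsUnramifiedAt R q') :
    Algebra.IsUnramifiedAt R q := by
  haveI : q.LiesOver (q.under R) := ⟨rfl⟩
  obtain ⟨R', i1, i2, i3, P, i4, i5, P', i6, i7, hq, hfin⟩ :=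
    QFModel.exists_model R S (q.under R) q
  have hq' : P'.comap (algebraMap S (R' ⊗[R] S)) = q := hq
  haveI := noeth_R' R R'
  have h1' : 1 ≤ P'.height := by
    rw [← height_comap R S R' P', hq']; exact h1
  have := QFCore.coreA P P' hfin h1' (fun Q _ hQP hQ1 => hyp_up R S R' q H P' hq' Q hQP hQ1)
  exact unram_down R S R' q P' hq' this

/-- **Stacks 0BMB, ring form** (purity of the branch locus). -/
theorem unramified_of_normal (R S : Type u) [CommRing R] [CommRing S] [Algebra R S]
    [IsNoetherianRing R] [Algebra.FiniteType R S] (q : Ideal S) [q.IsPrime]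
    [Algebra.QuasiFiniteAt R q]
    (hdom : IsDomain (Localization.AtPrime q)) (hic : IsIntegrallyClosed (Localization.AtPrime q))
    (hreg : IsRegularLocalRing (Localization.AtPrime (q.under R)))
    (hdim : q.height = (q.under R).height) (h1 : 1 ≤ q.height)
    (H : ∀ (q' : Ideal S) [q'.IsPrime], q' ≤ q → q'.height = 1 → Algebra.IsUnramifiedAt R q') :
    Algebra.IsUnramifiedAt R q := by
  haveI : q.LiesOver (q.under R) := ⟨rfl⟩
  obtain ⟨R', i1, i2, i3, P, i4, i5, P', i6, i7, hq, hfin⟩ :=
    QFModel.exists_model R S (q.under R) q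
  have hq' : P'.comap (algebraMap S (R' ⊗[R] S)) = q := hq
  haveI := noeth_R' R R'
  haveI := noeth_S R S
  have hP' : P'.height = q.height := by
    rw [← height_comap R S R' P', hq']
  have h1' : 1 ≤ P'.height := by
    rw [hP']; exact h1
  -- `ht P = ht p`
  have hP : P.height = (q.under R).height := by
    rw [QFBasic.height_eq_under_of_flat R R' P, ← P.over_def (q.under R)]
  have hdim' : P'.height = P.height := by rw [hP', hP, hdim]
  -- normality goes up
  have hnorm : IsDomain (Localization.AtPrime P') ∧ IsIntegrallyClosed (Localization.AtPrime P') := by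
    haveI := etale_right R S R'
    haveI : P'.LiesOver q := ⟨hq'.symm⟩
    letI := Localization.AtPrime.algebraOfLiesOver q P'
    exact EtNormalH4.normal_of_etale (R := S) (B := R' ⊗[R] S) P' (Localization.AtPrime P')
      q.primeCompl (Localization.AtPrime q)
  -- regularity goes up
  have hreg' : IsRegularLocalRing (Localization.AtPrime P) := by
    letI := Localization.AtPrime.algebraOfLiesOver (q.under R) P
    haveI : IsNoetherianRing (Localization.AtPrime (q.under R)) :=
      IsLocalization.isNoetherianRing (q.under R).primeCompl _ inferInstance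
    haveI : IsNoetherianRing (Localization.AtPrime P) :=
      IsLocalization.isNoetherianRing P.primeCompl _ inferInstance
    haveI : IsLocalHom (algebraMap (Localization.AtPrime (q.under R)) (Localization.AtPrime P)) :=
      Localization.isLocalHom_localRingHom (q.under R) P _ Ideal.LiesOver.over
    haveI : Algebra.FormallyUnramified R' (Localization.AtPrime P) :=
      Algebra.FormallyUnramified.of_isLocalization P.primeCompl
    haveI : Algebra.IsUnramifiedAt R P :=
      Algebra.FormallyUnramified.comp R R' (Localization.AtPrime P)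
    haveI : Algebra.EssFiniteType R' (Localization.AtPrime P) :=
      Algebra.EssFiniteType.of_isLocalization _ P.primeCompl
    haveI : Algebra.EssFiniteType R (Localization.AtPrime P) :=
      Algebra.EssFiniteType.comp R R' _
    haveI : Algebra.EssFiniteType (Localization.AtPrime (q.under R)) (Localization.AtPrime P) :=
      Algebra.EssFiniteType.of_comp R _ _
    have hm := Algebra.FormallyUnramified.map_maximalIdeal
      (R := Localization.AtPrime (q.under R)) (S := Localization.AtPrime P)
    exact (Groth.Agent.EtStalk.isRegularLocalRing_iff_of_flat hm).mpr hreg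
  have := QFCore.coreB P P' hfin hnorm.1 hnorm.2 hreg' hdim' h1'
    (fun Q _ hQP hQ1 => hyp_up R S R' q H P' hq' Q hQP hQ1)
  exact unram_down R S R' q P' hq' this

end Groth.Agent.Lib.QFPurity
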