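import Mathlib
import Groth.Agent.Lib.QFPurity_helper7
import Groth.Agent.Lib.AffStalk_helper3
import Groth.Agent.Lib.UnramLoc_helper4
import Groth.Agent.Lib.FlatUnramPt_helper4
import Groth.Agent.Lib.EtDimSch_helper3

/-!
# Purity of the ramification locus at a quasi-finite point: scheme form (helper7)
-/

set_option autoImplicit false
set_option backward.isDefEq.respectTransparency false
set_option backward.isDefEq.respectTransparency.types false
set_option linter.style.haveILetI false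
set_option linter.unusedSectionVars false

universe u
open AlgebraicGeometry CategoryTheory

namespace Groth.Agent.Lib.QFPuritySch

open Groth.Agent.Lib

variable {X Y : Scheme.{u}}

/-- Transport of properties of `Localization.AtPrime` along equality of primes. -/
theorem loc_congr {R : Type u} [CommRing R] (P : ∀ (A : Type u) [CommRing A], Prop)
    (p p' : Ideal R) [p.IsPrime] [p'.IsPrime] (h : p = p') (hP : P (Localization.AtPrime p)) :
    P (Localization.AtPrime p') := by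
  subst h; exact hP

/-- Translation of the hypothesis on codimension one points to the affine chart. -/
theorem hyp_chart (f : X ⟶ Y) (x : X)
    (hunr : ∀ x' : X, x' ⤳ x → ringKrullDim (X.presheaf.stalk x') = 1 →
      (f.stalkMap x').hom.FormallyUnramified)
    (U : Y.Opens) (hU : IsAffineOpen U) (V : X.Opens) (hV : IsAffineOpen V) (hVU : V ≤ f ⁻¹ᵁ U)
    (hxV : x ∈ V) :
    letI := (f.appLE U V hVU).hom.toAlgebra
    ∀ (q' : Ideal Γ(X, V)) [q'.IsPrime], q' ≤ (hV.primeIdealOf ⟨x, hxV⟩).asIdeal →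
      q'.height = 1 → Algebra.IsUnramifiedAt Γ(Y, U) q' := by
  letI := (f.appLE U V hVU).hom.toAlgebra
  intro q' hq' hle hht
  have hx'V : hV.fromSpec ⟨q', hq'⟩ ∈ V := AffStalk_helper3.fromSpec_mem hV ⟨q', hq'⟩
  have hpf : hV.primeIdealOf ⟨hV.fromSpec ⟨q', hq'⟩, hx'V⟩ = ⟨q', hq'⟩ :=
    AffStalk_helper3.primeIdealOf_fromSpec hV ⟨q', hq'⟩
  have hsp : hV.fromSpec ⟨q', hq'⟩ ⤳ x := by
    have := (AffStalk_helper3.specializes_iff hV ⟨x, hxV⟩ ⟨hV.fromSpec ⟨q', hq'⟩, hx'V⟩).mpr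
      (by rw [hpf]; exact hle)
    exact this
  have hd : ringKrullDim (X.presheaf.stalk (hV.fromSpec ⟨q', hq'⟩)) = 1 := by
    have := AffStalk_helper3.ringKrullDim_stalk hV ⟨hV.fromSpec ⟨q', hq'⟩, hx'V⟩
    rw [hpf] at this
    change ringKrullDim (X.presheaf.stalk (hV.fromSpec ⟨q', hq'⟩)) = (q'.height : WithBot ℕ∞) at this
    rw [this, hht]; rfl
  have h := hunr _ hsp hd
  have h2 := (UnramLocH4.formallyUnramified_stalkMap_iff U hU V hV hVU hx'V).mp h
  rw [hpf] at h2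
  exact h2

/-- **Unramified at `x`, flat case.** -/
theorem stalk_unramified_of_flat (f : X ⟶ Y) [LocallyOfFiniteType f] [Flat f]
    [IsLocallyNoetherian X] [IsLocallyNoetherian Y] (x : X) (hq : f.QuasiFiniteAt x)
    (hdim1 : (1 : WithBot ℕ∞) ≤ ringKrullDim (X.presheaf.stalk x))
    (hunr : ∀ x' : X, x' ⤳ x → ringKrullDim (X.presheaf.stalk x') = 1 →
      (f.stalkMap x').hom.FormallyUnramified) :
    (f.stalkMap x).hom.FormallyUnramified := by
  obtain ⟨_, ⟨U, hU, rfl⟩, hxU, -⟩ := Y.isBasis_affineOpens.exists_subset_of_mem_open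
    (Set.mem_univ (f x)) isOpen_univ
  obtain ⟨_, ⟨V, hV, rfl⟩, hxV, hVU : V ≤ f ⁻¹ᵁ U⟩ :=
    X.isBasis_affineOpens.exists_subset_of_mem_open hxU (f ⁻¹ᵁ U).2
  have hft : (f.appLE U V hVU).hom.FiniteType := f.finiteType_appLE hU hV hVU
  have hfl : (f.appLE U V hVU).hom.Flat := f.flat_appLE hU hV hVU
  have H := hyp_chart f x hunr U hU V hV hVU hxV
  rw [UnramLocH4.formallyUnramified_stalkMap_iff U hU V hV hVU hxV]
  letI := (f.appLE U V hVU).hom.toAlgebra
  haveI : Algebra.FiniteType Γ(Y, U) Γ(X, V) := hft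
  haveI : Module.Flat Γ(Y, U) Γ(X, V) := hfl
  haveI : IsNoetherianRing Γ(Y, U) := IsLocallyNoetherian.component_noetherian ⟨U, hU⟩
  haveI : Algebra.QuasiFiniteAt Γ(Y, U) (hV.primeIdealOf ⟨x, hxV⟩).asIdeal :=
    hq.quasiFiniteAt hV hU hVU hxV
  have h1 : 1 ≤ (hV.primeIdealOf ⟨x, hxV⟩).asIdeal.height := by
    have := AffStalk_helper3.ringKrullDim_stalk hV ⟨x, hxV⟩
    change ringKrullDim (X.presheaf.stalk x) = _ at this
    rw [this] at hdim1
    exact_mod_cast hdim1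
  exact QFPurity.unramified_of_flat Γ(Y, U) Γ(X, V) (hV.primeIdealOf ⟨x, hxV⟩).asIdeal h1 H

/-- **Unramified at `x`, normal over regular case.** -/
theorem stalk_unramified_of_normal (f : X ⟶ Y) [LocallyOfFiniteType f]
    [IsLocallyNoetherian X] [IsLocallyNoetherian Y] (x : X)
    (hx : IsDomain (X.presheaf.stalk x) ∧ IsIntegrallyClosed (X.presheaf.stalk x))
    (hy : IsRegularLocalRing (Y.presheaf.stalk (f.base x)))
    (hq : f.QuasiFiniteAt x)
    (hdim : ringKrullDim (X.presheaf.stalk x) = ringKrullDim (Y.presheaf.stalk (f.base x)))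
    (hdim1 : (1 : WithBot ℕ∞) ≤ ringKrullDim (X.presheaf.stalk x))
    (hunr : ∀ x' : X, x' ⤳ x → ringKrullDim (X.presheaf.stalk x') = 1 →
      (f.stalkMap x').hom.FormallyUnramified) :
    (f.stalkMap x).hom.FormallyUnramified := by
  obtain ⟨_, ⟨U, hU, rfl⟩, hxU, -⟩ := Y.isBasis_affineOpens.exists_subset_of_mem_open
    (Set.mem_univ (f x)) isOpen_univ
  obtain ⟨_, ⟨V, hV, rfl⟩, hxV, hVU : V ≤ f ⁻¹ᵁ U⟩ :=
    X.isBasis_affineOpens.exists_subset_of_mem_open hxU (f ⁻¹ᵁ U).2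
  have hft : (f.appLE U V hVU).hom.FiniteType := f.finiteType_appLE hU hV hVU
  have H := hyp_chart f x hunr U hU V hV hVU hxV
  rw [UnramLocH4.formallyUnramified_stalkMap_iff U hU V hV hVU hxV]
  letI := (f.appLE U V hVU).hom.toAlgebra
  haveI : Algebra.FiniteType Γ(Y, U) Γ(X, V) := hft
  haveI : IsNoetherianRing Γ(Y, U) := IsLocallyNoetherian.component_noetherian ⟨U, hU⟩
  haveI : Algebra.QuasiFiniteAt Γ(Y, U) (hV.primeIdealOf ⟨x, hxV⟩).asIdeal :=
    hq.quasiFiniteAt hV hU hVU hxV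
  have hX := AffStalk_helper3.ringKrullDim_stalk hV ⟨x, hxV⟩
  change ringKrullDim (X.presheaf.stalk x) = _ at hX
  have hY := AffStalk_helper3.ringKrullDim_stalk hU ⟨f x, hVU hxV⟩
  change ringKrullDim (Y.presheaf.stalk (f x)) = _ at hY
  have hunder : (hU.primeIdealOf ⟨f x, hVU hxV⟩).asIdeal =
      (hV.primeIdealOf ⟨x, hxV⟩).asIdeal.under Γ(Y, U) :=
    congr($(IsAffineOpen.comap_primeIdealOf_appLE U hU V hV hVU hxV).1).symm
  have h1 : 1 ≤ (hV.primeIdealOf ⟨x, hxV⟩).asIdeal.height := by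
    rw [hX] at hdim1
    exact_mod_cast hdim1
  have hdim' : (hV.primeIdealOf ⟨x, hxV⟩).asIdeal.height =
      ((hV.primeIdealOf ⟨x, hxV⟩).asIdeal.under Γ(Y, U)).height := by
    rw [← hunder]
    have : ((hV.primeIdealOf ⟨x, hxV⟩).asIdeal.height : WithBot ℕ∞) =
        (hU.primeIdealOf ⟨f x, hVU hxV⟩).asIdeal.height := by
      rw [← hX, ← hY]; exact hdim
    exact_mod_cast this
  -- the local rings
  letI := TopCat.Presheaf.algebra_section_stalk X.presheaf (⟨x, hxV⟩ : V)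
  haveI := hV.isLocalization_stalk ⟨x, hxV⟩
  let eX : X.presheaf.stalk x ≃ₐ[Γ(X, V)] Localization.AtPrime (hV.primeIdealOf ⟨x, hxV⟩).asIdeal :=
    IsLocalization.algEquiv (hV.primeIdealOf ⟨x, hxV⟩).asIdeal.primeCompl _ _
  letI := TopCat.Presheaf.algebra_section_stalk Y.presheaf (⟨f x, hVU hxV⟩ : U)
  haveI := hU.isLocalization_stalk ⟨f x, hVU hxV⟩
  let eY : Y.presheaf.stalk (f x) ≃ₐ[Γ(Y, U)]
      Localization.AtPrime (hU.primeIdealOf ⟨f x, hVU hxV⟩).asIdeal :=
    IsLocalization.algEquiv (hU.primeIdealOf ⟨f x, hVU hxV⟩).asIdeal.primeCompl _ _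
  haveI := hx.1
  haveI := hx.2
  have hdom : IsDomain (Localization.AtPrime (hV.primeIdealOf ⟨x, hxV⟩).asIdeal) :=
    eX.toRingEquiv.toMulEquiv.isDomain_iff.mp hx.1
  have hic : IsIntegrallyClosed (Localization.AtPrime (hV.primeIdealOf ⟨x, hxV⟩).asIdeal) :=
    IsIntegrallyClosed.of_equiv eX.toRingEquiv
  have hreg0 : IsRegularLocalRing (Localization.AtPrime (hU.primeIdealOf ⟨f x, hVU hxV⟩).asIdeal) :=
    haveI := hy
    IsRegularLocalRing.of_ringEquiv eY.toRingEquiv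
  have hreg : IsRegularLocalRing
      (Localization.AtPrime ((hV.primeIdealOf ⟨x, hxV⟩).asIdeal.under Γ(Y, U))) :=
    loc_congr (fun A _ => IsRegularLocalRing A) _ _ hunder hreg0
  exact QFPurity.unramified_of_normal Γ(Y, U) Γ(X, V) (hV.primeIdealOf ⟨x, hxV⟩).asIdeal
    hdom hic hreg hdim' h1 H

/-- **Stacks 0EA3.** -/
theorem etale_nhd_of_flat (f : X ⟶ Y) [LocallyOfFiniteType f] [Flat f]
    [IsLocallyNoetherian X] [IsLocallyNoetherian Y] (x : X) (hq : f.QuasiFiniteAt x)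
    (hdim1 : (1 : WithBot ℕ∞) ≤ ringKrullDim (X.presheaf.stalk x))
    (hunr : ∀ x' : X, x' ⤳ x → ringKrullDim (X.presheaf.stalk x') = 1 →
      (f.stalkMap x').hom.FormallyUnramified) :
    ∃ U : X.Opens, x ∈ U ∧ Etale (U.ι ≫ f) := by
  have hun := stalk_unramified_of_flat f x hq hdim1 hunr
  haveI : LocallyOfFinitePresentation f := inferInstance
  obtain ⟨W, hxW, hW⟩ := (UnramLocH4.exists_nhd_iff_stalk f x).mpr hun
  have hfl : ((𝟙 X ≫ f).stalkMap x).hom.Flat := Flat.stalkMap (𝟙 X ≫ f) x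
  exact (FlatUnramPtH4.main2738 f (𝟙 X) x ⟨W, hxW, hW⟩ hfl).1

/-- **Stacks 0BMB** (purity of the branch locus, local form). -/
theorem etale_nhd_of_normal (f : X ⟶ Y) [LocallyOfFiniteType f]
    [IsLocallyNoetherian X] [IsLocallyNoetherian Y] (x : X)
    (hx : IsDomain (X.presheaf.stalk x) ∧ IsIntegrallyClosed (X.presheaf.stalk x))
    (hy : IsRegularLocalRing (Y.presheaf.stalk (f.base x)))
    (hq : f.QuasiFiniteAt x)
    (hdim : ringKrullDim (X.presheaf.stalk x) = ringKrullDim (Y.presheaf.stalk (f.base x)))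
    (hdim1 : (1 : WithBot ℕ∞) ≤ ringKrullDim (X.presheaf.stalk x))
    (hunr : ∀ x' : X, x' ⤳ x → ringKrullDim (X.presheaf.stalk x') = 1 →
      (f.stalkMap x').hom.FormallyUnramified) :
    ∃ U : X.Opens, x ∈ U ∧ Etale (U.ι ≫ f) := by
  have hun := stalk_unramified_of_normal f x hx hy hq hdim hdim1 hunr
  haveI : LocallyOfFinitePresentation f := inferInstance
  haveI := hy
  have hdomY : IsDomain (Y.presheaf.stalk (f x)) := Groth.Agent.RegularLib.isDomain _
  have hicY : IsIntegrallyClosed (Y.presheaf.stalk (f x)) :=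
    NormalLiftH4.isIntegrallyClosed_of_isRegularLocalRing _
  exact EtDimSchH3.exists_etale_nhd_of_stalk f x hun hdomY hicY (le_of_eq hdim.symm)

end Groth.Agent.Lib.QFPuritySch
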