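import Mathlib
import Groth.Prelude.Def_DRing2
import Groth.Prelude.Def_DDual2
import Groth.Prelude.Def_Wider
import Groth.Prelude.Def_Disc
import Groth.Agent.Lib.ExtInv1_helper6

/-!
# `φ^!` of a quasi-finite map (helper6), part 1: `H^0(RHom_A(B, A)) ≃ Hom_A(B, A)` as `B`-modules,
for any right adjoint of restriction of scalars.
-/

set_option autoImplicit false
set_option linter.style.haveILetI false
set_option linter.unusedSectionVars false
set_option linter.unusedVariables false
universe u
open CategoryTheory Limits DerivedCategory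
attribute [local instance] HasDerivedCategory.standard

namespace Groth.Agent.Lib.QFShriekH6

open DRing Groth.Agent.Lib.DMod_helper6 Groth.Agent.Lib.ShriekLciH6 Groth.Agent.Lib.ExtInvH6

section H0

variable {A B : Type u} [CommRing A] [CommRing B] [Algebra A B]

/-- multiplication by `b` on `B` as an `A`-linear endomorphism in `ModuleCat A` -/
noncomputable def mulA (b : B) : ModuleCat.of A B ⟶ ModuleCat.of A B :=
  ModuleCat.ofHom (LinearMap.mulLeft A b)

/-- `inD A B ≅ (inD B B)|_A` -/
noncomputable def epsIso : Dual.inD A B ≅ (restrictD (algebraMap A B)).obj (Dual.inD B B) :=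
  (DerivedCategory.singleFunctor (ModuleCat.{u} A) 0).mapIso
      (selfRestrictEquiv (P := A) (B := B)).toModuleIso ≪≫
    (restrictDInDIso (algebraMap A B) (ModuleCat.of B B)).symm

lemma epsIso_naturality (b : B) :
    (epsIso (A := A) (B := B)).hom ≫
        (restrictD (algebraMap A B)).map (b • 𝟙 (Dual.inD B B)) =
      (DerivedCategory.singleFunctor (ModuleCat.{u} A) 0).map (mulA b) ≫
        (epsIso (A := A) (B := B)).hom := by
  have h1 : (b • 𝟙 (Dual.inD B B)) =
      (DerivedCategory.singleFunctor (ModuleCat.{u} B) 0).map (b • 𝟙 (ModuleCat.of B B)) := by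
    rw [Functor.map_smul, CategoryTheory.Functor.map_id]
  have h2 := ((ModuleCat.restrictScalars (algebraMap A B)).mapDerivedCategorySingleFunctor
    0).inv.naturality (b • 𝟙 (ModuleCat.of B B))
  simp only [Functor.comp_map] at h2
  unfold epsIso
  rw [h1]
  simp only [Iso.trans_hom, Iso.symm_hom, Functor.mapIso_hom, Category.assoc]
  unfold restrictDInDIso
  simp only [Iso.app_inv]
  erw [← h2]
  rw [← Category.assoc, ← Category.assoc, ← Functor.map_comp, ← Functor.map_comp]
  congr 2


/-- `Hom_{D(B)}(B, R(A)) ≃ Hom_A(B, A)`, `B`-linearly -/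
noncomputable def thetaEquiv (R : Dual.D A ⥤ Dual.D B)
    (adj : restrictD (algebraMap A B) ⊣ R) :
    (Dual.inD B B ⟶ R.obj (Dual.inD A A)) ≃ₗ[B] Disc.Omega A B where
  toFun f := ⟨((DerivedCategory.singleFunctor (ModuleCat.{u} A) 0).preimage
    ((epsIso (A := A) (B := B)).hom ≫ (adj.homEquiv _ _).symm f)).hom⟩
  invFun φ := adj.homEquiv _ _ ((epsIso (A := A) (B := B)).inv ≫
    (DerivedCategory.singleFunctor (ModuleCat.{u} A) 0).map
      (ModuleCat.ofHom φ.toLinearMap : ModuleCat.of A B ⟶ ModuleCat.of A A))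
  left_inv f := by
    show adj.homEquiv _ _ ((epsIso (A := A) (B := B)).inv ≫
      (DerivedCategory.singleFunctor (ModuleCat.{u} A) 0).map
        (ModuleCat.ofHom ((DerivedCategory.singleFunctor (ModuleCat.{u} A) 0).preimage
          ((epsIso (A := A) (B := B)).hom ≫ (adj.homEquiv _ _).symm f)).hom)) = f
    rw [ModuleCat.ofHom_hom, Functor.map_preimage, Iso.inv_hom_id_assoc, Equiv.apply_symm_apply]
  right_inv φ := by
    apply Disc.Omega.ext
    simp only [Equiv.symm_apply_apply, Iso.hom_inv_id_assoc, Functor.preimage_map]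
    rfl
  map_add' f g := by
    apply Disc.Omega.ext
    show ((DerivedCategory.singleFunctor (ModuleCat.{u} A) 0).preimage _).hom =
      ((DerivedCategory.singleFunctor (ModuleCat.{u} A) 0).preimage _).hom +
        ((DerivedCategory.singleFunctor (ModuleCat.{u} A) 0).preimage _).hom
    rw [← ModuleCat.hom_add]
    congr 1
    apply (DerivedCategory.singleFunctor (ModuleCat.{u} A) 0).map_injective
    rw [Functor.map_add, Functor.map_preimage, Functor.map_preimage, Functor.map_preimage,
      homEquiv_symm_add, Preadditive.comp_add]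
  map_smul' b f := by
    apply Disc.Omega.ext
    show ((DerivedCategory.singleFunctor (ModuleCat.{u} A) 0).preimage
        ((epsIso (A := A) (B := B)).hom ≫ (adj.homEquiv _ _).symm (b • f))).hom =
      ((DerivedCategory.singleFunctor (ModuleCat.{u} A) 0).preimage
        ((epsIso (A := A) (B := B)).hom ≫ (adj.homEquiv _ _).symm f)).hom ∘ₗ
        (LinearMap.mulLeft A b : B →ₗ[A] B)
    have h1 : b • f = (b • 𝟙 (Dual.inD B B)) ≫ f := by
      rw [Linear.smul_comp, Category.id_comp]
    have h2 : (DerivedCategory.singleFunctor (ModuleCat.{u} A) 0).preimage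
        ((epsIso (A := A) (B := B)).hom ≫ (adj.homEquiv _ _).symm (b • f)) =
        mulA b ≫ (DerivedCategory.singleFunctor (ModuleCat.{u} A) 0).preimage
          ((epsIso (A := A) (B := B)).hom ≫ (adj.homEquiv _ _).symm f) := by
      apply (DerivedCategory.singleFunctor (ModuleCat.{u} A) 0).map_injective
      rw [Functor.map_comp, Functor.map_preimage, Functor.map_preimage, h1,
        Adjunction.homEquiv_naturality_left_symm, ← Category.assoc, epsIso_naturality,
        Category.assoc]
    rw [h2]
    rfl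

/-- `H^0(RHom_A(B, A)) ≃ Hom_A(B, A)`, `B`-linearly -/
theorem nonempty_HD_zero_rightAdjoint_linearEquiv_omega (R : Dual.D A ⥤ Dual.D B)
    (adj : restrictD (algebraMap A B) ⊣ R) :
    Nonempty (Dual.HD B (R.obj (Dual.inD A A)) 0 ≃ₗ[B] Disc.Omega A B) := by
  obtain ⟨e1⟩ := nonempty_hom_single_linearEquiv_HD (R.obj (Dual.inD A A)) 0
  let e0 : (Dual.inD B B ⟶ R.obj (Dual.inD A A)) ≃ₗ[B]
      (toD ((HomologicalComplex.single (ModuleCat.{u} B) (ComplexShape.up ℤ) 0).obj
        (ModuleCat.of B B)) ⟶ R.obj (Dual.inD A A)) :=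
    Linear.homCongr B ((singleFunctorIsoCompQ (ModuleCat.{u} B) 0).app (ModuleCat.of B B))
      (Iso.refl _)
  exact ⟨(e0.trans e1).symm.trans (thetaEquiv R adj)⟩

end H0

end Groth.Agent.Lib.QFShriekH6
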