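import Mathlib
import Groth.Prelude.Def_DRing2
import Groth.Prelude.Def_DDual2
import Groth.Prelude.Def_Wider
import Groth.Prelude.Def_Disc
import Groth.Prelude.Def_DualSh
import Groth.Agent.Lib.QFShriek1_helper6
import Groth.Agent.Lib.FlatBC13_helper6
import Groth.Agent.Lib.FlatBC9_helper6
import Groth.Agent.Lib.FinShriek7_helper6
import Groth.Agent.Lib.RestrictRightAdj_helper2
import Groth.Agent.Lib.TrivBC14_helper6
import Groth.Agent.Lib.DMod103_helper6
import Groth.Agent.Lib.DMod79_helper6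

/-!
# `φ^!` of a quasi-finite map (helper6), part 2: `H^0(φ^! A) ≃ Hom_A(B', A) ⊗_{B'} B` (S8953).
-/

set_option autoImplicit false
set_option linter.style.haveILetI false
set_option linter.unusedSectionVars false
set_option linter.unusedVariables false
universe u
open CategoryTheory Limits DerivedCategory AlgebraicGeometry
open scoped TensorProduct
attribute [local instance] HasDerivedCategory.standard

namespace Groth.Agent.Lib.QFShriekH6

open DRing Groth.Agent.Lib.DMod_helper6 Groth.Agent.Lib.ShriekLciH6 Groth.Agent.Lib.ExtInvH6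

/-- S8953. -/
theorem main8953 (A B B' : Type u) [CommRing A] [CommRing B] [CommRing B'] [IsNoetherianRing A]
    [IsNoetherianRing B] [Algebra A B] [Algebra A B'] [Algebra B' B] [IsScalarTower A B' B]
    [Module.Finite A B']
    (hopen : IsOpenImmersion (Spec.map (CommRingCat.ofHom (algebraMap B' B)))) (n : ℕ)
    (ψ : MvPolynomial (Fin n) A →ₐ[A] B) (hψ : Function.Surjective ψ)
    [DRing.HasLBaseChange (algebraMap A (MvPolynomial (Fin n) A))]
    (Rψ : Dual.D (MvPolynomial (Fin n) A) ⥤ Dual.D B)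
    (adj : DRing.restrictD ψ.toRingHom ⊣ Rψ) :
    Nonempty (Dual.HD B (Dual2.shriekVia n Rψ (Dual.inD A A)) 0 ≃ₗ[B]
      (B ⊗[B'] Disc.Omega A B')) := by
  haveI : IsNoetherianRing B' := IsNoetherianRing.of_finite A B'
  -- presentations
  haveI : Algebra.FiniteType A B' := inferInstance
  obtain ⟨m, ψ₁, hψ₁⟩ := Algebra.FiniteType.iff_quotient_mvPolynomial''.1
    (inferInstance : Algebra.FiniteType A B')
  haveI : Algebra.FiniteType A B :=
    Algebra.FiniteType.of_surjective ψ hψ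
  haveI : Algebra.FiniteType B' B := Algebra.FiniteType.of_restrictScalars_finiteType A B' B
  obtain ⟨k, ψ₂, hψ₂⟩ := Algebra.FiniteType.iff_quotient_mvPolynomial''.1
    (inferInstance : Algebra.FiniteType B' B)
  haveI := Groth.Agent.Lib.TrivBCH6.hasLBaseChange_general (algebraMap A (MvPolynomial (Fin m) A))
  haveI := Groth.Agent.Lib.TrivBCH6.hasLBaseChange_general
    (algebraMap B' (MvPolynomial (Fin k) B'))
  haveI := Groth.Agent.Lib.TrivBCH6.hasLBaseChange_general (algebraMap B' B)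
  obtain ⟨R₁, ⟨adj₁⟩⟩ := Groth.Agent.Lib.RestrictRightAdj.exists_rightAdjoint_restrictD
    ψ₁.toRingHom
  obtain ⟨R₂, ⟨adj₂⟩⟩ := Groth.Agent.Lib.RestrictRightAdj.exists_rightAdjoint_restrictD
    ψ₂.toRingHom
  obtain ⟨R', ⟨adjR⟩⟩ := Groth.Agent.Lib.RestrictRightAdj.exists_rightAdjoint_restrictD
    (algebraMap A B')
  -- composition
  obtain ⟨e1⟩ := Groth.Agent.Lib.FlatBCH6.main1799 A B' B m ψ₁ hψ₁ R₁ adj₁ k ψ₂ hψ₂ R₂ adj₂
    n ψ hψ Rψ adj (Dual.inD A A) 0 (fun i hi =>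
      ModuleCat.subsingleton_of_isZero (isZero_HD_inD _ i (by omega)))
  obtain ⟨e2⟩ := Groth.Agent.Lib.FlatBCH6.main8943 B' B hopen k ψ₂ hψ₂ R₂ adj₂
    (Dual2.shriekVia m R₁ (Dual.inD A A))
  obtain ⟨e3⟩ := Groth.Agent.Lib.FinShriekH6.shriekVia_finite m A B' ψ₁ hψ₁ R₁ adj₁ R' adjR
    (Dual.inD A A)
  haveI := Groth.Agent.Lib.FinSubOIH4.flat_of_oi B' B hopen
  obtain ⟨eL⟩ := nonempty_lBaseChange_iso_bcD (A := B') (B := B)
  have e : Dual2.shriekVia n Rψ (Dual.inD A A) ≅ (bcD B' B).obj (R'.obj (Dual.inD A A)) :=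
    e1 ≪≫ e2 ≪≫ (DRing.LBaseChange (algebraMap B' B)).mapIso e3 ≪≫ eL.app _
  obtain ⟨e4⟩ := nonempty_HD_bcD_linearEquiv (B := B) (R'.obj (Dual.inD A A)) 0
  obtain ⟨e5⟩ := nonempty_HD_zero_rightAdjoint_linearEquiv_omega R' adjR
  let e0 : Dual.HD B (Dual2.shriekVia n Rψ (Dual.inD A A)) 0 ≃ₗ[B]
      Dual.HD B ((bcD B' B).obj (R'.obj (Dual.inD A A))) 0 :=
    ((DerivedCategory.homologyFunctor (ModuleCat.{u} B) 0).mapIso e).toLinearEquiv
  exact ⟨e0.trans (e4.trans (LinearEquiv.baseChange B' B _ _ e5))⟩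

end Groth.Agent.Lib.QFShriekH6
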