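import Mathlib
import Groth.Prelude.Def_DRing2
import Groth.Prelude.Def_DDual2
import Groth.Prelude.Def_Wider
import Groth.Prelude.Def_Disc
import Groth.Prelude.Def_DualSh
import Groth.Agent.Lib.QFShriek2_helper6
import Groth.Agent.Lib.ShriekRange5_helper6
import Groth.Agent.Lib.FibCoh3_helper8
import Groth.Agent.Lib.DMod50_helper6
import Groth.Agent.Lib.DMod13_helper6

/-!
# `φ^!` of a quasi-finite map (helper6), part 3: `ω_{B/A}` is `A`-flat for `A → B` flat
quasi-finite (S8944).
-/

set_option autoImplicit false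
set_option linter.style.haveILetI false
set_option linter.unusedSectionVars false
set_option linter.unusedVariables false
universe u
open CategoryTheory Limits DerivedCategory AlgebraicGeometry
open scoped TensorProduct
attribute [local instance] HasDerivedCategory.standard

namespace Groth.Agent.Lib.QFShriekH6

open DRing Groth.Agent.Lib.DMod_helper6 Groth.Agent.Lib.ShriekLciH6 Groth.Agent.Lib.ExtInvH6

lemma flat_HD_zero_of_hasTorAmplitudeIn {A : Type u} [CommRing A] (K : Dual.D A)
    (h : HasTorAmplitudeIn A 0 0 K) : Module.Flat A (Dual.HD A K 0) := by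
  obtain ⟨E, hE, hEf, ⟨e⟩⟩ := h
  have h1 : E.d (-1) 0 = 0 := (hE (-1) (Or.inl (by norm_num))).eq_of_src _ _
  have h2 : E.d 0 1 = 0 := (hE 1 (Or.inr (by norm_num))).eq_of_tgt _ _
  have iso : (DerivedCategory.homologyFunctor (ModuleCat.{u} A) 0).obj K ≅ E.X 0 :=
    (DerivedCategory.homologyFunctor _ 0).mapIso e.symm ≪≫
      (homologyFunctorFactors (ModuleCat.{u} A) 0).app E ≪≫
      (E.isoHomologyπ (-1) 0 (by simp) h1).symm ≪≫ E.iCyclesIso 0 1 (by simp) h2
  haveI := hEf 0
  exact Module.Flat.of_linearEquiv iso.toLinearEquiv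

lemma flat_of_linearEquiv_restrict {A B : Type u} [CommRing A] [CommRing B] [Algebra A B]
    (N : ModuleCat.{u} B) (M : Type u) [AddCommGroup M] [Module A M] [Module B M]
    [IsScalarTower A B M] (e : N ≃ₗ[B] M)
    (h : Module.Flat A ((ModuleCat.restrictScalars.{u} (algebraMap A B)).obj N)) :
    Module.Flat A M := by
  let e3 : ((ModuleCat.restrictScalars.{u} (algebraMap A B)).obj N) ≃ₗ[A] M :=
    { toFun := fun x => e x
      invFun := fun y => e.symm y
      left_inv := fun x => e.symm_apply_apply x
      right_inv := fun y => e.apply_symm_apply y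
      map_add' := fun x y => e.map_add x y
      map_smul' := fun a x => by
        have h5 := e.map_smul (algebraMap A B a) (show N from x)
        exact h5.trans (algebraMap_smul B a (e (show N from x))) }
  exact Module.Flat.of_linearEquiv e3.symm

/-- S8944. -/
theorem main8944 (A B B' : Type u) [CommRing A] [CommRing B] [CommRing B'] [IsNoetherianRing A]
    [IsNoetherianRing B] [Algebra A B] [Module.Flat A B] [Algebra A B'] [Algebra B' B]
    [IsScalarTower A B' B] [Module.Finite A B']
    (hopen : IsOpenImmersion (Spec.map (CommRingCat.ofHom (algebraMap B' B)))) :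
    Module.Flat A (B ⊗[B'] Disc.Omega A B') := by
  have hcomp : Spec.map (CommRingCat.ofHom (algebraMap A B)) =
      Spec.map (CommRingCat.ofHom (algebraMap B' B)) ≫
        Spec.map (CommRingCat.ofHom (algebraMap A B')) := by
    rw [← Spec.map_comp, ← CommRingCat.ofHom_comp, ← IsScalarTower.algebraMap_eq]
  haveI := hopen
  haveI : IsFinite (Spec.map (CommRingCat.ofHom (algebraMap A B'))) := by
    rw [IsFinite.SpecMap_iff]
    exact (RingHom.finite_algebraMap).2 inferInstance
  haveI : LocallyQuasiFinite (Spec.map (CommRingCat.ofHom (algebraMap A B))) := by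
    rw [hcomp]; infer_instance
  haveI : LocallyOfFiniteType (Spec.map (CommRingCat.ofHom (algebraMap A B))) := by
    rw [hcomp]; infer_instance
  have hft : (algebraMap A B).FiniteType :=
    (HasRingHomProperty.Spec_iff (P := @LocallyOfFiniteType)
      (φ := CommRingCat.ofHom (algebraMap A B))).1 inferInstance
  haveI : Algebra.FiniteType A B := RingHom.finiteType_algebraMap.1 hft
  obtain ⟨n, ψ, hψ⟩ := Algebra.FiniteType.iff_quotient_mvPolynomial''.1
    (inferInstance : Algebra.FiniteType A B)
  haveI := Groth.Agent.Lib.TrivBCH6.hasLBaseChange_general (algebraMap A (MvPolynomial (Fin n) A))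
  obtain ⟨Rψ, ⟨adj⟩⟩ := Groth.Agent.Lib.RestrictRightAdj.exists_rightAdjoint_restrictD
    ψ.toRingHom
  have hd : ∀ q : PrimeSpectrum B,
      FlatMor.fibreDimAt (Spec.map (CommRingCat.ofHom (algebraMap A B))) q ≤
        ((0 : ℕ) : WithBot ℕ∞) := fun q => by
    have h0 := FibCohH8.fibreDimAt_eq_zero_of_lqf
      (Spec.map (CommRingCat.ofHom (algebraMap A B))) q
    rw [h0]
    rfl
  have htor := Groth.Agent.Lib.ShriekRangeH6.hasTorAmplitudeIn_shriekVia_self A B n ψ hψ Rψ adj 0
    hd
  have htor' : HasTorAmplitudeIn A 0 0 ((DRing.restrictD (algebraMap A B)).obj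
      (Dual2.shriekVia n Rψ (Dual.inD A A))) := by
    have h0 : (-((0 : ℕ) : ℤ)) = 0 := by norm_num
    rw [h0] at htor
    exact htor
  have hflat := flat_HD_zero_of_hasTorAmplitudeIn _ htor'
  obtain ⟨e1⟩ := nonempty_HD_restrictD_iso (algebraMap A B)
    (Dual2.shriekVia n Rψ (Dual.inD A A)) 0
  obtain ⟨e2⟩ := main8953 A B B' hopen n ψ hψ Rψ adj
  have hflat' : Module.Flat A ((ModuleCat.restrictScalars.{u} (algebraMap A B)).obj
      ((DerivedCategory.homologyFunctor (ModuleCat.{u} B) 0).obj
        (Dual2.shriekVia n Rψ (Dual.inD A A)))) :=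
    Module.Flat.of_linearEquiv e1.toLinearEquiv.symm
  exact flat_of_linearEquiv_restrict _ _ e2 hflat'

end Groth.Agent.Lib.QFShriekH6
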