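import Mathlib

/-!
# `φ^!(R)` for a local complete intersection (helper6), part 3: module-theoretic lemmas
(no derived categories): descending a generator from a localization, and spreading out.
-/

set_option autoImplicit false
universe u
open scoped TensorProduct

namespace Groth.Agent.Lib.ShriekLciH6

section Descend

variable {P A : Type u} [CommRing P] [CommRing A] (ψ : P →+* A)

/-- `M` is an `A = P/I`-module, `E` the same module seen over `P`, `E → ES` a localization at
`Q = ψ⁻¹ q` and `ES ≃ S/IS` free of rank one over `S/IS`: then some `x ∈ M` generates `M_q` freely. -/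
theorem exists_generator_of_localized_cyclic (hψ : Function.Surjective ψ)
    (q : Ideal A) [q.IsPrime]
    (S : Type u) [CommRing S] [Algebra P S] [IsLocalization.AtPrime S (q.comap ψ)]
    {M E ES : Type*} [AddCommGroup M] [Module A M] [AddCommGroup E] [Module P E]
    [AddCommGroup ES] [Module S ES]
    (Θ : M ≃+ E) (hΘ : ∀ (t : P) (m : M), Θ (ψ t • m) = t • Θ m)
    (lam : E →+ ES) (hlam : ∀ (t : P) (e : E), lam (t • e) = algebraMap P S t • lam e)
    (hL1 : ∀ g : ES, ∃ s : P, s ∉ q.comap ψ ∧ ∃ e : E, algebraMap P S s • g = lam e)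
    (hL2 : ∀ e : E, lam e = 0 → ∃ s : P, s ∉ q.comap ψ ∧ s • e = 0)
    (ε : (S ⧸ (RingHom.ker ψ).map (algebraMap P S)) ≃ₗ[S] ES) :
    ∃ x : M, (∀ m : M, ∃ a : A, a ∉ q ∧ ∃ b : A, a • m = b • x) ∧
      (∀ b : A, b • x = 0 → ∃ a : A, a ∉ q ∧ a * b = 0) := by
  set Q : Ideal P := q.comap ψ with hQ
  haveI : Q.IsPrime := Ideal.comap_isPrime _ _
  set I : Ideal P := RingHom.ker ψ with hI
  set ε₀ : ES := ε (Ideal.Quotient.mk _ 1) with hε₀
  have hG : ∀ g : ES, ∃ σ : S, g = σ • ε₀ := by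
    intro g
    obtain ⟨y, rfl⟩ := ε.surjective g
    obtain ⟨σ, rfl⟩ := Ideal.Quotient.mk_surjective y
    refine ⟨σ, ?_⟩
    rw [hε₀, ← map_smul]
    congr 1
    rw [Algebra.smul_def, Ideal.Quotient.algebraMap_eq, ← map_mul, mul_one]
  have hN : ∀ σ : S, σ • ε₀ = 0 → σ ∈ I.map (algebraMap P S) := by
    intro σ h
    rw [hε₀, ← map_smul] at h
    have h1 := ε.map_eq_zero_iff.1 h
    rw [Algebra.smul_def, Ideal.Quotient.algebraMap_eq, ← map_mul, mul_one,
      Ideal.Quotient.eq_zero_iff_mem] at h1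
    exact h1
  have hnot : ∀ t : P, t ∉ Q → ψ t ∉ q := fun t ht hc => ht (Ideal.mem_comap.2 hc)
  obtain ⟨s₀, hs₀, e₀, he₀⟩ := hL1 ε₀
  refine ⟨Θ.symm e₀, ?_, ?_⟩
  · intro m
    obtain ⟨σ, hσ⟩ := hG (lam (Θ m))
    obtain ⟨⟨t, s⟩, hts⟩ := IsLocalization.surj Q.primeCompl σ
    have hts' : σ * algebraMap P S (s : P) = algebraMap P S t := hts
    have h1 : lam ((s₀ * (s : P)) • Θ m - t • e₀) = 0 := by
      rw [map_sub, hlam, hlam, hσ, ← he₀, map_mul, smul_smul, smul_smul]
      rw [sub_eq_zero]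
      congr 1
      rw [mul_assoc, mul_comm (algebraMap P S (s : P)) σ, hts', mul_comm]
    obtain ⟨s', hs', h2⟩ := hL2 _ h1
    rw [smul_sub, sub_eq_zero, smul_smul, smul_smul] at h2
    refine ⟨ψ (s' * (s₀ * (s : P))), hnot _ ?_, ψ (s' * t), ?_⟩
    · exact fun hc => (Q.primeCompl.mul_mem hs' (Q.primeCompl.mul_mem hs₀ s.2)) hc
    · apply Θ.injective
      rw [hΘ, hΘ, AddEquiv.apply_symm_apply]
      exact h2
  · intro b hb
    obtain ⟨t, rfl⟩ := hψ b
    have h1 : t • e₀ = 0 := by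
      have := congrArg Θ hb
      rwa [hΘ, AddEquiv.apply_symm_apply, map_zero] at this
    have h2 : algebraMap P S (t * s₀) • ε₀ = 0 := by
      rw [map_mul, mul_smul, he₀, ← hlam, h1, map_zero]
    have h3 := hN _ h2
    rw [IsLocalization.mem_map_algebraMap_iff Q.primeCompl S] at h3
    obtain ⟨⟨i, s⟩, h4⟩ := h3
    have h4' : algebraMap P S (t * s₀) * algebraMap P S (s : P) = algebraMap P S (i : P) := h4
    rw [← map_mul] at h4'
    obtain ⟨s'', h5⟩ := (IsLocalization.eq_iff_exists Q.primeCompl S).1 h4'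
    refine ⟨ψ ((s'' : P) * (s₀ * (s : P))), hnot _ ?_, ?_⟩
    · exact fun hc => (Q.primeCompl.mul_mem s''.2 (Q.primeCompl.mul_mem hs₀ s.2)) hc
    · rw [← map_mul]
      have h6 : (s'' : P) * (s₀ * (s : P)) * t = (s'' : P) * (i : P) := by
        rw [← h5]; ring
      rw [h6]
      have h7 : (s'' : P) * (i : P) ∈ I := I.mul_mem_left _ i.2
      exact RingHom.mem_ker.1 h7

end Descend

section Spread

variable {A : Type u} [CommRing A] (q : Ideal A) [q.IsPrime]
  (M : Type u) [AddCommGroup M] [Module A M] [Module.Finite A M]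

/-- uniform denominators for a finite module. -/
lemma exists_uniform_denominator (N : Submodule A M)
    (h : ∀ m : M, ∃ a : A, a ∉ q ∧ a • m ∈ N) :
    ∃ f : A, f ∉ q ∧ ∀ m : M, f • m ∈ N := by
  classical
  obtain ⟨s, hs⟩ := (Module.Finite.fg_top : (⊤ : Submodule A M).FG)
  choose a ha1 ha2 using h
  refine ⟨∏ i ∈ s, a i, ?_, ?_⟩
  · intro hc
    obtain ⟨i, -, hi⟩ := Ideal.IsPrime.prod_mem_iff.1 hc
    exact ha1 i hi
  · intro m
    have hm : m ∈ Submodule.span A (s : Set M) := by rw [hs]; trivial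
    refine Submodule.span_induction ?_ ?_ ?_ ?_ hm
    · intro y hy
      have hy' : y ∈ s := hy
      rw [← Finset.mul_prod_erase s a hy', mul_comm, mul_smul]
      exact N.smul_mem _ (ha2 y)
    · rw [smul_zero]; exact N.zero_mem
    · intro y z _ _ hy hz
      rw [smul_add]; exact N.add_mem hy hz
    · intro r y _ hy
      rw [smul_comm]; exact N.smul_mem r hy

/-- a finite module vanishing at `q` vanishes on a basic open neighbourhood. -/
theorem exists_away_subsingleton
    (h : ∀ m : M, ∃ a : A, a ∉ q ∧ a • m = 0) :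
    ∃ f₀ : A, f₀ ∉ q ∧ ∀ (f : A) (Af : Type u) [CommRing Af] [Algebra A Af]
      [IsLocalization.Away f Af], f₀ ∣ f → Subsingleton (Af ⊗[A] M) := by
  obtain ⟨f₀, hf₀, hf⟩ := exists_uniform_denominator q M ⊥
    (fun m => by obtain ⟨a, ha, h0⟩ := h m; exact ⟨a, ha, by rw [h0]; exact Submodule.zero_mem _⟩)
  refine ⟨f₀, hf₀, fun f Af _ _ _ hdiv => ?_⟩
  obtain ⟨r, hfr⟩ := hdiv
  have hu : IsUnit (algebraMap A Af f) := IsLocalization.Away.algebraMap_isUnit f
  refine subsingleton_of_forall_eq 0 (fun z => ?_)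
  induction z using TensorProduct.induction_on with
  | zero => rfl
  | tmul a m =>
    have h1 : f • m = 0 := by
      rw [hfr, mul_comm, mul_smul, (Submodule.mem_bot A).1 (hf m), smul_zero]
    have h2 : algebraMap A Af f • (a ⊗ₜ[A] m) = 0 := by
      rw [algebraMap_smul, ← TensorProduct.tmul_smul, h1, TensorProduct.tmul_zero]
    exact (hu.smul_eq_zero).1 h2
  | add y z hy hz => rw [hy, hz, add_zero]

/-- a finite module freely generated by `x` at `q` is free of rank one on a basic open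
neighbourhood. -/
theorem exists_away_linearEquiv [IsNoetherianRing A] (x : M)
    (h1 : ∀ m : M, ∃ a : A, a ∉ q ∧ ∃ b : A, a • m = b • x)
    (h2 : ∀ b : A, b • x = 0 → ∃ a : A, a ∉ q ∧ a * b = 0) :
    ∃ f₀ : A, f₀ ∉ q ∧ ∀ (f : A) (Af : Type u) [CommRing Af] [Algebra A Af]
      [IsLocalization.Away f Af], f₀ ∣ f → Nonempty (Af ≃ₗ[Af] (Af ⊗[A] M)) := by
  obtain ⟨f₂, hf₂, hf₂'⟩ := exists_uniform_denominator q M (Submodule.span A {x})
    (fun m => by
      obtain ⟨a, ha, b, hb⟩ := h1 m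
      exact ⟨a, ha, by rw [hb]; exact Submodule.smul_mem _ _ (Submodule.subset_span rfl)⟩)
  let J : Ideal A := LinearMap.ker (LinearMap.toSpanSingleton A M x)
  have hJ : ∀ b : A, b ∈ J ↔ b • x = 0 := fun b => by
    rw [LinearMap.mem_ker, LinearMap.toSpanSingleton_apply]
  obtain ⟨f₁, hf₁, hf₁'⟩ := exists_uniform_denominator q J ⊥
    (fun b => by
      obtain ⟨a, ha, h0⟩ := h2 (b : A) ((hJ _).1 b.2)
      refine ⟨a, ha, ?_⟩
      rw [Submodule.mem_bot]
      apply Subtype.ext
      exact h0)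
  have hf₁'' : ∀ b : A, b • x = 0 → f₁ * b = 0 := fun b hb => by
    have := (Submodule.mem_bot A).1 (hf₁' ⟨b, (hJ b).2 hb⟩)
    exact congrArg Subtype.val this
  refine ⟨f₁ * f₂, fun hc => (Ideal.IsPrime.mem_or_mem inferInstance hc).elim hf₁ hf₂,
    fun f Af _ _ _ hdiv => ?_⟩
  obtain ⟨r, hfr⟩ := hdiv
  have hu : IsUnit (algebraMap A Af f) := IsLocalization.Away.algebraMap_isUnit f
  have hu₁ : IsUnit (algebraMap A Af f₁) := by
    have : algebraMap A Af f = algebraMap A Af f₁ * algebraMap A Af (f₂ * r) := by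
      rw [← map_mul, hfr, mul_assoc]
    rw [this] at hu
    exact isUnit_of_mul_isUnit_left hu
  let lin : Af →ₗ[Af] (Af ⊗[A] M) := LinearMap.toSpanSingleton Af _ ((1 : Af) ⊗ₜ[A] x)
  have hlin : ∀ a : Af, lin a = a ⊗ₜ[A] x := fun a => by
    show a • ((1 : Af) ⊗ₜ[A] x) = a ⊗ₜ[A] x
    rw [TensorProduct.smul_tmul', smul_eq_mul, mul_one]
  have hsurj : Function.Surjective lin := by
    intro z
    induction z using TensorProduct.induction_on with
    | zero => exact ⟨0, map_zero _⟩
    | tmul a m =>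
      obtain ⟨b, hb⟩ := Submodule.mem_span_singleton.1 (hf₂' m)
      have h3 : f • m = (f₁ * r * b) • x := by
        calc f • m = (f₁ * r) • (f₂ • m) := by
              rw [hfr, ← mul_smul]; congr 1; ring
          _ = (f₁ * r) • (b • x) := by rw [hb]
          _ = (f₁ * r * b) • x := by rw [← mul_smul]
      obtain ⟨v, hv⟩ := hu.exists_left_inv
      refine ⟨a * v * algebraMap A Af (f₁ * r * b), ?_⟩
      rw [hlin]
      calc (a * v * algebraMap A Af (f₁ * r * b)) ⊗ₜ[A] x
          = (a * v) ⊗ₜ[A] ((f₁ * r * b) • x) := by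
            rw [TensorProduct.tmul_smul, TensorProduct.smul_tmul', Algebra.smul_def, mul_comm]
        _ = (a * v) ⊗ₜ[A] (f • m) := by rw [h3]
        _ = (a * v * algebraMap A Af f) ⊗ₜ[A] m := by
            rw [TensorProduct.tmul_smul, TensorProduct.smul_tmul', Algebra.smul_def, mul_comm]
        _ = a ⊗ₜ[A] m := by rw [mul_assoc, hv, mul_one]
    | add y z hy hz =>
      obtain ⟨a, rfl⟩ := hy
      obtain ⟨b, rfl⟩ := hz
      exact ⟨a + b, map_add _ _ _⟩
  have hinj : Function.Injective lin := by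
    rw [← LinearMap.ker_eq_bot, eq_bot_iff]
    intro a ha
    rw [LinearMap.mem_ker, hlin] at ha
    rw [Submodule.mem_bot]
    obtain ⟨⟨b, s⟩, hbs⟩ := IsLocalization.surj (Submonoid.powers f) a
    have hbs' : a * algebraMap A Af (s : A) = algebraMap A Af b := hbs
    have h3 : (TensorProduct.mk A Af M 1) (b • x) = 0 := by
      show (1 : Af) ⊗ₜ[A] (b • x) = 0
      rw [TensorProduct.tmul_smul, TensorProduct.smul_tmul', Algebra.smul_def, mul_one, ← hbs',
        mul_comm, ← smul_eq_mul, ← TensorProduct.smul_tmul', ha, smul_zero]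
    obtain ⟨c, hc⟩ := (IsLocalizedModule.eq_zero_iff (Submonoid.powers f)
      (TensorProduct.mk A Af M 1)).1 h3
    have h4 : ((c : A) * b) • x = 0 := by rw [mul_smul]; exact hc
    have h5 := hf₁'' _ h4
    have hcu : IsUnit (algebraMap A Af (c : A)) := IsLocalization.map_units Af c
    have hsu : IsUnit (algebraMap A Af (s : A)) := IsLocalization.map_units Af s
    have h6 : algebraMap A Af f₁ * (algebraMap A Af (c : A) * algebraMap A Af b) = 0 := by
      rw [← map_mul, ← map_mul, h5, map_zero]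
    have h7 : algebraMap A Af b = 0 := by
      have := (hu₁.mul_right_eq_zero).1 h6
      exact (hcu.mul_right_eq_zero).1 this
    rw [h7] at hbs'
    exact (hsu.mul_left_eq_zero).1 hbs'
  exact ⟨LinearEquiv.ofBijective lin ⟨hinj, hsurj⟩⟩

end Spread

end Groth.Agent.Lib.ShriekLciH6
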