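import Mathlib
import Groth.Prelude.Def_DRing2
import Groth.Prelude.Def_DDual2
import Groth.Prelude.Def_Wider
import Groth.Prelude.Def_DualSh
import Groth.Prelude.Def_LCI2
import Groth.Agent.Lib.ShriekLci1_helper6
import Groth.Agent.Lib.ShriekLci2_helper6
import Groth.Agent.Lib.ShriekLci3_helper6
import Groth.Agent.Lib.ShriekLow5_helper6
import Groth.Agent.Lib.KoszulFlat_helper9

/-!
# `φ^!(R)` for a local complete intersection (helper6), part 4: auxiliary constructions:
shifting linear equivalences, weakly regular generators in the local ring of a Koszul-regular ideal.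
-/

set_option autoImplicit false
universe u
open CategoryTheory CategoryTheory.Limits DerivedCategory Pretriangulated ZeroObject
open scoped TensorProduct
attribute [local instance] HasDerivedCategory.standard

namespace Groth.Agent.Lib.ShriekLciH6

open DRing Groth.Agent.Lib.DMod_helper6 Groth.Agent.ExtendScalarsLib

section Shift

variable {T : Type u} [CommRing T]

/-- `Hom(X[-j], Y) ≃ Hom(X, Y[j])`, linearly. -/
noncomputable def shiftNegLinearEquiv (X Y : Dual.D T) (j : ℤ) :
    (X⟦-j⟧ ⟶ Y) ≃ₗ[T] (X ⟶ Y⟦j⟧) := by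
  let e1 : (X⟦-j⟧)⟦j⟧ ≅ X := (shiftFunctorCompIsoId (Dual.D T) (-j) j (by omega)).app X
  let lin : (X⟦-j⟧ ⟶ Y) →ₗ[T] ((X⟦-j⟧)⟦j⟧ ⟶ Y⟦j⟧) :=
    (shiftFunctor (Dual.D T) j).mapLinearMap T
  have hbij : Function.Bijective lin :=
    ⟨(shiftFunctor (Dual.D T) j).map_injective, (shiftFunctor (Dual.D T) j).map_surjective⟩
  exact (LinearEquiv.ofBijective lin hbij).trans (Linear.homCongr T e1 (Iso.refl _))

end Shift

section Quot

variable {T : Type u} [CommRing T]

/-- `ext_quot_ofList_self` for an ideal equal to `Ideal.ofList rs`. -/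
theorem ext_quot_self_of_eq (J : Ideal T) (rs : List T) (hJ : Ideal.ofList rs = J)
    (hreg : RingTheory.Sequence.IsWeaklyRegular T rs) :
    (∀ j : ℤ, j ≠ (rs.length : ℤ) →
      Subsingleton (Dual.inD T (T ⧸ J) ⟶ (Dual.inD T T)⟦j⟧)) ∧
    Nonempty ((T ⧸ J) ≃ₗ[T] (Dual.inD T (T ⧸ J) ⟶ (Dual.inD T T)⟦(rs.length : ℤ)⟧)) := by
  subst hJ
  exact ext_quot_ofList_self rs hreg

end Quot

section Regular

variable {P : Type u} [CommRing P] [IsNoetherianRing P]

/-- a Koszul-regular ideal is generated by a weakly regular sequence in the local ring of any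
prime containing it. -/
theorem exists_weaklyRegular_localization (I : Ideal P) (hI : LCI.IsKoszulRegularIdeal I)
    (𝔓 : Ideal P) [𝔓.IsPrime] (hle : I ≤ 𝔓) :
    ∃ rs : List (Localization.AtPrime 𝔓),
      RingTheory.Sequence.IsWeaklyRegular (Localization.AtPrime 𝔓) rs ∧
        Ideal.ofList rs = I.map (algebraMap P (Localization.AtPrime 𝔓)) := by
  obtain ⟨g, hg, l, hl, hspan⟩ := hI ⟨𝔓, inferInstance⟩ hle
  have hg' : g ∉ 𝔓 := hg
  set S := Localization.AtPrime 𝔓 with hS
  let T := Localization.Away g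
  have hu : IsUnit (algebraMap P S g) :=
    IsLocalization.map_units S (⟨g, hg'⟩ : 𝔓.primeCompl)
  let φ : T →+* S := IsLocalization.Away.lift g hu
  have hφ : φ.comp (algebraMap P T) = algebraMap P S := IsLocalization.Away.lift_comp g hu
  letI : Algebra T S := φ.toAlgebra
  haveI : IsScalarTower P T S := IsScalarTower.of_algebraMap_eq' hφ.symm
  have hpow : Submonoid.powers g ≤ 𝔓.primeCompl := by
    rintro _ ⟨k, rfl⟩
    exact fun h => hg' (Ideal.IsPrime.mem_of_pow_mem inferInstance k h)
  haveI : IsLocalization (𝔓.primeCompl.map (algebraMap P T)) S :=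
    IsLocalization.isLocalization_of_submonoid_le T S (Submonoid.powers g) 𝔓.primeCompl hpow
  have hflat : φ.Flat := by
    show Module.Flat T S
    exact IsLocalization.flat S (𝔓.primeCompl.map (algebraMap P T))
  haveI : IsNoetherianRing S := IsLocalization.isNoetherianRing 𝔓.primeCompl S inferInstance
  have hmapI : (Ideal.ofList l).map φ = I.map (algebraMap P S) := by
    have : Ideal.ofList l = I.map (algebraMap P T) := hspan.symm
    rw [this, Ideal.map_map, hφ]
  have hImax : I.map (algebraMap P S) ≤ IsLocalRing.maximalIdeal S := by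
    rw [← Localization.AtPrime.map_eq_maximalIdeal]
    exact Ideal.map_mono hle
  have hmem : ∀ x ∈ l, φ x ∈ IsLocalRing.maximalIdeal S := by
    intro x hx
    apply hImax
    rw [← hmapI]
    exact Ideal.mem_map_of_mem φ (Ideal.subset_span hx)
  have hreg := Groth.Agent.KoszulFlat9.isWeaklyRegular_map_of_koszulRegular φ hflat l hl hmem
  refine ⟨l.map φ, hreg, ?_⟩
  rw [← Ideal.map_ofList, hmapI]

end Regular

end Groth.Agent.Lib.ShriekLciH6
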