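import Mathlib
import Groth.Prelude.Def_DRing2
import Groth.Prelude.Def_DDual2
import Groth.Prelude.Def_Wider
import Groth.Prelude.Def_DualSh
import Groth.Prelude.Def_LCI2
import Groth.Agent.Lib.ShriekLci4_helper6
import Groth.Agent.Lib.ShriekLow5_helper6
import Groth.Agent.Lib.DMod83_helper6

/-!
# `φ^!(R)` for a local complete intersection (helper6), part 5: the cohomology of `RHom_P(A, P)` at
a prime `q` when the kernel of `P → A` is generated by a weakly regular sequence of length `c` in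
`P_Q`: it vanishes at `q` outside degree `c` and is freely generated at `q` by one element in
degree `c`.
-/

set_option autoImplicit false
universe u
open CategoryTheory CategoryTheory.Limits DerivedCategory Pretriangulated ZeroObject
open scoped TensorProduct
attribute [local instance] HasDerivedCategory.standard

namespace Groth.Agent.Lib.ShriekLciH6

open DRing Groth.Agent.Lib.DMod_helper6 Groth.Agent.ExtendScalarsLib Groth.Agent.Lib.ShriekLowH6

section Local

variable {P A : Type u} [CommRing P] [CommRing A] [IsNoetherianRing P]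
  (ψ : P →+* A) (hψ : Function.Surjective ψ)
  (Rψ : Dual.D P ⥤ Dual.D A) (adj : restrictD ψ ⊣ Rψ) (L : Dual.D P) (eL : L ≅ Dual.inD P P)
  (q : Ideal A) [q.IsPrime]

include hψ adj eL in
/-- vanishing at `q` outside degree `c`. -/
theorem localized_HD_vanishing [hQ : (q.comap ψ).IsPrime]
    (rs : List (Localization.AtPrime (q.comap ψ)))
    (hreg : RingTheory.Sequence.IsWeaklyRegular (Localization.AtPrime (q.comap ψ)) rs)
    (hrs : Ideal.ofList rs =
      (RingHom.ker ψ).map (algebraMap P (Localization.AtPrime (q.comap ψ))))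
    (j : ℤ) (hj : j ≠ (rs.length : ℤ)) (m : Dual.HD A (Rψ.obj L) j) :
    ∃ a : A, a ∉ q ∧ a • m = 0 := by
  have hsub : Subsingleton (LocalizedModule q.primeCompl (Dual.HD A (Rψ.obj L) j)) := by
    by_contra hns
    have h1 : Nontrivial (LocalizedModule q.primeCompl (Dual.HD A (Rψ.obj L) j)) :=
      not_subsingleton_iff_nontrivial.1 hns
    obtain ⟨g, hg⟩ := exists_hom_of_nontrivial_localized_HD (Rψ.obj L) q j h1
    obtain ⟨f, hf⟩ := exists_hom_restrict_of_hom_rightAdjoint Rψ adj _ L q g hg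
    have h2 := not_subsingleton_hom_of_hom (RingHom.ker ψ) (q.comap ψ) j _ L
      (restrictSingleIso ψ hψ j) eL f hf
    exact h2 ((ext_quot_self_of_eq _ rs hrs hreg).1 j hj)
  obtain ⟨a, ha, h0⟩ := (LocalizedModule.subsingleton_iff.1 hsub) m
  exact ⟨a, ha, h0⟩

include hψ adj eL in
/-- a free generator at `q` in degree `c`. -/
theorem exists_generator_HD [hQ : (q.comap ψ).IsPrime]
    (rs : List (Localization.AtPrime (q.comap ψ)))
    (hreg : RingTheory.Sequence.IsWeaklyRegular (Localization.AtPrime (q.comap ψ)) rs)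
    (hrs : Ideal.ofList rs =
      (RingHom.ker ψ).map (algebraMap P (Localization.AtPrime (q.comap ψ)))) :
    ∃ x : Dual.HD A (Rψ.obj L) (rs.length : ℤ),
      (∀ m : Dual.HD A (Rψ.obj L) (rs.length : ℤ), ∃ a : A, a ∉ q ∧ ∃ b : A, a • m = b • x) ∧
      (∀ b : A, b • x = 0 → ∃ a : A, a ∉ q ∧ a * b = 0) := by
  obtain ⟨c, hc⟩ : ∃ c : ℤ, c = (rs.length : ℤ) := ⟨_, rfl⟩
  rw [← hc]
  let Q : Ideal P := q.comap ψ
  let S := Localization.AtPrime (q.comap ψ)
  let I : Ideal P := RingHom.ker ψ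
  let Y : Dual.D A := toD ((HomologicalComplex.single (ModuleCat.{u} A) (ComplexShape.up ℤ) c).obj
    (ModuleCat.of A A))
  let K : Dual.D P := (Dual.inD P (P ⧸ I))⟦-c⟧
  obtain ⟨e1⟩ := nonempty_hom_single_linearEquiv_HD (Rψ.obj L) c
  -- the semilinear equivalence
  let Θ₂ : ((restrictD ψ).obj Y ⟶ L) ≃ₗ[P] (K ⟶ L) :=
    Linear.homCongr P (restrictSingleIso ψ hψ c) (Iso.refl L)
  let Θ : Dual.HD A (Rψ.obj L) c ≃+ (K ⟶ L) :=
    (e1.symm.toAddEquiv.trans (adj.homAddEquiv Y L).symm).trans Θ₂.toAddEquiv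
  have hΘ : ∀ (t : P) (m : Dual.HD A (Rψ.obj L) c), Θ (ψ t • m) = t • Θ m := by
    intro t m
    show Θ₂ ((adj.homEquiv Y L).symm (e1.symm (ψ t • m))) =
      t • Θ₂ ((adj.homEquiv Y L).symm (e1.symm m))
    rw [map_smul, homEquiv_symm_smul, map_smul]
  -- localization
  have hK : IsPseudoCoherent' P K :=
    isPseudoCoherent'_shift _ (-c) (isPseudoCoherentModule'_of_finite (P ⧸ I))
  haveI : DerivedCategory.IsGE L 0 := TStructure.t.isGE_of_iso eL.symm 0
  have hloc := locHom (B := S) Q.primeCompl K L hK 0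
  let lam : (K ⟶ L) →+ ((bcD P S).obj K ⟶ (bcD P S).obj L) := (bcD P S).mapAddHom
  have hlam : ∀ (t : P) (e : K ⟶ L), lam (t • e) = algebraMap P S t • lam e :=
    fun t e => bcD_map_smul t e
  have hL1 : ∀ g : (bcD P S).obj K ⟶ (bcD P S).obj L, ∃ s : P, s ∉ q.comap ψ ∧
      ∃ e : K ⟶ L, algebraMap P S s • g = lam e := by
    intro g
    obtain ⟨s, f, hsf⟩ := hloc.1 g
    exact ⟨s, s.2, f, hsf⟩
  have hL2 : ∀ e : K ⟶ L, lam e = 0 → ∃ s : P, s ∉ q.comap ψ ∧ s • e = 0 := by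
    intro e he
    obtain ⟨s, hs⟩ := hloc.2 e he
    exact ⟨s, s.2, hs⟩
  -- the local computation
  obtain ⟨ε1⟩ := (ext_quot_self_of_eq (I.map (algebraMap P S)) rs hrs hreg).2
  rw [← hc] at ε1
  let ε2 : (Dual.inD S (S ⧸ I.map (algebraMap P S)) ⟶ (Dual.inD S S)⟦c⟧) ≃ₗ[S]
      ((Dual.inD S (S ⧸ I.map (algebraMap P S)))⟦-c⟧ ⟶ Dual.inD S S) :=
    (shiftNegLinearEquiv _ _ c).symm
  let ε3 : ((Dual.inD S (S ⧸ I.map (algebraMap P S)))⟦-c⟧ ⟶ Dual.inD S S) ≃ₗ[S]
      ((bcD P S).obj K ⟶ (bcD P S).obj L) :=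
    Linear.homCongr S (bcQuotShiftIso S I c).symm ((bcD P S).mapIso eL ≪≫ bcSelfIso S).symm
  exact exists_generator_of_localized_cyclic ψ hψ q S Θ hΘ lam hlam hL1 hL2
    ((ε1.trans ε2).trans ε3)

end Local

end Groth.Agent.Lib.ShriekLciH6
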