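import Mathlib
import Groth.Prelude.Def_DRing2
import Groth.Prelude.Def_DDual2
import Groth.Prelude.Def_Wider
import Groth.Prelude.Def_DualSh
import Groth.Prelude.Def_LCI2
import Groth.Agent.Lib.ShriekLci5_helper6
import Groth.Agent.Lib.DMod62_helper6
import Groth.Agent.Lib.DMod103_helper6
import Groth.Agent.Lib.DMod75_helper6

/-!
# `φ^!(R)` for a local complete intersection (helper6), part 6: the cohomology modules of
`RHom_P(A, P)` for a Koszul-regular kernel: boundedness, finiteness, and spreading out from a prime.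
-/

set_option autoImplicit false
universe u
open CategoryTheory CategoryTheory.Limits DerivedCategory Pretriangulated ZeroObject
open scoped TensorProduct
attribute [local instance] HasDerivedCategory.standard

namespace Groth.Agent.Lib.ShriekLciH6

open DRing Groth.Agent.Lib.DMod_helper6 Groth.Agent.ExtendScalarsLib Groth.Agent.Lib.ShriekLowH6

section Bounds

variable {P A : Type u} [CommRing P] [CommRing A] [IsNoetherianRing P]
  (ψ : P →+* A) (hψ : Function.Surjective ψ)
  (Rψ : Dual.D P ⥤ Dual.D A) (adj : restrictD ψ ⊣ Rψ) (L : Dual.D P) (eL : L ≅ Dual.inD P P)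

include eL in
lemma subsingleton_HD_of_iso_inD_self (i : ℤ) (hi : i ≠ 0) : Subsingleton (Dual.HD P L i) := by
  haveI := ModuleCat.subsingleton_of_isZero (isZero_HD_inD (ModuleCat.of P P) i hi)
  exact ((homologyFunctor (ModuleCat.{u} P) i).mapIso eL).toLinearEquiv.toEquiv.subsingleton

include eL in
lemma finite_HD_of_iso_inD_self (i : ℤ) : Module.Finite P (Dual.HD P L i) := by
  haveI := finite_HD_inD_self (A := P) i
  exact Module.Finite.equiv ((homologyFunctor (ModuleCat.{u} P) i).mapIso eL).toLinearEquiv.symm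

include adj eL in
/-- vanishing in negative degrees. -/
theorem subsingleton_HD_rightAdjoint_of_neg (j : ℤ) (hj : j < 0) :
    Subsingleton (Dual.HD A (Rψ.obj L) j) :=
  subsingleton_HD_rightAdjoint_restrictD Rψ adj L 0
    (fun i hi => subsingleton_HD_of_iso_inD_self L eL i (by omega)) j hj

include hψ adj eL in
/-- vanishing in large degrees, for a Koszul-regular kernel. -/
theorem exists_bound_HD_rightAdjoint (hI : LCI.IsKoszulRegularIdeal (RingHom.ker ψ)) :
    ∃ N : ℤ, ∀ j : ℤ, N < j → Subsingleton (Dual.HD A (Rψ.obj L) j) := by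
  obtain ⟨E, a, b, hvan, hfp, ⟨e⟩⟩ := isPerfect_quotient_of_isKoszulRegularIdeal (RingHom.ker ψ) hI
  refine ⟨-a, fun j hj => ?_⟩
  have h1 : Subsingleton (Dual.inD P (P ⧸ RingHom.ker ψ) ⟶ (Dual.inD P P)⟦j⟧) :=
    hom_subsingleton_of_projAmp E a b hvan (fun i => (hfp i).2) _ e (ModuleCat.of P P) j (Or.inr hj)
  have h2 : Subsingleton ((Dual.inD P (P ⧸ RingHom.ker ψ))⟦-j⟧ ⟶ Dual.inD P P) :=
    subsingleton_hom_shift_neg j h1
  apply subsingleton_HD_of_subsingleton_hom (Rψ.obj L) j
  have h3 : Subsingleton ((restrictD ψ).obj (toD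
      ((HomologicalComplex.single (ModuleCat.{u} A) (ComplexShape.up ℤ) j).obj
        (ModuleCat.of A A))) ⟶ L) :=
    (Iso.homCongr (restrictSingleIso ψ hψ j) eL).subsingleton
  exact (adj.homEquiv _ L).symm.subsingleton

end Bounds

section Spread

variable {P A : Type u} [CommRing P] [CommRing A] [IsNoetherianRing P] [IsNoetherianRing A]
  (ψ : P →+* A) (hψ : Function.Surjective ψ)
  (Rψ : Dual.D P ⥤ Dual.D A) (adj : restrictD ψ ⊣ Rψ) (L : Dual.D P) (eL : L ≅ Dual.inD P P)

include hψ adj eL in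
lemma finite_HD_rightAdjoint_of_iso (j : ℤ) : Module.Finite A (Dual.HD A (Rψ.obj L) j) := by
  letI : Algebra P A := ψ.toAlgebra
  haveI : Module.Finite P A := Module.Finite.of_surjective (Algebra.linearMap P A) hψ
  exact finite_HD_rightAdjoint_restrictD (A := P) (B := A) Rψ adj L 0
    (fun i hi => subsingleton_HD_of_iso_inD_self L eL i (by omega))
    (fun i => finite_HD_of_iso_inD_self L eL i) j

include hψ adj eL in
/-- For a Koszul-regular kernel, near any prime `q` of `A` the complex `RHom_P(A, P)` has a single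
nonzero cohomology module, which is free of rank one. -/
theorem exists_away_HD_rightAdjoint (hI : LCI.IsKoszulRegularIdeal (RingHom.ker ψ))
    (q : Ideal A) [q.IsPrime] :
    ∃ (f : A) (_ : f ∉ q) (c : ℤ),
      (∀ j : ℤ, j ≠ c →
        Subsingleton (Localization.Away f ⊗[A] Dual.HD A (Rψ.obj L) j)) ∧
      Nonempty (Localization.Away f ≃ₗ[Localization.Away f]
        Localization.Away f ⊗[A] Dual.HD A (Rψ.obj L) c) := by
  classical
  haveI hQ : (q.comap ψ).IsPrime := Ideal.comap_isPrime ψ q
  have hle : RingHom.ker ψ ≤ q.comap ψ := by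
    intro x hx
    rw [Ideal.mem_comap, RingHom.mem_ker.1 hx]
    exact q.zero_mem
  obtain ⟨rs, hreg, hrs⟩ := exists_weaklyRegular_localization (RingHom.ker ψ) hI (q.comap ψ) hle
  obtain ⟨N, hN⟩ := exists_bound_HD_rightAdjoint ψ hψ Rψ adj L eL hI
  haveI hfin : ∀ j : ℤ, Module.Finite A (Dual.HD A (Rψ.obj L) j) :=
    fun j => finite_HD_rightAdjoint_of_iso ψ hψ Rψ adj L eL j
  -- spreading out the vanishing
  have hV : ∀ j : ℤ, j ≠ (rs.length : ℤ) → ∃ f₀ : A, f₀ ∉ q ∧
      ∀ (f : A) (Af : Type u) [CommRing Af] [Algebra A Af] [IsLocalization.Away f Af], f₀ ∣ f →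
        Subsingleton (Af ⊗[A] Dual.HD A (Rψ.obj L) j) := fun j hj =>
    exists_away_subsingleton q (Dual.HD A (Rψ.obj L) j)
      (localized_HD_vanishing ψ hψ Rψ adj L eL q rs hreg hrs j hj)
  -- spreading out the generator
  obtain ⟨x, hx1, hx2⟩ := exists_generator_HD ψ hψ Rψ adj L eL q rs hreg hrs
  obtain ⟨fc, hfc, hfc'⟩ := exists_away_linearEquiv q (Dual.HD A (Rψ.obj L) (rs.length : ℤ)) x
    hx1 hx2
  -- choose
  let F : ℤ → A := fun j => if hj : j ≠ (rs.length : ℤ) then (hV j hj).choose else 1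
  have hF1 : ∀ j, F j ∉ q := by
    intro j
    by_cases hj : j ≠ (rs.length : ℤ)
    · simp only [F, dif_pos hj]
      exact (hV j hj).choose_spec.1
    · simp only [F, dif_neg hj]
      exact fun h1 => (Ideal.IsPrime.ne_top inferInstance) ((Ideal.eq_top_iff_one q).2 h1)
  have hF2 : ∀ j (hj : j ≠ (rs.length : ℤ)) (f : A) (Af : Type u) [CommRing Af] [Algebra A Af]
      [IsLocalization.Away f Af], F j ∣ f →
        Subsingleton (Af ⊗[A] Dual.HD A (Rψ.obj L) j) := by
    intro j hj f Af _ _ _ hdiv
    simp only [F, dif_pos hj] at hdiv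
    exact (hV j hj).choose_spec.2 f Af hdiv
  set f : A := fc * ∏ j ∈ Finset.Icc (0 : ℤ) N, F j with hf
  refine ⟨f, ?_, (rs.length : ℤ), ?_, ?_⟩
  · intro hc
    rcases Ideal.IsPrime.mem_or_mem inferInstance hc with h | h
    · exact hfc h
    · obtain ⟨j, -, hj⟩ := Ideal.IsPrime.prod_mem_iff.1 h
      exact hF1 j hj
  · intro j hj
    by_cases hjN : j ∈ Finset.Icc (0 : ℤ) N
    · refine hF2 j hj f (Localization.Away f) ?_
      exact Dvd.dvd.mul_left (Finset.dvd_prod_of_mem F hjN) fc
    · rw [Finset.mem_Icc, not_and_or, not_le, not_le] at hjN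
      haveI : Subsingleton (Dual.HD A (Rψ.obj L) j) := by
        rcases hjN with h | h
        · exact subsingleton_HD_rightAdjoint_of_neg ψ Rψ adj L eL j h
        · exact hN j h
      refine subsingleton_of_forall_eq 0 (fun z => ?_)
      induction z using TensorProduct.induction_on with
      | zero => rfl
      | tmul a m => rw [Subsingleton.elim m 0, TensorProduct.tmul_zero]
      | add y z hy hz => rw [hy, hz, add_zero]
  · exact hfc' f (Localization.Away f) (Dvd.intro _ rfl)

end Spread

end Groth.Agent.Lib.ShriekLciH6
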