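import Mathlib
import Groth.Prelude.Def_DRing2
import Groth.Prelude.Def_DDual2
import Groth.Prelude.Def_Wider
import Groth.Prelude.Def_DualSh
import Groth.Prelude.Def_LCI2
import Groth.Agent.Lib.ShriekLci6_helper6
import Groth.Agent.Lib.LCIPres_helper2
import Groth.Agent.Lib.DMod115_helper6
import Groth.Agent.Lib.DMod79_helper6

/-!
# `φ^!(R)` for a local complete intersection (helper6), part 7: `ω_{A/R} = φ^!(R)` is invertible
for a local complete intersection `R → A` (S1828).
-/

set_option autoImplicit false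
universe u
open CategoryTheory CategoryTheory.Limits DerivedCategory Pretriangulated ZeroObject
open scoped TensorProduct
attribute [local instance] HasDerivedCategory.standard

namespace Groth.Agent.Lib.ShriekLciH6

open DRing Groth.Agent.Lib.DMod_helper6 Groth.Agent.ExtendScalarsLib Groth.Agent.Lib.ShriekLowH6

/-- S1828. -/
theorem shriekVia_self_invertible_of_isLCI (R A : Type u) [CommRing R] [CommRing A]
    [IsNoetherianRing R] [IsNoetherianRing A] [Algebra R A] (hl : LCI.IsLCI R A) (n : ℕ)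
    (ψ : MvPolynomial (Fin n) R →ₐ[R] A) (hψ : Function.Surjective ψ)
    [DRing.HasLBaseChange (algebraMap R (MvPolynomial (Fin n) R))]
    (Rψ : Dual.D (MvPolynomial (Fin n) R) ⥤ Dual.D A)
    (adj : DRing.restrictD ψ.toRingHom ⊣ Rψ)
    [hL : ∀ f : A, DRing.HasLBaseChange (algebraMap A (Localization.Away f))]
    (q : PrimeSpectrum A) :
    ∃ (f : A) (_ : f ∉ q.asIdeal) (m : ℤ),
      Nonempty ((DRing.LBaseChange (algebraMap A (Localization.Away f))).obj
        (Dual2.shriekVia n Rψ (Dual.inD R R)) ≅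
          (Dual.inD (Localization.Away f) (Localization.Away f))⟦m⟧) := by
  obtain ⟨-, n', π, hπ, hI'⟩ := hl
  have hI : LCI.IsKoszulRegularIdeal (RingHom.ker ψ.toRingHom) :=
    Groth.Agent.Lib.LCIPres.main9269 n' n π hπ ψ hψ hI'
  set P := MvPolynomial (Fin n) R with hP
  set L : Dual.D P := (DRing.LBaseChange (algebraMap R P)).obj (Dual.inD R R) with hLdef
  obtain ⟨e0⟩ := nonempty_lBaseChange_iso_bcD (A := R) (B := P)
  let eL : L ≅ Dual.inD P P := e0.app (Dual.inD R R) ≪≫ bcSelfIso (P := R) P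
  obtain ⟨f, hf, c, hvan, ⟨e⟩⟩ :=
    exists_away_HD_rightAdjoint ψ.toRingHom hψ Rψ adj L eL hI q.asIdeal
  refine ⟨f, hf, (n : ℤ) - c, ?_⟩
  set Af := Localization.Away f with hAf
  haveI : Module.Flat A Af := IsLocalization.flat Af (Submonoid.powers f)
  obtain ⟨e1⟩ := nonempty_lBaseChange_iso_bcD (A := A) (B := Af)
  set ω : Dual.D A := Dual2.shriekVia n Rψ (Dual.inD R R) with hω
  -- cohomology of the base change
  have hH : ∀ i : ℤ, Nonempty (Dual.HD Af ((DRing.LBaseChange (algebraMap A Af)).obj ω) i ≃ₗ[Af]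
      Af ⊗[A] Dual.HD A (Rψ.obj L) ((n : ℤ) + i)) := fun i => by
    obtain ⟨e2⟩ := nonempty_HD_bcD_linearEquiv (B := Af) ω i
    let e3 : Dual.HD A ω i ≃ₗ[A] Dual.HD A (Rψ.obj L) ((n : ℤ) + i) :=
      (((homologyFunctor (ModuleCat.{u} A) 0).shiftIso (n : ℤ) i ((n : ℤ) + i) rfl).app
        (Rψ.obj L)).toLinearEquiv
    exact ⟨(((homologyFunctor (ModuleCat.{u} Af) i).mapIso (e1.app ω)).toLinearEquiv.trans e2).trans
      (LinearEquiv.baseChange A Af _ _ e3)⟩
  obtain ⟨e5⟩ := hH (c - (n : ℤ))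
  have hc : (n : ℤ) + (c - (n : ℤ)) = c := by omega
  rw [hc] at e5
  refine nonempty_iso_inD_shift_of_HD_single _ (c - (n : ℤ)) ((n : ℤ) - c) (by omega)
    (fun i hi => ?_) Af (e5.trans e.symm)
  obtain ⟨e4⟩ := hH i
  haveI := hvan ((n : ℤ) + i) (by omega)
  exact e4.toEquiv.subsingleton

end Groth.Agent.Lib.ShriekLciH6
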