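import Mathlib
import Groth.Agent.Lib.QFShriek3_helper6
import Groth.Agent.Lib.ExtInv3_helper6
import Groth.Agent.Lib.ShriekLci7_helper6
import Groth.Agent.Lib.SyntTA3_helper2
import Groth.Agent.Lib.GorFib6_helper6

/-!
# `φ^!` of a quasi-finite map (helper6), part 4: invertibility of `ω_{B/A}` for `A → B` flat
quasi-finite (S8964, S8963).
-/

set_option autoImplicit false
set_option linter.style.haveILetI false
set_option linter.unusedSectionVars false
set_option linter.unusedVariables false
universe u
open CategoryTheory Limits DerivedCategory AlgebraicGeometry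
open scoped TensorProduct
attribute [local instance] HasDerivedCategory.standard

namespace Groth.Agent.Lib.QFShriekH6

open DRing Groth.Agent.Lib.DMod_helper6 Groth.Agent.Lib.ShriekLciH6 Groth.Agent.Lib.ExtInvH6
  Groth.Agent.Lib.GorFibH6

section QF

variable (A B B' : Type u) [CommRing A] [CommRing B] [CommRing B'] [IsNoetherianRing A]
  [IsNoetherianRing B] [Algebra A B] [Module.Flat A B] [Algebra A B'] [Algebra B' B]
  [IsScalarTower A B' B] [Module.Finite A B']
  (hopen : IsOpenImmersion (Spec.map (CommRingCat.ofHom (algebraMap B' B)))) (n : ℕ)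
  (ψ : MvPolynomial (Fin n) A →ₐ[A] B) (hψ : Function.Surjective ψ)
  [DRing.HasLBaseChange (algebraMap A (MvPolynomial (Fin n) A))]
  (Rψ : Dual.D (MvPolynomial (Fin n) A) ⥤ Dual.D B) (adj : DRing.restrictD ψ.toRingHom ⊣ Rψ)

include hopen hψ adj in
/-- for `A → B` flat quasi-finite, `φ^!(A)` lives in degree `0` -/
theorem subsingleton_HD_shriekVia_of_flat_qf (i : ℤ) (hi : i ≠ 0) :
    Subsingleton (Dual.HD B (Dual2.shriekVia n Rψ (Dual.inD A A)) i) := by
  have hcomp : Spec.map (CommRingCat.ofHom (algebraMap A B)) =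
      Spec.map (CommRingCat.ofHom (algebraMap B' B)) ≫
        Spec.map (CommRingCat.ofHom (algebraMap A B')) := by
    rw [← Spec.map_comp, ← CommRingCat.ofHom_comp, ← IsScalarTower.algebraMap_eq]
  haveI := hopen
  haveI : IsFinite (Spec.map (CommRingCat.ofHom (algebraMap A B'))) := by
    rw [IsFinite.SpecMap_iff]
    exact (RingHom.finite_algebraMap).2 inferInstance
  haveI : LocallyQuasiFinite (Spec.map (CommRingCat.ofHom (algebraMap A B))) := by
    rw [hcomp]; infer_instance
  haveI : LocallyOfFiniteType (Spec.map (CommRingCat.ofHom (algebraMap A B))) := by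
    rw [hcomp]; infer_instance
  have hd : ∀ q : PrimeSpectrum B,
      FlatMor.fibreDimAt (Spec.map (CommRingCat.ofHom (algebraMap A B))) q ≤
        ((0 : ℕ) : WithBot ℕ∞) := fun q => by
    have h0 := FibCohH8.fibreDimAt_eq_zero_of_lqf
      (Spec.map (CommRingCat.ofHom (algebraMap A B))) q
    rw [h0]
    rfl
  have htor := Groth.Agent.Lib.ShriekRangeH6.hasTorAmplitudeIn_shriekVia_self A B n ψ hψ Rψ adj 0
    hd
  have htor' : HasTorAmplitudeIn A 0 0 ((DRing.restrictD (algebraMap A B)).obj
      (Dual2.shriekVia n Rψ (Dual.inD A A))) := by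
    have h0 : (-((0 : ℕ) : ℤ)) = 0 := by norm_num
    rw [h0] at htor
    exact htor
  exact (subsingleton_HD_restrictD_iff (algebraMap A B) _ i).1
    (subsingleton_HD_of_hasTorAmplitudeIn _ 0 0 htor' i (by omega))

include hopen hψ adj in
/-- for `A → B` flat quasi-finite, `ω_{B/A}` is an invertible module iff `φ^!(A)` is an invertible
object -/
theorem invertible_omega_iff_locally_shift
    [hL : ∀ f : B, DRing.HasLBaseChange (algebraMap B (Localization.Away f))] :
    Module.Invertible B (B ⊗[B'] Disc.Omega A B') ↔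
      ∀ q : PrimeSpectrum B, ∃ (f : B) (_ : f ∉ q.asIdeal) (m : ℤ),
        Nonempty ((DRing.LBaseChange (algebraMap B (Localization.Away f))).obj
          (Dual2.shriekVia n Rψ (Dual.inD A A)) ≅
            (Dual.inD (Localization.Away f) (Localization.Away f))⟦m⟧) := by
  set ω : Dual.D B := Dual2.shriekVia n Rψ (Dual.inD A A) with hω
  have hvanω : ∀ i : ℤ, i ≠ 0 → Subsingleton (Dual.HD B ω i) :=
    subsingleton_HD_shriekVia_of_flat_qf A B B' hopen n ψ hψ Rψ adj
  obtain ⟨eM⟩ := main8953 A B B' hopen n ψ hψ Rψ adj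
  constructor
  · intro hinv q
    haveI : Module.Invertible B (Dual.HD B ω 0) := Module.Invertible.congr eM.symm
    obtain ⟨s, hs1, hfree⟩ := Module.Invertible.exists_finset_free_localization
      (R := B) (M := Dual.HD B ω 0)
    have hex : ∃ r ∈ s, r ∉ q.asIdeal := by
      by_contra hcon
      push_neg at hcon
      have h1 : Ideal.span (s : Set B) ≤ q.asIdeal := Ideal.span_le.mpr hcon
      rw [hs1] at h1
      exact q.2.ne_top (top_le_iff.mp h1)
    obtain ⟨r, hr, hrq⟩ := hex
    haveI := hfree r hr
    obtain ⟨e'⟩ := Module.Invertible.free_iff_linearEquiv.1 this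
    have := nonempty_lBaseChange_iso_shift_of_localized_equiv ω 0 hvanω r e'
    exact ⟨r, hrq, -0, this⟩
  · intro hloc
    let s : Set B := {f | Nonempty (LocalizedModule.Away f (Dual.HD B ω 0)
      ≃ₗ[Localization.Away f] Localization.Away f)}
    have hs1 : Ideal.span s = ⊤ := by
      by_contra hne
      obtain ⟨𝔪, h𝔪, hle⟩ := Ideal.exists_le_maximal _ hne
      obtain ⟨f, hf, m, ⟨e⟩⟩ := hloc ⟨𝔪, h𝔪.isPrime⟩
      haveI : Nontrivial (Localization.Away f) := by
        rw [← not_subsingleton_iff_nontrivial,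
          IsLocalization.subsingleton_iff (M := Submonoid.powers f)]
        rintro ⟨k, hk⟩
        apply hf
        have h0 : f ^ k ∈ 𝔪 := by
          have : f ^ k = 0 := hk
          rw [this]; exact Ideal.zero_mem _
        exact h𝔪.isPrime.mem_of_pow_mem _ h0
      have hmem : f ∈ s :=
        nonempty_localized_equiv_of_lBaseChange_iso_shift ω 0 hvanω f m e
      exact hf (hle (Ideal.subset_span hmem))
    haveI : Module.Invertible B (Dual.HD B ω 0) :=
      Groth.Agent.Lib.InvLocFreeH7.main s hs1 (fun f hf => hf)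
    exact Module.Invertible.congr eM

end QF

section Synt

/-- **S8964** -/
theorem main8964 (A B' B : Type u) [CommRing A] [CommRing B'] [CommRing B] [IsNoetherianRing A]
    [Algebra A B'] [Algebra B' B] [Algebra A B] [IsScalarTower A B' B]
    (hf : QFDual.IsQFFactor A B' B) (hs : Synt.IsSyntomic A B) :
    Module.Invertible B (QFDual.omega A B' B) := by
  obtain ⟨hflat, hlci⟩ := (Groth.Agent.Lib.SyntTA.main9287 A B).1 hs
  haveI := hflat
  haveI := hf.finite
  haveI : Algebra.FiniteType A B := hlci.1
  haveI : IsNoetherianRing B := Algebra.FiniteType.isNoetherianRing A B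
  obtain ⟨n, ψ, hψ⟩ := Algebra.FiniteType.iff_quotient_mvPolynomial''.1
    (inferInstance : Algebra.FiniteType A B)
  haveI := Groth.Agent.Lib.TrivBCH6.hasLBaseChange_general (algebraMap A (MvPolynomial (Fin n) A))
  haveI hL : ∀ f : B, DRing.HasLBaseChange (algebraMap B (Localization.Away f)) :=
    fun f => Groth.Agent.Lib.TrivBCH6.hasLBaseChange_general _
  obtain ⟨Rψ, ⟨adj⟩⟩ := Groth.Agent.Lib.RestrictRightAdj.exists_rightAdjoint_restrictD
    ψ.toRingHom
  exact (invertible_omega_iff_locally_shift A B B' hf.isOpenImmersion n ψ hψ Rψ adj).2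
    (fun q => shriekVia_self_invertible_of_isLCI A B hlci n ψ hψ Rψ adj q)

end Synt

end Groth.Agent.Lib.QFShriekH6
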