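import Mathlib
import Groth.Agent.Lib.QFShriek4_helper6
import Groth.Prelude.Def_QFDual

/-!
# `φ^!` of a quasi-finite map (helper6), part 5: invertibility of `ω_{B/A}` is a fibrewise
condition (S8963).
-/

set_option autoImplicit false
set_option linter.style.haveILetI false
set_option linter.unusedSectionVars false
set_option linter.unusedVariables false
universe u
open CategoryTheory Limits DerivedCategory AlgebraicGeometry
open scoped TensorProduct
attribute [local instance] HasDerivedCategory.standard

namespace Groth.Agent.Lib.QFShriekH6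

open DRing Groth.Agent.Lib.DMod_helper6 Groth.Agent.Lib.ShriekLciH6 Groth.Agent.Lib.ExtInvH6
  Groth.Agent.Lib.GorFibH6

section Gor

variable (A B B' : Type u) [CommRing A] [CommRing B] [CommRing B'] [IsNoetherianRing A]
  [IsNoetherianRing B] [Algebra A B] [Module.Flat A B] [Algebra A B'] [Algebra B' B]
  [IsScalarTower A B' B] [Module.Finite A B']

/-- a quasi-finite factorization is of finite type -/
theorem finiteType_of_qf
    (hopen : IsOpenImmersion (Spec.map (CommRingCat.ofHom (algebraMap B' B)))) :
    Algebra.FiniteType A B := by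
  have hcomp : Spec.map (CommRingCat.ofHom (algebraMap A B)) =
      Spec.map (CommRingCat.ofHom (algebraMap B' B)) ≫
        Spec.map (CommRingCat.ofHom (algebraMap A B')) := by
    rw [← Spec.map_comp, ← CommRingCat.ofHom_comp, ← IsScalarTower.algebraMap_eq]
  haveI := hopen
  haveI : IsFinite (Spec.map (CommRingCat.ofHom (algebraMap A B'))) := by
    rw [IsFinite.SpecMap_iff]
    exact (RingHom.finite_algebraMap).2 inferInstance
  haveI : LocallyOfFiniteType (Spec.map (CommRingCat.ofHom (algebraMap A B))) := by
    rw [hcomp]; infer_instance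
  have hft : (algebraMap A B).FiniteType :=
    (HasRingHomProperty.Spec_iff (P := @LocallyOfFiniteType)
      (φ := CommRingCat.ofHom (algebraMap A B))).1 inferInstance
  exact RingHom.finiteType_algebraMap.1 hft

/-- for `A → B` flat quasi-finite, `ω_{B/A}` is invertible iff all fibres are Gorenstein -/
theorem invertible_omega_iff_gorenstein_fibres
    (hopen : IsOpenImmersion (Spec.map (CommRingCat.ofHom (algebraMap B' B)))) :
    Module.Invertible B (B ⊗[B'] Disc.Omega A B') ↔
      ∀ p : PrimeSpectrum A, LocCoh.IsGorensteinRing (B ⊗[A] p.asIdeal.ResidueField) := by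
  haveI : Algebra.FiniteType A B := finiteType_of_qf A B B' hopen
  obtain ⟨n, ψ, hψ⟩ := Algebra.FiniteType.iff_quotient_mvPolynomial''.1
    (inferInstance : Algebra.FiniteType A B)
  haveI := Groth.Agent.Lib.TrivBCH6.hasLBaseChange_general (algebraMap A (MvPolynomial (Fin n) A))
  haveI hL : ∀ f : B, DRing.HasLBaseChange (algebraMap B (Localization.Away f)) :=
    fun f => Groth.Agent.Lib.TrivBCH6.hasLBaseChange_general _
  obtain ⟨Rψ, ⟨adj⟩⟩ := Groth.Agent.Lib.RestrictRightAdj.exists_rightAdjoint_restrictD
    ψ.toRingHom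
  rw [invertible_omega_iff_locally_shift A B B' hopen n ψ hψ Rψ adj,
    ← main1786 A B n ψ hψ Rψ adj]

end Gor

section Field

variable (k B B' : Type u) [Field k] [CommRing B] [CommRing B'] [IsNoetherianRing B]
  [Algebra k B] [Algebra k B'] [Algebra B' B] [IsScalarTower k B' B] [Module.Finite k B']

/-- over a field: `ω_{B/k}` is invertible iff `B` is Gorenstein -/
theorem invertible_omega_iff_gorenstein_field
    (hopen : IsOpenImmersion (Spec.map (CommRingCat.ofHom (algebraMap B' B)))) :
    Module.Invertible B (B ⊗[B'] Disc.Omega k B') ↔ LocCoh.IsGorensteinRing B := by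
  rw [invertible_omega_iff_gorenstein_fibres k B B' hopen]
  have e : ∀ p : PrimeSpectrum k, (B ⊗[k] p.asIdeal.ResidueField) ≃+* B := fun p =>
    ((Algebra.TensorProduct.congr (AlgEquiv.refl (R := k) (A₁ := B))
      (Ideal.algEquivResidueFieldOfField p.asIdeal).symm).trans
      (Algebra.TensorProduct.rid k k B)).toRingEquiv
  constructor
  · intro h
    exact Groth.Agent.GorFlat9.isGorRing_of_ringEquiv (e ⟨⊥, Ideal.isPrime_bot⟩) (h _)
  · intro h p
    exact Groth.Agent.GorFlat9.isGorRing_of_ringEquiv (e p).symm h

end Field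

end Groth.Agent.Lib.QFShriekH6

namespace Groth.Agent.Lib.QFShriekH6

open DRing Groth.Agent.Lib.DMod_helper6

section Fibre

variable (A B' B : Type u) [CommRing A] [CommRing B'] [CommRing B] [IsNoetherianRing A]
  [IsNoetherianRing B] [Algebra A B'] [Algebra B' B] [Algebra A B] [IsScalarTower A B' B]
  [Module.Flat A B]

/-- the dualizing module of a fibre, presented as a pair of pushouts, is invertible iff the fibre
ring is Gorenstein -/
theorem fibre_invertible_iff (hf : QFDual.IsQFFactor A B' B) (p : Ideal A) [p.IsPrime]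
    (B'₁ B₁ : Type u) [CommRing B'₁] [CommRing B₁] [Algebra B' B'₁] [Algebra p.ResidueField B'₁]
    [Algebra A B'₁] [IsScalarTower A p.ResidueField B'₁] [IsScalarTower A B' B'₁] [Algebra B B₁]
    [Algebra p.ResidueField B₁] [Algebra A B₁] [IsScalarTower A p.ResidueField B₁]
    [IsScalarTower A B B₁] [Algebra B'₁ B₁] [Algebra B' B₁] [IsScalarTower B' B'₁ B₁]
    [IsScalarTower B' B B₁] [IsScalarTower p.ResidueField B'₁ B₁]
    (h : Algebra.IsPushout A p.ResidueField B' B'₁) (hB : Algebra.IsPushout A p.ResidueField B B₁) :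
    Module.Invertible B₁ (QFDual.omega p.ResidueField B'₁ B₁) ↔
      LocCoh.IsGorensteinRing (B ⊗[A] p.ResidueField) := by
  haveI := hf.finite
  haveI : Module.Finite p.ResidueField B'₁ :=
    Module.Finite.equiv (Algebra.IsPushout.equiv A p.ResidueField B' B'₁).toLinearEquiv
  haveI : Algebra.FiniteType A B := finiteType_of_qf A B B' hf.isOpenImmersion
  haveI : Algebra.FiniteType p.ResidueField B₁ :=
    Algebra.FiniteType.equiv (inferInstance : Algebra.FiniteType p.ResidueField
      (p.ResidueField ⊗[A] B)) (Algebra.IsPushout.equiv A p.ResidueField B B₁)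
  haveI : IsNoetherianRing B₁ := Algebra.FiniteType.isNoetherianRing p.ResidueField B₁
  haveI : IsScalarTower A B'₁ B₁ := IsScalarTower.of_algebraMap_eq (fun x => by
    rw [IsScalarTower.algebraMap_apply A p.ResidueField B₁,
      IsScalarTower.algebraMap_apply p.ResidueField B'₁ B₁,
      ← IsScalarTower.algebraMap_apply A p.ResidueField B'₁])
  have hopen₁ : IsOpenImmersion (Spec.map (CommRingCat.ofHom (algebraMap B'₁ B₁))) := by
    haveI : Algebra.IsPushout A B' p.ResidueField B'₁ := h.symm
    have hpo : Algebra.IsPushout B' B B'₁ B₁ :=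
      (Algebra.IsPushout.comp_iff (R := A) (S := B') (T := B) (R' := p.ResidueField) (S' := B'₁)
        (T' := B₁)).1 hB.symm
    haveI : Algebra.IsPushout B' B'₁ B B₁ := hpo.symm
    have hpo' := CommRingCat.isPushout_of_isPushout B' B'₁ B B₁
    have hpb := isPullback_SpecMap_of_isPushout _ _ _ _ hpo'
    exact MorphismProperty.of_isPullback (P := @IsOpenImmersion) hpb.flip hf.isOpenImmersion
  refine (invertible_omega_iff_gorenstein_field p.ResidueField B₁ B'₁ hopen₁).trans ?_
  have e : (B ⊗[A] p.ResidueField) ≃+* B₁ :=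
    (Algebra.IsPushout.equiv A B p.ResidueField B₁ (h := hB.symm)).toRingEquiv
  exact ⟨fun h => Groth.Agent.GorFlat9.isGorRing_of_ringEquiv e.symm h,
    fun h => Groth.Agent.GorFlat9.isGorRing_of_ringEquiv e h⟩

end Fibre

end Groth.Agent.Lib.QFShriekH6
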