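import Mathlib
import Groth.Agent.Lib.QFShriek5_helper6

/-!
# `φ^!` of a quasi-finite map (helper6), part 6: S8963.
-/

set_option autoImplicit false
set_option linter.style.haveILetI false
set_option linter.unusedSectionVars false
set_option linter.unusedVariables false
universe u
open CategoryTheory Limits AlgebraicGeometry
open scoped TensorProduct

namespace Groth.Agent.Lib.QFShriekH6

attribute [local instance] Algebra.TensorProduct.rightAlgebra

/-- **S8963** -/
theorem main8963 (A B' B : Type u) [CommRing A] [CommRing B'] [CommRing B] [IsNoetherianRing A]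
    [IsNoetherianRing B] [Algebra A B'] [Algebra B' B] [Algebra A B] [IsScalarTower A B' B]
    [Module.Flat A B] (hf : QFDual.IsQFFactor A B' B) :
    Module.Invertible B (QFDual.omega A B' B) ↔
      ∀ (p : Ideal A) [p.IsPrime] (B'₁ B₁ : Type u) [CommRing B'₁] [CommRing B₁] [Algebra B' B'₁]
        [Algebra p.ResidueField B'₁] [Algebra A B'₁] [IsScalarTower A p.ResidueField B'₁]
        [IsScalarTower A B' B'₁] [Algebra B B₁] [Algebra p.ResidueField B₁] [Algebra A B₁]
        [IsScalarTower A p.ResidueField B₁] [IsScalarTower A B B₁] [Algebra B'₁ B₁]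
        [Algebra B' B₁] [IsScalarTower B' B'₁ B₁] [IsScalarTower B' B B₁]
        [IsScalarTower p.ResidueField B'₁ B₁],
        Algebra.IsPushout A p.ResidueField B' B'₁ → Algebra.IsPushout A p.ResidueField B B₁ →
          Module.Invertible B₁ (QFDual.omega p.ResidueField B'₁ B₁) := by
  haveI := hf.finite
  have hG := invertible_omega_iff_gorenstein_fibres A B B' hf.isOpenImmersion
  constructor
  · intro hinv p _ B'₁ B₁ _ _ _ _ _ _ _ _ _ _ _ _ _ _ _ _ _ h hB
    rw [fibre_invertible_iff A B' B hf p B'₁ B₁ h hB]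
    exact hG.1 hinv ⟨p, inferInstance⟩
  · intro hall
    refine hG.2 (fun p => ?_)
    let κ := p.asIdeal.ResidueField
    let B'₁ := κ ⊗[A] B'
    let B₁ := κ ⊗[A] B
    let φ : B'₁ →ₐ[κ] B₁ :=
      Algebra.TensorProduct.map (AlgHom.id κ κ) (IsScalarTower.toAlgHom A B' B)
    letI : Algebra B'₁ B₁ := φ.toRingHom.toAlgebra
    letI : Algebra B' B₁ := ((algebraMap B B₁).comp (algebraMap B' B)).toAlgebra
    haveI : IsScalarTower B' B B₁ := IsScalarTower.of_algebraMap_eq (fun _ => rfl)
    haveI : IsScalarTower B' B'₁ B₁ := IsScalarTower.of_algebraMap_eq (fun x => by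
      show (1 : κ) ⊗ₜ[A] (algebraMap B' B x) = φ ((1 : κ) ⊗ₜ[A] x)
      rw [Algebra.TensorProduct.map_tmul]
      rfl)
    haveI : IsScalarTower κ B'₁ B₁ := IsScalarTower.of_algebraMap_eq (fun c => by
      show c ⊗ₜ[A] (1 : B) = φ (c ⊗ₜ[A] (1 : B'))
      rw [Algebra.TensorProduct.map_tmul, map_one]
      rfl)
    have h1 : Algebra.IsPushout A κ B' B'₁ := inferInstance
    have h2 : Algebra.IsPushout A κ B B₁ := inferInstance
    have hinv := hall p.asIdeal B'₁ B₁ h1 h2
    exact (fibre_invertible_iff A B' B hf p.asIdeal B'₁ B₁ h1 h2).1 hinv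

end Groth.Agent.Lib.QFShriekH6
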