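import Mathlib

/-! Noetherian slicing: through a point closed in its fibre, find a closed irreducible subset on
which the point is isolated in its fibre, keeping a generization inside a given open and outside
the fibre. Ring level. -/

universe u

namespace Groth.Agent.Lib.QFSliceH8

open Ideal

variable {A : Type*} [CommRing A]

/-- Between a prime `q` and a minimal prime over `q ⊔ (g)` there is no other prime. -/
theorem eq_or_eq_of_le_of_mem_minimalPrimes [IsNoetherianRing A] (q : Ideal A) [q.IsPrime] (g : A)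
    (Q : Ideal A) (hQ : Q ∈ (q ⊔ span {g}).minimalPrimes) (P : Ideal A) [P.IsPrime]
    (hqP : q ≤ P) (hPQ : P ≤ Q) : P = q ∨ P = Q := by
  by_cases hPQ' : P = Q
  · exact Or.inr hPQ'
  left
  have hQp : Q.IsPrime := hQ.1.1
  have h1 : (Q.map (Ideal.Quotient.mk q)).height ≤ 1 := Ideal.map_height_le_one_of_mem_minimalPrimes hQ
  have hqQ : q ≤ Q := hqP.trans hPQ
  haveI hQ' : (Q.map (Ideal.Quotient.mk q)).IsPrime :=
    Ideal.isPrime_map_quotientMk_of_isPrime hqQ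
  haveI hP' : (P.map (Ideal.Quotient.mk q)).IsPrime :=
    Ideal.isPrime_map_quotientMk_of_isPrime hqP
  have hcm : ∀ J : Ideal A, q ≤ J → (J.map (Ideal.Quotient.mk q)).comap (Ideal.Quotient.mk q) = J := by
    intro J hJ
    rw [Ideal.comap_map_of_surjective _ Ideal.Quotient.mk_surjective]
    rw [← RingHom.ker_eq_comap_bot, Ideal.mk_ker]
    exact sup_eq_left.mpr hJ
  have hlt : P.map (Ideal.Quotient.mk q) < Q.map (Ideal.Quotient.mk q) := by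
    refine lt_of_le_of_ne (Ideal.map_mono hPQ) ?_
    intro h
    apply hPQ'
    rw [← hcm P hqP, ← hcm Q hqQ, h]
  have h2 := (Ideal.height_le_iff.mp h1) _ hP' hlt
  have h3 : (P.map (Ideal.Quotient.mk q)).height = 0 := by
    have : (P.map (Ideal.Quotient.mk q)).height < 1 := h2
    exact Order.lt_one_iff.mp this
  haveI : IsDomain (A ⧸ q) := Ideal.Quotient.isDomain q
  rw [Ideal.height_eq_zero_iff_eq_bot] at h3
  apply le_antisymm _ hqP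
  rw [← hcm P hqP, h3, ← RingHom.ker_eq_comap_bot, Ideal.mk_ker]

/-- The main ring-level slicing statement. -/
theorem ring_main [IsNoetherianRing A] (m : Ideal A) [m.IsPrime] (𝔭 : Ideal A) (h𝔭 : 𝔭 ≤ m)
    (q' : Ideal A) [q'.IsPrime] (hq'm : q' ≤ m) (I : Ideal A) (hI : ¬ I ≤ q') (hq' : ¬ 𝔭 ≤ q') :
    ∃ q'' : Ideal A, q''.IsPrime ∧ q' ≤ q'' ∧ q'' ≤ m ∧ ¬ I ≤ q'' ∧ ¬ 𝔭 ≤ q'' ∧
      m ∈ (q'' ⊔ 𝔭).minimalPrimes := by
  classical
  let G : Set (Ideal A) := {Q | Q.IsPrime ∧ q' ≤ Q ∧ Q ≤ m ∧ ¬ I ≤ Q ∧ ¬ 𝔭 ≤ Q}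
  have hG : G.Nonempty := ⟨q', ‹_›, le_rfl, hq'm, hI, hq'⟩
  obtain ⟨(q'' : Ideal A), hq''G, hmax⟩ := set_has_maximal_iff_noetherian.mpr
    (inferInstance : IsNoetherian A A) G hG
  obtain ⟨hq''p, hq'q'', hq''m, hIq'', h𝔭q''⟩ := hq''G
  refine ⟨q'', hq''p, hq'q'', hq''m, hIq'', h𝔭q'', ?_⟩
  by_contra hmin
  have h𝔞m : q'' ⊔ 𝔭 ≤ m := sup_le hq''m h𝔭
  -- the finite set of primes to avoid
  have hfin1 : (q'' ⊔ 𝔭).minimalPrimes.Finite := Ideal.finite_minimalPrimes_of_isNoetherianRing A _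
  have hfin2 : (q'' ⊔ I).minimalPrimes.Finite := Ideal.finite_minimalPrimes_of_isNoetherianRing A _
  let T : Finset (Ideal A) := hfin1.toFinset ∪ (hfin2.toFinset.filter (fun Q => ¬ m ≤ Q))
  have hT : ∀ Q ∈ T, Q.IsPrime ∧ ¬ m ≤ Q := by
    intro Q hQ
    rw [Finset.mem_union] at hQ
    rcases hQ with hQ | hQ
    · have hQ1 : Q ∈ (q'' ⊔ 𝔭).minimalPrimes := hfin1.mem_toFinset.mp hQ
      refine ⟨hQ1.1.1, fun hmQ => hmin ?_⟩
      have : Q ≤ m := hQ1.2 ⟨‹m.IsPrime›, h𝔞m⟩ hmQ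
      rw [← le_antisymm this hmQ]
      exact hQ1
    · rw [Finset.mem_filter] at hQ
      exact ⟨(hfin2.mem_toFinset.mp hQ.1).1.1, hQ.2⟩
  have havoid : ¬ ((m : Set A) ⊆ ⋃ Q ∈ (T : Set (Ideal A)), (Q : Set A)) := by
    intro hsub
    obtain ⟨Q, hQ, hmQ⟩ := (Ideal.subset_union_prime (s := T) (f := fun Q => Q) q'' q''
      (fun Q hQ _ _ => (hT Q hQ).1)).mp hsub
    exact (hT Q hQ).2 hmQ
  rw [Set.not_subset] at havoid
  obtain ⟨g, hgm, hg⟩ := havoid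
  have hgT : ∀ Q ∈ T, g ∉ Q := by
    intro Q hQ hgQ
    apply hg
    simp only [Set.mem_iUnion]
    exact ⟨Q, hQ, hgQ⟩
  have hle : q'' ⊔ span {g} ≤ m := sup_le hq''m (by rwa [Ideal.span_singleton_le_iff_mem])
  obtain ⟨Q₀, hQ₀, hQ₀m⟩ := Ideal.exists_minimalPrimes_le hle
  haveI hQ₀p : Q₀.IsPrime := hQ₀.1.1
  have hq''Q₀ : q'' ≤ Q₀ := le_sup_left.trans hQ₀.1.2
  have hgQ₀ : g ∈ Q₀ := hQ₀.1.2 (Ideal.mem_sup_right (Ideal.mem_span_singleton_self g))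
  -- `𝔭 ⊄ Q₀`
  have h1 : ¬ 𝔭 ≤ Q₀ := by
    intro h
    obtain ⟨Q₁, hQ₁, hQ₁Q₀⟩ := Ideal.exists_minimalPrimes_le (sup_le hq''Q₀ h)
    haveI : Q₁.IsPrime := hQ₁.1.1
    have hQ₁T : Q₁ ∈ T := Finset.mem_union_left _ (hfin1.mem_toFinset.mpr hQ₁)
    rcases eq_or_eq_of_le_of_mem_minimalPrimes q'' g Q₀ hQ₀ Q₁ (le_sup_left.trans hQ₁.1.2) hQ₁Q₀
      with h2 | h2
    · exact h𝔭q'' (h2 ▸ le_sup_right.trans hQ₁.1.2)
    · exact hgT Q₁ hQ₁T (h2 ▸ hgQ₀)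
  have h2 : ¬ I ≤ Q₀ := by
    intro h
    obtain ⟨Q₂, hQ₂, hQ₂Q₀⟩ := Ideal.exists_minimalPrimes_le (sup_le hq''Q₀ h)
    haveI : Q₂.IsPrime := hQ₂.1.1
    rcases eq_or_eq_of_le_of_mem_minimalPrimes q'' g Q₀ hQ₀ Q₂ (le_sup_left.trans hQ₂.1.2) hQ₂Q₀
      with h3 | h3
    · exact hIq'' (h3 ▸ le_sup_right.trans hQ₂.1.2)
    · have hmQ₂ : ¬ m ≤ Q₂ := by
        intro hm
        apply h1
        rw [← h3]
        exact h𝔭.trans hm
      have hQ₂T : Q₂ ∈ T := Finset.mem_union_right _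
        (Finset.mem_filter.mpr ⟨hfin2.mem_toFinset.mpr hQ₂, hmQ₂⟩)
      exact hgT Q₂ hQ₂T (h3 ▸ hgQ₀)
  have hQ₀G : Q₀ ∈ G := ⟨hQ₀p, hq'q''.trans hq''Q₀, hQ₀m, h2, h1⟩
  have hlt : q'' < Q₀ := by
    refine lt_of_le_of_ne hq''Q₀ ?_
    intro h
    -- `g ∉ q''` since some minimal prime over `q'' ⊔ 𝔭` avoids `g`
    obtain ⟨Q₁, hQ₁, -⟩ := Ideal.exists_minimalPrimes_le h𝔞m
    have hQ₁T : Q₁ ∈ T := Finset.mem_union_left _ (hfin1.mem_toFinset.mpr hQ₁)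
    apply hgT Q₁ hQ₁T
    apply hQ₁.1.2
    apply Ideal.mem_sup_left
    rw [h]
    exact hgQ₀
  exact hmax Q₀ hQ₀G hlt

/-- If `m` is a minimal prime over `𝔞` and closed among the primes containing `𝔞` satisfying a
predicate, there is an ideal `J ⊄ m` contained in every other such prime. -/
theorem exists_isolating [IsNoetherianRing A] (m : Ideal A) [m.IsPrime] (𝔞 : Ideal A)
    (hm : m ∈ 𝔞.minimalPrimes) :
    ∃ J : Ideal A, ¬ J ≤ m ∧ ∀ P : Ideal A, P.IsPrime → 𝔞 ≤ P → ¬ m ≤ P → J ≤ P := by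
  classical
  have hfin : 𝔞.minimalPrimes.Finite := Ideal.finite_minimalPrimes_of_isNoetherianRing A _
  let T : Finset (Ideal A) := hfin.toFinset.filter (fun Q => Q ≠ m)
  refine ⟨T.inf id, ?_, ?_⟩
  · rw [Ideal.IsPrime.inf_le' ‹m.IsPrime›]
    rintro ⟨Q, hQ, hQm⟩
    rw [Finset.mem_filter] at hQ
    have hQ1 : Q ∈ 𝔞.minimalPrimes := hfin.mem_toFinset.mp hQ.1
    apply hQ.2
    exact le_antisymm hQm (hm.2 hQ1.1 hQm)
  · intro P hP h𝔞P hmP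
    obtain ⟨Q, hQ, hQP⟩ := Ideal.exists_minimalPrimes_le h𝔞P
    have hQT : Q ∈ T := by
      rw [Finset.mem_filter]
      refine ⟨hfin.mem_toFinset.mpr hQ, ?_⟩
      rintro rfl
      exact hmP hQP
    exact (Finset.inf_le hQT).trans hQP

/-- In a Noetherian spectrum, a point in the closure of an open set has a generization in it. -/
theorem exists_generization_of_mem_closure [IsNoetherianRing A] (I : Ideal A)
    (m : PrimeSpectrum A) (h : m ∈ closure ((PrimeSpectrum.zeroLocus (I : Set A))ᶜ)) :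
    ∃ P : PrimeSpectrum A, P.asIdeal ≤ m.asIdeal ∧ ¬ I ≤ P.asIdeal := by
  classical
  by_contra hcon
  push Not at hcon
  have hfin : (minimalPrimes A).Finite := minimalPrimes.finite_of_isNoetherianRing A
  let C : Set (PrimeSpectrum A) := ⋃ Q ∈ {Q ∈ minimalPrimes A | ¬ Q ≤ m.asIdeal},
    PrimeSpectrum.zeroLocus (Q : Set A)
  have hC : IsClosed C := by
    apply Set.Finite.isClosed_biUnion (hfin.subset (fun Q hQ => hQ.1))
    intro Q _
    exact PrimeSpectrum.isClosed_zeroLocus _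
  have hsub : (PrimeSpectrum.zeroLocus (I : Set A))ᶜ ⊆ C := by
    intro Q hQ
    rw [Set.mem_compl_iff, PrimeSpectrum.mem_zeroLocus, SetLike.coe_subset_coe] at hQ
    obtain ⟨Q₀, hQ₀, hQ₀Q⟩ := Ideal.exists_minimalPrimes_le (bot_le : (⊥ : Ideal A) ≤ Q.asIdeal)
    haveI : Q₀.IsPrime := hQ₀.1.1
    simp only [C, Set.mem_iUnion]
    refine ⟨Q₀, ⟨hQ₀, fun hle => hQ ?_⟩, ?_⟩
    · exact (hcon ⟨Q₀, inferInstance⟩ hle).trans hQ₀Q
    · rw [PrimeSpectrum.mem_zeroLocus, SetLike.coe_subset_coe]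
      exact hQ₀Q
  have hmC : m ∈ C := (closure_minimal hsub hC) h
  simp only [C, Set.mem_iUnion] at hmC
  obtain ⟨Q, ⟨-, hQm⟩, hQ⟩ := hmC
  rw [PrimeSpectrum.mem_zeroLocus, SetLike.coe_subset_coe] at hQ
  exact hQm hQ

end Groth.Agent.Lib.QFSliceH8
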