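import Mathlib
import Groth.Agent.Lib.QFSlice1_helper8

universe u
open AlgebraicGeometry CategoryTheory Limits

namespace Groth.Agent.Lib.QFSliceH8

/-- Topological core of the slicing statement. -/
theorem top_core {X S : Scheme.{u}} (f : X ⟶ S) [LocallyOfFiniteType f] [IsLocallyNoetherian S]
    (x : X) (hcl : IsClosed (Subtype.val ⁻¹' {x} : Set ↑(f ⁻¹' {f x}))) (U : X.Opens)
    (hx' : ∃ x' : X, x' ∈ U ∧ x' ⤳ x ∧ f x' ≠ f x) :
    ∃ z : X, z ∈ U ∧ z ⤳ x ∧ f z ≠ f x ∧ ∃ O : Set X, IsOpen O ∧ x ∈ O ∧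
      ∀ y ∈ O, z ⤳ y → f y = f x → y = x := by
  obtain ⟨x', hx'U, hx'x, hfx'⟩ := hx'
  haveI : IsLocallyNoetherian X := LocallyOfFiniteType.isLocallyNoetherian f
  -- affine charts
  obtain ⟨_, ⟨(V : S.Opens), hV : IsAffineOpen V, rfl⟩, hfxV, -⟩ :=
    (S.isBasis_affineOpens).exists_subset_of_mem_open (Set.mem_univ (f x)) isOpen_univ
  obtain ⟨_, ⟨(W : X.Opens), hW : IsAffineOpen W, rfl⟩, hxW, hWV⟩ :=
    (X.isBasis_affineOpens).exists_subset_of_mem_open (show x ∈ (f ⁻¹ᵁ V : Set X) from hfxV)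
      (f ⁻¹ᵁ V).isOpen
  have hWV' : W ≤ f ⁻¹ᵁ V := hWV
  haveI : IsNoetherianRing Γ(X, W) := IsLocallyNoetherian.component_noetherian ⟨W, hW⟩
  let φ : Γ(S, V) →+* Γ(X, W) := (f.appLE V W hWV').hom
  have hcomp : Spec.map (f.appLE V W hWV') ≫ hV.fromSpec = hW.fromSpec ≫ f :=
    IsAffineOpen.SpecMap_appLE_fromSpec f hV hW hWV'
  -- fibre criterion
  have hfib : ∀ P Q : PrimeSpectrum Γ(X, W), f (hW.fromSpec P) = f (hW.fromSpec Q) ↔
      P.asIdeal.comap φ = Q.asIdeal.comap φ := by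
    intro P Q
    have h1 : ∀ P : PrimeSpectrum Γ(X, W), f (hW.fromSpec P) =
        hV.fromSpec (Spec.map (f.appLE V W hWV') P) := by
      intro P
      rw [← Scheme.Hom.comp_apply, ← Scheme.Hom.comp_apply, hcomp]
    rw [h1, h1]
    constructor
    · intro h
      have h2 := hV.fromSpec.isOpenEmbedding.injective h
      exact congrArg PrimeSpectrum.asIdeal h2
    · intro h
      congr 1
      exact PrimeSpectrum.ext h
  have hspec : ∀ P Q : PrimeSpectrum Γ(X, W), hW.fromSpec P ⤳ hW.fromSpec Q ↔ P.asIdeal ≤ Q.asIdeal := by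
    intro P Q
    rw [hW.fromSpec.isOpenEmbedding.isInducing.specializes_iff]
    exact (PrimeSpectrum.le_iff_specializes P Q).symm
  have hrange : ∀ y : X, y ∈ W → ∃ P : PrimeSpectrum Γ(X, W), hW.fromSpec P = y := by
    intro y hy
    have : y ∈ Set.range hW.fromSpec := by rw [hW.range_fromSpec]; exact hy
    exact this
  obtain ⟨m₀, hm₀⟩ := hrange x hxW
  obtain ⟨q₀, hq₀⟩ := hrange x' (hx'x.mem_open W.isOpen hxW)
  have hq₀m₀ : q₀.asIdeal ≤ m₀.asIdeal := by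
    rw [← hspec, hm₀, hq₀]; exact hx'x
  -- the open set `U`
  have hUcl : IsClosed ((hW.fromSpec ⁻¹' (U : Set X))ᶜ) :=
    (U.isOpen.preimage hW.fromSpec.continuous).isClosed_compl
  obtain ⟨I₀, hI₀⟩ := (PrimeSpectrum.isClosed_iff_zeroLocus_ideal _).mp hUcl
  have hI₀' : ∀ P : PrimeSpectrum Γ(X, W), hW.fromSpec P ∈ U ↔ ¬ I₀ ≤ P.asIdeal := by
    intro P
    have h1 : P ∈ (hW.fromSpec ⁻¹' (U : Set X))ᶜ ↔ I₀ ≤ P.asIdeal := by
      rw [hI₀]; exact Iff.rfl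
    constructor
    · intro h h2
      exact (h1.mpr h2) h
    · intro h
      by_contra h2
      exact h (h1.mp h2)
  let 𝔭 : Ideal Γ(X, W) := (m₀.asIdeal.comap φ).map φ
  have h𝔭m : 𝔭 ≤ m₀.asIdeal := Ideal.map_comap_le
  have h𝔭iff : ∀ P : PrimeSpectrum Γ(X, W), P.asIdeal ≤ m₀.asIdeal →
      (𝔭 ≤ P.asIdeal ↔ P.asIdeal.comap φ = m₀.asIdeal.comap φ) := by
    intro P hP
    constructor
    · intro h
      apply le_antisymm (Ideal.comap_mono hP)
      exact Ideal.le_comap_map.trans (Ideal.comap_mono h)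
    · intro h
      show (m₀.asIdeal.comap φ).map φ ≤ P.asIdeal
      rw [← h]
      exact Ideal.map_comap_le
  have hq₀𝔭 : ¬ 𝔭 ≤ q₀.asIdeal := by
    intro h
    apply hfx'
    rw [← hq₀, ← hm₀, hfib]
    exact (h𝔭iff q₀ hq₀m₀).mp h
  have hq₀I : ¬ I₀ ≤ q₀.asIdeal := by
    rw [← hI₀', hq₀]; exact hx'U
  obtain ⟨q'', hq''p, -, hq''m, hIq'', h𝔭q'', hmin⟩ :=
    ring_main m₀.asIdeal 𝔭 h𝔭m q₀.asIdeal hq₀m₀ I₀ hq₀I hq₀𝔭
  obtain ⟨J, hJm, hJ⟩ := exists_isolating m₀.asIdeal (q'' ⊔ 𝔭) hmin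
  let z₀ : PrimeSpectrum Γ(X, W) := ⟨q'', hq''p⟩
  refine ⟨hW.fromSpec z₀, (hI₀' z₀).mpr hIq'', ?_, ?_, ?_⟩
  · rw [← hm₀, hspec]; exact hq''m
  · rw [← hm₀, Ne, hfib]
    intro h
    exact h𝔭q'' ((h𝔭iff z₀ hq''m).mpr h)
  · refine ⟨hW.fromSpec '' (PrimeSpectrum.zeroLocus (J : Set Γ(X, W)))ᶜ, ?_, ?_, ?_⟩
    · exact hW.fromSpec.isOpenEmbedding.isOpenMap _
        (PrimeSpectrum.isClosed_zeroLocus _).isOpen_compl
    · refine ⟨m₀, ?_, hm₀⟩
      exact hJm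
    · rintro _ ⟨P, hP, rfl⟩ hzP hfP
      replace hP : ¬ J ≤ P.asIdeal := hP
      rw [hspec] at hzP
      rw [← hm₀, hfib] at hfP
      have h𝔭P : 𝔭 ≤ P.asIdeal := by
        show (m₀.asIdeal.comap φ).map φ ≤ P.asIdeal
        rw [← hfP]
        exact Ideal.map_comap_le
      have hmP : m₀.asIdeal ≤ P.asIdeal := by
        by_contra hmP
        exact hP (hJ P.asIdeal P.2 (sup_le hzP h𝔭P) hmP)
      -- use closedness in the fibre
      have hxP : x ⤳ hW.fromSpec P := by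
        rw [← hm₀, hspec]; exact hmP
      have hPf : hW.fromSpec P ∈ f ⁻¹' {f x} := by
        rw [Set.mem_preimage, Set.mem_singleton_iff, ← hm₀, hfib]
        exact hfP
      have h1 : (⟨x, rfl⟩ : ↑(f ⁻¹' {f x})) ⤳ ⟨hW.fromSpec P, hPf⟩ := by
        rw [subtype_specializes_iff]
        exact hxP
      have h2 := h1.mem_closed hcl (by simp)
      simpa using h2

/-- The Noetherian slicing theorem. -/
theorem main1411 {X S : Scheme.{u}} (f : X ⟶ S) [LocallyOfFiniteType f] [IsLocallyNoetherian S]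
    (x : X) (hcl : IsClosed (Subtype.val ⁻¹' {x} : Set ↑(f ⁻¹' {f x}))) (U : X.Opens)
    (hx' : ∃ x' : X, x' ∈ U ∧ x' ⤳ x ∧ f x' ≠ f x) :
    ∃ (I : X.IdealSheafData) (z₀ x₀ : ↑I.subscheme), I.subschemeι x₀ = x ∧
      (I.subschemeι ≫ f).QuasiFiniteAt x₀ ∧
      I.subschemeι z₀ ∈ U ∧ I.subschemeι z₀ ⤳ x ∧ f (I.subschemeι z₀) ≠ f x := by
  obtain ⟨z, hzU, hzx, hfz, O, hO, hxO, hOz⟩ := top_core f x hcl U hx'
  let Z : TopologicalSpace.Closeds X := ⟨closure {z}, isClosed_closure⟩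
  let I : X.IdealSheafData := Scheme.IdealSheafData.vanishingIdeal Z
  have hsupp : (I.support : Set X) = closure {z} := rfl
  have hrange : Set.range I.subschemeι = closure {z} := by
    rw [Scheme.IdealSheafData.range_subschemeι, hsupp]
  have hz : z ∈ Set.range I.subschemeι := by rw [hrange]; exact subset_closure rfl
  have hx : x ∈ Set.range I.subschemeι := by rw [hrange]; exact hzx.mem_closure
  obtain ⟨z₀, hz₀⟩ := hz
  obtain ⟨x₀, hx₀⟩ := hx
  refine ⟨I, z₀, x₀, hx₀, ?_, by rw [hz₀]; exact hzU, by rw [hz₀]; exact hzx, by rw [hz₀]; exact hfz⟩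
  set g := I.subschemeι ≫ f with hg
  rw [Scheme.Hom.quasiFiniteAt_iff_isOpen_singleton_asFiber]
  rw [← (g.fiberHomeo (g x₀)).isOpen_image]
  simp only [Set.image_singleton, Scheme.Hom.asFiber, Homeomorph.apply_symm_apply]
  have hopen : IsOpen (Subtype.val ⁻¹' (I.subschemeι ⁻¹' O) : Set ↑(g ⁻¹' {g x₀})) :=
    (hO.preimage I.subschemeι.continuous).preimage continuous_subtype_val
  convert hopen using 1
  ext ⟨y, hy⟩
  simp only [Set.mem_singleton_iff, Set.mem_preimage, Subtype.mk.injEq]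
  constructor
  · rintro rfl
    rw [hx₀]; exact hxO
  · intro hyO
    have hy' : f (I.subschemeι y) = f x := by
      have : g y = g x₀ := hy
      rw [hg, Scheme.Hom.comp_apply, Scheme.Hom.comp_apply, hx₀] at this
      exact this
    have hzy : z ⤳ I.subschemeι y := by
      rw [specializes_iff_mem_closure, ← hrange]
      exact ⟨y, rfl⟩
    have := hOz _ hyO hzy hy'
    apply I.subschemeι.isEmbedding.injective
    rw [this, hx₀]

/-- Variant: `x` lies in the closure of an open which misses the fibre through `x`. -/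
theorem main9779 {X S : Scheme.{u}} (f : X ⟶ S) [LocallyOfFiniteType f] [IsLocallyNoetherian S]
    (x : X) (hcl : IsClosed (Subtype.val ⁻¹' {x} : Set ↑(f ⁻¹' {f x}))) (U : X.Opens)
    (hU : ∀ x' ∈ U, f x' ≠ f x) (hxU : x ∈ closure (U : Set ↑X)) :
    ∃ (I : X.IdealSheafData) (z₀ x₀ : ↑I.subscheme), I.subschemeι x₀ = x ∧
      (I.subschemeι ≫ f).QuasiFiniteAt x₀ ∧
      I.subschemeι z₀ ∈ U ∧ I.subschemeι z₀ ⤳ x ∧ f (I.subschemeι z₀) ≠ f x := by
  apply main1411 f x hcl U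
  haveI : IsLocallyNoetherian X := LocallyOfFiniteType.isLocallyNoetherian f
  obtain ⟨_, ⟨(W : X.Opens), hW : IsAffineOpen W, rfl⟩, hxW, -⟩ :=
    (X.isBasis_affineOpens).exists_subset_of_mem_open (Set.mem_univ x) isOpen_univ
  haveI : IsNoetherianRing Γ(X, W) := IsLocallyNoetherian.component_noetherian ⟨W, hW⟩
  have hx : x ∈ Set.range hW.fromSpec := by rw [hW.range_fromSpec]; exact hxW
  obtain ⟨(m₀ : PrimeSpectrum Γ(X, W)), hm₀⟩ := hx
  let U₀ : Set (PrimeSpectrum Γ(X, W)) := hW.fromSpec ⁻¹' (U : Set X)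
  have hU₀ : IsOpen U₀ := U.isOpen.preimage hW.fromSpec.continuous
  obtain ⟨I₀, hI₀⟩ := (PrimeSpectrum.isClosed_iff_zeroLocus_ideal _).mp hU₀.isClosed_compl
  have hm₀cl : m₀ ∈ closure ((PrimeSpectrum.zeroLocus (I₀ : Set Γ(X, W)))ᶜ) := by
    rw [← hI₀, compl_compl]
    have h1 := hW.fromSpec.isOpenEmbedding.isOpenMap.preimage_closure_eq_closure_preimage
      hW.fromSpec.continuous (U : Set X)
    have h2 : m₀ ∈ hW.fromSpec ⁻¹' closure (U : Set X) := by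
      show hW.fromSpec m₀ ∈ closure (U : Set X)
      rw [hm₀]; exact hxU
    rw [h1] at h2
    exact h2
  obtain ⟨P, hPm, hIP⟩ := exists_generization_of_mem_closure I₀ m₀ hm₀cl
  have hPU : hW.fromSpec P ∈ U := by
    have h1 : P ∉ PrimeSpectrum.zeroLocus (I₀ : Set Γ(X, W)) := hIP
    rw [← hI₀, Set.mem_compl_iff, not_not] at h1
    exact h1
  refine ⟨hW.fromSpec P, hPU, ?_, hU _ hPU⟩
  rw [← hm₀, hW.fromSpec.isOpenEmbedding.isInducing.specializes_iff]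
  exact (PrimeSpectrum.le_iff_specializes P m₀).mp hPm

end Groth.Agent.Lib.QFSliceH8
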