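import Mathlib
import Groth.Prelude.Def_WittGrp

/-!
# `V(ker σ)` is an ideal for a quasi-F-splitting `σ` (S16372)
-/

set_option autoImplicit false
universe u

namespace Groth.Agent.Lib.QFSplitShift

/-- Projection formula for truncated Witt vectors in characteristic `p`:
`y * V x = V (F (R y) * x)`. -/
theorem mul_shift (p : ℕ) [Fact p.Prime] (m : ℕ) (R : Type u) [CommRing R] (hp : (p : R) = 0)
    (y : TruncatedWittVector p (m + 1) R) (x : TruncatedWittVector p m R) :
    y * WittGrp.shift p (Nat.le_succ m) x =
      WittGrp.shift p (Nat.le_succ m)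
        (WittGrp.frob p m hp (TruncatedWittVector.truncate (Nat.le_succ m) y) * x) := by
  rcases subsingleton_or_nontrivial R with hR | hR
  · exact TruncatedWittVector.ext fun i => Subsingleton.elim _ _
  · haveI : CharP R p := (CharP.charP_iff_prime_eq_zero (Fact.out : p.Prime)).mpr hp
    obtain ⟨X, rfl⟩ := WittVector.truncate_surjective p m R x
    obtain ⟨Y, rfl⟩ := WittVector.truncate_surjective p (m + 1) R y
    rw [TruncatedWittVector.truncate_wittVector_truncate, WittGrp.frob_truncate, ← map_mul,
      WittGrp.shift_truncate, WittGrp.shift_truncate, ← map_mul]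
    have e : m + 1 - m = 1 := by omega
    rw [e]
    simp only [Function.iterate_one]
    rw [mul_comm (WittVector.frobenius Y) X, WittVector.verschiebung_mul_frobenius, mul_comm]

theorem main (p : ℕ) [Fact p.Prime] (m : ℕ) (hm : 0 < m) (R : Type u) [CommRing R]
    (hp : (p : R) = 0) (σ : TruncatedWittVector p m R →+ R)
    (hF : ∀ x y : TruncatedWittVector p m R,
      σ (WittGrp.frob p m hp x * y) = x.coeff ⟨0, hm⟩ * σ y)
    (y : TruncatedWittVector p (m + 1) R) (x : TruncatedWittVector p m R) (hx : σ x = 0) :
    ∃ x' : TruncatedWittVector p m R, σ x' = 0 ∧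
      y * WittGrp.shift p (Nat.le_succ m) x = WittGrp.shift p (Nat.le_succ m) x' := by
  refine ⟨WittGrp.frob p m hp (TruncatedWittVector.truncate (Nat.le_succ m) y) * x, ?_, ?_⟩
  · rw [hF, hx, mul_zero]
  · exact mul_shift p m R hp y x

end Groth.Agent.Lib.QFSplitShift
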