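import Mathlib
import Groth.Prelude.Def_WittGrp
import Groth.Agent.Lib.QFSplitShift_lead

/-!
# The quotient `W_{m+1}(R)/V(ker σ)` of a quasi-F-splitting is a flat lift mod `p²` (S16373)
-/

set_option autoImplicit false
universe u

namespace Groth.Agent.Lib.QFSplitLift

open Groth.Agent.Lib.QFSplitShift

section
variable (p : ℕ) [Fact p.Prime] (m : ℕ) (R : Type u) [CommRing R]

theorem coeff_shift_zero (x : TruncatedWittVector p m R) :
    (WittGrp.shift p (Nat.le_succ m) x).coeff 0 = 0 := by
  obtain ⟨X, rfl⟩ := WittVector.truncate_surjective p m R x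
  rw [WittGrp.shift_truncate, WittVector.coeff_truncate]
  have e : m + 1 - m = 1 := by omega
  rw [e, Function.iterate_one]
  exact WittVector.verschiebung_coeff_zero X

theorem coeff_shift_succ (x : TruncatedWittVector p m R) (i : Fin (m + 1)) (j : Fin m)
    (hij : (i : ℕ) = j + 1) :
    (WittGrp.shift p (Nat.le_succ m) x).coeff i = x.coeff j := by
  obtain ⟨X, rfl⟩ := WittVector.truncate_surjective p m R x
  rw [WittGrp.shift_truncate, WittVector.coeff_truncate, WittVector.coeff_truncate]
  have e : m + 1 - m = 1 := by omega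
  rw [e, Function.iterate_one, hij]
  exact WittVector.verschiebung_coeff_succ X j

theorem shift_injective :
    Function.Injective (WittGrp.shift p (Nat.le_succ m) :
      TruncatedWittVector p m R → TruncatedWittVector p (m + 1) R) := by
  intro x x' h
  apply TruncatedWittVector.ext
  intro j
  have h1 := coeff_shift_succ p m R x j.succ j (Fin.val_succ j)
  have h2 := coeff_shift_succ p m R x' j.succ j (Fin.val_succ j)
  rw [← h1, ← h2, h]

theorem exists_shift_of_coeff_zero (w : TruncatedWittVector p (m + 1) R) (hw : w.coeff 0 = 0) :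
    ∃ x : TruncatedWittVector p m R, WittGrp.shift p (Nat.le_succ m) x = w := by
  refine ⟨TruncatedWittVector.mk p (fun j => w.coeff j.succ), ?_⟩
  apply TruncatedWittVector.ext
  intro i
  refine Fin.cases ?_ (fun j => ?_) i
  · rw [coeff_shift_zero, hw]
  · rw [coeff_shift_succ p m R _ j.succ j (Fin.val_succ j), TruncatedWittVector.coeff_mk]

theorem natCast_mul (hp : (p : R) = 0) (w : TruncatedWittVector p (m + 1) R) :
    (p : TruncatedWittVector p (m + 1) R) * w =
      WittGrp.shift p (Nat.le_succ m)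
        (WittGrp.frob p m hp (TruncatedWittVector.truncate (Nat.le_succ m) w)) := by
  rcases subsingleton_or_nontrivial R with hR | hR
  · exact TruncatedWittVector.ext fun i => Subsingleton.elim _ _
  · haveI : CharP R p := (CharP.charP_iff_prime_eq_zero (Fact.out : p.Prime)).mpr hp
    obtain ⟨Y, rfl⟩ := WittVector.truncate_surjective p (m + 1) R w
    rw [TruncatedWittVector.truncate_wittVector_truncate, WittGrp.frob_truncate,
      WittGrp.shift_truncate]
    have e : m + 1 - m = 1 := by omega
    rw [e, Function.iterate_one, WittVector.verschiebung_frobenius, map_mul, map_natCast,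
      mul_comm]

end

theorem main (p : ℕ) [Fact p.Prime] (m : ℕ) (hm : 0 < m) (R : Type u) [CommRing R]
    (hp : (p : R) = 0)
    (σ : TruncatedWittVector p m R →+ R) (h1 : σ 1 = 1)
    (hF : ∀ x y : TruncatedWittVector p m R,
      σ (WittGrp.frob p m hp x * y) = x.coeff ⟨0, hm⟩ * σ y)
    (I : Ideal (TruncatedWittVector p (m + 1) R))
    (hI : I = Ideal.span (WittGrp.shift p (Nat.le_succ m) ''
      {x : TruncatedWittVector p m R | σ x = 0})) :
    (∀ w : TruncatedWittVector p (m + 1) R,
        Ideal.Quotient.mk I w ∈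
          Ideal.span ({(p : TruncatedWittVector p (m + 1) R ⧸ I)} : Set _) ↔
          w.coeff 0 = 0) ∧
    (∀ q : TruncatedWittVector p (m + 1) R ⧸ I,
        (p : TruncatedWittVector p (m + 1) R ⧸ I) * q = 0 ↔
          q ∈ Ideal.span ({(p : TruncatedWittVector p (m + 1) R ⧸ I)} : Set _)) := by
  have σF : ∀ z : TruncatedWittVector p m R,
      σ (WittGrp.frob p m hp z) = z.coeff ⟨0, hm⟩ := by
    intro z
    have := hF z 1
    rwa [mul_one, h1, mul_one] at this
  have hImem : ∀ w, w ∈ I ↔ ∃ x : TruncatedWittVector p m R,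
      σ x = 0 ∧ WittGrp.shift p (Nat.le_succ m) x = w := by
    intro w
    constructor
    · intro hw
      rw [hI] at hw
      refine Submodule.span_induction
        (p := fun w _ => ∃ x : TruncatedWittVector p m R,
          σ x = 0 ∧ WittGrp.shift p (Nat.le_succ m) x = w) ?_ ?_ ?_ ?_ hw
      · rintro _ ⟨x, hx, rfl⟩
        exact ⟨x, hx, rfl⟩
      · exact ⟨0, map_zero σ, map_zero _⟩
      · rintro _ _ _ _ ⟨x, hx, rfl⟩ ⟨x', hx', rfl⟩
        exact ⟨x + x', by rw [map_add, hx, hx', add_zero], map_add _ _ _⟩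
      · rintro a _ _ ⟨x, hx, rfl⟩
        refine ⟨WittGrp.frob p m hp (TruncatedWittVector.truncate (Nat.le_succ m) a) * x,
          ?_, ?_⟩
        · rw [hF, hx, mul_zero]
        · rw [smul_eq_mul, mul_shift p m R hp a x]
    · rintro ⟨x, hx, rfl⟩
      rw [hI]
      exact Ideal.subset_span ⟨x, hx, rfl⟩
  have hρ0 : ∀ w : TruncatedWittVector p (m + 1) R,
      (TruncatedWittVector.truncate (Nat.le_succ m) w).coeff ⟨0, hm⟩ = w.coeff 0 := by
    intro w
    rw [TruncatedWittVector.coeff_truncate]
    rfl
  have hpQ : ((p : ℕ) : TruncatedWittVector p (m + 1) R ⧸ I) =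
      Ideal.Quotient.mk I (p : TruncatedWittVector p (m + 1) R) :=
    (map_natCast (Ideal.Quotient.mk I) p).symm
  have part1 : ∀ w : TruncatedWittVector p (m + 1) R,
      Ideal.Quotient.mk I w ∈
          Ideal.span ({(p : TruncatedWittVector p (m + 1) R ⧸ I)} : Set _) ↔
        w.coeff 0 = 0 := by
    intro w
    rw [Ideal.mem_span_singleton']
    constructor
    · rintro ⟨a, ha⟩
      obtain ⟨w', rfl⟩ := Ideal.Quotient.mk_surjective a
      rw [hpQ, ← map_mul, Ideal.Quotient.eq, hImem] at ha
      obtain ⟨x, hx, hVx⟩ := ha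
      have hw : w = WittGrp.shift p (Nat.le_succ m)
          (WittGrp.frob p m hp (TruncatedWittVector.truncate (Nat.le_succ m) w') - x) := by
        rw [map_sub, ← natCast_mul p m R hp w', hVx]
        ring
      rw [hw]
      exact coeff_shift_zero p m R _
    · intro hw0
      obtain ⟨x, rfl⟩ := exists_shift_of_coeff_zero p m R w hw0
      obtain ⟨w', hw'0⟩ : ∃ w' : TruncatedWittVector p (m + 1) R, w'.coeff 0 = σ x :=
        ⟨TruncatedWittVector.mk p (fun _ => σ x), TruncatedWittVector.coeff_mk _ _⟩
      refine ⟨Ideal.Quotient.mk I w', ?_⟩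
      rw [hpQ, ← map_mul, Ideal.Quotient.eq, hImem]
      refine ⟨WittGrp.frob p m hp (TruncatedWittVector.truncate (Nat.le_succ m) w') - x,
        ?_, ?_⟩
      · rw [map_sub, σF, hρ0, hw'0, sub_self]
      · rw [map_sub, ← natCast_mul p m R hp w', mul_comm]
  refine ⟨part1, ?_⟩
  intro q
  obtain ⟨w, rfl⟩ := Ideal.Quotient.mk_surjective q
  rw [part1, hpQ, ← map_mul, Ideal.Quotient.eq_zero_iff_mem, hImem]
  constructor
  · rintro ⟨x, hx, hVx⟩
    rw [natCast_mul p m R hp w] at hVx
    have hxe := shift_injective p m R hVx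
    rw [hxe, σF, hρ0] at hx
    exact hx
  · intro hw0
    obtain ⟨x, rfl⟩ := exists_shift_of_coeff_zero p m R w hw0
    refine ⟨(p : TruncatedWittVector p m R) * x, ?_, ?_⟩
    · rw [← nsmul_eq_mul, map_nsmul, nsmul_eq_mul, hp, zero_mul]
    · rw [mul_shift p m R hp, map_natCast, map_natCast]

end Groth.Agent.Lib.QFSplitLift
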