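import Mathlib

/-!
# Étale-local splitting of the quasi-finite part of a finite type algebra at a prime (lead)

Stacks 00UL for finite type algebras, by iterating Mathlib's 00UJ
(`Algebra.exists_etale_isIdempotentElem_forall_liesOver_eq`).
-/

set_option autoImplicit false

namespace Groth.Agent.Lib.QFSplit

open TensorProduct

universe u

section Isolating

variable {R S : Type u} [CommRing R] [CommRing S] [Algebra R S] [Algebra.FiniteType R S]

/-- Quasi-finiteness at a prime means that the prime is isolated in its fibre by a basic open. -/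
theorem quasiFiniteAt_iff_exists_isolating (q : Ideal S) [hq : q.IsPrime] :
    Algebra.QuasiFiniteAt R q ↔ ∃ t : S, t ∉ q ∧ ∀ q' : Ideal S, q'.IsPrime →
      q'.comap (algebraMap R S) = q.comap (algebraMap R S) → t ∉ q' → q' = q := by
  constructor
  · intro h
    have h1 := (Algebra.quasiFiniteAt_iff_isOpen_singleton_fiber (R := R) ⟨q, hq⟩).mp h
    rw [isOpen_induced_iff] at h1
    obtain ⟨U, hU, hUeq⟩ := h1
    have hqU : (⟨q, hq⟩ : PrimeSpectrum S) ∈ U := by
      have : (⟨⟨q, hq⟩, rfl⟩ : ↥(PrimeSpectrum.comap (algebraMap R S) ⁻¹'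
          {PrimeSpectrum.comap (algebraMap R S) ⟨q, hq⟩})) ∈ Subtype.val ⁻¹' U := by
        rw [hUeq]; rfl
      exact this
    obtain ⟨V, ⟨t, rfl⟩, hqV, hVU⟩ :=
      PrimeSpectrum.isTopologicalBasis_basic_opens.exists_subset_of_mem_open hqU hU
    refine ⟨t, hqV, fun q' hq' hcomap ht => ?_⟩
    have hmem : (⟨q', hq'⟩ : PrimeSpectrum S) ∈ PrimeSpectrum.comap (algebraMap R S) ⁻¹'
        {PrimeSpectrum.comap (algebraMap R S) ⟨q, hq⟩} := by
      show PrimeSpectrum.comap _ _ = PrimeSpectrum.comap _ _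
      exact PrimeSpectrum.ext hcomap
    have h2 : (⟨⟨q', hq'⟩, hmem⟩ : ↥(PrimeSpectrum.comap (algebraMap R S) ⁻¹'
        {PrimeSpectrum.comap (algebraMap R S) ⟨q, hq⟩})) ∈ Subtype.val ⁻¹' U := hVU ht
    rw [hUeq] at h2
    exact congrArg (fun x => x.1.asIdeal) (Set.mem_singleton_iff.mp h2)
  · rintro ⟨t, htq, hiso⟩
    refine Algebra.QuasiFiniteAt.of_isOpen_singleton_fiber (R := R) ⟨q, hq⟩ ?_
    rw [isOpen_induced_iff]
    refine ⟨PrimeSpectrum.basicOpen t, (PrimeSpectrum.basicOpen t).isOpen, ?_⟩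
    ext ⟨⟨q', hq'⟩, hmem⟩
    simp only [Set.mem_preimage, Set.mem_singleton_iff]
    constructor
    · intro ht
      have hc : q'.comap (algebraMap R S) = q.comap (algebraMap R S) :=
        congrArg PrimeSpectrum.asIdeal hmem
      have h3 := hiso q' hq' hc ht
      subst h3
      rfl
    · intro h
      have h3 : q' = q := congrArg (fun x => x.1.asIdeal) h
      subst h3
      exact htq

/-- the set of primes over `p` at which `S` is quasi-finite -/
def Z (R S : Type u) [CommRing R] [CommRing S] [Algebra R S] (p : Ideal R) : Set (Ideal S) :=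
  {q | ∃ h : q.IsPrime, q.comap (algebraMap R S) = p ∧ @Algebra.QuasiFiniteAt R S _ _ _ q h}

theorem finite_Z (p : Ideal R) [hp : p.IsPrime] : (Z R S p).Finite := by
  classical
  let Pp : PrimeSpectrum R := ⟨p, hp⟩
  haveI : IsNoetherianRing (p.Fiber S) :=
    Algebra.FiniteType.isNoetherianRing p.ResidueField (p.Fiber S)
  let hY := PrimeSpectrum.preimageHomeomorphFiber R S Pp
  haveI : TopologicalSpace.NoetherianSpace
      ↥(PrimeSpectrum.comap (algebraMap R S) ⁻¹' {Pp}) :=
    TopologicalSpace.noetherianSpace_of_surjective hY.symm hY.symm.continuous hY.symm.surjective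
  let W : Set ↥(PrimeSpectrum.comap (algebraMap R S) ⁻¹' {Pp}) := {y | IsOpen ({y} : Set _)}
  have hWfin : W.Finite := by
    have hc : IsCompact W := TopologicalSpace.NoetherianSpace.isCompact W
    obtain ⟨F, hF⟩ := hc.elim_finite_subcover (fun y : W => ({y.1} : Set _)) (fun y => y.2)
      (fun y hy => Set.mem_iUnion.mpr ⟨⟨y, hy⟩, rfl⟩)
    refine ((F.finite_toSet.image Subtype.val)).subset ?_
    intro y hy
    obtain ⟨i, hi⟩ := Set.mem_iUnion.mp (hF hy)
    obtain ⟨hiF, hyi⟩ := Set.mem_iUnion.mp hi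
    exact ⟨i, hiF, (Set.mem_singleton_iff.mp hyi).symm⟩
  refine (hWfin.image (fun y => y.1.asIdeal)).subset ?_
  rintro q ⟨hq, hqp, hqf⟩
  have hmem : (⟨q, hq⟩ : PrimeSpectrum S) ∈ PrimeSpectrum.comap (algebraMap R S) ⁻¹' {Pp} := by
    show PrimeSpectrum.comap _ _ = Pp
    exact PrimeSpectrum.ext hqp
  refine ⟨⟨⟨q, hq⟩, hmem⟩, ?_, rfl⟩
  obtain ⟨t, htq, hiso⟩ := (quasiFiniteAt_iff_exists_isolating (R := R) q).mp hqf
  show IsOpen ({(⟨⟨q, hq⟩, hmem⟩ : ↥(PrimeSpectrum.comap (algebraMap R S) ⁻¹' {Pp}))} : Set _)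
  rw [isOpen_induced_iff]
  refine ⟨PrimeSpectrum.basicOpen t, (PrimeSpectrum.basicOpen t).isOpen, ?_⟩
  ext ⟨⟨q', hq'⟩, hmem'⟩
  simp only [Set.mem_preimage, Set.mem_singleton_iff]
  constructor
  · intro ht
    have hc : q'.comap (algebraMap R S) = q.comap (algebraMap R S) := by
      rw [hqp]; exact congrArg PrimeSpectrum.asIdeal hmem'
    have h3 := hiso q' hq' hc ht
    subst h3
    rfl
  · intro h
    have h3 : q' = q := congrArg (fun x => x.1.asIdeal) h
    subst h3
    exact htq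

end Isolating

section Transfer

/-- Quasi-finiteness at a prime of `T/(e)`, `e` idempotent, gives quasi-finiteness at its preimage
in `T`. -/
theorem quasiFiniteAt_comap_mk_of_idem {R' T : Type u} [CommRing R'] [CommRing T] [Algebra R' T]
    [Algebra.FiniteType R' T] (e : T) (he : IsIdempotentElem e)
    (Q₁ : Ideal (T ⧸ Ideal.span {e})) [hQ₁ : Q₁.IsPrime] (h : Algebra.QuasiFiniteAt R' Q₁) :
    Algebra.QuasiFiniteAt R' (Q₁.comap (Ideal.Quotient.mk (Ideal.span {e}))) := by
  obtain ⟨t₁, ht₁, hiso⟩ := (quasiFiniteAt_iff_exists_isolating (R := R') Q₁).mp h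
  obtain ⟨t, rfl⟩ := Ideal.Quotient.mk_surjective t₁
  have hprime : (Q₁.comap (Ideal.Quotient.mk (Ideal.span {e}))).IsPrime := inferInstance
  have heQ : e ∈ Q₁.comap (Ideal.Quotient.mk (Ideal.span {e})) := by
    rw [Ideal.mem_comap]
    have : Ideal.Quotient.mk (Ideal.span {e}) e = 0 :=
      Ideal.Quotient.eq_zero_iff_mem.mpr (Ideal.subset_span rfl)
    rw [this]; exact zero_mem _
  have h1e : (1 - e) ∉ Q₁.comap (Ideal.Quotient.mk (Ideal.span {e})) := fun h1 =>
    hprime.ne_top ((Ideal.eq_top_iff_one _).mpr (by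
      have := add_mem heQ h1
      rwa [add_sub_cancel] at this))
  rw [quasiFiniteAt_iff_exists_isolating (R := R')]
  refine ⟨t * (1 - e), ?_, ?_⟩
  · intro hmem
    rcases hprime.mem_or_mem hmem with h2 | h2
    · exact ht₁ h2
    · exact h1e h2
  · intro Q' hQ' hcomap hnot
    have ht' : t ∉ Q' := fun h2 => hnot (Q'.mul_mem_right _ h2)
    have h1e' : (1 - e) ∉ Q' := fun h2 => hnot (Q'.mul_mem_left _ h2)
    have heQ' : e ∈ Q' := by
      have : e * (1 - e) ∈ Q' := by rw [mul_sub, mul_one, he.eq, sub_self]; exact zero_mem _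
      exact (hQ'.mem_or_mem this).resolve_right h1e'
    have hle : RingHom.ker (Ideal.Quotient.mk (Ideal.span {e})) ≤ Q' := by
      rw [Ideal.mk_ker]; exact (Ideal.span_singleton_le_iff_mem _).mpr heQ'
    have hQ'₁ : (Q'.map (Ideal.Quotient.mk (Ideal.span {e}))).IsPrime :=
      Ideal.map_isPrime_of_surjective Ideal.Quotient.mk_surjective hle
    have hcm : (Q'.map (Ideal.Quotient.mk (Ideal.span {e}))).comap
        (Ideal.Quotient.mk (Ideal.span {e})) = Q' := by
      rw [Ideal.comap_map_of_surjective _ Ideal.Quotient.mk_surjective, ← RingHom.ker_eq_comap_bot]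
      exact sup_eq_left.mpr hle
    have hfac : algebraMap R' (T ⧸ Ideal.span {e}) =
        (Ideal.Quotient.mk (Ideal.span {e})).comp (algebraMap R' T) := rfl
    have h3 := hiso (Q'.map (Ideal.Quotient.mk (Ideal.span {e}))) hQ'₁
      (by rw [hfac, ← Ideal.comap_comap, ← Ideal.comap_comap, hcm, hcomap])
      (by
        intro h4
        have : t ∈ (Q'.map (Ideal.Quotient.mk (Ideal.span {e}))).comap
            (Ideal.Quotient.mk (Ideal.span {e})) := h4
        rw [hcm] at this
        exact ht' this)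
    rw [← h3, hcm]

variable {R R' S : Type u} [CommRing R] [CommRing R'] [CommRing S] [Algebra R R'] [Algebra R S]
  {p : Ideal R} {P : Ideal R'} [p.IsPrime] [P.IsPrime] [P.LiesOver p]

theorem exists_residue_approx
    (hpP : Function.Bijective (Ideal.ResidueField.mapₐ p P (Algebra.ofId _ _) (P.over_def p)))
    (r' : R') : ∃ b : R, b ∉ p ∧ ∃ a : R, algebraMap R R' b * r' - algebraMap R R' a ∈ P := by
  obtain ⟨x, hx⟩ := hpP.2 (algebraMap R' P.ResidueField r')
  obtain ⟨⟨a', b'⟩, hab⟩ := IsLocalization.surj (nonZeroDivisors (R ⧸ p)) x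
  obtain ⟨a, rfl⟩ := Ideal.Quotient.mk_surjective a'
  obtain ⟨b, hb⟩ := Ideal.Quotient.mk_surjective b'.1
  have hbp : b ∉ p := by
    intro hbp
    have h0 : (b'.1 : R ⧸ p) = 0 := by rw [← hb]; exact Ideal.Quotient.eq_zero_iff_mem.mpr hbp
    exact (nonZeroDivisors.ne_zero b'.2) h0
  refine ⟨b, hbp, a, ?_⟩
  have h1 := congrArg (Ideal.ResidueField.mapₐ p P (Algebra.ofId R R') (P.over_def p)) hab
  simp only [← hb, Ideal.algebraMap_quotient_residueField_mk, map_mul, AlgHom.commutes, hx] at h1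
  rw [← Ideal.algebraMap_residueField_eq_zero (I := P), map_sub, map_mul, sub_eq_zero, mul_comm,
    ← IsScalarTower.algebraMap_apply R R' P.ResidueField,
    ← IsScalarTower.algebraMap_apply R R' P.ResidueField]
  exact h1

theorem exists_tensor_approx
    (hpP : Function.Bijective (Ideal.ResidueField.mapₐ p P (Algebra.ofId _ _) (P.over_def p)))
    (t : R' ⊗[R] S) : ∃ b : R, b ∉ p ∧ ∃ s₀ : S,
      algebraMap R (R' ⊗[R] S) b * t - (1 : R') ⊗ₜ[R] s₀ ∈ P.map (algebraMap R' (R' ⊗[R] S)) := by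
  induction t using TensorProduct.induction_on with
  | zero =>
    refine ⟨1, fun h => (Ideal.IsPrime.ne_top ‹p.IsPrime›) ((Ideal.eq_top_iff_one _).mpr h), 0, ?_⟩
    rw [mul_zero, TensorProduct.tmul_zero, sub_zero]; exact zero_mem _
  | tmul r' s =>
    obtain ⟨b, hb, a, hab⟩ := exists_residue_approx hpP r'
    refine ⟨b, hb, a • s, ?_⟩
    have : algebraMap R (R' ⊗[R] S) b * r' ⊗ₜ[R] s - (1 : R') ⊗ₜ[R] (a • s) =
        algebraMap R' (R' ⊗[R] S) (algebraMap R R' b * r' - algebraMap R R' a) * ((1 : R') ⊗ₜ[R] s) := by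
      rw [Algebra.TensorProduct.algebraMap_apply, Algebra.TensorProduct.algebraMap_apply,
        Algebra.algebraMap_self, RingHom.id_apply, Algebra.TensorProduct.tmul_mul_tmul,
        Algebra.TensorProduct.tmul_mul_tmul, one_mul, mul_one, TensorProduct.sub_tmul,
        TensorProduct.tmul_smul, TensorProduct.smul_tmul', Algebra.smul_def, mul_one]
    rw [this]
    exact Ideal.mul_mem_right _ _ (Ideal.mem_map_of_mem _ hab)
  | add t₁ t₂ h₁ h₂ =>
    obtain ⟨b₁, hb₁, s₁, h₁⟩ := h₁
    obtain ⟨b₂, hb₂, s₂, h₂⟩ := h₂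
    refine ⟨b₁ * b₂, fun h => (Ideal.IsPrime.mem_or_mem ‹p.IsPrime› h).elim hb₁ hb₂,
      b₂ • s₁ + b₁ • s₂, ?_⟩
    have : algebraMap R (R' ⊗[R] S) (b₁ * b₂) * (t₁ + t₂) - (1 : R') ⊗ₜ[R] (b₂ • s₁ + b₁ • s₂) =
        algebraMap R (R' ⊗[R] S) b₂ * (algebraMap R (R' ⊗[R] S) b₁ * t₁ - (1 : R') ⊗ₜ[R] s₁) +
        algebraMap R (R' ⊗[R] S) b₁ * (algebraMap R (R' ⊗[R] S) b₂ * t₂ - (1 : R') ⊗ₜ[R] s₂) := by
      rw [TensorProduct.tmul_add, TensorProduct.tmul_smul, TensorProduct.tmul_smul, map_mul,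
        Algebra.smul_def, Algebra.smul_def]
      ring
    rw [this]
    exact add_mem (Ideal.mul_mem_left _ _ h₁) (Ideal.mul_mem_left _ _ h₂)

/-- Descent of quasi-finiteness at a prime along a base change with trivial residue field extension. -/
theorem quasiFiniteAt_descend [Algebra.FiniteType R S]
    (hpP : Function.Bijective (Ideal.ResidueField.mapₐ p P (Algebra.ofId _ _) (P.over_def p)))
    (Q : Ideal (R' ⊗[R] S)) [hQ : Q.IsPrime] [hQP : Q.LiesOver P] (h : Algebra.QuasiFiniteAt R' Q) :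
    Algebra.QuasiFiniteAt R
      (Q.comap (Algebra.TensorProduct.includeRight : S →ₐ[R] R' ⊗[R] S).toRingHom) := by
  have hprime : (Q.comap (Algebra.TensorProduct.includeRight : S →ₐ[R] R' ⊗[R] S).toRingHom).IsPrime :=
    inferInstance
  haveI : Q.LiesOver p := Ideal.LiesOver.trans Q P p
  have hQR : Q.comap (algebraMap R (R' ⊗[R] S)) = p := (Q.over_def p).symm
  have hPQ : P.map (algebraMap R' (R' ⊗[R] S)) ≤ Q := by
    rw [Ideal.map_le_iff_le_comap]
    exact (Q.over_def P).le
  have hqR : (Q.comap (Algebra.TensorProduct.includeRight : S →ₐ[R] R' ⊗[R] S).toRingHom).comap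
      (algebraMap R S) = p := by
    rw [Ideal.comap_comap, ← hQR]
    congr 1
    exact (Algebra.TensorProduct.includeRight : S →ₐ[R] R' ⊗[R] S).comp_algebraMap
  obtain ⟨t, htQ, hiso⟩ := (quasiFiniteAt_iff_exists_isolating (R := R') Q).mp h
  obtain ⟨b, hb, s₀, hbs⟩ := exists_tensor_approx (S := S) hpP t
  rw [quasiFiniteAt_iff_exists_isolating (R := R)]
  have hbQ : ∀ Q' : Ideal (R' ⊗[R] S), Q'.IsPrime → Q'.comap (algebraMap R (R' ⊗[R] S)) = p →
      P.map (algebraMap R' (R' ⊗[R] S)) ≤ Q' → (t ∈ Q' ↔ (1 : R') ⊗ₜ[R] s₀ ∈ Q') := by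
    intro Q' hQ' hQ'R hPQ'
    have hb' : algebraMap R (R' ⊗[R] S) b ∉ Q' := by
      intro hmem
      apply hb
      rw [← hQ'R]; exact hmem
    constructor
    · intro ht
      have h1 : algebraMap R (R' ⊗[R] S) b * t ∈ Q' := Q'.mul_mem_left _ ht
      have h2 := sub_mem h1 (hPQ' hbs)
      rwa [sub_sub_cancel] at h2
    · intro hs
      have h1 := add_mem (hPQ' hbs) hs
      rw [sub_add_cancel] at h1
      exact (hQ'.mem_or_mem h1).resolve_left hb'
  refine ⟨s₀, ?_, ?_⟩
  · intro hs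
    exact htQ ((hbQ Q hQ hQR hPQ).mpr hs)
  · intro q' hq' hcomap hs
    rw [hqR] at hcomap
    let F := Ideal.fiberIsoOfBijectiveResidueField (S := S) hpP
    let x' : p.primesOver S := ⟨q', hq', ⟨hcomap.symm⟩⟩
    have hx' : (F.symm x').1.comap
        (RingHomClass.toRingHom (Algebra.TensorProduct.includeRight : S →ₐ[R] R' ⊗[R] S)) = q' :=
      Ideal.comap_fiberIsoOfBijectiveResidueField_symm hpP x'
    have hQ'prime : (F.symm x').1.IsPrime := (F.symm x').2.1
    have hQ'over : (F.symm x').1.LiesOver P := (F.symm x').2.2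
    haveI := hQ'prime
    haveI := hQ'over
    haveI : (F.symm x').1.LiesOver p := Ideal.LiesOver.trans (F.symm x').1 P p
    have hQ'R : (F.symm x').1.comap (algebraMap R (R' ⊗[R] S)) = p :=
      ((F.symm x').1.over_def p).symm
    have hPQ' : P.map (algebraMap R' (R' ⊗[R] S)) ≤ (F.symm x').1 := by
      rw [Ideal.map_le_iff_le_comap]
      exact ((F.symm x').1.over_def P).le
    have ht' : t ∉ (F.symm x').1 := by
      intro ht
      have h1 := (hbQ _ hQ'prime hQ'R hPQ').mp ht
      apply hs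
      rw [← hx']
      exact h1
    have h3 := hiso (F.symm x').1 hQ'prime
      (by
        have e1 : (F.symm x').1.comap (algebraMap R' (R' ⊗[R] S)) = P :=
          ((F.symm x').1.over_def P).symm
        have e2 : Q.comap (algebraMap R' (R' ⊗[R] S)) = P := (Q.over_def P).symm
        rw [e1, e2]) ht'
    rw [← h3]
    exact hx'.symm

end Transfer

section Induction

/-- transfer of "exactly one prime over `P`" along a base change with trivial residue extension -/
theorem existsUnique_prime_baseChange {R' R₂ A₀ : Type u} [CommRing R'] [CommRing R₂] [CommRing A₀]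
    [Algebra R' R₂] [Algebra R' A₀] {P : Ideal R'} {p₂ : Ideal R₂} [P.IsPrime] [p₂.IsPrime]
    [p₂.LiesOver P]
    (hb : Function.Bijective (Ideal.ResidueField.mapₐ P p₂ (Algebra.ofId _ _) (p₂.over_def P)))
    (hu : ∃! r : Ideal A₀, r.IsPrime ∧ r.comap (algebraMap R' A₀) = P) :
    ∃! r : Ideal (R₂ ⊗[R'] A₀), r.IsPrime ∧ r.comap (algebraMap R₂ (R₂ ⊗[R'] A₀)) = p₂ := by
  obtain ⟨r₀, ⟨hr₀, hr₀P⟩, huniq⟩ := hu
  let F := Ideal.fiberIsoOfBijectiveResidueField (S := A₀) hb
  let x₀ : P.primesOver A₀ := ⟨r₀, hr₀, ⟨hr₀P.symm⟩⟩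
  refine ⟨(F.symm x₀).1, ⟨(F.symm x₀).2.1, ((F.symm x₀).2.2.over).symm⟩, ?_⟩
  rintro r ⟨hr, hrp⟩
  let y : p₂.primesOver (R₂ ⊗[R'] A₀) := ⟨r, hr, ⟨hrp.symm⟩⟩
  have h1 : (F y).1 = r₀ := huniq _ ⟨(F y).2.1, ((F y).2.2.over).symm⟩
  have h2 : F y = x₀ := Subtype.ext h1
  have h3 : y = F.symm x₀ := by rw [← h2, OrderIso.symm_apply_apply]
  exact congrArg Subtype.val h3

/-- the `Option`-indexed family extending `A` by `X` -/
def OptFam {ι : Type} (X : Type u) (A : ι → Type u) : Option ι → Type u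
  | none => X
  | some i => A i

instance instCommRingOptFam {ι : Type} (X : Type u) (A : ι → Type u) [CommRing X]
    [∀ i, CommRing (A i)] : ∀ o, CommRing (OptFam X A o)
  | none => inferInstanceAs (CommRing X)
  | some i => inferInstanceAs (CommRing (A i))

instance instAlgebraOptFam {ι : Type} (R₂ : Type u) [CommRing R₂] (X : Type u) (A : ι → Type u)
    [CommRing X] [∀ i, CommRing (A i)] [Algebra R₂ X] [∀ i, Algebra R₂ (A i)] :
    ∀ o, Algebra R₂ (OptFam X A o)
  | none => inferInstanceAs (Algebra R₂ X)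
  | some i => inferInstanceAs (Algebra R₂ (A i))

/-- reindexing `X × ((∏ᵢ Aᵢ) × B) ≅ (∏_{o : Option ι} A'ₒ) × B`. -/
noncomputable def optEquiv' (R₂ : Type u) [CommRing R₂] {ι : Type} (X : Type u) (A : ι → Type u)
    [CommRing X] [∀ i, CommRing (A i)] [Algebra R₂ X] [∀ i, Algebra R₂ (A i)]
    (B : Type u) [CommRing B] [Algebra R₂ B] :
    (X × ((∀ i, A i) × B)) ≃ₐ[R₂] ((∀ o : Option ι, OptFam X A o) × B) where
  toFun x := (fun o => Option.rec (motive := fun o => OptFam X A o) x.1 (fun i => x.2.1 i) o, x.2.2)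
  invFun y := (y.1 none, (fun i => y.1 (some i), y.2))
  left_inv x := rfl
  right_inv y := by
    refine Prod.ext ?_ rfl
    funext o
    cases o <;> rfl
  map_mul' x y := by
    refine Prod.ext ?_ rfl
    funext o
    cases o <;> rfl
  map_add' x y := by
    refine Prod.ext ?_ rfl
    funext o
    cases o <;> rfl
  commutes' r := by
    refine Prod.ext ?_ rfl
    funext o
    cases o <;> rfl

/-- The splitting statement (with an arbitrary finite index type). -/
def Split' (R S : Type u) [CommRing R] [CommRing S] [Algebra R S] (p : Ideal R) [p.IsPrime] : Prop :=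
  ∃ (R' : Type u) (_ : CommRing R') (_ : Algebra R R') (_ : Algebra.Etale R R') (p' : Ideal R')
    (_ : p'.IsPrime) (_ : p'.LiesOver p) (ι : Type) (_ : Fintype ι) (A : ι → Type u)
    (_ : ∀ i, CommRing (A i)) (_ : ∀ i, Algebra R' (A i)) (B : Type u) (_ : CommRing B)
    (_ : Algebra R' B),
    Function.Bijective (Ideal.ResidueField.mapₐ p p' (Algebra.ofId _ _) (p'.over_def p)) ∧
    Nonempty ((R' ⊗[R] S) ≃ₐ[R'] ((∀ i, A i) × B)) ∧
      (∀ i, Module.Finite R' (A i) ∧
        ∃! r : Ideal (A i), r.IsPrime ∧ r.comap (algebraMap R' (A i)) = p') ∧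
      ∀ (q : Ideal B) [q.IsPrime], q.comap (algebraMap R' B) = p' → ¬ Algebra.QuasiFiniteAt R' q

theorem split'_base (R : Type u) [CommRing R] (S : Type u) [CommRing S] [Algebra R S]
    (p : Ideal R) [p.IsPrime] (hex : Z R S p = ∅) : Split' R S p := by
  let F : S →ₐ[R] ((∀ _ : Empty, S) × S) :=
    AlgHom.prod (Pi.algHom R (fun _ : Empty => S) (fun _ => AlgHom.id R S)) (AlgHom.id R S)
  have hF : Function.Bijective F := by
    constructor
    · intro a b hab
      exact congrArg Prod.snd hab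
    · rintro ⟨f, s⟩
      exact ⟨s, Prod.ext (funext fun i => i.elim) rfl⟩
  refine ⟨R, inferInstance, inferInstance, inferInstance, p, inferInstance, ⟨rfl⟩, Empty,
    inferInstance, fun _ => S, inferInstance, inferInstance, S, inferInstance,
    inferInstance, ?_,
    ⟨(Algebra.TensorProduct.lid R S).trans (AlgEquiv.ofBijective F hF)⟩, fun i => i.elim, ?_⟩
  · rw! [Algebra.ofId_self, Ideal.ResidueField.mapₐ_id]; exact Function.bijective_id
  · intro q hq hqp hqf
    have : q ∈ Z R S p := ⟨hq, hqp, hqf⟩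
    rw [hex] at this
    exact this

/-- the assembling step -/
theorem split'_step {R R' S : Type u} [CommRing R] [CommRing R'] [CommRing S] [Algebra R R']
    [Algebra R S] [Algebra.Etale R R'] (p : Ideal R) [p.IsPrime] (P : Ideal R') [P.IsPrime]
    [P.LiesOver p]
    (hpP : Function.Bijective (Ideal.ResidueField.mapₐ p P (Algebra.ofId _ _) (P.over_def p)))
    (A₀ B₀ : Type u) [CommRing A₀] [CommRing B₀] [Algebra R' A₀] [Algebra R' B₀]
    (e₁ : (R' ⊗[R] S) ≃ₐ[R'] A₀ × B₀) (hfinA₀ : Module.Finite R' A₀)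
    (huniq₀ : ∃! r : Ideal A₀, r.IsPrime ∧ r.comap (algebraMap R' A₀) = P)
    (hS : Split' R' B₀ P) : Split' R S p := by
  obtain ⟨R₂, _, _, _, p₂, _, _, ι, _, A, _, _, B, _, _, hPQ, ⟨Ψ⟩, hA, hB⟩ := hS
  letI : Algebra R R₂ := Algebra.compHom R₂ (algebraMap R R')
  haveI : IsScalarTower R R' R₂ := IsScalarTower.of_algebraMap_eq' rfl
  haveI : Algebra.Etale R R₂ := Algebra.Etale.comp R R' R₂
  haveI : p₂.LiesOver p := Ideal.LiesOver.trans p₂ P p
  have hpQ : Function.Bijective
      (Ideal.ResidueField.mapₐ p p₂ (Algebra.ofId _ _) (p₂.over_def p)) := by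
    convert hPQ.comp hpP
    rw [← @AlgHom.coe_restrictScalars' R R', ← AlgHom.coe_comp]; congr 1; ext
  let c₁ := (Algebra.TensorProduct.cancelBaseChange R R' R₂ R₂ S).symm
  let c₂ : R₂ ⊗[R'] (R' ⊗[R] S) ≃ₐ[R₂] R₂ ⊗[R'] (A₀ × B₀) :=
    Algebra.TensorProduct.congr AlgEquiv.refl e₁
  let c₃ := Algebra.TensorProduct.prodRight R' R₂ R₂ A₀ B₀
  let c₄ : ((R₂ ⊗[R'] A₀) × (R₂ ⊗[R'] B₀)) ≃ₐ[R₂] ((R₂ ⊗[R'] A₀) × ((∀ i, A i) × B)) :=
    AlgEquiv.prodCongr AlgEquiv.refl Ψ
  let c₅ := optEquiv' R₂ (R₂ ⊗[R'] A₀) A B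
  refine ⟨R₂, inferInstance, inferInstance, inferInstance, p₂, inferInstance, inferInstance,
    Option ι, inferInstance, OptFam (R₂ ⊗[R'] A₀) A, inferInstance, inferInstance, B,
    inferInstance, inferInstance, hpQ,
    ⟨c₁.trans (c₂.trans (c₃.trans (c₄.trans c₅)))⟩, ?_, hB⟩
  intro o
  cases o with
  | none =>
    refine ⟨?_, ?_⟩
    · haveI := hfinA₀
      exact inferInstanceAs (Module.Finite R₂ (R₂ ⊗[R'] A₀))
    · exact existsUnique_prime_baseChange hPQ huniq₀
  | some i => exact hA i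

theorem split'_aux (N : ℕ) : ∀ (R : Type u) [CommRing R] (S : Type u) [CommRing S] [Algebra R S]
    [Algebra.FiniteType R S] (p : Ideal R) [p.IsPrime], (Z R S p).ncard = N → Split' R S p := by
  induction N using Nat.strong_induction_on with
  | _ N IH =>
  intro R _ S _ _ _ p _ hN
  classical
  by_cases hex : (Z R S p).Nonempty
  swap
  · -- no quasi-finite prime over `p`
    rw [Set.not_nonempty_iff_eq_empty] at hex
    exact split'_base R S p hex
  · obtain ⟨q, hq, hqp, hqf⟩ := hex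
    haveI := hq
    haveI : q.LiesOver p := ⟨hqp.symm⟩
    haveI := hqf
    obtain ⟨R', _, _, _, P, _, _, e, he, P', _, _, hP'q, heP', hpP, hfin, H⟩ :=
      Algebra.exists_etale_isIdempotentElem_forall_liesOver_eq p q
    -- the two factors
    have he1 : IsIdempotentElem (1 - e) := he.one_sub
    let e₁ : (R' ⊗[R] S) ≃ₐ[R'] ((R' ⊗[R] S) ⧸ Ideal.span {1 - e}) × ((R' ⊗[R] S) ⧸ Ideal.span {e}) :=
      AlgEquiv.prodQuotientOfIsIdempotentElem (R := R') he1 he (by ring)
        (by rw [sub_mul, one_mul, he.eq, sub_self])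
    haveI : IsLocalization.Away e ((R' ⊗[R] S) ⧸ Ideal.span {1 - e}) :=
      IsLocalization.Away.quotient_of_isIdempotentElem he
    have hfinA₀ : Module.Finite R' ((R' ⊗[R] S) ⧸ Ideal.span {1 - e}) :=
      Module.Finite.equiv (((IsLocalization.algEquiv (Submonoid.powers e) (Localization.Away e)
        ((R' ⊗[R] S) ⧸ Ideal.span {1 - e})).restrictScalars R').toLinearEquiv)
    -- unique prime of `A₀` over `P`
    have h1eP' : (1 - e) ∈ P' := by
      have : e * (1 - e) ∈ P' := by rw [mul_sub, mul_one, he.eq, sub_self]; exact zero_mem _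
      exact (Ideal.IsPrime.mem_or_mem ‹P'.IsPrime› this).resolve_left heP'
    have hP'P : P'.comap (algebraMap R' (R' ⊗[R] S)) = P := (P'.over_def P).symm
    have hfac : algebraMap R' ((R' ⊗[R] S) ⧸ Ideal.span {1 - e}) =
        (Ideal.Quotient.mk (Ideal.span {1 - e})).comp (algebraMap R' (R' ⊗[R] S)) := rfl
    have huniq₀ : ∃! r : Ideal ((R' ⊗[R] S) ⧸ Ideal.span {1 - e}),
        r.IsPrime ∧ r.comap (algebraMap R' ((R' ⊗[R] S) ⧸ Ideal.span {1 - e})) = P := by
      have hle : RingHom.ker (Ideal.Quotient.mk (Ideal.span {1 - e})) ≤ P' := by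
        rw [Ideal.mk_ker]; exact (Ideal.span_singleton_le_iff_mem _).mpr h1eP'
      have hcm : (P'.map (Ideal.Quotient.mk (Ideal.span {1 - e}))).comap
          (Ideal.Quotient.mk (Ideal.span {1 - e})) = P' := by
        rw [Ideal.comap_map_of_surjective _ Ideal.Quotient.mk_surjective,
          ← RingHom.ker_eq_comap_bot]
        exact sup_eq_left.mpr hle
      refine ⟨P'.map (Ideal.Quotient.mk (Ideal.span {1 - e})),
        ⟨Ideal.map_isPrime_of_surjective Ideal.Quotient.mk_surjective hle, ?_⟩, ?_⟩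
      · rw [hfac, ← Ideal.comap_comap, hcm, hP'P]
      · rintro r ⟨hr, hrP⟩
        have hQprime : (r.comap (Ideal.Quotient.mk (Ideal.span {1 - e}))).IsPrime :=
          Ideal.comap_isPrime _ _
        have hQover : (r.comap (Ideal.Quotient.mk (Ideal.span {1 - e}))).LiesOver P := ⟨by
          rw [Ideal.under_def, Ideal.comap_comap, ← hfac, hrP]⟩
        have h1eQ : (1 - e) ∈ r.comap (Ideal.Quotient.mk (Ideal.span {1 - e})) := by
          rw [Ideal.mem_comap]
          have : Ideal.Quotient.mk (Ideal.span {1 - e}) (1 - e) = 0 :=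
            Ideal.Quotient.eq_zero_iff_mem.mpr (Ideal.subset_span rfl)
          rw [this]; exact zero_mem _
        have heQ : e ∉ r.comap (Ideal.Quotient.mk (Ideal.span {1 - e})) := fun h2 =>
          hQprime.ne_top ((Ideal.eq_top_iff_one _).mpr (by
            have := add_mem h2 h1eQ
            rwa [add_sub_cancel] at this))
        have h3 := H _ hQprime hQover heQ
        rw [← Ideal.map_comap_of_surjective _ Ideal.Quotient.mk_surjective r, h3]
    -- the measure drops
    have hlt : (Z R' ((R' ⊗[R] S) ⧸ Ideal.span {e}) P).ncard < N := by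
      rw [← hN]
      let f : Ideal ((R' ⊗[R] S) ⧸ Ideal.span {e}) → Ideal S := fun Q₁ =>
        (Q₁.comap (Ideal.Quotient.mk (Ideal.span {e}))).comap
          (Algebra.TensorProduct.includeRight : S →ₐ[R] R' ⊗[R] S).toRingHom
      have hfac' : algebraMap R' ((R' ⊗[R] S) ⧸ Ideal.span {e}) =
          (Ideal.Quotient.mk (Ideal.span {e})).comp (algebraMap R' (R' ⊗[R] S)) := rfl
      have hover : ∀ Q₁ ∈ Z R' ((R' ⊗[R] S) ⧸ Ideal.span {e}) P,
          (Q₁.comap (Ideal.Quotient.mk (Ideal.span {e}))).LiesOver P := by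
        rintro Q₁ ⟨hQ₁, hQ₁P, -⟩
        exact ⟨by rw [Ideal.under_def, Ideal.comap_comap, ← hfac', hQ₁P]⟩
      have hsub : f '' (Z R' ((R' ⊗[R] S) ⧸ Ideal.span {e}) P) ⊆ (Z R S p) \ {q} := by
        rintro _ ⟨Q₁, hQ₁Z, rfl⟩
        have hov := hover Q₁ hQ₁Z
        obtain ⟨hQ₁, hQ₁P, hQ₁f⟩ := hQ₁Z
        haveI := hQ₁
        haveI := hov
        have hqfT := quasiFiniteAt_comap_mk_of_idem (R' := R') e he Q₁ hQ₁f
        have hqfS := quasiFiniteAt_descend (S := S) hpP _ hqfT
        haveI : (Q₁.comap (Ideal.Quotient.mk (Ideal.span {e}))).LiesOver p :=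
          Ideal.LiesOver.trans _ P p
        refine ⟨⟨inferInstance, ?_, hqfS⟩, ?_⟩
        · show ((Q₁.comap (Ideal.Quotient.mk (Ideal.span {e}))).comap
            (Algebra.TensorProduct.includeRight : S →ₐ[R] R' ⊗[R] S).toRingHom).comap
              (algebraMap R S) = p
          rw [Ideal.comap_comap]
          have : (Algebra.TensorProduct.includeRight : S →ₐ[R] R' ⊗[R] S).toRingHom.comp
              (algebraMap R S) = algebraMap R (R' ⊗[R] S) :=
            (Algebra.TensorProduct.includeRight : S →ₐ[R] R' ⊗[R] S).comp_algebraMap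
          rw [this]
          exact ((Q₁.comap (Ideal.Quotient.mk (Ideal.span {e}))).over_def p).symm
        · intro hmem
          have hEq : (Q₁.comap (Ideal.Quotient.mk (Ideal.span {e}))).comap
              (Algebra.TensorProduct.includeRight : S →ₐ[R] R' ⊗[R] S).toRingHom =
              P'.comap (Algebra.TensorProduct.includeRight : S →ₐ[R] R' ⊗[R] S).toRingHom := by
            rw [hP'q]; exact hmem
          have h4 := Ideal.eq_of_comap_eq_comap_of_bijective_residueFieldMap hpP _ _ hEq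
          apply heP'
          rw [← h4, Ideal.mem_comap]
          have : Ideal.Quotient.mk (Ideal.span {e}) e = 0 :=
            Ideal.Quotient.eq_zero_iff_mem.mpr (Ideal.subset_span rfl)
          rw [this]; exact zero_mem _
      have hinj : Set.InjOn f (Z R' ((R' ⊗[R] S) ⧸ Ideal.span {e}) P) := by
        intro Q₁ hQ₁Z Q₂ hQ₂Z hEq
        have hov₁ := hover Q₁ hQ₁Z
        have hov₂ := hover Q₂ hQ₂Z
        obtain ⟨hQ₁, -, -⟩ := hQ₁Z
        obtain ⟨hQ₂, -, -⟩ := hQ₂Z
        haveI := hQ₁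
        haveI := hQ₂
        haveI := hov₁
        haveI := hov₂
        have h4 := Ideal.eq_of_comap_eq_comap_of_bijective_residueFieldMap hpP _ _ hEq
        exact Ideal.comap_injective_of_surjective _ Ideal.Quotient.mk_surjective h4
      have hZfin : (Z R S p).Finite := finite_Z p
      calc (Z R' ((R' ⊗[R] S) ⧸ Ideal.span {e}) P).ncard
          = (f '' (Z R' ((R' ⊗[R] S) ⧸ Ideal.span {e}) P)).ncard :=
            (Set.ncard_image_of_injOn hinj).symm
        _ ≤ ((Z R S p) \ {q}).ncard := Set.ncard_le_ncard hsub (hZfin.diff)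
        _ < (Z R S p).ncard := Set.ncard_diff_singleton_lt_of_mem ⟨hq, hqp, hqf⟩ hZfin
    have hS := IH _ hlt R' ((R' ⊗[R] S) ⧸ Ideal.span {e}) P rfl
    exact split'_step p P hpP _ _ e₁ hfinA₀ huniq₀ hS

theorem split' (R : Type u) [CommRing R] (S : Type u) [CommRing S] [Algebra R S]
    [Algebra.FiniteType R S] (p : Ideal R) [p.IsPrime] : Split' R S p :=
  split'_aux _ R S p rfl

/-- the residue field of a prime is generated, as a field, by the image of the ring, also after a
trivial residue field extension -/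
theorem closure_range_eq_top {R R' : Type u} [CommRing R] [CommRing R'] [Algebra R R']
    (p : Ideal R) [p.IsPrime] (P : Ideal R') [P.IsPrime] [P.LiesOver p]
    (hpP : Function.Bijective (Ideal.ResidueField.mapₐ p P (Algebra.ofId _ _) (P.over_def p))) :
    Subfield.closure (Set.range (algebraMap R P.ResidueField)) = ⊤ := by
  rw [eq_top_iff]
  rintro y -
  obtain ⟨x, rfl⟩ := hpP.2 y
  obtain ⟨a', b', -, rfl⟩ := IsFractionRing.div_surjective (R ⧸ p) x
  obtain ⟨a, rfl⟩ := Ideal.Quotient.mk_surjective a'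
  obtain ⟨b, rfl⟩ := Ideal.Quotient.mk_surjective b'
  rw [map_div₀, Ideal.algebraMap_quotient_residueField_mk,
    Ideal.algebraMap_quotient_residueField_mk, AlgHom.commutes, AlgHom.commutes]
  exact Subfield.div_mem _ (Subfield.subset_closure ⟨a, rfl⟩) (Subfield.subset_closure ⟨b, rfl⟩)

end Induction

end Groth.Agent.Lib.QFSplit
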