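import Mathlib
import Groth.Prelude.Def_EtBase

/-!
# Strictly henselian local rings are invariant under ring isomorphisms (helper8)
APPEND-ONLY once landed.
-/

set_option autoImplicit false
set_option linter.style.haveILetI false
universe u v
open Polynomial

namespace Groth.Agent.Lib.StrictHensEquivH8

theorem isUnit_symm_iff {A : Type u} {B : Type v} [CommRing A] [CommRing B] (e : A ≃+* B) (b : B) :
    IsUnit (e.symm b) ↔ IsUnit b := by
  constructor
  · intro h
    have := h.map e
    rwa [RingEquiv.apply_symm_apply] at this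
  · intro h
    exact h.map e.symm

theorem henselianLocalRing_of_ringEquiv {A : Type u} {B : Type v} [CommRing A] [CommRing B]
    (e : A ≃+* B) [HenselianLocalRing A] : HenselianLocalRing B := by
  haveI : IsLocalRing B := e.isLocalRing
  refine ⟨?_⟩
  intro f hf a₀ h1 h2
  have hmem : ∀ b : B, b ∈ IsLocalRing.maximalIdeal B ↔ e.symm b ∈ IsLocalRing.maximalIdeal A := by
    intro b
    rw [IsLocalRing.mem_maximalIdeal, IsLocalRing.mem_maximalIdeal, mem_nonunits_iff,
      mem_nonunits_iff, isUnit_symm_iff]
  have hev : ∀ (p : B[X]) (b : B), (p.map e.symm.toRingHom).eval (e.symm b) = e.symm (p.eval b) :=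
    fun p b => Polynomial.eval_map_apply (p := p) (f := e.symm.toRingHom) b
  obtain ⟨a', ha', ha''⟩ := HenselianLocalRing.is_henselian (f.map e.symm.toRingHom)
    (hf.map _) (e.symm a₀) (by rw [hev]; exact (hmem _).1 h1)
    (by
      rw [Polynomial.derivative_map, hev]
      exact (isUnit_symm_iff e _).2 h2)
  refine ⟨e a', ?_, ?_⟩
  · have h3 : (f.map e.symm.toRingHom).eval (e.symm (e a')) = e.symm (f.eval (e a')) := hev f (e a')
    rw [RingEquiv.symm_apply_apply] at h3
    have h4 : (f.map e.symm.toRingHom).eval a' = 0 := ha'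
    rw [h4] at h3
    show f.eval (e a') = 0
    apply e.symm.injective
    rw [map_zero, ← h3]
  · rw [hmem, map_sub, RingEquiv.symm_apply_apply]
    exact ha''

theorem isSepClosed_of_ringEquiv {k : Type u} {k' : Type v} [Field k] [Field k'] (e : k ≃+* k')
    [IsSepClosed k] : IsSepClosed k' := by
  apply IsSepClosed.of_exists_root
  intro p hmp hp hsep
  have hpe : degree (p.map e.symm.toRingHom) ≠ 0 := by
    rw [degree_map]
    exact ne_of_gt (degree_pos_of_irreducible hp)
  have hsep' : (p.map e.symm.toRingHom).Separable := hsep.map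
  rcases IsSepClosed.exists_root (k := k) (p.map e.symm.toRingHom) hpe hsep' with ⟨x, hx⟩
  use e x
  rw [IsRoot] at hx
  apply e.symm.injective
  rw [map_zero, ← hx]
  have h := Polynomial.eval_map_apply (p := p) (f := e.symm.toRingHom) (e x)
  have h' : e.symm.toRingHom (e x) = x := e.symm_apply_apply x
  rw [h'] at h
  exact h.symm

theorem isStrictlyHenselian_of_ringEquiv {A : Type u} {B : Type u} [CommRing A] [CommRing B]
    (e : A ≃+* B) (hA : EtCoh.IsStrictlyHenselianLocalRing A) :
    EtCoh.IsStrictlyHenselianLocalRing B := by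
  obtain ⟨hH, hSC⟩ := hA
  haveI := hH
  haveI := hSC
  haveI hB : HenselianLocalRing B := henselianLocalRing_of_ringEquiv e
  refine ⟨hB, ?_⟩
  exact isSepClosed_of_ringEquiv (IsLocalRing.ResidueField.mapEquiv e)

end Groth.Agent.Lib.StrictHensEquivH8
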