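import Mathlib
import Groth.Agent.Lib.SpectralT1_helper8
import Groth.Agent.Lib.StrictHensEquiv_helper8

/-!
# Quasi-finite finitely presented algebras over extremally disconnected bases (helper3)

S0750: if `Spec A` is Hausdorff and extremally disconnected with separably closed residue fields and
`A → B` is quasi-finite of finite presentation, then `Spec B` is extremally disconnected.
-/

set_option autoImplicit false
set_option linter.all false
set_option maxHeartbeats 1600000

universe u

open Topology TensorProduct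

namespace Groth.Agent.Lib.QFinEDH3

section top

variable {X Y : Type*} [TopologicalSpace X] [TopologicalSpace Y]

/-- A continuous open map from a compact space to a Hausdorff extremally disconnected space which
is injective on a clopen neighbourhood of every point has extremally disconnected source. -/
theorem extremallyDisconnected_of_locally_injOn [T2Space X] [ExtremallyDisconnected X]
    [CompactSpace Y] (f : Y → X) (hf : Continuous f) (hopen : IsOpenMap f)
    (hli : ∀ y, ∃ V : Set Y, IsClopen V ∧ y ∈ V ∧ Set.InjOn f V) :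
    ExtremallyDisconnected Y := by
  have hclosed : IsClosedMap f := hf.isClosedMap
  refine ⟨fun U hU => ?_⟩
  rw [isOpen_iff_mem_nhds]
  intro y hy
  obtain ⟨V, hV, hyV, hinj⟩ := hli y
  have key : closure U ∩ V = V ∩ f ⁻¹' (closure (f '' (U ∩ V))) := by
    ext z
    constructor
    · rintro ⟨hz1, hz2⟩
      refine ⟨hz2, ?_⟩
      have hz3 : z ∈ closure (V ∩ U) := hV.isOpen.inter_closure ⟨hz2, hz1⟩
      rw [Set.inter_comm] at hz3
      exact image_closure_subset_closure_image hf ⟨z, hz3, rfl⟩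
    · rintro ⟨hz1, hz2⟩
      refine ⟨?_, hz1⟩
      have hz3 : f z ∈ f '' closure (U ∩ V) := hclosed.closure_image_subset _ hz2
      obtain ⟨z', hz', hzz'⟩ := hz3
      have hz'V : z' ∈ V := by
        have : closure (U ∩ V) ⊆ V := by
          apply closure_minimal Set.inter_subset_right hV.isClosed
        exact this hz'
      have : z' = z := hinj hz'V hz1 hzz'
      rw [← this]
      exact closure_mono Set.inter_subset_left hz'
  have hopen' : IsOpen (V ∩ f ⁻¹' closure (f '' (U ∩ V))) :=
    hV.isOpen.inter ((ExtremallyDisconnected.open_closure _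
      (hopen _ (hU.inter hV.isOpen))).preimage hf)
  rw [← key] at hopen'
  exact Filter.mem_of_superset (hopen'.mem_nhds ⟨hy, hyV⟩) Set.inter_subset_left

end top

section radicial

variable {A B : Type u} [CommRing A] [CommRing B] [Algebra A B]

/-- Two primes of `B` over the same prime of `A` coincide if a generating set of `B` consists of
elements which are `p^n`-th roots of elements of `A` modulo both primes. -/
theorem eq_of_radicial (s : Set B) (hs : Algebra.adjoin A s = ⊤) (p : ℕ)
    (e : B → ℕ) (a : B → A) (y' y'' : PrimeSpectrum B)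
    (hxy : PrimeSpectrum.comap (algebraMap A B) y' = PrimeSpectrum.comap (algebraMap A B) y'')
    (h' : ∀ b ∈ s, b ^ (p ^ (e b)) - algebraMap A B (a b) ∈ y'.asIdeal)
    (h'' : ∀ b ∈ s, b ^ (p ^ (e b)) - algebraMap A B (a b) ∈ y''.asIdeal)
    (hp : p = 1 ∨ (p.Prime ∧ (p : B) ∈ y'.asIdeal)) : y' = y'' := by
  -- a prime of `B ⊗[A] B` over both
  have hpb := AlgebraicGeometry.isPullback_SpecMap_of_isPushout _ _ _ _
    (CommRingCat.isPushout_tensorProduct A B B)
  obtain ⟨r, hr1, hr2⟩ :
      ∃ r : PrimeSpectrum (B ⊗[A] B),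
        PrimeSpectrum.comap (Algebra.TensorProduct.includeLeftRingHom) r = y' ∧
        PrimeSpectrum.comap (Algebra.TensorProduct.includeRight.toRingHom) r = y'' := by
    obtain ⟨r, hr1, hr2⟩ := AlgebraicGeometry.Scheme.exists_preimage_of_isPullback hpb y' y'' hxy
    exact ⟨r, hr1, hr2⟩
  haveI := r.2
  let φ' : B →ₐ[A] ((B ⊗[A] B) ⧸ r.asIdeal) :=
    (Ideal.Quotient.mkₐ A r.asIdeal).comp Algebra.TensorProduct.includeLeft
  let φ'' : B →ₐ[A] ((B ⊗[A] B) ⧸ r.asIdeal) :=
    (Ideal.Quotient.mkₐ A r.asIdeal).comp Algebra.TensorProduct.includeRight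
  have hker' : ∀ z : B, φ' z = 0 ↔ z ∈ y'.asIdeal := by
    intro z
    rw [← hr1]
    show Ideal.Quotient.mk r.asIdeal (z ⊗ₜ[A] (1 : B)) = 0 ↔ _
    rw [Ideal.Quotient.eq_zero_iff_mem]
    rfl
  have hker'' : ∀ z : B, φ'' z = 0 ↔ z ∈ y''.asIdeal := by
    intro z
    rw [← hr2]
    show Ideal.Quotient.mk r.asIdeal ((1 : B) ⊗ₜ[A] z) = 0 ↔ _
    rw [Ideal.Quotient.eq_zero_iff_mem]
    rfl
  have hpow : ∀ b ∈ s, φ' b ^ (p ^ (e b)) = φ'' b ^ (p ^ (e b)) := by
    intro b hb
    have h1 := (hker' _).2 (h' b hb)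
    have h2 := (hker'' _).2 (h'' b hb)
    rw [map_sub, sub_eq_zero, map_pow, AlgHom.commutes] at h1 h2
    rw [h1, h2]
  have heq : φ' = φ'' := by
    apply AlgHom.ext_of_adjoin_eq_top hs
    intro b hb
    rcases hp with hp1 | ⟨hpp, hpy⟩
    · have := hpow b hb
      rw [hp1, one_pow, pow_one, pow_one] at this
      exact this
    · have hp0 : ((p : ℕ) : (B ⊗[A] B) ⧸ r.asIdeal) = 0 := by
        have := (hker' _).2 hpy
        rw [map_natCast] at this
        exact this
      haveI : CharP ((B ⊗[A] B) ⧸ r.asIdeal) p := (CharP.charP_iff_prime_eq_zero hpp).2 hp0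
      haveI : Fact p.Prime := ⟨hpp⟩
      haveI : ExpChar ((B ⊗[A] B) ⧸ r.asIdeal) p := ExpChar.prime hpp
      apply iterateFrobenius_inj ((B ⊗[A] B) ⧸ r.asIdeal) p (e b)
      rw [iterateFrobenius_def, iterateFrobenius_def]
      exact hpow b hb
  apply PrimeSpectrum.ext
  ext z
  rw [← hker', ← hker'', heq]

end radicial

section main

variable (A B : Type u) [CommRing A] [CommRing B] [Algebra A B]

theorem isMaximal_of_t2 [T2Space (PrimeSpectrum A)] (x : PrimeSpectrum A) :
    x.asIdeal.IsMaximal :=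
  (PrimeSpectrum.isClosed_singleton_iff_isMaximal x).1 isClosed_singleton

theorem isMaximal_of_quasiFinite [T2Space (PrimeSpectrum A)] [Algebra.QuasiFinite A B]
    (q : PrimeSpectrum B) : q.asIdeal.IsMaximal := by
  obtain ⟨M, hM, hqM⟩ := Ideal.exists_le_maximal q.asIdeal q.2.ne_top
  haveI := hM.isPrime
  haveI := q.2
  have h1 : (q.asIdeal.comap (algebraMap A B)) ≤ M.comap (algebraMap A B) := Ideal.comap_mono hqM
  have hmax := isMaximal_of_t2 A (PrimeSpectrum.comap (algebraMap A B) q)
  have h2 : q.asIdeal.comap (algebraMap A B) = M.comap (algebraMap A B) :=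
    hmax.eq_of_le (Ideal.comap_ne_top _ hM.ne_top) h1
  have := Algebra.QuasiFinite.eq_of_le_of_under_eq (R := A) q.asIdeal M hqM h2
  rw [this]
  exact hM

theorem t2Space_of_quasiFinite [T2Space (PrimeSpectrum A)] [Algebra.QuasiFinite A B] :
    T2Space (PrimeSpectrum B) :=
  Groth.Agent.Lib.SpectralT1H8.t2Space_of_closed_points (fun y =>
    (PrimeSpectrum.isClosed_singleton_iff_isMaximal y).2 (isMaximal_of_quasiFinite A B y))

theorem hasGoingDown_of_t2 [T2Space (PrimeSpectrum A)] : Algebra.HasGoingDown A B := by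
  refine ⟨fun {p} _ Q _ hlt => ?_⟩
  exfalso
  have hpmax := isMaximal_of_t2 A ⟨p, inferInstance⟩
  have htop : Q.under A = ⊤ := hpmax.1.2 _ hlt
  have hprime : (Q.under A).IsPrime := Ideal.comap_isPrime _ _
  exact hprime.ne_top htop

theorem isClopen_zeroLocus_singleton [T2Space (PrimeSpectrum B)] (u : B) :
    IsClopen (PrimeSpectrum.zeroLocus ({u} : Set B)) := by
  refine ⟨PrimeSpectrum.isClosed_zeroLocus _, ?_⟩
  have hc : IsClosed ((PrimeSpectrum.basicOpen u : TopologicalSpace.Opens (PrimeSpectrum B)) :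
      Set (PrimeSpectrum B)) := (PrimeSpectrum.isCompact_basicOpen u).isClosed
  rw [PrimeSpectrum.basicOpen_eq_zeroLocus_compl] at hc
  exact isClosed_compl_iff.1 hc

end main

section main2

variable (A B : Type u) [CommRing A] [CommRing B] [Algebra A B]

theorem exists_pow_sub_mem [T2Space (PrimeSpectrum A)] [Algebra.QuasiFinite A B]
    (hres : ∀ p : PrimeSpectrum A, IsSepClosed p.asIdeal.ResidueField) (y : PrimeSpectrum B) :
    ∃ p : ℕ, (p = 1 ∨ (p.Prime ∧ (p : B) ∈ y.asIdeal)) ∧
      ∀ b : B, ∃ (n : ℕ) (a : A), b ^ (p ^ n) - algebraMap A B a ∈ y.asIdeal := by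
  haveI hymax : y.asIdeal.IsMaximal := isMaximal_of_quasiFinite A B y
  haveI hxmax : (y.asIdeal.comap (algebraMap A B)).IsMaximal :=
    isMaximal_of_t2 A (PrimeSpectrum.comap (algebraMap A B) y)
  letI : Field (A ⧸ y.asIdeal.comap (algebraMap A B)) := Ideal.Quotient.field _
  letI : Field (B ⧸ y.asIdeal) := Ideal.Quotient.field _
  haveI : IsSepClosed (A ⧸ y.asIdeal.comap (algebraMap A B)) := by
    haveI : IsSepClosed (Ideal.comap (algebraMap A B) y.asIdeal).ResidueField :=
      hres (PrimeSpectrum.comap (algebraMap A B) y)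
    let e : (A ⧸ y.asIdeal.comap (algebraMap A B)) ≃+*
        (y.asIdeal.comap (algebraMap A B)).ResidueField :=
      RingEquiv.ofBijective _ (Ideal.bijective_algebraMap_quotient_residueField _)
    exact Groth.Agent.Lib.StrictHensEquivH8.isSepClosed_of_ringEquiv e.symm
  haveI : Algebra.QuasiFinite A (B ⧸ y.asIdeal) := inferInstance
  haveI : Algebra.QuasiFinite (A ⧸ y.asIdeal.comap (algebraMap A B)) (B ⧸ y.asIdeal) :=
    Algebra.QuasiFinite.of_restrictScalars A _ _
  haveI : Module.Finite (A ⧸ y.asIdeal.comap (algebraMap A B)) (B ⧸ y.asIdeal) :=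
    Module.Finite.of_quasiFinite
  haveI : Algebra.IsAlgebraic (A ⧸ y.asIdeal.comap (algebraMap A B)) (B ⧸ y.asIdeal) :=
    Algebra.IsAlgebraic.of_finite _ _
  haveI : IsPurelyInseparable (A ⧸ y.asIdeal.comap (algebraMap A B)) (B ⧸ y.asIdeal) :=
    inferInstance
  obtain ⟨p, hp⟩ : ∃ p : ℕ, p = ringExpChar (A ⧸ y.asIdeal.comap (algebraMap A B)) := ⟨_, rfl⟩
  haveI hE : ExpChar (A ⧸ y.asIdeal.comap (algebraMap A B)) p := hp ▸ ringExpChar.expChar _
  refine ⟨p, ?_, ?_⟩
  · cases hE with
    | zero => left; rfl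
    | prime hpp =>
      right
      refine ⟨hpp, ?_⟩
      have h0 : ((p : ℕ) : A ⧸ y.asIdeal.comap (algebraMap A B)) = 0 := CharP.cast_eq_zero _ p
      have h1 : Ideal.Quotient.mk (y.asIdeal.comap (algebraMap A B)) ((p : ℕ) : A) = 0 := by
        rw [map_natCast]
        exact h0
      rw [Ideal.Quotient.eq_zero_iff_mem, Ideal.mem_comap, map_natCast] at h1
      exact h1
  · intro b
    obtain ⟨n, k, hk⟩ := IsPurelyInseparable.pow_mem (A ⧸ y.asIdeal.comap (algebraMap A B)) p
      (Ideal.Quotient.mk y.asIdeal b)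
    obtain ⟨a, rfl⟩ := Ideal.Quotient.mk_surjective k
    refine ⟨n, a, ?_⟩
    rw [← Ideal.Quotient.eq_zero_iff_mem, map_sub, map_pow, sub_eq_zero, ← hk]
    rfl

theorem exists_clopen_injOn [T2Space (PrimeSpectrum A)] [Algebra.QuasiFinite A B]
    [Algebra.FiniteType A B]
    (hres : ∀ p : PrimeSpectrum A, IsSepClosed p.asIdeal.ResidueField) (y : PrimeSpectrum B) :
    ∃ V : Set (PrimeSpectrum B), IsClopen V ∧ y ∈ V ∧
      Set.InjOn (PrimeSpectrum.comap (algebraMap A B)) V := by
  haveI : T2Space (PrimeSpectrum B) := t2Space_of_quasiFinite A B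
  obtain ⟨s, hs⟩ : ∃ s : Finset B, Algebra.adjoin A (s : Set B) = ⊤ :=
    (Algebra.FiniteType.out : (⊤ : Subalgebra A B).FG)
  obtain ⟨p, hp, hb⟩ := exists_pow_sub_mem A B hres y
  choose e a hea using hb
  refine ⟨(⋂ b ∈ s, PrimeSpectrum.zeroLocus ({b ^ (p ^ (e b)) - algebraMap A B (a b)} : Set B)) ∩
    {y' | p.Prime → (p : B) ∈ y'.asIdeal}, ?_, ?_, ?_⟩
  · refine (isClopen_biInter_finset (fun b _ => isClopen_zeroLocus_singleton B _)).inter ?_
    by_cases hpp : p.Prime
    · have : {y' : PrimeSpectrum B | p.Prime → (p : B) ∈ y'.asIdeal} =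
          PrimeSpectrum.zeroLocus ({(p : B)} : Set B) := by
        ext y'
        simp only [Set.mem_setOf_eq, PrimeSpectrum.mem_zeroLocus, Set.singleton_subset_iff,
          SetLike.mem_coe]
        exact ⟨fun h => h hpp, fun h _ => h⟩
      rw [this]
      exact isClopen_zeroLocus_singleton B _
    · have : {y' : PrimeSpectrum B | p.Prime → (p : B) ∈ y'.asIdeal} = Set.univ := by
        ext y'
        simp only [Set.mem_setOf_eq, Set.mem_univ, iff_true]
        exact fun h => absurd h hpp
      rw [this]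
      exact isClopen_univ
  · refine ⟨?_, ?_⟩
    · simp only [Set.mem_iInter, PrimeSpectrum.mem_zeroLocus, Set.singleton_subset_iff,
        SetLike.mem_coe]
      exact fun b _ => hea b
    · intro hpp
      rcases hp with hp1 | ⟨_, h⟩
      · exact absurd hpp (hp1 ▸ Nat.not_prime_one)
      · exact h
  · intro y' hy' y'' hy'' hxy
    obtain ⟨h1', h2'⟩ := hy'
    obtain ⟨h1'', h2''⟩ := hy''
    simp only [Set.mem_iInter, PrimeSpectrum.mem_zeroLocus, Set.singleton_subset_iff,
      SetLike.mem_coe] at h1' h1''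
    refine eq_of_radicial (s : Set B) hs p e a y' y'' hxy (fun b hb => h1' b hb)
      (fun b hb => h1'' b hb) ?_
    rcases hp with hp1 | ⟨hpp, _⟩
    · left; exact hp1
    · right; exact ⟨hpp, h2' hpp⟩

theorem main0750 [Algebra.QuasiFinite A B] [Algebra.FinitePresentation A B]
    (hres : ∀ p : PrimeSpectrum A, IsSepClosed p.asIdeal.ResidueField)
    [T2Space (PrimeSpectrum A)] [ExtremallyDisconnected (PrimeSpectrum A)] :
    ExtremallyDisconnected (PrimeSpectrum B) := by
  haveI : T2Space (PrimeSpectrum B) := t2Space_of_quasiFinite A B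
  haveI := hasGoingDown_of_t2 A B
  exact extremallyDisconnected_of_locally_injOn (PrimeSpectrum.comap (algebraMap A B))
    (PrimeSpectrum.continuous_comap _)
    PrimeSpectrum.isOpenMap_comap_of_hasGoingDown_of_finitePresentation
    (exists_clopen_injOn A B hres)

end main2

end Groth.Agent.Lib.QFinEDH3
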