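import Mathlib
import Groth.Agent.Lib.QFinED1_helper3

/-!
# Quasi-finite algebras over absolutely flat rings with algebraically closed residue fields
(helper3)

If `A` is reduced with Hausdorff spectrum and algebraically closed residue fields, and `B` is a
quasi-finite finitely presented `A`-algebra, then `B ⧸ nilradical B` is finite étale over `A`.
-/

set_option autoImplicit false
set_option linter.all false
set_option maxHeartbeats 1600000

universe u

open Topology TensorProduct

namespace Groth.Agent.Lib.QFinEDH3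

section etaleLocalIso

variable {R S : Type u} [CommRing R] [CommRing S] [Algebra R S]

theorem etale_of_isLocalIso' [Algebra.IsLocalIso R S] : Algebra.Etale R S := by
  rw [← RingHom.etale_algebraMap]
  apply RingHom.Etale.ofLocalizationSpanTarget (algebraMap R S)
    {g : S | Algebra.IsStandardOpenImmersion R (Localization.Away g)}
    (Algebra.IsLocalIso.span_isStandardOpenImmersion_eq_top R S)
  rintro ⟨g, hg⟩
  obtain ⟨r, hr⟩ := hg.exists_away
  rw [← IsScalarTower.algebraMap_eq, RingHom.etale_algebraMap]
  exact Algebra.Etale.of_isLocalizationAway r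

end etaleLocalIso

section FE

variable (A B : Type u) [CommRing A] [CommRing B] [Algebra A B]

/-- hypothesis: all residue fields at maximal ideals are algebraically closed -/
def AlgClosedResidue : Prop :=
  ∀ (p : Ideal A) [hp : p.IsMaximal], @IsAlgClosed (A ⧸ p) (Ideal.Quotient.field p)

variable {A}

theorem isSepClosed_residueField_of (hac : AlgClosedResidue A) [T2Space (PrimeSpectrum A)]
    (p : PrimeSpectrum A) : IsSepClosed p.asIdeal.ResidueField := by
  haveI hmax : p.asIdeal.IsMaximal := isMaximal_of_t2 A p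
  letI : Field (A ⧸ p.asIdeal) := Ideal.Quotient.field _
  haveI : IsAlgClosed (A ⧸ p.asIdeal) := hac p.asIdeal
  haveI : IsSepClosed (A ⧸ p.asIdeal) := inferInstance
  let e : (A ⧸ p.asIdeal) ≃+* p.asIdeal.ResidueField :=
    RingEquiv.ofBijective _ (Ideal.bijective_algebraMap_quotient_residueField _)
  exact Groth.Agent.Lib.StrictHensEquivH8.isSepClosed_of_ringEquiv e

variable (A)

/-- trivial residue field extensions -/
theorem exists_sub_mem (hac : AlgClosedResidue A) [T2Space (PrimeSpectrum A)]
    [Algebra.QuasiFinite A B] (y : PrimeSpectrum B) (b : B) :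
    ∃ a : A, b - algebraMap A B a ∈ y.asIdeal := by
  haveI hymax : y.asIdeal.IsMaximal := isMaximal_of_quasiFinite A B y
  haveI hxmax : (y.asIdeal.comap (algebraMap A B)).IsMaximal :=
    isMaximal_of_t2 A (PrimeSpectrum.comap (algebraMap A B) y)
  letI : Field (A ⧸ y.asIdeal.comap (algebraMap A B)) := Ideal.Quotient.field _
  letI : Field (B ⧸ y.asIdeal) := Ideal.Quotient.field _
  haveI : IsAlgClosed (A ⧸ y.asIdeal.comap (algebraMap A B)) := hac _
  haveI : Algebra.QuasiFinite A (B ⧸ y.asIdeal) := inferInstance
  haveI : Algebra.QuasiFinite (A ⧸ y.asIdeal.comap (algebraMap A B)) (B ⧸ y.asIdeal) :=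
    Algebra.QuasiFinite.of_restrictScalars A _ _
  haveI : Module.Finite (A ⧸ y.asIdeal.comap (algebraMap A B)) (B ⧸ y.asIdeal) :=
    Module.Finite.of_quasiFinite
  haveI : Algebra.IsIntegral (A ⧸ y.asIdeal.comap (algebraMap A B)) (B ⧸ y.asIdeal) :=
    Algebra.IsIntegral.of_finite _ _
  obtain ⟨k, hk⟩ := (IsAlgClosed.algebraMap_bijective_of_isIntegral
    (k := A ⧸ y.asIdeal.comap (algebraMap A B)) (K := B ⧸ y.asIdeal)).2
    (Ideal.Quotient.mk y.asIdeal b)
  obtain ⟨a, rfl⟩ := Ideal.Quotient.mk_surjective k
  refine ⟨a, ?_⟩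
  rw [← Ideal.Quotient.eq_zero_iff_mem, map_sub, sub_eq_zero, ← hk]
  rfl

end FE

section FE2

variable (A B : Type u) [CommRing A] [CommRing B] [Algebra A B]

theorem isClopen_image_comap [T2Space (PrimeSpectrum A)] [Algebra.QuasiFinite A B]
    [Algebra.FinitePresentation A B] {V : Set (PrimeSpectrum B)} (hV : IsClopen V) :
    IsClopen (PrimeSpectrum.comap (algebraMap A B) '' V) := by
  haveI := hasGoingDown_of_t2 A B
  refine ⟨?_, ?_⟩
  · exact (hV.isClosed.isCompact.image (PrimeSpectrum.continuous_comap _)).isClosed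
  · exact PrimeSpectrum.isOpenMap_comap_of_hasGoingDown_of_finitePresentation _ hV.isOpen

theorem isClopen_basicOpen_of_t2 [T2Space (PrimeSpectrum B)] (ε : B) :
    IsClopen (PrimeSpectrum.basicOpen ε : Set (PrimeSpectrum B)) :=
  ⟨(PrimeSpectrum.isCompact_basicOpen ε).isClosed, (PrimeSpectrum.basicOpen ε).isOpen⟩

/-- Key lemma: on a basic open `D(ε)` on which `Spec B → Spec A` is injective, every element of
`B` agrees with an element of `A` up to nilpotents. -/
theorem exists_mul_sub_mem_nilradical (hac : AlgClosedResidue A) [T2Space (PrimeSpectrum A)]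
    [Algebra.QuasiFinite A B] [Algebra.FinitePresentation A B] (ε : B)
    (hinj : Set.InjOn (PrimeSpectrum.comap (algebraMap A B))
      (PrimeSpectrum.basicOpen ε : Set (PrimeSpectrum B))) (b : B) :
    ∃ a : A, ε * (b - algebraMap A B a) ∈ nilradical B := by
  haveI : T2Space (PrimeSpectrum B) := t2Space_of_quasiFinite A B
  let J : Ideal A :=
    { carrier := {s | ∃ a : A, ε * (algebraMap A B s * b - algebraMap A B a) ∈ nilradical B}
      zero_mem' := ⟨0, by simp⟩
      add_mem' := by
        rintro s s' ⟨a, ha⟩ ⟨a', ha'⟩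
        refine ⟨a + a', ?_⟩
        have : ε * (algebraMap A B (s + s') * b - algebraMap A B (a + a')) =
            ε * (algebraMap A B s * b - algebraMap A B a) +
            ε * (algebraMap A B s' * b - algebraMap A B a') := by
          simp only [map_add]; ring
        rw [this]
        exact add_mem ha ha'
      smul_mem' := by
        rintro r s ⟨a, ha⟩
        refine ⟨r * a, ?_⟩
        have : ε * (algebraMap A B (r • s) * b - algebraMap A B (r * a)) =
            algebraMap A B r * (ε * (algebraMap A B s * b - algebraMap A B a)) := by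
          simp only [smul_eq_mul, map_mul]; ring
        rw [this]
        exact Ideal.mul_mem_left _ _ ha }
  have hJ : J = ⊤ := by
    by_contra hne
    obtain ⟨𝔭, hmax, hJ𝔭⟩ := Ideal.exists_le_maximal J hne
    haveI := hmax.isPrime
    have hVclopen := isClopen_basicOpen_of_t2 B ε
    by_cases hx : (⟨𝔭, hmax.isPrime⟩ : PrimeSpectrum A) ∈
        PrimeSpectrum.comap (algebraMap A B) '' (PrimeSpectrum.basicOpen ε : Set (PrimeSpectrum B))
    · obtain ⟨q, hqV, hq𝔭⟩ := hx
      obtain ⟨a₀, ha₀⟩ := exists_sub_mem A B hac q b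
      have hUclopen : IsClopen ((PrimeSpectrum.basicOpen ε : Set (PrimeSpectrum B)) ∩
          PrimeSpectrum.zeroLocus ({b - algebraMap A B a₀} : Set B)) :=
        hVclopen.inter (isClopen_zeroLocus_singleton B _)
      obtain ⟨s, hsid, hs⟩ := PrimeSpectrum.exists_idempotent_basicOpen_eq_of_isClopen
        (isClopen_image_comap A B hUclopen)
      have hs𝔭 : s ∉ 𝔭 := by
        have : (⟨𝔭, hmax.isPrime⟩ : PrimeSpectrum A) ∈
            (PrimeSpectrum.basicOpen s : Set (PrimeSpectrum A)) := by
          rw [← hs, ← hq𝔭]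
          refine ⟨q, ⟨hqV, ?_⟩, rfl⟩
          rw [PrimeSpectrum.mem_zeroLocus, Set.singleton_subset_iff]
          exact ha₀
        exact this
      apply hs𝔭
      apply hJ𝔭
      refine ⟨s * a₀, ?_⟩
      rw [mem_nilradical, nilpotent_iff_mem_prime]
      intro q' hq'
      have e1 : ε * (algebraMap A B s * b - algebraMap A B (s * a₀)) =
          ε * algebraMap A B s * (b - algebraMap A B a₀) := by
        rw [map_mul]; ring
      rw [e1]
      by_cases hq'V : (⟨q', hq'⟩ : PrimeSpectrum B) ∈
          (PrimeSpectrum.basicOpen ε : Set (PrimeSpectrum B))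
      · by_cases hq'U : b - algebraMap A B a₀ ∈ q'
        · exact Ideal.mul_mem_left _ _ hq'U
        · -- then `f q' ∉ f U`, so `s ∈ q'`
          have hnot : PrimeSpectrum.comap (algebraMap A B) ⟨q', hq'⟩ ∉
              (PrimeSpectrum.basicOpen s : Set (PrimeSpectrum A)) := by
            rw [← hs]
            rintro ⟨q'', ⟨hq''V, hq''Z⟩, hq''⟩
            have : q'' = ⟨q', hq'⟩ := hinj hq''V hq'V hq''
            rw [this, PrimeSpectrum.mem_zeroLocus, Set.singleton_subset_iff] at hq''Z
            exact hq'U hq''Z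
          have hsq' : algebraMap A B s ∈ q' := by
            by_contra hcon
            exact hnot hcon
          exact Ideal.mul_mem_right _ _ (Ideal.mul_mem_left _ _ hsq')
      · have : ε ∈ q' := by
          by_contra hcon
          exact hq'V hcon
        exact Ideal.mul_mem_right _ _ (Ideal.mul_mem_right _ _ this)
    · -- `𝔭` outside the image of `D(ε)`
      obtain ⟨s, hsid, hs⟩ := PrimeSpectrum.exists_idempotent_basicOpen_eq_of_isClopen
        (isClopen_image_comap A B hVclopen).compl
      have hs𝔭 : s ∉ 𝔭 := by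
        have : (⟨𝔭, hmax.isPrime⟩ : PrimeSpectrum A) ∈
            (PrimeSpectrum.basicOpen s : Set (PrimeSpectrum A)) := by
          rw [← hs]
          exact hx
        exact this
      apply hs𝔭
      apply hJ𝔭
      refine ⟨0, ?_⟩
      rw [mem_nilradical, nilpotent_iff_mem_prime]
      intro q' hq'
      rw [map_zero, sub_zero]
      by_cases hq'V : (⟨q', hq'⟩ : PrimeSpectrum B) ∈
          (PrimeSpectrum.basicOpen ε : Set (PrimeSpectrum B))
      · have hnot : PrimeSpectrum.comap (algebraMap A B) ⟨q', hq'⟩ ∉
            (PrimeSpectrum.basicOpen s : Set (PrimeSpectrum A)) := by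
          rw [← hs]
          intro hcon
          exact hcon ⟨_, hq'V, rfl⟩
        have hsq' : algebraMap A B s ∈ q' := by
          by_contra hcon
          exact hnot hcon
        exact Ideal.mul_mem_left _ _ (Ideal.mul_mem_right _ _ hsq')
      · have : ε ∈ q' := by
          by_contra hcon
          exact hq'V hcon
        exact Ideal.mul_mem_right _ _ this
  have h1 : (1 : A) ∈ J := by rw [hJ]; trivial
  obtain ⟨a, ha⟩ := h1
  refine ⟨a, ?_⟩
  rw [map_one, one_mul] at ha
  exact ha

end FE2

section FE3

variable (A B : Type u) [CommRing A] [CommRing B] [Algebra A B]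

/-- On a basic open `D(ε)`, `ε` idempotent, on which `Spec B → Spec A` is injective, the reduced
quotient localised at `ε` is a standard open of `A`. -/
theorem isStandardOpenImmersion_away (hac : AlgClosedResidue A) [T2Space (PrimeSpectrum A)]
    [IsReduced A] [Algebra.QuasiFinite A B] [Algebra.FinitePresentation A B] (ε : B)
    (hid : IsIdempotentElem ε)
    (hinj : Set.InjOn (PrimeSpectrum.comap (algebraMap A B))
      (PrimeSpectrum.basicOpen ε : Set (PrimeSpectrum B))) :
    Algebra.IsStandardOpenImmersion A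
      (Localization.Away (Ideal.Quotient.mk (nilradical B) ε)) := by
  haveI : T2Space (PrimeSpectrum B) := t2Space_of_quasiFinite A B
  have hVclopen := isClopen_basicOpen_of_t2 B ε
  obtain ⟨e, heid, he⟩ := PrimeSpectrum.exists_idempotent_basicOpen_eq_of_isClopen
    (isClopen_image_comap A B hVclopen)
  -- notation
  obtain ⟨εbar, hεbar⟩ : ∃ εbar : B ⧸ nilradical B, εbar = Ideal.Quotient.mk (nilradical B) ε :=
    ⟨_, rfl⟩
  rw [← hεbar]
  have hidbar : IsIdempotentElem εbar := by
    rw [hεbar]
    show Ideal.Quotient.mk (nilradical B) ε * Ideal.Quotient.mk (nilradical B) ε = _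
    rw [← map_mul, hid.eq]
  -- (T1)
  have hT1 : algebraMap (B ⧸ nilradical B) (Localization.Away εbar) εbar = 1 := by
    have hu : IsUnit (algebraMap (B ⧸ nilradical B) (Localization.Away εbar) εbar) :=
      IsLocalization.Away.algebraMap_isUnit εbar
    have h2 : algebraMap (B ⧸ nilradical B) (Localization.Away εbar) εbar *
        algebraMap (B ⧸ nilradical B) (Localization.Away εbar) εbar =
        algebraMap (B ⧸ nilradical B) (Localization.Away εbar) εbar := by
      rw [← map_mul, hidbar.eq]
    exact hu.mul_left_cancel (by rw [h2, mul_one])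
  have hT1' : ∀ x : B ⧸ nilradical B,
      algebraMap (B ⧸ nilradical B) (Localization.Away εbar) (εbar * x) =
      algebraMap (B ⧸ nilradical B) (Localization.Away εbar) x := by
    intro x
    rw [map_mul, hT1, one_mul]
  -- (T2)
  have hT2 : ∀ x y : B ⧸ nilradical B,
      algebraMap (B ⧸ nilradical B) (Localization.Away εbar) x =
      algebraMap (B ⧸ nilradical B) (Localization.Away εbar) y → εbar * x = εbar * y := by
    intro x y hxy
    obtain ⟨⟨c, n, rfl⟩, hc⟩ := (IsLocalization.eq_iff_exists (Submonoid.powers εbar)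
      (Localization.Away εbar)).1 hxy
    simp only at hc
    cases n with
    | zero => rw [pow_zero, one_mul, one_mul] at hc; rw [hc]
    | succ n => rw [hidbar.pow_succ_eq] at hc; exact hc
  -- (C2)
  have hC2 : εbar * Ideal.Quotient.mk (nilradical B) (algebraMap A B e) = εbar := by
    rw [hεbar, ← map_mul]
    rw [← sub_eq_zero, ← map_sub, Ideal.Quotient.eq_zero_iff_mem, mem_nilradical,
      nilpotent_iff_mem_prime]
    intro q' hq'
    by_cases hε : ε ∈ q'
    · have : ε * algebraMap A B e - ε = ε * (algebraMap A B e - 1) := by ring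
      rw [this]
      exact Ideal.mul_mem_right _ _ hε
    · have hmem : PrimeSpectrum.comap (algebraMap A B) ⟨q', hq'⟩ ∈
          (PrimeSpectrum.basicOpen e : Set (PrimeSpectrum A)) := by
        rw [← he]
        exact ⟨_, hε, rfl⟩
      have he' : algebraMap A B e ∉ q' := hmem
      have h0 : algebraMap A B e * (algebraMap A B e - 1) = 0 := by
        rw [mul_sub, mul_one, ← map_mul, heid.eq, sub_self]
      have : algebraMap A B e - 1 ∈ q' := by
        have hz : algebraMap A B e * (algebraMap A B e - 1) ∈ q' := by rw [h0]; exact q'.zero_mem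
        exact (hq'.mem_or_mem hz).resolve_left he'
      have e2 : ε * algebraMap A B e - ε = ε * (algebraMap A B e - 1) := by ring
      rw [e2]
      exact Ideal.mul_mem_left _ _ this
  -- (C3)
  have hC3 : ∀ a : A, εbar * Ideal.Quotient.mk (nilradical B) (algebraMap A B a) = 0 →
      e * a = 0 := by
    intro a ha
    rw [hεbar, ← map_mul, Ideal.Quotient.eq_zero_iff_mem, mem_nilradical,
      nilpotent_iff_mem_prime] at ha
    apply IsReduced.eq_zero
    rw [nilpotent_iff_mem_prime]
    intro 𝔭 h𝔭
    by_cases hmem : (⟨𝔭, h𝔭⟩ : PrimeSpectrum A) ∈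
        (PrimeSpectrum.basicOpen e : Set (PrimeSpectrum A))
    · rw [← he] at hmem
      obtain ⟨q, hqV, hq⟩ := hmem
      have h1 := ha q.asIdeal q.2
      have hε : ε ∉ q.asIdeal := hqV
      have h2 : algebraMap A B a ∈ q.asIdeal := (q.2.mem_or_mem h1).resolve_left hε
      have h3 : a ∈ 𝔭 := by
        have := congrArg PrimeSpectrum.asIdeal hq
        simp only [PrimeSpectrum.comap_asIdeal] at this
        rw [← this]
        exact h2
      exact Ideal.mul_mem_left _ _ h3
    · have : e ∈ 𝔭 := by
        by_contra hcon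
        exact hmem hcon
      exact Ideal.mul_mem_right _ _ this
  have halg : ∀ a : A, algebraMap A (Localization.Away εbar) a =
      algebraMap (B ⧸ nilradical B) (Localization.Away εbar)
        (Ideal.Quotient.mk (nilradical B) (algebraMap A B a)) := by
    intro a
    rw [IsScalarTower.algebraMap_apply A (B ⧸ nilradical B) (Localization.Away εbar)]
    rfl
  refine ⟨e, ?_⟩
  show IsLocalization (Submonoid.powers e) (Localization.Away εbar)
  rw [isLocalization_iff]
  refine ⟨?_, ?_, ?_⟩
  · rintro ⟨_, n, rfl⟩
    have : algebraMap A (Localization.Away εbar) e = 1 := by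
      rw [halg, ← hT1', hC2, hT1]
    show IsUnit (algebraMap A (Localization.Away εbar) (e ^ n))
    rw [map_pow, this, one_pow]
    exact isUnit_one
  · intro z
    obtain ⟨⟨c, ⟨_, n, rfl⟩⟩, hz⟩ := IsLocalization.surj (Submonoid.powers εbar) z
    simp only at hz
    rw [map_pow, hT1, one_pow, mul_one] at hz
    obtain ⟨b, rfl⟩ := Ideal.Quotient.mk_surjective c
    obtain ⟨a, ha⟩ := exists_mul_sub_mem_nilradical A B hac ε hinj b
    refine ⟨(a, 1), ?_⟩
    show z * algebraMap A (Localization.Away εbar) ((1 : Submonoid.powers e) : A) =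
      algebraMap A (Localization.Away εbar) a
    rw [Submonoid.coe_one, map_one, mul_one, hz, halg, ← hT1', ← hT1' (Ideal.Quotient.mk _ _)]
    congr 1
    rw [hεbar, ← map_mul, ← map_mul, ← sub_eq_zero, ← map_sub, Ideal.Quotient.eq_zero_iff_mem]
    have : ε * b - ε * algebraMap A B a = ε * (b - algebraMap A B a) := by ring
    rw [this]
    exact ha
  · intro a a' haa'
    rw [halg, halg] at haa'
    have h1 := hT2 _ _ haa'
    have h2 : εbar * Ideal.Quotient.mk (nilradical B) (algebraMap A B (a - a')) = 0 := by
      rw [map_sub, map_sub, mul_sub, h1, sub_self]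
    have h3 := hC3 _ h2
    refine ⟨⟨e, 1, pow_one e⟩, ?_⟩
    show e * a = e * a'
    rw [← sub_eq_zero, ← mul_sub]
    exact h3

end FE3

section FE4

variable (A B : Type u) [CommRing A] [CommRing B] [Algebra A B]

theorem exists_finite_cover (hac : AlgClosedResidue A) [T2Space (PrimeSpectrum A)]
    [Algebra.QuasiFinite A B] [Algebra.FinitePresentation A B] :
    ∃ t : Finset B, (∀ ε ∈ t, IsIdempotentElem ε ∧
      Set.InjOn (PrimeSpectrum.comap (algebraMap A B))
        (PrimeSpectrum.basicOpen ε : Set (PrimeSpectrum B))) ∧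
      Ideal.span (t : Set B) = ⊤ := by
  classical
  haveI : T2Space (PrimeSpectrum B) := t2Space_of_quasiFinite A B
  have hres : ∀ p : PrimeSpectrum A, IsSepClosed p.asIdeal.ResidueField :=
    fun p => isSepClosed_residueField_of hac p
  have h1 : ∀ y : PrimeSpectrum B, ∃ ε : B, IsIdempotentElem ε ∧
      y ∈ (PrimeSpectrum.basicOpen ε : Set (PrimeSpectrum B)) ∧
      Set.InjOn (PrimeSpectrum.comap (algebraMap A B))
        (PrimeSpectrum.basicOpen ε : Set (PrimeSpectrum B)) := by
    intro y
    obtain ⟨V, hV, hyV, hinj⟩ := exists_clopen_injOn A B hres y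
    obtain ⟨ε, hε, hVε⟩ := PrimeSpectrum.exists_idempotent_basicOpen_eq_of_isClopen hV
    refine ⟨ε, hε, ?_, ?_⟩
    · rw [← hVε]; exact hyV
    · rw [← hVε]; exact hinj
  choose ε hεid hεmem hεinj using h1
  obtain ⟨t', ht'⟩ := isCompact_univ.elim_finite_subcover
    (fun y => (PrimeSpectrum.basicOpen (ε y) : Set (PrimeSpectrum B)))
    (fun y => (PrimeSpectrum.basicOpen (ε y)).isOpen)
    (fun y _ => Set.mem_iUnion.2 ⟨y, hεmem y⟩)
  refine ⟨t'.image ε, ?_, ?_⟩
  · intro ε' hε'
    obtain ⟨y, -, rfl⟩ := Finset.mem_image.1 hε'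
    exact ⟨hεid y, hεinj y⟩
  · by_contra hne
    obtain ⟨M, hM, hle⟩ := Ideal.exists_le_maximal _ hne
    have hmem := ht' (Set.mem_univ (⟨M, hM.isPrime⟩ : PrimeSpectrum B))
    simp only [Set.mem_iUnion] at hmem
    obtain ⟨y, hy, hyM⟩ := hmem
    apply hyM
    apply hle
    apply Ideal.subset_span
    exact Finset.mem_coe.2 (Finset.mem_image_of_mem ε hy)

/-- **Main ring-level result**: `B ⧸ nilradical B` is finite étale over `A`. -/
theorem finite_etale_quotient_nilradical (hac : AlgClosedResidue A) [T2Space (PrimeSpectrum A)]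
    [IsReduced A] [Algebra.QuasiFinite A B] [Algebra.FinitePresentation A B] :
    Module.Finite A (B ⧸ nilradical B) ∧ Algebra.Etale A (B ⧸ nilradical B) := by
  classical
  obtain ⟨t, ht, hspan⟩ := exists_finite_cover A B hac
  refine ⟨?_, ?_⟩
  · -- finiteness
    rw [Module.finite_def]
    refine ⟨t.image (Ideal.Quotient.mk (nilradical B)), ?_⟩
    rw [eq_top_iff]
    rintro c -
    obtain ⟨b, rfl⟩ := Ideal.Quotient.mk_surjective c
    have h1 : (1 : B) ∈ Ideal.span (t : Set B) := by rw [hspan]; trivial
    rw [Ideal.span, Submodule.mem_span_finset] at h1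
    obtain ⟨β, -, hβ⟩ := h1
    -- for each `ε ∈ t` choose `a`
    have h2 : ∀ ε : B, ∃ a : A, ε ∈ t → ε * (b * β ε - algebraMap A B a) ∈ nilradical B := by
      intro ε
      by_cases hε : ε ∈ t
      · obtain ⟨a, ha⟩ := exists_mul_sub_mem_nilradical A B hac ε (ht ε hε).2 (b * β ε)
        exact ⟨a, fun _ => ha⟩
      · exact ⟨0, fun h => absurd h hε⟩
    choose a ha using h2
    have h3 : Ideal.Quotient.mk (nilradical B) b =
        ∑ ε ∈ t, a ε • Ideal.Quotient.mk (nilradical B) ε := by
      have hb : b = ∑ ε ∈ t, ε * (b * β ε) := by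
        calc b = b * 1 := (mul_one b).symm
          _ = b * ∑ ε ∈ t, β ε • ε := by rw [hβ]
          _ = ∑ ε ∈ t, ε * (b * β ε) := by
            rw [Finset.mul_sum]
            refine Finset.sum_congr rfl (fun ε _ => ?_)
            rw [smul_eq_mul]; ring
      conv_lhs => rw [hb]
      rw [map_sum]
      refine Finset.sum_congr rfl (fun ε hε => ?_)
      rw [Algebra.smul_def]
      show _ = Ideal.Quotient.mk (nilradical B) (algebraMap A B (a ε)) * _
      rw [← map_mul, ← sub_eq_zero, ← map_sub, Ideal.Quotient.eq_zero_iff_mem]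
      have : ε * (b * β ε) - algebraMap A B (a ε) * ε = ε * (b * β ε - algebraMap A B (a ε)) := by
        ring
      rw [this]
      exact ha ε hε
    rw [h3]
    refine Submodule.sum_mem _ (fun ε hε => Submodule.smul_mem _ _ (Submodule.subset_span ?_))
    exact Finset.mem_coe.2 (Finset.mem_image_of_mem _ hε)
  · -- étale via local isomorphism
    haveI : Algebra.IsLocalIso A (B ⧸ nilradical B) := by
      refine ⟨fun q hq => ?_⟩
      have hex : ∃ ε ∈ t, Ideal.Quotient.mk (nilradical B) ε ∉ q := by
        by_contra hcon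
        push Not at hcon
        have hle : Ideal.span (t : Set B) ≤ q.comap (Ideal.Quotient.mk (nilradical B)) := by
          rw [Ideal.span_le]
          intro ε hε
          exact hcon ε (Finset.mem_coe.1 hε)
        rw [hspan, top_le_iff, Ideal.comap_eq_top_iff] at hle
        exact hq.ne_top hle
      obtain ⟨ε, hεt, hεq⟩ := hex
      exact ⟨_, hεq, isStandardOpenImmersion_away A B hac ε (ht ε hεt).1 (ht ε hεt).2⟩
    exact etale_of_isLocalIso'

end FE4

end Groth.Agent.Lib.QFinEDH3
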