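import Mathlib
import Groth.Agent.Lib.QFinED2_helper3

/-!
# Products of algebraically closed fields (helper3)

`P = ∏ K i` with all `K i` algebraically closed fields: `Spec P` is Hausdorff, `P` is reduced and
all residue fields are algebraically closed.
-/

set_option autoImplicit false
set_option linter.all false
set_option maxHeartbeats 1600000

universe u

open Topology TensorProduct Polynomial

namespace Groth.Agent.Lib.QFinEDH3

section prod

variable {I : Type u} (K : I → Type u) [∀ i, Field (K i)]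

theorem exists_vnr (f : ∀ i, K i) : ∃ g : ∀ i, K i, f * (1 - f * g) = 0 := by
  refine ⟨fun i => (f i)⁻¹, ?_⟩
  funext i
  show f i * (1 - f i * (f i)⁻¹) = 0
  by_cases h : f i = 0
  · rw [h, zero_mul]
  · rw [mul_inv_cancel₀ h, sub_self, mul_zero]

theorem isMaximal_of_isPrime_pi (𝔭 : Ideal (∀ i, K i)) [h𝔭 : 𝔭.IsPrime] : 𝔭.IsMaximal := by
  rw [Ideal.isMaximal_iff]
  refine ⟨fun h1 => h𝔭.ne_top ((Ideal.eq_top_iff_one _).2 h1), ?_⟩
  intro J f hle hf hfJ
  obtain ⟨g, hg⟩ := exists_vnr K f
  have h1 : 1 - f * g ∈ 𝔭 := by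
    have hz : f * (1 - f * g) ∈ 𝔭 := by rw [hg]; exact 𝔭.zero_mem
    exact (h𝔭.mem_or_mem hz).resolve_left hf
  have h2 : (1 : ∀ i, K i) = (1 - f * g) + f * g := by ring
  rw [h2]
  exact J.add_mem (hle h1) (J.mul_mem_right _ hfJ)

instance t2Space_pi : T2Space (PrimeSpectrum (∀ i, K i)) :=
  Groth.Agent.Lib.SpectralT1H8.t2Space_of_closed_points (fun y =>
    (PrimeSpectrum.isClosed_singleton_iff_isMaximal y).2
      (haveI := y.2; isMaximal_of_isPrime_pi K y.asIdeal))

theorem exists_root_pi [∀ i, IsAlgClosed (K i)] (p : (∀ i, K i)[X]) (hp : p.Monic)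
    (hdeg : p.natDegree ≠ 0) : ∃ r : ∀ i, K i, p.eval r = 0 := by
  have h1 : ∀ i, ∃ x : K i, (p.map (Pi.evalRingHom K i)).IsRoot x := by
    intro i
    apply IsAlgClosed.exists_root
    have hm : (p.map (Pi.evalRingHom K i)).Monic := hp.map _
    rw [Polynomial.degree_eq_natDegree hm.ne_zero, hp.natDegree_map]
    exact_mod_cast hdeg
  choose r hr using h1
  refine ⟨r, ?_⟩
  funext i
  have := hr i
  rw [Polynomial.IsRoot.def, Polynomial.eval_map] at this
  have h2 : Pi.evalRingHom K i (p.eval r) = p.eval₂ (Pi.evalRingHom K i) (Pi.evalRingHom K i r) :=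
    (Polynomial.eval₂_at_apply (Pi.evalRingHom K i) r).symm
  exact h2.trans this

theorem algClosedResidue_pi [∀ i, IsAlgClosed (K i)] : AlgClosedResidue (∀ i, K i) := by
  intro 𝔭 h𝔭
  letI : Field ((∀ i, K i) ⧸ 𝔭) := Ideal.Quotient.field 𝔭
  apply IsAlgClosed.of_exists_root
  intro p hp hirr
  have hlifts : p ∈ Polynomial.lifts (Ideal.Quotient.mk 𝔭) := by
    rw [Polynomial.lifts_iff_coeff_lifts]
    intro n
    exact Ideal.Quotient.mk_surjective _
  obtain ⟨q, hq, hqdeg, hqm⟩ := Polynomial.lifts_and_natDegree_eq_and_monic hlifts hp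
  have hdeg : q.natDegree ≠ 0 := by
    rw [hqdeg]
    exact (Polynomial.natDegree_pos_iff_degree_pos.2
      (Polynomial.degree_pos_of_irreducible hirr)).ne'
  obtain ⟨r, hr⟩ := exists_root_pi K q hqm hdeg
  refine ⟨Ideal.Quotient.mk 𝔭 r, ?_⟩
  rw [← hq, Polynomial.eval_map, Polynomial.eval₂_at_apply, hr, map_zero]

end prod

section cover

variable (A : Type u) [CommRing A]

/-- algebraic closure of the residue field at `x` -/
abbrev KK (x : PrimeSpectrum A) : Type u := AlgebraicClosure x.asIdeal.ResidueField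

/-- the product of the algebraic closures of all residue fields -/
abbrev PP : Type u := ∀ x : PrimeSpectrum A, KK A x

noncomputable def toPP : A →+* PP A :=
  Pi.ringHom (fun x => (algebraMap x.asIdeal.ResidueField (KK A x)).comp
    (algebraMap A x.asIdeal.ResidueField))

instance : IsReduced (PP A) := inferInstance

theorem comap_toPP_surjective : Function.Surjective (PrimeSpectrum.comap (toPP A)) := by
  intro x
  haveI : (RingHom.ker (Pi.evalRingHom (KK A) x)).IsPrime := RingHom.ker_isPrime _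
  refine ⟨⟨RingHom.ker (Pi.evalRingHom (KK A) x), inferInstance⟩, ?_⟩
  apply PrimeSpectrum.ext
  ext a
  show toPP A a ∈ RingHom.ker (Pi.evalRingHom (KK A) x) ↔ a ∈ x.asIdeal
  rw [RingHom.mem_ker]
  show algebraMap x.asIdeal.ResidueField (KK A x) (algebraMap A x.asIdeal.ResidueField a) = 0 ↔ _
  rw [map_eq_zero_iff _ (algebraMap x.asIdeal.ResidueField (KK A x)).injective,
    Ideal.algebraMap_residueField_eq_zero]

end cover

end Groth.Agent.Lib.QFinEDH3
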