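import Mathlib
import Groth.Agent.Lib.QFinED3_helper3

/-!
# S0170 (helper3)

A quasi-finite finitely presented morphism of affine schemes becomes, after a surjective affine base
change, a thickening of a finite étale morphism.
-/

set_option autoImplicit false
set_option linter.all false
set_option maxHeartbeats 1600000

universe u

open AlgebraicGeometry CategoryTheory Limits

namespace Groth.Agent.Lib.QFinEDH3

theorem surjective_SpecMap_of_comap {R S : CommRingCat.{u}} (φ : R ⟶ S)
    (h : Function.Surjective (PrimeSpectrum.comap φ.hom)) : Surjective (Spec.map φ) :=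
  ⟨h⟩

theorem exists_cover (X : Scheme.{u}) [IsAffine X] :
    ∃ (P : CommRingCat.{u}) (a : Spec P ⟶ X), Surjective a ∧ T2Space (PrimeSpectrum P) ∧
      IsReduced P ∧ AlgClosedResidue P := by
  haveI hφs : Surjective (Spec.map (CommRingCat.ofHom (toPP Γ(X, ⊤)))) :=
    surjective_SpecMap_of_comap _ (comap_toPP_surjective Γ(X, ⊤))
  refine ⟨CommRingCat.of (PP Γ(X, ⊤)), Spec.map (CommRingCat.ofHom (toPP Γ(X, ⊤))) ≫ X.isoSpec.inv,
    inferInstance, ?_, ?_, ?_⟩
  · exact t2Space_pi _
  · show IsReduced (PP Γ(X, ⊤))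
    infer_instance
  · exact algClosedResidue_pi _

theorem exists_affine_presentation {W : Scheme.{u}} [IsAffine W] (P : CommRingCat.{u})
    (g : W ⟶ Spec P) [LocallyQuasiFinite g] [LocallyOfFinitePresentation g] :
    ∃ (R : CommRingCat.{u}) (ι : Spec R ≅ W) (ψ : P ⟶ R), ψ.hom.QuasiFinite ∧
      ψ.hom.FinitePresentation ∧ ι.hom ≫ g = Spec.map ψ := by
  have hρqf : (g.appTop).hom.QuasiFinite :=
    (HasRingHomProperty.iff_of_isAffine (P := @LocallyQuasiFinite)).1 inferInstance
  have hρfp : (g.appTop).hom.FinitePresentation :=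
    (HasRingHomProperty.iff_of_isAffine (P := @LocallyOfFinitePresentation)).1 inferInstance
  refine ⟨Γ(W, ⊤), W.isoSpec.symm, (Scheme.ΓSpecIso P).inv ≫ g.appTop, ?_, ?_, ?_⟩
  · exact (RingHom.QuasiFinite.respectsIso.cancel_left_isIso (Scheme.ΓSpecIso P).inv g.appTop).2
      hρqf
  · exact (RingHom.finitePresentation_respectsIso.cancel_left_isIso (Scheme.ΓSpecIso P).inv
      g.appTop).2 hρfp
  · show W.isoSpec.inv ≫ g = _
    rw [← Scheme.isoSpec_inv_naturality, Scheme.isoSpec_Spec_inv, Spec.map_comp]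

theorem main0170 {Y X : Scheme.{u}} [IsAffine X] [IsAffine Y] (f : Y ⟶ X)
    [LocallyQuasiFinite f] [LocallyOfFinitePresentation f] :
    ∃ (X' : Scheme.{u}) (_ : IsAffine X') (a : X' ⟶ X) (_ : Surjective a) (Z' : Scheme.{u})
      (c : Z' ⟶ pullback a f) (_ : IsClosedImmersion c) (_ : Surjective c),
      IsFinite (c ≫ pullback.fst a f) ∧ Etale (c ≫ pullback.fst a f) := by
  obtain ⟨P, a, ha, hT2, hred, hac⟩ := exists_cover X
  haveI := ha
  haveI := hT2
  haveI := hred
  haveI : IsAffine (pullback a f) := inferInstance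
  haveI hgqf : LocallyQuasiFinite (pullback.fst a f) := inferInstance
  haveI hgfp : LocallyOfFinitePresentation (pullback.fst a f) := inferInstance
  obtain ⟨R, ι, ψ, hψqf, hψfp, hι⟩ := exists_affine_presentation P (pullback.fst a f)
  letI algPR : Algebra P R := ψ.hom.toAlgebra
  haveI : Algebra.QuasiFinite P R := hψqf
  haveI : Algebra.FinitePresentation P R := hψfp
  obtain ⟨hfin, het⟩ := finite_etale_quotient_nilradical P R hac
  obtain ⟨π, hπ⟩ : ∃ π : R ⟶ CommRingCat.of (R ⧸ nilradical R),
      π = CommRingCat.ofHom (Ideal.Quotient.mk (nilradical R)) := ⟨_, rfl⟩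
  haveI hπci : IsClosedImmersion (Spec.map π) := by
    rw [hπ]
    exact IsClosedImmersion.spec_of_surjective _ Ideal.Quotient.mk_surjective
  haveI hπs : Surjective (Spec.map π) := by
    rw [hπ]
    apply surjective_SpecMap_of_comap
    intro q
    have hle : RingHom.ker (Ideal.Quotient.mk (nilradical R)) ≤ q.asIdeal := by
      rw [Ideal.mk_ker, nilradical_eq_sInf]
      exact sInf_le q.2
    have : q ∈ Set.range (PrimeSpectrum.comap (Ideal.Quotient.mk (nilradical R))) := by
      rw [range_comap_of_surjective _ _ Ideal.Quotient.mk_surjective]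
      exact hle
    exact this
  have hcg : (Spec.map π ≫ ι.hom) ≫ pullback.fst a f = Spec.map (ψ ≫ π) := by
    rw [Category.assoc, hι, Spec.map_comp]
  have hhom : (ψ ≫ π).hom = algebraMap P (R ⧸ nilradical R) := by
    rw [hπ]
    rfl
  refine ⟨Spec P, inferInstance, a, inferInstance, _, Spec.map π ≫ ι.hom,
    inferInstance, inferInstance, ?_, ?_⟩
  · rw [hcg, IsFinite.SpecMap_iff, hhom, RingHom.finite_algebraMap]
    exact hfin
  · rw [hcg, HasRingHomProperty.Spec_iff (P := @Etale), hhom, RingHom.etale_algebraMap]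
    exact het

end Groth.Agent.Lib.QFinEDH3
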