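import Mathlib
import Groth.Prelude.Def_RegImm
import Groth.Prelude.Def_LCI2
import Groth.Agent.Lib.RelGCI7_helper2

/-!
# Flat quasi-finite lci algebras are locally square global complete intersections (helper2): S2237.
APPEND-ONLY once landed.
-/

set_option autoImplicit false
universe u

namespace Groth.Agent.Lib.RelGCI

open TensorProduct
open Groth.Agent.Lib.SyntTA

lemma ringKrullDim_le_zero_of_isArtinianRing (T : Type*) [CommRing T] [IsArtinianRing T] :
    ringKrullDim T ≤ 0 := by
  have h : Ring.KrullDimLE 0 T := inferInstance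
  have h2 := Ring.krullDimLE_iff.mp h
  exact_mod_cast h2

lemma nat_eq_zero_of_cast_le_zero (m : ℕ) (h : ((m : ℕ) : WithBot ℕ∞) ≤ 0) : m = 0 := by
  have : ((m : ℕ) : WithBot ℕ∞) ≤ ((0 : ℕ) : WithBot ℕ∞) := by exact_mod_cast h
  exact Nat.le_zero.mp (by exact_mod_cast this)

theorem main2237 {A B : Type u} [CommRing A] [CommRing B] [Algebra A B] [Module.Flat A B]
    [Algebra.QuasiFinite A B] (hlci : LCI.IsLCI A B) (q : Ideal B) [q.IsPrime] :
    ∃ g : B, g ∉ q ∧ ∃ (n : ℕ) (f : Fin n → MvPolynomial (Fin n) A),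
      Nonempty (Localization.Away g ≃ₐ[A]
        (MvPolynomial (Fin n) A ⧸ Ideal.span (Set.range f))) := by
  have hs : Synt.IsSyntomic A B := isSyntomic_of_flat_of_isLCI A B inferInstance hlci
  obtain ⟨g, hg, n, c, F, hRel, ⟨e⟩⟩ := exists_relGCI_away A B hs q
  refine ⟨g, hg, ?_⟩
  -- the prime of `B_g` above `q`
  have hdisj : Disjoint (Submonoid.powers g : Set B) (q : Set B) := by
    rw [Set.disjoint_left]
    rintro x ⟨m, rfl⟩ hx
    exact hg (Ideal.IsPrime.mem_of_pow_mem inferInstance m hx)
  haveI hQ : (q.map (algebraMap B (Localization.Away g))).IsPrime :=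
    IsLocalization.isPrime_of_isPrime_disjoint (Submonoid.powers g) _ q inferInstance hdisj
  have hQc : (q.map (algebraMap B (Localization.Away g))).comap
      (algebraMap B (Localization.Away g)) = q :=
    IsLocalization.under_map_of_isPrime_disjoint (Submonoid.powers g) _ inferInstance hdisj
  -- a point of the fibre
  have hmem : (⟨q.map (algebraMap B (Localization.Away g)), hQ⟩ :
      PrimeSpectrum (Localization.Away g)) ∈
      PrimeSpectrum.comap (algebraMap A (Localization.Away g)) ⁻¹'
        {(⟨q.under A, inferInstance⟩ : PrimeSpectrum A)} := by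
    show PrimeSpectrum.comap (algebraMap A (Localization.Away g)) _ = _
    apply PrimeSpectrum.ext
    show (q.map (algebraMap B (Localization.Away g))).comap
      (algebraMap A (Localization.Away g)) = q.under A
    rw [IsScalarTower.algebraMap_eq A B (Localization.Away g), ← Ideal.comap_comap, hQc]
  haveI hnt1 : Nontrivial ((q.under A).Fiber (Localization.Away g)) :=
    (PrimeSpectrum.nonempty_iff_nontrivial).mp
      ⟨PrimeSpectrum.preimageHomeomorphFiber A (Localization.Away g)
        (⟨q.under A, inferInstance⟩ : PrimeSpectrum A) ⟨_, hmem⟩⟩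
  let eF : (q.under A).Fiber (Localization.Away g) ≃ₐ[(q.under A).ResidueField]
      (q.under A).Fiber (Synt.RelGCIRing A n c F) :=
    Algebra.TensorProduct.congr AlgEquiv.refl e
  haveI hnt2 : Nontrivial ((q.under A).Fiber (Synt.RelGCIRing A n c F)) :=
    eF.injective.nontrivial
  obtain ⟨hcn, hdim⟩ := hRel ⟨q.under A, inferInstance⟩ hnt2
  have h0 : ringKrullDim ((q.under A).Fiber (Localization.Away g)) ≤ 0 :=
    ringKrullDim_le_zero_of_isArtinianRing _
  have h0' : ringKrullDim ((q.under A).Fiber (Synt.RelGCIRing A n c F)) ≤ 0 :=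
    (ringKrullDim_eq_of_ringEquiv eF.toRingEquiv).symm.le.trans h0
  have hdim' : ringKrullDim ((q.under A).Fiber (Synt.RelGCIRing A n c F)) =
      ((n - c : ℕ) : WithBot ℕ∞) := hdim
  have h1 : n - c = 0 := nat_eq_zero_of_cast_le_zero _ (hdim'.symm.le.trans h0')
  have hcn' : c = n := by omega
  subst hcn'
  exact ⟨c, F, ⟨e⟩⟩

end Groth.Agent.Lib.RelGCI
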