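import Mathlib
import Groth.Prelude
import Groth.Agent.Lib.AssTens4_helper8
import Groth.Agent.Lib.ProConsChev_helper8
import Groth.Agent.Lib.ProConsGen_helper8

/-!
# Quasi-flat morphisms are generizing; descent of locally closed pro-constructible sets (helper8)
APPEND-ONLY once landed.
-/

set_option autoImplicit false
set_option linter.all false
set_option maxHeartbeats 1600000
set_option backward.isDefEq.respectTransparency false
set_option backward.isDefEq.respectTransparency.types false
set_option backward.defeqAttrib.useBackward true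

universe u

open CategoryTheory AlgebraicGeometry TopologicalSpace Opposite TensorProduct IsLocalRing
open CategoryTheory.Limits

namespace Groth.Agent.Lib.QFlatGenH8

open Groth.Agent.Lib.AssTensH8 Groth.Agent.StalkGen

section ring

variable {A B : Type u} [CommRing A] [CommRing B] [Algebra A B] [IsLocalRing A] [IsLocalRing B]
  [IsLocalHom (algebraMap A B)]
  (N : Type u) [AddCommGroup N] [Module B N] [Module A N] [IsScalarTower A B N]
  [Module.Finite B N] [Nontrivial N] [Module.Flat A N]

theorem smul_tmul_eq_zero (q : Ideal A) (b : B) (hb : b ∈ q.map (algebraMap A B)) :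
    ∀ (n : N) (x : A ⧸ q), (b • n) ⊗ₜ[A] x = 0 := by
  refine Submodule.span_induction (p := fun b _ => ∀ (n : N) (x : A ⧸ q), (b • n) ⊗ₜ[A] x = 0)
    ?_ ?_ ?_ ?_ hb
  · rintro _ ⟨r, hr, rfl⟩ n x
    rw [algebraMap_smul, TensorProduct.smul_tmul]
    obtain ⟨x, rfl⟩ := Ideal.Quotient.mk_surjective x
    have : r • (Ideal.Quotient.mk q x) = 0 := by
      rw [← Ideal.Quotient.mk_eq_mk, ← Submodule.Quotient.mk_smul, Submodule.Quotient.mk_eq_zero]
      exact q.mul_mem_right _ hr
    rw [this, TensorProduct.tmul_zero]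
  · intro n x
    rw [zero_smul, TensorProduct.zero_tmul]
  · intro b₁ b₂ _ _ h₁ h₂ n x
    rw [add_smul, TensorProduct.add_tmul, h₁, h₂, add_zero]
  · intro c b _ h n x
    rw [smul_eq_mul, mul_comm, mul_smul]
    exact h _ _

include N in
theorem nontrivial_quot' :
    Nontrivial (N ⧸ (maximalIdeal A).map (algebraMap A B) • (⊤ : Submodule B N)) := by
  rw [Submodule.Quotient.nontrivial_iff]
  intro h
  have h1 : (⊤ : Submodule B N) = ⊥ := by
    apply Submodule.eq_bot_of_le_smul_of_le_jacobson_bot
      ((maximalIdeal A).map (algebraMap A B)) ⊤ Module.Finite.fg_top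
    · rw [h]
    · rw [IsLocalRing.jacobson_eq_maximalIdeal ⊥ bot_ne_top]
      exact map_maximalIdeal_le (algebraMap A B)
  exact top_ne_bot h1

include N in
theorem comap_map_eq (q : Ideal A) [q.IsPrime] :
    (q.map (algebraMap A B)).comap (algebraMap A B) = q := by
  haveI : Module.FaithfullyFlat A N :=
    faithfullyFlat_of_nontrivial_quot (S := B) (nontrivial_quot' (A := A) (B := B) N)
  apply le_antisymm _ Ideal.le_comap_map
  intro a ha
  have ha' : algebraMap A B a ∈ q.map (algebraMap A B) := ha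
  let μ : A ⧸ q →ₗ[A] A ⧸ q := LinearMap.lsmul A (A ⧸ q) a
  have h0 : LinearMap.lTensor N μ = 0 := by
    apply TensorProduct.ext'
    intro n x
    rw [LinearMap.lTensor_tmul, LinearMap.zero_apply]
    show n ⊗ₜ[A] (a • x) = 0
    rw [← TensorProduct.smul_tmul, ← algebraMap_smul B a n]
    exact smul_tmul_eq_zero N q _ ha' n x
  have hμ : μ = 0 := (Module.FaithfullyFlat.zero_iff_lTensor_zero A N μ).2 h0
  have h1 : μ 1 = 0 := by rw [hμ]; rfl
  have h2 : (Ideal.Quotient.mk q) a = 0 := by
    have : μ 1 = a • (1 : A ⧸ q) := rfl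
    rw [this] at h1
    rw [← h1, Algebra.smul_def, mul_one]
    rfl
  exact Ideal.Quotient.eq_zero_iff_mem.1 h2

end ring

section sch

variable {X Y : Scheme.{u}} (f : X ⟶ Y)

theorem generalizingMap_of_isQuasiFlat (hf : FDesc.IsQuasiFlat f) : GeneralizingMap f := by
  obtain ⟨M, hM, hfl, hnt⟩ := hf
  intro x y' hy'
  letI := (f.stalkMap x).hom.toAlgebra
  letI := FlatMod.moduleStalkOver f M x
  haveI : IsScalarTower (Y.presheaf.stalk (f x)) (X.presheaf.stalk x) (M.presheaf.stalk x) :=
    IsScalarTower.of_algebraMap_smul fun _ _ => rfl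
  haveI : Module.Flat (Y.presheaf.stalk (f x)) (M.presheaf.stalk x) := hfl x
  haveI : IsLocalHom (algebraMap (Y.presheaf.stalk (f x)) (X.presheaf.stalk x)) :=
    (inferInstance : IsLocalHom (f.stalkMap x).hom)
  haveI : Module.Finite (X.presheaf.stalk x) (M.presheaf.stalk x) :=
    Groth.Agent.Lib.FibMonoH8.finite_stalk_of_isFT M hM.2 x
  haveI : Nontrivial (M.presheaf.stalk x) := hnt x
  have h := comap_map_eq (A := Y.presheaf.stalk (f x)) (B := X.presheaf.stalk x)
    (M.presheaf.stalk x) (genPrime hy')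
  obtain ⟨Q, hQ⟩ := (PrimeSpectrum.mem_range_comap_iff
    (f := algebraMap (Y.presheaf.stalk (f x)) (X.presheaf.stalk x))
    (p := ⟨genPrime hy', inferInstance⟩)).2 h
  obtain ⟨x', hx', hgen⟩ := exists_genPrime_eq x Q.asIdeal
  refine ⟨x', hx', ?_⟩
  have h1 := Groth.Agent.RegCodim.comap_stalkMap_genPrime f hx' (hx'.map f.continuous)
  have h2 : genPrime (hx'.map f.continuous) = genPrime hy' := by
    rw [← h1, ← hgen]
    exact congrArg PrimeSpectrum.asIdeal hQ
  have s1 := Groth.Agent.RegCodim.specializes_of_genPrime_le (hx'.map f.continuous) hy' h2.le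
  have s2 := Groth.Agent.RegCodim.specializes_of_genPrime_le hy' (hx'.map f.continuous) h2.ge
  exact (s1.antisymm s2).eq

open Set Set.Notation Topology Groth.Agent.Lib.ProConsImgH8

/-- closed subsets of schemes are pro-constructible. -/
theorem isProConstructible_of_isClosed (X : Scheme.{u}) {C : Set X} (hC : IsClosed C) :
    ProCons.IsProConstructible C := by
  intro x
  obtain ⟨_, ⟨W, hW, rfl⟩, hxW, -⟩ :=
    X.isBasis_affineOpens.exists_subset_of_mem_open (mem_univ x) isOpen_univ
  haveI : IsAffine (W : Scheme.{u}) := hW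
  have k1 : CompactSpace ↥(W : Set X) := inferInstanceAs (CompactSpace (W : Scheme.{u}))
  have k3 : PrespectralSpace ↥(W : Set X) := inferInstanceAs (PrespectralSpace (W : Scheme.{u}))
  have k4 : QuasiSeparatedSpace ↥(W : Set X) :=
    inferInstanceAs (QuasiSeparatedSpace (W : Scheme.{u}))
  have hcl : IsClosed[constructibleTopology ↥(W : Set X)] ((W : Set X) ↓∩ C) := by
    rw [← @isOpen_compl_iff _ _ (constructibleTopology ↥(W : Set X))]
    have ho : IsOpen ((W : Set X) ↓∩ C)ᶜ := (hC.preimage continuous_subtype_val).isOpen_compl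
    obtain ⟨S, hS, hSU⟩ := (PrespectralSpace.isTopologicalBasis (X := ↥(W : Set X))).open_eq_sUnion ho
    rw [hSU]
    apply @isOpen_sUnion _ (constructibleTopology ↥(W : Set X))
    intro T hT
    exact (hS hT).2.isOpen_constructibleTopology_of_isOpen (hS hT).1
  obtain ⟨S, hS, hES⟩ := @exists_sInter_of_isClosed _ _ k4 _ hcl
  exact ⟨W, W.2, hxW, S, fun T hT => (hS T hT).isLocallyConstructible, hES⟩

theorem isClosed_of_preimage {C : Set Y} (hg : GeneralizingMap f) [Surjective f] [QuasiCompact f]
    (hC : IsClosed (f.base ⁻¹' C)) : IsClosed C := by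
  have hpro' : ProCons.IsProConstructible (f.base ⁻¹' C) := isProConstructible_of_isClosed X hC
  have hpro : ProCons.IsProConstructible C :=
    ((Groth.Agent.Lib.ProConsChevH8.preimage_iff f (Or.inl inferInstance) C).2.1).2 hpro'
  rw [← closure_subset_iff_isClosed]
  intro y hy
  obtain ⟨c, hc, hcy⟩ := Groth.Agent.Lib.ProConsGenH8.exists_specializes_of_mem_closure Y hpro hy
  obtain ⟨x, rfl⟩ := f.surjective y
  obtain ⟨x', hx', rfl⟩ := hg hcy
  have : x' ∈ f.base ⁻¹' C := hc
  exact hx'.mem_closed hC this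

theorem preimage_closure_eq {Z : Set Y} (hg : GeneralizingMap f)
    (hZ : ProCons.IsProConstructible Z) :
    f.base ⁻¹' (closure Z) = closure (f.base ⁻¹' Z) := by
  apply subset_antisymm
  · intro x hx
    obtain ⟨z, hzZ, hz⟩ := Groth.Agent.Lib.ProConsGenH8.exists_specializes_of_mem_closure Y hZ hx
    obtain ⟨x', hx', rfl⟩ := hg hz
    exact closure_mono (singleton_subset_iff.2 (show x' ∈ f.base ⁻¹' Z from hzZ))
      (specializes_iff_mem_closure.1 hx')
  · exact f.continuous.closure_preimage_subset Z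

theorem main4648 (hf : FDesc.IsQuasiFlat f) [Surjective f] [QuasiCompact f] (Z : Set ↥Y) :
    (IsLocallyClosed Z ∧ ProCons.IsProConstructible Z) ↔
      (IsLocallyClosed (⇑f ⁻¹' Z) ∧ ProCons.IsProConstructible (⇑f ⁻¹' Z)) := by
  have hg := generalizingMap_of_isQuasiFlat f hf
  have hpc := (Groth.Agent.Lib.ProConsChevH8.preimage_iff f (Or.inl inferInstance) Z).2.1
  constructor
  · rintro ⟨h1, h2⟩
    exact ⟨h1.preimage f.continuous, hpc.1 h2⟩
  · rintro ⟨h1, h2⟩
    have hZ := hpc.2 h2
    refine ⟨?_, hZ⟩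
    have hcl : IsClosed (closure (f.base ⁻¹' Z) \ (f.base ⁻¹' Z)) := by
      have := h1.isOpen_coborder
      rw [coborder, isOpen_compl_iff] at this
      exact this
    have heq : f.base ⁻¹' (closure Z \ Z) = closure (f.base ⁻¹' Z) \ (f.base ⁻¹' Z) := by
      rw [preimage_diff, preimage_closure_eq f hg hZ]
    rw [← heq] at hcl
    have := isClosed_of_preimage f hg hcl
    rw [isLocallyClosed_iff_isOpen_coborder, coborder, isOpen_compl_iff]
    exact this

end sch

end Groth.Agent.Lib.QFlatGenH8
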