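import Mathlib
import Groth.Prelude.Def_Wider
import Groth.Prelude.Def_EGA4b
import Groth.Prelude.Def_CAlg
import Groth.Agent.Lib.DMod101_helper6
import Groth.Agent.Lib.Hartshorne_helper5

/-!
# `(S_2)` local rings with a dualizing complex are equidimensional (helper1, for S18719)
-/

set_option autoImplicit false
universe u
open CategoryTheory CategoryTheory.Limits DerivedCategory
attribute [local instance] HasDerivedCategory.standard

namespace Groth.Agent.Lib.QGorEnd_helper1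

open Groth.Agent.Lib.DMod_helper6 Groth.Agent.DepthLib Groth.Agent.Hartshorne
open DRing Groth.Agent.ExtendScalarsLib

section Ideals

variable {R : Type u} [CommRing R]

/-- the intersection of the kernels of `R → R_p`, `p ∈ P`. -/
def locKer (P : Set (Ideal R)) (hP : P ⊆ minimalPrimes R) : Ideal R where
  carrier := {r | ∀ p ∈ P, ∃ s : R, s ∉ p ∧ s * r = 0}
  add_mem' := by
    intro x y hx hy p hp
    obtain ⟨s, hs, hsx⟩ := hx p hp
    obtain ⟨t, ht, hty⟩ := hy p hp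
    haveI : p.IsPrime := (hP hp).1.1
    refine ⟨s * t, fun h => (Ideal.IsPrime.mem_or_mem ‹_› h).elim hs ht, ?_⟩
    rw [mul_add, mul_right_comm s t x, hsx, zero_mul, mul_assoc s t y, hty, mul_zero, add_zero]
  zero_mem' := fun p hp => ⟨1, (Ideal.ne_top_iff_one p).1 (hP hp).1.1.ne_top, mul_zero 1⟩
  smul_mem' := by
    intro c x hx p hp
    obtain ⟨s, hs, hsx⟩ := hx p hp
    exact ⟨s, hs, by rw [smul_eq_mul, mul_left_comm, hsx, mul_zero]⟩

lemma mem_locKer (P : Set (Ideal R)) (hP : P ⊆ minimalPrimes R) (r : R) :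
    r ∈ locKer P hP ↔ ∀ p ∈ P, ∃ s : R, s ∉ p ∧ s * r = 0 := Iff.rfl

lemma locKer_le (P : Set (Ideal R)) (hP : P ⊆ minimalPrimes R) (p : Ideal R) (hp : p ∈ P) :
    locKer P hP ≤ p := by
  intro r hr
  obtain ⟨s, hs, hsr⟩ := hr p hp
  haveI : p.IsPrime := (hP hp).1.1
  have : s * r ∈ p := by rw [hsr]; exact p.zero_mem
  exact (Ideal.IsPrime.mem_or_mem ‹_› this).resolve_left hs

/-- a prime containing `locKer P` contains a member of `P`. -/
lemma exists_le_of_locKer_le [IsNoetherianRing R] (P : Set (Ideal R))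
    (hP : P ⊆ minimalPrimes R) (Q : Ideal R) [Q.IsPrime] (hQ : locKer P hP ≤ Q) :
    ∃ p ∈ P, p ≤ Q := by
  obtain ⟨q, hq, hqQ⟩ := Ideal.exists_minimalPrimes_le hQ
  have hass : q ∈ associatedPrimes R (R ⧸ locKer P hP) := by
    apply Module.associatedPrimes.minimalPrimes_annihilator_subset_associatedPrimes R
      (R ⧸ locKer P hP)
    rw [Ideal.annihilator_quotient]
    exact hq
  exact ⟨q, mem_of_mem_associatedPrimes_quotient P hP (locKer P hP) (mem_locKer P hP) q hass,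
    hqQ⟩

lemma covBy_of_height_eq_one [IsNoetherianRing R] {q P : PrimeSpectrum R}
    (hq : q.asIdeal ∈ minimalPrimes R) (hle : q ≤ P) (h1 : P.asIdeal.height = 1) : q ⋖ P := by
  have hq0 : q.asIdeal.height = 0 := Ideal.height_eq_zero_iff.2 hq
  have hne : q ≠ P := by
    rintro rfl
    rw [hq0] at h1
    exact zero_ne_one h1
  refine ⟨lt_of_le_of_ne hle hne, fun c hqc hcP => ?_⟩
  have hlt : c.asIdeal.height < P.asIdeal.height :=
    Ideal.height_strict_mono_of_isPrime_of_isPrime ((PrimeSpectrum.asIdeal_lt_asIdeal c P).2 hcP)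
  rw [h1] at hlt
  have hc0 : c.asIdeal.height = 0 := ENat.lt_one_iff_eq_zero.1 hlt
  have hcmin : c.asIdeal ∈ minimalPrimes R := Ideal.height_eq_zero_iff.1 hc0
  have hcq : c.asIdeal ≤ q.asIdeal :=
    hcmin.2 ⟨q.isPrime, bot_le⟩ ((PrimeSpectrum.asIdeal_le_asIdeal q c).2 hqc.le)
  exact absurd ((PrimeSpectrum.asIdeal_le_asIdeal c q).1 hcq) (not_le_of_gt hqc)

/-- the minimal primes whose quotient has dimension `n`. -/
def bigComps (R : Type u) [CommRing R] (n : ℕ) : Set (Ideal R) :=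
  {Q | Q ∈ minimalPrimes R ∧ ringKrullDim (R ⧸ Q) = (n : WithBot ℕ∞)}

/-- the minimal primes whose quotient does not have dimension `n`. -/
def smallComps (R : Type u) [CommRing R] (n : ℕ) : Set (Ideal R) :=
  {Q | Q ∈ minimalPrimes R ∧ ringKrullDim (R ⧸ Q) ≠ (n : WithBot ℕ∞)}

lemma bigComps_sub (n : ℕ) : bigComps R n ⊆ minimalPrimes R := fun _ hQ => hQ.1

lemma smallComps_sub (n : ℕ) : smallComps R n ⊆ minimalPrimes R := fun _ hQ => hQ.1

lemma bigComps_union (n : ℕ) : bigComps R n ∪ smallComps R n = minimalPrimes R := by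
  ext Q
  constructor
  · rintro (h | h)
    · exact h.1
    · exact h.1
  · intro hQ
    by_cases h : ringKrullDim (R ⧸ Q) = (n : WithBot ℕ∞)
    · exact Or.inl ⟨hQ, h⟩
    · exact Or.inr ⟨hQ, h⟩

lemma bigComps_disjoint (n : ℕ) : Disjoint (bigComps R n) (smallComps R n) :=
  Set.disjoint_left.2 (fun _ h1 h2 => h2.2 h1.2)

end Ideals

variable {A : Type u} [CommRing A] [IsNoetherianRing A] [IsLocalRing A]

theorem isEquidim_of_hasSk_two (ω : Dual.D A) (hω : Dual.IsDualizing A ω)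
    (hn : Dual.IsNormalized A ω) (n : ℕ) (hd : ringKrullDim A = n)
    (hS : LocCoh.HasSk 2 A A) : EGA4.IsEquidim A := by
  choose e he hne using exists_dim_quot_isNormalized ω hω hn
  have F1 : ∀ p q : PrimeSpectrum A, p ⋖ q → e p = e q + 1 := by
    intro p q hpq
    haveI := isNoetherianRing_atPrime p.asIdeal
    have key := normalizing_shift_covBy ω hω p q hpq (-(e p : ℤ)) (-(e q : ℤ))
      ((mem_support_hom_quot_iff ω p.asIdeal hω _).2
        ((nontrivial_hom_residueField_iff _ (isDualizing_locD ω p.asIdeal hω) _ (hne p) _).2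
          rfl)) (hne q)
    omega
  by_contra hcon
  have hex : ∃ Q0 ∈ minimalPrimes A, ringKrullDim (A ⧸ Q0) ≠ (n : WithBot ℕ∞) := by
    by_contra h
    push_neg at h
    exact hcon (fun p hp => (h p hp).trans hd.symm)
  obtain ⟨Q0, hQ0, hQ0d⟩ := hex
  have hP1 := bigComps_sub (R := A) n
  have hP2 := smallComps_sub (R := A) n
  obtain ⟨Q1, hQ1⟩ : (bigComps A n).Nonempty := by
    obtain ⟨hsupp, -⟩ := dualizing_module_support_and_S2 ω hω hn n hd
    have hnt0 : Nontrivial (Dual.inD A A ⟶ ω⟦-(n : ℤ)⟧) :=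
      nontrivial_ext_neg_supportDim ω hω hn A n
        (by rw [Module.supportDim_self_eq_ringKrullDim, hd])
    haveI hnt : Nontrivial (Dual.HD A ω (-(n : ℤ))) := (nontrivial_hom_inD_self_iff ω _).1 hnt0
    obtain ⟨p, hp⟩ : (Module.support A (Dual.HD A ω (-(n : ℤ)))).Nonempty := by
      rw [Set.nonempty_iff_ne_empty, Ne, Module.support_eq_empty_iff]
      exact not_subsingleton _
    rw [hsupp] at hp
    obtain ⟨q, hq, -, hqd⟩ := hp
    exact ⟨q, hq, hqd⟩
  have hQ0' : Q0 ∈ smallComps A n := ⟨hQ0, hQ0d⟩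
  have hab : locKer (bigComps A n) hP1 ⊔ locKer (smallComps A n) hP2 ≤
      IsLocalRing.maximalIdeal A :=
    sup_le ((locKer_le _ hP1 Q1 hQ1).trans (IsLocalRing.le_maximalIdeal hQ1.1.1.1.ne_top))
      ((locKer_le _ hP2 Q0 hQ0').trans (IsLocalRing.le_maximalIdeal hQ0.1.1.ne_top))
  obtain ⟨P, hPmin, -⟩ := Ideal.exists_minimalPrimes_le hab
  haveI hPprime : P.IsPrime := hPmin.1.1
  have hht : P.height = 1 := height_eq_one hS (bigComps A n) (smallComps A n)
    (bigComps_union n) (bigComps_disjoint n) _ _ (mem_locKer _ hP1) (mem_locKer _ hP2) P hPmin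
  obtain ⟨q1, hq1, hq1P⟩ := exists_le_of_locKer_le _ hP1 P (le_sup_left.trans hPmin.1.2)
  obtain ⟨q2, hq2, hq2P⟩ := exists_le_of_locKer_le _ hP2 P (le_sup_right.trans hPmin.1.2)
  haveI : q1.IsPrime := hq1.1.1.1
  haveI : q2.IsPrime := hq2.1.1.1
  obtain ⟨P', hP'⟩ : ∃ P' : PrimeSpectrum A, P'.asIdeal = P := ⟨⟨P, hPprime⟩, rfl⟩
  obtain ⟨q1', hq1'⟩ : ∃ q' : PrimeSpectrum A, q'.asIdeal = q1 := ⟨⟨q1, inferInstance⟩, rfl⟩
  obtain ⟨q2', hq2'⟩ : ∃ q' : PrimeSpectrum A, q'.asIdeal = q2 := ⟨⟨q2, inferInstance⟩, rfl⟩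
  subst hP' hq1' hq2'
  have hc1 : q1' ⋖ P' :=
    covBy_of_height_eq_one hq1.1 ((PrimeSpectrum.asIdeal_le_asIdeal q1' P').1 hq1P) hht
  have hc2 : q2' ⋖ P' :=
    covBy_of_height_eq_one hq2.1 ((PrimeSpectrum.asIdeal_le_asIdeal q2' P').1 hq2P) hht
  have h1 := F1 q1' P' hc1
  have h2 := F1 q2' P' hc2
  apply hq2.2
  rw [he q2', ← hq1.2, he q1', h1, h2]

end Groth.Agent.Lib.QGorEnd_helper1
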