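import Mathlib
import Groth.Prelude.Def_Wider
import Groth.Prelude.Def_EGA4b
import Groth.Prelude.Def_CAlg
import Groth.Agent.Lib.DMod101_helper6
import Groth.Agent.Lib.DerivedTrunc_helper2
import Groth.Agent.Lib.DepthRefl_helper5
import Groth.Agent.Lib.QGorEnd1_helper1

/-!
# Vanishing of `Hom(τ_{>-n} ω, ω[i])`, `i < k`, under `(S_k)` (helper1, for S18719)
-/

set_option autoImplicit false
universe u
open CategoryTheory CategoryTheory.Limits DerivedCategory Pretriangulated
attribute [local instance] HasDerivedCategory.standard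

namespace Groth.Agent.Lib.QGorEnd_helper1

open Groth.Agent.Lib.DMod_helper6 Groth.Agent.DepthLib Groth.Agent.Lib.DerivedTrunc_helper2
open DRing Groth.Agent.ExtendScalarsLib

section Dev

variable {A : Type u} [CommRing A]

lemma subsingleton_shift_hom {X Y : Dual.D A} (n m k : ℤ) (h : k + n = m)
    (hs : Subsingleton (X ⟶ Y⟦k⟧)) : Subsingleton (X⟦n⟧ ⟶ Y⟦m⟧) := by
  refine ⟨fun φ ψ => ?_⟩
  rw [← cancel_mono (shiftShiftIso Y k n m h).inv]
  obtain ⟨φ', hφ'⟩ := (shiftFunctor (Dual.D A) n).map_surjective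
    (φ ≫ (shiftShiftIso Y k n m h).inv)
  obtain ⟨ψ', hψ'⟩ := (shiftFunctor (Dual.D A) n).map_surjective
    (ψ ≫ (shiftShiftIso Y k n m h).inv)
  rw [← hφ', ← hψ', Subsingleton.elim φ' ψ']

/-- maps out of an object concentrated in one degree. -/
lemma hom_eq_zero_of_single_degree (Y : Dual.D A) (a : ℤ) (X : Dual.D A)
    [DerivedCategory.IsGE X a] [DerivedCategory.IsLE X a] (i : ℤ)
    (h : ∀ φ : (DerivedCategory.singleFunctor (ModuleCat.{u} A) 0).obj
      ((homologyFunctor (ModuleCat.{u} A) a).obj X) ⟶ Y⟦i + a⟧, φ = 0)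
    (ψ : X ⟶ Y⟦i⟧) : ψ = 0 := by
  obtain ⟨M, ⟨e⟩⟩ := exists_iso_singleFunctor_obj_of_isGE_of_isLE X a
  let eM : M ≅ (homologyFunctor (ModuleCat.{u} A) a).obj X :=
    ((singleFunctorCompHomologyFunctorIso (ModuleCat.{u} A) a).app M).symm ≪≫
      (homologyFunctor (ModuleCat.{u} A) a).mapIso e.symm
  let eS : ((DerivedCategory.singleFunctor (ModuleCat.{u} A) 0).obj
      ((homologyFunctor (ModuleCat.{u} A) a).obj X))⟦-a⟧ ≅ X :=
    (shiftFunctor (Dual.D A) (-a)).mapIso
      ((DerivedCategory.singleFunctor (ModuleCat.{u} A) 0).mapIso eM.symm) ≪≫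
    ((DerivedCategory.singleFunctors (ModuleCat.{u} A)).shiftIso (-a) a 0 (by omega)).app M ≪≫
    e.symm
  have hsub : Subsingleton (((DerivedCategory.singleFunctor (ModuleCat.{u} A) 0).obj
      ((homologyFunctor (ModuleCat.{u} A) a).obj X))⟦-a⟧ ⟶ Y⟦i⟧) :=
    subsingleton_shift_hom (-a) i (i + a) (by omega) (subsingleton_of_forall_eq 0 h)
  rw [← cancel_epi eS.hom, comp_zero]
  exact Subsingleton.elim _ _

/-- dévissage for vanishing of maps into shifts of `Y`. -/
theorem hom_eq_zero_of_homology (Y : Dual.D A) (c : ℤ) (N : ℕ) :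
    ∀ (a : ℤ) (X : Dual.D A)
      (_ : ∀ i : ℤ, i < a ∨ a + N < i → IsZero ((homologyFunctor (ModuleCat.{u} A) i).obj X))
      (_ : ∀ j l : ℤ, l < j + c → ∀ φ : (DerivedCategory.singleFunctor (ModuleCat.{u} A) 0).obj
          ((homologyFunctor (ModuleCat.{u} A) j).obj X) ⟶ Y⟦l⟧, φ = 0)
      (i : ℤ) (_ : i < c) (φ : X ⟶ Y⟦i⟧), φ = 0 := by
  induction N with
  | zero =>
    intro a X hX hP i hi φ
    haveI : X.IsGE a := (isGE_iff X a).2 (fun i hi => hX i (Or.inl hi))
    haveI : X.IsLE a := (isLE_iff X a).2 (fun i hi => hX i (Or.inr (by simpa using hi)))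
    exact hom_eq_zero_of_single_degree Y a X i (hP a (i + a) (by omega)) φ
  | succ N ih =>
    intro a X hX hP i hi φ
    have h1 : ∀ ψ : ((tt (ModuleCat.{u} A)).truncLE a).obj X ⟶ Y⟦i⟧, ψ = 0 := by
      haveI : (((tt (ModuleCat.{u} A)).truncLE a).obj X).IsGE a :=
        (isGE_iff _ a).2 (fun i hi => by
          have := mono_homology_map_truncLEι X a i (by lia)
          exact IsZero.of_mono ((homologyFunctor (ModuleCat.{u} A) i).map
            (((tt (ModuleCat.{u} A)).truncLEι a).app X)) (hX i (Or.inl hi)))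
      haveI : (((tt (ModuleCat.{u} A)).truncLE a).obj X).IsLE a := by infer_instance
      intro ψ
      refine hom_eq_zero_of_single_degree Y a _ i (fun χ => ?_) ψ
      haveI := isIso_homology_map_truncLEι X a a le_rfl
      have h2 := hP a (i + a) (by omega)
        ((DerivedCategory.singleFunctor (ModuleCat.{u} A) 0).map
          (inv ((homologyFunctor (ModuleCat.{u} A) a).map
            (((tt (ModuleCat.{u} A)).truncLEι a).app X))) ≫ χ)
      rw [← cancel_epi ((DerivedCategory.singleFunctor (ModuleCat.{u} A) 0).map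
          (inv ((homologyFunctor (ModuleCat.{u} A) a).map
            (((tt (ModuleCat.{u} A)).truncLEι a).app X)))), h2, comp_zero]
    have h3 : ∀ ψ : ((tt (ModuleCat.{u} A)).truncGT a).obj X ⟶ Y⟦i⟧, ψ = 0 := by
      refine ih (a + 1) (((tt (ModuleCat.{u} A)).truncGT a).obj X) ?_ ?_ i hi
      · rintro i (hi | hi)
        · exact isZero_homology_truncGT X a i (by lia)
        · have := epi_homology_map_truncGTπ X a i (by lia)
          exact IsZero.of_epi ((homologyFunctor (ModuleCat.{u} A) i).map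
            (((tt (ModuleCat.{u} A)).truncGTπ a).app X)) (hX i (Or.inr (by push_cast; lia)))
      · intro j l hl χ
        by_cases hj : j ≤ a
        · exact ((DerivedCategory.singleFunctor (ModuleCat.{u} A) 0).map_isZero
            (isZero_homology_truncGT X a j hj)).eq_of_src _ _
        · haveI := isIso_homology_map_truncGTπ X a j (by lia)
          have h2 := hP j l hl
            ((DerivedCategory.singleFunctor (ModuleCat.{u} A) 0).map
              ((homologyFunctor (ModuleCat.{u} A) j).map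
                (((tt (ModuleCat.{u} A)).truncGTπ a).app X)) ≫ χ)
          rw [← cancel_epi ((DerivedCategory.singleFunctor (ModuleCat.{u} A) 0).map
              ((homologyFunctor (ModuleCat.{u} A) j).map
                (((tt (ModuleCat.{u} A)).truncGTπ a).app X))), h2, comp_zero]
    have hT := (tt (ModuleCat.{u} A)).triangleLEGT_distinguished a X
    obtain ⟨g, hg⟩ := Triangle.yoneda_exact₂ _ hT φ (h1 _)
    rw [hg, h3 g]
    exact comp_zero

end Dev

section Local

variable {A : Type u} [CommRing A] [IsNoetherianRing A] [IsLocalRing A]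
  (ω : Dual.D A) (hω : Dual.IsDualizing A ω) (hn : Dual.IsNormalized A ω)

omit [IsLocalRing A] in
include hω in
lemma mem_support_hom_self_iff (p : PrimeSpectrum A) (j : ℤ) :
    p ∈ Module.support A (Dual.inD A A ⟶ ω⟦j⟧) ↔ p ∈ Module.support A (Dual.HD A ω j) := by
  haveI := isNoetherianRing_atPrime p.asIdeal
  rw [mem_support_iff_nontrivial_localized ω A hω p j, mem_support_HD_iff ω p j]

omit [IsLocalRing A] in
include hω in
lemma supportDim_hom_self_eq (j : ℤ) :
    Module.supportDim A (Dual.inD A A ⟶ ω⟦j⟧) = Module.supportDim A (Dual.HD A ω j) := by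
  have hs : Module.support A (Dual.inD A A ⟶ ω⟦j⟧) = Module.support A (Dual.HD A ω j) :=
    Set.ext (fun p => mem_support_hom_self_iff ω hω p j)
  unfold Module.supportDim
  rw [hs]

include hω hn in
theorem subsingleton_ext_HD (n : ℕ) (hd : ringKrullDim A = n) (hequi : EGA4.IsEquidim A)
    (k : ℕ) (hk : 1 ≤ k) (hS : LocCoh.HasSk k A A) (j : ℤ) (hj : j ≠ -(n : ℤ)) (l : ℤ)
    (hl : l < j + k) : Subsingleton (Dual.inD A (Dual.HD A ω j) ⟶ ω⟦l⟧) := by
  haveI := hω.finite_cohomology j
  have hM : EGA4.IsEquidimModule A A := by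
    intro p hp
    have hann : Module.annihilator A A = ⊥ := by
      rw [eq_bot_iff]
      intro r hr
      have h1 := Module.mem_annihilator.1 hr (1 : A)
      rw [smul_eq_mul, mul_one] at h1
      exact (Submodule.mem_bot A).2 h1
    rw [hann] at hp
    rw [Module.supportDim_self_eq_ringKrullDim]
    exact hequi p hp
  have hF := (hasSk_iff_supportDim_ext ω A hω hn hM n
    (by rw [Module.supportDim_self_eq_ringKrullDim, hd]) k hk).1 hS j hj
  by_cases hc : -j - (k : ℤ) < 0
  · have h1 := hF.1 hc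
    haveI : Subsingleton (Dual.HD A ω j) := (subsingleton_hom_inD_self_iff ω j).1 h1
    have hz : IsZero (Dual.inD A (Dual.HD A ω j)) :=
      (DerivedCategory.singleFunctor (ModuleCat.{u} A) 0).map_isZero
        (ModuleCat.isZero_of_subsingleton _)
    exact ⟨fun a b => hz.eq_of_src a b⟩
  · push Not at hc
    have h1 := hF.2 hc
    rw [supportDim_hom_self_eq ω hω] at h1
    exact subsingleton_ext_of_lt_neg_supportDim ω hω hn (-j - k).toNat (Dual.HD A ω j) h1 l
      (by omega)

include hω hn in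
theorem hom_truncGT_eq_zero (n : ℕ) (hd : ringKrullDim A = n) (hequi : EGA4.IsEquidim A)
    (k : ℕ) (hk : 1 ≤ k) (hS : LocCoh.HasSk k A A) (i : ℤ) (hi : i < k)
    (α : ((tt (ModuleCat.{u} A)).truncGT (-(n : ℤ))).obj ω ⟶ ω⟦i⟧) : α = 0 := by
  obtain ⟨a₀, b₀, hab⟩ := hω.finite_injective_dimension
  have hhigh : ∀ i : ℤ, b₀ < i → IsZero ((homologyFunctor (ModuleCat.{u} A) i).obj ω) := by
    intro i hi
    have h1 := hab A i (Or.inr hi)
    haveI : Subsingleton (Dual.HD A ω i) := (subsingleton_hom_inD_self_iff ω i).1 h1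
    exact ModuleCat.isZero_of_subsingleton _
  refine hom_eq_zero_of_homology ω (k : ℤ) (b₀ + n).toNat (-(n : ℤ) + 1)
    (((tt (ModuleCat.{u} A)).truncGT (-(n : ℤ))).obj ω) ?_ ?_ i hi α
  · rintro j (hj | hj)
    · exact isZero_homology_truncGT ω (-(n : ℤ)) j (by omega)
    · have := epi_homology_map_truncGTπ ω (-(n : ℤ)) j (by omega)
      exact IsZero.of_epi ((homologyFunctor (ModuleCat.{u} A) j).map
        (((tt (ModuleCat.{u} A)).truncGTπ (-(n : ℤ))).app ω)) (hhigh j (by omega))
  · intro j l hl χ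
    by_cases hj : j ≤ -(n : ℤ)
    · exact ((DerivedCategory.singleFunctor (ModuleCat.{u} A) 0).map_isZero
        (isZero_homology_truncGT ω (-(n : ℤ)) j hj)).eq_of_src _ _
    · haveI := isIso_homology_map_truncGTπ ω (-(n : ℤ)) j (by omega)
      have hsub := subsingleton_ext_HD ω hω hn n hd hequi k hk hS j (by omega) l hl
      rw [← cancel_epi ((DerivedCategory.singleFunctor (ModuleCat.{u} A) 0).map
        ((homologyFunctor (ModuleCat.{u} A) j).map
          (((tt (ModuleCat.{u} A)).truncGTπ (-(n : ℤ))).app ω))), comp_zero]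
      exact hsub.elim _ _

end Local

end Groth.Agent.Lib.QGorEnd_helper1
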