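import Mathlib
import Groth.Prelude.Def_Wider
import Groth.Prelude.Def_EGA4b
import Groth.Prelude.Def_CAlg
import Groth.Agent.Lib.DMod101_helper6
import Groth.Agent.Lib.DerivedTrunc_helper2
import Groth.Agent.Lib.QGorEnd1_helper1
import Groth.Agent.Lib.QGorEnd2_helper1

/-!
# `A → End(K)` is bijective for the dualizing module of an `(S_2)` local ring, and
`Ext^1(K, K) = 0` under `(S_3)` (helper1, S18719)
-/

set_option autoImplicit false
universe u
open CategoryTheory CategoryTheory.Limits DerivedCategory Pretriangulated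
attribute [local instance] HasDerivedCategory.standard

namespace Groth.Agent.Lib.QGorEnd_helper1

open Groth.Agent.Lib.DMod_helper6 Groth.Agent.DepthLib Groth.Agent.Lib.DerivedTrunc_helper2
open DRing Groth.Agent.ExtendScalarsLib

section Transfer

variable {A : Type u} [CommRing A]

lemma bijective_smul_id_of_iso {C : Type*} [Category C] [Preadditive C] [Linear A C] {X Y : C}
    (e : X ≅ Y) (h : Function.Bijective (fun r : A => r • 𝟙 X)) :
    Function.Bijective (fun r : A => r • 𝟙 Y) := by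
  have : (fun r : A => r • 𝟙 Y) = (Iso.homCongr e e) ∘ (fun r : A => r • 𝟙 X) := by
    funext r
    simp only [Function.comp_apply, Iso.homCongr_apply, Linear.smul_comp, Linear.comp_smul,
      Category.id_comp, Iso.inv_hom_id]
  rw [this]
  exact (Iso.homCongr e e).bijective.comp h

lemma bijective_smul_id_of_fullyFaithful {C D : Type*} [Category C] [Category D]
    [Preadditive C] [Preadditive D] [Linear A C] [Linear A D] (F : C ⥤ D) [F.Additive]
    [F.Linear A] [F.Full] [F.Faithful] (X : C)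
    (h : Function.Bijective (fun r : A => r • 𝟙 (F.obj X))) :
    Function.Bijective (fun r : A => r • 𝟙 X) := by
  have hF : Function.Bijective (F.map : (X ⟶ X) → (F.obj X ⟶ F.obj X)) :=
    ⟨F.map_injective, F.map_surjective⟩
  have : (fun r : A => r • 𝟙 (F.obj X)) = F.map ∘ (fun r : A => r • 𝟙 X) := by
    funext r
    simp only [Function.comp_apply, Functor.map_smul, CategoryTheory.Functor.map_id]
  rw [this] at h
  exact (Function.Bijective.of_comp_iff' hF _).1 h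

lemma bijective_smul_linearMap_id (M : ModuleCat.{u} A)
    (h : Function.Bijective (fun r : A => r • 𝟙 M)) :
    Function.Bijective (fun r : A => r • (LinearMap.id : M →ₗ[A] M)) := by
  have hH : Function.Bijective (ModuleCat.Hom.hom : (M ⟶ M) → (M →ₗ[A] M)) :=
    ⟨ModuleCat.hom_injective, fun f => ⟨ModuleCat.ofHom f, rfl⟩⟩
  have : (fun r : A => r • (LinearMap.id : M →ₗ[A] M)) =
      ModuleCat.Hom.hom ∘ (fun r : A => r • 𝟙 M) := by
    funext r
    rfl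
  rw [this]
  exact hH.comp h

/-- `A → End(L)` is bijective when `L → ω → G →` is distinguished with `A ≅ End(ω)`,
`Hom(G, ω) = Hom(G, ω[1]) = 0` and `End(L) → Hom(L, ω)` injective. -/
lemma core1 (T : Triangle (Dual.D A)) (hT : T ∈ distTriang (Dual.D A))
    (h0 : ∀ α : T.obj₃ ⟶ T.obj₂, α = 0)
    (h1 : ∀ α : T.obj₃ ⟶ T.obj₂⟦(1 : ℤ)⟧, α = 0)
    (hinj : ∀ f : T.obj₁ ⟶ T.obj₁, f ≫ T.mor₁ = 0 → f = 0)
    (hbij : Function.Bijective (fun r : A => r • 𝟙 T.obj₂)) :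
    Function.Bijective (fun r : A => r • 𝟙 T.obj₁) := by
  have hcomm : ∀ r : A, (r • 𝟙 T.obj₁) ≫ T.mor₁ = T.mor₁ ≫ (r • 𝟙 T.obj₂) := by
    intro r
    rw [Linear.smul_comp, Linear.comp_smul, Category.id_comp, Category.comp_id]
  constructor
  · intro r s hrs
    have hrs' : r • 𝟙 T.obj₁ = s • 𝟙 T.obj₁ := hrs
    apply hbij.1
    show r • 𝟙 T.obj₂ = s • 𝟙 T.obj₂
    have h2 : T.mor₁ ≫ (r • 𝟙 T.obj₂ - s • 𝟙 T.obj₂) = 0 := by
      rw [Preadditive.comp_sub, ← hcomm r, ← hcomm s, hrs', sub_self]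
    obtain ⟨g, hg⟩ := Triangle.yoneda_exact₂ T hT _ h2
    rw [h0 g, comp_zero] at hg
    exact sub_eq_zero.1 hg
  · intro f
    obtain ⟨ψ, hψ⟩ := exists_factor_of_distTriang T hT T.obj₂ h1 (f ≫ T.mor₁)
    obtain ⟨r, hr⟩ := hbij.2 ψ
    have hr' : r • 𝟙 T.obj₂ = ψ := hr
    refine ⟨r, ?_⟩
    show r • 𝟙 T.obj₁ = f
    apply sub_eq_zero.1
    apply hinj
    rw [Preadditive.sub_comp, hcomm r, hr', hψ, sub_self]

/-- `Hom(L, L[1]) = 0`. -/
lemma core2 (T : Triangle (Dual.D A)) (hT : T ∈ distTriang (Dual.D A))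
    (h2 : ∀ α : T.obj₃ ⟶ (T.obj₂⟦(1 : ℤ)⟧)⟦(1 : ℤ)⟧, α = 0)
    (hext : ∀ ψ : T.obj₂ ⟶ T.obj₂⟦(1 : ℤ)⟧, ψ = 0)
    (horth : ∀ g : T.obj₁ ⟶ T.obj₃, g = 0)
    (f : T.obj₁ ⟶ T.obj₁⟦(1 : ℤ)⟧) : f = 0 := by
  obtain ⟨ψ, hψ⟩ := exists_factor_of_distTriang T hT (T.obj₂⟦(1 : ℤ)⟧) h2
    (f ≫ T.mor₁⟦(1 : ℤ)⟧')
  rw [hext ψ, comp_zero] at hψ
  obtain ⟨g, hg⟩ := Triangle.coyoneda_exact₁ T hT f hψ
  rw [hg, horth g, zero_comp]

/-- `τ_{≤ a} K ≅ H^a(K)[-a]` when `K ∈ D^{≥ a}`. -/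
lemma nonempty_truncLE_iso (K : Dual.D A) (m a : ℤ) (hma : m + a = 0)
    [DerivedCategory.IsGE K a] :
    Nonempty ((Dual.inD A (Dual.HD A K a))⟦m⟧ ≅ ((tt (ModuleCat.{u} A)).truncLE a).obj K) := by
  haveI : DerivedCategory.IsGE (((tt (ModuleCat.{u} A)).truncLE a).obj K) a := inferInstance
  haveI : DerivedCategory.IsLE (((tt (ModuleCat.{u} A)).truncLE a).obj K) a := inferInstance
  obtain ⟨Y, ⟨e⟩⟩ := DerivedCategory.exists_iso_singleFunctor_obj_of_isGE_of_isLE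
    (((tt (ModuleCat.{u} A)).truncLE a).obj K) a
  haveI := isIso_homology_map_truncLEι K a a le_rfl
  let eY : Y ≅ (homologyFunctor (ModuleCat.{u} A) a).obj K :=
    ((singleFunctorCompHomologyFunctorIso (ModuleCat.{u} A) a).app Y).symm ≪≫
      (homologyFunctor (ModuleCat.{u} A) a).mapIso e.symm ≪≫
      asIso ((homologyFunctor (ModuleCat.{u} A) a).map
        (((tt (ModuleCat.{u} A)).truncLEι a).app K))
  let eN : Dual.inD A (Dual.HD A K a) ≅
      (DerivedCategory.singleFunctor (ModuleCat.{u} A) 0).obj Y :=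
    (DerivedCategory.singleFunctor (ModuleCat.{u} A) 0).mapIso eY.symm
  let eS : ((DerivedCategory.singleFunctor (ModuleCat.{u} A) 0).obj Y)⟦m⟧ ≅
      ((tt (ModuleCat.{u} A)).truncLE a).obj K :=
    ((DerivedCategory.singleFunctors (ModuleCat.{u} A)).shiftIso m a 0 hma).app Y ≪≫ e.symm
  exact ⟨(shiftFunctor (Dual.D A) m).mapIso eN ≪≫ eS⟩

end Transfer

section Main

variable {A : Type u} [CommRing A] [IsNoetherianRing A] [IsLocalRing A]
  (ω : Dual.D A) (hω : Dual.IsDualizing A ω) (hn : Dual.IsNormalized A ω)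
  (n : ℕ) (hd : ringKrullDim A = n)

include hω hn hd in
lemma isGE_of_normalized : DerivedCategory.IsGE ω (-(n : ℤ)) := by
  rw [DerivedCategory.isGE_iff]
  intro i hi
  have h1 : Subsingleton (Dual.inD A A ⟶ ω⟦i⟧) :=
    subsingleton_ext_of_lt_neg_supportDim ω hω hn n A
      (by rw [Module.supportDim_self_eq_ringKrullDim, hd]) i hi
  haveI := (subsingleton_hom_inD_self_iff ω i).1 h1
  exact ModuleCat.isZero_of_subsingleton _

omit [IsNoetherianRing A] [IsLocalRing A] in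
lemma hasSk_two_of_three (hS : LocCoh.HasSk 3 A A) : LocCoh.HasSk 2 A A := by
  intro p _
  refine le_trans (min_le_min_right _ ?_) (hS p)
  exact_mod_cast (by norm_num : (2 : ℕ) ≤ 3)

include hω hn hd in
theorem main :
    (LocCoh.HasSk 2 A A →
      Function.Bijective (fun r : A => r • (LinearMap.id :
        Dual.HD A ω (-(n : ℤ)) →ₗ[A] Dual.HD A ω (-(n : ℤ))))) ∧
    (LocCoh.HasSk 3 A A →
      Subsingleton (Dual.inD A (Dual.HD A ω (-(n : ℤ))) ⟶
        (Dual.inD A (Dual.HD A ω (-(n : ℤ))))⟦(1 : ℤ)⟧)) := by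
  haveI hge : DerivedCategory.IsGE ω (-(n : ℤ)) := isGE_of_normalized ω hω hn n hd
  obtain ⟨eL⟩ := nonempty_truncLE_iso ω (n : ℤ) (-(n : ℤ)) (by omega)
  have hT := (tt (ModuleCat.{u} A)).triangleLEGT_distinguished (-(n : ℤ)) ω
  have hinj : ∀ f : ((tt (ModuleCat.{u} A)).truncLE (-(n : ℤ))).obj ω ⟶
      ((tt (ModuleCat.{u} A)).truncLE (-(n : ℤ))).obj ω,
      f ≫ ((tt (ModuleCat.{u} A)).truncLEι (-(n : ℤ))).app ω = 0 → f = 0 := by
    intro f hf
    haveI : DerivedCategory.IsGE (((tt (ModuleCat.{u} A)).truncLE (-(n : ℤ))).obj ω)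
      (-(n : ℤ)) := inferInstance
    haveI : DerivedCategory.IsLE (((tt (ModuleCat.{u} A)).truncLE (-(n : ℤ))).obj ω)
      (-(n : ℤ)) := inferInstance
    apply eq_zero_of_homology_map_eq_zero (-(n : ℤ)) f
    haveI := isIso_homology_map_truncLEι ω (-(n : ℤ)) (-(n : ℤ)) le_rfl
    rw [← cancel_mono ((homologyFunctor (ModuleCat.{u} A) (-(n : ℤ))).map
      (((tt (ModuleCat.{u} A)).truncLEι (-(n : ℤ))).app ω)), zero_comp,
      ← CategoryTheory.Functor.map_comp, hf, CategoryTheory.Functor.map_zero]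
  refine ⟨fun hS => ?_, fun hS3 => ?_⟩
  · have hequi := isEquidim_of_hasSk_two ω hω hn n hd hS
    have hvan := hom_truncGT_eq_zero ω hω hn n hd hequi 2 (by norm_num) hS
    have h0 : ∀ α : ((tt (ModuleCat.{u} A)).truncGT (-(n : ℤ))).obj ω ⟶ ω, α = 0 := by
      intro α
      have h := hvan 0 (by norm_num) (α ≫ (shiftFunctorZero (Dual.D A) ℤ).inv.app ω)
      rw [← cancel_mono ((shiftFunctorZero (Dual.D A) ℤ).inv.app ω), h, zero_comp]
    have h1 : ∀ α : ((tt (ModuleCat.{u} A)).truncGT (-(n : ℤ))).obj ω ⟶ ω⟦(1 : ℤ)⟧, α = 0 :=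
      fun α => hvan 1 (by norm_num) α
    have hb_L := core1 ((((tt (ModuleCat.{u} A)).triangleLEGT (-(n : ℤ))).obj ω)) hT h0 h1 hinj
      hω.toEnd_bijective
    have hb1 := bijective_smul_id_of_iso eL.symm hb_L
    have hb2 := bijective_smul_id_of_fullyFaithful (shiftFunctor (Dual.D A) (n : ℤ))
      (Dual.inD A (Dual.HD A ω (-(n : ℤ)))) hb1
    have hb3 := bijective_smul_id_of_fullyFaithful
      (DerivedCategory.singleFunctor (ModuleCat.{u} A) 0)
      ((homologyFunctor (ModuleCat.{u} A) (-(n : ℤ))).obj ω) hb2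
    exact bijective_smul_linearMap_id _ hb3
  · have hS := hasSk_two_of_three hS3
    have hequi := isEquidim_of_hasSk_two ω hω hn n hd hS
    have hvan := hom_truncGT_eq_zero ω hω hn n hd hequi 3 (by norm_num) hS3
    have h2 : ∀ α : ((tt (ModuleCat.{u} A)).truncGT (-(n : ℤ))).obj ω ⟶
        (ω⟦(1 : ℤ)⟧)⟦(1 : ℤ)⟧, α = 0 := by
      intro α
      have h := hvan 2 (by norm_num) (α ≫ (shiftShiftIso ω 1 1 2 rfl).hom)
      rw [← cancel_mono (shiftShiftIso ω 1 1 2 rfl).hom, h, zero_comp]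
    have hext : ∀ ψ : ω ⟶ ω⟦(1 : ℤ)⟧, ψ = 0 := fun ψ =>
      (hω.ext_self_subsingleton 1 one_ne_zero).elim ψ 0
    have horth : ∀ g : ((tt (ModuleCat.{u} A)).truncLE (-(n : ℤ))).obj ω ⟶
        ((tt (ModuleCat.{u} A)).truncGT (-(n : ℤ))).obj ω, g = 0 := fun g =>
      (tt (ModuleCat.{u} A)).zero g (-(n : ℤ)) (-(n : ℤ) + 1) (by omega)
    have hzero := core2 ((((tt (ModuleCat.{u} A)).triangleLEGT (-(n : ℤ))).obj ω)) hT h2 hext
      horth
    have hsL : Subsingleton (((tt (ModuleCat.{u} A)).truncLE (-(n : ℤ))).obj ω ⟶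
        (((tt (ModuleCat.{u} A)).truncLE (-(n : ℤ))).obj ω)⟦(1 : ℤ)⟧) :=
      subsingleton_of_forall_eq 0 hzero
    have hs1 : Subsingleton ((Dual.inD A (Dual.HD A ω (-(n : ℤ))))⟦(n : ℤ)⟧ ⟶
        ((Dual.inD A (Dual.HD A ω (-(n : ℤ))))⟦(n : ℤ)⟧)⟦(1 : ℤ)⟧) :=
      (Iso.homCongr eL ((shiftFunctor (Dual.D A) (1 : ℤ)).mapIso eL)).subsingleton_congr.2 hsL
    have hs2 : Subsingleton ((Dual.inD A (Dual.HD A ω (-(n : ℤ))))⟦(n : ℤ)⟧ ⟶
        (Dual.inD A (Dual.HD A ω (-(n : ℤ))))⟦(1 : ℤ) + (n : ℤ)⟧) :=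
      (subsingleton_hom_iso_right
        (shiftShiftIso (Dual.inD A (Dual.HD A ω (-(n : ℤ)))) (n : ℤ) 1 (1 + (n : ℤ))
          (by omega))).1 hs1
    exact subsingleton_hom_of_shift (n : ℤ) (1 + (n : ℤ)) 1 rfl hs2

end Main

end Groth.Agent.Lib.QGorEnd_helper1
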