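import Mathlib
import Groth.Prelude.Def_CAlg
import Groth.Prelude.Def_EGA4b
import Groth.Prelude.Def_FlatCA
import Groth.Prelude.Def_Wider
import Groth.Agent.Lib.FlatDepth3_helper3
import Groth.Agent.Lib.LocCohLES2_helper7
import Groth.Agent.Lib.LocCohCM_helper7
import Groth.Agent.Lib.DepthHom_helper5

/-!
# Flatness in a four-term exact sequence from `H²_J` of the closed fibre (helper1, S18726)
-/

set_option autoImplicit false
universe u

namespace Groth.Agent.Lib.QGorFlat_helper1

open TensorProduct Groth.Agent.Lib.FlatDepthH3 Groth.Agent.Lib.FlatDepth3H3 Groth.Agent.DepthLib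
open Groth.Agent.Lib.LocCohLESH7 Groth.Agent.Lib.LocCohCMH7

section Tors

variable {A B : Type*} [CommRing A] [CommRing B] [Algebra A B] (I : Ideal A)
  {K E Q : Type*} [AddCommGroup K] [Module B K] [Module A K] [IsScalarTower A B K]
  [AddCommGroup E] [Module B E] [Module A E] [IsScalarTower A B E]
  [AddCommGroup Q] [Module B Q] [Module A Q] [IsScalarTower A B Q]

/-- localized form of the left exactness of the closed fibre. -/
theorem exists_smul_mem_of_flat_localized (i : K →ₗ[B] E) (g : E →ₗ[B] Q)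
    (hi : Function.Injective i) (hex : Function.Exact i g) (hg : Function.Surjective g)
    (T : Submonoid B) [Module.Flat A (LocalizedModule T Q)] (k : K)
    (hk : i k ∈ (I.map (algebraMap A B) • ⊤ : Submodule B E)) :
    ∃ t ∈ T, t • k ∈ (I.map (algebraMap A B) • ⊤ : Submodule B K) := by
  obtain ⟨x', hx'⟩ := exists_μ_eq I E (i k) (mem_smul_top_of_mem_map_smul_top E I (i k) hk)
  have hμx : μ I Q ((g.restrictScalars A).rTensor ↥I x') = 0 := by
    rw [← μ_natural I g x', hx', hex.apply_apply_eq_zero]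
  have hx0 : I.subtype.lTensor Q ((g.restrictScalars A).rTensor ↥I x') = 0 := by
    have h' : (TensorProduct.rid A Q)
        (I.subtype.lTensor Q ((g.restrictScalars A).rTensor ↥I x')) = 0 := hμx
    exact (TensorProduct.rid A Q).injective (by rw [h', map_zero])
  obtain ⟨t, ht, htx⟩ := exists_smul_eq_zero_of_flat_localized Q T I.subtype
    Subtype.val_injective _ hx0
  have hexT : Function.Exact ((i.restrictScalars A).rTensor ↥I)
      ((g.restrictScalars A).rTensor ↥I) :=
    rTensor_exact (↥I) (f := i.restrictScalars A) (g := g.restrictScalars A) hex hg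
  obtain ⟨w, hw⟩ : ∃ w : K ⊗[A] ↥I, (i.restrictScalars A).rTensor ↥I w = t • x' := by
    apply (hexT (t • x')).1
    rw [rTensor_smul, htx]
  refine ⟨t, ht, ?_⟩
  have h1 : t • k = μ I K w := by
    apply hi
    rw [map_smul, ← hx', ← μ_smul, ← hw, μ_natural I i w]
  rw [h1]
  exact mem_map_smul_top_of_mem_smul_top (B := B) K I _ (μ_mem I K w)

end Tors

section PT

/-- an element killed locally off `V(J)` is killed by a power of `J`. -/
theorem exists_pow_smul_eq_zero_of_local {B : Type*} [CommRing B] [IsNoetherianRing B]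
    (J : Ideal B) {X : Type*} [AddCommGroup X] [Module B X] (x : X)
    (h : ∀ q : Ideal B, q.IsPrime → ¬ J ≤ q → ∃ s, s ∉ q ∧ s • x = 0) :
    ∃ n : ℕ, ∀ a ∈ J ^ n, a • x = 0 := by
  set I : Ideal B := LinearMap.ker (LinearMap.toSpanSingleton B X x) with hI
  have hImem : ∀ a : B, a ∈ I ↔ a • x = 0 := by
    intro a
    rw [hI, LinearMap.mem_ker, LinearMap.toSpanSingleton_apply]
  have hrad : J ≤ I.radical := by
    rw [Ideal.radical_eq_sInf]
    apply le_sInf
    rintro q ⟨hIq, hq⟩
    by_contra hJq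
    obtain ⟨s, hsq, hsx⟩ := h q hq hJq
    exact hsq (hIq ((hImem s).2 hsx))
  obtain ⟨n, hn⟩ := Ideal.exists_pow_le_of_le_radical_of_fg hrad
    ((isNoetherianRing_iff_ideal_fg B).1 inferInstance J)
  exact ⟨n, fun a ha => (hImem a).1 (hn ha)⟩

end PT

section LC

variable {B : Type u} [CommRing B] [IsNoetherianRing B] (J : Ideal B)

/-- the local cohomology chase. -/
theorem one_le_idealDepth_coker
    (M N0 N1 P : Type u) [AddCommGroup M] [Module B M]
    [AddCommGroup N0] [Module B N0] [Module.Finite B N0]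
    [AddCommGroup N1] [Module B N1] [Module.Finite B N1]
    [AddCommGroup P] [Module B P] [Module.Finite B P]
    (α : M →ₗ[B] N0) (β : N0 →ₗ[B] N1) (γ : N1 →ₗ[B] P)
    (hβα : ∀ w, β (α w) = 0) (hβγ : Function.Exact β γ) (hγ : Function.Surjective γ)
    (hW : ∀ w, α w = 0 → ∀ q : Ideal B, q.IsPrime → ¬ J ≤ q → ∃ s, s ∉ q ∧ s • w = 0)
    (hC : ∀ y, β y = 0 → ∀ q : Ideal B, q.IsPrime → ¬ J ≤ q →
      ∃ s, s ∉ q ∧ s • y ∈ LinearMap.range α)
    (h0 : 2 ≤ LocCoh.idealDepth J N0) (h1 : 1 ≤ LocCoh.idealDepth J N1)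
    (hH2 : Subsingleton (LocCoh.H J 2 M)) : 1 ≤ LocCoh.idealDepth J P := by
  haveI : IsNoetherian B N0 := isNoetherian_of_isNoetherianRing_of_finite B N0
  haveI : IsNoetherian B N1 := isNoetherian_of_isNoetherianRing_of_finite B N1
  haveI : Module.Finite B (LinearMap.ker β) := inferInstance
  haveI : Module.Finite B (LinearMap.ker γ) := inferInstance
  obtain ⟨φ, hφ⟩ : ∃ φ : M →ₗ[B] LinearMap.ker β, ∀ w, ((φ w : LinearMap.ker β) : N0) = α w :=
    ⟨α.codRestrict (LinearMap.ker β) (fun w => hβα w), fun w => rfl⟩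
  -- torsion of the kernel
  have hT1 : LocCoh.IsPowerTorsion J (LinearMap.ker φ) := by
    rintro ⟨w, hw⟩
    have hw' : α w = 0 := by
      rw [← hφ w, LinearMap.mem_ker.1 hw]
      rfl
    obtain ⟨n, hn⟩ := exists_pow_smul_eq_zero_of_local J w (hW w hw')
    exact ⟨n, fun a ha => Subtype.ext (hn a ha)⟩
  -- torsion of the cokernel
  have hT3 : LocCoh.IsPowerTorsion J ((LinearMap.ker β) ⧸ LinearMap.range φ) := by
    intro c
    obtain ⟨⟨y, hy⟩, rfl⟩ := Submodule.Quotient.mk_surjective _ c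
    apply exists_pow_smul_eq_zero_of_local J
    intro q hq hJq
    obtain ⟨s, hs, w, hw⟩ := hC y (LinearMap.mem_ker.1 hy) q hq hJq
    refine ⟨s, hs, ?_⟩
    rw [← Submodule.Quotient.mk_smul, Submodule.Quotient.mk_eq_zero]
    exact ⟨w, Subtype.ext (by rw [hφ w, hw]; rfl)⟩
  -- first sequence
  have hex1 : Function.Exact (LinearMap.ker φ).subtype φ.rangeRestrict := by
    intro m
    constructor
    · intro h
      have h' : φ m = 0 := by
        have := congrArg Subtype.val h
        simpa using this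
      exact ⟨⟨m, LinearMap.mem_ker.2 h'⟩, rfl⟩
    · rintro ⟨⟨m', hm'⟩, rfl⟩
      exact Subtype.ext (LinearMap.mem_ker.1 hm')
  have hS1 := shortComplexOf_shortExact (LinearMap.ker φ).subtype φ.rangeRestrict
    (Submodule.injective_subtype _) φ.surjective_rangeRestrict hex1
  have hb1 := bijective_g_of_torsion J hS1 hT1 1
  have hsubR : Subsingleton ((localCohomology J 2).obj (ModuleCat.of B (LinearMap.range φ)) :
      ModuleCat.{u} B) := by
    refine ⟨fun a b => ?_⟩
    obtain ⟨a', rfl⟩ := hb1.2 a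
    obtain ⟨b', rfl⟩ := hb1.2 b
    exact congrArg _ (hH2.elim a' b')
  -- second sequence
  have hS2 := shortComplexOf_shortExact (LinearMap.range φ).subtype (LinearMap.range φ).mkQ
    (Submodule.injective_subtype _) (Submodule.mkQ_surjective _) (LinearMap.exact_subtype_mkQ _)
  have hb2 := bijective_f_of_torsion J hS2 hT3 0
  have hsubF : Subsingleton (LocCoh.H J 2 (LinearMap.ker β)) := by
    refine ⟨fun a b => ?_⟩
    obtain ⟨a', rfl⟩ := hb2.2 a
    obtain ⟨b', rfl⟩ := hb2.2 b
    exact congrArg _ (hsubR.elim a' b')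
  -- depth of the kernel
  have hF2 : 2 ≤ LocCoh.idealDepth J (LinearMap.ker β) :=
    (idealDepth_of_leftExact J (LinearMap.ker β) N0 N1 (LinearMap.ker β).subtype β
      (Submodule.injective_subtype _) (LinearMap.exact_subtype_ker_map β)).2 h0 h1
  have hF3 : ((3 : ℕ) : ℕ∞) ≤ LocCoh.idealDepth J (LinearMap.ker β) := by
    rw [← vanishing_iff_le_depth J (LinearMap.ker β) 3]
    intro i hi
    rcases (by omega : i < 2 ∨ i = 2) with h | rfl
    · exact (vanishing_iff_le_depth J (LinearMap.ker β) 2).2 (by exact_mod_cast hF2) i h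
    · exact hsubF
  -- the image
  obtain ⟨ψ, hψ⟩ : ∃ ψ : N0 →ₗ[B] LinearMap.ker γ, ∀ y, ((ψ y : LinearMap.ker γ) : N1) = β y :=
    ⟨β.codRestrict (LinearMap.ker γ) (fun y => LinearMap.mem_ker.2 ((hβγ (β y)).2 ⟨y, rfl⟩)),
      fun y => rfl⟩
  have hψs : Function.Surjective ψ := by
    rintro ⟨z, hz⟩
    obtain ⟨y, hy⟩ := (hβγ z).1 (LinearMap.mem_ker.1 hz)
    exact ⟨y, Subtype.ext (by rw [hψ y, hy])⟩
  have hex3 : Function.Exact (LinearMap.ker β).subtype ψ := by
    intro y
    constructor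
    · intro h
      have h' : β y = 0 := by rw [← hψ y, h]; rfl
      exact ⟨⟨y, LinearMap.mem_ker.2 h'⟩, rfl⟩
    · rintro ⟨⟨y', hy'⟩, rfl⟩
      exact Subtype.ext (by rw [hψ]; exact LinearMap.mem_ker.1 hy')
  have hI2 : 2 ≤ LocCoh.idealDepth J (LinearMap.ker γ) := by
    have h := (depth_ses J (LinearMap.ker β) N0 (LinearMap.ker γ) (LinearMap.ker β).subtype ψ
      (Submodule.injective_subtype _) hψs hex3).2.1
    refine le_trans (le_min h0 ?_) h
    refine ENat.le_sub_of_add_le_right (by simp) ?_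
    have h21 : (2 : ℕ∞) + 1 = ((3 : ℕ) : ℕ∞) := by norm_num
    rw [h21]
    exact hF3
  have h := (depth_ses J (LinearMap.ker γ) N1 P (LinearMap.ker γ).subtype γ
    (Submodule.injective_subtype _) hγ (LinearMap.exact_subtype_ker_map γ)).2.1
  exact le_trans (le_min h1 (one_le_sub_one hI2)) h

end LC

section Main

variable (A B : Type u) [CommRing A] [CommRing B]
    [IsNoetherianRing A] [IsNoetherianRing B] [IsLocalRing A] [IsLocalRing B] [Algebra A B]
    [IsLocalHom (algebraMap A B)] (J : Ideal B)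

theorem main
    (F E0 E1 G : Type u) [AddCommGroup F] [Module B F] [Module A F] [IsScalarTower A B F]
    [Module.Finite B F]
    [AddCommGroup E0] [Module B E0] [Module A E0] [IsScalarTower A B E0] [Module.Finite B E0]
    [Module.Flat A E0]
    [AddCommGroup E1] [Module B E1] [Module A E1] [IsScalarTower A B E1] [Module.Finite B E1]
    [Module.Flat A E1]
    [AddCommGroup G] [Module B G] [Module A G] [IsScalarTower A B G] [Module.Finite B G]
    (f : F →ₗ[B] E0) (u : E0 →ₗ[B] E1) (v : E1 →ₗ[B] G)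
    (hf : Function.Injective f) (hfu : Function.Exact f u) (huv : Function.Exact u v)
    (hv : Function.Surjective v)
    (hGU : ∀ q : PrimeSpectrum B, ¬ J ≤ q.asIdeal → FlatCA.FlatAt A q.asIdeal G)
    (h0 : 2 ≤ LocCoh.idealDepth J (EGA4.FibMod A B E0))
    (h1 : 1 ≤ LocCoh.idealDepth J (EGA4.FibMod A B E1))
    (hH2 : Subsingleton (LocCoh.H J 2 (EGA4.FibMod A B F))) :
    Module.Flat A F ∧ Module.Flat A G ∧ 2 ≤ LocCoh.idealDepth J (EGA4.FibMod A B F) := by
  haveI : IsNoetherian B E1 := isNoetherian_of_isNoetherianRing_of_finite B E1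
  have hfp : Function.Exact f u.rangeRestrict := by
    intro x
    rw [← hfu x]
    constructor
    · intro hx
      have := congrArg Subtype.val hx
      simpa using this
    · intro hx
      apply Subtype.ext
      simpa using hx
  have hjv : Function.Exact (LinearMap.range u).subtype v := by
    intro y
    rw [huv y]
    constructor
    · rintro ⟨x, rfl⟩
      exact ⟨⟨u x, ⟨x, rfl⟩⟩, rfl⟩
    · rintro ⟨⟨_, ⟨x, rfl⟩⟩, rfl⟩
      exact ⟨x, rfl⟩
  have hp := u.surjective_rangeRestrict
  have hj := Submodule.injective_subtype (LinearMap.range u)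
  have hImU : ∀ (q : Ideal B) [q.IsPrime], ¬ J ≤ q →
      Module.Flat A (LocalizedModule q.primeCompl (LinearMap.range u)) := by
    intro q _ hq
    exact flat_localized_ker (LinearMap.range u).subtype v hj hjv hv q.primeCompl
      (hGU ⟨q, inferInstance⟩ hq)
  have hbu : ∀ y, bar A u y =
      bar A (LinearMap.range u).subtype (bar A u.rangeRestrict y) := by
    intro y
    obtain ⟨e, rfl⟩ := Submodule.Quotient.mk_surjective _ y
    rfl
  have hbuf : ∀ w, bar A u (bar A f w) = 0 := by
    intro w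
    obtain ⟨φ, rfl⟩ := Submodule.Quotient.mk_surjective _ w
    rw [bar_mk, bar_mk, hfu.apply_apply_eq_zero, Submodule.Quotient.mk_zero]
  -- the two local statements
  have hW : ∀ w, bar A f w = 0 → ∀ q : Ideal B, q.IsPrime → ¬ J ≤ q →
      ∃ s, s ∉ q ∧ s • w = 0 := by
    intro w hw q hq hJq
    haveI := hq
    haveI := hImU q hJq
    obtain ⟨φ, rfl⟩ := Submodule.Quotient.mk_surjective _ w
    rw [bar_mk, Submodule.Quotient.mk_eq_zero] at hw
    obtain ⟨t, ht, htφ⟩ := exists_smul_mem_of_flat_localized (IsLocalRing.maximalIdeal A) f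
      u.rangeRestrict hf hfp hp q.primeCompl φ hw
    refine ⟨t, ht, ?_⟩
    rw [← Submodule.Quotient.mk_smul, Submodule.Quotient.mk_eq_zero]
    exact htφ
  have hC : ∀ y, bar A u y = 0 → ∀ q : Ideal B, q.IsPrime → ¬ J ≤ q →
      ∃ s, s ∉ q ∧ s • y ∈ LinearMap.range (bar A f) := by
    intro y hy q hq hJq
    haveI := hq
    haveI : Module.Flat A (LocalizedModule q.primeCompl G) := hGU ⟨q, hq⟩ hJq
    rw [hbu] at hy
    obtain ⟨e, rfl⟩ := Submodule.Quotient.mk_surjective _ y
    rw [bar_mk, bar_mk, Submodule.Quotient.mk_eq_zero] at hy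
    obtain ⟨t, ht, hte⟩ := exists_smul_mem_of_flat_localized (IsLocalRing.maximalIdeal A)
      (LinearMap.range u).subtype v hj hjv hv q.primeCompl (u.rangeRestrict e) hy
    have hmap : (EGA4.mB A B • (⊤ : Submodule B (LinearMap.range u))) =
        (EGA4.mB A B • (⊤ : Submodule B E0)).map u.rangeRestrict := by
      rw [Submodule.map_smul'', Submodule.map_top, LinearMap.range_eq_top.2 hp]
    rw [hmap] at hte
    obtain ⟨e', he', hpe'⟩ := hte
    have h3 : u.rangeRestrict (t • e - e') = 0 := by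
      rw [map_sub, map_smul, hpe', sub_self]
    obtain ⟨φ, hφ⟩ := (hfp (t • e - e')).1 h3
    refine ⟨t, ht, Submodule.Quotient.mk φ, ?_⟩
    rw [bar_mk, hφ, ← Submodule.Quotient.mk_smul, Submodule.Quotient.mk_sub, sub_eq_self,
      Submodule.Quotient.mk_eq_zero]
    exact he'
  have h1G : 1 ≤ LocCoh.idealDepth J (EGA4.FibMod A B G) :=
    one_le_idealDepth_coker J (EGA4.FibMod A B F) (EGA4.FibMod A B E0) (EGA4.FibMod A B E1)
      (EGA4.FibMod A B G) (bar A f) (bar A u) (bar A v) hbuf (bar_exact A u v huv hv)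
      (bar_surjective A v hv) hW hC h0 h1 hH2
  have hG : Module.Flat A G := Groth.Agent.Lib.FlatDepthH3.main A B J G hGU h1G
  obtain ⟨ha, -, hc⟩ := Groth.Agent.Lib.FlatDepth3H3.main A B J F E0 E1 G f u v hf hfu huv hv
    hGU h0 h1
  exact ⟨hc hG, hG, ha.2 hG⟩

end Main

end Groth.Agent.Lib.QGorFlat_helper1
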