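import Mathlib
import Groth.Prelude.Def_Wider
import Groth.Prelude.Def_EGA4b
import Groth.Prelude.Def_CAlg
import Groth.Agent.Lib.DMod101_helper6
import Groth.Agent.Lib.DualS2_helper6
import Groth.Agent.Lib.DepthLoc_helper5
import Groth.Agent.Lib.SupportLoc_helper5

/-!
# A dualizing complex that is a module off `V(J)`, `ht J ≥ 1`, is ordinary (helper1, S18720)
-/

set_option autoImplicit false
universe u
open CategoryTheory CategoryTheory.Limits DerivedCategory
attribute [local instance] HasDerivedCategory.standard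

namespace Groth.Agent.Lib.QGorOrd_helper1

open Groth.Agent.Lib.DMod_helper6 Groth.Agent.DepthLib

variable {A : Type u} [CommRing A]

/-- if the support of `M` is everything, `dim Supp M_p = dim A_p`. -/
lemma supportDim_localizedModule_of_support_univ (M : Type u) [AddCommGroup M] [Module A M]
    (hall : ∀ p : PrimeSpectrum A, p ∈ Module.support A M) (p : Ideal A) [p.IsPrime] :
    Module.supportDim (Localization.AtPrime p) (LocalizedModule p.primeCompl M) =
      ringKrullDim (Localization.AtPrime p) := by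
  have hu : Module.support (Localization.AtPrime p) (LocalizedModule p.primeCompl M) =
      Set.univ :=
    Set.eq_univ_of_forall (fun Q => (mem_support_localizedModule_iff M p Q).2 (hall _))
  rw [Module.supportDim, hu]
  exact Order.krullDim_eq_of_orderIso OrderIso.Set.univ

variable [IsNoetherianRing A] [IsLocalRing A]

theorem main (ω : Dual.D A) (hω : Dual.IsDualizing A ω) (n : ℕ) (hd : ringKrullDim A = n)
    (J : Ideal A) (hJ : 1 ≤ J.height)
    (hoff : ∀ p : PrimeSpectrum A, ¬ J ≤ p.asIdeal → ∀ i : ℤ, i ≠ 0 →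
      p ∉ Module.support A (Dual.HD A ω i)) :
    (EGA4.IsEquidim A ∧ Dual.IsNormalized A (ω⟦(n : ℤ)⟧) ∧ LocCoh.HasSk 2 A (Dual.HD A ω 0)) ∧
    (2 ≤ J.height → 2 ≤ LocCoh.idealDepth J (Dual.HD A ω 0)) := by
  obtain ⟨m, hm⟩ := exists_isNormalized_shift ω hω
  have hω' := isDualizing_shift ω hω m
  obtain ⟨hb1, hb2⟩ := bottom_degree_of_supportDim_eq ω hω m hm A n
    (by rw [Module.supportDim_self_eq_ringKrullDim, hd])
  have eqS : ∀ a b : ℤ, m + a = b →
      Nonempty (Dual.HD A (ω⟦m⟧) a ≃ₗ[A] Dual.HD A ω b) := fun a b h =>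
    ⟨(((homologyFunctor (ModuleCat.{u} A) 0).shiftIso m a b h).app ω).toLinearEquiv⟩
  have hsuppS : ∀ (a b : ℤ), m + a = b → ∀ p : PrimeSpectrum A,
      p ∈ Module.support A (Dual.HD A (ω⟦m⟧) a) ↔ p ∈ Module.support A (Dual.HD A ω b) := by
    intro a b h p
    obtain ⟨e⟩ := eqS a b h
    rw [e.support_eq]
  -- minimal primes
  have hmin : ∀ Q ∈ minimalPrimes A, ∃ e : ℕ,
      ringKrullDim (A ⧸ Q) = (e : WithBot ℕ∞) ∧ (e : ℤ) = m := by
    intro Q hQmin
    haveI : Q.IsPrime := hQmin.1.1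
    obtain ⟨q, rfl⟩ : ∃ q : PrimeSpectrum A, q.asIdeal = Q := ⟨⟨Q, inferInstance⟩, rfl⟩
    have hJq : ¬ J ≤ q.asIdeal := by
      intro hle
      have h1 := Ideal.height_mono hle
      have h2 : q.asIdeal.height = 0 := Ideal.height_eq_zero_iff.2 hQmin
      rw [h2] at h1
      exact absurd (hJ.trans h1) (by simp)
    obtain ⟨e, h, he, hh, -, hmem, -⟩ := local_HD_degrees (ω⟦m⟧) hω' hm q
    have h0 : h = 0 := by
      have hz : Order.height q = 0 := Order.height_eq_zero.2 (PrimeSpectrum.isMin_iff.2 hQmin)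
      rw [hz] at hh
      exact_mod_cast hh.symm
    refine ⟨e, he, ?_⟩
    have hmem' := (hsuppS (-(e : ℤ) - h) (m + (-(e : ℤ) - h)) rfl q).1 hmem
    by_contra hne
    exact hoff q hJq (m + (-(e : ℤ) - h)) (by rw [h0]; intro h3; apply hne; simp at h3; omega) hmem'
  obtain ⟨hsupp, -⟩ := dualizing_module_support_and_S2 (ω⟦m⟧) hω' hm n hd
  have hmn : m = (n : ℤ) := by
    have hnt : Nontrivial (Dual.HD A ω (m - n)) := (nontrivial_hom_inD_self_iff ω _).1 hb1
    obtain ⟨e1⟩ := eqS (-(n : ℤ)) (m - n) (by omega)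
    haveI : Nontrivial (Dual.HD A (ω⟦m⟧) (-(n : ℤ))) := e1.toEquiv.nontrivial
    obtain ⟨p, hp⟩ : (Module.support A (Dual.HD A (ω⟦m⟧) (-(n : ℤ)))).Nonempty := by
      rw [Set.nonempty_iff_ne_empty, Ne, Module.support_eq_empty_iff]
      exact not_subsingleton _
    rw [hsupp] at hp
    obtain ⟨q, hq, -, hqd⟩ := hp
    obtain ⟨e, he, hem⟩ := hmin q hq
    rw [he] at hqd
    have : e = n := by exact_mod_cast hqd
    omega
  subst hmn
  have hequi : EGA4.IsEquidim A := by
    intro Q hQ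
    obtain ⟨e, he, hem⟩ := hmin Q hQ
    have : e = n := by exact_mod_cast hem
    rw [he, hd, this]
  have hlow : ∀ i : ℤ, i < 0 → Subsingleton (Dual.HD A ω i) := by
    intro i hi
    by_contra hns
    have hnt : Nontrivial (Dual.HD A ω i) := not_subsingleton_iff_nontrivial.1 hns
    have := hb2 i ((nontrivial_hom_inD_self_iff ω i).2 hnt)
    omega
  have hS2 : LocCoh.HasSk 2 A (Dual.HD A ω 0) := (hasSk_two_bottom ω hω 0 hlow).1
  refine ⟨⟨hequi, hm, hS2⟩, fun hJ2 => ?_⟩
  haveI : Module.Finite A (Dual.HD A ω 0) := hω.finite_cohomology 0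
  have hall : ∀ p : PrimeSpectrum A, p ∈ Module.support A (Dual.HD A ω 0) := by
    intro p
    rw [← hsuppS (-(n : ℤ)) 0 (by omega) p, hsupp]
    obtain ⟨q, hq, hqp⟩ := Ideal.exists_minimalPrimes_le (bot_le : (⊥ : Ideal A) ≤ p.asIdeal)
    exact ⟨q, hq, hqp, (hequi q hq).trans hd⟩
  have key := le_idealDepth_of_forall_localization J 2 (Dual.HD A ω 0) (fun p _ hJp => by
    have hsd := supportDim_localizedModule_of_support_univ (Dual.HD A ω 0) hall p
    have hdimp : ringKrullDim (Localization.AtPrime p) = p.height :=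
      IsLocalization.AtPrime.ringKrullDim_eq_height p (Localization.AtPrime p)
    have h2p : (2 : ℕ∞) ≤ p.height := hJ2.trans (Ideal.height_mono hJp)
    have h3 := hS2 p
    rw [hsd, hdimp] at h3
    have h4 : ((2 : ℕ) : WithBot ℕ∞) ≤ (p.height : WithBot ℕ∞) := WithBot.coe_le_coe.2 h2p
    exact WithBot.coe_le_coe.1 ((le_min le_rfl h4).trans h3))
  exact_mod_cast key

end Groth.Agent.Lib.QGorOrd_helper1
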