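import Mathlib
import Groth.Prelude.Def_Wider
import Groth.Prelude.Def_EGA4b
import Groth.Prelude.Def_CAlg
import Groth.Agent.Lib.QGorOrd_helper1
import Groth.Agent.Lib.DepthSkHom_helper5
import Groth.Agent.Lib.ReflexiveLoc_helper5
import Groth.Agent.Lib.DepthSk_helper5

/-!
# Reflexivity of the dualizing module which is invertible off `V(J)`, `ht J ≥ 2` (helper1, S18723)
-/

set_option autoImplicit false
universe u
open CategoryTheory CategoryTheory.Limits DerivedCategory
attribute [local instance] HasDerivedCategory.standard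

namespace Groth.Agent.Lib.QGorRefl_helper1

open Groth.Agent.DepthLib Groth.Agent.ReflexiveLoc

section Gen

variable {A : Type u} [CommRing A] [IsNoetherianRing A]

/-- `k ≤ depth_J A` from `(S_k)` and `ht J ≥ k`. -/
lemma le_idealDepth_self_of_hasSk (k : ℕ) (hS : LocCoh.HasSk k A A) (J : Ideal A)
    (hJ : (k : ℕ∞) ≤ J.height) : (k : ℕ∞) ≤ LocCoh.idealDepth J A := by
  apply le_idealDepth_of_forall_localization J k A
  intro Q _ hJQ
  have h3 := hS Q
  rw [supportDim_locSelf] at h3
  have h4 : (k : ℕ∞) ≤ Q.height := le_trans hJ (Ideal.height_mono hJQ)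
  have h5 : (((k : ℕ) : ℕ∞) : WithBot ℕ∞) ≤
      min ((k : ℕ) : WithBot ℕ∞) (Q.height : WithBot ℕ∞) := by
    apply le_min
    · exact le_rfl
    · exact WithBot.coe_le_coe.2 h4
  exact WithBot.coe_le_coe.1 (le_trans h5 h3)

/-- reflexivity from reflexivity off `V(J)` and depth conditions. -/
theorem isReflexive_of_off (J : Ideal A) (L : Type u) [AddCommGroup L] [Module A L]
    [Module.Finite A L] (hL : 2 ≤ LocCoh.idealDepth J L) (hA : 1 ≤ LocCoh.idealDepth J A)
    (hoff : ∀ q : Ideal A, ∀ [q.IsPrime], ¬ J ≤ q →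
      Module.IsReflexive (Localization.AtPrime q) (LocalizedModule q.primeCompl L)) :
    Module.IsReflexive A L := by
  haveI : Module.FinitePresentation A L := Module.finitePresentation_of_finite A L
  haveI : Module.Finite A (Module.Dual A L) := finite_hom L A
  haveI : Module.FinitePresentation A (Module.Dual A L) :=
    Module.finitePresentation_of_finite A _
  haveI : Module.Finite A (Module.Dual A (Module.Dual A L)) := finite_hom (Module.Dual A L) A
  have hB : 1 ≤ LocCoh.idealDepth J (Module.Dual A (Module.Dual A L)) :=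
    (idealDepth_hom J (Module.Dual A L) A).1 hA
  have hL1 : 1 ≤ LocCoh.idealDepth J L := le_trans (by norm_num) hL
  have hinj : Function.Injective (Module.Dual.eval A L) := by
    rw [injective_iff_map_eq_zero]
    intro k hk
    apply eq_zero_of_one_le_idealDepth L J hL1 k
    intro q hq hJq
    haveI := hq
    haveI := hoff q hJq
    obtain ⟨s, hs, hsk⟩ := exists_smul_eq_zero_of_eval_eq_zero q.primeCompl
      (Localization.AtPrime q) (LocalizedModule.mkLinearMap q.primeCompl L)
      (Module.bijective_dual_eval _ _).1 k hk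
    exact ⟨s, hs, hsk⟩
  have hsurj : Function.Surjective (Module.Dual.eval A L) := by
    intro θ
    have hC : 1 ≤ LocCoh.idealDepth J ((Module.Dual A (Module.Dual A L)) ⧸
        LinearMap.range (Module.Dual.eval A L)) := by
      have h := (depth_ses J L (Module.Dual A (Module.Dual A L))
        ((Module.Dual A (Module.Dual A L)) ⧸ LinearMap.range (Module.Dual.eval A L))
        (Module.Dual.eval A L) (LinearMap.range (Module.Dual.eval A L)).mkQ hinj
        (Submodule.mkQ_surjective _) (LinearMap.exact_map_mkQ_range _)).2.1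
      refine le_trans (le_min hB ?_) h
      exact ENat.le_sub_of_add_le_right (by simp) (by rw [one_add_one_eq_two]; exact hL)
    have h0 : (LinearMap.range (Module.Dual.eval A L)).mkQ θ = 0 := by
      apply eq_zero_of_one_le_idealDepth _ J hC
      intro q hq hJq
      haveI := hq
      haveI := hoff q hJq
      obtain ⟨s, hs, hsθ⟩ := exists_smul_mem_range_eval q.primeCompl (Localization.AtPrime q)
        (LocalizedModule.mkLinearMap q.primeCompl L) (Module.bijective_dual_eval _ _).2 θ
      refine ⟨s, hs, ?_⟩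
      rw [← map_smul]
      exact (Submodule.Quotient.mk_eq_zero _).2 hsθ
    exact (Submodule.Quotient.mk_eq_zero _).1 h0
  exact ⟨⟨hinj, hsurj⟩⟩

end Gen

variable {A : Type u} [CommRing A] [IsNoetherianRing A] [IsLocalRing A]

theorem main (ω : Dual.D A) (hω : Dual.IsDualizing A ω) (n : ℕ) (hd : ringKrullDim A = n)
    (J : Ideal A) (hJ : 2 ≤ J.height)
    (hoff : ∀ p : PrimeSpectrum A, ¬ J ≤ p.asIdeal →
      (∀ i : ℤ, i ≠ 0 → p ∉ Module.support A (Dual.HD A ω i)) ∧
      Module.Free (Localization.AtPrime p.asIdeal)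
        (LocalizedModule p.asIdeal.primeCompl (Dual.HD A ω 0)) ∧
      Module.finrank (Localization.AtPrime p.asIdeal)
        (LocalizedModule p.asIdeal.primeCompl (Dual.HD A ω 0)) = 1) :
    (LocCoh.HasSk 1 A A →
      (EGA4.IsEquidim A ∧ Dual.IsNormalized A (ω⟦(n : ℤ)⟧)) ∧
      Module.IsReflexive A (Dual.HD A ω 0) ∧ LocCoh.HasSk 2 A (Dual.HD A ω 0)) ∧
    (LocCoh.HasSk 2 A A → ∀ m : ℕ,
      LocCoh.HasSk 2 A (Module.Dual A (Module.Dual A (TensorPower A m (Dual.HD A ω 0)))) ∧
      2 ≤ LocCoh.idealDepth J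
        (Module.Dual A (Module.Dual A (TensorPower A m (Dual.HD A ω 0))))) := by
  have hJ1 : 1 ≤ J.height := le_trans (by norm_num) hJ
  obtain ⟨⟨hequi, hnorm, hS2L⟩, hdepth⟩ := Groth.Agent.Lib.QGorOrd_helper1.main ω hω n hd J hJ1
    (fun p hp i hi => (hoff p hp).1 i hi)
  haveI : Module.Finite A (Dual.HD A ω 0) := hω.finite_cohomology 0
  refine ⟨fun hS1 => ⟨⟨hequi, hnorm⟩, ?_, hS2L⟩, fun hS2 m => ?_⟩
  · apply isReflexive_of_off J (Dual.HD A ω 0) (hdepth hJ)
    · exact_mod_cast le_idealDepth_self_of_hasSk 1 hS1 J (by exact_mod_cast hJ1)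
    · intro q hq hJq
      obtain ⟨-, hfree, -⟩ := hoff ⟨q, hq⟩ hJq
      haveI := hfree
      haveI : Module.Finite (Localization.AtPrime q)
          (LocalizedModule q.primeCompl (Dual.HD A ω 0)) :=
        Module.Finite.of_isLocalizedModule q.primeCompl
          (LocalizedModule.mkLinearMap q.primeCompl (Dual.HD A ω 0))
      exact Module.IsReflexive.of_finite_of_free _ _
  · haveI : Module.Finite A (TensorPower A m (Dual.HD A ω 0)) := inferInstance
    haveI : Module.Finite A (Module.Dual A (TensorPower A m (Dual.HD A ω 0))) :=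
      finite_hom _ A
    refine ⟨hasSk_hom (Module.Dual A (TensorPower A m (Dual.HD A ω 0))) A 2 le_rfl hS2, ?_⟩
    exact (idealDepth_hom J (Module.Dual A (TensorPower A m (Dual.HD A ω 0))) A).2
      (by exact_mod_cast le_idealDepth_self_of_hasSk 2 hS2 J (by exact_mod_cast hJ))

end Groth.Agent.Lib.QGorRefl_helper1
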