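import Mathlib

/-!
# Quasi-homeomorphisms (EGA IV 10.2) (helper6)
-/

set_option autoImplicit false
universe u
open TopologicalSpace Topology Set

namespace Groth.Agent.Lib.QuasiHomeo_helper6

variable {X Y : Type*} [TopologicalSpace X] [TopologicalSpace Y]

/-- `f` is a quasi-homeomorphism: taking preimages is a bijection on open subsets. -/
def QH (f : X → Y) : Prop :=
  (∀ U₁ U₂ : Set Y, IsOpen U₁ → IsOpen U₂ → f ⁻¹' U₁ = f ⁻¹' U₂ → U₁ = U₂) ∧
    (∀ V : Set X, IsOpen V → ∃ U : Set Y, IsOpen U ∧ f ⁻¹' U = V)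

theorem qh_iff_bijective {f : X → Y} (hf : Continuous f) :
    QH f ↔ Function.Bijective (fun U : Opens Y =>
      (⟨f ⁻¹' (U : Set Y), U.isOpen.preimage hf⟩ : Opens X)) := by
  constructor
  · rintro ⟨h1, h2⟩
    refine ⟨fun U₁ U₂ h => ?_, fun V => ?_⟩
    · apply Opens.ext
      exact h1 _ _ U₁.isOpen U₂.isOpen (congrArg (fun W : Opens X => (W : Set X)) h)
    · obtain ⟨U, hU, hUV⟩ := h2 V V.isOpen
      exact ⟨⟨U, hU⟩, Opens.ext hUV⟩
  · rintro ⟨h1, h2⟩
    refine ⟨fun U₁ U₂ hU₁ hU₂ h => ?_, fun V hV => ?_⟩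
    · have := @h1 ⟨U₁, hU₁⟩ ⟨U₂, hU₂⟩ (Opens.ext h)
      exact congrArg (fun W : Opens Y => (W : Set Y)) this
    · obtain ⟨U, hU⟩ := h2 ⟨V, hV⟩
      exact ⟨U, U.isOpen, congrArg (fun W : Opens X => (W : Set X)) hU⟩

namespace QH

variable {f : X → Y}

theorem preimage_subset_iff (hq : QH f) {A B : Set Y} (hA : IsOpen A) (hB : IsOpen B) :
    f ⁻¹' A ⊆ f ⁻¹' B ↔ A ⊆ B := by
  refine ⟨fun h => ?_, fun h => preimage_mono h⟩
  have h1 : f ⁻¹' (A ∩ B) = f ⁻¹' A := by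
    rw [preimage_inter]; exact inter_eq_left.2 h
  have := hq.1 _ _ (hA.inter hB) hA h1
  exact inter_eq_left.1 this

theorem isCompact_preimage_iff (hq : QH f) (hf : Continuous f) {U : Set Y} (hU : IsOpen U) :
    IsCompact (f ⁻¹' U) ↔ IsCompact U := by
  constructor
  · intro hc
    apply isCompact_of_finite_subcover
    intro ι O hO hUO
    have h1 : f ⁻¹' U ⊆ ⋃ i, f ⁻¹' O i := by
      rw [← preimage_iUnion]; exact preimage_mono hUO
    obtain ⟨t, ht⟩ := hc.elim_finite_subcover _ (fun i => (hO i).preimage hf) h1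
    refine ⟨t, ?_⟩
    refine (hq.preimage_subset_iff hU (isOpen_biUnion (s := (t : Set ι)) fun i _ => hO i)).1 ?_
    simp only [preimage_iUnion]
    exact ht
  · intro hc
    apply isCompact_of_finite_subcover
    intro ι V hV hUV
    choose O hO hOV using fun i => hq.2 (V i) (hV i)
    have h1 : U ⊆ ⋃ i, O i := by
      rw [← hq.preimage_subset_iff hU (isOpen_iUnion hO), preimage_iUnion]
      simpa only [hOV] using hUV
    obtain ⟨t, ht⟩ := hc.elim_finite_subcover _ hO h1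
    refine ⟨t, ?_⟩
    have := preimage_mono (f := f) ht
    simpa only [preimage_iUnion, hOV] using this

theorem compactSpace_iff (hq : QH f) (hf : Continuous f) : CompactSpace X ↔ CompactSpace Y := by
  rw [← isCompact_univ_iff, ← isCompact_univ_iff, ← hq.isCompact_preimage_iff hf isOpen_univ,
    preimage_univ]

theorem noetherianSpace_iff (hq : QH f) (hf : Continuous f) :
    NoetherianSpace X ↔ NoetherianSpace Y := by
  rw [noetherianSpace_iff_opens, noetherianSpace_iff_opens]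
  constructor
  · intro h U
    have := h ⟨f ⁻¹' U, U.isOpen.preimage hf⟩
    exact (hq.isCompact_preimage_iff hf U.isOpen).1 this
  · intro h V
    obtain ⟨U, hU, hUV⟩ := hq.2 V V.isOpen
    have := (hq.isCompact_preimage_iff hf hU).2 (h ⟨U, hU⟩)
    rw [hUV] at this; exact this

theorem eq_empty_of_isLocallyClosed (hq : QH f) (hf : Continuous f) {L : Set Y}
    (hL : IsLocallyClosed L) (h : f ⁻¹' L = ∅) : L = ∅ := by
  obtain ⟨U, Z, hU, hZ, rfl⟩ := hL
  have h1 : f ⁻¹' U ⊆ f ⁻¹' Zᶜ := by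
    intro x hxU hxZ
    have : x ∈ f ⁻¹' (U ∩ Z) := ⟨hxU, hxZ⟩
    rw [h] at this; exact this
  have h2 := (hq.preimage_subset_iff hU hZ.isOpen_compl).1 h1
  ext y
  simp only [mem_inter_iff, mem_empty_iff_false, iff_false, not_and]
  exact fun hyU hyZ => h2 hyU hyZ

/-- `Y'` is locally a union of locally closed subsets. -/
def LQC (Y' : Set Y) : Prop :=
  ∀ y : Y, ∃ U : Set Y, IsOpen U ∧ y ∈ U ∧ ∃ T : Set (Set Y), T.Finite ∧
    (∀ t ∈ T, IsLocallyClosed t) ∧ U ∩ Y' = ⋃₀ T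

theorem lqc_inter_open {Y' : Set Y} (h : LQC Y') {O : Set Y} (hO : IsOpen O) : LQC (O ∩ Y') := by
  intro y
  obtain ⟨U, hU, hyU, T, hT, hTl, hUT⟩ := h y
  refine ⟨U, hU, hyU, (fun t => O ∩ t) '' T, hT.image _, ?_, ?_⟩
  · rintro _ ⟨t, ht, rfl⟩
    exact hO.isLocallyClosed.inter (hTl t ht)
  · rw [sUnion_image, ← inter_iUnion₂, ← sUnion_eq_biUnion, ← hUT]
    ext z; simp only [mem_inter_iff]; tauto

theorem restrict (hq : QH f) (hf : Continuous f) {Y' : Set Y} (hY' : LQC Y') :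
    QH (Y'.restrictPreimage f) := by
  refine ⟨fun U₁ U₂ hU₁ hU₂ h => ?_, fun V hV => ?_⟩
  · obtain ⟨O₁, hO₁, rfl⟩ := isOpen_induced_iff.1 hU₁
    obtain ⟨O₂, hO₂, rfl⟩ := isOpen_induced_iff.1 hU₂
    have key : ∀ (A B : Set Y), IsOpen A → IsOpen B →
        (Y'.restrictPreimage f) ⁻¹' (Subtype.val ⁻¹' A) =
          (Y'.restrictPreimage f) ⁻¹' (Subtype.val ⁻¹' B) →
        ∀ y : Y', y.1 ∈ A → y.1 ∈ B := by
      intro A B hA hB hAB ⟨y, hy⟩ hyA
      by_contra hyB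
      obtain ⟨N, hN, hyN, T, -, hTl, hNT⟩ := hY' y
      have hyT : y ∈ ⋃₀ T := by rw [← hNT]; exact ⟨hyN, hy⟩
      obtain ⟨t, ht, hyt⟩ := hyT
      have hL : IsLocallyClosed (t ∩ A ∩ Bᶜ) :=
        ((hTl t ht).inter hA.isLocallyClosed).inter hB.isClosed_compl.isLocallyClosed
      have hempty : f ⁻¹' (t ∩ A ∩ Bᶜ) = ∅ := by
        ext x
        simp only [mem_preimage, mem_inter_iff, mem_compl_iff, mem_empty_iff_false, iff_false,
          not_and, not_not]
        rintro ⟨hxt, hxA⟩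
        have hxY' : f x ∈ Y' := by
          have : f x ∈ ⋃₀ T := ⟨t, ht, hxt⟩
          rw [← hNT] at this; exact this.2
        have h1 : (⟨x, hxY'⟩ : ↥(f ⁻¹' Y')) ∈
            (Y'.restrictPreimage f) ⁻¹' (Subtype.val ⁻¹' A) := hxA
        rw [hAB] at h1
        exact h1
      have := hq.eq_empty_of_isLocallyClosed hf hL hempty
      have hy' : y ∈ t ∩ A ∩ Bᶜ := ⟨⟨hyt, hyA⟩, hyB⟩
      rw [this] at hy'; exact hy'
    ext y
    exact ⟨key O₁ O₂ hO₁ hO₂ h y, key O₂ O₁ hO₂ hO₁ h.symm y⟩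
  · obtain ⟨V₀, hV₀, rfl⟩ := isOpen_induced_iff.1 hV
    obtain ⟨U₀, hU₀, rfl⟩ := hq.2 V₀ hV₀
    exact ⟨Subtype.val ⁻¹' U₀, hU₀.preimage continuous_subtype_val, rfl⟩

theorem isCompact_iff_of_lqc (hq : QH f) (hf : Continuous f) {Y' : Set Y} (hY' : LQC Y') :
    IsCompact Y' ↔ IsCompact (f ⁻¹' Y') := by
  rw [isCompact_iff_compactSpace, isCompact_iff_compactSpace]
  exact ((hq.restrict hf hY').compactSpace_iff (hf.restrictPreimage)).symm

theorem noetherianSpace_iff_of_lqc (hq : QH f) (hf : Continuous f) {Y' : Set Y} (hY' : LQC Y') :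
    NoetherianSpace ↥Y' ↔ NoetherianSpace ↥(f ⁻¹' Y') :=
  ((hq.restrict hf hY').noetherianSpace_iff (hf.restrictPreimage)).symm

theorem retrocompact_iff (hq : QH f) (hf : Continuous f) {Y' : Set Y} (hY' : LQC Y') :
    (∀ U : Set Y, IsOpen U → IsCompact U → IsCompact (U ∩ Y')) ↔
      (∀ V : Set X, IsOpen V → IsCompact V → IsCompact (V ∩ f ⁻¹' Y')) := by
  constructor
  · intro h V hV hVc
    obtain ⟨U, hU, rfl⟩ := hq.2 V hV
    have hUc := (hq.isCompact_preimage_iff hf hU).1 hVc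
    have := (hq.isCompact_iff_of_lqc hf (lqc_inter_open hY' hU)).1 (h U hU hUc)
    rwa [preimage_inter] at this
  · intro h U hU hUc
    have hVc := (hq.isCompact_preimage_iff hf hU).2 hUc
    have := h _ (hU.preimage hf) hVc
    rw [← preimage_inter] at this
    exact (hq.isCompact_iff_of_lqc hf (lqc_inter_open hY' hU)).2 this

/-- Being a quasi-homeomorphism is local on the target. -/
theorem of_openCover {ι : Type*} (W : ι → Set Y) (hWo : ∀ i, IsOpen (W i))
    (hWc : ⋃ i, W i = univ) (h : ∀ i, QH ((W i).restrictPreimage f)) : QH f := by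
  refine ⟨fun U₁ U₂ hU₁ hU₂ hU => ?_, fun V hV => ?_⟩
  · have key : ∀ A B : Set Y, IsOpen A → IsOpen B → f ⁻¹' A = f ⁻¹' B → A ⊆ B := by
      intro A B hA hB hAB y hyA
      have hy : y ∈ ⋃ i, W i := by rw [hWc]; trivial
      obtain ⟨i, hyi⟩ := mem_iUnion.1 hy
      have h1 : ((W i).restrictPreimage f) ⁻¹' (Subtype.val ⁻¹' A) =
          ((W i).restrictPreimage f) ⁻¹' (Subtype.val ⁻¹' B) := by
        ext ⟨x, hx⟩
        change f x ∈ A ↔ f x ∈ B
        exact Set.ext_iff.1 hAB x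
      have h2 := (h i).1 _ _ (hA.preimage continuous_subtype_val)
        (hB.preimage continuous_subtype_val) h1
      have : (⟨y, hyi⟩ : ↥(W i)) ∈ (Subtype.val ⁻¹' A : Set ↥(W i)) := hyA
      rw [h2] at this; exact this
    exact Subset.antisymm (key _ _ hU₁ hU₂ hU) (key _ _ hU₂ hU₁ hU.symm)
  · have hex : ∀ i, ∃ U : Set ↥(W i), IsOpen U ∧
        ((W i).restrictPreimage f) ⁻¹' U = (Subtype.val ⁻¹' V : Set ↥(f ⁻¹' W i)) :=
      fun i => (h i).2 _ (hV.preimage continuous_subtype_val)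
    choose U hUo hUV using hex
    refine ⟨⋃ i, Subtype.val '' U i, isOpen_iUnion fun i =>
      (hWo i).isOpenEmbedding_subtypeVal.isOpenMap _ (hUo i), ?_⟩
    ext x
    simp only [mem_preimage, mem_iUnion, mem_image, Subtype.exists, exists_and_right,
      exists_eq_right]
    constructor
    · rintro ⟨i, hxi, hxU⟩
      have : (⟨x, hxi⟩ : ↥(f ⁻¹' W i)) ∈ ((W i).restrictPreimage f) ⁻¹' U i := hxU
      rw [hUV i] at this; exact this
    · intro hxV
      have hy : f x ∈ ⋃ i, W i := by rw [hWc]; trivial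
      obtain ⟨i, hxi⟩ := mem_iUnion.1 hy
      refine ⟨i, hxi, ?_⟩
      have : (⟨x, hxi⟩ : ↥(f ⁻¹' W i)) ∈ (Subtype.val ⁻¹' V : Set ↥(f ⁻¹' W i)) := hxV
      rw [← hUV i] at this; exact this

end QH

end Groth.Agent.Lib.QuasiHomeo_helper6
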