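import Mathlib
import Groth.Agent.Lib.QuasiHomeo_helper6

set_option maxHeartbeats 400000
set_option autoImplicit false

open TopologicalSpace Topology Set

namespace Groth.Agent.Lib.QHConstr

open Groth.Agent.Lib.QuasiHomeo_helper6

universe u

section ULC
variable {S : Type*} [TopologicalSpace S]

def ULC (E : Set S) : Prop := ∀ x ∈ E, ∃ L : Set S, IsLocallyClosed L ∧ x ∈ L ∧ L ⊆ E

theorem ulc_of_isLocallyClosed {L : Set S} (hL : IsLocallyClosed L) : ULC L :=
  fun x hx => ⟨L, hL, hx, Subset.rfl⟩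

theorem ULC.union {A B : Set S} (hA : ULC A) (hB : ULC B) : ULC (A ∪ B) := by
  rintro x (hx | hx)
  · obtain ⟨L, hL, hxL, hLA⟩ := hA x hx
    exact ⟨L, hL, hxL, hLA.trans subset_union_left⟩
  · obtain ⟨L, hL, hxL, hLB⟩ := hB x hx
    exact ⟨L, hL, hxL, hLB.trans subset_union_right⟩

theorem ULC.inter {A B : Set S} (hA : ULC A) (hB : ULC B) : ULC (A ∩ B) := by
  rintro x ⟨hxA, hxB⟩
  obtain ⟨L, hL, hxL, hLA⟩ := hA x hxA
  obtain ⟨M, hM, hxM, hMB⟩ := hB x hxB
  exact ⟨L ∩ M, hL.inter hM, ⟨hxL, hxM⟩, inter_subset_inter hLA hMB⟩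

def BLC (E : Set S) : Prop := ULC E ∧ ULC Eᶜ

theorem BLC.compl {E : Set S} (h : BLC E) : BLC Eᶜ := ⟨h.2, by rw [compl_compl]; exact h.1⟩

theorem BLC.union {A B : Set S} (hA : BLC A) (hB : BLC B) : BLC (A ∪ B) :=
  ⟨hA.1.union hB.1, by rw [compl_union]; exact hA.2.inter hB.2⟩

theorem BLC.inter {A B : Set S} (hA : BLC A) (hB : BLC B) : BLC (A ∩ B) :=
  ⟨hA.1.inter hB.1, by rw [compl_inter]; exact hA.2.union hB.2⟩

theorem blc_of_isOpen {U : Set S} (hU : IsOpen U) : BLC U :=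
  ⟨ulc_of_isLocallyClosed hU.isLocallyClosed,
    ulc_of_isLocallyClosed hU.isClosed_compl.isLocallyClosed⟩

theorem blc_of_isClosed {C : Set S} (hC : IsClosed C) : BLC C :=
  ⟨ulc_of_isLocallyClosed hC.isLocallyClosed,
    ulc_of_isLocallyClosed hC.isOpen_compl.isLocallyClosed⟩

theorem blc_of_isLocallyClosed {L : Set S} (hL : IsLocallyClosed L) : BLC L := by
  obtain ⟨O, C, hO, hC, rfl⟩ := hL
  exact (blc_of_isOpen hO).inter (blc_of_isClosed hC)

theorem blc_of_isConstructible {E : Set S} (hE : IsConstructible E) : BLC E := by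
  induction hE using IsConstructible.empty_union_induction with
  | open_retrocompact U hUopen hUcomp => exact blc_of_isOpen hUopen
  | union s hs t ht hs' ht' => exact hs'.union ht'
  | compl s hs hs' => exact hs'.compl

theorem ulc_image_val {U : Set S} (hU : IsOpen U) {E : Set ↥U} (hE : ULC E) :
    ULC (Subtype.val '' E) := by
  rintro _ ⟨x, hx, rfl⟩
  obtain ⟨L', hL', hxL', hL'E⟩ := hE x hx
  obtain ⟨L'', hL'', rfl⟩ := Topology.IsInducing.subtypeVal.isLocallyClosed_iff.mp hL'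
  refine ⟨Subtype.val '' (Subtype.val ⁻¹' L'' : Set ↥U), ?_, ⟨x, hxL', rfl⟩, image_mono hL'E⟩
  rw [Subtype.image_preimage_coe]
  exact hU.isLocallyClosed.inter hL''

theorem ulc_of_locally {F : Set S}
    (hF : ∀ x, ∃ U ∈ 𝓝 x, IsOpen U ∧ ULC (Subtype.val ⁻¹' F : Set ↥U)) : ULC F := by
  intro x hx
  obtain ⟨U, hUx, hU, h1⟩ := hF x
  have hxU : x ∈ U := mem_of_mem_nhds hUx
  obtain ⟨L, hL, hxL, hLF⟩ := ulc_image_val hU h1 x ⟨⟨x, hxU⟩, hx, rfl⟩
  refine ⟨L, hL, hxL, hLF.trans ?_⟩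
  rintro _ ⟨y, hy, rfl⟩
  exact hy

theorem blc_of_isLocallyConstructible {E : Set S} (hE : IsLocallyConstructible E) : BLC E := by
  refine ⟨ulc_of_locally fun x => ?_, ulc_of_locally fun x => ?_⟩
  · obtain ⟨U, hUx, hU, hUE⟩ := hE x
    exact ⟨U, hUx, hU, (blc_of_isConstructible hUE).1⟩
  · obtain ⟨U, hUx, hU, hUE⟩ := hE x
    exact ⟨U, hUx, hU, (blc_of_isConstructible hUE).2⟩

end ULC

variable {X Y : Type u} [TopologicalSpace X] [TopologicalSpace Y]

theorem eq_empty_of_ulc {f : X → Y} (hq : QH f) (hf : Continuous f) {D : Set Y} (hD : ULC D)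
    (h : f ⁻¹' D = ∅) : D = ∅ := by
  by_contra hne
  obtain ⟨y, hy⟩ := nonempty_iff_ne_empty.mpr hne
  obtain ⟨L, hL, hyL, hLD⟩ := hD y hy
  have : f ⁻¹' L = ∅ := by
    apply subset_empty_iff.mp
    rw [← h]
    exact preimage_mono hLD
  have hL0 := hq.eq_empty_of_isLocallyClosed hf hL this
  rw [hL0] at hyL
  exact (mem_empty_iff_false y).mp hyL

theorem subset_of_preimage_subset {f : X → Y} (hq : QH f) (hf : Continuous f) {A B : Set Y}
    (hA : ULC A) (hB : ULC Bᶜ) (h : f ⁻¹' A ⊆ f ⁻¹' B) : A ⊆ B := by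
  have h0 : A ∩ Bᶜ = ∅ := by
    apply eq_empty_of_ulc hq hf (hA.inter hB)
    apply subset_empty_iff.mp
    rintro x ⟨hxA, hxB⟩
    exact hxB (h hxA)
  intro y hyA
  by_contra hyB
  have : y ∈ A ∩ Bᶜ := ⟨hyA, hyB⟩
  rw [h0] at this
  exact (mem_empty_iff_false y).mp this

theorem eq_of_preimage_eq {f : X → Y} (hq : QH f) (hf : Continuous f) {A B : Set Y}
    (hA : BLC A) (hB : BLC B) (h : f ⁻¹' A = f ⁻¹' B) : A = B :=
  Subset.antisymm (subset_of_preimage_subset hq hf hA.1 hB.2 h.subset)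
    (subset_of_preimage_subset hq hf hB.1 hA.2 h.symm.subset)

theorem retrocompact_preimage {f : X → Y} (hq : QH f) (hf : Continuous f) {U : Set Y}
    (hU : IsOpen U) (hr : IsRetrocompact U) : IsRetrocompact (f ⁻¹' U) := by
  intro V hVc hVo
  obtain ⟨U', hU', rfl⟩ := hq.2 V hVo
  have hU'c : IsCompact U' := (hq.isCompact_preimage_iff hf hU').1 hVc
  rw [← preimage_inter]
  exact (hq.isCompact_preimage_iff hf (hU.inter hU')).2 (hr hU'c hU')

theorem retrocompact_of_preimage {f : X → Y} (hq : QH f) (hf : Continuous f) {U : Set Y}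
    (hU : IsOpen U) (hr : IsRetrocompact (f ⁻¹' U)) : IsRetrocompact U := by
  intro U' hU'c hU'o
  have h1 : IsCompact (f ⁻¹' U') := (hq.isCompact_preimage_iff hf hU'o).2 hU'c
  have h2 := hr h1 (hU'o.preimage hf)
  rw [← preimage_inter] at h2
  exact (hq.isCompact_preimage_iff hf (hU.inter hU'o)).1 h2

theorem constructible_preimage {f : X → Y} (hq : QH f) (hf : Continuous f) {Z : Set Y}
    (hZ : IsConstructible Z) : IsConstructible (f ⁻¹' Z) :=
  hZ.preimage hf (fun _ hs hr => retrocompact_preimage hq hf hs hr)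

theorem constructible_surj {f : X → Y} (hq : QH f) (hf : Continuous f) {W : Set X}
    (hW : IsConstructible W) : ∃ Z : Set Y, IsConstructible Z ∧ f ⁻¹' Z = W := by
  induction hW using IsConstructible.empty_union_induction with
  | open_retrocompact V hVopen hVcomp =>
    obtain ⟨U, hU, rfl⟩ := hq.2 V hVopen
    exact ⟨U, (retrocompact_of_preimage hq hf hU hVcomp).isConstructible hU, rfl⟩
  | union s hs t ht hs' ht' =>
    obtain ⟨Zs, hZs, rfl⟩ := hs'
    obtain ⟨Zt, hZt, rfl⟩ := ht'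
    exact ⟨Zs ∪ Zt, hZs.union hZt, preimage_union⟩
  | compl s hs hs' =>
    obtain ⟨Zs, hZs, rfl⟩ := hs'
    exact ⟨Zsᶜ, hZs.compl, preimage_compl⟩

theorem lqc_of_isOpen {U : Set Y} (hU : IsOpen U) : QH.LQC U := by
  intro y
  exact ⟨univ, isOpen_univ, mem_univ y, {U}, finite_singleton U,
    fun t ht => by rw [mem_singleton_iff.mp ht]; exact hU.isLocallyClosed,
    by rw [univ_inter, sUnion_singleton]⟩

theorem locConstr_preimage {f : X → Y} (hq : QH f) (hf : Continuous f) {E : Set Y}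
    (hE : IsLocallyConstructible E) : IsLocallyConstructible (f ⁻¹' E) := by
  intro x
  obtain ⟨U, hUx, hU, hUE⟩ := hE (f x)
  refine ⟨f ⁻¹' U, hf.continuousAt.preimage_mem_nhds hUx, hU.preimage hf, ?_⟩
  have hqU := hq.restrict hf (lqc_of_isOpen hU)
  have := constructible_preimage hqU hf.restrictPreimage hUE
  exact this

theorem locConstr_surj {f : X → Y} (hq : QH f) (hf : Continuous f) {W : Set X}
    (hW : IsLocallyConstructible W) : ∃ E : Set Y, IsLocallyConstructible E ∧ f ⁻¹' E = W := by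
  have key : ∀ x : X, ∃ (U P : Set Y), IsOpen U ∧ f x ∈ U ∧ P ⊆ U ∧ ULC P ∧ ULC (U \ P) ∧
      IsConstructible (Subtype.val ⁻¹' P : Set ↥U) ∧ f ⁻¹' P = f ⁻¹' U ∩ W := by
    intro x
    obtain ⟨V, hVx, hV, hVW⟩ := hW x
    obtain ⟨U, hU, rfl⟩ := hq.2 V hV
    have hxU : f x ∈ U := (mem_of_mem_nhds hVx : x ∈ f ⁻¹' U)
    have hqU := hq.restrict hf (lqc_of_isOpen hU)
    obtain ⟨E', hE', hE'W⟩ := constructible_surj hqU hf.restrictPreimage hVW
    have hb := blc_of_isConstructible hE'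
    refine ⟨U, Subtype.val '' E', hU, hxU, ?_, ulc_image_val hU hb.1, ?_, ?_, ?_⟩
    · rintro _ ⟨y, _, rfl⟩; exact y.2
    · have hEq : U \ Subtype.val '' E' = Subtype.val '' E'ᶜ := by
        ext y
        constructor
        · rintro ⟨hyU, hyE⟩
          exact ⟨⟨y, hyU⟩, fun h => hyE ⟨⟨y, hyU⟩, h, rfl⟩, rfl⟩
        · rintro ⟨z, hz, rfl⟩
          refine ⟨z.2, ?_⟩
          rintro ⟨w, hw, hwz⟩
          exact hz (by rw [← Subtype.ext hwz]; exact hw)
      rw [hEq]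
      exact ulc_image_val hU hb.2
    · rw [preimage_image_eq _ Subtype.val_injective]; exact hE'
    · ext z
      constructor
      · rintro ⟨y, hy, hyz⟩
        have hzU : z ∈ f ⁻¹' U := by show f z ∈ U; rw [← hyz]; exact y.2
        have h1 : (⟨z, hzU⟩ : ↥(f ⁻¹' U)) ∈ (U.restrictPreimage f) ⁻¹' E' := by
          show U.restrictPreimage f ⟨z, hzU⟩ ∈ E'
          have : U.restrictPreimage f ⟨z, hzU⟩ = y :=
            Subtype.ext (by show f z = y.1; exact hyz.symm)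
          rw [this]; exact hy
        rw [hE'W] at h1
        exact ⟨hzU, h1⟩
      · rintro ⟨hzU, hzW⟩
        have h1 : (⟨z, hzU⟩ : ↥(f ⁻¹' U)) ∈ (Subtype.val ⁻¹' W : Set ↥(f ⁻¹' U)) := hzW
        rw [← hE'W] at h1
        exact ⟨U.restrictPreimage f ⟨z, hzU⟩, h1, rfl⟩
  choose U P hU hxU hPU hP hN hPc hfP using key
  have hcover : ∀ y : Y, ∃ x : X, y ∈ U x := by
    have h1 : f ⁻¹' (⋃ x, U x) = f ⁻¹' univ := by
      ext z
      simp only [preimage_univ, mem_univ, iff_true]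
      exact (mem_iUnion.mpr ⟨z, hxU z⟩ : f z ∈ ⋃ x, U x)
    have h2 := hq.1 _ _ (isOpen_iUnion hU) isOpen_univ h1
    intro y
    have : y ∈ ⋃ x, U x := by rw [h2]; exact mem_univ y
    exact mem_iUnion.mp this
  have hcons : ∀ x x' : X, P x ∩ U x' ⊆ P x' := by
    intro x x'
    have hD : P x ∩ (U x' \ P x') = ∅ := by
      apply eq_empty_of_ulc hq hf ((hP x).inter (hN x'))
      apply subset_empty_iff.mp
      rintro z ⟨hzP, hzU', hzP'⟩
      have h1 : z ∈ f ⁻¹' U x ∩ W := by rw [← hfP x]; exact hzP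
      have h2 : z ∈ f ⁻¹' P x' := by rw [hfP x']; exact ⟨hzU', h1.2⟩
      exact hzP' h2
    rintro y ⟨hyP, hyU'⟩
    by_contra hyP'
    have : y ∈ P x ∩ (U x' \ P x') := ⟨hyP, hyU', hyP'⟩
    rw [hD] at this
    exact (mem_empty_iff_false y).mp this
  refine ⟨⋃ x, P x, ?_, ?_⟩
  · intro y
    obtain ⟨x', hyx'⟩ := hcover y
    refine ⟨U x', (hU x').mem_nhds hyx', hU x', ?_⟩
    have hEq : (Subtype.val ⁻¹' (⋃ x, P x) : Set ↥(U x')) = Subtype.val ⁻¹' (P x') := by
      ext w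
      constructor
      · intro hw
        obtain ⟨x, hwx⟩ := mem_iUnion.mp (hw : (w : Y) ∈ ⋃ x, P x)
        exact hcons x x' ⟨hwx, w.2⟩
      · intro hw
        exact (mem_iUnion.mpr ⟨x', hw⟩ : (w : Y) ∈ ⋃ x, P x)
    rw [hEq]
    exact hPc x'
  · ext z
    constructor
    · intro hz
      obtain ⟨x, hzx⟩ := mem_iUnion.mp (hz : f z ∈ ⋃ x, P x)
      have : z ∈ f ⁻¹' U x ∩ W := by rw [← hfP x]; exact hzx
      exact this.2
    · intro hz
      have : z ∈ f ⁻¹' P z := by rw [hfP z]; exact ⟨hxU z, hz⟩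
      exact (mem_iUnion.mpr ⟨z, this⟩ : f z ∈ ⋃ x, P x)

theorem main (f : X → Y) (hf : Continuous f)
    (hq : Function.Bijective (fun U : TopologicalSpace.Opens Y =>
      (⟨f ⁻¹' (U : Set Y), U.isOpen.preimage hf⟩ : TopologicalSpace.Opens X))) :
    Function.Bijective (fun Z : {Z : Set Y // IsLocallyClosed Z} =>
        (⟨f ⁻¹' Z.1, Z.2.preimage hf⟩ : {Z : Set X // IsLocallyClosed Z})) ∧
      Set.BijOn (fun Z : Set Y => f ⁻¹' Z) {Z | Topology.IsConstructible Z}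
        {Z | Topology.IsConstructible Z} ∧
      Set.BijOn (fun Z : Set Y => f ⁻¹' Z) {Z | Topology.IsLocallyConstructible Z}
        {Z | Topology.IsLocallyConstructible Z} := by
  have hq' : QH f := (qh_iff_bijective hf).2 hq
  refine ⟨⟨?_, ?_⟩, ⟨?_, ?_, ?_⟩, ⟨?_, ?_, ?_⟩⟩
  · intro Z₁ Z₂ h
    apply Subtype.ext
    exact eq_of_preimage_eq hq' hf (blc_of_isLocallyClosed Z₁.2) (blc_of_isLocallyClosed Z₂.2)
      (congrArg Subtype.val h)
  · rintro ⟨W, hW⟩
    have hW' := hW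
    obtain ⟨V, C, hV, hC, hWeq⟩ := hW'
    obtain ⟨U, hU, hUV⟩ := hq'.2 V hV
    obtain ⟨O, hO, hOC⟩ := hq'.2 Cᶜ hC.isOpen_compl
    refine ⟨⟨U ∩ Oᶜ, hU.isLocallyClosed.inter hO.isClosed_compl.isLocallyClosed⟩,
      Subtype.ext ?_⟩
    show f ⁻¹' (U ∩ Oᶜ) = W
    rw [hWeq, preimage_inter, preimage_compl, hOC, compl_compl, hUV]
  · intro Z hZ; exact constructible_preimage hq' hf hZ
  · intro A hA B hB h
    exact eq_of_preimage_eq hq' hf (blc_of_isConstructible hA) (blc_of_isConstructible hB) h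
  · intro W hW
    obtain ⟨Z, hZ, hZW⟩ := constructible_surj hq' hf hW
    exact ⟨Z, hZ, hZW⟩
  · intro Z hZ; exact locConstr_preimage hq' hf hZ
  · intro A hA B hB h
    exact eq_of_preimage_eq hq' hf (blc_of_isLocallyConstructible hA)
      (blc_of_isLocallyConstructible hB) h
  · intro W hW
    obtain ⟨Z, hZ, hZW⟩ := locConstr_surj hq' hf hW
    exact ⟨Z, hZ, hZW⟩

end Groth.Agent.Lib.QHConstr
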