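import Groth.Agent.Lib.QLin_helper1

/-!
# Frobenius-semilinear maps on finite modules over integral algebras (helper1)
-/

set_option autoImplicit false

namespace Groth.Agent.Lib.QLinIntH1

universe u v w

theorem main15362 (p : ℕ) [Fact p.Prime]
    (L : Type u) [Field L] [IsAlgClosed L] [CharP L p]
    (R : Type v) [CommRing R] [Algebra L R] [Algebra.IsIntegral L R] [ExpChar R p]
    (M : Type w) [AddCommGroup M] [Module R M] [Module.FinitePresentation R M]
    (φ : M →ₛₗ[frobenius R p] M) :
    Function.Surjective fun m : M => φ m - m := by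
  classical
  letI : Module L M := Module.compHom M (algebraMap L R)
  have hsmul : ∀ (a : L) (m : M), a • m = (algebraMap L R a) • m := fun _ _ => rfl
  have hφL : ∀ (a : L) (m : M), φ (a • m) = a ^ p • φ m := by
    intro a m
    rw [hsmul, hsmul, map_smulₛₗ, frobenius_def, map_pow]
  intro x
  obtain ⟨n, g, hg⟩ := Module.Finite.exists_fin (R := R) (M := M)
  have hrep : ∀ m : M, ∃ c : Fin n → R, ∑ i, c i • g i = m := by
    intro m
    have hm : m ∈ Submodule.span R (Set.range g) := by rw [hg]; trivial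
    exact (Submodule.mem_span_range_iff_exists_fun R).1 hm
  choose rr hrr using fun i => hrep (φ (g i))
  obtain ⟨xc, hxc⟩ := hrep x
  let S : Set R := (Set.range fun ij : Fin n × Fin n => rr ij.1 ij.2) ∪ Set.range xc
  have hSfin : S.Finite := (Set.finite_range _).union (Set.finite_range _)
  let R0 : Subalgebra L R := Algebra.adjoin L S
  haveI : Module.Finite L R0 :=
    Algebra.finite_adjoin_of_finite_of_isIntegral hSfin
      (fun r _ => Algebra.IsIntegral.isIntegral r)
  have hrrmem : ∀ i j, rr i j ∈ R0 := fun i j =>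
    Algebra.subset_adjoin (Or.inl ⟨(i, j), rfl⟩)
  have hxcmem : ∀ i, xc i ∈ R0 := fun i => Algebra.subset_adjoin (Or.inr ⟨i, rfl⟩)
  let Ψ : (Fin n → R0) →ₗ[L] M :=
    { toFun := fun c => ∑ i, ((c i : R0) : R) • g i
      map_add' := fun c d => by
        simp only [Pi.add_apply, Subalgebra.coe_add, add_smul, Finset.sum_add_distrib]
      map_smul' := fun a c => by
        simp only [Pi.smul_apply, RingHom.id_apply, Finset.smul_sum]
        refine Finset.sum_congr rfl (fun i _ => ?_)
        rw [hsmul, smul_smul, ← Algebra.smul_def]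
        rfl }
  have hΨ : ∀ c, Ψ c = ∑ i, ((c i : R0) : R) • g i := fun _ => rfl
  let Vs : Submodule L M := LinearMap.range Ψ
  haveI : Module.Finite L Vs := Module.Finite.range Ψ
  have hφV : ∀ v ∈ Vs, φ v ∈ Vs := by
    rintro _ ⟨c, rfl⟩
    refine ⟨fun j => ∑ i, (c i) ^ p * ⟨rr i j, hrrmem i j⟩, ?_⟩
    rw [hΨ, hΨ, map_sum]
    have h1 : ∀ i, φ (((c i : R0) : R) • g i) = ∑ j, (((c i : R0) : R) ^ p * rr i j) • g j := by
      intro i
      rw [map_smulₛₗ, frobenius_def, ← hrr i, Finset.smul_sum]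
      refine Finset.sum_congr rfl (fun j _ => ?_)
      rw [smul_smul]
    simp only [h1]
    rw [Finset.sum_comm]
    refine Finset.sum_congr rfl (fun j _ => ?_)
    rw [← Finset.sum_smul]
    congr 1
    simp
  let F' : Vs →+ Vs :=
    { toFun := fun v => ⟨φ (v : M), hφV (v : M) v.2⟩
      map_zero' := Subtype.ext (map_zero φ)
      map_add' := fun v w => Subtype.ext (map_add φ (v : M) (w : M)) }
  have hF' : ∀ (a : L) (v : Vs), F' (a • v) = a ^ (p ^ 1) • F' v := by
    intro a v
    apply Subtype.ext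
    show φ (a • (v : M)) = a ^ (p ^ 1) • φ (v : M)
    rw [pow_one, hφL]
  have hxV : x ∈ Vs := by
    refine ⟨fun i => ⟨xc i, hxcmem i⟩, ?_⟩
    rw [hΨ]
    exact hxc
  obtain ⟨v, hv⟩ := Groth.Agent.Lib.QLinH1.main3213 L p 1 Nat.one_pos Vs F' hF' (-⟨x, hxV⟩)
  have h1 : (v : M) - φ (v : M) = -x := congrArg Subtype.val hv
  refine ⟨(v : M), ?_⟩
  show φ (v : M) - (v : M) = x
  rw [← neg_sub, h1, neg_neg]

end Groth.Agent.Lib.QLinIntH1
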