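import Mathlib

/-!
# `q`-linear endomorphisms over separably closed fields (helper1)
-/

set_option autoImplicit false

namespace Groth.Agent.Lib.QLinH1

open Polynomial

universe u v

section basics

variable {k : Type u} [Field k] {q : ℕ}
  {V : Type v} [AddCommGroup V] [Module k V] (F : V →+ V)
  (hF : ∀ (a : k) (v : V), F (a • v) = a ^ q • F v)

include hF in
theorem iter_smul (m : ℕ) (a : k) (v : V) : (⇑F)^[m] (a • v) = a ^ (q ^ m) • (⇑F)^[m] v := by
  induction m with
  | zero => simp
  | succ m ih =>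
    rw [Function.iterate_succ_apply', ih, hF, Function.iterate_succ_apply', ← pow_mul, ← pow_succ]

theorem iter_sum {ι : Type*} (s : Finset ι) (g : ι → V) (m : ℕ) :
    (⇑F)^[m] (∑ i ∈ s, g i) = ∑ i ∈ s, (⇑F)^[m] (g i) := by
  classical
  induction s using Finset.induction_on with
  | empty => simp [iterate_map_zero]
  | insert a s ha ih => rw [Finset.sum_insert ha, Finset.sum_insert ha, iterate_map_add, ih]

include hF in
theorem inj_of_ss [FiniteDimensional k V] (hq : q ≠ 0)
    (hss : Submodule.span k (Set.range F) = ⊤) : Function.Injective F := by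
  classical
  let e := Module.finBasis k V
  have hFsum : ∀ v : V, F v = ∑ i, (e.repr v i) ^ q • F (e i) := by
    intro v
    conv_lhs => rw [← e.sum_repr v, map_sum]
    exact Finset.sum_congr rfl (fun i _ => hF _ _)
  have hspan : ⊤ ≤ Submodule.span k (Set.range (fun i => F (e i))) := by
    rw [← hss, Submodule.span_le]
    rintro _ ⟨v, rfl⟩
    rw [SetLike.mem_coe, hFsum v]
    exact Submodule.sum_mem _
      (fun i _ => Submodule.smul_mem _ _ (Submodule.subset_span ⟨i, rfl⟩))
  have hli : LinearIndependent k (fun i => F (e i)) :=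
    linearIndependent_of_top_le_span_of_card_eq_finrank hspan (by simp)
  rw [injective_iff_map_eq_zero]
  intro v hv
  rw [hFsum v] at hv
  have h0 := Fintype.linearIndependent_iff.1 hli (fun i => e.repr v i ^ q) hv
  have h1 : e.repr v = 0 := by
    ext i
    exact (pow_eq_zero_iff hq).1 (h0 i)
  exact (LinearEquiv.map_eq_zero_iff e.repr).1 h1

include hF in
theorem repr_fixed {ι : Type*} [Fintype ι] (b : Module.Basis ι k V) (hb : ∀ i, F (b i) = b i)
    (v : V) (m : ℕ) (i : ι) : b.repr ((⇑F)^[m] v) i = (b.repr v i) ^ (q ^ m) := by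
  classical
  have h1 : (⇑F)^[m] v = ∑ j, (b.repr v j) ^ (q ^ m) • b j := by
    conv_lhs => rw [← b.sum_repr v, iter_sum]
    refine Finset.sum_congr rfl (fun j _ => ?_)
    rw [iter_smul F hF, Function.iterate_fixed (hb j)]
  rw [h1, b.repr_sum_self]

variable [IsSepClosed k]

theorem exists_AS (hq2 : 2 ≤ q) (hq0 : (q : k) = 0) (a : k) : ∃ b : k, b ^ q - b + a = 0 := by
  have hder : derivative (X ^ q - X + C a : k[X]) = -1 := by
    rw [derivative_add, derivative_sub, derivative_X_pow, derivative_X, derivative_C, hq0]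
    simp
  have hsep : (X ^ q - X + C a : k[X]).Separable := by
    rw [separable_def, hder]
    exact isCoprime_one_right.neg_right
  have hdeg : (X ^ q - X + C a : k[X]).degree ≠ 0 := by
    intro h
    have h1 : (X ^ q - X + C a : k[X]).natDegree = q := by
      rw [natDegree_add_C]
      exact FiniteField.X_pow_card_sub_X_natDegree_eq k (by omega)
    have h2 : (X ^ q - X + C a : k[X]).natDegree = 0 :=
      natDegree_eq_zero_iff_degree_le_zero.2 h.le
    omega
  obtain ⟨b, hb⟩ := IsSepClosed.exists_root _ hdeg hsep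
  exact ⟨b, by simpa [IsRoot.def] using hb⟩

include hF in
theorem exists_fixed [FiniteDimensional k V] (hq2 : 2 ≤ q) (hq0 : (q : k) = 0)
    (hinj : Function.Injective F)
    (v : V) (hv : v ≠ 0) : ∃ x : V, x ≠ 0 ∧ F x = x := by
  classical
  obtain ⟨q', hq⟩ : ∃ q', q = q' + 1 := ⟨q - 1, by omega⟩
  have hq'0 : q' ≠ 0 := by omega
  have hqne : q ≠ 0 := by omega
  have hpq : q * q' ≠ 0 := Nat.mul_ne_zero hqne hq'0
  obtain ⟨e, he⟩ : ∃ e : ℕ → V, ∀ i, e i = (⇑F)^[i] v := ⟨_, fun _ => rfl⟩
  have hesucc : ∀ i, e (i + 1) = F (e i) := fun i => by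
    rw [he, he, Function.iterate_succ_apply']
  have hene : ∀ i, e i ≠ 0 := by
    intro i h
    rw [he] at h
    apply hv
    apply (hinj.iterate i)
    rw [h, iterate_map_zero]
  have hex : ∃ r, ∃ c : ℕ → k, e r = ∑ j ∈ Finset.range r, c j • e j := by
    obtain ⟨Wf, hWf⟩ : ∃ Wf : ℕ → Submodule k V,
        ∀ r, Wf r = Submodule.span k (Set.range fun i : Fin r => e i) := ⟨_, fun _ => rfl⟩
    have hmono : Monotone Wf := by
      intro a b hab
      rw [hWf, hWf]
      apply Submodule.span_mono
      rintro _ ⟨i, rfl⟩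
      exact ⟨⟨i, lt_of_lt_of_le i.2 hab⟩, rfl⟩
    obtain ⟨r, hr⟩ := (monotone_stabilizes_iff_noetherian.2
      (inferInstance : IsNoetherian k V)) ⟨Wf, hmono⟩
    have hr' : Wf r = Wf (r + 1) := hr (r + 1) (Nat.le_succ r)
    have h1 : e r ∈ Wf (r + 1) := by
      rw [hWf]
      exact Submodule.subset_span ⟨Fin.last r, by simp⟩
    rw [← hr', hWf] at h1
    obtain ⟨c, hc⟩ := (Submodule.mem_span_range_iff_exists_fun k).1 h1
    refine ⟨r, fun j => if h : j < r then c ⟨j, h⟩ else 0, ?_⟩
    calc e r = ∑ i : Fin r, c i • e i := hc.symm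
      _ = ∑ i : Fin r, (fun j => (if h : j < r then c ⟨j, h⟩ else 0) • e j) i.val :=
          Finset.sum_congr rfl (fun i _ => by simp [i.2])
      _ = _ := Fin.sum_univ_eq_sum_range
          (fun j => (if h : j < r then c ⟨j, h⟩ else 0) • e j) r
  obtain ⟨r, hr, hmin⟩ : ∃ r, (∃ c : ℕ → k, e r = ∑ j ∈ Finset.range r, c j • e j) ∧
      ∀ m, m < r → ¬ ∃ c : ℕ → k, e m = ∑ j ∈ Finset.range m, c j • e j :=
    ⟨Nat.find hex, Nat.find_spec hex, fun m hm => Nat.find_min hex hm⟩
  obtain ⟨c, hc⟩ := hr
  have hr0 : r ≠ 0 := by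
    intro h0
    rw [h0, Finset.sum_range_zero] at hc
    exact hene 0 hc
  obtain ⟨m, rfl⟩ : ∃ m, r = m + 1 := Nat.exists_eq_succ_of_ne_zero hr0
  have hcne : ∃ j, j ≤ m ∧ c j ≠ 0 := by
    by_contra hall
    push Not at hall
    apply hene (m + 1)
    rw [hc]
    refine Finset.sum_eq_zero (fun j hj => ?_)
    rw [hall j (Nat.lt_succ_iff.1 (Finset.mem_range.1 hj)), zero_smul]
  obtain ⟨Qs, hQ0, hQs⟩ : ∃ Qs : ℕ → k[X], Qs 0 = C (c 0) ∧
      ∀ j, Qs (j + 1) = X ^ (q * q') * Qs j ^ q + C (c (j + 1)) :=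
    ⟨fun j => Nat.rec (C (c 0)) (fun j Q => X ^ (q * q') * Q ^ q + C (c (j + 1))) j, rfl,
      fun _ => rfl⟩
  have hQz : ∀ j, Qs j = 0 → ∀ j0, j0 ≤ j → c j0 = 0 := by
    intro j
    induction j with
    | zero =>
      intro h j0 hj0
      rw [hQ0, C_eq_zero] at h
      rw [Nat.le_zero.1 hj0]; exact h
    | succ j ih =>
      intro h j0 hj0
      have hc1 : c (j + 1) = 0 := by
        have h' := congrArg (Polynomial.eval 0) h
        rw [hQs, eval_add, eval_mul, eval_pow, eval_X, zero_pow hpq, zero_mul, zero_add, eval_C,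
          eval_zero] at h'
        exact h'
      have hQj : Qs j = 0 := by
        rw [hQs, hc1, C_0, add_zero] at h
        rcases mul_eq_zero.1 h with h1 | h1
        · exact absurd h1 (pow_ne_zero _ X_ne_zero)
        · exact (pow_eq_zero_iff hqne).1 h1
      rcases Nat.lt_or_ge j0 (j + 1) with hlt | hge
      · exact ih hQj j0 (Nat.lt_succ_iff.1 hlt)
      · rw [le_antisymm hj0 hge]; exact hc1
  have hQder : ∀ j, derivative (Qs j) = 0 := by
    intro j
    induction j with
    | zero => rw [hQ0, derivative_C]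
    | succ j ih =>
      rw [hQs, derivative_add, derivative_mul, derivative_X_pow, derivative_pow, derivative_C,
        Nat.cast_mul, hq0]
      simp
  have hQm : Qs m ≠ 0 := by
    intro h
    obtain ⟨j, hj, hcj⟩ := hcne
    exact hcj (hQz m h j hj)
  obtain ⟨H, hH⟩ : ∃ H : k[X], H = X ^ q' * Qs m - 1 := ⟨_, rfl⟩
  have hHdeg : H.degree ≠ 0 := by
    intro hd
    have h1 : H = C (H.coeff 0) := eq_C_of_degree_eq_zero hd
    have h2 : X ^ q' * Qs m = C (H.coeff 0 + 1) := by
      rw [C_add, C_1, ← h1, hH]; ring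
    have h3 : H.coeff 0 + 1 = 0 := by
      have h' := congrArg (Polynomial.eval 0) h2
      rw [eval_mul, eval_pow, eval_X, zero_pow hq'0, zero_mul, eval_C] at h'
      exact h'.symm
    rw [h3, C_0] at h2
    rcases mul_eq_zero.1 h2 with h | h
    · exact pow_ne_zero _ X_ne_zero h
    · exact hQm h
  have hHsep : H.Separable := by
    have hXH : X * H = X ^ q * Qs m - X := by rw [hH, hq]; ring
    have hG : (X * H).Separable := by
      rw [hXH, separable_def]
      have hder : derivative (X ^ q * Qs m - X : k[X]) = -1 := by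
        rw [derivative_sub, derivative_mul, derivative_X_pow, derivative_X, hQder, hq0]
        simp
      rw [hder]
      exact isCoprime_one_right.neg_right
    exact hG.of_mul_right
  obtain ⟨t, ht⟩ := IsSepClosed.exists_root H hHdeg hHsep
  have htQ : t ^ q' * (Qs m).eval t = 1 := by
    have h' : H.eval t = 0 := ht
    rw [hH, eval_sub, eval_mul, eval_pow, eval_X, eval_one] at h'
    exact sub_eq_zero.1 h'
  have ht0 : t ≠ 0 := by
    rintro rfl
    rw [zero_pow hq'0, zero_mul] at htQ
    exact zero_ne_one htQ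
  obtain ⟨xs, hxs⟩ : ∃ xs : ℕ → k, ∀ j, xs j = t ^ q * (Qs j).eval t := ⟨_, fun _ => rfl⟩
  have hx0 : xs 0 = t ^ q * c 0 := by rw [hxs, hQ0, eval_C]
  have hxsucc : ∀ j, xs (j + 1) = xs j ^ q + t ^ q * c (j + 1) := by
    intro j
    rw [hxs, hxs, hQs, eval_add, eval_mul, eval_pow, eval_pow, eval_X, eval_C]
    have h1 : t ^ q * t ^ (q * q') = (t ^ q) ^ q := by
      rw [← pow_add, ← pow_mul]; congr 1; rw [hq]; ring
    rw [mul_add, ← mul_assoc, h1, mul_pow]
  have hxm : xs m = t := by
    rw [hxs]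
    have h1 : t ^ q = t * t ^ q' := by rw [hq, pow_succ']
    rw [h1, mul_assoc, htQ, mul_one]
  refine ⟨∑ j ∈ Finset.range (m + 1), xs j • e j, ?_, ?_⟩
  · intro h0
    rw [Finset.sum_range_succ, hxm] at h0
    apply hmin m (Nat.lt_succ_self m)
    refine ⟨fun j => -(t⁻¹) * xs j, ?_⟩
    have h1 : t • e m = -∑ j ∈ Finset.range m, xs j • e j := eq_neg_of_add_eq_zero_right h0
    calc e m = t⁻¹ • (t • e m) := (inv_smul_smul₀ ht0 _).symm
      _ = ∑ j ∈ Finset.range m, (-(t⁻¹) * xs j) • e j := by
        rw [h1, smul_neg, Finset.smul_sum, ← Finset.sum_neg_distrib]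
        refine Finset.sum_congr rfl (fun j _ => ?_)
        rw [smul_smul, neg_mul, neg_smul]
  · rw [map_sum]
    have hL : ∑ j ∈ Finset.range (m + 1), F (xs j • e j) =
        ∑ j ∈ Finset.range m, (xs j ^ q) • e (j + 1) +
          t ^ q • ∑ j ∈ Finset.range (m + 1), c j • e j := by
      rw [Finset.sum_range_succ, hF, ← hesucc, hxm, ← hc]
      congr 1
      refine Finset.sum_congr rfl (fun j _ => ?_)
      rw [hF, ← hesucc]
    rw [hL, Finset.sum_range_succ' (fun j => xs j • e j),
      Finset.sum_range_succ' (fun j => c j • e j)]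
    simp only [hxsucc, hx0, add_smul, Finset.sum_add_distrib, Finset.smul_sum, smul_add,
      smul_smul]
    abel

end basics

section main

variable (k : Type u) [Field k] [IsSepClosed k] (p : ℕ) [hp : Fact p.Prime] [CharP k p]
  (r : ℕ) (hr : 0 < r)

include hr in
theorem q_two_le : 2 ≤ p ^ r := Nat.one_lt_pow hr.ne' hp.out.one_lt

include hr in
theorem q_cast : ((p ^ r : ℕ) : k) = 0 := by
  rw [Nat.cast_pow, CharP.cast_eq_zero, zero_pow hr.ne']

include hr in
theorem span_fixed_eq_top :
    ∀ n : ℕ, ∀ (V : Type v) [AddCommGroup V] [Module k V] [FiniteDimensional k V] (F : V →+ V)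
      (_ : ∀ (a : k) (v : V), F (a • v) = a ^ (p ^ r) • F v),
      Submodule.span k (Set.range F) = ⊤ → Module.finrank k V = n →
      Submodule.span k {v : V | F v = v} = ⊤ := by
  have hq2 : 2 ≤ p ^ r := q_two_le p r hr
  have hq0 : ((p ^ r : ℕ) : k) = 0 := q_cast k p r hr
  intro n
  induction n using Nat.strong_induction_on with
  | _ n ih =>
    intro V _ _ _ F hF hss hn
    by_cases hV : ∃ v : V, v ≠ 0
    swap
    · push Not at hV
      rw [eq_top_iff]
      intro x _
      rw [hV x]
      exact zero_mem _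
    obtain ⟨v, hv⟩ := hV
    have hinj := inj_of_ss F hF (by omega) hss
    obtain ⟨v0, hv0, hFv0⟩ := exists_fixed F hF hq2 hq0 hinj v hv
    set S := Submodule.span k {v : V | F v = v} with hS
    have hfixS : ∀ w, F w = w → w ∈ S := fun w hw => Submodule.subset_span hw
    have hv0S : v0 ∈ S := hfixS v0 hFv0
    let K : Submodule k V := Submodule.span k {v0}
    have hKS : K ≤ S := Submodule.span_le.2 (by simpa using hv0S)
    let Fs : V →ₛₗ[iterateFrobenius k p r] V :=
      { toFun := F
        map_add' := F.map_add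
        map_smul' := fun a v => by simpa [iterateFrobenius_def] using hF a v }
    have hFK : ∀ a : k, F (a • v0) ∈ K := by
      intro a
      rw [hF, hFv0]
      exact Submodule.smul_mem _ _ (Submodule.mem_span_singleton_self v0)
    have hKle : K ≤ K.comap Fs := by
      intro x hx
      obtain ⟨a, rfl⟩ := Submodule.mem_span_singleton.1 hx
      exact hFK a
    let Fb : (V ⧸ K) →ₛₗ[iterateFrobenius k p r] (V ⧸ K) := K.mapQ K Fs hKle
    have hFb : ∀ w, Fb.toAddMonoidHom (Submodule.Quotient.mk w) =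
        Submodule.Quotient.mk (F w) := fun w => rfl
    have hFbs : ∀ (a : k) (y : V ⧸ K),
        Fb.toAddMonoidHom (a • y) = a ^ (p ^ r) • Fb.toAddMonoidHom y := by
      intro a y
      show Fb (a • y) = a ^ (p ^ r) • Fb y
      rw [map_smulₛₗ, iterateFrobenius_def]
    have hrank : Module.finrank k (V ⧸ K) < n := by
      have h1 := Submodule.finrank_quotient_add_finrank K
      have h2 : Module.finrank k K = 1 := finrank_span_singleton hv0
      omega
    have hssb : Submodule.span k (Set.range Fb.toAddMonoidHom) = ⊤ := by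
      rw [eq_top_iff]
      rintro y -
      obtain ⟨w, rfl⟩ := Submodule.Quotient.mk_surjective K y
      have hw : w ∈ Submodule.span k (Set.range F) := by rw [hss]; trivial
      induction hw using Submodule.span_induction with
      | mem x hx =>
        obtain ⟨z, rfl⟩ := hx
        exact Submodule.subset_span ⟨Submodule.Quotient.mk z, hFb z⟩
      | zero => exact zero_mem _
      | add x y _ _ hx hy => exact add_mem hx hy
      | smul a x _ hx => exact Submodule.smul_mem _ a hx
    have IH := ih _ hrank (V ⧸ K) Fb.toAddMonoidHom hFbs hssb rfl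
    have hf3 : ∀ w : V, Fb.toAddMonoidHom (Submodule.Quotient.mk w) =
        Submodule.Quotient.mk w → w ∈ S := by
      intro w hw
      rw [hFb, Submodule.Quotient.eq] at hw
      obtain ⟨a, ha⟩ := Submodule.mem_span_singleton.1 hw
      have hFw : F w = w + a • v0 := by rw [ha]; abel
      obtain ⟨b, hb⟩ := exists_AS hq2 hq0 a
      have hfix : F (w + b • v0) = w + b • v0 := by
        rw [map_add, hF, hFv0, hFw, add_assoc, ← add_smul]
        congr 2
        linear_combination hb
      have h1 : w = (w + b • v0) - b • v0 := by abel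
      rw [h1]
      exact sub_mem (hfixS _ hfix) (Submodule.smul_mem _ _ hv0S)
    rw [eq_top_iff]
    intro x _
    have hx : (Submodule.Quotient.mk x : V ⧸ K) ∈ (⊤ : Submodule k (V ⧸ K)) :=
      Submodule.mem_top
    rw [← IH] at hx
    have hle : Submodule.span k {y : V ⧸ K | Fb.toAddMonoidHom y = y} ≤ S.map K.mkQ := by
      refine Submodule.span_le.2 ?_
      intro y hy
      obtain ⟨w, rfl⟩ := Submodule.Quotient.mk_surjective K y
      exact Submodule.mem_map.2 ⟨w, hf3 w hy, rfl⟩
    obtain ⟨s, hs, hsx⟩ := Submodule.mem_map.1 (hle hx)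
    have hxs : x - s ∈ K := by
      rw [← Submodule.Quotient.eq]
      exact hsx.symm
    have h1 : x = s + (x - s) := by abel
    rw [h1]
    exact add_mem hs (hKS hxs)

include hr in
theorem exists_fixed_basis (V : Type v) [AddCommGroup V] [Module k V] [FiniteDimensional k V]
    (F : V →+ V) (hF : ∀ (a : k) (v : V), F (a • v) = a ^ (p ^ r) • F v)
    (hss : Submodule.span k (Set.range F) = ⊤) :
    ∃ b : Module.Basis (Fin (Module.finrank k V)) k V, ∀ i, F (b i) = b i := by
  classical
  obtain ⟨s, hsub, hspan, hli⟩ := exists_linearIndependent k {v : V | F v = v}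
  rw [span_fixed_eq_top k p r hr _ V F hF hss rfl] at hspan
  let b0 : Module.Basis s k V := Module.Basis.mk hli (by rw [Subtype.range_coe, hspan])
  haveI : Fintype s := FiniteDimensional.fintypeBasisIndex b0
  have hcard : Fintype.card s = Module.finrank k V := (Module.finrank_eq_card_basis b0).symm
  refine ⟨b0.reindex (Fintype.equivFinOfCardEq hcard), fun i => ?_⟩
  have h1 : b0.reindex (Fintype.equivFinOfCardEq hcard) i =
      (((Fintype.equivFinOfCardEq hcard).symm i : s) : V) := by
    simp [b0]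
  rw [h1]
  exact hsub (Subtype.coe_prop _)

include hr in
theorem sub_surj :
    ∀ n : ℕ, ∀ (V : Type v) [AddCommGroup V] [Module k V] [FiniteDimensional k V] (F : V →+ V)
      (_ : ∀ (a : k) (v : V), F (a • v) = a ^ (p ^ r) • F v), Module.finrank k V = n →
      Function.Surjective (fun v : V => v - F v) := by
  have hq2 : 2 ≤ p ^ r := q_two_le p r hr
  have hq0 : ((p ^ r : ℕ) : k) = 0 := q_cast k p r hr
  intro n
  induction n using Nat.strong_induction_on with
  | _ n ih =>
    intro V _ _ _ F hF hn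
    by_cases hss : Submodule.span k (Set.range F) = ⊤
    · obtain ⟨b, hb⟩ := exists_fixed_basis k p r hr V F hF hss
      intro x
      choose c hc using fun i => exists_AS hq2 hq0 (b.repr x i)
      refine ⟨∑ i, c i • b i, ?_⟩
      show (∑ i, c i • b i) - F (∑ i, c i • b i) = x
      rw [map_sum, ← Finset.sum_sub_distrib]
      conv_rhs => rw [← b.sum_repr x]
      refine Finset.sum_congr rfl (fun i _ => ?_)
      rw [hF, hb, ← sub_smul]
      congr 1
      linear_combination (-1 : k) * hc i
    · let U : Submodule k V := Submodule.span k (Set.range F)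
      have hlt : Module.finrank k U < n := by
        rw [← hn]
        exact Submodule.finrank_lt hss
      have hFU : ∀ x : V, F x ∈ U := fun x => Submodule.subset_span ⟨x, rfl⟩
      let F' : U →+ U :=
        { toFun := fun x => ⟨F (x : V), hFU (x : V)⟩
          map_zero' := Subtype.ext (map_zero F)
          map_add' := fun x y => Subtype.ext (map_add F (x : V) (y : V)) }
      have hF' : ∀ (a : k) (x : U), F' (a • x) = a ^ (p ^ r) • F' x :=
        fun a x => Subtype.ext (hF a (x : V))
      have IH := ih _ hlt U F' hF' rfl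
      intro x
      obtain ⟨v', hv'⟩ := IH ⟨F x, hFU x⟩
      have h1 : (v' : V) - F v' = F x := congrArg Subtype.val hv'
      refine ⟨x + v', ?_⟩
      show x + v' - F (x + v') = x
      rw [map_add, ← h1]
      abel

include hr in
theorem sub_fixed_basis (V : Type v) [AddCommGroup V] [Module k V] [FiniteDimensional k V]
    (F : V →+ V) (hF : ∀ (a : k) (v : V), F (a • v) = a ^ (p ^ r) • F v)
    (U : Submodule k V) (hU1 : ∀ x ∈ U, F x ∈ U) (hU2 : U ≤ Submodule.span k (F '' U))
    (hU3 : ∀ v, F v = v → v ∈ U) :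
    ∃ b : Module.Basis (Fin (Module.finrank k ↥U)) k ↥U, (∀ i, F (b i : V) = (b i : V)) ∧
      ∀ v : V, F v = v → ∃ c : Fin (Module.finrank k ↥U) → k,
        (∀ i, c i ^ (p ^ r) = c i) ∧ v = ∑ i, c i • (b i : V) := by
  classical
  let F' : U →+ U :=
    { toFun := fun x => ⟨F (x : V), hU1 (x : V) x.2⟩
      map_zero' := Subtype.ext (map_zero F)
      map_add' := fun x y => Subtype.ext (map_add F (x : V) (y : V)) }
  have hF' : ∀ (a : k) (x : U), F' (a • x) = a ^ (p ^ r) • F' x :=
    fun a x => Subtype.ext (hF a (x : V))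
  have hss' : Submodule.span k (Set.range F') = ⊤ := by
    apply Submodule.map_injective_of_injective U.injective_subtype
    rw [Submodule.map_span, Submodule.map_subtype_top]
    apply le_antisymm
    · rw [Submodule.span_le]
      rintro _ ⟨_, ⟨x, rfl⟩, rfl⟩
      exact (F' x).2
    · refine hU2.trans (Submodule.span_mono ?_)
      rintro _ ⟨x, hx, rfl⟩
      exact ⟨F' ⟨x, hx⟩, ⟨⟨x, hx⟩, rfl⟩, rfl⟩
  obtain ⟨b, hb⟩ := exists_fixed_basis k p r hr U F' hF' hss'
  refine ⟨b, fun i => congrArg Subtype.val (hb i), fun v hv => ?_⟩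
  have hvU := hU3 v hv
  have hfix : F' ⟨v, hvU⟩ = ⟨v, hvU⟩ := Subtype.ext hv
  refine ⟨fun i => b.repr ⟨v, hvU⟩ i, fun i => ?_, ?_⟩
  · have h1 := repr_fixed F' hF' b hb ⟨v, hvU⟩ 1 i
    rw [Function.iterate_one, hfix, pow_one] at h1
    exact h1.symm
  · have h1 := congrArg U.subtype (b.sum_repr ⟨v, hvU⟩)
    rw [map_sum] at h1
    simp only [map_smul, Submodule.subtype_apply] at h1
    exact h1.symm

include hr in
theorem main3212 (V : Type v) [AddCommGroup V] [Module k V]
    [FiniteDimensional k V] (φ : V →+ V) (hφ : ∀ (c : k) (v : V), φ (c • v) = c ^ (p ^ r) • φ v)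
    (hss : Submodule.span k (Set.range φ) = ⊤) :
    ∃ b : Module.Basis (Fin (Module.finrank k V)) k V, (∀ i, φ (b i) = b i) ∧
      ∀ v : V, φ v = v → ∀ i, (b.repr v i) ^ (p ^ r) = b.repr v i := by
  obtain ⟨b, hb⟩ := exists_fixed_basis k p r hr V φ hφ hss
  refine ⟨b, hb, fun v hv i => ?_⟩
  have h1 := repr_fixed φ hφ b hb v 1 i
  rw [Function.iterate_one, hv, pow_one] at h1
  exact h1.symm

include hr in
theorem main3213 (V : Type v) [AddCommGroup V] [Module k V] [FiniteDimensional k V] (φ : V →+ V)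
    (hφ : ∀ (c : k) (v : V), φ (c • v) = c ^ (p ^ r) • φ v) :
    Function.Surjective (fun v : V => v - φ v) :=
  sub_surj k p r hr _ V φ hφ rfl

include hr in
theorem main8722 (V : Type v) [AddCommGroup V] [Module k V]
    [FiniteDimensional k V] (φ : V →+ V) (hφ : ∀ (c : k) (v : V), φ (c • v) = c ^ (p ^ r) • φ v)
    (hss : Submodule.span k (Set.range φ) = ⊤) (n : ℕ) (hn : 0 < n) (v : V) :
    φ^[n] v = v ↔ ∃ (s : Finset V) (c : V → k), (∀ w ∈ s, φ w = w) ∧
      (∀ w ∈ s, c w ^ ((p ^ r) ^ n) = c w) ∧ v = ∑ w ∈ s, c w • w := by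
  classical
  constructor
  · intro hv
    obtain ⟨b, hb⟩ := exists_fixed_basis k p r hr V φ hφ hss
    have hinj : Function.Injective b := b.injective
    refine ⟨Finset.univ.image b, fun w => if h : ∃ i, b i = w then b.repr v h.choose else 0,
      ?_, ?_, ?_⟩
    · intro w hw
      obtain ⟨i, -, rfl⟩ := Finset.mem_image.1 hw
      exact hb i
    · intro w hw
      obtain ⟨i, -, rfl⟩ := Finset.mem_image.1 hw
      have hex : ∃ j, b j = b i := ⟨i, rfl⟩
      dsimp only
      rw [dif_pos hex]
      have h1 := repr_fixed φ hφ b hb v n hex.choose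
      rw [hv] at h1
      exact h1.symm
    · rw [Finset.sum_image (fun i _ j _ h => hinj h)]
      conv_lhs => rw [← b.sum_repr v]
      refine Finset.sum_congr rfl (fun i _ => ?_)
      have hex : ∃ j, b j = b i := ⟨i, rfl⟩
      dsimp only
      rw [dif_pos hex, hinj hex.choose_spec]
  · rintro ⟨s, c, hs, hc, rfl⟩
    rw [iter_sum]
    refine Finset.sum_congr rfl (fun w hw => ?_)
    rw [iter_smul φ hφ, hc w hw, Function.iterate_fixed (hs w hw)]

include hr in
theorem main8721 (V : Type v) [AddCommGroup V] [Module k V]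
    [FiniteDimensional k V] (φ : V →+ V) (hφ : ∀ (c : k) (v : V), φ (c • v) = c ^ (p ^ r) • φ v) :
    let Vss : Submodule k V := ⨅ n : ℕ, Submodule.span k (Set.range (φ^[n + 1]))
    ∃ b : Module.Basis (Fin (Module.finrank k ↥Vss)) k ↥Vss, (∀ i, φ (b i : V) = (b i : V)) ∧
      ∀ v : V, φ v = v → ∃ c : Fin (Module.finrank k ↥Vss) → k,
        (∀ i, c i ^ (p ^ r) = c i) ∧ v = ∑ i, c i • (b i : V) := by
  intro Vss
  obtain ⟨W, hW⟩ : ∃ W : ℕ → Submodule k V,
      ∀ n, W n = Submodule.span k (Set.range (φ^[n + 1])) := ⟨_, fun _ => rfl⟩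
  have hVss : Vss = ⨅ n, W n := by
    show (⨅ n : ℕ, Submodule.span k (Set.range (φ^[n + 1]))) = ⨅ n, W n
    congr 1
    funext n
    rw [hW]
  have hstep : ∀ n, W (n + 1) ≤ W n := by
    intro n
    rw [hW, hW]
    apply Submodule.span_mono
    rintro _ ⟨z, rfl⟩
    exact ⟨φ z, (Function.iterate_succ_apply φ (n + 1) z).symm⟩
  have hanti : Antitone W := antitone_nat_of_succ_le hstep
  have hmapW : ∀ n x, x ∈ W n → φ x ∈ W (n + 1) := by
    intro n x hx
    rw [hW] at hx
    rw [hW]
    induction hx using Submodule.span_induction with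
    | mem x h =>
      obtain ⟨z, rfl⟩ := h
      exact Submodule.subset_span ⟨z, Function.iterate_succ_apply' φ (n + 1) z⟩
    | zero => rw [map_zero]; exact zero_mem _
    | add x y _ _ hx hy => rw [map_add]; exact add_mem hx hy
    | smul a x _ hx => rw [hφ]; exact Submodule.smul_mem _ _ hx
  obtain ⟨N, hN⟩ := IsArtinian.monotone_stabilizes
    (⟨fun n => OrderDual.toDual (W n), fun a b hab => hanti hab⟩ : ℕ →o (Submodule k V)ᵒᵈ)
  have hN' : ∀ m, N ≤ m → W N = W m := fun m hm => congrArg OrderDual.ofDual (hN m hm)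
  have hVW : Vss = W N := by
    rw [hVss]
    apply le_antisymm
    · exact iInf_le _ N
    · refine le_iInf (fun n => ?_)
      rcases le_total N n with h | h
      · rw [← hN' n h]
      · exact hanti h
  have hU1 : ∀ x ∈ Vss, φ x ∈ Vss := by
    intro x hx
    rw [hVW] at hx ⊢
    rw [hN' (N + 1) (Nat.le_succ N)]
    exact hmapW N x hx
  have hU2 : Vss ≤ Submodule.span k (φ '' Vss) := by
    rw [hVW]
    conv_lhs => rw [hN' (N + 1) (Nat.le_succ N), hW]
    apply Submodule.span_mono
    rintro _ ⟨z, rfl⟩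
    refine ⟨φ^[N + 1] z, ?_, (Function.iterate_succ_apply' φ (N + 1) z).symm⟩
    rw [SetLike.mem_coe, hW]
    exact Submodule.subset_span ⟨z, rfl⟩
  have hU3 : ∀ v, φ v = v → v ∈ Vss := by
    intro v hv
    rw [hVss, Submodule.mem_iInf]
    intro n
    rw [hW]
    exact Submodule.subset_span ⟨v, Function.iterate_fixed hv _⟩
  exact sub_fixed_basis k p r hr V φ hφ Vss hU1 hU2 hU3

end main

end Groth.Agent.Lib.QLinH1
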