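import Mathlib
import Groth.Prelude
import Groth.Agent.Lib.FTSys3_helper5
import Groth.Agent.Lib.VA91d_helper5
import Groth.Agent.Lib.VA91e_helper5
import Groth.Agent.S12686
import Groth.Agent.Lib.RelProj_helper3
import Groth.Agent.Lib.QcqsLoc_helper9
import Groth.Agent.Lib.VAmpPn15_helper5
import Groth.Agent.Lib.Tens13_helper8

/-!
# Quasi-projective morphisms over a quasi-compact quasi-separated base (helper5).
The statements S12688, S12486, S12484 with the base only assumed quasi-compact and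
quasi-separated (same proofs).  APPEND-ONLY once landed.
-/

set_option autoImplicit false
universe u
open CategoryTheory CategoryTheory.Limits AlgebraicGeometry TopologicalSpace Opposite
open scoped HomogeneousIdeal

noncomputable section

namespace Groth.Agent.QProj

theorem exists_ft_sub_qcqs {X Y PL : Scheme.{u}} [CompactSpace Y] [QuasiSeparatedSpace Y]
    (q : X ⟶ Y) [QuasiCompact q] [LocallyOfFiniteType q]
    (L : X.Modules) (hL : PicF.IsInvertible L) (hLq : Coh.IsQCoh L)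
    (𝒮L : RelProj.QCGrAlg X) (jL : L ⟶ 𝒮L.toModule) (hjL : RelProj.IsGrSymAlg L 𝒮L jL)
    (pL : PL ⟶ X) (chartL : ∀ (U : X.Opens) (hU : IsAffineOpen U), (((pL ⁻¹ᵁ U : PL.Opens) : Scheme.{u}) ≅ Proj (𝒮L.deg U hU)))
    (hPL : RelProj.IsRelProj 𝒮L pL chartL)
    (h : RelProj.IsRelVeryAmple q L) :
    ∃ (E : Y.Modules) (_ : Coh.IsQCoh E) (_ : CohB1.IsFT E) (ι : E ⟶ (Scheme.Modules.pushforward q).obj L)
      (_ : ∀ U : Y.Opens, Function.Injective (ι.app U))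
      (𝒯 : RelProj.QCGrAlg Y) (jE : E ⟶ 𝒯.toModule) (_ : RelProj.IsGrSymAlg E 𝒯 jE)
      (u : RelProj.QGrHom q 𝒯 𝒮L)
      (_ : ∀ (U : Y.Opens) (x : Γ(E, U)), (u.app U).hom ((jE.app U) x) = (jL.app (q ⁻¹ᵁ U)) ((ι.app U) x)),
      (∀ x : X, ∃ (U : Y.Opens) (hU : IsAffineOpen U) (e : Γ(E, U)) (V : X.Opens) (hV : IsAffineOpen V)
          (hVU : V ≤ q ⁻¹ᵁ U), x ∈ V ∧
            ((𝒮L.deg V hV 1 : AddSubgroup (𝒮L.presheaf.obj (op V))) : Set (𝒮L.presheaf.obj (op V))) ⊆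
              (Ideal.span {(u.appLE U V hVU).hom ((jE.app U) e)} : Set (𝒮L.presheaf.obj (op V)))) ∧
      ∀ (P : Scheme.{u}) (p : P ⟶ Y)
          (chart : ∀ (U : Y.Opens) (hU : IsAffineOpen U), (((p ⁻¹ᵁ U : P.Opens) : Scheme.{u}) ≅ Proj (𝒯.deg U hU)))
          (_ : RelProj.IsRelProj 𝒯 p chart)
          (r : ((RelProj.domQ u pL chartL : PL.Opens) : Scheme.{u}) ⟶ P)
          (_ : RelProj.IsProjQMapOn u p chart pL chartL (RelProj.domQ u pL chartL) r),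
        RelProj.domQ u pL chartL = ⊤ ∧ IsImmersion r := by
  haveI hq : L.IsQuasicoherent := hLq
  -- `q` is separated
  haveI hsep : IsSeparated q := by
    obtain ⟨E₀, hE₀, 𝒮₀, j₀, hj₀, P₀, p₀, chart₀, hP₀, O1₀, lam₀, hO1₀, i₀, hi₀, hip₀, -⟩ := h
    haveI := hi₀
    haveI : IsSeparated p₀ :=
      Groth.Agent.Lib.RelProj_helper3.of_chart @IsSeparated hP₀ fun U hU => inferInstance
    rw [← hip₀]
    infer_instance
  haveI hE : ((Scheme.Modules.pushforward q).obj L).IsQuasicoherent :=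
    QcqsLoc.isQuasicoherent_pushforward_qcqs q L
  obtain ⟨𝒜, jE, h𝒜⟩ := Groth.Agent.SymDeg.exists_grSymAlg ((Scheme.Modules.pushforward q).obj L)
  let σ : (Scheme.Modules.pullback q).obj ((Scheme.Modules.pushforward q).obj L) ⟶ L :=
    ((Scheme.Modules.pullbackPushforwardAdjunction q).homEquiv _ L).symm (𝟙 _)
  have hu : ∀ (U : Y.Opens) (x : Γ((Scheme.Modules.pushforward q).obj L, U)),
      ((Groth.Agent.UPB.uOf q _ 𝒜 jE h𝒜 𝒮L L jL hjL σ).app U).hom ((jE.app U) x) =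
        (jL.app (q ⁻¹ᵁ U)) x := by
    intro U x
    have h1 := Groth.Agent.UPB.uOf_j q _ 𝒜 jE h𝒜 𝒮L L jL hjL σ U (q ⁻¹ᵁ U) le_rfl x
    have h2 : QCohExtn.ap σ (q ⁻¹ᵁ U) (PBH8.cUV q _ le_rfl x) = x :=
      Groth.Agent.GrTw.adj_symm_cUV q (𝟙 ((Scheme.Modules.pushforward q).obj L)) U x
    rw [h2] at h1
    refine Eq.trans ?_ h1
    show _ = (𝒮L.presheaf.map (homOfLE (le_refl (q ⁻¹ᵁ U))).op).hom _
    have : (homOfLE (le_refl (q ⁻¹ᵁ U))).op = 𝟙 (op (q ⁻¹ᵁ U)) := rfl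
    rw [this, CategoryTheory.Functor.map_id]
    rfl
  obtain ⟨P, p, chart, hP⟩ := Groth.Agent.RelProjEx.exists_relProj 𝒜
  obtain ⟨r, hr⟩ := Groth.Agent.ProjQ.exists_projQMapOn
    (Groth.Agent.UPB.uOf q _ 𝒜 jE h𝒜 𝒮L L jL hjL σ) hP hPL
  obtain ⟨hdom, himm⟩ := Groth.Agent.S12686.result q L hL hLq 𝒮L jL hjL pL chartL hPL hE 𝒜 jE h𝒜
    _ hu p chart hP r hr h
  haveI : IsIso pL := Groth.Agent.SymInv.isIso_pL L 𝒮L jL hL hjL hPL
  have hsurj := Groth.Agent.VA91.hsurj_of_domQ_eq_top q _ 𝒜 jE h𝒜 L hL 𝒮L jL hjL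
    (Groth.Agent.UPB.uOf q _ 𝒜 jE h𝒜 𝒮L L jL hjL σ) hPL hdom
  obtain ⟨E, hEq, hEft, ι, hι, 𝒯', jE', hjE', u', hcompat, hsurj', hmod⟩ :=
    Groth.Agent.FTSys.exists_ft_sub_of_isImmersion q L hL hLq 𝒮L jL hjL pL chartL hPL _ hE 𝒜 jE
      h𝒜 _ hsurj p chart hP r hr himm
  exact ⟨E, hEq, hEft, ι, hι, 𝒯', jE', hjE', u', fun U x => (hcompat U x).trans (hu U _), hsurj',
    hmod⟩

theorem exists_ft_bundle_qcqs {X Y : Scheme.{u}} [CompactSpace Y] [QuasiSeparatedSpace Y]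
    (q : X ⟶ Y) [QuasiCompact q]
    [LocallyOfFiniteType q] (L : X.Modules) (hL : PicF.IsInvertible L) (h : RelProj.IsRelVeryAmple q L) :
    ∃ (E : Y.Modules) (𝒯 : RelProj.QCGrAlg Y) (j : E ⟶ 𝒯.toModule) (P : Scheme.{u}) (p : P ⟶ Y)
      (chart : ∀ (U : Y.Opens) (hU : IsAffineOpen U), ((p ⁻¹ᵁ U : P.Opens) : Scheme.{u}) ≅ Proj (𝒯.deg U hU))
      (O1 : P.Modules)
      (lam : ∀ (U : Y.Opens) (hU : IsAffineOpen U),
        O1 ⟶ (Scheme.Modules.pushforward (RelProj.emb p chart U hU)).obj (GrTwist.twist (𝒯.deg U hU) 1))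
      (i : X ⟶ P),
      Coh.IsQCoh E ∧ CohB1.IsFT E ∧ RelProj.IsGrSymAlg E 𝒯 j ∧ RelProj.IsRelProj 𝒯 p chart ∧
        RelProj.IsRelTwist 𝒯 p chart 1 O1 lam ∧ IsImmersion i ∧ i ≫ p = q ∧
        Nonempty (L ≅ (Scheme.Modules.pullback i).obj O1) := by
  haveI hq : L.IsQuasicoherent := TensH8.isQuasicoherent_of_isInvertible hL
  obtain ⟨𝒮L, jL, hjL, PL, pL, chartL, hPL, -, -, -, -, -, -, -⟩ :=
    Groth.Agent.PBundle.exists_projBundle L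
  obtain ⟨E, hEq, hEft, ι, hι, 𝒯, jE, hjE, u, hcompat, hsurj, hmod⟩ :=
    exists_ft_sub_qcqs q L hL hq 𝒮L jL hjL pL chartL hPL h
  haveI : E.IsQuasicoherent := hEq
  obtain ⟨P, p, chart, hP⟩ := Groth.Agent.RelProjEx.exists_relProj 𝒯
  obtain ⟨r, hr⟩ := Groth.Agent.ProjQ.exists_projQMapOn u hP hPL
  obtain ⟨hdom, himm⟩ := hmod P p chart hP r hr
  have hsurjA : ∀ x : X, ∃ (U : Y.Opens) (hU : IsAffineOpen U) (e : 𝒯.presheaf.obj (op U))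
      (_ : e ∈ 𝒯.deg U hU 1) (V : X.Opens) (hV : IsAffineOpen V) (hVU : V ≤ q ⁻¹ᵁ U), x ∈ V ∧
        ((𝒮L.deg V hV 1 : AddSubgroup (𝒮L.presheaf.obj (op V))) :
          Set (𝒮L.presheaf.obj (op V))) ⊆
          (Ideal.span {(u.appLE U V hVU).hom e} : Set (𝒮L.presheaf.obj (op V))) := by
    intro x
    obtain ⟨U, hU, e, V, hV, hVU, hx, hsp⟩ := hsurj x
    exact ⟨U, hU, (jE.app U) e, hjE.2 U hU e, V, hV, hVU, hx, hsp⟩
  obtain ⟨𝒯', jT, hjT, PT, pT, chartT, hPT, O1T, lamT, hO1T, i, hi, hip, hiso⟩ :=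
    Groth.Agent.VA91.exists_data_of_isImmersion q L hL 𝒮L jL hjL pL chartL hPL 𝒯
      (Groth.Agent.PBProj.isGenDegOne_of_isGrSymAlg E 𝒯 jE hjE) u hsurjA p chart hP r hr himm
  exact ⟨Groth.Agent.PBProj.degMod 𝒯 1, 𝒯', jT, PT, pT, chartT, O1T, lamT, i,
    Groth.Agent.PBProj.isQuasicoherent_degMod 𝒯 1,
    Groth.Agent.PBProj.isFiniteType_degMod 𝒯 1
      (Groth.Agent.PBProj.isFTDeg_one_of_isGrSymAlg E 𝒯 jE hjE hEft),
    hjT, hPT, hO1T, hi, hip, hiso⟩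

theorem exists_immersion_qcqs {X Y : Scheme.{u}} [CompactSpace Y] [QuasiSeparatedSpace Y]
    (f : X ⟶ Y)
    (hf : RelProj.IsQuasiProjective f) :
    ∃ (E : Y.Modules) (𝒯 : RelProj.QCGrAlg Y) (j : E ⟶ 𝒯.toModule) (P : Scheme.{u}) (p : P ⟶ Y)
      (chart : ∀ (U : Y.Opens) (hU : IsAffineOpen U), ((p ⁻¹ᵁ U : P.Opens) : Scheme.{u}) ≅ Proj (𝒯.deg U hU))
      (i : X ⟶ P),
      Coh.IsQCoh E ∧ CohB1.IsFT E ∧ RelProj.IsGrSymAlg E 𝒯 j ∧ RelProj.IsRelProj 𝒯 p chart ∧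
        IsImmersion i ∧ i ≫ p = f := by
  obtain ⟨hlft, hqc, L, hL⟩ := hf
  haveI := hlft
  haveI := hqc
  have hLinv := TensH8.isInvertible_of_isRelAmple f hL
  obtain ⟨n₀, h0⟩ := Groth.Agent.VAmpPn.isRelVeryAmple_tensorPow_of_isRelAmple f L hLinv hL
  obtain ⟨E, 𝒯, j, P, p, chart, O1, lam, i, hE, hFT, hj, hP, hO1, hi, hip, -⟩ :=
    exists_ft_bundle_qcqs f (CohB1.tensorPow L n₀)
      (TensH8.isInvertible_tensorPow hLinv n₀) (h0 n₀ le_rfl)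
  exact ⟨E, 𝒯, j, P, p, chart, i, hE, hFT, hj, hP, hi, hip⟩

end Groth.Agent.QProj
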