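import Mathlib
import Groth.Prelude
import Groth.Agent.Lib.QProj1_helper5
import Groth.Agent.Lib.PBProj2_helper5
import Groth.Agent.Lib.ClProj4_helper5
import Groth.Agent.Lib.RelProj_helper3
import Groth.Agent.Lib.ProjMorph1_helper5
import Groth.Agent.Lib.Tens24_helper8

/-!
# Quasi-projective and projective morphisms over a quasi-compact quasi-separated base (helper5).
APPEND-ONLY once landed.
-/

set_option autoImplicit false
universe u
open CategoryTheory CategoryTheory.Limits AlgebraicGeometry TopologicalSpace Opposite
open scoped HomogeneousIdeal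

noncomputable section

namespace Groth.Agent.QProj

/-- A quasi-projective morphism to a quasi-compact quasi-separated scheme factors as a
quasi-compact immersion into a projective bundle `P(E)`, `E` of finite type, which is projective
over the base. -/
theorem exists_immersion_projective {X Y : Scheme.{u}} [CompactSpace Y] [QuasiSeparatedSpace Y]
    (f : X ⟶ Y) (hf : RelProj.IsQuasiProjective f) :
    ∃ (P : Scheme.{u}) (p : P ⟶ Y) (i : X ⟶ P), RelProj.IsProjective p ∧ IsSeparated p ∧
      IsImmersion i ∧ QuasiCompact i ∧ i ≫ p = f := by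
  obtain ⟨E, 𝒯, j, P, p, chart, i, hE, hFT, hj, hP, hi, hip⟩ := exists_immersion_qcqs f hf
  haveI : E.IsQuasicoherent := hE
  have hproj : RelProj.IsProjective p :=
    ⟨𝒯, P, p, chart, Iso.refl P, Groth.Agent.PBProj.isGenDegOne_of_isGrSymAlg E 𝒯 j hj,
      Groth.Agent.PBProj.isFTDeg_one_of_isGrSymAlg E 𝒯 j hj hFT, hP, Category.id_comp _⟩
  haveI hsep : IsSeparated p :=
    Groth.Agent.Lib.RelProj_helper3.of_chart @IsSeparated hP fun U hU => inferInstance
  obtain ⟨hlft, hqc, -⟩ := hf
  haveI : QuasiCompact (i ≫ p) := by rw [hip]; exact hqc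
  have hiqc : QuasiCompact i :=
    MorphismProperty.HasOfPostcompProperty.of_postcomp (W := @QuasiCompact)
      (W' := @QuasiSeparated) i p inferInstance inferInstance
  exact ⟨P, p, i, hproj, hsep, hi, hiqc, hip⟩

/-- **A quasi-projective morphism to a quasi-compact quasi-separated scheme is an open immersion
followed by a projective morphism.** -/
theorem exists_openImmersion_projective {X S : Scheme.{u}} [CompactSpace S]
    [QuasiSeparatedSpace S] (f : X ⟶ S) (hf : RelProj.IsQuasiProjective f) :
    ∃ (X' : Scheme.{u}) (j : X ⟶ X') (g : X' ⟶ S),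
      IsOpenImmersion j ∧ RelProj.IsProjective g ∧ j ≫ g = f := by
  obtain ⟨P, p, i, hproj, hsep, hi, hiqc, hip⟩ := exists_immersion_projective f hf
  haveI := hi
  haveI := hiqc
  refine ⟨i.image, i.toImage, i.imageι ≫ p, inferInstance,
    Groth.Agent.ClProj.isProjective_comp_of_isClosedImmersion i.imageι p hproj, ?_⟩
  rw [← Category.assoc, Scheme.Hom.toImage_imageι, hip]

/-- **A quasi-projective proper morphism to a quasi-compact quasi-separated scheme is
projective.** -/
theorem isProjective_of_isProper {X Y : Scheme.{u}} [CompactSpace Y] [QuasiSeparatedSpace Y]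
    (f : X ⟶ Y) (hq : RelProj.IsQuasiProjective f) [IsProper f] : RelProj.IsProjective f := by
  obtain ⟨P, p, i, hproj, hsep, hi, hiqc, hip⟩ := exists_immersion_projective f hq
  haveI := hi
  haveI := hsep
  haveI : IsProper (i ≫ p) := by rw [hip]; infer_instance
  haveI : IsProper i := IsProper.of_comp i p
  haveI : IsClosedImmersion i := IsClosedImmersion.of_isPreimmersion i i.isClosedMap.isClosed_range
  rw [← hip]
  exact Groth.Agent.ClProj.isProjective_comp_of_isClosedImmersion i p hproj

/-- **The composite of projective morphisms over a quasi-compact quasi-separated base is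
projective.** -/
theorem isProjective_comp {X Y S : Scheme.{u}} [CompactSpace S] [QuasiSeparatedSpace S]
    (f : X ⟶ Y) (g : Y ⟶ S) (hf : RelProj.IsProjective f) (hg : RelProj.IsProjective g) :
    RelProj.IsProjective (f ≫ g) := by
  obtain ⟨⟨hlf, hqf, L, hL⟩, hpf⟩ := Groth.Agent.ProjMorph.quasiProjective_and_proper f hf
  obtain ⟨⟨hlg, hqg, K, hK⟩, hpg⟩ := Groth.Agent.ProjMorph.quasiProjective_and_proper g hg
  haveI := hlf
  haveI := hqf
  haveI := hlg
  haveI := hqg
  haveI := hpf
  haveI := hpg
  obtain ⟨n₀, hn₀, hn⟩ := TensH8.isRelAmple_comp_twist f g L K hL hK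
  have hqp : RelProj.IsQuasiProjective (f ≫ g) :=
    ⟨inferInstance, inferInstance, _, hn n₀ le_rfl⟩
  exact isProjective_of_isProper (f ≫ g) hqp

end Groth.Agent.QProj
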