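import Mathlib
import Groth.Prelude.Def_CAlgX
import Groth.Agent.Lib.QRNil3_helper6

/-!
# Flatness of the quotient by a sequence that is quasi-regular modulo a nil ideal (helper6): S9270
globalisation.
-/

set_option autoImplicit false
set_option linter.style.haveILetI false
universe u

open TensorProduct IsLocalRing RingTheory.Sequence

namespace Groth.Agent.Lib.QRNilH6

variable {A' B' : Type u} [CommRing A'] [CommRing B'] [Algebra A' B']

theorem main9270 [Module.Flat A' B'] [Algebra.FinitePresentation A' B']
    (I : Ideal A') (hI : ∀ x ∈ I, IsNilpotent x) (r : ℕ) (f' : Fin r → B')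
    (hq : CAlgX.IsQuasiRegular
      (fun i => Ideal.Quotient.mk (Ideal.map (algebraMap A' B') I) (f' i)))
    (hflat : Module.Flat (A' ⧸ I)
      ((B' ⧸ Ideal.map (algebraMap A' B') I) ⧸
        Ideal.span (Set.range (fun i => Ideal.Quotient.mk (Ideal.map (algebraMap A' B') I) (f' i))))) :
    Module.Flat A' (B' ⧸ Ideal.span (Set.range f')) := by
  classical
  obtain ⟨K, hK⟩ : ∃ K : Ideal B', K = Ideal.span (Set.range f') := ⟨_, rfl⟩
  rw [← hK]
  refine Module.flat_of_isLocalized_maximal (S := B') (M := B' ⧸ K)
    (Mₚ := fun P _ => LocalizedModule P.primeCompl (B' ⧸ K))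
    (fun P _ => LocalizedModule.mkLinearMap _ _) ?_
  intro P hP
  let g : (B' ⧸ K) →ₗ[B'] (Localization.AtPrime P ⧸ K.map (algebraMap B' (Localization.AtPrime P))) :=
    (IsScalarTower.toAlgHom B' (B' ⧸ K)
      (Localization.AtPrime P ⧸ K.map (algebraMap B' (Localization.AtPrime P)))).toLinearMap
  haveI : IsLocalizedModule P.primeCompl g :=
    (isLocalizedModule_iff_isLocalization).mpr inferInstance
  let e := IsLocalizedModule.iso P.primeCompl g
  suffices h : Module.Flat A' (Localization.AtPrime P ⧸
      K.map (algebraMap B' (Localization.AtPrime P))) from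
    Module.Flat.of_linearEquiv (e.restrictScalars A')
  by_cases hP' : ∀ i, f' i ∈ P
  · rw [hK]
    exact flat_localization_quotient I hI r f' hq hflat P hP'
  · push_neg at hP'
    obtain ⟨i, hi⟩ := hP'
    have htop : K.map (algebraMap B' (Localization.AtPrime P)) = ⊤ := by
      apply Ideal.eq_top_of_isUnit_mem _ _
        (IsLocalization.map_units (Localization.AtPrime P) (⟨f' i, hi⟩ : P.primeCompl))
      apply Ideal.mem_map_of_mem
      rw [hK]
      exact Ideal.subset_span ⟨i, rfl⟩
    haveI : Subsingleton (Localization.AtPrime P ⧸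
        K.map (algebraMap B' (Localization.AtPrime P))) := by
      rw [htop]
      exact Ideal.Quotient.subsingleton_iff.mpr rfl
    infer_instance

end Groth.Agent.Lib.QRNilH6
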