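import Mathlib
import Groth.Prelude.Def_CAlgX
import Groth.Agent.Lib.QRNil4_helper6

/-!
# Smoothness of the quotient by a sequence that is quasi-regular modulo a nil ideal (helper6): S9271
-/

set_option autoImplicit false
set_option linter.style.haveILetI false
universe u

open TensorProduct IsLocalRing

namespace Groth.Agent.Lib.QRNilH6

/-- A flat, finitely presented algebra which is smooth modulo a nil ideal is smooth. -/
theorem smooth_of_flat_of_smooth_mod_nil {A' C' : Type u} [CommRing A'] [CommRing C']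
    [Algebra A' C'] [Module.Flat A' C'] [Algebra.FinitePresentation A' C']
    (I : Ideal A') (hI : ∀ x ∈ I, IsNilpotent x)
    (hsm : Algebra.Smooth (A' ⧸ I) (C' ⧸ I.map (algebraMap A' C'))) :
    Algebra.Smooth A' C' := by
  apply Algebra.Smooth.of_formallySmooth_fiber
  intro p hp
  have hIp : I ≤ p := by
    intro a ha
    obtain ⟨n, hn⟩ := hI a ha
    have h0 : a ^ n ∈ p := by rw [hn]; exact Ideal.zero_mem _
    exact Ideal.IsPrime.mem_of_pow_mem inferInstance n h0
  letI algκ : Algebra (A' ⧸ I) p.ResidueField :=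
    (Ideal.Quotient.lift I (algebraMap A' p.ResidueField) (fun a ha =>
      Ideal.algebraMap_residueField_eq_zero.mpr (hIp ha))).toAlgebra
  haveI : IsScalarTower A' (A' ⧸ I) p.ResidueField :=
    IsScalarTower.of_algebraMap_eq (fun x => rfl)
  haveI : Algebra.Smooth (A' ⧸ I) ((A' ⧸ I) ⊗[A'] C') :=
    Algebra.Smooth.of_equiv (Algebra.TensorProduct.quotIdealMapEquivQuotTensor C' I)
  haveI : Algebra.Smooth p.ResidueField (p.ResidueField ⊗[A' ⧸ I] ((A' ⧸ I) ⊗[A'] C')) :=
    inferInstance
  exact Algebra.FormallySmooth.of_equiv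
    (Algebra.TensorProduct.cancelBaseChange A' (A' ⧸ I) p.ResidueField p.ResidueField C')

end Groth.Agent.Lib.QRNilH6

namespace Groth.Agent.Lib.QRNilH6

variable {A' B' : Type u} [CommRing A'] [CommRing B'] [Algebra A' B']

theorem main9271 [Module.Flat A' B'] [Algebra.FinitePresentation A' B']
    (I : Ideal A') (hI : ∀ x ∈ I, IsNilpotent x) (r : ℕ) (f' : Fin r → B')
    (hq : CAlgX.IsQuasiRegular
      (fun i => Ideal.Quotient.mk (Ideal.map (algebraMap A' B') I) (f' i)))
    (hsm : Algebra.Smooth (A' ⧸ I)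
      ((B' ⧸ Ideal.map (algebraMap A' B') I) ⧸
        Ideal.span (Set.range (fun i => Ideal.Quotient.mk (Ideal.map (algebraMap A' B') I) (f' i))))) :
    Algebra.Smooth A' (B' ⧸ Ideal.span (Set.range f')) := by
  classical
  haveI := hsm
  have hflat : Module.Flat (A' ⧸ I)
      ((B' ⧸ Ideal.map (algebraMap A' B') I) ⧸
        Ideal.span (Set.range (fun i => Ideal.Quotient.mk (Ideal.map (algebraMap A' B') I) (f' i)))) :=
    Algebra.Smooth.flat _ _
  haveI : Module.Flat A' (B' ⧸ Ideal.span (Set.range f')) := main9270 I hI r f' hq hflat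
  haveI : Algebra.FinitePresentation A' (B' ⧸ Ideal.span (Set.range f')) :=
    Algebra.FinitePresentation.quotient ⟨Finset.univ.image f', by simp⟩
  apply smooth_of_flat_of_smooth_mod_nil I hI
  obtain ⟨K, hK⟩ : ∃ K : Ideal B', K = Ideal.span (Set.range f') := ⟨_, rfl⟩
  have h1 : Ideal.span (Set.range (fun i =>
      Ideal.Quotient.mk (Ideal.map (algebraMap A' B') I) (f' i))) =
      K.map (Ideal.Quotient.mkₐ A' (Ideal.map (algebraMap A' B') I)) := by
    rw [hK, Ideal.map_span, ← Set.range_comp]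
    rfl
  have h2 : (Ideal.map (algebraMap A' B') I).map (Ideal.Quotient.mkₐ A' K) =
      I.map (algebraMap A' (B' ⧸ K)) := by
    show Ideal.map (Ideal.Quotient.mk K) (Ideal.map (algebraMap A' B') I) = _
    rw [Ideal.map_map]
    rfl
  rw [← hK]
  rw [h1] at hsm
  let e : ((B' ⧸ Ideal.map (algebraMap A' B') I) ⧸
      K.map (Ideal.Quotient.mkₐ A' (Ideal.map (algebraMap A' B') I))) ≃ₐ[A']
      ((B' ⧸ K) ⧸ I.map (algebraMap A' (B' ⧸ K))) :=
    (DoubleQuot.quotQuotEquivCommₐ A' (Ideal.map (algebraMap A' B') I) K).trans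
      (Ideal.quotientEquivAlgOfEq A' h2)
  exact Algebra.Smooth.of_equiv
    (AlgEquiv.extendScalarsOfSurjective (S := A' ⧸ I) Ideal.Quotient.mk_surjective e)

end Groth.Agent.Lib.QRNilH6
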