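import Mathlib
import Groth.Prelude.Def_PP16
import Groth.Agent.Lib.QRegLoc_helper1
import Groth.Agent.Lib.PP16BC_helper1

/-! Differential smoothness of a finite type algebra is quasi-regularity of the diagonal (helper1). -/

set_option autoImplicit false
set_option maxHeartbeats 1000000

universe u

open TensorProduct

namespace Groth.Agent.Lib.QRegDiagH1

open Groth.Agent.Lib.QRegSymH1
open Groth.Agent.Lib.SymPowH1 (hom_ext prodMap prodMap_tprod map map_tprod lift lift_tprod)
open Groth.Agent.Lib

section SB

/-- restriction of scalars on a symmetric power -/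
@[reducible] noncomputable def modRS {R S : Type u} [CommRing R] [CommRing S] [Algebra R S]
    {M : Type u} [AddCommGroup M] [Module S M] {ι : Type u} : Module R (Sym[S] ι M) :=
  Module.compHom _ (algebraMap R S)

attribute [local instance 10] modRS

variable {B C : Type u} [CommRing B] [CommRing C] [Algebra B C]
  {M : Type u} [AddCommGroup M] [Module B M] [Module C M] {ι : Type u} [Fintype ι]

/-- `(m_i) ↦ m_1 ⋯ m_n ∈ Sym_C(M)` as a `B`-multilinear map -/
noncomputable def thetaM (hM : ∀ (b : B) (m : M), b • m = algebraMap B C b • m) :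
    MultilinearMap B (fun _ : ι => M) (Sym[C] ι M) where
  toFun m := SymmetricPower.tprod C m
  map_update_add' := by
    intro _ m i x y
    exact (SymmetricPower.tprod C).map_update_add m i x y
  map_update_smul' := by
    intro _ m i b x
    rw [hM b x, (SymmetricPower.tprod C).map_update_smul]
    rfl

/-- the comparison map `Sym_B(M) → Sym_C(M)` -/
noncomputable def thetaL (hM : ∀ (b : B) (m : M), b • m = algebraMap B C b • m) :
    Sym[B] ι M →ₗ[B] Sym[C] ι M :=
  lift (thetaM hM) (fun e m => show thetaM hM (fun i => m (e i)) = thetaM hM m from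
    SymmetricPower.tprod_equiv e m)

theorem thetaL_tprod (hM : ∀ (b : B) (m : M), b • m = algebraMap B C b • m) (m : ι → M) :
    thetaL hM (SymmetricPower.tprod B m) = SymmetricPower.tprod C m := by
  rw [thetaL, lift_tprod]
  rfl

theorem thetaL_smul (hM : ∀ (b : B) (m : M), b • m = algebraMap B C b • m) (b : B)
    (x : Sym[B] ι M) : thetaL hM (b • x) = algebraMap B C b • thetaL hM x :=
  (thetaL hM).map_smul b x

theorem thetaL_injective (π : C →+* B) (hπ : ∀ b, π (algebraMap B C b) = b)
    (hM : ∀ (b : B) (m : M), b • m = algebraMap B C b • m)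
    (hM' : ∀ (c : C) (m : M), c • m = π c • m) :
    Function.Injective (thetaL (ι := ι) hM) := by
  letI : Algebra C B := π.toAlgebra
  let ψM : MultilinearMap C (fun _ : ι => M) (Sym[B] ι M) :=
    { toFun := fun m => SymmetricPower.tprod B m
      map_update_add' := by
        intro _ m i x y
        exact (SymmetricPower.tprod B).map_update_add m i x y
      map_update_smul' := by
        intro _ m i c x
        rw [hM' c x, (SymmetricPower.tprod B).map_update_smul]
        rfl }
  let ψ : Sym[C] ι M →ₗ[C] Sym[B] ι M :=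
    lift ψM (fun e m => show ψM (fun i => m (e i)) = ψM m from SymmetricPower.tprod_equiv e m)
  have hψ : ∀ m : ι → M, ψ (SymmetricPower.tprod C m) = SymmetricPower.tprod B m := by
    intro m
    show lift ψM _ (SymmetricPower.tprod C m) = _
    rw [lift_tprod]
    rfl
  have hψθ : ∀ x, ψ (thetaL hM x) = x := by
    intro x
    have hx : x ∈ (⊤ : Submodule B (Sym[B] ι M)) := trivial
    rw [← SymmetricPower.span_tprod_eq_top B ι M] at hx
    induction hx using Submodule.span_induction with
    | mem z hz =>
      obtain ⟨m, rfl⟩ := hz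
      rw [thetaL_tprod, hψ]
    | zero => rw [map_zero, map_zero]
    | add u v _ _ hu hv => rw [map_add, map_add, hu, hv]
    | smul b u _ hu =>
      rw [thetaL_smul, map_smul, hu]
      show π (algebraMap B C b) • u = b • u
      rw [hπ]
  exact Function.LeftInverse.injective hψθ

theorem smul_eq_of_nonempty [Nonempty ι] (π : C →+* B)
    (hM'' : ∀ (c : C) (m : M), c • m = algebraMap B C (π c) • m) (c : C) (u : Sym[C] ι M) :
    c • u = algebraMap B C (π c) • u := by
  classical
  have hu : u ∈ (⊤ : Submodule C (Sym[C] ι M)) := trivial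
  rw [← SymmetricPower.span_tprod_eq_top C ι M] at hu
  induction hu using Submodule.span_induction with
  | mem z hz =>
    obtain ⟨m, rfl⟩ := hz
    obtain ⟨i0⟩ := ‹Nonempty ι›
    have h1 : ∀ c' : C, c' • SymmetricPower.tprod C m =
        SymmetricPower.tprod C (Function.update m i0 (c' • m i0)) := by
      intro c'
      rw [MultilinearMap.map_update_smul, Function.update_eq_self]
    rw [h1 c, h1 (algebraMap B C (π c)), hM'' c (m i0)]
  | zero => rw [smul_zero, smul_zero]
  | add u v _ _ hu hv => rw [smul_add, smul_add, hu, hv]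
  | smul c' u _ hu => rw [smul_comm, hu, smul_comm]

theorem thetaL_surjective [Nonempty ι] (π : C →+* B)
    (hM : ∀ (b : B) (m : M), b • m = algebraMap B C b • m)
    (hM'' : ∀ (c : C) (m : M), c • m = algebraMap B C (π c) • m) :
    Function.Surjective (thetaL (ι := ι) hM) := by
  intro u
  have hu : u ∈ (⊤ : Submodule C (Sym[C] ι M)) := trivial
  rw [← SymmetricPower.span_tprod_eq_top C ι M] at hu
  induction hu using Submodule.span_induction with
  | mem z hz =>
    obtain ⟨m, rfl⟩ := hz
    exact ⟨SymmetricPower.tprod B m, thetaL_tprod hM m⟩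
  | zero => exact ⟨0, map_zero _⟩
  | add u v _ _ hu hv =>
    obtain ⟨x, rfl⟩ := hu
    obtain ⟨y, rfl⟩ := hv
    exact ⟨x + y, map_add _ _ _⟩
  | smul c u _ hu =>
    obtain ⟨x, rfl⟩ := hu
    exact ⟨π c • x, by rw [thetaL_smul, ← smul_eq_of_nonempty π hM'' c]⟩

end SB

section Proj

theorem projective_iff_of_ringEquiv {R S : Type*} [CommRing R] [CommRing S] (e : R ≃+* S)
    {M : Type*} [AddCommGroup M] [Module R M] [Module S M]
    (h : ∀ (r : R) (m : M), r • m = e r • m) :
    Module.Projective R M ↔ Module.Projective S M := by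
  haveI : RingHomInvPair (e : R →+* S) (e.symm : S →+* R) := RingHomInvPair.of_ringEquiv e
  haveI : RingHomInvPair (e.symm : S →+* R) (e : R →+* S) := RingHomInvPair.symm _ _
  constructor
  · intro hP
    exact Module.Projective.of_equiv (σ := (e : R →+* S)) (σ' := (e.symm : S →+* R))
      ({ toFun := id
         map_add' := fun _ _ => rfl
         map_smul' := fun r m => h r m
         invFun := id
         left_inv := fun _ => rfl
         right_inv := fun _ => rfl } : M ≃ₛₗ[(e : R →+* S)] M)
  · intro hP
    exact Module.Projective.of_equiv (σ := (e.symm : S →+* R)) (σ' := (e : R →+* S))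
      ({ toFun := id
         map_add' := fun _ _ => rfl
         map_smul' := fun s m => by
           show s • m = e.symm s • m
           rw [h, e.apply_symm_apply]
         invFun := id
         left_inv := fun _ => rfl
         right_inv := fun _ => rfl } : M ≃ₛₗ[(e.symm : S →+* R)] M)

end Proj


section Diag

open Groth.Agent.Lib.PP16SmoothH1 (phi phi_tprod phi_tprod_D phi_surjective prodCls out)

attribute [local instance 10] modRS

variable (A B : Type u) [CommRing A] [CommRing B] [Algebra A B]

/-- multiplication `B ⊗ B → B` as a ring hom -/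
noncomputable def mu : B ⊗[A] B →+* B :=
  (Algebra.TensorProduct.lmul' A : B ⊗[A] B →ₐ[A] B).toRingHom

theorem mu_algebraMap (b : B) : mu A B (algebraMap B (B ⊗[A] B) b) = b := by
  rw [Algebra.TensorProduct.algebraMap_apply]
  show Algebra.TensorProduct.lmul' A ((algebraMap B B b) ⊗ₜ[A] (1 : B)) = b
  rw [Algebra.TensorProduct.lmul'_apply_tmul, mul_one]
  rfl

theorem sub_mu_mem (c : B ⊗[A] B) :
    c - algebraMap B (B ⊗[A] B) (mu A B c) ∈ KaehlerDifferential.ideal A B := by
  rw [KaehlerDifferential.ideal, RingHom.mem_ker, map_sub, sub_eq_zero]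
  exact (mu_algebraMap A B (mu A B c)).symm

theorem smul_cot (c : B ⊗[A] B) (m : (KaehlerDifferential.ideal A B).Cotangent) :
    c • m = algebraMap B (B ⊗[A] B) (mu A B c) • m := by
  obtain ⟨y, rfl⟩ := (KaehlerDifferential.ideal A B).toCotangent_surjective m
  rw [← sub_eq_zero, ← sub_smul, ← map_smul, Ideal.toCotangent_eq_zero, Submodule.coe_smul,
    smul_eq_mul, pow_two]
  exact Ideal.mul_mem_mul (sub_mu_mem A B c) y.2

theorem hM_cot (b : B) (m : (KaehlerDifferential.ideal A B).Cotangent) :
    b • m = algebraMap B (B ⊗[A] B) b • m := (algebraMap_smul (B ⊗[A] B) b m).symm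

variable {ι : Type u} [Fintype ι]

/-- the comparison `Sym_B(Ω) → Sym_{B⊗B}(I/I²)` -/
noncomputable def th : Sym[B] ι (KaehlerDifferential.ideal A B).Cotangent →ₗ[B]
    Sym[B ⊗[A] B] ι (KaehlerDifferential.ideal A B).Cotangent :=
  thetaL (hM_cot A B)

theorem th_tprod (ω : ι → (KaehlerDifferential.ideal A B).Cotangent) :
    th A B (SymmetricPower.tprod B ω) = SymmetricPower.tprod (B ⊗[A] B) ω :=
  thetaL_tprod _ ω

theorem th_smul (b : B) (x : Sym[B] ι (KaehlerDifferential.ideal A B).Cotangent) :
    th A B (b • x) = algebraMap B (B ⊗[A] B) b • th A B x :=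
  thetaL_smul _ b x

theorem th_injective : Function.Injective (th A B (ι := ι)) :=
  thetaL_injective (mu A B) (mu_algebraMap A B) (hM_cot A B) (fun c m => by
    rw [smul_cot A B c m, algebraMap_smul])

theorem th_surjective [Nonempty ι] : Function.Surjective (th A B (ι := ι)) :=
  thetaL_surjective (mu A B) (hM_cot A B) (smul_cot A B)

theorem jJ_phiJ_th (x : Sym[B] ι (KaehlerDifferential.ideal A B).Cotangent) :
    jJ (B ⊗[A] B) (KaehlerDifferential.ideal A B) (Fintype.card ι)
      (phiJ (B ⊗[A] B) (KaehlerDifferential.ideal A B) (th A B x)) =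
    PP16Char0H1.jmap A B (Fintype.card ι) (phi A B x) := by
  have hx : x ∈ (⊤ : Submodule B (Sym[B] ι (KaehlerDifferential.ideal A B).Cotangent)) := trivial
  rw [← SymmetricPower.span_tprod_eq_top B ι (KaehlerDifferential.ideal A B).Cotangent] at hx
  induction hx using Submodule.span_induction with
  | mem z hz =>
    obtain ⟨ω, rfl⟩ := hz
    have e1 : jJ (B ⊗[A] B) (KaehlerDifferential.ideal A B) (Fintype.card ι)
        (phiJ (B ⊗[A] B) (KaehlerDifferential.ideal A B) (th A B (SymmetricPower.tprod B ω))) =
        Ideal.Quotient.mk (KaehlerDifferential.ideal A B ^ (Fintype.card ι + 1))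
          (∏ i, ((outJ (B ⊗[A] B) (KaehlerDifferential.ideal A B) (ω i) :
            KaehlerDifferential.ideal A B) : B ⊗[A] B)) := by
      rw [th_tprod, phiJ_tprod, jJ_prodClsJ]
    have e2 : PP16Char0H1.jmap A B (Fintype.card ι) (phi A B (SymmetricPower.tprod B ω)) =
        Ideal.Quotient.mk (KaehlerDifferential.ideal A B ^ (Fintype.card ι + 1))
          (∏ i, ((out A B (ω i) : KaehlerDifferential.ideal A B) : B ⊗[A] B)) :=
      congrArg (PP16Char0H1.jmap A B (Fintype.card ι)) (phi_tprod A B ω)
    refine e1.trans (Eq.trans ?_ e2.symm)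
    rfl
  | zero =>
    rw [map_zero, map_zero, map_zero]
    exact ((congrArg (PP16Char0H1.jmap A B (Fintype.card ι)) (map_zero (phi A B))).trans
      (map_zero _)).symm
  | add u v _ _ hu hv =>
    rw [map_add, map_add, map_add, hu, hv]
    exact ((congrArg (PP16Char0H1.jmap A B (Fintype.card ι)) (map_add (phi A B) u v)).trans
      (map_add _ _ _)).symm
  | smul b u _ hu =>
    rw [th_smul, map_smul, map_smul, hu, algebraMap_smul]
    exact ((congrArg (PP16Char0H1.jmap A B (Fintype.card ι)) (map_smul (phi A B) b u)).trans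
      (map_smul _ _ _)).symm

theorem phi_injective_of_phiJ
    (h : Function.Injective (phiJ (B ⊗[A] B) (KaehlerDifferential.ideal A B) (ι := ι))) :
    Function.Injective (phi A B (ι := ι)) := by
  rw [injective_iff_map_eq_zero]
  intro x hx
  have h1 := jJ_phiJ_th A B x
  rw [hx, map_zero] at h1
  have h2 : phiJ (B ⊗[A] B) (KaehlerDifferential.ideal A B) (th A B x) = 0 :=
    (injective_iff_map_eq_zero _).mp (jJ_injective _ _ _) _ h1
  have h3 : th A B x = 0 := (injective_iff_map_eq_zero _).mp h _ h2
  exact (injective_iff_map_eq_zero _).mp (th_injective A B) _ h3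

theorem phiJ_injective_of_phi [Nonempty ι] (h : Function.Injective (phi A B (ι := ι))) :
    Function.Injective (phiJ (B ⊗[A] B) (KaehlerDifferential.ideal A B) (ι := ι)) := by
  rw [injective_iff_map_eq_zero]
  intro u hu
  obtain ⟨x, rfl⟩ := th_surjective A B u
  have h1 := jJ_phiJ_th A B x
  rw [hu, map_zero] at h1
  have h2 : phi A B x = 0 :=
    (injective_iff_map_eq_zero _).mp (PP16BCH1.jmap_injective A B _) _ h1.symm
  have h3 : x = 0 := (injective_iff_map_eq_zero (phi A B)).mp h x h2
  rw [h3, map_zero]

omit [Fintype ι] in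
theorem lmul'_surjective :
    Function.Surjective (Algebra.TensorProduct.lmul' A : B ⊗[A] B →ₐ[A] B) := fun b =>
  ⟨b ⊗ₜ[A] (1 : B), by rw [Algebra.TensorProduct.lmul'_apply_tmul, mul_one]⟩

/-- `(B ⊗ B)/I ≅ B` -/
noncomputable def quotEquiv : ((B ⊗[A] B) ⧸ KaehlerDifferential.ideal A B) ≃+* B :=
  (Ideal.quotientKerAlgEquivOfSurjective (lmul'_surjective A B)).toRingEquiv

omit [Fintype ι] in
theorem quotEquiv_mk (c : B ⊗[A] B) :
    quotEquiv A B (Ideal.Quotient.mk _ c) = Algebra.TensorProduct.lmul' A c := rfl

theorem proj_iff :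
    Module.Projective ((B ⊗[A] B) ⧸ KaehlerDifferential.ideal A B)
      (KaehlerDifferential.ideal A B).Cotangent ↔ Module.Projective B Ω[B⁄A] := by
  have h := projective_iff_of_ringEquiv (quotEquiv A B)
    (M := (KaehlerDifferential.ideal A B).Cotangent) (fun r m => by
      obtain ⟨c, rfl⟩ := Ideal.Quotient.mk_surjective r
      show Ideal.Quotient.mk _ c • m = (mu A B c) • m
      rw [← Ideal.Quotient.algebraMap_eq, algebraMap_smul, smul_cot A B c m, algebraMap_smul])
  exact h

/-- S3823 -/
theorem main [Algebra.FiniteType A B] :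
    PP16.IsDiffSmooth A B ↔
      PP16.IsLocallyQuasiRegular (B ⊗[A] B) (KaehlerDifferential.ideal A B) := by
  rw [QRegLocH1.main]
  constructor
  · intro h
    refine ⟨KaehlerDifferential.ideal_fg A B, (proj_iff A B).mpr h.1, ?_⟩
    intro κ _ _
    refine ⟨phiJ _ _, fun x => by rw [phiJ_tprod_cot]; rfl, ?_, phiJ_surjective _ _⟩
    exact phiJ_injective_of_phi A B (PP16BCH1.phi_bijective A B h).1
  · rintro ⟨-, hproj, hsym⟩
    refine ⟨(proj_iff A B).mp hproj, ?_⟩
    intro κ _
    refine ⟨phi A B, phi_tprod_D A B, ?_, phi_surjective A B⟩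
    rcases Nat.eq_zero_or_pos (Fintype.card κ) with h0 | hpos
    · exact PP16BCH1.phi_injective_card_zero' A B h0
    · haveI : Nonempty κ := Fintype.card_pos_iff.mp hpos
      obtain ⟨φ, hφ, hbij⟩ := hsym κ
      have hinj : Function.Injective
          (phiJ (B ⊗[A] B) (KaehlerDifferential.ideal A B) (ι := κ)) := by
        rw [← eq_phiJ _ _ φ hφ]
        exact hbij.1
      exact phi_injective_of_phiJ A B hinj

end Diag

end Groth.Agent.Lib.QRegDiagH1
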