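import Mathlib
import Groth.Prelude.Def_EGA43
import Groth.Agent.Lib.QSecC_helper8
import Groth.Agent.S5924
import Groth.Agent.S5925

/-! Quasi-sections: inductive step. -/

universe u
open AlgebraicGeometry CategoryTheory TopologicalSpace

namespace QSecH8

variable {X Y : Scheme.{u}} (f : X ⟶ Y)

/-- closed in the fibre ⇒ residue transcendence degree zero. -/
theorem toENat_resTrdeg_eq_zero [LocallyOfFiniteType f] (x : X)
    (hcl : ∀ x' : X, f.base x' = f.base x → x ⤳ x' → x' = x) :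
    Cardinal.toENat (Dual3.resTrdeg f x) = 0 := by
  have h1 := FibClosH8.dim_closure_inter_fiber f x
  have h2 : closure ({x} : Set X) ∩ f.base ⁻¹' {f.base x} = {x} := by
    ext a
    constructor
    · rintro ⟨ha1, ha2⟩
      exact hcl a ha2 (specializes_iff_mem_closure.mpr ha1)
    · intro ha
      rw [Set.mem_singleton_iff] at ha
      subst ha
      exact ⟨subset_closure rfl, rfl⟩
  have h3 : topologicalKrullDim ↥(closure ({x} : Set X) ∩ f.base ⁻¹' {f.base x}) ≤ 0 := by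
    rw [h2]
    exact topologicalKrullDim_zero_of_discreteTopology _
  rw [h1] at h3
  have h4 : Cardinal.toENat (Dual3.resTrdeg f x) ≤ 0 := by exact_mod_cast h3
  exact le_antisymm h4 bot_le

/-- closed in the fibre with positive fibre dimension ⇒ not maximal in the fibre. -/
theorem exists_gen_of_pos [LocallyOfFiniteType f] (x : X)
    (hcl : ∀ x' : X, f.base x' = f.base x → x ⤳ x' → x' = x) (n : ℕ)
    (hn : FlatMor.fibreDimAt f x = ((n + 1 : ℕ) : WithBot ℕ∞)) :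
    ∃ x' : X, f.base x' = f.base x ∧ x' ≠ x ∧ x ∈ closure ({x'} : Set X) := by
  rw [FibCohH8.fibreDimAt_eq f x, toENat_resTrdeg_eq_zero f x hcl] at hn
  have h1 : FibCohH8.fibCoh f x = ((n + 1 : ℕ) : ℕ∞) := by
    have : ((FibCohH8.fibCoh f x : ℕ∞) : WithBot ℕ∞) = (((n + 1 : ℕ) : ℕ∞) : WithBot ℕ∞) := by
      simpa using hn
    exact_mod_cast this
  have h2 : FibCohH8.fibCoh f x ≠ 0 := by
    rw [h1]; exact_mod_cast Nat.succ_ne_zero n
  unfold FibCohH8.fibCoh at h2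
  rw [Ne, Order.coheight_eq_zero, not_isMax_iff] at h2
  obtain ⟨⟨b, hb⟩, hlt⟩ := h2
  have hle : b ⤳ x := hlt.le
  refine ⟨b, hb, ?_, hle.mem_closure⟩
  rintro rfl
  exact lt_irrefl _ hlt


theorem step [IrreducibleSpace Y] [IsLocallyNoetherian Y] (n : ℕ)
    (IH : ∀ {X : Scheme.{u}} (f : X ⟶ Y) [LocallyOfFiniteType f] (x : X), EGA43.IsEquidimAt f x →
      (∀ x' : X, f.base x' = f.base x → x ⤳ x' → x' = x) →
      FlatMor.fibreDimAt f x = (n : WithBot ℕ∞) → Goal f x)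
    [LocallyOfFiniteType f] (x : X) (hf : EGA43.IsEquidimAt f x)
    (hcl : ∀ x' : X, f.base x' = f.base x → x ⤳ x' → x' = x)
    (hn : FlatMor.fibreDimAt f x = ((n + 1 : ℕ) : WithBot ℕ∞)) : Goal f x := by
  obtain ⟨U₁, hU₁, hxU₁, g, hgx, hgmax⟩ :=
    Groth.Agent.S5924.result f x hf (exists_gen_of_pos f x hcl n hn)
  -- restrict to `U₁`
  let x₁ : ↥(U₁ : Scheme.{u}) := ⟨x, hxU₁⟩
  have hx₁ : U₁.ι.base x₁ = x := rfl
  let f₁ : (U₁ : Scheme.{u}) ⟶ Y := U₁.ι ≫ f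
  have hf₁ : EGA43.IsEquidimAt f₁ x₁ := isEquidimAt_restrict f x hf U₁ x₁ hx₁
  let g₁ : Γ((U₁ : Scheme.{u}), ⊤) := U₁.topIso.inv g
  have hbo : ∀ z : ↥(U₁ : Scheme.{u}),
      z ∈ (U₁ : Scheme.{u}).basicOpen g₁ ↔ U₁.ι.base z ∈ X.basicOpen g := by
    intro z
    have h0 := Scheme.Opens.ι_image_basicOpen_topIso_inv (U := U₁) g
    rw [← h0]
    exact (Scheme.Hom.apply_mem_image_iff U₁.ι).symm
  have hgx₁ : x₁ ∈ (U₁ : Scheme.{u}).zeroLocus ({g₁} : Set Γ((U₁ : Scheme.{u}), ⊤)) := by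
    rw [Scheme.zeroLocus_singleton]
    intro hcon
    exact hgx ((hbo x₁).mp hcon)
  have hmax₁ : ∀ z : ↥(U₁ : Scheme.{u}), f₁.base z = f₁.base x₁ →
      (∀ z' : ↥(U₁ : Scheme.{u}), f₁.base z' = f₁.base x₁ → z ∈ closure ({z'} : Set ↥(U₁ : Scheme.{u})) → z' = z) →
      z ∉ (U₁ : Scheme.{u}).zeroLocus ({g₁} : Set Γ((U₁ : Scheme.{u}), ⊤)) := by
    intro z hz hzmax
    rw [Scheme.zeroLocus_singleton]
    intro hcon
    apply hcon
    refine (hbo z).mpr ?_
    refine hgmax (U₁.ι.base z) hz ?_ z.2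
    intro z' hz' hzz'
    have hsp : z' ⤳ U₁.ι.base z := specializes_iff_mem_closure.mpr hzz'
    have hz'U : z' ∈ U₁ := hsp.mem_open U₁.2 z.2
    have hz'r : z' ∈ Set.range U₁.ι.base := by rw [Scheme.Opens.range_ι]; exact hz'U
    obtain ⟨z'₀, rfl⟩ := hz'r
    have h1 : z'₀ ⤳ z := (U₁.ι.isEmbedding.isInducing.specializes_iff).mp hsp
    rw [hzmax z'₀ hz' h1.mem_closure]
  obtain ⟨hA, hB, -⟩ := Groth.Agent.S5925.result f₁ x₁ hf₁ g₁ hgx₁ hmax₁
  set Zc : TopologicalSpace.Closeds ↥(U₁ : Scheme.{u}) :=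
    ⟨(U₁ : Scheme.{u}).zeroLocus ({g₁} : Set Γ((U₁ : Scheme.{u}), ⊤)),
      (U₁ : Scheme.{u}).zeroLocus_isClosed _⟩ with hZc
  set ι' := (Scheme.IdealSheafData.vanishingIdeal Zc).subschemeι with hι'
  have hrange : Set.range ι'.base = (Zc : Set ↥(U₁ : Scheme.{u})) :=
    EquidimSubH8.range_vanishingIdeal_subschemeι Zc
  obtain ⟨w, hw⟩ : x₁ ∈ Set.range ι'.base := by rw [hrange]; exact hgx₁
  have hfw : EGA43.IsEquidimAt (ι' ≫ f₁) w := hA w hw
  have hemb : Topology.IsEmbedding ι'.base := ι'.isEmbedding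
  -- fibre dimension drops by one
  have hdim : FlatMor.fibreDimAt (ι' ≫ f₁) w = (n : WithBot ℕ∞) := by
    have hb := EquidimSubH8.bridge f₁ ι' hemb w x₁ hw (Zc : Set ↥(U₁ : Scheme.{u})) hrange
      ⟨hgx₁, rfl⟩
    have h1 : FlatMor.fibreDimAt f₁ x₁ = ((n + 1 : ℕ) : WithBot ℕ∞) := by
      rw [OpenAtEqH8.fibreDimAt_restrict, hx₁, hn]
    rw [h1] at hB
    rw [hb]
    generalize FlatMor.localDim ↥((Zc : Set ↥(U₁ : Scheme.{u})) ∩ f₁.base ⁻¹' {f₁.base x₁})
      ⟨x₁, ⟨hgx₁, rfl⟩⟩ = L at hB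
    induction L with
    | bot =>
      rw [WithBot.bot_add] at hB
      exact absurd hB (WithBot.bot_ne_coe (a := ((n + 1 : ℕ) : ℕ∞)))
    | coe L =>
      have h2 : L + 1 = ((n : ℕ∞) + 1) := by
        have : ((L + 1 : ℕ∞) : WithBot ℕ∞) = (((n + 1 : ℕ) : ℕ∞) : WithBot ℕ∞) := by
          exact_mod_cast hB
        have := WithBot.coe_inj.mp this
        rw [this]; push_cast; rfl
      have h3 : L = (n : ℕ∞) := ENat.add_left_injective_of_ne_top (ENat.one_ne_top) h2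
      rw [h3]; rfl
  -- `w` is closed in its fibre
  have hclw : ∀ w' : ↥(Scheme.IdealSheafData.vanishingIdeal Zc).subscheme,
      (ι' ≫ f₁).base w' = (ι' ≫ f₁).base w → w ⤳ w' → w' = w := by
    intro w' hw' hsp
    apply hemb.injective
    apply U₁.ι.isOpenEmbedding.injective
    rw [hw, hx₁]
    apply hcl
    · have : (ι' ≫ f₁).base w = f.base x := by
        change f.base (U₁.ι.base (ι'.base w)) = f.base x
        rw [hw, hx₁]
      rw [← this]; exact hw'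
    · have h1 : ι'.base w ⤳ ι'.base w' := hsp.map ι'.continuous
      rw [hw] at h1
      have h2 := h1.map U₁.ι.continuous
      rw [hx₁] at h2
      exact h2
  have hgoal := IH (ι' ≫ f₁) w hfw hclw hdim
  have h2 := goal_of_comp ι' f₁ w hgoal
  rw [hw] at h2
  exact goal_of_comp U₁.ι f x₁ h2


theorem aux {Y : Scheme.{u}} [IrreducibleSpace Y] [IsLocallyNoetherian Y] (n : ℕ) :
    ∀ {X : Scheme.{u}} (f : X ⟶ Y) [LocallyOfFiniteType f] (x : X), EGA43.IsEquidimAt f x →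
      (∀ x' : X, f.base x' = f.base x → x ⤳ x' → x' = x) →
      FlatMor.fibreDimAt f x = (n : WithBot ℕ∞) → Goal f x := by
  induction n with
  | zero =>
    intro X f _ x hf _ h0
    exact base f x hf (by simpa using h0)
  | succ n IH =>
    intro X f _ x hf hcl hn
    exact step f n IH x hf hcl hn

theorem main {X Y : Scheme.{u}} [IrreducibleSpace Y] [IsLocallyNoetherian Y] (f : X ⟶ Y)
    [LocallyOfFiniteType f] (x : X) (hf : EGA43.IsEquidimAt f x)
    (hcl : ∀ x' : X, f.base x' = f.base x → x ⤳ x' → x' = x) : Goal f x := by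
  obtain ⟨e, U, hxU, hconst, -⟩ := EquidimCharH8.exists_of_isEquidimAt f x hf
  exact aux e f x hf hcl (hconst x hxU)

end QSecH8
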