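import Mathlib
import Groth.Prelude.Def_CohSite
import Groth.Agent.Lib.QcSect_helper7
import Groth.Agent.Lib.CompactFD_helper7
import Groth.Agent.Lib.SheafOfModulesGrothendieck_helper2

/-!
# `j_! O_U` is compact in `D(O)` for `U` quasi-compact and weakly contractible (helper7)
-/

set_option autoImplicit false
universe w v u
open CategoryTheory Limits Opposite ModSite

namespace Groth.Agent.Lib.QcSect

section Ext0

variable {A : Type u} [Category.{v} A] [Abelian A] [HasExt.{v} A]

/-- `Ext^0(Z, -)` is `Hom(Z, -)` -/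
noncomputable def ext0Iso' (Z : A) :
    Abelian.extFunctorObj.{v} Z 0 ≅ preadditiveCoyoneda.obj (op Z) :=
  NatIso.ofComponents
    (fun M => AddEquiv.toAddCommGrpIso
      (X := (Abelian.extFunctorObj.{v} Z 0).obj M)
      (Y := (preadditiveCoyoneda.obj (op Z)).obj M)
      (Abelian.Ext.addEquiv₀ (X := Z) (Y := M)))
    (by
      intro M M' f
      ext x
      obtain ⟨g, rfl⟩ := (Abelian.Ext.addEquiv₀ (X := Z) (Y := M)).symm.surjective x
      rw [Abelian.Ext.addEquiv₀_symm_apply]
      change Abelian.Ext.addEquiv₀ ((Abelian.Ext.mk₀ g).comp (Abelian.Ext.mk₀ f) (add_zero 0)) =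
        Abelian.Ext.addEquiv₀ (Abelian.Ext.mk₀ g) ≫ f
      rw [Abelian.Ext.mk₀_comp_mk₀, ← Abelian.Ext.addEquiv₀_symm_apply,
        ← Abelian.Ext.addEquiv₀_symm_apply, AddEquiv.apply_symm_apply,
        AddEquiv.apply_symm_apply])

end Ext0

section Proj

variable {C : Type u} [SmallCategory C] {J : GrothendieckTopology C} (O : Sheaf J CommRingCat.{u})

lemma preservesColimit_toSheaf {D : Type*} [Category D] (K : D ⥤ Mod O)
    [HasColimit (K ⋙ Rt O)]
    [PreservesColimit (K ⋙ Rt O) (PresheafOfModules.toPresheaf (ringSh O).obj)] :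
    PreservesColimit K (SheafOfModules.toSheaf (ringSh O)) := by
  let e : K ≅ (K ⋙ Rt O) ⋙ shf O := Functor.isoWhiskerLeft K (asIso (adj O).counit).symm
  suffices PreservesColimit ((K ⋙ Rt O) ⋙ shf O) (SheafOfModules.toSheaf (ringSh O)) from
    preservesColimit_of_iso_diagram _ e.symm
  have h0 := colimit.isColimit (K ⋙ Rt O)
  have h1 : IsColimit ((shf O).mapCocone (colimit.cocone (K ⋙ Rt O))) :=
    isColimitOfPreserves _ h0
  refine preservesColimit_of_preserves_colimit_cocone h1 ?_
  have h2 : IsColimit ((PresheafOfModules.toPresheaf (ringSh O).obj ⋙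
      presheafToSheaf J AddCommGrpCat.{u}).mapCocone (colimit.cocone (K ⋙ Rt O))) :=
    isColimitOfPreserves _ h0
  exact h2

variable {O}

lemma surjective_of_epi {U : C} (hwc : CohSite.IsWeaklyContractible J U) {E X : Mod O}
    (e : E ⟶ X) [Epi e] : Function.Surjective ((Γ O U).map e) := by
  haveI : PreservesColimit (span e e) (SheafOfModules.toSheaf (ringSh O)) :=
    preservesColimit_toSheaf O _
  haveI : Epi ((SheafOfModules.toSheaf (ringSh O)).map e) :=
    preserves_epi_of_preservesColimit _ e
  haveI : Sheaf.IsLocallySurjective ((SheafOfModules.toSheaf (ringSh O)).map e) :=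
    (Sheaf.isLocallySurjective_iff_epi'
      (φ := (SheafOfModules.toSheaf (ringSh O)).map e)).2 inferInstance
  haveI : Epi ((sheafCompose J (forget AddCommGrpCat.{u})).map
      ((SheafOfModules.toSheaf (ringSh O)).map e)) := inferInstance
  intro y
  obtain ⟨x, hx⟩ := hwc _ _ ((sheafCompose J (forget AddCommGrpCat.{u})).map
      ((SheafOfModules.toSheaf (ringSh O)).map e)) inferInstance y
  exact ⟨x, hx⟩

open Groth.Agent.Lib.ModSiteH8 in
lemma projective_freeOn {U : C} (hwc : CohSite.IsWeaklyContractible J U) :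
    Projective (freeOn O U) := by
  constructor
  intro E X f e _
  obtain ⟨m', hm'⟩ := surjective_of_epi hwc e (freeOnEquiv O U X f)
  refine ⟨(freeOnEquiv O U E).symm m', ?_⟩
  rw [freeOnEquiv_symm_comp]
  have h : e.val.app (op U) m' = freeOnEquiv O U X f := hm'
  rw [h, Equiv.symm_apply_apply]

theorem compact_freeOn [HasDerivedCategory.{u} (ModSite.Mod O)]
    [HasCoproducts.{u} (DerivedCategory (ModSite.Mod O))] {U : C}
    (hqc : CohCx.IsQcObject ((presheafToSheaf J (Type u)).obj (yoneda.obj U)))
    (hwc : CohSite.IsWeaklyContractible J U) :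
    CohDer.IsCompactObject
      ((DerivedCategory.singleFunctor (ModSite.Mod O) 0).obj (ModSite.freeOn O U)) := by
  intro ι X
  haveI : IsGrothendieckAbelian.{u} (ModSite.Mod O) :=
    Groth.Agent.Lib.FunctorialInjective.isGrothendieckAbelian_sheafOfModules J (ModSite.ringSh O)
  haveI : HasExt.{u} (ModSite.Mod O) := hasExt_of_hasDerivedCategory _
  haveI := projective_freeOn (O := O) hwc
  haveI : HasFiniteBiproducts (ModSite.Mod O) := HasFiniteBiproducts.of_hasFiniteProducts
  haveI : AB4OfSize.{u} (ModSite.Mod O) := AB4.of_AB5 _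
  refine CompactFD.bijective_fd (I := ι) (ModSite.freeOn O U) 0 ?_ ?_ X
  · intro F p hp
    obtain ⟨q, rfl⟩ : ∃ q, p = q + 1 := ⟨p - 1, by omega⟩
    exact ⟨fun a b => (Abelian.Ext.eq_zero_of_projective a).trans
      (Abelian.Ext.eq_zero_of_projective b).symm⟩
  · intro p
    rcases Nat.eq_zero_or_pos p with rfl | hp
    · haveI := preserves_coyoneda (O := O) hqc ι
      exact preservesColimitsOfShape_of_natIso (ext0Iso' (ModSite.freeOn O U)).symm
    · obtain ⟨q, rfl⟩ : ∃ q, p = q + 1 := ⟨p - 1, by omega⟩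
      apply Functor.preservesColimitsOfShape_of_isZero
      rw [Functor.isZero_iff]
      intro M
      haveI : Subsingleton (Abelian.Ext (ModSite.freeOn O U) M (q + 1)) :=
        ⟨fun a b => (Abelian.Ext.eq_zero_of_projective a).trans
          (Abelian.Ext.eq_zero_of_projective b).symm⟩
      exact @AddCommGrpCat.isZero_of_subsingleton _ (by
        change Subsingleton (Abelian.Ext (ModSite.freeOn O U) M (q + 1))
        infer_instance)

end Proj

end Groth.Agent.Lib.QcSect
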