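import Mathlib
import Groth.Agent.Lib.QcProj_helper7

/-!
# Modules of finite presentation by `j_! O_U` on a ringed site: cokernels (helper7)
-/

set_option autoImplicit false
universe w u
open CategoryTheory Limits Opposite ModSite

namespace Groth.Agent.Lib.QcSect

section AbCat

variable {A : Type*} [Category A] [Abelian A] {κ₁ κ₂ : Type*} (h : κ₁ ⊕ κ₂ → A)
  [HasCoproduct h] [HasCoproduct fun k => h (Sum.inl k)] [HasCoproduct fun k => h (Sum.inr k)]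
  {P : A} (l : (∐ fun k => h (Sum.inl k)) ⟶ P) (ψ : (∐ fun k => h (Sum.inr k)) ⟶ P)

/-- the family of maps out of the summands of a sum of two coproducts -/
noncomputable def sumFam : ∀ s : κ₁ ⊕ κ₂, h s ⟶ P
  | Sum.inl k => Sigma.ι (fun k => h (Sum.inl k)) k ≫ l
  | Sum.inr k => Sigma.ι (fun k => h (Sum.inr k)) k ≫ ψ

/-- the induced map out of the big coproduct -/
noncomputable def sumDesc : ∐ h ⟶ P := Sigma.desc (sumFam h l ψ)

lemma l_sumDesc : l ≫ cokernel.π (sumDesc h l ψ) = 0 := by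
  apply Sigma.hom_ext
  intro k
  have h1 : Sigma.ι (fun k => h (Sum.inl k)) k ≫ l = Sigma.ι h (Sum.inl k) ≫ sumDesc h l ψ := by
    unfold sumDesc
    rw [Sigma.ι_desc]
    rfl
  rw [← Category.assoc, h1, Category.assoc, cokernel.condition, comp_zero, comp_zero]

lemma ψ_sumDesc : ψ ≫ cokernel.π (sumDesc h l ψ) = 0 := by
  apply Sigma.hom_ext
  intro k
  have h1 : Sigma.ι (fun k => h (Sum.inr k)) k ≫ ψ = Sigma.ι h (Sum.inr k) ≫ sumDesc h l ψ := by
    unfold sumDesc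
    rw [Sigma.ι_desc]
    rfl
  rw [← Category.assoc, h1, Category.assoc, cokernel.condition, comp_zero, comp_zero]

lemma sumDesc_π : sumDesc h l ψ ≫ cokernel.π ψ ≫ cokernel.π (l ≫ cokernel.π ψ) = 0 := by
  apply Sigma.hom_ext
  rintro (k | k)
  · have h1 : Sigma.ι h (Sum.inl k) ≫ sumDesc h l ψ =
        Sigma.ι (fun k => h (Sum.inl k)) k ≫ l := by
      unfold sumDesc
      rw [Sigma.ι_desc]
      rfl
    rw [← Category.assoc, h1, Category.assoc, ← Category.assoc l, cokernel.condition, comp_zero,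
      comp_zero]
  · have h1 : Sigma.ι h (Sum.inr k) ≫ sumDesc h l ψ =
        Sigma.ι (fun k => h (Sum.inr k)) k ≫ ψ := by
      unfold sumDesc
      rw [Sigma.ι_desc]
      rfl
    rw [← Category.assoc, h1, Category.assoc, ← Category.assoc ψ, cokernel.condition, zero_comp,
      comp_zero, comp_zero]

/-- the cokernel of a map into a cokernel -/
noncomputable def cokernelCompπIso :
    cokernel (l ≫ cokernel.π ψ) ≅ cokernel (sumDesc h l ψ) where
  hom := cokernel.desc _ (cokernel.desc ψ (cokernel.π (sumDesc h l ψ)) (ψ_sumDesc h l ψ))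
    (by rw [Category.assoc, cokernel.π_desc, l_sumDesc])
  inv := cokernel.desc _ (cokernel.π ψ ≫ cokernel.π (l ≫ cokernel.π ψ)) (sumDesc_π h l ψ)
  hom_inv_id := by
    rw [← cancel_epi (cokernel.π (l ≫ cokernel.π ψ)), ← cancel_epi (cokernel.π ψ)]
    simp
  inv_hom_id := by
    rw [← cancel_epi (cokernel.π (sumDesc h l ψ))]
    simp

end AbCat

section FinPres

variable {C : Type u} [SmallCategory C] {J : GrothendieckTopology C} {O : Sheaf J CommRingCat.{u}}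

open Groth.Agent.Lib.ModSiteH8

lemma exists_finite_subfamily {W : C}
    (hW : CohCx.IsQcObject ((presheafToSheaf J (Type u)).obj (yoneda.obj W)))
    {κ : Type*} (Y : κ → C) (g : ∀ k, Y k ⟶ W) (h : Sieve.ofArrows Y g ∈ J W) :
    ∃ t : Finset κ, Sieve.ofArrows (fun k : t => Y k.1) (fun k : t => g k.1) ∈ J W := by
  classical
  obtain ⟨t₀, ht₀⟩ := QcSite.exists_finite_subcover hW _ h
  have hk : ∀ p : (Σ V : C, {h' : V ⟶ W // Sieve.ofArrows Y g h'}),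
      ∃ (k : κ) (a : p.1 ⟶ Y k), a ≫ g k = p.2.1 := by
    rintro ⟨V, h', hh'⟩
    obtain ⟨_, a, _, ⟨k⟩, hak⟩ := hh'
    exact ⟨k, a, hak⟩
  choose k a hak using hk
  refine ⟨t₀.image k, J.superset_covering ?_ ht₀⟩
  rintro V h' ⟨_, b, _, ⟨p⟩, rfl⟩
  refine ⟨_, b ≫ a p.1, _,
    Presieve.ofArrows.mk (⟨k p.1, Finset.mem_image_of_mem k p.2⟩ : ↥(t₀.image k)), ?_⟩
  rw [Category.assoc, hak]

lemma exists_local_lift {E X : Mod O} (e : E ⟶ X) [Epi e] {U : C} (s : (Γ O U).obj X) :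
    ∃ S ∈ J U, ∀ (V : C) (g : V ⟶ U), S g →
      ∃ x : (Γ O V).obj E, (Γ O V).map e x = res X g s := by
  haveI : PreservesColimit (span e e) (SheafOfModules.toSheaf (ringSh O)) :=
    preservesColimit_toSheaf O _
  haveI : Epi ((SheafOfModules.toSheaf (ringSh O)).map e) :=
    preserves_epi_of_preservesColimit _ e
  haveI : Sheaf.IsLocallySurjective ((SheafOfModules.toSheaf (ringSh O)).map e) :=
    (Sheaf.isLocallySurjective_iff_epi'
      (φ := (SheafOfModules.toSheaf (ringSh O)).map e)).2 inferInstance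
  exact ⟨_, Presheaf.imageSieve_mem J ((SheafOfModules.toSheaf (ringSh O)).map e).hom
    (U := op U) s, fun V g hg => hg⟩

/-- `Hom(j_! O_U, M) ≃ Γ(U, M)` -/
noncomputable def fe (U : C) (M : Mod O) : (freeOn O U ⟶ M) ≃ (Γ O U).obj M :=
  freeOnEquiv O U M

lemma fe_symm_comp (U : C) {M N : Mod O} (m : (Γ O U).obj M) (g : M ⟶ N) :
    (fe U M).symm m ≫ g = (fe U N).symm ((Γ O U).map g m) :=
  freeOnEquiv_symm_comp O U m g

/-- the universal section of `j_! O_U` -/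
noncomputable def uSec (U : C) : (Γ O U).obj (freeOn O U) :=
  fe U (freeOn O U) (𝟙 _)

lemma fe_eq (U : C) {M : Mod O} (h : freeOn O U ⟶ M) :
    fe U M h = (Γ O U).map h (uSec U) :=
  freeOnEquiv_eq O U M h

/-- functoriality of `j_! O_U` in `U` -/
noncomputable def freeOnMap {W U : C} (g : W ⟶ U) : freeOn O W ⟶ freeOn O U :=
  (fe W (freeOn O U)).symm (res (freeOn O U) g (uSec U))

lemma freeOnMap_comp {W U : C} (g : W ⟶ U) {M : Mod O} (f : freeOn O U ⟶ M) :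
    freeOnMap g ≫ f = (fe W M).symm (res M g (fe U M f)) := by
  unfold freeOnMap
  rw [fe_symm_comp, fe_eq, Γ_res]

lemma epi_sigma_freeOnMap {I : Type*} (U : I → C) {K : I → Type*} (W : ∀ i, K i → C)
    (g : ∀ i k, W i k ⟶ U i) (hcov : ∀ i, Sieve.ofArrows (W i) (g i) ∈ J (U i))
    [HasCoproduct fun i => freeOn O (U i)]
    [HasCoproduct fun a : Σ i, K i => freeOn O (W a.1 a.2)] :
    Epi (Sigma.desc (fun a : Σ i, K i =>
      freeOnMap (O := O) (g a.1 a.2) ≫ Sigma.ι (fun i => freeOn O (U i)) a.1)) := by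
  constructor
  intro M f f' hff'
  apply Sigma.hom_ext
  intro i
  apply (fe (U i) M).injective
  refine sect_ext M _ (hcov i) _ _ ?_
  rintro V' g' ⟨_, a, _, ⟨k⟩, rfl⟩
  rw [res_comp, res_comp]
  congr 1
  have h1 := (Sigma.ι (fun a : Σ i, K i => freeOn O (W a.1 a.2)) ⟨i, k⟩) ≫= hff'
  simp only [colimit.ι_desc_assoc, Cofan.mk_ι_app, Category.assoc] at h1
  rw [freeOnMap_comp, freeOnMap_comp] at h1
  exact (fe (W i k) M).symm.injective h1

variable (O) in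
/-- modules with a finite presentation by `j_! O_U`, `U ∈ B` -/
def TypeA (B : Set C) (M : Mod O) : Prop :=
  ∃ (m' n' : ℕ) (V' : Fin m' → C) (U' : Fin n' → C)
    (ψ : (∐ fun j => ModSite.freeOn O (V' j)) ⟶ ∐ fun i => ModSite.freeOn O (U' i)),
    (∀ j, V' j ∈ B) ∧ (∀ i, U' i ∈ B) ∧ Nonempty (M ≅ cokernel ψ)

lemma typeA_of_finite (B : Set C) {κ₁ : Type*} {κ₂ : Type*} [Finite κ₁] [Finite κ₂] (V : κ₁ → C)
    (U : κ₂ → C) (ψ : (∐ fun j => freeOn O (V j)) ⟶ ∐ fun i => freeOn O (U i))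
    (hV : ∀ j, V j ∈ B) (hU : ∀ i, U i ∈ B) {M : Mod O} (e : M ≅ cokernel ψ) :
    TypeA O B M := by
  let e₁ := Finite.equivFin κ₁
  let e₂ := Finite.equivFin κ₂
  let a₁ : (∐ fun j : Fin (Nat.card κ₁) => freeOn O (V (e₁.symm j))) ≅
      ∐ fun j => freeOn O (V j) :=
    Sigma.whiskerEquiv (f := fun j : Fin (Nat.card κ₁) => freeOn O (V (e₁.symm j)))
      (g := fun j => freeOn O (V j)) e₁.symm (fun j => Iso.refl _)
  let a₂ : (∐ fun j : Fin (Nat.card κ₂) => freeOn O (U (e₂.symm j))) ≅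
      ∐ fun j => freeOn O (U j) :=
    Sigma.whiskerEquiv (f := fun j : Fin (Nat.card κ₂) => freeOn O (U (e₂.symm j)))
      (g := fun j => freeOn O (U j)) e₂.symm (fun j => Iso.refl _)
  exact ⟨_, _, fun j => V (e₁.symm j), fun i => U (e₂.symm i), a₁.hom ≫ ψ ≫ a₂.inv,
    fun j => hV _, fun i => hU _,
    ⟨e ≪≫ cokernel.mapIso ψ (a₁.hom ≫ ψ ≫ a₂.inv) a₁.symm a₂.symm (by simp)⟩⟩

lemma typeA_of_lift (B : Set C) {κ₁ : Type*} {κ₂ : Type*} {κ₃ : Type*} [Finite κ₁] [Finite κ₂]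
    [Finite κ₃]
    (W : κ₁ → C) (V₂ : κ₂ → C) (U₂ : κ₃ → C) (hW : ∀ a, W a ∈ B) (hV : ∀ j, V₂ j ∈ B)
    (hU : ∀ i, U₂ i ∈ B)
    (lam : (∐ fun a => freeOn O (W a)) ⟶ ∐ fun i => freeOn O (U₂ i))
    (ψG : (∐ fun j => freeOn O (V₂ j)) ⟶ ∐ fun i => freeOn O (U₂ i)) {M : Mod O}
    (e : M ≅ cokernel (lam ≫ cokernel.π ψG)) : TypeA O B M := by
  have e5 := cokernelCompπIso (fun s : κ₁ ⊕ κ₂ => freeOn O (Sum.elim W V₂ s)) lam ψG
  exact typeA_of_finite B (Sum.elim W V₂) U₂ _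
    (fun s => by
      rcases s with a | j
      · exact hW a
      · exact hV j) hU (e ≪≫ e5)

/-- arrows from members of `B` along which a given section lifts -/
def LiftIdx (B : Set C) {E X : Mod O} (e : E ⟶ X) {U : C} (s : (Γ O U).obj X) : Type u :=
  {q : Σ Y : C, (Y ⟶ U) // q.1 ∈ B ∧
    ∃ x : (Γ O q.1).obj E, (Γ O q.1).map e x = res X q.2 s}

lemma liftIdx_cover (B : Set C)
    (hB₁ : ∀ X : C, ∃ (κ : Type u) (Y : κ → C) (g : ∀ k, Y k ⟶ X),
      Sieve.ofArrows Y g ∈ J X ∧ ∀ k, Y k ∈ B)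
    {E X : Mod O} (e : E ⟶ X) [Epi e] {U : C} (s : (Γ O U).obj X) :
    Sieve.ofArrows (fun q : LiftIdx B e s => q.1.1) (fun q : LiftIdx B e s => q.1.2) ∈ J U := by
  obtain ⟨S, hS, hlift⟩ := exists_local_lift e s
  refine J.transitive hS _ (fun V' g hg => ?_)
  obtain ⟨κ', Yc, gc, hY, hYB⟩ := hB₁ V'
  refine J.superset_covering ?_ hY
  rintro V'' h' ⟨_, a, _, ⟨k⟩, rfl⟩
  obtain ⟨x, hx⟩ := hlift V' g hg
  have hq : Yc k ∈ B ∧ ∃ x' : (Γ O (Yc k)).obj E,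
      (Γ O (Yc k)).map e x' = res X (gc k ≫ g) s :=
    ⟨hYB k, res E (gc k) x, by rw [Γ_res, hx, ← res_comp]⟩
  let q : LiftIdx B e s := ⟨⟨Yc k, gc k ≫ g⟩, hq⟩
  change Sieve.ofArrows _ _ ((a ≫ gc k) ≫ g)
  rw [Category.assoc]
  exact ⟨_, a, _, Presieve.ofArrows.mk q, rfl⟩

theorem typeA_cokernel (B : Set C)
    (hB₁ : ∀ X : C, ∃ (κ : Type u) (Y : κ → C) (g : ∀ k, Y k ⟶ X),
      Sieve.ofArrows Y g ∈ J X ∧ ∀ k, Y k ∈ B)
    (hB₂ : ∀ U ∈ B, CohCx.IsQcObject ((presheafToSheaf J (Type u)).obj (yoneda.obj U)))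
    {F G : Mod O} (α : F ⟶ G) (hF : TypeA O B F) (hG : TypeA O B G) :
    TypeA O B (cokernel α) := by
  classical
  obtain ⟨m, n, V, U, ψF, hV, hU, ⟨eF⟩⟩ := hF
  obtain ⟨m₂, n₂, V₂, U₂, ψG, hV₂, hU₂, ⟨eG⟩⟩ := hG
  obtain ⟨β, hβ⟩ : ∃ β : (∐ fun i => freeOn O (U i)) ⟶ cokernel ψG,
      β = (cokernel.π ψF ≫ eF.inv) ≫ α ≫ eG.hom := ⟨_, rfl⟩
  have e12 : cokernel α ≅ cokernel β := by
    subst hβ
    exact (cokernelCompIsIso α eG.hom).symm ≪≫
      (cokernelEpiComp (cokernel.π ψF ≫ eF.inv) (α ≫ eG.hom)).symm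
  have hfin : ∀ i : Fin n, ∃ t : Finset (LiftIdx B (cokernel.π ψG)
      (fe (U i) _ (Sigma.ι (fun i => freeOn O (U i)) i ≫ β))),
      Sieve.ofArrows (fun q : t => q.1.1.1) (fun q : t => q.1.1.2) ∈ J (U i) :=
    fun i => exists_finite_subfamily (hB₂ (U i) (hU i)) _ _ (liftIdx_cover B hB₁ _ _)
  choose t ht using hfin
  let Idx : Type u := Σ i : Fin n, ↥(t i)
  let W : Idx → C := fun a => a.2.1.1.1
  let gW : ∀ a : Idx, W a ⟶ U a.1 := fun a => a.2.1.1.2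
  have hWB : ∀ a : Idx, W a ∈ B := fun a => a.2.1.2.1
  let x : ∀ a : Idx, (Γ O (W a)).obj (∐ fun i => freeOn O (U₂ i)) := fun a => a.2.1.2.2.choose
  have hx : ∀ a : Idx, (Γ O (W a)).map (cokernel.π ψG) (x a) =
      res _ (gW a) (fe (U a.1) _ (Sigma.ι (fun i => freeOn O (U i)) a.1 ≫ β)) :=
    fun a => a.2.1.2.2.choose_spec
  obtain ⟨ρ, hρ, hρe⟩ : ∃ ρ : (∐ fun a : Idx => freeOn O (W a)) ⟶ ∐ fun i => freeOn O (U i),
      (∀ a : Idx, Sigma.ι (fun a : Idx => freeOn O (W a)) a ≫ ρ =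
        freeOnMap (O := O) (gW a) ≫ Sigma.ι (fun i => freeOn O (U i)) a.1) ∧ Epi ρ :=
    ⟨Sigma.desc (fun a : Idx => freeOnMap (O := O) (gW a) ≫
        Sigma.ι (fun i => freeOn O (U i)) a.1), fun a => Sigma.ι_desc _ _,
      epi_sigma_freeOnMap U (fun i (k : t i) => k.1.1.1) (fun i k => k.1.1.2) ht⟩
  obtain ⟨lam, hlam⟩ : ∃ lam : (∐ fun a : Idx => freeOn O (W a)) ⟶ ∐ fun i => freeOn O (U₂ i),
      ∀ a : Idx, Sigma.ι (fun a : Idx => freeOn O (W a)) a ≫ lam =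
        (fe (W a) _).symm (x a) :=
    ⟨Sigma.desc (fun a => (fe (W a) _).symm (x a)), fun a => Sigma.ι_desc _ _⟩
  have hcomm : ρ ≫ β = lam ≫ cokernel.π ψG := by
    apply Sigma.hom_ext
    intro a
    calc Sigma.ι (fun a : Idx => freeOn O (W a)) a ≫ ρ ≫ β
        = (Sigma.ι (fun a : Idx => freeOn O (W a)) a ≫ ρ) ≫ β := (Category.assoc _ _ _).symm
      _ = (freeOnMap (O := O) (gW a) ≫ Sigma.ι (fun i => freeOn O (U i)) a.1) ≫ β := by
          rw [hρ a]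
      _ = freeOnMap (O := O) (gW a) ≫ (Sigma.ι (fun i => freeOn O (U i)) a.1 ≫ β) :=
          Category.assoc _ _ _
      _ = (fe (W a) _).symm (res _ (gW a)
            (fe (U a.1) _ (Sigma.ι (fun i => freeOn O (U i)) a.1 ≫ β))) :=
          freeOnMap_comp _ _
      _ = (fe (W a) _).symm ((Γ O (W a)).map (cokernel.π ψG) (x a)) := by
          rw [hx a]
      _ = (fe (W a) _).symm (x a) ≫ cokernel.π ψG :=
          (fe_symm_comp (W a) (x a) (cokernel.π ψG)).symm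
      _ = (Sigma.ι (fun a : Idx => freeOn O (W a)) a ≫ lam) ≫ cokernel.π ψG := by
          rw [hlam a]
      _ = Sigma.ι (fun a : Idx => freeOn O (W a)) a ≫ lam ≫ cokernel.π ψG :=
          Category.assoc _ _ _
  haveI := hρe
  have e3 : cokernel β ≅ cokernel (ρ ≫ β) := (cokernelEpiComp ρ β).symm
  have e4 : cokernel (ρ ≫ β) ≅ cokernel (lam ≫ cokernel.π ψG) := cokernelIsoOfEq hcomm
  have e := e12 ≪≫ e3 ≪≫ e4
  haveI : Finite Idx := inferInstance
  exact typeA_of_lift B W V₂ U₂ hWB hV₂ hU₂ lam ψG e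

end FinPres

end Groth.Agent.Lib.QcSect
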