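import Mathlib
import Groth.Agent.Lib.QcFinPres_helper7

/-!
# Modules of finite presentation by `j_! O_U` on a ringed site: extensions (helper7)
-/

set_option autoImplicit false
universe w u
open CategoryTheory Limits Opposite ModSite

namespace Groth.Agent.Lib.QcSect

section AbCat2

variable {A : Type*} [Category A] [Abelian A]

/-- quotient of an object satisfying `P` -/
def FGen (P : A → Prop) (M : A) : Prop := ∃ (S : A) (_ : P S) (p : S ⟶ M), Epi p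

/-- quotient of an object satisfying `P` with finitely generated kernel -/
def FPres (P : A → Prop) (M : A) : Prop :=
  ∃ (S : A) (_ : P S) (p : S ⟶ M), Epi p ∧ FGen P (kernel p)

/-- the local lifting property -/
def LocLift (P : A → Prop) : Prop :=
  ∀ ⦃S M' M'' : A⦄ (φ : S ⟶ M'') (e : M' ⟶ M''), Epi e → P S →
    ∃ (S' : A) (σ : S' ⟶ S) (φ' : S' ⟶ M'), P S' ∧ Epi σ ∧ FGen P (kernel σ) ∧ φ' ≫ e = σ ≫ φ

lemma fgen_of_epi {P : A → Prop} {M N : A} (f : M ⟶ N) [Epi f] (h : FGen P M) : FGen P N := by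
  obtain ⟨S, hS, p, hp⟩ := h
  haveI := hp
  exact ⟨S, hS, p ≫ f, epi_comp p f⟩

lemma epi_kernel_lift_of_desc {T S' S : A} (τ : T ⟶ S') (ρ : S' ⟶ S) (w : τ ≫ ρ = 0)
    (h : ∀ (f : S' ⟶ cokernel τ), τ ≫ f = 0 → ∃ g : S ⟶ cokernel τ, ρ ≫ g = f) :
    Epi (kernel.lift ρ τ w) := by
  obtain ⟨g, hg⟩ := h (cokernel.π τ) (cokernel.condition τ)
  rw [epi_iff_surjective_up_to_refinements]
  intro T' x
  have h1 : (x ≫ kernel.ι ρ) ≫ cokernel.π τ = 0 := by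
    rw [← hg, Category.assoc, kernel.condition_assoc, zero_comp, comp_zero]
  obtain ⟨T'', π, hπ, t, ht⟩ :=
    (ShortComplex.cokernelSequence_exact τ).exact_up_to_refinements (x ≫ kernel.ι ρ) h1
  refine ⟨T'', π, hπ, t, ?_⟩
  rw [← cancel_mono (kernel.ι ρ), Category.assoc, Category.assoc, kernel.lift_ι]
  exact ht

section Diagram

variable {A₁ A₂ A₃ B₁ B₂ B₃ : A} (a : A₁ ⟶ A₂) (b : A₂ ⟶ A₃) (c : B₁ ⟶ B₂) (d : B₂ ⟶ B₃)
  (p₁ : A₁ ⟶ B₁) (p₂ : A₂ ⟶ B₂) (p₃ : A₃ ⟶ B₃)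

lemma epi_mid (wcd : c ≫ d = 0) (h12 : p₁ ≫ c = a ≫ p₂) (h23 : p₂ ≫ d = b ≫ p₃)
    (hcd : (ShortComplex.mk c d wcd).Exact) [Epi d] [Epi b] [Epi p₁] [Epi p₃] : Epi p₂ := by
  apply Preadditive.epi_of_cancel_zero
  intro Z h hh
  have h3 : c ≫ h = 0 := by
    rw [← cancel_epi p₁, comp_zero, ← Category.assoc, h12, Category.assoc, hh, comp_zero]
  haveI : Epi (ShortComplex.mk c d wcd).g := ‹Epi d›
  obtain ⟨h', hh'⟩ := hcd.desc' h h3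
  have hh'' : d ≫ h' = h := hh'
  have h5 : h' = 0 := by
    haveI : Epi (b ≫ p₃) := epi_comp b p₃
    rw [← cancel_epi (b ≫ p₃), comp_zero, ← h23, Category.assoc, hh'', hh]
  rw [← hh'', h5, comp_zero]

lemma kernel_map_epi (wab : a ≫ b = 0) (wcd : c ≫ d = 0) (h12 : p₁ ≫ c = a ≫ p₂) (h23 : p₂ ≫ d = b ≫ p₃)
    (hcd : (ShortComplex.mk c d wcd).Exact) [Epi b] [Epi p₁] :
    Epi (kernel.map p₂ p₃ b d h23) := by
  rw [epi_iff_surjective_up_to_refinements]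
  intro T y
  obtain ⟨T₁, π₁, hπ₁, x, hx⟩ := surjective_up_to_refinements_of_epi b (y ≫ kernel.ι p₃)
  have h1 : (x ≫ p₂) ≫ d = 0 := by
    rw [Category.assoc, h23, ← Category.assoc, ← hx, Category.assoc, Category.assoc,
      kernel.condition, comp_zero, comp_zero]
  obtain ⟨T₂, π₂, hπ₂, z, hz⟩ := hcd.exact_up_to_refinements (x ≫ p₂) h1
  have hz' : π₂ ≫ x ≫ p₂ = z ≫ c := hz
  obtain ⟨T₃, π₃, hπ₃, v, hv⟩ := surjective_up_to_refinements_of_epi p₁ z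
  have h2 : (π₃ ≫ π₂ ≫ x - v ≫ a) ≫ p₂ = 0 := by
    rw [Preadditive.sub_comp, sub_eq_zero]
    calc (π₃ ≫ π₂ ≫ x) ≫ p₂ = π₃ ≫ (π₂ ≫ x ≫ p₂) := by simp only [Category.assoc]
      _ = π₃ ≫ z ≫ c := by rw [hz']
      _ = (π₃ ≫ z) ≫ c := (Category.assoc _ _ _).symm
      _ = (v ≫ p₁) ≫ c := by rw [hv]
      _ = (v ≫ a) ≫ p₂ := by rw [Category.assoc, Category.assoc, h12]
  haveI := hπ₁
  haveI := hπ₂
  haveI := hπ₃
  refine ⟨T₃, π₃ ≫ π₂ ≫ π₁, inferInstance, kernel.lift p₂ (π₃ ≫ π₂ ≫ x - v ≫ a) h2, ?_⟩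
  rw [← cancel_mono (kernel.ι p₃)]
  simp only [Category.assoc, kernel.lift_ι, kernel.lift_ι_assoc, Preadditive.sub_comp, hx]
  rw [wab, comp_zero, sub_zero]

lemma kernel_map_exact (wab : a ≫ b = 0) (h12 : p₁ ≫ c = a ≫ p₂) (h23 : p₂ ≫ d = b ≫ p₃)
    (hab : (ShortComplex.mk a b wab).Exact) [Mono c] :
    (ShortComplex.mk (kernel.map p₁ p₂ a c h12) (kernel.map p₂ p₃ b d h23)
      (by rw [← cancel_mono (kernel.ι p₃)]; simp [wab])).Exact := by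
  rw [ShortComplex.exact_iff_exact_up_to_refinements]
  intro T x hx
  dsimp at x hx ⊢
  have h1 : (x ≫ kernel.ι p₂) ≫ b = 0 := by
    have h := hx =≫ kernel.ι p₃
    simpa using h
  obtain ⟨T₁, π₁, hπ₁, z, hz⟩ := hab.exact_up_to_refinements (x ≫ kernel.ι p₂) h1
  have hz' : π₁ ≫ x ≫ kernel.ι p₂ = z ≫ a := hz
  have h2 : z ≫ p₁ = 0 := by
    rw [← cancel_mono c, zero_comp, Category.assoc, h12, ← Category.assoc, ← hz']
    simp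
  refine ⟨T₁, π₁, hπ₁, kernel.lift p₁ z h2, ?_⟩
  rw [← cancel_mono (kernel.ι p₂)]
  simp [hz']

end Diagram

lemma kernel_comp_epi {X Y Z : A} (σ : X ⟶ Y) (p : Y ⟶ Z) [Epi σ] :
    Epi (kernel.lift p (kernel.ι (σ ≫ p) ≫ σ) (by rw [Category.assoc, kernel.condition])) := by
  rw [epi_iff_surjective_up_to_refinements]
  intro T y
  obtain ⟨T', π, hπ, x, hx⟩ := surjective_up_to_refinements_of_epi σ (y ≫ kernel.ι p)
  have h1 : x ≫ σ ≫ p = 0 := by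
    rw [← Category.assoc, ← hx, Category.assoc, Category.assoc, kernel.condition, comp_zero,
      comp_zero]
  refine ⟨T', π, hπ, kernel.lift (σ ≫ p) x h1, ?_⟩
  rw [← cancel_mono (kernel.ι p), Category.assoc, Category.assoc, kernel.lift_ι,
    kernel.lift_ι_assoc]
  exact hx

lemma kernel_comp_exact {X Y Z : A} (σ : X ⟶ Y) (p : Y ⟶ Z) :
    (ShortComplex.mk (kernel.lift (σ ≫ p) (kernel.ι σ) (by rw [kernel.condition_assoc, zero_comp]))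
      (kernel.lift p (kernel.ι (σ ≫ p) ≫ σ) (by rw [Category.assoc, kernel.condition]))
      (by rw [← cancel_mono (kernel.ι p)]; simp)).Exact := by
  rw [ShortComplex.exact_iff_exact_up_to_refinements]
  intro T x hx
  dsimp at x hx ⊢
  have h1 : (x ≫ kernel.ι (σ ≫ p)) ≫ σ = 0 := by
    have h := hx =≫ kernel.ι p
    simpa using h
  refine ⟨T, 𝟙 T, inferInstance, kernel.lift σ (x ≫ kernel.ι (σ ≫ p)) h1, ?_⟩
  rw [Category.id_comp, ← cancel_mono (kernel.ι (σ ≫ p)), Category.assoc, kernel.lift_ι,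
    kernel.lift_ι]

section Mid

variable {S₁ S₃ X₁ X₂ X₃ : A} (f : X₁ ⟶ X₂) (g : X₂ ⟶ X₃) (w : f ≫ g = 0) (p₁ : S₁ ⟶ X₁)
  (p₃ : S₃ ⟶ X₃) (φ : S₃ ⟶ X₂) (hφ : φ ≫ g = p₃)

lemma mid_h12 : p₁ ≫ f = biprod.inl ≫ biprod.desc (p₁ ≫ f) φ := by
  rw [biprod.inl_desc]

include w hφ in
lemma mid_h23 : biprod.desc (p₁ ≫ f) φ ≫ g = biprod.snd ≫ p₃ := by
  apply biprod.hom_ext' <;> simp [w, hφ]

end Mid

variable {P : A → Prop}

lemma fgen_ext (hP₂ : ∀ S₁ S₂, P S₁ → P S₂ → P (S₁ ⊞ S₂)) (hLL : LocLift P)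
    {X₁ X₂ X₃ : A} (f : X₁ ⟶ X₂) (g : X₂ ⟶ X₃) (w : f ≫ g = 0)
    (hex : (ShortComplex.mk f g w).Exact) [Epi g] (h₁ : FGen P X₁) (h₃ : FGen P X₃) :
    FGen P X₂ := by
  obtain ⟨S₁, hS₁, p₁, hp₁⟩ := h₁
  obtain ⟨S₃, hS₃, p₃, hp₃⟩ := h₃
  obtain ⟨S₃', σ, φ', hS₃', hσ, -, hφ'⟩ := hLL p₃ g inferInstance hS₃
  haveI := hp₁
  haveI := hp₃
  haveI := hσ
  haveI : Epi (σ ≫ p₃) := epi_comp σ p₃
  exact ⟨S₁ ⊞ S₃', hP₂ _ _ hS₁ hS₃', biprod.desc (p₁ ≫ f) φ',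
    epi_mid biprod.inl biprod.snd f g p₁ _ (σ ≫ p₃) w (mid_h12 f p₁ φ')
      (mid_h23 f g w p₁ (σ ≫ p₃) φ' hφ') hex⟩

theorem fpres_ext (hP₂ : ∀ S₁ S₂, P S₁ → P S₂ → P (S₁ ⊞ S₂)) (hLL : LocLift P)
    (S : ShortComplex A) (hS : S.ShortExact) (h₁ : FPres P S.X₁) (h₃ : FPres P S.X₃) :
    FPres P S.X₂ := by
  obtain ⟨S₁, hS₁, p₁, hp₁, hk₁⟩ := h₁
  obtain ⟨S₃, hS₃, p₃, hp₃, hk₃⟩ := h₃
  haveI := hS.mono_f
  haveI := hS.epi_g
  obtain ⟨S₃', σ, φ', hS₃', hσ, hkσ, hφ'⟩ := hLL p₃ S.g inferInstance hS₃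
  haveI := hp₁
  haveI := hp₃
  haveI := hσ
  haveI : Epi (σ ≫ p₃) := epi_comp σ p₃
  have hA : FGen P (kernel (σ ≫ p₃)) := by
    haveI := kernel_comp_epi σ p₃
    exact fgen_ext hP₂ hLL _ _ _ (kernel_comp_exact σ p₃) hkσ hk₃
  have h12 := mid_h12 S.f p₁ φ'
  have h23 := mid_h23 S.f S.g S.zero p₁ (σ ≫ p₃) φ' hφ'
  have hex : (ShortComplex.mk S.f S.g S.zero).Exact := hS.exact
  haveI hp₂ : Epi (biprod.desc (p₁ ≫ S.f) φ') :=
    epi_mid biprod.inl biprod.snd S.f S.g p₁ _ (σ ≫ p₃) S.zero h12 h23 hex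
  have hB : FGen P (kernel (biprod.desc (p₁ ≫ S.f) φ')) := by
    haveI := kernel_map_epi biprod.inl biprod.snd S.f S.g p₁ (biprod.desc (p₁ ≫ S.f) φ')
      (σ ≫ p₃) biprod.inl_snd S.zero h12 h23 hex
    exact fgen_ext hP₂ hLL _ _ _
      (kernel_map_exact biprod.inl biprod.snd S.f S.g p₁ _ (σ ≫ p₃) biprod.inl_snd h12 h23
        (ShortComplex.Splitting.ofHasBinaryBiproduct S₁ S₃').exact) hk₁ hA
  exact ⟨S₁ ⊞ S₃', hP₂ _ _ hS₁ hS₃', _, hp₂, hB⟩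

end AbCat2

end Groth.Agent.Lib.QcSect
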