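import Mathlib
import Groth.Agent.Lib.QcExt_helper7

/-!
# Modules of finite presentation by `j_! O_U` on a ringed site: extensions, site part (helper7)
-/

set_option autoImplicit false
universe w u
open CategoryTheory Limits Opposite ModSite

namespace Groth.Agent.Lib.QcSect

section Site

variable {C : Type u} [SmallCategory C] {J : GrothendieckTopology C} {O : Sheaf J CommRingCat.{u}}

/-- finite sums of `j_! O_U`, `U ∈ B` -/
def FinFree (B : Set C) (S : Mod O) : Prop :=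
  ∃ (n : ℕ) (U : Fin n → C), (∀ i, U i ∈ B) ∧ Nonempty (S ≅ ∐ fun i => freeOn O (U i))

lemma finFree_of_finite (B : Set C) {κ : Type*} [Finite κ] (U : κ → C) (hU : ∀ i, U i ∈ B)
    {S : Mod O} (e : S ≅ ∐ fun i => freeOn O (U i)) : FinFree B S := by
  let e₁ := Finite.equivFin κ
  let a₁ : (∐ fun j : Fin (Nat.card κ) => freeOn O (U (e₁.symm j))) ≅
      ∐ fun j => freeOn O (U j) :=
    Sigma.whiskerEquiv (f := fun j : Fin (Nat.card κ) => freeOn O (U (e₁.symm j)))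
      (g := fun j => freeOn O (U j)) e₁.symm (fun j => Iso.refl _)
  exact ⟨_, fun j => U (e₁.symm j), fun j => hU _, ⟨e ≪≫ a₁.symm⟩⟩

lemma finFree_biprod (B : Set C) {S₁ S₂ : Mod O} (h₁ : FinFree B S₁) (h₂ : FinFree B S₂) :
    FinFree B (S₁ ⊞ S₂) := by
  obtain ⟨n₁, U₁, hU₁, ⟨e₁⟩⟩ := h₁
  obtain ⟨n₂, U₂, hU₂, ⟨e₂⟩⟩ := h₂
  let f₁ : Fin n₁ → Mod O := fun i => freeOn O (U₁ i)
  let f₂ : Fin n₂ → Mod O := fun i => freeOn O (U₂ i)
  have hc := Cofan.combPairIsColimit (coproductIsCoproduct f₁) (coproductIsCoproduct f₂)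
    (BinaryBiproduct.isColimit (∐ f₁) (∐ f₂))
  let e₃ : (∐ f₁) ⊞ (∐ f₂) ≅ ∐ (Sum.elim f₁ f₂) :=
    hc.coconePointUniqueUpToIso (coproductIsCoproduct (Sum.elim f₁ f₂))
  let e₄ : ∐ (Sum.elim f₁ f₂) ≅ ∐ fun s => freeOn O (Sum.elim U₁ U₂ s) :=
    Sigma.mapIso (fun s => match s with
      | Sum.inl _ => Iso.refl _
      | Sum.inr _ => Iso.refl _)
  exact finFree_of_finite B (Sum.elim U₁ U₂)
    (fun s => by
      rcases s with i | i
      · exact hU₁ i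
      · exact hU₂ i)
    (biprod.mapIso e₁ e₂ ≪≫ e₃ ≪≫ e₄)

lemma freeOnMap_comp_map {W V U : C} (a : W ⟶ V) (g : V ⟶ U) :
    freeOnMap (O := O) (a ≫ g) = freeOnMap a ≫ freeOnMap g := by
  rw [freeOnMap_comp a (freeOnMap g)]
  have h : fe V (freeOn O U) (freeOnMap g) = res (freeOn O U) g (uSec U) := by
    unfold freeOnMap
    rw [Equiv.apply_symm_apply]
  rw [h, ← res_comp]
  rfl

lemma sect_glue (M : Mod O) {V : C} {κ : Type*} (Y : κ → C) (g : ∀ k, Y k ⟶ V)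
    (hcov : Sieve.ofArrows Y g ∈ J V) (x : ∀ k, (Γ O (Y k)).obj M)
    (hx : ∀ (k k' : κ) (Z : C) (a : Z ⟶ Y k) (a' : Z ⟶ Y k'), a ≫ g k = a' ≫ g k' →
      res M a (x k) = res M a' (x k')) :
    ∃ s : (Γ O V).obj M, ∀ k, res M (g k) s = x k := by
  have hP : Presieve.IsSheaf J
      (((SheafOfModules.toSheaf (ringSh O)).obj M).obj ⋙ forget AddCommGrpCat.{u}) :=
    (isSheaf_iff_isSheaf_of_type _ _).1
      ((sheafCompose J (forget AddCommGrpCat.{u})).obj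
        ((SheafOfModules.toSheaf (ringSh O)).obj M)).2
  have h1 := (Presieve.isSheafFor_arrows_iff _ _).1
    ((Presieve.isSheafFor_iff_generate _).2 (hP _ hcov)) x
    (fun i j Z gi gj h => hx i j Z gi gj h)
  obtain ⟨s, hs, -⟩ := h1
  exact ⟨s, hs⟩

section Cech

variable {I : Type*} [Finite I] {K : I → Type*} [∀ i, Finite (K i)] (U : I → C)
  (W : ∀ i, K i → C) (g : ∀ i k, W i k ⟶ U i)

/-- the covering map `⊕ j_! O_{W_{ik}} ⟶ ⊕ j_! O_{U_i}` -/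
noncomputable def cechρ :
    (∐ fun a : Σ i, K i => freeOn O (W a.1 a.2)) ⟶ ∐ fun i => freeOn O (U i) :=
  Sigma.desc (fun a : Σ i, K i =>
    freeOnMap (O := O) (g a.1 a.2) ≫ Sigma.ι (fun i => freeOn O (U i)) a.1)

lemma ι_cechρ (a : Σ i, K i) :
    Sigma.ι (fun a : Σ i, K i => freeOn O (W a.1 a.2)) a ≫ cechρ (O := O) U W g =
      freeOnMap (O := O) (g a.1 a.2) ≫ Sigma.ι (fun i => freeOn O (U i)) a.1 :=
  Sigma.ι_desc _ _

variable [HasPullbacks C]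

/-- the Čech relations `⊕ j_! O_{W_{ik} ×_{U_i} W_{ik'}} ⟶ ⊕ j_! O_{W_{ik}}` -/
noncomputable def cechτ :
    (∐ fun b : Σ i, K i × K i => freeOn O (pullback (g b.1 b.2.1) (g b.1 b.2.2))) ⟶
      ∐ fun a : Σ i, K i => freeOn O (W a.1 a.2) :=
  Sigma.desc (fun b : Σ i, K i × K i =>
    freeOnMap (O := O) (pullback.fst (g b.1 b.2.1) (g b.1 b.2.2)) ≫
        Sigma.ι (fun a : Σ i, K i => freeOn O (W a.1 a.2)) ⟨b.1, b.2.1⟩ -
      freeOnMap (O := O) (pullback.snd (g b.1 b.2.1) (g b.1 b.2.2)) ≫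
        Sigma.ι (fun a : Σ i, K i => freeOn O (W a.1 a.2)) ⟨b.1, b.2.2⟩)

lemma ι_cechτ (b : Σ i, K i × K i) :
    Sigma.ι (fun b : Σ i, K i × K i => freeOn O (pullback (g b.1 b.2.1) (g b.1 b.2.2))) b ≫
        cechτ (O := O) U W g =
      freeOnMap (O := O) (pullback.fst (g b.1 b.2.1) (g b.1 b.2.2)) ≫
        Sigma.ι (fun a : Σ i, K i => freeOn O (W a.1 a.2)) ⟨b.1, b.2.1⟩ -
      freeOnMap (O := O) (pullback.snd (g b.1 b.2.1) (g b.1 b.2.2)) ≫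
        Sigma.ι (fun a : Σ i, K i => freeOn O (W a.1 a.2)) ⟨b.1, b.2.2⟩ :=
  Sigma.ι_desc _ _

lemma cechτ_ρ : cechτ (O := O) U W g ≫ cechρ U W g = 0 := by
  apply Sigma.hom_ext
  intro b
  rw [← Category.assoc, ι_cechτ, comp_zero, Preadditive.sub_comp, Category.assoc, Category.assoc,
    ι_cechρ, ι_cechρ, sub_eq_zero]
  change freeOnMap (O := O) (pullback.fst (g b.1 b.2.1) (g b.1 b.2.2)) ≫
      freeOnMap (O := O) (g b.1 b.2.1) ≫ Sigma.ι (fun i => freeOn O (U i)) b.1 =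
    freeOnMap (O := O) (pullback.snd (g b.1 b.2.1) (g b.1 b.2.2)) ≫
      freeOnMap (O := O) (g b.1 b.2.2) ≫ Sigma.ι (fun i => freeOn O (U i)) b.1
  rw [← Category.assoc, ← Category.assoc, ← freeOnMap_comp_map, ← freeOnMap_comp_map,
    pullback.condition]

lemma cech_exact (hcov : ∀ i, Sieve.ofArrows (W i) (g i) ∈ J (U i)) {M : Mod O}
    (f : (∐ fun a : Σ i, K i => freeOn O (W a.1 a.2)) ⟶ M)
    (hf : cechτ (O := O) U W g ≫ f = 0) :
    ∃ h : (∐ fun i => freeOn O (U i)) ⟶ M, cechρ U W g ≫ h = f := by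
  have hs : ∀ i (k k' : K i), res M (pullback.fst (g i k) (g i k'))
      (fe (W i k) M (Sigma.ι (fun a : Σ i, K i => freeOn O (W a.1 a.2)) ⟨i, k⟩ ≫ f)) =
      res M (pullback.snd (g i k) (g i k'))
      (fe (W i k') M (Sigma.ι (fun a : Σ i, K i => freeOn O (W a.1 a.2)) ⟨i, k'⟩ ≫ f)) := by
    intro i k k'
    have h1 := Sigma.ι (fun b : Σ i, K i × K i =>
      freeOn O (pullback (g b.1 b.2.1) (g b.1 b.2.2))) ⟨i, (k, k')⟩ ≫= hf
    rw [← Category.assoc, ι_cechτ, comp_zero, Preadditive.sub_comp, sub_eq_zero, Category.assoc,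
      Category.assoc, freeOnMap_comp, freeOnMap_comp] at h1
    exact (fe _ M).symm.injective h1
  have hglue : ∀ i, ∃ u : (Γ O (U i)).obj M, ∀ k, res M (g i k) u =
      fe (W i k) M (Sigma.ι (fun a : Σ i, K i => freeOn O (W a.1 a.2)) ⟨i, k⟩ ≫ f) := by
    intro i
    refine sect_glue M (W i) (g i) (hcov i) _ ?_
    intro k k' Z a a' haa'
    calc res M a (fe (W i k) M (Sigma.ι (fun a : Σ i, K i => freeOn O (W a.1 a.2)) ⟨i, k⟩ ≫ f))
        = res M (pullback.lift a a' haa' ≫ pullback.fst (g i k) (g i k')) _ := by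
          rw [pullback.lift_fst]
      _ = res M (pullback.lift a a' haa') (res M (pullback.fst (g i k) (g i k')) _) :=
          res_comp _ _ _ _
      _ = res M (pullback.lift a a' haa') (res M (pullback.snd (g i k) (g i k')) _) := by
          rw [hs]
      _ = res M (pullback.lift a a' haa' ≫ pullback.snd (g i k) (g i k')) _ :=
          (res_comp _ _ _ _).symm
      _ = res M a' _ := by rw [pullback.lift_snd]
  choose u hu using hglue
  refine ⟨Sigma.desc (fun i => (fe (U i) M).symm (u i)), ?_⟩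
  apply Sigma.hom_ext
  intro a
  rw [← Category.assoc, ι_cechρ, Category.assoc, Sigma.ι_desc, freeOnMap_comp,
    Equiv.apply_symm_apply, hu]
  exact (fe _ M).symm_apply_apply _

end Cech

theorem locLift_finFree (B : Set C)
    (hB₁ : ∀ X : C, ∃ (κ : Type u) (Y : κ → C) (g : ∀ k, Y k ⟶ X),
      Sieve.ofArrows Y g ∈ J X ∧ ∀ k, Y k ∈ B)
    (hB₂ : ∀ U ∈ B, CohCx.IsQcObject ((presheafToSheaf J (Type u)).obj (yoneda.obj U)))
    [HasPullbacks C]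
    (hB₃ : ∀ (U U₁ U₂ : C) (f₁ : U₁ ⟶ U) (f₂ : U₂ ⟶ U), U ∈ B → U₁ ∈ B → U₂ ∈ B →
      CohCx.IsQcObject ((presheafToSheaf J (Type u)).obj (yoneda.obj (pullback f₁ f₂)))) :
    LocLift (FinFree (O := O) B) := by
  classical
  intro S M' M'' φ e he hS
  haveI := he
  obtain ⟨n, U, hU, ⟨eS⟩⟩ := hS
  obtain ⟨β, hβ⟩ : ∃ β : (∐ fun i => freeOn O (U i)) ⟶ M'', β = eS.inv ≫ φ := ⟨_, rfl⟩
  have hfin : ∀ i : Fin n, ∃ t : Finset (LiftIdx B e
      (fe (U i) _ (Sigma.ι (fun i => freeOn O (U i)) i ≫ β))),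
      Sieve.ofArrows (fun q : t => q.1.1.1) (fun q : t => q.1.1.2) ∈ J (U i) :=
    fun i => exists_finite_subfamily (hB₂ (U i) (hU i)) _ _ (liftIdx_cover B hB₁ _ _)
  choose t ht using hfin
  let W : ∀ i, ↥(t i) → C := fun i k => k.1.1.1
  let gW : ∀ i (k : ↥(t i)), W i k ⟶ U i := fun i k => k.1.1.2
  have hWB : ∀ i (k : ↥(t i)), W i k ∈ B := fun i k => k.1.2.1
  let x : ∀ i (k : ↥(t i)), (Γ O (W i k)).obj M' := fun i k => k.1.2.2.choose
  have hx : ∀ i (k : ↥(t i)), (Γ O (W i k)).map e (x i k) =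
      res _ (gW i k) (fe (U i) _ (Sigma.ι (fun i => freeOn O (U i)) i ≫ β)) :=
    fun i k => k.1.2.2.choose_spec
  obtain ⟨ρ, hρ⟩ : ∃ ρ : (∐ fun a : Σ i, ↥(t i) => freeOn O (W a.1 a.2)) ⟶
      ∐ fun i => freeOn O (U i), ρ = cechρ (O := O) U W gW := ⟨_, rfl⟩
  haveI hρe : Epi ρ := by
    rw [hρ]
    exact epi_sigma_freeOnMap U W gW ht
  obtain ⟨lam, hlam⟩ : ∃ lam : (∐ fun a : Σ i, ↥(t i) => freeOn O (W a.1 a.2)) ⟶ M',
      ∀ a : Σ i, ↥(t i), Sigma.ι (fun a : Σ i, ↥(t i) => freeOn O (W a.1 a.2)) a ≫ lam =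
        (fe (W a.1 a.2) _).symm (x a.1 a.2) :=
    ⟨Sigma.desc (fun a => (fe (W a.1 a.2) _).symm (x a.1 a.2)), fun a => Sigma.ι_desc _ _⟩
  have hcomm : lam ≫ e = ρ ≫ β := by
    apply Sigma.hom_ext
    intro a
    calc Sigma.ι (fun a : Σ i, ↥(t i) => freeOn O (W a.1 a.2)) a ≫ lam ≫ e
        = (Sigma.ι (fun a : Σ i, ↥(t i) => freeOn O (W a.1 a.2)) a ≫ lam) ≫ e :=
          (Category.assoc _ _ _).symm
      _ = (fe (W a.1 a.2) _).symm (x a.1 a.2) ≫ e := by rw [hlam a]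
      _ = (fe (W a.1 a.2) _).symm ((Γ O (W a.1 a.2)).map e (x a.1 a.2)) := fe_symm_comp _ _ _
      _ = (fe (W a.1 a.2) _).symm (res _ (gW a.1 a.2)
            (fe (U a.1) _ (Sigma.ι (fun i => freeOn O (U i)) a.1 ≫ β))) := by rw [hx]
      _ = freeOnMap (O := O) (gW a.1 a.2) ≫ (Sigma.ι (fun i => freeOn O (U i)) a.1 ≫ β) :=
          (freeOnMap_comp _ _).symm
      _ = (freeOnMap (O := O) (gW a.1 a.2) ≫ Sigma.ι (fun i => freeOn O (U i)) a.1) ≫ β :=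
          (Category.assoc _ _ _).symm
      _ = (Sigma.ι (fun a : Σ i, ↥(t i) => freeOn O (W a.1 a.2)) a ≫ ρ) ≫ β := by
          rw [hρ, ι_cechρ]
      _ = Sigma.ι (fun a : Σ i, ↥(t i) => freeOn O (W a.1 a.2)) a ≫ ρ ≫ β :=
          Category.assoc _ _ _
  have hker : FGen (FinFree (O := O) B) (kernel ρ) := by
    have hPqc : ∀ b : Σ i, ↥(t i) × ↥(t i), CohCx.IsQcObject ((presheafToSheaf J (Type u)).obj
        (yoneda.obj (pullback (gW b.1 b.2.1) (gW b.1 b.2.2)))) :=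
      fun b => hB₃ _ _ _ _ _ (hU b.1) (hWB b.1 b.2.1) (hWB b.1 b.2.2)
    choose κ Y gY hY hYB using fun b : Σ i, ↥(t i) × ↥(t i) =>
      hB₁ (pullback (gW b.1 b.2.1) (gW b.1 b.2.2))
    choose t' ht' using fun b : Σ i, ↥(t i) × ↥(t i) =>
      exists_finite_subfamily (hPqc b) (Y b) (gY b) (hY b)
    have hτρ : cechτ (O := O) U W gW ≫ ρ = 0 := by
      rw [hρ]
      exact cechτ_ρ U W gW
    have hex : ∀ (f : (∐ fun a : Σ i, ↥(t i) => freeOn O (W a.1 a.2)) ⟶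
        cokernel (cechτ (O := O) U W gW)), cechτ (O := O) U W gW ≫ f = 0 →
        ∃ h : (∐ fun i => freeOn O (U i)) ⟶ cokernel (cechτ (O := O) U W gW), ρ ≫ h = f := by
      intro f hf
      rw [hρ]
      exact cech_exact U W gW ht f hf
    haveI : Epi (kernel.lift ρ (cechτ (O := O) U W gW) hτρ) :=
      epi_kernel_lift_of_desc (cechτ (O := O) U W gW) ρ hτρ hex
    have h0 : FGen (FinFree (O := O) B) (∐ fun b : Σ i, ↥(t i) × ↥(t i) =>
        freeOn O (pullback (gW b.1 b.2.1) (gW b.1 b.2.2))) :=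
      ⟨_, finFree_of_finite B (fun c : Σ b : (Σ i, ↥(t i) × ↥(t i)), ↥(t' b) => Y c.1 c.2.1)
        (fun c => hYB c.1 c.2.1) (Iso.refl _),
        Sigma.desc (fun c : Σ b : (Σ i, ↥(t i) × ↥(t i)), ↥(t' b) =>
          freeOnMap (O := O) (gY c.1 c.2.1) ≫
            Sigma.ι (fun b : Σ i, ↥(t i) × ↥(t i) =>
              freeOn O (pullback (gW b.1 b.2.1) (gW b.1 b.2.2))) c.1),
        epi_sigma_freeOnMap
          (fun b : Σ i, ↥(t i) × ↥(t i) => pullback (gW b.1 b.2.1) (gW b.1 b.2.2))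
          (fun b (k : ↥(t' b)) => Y b k.1) (fun b k => gY b k.1) ht'⟩
    exact fgen_of_epi (kernel.lift ρ (cechτ (O := O) U W gW) hτρ) h0
  refine ⟨∐ fun a : Σ i, ↥(t i) => freeOn O (W a.1 a.2), ρ ≫ eS.inv, lam,
    finFree_of_finite B (fun a : Σ i, ↥(t i) => W a.1 a.2) (fun a => hWB a.1 a.2) (Iso.refl _),
    epi_comp _ _, ?_, ?_⟩
  · exact fgen_of_epi (kernelCompMono ρ eS.inv).inv hker
  · rw [hcomm, Category.assoc, ← hβ]

variable (B : Set C)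

lemma fpres_of_typeA {M : Mod O} (h : TypeA O B M) : FPres (FinFree (O := O) B) M := by
  obtain ⟨m, n, V, U, ψ, hV, hU, ⟨e⟩⟩ := h
  obtain ⟨p, hp⟩ : ∃ p : (∐ fun i => freeOn O (U i)) ⟶ M, p = cokernel.π ψ ≫ e.inv := ⟨_, rfl⟩
  haveI : Epi p := by
    rw [hp]
    exact epi_comp _ _
  have hψp : ψ ≫ p = 0 := by
    rw [hp, cokernel.condition_assoc, zero_comp]
  refine ⟨_, ⟨n, U, hU, ⟨Iso.refl _⟩⟩, p, inferInstance, _, ⟨m, V, hV, ⟨Iso.refl _⟩⟩,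
    kernel.lift p ψ hψp, ?_⟩
  rw [epi_iff_surjective_up_to_refinements]
  intro T x
  have h1 : (x ≫ kernel.ι p) ≫ cokernel.π ψ = 0 := by
    rw [← cancel_mono e.inv, zero_comp, Category.assoc, Category.assoc, ← hp, kernel.condition,
      comp_zero]
  obtain ⟨T', π, hπ, t, ht⟩ :=
    (ShortComplex.cokernelSequence_exact ψ).exact_up_to_refinements (x ≫ kernel.ι p) h1
  refine ⟨T', π, hπ, t, ?_⟩
  rw [← cancel_mono (kernel.ι p), Category.assoc, Category.assoc, kernel.lift_ι]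
  exact ht

lemma typeA_of_fpres {M : Mod O} (h : FPres (FinFree (O := O) B) M) : TypeA O B M := by
  obtain ⟨S, ⟨n, U, hU, ⟨eS⟩⟩, p, hp, T, ⟨m, V, hV, ⟨eT⟩⟩, q, hq⟩ := h
  haveI := hp
  haveI := hq
  let e1 : cokernel (kernel.ι p) ≅ M := asIso (Abelian.factorThruCoimage p)
  let e2 : cokernel (q ≫ kernel.ι p) ≅ cokernel (kernel.ι p) := cokernelEpiComp q (kernel.ι p)
  let e3 : cokernel (q ≫ kernel.ι p) ≅ cokernel (eT.inv ≫ (q ≫ kernel.ι p) ≫ eS.hom) :=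
    cokernel.mapIso (q ≫ kernel.ι p) (eT.inv ≫ (q ≫ kernel.ι p) ≫ eS.hom) eT eS (by simp)
  exact ⟨m, n, V, U, eT.inv ≫ (q ≫ kernel.ι p) ≫ eS.hom, hV, hU, ⟨e1.symm ≪≫ e2.symm ≪≫ e3⟩⟩

theorem typeA_extension
    (hB₁ : ∀ X : C, ∃ (κ : Type u) (Y : κ → C) (g : ∀ k, Y k ⟶ X),
      Sieve.ofArrows Y g ∈ J X ∧ ∀ k, Y k ∈ B)
    (hB₂ : ∀ U ∈ B, CohCx.IsQcObject ((presheafToSheaf J (Type u)).obj (yoneda.obj U)))
    [HasPullbacks C]
    (hB₃ : ∀ (U U₁ U₂ : C) (f₁ : U₁ ⟶ U) (f₂ : U₂ ⟶ U), U ∈ B → U₁ ∈ B → U₂ ∈ B →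
      CohCx.IsQcObject ((presheafToSheaf J (Type u)).obj (yoneda.obj (pullback f₁ f₂))))
    (S : ShortComplex (Mod O)) (hS : S.ShortExact)
    (h₁ : TypeA O B S.X₁) (h₃ : TypeA O B S.X₃) : TypeA O B S.X₂ :=
  typeA_of_fpres B (fpres_ext (fun _ _ => finFree_biprod B) (locLift_finFree B hB₁ hB₂ hB₃) S hS
    (fpres_of_typeA B h₁) (fpres_of_typeA B h₃))

end Site

end Groth.Agent.Lib.QcSect
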