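import Mathlib
import Groth.Agent.Lib.QcExt2_helper7

/-!
# Modules of finite presentation by `j_! O_U` on a ringed site: kernels (helper7)
-/

set_option autoImplicit false
universe w u
open CategoryTheory Limits Opposite ModSite

namespace Groth.Agent.Lib.QcSect

section AbCat3

variable {A : Type*} [Category A] [Abelian A]

lemma exact_of_epi_kernel {X Y T : A} (p : X ⟶ Y) (q : T ⟶ kernel p) [Epi q] :
    (ShortComplex.mk (q ≫ kernel.ι p) p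
      (by rw [Category.assoc, kernel.condition, comp_zero])).Exact := by
  rw [ShortComplex.exact_iff_exact_up_to_refinements]
  intro A₀ x hx
  dsimp at x hx ⊢
  obtain ⟨A', π, hπ, s, hs⟩ := surjective_up_to_refinements_of_epi q (kernel.lift p x hx)
  refine ⟨A', π, hπ, s, ?_⟩
  rw [← Category.assoc, ← hs, Category.assoc, kernel.lift_ι]

lemma kernel_chase {S' T' S_G T_G F G : A} (p' : S' ⟶ F) (ψ' : T' ⟶ S') (w' : ψ' ≫ p' = 0)
    (hex' : (ShortComplex.mk ψ' p' w').Exact) [Epi p']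
    (p_G : S_G ⟶ G) (ψ_G : T_G ⟶ S_G) (wG : ψ_G ≫ p_G = 0)
    (hexG : (ShortComplex.mk ψ_G p_G wG).Exact)
    (α : F ⟶ G) (lam : S' ⟶ S_G) (hlam : lam ≫ p_G = p' ≫ α) :
    ∃ κ : kernel (biprod.desc lam ψ_G) ⟶ kernel α, Epi κ ∧
      ∃ θ : kernel (biprod.desc (ψ' ≫ lam) ψ_G) ⟶ kernel κ, Epi θ := by
  generalize hμ : biprod.desc lam ψ_G = μ
  generalize hμ' : biprod.desc (ψ' ≫ lam) ψ_G = μ'
  have F1 : kernel.ι μ ≫ biprod.fst ≫ lam + kernel.ι μ ≫ biprod.snd ≫ ψ_G = 0 := by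
    have e : μ = biprod.fst ≫ lam + biprod.snd ≫ ψ_G := by rw [← hμ, biprod.desc_eq]
    calc kernel.ι μ ≫ biprod.fst ≫ lam + kernel.ι μ ≫ biprod.snd ≫ ψ_G
        = kernel.ι μ ≫ (biprod.fst ≫ lam + biprod.snd ≫ ψ_G) :=
          (Preadditive.comp_add _ _ _ _ _ _).symm
      _ = kernel.ι μ ≫ μ := by rw [← e]
      _ = 0 := kernel.condition μ
  have hκ0 : (kernel.ι μ ≫ biprod.fst ≫ p') ≫ α = 0 := by
    have h1 : kernel.ι μ ≫ biprod.fst ≫ lam = -(kernel.ι μ ≫ biprod.snd ≫ ψ_G) :=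
      eq_neg_of_add_eq_zero_left F1
    calc (kernel.ι μ ≫ biprod.fst ≫ p') ≫ α = (kernel.ι μ ≫ biprod.fst ≫ lam) ≫ p_G := by
          simp only [Category.assoc, hlam]
      _ = 0 := by
          rw [h1, Preadditive.neg_comp, Category.assoc, Category.assoc, wG, comp_zero, comp_zero,
            neg_zero]
  obtain ⟨κ, hκ⟩ : ∃ κ : kernel μ ⟶ kernel α,
      κ ≫ kernel.ι α = kernel.ι μ ≫ biprod.fst ≫ p' :=
    ⟨kernel.lift α _ hκ0, kernel.lift_ι _ _ _⟩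
  have hκe : Epi κ := by
    rw [epi_iff_surjective_up_to_refinements]
    intro A₀ y
    obtain ⟨A₁, π₁, hπ₁, x, hx⟩ := surjective_up_to_refinements_of_epi p' (y ≫ kernel.ι α)
    have h2 : (x ≫ lam) ≫ p_G = 0 := by
      rw [Category.assoc, hlam, ← Category.assoc, ← hx, Category.assoc, Category.assoc,
        kernel.condition, comp_zero, comp_zero]
    obtain ⟨A₂, π₂, hπ₂, t, ht⟩ := hexG.exact_up_to_refinements (x ≫ lam) h2
    have ht' : π₂ ≫ x ≫ lam = t ≫ ψ_G := ht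
    have h3 : biprod.lift (π₂ ≫ x) (-t) ≫ μ = 0 := by
      rw [← hμ, biprod.lift_desc, Category.assoc, ht', Preadditive.neg_comp, add_neg_cancel]
    haveI := hπ₁
    haveI := hπ₂
    refine ⟨A₂, π₂ ≫ π₁, inferInstance, kernel.lift μ _ h3, ?_⟩
    rw [← cancel_mono (kernel.ι α)]
    simp only [Category.assoc, hκ, kernel.lift_ι_assoc, biprod.lift_fst_assoc, hx]
  have hmm : biprod.map ψ' (𝟙 T_G) ≫ μ = μ' := by
    rw [← hμ, ← hμ']
    apply biprod.hom_ext' <;> simp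
  obtain ⟨θ₀, hθ₀⟩ : ∃ θ₀ : kernel μ' ⟶ kernel μ,
      θ₀ ≫ kernel.ι μ = kernel.ι μ' ≫ biprod.map ψ' (𝟙 T_G) :=
    ⟨kernel.lift μ (kernel.ι μ' ≫ biprod.map ψ' (𝟙 T_G))
      (by rw [Category.assoc, hmm, kernel.condition]), kernel.lift_ι _ _ _⟩
  have h5 : θ₀ ≫ κ = 0 := by
    rw [← cancel_mono (kernel.ι α), Category.assoc, hκ, ← Category.assoc, hθ₀, zero_comp]
    simp [w']
  refine ⟨κ, hκe, kernel.lift κ θ₀ h5, ?_⟩
  rw [epi_iff_surjective_up_to_refinements]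
  intro A₀ y
  have h6 : (y ≫ kernel.ι κ ≫ kernel.ι μ ≫ biprod.fst) ≫ p' = 0 := by
    simp only [Category.assoc]
    rw [← hκ, kernel.condition_assoc, zero_comp, comp_zero]
  obtain ⟨A₁, π, hπ, s, hs⟩ := hex'.exact_up_to_refinements _ h6
  have hs' : π ≫ y ≫ kernel.ι κ ≫ kernel.ι μ ≫ biprod.fst = s ≫ ψ' := hs
  have h7 : biprod.lift s (π ≫ y ≫ kernel.ι κ ≫ kernel.ι μ ≫ biprod.snd) ≫ μ' = 0 := by
    rw [← hμ', biprod.lift_desc, ← Category.assoc s, ← hs']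
    simp only [Category.assoc]
    rw [← Preadditive.comp_add, ← Preadditive.comp_add, ← Preadditive.comp_add, F1, comp_zero,
      comp_zero, comp_zero]
  refine ⟨A₁, π, hπ, kernel.lift μ' _ h7, ?_⟩
  rw [← cancel_mono (kernel.ι κ), ← cancel_mono (kernel.ι μ)]
  apply biprod.hom_ext
  · simp only [Category.assoc, kernel.lift_ι, kernel.lift_ι_assoc, hθ₀, biprod.map_fst,
      biprod.lift_fst_assoc, hs']
  · simp only [Category.assoc, kernel.lift_ι, kernel.lift_ι_assoc, hθ₀, biprod.map_snd,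
      biprod.lift_snd_assoc, biprod.lift_snd, Category.comp_id]

theorem kernel_presentation {P : A → Prop} (hP₂ : ∀ S₁ S₂, P S₁ → P S₂ → P (S₁ ⊞ S₂))
    (hLL : LocLift P)
    (hker : ∀ ⦃T S : A⦄ (ψ : T ⟶ S), P T → P S → FGen P (kernel ψ))
    {F G : A} (α : F ⟶ G) (hF : FPres P F) (hG : FPres P G) :
    ∃ (T S : A) (μ : T ⟶ S) (κ : kernel μ ⟶ kernel α), P T ∧ P S ∧ Epi κ ∧
      FGen P (kernel κ) := by
  obtain ⟨S_F, hS_F, p_F, hp_F, hk_F⟩ := hF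
  obtain ⟨S_G, hS_G, p_G, hp_G, T_G, hT_G, q_G, hq_G⟩ := hG
  haveI := hp_F
  haveI := hp_G
  haveI := hq_G
  obtain ⟨S', σ, lam, hS', hσ, hkσ, hlam⟩ := hLL (p_F ≫ α) p_G inferInstance hS_F
  haveI := hσ
  haveI : Epi (σ ≫ p_F) := epi_comp σ p_F
  have hk' : FGen P (kernel (σ ≫ p_F)) := by
    haveI := kernel_comp_epi σ p_F
    exact fgen_ext hP₂ hLL _ _ _ (kernel_comp_exact σ p_F) hkσ hk_F
  obtain ⟨T', hT', q', hq'⟩ := hk'
  haveI := hq'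
  have hlam' : lam ≫ p_G = (σ ≫ p_F) ≫ α := by rw [hlam, Category.assoc]
  obtain ⟨κ, hκ, θ, hθ⟩ := kernel_chase (σ ≫ p_F) (q' ≫ kernel.ι (σ ≫ p_F))
    (by rw [Category.assoc, kernel.condition, comp_zero]) (exact_of_epi_kernel _ q') p_G
    (q_G ≫ kernel.ι p_G) (by rw [Category.assoc, kernel.condition, comp_zero])
    (exact_of_epi_kernel _ q_G) α lam hlam'
  haveI := hθ
  exact ⟨S' ⊞ T_G, S_G, biprod.desc lam (q_G ≫ kernel.ι p_G), κ, hP₂ _ _ hS' hT_G, hS_G, hκ,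
    fgen_of_epi θ (hker _ (hP₂ _ _ hT' hT_G) hS_G)⟩

end AbCat3

section Site3

variable {C : Type u} [SmallCategory C] {J : GrothendieckTopology C} {O : Sheaf J CommRingCat.{u}}
  (B : Set C)

lemma typeA_of_iso {M M' : Mod O} (h : TypeA O B M) (e : M' ≅ M) : TypeA O B M' := by
  obtain ⟨m, n, V, U, ψ, hV, hU, ⟨e'⟩⟩ := h
  exact ⟨m, n, V, U, ψ, hV, hU, ⟨e ≪≫ e'⟩⟩

lemma typeA_of_finFree {S : Mod O} (h : FinFree B S) : TypeA O B S := by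
  obtain ⟨n, U, hU, ⟨e⟩⟩ := h
  exact ⟨0, n, fun j => j.elim0, U, 0, fun j => j.elim0, hU,
    ⟨e ≪≫ cokernelZeroIsoTarget.symm⟩⟩

theorem typeA_kernel
    (hB₁ : ∀ X : C, ∃ (κ : Type u) (Y : κ → C) (g : ∀ k, Y k ⟶ X),
      Sieve.ofArrows Y g ∈ J X ∧ ∀ k, Y k ∈ B)
    (hB₂ : ∀ U ∈ B, CohCx.IsQcObject ((presheafToSheaf J (Type u)).obj (yoneda.obj U)))
    [HasPullbacks C]
    (hB₃ : ∀ (U U₁ U₂ : C) (f₁ : U₁ ⟶ U) (f₂ : U₂ ⟶ U), U ∈ B → U₁ ∈ B → U₂ ∈ B →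
      CohCx.IsQcObject ((presheafToSheaf J (Type u)).obj (yoneda.obj (pullback f₁ f₂))))
    (hker : ∀ (m n : ℕ) (V : Fin m → C) (U : Fin n → C)
      (φ : (∐ fun j => freeOn O (V j)) ⟶ ∐ fun i => freeOn O (U i)),
      (∀ j, V j ∈ B) → (∀ i, U i ∈ B) → TypeA O B (kernel φ))
    {F G : Mod O} (α : F ⟶ G) (hF : TypeA O B F) (hG : TypeA O B G) :
    TypeA O B (kernel α) := by
  have hker' : ∀ ⦃T S : Mod O⦄ (ψ : T ⟶ S), FinFree (O := O) B T → FinFree (O := O) B S →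
      TypeA O B (kernel ψ) := by
    intro T S ψ hT hS
    obtain ⟨m, V, hV, ⟨eT⟩⟩ := hT
    obtain ⟨n, U, hU, ⟨eS⟩⟩ := hS
    exact typeA_of_iso B (hker m n V U (eT.inv ≫ ψ ≫ eS.hom) hV hU)
      (kernel.mapIso ψ (eT.inv ≫ ψ ≫ eS.hom) eT eS (by simp))
  obtain ⟨T, S, μ, κ, hT, hS, hκ, Tκ, hTκ, q, hq⟩ :=
    kernel_presentation (fun _ _ => finFree_biprod B) (locLift_finFree B hB₁ hB₂ hB₃)
      (fun T S ψ hT hS => by
        obtain ⟨S₀, hS₀, p, hp, -⟩ := fpres_of_typeA B (hker' ψ hT hS)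
        exact ⟨S₀, hS₀, p, hp⟩) α (fpres_of_typeA B hF) (fpres_of_typeA B hG)
  haveI := hκ
  haveI := hq
  have h1 : TypeA O B (cokernel (q ≫ kernel.ι κ)) :=
    typeA_cokernel B hB₁ hB₂ (q ≫ kernel.ι κ) (typeA_of_finFree B hTκ) (hker' μ hT hS)
  exact typeA_of_iso B h1
    ((asIso (Abelian.factorThruCoimage κ)).symm ≪≫ (cokernelEpiComp q (kernel.ι κ)).symm)

end Site3

end Groth.Agent.Lib.QcSect
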