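import Mathlib
import Groth.Agent.Lib.QcExt3_helper7

/-!
# Every module on a ringed site with a quasi-compact basis is a filtered colimit of
modules finitely presented by `j_! O_U` (helper7)
-/

set_option autoImplicit false
universe w u
open CategoryTheory Limits Opposite ModSite

namespace Groth.Agent.Lib.QcSect

open Groth.Agent.Lib.ModSiteH8

section AbCat4

variable {A : Type*} [Category A] [Abelian A]

/-- the cokernel of a direct sum of maps -/
noncomputable def cokernelBiprodMapIso {X X' Y Y' : A} (f : X ⟶ Y) (g : X' ⟶ Y') :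
    cokernel (biprod.map f g) ≅ cokernel f ⊞ cokernel g where
  hom := cokernel.desc _ (biprod.map (cokernel.π f) (cokernel.π g))
    (by apply biprod.hom_ext <;> simp)
  inv := biprod.desc
    (cokernel.desc f (biprod.inl ≫ cokernel.π (biprod.map f g))
      (by rw [← Category.assoc, ← biprod.inl_map, Category.assoc, cokernel.condition, comp_zero]))
    (cokernel.desc g (biprod.inr ≫ cokernel.π (biprod.map f g))
      (by rw [← Category.assoc, ← biprod.inr_map, Category.assoc, cokernel.condition, comp_zero]))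
  hom_inv_id := by
    rw [← cancel_epi (cokernel.π (biprod.map f g))]
    apply biprod.hom_ext' <;> simp
  inv_hom_id := by
    apply biprod.hom_ext'
    · rw [← cancel_epi (cokernel.π f)]
      simp
    · rw [← cancel_epi (cokernel.π g)]
      simp

end AbCat4

section Colim

variable {C : Type u} [SmallCategory C] {J : GrothendieckTopology C} {O : Sheaf J CommRingCat.{u}}

lemma fe_zero (U : C) (M : Mod O) : fe U M 0 = 0 := by
  rw [fe_eq, Functor.map_zero]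
  rfl

lemma fe_symm_comp' (U : C) {M N : Mod O} (m : (Γ O U).obj M) (g : M ⟶ N) :
    (Γ O U).map g m = fe U N ((fe U M).symm m ≫ g) := by
  rw [fe_symm_comp, Equiv.apply_symm_apply]

section General

variable {Λ : Type u} [SmallCategory Λ] [IsFiltered Λ] (D : Λ ⥤ Mod O)

lemma epi_sigma_desc_cocone (c : Cocone D) (hc : IsColimit c) :
    Epi (Sigma.desc (fun l => c.ι.app l) : (∐ fun l => D.obj l) ⟶ c.pt) := by
  constructor
  intro Z a b h
  apply hc.hom_ext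
  intro l
  have h1 := Sigma.ι (fun l => D.obj l) l ≫= h
  rw [← Category.assoc, ← Category.assoc, Sigma.ι_desc] at h1
  exact h1

lemma exists_local_factor (B : Set C)
    (hB₁ : ∀ X : C, ∃ (κ : Type u) (Y : κ → C) (g : ∀ k, Y k ⟶ X),
      Sieve.ofArrows Y g ∈ J X ∧ ∀ k, Y k ∈ B)
    (hB₂ : ∀ U ∈ B, CohCx.IsQcObject ((presheafToSheaf J (Type u)).obj (yoneda.obj U)))
    (c : Cocone D) (hc : IsColimit c) {U : C} (s : (Γ O U).obj c.pt) :
    ∃ (κ : Type u) (Yc : κ → C) (gc : ∀ k, Yc k ⟶ U), Sieve.ofArrows Yc gc ∈ J U ∧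
      (∀ k, Yc k ∈ B) ∧
      ∀ k, ∃ (l : Λ) (s' : (Γ O (Yc k)).obj (D.obj l)),
        (Γ O (Yc k)).map (c.ι.app l) s' = res c.pt (gc k) s := by
  classical
  haveI := epi_sigma_desc_cocone D c hc
  obtain ⟨e, he⟩ : ∃ e : (∐ fun l => D.obj l) ⟶ c.pt, e = Sigma.desc (fun l => c.ι.app l) :=
    ⟨_, rfl⟩
  haveI : Epi e := by
    rw [he]
    infer_instance
  have hιe : ∀ l, Sigma.ι (fun l => D.obj l) l ≫ e = c.ι.app l := by
    intro l
    rw [he, Sigma.ι_desc]
  refine ⟨LiftIdx B e s, fun q => q.1.1, fun q => q.1.2, liftIdx_cover B hB₁ e s,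
    fun q => q.2.1, ?_⟩
  intro q
  show ∃ (l : Λ) (s' : (Γ O q.1.1).obj (D.obj l)),
    (Γ O q.1.1).map (c.ι.app l) s' = res c.pt q.1.2 s
  obtain ⟨x, hx⟩ := q.2.2
  obtain ⟨T, hT⟩ := exists_sum (coproductIsCoproduct (fun l => D.obj l)) (hB₂ _ q.2.1) x
  obtain ⟨l₀, hl₀⟩ := IsFiltered.sup_objs_exists T
  have hy : ∀ l : Λ, ∃ y : (Γ O q.1.1).obj (D.obj l₀), l ∈ T →
      (Γ O q.1.1).map (c.ι.app l₀) y = (Γ O q.1.1).map (c.ι.app l)
        ((Γ O q.1.1).map (π (coproductIsCoproduct (fun l => D.obj l)) l) x) := by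
    intro l
    by_cases hl : l ∈ T
    · obtain ⟨u⟩ := hl₀ hl
      refine ⟨(Γ O q.1.1).map (D.map u)
        ((Γ O q.1.1).map (π (coproductIsCoproduct (fun l => D.obj l)) l) x), fun _ => ?_⟩
      rw [← Γ_comp_apply, c.w u]
    · exact ⟨0, fun h => absurd h hl⟩
  choose y hy using hy
  refine ⟨l₀, ∑ l ∈ T, y l, ?_⟩
  rw [map_sum, ← hx]
  conv_rhs => rw [hT]
  rw [map_sum]
  refine Finset.sum_congr rfl (fun l hl => ?_)
  have h2 : ∀ z : (Γ O q.1.1).obj (D.obj l),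
      (Γ O q.1.1).map e ((Γ O q.1.1).map (Sigma.ι (fun l => D.obj l) l) z) =
        (Γ O q.1.1).map (c.ι.app l) z := fun z => by
    rw [← Γ_comp_apply, hιe]
  rw [hy l hl, h2]

theorem isColimit_of_local (B : Set C)
    (hB₁ : ∀ X : C, ∃ (κ : Type u) (Y : κ → C) (g : ∀ k, Y k ⟶ X),
      Sieve.ofArrows Y g ∈ J X ∧ ∀ k, Y k ∈ B)
    (hB₂ : ∀ U ∈ B, CohCx.IsQcObject ((presheafToSheaf J (Type u)).obj (yoneda.obj U)))
    (F : Mod O) (ι : D ⟶ (Functor.const Λ).obj F)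
    (P1 : ∀ U ∈ B, ∀ h : freeOn O U ⟶ F, ∃ (l : Λ) (a : freeOn O U ⟶ D.obj l),
      a ≫ ι.app l = h)
    (P2 : ∀ (l : Λ) (W : C), W ∈ B → ∀ h : freeOn O W ⟶ D.obj l, h ≫ ι.app l = 0 →
      ∃ (l₁ : Λ) (t : l ⟶ l₁), h ≫ D.map t = 0) :
    Nonempty (IsColimit (Cocone.mk F ι)) := by
  have hsep := freeOn_isSeparating O B hB₁
  obtain ⟨can, hcan_def, hcan⟩ : ∃ can : colimit D ⟶ F,
      can = colimit.desc D (Cocone.mk F ι) ∧ ∀ l, colimit.ι D l ≫ can = ι.app l :=
    ⟨colimit.desc D (Cocone.mk F ι), rfl, fun l => colimit.ι_desc _ _⟩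
  haveI hepi : Epi can := by
    apply Preadditive.epi_of_cancel_zero
    intro Z k hk
    apply hsep
    rintro _ ⟨⟨U, hU⟩⟩ h
    obtain ⟨l, a, ha⟩ := P1 U hU h
    rw [comp_zero, ← ha, ← hcan l, Category.assoc, Category.assoc, hk, comp_zero, comp_zero]
  haveI hmono : Mono can := by
    apply Preadditive.mono_of_cancel_zero
    intro Z g hg
    apply hsep
    rintro _ ⟨⟨U, hU⟩⟩ h
    rw [comp_zero]
    obtain ⟨h', hh'⟩ : ∃ h' : freeOn O U ⟶ colimit D, h' = h ≫ g := ⟨_, rfl⟩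
    rw [← hh']
    have hh'0 : h' ≫ can = 0 := by rw [hh', Category.assoc, hg, comp_zero]
    apply (fe U (colimit D)).injective
    rw [fe_zero]
    obtain ⟨κ, Yc, gc, hcov, hYB, hfac⟩ := exists_local_factor D B hB₁ hB₂
      (colimit.cocone D) (colimit.isColimit D) (fe U (colimit D) h')
    refine sect_ext _ _ hcov _ _ ?_
    rintro V' g' ⟨_, a, _, ⟨k⟩, rfl⟩
    have key : res (colimit D) (gc k) (fe U (colimit D) h') = 0 := by
      obtain ⟨l, s', hs'⟩ := hfac k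
      have hs'' : (Γ O (Yc k)).map (colimit.ι D l) s' =
          res (colimit D) (gc k) (fe U (colimit D) h') := hs'
      have e1 : (fe (Yc k) (D.obj l)).symm s' ≫ colimit.ι D l = freeOnMap (gc k) ≫ h' := by
        rw [fe_symm_comp, hs'', freeOnMap_comp]
      have e2 : (fe (Yc k) (D.obj l)).symm s' ≫ ι.app l = 0 := by
        rw [← hcan l, ← Category.assoc, e1, Category.assoc, hh'0, comp_zero]
      obtain ⟨l₁, t, ht⟩ := P2 l (Yc k) (hYB k) _ e2
      have e3 : (fe (Yc k) (D.obj l)).symm s' ≫ colimit.ι D l = 0 := by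
        rw [← colimit.w D t, ← Category.assoc, ht, zero_comp]
      rw [← hs'', fe_symm_comp', e3, fe_zero]
    rw [res_comp, res_comp, key]
    simp only [map_zero]
  haveI : IsIso can := isIso_of_mono_of_epi can
  haveI : IsIso ((colimit.isColimit D).desc (Cocone.mk F ι)) := by
    change IsIso (colimit.desc D (Cocone.mk F ι))
    rw [← hcan_def]
    infer_instance
  exact ⟨IsColimit.ofPointIso (colimit.isColimit D)⟩

end General

section Concrete

variable (O) in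
/-- finite presentation data -/
structure Pres (B : Set C) where
  m : ℕ
  n : ℕ
  V : Fin m → C
  U : Fin n → C
  ψ : (∐ fun j => freeOn O (V j)) ⟶ ∐ fun i => freeOn O (U i)
  hV : ∀ j, V j ∈ B
  hU : ∀ i, U i ∈ B

/-- finite presentation data with a map to `F` -/
structure Idx (B : Set C) (F : Mod O) where
  P : Pres O B
  f : cokernel P.ψ ⟶ F

/-- morphisms over `F` -/
@[ext]
structure IdxHom {B : Set C} {F : Mod O} (x y : Idx B F) where
  g : cokernel x.P.ψ ⟶ cokernel y.P.ψ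
  w : g ≫ y.f = x.f

noncomputable instance (B : Set C) (F : Mod O) : Category.{u} (Idx B F) where
  Hom x y := IdxHom x y
  id x := ⟨𝟙 _, Category.id_comp _⟩
  comp a b := ⟨a.g ≫ b.g, by rw [Category.assoc, b.w, a.w]⟩
  id_comp a := IdxHom.ext (Category.id_comp _)
  comp_id a := IdxHom.ext (Category.comp_id _)
  assoc a b c := IdxHom.ext (Category.assoc _ _ _)

/-- the diagram -/
noncomputable def Dfun (B : Set C) (F : Mod O) : Idx B F ⥤ Mod O where
  obj x := cokernel x.P.ψ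
  map a := a.g
  map_id _ := rfl
  map_comp _ _ := rfl

/-- the cocone -/
noncomputable def ιnat (B : Set C) (F : Mod O) : Dfun B F ⟶ (Functor.const (Idx B F)).obj F where
  app x := x.f
  naturality x y a := by
    change a.g ≫ y.f = x.f ≫ 𝟙 F
    rw [Category.comp_id]
    exact a.w

lemma typeA_obj (B : Set C) (F : Mod O) (l : Idx B F) : TypeA O B (cokernel l.P.ψ) :=
  ⟨_, _, _, _, l.P.ψ, l.P.hV, l.P.hU, ⟨Iso.refl _⟩⟩

lemma exists_idx (B : Set C) (F : Mod O) {M : Mod O} (hM : TypeA O B M) (f : M ⟶ F) :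
    ∃ (l : Idx B F) (e : cokernel l.P.ψ ≅ M), e.hom ≫ f = l.f := by
  obtain ⟨m, n, V, U, ψ, hV, hU, ⟨e⟩⟩ := hM
  exact ⟨⟨⟨m, n, V, U, ψ, hV, hU⟩, e.inv ≫ f⟩, e.symm, rfl⟩

variable (B : Set C)
  (hB₁ : ∀ X : C, ∃ (κ : Type u) (Y : κ → C) (g : ∀ k, Y k ⟶ X),
    Sieve.ofArrows Y g ∈ J X ∧ ∀ k, Y k ∈ B)
  (hB₂ : ∀ U ∈ B, CohCx.IsQcObject ((presheafToSheaf J (Type u)).obj (yoneda.obj U)))

include hB₁ hB₂ in
lemma typeA_biprod {M M' : Mod O} (h : TypeA O B M) (h' : TypeA O B M') :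
    TypeA O B (M ⊞ M') := by
  obtain ⟨m, n, V, U, ψ, hV, hU, ⟨e⟩⟩ := h
  obtain ⟨m', n', V', U', ψ', hV', hU', ⟨e'⟩⟩ := h'
  have hT : TypeA O B ((∐ fun j => freeOn O (V j)) ⊞ (∐ fun j => freeOn O (V' j))) :=
    typeA_of_finFree B (finFree_biprod B ⟨m, V, hV, ⟨Iso.refl _⟩⟩ ⟨m', V', hV', ⟨Iso.refl _⟩⟩)
  have hS : TypeA O B ((∐ fun i => freeOn O (U i)) ⊞ (∐ fun i => freeOn O (U' i))) :=
    typeA_of_finFree B (finFree_biprod B ⟨n, U, hU, ⟨Iso.refl _⟩⟩ ⟨n', U', hU', ⟨Iso.refl _⟩⟩)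
  have h1 := typeA_cokernel B hB₁ hB₂ (biprod.map ψ ψ') hT hS
  exact typeA_of_iso B h1 (biprod.mapIso e e' ≪≫ (cokernelBiprodMapIso ψ ψ').symm)

lemma typeA_freeOn {U : C} (hU : U ∈ B) : TypeA O B (freeOn O U) :=
  typeA_of_finFree B ⟨1, fun _ => U, fun _ => hU,
    ⟨(coproductUniqueIso (fun _ : Fin 1 => freeOn O U)).symm⟩⟩

include hB₁ hB₂ in
lemma isFiltered_idx (F : Mod O) : IsFiltered (Idx (O := O) B F) := by
  haveI : Nonempty (Idx (O := O) B F) :=
    ⟨⟨⟨0, 0, fun j => j.elim0, fun j => j.elim0, 0, fun j => j.elim0, fun j => j.elim0⟩, 0⟩⟩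
  haveI : IsFilteredOrEmpty (Idx (O := O) B F) := by
    constructor
    · intro x y
      have hxy : TypeA O B (cokernel x.P.ψ ⊞ cokernel y.P.ψ) :=
        typeA_biprod B hB₁ hB₂ (typeA_obj B F x) (typeA_obj B F y)
      obtain ⟨z, e, he⟩ := exists_idx B F hxy (biprod.desc x.f y.f)
      refine ⟨z, ⟨biprod.inl ≫ e.inv, ?_⟩, ⟨biprod.inr ≫ e.inv, ?_⟩, trivial⟩
      · rw [← he, Category.assoc, Iso.inv_hom_id_assoc, biprod.inl_desc]
      · rw [← he, Category.assoc, Iso.inv_hom_id_assoc, biprod.inr_desc]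
    · intro x y g₁ g₂
      have hcok : TypeA O B (cokernel (g₁.g - g₂.g)) :=
        typeA_cokernel B hB₁ hB₂ _ (typeA_obj B F x) (typeA_obj B F y)
      have h0 : (g₁.g - g₂.g) ≫ y.f = 0 := by
        rw [Preadditive.sub_comp, g₁.w, g₂.w, sub_self]
      obtain ⟨z, e, he⟩ := exists_idx B F hcok (cokernel.desc _ y.f h0)
      refine ⟨z, ⟨cokernel.π _ ≫ e.inv, ?_⟩, ?_⟩
      · rw [← he, Category.assoc, Iso.inv_hom_id_assoc, cokernel.π_desc]
      · apply IdxHom.ext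
        change g₁.g ≫ cokernel.π (g₁.g - g₂.g) ≫ e.inv = g₂.g ≫ cokernel.π (g₁.g - g₂.g) ≫ e.inv
        rw [← Category.assoc, ← Category.assoc, ← sub_eq_zero, ← Preadditive.sub_comp,
          ← Preadditive.sub_comp, cokernel.condition, zero_comp]
  exact {}

include hB₁ hB₂ in
theorem exists_filtered_colimit_typeA (F : Mod O) :
    ∃ (Λ : Type u) (_ : SmallCategory Λ) (_ : IsFiltered Λ) (D : Λ ⥤ Mod O)
      (ι : D ⟶ (Functor.const Λ).obj F),
      (∀ l, TypeA O B (D.obj l)) ∧ Nonempty (IsColimit (Cocone.mk F ι)) := by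
  haveI := isFiltered_idx B hB₁ hB₂ F
  refine ⟨Idx B F, inferInstance, inferInstance, Dfun B F, ιnat B F, fun l => typeA_obj B F l, ?_⟩
  refine isColimit_of_local (Dfun B F) B hB₁ hB₂ F (ιnat B F) ?_ ?_
  · intro U hU h
    obtain ⟨l, e, he⟩ := exists_idx B F (typeA_freeOn B hU) h
    refine ⟨l, e.inv, ?_⟩
    change e.inv ≫ l.f = h
    rw [← he, Iso.inv_hom_id_assoc]
  · intro l W hW h h0
    obtain ⟨h1, hh1⟩ : ∃ h1 : freeOn O W ⟶ cokernel l.P.ψ, h1 = h := ⟨h, rfl⟩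
    have h0' : h1 ≫ l.f = 0 := by
      rw [hh1]
      exact h0
    have hcok : TypeA O B (cokernel h1) :=
      typeA_cokernel B hB₁ hB₂ h1 (typeA_freeOn B hW) (typeA_obj B F l)
    obtain ⟨l₁, e, he⟩ := exists_idx B F hcok (cokernel.desc h1 l.f h0')
    refine ⟨l₁, ⟨cokernel.π h1 ≫ e.inv, ?_⟩, ?_⟩
    · rw [← he, Category.assoc, Iso.inv_hom_id_assoc, cokernel.π_desc]
    · rw [← hh1]
      change h1 ≫ cokernel.π h1 ≫ e.inv = 0
      rw [cokernel.condition_assoc, zero_comp]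

end Concrete

end Colim

end Groth.Agent.Lib.QcSect
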