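import Mathlib
import Groth.Agent.Lib.QcSect_helper7
import Groth.Agent.Lib.CptRetract2_helper7
import Groth.Agent.Lib.SheafOfModulesGrothendieck_helper2
import Groth.Agent.Lib.ModSite2_helper8

/-!
# Compact objects of `D(O)` on a ringed site with enough quasi-compact objects (helper7)
-/

set_option autoImplicit false
universe u
open CategoryTheory Limits Opposite ModSite

namespace Groth.Agent.Lib.QcSect

section Compact

variable {C : Type u} [SmallCategory C] {J : GrothendieckTopology C} (O : Sheaf J CommRingCat.{u})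

/-- the set of quasi-compact objects -/
def QcSet (J : GrothendieckTopology C) : Set C :=
  {U | CohCx.IsQcObject ((presheafToSheaf J (Type u)).obj (yoneda.obj U))}

/-- the class of modules `j_! O_U` with `U` quasi-compact -/
def QcFree : Set (Mod O) := {E | ∃ U : C, U ∈ QcSet J ∧ E = freeOn O U}

variable (hC : ∀ V : C, ∃ R ∈ J V, ∀ ⦃W : C⦄ (g : W ⟶ V), R g →
  ∃ (U : C) (a : W ⟶ U) (b : U ⟶ V),
    CohCx.IsQcObject ((presheafToSheaf J (Type u)).obj (yoneda.obj U)) ∧ a ≫ b = g)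

include hC in
lemma hG (X : C) : ∃ (ι : Type u) (Y : ι → C) (f : ∀ i, Y i ⟶ X),
    Sieve.ofArrows Y f ∈ J X ∧ ∀ i, Y i ∈ QcSet J := by
  obtain ⟨R, hR, h⟩ := hC X
  choose U a b hqc hab using fun (p : Σ W : C, {g : W ⟶ X // R g}) => h p.2.1 p.2.2
  refine ⟨Σ W : C, {g : W ⟶ X // R g}, U, b, ?_, hqc⟩
  refine J.superset_covering ?_ hR
  intro W g hg
  let p : Σ W : C, {g : W ⟶ X // R g} := ⟨W, ⟨g, hg⟩⟩
  exact ⟨_, a p, _, Presieve.ofArrows.mk p, hab p⟩

include hC in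
lemma cover (X : Mod O) : ∃ (ι : Type u) (E : ι → Mod O) (π : ∐ E ⟶ X),
    (∀ i, E i ∈ QcFree O) ∧ Epi π := by
  let I : Type u := Σ U : {U : C // U ∈ QcSet J}, (freeOn O U.1 ⟶ X)
  let Fam : I → Mod O := fun i => freeOn O i.1.1
  refine ⟨I, Fam, Sigma.desc (fun i => i.2), fun i => ⟨i.1.1, i.1.2, rfl⟩, ⟨?_⟩⟩
  intro H a b hab
  have hsep := ModSiteH8.freeOn_isSeparating O (QcSet J) (hG hC)
  apply hsep
  rintro _ ⟨⟨U, hU⟩⟩ h
  have := (Sigma.ι Fam ⟨⟨U, hU⟩, h⟩) ≫= hab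
  simpa using this

include hC in
theorem compact_retract [HasFiniteBiproducts (ModSite.Mod O)]
    [HasDerivedCategory.{u} (ModSite.Mod O)] [HasCoproducts.{u} (DerivedCategory (ModSite.Mod O))]
    (K : DerivedCategory (ModSite.Mod O)) (hK : CohDer.IsCompactObject K) :
    ∃ (L : CochainComplex (ModSite.Mod O) ℤ) (a b : ℤ),
      (∀ i : ℤ, i < a ∨ b < i → IsZero (L.X i)) ∧
      (∀ i : ℤ, ∃ (n : ℕ) (U : Fin n → C),
        (∀ j, CohCx.IsQcObject ((presheafToSheaf J (Type u)).obj (yoneda.obj (U j)))) ∧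
        Nonempty (L.X i ≅ ⨁ fun j => ModSite.freeOn O (U j))) ∧
      Nonempty (Retract K (DerivedCategory.Q.obj L)) := by
  haveI : IsGrothendieckAbelian.{u} (ModSite.Mod O) :=
    Groth.Agent.Lib.FunctorialInjective.isGrothendieckAbelian_sheafOfModules J (ModSite.ringSh O)
  obtain ⟨L, a, b, hv, hs, hr⟩ := Groth.Agent.Lib.CptRetract.main (S := QcFree O) (cover O hC)
    (fun E hE ι => by
      obtain ⟨U, hU, rfl⟩ := hE
      exact preserves_coyoneda hU ι) K hK
  refine ⟨L, a, b, hv, fun i => ?_, hr⟩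
  obtain ⟨n, E, hE, ⟨e⟩⟩ := hs i
  choose U hU hEU using hE
  exact ⟨n, U, hU, ⟨e ≪≫ biproduct.mapIso (fun j => eqToIso (hEU j))⟩⟩

end Compact

end Groth.Agent.Lib.QcSect
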