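import Mathlib
import Groth.Agent.Lib.AffStalk_helper3
import Groth.Agent.Lib.AffStalk3_helper3

/-!
# Quasi-compact opens of affine schemes with Noetherian local rings of dimension ≤ 1 (helper4)
APPEND-ONLY once landed.
-/

set_option autoImplicit false
set_option linter.unusedVariables false
set_option linter.unusedTactic false
set_option linter.unreachableTactic false
set_option linter.unusedSectionVars false
set_option maxHeartbeats 800000
set_option backward.isDefEq.respectTransparency false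
universe u

namespace Groth.Agent.Lib.QcOpenDimOneH4

open CategoryTheory AlgebraicGeometry TopologicalSpace Opposite

/-- In a local ring of dimension at most one, a prime is minimal or maximal. -/
theorem prime_minimal_or_maximal {S : Type*} [CommRing S] [IsLocalRing S]
    (hdim : ringKrullDim S ≤ 1) (P : Ideal S) [hPp : P.IsPrime] :
    P ∈ minimalPrimes S ∨ P = IsLocalRing.maximalIdeal S := by
  by_cases hP : P ∈ minimalPrimes S
  · exact Or.inl hP
  · right
    obtain ⟨P₀, hP₀, hle⟩ := Ideal.exists_minimalPrimes_le (I := ⊥) (J := P) bot_le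
    have hP₀' : P₀ ∈ minimalPrimes S := hP₀
    have hlt : P₀ < P := lt_of_le_of_ne hle (fun h => hP (h ▸ hP₀'))
    haveI : P₀.IsPrime := hP₀.1.1
    by_contra hne
    have hltm : P < IsLocalRing.maximalIdeal S :=
      lt_of_le_of_ne (IsLocalRing.le_maximalIdeal hPp.ne_top) hne
    have h1 : P₀.height + 1 ≤ P.height := Ideal.height_add_one_le_of_lt_of_isPrime hlt
    have h2 : P.height + 1 ≤ (IsLocalRing.maximalIdeal S).height :=
      Ideal.height_add_one_le_of_lt_of_isPrime hltm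
    have h3 : ((IsLocalRing.maximalIdeal S).height : WithBot ℕ∞) ≤ ringKrullDim S :=
      Ideal.height_le_ringKrullDim_of_ne_top (Ideal.IsPrime.ne_top inferInstance)
    have h4 : (IsLocalRing.maximalIdeal S).height ≤ 1 := by exact_mod_cast h3.trans hdim
    have h5 : (1 : ℕ∞) ≤ P.height := le_trans (le_add_self) h1
    have h6 : (1 : ℕ∞) + 1 ≤ (IsLocalRing.maximalIdeal S).height :=
      le_trans (add_le_add_left h5 1) h2
    have h7 : (1 : ℕ∞) + 1 ≤ 1 := h6.trans h4
    exact absurd h7 (by decide)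

/-- Local principalisation: in a ring whose localisation at `p` is Noetherian of dimension at most
one, an ideal contained in `p` is, near `p`, the radical of a principal ideal generated by one of
its elements. -/
theorem exists_local_principal {A : Type*} [CommRing A] (p : Ideal A) [hp : p.IsPrime]
    (S : Type*) [CommRing S] [Algebra A S] [IsLocalization.AtPrime S p] [IsNoetherianRing S]
    (hdim : ringKrullDim S ≤ 1) (I : Ideal A) (hIp : I ≤ p) :
    ∃ a ∈ I, ∀ f ∈ I, ∃ t : A, t ∉ p ∧ ∃ n : ℕ, t * f ^ n ∈ Ideal.span {a} := by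
  classical
  haveI : IsLocalRing S := IsLocalization.AtPrime.isLocalRing S p
  obtain ⟨IS, hIS⟩ : ∃ IS : Ideal S, IS = I.map (algebraMap A S) := ⟨_, rfl⟩
  have hfin : (minimalPrimes S).Finite := minimalPrimes.finite_of_isNoetherianRing S
  obtain ⟨Q, hQ⟩ : ∃ Q : Finset (Ideal S), Q = hfin.toFinset.filter (fun q => ¬ IS ≤ q) := ⟨_, rfl⟩
  have hQmem : ∀ q, q ∈ Q ↔ q ∈ minimalPrimes S ∧ ¬ IS ≤ q := by
    intro q
    rw [hQ, Finset.mem_filter, Set.Finite.mem_toFinset]
  have havoid : ∃ h ∈ IS, ∀ q ∈ Q, h ∉ q := by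
    by_contra hcon
    push Not at hcon
    have hsub : (IS : Set S) ⊆ ⋃ q ∈ (Q : Set (Ideal S)), (q : Set S) := by
      intro h hh
      obtain ⟨q, hq, hhq⟩ := hcon h hh
      exact Set.mem_biUnion (Finset.mem_coe.mpr hq) hhq
    have hprime : ∀ q ∈ Q, q ≠ (⊥ : Ideal S) → q ≠ (⊥ : Ideal S) → (q : Ideal S).IsPrime := by
      intro q hq _ _
      exact ((hQmem q).mp hq).1.1.1
    obtain ⟨q, hq, hle⟩ := (Ideal.subset_union_prime (s := Q) (f := fun q => q) ⊥ ⊥ hprime).mp hsub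
    exact ((hQmem q).mp hq).2 hle
  obtain ⟨h, hhIS, hhQ⟩ := havoid
  have hISm : IS ≤ IsLocalRing.maximalIdeal S := by
    rw [hIS, Ideal.map_le_iff_le_comap]
    intro x hx
    exact Ideal.mem_comap.mpr ((IsLocalization.AtPrime.to_map_mem_maximal_iff S p x).mpr (hIp hx))
  have hrad : IS ≤ (Ideal.span {h}).radical := by
    rw [Ideal.radical_eq_sInf]
    refine le_sInf ?_
    rintro P ⟨hhP, hPprime⟩
    haveI := hPprime
    have hhP' : h ∈ P := hhP (Ideal.mem_span_singleton_self h)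
    rcases prime_minimal_or_maximal hdim P with hmin | hmax
    · by_contra hnot
      exact hhQ P ((hQmem P).mpr ⟨hmin, hnot⟩) hhP'
    · rw [hmax]
      exact hISm
  rw [hIS] at hhIS
  obtain ⟨⟨⟨a, haI⟩, t0⟩, hat⟩ := (IsLocalization.mem_map_algebraMap_iff p.primeCompl S).mp hhIS
  have hat' : h * algebraMap A S (t0 : A) = algebraMap A S a := hat
  have ht0u : IsUnit (algebraMap A S (t0 : A)) := IsLocalization.map_units S t0
  have hspan : Ideal.span {h} = Ideal.span {algebraMap A S a} := by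
    rw [← hat']
    exact (Ideal.span_singleton_mul_right_unit ht0u h).symm
  refine ⟨a, haI, fun f hf => ?_⟩
  have hfrad : algebraMap A S f ∈ (Ideal.span {algebraMap A S a}).radical := by
    rw [← hspan]
    exact hrad (hIS ▸ Ideal.mem_map_of_mem _ hf)
  obtain ⟨n, hn⟩ := hfrad
  obtain ⟨y, hy⟩ := Ideal.mem_span_singleton'.mp hn
  obtain ⟨⟨c, t1⟩, hct⟩ := IsLocalization.surj p.primeCompl y
  have hct' : y * algebraMap A S (t1 : A) = algebraMap A S c := hct
  have heq : algebraMap A S (f ^ n * (t1 : A)) = algebraMap A S (c * a) := by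
    rw [map_mul, map_pow, ← hy, map_mul, ← hct']
    ring
  obtain ⟨t2, ht2⟩ := (IsLocalization.eq_iff_exists p.primeCompl S).mp heq
  refine ⟨(t2 : A) * (t1 : A), ?_, n, ?_⟩
  · intro hmem
    rcases hp.mem_or_mem hmem with h' | h'
    · exact (Ideal.mem_primeCompl_iff.mp t2.2) h'
    · exact (Ideal.mem_primeCompl_iff.mp t1.2) h'
  · rw [Ideal.mem_span_singleton']
    refine ⟨(t2 : A) * c, ?_⟩
    linear_combination (-1 : A) * ht2

/-- An affine scheme whose local rings are Noetherian of dimension at most one: every quasi-compact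
open is affine. -/
theorem affine_of_compact (X : Scheme.{u}) [IsAffine X]
    (hX : ∀ x : X, IsNoetherianRing (X.presheaf.stalk x) ∧ ringKrullDim (X.presheaf.stalk x) ≤ 1)
    (U : X.Opens) (hU : IsCompact (U : Set X)) : IsAffineOpen U := by
  classical
  have hA : IsAffineOpen (⊤ : X.Opens) := isAffineOpen_top X
  obtain ⟨s, hsfin, hsU⟩ :=
    isCompact_and_isOpen_iff_finite_and_eq_biUnion_basicOpen.mp ⟨hU, U.isOpen⟩
  have hUq : IsQuasiSeparated (U : Set X) := IsQuasiSeparated.of_quasiSeparatedSpace _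
  obtain ⟨ρ, hρ⟩ : ∃ ρ : Γ(X, ⊤) →+* Γ(X, U),
      ρ = (X.presheaf.map (homOfLE (le_top : U ≤ ⊤)).op).hom := ⟨_, rfl⟩
  have hbo : ∀ f : Γ(X, ⊤), X.basicOpen (ρ f) = U ⊓ X.basicOpen f := by
    intro f
    rw [hρ]
    exact Scheme.basicOpen_res X f (homOfLE (le_top : U ≤ ⊤)).op
  have hmemU : ∀ f ∈ s, X.basicOpen f ≤ U := by
    intro f hf x hx
    have : x ∈ (U : Set X) := by
      rw [hsU]
      exact Set.mem_biUnion hf hx
    exact this
  refine isAffineOpen_of_isAffineOpen_basicOpen U (ρ '' s) ?_ ?_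
  swap
  · rintro _ ⟨f, hf, rfl⟩
    rw [hbo f, inf_eq_right.mpr (hmemU f hf)]
    exact hA.basicOpen f
  obtain ⟨J, hJ⟩ : ∃ J : Ideal Γ(X, ⊤), J = Ideal.comap ρ (Ideal.span (ρ '' s)) := ⟨_, rfl⟩
  suffices hJtop : J = ⊤ by
    have h1 : (1 : Γ(X, ⊤)) ∈ J := by
      rw [hJtop]
      trivial
    rw [hJ, Ideal.mem_comap, map_one] at h1
    exact (Ideal.eq_top_iff_one _).mpr h1
  by_contra hJne
  obtain ⟨m, hmmax, hJm⟩ := Ideal.exists_le_maximal J hJne
  haveI hmprime : m.IsPrime := hmmax.isPrime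
  obtain ⟨pt, hpt⟩ : ∃ pt : PrimeSpectrum Γ(X, ⊤), pt = ⟨m, hmprime⟩ := ⟨_, rfl⟩
  obtain ⟨x, hx⟩ : ∃ x : X, x = hA.fromSpec pt := ⟨_, rfl⟩
  have hxtop : x ∈ (⊤ : X.Opens) := trivial
  have hprime : hA.primeIdealOf ⟨x, hxtop⟩ = pt := by
    subst hx
    exact Groth.Agent.Lib.AffStalk_helper3.primeIdealOf_fromSpec hA pt
  have hsJ : ∀ f ∈ s, f ∈ J := by
    intro f hf
    rw [hJ]
    exact Ideal.mem_comap.mpr (Ideal.subset_span ⟨f, hf, rfl⟩)
  have hsm : ∀ f ∈ s, f ∈ m := fun f hf => hJm (hsJ f hf)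
  letI := TopCat.Presheaf.algebra_section_stalk X.presheaf ⟨x, hxtop⟩
  have hloc : IsLocalization.AtPrime (X.presheaf.stalk x)
      (hA.primeIdealOf ⟨x, hxtop⟩).asIdeal := hA.isLocalization_stalk ⟨x, hxtop⟩
  rw [hprime, hpt] at hloc
  haveI hloc' : IsLocalization.AtPrime (X.presheaf.stalk x) m := hloc
  haveI := (hX x).1
  obtain ⟨a, haI, hall⟩ := exists_local_principal m (X.presheaf.stalk x) (hX x).2
    (Ideal.span s) (Ideal.span_le.mpr hsm)
  choose! t ht n hn using hall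
  obtain ⟨T, hT⟩ : ∃ T : Γ(X, ⊤), T = ∏ f ∈ hsfin.toFinset, t f := ⟨_, rfl⟩
  have hTm : T ∉ m := by
    intro hmem
    rw [hT] at hmem
    obtain ⟨f, hf, hfm⟩ := Ideal.IsPrime.prod_mem_iff.mp hmem
    exact ht f (Ideal.subset_span (hsfin.mem_toFinset.mp hf)) hfm
  have hUT : U ⊓ X.basicOpen T ≤ X.basicOpen a := by
    rintro y ⟨hyU, hyT⟩
    have hyU' : y ∈ (U : Set X) := hyU
    rw [hsU] at hyU'
    obtain ⟨f, hf, hyf⟩ := Set.mem_iUnion₂.mp hyU'
    have hyf' : y ∈ X.basicOpen f := hyf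
    have hyT' : y ∈ X.basicOpen T := hyT
    obtain ⟨c, hc⟩ := Ideal.mem_span_singleton'.mp (hn f (Ideal.subset_span hf))
    obtain ⟨d, hd⟩ := Finset.dvd_prod_of_mem t (hsfin.mem_toFinset.mpr hf)
    obtain ⟨P, hP⟩ : ∃ P : Ideal Γ(X, ⊤), P = (hA.primeIdealOf ⟨y, trivial⟩).asIdeal := ⟨_, rfl⟩
    have hPprime : P.IsPrime := hP ▸ (hA.primeIdealOf ⟨y, trivial⟩).isPrime
    have h1 : f ∉ P := hP ▸
      (Groth.Agent.Lib.AffStalk_helper3.mem_basicOpen_iff hA f ⟨y, trivial⟩).mp hyf'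
    have h2 : T ∉ P := hP ▸
      (Groth.Agent.Lib.AffStalk_helper3.mem_basicOpen_iff hA T ⟨y, trivial⟩).mp hyT'
    refine (Groth.Agent.Lib.AffStalk_helper3.mem_basicOpen_iff hA a ⟨y, trivial⟩).mpr ?_
    rw [← hP]
    intro haP
    have h3 : t f * f ^ n f ∈ P := by
      rw [← hc]
      exact Ideal.mul_mem_left _ _ haP
    rcases hPprime.mem_or_mem h3 with h4 | h4
    · apply h2
      rw [hT, hd]
      exact Ideal.mul_mem_right _ _ h4
    · exact h1 (hPprime.mem_of_pow_mem _ h4)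
  have hτb : X.basicOpen (ρ T) ≤ X.basicOpen (ρ a) := by
    rw [hbo T, hbo a]
    exact le_inf inf_le_left hUT
  obtain ⟨r, hr⟩ : ∃ r : Γ(X, U) →+* Γ(X, X.basicOpen (ρ T)),
      r = (X.presheaf.map (homOfLE (X.basicOpen_le (ρ T))).op).hom := ⟨_, rfl⟩
  have hunit : IsUnit (r (ρ a)) := by
    have h0 : IsUnit (X.presheaf.map (homOfLE (X.basicOpen_le (ρ a))).op (ρ a)) :=
      RingedSpace.isUnit_res_basicOpen _ (ρ a)
    have e : r (ρ a) = (X.presheaf.map (homOfLE hτb).op).hom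
        ((X.presheaf.map (homOfLE (X.basicOpen_le (ρ a))).op) (ρ a)) := by
      rw [hr]
      change _ = ((X.presheaf.map (homOfLE (X.basicOpen_le (ρ a))).op) ≫
        (X.presheaf.map (homOfLE hτb).op)) (ρ a)
      rw [← Functor.map_comp]
      rfl
    rw [e]
    exact h0.map _
  obtain ⟨u, hu⟩ := hunit.exists_right_inv
  obtain ⟨k, g, hg⟩ := exists_eq_pow_mul_of_isCompact_of_isQuasiSeparated X U hU hUq (ρ T) u
  have hg' : r g = (r (ρ T)) ^ k * u := by
    rw [hr]
    exact hg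
  have hres : r (ρ a * g) = r ((ρ T) ^ k) := by
    rw [map_mul, map_pow, hg']
    calc r (ρ a) * (r (ρ T) ^ k * u) = r (ρ T) ^ k * (r (ρ a) * u) := by ring
      _ = r (ρ T) ^ k := by rw [hu, mul_one]
  have hres' : (ρ a * g) |_ X.basicOpen (ρ T) = ((ρ T) ^ k) |_ X.basicOpen (ρ T) := by
    rw [hr] at hres
    exact hres
  obtain ⟨mm, hmm⟩ := exists_of_res_eq_of_qcqs hU hUq hres'
  have hb : ρ a ∈ Ideal.span (ρ '' s) := by
    have h1 : ρ a ∈ Ideal.map ρ (Ideal.span s) := Ideal.mem_map_of_mem ρ haI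
    rwa [Ideal.map_span] at h1
  have hTJ : T ^ (mm + k) ∈ J := by
    rw [hJ, Ideal.mem_comap, map_pow, pow_add, ← hmm]
    exact Ideal.mul_mem_left _ _ (Ideal.mul_mem_right _ _ hb)
  exact hTm (hmprime.mem_of_pow_mem _ (hJm hTJ))

end Groth.Agent.Lib.QcOpenDimOneH4
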