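import Mathlib
import Groth.Prelude.Def_SGA1
import Groth.Agent.Lib.SigmaFin1_helper8

set_option autoImplicit false
universe w u
open CategoryTheory AlgebraicGeometry Limits

namespace QfhQuotH8

theorem univSubmersive_of_finite_surjective {X Y : Scheme.{u}} (f : X ⟶ Y) [IsFinite f]
    [Surjective f] : SGA1.UnivSubmersive f := by
  intro X' Y' i₁ i₂ f' H
  have h1 : IsFinite f' := MorphismProperty.of_isPullback H.flip inferInstance
  have h2 : Surjective f' := MorphismProperty.of_isPullback H.flip inferInstance
  exact IsClosedMap.isQuotientMap f'.isClosedMap f'.continuous f'.surjective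

/-- a finite jointly surjective family of finite morphisms satisfies the hypotheses of a
qfh covering. -/
theorem isSheafFor_of_finite_cover {T : Scheme.{u}} (F : Scheme.{u}ᵒᵖ ⥤ Type w)
    (hF : ∀ ⦃T : Scheme.{u}⦄ (E : PreZeroHypercover.{u} T), Finite E.I₀ →
      (∀ i, LocallyOfFiniteType (E.f i)) → (∀ i, QuasiCompact (E.f i)) →
      (∀ i, LocallyQuasiFinite (E.f i)) → SGA1.UnivSubmersive (Sigma.desc E.f) →
      Presieve.IsSheafFor F E.presieve₀)
    (E : PreZeroHypercover.{u} T) [Finite E.I₀] (hfin : ∀ i, IsFinite (E.f i))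
    (hsurj : ∀ t : T, ∃ i, t ∈ Set.range (E.f i).base) :
    Presieve.IsSheafFor F E.presieve₀ := by
  refine hF E inferInstance (fun i => inferInstance) (fun i => inferInstance)
    (fun i => inferInstance) ?_
  have h1 : IsFinite (Sigma.desc E.f) := SigmaFinH8.isFinite_sigmaDesc E.I₀ E.X E.f hfin
  have h2 : Surjective (Sigma.desc E.f) := by
    apply Surjective.sigmaDesc_of_union_range_eq_univ
    rw [Set.eq_univ_iff_forall]
    intro t
    obtain ⟨i, hi⟩ := hsurj t
    exact Set.mem_iUnion.mpr ⟨i, hi⟩
  exact univSubmersive_of_finite_surjective _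

end QfhQuotH8
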