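import Mathlib

/-!
# Squares of a coordinate inside squares of ideals (helper9)

Abstract part used for S1601: `R` a domain, `ℓ ∈ R` with `R/(ℓ)` a principal ideal domain (given
through a surjection `φ : R → P` with kernel `(ℓ)`).  If `ℓ² ∈ J²` then `ℓ ∈ J`.
-/

namespace Groth.Agent.Quad9

open Ideal

section Abstract

variable {R P : Type*} [CommRing R] [CommRing P]

/-- the ideal quotient `(J : ℓ)` -/
def quo (J : Ideal R) (ℓ : R) : Ideal R where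
  carrier := {h | ℓ * h ∈ J}
  add_mem' := by
    intro a b ha hb
    simp only [Set.mem_ofPred_eq] at ha hb ⊢
    rw [mul_add]; exact J.add_mem ha hb
  zero_mem' := by simp
  smul_mem' := by
    intro c x hx
    simp only [Set.mem_ofPred_eq, smul_eq_mul] at hx ⊢
    rw [mul_left_comm]; exact J.mul_mem_left c hx

theorem mem_quo {J : Ideal R} {ℓ h : R} : h ∈ quo J ℓ ↔ ℓ * h ∈ J := Iff.rfl

theorem le_quo (J : Ideal R) (ℓ : R) : J ≤ quo J ℓ := fun _ hx => J.mul_mem_left ℓ hx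

variable [IsPrincipalIdealRing P]

theorem exists_gen (φ : R →+* P) (hφ : Function.Surjective φ) (ℓ : R)
    (hker : RingHom.ker φ = Ideal.span {ℓ}) (J : Ideal R) :
    ∃ G ∈ J, Ideal.map φ J = Ideal.span {φ G} ∧ (φ G = 0 → G = 0) ∧
      ∀ g ∈ J, ∃ c h, g = c * G + ℓ * h ∧ h ∈ quo J ℓ := by
  obtain ⟨F, hF⟩ := (IsPrincipalIdealRing.principal (Ideal.map φ J)).principal
  have hFmem : F ∈ Ideal.map φ J := by rw [hF]; exact Submodule.mem_span_singleton_self F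
  have key : ∃ G ∈ J, φ G = F ∧ (φ G = 0 → G = 0) := by
    by_cases hF0 : F = 0
    · exact ⟨0, J.zero_mem, by simp [hF0], fun _ => rfl⟩
    · obtain ⟨G, hGJ, hGF⟩ := (Ideal.mem_map_iff_of_surjective φ hφ).1 hFmem
      exact ⟨G, hGJ, hGF, fun h => absurd (hGF ▸ h) hF0⟩
  obtain ⟨G, hGJ, hGF, hG0⟩ := key
  refine ⟨G, hGJ, by rw [hGF]; exact hF, hG0, ?_⟩
  intro g hg
  have h1 : φ g ∈ Ideal.map φ J := Ideal.mem_map_of_mem φ hg
  rw [hF] at h1
  obtain ⟨c', hc'⟩ := Submodule.mem_span_singleton.1 h1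
  obtain ⟨c, rfl⟩ := hφ c'
  have hk : g - c * G ∈ RingHom.ker φ := by
    rw [RingHom.mem_ker, map_sub, map_mul, hGF, ← hc', smul_eq_mul, sub_self]
  rw [hker] at hk
  obtain ⟨h, hh⟩ := Ideal.mem_span_singleton'.1 hk
  refine ⟨c, h, by linear_combination -hh, ?_⟩
  rw [mem_quo, mul_comm, hh]
  exact J.sub_mem hg (J.mul_mem_left c hGJ)

omit [IsPrincipalIdealRing P] in
theorem sq_decomp (ℓ G : R) (J : Ideal R)
    (hJ : ∀ g ∈ J, ∃ c h, g = c * G + ℓ * h ∧ h ∈ quo J ℓ) :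
    ∀ p ∈ J * J, ∃ C B A, p = G ^ 2 * C + ℓ * G * B + ℓ ^ 2 * A ∧ B ∈ quo J ℓ ∧
      A ∈ quo J ℓ * quo J ℓ := by
  intro p hp
  induction hp using Submodule.mul_induction_on' with
  | mem_mul_mem g₁ hg₁ g₂ hg₂ =>
    obtain ⟨c₁, h₁, e₁, hh₁⟩ := hJ g₁ hg₁
    obtain ⟨c₂, h₂, e₂, hh₂⟩ := hJ g₂ hg₂
    refine ⟨c₁ * c₂, c₁ * h₂ + c₂ * h₁, h₁ * h₂, ?_, ?_, Ideal.mul_mem_mul hh₁ hh₂⟩
    · rw [e₁, e₂]; ring
    · exact (quo J ℓ).add_mem ((quo J ℓ).mul_mem_left _ hh₂) ((quo J ℓ).mul_mem_left _ hh₁)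
  | add x _ y _ hx hy =>
    obtain ⟨C₁, B₁, A₁, e₁, hB₁, hA₁⟩ := hx
    obtain ⟨C₂, B₂, A₂, e₂, hB₂, hA₂⟩ := hy
    refine ⟨C₁ + C₂, B₁ + B₂, A₁ + A₂, ?_, (quo J ℓ).add_mem hB₁ hB₂, Ideal.add_mem _ hA₁ hA₂⟩
    rw [e₁, e₂]; ring

variable [IsDomain R] [IsDomain P]

/-- **Key lemma**: if `R/(ℓ)` is a principal ideal domain and `ℓ² ∈ J²` then `ℓ ∈ J`. -/
theorem mem_of_sq_mem_sq (φ : R →+* P) (hφ : Function.Surjective φ) (ℓ : R) (hℓ : ℓ ≠ 0)
    (hker : RingHom.ker φ = Ideal.span {ℓ}) (J : Ideal R) (h : ℓ ^ 2 ∈ J ^ 2) : ℓ ∈ J := by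
  obtain ⟨G, hGJ, -, hG0, hdec⟩ := exists_gen φ hφ ℓ hker J
  rw [pow_two] at h
  obtain ⟨C, B, A, hp, hB, hA⟩ := sq_decomp ℓ G J hdec _ h
  have hAq : A ∈ quo J ℓ := Ideal.mul_le_left hA
  have hφℓ : φ ℓ = 0 := by
    rw [← RingHom.mem_ker, hker]; exact Ideal.mem_span_singleton_self ℓ
  have hGq : G ∈ quo J ℓ := le_quo J ℓ hGJ
  suffices h1 : (1 : R) ∈ quo J ℓ by simpa [mem_quo] using h1
  by_cases hG : φ G = 0
  · have hG' := hG0 hG
    subst hG'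
    have : ℓ ^ 2 * 1 = ℓ ^ 2 * A := by linear_combination hp
    have hA1 : 1 = A := mul_left_cancel₀ (pow_ne_zero 2 hℓ) this
    rw [hA1]; exact hAq
  · -- φ C = 0
    have e1 := congrArg φ hp
    simp only [map_add, map_mul, map_pow, hφℓ] at e1
    have hC : φ C = 0 := by
      have : φ G ^ 2 * φ C = 0 := by
        have := e1.symm; simpa using this
      rcases mul_eq_zero.1 this with h' | h'
      · exact absurd ((pow_eq_zero_iff two_ne_zero).1 h') hG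
      · exact h'
    have hCk : C ∈ Ideal.span {ℓ} := by rw [← hker]; exact hC
    obtain ⟨C', hC'⟩ := Ideal.mem_span_singleton'.1 hCk
    have e2 : ℓ * ℓ = ℓ * (G ^ 2 * C' + G * B + ℓ * A) := by
      rw [← hC'] at hp; linear_combination hp
    have e3 : ℓ = G ^ 2 * C' + G * B + ℓ * A := mul_left_cancel₀ hℓ e2
    have e4 := congrArg φ e3
    simp only [map_add, map_mul, map_pow, hφℓ] at e4
    have hD : φ (G * C' + B) = 0 := by
      have : φ G * φ (G * C' + B) = 0 := by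
        rw [map_add, map_mul]; linear_combination -e4
      rcases mul_eq_zero.1 this with h' | h'
      · exact absurd h' hG
      · exact h'
    have hDk : G * C' + B ∈ Ideal.span {ℓ} := by rw [← hker]; exact hD
    obtain ⟨D, hD'⟩ := Ideal.mem_span_singleton'.1 hDk
    have e5 : ℓ * 1 = ℓ * (G * D + A) := by linear_combination e3 - G * hD'
    have e6 : 1 = G * D + A := mul_left_cancel₀ hℓ e5
    rw [e6]
    exact (quo J ℓ).add_mem ((quo J ℓ).mul_mem_right _ hGq) hAq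

omit [IsPrincipalIdealRing P] [IsDomain R] in
/-- If `ℓ ∈ J`, `p ∈ J²` and `φ p = 0` then `p = ℓ p₁` with `p₁ ∈ J`. -/
theorem factor_of_mem_sq (φ : R →+* P) (ℓ G : R) {J : Ideal R} (hℓJ : ℓ ∈ J) (hGJ : G ∈ J)
    (hker : RingHom.ker φ = Ideal.span {ℓ}) (hG0 : φ G = 0 → G = 0)
    (hdec : ∀ g ∈ J, ∃ c h, g = c * G + ℓ * h ∧ h ∈ quo J ℓ)
    (p : R) (hp : p ∈ J * J) (hφp : φ p = 0) : ∃ p₁ ∈ J, p = ℓ * p₁ := by
  obtain ⟨C, B, A, hp, -, -⟩ := sq_decomp ℓ G J hdec _ hp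
  have hφℓ : φ ℓ = 0 := by
    rw [← RingHom.mem_ker, hker]; exact Ideal.mem_span_singleton_self ℓ
  by_cases hG : φ G = 0
  · have hG' := hG0 hG
    subst hG'
    exact ⟨ℓ * A, J.mul_mem_right _ hℓJ, by rw [hp]; ring⟩
  · have e1 := congrArg φ hp
    simp only [map_add, map_mul, map_pow, hφℓ, hφp] at e1
    have hC : φ C = 0 := by
      have : φ G ^ 2 * φ C = 0 := by
        have := e1.symm; simpa using this
      rcases mul_eq_zero.1 this with h' | h'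
      · exact absurd ((pow_eq_zero_iff two_ne_zero).1 h') hG
      · exact h'
    have hCk : C ∈ Ideal.span {ℓ} := by rw [← hker]; exact hC
    obtain ⟨C', hC'⟩ := Ideal.mem_span_singleton'.1 hCk
    refine ⟨G ^ 2 * C' + G * B + ℓ * A, ?_, by rw [hp, ← hC']; ring⟩
    refine J.add_mem (J.add_mem ?_ (J.mul_mem_right _ hGJ)) (J.mul_mem_right _ hℓJ)
    rw [pow_two, mul_assoc]; exact J.mul_mem_right _ hGJ

end Abstract

end Groth.Agent.Quad9
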