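import Mathlib
import Groth.Agent.Lib.Quad1_helper9

/-!
# Linear coordinates in `K[x,y]` (helper9)

For a non-constant linear form `ℓ = α + βx + γy` we construct the surjection
`K[x,y] → K[t]` with kernel `(ℓ)` and record degree bounds.
-/

namespace Groth.Agent.Quad9

open MvPolynomial

section Concrete

variable {K : Type*} [Field K]

/-- the linear form `α + βx + γy` -/
noncomputable def lin (α β γ : K) : MvPolynomial (Fin 2) K := C α + C β * X 0 + C γ * X 1

/-- data of a parametrization of the line `ℓ = 0` -/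
structure Param (α β γ : K) where
  x₀ : K
  y₀ : K
  β' : K
  γ' : K
  h0 : α + β * x₀ + γ * y₀ = 0
  h1 : β' * γ - γ' * β = 1

theorem exists_param (α β γ : K) (h : β ≠ 0 ∨ γ ≠ 0) : Nonempty (Param α β γ) := by
  by_cases hγ : γ = 0
  · have hβ : β ≠ 0 := by tauto
    exact ⟨⟨-α / β, 0, 0, -1 / β, by field_simp; ring, by field_simp; ring⟩⟩
  · exact ⟨⟨0, -α / γ, 1 / γ, 0, by field_simp; ring, by field_simp; ring⟩⟩

variable {α β γ : K}

/-- restriction to the line -/
noncomputable def Param.φ (D : Param α β γ) : MvPolynomial (Fin 2) K →ₐ[K] Polynomial K :=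
  aeval ![Polynomial.C D.x₀ + Polynomial.C γ * Polynomial.X,
    Polynomial.C D.y₀ - Polynomial.C β * Polynomial.X]

/-- a section -/
noncomputable def Param.ψ (D : Param α β γ) : Polynomial K →ₐ[K] MvPolynomial (Fin 2) K :=
  Polynomial.aeval (C D.β' * (X 0 - C D.x₀) + C D.γ' * (X 1 - C D.y₀))

theorem Param.φ_X0 (D : Param α β γ) :
    D.φ (X 0) = Polynomial.C D.x₀ + Polynomial.C γ * Polynomial.X := by
  simp [Param.φ]

theorem Param.φ_X1 (D : Param α β γ) :
    D.φ (X 1) = Polynomial.C D.y₀ - Polynomial.C β * Polynomial.X := by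
  simp [Param.φ]

theorem Param.φ_C (D : Param α β γ) (c : K) : D.φ (C c) = Polynomial.C c := by
  simp [Param.φ]

theorem Param.φ_lin (D : Param α β γ) : D.φ (lin α β γ) = 0 := by
  have h0 := congrArg Polynomial.C D.h0
  simp only [map_add, map_mul, map_zero] at h0
  simp only [lin, map_add, map_mul, D.φ_X0, D.φ_X1, D.φ_C]
  linear_combination h0

theorem Param.φ_ψ (D : Param α β γ) (p : Polynomial K) : D.φ (D.ψ p) = p := by
  have : (D.φ.comp D.ψ) = AlgHom.id K _ := by
    apply Polynomial.algHom_ext
    have h1 := congrArg Polynomial.C D.h1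
    simp only [map_sub, map_mul, map_one] at h1
    simp only [AlgHom.comp_apply, Param.ψ, Polynomial.aeval_X, map_add, map_mul, map_sub,
      D.φ_X0, D.φ_X1, D.φ_C, AlgHom.id_apply]
    linear_combination Polynomial.X * h1
  exact congrArg (fun f => f p) this

theorem Param.φ_surjective (D : Param α β γ) : Function.Surjective D.φ :=
  fun p => ⟨D.ψ p, D.φ_ψ p⟩

theorem Param.sub_ψφ_mem (D : Param α β γ) (p : MvPolynomial (Fin 2) K) :
    D.ψ (D.φ p) - p ∈ Ideal.span {lin α β γ} := by
  have key : (Ideal.Quotient.mkₐ K (Ideal.span {lin α β γ})).comp (D.ψ.comp D.φ) =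
      Ideal.Quotient.mkₐ K (Ideal.span {lin α β γ}) := by
    apply MvPolynomial.algHom_ext
    intro i
    simp only [AlgHom.comp_apply, Ideal.Quotient.mkₐ_eq_mk]
    rw [Ideal.Quotient.eq, Ideal.mem_span_singleton']
    have hC0 := congrArg (C (σ := Fin 2)) D.h0
    have hC1 := congrArg (C (σ := Fin 2)) D.h1
    simp only [map_add, map_mul, map_zero, map_sub, map_one] at hC0 hC1
    fin_cases i
    · refine ⟨C D.γ', ?_⟩
      simp only [Fin.zero_eta, D.φ_X0, map_add, map_mul, Param.ψ, Polynomial.aeval_X,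
        Polynomial.aeval_C, lin, algebraMap_eq]
      linear_combination C D.γ' * hC0 + (C D.x₀ - X 0) * hC1
    · refine ⟨-C D.β', ?_⟩
      simp only [Fin.mk_one, D.φ_X1, map_sub, map_mul, Param.ψ, Polynomial.aeval_X,
        Polynomial.aeval_C, lin, algebraMap_eq]
      linear_combination -C D.β' * hC0 + (C D.y₀ - X 1) * hC1
  have := congrArg (fun f => f p) key
  simp only [AlgHom.comp_apply, Ideal.Quotient.mkₐ_eq_mk] at this
  exact Ideal.Quotient.eq.1 this

theorem Param.ker_φ (D : Param α β γ) :
    RingHom.ker (D.φ : MvPolynomial (Fin 2) K →+* Polynomial K) = Ideal.span {lin α β γ} := by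
  apply le_antisymm
  · intro p hp
    have hp' : D.φ p = 0 := hp
    have := D.sub_ψφ_mem p
    rw [hp', map_zero, zero_sub] at this
    simpa using (Ideal.span {lin α β γ}).neg_mem this
  · rw [Ideal.span_le, Set.singleton_subset_iff]
    exact D.φ_lin

theorem natDegree_aeval_le (f : Fin 2 → Polynomial K) (hf : ∀ i, (f i).natDegree ≤ 1)
    (p : MvPolynomial (Fin 2) K) : (aeval f p).natDegree ≤ p.totalDegree := by
  rw [aeval_def, eval₂_eq']
  refine Polynomial.natDegree_sum_le_of_forall_le _ _ (fun d hd => ?_)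
  refine (Polynomial.natDegree_mul_le).trans ?_
  have h1 : (algebraMap K (Polynomial K) (coeff d p)).natDegree = 0 := by
    rw [Polynomial.algebraMap_apply, Algebra.algebraMap_self_apply]
    exact Polynomial.natDegree_C _
  rw [h1, zero_add]
  refine (Polynomial.natDegree_prod_le _ _).trans ?_
  have h2 : ∀ i ∈ (Finset.univ : Finset (Fin 2)), (f i ^ d i).natDegree ≤ d i := by
    intro i _
    refine (Polynomial.natDegree_pow_le).trans ?_
    calc d i * (f i).natDegree ≤ d i * 1 := Nat.mul_le_mul_left _ (hf i)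
      _ = d i := mul_one _
  refine (Finset.sum_le_sum h2).trans ?_
  have := le_totalDegree hd
  rwa [Finsupp.sum_fintype _ _ (fun _ => rfl)] at this

theorem Param.natDegree_φ_le (D : Param α β γ) (p : MvPolynomial (Fin 2) K) :
    (D.φ p).natDegree ≤ p.totalDegree := by
  apply natDegree_aeval_le
  intro i
  fin_cases i
  · simp only [Fin.zero_eta, Matrix.cons_val_zero]
    refine (Polynomial.natDegree_add_le _ _).trans (max_le (by simp) ?_)
    exact (Polynomial.natDegree_C_mul_le _ _).trans (by simp)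
  · simp only [Fin.mk_one, Matrix.cons_val_one, Matrix.cons_val_fin_one]
    refine (Polynomial.natDegree_sub_le _ _).trans (max_le (by simp) ?_)
    exact (Polynomial.natDegree_C_mul_le _ _).trans (by simp)

theorem coeff_lin_zero (α β γ : K) : coeff 0 (lin α β γ) = α := by
  simp [lin, coeff_X, coeff_C_mul]

theorem coeff_lin_one (α β γ : K) : coeff (Finsupp.single 0 1) (lin α β γ) = β := by
  simp [lin, coeff_X, coeff_C_mul, Finsupp.single_eq_single_iff]
  intro h; exact absurd h.symm (by simp [Finsupp.single_eq_zero])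

theorem coeff_lin_two (α β γ : K) : coeff (Finsupp.single 1 1) (lin α β γ) = γ := by
  simp [lin, coeff_X, coeff_C_mul, Finsupp.single_eq_single_iff]
  intro h; exact absurd h.symm (by simp [Finsupp.single_eq_zero])

theorem lin_ne_zero (h : β ≠ 0 ∨ γ ≠ 0) : lin α β γ ≠ 0 := by
  intro h0
  rcases h with h | h
  · apply h; rw [← coeff_lin_one α β γ, h0, coeff_zero]
  · apply h; rw [← coeff_lin_two α β γ, h0, coeff_zero]

theorem one_le_totalDegree_lin (h : β ≠ 0 ∨ γ ≠ 0) : 1 ≤ (lin α β γ).totalDegree := by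
  rcases h with h | h
  · have hm : Finsupp.single (0 : Fin 2) 1 ∈ (lin α β γ).support := by
      rw [mem_support_iff, coeff_lin_one]; exact h
    simpa using le_totalDegree hm
  · have hm : Finsupp.single (1 : Fin 2) 1 ∈ (lin α β γ).support := by
      rw [mem_support_iff, coeff_lin_two]; exact h
    simpa using le_totalDegree hm

theorem totalDegree_le_of_lin_mul (h : β ≠ 0 ∨ γ ≠ 0) (c : MvPolynomial (Fin 2) K) (hc : c ≠ 0) :
    c.totalDegree + 1 ≤ (lin α β γ * c).totalDegree := by
  rw [totalDegree_mul_of_isDomain (lin_ne_zero h) hc]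
  have := one_le_totalDegree_lin (α := α) h
  omega

end Concrete

end Groth.Agent.Quad9
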