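import Mathlib
import Groth.Agent.Lib.Quad2_helper9

/-!
# Case A of S1601: a linear form in the ideal (helper9)
-/

namespace Groth.Agent.Quad9

open MvPolynomial

section CaseA

variable {K : Type*} [Field K]

theorem finite_of_const (I : Ideal (MvPolynomial (Fin 2) K)) (h : ∀ p, ∃ c : K, p - C c ∈ I) :
    Module.Finite K (MvPolynomial (Fin 2) K ⧸ I) ∧
      Module.finrank K (MvPolynomial (Fin 2) K ⧸ I) ≤ 1 := by
  have key : ∀ w : MvPolynomial (Fin 2) K ⧸ I, ∃ c : K, c • (Ideal.Quotient.mk I 1) = w := by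
    intro w
    obtain ⟨p, rfl⟩ := Ideal.Quotient.mk_surjective w
    obtain ⟨c, hc⟩ := h p
    refine ⟨c, ?_⟩
    have h1 : c • (Ideal.Quotient.mk I 1) = Ideal.Quotient.mk I (C c) := by
      have : (C c : MvPolynomial (Fin 2) K) = c • 1 := by rw [smul_eq_C_mul, mul_one]
      rw [this]; rfl
    rw [h1]
    exact (Ideal.Quotient.eq.2 hc).symm
  refine ⟨?_, finrank_le_one _ key⟩
  exact Module.Finite.of_surjective (LinearMap.toSpanSingleton K _ (Ideal.Quotient.mk I 1))
    (fun w => by obtain ⟨c, hc⟩ := key w; exact ⟨c, by simpa using hc⟩)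

variable {α β γ : K}

theorem gen_degree (I : Ideal (MvPolynomial (Fin 2) K))
    (hI : ¬ (Module.Finite K (MvPolynomial (Fin 2) K ⧸ I) ∧
      Module.finrank K (MvPolynomial (Fin 2) K ⧸ I) ≤ 1))
    (D : Param α β γ) (hℓ : lin α β γ ∈ I) (G : MvPolynomial (Fin 2) K) (hGJ : G ∈ I) :
    D.φ G = 0 ∨ 2 ≤ (D.φ G).natDegree := by
  by_contra hcon
  push Not at hcon
  obtain ⟨hF0, hFd⟩ := hcon
  apply hI
  apply finite_of_const
  intro p
  have hspan : Ideal.span {lin α β γ} ≤ I := by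
    rw [Ideal.span_le, Set.singleton_subset_iff]; exact hℓ
  set F := D.φ G with hFdef
  have hdm : F * (D.φ p / F) + D.φ p % F = D.φ p := EuclideanDomain.div_add_mod _ _
  have hdeg : (D.φ p % F).degree < F.degree := Polynomial.degree_mod_lt _ hF0
  have hdeg' : (D.φ p % F).degree ≤ 0 := by
    have h1 : F.degree ≤ 1 := by
      refine (Polynomial.degree_le_natDegree).trans ?_
      exact_mod_cast (by omega : F.natDegree ≤ 1)
    have h2 : (D.φ p % F).degree < 1 := lt_of_lt_of_le hdeg h1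
    exact Nat.WithBot.lt_one_iff_le_zero.1 h2
  have hr := Polynomial.eq_C_of_degree_le_zero hdeg'
  refine ⟨(D.φ p % F).coeff 0, ?_⟩
  have hψF : D.ψ F ∈ I := by
    have := hspan (D.sub_ψφ_mem G)
    have h2 := I.add_mem this hGJ
    simpa [hFdef] using h2
  have e : p - C ((D.φ p % F).coeff 0) = -(D.ψ (D.φ p) - p) + D.ψ F * D.ψ (D.φ p / F) := by
    have e1 : D.ψ (D.φ p) = D.ψ F * D.ψ (D.φ p / F) + C ((D.φ p % F).coeff 0) := by
      conv_lhs => rw [← hdm, hr]
      rw [map_add, map_mul]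
      congr 1
      simp [Param.ψ]
    rw [e1]; ring
  rw [e]
  exact I.add_mem (I.neg_mem (hspan (D.sub_ψφ_mem p))) (I.mul_mem_right _ hψF)

theorem caseA (I : Ideal (MvPolynomial (Fin 2) K))
    (hI : ¬ (Module.Finite K (MvPolynomial (Fin 2) K ⧸ I) ∧
      Module.finrank K (MvPolynomial (Fin 2) K ⧸ I) ≤ 1))
    (α β γ : K) (h : β ≠ 0 ∨ γ ≠ 0) (hℓ : lin α β γ ∈ I) :
    (∀ p ∈ I, p.totalDegree ≤ 1 → ∃ c, p = C c * lin α β γ) ∧
    (∀ p ∈ I * I, p.totalDegree ≤ 2 → ∃ j, p = C j * lin α β γ ^ 2) := by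
  obtain ⟨D⟩ := exists_param α β γ h
  obtain ⟨G, hGJ, hmap, hG0, hdec⟩ :=
    exists_gen (D.φ : MvPolynomial (Fin 2) K →+* Polynomial K) D.φ_surjective (lin α β γ) D.ker_φ I
  have hF := gen_degree I hI D hℓ G hGJ
  have hlin : ∀ p ∈ I, p.totalDegree ≤ 1 → ∃ c, p = C c * lin α β γ := by
    intro p hp hdeg
    have h1 : D.φ G ∣ D.φ p := by
      have : D.φ p ∈ Ideal.map (D.φ : MvPolynomial (Fin 2) K →+* Polynomial K) I :=
        Ideal.mem_map_of_mem _ hp
      rw [hmap] at this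
      exact Ideal.mem_span_singleton.1 this
    have h2 : D.φ p = 0 := by
      rcases hF with hF | hF
      · rw [hF] at h1; exact zero_dvd_iff.1 h1
      · apply Polynomial.eq_zero_of_dvd_of_natDegree_lt h1
        have := D.natDegree_φ_le p; omega
    have h3 : p ∈ Ideal.span {lin α β γ} := by rw [← D.ker_φ]; exact h2
    obtain ⟨c', hc'⟩ := Ideal.mem_span_singleton'.1 h3
    by_cases hc0 : c' = 0
    · exact ⟨0, by rw [← hc', hc0]; simp⟩
    · have := totalDegree_le_of_lin_mul (α := α) h c' hc0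
      rw [mul_comm, hc'] at this
      have h4 : c'.totalDegree = 0 := by omega
      rw [totalDegree_eq_zero_iff_eq_C] at h4
      exact ⟨coeff 0 c', by rw [← hc']; congr 1⟩
  refine ⟨hlin, ?_⟩
  intro p hp hdeg
  have h1 : D.φ G * D.φ G ∣ D.φ p := by
    have : D.φ p ∈ Ideal.map (D.φ : MvPolynomial (Fin 2) K →+* Polynomial K) (I * I) :=
      Ideal.mem_map_of_mem _ hp
    rw [Ideal.map_mul, hmap, Ideal.span_singleton_mul_span_singleton] at this
    exact Ideal.mem_span_singleton.1 this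
  have h2 : D.φ p = 0 := by
    rcases hF with hF | hF
    · rw [hF, mul_zero] at h1; exact zero_dvd_iff.1 h1
    · have hF0 : D.φ G ≠ 0 := by
        intro h0; rw [h0] at hF; simp at hF
      apply Polynomial.eq_zero_of_dvd_of_natDegree_lt h1
      rw [Polynomial.natDegree_mul hF0 hF0]
      have := D.natDegree_φ_le p; omega
  obtain ⟨p₁, hp₁, e⟩ := factor_of_mem_sq (D.φ : MvPolynomial (Fin 2) K →+* Polynomial K)
    (lin α β γ) G hℓ hGJ D.ker_φ hG0 hdec p hp h2
  by_cases hp0 : p₁ = 0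
  · exact ⟨0, by rw [e, hp0]; simp⟩
  · have := totalDegree_le_of_lin_mul (α := α) h p₁ hp0
    rw [← e] at this
    obtain ⟨c, hc⟩ := hlin p₁ hp₁ (by omega)
    exact ⟨c, by rw [e, hc]; ring⟩

end CaseA

end Groth.Agent.Quad9
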