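import Mathlib
import Groth.Agent.Lib.Quad3_helper9

/-!
# Case B of S1601 and the main theorem (helper9)
-/

namespace Groth.Agent.Quad9

open MvPolynomial

theorem deriv_mem {R A : Type*} [CommRing R] [CommRing A] [Algebra R A] (D : Derivation R A A)
    (J : Ideal A) (p : A) (hp : p ∈ J * J) : D p ∈ J := by
  induction hp using Submodule.mul_induction_on' with
  | mem_mul_mem a ha b hb =>
    rw [D.leibniz, smul_eq_mul, smul_eq_mul]
    exact J.add_mem (J.mul_mem_right _ ha) (J.mul_mem_right _ hb)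
  | add x _ y _ hx hy => rw [map_add]; exact J.add_mem hx hy

section Lam

variable {κ K : Type*} [Field κ] [Field K] [Algebra κ K]

/-- coefficientwise application of a `κ`-linear functional -/
noncomputable def Lam (lam : K →ₗ[κ] κ) (P : MvPolynomial (Fin 2) K) : MvPolynomial (Fin 2) κ :=
  AddMonoidAlgebra.map lam.toAddMonoidHom P

theorem coeff_Lam (lam : K →ₗ[κ] κ) (P : MvPolynomial (Fin 2) K) (m : Fin 2 →₀ ℕ) :
    coeff m (Lam lam P) = lam (coeff m P) := by
  simp [Lam, coeff]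

theorem Lam_add (lam : K →ₗ[κ] κ) (P Q : MvPolynomial (Fin 2) K) :
    Lam lam (P + Q) = Lam lam P + Lam lam Q := by
  ext m; simp [coeff_Lam]

theorem Lam_zero (lam : K →ₗ[κ] κ) : Lam lam 0 = 0 := by
  ext m; simp [coeff_Lam]

theorem Lam_C (lam : K →ₗ[κ] κ) (v : K) : Lam lam (C v) = C (lam v) := by
  ext m; rw [coeff_Lam, coeff_C, coeff_C]; split_ifs <;> simp

theorem Lam_map_mul (lam : K →ₗ[κ] κ) (p : MvPolynomial (Fin 2) κ) (P : MvPolynomial (Fin 2) K) :
    Lam lam (map (algebraMap κ K) p * P) = p * Lam lam P := by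
  classical
  ext m
  rw [coeff_Lam, coeff_mul, coeff_mul, map_sum]
  refine Finset.sum_congr rfl (fun x _ => ?_)
  rw [coeff_map, coeff_Lam, ← Algebra.smul_def, map_smul, smul_eq_mul]

theorem Lam_mem (lam : K →ₗ[κ] κ) (I : Ideal (MvPolynomial (Fin 2) κ)) (P : MvPolynomial (Fin 2) K)
    (hP : P ∈ I.map (map (algebraMap κ K))) : Lam lam P ∈ I := by
  have key : ∀ Q : MvPolynomial (Fin 2) K, Lam lam (Q * P) ∈ I := by
    unfold Ideal.map at hP
    induction hP using Submodule.span_induction with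
    | mem x hx =>
      obtain ⟨p, hp, rfl⟩ := hx
      intro Q
      rw [mul_comm, Lam_map_mul]
      exact I.mul_mem_right _ hp
    | zero => intro Q; rw [mul_zero, Lam_zero]; exact I.zero_mem
    | add x y _ _ hx hy => intro Q; rw [mul_add, Lam_add]; exact I.add_mem (hx Q) (hy Q)
    | smul a x _ hx => intro Q; rw [smul_eq_mul, ← mul_assoc]; exact hx (Q * a)
  simpa using key 1

theorem Lam_lin (lam : K →ₗ[κ] κ) (α β γ : K) :
    Lam lam (lin α β γ) = lin (lam α) (lam β) (lam γ) := by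
  have e : lin α β γ = C α + map (algebraMap κ K) (X 0) * C β + map (algebraMap κ K) (X 1) * C γ := by
    simp [lin, mul_comm]
  rw [e, Lam_add, Lam_add, Lam_map_mul, Lam_map_mul, Lam_C, Lam_C, Lam_C, lin]
  ring

end Lam


section CaseB

variable {κ : Type*} [Field κ] {K : Type*} [Field K] [Algebra κ K]

theorem totalDegree_lin_le (α β γ : κ) : (lin α β γ).totalDegree ≤ 1 := by
  unfold lin
  refine (totalDegree_add _ _).trans (max_le ((totalDegree_add _ _).trans (max_le ?_ ?_)) ?_)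
  · simp
  · exact (totalDegree_mul _ _).trans (by simp)
  · exact (totalDegree_mul _ _).trans (by simp)

theorem prop_sq (u v : K) (s t x y : κ) (hu : u ^ 2 = algebraMap κ K x)
    (hv : v ^ 2 = algebraMap κ K y) (h : s • u = t • v) : s ^ 2 * x = t ^ 2 * y := by
  apply (algebraMap κ K).injective
  rw [map_mul, map_mul, map_pow, map_pow, ← hu, ← hv, ← mul_pow, ← mul_pow, ← Algebra.smul_def,
    ← Algebra.smul_def, h]

theorem dual_eq (u v : K) (s t : κ) (h : ∀ lam : K →ₗ[κ] κ, s * lam u = t * lam v) :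
    s • u = t • v := by
  rw [← sub_eq_zero, ← Module.forall_dual_apply_eq_zero_iff κ]
  intro lam
  rw [map_sub, map_smul, map_smul, smul_eq_mul, smul_eq_mul, h lam, sub_self]

theorem caseB (I : Ideal (MvPolynomial (Fin 2) κ))
    (hI : ¬ (Module.Finite κ (MvPolynomial (Fin 2) κ ⧸ I) ∧
      Module.finrank κ (MvPolynomial (Fin 2) κ ⧸ I) ≤ 1))
    (a d f : κ) (h2 : (2 : κ) = 0) (hdf : d ≠ 0 ∨ f ≠ 0)
    (hmem : (C a + C d * X 0 ^ 2 + C f * X 1 ^ 2 : MvPolynomial (Fin 2) κ) ∈ I * I) :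
    ∃ j g h i : κ, a = j * g ^ 2 ∧ d = j * h ^ 2 ∧ f = j * i ^ 2 := by
  let K := AlgebraicClosure κ
  obtain ⟨α, hα⟩ := IsAlgClosed.exists_pow_nat_eq (algebraMap κ K a) (by norm_num : 0 < 2)
  obtain ⟨β, hβ⟩ := IsAlgClosed.exists_pow_nat_eq (algebraMap κ K d) (by norm_num : 0 < 2)
  obtain ⟨γ, hγ⟩ := IsAlgClosed.exists_pow_nat_eq (algebraMap κ K f) (by norm_num : 0 < 2)
  have h2K : (2 : MvPolynomial (Fin 2) K) = 0 := by
    have h2' : (2 : K) = 0 := by
      have := congrArg (algebraMap κ K) h2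
      rwa [map_ofNat, map_zero] at this
    have := congrArg (C (σ := Fin 2)) h2'
    rwa [map_ofNat, map_zero] at this
  have hβγ : β ≠ 0 ∨ γ ≠ 0 := by
    rcases hdf with h | h
    · left; intro h0; apply h
      apply (algebraMap κ K).injective
      rw [← hβ, h0]; simp
    · right; intro h0; apply h
      apply (algebraMap κ K).injective
      rw [← hγ, h0]; simp
  have hsq : lin α β γ ^ 2 =
      map (algebraMap κ K) (C a + C d * X 0 ^ 2 + C f * X 1 ^ 2 : MvPolynomial (Fin 2) κ) := by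
    simp only [lin, map_add, map_mul, map_pow, map_C, map_X, ← hα, ← hβ, ← hγ]
    linear_combination (C α * C β * X 0 + C α * C γ * X 1 + C β * C γ * X 0 * X 1) * h2K
  have hmemK : lin α β γ ^ 2 ∈ (I.map (map (algebraMap κ K))) ^ 2 := by
    rw [hsq, pow_two, ← Ideal.map_mul]
    exact Ideal.mem_map_of_mem _ hmem
  obtain ⟨D⟩ := exists_param α β γ hβγ
  have hℓK : lin α β γ ∈ I.map (map (algebraMap κ K)) :=
    mem_of_sq_mem_sq (D.φ : MvPolynomial (Fin 2) K →+* Polynomial K) D.φ_surjective _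
      (lin_ne_zero hβγ) D.ker_φ _ hmemK
  have hΛ : ∀ lam : K →ₗ[κ] κ, lin (lam α) (lam β) (lam γ) ∈ I := by
    intro lam
    have := Lam_mem lam I _ hℓK
    rwa [Lam_lin] at this
  -- a functional not killing both β and γ
  obtain ⟨lam₀, h₀⟩ : ∃ lam₀ : K →ₗ[κ] κ, lam₀ β ≠ 0 ∨ lam₀ γ ≠ 0 := by
    rcases hβγ with h | h
    · obtain ⟨l, hl⟩ := Module.Projective.exists_dual_ne_zero κ h
      exact ⟨l, Or.inl hl⟩
    · obtain ⟨l, hl⟩ := Module.Projective.exists_dual_ne_zero κ h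
      exact ⟨l, Or.inr hl⟩
  have hprop : ∀ lam : K →ₗ[κ] κ, ∃ c : κ, lam α = c * lam₀ α ∧ lam β = c * lam₀ β ∧
      lam γ = c * lam₀ γ := by
    intro lam
    obtain ⟨c, hc⟩ := (caseA I hI (lam₀ α) (lam₀ β) (lam₀ γ) h₀ (hΛ lam₀)).1 _ (hΛ lam)
      (totalDegree_lin_le _ _ _)
    refine ⟨c, ?_, ?_, ?_⟩
    · have := congrArg (coeff 0) hc
      rwa [coeff_lin_zero, coeff_C_mul, coeff_lin_zero] at this
    · have := congrArg (coeff (Finsupp.single 0 1)) hc
      rwa [coeff_lin_one, coeff_C_mul, coeff_lin_one] at this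
    · have := congrArg (coeff (Finsupp.single 1 1)) hc
      rwa [coeff_lin_two, coeff_C_mul, coeff_lin_two] at this
  rcases h₀ with h₀ | h₀
  · -- everything proportional to β
    have e1 : (lam₀ β) • α = (lam₀ α) • β := by
      apply dual_eq
      intro lam
      obtain ⟨c, h1, h2, -⟩ := hprop lam
      rw [h1, h2]; ring
    have e2 : (lam₀ β) • γ = (lam₀ γ) • β := by
      apply dual_eq
      intro lam
      obtain ⟨c, -, h2, h3⟩ := hprop lam
      rw [h2, h3]; ring
    have p1 := prop_sq α β _ _ a d hα hβ e1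
    have p2 := prop_sq γ β _ _ f d hγ hβ e2
    refine ⟨d / (lam₀ β) ^ 2, lam₀ α, lam₀ β, lam₀ γ, ?_, ?_, ?_⟩
    · field_simp; linear_combination p1
    · field_simp
    · field_simp; linear_combination p2
  · have e1 : (lam₀ γ) • α = (lam₀ α) • γ := by
      apply dual_eq
      intro lam
      obtain ⟨c, h1, -, h3⟩ := hprop lam
      rw [h1, h3]; ring
    have e2 : (lam₀ γ) • β = (lam₀ β) • γ := by
      apply dual_eq
      intro lam
      obtain ⟨c, -, h2, h3⟩ := hprop lam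
      rw [h2, h3]; ring
    have p1 := prop_sq α γ _ _ a f hα hγ e1
    have p2 := prop_sq β γ _ _ d f hβ hγ e2
    refine ⟨f / (lam₀ γ) ^ 2, lam₀ α, lam₀ β, lam₀ γ, ?_, ?_, ?_⟩
    · field_simp; linear_combination p1
    · field_simp; linear_combination p2
    · field_simp

end CaseB

section Main

universe u

theorem quadric_main (κ : Type u) [Field κ] (I : Ideal (MvPolynomial (Fin 2) κ))
    (hI : ¬ (Module.Finite κ (MvPolynomial (Fin 2) κ ⧸ I) ∧
      Module.finrank κ (MvPolynomial (Fin 2) κ ⧸ I) ≤ 1))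
    (a b c d e f : κ)
    (hmem : (C a + C b * X 0 + C c * X 1 + C d * X 0 ^ 2 + C e * X 0 * X 1 + C f * X 1 ^ 2 :
      MvPolynomial (Fin 2) κ) ∈ I ^ 2) :
    ∃ j g h i : κ, (C a + C b * X 0 + C c * X 1 + C d * X 0 ^ 2 + C e * X 0 * X 1 + C f * X 1 ^ 2 :
      MvPolynomial (Fin 2) κ) = C j * (C g + C h * X 0 + C i * X 1) ^ 2 := by
  set q : MvPolynomial (Fin 2) κ :=
    C a + C b * X 0 + C c * X 1 + C d * X 0 ^ 2 + C e * X 0 * X 1 + C f * X 1 ^ 2 with hq
  have hq2 : q ∈ I * I := by rwa [pow_two] at hmem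
  have hdeg : q.totalDegree ≤ 2 := by
    rw [hq]
    refine (totalDegree_add _ _).trans (max_le ((totalDegree_add _ _).trans (max_le
      ((totalDegree_add _ _).trans (max_le ((totalDegree_add _ _).trans (max_le
      ((totalDegree_add _ _).trans (max_le ?_ ?_)) ?_)) ?_)) ?_)) ?_)
    · simp
    · exact (totalDegree_mul _ _).trans (by simp)
    · exact (totalDegree_mul _ _).trans (by simp)
    · exact (totalDegree_mul _ _).trans (by simp)
    · refine (totalDegree_mul _ _).trans ?_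
      have := totalDegree_mul (C e) (X 0 : MvPolynomial (Fin 2) κ)
      simp only [totalDegree_C, totalDegree_X, zero_add] at this ⊢
      omega
    · exact (totalDegree_mul _ _).trans (by simp)
  have hd0 : pderiv 0 q = lin b (2 * d) e := by
    simp only [hq, lin, map_add, Derivation.leibniz, pderiv_C, pderiv_X, Derivation.leibniz_pow,
      map_mul, map_ofNat]
    simp
    ring
  have hd1 : pderiv 1 q = lin c e (2 * f) := by
    simp only [hq, lin, map_add, Derivation.leibniz, pderiv_C, pderiv_X, Derivation.leibniz_pow,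
      map_mul, map_ofNat]
    simp
    ring
  have hm0 : lin b (2 * d) e ∈ I := hd0 ▸ deriv_mem (pderiv 0) I q hq2
  have hm1 : lin c e (2 * f) ∈ I := hd1 ▸ deriv_mem (pderiv 1) I q hq2
  have hItop : ∀ u : κ, u ≠ 0 → C u ∉ I := by
    intro u hu hmemu
    apply hI
    apply finite_of_const
    intro p
    refine ⟨0, ?_⟩
    have h1 : (1 : MvPolynomial (Fin 2) κ) ∈ I := by
      have := I.mul_mem_left (C u⁻¹) hmemu
      rwa [← C_mul, inv_mul_cancel₀ hu, C_1] at this
    have := I.mul_mem_left (p - C 0) h1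
    rwa [mul_one] at this
  by_cases hA0 : (2 * d ≠ 0 ∨ e ≠ 0)
  · obtain ⟨j, hj⟩ := (caseA I hI b (2 * d) e hA0 hm0).2 q hq2 hdeg
    exact ⟨j, b, 2 * d, e, hj⟩
  by_cases hA1 : (e ≠ 0 ∨ 2 * f ≠ 0)
  · obtain ⟨j, hj⟩ := (caseA I hI c e (2 * f) hA1 hm1).2 q hq2 hdeg
    exact ⟨j, c, e, 2 * f, hj⟩
  push Not at hA0 hA1
  obtain ⟨h2d, he⟩ := hA0
  obtain ⟨-, h2f⟩ := hA1
  have hb : b = 0 := by
    by_contra hb
    apply hItop b hb
    simpa [lin, h2d, he] using hm0
  have hc : c = 0 := by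
    by_contra hc
    apply hItop c hc
    simpa [lin, h2f, he] using hm1
  have hq' : q = C a + C d * X 0 ^ 2 + C f * X 1 ^ 2 := by
    rw [hq, hb, hc, he]; simp
  by_cases hdf : d = 0 ∧ f = 0
  · refine ⟨a, 1, 0, 0, ?_⟩
    rw [hq', hdf.1, hdf.2]; simp
  have h2 : (2 : κ) = 0 := by
    by_contra h2
    apply hdf
    exact ⟨(mul_eq_zero.1 h2d).resolve_left h2, (mul_eq_zero.1 h2f).resolve_left h2⟩
  have hdf' : d ≠ 0 ∨ f ≠ 0 := by
    by_contra hcon
    push Not at hcon
    exact hdf hcon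
  rw [hq'] at hq2
  obtain ⟨j, g, h, i, ha, hd, hf⟩ := caseB I hI a d f h2 hdf' hq2
  refine ⟨j, g, h, i, ?_⟩
  have h2' : (2 : MvPolynomial (Fin 2) κ) = 0 := by
    have := congrArg (C (σ := Fin 2)) h2
    rwa [map_ofNat, map_zero] at this
  rw [hq', ha, hd, hf]
  simp only [map_mul, map_pow]
  linear_combination (-(C j * (C g * C h * X 0 + C g * C i * X 1 + C h * C i * X 0 * X 1))) * h2'

end Main

end Groth.Agent.Quad9
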