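import Mathlib
import Groth.Agent.Lib.NodeFormal1_helper3

/-!
# Families of quadratic singularities: successive approximation (helper3)

For a complete Noetherian local ring `R` over a complete Noetherian local ring `Λ` with the same
residue field, elements `u, v` generating `𝔪_R` modulo `𝔪_Λ R` and a binary quadratic form
`Q = a X² + b XY + c Y²` over `Λ` with unit discriminant such that `Q(u, v) ∈ 𝔪_Λ R`, there are
`u' ≡ u`, `v' ≡ v` modulo `𝔪_Λ R` and `h ∈ 𝔪_Λ` with `Q(u', v') = h`.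

APPEND-ONLY once landed.
-/

set_option autoImplicit false
universe u

namespace Groth.Agent.Lib.QuadFamH3

open IsLocalRing Groth.Agent.Lib.NodeFormalH3

section core

variable {Λ R : Type u} [CommRing Λ] [IsLocalRing Λ] [CommRing R] [IsLocalRing R]
  [IsNoetherianRing R] [Algebra Λ R]

/-- Every element of `𝔪_Λ^n R` is of the form `c + u p + v q` with `c ∈ 𝔪_Λ^n`, `p, q ∈ 𝔪_Λ^n R`. -/
theorem decomp_pow [IsPrecomplete (maximalIdeal Λ) Λ]
    (hres : Function.Surjective ((residue R).comp (algebraMap Λ R)))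
    (hloc : (maximalIdeal Λ).map (algebraMap Λ R) ≤ maximalIdeal R)
    (u₁ v₁ : R) (hu₁m : u₁ ∈ maximalIdeal R) (hv₁m : v₁ ∈ maximalIdeal R)
    (hgen₁ : maximalIdeal R ≤ Ideal.span {u₁, v₁} ⊔ (maximalIdeal Λ).map (algebraMap Λ R))
    (n : ℕ) (e : R) (hemem : e ∈ ((maximalIdeal Λ) ^ n).map (algebraMap Λ R)) :
    ∃ c ∈ (maximalIdeal Λ) ^ n, ∃ p ∈ ((maximalIdeal Λ) ^ n).map (algebraMap Λ R),
      ∃ q ∈ ((maximalIdeal Λ) ^ n).map (algebraMap Λ R),
        e = algebraMap Λ R c + u₁ * p + v₁ * q := by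
  refine Submodule.span_induction (p := fun e _ => ∃ c ∈ (maximalIdeal Λ) ^ n,
    ∃ p ∈ ((maximalIdeal Λ) ^ n).map (algebraMap Λ R),
      ∃ q ∈ ((maximalIdeal Λ) ^ n).map (algebraMap Λ R),
        e = algebraMap Λ R c + u₁ * p + v₁ * q) ?_ ?_ ?_ ?_ hemem
  · rintro _ ⟨a, ha, rfl⟩
    exact ⟨a, ha, 0, Ideal.zero_mem _, 0, Ideal.zero_mem _, by ring⟩
  · exact ⟨0, Ideal.zero_mem _, 0, Ideal.zero_mem _, 0, Ideal.zero_mem _, by simp⟩
  · rintro x y _ _ ⟨c, hc, p, hp, q, hq, rfl⟩ ⟨c', hc', p', hp', q', hq', rfl⟩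
    exact ⟨c + c', Ideal.add_mem _ hc hc', p + p', Ideal.add_mem _ hp hp', q + q',
      Ideal.add_mem _ hq hq', by rw [map_add]; ring⟩
  · rintro r x _ ⟨c, hc, p, hp, q, hq, rfl⟩
    obtain ⟨c', p', q', hr⟩ := exists_decomp hres hloc u₁ v₁ hu₁m hv₁m hgen₁ r
    have hcm : algebraMap Λ R c ∈ ((maximalIdeal Λ) ^ n).map (algebraMap Λ R) :=
      Ideal.mem_map_of_mem _ hc
    refine ⟨c' * c, Ideal.mul_mem_left _ _ hc, p' * algebraMap Λ R c + r * p,
      Ideal.add_mem _ (Ideal.mul_mem_left _ _ hcm) (Ideal.mul_mem_left _ _ hp),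
      q' * algebraMap Λ R c + r * q,
      Ideal.add_mem _ (Ideal.mul_mem_left _ _ hcm) (Ideal.mul_mem_left _ _ hq), ?_⟩
    have hrc : r * algebraMap Λ R c =
        (algebraMap Λ R c' + u₁ * p' + v₁ * q') * algebraMap Λ R c := by rw [← hr]
    rw [smul_eq_mul, map_mul]
    linear_combination hrc

/-- One step of the approximation. -/
theorem quad_step [IsPrecomplete (maximalIdeal Λ) Λ]
    (hres : Function.Surjective ((residue R).comp (algebraMap Λ R)))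
    (hloc : (maximalIdeal Λ).map (algebraMap Λ R) ≤ maximalIdeal R)
    (a b c d' : Λ) (hd : (b ^ 2 - 4 * a * c) * d' = 1)
    (u v : R) (hu : u ∈ maximalIdeal R) (hv : v ∈ maximalIdeal R)
    (hgen : maximalIdeal R ≤ Ideal.span {u, v} ⊔ (maximalIdeal Λ).map (algebraMap Λ R))
    (n : ℕ) (hn : 1 ≤ n) (u₁ v₁ : R) (h₁ : Λ)
    (hu₁ : u₁ - u ∈ (maximalIdeal Λ).map (algebraMap Λ R))
    (hv₁ : v₁ - v ∈ (maximalIdeal Λ).map (algebraMap Λ R))
    (he : algebraMap Λ R a * u₁ ^ 2 + algebraMap Λ R b * u₁ * v₁ + algebraMap Λ R c * v₁ ^ 2 -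
      algebraMap Λ R h₁ ∈ ((maximalIdeal Λ) ^ n).map (algebraMap Λ R)) :
    ∃ (u₂ v₂ : R) (h₂ : Λ), u₂ - u₁ ∈ ((maximalIdeal Λ) ^ n).map (algebraMap Λ R) ∧
      v₂ - v₁ ∈ ((maximalIdeal Λ) ^ n).map (algebraMap Λ R) ∧ h₂ - h₁ ∈ (maximalIdeal Λ) ^ n ∧
      algebraMap Λ R a * u₂ ^ 2 + algebraMap Λ R b * u₂ * v₂ + algebraMap Λ R c * v₂ ^ 2 -
        algebraMap Λ R h₂ ∈ ((maximalIdeal Λ) ^ (n + 1)).map (algebraMap Λ R) := by
  have hu₁m : u₁ ∈ maximalIdeal R := by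
    have : u₁ = u + (u₁ - u) := by ring
    rw [this]; exact Ideal.add_mem _ hu (hloc hu₁)
  have hv₁m : v₁ ∈ maximalIdeal R := by
    have : v₁ = v + (v₁ - v) := by ring
    rw [this]; exact Ideal.add_mem _ hv (hloc hv₁)
  have hgen₁ : maximalIdeal R ≤
      Ideal.span {u₁, v₁} ⊔ (maximalIdeal Λ).map (algebraMap Λ R) := by
    intro x hx
    obtain ⟨k, hk, j, hj, hkj⟩ := Submodule.mem_sup.1 (hgen hx)
    obtain ⟨a, b, hab⟩ := Ideal.mem_span_pair.1 hk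
    have hx' : x = (a * u₁ + b * v₁) + (j - a * (u₁ - u) - b * (v₁ - v)) := by
      rw [← hkj, ← hab]; ring
    rw [hx']
    refine Submodule.add_mem_sup (Ideal.mem_span_pair.2 ⟨a, b, rfl⟩) ?_
    exact Ideal.sub_mem _ (Ideal.sub_mem _ hj (Ideal.mul_mem_left _ _ hu₁))
      (Ideal.mul_mem_left _ _ hv₁)
  obtain ⟨c₀, hc₀, p, hp, q, hq, hcpq⟩ :=
    decomp_pow hres hloc u₁ v₁ hu₁m hv₁m hgen₁ n _ he
  obtain ⟨A, hA⟩ : ∃ A, A = algebraMap Λ R a := ⟨_, rfl⟩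
  obtain ⟨B, hB⟩ : ∃ B, B = algebraMap Λ R b := ⟨_, rfl⟩
  obtain ⟨C, hC⟩ : ∃ C, C = algebraMap Λ R c := ⟨_, rfl⟩
  obtain ⟨D, hD⟩ : ∃ D, D = algebraMap Λ R d' := ⟨_, rfl⟩
  have hDeq : (B ^ 2 - 4 * A * C) * D = 1 := by
    rw [hA, hB, hC, hD, ← map_pow, ← map_ofNat (algebraMap Λ R) 4, ← map_mul, ← map_mul,
      ← map_sub, ← map_mul, hd, map_one]
  rw [← hA, ← hB, ← hC] at hcpq he ⊢
  -- the corrections
  obtain ⟨s, hs⟩ : ∃ s, s = -D * (2 * C * p - B * q) := ⟨_, rfl⟩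
  obtain ⟨t, ht⟩ : ∃ t, t = -D * (2 * A * q - B * p) := ⟨_, rfl⟩
  have hsm : s ∈ ((maximalIdeal Λ) ^ n).map (algebraMap Λ R) := by
    rw [hs]
    exact Ideal.mul_mem_left _ _ (Ideal.sub_mem _ (Ideal.mul_mem_left _ _ hp)
      (Ideal.mul_mem_left _ _ hq))
  have htm : t ∈ ((maximalIdeal Λ) ^ n).map (algebraMap Λ R) := by
    rw [ht]
    exact Ideal.mul_mem_left _ _ (Ideal.sub_mem _ (Ideal.mul_mem_left _ _ hq)
      (Ideal.mul_mem_left _ _ hp))
  have h1 : 2 * A * s + B * t = p := by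
    rw [hs, ht]
    linear_combination (p) * hDeq
  have h2 : B * s + 2 * C * t = q := by
    rw [hs, ht]
    linear_combination (q) * hDeq
  refine ⟨u₁ - s, v₁ - t, h₁ + c₀, ?_, ?_, ?_, ?_⟩
  · have : u₁ - s - u₁ = -s := by ring
    rw [this]; exact neg_mem hsm
  · have : v₁ - t - v₁ = -t := by ring
    rw [this]; exact neg_mem htm
  · have : h₁ + c₀ - h₁ = c₀ := by ring
    rw [this]; exact hc₀
  · have h3 : A * (u₁ - s) ^ 2 + B * (u₁ - s) * (v₁ - t) + C * (v₁ - t) ^ 2 -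
        algebraMap Λ R (h₁ + c₀) = A * (s * s) + B * (s * t) + C * (t * t) := by
      rw [map_add]
      linear_combination hcpq - u₁ * h1 - v₁ * h2
    rw [h3]
    have hmul : ∀ x y : R, x ∈ ((maximalIdeal Λ) ^ n).map (algebraMap Λ R) →
        y ∈ ((maximalIdeal Λ) ^ n).map (algebraMap Λ R) →
        x * y ∈ ((maximalIdeal Λ) ^ (n + 1)).map (algebraMap Λ R) := by
      intro x y hx hy
      have h2 : x * y ∈ ((maximalIdeal Λ) ^ n).map (algebraMap Λ R) *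
          ((maximalIdeal Λ) ^ n).map (algebraMap Λ R) := Ideal.mul_mem_mul hx hy
      rw [← Ideal.map_mul, ← pow_add] at h2
      exact Ideal.map_mono (Ideal.pow_le_pow_right (by omega)) h2
    exact Ideal.add_mem _ (Ideal.add_mem _ (Ideal.mul_mem_left _ _ (hmul _ _ hsm hsm))
      (Ideal.mul_mem_left _ _ (hmul _ _ hsm htm))) (Ideal.mul_mem_left _ _ (hmul _ _ htm htm))

/-- The successive approximation. -/
theorem exists_quad_approx [IsNoetherianRing Λ] [IsAdicComplete (maximalIdeal Λ) Λ]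
    [IsAdicComplete (maximalIdeal R) R]
    (hres : Function.Surjective ((residue R).comp (algebraMap Λ R)))
    (hloc : (maximalIdeal Λ).map (algebraMap Λ R) ≤ maximalIdeal R)
    (a b c d' : Λ) (hd : (b ^ 2 - 4 * a * c) * d' = 1)
    (u v : R) (hu : u ∈ maximalIdeal R) (hv : v ∈ maximalIdeal R)
    (huv : algebraMap Λ R a * u ^ 2 + algebraMap Λ R b * u * v + algebraMap Λ R c * v ^ 2 ∈
      (maximalIdeal Λ).map (algebraMap Λ R))
    (hgen : maximalIdeal R ≤ Ideal.span {u, v} ⊔ (maximalIdeal Λ).map (algebraMap Λ R)) :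
    ∃ (h : Λ) (u' v' : R), h ∈ maximalIdeal Λ ∧
      u' - u ∈ (maximalIdeal Λ).map (algebraMap Λ R) ∧
      v' - v ∈ (maximalIdeal Λ).map (algebraMap Λ R) ∧
      algebraMap Λ R a * u' ^ 2 + algebraMap Λ R b * u' * v' + algebraMap Λ R c * v' ^ 2 =
        algebraMap Λ R h := by
  classical
  obtain ⟨Qf, hQf⟩ : ∃ Qf : R → R → R, ∀ x y, Qf x y =
      algebraMap Λ R a * x ^ 2 + algebraMap Λ R b * x * y + algebraMap Λ R c * y ^ 2 :=
    ⟨_, fun _ _ => rfl⟩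
  simp only [← hQf] at huv ⊢
  let P : ℕ → R × R × Λ → Prop := fun n t =>
    t.1 - u ∈ (maximalIdeal Λ).map (algebraMap Λ R) ∧
    t.2.1 - v ∈ (maximalIdeal Λ).map (algebraMap Λ R) ∧ t.2.2 ∈ maximalIdeal Λ ∧
    Qf t.1 t.2.1 - algebraMap Λ R t.2.2 ∈ ((maximalIdeal Λ) ^ (n + 1)).map (algebraMap Λ R)
  have hstep : ∀ (n : ℕ) (t : {t // P n t}), ∃ t' : {t // P (n + 1) t},
      t'.1.1 - t.1.1 ∈ ((maximalIdeal Λ) ^ (n + 1)).map (algebraMap Λ R) ∧
      t'.1.2.1 - t.1.2.1 ∈ ((maximalIdeal Λ) ^ (n + 1)).map (algebraMap Λ R) ∧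
      t'.1.2.2 - t.1.2.2 ∈ (maximalIdeal Λ) ^ (n + 1) := by
    rintro n ⟨⟨u₁, v₁, α₁⟩, h1, h2, h3, h4⟩
    obtain ⟨u₂, v₂, α₂, g1, g2, g3, g4⟩ := quad_step hres hloc a b c d' hd u v hu hv hgen (n + 1)
      (by omega) u₁ v₁ α₁ h1 h2 (by rw [← hQf]; exact h4)
    rw [← hQf] at g4
    have hle : ((maximalIdeal Λ) ^ (n + 1)).map (algebraMap Λ R) ≤
        (maximalIdeal Λ).map (algebraMap Λ R) :=
      Ideal.map_mono (Ideal.pow_le_self (by omega))
    refine ⟨⟨(u₂, v₂, α₂), ?_, ?_, ?_, g4⟩, g1, g2, g3⟩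
    · have : u₂ - u = (u₂ - u₁) + (u₁ - u) := by ring
      show u₂ - u ∈ _
      rw [this]; exact Ideal.add_mem _ (hle g1) h1
    · have : v₂ - v = (v₂ - v₁) + (v₁ - v) := by ring
      show v₂ - v ∈ _
      rw [this]; exact Ideal.add_mem _ (hle g2) h2
    · have : α₂ = (α₂ - α₁) + α₁ := by ring
      show α₂ ∈ _
      rw [this]; exact Ideal.add_mem _ (Ideal.pow_le_self (by omega) g3) h3
  choose g hg using hstep
  have h0 : P 0 (u, v, 0) := by
    refine ⟨by simp, by simp, Ideal.zero_mem _, ?_⟩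
    show Qf u v - algebraMap Λ R 0 ∈ _
    rw [map_zero, sub_zero, zero_add, pow_one]
    exact huv
  let s : (n : ℕ) → {t // P n t} := fun n => Nat.rec ⟨(u, v, 0), h0⟩ (fun n t => g n t) n
  have hs : ∀ n, s (n + 1) = g n (s n) := fun n => rfl
  have hmappow : ∀ k, ((maximalIdeal Λ) ^ k).map (algebraMap Λ R) ≤ maximalIdeal R ^ k := by
    intro k
    rw [Ideal.map_pow]
    exact Ideal.pow_right_mono hloc k
  obtain ⟨U, hU⟩ := exists_limit (maximalIdeal R) (fun n => (s n).1.1) (fun n => by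
    show (s (n + 1)).1.1 - (s n).1.1 ∈ _
    rw [hs]
    exact Ideal.pow_le_pow_right (Nat.le_succ n) (hmappow _ (hg n (s n)).1))
  obtain ⟨V, hV⟩ := exists_limit (maximalIdeal R) (fun n => (s n).1.2.1) (fun n => by
    show (s (n + 1)).1.2.1 - (s n).1.2.1 ∈ _
    rw [hs]
    exact Ideal.pow_le_pow_right (Nat.le_succ n) (hmappow _ (hg n (s n)).2.1))
  obtain ⟨α, hα⟩ := exists_limit (maximalIdeal Λ) (fun n => (s n).1.2.2) (fun n => by
    show (s (n + 1)).1.2.2 - (s n).1.2.2 ∈ _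
    rw [hs]
    exact Ideal.pow_le_pow_right (Nat.le_succ n) (hg n (s n)).2.2)
  refine ⟨α, U, V, ?_, ?_, ?_, ?_⟩
  · have h1 := hα 1
    rw [pow_one] at h1
    have : α = (α - (s 1).1.2.2) + (s 1).1.2.2 := by ring
    rw [this]
    exact Ideal.add_mem _ h1 (s 1).2.2.2.1
  · apply mem_of_forall_mem_sup_pow
    intro n
    have : U - u = ((s n).1.1 - u) + (U - (s n).1.1) := by ring
    rw [this]
    exact Submodule.add_mem_sup (s n).2.1 (hU n)
  · apply mem_of_forall_mem_sup_pow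
    intro n
    have : V - v = ((s n).1.2.1 - v) + (V - (s n).1.2.1) := by ring
    rw [this]
    exact Submodule.add_mem_sup (s n).2.2.1 (hV n)
  · rw [← sub_eq_zero]
    apply IsHausdorff.haus' (I := maximalIdeal R)
    intro n
    rw [SModEq.zero, smul_eq_mul, Ideal.mul_top]
    have e : Qf U V - algebraMap Λ R α =
        (U - (s n).1.1) * (algebraMap Λ R a * (U + (s n).1.1) + algebraMap Λ R b * V) +
        (V - (s n).1.2.1) * (algebraMap Λ R b * (s n).1.1 +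
          algebraMap Λ R c * (V + (s n).1.2.1)) +
        (Qf (s n).1.1 (s n).1.2.1 - algebraMap Λ R (s n).1.2.2) -
        algebraMap Λ R (α - (s n).1.2.2) := by
      rw [map_sub, hQf, hQf]; ring
    rw [e]
    refine Ideal.sub_mem _ (Ideal.add_mem _ (Ideal.add_mem _ (Ideal.mul_mem_right _ _ (hU n))
      (Ideal.mul_mem_right _ _ (hV n))) ?_) ?_
    · exact Ideal.pow_le_pow_right (Nat.le_succ n) (hmappow _ (s n).2.2.2.2)
    · exact hmappow n (Ideal.mem_map_of_mem _ (hα n))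

end core

end Groth.Agent.Lib.QuadFamH3
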