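import Mathlib
import Groth.Agent.Lib.QuadFam1_helper3
import Groth.Agent.Lib.NodeFormal2_helper3

/-!
# Families of quadratic singularities: the surjection and its injectivity (helper3)

* `exists_surjective_quad` : `Λ[[x, y]]/(Q - h) ↠ R`.
* `injective_of_fibre_gen` : for `F ∈ Λ[[x, y]]`, a surjection `Λ[[x, y]]/(F) ↠ R` onto a flat
  `Λ`-algebra whose special fibre maps onto `k[[x, y]]/(F mod 𝔪)` is injective.

APPEND-ONLY once landed.
-/

set_option autoImplicit false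
universe u

namespace Groth.Agent.Lib.QuadFamH3

open IsLocalRing MvPowerSeries Groth.Agent.Lib.NodeFormalH3

section Surj

variable {Λ R : Type u} [CommRing Λ] [IsLocalRing Λ] [CommRing R] [IsLocalRing R]
  [IsNoetherianRing R] [Algebra Λ R]

/-- The surjection `Λ[[x, y]]/(Q - h) → R`. -/
theorem exists_surjective_quad [IsNoetherianRing Λ] [IsAdicComplete (maximalIdeal Λ) Λ]
    [IsAdicComplete (maximalIdeal R) R]
    (hres : Function.Surjective ((residue R).comp (algebraMap Λ R)))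
    (hloc : (maximalIdeal Λ).map (algebraMap Λ R) ≤ maximalIdeal R)
    (a b c d' : Λ) (hd : (b ^ 2 - 4 * a * c) * d' = 1)
    (u v : R) (hu : u ∈ maximalIdeal R) (hv : v ∈ maximalIdeal R)
    (huv : algebraMap Λ R a * u ^ 2 + algebraMap Λ R b * u * v + algebraMap Λ R c * v ^ 2 ∈
      (maximalIdeal Λ).map (algebraMap Λ R))
    (hgen : maximalIdeal R ≤ Ideal.span {u, v} ⊔ (maximalIdeal Λ).map (algebraMap Λ R)) :
    ∃ (h : Λ) (_ : h ∈ maximalIdeal Λ)
      (ψ : (MvPowerSeries (Fin 2) Λ ⧸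
        Ideal.span {(C a * X 0 ^ 2 + C b * X 0 * X 1 + C c * X 1 ^ 2 - C h :
          MvPowerSeries (Fin 2) Λ)}) →ₐ[Λ] R),
      Function.Surjective ψ ∧
      ψ (Ideal.Quotient.mk _ (X 0)) - u ∈ (maximalIdeal Λ).map (algebraMap Λ R) ∧
      ψ (Ideal.Quotient.mk _ (X 1)) - v ∈ (maximalIdeal Λ).map (algebraMap Λ R) := by
  classical
  obtain ⟨h, u', v', hh, hu', hv', he⟩ :=
    exists_quad_approx hres hloc a b c d' hd u v hu hv huv hgen
  have hu'm : u' ∈ maximalIdeal R := by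
    have : u' = u + (u' - u) := by ring
    rw [this]; exact Ideal.add_mem _ hu (hloc hu')
  have hv'm : v' ∈ maximalIdeal R := by
    have : v' = v + (v' - v) := by ring
    rw [this]; exact Ideal.add_mem _ hv (hloc hv')
  have hxm : ∀ i : Fin 2, (![u', v'] : Fin 2 → R) i ∈ maximalIdeal R := by
    intro i
    fin_cases i
    · exact hu'm
    · exact hv'm
  obtain ⟨f, hf⟩ := Groth.Agent.Lib.RegPSH3.exists_algHom_X (Λ := Λ) 2 ![u', v'] hxm
  have hf0 : f (X 0) = u' := hf 0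
  have hf1 : f (X 1) = v' := hf 1
  have hloc' : ∀ a ∈ maximalIdeal Λ, algebraMap Λ R a ∈ maximalIdeal R :=
    fun a ha => hloc (Ideal.mem_map_of_mem _ ha)
  have hXm : ∀ i : Fin 2, (X i : MvPowerSeries (Fin 2) Λ) ∈
      maximalIdeal (MvPowerSeries (Fin 2) Λ) := by
    intro i
    rw [Groth.Agent.Lib.PSCompleteH1.mem_maximalIdeal_iff, constantCoeff_X]
    exact Ideal.zero_mem _
  have hsurj : Function.Surjective f := by
    apply Groth.Agent.Lib.RegPSH3.surjective_of_le_map 2 f ?_ ?_ hres hloc'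
    · intro x hx
      obtain ⟨k, hk, j, hj, hkj⟩ := Submodule.mem_sup.1 (hgen hx)
      obtain ⟨a, b, hab⟩ := Ideal.mem_span_pair.1 hk
      have hx' : x = a * f (X 0) + b * f (X 1) + (j - a * (u' - u) - b * (v' - v)) := by
        rw [hf0, hf1, ← hkj, ← hab]; ring
      have hle : (maximalIdeal Λ).map (algebraMap Λ R) ≤
          (maximalIdeal (MvPowerSeries (Fin 2) Λ)).map f.toRingHom := by
        rw [Ideal.map_le_iff_le_comap]
        intro c hc
        rw [Ideal.mem_comap]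
        have hCc : (C c : MvPowerSeries (Fin 2) Λ) ∈ maximalIdeal (MvPowerSeries (Fin 2) Λ) := by
          rw [Groth.Agent.Lib.PSCompleteH1.mem_maximalIdeal_iff, constantCoeff_C]
          exact hc
        have h1 : f.toRingHom (C c) = algebraMap Λ R c := by
          show f (C c) = algebraMap Λ R c
          rw [c_eq_algebraMap, AlgHom.commutes]
        rw [← h1]
        exact Ideal.mem_map_of_mem _ hCc
      rw [hx']
      refine Ideal.add_mem _ (Ideal.add_mem _ (Ideal.mul_mem_left _ _ ?_)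
        (Ideal.mul_mem_left _ _ ?_)) (hle ?_)
      · exact Ideal.mem_map_of_mem f.toRingHom (hXm 0)
      · exact Ideal.mem_map_of_mem f.toRingHom (hXm 1)
      · exact Ideal.sub_mem _ (Ideal.sub_mem _ hj (Ideal.mul_mem_left _ _ hu'))
          (Ideal.mul_mem_left _ _ hv')
    · intro i
      rw [hf i]
      exact hxm i
  have hfC : ∀ z : Λ, f (C z) = algebraMap Λ R z := by
    intro z
    rw [c_eq_algebraMap, AlgHom.commutes]
  have hkill : ∀ z ∈ Ideal.span {(C a * X 0 ^ 2 + C b * X 0 * X 1 + C c * X 1 ^ 2 - C h :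
      MvPowerSeries (Fin 2) Λ)}, f z = 0 := by
    intro z hz
    obtain ⟨w, rfl⟩ := Ideal.mem_span_singleton'.1 hz
    rw [map_mul, map_sub, map_add, map_add, map_mul, map_mul, map_mul, map_mul, map_pow, map_pow,
      hf0, hf1, hfC, hfC, hfC, hfC, he, sub_self, mul_zero]
  refine ⟨h, hh, Ideal.Quotient.liftₐ _ f hkill, ?_, ?_, ?_⟩
  · intro r
    obtain ⟨g, rfl⟩ := hsurj r
    exact ⟨Ideal.Quotient.mk _ g, rfl⟩
  · show f (X 0) - u ∈ _
    rw [hf0]; exact hu'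
  · show f (X 1) - v ∈ _
    rw [hf1]; exact hv'

end Surj

section Inj

theorem injective_of_fibre_gen_aux {Λ R : Type u} [CommRing Λ] [IsLocalRing Λ]
    [IsNoetherianRing Λ] [CommRing R] [Algebra Λ R] [Module.Flat Λ R]
    (F : MvPowerSeries (Fin 2) Λ)
    (J : Ideal (MvPowerSeries (Fin 2) Λ)) (hJ : J = Ideal.span {F})
    (ψ : (MvPowerSeries (Fin 2) Λ ⧸ J) →ₐ[Λ] R)
    (hψ : Function.Surjective ψ)
    {k : Type*} [Field k] (ρ : Λ →+* k) (hρ : Function.Surjective ρ)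
    (J₀ : Ideal (MvPowerSeries (Fin 2) k))
    (hJ₀ : J₀ = Ideal.span {MvPowerSeries.map ρ F})
    (π : R →+* (MvPowerSeries (Fin 2) k ⧸ J₀))
    (hπ : Function.Surjective π) (hπ0 : ∀ a ∈ maximalIdeal Λ, π (algebraMap Λ R a) = 0) :
    Function.Injective ψ := by
  classical
  have hker : RingHom.ker ρ = maximalIdeal Λ := by
    have := RingHom.ker_isMaximal_of_surjective ρ hρ
    exact IsLocalRing.eq_maximalIdeal inferInstance
  have hfg : (RingHom.ker ρ).FG := IsNoetherian.noetherian _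
  -- the reduction map
  obtain ⟨red, hred⟩ : ∃ red : MvPowerSeries (Fin 2) Λ →+* MvPowerSeries (Fin 2) k,
      red = MvPowerSeries.map ρ := ⟨_, rfl⟩
  have hredsurj : Function.Surjective red := hred ▸ map_surjective' ρ hρ 2
  rw [← hred] at hJ₀
  -- the composite `Φ`
  obtain ⟨Φ, hΦ⟩ : ∃ Φ : MvPowerSeries (Fin 2) Λ →+* (MvPowerSeries (Fin 2) k ⧸ J₀),
      Φ = π.comp ((ψ : _ →+* R).comp (Ideal.Quotient.mk J)) := ⟨_, rfl⟩
  have hΦapp : ∀ g, Φ g = π (ψ (Ideal.Quotient.mk J g)) := fun g => by rw [hΦ]; rfl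
  have hΦsurj : Function.Surjective Φ := by
    intro y
    obtain ⟨r, rfl⟩ := hπ y
    obtain ⟨q, rfl⟩ := hψ r
    obtain ⟨g, rfl⟩ := Ideal.Quotient.mk_surjective q
    exact ⟨g, hΦapp g⟩
  have hΦC : ∀ a ∈ maximalIdeal Λ, Φ (C a) = 0 := by
    intro a ha
    rw [hΦapp]
    have h1 : Ideal.Quotient.mk J (C a) = algebraMap Λ (MvPowerSeries (Fin 2) Λ ⧸ J) a := rfl
    rw [h1, AlgHom.commutes]
    exact hπ0 a ha
  have hΦker : RingHom.ker red ≤ RingHom.ker Φ := by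
    intro g hg
    have h1 : g ∈ (RingHom.ker ρ).map (C : Λ →+* MvPowerSeries (Fin 2) Λ) :=
      mem_map_C_of_map_eq_zero ρ hfg 2 g (by rw [← hred]; exact hg)
    have h2 : (RingHom.ker ρ).map (C : Λ →+* MvPowerSeries (Fin 2) Λ) ≤ RingHom.ker Φ := by
      rw [Ideal.map_le_iff_le_comap]
      intro a ha
      rw [Ideal.mem_comap, RingHom.mem_ker]
      exact hΦC a (hker ▸ ha)
    exact h2 h1
  obtain ⟨Φ₀, hΦ₀⟩ : ∃ Φ₀ : MvPowerSeries (Fin 2) k →+* (MvPowerSeries (Fin 2) k ⧸ J₀),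
      ∀ g, Φ₀ (red g) = Φ g :=
    ⟨RingHom.liftOfSurjective red hredsurj ⟨Φ, hΦker⟩,
      fun g => RingHom.liftOfRightInverse_comp_apply red _ _ ⟨Φ, hΦker⟩ g⟩
  have hF0 : Ideal.Quotient.mk J F = 0 := by
    rw [Ideal.Quotient.eq_zero_iff_mem, hJ]
    exact Ideal.subset_span rfl
  have hΦ₀J : ∀ a ∈ J₀, Φ₀ a = 0 := by
    intro a ha
    rw [hJ₀] at ha
    obtain ⟨b, rfl⟩ := Ideal.mem_span_singleton'.1 ha
    have h1 : Φ₀ (red F) = 0 := by
      rw [hΦ₀, hΦapp, hF0, map_zero, map_zero]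
    rw [map_mul, h1, mul_zero]
  obtain ⟨Φ₁, hΦ₁⟩ : ∃ Φ₁ : (MvPowerSeries (Fin 2) k ⧸ J₀) →+* (MvPowerSeries (Fin 2) k ⧸ J₀),
      ∀ g, Φ₁ (Ideal.Quotient.mk J₀ g) = Φ₀ g :=
    ⟨Ideal.Quotient.lift J₀ Φ₀ hΦ₀J, fun g => Ideal.Quotient.lift_mk _ _ _⟩
  have hΦ₁surj : Function.Surjective Φ₁ := by
    intro y
    obtain ⟨g, rfl⟩ := hΦsurj y
    exact ⟨Ideal.Quotient.mk J₀ (red g), by rw [hΦ₁, hΦ₀]⟩
  have hΦ₁inj : Function.Injective Φ₁ :=
    Groth.Agent.Lib.SurjEndoH7.injective_of_surjective_ringEnd Φ₁ hΦ₁surj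
  -- the kernel of `ψ`
  rcases subsingleton_or_nontrivial (MvPowerSeries (Fin 2) Λ ⧸ J) with hQ | hQ
  · exact fun a b _ => Subsingleton.elim a b
  haveI : IsLocalRing (MvPowerSeries (Fin 2) Λ ⧸ J) :=
    IsLocalRing.of_surjective' (Ideal.Quotient.mk J) Ideal.Quotient.mk_surjective
  haveI : IsLocalHom (Ideal.Quotient.mk J) :=
    IsLocalHom.of_surjective _ Ideal.Quotient.mk_surjective
  obtain ⟨𝔪Q, h𝔪Q⟩ : ∃ 𝔪Q : Ideal (MvPowerSeries (Fin 2) Λ ⧸ J),
      𝔪Q = (maximalIdeal Λ).map (algebraMap Λ (MvPowerSeries (Fin 2) Λ ⧸ J)) := ⟨_, rfl⟩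
  have hjac : 𝔪Q ≤ Ideal.jacobson ⊥ := by
    rw [IsLocalRing.jacobson_eq_maximalIdeal ⊥ bot_ne_top, h𝔪Q, Ideal.map_le_iff_le_comap]
    intro a ha
    rw [Ideal.mem_comap, mem_maximalIdeal, mem_nonunits_iff]
    intro hunit
    have h1 : IsUnit (C a : MvPowerSeries (Fin 2) Λ) :=
      (isUnit_map_iff (Ideal.Quotient.mk J) _).1 hunit
    have h2 := h1.map (constantCoeff (R := Λ) (σ := Fin 2))
    rw [constantCoeff_C] at h2
    exact ha h2
  obtain ⟨K, hK⟩ : ∃ K : Ideal (MvPowerSeries (Fin 2) Λ ⧸ J), K = RingHom.ker (ψ : _ →+* R) :=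
    ⟨_, rfl⟩
  have hmapC : ((maximalIdeal Λ).map (C : Λ →+* MvPowerSeries (Fin 2) Λ)).map
      (Ideal.Quotient.mk J) = 𝔪Q := by
    rw [h𝔪Q, Ideal.map_map]
    rfl
  have hK1 : K ≤ 𝔪Q := by
    intro x hx
    obtain ⟨g, rfl⟩ := Ideal.Quotient.mk_surjective x
    have hx0 : ψ (Ideal.Quotient.mk J g) = 0 := by
      rw [hK] at hx; exact hx
    have h1 : Φ₁ (Ideal.Quotient.mk J₀ (red g)) = 0 := by
      rw [hΦ₁, hΦ₀, hΦapp, hx0, map_zero]
    have h2 : Ideal.Quotient.mk J₀ (red g) = 0 := hΦ₁inj (by rw [h1, map_zero])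
    rw [Ideal.Quotient.eq_zero_iff_mem, hJ₀] at h2
    obtain ⟨h₀, hh₀⟩ := Ideal.mem_span_singleton'.1 h2
    obtain ⟨h, rfl⟩ := hredsurj h₀
    have h3 : g - h * F ∈ (RingHom.ker ρ).map (C : Λ →+* MvPowerSeries (Fin 2) Λ) := by
      apply mem_map_C_of_map_eq_zero ρ hfg 2
      rw [← hred, map_sub, map_mul, hh₀, sub_self]
    rw [hker] at h3
    have h5 : Ideal.Quotient.mk J g = Ideal.Quotient.mk J (g - h * F) := by
      rw [Ideal.Quotient.eq, hJ]
      have : g - (g - h * F) = h * F := by ring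
      rw [this]
      exact Ideal.mul_mem_left _ _ (Ideal.subset_span rfl)
    rw [h5, ← hmapC]
    exact Ideal.mem_map_of_mem _ h3
  haveI : IsNoetherianRing (MvPowerSeries (Fin 2) Λ ⧸ J) := inferInstance
  have hK2 : K ≤ 𝔪Q • K := by
    intro x hx
    have hx1 : x ∈ LinearMap.ker ψ.toLinearMap ⊓
        (maximalIdeal Λ) • (⊤ : Submodule Λ (MvPowerSeries (Fin 2) Λ ⧸ J)) := by
      refine ⟨?_, ?_⟩
      · rw [hK] at hx; exact hx
      · have := hK1 hx
        rw [h𝔪Q] at this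
        rw [Ideal.smul_top_eq_map]
        exact this
    have hx2 := ker_inf_smul_top_le ψ.toLinearMap hψ (maximalIdeal Λ) hx1
    refine Submodule.smul_induction_on hx2 ?_ ?_
    · intro a ha y hy
      rw [Algebra.smul_def]
      refine Submodule.smul_mem_smul ?_ ?_
      · rw [h𝔪Q]; exact Ideal.mem_map_of_mem _ ha
      · rw [hK]; exact hy
    · intro y z hy hz
      exact Submodule.add_mem _ hy hz
  have hKbot : K = ⊥ :=
    Submodule.eq_bot_of_le_smul_of_le_jacobson_bot 𝔪Q K (IsNoetherian.noetherian K) hK2 hjac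
  rw [injective_iff_map_eq_zero]
  intro x hx
  have : x ∈ K := by rw [hK]; exact hx
  rw [hKbot] at this
  exact this

/-- Injectivity of `Λ[[x, y]]/(F) → R` for `R` flat over `Λ` with special fibre mapping onto
`k[[x, y]]/(F mod 𝔪)`. -/
theorem injective_of_fibre_gen {Λ R : Type u} [CommRing Λ] [IsLocalRing Λ] [IsNoetherianRing Λ]
    [CommRing R] [Algebra Λ R] [Module.Flat Λ R] (F : MvPowerSeries (Fin 2) Λ)
    (ψ : (MvPowerSeries (Fin 2) Λ ⧸ Ideal.span {F}) →ₐ[Λ] R)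
    (hψ : Function.Surjective ψ)
    {k : Type*} [Field k] (ρ : Λ →+* k) (hρ : Function.Surjective ρ)
    (π : R →+* (MvPowerSeries (Fin 2) k ⧸ Ideal.span {MvPowerSeries.map ρ F}))
    (hπ : Function.Surjective π) (hπ0 : ∀ a ∈ maximalIdeal Λ, π (algebraMap Λ R a) = 0) :
    Function.Injective ψ :=
  injective_of_fibre_gen_aux F _ rfl ψ hψ ρ hρ _ rfl π hπ hπ0

end Inj

end Groth.Agent.Lib.QuadFamH3
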