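import Mathlib
import Groth.Agent.Lib.QuadFam2_helper3
import Groth.Agent.Lib.NodeFormal4_helper3
import Groth.Agent.Lib.QuadNode4_helper3

/-!
# Families of quadratic singularities: the statement for completions (helper3)

* `ker_complMap_le` : the kernel of `B̂ → (B/I)^` is `I B̂`.
* `mem_span_X_of_constantCoeff` : a power series in two variables over a field without constant
  term lies in `(X 0, X 1)`.
* `core` : for a flat local homomorphism `A → B` of Noetherian local rings such that the completion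
  of the fibre ring is `κ[[x, y]]/(q₀)` with `q₀` a nondegenerate quadratic form, the completion
  of `B` is `Â[[x, y]]/(Q - h)`.

APPEND-ONLY once landed.
-/

set_option autoImplicit false
universe u

namespace Groth.Agent.Lib.QuadFamH3

open IsLocalRing MvPowerSeries Groth.Agent.Lib.NodeFormalH3

section Ker

variable {B D : Type u} [CommRing B] [IsLocalRing B] [IsNoetherianRing B] [CommRing D]
  [IsLocalRing D]

/-- The kernel of the completion of a surjection `q : B → D` of local rings is generated by the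
kernel of `q`. -/
theorem ker_complMap_le (q : B →+* D) (hq : Function.Surjective q)
    (cm : AdicCompletion (maximalIdeal B) B →+* AdicCompletion (maximalIdeal D) D)
    (hcm : ∀ b, cm (algebraMap B (AdicCompletion (maximalIdeal B) B) b) =
      algebraMap D (AdicCompletion (maximalIdeal D) D) (q b)) :
    RingHom.ker cm ≤ (RingHom.ker q).map (algebraMap B (AdicCompletion (maximalIdeal B) B)) := by
  classical
  haveI : IsNoetherianRing D := isNoetherianRing_of_surjective B D q hq
  haveI : IsNoetherianRing (AdicCompletion (maximalIdeal B) B) :=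
    Groth.Agent.Lib.FFTransferH3.noeth_cpl B
  have fgB : (maximalIdeal B).FG := IsNoetherian.noetherian _
  have fgD : (maximalIdeal D).FG := IsNoetherian.noetherian _
  have hmq : (maximalIdeal B).map q = maximalIdeal D :=
    IsLocalRing.map_maximalIdeal_of_surjective q hq
  have hmB : maximalIdeal (AdicCompletion (maximalIdeal B) B) =
      (maximalIdeal B).map (algebraMap B (AdicCompletion (maximalIdeal B) B)) :=
    AdicCompletion.maximalIdeal_eq_map
  intro x hx
  apply mem_of_forall_mem_sup_pow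
  intro n
  obtain ⟨b, hb⟩ := Groth.Agent.Lib.QuadNodeH3.exists_sub_mem_pow (maximalIdeal B) fgB n x
  -- the image of `x - b` lies in `𝔪_D^n`
  have h1 : cm (x - algebraMap B (AdicCompletion (maximalIdeal B) B) b) ∈
      ((maximalIdeal D).map (algebraMap D (AdicCompletion (maximalIdeal D) D))) ^ n := by
    have h2 := Ideal.mem_map_of_mem cm hb
    rw [Ideal.map_pow, Ideal.map_map] at h2
    have h3 : (maximalIdeal B).map (cm.comp (algebraMap B (AdicCompletion (maximalIdeal B) B))) ≤
        (maximalIdeal D).map (algebraMap D (AdicCompletion (maximalIdeal D) D)) := by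
      rw [Ideal.map_le_iff_le_comap]
      intro z hz
      rw [Ideal.mem_comap, RingHom.comp_apply, hcm]
      apply Ideal.mem_map_of_mem
      rw [← hmq]
      exact Ideal.mem_map_of_mem _ hz
    exact Ideal.pow_right_mono h3 n h2
  rw [map_sub, (RingHom.mem_ker).1 hx, zero_sub, hcm] at h1
  have h4 : q b ∈ maximalIdeal D ^ n := by
    apply Groth.Agent.Lib.QuadNodeH3.mem_pow_of_algebraMap_mem (maximalIdeal D) fgD n
    have := neg_mem h1
    rwa [neg_neg] at this
  rw [← hmq, ← Ideal.map_pow] at h4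
  obtain ⟨m, hm, hmq'⟩ := (Ideal.mem_map_iff_of_surjective q hq).1 h4
  have h5 : b - m ∈ RingHom.ker q := by
    rw [RingHom.mem_ker, map_sub, hmq', sub_self]
  have e1 : x = algebraMap B (AdicCompletion (maximalIdeal B) B) (b - m) +
      (algebraMap B (AdicCompletion (maximalIdeal B) B) m +
        (x - algebraMap B (AdicCompletion (maximalIdeal B) B) b)) := by
    rw [map_sub]; ring
  rw [e1]
  refine Submodule.add_mem_sup (Ideal.mem_map_of_mem _ h5) ?_
  rw [hmB, ← Ideal.map_pow]
  refine Ideal.add_mem _ (Ideal.mem_map_of_mem _ hm) ?_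
  rw [Ideal.map_pow]
  exact hb

end Ker

section PS

theorem mem_span_X_of_constantCoeff (κ : Type*) [Field κ] (g : MvPowerSeries (Fin 2) κ)
    (hg : constantCoeff g = 0) : ∃ g₀ g₁ : MvPowerSeries (Fin 2) κ, g = g₀ * X 0 + g₁ * X 1 := by
  have h1 : g ∈ maximalIdeal (MvPowerSeries (Fin 2) κ) := by
    rw [Groth.Agent.Lib.PSCompleteH1.mem_maximalIdeal_iff, hg]
    exact Ideal.zero_mem _
  rw [Groth.Agent.Lib.RegPSH3.maximalIdeal_eq, IsLocalRing.maximalIdeal_eq_bot,
    Ideal.map_bot, bot_sup_eq] at h1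
  have h2 : Set.range (X : Fin 2 → MvPowerSeries (Fin 2) κ) = {X 0, X 1} := by
    ext z
    constructor
    · rintro ⟨i, rfl⟩
      fin_cases i
      · left; rfl
      · right; rfl
    · rintro (rfl | rfl)
      · exact ⟨0, rfl⟩
      · exact ⟨1, rfl⟩
  rw [h2] at h1
  obtain ⟨g₀, g₁, h⟩ := Ideal.mem_span_pair.1 h1
  exact ⟨g₀, g₁, h.symm⟩

end PS

section Core

variable (A B : Type u) [CommRing A] [IsLocalRing A] [IsNoetherianRing A]
  [CommRing B] [IsLocalRing B] [IsNoetherianRing B] [Algebra A B] [IsLocalHom (algebraMap A B)]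

set_option maxHeartbeats 3200000 in
theorem core_aux [Module.Flat A B] {D κ : Type u} [CommRing D] [IsLocalRing D] [Field κ]
    (ρ₀ : A →+* κ) (hρ₀ : Function.Surjective ρ₀)
    (q : B →+* D) (hq : Function.Surjective q)
    (hker : RingHom.ker q = (maximalIdeal A).map (algebraMap A B))
    (θ : κ →+* D) (hθ : ∀ a, θ (ρ₀ a) = q (algebraMap A B a))
    (a₀ b₀ c₀ : κ) (hdisc : b₀ ^ 2 - 4 * a₀ * c₀ ≠ 0)
    (P₀ : Ideal (MvPowerSeries (Fin 2) κ)) (hP₀ : P₀ = Ideal.span
      {(C a₀ * X 0 ^ 2 + C b₀ * X 0 * X 1 + C c₀ * X 1 ^ 2 : MvPowerSeries (Fin 2) κ)})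
    (e : AdicCompletion (maximalIdeal D) D ≃+* (MvPowerSeries (Fin 2) κ ⧸ P₀))
    (he : ∀ r : κ, e (algebraMap D (AdicCompletion (maximalIdeal D) D) (θ r)) =
      Ideal.Quotient.mk _ (C r)) :
    ∃ a b c : AdicCompletion (maximalIdeal A) A, IsUnit (b ^ 2 - 4 * a * c) ∧
      ∃ h ∈ maximalIdeal (AdicCompletion (maximalIdeal A) A),
        ∃ e' : AdicCompletion (maximalIdeal B) B ≃+*
            (MvPowerSeries (Fin 2) (AdicCompletion (maximalIdeal A) A) ⧸ Ideal.span
              {(C a * X 0 ^ 2 + C b * X 0 * X 1 + C c * X 1 ^ 2 - C h :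
                MvPowerSeries (Fin 2) (AdicCompletion (maximalIdeal A) A))}),
          ∀ r : A, e' (algebraMap B (AdicCompletion (maximalIdeal B) B) (algebraMap A B r)) =
            Ideal.Quotient.mk _ (C (algebraMap A (AdicCompletion (maximalIdeal A) A) r)) := by
  classical
  letI := Groth.Agent.Lib.FFTransferH3.algCpl A B
  haveI := Groth.Agent.Lib.FFTransferH3.tower A B
  haveI := Groth.Agent.Lib.FFTransferH3.tower' A B
  haveI : IsNoetherianRing (AdicCompletion (maximalIdeal A) A) :=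
    Groth.Agent.Lib.FFTransferH3.noeth_cpl A
  haveI : IsNoetherianRing (AdicCompletion (maximalIdeal B) B) :=
    Groth.Agent.Lib.FFTransferH3.noeth_cpl B
  haveI : Module.Flat (AdicCompletion (maximalIdeal A) A) (AdicCompletion (maximalIdeal B) B) :=
    Groth.Agent.Lib.FFTransferH3.flat_cpl A B
  have hlh := Groth.Agent.Lib.FFTransferH3.isLocalHom_cpl A B
  have hm1 := map_cpl_eq A B
  have hm2 := map_cpl_eq' A B
  haveI : IsNoetherianRing D := isNoetherianRing_of_surjective B D q hq
  have fgA : (maximalIdeal A).FG := IsNoetherian.noetherian _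
  have hmq : (maximalIdeal B).map q = maximalIdeal D :=
    IsLocalRing.map_maximalIdeal_of_surjective q hq
  -- notation
  obtain ⟨ofA, hofA⟩ : ∃ ofA : A →+* AdicCompletion (maximalIdeal A) A,
      ofA = algebraMap A (AdicCompletion (maximalIdeal A) A) := ⟨_, rfl⟩
  obtain ⟨ofB, hofB⟩ : ∃ ofB : B →+* AdicCompletion (maximalIdeal B) B,
      ofB = algebraMap B (AdicCompletion (maximalIdeal B) B) := ⟨_, rfl⟩
  obtain ⟨ι, hι⟩ : ∃ ι : AdicCompletion (maximalIdeal A) A →+* AdicCompletion (maximalIdeal B) B,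
      ι = algebraMap (AdicCompletion (maximalIdeal A) A) (AdicCompletion (maximalIdeal B) B) :=
    ⟨_, rfl⟩
  have hιof : ∀ r : A, ι (ofA r) = ofB (algebraMap A B r) := by
    intro r
    rw [hι, hofA, hofB, ← IsScalarTower.algebraMap_apply A (AdicCompletion (maximalIdeal A) A)
      (AdicCompletion (maximalIdeal B) B),
      IsScalarTower.algebraMap_apply A B (AdicCompletion (maximalIdeal B) B)]
  -- the kernel of `ρ₀`
  have hkerρ₀ : ∀ z ∈ maximalIdeal A, ρ₀ z = 0 := by
    intro z hz
    by_contra hne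
    obtain ⟨w, hw⟩ := hρ₀ (ρ₀ z)⁻¹
    have h1 : ρ₀ (z * w) = 1 := by rw [map_mul, hw, mul_inv_cancel₀ hne]
    have h2 : z * w - 1 ∈ maximalIdeal A := by
      by_contra hnm
      have hunit : IsUnit (z * w - 1) := by
        by_contra hnu; exact hnm ((IsLocalRing.mem_maximalIdeal _).2 hnu)
      -- `z * w ∈ 𝔪` so `z * w - 1` is a unit; we need the converse: derive a contradiction from ρ₀
      have h3 : ρ₀ (z * w - 1) = 0 := by rw [map_sub, h1, map_one, sub_self]
      have := hunit.map ρ₀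
      rw [h3] at this
      exact not_isUnit_zero this
    have h4 : (1 : A) ∈ maximalIdeal A := by
      have : (1 : A) = z * w - (z * w - 1) := by ring
      rw [this]
      exact Ideal.sub_mem _ (Ideal.mul_mem_right _ _ hz) h2
    exact (Ideal.ne_top_iff_one _).1 (IsLocalRing.maximalIdeal.isMaximal A).ne_top h4
  -- the residue map of `Â`
  obtain ⟨ρ, hρof, hρsurj⟩ : ∃ ρ : AdicCompletion (maximalIdeal A) A →+* κ,
      (∀ r : A, ρ (ofA r) = ρ₀ r) ∧ Function.Surjective ρ := by
    refine ⟨(Ideal.Quotient.lift (maximalIdeal A) ρ₀ hkerρ₀).comp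
      (AdicCompletion.evalOneₐ (maximalIdeal A)).toRingHom, ?_, ?_⟩
    · intro r
      rw [hofA]
      show Ideal.Quotient.lift (maximalIdeal A) ρ₀ hkerρ₀
        (AdicCompletion.evalOneₐ (maximalIdeal A) (AdicCompletion.of (maximalIdeal A) A r)) = ρ₀ r
      rw [AdicCompletion.evalOneₐ_of]
      exact Ideal.Quotient.lift_mk _ _ _
    · intro y
      obtain ⟨r, rfl⟩ := hρ₀ y
      refine ⟨AdicCompletion.of (maximalIdeal A) A r, ?_⟩
      show Ideal.Quotient.lift (maximalIdeal A) ρ₀ hkerρ₀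
        (AdicCompletion.evalOneₐ (maximalIdeal A) (AdicCompletion.of (maximalIdeal A) A r)) = ρ₀ r
      rw [AdicCompletion.evalOneₐ_of]
      exact Ideal.Quotient.lift_mk _ _ _
  have hρker : ∀ z ∈ maximalIdeal (AdicCompletion (maximalIdeal A) A), ρ z = 0 := by
    intro z hz
    rw [AdicCompletion.maximalIdeal_eq_map (R := A)] at hz
    have hle : (maximalIdeal A).map (algebraMap A (AdicCompletion (maximalIdeal A) A)) ≤
        RingHom.ker ρ := by
      rw [Ideal.map_le_iff_le_comap]
      intro r hr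
      rw [Ideal.mem_comap, RingHom.mem_ker, ← hofA, hρof]
      exact hkerρ₀ r hr
    exact hle hz
  -- the map to the completed fibre
  obtain ⟨cm, hcm, hcmsurj⟩ : ∃ cm : AdicCompletion (maximalIdeal B) B →+*
      AdicCompletion (maximalIdeal D) D,
      (∀ b, cm (algebraMap B (AdicCompletion (maximalIdeal B) B) b) =
        algebraMap D (AdicCompletion (maximalIdeal D) D) (q b)) ∧
      Function.Surjective cm :=
    ⟨FSch.complMap (maximalIdeal B) (maximalIdeal D) q (le_of_eq hmq),
      fun b => Groth.Agent.Lib.ComplFlatH3.complMap_of _ _ _ _ b,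
      complMap_surjective _ _ _ hq hmq (maximalIdeal B).fg_of_isNoetherianRing⟩
  have hkercm := ker_complMap_le q hq cm hcm
  rw [hker, ← hm2, ← hm1, ← hι] at hkercm
  obtain ⟨π, hπdef⟩ : ∃ π : AdicCompletion (maximalIdeal B) B →+*
      (MvPowerSeries (Fin 2) κ ⧸ P₀), ∀ x, π x = e (cm x) := ⟨e.toRingHom.comp cm, fun x => rfl⟩
  have hπ : Function.Surjective π := by
    intro y
    obtain ⟨z, rfl⟩ := e.surjective y
    obtain ⟨x, rfl⟩ := hcmsurj z
    exact ⟨x, hπdef x⟩
  have hπker : ∀ x, π x = 0 → x ∈ (maximalIdeal (AdicCompletion (maximalIdeal A) A)).map ι := by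
    intro x hx
    apply hkercm
    rw [RingHom.mem_ker]
    rw [hπdef] at hx
    exact e.injective (by rw [hx, map_zero])
  have hπof : ∀ r : A, π (ι (ofA r)) = Ideal.Quotient.mk P₀ (C (ρ₀ r)) := by
    intro r
    rw [hιof, hπdef, hofB, hcm, ← hθ, he]
  have hπ0 : ∀ z ∈ maximalIdeal (AdicCompletion (maximalIdeal A) A), π (ι z) = 0 := by
    have hle : maximalIdeal (AdicCompletion (maximalIdeal A) A) ≤
        (RingHom.ker π).comap ι := by
      rw [AdicCompletion.maximalIdeal_eq_map (R := A), Ideal.map_le_iff_le_comap]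
      intro r hr
      rw [Ideal.mem_comap, Ideal.mem_comap, RingHom.mem_ker, ← hofA, hπof, hkerρ₀ r hr, map_zero,
        map_zero]
    intro z hz
    exact hle hz
  -- the augmentation of `κ[[x, y]]/(q₀)`
  obtain ⟨ε, hε⟩ : ∃ ε : (MvPowerSeries (Fin 2) κ ⧸ P₀) →+* κ,
      ∀ g, ε (Ideal.Quotient.mk P₀ g) = constantCoeff g := by
    refine ⟨Ideal.Quotient.lift P₀ (constantCoeff (σ := Fin 2) (R := κ)) ?_,
      fun g => Ideal.Quotient.lift_mk _ _ _⟩
    intro g hg
    rw [hP₀] at hg
    obtain ⟨w, rfl⟩ := Ideal.mem_span_singleton'.1 hg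
    simp
  have hmemB : ∀ z : AdicCompletion (maximalIdeal B) B, ε (π z) = 0 →
      z ∈ maximalIdeal (AdicCompletion (maximalIdeal B) B) := by
    intro z hz
    rw [IsLocalRing.mem_maximalIdeal, mem_nonunits_iff]
    intro hu
    have := (hu.map π).map ε
    rw [hz] at this
    exact not_isUnit_zero this
  -- lifts of the coefficients
  obtain ⟨aA, haA⟩ := hρ₀ a₀
  obtain ⟨bA, hbA⟩ := hρ₀ b₀
  obtain ⟨cA, hcA⟩ := hρ₀ c₀
  have hdA : IsUnit (bA ^ 2 - 4 * aA * cA) := by
    by_contra hnu
    have h1 := hkerρ₀ _ ((IsLocalRing.mem_maximalIdeal _).2 hnu)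
    rw [map_sub, map_pow, map_mul, map_mul, map_ofNat, haA, hbA, hcA] at h1
    exact hdisc h1
  obtain ⟨dA, hdA'⟩ := hdA.exists_right_inv
  obtain ⟨a, ha⟩ : ∃ a, a = ofA aA := ⟨_, rfl⟩
  obtain ⟨b, hb⟩ : ∃ b, b = ofA bA := ⟨_, rfl⟩
  obtain ⟨c, hc⟩ : ∃ c, c = ofA cA := ⟨_, rfl⟩
  obtain ⟨d', hd'⟩ : ∃ d', d' = ofA dA := ⟨_, rfl⟩
  have hd : (b ^ 2 - 4 * a * c) * d' = 1 := by
    rw [ha, hb, hc, hd', ← map_pow, ← map_ofNat ofA 4, ← map_mul, ← map_mul, ← map_sub,
      ← map_mul, hdA', map_one]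
  have hρa : ρ a = a₀ := by rw [ha, hρof, haA]
  have hρb : ρ b = b₀ := by rw [hb, hρof, hbA]
  have hρc : ρ c = c₀ := by rw [hc, hρof, hcA]
  have hπa : π (ι a) = Ideal.Quotient.mk P₀ (C a₀) := by rw [ha, hπof, haA]
  have hπb : π (ι b) = Ideal.Quotient.mk P₀ (C b₀) := by rw [hb, hπof, hbA]
  have hπc : π (ι c) = Ideal.Quotient.mk P₀ (C c₀) := by rw [hc, hπof, hcA]
  -- lifts of the variables
  obtain ⟨u, hu⟩ := hπ (Ideal.Quotient.mk P₀ (X 0))
  obtain ⟨v, hv⟩ := hπ (Ideal.Quotient.mk P₀ (X 1))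
  have hum : u ∈ maximalIdeal (AdicCompletion (maximalIdeal B) B) := by
    apply hmemB
    rw [hu, hε, constantCoeff_X]
  have hvm : v ∈ maximalIdeal (AdicCompletion (maximalIdeal B) B) := by
    apply hmemB
    rw [hv, hε, constantCoeff_X]
  have hres' : Function.Surjective ((residue (AdicCompletion (maximalIdeal B) B)).comp ι) := by
    intro r
    obtain ⟨z, rfl⟩ := residue_surjective r
    obtain ⟨r₀, hr₀⟩ := hρ₀ (ε (π z))
    refine ⟨ofA r₀, ?_⟩
    rw [RingHom.comp_apply]
    symm
    rw [← sub_eq_zero, ← map_sub, residue_eq_zero_iff]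
    apply hmemB
    rw [map_sub, map_sub, hπof, hε, constantCoeff_C, hr₀, sub_self]
  have hloc : (maximalIdeal (AdicCompletion (maximalIdeal A) A)).map ι ≤
      maximalIdeal (AdicCompletion (maximalIdeal B) B) := by
    rw [hι]
    exact ((IsLocalRing.local_hom_TFAE (algebraMap (AdicCompletion (maximalIdeal A) A)
      (AdicCompletion (maximalIdeal B) B))).out 0 2).mp hlh
  have huv : ι a * u ^ 2 + ι b * u * v + ι c * v ^ 2 ∈
      (maximalIdeal (AdicCompletion (maximalIdeal A) A)).map ι := by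
    apply hπker
    rw [map_add, map_add, map_mul, map_mul, map_mul, map_mul, map_pow, map_pow, hπa, hπb, hπc,
      hu, hv, ← map_pow, ← map_pow, ← map_mul, ← map_mul, ← map_mul, ← map_mul, ← map_add,
      ← map_add, Ideal.Quotient.eq_zero_iff_mem, hP₀]
    exact Ideal.mem_span_singleton_self _
  have hgen : maximalIdeal (AdicCompletion (maximalIdeal B) B) ≤
      Ideal.span {u, v} ⊔ (maximalIdeal (AdicCompletion (maximalIdeal A) A)).map ι := by
    intro z hz
    obtain ⟨g, hg⟩ := Ideal.Quotient.mk_surjective (π z)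
    have hg0 : constantCoeff g = 0 := by
      rw [← hε, hg]
      by_contra hne
      have h1 : IsUnit (ε (π z)) := isUnit_iff_ne_zero.2 hne
      obtain ⟨r₀, hr₀⟩ := hρ₀ (ε (π z))⁻¹
      -- `z * ι (ofA r₀) - 1 ∈ 𝔪`, contradiction
      have h2 : z * ι (ofA r₀) - 1 ∈ maximalIdeal (AdicCompletion (maximalIdeal B) B) := by
        apply hmemB
        rw [map_sub, map_sub, map_mul, map_mul, hπof, hε, constantCoeff_C, hr₀, map_one, map_one,
          mul_inv_cancel₀ hne, sub_self]
      have h3 : (1 : AdicCompletion (maximalIdeal B) B) ∈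
          maximalIdeal (AdicCompletion (maximalIdeal B) B) := by
        have : (1 : AdicCompletion (maximalIdeal B) B) =
            z * ι (ofA r₀) - (z * ι (ofA r₀) - 1) := by ring
        rw [this]
        exact Ideal.sub_mem _ (Ideal.mul_mem_right _ _ hz) h2
      exact (Ideal.ne_top_iff_one _).1
        (IsLocalRing.maximalIdeal.isMaximal (AdicCompletion (maximalIdeal B) B)).ne_top h3
    obtain ⟨g₀, g₁, hgg⟩ := mem_span_X_of_constantCoeff κ g hg0
    obtain ⟨r, hr⟩ := hπ (Ideal.Quotient.mk P₀ g₀)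
    obtain ⟨s, hs⟩ := hπ (Ideal.Quotient.mk P₀ g₁)
    have h1 : π (z - (r * u + s * v)) = 0 := by
      rw [map_sub, map_add, map_mul, map_mul, hr, hs, hu, hv, ← hg, ← map_mul, ← map_mul,
        ← map_add, ← hgg, sub_self]
    have e1 : z = (r * u + s * v) + (z - (r * u + s * v)) := by ring
    rw [e1]
    exact Submodule.add_mem_sup (Ideal.mem_span_pair.2 ⟨r, s, rfl⟩) (hπker _ h1)
  rw [hι] at hres' hloc huv hgen
  obtain ⟨h, hh, ψ, hψ, -, -⟩ :=
    exists_surjective_quad hres' hloc a b c d' hd u v hum hvm huv hgen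
  -- injectivity
  have hJ₀ : P₀ = Ideal.span {MvPowerSeries.map ρ
      (C a * X 0 ^ 2 + C b * X 0 * X 1 + C c * X 1 ^ 2 - C h :
        MvPowerSeries (Fin 2) (AdicCompletion (maximalIdeal A) A))} := by
    rw [hP₀]
    congr 2
    rw [map_sub, map_add, map_add, map_mul, map_mul, map_mul, map_mul, map_pow, map_pow,
      MvPowerSeries.map_C, MvPowerSeries.map_C, MvPowerSeries.map_C, MvPowerSeries.map_C,
      MvPowerSeries.map_X, MvPowerSeries.map_X, hρa, hρb, hρc, hρker h hh, map_zero, sub_zero]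
  have hπ0' : ∀ z ∈ maximalIdeal (AdicCompletion (maximalIdeal A) A),
      π (algebraMap (AdicCompletion (maximalIdeal A) A) (AdicCompletion (maximalIdeal B) B) z)
        = 0 := by
    intro z hz
    rw [← hι]
    exact hπ0 z hz
  have hinj := injective_of_fibre_gen_aux _ _ rfl ψ hψ ρ hρsurj P₀ hJ₀ π hπ hπ0'
  refine ⟨a, b, c, ⟨⟨_, _, hd, by rw [mul_comm]; exact hd⟩, rfl⟩, h, hh,
    (RingEquiv.ofBijective (ψ : _ →+* AdicCompletion (maximalIdeal B) B) ⟨hinj, hψ⟩).symm, ?_⟩
  intro r
  rw [RingEquiv.symm_apply_eq]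
  show algebraMap B (AdicCompletion (maximalIdeal B) B) (algebraMap A B r) =
    ψ (Ideal.Quotient.mk _ (C (algebraMap A (AdicCompletion (maximalIdeal A) A) r)))
  have h1 : (Ideal.Quotient.mk (Ideal.span {(C a * X 0 ^ 2 + C b * X 0 * X 1 + C c * X 1 ^ 2 - C h :
      MvPowerSeries (Fin 2) (AdicCompletion (maximalIdeal A) A))}))
      (C (algebraMap A (AdicCompletion (maximalIdeal A) A) r)) =
      algebraMap (AdicCompletion (maximalIdeal A) A) _
        (algebraMap A (AdicCompletion (maximalIdeal A) A) r) := rfl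
  rw [h1, AlgHom.commutes, ← IsScalarTower.algebraMap_apply A (AdicCompletion (maximalIdeal A) A)
      (AdicCompletion (maximalIdeal B) B),
      IsScalarTower.algebraMap_apply A B (AdicCompletion (maximalIdeal B) B)]

/-- The core statement: formal structure of a flat family whose special fibre has a nondegenerate
quadratic singularity with the residue field of the base. -/
theorem core [Module.Flat A B] {D κ : Type u} [CommRing D] [IsLocalRing D] [Field κ]
    (ρ₀ : A →+* κ) (hρ₀ : Function.Surjective ρ₀)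
    (q : B →+* D) (hq : Function.Surjective q)
    (hker : RingHom.ker q = (maximalIdeal A).map (algebraMap A B))
    (θ : κ →+* D) (hθ : ∀ a, θ (ρ₀ a) = q (algebraMap A B a))
    (a₀ b₀ c₀ : κ) (hdisc : b₀ ^ 2 - 4 * a₀ * c₀ ≠ 0)
    (e : AdicCompletion (maximalIdeal D) D ≃+* (MvPowerSeries (Fin 2) κ ⧸ Ideal.span
      {(C a₀ * X 0 ^ 2 + C b₀ * X 0 * X 1 + C c₀ * X 1 ^ 2 : MvPowerSeries (Fin 2) κ)}))
    (he : ∀ r : κ, e (algebraMap D (AdicCompletion (maximalIdeal D) D) (θ r)) =
      Ideal.Quotient.mk _ (C r)) :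
    ∃ a b c : AdicCompletion (maximalIdeal A) A, IsUnit (b ^ 2 - 4 * a * c) ∧
      ∃ h ∈ maximalIdeal (AdicCompletion (maximalIdeal A) A),
        ∃ e' : AdicCompletion (maximalIdeal B) B ≃+*
            (MvPowerSeries (Fin 2) (AdicCompletion (maximalIdeal A) A) ⧸ Ideal.span
              {(C a * X 0 ^ 2 + C b * X 0 * X 1 + C c * X 1 ^ 2 - C h :
                MvPowerSeries (Fin 2) (AdicCompletion (maximalIdeal A) A))}),
          ∀ r : A, e' (algebraMap B (AdicCompletion (maximalIdeal B) B) (algebraMap A B r)) =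
            Ideal.Quotient.mk _ (C (algebraMap A (AdicCompletion (maximalIdeal A) A) r)) :=
  core_aux A B ρ₀ hρ₀ q hq hker θ hθ a₀ b₀ c₀ hdisc _ rfl e he

end Core

end Groth.Agent.Lib.QuadFamH3
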