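import Mathlib
import Groth.Prelude.Def_Curv2
import Groth.Agent.Lib.QuadFam3_helper3
import Groth.Agent.Lib.FibStalkIso_helper5

/-!
# Families of quadratic singularities: the statement for schemes, S16290 (helper3)

* `fromSpecStalk_comp_eq` : the composite `Spec O_{X,x} ⟶ X ⟶ Spec R` as `Spec` of a ring map.
* `stalkMap_toFib` : compatibility of `O_{Y,y} → O_{X,x} → O_{X_y,x}` with the `κ(y)`-algebra
  structure of the local ring of the fibre.
* `main16290`.

APPEND-ONLY once landed.
-/

set_option autoImplicit false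
universe u

namespace Groth.Agent.Lib.QuadFamH3

open AlgebraicGeometry CategoryTheory IsLocalRing
open Groth.Agent.FibStalkDimH8 FibRedH8 Groth.Agent.FibStalkIso

theorem fromSpecStalk_comp_eq {X : Scheme.{u}} (x : X) (R : CommRingCat.{u}) (p : X ⟶ Spec R) :
    X.fromSpecStalk x ≫ p =
      Spec.map ((Scheme.ΓSpecIso R).inv ≫ p.appTop ≫ X.presheaf.germ ⊤ x trivial) := by
  have h1 : p = X.toSpecΓ ≫ Spec.map p.appTop ≫ Spec.map (Scheme.ΓSpecIso R).inv := by
    rw [← Scheme.toSpecΓ_naturality_assoc, toSpecΓ_SpecMap_ΓSpecIso_inv, Category.comp_id]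
  conv_lhs => rw [h1]
  rw [Scheme.fromSpecStalk_toSpecΓ_assoc, ← Spec.map_comp, ← Spec.map_comp, Category.assoc]

theorem stalkMap_eq (k : Type u) [Field k] (X : Scheme.{u}) [X.Over (Spec (CommRingCat.of k))]
    (x : X) :
    CommRingCat.ofHom (Curv2.stalkMap k X x) =
      (Scheme.ΓSpecIso (CommRingCat.of k)).inv ≫ (X ↘ Spec (CommRingCat.of k)).appTop ≫
        X.presheaf.germ ⊤ x trivial := rfl

section Fib

variable {X Y : Scheme.{u}} (f : X ⟶ Y) (x : X)

/-- `O_{Y,y} → O_{X,x} → O_{X_y,x}` factors through the residue field via the structure map of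
the fibre over `Spec κ(y)`. -/
theorem stalkMap_toFib :
    f.stalkMap x ≫ toFib f x = Y.residue (f.base x) ≫
      ((Scheme.ΓSpecIso (Y.residueField (f.base x))).inv ≫
        (f.fiberToSpecResidueField (f.base x)).appTop ≫
        (f.fiber (f.base x)).presheaf.germ ⊤ (f.asFiber x) trivial) := by
  apply Spec.map_injective
  rw [← cancel_mono (Y.fromSpecStalk (f.base x)), spec_comp, Spec.map_comp,
    ← fromSpecStalk_comp_eq, Category.assoc, Scheme.Hom.fiber_fac]
  rfl

end Fib

section Main

set_option maxHeartbeats 1600000 in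
theorem main16290 {T S : Scheme.{u}} (f : T ⟶ S) [LocallyOfFiniteType f] (t : T)
    [IsNoetherianRing (S.presheaf.stalk (f t))] (hfl : (f.stalkMap t).hom.Flat)
    (ht : letI : (f.fiber (f t)).Over (Spec (CommRingCat.of (S.residueField (f t)))) :=
        ⟨f.fiberToSpecResidueField (f t)⟩
      letI := Curv2.stalkAlgebra (S.residueField (f t)) (f.fiber (f t)) (f.asFiber t)
      IsClosed ({f.asFiber t} : Set (f.fiber (f t))) ∧
        ∃ a b c : S.residueField (f t), b ^ 2 - 4 * a * c ≠ 0 ∧
          ∃ e : Curv2.cpl ((f.fiber (f t)).presheaf.stalk (f.asFiber t)) ≃+*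
              (MvPowerSeries (Fin 2) (S.residueField (f t)) ⧸ Ideal.span
                {(MvPowerSeries.C a * MvPowerSeries.X 0 ^ 2 +
                  MvPowerSeries.C b * MvPowerSeries.X 0 * MvPowerSeries.X 1 +
                  MvPowerSeries.C c * MvPowerSeries.X 1 ^ 2 :
                    MvPowerSeries (Fin 2) (S.residueField (f t)))}),
            ∀ r : S.residueField (f t),
              e (algebraMap ((f.fiber (f t)).presheaf.stalk (f.asFiber t)) _
                  (algebraMap (S.residueField (f t))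
                    ((f.fiber (f t)).presheaf.stalk (f.asFiber t)) r)) =
                Ideal.Quotient.mk _ (MvPowerSeries.C r)) :
    ∃ a b c : Curv2.cpl (S.presheaf.stalk (f t)), IsUnit (b ^ 2 - 4 * a * c) ∧
      ∃ h ∈ IsLocalRing.maximalIdeal (Curv2.cpl (S.presheaf.stalk (f t))),
        ∃ e : Curv2.cpl (T.presheaf.stalk t) ≃+*
            (MvPowerSeries (Fin 2) (Curv2.cpl (S.presheaf.stalk (f t))) ⧸ Ideal.span
              {(MvPowerSeries.C a * MvPowerSeries.X 0 ^ 2 +
                MvPowerSeries.C b * MvPowerSeries.X 0 * MvPowerSeries.X 1 +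
                MvPowerSeries.C c * MvPowerSeries.X 1 ^ 2 - MvPowerSeries.C h :
                  MvPowerSeries (Fin 2) (Curv2.cpl (S.presheaf.stalk (f t))))}),
          ∀ r : S.presheaf.stalk (f t),
            e (algebraMap (T.presheaf.stalk t) (Curv2.cpl (T.presheaf.stalk t))
                ((f.stalkMap t).hom r)) =
              Ideal.Quotient.mk _ (MvPowerSeries.C
                (algebraMap (S.presheaf.stalk (f t)) (Curv2.cpl (S.presheaf.stalk (f t))) r)) := by
  classical
  obtain ⟨-, a₀, b₀, c₀, hdisc, e, he⟩ := ht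
  letI : Algebra (S.presheaf.stalk (f t)) (T.presheaf.stalk t) := (f.stalkMap t).hom.toAlgebra
  haveI : IsLocalHom (algebraMap (S.presheaf.stalk (f t)) (T.presheaf.stalk t)) :=
    inferInstanceAs (IsLocalHom (f.stalkMap t).hom)
  haveI : Module.Flat (S.presheaf.stalk (f t)) (T.presheaf.stalk t) := hfl
  have hess : (f.stalkMap t).hom.EssFiniteType := LocallyOfFiniteType.stalkMap f t
  haveI : Algebra.EssFiniteType (S.presheaf.stalk (f t)) (T.presheaf.stalk t) := hess
  haveI : IsNoetherianRing (T.presheaf.stalk t) :=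
    Algebra.EssFiniteType.isNoetherianRing (S.presheaf.stalk (f t)) (T.presheaf.stalk t)
  have hfac := stalkMap_toFib f t
  refine core (S.presheaf.stalk (f t)) (T.presheaf.stalk t)
    (κ := S.residueField (f t)) (D := (f.fiber (f t)).presheaf.stalk (f.asFiber t))
    (S.residue (f t)).hom (Scheme.residue_surjective S (f t))
    (toFib f t).hom (toFib_surjective f t) (ker_toFib f t)
    (@Curv2.stalkMap (S.residueField (f t)) _ (f.fiber (f t))
      ⟨f.fiberToSpecResidueField (f t)⟩ (f.asFiber t)) ?_
    a₀ b₀ c₀ hdisc e he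
  intro a
  have := congrArg (fun φ => φ.hom a) hfac
  exact this.symm

end Main

end Groth.Agent.Lib.QuadFamH3
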