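import Mathlib
import Groth.Prelude.Def_QuadGrp
import Groth.Agent.Lib.QuadDisc_helper9

/-!
# The half-discriminant of an odd-rank quadratic form detects fibrewise non-degeneracy (helper1)
-/

set_option autoImplicit false
universe u v
open MvPolynomial Matrix

namespace Groth.Agent.Lib.QuadHalfH1

section PMsec

variable {n : ℕ} {R : Type*} [CommRing R]

/-- polar matrix of a coefficient function -/
def PM (a : Sym2 (Fin n) → R) : Matrix (Fin n) (Fin n) R :=
  Matrix.of fun i j => if i = j then 2 * a s(i, j) else a s(i, j)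

theorem PM_apply (a : Sym2 (Fin n) → R) (i j : Fin n) :
    PM a i j = if i = j then 2 * a s(i, j) else a s(i, j) := rfl

theorem mapMatrix_univPolarMat (a : Sym2 (Fin n) → R) :
    (eval₂Hom (Int.castRingHom R) a).mapMatrix (QuadGrp.univPolarMat n) = PM a := by
  ext i j
  simp only [RingHom.mapMatrix_apply, Matrix.map_apply, QuadGrp.univPolarMat, Matrix.of_apply,
    PM_apply]
  by_cases h : i = j
  · rw [if_pos h, if_pos h, map_mul, eval₂Hom_X', map_ofNat]
  · rw [if_neg h, if_neg h, eval₂Hom_X']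

theorem two_mul_hd (hn : Odd n) (a : Sym2 (Fin n) → R) :
    2 * eval₂ (Int.castRingHom R) a (QuadGrp.halfDiscUniv n) = (PM a).det := by
  have h := RingHom.map_det (eval₂Hom (Int.castRingHom R) a) (QuadGrp.univPolarMat n)
  rw [mapMatrix_univPolarMat] at h
  rw [← h]
  change _ = eval₂ (Int.castRingHom R) a (QuadGrp.discUniv n)
  rw [← QuadDisc9.two_mul_halfDiscUniv hn, eval₂_mul]
  congr 1
  have h2 : (2 : MvPolynomial (Sym2 (Fin n)) ℤ) = C (2 : ℤ) := by simp
  rw [h2, eval₂_C]
  simp

end PMsec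

section RowZero

variable {k : ℕ} {R : Type*} [CommRing R]

open Classical in
/-- universal coefficient function with the `(0, j+1)` coefficients killed -/
noncomputable def aU (k : ℕ) : Sym2 (Fin (k + 1)) → MvPolynomial (Sym2 (Fin (k + 1))) ℤ :=
  fun s => if (∃ j : Fin k, s = s(0, j.succ)) then 0 else X s

theorem aU_bad (j : Fin k) : aU k s(0, j.succ) = 0 := by
  unfold aU
  rw [if_pos ⟨j, rfl⟩]

theorem aU_zero : aU k s((0 : Fin (k + 1)), 0) = X s(0, 0) := by
  unfold aU
  rw [if_neg]
  rintro ⟨j, hj⟩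
  rw [Sym2.eq_iff] at hj
  rcases hj with ⟨_, h⟩ | ⟨h, _⟩
  · exact (Fin.succ_ne_zero j) h.symm
  · exact (Fin.succ_ne_zero j) h.symm

theorem eval_aU (a : Sym2 (Fin (k + 1)) → R) (ha : ∀ j : Fin k, a s(0, j.succ) = 0)
    (s : Sym2 (Fin (k + 1))) :
    eval₂Hom (Int.castRingHom R) a (aU k s) = a s := by
  unfold aU
  split_ifs with h
  · obtain ⟨j, rfl⟩ := h
    rw [map_zero, ha j]
  · exact eval₂Hom_X' _ _ _

theorem comp_eval_aU (a : Sym2 (Fin (k + 1)) → R) (ha : ∀ j : Fin k, a s(0, j.succ) = 0) :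
    (eval₂Hom (Int.castRingHom R) a).comp (eval₂Hom (Int.castRingHom _) (aU k)) =
      eval₂Hom (Int.castRingHom R) a := by
  apply MvPolynomial.ringHom_ext'
  · exact RingHom.ext_int _ _
  · intro s
    rw [RingHom.comp_apply, eval₂Hom_X', eval_aU a ha, eval₂Hom_X']

theorem univ_rowZero (hn : Odd (k + 1)) :
    eval₂ (Int.castRingHom _) (aU k) (QuadGrp.halfDiscUniv (k + 1)) =
      X s(0, 0) * ((PM (aU k)).submatrix Fin.succ Fin.succ).det := by
  have h1 := two_mul_hd hn (aU k)
  rw [Matrix.det_succ_row_zero, Fin.sum_univ_succ] at h1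
  have h2 : ∀ j : Fin k, (-1 : MvPolynomial (Sym2 (Fin (k + 1))) ℤ) ^ ((j.succ : Fin (k + 1)) : ℕ) *
      PM (aU k) 0 j.succ * ((PM (aU k)).submatrix Fin.succ (Fin.succAbove j.succ)).det = 0 := by
    intro j
    rw [PM_apply, if_neg (Fin.succ_ne_zero j).symm, aU_bad, mul_zero, zero_mul]
  rw [Finset.sum_eq_zero (fun j _ => h2 j), add_zero, PM_apply, if_pos rfl, aU_zero,
    Fin.succAbove_zero] at h1
  have h3 : (2 : MvPolynomial (Sym2 (Fin (k + 1))) ℤ) *
      eval₂ (Int.castRingHom _) (aU k) (QuadGrp.halfDiscUniv (k + 1)) =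
      2 * (X s(0, 0) * ((PM (aU k)).submatrix Fin.succ Fin.succ).det) := by
    rw [h1]
    simp only [Fin.val_zero, pow_zero, one_mul]
    ring
  exact mul_left_cancel₀ two_ne_zero h3

theorem hd_rowZero (hn : Odd (k + 1)) (a : Sym2 (Fin (k + 1)) → R)
    (ha : ∀ j : Fin k, a s(0, j.succ) = 0) :
    eval₂ (Int.castRingHom R) a (QuadGrp.halfDiscUniv (k + 1)) =
      a s(0, 0) * ((PM a).submatrix Fin.succ Fin.succ).det := by
  have h0 := congrArg (eval₂Hom (Int.castRingHom R) a) (univ_rowZero (k := k) hn)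
  have hL : eval₂Hom (Int.castRingHom R) a
      (eval₂ (Int.castRingHom _) (aU k) (QuadGrp.halfDiscUniv (k + 1))) =
      eval₂ (Int.castRingHom R) a (QuadGrp.halfDiscUniv (k + 1)) := by
    have := congrArg (fun F => F (QuadGrp.halfDiscUniv (k + 1))) (comp_eval_aU a ha)
    exact this
  have hM : (eval₂Hom (Int.castRingHom R) a).mapMatrix (PM (aU k)) = PM a := by
    ext i j
    simp only [RingHom.mapMatrix_apply, Matrix.map_apply, PM_apply]
    split_ifs
    · rw [map_mul, eval_aU a ha, map_ofNat]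
    · exact eval_aU a ha _
  rw [hL, map_mul, eval₂Hom_X', RingHom.map_det] at h0
  rw [h0, ← hM]
  rfl

end RowZero

section Field

variable {K : Type u} [Field K] {V : Type v} [AddCommGroup V] [Module K V]

theorem PM_coeffs {n : ℕ} (b : Module.Basis (Fin n) K V) (q : QuadraticForm K V) (i j : Fin n) :
    PM (QuadGrp.coeffs b (LinearEquiv.refl K K) q) i j = QuadraticMap.polar q (b i) (b j) := by
  rw [PM_apply, QuadGrp.coeffs_mk]
  by_cases h : i = j
  · subst h
    rw [if_pos rfl, if_pos rfl, LinearEquiv.refl_apply, QuadraticMap.polar_self, two_smul, two_mul]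
  · rw [if_neg h, if_neg h, LinearEquiv.refl_apply]

theorem mulVec_PM {n : ℕ} (b : Module.Basis (Fin n) K V) (q : QuadraticForm K V) (c : Fin n → K)
    (i : Fin n) :
    (PM (QuadGrp.coeffs b (LinearEquiv.refl K K) q) *ᵥ c) i =
      QuadraticMap.polar q (b i) (∑ j, c j • b j) := by
  have h := map_sum (QuadraticMap.polarBilin q (b i)) (fun j => c j • b j) Finset.univ
  rw [← QuadraticMap.polarBilin_apply_apply, h]
  simp only [Matrix.mulVec, dotProduct, PM_coeffs, map_smul, QuadraticMap.polarBilin_apply_apply,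
    smul_eq_mul]
  exact Finset.sum_congr rfl (fun j _ => mul_comm _ _)

theorem mem_ker_polar_iff {n : ℕ} (b : Module.Basis (Fin n) K V) (q : QuadraticForm K V) (w : V) :
    w ∈ LinearMap.ker (QuadraticMap.polarBilin q) ↔ ∀ i, QuadraticMap.polar q (b i) w = 0 := by
  rw [LinearMap.mem_ker]
  constructor
  · intro h i
    rw [QuadraticMap.polar_comm, ← QuadraticMap.polarBilin_apply_apply, h]
    rfl
  · intro h
    apply b.ext
    intro i
    rw [QuadraticMap.polarBilin_apply_apply, QuadraticMap.polar_comm, h i]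
    rfl

theorem case_ker_bot (m : ℕ) (b : Module.Basis (Fin (2 * m + 1)) K V) (q : QuadraticForm K V)
    (hker : LinearMap.ker (QuadraticMap.polarBilin q) = ⊥) :
    QuadGrp.halfDisc b (LinearEquiv.refl K K) q ≠ 0 ∧ QuadraticMap.Nondegenerate (Q := q) := by
  constructor
  · intro h0
    have h1 := two_mul_hd (⟨m, rfl⟩ : Odd (2 * m + 1))
      (QuadGrp.coeffs b (LinearEquiv.refl K K) q)
    have h0' : eval₂ (Int.castRingHom K) (QuadGrp.coeffs b (LinearEquiv.refl K K) q)
        (QuadGrp.halfDiscUniv (2 * m + 1)) = 0 := h0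
    rw [h0', mul_zero] at h1
    obtain ⟨c, hc0, hc⟩ := Matrix.exists_mulVec_eq_zero_iff.mpr h1.symm
    have hw : (∑ j, c j • b j) ∈ LinearMap.ker (QuadraticMap.polarBilin q) := by
      rw [mem_ker_polar_iff b]
      intro i
      rw [← mulVec_PM, hc]
      rfl
    rw [hker, Submodule.mem_bot] at hw
    have := Fintype.linearIndependent_iff.mp b.linearIndependent c hw
    exact hc0 (funext this)
  · refine ⟨?_, ?_⟩
    · exact eq_bot_iff.mpr (QuadraticMap.radical_le_ker_polarBilin.trans hker.le)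
    · rw [hker]
      simp

theorem exists_linearEquiv_first {k : ℕ} (b : Module.Basis (Fin (k + 1)) K V) (v : V)
    (hv : v ≠ 0) : ∃ g : V ≃ₗ[K] V, g (b 0) = v := by
  classical
  have hs : LinearIndepOn K id ({v} : Set V) := LinearIndepOn.singleton hv
  obtain ⟨b₁, hb₁⟩ : ∃ b₁ : Module.Basis (hs.extend (Set.subset_univ _)) K V, ∀ x, b₁ x = x :=
    ⟨Module.Basis.extend hs, fun x => Module.Basis.extend_apply_self hs x⟩
  have hmem : v ∈ hs.extend (Set.subset_univ _) := hs.subset_extend _ (Set.mem_singleton v)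
  obtain ⟨e₀⟩ : Nonempty ((hs.extend (Set.subset_univ _)) ≃ Fin (k + 1)) := ⟨b₁.indexEquiv b⟩
  have he : (e₀.trans (Equiv.swap (e₀ ⟨v, hmem⟩) 0)).symm 0 = ⟨v, hmem⟩ := by
    rw [Equiv.symm_trans_apply, Equiv.symm_swap, Equiv.swap_apply_right, Equiv.symm_apply_apply]
  refine ⟨b.equiv (b₁.reindex (e₀.trans (Equiv.swap (e₀ ⟨v, hmem⟩) 0))) (Equiv.refl _), ?_⟩
  rw [Module.Basis.equiv_apply, Equiv.refl_apply, Module.Basis.reindex_apply, he, hb₁]

theorem halfDisc_map (m : ℕ) (b : Module.Basis (Fin (2 * m + 1)) K V) (q : QuadraticForm K V)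
    (g : V ≃ₗ[K] V) :
    QuadGrp.halfDisc (b.map g) (LinearEquiv.refl K K) q =
      LinearMap.det (g : V →ₗ[K] V) ^ 2 * QuadGrp.halfDisc b (LinearEquiv.refl K K) q := by
  rw [← QuadDisc9.halfDisc_comp m b q (g : V →ₗ[K] V)]
  unfold QuadGrp.halfDisc
  congr 1
  funext s
  induction s using Sym2.ind with
  | _ i j =>
    rw [QuadGrp.coeffs_mk, QuadGrp.coeffs_mk]
    simp only [Module.Basis.map_apply, QuadraticMap.comp_apply, LinearEquiv.coe_coe,
      QuadraticMap.polar, map_add]

theorem case_ker_ne (m : ℕ) (b : Module.Basis (Fin (2 * m + 1)) K V) (q : QuadraticForm K V)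
    (hv : b 0 ∈ LinearMap.ker (QuadraticMap.polarBilin q)) :
    QuadGrp.halfDisc b (LinearEquiv.refl K K) q ≠ 0 ↔ QuadraticMap.Nondegenerate (Q := q) := by
  obtain ⟨a, ha_def⟩ : ∃ a, a = QuadGrp.coeffs b (LinearEquiv.refl K K) q := ⟨_, rfl⟩
  have hv0 : QuadraticMap.polarBilin q (b 0) = 0 := LinearMap.mem_ker.mp hv
  have ha : ∀ j : Fin (2 * m), a s(0, j.succ) = 0 := by
    intro j
    rw [ha_def, QuadGrp.coeffs_mk, if_neg (Fin.succ_ne_zero j).symm, LinearEquiv.refl_apply,
      ← QuadraticMap.polarBilin_apply_apply, hv0]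
    rfl
  have ha0 : a s(0, 0) = q (b 0) := by
    rw [ha_def, QuadGrp.coeffs_mk, if_pos rfl, LinearEquiv.refl_apply]
  have hhd : QuadGrp.halfDisc b (LinearEquiv.refl K K) q =
      q (b 0) * ((PM a).submatrix Fin.succ Fin.succ).det := by
    rw [← ha0, ← hd_rowZero (k := 2 * m) ⟨m, rfl⟩ a ha, ha_def]
    rfl
  obtain ⟨P', hP'⟩ : ∃ P', P' = (PM a).submatrix Fin.succ Fin.succ := ⟨_, rfl⟩
  rw [← hP'] at hhd
  have hmv : ∀ (c : Fin (2 * m) → K) (i : Fin (2 * m)),
      (P' *ᵥ c) i = QuadraticMap.polar q (b i.succ)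
        (∑ j, (Fin.cons 0 c : Fin (2 * m + 1) → K) j • b j) := by
    intro c i
    rw [← mulVec_PM, ← ha_def, hP']
    simp [Matrix.mulVec, dotProduct, Fin.sum_univ_succ]
  have hker_sub : ∀ c : Fin (2 * m) → K, P' *ᵥ c = 0 ↔
      (∑ j, (Fin.cons 0 c : Fin (2 * m + 1) → K) j • b j) ∈
        LinearMap.ker (QuadraticMap.polarBilin q) := by
    intro c
    rw [mem_ker_polar_iff b]
    constructor
    · intro h i
      refine Fin.cases ?_ (fun i' => ?_) i
      · rw [← QuadraticMap.polarBilin_apply_apply, hv0]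
        rfl
      · rw [← hmv, h]
        rfl
    · intro h
      funext i
      rw [hmv, h i.succ]
      rfl
  rw [hhd, mul_ne_zero_iff]
  constructor
  · rintro ⟨hq0, hdet⟩
    have hkspan : ∀ w ∈ LinearMap.ker (QuadraticMap.polarBilin q), w = (b.repr w 0) • b 0 := by
      intro w hw
      obtain ⟨c', hc'⟩ : ∃ c' : Fin (2 * m) → K, c' = fun j => b.repr w j.succ := ⟨_, rfl⟩
      have hsplit : w = (b.repr w 0) • b 0 +
          ∑ j, (Fin.cons 0 c' : Fin (2 * m + 1) → K) j • b j := by
        conv_lhs => rw [← b.sum_repr w]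
        rw [Fin.sum_univ_succ, Fin.sum_univ_succ]
        simp only [Fin.cons_zero, Fin.cons_succ, zero_smul, zero_add, hc']
      have hw' : (∑ j, (Fin.cons 0 c' : Fin (2 * m + 1) → K) j • b j) ∈
          LinearMap.ker (QuadraticMap.polarBilin q) := by
        have h1 : (∑ j, (Fin.cons 0 c' : Fin (2 * m + 1) → K) j • b j) =
            w - (b.repr w 0) • b 0 := eq_sub_of_add_eq' hsplit.symm
        rw [h1]
        exact Submodule.sub_mem _ hw (Submodule.smul_mem _ _ hv)
      have hc0 : c' = 0 := Matrix.eq_zero_of_mulVec_eq_zero hdet ((hker_sub c').mpr hw')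
      have hz : ∑ j, (Fin.cons 0 (0 : Fin (2 * m) → K) : Fin (2 * m + 1) → K) j • b j = 0 := by
        rw [Fin.sum_univ_succ]
        simp
      rw [hc0, hz, add_zero] at hsplit
      exact hsplit
    refine ⟨?_, ?_⟩
    · rw [eq_bot_iff]
      intro w hw
      have hwk := QuadraticMap.radical_le_ker_polarBilin hw
      have h1 := hkspan w hwk
      have h2 : q w = 0 := (QuadraticMap.mem_radical_iff'.mp hw).1
      rw [h1, QuadraticMap.map_smul] at h2
      have hc : b.repr w 0 = 0 := by
        rcases smul_eq_zero.mp h2 with h | h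
        · exact mul_self_eq_zero.mp h
        · exact absurd h hq0
      rw [Submodule.mem_bot, h1, hc, zero_smul]
    · rw [rank_submodule_le_one_iff']
      refine ⟨b 0, fun w hw => ?_⟩
      rw [hkspan w hw]
      exact Submodule.smul_mem _ _ (Submodule.mem_span_singleton_self _)
  · intro hnd
    constructor
    · intro hq0
      have hrad : b 0 ∈ q.radical := by
        rw [QuadraticMap.mem_radical_iff']
        refine ⟨hq0, fun x => ?_⟩
        have h := congrArg (fun f => f x) hv0
        simp only [QuadraticMap.polarBilin_apply_apply, QuadraticMap.polar,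
          LinearMap.zero_apply] at h
        rw [hq0, sub_zero, sub_eq_zero] at h
        exact h
      rw [hnd.radical_eq_bot, Submodule.mem_bot] at hrad
      exact b.ne_zero 0 hrad
    · intro hdet
      obtain ⟨c, hc0, hc⟩ := Matrix.exists_mulVec_eq_zero_iff.mpr hdet
      have hw := (hker_sub c).mp hc
      obtain ⟨v0, hv0'⟩ := (rank_submodule_le_one_iff' _).mp hnd.rank_rad_polar_le
      obtain ⟨r, hr⟩ := Submodule.mem_span_singleton.mp (hv0' hv)
      obtain ⟨r', hr'⟩ := Submodule.mem_span_singleton.mp (hv0' hw)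
      have hr0 : r ≠ 0 := by
        rintro rfl
        rw [zero_smul] at hr
        exact b.ne_zero 0 hr.symm
      have hwb : ∑ j, (Fin.cons 0 c : Fin (2 * m + 1) → K) j • b j = (r' * r⁻¹) • b 0 := by
        rw [← hr', ← hr, smul_smul, mul_assoc, inv_mul_cancel₀ hr0, mul_one]
      have h3 := congrArg (fun x => (b.repr x : Fin (2 * m + 1) → K)) hwb
      simp only [Module.Basis.repr_sum_self, map_smul, Module.Basis.repr_self] at h3
      apply hc0
      funext j
      have h4 := congrFun h3 j.succ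
      simpa [Finsupp.single_apply, (Fin.succ_ne_zero j).symm] using h4

theorem field_main (m : ℕ) (b : Module.Basis (Fin (2 * m + 1)) K V) (q : QuadraticForm K V) :
    QuadGrp.halfDisc b (LinearEquiv.refl K K) q ≠ 0 ↔ QuadraticMap.Nondegenerate (Q := q) := by
  by_cases hker : LinearMap.ker (QuadraticMap.polarBilin q) = ⊥
  · have := case_ker_bot m b q hker
    exact ⟨fun _ => this.2, fun _ => this.1⟩
  · obtain ⟨v, hvk, hv0⟩ := (Submodule.ne_bot_iff _).mp hker
    obtain ⟨g, hg⟩ := exists_linearEquiv_first b v hv0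
    have h1 := halfDisc_map m b q g
    have hdet : LinearMap.det (g : V →ₗ[K] V) ≠ 0 := (LinearEquiv.isUnit_det' g).ne_zero
    have h2 := case_ker_ne m (b.map g) q (by rw [Module.Basis.map_apply, hg]; exact hvk)
    rw [← h2, h1]
    constructor
    · intro h
      exact mul_ne_zero (pow_ne_zero 2 hdet) h
    · intro h h0
      exact h (by rw [h0, mul_zero])

end Field

section BC

open TensorProduct

variable {R : Type u} [CommRing R] {M : Type v} [AddCommGroup M] [Module R M] [Module.Free R M]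
variable (A : Type*) [CommRing A] [Algebra R A]

theorem baseChangeForm_one_tmul (Q : QuadraticForm R M) (x : M) :
    QuadGrp.baseChangeForm A Q ((1 : A) ⊗ₜ[R] x) = algebraMap R A (Q x) := by
  unfold QuadGrp.baseChangeForm
  rw [LinearMap.compQuadraticMap_apply, QuadGrp.baseChange_tmul, LinearEquiv.coe_coe,
    TensorProduct.AlgebraTensorModule.rid_tmul, mul_one, Algebra.algebraMap_eq_smul_one]

theorem coeffs_baseChange {n : ℕ} (b : Module.Basis (Fin n) R M) (Q : QuadraticForm R M) :
    QuadGrp.coeffs (b.baseChange A) (LinearEquiv.refl A A) (QuadGrp.baseChangeForm A Q) =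
      (algebraMap R A) ∘ QuadGrp.coeffs b (LinearEquiv.refl R R) Q := by
  funext s
  induction s using Sym2.ind with
  | _ i j =>
    rw [Function.comp_apply, QuadGrp.coeffs_mk, QuadGrp.coeffs_mk]
    simp only [Module.Basis.baseChange_apply, LinearEquiv.refl_apply]
    split_ifs with h
    · exact baseChangeForm_one_tmul A Q _
    · rw [QuadraticMap.polar, QuadraticMap.polar, ← TensorProduct.tmul_add,
        baseChangeForm_one_tmul, baseChangeForm_one_tmul, baseChangeForm_one_tmul, map_sub,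
        map_sub]

theorem halfDisc_baseChange {n : ℕ} (b : Module.Basis (Fin n) R M) (Q : QuadraticForm R M) :
    algebraMap R A (QuadGrp.halfDisc b (LinearEquiv.refl R R) Q) =
      QuadGrp.halfDisc (b.baseChange A) (LinearEquiv.refl A A) (QuadGrp.baseChangeForm A Q) := by
  unfold QuadGrp.halfDisc
  rw [coeffs_baseChange, MvPolynomial.eval₂_comp_left (algebraMap R A)]
  congr 1
  exact RingHom.ext_int _ _

end BC

section Main

variable {R : Type u} [CommRing R] {M : Type v} [AddCommGroup M] [Module R M] [Module.Free R M]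

theorem isUnit_iff_forall_residueField_ne_zero (x : R) :
    IsUnit x ↔ ∀ (p : Ideal R) [p.IsPrime], algebraMap R p.ResidueField x ≠ 0 := by
  constructor
  · intro hx p _
    exact (hx.map (algebraMap R p.ResidueField)).ne_zero
  · intro h
    by_contra hx
    obtain ⟨I, hI, hxI⟩ := exists_max_ideal_of_mem_nonunits hx
    haveI := hI.isPrime
    exact h I (Ideal.algebraMap_residueField_eq_zero.mpr hxI)

theorem key (m : ℕ) (b : Module.Basis (Fin (2 * m + 1)) R M) (Q : QuadraticForm R M)
    (p : Ideal R) [p.IsPrime] :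
    algebraMap R p.ResidueField (QuadGrp.halfDisc b (LinearEquiv.refl R R) Q) ≠ 0 ↔
      QuadraticMap.Nondegenerate (Q := QuadGrp.baseChangeForm p.ResidueField Q) := by
  rw [halfDisc_baseChange p.ResidueField b Q]
  exact field_main m (b.baseChange p.ResidueField) (QuadGrp.baseChangeForm p.ResidueField Q)

theorem main17015 (m : ℕ) (b : Module.Basis (Fin (2 * m + 1)) R M) (Q : QuadraticForm R M) :
    IsUnit (QuadGrp.halfDisc b (LinearEquiv.refl R R) Q) ↔
      ∀ (p : Ideal R) [p.IsPrime],
        QuadraticMap.Nondegenerate (Q := QuadGrp.baseChangeForm p.ResidueField Q) := by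
  rw [isUnit_iff_forall_residueField_ne_zero]
  exact ⟨fun h p _ => (key m b Q p).mp (h p), fun h p _ => (key m b Q p).mpr (h p)⟩

end Main

end Groth.Agent.Lib.QuadHalfH1
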