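import Mathlib

/-!
# Integral closure of a UFD in a quadratic extension `K(√d)`, `d` squarefree, `2` invertible (S18888)
-/

universe u v w

namespace Groth.Agent.Lib.QuadIntClosure

open Polynomial

/-- In a UFD, if `β² d ∈ A` with `d` squarefree then `β ∈ A`. -/
lemma mem_of_sq_mul_squarefree {A K : Type*} [CommRing A] [IsDomain A]
    [UniqueFactorizationMonoid A]
    [Field K] [Algebra A K] [IsFractionRing A K] (d : A) (hd : Squarefree d) (β : K)
    (h : ∃ e : A, algebraMap A K e = β * β * algebraMap A K d) :
    ∃ b' : A, algebraMap A K b' = β := by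
  obtain ⟨e, he⟩ := h
  obtain ⟨u, v, hrel, hβ⟩ := IsFractionRing.exists_reduced_fraction (A := A) β
  have hv0 : algebraMap A K (v : A) ≠ 0 :=
    IsFractionRing.to_map_ne_zero_of_mem_nonZeroDivisors v.2
  rw [IsFractionRing.mk'_eq_div] at hβ
  have h1 : e * (v * v) = u * u * d := by
    apply IsFractionRing.injective A K
    simp only [map_mul]
    rw [he, ← hβ]
    field_simp
  have hdvd : (v : A) * v ∣ d := by
    have hrel' : IsRelPrime ((v : A) * v) (u * u) := by
      have := hrel.symm
      exact (this.mul_left this).mul_right (this.mul_left this)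
    exact hrel'.dvd_of_dvd_mul_left ⟨e, by rw [← h1]; ring⟩
  have hvu : IsUnit (v : A) := hd _ hdvd
  obtain ⟨w, hw⟩ := hvu.exists_right_inv
  refine ⟨u * w, ?_⟩
  have h2 : algebraMap A K (v : A) * algebraMap A K w = 1 := by rw [← map_mul, hw, map_one]
  rw [map_mul, ← hβ, eq_div_iff hv0, mul_assoc, mul_comm (algebraMap A K w), h2, mul_one]

theorem main {A : Type u} {K : Type v} {L : Type w}
    [CommRing A] [IsDomain A] [UniqueFactorizationMonoid A] [Field K] [Algebra A K]
    [IsFractionRing A K]
    [Field L] [Algebra K L] [Algebra A L] [IsScalarTower A K L]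
    (h2 : IsUnit (2 : A)) (hL : Module.finrank K L = 2)
    (d : A) (hd : Squarefree d) (y : L) (hy : y * y = algebraMap A L d)
    (hyK : y ∉ Set.range (algebraMap K L)) :
    integralClosure A L = Algebra.adjoin A {y} := by
  classical
  haveI : FiniteDimensional K L := Module.finite_of_finrank_pos (by rw [hL]; norm_num)
  have hli : LinearIndependent K ![(1 : L), y] := by
    rw [LinearIndependent.pair_iff' one_ne_zero]
    intro a ha
    exact hyK ⟨a, by rw [Algebra.algebraMap_eq_smul_one]; exact ha⟩
  let b : Module.Basis (Fin 2) K L :=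
    basisOfLinearIndependentOfCardEqFinrank hli (by simp [hL])
  have hb : ⇑b = ![(1 : L), y] := coe_basisOfLinearIndependentOfCardEqFinrank hli _
  have hb0 : b 0 = 1 := by rw [hb]; rfl
  have hb1 : b 1 = y := by rw [hb]; rfl
  have hrepr0 : ∀ s t : K, b.repr (s • (1 : L) + t • y) 0 = s := by
    intro s t
    rw [← hb0, ← hb1]
    simp [map_add, map_smul, Module.Basis.repr_self, Finsupp.single_apply]
  have hrepr1 : ∀ s t : K, b.repr (s • (1 : L) + t • y) 1 = t := by
    intro s t
    rw [← hb0, ← hb1]
    simp [map_add, map_smul, Module.Basis.repr_self, Finsupp.single_apply]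
  have hyint : IsIntegral A y := by
    refine ⟨X ^ 2 - C d, monic_X_pow_sub_C d (by norm_num), ?_⟩
    rw [eval₂_sub, eval₂_pow, eval₂_X, eval₂_C, pow_two, hy, sub_self]
  apply le_antisymm
  · intro z hz
    have hzint : IsIntegral A z := hz
    set α := b.repr z 0 with hα
    set β := b.repr z 1 with hβ
    have hzrep : z = α • (1 : L) + β • y := by
      have := b.sum_repr z
      rw [Fin.sum_univ_two, hb0, hb1] at this
      exact this.symm
    set d' : K := algebraMap A K d with hd'
    have hyd : y * y = d' • (1 : L) := by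
      rw [hy, IsScalarTower.algebraMap_apply A K L, Algebra.algebraMap_eq_smul_one]
    have hzy : z * y = (β * d') • (1 : L) + α • y := by
      rw [hzrep, add_mul, smul_mul_assoc, one_mul, smul_mul_assoc, hyd, smul_smul, add_comm]
    have hM00 : Algebra.leftMulMatrix b z 0 0 = α := by
      rw [Algebra.leftMulMatrix_eq_repr_mul, hb0, mul_one]
    have hM10 : Algebra.leftMulMatrix b z 1 0 = β := by
      rw [Algebra.leftMulMatrix_eq_repr_mul, hb0, mul_one]
    have hM01 : Algebra.leftMulMatrix b z 0 1 = β * d' := by
      rw [Algebra.leftMulMatrix_eq_repr_mul, hb1, hzy, hrepr0]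
    have hM11 : Algebra.leftMulMatrix b z 1 1 = α := by
      rw [Algebra.leftMulMatrix_eq_repr_mul, hb1, hzy, hrepr1]
    have hT : Algebra.trace K L z = α + α := by
      rw [Algebra.trace_eq_matrix_trace b, Matrix.trace_fin_two, hM00, hM11]
    have hN : Algebra.norm K z = α * α - β * d' * β := by
      rw [Algebra.norm_eq_matrix_det b, Matrix.det_fin_two, hM00, hM11, hM01, hM10]
    obtain ⟨t, ht⟩ := IsIntegrallyClosed.isIntegral_iff.mp
      (Algebra.isIntegral_trace (R := A) (L := K) (F := L) hzint)
    obtain ⟨c, hc⟩ := IsIntegrallyClosed.isIntegral_iff.mp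
      (Algebra.isIntegral_norm (R := A) K hzint)
    rw [hT] at ht
    rw [hN] at hc
    obtain ⟨i2, hi2⟩ := h2.exists_right_inv
    have hα' : algebraMap A K (t * i2) = α := by
      have h3 : (2 : K) * algebraMap A K i2 = 1 := by
        rw [← map_ofNat (algebraMap A K) 2, ← map_mul, hi2, map_one]
      rw [map_mul, ht]
      calc (α + α) * algebraMap A K i2 = α * (2 * algebraMap A K i2) := by ring
        _ = α := by rw [h3, mul_one]
    obtain ⟨b', hb'⟩ := mem_of_sq_mul_squarefree d hd β
      ⟨(t * i2) * (t * i2) - c, by rw [map_sub, map_mul, hα', hc]; ring⟩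
    rw [hzrep, ← hα', ← hb']
    rw [algebraMap_smul, algebraMap_smul]
    exact add_mem (Subalgebra.smul_mem _ (one_mem _) _)
      (Subalgebra.smul_mem _ (Algebra.subset_adjoin (Set.mem_singleton y)) _)
  · apply Algebra.adjoin_le
    intro x hx
    rw [Set.mem_singleton_iff] at hx
    subst hx
    exact hyint

end Groth.Agent.Lib.QuadIntClosure
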