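import Mathlib
import Groth.Prelude.Def_QuadGrp

/-!
# Infinitesimal isometries `1 + ε X_{u,w}` over dual numbers (helper1)

For a quadratic form `Q` over a ring `A` with an element `ε`, `ε² = 0`, the map
`h = 1 + ε X_{u,w}`, `X_{u,w} y = B(u,y) w − B(w,y) u`, is an isometry, and the automorphism of the
Clifford algebra it induces is conjugation by the even unit `1 − ε ι(u)ι(w)`.
-/

namespace Groth.Agent.Lib.QuadLieH1

open QuadraticMap CliffordAlgebra TensorProduct

universe u v

section Abstract

variable {A : Type*} [CommRing A] {M : Type*} [AddCommGroup M] [Module A M] (Q : QuadraticForm A M)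

/-- infinitesimal rotation in the plane of `u`, `w`. -/
noncomputable def lieX (u w : M) : M →ₗ[A] M :=
  (polarBilin Q u).smulRight w - (polarBilin Q w).smulRight u

theorem lieX_apply (u w y : M) : lieX Q u w y = polar Q u y • w - polar Q w y • u := by
  simp [lieX]

theorem polar_lieX_self (u w y : M) : polar Q y (lieX Q u w y) = 0 := by
  rw [lieX_apply, polar_sub_right, polar_smul_right, polar_smul_right, smul_eq_mul, smul_eq_mul,
    polar_comm Q y w, polar_comm Q y u]
  ring

variable (ε : A)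

/-- the isometry `1 + ε X_{u,w}` -/
noncomputable def lieH (hε : ε * ε = 0) (u w : M) : M ≃ₗ[A] M :=
  LinearEquiv.ofLinear (LinearMap.id + ε • lieX Q u w) (LinearMap.id - ε • lieX Q u w)
    (by
      ext y
      simp only [LinearMap.comp_apply, LinearMap.add_apply, LinearMap.sub_apply,
        LinearMap.id_apply, LinearMap.smul_apply, map_add, map_sub, map_smul, smul_add, smul_sub,
        smul_smul, hε, zero_smul, add_zero, sub_zero]
      abel)
    (by
      ext y
      simp only [LinearMap.comp_apply, LinearMap.add_apply, LinearMap.sub_apply,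
        LinearMap.id_apply, LinearMap.smul_apply, map_add, map_sub, map_smul, smul_add, smul_sub,
        smul_smul, hε, zero_smul, add_zero, sub_zero]
      abel)

theorem lieH_apply (hε : ε * ε = 0) (u w y : M) :
    lieH Q ε hε u w y = y + ε • lieX Q u w y := rfl

theorem lieH_mem_O (hε : ε * ε = 0) (u w : M) : lieH Q ε hε u w ∈ QuadGrp.O Q := by
  rw [QuadGrp.mem_O]
  intro y
  rw [lieH_apply, QuadraticMap.map_add (⇑Q), QuadraticMap.map_smul, polar_smul_right,
    polar_lieX_self, hε]
  simp

section Ring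

variable {B : Type*} [Ring B] [Algebra A B]

theorem eps_smul_sq (hε : ε * ε = 0) (a : B) : (ε • a) * (ε • a) = 0 := by
  rw [smul_mul_smul_comm, hε, zero_smul]

theorem one_sub_mul_one_add (hε : ε * ε = 0) (a : B) : (1 - ε • a) * (1 + ε • a) = 1 := by
  have h : ∀ b : B, (1 - b) * (1 + b) = 1 - b * b := fun b => by noncomm_ring
  rw [h, eps_smul_sq ε hε, sub_zero]

theorem one_add_mul_one_sub (hε : ε * ε = 0) (a : B) : (1 + ε • a) * (1 - ε • a) = 1 := by
  have h : ∀ b : B, (1 + b) * (1 - b) = 1 - b * b := fun b => by noncomm_ring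
  rw [h, eps_smul_sq ε hε, sub_zero]

theorem conj_aux (hε : ε * ε = 0) (a x z : B) (h : a * x = x * a + z) :
    (1 - ε • a) * x * (1 + ε • a) = x - ε • z := by
  have h0 : (ε • a) * x * (ε • a) = 0 := by
    rw [smul_mul_assoc, smul_mul_smul_comm, hε, zero_smul]
  have h1 : ∀ b : B, (1 - b) * x * (1 + b) = x + x * b - b * x - b * x * b := fun b => by
    noncomm_ring
  rw [h1, h0, sub_zero, mul_smul_comm, smul_mul_assoc, h, smul_add]
  abel

end Ring

theorem comm_key (u w y : M) :
    ι Q u * ι Q w * ι Q y =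
      ι Q y * (ι Q u * ι Q w) + (polar Q w y • ι Q u - polar Q u y • ι Q w) := by
  have h1 : ι Q w * ι Q y = algebraMap A _ (polar Q w y) - ι Q y * ι Q w :=
    eq_sub_of_add_eq (ι_mul_ι_add_swap w y)
  have h2 : ι Q u * ι Q y = algebraMap A _ (polar Q u y) - ι Q y * ι Q u :=
    eq_sub_of_add_eq (ι_mul_ι_add_swap u y)
  rw [mul_assoc, h1, mul_sub, ← mul_assoc (ι Q u) (ι Q y), h2, sub_mul, Algebra.smul_def,
    Algebra.smul_def, Algebra.commutes (polar Q w y) (ι Q u), mul_assoc (ι Q y) (ι Q u) (ι Q w)]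
  abel

theorem map_lieH_eq_conj (hε : ε * ε = 0) (u w : M) (x : CliffordAlgebra Q) :
    CliffordAlgebra.map (QuadGrp.isometryOfMem Q (lieH Q ε hε u w) (lieH_mem_O Q ε hε u w)) x =
      (1 - ε • (ι Q u * ι Q w)) * x * (1 + ε • (ι Q u * ι Q w)) := by
  induction x using CliffordAlgebra.induction with
  | algebraMap r =>
    rw [AlgHom.commutes, ← Algebra.commutes, mul_assoc, one_sub_mul_one_add ε hε, mul_one]
  | ι y =>
    rw [CliffordAlgebra.map_apply_ι, QuadGrp.isometryOfMem_apply, lieH_apply,
      conj_aux ε hε _ _ _ (comm_key Q u w y), lieX_apply]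
    simp only [map_add, map_smul, map_sub, smul_sub]
    abel
  | mul x y hx hy =>
    rw [map_mul, hx, hy]
    simp only [mul_assoc]
    rw [← mul_assoc (1 + ε • (ι Q u * ι Q w)) (1 - ε • (ι Q u * ι Q w)),
      one_add_mul_one_sub ε hε, one_mul]
  | add x y hx hy => rw [map_add, hx, hy, ← add_mul, ← mul_add]

theorem lieH_dickson (hε : ε * ε = 0) (u w : M) :
    QuadGrp.IsDicksonTrivial Q (lieH Q ε hε u w) (lieH_mem_O Q ε hε u w) := by
  intro z hz
  rw [map_lieH_eq_conj]
  have ha : ι Q u * ι Q w ∈ CliffordAlgebra.even Q := by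
    rw [← Subalgebra.mem_toSubmodule, CliffordAlgebra.even_toSubmodule]
    exact CliffordAlgebra.ι_mul_ι_mem_evenOdd_zero Q u w
  have hcomm : (ι Q u * ι Q w) * (z : CliffordAlgebra Q) =
      (z : CliffordAlgebra Q) * (ι Q u * ι Q w) := by
    have := (Subalgebra.mem_center_iff.mp hz) ⟨_, ha⟩
    exact congrArg Subtype.val this
  have h2 : (1 - ε • (ι Q u * ι Q w)) * (z : CliffordAlgebra Q) =
      (z : CliffordAlgebra Q) * (1 - ε • (ι Q u * ι Q w)) := by
    rw [sub_mul, mul_sub, one_mul, mul_one, smul_mul_assoc, mul_smul_comm, hcomm]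
  rw [h2, mul_assoc, one_sub_mul_one_add ε hε, mul_one]

theorem lieH_mem_SOeven (hε : ε * ε = 0) (u w : M) : lieH Q ε hε u w ∈ QuadGrp.SOeven Q :=
  ⟨lieH_mem_O Q ε hε u w, lieH_dickson Q ε hε u w⟩

end Abstract

section BaseChange

variable {R : Type u} [CommRing R] {M : Type v} [AddCommGroup M] [Module R M] [Module.Free R M]
  (A : Type*) [CommRing A] [Algebra R A] (Q : QuadraticForm R M)

theorem baseChangeForm_apply (z : A ⊗[R] M) :
    QuadGrp.baseChangeForm A Q z =
      AlgebraTensorModule.rid R A A (QuadGrp.baseChange A Q z) := rfl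

theorem baseChangeForm_tmul (a : A) (m : M) :
    QuadGrp.baseChangeForm A Q (a ⊗ₜ[R] m) = a * a * algebraMap R A (Q m) := by
  rw [baseChangeForm_apply, QuadGrp.baseChange_tmul, AlgebraTensorModule.rid_tmul,
    Algebra.smul_def, mul_comm]

theorem polar_baseChangeForm_one_tmul (x y : M) :
    polar (QuadGrp.baseChangeForm A Q) ((1 : A) ⊗ₜ[R] x) ((1 : A) ⊗ₜ[R] y) =
      algebraMap R A (polar Q x y) := by
  simp only [polar, ← TensorProduct.tmul_add, baseChangeForm_tmul, one_mul, map_sub]

theorem mem_O_baseChange_iff (h : (A ⊗[R] M) ≃ₗ[A] (A ⊗[R] M)) :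
    h ∈ QuadGrp.O (QuadGrp.baseChange A Q) ↔ h ∈ QuadGrp.O (QuadGrp.baseChangeForm A Q) := by
  simp only [QuadGrp.mem_O, baseChangeForm_apply]
  exact ⟨fun H v => by rw [H v], fun H v => (AlgebraTensorModule.rid R A A).injective (H v)⟩

theorem algebraMap_smul_one_tmul (r : R) (m : M) :
    algebraMap R A r • ((1 : A) ⊗ₜ[R] m) = (1 : A) ⊗ₜ[R] (r • m) := by
  rw [TensorProduct.smul_tmul', smul_eq_mul, mul_one, Algebra.algebraMap_eq_smul_one,
    TensorProduct.smul_tmul]

theorem lieX_baseChange_one_tmul (u w y : M) :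
    lieX (QuadGrp.baseChangeForm A Q) ((1 : A) ⊗ₜ[R] u) ((1 : A) ⊗ₜ[R] w) ((1 : A) ⊗ₜ[R] y) =
      (1 : A) ⊗ₜ[R] (lieX Q u w y) := by
  rw [lieX_apply, lieX_apply, polar_baseChangeForm_one_tmul, polar_baseChangeForm_one_tmul,
    algebraMap_smul_one_tmul, algebraMap_smul_one_tmul, TensorProduct.tmul_sub]

/-- the extraction map `R[ε] ⊗ M → M`, `(a + bε) ⊗ m ↦ b m`. -/
noncomputable def piD : (DualNumber R) ⊗[R] M →ₗ[R] M :=
  TensorProduct.lift ((LinearMap.lsmul R M).comp (TrivSqZeroExt.sndHom R R))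

theorem piD_tmul (d : DualNumber R) (m : M) :
    piD (d ⊗ₜ[R] m) = TrivSqZeroExt.snd d • m := by
  simp [piD]

theorem piD_eps_smul (m : M) :
    piD ((DualNumber.eps : DualNumber R) • ((1 : DualNumber R) ⊗ₜ[R] m)) = m := by
  rw [TensorProduct.smul_tmul', smul_eq_mul, mul_one, piD_tmul, DualNumber.snd_eps, one_smul]

theorem comm_lieX_of_comm (g : M ≃ₗ[R] M) (u w : M)
    (H : g.baseChange R (DualNumber R) M M *
        lieH (QuadGrp.baseChangeForm (DualNumber R) Q) DualNumber.eps DualNumber.eps_mul_eps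
          ((1 : DualNumber R) ⊗ₜ[R] u) ((1 : DualNumber R) ⊗ₜ[R] w) =
      lieH (QuadGrp.baseChangeForm (DualNumber R) Q) DualNumber.eps DualNumber.eps_mul_eps
          ((1 : DualNumber R) ⊗ₜ[R] u) ((1 : DualNumber R) ⊗ₜ[R] w) *
        g.baseChange R (DualNumber R) M M) (y : M) :
    g (lieX Q u w y) = lieX Q u w (g y) := by
  have h1 := LinearEquiv.congr_fun H ((1 : DualNumber R) ⊗ₜ[R] y)
  simp only [LinearEquiv.mul_apply, lieH_apply, lieX_baseChange_one_tmul, map_add, map_smul,
    LinearEquiv.baseChange_tmul] at h1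
  have h2 := add_left_cancel h1
  have h3 := congrArg piD h2
  rwa [piD_eps_smul, piD_eps_smul] at h3

theorem scalar_comm (g : M ≃ₗ[R] M) (c : R) (hgc : ∀ v, g v = c • v)
    (h : (A ⊗[R] M) ≃ₗ[A] (A ⊗[R] M)) :
    g.baseChange R A M M * h = h * g.baseChange R A M M := by
  have key : ∀ z : A ⊗[R] M, g.baseChange R A M M z = c • z := by
    intro z
    induction z using TensorProduct.induction_on with
    | zero => simp
    | tmul a m => rw [LinearEquiv.baseChange_tmul, hgc, TensorProduct.tmul_smul]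
    | add x y hx hy => rw [map_add, hx, hy, smul_add]
  refine LinearEquiv.ext fun z => ?_
  rw [LinearEquiv.mul_apply, LinearEquiv.mul_apply, key, key, ← algebraMap_smul A c z, map_smul,
    algebraMap_smul]

end BaseChange

section Algebra

variable {R : Type u} [CommRing R] {n : ℕ} (Q : QuadraticForm R (Fin n → R))

theorem polar_isometry (g : (Fin n → R) ≃ₗ[R] (Fin n → R)) (hg : g ∈ QuadGrp.O Q)
    (x y : Fin n → R) : polar Q (g x) (g y) = polar Q x y := by
  have := (QuadGrp.mem_O Q g).mp hg
  simp only [polar, ← map_add, this]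

theorem exists_third (hn : 3 ≤ n) (i k : Fin n) : ∃ j : Fin n, j ≠ i ∧ j ≠ k := by
  have h3 : ({i, k} : Finset (Fin n)).card < (Finset.univ : Finset (Fin n)).card := by
    calc ({i, k} : Finset (Fin n)).card ≤ 2 := Finset.card_le_two
      _ < n := by omega
      _ = (Finset.univ : Finset (Fin n)).card := by simp
  obtain ⟨j, -, hj⟩ := Finset.exists_mem_notMem_of_card_lt_card h3
  exact ⟨j, fun h => hj (by simp [h]), fun h => hj (by simp [h])⟩

/-- all `2 × 2` minors of `g` are those of the identity ⟹ `g` is a scalar `c`, `c² = 1`. -/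
theorem scalar_of_minors (hn : 3 ≤ n) (g : (Fin n → R) ≃ₗ[R] (Fin n → R))
    (Min : ∀ (u w : Fin n → R) (k l : Fin n),
      g u k * g w l - g w k * g u l = u k * w l - w k * u l) :
    ∃ c : R, c * c = 1 ∧ ∀ v, g v = c • v := by
  classical
  set G : Fin n → Fin n → R := fun k i => g (Pi.single i 1) k with hG
  have MinG : ∀ i j k l : Fin n, G k i * G l j - G k j * G l i =
      (if k = i then 1 else 0) * (if l = j then 1 else 0) -
        (if k = j then 1 else 0) * (if l = i then 1 else 0) := by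
    intro i j k l
    have := Min (Pi.single i 1) (Pi.single j 1) k l
    simpa only [Pi.single_apply] using this
  have off : ∀ k i : Fin n, k ≠ i → G k i = 0 := by
    intro k i hki
    obtain ⟨j, hji, hjk⟩ := exists_third hn i k
    have h1 := MinG i j i j
    have h2 := MinG i j k j
    have h3 := MinG i j k i
    simp only [if_true, if_neg hki, if_neg hji, if_neg (Ne.symm hji), if_neg (Ne.symm hjk),
      mul_one, mul_zero, zero_mul, sub_zero, sub_self] at h1 h2 h3
    linear_combination (-(G k i)) * h1 + (G i i) * h2 - (G j i) * h3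
  have diag : ∀ i j : Fin n, i ≠ j → G i i * G j j = 1 := by
    intro i j hij
    have h1 := MinG i j i j
    simp only [if_true, if_neg hij, if_neg (Ne.symm hij), mul_one, mul_zero, sub_zero] at h1
    rw [off i j hij, zero_mul, sub_zero] at h1
    exact h1
  have eqd : ∀ j k : Fin n, G j j = G k k := by
    intro j k
    by_cases hjk : j = k
    · rw [hjk]
    obtain ⟨i, hij, hik⟩ := exists_third hn j k
    have hij' := diag i j hij
    have hik' := diag i k hik
    linear_combination (-(G j j)) * hik' + (G k k) * hij'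
  have hsum : ∀ v : Fin n → R, g v = ∑ i, v i • g (Pi.single i 1) := by
    intro v
    have := LinearMap.pi_apply_eq_sum_univ (g : (Fin n → R) →ₗ[R] (Fin n → R)) v
    rw [LinearEquiv.coe_coe] at this
    rw [this]
    refine Finset.sum_congr rfl fun i _ => ?_
    congr 2
    funext j
    simp [Pi.single_apply, eq_comm]
  have i0 : Fin n := ⟨0, by omega⟩
  refine ⟨G ⟨0, by omega⟩ ⟨0, by omega⟩, ?_, ?_⟩
  · have h01 : (⟨0, by omega⟩ : Fin n) ≠ ⟨1, by omega⟩ := by
      intro h
      simp [Fin.ext_iff] at h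
    have := diag _ _ h01
    rwa [eqd ⟨1, by omega⟩ ⟨0, by omega⟩] at this
  · intro v
    funext k
    rw [hsum v, Finset.sum_apply, Finset.sum_eq_single k]
    · simp only [Pi.smul_apply, smul_eq_mul]
      change v k * G k k = _
      rw [eqd k ⟨0, by omega⟩, mul_comm]
    · intro i _ hik
      simp only [Pi.smul_apply, smul_eq_mul]
      change v i * G k i = 0
      rw [off k i (Ne.symm hik), mul_zero]
    · intro h
      exact absurd (Finset.mem_univ k) h

theorem scalar_of_comm_lieX (hn : 3 ≤ n) (hQ : QuadGrp.IsRegular Q)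
    (g : (Fin n → R) ≃ₗ[R] (Fin n → R)) (hg : g ∈ QuadGrp.O Q)
    (H : ∀ u w y, g (lieX Q u w y) = lieX Q u w (g y)) :
    ∃ c : R, c * c = 1 ∧ ∀ v, g v = c • v := by
  have F : ∀ u w y, polar Q (g u) y • g w - polar Q (g w) y • g u =
      polar Q u y • w - polar Q w y • u := by
    intro u w y
    have h := H u w (g.symm y)
    rw [LinearEquiv.apply_symm_apply, lieX_apply, lieX_apply, map_sub, map_smul, map_smul] at h
    rw [← polar_isometry Q g hg u (g.symm y), ← polar_isometry Q g hg w (g.symm y),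
      LinearEquiv.apply_symm_apply] at h
    exact h
  have hd : ∀ k : Fin n, ∃ d : Fin n → R, ∀ x, polar Q d x = x k := by
    intro k
    obtain ⟨d, hd⟩ := hQ.2 (LinearMap.proj k)
    refine ⟨d, fun x => ?_⟩
    have := LinearMap.congr_fun hd x
    simpa using this
  choose d hd using hd
  apply scalar_of_minors hn g
  intro u w k l
  have h := congrFun (F u w (d k)) l
  simp only [Pi.sub_apply, Pi.smul_apply, smul_eq_mul, polar_comm Q _ (d k), hd] at h
  exact h

end Algebra

end Groth.Agent.Lib.QuadLieH1
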