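import Mathlib
import Groth.Prelude.Def_QuadGrp
import Groth.Agent.Lib.QuadLie_helper1

/-!
# Reflections, determinants and the centre of the orthogonal group (helper1)
-/

namespace Groth.Agent.Lib.QuadReflH1

open QuadraticMap TensorProduct
open Groth.Agent.Lib.QuadLieH1
open scoped Pointwise

universe u v

section Det

variable {A : Type*} [CommRing A] {M : Type*} [AddCommGroup M] [Module A M]
  [Module.Free A M] [Module.Finite A M]

theorem det_id_add_smulRight (φ : M →ₗ[A] A) (w : M) :
    LinearMap.det (LinearMap.id + φ.smulRight w) = 1 + φ w := by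
  classical
  let b := Module.Free.chooseBasis A M
  rw [← LinearMap.det_toMatrix b, map_add, LinearMap.toMatrix_id, LinearMap.toMatrix_smulRight,
    Matrix.vecMulVec_eq (ι := Unit), Matrix.det_one_add_replicateCol_mul_replicateRow]
  congr 1
  conv_rhs => rw [← b.sum_repr w, map_sum]
  simp only [dotProduct, Function.comp_apply, map_smul, smul_eq_mul]
  exact Finset.sum_congr rfl fun i _ => mul_comm _ _

end Det

section Refl

variable {A : Type*} [CommRing A] {M : Type*} [AddCommGroup M] [Module A M]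
  (Q : QuadraticForm A M) (v : M) (hv : IsUnit (Q v))

/-- the functional `y ↦ −B(v,y)/Q(v)` -/
noncomputable def reflFun : M →ₗ[A] A := (-(↑hv.unit⁻¹ : A)) • polarBilin Q v

theorem reflFun_apply (y : M) :
    reflFun Q v hv y = -((↑hv.unit⁻¹ : A) * polar Q v y) := by
  simp [reflFun]

noncomputable def reflLin : M →ₗ[A] M := LinearMap.id + (reflFun Q v hv).smulRight v

theorem reflLin_apply (y : M) :
    reflLin Q v hv y = y - ((↑hv.unit⁻¹ : A) * polar Q v y) • v := by
  simp [reflLin, reflFun_apply, sub_eq_add_neg]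

theorem unit_inv_mul : (↑hv.unit⁻¹ : A) * Q v = 1 := by
  have := hv.unit.inv_mul
  rwa [IsUnit.unit_spec] at this

theorem reflLin_invol : reflLin Q v hv ∘ₗ reflLin Q v hv = LinearMap.id := by
  ext y
  have hu := unit_inv_mul Q v hv
  simp only [LinearMap.comp_apply, LinearMap.id_apply, reflLin_apply, polar_sub_right,
    polar_smul_right, polar_self, smul_eq_mul, nsmul_eq_mul, Nat.cast_ofNat]
  have : (↑hv.unit⁻¹ : A) * (polar Q v y - (↑hv.unit⁻¹ * polar Q v y) * (2 * Q v)) =
      -(↑hv.unit⁻¹ * polar Q v y) := by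
    linear_combination (-2 * (↑hv.unit⁻¹ : A) * polar Q v y) * hu
  rw [this, neg_smul]
  abel

/-- the reflection in the anisotropic vector `v` -/
noncomputable def refl : M ≃ₗ[A] M :=
  LinearEquiv.ofLinear (reflLin Q v hv) (reflLin Q v hv) (reflLin_invol Q v hv)
    (reflLin_invol Q v hv)

theorem refl_apply (y : M) :
    refl Q v hv y = y - ((↑hv.unit⁻¹ : A) * polar Q v y) • v := reflLin_apply Q v hv y

theorem refl_mem_O : refl Q v hv ∈ QuadGrp.O Q := by
  rw [QuadGrp.mem_O]
  intro y
  have hu := unit_inv_mul Q v hv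
  rw [refl_apply, sub_eq_add_neg, ← neg_smul, QuadraticMap.map_add (⇑Q), QuadraticMap.map_smul,
    polar_smul_right, polar_comm Q y v, smul_eq_mul, smul_eq_mul]
  linear_combination ((↑hv.unit⁻¹ : A) * polar Q v y * polar Q v y) * hu

theorem det_refl [Module.Free A M] [Module.Finite A M] :
    LinearEquiv.det (refl Q v hv) = -1 := by
  apply Units.ext
  rw [LinearEquiv.coe_det]
  have : ((refl Q v hv : M ≃ₗ[A] M) : M →ₗ[A] M) =
      LinearMap.id + (reflFun Q v hv).smulRight v := LinearMap.ext fun _ => rfl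
  rw [this, det_id_add_smulRight, reflFun_apply, polar_self]
  have hu := unit_inv_mul Q v hv
  simp only [nsmul_eq_mul, Nat.cast_ofNat, Units.val_neg, Units.val_one]
  linear_combination (-2 : A) * hu

/-- minus the reflection -/
noncomputable def negRefl : M ≃ₗ[A] M := (LinearEquiv.neg A) * refl Q v hv

theorem negRefl_apply (y : M) : negRefl Q v hv y = - refl Q v hv y := by
  simp [negRefl, LinearEquiv.mul_apply]

theorem negRefl_mem_O : negRefl Q v hv ∈ QuadGrp.O Q := by
  rw [QuadGrp.mem_O]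
  intro y
  rw [negRefl_apply, QuadraticMap.map_neg]
  exact (QuadGrp.mem_O _ _).mp (refl_mem_O Q v hv) y

theorem det_negRefl [Module.Free A M] [Module.Finite A M] (hodd : Odd (Module.finrank A M)) :
    LinearEquiv.det (negRefl Q v hv) = 1 := by
  rw [negRefl, map_mul, det_refl]
  apply Units.ext
  rw [Units.val_mul, LinearEquiv.coe_det]
  have : ((LinearEquiv.neg A : M ≃ₗ[A] M) : M →ₗ[A] M) = (-1 : A) • LinearMap.id := by
    ext y; simp
  rw [this, LinearMap.det_smul, LinearMap.det_id, hodd.neg_one_pow]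
  simp

theorem det_lieH [Module.Free A M] [Module.Finite A M] (ε : A) (hε : ε * ε = 0) (u w : M) :
    LinearEquiv.det (lieH Q ε hε u w) = 1 := by
  apply Units.ext
  rw [LinearEquiv.coe_det, Units.val_one]
  have hfac : ((lieH Q ε hε u w : M ≃ₗ[A] M) : M →ₗ[A] M) =
      (LinearMap.id + (ε • polarBilin Q u).smulRight w) ∘ₗ
        (LinearMap.id + ((-ε) • polarBilin Q w).smulRight u) := by
    ext y
    have e1 : ((LinearMap.id + ((-ε) • polarBilin Q w).smulRight u : M →ₗ[A] M) y) =
        y - (ε * polar Q w y) • u := by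
      simp [sub_eq_add_neg]
    have e2 : ∀ z : M, ((LinearMap.id + (ε • polarBilin Q u).smulRight w : M →ₗ[A] M) z) =
        z + (ε * polar Q u z) • w := by
      intro z; simp
    rw [LinearMap.comp_apply, e1, e2, LinearEquiv.coe_coe, lieH_apply, lieX_apply,
      polar_sub_right, polar_smul_right, smul_eq_mul]
    have key : ε * (polar Q u y - ε * polar Q w y * polar Q u u) = ε * polar Q u y := by
      linear_combination (-(polar Q w y * polar Q u u)) * hε
    rw [key, smul_sub, smul_smul, smul_smul]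
    abel
  rw [hfac, LinearMap.det_comp, det_id_add_smulRight, det_id_add_smulRight]
  simp only [LinearMap.smul_apply, polarBilin_apply_apply, smul_eq_mul]
  rw [polar_comm Q w u]
  linear_combination (-(polar Q u w * polar Q u w)) * hε

end Refl

section CL

variable {R : Type u} [CommRing R] {n : ℕ} (Q : QuadraticForm R (Fin n → R))
  (A : Type*) [CommRing A] [Algebra R A]

/-- `k`-th coordinate on `A ⊗ Rⁿ` -/
noncomputable def kap (k : Fin n) : A ⊗[R] (Fin n → R) →ₗ[A] A :=
  (AlgebraTensorModule.rid R A A).toLinearMap ∘ₗ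
    (LinearMap.proj k : (Fin n → R) →ₗ[R] R).baseChange A

theorem kap_tmul (k : Fin n) (a : A) (m : Fin n → R) :
    kap A k (a ⊗ₜ[R] m) = a * algebraMap R A (m k) := by
  simp [kap, Algebra.smul_def, mul_comm]

theorem refl_comm_consequence (g : (Fin n → R) ≃ₗ[R] (Fin n → R)) (v : A ⊗[R] (Fin n → R))
    (hv : IsUnit (QuadGrp.baseChangeForm A Q v))
    (Hc : g.baseChange R A _ _ * refl (QuadGrp.baseChangeForm A Q) v hv =
      refl (QuadGrp.baseChangeForm A Q) v hv * g.baseChange R A _ _)
    (z : A ⊗[R] (Fin n → R)) :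
    polar (QuadGrp.baseChangeForm A Q) v z • (g.baseChange R A _ _ v) =
      polar (QuadGrp.baseChangeForm A Q) v (g.baseChange R A _ _ z) • v := by
  have h1 := LinearEquiv.congr_fun Hc z
  simp only [LinearEquiv.mul_apply, refl_apply, map_sub, map_smul] at h1
  have h2 := sub_right_injective h1
  have hu := unit_inv_mul (QuadGrp.baseChangeForm A Q) v hv
  have e : ∀ p : A, QuadGrp.baseChangeForm A Q v * ((↑hv.unit⁻¹ : A) * p) = p := fun p => by
    linear_combination p * hu
  calc polar (QuadGrp.baseChangeForm A Q) v z • (g.baseChange R A _ _ v)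
      = QuadGrp.baseChangeForm A Q v •
          (((↑hv.unit⁻¹ : A) * polar (QuadGrp.baseChangeForm A Q) v z) •
            (g.baseChange R A _ _ v)) := by rw [smul_smul, e]
    _ = QuadGrp.baseChangeForm A Q v •
          (((↑hv.unit⁻¹ : A) * polar (QuadGrp.baseChangeForm A Q) v (g.baseChange R A _ _ z)) •
            v) := by rw [h2]
    _ = _ := by rw [smul_smul, e]

/-- the vector `c + s e + s s₁ v₁` -/
noncomputable def vec (c e v₁ : Fin n → R) (s s₁ : A) : A ⊗[R] (Fin n → R) :=
  (1 : A) ⊗ₜ[R] c + s • ((1 : A) ⊗ₜ[R] e) + (s * s₁) • ((1 : A) ⊗ₜ[R] v₁)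

theorem polar_vec (c e v₁ y : Fin n → R) (s s₁ : A) :
    polar (QuadGrp.baseChangeForm A Q) (vec A c e v₁ s s₁) ((1 : A) ⊗ₜ[R] y) =
      algebraMap R A (polar Q c y) + s * algebraMap R A (polar Q e y) +
        s * s₁ * algebraMap R A (polar Q v₁ y) := by
  simp only [vec, polar_add_left, polar_smul_left, polar_baseChangeForm_one_tmul, smul_eq_mul]

theorem gA_vec (g : (Fin n → R) ≃ₗ[R] (Fin n → R)) (c e v₁ : Fin n → R) (s s₁ : A) :
    g.baseChange R A _ _ (vec A c e v₁ s s₁) = vec A (g c) (g e) (g v₁) s s₁ := by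
  simp only [vec, map_add, map_smul, LinearEquiv.baseChange_tmul]

theorem kap_vec (k : Fin n) (c e v₁ : Fin n → R) (s s₁ : A) :
    kap A k (vec A c e v₁ s s₁) =
      algebraMap R A (c k) + s * algebraMap R A (e k) + s * s₁ * algebraMap R A (v₁ k) := by
  simp only [vec, map_add, map_smul, kap_tmul, one_mul, smul_eq_mul]

theorem star_identity (g : (Fin n → R) ≃ₗ[R] (Fin n → R)) (c e v₁ : Fin n → R) (s s₁ : A)
    (hv : IsUnit (QuadGrp.baseChangeForm A Q (vec A c e v₁ s s₁)))
    (Hc : g.baseChange R A _ _ * refl (QuadGrp.baseChangeForm A Q) (vec A c e v₁ s s₁) hv =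
      refl (QuadGrp.baseChangeForm A Q) (vec A c e v₁ s s₁) hv * g.baseChange R A _ _)
    (y : Fin n → R) (k : Fin n) :
    (algebraMap R A (polar Q c y) + s * algebraMap R A (polar Q e y) +
        s * s₁ * algebraMap R A (polar Q v₁ y)) *
      (algebraMap R A (g c k) + s * algebraMap R A (g e k) +
        s * s₁ * algebraMap R A (g v₁ k)) =
    (algebraMap R A (polar Q c (g y)) + s * algebraMap R A (polar Q e (g y)) +
        s * s₁ * algebraMap R A (polar Q v₁ (g y))) *
      (algebraMap R A (c k) + s * algebraMap R A (e k) + s * s₁ * algebraMap R A (v₁ k)) := by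
  have h := refl_comm_consequence Q A g _ hv Hc ((1 : A) ⊗ₜ[R] y)
  have h' := congrArg (kap A k) h
  rw [map_smul, map_smul, LinearEquiv.baseChange_tmul, gA_vec, polar_vec, polar_vec, kap_vec,
    kap_vec, smul_eq_mul, smul_eq_mul] at h'
  exact h'

end CL

section Stages

variable {R : Type u} [CommRing R] {n : ℕ} (Q : QuadraticForm R (Fin n → R))
  (g : (Fin n → R) ≃ₗ[R] (Fin n → R))

/-- `g` commutes with every reflection of every base change. -/
def ReflComm : Prop :=
  ∀ (A : Type u) [CommRing A] [Algebra R A] (v : A ⊗[R] (Fin n → R))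
    (hv : IsUnit (QuadGrp.baseChangeForm A Q v)),
    g.baseChange R A _ _ * refl (QuadGrp.baseChangeForm A Q) v hv =
      refl (QuadGrp.baseChangeForm A Q) v hv * g.baseChange R A _ _

theorem ps_expand {S : Type*} [CommRing S] (p₀ p₁ q₀ q₁ : S) :
    (PowerSeries.C p₀ + PowerSeries.X * PowerSeries.C p₁) *
        (PowerSeries.C q₀ + PowerSeries.X * PowerSeries.C q₁) =
      (PowerSeries.C (p₀ * q₀) + PowerSeries.X * PowerSeries.C (p₀ * q₁ + p₁ * q₀) +
        PowerSeries.X * (PowerSeries.X * PowerSeries.C (p₁ * q₁)) : PowerSeries S) := by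
  simp only [map_add, map_mul]
  ring

theorem ps_coeff_two {S : Type*} [CommRing S] (a b c : S) :
    PowerSeries.coeff 2 (PowerSeries.C a + PowerSeries.X * PowerSeries.C b +
      PowerSeries.X * (PowerSeries.X * PowerSeries.C c) : PowerSeries S) = c := by
  have h1 : PowerSeries.coeff 2 (PowerSeries.C a : PowerSeries S) = 0 := by
    rw [PowerSeries.coeff_C]; simp
  have h2 : PowerSeries.coeff 2 (PowerSeries.X * PowerSeries.C b : PowerSeries S) = 0 := by
    rw [show (2 : ℕ) = 1 + 1 from rfl, PowerSeries.coeff_succ_X_mul, PowerSeries.coeff_C]; simp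
  have h3 : PowerSeries.coeff 2
      (PowerSeries.X * (PowerSeries.X * PowerSeries.C c) : PowerSeries S) = c := by
    rw [show (2 : ℕ) = 1 + 1 from rfl, PowerSeries.coeff_succ_X_mul,
      show (1 : ℕ) = 0 + 1 from rfl, PowerSeries.coeff_succ_X_mul, PowerSeries.coeff_zero_C]
  rw [map_add, map_add, h1, h2, h3, zero_add, zero_add]

theorem top_coeff {S : Type*} [CommRing S] (p₀ p₁ q₀ q₁ r₀ r₁ s₀ s₁ : S)
    (h : (PowerSeries.C p₀ + PowerSeries.X * PowerSeries.C p₁) *
        (PowerSeries.C q₀ + PowerSeries.X * PowerSeries.C q₁) =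
      ((PowerSeries.C r₀ + PowerSeries.X * PowerSeries.C r₁) *
        (PowerSeries.C s₀ + PowerSeries.X * PowerSeries.C s₁) : PowerSeries S)) :
    p₁ * q₁ = r₁ * s₁ := by
  have := congrArg (PowerSeries.coeff 2) h
  rwa [ps_expand, ps_expand, ps_coeff_two, ps_coeff_two] at this

theorem stage1 (H : ReflComm Q g) (R₁ : Type u) [CommRing R₁] [Algebra R R₁]
    (c e v₁ : Fin n → R) (σ : R₁) (hc : IsUnit (algebraMap R R₁ (Q c)))
    (y : Fin n → R) (k : Fin n) :
    (algebraMap R R₁ (polar Q e y) + σ * algebraMap R R₁ (polar Q v₁ y)) *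
        (algebraMap R R₁ (g e k) + σ * algebraMap R R₁ (g v₁ k)) =
      (algebraMap R R₁ (polar Q e (g y)) + σ * algebraMap R R₁ (polar Q v₁ (g y))) *
        (algebraMap R R₁ (e k) + σ * algebraMap R R₁ (v₁ k)) := by
  have hvec : vec (PowerSeries R₁) c e v₁ PowerSeries.X (PowerSeries.C σ) =
      (1 : PowerSeries R₁) ⊗ₜ[R] c + (PowerSeries.X : PowerSeries R₁) •
        ((1 : PowerSeries R₁) ⊗ₜ[R] e + (PowerSeries.C σ : PowerSeries R₁) •
          ((1 : PowerSeries R₁) ⊗ₜ[R] v₁)) := by
    rw [vec, smul_add, smul_smul, add_assoc]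
  have hv : IsUnit (QuadGrp.baseChangeForm (PowerSeries R₁) Q
      (vec (PowerSeries R₁) c e v₁ PowerSeries.X (PowerSeries.C σ))) := by
    rw [PowerSeries.isUnit_iff_constantCoeff, hvec,
      QuadraticMap.map_add (⇑(QuadGrp.baseChangeForm (PowerSeries R₁) Q)), QuadraticMap.map_smul,
      polar_smul_right, baseChangeForm_tmul, PowerSeries.algebraMap_apply]
    simpa using hc
  have hstar := star_identity Q (PowerSeries R₁) g c e v₁ PowerSeries.X (PowerSeries.C σ) hv
    (H (PowerSeries R₁) _ hv) y k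
  simp only [PowerSeries.algebraMap_apply] at hstar
  have e1 : ∀ a b d : R₁, (PowerSeries.C a + PowerSeries.X * PowerSeries.C b +
      PowerSeries.X * PowerSeries.C σ * PowerSeries.C d : PowerSeries R₁) =
      PowerSeries.C a + PowerSeries.X * PowerSeries.C (b + σ * d) := by
    intro a b d
    rw [map_add, map_mul]
    ring
  rw [e1, e1, e1, e1] at hstar
  exact top_coeff _ _ _ _ _ _ _ _ hstar

theorem stage2 (H : ReflComm Q g) (c e y₀ v₁ : Fin n → R) (k l : Fin n) :
    ∃ N : ℕ, (Q c * polar Q e y₀) ^ N * (g v₁ k * v₁ l - g v₁ l * v₁ k) = 0 := by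
  have hfu : IsUnit (algebraMap R (Localization.Away (Q c * polar Q e y₀))
      (Q c * polar Q e y₀)) := IsLocalization.Away.algebraMap_isUnit _
  rw [map_mul] at hfu
  have hcu := isUnit_of_mul_isUnit_left hfu
  have hpu := isUnit_of_mul_isUnit_right hfu
  have hc1 : IsUnit (algebraMap R (PowerSeries (Localization.Away (Q c * polar Q e y₀)))
      (Q c)) := by
    rw [PowerSeries.algebraMap_apply]
    exact hcu.map PowerSeries.C
  have E := fun k => stage1 Q g H (PowerSeries (Localization.Away (Q c * polar Q e y₀)))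
    c e v₁ PowerSeries.X hc1 y₀ k
  simp only [PowerSeries.algebraMap_apply] at E
  have hp : IsUnit (PowerSeries.C (algebraMap R (Localization.Away (Q c * polar Q e y₀))
        (polar Q e y₀)) + PowerSeries.X * PowerSeries.C
          (algebraMap R (Localization.Away (Q c * polar Q e y₀)) (polar Q v₁ y₀)) :
      PowerSeries (Localization.Away (Q c * polar Q e y₀))) := by
    rw [PowerSeries.isUnit_iff_constantCoeff]
    simpa using hpu
  have hW := hp.mul_left_cancel (show _ * ((PowerSeries.C (algebraMap R _ (g e k)) +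
      PowerSeries.X * PowerSeries.C (algebraMap R _ (g v₁ k))) *
      (PowerSeries.C (algebraMap R _ (e l)) +
        PowerSeries.X * PowerSeries.C (algebraMap R _ (v₁ l)))) =
      _ * ((PowerSeries.C (algebraMap R _ (g e l)) +
      PowerSeries.X * PowerSeries.C (algebraMap R _ (g v₁ l))) *
      (PowerSeries.C (algebraMap R _ (e k)) +
        PowerSeries.X * PowerSeries.C (algebraMap R _ (v₁ k)))) by
    linear_combination (PowerSeries.C (algebraMap R _ (e l)) +
        PowerSeries.X * PowerSeries.C (algebraMap R _ (v₁ l))) * E k -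
      (PowerSeries.C (algebraMap R _ (e k)) +
        PowerSeries.X * PowerSeries.C (algebraMap R _ (v₁ k))) * E l)
  have hT := top_coeff _ _ _ _ _ _ _ _ hW
  have h0 : algebraMap R (Localization.Away (Q c * polar Q e y₀))
      (g v₁ k * v₁ l - g v₁ l * v₁ k) = 0 := by
    rw [map_sub, map_mul, map_mul, hT, sub_self]
  obtain ⟨⟨_, N, rfl⟩, hN⟩ := (IsLocalization.map_eq_zero_iff
    (Submonoid.powers (Q c * polar Q e y₀)) _ _).mp h0
  exact ⟨N, hN⟩

/-- all values of the polar form generate the unit ideal -/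
def PolarTop : Prop :=
  Ideal.span (Set.range fun p : (Fin n → R) × (Fin n → R) => polar Q p.1 p.2) = ⊤

theorem span_range_Q_eq_top (hU : PolarTop Q) :
    Ideal.span (Set.range fun c : Fin n → R => Q c) = ⊤ := by
  rw [eq_top_iff, ← hU, Ideal.span_le]
  rintro _ ⟨⟨x, y⟩, rfl⟩
  have h1 : Q (x + y) ∈ Ideal.span (Set.range fun c : Fin n → R => Q c) :=
    Ideal.subset_span ⟨x + y, rfl⟩
  have h2 : Q x ∈ Ideal.span (Set.range fun c : Fin n → R => Q c) :=
    Ideal.subset_span ⟨x, rfl⟩
  have h3 : Q y ∈ Ideal.span (Set.range fun c : Fin n → R => Q c) :=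
    Ideal.subset_span ⟨y, rfl⟩
  exact Ideal.sub_mem _ (Ideal.sub_mem _ h1 h2) h3

theorem wedge_zero (H : ReflComm Q g) (hU : PolarTop Q) (v₁ : Fin n → R) (k l : Fin n) :
    g v₁ k * v₁ l = g v₁ l * v₁ k := by
  set W := g v₁ k * v₁ l - g v₁ l * v₁ k with hW
  let I : Ideal R := LinearMap.ker (LinearMap.toSpanSingleton R R W)
  have hI : ∀ r : R, r ∈ I ↔ r * W = 0 := fun r => by
    simp [I, LinearMap.mem_ker, LinearMap.toSpanSingleton_apply]
  have hrad : I.radical = ⊤ := by
    rw [eq_top_iff]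
    have hprod : Ideal.span (Set.range fun c : Fin n → R => Q c) *
        Ideal.span (Set.range fun p : (Fin n → R) × (Fin n → R) => polar Q p.1 p.2) = ⊤ := by
      rw [span_range_Q_eq_top Q hU, hU, Ideal.top_mul]
    rw [← hprod, Ideal.span_mul_span, Ideal.span_le]
    rintro _ ⟨_, ⟨c, rfl⟩, _, ⟨⟨e, y₀⟩, rfl⟩, rfl⟩
    obtain ⟨N, hN⟩ := stage2 Q g H c e y₀ v₁ k l
    exact ⟨N, (hI _).mpr hN⟩
  have h1 : (1 : R) ∈ I := by
    rw [Ideal.radical_eq_top.mp hrad]; trivial
  have := (hI 1).mp h1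
  rw [one_mul] at this
  exact sub_eq_zero.mp this

theorem scalar_of_wedge (hn : 1 ≤ n)
    (Hw : ∀ (v : Fin n → R) (k l : Fin n), g v k * v l = g v l * v k) :
    ∃ c : R, ∀ v, g v = c • v := by
  classical
  set G : Fin n → Fin n → R := fun k i => g (Pi.single i 1) k with hG
  have off : ∀ k l : Fin n, k ≠ l → G k l = 0 := by
    intro k l hkl
    have := Hw (Pi.single l 1) k l
    simpa [Pi.single_apply, hkl] using this
  have eqd : ∀ k l : Fin n, G k k = G l l := by
    intro k l
    by_cases hkl : k = l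
    · rw [hkl]
    have := Hw (Pi.single k 1 + Pi.single l 1) k l
    simp only [map_add, Pi.add_apply, Pi.single_apply, if_true, if_neg hkl,
      if_neg (Ne.symm hkl), add_zero, zero_add, mul_one] at this
    have h1 : G k l = 0 := off k l hkl
    have h2 : G l k = 0 := off l k (Ne.symm hkl)
    change G k k + G k l = G l k + G l l at this
    rw [h1, h2, add_zero, zero_add] at this
    exact this
  have hsum : ∀ v : Fin n → R, g v = ∑ i, v i • g (Pi.single i 1) := by
    intro v
    have := LinearMap.pi_apply_eq_sum_univ (g : (Fin n → R) →ₗ[R] (Fin n → R)) v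
    rw [LinearEquiv.coe_coe] at this
    rw [this]
    refine Finset.sum_congr rfl fun i _ => ?_
    congr 2
    funext j
    simp [Pi.single_apply, eq_comm]
  refine ⟨G ⟨0, by omega⟩ ⟨0, by omega⟩, fun v => ?_⟩
  funext k
  rw [hsum v, Finset.sum_apply, Finset.sum_eq_single k]
  · simp only [Pi.smul_apply, smul_eq_mul]
    change v k * G k k = _
    rw [eqd k ⟨0, by omega⟩, mul_comm]
  · intro i _ hik
    simp only [Pi.smul_apply, smul_eq_mul]
    change v i * G k i = 0
    rw [off k i (Ne.symm hik), mul_zero]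
  · intro h
    exact absurd (Finset.mem_univ k) h

theorem scalar_of_reflComm (hn : 1 ≤ n) (hg : g ∈ QuadGrp.O Q) (H : ReflComm Q g)
    (hU : PolarTop Q) : ∃ c : R, c * c = 1 ∧ ∀ v, g v = c • v := by
  obtain ⟨c, hc⟩ := scalar_of_wedge g hn (wedge_zero Q g H hU)
  refine ⟨c, ?_, hc⟩
  have hkill : ∀ x ∈ Ideal.span (Set.range fun c : Fin n → R => Q c), (c * c - 1) * x = 0 := by
    intro x hx
    induction hx using Submodule.span_induction with
    | mem x hx =>
      obtain ⟨v, rfl⟩ := hx
      have h1 := (QuadGrp.mem_O Q g).mp hg v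
      rw [hc v, QuadraticMap.map_smul, smul_eq_mul] at h1
      linear_combination h1
    | zero => simp
    | add x y _ _ hx hy => rw [mul_add, hx, hy, add_zero]
    | smul a x _ hx => rw [smul_eq_mul, mul_left_comm, hx, mul_zero]
  have h1 : (1 : R) ∈ Ideal.span (Set.range fun c : Fin n → R => Q c) := by
    rw [span_range_Q_eq_top Q (hU)]; trivial
  have := hkill 1 h1
  rw [mul_one] at this
  exact sub_eq_zero.mp this

theorem polarTop_of_regular (hn : 1 ≤ n) (hQ : QuadGrp.IsRegular Q) : PolarTop Q := by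
  obtain ⟨d, hd⟩ := hQ.2 (LinearMap.proj (⟨0, by omega⟩ : Fin n))
  have h1 : polar Q d (Pi.single (⟨0, by omega⟩ : Fin n) 1) = 1 := by
    have := LinearMap.congr_fun hd (Pi.single (⟨0, by omega⟩ : Fin n) 1)
    simpa using this
  unfold PolarTop
  rw [Ideal.eq_top_iff_one, ← h1]
  exact Ideal.subset_span ⟨(d, Pi.single (⟨0, by omega⟩ : Fin n) 1), rfl⟩

end Stages

section HalfDisc

open MvPolynomial

variable (n : ℕ)

/-- kill the off-diagonal variables -/
noncomputable def psi : MvPolynomial (Sym2 (Fin n)) ℤ →ₐ[ℤ] MvPolynomial (Sym2 (Fin n)) ℤ :=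
  aeval (fun s : Sym2 (Fin n) => if s.IsDiag then X s else 0)

/-- the monomial only involves diagonal variables -/
def DiagSupp (m : Sym2 (Fin n) →₀ ℕ) : Prop := ∀ s ∈ m.support, s.IsDiag

theorem psi_monomial_pos (m : Sym2 (Fin n) →₀ ℕ) (c : ℤ) (h : DiagSupp n m) :
    psi n (monomial m c) = monomial m c := by
  classical
  rw [psi, aeval_monomial]
  rw [monomial_eq, MvPolynomial.algebraMap_eq]
  congr 1
  unfold Finsupp.prod
  exact Finset.prod_congr rfl fun s hs => by dsimp only; rw [if_pos (h s hs)]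

theorem psi_monomial_neg (m : Sym2 (Fin n) →₀ ℕ) (c : ℤ) (h : ¬ DiagSupp n m) :
    psi n (monomial m c) = 0 := by
  classical
  rw [psi, aeval_monomial]
  unfold DiagSupp at h
  push Not at h
  obtain ⟨s, hs, hsd⟩ := h
  rw [Finsupp.prod, Finset.prod_eq_zero hs, mul_zero]
  rw [if_neg hsd, zero_pow (Finsupp.mem_support_iff.mp hs)]

theorem psi_monomial_old (m : Sym2 (Fin n) →₀ ℕ) (c : ℤ) :
    psi n (monomial m c) = @ite _ (DiagSupp n m) (Classical.propDecidable _) (monomial m c) 0 := by
  classical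
  rw [psi, aeval_monomial]
  split_ifs with h
  · rw [monomial_eq, MvPolynomial.algebraMap_eq]
    congr 1
    unfold Finsupp.prod
    exact Finset.prod_congr rfl fun s hs => by dsimp only; rw [if_pos (h s hs)]
  · unfold DiagSupp at h
    push Not at h
    obtain ⟨s, hs, hsd⟩ := h
    rw [Finsupp.prod, Finset.prod_eq_zero hs, mul_zero]
    rw [if_neg hsd, zero_pow (Finsupp.mem_support_iff.mp hs)]

theorem coeff_psi (p : MvPolynomial (Sym2 (Fin n)) ℤ) (m : Sym2 (Fin n) →₀ ℕ)
    (hm : DiagSupp n m) : coeff m (psi n p) = coeff m p := by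
  classical
  refine MvPolynomial.induction_on' p ?_ ?_
  · intro m' c
    by_cases h : DiagSupp n m'
    · rw [psi_monomial_pos n m' c h]
    · rw [psi_monomial_neg n m' c h, coeff_zero, coeff_monomial, if_neg]
      rintro rfl
      exact h hm
  · intro p q hp hq
    rw [map_add, coeff_add, coeff_add, hp, hq]

theorem psi_discUniv :
    psi n (QuadGrp.discUniv n) = ∏ i : Fin n, (2 * X (Sym2.diag i)) := by
  classical
  unfold QuadGrp.discUniv
  rw [AlgHom.map_det]
  have : (psi n).mapMatrix (QuadGrp.univPolarMat n) =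
      Matrix.diagonal (fun i => 2 * X (Sym2.diag i)) := by
    refine Matrix.ext fun i j => ?_
    simp only [AlgHom.mapMatrix_apply, Matrix.map_apply, QuadGrp.univPolarMat, Matrix.of_apply,
      Matrix.diagonal_apply]
    split_ifs with h
    · subst h
      have h2 : psi n (2 : MvPolynomial (Sym2 (Fin n)) ℤ) = 2 := map_ofNat _ 2
      rw [map_mul, h2, psi, aeval_X, if_pos (Sym2.mk_isDiag_iff.mpr rfl)]
      rfl
    · rw [psi, aeval_X, if_neg (fun hd => h (Sym2.mk_isDiag_iff.mp hd))]
  rw [this, Matrix.det_diagonal]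

/-- the exponent vector of `∏ X_{ii}` -/
noncomputable def m0 : Sym2 (Fin n) →₀ ℕ := ∑ i : Fin n, Finsupp.single (Sym2.diag i) 1

theorem prod_eq_monomial :
    (∏ i : Fin n, (2 * X (Sym2.diag i)) : MvPolynomial (Sym2 (Fin n)) ℤ) =
      monomial (m0 n) ((2 : ℤ) ^ n) := by
  rw [Finset.prod_mul_distrib, Finset.prod_const, Finset.card_univ, Fintype.card_fin, m0,
    monomial_sum_index]
  congr 1
  simp

theorem m0_apply_pos (i : Fin n) : 1 ≤ m0 n (Sym2.diag i) := by
  classical
  rw [m0, Finsupp.finsetSum_apply]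
  calc 1 = (Finsupp.single (Sym2.diag i) 1 : Sym2 (Fin n) →₀ ℕ) (Sym2.diag i) := by simp
    _ ≤ _ := Finset.single_le_sum (f := fun j => (Finsupp.single (Sym2.diag j) 1 :
        Sym2 (Fin n) →₀ ℕ) (Sym2.diag i)) (fun _ _ => Nat.zero_le _) (Finset.mem_univ i)

variable {R : Type u} [CommRing R] {n}

theorem halfDisc_mem (hn : 2 ≤ n) (Q : QuadraticForm R (Fin n → R)) (J : Ideal R)
    (hJ : ∀ i j : Fin n, polar Q (Pi.single i 1) (Pi.single j 1) ∈ J) :
    QuadGrp.halfDisc (Pi.basisFun R (Fin n)) (LinearEquiv.refl R R) Q ∈ J := by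
  classical
  unfold QuadGrp.halfDisc
  rw [eval₂_eq]
  refine Ideal.sum_mem _ fun m _ => ?_
  by_cases hd : DiagSupp n m
  · have h1 : coeff m (QuadGrp.halfDiscUniv n) = coeff m (monomial (m0 n) ((2 : ℤ) ^ n)) / 2 := by
      rw [QuadGrp.coeff_halfDiscUniv, ← coeff_psi n _ m hd, psi_discUniv, prod_eq_monomial]
    rw [h1, coeff_monomial]
    split_ifs with hmm
    · subst hmm
      -- the term is `2^(n-1) * ∏ a^m`, divisible by `2 * Q(e₀)`
      have hpow : ((2 : ℤ) ^ n) / 2 = 2 * 2 ^ (n - 2) := by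
        obtain ⟨k, rfl⟩ : ∃ k, n = k + 2 := ⟨n - 2, by omega⟩
        rw [pow_succ, Int.mul_ediv_cancel _ (by norm_num), pow_succ, mul_comm]
        simp
      rw [hpow]
      have hs : Sym2.diag (⟨0, by omega⟩ : Fin n) ∈ (m0 n).support := by
        rw [Finsupp.mem_support_iff]
        have := m0_apply_pos n (⟨0, by omega⟩ : Fin n)
        omega
      have hdvd : QuadGrp.coeffs (Pi.basisFun R (Fin n)) (LinearEquiv.refl R R) Q
          (Sym2.diag (⟨0, by omega⟩ : Fin n)) ∣
          ∏ i ∈ (m0 n).support, QuadGrp.coeffs (Pi.basisFun R (Fin n)) (LinearEquiv.refl R R) Q i ^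
            (m0 n) i :=
        (dvd_pow_self _ (Finsupp.mem_support_iff.mp hs)).trans (Finset.dvd_prod_of_mem _ hs)
      obtain ⟨q, hq⟩ := hdvd
      rw [hq]
      have hmem : (2 : R) * QuadGrp.coeffs (Pi.basisFun R (Fin n)) (LinearEquiv.refl R R) Q
          (Sym2.diag (⟨0, by omega⟩ : Fin n)) ∈ J := by
        have := hJ ⟨0, by omega⟩ ⟨0, by omega⟩
        rw [polar_self] at this
        have h2 : QuadGrp.coeffs (Pi.basisFun R (Fin n)) (LinearEquiv.refl R R) Q
            (Sym2.diag (⟨0, by omega⟩ : Fin n)) = Q (Pi.single ⟨0, by omega⟩ 1) := by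
          rw [Sym2.diag, QuadGrp.coeffs_mk, if_pos rfl, Pi.basisFun_apply, LinearEquiv.refl_apply]
        rw [h2]
        simpa [nsmul_eq_mul] using this
      have : (Int.castRingHom R) (2 * 2 ^ (n - 2)) *
          (QuadGrp.coeffs (Pi.basisFun R (Fin n)) (LinearEquiv.refl R R) Q
            (Sym2.diag (⟨0, by omega⟩ : Fin n)) * q) =
          ((2 : R) * QuadGrp.coeffs (Pi.basisFun R (Fin n)) (LinearEquiv.refl R R) Q
            (Sym2.diag (⟨0, by omega⟩ : Fin n))) * ((2 : R) ^ (n - 2) * q) := by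
        simp only [map_mul, map_pow, eq_intCast, Int.cast_ofNat]
        ring
      rw [this]
      exact J.mul_mem_right _ hmem
    · simp
  · unfold DiagSupp at hd
    push Not at hd
    obtain ⟨s, hs, hsd⟩ := hd
    have hdvd : QuadGrp.coeffs (Pi.basisFun R (Fin n)) (LinearEquiv.refl R R) Q s ∣
        ∏ i ∈ m.support, QuadGrp.coeffs (Pi.basisFun R (Fin n)) (LinearEquiv.refl R R) Q i ^ m i :=
      (dvd_pow_self _ (Finsupp.mem_support_iff.mp hs)).trans (Finset.dvd_prod_of_mem _ hs)
    obtain ⟨q, hq⟩ := hdvd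
    rw [hq]
    have hmem : QuadGrp.coeffs (Pi.basisFun R (Fin n)) (LinearEquiv.refl R R) Q s ∈ J := by
      induction s using Sym2.ind with
      | _ i j =>
        have hij : i ≠ j := fun h => hsd (Sym2.mk_isDiag_iff.mpr h)
        rw [QuadGrp.coeffs_mk, if_neg hij, Pi.basisFun_apply, Pi.basisFun_apply,
          LinearEquiv.refl_apply]
        exact hJ i j
    exact J.mul_mem_left _ (J.mul_mem_right _ hmem)

theorem polarTop_of_semiregular (hn : 2 ≤ n) (Q : QuadraticForm R (Fin n → R))
    (hQ : QuadGrp.IsSemiregular (Pi.basisFun R (Fin n)) (LinearEquiv.refl R R) Q) :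
    PolarTop Q := by
  unfold PolarTop
  refine Ideal.eq_top_of_isUnit_mem _ (halfDisc_mem hn Q _ fun i j => ?_) hQ
  exact Ideal.subset_span ⟨(Pi.single i 1, Pi.single j 1), rfl⟩

end HalfDisc

end Groth.Agent.Lib.QuadReflH1
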