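import Mathlib
import Groth.Prelude.Def_QuadSing
import Groth.Agent.Lib.HypCompl_helper5
import Groth.Agent.Lib.HessInv_helper5
import Groth.Agent.Lib.VanCycTrans_helper5
import Groth.Agent.Lib.AnUnram_helper3
import Groth.Agent.Lib.QuadJac_lead

/-!
# Non-degenerate quadratic singularities of affine hypersurfaces: Jacobian criterion (helper5)
-/

set_option autoImplicit false
set_option maxHeartbeats 1000000
set_option linter.unusedVariables false
universe u

open MvPowerSeries IsLocalRing

namespace Groth.Agent.Lib.QuadSingHypH5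

open Groth.Agent.Lib.ExtPSH1 Groth.Agent.Lib.LubinTateH1 Groth.Agent.Lib.MorseH1
  Groth.Agent.Lib.HypComplH5 Groth.Agent.Lib.HessInvH5

variable {k : Type u} [Field k] {n : ℕ}

/-- a maximal ideal of a hypersurface ring over an algebraically closed field is a point -/
theorem exists_point [IsAlgClosed k] (f : MvPolynomial (Fin n) k)
    (P : Ideal (MvPolynomial (Fin n) k ⧸ Ideal.span {f})) [P.IsMaximal] :
    ∃ p : Fin n → k, ∀ q : MvPolynomial (Fin n) k,
      Ideal.Quotient.mk (Ideal.span {f}) q ∈ P ↔ MvPolynomial.eval p q = 0 := by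
  haveI hmax : (P.comap (Ideal.Quotient.mk (Ideal.span {f}))).IsMaximal :=
    Ideal.comap_isMaximal_of_surjective _ Ideal.Quotient.mk_surjective
  obtain ⟨p, hp⟩ := MvPolynomial.isMaximal_iff_eq_vanishingIdeal_singleton.mp hmax
  refine ⟨p, fun q => ?_⟩
  rw [← Ideal.mem_comap, hp, MvPolynomial.mem_vanishingIdeal_singleton_iff]
  rfl

/-- chain rule for the expansion at a point -/
theorem pderiv_φ₀ (p : Fin n → k) (j : Fin n) (q : MvPolynomial (Fin n) k) :
    pderiv k j (φ₀ p q) = φ₀ p (MvPolynomial.pderiv j q) := by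
  classical
  unfold φ₀
  rw [pderiv_aeval]
  have hterm : ∀ a, MvPolynomial.aeval (fun i => (X i + C (p i) : MvPowerSeries (Fin n) k))
      (MvPolynomial.pderiv a q) * pderiv k j (X a + C (p a) : MvPowerSeries (Fin n) k)
      = if a = j then MvPolynomial.aeval (fun i => (X i + C (p i) : MvPowerSeries (Fin n) k))
        (MvPolynomial.pderiv j q) else 0 := by
    intro a
    rw [map_add, pderiv_C, add_zero, pderiv_X]
    by_cases haj : a = j
    · subst haj
      rw [if_pos rfl, Pi.single_eq_same, mul_one]
    · rw [if_neg haj, Pi.single_eq_of_ne haj, mul_zero]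
  rw [Finset.sum_congr rfl (fun a _ => hterm a), Finset.sum_ite_eq' Finset.univ j,
    if_pos (Finset.mem_univ j)]

/-- Nakayama step -/
theorem XI_le_of_le_sup (f : MvPowerSeries (Fin n) k) (hf : Van 2 f)
    (N : Ideal (MvPowerSeries (Fin n) k)) (h : XI k n ≤ N ⊔ Ideal.span {f}) : XI k n ≤ N := by
  have hfsq : Ideal.span {f} ≤ XI k n • XI k n := by
    rw [Ideal.span_le, Set.singleton_subset_iff, smul_eq_mul, ← pow_two]
    exact mem_XI_sq_of_van f hf
  apply Submodule.le_of_le_smul_of_le_jacobson_bot (I := XI k n)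
  · exact Submodule.fg_span (Set.finite_range _)
  · rw [IsLocalRing.jacobson_eq_maximalIdeal ⊥ bot_ne_top, maximalIdeal_ps]
  · exact h.trans (sup_le_sup_left hfsq _)

/-- Hessian criterion: if the partials generate the maximal ideal, the quadratic part is
non-degenerate. -/
theorem quadNondeg_of_XI_le (f : MvPowerSeries (Fin n) k) (hf : Van 2 f)
    (h : XI k n ≤ Ideal.span (Set.range fun j => pderiv k j f)) :
    VanCyc.QuadNondeg (VanCyc.quadPart f) := by
  classical
  have hex : ∀ i, ∃ c : Fin n → MvPowerSeries (Fin n) k, ∑ j, c j * pderiv k j f = X i := fun i =>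
    Ideal.mem_span_range_iff_exists_fun.mp (h (Ideal.subset_span ⟨i, rfl⟩))
  choose c hc using hex
  have hH : ∀ l j, coeff (Finsupp.single l 1) (pderiv k j f)
      = VanCyc.polarMatrix (VanCyc.quadPart f) l j := fun l j =>
    Groth.Agent.Lib.VanCycTransH5.jac_eq f (VanCyc.quadPart f)
      (fun a b hab => (Groth.Agent.Lib.VanCycTransH5.quadPart_of_le f a b hab).symm) l j
  have hd0 : ∀ j, constantCoeff (pderiv k j f) = 0 := by
    intro j
    rw [← coeff_single_eq]
    exact hf _ (by rw [Finsupp.degree_single]; norm_num)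
  have hlin : ∀ i l, ∑ j, constantCoeff (c i j) * VanCyc.polarMatrix (VanCyc.quadPart f) l j
      = if i = l then 1 else 0 := by
    intro i l
    have h1 : coeff (Finsupp.single l 1) (X i : MvPowerSeries (Fin n) k)
        = if i = l then 1 else 0 := by
      rw [coeff_X]
      by_cases hil : i = l
      · subst hil; simp
      · rw [if_neg hil, if_neg]
        intro h
        exact hil (Finsupp.single_left_injective one_ne_zero h).symm
    rw [← h1, ← hc i, map_sum]
    refine Finset.sum_congr rfl fun j _ => ?_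
    rw [coeff_single_eq l (c i j * pderiv k j f), Derivation.leibniz, smul_eq_mul, smul_eq_mul,
      map_add, map_mul, map_mul, hd0 j, zero_mul, add_zero, ← coeff_single_eq, hH]
  unfold VanCyc.QuadNondeg
  rw [← Matrix.det_transpose]
  apply Matrix.isUnit_det_of_left_inverse (B := Matrix.of fun i j => constantCoeff (c i j))
  ext i l
  rw [Matrix.mul_apply, Matrix.one_apply]
  simp only [Matrix.of_apply, Matrix.transpose_apply]
  exact hlin i l

theorem van_two_of_noLowTerms (g : MvPowerSeries (Fin n) k) (hg : VanCyc.NoLowTerms g) :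
    Van 2 g := by
  intro d hd
  rcases degree_lt_two d hd with rfl | ⟨i, rfl⟩
  · rw [coeff_zero_eq_constantCoeff_apply]; exact hg.1
  · exact hg.2 i

theorem main_generic
    (k : Type u) [Field k] [IsAlgClosed k] (m : ℕ) (f : MvPolynomial (Fin (m + 1)) k)
    (P : Ideal (MvPolynomial (Fin (m + 1)) k ⧸ Ideal.span {f})) [P.IsMaximal]
    (hP : ∀ j : Fin (m + 1), Ideal.Quotient.mk (Ideal.span {f}) (MvPolynomial.pderiv j f) ∈ P)
    (L : Type u) [CommRing L] [IsLocalRing L]
    [Algebra (MvPolynomial (Fin (m + 1)) k ⧸ Ideal.span {f}) L]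
    [IsLocalization.AtPrime L P] [Algebra k L]
    [IsScalarTower k (MvPolynomial (Fin (m + 1)) k ⧸ Ideal.span {f}) L] :
    Ideal.map (algebraMap (MvPolynomial (Fin (m + 1)) k ⧸ Ideal.span {f}) L)
        (Ideal.span (Set.range fun j : Fin (m + 1) =>
          Ideal.Quotient.mk (Ideal.span {f}) (MvPolynomial.pderiv j f))) =
      IsLocalRing.maximalIdeal L ↔
    VanCyc.IsNondegQuadSing k L m := by
  classical
  obtain ⟨p, hp⟩ := exists_point f P
  have hpt : ∀ j, MvPolynomial.eval p (MvPolynomial.pderiv j f) = 0 := fun j => (hp _).mp (hP j)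
  have hf0 : MvPolynomial.eval p f = 0 := by
    rw [← hp]
    have : Ideal.Quotient.mk (Ideal.span {f}) f = 0 :=
      Ideal.Quotient.eq_zero_iff_mem.mpr (Ideal.mem_span_singleton_self f)
    rw [this]
    exact zero_mem _
  obtain ⟨e, he⟩ := exists_completion_equiv p f P hp L
  have hftV : Van 2 (φ₀ p f) := by
    intro d hd
    rcases degree_lt_two d hd with rfl | ⟨i, rfl⟩
    · rw [coeff_zero_eq_constantCoeff_apply, constantCoeff_φ₀, hf0]
    · rw [coeff_single_eq, pderiv_φ₀, constantCoeff_φ₀, hpt]
  have hft0 : constantCoeff (φ₀ p f) = 0 := by rw [constantCoeff_φ₀, hf0]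
  haveI hlocS : IsLocalRing (MvPowerSeries (Fin (m + 1)) k ⧸ Ideal.span {φ₀ p f}) :=
    isLocalRing_quot (φ₀ p f) hft0
  haveI hnoeL : IsNoetherianRing L :=
    IsLocalization.isNoetherianRing P.primeCompl L inferInstance
  -- the ring map from the hypersurface ring to the model
  obtain ⟨σ, hσ⟩ : ∃ σ : AdicCompletion (maximalIdeal L)
      L →+* (MvPowerSeries (Fin (m + 1)) k ⧸ Ideal.span {φ₀ p f}),
      ∀ x, σ x = e x := ⟨e.toRingEquiv.toRingHom, fun x => rfl⟩
  obtain ⟨ρ, hρdef⟩ : ∃ ρ : (MvPolynomial (Fin (m + 1)) k ⧸ Ideal.span {f}) →+*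
      (MvPowerSeries (Fin (m + 1)) k ⧸ Ideal.span {φ₀ p f}),
      ρ = σ.comp ((algebraMap L (AdicCompletion
        (maximalIdeal L) L)).comp
        (algebraMap _ L)) := ⟨_, rfl⟩
  have hρ : ∀ q, ρ (Ideal.Quotient.mk (Ideal.span {f}) q)
      = Ideal.Quotient.mk (Ideal.span {φ₀ p f}) (φ₀ p q) := by
    intro q
    rw [hρdef]
    show σ _ = _
    rw [hσ]
    exact he q
  have hρJ : (Ideal.span (Set.range fun j : Fin (m + 1) =>
      Ideal.Quotient.mk (Ideal.span {f}) (MvPolynomial.pderiv j f))).map ρ
      = (Ideal.span (Set.range fun j => pderiv k j (φ₀ p f))).map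
        (Ideal.Quotient.mk (Ideal.span {φ₀ p f})) := by
    rw [Ideal.map_span, Ideal.map_span, ← Set.range_comp, ← Set.range_comp]
    congr 2
    funext j
    show ρ (Ideal.Quotient.mk (Ideal.span {f}) (MvPolynomial.pderiv j f))
      = Ideal.Quotient.mk (Ideal.span {φ₀ p f}) (pderiv k j (φ₀ p f))
    rw [hρ, pderiv_φ₀]
  have hmaxL : maximalIdeal L
      = P.map (algebraMap _ L) :=
    (IsLocalization.AtPrime.map_eq_maximalIdeal P L).symm
  have hJP : Ideal.span (Set.range fun j : Fin (m + 1) =>
      Ideal.Quotient.mk (Ideal.span {f}) (MvPolynomial.pderiv j f)) ≤ P := by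
    rw [Ideal.span_le]
    rintro _ ⟨j, rfl⟩
    exact hP j
  have hK : Ideal.map (algebraMap (MvPolynomial (Fin (m + 1)) k ⧸ Ideal.span {f})
        L)
        (Ideal.span (Set.range fun j : Fin (m + 1) =>
          Ideal.Quotient.mk (Ideal.span {f}) (MvPolynomial.pderiv j f))) =
      IsLocalRing.maximalIdeal L ↔
      XI k (m + 1) ≤ Ideal.span (Set.range fun j => pderiv k j (φ₀ p f)) := by
    constructor
    · intro h
      apply XI_le_of_le_sup (φ₀ p f) hftV
      rw [XI, Ideal.span_le]
      rintro _ ⟨i, rfl⟩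
      rw [SetLike.mem_coe, ← Ideal.mem_quotient_iff_mem_sup, ← hρJ]
      have h1 : Ideal.Quotient.mk (Ideal.span {f})
          (MvPolynomial.X i - MvPolynomial.C (p i)) ∈ P := by
        rw [hp]; simp
      have h2 : algebraMap _ L (Ideal.Quotient.mk (Ideal.span {f})
          (MvPolynomial.X i - MvPolynomial.C (p i))) ∈ maximalIdeal L := by
        rw [hmaxL]
        exact Ideal.mem_map_of_mem _ h1
      rw [← h] at h2
      have h3 := Ideal.mem_map_of_mem (σ.comp (algebraMap L (AdicCompletion
        (maximalIdeal L) L))) h2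
      rw [Ideal.map_map] at h3
      have h4 : (σ.comp (algebraMap L (AdicCompletion
        (maximalIdeal L) L))).comp
        (algebraMap _ L) = ρ := by rw [hρdef]; rfl
      rw [h4] at h3
      have h5 : (σ.comp (algebraMap L (AdicCompletion
        (maximalIdeal L) L)))
          (algebraMap _ L (Ideal.Quotient.mk (Ideal.span {f})
          (MvPolynomial.X i - MvPolynomial.C (p i))))
          = Ideal.Quotient.mk (Ideal.span {φ₀ p f}) (X i) := by
        have := hρ (MvPolynomial.X i - MvPolynomial.C (p i))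
        rw [hρdef] at this
        rw [show φ₀ p (MvPolynomial.X i - MvPolynomial.C (p i)) = X i by
          unfold φ₀
          rw [map_sub, MvPolynomial.aeval_X, MvPolynomial.aeval_C, ← c_eq_algebraMap,
            add_sub_cancel_right]] at this
        exact this
      rwa [h5] at h3
    · intro h
      obtain ⟨hloc, hnoeth, hcompl, hff, hlh, hmax⟩ :=
        Groth.Agent.Lib.AnUnramH3.completion_facts L
      apply le_antisymm
      · rw [hmaxL]
        exact Ideal.map_mono hJP
      · rw [← Ideal.comap_map_eq_self_of_faithfullyFlat (B := AdicCompletion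
          (maximalIdeal L) L)
          (maximalIdeal L),
          ← Ideal.comap_map_eq_self_of_faithfullyFlat (B := AdicCompletion
          (maximalIdeal L) L)
          (Ideal.map (algebraMap (MvPolynomial (Fin (m + 1)) k ⧸ Ideal.span {f})
            L) _)]
        apply Ideal.comap_mono
        rw [hmax]
        intro x hx
        -- `e x` lies in the maximal ideal of the model
        have h1 : e x ∈ maximalIdeal (MvPowerSeries (Fin (m + 1)) k ⧸ Ideal.span {φ₀ p f}) := by
          rw [mem_maximalIdeal, mem_nonunits_iff] at hx ⊢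
          intro hu
          apply hx
          have := hu.map e.symm
          rwa [AlgEquiv.symm_apply_apply] at this
        rw [maximalIdeal_quot] at h1
        have h2 : e x ∈ (Ideal.span (Set.range fun j => pderiv k j (φ₀ p f))).map
            (Ideal.Quotient.mk (Ideal.span {φ₀ p f})) := Ideal.map_mono h h1
        rw [← hρJ, hρdef, ← Ideal.map_map, ← Ideal.map_map] at h2
        have h3 : Ideal.map σ (Ideal.map (algebraMap L (AdicCompletion
          (maximalIdeal L) L))
          (Ideal.map (algebraMap (MvPolynomial (Fin (m + 1)) k ⧸ Ideal.span {f})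
            L) (Ideal.span (Set.range fun j : Fin (m + 1) =>
          Ideal.Quotient.mk (Ideal.span {f}) (MvPolynomial.pderiv j f)))))
          = Ideal.comap (e.symm.toRingEquiv.toRingHom) (Ideal.map (algebraMap L
          (AdicCompletion (maximalIdeal L) L))
          (Ideal.map (algebraMap (MvPolynomial (Fin (m + 1)) k ⧸ Ideal.span {f})
            L) (Ideal.span (Set.range fun j : Fin (m + 1) =>
          Ideal.Quotient.mk (Ideal.span {f}) (MvPolynomial.pderiv j f))))) := by
          have : σ = (e.toRingEquiv : _ →+* _) := RingHom.ext fun x => hσ x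
          rw [this]
          exact Ideal.map_comap_of_equiv e.toRingEquiv
        rw [h3, Ideal.mem_comap] at h2
        have h4 : e.symm.toRingEquiv.toRingHom (e x) = x := e.symm_apply_apply x
        rwa [h4] at h2
  rw [hK]
  constructor
  · intro h
    refine ⟨φ₀ p f, ⟨⟨hft0, fun i => hftV _ (by rw [Finsupp.degree_single]; norm_num)⟩,
      quadNondeg_of_XI_le (φ₀ p f) hftV h⟩, ⟨e⟩⟩
  · rintro ⟨g, hg, ⟨e'⟩⟩
    have hgJ := Groth.Agent.Lib.QuadJac.main k m g hg
    exact XI_le_jac_of_equiv (φ₀ p f) g hftV (van_two_of_noLowTerms g hg.1)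
      (by rw [hgJ, maximalIdeal_ps]) (e'.symm.trans e)

theorem main16255
    (k : Type u) [Field k] [IsAlgClosed k] (m : ℕ) (f : MvPolynomial (Fin (m + 1)) k)
    (P : Ideal (MvPolynomial (Fin (m + 1)) k ⧸ Ideal.span {f})) [P.IsMaximal]
    (hP : ∀ j : Fin (m + 1), Ideal.Quotient.mk (Ideal.span {f}) (MvPolynomial.pderiv j f) ∈ P) :
    Ideal.map (algebraMap (MvPolynomial (Fin (m + 1)) k ⧸ Ideal.span {f}) (Localization.AtPrime P))
        (Ideal.span (Set.range fun j : Fin (m + 1) =>
          Ideal.Quotient.mk (Ideal.span {f}) (MvPolynomial.pderiv j f))) =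
      IsLocalRing.maximalIdeal (Localization.AtPrime P) ↔
    VanCyc.IsNondegQuadSing k (Localization.AtPrime P) m :=
  main_generic k m f P hP (Localization.AtPrime P)

end Groth.Agent.Lib.QuadSingHypH5
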