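import Mathlib
import Groth.Prelude.Def_W4c1liftfrobW2
import Groth.Agent.Lib.SplitW2_helper1
import Groth.Agent.Lib.FrobLiftW2_helper1
import Groth.Agent.Lib.FrobResidueG_helper1
import Groth.Agent.Lib.FrobCIG_helper1

set_option autoImplicit false
set_option maxHeartbeats 1000000

namespace Groth.Agent.Lib.QuadricConeH1

open FrobAlg MvPolynomial Groth.Agent.Lib.SplitW2H1 Groth.Agent.Lib.FrobLiftW2H1
  Groth.Agent.Lib.FrobResidueGH1 Groth.Agent.Lib.FrobCIGH1

universe u

/-! ### Degree-zero projection -/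

section general

variable (K : Type*) [CommRing K] (n : ℕ)

/-- Balanced exponent vectors. -/
def Bal (d : Fin n × Fin 2 →₀ ℕ) : Prop := ∀ i : Fin n, d (i, 0) = d (i, 1)

instance (d : Fin n × Fin 2 →₀ ℕ) : Decidable (Bal n d) := by unfold Bal; infer_instance

/-- The reduced exponent. -/
noncomputable def red (d : Fin n × Fin 2 →₀ ℕ) : Fin n →₀ ℕ :=
  Finsupp.equivFunOnFinite.symm (fun i => d (i, 0))

theorem red_apply (d : Fin n × Fin 2 →₀ ℕ) (i : Fin n) : red n d i = d (i, 0) := by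
  simp [red]

noncomputable def tt (i : Fin n) : Fin n × Fin 2 →₀ ℕ :=
  Finsupp.single (i, 0) 1 + Finsupp.single (i, 1) 1

theorem tt_apply (i j : Fin n) (ε : Fin 2) : tt n i (j, ε) = if i = j then 1 else 0 := by
  unfold tt
  fin_cases ε <;> simp [Finsupp.single_apply, Prod.ext_iff]

theorem bal_add_tt (d : Fin n × Fin 2 →₀ ℕ) (i : Fin n) : Bal n (d + tt n i) ↔ Bal n d := by
  unfold Bal
  constructor
  · intro h j
    have := h j
    simp only [Finsupp.add_apply, tt_apply] at this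
    exact Nat.add_right_cancel this
  · intro h j
    simp only [Finsupp.add_apply, tt_apply]
    rw [h j]

theorem red_add_tt (d : Fin n × Fin 2 →₀ ℕ) (i : Fin n) :
    red n (d + tt n i) = red n d + Finsupp.single i 1 := by
  ext j
  simp only [red_apply, Finsupp.add_apply, tt_apply, Finsupp.single_apply]

/-- The projection onto the torus-invariant part. -/
noncomputable def proj0 : MvPolynomial (Fin n × Fin 2) K →ₗ[K] MvPolynomial (Fin n) K :=
  (MvPolynomial.basisMonomials (Fin n × Fin 2) K).constr K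
    (fun d => if Bal n d then monomial (red n d) (1 : K) else 0)

theorem proj0_monomial (d : Fin n × Fin 2 →₀ ℕ) (c : K) :
    proj0 K n (monomial d c) = if Bal n d then monomial (red n d) c else 0 := by
  have h1 : monomial d c = c • (MvPolynomial.basisMonomials (Fin n × Fin 2) K d) := by
    rw [MvPolynomial.coe_basisMonomials, MvPolynomial.smul_monomial, smul_eq_mul, mul_one]
  rw [h1, map_smul, proj0, Module.Basis.constr_basis]
  split_ifs
  · rw [MvPolynomial.smul_monomial, smul_eq_mul, mul_one]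
  · rw [smul_zero]

theorem X_mul_X_eq (i : Fin n) :
    (X (i, 0) * X (i, 1) : MvPolynomial (Fin n × Fin 2) K) = monomial (tt n i) 1 := by
  show monomial (Finsupp.single (i, 0) 1) (1 : K) * monomial (Finsupp.single (i, 1) 1) (1 : K) = _
  rw [monomial_mul, mul_one]
  rfl

theorem proj0_mul_tt (g : MvPolynomial (Fin n × Fin 2) K) (i : Fin n) :
    proj0 K n (g * (X (i, 0) * X (i, 1))) = proj0 K n g * X i := by
  rw [X_mul_X_eq]
  induction g using MvPolynomial.induction_on' with
  | monomial d c =>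
    rw [monomial_mul, mul_one, proj0_monomial, proj0_monomial]
    by_cases hb : Bal n d
    · rw [if_pos hb, if_pos ((bal_add_tt n d i).2 hb), red_add_tt, monomial_add_single, pow_one]
    · rw [if_neg hb, if_neg (fun h => hb ((bal_add_tt n d i).1 h)), zero_mul]
  | add g₁ g₂ h₁ h₂ => rw [add_mul, map_add, map_add, h₁, h₂, add_mul]

theorem proj0_one : proj0 K n 1 = 1 := by
  have h1 : (1 : MvPolynomial (Fin n × Fin 2) K) = monomial 0 1 := rfl
  rw [h1, proj0_monomial, if_pos (show Bal n 0 from fun i => rfl)]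
  have : red n 0 = 0 := by
    ext i
    simp [red_apply]
  rw [this]
  rfl

theorem proj0_mul_tt_pow (g : MvPolynomial (Fin n × Fin 2) K) (i : Fin n) (N : ℕ) :
    proj0 K n (g * (X (i, 0) * X (i, 1)) ^ N) = proj0 K n g * X i ^ N := by
  induction N with
  | zero => simp
  | succ N ih => rw [pow_succ, ← mul_assoc, proj0_mul_tt, ih, pow_succ, mul_assoc]

/-- The quadric. -/
noncomputable def Qt : MvPolynomial (Fin n × Fin 2) K := ∑ i : Fin n, X (i, 0) * X (i, 1)

theorem proj0_mul_Q (g : MvPolynomial (Fin n × Fin 2) K) :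
    proj0 K n (g * Qt K n) = proj0 K n g * ∑ i : Fin n, X i := by
  rw [Qt, Finset.mul_sum, map_sum, Finset.mul_sum]
  exact Finset.sum_congr rfl (fun i _ => proj0_mul_tt K n g i)

theorem proj0_Xpow_mul_mem (v : Fin n × Fin 2) (N : ℕ) (g : MvPolynomial (Fin n × Fin 2) K) :
    proj0 K n (X v ^ N * g) ∈ Ideal.span {(X v.1 ^ N : MvPolynomial (Fin n) K)} := by
  induction g using MvPolynomial.induction_on' with
  | monomial d c =>
    have hX : (X v ^ N : MvPolynomial (Fin n × Fin 2) K) = monomial (Finsupp.single v N) 1 :=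
      X_pow_eq_monomial
    rw [hX, monomial_mul, one_mul, proj0_monomial]
    split_ifs with hb
    · rw [Ideal.mem_span_singleton, X_pow_eq_monomial, monomial_dvd_monomial]
      refine ⟨Or.inr ?_, one_dvd _⟩
      rw [Finsupp.single_le_iff, red_apply]
      obtain ⟨i, ε⟩ := v
      show N ≤ (Finsupp.single (i, ε) N + d) (i, 0)
      have h1 : N ≤ (Finsupp.single (i, ε) N + d) (i, ε) := by
        rw [Finsupp.add_apply, Finsupp.single_eq_same]
        exact Nat.le_add_right _ _
      have h2 := hb i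
      fin_cases ε
      · exact h1
      · rw [h2]
        exact h1
    · exact Ideal.zero_mem _
  | add g₁ g₂ h₁ h₂ =>
    rw [mul_add, map_add]
    exact Ideal.add_mem _ h₁ h₂

theorem map_proj0 {K' : Type*} [CommRing K'] (φ : K →+* K')
    (g : MvPolynomial (Fin n × Fin 2) K) :
    MvPolynomial.map φ (proj0 K n g) = proj0 K' n (MvPolynomial.map φ g) := by
  induction g using MvPolynomial.induction_on' with
  | monomial d c =>
    rw [proj0_monomial, map_monomial, proj0_monomial]
    split_ifs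
    · rw [map_monomial]
    · rw [map_zero]
  | add g₁ g₂ h₁ h₂ => simp only [map_add, h₁, h₂]

/-- The substitution `t ↦ (a, b, -a-b, 0, …)`. -/
noncomputable def tauN : ℕ → MvPolynomial (Fin 2) K
  | 0 => X 0
  | 1 => X 1
  | 2 => -X 0 - X 1
  | _ + 3 => 0

noncomputable def theta : MvPolynomial (Fin n) K →ₐ[K] MvPolynomial (Fin 2) K :=
  MvPolynomial.aeval (fun i : Fin n => tauN K i.val)

theorem theta_X (i : Fin n) : theta K n (X i) = tauN K i.val := MvPolynomial.aeval_X _ _

theorem map_tauN {K' : Type*} [CommRing K'] (φ : K →+* K') (j : ℕ) :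
    MvPolynomial.map φ (tauN K j) = tauN K' j := by
  match j with
  | 0 => simp [tauN]
  | 1 => simp [tauN]
  | 2 => simp [tauN]
  | _ + 3 => simp [tauN]

theorem map_theta {K' : Type*} [CommRing K'] (φ : K →+* K') (g : MvPolynomial (Fin n) K) :
    MvPolynomial.map φ (theta K n g) = theta K' n (MvPolynomial.map φ g) := by
  have : (MvPolynomial.map φ).comp ((theta K n : MvPolynomial (Fin n) K →ₐ[K] _) :
        MvPolynomial (Fin n) K →+* MvPolynomial (Fin 2) K)
      = ((theta K' n : MvPolynomial (Fin n) K' →ₐ[K'] _) :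
        MvPolynomial (Fin n) K' →+* MvPolynomial (Fin 2) K').comp (MvPolynomial.map φ) := by
    apply MvPolynomial.ringHom_ext
    · intro c
      simp [theta]
    · intro i
      simp [theta, map_tauN]
  exact RingHom.congr_fun this g

theorem sum_tau (n' : ℕ) {M : Type*} [AddCommMonoid M] (F : MvPolynomial (Fin 2) K → M)
    (hF : F 0 = 0) :
    ∑ i : Fin (n' + 3), F (tauN K i.val) = F (X 0) + F (X 1) + F (-X 0 - X 1) := by
  rw [Fin.sum_univ_eq_sum_range (fun j => F (tauN K j)) (n' + 3), Finset.sum_range_succ',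
    Finset.sum_range_succ', Finset.sum_range_succ']
  have : ∑ j ∈ Finset.range n', F (tauN K (j + 1 + 1 + 1)) = 0 :=
    Finset.sum_eq_zero (fun j _ => hF)
  rw [this, zero_add]
  show F (-X 0 - X 1) + F (X 1) + F (X 0) = _
  abel

theorem theta_sum (n' : ℕ) : theta K (n' + 3) (∑ i : Fin (n' + 3), X i) = 0 := by
  rw [map_sum]
  simp only [theta_X]
  rw [sum_tau K n' (fun z => z) rfl]
  ring

variable (p : ℕ)

/-- The exponent of `a b^{p-1}`. -/
noncomputable def m0 : Fin 2 →₀ ℕ := Finsupp.single 0 1 + Finsupp.single 1 (p - 1)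

theorem m0_zero : m0 p 0 = 1 := by simp [m0]

theorem m0_one : m0 p 1 = p - 1 := by simp [m0]

/-- The linear functional. -/
noncomputable def Lam : MvPolynomial (Fin n × Fin 2) K →ₗ[K] K :=
  (MvPolynomial.lcoeff K (m0 p)) ∘ₗ (theta K n).toLinearMap ∘ₗ (proj0 K n)

theorem Lam_apply (g : MvPolynomial (Fin n × Fin 2) K) :
    Lam K n p g = coeff (m0 p) (theta K n (proj0 K n g)) := rfl

theorem map_Lam {K' : Type*} [CommRing K'] (φ : K →+* K') (g : MvPolynomial (Fin n × Fin 2) K) :
    φ (Lam K n p g) = Lam K' n p (MvPolynomial.map φ g) := by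
  rw [Lam_apply, Lam_apply, ← MvPolynomial.coeff_map, map_theta, map_proj0]

theorem Lam_p_mul (g : MvPolynomial (Fin n × Fin 2) K) :
    Lam K n p (((p : ℕ) : MvPolynomial (Fin n × Fin 2) K) * g) = ((p : ℕ) : K) * Lam K n p g := by
  rw [← map_natCast (C : K →+* MvPolynomial (Fin n × Fin 2) K), ← MvPolynomial.smul_eq_C_mul,
    map_smul, smul_eq_mul]

theorem Lam_mul_Q (n' : ℕ) (g : MvPolynomial (Fin (n' + 3) × Fin 2) K) :
    Lam K (n' + 3) p (g * Qt K (n' + 3)) = 0 := by
  rw [Lam_apply, proj0_mul_Q, map_mul, theta_sum, mul_zero, coeff_zero]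

theorem coeff_X0_pow_mul (hp : 2 ≤ p) (z : MvPolynomial (Fin 2) K) :
    coeff (m0 p) (X 0 ^ p * z) = 0 := by
  rw [X_pow_eq_monomial, coeff_monomial_mul', if_neg]
  rw [Finsupp.single_le_iff, m0_zero]
  omega

theorem coeff_X1_pow_mul (hp : 2 ≤ p) (z : MvPolynomial (Fin 2) K) :
    coeff (m0 p) (X 1 ^ p * z) = 0 := by
  rw [X_pow_eq_monomial, coeff_monomial_mul', if_neg]
  rw [Finsupp.single_le_iff, m0_one]
  omega

theorem term_eq (j : ℕ) :
    (X 0 ^ j * X 1 ^ (p - j) * ((p.choose j : ℕ) : MvPolynomial (Fin 2) K))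
      = monomial (Finsupp.single 0 j + Finsupp.single 1 (p - j)) ((p.choose j : ℕ) : K) := by
  rw [X_pow_eq_monomial, X_pow_eq_monomial, monomial_mul, one_mul, ← C_eq_coe_nat, mul_comm,
    C_mul_monomial, mul_one]

theorem coeff_add_pow (hp : 2 ≤ p) :
    coeff (m0 p) ((X 0 + X 1 : MvPolynomial (Fin 2) K) ^ p) = ((p : ℕ) : K) := by
  rw [add_pow, coeff_sum, Finset.sum_eq_single 1]
  · rw [term_eq, coeff_monomial,
      if_pos (show (Finsupp.single 0 1 + Finsupp.single 1 (p - 1) : Fin 2 →₀ ℕ) = m0 p from rfl),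
      Nat.choose_one_right]
  · intro j _ hj
    rw [term_eq, coeff_monomial, if_neg]
    intro h
    have := congrArg (fun f => f 0) h
    simp only [Finsupp.add_apply, Finsupp.single_eq_same] at this
    rw [m0_zero] at this
    simp at this
    exact hj this
  · intro h
    exfalso
    apply h
    rw [Finset.mem_range]
    omega

theorem neg_sub_pow : ((-X 0 - X 1 : MvPolynomial (Fin 2) K)) ^ p
    = C ((-1 : K) ^ p) * (X 0 + X 1) ^ p := by
  have : (-X 0 - X 1 : MvPolynomial (Fin 2) K) = C (-1 : K) * (X 0 + X 1) := by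
    rw [map_neg, map_one]; ring
  rw [this, mul_pow, ← map_pow]

theorem Lam_frobQ (hp : 2 ≤ p) (n' : ℕ) :
    Lam K (n' + 3) p (∑ i : Fin (n' + 3), X (i, 0) ^ p * X (i, 1) ^ p)
      = (-1 : K) ^ p * ((p : ℕ) : K) := by
  have h1 : ∀ i : Fin (n' + 3),
      proj0 K (n' + 3) (X (i, 0) ^ p * X (i, 1) ^ p) = X i ^ p := by
    intro i
    have := proj0_mul_tt_pow K (n' + 3) 1 i p
    rw [one_mul, proj0_one, one_mul, mul_pow] at this
    exact this
  rw [Lam_apply, map_sum, Finset.sum_congr rfl (fun i _ => h1 i), map_sum]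
  simp only [map_pow, theta_X]
  rw [sum_tau K n' (fun z => z ^ p) (zero_pow (by omega)), coeff_add, coeff_add]
  have e0 := coeff_X0_pow_mul K p hp 1
  have e1 := coeff_X1_pow_mul K p hp 1
  rw [mul_one] at e0 e1
  rw [e0, e1, neg_sub_pow, coeff_C_mul, coeff_add_pow K p hp]
  ring

end general

/-! ### Characteristic `p` -/

section charp

variable (K : Type*) [CommRing K] (n : ℕ) (p : ℕ) [Fact p.Prime] [CharP K p]

theorem proj0_pow_p (g : MvPolynomial (Fin n × Fin 2) K) :
    proj0 K n (g ^ p) = (proj0 K n g) ^ p := by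
  induction g using MvPolynomial.induction_on' with
  | monomial d c =>
    rw [monomial_pow, proj0_monomial, proj0_monomial]
    have hb : Bal n (p • d) ↔ Bal n d := by
      unfold Bal
      simp only [Finsupp.smul_apply, smul_eq_mul]
      constructor
      · intro h i
        exact Nat.eq_of_mul_eq_mul_left (Fact.out : p.Prime).pos (h i)
      · intro h i
        rw [h i]
    by_cases h : Bal n d
    · have hr : red n (p • d) = p • red n d := by
        ext i
        simp [red_apply]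
      rw [if_pos h, if_pos (hb.2 h), monomial_pow, hr]
    · rw [if_neg h, if_neg (fun h' => h (hb.1 h')), zero_pow (Fact.out : p.Prime).ne_zero]
  | add g₁ g₂ h₁ h₂ => rw [add_pow_char, map_add, h₁, h₂, map_add, add_pow_char]

theorem coeff_m0_pow_p (z : MvPolynomial (Fin 2) K) : coeff (m0 p) (z ^ p) = 0 := by
  have hp : p.Prime := Fact.out
  induction z using MvPolynomial.induction_on' with
  | monomial e c =>
    rw [monomial_pow, coeff_monomial, if_neg]
    intro h
    have := congrArg (fun f => f 0) h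
    simp only [Finsupp.smul_apply, smul_eq_mul] at this
    rw [m0_zero] at this
    have h2 : p ∣ 1 := ⟨e 0, this.symm⟩
    exact hp.one_lt.ne' (Nat.dvd_one.1 h2)
  | add z₁ z₂ h₁ h₂ => rw [add_pow_char, coeff_add, h₁, h₂, add_zero]

theorem Lamk_pow_p (g : MvPolynomial (Fin n × Fin 2) K) : Lam K n p (g ^ p) = 0 := by
  rw [Lam_apply, proj0_pow_p, map_pow, coeff_m0_pow_p]

theorem coeff_tau_pow_mul (j : ℕ) (z : MvPolynomial (Fin 2) K) :
    coeff (m0 p) (tauN K j ^ p * z) = 0 := by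
  have hp : p.Prime := Fact.out
  match j with
  | 0 => exact coeff_X0_pow_mul K p hp.two_le z
  | 1 => exact coeff_X1_pow_mul K p hp.two_le z
  | 2 =>
    show coeff (m0 p) ((-X 0 - X 1) ^ p * z) = 0
    rw [neg_sub_pow, add_pow_char, mul_assoc, coeff_C_mul, add_mul, coeff_add,
      coeff_X0_pow_mul K p hp.two_le, coeff_X1_pow_mul K p hp.two_le, add_zero, mul_zero]
  | _ + 3 =>
    show coeff (m0 p) ((0 : MvPolynomial (Fin 2) K) ^ p * z) = 0
    rw [zero_pow hp.ne_zero, zero_mul, coeff_zero]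

theorem Lamk_Xpow_mul (v : Fin n × Fin 2) (g : MvPolynomial (Fin n × Fin 2) K) :
    Lam K n p (X v ^ p * g) = 0 := by
  obtain ⟨g', hg'⟩ := Ideal.mem_span_singleton'.1 (proj0_Xpow_mul_mem K n v p g)
  rw [Lam_apply, ← hg', map_mul, map_pow, theta_X, mul_comm]
  exact coeff_tau_pow_mul K p _ _

end charp

/-! ### The Witt vector level -/

section witt

variable (p : ℕ) [Fact p.Prime] (k : Type u) [Field k] [CharP k p] [PerfectRing k p] (n : ℕ)

theorem p_mul_Lam_eq_zero (z : MvPolynomial (Fin n × Fin 2) (W2 p k))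
    (hz : Lam k n p (MvPolynomial.map (FrobAlg.res p k) z) = 0) :
    ((p : ℕ) : W2 p k) * Lam (W2 p k) n p z = 0 := by
  have h1 : (Lam (W2 p k) n p z).coeff 0 = 0 := by
    rw [← FrobAlg.res_apply, map_Lam, hz]
  obtain ⟨c, hc, _⟩ := exists_eq_mul_p p k _ h1
  rw [hc]
  linear_combination c * p_mul_p (R := k) p

theorem p_mul_Lam_Xpow (v : Fin n × Fin 2) (g : MvPolynomial (Fin n × Fin 2) (W2 p k)) :
    ((p : ℕ) : W2 p k) * Lam (W2 p k) n p (X v ^ p * g) = 0 := by
  apply p_mul_Lam_eq_zero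
  rw [map_mul, map_pow, MvPolynomial.map_X]
  exact Lamk_Xpow_mul k n p v _

theorem p_mul_Lam_polyFrob (g : MvPolynomial (Fin n × Fin 2) (W2 p k)) :
    ((p : ℕ) : W2 p k) * Lam (W2 p k) n p (polyFrob p k (Fin n × Fin 2) g) = 0 := by
  apply p_mul_Lam_eq_zero
  rw [rho_polyFrob]
  exact Lamk_pow_p k n p _

theorem p_ne_zero : ((p : ℕ) : W2 p k) ≠ 0 := by
  intro h
  have := coeff1_p (R := k) p
  rw [h, TruncatedWittVector.coeff_zero] at this
  exact zero_ne_one this

theorem neg_one_pow_mul_p_ne_zero : (-1 : W2 p k) ^ p * ((p : ℕ) : W2 p k) ≠ 0 := by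
  intro h
  apply p_ne_zero p k
  have h2 : ((-1 : W2 p k) ^ p) * ((-1 : W2 p k) ^ p) = 1 := by
    rw [← mul_pow]; simp
  calc ((p : ℕ) : W2 p k) = ((-1 : W2 p k) ^ p) * ((-1 : W2 p k) ^ p * ((p : ℕ) : W2 p k)) := by
        rw [← mul_assoc, h2, one_mul]
    _ = 0 := by rw [h, mul_zero]

theorem rho_Qt : MvPolynomial.map (FrobAlg.res p k) (Qt (W2 p k) n) = Qt k n := by
  simp [Qt]

end witt

/-! ### Presentations of flat liftings -/

section present

variable (p : ℕ) [Fact p.Prime] (k : Type u) [Field k] [CharP k p] [PerfectRing k p]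
  {σ : Type} [Fintype σ] [DecidableEq σ]
  (I : Ideal (MvPolynomial σ k)) {B : Type u} [CommRing B] {ι : W2 p k →+* B}
  {π : B →+* MvPolynomial σ k ⧸ I} (hB : FrobAlg.IsLift p k (MvPolynomial σ k ⧸ I) B ι π)

include hB

theorem presentation :
    ∃ ψ : MvPolynomial σ (W2 p k) →+* B, Function.Surjective ψ ∧
      (∀ g, π (ψ g) = Ideal.Quotient.mk I (MvPolynomial.map (FrobAlg.res p k) g)) := by
  have hbx : ∀ i : σ, ∃ b : B, π b = Ideal.Quotient.mk I (X i) := fun i => hB.surj _
  choose b hb using hbx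
  set ψ : MvPolynomial σ (W2 p k) →+* B := MvPolynomial.eval₂Hom ι b with hψ
  have hψC : ∀ w, ψ (C w) = ι w := fun w => by rw [hψ]; simp
  have hψX : ∀ i, ψ (X i) = b i := fun i => by rw [hψ]; simp
  have hψp : ψ ((p : ℕ) : MvPolynomial σ (W2 p k)) = ((p : ℕ) : B) := map_natCast ψ p
  have hπψ : ∀ g, π (ψ g) = Ideal.Quotient.mk I (MvPolynomial.map (FrobAlg.res p k) g) := by
    have : π.comp ψ = (Ideal.Quotient.mk I).comp (MvPolynomial.map (FrobAlg.res p k)) := by
      apply MvPolynomial.ringHom_ext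
      · intro w
        show π (ψ (C w)) = Ideal.Quotient.mk I (MvPolynomial.map (FrobAlg.res p k) (C w))
        rw [hψC, pi_iota p hB, MvPolynomial.map_C, FrobAlg.res_apply]
        rfl
      · intro i
        show π (ψ (X i)) = Ideal.Quotient.mk I (MvPolynomial.map (FrobAlg.res p k) (X i))
        rw [hψX, hb, MvPolynomial.map_X]
    intro g
    exact RingHom.congr_fun this g
  have hpB : ∀ c : B, π c = 0 → ∃ d, c = d * ((p : ℕ) : B) := exists_of_pi_eq_zero p hB
  have hsurj1 : ∀ c : B, ∃ g c', c = ψ g + ((p : ℕ) : B) * c' := by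
    intro c
    obtain ⟨g0, hg0⟩ := Ideal.Quotient.mk_surjective (π c)
    obtain ⟨g, rfl⟩ := rho_surjective (σ := σ) p k g0
    obtain ⟨d, hd⟩ := hpB (c - ψ g) (by rw [map_sub, hπψ, hg0, sub_self])
    exact ⟨g, d, by linear_combination hd⟩
  refine ⟨ψ, ?_, hπψ⟩
  intro c
  obtain ⟨g₀, c₁, h₀⟩ := hsurj1 c
  obtain ⟨g₁, c₂, h₁⟩ := hsurj1 c₁
  refine ⟨g₀ + ((p : ℕ) : MvPolynomial σ (W2 p k)) * g₁, ?_⟩
  rw [map_add, map_mul, hψp, h₀, h₁]
  have := pB_sq p hB
  linear_combination (-c₂) * this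

theorem lift_ker (ψ : MvPolynomial σ (W2 p k) →+* B) (hsurj : Function.Surjective ψ)
    (hπψ : ∀ g, π (ψ g) = Ideal.Quotient.mk I (MvPolynomial.map (FrobAlg.res p k) g))
    (g : MvPolynomial σ k) (hg : g ∈ I) :
    ∃ g' : MvPolynomial σ (W2 p k), MvPolynomial.map (FrobAlg.res p k) g' = g ∧ ψ g' = 0 := by
  obtain ⟨g0, hg0⟩ := rho_surjective (σ := σ) p k g
  have h0 : π (ψ g0) = 0 := by
    rw [hπψ, hg0]
    exact Ideal.Quotient.eq_zero_iff_mem.2 hg
  obtain ⟨d, hd⟩ := exists_of_pi_eq_zero p hB _ h0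
  obtain ⟨e, rfl⟩ := hsurj d
  refine ⟨g0 - ((p : ℕ) : MvPolynomial σ (W2 p k)) * e, ?_, ?_⟩
  · rw [map_sub, map_mul, rho_p, zero_mul, sub_zero, hg0]
  · rw [map_sub, map_mul, map_natCast, hd]
    ring

theorem ker_mod_p (ψ : MvPolynomial σ (W2 p k) →+* B)
    (hπψ : ∀ g, π (ψ g) = Ideal.Quotient.mk I (MvPolynomial.map (FrobAlg.res p k) g))
    (z : MvPolynomial σ (W2 p k)) (hz : ψ z = 0)
    (hρ : MvPolynomial.map (FrobAlg.res p k) z = 0) :
    ∃ e : MvPolynomial σ (W2 p k), z = ((p : ℕ) : MvPolynomial σ (W2 p k)) * e ∧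
      MvPolynomial.map (FrobAlg.res p k) e ∈ I := by
  obtain ⟨e, he⟩ := exists_of_rho_eq p k z 0 (by rw [hρ, map_zero])
  rw [sub_zero] at he
  refine ⟨e, by rw [he, mul_comm], ?_⟩
  have h1 : ((p : ℕ) : B) * ψ e = 0 := by
    rw [← map_natCast ψ p, ← map_mul, mul_comm, ← he, hz]
  have h2 := pi_eq_zero_of_p_mul p hB _ h1
  rw [hπψ, Ideal.Quotient.eq_zero_iff_mem] at h2
  exact h2

end present

end Groth.Agent.Lib.QuadricConeH1
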