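import Mathlib
import Groth.Prelude.Def_W4c1liftfrobW2
import Groth.Agent.Lib.QuadricCone_helper1

set_option autoImplicit false
set_option maxHeartbeats 2000000

namespace Groth.Agent.Lib.QuadricConeH1

open FrobAlg MvPolynomial Groth.Agent.Lib.SplitW2H1 Groth.Agent.Lib.FrobLiftW2H1
  Groth.Agent.Lib.FrobResidueGH1 Groth.Agent.Lib.FrobCIGH1

universe u

section pd

variable (K : Type*) [CommRing K] (n : ℕ)

def sw (v : Fin n × Fin 2) : Fin n × Fin 2 := (v.1, 1 - v.2)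

theorem pderiv_Qt (v : Fin n × Fin 2) : pderiv v (Qt K n) = X (sw n v) := by
  obtain ⟨i, ε⟩ := v
  rw [Qt, map_sum]
  simp only [Derivation.leibniz, pderiv_X, smul_eq_mul, Pi.single_apply]
  fin_cases ε
  · simp [Prod.ext_iff, sw, Finset.sum_ite_eq']
  · simp [Prod.ext_iff, sw, Finset.sum_ite_eq']

end pd

section mains

variable (p : ℕ) [Fact p.Prime] (k : Type u) [Field k] [CharP k p] [PerfectRing k p]

theorem polyFrob_Qt (n : ℕ) :
    polyFrob p k (Fin n × Fin 2) (Qt (W2 p k) n) = ∑ i : Fin n, X (i, 0) ^ p * X (i, 1) ^ p := by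
  rw [Qt, map_sum]
  exact Finset.sum_congr rfl (fun i _ => by rw [map_mul, polyFrob_X, polyFrob_X])

theorem pR_pow (n : ℕ) : ((p : ℕ) : MvPolynomial (Fin n × Fin 2) (W2 p k)) ^ p = 0 := by
  apply pow_eq_zero_of_le (Fact.out : p.Prime).two_le
  rw [pow_two]
  exact pR_sq (σ := Fin n × Fin 2) p k

theorem main13146 (n : ℕ) (hn : 3 ≤ n) :
    ¬ FrobAlg.IsW2Liftable p k
      (MvPolynomial (Fin n × Fin 2) k ⧸ Ideal.span
        (insert (∑ i : Fin n, MvPolynomial.X (i, (0 : Fin 2)) * MvPolynomial.X (i, (1 : Fin 2)))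
          (Set.range fun v : Fin n × Fin 2 => (MvPolynomial.X v : MvPolynomial (Fin n × Fin 2) k) ^ p))) := by
  have hp : p.Prime := Fact.out
  obtain ⟨n', rfl⟩ : ∃ n', n = n' + 3 := ⟨n - 3, by omega⟩
  rintro ⟨B, _, ι, π, hB⟩
  set I : Ideal (MvPolynomial (Fin (n' + 3) × Fin 2) k) := Ideal.span
        (insert (∑ i : Fin (n' + 3), MvPolynomial.X (i, (0 : Fin 2)) * MvPolynomial.X (i, (1 : Fin 2)))
          (Set.range fun v : Fin (n' + 3) × Fin 2 =>
            (MvPolynomial.X v : MvPolynomial (Fin (n' + 3) × Fin 2) k) ^ p)) with hI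
  obtain ⟨ψ, hsurj, hπψ⟩ := presentation p k I hB
  have hQI : Qt k (n' + 3) ∈ I := Ideal.subset_span (Set.mem_insert _ _)
  have hXI : ∀ v : Fin (n' + 3) × Fin 2, (X v : MvPolynomial (Fin (n' + 3) × Fin 2) k) ^ p ∈ I :=
    fun v => Ideal.subset_span (Set.mem_insert_of_mem _ ⟨v, rfl⟩)
  obtain ⟨Q', hQ'ρ, hQ'ψ⟩ := lift_ker p k I hB ψ hsurj hπψ _ hQI
  have hξ := fun i : Fin (n' + 3) => lift_ker p k I hB ψ hsurj hπψ _ (hXI (i, 0))
  choose ξ hξρ hξψ using hξ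
  obtain ⟨g, hg⟩ := exists_of_rho_eq p k Q' (Qt (W2 p k) (n' + 3)) (by rw [hQ'ρ, rho_Qt])
  have hu := fun i : Fin (n' + 3) => exists_of_rho_eq p k (ξ i) (X (i, 0) ^ p)
    (by rw [hξρ, map_pow, MvPolynomial.map_X])
  choose u hu using hu
  have hsum : ∑ i : Fin (n' + 3), X (i, 1) ^ p * ξ i
      = (∑ i : Fin (n' + 3), X (i, 0) ^ p * X (i, 1) ^ p)
        + ((p : ℕ) : MvPolynomial (Fin (n' + 3) × Fin 2) (W2 p k))
          * ∑ i : Fin (n' + 3), X (i, 1) ^ p * u i := by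
    rw [Finset.mul_sum, ← Finset.sum_add_distrib]
    apply Finset.sum_congr rfl
    intro i _
    linear_combination (X (i, 1) ^ p) * hu i
  set z : MvPolynomial (Fin (n' + 3) × Fin 2) (W2 p k) :=
    Qt (W2 p k) (n' + 3) ^ (p - 1) * Q' - ∑ i : Fin (n' + 3), X (i, 1) ^ p * ξ i with hz
  have hzψ : ψ z = 0 := by
    rw [hz, map_sub, map_mul, hQ'ψ, mul_zero, map_sum, zero_sub, neg_eq_zero]
    apply Finset.sum_eq_zero
    intro i _
    rw [map_mul, hξψ, mul_zero]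
  have hzρ : MvPolynomial.map (FrobAlg.res p k) z = 0 := by
    rw [hz, map_sub, map_mul, map_pow, rho_Qt, hQ'ρ, map_sum, ← pow_succ,
      Nat.sub_add_cancel hp.one_le, Qt, sum_pow_char, sub_eq_zero]
    apply Finset.sum_congr rfl
    intro i _
    rw [map_mul, map_pow, MvPolynomial.map_X, hξρ, mul_pow, mul_comm]
  obtain ⟨e, hze, heI⟩ := ker_mod_p p k I hB ψ hπψ z hzψ hzρ
  rw [hI, Ideal.mem_span_insert] at heI
  obtain ⟨c0, y, hy, hey⟩ := heI
  obtain ⟨d0, hd0⟩ := (Ideal.mem_span_range_iff_exists_fun).1 hy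
  obtain ⟨c, hc⟩ := rho_surjective (σ := Fin (n' + 3) × Fin 2) p k c0
  have hd := fun v => rho_surjective (σ := Fin (n' + 3) × Fin 2) p k (d0 v)
  choose d hd using hd
  obtain ⟨w, hw⟩ := exists_of_rho_eq p k e
    (c * Qt (W2 p k) (n' + 3) + ∑ v : Fin (n' + 3) × Fin 2, X v ^ p * d v) (by
      rw [hey, map_add, map_mul, hc, rho_Qt, map_sum, ← hd0]
      congr 1
      apply Finset.sum_congr rfl
      intro v _
      rw [map_mul, map_pow, MvPolynomial.map_X, hd, mul_comm])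
  have hpowQ : Qt (W2 p k) (n' + 3) ^ (p - 1)
      = Qt (W2 p k) (n' + 3) ^ (p - 2) * Qt (W2 p k) (n' + 3) := by
    rw [← pow_succ]
    congr 1
    have := hp.two_le
    omega
  have h1 := pR_sq (σ := Fin (n' + 3) × Fin 2) p k
  have hz' : z = Qt (W2 p k) (n' + 3) ^ (p - 1) * Q'
      - ((∑ i : Fin (n' + 3), X (i, 0) ^ p * X (i, 1) ^ p)
        + ((p : ℕ) : MvPolynomial (Fin (n' + 3) × Fin 2) (W2 p k))
          * ∑ i : Fin (n' + 3), X (i, 1) ^ p * u i) := by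
    rw [hz, hsum]
  have hmain : Qt (W2 p k) (n' + 3) ^ (p - 1) * Qt (W2 p k) (n' + 3)
      - (∑ i : Fin (n' + 3), X (i, 0) ^ p * X (i, 1) ^ p)
      + ((p : ℕ) : MvPolynomial (Fin (n' + 3) × Fin 2) (W2 p k))
        * (Qt (W2 p k) (n' + 3) ^ (p - 2) * g * Qt (W2 p k) (n' + 3))
      - ((p : ℕ) : MvPolynomial (Fin (n' + 3) × Fin 2) (W2 p k))
        * (∑ i : Fin (n' + 3), X (i, 1) ^ p * u i)
      = ((p : ℕ) : MvPolynomial (Fin (n' + 3) × Fin 2) (W2 p k)) * (c * Qt (W2 p k) (n' + 3))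
        + ((p : ℕ) : MvPolynomial (Fin (n' + 3) × Fin 2) (W2 p k))
          * (∑ v : Fin (n' + 3) × Fin 2, X v ^ p * d v) := by
    linear_combination (-1 : MvPolynomial (Fin (n' + 3) × Fin 2) (W2 p k)) * hz' + hze
      + ((p : ℕ) : MvPolynomial (Fin (n' + 3) × Fin 2) (W2 p k)) * hw
      - Qt (W2 p k) (n' + 3) ^ (p - 1) * hg
      - ((p : ℕ) : MvPolynomial (Fin (n' + 3) × Fin 2) (W2 p k)) * g * hpowQ + w * h1
  have hL := congrArg (Lam (W2 p k) (n' + 3) p) hmain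
  simp only [map_add, map_sub, Lam_p_mul] at hL
  have hS2 : ((p : ℕ) : W2 p k) * Lam (W2 p k) (n' + 3) p
      (∑ i : Fin (n' + 3), X (i, 1) ^ p * u i) = 0 := by
    rw [map_sum, Finset.mul_sum]
    exact Finset.sum_eq_zero (fun i _ => p_mul_Lam_Xpow p k (n' + 3) _ _)
  have hS3 : ((p : ℕ) : W2 p k) * Lam (W2 p k) (n' + 3) p
      (∑ v : Fin (n' + 3) × Fin 2, X v ^ p * d v) = 0 := by
    rw [map_sum, Finset.mul_sum]
    exact Finset.sum_eq_zero (fun v _ => p_mul_Lam_Xpow p k (n' + 3) _ _)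
  rw [Lam_mul_Q, Lam_mul_Q, Lam_mul_Q, Lam_frobQ (W2 p k) p hp.two_le n', hS2, hS3] at hL
  apply neg_one_pow_mul_p_ne_zero p k
  linear_combination (-1 : W2 p k) * hL

theorem main19564 (n : ℕ) (hn : 3 ≤ n) :
    ¬ FrobAlg.IsFLiftable p k
      (MvPolynomial (Fin n × Fin 2) k ⧸ Ideal.span
        {(∑ i : Fin n, MvPolynomial.X (i, (0 : Fin 2)) * MvPolynomial.X (i, (1 : Fin 2)) :
          MvPolynomial (Fin n × Fin 2) k)}) := by
  have hp : p.Prime := Fact.out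
  obtain ⟨n', rfl⟩ : ∃ n', n = n' + 3 := ⟨n - 3, by omega⟩
  intro hlift
  have e : (Ideal.span {(∑ i : Fin (n' + 3), MvPolynomial.X (i, (0 : Fin 2))
        * MvPolynomial.X (i, (1 : Fin 2)) : MvPolynomial (Fin (n' + 3) × Fin 2) k)})
      = Ideal.span (Set.range (fun _ : Fin 1 => Qt k (n' + 3))) := by
    rw [Set.range_const]
    rfl
  rw [e] at hlift
  obtain ⟨B, _, ι, π, Φ, hΦ⟩ := hlift
  obtain ⟨f', h, hf', hD⟩ :=
    residues_of_liftable p k (fun _ : Fin 1 => Qt k (n' + 3)) B ι π Φ hΦ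
  have hrange : Set.range f' = {f' 0} := by
    rw [Set.range_unique]
    rfl
  have hD0 := hD 0
  rw [hrange, Ideal.span_singleton_mul_span_singleton, Ideal.mem_span_singleton'] at hD0
  obtain ⟨c, hc⟩ := hD0
  have hF0 : f' 0 = Qt (W2 p k) (n' + 3)
      + ((p : ℕ) : MvPolynomial (Fin (n' + 3) × Fin 2) (W2 p k)) * 0 + (f' 0 - Qt (W2 p k) (n' + 3)) := by
    ring
  obtain ⟨g, hg⟩ := exists_of_rho_eq p k (f' 0) (Qt (W2 p k) (n' + 3)) (by rw [hf' 0, rho_Qt])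
  have hF : f' 0 = Qt (W2 p k) (n' + 3)
      + g * ((p : ℕ) : MvPolynomial (Fin (n' + 3) × Fin 2) (W2 p k)) := by
    linear_combination hg
  have h1 := pR_sq (σ := Fin (n' + 3) × Fin 2) p k
  have hpd : ∀ v, pderiv v (f' 0) = X (sw (n' + 3) v)
      + ((p : ℕ) : MvPolynomial (Fin (n' + 3) × Fin 2) (W2 p k)) * pderiv v g := by
    intro v
    rw [hF, map_add, pderiv_Qt, Derivation.leibniz, Derivation.map_natCast, smul_zero, zero_add,
      smul_eq_mul]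
  have hterm : ∀ v, ((p : ℕ) : MvPolynomial (Fin (n' + 3) × Fin 2) (W2 p k))
        * (pderiv v (f' 0) ^ p * h v)
      = ((p : ℕ) : MvPolynomial (Fin (n' + 3) × Fin 2) (W2 p k))
        * (X (sw (n' + 3) v) ^ p * h v) := by
    intro v
    rw [hpd v]
    have h2 := pmul_add_pow p k (X (sw (n' + 3) v))
      (((p : ℕ) : MvPolynomial (Fin (n' + 3) × Fin 2) (W2 p k)) * pderiv v g)
    have h3 : ((p : ℕ) : MvPolynomial (Fin (n' + 3) × Fin 2) (W2 p k))
        * (((p : ℕ) : MvPolynomial (Fin (n' + 3) × Fin 2) (W2 p k)) * pderiv v g) ^ p = 0 := by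
      rw [mul_pow, pR_pow, zero_mul, mul_zero]
    linear_combination (h v) * h2 + (h v) * h3
  have hsumterm : ((p : ℕ) : MvPolynomial (Fin (n' + 3) × Fin 2) (W2 p k))
        * ∑ v, pderiv v (f' 0) ^ p * h v
      = ((p : ℕ) : MvPolynomial (Fin (n' + 3) × Fin 2) (W2 p k))
        * ∑ v, X (sw (n' + 3) v) ^ p * h v := by
    rw [Finset.mul_sum, Finset.mul_sum]
    exact Finset.sum_congr rfl (fun v _ => hterm v)
  have hPF : polyFrob p k (Fin (n' + 3) × Fin 2) (f' 0)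
      = (∑ i : Fin (n' + 3), X (i, 0) ^ p * X (i, 1) ^ p)
        + ((p : ℕ) : MvPolynomial (Fin (n' + 3) × Fin 2) (W2 p k))
          * polyFrob p k (Fin (n' + 3) × Fin 2) g := by
    rw [hF, map_add, map_mul, map_natCast, polyFrob_Qt]
    ring
  have hpow : f' 0 ^ p = Qt (W2 p k) (n' + 3) ^ p := by
    obtain ⟨m, hm⟩ : ∃ m, p = m + 1 := ⟨p - 1, by have := hp.one_lt; omega⟩
    rw [hF]
    have hn2 : (g * ((p : ℕ) : MvPolynomial (Fin (n' + 3) × Fin 2) (W2 p k)))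
        * (g * ((p : ℕ) : MvPolynomial (Fin (n' + 3) × Fin 2) (W2 p k))) = 0 := by
      linear_combination g * g * h1
    have key := add_pow_sq_zero (Qt (W2 p k) (n' + 3))
      (g * ((p : ℕ) : MvPolynomial (Fin (n' + 3) × Fin 2) (W2 p k))) hn2 m
    rw [← hm] at key
    rw [key]
    linear_combination (Qt (W2 p k) (n' + 3) ^ m * g) * h1
  have hQp : Qt (W2 p k) (n' + 3) ^ p
      = Qt (W2 p k) (n' + 3) ^ (p - 1) * Qt (W2 p k) (n' + 3) := by
    rw [← pow_succ, Nat.sub_add_cancel hp.one_le]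
  rw [hPF, hpow, hsumterm] at hc
  have hmain : (∑ i : Fin (n' + 3), X (i, 0) ^ p * X (i, 1) ^ p)
      + ((p : ℕ) : MvPolynomial (Fin (n' + 3) × Fin 2) (W2 p k))
        * polyFrob p k (Fin (n' + 3) × Fin 2) g
      - Qt (W2 p k) (n' + 3) ^ (p - 1) * Qt (W2 p k) (n' + 3)
      - ((p : ℕ) : MvPolynomial (Fin (n' + 3) × Fin 2) (W2 p k))
        * ∑ v, X (sw (n' + 3) v) ^ p * h v
      = ((p : ℕ) : MvPolynomial (Fin (n' + 3) × Fin 2) (W2 p k))
        * (c * Qt (W2 p k) (n' + 3)) := by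
    linear_combination (-1 : MvPolynomial (Fin (n' + 3) × Fin 2) (W2 p k)) * hc
      + c * ((p : ℕ) : MvPolynomial (Fin (n' + 3) × Fin 2) (W2 p k)) * hg + c * g * h1 + hQp
  have hL := congrArg (Lam (W2 p k) (n' + 3) p) hmain
  simp only [map_add, map_sub, Lam_p_mul] at hL
  have hS : ((p : ℕ) : W2 p k) * Lam (W2 p k) (n' + 3) p
      (∑ v, X (sw (n' + 3) v) ^ p * h v) = 0 := by
    rw [map_sum, Finset.mul_sum]
    exact Finset.sum_eq_zero (fun v _ => p_mul_Lam_Xpow p k (n' + 3) _ _)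
  rw [Lam_mul_Q, Lam_mul_Q, Lam_frobQ (W2 p k) p hp.two_le n', hS, p_mul_Lam_polyFrob] at hL
  apply neg_one_pow_mul_p_ne_zero p k
  linear_combination hL

end mains

end Groth.Agent.Lib.QuadricConeH1
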