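import Mathlib
import Groth.Prelude

set_option autoImplicit false
set_option linter.style.haveILetI false
set_option linter.unusedVariables false

universe u

open MvPolynomial

namespace Groth.Agent.Lib.Quartic6H4

variable {k : Type u} [Field k]

/-- the linear form `mu i * X0 - la i * X1`. -/
noncomputable def ell (la mu : Fin 4 → k) (i : Fin 4) : MvPolynomial (Fin 2) k :=
  C (mu i) * X 0 - C (la i) * X 1

theorem prop_of_cross (a b a' b' : k) (hne : a ≠ 0 ∨ b ≠ 0) (hne' : a' ≠ 0 ∨ b' ≠ 0)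
    (h : a' * b - a * b' = 0) : ∃ s : k, s ≠ 0 ∧ a' = s * a ∧ b' = s * b := by
  rcases hne with ha | hb
  · have h1 : a' = a' / a * a := (div_mul_cancel₀ a' ha).symm
    have h2 : b' = a' / a * b := by
      rw [div_mul_eq_mul_div, eq_div_iff ha]; linear_combination (-1 : k) * h
    refine ⟨a' / a, ?_, h1, h2⟩
    intro hs
    rw [hs, zero_mul] at h1 h2
    rcases hne' with h' | h'
    · exact h' h1
    · exact h' h2
  · have h1 : b' = b' / b * b := (div_mul_cancel₀ b' hb).symm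
    have h2 : a' = b' / b * a := by
      rw [div_mul_eq_mul_div, eq_div_iff hb]; linear_combination h
    refine ⟨b' / b, ?_, h2, h1⟩
    intro hs
    rw [hs, zero_mul] at h1 h2
    rcases hne' with h' | h'
    · exact h' h2
    · exact h' h1

theorem ell_prop (la mu : Fin 4 → k) (i j : Fin 4) (s : k) (h1 : la j = s * la i)
    (h2 : mu j = s * mu i) : ell la mu j = C s * ell la mu i := by
  simp only [ell, h1, h2, map_mul]
  ring

theorem cramer (a1 b1 a2 b2 a3 b3 : k) (hD : b1 * a2 - a1 * b2 ≠ 0) :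
    ∃ p q : k, b3 = p * b1 + q * b2 ∧ a3 = p * a1 + q * a2 ∧
      p * (b1 * a2 - a1 * b2) = b3 * a2 - a3 * b2 ∧
      q * (b1 * a2 - a1 * b2) = b1 * a3 - a1 * b3 := by
  refine ⟨(b3 * a2 - a3 * b2) / (b1 * a2 - a1 * b2), (b1 * a3 - a1 * b3) / (b1 * a2 - a1 * b2),
    ?_, ?_, div_mul_cancel₀ _ hD, div_mul_cancel₀ _ hD⟩
  · rw [div_mul_eq_mul_div, div_mul_eq_mul_div, ← add_div, eq_div_iff hD]; ring
  · rw [div_mul_eq_mul_div, div_mul_eq_mul_div, ← add_div, eq_div_iff hD]; ring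

theorem subst_X (M : Matrix (Fin 2) (Fin 2) k) (i : Fin 2) :
    W4c6intromoduli.subst M (X i) = C (M i 0) * X 0 + C (M i 1) * X 1 := by
  simp [W4c6intromoduli.subst, Fin.sum_univ_two]

theorem subst_of_X0 (a b c d : k) :
    W4c6intromoduli.subst !![a, b; c, d] (X 0) = C a * X 0 + C b * X 1 := by
  rw [subst_X]; rfl

theorem subst_of_X1 (a b c d : k) :
    W4c6intromoduli.subst !![a, b; c, d] (X 1) = C c * X 0 + C d * X 1 := by
  rw [subst_X]; rfl

theorem ringA {P : Type*} [CommRing P] (Li Lk S Cc Pp Qq : P) (hc : Cc * Pp ^ 2 * Qq = -S) :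
    Li * (S * Li) * Lk * (Pp * Li + Qq * Lk) =
      Cc * ((Pp * Li) ^ 2 * (-(Qq * Lk)) * (Pp * Li - (-(Qq * Lk)))) := by
  linear_combination (Li ^ 2 * Lk * (Pp * Li + Qq * Lk)) * hc

theorem core (la mu : Fin 4 → k) (hne : ∀ i, la i ≠ 0 ∨ mu i ≠ 0)
    (h3z : ∀ i j l : Fin 4, i ≠ j → j ≠ l → i ≠ l →
      ¬ (la i * mu j = la j * mu i ∧ la j * mu l = la l * mu j))
    (i j m n : Fin 4) (hij : i ≠ j) (him : i ≠ m) (hin : i ≠ n) (hjm : j ≠ m) (hjn : j ≠ n)
    (hprod : ∀ F : Fin 4 → MvPolynomial (Fin 2) k, ∏ t, F t = F i * F j * F m * F n)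
    (hD : la j * mu i - la i * mu j = 0) :
    (∃ (M : Matrix (Fin 2) (Fin 2) k) (c : k), IsUnit M.det ∧ c ≠ 0 ∧
        W4c6intromoduli.binForm la mu =
          C c * W4c6intromoduli.subst M (X 0 ^ 2 * X 1 * (X 0 - X 1))) ∨
    (∃ (M : Matrix (Fin 2) (Fin 2) k) (c : k), IsUnit M.det ∧ c ≠ 0 ∧
        W4c6intromoduli.binForm la mu =
          C c * W4c6intromoduli.subst M (X 0 ^ 2 * X 1 ^ 2)) := by
  have e1 : la j * mu i = la i * mu j := sub_eq_zero.mp hD
  have hDim : mu i * la m - la i * mu m ≠ 0 := by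
    intro h
    exact h3z j i m hij.symm him hjm ⟨e1, by linear_combination (-1 : k) * h⟩
  have hDin : mu i * la n - la i * mu n ≠ 0 := by
    intro h
    exact h3z j i n hij.symm hin hjn ⟨e1, by linear_combination (-1 : k) * h⟩
  obtain ⟨s, hs, hla, hmu⟩ := prop_of_cross (la i) (mu i) (la j) (mu j) (hne i) (hne j) hD
  have hellj : ell la mu j = C s * ell la mu i := ell_prop la mu i j s hla hmu
  have hbin : W4c6intromoduli.binForm la mu =
      ell la mu i * ell la mu j * ell la mu m * ell la mu n := hprod (ell la mu)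
  by_cases hmn : mu n * la m - la n * mu m = 0
  · right
    obtain ⟨s', hs', hla', hmu'⟩ := prop_of_cross (la m) (mu m) (la n) (mu n) (hne m) (hne n)
      (by linear_combination (-1 : k) * hmn)
    have helln : ell la mu n = C s' * ell la mu m := ell_prop la mu m n s' hla' hmu'
    refine ⟨!![mu i, -la i; mu m, -la m], s * s', ?_, mul_ne_zero hs hs', ?_⟩
    · rw [Matrix.det_fin_two_of]
      refine isUnit_iff_ne_zero.mpr ?_
      intro h
      exact hDim (by linear_combination (-1 : k) * h)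
    · rw [hbin, hellj, helln, map_mul (W4c6intromoduli.subst _),
        map_pow (W4c6intromoduli.subst _), map_pow (W4c6intromoduli.subst _),
        subst_of_X0, subst_of_X1]
      simp only [ell, map_mul, map_neg]
      ring
  · left
    obtain ⟨p, q, hmu3, hla3, hp, hq⟩ :=
      cramer (la i) (mu i) (la m) (mu m) (la n) (mu n) hDim
    have hp0 : p ≠ 0 := by
      rintro rfl
      rw [zero_mul] at hp
      exact hmn hp.symm
    have hq0 : q ≠ 0 := by
      rintro rfl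
      rw [zero_mul] at hq
      exact hDin hq.symm
    have helln : ell la mu n = C p * ell la mu i + C q * ell la mu m := by
      simp only [ell]
      rw [hmu3, hla3]
      simp only [map_add, map_mul]
      ring
    have hc : (-s / (p ^ 2 * q)) * p ^ 2 * q = -s := by
      field_simp
    refine ⟨!![p * mu i, -(p * la i); -(q * mu m), q * la m], -s / (p ^ 2 * q), ?_, ?_, ?_⟩
    · rw [Matrix.det_fin_two_of]
      refine isUnit_iff_ne_zero.mpr ?_
      have : p * mu i * (q * la m) - -(p * la i) * -(q * mu m) =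
          p * q * (mu i * la m - la i * mu m) := by ring
      rw [this]
      exact mul_ne_zero (mul_ne_zero hp0 hq0) hDim
    · exact div_ne_zero (neg_ne_zero.mpr hs) (mul_ne_zero (pow_ne_zero 2 hp0) hq0)
    · have hC : (C (-s / (p ^ 2 * q)) : MvPolynomial (Fin 2) k) * C p ^ 2 * C q = -C s := by
        rw [← C_pow, ← C_mul, ← C_mul, hc, C_neg]
      have h0 : W4c6intromoduli.subst !![p * mu i, -(p * la i); -(q * mu m), q * la m] (X 0) =
          C p * ell la mu i := by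
        rw [subst_of_X0]
        simp only [ell, map_mul, map_neg]
        ring
      have h1 : W4c6intromoduli.subst !![p * mu i, -(p * la i); -(q * mu m), q * la m] (X 1) =
          -(C q * ell la mu m) := by
        rw [subst_of_X1]
        simp only [ell, map_mul, map_neg]
        ring
      rw [hbin, hellj, helln, map_mul (W4c6intromoduli.subst _),
        map_mul (W4c6intromoduli.subst _), map_pow (W4c6intromoduli.subst _),
        map_sub (W4c6intromoduli.subst _), h0, h1]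
      exact ringA _ _ _ _ _ _ hC

theorem sel : ∀ a b : Fin 4, a < b → ∃ m n : Fin 4, a ≠ b ∧ a ≠ m ∧ a ≠ n ∧ b ≠ m ∧ b ≠ n ∧
    m ≠ n ∧ (Finset.univ : Finset (Fin 4)) = {a, b, m, n} := by
  decide

theorem exist_part (la mu : Fin 4 → k) (hne : ∀ i, la i ≠ 0 ∨ mu i ≠ 0)
    (hd : W4c6intromoduli.disc la mu = 0)
    (h3z : ∀ i j l : Fin 4, i ≠ j → j ≠ l → i ≠ l →
      ¬ (la i * mu j = la j * mu i ∧ la j * mu l = la l * mu j)) :
    (∃ (M : Matrix (Fin 2) (Fin 2) k) (c : k), IsUnit M.det ∧ c ≠ 0 ∧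
        W4c6intromoduli.binForm la mu =
          C c * W4c6intromoduli.subst M (X 0 ^ 2 * X 1 * (X 0 - X 1))) ∨
    (∃ (M : Matrix (Fin 2) (Fin 2) k) (c : k), IsUnit M.det ∧ c ≠ 0 ∧
        W4c6intromoduli.binForm la mu =
          C c * W4c6intromoduli.subst M (X 0 ^ 2 * X 1 ^ 2)) := by
  unfold W4c6intromoduli.disc at hd
  obtain ⟨p, hp, hpz⟩ := Finset.prod_eq_zero_iff.mp hd
  have hlt : p.1 < p.2 := (Finset.mem_filter.mp hp).2
  have hD : la p.2 * mu p.1 - la p.1 * mu p.2 = 0 := (pow_eq_zero_iff two_ne_zero).mp hpz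
  obtain ⟨m, n, hab, ham, han, hbm, hbn, hmn, huniv⟩ := sel p.1 p.2 hlt
  refine core la mu hne h3z p.1 p.2 m n hab ham han hbm hbn ?_ hD
  intro F
  have h1 : p.1 ∉ ({p.2, m, n} : Finset (Fin 4)) := by simp [hab, ham, han]
  have h2 : p.2 ∉ ({m, n} : Finset (Fin 4)) := by simp [hbm, hbn]
  have h3 : m ∉ ({n} : Finset (Fin 4)) := by simp [hmn]
  rw [huniv, Finset.prod_insert h1, Finset.prod_insert h2, Finset.prod_insert h3,
    Finset.prod_singleton]
  ring

theorem evalA (M : Matrix (Fin 2) (Fin 2) k) (v0 v1 : k) :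
    eval ![v0, v1] (W4c6intromoduli.subst M (X 0 ^ 2 * X 1 * (X 0 - X 1))) =
      (M 0 0 * v0 + M 0 1 * v1) ^ 2 * (M 1 0 * v0 + M 1 1 * v1) *
        ((M 0 0 * v0 + M 0 1 * v1) - (M 1 0 * v0 + M 1 1 * v1)) := by
  rw [map_mul (W4c6intromoduli.subst M), map_mul (W4c6intromoduli.subst M),
    map_pow (W4c6intromoduli.subst M), map_sub (W4c6intromoduli.subst M), subst_X, subst_X]
  simp

theorem evalB (M : Matrix (Fin 2) (Fin 2) k) (v0 v1 : k) :
    eval ![v0, v1] (W4c6intromoduli.subst M (X 0 ^ 2 * X 1 ^ 2)) =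
      (M 0 0 * v0 + M 0 1 * v1) ^ 2 * (M 1 0 * v0 + M 1 1 * v1) ^ 2 := by
  rw [map_mul (W4c6intromoduli.subst M), map_pow (W4c6intromoduli.subst M),
    map_pow (W4c6intromoduli.subst M), subst_X, subst_X]
  simp

theorem no_three (x1 y1 x2 y2 x3 y3 : k) (h1 : x1 = 0 ∨ y1 = 0) (h2 : x2 = 0 ∨ y2 = 0)
    (h3 : x3 = 0 ∨ y3 = 0) (hx3 : x3 = x1 + x2) (hy3 : y3 = y1 + y2)
    (hd : x1 * y2 - x2 * y1 ≠ 0) : False := by
  subst hx3 hy3
  rcases h1 with rfl | rfl <;> rcases h2 with rfl | rfl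
  · exact hd (by ring)
  · rcases h3 with h | h
    · exact hd (by rw [zero_add] at h; rw [h]; ring)
    · exact hd (by rw [add_zero] at h; rw [h]; ring)
  · rcases h3 with h | h
    · exact hd (by rw [add_zero] at h; rw [h]; ring)
    · exact hd (by rw [zero_add] at h; rw [h]; ring)
  · exact hd (by ring)

theorem excl (la mu : Fin 4 → k)
    (hA : ∃ (M : Matrix (Fin 2) (Fin 2) k) (c : k), IsUnit M.det ∧ c ≠ 0 ∧
        W4c6intromoduli.binForm la mu =
          C c * W4c6intromoduli.subst M (X 0 ^ 2 * X 1 * (X 0 - X 1)))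
    (hB : ∃ (M : Matrix (Fin 2) (Fin 2) k) (c : k), IsUnit M.det ∧ c ≠ 0 ∧
        W4c6intromoduli.binForm la mu =
          C c * W4c6intromoduli.subst M (X 0 ^ 2 * X 1 ^ 2)) : False := by
  obtain ⟨M, c, hM, hc, eA⟩ := hA
  obtain ⟨M', c', hM', hc', eB⟩ := hB
  have hδ : M 0 0 * M 1 1 - M 0 1 * M 1 0 ≠ 0 := by
    rw [← Matrix.det_fin_two]; exact hM.ne_zero
  have hδ' : M' 0 0 * M' 1 1 - M' 0 1 * M' 1 0 ≠ 0 := by
    rw [← Matrix.det_fin_two]; exact hM'.ne_zero
  have hE : ∀ v0 v1 : k,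
      c * ((M 0 0 * v0 + M 0 1 * v1) ^ 2 * (M 1 0 * v0 + M 1 1 * v1) *
        ((M 0 0 * v0 + M 0 1 * v1) - (M 1 0 * v0 + M 1 1 * v1))) =
      c' * ((M' 0 0 * v0 + M' 0 1 * v1) ^ 2 * (M' 1 0 * v0 + M' 1 1 * v1) ^ 2) := by
    intro v0 v1
    have h := congrArg (eval ![v0, v1]) (eA.symm.trans eB)
    rw [map_mul (eval ![v0, v1]), map_mul (eval ![v0, v1]), eval_C, eval_C, evalA, evalB] at h
    exact h
  have hz : ∀ v0 v1 : k,
      (M 0 0 * v0 + M 0 1 * v1) ^ 2 * (M 1 0 * v0 + M 1 1 * v1) *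
        ((M 0 0 * v0 + M 0 1 * v1) - (M 1 0 * v0 + M 1 1 * v1)) = 0 →
      (M' 0 0 * v0 + M' 0 1 * v1 = 0 ∨ M' 1 0 * v0 + M' 1 1 * v1 = 0) := by
    intro v0 v1 h0
    have h1 := hE v0 v1
    rw [h0, mul_zero] at h1
    have h2 : (M' 0 0 * v0 + M' 0 1 * v1) ^ 2 * (M' 1 0 * v0 + M' 1 1 * v1) ^ 2 = 0 := by
      rcases mul_eq_zero.mp h1.symm with h | h
      · exact absurd h hc'
      · exact h
    rcases mul_eq_zero.mp h2 with h | h
    · exact Or.inl ((pow_eq_zero_iff two_ne_zero).mp h)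
    · exact Or.inr ((pow_eq_zero_iff two_ne_zero).mp h)
  have t1 := hz (-M 0 1) (M 0 0) (by ring)
  have t2 := hz (M 1 1) (-M 1 0) (by ring)
  have t3 := hz (M 1 1 - M 0 1) (M 0 0 - M 1 0) (by ring)
  have hne : (M' 0 0 * M' 1 1 - M' 0 1 * M' 1 0) * (M 0 0 * M 1 1 - M 0 1 * M 1 0) ≠ 0 :=
    mul_ne_zero hδ' hδ
  exact no_three _ _ _ _ _ _ t1 t2 t3 (by ring) (by ring)
    (fun h => hne (by linear_combination (-1 : k) * h))

theorem main (k : Type u) [Field k]
    (h2 : (2 : k) ≠ 0) (h3 : (3 : k) ≠ 0) (la mu : Fin 4 → k)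
    (hne : ∀ i, la i ≠ 0 ∨ mu i ≠ 0) (hd : W4c6intromoduli.disc la mu = 0)
    (h3z : ∀ i j l : Fin 4, i ≠ j → j ≠ l → i ≠ l →
      ¬ (la i * mu j = la j * mu i ∧ la j * mu l = la l * mu j)) :
    Xor
      (∃ (M : Matrix (Fin 2) (Fin 2) k) (c : k), IsUnit M.det ∧ c ≠ 0 ∧
        W4c6intromoduli.binForm la mu =
          MvPolynomial.C c * W4c6intromoduli.subst M
            (MvPolynomial.X 0 ^ 2 * MvPolynomial.X 1 * (MvPolynomial.X 0 - MvPolynomial.X 1)))
      (∃ (M : Matrix (Fin 2) (Fin 2) k) (c : k), IsUnit M.det ∧ c ≠ 0 ∧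
        W4c6intromoduli.binForm la mu =
          MvPolynomial.C c * W4c6intromoduli.subst M
            (MvPolynomial.X 0 ^ 2 * MvPolynomial.X 1 ^ 2)) := by
  have hex := exist_part la mu hne hd h3z
  have hno := excl la mu
  rcases hex with hA | hB
  · exact Or.inl ⟨hA, fun hB => hno hA hB⟩
  · exact Or.inr ⟨hB, fun hA => hno hA hB⟩

end Groth.Agent.Lib.Quartic6H4
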