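import Mathlib

set_option autoImplicit false
set_option backward.isDefEq.respectTransparency false
set_option backward.defeqAttrib.useBackward true
set_option linter.unusedSimpArgs false
set_option linter.unusedVariables false
set_option linter.unusedSectionVars false
set_option linter.style.longLine false
set_option linter.style.haveILetI false
set_option linter.unnecessarySimpa false
set_option maxHeartbeats 1600000

/-!
# Two-out-of-three for quasi-isomorphisms between short exact sequences of complexes (lead)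

Mathlib has the `τ₃` version; here are the `τ₁` and `τ₂` versions (for complex shapes in which every
index has a predecessor, e.g. chain complexes indexed by `ℕ`).
-/

namespace Groth.Agent.Lib.QuasiIso23

open CategoryTheory ComposableArrows Abelian HomologicalComplex HomologicalComplex.HomologySequence

variable {C ι : Type*} [Category C] [Abelian C] {c : ComplexShape ι}
  {S₁ S₂ : ShortComplex (HomologicalComplex C c)} (φ : S₁ ⟶ S₂)
  (hS₁ : S₁.ShortExact) (hS₂ : S₂.ShortExact)

include hS₁ hS₂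

lemma mono_homologyMap_τ₂ (i j : ι) (hij : c.Rel i j)
    (h₁ : Epi (homologyMap φ.τ₃ i)) (h₂ : Mono (homologyMap φ.τ₁ j))
    (h₃ : Mono (homologyMap φ.τ₃ j)) : Mono (homologyMap φ.τ₂ j) := by
  apply mono_of_epi_of_mono_of_mono
    ((δ₀Functor ⋙ δ₀Functor).map (mapComposableArrows₅ φ hS₁ hS₂ i j hij))
  · exact (composableArrows₅_exact hS₁ i j hij).δ₀.δ₀
  · exact (composableArrows₅_exact hS₂ i j hij).δ₀.δ₀
  · exact h₁
  · exact h₂
  · exact h₃

lemma epi_homologyMap_τ₂ (j : ι)
    (h₁ : Epi (homologyMap φ.τ₁ j)) (h₂ : Epi (homologyMap φ.τ₃ j))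
    (h₃ : ∀ k, c.Rel j k → Mono (homologyMap φ.τ₁ k)) : Epi (homologyMap φ.τ₂ j) := by
  by_cases hj : ∃ k, c.Rel j k
  · obtain ⟨k, hjk⟩ := hj
    apply epi_of_epi_of_epi_of_mono
      ((δlastFunctor ⋙ δlastFunctor).map (mapComposableArrows₅ φ hS₁ hS₂ j k hjk))
    · exact (composableArrows₅_exact hS₁ j k hjk).δlast.δlast
    · exact (composableArrows₅_exact hS₂ j k hjk).δlast.δlast
    · exact h₁
    · exact h₂
    · exact h₃ k hjk
  · have := hS₁.epi_g
    refine Abelian.epi_of_epi_of_epi_of_epi (mapComposableArrows₂ φ j)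
      (composableArrows₂_exact hS₂ j) ?_ h₁ h₂
    apply epi_homologyMap_of_epi_of_not_rel
    simpa using hj

lemma mono_homologyMap_τ₁ (i j : ι) (hij : c.Rel i j)
    (h₁ : Epi (homologyMap φ.τ₂ i)) (h₂ : Mono (homologyMap φ.τ₃ i))
    (h₃ : Mono (homologyMap φ.τ₂ j)) : Mono (homologyMap φ.τ₁ j) := by
  apply mono_of_epi_of_mono_of_mono
    ((δ₀Functor ⋙ δlastFunctor).map (mapComposableArrows₅ φ hS₁ hS₂ i j hij))
  · exact (composableArrows₅_exact hS₁ i j hij).δ₀.δlast
  · exact (composableArrows₅_exact hS₂ i j hij).δ₀.δlast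
  · exact h₁
  · exact h₂
  · exact h₃

lemma epi_homologyMap_τ₁ (i j : ι) (hij : c.Rel i j)
    (h₁ : Epi (homologyMap φ.τ₃ i)) (h₂ : Epi (homologyMap φ.τ₂ j))
    (h₃ : Mono (homologyMap φ.τ₃ j)) : Epi (homologyMap φ.τ₁ j) := by
  apply epi_of_epi_of_epi_of_mono
    ((δ₀Functor ⋙ δ₀Functor).map (mapComposableArrows₅ φ hS₁ hS₂ i j hij))
  · exact (composableArrows₅_exact hS₁ i j hij).δ₀.δ₀
  · exact (composableArrows₅_exact hS₂ i j hij).δ₀.δ₀
  · exact h₁
  · exact h₂
  · exact h₃

lemma quasiIso_τ₂ (hprev : ∀ j, ∃ i, c.Rel i j) (h₁ : QuasiIso φ.τ₁) (h₃ : QuasiIso φ.τ₃) :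
    QuasiIso φ.τ₂ := by
  rw [quasiIso_iff]
  intro j
  rw [quasiIsoAt_iff_isIso_homologyMap]
  obtain ⟨i, hij⟩ := hprev j
  have hm := mono_homologyMap_τ₂ φ hS₁ hS₂ i j hij inferInstance inferInstance inferInstance
  have he := epi_homologyMap_τ₂ φ hS₁ hS₂ j inferInstance inferInstance
    (fun k _ => inferInstance)
  exact isIso_of_mono_of_epi _

lemma quasiIso_τ₁ (hprev : ∀ j, ∃ i, c.Rel i j) (h₂ : QuasiIso φ.τ₂) (h₃ : QuasiIso φ.τ₃) :
    QuasiIso φ.τ₁ := by
  rw [quasiIso_iff]
  intro j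
  rw [quasiIsoAt_iff_isIso_homologyMap]
  obtain ⟨i, hij⟩ := hprev j
  have hm := mono_homologyMap_τ₁ φ hS₁ hS₂ i j hij inferInstance inferInstance inferInstance
  have he := epi_homologyMap_τ₁ φ hS₁ hS₂ i j hij inferInstance inferInstance inferInstance
  exact isIso_of_mono_of_epi _

end Groth.Agent.Lib.QuasiIso23
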