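import Mathlib
import Groth.Agent.Lib.CyclicSL2_helper1

/-!
# The binary dihedral group inside `SL(2, K)` (S14849)
-/

universe u v

namespace Groth.Agent.Lib.QuatSL2

open Matrix Groth.Agent.Lib.CyclicSL2

section general

variable {G : Type*} [Group G] (n : ℕ) [NeZero n] (S T : G)

lemma pow_val_add (hS : S ^ (2 * n) = 1) (i j : ZMod (2 * n)) :
    S ^ (i + j).val = S ^ i.val * S ^ j.val := by
  rw [ZMod.val_add, ← pow_add, ← pow_eq_pow_mod _ hS]

lemma pow_val_neg (hS : S ^ (2 * n) = 1) (i : ZMod (2 * n)) :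
    S ^ (-i).val = (S ^ i.val)⁻¹ := by
  apply eq_inv_of_mul_eq_one_left
  rw [← pow_val_add n S hS, neg_add_cancel, ZMod.val_zero, pow_zero]

lemma pow_val_natCast_self : S ^ ((n : ZMod (2 * n))).val = S ^ n := by
  rw [ZMod.val_natCast, Nat.mod_eq_of_lt]
  have := NeZero.pos n
  omega

omit [NeZero n] in
lemma pow_conj (hST : S * T * S = T) (k : ℕ) : S ^ k * T * S ^ k = T := by
  induction k with
  | zero => simp
  | succ k ih =>
    have h1 : S ^ (k + 1) = S ^ k * S := pow_succ _ _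
    have h2 : S ^ (k + 1) = S * S ^ k := pow_succ' _ _
    calc S ^ (k + 1) * T * S ^ (k + 1) = (S ^ k * S) * T * (S * S ^ k) := by rw [← h1, ← h2]
      _ = S ^ k * (S * T * S) * S ^ k := by simp only [mul_assoc]
      _ = T := by rw [hST, ih]

/-- the underlying function of the homomorphism -/
def fQ : QuaternionGroup n → G
  | .a i => S ^ i.val
  | .xa i => T * S ^ i.val

theorem exists_hom (hS : S ^ (2 * n) = 1) (hT : T * T = S ^ n) (hST : S * T * S = T) :
    ∃ f : QuaternionGroup n →* G,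
      (∀ i : ZMod (2 * n), f (QuaternionGroup.a i) = S ^ i.val) ∧
      (∀ i : ZMod (2 * n), f (QuaternionGroup.xa i) = T * S ^ i.val) := by
  have key : ∀ i : ZMod (2 * n), S ^ i.val * T = T * (S ^ i.val)⁻¹ := fun i =>
    eq_mul_inv_of_mul_eq (pow_conj S T hST i.val)
  refine ⟨MonoidHom.mk' (fQ n S T) ?_, fun i => rfl, fun i => rfl⟩
  intro p q
  cases p with
  | a i =>
    cases q with
    | a j =>
      rw [QuaternionGroup.a_mul_a]
      show S ^ (i + j).val = S ^ i.val * S ^ j.val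
      exact pow_val_add n S hS i j
    | xa j =>
      rw [QuaternionGroup.a_mul_xa]
      show T * S ^ (j - i).val = S ^ i.val * (T * S ^ j.val)
      rw [sub_eq_neg_add, pow_val_add n S hS, pow_val_neg n S hS]
      calc T * ((S ^ i.val)⁻¹ * S ^ j.val) = (T * (S ^ i.val)⁻¹) * S ^ j.val := by
            rw [mul_assoc]
        _ = (S ^ i.val * T) * S ^ j.val := by rw [key]
        _ = S ^ i.val * (T * S ^ j.val) := by rw [mul_assoc]
  | xa i =>
    cases q with
    | a j =>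
      rw [QuaternionGroup.xa_mul_a]
      show T * S ^ (i + j).val = T * S ^ i.val * S ^ j.val
      rw [pow_val_add n S hS, mul_assoc]
    | xa j =>
      rw [QuaternionGroup.xa_mul_xa]
      show S ^ ((n : ZMod (2 * n)) + j - i).val = T * S ^ i.val * (T * S ^ j.val)
      have h1 : (n : ZMod (2 * n)) + j - i = (n : ZMod (2 * n)) + (-i + j) := by ring
      rw [h1, pow_val_add n S hS, pow_val_add n S hS, pow_val_neg n S hS,
        pow_val_natCast_self, ← hT]
      calc T * T * ((S ^ i.val)⁻¹ * S ^ j.val) = T * (T * (S ^ i.val)⁻¹) * S ^ j.val := by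
            simp only [mul_assoc]
        _ = T * (S ^ i.val * T) * S ^ j.val := by rw [key]
        _ = T * S ^ i.val * (T * S ^ j.val) := by simp only [mul_assoc]

end general

variable {K : Type u} {L : Type v} [Field K] [Field L] [Algebra K L]

/-- the element `τ` -/
def tau (c x y : K) (h : x ^ 2 - (c ^ 2 - 1) * y ^ 2 = -1) :
    Matrix.SpecialLinearGroup (Fin 2) K :=
  ⟨!![x + c * y, y; y - 2 * c * (x + c * y), -(x + c * y)], by
    rw [Matrix.det_fin_two_of]; linear_combination (-1 : K) * h⟩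

/-- minus the identity -/
def negOne : Matrix.SpecialLinearGroup (Fin 2) K :=
  ⟨!![-1, 0; 0, -1], by simp [Matrix.det_fin_two]⟩

lemma sig_tau_sig (c x y : K) (h : x ^ 2 - (c ^ 2 - 1) * y ^ 2 = -1) :
    sig c * tau c x y h * sig c = tau c x y h := by
  apply Subtype.ext
  simp only [Matrix.SpecialLinearGroup.coe_mul]
  ext i j
  fin_cases i <;> fin_cases j <;>
    simp [sig, tau, Matrix.mul_apply, Fin.sum_univ_two] <;> ring

lemma tau_mul_tau (c x y : K) (h : x ^ 2 - (c ^ 2 - 1) * y ^ 2 = -1) :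
    tau c x y h * tau c x y h = negOne := by
  apply Subtype.ext
  simp only [Matrix.SpecialLinearGroup.coe_mul]
  ext i j
  fin_cases i <;> fin_cases j <;>
    simp only [tau, negOne, Matrix.mul_apply, Fin.sum_univ_two, Matrix.of_apply,
      Matrix.cons_val', Matrix.cons_val_zero, Matrix.cons_val_one, Matrix.cons_val_fin_one,
      Fin.zero_eta, Fin.mk_one, Fin.isValue] <;>
    first | linear_combination h | ring

lemma isUnit_det_Pm (ξ : L) (hξ0 : ξ ≠ 0) (hξ2 : ξ ^ 2 ≠ 1) : IsUnit (Pm ξ).det := by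
  rw [isUnit_iff_ne_zero]
  simp only [Pm, Matrix.det_fin_two_of]
  intro h0
  apply hξ2
  have : ξ = ξ⁻¹ := by
    have : -ξ⁻¹ + ξ = 0 := by
      rw [← h0]; ring
    rw [neg_add_eq_zero] at this
    exact this.symm
  rw [pow_two]
  nth_rewrite 2 [this]
  exact mul_inv_cancel₀ hξ0

lemma sig_pow_eq_negOne (n : ℕ) (hn : 2 ≤ n) (ξ : L) (hξ : IsPrimitiveRoot ξ (2 * n)) (c : K)
    (hc : algebraMap K L (2 * c) = ξ + ξ⁻¹) : sig c ^ n = negOne := by
  have hξ0 : ξ ≠ 0 := hξ.ne_zero (by omega)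
  have hξ2 : ξ ^ 2 ≠ 1 := hξ.pow_ne_one_of_pos_of_lt (by norm_num) (by omega)
  have hξn : ξ ^ n = -1 := by
    have h1 : ξ ^ n * ξ ^ n = 1 := by rw [← pow_add, ← two_mul]; exact hξ.pow_eq_one
    rcases mul_self_eq_one_iff.mp h1 with h | h
    · exact absurd h (hξ.pow_ne_one_of_pos_of_lt (by omega) (by omega))
    · exact h
  have hmap : ((((sig c) ^ n : Matrix.SpecialLinearGroup (Fin 2) K)).val).map (algebraMap K L)
      = (!![0, -1; 1, ξ + ξ⁻¹] : Matrix (Fin 2) (Fin 2) L) ^ n := by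
    rw [Matrix.SpecialLinearGroup.coe_pow, ← AL_eq ξ c hc, ← RingHom.mapMatrix_apply,
      ← RingHom.mapMatrix_apply, map_pow]
  have hD : Dm ξ n = -1 := by
    have h' : ξ⁻¹ ^ n = -1 := by rw [inv_pow, hξn, inv_neg, inv_one]
    ext i j
    fin_cases i <;> fin_cases j <;> simp [Dm, hξn, h']
  have h1 := pow_mul_P ξ hξ0 n
  rw [hD, mul_neg, mul_one] at h1
  have hdet := isUnit_det_Pm ξ hξ0 hξ2
  have h4 : (!![0, -1; 1, ξ + ξ⁻¹] : Matrix (Fin 2) (Fin 2) L) ^ n = -1 := by
    calc (!![0, -1; 1, ξ + ξ⁻¹] : Matrix (Fin 2) (Fin 2) L) ^ n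
        = (!![0, -1; 1, ξ + ξ⁻¹] : Matrix (Fin 2) (Fin 2) L) ^ n * (Pm ξ * (Pm ξ)⁻¹) := by
          rw [Matrix.mul_nonsing_inv _ hdet, mul_one]
      _ = -Pm ξ * (Pm ξ)⁻¹ := by rw [← Matrix.mul_assoc, h1]
      _ = -1 := by rw [Matrix.neg_mul, Matrix.mul_nonsing_inv _ hdet]
  rw [← hmap] at h4
  apply Subtype.ext
  apply Matrix.map_injective (algebraMap K L).injective
  show (((sig c) ^ n : Matrix.SpecialLinearGroup (Fin 2) K).val).map (algebraMap K L)
    = ((negOne : Matrix.SpecialLinearGroup (Fin 2) K).val).map (algebraMap K L)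
  rw [h4]
  ext i j
  fin_cases i <;> fin_cases j <;> simp [negOne]

theorem main {K : Type u} {L : Type v}
    [Field K] [Field L] [CharZero K] [Algebra K L] (n : ℕ) (hn : 2 ≤ n) (ξ : L)
    (hξ : IsPrimitiveRoot ξ (2 * n)) (c : K) (hc : algebraMap K L (2 * c) = ξ + ξ⁻¹)
    (hsol : ∃ x y : K, x ^ 2 - (c ^ 2 - 1) * y ^ 2 = -1) :
    ∃ f : QuaternionGroup n →* Matrix.SpecialLinearGroup (Fin 2) K, Function.Injective f := by
  obtain ⟨x, y, h⟩ := hsol
  haveI : NeZero n := ⟨by omega⟩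
  have hξ0 : ξ ≠ 0 := hξ.ne_zero (by omega)
  have hξ2 : ξ ^ 2 ≠ 1 := hξ.pow_ne_one_of_pos_of_lt (by norm_num) (by omega)
  have hord : orderOf (sig c) = 2 * n := by
    rw [orderOf_eq_iff (by omega)]
    refine ⟨(pow_eq_one_iff ξ hξ0 hξ2 c hc (2 * n)).mpr hξ.pow_eq_one, ?_⟩
    intro m hm hm0 h'
    exact hξ.pow_ne_one_of_pos_of_lt hm0.ne' hm ((pow_eq_one_iff ξ hξ0 hξ2 c hc m).mp h')
  have hS : sig c ^ (2 * n) = 1 := by rw [← hord]; exact pow_orderOf_eq_one _
  have hn1 : sig c ^ n = negOne := sig_pow_eq_negOne n hn ξ hξ c hc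
  have hT : tau c x y h * tau c x y h = sig c ^ n := by rw [hn1]; exact tau_mul_tau c x y h
  have hST := sig_tau_sig c x y h
  obtain ⟨f, hfa, hfxa⟩ := exists_hom n (sig c) (tau c x y h) hS hT hST
  refine ⟨f, ?_⟩
  rw [injective_iff_map_eq_one]
  intro g hg
  cases g with
  | a i =>
    rw [hfa] at hg
    have hdvd := orderOf_dvd_of_pow_eq_one hg
    rw [hord] at hdvd
    have hlt : i.val < 2 * n := ZMod.val_lt i
    have h0 : i.val = 0 := Nat.eq_zero_of_dvd_of_lt hdvd hlt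
    rw [ZMod.val_eq_zero] at h0
    rw [h0]; rfl
  | xa i =>
    exfalso
    rw [hfxa] at hg
    have hTinv : tau c x y h = (sig c ^ i.val)⁻¹ := eq_inv_of_mul_eq_one_left hg
    have hcomm : Commute (sig c) (tau c x y h) := by
      rw [hTinv]; exact ((Commute.refl (sig c)).pow_right _).inv_right
    have h2 : sig c ^ 2 = 1 := by
      have h3 : tau c x y h * (sig c * sig c) = tau c x y h * 1 := by
        rw [mul_one, ← mul_assoc, ← hcomm.eq]; exact hST
      rw [pow_two]; exact mul_left_cancel h3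
    exact hξ2 ((pow_eq_one_iff ξ hξ0 hξ2 c hc 2).mp h2)

end Groth.Agent.Lib.QuatSL2
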