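import Mathlib
import Groth.Prelude
import Groth.Agent.Lib.IdealDict_lead
import Groth.Agent.Lib.PullFn3_helper2
import Groth.Agent.Lib.CIsec4_helper9
import Groth.Agent.Lib.PushEdgeNat_helper9
import Groth.Agent.Lib.PB11_helper8

/-!
# Restriction of forms to a subscheme of projective space (helper9, towards S16534)
APPEND-ONLY once landed.
-/

set_option autoImplicit false

namespace Groth.Agent.Lib.QuinticA

universe u

open CategoryTheory CategoryTheory.Limits AlgebraicGeometry TopologicalSpace Opposite MvPolynomial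
open Groth.Agent.ProjCech Groth.Agent.HypIdeal QCohExtn QcqsLoc SerreCrit GenLocH8 TensH8
open Groth.Agent.Lib.TlMapH1 HomogeneousLocalization CohB1 Groth.Agent.Lib.IdealDict

variable {k : Type u} [Field k] {n : ℕ}

/-- the global section of `O(d)` attached to a form is, on the chart `D_+(x_l)`, its
dehomogenisation times the generator `x_l^d` -/
theorem rF_glob (d : ℕ) (G : polyGrading n k d) (l : Fin (n + 1)) :
    rF (Od k n d) (le_top : Ui k l ≤ (⊤ : (Proj (polyGrading n k)).Opens)) (glob d G) = ρ' l G.1 • eG d l := by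
  apply ext_val (n := n) (R := k)
  intro x
  have h3 : val (n := n) (R := k) (d := (d : ℤ))
      (rF (Od k n d) (le_top : Ui k l ≤ (⊤ : (Proj (polyGrading n k)).Opens)) (glob d G)) x =
      Localization.mk G.1 (⟨mon n k 0, mon_zero_notMem x.1⟩ : pc x.1) := rfl
  have h4 := val_smul (n := n) (R := k) (d := (d : ℤ)) (ρ' l G.1) (eG d l) x
  rw [h3]
  refine Eq.trans ?_ h4.symm
  rw [valO_ρ' l G.1 G.2 x, val_eG d l x, Localization.mk_mul, Localization.mk_eq_mk_iff,
    Localization.r_iff_exists]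
  exact ⟨1, by simp [mon_zero, mul_comm]⟩

section Pull

variable {C : Scheme.{u}} (i : C ⟶ Proj (polyGrading n k))

/-- the pulled-back global section of a form, on the preimage of a chart -/
theorem res_cUV_glob (d : ℕ) (G : polyGrading n k d) (l : Fin (n + 1)) :
    rF ((Scheme.Modules.pullback i).obj (Od k n d)) (le_top : i ⁻¹ᵁ Ui k l ≤ (⊤ : C.Opens))
        (PBH8.cUV i (Od k n d) (show (⊤ : C.Opens) ≤ i ⁻¹ᵁ (⊤ : (Proj (polyGrading n k)).Opens) from le_top) (glob d G)) =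
      (i.app (Ui k l)).hom (ρ' l G.1) •
        PBH8.cUV i (Od k n d) (le_rfl : i ⁻¹ᵁ Ui k l ≤ i ⁻¹ᵁ Ui k l) (eG d l) := by
  have h1 := PBH8.cUV_res i (Od k n d) (show (⊤ : C.Opens) ≤ i ⁻¹ᵁ (⊤ : (Proj (polyGrading n k)).Opens) from le_top)
    (le_top : i ⁻¹ᵁ Ui k l ≤ (⊤ : C.Opens)) (glob d G)
  have h2 := PBH8.cUV_res_target i (Od k n d) (le_top : Ui k l ≤ (⊤ : (Proj (polyGrading n k)).Opens))
    (le_rfl : i ⁻¹ᵁ Ui k l ≤ i ⁻¹ᵁ Ui k l) (glob d G)
  refine h1.trans (h2.symm.trans ?_)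
  show PBH8.cUV i (Od k n d) (le_rfl : i ⁻¹ᵁ Ui k l ≤ i ⁻¹ᵁ Ui k l)
    (rF (Od k n d) (le_top : Ui k l ≤ (⊤ : (Proj (polyGrading n k)).Opens)) (glob d G)) = _
  rw [rF_glob, PBH8.cUV_smul, Scheme.Hom.appLE_eq_app]

/-- if the pulled-back section of a form vanishes, its dehomogenisations vanish on `C` -/
theorem app_ρ'_eq_zero (d : ℕ) (G : polyGrading n k d)
    (h : PBH8.cUV i (Od k n d) (show (⊤ : C.Opens) ≤ i ⁻¹ᵁ (⊤ : (Proj (polyGrading n k)).Opens) from le_top) (glob d G) = 0)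
    (l : Fin (n + 1)) : (i.app (Ui k l)).hom (ρ' l G.1) = 0 := by
  have hL : PicF.IsInvertible (Od k n d) := Groth.Agent.Horrocks.isInvertible_OO n k (d : ℤ)
  have hg := TensH8.isGen_cUV i hL (isAffine_Ui l) (isGen_eG d l)
  have h1 := res_cUV_glob i d G l
  rw [h, map_zero] at h1
  have h2 := (hg (i ⁻¹ᵁ Ui k l) le_rfl).2 ((i.app (Ui k l)).hom (ρ' l G.1))
  apply h2
  rw [rF_self']
  exact h1.symm

/-- a form all of whose dehomogenisations vanish on `C` cuts out a hypersurface containing `C` -/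
theorem hypIdeal_le_ker (i' : C ⟶ CohB1.ProjSpace n k) [QuasiCompact i'] {d : ℕ}
    (G : LefPen.Form n k d)
    (h : ∀ l : Fin (n + 1), (i'.app (LefPen.chart n k l)).hom (LefPen.dehom G l) = 0) :
    LefPen.hypIdeal G ≤ i'.ker := by
  refine Scheme.IdealSheafData.le_of_iSup_eq_top
    (fun l : Fin (n + 1) => (⟨LefPen.chart n k l, Groth.Agent.CIsec.isAffineOpen_chart k n l⟩ :
      (CohB1.ProjSpace n k).affineOpens)) ?_ ?_
  · exact eq_top_iff.mpr (fun x _ => Opens.mem_iSup.mpr (chart_cover x))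
  · intro l
    rw [Groth.Agent.CIsec.hypIdeal_ideal_chart, Scheme.Hom.ker_apply, Ideal.span_le,
      Set.singleton_subset_iff, SetLike.mem_coe, RingHom.mem_ker]
    exact h l

end Pull

end Groth.Agent.Lib.QuinticA
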