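import Mathlib
import Groth.Prelude
import Groth.Agent.Lib.QuinticA_helper9
import Groth.Agent.Lib.ProjEuler_helper9

/-!
# The restriction map `forms of degree d → H⁰(C, i^* O(d))`, linearly (helper9, towards S16534)
APPEND-ONLY once landed.
-/

set_option autoImplicit false

namespace Groth.Agent.Lib.QuinticA

universe u

open CategoryTheory CategoryTheory.Limits AlgebraicGeometry TopologicalSpace Opposite MvPolynomial
open Groth.Agent.ProjCech Groth.Agent.HypIdeal QCohExtn QcqsLoc SerreCrit GenLocH8 TensH8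
open Groth.Agent.Lib.TlMapH1 HomogeneousLocalization CohB1 Groth.Agent.Lib.IdealDict

section Smul

variable {Z : Scheme.{u}}

lemma resTop_top (r : Coh.Γtop Z) : Coh.resTop Z (op ⊤) r = r := by
  show (Z.ringCatSheaf.obj.map (homOfLE (le_top (a := (⊤ : Z.Opens)))).op).hom r = r
  have h : (homOfLE (le_top (a := (⊤ : Z.Opens)))) = 𝟙 _ := Subsingleton.elim _ _
  rw [h, op_id, CategoryTheory.Functor.map_id]
  rfl

/-- the identification of `H^0` with the global sections is linear over the global functions -/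
lemma equiv₀_smul (N : Z.Modules) (r : Coh.Γtop Z) (ζ : Coh.HH Z N 0) :
    Sheaf.H.equiv₀ (Coh.toAb N) (isTerminalTop : IsTerminal (⊤ : Z.Opens)) (r • ζ) =
      @HSMul.hSMul (Z.ringCatSheaf.obj.obj (op ⊤)) (N.val.obj (op ⊤)) (N.val.obj (op ⊤)) _ r
        (Sheaf.H.equiv₀ (Coh.toAb N) (isTerminalTop : IsTerminal (⊤ : Z.Opens)) ζ) := by
  have h1 := (Sheaf.H.equiv₀_naturality (hT := (isTerminalTop : IsTerminal (⊤ : Z.Opens)))
    (Coh.smulAb N r) ζ).symm
  refine h1.trans ?_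
  rw [Coh.smulAb_app, resTop_top]

end Smul

section Lin

variable {k : Type u} [Field k] {n : ℕ} {C : Scheme.{u}} [C.Over (Spec (CommRingCat.of k))]
  (i : C ⟶ CohB1.ProjSpace n k)
  (hi : i ≫ CohB1.ProjSpace.toSpec n k = C ↘ Spec (CommRingCat.of k))

include hi in
/-- the pullback on `H⁰` is `k`-linear -/
theorem pullMod_smul (M : (CohB1.ProjSpace n k).Modules) (c : k)
    (y : Coh.HH (CohB1.ProjSpace n k) M 0) :
    CohPull.pullMod i M 0 (c • y) = c • CohPull.pullMod i M 0 y := by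
  apply (Sheaf.H.equiv₀ (Coh.toAb ((Scheme.Modules.pullback i).obj M))
    (isTerminalTop : IsTerminal (⊤ : C.Opens))).injective
  have h1 : c • y = Coh.toGlobal (CohB1.ProjSpace n k ↘ Spec (CommRingCat.of k)) c • y := rfl
  have h2 : c • CohPull.pullMod i M 0 y =
      Coh.toGlobal (C ↘ Spec (CommRingCat.of k)) c • CohPull.pullMod i M 0 y := rfl
  rw [h2, equiv₀_smul, Groth.Agent.Lib.PullFnH2.equiv₀_pullMod_cUV,
    Groth.Agent.Lib.PullFnH2.equiv₀_pullMod_cUV, h1, equiv₀_smul]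
  have h3 := PBH8.cUV_smul i M (le_top : (⊤ : C.Opens) ≤ i ⁻¹ᵁ (⊤ : (CohB1.ProjSpace n k).Opens))
    (Coh.toGlobal (CohB1.ProjSpace n k ↘ Spec (CommRingCat.of k)) c)
    (Sheaf.H.equiv₀ (Coh.toAb M) (isTerminalTop : IsTerminal (⊤ : (CohB1.ProjSpace n k).Opens)) y)
  refine h3.trans ?_
  congr 1
  rw [Groth.Agent.PushEdgeNat.toGlobal_comp i hi c]
  have h4 : i.appLE ⊤ ⊤ (le_top : (⊤ : C.Opens) ≤ i ⁻¹ᵁ (⊤ : (CohB1.ProjSpace n k).Opens)) =
      i.appTop := Scheme.Hom.appLE_eq_app i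
  exact congrArg (fun φ => φ.hom (Coh.toGlobal (CohB1.ProjSpace n k ↘ Spec (CommRingCat.of k)) c)) h4

/-- restriction of forms of degree `d` to `C`, as a `k`-linear map to `H⁰(C, i^* O(d))` -/
noncomputable def restr (d : ℕ) : LefPen.Form n k d →ₗ[k]
    Coh.HH C ((Scheme.Modules.pullback i).obj (Twist.twistProjSpace n k (d : ℤ))) 0 where
  toFun G := CohPull.pullMod i (Twist.twistProjSpace n k (d : ℤ)) 0 (globLin d G)
  map_add' G G' := by rw [map_add, map_add]
  map_smul' c G := by rw [map_smul, pullMod_smul i hi]; rfl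

omit [C.Over (Spec (CommRingCat.of k))] in
theorem hypIdeal_le_ker_of_pullMod [QuasiCompact i] (d : ℕ) (G : LefPen.Form n k d)
    (h : CohPull.pullMod i (Twist.twistProjSpace n k (d : ℤ)) 0 (globLin d G) = 0) :
    LefPen.hypIdeal G ≤ i.ker := by
  have h1 := Groth.Agent.Lib.PullFnH2.equiv₀_pullMod_cUV i (Twist.twistProjSpace n k (d : ℤ))
    (globLin d G)
  rw [h, map_zero] at h1
  have h2 : Sheaf.H.equiv₀ (Coh.toAb (Twist.twistProjSpace n k (d : ℤ)))
      (isTerminalTop : IsTerminal (⊤ : (CohB1.ProjSpace n k).Opens)) (globLin d G) = glob d G :=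
    AddEquiv.apply_symm_apply _ _
  rw [h2] at h1
  apply hypIdeal_le_ker i G
  intro l
  rw [← ρ'_eq_dehom]
  exact app_ρ'_eq_zero i d G h1.symm l

theorem hypIdeal_le_ker_of_restr [QuasiCompact i] (d : ℕ) (G : LefPen.Form n k d)
    (h : restr i hi d G = 0) : LefPen.hypIdeal G ≤ i.ker :=
  hypIdeal_le_ker_of_pullMod i d G h

end Lin

end Groth.Agent.Lib.QuinticA
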