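import Mathlib

/-!
# Linear algebra of forms for S16534 (helper9).  APPEND-ONLY once landed.
-/

set_option autoImplicit false

namespace Groth.Agent.Lib.QuinticD

open MvPolynomial

variable {K : Type*} [Field K] {σ : Type*}

attribute [local instance] MvPolynomial.gradedAlgebra

/-- multiplication by a linear form, from linear forms to quadratic forms -/
noncomputable def mulForm (l : homogeneousSubmodule σ K 1) :
    homogeneousSubmodule σ K 1 →ₗ[K] homogeneousSubmodule σ K 2 where
  toFun a := ⟨l.1 * a.1, (mem_homogeneousSubmodule _ _).mpr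
    (((mem_homogeneousSubmodule _ _).mp l.2).mul ((mem_homogeneousSubmodule _ _).mp a.2))⟩
  map_add' a b := by
    apply Subtype.ext
    show l.1 * (a.1 + b.1) = l.1 * a.1 + l.1 * b.1
    ring
  map_smul' c a := by
    apply Subtype.ext
    show l.1 * (c • a.1) = c • (l.1 * a.1)
    rw [mul_smul_comm]

/-- a quadratic form divisible by a linear form is the product with a linear form -/
theorem mem_range_mulForm [DecidableEq σ] (l : homogeneousSubmodule σ K 1)
    (q : homogeneousSubmodule σ K 2)
    (h : q.1 ∈ Ideal.span {l.1}) : q ∈ LinearMap.range (mulForm l) := by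
  obtain ⟨a, ha⟩ := Ideal.mem_span_singleton'.mp h
  have h1 := DirectSum.coe_decompose_mul_add_of_left_mem (homogeneousSubmodule σ K)
    (i := 1) (j := 1) (b := a) l.2
  have h2 : l.1 * a = q.1 := by rw [mul_comm]; exact ha
  rw [h2, DirectSum.decompose_of_mem_same (homogeneousSubmodule σ K) q.2] at h1
  refine ⟨DirectSum.decompose (homogeneousSubmodule σ K) a 1, ?_⟩
  apply Subtype.ext
  exact h1.symm

/-- the abstract dimension count -/
theorem exists_forms [DecidableEq σ] {V₁ V₂ : Type*} [AddCommGroup V₁] [Module K V₁]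
    [AddCommGroup V₂] [Module K V₂]
    [FiniteDimensional K (homogeneousSubmodule σ K 1)]
    [FiniteDimensional K (homogeneousSubmodule σ K 2)]
    [FiniteDimensional K V₁] [FiniteDimensional K V₂]
    (R₁ : homogeneousSubmodule σ K 1 →ₗ[K] V₁) (R₂ : homogeneousSubmodule σ K 2 →ₗ[K] V₂)
    (h₁ : Module.finrank K V₁ < Module.finrank K (homogeneousSubmodule σ K 1))
    (h₂ : Module.finrank K V₂ + Module.finrank K (homogeneousSubmodule σ K 1) <
      Module.finrank K (homogeneousSubmodule σ K 2)) :
    ∃ (l : homogeneousSubmodule σ K 1) (q : homogeneousSubmodule σ K 2),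
      l ≠ 0 ∧ R₁ l = 0 ∧ R₂ q = 0 ∧ q.1 ∉ Ideal.span {l.1} := by
  have hk := LinearMap.ker_ne_bot_of_finrank_lt (f := R₁) h₁
  obtain ⟨l, hl, hl0⟩ := (Submodule.ne_bot_iff _).mp hk
  have h3 := LinearMap.finrank_range_add_finrank_ker R₂
  have h4 := Submodule.finrank_le (LinearMap.range R₂)
  have h5 := LinearMap.finrank_range_le (mulForm l)
  have h6 : ¬ LinearMap.ker R₂ ≤ LinearMap.range (mulForm l) := by
    intro hle
    have h7 := Submodule.finrank_mono hle
    omega
  obtain ⟨q, hq, hq'⟩ := SetLike.not_le_iff_exists.mp h6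
  exact ⟨l, q, hl0, hl, hq, fun hmem => hq' (mem_range_mulForm l q hmem)⟩

end Groth.Agent.Lib.QuinticD
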