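import Mathlib
import Groth.Prelude
import Groth.Agent.Lib.QuinticB_helper9
import Groth.Agent.Lib.QuinticC_helper9
import Groth.Agent.Lib.QuinticD_helper9

/-!
# A genus-two quintic in `P^4` lies in a hyperplane and on a quadric (helper9, S16534)
APPEND-ONLY once landed.
-/

set_option autoImplicit false

namespace Groth.Agent.Lib.QuinticE

universe u

open CategoryTheory CategoryTheory.Limits AlgebraicGeometry TopologicalSpace Opposite MvPolynomial

theorem main16534 (k : Type u) [Field k] [IsAlgClosed k] (C : Scheme.{u})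
    [C.Over (Spec (CommRingCat.of k))] [IsProper (C ↘ Spec (CommRingCat.of k))]
    [IsIntegral C] (hC : topologicalKrullDim C = 1) (hg : Curv2.genus k C = 2)
    (i : C ⟶ CohB1.ProjSpace 4 k) [IsClosedImmersion i]
    (hi : i ≫ CohB1.ProjSpace.toSpec 4 k = C ↘ Spec (CommRingCat.of k))
    (hdeg : Curv2.deg k C ((Scheme.Modules.pullback i).obj (Twist.twistProjSpace 4 k 1)) 1 = 5) :
    ∃ (l : LefPen.Form 4 k 1) (q : LefPen.Form 4 k 2), l ≠ 0 ∧ q.1 ∉ Ideal.span {l.1} ∧
      ∃ j : C ⟶ (LefPen.hypIdeal l ⊔ LefPen.hypIdeal q).subscheme,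
        j ≫ (LefPen.hypIdeal l ⊔ LefPen.hypIdeal q).subschemeι = i := by
  haveI : IsLocallyNoetherian C :=
    LocallyOfFiniteType.isLocallyNoetherian (C ↘ Spec (CommRingCat.of k))
  haveI := ProperFinH9.finite_HH_of_proper k C _ (CohDevH8.isCoh_structureModule C) 0
  have h0 : Module.finrank k (Coh.HH C (Coh.structureModule C) 0) = 1 :=
    Groth.Agent.ProjConn.finrank_h0_of_isIntegral k
  obtain ⟨n1, n2⟩ := Groth.Agent.Lib.QuinticC.finrank_HH0_pullback_twist k 4 C i hC.le h0 2 5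
    (by rw [hg]; rfl) hdeg (by norm_num) (by norm_num)
  have hM1 := Groth.Agent.Lib.QuinticC.isInvertible_pullback_twist k 4 C i ((1 : ℕ) : ℤ)
  have hM2 := Groth.Agent.Lib.QuinticC.isInvertible_pullback_twist k 4 C i ((2 : ℕ) : ℤ)
  haveI := ProperFinH9.finite_HH_of_proper k C _ (ProperFinH9.isCoh_of_isInvertible hM1) 0
  haveI := ProperFinH9.finite_HH_of_proper k C _ (ProperFinH9.isCoh_of_isInvertible hM2) 0
  have f1 : Module.finrank k (homogeneousSubmodule (Fin (4 + 1)) k 1) = 5 := by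
    rw [Groth.Agent.ProjEuler.finrank_homogeneousSubmodule, Fintype.card_fin]
    rfl
  have f2 : Module.finrank k (homogeneousSubmodule (Fin (4 + 1)) k 2) = 15 := by
    rw [Groth.Agent.ProjEuler.finrank_homogeneousSubmodule, Fintype.card_fin]
    rfl
  haveI : FiniteDimensional k (homogeneousSubmodule (Fin (4 + 1)) k 1) :=
    Module.finite_of_finrank_pos (by rw [f1]; norm_num)
  haveI : FiniteDimensional k (homogeneousSubmodule (Fin (4 + 1)) k 2) :=
    Module.finite_of_finrank_pos (by rw [f2]; norm_num)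
  have m1 : Module.finrank k (Coh.HH C ((Scheme.Modules.pullback i).obj
      (Twist.twistProjSpace 4 k ((1 : ℕ) : ℤ))) 0) = 4 := by
    have : ((Module.finrank k (Coh.HH C ((Scheme.Modules.pullback i).obj
      (Twist.twistProjSpace 4 k ((1 : ℕ) : ℤ))) 0) : ℕ) : ℤ) = 4 := by
      rw [show (((1 : ℕ) : ℤ)) = 1 from rfl, n1]; norm_num
    exact_mod_cast this
  have m2 : Module.finrank k (Coh.HH C ((Scheme.Modules.pullback i).obj
      (Twist.twistProjSpace 4 k ((2 : ℕ) : ℤ))) 0) = 9 := by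
    have : ((Module.finrank k (Coh.HH C ((Scheme.Modules.pullback i).obj
      (Twist.twistProjSpace 4 k ((2 : ℕ) : ℤ))) 0) : ℕ) : ℤ) = 9 := by
      rw [show (((2 : ℕ) : ℤ)) = 2 from rfl, n2]; norm_num
    exact_mod_cast this
  obtain ⟨l, q, hl0, hl, hq, hql⟩ := Groth.Agent.Lib.QuinticD.exists_forms
    (Groth.Agent.Lib.QuinticA.restr i hi 1) (Groth.Agent.Lib.QuinticA.restr i hi 2)
    (by rw [m1, f1]; norm_num) (by rw [m2, f1, f2]; norm_num)
  refine ⟨l, q, hl0, hql, ?_⟩
  have hle : (LefPen.hypIdeal l ⊔ LefPen.hypIdeal q).subschemeι.ker ≤ i.ker := by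
    rw [Scheme.IdealSheafData.ker_subschemeι]
    exact sup_le (Groth.Agent.Lib.QuinticA.hypIdeal_le_ker_of_restr i hi 1 l hl)
      (Groth.Agent.Lib.QuinticA.hypIdeal_le_ker_of_restr i hi 2 q hq)
  exact ⟨IsClosedImmersion.lift _ i hle, IsClosedImmersion.lift_fac _ _ _⟩

end Groth.Agent.Lib.QuinticE
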