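import Mathlib
import Groth.Prelude

set_option autoImplicit false
set_option linter.style.haveILetI false
set_option linter.unusedVariables false

universe u

namespace Groth.Agent.Lib.QuivWallH4

variable {I : Type u} [Fintype I]

theorem dot_comb (θ₁ θ₂ : I → ℝ) (a b : ℝ) (e : I → ℕ) :
    ∑ i, (a • θ₁ + b • θ₂) i * (e i : ℝ) =
      a * ∑ i, θ₁ i * (e i : ℝ) + b * ∑ i, θ₂ i * (e i : ℝ) := by
  rw [Finset.mul_sum, Finset.mul_sum, ← Finset.sum_add_distrib]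
  refine Finset.sum_congr rfl fun i _ => ?_
  simp only [Pi.add_apply, Pi.smul_apply, smul_eq_mul]
  ring

theorem comb_ne_zero {a b x y : ℝ} (ha : 0 ≤ a) (hb : 0 ≤ b) (hab : a + b = 1) (hx : x ≠ 0)
    (hs : SignType.sign x = SignType.sign y) : a * x + b * y ≠ 0 := by
  rcases lt_or_gt_of_ne hx with hx' | hx'
  · have hy : y < 0 := by rw [sign_neg hx'] at hs; exact sign_eq_neg_one_iff.mp hs.symm
    have h3 : a * x + b * y < 0 := by
      rcases eq_or_lt_of_le ha with h | h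
      · have hb1 : b = 1 := by linarith
        rw [← h, hb1]; linarith
      · have h1 : a * x < 0 := mul_neg_of_pos_of_neg h hx'
        have h2 : b * y ≤ 0 := mul_nonpos_of_nonneg_of_nonpos hb hy.le
        linarith
    exact h3.ne
  · have hy : 0 < y := by rw [sign_pos hx'] at hs; exact sign_eq_one_iff.mp hs.symm
    have h3 : 0 < a * x + b * y := by
      rcases eq_or_lt_of_le ha with h | h
      · have hb1 : b = 1 := by linarith
        rw [← h, hb1]; linarith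
      · have h1 : 0 < a * x := mul_pos h hx'
        have h2 : 0 ≤ b * y := mul_nonneg hb hy.le
        linarith
    exact h3.ne'

theorem same_sign_of_connected (F : Set (I → ℝ)) (θ₁ θ₂ : I → ℝ)
    (hθ₂ : θ₂ ∈ connectedComponentIn F θ₁) (hθ₁F : θ₁ ∈ F)
    (e : I → ℕ) (hne : ∀ θ ∈ F, ∑ i, θ i * (e i : ℝ) ≠ 0) :
    SignType.sign (∑ i, θ₁ i * (e i : ℝ)) = SignType.sign (∑ i, θ₂ i * (e i : ℝ)) := by
  obtain ⟨f, hf⟩ : ∃ f : (I → ℝ) → ℝ, ∀ θ, f θ = ∑ i, θ i * (e i : ℝ) := ⟨_, fun _ => rfl⟩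
  have hcont : Continuous f := by
    have h1 : f = fun θ => ∑ i, θ i * (e i : ℝ) := funext hf
    rw [h1]
    exact continuous_finset_sum _ fun i _ => (continuous_apply i).mul continuous_const
  have hC : IsPreconnected (connectedComponentIn F θ₁) := isPreconnected_connectedComponentIn
  have himg : IsPreconnected (f '' connectedComponentIn F θ₁) := hC.image f hcont.continuousOn
  have hord : (f '' connectedComponentIn F θ₁).OrdConnected :=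
    isPreconnected_iff_ordConnected.mp himg
  have h1 : f θ₁ ∈ f '' connectedComponentIn F θ₁ := ⟨θ₁, mem_connectedComponentIn hθ₁F, rfl⟩
  have h2 : f θ₂ ∈ f '' connectedComponentIn F θ₁ := ⟨θ₂, hθ₂, rfl⟩
  have h0 : (0 : ℝ) ∉ f '' connectedComponentIn F θ₁ := by
    rintro ⟨θ, hθ, hθ0⟩
    exact hne θ (connectedComponentIn_subset F θ₁ hθ) ((hf θ).symm.trans hθ0)
  have hx : f θ₁ ≠ 0 := fun h => hne θ₁ hθ₁F ((hf θ₁).symm.trans h)
  have hy : f θ₂ ≠ 0 := fun h =>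
    hne θ₂ (connectedComponentIn_subset F θ₁ hθ₂) ((hf θ₂).symm.trans h)
  rw [← hf θ₁, ← hf θ₂]
  rcases lt_or_gt_of_ne hx with hx' | hx' <;> rcases lt_or_gt_of_ne hy with hy' | hy'
  · rw [sign_neg hx', sign_neg hy']
  · exfalso; exact h0 (hord.out h1 h2 ⟨hx'.le, hy'.le⟩)
  · exfalso; exact h0 (hord.out h2 h1 ⟨hy'.le, hx'.le⟩)
  · rw [sign_pos hx', sign_pos hy']

theorem dot_zero_of_mult (d : I → ℕ) (θ : I → ℝ) (hθ : ∑ i, θ i * (d i : ℝ) = 0)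
    (d' : I → ℕ) (hle : d' ≤ d) (m : ℕ) (hm : d = m • d') : ∑ i, θ i * (d' i : ℝ) = 0 := by
  by_cases hm0 : m = 0
  · have hd0 : ∀ i, d' i = 0 := by
      intro i
      have h1 : d' i ≤ d i := hle i
      have h2 : d i = 0 := by rw [congrFun hm i, hm0, Pi.smul_apply, zero_smul]
      omega
    refine Finset.sum_eq_zero fun i _ => ?_
    rw [hd0 i, Nat.cast_zero, mul_zero]
  · have h1 : ∑ i, θ i * (d i : ℝ) = (m : ℝ) * ∑ i, θ i * (d' i : ℝ) := by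
      rw [Finset.mul_sum]
      refine Finset.sum_congr rfl fun i _ => ?_
      have h3 : d i = m * d' i := by rw [congrFun hm i, Pi.smul_apply, smul_eq_mul]
      rw [h3, Nat.cast_mul]; ring
    rw [hθ] at h1
    have hm' : (m : ℝ) ≠ 0 := Nat.cast_ne_zero.mpr hm0
    exact (mul_eq_zero.mp h1.symm).resolve_left hm'

theorem main (I : Type u) [Fintype I] (d : I → ℕ) (θ₁ θ₂ : I → ℝ)
    (h₁ : ∑ i, θ₁ i * (d i : ℝ) = 0) (h₂ : ∑ i, θ₂ i * (d i : ℝ) = 0) :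
    (∀ d' : I → ℕ, d' ≤ d →
        SignType.sign (∑ i, θ₁ i * (d' i : ℝ)) = SignType.sign (∑ i, θ₂ i * (d' i : ℝ))) ↔
    ∃ J₁ : Set (I → ℕ), J₁ ⊆ {d' | d' ≤ d ∧ ¬ ∃ m : ℕ, d = m • d'} ∧
      θ₂ ∈ connectedComponentIn
        {θ : I → ℝ | ∑ i, θ i * (d i : ℝ) = 0 ∧ (∀ d₁ ∈ J₁, ∑ i, θ i * (d₁ i : ℝ) = 0) ∧
          ∀ d₂ : I → ℕ, d₂ ≤ d → (¬ ∃ m : ℕ, d = m • d₂) → d₂ ∉ J₁ →
            ∑ i, θ i * (d₂ i : ℝ) ≠ 0} θ₁ := by
  constructor
  · intro hsign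
    refine ⟨{d' | d' ≤ d ∧ (¬ ∃ m : ℕ, d = m • d') ∧ ∑ i, θ₁ i * (d' i : ℝ) = 0},
      fun d' hd' => ⟨hd'.1, hd'.2.1⟩, ?_⟩
    refine (convex_segment θ₁ θ₂).isPreconnected.subset_connectedComponentIn
      (left_mem_segment ℝ θ₁ θ₂) ?_ (right_mem_segment ℝ θ₁ θ₂)
    rintro θ ⟨a, b, ha, hb, hab, rfl⟩
    refine ⟨?_, ?_, ?_⟩
    · rw [dot_comb, h₁, h₂, mul_zero, mul_zero, add_zero]
    · intro d₁ hd₁
      have hs := hsign d₁ hd₁.1
      rw [hd₁.2.2, sign_zero] at hs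
      have h20 : ∑ i, θ₂ i * (d₁ i : ℝ) = 0 := sign_eq_zero_iff.mp hs.symm
      rw [dot_comb, hd₁.2.2, h20, mul_zero, mul_zero, add_zero]
    · intro d₂ hd₂ hm hnJ
      have hx : ∑ i, θ₁ i * (d₂ i : ℝ) ≠ 0 := fun h0 => hnJ ⟨hd₂, hm, h0⟩
      have hs := hsign d₂ hd₂
      rw [dot_comb]
      exact comb_ne_zero ha hb hab hx hs
  · rintro ⟨J₁, hJ₁, hθ₂⟩ d' hd'
    have hθ₁F := connectedComponentIn_nonempty_iff.mp ⟨θ₂, hθ₂⟩
    have hθ₂F := connectedComponentIn_subset _ _ hθ₂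
    by_cases hm : ∃ m : ℕ, d = m • d'
    · obtain ⟨m, hm⟩ := hm
      rw [dot_zero_of_mult d θ₁ h₁ d' hd' m hm, dot_zero_of_mult d θ₂ h₂ d' hd' m hm]
    · by_cases hJ : d' ∈ J₁
      · rw [hθ₁F.2.1 d' hJ, hθ₂F.2.1 d' hJ]
      · exact same_sign_of_connected _ θ₁ θ₂ hθ₂ hθ₁F d' (fun θ hθ => hθ.2.2 d' hd' hm hJ)

end Groth.Agent.Lib.QuivWallH4
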