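import Mathlib
import Groth.Agent.Lib.AlgSpQuotSp_helper7
import Groth.Agent.Lib.EtCharts_helper7
import Groth.Agent.Lib.AlgSpImage_helper7

/-!
# The quotient map of an fppf equivalence relation with algebraic quotient is fppf (helper7)
-/

set_option autoImplicit false
universe u
open CategoryTheory CategoryTheory.Limits AlgebraicGeometry Opposite
open AlgSp Groth.Agent.Lib.AlgSpPoints_helper7 Groth.Agent.Lib.AlgSpPullback_helper7
  Groth.Agent.Lib.AlgSpOpenSub_helper7 Groth.Agent.Lib.AlgSpQuotSpH7 Groth.Agent.Lib.AlgSpGlueH7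
  Groth.Agent.Lib.AlgSpImage_helper7 Groth.Agent.Lib.EtChartsH7
  Groth.Agent.Lib.AlgSpLocP4_helper7 Groth.Agent.Lib.AlgSpLocP7_helper7
  Groth.Agent.Lib.AlgSpLocP_helper7 Groth.Agent.Lib.AlgSpLocP6_helper7
  Groth.Agent.Lib.AlgSpLocP8_helper7

namespace Groth.Agent.Lib.QuotFppf_helper7

variable {S : Scheme.{u}} {R U : Sp S} {s t : R ⟶ U}

/-- Equivalence relations of fppf sheaves are effective: `R = U ×_{U/R} U`. -/
theorem isPullback_quotSp (hj : IsEqvRelSp s t) :
    IsPullback t s (quotSpπ s t) (quotSpπ s t) := by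
  have w : t ≫ quotSpπ s t = s ≫ quotSpπ s t := (quotSp_condition s t).symm
  obtain ⟨k, hk1, hk2⟩ : ∃ k : R ⟶ pullback (quotSpπ s t) (quotSpπ s t),
      k ≫ pullback.fst _ _ = t ∧ k ≫ pullback.snd _ _ = s :=
    ⟨pullback.lift t s w, pullback.lift_fst _ _ _, pullback.lift_snd _ _ _⟩
  haveI : Mono k := ⟨fun {Z} g h hgh => by
    apply hom_ext_yon
    intro T x
    apply hj.injective T (x ≫ g) (x ≫ h)
    · rw [Category.assoc, Category.assoc, ← hk1, ← Category.assoc g, ← Category.assoc h, hgh]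
    · rw [Category.assoc, Category.assoc, ← hk2, ← Category.assoc g, ← Category.assoc h, hgh]⟩
  haveI : Sheaf.IsLocallySurjective k := by
    refine ⟨fun {X} y => ?_⟩
    obtain ⟨c, rfl⟩ : ∃ c : (yon S).obj X ⟶ pullback (quotSpπ s t) (quotSpπ s t),
        yE c = y := ⟨yE.symm y, by simp⟩
    obtain ⟨Sv, hSv, key⟩ := exists_rel_of_quotSpπ_eq hj.equivalence
      (c ≫ pullback.fst _ _) (c ≫ pullback.snd _ _)
      (by rw [Category.assoc, Category.assoc, pullback.condition])
    refine (J S).superset_covering ?_ hSv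
    intro T' m hm
    obtain ⟨r, hr1, hr2⟩ := key m hm
    refine ⟨yE r, ?_⟩
    have e : r ≫ k = (yon S).map m ≫ c := by
      apply pullback.hom_ext
      · rw [Category.assoc, hk1, hr1, Category.assoc]
      · rw [Category.assoc, hk2, hr2, Category.assoc]
    have e' := congrArg yE e
    rw [yE_comp, ← yE_map] at e'
    exact e'
  haveI : Epi k := (Sheaf.isLocallySurjective_iff_epi k).1 inferInstance
  haveI : IsIso k := isIso_of_mono_of_epi k
  exact IsPullback.of_iso_pullback ⟨w⟩ (asIso k) hk1 hk2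

theorem main (hR : IsAlgSpace R) (hU : IsAlgSpace U) (hj : IsEqvRelSp s t)
    (hs : LocP @Flat s ∧ LocP @LocallyOfFinitePresentation s)
    (hF : IsAlgSpace (quotSp s t)) :
    IsSurjectiveMor (quotSpπ s t) ∧ LocP @Flat (quotSpπ s t) ∧
      LocP @LocallyOfFinitePresentation (quotSpπ s t) := by
  haveI : Epi (quotSpπ s t) := by unfold quotSpπ; exact coequalizer.π_epi
  have sqR : IsPullback t s (quotSpπ s t) (quotSpπ s t) := isPullback_quotSp hj
  obtain ⟨W, ψ, hψe, hψs⟩ := hF.atlas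
  choose T' c l hcf hcp hcτ hl using fun τ : ↥W.left =>
    exists_local_lift_of_epi (quotSpπ s t) ψ τ
  have hψfl := flat_lfp_of_repWith_etale ψ hψe
  have hcov : IsFppfCover (fun τ : ↥W.left => (yon S).obj (T' τ))
      (fun τ => (yon S).map (c τ) ≫ ψ) := by
    refine ⟨fun τ => ⟨?_, ?_⟩, fun x => ?_⟩
    · exact locP_comp etLocal_flat (IsAlgSpace.yon_obj _) (IsAlgSpace.yon_obj W) hF _ ψ
        (locP_of_repWith @Flat (fun _ _ g (_ : Etale g) => (inferInstance : Flat g)) _
          ((repWith_yon_map_iff _ _).2 (hcf τ))) hψfl.1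
    · exact locP_comp etLocal_locallyOfFinitePresentation (IsAlgSpace.yon_obj _)
        (IsAlgSpace.yon_obj W) hF _ ψ
        (locP_of_repWith @LocallyOfFinitePresentation
          (fun _ _ g (_ : Etale g) => (inferInstance : LocallyOfFinitePresentation g)) _
          ((repWith_yon_map_iff _ _).2 (hcp τ))) hψfl.2
    · obtain ⟨τ, rfl⟩ := ofPt_surjective ψ hψs x
      obtain ⟨τ', hτ'⟩ := hcτ τ
      refine ⟨τ, Points.ofScheme _ τ', ?_⟩
      rw [← Points.ofPt_eq_map_ofScheme, ofPt_comp, hτ']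
  have hX : ∀ τ, IsAlgSpace (pullback s (l τ)) := fun τ =>
    isAlgSpace_of_isPullback hU.diag hR (IsAlgSpace.yon_obj _) (IsPullback.of_hasPullback _ _)
  have sqs : ∀ τ, IsPullback (pullback.fst s (l τ) ≫ t) (pullback.snd s (l τ)) (quotSpπ s t)
      ((yon S).map (c τ) ≫ ψ) := fun τ => by
    have := (IsPullback.of_hasPullback s (l τ)).paste_horiz sqR
    rwa [hl τ] at this
  refine ⟨fun x => ?_, ?_, ?_⟩
  · obtain ⟨τ, rfl⟩ := ofPt_surjective ψ hψs x
    obtain ⟨τ', hτ'⟩ := hcτ τ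
    refine ⟨Points.ofPt (l τ) τ', ?_⟩
    rw [Points.map_ofPt, hl τ, ofPt_comp, hτ']
  · refine (isLocalOnBase_fppf_of_fpqc isLocalOnBase_fpqc_locP_flat _ _ hF
      (fun τ => IsAlgSpace.yon_obj _) hcov (quotSpπ s t) hU _ _ _ hX sqs).2 (fun τ => ?_)
    exact locP_baseChange etLocal_flat hR hU (IsAlgSpace.yon_obj _) s (l τ) _ _
      (IsPullback.of_hasPullback _ _) hs.1
  · refine (isLocalOnBase_fppf_of_fpqc isLocalOnBase_fpqc_locP_locallyOfFinitePresentation _ _ hF
      (fun τ => IsAlgSpace.yon_obj _) hcov (quotSpπ s t) hU _ _ _ hX sqs).2 (fun τ => ?_)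
    exact locP_baseChange etLocal_locallyOfFinitePresentation hR hU (IsAlgSpace.yon_obj _) s
      (l τ) _ _ (IsPullback.of_hasPullback _ _) hs.2

end Groth.Agent.Lib.QuotFppf_helper7
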