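import Mathlib
import Groth.Prelude
import Groth.Agent.Lib.IrrDec1_helper8
import Groth.Agent.Lib.DualTF1_helper8

set_option autoImplicit false
universe u

open CategoryTheory CategoryTheory.Limits AlgebraicGeometry TopologicalSpace Opposite
open ZClosH8 ZClosPtH8 HomLinH8 SecOrdH8 RefBasisH8 HartConvH8

/-! Torsion-free modules on reduced locally Noetherian schemes: sections are determined at the
generic points (helper8). APPEND-ONLY once landed. -/

namespace TorFree2H8

variable {X : Scheme.{u}}

theorem stalkTF_of_isTorsionFree (F : X.Modules) (h : TorSh.IsTorsionFree F) :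
    TorFreeH8.StalkTF F := by
  intro x s hs m hsm
  haveI := h x
  have hreg : IsRegular s :=
    isRegular_iff_mem_nonZeroDivisors.2 (Mero.regStalk_le_nonZeroDivisors x hs)
  have h1 : IsSMulRegular (F.presheaf.stalk x) s := hreg.isSMulRegular
  exact h1 (show s • m = s • 0 by rw [smul_zero]; exact hsm)

/-- in a reduced Noetherian local ring whose maximal ideal is associated, the maximal ideal is
zero. -/
theorem maximalIdeal_eq_bot {R : Type u} [CommRing R] [IsLocalRing R] [IsNoetherianRing R]
    [IsReduced R] (h : IsAssociatedPrime (IsLocalRing.maximalIdeal R) R) :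
    IsLocalRing.maximalIdeal R = ⊥ := by
  obtain ⟨_, c, hc⟩ := isAssociatedPrime_iff.1 h
  have hmem : ∀ r, r ∈ IsLocalRing.maximalIdeal R ↔ r * c = 0 := by
    intro r
    rw [hc, Submodule.mem_colon_singleton, Submodule.mem_bot, smul_eq_mul]
  have hc0 : c ≠ 0 := by
    intro hc0
    have h1m : (1 : R) ∈ IsLocalRing.maximalIdeal R := by
      rw [hmem, hc0, mul_zero]
    exact (Ideal.ne_top_iff_one _).1 (IsLocalRing.maximalIdeal.isMaximal _).ne_top h1m
  have hcu : IsUnit c := by
    by_contra hnu
    have hcm : c ∈ IsLocalRing.maximalIdeal R := (IsLocalRing.mem_maximalIdeal c).2 hnu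
    have hcc : c * c = 0 := (hmem c).1 hcm
    exact hc0 (IsReduced.eq_zero c ⟨2, by rw [sq]; exact hcc⟩)
  rw [eq_bot_iff]
  intro r hr
  have h1 := (hmem r).1 hr
  exact (Submodule.mem_bot _).2 ((hcu.mul_left_eq_zero).1 h1)

variable [IsReduced X] [IsLocallyNoetherian X] (F : X.Modules) [F.IsQuasicoherent]

/-- associated points of a torsion-free module on a reduced scheme are generic points. -/
theorem isField_of_isAssPoint (htF : TorSh.IsTorsionFree F) (y : X) (hy : Curv2.IsAssPoint F y) :
    IsField (X.presheaf.stalk y) ∧ ∀ z : X, z ⤳ y → z = y := by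
  have h1 := TorFreeH8.ass_of_stalkTF F (stalkTF_of_isTorsionFree F htF) y hy
  refine ⟨?_, DualTFH8.eq_of_specializes_of_isAssociatedPrime y h1⟩
  rw [IsLocalRing.isField_iff_maximalIdeal_eq]
  exact maximalIdeal_eq_bot h1

/-- an element of a stalk of a torsion-free module vanishing at all generic points vanishes. -/
theorem eq_zero_of_forall_generic (htF : TorSh.IsTorsionFree F) (z : X) (c : F.presheaf.stalk z)
    (h : ∀ (y : X) (hyz : y ⤳ z), IsField (X.presheaf.stalk y) → (∀ w : X, w ⤳ y → w = y) →
      F.presheaf.stalkSpecializes hyz c = 0) : c = 0 := by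
  by_contra hne
  obtain ⟨z', hspec, hz'ass, hne'⟩ := IrrDecH8.exists_assPoint_specializes F z c hne
  obtain ⟨hf, hmax⟩ := isField_of_isAssPoint F htF z' hz'ass
  exact hne' (h z' hspec hf hmax)

/-- S18922. -/
theorem germ_injective (htF : TorSh.IsTorsionFree F) (x : X) (U : X.Opens) (hxU : x ∈ U)
    (hU : ∀ y : X, y ∈ U → IsField (X.presheaf.stalk y) → x ∈ closure ({y} : Set X)) :
    Function.Injective (F.presheaf.germ U x hxU) := by
  rw [injective_iff_map_eq_zero]
  intro s hs
  refine TopCat.Presheaf.section_ext ⟨F.presheaf, F.isSheaf⟩ U s 0 (fun z hz => ?_)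
  show F.presheaf.germ U z hz s = F.presheaf.germ U z hz 0
  rw [map_zero]
  refine eq_zero_of_forall_generic F htF z _ (fun y hyz hf _ => ?_)
  have hyU : y ∈ U := hyz.mem_open U.isOpen hz
  have hyx : y ⤳ x := specializes_iff_mem_closure.2 (hU y hyU hf)
  rw [stalkSpecializes_germ, ← stalkSpecializes_germ F hyx U hxU s, hs, map_zero]

end TorFree2H8
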