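import Mathlib
import Groth.Prelude
import Groth.Agent.Lib.TorFree2_helper8
import Groth.Agent.Lib.SchDenseS1_helper8

set_option autoImplicit false
universe u

open CategoryTheory CategoryTheory.Limits AlgebraicGeometry TopologicalSpace Opposite
open ZClosH8 ZClosPtH8 HomLinH8 SecOrdH8 RefBasisH8 HartConvH8

namespace QuotIsoH8

variable {X Y : Scheme.{u}}

theorem restrictFunctor_map_app (f : X ⟶ Y) [IsOpenImmersion f] {A B : Y.Modules} (α : A ⟶ B)
    (V : X.Opens) :
    ((Scheme.Modules.restrictFunctor f).map α).app V = α.app (f ''ᵁ V) := rfl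

/-- a morphism into a torsion-free quasi-coherent module on a reduced locally Noetherian scheme
that vanishes on a dense open vanishes. -/
theorem eq_zero_of_restrict_eq_zero [IsReduced X] [IsLocallyNoetherian X] {A F : X.Modules}
    [F.IsQuasicoherent] (htF : TorSh.IsTorsionFree F) (U : X.Opens) (hU : Dense (U : Set X))
    (α : A ⟶ F) (h : (Scheme.Modules.restrictFunctor U.ι).map α = 0) : α = 0 := by
  by_contra hne
  obtain ⟨y, a, ha⟩ := IrrDecH8.exists_stalk_ne_zero_of_ne_zero α hne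
  obtain ⟨y', hspec, hy', hne'⟩ := IrrDecH8.exists_assPoint_specializes F y _ ha
  obtain ⟨_, hmax⟩ := TorFree2H8.isField_of_isAssPoint F htF y' hy'
  have hyU : y' ∈ U := SchDenseS1H8.mem_of_dense_of_isMax U hU y' hmax
  apply hne'
  rw [stalkSpecializes_stalkMap]
  obtain ⟨V, hyV, s, hs⟩ := TopCat.Presheaf.exists_germ_eq A.presheaf
    (A.presheaf.stalkSpecializes hspec a)
  rw [← hs]
  have hle : U.ι ''ᵁ (U.ι ⁻¹ᵁ V) ≤ V := by
    rw [Scheme.Hom.image_preimage_eq_opensRange_inf]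
    exact inf_le_right
  have hy'W : y' ∈ U.ι ''ᵁ (U.ι ⁻¹ᵁ V) := by
    rw [Scheme.Hom.image_preimage_eq_opensRange_inf, Scheme.Opens.opensRange_ι]
    exact ⟨hyU, hyV⟩
  rw [← germ_res A hle y' hy'W s, RefHull.stalkMapₗ_germ, ← restrictFunctor_map_app, h]
  exact map_zero _

end QuotIsoH8

namespace QuotIsoH8

variable {X : Scheme.{u}}

/-- S18914 in general form. -/
theorem exists_iso_quotients [IsReduced X] [IsLocallyNoetherian X] {E F₁ F₂ : X.Modules}
    [F₁.IsQuasicoherent] [F₂.IsQuasicoherent]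
    (ht₁ : TorSh.IsTorsionFree F₁) (ht₂ : TorSh.IsTorsionFree F₂)
    (q₁ : E ⟶ F₁) (q₂ : E ⟶ F₂) [Epi q₁] [Epi q₂]
    (U : X.Opens) (hU : Dense (U : Set X))
    (φ : F₁.restrict U.ι ≅ F₂.restrict U.ι)
    (hφ : (Scheme.Modules.restrictFunctor U.ι).map q₁ ≫ φ.hom =
      (Scheme.Modules.restrictFunctor U.ι).map q₂) :
    ∃ ψ : F₁ ≅ F₂, q₁ ≫ ψ.hom = q₂ ∧ (Scheme.Modules.restrictFunctor U.ι).map ψ.hom = φ.hom := by
  have hφ' : (Scheme.Modules.restrictFunctor U.ι).map q₂ ≫ φ.inv =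
      (Scheme.Modules.restrictFunctor U.ι).map q₁ := by
    rw [← hφ, Category.assoc, Iso.hom_inv_id, Category.comp_id]
  have h1 : kernel.ι q₁ ≫ q₂ = 0 := by
    refine eq_zero_of_restrict_eq_zero ht₂ U hU _ ?_
    rw [Functor.map_comp, ← hφ, ← Category.assoc, ← Functor.map_comp, kernel.condition,
      Functor.map_zero, zero_comp]
  have h2 : kernel.ι q₂ ≫ q₁ = 0 := by
    refine eq_zero_of_restrict_eq_zero ht₁ U hU _ ?_
    rw [Functor.map_comp, ← hφ', ← Category.assoc, ← Functor.map_comp, kernel.condition,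
      Functor.map_zero, zero_comp]
  have hc1 := Abelian.epiIsCokernelOfKernel _ (kernelIsKernel q₁)
  have hc2 := Abelian.epiIsCokernelOfKernel _ (kernelIsKernel q₂)
  let eh : F₁ ⟶ F₂ := hc1.desc (CokernelCofork.ofπ q₂ h1)
  let ei : F₂ ⟶ F₁ := hc2.desc (CokernelCofork.ofπ q₁ h2)
  have heh : q₁ ≫ eh = q₂ := hc1.fac (CokernelCofork.ofπ q₂ h1) WalkingParallelPair.one
  have hei : q₂ ≫ ei = q₁ := hc2.fac (CokernelCofork.ofπ q₁ h2) WalkingParallelPair.one
  refine ⟨⟨eh, ei, ?_, ?_⟩, heh, ?_⟩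
  · rw [← cancel_epi q₁, ← Category.assoc, heh, hei, Category.comp_id]
  · rw [← cancel_epi q₂, ← Category.assoc, hei, heh, Category.comp_id]
  · haveI : Epi ((Scheme.Modules.restrictFunctor U.ι).map q₁) := inferInstance
    rw [← cancel_epi ((Scheme.Modules.restrictFunctor U.ι).map q₁), hφ, ← Functor.map_comp]
    show (Scheme.Modules.restrictFunctor U.ι).map (q₁ ≫ eh) = _
    rw [heh]

end QuotIsoH8
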