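import Mathlib

open AlgebraicGeometry CategoryTheory Limits TopologicalSpace Opposite

namespace Groth.Agent.Lib.QuotMor

universe u

theorem presheaf_map_thin {X : Scheme.{u}} {A B : (Opens X)ᵒᵖ} (i j : A ⟶ B) :
    X.presheaf.map i = X.presheaf.map j :=
  congrArg _ (Quiver.Hom.unop_inj (Subsingleton.elim _ _))

theorem isLocalHom_eqToHom {R S : CommRingCat.{u}} (p : R = S) : IsLocalHom (eqToHom p).hom := by
  subst p
  exact ⟨fun a ha => ha⟩

theorem uniq {U V W : Scheme.{u}} (h : U ⟶ V) [Surjective h] [IsIso h.c] (v₁ v₂ : V ⟶ W)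
    (e : h ≫ v₁ = h ≫ v₂) : v₁ = v₂ := by
  haveI : Epi h.base := (TopCat.epi_iff_surjective _).mpr h.surjective
  have hbase : v₁.base = v₂.base := by
    have := congrArg (fun f => f.base) e
    exact (cancel_epi h.base).mp this
  haveI : ∀ Q : V.Opens, IsIso (h.app Q) := fun Q => inferInstanceAs (IsIso (h.c.app (op Q)))
  refine Scheme.Hom.ext hbase fun O => ?_
  have hQ : v₁ ⁻¹ᵁ O = v₂ ⁻¹ᵁ O := congr((Opens.map $hbase).obj O)
  have hQ' : h ⁻¹ᵁ (v₁ ⁻¹ᵁ O) = h ⁻¹ᵁ (v₂ ⁻¹ᵁ O) := by rw [hQ]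
  have e1 : v₁.app O ≫ h.app (v₁ ⁻¹ᵁ O) =
      (v₂.app O ≫ h.app (v₂ ⁻¹ᵁ O)) ≫ U.presheaf.map (eqToHom hQ').op :=
    Scheme.Hom.congr_app e O
  show v₁.app O ≫ V.presheaf.map (eqToHom hQ.symm).op = v₂.app O
  rw [← cancel_mono (h.app (v₂ ⁻¹ᵁ O))]
  calc (v₁.app O ≫ V.presheaf.map (eqToHom hQ.symm).op) ≫ h.app (v₂ ⁻¹ᵁ O)
      = v₁.app O ≫ (V.presheaf.map (eqToHom hQ.symm).op ≫ h.app (v₂ ⁻¹ᵁ O)) :=
        Category.assoc _ _ _
    _ = v₁.app O ≫ (h.app (v₁ ⁻¹ᵁ O) ≫
          U.presheaf.map ((Opens.map h.base).map (eqToHom hQ.symm).op.unop).op) := by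
        rw [h.naturality (eqToHom hQ.symm).op]
    _ = (v₁.app O ≫ h.app (v₁ ⁻¹ᵁ O)) ≫
          U.presheaf.map ((Opens.map h.base).map (eqToHom hQ.symm).op.unop).op :=
        (Category.assoc _ _ _).symm
    _ = ((v₂.app O ≫ h.app (v₂ ⁻¹ᵁ O)) ≫ U.presheaf.map (eqToHom hQ').op) ≫
          U.presheaf.map ((Opens.map h.base).map (eqToHom hQ.symm).op.unop).op := by rw [e1]
    _ = (v₂.app O ≫ h.app (v₂ ⁻¹ᵁ O)) ≫ (U.presheaf.map (eqToHom hQ').op ≫
          U.presheaf.map ((Opens.map h.base).map (eqToHom hQ.symm).op.unop).op) :=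
        Category.assoc _ _ _
    _ = (v₂.app O ≫ h.app (v₂ ⁻¹ᵁ O)) ≫ 𝟙 _ := by
        rw [← Functor.map_comp, presheaf_map_thin _ (𝟙 _), U.presheaf.map_id]
    _ = v₂.app O ≫ h.app (v₂ ⁻¹ᵁ O) := Category.comp_id _

section exist

variable {U V W : Scheme.{u}} (h : U ⟶ V) [IsIso h.c] (u : U ⟶ W) (b : V.carrier ⟶ W.carrier)
  (hb : h.base ≫ b = u.base)

include hb

theorem preimage_eq (O : W.Opens) : h ⁻¹ᵁ ((Opens.map b).obj O) = u ⁻¹ᵁ O :=
  congr((Opens.map $hb).obj O)

noncomputable def cMap : W.presheaf ⟶ (TopCat.Presheaf.pushforward _ b).obj V.presheaf where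
  app O := u.c.app O ≫ U.presheaf.map (eqToHom (preimage_eq h u b hb O.unop)).op ≫
    inv (h.c.app (op ((Opens.map b).obj O.unop)))
  naturality O O' i := by
    have N1 : W.presheaf.map i ≫ u.c.app O' =
        u.c.app O ≫ U.presheaf.map ((Opens.map u.base).op.map i) := u.c.naturality i
    have N2 : inv (h.c.app (op ((Opens.map b).obj O.unop))) ≫
        V.presheaf.map ((Opens.map b).op.map i) =
        U.presheaf.map ((Opens.map h.base).op.map ((Opens.map b).op.map i)) ≫
          inv (h.c.app (op ((Opens.map b).obj O'.unop))) := by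
      rw [IsIso.inv_comp_eq, ← Category.assoc, IsIso.eq_comp_inv]
      exact h.c.naturality ((Opens.map b).op.map i)
    have T : U.presheaf.map ((Opens.map u.base).op.map i) ≫
        U.presheaf.map (eqToHom (preimage_eq h u b hb O'.unop)).op =
        U.presheaf.map (eqToHom (preimage_eq h u b hb O.unop)).op ≫
          U.presheaf.map ((Opens.map h.base).op.map ((Opens.map b).op.map i)) := by
      rw [← Functor.map_comp, ← Functor.map_comp]
      exact presheaf_map_thin _ _
    calc W.presheaf.map i ≫ u.c.app O' ≫ U.presheaf.map (eqToHom (preimage_eq h u b hb O'.unop)).op ≫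
          inv (h.c.app (op ((Opens.map b).obj O'.unop)))
        = (W.presheaf.map i ≫ u.c.app O') ≫
            U.presheaf.map (eqToHom (preimage_eq h u b hb O'.unop)).op ≫
          inv (h.c.app (op ((Opens.map b).obj O'.unop))) := by simp only [Category.assoc]
      _ = (u.c.app O ≫ U.presheaf.map ((Opens.map u.base).op.map i)) ≫
            U.presheaf.map (eqToHom (preimage_eq h u b hb O'.unop)).op ≫
          inv (h.c.app (op ((Opens.map b).obj O'.unop))) := by rw [N1]
      _ = u.c.app O ≫ (U.presheaf.map ((Opens.map u.base).op.map i) ≫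
            U.presheaf.map (eqToHom (preimage_eq h u b hb O'.unop)).op) ≫
          inv (h.c.app (op ((Opens.map b).obj O'.unop))) := by simp only [Category.assoc]
      _ = u.c.app O ≫ (U.presheaf.map (eqToHom (preimage_eq h u b hb O.unop)).op ≫
          U.presheaf.map ((Opens.map h.base).op.map ((Opens.map b).op.map i))) ≫
          inv (h.c.app (op ((Opens.map b).obj O'.unop))) := by rw [T]
      _ = u.c.app O ≫ U.presheaf.map (eqToHom (preimage_eq h u b hb O.unop)).op ≫
          (U.presheaf.map ((Opens.map h.base).op.map ((Opens.map b).op.map i)) ≫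
          inv (h.c.app (op ((Opens.map b).obj O'.unop)))) := by simp only [Category.assoc]
      _ = u.c.app O ≫ U.presheaf.map (eqToHom (preimage_eq h u b hb O.unop)).op ≫
          (inv (h.c.app (op ((Opens.map b).obj O.unop))) ≫
            V.presheaf.map ((Opens.map b).op.map i)) := by rw [N2]
      _ = (u.c.app O ≫ U.presheaf.map (eqToHom (preimage_eq h u b hb O.unop)).op ≫
          inv (h.c.app (op ((Opens.map b).obj O.unop)))) ≫
            V.presheaf.map ((Opens.map b).op.map i) := by simp only [Category.assoc]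

noncomputable def vP : V.toPresheafedSpace ⟶ W.toPresheafedSpace := ⟨b, cMap h u b hb⟩

theorem comp_vP : h.toPshHom ≫ vP h u b hb = u.toPshHom := by
  refine PresheafedSpace.ext _ _ hb ?_
  refine NatTrans.ext (funext fun O => ?_)
  show ((u.c.app O ≫ U.presheaf.map (eqToHom (preimage_eq h u b hb O.unop)).op ≫
      inv (h.c.app (op ((Opens.map b).obj O.unop)))) ≫ h.c.app (op ((Opens.map b).obj O.unop))) ≫
      U.presheaf.map _ = u.c.app O
  simp only [Category.assoc]
  rw [IsIso.inv_hom_id_assoc, ← Functor.map_comp, presheaf_map_thin _ (𝟙 _), U.presheaf.map_id]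
  exact Category.comp_id _

theorem exists_hom (hsurj : Function.Surjective h.base) : ∃ v : V ⟶ W, h ≫ v = u := by
  have E := comp_vP h u b hb
  have hloc : ∀ y : V, IsLocalHom ((vP h u b hb).stalkMap y).hom := by
    intro y
    obtain ⟨x, rfl⟩ := hsurj y
    have h1 := PresheafedSpace.stalkMap.congr_hom _ _ E x
    rw [PresheafedSpace.stalkMap.comp] at h1
    haveI : IsLocalHom (u.toPshHom.stalkMap x).hom := u.prop x
    haveI h2 : IsLocalHom ((vP h u b hb).stalkMap (h.base x) ≫ h.toPshHom.stalkMap x).hom := by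
      rw [h1]
      exact @CommRingCat.isLocalHom_comp _ _ _ _ _ this (isLocalHom_eqToHom _)
    exact @isLocalHom_of_comp _ _ _ _ _ _ ((vP h u b hb).stalkMap (h.base x)).hom
      (h.toPshHom.stalkMap x).hom h2
  refine ⟨⟨⟨vP h u b hb, hloc⟩⟩, ?_⟩
  apply Scheme.Hom.ext'
  apply LocallyRingedSpace.Hom.ext'
  exact E

end exist

theorem main {U V : Scheme.{u}} (h : U ⟶ V) [Surjective h]
    [IsIso h.c] (hq : Topology.IsQuotientMap h.base) (W : Scheme.{u}) :
    (∀ v₁ v₂ : V ⟶ W, h ≫ v₁ = h ≫ v₂ → v₁ = v₂) ∧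
      ∀ u : U ⟶ W, (∀ x y : U, h.base x = h.base y → u.base x = u.base y) →
        ∃ v : V ⟶ W, h ≫ v = u := by
  refine ⟨fun v₁ v₂ e => uniq h v₁ v₂ e, fun u hu => ?_⟩
  have hq' : Topology.IsQuotientMap (h.base.hom : C(U, V)) := hq
  have hb' : (hq'.lift u.base.hom (fun x y hxy => hu x y hxy)).comp h.base.hom = u.base.hom :=
    hq'.lift_comp _ _
  refine exists_hom h u (TopCat.ofHom (hq'.lift u.base.hom (fun x y hxy => hu x y hxy))) ?_
    h.surjective
  ext x
  exact congrFun (congrArg DFunLike.coe hb') x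

end Groth.Agent.Lib.QuotMor
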