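import Mathlib
import Groth.Agent.Lib.NilpTor_helper2

/-!
# Tor amplitude along two quotients `A/I`, `A/J` with `I * J = 0` (helper6)

Dévissage: a middle-exact additive functor on `A`-modules which kills the modules annihilated by
`I` and the modules annihilated by `J`, where `I * J = 0`, kills every module (`I M` is annihilated by
`J` and `M / I M` by `I`).  Applied to `M ↦ H^i(M ⊗ P^•)` this gives: the tor amplitude of
`K' ∈ D(A)` can be read off from `K' ⊗^L A/I` and `K' ⊗^L A/J`.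
-/

set_option autoImplicit false
set_option linter.style.haveILetI false
set_option linter.unusedSectionVars false
set_option linter.unusedVariables false
universe u
open CategoryTheory Limits MonoidalCategory

namespace Groth.Agent.Lib.QuotMulH6

open Groth.Agent.Lib.KFlatMod Groth.Agent.Lib.KFlatGen Groth.Agent.Lib.ExtKFlat
  Groth.Agent.Lib.DRingLT Groth.Agent.Lib.BifSingleL Groth.Agent.Lib.DMod_helper6
  Groth.Agent.Lib.NilpTor

attribute [local instance] HasDerivedCategory.standard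

section Gen

variable {A : Type u} [CommRing A] {𝒟 : Type*} [Category 𝒟] [Abelian 𝒟]

/-- dévissage along two ideals with zero product -/
theorem devissage2_gen (Tf : ModuleCat.{u} A ⥤ 𝒟) [Tf.Additive]
    (hex : ∀ S : ShortComplex (ModuleCat.{u} A), S.ShortExact → (S.map Tf).Exact)
    (I J : Ideal A) (hIJ : I * J = ⊥)
    (hI : ∀ Q : ModuleCat.{u} A, (∀ a ∈ I, ∀ q : Q, a • q = 0) → IsZero (Tf.obj Q))
    (hJ : ∀ Q : ModuleCat.{u} A, (∀ a ∈ J, ∀ q : Q, a • q = 0) → IsZero (Tf.obj Q))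
    (M : ModuleCat.{u} A) : IsZero (Tf.obj M) := by
  let M' : Submodule A M := I • ⊤
  let S : ShortComplex (ModuleCat.{u} A) :=
    ShortComplex.mk (ModuleCat.ofHom M'.subtype) (ModuleCat.ofHom M'.mkQ) (by
      refine ModuleCat.hom_ext (LinearMap.ext fun x => ?_)
      exact (Submodule.Quotient.mk_eq_zero M').2 x.2)
  have hS : S.ShortExact :=
    ModuleCat.shortComplex_shortExact S (LinearMap.exact_subtype_mkQ M')
      M'.injective_subtype M'.mkQ_surjective
  have h1 : IsZero (Tf.obj S.X₁) := by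
    refine hJ (ModuleCat.of A M') (fun a ha m' => ?_)
    apply Subtype.ext
    show a • (m' : M) = 0
    have hm : (m' : M) ∈ I • (⊤ : Submodule A M) := m'.2
    refine Submodule.smul_induction_on hm (fun r hr n _ => ?_) (fun x y hx hy => ?_)
    · rw [smul_smul]
      have h0 : a * r = 0 := by
        have : r * a ∈ I * J := Ideal.mul_mem_mul hr ha
        rw [hIJ, Ideal.mem_bot] at this
        rw [mul_comm]
        exact this
      rw [h0, zero_smul]
    · rw [smul_add, hx, hy, add_zero]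
  have h3 : IsZero (Tf.obj S.X₃) := by
    refine hI (ModuleCat.of A (M ⧸ M')) (fun a ha q => ?_)
    obtain ⟨m, rfl⟩ := M'.mkQ_surjective q
    rw [← map_smul]
    exact (Submodule.Quotient.mk_eq_zero M').2 (Submodule.smul_mem_smul ha Submodule.mem_top)
  exact (hex S hS).isZero_of_both_isZero h1 h3

end Gen

variable {A : Type u} [CommRing A]

lemma surjective_algebraMap_quot (I : Ideal A) :
    Function.Surjective (algebraMap A (A ⧸ I)) := Ideal.Quotient.mk_surjective

lemma ker_algebraMap_quot (I : Ideal A) : RingHom.ker (algebraMap A (A ⧸ I)) = I :=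
  Ideal.mk_ker

/-- dévissage for the functors `M ↦ H^i(M ⊗ P^•)` -/
theorem devissage2 (I J : Ideal A) (hIJ : I * J = ⊥)
    (P : DRing.Cx A) (hfl : ∀ q, Module.Flat A (P.X q)) (i : ℤ)
    (hI : ∀ N : ModuleCat.{u} (A ⧸ I), IsZero ((TorFun.T (T A) P i).obj ((res A (A ⧸ I)).obj N)))
    (hJ : ∀ N : ModuleCat.{u} (A ⧸ J), IsZero ((TorFun.T (T A) P i).obj ((res A (A ⧸ J)).obj N)))
    (M : ModuleCat.{u} A) : IsZero ((TorFun.T (T A) P i).obj M) := by
  have hPfl : ∀ q, PreservesFiniteLimits ((T A).flip.obj (P.X q)) :=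
    fun q => (flat_iff_preservesFiniteLimits A _).1 (hfl q)
  refine devissage2_gen (TorFun.T (T A) P i)
    (fun S hS => TorFun.exact_map_T (T A) P hPfl S hS i) I J hIJ (fun Q hQ => ?_)
    (fun Q hQ => ?_) M
  · obtain ⟨N, ⟨e⟩⟩ := exists_res_iso (B := A ⧸ I) (surjective_algebraMap_quot I) Q
      (fun a ha q => hQ a (by rwa [ker_algebraMap_quot] at ha) q)
    exact (hI N).of_iso ((TorFun.T (T A) P i).mapIso e.symm)
  · obtain ⟨N, ⟨e⟩⟩ := exists_res_iso (B := A ⧸ J) (surjective_algebraMap_quot J) Q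
      (fun a ha q => hQ a (by rwa [ker_algebraMap_quot] at ha) q)
    exact (hJ N).of_iso ((TorFun.T (T A) P i).mapIso e.symm)

/-- if `K' ⊗^L B` is represented by a K-flat complex `E` with `E^i = 0`, then
`H^i(N|_A ⊗ P^•) = 0` for every `B`-module `N` and every K-projective, K-flat representative `P`
of `K'` -/
theorem isZero_T_res_of_lBaseChange {B : Type u} [CommRing B] [Algebra A B]
    [DRing.HasLBaseChange (algebraMap A B)]
    (K' : Dual.D A) (P : DRing.Cx A) [P.IsKProjective] (hPkf : KF A P)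
    (eP : DRing.toD P ≅ K')
    (E : DRing.Cx B) (hE : KF B E)
    (eE : DRing.toD E ≅ (DRing.LBaseChange (algebraMap A B)).obj K') (i : ℤ)
    (hEi : IsZero (E.X i)) (N : ModuleCat.{u} B) :
    IsZero ((TorFun.T (T A) P i).obj ((res A B).obj N)) := by
  obtain ⟨eL⟩ := nonempty_lBaseChange_iso_of_isKProjective (algebraMap A B) P
  refine isZero_T_res N P i ?_
  exact isZero_T_of_iso hE (kf_ext (R := A) (R' := B) P hPkf)
    (eE ≪≫ (DRing.LBaseChange (algebraMap A B)).mapIso eP.symm ≪≫ eL) N i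
    (isZero_T_of_isZero_X E N i hEi)

/-- **tor amplitude descends along the pair of quotients `A/I`, `A/J` when `I * J = 0`** -/
theorem hasTorAmplitudeIn_of_quot2 (I J : Ideal A) (hIJ : I * J = ⊥)
    [DRing.HasLBaseChange (algebraMap A (A ⧸ I))] [DRing.HasLBaseChange (algebraMap A (A ⧸ J))]
    (K' : Dual.D A) (a b : ℤ)
    (hTI : DRing.HasTorAmplitudeIn (A ⧸ I) a b
      ((DRing.LBaseChange (algebraMap A (A ⧸ I))).obj K'))
    (hTJ : DRing.HasTorAmplitudeIn (A ⧸ J) a b
      ((DRing.LBaseChange (algebraMap A (A ⧸ J))).obj K')) :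
    DRing.HasTorAmplitudeIn A a b K' := by
  obtain ⟨E₁, hE₁v, hE₁fl, ⟨eE₁⟩⟩ := hTI
  obtain ⟨E₂, hE₂v, hE₂fl, ⟨eE₂⟩⟩ := hTJ
  have hE₁ : KF (A ⧸ I) E₁ := kf_of_vanishesAbove E₁ b (fun i hi => hE₁v i (Or.inr hi)) hE₁fl
  have hE₂ : KF (A ⧸ J) E₂ := kf_of_vanishesAbove E₂ b (fun i hi => hE₂v i (Or.inr hi)) hE₂fl
  obtain ⟨P, π, hπ, hPkp, hPkf, hPfl⟩ :=
    Groth.Agent.Lib.KProjRes.exists_kproj_resolution (DerivedCategory.Q.objPreimage K')
  haveI := hπ
  haveI := hPkp
  haveI : IsIso (DerivedCategory.Q.map π) :=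
    (DerivedCategory.isIso_Q_map_iff_quasiIso _ _).2 inferInstance
  let eP : DRing.toD P ≅ K' :=
    asIso (DerivedCategory.Q.map π) ≪≫ DerivedCategory.Q.objObjPreimageIso K'
  have hvan : ∀ (i : ℤ), (i < a ∨ b < i) → ∀ M : ModuleCat.{u} A,
      IsZero ((TorFun.T (T A) P i).obj M) := fun i hi M =>
    devissage2 I J hIJ P hPfl i
      (fun N => isZero_T_res_of_lBaseChange K' P hPkf eP E₁ hE₁ eE₁ i (hE₁v i hi) N)
      (fun N => isZero_T_res_of_lBaseChange K' P hPkf eP E₂ hE₂ eE₂ i (hE₂v i hi) N) M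
  haveI : DerivedCategory.IsLE K' b := isLE_of_subsingleton_HD K' b (fun i hi =>
    (exactAt_iff_subsingleton_HD eP i).1
      (exactAt_of_isZero_T_unit P i (hvan i (Or.inr hi) _)))
  obtain ⟨P₂, hP₂free, hP₂b, ⟨e₂⟩⟩ := exists_free_resolution K' b
  have hP₂fl : DRing.TermwiseFlat P₂ := fun j => by
    haveI := hP₂free j
    exact Module.Flat.of_free
  have hP₂kf : KF A P₂ := kf_of_vanishesAbove P₂ b hP₂b hP₂fl
  have hvan₂ : ∀ (i : ℤ), (i < a ∨ b < i) → ∀ M : ModuleCat.{u} A,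
      IsZero ((TorFun.T (T A) P₂ i).obj M) := fun i hi M =>
    isZero_T_of_iso hPkf hP₂kf (eP ≪≫ e₂.symm) M i (hvan i hi M)
  exact hasTorAmplitudeIn_of_iso e₂ a b
    (hasTorAmplitudeIn_of_TN_exact' P₂ a b hP₂b hP₂fl
      (fun i hi => exactAt_of_isZero_T_unit P₂ i (hvan₂ i (Or.inl hi) _))
      (fun N => exactAt_TN_of_isZero_T P₂ N (a - 1) (hvan₂ (a - 1) (Or.inl (by omega)) N)))

end Groth.Agent.Lib.QuotMulH6
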