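import Mathlib
import Groth.Agent.Lib.QuotMul1_helper6
import Groth.Agent.Lib.DMod59_helper6

/-!
# Pseudo-coherence along a family of (non-flat) ring maps along which finiteness descends (helper6)

* `finite_of_tensor_quot2`: `M/IM`, `M/JM` finite and `I * J = 0` imply `M` finite;
* `nonempty_homologyTopESIso`: top cohomology commutes with extension of scalars;
* `isPseudoCoherent_lDescent`: for `C ∈ D^{≤ b}(A)`, `m`-pseudo-coherence of all `C ⊗^L B_j` implies
  `m`-pseudo-coherence of `C` when finiteness of modules descends along the family.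
-/

set_option autoImplicit false
set_option linter.style.haveILetI false
set_option linter.unusedSectionVars false
set_option linter.unusedVariables false
universe u
open CategoryTheory CategoryTheory.Limits Pretriangulated DerivedCategory ZeroObject
open scoped TensorProduct
attribute [local instance] HasDerivedCategory.standard

namespace Groth.Agent.Lib.QuotMulH6

open DRing CochainComplex Groth.Agent.Lib.DMod_helper6

section Finite

variable {A : Type u} [CommRing A]

lemma pc_iff_of_iso {K L : Dual.D A} (e : K ≅ L) (m : ℤ) :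
    IsPseudoCoherent A m K ↔ IsPseudoCoherent A m L := by
  rw [isPseudoCoherent_iff_pcmP, isPseudoCoherent_iff_pcmP]
  exact ⟨fun h => (pcmP A m).prop_of_iso e h, fun h => (pcmP A m).prop_of_iso e.symm h⟩

lemma exists_fg_sup_smul_eq_top (I : Ideal A) (M : Type u) [AddCommGroup M] [Module A M]
    (h : Module.Finite (A ⧸ I) ((A ⧸ I) ⊗[A] M)) :
    ∃ N : Submodule A M, N.FG ∧ N ⊔ I • (⊤ : Submodule A M) = ⊤ := by
  classical
  haveI := h
  haveI : Module.Finite A ((A ⧸ I) ⊗[A] M) := Module.Finite.trans (A ⧸ I) _
  have hq : Module.Finite A (M ⧸ (I • ⊤ : Submodule A M)) :=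
    Module.Finite.equiv (TensorProduct.quotTensorEquivQuotSMul M I)
  obtain ⟨s, hs⟩ := hq.fg_top
  have hp : Function.Surjective (I • ⊤ : Submodule A M).mkQ := Submodule.mkQ_surjective _
  let t : Finset M := s.image (Function.surjInv hp)
  refine ⟨Submodule.span A t, Submodule.fg_span (Finset.finite_toSet t), ?_⟩
  rw [sup_comm, ← Submodule.map_mkQ_eq_top, Submodule.map_span]
  have : ((I • ⊤ : Submodule A M).mkQ '' (t : Set M)) = (s : Set (M ⧸ (I • ⊤ : Submodule A M))) := by
    show ((I • ⊤ : Submodule A M).mkQ '' ((s.image (Function.surjInv hp) : Finset M) : Set M)) = _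
    rw [Finset.coe_image, Set.image_image]
    simp only [Function.surjInv_eq hp, Set.image_id']
  rw [this, hs]

/-- if `I * J = 0` and `M/IM`, `M/JM` are finite then `M` is finite -/
theorem finite_of_tensor_quot2 (I J : Ideal A) (hIJ : I * J = ⊥) (M : Type u) [AddCommGroup M]
    [Module A M] (hI : Module.Finite (A ⧸ I) ((A ⧸ I) ⊗[A] M))
    (hJ : Module.Finite (A ⧸ J) ((A ⧸ J) ⊗[A] M)) : Module.Finite A M := by
  obtain ⟨N₁, hN₁, h₁⟩ := exists_fg_sup_smul_eq_top I M hI
  obtain ⟨N₂, hN₂, h₂⟩ := exists_fg_sup_smul_eq_top J M hJ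
  let N := N₁ ⊔ N₂
  have hN : N.FG := hN₁.sup hN₂
  have h₁' : N ⊔ I • (⊤ : Submodule A M) = ⊤ := by
    have : N₁ ⊔ I • (⊤ : Submodule A M) ≤ N ⊔ I • (⊤ : Submodule A M) :=
      sup_le_sup_right le_sup_left _
    rw [h₁] at this
    exact top_le_iff.1 this
  have h₂' : N ⊔ J • (⊤ : Submodule A M) = ⊤ := by
    have : N₂ ⊔ J • (⊤ : Submodule A M) ≤ N ⊔ J • (⊤ : Submodule A M) :=
      sup_le_sup_right le_sup_right _
    rw [h₂] at this
    exact top_le_iff.1 this
  have h3 : I • (J • (⊤ : Submodule A M)) = ⊥ := by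
    rw [← Submodule.mul_smul, hIJ, Submodule.bot_smul]
  have h4 : I • (⊤ : Submodule A M) = I • N := by
    conv_lhs => rw [← h₂', Submodule.smul_sup, h3, sup_bot_eq]
  have h5 : N = ⊤ := by
    rw [← h₁', h4]
    exact (sup_eq_left.2 Submodule.smul_le_right).symm
  rw [Module.finite_def, ← h5]
  exact hN

end Finite

section Top

variable {A B : Type u} [CommRing A] [CommRing B] [Algebra A B]

/-- top cohomology commutes with extension of scalars -/
theorem nonempty_homologyTopESIso (F : Cx A) (b : ℤ) (hF : IsZero (F.X (b + 1))) :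
    Nonempty ((((ES A B).mapHomologicalComplex (ComplexShape.up ℤ)).obj F).homology b ≅
      (ES A B).obj (F.homology b)) := by
  let X := ((ES A B).mapHomologicalComplex (ComplexShape.up ℤ)).obj F
  have hd : F.d b (b + 1) = 0 := hF.eq_of_tgt _ _
  have hd' : X.d b (b + 1) = 0 := by
    show (ES A B).map (F.d b (b + 1)) = 0
    rw [hd, Functor.map_zero]
  let e1 : X.homology b ≅ X.opcycles b := X.isoHomologyι b (b + 1) (by simp) hd'
  let e3 : F.homology b ≅ F.opcycles b := F.isoHomologyι b (b + 1) (by simp) hd
  let c := CokernelCofork.ofπ (F.pOpcycles b) (F.d_pOpcycles (b - 1) b)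
  have hc : IsColimit c := F.opcyclesIsCokernel (b - 1) b (by simp)
  have hc' : IsColimit (c.map (ES A B)) := CokernelCofork.mapIsColimit c hc (ES A B)
  have hX : IsColimit (CokernelCofork.ofπ (X.pOpcycles b) (X.d_pOpcycles (b - 1) b)) :=
    X.opcyclesIsCokernel (b - 1) b (by simp)
  let e2 : X.opcycles b ≅ (ES A B).obj (F.opcycles b) :=
    IsColimit.coconePointUniqueUpToIso hX hc'
  exact ⟨e1 ≪≫ e2 ≪≫ (ES A B).mapIso e3.symm⟩

end Top

section Descent

variable {A : Type u} [CommRing A] {ι : Type*} (B : ι → Type u) [∀ j, CommRing (B j)]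
  [∀ j, Algebra A (B j)] [∀ j, HasLBaseChange (algebraMap A (B j))]

lemma vanishesAbove_cone_single {F : Cx A} {X : ModuleCat.{u} A} (b : ℤ) (hFb : VanishesAbove F b)
    (ψ : (HomologicalComplex.single (ModuleCat.{u} A) (ComplexShape.up ℤ) b).obj X ⟶ F) :
    VanishesAbove (mappingCone ψ) b := fun i hi =>
  (isZero_biprod (HomologicalComplex.isZero_single_obj_X _ b _ (i + 1) (by omega))
    (hFb i hi)).of_iso (coneXIso ψ i)

lemma termwiseFlat_cone_single {F : Cx A} {X : ModuleCat.{u} A} (b : ℤ) (hX : Module.Flat A X)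
    (hFf : TermwiseFlat F)
    (ψ : (HomologicalComplex.single (ModuleCat.{u} A) (ComplexShape.up ℤ) b).obj X ⟶ F) :
    TermwiseFlat (mappingCone ψ) := fun i => by
  refine flat_of_iso (coneXIso ψ i).symm (flat_biprod ?_ (hFf i))
  by_cases h : i + 1 = b
  · subst h
    exact flat_of_iso (HomologicalComplex.singleObjXSelf _ (i + 1) X).symm hX
  · exact flat_of_isZero _ (HomologicalComplex.isZero_single_obj_X _ b _ (i + 1) h)

variable {B}

theorem isPseudoCoherent_lDescent_aux (D2 : DescendsFinite A B) (m : ℤ) (n : ℕ) :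
    ∀ (C : Dual.D A) (b : ℤ), b + 1 ≤ m + n → DerivedCategory.IsLE C b →
      (∀ j, IsPseudoCoherent (B j) m ((LBaseChange (algebraMap A (B j))).obj C)) →
      IsPseudoCoherent A m C := by
  induction n with
  | zero =>
    intro C b hb hle _
    rw [isPseudoCoherent_iff_pcmP]
    refine leP_le_pcmP m _ ?_
    show DerivedCategory.IsLE C (m - 1)
    haveI := hle
    exact TStructure.t.isLE_of_le C b (m - 1) (by push_cast at hb; omega)
  | succ n ih =>
    intro C b hb hle hC
    by_cases hb' : b + 1 ≤ m + n
    · exact ih C b hb' hle hC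
    · have hbm : b = m + n := by push_cast at hb; omega
      haveI := hle
      obtain ⟨F, hFfree, hFb, ⟨eF⟩⟩ := exists_free_resolution C b
      have hFfl : TermwiseFlat F := fun i => by
        haveI := hFfree i
        exact Module.Flat.of_free
      have hFj : ∀ j, IsPseudoCoherent (B j) m
          (toD (((ES A (B j)).mapHomologicalComplex (ComplexShape.up ℤ)).obj F)) := by
        intro j
        obtain ⟨eL⟩ := nonempty_lBaseChange_iso_of_flat (algebraMap A (B j)) F b hFb hFfl
        exact (pc_iff_of_iso
          (eL.symm ≪≫ (LBaseChange (algebraMap A (B j))).mapIso eF) m).2 (hC j)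
      have hfin : Module.Finite A (F.homology b) := by
        apply D2
        intro j
        have hexj : ∀ i, b < i →
            (((ES A (B j)).mapHomologicalComplex (ComplexShape.up ℤ)).obj F).ExactAt i :=
          fun i hi => exactAt_of_isZero_X _ i ((ES A (B j)).map_isZero (hFb i hi))
        have h1 := finite_homology_top_of_isPseudoCoherent _ m b (by omega) hexj (hFj j)
        obtain ⟨e⟩ := nonempty_homologyTopESIso (B := B j) F b (hFb (b + 1) (by omega))
        exact finite_of_iso e h1
      obtain ⟨r, ψ, hψ⟩ := exists_single_hom_epi F b hfin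
      have hX1 : Module.Finite A (ModuleCat.of A (Fin r → A)) :=
        inferInstanceAs (Module.Finite A (Fin r → A))
      have hX2 : Module.Free A (ModuleCat.of A (Fin r → A)) :=
        inferInstanceAs (Module.Free A (Fin r → A))
      have hX3 : Module.Flat A (ModuleCat.of A (Fin r → A)) :=
        inferInstanceAs (Module.Flat A (Fin r → A))
      have hT := mappingCone_triangle_distinguished ψ
      haveI : DerivedCategory.IsLE (Q.mapTriangle.obj (mappingCone.triangle ψ)).obj₁ b :=
        leP_single _ b b le_rfl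
      haveI : DerivedCategory.IsLE (Q.mapTriangle.obj (mappingCone.triangle ψ)).obj₂ b := by
        show DerivedCategory.IsLE (toD F) b
        exact TStructure.t.isLE_of_iso eF.symm b
      have hepi : Epi ((DerivedCategory.homologyFunctor (ModuleCat.{u} A) b).map
          (Q.mapTriangle.obj (mappingCone.triangle ψ)).mor₁) :=
        (epi_homology_Q_map_iff ψ b).2 hψ
      have hCle : DerivedCategory.IsLE (toD (mappingCone ψ)) (b - 1) :=
        isLE_cone_of_epi _ hT b hepi
      obtain ⟨a', b'', hSv, hSff⟩ := bfCls_single (ModuleCat.of A (Fin r → A)) hX1 hX2 b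
      have hCv : VanishesAbove (mappingCone ψ) b := vanishesAbove_cone_single b hFb ψ
      have hCf : TermwiseFlat (mappingCone ψ) := termwiseFlat_cone_single b hX3 hFfl ψ
      have hCj : ∀ j, IsPseudoCoherent (B j) m
          ((LBaseChange (algebraMap A (B j))).obj (toD (mappingCone ψ))) := by
        intro j
        obtain ⟨eL⟩ := nonempty_lBaseChange_iso_of_flat (algebraMap A (B j)) (mappingCone ψ) b
          hCv hCf
        have eC : ((ES A (B j)).mapHomologicalComplex (ComplexShape.up ℤ)).obj (mappingCone ψ) ≅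
            mappingCone (((ES A (B j)).mapHomologicalComplex (ComplexShape.up ℤ)).map ψ) :=
          mappingCone.mapHomologicalComplexIso ψ (ES A (B j))
        have hTj := mappingCone_triangle_distinguished
          (((ES A (B j)).mapHomologicalComplex (ComplexShape.up ℤ)).map ψ)
        have hSj : IsPseudoCoherent (B j) (m + 1)
            (toD (((ES A (B j)).mapHomologicalComplex (ComplexShape.up ℤ)).obj
              ((HomologicalComplex.single (ModuleCat.{u} A)
              (ComplexShape.up ℤ) b).obj (ModuleCat.of A (Fin r → A))))) := by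
          rw [isPseudoCoherent_iff_pcmP]
          refine bfProp_le_pcmP (m + 1) _ ⟨_, ⟨a', b'', ?_, ?_⟩, ⟨Iso.refl _⟩⟩
          · intro i hi
            exact (ES A (B j)).map_isZero (hSv i hi)
          · intro i
            exact ⟨finite_ES _ (hSff i).1, free_ES _ (hSff i).2⟩
        have h3 := (isPseudoCoherent_two_of_three _ hTj m).1 hSj (hFj j)
        exact (pc_iff_of_iso (eL ≪≫ Q.mapIso eC) m).2 h3
      have hC' := ih (toD (mappingCone ψ)) (b - 1) (by omega) hCle hCj
      have hS : IsPseudoCoherent A m (toD ((HomologicalComplex.single (ModuleCat.{u} A)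
          (ComplexShape.up ℤ) b).obj (ModuleCat.of A (Fin r → A)))) :=
        (isPseudoCoherent_iff_pcmP _ _).2 (bfProp_le_pcmP m _
          ⟨_, bfCls_single _ hX1 hX2 b, ⟨Iso.refl _⟩⟩)
      have hF' : IsPseudoCoherent A m (toD F) :=
        (isPseudoCoherent_two_of_three _ hT m).2.1 hS hC'
      exact (pc_iff_of_iso eF m).1 hF'

/-- for `C ∈ D^{≤ b}(A)`: `m`-pseudo-coherence descends along a family of ring maps along which
finiteness of modules descends -/
theorem isPseudoCoherent_lDescent (D2 : DescendsFinite A B) (C : Dual.D A) (b : ℤ)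
    (hle : DerivedCategory.IsLE C b) (m : ℤ)
    (hC : ∀ j, IsPseudoCoherent (B j) m ((LBaseChange (algebraMap A (B j))).obj C)) :
    IsPseudoCoherent A m C := by
  obtain ⟨a, hba, hma⟩ : ∃ a : ℤ, b ≤ a ∧ m - 1 ≤ a :=
    ⟨max b (m - 1), le_max_left _ _, le_max_right _ _⟩
  haveI := hle
  exact isPseudoCoherent_lDescent_aux D2 m (a + 1 - m).toNat C a (by omega)
    (TStructure.t.isLE_of_le C b a hba) hC

end Descent

end Groth.Agent.Lib.QuotMulH6
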