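import Mathlib
import Groth.Agent.Lib.QuotMul2_helper6
import Groth.Agent.Lib.GorFib1_helper6

/-!
# `K ⊗^L R/I`, `K ⊗^L R/J` perfect implies `K ⊗^L R/IJ` perfect (helper6)
-/

set_option autoImplicit false
set_option linter.style.haveILetI false
set_option linter.unusedSectionVars false
set_option linter.unusedVariables false
universe u
open CategoryTheory CategoryTheory.Limits Pretriangulated DerivedCategory ZeroObject
open scoped TensorProduct
attribute [local instance] HasDerivedCategory.standard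

namespace Groth.Agent.Lib.QuotMulH6

open DRing CochainComplex Groth.Agent.Lib.DMod_helper6 Groth.Agent.Lib.TrivBCH6
  Groth.Agent.ExtendScalarsLib

variable {A : Type u} [CommRing A]

/-- the family of the two quotients -/
abbrev QFam (I J : Ideal A) : {k : Ideal A // k = I ∨ k = J} → Type u := fun k => A ⧸ k.1

lemma descendsFinite_quot2 (I J : Ideal A) (hIJ : I * J = ⊥) :
    DescendsFinite A (QFam I J) := by
  intro M h
  have h1 := h ⟨I, Or.inl rfl⟩
  have h2 := h ⟨J, Or.inr rfl⟩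
  exact finite_of_tensor_quot2 I J hIJ M
    (Module.Finite.equiv (extendScalarsEquivTensor (S := A ⧸ I) M))
    (Module.Finite.equiv (extendScalarsEquivTensor (S := A ⧸ J) M))

/-- **if `I * J = 0` and `K' ⊗^L A/I`, `K' ⊗^L A/J` are perfect then `K'` is perfect** -/
theorem isPerfect_of_quot2 (I J : Ideal A) (hIJ : I * J = ⊥)
    [hLI : HasLBaseChange (algebraMap A (A ⧸ I))] [hLJ : HasLBaseChange (algebraMap A (A ⧸ J))]
    (K' : Dual.D A)
    (hI : IsPerfect (A ⧸ I) ((LBaseChange (algebraMap A (A ⧸ I))).obj K'))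
    (hJ : IsPerfect (A ⧸ J) ((LBaseChange (algebraMap A (A ⧸ J))).obj K')) :
    IsPerfect A K' := by
  obtain ⟨a₁, b₁, hT₁⟩ := hasTorAmplitudeIn_of_isPerfect _ hI
  obtain ⟨a₂, b₂, hT₂⟩ := hasTorAmplitudeIn_of_isPerfect _ hJ
  have hT : HasTorAmplitudeIn A (min a₁ a₂) (max b₁ b₂) K' :=
    hasTorAmplitudeIn_of_quot2 I J hIJ K' _ _
      (hasTorAmplitudeIn_mono _ a₁ b₁ _ _ (min_le_left _ _) (le_max_left _ _) hT₁)
      (hasTorAmplitudeIn_mono _ a₂ b₂ _ _ (min_le_right _ _) (le_max_right _ _) hT₂)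
  have hle : DerivedCategory.IsLE K' (max b₁ b₂) :=
    isLE_of_subsingleton_HD K' _ (fun i hi =>
      subsingleton_HD_of_hasTorAmplitudeIn K' _ _ hT i (Or.inr hi))
  refine (isPerfect_iff_pc_and_finiteTorDim K').2 ⟨?_, ⟨_, _, hT⟩⟩
  rw [isPseudoCoherent'_iff_forall]
  intro m
  haveI : ∀ k : {k : Ideal A // k = I ∨ k = J},
      HasLBaseChange (algebraMap A (QFam I J k)) := fun k => hasLBaseChange_general _
  refine isPseudoCoherent_lDescent (B := QFam I J) (descendsFinite_quot2 I J hIJ) K' _ hle m ?_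
  rintro ⟨k, hk⟩
  rcases hk with rfl | rfl
  · exact (isPseudoCoherent'_iff_forall _).1 (isPseudoCoherent'_of_isPerfect _ hI) m
  · exact (isPseudoCoherent'_iff_forall _).1 (isPseudoCoherent'_of_isPerfect _ hJ) m

section Main

variable (R : Type u) [CommRing R] (I J : Ideal R)

theorem main6980 [HasLBaseChange (Ideal.Quotient.mk I)] [HasLBaseChange (Ideal.Quotient.mk J)]
    [HasLBaseChange (Ideal.Quotient.mk (I * J))] (K : Dual.D R)
    (hI : IsPerfect (R ⧸ I) ((LBaseChange (Ideal.Quotient.mk I)).obj K))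
    (hJ : IsPerfect (R ⧸ J) ((LBaseChange (Ideal.Quotient.mk J)).obj K)) :
    IsPerfect (R ⧸ (I * J)) ((LBaseChange (Ideal.Quotient.mk (I * J))).obj K) := by
  let q : R →+* R ⧸ (I * J) := Ideal.Quotient.mk (I * J)
  have hmul : I.map q * J.map q = ⊥ := by
    rw [← Ideal.map_mul]
    exact Ideal.map_quotient_self _
  -- the general step
  have key : ∀ (L : Ideal R) [HasLBaseChange (Ideal.Quotient.mk L)],
      IsPerfect (R ⧸ L) ((LBaseChange (Ideal.Quotient.mk L)).obj K) →
      ∀ [HasLBaseChange (algebraMap (R ⧸ (I * J)) ((R ⧸ (I * J)) ⧸ L.map q))],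
      IsPerfect ((R ⧸ (I * J)) ⧸ L.map q)
        ((LBaseChange (algebraMap (R ⧸ (I * J)) ((R ⧸ (I * J)) ⧸ L.map q))).obj
          ((LBaseChange q).obj K)) := by
    intro L _ hL _
    let ψ : R ⧸ L →+* (R ⧸ (I * J)) ⧸ L.map q := Ideal.quotientMap (L.map q) q Ideal.le_comap_map
    let g : R ⧸ (I * J) →+* (R ⧸ (I * J)) ⧸ L.map q :=
      algebraMap (R ⧸ (I * J)) ((R ⧸ (I * J)) ⧸ L.map q)
    haveI : HasLBaseChange ψ := hasLBaseChange_general _
    haveI : HasLBaseChange (g.comp q) := hasLBaseChange_general _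
    haveI : HasLBaseChange g := ‹_›
    obtain ⟨e1⟩ := Groth.Agent.Lib.GorFibH6.nonempty_lBaseChange_comp q g (g.comp q) rfl
    obtain ⟨e2⟩ := Groth.Agent.Lib.GorFibH6.nonempty_lBaseChange_comp (Ideal.Quotient.mk L) ψ
      (g.comp q) (Ideal.quotientMap_comp_mk _)
    exact isPerfect_of_iso ((e2.symm ≪≫ e1).app K)
      (isPerfect_lBaseChange ψ _ hL)
  haveI : HasLBaseChange (algebraMap (R ⧸ (I * J)) ((R ⧸ (I * J)) ⧸ I.map q)) :=
    hasLBaseChange_general _
  haveI : HasLBaseChange (algebraMap (R ⧸ (I * J)) ((R ⧸ (I * J)) ⧸ J.map q)) :=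
    hasLBaseChange_general _
  exact isPerfect_of_quot2 (I.map q) (J.map q) hmul ((LBaseChange q).obj K)
    (key I hI) (key J hJ)

end Main

end Groth.Agent.Lib.QuotMulH6
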