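import Mathlib
import Groth.Agent.Lib.QuotRes3_helper8
import Groth.Agent.Lib.IsQuot3_helper8
import Groth.Agent.S2908

set_option autoImplicit false
universe u
open CategoryTheory AlgebraicGeometry Limits

namespace IsQuotH8

theorem exists_algEquiv_of_normal {k L K : Type*} [Field k] [Field L] [Field K] [Algebra k L]
    [Normal k L] (α β : L →+* K) (h : α.comp (algebraMap k L) = β.comp (algebraMap k L)) :
    ∃ τ : L ≃ₐ[k] L, β = α.comp (τ : L →+* L) := by
  letI : Algebra L K := α.toAlgebra
  letI : Algebra k K := (α.comp (algebraMap k L)).toAlgebra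
  haveI : IsScalarTower k L K := IsScalarTower.of_algebraMap_eq (fun _ => rfl)
  let β' : L →ₐ[k] K := { β with commutes' := fun c => (RingHom.congr_fun h c).symm }
  refine ⟨Normal.algHomEquivAut k K L β', ?_⟩
  have h1 := (Normal.algHomEquivAut k K L).left_inv β'
  ext c
  have h2 := congrArg (fun f : L →ₐ[k] K => f c) h1
  exact h2.symm

theorem exists_eq_comp_same_point {X Y : Scheme.{u}} {G : Type u} [Group G] [Finite G]
    (ρ : G →* Aut X) (p : X ⟶ Y) (hp : SGA1.IsQuot ρ p) (K : Type u) [Field K] (x : X)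
    (α β : X.residueField x ⟶ .of K)
    (hab : (Spec.map α ≫ X.fromSpecResidueField x) ≫ p =
      (Spec.map β ≫ X.fromSpecResidueField x) ≫ p) :
    ∃ g : G, Spec.map β ≫ X.fromSpecResidueField x =
      (Spec.map α ≫ X.fromSpecResidueField x) ≫ (ρ g).hom := by
  have h1 : p.residueFieldMap x ≫ α = p.residueFieldMap x ≫ β := by
    have e1 : ∀ γ : X.residueField x ⟶ .of K, (Spec.map γ ≫ X.fromSpecResidueField x) ≫ p =
        (Y.SpecToEquivOfField K).symm ⟨p.base x, p.residueFieldMap x ≫ γ⟩ := by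
      intro γ
      rw [Scheme.SpecToEquivOfField_symm_apply, Spec.map_comp, Category.assoc, Category.assoc,
        Scheme.Hom.SpecMap_residueFieldMap_fromSpecResidueField]
    rw [e1, e1] at hab
    have := (Y.SpecToEquivOfField K).symm.injective hab
    obtain ⟨e, he⟩ := Scheme.SpecToEquivOfField_eq_iff.mp this
    simpa using he
  obtain ⟨res1, res2⟩ := residue_result ρ p hp x
  letI := (p.residueFieldMap x).hom.toAlgebra
  obtain ⟨τ, hτ⟩ := exists_algEquiv_of_normal (k := Y.residueField (p.base x)) α.hom β.hom (by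
     ext c; exact congrArg (fun f => f.hom c) h1)
  let τ' : X.residueField x ≅ X.residueField x :=
    (τ : X.residueField x ≃+* X.residueField x).toCommRingCatIso
  have hτ' : τ'.hom ≫ α = β := by
    ext c
    exact (RingHom.congr_fun hτ c).symm
  obtain ⟨g, e, hg⟩ := res2 τ' (by
    ext c
    exact τ.commutes c)
  refine ⟨g, ?_⟩
  rw [← hτ', hg, Spec.map_comp, Spec.map_comp, Category.assoc, Category.assoc, Category.assoc]
  congr 1
  rw [← Scheme.Hom.SpecMap_residueFieldMap_fromSpecResidueField]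
  congr 1
  rw [Scheme.residueFieldCongr_inv]
  exact Scheme.residueFieldCongr_fromSpecResidueField e.symm


theorem exists_eq_comp_of_comp_eq {X Y : Scheme.{u}} {G : Type u} [Group G] [Finite G]
    (ρ : G →* Aut X) (p : X ⟶ Y) (hp : SGA1.IsQuot ρ p) (K : Type u) [Field K]
    (a b : Spec (.of K) ⟶ X) (hab : a ≫ p = b ≫ p) : ∃ g : G, b = a ≫ (ρ g).hom := by
  have hX := Groth.Agent.S2908.result ρ p hp
  have hpt : p.base (a.base (IsLocalRing.closedPoint K)) =
      p.base (b.base (IsLocalRing.closedPoint K)) :=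
    congrArg (fun m => m.base (IsLocalRing.closedPoint K)) hab
  obtain ⟨g₀, hg₀⟩ := (hX.2.1 _ _).mp hpt
  have key : ∀ (a' b' : Spec (.of K) ⟶ X), a' ≫ p = b' ≫ p →
      a'.base (IsLocalRing.closedPoint K) = b'.base (IsLocalRing.closedPoint K) →
      ∃ g : G, b' = a' ≫ (ρ g).hom := by
    intro a' b' hab' hpt'
    obtain ⟨⟨x, α⟩, rfl⟩ := (X.SpecToEquivOfField K).symm.surjective a'
    obtain ⟨⟨x', β⟩, rfl⟩ := (X.SpecToEquivOfField K).symm.surjective b'
    have hx : x = x' := by
      simpa [Scheme.SpecToEquivOfField_symm_apply] using hpt'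
    subst hx
    simp only [Scheme.SpecToEquivOfField_symm_apply] at hab' ⊢
    exact exists_eq_comp_same_point ρ p hp K x α β hab'
  obtain ⟨g, hg⟩ := key (a ≫ (ρ g₀).hom) b (by rw [Category.assoc, hp.inv g₀, hab]) hg₀
  refine ⟨g * g₀, ?_⟩
  rw [hg, Category.assoc, hom_mul]

end IsQuotH8
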