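import Mathlib

set_option autoImplicit false
universe u
open CategoryTheory CategoryTheory.Limits
open scoped Pointwise

namespace Groth.Agent.Lib.QuotPullbackH7

variable {R : Type u} [CommRing R]

theorem isPullback_factor {Q : Type u} [AddCommGroup Q] [Module R Q] (N1 N2 N3 N4 : Submodule R Q)
    (h12 : N1 ≤ N2) (h13 : N1 ≤ N3) (h24 : N2 ≤ N4) (h34 : N3 ≤ N4)
    (hinf : N2 ⊓ N3 ≤ N1) (hsup : N4 ≤ N2 ⊔ N3) :
    IsPullback (ModuleCat.ofHom (Submodule.factor h12)) (ModuleCat.ofHom (Submodule.factor h13))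
      (ModuleCat.ofHom (Submodule.factor h24)) (ModuleCat.ofHom (Submodule.factor h34)) := by
  have comm : ModuleCat.ofHom (Submodule.factor h12) ≫ ModuleCat.ofHom (Submodule.factor h24) =
      ModuleCat.ofHom (Submodule.factor h13) ≫ ModuleCat.ofHom (Submodule.factor h34) := by
    apply ModuleCat.hom_ext
    apply LinearMap.ext
    intro p
    obtain ⟨a, rfl⟩ := Submodule.mkQ_surjective _ p
    rfl
  apply IsPullback.of_map (forget (ModuleCat.{u} R)) comm
  rw [Types.isPullback_iff]
  refine ⟨by rw [← Functor.map_comp, ← Functor.map_comp, comm], ?_, ?_⟩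
  · rintro x₁ y₁ ⟨h1, h2⟩
    change Submodule.factor h12 x₁ = Submodule.factor h12 y₁ at h1
    change Submodule.factor h13 x₁ = Submodule.factor h13 y₁ at h2
    obtain ⟨a, rfl⟩ := Submodule.mkQ_surjective _ x₁
    obtain ⟨b, rfl⟩ := Submodule.mkQ_surjective _ y₁
    change (Submodule.Quotient.mk a : Q ⧸ N2) = Submodule.Quotient.mk b at h1
    change (Submodule.Quotient.mk a : Q ⧸ N3) = Submodule.Quotient.mk b at h2
    exact (Submodule.Quotient.eq N1).mpr
      (hinf ⟨(Submodule.Quotient.eq N2).mp h1, (Submodule.Quotient.eq N3).mp h2⟩)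
  · intro x₂ x₃ h
    change Submodule.factor h24 x₂ = Submodule.factor h34 x₃ at h
    obtain ⟨a₂, rfl⟩ := Submodule.mkQ_surjective _ x₂
    obtain ⟨a₃, rfl⟩ := Submodule.mkQ_surjective _ x₃
    change (Submodule.Quotient.mk a₂ : Q ⧸ N4) = Submodule.Quotient.mk a₃ at h
    obtain ⟨n2, hn2, n3, hn3, hsum⟩ := Submodule.mem_sup.mp (hsup ((Submodule.Quotient.eq N4).mp h))
    refine ⟨(Submodule.Quotient.mk (a₂ - n2) : Q ⧸ N1), ?_, ?_⟩
    · change (Submodule.Quotient.mk (a₂ - n2) : Q ⧸ N2) = Submodule.Quotient.mk a₂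
      refine (Submodule.Quotient.eq N2).mpr ?_
      have : a₂ - n2 - a₂ = -n2 := by abel
      rw [this]
      exact N2.neg_mem hn2
    · change (Submodule.Quotient.mk (a₂ - n2) : Q ⧸ N3) = Submodule.Quotient.mk a₃
      refine (Submodule.Quotient.eq N3).mpr ?_
      have : a₂ - n2 - a₃ = n3 := by
        have h' : a₂ - n2 - a₃ = (a₂ - a₃) - n2 := by abel
        rw [h', ← hsum]; abel
      rw [this]
      exact hn3

theorem main {M : Type u} [AddCommGroup M] [Module R M] (Z B : Submodule R M) (hBZ : B ≤ Z) (x : R)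
    (hxH : IsSMulRegular (↥Z ⧸ Submodule.comap Z.subtype B) x) :
    IsPullback
      (ModuleCat.ofHom (Submodule.factor (Submodule.comap_mono (Submodule.smul_mono le_rfl hBZ) :
        Submodule.comap Z.subtype (Ideal.span {x} • B) ≤
          Submodule.comap Z.subtype (Ideal.span {x} • Z))))
      (ModuleCat.ofHom (Submodule.factor (Submodule.comap_mono (Submodule.smul_le_right) :
        Submodule.comap Z.subtype (Ideal.span {x} • B) ≤ Submodule.comap Z.subtype B)))
      (ModuleCat.ofHom (Submodule.factor (Submodule.comap_mono le_sup_right :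
        Submodule.comap Z.subtype (Ideal.span {x} • Z) ≤
          Submodule.comap Z.subtype (B ⊔ Ideal.span {x} • Z))))
      (ModuleCat.ofHom (Submodule.factor (Submodule.comap_mono le_sup_left :
        Submodule.comap Z.subtype B ≤ Submodule.comap Z.subtype (B ⊔ Ideal.span {x} • Z)))) := by
  apply isPullback_factor
  · rintro w ⟨hw1, hw2⟩
    replace hw1 : (w : M) ∈ Ideal.span {x} • Z := hw1
    replace hw2 : (w : M) ∈ B := hw2
    show (w : M) ∈ Ideal.span {x} • B
    rw [Submodule.ideal_span_singleton_smul] at hw1 ⊢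
    obtain ⟨z₀, hz₀, hz₀w⟩ := (Submodule.mem_smul_pointwise_iff_exists _ _ _).mp hw1
    have hq : (Submodule.Quotient.mk ⟨z₀, hz₀⟩ : ↥Z ⧸ Submodule.comap Z.subtype B) = 0 := by
      apply hxH
      change x • (Submodule.Quotient.mk ⟨z₀, hz₀⟩ : ↥Z ⧸ Submodule.comap Z.subtype B) = x • 0
      rw [smul_zero, ← Submodule.Quotient.mk_smul, Submodule.Quotient.mk_eq_zero,
        Submodule.mem_comap]
      change x • z₀ ∈ B
      rw [hz₀w]
      exact hw2
    rw [Submodule.Quotient.mk_eq_zero, Submodule.mem_comap] at hq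
    rw [← hz₀w]
    exact Submodule.smul_mem_pointwise_smul _ x B hq
  · intro w hw
    rw [Submodule.mem_comap] at hw
    obtain ⟨b, hb, c, hc, hsum⟩ := Submodule.mem_sup.mp hw
    have hcZ : c ∈ Z := (Submodule.smul_le_right : Ideal.span {x} • Z ≤ Z) hc
    refine Submodule.mem_sup.mpr ⟨⟨c, hcZ⟩, ?_, ⟨b, hBZ hb⟩, ?_, ?_⟩
    · rw [Submodule.mem_comap]; exact hc
    · rw [Submodule.mem_comap]; exact hb
    · apply Subtype.ext
      change c + b = (w : M)
      rw [add_comm]; exact hsum

end Groth.Agent.Lib.QuotPullbackH7
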