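import Mathlib
import Groth.Agent.Lib.QuotRes3_helper8
import Groth.Agent.Lib.PurInsep1_helper8
set_option autoImplicit false
open AlgebraicGeometry CategoryTheory CategoryTheory.Limits TopologicalSpace
universe u
namespace IsQuotH8

/-- A composite of residue field congruences along a loop is the identity. -/
theorem residueFieldCongr_loop {X : Scheme.{u}} {x y : X} (h : x = y) (h' : y = x) :
    (X.residueFieldCongr h).hom ≫ (X.residueFieldCongr h').hom = 𝟙 _ := by
  subst h
  rfl

theorem residueFieldCongr_eq {X : Scheme.{u}} {x y : X} (h h' : x = y) :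
    (X.residueFieldCongr h).hom = (X.residueFieldCongr h').hom := rfl

theorem residueFieldMap_bijective_of_surjectiveOnStalks {W X : Scheme.{u}} (j : W ⟶ X)
    [SurjectiveOnStalks j] (w : W) : Function.Bijective (j.residueFieldMap w).hom := by
  refine ⟨(j.residueFieldMap w).hom.injective, fun z => ?_⟩
  obtain ⟨s, rfl⟩ : ∃ s : W.presheaf.stalk w, (W.residue w).hom s = z :=
    IsLocalRing.residue_surjective z
  obtain ⟨t, rfl⟩ := j.stalkMap_surjective w s
  refine ⟨(X.residue (j.base w)).hom t, ?_⟩
  have := congrArg (fun m => m.hom t) (Scheme.residue_residueFieldMap j w)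
  exact this


/-- (N) the automorphism induced on `κ(w)` by a stabilizing `a` fixes the image of `κ(q w)` when
`a ≫ q = q`. -/
theorem res_comp_congr_inv_res {W V : Scheme.{u}} (a : W ⟶ W) (q : W ⟶ V) (h : a ≫ q = q)
    (w : W) (e_w : a.base w = w) :
    q.residueFieldMap w ≫ (W.residueFieldCongr e_w).inv ≫ a.residueFieldMap w =
      q.residueFieldMap w := by
  have hpt : q.base (a.base w) = q.base w := congrArg q.base e_w
  have h1 : q.residueFieldMap w ≫ (W.residueFieldCongr e_w.symm).hom =
      (V.residueFieldCongr hpt.symm).hom ≫ q.residueFieldMap (a.base w) :=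
    Scheme.Hom.residueFieldMap_congr' (f := q) e_w.symm
  have h2 : q.residueFieldMap (a.base w) ≫ a.residueFieldMap w =
      (V.residueFieldCongr hpt).hom ≫ q.residueFieldMap w :=
    (Scheme.residueFieldMap_comp a q w).symm.trans (Scheme.Hom.residueFieldMap_congr h w)
  calc q.residueFieldMap w ≫ (W.residueFieldCongr e_w).inv ≫ a.residueFieldMap w
      = (q.residueFieldMap w ≫ (W.residueFieldCongr e_w.symm).hom) ≫ a.residueFieldMap w :=
        (Category.assoc _ _ _).symm
    _ = ((V.residueFieldCongr hpt.symm).hom ≫ q.residueFieldMap (a.base w)) ≫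
          a.residueFieldMap w := by rw [h1]
    _ = (V.residueFieldCongr hpt.symm).hom ≫ (q.residueFieldMap (a.base w) ≫
          a.residueFieldMap w) := Category.assoc _ _ _
    _ = (V.residueFieldCongr hpt.symm).hom ≫ ((V.residueFieldCongr hpt).hom ≫
          q.residueFieldMap w) := by rw [h2]
    _ = ((V.residueFieldCongr hpt.symm).hom ≫ (V.residueFieldCongr hpt).hom) ≫
          q.residueFieldMap w := (Category.assoc _ _ _).symm
    _ = 𝟙 _ ≫ q.residueFieldMap w := by rw [residueFieldCongr_loop]
    _ = q.residueFieldMap w := Category.id_comp _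

/-- (M) equivariance of the induced automorphisms of residue fields along `j`. -/
theorem congr_inv_res_comp {W X : Scheme.{u}} (a : W ⟶ W) (b : X ⟶ X) (j : W ⟶ X)
    (h : a ≫ j = j ≫ b) (w : W) (e_w : a.base w = w) (e₀ : b.base (j.base w) = j.base w) :
    ((X.residueFieldCongr e₀).inv ≫ b.residueFieldMap (j.base w)) ≫ j.residueFieldMap w =
      j.residueFieldMap w ≫ ((W.residueFieldCongr e_w).inv ≫ a.residueFieldMap w) := by
  have hpt : j.base (a.base w) = j.base w := congrArg j.base e_w
  have hpt2 : b.base (j.base w) = j.base (a.base w) := e₀.trans hpt.symm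
  have h1 : j.residueFieldMap w ≫ (W.residueFieldCongr e_w.symm).hom =
      (X.residueFieldCongr hpt.symm).hom ≫ j.residueFieldMap (a.base w) :=
    Scheme.Hom.residueFieldMap_congr' (f := j) e_w.symm
  have h2 : b.residueFieldMap (j.base w) ≫ j.residueFieldMap w =
      (X.residueFieldCongr hpt2).hom ≫ (j.residueFieldMap (a.base w) ≫ a.residueFieldMap w) :=
    (Scheme.residueFieldMap_comp j b w).symm.trans
      ((Scheme.Hom.residueFieldMap_congr h.symm w).trans
        (congrArg (fun m => (X.residueFieldCongr hpt2).hom ≫ m)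
          (Scheme.residueFieldMap_comp a j w)))
  calc ((X.residueFieldCongr e₀).inv ≫ b.residueFieldMap (j.base w)) ≫ j.residueFieldMap w
      = (X.residueFieldCongr e₀.symm).hom ≫ (b.residueFieldMap (j.base w) ≫
          j.residueFieldMap w) := Category.assoc _ _ _
    _ = (X.residueFieldCongr e₀.symm).hom ≫ ((X.residueFieldCongr hpt2).hom ≫
          (j.residueFieldMap (a.base w) ≫ a.residueFieldMap w)) := by rw [h2]
    _ = ((X.residueFieldCongr e₀.symm).hom ≫ (X.residueFieldCongr hpt2).hom) ≫
          (j.residueFieldMap (a.base w) ≫ a.residueFieldMap w) := (Category.assoc _ _ _).symm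
    _ = (X.residueFieldCongr hpt.symm).hom ≫
          (j.residueFieldMap (a.base w) ≫ a.residueFieldMap w) := by
        rw [Scheme.residueFieldCongr_trans_hom]
    _ = ((X.residueFieldCongr hpt.symm).hom ≫ j.residueFieldMap (a.base w)) ≫
          a.residueFieldMap w := (Category.assoc _ _ _).symm
    _ = (j.residueFieldMap w ≫ (W.residueFieldCongr e_w.symm).hom) ≫ a.residueFieldMap w := by
        rw [h1]
    _ = j.residueFieldMap w ≫ ((W.residueFieldCongr e_w).inv ≫ a.residueFieldMap w) :=
        Category.assoc _ _ _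


theorem purelyInseparable_of_immersion {X XG W WG : Scheme.{u}} {G : Type u} [Group G] [Finite G]
    (ρ : G →* Aut X) (p : X ⟶ XG) (hP : SGA1.IsQuot ρ p) (j : W ⟶ X) [IsImmersion j]
    (ρW : G →* Aut W) (hρW : ∀ g, (ρW g).hom ≫ j = j ≫ (ρ g).hom) (pW : W ⟶ WG)
    (hPW : SGA1.IsQuot ρW pW) (φ : WG ⟶ XG) (hφ : pW ≫ φ = j ≫ p) (w : W) :
    (φ.residueFieldMap (pW.base w)).hom.IsPurelyInseparable := by
  have hpt : p.base (j.base w) = φ.base (pW.base w) := by
    have := congrArg (fun m => m.base w) hφ
    exact this.symm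
  have hjinj : Function.Injective j.base := j.isEmbedding.injective
  refine PurInsepH8.isPurelyInseparable_of_transport
    (φ.residueFieldMap (pW.base w)).hom (pW.residueFieldMap w).hom
    (p.residueFieldMap (j.base w)).hom (XG.residueFieldCongr hpt).hom.hom
    (j.residueFieldMap w).hom
    (ConcreteCategory.bijective_of_isIso (XG.residueFieldCongr hpt).hom)
    (residueFieldMap_bijective_of_surjectiveOnStalks j w) ?_
    (residue_result ρ p hP (j.base w)).1 ?_
  · intro k'
    have h1 : (j ≫ p).residueFieldMap w =
        (XG.residueFieldCongr hpt).hom ≫ (pW ≫ φ).residueFieldMap w :=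
      Scheme.Hom.residueFieldMap_congr hφ.symm w
    have h2 : p.residueFieldMap (j.base w) ≫ j.residueFieldMap w =
        (XG.residueFieldCongr hpt).hom ≫ (φ.residueFieldMap (pW.base w) ≫
          pW.residueFieldMap w) :=
      (Scheme.residueFieldMap_comp j p w).symm.trans
        (h1.trans (congrArg (fun m => (XG.residueFieldCongr hpt).hom ≫ m)
          (Scheme.residueFieldMap_comp pW φ w)))
    have := congrArg (fun m => m.hom k') h2
    exact this.symm
  · intro τ' hτ' e' he'
    obtain ⟨f, hf⟩ := he'
    obtain ⟨g₀, e₀, hg₀⟩ := (residue_result ρ p hP (j.base w)).2 τ'.toCommRingCatIso (by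
      apply CommRingCat.hom_ext
      apply RingHom.ext
      intro k'
      exact hτ' k')
    have e_w : (ρW g₀).hom.base w = w := by
      apply hjinj
      have := congrArg (fun m => m.base w) (hρW g₀)
      exact this.trans e₀
    have hM := congr_inv_res_comp (ρW g₀).hom (ρ g₀).hom j (hρW g₀) w e_w e₀
    have hN := res_comp_congr_inv_res (ρW g₀).hom pW (hPW.inv g₀) w e_w
    rw [← hg₀] at hM
    have h3 := congrArg (fun m => m.hom e') hM
    have h4 := congrArg (fun m => m.hom f) hN
    change (j.residueFieldMap w).hom (τ' e') =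
      ((W.residueFieldCongr e_w).inv ≫ (ρW g₀).hom.residueFieldMap w).hom
        ((j.residueFieldMap w).hom e') at h3
    change ((W.residueFieldCongr e_w).inv ≫ (ρW g₀).hom.residueFieldMap w).hom
      ((pW.residueFieldMap w).hom f) = (pW.residueFieldMap w).hom f at h4
    rw [h3, hf, h4]

end IsQuotH8
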