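import Mathlib
import Groth.Agent.Lib.QuotRad1_helper8
import Groth.Agent.S2908

set_option autoImplicit false
universe u
open CategoryTheory AlgebraicGeometry Limits

namespace IsQuotH8

theorem universallyInjective_of_immersion {X XG W WG : Scheme.{u}} {G : Type u} [Group G] [Finite G]
    (ρ : G →* Aut X) (p : X ⟶ XG) (hP : SGA1.IsQuot ρ p) (j : W ⟶ X) [IsImmersion j]
    (ρW : G →* Aut W) (hρW : ∀ g, (ρW g).hom ≫ j = j ≫ (ρ g).hom) (pW : W ⟶ WG)
    (hPW : SGA1.IsQuot ρW pW) (φ : WG ⟶ XG) (hφ : pW ≫ φ = j ≫ p) :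
    UniversallyInjective φ := by
  have hsW := (Groth.Agent.S2908.result ρW pW hPW).1
  have hX := Groth.Agent.S2908.result ρ p hP
  have hjinj : Function.Injective j.base := j.isEmbedding.injective
  have hpt : ∀ w : W, φ.base (pW.base w) = p.base (j.base w) := fun w =>
    congrArg (fun m => m.base w) hφ
  refine ((tfae_universallyInjective φ).out 0 2).mpr ?_
  refine ⟨?_, ?_⟩
  · intro a b hab
    obtain ⟨w₁, rfl⟩ := hsW a
    obtain ⟨w₂, rfl⟩ := hsW b
    rw [hpt, hpt] at hab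
    obtain ⟨g, hg⟩ := (hX.2.1 _ _).mp hab
    have h1 : (ρW g).hom.base w₁ = w₂ := by
      apply hjinj
      have := congrArg (fun m => m.base w₁) (hρW g)
      exact this.trans hg
    rw [← h1]
    have := congrArg (fun m => m.base w₁) (hPW.inv g)
    exact this.symm
  · intro x
    obtain ⟨w, rfl⟩ := hsW x
    exact IsQuotH8.purelyInseparable_of_immersion ρ p hP j ρW hρW pW hPW φ hφ w

theorem ker_toImage_eq_bot {X Y : Scheme.{u}} (f : X ⟶ Y) [QuasiCompact f] :
    f.toImage.ker = ⊥ := by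
  have hcov : (⨆ U : Y.affineOpens, f.imageι ⁻¹ᵁ U.1) = ⊤ := by
    rw [← Scheme.Hom.preimage_iSup]
    have : (⨆ U : Y.affineOpens, U.1) = ⊤ := by
      rw [eq_top_iff]
      intro y _
      obtain ⟨_, ⟨V, hV, rfl⟩, hyV, -⟩ :=
        Y.isBasis_affineOpens.exists_subset_of_mem_open (Set.mem_univ y) isOpen_univ
      exact TopologicalSpace.Opens.mem_iSup.mpr ⟨⟨V, hV⟩, hyV⟩
    rw [this]; rfl
  refine Scheme.IdealSheafData.ext_of_iSup_eq_top
    (fun U : Y.affineOpens ↦ ⟨f.imageι ⁻¹ᵁ U.1, U.2.preimage f.imageι⟩) hcov ?_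
  intro U
  simp only [Scheme.Hom.ker_apply, Scheme.IdealSheafData.ideal_bot, Pi.bot_apply]
  exact (RingHom.injective_iff_ker_eq_bot _).mp (f.toImage_app_injective U)

end IsQuotH8
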