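import Mathlib
import Groth.Prelude.Def_GrLC
import Groth.Prelude.Def_GrLC2
import Groth.Prelude.Def_CAlg
import Groth.Prelude.Def_Wider
import Groth.Agent.Lib.AInv_helper1
import Groth.Agent.Lib.GorTop2_helper1
import Groth.Agent.Lib.GrHS3_helper1
import Groth.Agent.Lib.GrHDec_helper1

/-! The `a`-invariant of `R/xR` for a homogeneous regular element `x` of a *local CM ring
(helper1, S17769). -/

set_option autoImplicit false

namespace Groth.Agent.Lib.QuotRegH1

open DirectSum GrLC Groth.Agent.Lib.GrStarH1 Groth.Agent.Lib.GrStar2H1 Groth.Agent.Lib.GrStar3H1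
  Groth.Agent.Lib.GrStar4H1 Groth.Agent.Lib.GrLES1H1 Groth.Agent.Lib.GrLES3H1
  Groth.Agent.Lib.GrLES4H1 Groth.Agent.Lib.GrHDecH1 Groth.Agent.Lib.MinResH1
  Groth.Agent.Lib.GorTopH1 Groth.Agent.Lib.GorTop2H1 Groth.Agent.Lib.AInvH1
  Groth.Agent.Lib.GrHS3H1

open scoped Pointwise

universe u

/-! ### arithmetic -/

theorem wb_lt_of_succ_le {a : WithBot ℕ∞} {d : ℕ} (h : a + 1 ≤ ((d : ℕ) : WithBot ℕ∞)) :
    a < (d : WithBot ℕ∞) := by
  induction a using WithBot.recBotCoe with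
  | bot => exact WithBot.bot_lt_coe _
  | coe a' =>
    have h' : a' + 1 ≤ ((d : ℕ) : ℕ∞) := by exact_mod_cast h
    have hne : a' ≠ ⊤ := by
      intro h0
      rw [h0, top_add] at h'
      exact absurd h' (by simp)
    lift a' to ℕ using hne
    have h'' : a' + 1 ≤ d := by exact_mod_cast h'
    have h3 : a' < d := by omega
    exact_mod_cast h3

theorem endDeg_eq_bot_of_subsingleton {X : Type u} [AddCommGroup X] [Subsingleton X]
    (𝒳 : ℤ → AddSubgroup X) : endDeg 𝒳 = ⊥ := by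
  apply le_antisymm ?_ bot_le
  refine iSup₂_le fun j hj => absurd ?_ hj
  rw [eq_bot_iff]
  intro w _
  rw [AddSubgroup.mem_bot]
  exact Subsingleton.elim _ _

/-! ### the support dimension of `R_p ⊗ R/xR` -/

open TensorProduct in
theorem supportDim_tensor_quot {R : Type u} [CommRing R] [IsNoetherianRing R] (p : Ideal R)
    [p.IsPrime] (h : ℕ) (hh : p.height = h) {x : R} (hxm : x ∈ p) (hx : IsSMulRegular R x)
    {N : Type u} [AddCommGroup N] [Module R N] (π : R →ₗ[R] N) (hπs : Function.Surjective π)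
    (hπx : π x = 0) :
    Module.supportDim (Localization.AtPrime p) (Localization.AtPrime p ⊗[R] N) + 1 ≤
      (h : WithBot ℕ∞) := by
  obtain ⟨y, hy⟩ : ∃ y : Localization.AtPrime p, y = algebraMap R (Localization.AtPrime p) x :=
    ⟨_, rfl⟩
  have hymax : y ∈ IsLocalRing.maximalIdeal (Localization.AtPrime p) := by
    rw [hy]
    exact (IsLocalization.AtPrime.to_map_mem_maximal_iff _ p x).2 hxm
  have hreg : IsSMulRegular (Localization.AtPrime p) y := by
    rw [hy]
    exact IsSMulRegular.of_isLocalization (Localization.AtPrime p) p.primeCompl hx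
  have h1 := Module.supportDim_quotSMulTop_succ_eq_supportDim hreg hymax
  rw [Module.supportDim_self_eq_ringKrullDim,
    IsLocalization.AtPrime.ringKrullDim_eq_height p (Localization.AtPrime p), hh] at h1
  obtain ⟨g, hg⟩ : ∃ g : Localization.AtPrime p →ₗ[Localization.AtPrime p]
      (Localization.AtPrime p ⊗[R] N), ∀ a, g a = a ⊗ₜ[R] π 1 :=
    ⟨LinearMap.toSpanSingleton _ _ ((1 : Localization.AtPrime p) ⊗ₜ[R] π 1), fun a => by
      rw [LinearMap.toSpanSingleton_apply, TensorProduct.smul_tmul', smul_eq_mul, mul_one]⟩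
  have hgy : ∀ a, g (y • a) = 0 := by
    intro a
    rw [hg, hy, smul_eq_mul, ← Algebra.smul_def, TensorProduct.smul_tmul, ← map_smul,
      smul_eq_mul, mul_one, hπx, TensorProduct.tmul_zero]
  have hle : y • (⊤ : Submodule (Localization.AtPrime p) (Localization.AtPrime p)) ≤
      LinearMap.ker g := by
    intro z hz
    obtain ⟨a, -, rfl⟩ := (Submodule.mem_smul_pointwise_iff_exists _ _ _).1 hz
    exact hgy a
  have hgs : Function.Surjective g := by
    intro t
    induction t using TensorProduct.induction_on with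
    | zero => exact ⟨0, map_zero g⟩
    | tmul a n =>
      obtain ⟨r, rfl⟩ := hπs n
      refine ⟨r • a, ?_⟩
      rw [hg, TensorProduct.smul_tmul, ← map_smul, smul_eq_mul, mul_one]
    | add t₁ t₂ h₁ h₂ =>
      obtain ⟨a₁, rfl⟩ := h₁
      obtain ⟨a₂, rfl⟩ := h₂
      exact ⟨a₁ + a₂, map_add g a₁ a₂⟩
  have hfs : Function.Surjective
      ((y • (⊤ : Submodule (Localization.AtPrime p) (Localization.AtPrime p))).liftQ g hle) := by
    intro t
    obtain ⟨a, rfl⟩ := hgs t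
    exact ⟨Submodule.Quotient.mk a, rfl⟩
  have h2 := Module.supportDim_le_of_surjective _ hfs
  calc Module.supportDim (Localization.AtPrime p) (Localization.AtPrime p ⊗[R] N) + 1
      ≤ Module.supportDim (Localization.AtPrime p) (QuotSMulTop y (Localization.AtPrime p)) + 1 :=
        add_le_add h2 le_rfl
    _ = (h : WithBot ℕ∞) := h1

variable {R : Type u} [CommRing R] (𝒜 : ℤ → AddSubgroup R) [GradedRing 𝒜]

/-! ### vanishing above the local support dimension -/
section vanish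

variable [IsNoetherianRing R] {M : Type u} [AddCommGroup M] [Module R M] {ℳ : ℤ → AddSubgroup M}
  [Decomposition ℳ] [SetLike.GradedSMul 𝒜 ℳ]

open TensorProduct in
theorem H_subsingleton_of_supportDim_lt (m : HomogeneousIdeal 𝒜) (hm : IsStarLocal 𝒜 m)
    [hprime : m.toIdeal.IsPrime] (E : StarInjRes 𝒜 ℳ) (j : ℕ)
    (hj : Module.supportDim (Localization.AtPrime m.toIdeal)
      (Localization.AtPrime m.toIdeal ⊗[R] M) < (j : WithBot ℕ∞)) :
    Subsingleton (E.H m j) := by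
  classical
  obtain ⟨γ⟩ := Groth.Agent.Lib.GrStarLCH1.main13224 R 𝒜 m M ℳ E j
  obtain ⟨β⟩ := Groth.Agent.Lib.LocCohFlatBCH7.main (Localization.AtPrime m.toIdeal) m.toIdeal j M
  haveI hGV : Subsingleton (LocCoh.H (m.toIdeal.map (algebraMap R (Localization.AtPrime m.toIdeal)))
      j (Localization.AtPrime m.toIdeal ⊗[R] M)) := by
    apply Groth.Agent.Lib.LocCohGVH7.GV
    exact hj
  haveI hT : Subsingleton (Localization.AtPrime m.toIdeal ⊗[R] LocCoh.H m.toIdeal j M) :=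
    β.toEquiv.subsingleton
  have hkill : ∀ x : E.H m j, ∃ s : R, s ∉ m.toIdeal ∧ s • x = 0 := by
    intro x
    haveI : IsLocalizedModule m.toIdeal.primeCompl
        (TensorProduct.mk R (Localization.AtPrime m.toIdeal) (LocCoh.H m.toIdeal j M) 1) :=
      (isLocalizedModule_iff_isBaseChange m.toIdeal.primeCompl (Localization.AtPrime m.toIdeal)
        _).2 (TensorProduct.isBaseChange R (LocCoh.H m.toIdeal j M)
          (Localization.AtPrime m.toIdeal))
    obtain ⟨c, hc⟩ := (IsLocalizedModule.eq_zero_iff m.toIdeal.primeCompl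
      (TensorProduct.mk R (Localization.AtPrime m.toIdeal) (LocCoh.H m.toIdeal j M) 1)).1
      (Subsingleton.elim ((TensorProduct.mk R (Localization.AtPrime m.toIdeal)
        (LocCoh.H m.toIdeal j M) 1) (γ x)) 0)
    refine ⟨(c : R), c.2, ?_⟩
    apply γ.injective
    rw [map_smul, map_zero]
    exact hc
  have key : ∀ (g : ℤ) (z : (E.X j).carrier), z ∈ E.cocyc m j → z ∈ (E.X j).gr g →
      z ∈ E.cobdy m j := by
    intro g z hz hzg
    have hqhom : ((E.cobdy m j).colon {z}).IsHomogeneous 𝒜 := by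
      intro k r hr
      rw [Submodule.mem_colon_singleton] at hr ⊢
      have h1 := decompose_smul_of_mem 𝒜 (E.X j).gr hzg r (k + g)
      rw [add_sub_cancel_right] at h1
      rw [← h1]
      exact cobdy_isHomogeneous 𝒜 E m j (k + g) hr
    obtain ⟨s, hsm, hs⟩ := hkill (E.toH m j ⟨z, hz⟩)
    have hsq : s ∈ (E.cobdy m j).colon {z} := by
      rw [Submodule.mem_colon_singleton]
      have h2 : E.toH m j (s • ⟨z, hz⟩) = 0 := by rw [map_smul]; exact hs
      exact (toH_eq_zero_iff m E j _).1 h2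
    obtain ⟨Q, hQ⟩ : ∃ Q : HomogeneousIdeal 𝒜, Q.toIdeal = (E.cobdy m j).colon {z} :=
      ⟨⟨_, hqhom⟩, rfl⟩
    have htop : Q = ⊤ := by
      by_contra hne
      have hle : Q.toIdeal ≤ m.toIdeal := le_of_starLocal 𝒜 hm Q hne
      exact hsm (hle (by rw [hQ]; exact hsq))
    have h1 : (1 : R) ∈ (E.cobdy m j).colon {z} := by
      rw [← hQ, htop]
      exact Submodule.mem_top
    rw [Submodule.mem_colon_singleton, one_smul] at h1
    exact h1
  have hall : ∀ z : ↥(E.cocyc m j), E.toH m j z = 0 := by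
    intro z
    rw [toH_eq_zero_iff]
    rw [← DirectSum.sum_support_decompose (E.X j).gr (z : (E.X j).carrier)]
    refine Submodule.sum_mem _ (fun g _ => ?_)
    exact key g _ (cocyc_isHomogeneous 𝒜 E m j g z.2)
      (decompose (E.X j).gr (z : (E.X j).carrier) g).2
  refine ⟨fun x y => ?_⟩
  obtain ⟨z, rfl⟩ := toH_surjective m E j x
  obtain ⟨w, rfl⟩ := toH_surjective m E j y
  rw [hall z, hall w]

end vanish

/-! ### the degree-zero step -/
section step

variable {M : Type u} [AddCommGroup M] [Module R M] {ℳ : ℤ → AddSubgroup M} [Decomposition ℳ]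
  [SetLike.GradedSMul 𝒜 ℳ]
variable {N : Type u} [AddCommGroup N] [Module R N] {𝒩 : ℤ → AddSubgroup N} [Decomposition 𝒩]
  [SetLike.GradedSMul 𝒜 𝒩]

theorem H_torsion (E : StarInjRes 𝒜 ℳ) (a : HomogeneousIdeal 𝒜) (i : ℕ) {x : R}
    (hx : x ∈ a.toIdeal) (y : E.H a i) : ∃ n : ℕ, x ^ n • y = 0 := by
  obtain ⟨z, rfl⟩ := toH_surjective a E i y
  obtain ⟨n, hn⟩ := (Submodule.mem_inf.1 z.2).1
  refine ⟨n, ?_⟩
  have h1 : x ^ n • z = 0 := Subtype.ext (hn (x ^ n) (Ideal.pow_mem_pow hx n))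
  rw [← map_smul, h1, map_zero]

theorem step0 [IsNoetherianRing R] (a : HomogeneousIdeal 𝒜) (E : StarInjRes 𝒜 ℳ)
    {x : R} (hx : x ∈ 𝒜 0) (hxa : x ∈ a.toIdeal) (hreg : IsSMulRegular M x) (π : M →ₗ[R] N)
    (hπg : IsGrHom ℳ 𝒩 π) (hπ : Function.Surjective π)
    (hker : LinearMap.ker π = LinearMap.range (LinearMap.lsmul R M x)) (F : StarInjRes 𝒜 𝒩)
    (d' : ℕ) (hvan : ∀ i, i ≠ d' + 1 → Subsingleton (E.H a i))
    (hbdd : ∃ r : ℤ, ∀ n, r ≤ n → E.Hgr a (d' + 1) n = ⊥) :
    endDeg (F.Hgr a d') =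
      endDeg (E.Hgr a (d' + 1)) + (((0 : ℤ) : WithTop ℤ) : WithBot (WithTop ℤ)) := by
  classical
  obtain ⟨ψ, hψ⟩ := mul_les 𝒜 hx hreg π hπg hπ hker E F a
  obtain ⟨-, δ, hδgr, hC, hD⟩ := hψ d'
  haveI := hvan d' (by omega)
  have hδinj : ∀ (k : ℤ) (w : F.H a d'), w ∈ F.Hgr a d' k → δ w = 0 → w = 0 := by
    intro k w hw h0
    obtain ⟨y, -, hy⟩ := hC k w hw h0
    rw [← hy, Subsingleton.elim y 0, map_zero]
  apply le_antisymm
  · refine iSup₂_le (fun k hk => ?_)
    obtain ⟨w, hw, hw0⟩ := exists_ne_zero_of_ne_bot hk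
    have h1 : δ w ∈ E.Hgr a (d' + 1) (-(0 : ℤ) + k) := hδgr k w hw
    have h2 : δ w ≠ 0 := fun h0 => hw0 (hδinj k w hw h0)
    have h3 : E.Hgr a (d' + 1) (-(0 : ℤ) + k) ≠ ⊥ := by
      intro hb
      rw [hb, AddSubgroup.mem_bot] at h1
      exact h2 h1
    have h4 : (((-(0 : ℤ) + k : ℤ) : WithTop ℤ) : WithBot (WithTop ℤ)) ≤
        endDeg (E.Hgr a (d' + 1)) :=
      le_iSup₂ (f := fun (n : ℤ) (_ : E.Hgr a (d' + 1) n ≠ ⊥) =>
        ((n : WithTop ℤ) : WithBot (WithTop ℤ))) (-(0 : ℤ) + k) h3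
    have h5 : ((k : WithTop ℤ) : WithBot (WithTop ℤ)) =
        (((-(0 : ℤ) + k : ℤ) : WithTop ℤ) : WithBot (WithTop ℤ)) +
          (((0 : ℤ) : WithTop ℤ) : WithBot (WithTop ℤ)) := by
      rw [← WithBot.coe_add, ← WithTop.coe_add, neg_add_cancel_comm]
    rw [h5]
    exact add_le_add h4 le_rfl
  · by_cases hne : ∃ j, E.Hgr a (d' + 1) j ≠ ⊥
    · obtain ⟨r, hr⟩ := hbdd
      obtain ⟨j', hj', hmax⟩ := Int.exists_greatest_of_bdd
        (P := fun j => E.Hgr a (d' + 1) j ≠ ⊥)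
        ⟨r, fun z hz => by
          by_contra h
          push_neg at h
          exact hz (hr z h.le)⟩ hne
      have hE : endDeg (E.Hgr a (d' + 1)) = ((j' : WithTop ℤ) : WithBot (WithTop ℤ)) := by
        apply le_antisymm
        · refine iSup₂_le (fun j hj => ?_)
          exact_mod_cast hmax j hj
        · exact le_iSup₂ (f := fun (n : ℤ) (_ : E.Hgr a (d' + 1) n ≠ ⊥) =>
            ((n : WithTop ℤ) : WithBot (WithTop ℤ))) j' hj'
      rw [hE]
      obtain ⟨y₀, hy₀, hy₀0⟩ := exists_ne_zero_of_ne_bot hj'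
      have htors := H_torsion 𝒜 E a (d' + 1) hxa y₀
      obtain ⟨n, hn, hmin⟩ : ∃ n, x ^ n • y₀ = 0 ∧ ∀ i < n, x ^ i • y₀ ≠ 0 :=
        ⟨Nat.find htors, Nat.find_spec htors, fun i hi => Nat.find_min htors hi⟩
      have hn0 : n ≠ 0 := by
        intro h0
        rw [h0, pow_zero, one_smul] at hn
        exact hy₀0 hn
      obtain ⟨c, hc⟩ : ∃ c, n = c + 1 := ⟨n - 1, by omega⟩
      obtain ⟨y, hydef⟩ : ∃ y, y = x ^ c • y₀ := ⟨_, rfl⟩
      have hy0 : y ≠ 0 := by
        rw [hydef]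
        exact hmin c (by omega)
      have hy : y ∈ E.Hgr a (d' + 1) j' := by
        have hxc : x ^ c ∈ 𝒜 0 := by
          have h1 : x ^ c ∈ 𝒜 (c • (0 : ℤ)) := SetLike.pow_mem_graded c hx
          rwa [smul_zero] at h1
        have h1 := (HGSMul 𝒜 ℳ a E (d' + 1)).smul_mem hxc hy₀
        rw [vadd_eq_add, zero_add] at h1
        rw [hydef]
        exact h1
      have hxy : x • y = 0 := by
        rw [hydef, smul_smul, ← pow_succ', ← hc]
        exact hn
      obtain ⟨w, hw, hwy⟩ := hD (0 + j') y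
        (mem_congr (E.Hgr a (d' + 1)) (neg_add_cancel_left 0 j').symm hy) hxy
      have hw0 : w ≠ 0 := by
        rintro rfl
        exact hy0 (by rw [← hwy, map_zero])
      have h3 : F.Hgr a d' (0 + j') ≠ ⊥ := by
        intro hb
        rw [hb, AddSubgroup.mem_bot] at hw
        exact hw0 hw
      have h4 : (((0 + j' : ℤ) : WithTop ℤ) : WithBot (WithTop ℤ)) ≤ endDeg (F.Hgr a d') :=
        le_iSup₂ (f := fun (n : ℤ) (_ : F.Hgr a d' n ≠ ⊥) =>
          ((n : WithTop ℤ) : WithBot (WithTop ℤ))) (0 + j') h3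
      have h5 : ((j' : WithTop ℤ) : WithBot (WithTop ℤ)) +
          (((0 : ℤ) : WithTop ℤ) : WithBot (WithTop ℤ)) =
          (((0 + j' : ℤ) : WithTop ℤ) : WithBot (WithTop ℤ)) := by
        rw [← WithBot.coe_add, ← WithTop.coe_add, add_comm]
      rw [h5]
      exact h4
    · push_neg at hne
      have hE : endDeg (E.Hgr a (d' + 1)) = ⊥ := by
        apply le_antisymm ?_ bot_le
        exact iSup₂_le (fun j hj => absurd (hne j) hj)
      rw [hE, WithBot.bot_add]
      exact bot_le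

end step

/-! ### the main theorem -/

theorem main17769 (R : Type u) [CommRing R] [hCM : LocCoh.IsCohenMacaulayRing R]
    (𝒜 : ℤ → AddSubgroup R) [GradedRing 𝒜] (hpos : ∀ n : ℤ, n < 0 → 𝒜 n = ⊥)
    (m : HomogeneousIdeal 𝒜) (hm : GrLC.IsStarLocal 𝒜 m) (d : ℕ)
    (hd : ringKrullDim R = (d + 1 : ℕ)) (I : GrLC.StarInjRes 𝒜 𝒜) (x : R) (k : ℤ)
    (hxk : x ∈ 𝒜 k) (hxm : x ∈ m.toIdeal) (hx : IsSMulRegular R x) (N : Type u)
    [AddCommGroup N] [Module R N] (𝒩 : ℤ → AddSubgroup N) [DirectSum.Decomposition 𝒩]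
    [SetLike.GradedSMul 𝒜 𝒩] (π : R →ₗ[R] N) (hπ : GrLC.IsGrHom 𝒜 𝒩 π)
    (hπs : Function.Surjective π) (hπk : LinearMap.ker π = Ideal.span {x})
    (F : GrLC.StarInjRes 𝒜 𝒩) :
    GrLC.endDeg (F.Hgr m d) =
      GrLC.endDeg (I.Hgr m (d + 1)) + ((k : WithTop ℤ) : WithBot (WithTop ℤ)) := by
  classical
  haveI : IsNoetherianRing R := hCM.toIsNoetherian
  haveI hprime : m.toIdeal.IsPrime := isPrime_of_coatom 𝒜 m hm.1
  obtain ⟨h, hh⟩ : ∃ h : ℕ, m.toIdeal.height = h :=
    ⟨m.toIdeal.height.toNat, (ENat.coe_toNat Ideal.height_ne_top_of_isPrime).symm⟩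
  have hhd : h ≤ d + 1 := by
    have h1 := Ideal.height_le_ringKrullDim_of_ne_top hprime.ne_top
    rw [hd, hh] at h1
    exact_mod_cast h1
  have hπx : π x = 0 := by
    have h1 : x ∈ LinearMap.ker π := by
      rw [hπk]
      exact Ideal.subset_span rfl
    exact h1
  have hker : LinearMap.ker π = LinearMap.range (LinearMap.lsmul R R x) := by
    rw [hπk]
    ext y
    rw [LinearMap.mem_range]
    constructor
    · intro hy
      obtain ⟨c, rfl⟩ := Ideal.mem_span_singleton'.1 hy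
      exact ⟨c, by rw [LinearMap.lsmul_apply, smul_eq_mul, mul_comm]⟩
    · rintro ⟨c, rfl⟩
      rw [LinearMap.lsmul_apply, smul_eq_mul]
      exact Ideal.mul_mem_right _ _ (Ideal.subset_span rfl)
  rcases Nat.lt_or_ge h (d + 1) with hlt | hge
  · haveI hI : Subsingleton (I.H m (d + 1)) := H_subsingleton_of_gt 𝒜 m hm h hh I (d + 1) hlt
    have hsd := supportDim_tensor_quot m.toIdeal h hh hxm hx π hπs hπx
    haveI hF : Subsingleton (F.H m d) := by
      apply H_subsingleton_of_supportDim_lt 𝒜 m hm F d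
      apply wb_lt_of_succ_le
      refine le_trans hsd ?_
      have : h ≤ d := by omega
      exact_mod_cast this
    rw [endDeg_eq_bot_of_subsingleton (F.Hgr m d), endDeg_eq_bot_of_subsingleton (I.Hgr m (d + 1)),
      WithBot.bot_add]
  · have hht : m.toIdeal.height = ((d + 1 : ℕ) : ℕ∞) := by
      rw [hh]
      exact_mod_cast (le_antisymm hhd hge)
    have hvan : ∀ i, i ≠ d + 1 → Subsingleton (I.H m i) := by
      intro i hi
      rcases lt_or_gt_of_ne hi with h1 | h1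
      · exact H_subsingleton_of_lt 𝒜 m hm (d + 1) hht I i h1
      · exact H_subsingleton_of_gt 𝒜 m hm (d + 1) hht I i h1
    obtain ⟨r, hr⟩ := Groth.Agent.Lib.GrHDecH1.main17767 R 𝒜 hpos m hm R 𝒜 I (d + 1)
    have hbdd : ∃ r : ℤ, ∀ n, r ≤ n → I.Hgr m (d + 1) n = ⊥ :=
      ⟨r, fun n hn => Hgr_eq_bot_of_Hcomp 𝒜 I m (d + 1) n (hr n hn)⟩
    have hk0 : 0 ≤ k := by
      by_contra hneg
      push_neg at hneg
      have hx0 : x = 0 := by
        have h1 := hxk
        rw [hpos k hneg] at h1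
        exact (AddSubgroup.mem_bot).1 h1
      have h1 : (1 : R) = 0 := hx (by
        show x • (1 : R) = x • (0 : R)
        rw [hx0, zero_smul, zero_smul])
      exact one_notMem 𝒜 hm (by rw [h1]; exact m.toIdeal.zero_mem)
    rcases hk0.lt_or_eq with hkpos | hk0'
    · exact (step 𝒜 m I hkpos hxk hx π hπ hπs hker F d hvan hbdd).2
    · subst hk0'
      exact step0 𝒜 m I hxk hxm hx π hπ hπs hker F d hvan hbdd

end Groth.Agent.Lib.QuotRegH1
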