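import Groth.Agent.Lib.CGrpShExact_lead
import Groth.Prelude.Def_QuotSh
import Mathlib.CategoryTheory.Sites.Sheafification

/-! # Sections of a sheaf as maps from `h_V`; descent of a section along a covering morphism (lead) -/

set_option backward.isDefEq.respectTransparency false
set_option backward.isDefEq.respectTransparency.types false
set_option linter.unusedSimpArgs false
set_option linter.unusedVariables false
set_option linter.unusedSectionVars false
set_option linter.style.longLine false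
set_option maxHeartbeats 800000

universe u

open CategoryTheory CategoryTheory.Limits AlgebraicGeometry Opposite

namespace Groth.Agent.Lib.QuotSec

variable {S : Scheme.{u}} (K : Precoverage Scheme.{u})

/-- maps `h_V ⟶ Q` are the sections of `Q` over `V` -/
noncomputable def secEquiv (V : Over S) (Q : QuotSh.Sh K S) :
    (QuotSh.rep K V ⟶ Q) ≃ Q.obj.obj (op V) :=
  ((sheafificationAdjunction (QuotSh.J K S) (Type (u + 1))).homEquiv
      (yoneda.obj V ⋙ uliftFunctor.{u + 1, u}) Q).trans
    (uliftYonedaEquiv.{u + 1} (X := V) (F := Q.obj))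

theorem secEquiv_repMap {V W : Over S} (g : V ⟶ W) (Q : QuotSh.Sh K S)
    (σ : QuotSh.rep K W ⟶ Q) :
    secEquiv K V Q (QuotSh.repMap K g ≫ σ) = Q.obj.map g.op (secEquiv K W Q σ) := by
  unfold secEquiv
  simp only [Equiv.trans_apply]
  rw [Adjunction.homEquiv_naturality_left]
  exact (uliftYonedaEquiv_naturality.{u + 1} (X := op W) (Y := op V) _ g.op).symm

theorem repMap_comp {V W X : Over S} (g : V ⟶ W) (h : W ⟶ X) :
    QuotSh.repMap K (g ≫ h) = QuotSh.repMap K g ≫ QuotSh.repMap K h := by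
  show (presheafToSheaf _ _).map _ = (presheafToSheaf _ _).map _ ≫ (presheafToSheaf _ _).map _
  rw [← Functor.map_comp, ← Functor.whiskerRight_comp, ← yoneda.map_comp]

theorem main {R U : Over S} (s t : R ⟶ U) (T Z : Over S) (a : Z ⟶ U) (p : Z ⟶ T)
    [Flat p.left] [Surjective p.left] [LocallyOfFinitePresentation p.left]
    (hZZ : ∀ (T' : Over S) (z₁ z₂ : T' ⟶ Z), z₁ ≫ p = z₂ ≫ p →
      ∃ r : T' ⟶ R, r ≫ s = z₁ ≫ a ∧ r ≫ t = z₂ ≫ a) :
    ∃! σ : QuotSh.rep Scheme.fppfPrecoverage T ⟶ QuotSh.quot Scheme.fppfPrecoverage s t,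
      QuotSh.repMap Scheme.fppfPrecoverage a ≫ QuotSh.quotπ Scheme.fppfPrecoverage s t =
        QuotSh.repMap Scheme.fppfPrecoverage p ≫ σ := by
  have hcov : Sieve.generate (Presieve.singleton p) ∈ QuotSh.J Scheme.fppfPrecoverage S T :=
    Groth.Agent.Lib.CGrpShExact.generate_singleton_mem_J Scheme.fppfPrecoverage p
      (Scheme.Hom.singleton_mem_fppfPrecoverage p.left)
  have hsh : Presieve.IsSheafFor (QuotSh.quot Scheme.fppfPrecoverage s t).obj
      (Presieve.singleton p) := by
    rw [Presieve.isSheafFor_iff_generate]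
    exact ((isSheaf_iff_isSheaf_of_type _ _).1
      (QuotSh.quot Scheme.fppfPrecoverage s t).property) _ hcov
  rw [Presieve.isSheafFor_singleton] at hsh
  have hcompat : ∀ {T' : Over S} (z₁ z₂ : T' ⟶ Z), z₁ ≫ p = z₂ ≫ p →
      (QuotSh.quot Scheme.fppfPrecoverage s t).obj.map z₁.op
        (secEquiv Scheme.fppfPrecoverage Z (QuotSh.quot Scheme.fppfPrecoverage s t)
          (QuotSh.repMap Scheme.fppfPrecoverage a ≫ QuotSh.quotπ Scheme.fppfPrecoverage s t)) =
      (QuotSh.quot Scheme.fppfPrecoverage s t).obj.map z₂.op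
        (secEquiv Scheme.fppfPrecoverage Z (QuotSh.quot Scheme.fppfPrecoverage s t)
          (QuotSh.repMap Scheme.fppfPrecoverage a ≫ QuotSh.quotπ Scheme.fppfPrecoverage s t)) := by
    intro T' z₁ z₂ h
    obtain ⟨r, hr1, hr2⟩ := hZZ T' z₁ z₂ h
    rw [← secEquiv_repMap, ← secEquiv_repMap, ← Category.assoc, ← Category.assoc, ← repMap_comp,
      ← repMap_comp, ← hr1, ← hr2, repMap_comp, repMap_comp, Category.assoc, Category.assoc,
      QuotSh.quot_condition]
  obtain ⟨q, hq, hquniq⟩ := hsh _ hcompat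
  refine ⟨(secEquiv Scheme.fppfPrecoverage T (QuotSh.quot Scheme.fppfPrecoverage s t)).symm q,
    ?_, ?_⟩
  · apply (secEquiv Scheme.fppfPrecoverage Z (QuotSh.quot Scheme.fppfPrecoverage s t)).injective
    rw [secEquiv_repMap Scheme.fppfPrecoverage p, Equiv.apply_symm_apply]
    exact hq.symm
  · intro σ' hσ'
    apply (secEquiv Scheme.fppfPrecoverage T (QuotSh.quot Scheme.fppfPrecoverage s t)).injective
    rw [Equiv.apply_symm_apply]
    apply hquniq
    rw [← secEquiv_repMap, ← hσ']

end Groth.Agent.Lib.QuotSec
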