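import Mathlib

/-!
# The short exact sequence `0 ⟶ B/A ⟶ C/A ⟶ C/B ⟶ 0`

For monomorphisms `a : A ⟶ B`, `b : B ⟶ C` in an abelian category with composite `c`.
-/

open CategoryTheory CategoryTheory.Limits

namespace QuotSeq

variable {𝒜 : Type*} [Category 𝒜] [Abelian 𝒜]

theorem main {A B C : 𝒜} (a : A ⟶ B) (c : A ⟶ C) (b : B ⟶ C) [Mono a] [Mono b] [Mono c]
    (h1 : a ≫ b = 𝟙 A ≫ c) (h2 : c ≫ 𝟙 C = a ≫ b) :
    ∃ w : cokernel.map a c (𝟙 A) b h1 ≫ cokernel.map c b a (𝟙 C) h2 = 0,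
      (ShortComplex.mk _ _ w).ShortExact := by
  have hc : a ≫ b = c := by rw [h1, Category.id_comp]
  have w : cokernel.map a c (𝟙 A) b h1 ≫ cokernel.map c b a (𝟙 C) h2 = 0 := by
    apply (cancel_epi (cokernel.π a)).1
    simp
  refine ⟨w, ?_⟩
  haveI : Epi (cokernel.map c b a (𝟙 C) h2) := by
    have : cokernel.π c ≫ cokernel.map c b a (𝟙 C) h2 = cokernel.π b := by simp
    exact epi_of_epi_fac this
  haveI : Mono (cokernel.map a c (𝟙 A) b h1) := by
    rw [Preadditive.mono_iff_cancel_zero]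
    intro K k hk
    obtain ⟨K', π, hπ, y, hy⟩ := surjective_up_to_refinements_of_epi (cokernel.π a) k
    have hy0 : (y ≫ b) ≫ cokernel.π c = 0 := by
      have : cokernel.π a ≫ cokernel.map a c (𝟙 A) b h1 = b ≫ cokernel.π c := by simp
      rw [Category.assoc, ← this, ← Category.assoc, ← hy, Category.assoc, hk, comp_zero]
    have hl := Abelian.monoLift_comp c (y ≫ b) hy0
    have hy' : Abelian.monoLift c (y ≫ b) hy0 ≫ a = y := by
      apply (cancel_mono b).1
      rw [Category.assoc, hc]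
      exact hl
    have : π ≫ k = 0 := by
      rw [hy, ← hy', Category.assoc, cokernel.condition, comp_zero]
    exact (cancel_epi π).1 (this.trans comp_zero.symm)
  refine ShortComplex.ShortExact.mk' ?_ inferInstance inferInstance
  rw [ShortComplex.exact_iff_exact_up_to_refinements]
  intro K x₂ hx₂
  obtain ⟨K', π, hπ, y, hy⟩ := surjective_up_to_refinements_of_epi (cokernel.π c) x₂
  have hy0 : y ≫ cokernel.π b = 0 := by
    have : cokernel.π c ≫ cokernel.map c b a (𝟙 C) h2 = cokernel.π b := by simp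
    rw [← this, ← Category.assoc, ← hy, Category.assoc]
    exact (congrArg (π ≫ ·) hx₂).trans comp_zero
  refine ⟨K', π, hπ, Abelian.monoLift b y hy0 ≫ cokernel.π a, ?_⟩
  have : cokernel.π a ≫ cokernel.map a c (𝟙 A) b h1 = b ≫ cokernel.π c := by simp
  dsimp
  rw [Category.assoc, this, ← Category.assoc, Abelian.monoLift_comp]
  exact hy

theorem main' {A B C : 𝒜} (a : A ⟶ B) (c : A ⟶ C) (b : B ⟶ C) [Mono a] [Mono b] [Mono c]
    (p : A ⟶ A) (q : C ⟶ C) (hp : p = 𝟙 A) (hq : q = 𝟙 C)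
    (h1 : a ≫ b = p ≫ c) (h2 : c ≫ q = a ≫ b) :
    ∃ w : cokernel.map a c p b h1 ≫ cokernel.map c b a q h2 = 0,
      (ShortComplex.mk _ _ w).ShortExact := by
  subst hp hq
  exact main a c b h1 h2

end QuotSeq
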