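import Groth.Agent.Lib.QuotStCart_lead
import Groth.Agent.Lib.AlgStLocQ4_lead

/-! # The canonical map `X ⟶ [X/G]` is representable, with the properties of `G ⟶ S` (lead) -/

set_option backward.isDefEq.respectTransparency false
set_option backward.isDefEq.respectTransparency.types false
set_option linter.unusedSimpArgs false
set_option linter.unusedVariables false
set_option linter.unusedSectionVars false
set_option linter.style.longLine false
set_option maxHeartbeats 800000

universe w v u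

open CategoryTheory CategoryTheory.Limits MonoidalCategory CartesianMonoidalCategory MonObj GrpObj AlgebraicGeometry Opposite

namespace Groth.Agent.Lib.QuotStAtlas

open AlgSt FibCat Stk Groth.Agent.Lib.QuotStBasic Groth.Agent.Lib.QuotStCart Groth.Agent.Lib.OfPshCalc
  Groth.Agent.Lib.FibCat_helper6 Groth.Agent.Lib.FibCat3_helper6
  Groth.Agent.Lib.FibCat14_helper6 Groth.Agent.Lib.FibCatPaste

variable {S : Scheme.{u}} {K : Precoverage Scheme.{u}} {G : Over S} [GrpObj G] {X : Over S}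
  {aX : AlgGrp.Action G X}

section general

/-- morphisms of `[X/G]` are cartesian: cancellation -/
theorem hom_ext_of_comp {A B C : QuotObj K G aX} (h : B ⟶ A) (k₁ k₂ : C ⟶ B)
    (hb : k₁.base = k₂.base) (hh : k₁ ≫ h = k₂ ≫ h) : k₁ = k₂ := by
  apply QuotObj.hom_ext hb
  apply h.cart.hom_ext
  · exact congrArg QuotObj.Hom.top hh
  · rw [k₁.cart.w, k₂.cart.w, hb]

/-- morphisms of `[X/G]` are cartesian: lifting -/
noncomputable def liftHom {A B C : QuotObj K G aX} (h : B ⟶ A) (k : C ⟶ A) (c' : C.base ⟶ B.base)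
    (hc : c' ≫ h.base = k.base) : C ⟶ B where
  base := c'
  top := h.cart.lift k.top (C.π ≫ c') (by rw [k.cart.w, Category.assoc, hc])
  eqv := by
    apply h.cart.hom_ext
    · simp only [Category.assoc, IsPullback.lift_fst]
      rw [k.eqv, h.eqv, ← MonoidalCategory.whiskerLeft_comp_assoc, IsPullback.lift_fst]
    · simp only [Category.assoc, IsPullback.lift_snd]
      rw [B.cart.w, whiskerLeft_snd_assoc, IsPullback.lift_snd, reassoc_of% C.cart.w]
  cart := IsPullback.of_right (h₁₂ := h.top) (h₂₂ := h.base)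
    (by rw [IsPullback.lift_fst, hc]; exact k.cart) (IsPullback.lift_snd _ _ _ _) h.cart
  wφ := by rw [← h.wφ, ← Category.assoc, IsPullback.lift_fst, k.wφ]

theorem liftHom_comp {A B C : QuotObj K G aX} (h : B ⟶ A) (k : C ⟶ A) (c' : C.base ⟶ B.base)
    (hc : c' ≫ h.base = k.base) : liftHom h k c' hc ≫ h = k :=
  QuotObj.hom_ext hc (IsPullback.lift_fst _ _ _ _)

theorem isIso_liftHom [K.HasIsos] {A B C : QuotObj K G aX} (h : B ⟶ A) (k : C ⟶ A) (c' : C.base ⟶ B.base)
    (hc : c' ≫ h.base = k.base) [hi : IsIso c'] : IsIso (liftHom h k c' hc) :=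
  haveI : IsIso (liftHom h k c' hc).base := hi
  isIso_of_isIso_base _

theorem unitSec_whisker_act' {P : Over S} (a : AlgGrp.Action G P) {T : Over S} (x : T ⟶ P) :
    unitSec T ≫ (G ◁ x) ≫ a.act = x := by
  have h1 : unitSec T ≫ (G ◁ x) = lift (toUnit T) x ≫ (η[G] ▷ P) := by
    apply CartesianMonoidalCategory.hom_ext
    · simp only [unitSec, Category.assoc, whiskerLeft_fst, whiskerRight_fst, lift_fst, lift_fst_assoc]
    · simp only [unitSec, Category.assoc, whiskerLeft_snd, whiskerRight_snd, lift_snd, lift_snd_assoc, Category.id_comp]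
  rw [reassoc_of% h1, a.one_act, leftUnitor_hom, lift_snd]

/-- a morphism from a trivial torsor is determined by the image of the unit section -/
theorem top_eq_of_triv [K.HasIsos] (B : QuotObj K G aX) (a : (ofSch X).obj)
    (κ : (quotMap K G aX).obj a ⟶ B) (t : G ⊗ a.base ⟶ B.P) (ht : t = κ.top) :
    t = (G ◁ (unitSec a.base ≫ t)) ≫ B.act.act ∧ (unitSec a.base ≫ t) ≫ B.φ = a.sec.down ∧
      (unitSec a.base ≫ t) ≫ B.π = κ.base := by
  have hb : (leftMul G a.base).act ≫ t = (G ◁ t) ≫ B.act.act := by rw [ht]; exact κ.eqv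
  have hφ : t ≫ B.φ = (G ◁ a.sec.down) ≫ aX.act := by rw [ht]; exact κ.wφ
  have hπ : t ≫ B.π = snd G a.base ≫ κ.base := by rw [ht]; exact κ.cart.w
  refine ⟨?_, ?_, ?_⟩
  · have h1 : lift (fst G a.base) (snd G a.base ≫ unitSec a.base) ≫ (G ◁ t) =
        G ◁ (unitSec a.base ≫ t) := by
      apply CartesianMonoidalCategory.hom_ext
      · simp only [Category.assoc, whiskerLeft_fst, lift_fst]
      · simp only [Category.assoc, whiskerLeft_snd, lift_snd, lift_snd_assoc]
    calc t = (lift (fst G a.base) (snd G a.base ≫ unitSec a.base) ≫ (leftMul G a.base).act) ≫ t := by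
            rw [id_eq_unit_act, Category.id_comp]
      _ = (G ◁ (unitSec a.base ≫ t)) ≫ B.act.act := by
            rw [Category.assoc, hb, reassoc_of% h1]
  · rw [Category.assoc, hφ]
    exact unitSec_whisker_act a.sec.down
  · rw [Category.assoc, hπ, unitSec_snd_assoc]

theorem trivHom_natural [K.HasIsos] (A : QuotObj K G aX) {T' T : Over S} (n : T' ⟶ T) (s : T ⟶ A.P)
    (s' : T' ⟶ A.P) (hn : n ≫ s = s')
    (k : (quotMap K G aX).obj ((ofOverCat X).obj (Over.mk (s' ≫ A.φ))) ⟶
      (quotMap K G aX).obj ((ofOverCat X).obj (Over.mk (s ≫ A.φ))))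
    (hkb : k.base = n) (hkt : k.top = G ◁ n) : k ≫ trivHom A s = trivHom A s' := by
  subst hn
  apply QuotObj.hom_ext
  · show k.base ≫ s ≫ A.π = (n ≫ s) ≫ A.π
    rw [hkb]
    exact (Category.assoc _ _ _).symm
  · show k.top ≫ (G ◁ s) ≫ A.act.act = (G ◁ (n ≫ s)) ≫ A.act.act
    rw [hkt, MonoidalCategory.whiskerLeft_comp]
    exact (Category.assoc _ _ _).symm

/-- the morphism to the terminal object of `Over U` -/
def toId {U : Over S} (c : Over U) : c ⟶ Over.mk (𝟙 U) := Over.homMk c.hom (Category.comp_id _)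

theorem toId_comp {U : Over S} {c' c : Over U} (m : c' ⟶ c) : m ≫ toId c = toId c' := by
  apply Over.OverMorphism.ext
  show m.left ≫ c.hom = c'.hom
  exact Over.w m

end general

section main

variable [K.HasIsos] (U : Over S) (y : FibCat.overCat U ⥤ᵇ QuotSt K G aX)

/-- the comparison of bases -/
noncomputable def β (c : Over U) : c.left ⟶ (y.obj c).base := eqToHom (y.w_obj c).symm

instance (c : Over U) : IsIso (β U y c) := by
  unfold β
  infer_instance

theorem β_nat {c' c : Over U} (m : c' ⟶ c) : β U y c' ≫ (y.map m).base = m.left ≫ β U y c := by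
  have h0 : (FibCat.overCat U).p.IsHomLift ((FibCat.overCat U).p.map m) m := inferInstance
  have h1 : (QuotSt K G aX).p.IsHomLift ((FibCat.overCat U).p.map m) (y.map m) :=
    BasedFunctor.preserves_isHomLift y _ m
  have h2 := IsHomLift.fac' (QuotSt K G aX).p ((FibCat.overCat U).p.map m) (y.map m)
  have h3 : eqToHom (y.w_obj c').symm ≫ (QuotSt K G aX).p.map (y.map m) =
      (FibCat.overCat U).p.map m ≫ eqToHom (y.w_obj c).symm := by
    rw [h2]
    simp
  exact h3

noncomputable abbrev Aof : QuotObj K G aX := y.obj (Over.mk (𝟙 U))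

noncomputable def β₀ : U ⟶ (Aof U y).base := β U y (Over.mk (𝟙 U))

instance : IsIso (β₀ U y) := by
  unfold β₀
  infer_instance

noncomputable def pU : (Aof U y).P ⟶ U := (Aof U y).π ≫ inv (β₀ U y)

theorem β_toId (c : Over U) : β U y c ≫ (y.map (toId c)).base = c.hom ≫ β₀ U y :=
  β_nat U y (toId c)

noncomputable abbrev aFun : ofSch (Aof U y).P ⥤ᵇ FibCat.overCat U :=
  BasedFunctor.comp (ofSpMap ((AlgSp.yon S).map (pU U y))) (toOverCat U)

noncomputable abbrev bFun : ofSch (Aof U y).P ⥤ᵇ ofSch X := ofSpMap ((AlgSp.yon S).map (Aof U y).φ)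

theorem chi_aux (w : (ofSch (Aof U y).P).obj) :
    β U y ((aFun U y).obj w) ≫ (y.map (toId ((aFun U y).obj w))).base =
      (trivHom (Aof U y) w.sec.down).base := by
  rw [β_toId]
  show (w.sec.down ≫ pU U y) ≫ β₀ U y = w.sec.down ≫ (Aof U y).π
  rw [pU, Category.assoc, Category.assoc, IsIso.inv_hom_id, Category.comp_id]

noncomputable def chi (w : (ofSch (Aof U y).P).obj) :
    (quotMap K G aX).obj ((bFun U y).obj w) ⟶ y.obj ((aFun U y).obj w) :=
  liftHom (y.map (toId ((aFun U y).obj w))) (trivHom (Aof U y) w.sec.down)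
    (β U y ((aFun U y).obj w)) (chi_aux U y w)

instance (w : (ofSch (Aof U y).P).obj) : IsIso (chi U y w) := by
  unfold chi
  exact isIso_liftHom _ _ _ _

theorem chi_comp (w : (ofSch (Aof U y).P).obj) :
    chi U y w ≫ y.map (toId ((aFun U y).obj w)) = trivHom (Aof U y) w.sec.down :=
  liftHom_comp _ _ _ _

theorem chi_natural {w' w : (ofSch (Aof U y).P).obj} (m : w' ⟶ w) :
    chi U y w' ≫ y.map ((aFun U y).map m) =
      (quotMap K G aX).map ((bFun U y).map m) ≫ chi U y w := by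
  have hm : m.hom ≫ w.sec.down = w'.sec.down := congrArg ULift.down m.map_sec
  apply hom_ext_of_comp (y.map (toId ((aFun U y).obj w)))
  · show β U y ((aFun U y).obj w') ≫ (y.map ((aFun U y).map m)).base =
      m.hom ≫ β U y ((aFun U y).obj w)
    exact β_nat U y ((aFun U y).map m)
  · rw [Category.assoc, Category.assoc, ← CategoryTheory.Functor.map_comp, toId_comp, chi_comp,
      chi_comp]
    exact (trivHom_natural (Aof U y) m.hom w.sec.down w'.sec.down hm _ rfl rfl).symm

noncomputable def eIsoA :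
    BasedFunctor.comp (aFun U y) y ≅ BasedFunctor.comp (bFun U y) (quotMap K G aX) :=
  BasedNatIso.mkNatIso
    (NatIso.ofComponents (fun w => (asIso (chi U y w)).symm)
      (fun {w' w} m => by
        show y.map ((aFun U y).map m) ≫ inv (chi U y w) =
          inv (chi U y w') ≫ (quotMap K G aX).map ((bFun U y).map m)
        rw [IsIso.comp_inv_eq, Category.assoc, IsIso.eq_inv_comp]
        exact chi_natural U y m))
    (fun w => by
      haveI : (QuotSt K G aX).p.IsHomLift (𝟙 w.base) (chi U y w) :=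
        IsHomLift.of_fac' (QuotSt K G aX).p (𝟙 w.base) (chi U y w) rfl
          (y.w_obj ((aFun U y).obj w)) (by
            show eqToHom (y.w_obj ((aFun U y).obj w)).symm =
              eqToHom rfl ≫ 𝟙 w.base ≫ eqToHom (y.w_obj ((aFun U y).obj w)).symm
            simp)
      show (QuotSt K G aX).p.IsHomLift (𝟙 w.base) (inv (chi U y w))
      infer_instance)

noncomputable abbrev cmpA : ofSch (Aof U y).P ⥤ᵇ fp y (quotMap K G aX) :=
  fpLift (aFun U y) (bFun U y) (eIsoA U y)

theorem cmpA_iso_hom (w : (ofSch (Aof U y).P).obj) :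
    ((cmpA U y).obj w).obj.iso.hom = inv (chi U y w) := rfl

instance cmpA_faithful : (cmpA U y).toFunctor.Faithful where
  map_injective := by
    intro s s' m m' h
    apply EltObj.hom_ext
    exact congrArg (fun n => n.hom.fst.left) h

theorem key_of_sq {w' w : (ofSch (Aof U y).P).obj}
    (f : (aFun U y).obj w' ⟶ (aFun U y).obj w) (g : (bFun U y).obj w' ⟶ (bFun U y).obj w)
    (hw' : chi U y w' ≫ y.map f = (quotMap K G aX).map g ≫ chi U y w) :
    f.left = g.hom ∧ g.hom ≫ w.sec.down = w'.sec.down := by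
  have hb : f.left = g.hom := by
    have e1 : β U y ((aFun U y).obj w') ≫ (y.map f).base = g.hom ≫ β U y ((aFun U y).obj w) :=
      congrArg QuotObj.Hom.base hw'
    rw [β_nat] at e1
    exact (cancel_mono (β U y ((aFun U y).obj w))).1 e1
  refine ⟨hb, ?_⟩
  have e3 : trivHom (Aof U y) w'.sec.down =
      (quotMap K G aX).map g ≫ trivHom (Aof U y) w.sec.down := by
    have e2 := eq_whisker hw' (y.map (toId ((aFun U y).obj w)))
    simp only [Category.assoc] at e2
    rw [← CategoryTheory.Functor.map_comp, toId_comp, chi_comp, chi_comp] at e2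
    exact e2
  have e5 : (G ◁ w'.sec.down) ≫ (Aof U y).act.act =
      (G ◁ g.hom) ≫ (G ◁ w.sec.down) ≫ (Aof U y).act.act :=
    congrArg QuotObj.Hom.top e3
  have e6 := whisker_eq (unitSec w'.base) e5
  rw [unitSec_whisker_act', ← MonoidalCategory.whiskerLeft_comp_assoc, unitSec_whisker_act'] at e6
  exact e6.symm

instance cmpA_full : (cmpA U y).toFunctor.Full where
  map_surjective := by
    intro w' w ψ
    have hw : y.map ψ.hom.fst ≫ inv (chi U y w) =
        inv (chi U y w') ≫ (quotMap K G aX).map ψ.hom.snd := ψ.hom.w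
    have hw' : chi U y w' ≫ y.map ψ.hom.fst = (quotMap K G aX).map ψ.hom.snd ≫ chi U y w := by
      have h1 := (IsIso.comp_inv_eq (chi U y w)).1 hw
      rw [h1, Category.assoc, IsIso.hom_inv_id_assoc]
    obtain ⟨hb, hs⟩ := key_of_sq U y ψ.hom.fst ψ.hom.snd hw'
    refine ⟨⟨ψ.hom.snd.hom, congrArg ULift.up hs⟩, ?_⟩
    apply fp_hom_ext
    · apply Over.OverMorphism.ext
      exact hb.symm
    · exact EltObj.hom_ext rfl

theorem cmpA_essSurj_aux (c : Over U) (x : c.left ⟶ X)
    (iot : y.obj c ≅ (quotMap K G aX).obj (⟨c.left, ⟨x⟩⟩ : (ofSch X).obj))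
    (hiot : fpProp y (quotMap K G aX) ⟨c, ⟨c.left, ⟨x⟩⟩, iot⟩) :
    ∃ (w : (ofSch (Aof U y).P).obj)
      (φ : (cmpA U y).obj w ≅ (⟨⟨c, ⟨c.left, ⟨x⟩⟩, iot⟩, hiot⟩ : (fp y (quotMap K G aX)).obj)),
      (fp y (quotMap K G aX)).p.IsHomLift (𝟙 c.left) φ.hom := by
  have hlift : (QuotSt K G aX).p.IsHomLift (𝟙 c.left) iot.hom := hiot
  have hb1 : iot.hom.base = eqToHom (y.w_obj c) ≫ 𝟙 c.left ≫ eqToHom rfl :=
    IsHomLift.fac' (QuotSt K G aX).p (𝟙 c.left) iot.hom
  have hb2 : β U y c ≫ iot.hom.base = 𝟙 c.left := by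
    rw [hb1]
    simp [β]
  have h3 : iot.hom.base ≫ iot.inv.base = 𝟙 _ := congrArg QuotObj.Hom.base iot.hom_inv_id
  have h4 : iot.inv.base ≫ iot.hom.base = 𝟙 _ := congrArg QuotObj.Hom.base iot.inv_hom_id
  haveI : IsIso iot.hom.base := ⟨⟨iot.inv.base, h3, h4⟩⟩
  have hb3 : iot.inv.base = β U y c := (cancel_mono iot.hom.base).1 (h4.trans hb2.symm)
  obtain ⟨κ, hκ⟩ : ∃ κ : (quotMap K G aX).obj (⟨c.left, ⟨x⟩⟩ : (ofSch X).obj) ⟶ Aof U y,
      κ = iot.inv ≫ y.map (toId c) := ⟨_, rfl⟩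
  have hκb : κ.base = c.hom ≫ β₀ U y := by
    rw [hκ]
    show iot.inv.base ≫ (y.map (toId c)).base = _
    rw [hb3]
    exact β_toId U y c
  obtain ⟨t₀, ht₀⟩ : ∃ t₀ : G ⊗ c.left ⟶ (Aof U y).P, t₀ = κ.top := ⟨_, rfl⟩
  obtain ⟨h1, h2, h3'⟩ := top_eq_of_triv (Aof U y) (⟨c.left, ⟨x⟩⟩ : (ofSch X).obj) κ t₀ ht₀
  obtain ⟨t, ht⟩ : ∃ t : c.left ⟶ (Aof U y).P, t = unitSec c.left ≫ t₀ := ⟨_, rfl⟩
  rw [← ht] at h1 h2 h3'
  have htp : t ≫ pU U y = c.hom := by
    rw [pU, ← Category.assoc, h3', hκb, Category.assoc, IsIso.hom_inv_id, Category.comp_id]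
  let w₀ : (ofSch (Aof U y).P).obj := ⟨c.left, ⟨t⟩⟩
  let i1 : (aFun U y).obj w₀ ≅ c := Over.isoMk (Iso.refl c.left) (by
    show 𝟙 c.left ≫ c.hom = t ≫ pU U y
    rw [Category.id_comp, htp])
  let i2 : (bFun U y).obj w₀ ≅ (⟨c.left, ⟨x⟩⟩ : (ofSch X).obj) :=
    idIso (Q := ((AlgSp.yon S).obj X).obj) c.left (congrArg ULift.up h2)
  have e0 : (G ◁ 𝟙 c.left) ≫ t₀ = t₀ := by
    rw [MonoidalCategory.whiskerLeft_id, Category.id_comp]
  have hsq : chi U y w₀ ≫ y.map i1.hom = (quotMap K G aX).map i2.hom ≫ iot.inv := by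
    apply hom_ext_of_comp (y.map (toId c))
    · show β U y ((aFun U y).obj w₀) ≫ (y.map i1.hom).base = 𝟙 c.left ≫ iot.inv.base
      rw [β_nat, hb3]
      rfl
    · rw [Category.assoc, Category.assoc, ← CategoryTheory.Functor.map_comp, toId_comp, chi_comp,
        ← hκ]
      apply QuotObj.hom_ext
      · show t ≫ (Aof U y).π = 𝟙 c.left ≫ κ.base
        rw [Category.id_comp, h3']
      · show (G ◁ t) ≫ (Aof U y).act.act = (G ◁ 𝟙 c.left) ≫ κ.top
        rw [← ht₀, e0]
        exact h1.symm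
  refine ⟨w₀, fpIsoMk (F := y) (G := quotMap K G aX) (X := (cmpA U y).obj w₀)
    (Y := ⟨⟨c, ⟨c.left, ⟨x⟩⟩, iot⟩, hiot⟩) i1 i2 ?_, ?_⟩
  · show y.map i1.hom ≫ iot.hom = inv (chi U y w₀) ≫ (quotMap K G aX).map i2.hom
    rw [IsIso.eq_inv_comp, ← Category.assoc, hsq, Category.assoc, Iso.inv_hom_id, Category.comp_id]
  · exact fpIsoMk_isHomLift _ _ _
      (IsHomLift.of_fac' (FibCat.overCat U).p (𝟙 c.left) i1.hom rfl rfl (by
        show 𝟙 c.left = eqToHom rfl ≫ 𝟙 c.left ≫ eqToHom rfl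
        simp))

theorem cmpA_essSurj (z : (fp y (quotMap K G aX)).obj) :
    ∃ (w : (ofSch (Aof U y).P).obj) (φ : (cmpA U y).obj w ≅ z),
      (fp y (quotMap K G aX)).p.IsHomLift (𝟙 ((fp y (quotMap K G aX)).p.obj z)) φ.hom := by
  obtain ⟨⟨c, ⟨T', ⟨x⟩⟩, iot⟩, hiot⟩ := z
  have hlift : (QuotSt K G aX).p.IsHomLift (𝟙 c.left) iot.hom := hiot
  have hT : T' = c.left := IsHomLift.codomain_eq (QuotSt K G aX).p (𝟙 c.left) iot.hom
  subst hT
  exact cmpA_essSurj_aux U y c x iot hiot

theorem cmpA_isEquivOver : IsEquivOver (cmpA U y) :=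
  isEquivOver_of_fullyFaithful (cmpA U y) (cmpA_essSurj U y)

theorem spMap_cmpA :
    spMapOfOver (BasedFunctor.comp (cmpA U y) (fpFst y (quotMap K G aX))) =
      (AlgSp.yon S).map (pU U y) := by
  have h0 : BasedFunctor.comp (cmpA U y) (fpFst y (quotMap K G aX)) = aFun U y := rfl
  rw [h0]
  refine (Groth.Agent.Lib.OfPshWith.spMapOfOver_comp_ofSpMap _ _).trans ?_
  rw [Groth.Agent.Lib.AlgStEquivP.spMapOfOver_toOverCat, Category.comp_id]

end main

theorem repWith_quotMap [K.HasIsos] (Q : MorphismProperty (AlgSp.Sp S))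
    (hQ : ∀ (A : QuotObj K G aX) (V : Over S) (b : A.base ⟶ V), IsIso b →
      Q ((AlgSp.yon S).map (A.π ≫ b))) :
    RepByAlgSpWith Q (quotMap K G aX) := by
  intro U y
  refine ⟨(AlgSp.ofScheme S).obj (Aof U y).P, cmpA U y, cmpA_isEquivOver U y, ?_⟩
  rw [spMap_cmpA]
  exact hQ (Aof U y) U (inv (β₀ U y)) inferInstance

/-! ### scheme-level properties of the torsor projection -/

theorem pi_props (A : QuotObj Scheme.fppfPrecoverage G aX) :
    Surjective A.π.left ∧
    ∀ (P : MorphismProperty Scheme.{u}) [P.IsStableUnderBaseChange]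
      [P.DescendsAlong (@Surjective ⊓ @Flat ⊓ @LocallyOfFinitePresentation)],
      P G.hom → P A.π.left := by
  obtain ⟨R, hR, hsec⟩ := A.loc
  haveI : Scheme.JointlySurjective Scheme.fppfPrecoverage.{u} := by
    unfold Scheme.fppfPrecoverage
    infer_instance
  choose T' f hf hrange using fun x : ↥A.base.left => Scheme.JointlySurjective.exists_eq R hR x
  choose s hs using fun x => hsec (f x) (hf x)
  have hs' : ∀ x, s x ≫ A.π.left = f x := hs
  obtain ⟨σ, hσι, hflat, hlfp⟩ : ∃ σ : ∐ T' ⟶ A.base.left, (∀ x, Sigma.ι T' x ≫ σ = f x) ∧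
      Flat σ ∧ LocallyOfFinitePresentation σ :=
    ⟨Sigma.desc f, fun x => Sigma.ι_desc _ _,
      IsZariskiLocalAtSource.sigmaDesc (fun x => (hR.2 (hf x)).1),
      IsZariskiLocalAtSource.sigmaDesc (fun x => (hR.2 (hf x)).2)⟩
  obtain ⟨st, hstι⟩ : ∃ st : ∐ T' ⟶ A.P.left, ∀ x, Sigma.ι T' x ≫ st = s x :=
    ⟨Sigma.desc s, fun x => Sigma.ι_desc _ _⟩
  have hsurj : Surjective σ := by
    refine ⟨fun z => ?_⟩
    obtain ⟨w, hw⟩ := hrange z
    refine ⟨(Sigma.ι T' z) w, ?_⟩
    rw [← Scheme.Hom.comp_apply, hσι]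
    exact hw
  have hst : st ≫ A.π.left = σ := by
    apply Sigma.hom_ext
    intro x
    rw [← Category.assoc, hstι, hσι]
    exact hs' x
  have hP : st ≫ A.P.hom = σ ≫ A.base.hom := by
    rw [← hst, Category.assoc, Over.w]
  let W : Over S := Over.mk (σ ≫ A.base.hom)
  let s' : W ⟶ A.P := Over.homMk st hP
  have sq : IsPullback ((G ◁ s') ≫ A.act.act) (snd G W) A.π (s' ≫ A.π) :=
    (isPullback_whiskerLeft s').paste_horiz A.cart
  have sq' : IsPullback (snd G W).left ((G ◁ s') ≫ A.act.act).left (s' ≫ A.π).left A.π.left :=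
    sq.flip.map (Over.forget S)
  have sqG : IsPullback (fst G W).left (snd G W).left G.hom W.hom :=
    (isPullback_fst_snd G W).map (Over.forget S)
  have hQσ : (@Surjective ⊓ @Flat ⊓ @LocallyOfFinitePresentation : MorphismProperty Scheme.{u})
      (s' ≫ A.π).left := by
    show (@Surjective ⊓ @Flat ⊓ @LocallyOfFinitePresentation : MorphismProperty Scheme.{u})
      (st ≫ A.π.left)
    rw [hst]
    exact ⟨⟨hsurj, hflat⟩, hlfp⟩
  refine ⟨?_, ?_⟩
  · haveI : Surjective (st ≫ A.π.left) := by rw [hst]; exact hsurj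
    exact Surjective.of_comp st A.π.left
  · intro P _ _ hPG
    have h1 : P (snd G W).left := MorphismProperty.of_isPullback (P := P) sqG hPG
    exact MorphismProperty.of_isPullback_of_descendsAlong
      (Q := @Surjective ⊓ @Flat ⊓ @LocallyOfFinitePresentation) sq' hQσ h1

theorem quotMap_repWith_of (P : MorphismProperty Scheme.{u}) [P.IsStableUnderBaseChange]
    [P.IsStableUnderComposition]
    [P.DescendsAlong (@Surjective ⊓ @Flat ⊓ @LocallyOfFinitePresentation)]
    (hE : ∀ ⦃A B : Scheme.{u}⦄ (g : A ⟶ B), Etale g → P g) (hG : P G.hom) :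
    RepByAlgSpWith (AlgSp.LocP P)
      (BasedFunctor.comp (ofOverCat X) (quotMap Scheme.fppfPrecoverage G aX)) := by
  apply Groth.Agent.Lib.AlgStBC.repWith_precomp_equiv _ (ofOverCat X)
    (Groth.Agent.Lib.OfPshAlgSt.ofOverCat_isEquivOver X)
  apply repWith_quotMap
  intro A V b hb
  apply Groth.Agent.Lib.AlgStLocQ.locP_yon_map_of P hE
  show P (A.π.left ≫ b.left)
  haveI : IsIso b.left := (inferInstance : IsIso ((Over.forget S).map b))
  exact (P.cancel_right_of_respectsIso _ _).2 ((pi_props A).2 P hG)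

theorem quotMap_repWith_surj :
    RepByAlgSpWith AlgSp.IsSurjectiveMor
      (BasedFunctor.comp (ofOverCat X) (quotMap Scheme.fppfPrecoverage G aX)) := by
  apply Groth.Agent.Lib.AlgStBC.repWith_precomp_equiv _ (ofOverCat X)
    (Groth.Agent.Lib.OfPshAlgSt.ofOverCat_isEquivOver X)
  apply repWith_quotMap
  intro A V b hb
  refine (Groth.Agent.Lib.AlgSpPoints_helper7.repWith_surjective_iff _
    (AlgSp.representable_yon_map _)).1 ((AlgSp.repWith_yon_map_iff @Surjective _).2 ?_)
  show Surjective (A.π.left ≫ b.left)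
  haveI := (pi_props A).1
  haveI : IsIso b.left := (inferInstance : IsIso ((Over.forget S).map b))
  infer_instance

theorem result_flat_lfp [Flat G.hom] [LocallyOfFinitePresentation G.hom] :
    RepByAlgSpWith (AlgSp.LocP @Flat)
        (BasedFunctor.comp (ofOverCat X) (quotMap Scheme.fppfPrecoverage G aX)) ∧
      RepByAlgSpWith (AlgSp.LocP @LocallyOfFinitePresentation)
        (BasedFunctor.comp (ofOverCat X) (quotMap Scheme.fppfPrecoverage G aX)) ∧
      RepByAlgSpWith AlgSp.IsSurjectiveMor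
        (BasedFunctor.comp (ofOverCat X) (quotMap Scheme.fppfPrecoverage G aX)) := by
  haveI := Groth.Agent.Lib.AlgSpLocP2_helper7.flat_descendsAlong
  exact ⟨quotMap_repWith_of @Flat (fun _ _ g hg => inferInstance) inferInstance,
    quotMap_repWith_of @LocallyOfFinitePresentation (fun _ _ g hg => inferInstance) inferInstance,
    quotMap_repWith_surj⟩

theorem result_smooth [Smooth G.hom] :
    RepByAlgSpWith (AlgSp.LocP @Smooth)
        (BasedFunctor.comp (ofOverCat X) (quotMap Scheme.fppfPrecoverage G aX)) ∧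
      RepByAlgSpWith AlgSp.IsSurjectiveMor
        (BasedFunctor.comp (ofOverCat X) (quotMap Scheme.fppfPrecoverage G aX)) :=
  ⟨quotMap_repWith_of @Smooth (fun _ _ g hg => inferInstance) inferInstance,
    quotMap_repWith_surj⟩

end Groth.Agent.Lib.QuotStAtlas
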