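import Groth.Prelude.Def_AlgSt5

/-! # Basic calculus in the quotient category `[X/G]` (lead): trivial torsors and their morphisms -/

set_option backward.isDefEq.respectTransparency false
set_option backward.isDefEq.respectTransparency.types false
set_option linter.unusedSimpArgs false
set_option linter.unusedVariables false
set_option linter.unusedSectionVars false
set_option linter.style.longLine false
set_option maxHeartbeats 800000

universe w v u

open CategoryTheory CategoryTheory.Limits MonoidalCategory CartesianMonoidalCategory MonObj GrpObj AlgebraicGeometry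

namespace Groth.Agent.Lib.QuotStBasic

open AlgSt

variable {S : Scheme.{u}} {K : Precoverage Scheme.{u}} {G : Over S} [GrpObj G] {X : Over S} {aX : AlgGrp.Action G X}

theorem hμ (Y : Over S) : fst (G ⊗ G) Y ≫ μ[G] = (fst _ _ ≫ fst G G) * (fst _ _ ≫ snd G G) := by
  rw [Hom.mul_def, ← comp_lift, lift_fst_snd, Category.comp_id]

theorem leftMul_act_whisker {T Y : Over S} (a : T ⟶ Y) :
    (leftMul G T).act ≫ (G ◁ a) = (G ◁ (G ◁ a)) ≫ (α_ G G Y).inv ≫ (μ[G] ▷ Y) := by
  apply CartesianMonoidalCategory.hom_ext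
  · simp only [leftMul, Category.assoc, lift_fst, lift_snd, lift_fst_assoc, lift_snd_assoc, comp_lift, comp_mul, whiskerLeft_fst, whiskerLeft_snd, whiskerLeft_fst_assoc, whiskerLeft_snd_assoc, whiskerRight_fst, whiskerRight_snd, whiskerRight_fst_assoc, whiskerRight_snd_assoc, associator_hom_fst, associator_hom_snd_fst, associator_hom_snd_snd, associator_hom_snd_fst_assoc, associator_hom_snd_snd_assoc, associator_inv_fst_fst, associator_inv_fst_snd, associator_inv_snd, associator_inv_fst_fst_assoc, associator_inv_fst_snd_assoc, associator_inv_snd_assoc, hμ]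
  · simp only [leftMul, Category.assoc, lift_fst, lift_snd, lift_fst_assoc, lift_snd_assoc, comp_lift, comp_mul, whiskerLeft_fst, whiskerLeft_snd, whiskerLeft_fst_assoc, whiskerLeft_snd_assoc, whiskerRight_fst, whiskerRight_snd, whiskerRight_fst_assoc, whiskerRight_snd_assoc, associator_hom_fst, associator_hom_snd_fst, associator_hom_snd_snd, associator_hom_snd_fst_assoc, associator_hom_snd_snd_assoc, associator_inv_fst_fst, associator_inv_fst_snd, associator_inv_snd, associator_inv_fst_fst_assoc, associator_inv_fst_snd_assoc, associator_inv_snd_assoc]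

theorem act_assoc' {P : Over S} (a : AlgGrp.Action G P) :
    (G ◁ a.act) ≫ a.act = (α_ G G P).inv ≫ (μ[G] ▷ P) ≫ a.act := by
  rw [a.mul_act, Iso.inv_hom_id_assoc]

/-- The morphism from the trivial torsor determined by a section `s` of the torsor of `A`. -/
noncomputable def trivHom [K.HasIsos] (A : QuotObj K G aX) {T' : Over S} (s : T' ⟶ A.P) :
    (quotMap K G aX).obj ((ofOverCat X).obj (Over.mk (s ≫ A.φ))) ⟶ A where
  base := s ≫ A.π
  top := (G ◁ s) ≫ A.act.act
  eqv := by
    show (leftMul G T').act ≫ (G ◁ s) ≫ A.act.act = (G ◁ ((G ◁ s) ≫ A.act.act)) ≫ A.act.act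
    rw [MonoidalCategory.whiskerLeft_comp, Category.assoc, act_assoc', reassoc_of% (leftMul_act_whisker s)]
  cart := (isPullback_whiskerLeft s).paste_horiz A.cart
  wφ := by
    show ((G ◁ s) ≫ A.act.act) ≫ A.φ = (G ◁ (s ≫ A.φ)) ≫ aX.act
    rw [Category.assoc, A.eqv, ← MonoidalCategory.whiskerLeft_comp_assoc]

theorem quotObj_locally [K.HasIsos] (A : QuotObj K G aX) :
    ∃ (R : Presieve A.base.left) (_ : R ∈ K A.base.left),
      ∀ ⦃T' : Scheme.{u}⦄ (f : T' ⟶ A.base.left), R f →
        ∃ (x : Over.mk (f ≫ A.base.hom) ⟶ X)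
          (h : (quotMap K G aX).obj ((ofOverCat X).obj (Over.mk x)) ⟶ A),
          h.base = Over.homMk f rfl := by
  obtain ⟨R, hR, hsec⟩ := A.loc
  refine ⟨R, hR, fun T' f hf => ?_⟩
  obtain ⟨s, hs⟩ := hsec f hf
  have hs' : s ≫ A.π.left = f := hs
  have hw : s ≫ A.P.hom = f ≫ A.base.hom := by
    rw [← hs', Category.assoc, Over.w]
  let s' : Over.mk (f ≫ A.base.hom) ⟶ A.P := Over.homMk s hw
  refine ⟨s' ≫ A.φ, trivHom A s', ?_⟩
  apply Over.OverMorphism.ext
  exact hs'

/-- the unit section of the trivial torsor -/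
noncomputable def unitSec (T : Over S) : T ⟶ G ⊗ T := lift (toUnit T ≫ η[G]) (𝟙 T)

@[reassoc (attr := simp)]
theorem unitSec_snd (T : Over S) : unitSec (G := G) T ≫ snd G T = 𝟙 T := lift_snd _ _

@[reassoc (attr := simp)]
theorem unitSec_fst (T : Over S) : unitSec (G := G) T ≫ fst G T = 1 := by
  rw [unitSec, lift_fst, Hom.one_def]

theorem unitSec_whisker_act {T : Over S} (x : T ⟶ X) : unitSec T ≫ (G ◁ x) ≫ aX.act = x := by
  have h1 : unitSec T ≫ (G ◁ x) = lift (toUnit T) x ≫ (η[G] ▷ X) := by
    apply CartesianMonoidalCategory.hom_ext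
    · simp only [unitSec, Category.assoc, whiskerLeft_fst, whiskerRight_fst, lift_fst, lift_fst_assoc]
    · simp only [unitSec, Category.assoc, whiskerLeft_snd, whiskerRight_snd, lift_snd, lift_snd_assoc, Category.id_comp]
  rw [reassoc_of% h1, aX.one_act, leftUnitor_hom, lift_snd]

/-- `(h, t) = h · (1, t)`. -/
theorem id_eq_unit_act (T : Over S) :
    lift (fst G T) (snd G T ≫ unitSec T) ≫ (leftMul G T).act = 𝟙 (G ⊗ T) := by
  apply CartesianMonoidalCategory.hom_ext
  · simp only [leftMul, Category.assoc, lift_fst, lift_snd, lift_fst_assoc, lift_snd_assoc, comp_lift, comp_mul, unitSec_fst, Category.id_comp, comp_one, _root_.mul_one]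
  · simp only [leftMul, Category.assoc, lift_fst, lift_snd, lift_fst_assoc, lift_snd_assoc, comp_lift, comp_mul, unitSec_snd, Category.id_comp, Category.comp_id]

/-- Every morphism between trivial torsors is right multiplication by a point of `G`. -/
theorem hom_trivial_eq [K.HasIsos] {T T' : Over S} (f : T ⟶ T') (x : T ⟶ X) (x' : T' ⟶ X)
    (h : (quotMap K G aX).obj ((ofOverCat X).obj (Over.mk x)) ⟶ (quotMap K G aX).obj ((ofOverCat X).obj (Over.mk x')))
    (hf : h.base = f) :
    ∃ g : T ⟶ G, lift g (f ≫ x') ≫ aX.act = x ∧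
          h.top = lift (fst G T * (snd G T ≫ g)) (snd G T ≫ f) := by
  obtain ⟨t, ht⟩ : ∃ t : G ⊗ T ⟶ G ⊗ T', t = h.top := ⟨_, rfl⟩
  have ha : t ≫ snd G T' = snd G T ≫ f := by
    have := h.cart.w
    rw [hf] at this
    rw [ht]
    exact this
  have hb : (leftMul G T).act ≫ t = (G ◁ t) ≫ (leftMul G T').act := by
    rw [ht]
    exact h.eqv
  have hc : t ≫ (G ◁ x') ≫ aX.act = (G ◁ x) ≫ aX.act := by
    rw [ht]
    exact h.wφ
  rw [← ht]
  refine ⟨unitSec T ≫ t ≫ fst G T', ?_, ?_⟩
  · have h1 : lift (unitSec T ≫ t ≫ fst G T') (f ≫ x') = unitSec T ≫ t ≫ (G ◁ x') := by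
      apply CartesianMonoidalCategory.hom_ext
      · simp only [Category.assoc, whiskerLeft_fst, lift_fst]
      · simp only [Category.assoc, whiskerLeft_snd, lift_snd, reassoc_of% ha, unitSec_snd_assoc]
    rw [h1, Category.assoc, Category.assoc, hc, unitSec_whisker_act]
  · have h2 : t = lift (fst G T) (snd G T ≫ unitSec T) ≫ (leftMul G T).act ≫ t := by
      rw [← Category.assoc, id_eq_unit_act, Category.id_comp]
    rw [hb] at h2
    refine h2.trans ?_
    apply CartesianMonoidalCategory.hom_ext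
    · simp only [leftMul, Category.assoc, lift_fst, lift_snd, lift_fst_assoc, lift_snd_assoc, comp_lift, comp_mul, whiskerLeft_fst, whiskerLeft_snd, whiskerLeft_fst_assoc, whiskerLeft_snd_assoc]
    · simp only [leftMul, Category.assoc, lift_fst, lift_snd, lift_fst_assoc, lift_snd_assoc, comp_lift, comp_mul, whiskerLeft_fst, whiskerLeft_snd, whiskerLeft_fst_assoc, whiskerLeft_snd_assoc, ha, unitSec_snd_assoc]

/-- right multiplication by `g` is an isomorphism of `G ⊗ T`. -/
theorem isIso_rightMul {T : Over S} (g : T ⟶ G) :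
    IsIso (lift (fst G T * (snd G T ≫ g)) (snd G T)) := by
  refine ⟨⟨lift (fst G T * (snd G T ≫ g)⁻¹) (snd G T), ?_, ?_⟩⟩
  · simp only [comp_lift, comp_mul, comp_inv, lift_fst, lift_snd, lift_snd_assoc, mul_inv_cancel_right, lift_fst_snd]
  · simp only [comp_lift, comp_mul, comp_inv, lift_fst, lift_snd, lift_snd_assoc, inv_mul_cancel_right, lift_fst_snd]

/-- Right multiplication by `g` defines a morphism of trivial torsors. -/
noncomputable def rightMulHom [K.HasIsos] {T T' : Over S} (f : T ⟶ T') (x : T ⟶ X) (x' : T' ⟶ X)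
    (g : T ⟶ G) (hg : lift g (f ≫ x') ≫ aX.act = x) :
    (quotMap K G aX).obj ((ofOverCat X).obj (Over.mk x)) ⟶ (quotMap K G aX).obj ((ofOverCat X).obj (Over.mk x')) where
  base := f
  top := lift (fst G T * (snd G T ≫ g)) (snd G T ≫ f)
  eqv := by
    show (leftMul G T).act ≫ lift (fst G T * (snd G T ≫ g)) (snd G T ≫ f) =
      (G ◁ lift (fst G T * (snd G T ≫ g)) (snd G T ≫ f)) ≫ (leftMul G T').act
    apply CartesianMonoidalCategory.hom_ext
    · simp only [leftMul, Category.assoc, lift_fst, lift_snd, lift_fst_assoc, lift_snd_assoc, comp_lift, comp_mul, whiskerLeft_fst, whiskerLeft_snd, whiskerLeft_fst_assoc, whiskerLeft_snd_assoc, _root_.mul_assoc]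
    · simp only [leftMul, Category.assoc, lift_fst, lift_snd, lift_fst_assoc, lift_snd_assoc, comp_lift, comp_mul, whiskerLeft_fst, whiskerLeft_snd, whiskerLeft_fst_assoc, whiskerLeft_snd_assoc]
  cart := by
    have hρ := isIso_rightMul (G := G) g
    have h1 : IsPullback (lift (fst G T * (snd G T ≫ g)) (snd G T)) (snd G T) (snd G T) (𝟙 T) :=
      IsPullback.of_horiz_isIso ⟨by rw [lift_snd, Category.comp_id]⟩
    have h2 := h1.paste_horiz (isPullback_whiskerLeft (G := G) f)
    have e1 : lift (fst G T * (snd G T ≫ g)) (snd G T) ≫ (G ◁ f) =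
        lift (fst G T * (snd G T ≫ g)) (snd G T ≫ f) := by
      apply CartesianMonoidalCategory.hom_ext
      · simp only [Category.assoc, whiskerLeft_fst, lift_fst]
      · simp only [Category.assoc, whiskerLeft_snd, lift_snd, lift_snd_assoc]
    rw [e1, Category.id_comp] at h2
    exact h2
  wφ := by
    show lift (fst G T * (snd G T ≫ g)) (snd G T ≫ f) ≫ (G ◁ x') ≫ aX.act = (G ◁ x) ≫ aX.act
    have h3 : (G ◁ lift g (f ≫ x')) ≫ (α_ G G X).inv ≫ (μ[G] ▷ X) =
        lift (fst G T * (snd G T ≫ g)) (snd G T ≫ f) ≫ (G ◁ x') := by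
      apply CartesianMonoidalCategory.hom_ext
      · simp only [Category.assoc, lift_fst, lift_snd, lift_fst_assoc, lift_snd_assoc, comp_lift, comp_mul, whiskerLeft_fst, whiskerLeft_snd, whiskerLeft_fst_assoc, whiskerLeft_snd_assoc, whiskerRight_fst, whiskerRight_snd, whiskerRight_fst_assoc, whiskerRight_snd_assoc, associator_inv_fst_fst, associator_inv_fst_snd, associator_inv_snd, associator_inv_fst_fst_assoc, associator_inv_fst_snd_assoc, associator_inv_snd_assoc, hμ]
      · simp only [Category.assoc, lift_fst, lift_snd, lift_fst_assoc, lift_snd_assoc, comp_lift, comp_mul, whiskerLeft_fst, whiskerLeft_snd, whiskerLeft_fst_assoc, whiskerLeft_snd_assoc, whiskerRight_fst, whiskerRight_snd, whiskerRight_fst_assoc, whiskerRight_snd_assoc, associator_inv_fst_fst, associator_inv_fst_snd, associator_inv_snd, associator_inv_fst_fst_assoc, associator_inv_fst_snd_assoc, associator_inv_snd_assoc]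
    rw [← reassoc_of% h3, ← hg, MonoidalCategory.whiskerLeft_comp, Category.assoc, act_assoc']

end Groth.Agent.Lib.QuotStBasic
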