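import Groth.Agent.Lib.QuotStBasic_lead
import Groth.Agent.Lib.OfPshCalc_lead

/-! # The square `G × X ⇉ X → [X/G]` is 2-cartesian (lead) -/

set_option backward.isDefEq.respectTransparency false
set_option backward.isDefEq.respectTransparency.types false
set_option linter.unusedSimpArgs false
set_option linter.unusedVariables false
set_option linter.unusedSectionVars false
set_option linter.style.longLine false
set_option maxHeartbeats 800000

universe w v u

open CategoryTheory CategoryTheory.Limits MonoidalCategory CartesianMonoidalCategory MonObj GrpObj AlgebraicGeometry Opposite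

namespace Groth.Agent.Lib.QuotStCart

open AlgSt FibCat Stk Groth.Agent.Lib.QuotStBasic Groth.Agent.Lib.OfPshCalc
  Groth.Agent.Lib.FibCat_helper6 Groth.Agent.Lib.FibCat3_helper6
  Groth.Agent.Lib.FibCat14_helper6 Groth.Agent.Lib.FibCatPaste

variable {S : Scheme.{u}} {K : Precoverage Scheme.{u}} [K.HasIsos] {G : Over S} [GrpObj G] {X : Over S}
  {aX : AlgGrp.Action G X}

/-- a morphism of `[X/G]` over an isomorphism is an isomorphism -/
theorem isIso_of_isIso_base {A B : QuotObj K G aX} (h : A ⟶ B) [IsIso h.base] : IsIso h := by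
  have ht : IsIso h.top := h.cart.isIso_fst_of_isIso
  refine ⟨⟨{ base := inv h.base, top := inv h.top, eqv := ?_, cart := ?_, wφ := ?_ }, ?_, ?_⟩⟩
  · rw [IsIso.comp_inv_eq, Category.assoc, h.eqv, ← MonoidalCategory.whiskerLeft_comp_assoc,
      IsIso.inv_hom_id, MonoidalCategory.whiskerLeft_id, Category.id_comp]
  · exact IsPullback.of_horiz_isIso ⟨by
      rw [IsIso.inv_comp_eq, ← Category.assoc, h.cart.w, Category.assoc, IsIso.hom_inv_id,
        Category.comp_id]⟩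
  · rw [IsIso.inv_comp_eq, h.wφ]
  · exact QuotObj.hom_ext (IsIso.hom_inv_id _) (IsIso.hom_inv_id _)
  · exact QuotObj.hom_ext (IsIso.inv_hom_id _) (IsIso.inv_hom_id _)

variable (K G aX) in
/-- the component of the 2-isomorphism: right multiplication by the group coordinate -/
noncomputable def epsHom (w : (ofSch (G ⊗ X)).obj) :
    (quotMap K G aX).obj ((ofSpMap ((AlgSp.yon S).map aX.act)).obj w) ⟶
    (quotMap K G aX).obj ((ofSpMap ((AlgSp.yon S).map (snd G X))).obj w) :=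
  rightMulHom (K := K) (𝟙 w.base) (w.sec.down ≫ aX.act) (w.sec.down ≫ snd G X)
    (w.sec.down ≫ fst G X) (by
      rw [Category.id_comp, ← comp_lift, lift_fst_snd, Category.comp_id])

theorem epsHom_base (w : (ofSch (G ⊗ X)).obj) : (epsHom K G aX w).base = 𝟙 w.base := rfl

theorem epsHom_top (w : (ofSch (G ⊗ X)).obj) : (epsHom K G aX w).top =
    lift (fst G w.base * (snd G w.base ≫ w.sec.down ≫ fst G X)) (snd G w.base ≫ 𝟙 w.base) := rfl

instance (w : (ofSch (G ⊗ X)).obj) : IsIso (epsHom K G aX w) :=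
  haveI : IsIso (epsHom K G aX w).base := by
    show IsIso (𝟙 w.base)
    infer_instance
  isIso_of_isIso_base _

theorem epsHom_naturality {w' w : (ofSch (G ⊗ X)).obj} (m : w' ⟶ w) :
    (quotMap K G aX).map ((ofSpMap ((AlgSp.yon S).map aX.act)).map m) ≫ epsHom K G aX w =
      epsHom K G aX w' ≫ (quotMap K G aX).map ((ofSpMap ((AlgSp.yon S).map (snd G X))).map m) := by
  have hm : m.hom ≫ w.sec.down = w'.sec.down := congrArg ULift.down m.map_sec
  apply QuotObj.hom_ext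
  · show m.hom ≫ 𝟙 w.base = 𝟙 w'.base ≫ m.hom
    rw [Category.comp_id, Category.id_comp]
  · show (G ◁ m.hom) ≫ lift (fst G w.base * (snd G w.base ≫ w.sec.down ≫ fst G X))
        (snd G w.base ≫ 𝟙 w.base) =
      lift (fst G w'.base * (snd G w'.base ≫ w'.sec.down ≫ fst G X)) (snd G w'.base ≫ 𝟙 w'.base) ≫
        (G ◁ m.hom)
    rw [← hm]
    apply CartesianMonoidalCategory.hom_ext
    · simp only [Category.assoc, comp_lift, comp_mul, lift_fst, lift_snd, whiskerLeft_fst,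
        whiskerLeft_snd, whiskerLeft_snd_assoc, whiskerLeft_fst_assoc, lift_fst_assoc,
        Category.comp_id, Category.id_comp]
    · simp only [Category.assoc, comp_lift, comp_mul, lift_fst, lift_snd, whiskerLeft_fst,
        whiskerLeft_snd, whiskerLeft_snd_assoc, whiskerLeft_fst_assoc, lift_fst_assoc,
        lift_snd_assoc, Category.comp_id, Category.id_comp]

variable (K G aX) in
/-- the 2-isomorphism `π ∘ act ≅ π ∘ pr₂` -/
noncomputable def eIso :
    BasedFunctor.comp (ofSpMap ((AlgSp.yon S).map aX.act)) (quotMap K G aX) ≅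
      BasedFunctor.comp (ofSpMap ((AlgSp.yon S).map (snd G X))) (quotMap K G aX) :=
  BasedNatIso.mkNatIso
    (NatIso.ofComponents (fun w => asIso (epsHom K G aX w))
      (fun {w' w} m => epsHom_naturality m))
    (fun w => IsHomLift.of_fac' (QuotSt K G aX).p (𝟙 w.base) (epsHom K G aX w) rfl rfl (by
      show 𝟙 w.base = eqToHom rfl ≫ 𝟙 w.base ≫ eqToHom rfl
      simp))

variable (K G aX) in
/-- the comparison functor -/
noncomputable abbrev cmp : ofSch (G ⊗ X) ⥤ᵇ fp (quotMap K G aX) (quotMap K G aX) :=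
  fpLift (ofSpMap ((AlgSp.yon S).map aX.act)) (ofSpMap ((AlgSp.yon S).map (snd G X))) (eIso K G aX)

theorem cmp_iso_hom (w : (ofSch (G ⊗ X)).obj) :
    ((cmp K G aX).obj w).obj.iso.hom = epsHom K G aX w := rfl

instance cmp_faithful : (cmp K G aX).toFunctor.Faithful where
  map_injective := by
    intro s s' m m' h
    apply EltObj.hom_ext
    exact congrArg (fun n => n.hom.fst.hom) h

omit [K.HasIsos] in
theorem rightMul_cancel {T' T : Over S} (m₁ m₂ : T' ⟶ T) (g : T ⟶ G) (g' : T' ⟶ G)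
    (ht : (G ◁ m₁) ≫ lift (fst G T * (snd G T ≫ g)) (snd G T ≫ 𝟙 T) =
      lift (fst G T' * (snd G T' ≫ g')) (snd G T' ≫ 𝟙 T') ≫ (G ◁ m₂)) : m₁ ≫ g = g' := by
  have := congrArg (fun z => unitSec (G := G) T' ≫ z ≫ fst G T) ht
  simp only [Category.assoc, comp_lift, comp_mul, lift_fst, lift_snd, whiskerLeft_fst,
    whiskerLeft_snd, whiskerLeft_snd_assoc, whiskerLeft_fst_assoc, lift_fst_assoc,
    lift_snd_assoc, unitSec_fst, unitSec_snd_assoc, unitSec_fst_assoc, _root_.one_mul,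
    Category.comp_id, Category.id_comp] at this
  exact this

instance cmp_full : (cmp K G aX).toFunctor.Full where
  map_surjective := by
    intro w' w ψ
    obtain ⟨m₁, hm₁⟩ : ∃ m₁ : w'.base ⟶ w.base, m₁ = ψ.hom.fst.hom := ⟨_, rfl⟩
    obtain ⟨m₂, hm₂⟩ : ∃ m₂ : w'.base ⟶ w.base, m₂ = ψ.hom.snd.hom := ⟨_, rfl⟩
    have h1 : m₁ ≫ (w.sec.down ≫ aX.act) = w'.sec.down ≫ aX.act := by
      rw [hm₁]
      exact congrArg ULift.down ψ.hom.fst.map_sec
    have h2 : m₂ ≫ (w.sec.down ≫ snd G X) = w'.sec.down ≫ snd G X := by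
      rw [hm₂]
      exact congrArg ULift.down ψ.hom.snd.map_sec
    have hw : (quotMap K G aX).map ψ.hom.fst ≫ epsHom K G aX w =
        epsHom K G aX w' ≫ (quotMap K G aX).map ψ.hom.snd := ψ.hom.w
    have hb : m₁ ≫ 𝟙 w.base = 𝟙 w'.base ≫ m₂ := by
      rw [hm₁, hm₂]
      exact congrArg QuotObj.Hom.base hw
    have ht : (G ◁ m₁) ≫ lift (fst G w.base * (snd G w.base ≫ w.sec.down ≫ fst G X))
          (snd G w.base ≫ 𝟙 w.base) =
        lift (fst G w'.base * (snd G w'.base ≫ w'.sec.down ≫ fst G X))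
          (snd G w'.base ≫ 𝟙 w'.base) ≫ (G ◁ m₂) := by
      rw [hm₁, hm₂]
      exact congrArg QuotObj.Hom.top hw
    have h3 : m₁ = m₂ := (Category.comp_id _).symm.trans (hb.trans (Category.id_comp _))
    have key : m₁ ≫ w.sec.down ≫ fst G X = w'.sec.down ≫ fst G X := rightMul_cancel m₁ m₂ _ _ ht
    have hs : m₁ ≫ w.sec.down = w'.sec.down := by
      apply CartesianMonoidalCategory.hom_ext
      · rw [Category.assoc]
        exact key
      · rw [Category.assoc, h3]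
        exact h2
    refine ⟨⟨m₁, congrArg ULift.up hs⟩, ?_⟩
    apply fp_hom_ext
    · exact EltObj.hom_ext hm₁
    · exact EltObj.hom_ext (h3.trans hm₂)

/-- description of morphisms between trivial objects, for arbitrary objects of `ofSch X` -/
theorem hom_trivial_eq' (a b : (ofSch X).obj) (h : (quotMap K G aX).obj a ⟶ (quotMap K G aX).obj b) :
    ∃ g : a.base ⟶ G, lift g (h.base ≫ b.sec.down) ≫ aX.act = a.sec.down ∧
      h.top = lift (fst G a.base * (snd G a.base ≫ g)) (snd G a.base ≫ h.base) :=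
  hom_trivial_eq (K := K) h.base a.sec.down b.sec.down h rfl

omit [K.HasIsos] in
theorem top_compat {T T' : Over S} (t : T ⟶ T') (g : T ⟶ G) (x₂ : T' ⟶ X) :
    (G ◁ 𝟙 T) ≫ lift (fst G T * (snd G T ≫ g)) (snd G T ≫ t) =
      lift (fst G T * (snd G T ≫ lift g (t ≫ x₂) ≫ fst G X)) (snd G T ≫ 𝟙 T) ≫ (G ◁ t) := by
  apply CartesianMonoidalCategory.hom_ext
  · simp only [Category.assoc, comp_lift, comp_mul, lift_fst, lift_snd, whiskerLeft_fst,
      whiskerLeft_snd, whiskerLeft_snd_assoc, whiskerLeft_fst_assoc, lift_fst_assoc,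
      lift_snd_assoc, MonoidalCategory.whiskerLeft_id, Category.comp_id, Category.id_comp]
  · simp only [Category.assoc, comp_lift, comp_mul, lift_fst, lift_snd, whiskerLeft_fst,
      whiskerLeft_snd, whiskerLeft_snd_assoc, whiskerLeft_fst_assoc, lift_fst_assoc,
      lift_snd_assoc, MonoidalCategory.whiskerLeft_id, Category.comp_id, Category.id_comp]

theorem cmp_essSurj_aux (T T' : Over S) (x₁ : T ⟶ X) (x₂ : T' ⟶ X)
    (iot : (quotMap K G aX).obj (⟨T, ⟨x₁⟩⟩ : (ofSch X).obj) ≅ (quotMap K G aX).obj (⟨T', ⟨x₂⟩⟩ : (ofSch X).obj))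
    (hiot : fpProp (quotMap K G aX) (quotMap K G aX) ⟨⟨T, ⟨x₁⟩⟩, ⟨T', ⟨x₂⟩⟩, iot⟩) :
    ∃ (w : (ofSch (G ⊗ X)).obj)
      (φ : (cmp K G aX).obj w ≅ (⟨⟨⟨T, ⟨x₁⟩⟩, ⟨T', ⟨x₂⟩⟩, iot⟩, hiot⟩ : (fp (quotMap K G aX) (quotMap K G aX)).obj)),
      (fp (quotMap K G aX) (quotMap K G aX)).p.IsHomLift (𝟙 T) φ.hom := by
  obtain ⟨t, ht⟩ : ∃ t : T ⟶ T', t = iot.hom.base := ⟨_, rfl⟩
  let tI : T ≅ T' :=
    ⟨t, iot.inv.base, by rw [ht]; exact congrArg QuotObj.Hom.base iot.hom_inv_id,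
      by rw [ht]; exact congrArg QuotObj.Hom.base iot.inv_hom_id⟩
  obtain ⟨g, hg, htop⟩ := hom_trivial_eq' (K := K) (aX := aX) ⟨T, ⟨x₁⟩⟩ ⟨T', ⟨x₂⟩⟩ iot.hom
  have hg' : lift g (t ≫ x₂) ≫ aX.act = x₁ := by rw [ht]; exact hg
  have htop' : iot.hom.top = lift (fst G T * (snd G T ≫ g)) (snd G T ≫ t) := by rw [ht]; exact htop
  let w₀ : (ofSch (G ⊗ X)).obj := ⟨T, ⟨lift g (t ≫ x₂)⟩⟩
  let i1 : (ofSpMap ((AlgSp.yon S).map aX.act)).obj w₀ ≅ (⟨T, ⟨x₁⟩⟩ : (ofSch X).obj) :=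
    idIso (Q := ((AlgSp.yon S).obj X).obj) T (congrArg ULift.up hg')
  let i2 : (ofSpMap ((AlgSp.yon S).map (snd G X))).obj w₀ ≅ (⟨T', ⟨x₂⟩⟩ : (ofSch X).obj) :=
    eltIsoMk (Q := ((AlgSp.yon S).obj X).obj)
      (a := (ofSpMap ((AlgSp.yon S).map (snd G X))).obj w₀) (b := ⟨T', ⟨x₂⟩⟩) tI
      (congrArg ULift.up (lift_snd g (t ≫ x₂)).symm)
  refine ⟨w₀, fpIsoMk (F := quotMap K G aX) (G := quotMap K G aX)
    (X := (cmp K G aX).obj w₀) (Y := ⟨⟨⟨T, ⟨x₁⟩⟩, ⟨T', ⟨x₂⟩⟩, iot⟩, hiot⟩) i1 i2 ?_, ?_⟩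
  · apply QuotObj.hom_ext
    · show 𝟙 T ≫ iot.hom.base = 𝟙 T ≫ t
      rw [ht]
    · show (G ◁ 𝟙 T) ≫ iot.hom.top =
        lift (fst G T * (snd G T ≫ lift g (t ≫ x₂) ≫ fst G X)) (snd G T ≫ 𝟙 T) ≫ (G ◁ t)
      rw [htop']
      exact top_compat t g x₂
  · exact fpIsoMk_isHomLift _ _ _
      (isHomLift_of_hom_eq i1.hom rfl rfl (eqToHom_refl _ _).symm)

theorem cmp_essSurj (y : (fp (quotMap K G aX) (quotMap K G aX)).obj) :
    ∃ (w : (ofSch (G ⊗ X)).obj) (φ : (cmp K G aX).obj w ≅ y),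
      (fp (quotMap K G aX) (quotMap K G aX)).p.IsHomLift
        (𝟙 ((fp (quotMap K G aX) (quotMap K G aX)).p.obj y)) φ.hom := by
  obtain ⟨⟨⟨T, ⟨x₁⟩⟩, ⟨T', ⟨x₂⟩⟩, iot⟩, hiot⟩ := y
  exact cmp_essSurj_aux T T' x₁ x₂ iot hiot

theorem exists_isTwoCartOver :
    ∃ e : BasedFunctor.comp (ofSpMap ((AlgSp.yon S).map aX.act)) (quotMap K G aX) ≅
        BasedFunctor.comp (ofSpMap ((AlgSp.yon S).map (snd G X))) (quotMap K G aX),
      FibCat.IsTwoCartOver (ofSpMap ((AlgSp.yon S).map aX.act))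
        (ofSpMap ((AlgSp.yon S).map (snd G X))) e :=
  ⟨eIso K G aX, isEquivOver_of_fullyFaithful (cmp K G aX) cmp_essSurj⟩

end Groth.Agent.Lib.QuotStCart
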