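import Groth.Agent.Lib.QuotStBasic_lead
import Groth.Agent.Lib.OfPshCalc_lead
import Groth.Prelude.Def_AlgSp

/-! # Invariant maps to a sheaf factor uniquely through `[X/G]` (lead) -/

set_option backward.isDefEq.respectTransparency false
set_option backward.isDefEq.respectTransparency.types false
set_option linter.unusedSimpArgs false
set_option linter.unusedVariables false
set_option linter.unusedSectionVars false
set_option linter.style.longLine false
set_option maxHeartbeats 800000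

universe w v₂ u₂ v u

open CategoryTheory CategoryTheory.Limits MonoidalCategory CartesianMonoidalCategory MonObj GrpObj AlgebraicGeometry Opposite

namespace Groth.Agent.Lib.QuotStDesc

open AlgSt FibCat Stk Groth.Agent.Lib.QuotStBasic Groth.Agent.Lib.OfPshCalc

section generic

variable {C : Type u} [Category.{v} C] {𝒳 : BasedCategory.{v₂, u₂} C} {Q : Cᵒᵖ ⥤ Type w}

theorem basedFunctor_ext {𝒴 : BasedCategory.{v₂, u₂} C} {𝒵 : BasedCategory.{v, max u w} C}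
    (F F' : 𝒴 ⥤ᵇ 𝒵) (h : F.toFunctor = F'.toFunctor) : F = F' := by
  cases F
  cases F'
  cases h
  rfl

theorem elt_eq_mk (b : EltObj Q) {T : C} (e : b.base = T) :
    b = ⟨T, Q.map (eqToHom e.symm).op b.sec⟩ := by
  obtain ⟨B, r⟩ := b
  dsimp only at e
  subst e
  show (⟨B, r⟩ : EltObj Q) = ⟨B, Q.map (eqToHom rfl).op r⟩
  rw [eqToHom_refl, map_id_op_apply]

theorem eqToHom_hom {a b : EltObj Q} (e : a = b) :
    (eqToHom e).hom = eqToHom (congrArg EltObj.base e) := by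
  subst e
  rfl

variable (Φ : 𝒳 ⥤ᵇ ofPsh Q)

theorem gbase_eq (a : 𝒳.obj) : (Φ.toFunctor.obj a).base = 𝒳.p.obj a := Φ.w_obj a

theorem ghom_eq {a' a : 𝒳.obj} (m : a' ⟶ a) :
    (Φ.toFunctor.map m).hom =
      eqToHom (gbase_eq Φ a') ≫ 𝒳.p.map m ≫ eqToHom (gbase_eq Φ a).symm := by
  have h0 : 𝒳.p.IsHomLift (𝒳.p.map m) m := IsHomLift.map _ m
  have h1 : (ofPsh Q).p.IsHomLift (𝒳.p.map m) (Φ.toFunctor.map m) :=
    BasedFunctor.preserves_isHomLift Φ _ m
  exact IsHomLift.fac' (ofPsh Q).p (𝒳.p.map m) (Φ.toFunctor.map m)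

/-- the section over the base of `a` determined by `Φ a` -/
def gsec (a : 𝒳.obj) : Q.obj (op (𝒳.p.obj a)) :=
  Q.map (eqToHom (gbase_eq Φ a).symm).op (Φ.toFunctor.obj a).sec

theorem gsec_map {a' a : 𝒳.obj} (m : a' ⟶ a) :
    Q.map (𝒳.p.map m).op (gsec Φ a) = gsec Φ a' := by
  have h1 : eqToHom (gbase_eq Φ a').symm ≫ (Φ.toFunctor.map m).hom =
      𝒳.p.map m ≫ eqToHom (gbase_eq Φ a).symm := by
    rw [ghom_eq]; simp
  calc Q.map (𝒳.p.map m).op (gsec Φ a)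
      = Q.map (𝒳.p.map m ≫ eqToHom (gbase_eq Φ a).symm).op (Φ.toFunctor.obj a).sec :=
        (map_comp_op_apply Q _ _ _).symm
    _ = Q.map (eqToHom (gbase_eq Φ a').symm ≫ (Φ.toFunctor.map m).hom).op
          (Φ.toFunctor.obj a).sec := by rw [h1]
    _ = Q.map (eqToHom (gbase_eq Φ a').symm).op
          (Q.map (Φ.toFunctor.map m).hom.op (Φ.toFunctor.obj a).sec) :=
        map_comp_op_apply Q _ _ _
    _ = gsec Φ a' := by rw [(Φ.toFunctor.map m).map_sec]; rfl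

theorem gobj_eq (a : 𝒳.obj) : Φ.toFunctor.obj a = ⟨𝒳.p.obj a, gsec Φ a⟩ :=
  elt_eq_mk _ (gbase_eq Φ a)

end generic

section generic2

variable {C : Type u} [Category.{v} C] {𝒳 : BasedCategory.{v₂, u₂} C} {Q : Cᵒᵖ ⥤ Type w}

/-- Functors over `C` into the category of a presheaf are determined by their sections. -/
theorem ext_of_gsec (Φ Ψ : 𝒳 ⥤ᵇ ofPsh Q) (h : ∀ a, gsec Φ a = gsec Ψ a) : Φ = Ψ := by
  have hobj : ∀ a, Φ.toFunctor.obj a = Ψ.toFunctor.obj a := fun a => by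
    rw [gobj_eq Φ a, gobj_eq Ψ a, h a]
  have hfun : Φ.toFunctor = Ψ.toFunctor := by
    refine CategoryTheory.Functor.ext hobj (fun a b m => ?_)
    apply EltObj.hom_ext
    rw [EltObj.comp_hom, EltObj.comp_hom, eqToHom_hom, eqToHom_hom, ghom_eq Φ, ghom_eq Ψ]
    simp
  cases Φ
  cases Ψ
  cases hfun
  rfl

end generic2

section desc

variable {S : Scheme.{u}} {K : Precoverage Scheme.{u}} {G : Over S} [GrpObj G] {X : Over S}
  {aX : AlgGrp.Action G X}

/-- the sieve of morphisms to the base over which the torsor has a section -/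
def secSieve (A : QuotObj K G aX) : Sieve A.base where
  arrows T' t := ∃ s : T' ⟶ A.P, s ≫ A.π = t
  downward_closed := by
    rintro T' T'' t ⟨s, rfl⟩ g
    exact ⟨g ≫ s, Category.assoc _ _ _⟩

theorem secSieve_mem (A : QuotObj K G aX) : secSieve A ∈ QuotSh.J K S A.base := by
  obtain ⟨R, hR, hsec⟩ := A.loc
  rw [GrothendieckTopology.mem_over_iff]
  refine (K.toGrothendieck).superset_covering ?_ (Precoverage.generate_mem_toGrothendieck hR)
  rintro Z f ⟨W, a, b, hb, rfl⟩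
  rw [Sieve.overEquiv_iff]
  obtain ⟨s₀, hs₀⟩ := hsec b hb
  have hs₀' : s₀ ≫ A.π.left = b := hs₀
  refine ⟨Over.homMk (a ≫ s₀) ?_, ?_⟩
  · show (a ≫ s₀) ≫ A.P.hom = (a ≫ b) ≫ A.base.hom
    rw [← hs₀']
    simp only [Category.assoc, Over.w]
  · ext
    show (a ≫ s₀) ≫ A.π.left = a ≫ b
    rw [Category.assoc, hs₀']

variable {Mp : (Over S)ᵒᵖ ⥤ Type (u + 1)} (hM : Presieve.IsSheaf (QuotSh.J K S) Mp)
  (f : ((AlgSp.yon S).obj X).obj ⟶ Mp)
  (hf : ∀ (T : Over S) (v : T ⟶ G ⊗ X), f.app (op T) ⟨v ≫ aX.act⟩ = f.app (op T) ⟨v ≫ snd G X⟩)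

omit [GrpObj G] in
theorem f_nat {Y Z : Over S} (g : Z ⟶ Y) (x : Y ⟶ X) :
    Mp.map g.op (f.app (op Y) ⟨x⟩) = f.app (op Z) ⟨g ≫ x⟩ :=
  (NatTrans.naturality_apply f g.op (⟨x⟩ : ((AlgSp.yon S).obj X).obj.obj (op Y))).symm

include hf in
theorem val_indep (A : QuotObj K G aX) {T' : Over S} (s₁ s₂ : T' ⟶ A.P)
    (h : s₁ ≫ A.π = s₂ ≫ A.π) :
    f.app (op T') ⟨s₁ ≫ A.φ⟩ = f.app (op T') ⟨s₂ ≫ A.φ⟩ := by
  obtain ⟨u, hu1, hu2⟩ : ∃ u : T' ⟶ G ⊗ A.P, u ≫ A.act.act = s₁ ∧ u ≫ snd G A.P = s₂ :=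
    ⟨A.cart.lift s₁ s₂ h, A.cart.lift_fst _ _ _, A.cart.lift_snd _ _ _⟩
  have e1 : s₁ ≫ A.φ = (u ≫ (G ◁ A.φ)) ≫ aX.act := by
    rw [← hu1, Category.assoc, A.eqv, Category.assoc]
  have e2 : s₂ ≫ A.φ = (u ≫ (G ◁ A.φ)) ≫ snd G X := by
    rw [← hu2, Category.assoc, Category.assoc, whiskerLeft_snd]
  rw [e1, e2]
  exact hf T' _

/-- the family of values of `f` on local sections -/
noncomputable def fam (A : QuotObj K G aX) : Presieve.FamilyOfElements Mp (secSieve A).arrows :=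
  fun T' t ht => f.app (op T') ⟨ht.choose ≫ A.φ⟩

include hf in
theorem fam_eq (A : QuotObj K G aX) {T' : Over S} (t : T' ⟶ A.base) (ht : (secSieve A).arrows t)
    (s : T' ⟶ A.P) (hs : s ≫ A.π = t) : fam f A t ht = f.app (op T') ⟨s ≫ A.φ⟩ :=
  val_indep f hf A _ _ (ht.choose_spec.trans hs.symm)

include hf in
theorem fam_compatible (A : QuotObj K G aX) : (fam f A).Compatible := by
  intro Y₁ Y₂ Z g₁ g₂ t₁ t₂ h₁ h₂ hcomm
  obtain ⟨s₁, hs₁⟩ := h₁
  obtain ⟨s₂, hs₂⟩ := h₂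
  rw [fam_eq f hf A t₁ _ s₁ hs₁, fam_eq f hf A t₂ _ s₂ hs₂, f_nat, f_nat]
  exact val_indep f hf A (g₁ ≫ s₁) (g₂ ≫ s₂) (by
    rw [Category.assoc, Category.assoc, hs₁, hs₂, hcomm])

/-- the descended section -/
noncomputable def mOf (A : QuotObj K G aX) : Mp.obj (op A.base) :=
  (hM _ (secSieve_mem A)).amalgamate (fam f A) (fam_compatible f hf A)

theorem mOf_spec (A : QuotObj K G aX) {T' : Over S} (s : T' ⟶ A.P) :
    Mp.map (s ≫ A.π).op (mOf hM f hf A) = f.app (op T') ⟨s ≫ A.φ⟩ := by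
  have h1 := (hM _ (secSieve_mem A)).valid_glue (fam_compatible f hf A) (s ≫ A.π) ⟨s, rfl⟩
  exact h1.trans (fam_eq f hf A _ _ s rfl)

theorem mOf_unique (A : QuotObj K G aX) (m : Mp.obj (op A.base))
    (hm : ∀ {T' : Over S} (s : T' ⟶ A.P), Mp.map (s ≫ A.π).op m = f.app (op T') ⟨s ≫ A.φ⟩) :
    m = mOf hM f hf A := by
  apply (hM _ (secSieve_mem A)).isSeparatedFor.ext
  rintro T' t ⟨s, rfl⟩
  rw [hm s, mOf_spec hM f hf A s]

theorem mOf_map {A B : QuotObj K G aX} (h : A ⟶ B) :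
    Mp.map h.base.op (mOf hM f hf B) = mOf hM f hf A := by
  apply mOf_unique hM f hf A
  intro T' s
  have e1 : (s ≫ A.π) ≫ h.base = (s ≫ h.top) ≫ B.π := by
    rw [Category.assoc, Category.assoc, h.cart.w]
  rw [← map_comp_op_apply, e1, mOf_spec hM f hf B (s ≫ h.top), Category.assoc, h.wφ]

/-- the functor `[X/G] ⟶ M` -/
noncomputable def descFun : QuotSt K G aX ⥤ᵇ Stk.ofPsh Mp where
  toFunctor :=
    { obj := fun A => ⟨A.base, mOf hM f hf A⟩
      map := fun {A B} h => ⟨h.base, mOf_map hM f hf h⟩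
      map_id := fun A => EltObj.hom_ext rfl
      map_comp := fun h k => EltObj.hom_ext rfl }
  w := rfl

theorem gsec_descFun (A : QuotObj K G aX) : gsec (descFun hM f hf) A = mOf hM f hf A := by
  show Mp.map (eqToHom _).op (mOf hM f hf A) = _
  rw [eqToHom_refl]
  exact map_id_op_apply Mp _ _

omit [GrpObj G] in
theorem gsec_ofPshMap (a : (ofSch X).obj) : gsec (Stk.ofPshMap f) a = f.app (op a.base) a.sec := by
  show Mp.map (eqToHom _).op (f.app (op a.base) a.sec) = _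
  rw [eqToHom_refl]
  exact map_id_op_apply Mp _ _

variable [K.HasIsos]

theorem mOf_triv (a : (ofSch X).obj) :
    mOf hM f hf ((quotMap K G aX).obj a) = f.app (op a.base) a.sec := by
  symm
  apply mOf_unique hM f hf ((quotMap K G aX).obj a)
  intro T' s
  obtain ⟨s', hs'⟩ : ∃ s' : T' ⟶ G ⊗ a.base, s' = s := ⟨s, rfl⟩
  have e1 : s' ≫ (G ◁ a.sec.down) ≫ aX.act = (s' ≫ (G ◁ a.sec.down)) ≫ aX.act :=
    (Category.assoc _ _ _).symm
  have e2 : (s' ≫ (G ◁ a.sec.down)) ≫ snd G X = (s' ≫ snd G a.base) ≫ a.sec.down := by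
    rw [Category.assoc, whiskerLeft_snd, Category.assoc]
  have key : Mp.map (s' ≫ snd G a.base).op (f.app (op a.base) ⟨a.sec.down⟩) =
      f.app (op T') ⟨s' ≫ (G ◁ a.sec.down) ≫ aX.act⟩ := by
    rw [f_nat, ← e2, e1]
    exact (hf T' _).symm
  rw [← hs']
  exact key

theorem comp_descFun : BasedFunctor.comp (quotMap K G aX) (descFun hM f hf) = Stk.ofPshMap f := by
  apply ext_of_gsec
  intro a
  rw [gsec_ofPshMap]
  have h1 : gsec (BasedFunctor.comp (quotMap K G aX) (descFun hM f hf)) a =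
      gsec (descFun hM f hf) ((quotMap K G aX).obj a) := rfl
  rw [h1, gsec_descFun, mOf_triv]

theorem descFun_unique (φ' : QuotSt K G aX ⥤ᵇ Stk.ofPsh Mp)
    (hφ' : BasedFunctor.comp (quotMap K G aX) φ' = Stk.ofPshMap f) : φ' = descFun hM f hf := by
  apply ext_of_gsec
  intro A
  rw [gsec_descFun]
  apply mOf_unique hM f hf A
  intro T' s
  have h1 := gsec_map φ' (trivHom A s)
  have h2 : gsec φ' ((quotMap K G aX).obj ((ofOverCat X).obj (Over.mk (s ≫ A.φ)))) =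
      gsec (BasedFunctor.comp (quotMap K G aX) φ') ((ofOverCat X).obj (Over.mk (s ≫ A.φ))) := rfl
  rw [h2, hφ', gsec_ofPshMap] at h1
  exact h1

include hM hf in
theorem existsUnique_descFun :
    ∃! φ : QuotSt K G aX ⥤ᵇ Stk.ofPsh Mp,
      BasedFunctor.comp (quotMap K G aX) φ = Stk.ofPshMap f :=
  ⟨descFun hM f hf, comp_descFun hM f hf, fun φ' hφ' => descFun_unique hM f hf φ' hφ'⟩

end desc

end Groth.Agent.Lib.QuotStDesc
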