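import Mathlib
import Groth.Prelude.Def_SGA1
import Groth.Agent.Lib.IsQuot4_helper8
import Groth.Agent.Lib.GQuot6_helper6

/-!
# Quotients in stages, and products of quotients over a field (helper6)

* `isQuot_stages`: if `p₁ : X₁ ⟶ X₂` is a quotient by `G` (acting through `θ (g, 1)`) and `p₂ : X₂ ⟶ X₃` is a
  quotient by `H`, with `p₁` equivariant for `H`, then `p₁ ≫ p₂` is a quotient by `G × H`.
* `isQuot_prod_field`: products of quotients over a field.
-/

set_option backward.isDefEq.respectTransparency false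
set_option backward.isDefEq.respectTransparency.types false
set_option autoImplicit false

universe u

open CategoryTheory CategoryTheory.Limits AlgebraicGeometry TopologicalSpace

namespace Groth.Agent.Lib.QuotStagesH6

section stages

variable {X₁ X₂ X₃ : Scheme.{u}} {G H : Type u} [Group G] [Group H] [Finite G] [Finite H]

theorem isQuot_stages (θ : G × H →* Aut X₁) (ρ₂ : H →* Aut X₂) (p₁ : X₁ ⟶ X₂) (p₂ : X₂ ⟶ X₃)
    (h₁ : SGA1.IsQuot (θ.comp (MonoidHom.inl G H)) p₁) (h₂ : SGA1.IsQuot ρ₂ p₂)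
    (heq : ∀ h : H, (θ (1, h)).hom ≫ p₁ = p₁ ≫ (ρ₂ h).hom) : SGA1.IsQuot θ (p₁ ≫ p₂) := by
  have hθ : ∀ (g : G) (h : H), (θ (g, h)).hom = (θ (1, h)).hom ≫ (θ (g, 1)).hom := by
    intro g h
    have : ((g, h) : G × H) = (g, 1) * (1, h) := by simp
    rw [this, map_mul]
    rfl
  have hinv₁ : ∀ g : G, (θ (g, 1)).hom ≫ p₁ = p₁ := fun g => h₁.inv g
  have hinv : ∀ gh : G × H, (θ gh).hom ≫ p₁ ≫ p₂ = p₁ ≫ p₂ := by
    rintro ⟨g, h⟩
    rw [hθ, Category.assoc, ← Category.assoc (θ (g, 1)).hom, hinv₁, ← Category.assoc, heq,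
      Category.assoc, h₂.inv]
  haveI := h₁.affine
  haveI := h₂.affine
  have haff : IsAffineHom (p₁ ≫ p₂) := inferInstance
  refine IsQuotH8.isQuot_of_basis θ (p₁ ≫ p₂) haff hinv Set.univ ?_ ?_ ?_
  · rw [Opens.isBasis_iff_nbhd]
    intro U x hx
    exact ⟨U, trivial, hx, le_rfl⟩
  · intro U _
    rw [Scheme.Hom.comp_app]
    intro a b hab
    apply h₂.injective U
    apply h₁.injective (p₂ ⁻¹ᵁ U)
    exact hab
  · intro U _ s hs
    -- `s` is `G`-invariant
    have hsG : ∀ g : G, (IsQuotH8.act (θ.comp (MonoidHom.inl G H)) p₁ h₁.inv g (p₂ ⁻¹ᵁ U)).hom s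
        = s := by
      intro g
      exact hs (g, 1)
    obtain ⟨t, ht⟩ := (h₁.range_iff (p₂ ⁻¹ᵁ U) s).mpr hsG
    have htH : ∀ h : H, (IsQuotH8.act ρ₂ p₂ h₂.inv h U).hom t = t := by
      intro h
      apply h₁.injective (p₂ ⁻¹ᵁ U)
      have e := IsQuotH8.appLE_comp_eq (θ (1, h)).hom (ρ₂ h).hom p₁ (heq h).symm (p₂ ⁻¹ᵁ U)
        (SGA1.preimage_le_of_inv ρ₂ p₂ h₂.inv h U)
        (SGA1.preimage_le_of_inv θ (p₁ ≫ p₂) hinv (1, h) U) t
      rw [← e, ht]
      exact hs (1, h)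
    obtain ⟨u, hu⟩ := (h₂.range_iff U t).mpr htH
    refine ⟨u, ?_⟩
    rw [Scheme.Hom.comp_app]
    change (p₁.app (p₂ ⁻¹ᵁ U)).hom ((p₂.app U).hom u) = s
    rw [hu, ht]

end stages

end Groth.Agent.Lib.QuotStagesH6

namespace Groth.Agent.Lib.QuotStagesH6

section prod

variable {G H : Type u} [Group G] [Finite G] [Group H] [Finite H]
  {X Y XG YH S₀ : Scheme.{u}} (fX : X ⟶ S₀) (fY : Y ⟶ S₀) (gX : XG ⟶ S₀) (gY : YH ⟶ S₀)

/-- The endomorphism of `XG ×_S Y` induced by an `S`-endomorphism of `Y`. -/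
noncomputable def sm (s : Y ⟶ Y) (hs : s ≫ fY = fY) : pullback gX fY ⟶ pullback gX fY :=
  pullback.lift (pullback.fst gX fY) (pullback.snd gX fY ≫ s) (by
    rw [Category.assoc, hs, pullback.condition])

@[reassoc]
lemma sm_fst (s : Y ⟶ Y) (hs : s ≫ fY = fY) :
    sm fY gX s hs ≫ pullback.fst gX fY = pullback.fst gX fY := pullback.lift_fst _ _ _

@[reassoc]
lemma sm_snd (s : Y ⟶ Y) (hs : s ≫ fY = fY) :
    sm fY gX s hs ≫ pullback.snd gX fY = pullback.snd gX fY ≫ s := pullback.lift_snd _ _ _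

lemma sm_comp (s t : Y ⟶ Y) (hs : s ≫ fY = fY) (ht : t ≫ fY = fY) (hst : (s ≫ t) ≫ fY = fY) :
    sm fY gX s hs ≫ sm fY gX t ht = sm fY gX (s ≫ t) hst := by
  apply pullback.hom_ext
  · rw [Category.assoc, sm_fst, sm_fst, sm_fst]
  · rw [Category.assoc, sm_snd, sm_snd_assoc, sm_snd]

lemma sm_id (h1 : 𝟙 Y ≫ fY = fY) : sm fY gX (𝟙 Y) h1 = 𝟙 _ := by
  apply pullback.hom_ext
  · rw [sm_fst, Category.id_comp]
  · rw [sm_snd, Category.id_comp, Category.comp_id]

lemma sm_congr (s t : Y ⟶ Y) (hs : s ≫ fY = fY) (ht : t ≫ fY = fY) (e : s = t) :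
    sm fY gX s hs = sm fY gX t ht := by
  subst e
  rfl

/-- The action of `H` on `XG ×_S Y` through the second factor. -/
noncomputable def sndAct (σ : H →* Aut Y) (hσ : ∀ h, (σ h).hom ≫ fY = fY) :
    H →* Aut (pullback gX fY) :=
  MonoidHom.mk' (fun h =>
    { hom := sm fY gX (σ h).hom (hσ h)
      inv := sm fY gX (σ h⁻¹).hom (hσ h⁻¹)
      hom_inv_id := by
        rw [sm_comp fY gX _ _ _ _ (by rw [IsQuotH8.hom_comp_inv, Category.id_comp]),
          sm_congr fY gX _ (𝟙 Y) _ (Category.id_comp _) (IsQuotH8.hom_comp_inv σ h), sm_id]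
      inv_hom_id := by
        rw [sm_comp fY gX _ _ _ _ (by rw [IsQuotH8.inv_comp_hom, Category.id_comp]),
          sm_congr fY gX _ (𝟙 Y) _ (Category.id_comp _) (IsQuotH8.inv_comp_hom σ h), sm_id] })
    (fun a b => by
      apply Iso.ext
      change sm fY gX (σ (a * b)).hom (hσ (a * b)) =
        sm fY gX (σ b).hom (hσ b) ≫ sm fY gX (σ a).hom (hσ a)
      rw [sm_comp fY gX _ _ _ _ (by rw [← IsQuotH8.hom_mul]; exact hσ (a * b))]
      exact sm_congr fY gX _ _ _ _ (IsQuotH8.hom_mul σ a b))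

lemma sndAct_fst (σ : H →* Aut Y) (hσ : ∀ h, (σ h).hom ≫ fY = fY) (h : H) :
    (sndAct fY gX σ hσ h).hom ≫ pullback.fst gX fY = pullback.fst gX fY :=
  sm_fst fY gX (σ h).hom (hσ h)

lemma sndAct_snd (σ : H →* Aut Y) (hσ : ∀ h, (σ h).hom ≫ fY = fY) (h : H) :
    (sndAct fY gX σ hσ h).hom ≫ pullback.snd gX fY = pullback.snd gX fY ≫ (σ h).hom :=
  sm_snd fY gX (σ h).hom (hσ h)

theorem isQuot_prod (hfY : Flat fY) (hgX : Flat gX)
    (ρ : G →* Aut X) (σ : H →* Aut Y)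
    (hσ : ∀ h, (σ h).hom ≫ fY = fY)
    (p : X ⟶ XG) (hp : p ≫ gX = fX) (q : Y ⟶ YH) (hq : q ≫ gY = fY)
    (hP : SGA1.IsQuot ρ p) (hQ : SGA1.IsQuot σ q)
    (θ : G × H →* Aut (pullback fX fY))
    (hθ1 : ∀ gh : G × H, (θ gh).hom ≫ pullback.fst fX fY = pullback.fst fX fY ≫ (ρ gh.1).hom)
    (hθ2 : ∀ gh : G × H, (θ gh).hom ≫ pullback.snd fX fY = pullback.snd fX fY ≫ (σ gh.2).hom)
    (π : pullback fX fY ⟶ pullback gX gY) (hπ1 : π ≫ pullback.fst gX gY = pullback.fst fX fY ≫ p)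
    (hπ2 : π ≫ pullback.snd gX gY = pullback.snd fX fY ≫ q) :
    SGA1.IsQuot θ π := by
  let π₁ : pullback fX fY ⟶ pullback gX fY :=
    pullback.lift (pullback.fst fX fY ≫ p) (pullback.snd fX fY) (by
      rw [Category.assoc, hp, pullback.condition])
  let π₂ : pullback gX fY ⟶ pullback gX gY :=
    pullback.lift (pullback.fst gX fY) (pullback.snd gX fY ≫ q) (by
      rw [Category.assoc, hq, pullback.condition])
  have hπ₁f : π₁ ≫ pullback.fst gX fY = pullback.fst fX fY ≫ p := pullback.lift_fst _ _ _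
  have hπ₁s : π₁ ≫ pullback.snd gX fY = pullback.snd fX fY := pullback.lift_snd _ _ _
  have hπ₂f : π₂ ≫ pullback.fst gX gY = pullback.fst gX fY := pullback.lift_fst _ _ _
  have hπ₂s : π₂ ≫ pullback.snd gX gY = pullback.snd gX fY ≫ q := pullback.lift_snd _ _ _
  have hπ : π = π₁ ≫ π₂ := by
    apply pullback.hom_ext
    · rw [hπ1, Category.assoc, hπ₂f, hπ₁f]
    · rw [hπ2, Category.assoc, hπ₂s, ← Category.assoc, hπ₁s]
  -- step 1
  have hpb₁ : IsPullback (pullback.fst fX fY) π₁ p (pullback.fst gX fY) := by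
    have hright : IsPullback (pullback.fst gX fY) (pullback.snd gX fY) gX fY :=
      IsPullback.of_hasPullback gX fY
    have houter : IsPullback (pullback.fst fX fY) (π₁ ≫ pullback.snd gX fY) (p ≫ gX) fY := by
      rw [hπ₁s, hp]
      exact IsPullback.of_hasPullback fX fY
    exact IsPullback.of_bot houter hπ₁f.symm hright
  haveI : Flat (pullback.fst gX fY) := inferInstance
  have hQ₁ : SGA1.IsQuot (θ.comp (MonoidHom.inl G H)) π₁ := by
    refine GQuotH6.isQuot_of_flat_baseChange ρ p hP (pullback.fst gX fY) (pullback.fst fX fY) π₁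
      hpb₁ (θ.comp (MonoidHom.inl G H)) ?_ ?_
    · intro g
      exact hθ1 (g, 1)
    · intro g
      apply pullback.hom_ext
      · rw [Category.assoc, hπ₁f]
        change (θ (g, 1)).hom ≫ _ = _
        rw [← Category.assoc, hθ1, Category.assoc, hP.inv]
      · rw [Category.assoc, hπ₁s]
        change (θ (g, 1)).hom ≫ _ = _
        rw [hθ2]
        change _ ≫ (σ 1).hom = _
        rw [IsQuotH8.hom_one, Category.comp_id]
  -- step 2
  have hpb₂ : IsPullback (pullback.snd gX fY) π₂ q (pullback.snd gX gY) := by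
    have hright : IsPullback (pullback.snd gX gY) (pullback.fst gX gY) gY gX :=
      (IsPullback.of_hasPullback gX gY).flip
    have houter : IsPullback (pullback.snd gX fY) (π₂ ≫ pullback.fst gX gY) (q ≫ gY) gX := by
      rw [hπ₂f, hq]
      exact (IsPullback.of_hasPullback gX fY).flip
    exact IsPullback.of_bot houter hπ₂s.symm hright
  haveI : Flat (pullback.snd gX gY) := inferInstance
  have hQ₂ : SGA1.IsQuot (sndAct fY gX σ hσ) π₂ := by
    refine GQuotH6.isQuot_of_flat_baseChange σ q hQ (pullback.snd gX gY) (pullback.snd gX fY) π₂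
      hpb₂ (sndAct fY gX σ hσ) ?_ ?_
    · intro h
      exact sndAct_snd fY gX σ hσ h
    · intro h
      apply pullback.hom_ext
      · rw [Category.assoc, hπ₂f, sndAct_fst]
      · rw [Category.assoc, hπ₂s, ← Category.assoc, sndAct_snd, Category.assoc, hQ.inv]
  rw [hπ]
  refine isQuot_stages θ (sndAct fY gX σ hσ) π₁ π₂ hQ₁ hQ₂ ?_
  intro h
  apply pullback.hom_ext
  · rw [Category.assoc, hπ₁f, Category.assoc, sndAct_fst, hπ₁f, ← Category.assoc, hθ1]
    change (_ ≫ (ρ 1).hom) ≫ _ = _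
    rw [IsQuotH8.hom_one, Category.comp_id]
  · rw [Category.assoc, hπ₁s, Category.assoc, sndAct_snd, ← Category.assoc, hπ₁s, hθ2]

end prod

end Groth.Agent.Lib.QuotStagesH6
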