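import Mathlib
import Groth.Prelude
import Groth.Agent.Lib.PnOver_helper5
import Groth.Agent.Lib.P1Curve1_lead

/-!
# S18573 (lead): a closed cover `V ∪ W = Y` with no `K`-point in `V ∩ W` separates
R-equivalence classes.

Every open subscheme of `P¹_K` is (pre)irreducible, so a morphism from it to `Y` lands in `V` or
in `W`; hence directly R-linked `K`-points lie on the same side, and so do R-equivalent ones.
-/

set_option autoImplicit false
universe u
open CategoryTheory CategoryTheory.Limits AlgebraicGeometry

namespace Groth.Agent.Lib.REqClosedL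

open CohB1 Groth.Agent.ProjBCn Groth.Agent.PnOver

section P1

variable (K : Type u) [Field K]

theorem isPullback_over :
    IsPullback (projMapH 1 (zHom K)) (ProjSpace.toSpec 1 K) (ProjSpace.toSpec 1 (ULift.{u} ℤ))
      (specULiftZIsTerminal.from (Spec (CommRingCat.of K))) := by
  have h := isPullback_projMapH 1 (zHom K)
  have h1 : Spec.map (CommRingCat.ofHom (zHom K)) =
      specULiftZIsTerminal.from (Spec (CommRingCat.of K)) := specULiftZIsTerminal.hom_ext _ _
  rwa [h1] at h

/-- `P¹_K ≅ P¹_ℤ ×_ℤ Spec K` -/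
noncomputable def projIso : ProjSpace 1 K ≅ REq.P1K K := (isPullback_over K).isoPullback

theorem isPreirreducible_univ_P1K : IsPreirreducible (Set.univ : Set (REq.P1K K)) := by
  have h := (IrreducibleSpace.isIrreducible_univ (ProjSpace 1 K)).isPreirreducible
  have h2 := h.image (projIso K).hom.base (projIso K).hom.continuous.continuousOn
  have hs : Function.Surjective (projIso K).hom.base := (Scheme.homeoOfIso (projIso K)).surjective
  rwa [Set.image_univ, Set.range_eq_univ.mpr hs] at h2

end P1

section Main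

variable {k : Type u} [Field k] {Y : Scheme.{u}} (g : Y ⟶ Spec (CommRingCat.of k))
  (K : Type u) [Field K] [Algebra k K]
  (V W : Set Y) (hV : IsClosed V) (hW : IsClosed W) (hVW : V ∪ W = Set.univ)
  (hT : ∀ z : REq.Pts g K, ¬ (Set.range z.1.base ⊆ V ∩ W))

include hV hW hVW hT in
theorem elemLink_iff {A B : REq.Pts g K} (hAB : REq.ElemLink g K A B) :
    (Set.range A.1.base ⊆ V ↔ Set.range B.1.base ⊆ V) := by
  obtain ⟨U, h, a, b, -, -, -, ha, hb⟩ := hAB
  have hUirr : IsPreirreducible (Set.univ : Set (U : Scheme.{u})) := by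
    have h1 : IsPreirreducible (U : Set (REq.P1K K)) :=
      (isPreirreducible_univ_P1K K).open_subset U.2 (Set.subset_univ _)
    have h2 : PreirreducibleSpace (U : Set (REq.P1K K)) := Subtype.preirreducibleSpace h1
    exact h2.isPreirreducible_univ
  have hcov : (Set.univ : Set (U : Scheme.{u})) ⊆ h.base ⁻¹' V ∪ h.base ⁻¹' W := by
    intro x _
    have hx : h.base x ∈ V ∪ W := hVW ▸ Set.mem_univ _
    exact hx
  have hsub : ∀ (S : Set Y) (c : Spec (CommRingCat.of K) ⟶ (U : Scheme.{u})) (C : REq.Pts g K),
      c ≫ h = C.1 → (Set.univ : Set (U : Scheme.{u})) ⊆ h.base ⁻¹' S → Set.range C.1.base ⊆ S := by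
    intro S c C hc hS
    rw [← hc]
    rintro _ ⟨x, rfl⟩
    exact hS (Set.mem_univ (c.base x))
  rcases (isPreirreducible_iff_isClosed_union_isClosed.mp hUirr) _ _ (hV.preimage h.continuous)
    (hW.preimage h.continuous) hcov with h1 | h1
  · exact ⟨fun _ => hsub V b B hb h1, fun _ => hsub V a A ha h1⟩
  · have hA := hsub W a A ha h1
    have hB := hsub W b B hb h1
    exact ⟨fun hA' => absurd (Set.subset_inter hA' hA) (hT A),
      fun hB' => absurd (Set.subset_inter hB' hB) (hT B)⟩

include hV hW hVW hT in
theorem eqvGen_iff {A B : REq.Pts g K} (hAB' : Relation.EqvGen (REq.ElemLink g K) A B) :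
    (Set.range A.1.base ⊆ V ↔ Set.range B.1.base ⊆ V) := by
  induction hAB' with
  | rel x y hxy => exact elemLink_iff g K V W hV hW hVW hT hxy
  | refl x => exact Iff.rfl
  | symm x y _ ih => exact ih.symm
  | trans x y z _ _ ih1 ih2 => exact ih1.trans ih2

include hV hW hVW hT in
/-- **S18573** -/
theorem main18573 (p q : REq.Pts g K) (hp : Set.range p.1.base ⊆ V)
    (hq : Set.range q.1.base ⊆ W) : ¬ REq.REquiv g K p q := by
  intro h
  have hq' := (eqvGen_iff g K V W hV hW hVW hT h).mp hp
  exact hT q (Set.subset_inter hq' hq)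

end Main

end Groth.Agent.Lib.REqClosedL
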