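import Mathlib
import Groth.Prelude
import Groth.Agent.Lib.REqClosed_lead

/-!
# S18571 / S18572 (lead): retract rational ⇒ direct R-links on a nonempty open / almost R-trivial

Given retract data `U --a--> V --b--> U` (`V` open in `𝔸ⁿ_k`), two `K`-points `A, B` of `U` are
joined by the image under `b` of the affine line through `a(A)`, `a(B)` (intersected with `V`),
seen as an open subscheme of `P¹_K` through the standard chart.
-/

set_option autoImplicit false
universe u
open CategoryTheory CategoryTheory.Limits AlgebraicGeometry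

namespace Groth.Agent.Lib.REqRetractL

open CohB1 Groth.Agent.Lib.P1CurveL Groth.Agent.Lib.REqClosedL

section Line

variable (K : Type u) [Field K]

/-- the affine line as an open subscheme of `P¹_K`. -/
noncomputable def jA : Spec (CommRingCat.of (Polynomial K)) ⟶ REq.P1K K :=
  Spec.map (chartEquiv K 0).toCommRingCatIso.hom ≫ ιc K 0 ≫ (projIso K).hom

instance : IsOpenImmersion (jA K) := by
  unfold jA
  infer_instance

theorem jA_toSpec : jA K ≫ REq.P1K.toSpec K =
    Spec.map (CommRingCat.ofHom (Polynomial.C : K →+* Polynomial K)) := by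
  unfold jA
  have h1 : (projIso K).hom ≫ REq.P1K.toSpec K = ProjSpace.toSpec 1 K :=
    (isPullback_over K).isoPullback_hom_snd
  simp only [Category.assoc]
  rw [h1, Groth.Agent.ProjGamma5.ι_toSpec, ← Spec.map_comp]
  congr 1
  refine CommRingCat.hom_ext (RingHom.ext fun c => ?_)
  exact chartEquiv_cst K 0 c

end Line

section Main

variable {k : Type u} [Field k] (K : Type u) [Field K] [Algebra k K]

/-- a `K`-point of affine space over `k` is given by coordinates. -/
theorem exists_ringHom {n : ℕ}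
    (x : Spec (CommRingCat.of K) ⟶ Spec (CommRingCat.of (MvPolynomial (Fin n) k)))
    (hx : x ≫ Spec.map (CommRingCat.ofHom (algebraMap k (MvPolynomial (Fin n) k))) =
      REq.specMap k K) :
    ∃ α : Fin n → K, x = Spec.map (CommRingCat.ofHom
      ((MvPolynomial.aeval α : MvPolynomial (Fin n) k →ₐ[k] K) : MvPolynomial (Fin n) k →+* K)) := by
  have hψ : Spec.map (Spec.preimage x) = x := Spec.map_preimage x
  set ψ := Spec.preimage x with hψdef
  rw [← hψ, ← Spec.map_comp] at hx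
  have h2 : CommRingCat.ofHom (algebraMap k (MvPolynomial (Fin n) k)) ≫ ψ =
      CommRingCat.ofHom (algebraMap k K) := Spec.map_injective hx
  refine ⟨fun i => ψ.hom (MvPolynomial.X i), ?_⟩
  rw [← hψ]
  congr 1
  refine CommRingCat.hom_ext ?_
  refine MvPolynomial.ringHom_ext (fun c => ?_) (fun i => ?_)
  · have := congrArg (fun m => m.hom c) h2
    simpa [MvPolynomial.algebraMap_eq] using this
  · simp

/-- the line through `α` and `β`. -/
noncomputable def lineHom {n : ℕ} (α β : Fin n → K) : MvPolynomial (Fin n) k →ₐ[k] Polynomial K :=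
  MvPolynomial.aeval (fun i => Polynomial.C (α i) + Polynomial.C (β i - α i) * Polynomial.X)

theorem eval0_comp {n : ℕ} (α β : Fin n → K) :
    (Polynomial.evalRingHom (0 : K)).comp
      ((lineHom (k := k) K α β : MvPolynomial (Fin n) k →ₐ[k] Polynomial K) :
        MvPolynomial (Fin n) k →+* Polynomial K) =
    ((MvPolynomial.aeval α : MvPolynomial (Fin n) k →ₐ[k] K) : MvPolynomial (Fin n) k →+* K) := by
  refine MvPolynomial.ringHom_ext (fun c => ?_) (fun i => ?_)
  · simp [lineHom, Polynomial.algebraMap_apply]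
  · simp [lineHom]

theorem eval1_comp {n : ℕ} (α β : Fin n → K) :
    (Polynomial.evalRingHom (1 : K)).comp
      ((lineHom (k := k) K α β : MvPolynomial (Fin n) k →ₐ[k] Polynomial K) :
        MvPolynomial (Fin n) k →+* Polynomial K) =
    ((MvPolynomial.aeval β : MvPolynomial (Fin n) k →ₐ[k] K) : MvPolynomial (Fin n) k →+* K) := by
  refine MvPolynomial.ringHom_ext (fun c => ?_) (fun i => ?_)
  · simp [lineHom, Polynomial.algebraMap_apply]
  · simp [lineHom]

theorem lineHom_comp_algebraMap {n : ℕ} (α β : Fin n → K) :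
    ((lineHom (k := k) K α β : MvPolynomial (Fin n) k →ₐ[k] Polynomial K) :
        MvPolynomial (Fin n) k →+* Polynomial K).comp (algebraMap k (MvPolynomial (Fin n) k)) =
    (Polynomial.C : K →+* Polynomial K).comp (algebraMap k K) := by
  refine RingHom.ext fun c => ?_
  simp [Polynomial.algebraMap_apply]

theorem elemLink_of_retract {n : ℕ} (U : Scheme.{u}) (g : U ⟶ Spec (CommRingCat.of k))
    (V : (Spec (CommRingCat.of (MvPolynomial (Fin n) k))).Opens)
    (a : U ⟶ (V : Scheme.{u})) (b : (V : Scheme.{u}) ⟶ U) (hab : a ≫ b = 𝟙 U)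
    (ha : a ≫ V.ι ≫ Spec.map (CommRingCat.ofHom (algebraMap k (MvPolynomial (Fin n) k))) = g)
    (hb : b ≫ g = V.ι ≫ Spec.map (CommRingCat.ofHom (algebraMap k (MvPolynomial (Fin n) k))))
    (A B : REq.Pts g K) : REq.ElemLink g K A B := by
  obtain ⟨α, hα⟩ := exists_ringHom K (A.1 ≫ a ≫ V.ι) (by
    simp only [Category.assoc]; rw [ha]; exact A.2)
  obtain ⟨β, hβ⟩ := exists_ringHom K (B.1 ≫ a ≫ V.ι) (by
    simp only [Category.assoc]; rw [ha]; exact B.2)
  set φ : Spec (CommRingCat.of (Polynomial K)) ⟶ Spec (CommRingCat.of (MvPolynomial (Fin n) k)) :=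
    Spec.map (CommRingCat.ofHom
      ((lineHom (k := k) K α β : MvPolynomial (Fin n) k →ₐ[k] Polynomial K) :
        MvPolynomial (Fin n) k →+* Polynomial K)) with hφ
  set e0 : Spec (CommRingCat.of K) ⟶ Spec (CommRingCat.of (Polynomial K)) :=
    Spec.map (CommRingCat.ofHom (Polynomial.evalRingHom (0 : K))) with he0
  set e1 : Spec (CommRingCat.of K) ⟶ Spec (CommRingCat.of (Polynomial K)) :=
    Spec.map (CommRingCat.ofHom (Polynomial.evalRingHom (1 : K))) with he1
  set sC : Spec (CommRingCat.of (Polynomial K)) ⟶ Spec (CommRingCat.of K) :=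
    Spec.map (CommRingCat.ofHom (Polynomial.C : K →+* Polynomial K)) with hsC
  have h0 : e0 ≫ φ = A.1 ≫ a ≫ V.ι := by
    rw [hα, hφ, he0, ← Spec.map_comp, ← CommRingCat.ofHom_comp, eval0_comp]
  have h1 : e1 ≫ φ = B.1 ≫ a ≫ V.ι := by
    rw [hβ, hφ, he1, ← Spec.map_comp, ← CommRingCat.ofHom_comp, eval1_comp]
  have hφk : φ ≫ Spec.map (CommRingCat.ofHom (algebraMap k (MvPolynomial (Fin n) k))) =
      sC ≫ REq.specMap k K := by
    rw [hφ, hsC]
    show _ = Spec.map _ ≫ Spec.map _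
    rw [← Spec.map_comp, ← Spec.map_comp, ← CommRingCat.ofHom_comp, ← CommRingCat.ofHom_comp,
      lineHom_comp_algebraMap]
  have he0C : e0 ≫ sC = 𝟙 _ := by
    rw [he0, hsC, ← Spec.map_comp, ← CommRingCat.ofHom_comp]
    have : (Polynomial.evalRingHom (0 : K)).comp Polynomial.C = RingHom.id K := by
      ext c; simp
    rw [this]; exact Spec.map_id _
  have he1C : e1 ≫ sC = 𝟙 _ := by
    rw [he1, hsC, ← Spec.map_comp, ← CommRingCat.ofHom_comp]
    have : (Polynomial.evalRingHom (1 : K)).comp Polynomial.C = RingHom.id K := by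
      ext c; simp
    rw [this]; exact Spec.map_id _
  have hj : jA K ≫ REq.P1K.toSpec K = sC := jA_toSpec K
  let W₀ : (Spec (CommRingCat.of (Polynomial K))).Opens := φ ⁻¹ᵁ V
  let W : (REq.P1K K).Opens := (jA K) ''ᵁ W₀
  have hW1 : Set.range W.ι.base ⊆ Set.range (jA K).base := by
    rw [Scheme.Opens.range_ι]
    rintro _ ⟨y, -, rfl⟩
    exact ⟨y, rfl⟩
  let ℓ : (W : Scheme.{u}) ⟶ Spec (CommRingCat.of (Polynomial K)) :=
    IsOpenImmersion.lift (jA K) W.ι hW1
  have hℓ : ℓ ≫ jA K = W.ι := IsOpenImmersion.lift_fac _ _ _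
  have hW2 : Set.range (ℓ ≫ φ).base ⊆ Set.range V.ι.base := by
    rw [Scheme.Opens.range_ι]
    rintro _ ⟨w, rfl⟩
    have hw : W.ι.base w ∈ (W : Set (REq.P1K K)) := by
      have := Set.mem_range_self (f := W.ι.base) w
      rwa [Scheme.Opens.range_ι] at this
    obtain ⟨y, hy, hyw⟩ := hw
    have h2 : (jA K).base (ℓ.base w) = W.ι.base w := by
      rw [← hℓ]; rfl
    have h3 : y = ℓ.base w := (jA K).isOpenEmbedding.injective (hyw.trans h2.symm)
    show φ.base (ℓ.base w) ∈ (V : Set _)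
    rw [← h3]
    exact hy
  let h' : (W : Scheme.{u}) ⟶ (V : Scheme.{u}) := IsOpenImmersion.lift V.ι (ℓ ≫ φ) hW2
  have hh' : h' ≫ V.ι = ℓ ≫ φ := IsOpenImmersion.lift_fac _ _ _
  have hp : ∀ (e : Spec (CommRingCat.of K) ⟶ Spec (CommRingCat.of (Polynomial K)))
      (P : REq.Pts g K), e ≫ φ = P.1 ≫ a ≫ V.ι →
      Set.range (e ≫ jA K).base ⊆ Set.range W.ι.base := by
    intro e P he
    rw [Scheme.Opens.range_ι]
    rintro _ ⟨p, rfl⟩
    refine ⟨e.base p, ?_, rfl⟩
    show φ.base (e.base p) ∈ (V : Set _)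
    have h5 : φ.base (e.base p) = V.ι.base ((P.1 ≫ a).base p) :=
      congrArg (fun m : Spec (CommRingCat.of K) ⟶ Spec (CommRingCat.of (MvPolynomial (Fin n) k)) =>
        m.base p) (he.trans (Category.assoc _ _ _).symm)
    rw [h5]
    exact ((P.1 ≫ a).base p).2
  let a' : Spec (CommRingCat.of K) ⟶ (W : Scheme.{u}) :=
    IsOpenImmersion.lift W.ι (e0 ≫ jA K) (hp e0 A h0)
  let b' : Spec (CommRingCat.of K) ⟶ (W : Scheme.{u}) :=
    IsOpenImmersion.lift W.ι (e1 ≫ jA K) (hp e1 B h1)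
  have ha' : a' ≫ W.ι = e0 ≫ jA K := IsOpenImmersion.lift_fac _ _ _
  have hb' : b' ≫ W.ι = e1 ≫ jA K := IsOpenImmersion.lift_fac _ _ _
  have haℓ : a' ≫ ℓ = e0 := by
    rw [← cancel_mono (jA K), Category.assoc, hℓ, ha']
  have hbℓ : b' ≫ ℓ = e1 := by
    rw [← cancel_mono (jA K), Category.assoc, hℓ, hb']
  have hah : a' ≫ h' = A.1 ≫ a := by
    rw [← cancel_mono V.ι, Category.assoc, Category.assoc, hh', ← h0, ← Category.assoc, haℓ]
  have hbh : b' ≫ h' = B.1 ≫ a := by
    rw [← cancel_mono V.ι, Category.assoc, Category.assoc, hh', ← h1, ← Category.assoc, hbℓ]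
  refine ⟨W, h' ≫ b, a', b', ?_, ?_, ?_, ?_, ?_⟩
  · calc (h' ≫ b) ≫ g = h' ≫ V.ι ≫
          Spec.map (CommRingCat.ofHom (algebraMap k (MvPolynomial (Fin n) k))) := by
          rw [Category.assoc, hb]
      _ = ℓ ≫ φ ≫ Spec.map (CommRingCat.ofHom (algebraMap k (MvPolynomial (Fin n) k))) := by
          rw [← Category.assoc, hh', Category.assoc]
      _ = ℓ ≫ sC ≫ REq.specMap k K := by rw [hφk]
      _ = ℓ ≫ (jA K ≫ REq.P1K.toSpec K) ≫ REq.specMap k K := by rw [hj]
      _ = (ℓ ≫ jA K) ≫ REq.P1K.toSpec K ≫ REq.specMap k K := by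
          simp only [Category.assoc]
      _ = W.ι ≫ REq.P1K.toSpec K ≫ REq.specMap k K := by rw [hℓ]
  · calc a' ≫ W.ι ≫ REq.P1K.toSpec K = (a' ≫ W.ι) ≫ REq.P1K.toSpec K := by
          rw [Category.assoc]
      _ = e0 ≫ (jA K ≫ REq.P1K.toSpec K) := by rw [ha', Category.assoc]
      _ = 𝟙 _ := by rw [hj, he0C]
  · calc b' ≫ W.ι ≫ REq.P1K.toSpec K = (b' ≫ W.ι) ≫ REq.P1K.toSpec K := by
          rw [Category.assoc]
      _ = e1 ≫ (jA K ≫ REq.P1K.toSpec K) := by rw [hb', Category.assoc]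
      _ = 𝟙 _ := by rw [hj, he1C]
  · rw [← Category.assoc, hah, Category.assoc, hab, Category.comp_id]
  · rw [← Category.assoc, hbh, Category.assoc, hab, Category.comp_id]

/-- a nonempty open of affine space over an infinite field has a rational point. -/
theorem exists_eval_mem [Infinite k] {n : ℕ}
    (V : (Spec (CommRingCat.of (MvPolynomial (Fin n) k))).Opens)
    (hV : (V : Set (Spec (CommRingCat.of (MvPolynomial (Fin n) k)))).Nonempty) :
    ∃ c : Fin n → k, Set.range (Spec.map (CommRingCat.ofHom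
      (MvPolynomial.eval c : MvPolynomial (Fin n) k →+* k))).base ⊆ V := by
  obtain ⟨x, hx⟩ := hV
  obtain ⟨_, ⟨g, rfl⟩, hxg, hgV⟩ :=
    (PrimeSpectrum.isTopologicalBasis_basic_opens (R := MvPolynomial (Fin n) k)).exists_subset_of_mem_open
      (a := x) (u := ((V : Set (Spec (CommRingCat.of (MvPolynomial (Fin n) k)))) :
        Set (PrimeSpectrum (MvPolynomial (Fin n) k)))) hx V.2
  have hg : g ≠ 0 := by
    rintro rfl
    simp at hxg
    exact hxg
  obtain ⟨c, hc⟩ : ∃ c : Fin n → k, MvPolynomial.eval c g ≠ 0 := by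
    by_contra hcon
    push Not at hcon
    exact hg (MvPolynomial.funext (fun c => by simpa using hcon c))
  refine ⟨c, ?_⟩
  rintro _ ⟨p, rfl⟩
  apply hgV
  obtain ⟨p', hp'⟩ : ∃ p' : PrimeSpectrum k, p' = p := ⟨p, rfl⟩
  subst hp'
  show g ∉ (PrimeSpectrum.comap (MvPolynomial.eval c) p').asIdeal
  rw [PrimeSpectrum.comap_asIdeal, Ideal.mem_comap]
  intro hmem
  exact p'.2.ne_top (Ideal.eq_top_of_isUnit_mem _ hmem (IsUnit.mk0 _ hc))

variable {X : Scheme.{u}} (f : X ⟶ Spec (CommRingCat.of k))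

theorem main18571 (hX : REq.IsRetractRational f) :
    ∃ U : X.Opens, (U : Set X).Nonempty ∧
      ∀ (K : Type u) [Field K] [Algebra k K] (A B : REq.Pts (U.ι ≫ f) K),
        REq.ElemLink (U.ι ≫ f) K A B := by
  obtain ⟨U, n, V, a, b, hne, hab, ha, hb⟩ := hX
  exact ⟨U, hne, fun K _ _ A B => elemLink_of_retract K U (U.ι ≫ f) V a b hab ha hb A B⟩

theorem main18572 [Infinite k] [IsIntegral X] (hX : REq.IsRetractRational f) :
    REq.IsAlmostRTrivial f := by
  obtain ⟨U, n, V, a, b, hne, hab, ha, hb⟩ := hX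
  refine ⟨U, U.2.dense hne, fun K _ _ => ⟨?_, ?_⟩⟩
  · have hVne : (V : Set (Spec (CommRingCat.of (MvPolynomial (Fin n) k)))).Nonempty := by
      obtain ⟨x, hx⟩ := hne
      exact ⟨(a.base ⟨x, hx⟩).1, (a.base ⟨x, hx⟩).2⟩
    obtain ⟨c, hc⟩ := exists_eval_mem V hVne
    have hc' : Set.range (Spec.map (CommRingCat.ofHom
        (MvPolynomial.eval c : MvPolynomial (Fin n) k →+* k))).base ⊆ Set.range V.ι.base := by
      rw [Scheme.Opens.range_ι]; exact hc
    let pt : Spec (CommRingCat.of k) ⟶ (V : Scheme.{u}) := IsOpenImmersion.lift V.ι _ hc'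
    have hpt : pt ≫ V.ι = Spec.map (CommRingCat.ofHom
        (MvPolynomial.eval c : MvPolynomial (Fin n) k →+* k)) := IsOpenImmersion.lift_fac _ _ _
    have hid : Spec.map (CommRingCat.ofHom (MvPolynomial.eval c : MvPolynomial (Fin n) k →+* k)) ≫
        Spec.map (CommRingCat.ofHom (algebraMap k (MvPolynomial (Fin n) k))) = 𝟙 _ := by
      rw [← Spec.map_comp, ← CommRingCat.ofHom_comp]
      have : (MvPolynomial.eval c : MvPolynomial (Fin n) k →+* k).comp
          (algebraMap k (MvPolynomial (Fin n) k)) = RingHom.id k := by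
        ext r; simp [MvPolynomial.algebraMap_eq]
      rw [this]; exact Spec.map_id _
    refine ⟨Subtype.mk (REq.specMap k K ≫ pt ≫ b ≫ U.ι) ?_, ?_⟩
    · calc (REq.specMap k K ≫ pt ≫ b ≫ U.ι) ≫ f
          = REq.specMap k K ≫ pt ≫ (b ≫ U.ι ≫ f) := by simp only [Category.assoc]
        _ = REq.specMap k K ≫ (pt ≫ V.ι) ≫
            Spec.map (CommRingCat.ofHom (algebraMap k (MvPolynomial (Fin n) k))) := by
            rw [hb]; simp only [Category.assoc]
        _ = REq.specMap k K := by rw [hpt, hid, Category.comp_id]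
    · show Set.range (REq.specMap k K ≫ pt ≫ b ≫ U.ι).base ⊆ (U : Set X)
      rintro _ ⟨p, rfl⟩
      exact ((REq.specMap k K ≫ pt ≫ b).base p).2
  · intro A B hA hB
    have hA' : Set.range A.1.base ⊆ Set.range U.ι.base := by
      rw [Scheme.Opens.range_ι]; exact hA
    have hB' : Set.range B.1.base ⊆ Set.range U.ι.base := by
      rw [Scheme.Opens.range_ι]; exact hB
    let A₁ : Spec (CommRingCat.of K) ⟶ (U : Scheme.{u}) := IsOpenImmersion.lift U.ι A.1 hA'
    let B₁ : Spec (CommRingCat.of K) ⟶ (U : Scheme.{u}) := IsOpenImmersion.lift U.ι B.1 hB'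
    have hA₁ : A₁ ≫ U.ι = A.1 := IsOpenImmersion.lift_fac _ _ _
    have hB₁ : B₁ ≫ U.ι = B.1 := IsOpenImmersion.lift_fac _ _ _
    let A₂ : REq.Pts (U.ι ≫ f) K := Subtype.mk A₁ (by
      rw [← Category.assoc, hA₁]; exact A.2)
    let B₂ : REq.Pts (U.ι ≫ f) K := Subtype.mk B₁ (by
      rw [← Category.assoc, hB₁]; exact B.2)
    obtain ⟨W, h, a', b', h1, h2, h3, h4, h5⟩ :=
      elemLink_of_retract K U (U.ι ≫ f) V a b hab ha hb A₂ B₂
    refine Relation.EqvGen.rel _ _ ⟨W, h ≫ U.ι, a', b', ?_, h2, h3, ?_, ?_⟩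
    · rw [Category.assoc]; exact h1
    · rw [← Category.assoc]
      have : a' ≫ h = A₁ := h4
      rw [this, hA₁]
    · rw [← Category.assoc]
      have : b' ≫ h = B₁ := h5
      rw [this, hB₁]

end Main

end Groth.Agent.Lib.REqRetractL
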