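import Mathlib
import Groth.Prelude
import Groth.Agent.Lib.REqRetract_lead

/-!
# S18577 (lead): any two `K`-points of an open subscheme of `Pⁿ_k` are directly R-linked

Choose a `k`-linear form `q` not vanishing at either point (two proper subspaces never cover a
vector space).  In the affine chart `D₊(q) = Spec k[x]_(q)` the two points are given by coordinate
vectors `a, b ∈ K^{n+1}` with `q(a) = q(b) = 1`; the affine line `τ ↦ (1-τ) a + τ b` stays in
`q = 1`, which gives a ring map `k[x]_(q) → K[τ]`.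
-/

set_option autoImplicit false
universe u
open CategoryTheory CategoryTheory.Limits AlgebraicGeometry

namespace Groth.Agent.Lib.REqPnL

open CohB1 Groth.Agent.Lib.REqRetractL

section General

variable {k : Type u} [Field k] (K : Type u) [Field K] [Algebra k K]

/-- a line `Spec K[τ] → T` joining (the images of) two `K`-points gives a direct R-link. -/
theorem elemLink_of_line {T : Scheme.{u}} (t : T ⟶ Spec (CommRingCat.of k))
    (U : Scheme.{u}) (g : U ⟶ Spec (CommRingCat.of k)) (V : T.Opens)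
    (a : U ⟶ (V : Scheme.{u})) (b : (V : Scheme.{u}) ⟶ U) (hab : a ≫ b = 𝟙 U)
    (hb : b ≫ g = V.ι ≫ t) (A B : REq.Pts g K)
    (φ : Spec (CommRingCat.of (Polynomial K)) ⟶ T)
    (h0 : Spec.map (CommRingCat.ofHom (Polynomial.evalRingHom (0 : K))) ≫ φ = A.1 ≫ a ≫ V.ι)
    (h1 : Spec.map (CommRingCat.ofHom (Polynomial.evalRingHom (1 : K))) ≫ φ = B.1 ≫ a ≫ V.ι)
    (hφk : φ ≫ t = Spec.map (CommRingCat.ofHom (Polynomial.C : K →+* Polynomial K)) ≫
      REq.specMap k K) : REq.ElemLink g K A B := by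
  set e0 : Spec (CommRingCat.of K) ⟶ Spec (CommRingCat.of (Polynomial K)) :=
    Spec.map (CommRingCat.ofHom (Polynomial.evalRingHom (0 : K))) with he0
  set e1 : Spec (CommRingCat.of K) ⟶ Spec (CommRingCat.of (Polynomial K)) :=
    Spec.map (CommRingCat.ofHom (Polynomial.evalRingHom (1 : K))) with he1
  set sC : Spec (CommRingCat.of (Polynomial K)) ⟶ Spec (CommRingCat.of K) :=
    Spec.map (CommRingCat.ofHom (Polynomial.C : K →+* Polynomial K)) with hsC
  have he0C : e0 ≫ sC = 𝟙 _ := by
    rw [he0, hsC, ← Spec.map_comp, ← CommRingCat.ofHom_comp]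
    have : (Polynomial.evalRingHom (0 : K)).comp Polynomial.C = RingHom.id K := by
      ext c; simp
    rw [this]; exact Spec.map_id _
  have he1C : e1 ≫ sC = 𝟙 _ := by
    rw [he1, hsC, ← Spec.map_comp, ← CommRingCat.ofHom_comp]
    have : (Polynomial.evalRingHom (1 : K)).comp Polynomial.C = RingHom.id K := by
      ext c; simp
    rw [this]; exact Spec.map_id _
  have hj : jA K ≫ REq.P1K.toSpec K = sC := jA_toSpec K
  let W₀ : (Spec (CommRingCat.of (Polynomial K))).Opens := φ ⁻¹ᵁ V
  let W : (REq.P1K K).Opens := (jA K) ''ᵁ W₀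
  have hW1 : Set.range W.ι.base ⊆ Set.range (jA K).base := by
    rw [Scheme.Opens.range_ι]
    rintro _ ⟨y, -, rfl⟩
    exact ⟨y, rfl⟩
  let ℓ : (W : Scheme.{u}) ⟶ Spec (CommRingCat.of (Polynomial K)) :=
    IsOpenImmersion.lift (jA K) W.ι hW1
  have hℓ : ℓ ≫ jA K = W.ι := IsOpenImmersion.lift_fac _ _ _
  have hW2 : Set.range (ℓ ≫ φ).base ⊆ Set.range V.ι.base := by
    rw [Scheme.Opens.range_ι]
    rintro _ ⟨w, rfl⟩
    have hw : W.ι.base w ∈ (W : Set (REq.P1K K)) := by
      have := Set.mem_range_self (f := W.ι.base) w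
      rwa [Scheme.Opens.range_ι] at this
    obtain ⟨y, hy, hyw⟩ := hw
    have h2 : (jA K).base (ℓ.base w) = W.ι.base w := by
      rw [← hℓ]; rfl
    have h3 : y = ℓ.base w := (jA K).isOpenEmbedding.injective (hyw.trans h2.symm)
    show φ.base (ℓ.base w) ∈ (V : Set _)
    rw [← h3]
    exact hy
  let h' : (W : Scheme.{u}) ⟶ (V : Scheme.{u}) := IsOpenImmersion.lift V.ι (ℓ ≫ φ) hW2
  have hh' : h' ≫ V.ι = ℓ ≫ φ := IsOpenImmersion.lift_fac _ _ _
  have hp : ∀ (e : Spec (CommRingCat.of K) ⟶ Spec (CommRingCat.of (Polynomial K)))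
      (P : REq.Pts g K), e ≫ φ = P.1 ≫ a ≫ V.ι →
      Set.range (e ≫ jA K).base ⊆ Set.range W.ι.base := by
    intro e P he
    rw [Scheme.Opens.range_ι]
    rintro _ ⟨p, rfl⟩
    refine ⟨e.base p, ?_, rfl⟩
    show φ.base (e.base p) ∈ (V : Set _)
    have h5 : φ.base (e.base p) = V.ι.base ((P.1 ≫ a).base p) :=
      congrArg (fun m : Spec (CommRingCat.of K) ⟶ T =>
        m.base p) (he.trans (Category.assoc _ _ _).symm)
    rw [h5]
    exact ((P.1 ≫ a).base p).2
  let a' : Spec (CommRingCat.of K) ⟶ (W : Scheme.{u}) :=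
    IsOpenImmersion.lift W.ι (e0 ≫ jA K) (hp e0 A h0)
  let b' : Spec (CommRingCat.of K) ⟶ (W : Scheme.{u}) :=
    IsOpenImmersion.lift W.ι (e1 ≫ jA K) (hp e1 B h1)
  have ha' : a' ≫ W.ι = e0 ≫ jA K := IsOpenImmersion.lift_fac _ _ _
  have hb' : b' ≫ W.ι = e1 ≫ jA K := IsOpenImmersion.lift_fac _ _ _
  have haℓ : a' ≫ ℓ = e0 := by
    rw [← cancel_mono (jA K), Category.assoc, hℓ, ha']
  have hbℓ : b' ≫ ℓ = e1 := by
    rw [← cancel_mono (jA K), Category.assoc, hℓ, hb']
  have hah : a' ≫ h' = A.1 ≫ a := by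
    rw [← cancel_mono V.ι, Category.assoc, Category.assoc, hh', ← h0, ← Category.assoc, haℓ]
  have hbh : b' ≫ h' = B.1 ≫ a := by
    rw [← cancel_mono V.ι, Category.assoc, Category.assoc, hh', ← h1, ← Category.assoc, hbℓ]
  refine ⟨W, h' ≫ b, a', b', ?_, ?_, ?_, ?_, ?_⟩
  · calc (h' ≫ b) ≫ g = h' ≫ V.ι ≫ t := by rw [Category.assoc, hb]
      _ = ℓ ≫ φ ≫ t := by rw [← Category.assoc, hh', Category.assoc]
      _ = ℓ ≫ sC ≫ REq.specMap k K := by rw [hφk]
      _ = ℓ ≫ (jA K ≫ REq.P1K.toSpec K) ≫ REq.specMap k K := by rw [hj]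
      _ = (ℓ ≫ jA K) ≫ REq.P1K.toSpec K ≫ REq.specMap k K := by
          simp only [Category.assoc]
      _ = W.ι ≫ REq.P1K.toSpec K ≫ REq.specMap k K := by rw [hℓ]
  · calc a' ≫ W.ι ≫ REq.P1K.toSpec K = (a' ≫ W.ι) ≫ REq.P1K.toSpec K := by
          rw [Category.assoc]
      _ = e0 ≫ (jA K ≫ REq.P1K.toSpec K) := by rw [ha', Category.assoc]
      _ = 𝟙 _ := by rw [hj, he0C]
  · calc b' ≫ W.ι ≫ REq.P1K.toSpec K = (b' ≫ W.ι) ≫ REq.P1K.toSpec K := by
          rw [Category.assoc]
      _ = e1 ≫ (jA K ≫ REq.P1K.toSpec K) := by rw [hb', Category.assoc]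
      _ = 𝟙 _ := by rw [hj, he1C]
  · rw [← Category.assoc, hah, Category.assoc, hab, Category.comp_id]
  · rw [← Category.assoc, hbh, Category.assoc, hab, Category.comp_id]

end General

section Algebra

open MvPolynomial HomogeneousLocalization

/-- scaling the variables of a homogeneous polynomial. -/
theorem eval₂_scale {σ R S : Type*} [CommSemiring R] [CommSemiring S] (φ : R →+* S)
    (v : σ → S) (u : S) {g : MvPolynomial σ R} {m : ℕ} (hg : g.IsHomogeneous m) :
    eval₂ φ (fun l => v l * u) g = eval₂ φ v g * u ^ m := by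
  rw [eval₂_eq, eval₂_eq, Finset.sum_mul]
  refine Finset.sum_congr rfl (fun d hd => ?_)
  have hdeg : m = ∑ i ∈ d.support, d i := hg.degree_eq_sum_deg_support hd
  simp only [mul_pow]
  rw [Finset.prod_mul_distrib, Finset.prod_pow_eq_pow_sum, ← hdeg, mul_assoc]

variable (n : ℕ) (k : Type u) [Field k]

/-- the linear form with coefficients `c`. -/
noncomputable def qc (c : Fin (n + 1) → k) : MvPolynomial (Fin (n + 1)) k :=
  ∑ l, C (c l) * X l

theorem qc_mem (c : Fin (n + 1) → k) : qc n k c ∈ polyGrading n k 1 := by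
  unfold qc
  refine Submodule.sum_mem _ (fun l _ => ?_)
  exact MvPolynomial.isHomogeneous_C_mul_X (c l) l

theorem qc_single (l : Fin (n + 1)) : qc n k (Pi.single l 1) = X l := by
  unfold qc
  rw [Finset.sum_eq_single l]
  · simp
  · intro j _ hj
    simp [Pi.single_apply, hj]
  · intro h
    exact absurd (Finset.mem_univ l) h

theorem qc_add (c c' : Fin (n + 1) → k) : qc n k (c + c') = qc n k c + qc n k c' := by
  unfold qc
  rw [← Finset.sum_add_distrib]
  refine Finset.sum_congr rfl (fun l _ => ?_)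
  simp [add_mul]

variable {n k}
variable (c : Fin (n + 1) → k)

/-- the coordinate ring of `D₊(q)`. -/
abbrev Aq : Type u := Away (polyGrading n k) (qc n k c)

/-- the localization `k[x]_q`. -/
abbrev Lq : Type u := Localization (Submonoid.powers (qc n k c))

/-- constants. -/
noncomputable def cst : k →+* Aq c :=
  (fromZeroRingHom (polyGrading n k) _).comp (algebraMap k (polyGrading n k 0))

/-- `x_l / q`. -/
noncomputable def xq (l : Fin (n + 1)) : Aq c :=
  Away.mk (polyGrading n k) (qc_mem n k c) 1 (X l) (by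
    have := Groth.Agent.ProjGamma5.X_mem n k l
    simpa using this)

/-- `k[x] → k[x]_(q)`, `x_l ↦ x_l / q`. -/
noncomputable def ρ : MvPolynomial (Fin (n + 1)) k →+* Aq c := eval₂Hom (cst c) (xq c)

/-- `1/q`. -/
noncomputable def uq : Lq c := Localization.mk 1 ⟨qc n k c ^ 1, ⟨1, rfl⟩⟩

theorem val_cst (r : k) : (cst c r).val = algebraMap (MvPolynomial (Fin (n + 1)) k) (Lq c) (C r) := rfl

theorem val_xq (l : Fin (n + 1)) : (xq c l).val = algebraMap (MvPolynomial (Fin (n + 1)) k) (Lq c) (X l) * uq c := by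
  show Localization.mk (X l) ⟨qc n k c ^ 1, _⟩ = _ * Localization.mk 1 ⟨qc n k c ^ 1, _⟩
  rw [Localization.mk_eq_mk'_apply, Localization.mk_eq_mk'_apply,
    ← IsLocalization.mk'_eq_mul_mk'_one]

theorem uq_pow (m : ℕ) : uq c ^ m =
    Localization.mk 1 (⟨qc n k c ^ m, ⟨m, rfl⟩⟩ : Submonoid.powers (qc n k c)) := by
  rw [uq, Localization.mk_pow, one_pow]
  congr 1
  exact Subtype.ext (by simp)

theorem uq_mul : uq c * algebraMap (MvPolynomial (Fin (n + 1)) k) (Lq c) (qc n k c) = 1 := by
  rw [uq, Localization.mk_eq_mk'_apply]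
  have := IsLocalization.mk'_spec (Lq c) (1 : MvPolynomial (Fin (n + 1)) k)
    (⟨qc n k c ^ 1, ⟨1, rfl⟩⟩ : Submonoid.powers (qc n k c))
  simpa using this

theorem val_ρ (g : MvPolynomial (Fin (n + 1)) k) :
    (ρ c g).val = eval₂ ((algebraMap (MvPolynomial (Fin (n + 1)) k) (Lq c)).comp C)
      (fun l => algebraMap (MvPolynomial (Fin (n + 1)) k) (Lq c) (X l) * uq c) g := by
  induction g using MvPolynomial.induction_on with
  | C r =>
    simp only [ρ, coe_eval₂Hom, eval₂_C]
    exact val_cst c r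
  | add p q hp hq => rw [map_add, val_add, hp, hq, eval₂_add]
  | mul_X p l hp =>
    rw [map_mul, val_mul, hp, eval₂_mul, eval₂_X]
    congr 1
    simp only [ρ, coe_eval₂Hom, eval₂_X]
    exact val_xq c l

theorem ρ_mk (m : ℕ) (g : MvPolynomial (Fin (n + 1)) k) (hg : g ∈ polyGrading n k (m • 1)) :
    ρ c g = Away.mk (polyGrading n k) (qc_mem n k c) m g hg := by
  apply HomogeneousLocalization.val_injective
  rw [Away.val_mk]
  have hg' : g.IsHomogeneous m := by simpa using hg
  rw [val_ρ, eval₂_scale _ _ _ hg']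
  have h2 : eval₂ ((algebraMap (MvPolynomial (Fin (n + 1)) k) (Lq c)).comp C) (fun l => algebraMap (MvPolynomial (Fin (n + 1)) k) (Lq c) (X l)) g =
      algebraMap (MvPolynomial (Fin (n + 1)) k) (Lq c) g := by
    have : (eval₂Hom ((algebraMap (MvPolynomial (Fin (n + 1)) k) (Lq c)).comp C) (fun l => algebraMap (MvPolynomial (Fin (n + 1)) k) (Lq c) (X l))) =
        algebraMap (MvPolynomial (Fin (n + 1)) k) (Lq c) := by
      refine MvPolynomial.ringHom_ext (fun r => by simp) (fun l => by simp)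
    exact congrArg (fun F : MvPolynomial (Fin (n + 1)) k →+* Lq c => F g) this
  rw [h2, uq_pow, Localization.mk_eq_mk'_apply, Localization.mk_eq_mk'_apply,
    ← IsLocalization.mk'_eq_mul_mk'_one]

theorem ρ_surjective : Function.Surjective (ρ c) := fun z => by
  obtain ⟨m, g, hg, rfl⟩ := Away.mk_surjective (polyGrading n k) (qc_mem n k c) z
  exact ⟨g, ρ_mk c m g hg⟩

theorem ρ_C (r : k) : ρ c (C r) = cst c r := by
  simp only [ρ, coe_eval₂Hom, eval₂_C]

theorem ρ_X (l : Fin (n + 1)) : ρ c (X l) = xq c l := by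
  simp only [ρ, coe_eval₂Hom, eval₂_X]

theorem ρ_qc : ρ c (qc n k c) = 1 := by
  rw [ρ_mk c 1 (qc n k c) (by simpa using qc_mem n k c)]
  apply HomogeneousLocalization.val_injective
  rw [Away.val_mk, val_one]
  convert Localization.mk_self (⟨qc n k c ^ 1, ⟨1, rfl⟩⟩ : Submonoid.powers (qc n k c)) using 2
  exact (pow_one _).symm

theorem eq_of_comp_ρ {T : Type*} [CommRing T] (F G : Aq c →+* T)
    (h : F.comp (ρ c) = G.comp (ρ c)) : F = G := by
  refine RingHom.ext fun z => ?_
  obtain ⟨g, rfl⟩ := ρ_surjective c z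
  exact congrArg (fun H : MvPolynomial (Fin (n + 1)) k →+* T => H g) h

variable (K : Type u) [Field K] [Algebra k K]

theorem comp_ρ (ψ : Aq c →+* K) (hψ : ψ.comp (cst c) = algebraMap k K) :
    ψ.comp (ρ c) = ((aeval (fun l => ψ (xq c l)) : MvPolynomial (Fin (n + 1)) k →ₐ[k] K) :
      MvPolynomial (Fin (n + 1)) k →+* K) := by
  refine MvPolynomial.ringHom_ext (fun r => ?_) (fun l => ?_)
  · have := congrArg (fun F : k →+* K => F r) hψ
    simpa [ρ_C] using this
  · simp [ρ_X]

theorem lineHom_qc (a b : Fin (n + 1) → K) :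
    (lineHom (k := k) K a b) (qc n k c) =
      Polynomial.C (aeval a (qc n k c)) +
        Polynomial.C (aeval b (qc n k c) - aeval a (qc n k c)) * Polynomial.X := by
  have hL : (lineHom (k := k) K a b) (qc n k c) = ∑ l, Polynomial.C (algebraMap k K (c l)) *
      (Polynomial.C (a l) + Polynomial.C (b l - a l) * Polynomial.X) := by
    unfold qc lineHom
    simp only [map_sum, map_mul, aeval_C, aeval_X, Polynomial.algebraMap_apply]
  have hA : ∀ v : Fin (n + 1) → K, aeval v (qc n k c) = ∑ l, algebraMap k K (c l) * v l := by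
    intro v
    unfold qc
    simp only [map_sum, map_mul, aeval_C, aeval_X]
  rw [hL, hA a, hA b, ← Finset.sum_sub_distrib, map_sum, map_sum, Finset.sum_mul,
    ← Finset.sum_add_distrib]
  refine Finset.sum_congr rfl (fun l _ => ?_)
  simp only [map_mul, map_sub]
  ring

variable (a b : Fin (n + 1) → K)

/-- the line, extended to the localization `k[x]_q` (where `q ↦ 1`). -/
noncomputable def liftL (h1 : (lineHom (k := k) K a b) (qc n k c) = 1) : Lq c →+* Polynomial K :=
  IsLocalization.Away.lift (S := Lq c) (qc n k c)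
    (g := ((lineHom (k := k) K a b : MvPolynomial (Fin (n + 1)) k →ₐ[k] Polynomial K) :
      MvPolynomial (Fin (n + 1)) k →+* Polynomial K))
    (by
      show IsUnit ((lineHom (k := k) K a b) (qc n k c))
      rw [h1]; exact isUnit_one)

theorem liftL_algebraMap (h1 : (lineHom (k := k) K a b) (qc n k c) = 1)
    (p : MvPolynomial (Fin (n + 1)) k) :
    liftL c K a b h1 (algebraMap (MvPolynomial (Fin (n + 1)) k) (Lq c) p) =
      (lineHom (k := k) K a b) p :=
  IsLocalization.Away.lift_eq _ _ _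

theorem liftL_uq (h1 : (lineHom (k := k) K a b) (qc n k c) = 1) :
    liftL c K a b h1 (uq c) = 1 := by
  have h3 := congrArg (liftL c K a b h1) (uq_mul c)
  rw [map_mul, liftL_algebraMap, h1, mul_one, map_one] at h3
  exact h3

/-- `k[x]_(q) → K[τ]`, `x_l / q ↦ (1 - τ) a_l + τ b_l`, when `q(a) = q(b) = 1`. -/
noncomputable def PhiHom (h1 : (lineHom (k := k) K a b) (qc n k c) = 1) : Aq c →+* Polynomial K :=
  (liftL c K a b h1).comp (algebraMap (Aq c) (Lq c))

theorem PhiHom_comp_ρ (h1 : (lineHom (k := k) K a b) (qc n k c) = 1) :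
    (PhiHom c K a b h1).comp (ρ c) =
      ((lineHom (k := k) K a b : MvPolynomial (Fin (n + 1)) k →ₐ[k] Polynomial K) :
        MvPolynomial (Fin (n + 1)) k →+* Polynomial K) := by
  refine MvPolynomial.ringHom_ext (fun r => ?_) (fun l => ?_)
  · simp only [RingHom.comp_apply, ρ_C, PhiHom, HomogeneousLocalization.algebraMap_apply]
    rw [val_cst, liftL_algebraMap]
    rfl
  · simp only [RingHom.comp_apply, ρ_X, PhiHom, HomogeneousLocalization.algebraMap_apply]
    rw [val_xq, map_mul, liftL_algebraMap, liftL_uq, mul_one]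
    rfl

theorem PhiHom_comp_cst (h1 : (lineHom (k := k) K a b) (qc n k c) = 1) :
    (PhiHom c K a b h1).comp (cst c) = (Polynomial.C : K →+* Polynomial K).comp (algebraMap k K) := by
  refine RingHom.ext fun r => ?_
  have := congrArg (fun F : MvPolynomial (Fin (n + 1)) k →+* Polynomial K => F (C r))
    (PhiHom_comp_ρ c K a b h1)
  simp only [RingHom.comp_apply, ρ_C] at this
  rw [RingHom.comp_apply, this]
  simp [Polynomial.algebraMap_apply]

end Algebra

section Geometry

open MvPolynomial HomogeneousLocalization Groth.Agent.ProjBCn Groth.Agent.PnOver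

variable (n : ℕ) (k : Type u) [Field k]

theorem isPullback_overN :
    IsPullback (projMapH n (zHom k)) (ProjSpace.toSpec n k) (ProjSpace.toSpec n (ULift.{u} ℤ))
      (specULiftZIsTerminal.from (Spec (CommRingCat.of k))) := by
  have h := isPullback_projMapH n (zHom k)
  have h1 : Spec.map (CommRingCat.ofHom (zHom k)) =
      specULiftZIsTerminal.from (Spec (CommRingCat.of k)) := specULiftZIsTerminal.hom_ext _ _
  rwa [h1] at h

/-- `Pⁿ_k ≅ Pⁿ_ℤ ×_ℤ Spec k` -/
noncomputable def projIsoN : ProjSpace n k ≅ ProjSpaceOver n (Spec (CommRingCat.of k)) :=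
  (isPullback_overN n k).isoPullback

theorem projIsoN_hom_toBase :
    (projIsoN n k).hom ≫ ProjSpaceOver.toBase n (Spec (CommRingCat.of k)) = ProjSpace.toSpec n k :=
  (isPullback_overN n k).isoPullback_hom_snd

theorem projIsoN_inv_toSpec :
    (projIsoN n k).inv ≫ ProjSpace.toSpec n k = ProjSpaceOver.toBase n (Spec (CommRingCat.of k)) := by
  rw [Iso.inv_comp_eq, projIsoN_hom_toBase]

variable {n k}
variable (c : Fin (n + 1) → k)

/-- the chart `D₊(q) → Pⁿ_k`. -/
noncomputable def ιq : Spec (CommRingCat.of (Aq c)) ⟶ ProjSpace n k :=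
  Proj.awayι (polyGrading n k) (qc n k c) (qc_mem n k c) one_pos

instance : IsOpenImmersion (ιq c) :=
  inferInstanceAs (IsOpenImmersion (Proj.awayι (polyGrading n k) (qc n k c) (qc_mem n k c) one_pos))

theorem ιq_toSpec : ιq c ≫ ProjSpace.toSpec n k = Spec.map (CommRingCat.ofHom (cst c)) := by
  have key := Proj.awayι_toSpecZero (polyGrading n k) (qc n k c) (qc_mem n k c) one_pos
  change Proj.awayι (polyGrading n k) (qc n k c) (qc_mem n k c) one_pos ≫
    (Proj.toSpecZero (polyGrading n k) ≫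
      Spec.map (CommRingCat.ofHom (algebraMap k (polyGrading n k 0)))) = _
  rw [reassoc_of% key, ← Spec.map_comp, ← CommRingCat.ofHom_comp]
  rfl

theorem range_ιq : Set.range (ιq c).base =
    (Proj.basicOpen (polyGrading n k) (qc n k c) : Set (Proj (polyGrading n k))) := by
  have := Proj.opensRange_awayι (polyGrading n k) (qc n k c) (qc_mem n k c) one_pos
  exact congrArg (fun U : (Proj (polyGrading n k)).Opens => (U : Set (Proj (polyGrading n k)))) this

theorem exists_qc_mem (x y : Proj (polyGrading n k)) :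
    ∃ c : Fin (n + 1) → k, x ∈ Proj.basicOpen (polyGrading n k) (qc n k c) ∧
      y ∈ Proj.basicOpen (polyGrading n k) (qc n k c) := by
  have hcov := Proj.iSup_basicOpen_eq_top (𝒜 := polyGrading n k)
    (fun i : Fin (n + 1) => (X i : MvPolynomial (Fin (n + 1)) k))
    (Groth.Agent.ProjGamma5.irrelevant_le_span n k)
  have hx : x ∈ (⨆ i : Fin (n + 1), Proj.basicOpen (polyGrading n k)
      (X i : MvPolynomial (Fin (n + 1)) k)) := by
    rw [hcov]; trivial
  have hy : y ∈ (⨆ i : Fin (n + 1), Proj.basicOpen (polyGrading n k)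
      (X i : MvPolynomial (Fin (n + 1)) k)) := by
    rw [hcov]; trivial
  obtain ⟨l, hl⟩ := TopologicalSpace.Opens.mem_iSup.mp hx
  obtain ⟨j, hj⟩ := TopologicalSpace.Opens.mem_iSup.mp hy
  rw [Proj.mem_basicOpen] at hl hj
  by_cases h1 : (X l : MvPolynomial (Fin (n + 1)) k) ∈ y.asHomogeneousIdeal
  · by_cases h2 : (X j : MvPolynomial (Fin (n + 1)) k) ∈ x.asHomogeneousIdeal
    · refine ⟨Pi.single l 1 + Pi.single j 1, ?_, ?_⟩
      · rw [Proj.mem_basicOpen, qc_add, qc_single, qc_single]
        intro h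
        have h3 : (X l + X j - X j : MvPolynomial (Fin (n + 1)) k) ∈
            x.asHomogeneousIdeal.toIdeal := Ideal.sub_mem _ h h2
        rw [add_sub_cancel_right] at h3
        exact hl h3
      · rw [Proj.mem_basicOpen, qc_add, qc_single, qc_single]
        intro h
        have h3 : (X l + X j - X l : MvPolynomial (Fin (n + 1)) k) ∈
            y.asHomogeneousIdeal.toIdeal := Ideal.sub_mem _ h h1
        rw [add_sub_cancel_left] at h3
        exact hj h3
    · refine ⟨Pi.single j 1, ?_, ?_⟩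
      · rw [Proj.mem_basicOpen, qc_single]; exact h2
      · rw [Proj.mem_basicOpen, qc_single]; exact hj
  · refine ⟨Pi.single l 1, ?_, ?_⟩
    · rw [Proj.mem_basicOpen, qc_single]; exact hl
    · rw [Proj.mem_basicOpen, qc_single]; exact h1

variable (n k) in
theorem main18577 (V : (ProjSpaceOver n (Spec (CommRingCat.of k))).Opens)
    (K : Type u) [Field K] [Algebra k K]
    (A B : REq.Pts (V.ι ≫ ProjSpaceOver.toBase n (Spec (CommRingCat.of k))) K) :
    REq.ElemLink (V.ι ≫ ProjSpaceOver.toBase n (Spec (CommRingCat.of k))) K A B := by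
  set e := projIsoN n k with he
  set PA : Spec (CommRingCat.of K) ⟶ ProjSpace n k := A.1 ≫ V.ι ≫ e.inv with hPAdef
  set PB : Spec (CommRingCat.of K) ⟶ ProjSpace n k := B.1 ≫ V.ι ≫ e.inv with hPBdef
  have hPA : PA ≫ ProjSpace.toSpec n k = REq.specMap k K := by
    rw [hPAdef, Category.assoc, Category.assoc, he, projIsoN_inv_toSpec]; exact A.2
  have hPB : PB ≫ ProjSpace.toSpec n k = REq.specMap k K := by
    rw [hPBdef, Category.assoc, Category.assoc, he, projIsoN_inv_toSpec]; exact B.2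
  haveI : Subsingleton (Spec (CommRingCat.of K)) :=
    inferInstanceAs (Subsingleton (PrimeSpectrum K))
  obtain ⟨pt⟩ : Nonempty (Spec (CommRingCat.of K)) :=
    inferInstanceAs (Nonempty (PrimeSpectrum K))
  obtain ⟨c, hcA, hcB⟩ := exists_qc_mem (n := n) (k := k) (PA.base pt) (PB.base pt)
  have hrA : Set.range PA.base ⊆ Set.range (ιq c).base := by
    rw [range_ιq]; rintro _ ⟨p, rfl⟩; rw [Subsingleton.elim p pt]; exact hcA
  have hrB : Set.range PB.base ⊆ Set.range (ιq c).base := by
    rw [range_ιq]; rintro _ ⟨p, rfl⟩; rw [Subsingleton.elim p pt]; exact hcB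
  set PA' := IsOpenImmersion.lift (ιq c) PA hrA with hPA'def
  set PB' := IsOpenImmersion.lift (ιq c) PB hrB with hPB'def
  have hPA' : PA' ≫ ιq c = PA := IsOpenImmersion.lift_fac _ _ _
  have hPB' : PB' ≫ ιq c = PB := IsOpenImmersion.lift_fac _ _ _
  set ψA : Aq c →+* K := (Spec.preimage PA').hom with hψAdef
  set ψB : Aq c →+* K := (Spec.preimage PB').hom with hψBdef
  have hψA : Spec.map (CommRingCat.ofHom ψA) = PA' := by
    rw [hψAdef, CommRingCat.ofHom_hom, Spec.map_preimage]
  have hψB : Spec.map (CommRingCat.ofHom ψB) = PB' := by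
    rw [hψBdef, CommRingCat.ofHom_hom, Spec.map_preimage]
  have hψAc : ψA.comp (cst c) = algebraMap k K := by
    have h1 : Spec.map (CommRingCat.ofHom (cst c) ≫ CommRingCat.ofHom ψA) =
        Spec.map (CommRingCat.ofHom (algebraMap k K)) := by
      rw [Spec.map_comp, hψA, ← ιq_toSpec, ← Category.assoc, hPA', hPA]
    exact congrArg CommRingCat.Hom.hom (Spec.map_injective h1)
  have hψBc : ψB.comp (cst c) = algebraMap k K := by
    have h1 : Spec.map (CommRingCat.ofHom (cst c) ≫ CommRingCat.ofHom ψB) =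
        Spec.map (CommRingCat.ofHom (algebraMap k K)) := by
      rw [Spec.map_comp, hψB, ← ιq_toSpec, ← Category.assoc, hPB', hPB]
    exact congrArg CommRingCat.Hom.hom (Spec.map_injective h1)
  set a : Fin (n + 1) → K := fun l => ψA (xq c l) with hadef
  set b : Fin (n + 1) → K := fun l => ψB (xq c l) with hbdef
  have ha1 : aeval a (qc n k c) = 1 := by
    have := congrArg (fun F : MvPolynomial (Fin (n + 1)) k →+* K => F (qc n k c))
      (comp_ρ c K ψA hψAc)
    simp only [RingHom.comp_apply, ρ_qc, map_one] at this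
    exact this.symm
  have hb1 : aeval b (qc n k c) = 1 := by
    have := congrArg (fun F : MvPolynomial (Fin (n + 1)) k →+* K => F (qc n k c))
      (comp_ρ c K ψB hψBc)
    simp only [RingHom.comp_apply, ρ_qc, map_one] at this
    exact this.symm
  have hθ1 : (lineHom (k := k) K a b) (qc n k c) = 1 := by
    rw [lineHom_qc, ha1, hb1]; simp
  set Φ := PhiHom c K a b hθ1 with hΦdef
  have hΦ0 : (Polynomial.evalRingHom (0 : K)).comp Φ = ψA := by
    apply eq_of_comp_ρ c
    rw [RingHom.comp_assoc, hΦdef, PhiHom_comp_ρ, eval0_comp, comp_ρ c K ψA hψAc]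
  have hΦ1 : (Polynomial.evalRingHom (1 : K)).comp Φ = ψB := by
    apply eq_of_comp_ρ c
    rw [RingHom.comp_assoc, hΦdef, PhiHom_comp_ρ, eval1_comp, comp_ρ c K ψB hψBc]
  set φ : Spec (CommRingCat.of (Polynomial K)) ⟶ ProjSpaceOver n (Spec (CommRingCat.of k)) :=
    Spec.map (CommRingCat.ofHom Φ) ≫ ιq c ≫ e.hom with hφdef
  have h0 : Spec.map (CommRingCat.ofHom (Polynomial.evalRingHom (0 : K))) ≫ φ =
      A.1 ≫ 𝟙 _ ≫ V.ι := by
    rw [hφdef, ← Category.assoc, ← Spec.map_comp, ← CommRingCat.ofHom_comp, hΦ0, hψA,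
      ← Category.assoc, hPA', hPAdef, Category.id_comp]
    simp only [Category.assoc, Iso.inv_hom_id, Category.comp_id]
  have h1 : Spec.map (CommRingCat.ofHom (Polynomial.evalRingHom (1 : K))) ≫ φ =
      B.1 ≫ 𝟙 _ ≫ V.ι := by
    rw [hφdef, ← Category.assoc, ← Spec.map_comp, ← CommRingCat.ofHom_comp, hΦ1, hψB,
      ← Category.assoc, hPB', hPBdef, Category.id_comp]
    simp only [Category.assoc, Iso.inv_hom_id, Category.comp_id]
  have hφk : φ ≫ ProjSpaceOver.toBase n (Spec (CommRingCat.of k)) =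
      Spec.map (CommRingCat.ofHom (Polynomial.C : K →+* Polynomial K)) ≫ REq.specMap k K := by
    rw [hφdef]
    simp only [Category.assoc]
    rw [he, projIsoN_hom_toBase, ιq_toSpec]
    show _ = Spec.map _ ≫ Spec.map _
    rw [← Spec.map_comp, ← Spec.map_comp, ← CommRingCat.ofHom_comp, ← CommRingCat.ofHom_comp,
      hΦdef, PhiHom_comp_cst]
  exact elemLink_of_line K (ProjSpaceOver.toBase n (Spec (CommRingCat.of k))) (V : Scheme.{u})
    (V.ι ≫ ProjSpaceOver.toBase n (Spec (CommRingCat.of k))) V (𝟙 _) (𝟙 _) (Category.id_comp _)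
    (Category.id_comp _) A B φ h0 h1 hφk

end Geometry

end Groth.Agent.Lib.REqPnL
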