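import Mathlib
import Groth.Agent.Lib.FanSeq2_helper9
import Groth.Agent.Lib.FanRat2_helper9

set_option autoImplicit false
universe u
open CategoryTheory Opposite Instab
open Instab Instab.Fan

namespace Groth.Agent.RFan9

open Groth.Agent.FanBasic9 Groth.Agent.FanCone9 Groth.Agent.FanMap9 Groth.Agent.FanPull9
  Groth.Agent.FanRep9 Groth.Agent.FanQS9 Groth.Agent.FanTop9

/-- the real extension of an integral linear map `ℤ^k → ℤ^N` -/
def ext {k N : ℕ} (L : (Fin k → ℤ) →ₗ[ℤ] (Fin N → ℤ)) (v : Fin k → ℝ) : Fin N → ℝ :=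
  fun j => ∑ i, (L (Pi.single i 1) j : ℝ) * v i

theorem toLin_apply' {k N : ℕ} (L : (Fin k → ℤ) →ₗ[ℤ] (Fin N → ℤ)) (u : Fin k → ℤ) (j : Fin N) :
    L u j = ∑ l, u l * L (Pi.single l 1) j := by
  have hu : u = ∑ l, u l • (Pi.single l 1 : Fin k → ℤ) := by
    ext i
    simp [Finset.sum_apply, Pi.single_apply]
  conv_lhs => rw [hu]
  rw [map_sum, Finset.sum_apply]
  refine Finset.sum_congr rfl fun l _ => ?_
  rw [map_smul]
  rfl

theorem ext_smul {k N : ℕ} (L : (Fin k → ℤ) →ₗ[ℤ] (Fin N → ℤ)) (c : ℝ) (v : Fin k → ℝ) :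
    ext L (c • v) = c • ext L v := by
  funext j
  change ∑ i, _ * (c * v i) = c * ∑ i, _ * v i
  rw [Finset.mul_sum]
  refine Finset.sum_congr rfl fun i _ => ?_
  ring

theorem ext_add {k N : ℕ} (L : (Fin k → ℤ) →ₗ[ℤ] (Fin N → ℤ)) (v w : Fin k → ℝ) :
    ext L (v + w) = ext L v + ext L w := by
  funext j
  change ∑ i, _ * (v i + w i) = ∑ i, _ * v i + ∑ i, _ * w i
  rw [← Finset.sum_add_distrib]
  refine Finset.sum_congr rfl fun i _ => ?_
  ring

theorem ext_zero {k N : ℕ} (L : (Fin k → ℤ) →ₗ[ℤ] (Fin N → ℤ)) : ext L 0 = 0 := by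
  have := ext_smul L 0 0
  simpa using this

theorem ext_comp {k m N : ℕ} (L' : (Fin k → ℤ) →ₗ[ℤ] (Fin m → ℤ))
    (L : (Fin m → ℤ) →ₗ[ℤ] (Fin N → ℤ)) (v : Fin k → ℝ) :
    ext (L.comp L') v = ext L (ext L' v) := by
  funext j
  change ∑ i, ((L (L' (Pi.single i 1)) j : ℤ) : ℝ) * v i
    = ∑ l, ((L (Pi.single l 1) j : ℤ) : ℝ) * (∑ i, ((L' (Pi.single i 1) l : ℤ) : ℝ) * v i)
  simp_rw [Finset.mul_sum]
  rw [Finset.sum_comm]
  refine Finset.sum_congr rfl fun i _ => ?_
  rw [toLin_apply' L (L' (Pi.single i 1)) j]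
  push_cast
  rw [Finset.sum_mul]
  refine Finset.sum_congr rfl fun l _ => ?_
  ring

theorem ext_intCast {k N : ℕ} (L : (Fin k → ℤ) →ₗ[ℤ] (Fin N → ℤ)) (u : Fin k → ℤ) :
    ext L (fun i => (u i : ℝ)) = fun j => (L u j : ℝ) := by
  funext j
  change ∑ i, ((L (Pi.single i 1) j : ℤ) : ℝ) * (u i : ℝ) = _
  rw [toLin_apply' L u j]
  push_cast
  exact Finset.sum_congr rfl fun i _ => mul_comm _ _

theorem realMap_eq_ext {k n : ICone} (φ : k ⟶ n) (v : Fin k.dim → ℝ) :
    φ.realMap v = ext φ.toLin v := rfl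

/-- the key "fibre product of simplicial cones" lemma: two points of two rational simplices
mapping to the same ray of a third one come from a common simplicial subcone. -/
theorem exists_common' {k k' : ICone} {N : ℕ} (L₁ : (Fin k.dim → ℤ) →ₗ[ℤ] (Fin N → ℤ))
    (L₂ : (Fin k'.dim → ℤ) →ₗ[ℤ] (Fin N → ℤ)) (hL₁ : Function.Injective L₁)
    (hL₂ : Function.Injective L₂) (y : Orth k) (y' : Orth k')
    (c d : ℝ) (hc : 0 < c) (hd : 0 < d) (h : c • ext L₁ y.1 = d • ext L₂ y'.1) :
    ∃ (m : ICone) (α : m ⟶ k) (β : m ⟶ k') (z : Orth m) (a b : ℝ),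
      L₁.comp α.toLin = L₂.comp β.toLin ∧ 0 < a ∧ 0 < b ∧ y.1 = a • α.realMap z.1 ∧
        y'.1 = b • β.realMap z.1 := by
  classical
  let M : Fin N → (Fin k.dim ⊕ Fin k'.dim) → ℤ := fun j =>
    Sum.elim (fun i => L₁ (Pi.single i 1) j) (fun i' => - L₂ (Pi.single i' 1) j)
  let x : (Fin k.dim ⊕ Fin k'.dim) → ℝ := Sum.elim (fun i => c * y.1 i) (fun i' => d * y'.1 i')
  have hx : SolR M x := by
    intro j
    rw [Fintype.sum_sum_type]
    simp only [M, x, Sum.elim_inl, Sum.elim_inr]
    have := congr_fun h j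
    simp only [Pi.smul_apply, smul_eq_mul] at this
    change c * ∑ i, _ * y.1 i = d * ∑ i, _ * y'.1 i at this
    rw [Finset.mul_sum, Finset.mul_sum] at this
    have e1 : ∑ i, ((L₁ (Pi.single i 1) j : ℤ) : ℝ) * (c * y.1 i)
        = ∑ i, c * (((L₁ (Pi.single i 1) j : ℤ) : ℝ) * y.1 i) :=
      Finset.sum_congr rfl fun i _ => by ring
    have e2 : ∑ i, (((- L₂ (Pi.single i 1) j : ℤ)) : ℝ) * (d * y'.1 i)
        = - ∑ i, d * (((L₂ (Pi.single i 1) j : ℤ) : ℝ) * y'.1 i) := by
      rw [← Finset.sum_neg_distrib]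
      exact Finset.sum_congr rfl fun i _ => by push_cast; ring
    rw [e1, e2, this]; ring
  have hnn : ∀ i, 0 ≤ x i := by
    rintro (i | i)
    · exact mul_nonneg hc.le (y.2.1 i)
    · exact mul_nonneg hd.le (y'.2.1 i)
  obtain ⟨m₀, w, z, hw1, hw2, hw3, hw4, hz, hsum⟩ := exists_decomp M _ x hx hnn le_rfl
  -- the point x is nonzero
  have hxne : ∃ i, x (Sum.inl i) ≠ 0 := by
    by_contra hcon
    push Not at hcon
    apply y.2.2
    funext i
    have := hcon i
    simp only [x, Sum.elim_inl] at this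
    rcases mul_eq_zero.1 this with h | h
    · exact absurd h hc.ne'
    · exact h
  have hm₀ : 0 < m₀ := by
    rcases Nat.eq_zero_or_pos m₀ with h0 | h0
    · subst h0
      obtain ⟨i, hi⟩ := hxne
      exact absurd (by rw [hsum (Sum.inl i)]; simp) hi
    · exact h0
  let m : ICone := ⟨⟨m₀, hm₀⟩⟩
  let A : Matrix (Fin k.dim) (Fin m₀) ℤ := fun i a => w a (Sum.inl i)
  let B : Matrix (Fin k'.dim) (Fin m₀) ℤ := fun i a => w a (Sum.inr i)
  have hA : ∀ (cc : Fin m₀ → ℤ) i, A.mulVecLin cc i = ∑ a, cc a * w a (Sum.inl i) := by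
    intro cc i
    simp only [Matrix.mulVecLin_apply, Matrix.mulVec, dotProduct, A]
    exact Finset.sum_congr rfl fun a _ => mul_comm _ _
  have hB : ∀ (cc : Fin m₀ → ℤ) i, B.mulVecLin cc i = ∑ a, cc a * w a (Sum.inr i) := by
    intro cc i
    simp only [Matrix.mulVecLin_apply, Matrix.mulVec, dotProduct, B]
    exact Finset.sum_congr rfl fun a _ => mul_comm _ _
  -- compatibility
  have hcompat : ∀ cc : Fin m₀ → ℤ, L₁ (A.mulVecLin cc) = L₂ (B.mulVecLin cc) := by
    intro cc
    funext j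
    rw [toLin_apply' L₁, toLin_apply' L₂]
    simp_rw [hA, hB, Finset.sum_mul]
    rw [Finset.sum_comm, Finset.sum_comm (s := Finset.univ (α := Fin k'.dim))]
    refine Finset.sum_congr rfl fun a _ => ?_
    have := hw1 a j
    rw [Fintype.sum_sum_type] at this
    simp only [M, Sum.elim_inl, Sum.elim_inr] at this
    have e1 : ∑ i, cc a * w a (Sum.inl i) * L₁ (Pi.single i 1) j
        = cc a * ∑ i, L₁ (Pi.single i 1) j * w a (Sum.inl i) := by
      rw [Finset.mul_sum]; exact Finset.sum_congr rfl fun i _ => by ring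
    have e2 : ∑ i, cc a * w a (Sum.inr i) * L₂ (Pi.single i 1) j
        = cc a * ∑ i, L₂ (Pi.single i 1) j * w a (Sum.inr i) := by
      rw [Finset.mul_sum]; exact Finset.sum_congr rfl fun i _ => by ring
    rw [e1, e2]
    congr 1
    have e3 : ∑ i, -L₂ (Pi.single i 1) j * w a (Sum.inr i)
        = - ∑ i, L₂ (Pi.single i 1) j * w a (Sum.inr i) := by
      rw [← Finset.sum_neg_distrib]; exact Finset.sum_congr rfl fun i _ => by ring
    rw [e3] at this
    linarith
  have hker : ∀ cc : Fin m₀ → ℤ, A.mulVecLin cc = 0 → B.mulVecLin cc = 0 → cc = 0 := by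
    intro cc h1 h2
    apply hw4
    rintro (i | i)
    · rw [← hA]; rw [h1]; rfl
    · rw [← hB]; rw [h2]; rfl
  have hAinj : Function.Injective A.mulVecLin := by
    rw [injective_iff_map_eq_zero]
    intro cc hcc
    refine hker cc hcc ?_
    apply hL₂
    rw [← hcompat, hcc, map_zero, map_zero]
  have hBinj : Function.Injective B.mulVecLin := by
    rw [injective_iff_map_eq_zero]
    intro cc hcc
    refine hker cc ?_ hcc
    apply hL₁
    rw [hcompat, hcc, map_zero, map_zero]
  let α : m ⟶ k := ⟨A.mulVecLin, hAinj, fun v hv j => by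
    exact le_of_le_of_eq (Finset.sum_nonneg fun a _ => mul_nonneg (hv a) (hw2 a _)) (hA v j).symm⟩
  let β : m ⟶ k' := ⟨B.mulVecLin, hBinj, fun v hv j => by
    exact le_of_le_of_eq (Finset.sum_nonneg fun a _ => mul_nonneg (hv a) (hw2 a _)) (hB v j).symm⟩
  have hzne : z ≠ 0 := by
    intro hz0
    obtain ⟨i, hi⟩ := hxne
    exact absurd (by rw [hsum (Sum.inl i), hz0]; simp) hi
  let zz : Orth m := ⟨z, hz, hzne⟩
  have hαz : ∀ i, α.realMap z i = c * y.1 i := by
    intro i
    change ∑ a, ((A.mulVecLin (Pi.single a 1) i : ℤ) : ℝ) * z a = _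
    have := hsum (Sum.inl i)
    simp only [x, Sum.elim_inl] at this
    rw [this]
    refine Finset.sum_congr rfl fun a _ => ?_
    rw [hA]
    simp [Pi.single_apply, mul_comm]
  have hβz : ∀ i, β.realMap z i = d * y'.1 i := by
    intro i
    change ∑ a, ((B.mulVecLin (Pi.single a 1) i : ℤ) : ℝ) * z a = _
    have := hsum (Sum.inr i)
    simp only [x, Sum.elim_inr] at this
    rw [this]
    refine Finset.sum_congr rfl fun a _ => ?_
    rw [hB]
    simp [Pi.single_apply, mul_comm]
  refine ⟨m, α, β, zz, c⁻¹, d⁻¹, ?_, inv_pos.2 hc, inv_pos.2 hd, ?_, ?_⟩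
  · apply LinearMap.ext
    intro cc
    exact hcompat cc
  · funext i
    simp only [Pi.smul_apply, smul_eq_mul]
    change y.1 i = c⁻¹ * α.realMap z i
    rw [hαz]; field_simp
  · funext i
    simp only [Pi.smul_apply, smul_eq_mul]
    change y'.1 i = d⁻¹ * β.realMap z i
    rw [hβz]; field_simp


/-- the real matrix of a cone morphism is injective -/
theorem ext_injective {k N : ℕ} (L : (Fin k → ℤ) →ₗ[ℤ] (Fin N → ℤ)) (hL : Function.Injective L) :
    Function.Injective (ext L) := by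
  classical
  have hsub : ∀ x x' : Fin k → ℝ, ext L (x - x') = ext L x - ext L x' := by
    intro x x'
    have : x - x' = x + (-1 : ℝ) • x' := by simp [sub_eq_add_neg]
    rw [this, ext_add, ext_smul]; simp [sub_eq_add_neg]
  have hker : ∀ x : Fin k → ℝ, ext L x = 0 → x = 0 := by
    intro x hx
    let M : Fin N → (Fin k ⊕ Fin k) → ℤ := fun j =>
      Sum.elim (fun i => L (Pi.single i 1) j) (fun i' => - L (Pi.single i' 1) j)
    let X : (Fin k ⊕ Fin k) → ℝ := Sum.elim (fun i => max (x i) 0) (fun i => max (- x i) 0)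
    have hX : SolR M X := by
      intro j
      rw [Fintype.sum_sum_type]
      simp only [M, X, Sum.elim_inl, Sum.elim_inr]
      have := congr_fun hx j
      change ∑ i, ((L (Pi.single i 1) j : ℤ) : ℝ) * x i = 0 at this
      rw [← Finset.sum_add_distrib]
      refine Eq.trans ?_ this
      refine Finset.sum_congr rfl fun i _ => ?_
      push_cast
      have : max (x i) 0 - max (- x i) 0 = x i := by
        rcases le_total 0 (x i) with h | h
        · rw [max_eq_left h, max_eq_right (by linarith)]; ring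
        · rw [max_eq_right h, max_eq_left (by linarith)]; ring
      linear_combination ((L (Pi.single i 1) j : ℤ) : ℝ) * this
    have hnn : ∀ i, 0 ≤ X i := by
      rintro (i | i) <;> simp [X]
    obtain ⟨m, w, z, hw1, -, -, -, -, hsum⟩ := exists_decomp M _ X hX hnn le_rfl
    have hweq : ∀ a i, w a (Sum.inl i) = w a (Sum.inr i) := by
      intro a
      have : L (fun i => w a (Sum.inl i)) = L (fun i => w a (Sum.inr i)) := by
        funext j
        rw [toLin_apply' L, toLin_apply' L]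
        have := hw1 a j
        rw [Fintype.sum_sum_type] at this
        simp only [M, Sum.elim_inl, Sum.elim_inr] at this
        have e3 : ∑ i, -L (Pi.single i 1) j * w a (Sum.inr i)
            = - ∑ i, L (Pi.single i 1) j * w a (Sum.inr i) := by
          rw [← Finset.sum_neg_distrib]; exact Finset.sum_congr rfl fun i _ => by ring
        rw [e3] at this
        have e1 : ∑ l, w a (Sum.inl l) * L (Pi.single l 1) j
            = ∑ i, L (Pi.single i 1) j * w a (Sum.inl i) :=
          Finset.sum_congr rfl fun i _ => mul_comm _ _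
        have e2 : ∑ l, w a (Sum.inr l) * L (Pi.single l 1) j
            = ∑ i, L (Pi.single i 1) j * w a (Sum.inr i) :=
          Finset.sum_congr rfl fun i _ => mul_comm _ _
        rw [e1, e2]; linarith
      exact fun i => congr_fun (hL this) i
    funext i
    have h1 := hsum (Sum.inl i)
    have h2 := hsum (Sum.inr i)
    simp only [X, Sum.elim_inl, Sum.elim_inr] at h1 h2
    have : max (x i) 0 = max (- x i) 0 := by
      rw [h1, h2]
      exact Finset.sum_congr rfl fun a _ => by rw [hweq a i]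
    rcases le_total 0 (x i) with h | h
    · rw [max_eq_left h, max_eq_right (by linarith)] at this
      simpa using this
    · rw [max_eq_right h, max_eq_left (by linarith)] at this
      simp only [Pi.zero_apply]; linarith
  intro x x' h
  have := hker (x - x') (by rw [hsub, h, sub_self])
  exact sub_eq_zero.1 this


/-- `ext` as a linear map -/
def extLin {k N : ℕ} (L : (Fin k → ℤ) →ₗ[ℤ] (Fin N → ℤ)) : (Fin k → ℝ) →ₗ[ℝ] (Fin N → ℝ) where
  toFun := ext L
  map_add' := ext_add L
  map_smul' := ext_smul L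

theorem ext_isClosedEmbedding {k N : ℕ} (L : (Fin k → ℤ) →ₗ[ℤ] (Fin N → ℤ))
    (hL : Function.Injective L) : Topology.IsClosedEmbedding (ext L) :=
  LinearMap.isClosedEmbedding_of_injective (f := extLin L)
    (LinearMap.ker_eq_bot.2 (ext_injective L hL))

theorem ext_continuous {k N : ℕ} (L : (Fin k → ℤ) →ₗ[ℤ] (Fin N → ℤ)) : Continuous (ext L) :=
  continuous_pi fun j => continuous_finset_sum _ fun i _ =>
    continuous_const.mul (continuous_apply i)

theorem ext_ne_zero {k : ICone} {N : ℕ} (L : (Fin k.dim → ℤ) →ₗ[ℤ] (Fin N → ℤ))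
    (hL : Function.Injective L) (v : Orth k) : ext L v.1 ≠ 0 := by
  intro h
  exact v.2.2 (ext_injective L hL (h.trans (ext_zero L).symm))

end Groth.Agent.RFan9
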