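import Mathlib
import Groth.Agent.Lib.RFan1_helper9

set_option autoImplicit false
universe u
open CategoryTheory Opposite Instab
open Instab Instab.Fan

namespace Groth.Agent.RFan9

/-- **Conic Carathéodory.** A nonnegative combination of finitely many vectors is a positive
combination of a linearly independent subfamily. -/
theorem conic_caratheodory {ι E : Type*} [AddCommGroup E] [Module ℝ E] [DecidableEq ι]
    (v : ι → E) : ∀ (n : ℕ) (G : Finset ι) (c : ι → ℝ), (∀ g ∈ G, 0 ≤ c g) →
    (G.filter (fun g => 0 < c g)).card ≤ n →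
    ∃ (G' : Finset ι) (c' : ι → ℝ), G' ⊆ G ∧ LinearIndepOn ℝ v (G' : Set ι) ∧
      (∀ g ∈ G', 0 < c' g) ∧ ∑ g ∈ G', c' g • v g = ∑ g ∈ G, c g • v g := by
  intro n
  induction n with
  | zero =>
    intro G c hc hcard
    have hempty : G.filter (fun g => 0 < c g) = ∅ := Finset.card_eq_zero.1 (Nat.le_zero.1 hcard)
    refine ⟨∅, c, Finset.empty_subset _, by simp, by simp, ?_⟩
    rw [Finset.sum_empty]
    symm
    refine Finset.sum_eq_zero fun g hg => ?_
    have : ¬ 0 < c g := fun h => by
      have : g ∈ G.filter (fun g => 0 < c g) := Finset.mem_filter.2 ⟨hg, h⟩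
      rw [hempty] at this
      simp at this
    have : c g = 0 := le_antisymm (not_lt.1 this) (hc g hg)
    rw [this, zero_smul]
  | succ n ih =>
    intro G c hc hcard
    set G₀ := G.filter (fun g => 0 < c g) with hG₀
    have hsum₀ : ∑ g ∈ G₀, c g • v g = ∑ g ∈ G, c g • v g := by
      refine Finset.sum_subset (Finset.filter_subset _ _) fun g hg hg' => ?_
      have : ¬ 0 < c g := fun h => hg' (Finset.mem_filter.2 ⟨hg, h⟩)
      have : c g = 0 := le_antisymm (not_lt.1 this) (hc g hg)
      rw [this, zero_smul]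
    by_cases hli : LinearIndepOn ℝ v (G₀ : Set ι)
    · exact ⟨G₀, c, Finset.filter_subset _ _, hli, fun g hg => (Finset.mem_filter.1 hg).2, hsum₀⟩
    · obtain ⟨f, hf0, i₁, hi₁, hfi₁⟩ := not_linearIndepOn_finset_iff.1 hli
      -- a dependency with a positive coefficient
      obtain ⟨lam, hlam0, hlampos⟩ : ∃ lam : ι → ℝ, ∑ i ∈ G₀, lam i • v i = 0 ∧ 0 < lam i₁ := by
        rcases lt_or_gt_of_ne hfi₁ with h | h
        · refine ⟨fun i => - f i, ?_, by simpa using h⟩
          simp only [neg_smul, Finset.sum_neg_distrib, hf0, neg_zero]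
        · exact ⟨f, hf0, h⟩
      let Ppos := G₀.filter (fun g => 0 < lam g)
      have hPne : Ppos.Nonempty := ⟨i₁, Finset.mem_filter.2 ⟨hi₁, hlampos⟩⟩
      obtain ⟨gs, hgsP, hmin⟩ := Finset.exists_min_image Ppos (fun g => c g / lam g) hPne
      have hgsG₀ : gs ∈ G₀ := (Finset.mem_filter.1 hgsP).1
      have hgslam : 0 < lam gs := (Finset.mem_filter.1 hgsP).2
      have hgsc : 0 < c gs := (Finset.mem_filter.1 hgsG₀).2
      set t : ℝ := c gs / lam gs with ht
      have htpos : 0 < t := div_pos hgsc hgslam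
      let c'' : ι → ℝ := fun g => c g - t * lam g
      have hc''nn : ∀ g ∈ G₀, 0 ≤ c'' g := by
        intro g hg
        have hcg : 0 < c g := (Finset.mem_filter.1 hg).2
        by_cases hl : 0 < lam g
        · have := hmin g (Finset.mem_filter.2 ⟨hg, hl⟩)
          change t ≤ c g / lam g at this
          rw [le_div_iff₀ hl] at this
          change 0 ≤ c g - t * lam g
          linarith
        · have : t * lam g ≤ 0 := mul_nonpos_of_nonneg_of_nonpos htpos.le (not_lt.1 hl)
          change 0 ≤ c g - t * lam g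
          linarith
      have hc''gs : c'' gs = 0 := by
        change c gs - t * lam gs = 0
        rw [ht]; field_simp; ring
      have hcard' : (G₀.filter (fun g => 0 < c'' g)).card ≤ n := by
        have hss : G₀.filter (fun g => 0 < c'' g) ⊂ G₀ := by
          rw [Finset.ssubset_iff_of_subset (Finset.filter_subset _ _)]
          exact ⟨gs, hgsG₀, fun h => by
            have := (Finset.mem_filter.1 h).2
            rw [hc''gs] at this
            exact lt_irrefl _ this⟩
        have := Finset.card_lt_card hss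
        omega
      obtain ⟨G', c', hG', hli', hc', hsum'⟩ := ih G₀ c'' hc''nn hcard'
      refine ⟨G', c', hG'.trans (Finset.filter_subset _ _), hli', hc', ?_⟩
      rw [hsum', ← hsum₀]
      have : ∑ g ∈ G₀, c'' g • v g = ∑ g ∈ G₀, c g • v g - t • ∑ g ∈ G₀, lam g • v g := by
        rw [Finset.smul_sum, ← Finset.sum_sub_distrib]
        refine Finset.sum_congr rfl fun g _ => ?_
        change (c g - t * lam g) • v g = _
        rw [sub_smul, mul_smul]
      rw [this, hlam0, smul_zero, sub_zero]

/-- cast of an integer vector to a real vector -/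
def castR {N : ℕ} (g : Fin N → ℤ) : Fin N → ℝ := fun j => (g j : ℝ)

/-- the cone spanned by a finite set of integer vectors (in the form of the statement) -/
def coneOf {N : ℕ} (G : Finset (Fin N → ℤ)) : Set (Fin N → ℝ) :=
  {x | ∃ c : (Fin N → ℤ) → ℝ, (∀ g, 0 ≤ c g) ∧ x = Finset.sum G fun g => c g • fun j => (g j : ℝ)}

theorem coneOf_mono {N : ℕ} {G' G : Finset (Fin N → ℤ)} (h : G' ⊆ G) : coneOf G' ⊆ coneOf G := by
  classical
  rintro x ⟨c, hc, rfl⟩
  refine ⟨fun g => if g ∈ G' then c g else 0, fun g => by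
    dsimp only
    split_ifs <;> simp [hc g], ?_⟩
  rw [← Finset.sum_subset h]
  · exact Finset.sum_congr rfl fun g hg => by dsimp only; rw [if_pos hg]
  · intro g _ hg
    dsimp only
    rw [if_neg hg, zero_smul]

/-- Carathéodory for `coneOf` -/
theorem coneOf_caratheodory {N : ℕ} (G : Finset (Fin N → ℤ)) (x : Fin N → ℝ) (hx : x ∈ coneOf G) :
    ∃ (G' : Finset (Fin N → ℤ)) (c' : (Fin N → ℤ) → ℝ), G' ⊆ G ∧
      LinearIndepOn ℝ castR (G' : Set (Fin N → ℤ)) ∧ (∀ g ∈ G', 0 < c' g) ∧
      x = ∑ g ∈ G', c' g • castR g := by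
  classical
  obtain ⟨c, hc, rfl⟩ := hx
  obtain ⟨G', c', h1, h2, h3, h4⟩ := conic_caratheodory castR _ G c (fun g _ => hc g) le_rfl
  exact ⟨G', c', h1, h2, h3, h4.symm⟩

/-- the cone over a linearly independent set is closed -/
theorem isClosed_coneOf_of_li {N : ℕ} (G' : Finset (Fin N → ℤ))
    (hli : LinearIndepOn ℝ castR (G' : Set (Fin N → ℤ))) : IsClosed (coneOf G') := by
  classical
  let Lc : (G' → ℝ) →ₗ[ℝ] (Fin N → ℝ) := Fintype.linearCombination ℝ (fun g : G' => castR g.1)
  have hinj : Function.Injective Lc :=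
    linearIndependent_iff_injective_fintypeLinearCombination.1 hli
  have hemb : Topology.IsClosedEmbedding Lc :=
    LinearMap.isClosedEmbedding_of_injective (LinearMap.ker_eq_bot.2 hinj)
  have horth : IsClosed {c : G' → ℝ | ∀ g, 0 ≤ c g} := by
    have : {c : G' → ℝ | ∀ g, 0 ≤ c g} = ⋂ g, {c | 0 ≤ c g} := by ext c; simp
    rw [this]
    exact isClosed_iInter fun g => isClosed_le continuous_const (continuous_apply g)
  have himg := hemb.isClosedMap _ horth
  have : coneOf G' = Lc '' {c : G' → ℝ | ∀ g, 0 ≤ c g} := by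
    ext x
    constructor
    · rintro ⟨c, hc, rfl⟩
      refine ⟨fun g => c g.1, fun g => hc g.1, ?_⟩
      rw [Fintype.linearCombination_apply]
      rw [← Finset.sum_attach G']
      rfl
    · rintro ⟨c, hc, rfl⟩
      refine ⟨fun g => if h : g ∈ G' then c ⟨g, h⟩ else 0, fun g => by
        dsimp only
        split_ifs
        · exact hc _
        · exact le_rfl, ?_⟩
      rw [Fintype.linearCombination_apply]
      rw [← Finset.sum_attach G']
      refine Finset.sum_congr rfl fun g _ => ?_
      dsimp only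
      rw [dif_pos g.2]
      rfl
  rw [this]
  exact himg

theorem isClosed_coneOf {N : ℕ} (G : Finset (Fin N → ℤ)) : IsClosed (coneOf G) := by
  classical
  have : coneOf G = ⋃ G' ∈ G.powerset.filter
      (fun G' : Finset (Fin N → ℤ) => LinearIndepOn ℝ castR (G' : Set (Fin N → ℤ))), coneOf G' := by
    ext x
    simp only [Set.mem_iUnion, Finset.mem_filter, Finset.mem_powerset]
    constructor
    · intro hx
      obtain ⟨G', c', h1, h2, h3, h4⟩ := coneOf_caratheodory G x hx
      refine ⟨G', ⟨h1, h2⟩, fun g => if g ∈ G' then c' g else 0, fun g => by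
        dsimp only
        split_ifs with h
        · exact (h3 g h).le
        · exact le_rfl, ?_⟩
      rw [h4]
      exact Finset.sum_congr rfl fun g hg => by dsimp only; rw [if_pos hg]; rfl
    · rintro ⟨G', ⟨h1, _⟩, hx⟩
      exact coneOf_mono h1 hx
  rw [this]
  exact isClosed_biUnion_finset fun G' hG' => isClosed_coneOf_of_li G' (Finset.mem_filter.1 hG').2

end Groth.Agent.RFan9
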