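import Mathlib
import Groth.Agent.Lib.RFan2_helper9

set_option autoImplicit false
universe u
open CategoryTheory Opposite Instab
open Instab Instab.Fan

namespace Groth.Agent.RFan9

open Groth.Agent.FanBasic9 Groth.Agent.FanCone9 Groth.Agent.FanMap9 Groth.Agent.FanPull9
  Groth.Agent.FanRep9 Groth.Agent.FanQS9 Groth.Agent.FanTop9 Groth.Agent.FanRat9

variable {N : ℕ} {ι : Type} (K : ι → Set (Fin N → ℝ))

/-- the defining relation of `Rays N` -/
def rayRel (N : ℕ) (v w : {v : Fin N → ℝ // v ≠ 0}) : Prop := ∃ c : ℝ, 0 < c ∧ w.1 = c • v.1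

theorem rayRel_equiv (N : ℕ) : Equivalence (rayRel N) where
  refl v := ⟨1, one_pos, (one_smul _ _).symm⟩
  symm := by
    rintro v w ⟨c, hc, h⟩
    exact ⟨c⁻¹, inv_pos.2 hc, by rw [h, smul_smul, inv_mul_cancel₀ hc.ne', one_smul]⟩
  trans := by
    rintro u v w ⟨c, hc, h⟩ ⟨d, hd, h'⟩
    exact ⟨d * c, mul_pos hd hc, by rw [h', h, smul_smul]⟩

/-- the ray of a nonzero vector -/
def rayMk {N : ℕ} (w : {v : Fin N → ℝ // v ≠ 0}) : Rays N := Quot.mk _ w

theorem rayMk_eq_iff {N : ℕ} (v w : {v : Fin N → ℝ // v ≠ 0}) :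
    rayMk v = rayMk w ↔ ∃ c : ℝ, 0 < c ∧ w.1 = c • v.1 := by
  constructor
  · intro h
    have := Quot.eqvGen_exact h
    exact (rayRel_equiv N).eqvGen_iff.1 this
  · intro h
    exact Quot.sound h

theorem rayMk_continuous {N : ℕ} : Continuous (rayMk (N := N)) := continuous_quot_mk

theorem isClosed_rays_iff {N : ℕ} (A : Set (Rays N)) : IsClosed A ↔ IsClosed (rayMk ⁻¹' A) :=
  isClosed_coinduced

/-- the map on points of the disjoint union -/
noncomputable def gPt (p : Pt (RFan K)) : Rays N :=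
  rayMk ⟨ext (p.1.2 : RFan.Cone K p.1.1).1 p.2.1, ext_ne_zero _ (p.1.2 : RFan.Cone K p.1.1).2.1 p.2⟩

theorem gPt_rel (p q : Pt (RFan K)) (h : Rel (RFan K) p q) : gPt K p = gPt K q := by
  obtain ⟨ψ, φ, v, w, c, hc, h⟩ := h
  apply (rayMk_eq_iff _ _).2
  refine ⟨c, hc, ?_⟩
  change ext (φ : RFan.Cone K _).1 w.1 = c • ext ((φ : RFan.Cone K _).1.comp ψ.toLin) v.1
  rw [h, ext_smul, ext_comp]
  rfl

/-- the canonical map from the projective realization of `R(K)` to the space of rays -/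
noncomputable def g : P (RFan K) → Rays N := Quot.lift (gPt K) (gPt_rel K)

theorem g_mk {n : ICone} (φ : (RFan K).obj (op n)) (v : Orth n) :
    g K (P.mk φ v) = rayMk ⟨ext (φ : RFan.Cone K n).1 v.1,
      ext_ne_zero _ (φ : RFan.Cone K n).2.1 v⟩ := rfl

theorem g_continuous : Continuous (g K) := by
  refine continuous_quot_lift _ ?_
  refine continuous_sigma fun e => ?_
  have h1 : Continuous fun a : Orth e.1 => ext (e.2 : RFan.Cone K e.1).1 a.1 :=
    (ext_continuous _).comp continuous_subtype_val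
  exact rayMk_continuous.comp (h1.subtype_mk fun a => ext_ne_zero _ (e.2 : RFan.Cone K e.1).2.1 a)

theorem g_injective : Function.Injective (g K) := by
  intro x x'
  induction x using P_ind with
  | _ n φ v =>
  induction x' using P_ind with
  | _ n' φ' v' =>
  intro h
  rw [g_mk, g_mk, rayMk_eq_iff] at h
  obtain ⟨c, hc, hcv⟩ := h
  obtain ⟨m, α, β, z, a, b, hαβ, ha, hb, hv, hv'⟩ :=
    exists_common' (φ : RFan.Cone K n).1 (φ' : RFan.Cone K n').1 (φ : RFan.Cone K n).2.1
      (φ' : RFan.Cone K n').2.1 v v' c 1 hc one_pos (by rw [one_smul]; exact hcv.symm)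
  refine mk_eq_of_common φ φ' v v' α β z a b ?_ ha hb hv hv'
  exact Subtype.ext hαβ

end Groth.Agent.RFan9
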