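import Mathlib
import Groth.Agent.Lib.RFan3_helper9

set_option autoImplicit false
universe u
open CategoryTheory Opposite Instab
open Instab Instab.Fan

namespace Groth.Agent.RFan9

open Groth.Agent.FanBasic9 Groth.Agent.FanCone9 Groth.Agent.FanMap9 Groth.Agent.FanPull9
  Groth.Agent.FanRep9 Groth.Agent.FanQS9 Groth.Agent.FanTop9 Groth.Agent.FanRat9

variable {N : ℕ} {ι : Type} (K : ι → Set (Fin N → ℝ))

/-- enumeration of a finite set of integer vectors -/
noncomputable def gsOf (G' : Finset (Fin N → ℤ)) (i : Fin G'.card) : Fin N → ℤ :=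
  (G'.equivFin.symm i).1

theorem gsOf_mem (G' : Finset (Fin N → ℤ)) (i : Fin G'.card) : gsOf G' i ∈ G' :=
  (G'.equivFin.symm i).2

theorem sum_gsOf {E : Type*} [AddCommMonoid E] (G' : Finset (Fin N → ℤ))
    (f : (Fin N → ℤ) → E) : ∑ i, f (gsOf G' i) = ∑ g ∈ G', f g := by
  rw [← Finset.sum_coe_sort G' f]
  exact Equiv.sum_comp G'.equivFin.symm (fun g : G' => f g.1)

theorem gsOf_equivFin (G' : Finset (Fin N → ℤ)) (g : Fin N → ℤ) (hg : g ∈ G') :
    gsOf G' (G'.equivFin ⟨g, hg⟩) = g := by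
  unfold gsOf
  rw [Equiv.symm_apply_apply]

/-- the standard integral linear map of a finite set of integer vectors -/
noncomputable def stdLin (G' : Finset (Fin N → ℤ)) : (Fin G'.card → ℤ) →ₗ[ℤ] (Fin N → ℤ) :=
  Fintype.linearCombination ℤ (gsOf G')

theorem stdLin_single (G' : Finset (Fin N → ℤ)) (i : Fin G'.card) :
    stdLin G' (Pi.single i 1) = gsOf G' i := by
  unfold stdLin
  rw [Fintype.linearCombination_apply_single, one_smul]

theorem ext_stdLin (G' : Finset (Fin N → ℤ)) (v : Fin G'.card → ℝ) :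
    ext (stdLin G') v = ∑ i, v i • castR (gsOf G' i) := by
  funext j
  change ∑ i, ((stdLin G' (Pi.single i 1) j : ℤ) : ℝ) * v i = _
  rw [Finset.sum_apply]
  refine Finset.sum_congr rfl fun i _ => ?_
  rw [stdLin_single]
  simp only [Pi.smul_apply, smul_eq_mul, castR]
  ring

theorem li_gsOf (G' : Finset (Fin N → ℤ))
    (hli : LinearIndepOn ℝ castR (G' : Set (Fin N → ℤ))) :
    LinearIndependent ℝ (fun i => castR (gsOf G' i)) := by
  have := LinearIndependent.comp hli
    (fun i : Fin G'.card => (⟨(G'.equivFin.symm i).1, (G'.equivFin.symm i).2⟩ :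
      ((G' : Set (Fin N → ℤ)) : Type))) (by
      intro i i' h
      have : (G'.equivFin.symm i).1 = (G'.equivFin.symm i').1 := congrArg Subtype.val h
      exact G'.equivFin.symm.injective (Subtype.ext this))
  exact this

theorem stdLin_injective (G' : Finset (Fin N → ℤ))
    (hli : LinearIndepOn ℝ castR (G' : Set (Fin N → ℤ))) : Function.Injective (stdLin G') := by
  intro u u' h
  have h1 : ext (stdLin G') (fun i => (u i : ℝ)) = ext (stdLin G') (fun i => (u' i : ℝ)) := by
    rw [ext_intCast, ext_intCast, h]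
  rw [ext_stdLin, ext_stdLin] at h1
  have h2 : ∑ i, ((u i : ℝ) - (u' i : ℝ)) • castR (gsOf G' i) = 0 := by
    simp_rw [sub_smul]
    rw [Finset.sum_sub_distrib, h1, sub_self]
  have h3 := Fintype.linearIndependent_iff.1 (li_gsOf G' hli) _ h2
  funext i
  have := h3 i
  have : (u i : ℝ) = (u' i : ℝ) := sub_eq_zero.1 this
  exact_mod_cast this

theorem sum_mem_coneOf (G' : Finset (Fin N → ℤ)) (d : Fin G'.card → ℝ) (hd : ∀ i, 0 ≤ d i) :
    (∑ i, d i • castR (gsOf G' i)) ∈ coneOf G' := by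
  classical
  refine ⟨fun g => if h : g ∈ G' then d (G'.equivFin ⟨g, h⟩) else 0, fun g => by
    dsimp only
    split_ifs
    · exact hd _
    · exact le_rfl, ?_⟩
  rw [← sum_gsOf G' (fun g => (if h : g ∈ G' then d (G'.equivFin ⟨g, h⟩) else 0) • fun j => (g j : ℝ))]
  refine Finset.sum_congr rfl fun i _ => ?_
  rw [dif_pos (gsOf_mem G' i)]
  have : G'.equivFin ⟨gsOf G' i, gsOf_mem G' i⟩ = i := by
    unfold gsOf
    simp
  rw [this]
  rfl

/-- the standard cone of `R(K)` attached to a linearly independent set of generators -/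
noncomputable def stdCone (G' : Finset (Fin N → ℤ)) (hne : G'.Nonempty)
    (hli : LinearIndepOn ℝ castR (G' : Set (Fin N → ℤ))) (a : ι) (hsub : coneOf G' ⊆ K a) :
    RFan.Cone K ⟨⟨G'.card, Finset.card_pos.2 hne⟩⟩ :=
  ⟨stdLin G', stdLin_injective G' hli, a, fun u hu => hsub (by
    have h1 := ext_intCast (stdLin G') u
    rw [ext_stdLin] at h1
    have h2 := sum_mem_coneOf G' (fun i => (u i : ℝ)) (fun i => by exact_mod_cast hu i)
    rw [h1] at h2
    exact h2)⟩

theorem stdCone_val (G' : Finset (Fin N → ℤ)) (hne : G'.Nonempty)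
    (hli : LinearIndepOn ℝ castR (G' : Set (Fin N → ℤ))) (a : ι) (hsub : coneOf G' ⊆ K a) :
    (stdCone K G' hne hli a hsub).1 = stdLin G' := rfl

/-- a positive combination of a linearly independent set is a point of the standard cone -/
theorem exists_orth_of_pos (G' : Finset (Fin N → ℤ)) (hne : G'.Nonempty)
    (c' : (Fin N → ℤ) → ℝ) (hc' : ∀ g ∈ G', 0 < c' g) :
    ∃ v : Orth ⟨⟨G'.card, Finset.card_pos.2 hne⟩⟩,
      ext (stdLin G') v.1 = ∑ g ∈ G', c' g • castR g := by
  have hpos : ∀ i, 0 < c' (gsOf G' i) := fun i => hc' _ (gsOf_mem G' i)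
  refine ⟨⟨fun i => c' (gsOf G' i), fun i => (hpos i).le, ?_⟩, ?_⟩
  · intro h0
    have := congr_fun h0 ⟨0, Finset.card_pos.2 hne⟩
    have h1 := hpos ⟨0, Finset.card_pos.2 hne⟩
    simp only [Pi.zero_apply] at this
    change c' (gsOf G' ⟨0, _⟩) = 0 at this
    rw [this] at h1
    exact lt_irrefl _ h1
  · rw [ext_stdLin]
    exact sum_gsOf G' (fun g => c' g • castR g)

end Groth.Agent.RFan9
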