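import Mathlib
import Groth.Agent.Lib.RFan4_helper9

set_option autoImplicit false
universe u
open CategoryTheory Opposite Instab
open Instab Instab.Fan

namespace Groth.Agent.RFan9

open Groth.Agent.FanBasic9 Groth.Agent.FanCone9 Groth.Agent.FanMap9 Groth.Agent.FanPull9
  Groth.Agent.FanRep9 Groth.Agent.FanQS9 Groth.Agent.FanTop9 Groth.Agent.FanRat9

variable {N : ℕ} {ι : Type} (K : ι → Set (Fin N → ℝ))
  (m : ι → ℕ) (gen : ∀ a, Fin (m a) → Finset (Fin N → ℤ))
  (hK : ∀ a, K a = ⋃ l, coneOf (gen a l))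

include hK

theorem K_closed (a : ι) : IsClosed (K a) := by
  rw [hK a]
  exact isClosed_iUnion_of_finite fun l => isClosed_coneOf _

theorem K_smul (a : ι) (x : Fin N → ℝ) (c : ℝ) (hc : 0 < c) (hx : x ∈ K a) : c • x ∈ K a := by
  rw [hK a] at hx ⊢
  obtain ⟨l, hl⟩ := Set.mem_iUnion.1 hx
  refine Set.mem_iUnion.2 ⟨l, ?_⟩
  obtain ⟨d, hd, rfl⟩ := hl
  refine ⟨fun g => c * d g, fun g => mul_nonneg hc.le (hd g), ?_⟩
  rw [Finset.smul_sum]
  exact Finset.sum_congr rfl fun g _ => by rw [smul_smul]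

/-- the real orthant of a cone of `R(K)` maps into a single `K a` -/
theorem ext_mem_K {n : ICone} (φ : RFan.Cone K n) (v : Orth n) : ∃ a, ext φ.1 v.1 ∈ K a := by
  obtain ⟨a, ha⟩ := φ.2.2
  refine ⟨a, ?_⟩
  let C : Set (Orth n) := {v | ext φ.1 v.1 ∈ K a}
  have hC : C = Set.univ := by
    apply eq_univ_of_int_points
    · exact (K_closed K m gen hK a).preimage ((ext_continuous _).comp continuous_subtype_val)
    · intro v c hc hv
      change ext φ.1 (c • v.1) ∈ K a
      rw [ext_smul]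
      exact K_smul K m gen hK a _ c hc hv
    · intro u hu _ v hv
      change ext φ.1 v.1 ∈ K a
      have : v.1 = fun i => (u i : ℝ) := funext hv
      rw [this, ext_intCast]
      exact ha u hu
  have : v ∈ C := by rw [hC]; trivial
  exact this

/-- every nonzero point of `K a` is a point of a standard cone -/
theorem exists_std (a : ι) (w : Fin N → ℝ) (hw : w ∈ K a) (hw0 : w ≠ 0) :
    ∃ (G' : Finset (Fin N → ℤ)) (hne : G'.Nonempty)
      (hli : LinearIndepOn ℝ castR (G' : Set (Fin N → ℤ))) (hsub : coneOf G' ⊆ K a)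
      (_ : ∃ l, G' ⊆ gen a l)
      (v : Orth ⟨⟨G'.card, Finset.card_pos.2 hne⟩⟩), ext (stdCone K G' hne hli a hsub).1 v.1 = w := by
  rw [hK a] at hw
  obtain ⟨l, hl⟩ := Set.mem_iUnion.1 hw
  obtain ⟨G', c', h1, h2, h3, h4⟩ := coneOf_caratheodory (gen a l) w hl
  have hne : G'.Nonempty := by
    rw [Finset.nonempty_iff_ne_empty]
    intro h0
    rw [h0, Finset.sum_empty] at h4
    exact hw0 h4
  have hsub : coneOf G' ⊆ K a := by
    rw [hK a]
    exact (coneOf_mono h1).trans (Set.subset_iUnion (fun l => coneOf (gen a l)) l)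
  obtain ⟨v, hv⟩ := exists_orth_of_pos G' hne c' h3
  exact ⟨G', hne, h2, hsub, ⟨l, h1⟩, v, hv.trans h4.symm⟩

/-- index type of the standard cones -/
def JSet : Set (ι × Finset (Fin N → ℤ)) :=
  {j | j.2.Nonempty ∧ LinearIndepOn ℝ castR (j.2 : Set (Fin N → ℤ)) ∧ coneOf j.2 ⊆ K j.1 ∧
    ∃ l, j.2 ⊆ gen j.1 l}

omit hK in
theorem JSet_finite [Finite ι] : (JSet K m gen).Finite := by
  have : JSet K m gen ⊆ ⋃ a, ⋃ l, ({a} : Set ι) ×ˢ ((gen a l).powerset : Set (Finset (Fin N → ℤ))) := by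
    rintro ⟨a, G'⟩ ⟨_, _, _, l, hl⟩
    simp only [Set.mem_iUnion]
    exact ⟨a, l, rfl, Finset.mem_coe.2 (Finset.mem_powerset.2 hl)⟩
  refine Set.Finite.subset ?_ this
  exact Set.finite_iUnion fun a => Set.finite_iUnion fun l =>
    (Set.finite_singleton a).prod (Finset.finite_toSet _)

/-- the cone attached to an index -/
noncomputable def JCone (j : JSet K m gen) :
    RFan.Cone K ⟨⟨j.1.2.card, Finset.card_pos.2 j.2.1⟩⟩ :=
  stdCone K j.1.2 j.2.1 j.2.2.1 j.1.1 j.2.2.2.1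

theorem g_range : Set.range (g K) =
    {r | ∃ w : {w : Fin N → ℝ // w ≠ 0}, r = Quot.mk _ w ∧ w.1 ∈ Set.iUnion K} := by
  ext r
  constructor
  · rintro ⟨x, rfl⟩
    induction x using P_ind with
    | _ n φ v =>
    obtain ⟨a, ha⟩ := ext_mem_K K m gen hK φ v
    exact ⟨_, rfl, Set.mem_iUnion.2 ⟨a, ha⟩⟩
  · rintro ⟨w, rfl, hw⟩
    obtain ⟨a, ha⟩ := Set.mem_iUnion.1 hw
    obtain ⟨G', hne, hli, hsub, _, v, hv⟩ := exists_std K m gen hK a w.1 ha w.2
    refine ⟨P.mk (F := RFan K) (stdCone K G' hne hli a hsub) v, ?_⟩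
    rw [g_mk]
    exact congrArg rayMk (Subtype.ext hv)

omit hK in
/-- closedness of the cone over the image of a closed set, in the punctured space -/
theorem isClosed_image_punctured {n : ICone} (L : (Fin n.dim → ℤ) →ₗ[ℤ] (Fin N → ℤ))
    (hL : Function.Injective L) (T : Set (Orth n)) (hT : IsClosed T) :
    IsClosed {w : {w : Fin N → ℝ // w ≠ 0} | ∃ v ∈ T, ext L v.1 = w.1} := by
  obtain ⟨C, hC, hCT⟩ := isClosed_induced_iff.1 hT
  have horth : IsClosed {v : Fin n.dim → ℝ | ∀ i, 0 ≤ v i} := by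
    have : {v : Fin n.dim → ℝ | ∀ i, 0 ≤ v i} = ⋂ i, {v | 0 ≤ v i} := by ext v; simp
    rw [this]
    exact isClosed_iInter fun i => isClosed_le continuous_const (continuous_apply i)
  have hT₀ : IsClosed ((C ∩ {v : Fin n.dim → ℝ | ∀ i, 0 ≤ v i}) ∪ {0}) :=
    (hC.inter horth).union isClosed_singleton
  have himg := (ext_isClosedEmbedding L hL).isClosedMap _ hT₀
  have : {w : {w : Fin N → ℝ // w ≠ 0} | ∃ v ∈ T, ext L v.1 = w.1}
      = Subtype.val ⁻¹' (ext L '' ((C ∩ {v : Fin n.dim → ℝ | ∀ i, 0 ≤ v i}) ∪ {0})) := by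
    ext w
    constructor
    · rintro ⟨v, hv, hvw⟩
      refine ⟨v.1, Or.inl ⟨?_, v.2.1⟩, hvw⟩
      have h1 := (Set.ext_iff.1 hCT v).2 hv
      exact h1
    · rintro ⟨t, ht, htw⟩
      rcases ht with ⟨htC, htnn⟩ | ht0
      · have htne : t ≠ 0 := by
          intro h0
          apply w.2
          rw [← htw, h0, ext_zero]
        exact ⟨⟨t, htnn, htne⟩, (Set.ext_iff.1 hCT _).1 htC, htw⟩
      · exfalso
        apply w.2
        rw [← htw, Set.mem_singleton_iff.1 ht0, ext_zero]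
  rw [this]
  exact himg.preimage continuous_subtype_val

theorem g_isClosedMap [Finite ι] : IsClosedMap (g K) := by
  intro S hS
  rw [isClosed_rays_iff]
  haveI : Finite (JSet K m gen) := Set.finite_coe_iff.2 (JSet_finite K m gen)
  have hset : rayMk ⁻¹' (g K '' S) = ⋃ j : JSet K m gen,
      {w : {w : Fin N → ℝ // w ≠ 0} | ∃ v ∈ (P.mk (F := RFan K) (JCone K m gen j)) ⁻¹' S,
        ext (JCone K m gen j).1 v.1 = w.1} := by
    ext w
    simp only [Set.mem_preimage, Set.mem_image, Set.mem_iUnion, Set.mem_ofPred_eq]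
    constructor
    · rintro ⟨x, hxS, hx⟩
      induction x using P_ind with
      | _ n φ v =>
      rw [g_mk, rayMk_eq_iff] at hx
      obtain ⟨c, hc, hcw⟩ := hx
      -- the vector w lies in some K a
      have hwK : ∃ a, w.1 ∈ K a := by
        obtain ⟨a, ha⟩ := ext_mem_K K m gen hK φ v
        exact ⟨a, by rw [hcw]; exact K_smul K m gen hK a _ c hc ha⟩
      obtain ⟨a, ha⟩ := hwK
      obtain ⟨G', hne, hli, hsub, hl, v₀, hv₀⟩ := exists_std K m gen hK a w.1 ha w.2
      refine ⟨⟨(a, G'), hne, hli, hsub, hl⟩, v₀, ?_, hv₀⟩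
      have : (P.mk (F := RFan K) (stdCone K G' hne hli a hsub) v₀ : P (RFan K)) = P.mk φ v := by
        apply g_injective K
        rw [g_mk, g_mk, rayMk_eq_iff]
        refine ⟨c⁻¹, inv_pos.2 hc, ?_⟩
        change ext (φ : RFan.Cone K n).1 v.1 = c⁻¹ • ext (stdCone K G' hne hli a hsub).1 v₀.1
        rw [hv₀, hcw, smul_smul, inv_mul_cancel₀ hc.ne', one_smul]
      change (P.mk (F := RFan K) (stdCone K G' hne hli a hsub) v₀ : P (RFan K)) ∈ S
      rw [this]
      exact hxS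
    · rintro ⟨j, v, hvS, hv⟩
      refine ⟨_, hvS, ?_⟩
      rw [g_mk]
      exact congrArg rayMk (Subtype.ext hv)
  rw [hset]
  refine isClosed_iUnion_of_finite fun j => ?_
  exact isClosed_image_punctured _ (JCone K m gen j).2.1 _ (hS.preimage (mk_continuous _))

theorem g_isEmbedding [Finite ι] : Topology.IsEmbedding (g K) :=
  (Topology.IsClosedEmbedding.of_continuous_injective_isClosedMap (g_continuous K)
    (g_injective K) (g_isClosedMap K m gen hK)).isEmbedding

end Groth.Agent.RFan9
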