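import Mathlib
import Groth.Prelude
import Groth.Agent.Lib.DSect6_lead
import Groth.Agent.Lib.AffVanish2_helper9
import Groth.Agent.Lib.RDerGE_helper7
import Groth.Agent.Lib.DMod24_helper6
import Groth.Agent.Lib.ModFreeMono_helper2

/-!
# Cohomological amplitude of `RΓ(X, -)` on a separated scheme covered by `N + 1` affines (helper3)

For a K-injective complex `I` with injective terms, the complexes of sections `Γ(U, I)` satisfy a
Mayer–Vietoris principle (`secAcyc_sup`); by induction on the number of affine opens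
(`secAcyc_supL`) and the affine case (`homAcyc_of_qcoh`, from lead's `DSectX.Rep`), a complex `P`
of quasi-coherent modules vanishing above `b` on a separated scheme covered by `N + 1` affine opens
has `RΓ(X, P) ∈ D^{≤ b + N}(A)` (`isLE_RΓA`), whence a free resolution (`main3528`).
-/

set_option autoImplicit false
set_option linter.all false
set_option maxHeartbeats 1600000
set_option backward.isDefEq.respectTransparency false
set_option backward.isDefEq.respectTransparency.types false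
set_option backward.defeqAttrib.useBackward true

universe u
open CategoryTheory CategoryTheory.Limits AlgebraicGeometry TopologicalSpace Opposite
open DerivedCategory CategoryTheory.Pretriangulated
attribute [local instance] HasDerivedCategory.standard

namespace Groth.Agent.Lib.RGammaCechH3

open Groth.Agent.Lib.DSectX Groth.Agent.Lib.DSectL Groth.Agent.Lib AffVanish

variable {X : Scheme.{u}}

/-- the abelian sheaf of sections of the `n`-th term -/
noncomputable abbrev FF (I : CochainComplex X.Modules ℤ) (n : ℤ) :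
    TopCat.Sheaf AddCommGrpCat.{u} X.carrier := (ΓX X).obj (I.X n)

/-- the differential on sheaves of sections -/
noncomputable abbrev dd (I : CochainComplex X.Modules ℤ) (i j : ℤ) : FF I i ⟶ FF I j :=
  (ΓX X).map (I.d i j)

/-- exactness of `Γ(U, I^i) → Γ(U, I^j) → Γ(U, I^k)` -/
def SecAcyc (I : CochainComplex X.Modules ℤ) (U : X.Opens) (i j k : ℤ) : Prop :=
  ∀ s : Sec (FF I j) U, apS (dd I j k) U s = 0 → ∃ t : Sec (FF I i) U, apS (dd I i j) U t = s

lemma dd_dd (I : CochainComplex X.Modules ℤ) (i j k : ℤ) (U : X.Opens) (x : Sec (FF I i) U) :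
    apS (dd I j k) U (apS (dd I i j) U x) = 0 := by
  have h : dd I i j ≫ dd I j k = 0 := by
    show (ΓX X).map (I.d i j) ≫ (ΓX X).map (I.d j k) = 0
    rw [← Functor.map_comp, I.d_comp_d, Functor.map_zero]
  have h2 : apS (dd I i j ≫ dd I j k) U x = 0 := by
    rw [h]; rfl
  exact h2

lemma secAcyc_bot (I : CochainComplex X.Modules ℤ) (U : X.Opens) (hU : U = ⊥) (i j k : ℤ) :
    SecAcyc I U i j k := fun s _ => ⟨0, eq_of_bot (FF I j) hU _ _⟩

theorem secAcyc_sup (I : CochainComplex X.Modules ℤ) (hI : ∀ n, Injective (I.X n))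
    (U V : X.Opens) (h i j k : ℤ)
    (hU : SecAcyc I U i j k) (hV : SecAcyc I V i j k) (hUV : SecAcyc I (U ⊓ V) h i j) :
    SecAcyc I (U ⊔ V) i j k := by
  intro s hs
  obtain ⟨a, ha⟩ := hU (rs (FF I j) (le_sup_left : U ≤ U ⊔ V) s) (by
    rw [ap_rs, hs, map_zero])
  obtain ⟨b, hb⟩ := hV (rs (FF I j) (le_sup_right : V ≤ U ⊔ V) s) (by
    rw [ap_rs, hs, map_zero])
  obtain ⟨c, hc⟩ := hUV (rs (FF I i) (inf_le_left : U ⊓ V ≤ U) a -
      rs (FF I i) (inf_le_right : U ⊓ V ≤ V) b) (by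
    rw [map_sub, ap_rs, ap_rs, ha, hb, rs_rs, rs_rs, sub_self])
  haveI := hI h
  haveI hmono : Mono (homOfLE (inf_le_left : U ⊓ V ≤ U)) :=
    ⟨fun _ _ _ => Subsingleton.elim _ _⟩
  obtain ⟨c', hc'⟩ := ModFree.surjective_map_of_mono X.ringCatSheaf (I.X h)
    (homOfLE (inf_le_left : U ⊓ V ≤ U)) c
  have hc'' : rs (FF I h) (inf_le_left : U ⊓ V ≤ U) c' = c := hc'
  have hglue : rs (FF I i) (inf_le_left : U ⊓ V ≤ U) (a - apS (dd I h i) U c') =
      rs (FF I i) (inf_le_right : U ⊓ V ≤ V) b := by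
    rw [map_sub, ← ap_rs, hc'', hc, sub_sub_cancel]
  obtain ⟨t, ht1, ht2⟩ := glue₂ (FF I i) (le_sup_left : U ≤ U ⊔ V) (le_sup_right : V ≤ U ⊔ V)
    le_rfl (a - apS (dd I h i) U c') b hglue
  refine ⟨t, eq_of_cover₂ (FF I j) (le_sup_left : U ≤ U ⊔ V) (le_sup_right : V ≤ U ⊔ V) le_rfl
    _ _ ?_ ?_⟩
  · rw [← ap_rs, ht1, map_sub, dd_dd, sub_zero, ha]
  · rw [← ap_rs, ht2, hb]

theorem secAcyc_supL (I : CochainComplex X.Modules ℤ) (hI : ∀ n, Injective (I.X n))
    (hd : ∀ V W : X.Opens, IsAffineOpen V → IsAffineOpen W → IsAffineOpen (V ⊓ W)) (b : ℤ)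
    (haff : ∀ A : X.Opens, IsAffineOpen A → ∀ i j k : ℤ, i + 1 = j → j + 1 = k → b < j →
      SecAcyc I A i j k) :
    ∀ (n : ℕ) (l : List X.Opens), l.length = n → (∀ A ∈ l, IsAffineOpen A) →
      ∀ i j k : ℤ, i + 1 = j → j + 1 = k → b + n ≤ j → SecAcyc I (supL l) i j k := by
  intro n
  induction n with
  | zero =>
    intro l hl _ i j k _ _ _
    have hl0 : l = [] := List.length_eq_zero_iff.mp hl
    subst hl0
    exact secAcyc_bot I _ rfl i j k
  | succ n ih =>
    intro l hl hl' i j k hij hjk hbj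
    match l, hl, hl' with
    | A :: l', hl, hl' =>
      have hl'' : l'.length = n := by simpa using hl
      have hA : IsAffineOpen A := hl' A (List.mem_cons_self ..)
      have haff' : ∀ B ∈ l', IsAffineOpen B := fun B hB => hl' B (List.mem_cons_of_mem _ hB)
      rw [supL_cons]
      refine secAcyc_sup I hI A (supL l') (i - 1) i j k ?_ ?_ ?_
      · exact haff A hA i j k hij hjk (by push_cast at hbj; omega)
      · exact ih l' hl'' haff' i j k hij hjk (by push_cast at hbj; omega)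
      · rw [inf_supL]
        exact ih (l'.map (A ⊓ ·)) (by simpa using hl'') (fun B hB => by
          obtain ⟨B', hB', rfl⟩ := List.mem_map.mp hB
          exact hd A B' hA (haff' B' hB')) (i - 1) i j (by omega) hij
          (by push_cast at hbj; omega)

/-! ### the `Hom(P_U, -)` form and the affine case -/

/-- exactness of `Hom(P_U, I^i) → Hom(P_U, I^j) → Hom(P_U, I^k)` -/
def HomAcyc (I : CochainComplex X.Modules ℤ) (U : X.Opens) (i j k : ℤ) : Prop :=
  ∀ c : (PX X).obj U ⟶ I.X j, c ≫ I.d j k = 0 → ∃ w : (PX X).obj U ⟶ I.X i, w ≫ I.d i j = c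

lemma secAcyc_of_homAcyc (I : CochainComplex X.Modules ℤ) (U : X.Opens) (i j k : ℤ)
    (h : HomAcyc I U i j k) : SecAcyc I U i j k := by
  intro s hs
  obtain ⟨c, rfl⟩ := (evX X U (I.X j)).surjective s
  have hc : c ≫ I.d j k = 0 := by
    apply (evX X U (I.X k)).injective
    rw [evX_comp, map_zero]
    exact hs
  obtain ⟨w, rfl⟩ := h c hc
  exact ⟨evX X U (I.X i) w, (evX_comp X U w (I.d i j)).symm⟩

/-- the affine case, in degree `0` of the shifted complexes -/
theorem homAcyc_shift_of_qcoh (P I : CochainComplex X.Modules ℤ) (φ : P ⟶ I) [QuasiIso φ]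
    [I.IsKInjective] (hq : ∀ n : ℤ, Coh.IsQCoh (P.X n)) (U : X.Opens) (hU : IsAffineOpen U)
    (j : ℤ) (hz : IsZero (P.X (0 + j))) :
    HomAcyc (I⟦j⟧) U (-1) 0 1 := by
  intro c hc
  have hq' : ∀ n : ℤ, Coh.IsQCoh ((P⟦j⟧).X n) := fun n => hq (n + j)
  have hrep := rep_of_qcoh (P⟦j⟧) hq' U hU
  haveI : IsIso (Q.map (φ⟦j⟧')) := by
    rw [DerivedCategory.isIso_Q_map_iff_quasiIso]
    infer_instance
  obtain ⟨c', hc', h1⟩ := hrep.1 (thetaC (I⟦j⟧) c hc ≫ inv (Q.map (φ⟦j⟧')))
  have hz' : IsZero ((P⟦j⟧).X 0) := hz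
  have h2 : thetaC (P⟦j⟧) c' hc' = 0 :=
    thetaC_eq_zero_of_boundary c' hc' 0 (hz'.eq_of_tgt _ _)
  have h3 : thetaC (I⟦j⟧) c hc = 0 := by
    have h4 : thetaC (I⟦j⟧) c hc = (thetaC (I⟦j⟧) c hc ≫ inv (Q.map (φ⟦j⟧'))) ≫ Q.map (φ⟦j⟧') := by
      rw [Category.assoc, IsIso.inv_hom_id, Category.comp_id]
    rw [h4, ← h1, h2, zero_comp]
  exact boundary_of_isKInjective (I⟦j⟧) c hc h3

/-- unshifting -/
lemma homAcyc_of_shift (I : CochainComplex X.Modules ℤ) (U : X.Opens) (j : ℤ)
    (h : HomAcyc (I⟦j⟧) U (-1) 0 1) : HomAcyc I U (-1 + j) (0 + j) (1 + j) := by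
  intro c hc
  have hc' : c ≫ (I⟦j⟧).d 0 1 = 0 := by
    rw [CochainComplex.shiftFunctor_obj_d', Linear.comp_units_smul, hc, smul_zero]
  obtain ⟨w, hw⟩ := h c hc'
  refine ⟨j.negOnePow • w, ?_⟩
  rw [Linear.units_smul_comp]
  rw [CochainComplex.shiftFunctor_obj_d', Linear.comp_units_smul] at hw
  exact hw

theorem homAcyc_of_qcoh (P I : CochainComplex X.Modules ℤ) (φ : P ⟶ I) [QuasiIso φ]
    [I.IsKInjective] (hq : ∀ n : ℤ, Coh.IsQCoh (P.X n)) (U : X.Opens) (hU : IsAffineOpen U)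
    (i j k : ℤ) (hij : i + 1 = j) (hjk : j + 1 = k) (hz : IsZero (P.X j)) :
    HomAcyc I U i j k := by
  have h := homAcyc_of_shift I U j (homAcyc_shift_of_qcoh P I φ hq U hU j (by
    rw [zero_add]; exact hz))
  obtain rfl : i = -1 + j := by omega
  obtain rfl : k = 1 + j := by omega
  rw [zero_add] at h
  exact h

/-! ### the bridge to `RΓ(X, -)` with values in `D(A)` -/

section Bridge

variable {A : Type u} [CommRing A] (f : X ⟶ Spec (CommRingCat.of A))

theorem exactAt_of_secAcyc (I : CochainComplex X.Modules ℤ) (i j k : ℤ) (hij : i + 1 = j)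
    (hjk : j + 1 = k) (h : SecAcyc I ⊤ i j k) :
    (((HTor.globalSectionsA f).mapHomologicalComplex (ComplexShape.up ℤ)).obj I).ExactAt j := by
  rw [HomologicalComplex.exactAt_iff' _ i j k ((ComplexShape.up ℤ).prev_eq' (by simp; omega))
    ((ComplexShape.up ℤ).next_eq' (by simp; omega))]
  rw [ShortComplex.moduleCat_exact_iff]
  intro x hx
  exact h x hx

/-- **cohomological amplitude of `RΓ`**: on a separated scheme covered by `N + 1` affine opens,
a complex of quasi-coherent modules vanishing above `b` has `RΓ ∈ D^{≤ b + N}`. -/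
theorem isLE_RΓA [QuasiCompact f] [IsSeparated f] [HTor.HasRΓA f]
    (N : ℕ) (U : Fin (N + 1) → X.Opens) (hU : ∀ i, IsAffineOpen (U i)) (hcov : ⨆ i, U i = ⊤)
    (P : CochainComplex X.Modules ℤ) (hq : ∀ i : ℤ, Coh.IsQCoh (P.X i)) (b : ℤ)
    (hb : ∀ i : ℤ, b < i → IsZero (P.X i)) :
    ((HTor.RΓA f).obj (DCoh.toD X P)).IsLE (b + N) := by
  haveI : IsGrothendieckAbelian.{u} X.Modules :=
    FunctorialInjective.isGrothendieckAbelian_sheafOfModules
      (Opens.grothendieckTopology X) X.ringCatSheaf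
  obtain ⟨I, φ, hI, hφ, _, hinj⟩ := KInjGen5.exists_resolution P
  haveI := hI
  haveI := hφ
  haveI : IsIso (Q.map φ) := by
    rw [DerivedCategory.isIso_Q_map_iff_quasiIso]
    infer_instance
  let e : (HTor.RΓA f).obj (DCoh.toD X P) ≅
      Q.obj (((HTor.globalSectionsA f).mapHomologicalComplex (ComplexShape.up ℤ)).obj I) :=
    (HTor.RΓA f).mapIso (asIso (Q.map φ)) ≪≫ (RDerGE.unitIso (HTor.globalSectionsA f) I).symm
  have hd : ∀ V W : X.Opens, IsAffineOpen V → IsAffineOpen W → IsAffineOpen (V ⊓ W) :=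
    fun V W hV hW =>
      isAffineHom_diagonal_iff.mp (inferInstance : IsAffineHom (pullback.diagonal f)) ⊤
        (isAffineOpen_top _) V le_top W le_top hV hW
  let l : List X.Opens := (List.finRange (N + 1)).map U
  have hl : l.length = N + 1 := by simp [l]
  have haff : ∀ B ∈ l, IsAffineOpen B := by
    intro B hB
    obtain ⟨i, -, rfl⟩ := List.mem_map.mp hB
    exact hU i
  have hsup : supL l = ⊤ := by
    have h1 : (⨆ i, U i) ≤ supL l :=
      iSup_le (fun i => le_supL (List.mem_map.mpr ⟨i, List.mem_finRange i, rfl⟩))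
    rw [hcov] at h1
    exact top_le_iff.mp h1
  have key : ∀ i j k : ℤ, i + 1 = j → j + 1 = k → b + N < j → SecAcyc I ⊤ i j k := by
    intro i j k hij hjk hj
    have h := secAcyc_supL I hinj hd b (fun B hB i j k hij hjk hbj =>
      secAcyc_of_homAcyc I B i j k (homAcyc_of_qcoh P I φ hq B hB i j k hij hjk (hb j hbj)))
      (N + 1) l hl haff i j k hij hjk (by push_cast; omega)
    rw [hsup] at h
    exact h
  have hle : (Q.obj (((HTor.globalSectionsA f).mapHomologicalComplex
      (ComplexShape.up ℤ)).obj I)).IsLE (b + N) := by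
    rw [DerivedCategory.isLE_iff]
    intro j hj
    refine IsZero.of_iso ?_ ((homologyFunctorFactors (ModuleCat.{u} A) j).app _)
    exact (HomologicalComplex.exactAt_iff_isZero_homology _ _).1
      (exactAt_of_secAcyc f I (j - 1) j (j + 1) (by omega) rfl
        (key (j - 1) j (j + 1) (by omega) rfl hj))
  exact DerivedCategory.TStructure.t.isLE_of_iso e.symm (b + N)

/-- **S3528** -/
theorem main3528 [QuasiCompact f] [IsSeparated f] [HTor.HasRΓA f]
    (N : ℕ) (U : Fin (N + 1) → X.Opens) (hU : ∀ i, IsAffineOpen (U i)) (hcov : ⨆ i, U i = ⊤)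
    (P : CochainComplex X.Modules ℤ) (hq : ∀ i : ℤ, Coh.IsQCoh (P.X i)) (b : ℤ)
    (hb : ∀ i : ℤ, b < i → IsZero (P.X i)) :
    ∃ L : DRing.Cx A, (∀ i : ℤ, Module.Free A (L.X i)) ∧ DRing.VanishesAbove L (b + N) ∧
      HTor.Computes f L (DCoh.toD X P) := by
  haveI := isLE_RΓA f N U hU hcov P hq b hb
  exact DMod_helper6.exists_free_resolution ((HTor.RΓA f).obj (DCoh.toD X P)) (b + N)

end Bridge

end Groth.Agent.Lib.RGammaCechH3
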