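import Mathlib
import Groth.Prelude
import Groth.Agent.Lib.RGammaCech_helper3
import Groth.Agent.Lib.ProjAmp_helper3

/-!
# `RΓ(X, P)` over a base of finite global dimension (helper3): S3541
-/

set_option autoImplicit false
set_option linter.all false
set_option maxHeartbeats 1600000
set_option backward.isDefEq.respectTransparency false
set_option backward.isDefEq.respectTransparency.types false
set_option backward.defeqAttrib.useBackward true

universe u
open CategoryTheory CategoryTheory.Limits AlgebraicGeometry TopologicalSpace Opposite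
open DerivedCategory CategoryTheory.Pretriangulated
attribute [local instance] HasDerivedCategory.standard

namespace Groth.Agent.Lib.RGammaCechH3

variable {X : Scheme.{u}} {A : Type u} [CommRing A] (f : X ⟶ Spec (CommRingCat.of A))

theorem isGE_RΓA [HTor.HasRΓA f] (P : CochainComplex X.Modules ℤ) (a : ℤ)
    (ha : ∀ i : ℤ, i < a → IsZero (P.X i)) :
    ((HTor.RΓA f).obj (DCoh.toD X P)).IsGE a := by
  haveI : IsGrothendieckAbelian.{u} X.Modules :=
    FunctorialInjective.isGrothendieckAbelian_sheafOfModules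
      (Opens.grothendieckTopology X) X.ringCatSheaf
  haveI : P.IsStrictlyGE a := by
    rw [CochainComplex.isStrictlyGE_iff]
    exact ha
  haveI : (Q.obj P).IsGE a := (DerivedCategory.isGE_Q_obj_iff P a).2 inferInstance
  exact RDerGE.isGE (HTor.globalSectionsA f) (Q.obj P) a

/-- **S3541** -/
theorem main3541 (d : ℕ) (hA : ∀ M : ModuleCat.{u} A, HasProjectiveDimensionLT M (d + 1))
    [QuasiCompact f] [IsSeparated f] [HTor.HasRΓA f]
    (N : ℕ) (U : Fin (N + 1) → X.Opens) (hU : ∀ i, IsAffineOpen (U i)) (hcov : ⨆ i, U i = ⊤)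
    (P : CochainComplex X.Modules ℤ) (hq : ∀ i : ℤ, Coh.IsQCoh (P.X i)) (a b : ℤ)
    (hab : ∀ i : ℤ, i < a ∨ b < i → IsZero (P.X i)) :
    ∃ L : DRing.Cx A, (∀ i : ℤ, Module.Projective A (L.X i)) ∧
      DRing.VanishesOutside L (a - d) (b + N) ∧ HTor.Computes f L (DCoh.toD X P) := by
  haveI := isLE_RΓA f N U hU hcov P hq b (fun i hi => hab i (Or.inr hi))
  haveI := isGE_RΓA f P a (fun i hi => hab i (Or.inl hi))
  exact ProjAmpH3.exists_proj_rep d hA ((HTor.RΓA f).obj (DCoh.toD X P)) a (b + N)

end Groth.Agent.Lib.RGammaCechH3
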