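import Mathlib
import Groth.Prelude
import Groth.Agent.Lib.RGammaZ6_lead
import Groth.Agent.Lib.PjCx21_helper3
import Groth.Agent.Lib.PjCx16_helper3
import Groth.Agent.Lib.PjShriek4_helper3
import Groth.Agent.Lib.LpullPC_helper3
import Groth.Agent.Lib.BifCone_helper2

/-!
# `RΓ_Z(F) ⊗^L E ≅ RΓ_Z(F ⊗^L E)` (helper3; S14367)

* `exists_distTriang`: `- ⊗^L E` sends distinguished triangles to distinguished triangles;
* `isZero_restrictD_LTensorCx`: `- ⊗^L E` preserves objects vanishing on an open;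
* `isIso_unit_of_local`: an object receiving no maps from objects vanishing on `U` is `Rj_* j^*`
  of itself;
* `main14367`.
-/

set_option autoImplicit false
set_option linter.all false
set_option maxHeartbeats 1600000
set_option backward.isDefEq.respectTransparency false
set_option backward.isDefEq.respectTransparency.types false
set_option backward.defeqAttrib.useBackward true

universe u
open CategoryTheory CategoryTheory.Limits AlgebraicGeometry Opposite TopologicalSpace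
open DerivedCategory CategoryTheory.Pretriangulated
attribute [local instance] HasDerivedCategory.standard

namespace Groth.Agent.Lib.RGammaZTensH3

open Groth.Agent.Lib Groth.Agent.Lib.DCohLocLead Groth.Agent.Lib.MVPushL
open Groth.Agent.Lib.HomVanL Groth.Agent.Lib.RGammaZL Groth.Agent.Lib.LpullLocH3
open Groth.Agent.Lib.StalkTensH3 Groth.Agent.Lib.PullTensIsoH3 Groth.Agent.Lib.LpullTensH3

noncomputable section

/-- derived pushforwards exist -/
local instance hasRpushInstT {X Y : Scheme.{u}} (g : X ⟶ Y) : DCoh.HasRpush g :=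
  BCOpenL.hasRpush g

open Groth.Agent.Lib.PerfLocL in
attribute [local instance] hasLpullInst

/-! ### `- ⊗^L E` is triangulated -/

theorem exists_distTriang {T : Scheme.{u}} (E : CochainComplex T.Modules ℤ) [DCoh.HasLTensorCx E]
    (Δ : Triangle (DCoh.D T)) (hΔ : Δ ∈ distTriang (DCoh.D T)) :
    ∃ δ : (DCoh.LTensorCx E).obj Δ.obj₃ ⟶ ((DCoh.LTensorCx E).obj Δ.obj₁)⟦(1 : ℤ)⟧,
      Triangle.mk ((DCoh.LTensorCx E).map Δ.mor₁) ((DCoh.LTensorCx E).map Δ.mor₂) δ ∈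
        distTriang (DCoh.D T) := by
  obtain ⟨R, π, hR, hπ⟩ := Groth.Agent.Lib.DTorCmp.exists_kflat_resolution' E
  haveI := hπ
  obtain ⟨e1⟩ := Groth.Agent.Lib.PjShriekH3.nonempty_ltNatIso E R π hR
  obtain ⟨A₀, B₀, hA, hB, a, u, v, hfac⟩ := Groth.Agent.Lib.LpullPCH3.exists_arrow_rep Δ.mor₁
  have hΔ₀ := DerivedCategory.mappingCone_triangle_distinguished a
  let w := isoTriangleOfIso₁₂ _ _ hΔ₀ hΔ u v hfac.symm
  have hw1 : w.hom.hom₁ = u.hom := by simp [w]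
  have hw2 : w.hom.hom₂ = v.hom := by simp [w]
  let e₃ : Q.obj (CochainComplex.mappingCone a) ≅ Δ.obj₃ := (Triangle.π₃).mapIso w
  have he₃ : Q.map (CochainComplex.mappingCone.inr a) ≫ e₃.hom = v.hom ≫ Δ.mor₂ := by
    have := w.hom.comm₂
    rw [hw2] at this
    exact this
  have hmor₂ : Δ.mor₂ ≫ e₃.inv = v.inv ≫ Q.map (CochainComplex.mappingCone.inr a) := by
    rw [Iso.comp_inv_eq, Category.assoc, he₃, Iso.inv_hom_id_assoc]
  have hmor₁ : Δ.mor₁ ≫ v.inv = u.inv ≫ Q.map a := by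
    rw [Iso.comp_inv_eq, Category.assoc, ← hfac, Iso.inv_hom_id_assoc]
  let G := (DCoh.tensorCx (X := T)).flip.obj R
  let Tf := DCoh.LTensorCx E
  have hΔ₁ := DerivedCategory.mappingCone_triangle_distinguished (G.map a)
  let cI : G.obj (CochainComplex.mappingCone a) ≅ CochainComplex.mappingCone (G.map a) :=
    Groth.Agent.Lib.BifCone.mapBifunctorConeIso₁ (DCoh.tensorBi (X := T)) R a
  have hcI : G.map (CochainComplex.mappingCone.inr a) ≫ cI.hom =
      CochainComplex.mappingCone.inr (G.map a) := by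
    have h := (Groth.Agent.Lib.BifCone.action₁ (DCoh.tensorBi (X := T)) R).inr_coneIso_inv a
    rw [← cancel_mono cI.inv, Category.assoc, Iso.hom_inv_id, Category.comp_id]
    exact h.symm
  let i₁ : Tf.obj Δ.obj₁ ≅ Q.obj (G.obj A₀) := Tf.mapIso u.symm ≪≫ e1.app A₀
  let i₂ : Tf.obj Δ.obj₂ ≅ Q.obj (G.obj B₀) := Tf.mapIso v.symm ≪≫ e1.app B₀
  let i₃ : Tf.obj Δ.obj₃ ≅ Q.obj (CochainComplex.mappingCone (G.map a)) :=
    Tf.mapIso e₃.symm ≪≫ e1.app (CochainComplex.mappingCone a) ≪≫ Q.mapIso cI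
  have nat1 : ∀ {K L : CochainComplex T.Modules ℤ} (b : K ⟶ L),
      Tf.map (Q.map b) ≫ e1.hom.app L = e1.hom.app K ≫ Q.map (G.map b) :=
    fun b => e1.hom.naturality b
  let Δ₁ := Q.mapTriangle.obj (CochainComplex.mappingCone.triangle (G.map a))
  refine ⟨i₃.hom ≫ Δ₁.mor₃ ≫ i₁.inv⟦(1 : ℤ)⟧', ?_⟩
  refine isomorphic_distinguished _ hΔ₁ _ (Triangle.isoMk _ _ i₁ i₂ i₃ ?_ ?_ ?_)
  · show Tf.map Δ.mor₁ ≫ (Tf.map v.inv ≫ e1.hom.app B₀) =
      (Tf.map u.inv ≫ e1.hom.app A₀) ≫ Q.map (G.map a)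
    rw [← Category.assoc, ← Tf.map_comp, hmor₁, Tf.map_comp, Category.assoc, nat1,
      Category.assoc]
  · show Tf.map Δ.mor₂ ≫ (Tf.map e₃.inv ≫ e1.hom.app _ ≫ Q.map cI.hom) =
      (Tf.map v.inv ≫ e1.hom.app B₀) ≫ Q.map (CochainComplex.mappingCone.inr (G.map a))
    rw [← Category.assoc, ← Tf.map_comp, hmor₂, Tf.map_comp, Category.assoc,
      ← Category.assoc (Tf.map (Q.map _)), nat1, Category.assoc, ← Q.map_comp, hcI,
      Category.assoc]
  · show (i₃.hom ≫ Δ₁.mor₃ ≫ i₁.inv⟦(1 : ℤ)⟧') ≫ i₁.hom⟦(1 : ℤ)⟧' = i₃.hom ≫ Δ₁.mor₃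
    have hh : i₁.inv⟦(1 : ℤ)⟧' ≫ i₁.hom⟦(1 : ℤ)⟧' = 𝟙 _ := by
      rw [← CategoryTheory.Functor.map_comp, Iso.inv_hom_id, CategoryTheory.Functor.map_id]
    rw [Category.assoc, Category.assoc, hh]
    erw [Category.comp_id]

/-! ### vanishing on an open -/

theorem isZero_restrictD_LTensorCx {X : Scheme.{u}} (U : X.Opens)
    (E : CochainComplex X.Modules ℤ) [DCoh.HasLTensorCx E] (A : DCoh.D X)
    (hA : IsZero ((DCoh.restrictD U.ι).obj A)) :
    IsZero ((DCoh.restrictD U.ι).obj ((DCoh.LTensorCx E).obj A)) := by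
  obtain ⟨R, π, hR, hπ⟩ := Groth.Agent.Lib.DTorCmp.exists_kflat_resolution' E
  haveI := hπ
  haveI : IsIso (Q.map π) := by rw [DerivedCategory.isIso_Q_map_iff_quasiIso]; infer_instance
  obtain ⟨A₀, hA₀, ⟨eA⟩⟩ := exists_kflat_rep A
  obtain ⟨e1⟩ := Groth.Agent.Lib.PjCxH3.nonempty_ltensor_iso E A₀ R hR (asIso (Q.map π)).symm
  have hAR := isKFlat_tensorCx A₀ R hA₀ hR
  -- the pulled back complexes
  have hz0 : IsZero (Q.obj ((pullCx U.ι).obj A₀)) := by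
    refine IsZero.of_iso hA ?_
    exact (LpullQIso U.ι A₀ hA₀).symm ≪≫ (restrictDIsoLpull U.ι).symm.app _ ≪≫
      (DCoh.restrictD U.ι).mapIso eA
  have hacyc : ∀ i : ℤ, IsZero (((pullCx U.ι).obj A₀).homology i) := fun i =>
    IsZero.of_iso ((homologyFunctor _ i).map_isZero hz0)
      ((homologyFunctorFactors _ i).app _).symm
  have hKF := isKFlat_pullback U.ι R hR
  have hz1 : IsZero (Q.obj ((DCoh.tensorCx.obj ((pullCx U.ι).obj A₀)).obj ((pullCx U.ι).obj R))) := by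
    apply isZero_of_forall_isZero_homology
    intro n
    exact IsZero.of_iso (hKF _ hacyc n) ((homologyFunctorFactors _ n).app _)
  refine IsZero.of_iso hz1 ?_
  exact (DCoh.restrictD U.ι).mapIso ((DCoh.LTensorCx E).mapIso eA.symm ≪≫ e1) ≪≫
    (restrictDIsoLpull U.ι).app _ ≪≫ LpullQIso U.ι _ hAR ≪≫
    Q.mapIso (pullCxTensorIso U.ι A₀ R)

/-! ### local objects -/

section Shift

variable {C : Type*} [Category C] [Preadditive C] [HasZeroObject C] [HasShift C ℤ]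
  [∀ n : ℤ, (shiftFunctor C n).Additive]

theorem injective_comp_shift {A Y Z : C} (f : Y ⟶ Z)
    (h : Function.Injective (fun w : A⟦(-1 : ℤ)⟧ ⟶ Y => w ≫ f)) :
    Function.Injective (fun z : A ⟶ Y⟦(1 : ℤ)⟧ => z ≫ f⟦(1 : ℤ)⟧') := by
  have key : ∀ z : A ⟶ Y⟦(1 : ℤ)⟧, z ≫ f⟦(1 : ℤ)⟧' = 0 → z = 0 := by
    intro z hz
    let e : (A⟦(-1 : ℤ)⟧)⟦(1 : ℤ)⟧ ≅ A := (shiftFunctorCompIsoId C (-1 : ℤ) 1 (by norm_num)).app A
    obtain ⟨w, hw⟩ := (shiftFunctor C (1 : ℤ)).map_surjective (e.hom ≫ z)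
    have h1 : (w ≫ f)⟦(1 : ℤ)⟧' = (0 : A⟦(-1 : ℤ)⟧ ⟶ Z)⟦(1 : ℤ)⟧' := by
      rw [Functor.map_comp, hw, Category.assoc, hz, comp_zero, Functor.map_zero]
    have h2 : w ≫ f = 0 := (shiftFunctor C (1 : ℤ)).map_injective h1
    have h3 : w = 0 := h (by simpa using h2)
    rw [h3, Functor.map_zero] at hw
    have : e.hom ≫ z = 0 := hw.symm
    rw [← cancel_epi e.hom, this, comp_zero]
  intro z₁ z₂ hz
  have hz' : z₁ ≫ f⟦(1 : ℤ)⟧' = z₂ ≫ f⟦(1 : ℤ)⟧' := hz
  have := key (z₁ - z₂) (by rw [Preadditive.sub_comp, hz', sub_self])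
  exact sub_eq_zero.mp this

end Shift

variable {X : Scheme.{u}} (U : X.Opens)

theorem isZero_restrictD_shift (A : DCoh.D X) (k : ℤ)
    (hA : IsZero ((DCoh.restrictD U.ι).obj A)) : IsZero ((DCoh.restrictD U.ι).obj (A⟦k⟧)) :=
  IsZero.of_iso ((shiftFunctor _ k).map_isZero hA) (((DCoh.restrictD U.ι).commShiftIso k).app A)

/-- an object which receives no maps from objects vanishing on `U` is `Rj_* j^*` of itself -/
theorem isIso_unit_of_local (adj : DCoh.restrictD U.ι ⊣ DCoh.Rpush U.ι) (C : DCoh.D X)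
    (hloc : ∀ A : DCoh.D X, IsZero ((DCoh.restrictD U.ι).obj A) → NoHom A (C⟦(1 : ℤ)⟧)) :
    IsIso (adj.unit.app C) := by
  obtain ⟨N, b, c, hT⟩ := distinguished_cocone_triangle (adj.unit.app C)
  have hN := isZero_restrictD_cone_unit U.ι adj C b c hT
  have hc : c = 0 := hloc N hN c
  obtain ⟨s, hs⟩ := Triangle.coyoneda_exact₃ _ hT (𝟙 N) (by
    show 𝟙 N ≫ c = 0
    rw [hc, comp_zero])
  have hs0 : s = 0 := (NoHom.of_adj adj (NoHom.of_isZero_left hN)) s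
  have hs' : 𝟙 N = s ≫ b := hs
  have hNz : IsZero N := by
    rw [IsZero.iff_id_eq_zero, hs', hs0, zero_comp]
  exact (Triangle.isZero₃_iff_isIso₁ _ hT).1 hNz

/-! ### the main theorem -/

/-- **S14367** -/
theorem main14367 [IsNoetherian X] [CxOX.HasRgammaZ U.ι]
    (F : DCoh.D X) (hF : DCoh.IsQCohD F)
    (E : CochainComplex X.Modules ℤ) (hE : DCoh.IsQCohD (DCoh.toD X E)) [DCoh.HasLTensorCx E] :
    (∃ φ : (DCoh.LTensorCx E).obj ((CxOX.RgammaZ U.ι).obj F) ⟶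
        (CxOX.RgammaZ U.ι).obj ((DCoh.LTensorCx E).obj F),
        φ ≫ (CxOX.RgammaZToId U.ι).app ((DCoh.LTensorCx E).obj F) =
          (DCoh.LTensorCx E).map ((CxOX.RgammaZToId U.ι).app F)) ∧
    ∀ φ : (DCoh.LTensorCx E).obj ((CxOX.RgammaZ U.ι).obj F) ⟶
        (CxOX.RgammaZ U.ι).obj ((DCoh.LTensorCx E).obj F),
        φ ≫ (CxOX.RgammaZToId U.ι).app ((DCoh.LTensorCx E).obj F) =
          (DCoh.LTensorCx E).map ((CxOX.RgammaZToId U.ι).app F) → IsIso φ := by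
  obtain ⟨adjU⟩ := nonempty_adj_DD U.ι
  have hA : IsZero ((DCoh.restrictD U.ι).obj
      ((DCoh.LTensorCx E).obj ((CxOX.RgammaZ U.ι).obj F))) :=
    isZero_restrictD_LTensorCx U E _ (isZero_restrictD_RgammaZ U F)
  have hH : IsZero ((DCoh.restrictD U.ι).obj
      ((CxOX.RgammaZ U.ι).obj ((DCoh.LTensorCx E).obj F))) :=
    isZero_restrictD_RgammaZ U _
  have hUP := fun A' hA' => bijective_comp_RgammaZToId U A' ((DCoh.LTensorCx E).obj F) hA'
  have hUP0 := fun A' hA' => bijective_comp_RgammaZToId U A' F hA'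
  -- the cone of `RΓ_Z F ⟶ F`
  obtain ⟨C, g, h, hΔ⟩ := distinguished_cocone_triangle ((CxOX.RgammaZToId U.ι).app F)
  -- `C` is local
  have hloc0 : ∀ A' : DCoh.D X, IsZero ((DCoh.restrictD U.ι).obj A') → NoHom A' C := by
    intro A' hA' x
    have h1 : (x ≫ h) ≫ ((CxOX.RgammaZToId U.ι).app F)⟦(1 : ℤ)⟧' = 0 := by
      rw [Category.assoc]
      have := comp_distTriang_mor_zero₃₁ _ hΔ
      have h' : h ≫ ((CxOX.RgammaZToId U.ι).app F)⟦(1 : ℤ)⟧' = 0 := this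
      rw [h', comp_zero]
    have hinj := injective_comp_shift (A := A') ((CxOX.RgammaZToId U.ι).app F)
      (hUP0 _ (isZero_restrictD_shift U A' (-1) hA')).1
    have h2 : x ≫ h = 0 := hinj (by
      show (x ≫ h) ≫ _ = 0 ≫ _
      rw [h1, zero_comp])
    obtain ⟨y, hy⟩ := Triangle.coyoneda_exact₃ _ hΔ x h2
    obtain ⟨z, hz⟩ := (hUP0 A' hA').2 y
    have hz' : z ≫ (CxOX.RgammaZToId U.ι).app F = y := hz
    have hy' : x = y ≫ g := hy
    rw [hy', ← hz', Category.assoc]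
    have h3 : (CxOX.RgammaZToId U.ι).app F ≫ g = 0 := comp_distTriang_mor_zero₁₂ _ hΔ
    rw [h3, comp_zero]
  have hloc : ∀ A' : DCoh.D X, IsZero ((DCoh.restrictD U.ι).obj A') →
      NoHom A' (C⟦(1 : ℤ)⟧) := fun A' hA' =>
    NoHom.shift_right 1 (-1) (by norm_num) (hloc0 _ (isZero_restrictD_shift U A' (-1) hA'))
  haveI := isIso_unit_of_local U adjU C hloc
  -- `j^* C ≅ j^* F` is in `D_QCoh`
  have hΔU := (DCoh.restrictD U.ι).map_distinguished _ hΔ
  haveI : IsIso ((DCoh.restrictD U.ι).map g) :=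
    (Triangle.isZero₁_iff_isIso₂ _ hΔU).1 (isZero_restrictD_RgammaZ U F)
  have hqc : DCoh.IsQCohD ((DCoh.restrictD U.ι).obj C) :=
    Groth.Agent.Lib.DSectX.isQCohD_of_iso (asIso ((DCoh.restrictD U.ι).map g))
      (LpullQCL.isQCohD_restrictD U.ι F hF)
  -- the projection formula
  obtain ⟨R, π, hR, hπ⟩ := Groth.Agent.Lib.DTorCmp.exists_kflat_resolution' E
  haveI := hπ
  haveI : IsIso (Q.map π) := by rw [DerivedCategory.isIso_Q_map_iff_quasiIso]; infer_instance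
  let M := (pullCx U.ι).obj R
  have hMK := isKFlat_pullback U.ι R hR
  haveI : DCoh.HasLTensorCx M := Groth.Agent.Lib.PjCxH3.hasLTensorCx_of_isKFlat M hMK
  have hM : Nonempty (DCoh.toD U M ≅ (DCoh.Lpull U.ι).obj (DCoh.toD X E)) :=
    ⟨(LpullQIso U.ι R hR).symm ≪≫ (DCoh.Lpull U.ι).mapIso (asIso (Q.map π))⟩
  obtain ⟨pf⟩ := Groth.Agent.Lib.PjCxH3.main1118 U.ι ((DCoh.restrictD U.ι).obj C) hqc E hE M hM
  let eTC : (DCoh.LTensorCx E).obj C ≅
      (DCoh.Rpush U.ι).obj ((DCoh.LTensorCx M).obj ((DCoh.restrictD U.ι).obj C)) :=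
    (DCoh.LTensorCx E).mapIso (asIso (adjU.unit.app C)) ≪≫ pf
  have hnoTC : ∀ A' : DCoh.D X, IsZero ((DCoh.restrictD U.ι).obj A') →
      NoHom A' ((DCoh.LTensorCx E).obj C) := fun A' hA' =>
    NoHom.of_iso_right (NoHom.of_adj adjU (NoHom.of_isZero_left hA')) eTC.symm
  -- `- ⊗^L E` applied to the triangle
  obtain ⟨δ, hΔ'⟩ := exists_distTriang E _ hΔ
  have hR' : ∀ A' : DCoh.D X, IsZero ((DCoh.restrictD U.ι).obj A') →
      Function.Bijective (fun a : A' ⟶ (DCoh.LTensorCx E).obj ((CxOX.RgammaZ U.ι).obj F) =>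
        a ≫ (DCoh.LTensorCx E).map ((CxOX.RgammaZToId U.ι).app F)) := fun A' hA' =>
    bijective_comp_mor₁ _ hΔ' A' (hnoTC A' hA')
      (NoHom.shift_right (-1) 1 (by norm_num) (hnoTC _ (isZero_restrictD_shift U A' 1 hA')))
  refine ⟨(hUP _ hA).2 _, ?_⟩
  intro α hα
  have hα' : ∀ A' : DCoh.D X, IsZero ((DCoh.restrictD U.ι).obj A') →
      Function.Bijective (fun a : A' ⟶ (DCoh.LTensorCx E).obj ((CxOX.RgammaZ U.ι).obj F) =>
        a ≫ α) := by
    intro A' hA'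
    constructor
    · intro a₁ a₂ h
      have h' : a₁ ≫ α = a₂ ≫ α := h
      apply (hR' A' hA').1
      show a₁ ≫ (DCoh.LTensorCx E).map ((CxOX.RgammaZToId U.ι).app F) =
        a₂ ≫ (DCoh.LTensorCx E).map ((CxOX.RgammaZToId U.ι).app F)
      rw [← hα, ← Category.assoc, ← Category.assoc, h']
    · intro c
      obtain ⟨a, ha⟩ := (hR' A' hA').2
        (c ≫ (CxOX.RgammaZToId U.ι).app ((DCoh.LTensorCx E).obj F))
      have ha' : a ≫ (DCoh.LTensorCx E).map ((CxOX.RgammaZToId U.ι).app F) =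
          c ≫ (CxOX.RgammaZToId U.ι).app ((DCoh.LTensorCx E).obj F) := ha
      refine ⟨a, ?_⟩
      apply (hUP A' hA').1
      show (a ≫ α) ≫ (CxOX.RgammaZToId U.ι).app ((DCoh.LTensorCx E).obj F) =
        c ≫ (CxOX.RgammaZToId U.ι).app ((DCoh.LTensorCx E).obj F)
      rw [Category.assoc, hα, ha']
  obtain ⟨β, hβ⟩ := (hα' _ hH).2 (𝟙 _)
  have hβ' : β ≫ α = 𝟙 _ := hβ
  have hαβ : α ≫ β = 𝟙 _ := by
    apply (hα' _ hA).1
    show (α ≫ β) ≫ α = 𝟙 _ ≫ α
    rw [Category.assoc, hβ', Category.comp_id, Category.id_comp]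
  exact ⟨β, hαβ, hβ'⟩

end

end Groth.Agent.Lib.RGammaZTensH3
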