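import Mathlib
import Groth.Prelude
import Groth.Agent.Lib.RHomPC1_helper3

/-!
# Abstract lemmas for `RHom(-, K)` with `K` of finite injective dimension (helper3)

* `hom_eq_zero_of_injective`: there are no nonzero maps in `D(C)` from an object `≥ b + 1` to a
  bounded below complex of injectives which vanishes above `b`.
* `hom_cone_eq_zero`: vanishing of maps from a test object to the cone.
* `isIso_homology_of_isZero_cone`: a map is an isomorphism on `H^n` if the cone has no cohomology
  in degrees `n - 1` and `n`.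
-/

set_option autoImplicit false
set_option linter.all false
set_option maxHeartbeats 1600000

universe u v w
open CategoryTheory CategoryTheory.Limits Pretriangulated ZeroObject

namespace Groth.Agent.Lib.RHomInjH3

section Inj

variable {C : Type u} [Category.{v} C] [Abelian C] [HasDerivedCategory.{w} C]

open DerivedCategory

/-- no maps from `D^{≥ b+1}` to a bounded below complex of injectives vanishing above `b` -/
theorem hom_eq_zero_of_injective (I : CochainComplex C ℤ) (hI : ∀ i : ℤ, Injective (I.X i))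
    (a b : ℤ) (ha : ∀ i : ℤ, i < a → IsZero (I.X i)) (hb : ∀ i : ℤ, b < i → IsZero (I.X i))
    (N : DerivedCategory C) (hN : N.IsGE (b + 1)) (f : N ⟶ Q.obj I) : f = 0 := by
  haveI : I.IsStrictlyGE a := (CochainComplex.isStrictlyGE_iff I a).2 (fun i hi => ha i hi)
  haveI := hI
  haveI : I.IsKInjective := CochainComplex.isKInjective_of_injective I a
  haveI := hN
  obtain ⟨N', hN', ⟨e⟩⟩ := DerivedCategory.exists_iso_Q_obj_of_isGE N (b + 1)
  haveI := hN'
  let f' : Q.obj N' ⟶ Q.obj I := e.inv ≫ f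
  let φ : Qh.obj ((HomotopyCategory.quotient C (ComplexShape.up ℤ)).obj N') ⟶
      Qh.obj ((HomotopyCategory.quotient C (ComplexShape.up ℤ)).obj I) :=
    (quotientCompQhIso C).hom.app N' ≫ f' ≫ (quotientCompQhIso C).inv.app I
  obtain ⟨g, hg⟩ := (CochainComplex.IsKInjective.Qh_map_bijective
    ((HomotopyCategory.quotient C (ComplexShape.up ℤ)).obj N') I).surjective φ
  obtain ⟨g₀, rfl⟩ := (HomotopyCategory.quotient C (ComplexShape.up ℤ)).map_surjective g
  have hg₀ : g₀ = 0 := by
    apply HomologicalComplex.hom_ext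
    intro k
    by_cases hk : k ≤ b
    · exact (N'.isZero_of_isStrictlyGE (b + 1) k (by omega)).eq_of_src _ _
    · exact (hb k (by omega)).eq_of_tgt _ _
  have hφ : φ = 0 := by
    rw [← hg, hg₀, Functor.map_zero, Functor.map_zero]
  have hf' : f' = 0 := by
    have h1 : f' = (quotientCompQhIso C).inv.app N' ≫ φ ≫ (quotientCompQhIso C).hom.app I := by
      simp only [φ, Category.assoc, Iso.inv_hom_id_app, Category.comp_id, Iso.inv_hom_id_app_assoc]
    rw [h1, hφ, zero_comp, comp_zero]
  calc f = e.hom ≫ f' := by simp only [f', Iso.hom_inv_id_assoc]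
    _ = 0 := by rw [hf', comp_zero]

end Inj

section Tri

variable {A : Type*} [Category A] [Preadditive A] [HasZeroObject A] [HasShift A ℤ]
  [∀ n : ℤ, (shiftFunctor A n).Additive] [Pretriangulated A]

/-- vanishing of maps from a test object into the cone -/
theorem hom_cone_eq_zero {R R' W : A} (ρ : R ⟶ R') (u : R' ⟶ W) (v : W ⟶ R⟦(1 : ℤ)⟧)
    (hT : Triangle.mk ρ u v ∈ distTriang A) (T : A)
    (hsurj : ∀ f : T ⟶ R', ∃ g : T ⟶ R, g ≫ ρ = f)
    (hinj : ∀ g : T⟦(-1 : ℤ)⟧ ⟶ R, g ≫ ρ = 0 → g = 0)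
    (σ : T ⟶ W) : σ = 0 := by
  have h1 : σ ≫ v = 0 := by
    let c : (T⟦(-1 : ℤ)⟧)⟦(1 : ℤ)⟧ ≅ T :=
      (shiftFunctorCompIsoId A (-1 : ℤ) 1 (by norm_num)).app T
    obtain ⟨h, hh⟩ := (shiftFunctor A (1 : ℤ)).map_surjective (c.hom ≫ σ ≫ v)
    have h2 : h ≫ ρ = 0 := by
      apply (shiftFunctor A (1 : ℤ)).map_injective
      rw [Functor.map_comp, hh, Functor.map_zero, Category.assoc, Category.assoc]
      have : v ≫ ρ⟦(1 : ℤ)⟧' = 0 := comp_distTriang_mor_zero₃₁ _ hT
      rw [this, comp_zero, comp_zero]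
    have h4 : h = 0 := hinj h h2
    rw [h4, Functor.map_zero] at hh
    have h5 : c.hom ≫ σ ≫ v = c.hom ≫ 0 := by rw [← hh, comp_zero]
    exact (cancel_epi c.hom).1 h5
  obtain ⟨σ₂, hσ₂⟩ := Triangle.coyoneda_exact₃ _ hT σ h1
  obtain ⟨σ₁, hσ₁⟩ := hsurj σ₂
  have h7 : ρ ≫ u = 0 := comp_distTriang_mor_zero₁₂ _ hT
  have hσ₂' : σ = σ₂ ≫ u := hσ₂
  calc σ = σ₂ ≫ u := hσ₂'
    _ = (σ₁ ≫ ρ) ≫ u := congrArg (fun t => t ≫ u) hσ₁.symm
    _ = 0 := by rw [Category.assoc, h7, comp_zero]

end Tri

section Der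

variable {C : Type u} [Category.{v} C] [Abelian C] [HasDerivedCategory.{w} C]

open DerivedCategory

/-- a map is an isomorphism on `H^n` if its cone has no cohomology in degrees `n - 1`, `n` -/
theorem isIso_homology_of_isZero_cone (T : Triangle (DerivedCategory C))
    (hT : T ∈ distTriang (DerivedCategory C)) (n : ℤ)
    (h1 : IsZero ((homologyFunctor C (n - 1)).obj T.obj₃))
    (h2 : IsZero ((homologyFunctor C n).obj T.obj₃)) :
    IsIso ((homologyFunctor C n).map T.mor₁) := by
  haveI : Epi ((homologyFunctor C n).map T.mor₁) := by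
    rw [HomologySequence.epi_homologyMap_mor₁_iff T hT n]
    exact h2.eq_of_tgt _ _
  haveI : Mono ((homologyFunctor C n).map T.mor₁) := by
    rw [HomologySequence.mono_homologyMap_mor₁_iff T hT (n - 1) n (by omega)]
    exact h1.eq_of_src _ _
  exact isIso_of_mono_of_epi _

end Der

end Groth.Agent.Lib.RHomInjH3
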