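import Mathlib
import Groth.Prelude
import Groth.Agent.Lib.RHomInj1_helper3
import Groth.Agent.Lib.RHomPC3_helper3
import Groth.Agent.Lib.DualSch4_helper3
import Groth.Agent.Lib.DSect3_lead
import Groth.Agent.Lib.CompQ1_lead
import Groth.Agent.Lib.ModSite9_helper8

/-!
# Test objects `j_! O_V[j]` and derived tensor products (helper3)

* `pxIso`, `isFlat_PX`: the test modules `PX V = j_! O_V` are flat.
* `isGE_Q_tw`: termwise tensor product with a flat module is t-exact.
* `isGE_tensor_test`: `(F[0])[j] ⊗ C ≥ d - j` for `F` flat and `C ≥ d`.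
* `isZero_HD_of_tests`: detection of the vanishing of `H^m(M)` by maps from test objects.
-/

set_option autoImplicit false
set_option linter.all false
set_option maxHeartbeats 1600000
set_option backward.isDefEq.respectTransparency false
set_option backward.isDefEq.respectTransparency.types false
set_option backward.defeqAttrib.useBackward true

universe u
open CategoryTheory CategoryTheory.Limits AlgebraicGeometry Opposite TopologicalSpace
open HomologicalComplex Pretriangulated

attribute [local instance] HasDerivedCategory.standard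

namespace Groth.Agent.Lib.RHomInjH3

open ModSite Groth.Agent.Lib.ModSiteH8 Groth.Agent.Lib.DSectX Groth.Agent.Lib.DSectL
  Groth.Agent.Lib.DualSchH3 Groth.Agent.Lib.DTorCmp DerivedCategory

noncomputable section

variable {X : Scheme.{u}}

/-- the test complexes: a module in degree `0`, shifted by `j` -/
abbrev testCx (F : X.Modules) (j : ℤ) : CochainComplex X.Modules ℤ :=
  ((CochainComplex.singleFunctor X.Modules 0).obj F)⟦j⟧

/-- `PX V ≅ freeOn V` -/
def pxIso (V : X.Opens) : (PX X).obj V ≅ ModSite.freeOn X.sheaf V :=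
  Groth.Agent.Lib.CompQL.isoOfHomEquiv
    (fun M => (evX X V M).toEquiv.trans (freeOnEquiv X.sheaf V M).symm)
    (by
      intro M M' g k
      show (freeOnEquiv X.sheaf V M').symm (evX X V M' (g ≫ k)) =
        (freeOnEquiv X.sheaf V M).symm (evX X V M g) ≫ k
      rw [freeOnEquiv_symm_comp, evX_comp]
      rfl)

theorem isFlat_PX (V : X.Opens) : ModSite.IsFlat (O := X.sheaf) ((PX X).obj V) :=
  isFlat_of_iso X.sheaf (pxIso V).symm (isFlat_freeOn X.sheaf V)

/-- termwise tensor product with a flat module is left t-exact -/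
theorem isGE_Q_tw (F : X.Modules) (hF : ModSite.IsFlat (O := X.sheaf) F)
    (C : CochainComplex X.Modules ℤ) (d : ℤ) (hC : (Q.obj C).IsGE d) :
    (Q.obj ((tw F).obj C)).IsGE d := by
  haveI : PreservesFiniteLimits (DCoh.tensorRightMod F) := by
    haveI := hF.1
    exact preservesFiniteLimits_of_natIso (eT F).symm
  haveI : PreservesFiniteColimits (DCoh.tensorRightMod F) := by
    haveI := hF.2
    exact preservesFiniteColimits_of_natIso (eT F).symm
  haveI : (DCoh.tensorRightMod F).Additive := DCoh.additive_tensorRightMod F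
  rw [DerivedCategory.isGE_iff] at hC ⊢
  intro i hi
  have h1 : IsZero (C.homology i) :=
    (hC i hi).of_iso ((homologyFunctorFactors X.Modules i).app C).symm
  have h2 : IsZero (((tw F).obj C).homology i) :=
    ((DCoh.tensorRightMod F).map_isZero h1).of_iso
      ((C.sc i).mapHomologyIso (DCoh.tensorRightMod F))
  exact h2.of_iso ((homologyFunctorFactors X.Modules i).app _)

/-- the chain level iso `(F[0])[j] ⊗ C ≅ (C ⊗ F)[j]` -/
def testTensorIso (F : X.Modules) (j : ℤ) (C : CochainComplex X.Modules ℤ) :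
    (DCoh.tensorCx.obj (testCx F j)).obj C ≅ ((tw F).obj C)⟦j⟧ :=
  (((DCoh.tensorCx (X := X)).flip.obj C).commShiftIso j).app
      ((CochainComplex.singleFunctor X.Modules 0).obj F) ≪≫
    (shiftFunctor (CochainComplex X.Modules ℤ) j).mapIso (singleTensorIso F C)

/-- `(F[0])[j] ⊗ C ≥ d - j` for `F` flat and `C ≥ d` -/
theorem isGE_tensor_test (F : X.Modules) (hF : ModSite.IsFlat (O := X.sheaf) F) (j : ℤ)
    (C : CochainComplex X.Modules ℤ) (d : ℤ) (hC : (Q.obj C).IsGE d) :
    (Q.obj ((DCoh.tensorCx.obj (testCx F j)).obj C)).IsGE (d - j) := by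
  haveI h1 : (Q.obj ((tw F).obj C)).IsGE d := isGE_Q_tw F hF C d hC
  haveI h2 : ((Q.obj ((tw F).obj C))⟦j⟧).IsGE (d - j) :=
    TStructure.t.isGE_shift _ d j (d - j) (by omega)
  have e : Q.obj ((DCoh.tensorCx.obj (testCx F j)).obj C) ≅ (Q.obj ((tw F).obj C))⟦j⟧ :=
    Q.mapIso (testTensorIso F j C) ≪≫ (Q.commShiftIso j).app ((tw F).obj C)
  exact TStructure.t.isGE_of_iso e.symm (d - j)

/-- vanishing of `H⁰` detected by the test objects -/
theorem isZero_H0_of_tests (M : DCoh.D X)
    (h : ∀ (V : X.Opens) (σ : (singleFunctor X.Modules 0).obj ((PX X).obj V) ⟶ M), σ = 0) :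
    IsZero ((homologyFunctor X.Modules 0).obj M) := by
  have key : ∀ (U : X.Opens)
      (s : ((sdX X).Γ.obj ((homologyFunctor X.Modules 0).obj M)).obj.obj (op U)), s = 0 := by
    intro U s
    obtain ⟨S, hS, hS'⟩ := locSurj (sdX X) M U s
    refine eq_zero_of_cover' _ S hS s (fun W g hg => ?_)
    obtain ⟨σ, hσ⟩ := hS' g hg
    rw [← hσ, h W σ, map_zero]
  have key' : ∀ (U : X.Opens) (s : Γ((homologyFunctor X.Modules 0).obj M, U)), s = 0 :=
    fun U s => key U s
  rw [IsZero.iff_id_eq_zero]
  apply Scheme.Modules.hom_ext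
  intro U
  ext s
  exact (key' U _).trans (key' U _).symm

/-- vanishing of `H^m` detected by the (shifted) test objects -/
theorem isZero_HD_of_tests (M : DCoh.D X) (m : ℤ)
    (h : ∀ (V : X.Opens) (Y : DCoh.D X) (_ : Y ≅ Q.obj (testCx ((PX X).obj V) (-m)))
      (σ : Y ⟶ M), σ = 0) :
    IsZero ((homologyFunctor X.Modules m).obj M) := by
  refine IsZero.of_iso (isZero_H0_of_tests (M⟦m⟧) ?_)
    (((homologyFunctor X.Modules 0).shiftIso m 0 m (add_zero m)).app M).symm
  intro V σ
  let c : (M⟦m⟧)⟦-m⟧ ≅ M := (shiftFunctorCompIsoId (DCoh.D X) m (-m) (add_neg_cancel m)).app M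
  have h0 := h V (((singleFunctor X.Modules 0).obj ((PX X).obj V))⟦-m⟧)
    ((Q.commShiftIso (-m)).app
      ((CochainComplex.singleFunctor X.Modules 0).obj ((PX X).obj V))).symm
    (σ⟦-m⟧' ≫ c.hom)
  have h1 : σ⟦-m⟧' = 0 := by
    have : σ⟦-m⟧' ≫ c.hom = 0 ≫ c.hom := by rw [h0, zero_comp]
    exact (cancel_mono c.hom).1 this
  apply (shiftFunctor (DCoh.D X) (-m)).map_injective
  rw [h1, Functor.map_zero]

end

end Groth.Agent.Lib.RHomInjH3
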