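import Mathlib
import Groth.Prelude
import Groth.Agent.Lib.RHomInj2_helper3
import Groth.Agent.Lib.RSheafHomEx1_helper3
import Groth.Agent.Lib.BifCone_helper2

/-!
# `RHom(-, K)` for `K` of finite injective dimension (helper3; S7878)

* `tau_props`, `rho_props`: for a chain map `a : A₀ ⟶ B₀` of K-flat complexes whose cone is
  `≥ d + 1`, and `K` receiving no maps from `D^{≥ b+1}`, composition with the conjugate
  `RHom(B₀, K) ⟶ RHom(A₀, K)` is bijective on maps from the test objects `j_! O_V[j]`,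
  `j ≤ d - b`.
* `isIso_homology_rho`: the conjugate is an isomorphism on `H^n` for `n ≥ b - d + 1`.
* `main7878`.
-/

set_option autoImplicit false
set_option linter.all false
set_option maxHeartbeats 1600000
set_option backward.isDefEq.respectTransparency false
set_option backward.isDefEq.respectTransparency.types false
set_option backward.defeqAttrib.useBackward true

universe u
open CategoryTheory CategoryTheory.Limits AlgebraicGeometry Opposite TopologicalSpace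
open HomologicalComplex Pretriangulated

attribute [local instance] HasDerivedCategory.standard

namespace Groth.Agent.Lib.RHomInjH3

open ModSite Groth.Agent.Lib.ModSiteH8 Groth.Agent.Lib.DSectX Groth.Agent.Lib.DSectL
  Groth.Agent.Lib.DualSchH3 Groth.Agent.Lib.DTorCmp Groth.Agent.Lib.RHomPCH3
  Groth.Agent.Lib.PjShriekH3 Groth.Agent.Lib.LpullPCH3 DerivedCategory

noncomputable section

variable {X : Scheme.{u}}

section Compare

variable (A₀ B₀ : CochainComplex X.Modules ℤ)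
  [DCoh.HasLTensorCx A₀] [DCoh.HasLTensorCx B₀] [DCoh.HasRSheafHom A₀] [DCoh.HasRSheafHom B₀]
  (a : A₀ ⟶ B₀) (τ : DCoh.LTensorCx A₀ ⟶ DCoh.LTensorCx B₀)
  (hτ : ∀ Z' : CochainComplex X.Modules ℤ,
      ∃ (e₁ : (DCoh.LTensorCx A₀).obj (Q.obj Z') ≅ Q.obj ((DCoh.tensorCx.obj Z').obj A₀))
        (e₂ : (DCoh.LTensorCx B₀).obj (Q.obj Z') ≅ Q.obj ((DCoh.tensorCx.obj Z').obj B₀)),
        τ.app (Q.obj Z') = e₁.hom ≫ Q.map (((DCoh.tensorCx (X := X)).obj Z').map a) ≫ e₂.inv)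
  (K : DCoh.D X) (b : ℤ) (hKvan : ∀ N : DCoh.D X, N.IsGE (b + 1) → ∀ f : N ⟶ K, f = 0)
  (d : ℤ) (hcone : (Q.obj (CochainComplex.mappingCone a)).IsGE (d + 1))

include hτ hKvan hcone in
theorem tau_props (F : X.Modules) (hF : ModSite.IsFlat (O := X.sheaf) F) (j : ℤ)
    (hj : j ≤ d - b) :
    (∀ f : (DCoh.LTensorCx A₀).obj (Q.obj (testCx F j)) ⟶ K,
      ∃ h : (DCoh.LTensorCx B₀).obj (Q.obj (testCx F j)) ⟶ K,
        τ.app (Q.obj (testCx F j)) ≫ h = f) ∧
    (∀ h h' : (DCoh.LTensorCx B₀).obj (Q.obj (testCx F j)) ⟶ K,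
      τ.app (Q.obj (testCx F j)) ≫ h = τ.app (Q.obj (testCx F j)) ≫ h' → h = h') := by
  obtain ⟨e₁, e₂, he⟩ := hτ (testCx F j)
  let φ : (DCoh.tensorCx.obj (testCx F j)).obj A₀ ⟶ (DCoh.tensorCx.obj (testCx F j)).obj B₀ :=
    ((DCoh.tensorCx (X := X)).obj (testCx F j)).map a
  have hTr := DerivedCategory.mappingCone_triangle_distinguished φ
  have hW : (Q.obj (CochainComplex.mappingCone φ)).IsGE (b + 1) := by
    haveI h1 : (Q.obj ((DCoh.tensorCx.obj (testCx F j)).obj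
        (CochainComplex.mappingCone a))).IsGE (d + 1 - j) :=
      isGE_tensor_test F hF j _ (d + 1) hcone
    have ec : Q.obj ((DCoh.tensorCx.obj (testCx F j)).obj (CochainComplex.mappingCone a)) ≅
        Q.obj (CochainComplex.mappingCone φ) :=
      Q.mapIso (Groth.Agent.Lib.BifCone.mapBifunctorConeIso₂ (DCoh.tensorBi (X := X))
        (testCx F j) a)
    haveI h2 : (Q.obj (CochainComplex.mappingCone φ)).IsGE (d + 1 - j) :=
      TStructure.t.isGE_of_iso ec (d + 1 - j)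
    exact TStructure.t.isGE_of_ge _ (b + 1) (d + 1 - j) (by omega)
  have h0 : ∀ h : Q.obj (CochainComplex.mappingCone φ) ⟶ K, h = 0 := fun h => hKvan _ hW h
  have h0' : ∀ h : (Q.obj (CochainComplex.mappingCone φ))⟦(-1 : ℤ)⟧ ⟶ K, h = 0 := by
    intro h
    haveI := hW
    haveI h3 : ((Q.obj (CochainComplex.mappingCone φ))⟦(-1 : ℤ)⟧).IsGE (b + 2) :=
      TStructure.t.isGE_shift _ (b + 1) (-1) (b + 2) (by omega)
    have h4 : ((Q.obj (CochainComplex.mappingCone φ))⟦(-1 : ℤ)⟧).IsGE (b + 1) :=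
      TStructure.t.isGE_of_ge _ (b + 1) (b + 2) (by omega)
    exact hKvan _ h4 h
  constructor
  · intro f
    obtain ⟨g', hg'⟩ := exists_fac_of_hom_zero _ hTr K h0' (e₁.inv ≫ f)
    have hg'' : Q.map φ ≫ g' = e₁.inv ≫ f := hg'
    refine ⟨e₂.hom ≫ g', ?_⟩
    rw [he]
    simp only [Category.assoc, Iso.inv_hom_id_assoc]
    rw [hg'', Iso.hom_inv_id_assoc]
  · intro h h' hh
    have h2 : τ.app (Q.obj (testCx F j)) ≫ (h - h') = 0 := by
      rw [Preadditive.comp_sub, hh, sub_self]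
    rw [he] at h2
    simp only [Category.assoc] at h2
    have h1 : Q.map φ ≫ (e₂.inv ≫ (h - h')) = 0 :=
      (cancel_epi e₁.hom).1 (h2.trans comp_zero.symm)
    have h3 : e₂.inv ≫ (h - h') = 0 := eq_zero_of_hom_zero _ hTr K h0 _ h1
    have h4 : h - h' = 0 := (cancel_epi e₂.inv).1 (h3.trans comp_zero.symm)
    exact sub_eq_zero.1 h4

include hτ hKvan hcone in
theorem rho_props (F : X.Modules) (hF : ModSite.IsFlat (O := X.sheaf) F) (j : ℤ)
    (hj : j ≤ d - b) (Y : DCoh.D X) (ι : Y ≅ Q.obj (testCx F j)) :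
    (∀ f : Y ⟶ (DCoh.RSheafHom A₀).obj K, ∃ g : Y ⟶ (DCoh.RSheafHom B₀).obj K,
        g ≫ (conjugateEquiv (DCoh.RSheafHomAdj B₀) (DCoh.RSheafHomAdj A₀) τ).app K = f) ∧
    (∀ g : Y ⟶ (DCoh.RSheafHom B₀).obj K,
        g ≫ (conjugateEquiv (DCoh.RSheafHomAdj B₀) (DCoh.RSheafHomAdj A₀) τ).app K = 0 →
          g = 0) := by
  obtain ⟨hs, hi⟩ := tau_props A₀ B₀ a τ hτ K b hKvan d hcone F hF j hj
  have key : ∀ g : Q.obj (testCx F j) ⟶ (DCoh.RSheafHom B₀).obj K,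
      ((DCoh.RSheafHomAdj A₀).homEquiv (Q.obj (testCx F j)) K).symm
        (g ≫ (conjugateEquiv (DCoh.RSheafHomAdj B₀) (DCoh.RSheafHomAdj A₀) τ).app K) =
      τ.app (Q.obj (testCx F j)) ≫
        ((DCoh.RSheafHomAdj B₀).homEquiv (Q.obj (testCx F j)) K).symm g :=
    fun g => homEquiv_symm_comp_conjugate (DCoh.RSheafHomAdj B₀) (DCoh.RSheafHomAdj A₀) τ
      (Q.obj (testCx F j)) K g
  constructor
  · intro f
    obtain ⟨h, hh⟩ := hs (((DCoh.RSheafHomAdj A₀).homEquiv (Q.obj (testCx F j)) K).symm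
      (ι.inv ≫ f))
    refine ⟨ι.hom ≫ (DCoh.RSheafHomAdj B₀).homEquiv (Q.obj (testCx F j)) K h, ?_⟩
    have h1 : (DCoh.RSheafHomAdj B₀).homEquiv (Q.obj (testCx F j)) K h ≫
        (conjugateEquiv (DCoh.RSheafHomAdj B₀) (DCoh.RSheafHomAdj A₀) τ).app K = ι.inv ≫ f := by
      apply ((DCoh.RSheafHomAdj A₀).homEquiv (Q.obj (testCx F j)) K).symm.injective
      rw [key, Equiv.symm_apply_apply, hh]
    rw [Category.assoc, h1, Iso.hom_inv_id_assoc]
  · intro g hg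
    have h1 : (ι.inv ≫ g) ≫
        (conjugateEquiv (DCoh.RSheafHomAdj B₀) (DCoh.RSheafHomAdj A₀) τ).app K =
        (0 : Q.obj (testCx F j) ⟶ (DCoh.RSheafHom B₀).obj K) ≫
        (conjugateEquiv (DCoh.RSheafHomAdj B₀) (DCoh.RSheafHomAdj A₀) τ).app K := by
      rw [Category.assoc, hg, comp_zero, zero_comp]
    have h2 : τ.app (Q.obj (testCx F j)) ≫
        ((DCoh.RSheafHomAdj B₀).homEquiv (Q.obj (testCx F j)) K).symm (ι.inv ≫ g) =
        τ.app (Q.obj (testCx F j)) ≫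
        ((DCoh.RSheafHomAdj B₀).homEquiv (Q.obj (testCx F j)) K).symm 0 := by
      rw [← key, ← key, h1]
    have h3 := hi _ _ h2
    have h4 : ι.inv ≫ g = 0 :=
      ((DCoh.RSheafHomAdj B₀).homEquiv (Q.obj (testCx F j)) K).symm.injective h3
    exact (cancel_epi ι.inv).1 (h4.trans comp_zero.symm)

include hτ hKvan hcone in
/-- **the comparison `RHom(B₀, K) ⟶ RHom(A₀, K)` is an isomorphism on `H^n`, `n ≥ b - d + 1`** -/
theorem isIso_homology_rho (n : ℤ) (hn : b - n + 1 ≤ d) :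
    IsIso ((homologyFunctor X.Modules n).map
      ((conjugateEquiv (DCoh.RSheafHomAdj B₀) (DCoh.RSheafHomAdj A₀) τ).app K)) := by
  obtain ⟨W, u, v, hT⟩ := distinguished_cocone_triangle
    ((conjugateEquiv (DCoh.RSheafHomAdj B₀) (DCoh.RSheafHomAdj A₀) τ).app K)
  have hW : ∀ m : ℤ, n - 1 ≤ m → IsZero ((homologyFunctor X.Modules m).obj W) := by
    intro m hm
    apply isZero_HD_of_tests
    intro V Y ι σ
    have hF := isFlat_PX V
    obtain ⟨hs, _⟩ := rho_props A₀ B₀ a τ hτ K b hKvan d hcone ((PX X).obj V) hF (-m)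
      (by omega) Y ι
    let ι' : Y⟦(-1 : ℤ)⟧ ≅ Q.obj (testCx ((PX X).obj V) (-m - 1)) :=
      (shiftFunctor (DCoh.D X) (-1 : ℤ)).mapIso ι ≪≫
        ((Q.commShiftIso (-1 : ℤ)).app (testCx ((PX X).obj V) (-m))).symm ≪≫
        Q.mapIso ((shiftFunctorAdd' (CochainComplex X.Modules ℤ) (-m) (-1) (-m - 1)
          (by omega)).app
            ((CochainComplex.singleFunctor X.Modules 0).obj ((PX X).obj V))).symm
    obtain ⟨_, hi⟩ := rho_props A₀ B₀ a τ hτ K b hKvan d hcone ((PX X).obj V) hF (-m - 1)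
      (by omega) (Y⟦(-1 : ℤ)⟧) ι'
    exact hom_cone_eq_zero _ u v hT Y hs hi σ
  exact isIso_homology_of_isZero_cone (Triangle.mk _ u v) hT n (hW (n - 1) le_rfl)
    (hW n (by omega))

end Compare

section Main

variable [IsNoetherian X]

/-- coherence of `H^n(RHom(L, K))` -/
theorem isCoh_HD_RSheafHom_of_van (K : DCoh.D X) (a b : ℤ) (hKa : K.IsGE a)
    (hKvan : ∀ N : DCoh.D X, N.IsGE (b + 1) → ∀ f : N ⟶ K, f = 0) (hKcoh : DCoh.IsCohD K)
    (L : CochainComplex X.Modules ℤ) (hL : DCoh.IsCohD (Q.obj L)) [DCoh.HasLTensorCx L]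
    [DCoh.HasRSheafHom L] (n : ℤ) :
    Coh.IsCoh (DCoh.HD ((DCoh.RSheafHom L).obj K) n) := by
  set d : ℤ := b - n + 1 with hd
  obtain ⟨A₀, B₀, hA, hB, a₀, u, v, hfac⟩ :=
    exists_arrow_rep ((TStructure.t.truncLEι d).app (Q.obj L))
  haveI : DCoh.HasLTensorCx A₀ := Groth.Agent.Lib.PjCxH3.hasLTensorCx_of_isKFlat A₀ hA
  haveI : DCoh.HasLTensorCx B₀ := Groth.Agent.Lib.PjCxH3.hasLTensorCx_of_isKFlat B₀ hB
  haveI : DCoh.HasRSheafHom A₀ := Groth.Agent.Lib.RSheafHomExH3.hasRSheafHom A₀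
  haveI : DCoh.HasRSheafHom B₀ := Groth.Agent.Lib.RSheafHomExH3.hasRSheafHom B₀
  obtain ⟨τ, hτ⟩ := exists_tauNat A₀ B₀ hA hB a₀
  -- the cone of `a₀`
  have hcone : (Q.obj (CochainComplex.mappingCone a₀)).IsGE (d + 1) := by
    have hT₁ := DerivedCategory.mappingCone_triangle_distinguished a₀
    have hT₂ := TStructure.t.triangleLEGT_distinguished d (Q.obj L)
    let e := isoTriangleOfIso₁₂ _ _ hT₁ hT₂ u v hfac.symm
    haveI : ((TStructure.t.truncGT d).obj (Q.obj L)).IsGE (d + 1) :=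
      TStructure.t.isGE_truncGT_obj _ d (d + 1)
    have e3 : Q.obj (CochainComplex.mappingCone a₀) ≅ (TStructure.t.truncGT d).obj (Q.obj L) :=
      Triangle.π₃.mapIso e
    exact TStructure.t.isGE_of_iso e3.symm (d + 1)
  haveI hiso := isIso_homology_rho A₀ B₀ a₀ τ hτ K b hKvan d hcone n (by omega)
  -- `A₀` is bounded above with coherent cohomology
  haveI : ((TStructure.t.truncLE d).obj (Q.obj L)).IsLE d := TStructure.t.isLE_truncLE_obj _ d d
  haveI hAle : (DCoh.toD X A₀).IsLE d := TStructure.t.isLE_of_iso u.symm d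
  have hAcoh : DCoh.IsCohD (DCoh.toD X A₀) := by
    intro i
    refine Groth.Agent.Lib.RelPCPropH3.isCoh_of_iso ((homologyFunctor _ i).mapIso u) ?_
    by_cases hi : i ≤ d
    · haveI := isIso_homology_truncLEι (Q.obj L) d i hi
      exact Groth.Agent.Lib.RelPCPropH3.isCoh_of_iso
        (asIso ((homologyFunctor _ i).map ((TStructure.t.truncLEι d).app (Q.obj L)))) (hL i)
    · exact Groth.Agent.Lib.LocTorCohH3.isCoh_of_isZero'
        (DerivedCategory.isZero_of_isLE _ d i (by omega))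
  haveI := hKa
  have h1 : Coh.IsCoh (DCoh.HD ((DCoh.RSheafHom A₀).obj K) n) :=
    (main1116 A₀ d hAcoh K a hKcoh).1 n
  obtain ⟨γ⟩ := nonempty_RSheafHom_iso_of_Q_iso L B₀ v.symm
  exact Groth.Agent.Lib.RelPCPropH3.isCoh_of_iso
    ((homologyFunctor _ n).mapIso (γ.app K) ≪≫
      asIso ((homologyFunctor X.Modules n).map
        ((conjugateEquiv (DCoh.RSheafHomAdj B₀) (DCoh.RSheafHomAdj A₀) τ).app K))) h1

/-- upper bound for `RHom(L, K)` -/
theorem isZero_HD_RSheafHom_of_van (K : DCoh.D X) (b : ℤ)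
    (hKvan : ∀ N : DCoh.D X, N.IsGE (b + 1) → ∀ f : N ⟶ K, f = 0)
    (L : CochainComplex X.Modules ℤ) [DCoh.HasLTensorCx L] [DCoh.HasRSheafHom L] (c : ℤ)
    (hLc : (Q.obj L).IsGE c) (i : ℤ) (hi : b - c < i) :
    IsZero (DCoh.HD ((DCoh.RSheafHom L).obj K) i) := by
  obtain ⟨B₀, π, hB, hπ⟩ := Groth.Agent.Lib.DTorCmp.exists_kflat_resolution' L
  haveI := hπ
  haveI : IsIso (Q.map π) := by rw [DerivedCategory.isIso_Q_map_iff_quasiIso]; infer_instance
  obtain ⟨e1⟩ := nonempty_ltNatIso L B₀ π hB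
  haveI : (Q.obj B₀).IsGE c := TStructure.t.isGE_of_iso (asIso (Q.map π)).symm c
  apply isZero_HD_of_tests
  intro V Y ι σ
  apply ((DCoh.RSheafHomAdj L).homEquiv Y K).symm.injective
  have hN : ((DCoh.LTensorCx L).obj Y).IsGE (b + 1) := by
    haveI h2 : (Q.obj ((DCoh.tensorCx.obj (testCx ((PX X).obj V) (-i))).obj B₀)).IsGE
        (c - (-i)) := isGE_tensor_test _ (isFlat_PX V) (-i) B₀ c inferInstance
    have e : (DCoh.LTensorCx L).obj Y ≅
        Q.obj ((DCoh.tensorCx.obj (testCx ((PX X).obj V) (-i))).obj B₀) :=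
      (DCoh.LTensorCx L).mapIso ι ≪≫ e1.app (testCx ((PX X).obj V) (-i))
    haveI h3 : ((DCoh.LTensorCx L).obj Y).IsGE (c - (-i)) :=
      TStructure.t.isGE_of_iso e.symm (c - (-i))
    exact TStructure.t.isGE_of_ge _ (b + 1) (c - (-i)) (by omega)
  exact (hKvan _ hN _).trans (hKvan _ hN _).symm

/-- **S7878** -/
theorem main7878 (I : CochainComplex X.Modules ℤ) (hIinj : ∀ i : ℤ, Injective (I.X i))
    (hIbdd : ∃ a b : ℤ, ∀ i : ℤ, (i < a ∨ b < i) → IsZero (I.X i))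
    (K : DCoh.D X) (hK : Nonempty (DCoh.toD X I ≅ K)) (hKcoh : ∀ i : ℤ, Coh.IsCoh (DCoh.HD K i))
    (L : CochainComplex X.Modules ℤ) (hL : ∀ i : ℤ, Coh.IsCoh (DCoh.HD (DCoh.toD X L) i))
    [DCoh.HasLTensorCx L] [DCoh.HasRSheafHom L] :
    (∀ i : ℤ, Coh.IsCoh (DCoh.HD ((DCoh.RSheafHom L).obj K) i)) ∧
      ((∃ c : ℤ, ∀ i : ℤ, i < c → IsZero (DCoh.HD (DCoh.toD X L) i)) →
        ∃ d : ℤ, ∀ i : ℤ, d < i → IsZero (DCoh.HD ((DCoh.RSheafHom L).obj K) i)) ∧
      ((∃ c : ℤ, ∀ i : ℤ, c < i → IsZero (DCoh.HD (DCoh.toD X L) i)) →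
        ∃ d : ℤ, ∀ i : ℤ, i < d → IsZero (DCoh.HD ((DCoh.RSheafHom L).obj K) i)) := by
  obtain ⟨a, b, hab⟩ := hIbdd
  obtain ⟨eK⟩ := hK
  have hKvan : ∀ N : DCoh.D X, N.IsGE (b + 1) → ∀ f : N ⟶ K, f = 0 := by
    intro N hN f
    have h1 : f ≫ eK.inv = 0 :=
      hom_eq_zero_of_injective I hIinj a b (fun i hi => hab i (Or.inl hi))
        (fun i hi => hab i (Or.inr hi)) N hN _
    exact (cancel_mono eK.inv).1 (h1.trans zero_comp.symm)
  have hKa : K.IsGE a := by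
    haveI : I.IsStrictlyGE a :=
      (CochainComplex.isStrictlyGE_iff I a).2 (fun i hi => hab i (Or.inl hi))
    haveI : (Q.obj I).IsGE a := inferInstance
    exact TStructure.t.isGE_of_iso eK a
  refine ⟨fun n => isCoh_HD_RSheafHom_of_van K a b hKa hKvan hKcoh L hL n, ?_, ?_⟩
  · rintro ⟨c, hc⟩
    have hLc : (Q.obj L).IsGE c := by
      rw [DerivedCategory.isGE_iff]
      exact hc
    exact ⟨b - c, fun i hi => isZero_HD_RSheafHom_of_van K b hKvan L c hLc i hi⟩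
  · rintro ⟨c, hc⟩
    have hLc : (Q.obj L).IsLE c := by
      rw [DerivedCategory.isLE_iff]
      exact hc
    haveI := isGE_RSheafHom L c hLc K a hKa
    exact ⟨a - c, fun i hi => DerivedCategory.isZero_of_isGE _ (a - c) i hi⟩

end Main

end

end Groth.Agent.Lib.RHomInjH3
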