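import Mathlib
import Groth.Prelude.Def_W4c2azumayainvolQEt
import Groth.Agent.Lib.RInv_helper6
import Groth.Agent.Lib.RInv2_helper6
import Groth.Agent.Lib.RInv3_helper6

/-!
# Quadratic etale algebras over a local ring (helper6)
-/

set_option autoImplicit false
universe u v

open TensorProduct

namespace Groth.Agent.Lib.RInv4

open Groth.Agent.Lib.RInv_helper6 Groth.Agent.Lib.RInv2 Groth.Agent.Lib.RInv3

variable {S : Type u} {R : Type v} [CommRing S] [CommRing R] [Algebra S R]

/-- for a finite unramified algebra over a local ring, `Jac(R) = m R` -/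
theorem jacobson_eq_map_maximalIdeal [IsLocalRing S] [Module.Finite S R]
    [Algebra.FormallyUnramified S R] :
    Ring.jacobson R = (IsLocalRing.maximalIdeal S).map (algebraMap S R) := by
  have hint : Algebra.IsIntegral S R := inferInstance
  apply le_antisymm
  · intro x hx
    have hrad := Algebra.FormallyUnramified.isRadical_map_isMaximal (A := S) R
      (IsLocalRing.maximalIdeal S)
    rw [← hrad.radical, Ideal.radical_eq_sInf, Ideal.mem_sInf]
    rintro J ⟨hJ, hJp⟩
    have hcomap : J.comap (algebraMap S R) = IsLocalRing.maximalIdeal S := by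
      have h1 : IsLocalRing.maximalIdeal S ≤ J.comap (algebraMap S R) :=
        Ideal.map_le_iff_le_comap.mp hJ
      have h2 : (J.comap (algebraMap S R)).IsPrime := Ideal.comap_isPrime _ _
      exact ((IsLocalRing.maximalIdeal.isMaximal S).eq_of_le h2.ne_top h1).symm
    have hJmax : J.IsMaximal := Ideal.isMaximal_of_isIntegral_of_isMaximal_comap (R := S) J
      (hcomap ▸ IsLocalRing.maximalIdeal.isMaximal S)
    exact Ring.jacobson_le_of_isMaximal J hx
  · rw [Ring.jacobson_eq_sInf_isMaximal]
    apply le_sInf
    intro n hn
    have hnm : n.IsMaximal := hn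
    have h1 := Ideal.isMaximal_comap_of_isIntegral_of_isMaximal (R := S) n
    have h2 := IsLocalRing.eq_maximalIdeal h1
    rw [Ideal.map_le_iff_le_comap, h2]

end Groth.Agent.Lib.RInv4
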