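import Mathlib

/-!
# Two-dimensional etale algebras over a field (helper6)
-/

set_option autoImplicit false
universe u v

open TensorProduct

namespace Groth.Agent.Lib.RInv5

/-- a nontrivial idempotent in a 2-dimensional algebra over a field splits it as `k × k` -/
theorem nonempty_equiv_prod_of_idempotent {k : Type u} {A : Type v} [Field k] [CommRing A]
    [Algebra k A] [Module.Finite k A] (h2 : Module.finrank k A = 2) (e : A) (he : e * e = e)
    (he0 : e ≠ 0) (he1 : e ≠ 1) : Nonempty (A ≃ₐ[k] k × k) := by
  obtain ⟨ψL, hψL⟩ : ∃ ψL : k × k →ₗ[k] A, ψL =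
      (LinearMap.toSpanSingleton k A e).coprod (LinearMap.toSpanSingleton k A (1 - e)) := ⟨_, rfl⟩
  have hψ : ∀ p : k × k, ψL p = p.1 • e + p.2 • (1 - e) := by
    intro p; rw [hψL]; simp [LinearMap.coprod_apply]
  have h1e : (1 - e) * (1 - e) = 1 - e := by ring_nf; rw [sq, he]; ring
  have he1e : e * (1 - e) = 0 := by rw [mul_sub, mul_one, he, sub_self]
  have h1e0 : 1 - e ≠ 0 := fun h => he1 (sub_eq_zero.mp h).symm
  obtain ⟨ψ, hψA⟩ : ∃ ψ : k × k →ₐ[k] A, ∀ p, ψ p = ψL p := by
    refine ⟨AlgHom.ofLinearMap ψL ?_ ?_, fun p => rfl⟩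
    · rw [hψ]; simp
    · intro p q
      rw [hψ, hψ, hψ]
      simp only [Prod.fst_mul, Prod.snd_mul, Algebra.smul_def, map_mul]
      linear_combination (-(algebraMap k A p.1 * algebraMap k A q.1)) * he
        - (algebraMap k A p.2 * algebraMap k A q.2) * h1e
        - (algebraMap k A p.1 * algebraMap k A q.2 + algebraMap k A p.2 * algebraMap k A q.1)
          * he1e
        + (algebraMap k A p.2 * algebraMap k A q.2) * h1e
        - (algebraMap k A p.2 * algebraMap k A q.2) * h1e
  have hinj : Function.Injective ψL := by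
    rw [← LinearMap.ker_eq_bot, LinearMap.ker_eq_bot']
    intro p hp
    rw [hψ] at hp
    have h3 : p.1 • e = 0 := by
      have := congrArg (fun z => z * e) hp
      simp only [add_mul, smul_mul_assoc, zero_mul] at this
      rw [he, mul_comm (1 - e) e, he1e, smul_zero, add_zero] at this
      exact this
    have h4 : p.2 • (1 - e) = 0 := by
      have := congrArg (fun z => z * (1 - e)) hp
      simp only [add_mul, smul_mul_assoc, zero_mul] at this
      rw [h1e, he1e, smul_zero, zero_add] at this
      exact this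
    have h5 : p.1 = 0 := (smul_eq_zero.mp h3).resolve_right he0
    have h6 : p.2 = 0 := (smul_eq_zero.mp h4).resolve_right h1e0
    exact Prod.ext h5 h6
  have hfr : Module.finrank k (k × k) = Module.finrank k A := by
    rw [h2, Module.finrank_prod, Module.finrank_self]
  have hsurj : Function.Surjective ψL :=
    (LinearMap.injective_iff_surjective_of_finrank_eq_finrank hfr).mp hinj
  have hbij : Function.Bijective ψ := by
    constructor
    · intro p q hpq; rw [hψA, hψA] at hpq; exact hinj hpq
    · intro a; obtain ⟨p, hp⟩ := hsurj a; exact ⟨p, by rw [hψA, hp]⟩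
  exact ⟨(AlgEquiv.ofBijective ψ hbij).symm⟩

/-- a 2-dimensional unramified algebra over a field is a separable field extension or `k × k` -/
theorem isField_or_equiv_prod {k : Type u} {A : Type v} [Field k] [CommRing A] [Algebra k A]
    [Algebra.FormallyUnramified k A] [Module.Finite k A] (h2 : Module.finrank k A = 2) :
    (IsField A ∧ Algebra.IsSeparable k A) ∨ Nonempty (A ≃ₐ[k] k × k) := by
  have hnt : Nontrivial A := Module.nontrivial_of_finrank_pos (R := k) (by omega)
  have hred : IsReduced A := Algebra.FormallyUnramified.isReduced_of_field k A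
  by_cases hf : IsField A
  · left
    refine ⟨hf, ?_⟩
    letI := hf.toField
    exact Algebra.FormallyUnramified.isSeparable k A
  · right
    have hx : ∃ x : A, x ≠ 0 ∧ ¬ IsUnit x := by
      by_contra hcon
      push_neg at hcon
      apply hf
      exact ⟨⟨0, 1, zero_ne_one⟩, mul_comm, fun {a} ha => (hcon a ha).exists_right_inv⟩
    obtain ⟨x, hx0, hxu⟩ := hx
    -- the ideal xA as a subspace
    obtain ⟨V, hV⟩ : ∃ V : Submodule k A, V = LinearMap.range (LinearMap.mulLeft k x) := ⟨_, rfl⟩
    have hxV : x ∈ V := by rw [hV]; exact ⟨1, by simp⟩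
    have hxxV : x * x ∈ V := by rw [hV]; exact ⟨x, by simp⟩
    have hVtop : V < ⊤ := by
      rw [lt_top_iff_ne_top]
      intro htop
      have : (1 : A) ∈ V := by rw [htop]; trivial
      rw [hV] at this
      obtain ⟨y, hy⟩ := this
      simp only [LinearMap.mulLeft_apply] at hy
      exact hxu (IsUnit.of_mul_eq_one y hy)
    have hlt : Module.finrank k V < 2 := by
      rw [← h2]; exact Submodule.finrank_lt hVtop.ne
    have hpos : 0 < Module.finrank k V := by
      rw [Module.finrank_pos_iff_exists_ne_zero]
      exact ⟨⟨x, hxV⟩, fun h => hx0 (congrArg Subtype.val h)⟩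
    have hone : Module.finrank k V = 1 := by omega
    have hxne : (⟨x, hxV⟩ : V) ≠ 0 := fun h => hx0 (congrArg Subtype.val h)
    obtain ⟨b, hb⟩ := (finrank_eq_one_iff_of_nonzero' (⟨x, hxV⟩ : V) hxne).mp hone ⟨x * x, hxxV⟩
    have hb' : b • x = x * x := congrArg Subtype.val hb
    have hb0 : b ≠ 0 := by
      intro h0
      rw [h0, zero_smul] at hb'
      have : IsNilpotent x := ⟨2, by rw [sq, ← hb']⟩
      exact hx0 this.eq_zero
    refine nonempty_equiv_prod_of_idempotent h2 (b⁻¹ • x) ?_ ?_ ?_
    · rw [smul_mul_smul_comm, ← hb', smul_smul]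
      rw [inv_mul_cancel_right₀ hb0]
    · intro h
      rcases smul_eq_zero.mp h with h | h
      · exact hb0 (inv_eq_zero.mp h)
      · exact hx0 h
    · intro h
      apply hxu
      have : x = b • (1 : A) := by
        rw [← h, smul_smul, mul_inv_cancel₀ hb0, one_smul]
      rw [this, Algebra.smul_def, mul_one]
      exact (isUnit_iff_ne_zero.mpr hb0).map _

end Groth.Agent.Lib.RInv5
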