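import Mathlib
import Groth.Prelude
import Groth.Agent.Lib.RLS4_helper5

/-!
# The chart maps of `r_{L,u}` are isomorphisms when `L` is relatively ample and `u` is bijective
(helper5).  APPEND-ONLY once landed.
-/

set_option autoImplicit false
universe u
open CategoryTheory CategoryTheory.Limits AlgebraicGeometry TopologicalSpace Opposite
open scoped HomogeneousIdeal

noncomputable section

namespace Groth.Agent.RLS

open QcqsLoc QCohExtn QCAlgMod GenLocH8 TensH8 Groth.Agent.PBProj Groth.Agent.LineChart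
  Groth.Agent.RelProjTN Groth.Agent.ProjQ HomogeneousLocalization

section Abs
variable {A B σ τ : Type u} [CommRing A] [SetLike σ A] [AddSubgroupClass σ A] [CommRing B]
  [SetLike τ B] [AddSubgroupClass τ B] {𝒜 : ℕ → σ} [GradedRing 𝒜] {ℬ : ℕ → τ} [GradedRing ℬ]

/-- A graded homomorphism whose kernel is killed by powers of `s` and whose image contains
`ψ(s)^N t` for every homogeneous `t` of degree a multiple of `deg s` induces a bijection on the
degree-zero localizations at `s`. -/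
theorem away_map_bijective_of_kill_extend (ψ : 𝒜 →+*ᵍ ℬ) {i : ℕ} (s : A) (hs : s ∈ 𝒜 i)
    (hinj : ∀ (n : ℕ) (a : A), a ∈ 𝒜 n → ψ a = 0 → ∃ N : ℕ, s ^ N * a = 0)
    (hsurj : ∀ (k : ℕ) (t : B), t ∈ ℬ (k • i) →
      ∃ (N : ℕ) (a : A), a ∈ 𝒜 ((k + N) • i) ∧ ψ a = ψ s ^ N * t) :
    Function.Bijective (Away.map ψ s) := by
  constructor
  · rw [injective_iff_map_eq_zero]
    intro x hx
    obtain ⟨n, a, ha, rfl⟩ := Away.mk_surjective 𝒜 hs x
    rw [Away.map_mk, HomogeneousLocalization.ext_iff_val, Away.val_mk,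
      HomogeneousLocalization.val_zero, Localization.mk_eq_mk', IsLocalization.mk'_eq_zero_iff] at hx
    obtain ⟨⟨_, m, rfl⟩, hm⟩ := hx
    simp only at hm
    have h1 : ψ (s ^ m * a) = 0 := by
      rw [map_mul, map_pow]
      exact hm
    have hdeg : s ^ m * a ∈ 𝒜 (m • i + n • i) :=
      SetLike.mul_mem_graded (SetLike.pow_mem_graded m hs) ha
    obtain ⟨N, hN⟩ := hinj _ _ hdeg h1
    rw [HomogeneousLocalization.ext_iff_val, Away.val_mk, HomogeneousLocalization.val_zero,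
      Localization.mk_eq_mk', IsLocalization.mk'_eq_zero_iff]
    refine ⟨⟨s ^ (N + m), _, rfl⟩, ?_⟩
    show s ^ (N + m) * a = 0
    rw [pow_add, mul_assoc]
    exact hN
  · intro x
    obtain ⟨n, b, hb, rfl⟩ := Away.mk_surjective ℬ (ψ.2 hs) x
    obtain ⟨N, a, ha, hab⟩ := hsurj n b hb
    refine ⟨Away.mk 𝒜 hs (n + N) a ha, ?_⟩
    rw [Away.map_mk, HomogeneousLocalization.ext_iff_val, Away.val_mk, Away.val_mk,
      Localization.mk_eq_mk_iff, Localization.r_iff_exists]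
    refine ⟨1, ?_⟩
    simp only [OneMemClass.coe_one, one_mul]
    rw [hab, pow_add]
    show ψ s ^ n * (ψ s ^ N * b) = ψ s ^ n * ψ s ^ N * b
    ring

end Abs

section H
variable {X Y : Scheme.{u}} (f : X ⟶ Y) (𝒮L : RelProj.QCGrAlg X) (𝒜 : RelProj.QCGrAlg Y)
  (u : RelProj.QGrHom f 𝒜 𝒮L)

theorem gradedAt_eq (U : Y.Opens) (hU : IsAffineOpen U) (W : X.Opens) (hW : IsAffineOpen W)
    (hle : W ≤ f ⁻¹ᵁ U) (b : 𝒜.presheaf.obj (op U)) :
    u.gradedAt U hU W hW hle b = (𝒮L.presheaf.map (homOfLE hle).op).hom ((u.app U).hom b) := rfl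

/-- A homogeneous section of `Sym(L)` over `f⁻¹U` has a homogeneous preimage under a surjective
`u`. -/
theorem exists_homogeneous_preimage (U : Y.Opens) (hU : IsAffineOpen U)
    (hsurj : Function.Surjective (u.app U).hom) (n : ℕ) (τ : Γ(degMod 𝒮L n, f ⁻¹ᵁ U)) :
    ∃ b ∈ 𝒜.deg U hU n,
      (u.app U).hom b = toB 𝒮L.toQCAlg (ap (degι 𝒮L n) (f ⁻¹ᵁ U) τ) := by
  obtain ⟨b₀, hb₀⟩ := hsurj (toB 𝒮L.toQCAlg (ap (degι 𝒮L n) (f ⁻¹ᵁ U) τ))
  refine ⟨(DirectSum.decompose (𝒜.deg U hU) b₀ n : 𝒜.presheaf.obj (op U)), SetLike.coe_mem _, ?_⟩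
  have key : ofB 𝒮L.toQCAlg ((u.app U).hom
        (DirectSum.decompose (𝒜.deg U hU) b₀ n : 𝒜.presheaf.obj (op U))) =
      ofB 𝒮L.toQCAlg (toB 𝒮L.toQCAlg (ap (degι 𝒮L n) (f ⁻¹ᵁ U) τ)) := by
    apply eq_of_cover (F := 𝒮L.toModule)
    intro x hx
    obtain ⟨W, hW, hxW, hWV⟩ := Opens.isBasis_iff_nbhd.mp X.isBasis_affineOpens hx
    have hWaff : IsAffineOpen W := hW
    refine ⟨W, hWV, hxW, ?_⟩
    show (𝒮L.presheaf.map (homOfLE hWV).op).hom ((u.app U).hom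
        (DirectSum.decompose (𝒜.deg U hU) b₀ n : 𝒜.presheaf.obj (op U))) =
      (𝒮L.presheaf.map (homOfLE hWV).op).hom
        (toB 𝒮L.toQCAlg (ap (degι 𝒮L n) (f ⁻¹ᵁ U) τ))
    rw [← gradedAt_eq f 𝒮L 𝒜 u U hU W hWaff hWV, GradedRingHom.map_directSumDecompose,
      gradedAt_eq, hb₀, res_toB_ap]
    exact DirectSum.decompose_of_mem_same (ℳ := 𝒮L.deg W hWaff) (degι_mem 𝒮L n W hWaff _)
  exact key

end H

section Bij
variable {X Y : Scheme.{u}} (f : X ⟶ Y) (L : X.Modules) [L.IsQuasicoherent]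
  (𝒮L : RelProj.QCGrAlg X) (j : L ⟶ 𝒮L.toModule) (hj : RelProj.IsGrSymAlg L 𝒮L j)
  (𝒜 : RelProj.QCGrAlg Y) (u : RelProj.QGrHom f 𝒜 𝒮L)

include hj in
/-- **The chart ring map is bijective**: if `f⁻¹U` is quasi-compact and quasi-separated, `u` is
bijective over `U`, and the affine open `O ⊆ f⁻¹U` is the locus of `u(a)`, then
`𝒜(U)_(a) ⟶ Sym(L)(O)_(u a)` is bijective. -/
theorem away_map_bijective (hL : PicF.IsInvertible L) (U : Y.Opens) (hU : IsAffineOpen U)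
    (hc : IsCompact ((f ⁻¹ᵁ U : X.Opens) : Set X))
    (hqs : IsQuasiSeparated ((f ⁻¹ᵁ U : X.Opens) : Set X))
    (hu : Function.Bijective (u.app U).hom) {d : ℕ} (a : 𝒜.presheaf.obj (op U))
    (ha : a ∈ 𝒜.deg U hU d) (O : X.Opens) (hO : IsAffineOpen O) (hle : O ≤ f ⁻¹ᵁ U)
    (hloc : HasLocus (degFrame L 𝒮L j hj d) (secOf f 𝒮L 𝒜 u U hU d a ha) O) :
    Function.Bijective (Away.map (u.gradedAt U hU O hO hle) a) := by
  have hσ := secOf_spec f 𝒮L 𝒜 u U hU d a ha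
  refine away_map_bijective_of_kill_extend (u.gradedAt U hU O hO hle) a ha ?_ ?_
  · intro n b hb hb0
    rw [gradedAt_eq] at hb0
    obtain ⟨N, hN⟩ := exists_pow_mul_eq_zero L 𝒮L j hj hL hc (secOf f 𝒮L 𝒜 u U hU d a ha) hle hloc
      ((u.app U).hom b) hb0
    refine ⟨N, ?_⟩
    rw [hσ, ← map_pow, ← map_mul] at hN
    exact hu.1 (hN.trans (map_zero _).symm)
  · intro k t ht
    obtain ⟨τ, hτ⟩ := exists_of_mem 𝒮L (k • d) O hO t ht
    obtain ⟨N, y, hy⟩ := exists_extend_mul L 𝒮L j hj hL hc hqs (secOf f 𝒮L 𝒜 u U hU d a ha) hle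
      hloc (k • d) τ
    obtain ⟨b, hb, hby⟩ := exists_homogeneous_preimage f 𝒮L 𝒜 u U hU hu.2 _ y
    have e : d * N + k • d = (k + N) • d := by
      simp only [smul_eq_mul]; ring
    refine ⟨N, b, e ▸ hb, ?_⟩
    rw [gradedAt_eq, gradedAt_eq, hby, hy, hσ, hτ]

end Bij

end Groth.Agent.RLS
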