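import Mathlib
import Groth.Prelude
import Groth.Agent.Lib.RLS5_helper5
import Groth.Agent.Lib.RelProj_helper3

/-!
# If `L` is relatively ample and `u : 𝒜 ⟶ f_* Sym(L)` is bijective, `r_{L,u}` is an everywhere
defined dominant open immersion (helper5).  APPEND-ONLY once landed.
-/

set_option autoImplicit false
universe u
open CategoryTheory CategoryTheory.Limits AlgebraicGeometry TopologicalSpace Opposite
open scoped HomogeneousIdeal

noncomputable section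

namespace Groth.Agent.RLS

open QcqsLoc QCohExtn QCAlgMod GenLocH8 TensH8 Groth.Agent.PBProj Groth.Agent.LineChart
  Groth.Agent.RelProjTN Groth.Agent.ProjQ HomogeneousLocalization

section Abs

set_option backward.isDefEq.respectTransparency false in
/-- A morphism which is an open immersion on each member of a family of open charts, such that
the preimage of the image of each chart is the chart, is an open immersion. -/
theorem isOpenImmersion_of_charts {G P : Scheme.{u}} (r : G ⟶ P)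
    (h : ∀ y : G, ∃ (C : Scheme.{u}) (c : C ⟶ G), IsOpenImmersion c ∧ y ∈ Set.range c.base ∧
      IsOpenImmersion (c ≫ r) ∧
      ∀ y' : G, r.base y' ∈ Set.range (c ≫ r).base → y' ∈ Set.range c.base) :
    IsOpenImmersion r := by
  have hinj : Function.Injective r.base := by
    intro y₁ y₂ h12
    obtain ⟨C, c, hc, ⟨z₁, hz₁⟩, hcr, hpre⟩ := h y₁
    have h1 : (c ≫ r).base z₁ = r.base y₁ := by
      rw [Scheme.Hom.comp_base, TopCat.coe_comp, Function.comp_apply, hz₁]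
    obtain ⟨z₂, hz₂⟩ := hpre y₂ ⟨z₁, h1.trans h12⟩
    have h2 : (c ≫ r).base z₂ = r.base y₂ := by
      rw [Scheme.Hom.comp_base, TopCat.coe_comp, Function.comp_apply, hz₂]
    have h3 : z₁ = z₂ := (c ≫ r).isOpenEmbedding.injective (h1.trans (h12.trans h2.symm))
    rw [← hz₁, ← hz₂, h3]
  have hopen : IsOpenMap r.base := by
    intro S hS
    rw [isOpen_iff_forall_mem_open]
    rintro _ ⟨y, hyS, rfl⟩
    obtain ⟨C, c, hc, ⟨z, hz⟩, hcr, -⟩ := h y
    refine ⟨(c ≫ r).base '' (c.base ⁻¹' S), ?_, ?_, ?_⟩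
    · rintro _ ⟨w, hw, rfl⟩
      refine ⟨c.base w, hw, ?_⟩
      rw [Scheme.Hom.comp_base, TopCat.coe_comp, Function.comp_apply]
    · exact (c ≫ r).isOpenEmbedding.isOpenMap _ (hS.preimage c.continuous)
    · refine ⟨z, ?_, ?_⟩
      · show c.base z ∈ S
        rw [hz]; exact hyS
      · rw [Scheme.Hom.comp_base, TopCat.coe_comp, Function.comp_apply, hz]
  have hemb : Topology.IsOpenEmbedding r.base :=
    .of_continuous_injective_isOpenMap r.continuous hinj hopen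
  haveI : ∀ y, IsIso (r.stalkMap y) := by
    intro y
    obtain ⟨C, c, hc, ⟨z, rfl⟩, hcr, -⟩ := h y
    haveI : IsIso (r.stalkMap (c.base z) ≫ c.stalkMap z) := by
      rw [← Scheme.Hom.stalkMap_comp]; infer_instance
    exact IsIso.of_isIso_comp_right _ (c.stalkMap z)
  exact IsOpenImmersion.of_isIso_stalkMap r hemb

end Abs

section Geo
variable {X Y P PL : Scheme.{u}} (f : X ⟶ Y) (L : X.Modules) [L.IsQuasicoherent]
  (𝒮L : RelProj.QCGrAlg X) (j : L ⟶ 𝒮L.toModule) (hj : RelProj.IsGrSymAlg L 𝒮L j)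
  (𝒜 : RelProj.QCGrAlg Y) (u : RelProj.QGrHom f 𝒜 𝒮L)

include hj in
/-- Chart data from ampleness: near every point of `f⁻¹U` there is an affine open which is the
locus of `u(a)` for a homogeneous `a ∈ 𝒜(U)` of positive degree. -/
theorem exists_chart_data (hL : PicF.IsInvertible L) (U : Y.Opens) (hU : IsAffineOpen U)
    (hamp : IsAmpleOn L (f ⁻¹ᵁ U)) (hsurj : Function.Surjective (u.app U).hom) (x : X)
    (hx : x ∈ f ⁻¹ᵁ U) :
    ∃ (d : ℕ) (_ : 0 < d) (a : 𝒜.presheaf.obj (op U)) (ha : a ∈ 𝒜.deg U hU d) (O : X.Opens),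
      IsAffineOpen O ∧ x ∈ O ∧ O ≤ f ⁻¹ᵁ U ∧
        HasLocus (degFrame L 𝒮L j hj d) (secOf f 𝒮L 𝒜 u U hU d a ha) O := by
  obtain ⟨n, σ, O, hO, hxO, hOle, hloc⟩ := hamp.2 x hx
  obtain ⟨σ', hσ'⟩ := HasLocus.change_frame hL (Frame.pow L (n + 1))
    (degFrame L 𝒮L j hj (n + 1)) σ hloc
  obtain ⟨a, ha, hua⟩ := exists_homogeneous_preimage f 𝒮L 𝒜 u U hU hsurj (n + 1) σ'
  have hsec : secOf f 𝒮L 𝒜 u U hU (n + 1) a ha = σ' := by
    apply degι_injective 𝒮L (n + 1) (f ⁻¹ᵁ U)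
    exact (secOf_spec f 𝒮L 𝒜 u U hU (n + 1) a ha).trans hua
  refine ⟨n + 1, Nat.succ_pos n, a, ha, O, hO, hxO, hOle, ?_⟩
  rw [hsec]
  exact hσ'

include hj in
/-- `u(a)` over an affine open trivialising `L`. -/
theorem gradedAt_eq_coef (U : Y.Opens) (hU : IsAffineOpen U) {d : ℕ}
    (a : 𝒜.presheaf.obj (op U)) (ha : a ∈ 𝒜.deg U hU d) (W : X.Opens) (hW : IsAffineOpen W)
    (hle : W ≤ f ⁻¹ᵁ U) (e : Γ(L, W)) (he : IsGen L W e) :
    (u.gradedAt U hU W hW hle a : 𝒮L.presheaf.obj (op W)) =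
      (𝒮L.str.app (op W)).hom
          ((degFrame L 𝒮L j hj d).coefOf (secOf f 𝒮L 𝒜 u U hU d a ha) W hle e he) *
        TT L 𝒮L j W e ^ d := by
  rw [gradedAt_eq, ← secOf_spec f 𝒮L 𝒜 u U hU d a ha]
  exact res_toB_degι L 𝒮L j hj _ W hle e he

variable {pL : PL ⟶ X}
  {chartL : ∀ (U : X.Opens) (hU : IsAffineOpen U),
    (((pL ⁻¹ᵁ U : PL.Opens) : Scheme.{u}) ≅ Proj (𝒮L.deg U hU))}
  (hPL : RelProj.IsRelProj 𝒮L pL chartL)
  {p : P ⟶ Y}
  {chart : ∀ (U : Y.Opens) (hU : IsAffineOpen U),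
    (((p ⁻¹ᵁ U : P.Opens) : Scheme.{u}) ≅ Proj (𝒜.deg U hU))}
  (hP : RelProj.IsRelProj 𝒜 p chart)
  (r : ((RelProj.domQ u pL chartL : PL.Opens) : Scheme.{u}) ⟶ P)
  (hr : RelProj.IsProjQMapOn u p chart pL chartL (RelProj.domQ u pL chartL) r)

include hj hPL in
theorem exists_zpt_mem (hL : PicF.IsInvertible L) (U : Y.Opens) (hU : IsAffineOpen U) {d : ℕ}
    (a : 𝒜.presheaf.obj (op U)) (ha : a ∈ 𝒜.deg U hU d) (O : X.Opens) (hOle : O ≤ f ⁻¹ᵁ U)
    (hloc : HasLocus (degFrame L 𝒮L j hj d) (secOf f 𝒮L 𝒜 u U hU d a ha) O) (x' : PL)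
    (hx' : pL.base x' ∈ O) :
    ∃ (W : X.Opens) (hW : IsAffineOpen W) (hle : W ≤ f ⁻¹ᵁ U) (hxW : x' ∈ pL ⁻¹ᵁ W),
      zpt pL chartL W hW x' hxW ∈
        Proj.basicOpen (𝒮L.deg W hW) (u.gradedAt U hU W hW hle a) := by
  obtain ⟨W, hW, hxW, hWO, e, he⟩ := exists_isGen_le hL (pL.base x') O hx'
  have hle : W ≤ f ⁻¹ᵁ U := hWO.trans hOle
  refine ⟨W, hW, hle, hxW, ?_⟩
  rw [gradedAt_eq_coef f L 𝒮L j hj 𝒜 u U hU a ha W hW hle e he,
    zpt_mem_basicOpen_iff L 𝒮L j hj hPL W hW e he _ d x' hxW, ← hloc W hle e he]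
  exact ⟨hx', hxW⟩

include hj hPL in
/-- **`r_{L,u}` is everywhere defined** when `L` is ample over the affine opens of `Y` and `u` is
surjective over them. -/
theorem domQ_eq_top (hL : PicF.IsInvertible L)
    (hamp : ∀ U : Y.Opens, IsAffineOpen U → IsAmpleOn L (f ⁻¹ᵁ U))
    (hu : ∀ U : Y.Opens, IsAffineOpen U → Function.Surjective (u.app U).hom) :
    RelProj.domQ u pL chartL = ⊤ := by
  rw [eq_top_iff]
  intro x' _
  obtain ⟨U, hU, hxU, -⟩ := Opens.isBasis_iff_nbhd.mp Y.isBasis_affineOpens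
    (Opens.mem_top (f.base (pL.base x')))
  have hUaff : IsAffineOpen U := hU
  obtain ⟨d, hd, a, ha, O, hO, hxO, hOle, hloc⟩ := exists_chart_data f L 𝒮L j hj 𝒜 u hL U hUaff
    (hamp U hUaff) (hu U hUaff) (pL.base x') hxU
  obtain ⟨W, hW, hle, hxW, hz⟩ := exists_zpt_mem f L 𝒮L j hj 𝒜 u hPL hL U hUaff a ha O hOle hloc
    x' hxO
  exact mem_domQ_of_mem_domOpen u x' U hUaff W hW hle hxW
    (mem_domOpen_of_mem_basicOpen _ hd ha _ hz)

include hj hPL hP hr in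
/-- A point of `G(u)` lies over the locus `O` of `u(a)` iff `r` maps it into `D_+(a)`. -/
theorem mem_iff_r_mem (hL : PicF.IsInvertible L) (U : Y.Opens) (hU : IsAffineOpen U) {d : ℕ}
    (hd : 0 < d) (a : 𝒜.presheaf.obj (op U)) (ha : a ∈ 𝒜.deg U hU d) (O : X.Opens)
    (hOle : O ≤ f ⁻¹ᵁ U)
    (hloc : HasLocus (degFrame L 𝒮L j hj d) (secOf f 𝒮L 𝒜 u U hU d a ha) O)
    (y : ((RelProj.domQ u pL chartL : PL.Opens) : Scheme.{u})) :
    pL.base y.1 ∈ O ↔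
      r.base y ∈ (RelProj.emb p chart U hU) ''ᵁ Proj.basicOpen (𝒜.deg U hU) a := by
  constructor
  · intro hy
    obtain ⟨W, hW, hle, hxW, hz⟩ := exists_zpt_mem f L 𝒮L j hj 𝒜 u hPL hL U hU a ha O hOle hloc
      y.1 hy
    exact (r_mem_iff' f 𝒮L 𝒜 u hPL hP r hr y U hU hd a ha W hW hle hxW).mpr hz
  · intro hy
    have hpU : r.base y ∈ p ⁻¹ᵁ U := by
      obtain ⟨z, -, hz⟩ := hy
      rw [← hz]
      exact mem_of_emb U hU z
    have hfx : pL.base y.1 ∈ f ⁻¹ᵁ U := by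
      have h := congrArg (fun q => q.base y) (projQMapOn_comp_p u hP hPL r hr)
      have h' : p.base (r.base y) = f.base (pL.base y.1) := h
      show f.base (pL.base y.1) ∈ U
      rw [← h']
      exact hpU
    obtain ⟨W, hW, hxW, hle, e, he⟩ := exists_isGen_le hL (pL.base y.1) (f ⁻¹ᵁ U) hfx
    have hz := (r_mem_iff' f 𝒮L 𝒜 u hPL hP r hr y U hU hd a ha W hW hle hxW).mp hy
    rw [gradedAt_eq_coef f L 𝒮L j hj 𝒜 u U hU a ha W hW hle e he,
      zpt_mem_basicOpen_iff L 𝒮L j hj hPL W hW e he _ d y.1 hxW, ← hloc W hle e he] at hz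
    exact hz.1

include hj hPL hP hr in
/-- The standard chart over `(U, O, a)`, `O` the locus of `u(a)`, has range the part of `G(u)`
over `O`. -/
theorem mem_range_c_iff (hL : PicF.IsInvertible L) (U : Y.Opens) (hU : IsAffineOpen U) {d : ℕ}
    (hd : 0 < d) (a : 𝒜.presheaf.obj (op U)) (ha : a ∈ 𝒜.deg U hU d) (O : X.Opens)
    (hO : IsAffineOpen O) (hOle : O ≤ f ⁻¹ᵁ U)
    (hloc : HasLocus (degFrame L 𝒮L j hj d) (secOf f 𝒮L 𝒜 u U hU d a ha) O)
    (y : ((RelProj.domQ u pL chartL : PL.Opens) : Scheme.{u})) :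
    y ∈ Set.range (c u pL chartL ⟨U, hU, O, hO, hOle, d, hd, a, ha⟩).base ↔
      pL.base y.1 ∈ O := by
  constructor
  · intro hy
    exact range_cP_subset u ⟨U, hU, O, hO, hOle, d, hd, a, ha⟩ y.1
      (mem_range_cP_of_c u ⟨U, hU, O, hO, hOle, d, hd, a, ha⟩ y hy)
  · intro hy
    have hyO : y.1 ∈ pL ⁻¹ᵁ O := hy
    have h1 := (mem_iff_r_mem f L 𝒮L j hj 𝒜 u hPL hP r hr hL U hU hd a ha O hOle hloc y).mp hy
    have h2 := (r_mem_iff' f 𝒮L 𝒜 u hPL hP r hr y U hU hd a ha O hO hOle hyO).mp h1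
    exact mem_range_c_of_cP u ⟨U, hU, O, hO, hOle, d, hd, a, ha⟩ y
      ((mem_range_cP_iff u ⟨U, hU, O, hO, hOle, d, hd, a, ha⟩ y.1 hyO).mpr h2)

/-- The chart map lands in `D_+(a)`. -/
theorem range_m_subset (jx : Idx f 𝒜) (z : P)
    (hz : z ∈ Set.range (m u p chart jx).base) :
    z ∈ (RelProj.emb p chart jx.U jx.hU) ''ᵁ Proj.basicOpen (𝒜.deg jx.U jx.hU) jx.f := by
  obtain ⟨w, rfl⟩ := hz
  refine ⟨(Proj.awayι (𝒜.deg jx.U jx.hU) jx.f jx.hf jx.hd).base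
    ((Spec.map (CommRingCat.ofHom
      (Away.map (u.gradedAt jx.U jx.hU jx.U' jx.hU' jx.hle) jx.f))).base w), ?_, ?_⟩
  · have key := Proj.opensRange_awayι (𝒜.deg jx.U jx.hU) jx.f jx.hf jx.hd
    rw [← key]
    exact ⟨_, rfl⟩
  · rfl

include hj hPL hP hr in
/-- **`r_{L,u}` is an open immersion** when `L` is ample over the affine opens of `Y` and `u` is
bijective over them. -/
theorem isOpenImmersion_r (hL : PicF.IsInvertible L)
    (hamp : ∀ U : Y.Opens, IsAffineOpen U → IsAmpleOn L (f ⁻¹ᵁ U))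
    (hu : ∀ U : Y.Opens, IsAffineOpen U → Function.Bijective (u.app U).hom) :
    IsOpenImmersion r := by
  apply isOpenImmersion_of_charts
  intro y
  obtain ⟨U, hU, hxU, -⟩ := Opens.isBasis_iff_nbhd.mp Y.isBasis_affineOpens
    (Opens.mem_top (f.base (pL.base y.1)))
  have hUaff : IsAffineOpen U := hU
  obtain ⟨d, hd, a, ha, O, hO, hxO, hOle, hloc⟩ := exists_chart_data f L 𝒮L j hj 𝒜 u hL U hUaff
    (hamp U hUaff) (hu U hUaff).2 (pL.base y.1) hxU
  refine ⟨C u ⟨U, hUaff, O, hO, hOle, d, hd, a, ha⟩,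
    c u pL chartL ⟨U, hUaff, O, hO, hOle, d, hd, a, ha⟩, inferInstance, ?_, ?_, ?_⟩
  · exact (mem_range_c_iff f L 𝒮L j hj 𝒜 u hPL hP r hr hL U hUaff hd a ha O hO hOle hloc y).mpr hxO
  · rw [c_comp_of_isProjQMapOn u r hr ⟨U, hUaff, O, hO, hOle, d, hd, a, ha⟩]
    have hbij := away_map_bijective f L 𝒮L j hj 𝒜 u hL U hUaff (hamp U hUaff).1
      (isQuasiSeparated_of_isAmpleOn hL (hamp U hUaff)) (hu U hUaff) a ha O hO hOle hloc
    haveI : IsIso (CommRingCat.ofHom (Away.map (u.gradedAt U hUaff O hO hOle) a)) :=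
      (ConcreteCategory.isIso_iff_bijective _).mpr hbij
    show IsOpenImmersion (Spec.map (CommRingCat.ofHom (Away.map (u.gradedAt U hUaff O hO hOle) a)) ≫
      Proj.awayι (𝒜.deg U hUaff) a ha hd ≫ RelProj.emb p chart U hUaff)
    unfold RelProj.emb
    infer_instance
  · intro y' hy'
    rw [c_comp_of_isProjQMapOn u r hr ⟨U, hUaff, O, hO, hOle, d, hd, a, ha⟩] at hy'
    have h1 := range_m_subset f 𝒮L 𝒜 u ⟨U, hUaff, O, hO, hOle, d, hd, a, ha⟩ _ hy'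
    exact (mem_range_c_iff f L 𝒮L j hj 𝒜 u hPL hP r hr hL U hUaff hd a ha O hO hOle hloc y').mpr
      ((mem_iff_r_mem f L 𝒮L j hj 𝒜 u hPL hP r hr hL U hUaff hd a ha O hOle hloc y').mpr h1)

include hj hPL hP hr in
/-- **`r_{L,u}` is dominant** when `f` is quasi-compact over the affine opens of `Y` and `u` is
injective over them. -/
theorem isDominant_r (hL : PicF.IsInvertible L)
    (hc : ∀ U : Y.Opens, IsAffineOpen U → IsCompact ((f ⁻¹ᵁ U : X.Opens) : Set X))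
    (hu : ∀ U : Y.Opens, IsAffineOpen U → Function.Injective (u.app U).hom) :
    IsDominant r := by
  haveI : IsIso pL := Groth.Agent.SymInv.isIso_pL L 𝒮L j hL hj hPL
  refine ⟨?_⟩
  rw [DenseRange, dense_iff_inter_open]
  rintro N hN ⟨w, hw⟩
  obtain ⟨U, hU', hwU, -⟩ := Opens.isBasis_iff_nbhd.mp Y.isBasis_affineOpens
    (Opens.mem_top (p.base w))
  have hU : IsAffineOpen U := hU'
  have hw' : w ∈ p ⁻¹ᵁ U := hwU
  have hz : zpt p chart U hU w hw' ∈ (RelProj.emb p chart U hU) ⁻¹ᵁ ⟨N, hN⟩ := by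
    show (RelProj.emb p chart U hU).base (zpt p chart U hU w hw') ∈ N
    rw [emb_zpt]
    exact hw
  obtain ⟨d, hd, a, ha, hza, haO⟩ :=
    Groth.Agent.ProjQLim.exists_homogeneous_basicOpen (𝒜.deg U hU) _ _ hz
  have han : ¬ IsNilpotent a :=
    (Groth.Agent.Lib.ProjNull_helper3.basicOpen_nonempty_iff (𝒜.deg U hU)
      (HomogeneousIdeal.mem_irrelevant_of_mem _ hd ha)).mp ⟨_, hza⟩
  obtain ⟨ι, _, W, hW, hWV, hcov, hgen⟩ := exists_finite_gen_cover L hL (hc U hU)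
  choose e he using hgen
  have key : ∃ i, ¬ IsNilpotent (u.gradedAt U hU (W i) (hW i) (hWV i) a) := by
    by_contra hall
    push Not at hall
    apply han
    choose k hk using hall
    refine ⟨Finset.univ.sup k, ?_⟩
    apply hu U hU
    rw [map_zero]
    have h1 := QcqsLoc.eq_of_cover (F := 𝒮L.toModule) (U := f ⁻¹ᵁ U)
      (ofB 𝒮L.toQCAlg ((u.app U).hom (a ^ Finset.univ.sup k))) 0 (fun y hy => by
        obtain ⟨i, hi⟩ := hcov y hy
        refine ⟨W i, hWV i, hi, ?_⟩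
        have h2 : QcqsLoc.rF 𝒮L.toModule (hWV i)
            (ofB 𝒮L.toQCAlg ((u.app U).hom (a ^ Finset.univ.sup k))) =
            ofB 𝒮L.toQCAlg ((u.gradedAt U hU (W i) (hW i) (hWV i) a) ^ Finset.univ.sup k) := by
          rw [← map_pow]
          rfl
        rw [h2, pow_eq_zero_of_le (Finset.le_sup (f := k) (Finset.mem_univ i)) (hk i)]
        exact (map_zero _).symm)
    exact h1
  obtain ⟨i, hi⟩ := key
  obtain ⟨cf, hcf⟩ : ∃ cf : Γ(X, W i), cf = (degFrame L 𝒮L j hj d).coefOf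
      (secOf f 𝒮L 𝒜 u U hU d a ha) (W i) (hWV i) (e i) (he i) := ⟨_, rfl⟩
  have hid := gradedAt_eq_coef f L 𝒮L j hj 𝒜 u U hU a ha (W i) (hW i) (hWV i) (e i) (he i)
  rw [← hcf] at hid
  have hcn : ¬ IsNilpotent cf := by
    intro hnil
    apply hi
    rw [hid]
    exact Commute.isNilpotent_mul_right (Commute.all _ _) (hnil.map _)
  have hne : PrimeSpectrum.basicOpen cf ≠ ⊥ := fun h =>
    hcn ((PrimeSpectrum.basicOpen_eq_bot_iff cf).mp h)
  obtain ⟨𝔭, h𝔭⟩ : ∃ 𝔭 : PrimeSpectrum Γ(X, W i), 𝔭 ∈ PrimeSpectrum.basicOpen cf := by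
    by_contra hcon
    push Not at hcon
    exact hne (Opens.ext (Set.eq_empty_of_forall_notMem hcon))
  have hx₁ : (hW i).fromSpec.base 𝔭 ∈ X.basicOpen cf := by
    have : 𝔭 ∈ (hW i).fromSpec ⁻¹ᵁ X.basicOpen cf := by
      rw [(hW i).fromSpec_preimage_basicOpen cf]; exact h𝔭
    exact this
  obtain ⟨x₁', hx₁'⟩ := pL.surjective ((hW i).fromSpec.base 𝔭)
  have hx₁W : x₁' ∈ pL ⁻¹ᵁ W i := by
    show pL.base x₁' ∈ W i
    rw [hx₁']
    exact X.basicOpen_le cf hx₁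
  have h3 : zpt pL chartL (W i) (hW i) x₁' hx₁W ∈
      Proj.basicOpen (𝒮L.deg (W i) (hW i)) (u.gradedAt U hU (W i) (hW i) (hWV i) a) := by
    rw [hid, zpt_mem_basicOpen_iff L 𝒮L j hj hPL (W i) (hW i) (e i) (he i) _ d x₁' hx₁W, hx₁']
    exact hx₁
  have hxG : x₁' ∈ RelProj.domQ u pL chartL :=
    mem_domQ_of_mem_domOpen u x₁' U hU (W i) (hW i) (hWV i) hx₁W
      (mem_domOpen_of_mem_basicOpen _ hd ha _ h3)
  obtain ⟨z', hz', hzr⟩ := (r_mem_iff' f 𝒮L 𝒜 u hPL hP r hr ⟨x₁', hxG⟩ U hU hd a ha (W i) (hW i)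
    (hWV i) hx₁W).mpr h3
  refine ⟨r.base ⟨x₁', hxG⟩, ?_, ⟨⟨x₁', hxG⟩, rfl⟩⟩
  rw [← hzr]
  exact haO hz'

end Geo

end Groth.Agent.RLS
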