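import Mathlib
import Groth.Prelude
import Groth.Agent.Lib.RLS6_helper5

/-!
# `r_{L,u}` relative to a cover of the base by affine opens; scheme-theoretic dominance (helper5).
APPEND-ONLY once landed.
-/

set_option autoImplicit false
universe u
open CategoryTheory CategoryTheory.Limits AlgebraicGeometry TopologicalSpace Opposite
open scoped HomogeneousIdeal

noncomputable section

namespace Groth.Agent.RLS

open QcqsLoc QCohExtn QCAlgMod GenLocH8 TensH8 Groth.Agent.PBProj Groth.Agent.LineChart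
  Groth.Agent.RelProjTN Groth.Agent.ProjQ HomogeneousLocalization

section Abs

/-- Injectivity of `r^♯` over the range of an open immersion `ι`, tested on a family of charts of
the source through which `r` factors over `ι`. -/
theorem app_injective_of_charts {G P S : Scheme.{u}} (r : G ⟶ P) (ι : S ⟶ P) [IsOpenImmersion ι]
    {J : Type*} (C : J → Scheme.{u}) (c : ∀ j, C j ⟶ G) (φ : ∀ j, C j ⟶ S)
    (hc : ∀ j, c j ≫ r = φ j ≫ ι)
    (hinj : ∀ x : Γ(S, ⊤), (∀ j, (φ j).appTop.hom x = 0) → x = 0) :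
    Function.Injective (r.app ι.opensRange).hom := by
  have e : (⊤ : S.Opens) ≤ ι ⁻¹ᵁ ι.opensRange := by rw [Scheme.Hom.preimage_opensRange]
  have hιinj : Function.Injective (ι.appLE ι.opensRange ⊤ e).hom := by
    haveI : IsIso (ι.app ι.opensRange) := ι.isIso_app _ le_rfl
    haveI : IsIso (homOfLE e) :=
      ⟨⟨homOfLE le_top, Subsingleton.elim _ _, Subsingleton.elim _ _⟩⟩
    haveI : IsIso (ι.appLE ι.opensRange ⊤ e) := by
      unfold Scheme.Hom.appLE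
      infer_instance
    exact ((ConcreteCategory.isIso_iff_bijective (ι.appLE ι.opensRange ⊤ e)).mp inferInstance).1
  rw [injective_iff_map_eq_zero]
  intro g hg
  apply hιinj
  rw [map_zero]
  apply hinj
  intro j
  have key : ∀ (m : C j ⟶ P) (_ : m = c j ≫ r) (e' : (⊤ : (C j).Opens) ≤ m ⁻¹ᵁ ι.opensRange),
      (m.appLE ι.opensRange ⊤ e').hom g = 0 := by
    intro m hm e'
    subst hm
    rw [Scheme.Hom.comp_appLE, CommRingCat.hom_comp, RingHom.comp_apply, hg, map_zero]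
  have h1 := Scheme.Hom.appLE_comp_appLE (φ j) ι ι.opensRange ⊤ ⊤ e le_top
  have h2 := congrArg (fun ψ => ψ.hom g) h1
  simp only [CommRingCat.hom_comp, RingHom.comp_apply] at h2
  have h3 : ((φ j).appLE ⊤ ⊤ le_top).hom = (φ j).appTop.hom := by
    rw [Scheme.Hom.appLE]
    simp
  rw [← h3, h2]
  exact key _ (hc j).symm _

/-- A finite cover of a quasi-compact open by affine opens. -/
theorem exists_finite_affine_cover {X : Scheme.{u}} {V0 : X.Opens}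
    (hV0 : IsCompact (V0 : Set X)) :
    ∃ (ι : Type u) (_ : Fintype ι) (W : ι → X.Opens), (∀ i, IsAffineOpen (W i)) ∧
      (∀ i, W i ≤ V0) ∧ ∀ y ∈ V0, ∃ i, y ∈ W i := by
  have key : ∀ x : V0, ∃ W : X.Opens, IsAffineOpen W ∧ x.1 ∈ W ∧ W ≤ V0 := by
    intro x
    obtain ⟨W, hW, hxW, hWV⟩ := Opens.isBasis_iff_nbhd.mp X.isBasis_affineOpens x.2
    exact ⟨W, hW, hxW, hWV⟩
  choose W0 hW0 hxW0 hW0V using key
  obtain ⟨Tf, hTf⟩ := hV0.elim_finite_subcover (fun x : V0 => ((W0 x : X.Opens) : Set X))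
    (fun x => (W0 x).isOpen) (fun y hy => Set.mem_iUnion.mpr ⟨⟨y, hy⟩, hxW0 ⟨y, hy⟩⟩)
  refine ⟨Tf, inferInstance, fun i => W0 i.1, fun i => hW0 i.1, fun i => hW0V i.1, ?_⟩
  intro y hy
  obtain ⟨x, hxT, hyx⟩ := Set.mem_iUnion₂.mp (hTf hy)
  exact ⟨⟨x, hxT⟩, hyx⟩

end Abs

section Geo
variable {X Y P PL : Scheme.{u}} (f : X ⟶ Y) (𝒮L : RelProj.QCGrAlg X)
  (𝒜 : RelProj.QCGrAlg Y) (u : RelProj.QGrHom f 𝒜 𝒮L)

/-- The chart ring maps `𝒜(U)_(a) ⟶ 𝒮L(W)_(u a)`, `W ⊆ f⁻¹U` affine, are jointly injective when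
`f⁻¹U` is quasi-compact and `u` is injective over `U`. -/
theorem away_jointly_injective (U : Y.Opens) (hU : IsAffineOpen U)
    (hc : IsCompact ((f ⁻¹ᵁ U : X.Opens) : Set X)) (hu : Function.Injective (u.app U).hom)
    {d : ℕ} (a : 𝒜.presheaf.obj (op U)) (ha : a ∈ 𝒜.deg U hU d)
    (x : Away (𝒜.deg U hU) a)
    (hx : ∀ (W : X.Opens) (hW : IsAffineOpen W) (hle : W ≤ f ⁻¹ᵁ U),
      Away.map (u.gradedAt U hU W hW hle) a x = 0) : x = 0 := by
  obtain ⟨n, b, hb, rfl⟩ := Away.mk_surjective (𝒜.deg U hU) ha x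
  obtain ⟨ι, _, W, hW, hWV, hcov⟩ := exists_finite_affine_cover hc
  have hm : ∀ i, ∃ m : ℕ, u.gradedAt U hU (W i) (hW i) (hWV i) a ^ m *
      u.gradedAt U hU (W i) (hW i) (hWV i) b = 0 := by
    intro i
    have h1 := hx (W i) (hW i) (hWV i)
    rw [Away.map_mk, HomogeneousLocalization.ext_iff_val, Away.val_mk,
      HomogeneousLocalization.val_zero, Localization.mk_eq_mk', IsLocalization.mk'_eq_zero_iff] at h1
    obtain ⟨⟨_, m, rfl⟩, hm⟩ := h1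
    exact ⟨m, hm⟩
  choose m hm using hm
  have h0 : (u.app U).hom (a ^ Finset.univ.sup m * b) = 0 := by
    have h1 := QcqsLoc.eq_of_cover (F := 𝒮L.toModule) (U := f ⁻¹ᵁ U)
      (ofB 𝒮L.toQCAlg ((u.app U).hom (a ^ Finset.univ.sup m * b))) 0 (fun y hy => by
        obtain ⟨i, hi⟩ := hcov y hy
        refine ⟨W i, hWV i, hi, ?_⟩
        have h2 : QcqsLoc.rF 𝒮L.toModule (hWV i)
            (ofB 𝒮L.toQCAlg ((u.app U).hom (a ^ Finset.univ.sup m * b))) =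
            ofB 𝒮L.toQCAlg (u.gradedAt U hU (W i) (hW i) (hWV i) a ^ Finset.univ.sup m *
              u.gradedAt U hU (W i) (hW i) (hWV i) b) := by
          rw [← map_pow, ← map_mul]
          rfl
        have hle : m i ≤ Finset.univ.sup m := Finset.le_sup (f := m) (Finset.mem_univ i)
        rw [h2, ← Nat.sub_add_cancel hle, pow_add, mul_assoc, hm i, mul_zero]
        exact (map_zero _).symm)
    exact h1
  have h3 : a ^ Finset.univ.sup m * b = 0 := hu (h0.trans (map_zero _).symm)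
  rw [HomogeneousLocalization.ext_iff_val, Away.val_mk, HomogeneousLocalization.val_zero,
    Localization.mk_eq_mk', IsLocalization.mk'_eq_zero_iff]
  exact ⟨⟨a ^ Finset.univ.sup m, _, rfl⟩, h3⟩

variable {pL : PL ⟶ X}
  {chartL : ∀ (U : X.Opens) (hU : IsAffineOpen U),
    (((pL ⁻¹ᵁ U : PL.Opens) : Scheme.{u}) ≅ Proj (𝒮L.deg U hU))}
  {p : P ⟶ Y}
  {chart : ∀ (U : Y.Opens) (hU : IsAffineOpen U),
    (((p ⁻¹ᵁ U : P.Opens) : Scheme.{u}) ≅ Proj (𝒜.deg U hU))}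
  (r : ((RelProj.domQ u pL chartL : PL.Opens) : Scheme.{u}) ⟶ P)
  (hr : RelProj.IsProjQMapOn u p chart pL chartL (RelProj.domQ u pL chartL) r)

include hr in
/-- `r^♯` is injective over each `D_+(a)`. -/
theorem app_injective_r (U : Y.Opens) (hU : IsAffineOpen U)
    (hc : IsCompact ((f ⁻¹ᵁ U : X.Opens) : Set X)) (hu : Function.Injective (u.app U).hom)
    {d : ℕ} (hd : 0 < d) (a : 𝒜.presheaf.obj (op U)) (ha : a ∈ 𝒜.deg U hU d) :
    Function.Injective (r.app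
      (Proj.awayι (𝒜.deg U hU) a ha hd ≫ RelProj.emb p chart U hU).opensRange).hom := by
  refine app_injective_of_charts r (Proj.awayι (𝒜.deg U hU) a ha hd ≫ RelProj.emb p chart U hU)
    (J := {W : X.Opens // IsAffineOpen W ∧ W ≤ f ⁻¹ᵁ U})
    (fun W => C u ⟨U, hU, W.1, W.2.1, W.2.2, d, hd, a, ha⟩)
    (fun W => c u pL chartL ⟨U, hU, W.1, W.2.1, W.2.2, d, hd, a, ha⟩)
    (fun W => Spec.map (CommRingCat.ofHom (Away.map (u.gradedAt U hU W.1 W.2.1 W.2.2) a)))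
    (fun W => c_comp_of_isProjQMapOn u r hr ⟨U, hU, W.1, W.2.1, W.2.2, d, hd, a, ha⟩) ?_
  intro x hx
  have h0 : (Scheme.ΓSpecIso (CommRingCat.of (Away (𝒜.deg U hU) a))).hom.hom x = 0 := by
    apply away_jointly_injective f 𝒮L 𝒜 u U hU hc hu a ha
    intro W hW hle
    have h1 := Scheme.ΓSpecIso_naturality
      (CommRingCat.ofHom (Away.map (u.gradedAt U hU W hW hle) a))
    have h2 := congrArg (fun ψ => ψ.hom x) h1
    simp only [CommRingCat.hom_comp, RingHom.comp_apply] at h2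
    have h3 := hx ⟨W, hW, hle⟩
    rw [h3, map_zero] at h2
    exact h2.symm
  have hinj : Function.Injective (Scheme.ΓSpecIso (CommRingCat.of (Away (𝒜.deg U hU) a))).hom.hom :=
    ((ConcreteCategory.isIso_iff_bijective
      (Scheme.ΓSpecIso (CommRingCat.of (Away (𝒜.deg U hU) a))).hom).mp inferInstance).1
  exact hinj (h0.trans (map_zero _).symm)

variable (hP : RelProj.IsRelProj 𝒜 p chart)

include hr in
/-- **`r_{L,u}` is scheme-theoretically dominant** when, over the members `U` of a cover of `Y` by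
affine opens, `f⁻¹U` is quasi-compact and `u` is injective. -/
theorem isSchemeTheoreticallyDominant_r (𝒰 : Set Y.Opens) (h𝒰 : ∀ U ∈ 𝒰, IsAffineOpen U)
    (hcov : ∀ y : Y, ∃ U ∈ 𝒰, y ∈ U)
    (hc : ∀ U ∈ 𝒰, IsCompact ((f ⁻¹ᵁ U : X.Opens) : Set X))
    (hu : ∀ U ∈ 𝒰, Function.Injective (u.app U).hom) :
    IsSchemeTheoreticallyDominant r := by
  rw [isSchemeTheoreticallyDominant_iff, eq_bot_iff]
  obtain ⟨I, hI⟩ : ∃ I : Type u, I = (Σ' (U : Y.Opens) (hU : U ∈ 𝒰) (d : ℕ) (_ : 0 < d)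
      (a : 𝒜.presheaf.obj (op U)), a ∈ 𝒜.deg U (h𝒰 U hU) d) := ⟨_, rfl⟩
  subst hI
  refine Scheme.IdealSheafData.le_of_iSup_eq_top
    (fun i : (Σ' (U : Y.Opens) (hU : U ∈ 𝒰) (d : ℕ) (_ : 0 < d)
      (a : 𝒜.presheaf.obj (op U)), a ∈ 𝒜.deg U (h𝒰 U hU) d) =>
      ⟨(Proj.awayι (𝒜.deg i.1 (h𝒰 i.1 i.2.1)) i.2.2.2.2.1 i.2.2.2.2.2 i.2.2.2.1 ≫
        RelProj.emb p chart i.1 (h𝒰 i.1 i.2.1)).opensRange,
        isAffineOpen_opensRange _⟩) ?_ ?_
  · rw [eq_top_iff]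
    intro w _
    obtain ⟨U, hU, hwU⟩ := hcov (p.base w)
    have hw' : w ∈ p ⁻¹ᵁ U := hwU
    obtain ⟨d, hd, a, ha, hza, -⟩ := Groth.Agent.ProjQLim.exists_homogeneous_basicOpen
      (𝒜.deg U (h𝒰 U hU)) (zpt p chart U (h𝒰 U hU) w hw') ⊤ trivial
    refine Opens.mem_iSup.mpr ⟨⟨U, hU, d, hd, a, ha⟩, ?_⟩
    have key := Proj.opensRange_awayι (𝒜.deg U (h𝒰 U hU)) a ha hd
    rw [← key] at hza
    obtain ⟨t, ht⟩ := hza
    refine ⟨t, ?_⟩
    rw [Scheme.Hom.comp_base, TopCat.coe_comp, Function.comp_apply]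
    refine (congrArg (RelProj.emb p chart U (h𝒰 U hU)).base ht).trans ?_
    exact emb_zpt U (h𝒰 U hU) w hw'
  · rintro ⟨U, hU, d, hd, a, ha⟩
    refine (r.ideal_ker_le _).trans ?_
    have h1 := app_injective_r f 𝒮L 𝒜 u r hr U (h𝒰 U hU) (hc U hU) (hu U hU) hd a ha
    intro x hx
    have hx' : (r.app (Proj.awayι (𝒜.deg U (h𝒰 U hU)) a ha hd ≫
        RelProj.emb p chart U (h𝒰 U hU)).opensRange).hom x = 0 := hx
    have h2 : x = 0 := h1 (hx'.trans (map_zero _).symm)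
    rw [h2]
    exact zero_mem _

end Geo

section Cover
variable {X Y P PL : Scheme.{u}} (f : X ⟶ Y) (L : X.Modules) [L.IsQuasicoherent]
  (𝒮L : RelProj.QCGrAlg X) (j : L ⟶ 𝒮L.toModule) (hj : RelProj.IsGrSymAlg L 𝒮L j)
  (𝒜 : RelProj.QCGrAlg Y) (u : RelProj.QGrHom f 𝒜 𝒮L)
  {pL : PL ⟶ X}
  {chartL : ∀ (U : X.Opens) (hU : IsAffineOpen U),
    (((pL ⁻¹ᵁ U : PL.Opens) : Scheme.{u}) ≅ Proj (𝒮L.deg U hU))}
  (hPL : RelProj.IsRelProj 𝒮L pL chartL)
  {p : P ⟶ Y}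
  {chart : ∀ (U : Y.Opens) (hU : IsAffineOpen U),
    (((p ⁻¹ᵁ U : P.Opens) : Scheme.{u}) ≅ Proj (𝒜.deg U hU))}
  (hP : RelProj.IsRelProj 𝒜 p chart)
  (r : ((RelProj.domQ u pL chartL : PL.Opens) : Scheme.{u}) ⟶ P)
  (hr : RelProj.IsProjQMapOn u p chart pL chartL (RelProj.domQ u pL chartL) r)
  (𝒰 : Set Y.Opens) (h𝒰 : ∀ U ∈ 𝒰, IsAffineOpen U) (hcov : ∀ y : Y, ∃ U ∈ 𝒰, y ∈ U)

include hj hPL h𝒰 hcov in
/-- `r_{L,u}` is everywhere defined, hypotheses over a cover of `Y` by affine opens. -/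
theorem domQ_eq_top' (hL : PicF.IsInvertible L)
    (hamp : ∀ U ∈ 𝒰, IsAmpleOn L (f ⁻¹ᵁ U))
    (hu : ∀ U ∈ 𝒰, Function.Surjective (u.app U).hom) :
    RelProj.domQ u pL chartL = ⊤ := by
  rw [eq_top_iff]
  intro x' _
  obtain ⟨U, hU, hxU⟩ := hcov (f.base (pL.base x'))
  have hUaff : IsAffineOpen U := h𝒰 U hU
  obtain ⟨d, hd, a, ha, O, hO, hxO, hOle, hloc⟩ := exists_chart_data f L 𝒮L j hj 𝒜 u hL U hUaff
    (hamp U hU) (hu U hU) (pL.base x') hxU
  obtain ⟨W, hW, hle, hxW, hz⟩ := exists_zpt_mem f L 𝒮L j hj 𝒜 u hPL hL U hUaff a ha O hOle hloc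
    x' hxO
  exact mem_domQ_of_mem_domOpen u x' U hUaff W hW hle hxW
    (mem_domOpen_of_mem_basicOpen _ hd ha _ hz)

include hj hPL hP hr h𝒰 hcov in
/-- `r_{L,u}` is an open immersion, hypotheses over a cover of `Y` by affine opens. -/
theorem isOpenImmersion_r' (hL : PicF.IsInvertible L)
    (hamp : ∀ U ∈ 𝒰, IsAmpleOn L (f ⁻¹ᵁ U))
    (hu : ∀ U ∈ 𝒰, Function.Bijective (u.app U).hom) :
    IsOpenImmersion r := by
  apply isOpenImmersion_of_charts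
  intro y
  obtain ⟨U, hU, hxU⟩ := hcov (f.base (pL.base y.1))
  have hUaff : IsAffineOpen U := h𝒰 U hU
  obtain ⟨d, hd, a, ha, O, hO, hxO, hOle, hloc⟩ := exists_chart_data f L 𝒮L j hj 𝒜 u hL U hUaff
    (hamp U hU) (hu U hU).2 (pL.base y.1) hxU
  refine ⟨C u ⟨U, hUaff, O, hO, hOle, d, hd, a, ha⟩,
    c u pL chartL ⟨U, hUaff, O, hO, hOle, d, hd, a, ha⟩, inferInstance, ?_, ?_, ?_⟩
  · exact (mem_range_c_iff f L 𝒮L j hj 𝒜 u hPL hP r hr hL U hUaff hd a ha O hO hOle hloc y).mpr hxO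
  · rw [c_comp_of_isProjQMapOn u r hr ⟨U, hUaff, O, hO, hOle, d, hd, a, ha⟩]
    have hbij := away_map_bijective f L 𝒮L j hj 𝒜 u hL U hUaff (hamp U hU).1
      (isQuasiSeparated_of_isAmpleOn hL (hamp U hU)) (hu U hU) a ha O hO hOle hloc
    haveI : IsIso (CommRingCat.ofHom (Away.map (u.gradedAt U hUaff O hO hOle) a)) :=
      (ConcreteCategory.isIso_iff_bijective _).mpr hbij
    show IsOpenImmersion (Spec.map (CommRingCat.ofHom (Away.map (u.gradedAt U hUaff O hO hOle) a)) ≫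
      Proj.awayι (𝒜.deg U hUaff) a ha hd ≫ RelProj.emb p chart U hUaff)
    infer_instance
  · intro y' hy'
    rw [c_comp_of_isProjQMapOn u r hr ⟨U, hUaff, O, hO, hOle, d, hd, a, ha⟩] at hy'
    have h1 := range_m_subset f 𝒮L 𝒜 u ⟨U, hUaff, O, hO, hOle, d, hd, a, ha⟩ _ hy'
    exact (mem_range_c_iff f L 𝒮L j hj 𝒜 u hPL hP r hr hL U hUaff hd a ha O hO hOle hloc y').mpr
      ((mem_iff_r_mem f L 𝒮L j hj 𝒜 u hPL hP r hr hL U hUaff hd a ha O hOle hloc y').mpr h1)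

end Cover

end Groth.Agent.RLS
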