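import Mathlib
import Groth.Prelude
import Groth.Agent.Lib.RLS7_helper5
import Groth.Agent.Lib.FrameIso_helper5
import Groth.Agent.Lib.ProjQFun_helper5
import Groth.Agent.Lib.GrTwRes_helper5

/-!
# `r^* O_P(n) ≅ L^{⊗ n}` for `r = r_{L,u}`: local frame data (helper5).
APPEND-ONLY once landed.
-/

set_option autoImplicit false
universe u
open CategoryTheory CategoryTheory.Limits AlgebraicGeometry TopologicalSpace Opposite
open scoped HomogeneousIdeal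

noncomputable section

namespace Groth.Agent.RLS

open QcqsLoc QCohExtn QCAlgMod GenLocH8 TensH8 Groth.Agent.PBProj Groth.Agent.LineChart
  Groth.Agent.RelProjTN Groth.Agent.ProjQ HomogeneousLocalization Groth.Agent.GrTw

section LF
variable {X Y P PL : Scheme.{u}} (f : X ⟶ Y) (L : X.Modules) [L.IsQuasicoherent]
  (𝒮L : RelProj.QCGrAlg X) (j : L ⟶ 𝒮L.toModule)
  (𝒜 : RelProj.QCGrAlg Y) (u : RelProj.QGrHom f 𝒜 𝒮L)
  (pL : PL ⟶ X)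
  (chartL : ∀ (U : X.Opens) (hU : IsAffineOpen U),
    (((pL ⁻¹ᵁ U : PL.Opens) : Scheme.{u}) ≅ Proj (𝒮L.deg U hU)))
  (p : P ⟶ Y)
  (chart : ∀ (U : Y.Opens) (hU : IsAffineOpen U),
    (((p ⁻¹ᵁ U : P.Opens) : Scheme.{u}) ≅ Proj (𝒜.deg U hU)))
  (r : ((RelProj.domQ u pL chartL : PL.Opens) : Scheme.{u}) ⟶ P)

/-- Index of the local frame data: two homogeneous elements of consecutive degrees over an affine
open `V` of the base, an open `W ⊆ f⁻¹V` over which `r` lands in `D_+(a₁) ∩ D_+(a₂)`, and a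
generator `e` of `L` over `W` with `u(a₂) = e · u(a₁)`. -/
structure FIx : Type u where
  V : Y.Opens
  hV : IsAffineOpen V
  D : ℕ
  hD : 0 < D
  a₁ : 𝒜.presheaf.obj (op V)
  ha₁ : a₁ ∈ 𝒜.deg V hV D
  a₂ : 𝒜.presheaf.obj (op V)
  ha₂ : a₂ ∈ 𝒜.deg V hV (D + 1)
  W : X.Opens
  hW : W ≤ f ⁻¹ᵁ V
  e : Γ(L, W)
  he : IsGen L W e
  hr₁ : ∀ y : ((RelProj.domQ u pL chartL : PL.Opens) : Scheme.{u}), pL.base y.1 ∈ W →
    r.base y ∈ (RelProj.emb p chart V hV) ''ᵁ Proj.basicOpen (𝒜.deg V hV) a₁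
  hr₂ : ∀ y : ((RelProj.domQ u pL chartL : PL.Opens) : Scheme.{u}), pL.base y.1 ∈ W →
    r.base y ∈ (RelProj.emb p chart V hV) ''ᵁ Proj.basicOpen (𝒜.deg V hV) a₂
  h₂ : (u.appLE V W hW).hom a₂ = TT L 𝒮L j W e * (u.appLE V W hW).hom a₁

variable {f L 𝒮L j 𝒜 u pL chartL p chart r}

variable (u pL chartL) in
/-- The morphism `G(u) ⟶ X`. -/
abbrev gam : ((RelProj.domQ u pL chartL : PL.Opens) : Scheme.{u}) ⟶ X :=
  (RelProj.domQ u pL chartL).ι ≫ pL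

/-- The open of `P` on which the local generator lives. -/
def FIx.Ω (k : FIx f L 𝒮L j 𝒜 u pL chartL p chart r) : P.Opens :=
  (RelProj.emb p chart k.V k.hV) ''ᵁ Proj.basicOpen (𝒜.deg k.V k.hV) k.a₁ ⊓
    (RelProj.emb p chart k.V k.hV) ''ᵁ Proj.basicOpen (𝒜.deg k.V k.hV) k.a₂

theorem FIx.Ω_le_range (k : FIx f L 𝒮L j 𝒜 u pL chartL p chart r) :
    k.Ω ≤ (RelProj.emb p chart k.V k.hV).opensRange :=
  inf_le_left.trans ((RelProj.emb p chart k.V k.hV).image_le_opensRange _)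

theorem FIx.not_mem_of_mem_Ω (k : FIx f L 𝒮L j 𝒜 u pL chartL p chart r)
    (x : ProjectiveSpectrum (𝒜.deg k.V k.hV))
    (hx : (RelProj.emb p chart k.V k.hV).base x ∈ k.Ω) :
    k.a₁ ∉ x.asHomogeneousIdeal ∧ k.a₂ ∉ x.asHomogeneousIdeal := by
  obtain ⟨⟨z₁, hz₁, h₁⟩, ⟨z₂, hz₂, h₂⟩⟩ := hx
  have e₁ := (RelProj.emb p chart k.V k.hV).isOpenEmbedding.injective h₁
  have e₂ := (RelProj.emb p chart k.V k.hV).isOpenEmbedding.injective h₂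
  subst e₁
  exact ⟨(Proj.mem_basicOpen _ _ _).mp hz₁, (Proj.mem_basicOpen _ _ _).mp (e₂ ▸ hz₂)⟩

/-- The fraction `a₂ⁿ / a₁ⁿ` on the chart. -/
def FIx.t (k : FIx f L 𝒮L j 𝒜 u pL chartL p chart r) (n : ℕ) :
    Γ(GrTwist.twist (𝒜.deg k.V k.hV) (n : ℤ), (RelProj.emb p chart k.V k.hV) ⁻¹ᵁ k.Ω) :=
  fracSecN (𝒜.deg k.V k.hV) (n : ℤ) (k.a₂ ^ n) (SetLike.pow_mem_graded n k.ha₂)
    (k.a₁ ^ n) (SetLike.pow_mem_graded n k.ha₁)
    (by push_cast [smul_eq_mul]; ring) ((RelProj.emb p chart k.V k.hV) ⁻¹ᵁ k.Ω)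
    (fun x h => (k.not_mem_of_mem_Ω x.1 x.2).1 (x.1.isPrime.mem_of_pow_mem _ h))

theorem FIx.isGen_t (k : FIx f L 𝒮L j 𝒜 u pL chartL p chart r) (n : ℕ) :
    IsGen (GrTwist.twist (𝒜.deg k.V k.hV) (n : ℤ)) ((RelProj.emb p chart k.V k.hV) ⁻¹ᵁ k.Ω)
      (k.t n) :=
  isGen_fracSecN (𝒜.deg k.V k.hV) _ _ _ _ _ _ _ _
    (fun x h => (k.not_mem_of_mem_Ω x.1 x.2).2 (x.1.isPrime.mem_of_pow_mem _ h))

variable {n : ℕ} {On : P.Modules}
  {lamn : ∀ (U : Y.Opens) (hU : IsAffineOpen U),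
    On ⟶ (Scheme.Modules.pushforward (RelProj.emb p chart U hU)).obj
      (GrTwist.twist (𝒜.deg U hU) (n : ℤ))}

theorem FIx.exists_μ (hOn : RelProj.IsRelTwist 𝒜 p chart (n : ℤ) On lamn)
    (k : FIx f L 𝒮L j 𝒜 u pL chartL p chart r) :
    ∃ μ : Γ(On, k.Ω), chartSec 𝒜 p chart (n : ℤ) On lamn k.V k.hV k.Ω μ = k.t n ∧
      IsGen On k.Ω μ :=
  exists_isGen_of_chartGen hOn k.V k.hV k.Ω k.Ω_le_range (k.t n) (k.isGen_t n)

/-- The generator of `O_P(n)` over `Ω`. -/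
def FIx.μ (hOn : RelProj.IsRelTwist 𝒜 p chart (n : ℤ) On lamn)
    (k : FIx f L 𝒮L j 𝒜 u pL chartL p chart r) : Γ(On, k.Ω) :=
  (k.exists_μ hOn).choose

theorem FIx.μ_spec (hOn : RelProj.IsRelTwist 𝒜 p chart (n : ℤ) On lamn)
    (k : FIx f L 𝒮L j 𝒜 u pL chartL p chart r) :
    chartSec 𝒜 p chart (n : ℤ) On lamn k.V k.hV k.Ω (k.μ hOn) = k.t n :=
  (k.exists_μ hOn).choose_spec.1

theorem FIx.isGen_μ (hOn : RelProj.IsRelTwist 𝒜 p chart (n : ℤ) On lamn)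
    (k : FIx f L 𝒮L j 𝒜 u pL chartL p chart r) : IsGen On k.Ω (k.μ hOn) :=
  (k.exists_μ hOn).choose_spec.2

theorem FIx.val_μ (hOn : RelProj.IsRelTwist 𝒜 p chart (n : ℤ) On lamn)
    (k : FIx f L 𝒮L j 𝒜 u pL chartL p chart r) (x : ProjectiveSpectrum (𝒜.deg k.V k.hV))
    (hx : (RelProj.emb p chart k.V k.hV).base x ∈ k.Ω)
    (ht : k.a₁ ^ n ∉ x.asHomogeneousIdeal) :
    GrTwist.val (chartSec 𝒜 p chart (n : ℤ) On lamn k.V k.hV k.Ω (k.μ hOn)) ⟨x, hx⟩ =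
      Localization.mk (k.a₂ ^ n) ⟨k.a₁ ^ n, ht⟩ := by
  rw [k.μ_spec hOn]
  rfl

variable [IsOpenImmersion r]

theorem FIx.image_le_Ω (k : FIx f L 𝒮L j 𝒜 u pL chartL p chart r) :
    r ''ᵁ ((gam u pL chartL) ⁻¹ᵁ k.W) ≤ k.Ω := by
  rintro _ ⟨y, hy, rfl⟩
  exact ⟨k.hr₁ y hy, k.hr₂ y hy⟩

theorem image_preimage_le' {A B : Scheme.{u}} (g : A ⟶ B) [IsOpenImmersion g] (W : B.Opens) :
    g ''ᵁ (g ⁻¹ᵁ W) ≤ W := by
  rintro _ ⟨y, hy, rfl⟩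
  exact hy

variable [IsOpenImmersion (gam u pL chartL)]

/-- The open of `G(u)` of the local frame datum. -/
def FIx.O (k : FIx f L 𝒮L j 𝒜 u pL chartL p chart r) :
    ((RelProj.domQ u pL chartL : PL.Opens) : Scheme.{u}).Opens :=
  (gam u pL chartL) ⁻¹ᵁ k.W

/-- The local generator of `L` restricted to `G(u)`. -/
def FIx.eG (k : FIx f L 𝒮L j 𝒜 u pL chartL p chart r) :
    Γ(L.restrict (gam u pL chartL), k.O) :=
  (show Γ(L, (gam u pL chartL) ''ᵁ k.O) from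
    rF L (image_preimage_le' (gam u pL chartL) k.W) k.e)

/-- The local generator of `O_P(n)` restricted to `G(u)`. -/
def FIx.mG (hOn : RelProj.IsRelTwist 𝒜 p chart (n : ℤ) On lamn)
    (k : FIx f L 𝒮L j 𝒜 u pL chartL p chart r) : Γ(On.restrict r, k.O) :=
  (show Γ(On, r ''ᵁ k.O) from rF On k.image_le_Ω (k.μ hOn))

theorem FIx.isGen_eG (k : FIx f L 𝒮L j 𝒜 u pL chartL p chart r) :
    IsGen (L.restrict (gam u pL chartL)) k.O k.eG :=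
  isGen_restrict (gam u pL chartL) L _ (k.he.res _)

theorem FIx.isGen_mG (hOn : RelProj.IsRelTwist 𝒜 p chart (n : ℤ) On lamn)
    (k : FIx f L 𝒮L j 𝒜 u pL chartL p chart r) :
    IsGen (On.restrict r) k.O (k.mG hOn) :=
  isGen_restrict r On _ ((k.isGen_μ hOn).res _)

/-- The algebraic relation behind the transition functions. -/
theorem FIx.hrel_aux (k l : FIx f L 𝒮L j 𝒜 u pL chartL p chart r) (D : Y.Opens)
    (hDk : D ≤ k.V) (hDl : D ≤ l.V) (ΩY : X.Opens) (hΩ : ΩY ≤ f ⁻¹ᵁ D) (hΩk : ΩY ≤ k.W)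
    (hΩl : ΩY ≤ l.W) (cY : Γ(X, ΩY)) (He : rF L hΩk k.e = cY • rF L hΩl l.e) :
    (u.appLE D ΩY hΩ).hom ((𝒜.presheaf.map (homOfLE hDk).op).hom k.a₂ *
        (𝒜.presheaf.map (homOfLE hDl).op).hom l.a₁) =
      (𝒮L.str.app (op ΩY)).hom cY *
        (u.appLE D ΩY hΩ).hom ((𝒜.presheaf.map (homOfLE hDk).op).hom k.a₁ *
          (𝒜.presheaf.map (homOfLE hDl).op).hom l.a₂) := by
  have e1 : ∀ a, (u.appLE D ΩY hΩ).hom ((𝒜.presheaf.map (homOfLE hDk).op).hom a) =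
      (𝒮L.presheaf.map (homOfLE hΩk).op).hom ((u.appLE k.V k.W k.hW).hom a) := fun a =>
    (congrArg (fun q => q.hom a) (u.toQHom.map_appLE hDk hΩ)).trans
      (congrArg (fun q => q.hom a) (u.toQHom.appLE_map k.hW hΩk)).symm
  have e2 : ∀ a, (u.appLE D ΩY hΩ).hom ((𝒜.presheaf.map (homOfLE hDl).op).hom a) =
      (𝒮L.presheaf.map (homOfLE hΩl).op).hom ((u.appLE l.V l.W l.hW).hom a) := fun a =>
    (congrArg (fun q => q.hom a) (u.toQHom.map_appLE hDl hΩ)).trans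
      (congrArg (fun q => q.hom a) (u.toQHom.appLE_map l.hW hΩl)).symm
  rw [map_mul, map_mul, e1, e1, e2, e2, k.h₂, l.h₂, map_mul, map_mul, res_T, res_T, He, T_smul]
  ring


theorem mk_congr' {R : Type*} [CommRing R] {S : Submonoid R} {b b' t t' : R} (ht : t ∈ S)
    (ht' : t' ∈ S) (hb : b = b') (htt : t = t') :
    Localization.mk b ⟨t, ht⟩ = Localization.mk b' ⟨t', ht'⟩ := by
  subst hb; subst htt; rfl

theorem mk_frac_identity {R : Type*} [CommRing R] {S : Submonoid R} (A₁ A₂ B₁ B₂ : R) (n : ℕ)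
    (h1 : A₁ * B₂ ∈ S) (h2 : B₁ ^ n ∈ S) (h3 : A₁ ^ n ∈ S) :
    (Localization.mk (A₂ * B₁) ⟨A₁ * B₂, h1⟩) ^ n * Localization.mk (B₂ ^ n) ⟨B₁ ^ n, h2⟩ =
      Localization.mk (A₂ ^ n) ⟨A₁ ^ n, h3⟩ := by
  rw [Localization.mk_pow, Localization.mk_mul, Localization.mk_eq_mk_iff,
    Localization.r_iff_exists]
  refine ⟨1, ?_⟩
  simp only [OneMemClass.coe_one, one_mul, Submonoid.coe_mul, SubmonoidClass.coe_pow]
  ring

omit [IsOpenImmersion r] [IsOpenImmersion (gam u pL chartL)] in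
theorem FIx.val_mu_basic (hP : RelProj.IsRelProj 𝒜 p chart)
    (hOn : RelProj.IsRelTwist 𝒜 p chart (n : ℤ) On lamn)
    (k : FIx f L 𝒮L j 𝒜 u pL chartL p chart r) (ρ : Γ(Y, k.V)) (D : Y.Opens)
    (hD : D = Y.basicOpen ρ) (hDaff : IsAffineOpen D) (hDk : D ≤ k.V) (N : P.Opens)
    (hN : N ≤ k.Ω) (x'' : ProjectiveSpectrum (𝒜.deg D hDaff))
    (hx'' : (RelProj.emb p chart D hDaff).base x'' ∈ N)
    (h1 : ((𝒜.presheaf.map (homOfLE hDk).op).hom k.a₁) ^ n ∉ x''.asHomogeneousIdeal) :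
    GrTwist.val (chartSec 𝒜 p chart (n : ℤ) On lamn D hDaff N (rF On hN (k.μ hOn)))
        ⟨x'', hx''⟩ =
      Localization.mk (((𝒜.presheaf.map (homOfLE hDk).op).hom k.a₂) ^ n)
        ⟨((𝒜.presheaf.map (homOfLE hDk).op).hom k.a₁) ^ n, h1⟩ := by
  rw [chartSec_rF]
  refine (val_rF _ _ _ _).trans ?_
  have h1' : (𝒜.presheaf.map (homOfLE hDk).op).hom (k.a₁ ^ n) ∉ x''.asHomogeneousIdeal := by
    rw [map_pow]; exact h1
  refine (val_chartSec_basic hOn hP k.V k.hV ρ D hD hDaff hDk k.Ω (k.μ hOn) x'' (hN hx'')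
    (k.a₂ ^ n) (k.a₁ ^ n) h1' (fun x hx ht => k.val_μ hOn x hx ht)).trans ?_
  exact mk_congr' _ _ (map_pow _ _ _) (map_pow _ _ _)


/-- **Compatibility of the local generators**: the transition functions of `r^*O_P(n)` are the
`n`-th powers of those of `L` on `G(u)`. -/
theorem FIx.compat (hP : RelProj.IsRelProj 𝒜 p chart) (hPL : RelProj.IsRelProj 𝒮L pL chartL)
    (hr : RelProj.IsProjQMapOn u p chart pL chartL (RelProj.domQ u pL chartL) r)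
    (hOn : RelProj.IsRelTwist 𝒜 p chart (n : ℤ) On lamn)
    (k l : FIx f L 𝒮L j 𝒜 u pL chartL p chart r)
    (c : Γ(((RelProj.domQ u pL chartL : PL.Opens) : Scheme.{u}), k.O ⊓ l.O))
    (H : rF (L.restrict (gam u pL chartL)) (inf_le_left : k.O ⊓ l.O ≤ k.O) k.eG =
      c • rF (L.restrict (gam u pL chartL)) (inf_le_right : k.O ⊓ l.O ≤ l.O) l.eG) :
    rF (On.restrict r) (inf_le_left : k.O ⊓ l.O ≤ k.O) (k.mG hOn) =
      c ^ n • rF (On.restrict r) (inf_le_right : k.O ⊓ l.O ≤ l.O) (l.mG hOn) := by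
  have hkW : (gam u pL chartL) ''ᵁ (k.O ⊓ l.O) ≤ k.W := by
    rintro _ ⟨y, hy, rfl⟩; exact hy.1
  have hlW : (gam u pL chartL) ''ᵁ (k.O ⊓ l.O) ≤ l.W := by
    rintro _ ⟨y, hy, rfl⟩; exact hy.2
  have hkΩ : r ''ᵁ (k.O ⊓ l.O) ≤ k.Ω := by
    rintro _ ⟨y, hy, rfl⟩; exact ⟨k.hr₁ y hy.1, k.hr₂ y hy.1⟩
  have hlΩ : r ''ᵁ (k.O ⊓ l.O) ≤ l.Ω := by
    rintro _ ⟨y, hy, rfl⟩; exact ⟨l.hr₁ y hy.2, l.hr₂ y hy.2⟩
  have H' : rF L hkW k.e = (((gam u pL chartL).appIso (k.O ⊓ l.O)).inv.hom c) • rF L hlW l.e := by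
    have e1 := rF_rF L (show (gam u pL chartL) ''ᵁ (k.O ⊓ l.O) ≤
        (gam u pL chartL) ''ᵁ ((gam u pL chartL) ⁻¹ᵁ k.W) from
          ((gam u pL chartL).opensFunctor.map (homOfLE inf_le_left)).le)
        (image_preimage_le' (gam u pL chartL) k.W) k.e
    have e2 := rF_rF L (show (gam u pL chartL) ''ᵁ (k.O ⊓ l.O) ≤
        (gam u pL chartL) ''ᵁ ((gam u pL chartL) ⁻¹ᵁ l.W) from
          ((gam u pL chartL).opensFunctor.map (homOfLE inf_le_right)).le)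
        (image_preimage_le' (gam u pL chartL) l.W) l.e
    exact e1.symm.trans (H.trans (congrArg (fun q => (((gam u pL chartL).appIso
      (k.O ⊓ l.O)).inv.hom c) • q) e2))
  have g1 := rF_rF On (show r ''ᵁ (k.O ⊓ l.O) ≤ r ''ᵁ ((gam u pL chartL) ⁻¹ᵁ k.W) from
      (r.opensFunctor.map (homOfLE inf_le_left)).le) k.image_le_Ω (k.μ hOn)
  have g2 := rF_rF On (show r ''ᵁ (k.O ⊓ l.O) ≤ r ''ᵁ ((gam u pL chartL) ⁻¹ᵁ l.W) from
      (r.opensFunctor.map (homOfLE inf_le_right)).le) l.image_le_Ω (l.μ hOn)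
  suffices hmain : rF On hkΩ (k.μ hOn) =
      ((r.appIso (k.O ⊓ l.O)).inv.hom c) ^ n • rF On hlΩ (l.μ hOn) by
    refine g1.trans (hmain.trans ?_)
    rw [← map_pow]
    exact (congrArg (fun q => ((r.appIso (k.O ⊓ l.O)).inv.hom (c ^ n)) • q) g2).symm
  apply eq_of_cover On
  rintro _ ⟨y, hy, rfl⟩
  have hcomp := projQMapOn_comp_p u hP hPL r hr
  have hpy : ∀ y' : ((RelProj.domQ u pL chartL : PL.Opens) : Scheme.{u}),
      p.base (r.base y') = f.base ((gam u pL chartL).base y') := by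
    intro y'
    exact congrArg (fun q => q.base y') hcomp
  have hk : p.base (r.base y) ∈ k.V := by rw [hpy]; exact k.hW hy.1
  have hl : p.base (r.base y) ∈ l.V := by rw [hpy]; exact l.hW hy.2
  obtain ⟨ρ, ρ', hρ, hyρ⟩ := exists_basicOpen_le_affine_inter k.hV l.hV (p.base (r.base y))
    ⟨hk, hl⟩
  obtain ⟨D, hD⟩ : ∃ D, D = Y.basicOpen ρ := ⟨_, rfl⟩
  have hD' : D = Y.basicOpen ρ' := hD.trans hρ
  have hDaff : IsAffineOpen D := hD ▸ k.hV.basicOpen ρ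
  have hDk : D ≤ k.V := hD ▸ Y.basicOpen_le ρ
  have hDl : D ≤ l.V := hD' ▸ Y.basicOpen_le ρ'
  refine ⟨r ''ᵁ (k.O ⊓ l.O) ⊓ p ⁻¹ᵁ D, inf_le_left, ⟨⟨y, hy, rfl⟩, hD ▸ hyρ⟩, ?_⟩
  rw [rF_rF, rF_smul, rF_rF, map_pow]
  apply ext_chart_val hOn D hDaff inf_le_right
  rintro ⟨x'', hx''⟩
  obtain ⟨y'', hy'', hyx⟩ := hx''.1
  have hkΩx : (RelProj.emb p chart D hDaff).base x'' ∈ k.Ω := hkΩ hx''.1
  have hlΩx : (RelProj.emb p chart D hDaff).base x'' ∈ l.Ω := hlΩ hx''.1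
  have nA1 := (emb_mem_image_basicOpen_iff hP k.V k.hV ρ D hD hDaff hDk x'' k.a₁).mp hkΩx.1
  have nB1 := (emb_mem_image_basicOpen_iff hP l.V l.hV ρ' D hD' hDaff hDl x'' l.a₁).mp hlΩx.1
  have nB2 := (emb_mem_image_basicOpen_iff hP l.V l.hV ρ' D hD' hDaff hDl x'' l.a₂).mp hlΩx.2
  have nA1n : ((𝒜.presheaf.map (homOfLE hDk).op).hom k.a₁) ^ n ∉ x''.asHomogeneousIdeal :=
    fun h => nA1 (x''.isPrime.mem_of_pow_mem _ h)
  have nB1n : ((𝒜.presheaf.map (homOfLE hDl).op).hom l.a₁) ^ n ∉ x''.asHomogeneousIdeal :=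
    fun h => nB1 (x''.isPrime.mem_of_pow_mem _ h)
  have nα : (𝒜.presheaf.map (homOfLE hDk).op).hom k.a₁ *
      (𝒜.presheaf.map (homOfLE hDl).op).hom l.a₂ ∉ x''.asHomogeneousIdeal :=
    fun h => (x''.isPrime.mem_or_mem h).elim nA1 nB2
  refine (k.val_mu_basic hP hOn ρ D hD hDaff hDk _ (inf_le_left.trans hkΩ) x'' hx'' nA1n).trans ?_
  rw [chartSec_smul, GrTw.val_smul,
    l.val_mu_basic hP hOn ρ' D hD' hDaff hDl _ (inf_le_left.trans hlΩ) x'' hx'' nB1n]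
  have hvalO : valO (𝒜.deg D hDaff) (((RelProj.emb p chart D hDaff).app
        (r ''ᵁ (k.O ⊓ l.O) ⊓ p ⁻¹ᵁ D)).hom
        (rX (inf_le_left : r ''ᵁ (k.O ⊓ l.O) ⊓ p ⁻¹ᵁ D ≤ r ''ᵁ (k.O ⊓ l.O))
          ((r.appIso (k.O ⊓ l.O)).inv.hom c))) ⟨x'', hx''⟩ =
      Localization.mk ((𝒜.presheaf.map (homOfLE hDk).op).hom k.a₂ *
        (𝒜.presheaf.map (homOfLE hDl).op).hom l.a₁)
        ⟨(𝒜.presheaf.map (homOfLE hDk).op).hom k.a₁ *
          (𝒜.presheaf.map (homOfLE hDl).op).hom l.a₂, nα⟩ := by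
    have hn := ConcreteCategory.congr_hom ((RelProj.emb p chart D hDaff).naturality
      (homOfLE (inf_le_left : r ''ᵁ (k.O ⊓ l.O) ⊓ p ⁻¹ᵁ D ≤ r ''ᵁ (k.O ⊓ l.O))).op)
      ((r.appIso (k.O ⊓ l.O)).inv.hom c)
    refine (congrArg (fun τ => valO (𝒜.deg D hDaff) τ ⟨x'', hx''⟩) hn).trans ?_
    refine (valO_rX (𝒜.deg D hDaff) ((RelProj.emb p chart D hDaff).preimage_mono
      (inf_le_left : r ''ᵁ (k.O ⊓ l.O) ⊓ p ⁻¹ᵁ D ≤ r ''ᵁ (k.O ⊓ l.O))) _ ⟨x'', hx''⟩).trans ?_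
    have hQP : (k.O ⊓ l.O) ⊓ (gam u pL chartL) ⁻¹ᵁ (f ⁻¹ᵁ D) ≤ r ⁻¹ᵁ (r ''ᵁ (k.O ⊓ l.O)) :=
      fun z hz => ⟨z, hz.1, rfl⟩
    have hQY : (k.O ⊓ l.O) ⊓ (gam u pL chartL) ⁻¹ᵁ (f ⁻¹ᵁ D) ≤
        (gam u pL chartL) ⁻¹ᵁ ((gam u pL chartL) ''ᵁ (k.O ⊓ l.O) ⊓ f ⁻¹ᵁ D) :=
      fun z hz => ⟨⟨z, hz.1, rfl⟩, hz.2⟩
    have hQY' : (gam u pL chartL) ⁻¹ᵁ ((gam u pL chartL) ''ᵁ (k.O ⊓ l.O) ⊓ f ⁻¹ᵁ D) ≤
        (k.O ⊓ l.O) ⊓ (gam u pL chartL) ⁻¹ᵁ (f ⁻¹ᵁ D) := by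
      rintro z ⟨⟨z', hz', e⟩, h2⟩
      have : z' = z := (gam u pL chartL).isOpenEmbedding.injective e
      subst this
      exact ⟨hz', h2⟩
    have hyQ : y'' ∈ (k.O ⊓ l.O) ⊓ (gam u pL chartL) ⁻¹ᵁ (f ⁻¹ᵁ D) := by
      refine ⟨hy'', ?_⟩
      show f.base ((gam u pL chartL).base y'') ∈ D
      rw [← hpy]
      have e : p.base (r.base y'') = p.base ((RelProj.emb p chart D hDaff).base x'') :=
        congrArg p.base hyx
      rw [e]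
      exact hx''.2
    have He : rF L ((inf_le_left : (gam u pL chartL) ''ᵁ (k.O ⊓ l.O) ⊓ f ⁻¹ᵁ D ≤ _).trans hkW)
        k.e = rX (inf_le_left : (gam u pL chartL) ''ᵁ (k.O ⊓ l.O) ⊓ f ⁻¹ᵁ D ≤ _)
          (((gam u pL chartL).appIso (k.O ⊓ l.O)).inv.hom c) •
        rF L ((inf_le_left : (gam u pL chartL) ''ᵁ (k.O ⊓ l.O) ⊓ f ⁻¹ᵁ D ≤ _).trans hlW) l.e := by
      have := congrArg (rF L (inf_le_left : (gam u pL chartL) ''ᵁ (k.O ⊓ l.O) ⊓ f ⁻¹ᵁ D ≤ _)) H'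
      rwa [rF_rF, rF_smul, rF_rF] at this
    have hrel := k.hrel_aux l D hDk hDl ((gam u pL chartL) ''ᵁ (k.O ⊓ l.O) ⊓ f ⁻¹ᵁ D) inf_le_right
      (inf_le_left.trans hkW) (inf_le_left.trans hlW) _ He
    have hα : (𝒜.presheaf.map (homOfLE hDk).op).hom k.a₁ *
        (𝒜.presheaf.map (homOfLE hDl).op).hom l.a₂ ∈ 𝒜.deg D hDaff (k.D + l.D + 1) := by
      have h := SetLike.mul_mem_graded (𝒜.map_mem k.hV hDaff hDk k.ha₁)
        (𝒜.map_mem l.hV hDaff hDl l.ha₂)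
      rwa [show k.D + (l.D + 1) = k.D + l.D + 1 by ring] at h
    have hβ : (𝒜.presheaf.map (homOfLE hDk).op).hom k.a₂ *
        (𝒜.presheaf.map (homOfLE hDl).op).hom l.a₁ ∈ 𝒜.deg D hDaff (k.D + l.D + 1) := by
      have h := SetLike.mul_mem_graded (𝒜.map_mem k.hV hDaff hDk k.ha₂)
        (𝒜.map_mem l.hV hDaff hDl l.ha₁)
      rwa [show k.D + 1 + l.D = k.D + l.D + 1 by ring] at h
    have hc : (r.appLE (r ''ᵁ (k.O ⊓ l.O)) ((k.O ⊓ l.O) ⊓ (gam u pL chartL) ⁻¹ᵁ (f ⁻¹ᵁ D))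
          hQP).hom ((r.appIso (k.O ⊓ l.O)).inv.hom c) =
        ((gam u pL chartL).appLE ((gam u pL chartL) ''ᵁ (k.O ⊓ l.O) ⊓ f ⁻¹ᵁ D)
          ((k.O ⊓ l.O) ⊓ (gam u pL chartL) ⁻¹ᵁ (f ⁻¹ᵁ D)) hQY).hom
          (rX (inf_le_left : (gam u pL chartL) ''ᵁ (k.O ⊓ l.O) ⊓ f ⁻¹ᵁ D ≤ _)
            (((gam u pL chartL).appIso (k.O ⊓ l.O)).inv.hom c)) := by
      have e1 := congrArg (fun q => q.hom c) (Scheme.Hom.appIso_inv_appLE r (U := k.O ⊓ l.O)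
        (V := (k.O ⊓ l.O) ⊓ (gam u pL chartL) ⁻¹ᵁ (f ⁻¹ᵁ D)) hQP)
      have e2 := Scheme.Hom.map_appLE (gam u pL chartL) hQY
        (homOfLE (inf_le_left : (gam u pL chartL) ''ᵁ (k.O ⊓ l.O) ⊓ f ⁻¹ᵁ D ≤
          (gam u pL chartL) ''ᵁ (k.O ⊓ l.O))).op
      have e3 := congrArg (fun q => q.hom c) (Scheme.Hom.appIso_inv_appLE (gam u pL chartL)
        (U := k.O ⊓ l.O) (V := (k.O ⊓ l.O) ⊓ (gam u pL chartL) ⁻¹ᵁ (f ⁻¹ᵁ D))
        (hQY.trans ((gam u pL chartL).preimage_mono inf_le_left)))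
      refine e1.trans (e3.symm.trans ?_)
      exact (congrArg (fun q => q.hom (((gam u pL chartL).appIso (k.O ⊓ l.O)).inv.hom c)) e2).symm
    exact valO_projQMapOn u hPL r hr D hDaff (Nat.succ_pos (k.D + l.D)) _ _ hα hβ
      ((k.O ⊓ l.O) ⊓ (gam u pL chartL) ⁻¹ᵁ (f ⁻¹ᵁ D)) (r ''ᵁ (k.O ⊓ l.O))
      ((gam u pL chartL) ''ᵁ (k.O ⊓ l.O) ⊓ f ⁻¹ᵁ D) hQP hQY hQY' _ _ hc inf_le_right hrel
      y'' hyQ x'' hyx.symm nα hx''.1
  have hpow : ((RelProj.emb p chart D hDaff).app (r ''ᵁ (k.O ⊓ l.O) ⊓ p ⁻¹ᵁ D)).hom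
      (rX (inf_le_left : r ''ᵁ (k.O ⊓ l.O) ⊓ p ⁻¹ᵁ D ≤ r ''ᵁ (k.O ⊓ l.O))
          ((r.appIso (k.O ⊓ l.O)).inv.hom c) ^ n) =
      (((RelProj.emb p chart D hDaff).app (r ''ᵁ (k.O ⊓ l.O) ⊓ p ⁻¹ᵁ D)).hom
      (rX (inf_le_left : r ''ᵁ (k.O ⊓ l.O) ⊓ p ⁻¹ᵁ D ≤ r ''ᵁ (k.O ⊓ l.O))
          ((r.appIso (k.O ⊓ l.O)).inv.hom c))) ^ n := map_pow _ _ _
  rw [hpow, Groth.Agent.GrTi.valO_pow, hvalO]
  exact (mk_frac_identity _ _ _ _ n nα nB1n nA1n).symm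


omit [IsOpenImmersion r] [IsOpenImmersion (gam u pL chartL)] in
/-- Over an affine open, an invertible quasi-coherent module has a section generating it near a
given point. -/
theorem exists_gen_section (hL : PicF.IsInvertible L) (O : X.Opens) (hO : IsAffineOpen O) (ξ : X)
    (hξ : ξ ∈ O) :
    ∃ (t : Γ(L, O)) (W : X.Opens) (hW : W ≤ O), IsAffineOpen W ∧ ξ ∈ W ∧
      IsGen L W (rF L hW t) := by
  obtain ⟨g, hξg, e, he⟩ := exists_basic_gen L hL O hO ξ hξ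
  obtain ⟨n₀, t, ht⟩ := Groth.Agent.Lib.QCohLoc_helper4.exists_res_eq_pow_smul L hO g e
  refine ⟨t, X.basicOpen g, X.basicOpen_le g, hO.basicOpen g, hξg, ?_⟩
  have h1 : rF L (X.basicOpen_le g) t = ((rX (X.basicOpen_le g) g) ^ n₀) • e := ht
  rw [h1]
  exact isGen_smul_of_isUnit he ((X.toRingedSpace.isUnit_res_basicOpen g).pow n₀)


omit [IsOpenImmersion r] [IsOpenImmersion (gam u pL chartL)] in
/-- **The local frame data cover `G(u)`**, when `L` is ample over the affine opens of `Y` and `u`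
is surjective over them. -/
theorem exists_FIx (hj : RelProj.IsGrSymAlg L 𝒮L j) (hPL : RelProj.IsRelProj 𝒮L pL chartL)
    (hP : RelProj.IsRelProj 𝒜 p chart)
    (hr : RelProj.IsProjQMapOn u p chart pL chartL (RelProj.domQ u pL chartL) r)
    (hL : PicF.IsInvertible L)
    (hamp : ∀ U : Y.Opens, IsAffineOpen U → IsAmpleOn L (f ⁻¹ᵁ U))
    (hu : ∀ U : Y.Opens, IsAffineOpen U → Function.Surjective (u.app U).hom)
    (y : ((RelProj.domQ u pL chartL : PL.Opens) : Scheme.{u})) :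
    ∃ k : FIx f L 𝒮L j 𝒜 u pL chartL p chart r, (gam u pL chartL).base y ∈ k.W := by
  obtain ⟨V, hV, hxV, -⟩ := Opens.isBasis_iff_nbhd.mp Y.isBasis_affineOpens
    (Opens.mem_top (f.base (pL.base y.1)))
  have hVaff : IsAffineOpen V := hV
  obtain ⟨d, hd, a, ha, O, hO, hxO, hOle, hloc⟩ := exists_chart_data f L 𝒮L j hj 𝒜 u hL V hVaff
    (hamp V hVaff) (hu V hVaff) (pL.base y.1) hxV
  obtain ⟨t, W, hWO, hWaff, hξW, hgen⟩ := exists_gen_section (L := L) hL O hO (pL.base y.1) hxO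
  obtain ⟨N, y', hy'⟩ := exists_extend_mul L 𝒮L j hj hL (hamp V hVaff).1
    (isQuasiSeparated_of_isAmpleOn hL (hamp V hVaff)) (secOf f 𝒮L 𝒜 u V hVaff d a ha) hOle hloc 1
    (powSec L 𝒮L j hj 1 O t)
  haveI := isQuasicoherent_degMod 𝒮L (d * N + 1)
  obtain ⟨b, hb, hby⟩ := exists_homogeneous_preimage f 𝒮L 𝒜 u V hVaff (hu V hVaff) _ y'
  have hW : W ≤ f ⁻¹ᵁ V := hWO.trans hOle
  have hrelb : (u.appLE V W hW).hom b =
      ((u.appLE V W hW).hom a) ^ N * TT L 𝒮L j W (rF L hWO t) := by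
    rw [← hby, secOf_spec, powSec_spec, pow_one] at hy'
    have h1 := congrArg (𝒮L.presheaf.map (homOfLE hWO).op).hom hy'
    rw [res_res, map_mul, map_pow, res_res, res_T L 𝒮L j hWO t] at h1
    exact h1
  have e1 : d * N + 1 + d = (N + 1) • d + 1 := by simp only [smul_eq_mul]; ring
  have ha₂ : b * a ∈ 𝒜.deg V hVaff ((N + 1) • d + 1) := e1 ▸ SetLike.mul_mem_graded hb ha
  have hD : 0 < (N + 1) • d := Nat.mul_pos (Nat.succ_pos N) hd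
  refine ⟨{ V := V, hV := hVaff, D := (N + 1) • d, hD := hD, a₁ := a ^ (N + 1),
            ha₁ := SetLike.pow_mem_graded (N + 1) ha, a₂ := b * a, ha₂ := ha₂, W := W, hW := hW,
            e := rF L hWO t, he := hgen, hr₁ := ?_, hr₂ := ?_, h₂ := ?_ }, hξW⟩
  · intro y₁ hy₁
    rw [Proj.basicOpen_pow _ _ _ (Nat.succ_pos N)]
    exact (mem_iff_r_mem f L 𝒮L j hj 𝒜 u hPL hP r hr hL V hVaff hd a ha O hOle hloc y₁).mp
      (hWO hy₁)
  · intro y₁ hy₁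
    have h_a := (mem_iff_r_mem f L 𝒮L j hj 𝒜 u hPL hP r hr hL V hVaff hd a ha O hOle hloc y₁).mp
      (hWO hy₁)
    have hyW : y₁.1 ∈ pL ⁻¹ᵁ W := hy₁
    have hz_a := (r_mem_iff' f 𝒮L 𝒜 u hPL hP r hr y₁ V hVaff hd a ha W hWaff hW hyW).mp h_a
    refine (r_mem_iff' f 𝒮L 𝒜 u hPL hP r hr y₁ V hVaff (Nat.succ_pos _) (b * a) ha₂ W hWaff hW
      hyW).mpr ?_
    rw [Proj.mem_basicOpen] at hz_a ⊢
    have hT := T_not_mem L 𝒮L j hj W hWaff (rF L hWO t) hgen (zpt pL chartL W hWaff y₁.1 hyW)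
    have hprod : (u.gradedAt V hVaff W hWaff hW (b * a) : 𝒮L.presheaf.obj (op W)) =
        ((u.gradedAt V hVaff W hWaff hW a : 𝒮L.presheaf.obj (op W)) ^ N *
          TT L 𝒮L j W (rF L hWO t)) * (u.gradedAt V hVaff W hWaff hW a : _) := by
      show (u.appLE V W hW).hom (b * a) = _
      rw [map_mul, hrelb]
      rfl
    rw [hprod]
    intro hmem
    have hprime := (zpt pL chartL W hWaff y₁.1 hyW).isPrime
    rcases hprime.mem_or_mem hmem with h1 | h1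
    · rcases hprime.mem_or_mem h1 with h2 | h2
      · exact hz_a (hprime.mem_of_pow_mem _ h2)
      · exact hT h2
    · exact hz_a h1
  · rw [map_mul, map_pow, hrelb]
    ring


/-- The local frame of `r^*O_P(n)` over `L|_{G(u)}`. -/
def localFrame (hj : RelProj.IsGrSymAlg L 𝒮L j) (hPL : RelProj.IsRelProj 𝒮L pL chartL)
    (hP : RelProj.IsRelProj 𝒜 p chart)
    (hr : RelProj.IsProjQMapOn u p chart pL chartL (RelProj.domQ u pL chartL) r)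
    (hOn : RelProj.IsRelTwist 𝒜 p chart (n : ℤ) On lamn)
    (hL : PicF.IsInvertible L)
    (hamp : ∀ U : Y.Opens, IsAffineOpen U → IsAmpleOn L (f ⁻¹ᵁ U))
    (hu : ∀ U : Y.Opens, IsAffineOpen U → Function.Surjective (u.app U).hom) :
    LocalFrame (L.restrict (gam u pL chartL)) (On.restrict r) n where
  ι := FIx f L 𝒮L j 𝒜 u pL chartL p chart r
  O k := k.O
  e k := k.eG
  m k := k.mG hOn
  he k := k.isGen_eG
  hm k := k.isGen_mG hOn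
  cover y := exists_FIx hj hPL hP hr hL hamp hu y
  compat k l c H := FIx.compat hP hPL hr hOn k l c H

/-- **`r^*O_P(n) ≅ L^{⊗ n}|_{G(u)}`**, in terms of restrictions along the open immersions. -/
theorem nonempty_restrict_iso (hj : RelProj.IsGrSymAlg L 𝒮L j)
    (hPL : RelProj.IsRelProj 𝒮L pL chartL) (hP : RelProj.IsRelProj 𝒜 p chart)
    (hr : RelProj.IsProjQMapOn u p chart pL chartL (RelProj.domQ u pL chartL) r)
    (hOn : RelProj.IsRelTwist 𝒜 p chart (n : ℤ) On lamn)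
    (hL : PicF.IsInvertible L)
    (hamp : ∀ U : Y.Opens, IsAffineOpen U → IsAmpleOn L (f ⁻¹ᵁ U))
    (hu : ∀ U : Y.Opens, IsAffineOpen U → Function.Surjective (u.app U).hom) :
    Nonempty (On.restrict r ≅ (CohB1.tensorPow L n).restrict (gam u pL chartL)) :=
  ⟨Groth.Agent.FrameIso.iso (isInvertible_restrict (gam u pL chartL) hL)
    (localFrame hj hPL hP hr hOn hL hamp hu).toFrame
    (Frame.restrict (gam u pL chartL) (Frame.pow L n))⟩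

/-- **`r^*O_P(n) ≅ γ^*L^{⊗ n}`** with the inverse image functors. -/
theorem nonempty_pullback_iso (hj : RelProj.IsGrSymAlg L 𝒮L j)
    (hPL : RelProj.IsRelProj 𝒮L pL chartL) (hP : RelProj.IsRelProj 𝒜 p chart)
    (hr : RelProj.IsProjQMapOn u p chart pL chartL (RelProj.domQ u pL chartL) r)
    (hOn : RelProj.IsRelTwist 𝒜 p chart (n : ℤ) On lamn)
    (hL : PicF.IsInvertible L)
    (hamp : ∀ U : Y.Opens, IsAffineOpen U → IsAmpleOn L (f ⁻¹ᵁ U))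
    (hu : ∀ U : Y.Opens, IsAffineOpen U → Function.Surjective (u.app U).hom) :
    Nonempty ((Scheme.Modules.pullback r).obj On ≅
      (Scheme.Modules.pullback (gam u pL chartL)).obj (CohB1.tensorPow L n)) := by
  obtain ⟨φ⟩ := nonempty_restrict_iso hj hPL hP hr hOn hL hamp hu
  exact ⟨((Scheme.Modules.restrictFunctorIsoPullback r).app On).symm ≪≫ φ ≪≫
    (Scheme.Modules.restrictFunctorIsoPullback (gam u pL chartL)).app (CohB1.tensorPow L n)⟩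

end LF

end Groth.Agent.RLS
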