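import Mathlib

/-!
# Quotient ringed spaces are categorical quotients (helper8)
-/

set_option autoImplicit false
universe u v

namespace Groth.Agent.Lib.RSQuotH8

open CategoryTheory TopologicalSpace Opposite AlgebraicGeometry Topology

section ring

theorem cancel_of_inj {A B C : CommRingCat.{u}} (ι : A ⟶ B) (hι : Function.Injective ι)
    (a b : C ⟶ A) (h : a ≫ ι = b ≫ ι) : a = b := by
  apply CommRingCat.hom_ext
  apply RingHom.ext
  intro x
  apply hι
  exact congrArg (fun φ : C ⟶ B => φ x) h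

theorem exists_lift {A B C : CommRingCat.{u}} (ι : A ⟶ B) (hι : Function.Injective ι)
    (θ : C ⟶ B) (h : ∀ c, θ c ∈ Set.range ι) : ∃ ψ : C ⟶ A, ψ ≫ ι = θ := by
  have hbij : Function.Bijective ι.hom.rangeRestrict :=
    ⟨fun x y hxy => hι (congrArg Subtype.val hxy), ι.hom.rangeRestrict_surjective⟩
  let e : A ≃+* ι.hom.range := RingEquiv.ofBijective ι.hom.rangeRestrict hbij
  let θ' : C →+* ι.hom.range := θ.hom.codRestrict ι.hom.range (fun c => by
    obtain ⟨a, ha⟩ := h c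
    exact ⟨a, ha⟩)
  refine ⟨CommRingCat.ofHom (e.symm.toRingHom.comp θ'), ?_⟩
  apply CommRingCat.hom_ext
  apply RingHom.ext
  intro c
  show ι.hom (e.symm (θ' c)) = θ.hom c
  have h1 : (e (e.symm (θ' c)) : B) = ι.hom (e.symm (θ' c)) := rfl
  rw [← h1, e.apply_symm_apply]
  rfl

end ring

section main

variable (X Y : SheafedSpace CommRingCat.{u}) (Γ : Type v) [Group Γ]
    (τ : Γ →* Aut X) (π : X ⟶ Y) (hτ : ∀ g : Γ, (τ g).hom ≫ π = π)
    (h1 : IsQuotientMap π.hom.base)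
    (h2 : ∀ x x' : X, π.hom.base x = π.hom.base x' ↔ ∃ g : Γ, (τ g).hom.hom.base x = x')
    (h3 : ∀ V : Opens Y, Function.Injective (π.hom.c.app (op V)) ∧
      Set.range (π.hom.c.app (op V)) =
        {s | ∀ g : Γ, (τ g).hom.hom.c.app (op ((Opens.map π.hom.base).obj V)) s =
          X.presheaf.map (eqToHom (congrArg (fun f : X ⟶ Y => op ((Opens.map f.hom.base).obj V)) (hτ g).symm)) s})
    (Z : SheafedSpace CommRingCat.{u}) (f : X ⟶ Z) (hf : ∀ g : Γ, (τ g).hom ≫ f = f)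

include h2 hf in
theorem factorsThrough : Function.FactorsThrough f.hom.base π.hom.base := by
  intro x x' hxx'
  obtain ⟨g, hg⟩ := (h2 x x').mp hxx'
  rw [← hg]
  have := congrArg (fun φ : X ⟶ Z => φ.hom.base x) (hf g)
  exact this.symm

/-- the base map of the factorization -/
noncomputable def bT : (Y : TopCat) ⟶ (Z : TopCat) :=
  TopCat.ofHom (h1.lift f.hom.base.hom (factorsThrough X Y Γ τ π h2 Z f hf))

theorem base_comp : π.hom.base ≫ bT X Y Γ τ π h1 h2 Z f hf = f.hom.base := by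
  apply TopCat.hom_ext
  exact h1.lift_comp f.hom.base.hom (factorsThrough X Y Γ τ π h2 Z f hf)

/-- the section-level map before descending to `Y` -/
noncomputable def theta (V : (Opens Z)ᵒᵖ) : Z.presheaf.obj V ⟶
    X.presheaf.obj (op ((Opens.map π.hom.base).obj
      ((Opens.map (bT X Y Γ τ π h1 h2 Z f hf)).obj V.unop))) :=
  f.hom.c.app V ≫ X.presheaf.map (eqToHom (by
    rw [← base_comp X Y Γ τ π h1 h2 Z f hf]; rfl))

theorem thin {U U' : (Opens X)ᵒᵖ} (α β : U ⟶ U') : α = β := Subsingleton.elim _ _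

theorem theta_inv (V : (Opens Z)ᵒᵖ) (g : Γ) :
    theta X Y Γ τ π h1 h2 Z f hf V ≫ (τ g).hom.hom.c.app (op ((Opens.map π.hom.base).obj
      ((Opens.map (bT X Y Γ τ π h1 h2 Z f hf)).obj V.unop))) =
    theta X Y Γ τ π h1 h2 Z f hf V ≫ X.presheaf.map (eqToHom (congrArg
      (fun φ : X ⟶ Y => op ((Opens.map φ.hom.base).obj
        ((Opens.map (bT X Y Γ τ π h1 h2 Z f hf)).obj V.unop))) (hτ g).symm)) := by
  have key : f.hom.c.app V ≫ (τ g).hom.hom.c.app (op ((Opens.map f.hom.base).obj V.unop)) =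
      f.hom.c.app V ≫ X.presheaf.map (eqToHom (by
        conv_lhs => rw [← hf g]
        rfl)) := by
    have := SheafedSpace.congr_hom_app (hf g) V
    rw [SheafedSpace.comp_hom_c_app] at this
    exact this
  unfold theta
  rw [Category.assoc, Category.assoc]
  have nat := (τ g).hom.hom.c.naturality (eqToHom (by
    rw [← base_comp X Y Γ τ π h1 h2 Z f hf]; rfl) :
      op ((Opens.map f.hom.base).obj V.unop) ⟶ op ((Opens.map π.hom.base).obj
      ((Opens.map (bT X Y Γ τ π h1 h2 Z f hf)).obj V.unop)))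
  rw [nat, ← Category.assoc, key, Category.assoc]
  congr 1
  show X.presheaf.map _ ≫ X.presheaf.map _ = X.presheaf.map _ ≫ X.presheaf.map _
  rw [← Functor.map_comp, ← Functor.map_comp]
  congr 1

include h3 in
theorem exists_psi (V : (Opens Z)ᵒᵖ) :
    ∃ ψ : Z.presheaf.obj V ⟶ Y.presheaf.obj (op ((Opens.map (bT X Y Γ τ π h1 h2 Z f hf)).obj V.unop)),
      ψ ≫ π.hom.c.app (op ((Opens.map (bT X Y Γ τ π h1 h2 Z f hf)).obj V.unop)) =
        theta X Y Γ τ π h1 h2 Z f hf V := by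
  apply exists_lift _ (h3 _).1
  intro s
  rw [(h3 _).2]
  intro g
  have := theta_inv X Y Γ τ π hτ h1 h2 Z f hf V g
  exact congrArg (fun φ => φ s) this

/-- the descended section-level maps -/
noncomputable def psi (V : (Opens Z)ᵒᵖ) :
    Z.presheaf.obj V ⟶ Y.presheaf.obj (op ((Opens.map (bT X Y Γ τ π h1 h2 Z f hf)).obj V.unop)) :=
  (exists_psi X Y Γ τ π hτ h1 h2 h3 Z f hf V).choose

theorem psi_spec (V : (Opens Z)ᵒᵖ) :
    psi X Y Γ τ π hτ h1 h2 h3 Z f hf V ≫
      π.hom.c.app (op ((Opens.map (bT X Y Γ τ π h1 h2 Z f hf)).obj V.unop)) =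
        theta X Y Γ τ π h1 h2 Z f hf V :=
  (exists_psi X Y Γ τ π hτ h1 h2 h3 Z f hf V).choose_spec

theorem psi_nat {V V' : (Opens Z)ᵒᵖ} (i : V ⟶ V') :
    Z.presheaf.map i ≫ psi X Y Γ τ π hτ h1 h2 h3 Z f hf V' =
      psi X Y Γ τ π hτ h1 h2 h3 Z f hf V ≫
        Y.presheaf.map ((Opens.map (bT X Y Γ τ π h1 h2 Z f hf)).op.map i) := by
  apply cancel_of_inj _ (h3 _).1
  rw [Category.assoc, psi_spec, Category.assoc]
  have nat : Y.presheaf.map ((Opens.map (bT X Y Γ τ π h1 h2 Z f hf)).op.map i) ≫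
      π.hom.c.app (op ((Opens.map (bT X Y Γ τ π h1 h2 Z f hf)).obj (unop V'))) =
      π.hom.c.app (op ((Opens.map (bT X Y Γ τ π h1 h2 Z f hf)).obj (unop V))) ≫
        X.presheaf.map ((Opens.map π.hom.base).op.map
          ((Opens.map (bT X Y Γ τ π h1 h2 Z f hf)).op.map i)) :=
    π.hom.c.naturality ((Opens.map (bT X Y Γ τ π h1 h2 Z f hf)).op.map i)
  have natf : Z.presheaf.map i ≫ f.hom.c.app V' =
      f.hom.c.app V ≫ X.presheaf.map ((Opens.map f.hom.base).op.map i) :=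
    f.hom.c.naturality i
  rw [nat, ← Category.assoc, psi_spec]
  unfold theta
  rw [← Category.assoc, natf, Category.assoc, Category.assoc]
  congr 1
  show X.presheaf.map _ ≫ X.presheaf.map _ = X.presheaf.map _ ≫ X.presheaf.map _
  rw [← Functor.map_comp, ← Functor.map_comp]
  congr 1

/-- the factorization -/
noncomputable def fbar : Y ⟶ Z :=
  InducedCategory.homMk
    { base := bT X Y Γ τ π h1 h2 Z f hf
      c := { app := psi X Y Γ τ π hτ h1 h2 h3 Z f hf
             naturality := fun _ _ i => psi_nat X Y Γ τ π hτ h1 h2 h3 Z f hf i } }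

theorem map_thin_id (U : (Opens X)ᵒᵖ) (i : U ⟶ U) : X.presheaf.map i = 𝟙 _ := by
  rw [thin X i (𝟙 U), X.presheaf.map_id]

theorem comp_map_thin {A : CommRingCat.{u}} {U U' : (Opens X)ᵒᵖ} (a : A ⟶ X.presheaf.obj U)
    (i : U ⟶ U') (j : U' ⟶ U) : (a ≫ X.presheaf.map i) ≫ X.presheaf.map j = a := by
  rw [Category.assoc, ← Functor.map_comp, map_thin_id, Category.comp_id]

theorem comp_fbar : π ≫ fbar X Y Γ τ π hτ h1 h2 h3 Z f hf = f := by
  refine SheafedSpace.ext _ _ (base_comp X Y Γ τ π h1 h2 Z f hf) ?_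
  refine NatTrans.ext (funext fun V => ?_)
  have key : (π ≫ fbar X Y Γ τ π hτ h1 h2 h3 Z f hf).hom.c.app V =
      theta X Y Γ τ π h1 h2 Z f hf V := psi_spec X Y Γ τ π hτ h1 h2 h3 Z f hf V
  rw [NatTrans.comp_app]
  refine (congrArg (· ≫ _) key).trans ?_
  exact comp_map_thin X _ _ _

theorem comp_map_thin2 {A : CommRingCat.{u}} {U U' U'' : (Opens X)ᵒᵖ} (a : A ⟶ X.presheaf.obj U)
    (i : U ⟶ U') (j : U' ⟶ U'') (k : U ⟶ U'') :
    (a ≫ X.presheaf.map i) ≫ X.presheaf.map j = a ≫ X.presheaf.map k := by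
  rw [Category.assoc, ← Functor.map_comp, thin X (i ≫ j) k]

theorem nat_pi {U U' : (Opens Y)ᵒᵖ} (i : U ⟶ U') :
    Y.presheaf.map i ≫ π.hom.c.app U' =
      π.hom.c.app U ≫ X.presheaf.map ((Opens.map π.hom.base).op.map i) :=
  π.hom.c.naturality i

theorem fbar_unique (g' : Y ⟶ Z) (hg' : π ≫ g' = f) :
    g' = fbar X Y Γ τ π hτ h1 h2 h3 Z f hf := by
  have hbase : g'.hom.base = bT X Y Γ τ π h1 h2 Z f hf := by
    apply TopCat.hom_ext
    apply ContinuousMap.ext
    intro y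
    obtain ⟨x, rfl⟩ := h1.surjective y
    have e1 := congrArg (fun φ : X ⟶ Z => φ.hom.base x) hg'
    have e2 := congrArg (fun φ : (X : TopCat) ⟶ (Z : TopCat) => φ x)
      (base_comp X Y Γ τ π h1 h2 Z f hf)
    exact e1.trans e2.symm
  refine SheafedSpace.ext _ _ hbase ?_
  refine NatTrans.ext (funext fun V => ?_)
  rw [NatTrans.comp_app]
  apply cancel_of_inj _ (h3 _).1
  have h4 : (fbar X Y Γ τ π hτ h1 h2 h3 Z f hf).hom.c.app V ≫
      π.hom.c.app (op ((Opens.map (bT X Y Γ τ π h1 h2 Z f hf)).obj V.unop)) =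
      theta X Y Γ τ π h1 h2 Z f hf V := psi_spec X Y Γ τ π hτ h1 h2 h3 Z f hf V
  refine Eq.trans ?_ h4.symm
  have key := SheafedSpace.congr_hom_app hg' V
  rw [SheafedSpace.comp_hom_c_app] at key
  rw [Functor.whiskerRight_app, Category.assoc]
  erw [nat_pi X Y π]
  rw [← Category.assoc]
  erw [key]
  unfold theta
  exact comp_map_thin2 X _ _ _ _

include hτ h1 h2 h3 hf in
theorem main14885 : ∃! fb : Y ⟶ Z, π ≫ fb = f :=
  ⟨fbar X Y Γ τ π hτ h1 h2 h3 Z f hf, comp_fbar X Y Γ τ π hτ h1 h2 h3 Z f hf,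
    fun g' hg' => fbar_unique X Y Γ τ π hτ h1 h2 h3 Z f hf g' hg'⟩

end main

end Groth.Agent.Lib.RSQuotH8
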