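import Mathlib
import Groth.Prelude.Def_ModSite2
import Groth.Agent.Lib.RSpI_lead

/-!
# The kernel of a surjection from a finite type module onto a finitely presented one (lead)
-/

set_option autoImplicit false
set_option linter.unusedSimpArgs false
set_option linter.unusedVariables false
set_option linter.unusedSectionVars false
set_option linter.style.longLine false
set_option linter.unnecessarySimpa false
set_option maxHeartbeats 1600000
set_option backward.isDefEq.respectTransparency false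
set_option backward.isDefEq.respectTransparency.types false
set_option backward.defeqAttrib.useBackward true

universe u

open CategoryTheory Limits Opposite ModSite TopologicalSpace

namespace Groth.Agent.Lib.RSp

open Groth.Agent.Lib.ModSiteH8 Groth.Agent.Lib.StalkFlatPt Groth.Agent.Lib.StalkFlatA
open Groth.Agent.Lib.FreeFactor

variable {X : TopCat.{u}} {O : TopCat.Sheaf CommRingCat.{u} X}

theorem ft_kernel {G F : Mod O} (θ : G ⟶ F) [Epi θ]
    (hG : SheafOfModules.IsFiniteType (R := ringSh O) G)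
    (hF : SheafOfModules.IsFinitePresentation (R := ringSh O) F) :
    SheafOfModules.IsFiniteType (R := ringSh O) (kernel θ) := by
  classical
  rw [isFiniteType_iff_top] at hG ⊢
  rw [isFinitePresentation_iff_top] at hF
  intro x
  obtain ⟨UG, hxG, ιG, _, g, hg⟩ := hG x
  obtain ⟨UF, hxF, ιF, κ, _, _, t, r, hF'⟩ := hF x
  have hepi := (epi_iff_top θ).1 inferInstance
  have h0G : UG ⊓ UF ≤ UG := inf_le_left
  have h0F : UG ⊓ UF ≤ UF := inf_le_right
  obtain ⟨W₁, hW₁, hx1, hb⟩ := common_nhd' (κ := ιG) x (UG ⊓ UF) ⟨hxG, hxF⟩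
    (fun j W hW => ∃ b : ιF → O.obj.obj (op W),
      app θ W (rs G (hW.trans h0G) (g j)) = ∑ i, b i • rs F (hW.trans h0F) (t i))
    (by
      rintro j W hW W' h' ⟨b, hb⟩
      refine ⟨fun i => rsR h' (b i), ?_⟩
      have := congrArg (rs F h') hb
      rw [← app_rs, rs_rs, rs_sum] at this
      refine this.trans (Finset.sum_congr rfl (fun i _ => ?_))
      rw [rs_smul, rs_rs])
    (fun j => by
      obtain ⟨W, hW, hxW, a, ha⟩ := hF'.gen (UG ⊓ UF) h0F (app θ (UG ⊓ UF) (rs G h0G (g j))) x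
        ⟨hxG, hxF⟩
      refine ⟨W, hW, hxW, a, ?_⟩
      rw [← ha, ← app_rs, rs_rs])
  choose b hb using hb
  obtain ⟨W, hW₂, hxW, hh⟩ := common_nhd' (κ := ιF) x W₁ hx1
    (fun i W hW => ∃ h : Sec G W, app θ W h = rs F ((hW.trans hW₁).trans h0F) (t i))
    (by
      rintro i W hW W' h' ⟨h, hh⟩
      refine ⟨rs G h' h, ?_⟩
      rw [app_rs, hh, rs_rs])
    (fun i => by
      obtain ⟨W, hW, hxW, u, hu⟩ := hepi W₁ (rs F (hW₁.trans h0F) (t i)) x hx1
      refine ⟨W, hW, hxW, u, ?_⟩
      rw [hu, rs_rs])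
  choose h hh using hh
  have hWG : W ≤ UG := (hW₂.trans hW₁).trans h0G
  have hWF : W ≤ UF := (hW₂.trans hW₁).trans h0F
  have hk : ∀ j, ∃ k : Sec (kernel θ) W,
      app (kernel.ι θ) W k = rs G hWG (g j) - ∑ i, rsR hW₂ (b j i) • h i := by
    intro j
    apply kernel_lift
    rw [map_sub, map_sum, sub_eq_zero]
    have e1 : app θ W (rs G hWG (g j)) = ∑ i, rsR hW₂ (b j i) • rs F hWF (t i) := by
      have := congrArg (rs F hW₂) (hb j)
      rw [← app_rs, rs_rs, rs_sum] at this
      refine this.trans (Finset.sum_congr rfl (fun i _ => ?_))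
      rw [rs_smul, rs_rs]
    rw [e1]
    refine Finset.sum_congr rfl (fun i _ => ?_)
    rw [app_smul, hh]
  have hρ : ∀ l, ∃ k : Sec (kernel θ) W,
      app (kernel.ι θ) W k = ∑ i, rsR hWF (r l i) • h i := by
    intro l
    apply kernel_lift
    rw [map_sum]
    have := congrArg (rs F hWF) (hF'.rel l)
    rw [rs_sum, map_zero] at this
    rw [← this]
    refine Finset.sum_congr rfl (fun i _ => ?_)
    rw [app_smul, hh, rs_smul]
  choose kk hkk using hk
  choose ρ hρ using hρ
  refine ⟨W, hxW, ιG ⊕ κ, inferInstance, Sum.elim kk ρ, ?_⟩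
  intro V hV u y hy
  obtain ⟨W₃, hW₃, hy3, a, ha⟩ := hg V (hV.trans hWG) (app (kernel.ι θ) V u) y hy
  have hrel : ∑ i, (∑ j, a j * rsR (hW₃.trans (hV.trans hW₂)) (b j i)) •
      rs F (hW₃.trans (hV.trans hWF)) (t i) = 0 := by
    have h1 : app θ W₃ (rs G hW₃ (app (kernel.ι θ) V u)) = 0 := by
      rw [app_rs, app_comp_eq_zero _ _ (kernel.condition θ), map_zero]
    rw [ha, map_sum] at h1
    rw [← h1]
    have h3 : ∀ j, app θ W₃ (a j • rs G (hW₃.trans (hV.trans hWG)) (g j)) =
        ∑ i, (a j * rsR (hW₃.trans (hV.trans hW₂)) (b j i)) •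
          rs F (hW₃.trans (hV.trans hWF)) (t i) := by
      intro j
      have h4 := congrArg (rs F (hW₃.trans (hV.trans hW₂))) (hb j)
      rw [← app_rs, rs_rs, rs_sum] at h4
      rw [app_smul, h4, Finset.smul_sum]
      refine Finset.sum_congr rfl (fun i _ => ?_)
      rw [rs_smul, rs_rs, mul_smul]
    simp only [h3]
    rw [Finset.sum_comm]
    refine Finset.sum_congr rfl (fun i _ => ?_)
    rw [Finset.sum_smul]
  obtain ⟨W₄, hW₄, hy4, d, hd⟩ := hF'.relGen W₃ (hW₃.trans (hV.trans hWF)) _ hrel y hy3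
  refine ⟨W₄, hW₄.trans hW₃, hy4, Sum.elim (fun j => rsR hW₄ (a j)) d, ?_⟩
  apply (mono_iff (kernel.ι θ)).1 inferInstance W₄
  rw [Fintype.sum_sum_type]
  simp only [Sum.elim_inl, Sum.elim_inr]
  rw [map_add, map_sum, map_sum]
  have eL : app (kernel.ι θ) W₄ (rs (kernel θ) (hW₄.trans hW₃) u) =
      ∑ j, rsR hW₄ (a j) • rs G ((hW₄.trans hW₃).trans (hV.trans hWG)) (g j) := by
    rw [app_rs, ← rs_rs G hW₃ hW₄, ha, rs_sum]
    refine Finset.sum_congr rfl (fun j _ => ?_)
    rw [rs_smul, rs_rs]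
  rw [eL]
  have eK : ∀ j, app (kernel.ι θ) W₄
      (rsR hW₄ (a j) • rs (kernel θ) ((hW₄.trans hW₃).trans hV) (kk j)) =
      rsR hW₄ (a j) • (rs G ((hW₄.trans hW₃).trans (hV.trans hWG)) (g j) -
        ∑ i, rsR ((hW₄.trans hW₃).trans (hV.trans hW₂)) (b j i) •
          rs G ((hW₄.trans hW₃).trans hV) (h i)) := by
    intro j
    rw [app_smul, app_rs, hkk, map_sub, rs_rs, rs_sum]
    simp only [rs_smul, rsR_rsR]
  have eR : ∀ l, app (kernel.ι θ) W₄ (d l • rs (kernel θ) ((hW₄.trans hW₃).trans hV) (ρ l)) =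
      d l • ∑ i, rsR ((hW₄.trans hW₃).trans (hV.trans hWF)) (r l i) •
        rs G ((hW₄.trans hW₃).trans hV) (h i) := by
    intro l
    rw [app_smul, app_rs, hρ, rs_sum]
    simp only [rs_smul, rsR_rsR]
  simp only [eK, eR]
  symm
  apply alg_ker
  intro i
  have := hd i
  rw [map_sum] at this
  rw [← this]
  refine Finset.sum_congr rfl (fun j _ => ?_)
  rw [map_mul, rsR_rsR]

end Groth.Agent.Lib.RSp
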