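import Mathlib
import Groth.Prelude.Def_ModSite2
import Groth.Agent.Lib.RSpI_lead

/-!
# The cokernel of a map from a finite type module to a finitely presented one (lead)
-/

set_option autoImplicit false
set_option linter.unusedSimpArgs false
set_option linter.unusedVariables false
set_option linter.unusedSectionVars false
set_option linter.style.longLine false
set_option linter.unnecessarySimpa false
set_option maxHeartbeats 1600000
set_option backward.isDefEq.respectTransparency false
set_option backward.isDefEq.respectTransparency.types false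
set_option backward.defeqAttrib.useBackward true

universe u

open CategoryTheory Limits Opposite ModSite TopologicalSpace

namespace Groth.Agent.Lib.RSp

open Groth.Agent.Lib.ModSiteH8 Groth.Agent.Lib.StalkFlatPt Groth.Agent.Lib.StalkFlatA
open Groth.Agent.Lib.FreeFactor

variable {X : TopCat.{u}} {O : TopCat.Sheaf CommRingCat.{u} X}

theorem fp_cokernel {G F : Mod O} (φ : G ⟶ F)
    (hG : SheafOfModules.IsFiniteType (R := ringSh O) G)
    (hF : SheafOfModules.IsFinitePresentation (R := ringSh O) F) :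
    SheafOfModules.IsFinitePresentation (R := ringSh O) (cokernel φ) := by
  classical
  rw [isFiniteType_iff_top] at hG
  rw [isFinitePresentation_iff_top] at hF ⊢
  intro x
  obtain ⟨UG, hxG, ιG, _, g, hg⟩ := hG x
  obtain ⟨UF, hxF, ιF, κ, _, _, t, r, hF'⟩ := hF x
  have hepi := (epi_iff_top (cokernel.π φ)).1 inferInstance
  have hex := (exact_iff_top (ShortComplex.mk φ (cokernel.π φ) (cokernel.condition φ))).1
    (ShortComplex.exact_cokernel φ)
  have h0G : UG ⊓ UF ≤ UG := inf_le_left
  have h0F : UG ⊓ UF ≤ UF := inf_le_right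
  obtain ⟨W, hW, hxW, hb⟩ := common_nhd' (κ := ιG) x (UG ⊓ UF) ⟨hxG, hxF⟩
    (fun j W hW => ∃ b : ιF → O.obj.obj (op W),
      app φ W (rs G (hW.trans h0G) (g j)) = ∑ i, b i • rs F (hW.trans h0F) (t i))
    (by
      rintro j W hW W' h' ⟨b, hb⟩
      refine ⟨fun i => rsR h' (b i), ?_⟩
      have := congrArg (rs F h') hb
      rw [← app_rs, rs_rs, rs_sum] at this
      refine this.trans (Finset.sum_congr rfl (fun i _ => ?_))
      rw [rs_smul, rs_rs])
    (fun j => by
      obtain ⟨W, hW, hxW, a, ha⟩ := hF'.gen (UG ⊓ UF) h0F (app φ (UG ⊓ UF) (rs G h0G (g j))) x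
        ⟨hxG, hxF⟩
      refine ⟨W, hW, hxW, a, ?_⟩
      rw [← ha, ← app_rs, rs_rs])
  choose b hb using hb
  have hWG : W ≤ UG := hW.trans h0G
  have hWF : W ≤ UF := hW.trans h0F
  refine ⟨W, hxW, ιF, κ ⊕ ιG, inferInstance, inferInstance,
    fun i => app (cokernel.π φ) W (rs F hWF (t i)),
    Sum.elim (fun l i => rsR hWF (r l i)) b, ?_⟩
  refine ⟨?_, ?_, ?_⟩
  · intro V hV q y hy
    obtain ⟨W₁, hW₁, hy1, f', hf'⟩ := hepi V q y hy
    obtain ⟨W₂, hW₂, hy2, a, ha⟩ := hF'.gen W₁ (hW₁.trans (hV.trans hWF)) f' y hy1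
    refine ⟨W₂, hW₂.trans hW₁, hy2, a, ?_⟩
    rw [← rs_rs (cokernel φ) hW₁ hW₂, ← hf', ← app_rs, ha, map_sum]
    refine Finset.sum_congr rfl (fun i _ => ?_)
    rw [app_smul, ← app_rs, rs_rs]
  · rintro (l | j)
    · simp only [Sum.elim_inl]
      have : app (cokernel.π φ) W (rs F hWF (∑ i, r l i • t i)) =
          app (cokernel.π φ) W (rs F hWF 0) := by rw [hF'.rel l]
      rw [rs_sum, map_sum, map_zero, map_zero] at this
      rw [← this]
      refine Finset.sum_congr rfl (fun i _ => ?_)
      rw [rs_smul, app_smul]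
    · simp only [Sum.elim_inr]
      have h1 : app (cokernel.π φ) W (app φ W (rs G hWG (g j))) = 0 :=
        app_comp_eq_zero _ _ (cokernel.condition φ) W _
      rw [hb j, map_sum] at h1
      rw [← h1]
      refine Finset.sum_congr rfl (fun i _ => ?_)
      rw [app_smul]
  · intro V hV a ha y hy
    have h1 : app (cokernel.π φ) V (∑ i, a i • rs F (hV.trans hWF) (t i)) = 0 := by
      rw [map_sum, ← ha]
      refine Finset.sum_congr rfl (fun i _ => ?_)
      rw [app_smul, ← app_rs, rs_rs]
    obtain ⟨W₁, hW₁, hy1, u, hu⟩ := hex V _ h1 y hy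
    change app φ W₁ u = rs F hW₁ _ at hu
    obtain ⟨W₂, hW₂, hy2, c, hc⟩ := hg W₁ (hW₁.trans (hV.trans hWG)) u y hy1
    have h2 : ∑ i, (rsR (hW₂.trans hW₁) (a i) -
        ∑ j, c j * rsR (hW₂.trans (hW₁.trans hV)) (b j i)) •
        rs F (hW₂.trans (hW₁.trans (hV.trans hWF))) (t i) = 0 := by
      have h3 : app φ W₂ (rs G hW₂ u) =
          ∑ i, (∑ j, c j * rsR (hW₂.trans (hW₁.trans hV)) (b j i)) •
            rs F (hW₂.trans (hW₁.trans (hV.trans hWF))) (t i) := by
        rw [hc, map_sum]
        have h4 : ∀ j, app φ W₂ (c j • rs G (hW₂.trans (hW₁.trans (hV.trans hWG))) (g j)) =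
            ∑ i, (c j * rsR (hW₂.trans (hW₁.trans hV)) (b j i)) •
              rs F (hW₂.trans (hW₁.trans (hV.trans hWF))) (t i) := by
          intro j
          have h5 := congrArg (rs F (hW₂.trans (hW₁.trans hV))) (hb j)
          rw [← app_rs, rs_rs, rs_sum] at h5
          rw [app_smul, h5, Finset.smul_sum]
          refine Finset.sum_congr rfl (fun i _ => ?_)
          rw [rs_smul, rs_rs, mul_smul]
        simp only [h4]
        rw [Finset.sum_comm]
        refine Finset.sum_congr rfl (fun i _ => ?_)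
        rw [Finset.sum_smul]
      have h6 : app φ W₂ (rs G hW₂ u) =
          ∑ i, rsR (hW₂.trans hW₁) (a i) •
            rs F (hW₂.trans (hW₁.trans (hV.trans hWF))) (t i) := by
        rw [app_rs, hu, rs_rs, rs_sum]
        refine Finset.sum_congr rfl (fun i _ => ?_)
        rw [rs_smul, rs_rs]
      simp only [sub_smul, Finset.sum_sub_distrib]
      rw [← h6, ← h3, sub_self]
    obtain ⟨W₃, hW₃, hy3, d, hd⟩ :=
      hF'.relGen W₂ (hW₂.trans (hW₁.trans (hV.trans hWF))) _ h2 y hy2
    refine ⟨W₃, hW₃.trans (hW₂.trans hW₁), hy3, Sum.elim d (fun j => rsR hW₃ (c j)), fun i => ?_⟩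
    rw [Fintype.sum_sum_type]
    simp only [Sum.elim_inl, Sum.elim_inr]
    have h7 := hd i
    rw [map_sub, map_sum, rsR_rsR, sub_eq_iff_eq_add] at h7
    rw [h7]
    congr 1
    · refine Finset.sum_congr rfl (fun l _ => ?_)
      rw [rsR_rsR]
    · refine Finset.sum_congr rfl (fun j _ => ?_)
      rw [map_mul, rsR_rsR]

end Groth.Agent.Lib.RSp
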