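import Mathlib
import Groth.Prelude.Def_ModSite2
import Groth.Agent.Lib.RSpI_lead

/-!
# Germs at a point of a ringed space (lead)
-/

set_option autoImplicit false
set_option linter.unusedSimpArgs false
set_option linter.unusedVariables false
set_option linter.unusedSectionVars false
set_option linter.style.longLine false
set_option linter.unnecessarySimpa false
set_option maxHeartbeats 1600000
set_option backward.isDefEq.respectTransparency false
set_option backward.isDefEq.respectTransparency.types false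
set_option backward.defeqAttrib.useBackward true

universe u

open CategoryTheory Limits Opposite ModSite TopologicalSpace

namespace Groth.Agent.Lib.RSp

open Groth.Agent.Lib.ModSiteH8 Groth.Agent.Lib.StalkFlatPt Groth.Agent.Lib.StalkFlatA
open Groth.Agent.Lib.FreeFactor

variable {X : TopCat.{u}} {O : TopCat.Sheaf CommRingCat.{u} X}

/-- the point of the site of opens attached to `x` -/
abbrev pt (x : X) : GrothendieckTopology.Point.{u} (Opens.grothendieckTopology X) :=
  Opens.pointGrothendieckTopology x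

/-- the morphism of neighbourhoods attached to an inclusion -/
def eltHom (x : X) {U V : Opens X} (h : V ≤ U) (hxV : x ∈ V) : elt x V hxV ⟶ elt x U (h hxV) :=
  ⟨homOfLE h, Subsingleton.elim _ _⟩

/-- the morphism from the standard form of a neighbourhood -/
def eltTo (x : X) (e : (pt x).fiber.Elements) : elt x e.1 (mem_of_elt x e) ⟶ e :=
  ⟨𝟙 e.1, Subsingleton.elim _ _⟩

variable (x : X)

/-- the germ at `x` of a section of a module -/
noncomputable def gm (F : Mod O) {U : Opens X} (hx : x ∈ U) : Sec F U →+ stalkAb (pt x) F :=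
  gM (pt x) F (elt x U hx)

/-- the germ at `x` of a section of the structure sheaf -/
noncomputable def gr {U : Opens X} (hx : x ∈ U) : O.obj.obj (op U) →+* stalkRing (pt x) O :=
  gR (pt x) (elt x U hx)

lemma gm_rs (F : Mod O) {U V : Opens X} (h : V ≤ U) (hxV : x ∈ V) (m : Sec F U) :
    gm x F hxV (rs F h m) = gm x F (h hxV) m :=
  gM_res (pt x) F (eltHom x h hxV) m

lemma gr_rsR {U V : Opens X} (h : V ≤ U) (hxV : x ∈ V) (a : O.obj.obj (op U)) :
    gr (O := O) x hxV (rsR h a) = gr x (h hxV) a :=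
  gR_resR (pt x) (eltHom x h hxV) a

lemma gm_smul (F : Mod O) {U : Opens X} (hx : x ∈ U) (a : O.obj.obj (op U)) (m : Sec F U) :
    gm x F hx (a • m) = gr x hx a • gm x F hx m :=
  gM_smul (pt x) F (elt x U hx) a m

lemma gM_eq_gm (F : Mod O) (e : (pt x).fiber.Elements) (m : Sec F e.1) :
    gM (pt x) F e m = gm x F (mem_of_elt x e) m := by
  have h := gM_res (pt x) F (eltTo x e) m
  rw [← h]
  unfold gm
  congr 1
  exact rs_self F e.1 m

lemma gR_eq_gr (e : (pt x).fiber.Elements) (a : O.obj.obj (op e.1)) :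
    gR (pt x) e a = gr (O := O) x (mem_of_elt x e) a := by
  have h := gR_resR (O := O) (pt x) (eltTo x e) a
  rw [← h]
  unfold gr
  congr 1
  exact rsR_self e.1 a

/-- lifting finitely many germs to sections over a neighbourhood inside a given one -/
theorem exists_lift_family_top (F : Mod O) {κ : Type*} [Finite κ] (U₀ : Opens X) (hx₀ : x ∈ U₀)
    (t : κ → stalkAb (pt x) F) :
    ∃ (U : Opens X) (hU : U ≤ U₀) (hx : x ∈ U) (s : κ → Sec F U), ∀ k, gm x F hx (s k) = t k := by
  obtain ⟨e, s, hs⟩ := exists_lift_family (pt x) F t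
  have hxe := mem_of_elt x e
  refine ⟨e.1 ⊓ U₀, inf_le_right, ⟨hxe, hx₀⟩, fun k => rs F inf_le_left (s k), fun k => ?_⟩
  rw [gm_rs, ← gM_eq_gm, hs]

theorem exists_lift_family_ring_top {κ : Type*} [Finite κ] (U₀ : Opens X) (hx₀ : x ∈ U₀)
    (t : κ → stalkRing (pt x) O) :
    ∃ (U : Opens X) (hU : U ≤ U₀) (hx : x ∈ U) (s : κ → O.obj.obj (op U)),
      ∀ k, gr x hx (s k) = t k := by
  obtain ⟨e, s, hs⟩ := exists_lift_family_ring (pt x) (O := O) t
  have hxe := mem_of_elt x e
  refine ⟨e.1 ⊓ U₀, inf_le_right, ⟨hxe, hx₀⟩, fun k => rsR inf_le_left (s k), fun k => ?_⟩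
  rw [gr_rsR, ← gR_eq_gr, hs]

/-- sections with zero germs vanish on a neighbourhood -/
theorem exists_nhd_zero_top (F : Mod O) {κ : Type*} [Finite κ] (U : Opens X) (hx : x ∈ U)
    (s : κ → Sec F U) (h : ∀ k, gm x F hx (s k) = 0) :
    ∃ (W : Opens X) (hW : W ≤ U), x ∈ W ∧ ∀ k, rs F hW (s k) = 0 := by
  obtain ⟨e, φ, he⟩ := exists_nhd_zero_family (pt x) F (elt x U hx) s h
  exact ⟨e.1, leOfHom φ.1, mem_of_elt x e, he⟩

/-- ring sections with zero germs vanish on a neighbourhood -/
theorem exists_nhd_zero_ring_top {κ : Type*} [Finite κ] (U : Opens X) (hx : x ∈ U)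
    (s : κ → O.obj.obj (op U)) (h : ∀ k, gr x hx (s k) = 0) :
    ∃ (W : Opens X) (hW : W ≤ U), x ∈ W ∧ ∀ k, rsR hW (s k) = 0 := by
  obtain ⟨e, φ, he⟩ := exists_eq_family_gen (pt x) O.obj (elt x U hx) s (fun _ => 0)
    (fun k => (h k).trans (map_zero (gr (O := O) x hx)).symm)
  refine ⟨e.1, leOfHom φ.1, mem_of_elt x e, fun k => ?_⟩
  have := he k
  exact this.trans (map_zero (rsR (O := O) (leOfHom φ.1)))

/-- every germ is the germ of a section -/
theorem exists_gm_eq (F : Mod O) (t : stalkAb (pt x) F) :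
    ∃ (U : Opens X) (hx : x ∈ U) (m : Sec F U), gm x F hx m = t := by
  obtain ⟨e, m, hm⟩ := StalkFlatPt.exists_gM_eq (pt x) F t
  exact ⟨e.1, mem_of_elt x e, m, (gM_eq_gm x F e m).symm.trans hm⟩

theorem exists_gr_eq (t : stalkRing (pt x) O) :
    ∃ (U : Opens X) (hx : x ∈ U) (a : O.obj.obj (op U)), gr x hx a = t := by
  obtain ⟨e, a, ha⟩ := StalkFlatPt.exists_gR_eq (pt x) (O := O) t
  exact ⟨e.1, mem_of_elt x e, a, (gR_eq_gr x e a).symm.trans ha⟩

lemma gm_sum (F : Mod O) {U : Opens X} (hx : x ∈ U) {ι : Type*} (s : Finset ι) (m : ι → Sec F U) :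
    gm x F hx (∑ i ∈ s, m i) = ∑ i ∈ s, gm x F hx (m i) := map_sum _ _ _

end Groth.Agent.Lib.RSp
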