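import Mathlib
import Groth.Prelude.Def_ModSite2
import Groth.Agent.Lib.RSpL_lead

/-!
# A finitely presented module with a free stalk is free near the point (lead)
-/

set_option autoImplicit false
set_option linter.unusedSimpArgs false
set_option linter.unusedVariables false
set_option linter.unusedSectionVars false
set_option linter.style.longLine false
set_option linter.unnecessarySimpa false
set_option maxHeartbeats 1600000
set_option backward.isDefEq.respectTransparency false
set_option backward.isDefEq.respectTransparency.types false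
set_option backward.defeqAttrib.useBackward true

universe u

open CategoryTheory Limits Opposite ModSite TopologicalSpace

namespace Groth.Agent.Lib.RSp

open Groth.Agent.Lib.ModSiteH8 Groth.Agent.Lib.StalkFlatPt Groth.Agent.Lib.StalkFlatA
open Groth.Agent.Lib.FreeFactor

variable {X : TopCat.{u}} {O : TopCat.Sheaf CommRingCat.{u} X}

/-- ring sections agreeing locally agree -/
lemma ring_ext_top {V : Opens X} {a b : O.obj.obj (op V)}
    (h : ∀ y ∈ V, ∃ (W : Opens X) (hW : W ≤ V), y ∈ W ∧ rsR hW a = rsR hW b) : a = b := by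
  have := sec_ext_top (ModSite.unit O) (a := toU V a) (b := toU V b) (fun y hy => by
    obtain ⟨W, hW, hyW, e⟩ := h y hy
    exact ⟨W, hW, hyW, congrArg (toU W) e⟩)
  exact this

lemma GenAt.reindex {F : Mod O} {U : Opens X} {ι ι' : Type*} [Fintype ι] [Fintype ι']
    {s : ι → Sec F U} (h : GenAt F U s) (e : ι' ≃ ι) : GenAt F U (fun i' => s (e i')) := by
  intro V hV t x hx
  obtain ⟨W, hW, hxW, a, ha⟩ := h V hV t x hx
  refine ⟨W, hW, hxW, fun i' => a (e i'), ?_⟩
  rw [ha]
  exact (Equiv.sum_comp e (fun i => a i • rs F (hW.trans hV) (s i))).symm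

lemma IndepAt.reindex {F : Mod O} {U : Opens X} {ι ι' : Type*} [Fintype ι] [Fintype ι']
    {s : ι → Sec F U} (h : IndepAt F U s) (e : ι' ≃ ι) : IndepAt F U (fun i' => s (e i')) := by
  intro V hV a' ha' i'
  have h1 : ∑ i, a' (e.symm i) • rs F hV (s i) = 0 := by
    rw [← ha']
    refine (Equiv.sum_comp e (fun i => a' (e.symm i) • rs F hV (s i))).symm.trans ?_
    exact Finset.sum_congr rfl (fun j _ => by rw [Equiv.symm_apply_apply])
  have := h V hV _ h1 (e i')
  rwa [Equiv.symm_apply_apply] at this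

theorem free_of_data {F : Mod O} {ιF κ : Type*} [Fintype ιF] [Fintype κ] {n : ℕ} (W : Opens X)
    (S : Fin n → Sec F W) (T : ιF → Sec F W) (Cm : ιF → Fin n → O.obj.obj (op W))
    (Dm : Fin n → ιF → O.obj.obj (op W)) (Rm : κ → ιF → O.obj.obj (op W))
    (hP : PresAt F W T Rm) (ha : ∀ i, T i = ∑ k, Cm i k • S k) (hb : ∀ k, S k = ∑ i, Dm k i • T i)
    (hI : ∀ k k', ∑ i, Dm k i * Cm i k' = if k = k' then 1 else 0)
    (hII : ∀ l k, ∑ i, Rm l i * Cm i k = 0) : GenAt F W S ∧ IndepAt F W S := by
  classical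
  constructor
  · intro V hV m y hy
    obtain ⟨W', hW', hyW', a, ha'⟩ := hP.gen V hV m y hy
    refine ⟨W', hW', hyW', fun k => ∑ i, a i * rsR (hW'.trans hV) (Cm i k), ?_⟩
    rw [ha']
    have h1 : ∀ i, a i • rs F (hW'.trans hV) (T i) =
        ∑ k, (a i * rsR (hW'.trans hV) (Cm i k)) • rs F (hW'.trans hV) (S k) := by
      intro i
      rw [ha i, rs_sum, Finset.smul_sum]
      refine Finset.sum_congr rfl (fun k _ => ?_)
      rw [rs_smul, mul_smul]
    simp only [h1]
    rw [Finset.sum_comm]
    refine Finset.sum_congr rfl (fun k _ => ?_)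
    rw [Finset.sum_smul]
  · intro V hV a hzero k₀
    apply ring_ext_top
    intro y hy
    have h2 : ∑ i, (∑ k, a k * rsR hV (Dm k i)) • rs F hV (T i) = 0 := by
      rw [← hzero]
      have h3 : ∀ k, a k • rs F hV (S k) = ∑ i, (a k * rsR hV (Dm k i)) • rs F hV (T i) := by
        intro k
        rw [hb k, rs_sum, Finset.smul_sum]
        refine Finset.sum_congr rfl (fun i _ => ?_)
        rw [rs_smul, mul_smul]
      simp only [h3]
      rw [Finset.sum_comm]
      refine Finset.sum_congr rfl (fun i _ => ?_)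
      rw [Finset.sum_smul]
    obtain ⟨W', hW', hyW', d, hd⟩ := hP.relGen V hV _ h2 y hy
    refine ⟨W', hW', hyW', ?_⟩
    rw [map_zero]
    have hI' : ∀ k, ∑ i, rsR (hW'.trans hV) (Dm k i) * rsR (hW'.trans hV) (Cm i k₀) =
        if k = k₀ then 1 else 0 := by
      intro k
      have := congrArg (rsR (O := O) (hW'.trans hV)) (hI k k₀)
      rw [map_sum] at this
      simp only [map_mul] at this
      rw [this]
      split_ifs
      · exact map_one _
      · exact map_zero _
    have hII' : ∀ l, ∑ i, rsR (hW'.trans hV) (Rm l i) * rsR (hW'.trans hV) (Cm i k₀) = 0 := by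
      intro l
      have := congrArg (rsR (O := O) (hW'.trans hV)) (hII l k₀)
      rw [map_sum, map_zero] at this
      simp only [map_mul] at this
      exact this
    calc rsR hW' (a k₀) = ∑ k, rsR hW' (a k) * (if k = k₀ then 1 else 0) := by
          simp
      _ = ∑ k, rsR hW' (a k) *
            ∑ i, rsR (hW'.trans hV) (Dm k i) * rsR (hW'.trans hV) (Cm i k₀) := by
          refine Finset.sum_congr rfl (fun k _ => ?_)
          rw [hI']
      _ = ∑ i, (∑ k, rsR hW' (a k) * rsR (hW'.trans hV) (Dm k i)) *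
            rsR (hW'.trans hV) (Cm i k₀) := by
          simp only [Finset.mul_sum, Finset.sum_mul, mul_assoc]
          rw [Finset.sum_comm]
      _ = ∑ i, (∑ l, d l * rsR (hW'.trans hV) (Rm l i)) * rsR (hW'.trans hV) (Cm i k₀) := by
          refine Finset.sum_congr rfl (fun i _ => ?_)
          have := hd i
          rw [map_sum] at this
          simp only [map_mul, rsR_rsR] at this
          rw [← this]
      _ = ∑ l, d l * ∑ i, rsR (hW'.trans hV) (Rm l i) * rsR (hW'.trans hV) (Cm i k₀) := by
          simp only [Finset.mul_sum, Finset.sum_mul, mul_assoc]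
          rw [Finset.sum_comm]
      _ = 0 := by
          simp only [hII', mul_zero, Finset.sum_const_zero]

theorem locFree_of_stalk_free (F : Mod O)
    (hF : SheafOfModules.IsFinitePresentation (R := ringSh O) F) (x : X) (n : ℕ)
    (e : stalkAb (pt x) F ≃ₗ[stalkRing (pt x) O] (Fin n → stalkRing (pt x) O)) :
    ∃ U : Opens X, x ∈ U ∧ Nonempty ((restr O U).obj F ≅
      SheafOfModules.free (R := ringSh (O.over U)) (ULift.{u} (Fin n))) := by
  classical
  rw [isFinitePresentation_iff_top] at hF
  obtain ⟨U, hxU, ιF, κ, _, _, t, r, hP⟩ := hF x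
  let ε : Fin n → stalkAb (pt x) F := fun k => e.symm (fun j => if k = j then 1 else 0)
  have hε : ∀ k, e (ε k) = fun j => if k = j then 1 else 0 := fun k => e.apply_symm_apply _
  obtain ⟨W₀, hW₀, hx0, s, hs⟩ := exists_lift_family_top x F U hxU ε
  obtain ⟨W₁, hW₁, hx1, Cc, hC⟩ := exists_lift_family_ring_top (O := O) x W₀ hx0
    (fun q : ιF × Fin n => e (gm x F hxU (t q.1)) q.2)
  have hexp : ∀ v : stalkAb (pt x) F, v = ∑ k, e v k • ε k := by
    intro v
    apply e.injective
    rw [map_sum]
    simp only [map_smul, hε]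
    exact pi_eq_sum_univ (e v)
  obtain ⟨W₂, hW₂, hx2, hz⟩ := exists_nhd_zero_top x F W₁ hx1
    (fun i => rs F (hW₁.trans hW₀) (t i) - ∑ k, Cc (i, k) • rs F hW₁ (s k)) (fun i => by
      rw [map_sub, gm_rs, gm_sum, sub_eq_zero]
      rw [hexp (gm x F _ (t i))]
      refine Finset.sum_congr rfl (fun k _ => ?_)
      rw [gm_smul, gm_rs, hC, hs])
  have h20 : W₂ ≤ W₀ := hW₂.trans hW₁
  have h2U : W₂ ≤ U := h20.trans hW₀
  obtain ⟨W₃, hW₃, hx3, hD⟩ := common_nhd' (κ := Fin n) x W₂ hx2
    (fun k W hW => ∃ d : ιF → O.obj.obj (op W),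
      rs F (hW.trans h20) (s k) = ∑ i, d i • rs F (hW.trans h2U) (t i))
    (by
      rintro k W hW W' h' ⟨d, hd⟩
      refine ⟨fun i => rsR h' (d i), ?_⟩
      have := congrArg (rs F h') hd
      rw [rs_rs, rs_sum] at this
      refine this.trans (Finset.sum_congr rfl (fun i _ => ?_))
      rw [rs_smul, rs_rs])
    (fun k => by
      obtain ⟨W, hW, hxW, a, ha⟩ := hP.gen W₂ h2U (rs F h20 (s k)) x hx2
      refine ⟨W, hW, hxW, a, ?_⟩
      rw [← ha, rs_rs])
  choose D hD using hD
  have h30 : W₃ ≤ W₀ := hW₃.trans h20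
  have h3U : W₃ ≤ U := hW₃.trans h2U
  have h31 : W₃ ≤ W₁ := hW₃.trans hW₂
  have ha3 : ∀ i, rs F h3U (t i) = ∑ k, rsR h31 (Cc (i, k)) • rs F h30 (s k) := by
    intro i
    have := congrArg (rs F hW₃) (hz i)
    rw [rs_rs, map_sub, map_zero, sub_eq_zero, rs_rs, rs_sum] at this
    refine this.trans (Finset.sum_congr rfl (fun k _ => ?_))
    rw [rs_smul, rs_rs]
  have hSS : ∀ k, rs F h30 (s k) =
      ∑ k', (∑ i, D k i * rsR h31 (Cc (i, k'))) • rs F h30 (s k') := by
    intro k
    have h1 : ∀ i, D k i • rs F h3U (t i) =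
        ∑ k', (D k i * rsR h31 (Cc (i, k'))) • rs F h30 (s k') := by
      intro i
      rw [ha3 i, Finset.smul_sum]
      exact Finset.sum_congr rfl (fun k' _ => by rw [mul_smul])
    refine (hD k).trans ?_
    simp only [h1]
    rw [Finset.sum_comm]
    exact Finset.sum_congr rfl (fun k' _ => by rw [Finset.sum_smul])
  have hgs : ∀ k, gm x F hx3 (rs F h30 (s k)) = ε k := fun k => by rw [gm_rs, hs]
  have hIg : ∀ k k'', gr x hx3 (∑ i, D k i * rsR h31 (Cc (i, k''))) =
      if k = k'' then 1 else 0 := by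
    intro k k''
    have h1 := congrArg (gm x F hx3) (hSS k)
    rw [gm_sum, hgs] at h1
    simp only [gm_smul, hgs] at h1
    have h2 := congrArg (fun v => e v k'') h1
    simp only [map_sum, map_smul, hε, Finset.sum_apply, Pi.smul_apply, smul_eq_mul, mul_ite,
      mul_one, mul_zero, Finset.sum_ite_eq', Finset.sum_ite_eq, Finset.mem_univ, if_true] at h2
    rw [map_sum]
    exact h2.symm
  have hIIg : ∀ l k'', gr x hx3 (∑ i, rsR h3U (r l i) * rsR h31 (Cc (i, k''))) = 0 := by
    intro l k''
    have h0 : ∑ k', (∑ i, rsR h3U (r l i) * rsR h31 (Cc (i, k'))) • rs F h30 (s k') = 0 := by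
      have h1 := congrArg (rs F h3U) (hP.rel l)
      rw [rs_sum, map_zero] at h1
      rw [← h1]
      have h2 : ∀ i, rs F h3U (r l i • t i) =
          ∑ k', (rsR h3U (r l i) * rsR h31 (Cc (i, k'))) • rs F h30 (s k') := by
        intro i
        rw [rs_smul, ha3 i, Finset.smul_sum]
        exact Finset.sum_congr rfl (fun k' _ => by rw [mul_smul])
      simp only [h2]
      rw [Finset.sum_comm]
      exact Finset.sum_congr rfl (fun k' _ => by rw [Finset.sum_smul])
    have h1 := congrArg (gm x F hx3) h0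
    rw [gm_sum, map_zero] at h1
    simp only [gm_smul, hgs] at h1
    have h2 := congrArg (fun v => e v k'') h1
    simp only [map_sum, map_smul, hε, map_zero, Pi.zero_apply, Finset.sum_apply, Pi.smul_apply,
      smul_eq_mul, mul_ite, mul_one, mul_zero, Finset.sum_ite_eq', Finset.sum_ite_eq,
      Finset.mem_univ, if_true] at h2
    rw [map_sum]
    exact h2
  obtain ⟨W₄, hW₄, hx4, hv⟩ := exists_nhd_zero_ring_top (O := O) x W₃ hx3
    (Sum.elim
      (fun q : Fin n × Fin n => (∑ i, D q.1 i * rsR h31 (Cc (i, q.2))) -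
        (if q.1 = q.2 then 1 else 0))
      (fun q : κ × Fin n => ∑ i, rsR h3U (r q.1 i) * rsR h31 (Cc (i, q.2))))
    (by
      rintro (q | q)
      · simp only [Sum.elim_inl]
        rw [map_sub, hIg, sub_eq_zero]
        split_ifs
        · exact (map_one _).symm
        · exact (map_zero _).symm
      · simp only [Sum.elim_inr]
        exact hIIg q.1 q.2)
  have h4U : W₄ ≤ U := hW₄.trans h3U
  have h40 : W₄ ≤ W₀ := hW₄.trans h30
  have h41 : W₄ ≤ W₁ := hW₄.trans h31
  have hP4 := hP.restrict h4U
  obtain ⟨hgen, hind⟩ := free_of_data W₄ (fun k => rs F h40 (s k)) (fun i => rs F h4U (t i))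
    (fun i k => rsR h41 (Cc (i, k))) (fun k i => rsR hW₄ (D k i)) (fun l i => rsR h4U (r l i)) hP4
    (fun i => by
      have := congrArg (rs F hW₄) (ha3 i)
      rw [rs_rs, rs_sum] at this
      refine this.trans (Finset.sum_congr rfl (fun k _ => ?_))
      rw [rs_smul, rs_rs, rsR_rsR])
    (fun k => by
      have := congrArg (rs F hW₄) (hD k)
      rw [rs_rs, rs_sum] at this
      refine this.trans (Finset.sum_congr rfl (fun i _ => ?_))
      rw [rs_smul, rs_rs])
    (fun k k' => by
      have := hv (Sum.inl (k, k'))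
      simp only [Sum.elim_inl] at this
      rw [map_sub, sub_eq_zero, map_sum] at this
      simp only [map_mul, rsR_rsR] at this
      rw [this]
      split_ifs
      · exact map_one _
      · exact map_zero _)
    (fun l k => by
      have := hv (Sum.inr (l, k))
      simp only [Sum.elim_inr] at this
      rw [map_sum] at this
      simp only [map_mul, rsR_rsR] at this
      exact this)
  refine ⟨W₄, hx4, (restr_iso_free_iff_top F W₄ (ULift.{u} (Fin n))).2
    ⟨fun k => rs F h40 (s k.down), hgen.reindex Equiv.ulift, hind.reindex Equiv.ulift⟩⟩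

end Groth.Agent.Lib.RSp
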