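import Mathlib
import Groth.Prelude.Def_ModSite2
import Groth.Agent.Lib.RSpG_lead

/-!
# The rank of a locally free module on a ringed space is locally constant (lead)
-/

set_option autoImplicit false
set_option linter.unusedSimpArgs false
set_option linter.unusedVariables false
set_option linter.unusedSectionVars false
set_option linter.style.longLine false
set_option linter.unnecessarySimpa false
set_option maxHeartbeats 1600000
set_option backward.isDefEq.respectTransparency false
set_option backward.isDefEq.respectTransparency.types false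
set_option backward.defeqAttrib.useBackward true

universe u

open CategoryTheory Limits Opposite ModSite TopologicalSpace

namespace Groth.Agent.Lib.RSp

open Groth.Agent.Lib.ModSiteH8 Groth.Agent.Lib.StalkFlatPt Groth.Agent.Lib.StalkFlatA
open Groth.Agent.Lib.FreeFactor

section Site

variable {C : Type u} [SmallCategory C] {J : GrothendieckTopology C} {O : Sheaf J CommRingCat.{u}}

/-- a split monomorphism between finite free modules forces an inequality of ranks -/
theorem card_le_of_split (Z : C) [Nontrivial (O.obj.obj (op Z))]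
    (κ ι : Type u) [Fintype κ] [DecidableEq κ] [Fintype ι] [DecidableEq ι]
    (i : fr (O := O) κ ⟶ fr (O := O) ι) (p : fr (O := O) ι ⟶ fr (O := O) κ) (hip : i ≫ p = 𝟙 _) :
    Fintype.card κ ≤ Fintype.card ι := by
  let M : Matrix κ ι (O.obj.obj (op Z)) := fun k j => co ι j Z (app i Z (bas κ k Z))
  let N : Matrix ι κ (O.obj.obj (op Z)) := fun j k => co κ k Z (app p Z (bas ι j Z))
  have hMN : M * N = 1 := by
    ext k k'
    rw [Matrix.mul_apply, Matrix.one_apply]
    have h1 : co κ k' Z (app p Z (app i Z (bas κ k Z))) = if k = k' then 1 else 0 := by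
      rw [← app_comp, hip, app_id, co_bas]
    rw [← h1]
    conv_rhs => rw [sec_decomp ι Z (app i Z (bas κ k Z))]
    rw [map_sum, co_sum]
    refine Finset.sum_congr rfl (fun j _ => ?_)
    rw [app_smul, co_smul]
  have hinj : Function.Injective (Matrix.vecMulLinear M) := by
    intro v w hvw
    have h2 := congrArg (fun t => Matrix.vecMul t N) hvw
    simp only [Matrix.vecMulLinear_apply, Matrix.vecMul_vecMul, hMN, Matrix.vecMul_one] at h2
    exact h2
  exact card_le_of_injective (O.obj.obj (op Z)) (Matrix.vecMulLinear M) hinj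

/-- a finite family of distinct basis vectors spans a direct summand of a free module -/
theorem exists_split_of_injective (κ : Type u) [Fintype κ] [DecidableEq κ] (I : Type u)
    (j : κ → I) (hj : Function.Injective j) :
    ∃ (a : fr (O := O) κ ⟶ SheafOfModules.free (R := ringSh O) I)
      (b : SheafOfModules.free (R := ringSh O) I ⟶ fr (O := O) κ), a ≫ b = 𝟙 _ := by
  classical
  let a : fr (O := O) κ ⟶ SheafOfModules.free (R := ringSh O) I :=
    frDesc κ (fun k => SheafOfModules.ιFree (j k))
  let b : SheafOfModules.free (R := ringSh O) I ⟶ fr (O := O) κ :=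
    Cofan.IsColimit.desc (SheafOfModules.isColimitFreeCofan I)
      (fun i => if h : ∃ k, j k = i then inj κ h.choose else 0)
  refine ⟨a, b, ?_⟩
  apply fr_hom_ext κ
  intro k
  rw [Category.comp_id, ← Category.assoc, inj_frDesc]
  have h1 : SheafOfModules.ιFree (R := ringSh O) (j k) ≫ b =
      (if h : ∃ k', j k' = j k then inj κ h.choose else 0) :=
    Cofan.IsColimit.fac (SheafOfModules.isColimitFreeCofan I) _ (j k)
  rw [h1]
  have h2 : ∃ k', j k' = j k := ⟨k, rfl⟩
  rw [dif_pos h2]
  have h3 : h2.choose = k := hj h2.choose_spec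
  rw [h3]

/-- isomorphic free modules have the same rank: one inequality -/
theorem card_le_of_free_iso (Z : C) [Nontrivial (O.obj.obj (op Z))] (I I' : Type u) [Fintype I']
    (θ : SheafOfModules.free (R := ringSh O) I ≅ SheafOfModules.free (R := ringSh O) I')
    (κ : Type u) [Fintype κ] (j : κ → I) (hj : Function.Injective j) :
    Fintype.card κ ≤ Fintype.card I' := by
  classical
  obtain ⟨a, b, hab⟩ := exists_split_of_injective (O := O) κ I j hj
  refine card_le_of_split Z κ I' (a ≫ θ.hom) (θ.inv ≫ b) ?_
  rw [Category.assoc, θ.hom_inv_id_assoc, hab]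

theorem enatCard_eq_of_free_iso (Z : C) [Nontrivial (O.obj.obj (op Z))] (I I' : Type u)
    (θ : SheafOfModules.free (R := ringSh O) I ≅ SheafOfModules.free (R := ringSh O) I') :
    ENat.card I = ENat.card I' := by
  classical
  have key : ∀ (I I' : Type u)
      (θ : SheafOfModules.free (R := ringSh O) I ≅ SheafOfModules.free (R := ringSh O) I'),
      Finite I' → Finite I ∧ Nat.card I ≤ Nat.card I' := by
    intro I I' θ hI'
    haveI := Fintype.ofFinite I'
    have hfin : Finite I := by
      by_contra hinf
      rw [not_finite_iff_infinite] at hinf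
      let j : ULift.{u} (Fin (Fintype.card I' + 1)) → I :=
        fun k => Infinite.natEmbedding I k.down.val
      have hj : Function.Injective j := by
        intro k k' h
        have := (Infinite.natEmbedding I).injective h
        exact ULift.ext _ _ (Fin.ext this)
      have := card_le_of_free_iso Z I I' θ (ULift.{u} (Fin (Fintype.card I' + 1))) j hj
      simp at this
    refine ⟨hfin, ?_⟩
    haveI := Fintype.ofFinite I
    have := card_le_of_free_iso Z I I' θ I id Function.injective_id
    rwa [← Nat.card_eq_fintype_card, ← Nat.card_eq_fintype_card] at this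
  by_cases hI' : Finite I'
  · obtain ⟨hI, h1⟩ := key I I' θ hI'
    obtain ⟨_, h2⟩ := key I' I θ.symm hI
    haveI := Fintype.ofFinite I
    haveI := Fintype.ofFinite I'
    rw [ENat.card_eq_coe_fintype_card, ENat.card_eq_coe_fintype_card]
    rw [Nat.card_eq_fintype_card, Nat.card_eq_fintype_card] at h1 h2
    exact congrArg _ (le_antisymm h1 h2)
  · have hI : ¬ Finite I := fun h => hI' (key I' I θ.symm h).1
    rw [not_finite_iff_infinite] at hI hI'
    rw [ENat.card_eq_top_of_infinite, ENat.card_eq_top_of_infinite]

/-- restriction of a trivialisation to a smaller object -/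
theorem restr_iso_free_of_hom (F : Mod O) {U W : C} (g : W ⟶ U) (I : Type u)
    (h : Nonempty ((restr O U).obj F ≅ SheafOfModules.free (R := ringSh (O.over U)) I)) :
    Nonempty ((restr O W).obj F ≅ SheafOfModules.free (R := ringSh (O.over W)) I) := by
  obtain ⟨e⟩ := h
  haveI := Φ_isLeftAdjoint (O := O) g
  let ιA : I → (unitW O U ⟶ SheafOfModules.free (R := ringSh (O.over U)) I) :=
    fun i => SheafOfModules.ιFree i
  have hA : IsColimit (Cofan.mk _ ιA) := SheafOfModules.isColimitFreeCofan I
  let ιA' : I → (unitW O W ⟶ (Φ g).obj (SheafOfModules.free (R := ringSh (O.over U)) I)) :=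
    fun i => (Φ g).map (ιA i)
  have hA' : IsColimit (Cofan.mk _ ιA') := isColimitCofanMkObjOfIsColimit (Φ g) _ _ hA
  let ιB : I → (unitW O W ⟶ SheafOfModules.free (R := ringSh (O.over W)) I) :=
    fun i => SheafOfModules.ιFree i
  have hB : IsColimit (Cofan.mk _ ιB) := SheafOfModules.isColimitFreeCofan I
  let e2 : (Φ g).obj (SheafOfModules.free (R := ringSh (O.over U)) I) ≅
      SheafOfModules.free (R := ringSh (O.over W)) I := hA'.coconePointUniqueUpToIso hB
  let e1 : (restr O W).obj F ≅ (Φ g).obj (SheafOfModules.free (R := ringSh (O.over U)) I) :=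
    (Φ g).mapIso e
  exact ⟨e1 ≪≫ e2⟩

end Site

variable {X : TopCat.{u}} {O : TopCat.Sheaf CommRingCat.{u} X}

theorem nontrivial_sections (x : X) (hO : Nontrivial (O.presheaf.stalk x)) (W : Opens X)
    (hx : x ∈ W) : Nontrivial (O.obj.obj (op W)) :=
  (O.presheaf.germ W x hx).hom.domain_nontrivial

/-- the rank of a locally free module is well defined and locally constant -/
theorem exists_rank (hO : ∀ x : X, Nontrivial (O.presheaf.stalk x)) (F : Mod O)
    (hF : SheafOfModules.IsLocallyFree (R := ringSh O) F) :
    ∃ rk : X → ℕ∞, IsLocallyConstant rk ∧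
      ∀ (x : X) (U : Opens X) (I : Type u), x ∈ U →
        Nonempty ((restr O U).obj F ≅ SheafOfModules.free (R := ringSh (O.over U)) I) →
          ENat.card I = rk x := by
  classical
  have huniq : ∀ (x : X) (U U' : Opens X) (I I' : Type u), x ∈ U → x ∈ U' →
      Nonempty ((restr O U).obj F ≅ SheafOfModules.free (R := ringSh (O.over U)) I) →
      Nonempty ((restr O U').obj F ≅ SheafOfModules.free (R := ringSh (O.over U')) I') →
      ENat.card I = ENat.card I' := by
    intro x U U' I I' hxU hxU' h h'
    obtain ⟨e⟩ := restr_iso_free_of_hom F (homOfLE (inf_le_left : U ⊓ U' ≤ U)) I h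
    obtain ⟨e'⟩ := restr_iso_free_of_hom F (homOfLE (inf_le_right : U ⊓ U' ≤ U')) I' h'
    haveI : Nontrivial ((O.over (U ⊓ U')).obj.obj (op (tW (U ⊓ U')))) :=
      nontrivial_sections x (hO x) (U ⊓ U') ⟨hxU, hxU'⟩
    exact enatCard_eq_of_free_iso (O := O.over (U ⊓ U')) (tW (U ⊓ U')) I I' (e.symm ≪≫ e')
  have hex : ∀ x : X, ∃ (U : Opens X) (I : Type u), x ∈ U ∧
      Nonempty ((restr O U).obj F ≅ SheafOfModules.free (R := ringSh (O.over U)) I) := by
    intro x
    obtain ⟨q, hq⟩ := hF.exists_isLocallyFreeData
    obtain ⟨V, f, ⟨i, ⟨k⟩⟩, hxV⟩ := q.coversTop ⊤ x (Opens.mem_top x)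
    haveI := hq.isIso i
    exact ⟨q.X i, (q.generators i).I, leOfHom k hxV, ⟨(asIso (q.generators i).π).symm⟩⟩
  choose U I hxU hI using hex
  refine ⟨fun x => ENat.card (I x), ?_, fun x U' I' hx h => ?_⟩
  · rw [IsLocallyConstant.iff_exists_open]
    intro x
    refine ⟨(U x : Set X), (U x).isOpen, hxU x, fun y hy => ?_⟩
    exact huniq y (U y) (U x) (I y) (I x) (hxU y) hy (hI y) (hI x)
  · exact huniq x U' (U x) I' (I x) hx (hxU x) h (hI x)

end Groth.Agent.Lib.RSp
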