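import Mathlib
import Groth.Prelude.Def_ModSite2
import Groth.Prelude.Def_AlgSpPerf
import Groth.Agent.Lib.RSpD_lead

/-!
# Global sections of direct summands of finite free modules on a ringed site with a final object (lead)
-/

set_option autoImplicit false
set_option linter.unusedSimpArgs false
set_option linter.unusedVariables false
set_option linter.unusedSectionVars false
set_option linter.style.longLine false
set_option linter.unnecessarySimpa false
set_option maxHeartbeats 1600000
set_option backward.isDefEq.respectTransparency false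
set_option backward.isDefEq.respectTransparency.types false
set_option backward.defeqAttrib.useBackward true

universe u

open CategoryTheory Limits Opposite ModSite

namespace Groth.Agent.Lib.RSp

open Groth.Agent.Lib.ModSiteH8 Groth.Agent.Lib.StalkFlatPt Groth.Agent.Lib.StalkFlatA
open Groth.Agent.Lib.FreeFactor

variable {C : Type u} [SmallCategory C] {J : GrothendieckTopology C} {O : Sheaf J CommRingCat.{u}}

lemma app_sub {F G : Mod O} (φ ψ : F ⟶ G) (U : C) (m : Sec F U) :
    app (φ - ψ) U m = app φ U m - app ψ U m := by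
  have h := (appHom F G U).map_sub φ ψ
  exact DFunLike.congr_fun h m

/-- the coordinates of sections of a finite free module, as a linear equivalence -/
noncomputable def coordEquiv (ι : Type u) [Fintype ι] [DecidableEq ι] (U : C) :
    (fr (O := O) ι).val.obj (op U) ≃ₗ[(ringSh O).obj.obj (op U)]
      (ι → (ringSh O).obj.obj (op U)) where
  toFun m := fun i => co ι i U m
  map_add' m m' := funext fun i => co_add ι i U m m'
  map_smul' a m := funext fun i => co_smul ι i U a m
  invFun a := ∑ i, a i • bas ι i U
  left_inv m := (sec_decomp ι U m).symm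
  right_inv a := funext fun i => co_comb ι i U a

section Terminal

variable {X : C} (hX : IsTerminal X)

include hX

/-- morphisms out of the structure sheaf are determined by their value at the final object -/
lemma unit_hom_ext {M : Mod O} {τ τ' : ModSite.unit O ⟶ M} (h : at1 τ X = at1 τ' X) : τ = τ' := by
  apply hom_ext'
  intro U a
  have h1 : a = toU U (ofU U a) := rfl
  rw [h1, app_toU, app_toU, ← at1_res τ (hX.from U), ← at1_res τ' (hX.from U), h]

/-- every section over the final object is the value of a morphism out of the structure sheaf -/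
lemma exists_unit_hom (M : Mod O) (m : Sec M X) : ∃ τ : ModSite.unit O ⟶ M, at1 τ X = m := by
  let s : M.sections := PresheafOfModules.sectionsMk (fun U => M.val.map (hX.from U.unop).op m) (by
    intro U V q
    rw [← PresheafOfModules.map_comp_apply]
    apply PresheafOfModules.congr_map_apply
    apply Quiver.Hom.unop_inj
    exact hX.hom_ext _ _)
  refine ⟨M.unitHomEquiv.symm s, ?_⟩
  have h1 : at1 (M.unitHomEquiv.symm s) X = (M.unitHomEquiv (M.unitHomEquiv.symm s)).val (op X) := rfl
  rw [h1, Equiv.apply_symm_apply]
  have h2 : hX.from X = 𝟙 X := hX.hom_ext _ _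
  change M.val.map (hX.from X).op m = m
  rw [h2]
  change ((iF O).obj M).presheaf.map (𝟙 (op X)) m = m
  rw [((iF O).obj M).presheaf.map_id]
  rfl

variable (ι : Type u) [Fintype ι] [DecidableEq ι]

lemma fr_hom_ext_terminal {M : Mod O} {f f' : fr (O := O) ι ⟶ M}
    (h : ∀ m : Sec (fr (O := O) ι) X, app f X m = app f' X m) : f = f' := by
  apply fr_hom_ext ι
  intro i
  apply unit_hom_ext hX
  rw [at1_comp, at1_comp]
  exact h _

lemma exists_fr_hom_terminal (M : Mod O)
    (g : (fr (O := O) ι).val.obj (op X) →ₗ[(ringSh O).obj.obj (op X)] M.val.obj (op X)) :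
    ∃ f : fr (O := O) ι ⟶ M, ∀ m : Sec (fr (O := O) ι) X, app f X m = g m := by
  choose τ hτ using fun i => exists_unit_hom hX M (g (bas ι i X))
  refine ⟨frDesc ι τ, fun m => ?_⟩
  rw [app_fr]
  conv_rhs => rw [sec_decomp ι X m]
  rw [map_sum]
  refine Finset.sum_congr rfl (fun i _ => ?_)
  rw [inj_frDesc, hτ]
  exact (g.map_smul _ _).symm

end Terminal

open DCoh in
/-- global sections on direct summands of finite free modules -/
theorem summand_sections {X : C} (hX : IsTerminal X) :
    (∀ E E' : Mod O, IsFinFreeSummandMod (ringSh O) E → IsFinFreeSummandMod (ringSh O) E' →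
        Function.Bijective (fun φ : E ⟶ E' => φ.val.app (op X))) ∧
    (∀ E : Mod O, IsFinFreeSummandMod (ringSh O) E →
        Module.Finite ((ringSh O).obj.obj (op X)) (E.val.obj (op X)) ∧
        Module.Projective ((ringSh O).obj.obj (op X)) (E.val.obj (op X))) ∧
    (∀ M : ModuleCat.{u} ((ringSh O).obj.obj (op X)),
        Module.Finite ((ringSh O).obj.obj (op X)) M →
        Module.Projective ((ringSh O).obj.obj (op X)) M →
        ∃ E : Mod O, IsFinFreeSummandMod (ringSh O) E ∧ Nonempty (E.val.obj (op X) ≅ M)) := by
  classical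
  refine ⟨?_, ?_, ?_⟩
  · rintro E E' ⟨n, i, p, hip⟩ ⟨n', i', p', hip'⟩
    have hid : ∀ m : Sec E X, app p X (app i X m) = m := fun m => by
      rw [← app_comp, hip]; rfl
    have hid' : ∀ m : Sec E' X, app p' X (app i' X m) = m := fun m => by
      rw [← app_comp, hip']; rfl
    constructor
    · intro φ ψ h
      have h0 : ∀ m : Sec E X, app φ X m = app ψ X m := fun m =>
        congrArg (fun t : E.val.obj (op X) ⟶ E'.val.obj (op X) => t.hom m) h
      have h1 : p ≫ φ ≫ i' = p ≫ ψ ≫ i' := by
        apply fr_hom_ext_terminal hX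
        intro m
        rw [app_comp, app_comp, app_comp, app_comp, h0]
      have h2 : φ = i ≫ (p ≫ φ ≫ i') ≫ p' := by
        rw [Category.assoc, Category.assoc, hip', Category.comp_id, ← Category.assoc, hip,
          Category.id_comp]
      have h3 : ψ = i ≫ (p ≫ ψ ≫ i') ≫ p' := by
        rw [Category.assoc, Category.assoc, hip', Category.comp_id, ← Category.assoc, hip,
          Category.id_comp]
      rw [h2, h3, h1]
    · intro g
      obtain ⟨f, hf⟩ := exists_fr_hom_terminal hX (ULift.{u} (Fin n)) _
        ((i'.val.app (op X)).hom ∘ₗ g.hom ∘ₗ (p.val.app (op X)).hom)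
      refine ⟨i ≫ f ≫ p', ?_⟩
      apply ModuleCat.hom_ext
      apply LinearMap.ext
      intro m
      have h1 : app (i ≫ f ≫ p') X m = g.hom m := by
        rw [app_comp, app_comp, hf]
        have h2 : ((i'.val.app (op X)).hom ∘ₗ g.hom ∘ₗ (p.val.app (op X)).hom) (app i X m) =
            app i' X (g.hom (app p X (app i X m))) := rfl
        rw [h2, hid, hid']
      exact h1
  · rintro E ⟨n, i, p, hip⟩
    have hid : ∀ m : Sec E X, app p X (app i X m) = m := fun m => by
      rw [← app_comp, hip]; rfl
    let c := coordEquiv (O := O) (ULift.{u} (Fin n)) X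
    haveI : Module.Finite ((ringSh O).obj.obj (op X))
        ((fr (O := O) (ULift.{u} (Fin n))).val.obj (op X)) := Module.Finite.equiv c.symm
    haveI : Module.Projective ((ringSh O).obj.obj (op X))
        ((fr (O := O) (ULift.{u} (Fin n))).val.obj (op X)) := Module.Projective.of_equiv' c.symm
    constructor
    · exact Module.Finite.of_surjective (p.val.app (op X)).hom (fun m => ⟨app i X m, hid m⟩)
    · exact Module.Projective.of_split (i.val.app (op X)).hom (p.val.app (op X)).hom
        (LinearMap.ext hid)
  · intro M hfin hproj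
    obtain ⟨n, π, hπ⟩ := Module.Finite.exists_fin' ((ringSh O).obj.obj (op X)) M
    let ι := ULift.{u} (Fin n)
    let π' : (ι → (ringSh O).obj.obj (op X)) →ₗ[(ringSh O).obj.obj (op X)] M :=
      π ∘ₗ (LinearEquiv.funCongrLeft ((ringSh O).obj.obj (op X)) ((ringSh O).obj.obj (op X))
        (Equiv.ulift.symm : Fin n ≃ ι)).toLinearMap
    have hπ' : Function.Surjective π' := hπ.comp (LinearEquiv.surjective _)
    obtain ⟨s', hs'⟩ := Module.projective_lifting_property π' LinearMap.id hπ'
    have hs : ∀ y : M, π' (s' y) = y := fun y => DFunLike.congr_fun hs' y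
    let c := coordEquiv (O := O) ι X
    obtain ⟨ee, hee⟩ := exists_fr_hom_terminal hX ι (fr (O := O) ι)
      (c.symm.toLinearMap ∘ₗ s' ∘ₗ π' ∘ₗ c.toLinearMap)
    have hee' : ∀ m : Sec (fr (O := O) ι) X, app ee X m = c.symm (s' (π' (c m))) := hee
    have hidem : ee ≫ ee = ee := by
      apply fr_hom_ext_terminal hX
      intro m
      rw [app_comp, hee', hee', LinearEquiv.apply_symm_apply, hs]
    let d : fr (O := O) ι ⟶ fr (O := O) ι := 𝟙 _ - ee
    have hed : ee ≫ d = 0 := by
      change ee ≫ (𝟙 _ - ee) = 0
      rw [Preadditive.comp_sub, Category.comp_id, hidem, sub_self]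
    let i : kernel d ⟶ fr (O := O) ι := kernel.ι d
    let p : fr (O := O) ι ⟶ kernel d := kernel.lift d ee hed
    have hip : i ≫ p = 𝟙 _ := by
      rw [← cancel_mono (kernel.ι d)]
      change (kernel.ι d ≫ kernel.lift d ee hed) ≫ kernel.ι d = 𝟙 _ ≫ kernel.ι d
      rw [Category.assoc, kernel.lift_ι, Category.id_comp]
      have h1 : kernel.ι d ≫ d = 0 := kernel.condition d
      change kernel.ι d ≫ (𝟙 _ - ee) = 0 at h1
      rw [Preadditive.comp_sub, Category.comp_id, sub_eq_zero] at h1
      exact h1.symm
    refine ⟨kernel d, ⟨n, i, p, hip⟩, ?_⟩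
    have hdX : ∀ v : Sec (fr (O := O) ι) X, app d X v = v - app ee X v := fun v => by
      change app (𝟙 _ - ee) X v = _
      rw [app_sub]
      rfl
    let Ψ : (kernel d).val.obj (op X) →ₗ[(ringSh O).obj.obj (op X)] M :=
      π' ∘ₗ c.toLinearMap ∘ₗ (i.val.app (op X)).hom
    have hΨ : ∀ m : Sec (kernel d) X, Ψ m = π' (c (app i X m)) := fun m => rfl
    have hinj : Function.Injective Ψ := by
      rw [injective_iff_map_eq_zero]
      intro m hm
      rw [hΨ] at hm
      have h1 : app d X (app i X m) = 0 := app_comp_eq_zero _ _ (kernel.condition d) X m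
      rw [hdX, hee', hm, map_zero, map_zero, sub_zero] at h1
      have h2 : app i X m = app i X 0 := by rw [h1, map_zero]
      exact (mono_iff i).1 inferInstance X h2
    have hsurj : Function.Surjective Ψ := by
      intro y
      have h1 : app d X (c.symm (s' y)) = 0 := by
        rw [hdX, hee', LinearEquiv.apply_symm_apply, hs, sub_self]
      obtain ⟨k, hk⟩ := kernel_lift d X _ h1
      refine ⟨k, ?_⟩
      rw [hΨ]
      change π' (c (app (kernel.ι d) X k)) = y
      rw [hk, LinearEquiv.apply_symm_apply, hs]
    exact ⟨(LinearEquiv.ofBijective Ψ ⟨hinj, hsurj⟩).toModuleIso⟩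

end Groth.Agent.Lib.RSp
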