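import Mathlib
import Groth.Prelude.Def_ModSite2
import Groth.Agent.Lib.RSpM_lead
import Groth.Agent.Lib.RSpK_lead
import Groth.Agent.Lib.RSpN_lead

/-!
# Retracts of finite locally free modules on locally ringed spaces (lead)
-/

set_option autoImplicit false
set_option linter.unusedSimpArgs false
set_option linter.unusedVariables false
set_option linter.unusedSectionVars false
set_option linter.style.longLine false
set_option linter.unnecessarySimpa false
set_option maxHeartbeats 1600000
set_option backward.isDefEq.respectTransparency false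
set_option backward.isDefEq.respectTransparency.types false
set_option backward.defeqAttrib.useBackward true

universe u

open CategoryTheory Limits Opposite ModSite TopologicalSpace

namespace Groth.Agent.Lib.RSp

open Groth.Agent.Lib.ModSiteH8 Groth.Agent.Lib.StalkFlatPt Groth.Agent.Lib.StalkFlatA
open Groth.Agent.Lib.FreeFactor

variable {X : TopCat.{u}} {O : TopCat.Sheaf CommRingCat.{u} X}

/-- naturality of germs -/
lemma sml_gm {F G : Mod O} (φ : F ⟶ G) (x : X) {U : Opens X} (hx : x ∈ U) (m : Sec F U) :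
    stalkMapLin (pt x) φ (gm x F hx m) = gm x G hx (app φ U m) :=
  stalkMapLin_gM (pt x) φ (elt x U hx) m

lemma sml_comp {F G H : Mod O} (φ : F ⟶ G) (ψ : G ⟶ H) (x : X) (t : stalkAb (pt x) F) :
    stalkMapLin (pt x) (φ ≫ ψ) t = stalkMapLin (pt x) ψ (stalkMapLin (pt x) φ t) := by
  obtain ⟨U, hx, m, rfl⟩ := exists_gm_eq x F t
  rw [sml_gm, sml_gm, sml_gm, app_comp]

lemma sml_id (F : Mod O) (x : X) (t : stalkAb (pt x) F) : stalkMapLin (pt x) (𝟙 F) t = t := by
  obtain ⟨U, hx, m, rfl⟩ := exists_gm_eq x F t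
  rw [sml_gm, app_id]

theorem nontrivial_stalkRing (x : X) (hO : Nontrivial (O.presheaf.stalk x)) :
    Nontrivial (stalkRing (pt x) O) := by
  refine ⟨⟨0, 1, fun h => ?_⟩⟩
  have h1 : gr (O := O) x (Opens.mem_top x) (1 : O.obj.obj (op ⊤)) = 0 := by
    rw [map_one]; exact h.symm
  obtain ⟨W, hW, hxW, hz⟩ := exists_nhd_zero_ring_top (O := O) x ⊤ (Opens.mem_top x)
    (fun _ : Unit => (1 : O.obj.obj (op ⊤))) (fun _ => h1)
  have h2 := hz ()
  rw [map_one] at h2
  haveI := nontrivial_sections x hO W hxW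
  exact one_ne_zero h2

lemma isUnit_gr_of_isUnit_germ (x : X) {U : Opens X} (hx : x ∈ U) (α : O.obj.obj (op U))
    (h : IsUnit (O.presheaf.germ U x hx α)) : IsUnit (gr (O := O) x hx α) := by
  obtain ⟨V, i, hxV, hu⟩ := AlgebraicGeometry.RingedSpace.isUnit_res_of_isUnit_germ
    (X := ({ carrier := X, presheaf := O.presheaf, IsSheaf := O.2 } :
      AlgebraicGeometry.RingedSpace)) U α x hx h
  have h2 : IsUnit (rsR (O := O) (leOfHom i) α) := hu
  have h3 := h2.map (gr (O := O) x hxV)
  rwa [gr_rsR] at h3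

theorem isLocalRing_stalkRing (x : X) (hO : IsLocalRing (O.presheaf.stalk x)) :
    IsLocalRing (stalkRing (pt x) O) := by
  haveI : Nontrivial (stalkRing (pt x) O) := nontrivial_stalkRing x hO.toNontrivial
  refine IsLocalRing.of_isUnit_or_isUnit_one_sub_self (fun a => ?_)
  obtain ⟨U, hx, α, rfl⟩ := exists_gr_eq (O := O) x a
  rcases IsLocalRing.isUnit_or_isUnit_one_sub_self (O.presheaf.germ U x hx α) with h | h
  · exact Or.inl (isUnit_gr_of_isUnit_germ x hx α h)
  · right
    have h' : IsUnit (O.presheaf.germ U x hx (1 - α)) := by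
      rw [map_sub, map_one]; exact h
    have := isUnit_gr_of_isUnit_germ x hx (1 - α) h'
    rwa [map_sub, map_one] at this

/-- a finite locally free module is of finite presentation -/
theorem fp_of_locFree (H : Mod O) (hH : ∀ x : X, ∃ (U : Opens X) (n : ℕ), x ∈ U ∧
      Nonempty ((restr O U).obj H ≅
        SheafOfModules.free (R := ringSh (O.over U)) (ULift.{u} (Fin n)))) :
    SheafOfModules.IsFinitePresentation (R := ringSh O) H := by
  classical
  rw [isFinitePresentation_iff_top]
  intro x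
  obtain ⟨U, n, hxU, hiso⟩ := hH x
  obtain ⟨s, hg, hi⟩ := (restr_iso_free_iff_top H U (ULift.{u} (Fin n))).1 hiso
  refine ⟨U, hxU, ULift.{u} (Fin n), PEmpty.{u + 1}, inferInstance, inferInstance, s,
    fun k => k.elim, ⟨hg, fun k => k.elim, ?_⟩⟩
  intro V hV a ha y hy
  refine ⟨V, le_rfl, hy, fun k => k.elim, fun j => ?_⟩
  rw [hi V hV a ha j, map_zero]
  exact (Fintype.sum_empty _).symm

/-- a retract is the cokernel of the complementary idempotent -/
noncomputable def retractCokerIso {F H : Mod O} (i : F ⟶ H) (p : H ⟶ F) (hip : i ≫ p = 𝟙 F) :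
    cokernel (𝟙 H - p ≫ i) ≅ F where
  hom := cokernel.desc _ p (by
    rw [Preadditive.sub_comp, Category.id_comp, Category.assoc, hip, Category.comp_id, sub_self])
  inv := i ≫ cokernel.π _
  hom_inv_id := by
    have hc := cokernel.condition (𝟙 H - p ≫ i)
    rw [Preadditive.sub_comp, Category.id_comp, Category.assoc, sub_eq_zero] at hc
    rw [← cancel_epi (cokernel.π (𝟙 H - p ≫ i)), cokernel.π_desc_assoc, Category.comp_id]
    exact hc.symm
  inv_hom_id := by rw [Category.assoc, cokernel.π_desc, hip]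

/-- germs of a local basis form a basis of the stalk -/
theorem stalk_basis (H : Mod O) (x : X) {U : Opens X} (hxU : x ∈ U) {ι : Type*} [Fintype ι]
    (s : ι → Sec H U) (hg : GenAt H U s) (hi : IndepAt H U s) :
    LinearIndependent (stalkRing (pt x) O) (fun k => gm x H hxU (s k)) ∧
      Submodule.span (stalkRing (pt x) O) (Set.range (fun k => gm x H hxU (s k))) = ⊤ := by
  classical
  constructor
  · rw [Fintype.linearIndependent_iff]
    intro c hc k
    obtain ⟨U₁, hU₁, hx1, a, ha⟩ := exists_lift_family_ring_top (O := O) x U hxU c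
    have h0 : gm x H hx1 (∑ j, a j • rs H hU₁ (s j)) = 0 := by
      rw [gm_sum]
      refine Eq.trans (Finset.sum_congr rfl (fun j _ => ?_)) hc
      rw [gm_smul, gm_rs, ha]
    obtain ⟨W, hW, hxW, hz⟩ := exists_nhd_zero_top x H U₁ hx1
      (fun _ : Unit => ∑ j, a j • rs H hU₁ (s j)) (fun _ => h0)
    have h1 := hz ()
    rw [rs_sum] at h1
    have h2 : ∑ j, rsR hW (a j) • rs H (hW.trans hU₁) (s j) = 0 := by
      rw [← h1]
      refine Finset.sum_congr rfl (fun j _ => ?_)
      rw [rs_smul, rs_rs]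
    have h3 : rsR hW (a k) = 0 := hi W (hW.trans hU₁) (fun j => rsR hW (a j)) h2 k
    rw [← ha k, ← gr_rsR (O := O) x hW hxW (a k), h3, map_zero]
  · rw [eq_top_iff]
    intro t _
    obtain ⟨V, hxV, m, rfl⟩ := exists_gm_eq x H t
    obtain ⟨W, hW, hxW, a, ha⟩ := hg (V ⊓ U) inf_le_right (rs H inf_le_left m) x ⟨hxV, hxU⟩
    have h1 : gm x H hxV m = ∑ j, gr x hxW (a j) • gm x H hxU (s j) := by
      rw [← gm_rs x H (inf_le_left : V ⊓ U ≤ V) ⟨hxV, hxU⟩ m, ← gm_rs x H hW hxW, ha, gm_sum]
      refine Finset.sum_congr rfl (fun j _ => ?_)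
      rw [gm_smul, gm_rs]
    rw [h1]
    exact Submodule.sum_mem _ (fun j _ => Submodule.smul_mem _ _ (Submodule.subset_span ⟨j, rfl⟩))

/-- a retract of a finite locally free module over a locally ringed space is finite locally free -/
theorem retract_locFree (hO : ∀ x : X, IsLocalRing (O.presheaf.stalk x)) {F H : Mod O}
    (hH : ∀ x : X, ∃ (U : Opens X) (n : ℕ), x ∈ U ∧
      Nonempty ((restr O U).obj H ≅
        SheafOfModules.free (R := ringSh (O.over U)) (ULift.{u} (Fin n))))
    (i : F ⟶ H) (p : H ⟶ F) (hip : i ≫ p = 𝟙 F) (x : X) :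
    ∃ (U : Opens X) (n : ℕ), x ∈ U ∧
      Nonempty ((restr O U).obj F ≅
        SheafOfModules.free (R := ringSh (O.over U)) (ULift.{u} (Fin n))) := by
  classical
  have hHfp := fp_of_locFree H hH
  have hHft : SheafOfModules.IsFiniteType (R := ringSh O) H := by
    haveI := hHfp
    infer_instance
  have hcok := fp_cokernel (𝟙 H - p ≫ i) hHft hHfp
  have hF : SheafOfModules.IsFinitePresentation (R := ringSh O) F :=
    (SheafOfModules.isFinitePresentation (ringSh O)).prop_of_iso (retractCokerIso i p hip) hcok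
  haveI := isLocalRing_stalkRing x (hO x)
  obtain ⟨U, n, hxU, hiso⟩ := hH x
  obtain ⟨s, hg, hi⟩ := (restr_iso_free_iff_top H U (ULift.{u} (Fin n))).1 hiso
  obtain ⟨hli, hsp⟩ := stalk_basis H x hxU s hg hi
  let b : Module.Basis (ULift.{u} (Fin n)) (stalkRing (pt x) O) (stalkAb (pt x) H) :=
    Module.Basis.mk hli (by rw [hsp])
  haveI : Module.Free (stalkRing (pt x) O) (stalkAb (pt x) H) := Module.Free.of_basis b
  haveI : Module.Finite (stalkRing (pt x) O) (stalkAb (pt x) H) := Module.Finite.of_basis b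
  let iL := stalkMapLin (pt x) i
  let pL := stalkMapLin (pt x) p
  have hpi : pL.comp iL = LinearMap.id := by
    apply LinearMap.ext
    intro t
    show stalkMapLin (pt x) p (stalkMapLin (pt x) i t) = t
    rw [← sml_comp, hip, sml_id]
  haveI : Module.Projective (stalkRing (pt x) O) (stalkAb (pt x) F) :=
    Module.Projective.of_split iL pL hpi
  haveI : Module.Finite (stalkRing (pt x) O) (stalkAb (pt x) F) :=
    Module.Finite.of_surjective pL (fun t => ⟨iL t, LinearMap.congr_fun hpi t⟩)
  haveI : Module.Free (stalkRing (pt x) O) (stalkAb (pt x) F) :=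
    Module.free_of_flat_of_isLocalRing
  let e := (Module.finBasis (stalkRing (pt x) O) (stalkAb (pt x) F)).equivFun
  obtain ⟨W, hxW, hW⟩ := locFree_of_stalk_free F hF x _ e
  exact ⟨W, _, hxW, hW⟩

end Groth.Agent.Lib.RSp
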