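import Mathlib
import Groth.Prelude.Def_ModSite2
import Groth.Agent.Lib.RSpP_lead

/-!
# Sections of filtered colimits of modules on a ringed space (lead)
-/

set_option autoImplicit false
set_option linter.unusedSimpArgs false
set_option linter.unusedVariables false
set_option linter.unusedSectionVars false
set_option linter.style.longLine false
set_option linter.unnecessarySimpa false
set_option maxHeartbeats 1600000
set_option backward.isDefEq.respectTransparency false
set_option backward.isDefEq.respectTransparency.types false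
set_option backward.defeqAttrib.useBackward true

universe u

open CategoryTheory Limits Opposite ModSite TopologicalSpace

namespace Groth.Agent.Lib.RSp

open Groth.Agent.Lib.ModSiteH8 Groth.Agent.Lib.StalkFlatPt Groth.Agent.Lib.StalkFlatA
open Groth.Agent.Lib.FreeFactor

variable {X : TopCat.{u}} {O : TopCat.Sheaf CommRingCat.{u} X}

/-- the stalk functor at a point -/
noncomputable abbrev stk (x : X) : Mod O ⥤ AddCommGrpCat.{u} :=
  SheafOfModules.toSheaf (ringSh O) ⋙ (pt x).sheafFiber

section Colim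

variable {I : Type u} [SmallCategory I] [IsFiltered I] (D : I ⥤ Mod O) (c : Cocone D)
  (hc : IsColimit c)

/-- the coprojection of a cocone, with its target displayed -/
abbrev cι (c : Cocone D) (i : I) : D.obj i ⟶ c.pt := c.ι.app i

omit [IsFiltered I] in
lemma cι_w (c : Cocone D) {i j : I} (f : i ⟶ j) : D.map f ≫ cι D c j = cι D c i := c.w f

/-- stalks commute with colimits -/
noncomputable def stkIsColimit (x : X) : IsColimit ((stk (O := O) x).mapCocone c) := by
  haveI := toSheaf_preservesColimitsOfSize (ringSh O)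
  exact isColimitOfPreserves (stk (O := O) x) hc

include hc in
/-- sections of a filtered colimit locally come from a term of the system -/
theorem exists_lift_colim (x : X) {U : Opens X} (hx : x ∈ U) (m : Sec c.pt U) :
    ∃ (i : I) (W : Opens X) (hW : W ≤ U), x ∈ W ∧
      ∃ mi : Sec (D.obj i) W, app (cι D c i) W mi = rs c.pt hW m := by
  obtain ⟨i, y, hy⟩ := Concrete.isColimit_exists_rep (D ⋙ stk (O := O) x)
    (stkIsColimit D c hc x) (gm x c.pt hx m)
  obtain ⟨V, hxV, m', rfl⟩ := exists_gm_eq x (D.obj i) y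
  have h1 : stalkMapLin (pt x) (cι D c i) (gm x (D.obj i) hxV m') = gm x c.pt hx m := hy
  rw [sml_gm] at h1
  have h2 : gm x c.pt (⟨hxV, hx⟩ : x ∈ V ⊓ U)
      (rs c.pt inf_le_left (app (cι D c i) V m') - rs c.pt inf_le_right m) = 0 := by
    rw [map_sub, gm_rs, gm_rs, h1, sub_self]
  obtain ⟨W, hW, hxW, hz⟩ := exists_nhd_zero_top x c.pt (V ⊓ U) ⟨hxV, hx⟩
    (fun _ : Unit => rs c.pt inf_le_left (app (cι D c i) V m') - rs c.pt inf_le_right m)
    (fun _ => h2)
  have h3 := hz ()
  rw [map_sub, sub_eq_zero, rs_rs, rs_rs] at h3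
  refine ⟨i, W, hW.trans inf_le_right, hxW, rs (D.obj i) (hW.trans inf_le_left) m', ?_⟩
  rw [app_rs]
  exact h3

include hc in
/-- sections killed in a filtered colimit are locally killed by a transition map -/
theorem exists_kill_colim (x : X) {i : I} {W : Opens X} (hx : x ∈ W) (mi : Sec (D.obj i) W)
    (h : app (cι D c i) W mi = 0) :
    ∃ (j : I) (f : i ⟶ j) (W' : Opens X) (hW' : W' ≤ W), x ∈ W' ∧
      rs (D.obj j) hW' (app (D.map f) W mi) = 0 := by
  have h0 : ((stk (O := O) x).mapCocone c).ι.app i (gm x (D.obj i) hx mi) =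
      ((stk (O := O) x).mapCocone c).ι.app i (0 : stalkAb (pt x) (D.obj i)) := by
    show stalkMapLin (pt x) (cι D c i) (gm x (D.obj i) hx mi) =
      stalkMapLin (pt x) (cι D c i) 0
    rw [sml_gm, h, map_zero, map_zero]
  obtain ⟨k, f, g, hfg⟩ := Concrete.isColimit_exists_of_rep_eq (D ⋙ stk (O := O) x)
    (stkIsColimit D c hc x) _ _ h0
  have h1 : stalkMapLin (pt x) (D.map f) (gm x (D.obj i) hx mi) =
      stalkMapLin (pt x) (D.map g) 0 := hfg
  rw [sml_gm, map_zero] at h1
  obtain ⟨W', hW', hxW', hz⟩ := exists_nhd_zero_top x (D.obj k) W hx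
    (fun _ : Unit => app (D.map f) W mi) (fun _ => h1)
  exact ⟨k, f, W', hW', hxW', hz ()⟩

include hc in
/-- a finite type filtered colimit on a quasi-compact space is a quotient of a term -/
theorem exists_epi_of_ft [CompactSpace X]
    (hft : SheafOfModules.IsFiniteType (R := ringSh O) c.pt) : ∃ i : I, Epi (cι D c i) := by
  classical
  rw [isFiniteType_iff_top] at hft
  have key : ∀ x : X, ∃ (W : Opens X) (i : I), x ∈ W ∧
      ∀ (V : Opens X) (hV : V ≤ W) (t : Sec c.pt V) (y : X), y ∈ V →
        ∃ (W' : Opens X) (hW' : W' ≤ V), y ∈ W' ∧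
          ∃ u : Sec (D.obj i) W', app (cι D c i) W' u = rs c.pt hW' t := by
    intro x
    obtain ⟨U, hxU, ι, hι, s, hg⟩ := hft x
    obtain ⟨W, hW, hxW, hl⟩ := common_nhd' (κ := ι) x U hxU
      (fun k W hW => ∃ (i : I) (m : Sec (D.obj i) W), app (cι D c i) W m = rs c.pt hW (s k))
      (by
        rintro k W hW W' h' ⟨i, m, hm⟩
        refine ⟨i, rs (D.obj i) h' m, ?_⟩
        rw [app_rs, hm, rs_rs])
      (fun k => by
        obtain ⟨i, W, hW, hxW, m, hm⟩ := exists_lift_colim D c hc x hxU (s k)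
        exact ⟨W, hW, hxW, i, m, hm⟩)
    choose ik mk hmk using hl
    obtain ⟨j, hj⟩ := IsFiltered.sup_objs_exists (Finset.univ.image ik)
    have fk : ∀ k, ik k ⟶ j :=
      fun k => (hj (Finset.mem_image_of_mem ik (Finset.mem_univ k))).some
    refine ⟨W, j, hxW, ?_⟩
    intro V hV t y hy
    obtain ⟨W', hW', hyW', a, ha⟩ := hg V (hV.trans hW) t y hy
    refine ⟨W', hW', hyW',
      ∑ k, a k • rs (D.obj j) (hW'.trans hV) (app (D.map (fk k)) W (mk k)), ?_⟩
    rw [map_sum, ha]
    refine Finset.sum_congr rfl (fun k _ => ?_)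
    rw [app_smul, app_rs, ← app_comp, cι_w D c (fk k), hmk k, rs_rs]
  choose Wx ix hxW hgen using key
  obtain ⟨t, -, ht⟩ := isCompact_univ.elim_nhds_subcover (fun x => (Wx x : Set X))
    (fun x _ => (Wx x).isOpen.mem_nhds (hxW x))
  obtain ⟨j, hj⟩ := IsFiltered.sup_objs_exists (t.image ix)
  have fx : ∀ x ∈ t, ix x ⟶ j := fun x hx => (hj (Finset.mem_image_of_mem ix hx)).some
  refine ⟨j, (epi_iff_top _).2 ?_⟩
  intro U s y hy
  obtain ⟨x, hxt, hyx⟩ := Set.mem_iUnion₂.1 (ht (Set.mem_univ y))
  obtain ⟨W', hW', hyW', u, hu⟩ :=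
    hgen x (U ⊓ Wx x) inf_le_right (rs c.pt inf_le_left s) y ⟨hy, hyx⟩
  refine ⟨W', hW'.trans inf_le_left, hyW', app (D.map (fx x hxt)) W' u, ?_⟩
  rw [← app_comp, cι_w D c, hu, rs_rs]

include hc in
/-- with injective transition maps the colimit is attained -/
theorem exists_iso_of_ft_of_mono [CompactSpace X]
    (hft : SheafOfModules.IsFiniteType (R := ringSh O) c.pt)
    (hmono : ∀ (i j : I) (f : i ⟶ j), Mono (D.map f)) : ∃ i : I, IsIso (cι D c i) := by
  obtain ⟨i, hi⟩ := exists_epi_of_ft D c hc hft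
  refine ⟨i, ?_⟩
  haveI := hi
  haveI : Mono (cι D c i) := by
    rw [mono_iff]
    intro U
    rw [injective_iff_map_eq_zero]
    intro m hm
    refine sec_ext_top (D.obj i) (fun x hx => ?_)
    obtain ⟨j, f, W', hW', hxW', hz⟩ := exists_kill_colim D c hc x hx m hm
    refine ⟨W', hW', hxW', ?_⟩
    rw [← app_rs] at hz
    have hinj := (mono_iff (D.map f)).1 (hmono i j f) W'
    rw [map_zero]
    apply hinj
    rw [hz, map_zero]
  exact isIso_of_mono_of_epi _

end Colim

end Groth.Agent.Lib.RSp
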