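import Mathlib
import Groth.Prelude.Def_ModSite2
import Groth.Agent.Lib.RSpS_lead
import Groth.Agent.Lib.RSpR_lead

/-!
# Morphisms out of a finitely presented module commute with directed colimits (lead)
-/

set_option autoImplicit false
set_option linter.unusedSimpArgs false
set_option linter.unusedVariables false
set_option linter.unusedSectionVars false
set_option linter.style.longLine false
set_option linter.unnecessarySimpa false
set_option maxHeartbeats 1600000
set_option backward.isDefEq.respectTransparency false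
set_option backward.isDefEq.respectTransparency.types false
set_option backward.defeqAttrib.useBackward true

universe u

open CategoryTheory Limits Opposite ModSite TopologicalSpace

namespace Groth.Agent.Lib.RSp

open Groth.Agent.Lib.ModSiteH8 Groth.Agent.Lib.StalkFlatPt Groth.Agent.Lib.StalkFlatA
open Groth.Agent.Lib.FreeFactor

variable {X : TopCat.{u}} {O : TopCat.Sheaf CommRingCat.{u} X}

section Directed

variable {I : Type u} [Preorder I] [Nonempty I] [IsDirected I (· ≤ ·)] (D : I ⥤ Mod O)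
  (c : Cocone D) (hc : IsColimit c)

omit [Nonempty I] [IsDirected I (· ≤ ·)] in
lemma app_map_trans {i j k : I} (h₁ : i ≤ j) (h₂ : j ≤ k) (V : Opens X) (y : Sec (D.obj i) V) :
    app (D.map (homOfLE (h₁.trans h₂))) V y =
      app (D.map (homOfLE h₂)) V (app (D.map (homOfLE h₁)) V y) := by
  rw [← app_comp, ← D.map_comp, homOfLE_comp]

omit [Nonempty I] [IsDirected I (· ≤ ·)] in
lemma kill_mono {i j₁ j : I} (h₁ : i ≤ j₁) (h₂ : j₁ ≤ j) {W₀ W₁ W' : Opens X} (hW₁ : W₁ ≤ W₀)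
    (hW' : W' ≤ W₁) (y : Sec (D.obj i) W₀)
    (hz : rs (D.obj j₁) hW₁ (app (D.map (homOfLE h₁)) W₀ y) = 0) :
    app (D.map (homOfLE (h₁.trans h₂))) W' (rs (D.obj i) (hW'.trans hW₁) y) = 0 := by
  rw [app_map_trans D h₁ h₂, app_rs, ← rs_rs (D.obj j₁) hW₁ hW', hz, map_zero, map_zero]

include hc in
/-- local morphisms into a term agreeing in the colimit agree after a transition map, over a
quasi-compact open -/
theorem linj {G : Mod O} (hG : SheafOfModules.IsFiniteType (R := ringSh O) G) (K : Opens X)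
    (hK : IsCompact (K : Set X)) {W : Opens X} (hKW : K ≤ W) (i : I) (δ δ' : LHom G (D.obj i) W)
    (h0 : ∀ (V : Opens X) (hV : V ≤ K) (t : Sec G V),
      app (cι D c i) V (δ.map V (hV.trans hKW) t) = app (cι D c i) V (δ'.map V (hV.trans hKW) t)) :
    ∃ (j : I) (hij : i ≤ j), ∀ (V : Opens X) (hV : V ≤ K) (t : Sec G V),
      app (D.map (homOfLE hij)) V (δ.map V (hV.trans hKW) t) =
        app (D.map (homOfLE hij)) V (δ'.map V (hV.trans hKW) t) := by
  classical
  rw [isFiniteType_iff_top] at hG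
  have key : ∀ x ∈ K, ∃ (Wx : Opens X) (hWx : Wx ≤ K) (j : I) (hij : i ≤ j), x ∈ Wx ∧
      ∀ (V : Opens X) (hV : V ≤ Wx) (t : Sec G V),
        app (D.map (homOfLE hij)) V (δ.map V ((hV.trans hWx).trans hKW) t) =
          app (D.map (homOfLE hij)) V (δ'.map V ((hV.trans hWx).trans hKW) t) := by
    intro x hxK
    obtain ⟨U, hxU, ι, hι, s, hg⟩ := hG x
    have hUK : U ⊓ K ≤ W := inf_le_right.trans hKW
    have hxUK : x ∈ U ⊓ K := ⟨hxU, hxK⟩
    let d : ι → Sec (D.obj i) (U ⊓ K) := fun k =>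
      δ.map (U ⊓ K) hUK (rs G inf_le_left (s k)) - δ'.map (U ⊓ K) hUK (rs G inf_le_left (s k))
    have hd : ∀ k, app (cι D c i) (U ⊓ K) (d k) = 0 := fun k => by
      show app (cι D c i) (U ⊓ K) (δ.map (U ⊓ K) hUK (rs G inf_le_left (s k)) -
        δ'.map (U ⊓ K) hUK (rs G inf_le_left (s k))) = 0
      rw [map_sub, h0 (U ⊓ K) inf_le_right, sub_self]
    obtain ⟨Wx, hWx, hxWx, hl⟩ := common_nhd' (κ := ι) x (U ⊓ K) hxUK
      (fun k W' hW' => ∃ (j : I) (hij : i ≤ j),
        rs (D.obj j) hW' (app (D.map (homOfLE hij)) (U ⊓ K) (d k)) = 0)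
      (by
        rintro k W' hW' W'' h'' ⟨j, hij, hz⟩
        refine ⟨j, hij, ?_⟩
        rw [← rs_rs (D.obj j) hW' h'', hz, map_zero])
      (fun k => by
        obtain ⟨j, f, W', hW', hxW', hz⟩ := exists_kill_colim D c hc x hxUK (d k) (hd k)
        exact ⟨W', hW', hxW', j, leOfHom f, hz⟩)
    choose jk hijk hzk using hl
    obtain ⟨j, hj⟩ := Finite.exists_le (fun o : Option ι => o.elim i jk)
    have hij : i ≤ j := hj none
    have hjk : ∀ k, jk k ≤ j := fun k => hj (some k)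
    refine ⟨Wx, hWx.trans inf_le_right, j, hij, hxWx, ?_⟩
    intro V hV t
    refine sec_ext_top (D.obj j) (fun y hy => ?_)
    obtain ⟨W', hW', hyW', a, ha⟩ := hg V ((hV.trans hWx).trans inf_le_left) t y hy
    refine ⟨W', hW', hyW', ?_⟩
    have hcomp : ∀ (ε : LHom G (D.obj i) W),
        rs (D.obj j) hW' (app (D.map (homOfLE hij)) V
          (ε.map V (((hV.trans hWx).trans inf_le_right).trans hKW) t)) =
          ∑ k, a k • app (D.map (homOfLE hij)) W'
            (rs (D.obj i) ((hW'.trans hV).trans hWx)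
              (ε.map (U ⊓ K) hUK (rs G inf_le_left (s k)))) := by
      intro ε
      rw [← app_rs, ← ε.map_rs, ha, map_sum, map_sum]
      refine Finset.sum_congr rfl (fun k _ => ?_)
      rw [ε.map_smul, app_smul, ← ε.map_rs (U ⊓ K) hUK W' ((hW'.trans hV).trans hWx), rs_rs]
    rw [hcomp δ, hcomp δ']
    refine Finset.sum_congr rfl (fun k _ => ?_)
    refine congrArg (fun z => a k • z) ?_
    have hkm := kill_mono D (hijk k) (hjk k) hWx (hW'.trans hV) (d k) (hzk k)
    have hsub : app (D.map (homOfLE hij)) W'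
        (rs (D.obj i) ((hW'.trans hV).trans hWx) (d k)) = 0 := hkm
    have e3 : app (D.map (homOfLE hij)) W' (rs (D.obj i) ((hW'.trans hV).trans hWx)
          (δ.map (U ⊓ K) hUK (rs G inf_le_left (s k)))) -
        app (D.map (homOfLE hij)) W' (rs (D.obj i) ((hW'.trans hV).trans hWx)
          (δ'.map (U ⊓ K) hUK (rs G inf_le_left (s k)))) = 0 := by
      rw [← map_sub, ← map_sub]
      exact hsub
    exact sub_eq_zero.1 e3
  choose Wx hWx jx hijx hxWx hloc using key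
  obtain ⟨T, hT⟩ := hK.elim_nhds_subcover' (fun x hx => (Wx x hx : Set X))
    (fun x hx => (Wx x hx).isOpen.mem_nhds (hxWx x hx))
  obtain ⟨j, hj⟩ := Finite.exists_le (fun o : Option T => o.elim i (fun p => jx p.1.1 p.1.2))
  have hij : i ≤ j := hj none
  refine ⟨j, hij, fun V hV t => ?_⟩
  refine sec_ext_top (D.obj j) (fun y hy => ?_)
  obtain ⟨p, hpT, hyp⟩ := Set.mem_iUnion₂.1 (hT (hV hy))
  have hjp : jx p.1 p.2 ≤ j := hj (some ⟨p, hpT⟩)
  refine ⟨V ⊓ Wx p.1 p.2, inf_le_left, ⟨hy, hyp⟩, ?_⟩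
  have hl := hloc p.1 p.2 (V ⊓ Wx p.1 p.2) inf_le_right (rs G inf_le_left t)
  have hh : ∀ ε : LHom G (D.obj i) W,
      rs (D.obj j) inf_le_left (app (D.map (homOfLE hij)) V (ε.map V (hV.trans hKW) t)) =
        app (D.map (homOfLE hjp)) (V ⊓ Wx p.1 p.2)
          (app (D.map (homOfLE (hijx p.1 p.2))) (V ⊓ Wx p.1 p.2)
            (ε.map (V ⊓ Wx p.1 p.2) ((inf_le_left.trans hV).trans hKW)
              (rs G inf_le_left t))) := by
    intro ε
    rw [← app_rs, ← ε.map_rs, ← app_map_trans D]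
  rw [hh δ, hh δ', hl]

include hc in
/-- injectivity of the comparison map -/
theorem inj_global
    (hX : ∀ (ι : Type u) (V : ι → Opens X), iSup V = ⊤ →
      ∃ (J : Type u) (_ : Finite J) (U : J → Opens X), iSup U = ⊤ ∧ (∀ j, ∃ i, U j ≤ V i) ∧
        ∀ j j', IsCompact ((U j ⊓ U j' : Opens X) : Set X))
    {G : Mod O} (hG : SheafOfModules.IsFiniteType (R := ringSh O) G) (i : I)
    (ψ ψ' : G ⟶ D.obj i) (h : ψ ≫ cι D c i = ψ' ≫ cι D c i) :
    ∃ (j : I) (hij : i ≤ j), ψ ≫ D.map (homOfLE hij) = ψ' ≫ D.map (homOfLE hij) := by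
  classical
  obtain ⟨J, hJ, U, hU, -, hcomp⟩ := hX PUnit.{u + 1} (fun _ => ⊤) (by simp)
  haveI := hJ
  have hl : ∀ a : J, ∃ (j : I) (hij : i ≤ j), ∀ (V : Opens X) (hV : V ≤ U a) (t : Sec G V),
      app (D.map (homOfLE hij)) V (app ψ V t) = app (D.map (homOfLE hij)) V (app ψ' V t) := by
    intro a
    have hKc : IsCompact ((U a : Opens X) : Set X) := by
      have := hcomp a a
      rwa [inf_idem] at this
    exact linj D c hc hG (U a) hKc le_top i (LHom.ofHom ψ ⊤) (LHom.ofHom ψ' ⊤)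
      (fun V hV t => by
        show app (cι D c i) V (app ψ V t) = app (cι D c i) V (app ψ' V t)
        rw [← app_comp, ← app_comp, h])
  choose ja hija hja using hl
  obtain ⟨j, hj⟩ := Finite.exists_le (fun o : Option J => o.elim i ja)
  have hij : i ≤ j := hj none
  refine ⟨j, hij, hom_ext' (fun V t => ?_)⟩
  rw [app_comp, app_comp]
  refine sec_ext_top (D.obj j) (fun y hy => ?_)
  have hy' : y ∈ iSup U := by rw [hU]; trivial
  obtain ⟨a, hya⟩ := Opens.mem_iSup.1 hy'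
  refine ⟨V ⊓ U a, inf_le_left, ⟨hy, hya⟩, ?_⟩
  have hja' : ja a ≤ j := hj (some a)
  have hh : ∀ ξ : G ⟶ D.obj i,
      rs (D.obj j) inf_le_left (app (D.map (homOfLE hij)) V (app ξ V t)) =
        app (D.map (homOfLE hja')) (V ⊓ U a) (app (D.map (homOfLE (hija a))) (V ⊓ U a)
          (app ξ (V ⊓ U a) (rs G inf_le_left t))) := by
    intro ξ
    rw [← app_rs, ← app_rs, ← app_map_trans D]
  rw [hh ψ, hh ψ', hja a _ inf_le_right]

include hc in
/-- surjectivity of the comparison map -/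
theorem surj_global
    (hX : ∀ (ι : Type u) (V : ι → Opens X), iSup V = ⊤ →
      ∃ (J : Type u) (_ : Finite J) (U : J → Opens X), iSup U = ⊤ ∧ (∀ j, ∃ i, U j ≤ V i) ∧
        ∀ j j', IsCompact ((U j ⊓ U j' : Opens X) : Set X))
    {G : Mod O} (hG : SheafOfModules.IsFinitePresentation (R := ringSh O) G) (φ : G ⟶ c.pt) :
    ∃ (i : I) (ψ : G ⟶ D.obj i), ψ ≫ cι D c i = φ := by
  classical
  have hGft : SheafOfModules.IsFiniteType (R := ringSh O) G := by
    haveI := hG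
    infer_instance
  have hfp := (isFinitePresentation_iff_top G).1 hG
  have star : ∀ x : X, ∃ (Wx : Opens X) (ix : I) (ψx : LHom G (D.obj ix) Wx), x ∈ Wx ∧
      ∀ (V : Opens X) (hV : V ≤ Wx) (t : Sec G V),
        app (cι D c ix) V (ψx.map V hV t) = app φ V t := by
    intro x
    obtain ⟨U, hxU, ι, κ, hι, hκ, s, r, hP⟩ := hfp x
    obtain ⟨W₁, hW₁, hxW₁, hl⟩ := common_nhd' (κ := ι) x U hxU
      (fun k W' hW' => ∃ (i : I) (m : Sec (D.obj i) W'),
        app (cι D c i) W' m = rs c.pt hW' (app φ U (s k)))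
      (by
        rintro k W' hW' W'' h'' ⟨i, m, hm⟩
        refine ⟨i, rs (D.obj i) h'' m, ?_⟩
        rw [app_rs, hm, rs_rs])
      (fun k => by
        obtain ⟨i, W', hW', hxW', m, hm⟩ := exists_lift_colim D c hc x hxU (app φ U (s k))
        exact ⟨W', hW', hxW', i, m, hm⟩)
    choose ik mk hmk using hl
    obtain ⟨i₁, hi₁⟩ := Finite.exists_le ik
    let m₁ : ι → Sec (D.obj i₁) W₁ := fun k => app (D.map (homOfLE (hi₁ k))) W₁ (mk k)
    have hm₁ : ∀ k, app (cι D c i₁) W₁ (m₁ k) = rs c.pt hW₁ (app φ U (s k)) := fun k => by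
      show app (cι D c i₁) W₁ (app (D.map (homOfLE (hi₁ k))) W₁ (mk k)) = _
      rw [← app_comp, cι_w, hmk k]
    let ρ : κ → Sec (D.obj i₁) W₁ := fun l => ∑ k, rsR hW₁ (r l k) • m₁ k
    have hρ : ∀ l, app (cι D c i₁) W₁ (ρ l) = 0 := fun l => by
      show app (cι D c i₁) W₁ (∑ k, rsR hW₁ (r l k) • m₁ k) = 0
      rw [map_sum]
      have h1 : ∀ k, app (cι D c i₁) W₁ (rsR hW₁ (r l k) • m₁ k) =
          rs c.pt hW₁ (app φ U (r l k • s k)) := fun k => by
        rw [app_smul, hm₁ k, app_smul, rs_smul]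
      rw [Finset.sum_congr rfl (fun k _ => h1 k), ← rs_sum, ← map_sum, hP.rel l, map_zero,
        map_zero]
    obtain ⟨W₂, hW₂, hxW₂, hl₂⟩ := common_nhd' (κ := κ) x W₁ hxW₁
      (fun l W' hW' => ∃ (j : I) (hij : i₁ ≤ j),
        rs (D.obj j) hW' (app (D.map (homOfLE hij)) W₁ (ρ l)) = 0)
      (by
        rintro l W' hW' W'' h'' ⟨j, hij, hz⟩
        refine ⟨j, hij, ?_⟩
        rw [← rs_rs (D.obj j) hW' h'', hz, map_zero])
      (fun l => by
        obtain ⟨j, f, W', hW', hxW', hz⟩ := exists_kill_colim D c hc x hxW₁ (ρ l) (hρ l)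
        exact ⟨W', hW', hxW', j, leOfHom f, hz⟩)
    choose jl hjl hzl using hl₂
    obtain ⟨i₂, hi₂⟩ := Finite.exists_le (fun o : Option κ => o.elim i₁ jl)
    have h12 : i₁ ≤ i₂ := hi₂ none
    let m₂ : ι → Sec (D.obj i₂) W₂ :=
      fun k => app (D.map (homOfLE h12)) W₂ (rs (D.obj i₁) hW₂ (m₁ k))
    have hrel : ∀ l, ∑ k, rsR (hW₂.trans hW₁) (r l k) • m₂ k = 0 := fun l => by
      have hkm := kill_mono D (hjl l) (hi₂ (some l)) hW₂ le_rfl (ρ l) (hzl l)
      have hkm' : app (D.map (homOfLE h12)) W₂ (rs (D.obj i₁) hW₂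
          (∑ k, rsR hW₁ (r l k) • m₁ k)) = 0 := hkm
      rw [rs_sum, map_sum] at hkm'
      rw [← hkm']
      refine Finset.sum_congr rfl (fun k _ => ?_)
      show rsR (hW₂.trans hW₁) (r l k) • app (D.map (homOfLE h12)) W₂ (rs (D.obj i₁) hW₂ (m₁ k)) =
        app (D.map (homOfLE h12)) W₂ (rs (D.obj i₁) hW₂ (rsR hW₁ (r l k) • m₁ k))
      rw [rs_smul, app_smul, rsR_rsR]
    have hm₂ : ∀ k, app (cι D c i₂) W₂ (m₂ k) =
        rs c.pt (hW₂.trans hW₁) (app φ U (s k)) := fun k => by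
      show app (cι D c i₂) W₂ (app (D.map (homOfLE h12)) W₂ (rs (D.obj i₁) hW₂ (m₁ k))) = _
      rw [← app_comp, cι_w, app_rs, hm₁ k, rs_rs]
    obtain ⟨ψ, hψ⟩ := LHom.exists_ofPres (hP.restrict (hW₂.trans hW₁)) m₂ hrel
    refine ⟨W₂, i₂, ψ, hxW₂, ?_⟩
    exact LHom.ext_of_gen (ψ.comp (cι D c i₂)) (LHom.ofHom φ W₂) _
      (hP.restrict (hW₂.trans hW₁)).gen (fun k => by
        show app (cι D c i₂) W₂ (ψ.map W₂ le_rfl (rs G (hW₂.trans hW₁) (s k))) =
          app φ W₂ (rs G (hW₂.trans hW₁) (s k))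
        rw [hψ k, hm₂ k, app_rs])
  choose Wx ix ψx hxWx hφx using star
  obtain ⟨J, hJ, U, hU, href, hcomp⟩ := hX X Wx
    (eq_top_iff.2 (fun x _ => Opens.mem_iSup.2 ⟨x, hxWx x⟩))
  haveI := hJ
  choose xa hxa using href
  obtain ⟨i₀, h₀⟩ := Finite.exists_le (fun a => ix (xa a))
  let ψ' : ∀ a, LHom G (D.obj i₀) (U a) :=
    fun a => ((ψx (xa a)).restrict (hxa a)).comp (D.map (homOfLE (h₀ a)))
  have hφ' : ∀ (a : J) (V : Opens X) (hV : V ≤ U a) (t : Sec G V),
      app (cι D c i₀) V ((ψ' a).map V hV t) = app φ V t := by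
    intro a V hV t
    show app (cι D c i₀) V (app (D.map (homOfLE (h₀ a))) V
      ((ψx (xa a)).map V (hV.trans (hxa a)) t)) = app φ V t
    rw [← app_comp, cι_w, hφx]
  have hpair : ∀ p : J × J, ∃ (j : I) (hij : i₀ ≤ j),
      ∀ (V : Opens X) (hV : V ≤ U p.1 ⊓ U p.2) (t : Sec G V),
        app (D.map (homOfLE hij)) V ((ψ' p.1).map V (hV.trans inf_le_left) t) =
          app (D.map (homOfLE hij)) V ((ψ' p.2).map V (hV.trans inf_le_right) t) := by
    intro p
    exact linj D c hc hGft (U p.1 ⊓ U p.2) (hcomp p.1 p.2) le_rfl i₀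
      ((ψ' p.1).restrict inf_le_left) ((ψ' p.2).restrict inf_le_right)
      (fun V hV t => by
        show app (cι D c i₀) V ((ψ' p.1).map V _ t) = app (cι D c i₀) V ((ψ' p.2).map V _ t)
        rw [hφ', hφ'])
  choose jp hjp heq using hpair
  obtain ⟨i₁, hi₁⟩ := Finite.exists_le (fun o : Option (J × J) => o.elim i₀ jp)
  have h01 : i₀ ≤ i₁ := hi₁ none
  let ψ'' : ∀ a, LHom G (D.obj i₁) (U a) := fun a => (ψ' a).comp (D.map (homOfLE h01))
  have compat : ∀ (a b : J) (V : Opens X) (h₁ : V ≤ U a) (h₂ : V ≤ U b) (t : Sec G V),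
      (ψ'' a).map V h₁ t = (ψ'' b).map V h₂ t := by
    intro a b V h₁ h₂ t
    show app (D.map (homOfLE h01)) V ((ψ' a).map V h₁ t) =
      app (D.map (homOfLE h01)) V ((ψ' b).map V h₂ t)
    have e := heq (a, b) V (le_inf h₁ h₂) t
    have hjp1 : jp (a, b) ≤ i₁ := hi₁ (some (a, b))
    have e' := congrArg (app (D.map (homOfLE hjp1)) V) e
    rw [← app_map_trans D (hjp (a, b)) hjp1, ← app_map_trans D (hjp (a, b)) hjp1] at e'
    exact e'
  obtain ⟨Ψ, hΨ⟩ := LHom.exists_glue U hU ψ'' compat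
  refine ⟨i₁, Ψ.toHom, hom_ext' (fun V t => ?_)⟩
  rw [app_comp, LHom.app_toHom]
  refine sec_ext_top c.pt (fun y hy => ?_)
  have hy' : y ∈ iSup U := by rw [hU]; trivial
  obtain ⟨a, hya⟩ := Opens.mem_iSup.1 hy'
  refine ⟨V ⊓ U a, inf_le_left, ⟨hy, hya⟩, ?_⟩
  rw [← app_rs, ← Ψ.map_rs, hΨ a (V ⊓ U a) inf_le_right, ← app_rs]
  show app (cι D c i₁) (V ⊓ U a) (app (D.map (homOfLE h01)) (V ⊓ U a)
    ((ψ' a).map (V ⊓ U a) inf_le_right (rs G inf_le_left t))) = _
  rw [← app_comp, cι_w, hφ']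


/-- `Hom(G, -)` commutes with directed colimits for `G` of finite presentation -/
theorem preservesColimit_coyoneda
    (hX : ∀ (ι : Type u) (V : ι → Opens X), iSup V = ⊤ →
      ∃ (J : Type u) (_ : Finite J) (U : J → Opens X), iSup U = ⊤ ∧ (∀ j, ∃ i, U j ≤ V i) ∧
        ∀ j j', IsCompact ((U j ⊓ U j' : Opens X) : Set X))
    (G : Mod O) (hG : SheafOfModules.IsFinitePresentation (R := ringSh O) G) :
    PreservesColimit D (coyoneda.obj (op G)) := by
  have hGft : SheafOfModules.IsFiniteType (R := ringSh O) G := by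
    haveI := hG
    infer_instance
  constructor
  intro c hc
  refine ⟨Types.FilteredColimit.isColimitOf' _ _ ?_ ?_⟩
  · intro φ
    obtain ⟨i, ψ, hψ⟩ := surj_global D c hc hX hG φ
    exact ⟨i, ψ, hψ.symm⟩
  · intro i ψ ψ' h
    obtain ⟨j, hij, hj⟩ := inj_global D c hc hX hGft i ψ ψ' h
    exact ⟨j, homOfLE hij, hj⟩

end Directed

end Groth.Agent.Lib.RSp
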