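import Mathlib
import Groth.Prelude.Def_CAlg2
import Groth.Prelude.Def_EGA4Misc
import Groth.Agent.Lib.RadBirat3_helper3
import Groth.Agent.Lib.NormBranch3_helper3

/-!
# Geometric unibranchness along integral birational morphisms (helper3)

APPEND-ONLY once landed.
-/

set_option autoImplicit false
set_option maxSynthPendingDepth 3
universe u

namespace Groth.Agent.Lib.RadBiratH3

open AlgebraicGeometry CategoryTheory IsLocalRing Groth.Agent.Lib.NormBranchH3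

section Generic

/-- in a sober space the generic points of irreducible components are the points without proper
generizations -/
theorem mem_genericPoints_iff {α : Type*} [TopologicalSpace α] [QuasiSober α] [T0Space α]
    (x : α) : x ∈ genericPoints α ↔ ∀ z : α, z ⤳ x → z = x := by
  constructor
  · intro hx z hz
    have hx' : Maximal IsIrreducible (closure ({x} : Set α)) := hx
    have hsub : closure ({x} : Set α) ⊆ closure {z} := specializes_iff_closure_subset.mp hz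
    have hirr : IsIrreducible (closure ({z} : Set α)) := isIrreducible_singleton.closure
    have hle : closure ({z} : Set α) ⊆ closure {x} := hx'.2 hirr hsub
    have hxz : x ⤳ z := specializes_iff_closure_subset.mpr hle
    exact (hz.antisymm hxz).eq
  · intro h
    show Maximal IsIrreducible (closure ({x} : Set α))
    refine ⟨isIrreducible_singleton.closure, fun s hs hsub => ?_⟩
    obtain ⟨z, hz⟩ := QuasiSober.sober hs.closure isClosed_closure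
    have hzx : z ⤳ x := by
      rw [specializes_iff_closure_subset, hz.def]
      exact hsub.trans subset_closure
    have hzeq := h z hzx
    subst hzeq
    rw [hz.def]
    exact subset_closure

theorem primeIdealOf_congr {Y : Scheme.{u}} {V : Y.Opens} (hV : IsAffineOpen V) {y₁ y₂ : Y}
    (h : y₁ = y₂) (h₁ : y₁ ∈ V) (h₂ : y₂ ∈ V) :
    hV.primeIdealOf ⟨y₁, h₁⟩ = hV.primeIdealOf ⟨y₂, h₂⟩ := by
  subst h
  rfl

/-- generic points in an affine chart are the minimal primes -/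
theorem mem_genericPoints_iff_primeIdealOf {Y : Scheme.{u}} {V : Y.Opens} (hV : IsAffineOpen V)
    (η : Y) (hη : η ∈ V) :
    η ∈ genericPoints Y ↔ (hV.primeIdealOf ⟨η, hη⟩).asIdeal ∈ minimalPrimes Γ(Y, V) := by
  rw [mem_genericPoints_iff]
  constructor
  · intro h
    refine ⟨⟨(hV.primeIdealOf ⟨η, hη⟩).isPrime, bot_le⟩, fun q hq hle => ?_⟩
    have hspec : (⟨q, hq.1⟩ : PrimeSpectrum Γ(Y, V)) ⤳ hV.primeIdealOf ⟨η, hη⟩ :=
      (PrimeSpectrum.le_iff_specializes _ _).mp hle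
    have h2 : hV.fromSpec ⟨q, hq.1⟩ ⤳ hV.fromSpec (hV.primeIdealOf ⟨η, hη⟩) :=
      hspec.map hV.fromSpec.continuous
    rw [hV.fromSpec_primeIdealOf ⟨η, hη⟩] at h2
    have h3 : hV.fromSpec ⟨q, hq.1⟩ = η := h _ h2
    have h4 : hV.primeIdealOf ⟨hV.fromSpec ⟨q, hq.1⟩, fromSpec_mem hV _⟩ = ⟨q, hq.1⟩ :=
      primeIdealOf_fromSpec hV _ _
    have h5 : (⟨q, hq.1⟩ : PrimeSpectrum Γ(Y, V)) = hV.primeIdealOf ⟨η, hη⟩ := by
      rw [← h4]
      exact primeIdealOf_congr hV h3 _ _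
    exact le_of_eq (congrArg PrimeSpectrum.asIdeal h5).symm
  · intro h z hz
    have hzV : z ∈ V := hz.mem_open V.2 hη
    have hspec : hV.primeIdealOf ⟨z, hzV⟩ ⤳ hV.primeIdealOf ⟨η, hη⟩ := by
      refine (hV.fromSpec.isOpenEmbedding.isInducing.specializes_iff
        (x := hV.primeIdealOf ⟨z, hzV⟩) (y := hV.primeIdealOf ⟨η, hη⟩)).mp ?_
      rw [hV.fromSpec_primeIdealOf, hV.fromSpec_primeIdealOf]
      exact hz
    have hle := (PrimeSpectrum.le_iff_specializes _ _).mpr hspec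
    have hle' := h.2 ⟨(hV.primeIdealOf ⟨z, hzV⟩).isPrime, bot_le⟩ hle
    have heq : hV.primeIdealOf ⟨z, hzV⟩ = hV.primeIdealOf ⟨η, hη⟩ :=
      PrimeSpectrum.ext (le_antisymm hle hle')
    exact primeIdealOf_injective hV ⟨z, hzV⟩ ⟨η, hη⟩ heq

end Generic

section RingSurj

/-- going up from the minimal primes -/
theorem exists_prime_over_of_minimal {A B : Type u} [CommRing A] [CommRing B] [Algebra A B]
    [Algebra.IsIntegral A B]
    (h2 : ∀ q ∈ minimalPrimes A, ∃ Q : Ideal B, Q.IsPrime ∧ Q.comap (algebraMap A B) = q)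
    (q : Ideal A) (hq : q.IsPrime) : ∃ Q : Ideal B, Q.IsPrime ∧ Q.comap (algebraMap A B) = q := by
  haveI := hq
  obtain ⟨qm, hqm, hle⟩ := Ideal.exists_minimalPrimes_le (bot_le : (⊥ : Ideal A) ≤ q)
  obtain ⟨Qm, hQm, hQmc⟩ := h2 qm hqm
  haveI := hQm
  obtain ⟨Q, -, hQ, hQc⟩ :=
    Ideal.exists_ideal_over_prime_of_isIntegral_of_isPrime q Qm (hQmc ▸ hle)
  exact ⟨Q, hQ, hQc⟩

end RingSurj

section Chart

variable {X Y : Scheme.{u}} (f : X ⟶ Y) {V : Y.Opens} (hV : IsAffineOpen V)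
  (hW : IsAffineOpen (f ⁻¹ᵁ V))

include hV hW in
theorem chart_h1 (hf : RadPt.IsBirational f) :
    ∀ Q ∈ minimalPrimes Γ(X, f ⁻¹ᵁ V),
      Q.comap (f.appLE V (f ⁻¹ᵁ V) le_rfl).hom ∈ minimalPrimes Γ(Y, V) := by
  intro Q hQ
  have hξW : hW.fromSpec ⟨Q, hQ.1.1⟩ ∈ f ⁻¹ᵁ V := fromSpec_mem hW _
  have hpi : hW.primeIdealOf ⟨_, hξW⟩ = ⟨Q, hQ.1.1⟩ := primeIdealOf_fromSpec hW _ hξW
  have hgen : hW.fromSpec ⟨Q, hQ.1.1⟩ ∈ genericPoints X := by
    rw [mem_genericPoints_iff_primeIdealOf hW _ hξW, hpi]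
    exact hQ
  have hgen' : f (hW.fromSpec ⟨Q, hQ.1.1⟩) ∈ genericPoints Y := hf.1.mapsTo hgen
  rw [mem_genericPoints_iff_primeIdealOf hV _ hξW] at hgen'
  have hc := IsAffineOpen.comap_primeIdealOf_appLE V hV (f ⁻¹ᵁ V) hW le_rfl hξW
  rw [← hc, hpi] at hgen'
  exact hgen'

include hV hW in
theorem chart_h2 (hf : RadPt.IsBirational f) :
    ∀ q ∈ minimalPrimes Γ(Y, V), ∃ Q : Ideal Γ(X, f ⁻¹ᵁ V), Q.IsPrime ∧
      Q.comap (f.appLE V (f ⁻¹ᵁ V) le_rfl).hom = q ∧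
      (∀ Q' : Ideal Γ(X, f ⁻¹ᵁ V), Q'.IsPrime →
        Q'.comap (f.appLE V (f ⁻¹ᵁ V) le_rfl).hom = q → Q' = Q) ∧
      ∀ b : Γ(X, f ⁻¹ᵁ V), ∃ a s : Γ(Y, V), s ∉ q ∧
        (f.appLE V (f ⁻¹ᵁ V) le_rfl).hom s * b - (f.appLE V (f ⁻¹ᵁ V) le_rfl).hom a ∈ Q := by
  intro q hq
  have hηV : hV.fromSpec ⟨q, hq.1.1⟩ ∈ V := fromSpec_mem hV _
  have hpη : hV.primeIdealOf ⟨_, hηV⟩ = ⟨q, hq.1.1⟩ := primeIdealOf_fromSpec hV _ hηV
  have hηgen : hV.fromSpec ⟨q, hq.1.1⟩ ∈ genericPoints Y := by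
    rw [mem_genericPoints_iff_primeIdealOf hV _ hηV, hpη]
    exact hq
  obtain ⟨ξ, hξgen, hξη⟩ := hf.1.surjOn hηgen
  have hξW : ξ ∈ f ⁻¹ᵁ V := by
    show f ξ ∈ V
    rw [hξη]
    exact hηV
  have hpfξ : hV.primeIdealOf ⟨f ξ, hξW⟩ = ⟨q, hq.1.1⟩ := by
    rw [← hpη]
    exact primeIdealOf_congr hV hξη _ _
  have hc : (hW.primeIdealOf ⟨ξ, hξW⟩).asIdeal.comap (f.appLE V (f ⁻¹ᵁ V) le_rfl).hom = q := by
    have := congrArg PrimeSpectrum.asIdeal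
      (IsAffineOpen.comap_primeIdealOf_appLE V hV (f ⁻¹ᵁ V) hW le_rfl hξW)
    rw [hpfξ] at this
    exact this
  refine ⟨(hW.primeIdealOf ⟨ξ, hξW⟩).asIdeal, (hW.primeIdealOf ⟨ξ, hξW⟩).isPrime, hc, ?_, ?_⟩
  · intro Q' hQ' hQ'c
    have hξ'W : hW.fromSpec ⟨Q', hQ'⟩ ∈ f ⁻¹ᵁ V := fromSpec_mem hW _
    have hpi' : hW.primeIdealOf ⟨_, hξ'W⟩ = ⟨Q', hQ'⟩ := primeIdealOf_fromSpec hW _ hξ'W
    have h3 : hV.primeIdealOf ⟨f (hW.fromSpec ⟨Q', hQ'⟩), hξ'W⟩ =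
        hV.primeIdealOf ⟨_, hηV⟩ := by
      rw [← IsAffineOpen.comap_primeIdealOf_appLE V hV (f ⁻¹ᵁ V) hW le_rfl hξ'W, hpi', hpη]
      exact PrimeSpectrum.ext hQ'c
    have h4 : f (hW.fromSpec ⟨Q', hQ'⟩) = hV.fromSpec ⟨q, hq.1.1⟩ :=
      primeIdealOf_injective hV ⟨_, hξ'W⟩ ⟨_, hηV⟩ h3
    have h5 : ξ = hW.fromSpec ⟨Q', hQ'⟩ := (hf.2 _ hηgen).1 _ _ hξη h4
    have h6 : hW.primeIdealOf ⟨ξ, hξW⟩ = ⟨Q', hQ'⟩ := by
      rw [← hpi']
      exact primeIdealOf_congr hW h5 _ _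
    exact (congrArg PrimeSpectrum.asIdeal h6).symm
  · intro b
    letI algAR := Y.presheaf.algebra_section_stalk ⟨f ξ, hξW⟩
    haveI locR := hV.isLocalization_stalk ⟨f ξ, hξW⟩
    letI algBS := X.presheaf.algebra_section_stalk ⟨ξ, hξW⟩
    haveI locS := hW.isLocalization_stalk ⟨ξ, hξW⟩
    have hbij : Function.Bijective (f.residueFieldMap ξ).hom := (hf.2 _ hηgen).2 ξ hξη
    obtain ⟨z, hz⟩ := hbij.2 (residue _ (algebraMap Γ(X, f ⁻¹ᵁ V) (X.presheaf.stalk ξ) b))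
    obtain ⟨r, rfl⟩ := residue_surjective z
    obtain ⟨a, s, rfl⟩ := IsLocalization.exists_mk'_eq
      (hV.primeIdealOf ⟨f ξ, hξW⟩).asIdeal.primeCompl r
    have hstalk : ∀ a : Γ(Y, V), (f.stalkMap ξ).hom
        (algebraMap Γ(Y, V) (Y.presheaf.stalk (f ξ)) a) =
        algebraMap Γ(X, f ⁻¹ᵁ V) (X.presheaf.stalk ξ) ((f.appLE V (f ⁻¹ᵁ V) le_rfl).hom a) := by
      intro a
      rw [← Scheme.Hom.app_eq_appLE]
      exact Scheme.Hom.germ_stalkMap_apply f V ξ hξW a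
    have hz' : residue _ ((f.stalkMap ξ).hom (IsLocalization.mk' (Y.presheaf.stalk (f ξ)) a s)) =
        residue _ (algebraMap Γ(X, f ⁻¹ᵁ V) (X.presheaf.stalk ξ) b) := hz
    have hmul : (f.stalkMap ξ).hom (IsLocalization.mk' (Y.presheaf.stalk (f ξ)) a s) *
        algebraMap Γ(X, f ⁻¹ᵁ V) (X.presheaf.stalk ξ) ((f.appLE V (f ⁻¹ᵁ V) le_rfl).hom s) =
        algebraMap Γ(X, f ⁻¹ᵁ V) (X.presheaf.stalk ξ) ((f.appLE V (f ⁻¹ᵁ V) le_rfl).hom a) := by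
      rw [← hstalk, ← hstalk, ← map_mul, IsLocalization.mk'_spec]
    refine ⟨a, s, ?_, ?_⟩
    · have hthis : (hV.primeIdealOf ⟨f ξ, hξW⟩).asIdeal = q :=
        congrArg PrimeSpectrum.asIdeal hpfξ
      intro hsq
      exact s.2 (hthis.symm.le hsq)
    · rw [← IsLocalization.AtPrime.to_map_mem_maximal_iff (X.presheaf.stalk ξ)
        (hW.primeIdealOf ⟨ξ, hξW⟩).asIdeal, ← residue_eq_zero_iff]
      have h7 := congrArg (residue (X.presheaf.stalk ξ)) hmul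
      simp only [map_mul, map_sub] at h7 ⊢
      rw [← h7, hz']
      ring

end Chart

end Groth.Agent.Lib.RadBiratH3
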