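import Mathlib
import Groth.Prelude.Def_CAlg2
import Groth.Prelude.Def_EGA4Misc
import Groth.Agent.Lib.RadBirat4_helper3

/-!
# Geometric unibranchness along integral birational morphisms: the main statements (helper3)

APPEND-ONLY once landed.
-/

set_option autoImplicit false
set_option maxSynthPendingDepth 3
universe u

namespace Groth.Agent.Lib.RadBiratH3

open AlgebraicGeometry CategoryTheory IsLocalRing Groth.Agent.Lib.NormBranchH3

section Chart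

variable {X Y : Scheme.{u}} (f : X ⟶ Y) {V : Y.Opens} (hV : IsAffineOpen V)

include hV in
/-- the statement at a point `x` of `X` in an affine chart -/
theorem stalk_iff [IsIntegralHom f] (hf : RadPt.IsBirational f) (x : X) (hx : x ∈ f ⁻¹ᵁ V) :
    CAlg2.IsGeomUnibranch (Y.presheaf.stalk (f x)) ↔
      ((∀ x' : X, f x' = f x → x' = x) ∧ (f.residueFieldMap x).hom.IsPurelyInseparable ∧
        CAlg2.IsGeomUnibranch (X.presheaf.stalk x)) := by
  have hW : IsAffineOpen (f ⁻¹ᵁ V) := hV.preimage f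
  letI algAB : Algebra Γ(Y, V) Γ(X, f ⁻¹ᵁ V) := (f.appLE V (f ⁻¹ᵁ V) le_rfl).hom.toAlgebra
  haveI hint : Algebra.IsIntegral Γ(Y, V) Γ(X, f ⁻¹ᵁ V) := by
    have h := IsIntegralHom.isIntegral_app f V hV
    rw [Scheme.Hom.app_eq_appLE] at h
    exact algebraMap_isIntegral_iff.mp h
  have h1 := chart_h1 f hV hW hf
  have h2 := chart_h2 f hV hW hf
  letI algAR := Y.presheaf.algebra_section_stalk ⟨f x, hx⟩
  haveI locR := hV.isLocalization_stalk ⟨f x, hx⟩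
  letI algBS := X.presheaf.algebra_section_stalk ⟨x, hx⟩
  haveI locS := hW.isLocalization_stalk ⟨x, hx⟩
  letI algRS : Algebra (Y.presheaf.stalk (f x)) (X.presheaf.stalk x) :=
    (f.stalkMap x).hom.toAlgebra
  letI algAS : Algebra Γ(Y, V) (X.presheaf.stalk x) :=
    ((algebraMap Γ(X, f ⁻¹ᵁ V) (X.presheaf.stalk x)).comp
      (algebraMap Γ(Y, V) Γ(X, f ⁻¹ᵁ V))).toAlgebra
  haveI tow1 : IsScalarTower Γ(Y, V) Γ(X, f ⁻¹ᵁ V) (X.presheaf.stalk x) :=
    IsScalarTower.of_algebraMap_eq (fun _ => rfl)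
  have hstalk : ∀ a : Γ(Y, V), (f.stalkMap x).hom
      (algebraMap Γ(Y, V) (Y.presheaf.stalk (f x)) a) =
      algebraMap Γ(X, f ⁻¹ᵁ V) (X.presheaf.stalk x) ((f.appLE V (f ⁻¹ᵁ V) le_rfl).hom a) := by
    intro a
    rw [← Scheme.Hom.app_eq_appLE]
    exact Scheme.Hom.germ_stalkMap_apply f V x hx a
  haveI tow2 : IsScalarTower Γ(Y, V) (Y.presheaf.stalk (f x)) (X.presheaf.stalk x) :=
    IsScalarTower.of_algebraMap_eq (fun a => (hstalk a).symm)
  haveI hloc : IsLocalHom (algebraMap (Y.presheaf.stalk (f x)) (X.presheaf.stalk x)) :=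
    inferInstanceAs (IsLocalHom (f.stalkMap x).hom)
  have hP : (hW.primeIdealOf ⟨x, hx⟩).asIdeal.comap (algebraMap Γ(Y, V) Γ(X, f ⁻¹ᵁ V)) =
      (hV.primeIdealOf ⟨f x, hx⟩).asIdeal :=
    congrArg PrimeSpectrum.asIdeal
      (IsAffineOpen.comap_primeIdealOf_appLE V hV (f ⁻¹ᵁ V) hW le_rfl hx)
  have hfib : (∀ x' : X, f x' = f x → x' = x) ↔
      (∀ P' : Ideal Γ(X, f ⁻¹ᵁ V), P'.IsPrime →
        P'.comap (algebraMap Γ(Y, V) Γ(X, f ⁻¹ᵁ V)) = (hV.primeIdealOf ⟨f x, hx⟩).asIdeal →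
        P' = (hW.primeIdealOf ⟨x, hx⟩).asIdeal) := by
    constructor
    · intro hu P' hP' hP'c
      have hξ'W : hW.fromSpec ⟨P', hP'⟩ ∈ f ⁻¹ᵁ V := fromSpec_mem hW _
      have hpi' : hW.primeIdealOf ⟨_, hξ'W⟩ = ⟨P', hP'⟩ := primeIdealOf_fromSpec hW _ hξ'W
      have h3 : hV.primeIdealOf ⟨f (hW.fromSpec ⟨P', hP'⟩), hξ'W⟩ =
          hV.primeIdealOf ⟨f x, hx⟩ := by
        rw [← IsAffineOpen.comap_primeIdealOf_appLE V hV (f ⁻¹ᵁ V) hW le_rfl hξ'W, hpi']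
        exact PrimeSpectrum.ext hP'c
      have h4 : f (hW.fromSpec ⟨P', hP'⟩) = f x :=
        primeIdealOf_injective hV ⟨_, hξ'W⟩ ⟨_, hx⟩ h3
      have h5 := hu _ h4
      have h6 : hW.primeIdealOf ⟨x, hx⟩ = ⟨P', hP'⟩ := by
        rw [← hpi']
        exact primeIdealOf_congr hW h5.symm _ _
      exact (congrArg PrimeSpectrum.asIdeal h6).symm
    · intro hu x' hx'
      have hx'W : x' ∈ f ⁻¹ᵁ V := by
        show f x' ∈ V
        rw [hx']
        exact hx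
      have hc : (hW.primeIdealOf ⟨x', hx'W⟩).asIdeal.comap
          (algebraMap Γ(Y, V) Γ(X, f ⁻¹ᵁ V)) = (hV.primeIdealOf ⟨f x, hx⟩).asIdeal := by
        have h3 := congrArg PrimeSpectrum.asIdeal
          (IsAffineOpen.comap_primeIdealOf_appLE V hV (f ⁻¹ᵁ V) hW le_rfl hx'W)
        rw [primeIdealOf_congr hV hx' hx'W hx] at h3
        exact h3
      have h4 := hu _ (hW.primeIdealOf ⟨x', hx'W⟩).isPrime hc
      exact primeIdealOf_injective hW ⟨x', hx'W⟩ ⟨x, hx⟩ (PrimeSpectrum.ext h4)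
  constructor
  · intro hGU
    obtain ⟨huniq, hall⟩ := radicial_of_isGeomUnibranch h1 h2
      (hV.primeIdealOf ⟨f x, hx⟩).asIdeal (Y.presheaf.stalk (f x)) hGU
    obtain ⟨hpi, hS⟩ := hall (hW.primeIdealOf ⟨x, hx⟩).asIdeal hP (X.presheaf.stalk x)
    exact ⟨hfib.mpr (fun P' hP' hc => huniq P' _ hP' (hW.primeIdealOf ⟨x, hx⟩).isPrime hc hP),
      hpi, hS⟩
  · rintro ⟨hu, hpi, hS⟩
    have hsurj := exists_prime_over_of_minimal (A := Γ(Y, V)) (B := Γ(X, f ⁻¹ᵁ V))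
      (fun q hq => by
        obtain ⟨Q, hQ, hQc, -⟩ := h2 q hq
        exact ⟨Q, hQ, hQc⟩)
    exact isGeomUnibranch_of_fibre hsurj (hV.primeIdealOf ⟨f x, hx⟩).asIdeal
      (hW.primeIdealOf ⟨x, hx⟩).asIdeal (hfib.mp hu) (Y.presheaf.stalk (f x))
      (X.presheaf.stalk x) hpi hS

include hV in
/-- surjectivity in an affine chart -/
theorem exists_preimage_of_mem [IsIntegralHom f] (hf : RadPt.IsBirational f) (y : Y) (hy : y ∈ V) :
    ∃ x : X, f x = y := by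
  have hW : IsAffineOpen (f ⁻¹ᵁ V) := hV.preimage f
  letI algAB : Algebra Γ(Y, V) Γ(X, f ⁻¹ᵁ V) := (f.appLE V (f ⁻¹ᵁ V) le_rfl).hom.toAlgebra
  haveI hint : Algebra.IsIntegral Γ(Y, V) Γ(X, f ⁻¹ᵁ V) := by
    have h := IsIntegralHom.isIntegral_app f V hV
    rw [Scheme.Hom.app_eq_appLE] at h
    exact algebraMap_isIntegral_iff.mp h
  have h2 := chart_h2 f hV hW hf
  obtain ⟨P, hP, hPc⟩ := exists_prime_over_of_minimal (A := Γ(Y, V)) (B := Γ(X, f ⁻¹ᵁ V))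
    (fun q hq => by
      obtain ⟨Q, hQ, hQc, -⟩ := h2 q hq
      exact ⟨Q, hQ, hQc⟩) (hV.primeIdealOf ⟨y, hy⟩).asIdeal (hV.primeIdealOf ⟨y, hy⟩).isPrime
  have hξW : hW.fromSpec ⟨P, hP⟩ ∈ f ⁻¹ᵁ V := fromSpec_mem hW _
  have hpi : hW.primeIdealOf ⟨_, hξW⟩ = ⟨P, hP⟩ := primeIdealOf_fromSpec hW _ hξW
  have h3 : hV.primeIdealOf ⟨f (hW.fromSpec ⟨P, hP⟩), hξW⟩ = hV.primeIdealOf ⟨y, hy⟩ := by
    rw [← IsAffineOpen.comap_primeIdealOf_appLE V hV (f ⁻¹ᵁ V) hW le_rfl hξW, hpi]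
    exact PrimeSpectrum.ext hPc
  exact ⟨_, primeIdealOf_injective hV ⟨_, hξW⟩ ⟨_, hy⟩ h3⟩

end Chart

section Main

variable {X Y : Scheme.{u}} (f : X ⟶ Y) [IsIntegralHom f]

theorem surjective_of_isBirational (hf : RadPt.IsBirational f) (y : Y) : ∃ x : X, f x = y := by
  obtain ⟨_, ⟨V, hV, rfl⟩, hyV, -⟩ := Y.isBasis_affineOpens.exists_subset_of_mem_open
    (Set.mem_univ y) isOpen_univ
  exact exists_preimage_of_mem f hV hf y hyV

theorem stalk_iff' (hf : RadPt.IsBirational f) (x : X) :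
    CAlg2.IsGeomUnibranch (Y.presheaf.stalk (f x)) ↔
      ((∀ x' : X, f x' = f x → x' = x) ∧ (f.residueFieldMap x).hom.IsPurelyInseparable ∧
        CAlg2.IsGeomUnibranch (X.presheaf.stalk x)) := by
  obtain ⟨_, ⟨V, hV, rfl⟩, hyV, -⟩ := Y.isBasis_affineOpens.exists_subset_of_mem_open
    (Set.mem_univ (f x)) isOpen_univ
  exact stalk_iff f hV hf x hyV

/-- EGA IV: along an integral birational morphism, `Y` is geometrically unibranch at `y` iff `f`
is radicial at `y` and `X` is geometrically unibranch at the points over `y`. -/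
theorem main5865 (hf : RadPt.IsBirational f) (y : Y) :
    CAlg2.IsGeomUnibranch (Y.presheaf.stalk y) ↔
      (RadPt.IsRadicialAt f y ∧
        ∀ x : X, f x = y → CAlg2.IsGeomUnibranch (X.presheaf.stalk x)) := by
  obtain ⟨x₀, rfl⟩ := surjective_of_isBirational f hf y
  rw [stalk_iff' f hf x₀]
  constructor
  · rintro ⟨hu, hpi, hS⟩
    refine ⟨⟨fun x x' hx hx' => (hu x hx).trans (hu x' hx').symm, fun x hx => ?_⟩,
      fun x hx => ?_⟩
    · obtain rfl := hu x hx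
      exact hpi
    · obtain rfl := hu x hx
      exact hS
  · rintro ⟨⟨hu, hpi⟩, hS⟩
    exact ⟨fun x' hx' => hu x' x₀ hx' rfl, hpi x₀ rfl, hS x₀ rfl⟩

/-- the global form -/
theorem main5866 (hf : RadPt.IsBirational f) :
    (∀ y : Y, CAlg2.IsGeomUnibranch (Y.presheaf.stalk y)) ↔
      ((∀ x : X, CAlg2.IsGeomUnibranch (X.presheaf.stalk x)) ∧ UniversallyInjective f) := by
  have htfae := (tfae_universallyInjective f).out 0 2
  rw [htfae]
  constructor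
  · intro h
    have h' : ∀ x : X, (∀ x' : X, f x' = f x → x' = x) ∧
        (f.residueFieldMap x).hom.IsPurelyInseparable ∧
        CAlg2.IsGeomUnibranch (X.presheaf.stalk x) := fun x => (stalk_iff' f hf x).mp (h (f x))
    exact ⟨fun x => (h' x).2.2, fun x x' hxx' => ((h' x').1 x hxx'), fun x => (h' x).2.1⟩
  · rintro ⟨hS, hinj, hpi⟩ y
    obtain ⟨x₀, rfl⟩ := surjective_of_isBirational f hf y
    exact (stalk_iff' f hf x₀).mpr ⟨fun x' hx' => hinj hx', hpi x₀, hS x₀⟩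

end Main

end Groth.Agent.Lib.RadBiratH3
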