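import Mathlib
import Groth.Prelude

/-!
# Radicial at a point is invariant under base change (helper4).
APPEND-ONLY once landed.
-/

set_option autoImplicit false
set_option linter.style.haveILetI false

universe u

open CategoryTheory CategoryTheory.Limits AlgebraicGeometry

namespace Groth.Agent.Lib.RadPtBCH4

/-- field-valued-point form of "radicial at `y`". -/
def PtInj {X Y : Scheme.{u}} (f : X ⟶ Y) (y : Y) : Prop :=
  ∀ (K : Type u) [Field K] (g₁ g₂ : Spec (.of K) ⟶ X), g₁ ≫ f = g₂ ≫ f →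
    (g₁ ≫ f) (IsLocalRing.closedPoint K) = y → g₁ = g₂

theorem epi_like {X : Scheme.{u}} {K L : Type u} [Field K] [Field L]
    (ψ : CommRingCat.of K ⟶ CommRingCat.of L) (g₁ g₂ : Spec (.of K) ⟶ X)
    (h : Spec.map ψ ≫ g₁ = Spec.map ψ ≫ g₂) : g₁ = g₂ := by
  have hψ : Mono ψ := ConcreteCategory.mono_of_injective _ (RingHom.injective ψ.hom)
  obtain ⟨⟨x₁, φ₁⟩, rfl⟩ := (X.SpecToEquivOfField K).symm.surjective g₁
  obtain ⟨⟨x₂, φ₂⟩, rfl⟩ := (X.SpecToEquivOfField K).symm.surjective g₂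
  simp only [Scheme.SpecToEquivOfField_symm_apply] at h ⊢
  rw [← Spec.map_comp_assoc, ← Spec.map_comp_assoc] at h
  have h' : (X.SpecToEquivOfField L).symm ⟨x₁, φ₁ ≫ ψ⟩ =
      (X.SpecToEquivOfField L).symm ⟨x₂, φ₂ ≫ ψ⟩ := by
    simpa only [Scheme.SpecToEquivOfField_symm_apply] using h
  have h'' := (X.SpecToEquivOfField L).symm.injective h'
  obtain ⟨e, he⟩ := Scheme.SpecToEquivOfField_eq_iff.mp h''
  dsimp at e he
  subst e
  have : φ₁ = φ₂ := by
    rw [← cancel_mono ψ]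
    simpa using he
  rw [this]

theorem ptInj_baseChange {X Y X' Y' : Scheme.{u}} {f : X ⟶ Y} {h : Y' ⟶ Y} {f' : X' ⟶ Y'}
    {h' : X' ⟶ X} (sq : IsPullback h' f' f h) (y' : Y') (H : PtInj f (h y')) : PtInj f' y' := by
  intro K _ g₁ g₂ hg hy
  apply sq.hom_ext
  · apply H K (g₁ ≫ h') (g₂ ≫ h')
    · rw [Category.assoc, Category.assoc, sq.w, ← Category.assoc, ← Category.assoc, hg]
    · rw [Category.assoc, sq.w, ← Category.assoc, Scheme.Hom.comp_apply, hy]
  · exact hg

theorem ptInj_of_baseChange {X Y X' Y' : Scheme.{u}} {f : X ⟶ Y} {h : Y' ⟶ Y} {f' : X' ⟶ Y'}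
    {h' : X' ⟶ X} (sq : IsPullback h' f' f h) (y' : Y') (H : PtInj f' y') : PtInj f (h y') := by
  intro K _ g₁ g₂ hg hy
  obtain ⟨z, hz1, hz2⟩ := Scheme.Pullback.exists_preimage_pullback (f := g₁ ≫ f) (g := h)
    (IsLocalRing.closedPoint K) y' hy
  let φ := (pullback (g₁ ≫ f) h).fromSpecResidueField z
  let e : Spec ((pullback (g₁ ≫ f) h).residueField z) ⟶ Spec (.of K) :=
    φ ≫ pullback.fst (g₁ ≫ f) h
  let s : Spec ((pullback (g₁ ≫ f) h).residueField z) ⟶ Y' := φ ≫ pullback.snd (g₁ ≫ f) h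
  have hes : e ≫ (g₁ ≫ f) = s ≫ h := by
    show (φ ≫ pullback.fst (g₁ ≫ f) h) ≫ (g₁ ≫ f) = (φ ≫ pullback.snd (g₁ ≫ f) h) ≫ h
    rw [Category.assoc, Category.assoc, pullback.condition]
  have hes1 : (e ≫ g₁) ≫ f = s ≫ h := by rw [Category.assoc]; exact hes
  have hes2 : (e ≫ g₂) ≫ f = s ≫ h := by rw [Category.assoc, ← hg]; exact hes
  have h1 : sq.lift (e ≫ g₁) s hes1 ≫ f' = s := sq.lift_snd _ _ _
  have h2 : sq.lift (e ≫ g₂) s hes2 ≫ f' = s := sq.lift_snd _ _ _
  have hs : s (IsLocalRing.closedPoint ((pullback (g₁ ≫ f) h).residueField z)) = y' := by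
    show (φ ≫ pullback.snd (g₁ ≫ f) h) _ = y'
    rw [Scheme.Hom.comp_apply, Scheme.fromSpecResidueField_apply]
    exact hz2
  have key : sq.lift (e ≫ g₁) s hes1 = sq.lift (e ≫ g₂) s hes2 :=
    H ((pullback (g₁ ≫ f) h).residueField z) _ _ (h1.trans h2.symm) (by rw [h1]; exact hs)
  have hee : e ≫ g₁ = e ≫ g₂ := by
    rw [← sq.lift_fst (e ≫ g₁) s hes1, ← sq.lift_fst (e ≫ g₂) s hes2, key]
  rw [← Spec.map_preimage e] at hee
  exact epi_like _ g₁ g₂ hee

set_option backward.defeqAttrib.useBackward true in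
theorem ptInj_of_isRadicialAt {X Y : Scheme.{u}} (f : X ⟶ Y) (y : Y)
    (H : RadPt.IsRadicialAt f y) : PtInj f y := by
  obtain ⟨h_inj, hf⟩ := H
  intro K _ g₁ g₂ hg hy
  obtain ⟨e, h⟩ := Scheme.SpecToEquivOfField_eq_iff.mp congr((Y.SpecToEquivOfField K) $(hg))
  apply (X.SpecToEquivOfField K).injective
  dsimp at e h
  simp only [Scheme.descResidueField_stalkClosedPointTo_comp] at e h
  have h1 : f (g₁ (IsLocalRing.closedPoint K)) = y := by
    rw [← Scheme.Hom.comp_apply]; exact hy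
  have h2 : f (g₂ (IsLocalRing.closedPoint K)) = y := e.symm.trans h1
  have hxx : g₁ (IsLocalRing.closedPoint K) = g₂ (IsLocalRing.closedPoint K) := h_inj _ _ h1 h2
  rw [← f.residueFieldMap_congr'_assoc hxx, CommRingCat.hom_ext_iff] at h
  rw [Scheme.SpecToEquivOfField_eq_iff]
  let x := g₁ (IsLocalRing.closedPoint K)
  have hfx := hf x h1
  algebraize [(f.residueFieldMap (g₁ (IsLocalRing.closedPoint K))).hom]
  refine ⟨hxx, CommRingCat.hom_ext ?_⟩
  exact IsPurelyInseparable.injective_comp_algebraMap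
    (Y.residueField (f x)) (X.residueField x) _ h

set_option backward.defeqAttrib.useBackward true in
theorem isRadicialAt_of_ptInj {X Y : Scheme.{u}} (f : X ⟶ Y) (y : Y)
    (H : PtInj f y) : RadPt.IsRadicialAt f y := by
  refine ⟨fun x x' hx hx' => ?_, fun x hx => ?_⟩
  · obtain ⟨z, hz1, hz2⟩ := Scheme.Pullback.exists_preimage_pullback (f := f) (g := f) x x'
      (hx.trans hx'.symm)
    let φ := (pullback f f).fromSpecResidueField z
    have hφ : φ ≫ pullback.fst f f = φ ≫ pullback.snd f f :=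
      H ((pullback f f).residueField z) _ _ (by simp [pullback.condition]) (by
        rw [Category.assoc, Scheme.Hom.comp_apply, Scheme.fromSpecResidueField_apply,
          Scheme.Hom.comp_apply, hz1]
        exact hx)
    calc x = (pullback.fst f f) z := hz1.symm
      _ = (φ ≫ pullback.fst f f) (IsLocalRing.closedPoint _) := by
          rw [Scheme.Hom.comp_apply, Scheme.fromSpecResidueField_apply]
      _ = (φ ≫ pullback.snd f f) (IsLocalRing.closedPoint _) := by rw [hφ]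
      _ = (pullback.snd f f) z := by
          rw [Scheme.Hom.comp_apply, Scheme.fromSpecResidueField_apply]
      _ = x' := hz2
  · subst hx
    algebraize [(f.residueFieldMap x).hom]
    rw [RingHom.IsPurelyInseparable, isPurelyInseparable_iff_subsingleton_emb, subsingleton_iff]
    intro σ₁ σ₂
    apply AlgHom.coe_ringHom_injective
    let g₁ := (X.SpecToEquivOfField _).symm ⟨_, CommRingCat.ofHom σ₁.toRingHom⟩
    let g₂ := (X.SpecToEquivOfField _).symm ⟨_, CommRingCat.ofHom σ₂.toRingHom⟩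
    suffices X.SpecToEquivOfField _ g₁ = X.SpecToEquivOfField _ g₂ by
      rw [Equiv.apply_symm_apply, Equiv.apply_symm_apply] at this
      exact congr($(this).2.hom)
    have hgg : g₁ ≫ f = g₂ ≫ f := by
      simp only [g₁, g₂, Scheme.SpecToEquivOfField_symm_apply, AlgHom.toRingHom_eq_coe,
        Category.assoc, ← f.SpecMap_residueFieldMap_fromSpecResidueField x, ← Spec.map_comp_assoc]
      congr 2
      ext a
      simp only [CommRingCat.hom_comp, RingHom.comp_apply]
      exact (AlgHom.commutes σ₁ a).trans (AlgHom.commutes σ₂ a).symm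
    have hpt : (g₁ ≫ f) (IsLocalRing.closedPoint _) = f x := by
      simp [g₁, Scheme.SpecToEquivOfField_symm_apply]
    rw [H _ g₁ g₂ hgg hpt]

theorem main5863 {X Y X' Y' : Scheme.{u}} {f : X ⟶ Y} {h : Y' ⟶ Y} {f' : X' ⟶ Y'} {h' : X' ⟶ X}
    (sq : IsPullback h' f' f h) (y' : Y') :
    RadPt.IsRadicialAt f (h y') ↔ RadPt.IsRadicialAt f' y' :=
  ⟨fun H => isRadicialAt_of_ptInj f' y' (ptInj_baseChange sq y' (ptInj_of_isRadicialAt f _ H)),
    fun H => isRadicialAt_of_ptInj f _ (ptInj_of_baseChange sq y' (ptInj_of_isRadicialAt f' y' H))⟩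

end Groth.Agent.Lib.RadPtBCH4
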