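import Mathlib
import Groth.Prelude.Def_EGA4Misc
import Groth.Agent.Lib.RadBirat4_helper3
import Groth.Agent.Lib.RadPtBC_helper4
import Groth.Agent.Lib.Unibranch3_helper3

/-!
# Birational morphisms (in the sense of points and residue fields) under flat base change (helper3)

APPEND-ONLY once landed.
-/

set_option autoImplicit false
set_option maxSynthPendingDepth 3
universe u

namespace Groth.Agent.Lib.RadBiratH3

open AlgebraicGeometry CategoryTheory CategoryTheory.Limits IsLocalRing

section Prelim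

/-- flat morphisms map generic points to generic points -/
theorem map_mem_genericPoints_of_flat {Y' Y : Scheme.{u}} (g : Y' ⟶ Y) [Flat g] {y' : Y'}
    (hy' : y' ∈ genericPoints Y') : g y' ∈ genericPoints Y := by
  rw [mem_genericPoints_iff] at hy' ⊢
  intro z hz
  obtain ⟨z', hz', rfl⟩ := Flat.generalizingMap g hz
  rw [hy' z' hz']

theorem isPurelyInseparable_of_surjective {F E : Type*} [Field F] [Field E] (φ : F →+* E)
    (h : Function.Surjective φ) : φ.IsPurelyInseparable := by
  letI := φ.toAlgebra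
  show IsPurelyInseparable F E
  obtain ⟨q, hq⟩ := ExpChar.exists F
  rw [isPurelyInseparable_iff_pow_mem F q]
  intro x
  obtain ⟨a, rfl⟩ := h x
  refine ⟨0, a, ?_⟩
  rw [pow_zero, pow_one]
  rfl

/-- at a generic point the maximal ideal of the local ring is nil -/
theorem isNilpotent_of_mem_maximalIdeal {Y : Scheme.{u}} {y : Y} (hy : y ∈ genericPoints Y)
    (a : Y.presheaf.stalk y) (ha : a ∈ maximalIdeal (Y.presheaf.stalk y)) : IsNilpotent a := by
  rw [mem_genericPoints_iff] at hy
  rw [← mem_nilradical, nilradical_eq_sInf, Ideal.mem_sInf]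
  intro P hP
  have h1 : Y.fromSpecStalk y ⟨P, hP⟩ ∈ Set.range (Y.fromSpecStalk y) := Set.mem_range_self _
  rw [Scheme.range_fromSpecStalk] at h1
  have h2 : Y.fromSpecStalk y ⟨P, hP⟩ = y := hy _ h1
  have h3 : (⟨P, hP⟩ : PrimeSpectrum (Y.presheaf.stalk y)) = closedPoint (Y.presheaf.stalk y) := by
    apply (Y.fromSpecStalk y).isEmbedding.injective
    rw [h2]
    exact Scheme.fromSpecStalk_closedPoint.symm
  have h4 : P = maximalIdeal (Y.presheaf.stalk y) := congrArg PrimeSpectrum.asIdeal h3
  rw [h4]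
  exact ha

/-- lifting through a point with trivial residue field extension -/
theorem exists_lift_of_bijective {X Y : Scheme.{u}} (f : X ⟶ Y) (x : X)
    (hbij : Function.Bijective (f.residueFieldMap x).hom) (y₀ : Y) (h : f x = y₀)
    {T : Scheme.{u}} (a : T ⟶ Spec (Y.residueField y₀)) :
    ∃ t : T ⟶ X, t ≫ f = a ≫ Y.fromSpecResidueField y₀ ∧ ∀ p : T, t p = x := by
  subst h
  let e : Y.residueField (f x) ≅ X.residueField x :=
    (RingEquiv.ofBijective (f.residueFieldMap x).hom hbij).toCommRingCatIso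
  have he : e.hom = f.residueFieldMap x := by
    ext a
    rfl
  refine ⟨a ≫ Spec.map e.inv ≫ X.fromSpecResidueField x, ?_, fun p => ?_⟩
  · rw [Category.assoc, Category.assoc, ← Scheme.Hom.SpecMap_residueFieldMap_fromSpecResidueField,
      ← he, ← Spec.map_comp_assoc, e.hom_inv_id, Spec.map_id, Category.id_comp]
  · simp

end Prelim

section BaseChange

variable {X Y X' Y' : Scheme.{u}} {f : X ⟶ Y} {g : Y' ⟶ Y} {f' : X' ⟶ Y'} {g' : X' ⟶ X}

theorem fibre_subsingleton_of_isPullback (sq : IsPullback g' f' f g) (hf : RadPt.IsBirational f)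
    (y' : Y') (hy : g y' ∈ genericPoints Y) :
    ∀ x₁ x₂ : X', f' x₁ = y' → f' x₂ = y' → x₁ = x₂ := by
  have hrad : RadPt.IsRadicialAt f (g y') := by
    refine ⟨(hf.2 _ hy).1, fun x hx => ?_⟩
    exact isPurelyInseparable_of_surjective _ ((hf.2 _ hy).2 x hx).2
  exact ((Groth.Agent.Lib.RadPtBCH4.main5863 sq y').mp hrad).1

theorem comp_apply_of_isPullback (sq : IsPullback g' f' f g) (x' : X') :
    f (g' x') = g (f' x') := by
  rw [← Scheme.Hom.comp_apply, sq.w, Scheme.Hom.comp_apply]

theorem bijective_congr_point {X' Y' : Scheme.{u}} (f' : X' ⟶ Y') {x₁ x₂ : X'} (h : x₁ = x₂)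
    (hb : Function.Bijective (f'.residueFieldMap x₁).hom) :
    Function.Bijective (f'.residueFieldMap x₂).hom := by
  subst h
  exact hb

/-- a field-valued point of `X'` whose image in `Y'` is (isomorphic to) a canonical point has
trivial residue field extension -/
theorem bijective_residueFieldMap_of_section {X' Y' : Scheme.{u}} (f' : X' ⟶ Y') {K : Type u}
    [Field K] (s : Spec (.of K) ⟶ X') (y' : Y') (ι : Y'.residueField y' ⟶ .of K)
    (hι : Function.Bijective ι.hom)
    (hs : s ≫ f' = Spec.map ι ≫ Y'.fromSpecResidueField y') :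
    Function.Bijective (f'.residueFieldMap (s (closedPoint K))).hom := by
  have h1 : (Y'.SpecToEquivOfField K) (s ≫ f') = ⟨y', ι⟩ := by
    rw [hs]
    exact (Y'.SpecToEquivOfField K).apply_symm_apply ⟨y', ι⟩
  obtain ⟨e, he⟩ := Scheme.SpecToEquivOfField_eq_iff.mp h1
  have key : Scheme.descResidueField (Scheme.stalkClosedPointTo (s ≫ f')) =
      f'.residueFieldMap (s (closedPoint K)) ≫
        Scheme.descResidueField (Scheme.stalkClosedPointTo s) :=
    Scheme.descResidueField_stalkClosedPointTo_comp (f := f') s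
  have he' : f'.residueFieldMap (s (closedPoint K)) ≫
        Scheme.descResidueField (Scheme.stalkClosedPointTo s) =
      (Y'.residueFieldCongr e).hom ≫ ι := key.symm.trans he
  have hcomp : ∀ z, (Scheme.descResidueField (Scheme.stalkClosedPointTo s)).hom
      ((f'.residueFieldMap (s (closedPoint K))).hom z) =
      ι.hom ((Y'.residueFieldCongr e).hom.hom z) := fun z => congr($(he').hom z)
  have hc : Function.Bijective (Y'.residueFieldCongr e).hom.hom :=
    (Y'.residueFieldCongr e).commRingCatIsoToRingEquiv.bijective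
  have hρinj : Function.Injective (Scheme.descResidueField (Scheme.stalkClosedPointTo s)).hom :=
    RingHom.injective _
  refine ⟨RingHom.injective _, fun w => ?_⟩
  obtain ⟨k, hk⟩ := hι.2 ((Scheme.descResidueField (Scheme.stalkClosedPointTo s)).hom w)
  obtain ⟨z, hz⟩ := hc.2 k
  refine ⟨z, hρinj ?_⟩
  rw [hcomp, hz, hk]

theorem bijective_residueFieldMap_of_isPullback (sq : IsPullback g' f' f g)
    (hf : RadPt.IsBirational f) (x' : X') (hy : g (f' x') ∈ genericPoints Y) :
    Function.Bijective (f'.residueFieldMap x').hom := by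
  have hxy : f (g' x') = g (f' x') := comp_apply_of_isPullback sq x'
  have hbij := (hf.2 _ hy).2 (g' x') hxy
  obtain ⟨t, ht, -⟩ := exists_lift_of_bijective f (g' x') hbij (g (f' x')) hxy
    (Spec.map (g.residueFieldMap (f' x')))
  have ht' : t ≫ f = Y'.fromSpecResidueField (f' x') ≫ g := by
    rw [ht, Scheme.Hom.SpecMap_residueFieldMap_fromSpecResidueField]
  have hs1 : sq.lift t (Y'.fromSpecResidueField (f' x')) ht' ≫ f' =
      Spec.map (𝟙 (Y'.residueField (f' x'))) ≫ Y'.fromSpecResidueField (f' x') := by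
    rw [sq.lift_snd, Spec.map_id, Category.id_comp]
  have hb := bijective_residueFieldMap_of_section f'
    (K := Y'.residueField (f' x')) (sq.lift t (Y'.fromSpecResidueField (f' x')) ht') (f' x')
    (𝟙 _) Function.bijective_id hs1
  refine bijective_congr_point f' ?_ hb
  apply fibre_subsingleton_of_isPullback sq hf (f' x') hy _ _ _ rfl
  rw [← Scheme.Hom.comp_apply, sq.lift_snd, Scheme.fromSpecResidueField_apply]

/-- generic points of `X'` map to generic points of `Y'` -/
theorem mapsTo_genericPoints_of_isPullback [Flat g] (sq : IsPullback g' f' f g)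
    (hf : RadPt.IsBirational f) (x' : X') (hx' : x' ∈ genericPoints X') :
    f' x' ∈ genericPoints Y' := by
  haveI : Flat g' := MorphismProperty.of_isPullback sq.flip inferInstance
  have hx : g' x' ∈ genericPoints X := map_mem_genericPoints_of_flat g' hx'
  have hxy : f (g' x') = g (f' x') := comp_apply_of_isPullback sq x'
  have hy : g (f' x') ∈ genericPoints Y := hxy ▸ hf.1.mapsTo hx
  have hbij := (hf.2 _ hy).2 (g' x') hxy
  rw [mem_genericPoints_iff]
  intro y'' hy''
  -- the prime of the local ring at `f' x'` corresponding to `y''`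
  have hmem : y'' ∈ Set.range (Y'.fromSpecStalk (f' x')) := by
    rw [Scheme.range_fromSpecStalk]
    exact hy''
  obtain ⟨Qp, hQp⟩ := hmem
  haveI hQprime : Qp.asIdeal.IsPrime := Qp.isPrime
  haveI : IsLocalRing (Y'.presheaf.stalk (f' x') ⧸ Qp.asIdeal) :=
    Groth.Agent.Lib.UnibranchH3.isLocalRing_quotient Qp.asIdeal
      (IsLocalRing.le_maximalIdeal hQprime.ne_top)
  haveI : IsDomain (Y'.presheaf.stalk (f' x') ⧸ Qp.asIdeal) := Ideal.Quotient.isDomain _
  obtain ⟨π, hπ⟩ : ∃ π : Y'.presheaf.stalk (f' x') ⟶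
      CommRingCat.of (Y'.presheaf.stalk (f' x') ⧸ Qp.asIdeal),
      π = CommRingCat.ofHom (Ideal.Quotient.mk Qp.asIdeal) := ⟨_, rfl⟩
  -- the residue field of `g (f' x')` maps to the quotient
  have hkill : ∀ a ∈ maximalIdeal (Y.presheaf.stalk (g (f' x'))),
      (π.hom.comp (g.stalkMap (f' x')).hom) a = 0 := by
    intro a ha
    exact ((isNilpotent_of_mem_maximalIdeal hy a ha).map _).eq_zero
  obtain ⟨θ, hθ⟩ : ∃ θ : Y.residueField (g (f' x')) ⟶
      CommRingCat.of (Y'.presheaf.stalk (f' x') ⧸ Qp.asIdeal),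
      Y.residue (g (f' x')) ≫ θ = g.stalkMap (f' x') ≫ π :=
    ⟨CommRingCat.ofHom (Ideal.Quotient.lift (maximalIdeal (Y.presheaf.stalk (g (f' x'))))
      (π.hom.comp (g.stalkMap (f' x')).hom) hkill), by
      ext a
      rfl⟩
  obtain ⟨t, ht, -⟩ := exists_lift_of_bijective f (g' x') hbij (g (f' x')) hxy (Spec.map θ)
  have ht' : t ≫ f = (Spec.map π ≫ Y'.fromSpecStalk (f' x')) ≫ g := by
    rw [ht, Scheme.fromSpecResidueField, ← Spec.map_comp_assoc, hθ, Spec.map_comp_assoc,
      Scheme.SpecMap_stalkMap_fromSpecStalk, Category.assoc]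
  obtain ⟨u, hu⟩ : ∃ u : Spec (CommRingCat.of (Y'.presheaf.stalk (f' x') ⧸ Qp.asIdeal)) ⟶ X',
      u ≫ f' = Spec.map π ≫ Y'.fromSpecStalk (f' x') :=
    ⟨sq.lift t _ ht', sq.lift_snd _ _ _⟩
  -- the two points
  have hclosed : (Spec.map π) (closedPoint (Y'.presheaf.stalk (f' x') ⧸ Qp.asIdeal)) =
      closedPoint (Y'.presheaf.stalk (f' x')) := by
    haveI : IsLocalHom π.hom := by
      rw [hπ]
      exact IsLocalHom.of_surjective _ Ideal.Quotient.mk_surjective
    exact IsLocalRing.comap_closedPoint π.hom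
  have hgeneric : (Spec.map π)
      (⟨⊥, Ideal.isPrime_bot⟩ : PrimeSpectrum (Y'.presheaf.stalk (f' x') ⧸ Qp.asIdeal)) = Qp := by
    apply PrimeSpectrum.ext
    show Ideal.comap π.hom ⊥ = Qp.asIdeal
    rw [hπ]
    exact Ideal.mk_ker
  have h1 : f' (u (closedPoint (Y'.presheaf.stalk (f' x') ⧸ Qp.asIdeal))) = f' x' := by
    rw [← Scheme.Hom.comp_apply, hu, Scheme.Hom.comp_apply, hclosed]
    exact Scheme.fromSpecStalk_closedPoint
  have h2 : f' (u (⟨⊥, Ideal.isPrime_bot⟩ :
      PrimeSpectrum (Y'.presheaf.stalk (f' x') ⧸ Qp.asIdeal))) = y'' := by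
    rw [← Scheme.Hom.comp_apply, hu, Scheme.Hom.comp_apply, hgeneric]
    exact hQp
  have h3 : u (closedPoint (Y'.presheaf.stalk (f' x') ⧸ Qp.asIdeal)) = x' :=
    fibre_subsingleton_of_isPullback sq hf (f' x') hy _ _ h1 rfl
  have h4 : u (⟨⊥, Ideal.isPrime_bot⟩ :
      PrimeSpectrum (Y'.presheaf.stalk (f' x') ⧸ Qp.asIdeal)) ⤳ x' :=
    ((IsLocalRing.specializes_closedPoint _).map u.continuous).trans (specializes_of_eq h3)
  have h5 := (mem_genericPoints_iff x').mp hx' _ h4
  rw [← h2, h5]

/-- EGA IV: birationality (in the sense of points and residue fields) is stable under flat base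
change. -/
theorem main5864 [Flat g] (sq : IsPullback g' f' f g) (hf : RadPt.IsBirational f) :
    RadPt.IsBirational f' := by
  have hfib : ∀ y' ∈ genericPoints Y', ∀ x₁ x₂ : X', f' x₁ = y' → f' x₂ = y' → x₁ = x₂ :=
    fun y' hy' => fibre_subsingleton_of_isPullback sq hf y' (map_mem_genericPoints_of_flat g hy')
  refine ⟨⟨fun x' hx' => mapsTo_genericPoints_of_isPullback sq hf x' hx', ?_, ?_⟩, ?_⟩
  · intro x₁ hx₁ x₂ hx₂ h12
    exact hfib _ (mapsTo_genericPoints_of_isPullback sq hf x₂ hx₂) x₁ x₂ h12 rfl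
  · intro y' hy'
    have hy : g y' ∈ genericPoints Y := map_mem_genericPoints_of_flat g hy'
    obtain ⟨x, hx, hxy⟩ := hf.1.surjOn hy
    obtain ⟨x', hx'1, hx'2⟩ := Scheme.exists_preimage_of_isPullback sq x y' hxy
    refine ⟨x', ?_, hx'2⟩
    show x' ∈ genericPoints X'
    rw [mem_genericPoints_iff]
    intro z hz
    have h1 : f' z ⤳ f' x' := hz.map f'.continuous
    have hx'2' : f' x' = y' := hx'2
    rw [hx'2'] at h1
    have h2 : f' z = y' := (mem_genericPoints_iff y').mp hy' _ h1
    exact hfib y' hy' z x' h2 hx'2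
  · intro y' hy'
    have hy : g y' ∈ genericPoints Y := map_mem_genericPoints_of_flat g hy'
    refine ⟨hfib y' hy', fun x' hx' => ?_⟩
    subst hx'
    exact bijective_residueFieldMap_of_isPullback sq hf x' hy

end BaseChange

end Groth.Agent.Lib.RadBiratH3
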