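import Mathlib

set_option autoImplicit false
set_option maxHeartbeats 1000000

/-!
Rado's theorem for families of vectors (independent transversals), and the resulting
decomposition of a weight vector into bases (Edmonds' base covering theorem for linear matroids).
-/

namespace Groth.Agent.Lib.RadoH1

open Module

section rado

variable (k : Type*) [Field k] {W : Type*} [AddCommGroup W] [Module k W] [FiniteDimensional k W]
variable {Ω : Type*} [DecidableEq Ω] (y : Ω → W)

/-- rank of a finite set of indices -/
noncomputable def rk (X : Finset Ω) : ℕ := finrank k (Submodule.span k (y '' (X : Set Ω)))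

theorem rk_empty : rk k y (∅ : Finset Ω) = 0 := by
  unfold rk; rw [Finset.coe_empty, Set.image_empty, Submodule.span_empty, finrank_bot]

theorem rk_mono {X Y : Finset Ω} (h : X ⊆ Y) : rk k y X ≤ rk k y Y :=
  Submodule.finrank_mono (Submodule.span_mono (Set.image_mono (Finset.coe_subset.mpr h)))

theorem rk_submod (X Y : Finset Ω) :
    rk k y (X ∪ Y) + rk k y (X ∩ Y) ≤ rk k y X + rk k y Y := by
  unfold rk
  have h1 : Submodule.span k (y '' ((X ∪ Y : Finset Ω) : Set Ω))
      = Submodule.span k (y '' (X : Set Ω)) ⊔ Submodule.span k (y '' (Y : Set Ω)) := by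
    rw [Finset.coe_union, Set.image_union, Submodule.span_union]
  have h2 : Submodule.span k (y '' ((X ∩ Y : Finset Ω) : Set Ω))
      ≤ Submodule.span k (y '' (X : Set Ω)) ⊓ Submodule.span k (y '' (Y : Set Ω)) := by
    apply le_inf
    · exact Submodule.span_mono (Set.image_mono (by
        rw [Finset.coe_inter]; exact Set.inter_subset_left))
    · exact Submodule.span_mono (Set.image_mono (by
        rw [Finset.coe_inter]; exact Set.inter_subset_right))
  rw [h1]
  have h3 := Submodule.finrank_sup_add_finrank_inf_eq (Submodule.span k (y '' (X : Set Ω)))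
    (Submodule.span k (y '' (Y : Set Ω)))
  have h4 := Submodule.finrank_mono h2
  omega

variable {U : Type*} [DecidableEq U]

theorem rado_step (A : U → Finset Ω) (u₀ : U) (T₁ T₂ : Finset Ω) (hT : A u₀ ⊆ T₁ ∪ T₂)
    (h : ∀ J : Finset U, J.card ≤ rk k y (J.biUnion A)) :
    (∀ J : Finset U, u₀ ∉ J → J.card + 1 ≤ rk k y (T₁ ∪ J.biUnion A)) ∨
      (∀ J : Finset U, u₀ ∉ J → J.card + 1 ≤ rk k y (T₂ ∪ J.biUnion A)) := by
  by_contra hcon
  rw [not_or] at hcon
  obtain ⟨h1, h2⟩ := hcon
  simp only [not_forall] at h1 h2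
  obtain ⟨J, hJ, hJ'⟩ := h1
  obtain ⟨K, hK, hK'⟩ := h2
  have hX : rk k y (T₁ ∪ J.biUnion A) ≤ J.card := by omega
  have hY : rk k y (T₂ ∪ K.biUnion A) ≤ K.card := by omega
  have hsub := rk_submod k y (T₁ ∪ J.biUnion A) (T₂ ∪ K.biUnion A)
  have hun : (insert u₀ (J ∪ K)).biUnion A ⊆ (T₁ ∪ J.biUnion A) ∪ (T₂ ∪ K.biUnion A) := by
    intro ω hω
    rw [Finset.mem_biUnion] at hω
    obtain ⟨u, hu, hωu⟩ := hω
    rw [Finset.mem_insert, Finset.mem_union] at hu
    rcases hu with hu | hu | hu
    · rw [hu] at hωu
      have := hT hωu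
      rw [Finset.mem_union] at this
      rcases this with h | h
      · exact Finset.mem_union_left _ (Finset.mem_union_left _ h)
      · exact Finset.mem_union_right _ (Finset.mem_union_left _ h)
    · exact Finset.mem_union_left _
        (Finset.mem_union_right _ (Finset.mem_biUnion.mpr ⟨u, hu, hωu⟩))
    · exact Finset.mem_union_right _
        (Finset.mem_union_right _ (Finset.mem_biUnion.mpr ⟨u, hu, hωu⟩))
  have hin : (J ∩ K).biUnion A ⊆ (T₁ ∪ J.biUnion A) ∩ (T₂ ∪ K.biUnion A) := by
    intro ω hω
    rw [Finset.mem_biUnion] at hω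
    obtain ⟨u, hu, hωu⟩ := hω
    rw [Finset.mem_inter] at hu ⊢
    exact ⟨Finset.mem_union_right _ (Finset.mem_biUnion.mpr ⟨u, hu.1, hωu⟩),
      Finset.mem_union_right _ (Finset.mem_biUnion.mpr ⟨u, hu.2, hωu⟩)⟩
  have e1 := (h (insert u₀ (J ∪ K))).trans (rk_mono k y hun)
  have e2 := (h (J ∩ K)).trans (rk_mono k y hin)
  have hnot : u₀ ∉ J ∪ K := by
    rw [Finset.mem_union]; tauto
  rw [Finset.card_insert_of_notMem hnot] at e1
  have e3 := Finset.card_union_add_card_inter J K
  omega

theorem rado_reduce [Fintype U] (A : U → Finset Ω) (u₀ : U) (T : Finset Ω) (hTA : T ⊆ A u₀)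
    (hcard : T.card < (A u₀).card)
    (h : ∀ J : Finset U, J.card ≤ rk k y (J.biUnion A))
    (hg : ∀ J : Finset U, u₀ ∉ J → J.card + 1 ≤ rk k y (T ∪ J.biUnion A)) :
    (∀ J : Finset U, J.card ≤ rk k y (J.biUnion (Function.update A u₀ T))) ∧
      ∑ u, (Function.update A u₀ T u).card < ∑ u, (A u).card ∧
      ∀ u, Function.update A u₀ T u ⊆ A u := by
  have hcongr : ∀ J : Finset U, u₀ ∉ J → J.biUnion (Function.update A u₀ T) = J.biUnion A := by
    intro J hJ
    apply Finset.biUnion_congr rfl
    intro u hu
    have hne : u ≠ u₀ := by rintro rfl; exact hJ hu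
    rw [Function.update_of_ne hne]
  refine ⟨?_, ?_, ?_⟩
  · intro J
    by_cases hu : u₀ ∈ J
    · obtain ⟨J', hJ', rfl⟩ : ∃ J', u₀ ∉ J' ∧ J = insert u₀ J' :=
        ⟨J.erase u₀, Finset.notMem_erase u₀ J, (Finset.insert_erase hu).symm⟩
      rw [Finset.biUnion_insert, Function.update_self, Finset.card_insert_of_notMem hJ',
        hcongr J' hJ']
      exact hg J' hJ'
    · rw [hcongr J hu]
      exact h J
  · apply Finset.sum_lt_sum
    · intro u _
      by_cases hu : u = u₀
      · subst hu; rw [Function.update_self]; exact hcard.le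
      · rw [Function.update_of_ne hu]
    · refine ⟨u₀, Finset.mem_univ _, ?_⟩
      rw [Function.update_self]; exact hcard
  · intro u
    by_cases hu : u = u₀
    · subst hu; rw [Function.update_self]; exact hTA
    · rw [Function.update_of_ne hu]

/-- **Rado's theorem** for families of vectors. -/
theorem rado [Fintype U] (A : U → Finset Ω)
    (h : ∀ J : Finset U, J.card ≤ rk k y (J.biUnion A)) :
    ∃ e : U → Ω, (∀ u, e u ∈ A u) ∧ LinearIndependent k (fun u => y (e u)) := by
  generalize hN : ∑ u, (A u).card = N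
  induction N using Nat.strong_induction_on generalizing A with
  | _ N ih =>
    have hne : ∀ u, (A u).Nonempty := by
      intro u
      have := h {u}
      rw [Finset.card_singleton, Finset.singleton_biUnion] at this
      by_contra hemp
      rw [Finset.not_nonempty_iff_eq_empty] at hemp
      rw [hemp, rk_empty] at this
      omega
    by_cases hall : ∀ u, (A u).card ≤ 1
    · choose e he using hne
      have hAe : ∀ u, A u = {e u} := fun u =>
        Finset.eq_singleton_iff_unique_mem.mpr
          ⟨he u, fun x hx => Finset.card_le_one.mp (hall u) x hx (e u) (he u)⟩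
      refine ⟨e, he, ?_⟩
      rw [linearIndependent_iff_card_eq_finrank_span]
      have h1 := h Finset.univ
      have hset : y '' ((Finset.univ.biUnion A : Finset Ω) : Set Ω)
          = Set.range (fun u => y (e u)) := by
        ext w
        constructor
        · rintro ⟨ω, hω, rfl⟩
          rw [Finset.mem_coe, Finset.mem_biUnion] at hω
          obtain ⟨u, _, hu⟩ := hω
          rw [hAe u, Finset.mem_singleton] at hu
          exact ⟨u, by rw [hu]⟩
        · rintro ⟨u, rfl⟩
          refine ⟨e u, ?_, rfl⟩
          rw [Finset.mem_coe, Finset.mem_biUnion]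
          exact ⟨u, Finset.mem_univ _, he u⟩
      unfold rk at h1
      rw [hset, Finset.card_univ] at h1
      have h2 := finrank_range_le_card (R := k) (fun u => y (e u))
      exact le_antisymm h1 h2
    · push Not at hall
      obtain ⟨u₀, hu₀⟩ := hall
      obtain ⟨a, ha, b, hb, hab⟩ := Finset.one_lt_card.mp hu₀
      have hT : A u₀ ⊆ (A u₀).erase a ∪ (A u₀).erase b := by
        intro ω hω
        rw [Finset.mem_union, Finset.mem_erase, Finset.mem_erase]
        by_cases hωa : ω = a
        · right; exact ⟨by rw [hωa]; exact hab, hω⟩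
        · left; exact ⟨hωa, hω⟩
      rcases rado_step k y A u₀ _ _ hT h with hg | hg
      · obtain ⟨h1, h2, h3⟩ := rado_reduce k y A u₀ ((A u₀).erase a) (Finset.erase_subset _ _)
          (Finset.card_erase_lt_of_mem ha) h hg
        obtain ⟨e, he, hli⟩ := ih _ (hN ▸ h2) _ h1 rfl
        exact ⟨e, fun u => h3 u (he u), hli⟩
      · obtain ⟨h1, h2, h3⟩ := rado_reduce k y A u₀ ((A u₀).erase b) (Finset.erase_subset _ _)
          (Finset.card_erase_lt_of_mem hb) h hg
        obtain ⟨e, he, hli⟩ := ih _ (hN ▸ h2) _ h1 rfl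
        exact ⟨e, fun u => h3 u (he u), hli⟩

end rado

section decomp

variable (k : Type*) [Field k] {V : Type*} [AddCommGroup V] [Module k V] [FiniteDimensional k V]
variable {ι : Type*} [Fintype ι] [DecidableEq ι]

/-- **Base decomposition**: a weight vector satisfying the rank inequalities is a sum of bases. -/
theorem exists_bases_of_weights (x : ι → V) (w : ι → ℕ) (t : ℕ)
    (hsum : ∑ j, w j = t * finrank k V)
    (hw : ∀ T : Finset ι,
      ∑ j ∈ T, w j ≤ t * finrank k (Submodule.span k (x '' (T : Set ι)))) :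
    ∃ S : Fin t → Finset ι,
      (∀ s, (S s).card = finrank k V ∧ LinearIndepOn k x (S s : Set ι)) ∧
      ∀ j, (Finset.univ.filter (fun s => j ∈ S s)).card = w j := by
  classical
  -- the index types
  let U := Σ j : ι, Fin (w j)
  let y : U × Fin t → (Fin t → V) := fun p => Pi.single p.2 (x p.1.1)
  let A : U → Finset (U × Fin t) := fun u => Finset.univ.image (fun s => (u, s))
  have hRado : ∀ J : Finset U, J.card ≤ rk k y (J.biUnion A) := by
    intro J
    let T : Finset ι := J.image Sigma.fst
    have ha : J.card ≤ ∑ j ∈ T, w j := by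
      have hsub : J ⊆ T.sigma (fun j => (Finset.univ : Finset (Fin (w j)))) := by
        intro u hu
        rw [Finset.mem_sigma]
        exact ⟨Finset.mem_image_of_mem _ hu, Finset.mem_univ _⟩
      have := Finset.card_le_card hsub
      rw [Finset.card_sigma] at this
      simpa using this
    obtain ⟨bset, hbsub, hbspan, hbli⟩ := exists_linearIndependent k (x '' (T : Set ι))
    haveI : Fintype bset := ((T.finite_toSet.image x).subset hbsub).fintype
    have hcardb : Fintype.card bset = finrank k (Submodule.span k (x '' (T : Set ι))) := by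
      rw [← hbspan, ← finrank_span_eq_card hbli, Subtype.range_coe]
    let fam : (Σ _ : Fin t, bset) → (Fin t → V) :=
      fun p => (Pi.single p.1 (p.2 : V) : Fin t → V)
    have hfam_li : LinearIndependent k fam :=
      Pi.linearIndependent_single (fun _ : Fin t => ((↑) : bset → V)) (fun _ => hbli)
    have hfam_mem : ∀ p, fam p ∈ Submodule.span k (y '' ((J.biUnion A : Finset _) : Set _)) := by
      intro p
      obtain ⟨j, hj, hjx⟩ := hbsub p.2.2
      rw [Finset.mem_coe, Finset.mem_image] at hj
      obtain ⟨u, hu, rfl⟩ := hj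
      apply Submodule.subset_span
      refine ⟨(u, p.1), ?_, ?_⟩
      · rw [Finset.mem_coe, Finset.mem_biUnion]
        exact ⟨u, hu, Finset.mem_image_of_mem _ (Finset.mem_univ _)⟩
      · show (Pi.single p.1 (x u.1) : Fin t → V) = (Pi.single p.1 (p.2 : V) : Fin t → V)
        rw [hjx]
    have hcardfam : Fintype.card (Σ _ : Fin t, bset)
        = t * finrank k (Submodule.span k (x '' (T : Set ι))) := by
      rw [Fintype.card_sigma, Finset.sum_const, Finset.card_univ, Fintype.card_fin, hcardb,
        smul_eq_mul]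
    have hge : t * finrank k (Submodule.span k (x '' (T : Set ι))) ≤ rk k y (J.biUnion A) := by
      rw [← hcardfam, ← finrank_span_eq_card hfam_li]
      apply Submodule.finrank_mono
      rw [Submodule.span_le]
      rintro _ ⟨p, rfl⟩
      exact hfam_mem p
    exact ha.trans ((hw T).trans hge)
  obtain ⟨e, he, hli⟩ := rado k y A hRado
  -- the colouring
  let σ : U → Fin t := fun u => (e u).2
  have heu : ∀ u, e u = (u, σ u) := by
    intro u
    have := he u
    rw [Finset.mem_image] at this
    obtain ⟨s, _, hs⟩ := this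
    have h2 : σ u = s := by
      show (e u).2 = s
      rw [← hs]
    rw [h2]; exact hs.symm
  have hli' : LinearIndependent k (fun u : U => (Pi.single (σ u) (x u.1) : Fin t → V)) := by
    have : (fun u : U => (Pi.single (σ u) (x u.1) : Fin t → V)) = fun u => y (e u) := by
      funext u
      rw [heu u]
    rw [this]; exact hli
  let Bs : Fin t → Finset U := fun s => Finset.univ.filter (fun u => σ u = s)
  have hBs_li : ∀ s, LinearIndepOn k (fun u : U => x u.1) (Bs s : Set U) := by
    intro s
    have h1 : LinearIndepOn k (fun u : U => (Pi.single (σ u) (x u.1) : Fin t → V))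
        (Bs s : Set U) := hli'.comp _ Subtype.val_injective
    have h2 : Set.EqOn (fun u : U => (Pi.single (σ u) (x u.1) : Fin t → V))
        ((LinearMap.single k (fun _ : Fin t => V) s) ∘ (fun u : U => x u.1)) (Bs s : Set U) := by
      intro u hu
      rw [Finset.mem_coe, Finset.mem_filter] at hu
      show Pi.single (σ u) (x u.1) = LinearMap.single k (fun _ : Fin t => V) s (x u.1)
      rw [LinearMap.single_apply, hu.2]
    exact LinearIndepOn.of_comp _ (h1.congr h2)
  have hinj : ∀ s, Set.InjOn (Sigma.fst : U → ι) (Bs s : Set U) := by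
    intro s u hu u' hu' huu'
    apply (hBs_li s).injOn hu hu'
    show x u.1 = x u'.1
    rw [huu']
  let S : Fin t → Finset ι := fun s => (Bs s).image Sigma.fst
  have hS_li : ∀ s, LinearIndepOn k x (S s : Set ι) := by
    intro s
    show LinearIndepOn k x (((Bs s).image Sigma.fst : Finset ι) : Set ι)
    rw [Finset.coe_image]
    exact LinearIndepOn.image_of_comp (Sigma.fst : U → ι) x (hBs_li s)
  have hS_card : ∀ s, (S s).card = (Bs s).card := fun s => Finset.card_image_of_injOn (hinj s)
  have hS_le : ∀ s, (S s).card ≤ finrank k V := by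
    intro s
    have h1 : LinearIndependent k (fun j : (S s) => x j) := hS_li s
    have := h1.fintype_card_le_finrank
    rwa [Fintype.card_coe] at this
  have htotal : ∑ s, (S s).card = t * finrank k V := by
    rw [← hsum]
    have h1 : (Finset.univ : Finset U).card = ∑ s, (Bs s).card :=
      Finset.card_eq_sum_card_fiberwise (f := σ) (t := Finset.univ)
        (fun u _ => Finset.mem_coe.mpr (Finset.mem_univ _))
    have h2 : (Finset.univ : Finset U).card = ∑ j, w j := by
      rw [Finset.card_univ, Fintype.card_sigma]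
      simp
    rw [← h2, h1]
    exact Finset.sum_congr rfl (fun s _ => hS_card s)
  have hS_eq : ∀ s, (S s).card = finrank k V := by
    intro s₀
    by_contra hne
    have hlt : (S s₀).card < finrank k V := lt_of_le_of_ne (hS_le s₀) hne
    have : ∑ s, (S s).card < ∑ _s : Fin t, finrank k V :=
      Finset.sum_lt_sum (fun s _ => hS_le s) ⟨s₀, Finset.mem_univ _, hlt⟩
    rw [Finset.sum_const, Finset.card_univ, Fintype.card_fin, smul_eq_mul, htotal] at this
    exact lt_irrefl _ this
  refine ⟨S, fun s => ⟨hS_eq s, hS_li s⟩, ?_⟩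
  intro j
  have himg : Finset.univ.filter (fun s => j ∈ S s)
      = Finset.univ.image (fun q : Fin (w j) => σ ⟨j, q⟩) := by
    ext s
    constructor
    · intro hs
      rw [Finset.mem_filter] at hs
      obtain ⟨⟨j', q⟩, hu, hj'⟩ := Finset.mem_image.mp hs.2
      have hj'' : j' = j := hj'
      subst hj''
      rw [Finset.mem_filter] at hu
      exact Finset.mem_image.mpr ⟨q, Finset.mem_univ _, hu.2⟩
    · intro hs
      obtain ⟨q, _, hq⟩ := Finset.mem_image.mp hs
      exact Finset.mem_filter.mpr ⟨Finset.mem_univ _, Finset.mem_image.mpr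
        ⟨⟨j, q⟩, Finset.mem_filter.mpr ⟨Finset.mem_univ _, hq⟩, rfl⟩⟩
  rw [himg, Finset.card_image_of_injective, Finset.card_univ, Fintype.card_fin]
  intro q q' hqq'
  have hq : (⟨j, q⟩ : U) ∈ (Bs (σ ⟨j, q⟩) : Set U) :=
    Finset.mem_coe.mpr (Finset.mem_filter.mpr ⟨Finset.mem_univ _, rfl⟩)
  have hq' : (⟨j, q'⟩ : U) ∈ (Bs (σ ⟨j, q⟩) : Set U) :=
    Finset.mem_coe.mpr (Finset.mem_filter.mpr ⟨Finset.mem_univ _, hqq'.symm⟩)
  have hfin := hinj _ hq hq' rfl
  cases hfin
  rfl

end decomp

end Groth.Agent.Lib.RadoH1
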