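import Mathlib
import Groth.Prelude.Def_EtRam
import Groth.Agent.Lib.DvrExt2_helper8
import Groth.Agent.Lib.DvrExt4_helper8

set_option autoImplicit false
universe u

namespace RamComposH8

open IsLocalRing DvrExtH8

theorem unram_trans {A V W : Type u} [CommRing A] [IsLocalRing A] [CommRing V] [IsLocalRing V]
    [CommRing W] [IsLocalRing W] [Algebra A V] [Algebra V W] [Algebra A W] [IsScalarTower A V W]
    [IsLocalHom (algebraMap A V)] [IsLocalHom (algebraMap V W)] [IsLocalHom (algebraMap A W)]
    (h1 : EtRam.IsWeaklyUnramified A V) (h2 : EtRam.IsWeaklyUnramified V W)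
    [Algebra.IsSeparable (ResidueField A) (ResidueField V)]
    [Algebra.IsSeparable (ResidueField V) (ResidueField W)] :
    EtRam.IsWeaklyUnramified A W ∧ Algebra.IsSeparable (ResidueField A) (ResidueField W) :=
  ⟨isWeaklyUnramified_trans h1 h2,
    Algebra.IsSeparable.trans (ResidueField A) (ResidueField V) (ResidueField W)⟩

theorem tame_trans {A V W : Type u} [CommRing A] [IsDomain A] [IsDiscreteValuationRing A]
    [CommRing V] [IsDomain V] [IsDiscreteValuationRing V]
    [CommRing W] [IsDomain W] [IsDiscreteValuationRing W]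
    [Algebra A V] [Algebra V W] [Algebra A W] [IsScalarTower A V W]
    [IsLocalHom (algebraMap A V)] [IsLocalHom (algebraMap V W)] [IsLocalHom (algebraMap A W)]
    (hAV : Function.Injective (algebraMap A V)) (hVW : Function.Injective (algebraMap V W))
    [Algebra.IsSeparable (ResidueField A) (ResidueField V)]
    [Algebra.IsSeparable (ResidueField V) (ResidueField W)]
    (h1 : ∀ p : ℕ, p.Prime → CharP (ResidueField A) p →
      ¬ p ∣ Ideal.ramificationIdx' (maximalIdeal A) (maximalIdeal V))
    (h2 : ∀ p : ℕ, p.Prime → CharP (ResidueField V) p →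
      ¬ p ∣ Ideal.ramificationIdx' (maximalIdeal V) (maximalIdeal W)) :
    Algebra.IsSeparable (ResidueField A) (ResidueField W) ∧
      ∀ p : ℕ, p.Prime → CharP (ResidueField A) p →
        ¬ p ∣ Ideal.ramificationIdx' (maximalIdeal A) (maximalIdeal W) := by
  refine ⟨Algebra.IsSeparable.trans (ResidueField A) (ResidueField V) (ResidueField W), ?_⟩
  intro p hp hchar
  haveI : CharP (ResidueField V) p :=
    charP_of_injective_ringHom (algebraMap (ResidueField A) (ResidueField V)).injective p
  rw [ramificationIdx'_tower hAV hVW]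
  intro hdvd
  rcases (Nat.Prime.dvd_mul hp).mp hdvd with h | h
  · exact h1 p hp hchar h
  · exact h2 p hp this h

end RamComposH8
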