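import Mathlib

set_option autoImplicit false
universe u

namespace TameExtH8

open TensorProduct

theorem finite_separable_of_surjective (K L K' F : Type u) [Field K] [Field L] [Field K'] [Field F]
    [Algebra K L] [Algebra K K'] [FiniteDimensional K K'] [Algebra.IsSeparable K K']
    [Algebra (K' ⊗[K] L) F] (hF : Function.Surjective (algebraMap (K' ⊗[K] L) F))
    [Algebra L F]
    (hLF : algebraMap L F = (algebraMap (K' ⊗[K] L) F).comp
      (Algebra.TensorProduct.includeRight : L →ₐ[K] K' ⊗[K] L).toRingHom) :
    FiniteDimensional L F ∧ Algebra.IsSeparable L F := by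
  let θ : L ⊗[K] K' →+* F :=
    (algebraMap (K' ⊗[K] L) F).comp (Algebra.TensorProduct.comm K L K').toAlgHom.toRingHom
  let lam : L ⊗[K] K' →ₐ[L] F :=
    { θ with
      commutes' := fun l => by
        show algebraMap (K' ⊗[K] L) F ((Algebra.TensorProduct.comm K L K') (l ⊗ₜ[K] (1 : K'))) = _
        rw [Algebra.TensorProduct.comm_tmul, hLF]
        rfl }
  have hsurj : Function.Surjective lam := by
    intro x
    obtain ⟨y, rfl⟩ := hF x
    refine ⟨(Algebra.TensorProduct.comm K L K').symm y, ?_⟩
    show algebraMap (K' ⊗[K] L) F ((Algebra.TensorProduct.comm K L K')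
      ((Algebra.TensorProduct.comm K L K').symm y)) = _
    rw [AlgEquiv.apply_symm_apply]
  haveI : Algebra.FormallyUnramified K K' := Algebra.FormallyUnramified.of_isSeparable K K'
  haveI : Algebra.FormallyUnramified L F := Algebra.FormallyUnramified.of_surjective lam hsurj
  haveI : Module.Finite L F := Module.Finite.of_surjective lam.toLinearMap hsurj
  exact ⟨inferInstance, Algebra.FormallyUnramified.isSeparable L F⟩

end TameExtH8
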