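import Mathlib
import Groth.Prelude.Def_EtRam
import Groth.Agent.Lib.DvrExt2_helper8
import Groth.Agent.Lib.DvrExt3_helper8
import Groth.Agent.Lib.TameExt5_helper8

set_option autoImplicit false
universe u

namespace TameExtH8

open IsLocalRing TensorProduct Polynomial

set_option maxHeartbeats 1600000 in
theorem tame_core {A B : Type u} [CommRing A] [IsDomain A] [IsDiscreteValuationRing A]
    [CommRing B] [IsDomain B] [IsDiscreteValuationRing B] [Algebra A B]
    [IsLocalHom (algebraMap A B)] (hAB : Function.Injective (algebraMap A B))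
    (V' : Type u) [CommRing V'] [IsDomain V'] [IsDiscreteValuationRing V'] [Algebra A V']
    [IsLocalHom (algebraMap A V')] (hAV : Function.Injective (algebraMap A V'))
    [Algebra.EssFiniteType A V']
    [Algebra.IsSeparable (ResidueField A) (ResidueField V')]
    (he : ∀ p : ℕ, p.Prime → CharP (ResidueField A) p →
        ¬ p ∣ Ideal.ramificationIdx' (maximalIdeal A) (maximalIdeal V'))
    {F : Type u} [Field F] (gB : B →+* F) (hgB : Function.Injective gB)
    (W : ValuationSubring F) (hd : EtRam.Dominates B gB W) (hWdvr : IsDiscreteValuationRing W)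
    (Φ : B ⊗[A] V' →+* F) (hΦB : ∀ b, Φ (b ⊗ₜ 1) = gB b) (hΦW : ∀ t, Φ t ∈ W)
    (hfrac : ∀ x : F, ∃ a b : B ⊗[A] V', Φ b ≠ 0 ∧ x * Φ b = Φ a) :
    letI : Algebra B W := (RingHom.codRestrict gB W hd.1).toAlgebra
    ∀ [IsLocalHom (algebraMap B W)],
      Algebra.IsSeparable (ResidueField B) (ResidueField W) ∧
      ∀ p : ℕ, p.Prime → CharP (ResidueField B) p →
        ¬ p ∣ Ideal.ramificationIdx' (maximalIdeal B) (maximalIdeal W) := by
  classical
  letI : Algebra B W := (RingHom.codRestrict gB W hd.1).toAlgebra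
  intro _
  obtain ⟨πB, hπB⟩ := IsDiscreteValuationRing.exists_irreducible B
  obtain ⟨e, hedef⟩ : ∃ e : ℕ, e = Ideal.ramificationIdx' (maximalIdeal A) (maximalIdeal V') :=
    ⟨_, rfl⟩
  have he0 : e ≠ 0 := hedef ▸ DvrExtH8.ramificationIdx'_ne_zero hAV
  -- the field `E`
  have hdeg : (X ^ e - C (gB πB) : F[X]).natDegree = e := natDegree_X_pow_sub_C
  obtain ⟨h, hirr, hdvd⟩ := Polynomial.exists_irreducible_of_natDegree_pos
    (f := (X ^ e - C (gB πB) : F[X])) (by rw [hdeg]; exact Nat.pos_of_ne_zero he0)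
  haveI : Fact (Irreducible h) := ⟨hirr⟩
  let E := AdjoinRoot h
  let ϖ : E := AdjoinRoot.root h
  have hϖ : ϖ ^ e = algebraMap F E (gB πB) := by
    have h0 : AdjoinRoot.mk h (X ^ e - C (gB πB)) = 0 := AdjoinRoot.mk_eq_zero.mpr hdvd
    rw [map_sub, map_pow, AdjoinRoot.mk_X, AdjoinRoot.mk_C, sub_eq_zero] at h0
    exact h0
  obtain ⟨W₂, hW₂, hloc⟩ := DvrExtH8.exists_extension (algebraMap F E) W
  let gE : B →+* E := (algebraMap F E).comp gB
  have hgE : Function.Injective gE := (algebraMap F E).injective.comp hgB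
  have hdE : EtRam.Dominates B gE W₂ :=
    DvrExtH8.dominates_comp gB W hd (algebraMap F E) W₂ hW₂ hloc gE (fun a => rfl)
  let ΦE : B ⊗[A] V' →+* E := (algebraMap F E).comp Φ
  have hΦEB : ∀ b, ΦE (b ⊗ₜ 1) = gE b := by
    intro b
    show algebraMap F E (Φ (b ⊗ₜ 1)) = _
    rw [hΦB]
    rfl
  have hΦEW : ∀ t, ΦE t ∈ W₂ := fun t => hW₂ ⟨Φ t, hΦW t⟩
  -- fractions
  have hfracE : ∀ x : E, ∃ a b : E, a ∈ Subring.closure (Set.range ΦE ∪ {ϖ}) ∧
      b ∈ Subring.closure (Set.range ΦE ∪ {ϖ}) ∧ b ≠ 0 ∧ x * b = a := by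
    have hmulP : ∀ x y : E,
        (∃ a b : E, a ∈ Subring.closure (Set.range ΦE ∪ {ϖ}) ∧
          b ∈ Subring.closure (Set.range ΦE ∪ {ϖ}) ∧ b ≠ 0 ∧ x * b = a) →
        (∃ a b : E, a ∈ Subring.closure (Set.range ΦE ∪ {ϖ}) ∧
          b ∈ Subring.closure (Set.range ΦE ∪ {ϖ}) ∧ b ≠ 0 ∧ y * b = a) →
        (∃ a b : E, a ∈ Subring.closure (Set.range ΦE ∪ {ϖ}) ∧
          b ∈ Subring.closure (Set.range ΦE ∪ {ϖ}) ∧ b ≠ 0 ∧ (x * y) * b = a) := by
      rintro x y ⟨a₁, b₁, ha₁, hb₁, hb₁0, e₁⟩ ⟨a₂, b₂, ha₂, hb₂, hb₂0, e₂⟩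
      refine ⟨a₁ * a₂, b₁ * b₂, Subring.mul_mem _ ha₁ ha₂, Subring.mul_mem _ hb₁ hb₂,
        mul_ne_zero hb₁0 hb₂0, ?_⟩
      rw [← e₁, ← e₂]
      ring
    have haddP : ∀ x y : E,
        (∃ a b : E, a ∈ Subring.closure (Set.range ΦE ∪ {ϖ}) ∧
          b ∈ Subring.closure (Set.range ΦE ∪ {ϖ}) ∧ b ≠ 0 ∧ x * b = a) →
        (∃ a b : E, a ∈ Subring.closure (Set.range ΦE ∪ {ϖ}) ∧
          b ∈ Subring.closure (Set.range ΦE ∪ {ϖ}) ∧ b ≠ 0 ∧ y * b = a) →
        (∃ a b : E, a ∈ Subring.closure (Set.range ΦE ∪ {ϖ}) ∧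
          b ∈ Subring.closure (Set.range ΦE ∪ {ϖ}) ∧ b ≠ 0 ∧ (x + y) * b = a) := by
      rintro x y ⟨a₁, b₁, ha₁, hb₁, hb₁0, e₁⟩ ⟨a₂, b₂, ha₂, hb₂, hb₂0, e₂⟩
      refine ⟨a₁ * b₂ + a₂ * b₁, b₁ * b₂,
        Subring.add_mem _ (Subring.mul_mem _ ha₁ hb₂) (Subring.mul_mem _ ha₂ hb₁),
        Subring.mul_mem _ hb₁ hb₂, mul_ne_zero hb₁0 hb₂0, ?_⟩
      rw [← e₁, ← e₂]
      ring
    have hϖP : ∃ a b : E, a ∈ Subring.closure (Set.range ΦE ∪ {ϖ}) ∧
          b ∈ Subring.closure (Set.range ΦE ∪ {ϖ}) ∧ b ≠ 0 ∧ ϖ * b = a :=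
      ⟨ϖ, 1, Subring.subset_closure (Or.inr rfl), Subring.one_mem _, one_ne_zero, mul_one _⟩
    have hFP : ∀ y : F, ∃ a b : E, a ∈ Subring.closure (Set.range ΦE ∪ {ϖ}) ∧
          b ∈ Subring.closure (Set.range ΦE ∪ {ϖ}) ∧ b ≠ 0 ∧ algebraMap F E y * b = a := by
      intro y
      obtain ⟨a, b, hb0, hab⟩ := hfrac y
      refine ⟨ΦE a, ΦE b, Subring.subset_closure (Or.inl ⟨a, rfl⟩),
        Subring.subset_closure (Or.inl ⟨b, rfl⟩), ?_, ?_⟩
      · show algebraMap F E (Φ b) ≠ 0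
        rw [Ne, map_eq_zero]
        exact hb0
      · show algebraMap F E y * algebraMap F E (Φ b) = algebraMap F E (Φ a)
        rw [← map_mul, hab]
    have hpowP : ∀ n : ℕ, ∃ a b : E, a ∈ Subring.closure (Set.range ΦE ∪ {ϖ}) ∧
          b ∈ Subring.closure (Set.range ΦE ∪ {ϖ}) ∧ b ≠ 0 ∧ ϖ ^ n * b = a := by
      intro n
      induction n with
      | zero => exact ⟨1, 1, Subring.one_mem _, Subring.one_mem _, one_ne_zero, by simp⟩
      | succ n ih =>
        rw [pow_succ]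
        exact hmulP _ _ ih hϖP
    intro x
    induction x using AdjoinRoot.induction_on with
    | ih p =>
      induction p using Polynomial.induction_on' with
      | add p q hp hq =>
        rw [map_add]
        exact haddP _ _ hp hq
      | monomial n a =>
        have : AdjoinRoot.mk h (monomial n a) = algebraMap F E a * ϖ ^ n := by
          rw [← C_mul_X_pow_eq_monomial, map_mul, map_pow, AdjoinRoot.mk_C, AdjoinRoot.mk_X]
          rfl
        rw [this]
        exact hmulP _ _ (hFP a) (hpowP n)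
  have hϖ' : ϖ ^ Ideal.ramificationIdx' (maximalIdeal A) (maximalIdeal V') = gE πB := by
    rw [← hedef]
    exact hϖ
  letI : Algebra B W₂ := (RingHom.codRestrict gE W₂ hdE.1).toAlgebra
  haveI : IsLocalHom (algebraMap B W₂) := DvrExtH8.isLocalHom_of_dominates gE W₂ hdE
  obtain ⟨hDVR₂, hram₂, hsep₂⟩ := tame_aux (A := A) (B := B) hAB V' hAV he (E := E) gE hgE W₂ hdE
    ΦE hΦEB hΦEW πB hπB ϖ hϖ' hfracE
  letI : Algebra W W₂ :=
    (RingHom.codRestrict ((algebraMap F E).comp W.subtype) W₂ hW₂).toAlgebra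
  haveI : IsLocalHom (algebraMap W W₂) := hloc
  haveI : IsScalarTower B W W₂ := IsScalarTower.of_algebraMap_eq (fun b => rfl)
  have hinj1 : Function.Injective (algebraMap B W) := by
    intro x y hxy
    apply hgB
    exact congrArg (fun z : W => (z : F)) hxy
  have hinj2 : Function.Injective (algebraMap W W₂) := by
    intro x y hxy
    apply Subtype.ext
    apply (algebraMap F E).injective
    exact congrArg (fun z : W₂ => (z : E)) hxy
  haveI := hWdvr
  haveI := hDVR₂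
  have htower := DvrExtH8.ramificationIdx'_tower (A := B) (V := W) (W := W₂) hinj1 hinj2
  refine ⟨?_, ?_⟩
  · haveI := hsep₂
    let ι : W →ₐ[B] W₂ := IsScalarTower.toAlgHom B W W₂
    haveI : IsLocalHom ι := ⟨fun a ha => isUnit_of_map_unit (algebraMap W W₂) a ha⟩
    exact Algebra.IsSeparable.of_algHom (ResidueField B) (ResidueField W₂)
      (ResidueField.mapAlgHom' ι)
  · intro p hp hchar
    haveI : CharP (ResidueField A) p :=
      RingHom.charP (algebraMap (ResidueField A) (ResidueField B))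
        (algebraMap (ResidueField A) (ResidueField B)).injective p
    have h1 := he p hp this
    intro hdvd
    apply h1
    rw [← hram₂, htower]
    exact Dvd.dvd.mul_right hdvd _

end TameExtH8
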