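import Mathlib
import Groth.Agent.Lib.DvrExt3_helper8
import Groth.Agent.Lib.DvrExt4_helper8
import Groth.Agent.Lib.DvrExt5_helper8
import Groth.Agent.Lib.DvrExt6_helper8
import Groth.Agent.Lib.DvrExt1_helper8
import Groth.Agent.Lib.TameExt4_helper8
import Groth.Agent.Lib.TameExt6_helper8

set_option autoImplicit false
universe u

namespace TameExtH8

open DvrExtH8

open IsLocalRing TensorProduct

set_option maxHeartbeats 800000 in
theorem tame_baseChange (A B K L K' : Type u) [CommRing A] [IsDomain A]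
    [IsDiscreteValuationRing A] [CommRing B] [IsDomain B] [IsDiscreteValuationRing B] [Algebra A B]
    [IsLocalHom (algebraMap A B)] (hinj : Function.Injective (algebraMap A B))
    [Field K] [Field L] [Field K'] [Algebra A K] [IsFractionRing A K] [Algebra B L] [IsFractionRing B L]
    [Algebra K L] [Algebra A L] [IsScalarTower A K L] [IsScalarTower A B L]
    [Algebra K K'] [FiniteDimensional K K'] [Algebra.IsSeparable K K']
    (h : EtRam.IsTamelyRamified A ((algebraMap K K').comp (algebraMap A K)))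
    (F : Type u) [Field F] [Algebra (K' ⊗[K] L) F] (hF : Function.Surjective (algebraMap (K' ⊗[K] L) F)) :
    EtRam.IsTamelyRamified B ((algebraMap (K' ⊗[K] L) F).comp
      ((Algebra.TensorProduct.includeRight : L →ₐ[K] K' ⊗[K] L).toRingHom.comp (algebraMap B L))) := by
  classical
  intro V hd
  obtain ⟨ιL, hιL⟩ : ∃ ιL : L →+* F, ιL = (algebraMap (K' ⊗[K] L) F).comp
    (Algebra.TensorProduct.includeRight : L →ₐ[K] K' ⊗[K] L).toRingHom := ⟨_, rfl⟩
  obtain ⟨ιK', hιK'⟩ : ∃ ιK' : K' →+* F, ιK' = (algebraMap (K' ⊗[K] L) F).comp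
    (Algebra.TensorProduct.includeLeft : K' →ₐ[K] K' ⊗[K] L).toRingHom := ⟨_, rfl⟩
  obtain ⟨g, hg⟩ : ∃ g : B →+* F, g = ιL.comp (algebraMap B L) := ⟨_, rfl⟩
  have hgoal : ((algebraMap (K' ⊗[K] L) F).comp
      ((Algebra.TensorProduct.includeRight : L →ₐ[K] K' ⊗[K] L).toRingHom.comp (algebraMap B L))) = g := by
    rw [hg, hιL, RingHom.comp_assoc]
  have hginj : Function.Injective g := by
    rw [hg]
    exact ιL.injective.comp (IsFractionRing.injective B L)
  have htmul : ∀ (k : K') (l : L), algebraMap (K' ⊗[K] L) F (k ⊗ₜ l) = ιK' k * ιL l := by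
    intro k l
    rw [hιK', hιL]
    show _ = algebraMap (K' ⊗[K] L) F (k ⊗ₜ[K] (1 : L)) *
      algebraMap (K' ⊗[K] L) F ((1 : K') ⊗ₜ[K] l)
    rw [← map_mul, Algebra.TensorProduct.tmul_mul_tmul, mul_one, one_mul]
  -- the structure of `A`-algebra on `K'`
  letI : Algebra A K' := ((algebraMap K K').comp (algebraMap A K)).toAlgebra
  haveI : IsScalarTower A K K' := IsScalarTower.of_algebraMap_eq (fun _ => rfl)
  have hcompat : ∀ a : A, ιK' (algebraMap A K' a) = g (algebraMap A B a) := by
    intro a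
    rw [hg, hιK', hιL]
    show algebraMap (K' ⊗[K] L) F ((algebraMap K K' (algebraMap A K a)) ⊗ₜ[K] (1 : L)) =
      algebraMap (K' ⊗[K] L) F ((1 : K') ⊗ₜ[K] (algebraMap B L (algebraMap A B a)))
    congr 1
    rw [← IsScalarTower.algebraMap_apply A B L, IsScalarTower.algebraMap_apply A K L,
      Algebra.algebraMap_eq_smul_one (algebraMap A K a), Algebra.algebraMap_eq_smul_one (algebraMap A K a),
      TensorProduct.smul_tmul]
  revert hd
  rw [hgoal]
  intro hd
  -- domination of `A`
  have hdA : EtRam.Dominates A (g.comp (algebraMap A B)) V := by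
    refine ⟨fun a => hd.1 _, fun a ha => hd.2 _ ?_⟩
    rw [mem_maximalIdeal] at ha ⊢
    intro hu
    exact ha (isUnit_of_map_unit (algebraMap A B) a hu)
  obtain ⟨V', hV'⟩ : ∃ V' : ValuationSubring K', V' = V.comap ιK' := ⟨_, rfl⟩
  have hdV' : EtRam.Dominates A (algebraMap A K') V' := by
    rw [hV']
    exact dominates_of_comap (algebraMap A K') ιK' V (g.comp (algebraMap A B))
      (fun a => (hcompat a).symm) hdA
  letI : Algebra A V' := (RingHom.codRestrict (algebraMap A K') V' hdV'.1).toAlgebra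
  haveI : IsLocalHom (algebraMap A V') := isLocalHom_of_dominates (algebraMap A K') V' hdV'
  haveI : Algebra.EssFiniteType A V' := essFiniteType_of_dominates (K := K) V' hdV'
  obtain ⟨hsep, he⟩ := h V' hdV'
  haveI := hsep
  haveI : IsDiscreteValuationRing V' := isDVR_of_dominates (A := A) (K := K) (L := K') V' hdV'
  have hAV : Function.Injective (algebraMap A V') := by
    intro x y hxy
    apply comp_injective (A := A) (K := K) (L := K')
    exact congrArg (fun z : V' => (z : K')) hxy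
  -- `W = V` is a DVR
  letI : Algebra L F := ιL.toAlgebra
  have hLF : algebraMap L F = (algebraMap (K' ⊗[K] L) F).comp
      (Algebra.TensorProduct.includeRight : L →ₐ[K] K' ⊗[K] L).toRingHom := hιL
  obtain ⟨hfin, hsepF⟩ := finite_separable_of_surjective K L K' F hF hLF
  haveI := hfin
  haveI := hsepF
  have hVdvr : IsDiscreteValuationRing V := by
    apply isDVR_of_dominates (A := B) (K := L) (L := F) V
    rw [hg] at hd
    exact hd
  -- the algebra `T₀`
  letI : Algebra B F := g.toAlgebra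
  letI : Algebra A F := (g.comp (algebraMap A B)).toAlgebra
  haveI : IsScalarTower A B F := IsScalarTower.of_algebraMap_eq (fun _ => rfl)
  have hV'mem' : ∀ x ∈ V', ιK' x ∈ V := by
    intro x hx
    rw [hV'] at hx
    exact hx
  have hV'mem : ∀ v : V', ιK' (v : K') ∈ V := fun v => hV'mem' _ v.2
  let fV' : V' →ₐ[A] F :=
    { ιK'.comp V'.subtype with
      commutes' := fun a => hcompat a }
  let Φ : B ⊗[A] V' →ₐ[B] F :=
    Algebra.TensorProduct.lift (Algebra.ofId B F) fV' (fun _ _ => Commute.all _ _)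
  have hΦ : ∀ (b : B) (v : V'), Φ (b ⊗ₜ v) = g b * ιK' (v : K') := by
    intro b v
    rw [Algebra.TensorProduct.lift_tmul]
    rfl
  have hφB : ∀ b, Φ.toRingHom (algebraMap B (B ⊗[A] V') b) = g b := by
    intro b
    show Φ (algebraMap B (B ⊗[A] V') b) = g b
    rw [AlgHom.commutes]
    rfl
  have hφV : ∀ t, Φ.toRingHom t ∈ V := by
    intro t
    show Φ t ∈ V
    induction t using TensorProduct.induction_on with
    | zero => rw [map_zero]; exact V.zero_mem
    | add x y hx hy => rw [map_add]; exact V.add_mem _ _ hx hy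
    | tmul b v => rw [hΦ]; exact V.mul_mem _ _ (hd.1 b) (hV'mem v)
  have hfrac : ∀ x : F, ∃ a b : B ⊗[A] V', Φ.toRingHom b ≠ 0 ∧ x * Φ.toRingHom b = Φ.toRingHom a := by
    intro x
    obtain ⟨y, rfl⟩ := hF x
    show ∃ a b : B ⊗[A] V', Φ b ≠ 0 ∧ algebraMap (K' ⊗[K] L) F y * Φ b = Φ a
    induction y using TensorProduct.induction_on with
    | zero => exact ⟨0, 1, by rw [map_one]; exact one_ne_zero, by rw [map_zero, map_zero, zero_mul]⟩
    | add y₁ y₂ h₁ h₂ =>
      obtain ⟨a₁, b₁, hb₁, e₁⟩ := h₁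
      obtain ⟨a₂, b₂, hb₂, e₂⟩ := h₂
      refine ⟨a₁ * b₂ + a₂ * b₁, b₁ * b₂, ?_, ?_⟩
      · rw [map_mul]; exact mul_ne_zero hb₁ hb₂
      · rw [map_add, map_add, map_mul, map_mul, map_mul, ← e₁, ← e₂]
        ring
    | tmul k l =>
      rw [htmul]
      obtain ⟨β, β', hβ', hl⟩ := IsFractionRing.div_surjective (A := B) l
      have hβ'0 : β' ≠ 0 := nonZeroDivisors.ne_zero hβ'
      have hgβ' : g β' ≠ 0 := fun h0 => hβ'0 (hginj (by rw [h0, map_zero]))
      have hιLl : ιL l * g β' = g β := by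
        rw [hg, RingHom.comp_apply, RingHom.comp_apply, ← map_mul, ← hl,
          div_mul_cancel₀ _ (fun h0 => hβ'0 (IsFractionRing.injective B L (by rw [h0, map_zero])))]
      rcases V'.mem_or_inv_mem k with hk | hk
      · refine ⟨β ⊗ₜ ⟨k, hk⟩, β' ⊗ₜ 1, ?_, ?_⟩
        · rw [hΦ]
          simp only [OneMemClass.coe_one, map_one, mul_one]
          exact hgβ'
        · rw [hΦ, hΦ]
          simp only [OneMemClass.coe_one, map_one, mul_one]
          rw [mul_assoc, hιLl, mul_comm]
      · by_cases hk0 : k = 0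
        · refine ⟨0, 1, by rw [map_one]; exact one_ne_zero, ?_⟩
          rw [hk0, map_zero, zero_mul, zero_mul, map_zero]
        · have hιk : ιK' k * ιK' k⁻¹ = 1 := by
            rw [← map_mul, mul_inv_cancel₀ hk0, map_one]
          refine ⟨β ⊗ₜ 1, β' ⊗ₜ ⟨k⁻¹, hk⟩, ?_, ?_⟩
          · rw [hΦ]
            exact mul_ne_zero hgβ' (right_ne_zero_of_mul_eq_one hιk)
          · rw [hΦ, hΦ]
            simp only [OneMemClass.coe_one, map_one, mul_one]
            calc ιK' k * ιL l * (g β' * ιK' k⁻¹) = (ιL l * g β') * (ιK' k * ιK' k⁻¹) := by ring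
              _ = g β := by rw [hιk, mul_one, hιLl]
  have hφB' : ∀ b, Φ.toRingHom (b ⊗ₜ (1 : V')) = g b := by
    intro b
    show Φ (b ⊗ₜ (1 : V')) = g b
    rw [hΦ]
    simp
  intro _
  exact tame_core hinj V' hAV he g hginj V hd hVdvr Φ.toRingHom hφB' hφV hfrac

end TameExtH8
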