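import Mathlib
import Groth.Prelude.Def_EtRam
import Groth.Agent.Lib.DvrExt1_helper8
import Groth.Agent.Lib.DvrExt3_helper8
import Groth.Agent.Lib.DvrExt4_helper8
import Groth.Agent.Lib.DvrExt7_helper8
import Groth.Agent.Lib.TameExt7_helper8
import Groth.Agent.Lib.RamCompos1_helper8

set_option autoImplicit false
universe u

namespace RamComposH8

open IsLocalRing DvrExtH8 TensorProduct

set_option maxHeartbeats 1600000 in
theorem unram_compositum (A K : Type u) [CommRing A] [IsDomain A] [IsDiscreteValuationRing A]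
    [Field K] [Algebra A K] [IsFractionRing A K]
    (L₁ L₂ : Type u) [Field L₁] [Field L₂] [Algebra K L₁] [Algebra K L₂]
    [FiniteDimensional K L₁] [FiniteDimensional K L₂]
    [Algebra.IsSeparable K L₁] [Algebra.IsSeparable K L₂]
    (h₁ : EtRam.IsUnramifiedExt A ((algebraMap K L₁).comp (algebraMap A K)))
    (h₂ : EtRam.IsUnramifiedExt A ((algebraMap K L₂).comp (algebraMap A K)))
    (F : Type u) [Field F] [Algebra K F] (φ₁ : L₁ →ₐ[K] F) (φ₂ : L₂ →ₐ[K] F)
    (hsurj : Function.Surjective (Algebra.TensorProduct.productMap φ₂ φ₁)) :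
    EtRam.IsUnramifiedExt A ((algebraMap K F).comp (algebraMap A K)) := by
  classical
  intro W hdW
  letI : Algebra A W :=
    (RingHom.codRestrict ((algebraMap K F).comp (algebraMap A K)) W hdW.1).toAlgebra
  intro _
  -- the valuation ring downstairs
  have hg : ∀ a, ((algebraMap K F).comp (algebraMap A K)) a =
      φ₁.toRingHom (((algebraMap K L₁).comp (algebraMap A K)) a) := by
    intro a
    show algebraMap K F (algebraMap A K a) = φ₁ (algebraMap K L₁ (algebraMap A K a))
    rw [AlgHom.commutes]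
  obtain ⟨V₁, hV₁⟩ : ∃ V₁ : ValuationSubring L₁, V₁ = W.comap φ₁.toRingHom := ⟨_, rfl⟩
  have hdV₁ : EtRam.Dominates A ((algebraMap K L₁).comp (algebraMap A K)) V₁ := by
    rw [hV₁]
    exact dominates_of_comap _ φ₁.toRingHom W _ hg hdW
  letI : Algebra A L₁ := ((algebraMap K L₁).comp (algebraMap A K)).toAlgebra
  haveI : IsScalarTower A K L₁ := IsScalarTower.of_algebraMap_eq (fun _ => rfl)
  letI : Algebra A V₁ := (RingHom.codRestrict (algebraMap A L₁) V₁ hdV₁.1).toAlgebra
  haveI : IsLocalHom (algebraMap A V₁) := isLocalHom_of_dominates (algebraMap A L₁) V₁ hdV₁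
  haveI : IsDiscreteValuationRing V₁ := isDVR_of_dominates (A := A) (K := K) (L := L₁) V₁ hdV₁
  haveI : IsScalarTower A V₁ L₁ := IsScalarTower.of_algebraMap_eq (fun _ => rfl)
  obtain ⟨hwu₁, hsep₁⟩ := h₁ V₁ hdV₁
  haveI := hsep₁
  -- base change
  letI : Algebra (L₂ ⊗[K] L₁) F := (Algebra.TensorProduct.productMap φ₂ φ₁).toRingHom.toAlgebra
  have hbc := unramified_baseChange A V₁ K L₁ L₂ h₂ F hsurj
  have hmap : ((algebraMap (L₂ ⊗[K] L₁) F).comp
      ((Algebra.TensorProduct.includeRight : L₁ →ₐ[K] L₂ ⊗[K] L₁).toRingHom.comp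
        (algebraMap V₁ L₁))) = φ₁.toRingHom.comp V₁.subtype := by
    ext v
    show (Algebra.TensorProduct.productMap φ₂ φ₁) ((1 : L₂) ⊗ₜ[K] (v : L₁)) = φ₁ (v : L₁)
    rw [Algebra.TensorProduct.productMap_apply_tmul, map_one, one_mul]
  rw [hmap] at hbc
  have hdVW : EtRam.Dominates V₁ (φ₁.toRingHom.comp V₁.subtype) W := by
    have := dominates_comap φ₁.toRingHom W
    rw [← hV₁] at this
    exact this
  letI : Algebra V₁ W :=
    (RingHom.codRestrict (φ₁.toRingHom.comp V₁.subtype) W hdVW.1).toAlgebra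
  haveI : IsLocalHom (algebraMap V₁ W) := isLocalHom_of_dominates _ W hdVW
  obtain ⟨hwu₂, hsep₂⟩ := hbc W hdVW
  haveI := hsep₂
  haveI : IsScalarTower A V₁ W := IsScalarTower.of_algebraMap_eq (fun a => Subtype.ext (hg a))
  exact unram_trans hwu₁ hwu₂

set_option maxHeartbeats 1600000 in
theorem tame_compositum (A K : Type u) [CommRing A] [IsDomain A] [IsDiscreteValuationRing A]
    [Field K] [Algebra A K] [IsFractionRing A K]
    (L₁ L₂ : Type u) [Field L₁] [Field L₂] [Algebra K L₁] [Algebra K L₂]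
    [FiniteDimensional K L₁] [FiniteDimensional K L₂]
    [Algebra.IsSeparable K L₁] [Algebra.IsSeparable K L₂]
    (h₁ : EtRam.IsTamelyRamified A ((algebraMap K L₁).comp (algebraMap A K)))
    (h₂ : EtRam.IsTamelyRamified A ((algebraMap K L₂).comp (algebraMap A K)))
    (F : Type u) [Field F] [Algebra K F] (φ₁ : L₁ →ₐ[K] F) (φ₂ : L₂ →ₐ[K] F)
    (hsurj : Function.Surjective (Algebra.TensorProduct.productMap φ₂ φ₁)) :
    EtRam.IsTamelyRamified A ((algebraMap K F).comp (algebraMap A K)) := by
  classical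
  intro W hdW
  letI : Algebra A W :=
    (RingHom.codRestrict ((algebraMap K F).comp (algebraMap A K)) W hdW.1).toAlgebra
  intro _
  -- the valuation ring downstairs
  have hg : ∀ a, ((algebraMap K F).comp (algebraMap A K)) a =
      φ₁.toRingHom (((algebraMap K L₁).comp (algebraMap A K)) a) := by
    intro a
    show algebraMap K F (algebraMap A K a) = φ₁ (algebraMap K L₁ (algebraMap A K a))
    rw [AlgHom.commutes]
  obtain ⟨V₁, hV₁⟩ : ∃ V₁ : ValuationSubring L₁, V₁ = W.comap φ₁.toRingHom := ⟨_, rfl⟩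
  have hdV₁ : EtRam.Dominates A ((algebraMap K L₁).comp (algebraMap A K)) V₁ := by
    rw [hV₁]
    exact dominates_of_comap _ φ₁.toRingHom W _ hg hdW
  letI : Algebra A L₁ := ((algebraMap K L₁).comp (algebraMap A K)).toAlgebra
  haveI : IsScalarTower A K L₁ := IsScalarTower.of_algebraMap_eq (fun _ => rfl)
  letI : Algebra A V₁ := (RingHom.codRestrict (algebraMap A L₁) V₁ hdV₁.1).toAlgebra
  haveI : IsLocalHom (algebraMap A V₁) := isLocalHom_of_dominates (algebraMap A L₁) V₁ hdV₁
  haveI : IsDiscreteValuationRing V₁ := isDVR_of_dominates (A := A) (K := K) (L := L₁) V₁ hdV₁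
  haveI : IsScalarTower A V₁ L₁ := IsScalarTower.of_algebraMap_eq (fun _ => rfl)
  obtain ⟨hsep₁, he₁⟩ := h₁ V₁ hdV₁
  haveI := hsep₁
  have hAV : Function.Injective (algebraMap A V₁) := by
    intro x y hxy
    apply comp_injective (A := A) (K := K) (L := L₁)
    exact congrArg (fun z : V₁ => (z : L₁)) hxy
  -- base change
  letI : Algebra (L₂ ⊗[K] L₁) F := (Algebra.TensorProduct.productMap φ₂ φ₁).toRingHom.toAlgebra
  have hbc := TameExtH8.tame_baseChange A V₁ K L₁ L₂ hAV h₂ F hsurj
  have hmap : ((algebraMap (L₂ ⊗[K] L₁) F).comp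
      ((Algebra.TensorProduct.includeRight : L₁ →ₐ[K] L₂ ⊗[K] L₁).toRingHom.comp
        (algebraMap V₁ L₁))) = φ₁.toRingHom.comp V₁.subtype := by
    ext v
    show (Algebra.TensorProduct.productMap φ₂ φ₁) ((1 : L₂) ⊗ₜ[K] (v : L₁)) = φ₁ (v : L₁)
    rw [Algebra.TensorProduct.productMap_apply_tmul, map_one, one_mul]
  rw [hmap] at hbc
  have hdVW : EtRam.Dominates V₁ (φ₁.toRingHom.comp V₁.subtype) W := by
    have := dominates_comap φ₁.toRingHom W
    rw [← hV₁] at this
    exact this
  letI : Algebra V₁ W :=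
    (RingHom.codRestrict (φ₁.toRingHom.comp V₁.subtype) W hdVW.1).toAlgebra
  haveI : IsLocalHom (algebraMap V₁ W) := isLocalHom_of_dominates _ W hdVW
  obtain ⟨hsep₂, he₂⟩ := hbc W hdVW
  haveI := hsep₂
  haveI : IsScalarTower A V₁ W := IsScalarTower.of_algebraMap_eq (fun a => Subtype.ext (hg a))
  haveI : IsDiscreteValuationRing W := by
    haveI : FiniteDimensional K F := by
      haveI : Module.Finite K (L₂ ⊗[K] L₁) := Module.Finite.tensorProduct K L₂ L₁
      exact Module.Finite.of_surjective (Algebra.TensorProduct.productMap φ₂ φ₁).toLinearMap hsurj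
    haveI : Algebra.IsSeparable K F := by
      haveI : Algebra.FormallyUnramified K L₁ := Algebra.FormallyUnramified.of_isSeparable K L₁
      haveI : Algebra.FormallyUnramified K L₂ := Algebra.FormallyUnramified.of_isSeparable K L₂
      haveI : Algebra.FormallyUnramified K (L₂ ⊗[K] L₁) :=
        Algebra.FormallyUnramified.comp K L₂ (L₂ ⊗[K] L₁)
      haveI : Algebra.FormallyUnramified K F :=
        Algebra.FormallyUnramified.of_surjective (Algebra.TensorProduct.productMap φ₂ φ₁) hsurj
      exact Algebra.FormallyUnramified.isSeparable K F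
    exact isDVR_of_dominates (A := A) (K := K) (L := F) W hdW
  have hVW : Function.Injective (algebraMap V₁ W) := by
    intro x y hxy
    apply Subtype.ext
    apply φ₁.toRingHom.injective
    exact congrArg (fun z : W => (z : F)) hxy
  exact tame_trans hAV hVW he₁ he₂


theorem finite_separable_compositum (K : Type u) [Field K]
    (L₁ L₂ : Type u) [Field L₁] [Field L₂] [Algebra K L₁] [Algebra K L₂]
    [FiniteDimensional K L₁] [FiniteDimensional K L₂]
    [Algebra.IsSeparable K L₁] [Algebra.IsSeparable K L₂]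
    (F : Type u) [Field F] [Algebra K F] (φ₁ : L₁ →ₐ[K] F) (φ₂ : L₂ →ₐ[K] F)
    (hsurj : Function.Surjective (Algebra.TensorProduct.productMap φ₂ φ₁)) :
    FiniteDimensional K F ∧ Algebra.IsSeparable K F := by
  haveI : FiniteDimensional K F := by
    haveI : Module.Finite K (L₂ ⊗[K] L₁) := Module.Finite.tensorProduct K L₂ L₁
    exact Module.Finite.of_surjective (Algebra.TensorProduct.productMap φ₂ φ₁).toLinearMap hsurj
  refine ⟨inferInstance, ?_⟩
  haveI : Algebra.FormallyUnramified K L₁ := Algebra.FormallyUnramified.of_isSeparable K L₁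
  haveI : Algebra.FormallyUnramified K L₂ := Algebra.FormallyUnramified.of_isSeparable K L₂
  haveI : Algebra.FormallyUnramified K (L₂ ⊗[K] L₁) :=
    Algebra.FormallyUnramified.comp K L₂ (L₂ ⊗[K] L₁)
  haveI : Algebra.FormallyUnramified K F :=
    Algebra.FormallyUnramified.of_surjective (Algebra.TensorProduct.productMap φ₂ φ₁) hsurj
  exact Algebra.FormallyUnramified.isSeparable K F

end RamComposH8
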