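import Mathlib
import Groth.Prelude.Def_EtRam
import Groth.Agent.Lib.RamCompos2_helper8

set_option autoImplicit false
universe u

namespace RamComposH8

open IsLocalRing TensorProduct IntermediateField

section generic

variable (K : Type u) [Field K]
  (P : ∀ (E : Type u) [Field E] [Algebra K E], Prop)

/-- The compositum property for a predicate on finite separable extensions. -/
def CompositumStable : Prop :=
  ∀ (L₁ L₂ : Type u) [Field L₁] [Field L₂] [Algebra K L₁] [Algebra K L₂]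
    [FiniteDimensional K L₁] [FiniteDimensional K L₂]
    [Algebra.IsSeparable K L₁] [Algebra.IsSeparable K L₂],
    P L₁ → P L₂ → ∀ (F : Type u) [Field F] [Algebra K F] (φ₁ : L₁ →ₐ[K] F) (φ₂ : L₂ →ₐ[K] F),
      Function.Surjective (Algebra.TensorProduct.productMap φ₂ φ₁) → P F

variable {K P}

/-- Common extension. -/
theorem exists_common (hP : CompositumStable K P)
    (L₁ L₂ : Type u) [Field L₁] [Field L₂] [Algebra K L₁] [Algebra K L₂]
    [FiniteDimensional K L₁] [FiniteDimensional K L₂]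
    [Algebra.IsSeparable K L₁] [Algebra.IsSeparable K L₂] (h₁ : P L₁) (h₂ : P L₂) :
    ∃ (M : Type u) (_ : Field M) (_ : Algebra K M) (_ : FiniteDimensional K M)
      (_ : Algebra.IsSeparable K M) (_ : L₁ →ₐ[K] M) (_ : L₂ →ₐ[K] M), P M := by
  classical
  haveI : Nontrivial (L₂ ⊗[K] L₁) :=
    Algebra.TensorProduct.nontrivial_of_algebraMap_injective_of_isDomain K L₂ L₁
      (algebraMap K L₂).injective (algebraMap K L₁).injective
  obtain ⟨𝔮, h𝔮⟩ := Ideal.exists_maximal (L₂ ⊗[K] L₁)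
  letI : Field ((L₂ ⊗[K] L₁) ⧸ 𝔮) := Ideal.Quotient.field 𝔮
  let φ₁ : L₁ →ₐ[K] ((L₂ ⊗[K] L₁) ⧸ 𝔮) :=
    (Ideal.Quotient.mkₐ K 𝔮).comp Algebra.TensorProduct.includeRight
  let φ₂ : L₂ →ₐ[K] ((L₂ ⊗[K] L₁) ⧸ 𝔮) :=
    (Ideal.Quotient.mkₐ K 𝔮).comp Algebra.TensorProduct.includeLeft
  have hprod : Algebra.TensorProduct.productMap φ₂ φ₁ = Ideal.Quotient.mkₐ K 𝔮 := by
    apply Algebra.TensorProduct.ext'
    intro a b
    rw [Algebra.TensorProduct.productMap_apply_tmul]
    show Ideal.Quotient.mkₐ K 𝔮 (a ⊗ₜ 1) * Ideal.Quotient.mkₐ K 𝔮 (1 ⊗ₜ b) = _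
    rw [← map_mul, Algebra.TensorProduct.tmul_mul_tmul, mul_one, one_mul]
  have hsurj : Function.Surjective (Algebra.TensorProduct.productMap φ₂ φ₁) := by
    rw [hprod]
    exact Ideal.Quotient.mkₐ_surjective K 𝔮
  obtain ⟨hfin, hsep⟩ := finite_separable_compositum K L₁ L₂ _ φ₁ φ₂ hsurj
  exact ⟨(L₂ ⊗[K] L₁) ⧸ 𝔮, inferInstance, inferInstance, hfin, hsep, φ₁, φ₂,
    hP L₁ L₂ h₁ h₂ _ φ₁ φ₂ hsurj⟩

/-- Galois closure. -/
theorem exists_galois (hP : CompositumStable K P)
    (L : Type u) [Field L] [Algebra K L] [FiniteDimensional K L] [Algebra.IsSeparable K L]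
    (h : P L) :
    ∃ (M : Type u) (_ : Field M) (_ : Algebra K M) (_ : FiniteDimensional K M) (_ : IsGalois K M)
      (_ : L →ₐ[K] M), P M := by
  classical
  let Ω := AlgebraicClosure L
  -- the motive
  let p : IntermediateField K Ω → Prop := fun E =>
    FiniteDimensional K E ∧ Algebra.IsSeparable K E ∧ P E
  have hrange : ∀ f : L →ₐ[K] Ω, p f.fieldRange := by
    intro f
    let e : L ≃ₐ[K] f.fieldRange := AlgEquiv.ofInjectiveField f
    have hsurj : Function.Surjective (Algebra.TensorProduct.productMap e.toAlgHom e.toAlgHom) := by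
      intro x
      obtain ⟨y, rfl⟩ := e.surjective x
      refine ⟨(1 : L) ⊗ₜ[K] y, ?_⟩
      rw [Algebra.TensorProduct.productMap_apply_tmul, map_one, one_mul]
      rfl
    obtain ⟨hfin, hsep⟩ := finite_separable_compositum K L L _ e.toAlgHom e.toAlgHom hsurj
    exact ⟨hfin, hsep, hP L L h h _ e.toAlgHom e.toAlgHom hsurj⟩
  have hsup : ∀ E₁ : IntermediateField K Ω, p E₁ → ∀ E₂ : IntermediateField K Ω, p E₂ →
      p (E₁ ⊔ E₂) := by
    rintro E₁ ⟨hf₁, hs₁, hP₁⟩ E₂ ⟨hf₂, hs₂, hP₂⟩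
    haveI := hf₁
    haveI := hf₂
    haveI := hs₁
    haveI := hs₂
    let φ₁ : E₁ →ₐ[K] ↥(E₁ ⊔ E₂) := IntermediateField.inclusion le_sup_left
    let φ₂ : E₂ →ₐ[K] ↥(E₁ ⊔ E₂) := IntermediateField.inclusion le_sup_right
    have hcomp : (E₁ ⊔ E₂).val.comp (Algebra.TensorProduct.productMap φ₂ φ₁) =
        Algebra.TensorProduct.productMap E₂.val E₁.val := by
      apply Algebra.TensorProduct.ext'
      intro a b
      simp only [AlgHom.comp_apply, Algebra.TensorProduct.productMap_apply_tmul, map_mul]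
      rfl
    have hrange' : (Algebra.TensorProduct.productMap E₂.val E₁.val).range =
        (E₁ ⊔ E₂).toSubalgebra := by
      rw [Algebra.TensorProduct.productMap_range, E₁.range_val, E₂.range_val, sup_comm E₁ E₂,
        sup_toSubalgebra_of_left]
    have hsurj : Function.Surjective (Algebra.TensorProduct.productMap φ₂ φ₁) := by
      intro x
      have hx : (x : Ω) ∈ (Algebra.TensorProduct.productMap E₂.val E₁.val).range := by
        rw [hrange']
        exact x.2
      obtain ⟨t, ht⟩ := hx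
      refine ⟨t, ?_⟩
      apply Subtype.ext
      rw [← ht, ← hcomp]
      rfl
    obtain ⟨hfin, hsep⟩ := finite_separable_compositum K E₁ E₂ _ φ₁ φ₂ hsurj
    exact ⟨hfin, hsep, hP E₁ E₂ hP₁ hP₂ _ φ₁ φ₂ hsurj⟩
  haveI : Nonempty (L →ₐ[K] Ω) := ⟨IsScalarTower.toAlgHom K L Ω⟩
  have hN : p (normalClosure K L Ω) := by
    rw [normalClosure_def, ← Finset.sup_univ_eq_iSup, ← Finset.sup'_eq_sup Finset.univ_nonempty]
    exact Finset.sup'_induction Finset.univ_nonempty _ hsup (fun f _ => hrange f)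
  obtain ⟨hfin, hsep, hPN⟩ := hN
  haveI := hsep
  exact ⟨normalClosure K L Ω, inferInstance, inferInstance, hfin, ⟨⟩,
    IsScalarTower.toAlgHom K L (normalClosure K L Ω), hPN⟩

end generic

end RamComposH8

namespace RamComposH8

open IsLocalRing

theorem compositumStable_unram (A K : Type u) [CommRing A] [IsDomain A]
    [IsDiscreteValuationRing A] [Field K] [Algebra A K] [IsFractionRing A K] :
    CompositumStable K (fun E _ _ =>
      EtRam.IsUnramifiedExt A ((algebraMap K E).comp (algebraMap A K))) := by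
  intro L₁ L₂ _ _ _ _ _ _ _ _ h₁ h₂ F _ _ φ₁ φ₂ hsurj
  exact unram_compositum A K L₁ L₂ h₁ h₂ F φ₁ φ₂ hsurj

theorem compositumStable_tame (A K : Type u) [CommRing A] [IsDomain A]
    [IsDiscreteValuationRing A] [Field K] [Algebra A K] [IsFractionRing A K] :
    CompositumStable K (fun E _ _ =>
      EtRam.IsTamelyRamified A ((algebraMap K E).comp (algebraMap A K))) := by
  intro L₁ L₂ _ _ _ _ _ _ _ _ h₁ h₂ F _ _ φ₁ φ₂ hsurj
  exact tame_compositum A K L₁ L₂ h₁ h₂ F φ₁ φ₂ hsurj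

end RamComposH8
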