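import Mathlib
import Groth.Prelude.Def_W4c1limliniiiiRamP1

/-!
# Self-maps of the projective line with three ramification points (S13918)

Uniqueness: for two pencils `span(s0,s1)`, `span(t0,t1)` with `s2 = s0+s1`, `t2 = t0+t1` and
`s_i, t_i` vanishing to order `e_i` at `P_i`, the polynomial `s0 t1 - t0 s1` has degree `≤ 2d` and
vanishes to total order `2d+1`.  Existence of a candidate by a dimension count; a separable candidate
is a base-point-free pencil with exact ramification by the Plücker count on the Wronskian.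
-/

set_option autoImplicit false

namespace Groth.Agent.Lib.RamThree

open Polynomial W4c1limliniiii

variable {k : Type*} [Field k]

lemma dXr (ρ : k) : derivative ((X : k[X]) - C ρ) = 1 := by
  rw [derivative_sub, derivative_X, derivative_C, sub_zero]

lemma deriv_pow_succ' (ρ : k) (n : ℕ) :
    derivative (((X : k[X]) - C ρ) ^ (n + 1)) = C ((n + 1 : ℕ) : k) * (X - C ρ) ^ n := by
  rw [derivative_pow, dXr, Nat.add_sub_cancel, mul_one]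

lemma mul_deriv_pow' (ρ : k) (n : ℕ) :
    ((X : k[X]) - C ρ) * derivative (((X : k[X]) - C ρ) ^ n) = C (n : k) * (X - C ρ) ^ n := by
  cases n with
  | zero => simp
  | succ m => rw [deriv_pow_succ', pow_succ]; ring

lemma natDegree_Xr_pow' (ρ : k) (n : ℕ) : (((X : k[X]) - C ρ) ^ n).natDegree = n := by
  rw [(monic_X_sub_C ρ).natDegree_pow, natDegree_X_sub_C, mul_one]

lemma finrank_degreeLT' (n : ℕ) : Module.finrank k ↥(degreeLT k n) = n :=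
  (degreeLTEquiv k n).finrank_eq.trans (Module.finrank_fin_fun k)

lemma forall_fin3 {Q : Fin 3 → Prop} (h0 : Q 0) (h1 : Q 1) (h2 : Q 2) : ∀ i, Q i := by
  intro i
  match i with
  | 0 => exact h0
  | 1 => exact h1
  | 2 => exact h2

/-! ### Wronskian divisibility -/

lemma B0 (ρ : k) (e : ℕ) (f g : k[X]) (hg : (X - C ρ) ^ (e + 1) ∣ g) :
    (X - C ρ) ^ e ∣ wronskian f g := by
  obtain ⟨v, rfl⟩ := hg
  refine ⟨C ((e + 1 : ℕ) : k) * f * v + (X - C ρ) * (f * derivative v - derivative f * v), ?_⟩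
  unfold wronskian
  rw [derivative_mul, deriv_pow_succ']
  ring

lemma B1 (ρ : k) (e : ℕ) (f g : k[X]) (hf : (X - C ρ) ∣ f) (hg : (X - C ρ) ^ e ∣ g) :
    (X - C ρ) ^ e ∣ wronskian f g := by
  obtain ⟨u, rfl⟩ := hf
  obtain ⟨v, rfl⟩ := hg
  have h1 := mul_deriv_pow' ρ e
  refine ⟨C (e : k) * u * v + (X - C ρ) * u * derivative v - u * v -
    (X - C ρ) * derivative u * v, ?_⟩
  unfold wronskian
  rw [derivative_mul, derivative_mul, dXr]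
  linear_combination (u * v) * h1

lemma L6a (ρ : k) (e : ℕ) (f g : k[X]) (hg : (X - C ρ) ^ e ∣ g)
    (hn : ¬ (X - C ρ) ^ e ∣ wronskian f g) (α β : k) (hs : α • f + β • g ≠ 0) :
    ¬ (X - C ρ) ^ (e + 1) ∣ α • f + β • g := by
  intro hd
  by_cases hα : α = 0
  · subst hα
    rw [zero_smul, zero_add] at hs hd
    have hβ : β ≠ 0 := by rintro rfl; exact hs (zero_smul _ _)
    have hg' : (X - C ρ) ^ (e + 1) ∣ g := by
      have h := hd.mul_left (C β⁻¹)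
      rwa [smul_eq_C_mul, ← mul_assoc, ← C_mul, inv_mul_cancel₀ hβ, C_1, one_mul] at h
    exact hn (B0 ρ e f g hg')
  · have hπ : (X - C ρ) ∣ α • f + β • g := (dvd_pow_self _ (Nat.succ_ne_zero e)).trans hd
    have h1 := B1 ρ e (α • f + β • g) g hπ hg
    have e1 : wronskian (α • f + β • g) g = C α * wronskian f g := by
      unfold wronskian
      simp only [smul_eq_C_mul, derivative_add, derivative_C_mul]
      ring
    rw [e1] at h1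
    have h2 := h1.mul_left (C α⁻¹)
    rw [← mul_assoc, ← C_mul, inv_mul_cancel₀ hα, C_1, one_mul] at h2
    exact hn h2

lemma L6b (ρ : k) (e : ℕ) (f g : k[X]) (hg : (X - C ρ) ^ e ∣ g)
    (hn : ¬ (X - C ρ) ^ e ∣ wronskian f g) : ¬ (X - C ρ) ∣ f :=
  fun hf => hn (B1 ρ e f g hf hg)

lemma not_dvd_of (ρ : k) (e : ℕ) (he : 1 ≤ e) (R : k[X]) (hR : R.eval ρ ≠ 0) :
    ¬ (X - C ρ) ^ e ∣ (X - C ρ) ^ (e - 1) * R := by
  intro h
  obtain ⟨n, rfl⟩ : ∃ n, e = n + 1 := ⟨e - 1, by omega⟩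
  rw [Nat.add_sub_cancel, pow_succ] at h
  have h1 : (X - C ρ) ∣ R := (mul_dvd_mul_iff_left (pow_ne_zero n (X_sub_C_ne_zero ρ))).1 h
  rw [dvd_iff_isRoot] at h1
  exact hR h1

lemma natDegree_wronskian_le (d : ℕ) (f g : k[X]) (hf : f.natDegree ≤ d)
    (hg : g.natDegree ≤ d) (hW : wronskian f g ≠ 0) : (wronskian f g).natDegree + 2 ≤ 2 * d := by
  have hf0 : f ≠ 0 := by rintro rfl; exact hW (wronskian_zero_left _)
  have hg0 : g ≠ 0 := by rintro rfl; exact hW (wronskian_zero_right _)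
  have hlt := natDegree_wronskian_lt_add hW
  by_cases hcase : f.natDegree = d ∧ g.natDegree = d
  · obtain ⟨hfd, hgd⟩ := hcase
    have hlf : f.leadingCoeff ≠ 0 := leadingCoeff_ne_zero.2 hf0
    have hlg : g.leadingCoeff ≠ 0 := leadingCoeff_ne_zero.2 hg0
    obtain ⟨c, hc⟩ : ∃ c : k, c = g.leadingCoeff / f.leadingCoeff := ⟨_, rfl⟩
    have hc0 : c ≠ 0 := by rw [hc]; exact div_ne_zero hlg hlf
    have hWeq : wronskian f (g - C c * f) = wronskian f g := by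
      unfold wronskian; rw [derivative_sub, derivative_C_mul]; ring
    have hW' : wronskian f (g - C c * f) ≠ 0 := by rw [hWeq]; exact hW
    have hg' : g - C c * f ≠ 0 := by
      intro h; rw [h] at hW'; exact hW' (wronskian_zero_right _)
    have hdeg : (g - C c * f).degree < g.degree := by
      apply degree_sub_lt
      · rw [degree_C_mul hc0, degree_eq_natDegree hf0, degree_eq_natDegree hg0, hfd, hgd]
      · exact hg0
      · rw [leadingCoeff_mul, leadingCoeff_C, hc, div_mul_cancel₀ _ hlf]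
    have hnd : (g - C c * f).natDegree < g.natDegree := natDegree_lt_natDegree hg' hdeg
    have hlt' := natDegree_wronskian_lt_add hW'
    rw [hWeq] at hlt'
    omega
  · have h3 : f.natDegree + g.natDegree + 1 ≤ 2 * d := by
      by_contra h
      apply hcase
      constructor <;> omega
    omega

/-! ### vanishing lemmas -/

lemma L1 (d : ℕ) (ρ σ : k) (hρσ : ρ ≠ σ) (a b : ℕ) (hab : d < a + b) (s : k[X])
    (hs : s.natDegree ≤ d) (h1 : (X - C ρ) ^ a ∣ s) (h2 : (X - C σ) ^ b ∣ s) : s = 0 := by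
  have hcop : IsCoprime ((X - C ρ : k[X]) ^ a) ((X - C σ) ^ b) :=
    (isCoprime_X_sub_C_of_isUnit_sub (sub_ne_zero.2 hρσ).isUnit).pow
  apply eq_zero_of_dvd_of_natDegree_lt (hcop.mul_dvd h1 h2)
  rw [((monic_X_sub_C ρ).pow a).natDegree_mul ((monic_X_sub_C σ).pow b), natDegree_Xr_pow',
    natDegree_Xr_pow']
  omega

lemma L3 (n : ℕ) (ρ0 ρ1 ρ2 : k) (h01 : ρ0 ≠ ρ1) (h02 : ρ0 ≠ ρ2) (h12 : ρ1 ≠ ρ2) (a0 a1 a2 : ℕ)
    (hlt : n < a0 + a1 + a2) (N : k[X]) (hN : N.natDegree ≤ n)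
    (d0 : (X - C ρ0) ^ a0 ∣ N) (d1 : (X - C ρ1) ^ a1 ∣ N) (d2 : (X - C ρ2) ^ a2 ∣ N) : N = 0 := by
  have c01 : IsCoprime ((X - C ρ0 : k[X]) ^ a0) ((X - C ρ1) ^ a1) :=
    (isCoprime_X_sub_C_of_isUnit_sub (sub_ne_zero.2 h01).isUnit).pow
  have c02 : IsCoprime ((X - C ρ0 : k[X]) ^ a0) ((X - C ρ2) ^ a2) :=
    (isCoprime_X_sub_C_of_isUnit_sub (sub_ne_zero.2 h02).isUnit).pow
  have c12 : IsCoprime ((X - C ρ1 : k[X]) ^ a1) ((X - C ρ2) ^ a2) :=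
    (isCoprime_X_sub_C_of_isUnit_sub (sub_ne_zero.2 h12).isUnit).pow
  have hD := (IsCoprime.mul_left c02 c12).mul_dvd (c01.mul_dvd d0 d1) d2
  apply eq_zero_of_dvd_of_natDegree_lt hD
  have m0 := (monic_X_sub_C ρ0).pow a0
  have m1 := (monic_X_sub_C ρ1).pow a1
  have m2 := (monic_X_sub_C ρ2).pow a2
  rw [(m0.mul m1).natDegree_mul m2, m0.natDegree_mul m1, natDegree_Xr_pow', natDegree_Xr_pow',
    natDegree_Xr_pow']
  omega

/-! ### pairs -/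

lemma mem_pair {t0 t1 s : k[X]} (hs : s ∈ Submodule.span k {t0} ⊔ Submodule.span k {t1}) :
    ∃ α β : k, s = α • t0 + β • t1 := by
  obtain ⟨y, hy, z, hz, rfl⟩ := Submodule.mem_sup.1 hs
  obtain ⟨α, rfl⟩ := Submodule.mem_span_singleton.1 hy
  obtain ⟨β, rfl⟩ := Submodule.mem_span_singleton.1 hz
  exact ⟨α, β, rfl⟩

lemma pair_mem (t0 t1 : k[X]) (α β : k) :
    α • t0 + β • t1 ∈ Submodule.span k {t0} ⊔ Submodule.span k {t1} :=
  Submodule.add_mem _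
    (Submodule.mem_sup_left (Submodule.smul_mem _ _ (Submodule.mem_span_singleton_self _)))
    (Submodule.mem_sup_right (Submodule.smul_mem _ _ (Submodule.mem_span_singleton_self _)))

lemma finrank_pair (u0 u1 : k[X]) (hu0 : u0 ≠ 0) (hu1 : u1 ≠ 0)
    (h : ∀ α β : k, α • u0 = β • u1 → α • u0 = 0) :
    Module.finrank k ↥(Submodule.span k {u0} ⊔ Submodule.span k {u1}) = 2 := by
  have hdisj : Submodule.span k {u0} ⊓ Submodule.span k {u1} = ⊥ := by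
    rw [eq_bot_iff]
    intro x hx
    obtain ⟨hx0, hx1⟩ := Submodule.mem_inf.1 hx
    obtain ⟨α, rfl⟩ := Submodule.mem_span_singleton.1 hx0
    obtain ⟨β, hβ⟩ := Submodule.mem_span_singleton.1 hx1
    rw [Submodule.mem_bot]
    exact h α β hβ.symm
  have h1 := Submodule.finrank_sup_add_finrank_inf_eq (Submodule.span k {u0})
    (Submodule.span k {u1})
  rw [hdisj, finrank_bot, finrank_span_singleton hu0, finrank_span_singleton hu1] at h1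
  omega

lemma L2 (d : ℕ) (ρ0 ρ1 ρ2 : k) (h01 : ρ0 ≠ ρ1) (h02 : ρ0 ≠ ρ2) (h12 : ρ1 ≠ ρ2)
    (a0 a1 a2 : ℕ) (g01 : d < a0 + a1) (g02 : d < a0 + a2) (g12 : d < a1 + a2)
    (V : Submodule k k[X]) (hV : V ≤ degreeLE k d) (h2 : Module.finrank k ↥V = 2)
    (c0 : ∃ s ∈ V, s ≠ 0 ∧ (X - C ρ0) ^ a0 ∣ s) (c1 : ∃ s ∈ V, s ≠ 0 ∧ (X - C ρ1) ^ a1 ∣ s)
    (c2 : ∃ s ∈ V, s ≠ 0 ∧ (X - C ρ2) ^ a2 ∣ s) :
    ∃ t0 t1 : k[X], t0 ∈ V ∧ t1 ∈ V ∧ t0 ≠ 0 ∧ t1 ≠ 0 ∧ (X - C ρ0) ^ a0 ∣ t0 ∧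
      (X - C ρ1) ^ a1 ∣ t1 ∧ (X - C ρ2) ^ a2 ∣ t0 + t1 ∧
      V = Submodule.span k {t0} ⊔ Submodule.span k {t1} := by
  obtain ⟨u0, hu0V, hu0, hd0⟩ := c0
  obtain ⟨u1, hu1V, hu1, hd1⟩ := c1
  obtain ⟨u2, hu2V, hu2, hd2⟩ := c2
  have hdeg : ∀ s ∈ V, s.natDegree ≤ d := fun s hs =>
    natDegree_le_of_degree_le (mem_degreeLE.1 (hV hs))
  haveI : Module.Finite k ↥V := Module.finite_of_finrank_pos (by rw [h2]; norm_num)
  have hsup : Submodule.span k {u0} ⊔ Submodule.span k {u1} = V := by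
    apply Submodule.eq_of_le_of_finrank_eq
      (sup_le ((Submodule.span_singleton_le_iff_mem _ _).2 hu0V)
        ((Submodule.span_singleton_le_iff_mem _ _).2 hu1V))
    rw [h2]
    refine finrank_pair u0 u1 hu0 hu1 fun α β hαβ => ?_
    exact L1 d ρ0 ρ1 h01 a0 a1 g01 _ (hdeg _ (Submodule.smul_mem _ _ hu0V))
      (by rw [smul_eq_C_mul]; exact hd0.mul_left _)
      (by rw [hαβ, smul_eq_C_mul]; exact hd1.mul_left _)
  have hu2' : u2 ∈ Submodule.span k {u0} ⊔ Submodule.span k {u1} := by rw [hsup]; exact hu2V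
  obtain ⟨α, β, hyz⟩ := mem_pair hu2'
  have hα : α ≠ 0 := by
    rintro rfl
    rw [zero_smul, zero_add] at hyz
    have h : (X - C ρ1) ^ a1 ∣ u2 := by rw [hyz, smul_eq_C_mul]; exact hd1.mul_left _
    exact hu2 (L1 d ρ1 ρ2 h12 a1 a2 g12 u2 (hdeg _ hu2V) h hd2)
  have hβ : β ≠ 0 := by
    rintro rfl
    rw [zero_smul, add_zero] at hyz
    have h : (X - C ρ0) ^ a0 ∣ u2 := by rw [hyz, smul_eq_C_mul]; exact hd0.mul_left _
    exact hu2 (L1 d ρ0 ρ2 h02 a0 a2 g02 u2 (hdeg _ hu2V) h hd2)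
  refine ⟨α • u0, β • u1, Submodule.smul_mem _ _ hu0V, Submodule.smul_mem _ _ hu1V,
    smul_ne_zero hα hu0, smul_ne_zero hβ hu1, ?_, ?_, ?_, ?_⟩
  · rw [smul_eq_C_mul]; exact hd0.mul_left _
  · rw [smul_eq_C_mul]; exact hd1.mul_left _
  · rw [← hyz]; exact hd2
  · rw [Submodule.span_singleton_smul_eq (IsUnit.mk0 α hα),
      Submodule.span_singleton_smul_eq (IsUnit.mk0 β hβ), hsup]

/-! ### uniqueness -/

lemma L4 [IsAlgClosed k] (d : ℕ) (ρ0 ρ1 ρ2 : k) (h01 : ρ0 ≠ ρ1) (h02 : ρ0 ≠ ρ2) (h12 : ρ1 ≠ ρ2)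
    (a0 a1 a2 : ℕ) (g01 : d < a0 + a1) (g02 : d < a0 + a2) (g12 : d < a1 + a2)
    (hsum : a0 + a1 + a2 = 2 * d + 1)
    (V V' : Submodule k k[X]) (hV : V ≤ degreeLE k d) (h2 : Module.finrank k ↥V = 2)
    (hVd : ∃ s ∈ V, s.natDegree = d) (hVb : ∀ a : k, ∃ s ∈ V, s.eval a ≠ 0)
    (c0 : ∃ s ∈ V, s ≠ 0 ∧ (X - C ρ0) ^ a0 ∣ s) (c1 : ∃ s ∈ V, s ≠ 0 ∧ (X - C ρ1) ^ a1 ∣ s)
    (c2 : ∃ s ∈ V, s ≠ 0 ∧ (X - C ρ2) ^ a2 ∣ s)
    (hV' : V' ≤ degreeLE k d) (h2' : Module.finrank k ↥V' = 2)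
    (c0' : ∃ s ∈ V', s ≠ 0 ∧ (X - C ρ0) ^ a0 ∣ s) (c1' : ∃ s ∈ V', s ≠ 0 ∧ (X - C ρ1) ^ a1 ∣ s)
    (c2' : ∃ s ∈ V', s ≠ 0 ∧ (X - C ρ2) ^ a2 ∣ s) : V' = V := by
  classical
  obtain ⟨s0, s1, hs0V, hs1V, hs0, hs1, ds0, ds1, ds2, hVeq⟩ :=
    L2 d ρ0 ρ1 ρ2 h01 h02 h12 a0 a1 a2 g01 g02 g12 V hV h2 c0 c1 c2
  obtain ⟨t0, t1, ht0V, ht1V, ht0, ht1, dt0, dt1, dt2, hV'eq⟩ :=
    L2 d ρ0 ρ1 ρ2 h01 h02 h12 a0 a1 a2 g01 g02 g12 V' hV' h2' c0' c1' c2'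
  have hdegV : ∀ s ∈ V, s.natDegree ≤ d := fun s hs =>
    natDegree_le_of_degree_le (mem_degreeLE.1 (hV hs))
  have hdegV' : ∀ s ∈ V', s.natDegree ≤ d := fun s hs =>
    natDegree_le_of_degree_le (mem_degreeLE.1 (hV' hs))
  have hN : s0 * t1 - t0 * s1 = 0 := by
    apply L3 (2 * d) ρ0 ρ1 ρ2 h01 h02 h12 a0 a1 a2 (by omega)
    · refine (natDegree_sub_le _ _).trans (max_le ?_ ?_)
      · exact (natDegree_mul_le_of_le (hdegV _ hs0V) (hdegV' _ ht1V)).trans (by omega)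
      · exact (natDegree_mul_le_of_le (hdegV' _ ht0V) (hdegV _ hs1V)).trans (by omega)
    · exact dvd_sub (ds0.mul_right _) (dt0.mul_right _)
    · exact dvd_sub (dt1.mul_left _) (ds1.mul_left _)
    · have e : s0 * t1 - t0 * s1 = s0 * (t0 + t1) - t0 * (s0 + s1) := by ring
      rw [e]; exact dvd_sub (dt2.mul_left _) (ds2.mul_left _)
  have hcop : IsCoprime s0 s1 := by
    rw [← EuclideanDomain.gcd_isUnit_iff, isUnit_iff_degree_eq_zero]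
    by_contra hdeg
    obtain ⟨a, ha⟩ := IsAlgClosed.exists_root _ hdeg
    rw [isRoot_gcd_iff_isRoot_left_right] at ha
    have e0 : s0.eval a = 0 := ha.1
    have e1 : s1.eval a = 0 := ha.2
    obtain ⟨s, hsV, hsa⟩ := hVb a
    rw [hVeq] at hsV
    obtain ⟨α, β, rfl⟩ := mem_pair hsV
    apply hsa
    rw [eval_add, eval_smul, eval_smul, e0, e1, smul_zero, smul_zero, add_zero]
  have hmul : s0 * t1 = t0 * s1 := sub_eq_zero.1 hN
  have h1 : s0 ∣ t0 := hcop.dvd_of_dvd_mul_right ⟨t1, hmul.symm⟩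
  obtain ⟨h, rfl⟩ := h1
  have ht1' : t1 = h * s1 := mul_left_cancel₀ hs0 (by rw [hmul]; ring)
  subst ht1'
  have hh0 : h ≠ 0 := by rintro rfl; exact ht0 (mul_zero _)
  have hhd : h.natDegree = 0 := by
    obtain ⟨s, hsV, hsd⟩ := hVd
    rw [hVeq] at hsV
    obtain ⟨α, β, rfl⟩ := mem_pair hsV
    have hle : d ≤ max s0.natDegree s1.natDegree := by
      rw [← hsd]
      exact (natDegree_add_le _ _).trans
        (max_le_max (natDegree_smul_le _ _) (natDegree_smul_le _ _))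
    have hb0 := hdegV' _ ht0V
    have hb1 := hdegV' _ ht1V
    rw [natDegree_mul hs0 hh0] at hb0
    rw [natDegree_mul hh0 hs1] at hb1
    rcases le_max_iff.1 hle with hc | hc <;> omega
  obtain ⟨c, hc⟩ : ∃ c : k, h = C c := ⟨h.coeff 0, eq_C_of_natDegree_eq_zero hhd⟩
  have hc0 : c ≠ 0 := by rintro rfl; rw [map_zero] at hc; exact hh0 hc
  rw [hV'eq, hVeq, hc]
  have e0 : s0 * C c = c • s0 := by rw [smul_eq_C_mul, mul_comm]
  have e1 : C c * s1 = c • s1 := by rw [smul_eq_C_mul]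
  rw [e0, e1, Submodule.span_singleton_smul_eq (IsUnit.mk0 c hc0),
    Submodule.span_singleton_smul_eq (IsUnit.mk0 c hc0)]

/-! ### existence of a candidate -/

noncomputable def Phi (ρ0 ρ1 ρ2 : k) (a0 a1 a2 n0 n1 n2 : ℕ) :
    (↥(degreeLT k n0) × ↥(degreeLT k n1) × ↥(degreeLT k n2)) →ₗ[k] k[X] where
  toFun x := (X - C ρ0) ^ a0 * (x.1 : k[X]) + (X - C ρ1) ^ a1 * (x.2.1 : k[X]) -
    (X - C ρ2) ^ a2 * (x.2.2 : k[X])
  map_add' x y := by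
    simp only [Prod.fst_add, Prod.snd_add, Submodule.coe_add]; ring
  map_smul' c x := by
    simp only [Prod.smul_fst, Prod.smul_snd, Submodule.coe_smul, RingHom.id_apply, smul_eq_C_mul]
    ring

lemma Phi_apply (ρ0 ρ1 ρ2 : k) (a0 a1 a2 n0 n1 n2 : ℕ)
    (x : ↥(degreeLT k n0) × ↥(degreeLT k n1) × ↥(degreeLT k n2)) :
    Phi ρ0 ρ1 ρ2 a0 a1 a2 n0 n1 n2 x = (X - C ρ0) ^ a0 * (x.1 : k[X]) +
      (X - C ρ1) ^ a1 * (x.2.1 : k[X]) - (X - C ρ2) ^ a2 * (x.2.2 : k[X]) := rfl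

lemma mem_degLT_mul (ρ : k) (a n m : ℕ) (hm : a + n ≤ m) (x : k[X]) (hx : x ∈ degreeLT k n) :
    (X - C ρ) ^ a * x ∈ degreeLT k m := by
  rw [mem_degreeLT] at hx ⊢
  by_cases hx0 : x = 0
  · rw [hx0, mul_zero, degree_zero]; exact WithBot.bot_lt_coe _
  · have h1 : x.natDegree < n := (natDegree_lt_iff_degree_lt hx0).2 hx
    rw [← natDegree_lt_iff_degree_lt (mul_ne_zero (pow_ne_zero _ (X_sub_C_ne_zero ρ)) hx0),
      natDegree_mul (pow_ne_zero _ (X_sub_C_ne_zero ρ)) hx0, natDegree_Xr_pow']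
    omega

lemma natDegree_le_of_mem_degreeLT_succ {f : k[X]} {d : ℕ} (h : f ∈ degreeLT k (d + 1)) :
    f.natDegree ≤ d := by
  rw [mem_degreeLT] at h
  by_cases h0 : f = 0
  · simp [h0]
  · exact Nat.lt_succ_iff.1 ((natDegree_lt_iff_degree_lt h0).2 h)

lemma Phi_ker (d : ℕ) (ρ0 ρ1 ρ2 : k) (a0 a1 a2 : ℕ) (l0 : a0 ≤ d) (l1 : a1 ≤ d) (l2 : a2 ≤ d)
    (hsum : a0 + a1 + a2 = 2 * d + 1) :
    ∃ x : ↥(degreeLT k (d + 1 - a0)) × ↥(degreeLT k (d + 1 - a1)) × ↥(degreeLT k (d + 1 - a2)),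
      x ≠ 0 ∧ Phi ρ0 ρ1 ρ2 a0 a1 a2 (d + 1 - a0) (d + 1 - a1) (d + 1 - a2) x = 0 := by
  have hrange : LinearMap.range
      (Phi ρ0 ρ1 ρ2 a0 a1 a2 (d + 1 - a0) (d + 1 - a1) (d + 1 - a2)) ≤ degreeLT k (d + 1) := by
    rintro _ ⟨x, rfl⟩
    rw [Phi_apply]
    exact Submodule.sub_mem _
      (Submodule.add_mem _ (mem_degLT_mul ρ0 a0 _ (d + 1) (by omega) _ x.1.2)
        (mem_degLT_mul ρ1 a1 _ (d + 1) (by omega) _ x.2.1.2))
      (mem_degLT_mul ρ2 a2 _ (d + 1) (by omega) _ x.2.2.2)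
  have hninj : ¬ Function.Injective
      (Phi ρ0 ρ1 ρ2 a0 a1 a2 (d + 1 - a0) (d + 1 - a1) (d + 1 - a2)) := by
    intro hinj
    have h1 := LinearMap.finrank_range_of_inj hinj
    have h2 := Submodule.finrank_mono hrange
    rw [h1, Module.finrank_prod, Module.finrank_prod, finrank_degreeLT', finrank_degreeLT',
      finrank_degreeLT', finrank_degreeLT'] at h2
    omega
  rw [← LinearMap.ker_eq_bot] at hninj
  obtain ⟨x, hx, hx0⟩ := Submodule.exists_mem_ne_zero_of_ne_bot hninj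
  exact ⟨x, hx0, LinearMap.mem_ker.1 hx⟩

lemma exists_candidate (d : ℕ) (ρ0 ρ1 ρ2 : k) (h01 : ρ0 ≠ ρ1) (h02 : ρ0 ≠ ρ2) (h12 : ρ1 ≠ ρ2)
    (a0 a1 a2 : ℕ) (l0 : a0 ≤ d) (l1 : a1 ≤ d) (l2 : a2 ≤ d) (hsum : a0 + a1 + a2 = 2 * d + 1) :
    ∃ t0 t1 : k[X], t0 ≠ 0 ∧ t1 ≠ 0 ∧ t0 + t1 ≠ 0 ∧ t0.natDegree ≤ d ∧ t1.natDegree ≤ d ∧
      (X - C ρ0) ^ a0 ∣ t0 ∧ (X - C ρ1) ^ a1 ∣ t1 ∧ (X - C ρ2) ^ a2 ∣ t0 + t1 := by
  have g01 : d < a0 + a1 := by omega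
  have g02 : d < a0 + a2 := by omega
  have g12 : d < a1 + a2 := by omega
  obtain ⟨x, hx0, hx⟩ := Phi_ker d ρ0 ρ1 ρ2 a0 a1 a2 l0 l1 l2 hsum
  rw [Phi_apply] at hx
  have dA : ((X - C ρ0) ^ a0 * (x.1 : k[X])).natDegree ≤ d :=
    natDegree_le_of_mem_degreeLT_succ (mem_degLT_mul ρ0 a0 _ (d + 1) (by omega) _ x.1.2)
  have dB : ((X - C ρ1) ^ a1 * (x.2.1 : k[X])).natDegree ≤ d :=
    natDegree_le_of_mem_degreeLT_succ (mem_degLT_mul ρ1 a1 _ (d + 1) (by omega) _ x.2.1.2)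
  have dC : ((X - C ρ2) ^ a2 * (x.2.2 : k[X])).natDegree ≤ d :=
    natDegree_le_of_mem_degreeLT_succ (mem_degLT_mul ρ2 a2 _ (d + 1) (by omega) _ x.2.2.2)
  obtain ⟨A, hA⟩ : ∃ A : k[X], A = (x.1 : k[X]) := ⟨_, rfl⟩
  obtain ⟨B, hB⟩ : ∃ B : k[X], B = (x.2.1 : k[X]) := ⟨_, rfl⟩
  obtain ⟨Cc, hC⟩ : ∃ Cc : k[X], Cc = (x.2.2 : k[X]) := ⟨_, rfl⟩
  rw [← hA, ← hB, ← hC] at hx
  rw [← hA] at dA
  rw [← hB] at dB
  rw [← hC] at dC
  have allzero : A = 0 → B = 0 → Cc = 0 → False := fun z1 z2 z3 =>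
    hx0 (Prod.ext (Subtype.ext (by rw [← hA]; exact z1))
      (Prod.ext (Subtype.ext (by rw [← hB]; exact z2)) (Subtype.ext (by rw [← hC]; exact z3))))
  have hT2 : (X - C ρ2) ^ a2 * Cc = (X - C ρ0) ^ a0 * A + (X - C ρ1) ^ a1 * B :=
    (sub_eq_zero.1 hx).symm
  have hπ : ∀ (ρ : k) (a : ℕ), ((X - C ρ : k[X]) ^ a) ≠ 0 := fun ρ a =>
    pow_ne_zero _ (X_sub_C_ne_zero ρ)
  have n0 : (X - C ρ0) ^ a0 * A ≠ 0 := by
    intro h0
    have e12 : (X - C ρ1) ^ a1 * B = (X - C ρ2) ^ a2 * Cc := by rw [hT2, h0, zero_add]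
    have z1 : (X - C ρ1) ^ a1 * B = 0 :=
      L1 d ρ1 ρ2 h12 a1 a2 g12 _ dB (dvd_mul_right _ _) (by rw [e12]; exact dvd_mul_right _ _)
    have z2 : (X - C ρ2) ^ a2 * Cc = 0 := by rw [← e12]; exact z1
    exact allzero ((mul_eq_zero.1 h0).resolve_left (hπ ρ0 a0))
      ((mul_eq_zero.1 z1).resolve_left (hπ ρ1 a1)) ((mul_eq_zero.1 z2).resolve_left (hπ ρ2 a2))
  have n1 : (X - C ρ1) ^ a1 * B ≠ 0 := by
    intro h0
    have e02 : (X - C ρ0) ^ a0 * A = (X - C ρ2) ^ a2 * Cc := by rw [hT2, h0, add_zero]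
    have z1 : (X - C ρ0) ^ a0 * A = 0 :=
      L1 d ρ0 ρ2 h02 a0 a2 g02 _ dA (dvd_mul_right _ _) (by rw [e02]; exact dvd_mul_right _ _)
    have z2 : (X - C ρ2) ^ a2 * Cc = 0 := by rw [← e02]; exact z1
    exact allzero ((mul_eq_zero.1 z1).resolve_left (hπ ρ0 a0))
      ((mul_eq_zero.1 h0).resolve_left (hπ ρ1 a1)) ((mul_eq_zero.1 z2).resolve_left (hπ ρ2 a2))
  have n2 : (X - C ρ0) ^ a0 * A + (X - C ρ1) ^ a1 * B ≠ 0 := by
    intro h0
    have z2 : (X - C ρ2) ^ a2 * Cc = 0 := by rw [hT2]; exact h0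
    have e01 : (X - C ρ0) ^ a0 * A = (X - C ρ1) ^ a1 * (-B) := by
      rw [mul_neg]; exact eq_neg_of_add_eq_zero_left h0
    have z0 : (X - C ρ0) ^ a0 * A = 0 :=
      L1 d ρ0 ρ1 h01 a0 a1 g01 _ dA (dvd_mul_right _ _) (by rw [e01]; exact dvd_mul_right _ _)
    exact n0 z0
  exact ⟨_, _, n0, n1, n2, dA, dB, dvd_mul_right _ _, dvd_mul_right _ _, Dvd.intro Cc hT2⟩

/-! ### the Plücker count -/

lemma L5 (d : ℕ) (ρ0 ρ1 ρ2 : k) (h01 : ρ0 ≠ ρ1) (h02 : ρ0 ≠ ρ2) (h12 : ρ1 ≠ ρ2)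
    (a0 a1 a2 : ℕ) (p0 : 1 ≤ a0) (p1 : 1 ≤ a1) (p2 : 1 ≤ a2)
    (hsum : a0 + a1 + a2 = 2 * d + 1) (t0 t1 : k[X])
    (hd0 : t0.natDegree ≤ d) (hd1 : t1.natDegree ≤ d)
    (dv0 : (X - C ρ0) ^ a0 ∣ t0) (dv1 : (X - C ρ1) ^ a1 ∣ t1)
    (dv2 : (X - C ρ2) ^ a2 ∣ t0 + t1) (hW : wronskian t0 t1 ≠ 0) :
    (∃ s ∈ Submodule.span k {t0} ⊔ Submodule.span k {t1}, s.natDegree = d) ∧
    (∀ a : k, ∃ s ∈ Submodule.span k {t0} ⊔ Submodule.span k {t1}, s.eval a ≠ 0) ∧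
    (∀ s ∈ Submodule.span k {t0} ⊔ Submodule.span k {t1}, s ≠ 0 →
      rootMultiplicity ρ0 s ≤ a0) ∧
    (∀ s ∈ Submodule.span k {t0} ⊔ Submodule.span k {t1}, s ≠ 0 →
      rootMultiplicity ρ1 s ≤ a1) ∧
    (∀ s ∈ Submodule.span k {t0} ⊔ Submodule.span k {t1}, s ≠ 0 →
      rootMultiplicity ρ2 s ≤ a2) := by
  have ht0m : t0 ∈ Submodule.span k {t0} ⊔ Submodule.span k {t1} :=
    Submodule.mem_sup_left (Submodule.mem_span_singleton_self _)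
  have ht1m : t1 ∈ Submodule.span k {t0} ⊔ Submodule.span k {t1} :=
    Submodule.mem_sup_right (Submodule.mem_span_singleton_self _)
  have w0 : (X - C ρ0) ^ (a0 - 1) ∣ wronskian t0 t1 := by
    have h := B0 ρ0 (a0 - 1) t1 t0 (by rwa [Nat.sub_add_cancel p0])
    rw [← wronskian_neg_eq] at h
    exact dvd_neg.1 h
  have w1 : (X - C ρ1) ^ (a1 - 1) ∣ wronskian t0 t1 :=
    B0 ρ1 (a1 - 1) t0 t1 (by rwa [Nat.sub_add_cancel p1])
  have hW2 : wronskian t0 (t0 + t1) = wronskian t0 t1 := by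
    rw [wronskian_add_right, wronskian_self_eq_zero, zero_add]
  have w2 : (X - C ρ2) ^ (a2 - 1) ∣ wronskian t0 t1 := by
    rw [← hW2]; exact B0 ρ2 (a2 - 1) t0 (t0 + t1) (by rwa [Nat.sub_add_cancel p2])
  have c01 : IsCoprime ((X - C ρ0 : k[X]) ^ (a0 - 1)) ((X - C ρ1) ^ (a1 - 1)) :=
    (isCoprime_X_sub_C_of_isUnit_sub (sub_ne_zero.2 h01).isUnit).pow
  have c02 : IsCoprime ((X - C ρ0 : k[X]) ^ (a0 - 1)) ((X - C ρ2) ^ (a2 - 1)) :=
    (isCoprime_X_sub_C_of_isUnit_sub (sub_ne_zero.2 h02).isUnit).pow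
  have c12 : IsCoprime ((X - C ρ1 : k[X]) ^ (a1 - 1)) ((X - C ρ2) ^ (a2 - 1)) :=
    (isCoprime_X_sub_C_of_isUnit_sub (sub_ne_zero.2 h12).isUnit).pow
  have hD := (IsCoprime.mul_left c02 c12).mul_dvd (c01.mul_dvd w0 w1) w2
  have m0 := (monic_X_sub_C ρ0).pow (a0 - 1)
  have m1 := (monic_X_sub_C ρ1).pow (a1 - 1)
  have m2 := (monic_X_sub_C ρ2).pow (a2 - 1)
  have hDm := (m0.mul m1).mul m2
  have hDd : ((X - C ρ0 : k[X]) ^ (a0 - 1) * (X - C ρ1) ^ (a1 - 1) *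
      (X - C ρ2) ^ (a2 - 1)).natDegree = (a0 - 1) + (a1 - 1) + (a2 - 1) := by
    rw [(m0.mul m1).natDegree_mul m2, m0.natDegree_mul m1, natDegree_Xr_pow', natDegree_Xr_pow',
      natDegree_Xr_pow']
  have hWd := natDegree_wronskian_le d t0 t1 hd0 hd1 hW
  obtain ⟨s, hs⟩ := hD
  have hs0 : s ≠ 0 := by rintro rfl; rw [mul_zero] at hs; exact hW hs
  have hnd := hDm.natDegree_mul' hs0
  rw [← hs, hDd] at hnd
  have hsd : s.natDegree = 0 := by omega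
  have hWdeg : (wronskian t0 t1).natDegree + 2 = 2 * d := by omega
  obtain ⟨c, hc⟩ : ∃ c : k, s = C c := ⟨s.coeff 0, eq_C_of_natDegree_eq_zero hsd⟩
  have hc0 : c ≠ 0 := by rintro rfl; rw [map_zero] at hc; exact hs0 hc
  rw [hc] at hs
  have nz : ∀ a : k, a ≠ ρ0 → a ≠ ρ1 → a ≠ ρ2 → (wronskian t0 t1).eval a ≠ 0 := by
    intro a q0 q1 q2
    rw [hs]
    simp only [eval_mul, eval_pow, eval_sub, eval_X, eval_C]
    exact mul_ne_zero (mul_ne_zero (mul_ne_zero (pow_ne_zero _ (sub_ne_zero.2 q0))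
      (pow_ne_zero _ (sub_ne_zero.2 q1))) (pow_ne_zero _ (sub_ne_zero.2 q2))) hc0
  have nd0 : ¬ (X - C ρ0) ^ a0 ∣ wronskian t0 t1 := by
    have e : wronskian t0 t1 = (X - C ρ0) ^ (a0 - 1) *
        ((X - C ρ1) ^ (a1 - 1) * (X - C ρ2) ^ (a2 - 1) * C c) := by rw [hs]; ring
    rw [e]
    apply not_dvd_of ρ0 a0 p0
    simp only [eval_mul, eval_pow, eval_sub, eval_X, eval_C]
    exact mul_ne_zero (mul_ne_zero (pow_ne_zero _ (sub_ne_zero.2 h01))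
      (pow_ne_zero _ (sub_ne_zero.2 h02))) hc0
  have nd1 : ¬ (X - C ρ1) ^ a1 ∣ wronskian t0 t1 := by
    have e : wronskian t0 t1 = (X - C ρ1) ^ (a1 - 1) *
        ((X - C ρ0) ^ (a0 - 1) * (X - C ρ2) ^ (a2 - 1) * C c) := by rw [hs]; ring
    rw [e]
    apply not_dvd_of ρ1 a1 p1
    simp only [eval_mul, eval_pow, eval_sub, eval_X, eval_C]
    exact mul_ne_zero (mul_ne_zero (pow_ne_zero _ (sub_ne_zero.2 h01.symm))
      (pow_ne_zero _ (sub_ne_zero.2 h12))) hc0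
  have nd2 : ¬ (X - C ρ2) ^ a2 ∣ wronskian t0 t1 := by
    have e : wronskian t0 t1 = (X - C ρ2) ^ (a2 - 1) *
        ((X - C ρ0) ^ (a0 - 1) * (X - C ρ1) ^ (a1 - 1) * C c) := by rw [hs]; ring
    rw [e]
    apply not_dvd_of ρ2 a2 p2
    simp only [eval_mul, eval_pow, eval_sub, eval_X, eval_C]
    exact mul_ne_zero (mul_ne_zero (pow_ne_zero _ (sub_ne_zero.2 h02.symm))
      (pow_ne_zero _ (sub_ne_zero.2 h12.symm))) hc0
  have nd0' : ¬ (X - C ρ0) ^ a0 ∣ wronskian t1 t0 := by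
    rw [← wronskian_neg_eq, dvd_neg]; exact nd0
  have nd2' : ¬ (X - C ρ2) ^ a2 ∣ wronskian t0 (t0 + t1) := by rw [hW2]; exact nd2
  refine ⟨?_, ?_, ?_, ?_, ?_⟩
  · by_contra hcon
    push_neg at hcon
    have q0 := hcon t0 ht0m
    have q1 := hcon t1 ht1m
    have hlt := natDegree_wronskian_lt_add hW
    omega
  · intro a
    by_contra hcon
    push_neg at hcon
    have e0 : (X - C a) ∣ t0 := by rw [dvd_iff_isRoot]; exact hcon t0 ht0m
    have e1 : (X - C a) ∣ t1 := by rw [dvd_iff_isRoot]; exact hcon t1 ht1m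
    by_cases q0 : a = ρ0
    · subst q0; exact L6b a a0 t1 t0 dv0 nd0' e1
    by_cases q1 : a = ρ1
    · subst q1; exact L6b a a1 t0 t1 dv1 nd1 e0
    by_cases q2 : a = ρ2
    · subst q2; exact L6b a a2 t0 (t0 + t1) dv2 nd2' e0
    have h := B1 a 1 t0 t1 e0 (by rwa [pow_one])
    rw [pow_one, dvd_iff_isRoot] at h
    exact nz a q0 q1 q2 h
  · intro s hs hs0
    obtain ⟨α, β, rfl⟩ := mem_pair hs
    by_contra hgt
    push_neg at hgt
    have hdv := (le_rootMultiplicity_iff hs0).1 (Nat.succ_le_of_lt hgt)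
    have e : α • t0 + β • t1 = β • t1 + α • t0 := add_comm _ _
    rw [e] at hdv hs0
    exact L6a ρ0 a0 t1 t0 dv0 nd0' β α hs0 hdv
  · intro s hs hs0
    obtain ⟨α, β, rfl⟩ := mem_pair hs
    by_contra hgt
    push_neg at hgt
    have hdv := (le_rootMultiplicity_iff hs0).1 (Nat.succ_le_of_lt hgt)
    exact L6a ρ1 a1 t0 t1 dv1 nd1 α β hs0 hdv
  · intro s hs hs0
    obtain ⟨α, β, rfl⟩ := mem_pair hs
    by_contra hgt
    push_neg at hgt
    have hdv := (le_rootMultiplicity_iff hs0).1 (Nat.succ_le_of_lt hgt)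
    have e : α • t0 + β • t1 = (α - β) • t0 + β • (t0 + t1) := by
      rw [sub_smul, smul_add]; abel
    rw [e] at hdv hs0
    exact L6a ρ2 a2 t0 (t0 + t1) dv2 nd2' (α - β) β hs0 hdv

lemma wronskian_pair (t0 t1 : k[X]) (α β γ δ : k) :
    wronskian (α • t0 + β • t1) (γ • t0 + δ • t1) = C (α * δ - β * γ) * wronskian t0 t1 := by
  unfold wronskian
  simp only [smul_eq_C_mul, derivative_add, derivative_C_mul, C_sub, C_mul]
  ring

/-! ### main -/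

theorem main [IsAlgClosed k] (p d : ℕ) (P : Fin 3 → k) (hP : Function.Injective P)
    (e : Fin 3 → ℕ) (he : Admissible p d e) :
    (ramMaps d P e).Subsingleton ∧
      (ramMaps d P e = ∅ ↔
        ∃ V : Submodule k k[X], V ≤ Polynomial.degreeLE k d ∧ Module.finrank k V = 2 ∧
          ¬ IsSeparable V ∧
          ∀ i, ∃ s ∈ V, s ≠ 0 ∧ e i ≤ Polynomial.rootMultiplicity (P i) s) := by
  have h01 : P 0 ≠ P 1 := hP.ne (by decide)
  have h02 : P 0 ≠ P 2 := hP.ne (by decide)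
  have h12 : P 1 ≠ P 2 := hP.ne (by decide)
  have hsum : e 0 + e 1 + e 2 = 2 * d + 1 := by
    have h := he.2
    rw [Fin.sum_univ_three] at h
    omega
  obtain ⟨b0, l0, -⟩ := he.1 0
  obtain ⟨b1, l1, -⟩ := he.1 1
  obtain ⟨b2, l2, -⟩ := he.1 2
  have g01 : d < e 0 + e 1 := by omega
  have g02 : d < e 0 + e 2 := by omega
  have g12 : d < e 1 + e 2 := by omega
  have conv : ∀ (V : Submodule k k[X]) (i : Fin 3),
      (∃ s ∈ V, s ≠ 0 ∧ e i ≤ Polynomial.rootMultiplicity (P i) s) →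
      ∃ s ∈ V, s ≠ 0 ∧ (X - C (P i)) ^ (e i) ∣ s := by
    rintro V i ⟨s, hs, hs0, hle⟩
    exact ⟨s, hs, hs0, (le_rootMultiplicity_iff hs0).1 hle⟩
  have key : ∀ V ∈ ramMaps d P e, ∀ V' : Submodule k k[X], V' ≤ degreeLE k d →
      Module.finrank k ↥V' = 2 →
      (∀ i, ∃ s ∈ V', s ≠ 0 ∧ e i ≤ Polynomial.rootMultiplicity (P i) s) → V' = V := by
    intro V hV V' hle' h2' hc'
    obtain ⟨⟨hle, h2, hVd, hVb⟩, -, hram⟩ := hV
    exact L4 d (P 0) (P 1) (P 2) h01 h02 h12 (e 0) (e 1) (e 2) g01 g02 g12 hsum V V' hle h2 hVd hVb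
      (conv V 0 (hram 0).1) (conv V 1 (hram 1).1) (conv V 2 (hram 2).1) hle' h2'
      (conv V' 0 (hc' 0)) (conv V' 1 (hc' 1)) (conv V' 2 (hc' 2))
  refine ⟨?_, ?_, ?_⟩
  · intro V hV V' hV'
    exact (key V hV V' hV'.1.1 hV'.1.2.1 (fun i => (hV'.2.2 i).1)).symm
  · intro hempty
    obtain ⟨t0, t1, n0, n1, n2, dA, dB, dv0, dv1, dv2⟩ :=
      exists_candidate d (P 0) (P 1) (P 2) h01 h02 h12 (e 0) (e 1) (e 2) l0 l1 l2 hsum
    have hle : Submodule.span k {t0} ⊔ Submodule.span k {t1} ≤ degreeLE k d :=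
      sup_le ((Submodule.span_singleton_le_iff_mem _ _).2
          (mem_degreeLE.2 (degree_le_of_natDegree_le dA)))
        ((Submodule.span_singleton_le_iff_mem _ _).2
          (mem_degreeLE.2 (degree_le_of_natDegree_le dB)))
    have h2 : Module.finrank k ↥(Submodule.span k {t0} ⊔ Submodule.span k {t1}) = 2 := by
      refine finrank_pair t0 t1 n0 n1 fun α β hαβ => ?_
      exact L1 d (P 0) (P 1) h01 (e 0) (e 1) g01 _
        ((natDegree_smul_le _ _).trans dA)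
        (by rw [smul_eq_C_mul]; exact dv0.mul_left _)
        (by rw [hαβ, smul_eq_C_mul]; exact dv1.mul_left _)
    have ht0m : t0 ∈ Submodule.span k {t0} ⊔ Submodule.span k {t1} :=
      Submodule.mem_sup_left (Submodule.mem_span_singleton_self _)
    have ht1m : t1 ∈ Submodule.span k {t0} ⊔ Submodule.span k {t1} :=
      Submodule.mem_sup_right (Submodule.mem_span_singleton_self _)
    have hcond : ∀ i, ∃ s ∈ Submodule.span k {t0} ⊔ Submodule.span k {t1}, s ≠ 0 ∧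
        e i ≤ Polynomial.rootMultiplicity (P i) s :=
      forall_fin3 ⟨t0, ht0m, n0, (le_rootMultiplicity_iff n0).2 dv0⟩
        ⟨t1, ht1m, n1, (le_rootMultiplicity_iff n1).2 dv1⟩
        ⟨t0 + t1, Submodule.add_mem _ ht0m ht1m, n2, (le_rootMultiplicity_iff n2).2 dv2⟩
    by_cases hsep : IsSeparable (Submodule.span k {t0} ⊔ Submodule.span k {t1})
    · exfalso
      have hW : wronskian t0 t1 ≠ 0 := by
        obtain ⟨F, hF, G, hG, hFG⟩ := hsep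
        obtain ⟨α, β, rfl⟩ := mem_pair hF
        obtain ⟨γ, δ, rfl⟩ := mem_pair hG
        intro h0
        apply hFG
        rw [wronskian_pair, h0, mul_zero]
      obtain ⟨q1, q2, r0, r1, r2⟩ := L5 d (P 0) (P 1) (P 2) h01 h02 h12 (e 0) (e 1) (e 2)
        (by omega) (by omega) (by omega) hsum t0 t1 dA dB dv0 dv1 dv2 hW
      have hmem : (Submodule.span k {t0} ⊔ Submodule.span k {t1}) ∈ ramMaps d P e := by
        refine ⟨⟨hle, h2, q1, q2⟩, hsep, ?_⟩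
        exact forall_fin3 ⟨hcond 0, r0⟩ ⟨hcond 1, r1⟩ ⟨hcond 2, r2⟩
      rw [hempty] at hmem
      exact hmem
    · exact ⟨_, hle, h2, hsep, hcond⟩
  · rintro ⟨V', hle', h2', hnsep, hc'⟩
    by_contra hne
    obtain ⟨V, hV⟩ := Set.nonempty_iff_ne_empty.2 hne
    apply hnsep
    rw [key V hV V' hle' h2' hc']
    exact hV.2.1

end Groth.Agent.Lib.RamThree
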