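import Mathlib
import Groth.Prelude.Def_W4c1limliniiiiRamP1

/-! Ramification index of a pencil on the line from the order of its Wronskian (lead). -/

open Polynomial

namespace Groth.Agent.Lib.RamWronsk_lead

variable {k : Type*} [Field k]

theorem wronskian_pow_mul (F u : k[X]) (a : k) (n : ℕ) :
    wronskian F ((X - C a) ^ (n + 1) * u) =
      (X - C a) ^ n * (C ((n + 1 : ℕ) : k) * F * u + (X - C a) * wronskian F u) := by
  unfold wronskian
  rw [derivative_mul, derivative_X_sub_C_pow, Nat.add_sub_cancel]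
  ring

theorem lemB (p : ℕ) [CharP k p] (F s : k[X]) (a : k) (hFa : F.eval a ≠ 0) (hs : s ≠ 0)
    (hs0 : s.eval a = 0) (hW : wronskian F s ≠ 0) (e : ℕ)
    (he : (wronskian F s).rootMultiplicity a + 1 = e) (hp : p = 0 ∨ e - 1 < p) :
    s.rootMultiplicity a = e ∧ ¬ p ∣ e := by
  have hν : 0 < s.rootMultiplicity a := (rootMultiplicity_pos hs).mpr hs0
  obtain ⟨u, hu, hnd⟩ := exists_eq_pow_rootMultiplicity_mul_and_not_dvd s hs a
  rw [dvd_iff_isRoot] at hnd
  obtain ⟨n, hn⟩ := Nat.exists_eq_succ_of_ne_zero hν.ne'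
  rw [hn] at hu
  have hWf : wronskian F s =
      (X - C a) ^ n * (C ((n + 1 : ℕ) : k) * F * u + (X - C a) * wronskian F u) := by
    conv_lhs => rw [hu]
    exact wronskian_pow_mul F u a n
  obtain ⟨B, hB⟩ : ∃ B : k[X], B = C ((n + 1 : ℕ) : k) * F * u + (X - C a) * wronskian F u :=
    ⟨_, rfl⟩
  rw [← hB] at hWf
  have hBa : B.eval a = ((n + 1 : ℕ) : k) * F.eval a * u.eval a := by
    rw [hB]; simp
  by_cases hc : ((n + 1 : ℕ) : k) = 0
  · exfalso
    have hBroot : (X - C a) ∣ B := by
      rw [dvd_iff_isRoot, IsRoot.def, hBa, hc, zero_mul, zero_mul]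
    have hdvd : (X - C a) ^ (n + 1) ∣ wronskian F s := by
      rw [hWf, pow_succ]
      exact mul_dvd_mul_left _ hBroot
    have hle : n + 1 ≤ (wronskian F s).rootMultiplicity a := (le_rootMultiplicity_iff hW).mpr hdvd
    have hpd : p ∣ n + 1 := (CharP.cast_eq_zero_iff k p (n + 1)).mp hc
    have hp0 : p ≠ 0 := by
      intro h0
      rw [h0, zero_dvd_iff] at hpd
      omega
    have hple : p ≤ n + 1 := Nat.le_of_dvd (Nat.succ_pos n) hpd
    omega
  · have hBne : ¬ IsRoot B a := by
      rw [IsRoot.def, hBa]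
      exact mul_ne_zero (mul_ne_zero hc hFa) hnd
    have hW' : (X - C a) ^ n * B ≠ 0 := by rw [← hWf]; exact hW
    have hmult : (wronskian F s).rootMultiplicity a = n := by
      rw [hWf, rootMultiplicity_mul hW', rootMultiplicity_X_sub_C_pow,
        rootMultiplicity_eq_zero hBne, add_zero]
    have hen : e = n + 1 := by omega
    refine ⟨by omega, ?_⟩
    rw [hen, ← CharP.cast_eq_zero_iff k p (n + 1)]
    exact hc

theorem core (p : ℕ) [CharP k p] (F G : k[X]) (a : k) (hFa : F.eval a ≠ 0)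
    (hW : wronskian F G ≠ 0) (e : ℕ) (he : (wronskian F G).rootMultiplicity a + 1 = e)
    (hp : p = 0 ∨ e - 1 < p) :
    W4c1limliniiii.HasRamIdx (Submodule.span k {F, G}) a e ∧ ¬ p ∣ e := by
  obtain ⟨t, ht⟩ : ∃ t : k, t = G.eval a / F.eval a := ⟨_, rfl⟩
  obtain ⟨s, hsdef⟩ : ∃ s : k[X], s = G - C t * F := ⟨_, rfl⟩
  have hs0 : s.eval a = 0 := by
    rw [hsdef, eval_sub, eval_mul, eval_C, ht, div_mul_cancel₀ _ hFa, sub_self]
  have hWs : wronskian F s = wronskian F G := by
    rw [hsdef]
    unfold wronskian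
    rw [derivative_sub, derivative_C_mul]
    ring
  have hs_ne : s ≠ 0 := by
    intro h
    apply hW
    rw [← hWs, h]
    simp [wronskian]
  have hsV : s ∈ Submodule.span k {F, G} := by
    rw [hsdef, ← smul_eq_C_mul]
    exact Submodule.sub_mem _ (Submodule.subset_span (by simp))
      (Submodule.smul_mem _ _ (Submodule.subset_span (by simp)))
  obtain ⟨hmult, hpe⟩ := lemB p F s a hFa hs_ne hs0 (by rw [hWs]; exact hW) e
    (by rw [hWs]; exact he) hp
  refine ⟨?_, hpe⟩
  unfold W4c1limliniiii.HasRamIdx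
  refine ⟨⟨s, hsV, hs_ne, hmult.ge⟩, ?_⟩
  intro s' hs' hs'ne
  obtain ⟨c, c', rfl⟩ := Submodule.mem_span_pair.mp hs'
  have hG : G = s + C t * F := by rw [hsdef]; ring
  by_cases hcc : c + c' * t = 0
  · have hs'eq : c • F + c' • G = C c' * s := by
      rw [hG, smul_eq_C_mul, smul_eq_C_mul]
      have hCc : C c = -(C c' * C t) := by
        rw [← C_mul, ← C_neg]; congr 1; linear_combination hcc
      rw [hCc]; ring
    have hc' : C c' * s ≠ 0 := by rw [← hs'eq]; exact hs'ne
    have hfin : rootMultiplicity a (c • F + c' • G) = e := by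
      rw [hs'eq, rootMultiplicity_mul hc', rootMultiplicity_C, zero_add, hmult]
    exact hfin.le
  · have hev : (c • F + c' • G).eval a ≠ 0 := by
      rw [hG, smul_eq_C_mul, smul_eq_C_mul]
      simp only [eval_add, eval_mul, eval_C, hs0]
      have h3 : c * eval a F + c' * (0 + t * eval a F) = (c + c' * t) * eval a F := by ring
      rw [h3]
      exact mul_ne_zero hcc hFa
    have hnr : ¬ IsRoot (c • F + c' • G) a := by rw [IsRoot.def]; exact hev
    rw [rootMultiplicity_eq_zero hnr]
    exact Nat.zero_le _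

theorem main (p : ℕ) [CharP k p] (d : ℕ) (F G : k[X])
    (hV : W4c1limliniiii.IsPencil d (Submodule.span k {F, G}))
    (hW : wronskian F G ≠ 0) (a : k) (e : ℕ)
    (he : (wronskian F G).rootMultiplicity a + 1 = e) (hp : p = 0 ∨ e - 1 < p) :
    W4c1limliniiii.HasRamIdx (Submodule.span k {F, G}) a e ∧ ¬ p ∣ e := by
  by_cases hFa : F.eval a = 0
  · have hGa : G.eval a ≠ 0 := by
      intro hGa
      obtain ⟨s, hs, hsa⟩ := hV.2.2.2 a
      obtain ⟨c, c', rfl⟩ := Submodule.mem_span_pair.mp hs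
      apply hsa
      simp [hFa, hGa]
    have hanti : wronskian G F = -wronskian F G := by unfold wronskian; ring
    have hW' : wronskian G F ≠ 0 := by rw [hanti]; exact neg_ne_zero.mpr hW
    have hneg : (wronskian G F).rootMultiplicity a = (wronskian F G).rootMultiplicity a := by
      have h1 : wronskian G F = C (-1 : k) * wronskian F G := by rw [hanti]; simp
      rw [h1, rootMultiplicity_mul (by rw [← h1]; exact hW'), rootMultiplicity_C, zero_add]
    have h5 := core p G F a hGa hW' e (by rw [hneg]; exact he) hp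
    rwa [Set.pair_comm] at h5
  · exact core p F G a hFa hW e he hp

end Groth.Agent.Lib.RamWronsk_lead
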