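import Mathlib
import Groth.Prelude.Def_W4c1limliniiiiRamP1
import Groth.Agent.Lib.RamThree_lead
import Groth.Agent.Lib.RamWronsk_lead

/-!
# Pencils of polynomials: separability in small degree, inseparable pencils (helper9)
APPEND-ONLY once landed.
-/

set_option autoImplicit false

namespace Groth.Agent.RamP9

open Polynomial W4c1limliniiii
open Groth.Agent.Lib.RamThree (mem_pair pair_mem finrank_pair wronskian_pair)

variable {k : Type*} [Field k]

lemma wronskian_mul_mul (g a b : k[X]) : wronskian (g * a) (g * b) = g ^ 2 * wronskian a b := by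
  unfold wronskian
  rw [derivative_mul, derivative_mul]
  ring

lemma cast_ne_zero_of (p : ℕ) [CharP k p] (d : ℕ) (hp : p = 0 ∨ d < p) (n : ℕ) (hn0 : 0 < n)
    (hn : n ≤ d) : ((n : ℕ) : k) ≠ 0 := by
  rw [Ne, CharP.cast_eq_zero_iff k p]
  intro hdvd
  rcases hp with hp | hp
  · subst hp
    rw [zero_dvd_iff] at hdvd
    omega
  · have := Nat.le_of_dvd hn0 hdvd
    omega

/-- a polynomial of small degree with vanishing derivative is constant -/
lemma eq_C_of_derivative_eq_zero (p : ℕ) [CharP k p] (d : ℕ) (hp : p = 0 ∨ d < p) (f : k[X])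
    (hf : f.natDegree ≤ d) (h : derivative f = 0) : f = C (f.coeff 0) := by
  ext n
  cases n with
  | zero => simp
  | succ n =>
    rw [coeff_C_succ]
    by_cases hn : n + 1 ≤ f.natDegree
    · have h1 : (derivative f).coeff n = 0 := by rw [h, coeff_zero]
      rw [coeff_derivative] at h1
      have h2 : ((n : k) + 1) ≠ 0 := by
        have := cast_ne_zero_of (k := k) p d hp (n + 1) (Nat.succ_pos n) (hn.trans hf)
        push_cast at this
        exact this
      exact (mul_eq_zero.1 h1).resolve_right h2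
    · exact coeff_eq_zero_of_natDegree_lt (by omega)

/-- in characteristic zero or in degree less than the characteristic, two polynomials with
vanishing Wronskian are linearly dependent -/
theorem dependent_of_wronskian_eq_zero (p : ℕ) [CharP k p] (d : ℕ) (hp : p = 0 ∨ d < p)
    (F G : k[X]) (hF : F.natDegree ≤ d) (hG : G.natDegree ≤ d) (hW : wronskian F G = 0) :
    ∃ α β : k, (α ≠ 0 ∨ β ≠ 0) ∧ α • F + β • G = 0 := by
  by_cases hF0 : F = 0
  · exact ⟨1, 0, Or.inl one_ne_zero, by rw [hF0]; simp⟩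
  classical
  letI : GCDMonoid k[X] := EuclideanDomain.gcdMonoid k[X]
  obtain ⟨F₁, G₁, hF₁, hG₁, hu⟩ := extract_gcd F G
  obtain ⟨g, hg⟩ : ∃ g, g = gcd F G := ⟨_, rfl⟩
  rw [← hg] at hF₁ hG₁
  have hcop : IsCoprime F₁ G₁ := (gcd_isUnit_iff _ _).1 hu
  have hg0 : g ≠ 0 := by
    rintro rfl
    exact hF0 (by rw [hF₁, zero_mul])
  have hF₁0 : F₁ ≠ 0 := by
    rintro rfl
    exact hF0 (by rw [hF₁, mul_zero])
  have hW1 : wronskian F₁ G₁ = 0 := by
    rw [hF₁, hG₁, wronskian_mul_mul] at hW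
    exact (mul_eq_zero.1 hW).resolve_left (pow_ne_zero 2 hg0)
  obtain ⟨hdF, hdG⟩ := hcop.wronskian_eq_zero_iff.1 hW1
  have hF₁d : F₁.natDegree ≤ d := by
    have : F.natDegree = g.natDegree + F₁.natDegree := by
      rw [hF₁, natDegree_mul hg0 hF₁0]
    omega
  have hG₁d : G₁.natDegree ≤ d := by
    by_cases hG₁0 : G₁ = 0
    · rw [hG₁0, natDegree_zero]
      exact Nat.zero_le _
    have : G.natDegree = g.natDegree + G₁.natDegree := by
      rw [hG₁, natDegree_mul hg0 hG₁0]
    omega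
  have hFc := eq_C_of_derivative_eq_zero p d hp F₁ hF₁d hdF
  have hGc := eq_C_of_derivative_eq_zero p d hp G₁ hG₁d hdG
  have ha : F₁.coeff 0 ≠ 0 := by
    intro h
    apply hF₁0
    rw [hFc, h, C_0]
  refine ⟨G₁.coeff 0, -F₁.coeff 0, Or.inr (neg_ne_zero.2 ha), ?_⟩
  rw [hF₁, hG₁, hFc, hGc, smul_eq_C_mul, smul_eq_C_mul]
  simp only [coeff_C_zero, C_neg]
  ring

/-- in characteristic zero or in degree less than the characteristic, every two-dimensional
space of polynomials is separable -/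
theorem isSeparable_of_small (p : ℕ) [CharP k p] (d : ℕ) (hp : p = 0 ∨ d < p)
    (V : Submodule k k[X]) (hV : V ≤ degreeLE k d) (h2 : Module.finrank k V = 2) :
    IsSeparable V := by
  haveI : Module.Finite k V := Module.finite_of_finrank_pos (by rw [h2]; exact Nat.zero_lt_two)
  let b := Module.finBasisOfFinrankEq k V h2
  have hd : ∀ s ∈ V, s.natDegree ≤ d := by
    intro s hs
    exact natDegree_le_of_degree_le (mem_degreeLE.1 (hV hs))
  refine ⟨(b 0 : k[X]), (b 0).2, (b 1 : k[X]), (b 1).2, ?_⟩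
  intro hW
  obtain ⟨α, β, hαβ, h⟩ := dependent_of_wronskian_eq_zero p d hp _ _ (hd _ (b 0).2) (hd _ (b 1).2) hW
  have hli := b.linearIndependent
  rw [Fintype.linearIndependent_iff] at hli
  have h3 := hli ![α, β] (by
    rw [Fin.sum_univ_two]
    apply Subtype.ext
    simpa using h)
  have h0 := h3 0
  have h1 := h3 1
  simp only [Matrix.cons_val_zero, Matrix.cons_val_one] at h0 h1
  rcases hαβ with h | h
  · exact h h0
  · exact h h1

lemma wronskian_mul_X_pow (p : ℕ) [CharP k p] (g : k[X]) : wronskian g (g * X ^ p) = 0 := by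
  unfold wronskian
  rw [derivative_mul, derivative_X_pow, CharP.cast_eq_zero, C_0, zero_mul, mul_zero, add_zero]
  ring

/-- in characteristic `p ≤ d` there is an inseparable pencil (with base points) having at least
ramification `e i` at three given points, as soon as `e 0, e 1 ≤ p` -/
theorem exists_insep (p : ℕ) [hp : Fact p.Prime] [CharP k p] (d : ℕ) (P : Fin 3 → k)
    (e : Fin 3 → ℕ) (h0 : e 0 ≤ p) (h1 : e 1 ≤ p) (h2 : e 2 ≤ d) (hpd : p ≤ d) :
    ∃ V : Submodule k k[X], V ≤ degreeLE k d ∧ Module.finrank k V = 2 ∧ ¬ IsSeparable V ∧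
      ∀ i, ∃ s ∈ V, s ≠ 0 ∧ e i ≤ rootMultiplicity (P i) s := by
  have hp0 : p ≠ 0 := hp.out.ne_zero
  obtain ⟨a, ha⟩ : ∃ a, a = e 2 - p := ⟨_, rfl⟩
  obtain ⟨g, hg⟩ : ∃ g : k[X], g = (X - C (P 2)) ^ a := ⟨_, rfl⟩
  have hg0 : g ≠ 0 := by
    rw [hg]
    exact pow_ne_zero _ (X_sub_C_ne_zero _)
  have hgd : g.natDegree = a := by
    rw [hg, natDegree_pow, natDegree_X_sub_C, mul_one]
  have ht1 : g * X ^ p ≠ 0 := mul_ne_zero hg0 (pow_ne_zero _ X_ne_zero)
  have ht1d : (g * X ^ p).natDegree = a + p := by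
    rw [natDegree_mul hg0 (pow_ne_zero _ X_ne_zero), hgd, natDegree_X_pow]
  have hs : ∀ c : k, (-(c ^ p)) • g + (1 : k) • (g * X ^ p) = g * (X - C c) ^ p := by
    intro c
    rw [sub_pow_char, smul_eq_C_mul, one_smul, ← C_pow, C_neg]
    ring
  have hsne : ∀ c : k, g * (X - C c) ^ p ≠ 0 := fun c =>
    mul_ne_zero hg0 (pow_ne_zero _ (X_sub_C_ne_zero _))
  refine ⟨Submodule.span k {g} ⊔ Submodule.span k {g * X ^ p}, ?_, ?_, ?_, ?_⟩
  · apply sup_le
    · rw [Submodule.span_singleton_le_iff_mem, mem_degreeLE]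
      apply degree_le_of_natDegree_le
      rw [hgd]
      omega
    · rw [Submodule.span_singleton_le_iff_mem, mem_degreeLE]
      apply degree_le_of_natDegree_le
      rw [ht1d]
      omega
  · refine finrank_pair g (g * X ^ p) hg0 ht1 fun α β hαβ => ?_
    have h3 : g * (C α - C β * X ^ p) = 0 := by
      rw [smul_eq_C_mul, smul_eq_C_mul] at hαβ
      rw [mul_sub, sub_eq_zero]
      calc g * C α = C α * g := mul_comm _ _
        _ = C β * (g * X ^ p) := hαβ
        _ = g * (C β * X ^ p) := by ring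
    have h4 : C α - C β * X ^ p = 0 := (mul_eq_zero.1 h3).resolve_left hg0
    have h5 := congrArg (fun f => coeff f 0) h4
    simp only [coeff_sub, coeff_C_zero, coeff_C_mul, coeff_X_pow, coeff_zero] at h5
    rw [if_neg (Ne.symm hp0), mul_zero, sub_zero] at h5
    rw [h5, zero_smul]
  · rintro ⟨F, hF, G, hG, hFG⟩
    obtain ⟨α, β, rfl⟩ := mem_pair hF
    obtain ⟨γ, δ, rfl⟩ := mem_pair hG
    apply hFG
    rw [wronskian_pair, wronskian_mul_X_pow, mul_zero]
  · have hmem : ∀ c : k, g * (X - C c) ^ p ∈ Submodule.span k {g} ⊔ Submodule.span k {g * X ^ p} := by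
      intro c
      rw [← hs c]
      exact pair_mem _ _ _ _
    have hsmall : ∀ i : Fin 3, e i ≤ p → ∃ s ∈ Submodule.span k {g} ⊔ Submodule.span k {g * X ^ p},
        s ≠ 0 ∧ e i ≤ rootMultiplicity (P i) s := by
      intro i hi
      refine ⟨_, hmem (P i), hsne _, ?_⟩
      rw [le_rootMultiplicity_iff (hsne _)]
      exact Dvd.dvd.mul_left (pow_dvd_pow _ hi) _
    refine Groth.Agent.Lib.RamThree.forall_fin3 (hsmall 0 h0) (hsmall 1 h1) ?_
    refine ⟨_, hmem (P 2), hsne _, ?_⟩
    rw [le_rootMultiplicity_iff (hsne _), hg, ← pow_add]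
    apply pow_dvd_pow
    omega

end Groth.Agent.RamP9
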