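import Mathlib

/-!
# Weighted homogeneous polynomial maps with trivial zero fibre have finite fibres (helper9)
APPEND-ONLY once landed.
-/

set_option autoImplicit false

namespace Groth.Agent.WtFin9

open MvPolynomial Finsupp

variable {k : Type*} [Field k] {σ τ : Type*} [Finite σ] [Fintype τ]

/-- monomials with all exponents `< m` -/
def smallMon (k : Type*) [Field k] (σ : Type*) (m : ℕ) : Set (MvPolynomial σ k) :=
  {f | ∃ e : σ →₀ ℕ, (∀ i, e i < m) ∧ f = monomial e 1}

lemma smallMon_finite (m : ℕ) : (smallMon k σ m).Finite := by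
  have h1 : {e : σ →₀ ℕ | ∀ i, e i < m}.Finite := by
    have h2 : (Set.pi Set.univ (fun _ : σ => Set.Iio m) : Set (σ → ℕ)).Finite :=
      Set.Finite.pi (fun _ => Set.finite_Iio m)
    refine Set.Finite.of_finite_image (f := fun e : σ →₀ ℕ => (e : σ → ℕ)) (h2.subset ?_)
      (fun a _ b _ hab => DFunLike.coe_injective hab)
    rintro _ ⟨e, he, rfl⟩
    intro i _
    exact he i
  refine (h1.image (fun e => monomial e (1 : k))).subset ?_
  rintro f ⟨e, he, rfl⟩
  exact ⟨e, he, rfl⟩

section Span

variable (w : σ → ℕ) (φ : τ → MvPolynomial σ k) (ν : τ → ℕ) (m : ℕ)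

/-- the span of the small monomials over the subalgebra generated by the `φ t` -/
noncomputable def MM : Submodule (Algebra.adjoin k (Set.range φ)) (MvPolynomial σ k) :=
  Submodule.span (Algebra.adjoin k (Set.range φ)) (smallMon k σ m)

lemma mul_phi_mem (t : τ) (f : MvPolynomial σ k) (hf : f ∈ MM φ m) : f * φ t ∈ MM φ m := by
  have h : f * φ t =
      (⟨φ t, Algebra.subset_adjoin ⟨t, rfl⟩⟩ : Algebra.adjoin k (Set.range φ)) • f := by
    rw [mul_comm]; rfl
  rw [h]
  exact Submodule.smul_mem _ _ hf

lemma C_mul_mem (c : k) (f : MvPolynomial σ k) (hf : f ∈ MM φ m) : C c * f ∈ MM φ m := by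
  have h : C c * f = (algebraMap k (Algebra.adjoin k (Set.range φ)) c) • f := rfl
  rw [h]
  exact Submodule.smul_mem _ _ hf

variable (hν : ∀ t, 0 < ν t) (hφ : ∀ t, IsWeightedHomogeneous w (φ t) (ν t))
  (hm : ∀ i, (X i : MvPolynomial σ k) ^ m ∈ Ideal.span (Set.range φ))

include hν hφ in
lemma comp_mul_phi_mem (N : ℕ)
    (ih : ∀ N' < N, ∀ e : σ →₀ ℕ, weight w e = N' → monomial e (1 : k) ∈ MM φ m) (t : τ)
    (g : MvPolynomial σ k) : weightedHomogeneousComponent w N (g * φ t) ∈ MM φ m := by
  induction g using MvPolynomial.induction_on' with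
  | monomial e c =>
    have hh : IsWeightedHomogeneous w (monomial e c * φ t) (weight w e + ν t) :=
      (isWeightedHomogeneous_monomial w e c rfl).mul (hφ t)
    by_cases hN : weight w e + ν t = N
    · rw [← hN, hh.weightedHomogeneousComponent_same]
      have h1 : monomial e c = C c * monomial e (1 : k) := by
        rw [C_mul_monomial, mul_one]
      rw [h1, mul_assoc]
      refine C_mul_mem φ m c _ (mul_phi_mem φ m t _ (ih (weight w e) ?_ e rfl))
      have := hν t
      omega
    · rw [hh.weightedHomogeneousComponent_ne N (fun h => hN h.symm)]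
      exact Submodule.zero_mem _
  | add p q hp hq =>
    rw [add_mul, map_add]
    exact Submodule.add_mem _ hp hq

include hν hφ hm in
theorem monomial_mem_span : ∀ (N : ℕ) (e : σ →₀ ℕ), weight w e = N →
    monomial e (1 : k) ∈ MM φ m := by
  intro N
  induction N using Nat.strong_induction_on with
  | _ N ih =>
    intro e he
    by_cases hsmall : ∀ i, e i < m
    · exact Submodule.subset_span ⟨e, hsmall, rfl⟩
    push Not at hsmall
    obtain ⟨i, hi⟩ := hsmall
    obtain ⟨e', he'⟩ : ∃ e' : σ →₀ ℕ, e = e' + Finsupp.single i m := by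
      refine ⟨e - Finsupp.single i m, ?_⟩
      rw [tsub_add_cancel_of_le]
      intro j
      by_cases hj : j = i
      · subst hj
        rw [Finsupp.single_eq_same]
        exact hi
      · rw [Finsupp.single_eq_of_ne hj]
        exact Nat.zero_le _
    obtain ⟨a, ha⟩ := (Ideal.mem_span_range_iff_exists_fun).1 (hm i)
    have h1 : monomial e (1 : k) = ∑ t, (monomial e' (1 : k) * a t) * φ t := by
      have h2 : monomial e (1 : k) = monomial e' (1 : k) * X i ^ m := by
        rw [he', X_pow_eq_monomial, monomial_mul, mul_one]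
      rw [h2, ← ha, Finset.mul_sum]
      refine Finset.sum_congr rfl fun t _ => ?_
      ring
    have h3 : monomial e (1 : k) = weightedHomogeneousComponent w N (monomial e (1 : k)) := by
      rw [(isWeightedHomogeneous_monomial w e (1 : k) he).weightedHomogeneousComponent_same]
    rw [h3, h1, map_sum]
    refine Submodule.sum_mem _ fun t _ => ?_
    exact comp_mul_phi_mem w φ ν m hν hφ N ih t _

include hν hφ hm in
theorem MM_eq_top : MM φ m = ⊤ := by
  rw [eq_top_iff]
  intro f _
  clear ‹f ∈ (⊤ : Submodule _ _)›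
  induction f using MvPolynomial.induction_on' with
  | monomial e c =>
    have h1 : monomial e c = C c * monomial e (1 : k) := by
      rw [C_mul_monomial, mul_one]
    rw [h1]
    exact C_mul_mem φ m c _ (monomial_mem_span w φ ν m hν hφ hm _ e rfl)
  | add p q hp hq => exact Submodule.add_mem _ hp hq

include hν hφ hm in
theorem module_finite : Module.Finite (Algebra.adjoin k (Set.range φ)) (MvPolynomial σ k) := by
  rw [Module.finite_def, Submodule.fg_def]
  exact ⟨smallMon k σ m, smallMon_finite m, MM_eq_top w φ ν m hν hφ hm⟩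

end Span

section Fibre

variable [IsAlgClosed k]

theorem exists_pow_mem (φ : τ → MvPolynomial σ k)
    (h0 : ∀ x : σ → k, (∀ t, eval x (φ t) = 0) → x = 0) :
    ∃ m : ℕ, ∀ i, (X i : MvPolynomial σ k) ^ m ∈ Ideal.span (Set.range φ) := by
  have h1 : ∀ i, (X i : MvPolynomial σ k) ∈ (Ideal.span (Set.range φ)).radical := by
    intro i
    rw [← vanishingIdeal_zeroLocus_eq_radical (K := k), mem_vanishingIdeal_iff]
    intro x hx
    have hx0 : x = 0 := h0 x (fun t => by
      have := hx (φ t) (Ideal.subset_span ⟨t, rfl⟩)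
      rwa [aeval_eq_eval] at this)
    rw [hx0, aeval_X]
    rfl
  choose mi hmi using fun i => Ideal.mem_radical_iff.1 (h1 i)
  cases nonempty_fintype σ
  refine ⟨∑ i, mi i, fun i => ?_⟩
  have hle : mi i ≤ ∑ i, mi i :=
    Finset.single_le_sum (f := mi) (fun _ _ => Nat.zero_le _) (Finset.mem_univ i)
  obtain ⟨c, hc⟩ := Nat.exists_eq_add_of_le hle
  rw [hc, pow_add]
  exact Ideal.mul_mem_right _ _ (hmi i)

/-- a weighted homogeneous polynomial map (all components of positive weight) over an
algebraically closed field whose zero fibre is the origin has finite fibres -/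
theorem finite_fibre (w : σ → ℕ) (φ : τ → MvPolynomial σ k) (ν : τ → ℕ) (hν : ∀ t, 0 < ν t)
    (hφ : ∀ t, IsWeightedHomogeneous w (φ t) (ν t))
    (h0 : ∀ x : σ → k, (∀ t, eval x (φ t) = 0) → x = 0) (c : τ → k) :
    {x : σ → k | ∀ t, eval x (φ t) = c t}.Finite := by
  obtain ⟨m, hm⟩ := exists_pow_mem φ h0
  haveI := module_finite w φ ν m hν hφ hm
  haveI : Algebra.IsIntegral (Algebra.adjoin k (Set.range φ)) (MvPolynomial σ k) :=
    Algebra.IsIntegral.of_finite _ _
  by_cases hne : ∃ x₀ : σ → k, ∀ t, eval x₀ (φ t) = c t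
  swap
  · exact Set.finite_empty.subset fun x hx => hne ⟨x, hx⟩
  obtain ⟨x₀, hx₀⟩ := hne
  obtain ⟨ψ, hψdef⟩ : ∃ ψ : Algebra.adjoin k (Set.range φ) →ₐ[k] k,
      ψ = (aeval x₀).comp (Subalgebra.val _) := ⟨_, rfl⟩
  have hψ : ∀ x : σ → k, (∀ t, eval x (φ t) = c t) →
      (aeval x).comp (Subalgebra.val (Algebra.adjoin k (Set.range φ))) = ψ := by
    intro x hx
    apply AlgHom.adjoin_ext
    rintro _ ⟨t, rfl⟩
    rw [hψdef]
    change aeval x (φ t) = aeval x₀ (φ t)
    rw [aeval_eq_eval, aeval_eq_eval]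
    exact (hx t).trans (hx₀ t).symm
  choose q hq1 hq2 using fun i => Algebra.IsIntegral.isIntegral
    (R := Algebra.adjoin k (Set.range φ)) (X i : MvPolynomial σ k)
  have hfin : (Set.pi Set.univ
      (fun i => {y : k | ((q i).map (ψ : Algebra.adjoin k (Set.range φ) →+* k)).IsRoot y})).Finite :=
    Set.Finite.pi fun i => Polynomial.finite_setOfPred_isRoot ((hq1 i).map _).ne_zero
  refine hfin.subset fun x hx => ?_
  intro i _
  change Polynomial.eval (x i) ((q i).map (ψ : Algebra.adjoin k (Set.range φ) →+* k)) = 0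
  rw [Polynomial.eval_map]
  have h1 := congrArg (aeval x : MvPolynomial σ k →ₐ[k] k) (hq2 i)
  rw [map_zero] at h1
  rw [← h1, ← hψ x hx]
  change _ = ((aeval x : MvPolynomial σ k →ₐ[k] k) : MvPolynomial σ k →+* k) _
  rw [Polynomial.hom_eval₂]
  congr 1
  simp

end Fibre

end Groth.Agent.WtFin9
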