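import Mathlib
import Groth.Agent.Lib.WtFinite_helper9
import Groth.Agent.Lib.RamSep_helper9

/-!
# The Wronski map on the big cell is finite (helper9)
APPEND-ONLY once landed.
-/

set_option autoImplicit false

namespace Groth.Agent.RamFin9

open Polynomial

section WH

variable {k : Type*} [Field k] {σ : Type*}

/-- `Q` is weighted homogeneous of total weight `N` when `X` is given weight `1`:
the coefficient of `X ^ m` is weighted homogeneous of weight `N - m` -/
def WH (w : σ → ℕ) (Q : (MvPolynomial σ k)[X]) (N : ℕ) : Prop :=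
  ∀ m, (∀ j, m + j = N → MvPolynomial.IsWeightedHomogeneous w (Q.coeff m) j) ∧
    (N < m → Q.coeff m = 0)

lemma WH.mul {w : σ → ℕ} {Q1 Q2 : (MvPolynomial σ k)[X]} {N1 N2 : ℕ} (h1 : WH w Q1 N1)
    (h2 : WH w Q2 N2) : WH w (Q1 * Q2) (N1 + N2) := by
  intro m
  constructor
  · intro j hj
    rw [coeff_mul]
    refine MvPolynomial.IsWeightedHomogeneous.sum _ _ _ ?_
    rintro ⟨a, b⟩ hab
    rw [Finset.HasAntidiagonal.mem_antidiagonal] at hab
    simp only at hab ⊢
    by_cases ha : N1 < a
    · rw [(h1 a).2 ha, zero_mul]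
      exact MvPolynomial.isWeightedHomogeneous_zero k _ _
    by_cases hb : N2 < b
    · rw [(h2 b).2 hb, mul_zero]
      exact MvPolynomial.isWeightedHomogeneous_zero k _ _
    have h3 := ((h1 a).1 (N1 - a) (by omega)).mul ((h2 b).1 (N2 - b) (by omega))
    rwa [show N1 - a + (N2 - b) = j by omega] at h3
  · intro hm
    rw [coeff_mul]
    refine Finset.sum_eq_zero ?_
    rintro ⟨a, b⟩ hab
    rw [Finset.HasAntidiagonal.mem_antidiagonal] at hab
    simp only at hab ⊢
    by_cases ha : N1 < a
    · rw [(h1 a).2 ha, zero_mul]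
    · rw [(h2 b).2 (by omega), mul_zero]

lemma WH.derivative {w : σ → ℕ} {Q : (MvPolynomial σ k)[X]} {N : ℕ} (h : WH w Q (N + 1)) :
    WH w (derivative Q) N := by
  intro m
  rw [coeff_derivative]
  constructor
  · intro j hj
    have h1 := ((h (m + 1)).1 j (by omega)).mul
      (MvPolynomial.isWeightedHomogeneous_C w ((m + 1 : ℕ) : k))
    rw [add_zero] at h1
    convert h1 using 2
    simp
  · intro hm
    rw [(h (m + 1)).2 (by omega), zero_mul]

lemma WH.sub {w : σ → ℕ} {Q1 Q2 : (MvPolynomial σ k)[X]} {N : ℕ} (h1 : WH w Q1 N)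
    (h2 : WH w Q2 N) : WH w (Q1 - Q2) N := by
  intro m
  rw [coeff_sub]
  constructor
  · intro j hj
    exact ((h1 m).1 j hj).sub ((h2 m).1 j hj)
  · intro hm
    rw [(h1 m).2 hm, (h2 m).2 hm, sub_zero]

end WH

section Universal

variable (k : Type*) [Field k]

/-- coefficients of the universal monic polynomial of degree `r + 1` with no `X ^ r` term -/
noncomputable def cF (r : ℕ) (i : ℕ) : MvPolynomial (Fin r ⊕ Fin r) k :=
  if h : i < r then MvPolynomial.X (Sum.inl ⟨i, h⟩) else if i = r + 1 then 1 else 0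

/-- coefficients of the universal monic polynomial of degree `r` -/
noncomputable def cG (r : ℕ) (j : ℕ) : MvPolynomial (Fin r ⊕ Fin r) k :=
  if h : j < r then MvPolynomial.X (Sum.inr ⟨j, h⟩) else if j = r then 1 else 0

noncomputable def FF (r : ℕ) : (MvPolynomial (Fin r ⊕ Fin r) k)[X] :=
  ∑ i ∈ Finset.range (r + 2), monomial i (cF k r i)

noncomputable def GG (r : ℕ) : (MvPolynomial (Fin r ⊕ Fin r) k)[X] :=
  ∑ j ∈ Finset.range (r + 1), monomial j (cG k r j)

lemma coeff_FF (r m : ℕ) : (FF k r).coeff m = cF k r m := by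
  unfold FF
  rw [finsetSum_coeff]
  simp only [coeff_monomial]
  rw [Finset.sum_ite_eq']
  split_ifs with h
  · rfl
  · rw [Finset.mem_range] at h
    unfold cF
    rw [dif_neg (by omega), if_neg (by omega)]

lemma coeff_GG (r m : ℕ) : (GG k r).coeff m = cG k r m := by
  unfold GG
  rw [finsetSum_coeff]
  simp only [coeff_monomial]
  rw [Finset.sum_ite_eq']
  split_ifs with h
  · rfl
  · rw [Finset.mem_range] at h
    unfold cG
    rw [dif_neg (by omega), if_neg (by omega)]

/-- the weights -/
def wt (r : ℕ) : Fin r ⊕ Fin r → ℕ := Sum.elim (fun i => r + 1 - i) (fun j => r - j)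

lemma WH_FF (r : ℕ) : WH (wt r) (FF k r) (r + 1) := by
  intro m
  rw [coeff_FF]
  unfold cF
  constructor
  · intro j hj
    by_cases h1 : m < r
    · rw [dif_pos h1]
      have h2 := MvPolynomial.isWeightedHomogeneous_X (R := k) (wt r) (Sum.inl ⟨m, h1⟩)
      have h3 : wt r (Sum.inl ⟨m, h1⟩) = j := by
        simp only [wt, Sum.elim_inl]
        omega
      rwa [h3] at h2
    · rw [dif_neg h1]
      by_cases h2 : m = r + 1
      · rw [if_pos h2]
        have : j = 0 := by omega
        rw [this]
        exact MvPolynomial.isWeightedHomogeneous_one k _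
      · rw [if_neg h2]
        exact MvPolynomial.isWeightedHomogeneous_zero k _ _
  · intro hm
    rw [dif_neg (by omega), if_neg (by omega)]

lemma WH_GG (r : ℕ) : WH (wt r) (GG k r) r := by
  intro m
  rw [coeff_GG]
  unfold cG
  constructor
  · intro j hj
    by_cases h1 : m < r
    · rw [dif_pos h1]
      have h2 := MvPolynomial.isWeightedHomogeneous_X (R := k) (wt r) (Sum.inr ⟨m, h1⟩)
      have h3 : wt r (Sum.inr ⟨m, h1⟩) = j := by
        simp only [wt, Sum.elim_inr]
        omega
      rwa [h3] at h2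
    · rw [dif_neg h1]
      by_cases h2 : m = r
      · rw [if_pos h2]
        have : j = 0 := by omega
        rw [this]
        exact MvPolynomial.isWeightedHomogeneous_one k _
      · rw [if_neg h2]
        exact MvPolynomial.isWeightedHomogeneous_zero k _ _
  · intro hm
    rw [dif_neg (by omega), if_neg (by omega)]

lemma WH_wronskian (r : ℕ) :
    WH (wt (r + 1)) (wronskian (FF k (r + 1)) (GG k (r + 1))) (2 * (r + 1)) := by
  unfold wronskian
  have h1 : WH (wt (r + 1)) (FF k (r + 1) * derivative (GG k (r + 1))) (2 * (r + 1)) := by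
    have := (WH_FF k (r + 1)).mul (WH_GG k (r + 1)).derivative
    rwa [show r + 1 + 1 + r = 2 * (r + 1) by omega] at this
  have h2 : WH (wt (r + 1)) (derivative (FF k (r + 1)) * GG k (r + 1)) (2 * (r + 1)) := by
    have := (WH_FF k (r + 1)).derivative.mul (WH_GG k (r + 1))
    rwa [show r + 1 + (r + 1) = 2 * (r + 1) by omega] at this
  exact h1.sub h2

end Universal

section Trivial

variable {k : Type*} [Field k]

lemma coeff_mul_low (F H : k[X]) (i0 j0 : ℕ) (hF : ∀ i < i0, F.coeff i = 0)
    (hH : ∀ j < j0, H.coeff j = 0) : (F * H).coeff (i0 + j0) = F.coeff i0 * H.coeff j0 := by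
  rw [coeff_mul, Finset.sum_eq_single (i0, j0)]
  · rintro ⟨a, b⟩ hab hne
    rw [Finset.HasAntidiagonal.mem_antidiagonal] at hab
    simp only at hab ⊢
    by_cases ha : a < i0
    · rw [hF a ha, zero_mul]
    · have hb : b < j0 := by
        by_contra hb
        apply hne
        have h1 : a = i0 := by omega
        have h2 : b = j0 := by omega
        rw [h1, h2]
      rw [hH b hb, mul_zero]
  · intro h
    exfalso
    apply h
    rw [Finset.HasAntidiagonal.mem_antidiagonal]

lemma coeff_X_mul_derivative (F : k[X]) (n : ℕ) :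
    (X * derivative F).coeff n = (n : k) * F.coeff n := by
  cases n with
  | zero => rw [coeff_X_mul_zero, Nat.cast_zero, zero_mul]
  | succ n =>
    rw [coeff_X_mul, coeff_derivative]
    push_cast
    ring

lemma low_coeff (F G : k[X]) (i0 j0 : ℕ) (hF : ∀ i < i0, F.coeff i = 0)
    (hG : ∀ j < j0, G.coeff j = 0) :
    (X * wronskian F G).coeff (i0 + j0) = ((j0 : k) - (i0 : k)) * (F.coeff i0 * G.coeff j0) := by
  have h1 : X * wronskian F G = F * (X * derivative G) - (X * derivative F) * G := by
    unfold wronskian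
    ring
  rw [h1, coeff_sub, coeff_mul_low F (X * derivative G) i0 j0 hF
    (fun j hj => by rw [coeff_X_mul_derivative, hG j hj, mul_zero]),
    coeff_mul_low (X * derivative F) G i0 j0
    (fun i hi => by rw [coeff_X_mul_derivative, hF i hi, mul_zero]) hG,
    coeff_X_mul_derivative, coeff_X_mul_derivative]
  ring

lemma cast_sub_ne_zero (p : ℕ) [CharP k p] (d : ℕ) (hp : p = 0 ∨ d < p) (a b : ℕ) (ha : a ≤ d)
    (hb : b ≤ d) (hab : a ≠ b) : (a : k) - (b : k) ≠ 0 := by
  rcases lt_or_gt_of_ne hab with h | h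
  · obtain ⟨c, rfl⟩ := Nat.exists_eq_add_of_lt h
    have hc := RamP9.cast_ne_zero_of (k := k) p d hp (c + 1) (by omega) (by omega)
    intro h0
    apply hc
    push_cast at h0 ⊢
    linear_combination -h0
  · obtain ⟨c, rfl⟩ := Nat.exists_eq_add_of_lt h
    have hc := RamP9.cast_ne_zero_of (k := k) p d hp (c + 1) (by omega) (by omega)
    intro h0
    apply hc
    push_cast at h0 ⊢
    linear_combination h0

theorem trivial_fibre (p : ℕ) [CharP k p] (r : ℕ) (hp : p = 0 ∨ r + 1 < p) (F G : k[X])
    (hF : ∀ i, r + 1 < i → F.coeff i = 0) (hF1 : F.coeff (r + 1) = 1) (hFr : F.coeff r = 0)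
    (hG : ∀ j, r < j → G.coeff j = 0) (hG1 : G.coeff r = 1)
    (hW : ∀ m < 2 * r, (wronskian F G).coeff m = 0) :
    (∀ i < r, F.coeff i = 0) ∧ (∀ j < r, G.coeff j = 0) := by
  have hF0 : F ≠ 0 := by
    rintro rfl
    simp at hF1
  have hG0 : G ≠ 0 := by
    rintro rfl
    simp at hG1
  have key : ∀ (F' : k[X]) (i0 j0 : ℕ), (∀ i < i0, F'.coeff i = 0) →
      (∀ j < j0, G.coeff j = 0) → F'.coeff i0 ≠ 0 → G.coeff j0 ≠ 0 → i0 ≤ r + 1 → j0 ≤ r →
      i0 ≠ j0 → wronskian F' G = wronskian F G → 2 * r + 1 ≤ i0 + j0 := by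
    intro F' i0 j0 h1 h2 h3 h4 h5 h6 h7 h8
    by_contra hlt
    push Not at hlt
    have hc := low_coeff F' G i0 j0 h1 h2
    obtain ⟨n, hn⟩ : ∃ n, i0 + j0 = n + 1 := ⟨i0 + j0 - 1, by omega⟩
    rw [hn, coeff_X_mul, h8, hW n (by omega)] at hc
    have h9 : ((j0 : k) - (i0 : k)) ≠ 0 :=
      cast_sub_ne_zero p (r + 1) hp j0 i0 (by omega) h5 (fun h => h7 h.symm)
    exact mul_ne_zero h9 (mul_ne_zero h3 h4) hc.symm
  have hi0 : F.coeff F.natTrailingDegree ≠ 0 := by
    rwa [← trailingCoeff, Ne, trailingCoeff_eq_zero]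
  have hj0 : G.coeff G.natTrailingDegree ≠ 0 := by
    rwa [← trailingCoeff, Ne, trailingCoeff_eq_zero]
  have hi0le : F.natTrailingDegree ≤ r + 1 :=
    natTrailingDegree_le_of_ne_zero (by rw [hF1]; exact one_ne_zero)
  have hj0le : G.natTrailingDegree ≤ r :=
    natTrailingDegree_le_of_ne_zero (by rw [hG1]; exact one_ne_zero)
  by_cases hne : F.natTrailingDegree = G.natTrailingDegree
  · exfalso
    obtain ⟨t, ht⟩ : ∃ t, t = G.natTrailingDegree := ⟨_, rfl⟩
    rw [← ht] at hj0 hj0le
    rw [hne, ← ht] at hi0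
    have htr : t < r := by
      rcases Nat.lt_or_ge t r with h | h
      · exact h
      · exfalso
        have : t = r := by omega
        rw [this] at hi0
        exact hi0 hFr
    have hFlow : ∀ i < t, F.coeff i = 0 := fun i hi =>
      coeff_eq_zero_of_lt_natTrailingDegree (by rw [hne, ← ht]; exact hi)
    have hGlow : ∀ j < t, G.coeff j = 0 := fun j hj =>
      coeff_eq_zero_of_lt_natTrailingDegree (by rw [← ht]; exact hj)
    obtain ⟨c, hc⟩ : ∃ c : k, c = F.coeff t / G.coeff t := ⟨_, rfl⟩
    obtain ⟨F', hF'⟩ : ∃ F' : k[X], F' = F - C c * G := ⟨_, rfl⟩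
    have hW' : wronskian F' G = wronskian F G := by
      rw [hF']
      unfold wronskian
      rw [derivative_sub, derivative_mul, derivative_C]
      ring
    have hF'1 : F'.coeff (r + 1) = 1 := by
      rw [hF', coeff_sub, coeff_C_mul, hG (r + 1) (by omega), mul_zero, sub_zero, hF1]
    have hF'0 : F' ≠ 0 := by
      rintro h
      rw [h] at hF'1
      simp at hF'1
    have hF'low : ∀ i ≤ t, F'.coeff i = 0 := by
      intro i hi
      rw [hF', coeff_sub, coeff_C_mul]
      rcases Nat.lt_or_ge i t with h | h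
      · rw [hFlow i h, hGlow i h, mul_zero, sub_zero]
      · have : i = t := by omega
        rw [this, hc, div_mul_cancel₀ _ hj0, sub_self]
    have hi1 : F'.coeff F'.natTrailingDegree ≠ 0 := by
      rwa [← trailingCoeff, Ne, trailingCoeff_eq_zero]
    have hi1le : F'.natTrailingDegree ≤ r + 1 :=
      natTrailingDegree_le_of_ne_zero (by rw [hF'1]; exact one_ne_zero)
    have hi1gt : t < F'.natTrailingDegree := by
      by_contra h
      exact hi1 (hF'low _ (by omega))
    have := key F' F'.natTrailingDegree t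
      (fun i hi => coeff_eq_zero_of_lt_natTrailingDegree hi) hGlow hi1 hj0 hi1le hj0le
      (by omega) hW'
    omega
  · have := key F F.natTrailingDegree G.natTrailingDegree
      (fun i hi => coeff_eq_zero_of_lt_natTrailingDegree hi)
      (fun j hj => coeff_eq_zero_of_lt_natTrailingDegree hj) hi0 hj0 hi0le hj0le hne rfl
    have h1 : F.natTrailingDegree = r + 1 := by omega
    have h2 : G.natTrailingDegree = r := by omega
    exact ⟨fun i hi => coeff_eq_zero_of_lt_natTrailingDegree (by omega),
      fun j hj => coeff_eq_zero_of_lt_natTrailingDegree (by omega)⟩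

end Trivial

section Main

variable {k : Type*} [Field k]

lemma wronskian_map' {A : Type*} [CommRing A] (f : A →+* k) (P Q : A[X]) :
    wronskian (P.map f) (Q.map f) = (wronskian P Q).map f := by
  unfold wronskian
  rw [Polynomial.map_sub, Polynomial.map_mul, Polynomial.map_mul, derivative_map, derivative_map]

lemma coeff_map_FF (r : ℕ) (x : Fin r ⊕ Fin r → k) (i : ℕ) :
    ((FF k r).map (MvPolynomial.eval x)).coeff i =
      if h : i < r then x (Sum.inl ⟨i, h⟩) else if i = r + 1 then 1 else 0 := by
  rw [coeff_map, coeff_FF]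
  unfold cF
  split_ifs <;> simp

lemma coeff_map_GG (r : ℕ) (x : Fin r ⊕ Fin r → k) (j : ℕ) :
    ((GG k r).map (MvPolynomial.eval x)).coeff j =
      if h : j < r then x (Sum.inr ⟨j, h⟩) else if j = r then 1 else 0 := by
  rw [coeff_map, coeff_GG]
  unfold cG
  split_ifs <;> simp

/-- the Wronski map on the big cell has finite fibres -/
theorem finite_param [IsAlgClosed k] (p : ℕ) [CharP k p] (r : ℕ) (hp : p = 0 ∨ r + 1 < p)
    (c : ℕ → k) :
    {x : Fin r ⊕ Fin r → k | ∀ m < 2 * r,
      (wronskian ((FF k r).map (MvPolynomial.eval x))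
        ((GG k r).map (MvPolynomial.eval x))).coeff m = c m}.Finite := by
  cases r with
  | zero => exact Set.subsingleton_of_subsingleton.finite
  | succ r =>
    have h := WtFin9.finite_fibre (k := k) (σ := Fin (r + 1) ⊕ Fin (r + 1))
      (τ := Fin (2 * (r + 1))) (wt (r + 1))
      (fun t => (wronskian (FF k (r + 1)) (GG k (r + 1))).coeff t)
      (fun t => 2 * (r + 1) - t) (fun t => by have := t.2; omega)
      (fun t => ((WH_wronskian k r) t).1 _ (by have := t.2; omega)) ?_ (fun t => c t)
    · refine h.subset fun x hx t => ?_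
      have := hx t t.2
      rw [wronskian_map', coeff_map] at this
      exact this
    · intro x hx
      have h1 := trivial_fibre p (r + 1) hp ((FF k (r + 1)).map (MvPolynomial.eval x))
        ((GG k (r + 1)).map (MvPolynomial.eval x))
        (fun i hi => by rw [coeff_map_FF, dif_neg (by omega), if_neg (by omega)])
        (by rw [coeff_map_FF, dif_neg (by omega), if_pos rfl])
        (by rw [coeff_map_FF, dif_neg (by omega), if_neg (by omega)])
        (fun j hj => by rw [coeff_map_GG, dif_neg (by omega), if_neg (by omega)])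
        (by rw [coeff_map_GG, dif_neg (by omega), if_pos rfl])
        (fun m hm => by
          rw [wronskian_map', coeff_map]
          exact hx ⟨m, hm⟩)
      funext s
      rcases s with i | j
      · have := h1.1 i i.2
        rw [coeff_map_FF, dif_pos i.2] at this
        exact this
      · have := h1.2 j j.2
        rw [coeff_map_GG, dif_pos j.2] at this
        exact this

end Main

end Groth.Agent.RamFin9
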