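import Mathlib
import Groth.Agent.Lib.RamSep_helper9

/-!
# Pencils of polynomials: the `X^p`-twist preserving the Wronskian (helper9)
APPEND-ONLY once landed.
-/

set_option autoImplicit false

namespace Groth.Agent.RamP9

open Polynomial W4c1limliniiii
open Groth.Agent.Lib.RamThree (mem_pair pair_mem finrank_pair wronskian_pair)

variable {k : Type*} [Field k]

lemma natDegree_smul_eq (α : k) (hα : α ≠ 0) (f : k[X]) : (α • f).natDegree = f.natDegree := by
  rw [smul_eq_C_mul, natDegree_C_mul hα]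

/-- a combination `α F + β G` with `deg G < deg F` and `α ≠ 0` has the degree of `F` -/
lemma natDegree_comb (F G : k[X]) (h : G.natDegree < F.natDegree) (α β : k) (hα : α ≠ 0) :
    (α • F + β • G).natDegree = F.natDegree := by
  rw [natDegree_add_eq_left_of_natDegree_lt, natDegree_smul_eq α hα]
  rw [natDegree_smul_eq α hα]
  exact lt_of_le_of_lt (natDegree_smul_le _ _) h

lemma finrank_pair_of_natDegree_lt (F G : k[X]) (hG : G ≠ 0) (h : G.natDegree < F.natDegree) :
    Module.finrank k ↥(Submodule.span k {F} ⊔ Submodule.span k {G}) = 2 := by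
  have hF : F ≠ 0 := by
    rintro rfl
    simp at h
  refine finrank_pair F G hF hG fun α β hαβ => ?_
  by_contra h0
  have hα : α ≠ 0 := by
    rintro rfl
    exact h0 (zero_smul _ _)
  have h1 : (α • F).natDegree = F.natDegree := natDegree_smul_eq α hα F
  have h2 : (β • G).natDegree ≤ G.natDegree := natDegree_smul_le _ _
  rw [hαβ] at h1
  omega

lemma eq_span_of_natDegree_lt (V : Submodule k k[X]) (h2 : Module.finrank k V = 2) (F G : k[X])
    (hF : F ∈ V) (hGV : G ∈ V) (hG : G ≠ 0) (h : G.natDegree < F.natDegree) :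
    V = Submodule.span k {F} ⊔ Submodule.span k {G} := by
  haveI : Module.Finite k V := Module.finite_of_finrank_pos (by rw [h2]; exact Nat.zero_lt_two)
  have hle : Submodule.span k {F} ⊔ Submodule.span k {G} ≤ V :=
    sup_le ((Submodule.span_singleton_le_iff_mem _ _).2 hF)
      ((Submodule.span_singleton_le_iff_mem _ _).2 hGV)
  exact (Submodule.eq_of_le_of_finrank_eq hle
    (by rw [finrank_pair_of_natDegree_lt F G hG h, h2])).symm

/-- The Wronskian of a pencil vanishes to order `e - 1` at a point of tame ramification index `e`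
which is not a base point. -/
theorem rootMultiplicity_wronskian (p : ℕ) [CharP k p] (F G : k[X]) (a : k) (e : ℕ) (he1 : 1 ≤ e)
    (hpe : ¬ p ∣ e)
    (hbpf : ∃ s ∈ Submodule.span k {F} ⊔ Submodule.span k {G}, s.eval a ≠ 0)
    (hram : HasRamIdx (Submodule.span k {F} ⊔ Submodule.span k {G}) a e)
    (hW : wronskian F G ≠ 0) :
    (wronskian F G).rootMultiplicity a + 1 = e := by
  obtain ⟨s0, hs0V, hs0a⟩ := hbpf
  obtain ⟨⟨s1, hs1V, hs1ne, hs1e⟩, hub⟩ := hram
  have hs1e' : rootMultiplicity a s1 = e := le_antisymm (hub s1 hs1V hs1ne) hs1e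
  have hs1a : s1.eval a = 0 := by
    have h : 0 < rootMultiplicity a s1 := by omega
    exact (rootMultiplicity_pos hs1ne).1 h
  obtain ⟨α, β, hs0⟩ := mem_pair hs0V
  obtain ⟨γ, δ, hs1⟩ := mem_pair hs1V
  have hWs : wronskian s0 s1 = C (α * δ - β * γ) * wronskian F G := by
    rw [hs0, hs1]
    exact wronskian_pair _ _ _ _ _ _
  have hdet : α * δ - β * γ ≠ 0 := by
    intro hdet
    have h1 : δ • s0 - β • s1 = (α * δ - β * γ) • F := by
      rw [hs0, hs1]
      simp only [smul_eq_C_mul, C_sub, C_mul]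
      ring
    have h2 : γ • s0 - α • s1 = -((α * δ - β * γ) • G) := by
      rw [hs0, hs1]
      simp only [smul_eq_C_mul, C_sub, C_mul]
      ring
    rw [hdet, zero_smul] at h1 h2
    have h1a := congrArg (eval a) h1
    have h2a := congrArg (eval a) h2
    simp only [eval_sub, eval_smul, smul_eq_mul, hs1a, mul_zero, sub_zero, eval_zero, neg_zero]
      at h1a h2a
    have hδ : δ = 0 := (mul_eq_zero.1 h1a).resolve_right hs0a
    have hγ : γ = 0 := (mul_eq_zero.1 h2a).resolve_right hs0a
    apply hs1ne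
    rw [hs1, hδ, hγ, zero_smul, zero_smul, add_zero]
  have hWs0 : wronskian s0 s1 ≠ 0 := by
    rw [hWs]
    exact mul_ne_zero (C_ne_zero.2 hdet) hW
  have hmulW : (wronskian F G).rootMultiplicity a = (wronskian s0 s1).rootMultiplicity a := by
    rw [hWs, rootMultiplicity_mul (by rw [← hWs]; exact hWs0), rootMultiplicity_C, zero_add]
  obtain ⟨u, hu, hnd⟩ := exists_eq_pow_rootMultiplicity_mul_and_not_dvd s1 hs1ne a
  rw [dvd_iff_isRoot] at hnd
  obtain ⟨n, hn⟩ := Nat.exists_eq_succ_of_ne_zero (by omega : e ≠ 0)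
  rw [hs1e', hn] at hu
  have hWf : wronskian s0 s1 =
      (X - C a) ^ n * (C ((n + 1 : ℕ) : k) * s0 * u + (X - C a) * wronskian s0 u) := by
    conv_lhs => rw [hu]
    exact Groth.Agent.Lib.RamWronsk_lead.wronskian_pow_mul s0 u a n
  obtain ⟨B, hB⟩ : ∃ B : k[X], B = C ((n + 1 : ℕ) : k) * s0 * u + (X - C a) * wronskian s0 u :=
    ⟨_, rfl⟩
  rw [← hB] at hWf
  have hBa : B.eval a = ((n + 1 : ℕ) : k) * s0.eval a * u.eval a := by
    rw [hB]
    simp
  have hc : ((n + 1 : ℕ) : k) ≠ 0 := by
    rw [Ne, CharP.cast_eq_zero_iff k p, ← Nat.succ_eq_add_one, ← hn]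
    exact hpe
  have hBne : ¬ IsRoot B a := by
    rw [IsRoot.def, hBa]
    exact mul_ne_zero (mul_ne_zero hc hs0a) hnd
  have hW' : (X - C a) ^ n * B ≠ 0 := by
    rw [← hWf]
    exact hWs0
  have hmult : (wronskian s0 s1).rootMultiplicity a = n := by
    rw [hWf, rootMultiplicity_mul hW', rootMultiplicity_X_sub_C_pow,
      rootMultiplicity_eq_zero hBne, add_zero]
  rw [hmulW, hmult, hn]

section Twist

variable (p : ℕ) [CharP k p]

lemma wronskian_twist (F G : k[X]) (c : k) :
    wronskian (F + c • (X ^ p * G)) G = wronskian F G := by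
  rw [wronskian_add_left, smul_eq_C_mul]
  have h : wronskian (C c * (X ^ p * G)) G = 0 := by
    unfold wronskian
    rw [derivative_mul, derivative_C, derivative_mul, derivative_X_pow, CharP.cast_eq_zero, C_0]
    ring
  rw [h, add_zero]

variable {p} in
/-- the twisted pencil `⟨F + c X^p G, G⟩` has the same ramification as `⟨F, G⟩` -/
theorem twist_mem (d n : ℕ) (P : Fin n → k) (e : Fin n → ℕ) (E : ℕ)
    (he : ∀ i, 1 ≤ e i ∧ ¬ p ∣ e i) (hlt : ∀ i, e i < p) (hp0 : 0 < p) (hE : p < E)
    (F G : k[X]) (hFd : F.natDegree = d) (hG0 : G ≠ 0) (hGd : G.natDegree + E = d)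
    (hV : Submodule.span k {F} ⊔ Submodule.span k {G} ∈ ramMaps d P e) (c : k) :
    Submodule.span k {F + c • (X ^ p * G)} ⊔ Submodule.span k {G} ∈ ramMaps d P e ∧
      HasRamIdxInf d (Submodule.span k {F + c • (X ^ p * G)} ⊔ Submodule.span k {G}) E := by
  obtain ⟨⟨hle, h2, -, hbpf⟩, hsep, hram⟩ := hV
  obtain ⟨Fc, hFc⟩ : ∃ Fc : k[X], Fc = F + c • (X ^ p * G) := ⟨_, rfl⟩
  rw [← hFc]
  have hXG : (X ^ p * G).natDegree = p + G.natDegree := by
    rw [natDegree_mul (pow_ne_zero _ X_ne_zero) hG0, natDegree_X_pow]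
  have hFcd : Fc.natDegree = d := by
    rw [hFc, natDegree_add_eq_left_of_natDegree_lt, hFd]
    rw [hFd]
    refine lt_of_le_of_lt (natDegree_smul_le _ _) ?_
    rw [hXG]
    omega
  have hlt' : G.natDegree < Fc.natDegree := by
    rw [hFcd]
    omega
  have hFcm : Fc ∈ Submodule.span k {Fc} ⊔ Submodule.span k {G} :=
    Submodule.mem_sup_left (Submodule.mem_span_singleton_self _)
  have hGm : G ∈ Submodule.span k {Fc} ⊔ Submodule.span k {G} :=
    Submodule.mem_sup_right (Submodule.mem_span_singleton_self _)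
  have hW : wronskian F G ≠ 0 := by
    obtain ⟨F', hF', G', hG', hFG⟩ := hsep
    obtain ⟨α, β, rfl⟩ := mem_pair hF'
    obtain ⟨γ, δ, rfl⟩ := mem_pair hG'
    intro h0
    apply hFG
    rw [wronskian_pair, h0, mul_zero]
  have hWc : wronskian Fc G = wronskian F G := by
    rw [hFc]
    exact wronskian_twist p F G c
  have hpen : IsPencil d (Submodule.span k {Fc} ⊔ Submodule.span k {G}) := by
    refine ⟨?_, finrank_pair_of_natDegree_lt Fc G hG0 hlt', ⟨Fc, hFcm, hFcd⟩, ?_⟩
    · apply sup_le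
      · rw [Submodule.span_singleton_le_iff_mem, mem_degreeLE]
        apply degree_le_of_natDegree_le
        rw [hFcd]
      · rw [Submodule.span_singleton_le_iff_mem, mem_degreeLE]
        apply degree_le_of_natDegree_le
        omega
    · intro a
      by_cases hGa : G.eval a = 0
      · refine ⟨Fc, hFcm, ?_⟩
        obtain ⟨s, hs, hsa⟩ := hbpf a
        obtain ⟨α, β, rfl⟩ := mem_pair hs
        rw [hFc]
        simp only [eval_add, eval_smul, eval_mul, smul_eq_mul, hGa, mul_zero, add_zero] at hsa ⊢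
        exact right_ne_zero_of_mul hsa
      · exact ⟨G, hGm, hGa⟩
  refine ⟨⟨hpen, ⟨Fc, hFcm, G, hGm, by rw [hWc]; exact hW⟩, ?_⟩, ?_⟩
  · intro i
    have h1 := rootMultiplicity_wronskian p F G (P i) (e i) (he i).1 (he i).2 (hbpf (P i)) (hram i) hW
    have hpen' : IsPencil d (Submodule.span k {Fc, G}) := by
      rw [Submodule.span_insert]
      exact hpen
    have h3 := (Groth.Agent.Lib.RamWronsk_lead.main p d Fc G hpen' (by rw [hWc]; exact hW) (P i)
      (e i) (by rw [hWc]; exact h1) (Or.inr (by have := hlt i; omega))).1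
    rw [Submodule.span_insert] at h3
    exact h3
  · refine ⟨⟨G, hGm, hG0, hGd.le⟩, ?_⟩
    intro s hs hs0
    obtain ⟨α, β, rfl⟩ := mem_pair hs
    by_cases hα : α = 0
    · rw [hα, zero_smul, zero_add] at hs0 ⊢
      have hβ : β ≠ 0 := by
        rintro rfl
        exact hs0 (zero_smul _ _)
      rw [natDegree_smul_eq β hβ]
      omega
    · rw [natDegree_comb Fc G hlt' α β hα, hFcd]
      omega

variable {p} in
/-- distinct twists give distinct pencils -/
theorem twist_injective (d : ℕ) (E : ℕ) (hp0 : 0 < p) (hE : p < E)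
    (F G : k[X]) (hFd : F.natDegree = d) (hG0 : G ≠ 0) (hGd : G.natDegree + E = d) :
    Function.Injective (fun c : k =>
      Submodule.span k {F + c • (X ^ p * G)} ⊔ Submodule.span k {G}) := by
  intro c c' hcc
  replace hcc : Submodule.span k {F + c • (X ^ p * G)} ⊔ Submodule.span k {G} =
    Submodule.span k {F + c' • (X ^ p * G)} ⊔ Submodule.span k {G} := hcc
  by_contra hne
  have hXG : (X ^ p * G).natDegree = p + G.natDegree := by
    rw [natDegree_mul (pow_ne_zero _ X_ne_zero) hG0, natDegree_X_pow]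
  have hFcd : ∀ c : k, (F + c • (X ^ p * G)).natDegree = d := by
    intro c
    rw [natDegree_add_eq_left_of_natDegree_lt, hFd]
    rw [hFd]
    refine lt_of_le_of_lt (natDegree_smul_le _ _) ?_
    rw [hXG]
    omega
  have h1 : F + c' • (X ^ p * G) ∈
      Submodule.span k {F + c • (X ^ p * G)} ⊔ Submodule.span k {G} := by
    have : F + c' • (X ^ p * G) ∈
        Submodule.span k {F + c' • (X ^ p * G)} ⊔ Submodule.span k {G} :=
      Submodule.mem_sup_left (Submodule.mem_span_singleton_self _)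
    rw [← hcc] at this
    exact this
  have h2 : F + c • (X ^ p * G) ∈
      Submodule.span k {F + c • (X ^ p * G)} ⊔ Submodule.span k {G} :=
    Submodule.mem_sup_left (Submodule.mem_span_singleton_self _)
  have h3 := Submodule.sub_mem _ h1 h2
  have h4 : F + c' • (X ^ p * G) - (F + c • (X ^ p * G)) = (c' - c) • (X ^ p * G) := by
    rw [sub_smul]
    ring
  rw [h4] at h3
  have hcc' : c' - c ≠ 0 := sub_ne_zero.2 (Ne.symm hne)
  have hdeg : ((c' - c) • (X ^ p * G)).natDegree = p + G.natDegree := by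
    rw [natDegree_smul_eq _ hcc', hXG]
  obtain ⟨α, β, hαβ⟩ := mem_pair h3
  have hlt' : G.natDegree < (F + c • (X ^ p * G)).natDegree := by
    rw [hFcd]
    omega
  by_cases hα : α = 0
  · rw [hα, zero_smul, zero_add] at hαβ
    have h5 : (β • G).natDegree ≤ G.natDegree := natDegree_smul_le _ _
    rw [← hαβ, hdeg] at h5
    omega
  · have h5 := natDegree_comb _ G hlt' α β hα
    rw [← hαβ, hdeg, hFcd] at h5
    omega

end Twist

/-- The set of pencils with prescribed tame ramification `< p` at finite points and index `> p` at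
infinity is empty or infinite. -/
theorem empty_or_infinite [IsAlgClosed k] (p : ℕ) [hp : Fact p.Prime] [CharP k p] (d n : ℕ)
    (P : Fin n → k) (e : Fin n → ℕ) (E : ℕ)
    (he : ∀ i, 1 ≤ e i ∧ ¬ p ∣ e i) (hlt : ∀ i, e i < p) (hE : p < E) :
    {V : Submodule k k[X] | V ∈ ramMaps d P e ∧ HasRamIdxInf d V E} = ∅ ∨
      {V : Submodule k k[X] | V ∈ ramMaps d P e ∧ HasRamIdxInf d V E}.Infinite := by
  by_cases hempty : {V : Submodule k k[X] | V ∈ ramMaps d P e ∧ HasRamIdxInf d V E} = ∅
  · exact Or.inl hempty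
  right
  obtain ⟨V, hV, hinf⟩ := Set.nonempty_iff_ne_empty.2 hempty
  have hp0 : 0 < p := hp.out.pos
  obtain ⟨F, hFV, hFd⟩ := hV.1.2.2.1
  obtain ⟨⟨G, hGV, hG0, hGle⟩, hub⟩ := hinf
  have hGd : G.natDegree + E = d := le_antisymm hGle (hub G hGV hG0)
  have hlt' : G.natDegree < F.natDegree := by
    rw [hFd]
    omega
  have hVeq := eq_span_of_natDegree_lt V hV.1.2.1 F G hFV hGV hG0 hlt'
  rw [hVeq] at hV
  refine Set.infinite_of_injective_forall_mem (twist_injective d E hp0 hE F G hFd hG0 hGd) ?_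
  intro c
  exact twist_mem d n P e E he hlt hp0 hE F G hFd hG0 hGd hV c

end Groth.Agent.RamP9
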