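import Mathlib
import Groth.Prelude.Def_W4c1limliniiiiRamP1
import Groth.Agent.Lib.RamFin1_helper9
import Groth.Agent.Lib.RamTwist_helper9

/-!
# Finiteness of maps with prescribed ramification in characteristic `0` or `> d` (helper9)
APPEND-ONLY once landed.
-/

set_option autoImplicit false

namespace Groth.Agent.RamFin9

open Polynomial W4c1limliniiii

variable {k : Type*} [Field k]

lemma coeff_mul_high (F H : k[X]) (i0 j0 : ℕ) (hF : ∀ i, i0 < i → F.coeff i = 0)
    (hH : ∀ j, j0 < j → H.coeff j = 0) : (F * H).coeff (i0 + j0) = F.coeff i0 * H.coeff j0 := by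
  rw [coeff_mul, Finset.sum_eq_single (i0, j0)]
  · rintro ⟨a, b⟩ hab hne
    rw [Finset.HasAntidiagonal.mem_antidiagonal] at hab
    simp only at hab ⊢
    by_cases ha : i0 < a
    · rw [hF a ha, zero_mul]
    · have hb : j0 < b := by
        by_contra hb
        apply hne
        have h1 : a = i0 := by omega
        have h2 : b = j0 := by omega
        rw [h1, h2]
      rw [hH b hb, mul_zero]
  · intro h
    exfalso
    apply h
    rw [Finset.HasAntidiagonal.mem_antidiagonal]

lemma high_coeff (F G : k[X]) (i0 j0 : ℕ) (hF : ∀ i, i0 < i → F.coeff i = 0)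
    (hG : ∀ j, j0 < j → G.coeff j = 0) :
    (X * wronskian F G).coeff (i0 + j0) = ((j0 : k) - (i0 : k)) * (F.coeff i0 * G.coeff j0) := by
  have h1 : X * wronskian F G = F * (X * derivative G) - (X * derivative F) * G := by
    unfold wronskian
    ring
  rw [h1, coeff_sub, coeff_mul_high F (X * derivative G) i0 j0 hF
    (fun j hj => by rw [coeff_X_mul_derivative, hG j hj, mul_zero]),
    coeff_mul_high (X * derivative F) G i0 j0
    (fun i hi => by rw [coeff_X_mul_derivative, hF i hi, mul_zero]) hG,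
    coeff_X_mul_derivative, coeff_X_mul_derivative]
  ring

/-- a two-dimensional space of polynomials of degree `≤ d` containing a polynomial of degree `d`
contains a non-zero polynomial of smaller degree -/
lemma exists_lower (d : ℕ) (hd : 0 < d) (V : Submodule k k[X]) (hle : V ≤ degreeLE k d)
    (h2 : Module.finrank k V = 2) (F0 : k[X]) (hF0V : F0 ∈ V) (hF0 : F0.natDegree = d) :
    ∃ G0 ∈ V, G0 ≠ 0 ∧ G0.natDegree < d := by
  by_contra hcon
  push Not at hcon
  have hdeg : ∀ s ∈ V, s.natDegree ≤ d := fun s hs =>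
    natDegree_le_of_degree_le (mem_degreeLE.1 (hle hs))
  have hF00 : F0 ≠ 0 := by
    rintro rfl
    rw [natDegree_zero] at hF0
    omega
  have hlc : F0.coeff d ≠ 0 := by
    rw [← hF0]
    exact leadingCoeff_ne_zero.2 hF00
  have h3 : V ≤ Submodule.span k {F0} := by
    intro s hs
    rw [Submodule.mem_span_singleton]
    refine ⟨s.coeff d / F0.coeff d, ?_⟩
    by_contra hne
    have h4 : s - (s.coeff d / F0.coeff d) • F0 ≠ 0 := by
      intro h
      apply hne
      rw [sub_eq_zero] at h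
      exact h.symm
    have h5 : s - (s.coeff d / F0.coeff d) • F0 ∈ V :=
      V.sub_mem hs (V.smul_mem _ hF0V)
    have h6 := hcon _ h5 h4
    have h7 := hdeg _ h5
    have h8 : (s - (s.coeff d / F0.coeff d) • F0).natDegree = d := le_antisymm h7 h6
    have h9 : (s - (s.coeff d / F0.coeff d) • F0).coeff d = 0 := by
      rw [coeff_sub, coeff_smul, smul_eq_mul, div_mul_cancel₀ _ hlc, sub_self]
    have h10 : (s - (s.coeff d / F0.coeff d) • F0).leadingCoeff = 0 := by
      rw [leadingCoeff, h8]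
      exact h9
    exact h4 (leadingCoeff_eq_zero.1 h10)
  have h4 := Submodule.finrank_mono h3
  rw [h2, finrank_span_singleton hF00] at h4
  omega

/-- the product of the `(X - P i) ^ (e i - 1)` -/
noncomputable def PiP {n : ℕ} (P : Fin n → k) (e : Fin n → ℕ) : k[X] :=
  ∏ i, (X - C (P i)) ^ (e i - 1)

lemma PiP_monic {n : ℕ} (P : Fin n → k) (e : Fin n → ℕ) : (PiP P e).Monic :=
  monic_prod_of_monic _ _ fun i _ => (monic_X_sub_C _).pow _

lemma PiP_natDegree {n : ℕ} (P : Fin n → k) (e : Fin n → ℕ) :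
    (PiP P e).natDegree = ∑ i, (e i - 1) := by
  unfold PiP
  rw [natDegree_prod_of_monic _ _ (fun i _ => (monic_X_sub_C _).pow _)]
  refine Finset.sum_congr rfl fun i _ => ?_
  rw [(monic_X_sub_C _).natDegree_pow, natDegree_X_sub_C, mul_one]

lemma PiP_dvd (p : ℕ) [CharP k p] (d n : ℕ) (P : Fin n → k) (hP : Function.Injective P)
    (e : Fin n → ℕ) (he : ∀ i, 1 ≤ e i ∧ ¬ p ∣ e i) (F G : k[X])
    (hV : Submodule.span k {F} ⊔ Submodule.span k {G} ∈ ramMaps d P e)
    (hW : wronskian F G ≠ 0) : PiP P e ∣ wronskian F G := by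
  obtain ⟨⟨hle, h2, -, hbpf⟩, hsep, hram⟩ := hV
  refine Fintype.prod_dvd_of_coprime ?_ ?_
  · intro i j hij
    exact (isCoprime_X_sub_C_of_isUnit_sub
      (sub_ne_zero.2 (fun h => hij (hP h))).isUnit).pow
  · intro i
    have h := RamP9.rootMultiplicity_wronskian p F G (P i) (e i) (he i).1 (he i).2
      (hbpf (P i)) (hram i) hW
    have h3 : e i - 1 = (wronskian F G).rootMultiplicity (P i) := by omega
    rw [h3]
    exact pow_rootMultiplicity_dvd _ _

theorem exists_param (p : ℕ) [CharP k p] (r n : ℕ) (P : Fin n → k) (hP : Function.Injective P)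
    (e : Fin n → ℕ) (he : Admissible p (r + 1) e) (hp : p = 0 ∨ r + 1 < p)
    (V : Submodule k k[X]) (hV : V ∈ ramMaps (r + 1) P e) :
    ∃ x : Fin r ⊕ Fin r → k,
      (∀ m < 2 * r, (wronskian ((FF k r).map (MvPolynomial.eval x))
        ((GG k r).map (MvPolynomial.eval x))).coeff m = (-(PiP P e)).coeff m) ∧
      V = Submodule.span k {(FF k r).map (MvPolynomial.eval x)} ⊔
        Submodule.span k {(GG k r).map (MvPolynomial.eval x)} := by
  obtain ⟨⟨hle, h2, ⟨F0, hF0V, hF0d⟩, hbpf⟩, hsep, hram⟩ := id hV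
  obtain ⟨G0, hG0V, hG00, hG0d⟩ := exists_lower (r + 1) (Nat.succ_pos r) V hle h2 F0 hF0V hF0d
  have hF00 : F0 ≠ 0 := by
    rintro rfl
    simp at hF0d
  obtain ⟨b, hb⟩ : ∃ b, b = G0.natDegree := ⟨_, rfl⟩
  obtain ⟨G, hGdef⟩ : ∃ G : k[X], G = G0 * C (leadingCoeff G0)⁻¹ := ⟨_, rfl⟩
  have hGm : G.Monic := hGdef ▸ monic_mul_leadingCoeff_inv hG00
  have hGd : G.natDegree = b := by rw [hGdef, natDegree_mul_leadingCoeff_inv _ hG00, hb]
  have hGV : G ∈ V := by
    rw [hGdef, mul_comm, ← smul_eq_C_mul]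
    exact V.smul_mem _ hG0V
  obtain ⟨F1, hF1def⟩ : ∃ F1 : k[X], F1 = F0 * C (leadingCoeff F0)⁻¹ := ⟨_, rfl⟩
  have hF1m : F1.Monic := hF1def ▸ monic_mul_leadingCoeff_inv hF00
  have hF1d : F1.natDegree = r + 1 := by
    rw [hF1def, natDegree_mul_leadingCoeff_inv _ hF00, hF0d]
  have hF1V : F1 ∈ V := by
    rw [hF1def, mul_comm, ← smul_eq_C_mul]
    exact V.smul_mem _ hF0V
  obtain ⟨F, hFdef⟩ : ∃ F : k[X], F = F1 - C (F1.coeff b) * G := ⟨_, rfl⟩
  have hbr : b < r + 1 := hb ▸ hG0d
  have hqd : (C (F1.coeff b) * G).natDegree < F1.natDegree :=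
    lt_of_le_of_lt (natDegree_C_mul_le _ _) (by rw [hGd, hF1d]; exact hbr)
  have hFd : F.natDegree = r + 1 := by
    rw [hFdef, natDegree_sub_eq_left_of_natDegree_lt hqd, hF1d]
  have hFm : F.Monic := by
    rw [hFdef]
    exact hF1m.sub_of_left (degree_lt_degree hqd)
  have hGlc : G.coeff b = 1 := by
    rw [← hGd]
    exact hGm.coeff_natDegree
  have hFlc : F.coeff (r + 1) = 1 := by
    rw [← hFd]
    exact hFm.coeff_natDegree
  have hFb : F.coeff b = 0 := by
    rw [hFdef, coeff_sub, coeff_C_mul, hGlc, mul_one, sub_self]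
  have hFV : F ∈ V := by
    rw [hFdef, ← smul_eq_C_mul]
    exact V.sub_mem hF1V (V.smul_mem _ hGV)
  have hVeq : V = Submodule.span k {F} ⊔ Submodule.span k {G} :=
    RamP9.eq_span_of_natDegree_lt V h2 F G hFV hGV hGm.ne_zero (by rw [hGd, hFd]; exact hbr)
  have hc := high_coeff F G (r + 1) b
    (fun i hi => coeff_eq_zero_of_natDegree_lt (by rw [hFd]; exact hi))
    (fun j hj => coeff_eq_zero_of_natDegree_lt (by rw [hGd]; exact hj))
  rw [hFlc, hGlc, mul_one, mul_one] at hc
  have hne : ((b : k) - ((r + 1 : ℕ) : k)) ≠ 0 :=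
    cast_sub_ne_zero p (r + 1) hp b (r + 1) hbr.le le_rfl hbr.ne
  have hW : wronskian F G ≠ 0 := by
    intro h0
    rw [h0, mul_zero, coeff_zero] at hc
    exact hne hc.symm
  have hdvd : PiP P e ∣ wronskian F G :=
    PiP_dvd p (r + 1) n P hP e
      (fun i => ⟨by have := (he.1 i).1; omega, (he.1 i).2.2⟩) F G (hVeq ▸ hV) hW
  have hdeg : (PiP P e).natDegree = 2 * r := by
    rw [PiP_natDegree]
    have h1 : ∑ i, (e i - 1) + n = ∑ i, e i := by
      have h3 : ∑ i : Fin n, (e i - 1 + 1) = ∑ i, e i :=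
        Finset.sum_congr rfl (fun i _ => by have := (he.1 i).1; omega)
      rw [Finset.sum_add_distrib] at h3
      simpa using h3
    have := he.2
    omega
  have hWdeg := natDegree_wronskian_lt_add hW
  have hle' := natDegree_le_of_dvd hdvd hW
  rw [hFd, hGd] at hWdeg
  have hbr' : b = r := by omega
  subst hbr'
  have hWeq : wronskian F G = -(PiP P e) := by
    obtain ⟨q, hq⟩ := hdvd
    have hq0 : q ≠ 0 := by
      rintro rfl
      rw [mul_zero] at hq
      exact hW hq
    have hWd : (wronskian F G).natDegree = 2 * b + q.natDegree := by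
      rw [hq, (PiP_monic P e).natDegree_mul' hq0, hdeg]
    have hq1 : q.natDegree = 0 := by omega
    have hq2 := eq_C_of_natDegree_eq_zero hq1
    have h1 : (wronskian F G).coeff (2 * b) = -1 := by
      rw [show b + 1 + b = 2 * b + 1 by ring, coeff_X_mul] at hc
      rw [hc]
      push_cast
      ring
    have h2 : (wronskian F G).coeff (2 * b) = q.coeff 0 := by
      rw [hq, hq2, mul_comm, coeff_C_mul, ← hdeg, (PiP_monic P e).coeff_natDegree, mul_one,
        coeff_C_zero]
    rw [hq, hq2, ← h2, h1]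
    simp
  have hFx : (FF k b).map (MvPolynomial.eval
      (Sum.elim (fun i : Fin b => F.coeff i) (fun j : Fin b => G.coeff j))) = F := by
    ext m
    rw [coeff_map_FF]
    split_ifs with h1 h3
    · rfl
    · rw [h3, hFlc]
    · rcases Nat.lt_or_ge (b + 1) m with h | h
      · exact (coeff_eq_zero_of_natDegree_lt (by rw [hFd]; exact h)).symm
      · have : m = b := by omega
        rw [this, hFb]
  have hGx : (GG k b).map (MvPolynomial.eval
      (Sum.elim (fun i : Fin b => F.coeff i) (fun j : Fin b => G.coeff j))) = G := by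
    ext m
    rw [coeff_map_GG]
    split_ifs with h1 h3
    · rfl
    · rw [h3, hGlc]
    · exact (coeff_eq_zero_of_natDegree_lt (by rw [hGd]; omega)).symm
  refine ⟨Sum.elim (fun i : Fin b => F.coeff i) (fun j : Fin b => G.coeff j), ?_, ?_⟩
  · intro m _
    rw [hFx, hGx, hWeq]
  · rw [hFx, hGx]
    exact hVeq

/-- finiteness of the set of maps with prescribed ramification in characteristic `0` or `> d` -/
theorem ramMaps_finite [IsAlgClosed k] (p : ℕ) [CharP k p] (d n : ℕ) (P : Fin n → k)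
    (hP : Function.Injective P) (e : Fin n → ℕ) (he : Admissible p d e) (hp : p = 0 ∨ d < p) :
    (ramMaps d P e).Finite := by
  have hd : 0 < d := by
    by_contra h0
    have hd0 : d = 0 := by omega
    have h1 : ∑ _i : Fin n, 2 ≤ ∑ i, e i := Finset.sum_le_sum fun i _ => (he.1 i).1
    have h2 := he.2
    simp at h1
    omega
  obtain ⟨r, rfl⟩ : ∃ r, d = r + 1 := ⟨d - 1, by omega⟩
  have hfin := finite_param (k := k) p r hp (fun m => (-(PiP P e)).coeff m)
  refine (hfin.image (fun x => Submodule.span k {(FF k r).map (MvPolynomial.eval x)} ⊔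
    Submodule.span k {(GG k r).map (MvPolynomial.eval x)})).subset ?_
  intro V hV
  obtain ⟨x, hx1, hx2⟩ := exists_param p r n P hP e he hp V hV
  exact ⟨x, hx1, hx2.symm⟩

end Groth.Agent.RamFin9
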