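import Mathlib

set_option autoImplicit false
universe u
open Polynomial

namespace RamGrpH8

variable {B : Type u} [CommRing B]

/-- `σ` preserves powers of `m`. -/
theorem map_mem_pow (σ : B →+* B) (m : Ideal B) (hσm : ∀ x ∈ m, σ x ∈ m) (j : ℕ) {y : B}
    (hy : y ∈ m ^ j) : σ y ∈ m ^ j := by
  have h1 : Ideal.map σ m ≤ m := Ideal.map_le_iff_le_comap.mpr (fun x hx => hσm x hx)
  have h2 : Ideal.map σ (m ^ j) ≤ m ^ j := by
    rw [Ideal.map_pow]; exact Ideal.pow_right_mono h1 j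
  exact h2 (Ideal.mem_map_of_mem σ hy)

theorem sub_mem_pow (σ : B →+* B) (m : Ideal B) (hσm : ∀ x ∈ m, σ x ∈ m) (k : ℕ)
    (h : ∀ x, σ x - x ∈ m ^ (k + 1)) :
    ∀ (j : ℕ) (y : B), y ∈ m ^ (j + 1) → σ y - y ∈ m ^ (j + k + 1) := by
  intro j
  induction j with
  | zero =>
    intro y _
    simpa using h y
  | succ j ih =>
    intro y hy
    rw [pow_succ'] at hy
    refine Submodule.mul_induction_on hy ?_ ?_
    · intro a ha b hb
      have e : σ (a * b) - a * b = σ a * (σ b - b) + (σ a - a) * b := by rw [map_mul]; ring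
      rw [e]
      refine Ideal.add_mem _ ?_ ?_
      · have h3 := Ideal.mul_mem_mul (hσm a ha) (ih b hb)
        rw [← pow_succ'] at h3
        have e2 : j + k + 1 + 1 = j + 1 + k + 1 := by ring
        rw [e2] at h3
        exact h3
      · have h3 := Ideal.mul_mem_mul (h a) hb
        rw [← pow_add] at h3
        exact Ideal.pow_le_pow_right (by omega) h3
    · intro x y hx hy
      have e : σ (x + y) - (x + y) = (σ x - x) + (σ y - y) := by rw [map_add]; ring
      rw [e]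
      exact Ideal.add_mem _ hx hy

theorem iterate_sub (σ : B →+* B) (m : Ideal B) (hσm : ∀ x ∈ m, σ x ∈ m) (k : ℕ) (hk : 1 ≤ k)
    (h : ∀ x, σ x - x ∈ m ^ (k + 1)) (n : ℕ) (x : B) :
    (σ^[n]) x - x - n * (σ x - x) ∈ m ^ (k + 2) := by
  induction n with
  | zero => simp
  | succ n ih =>
    rw [Function.iterate_succ_apply']
    obtain ⟨y, hy⟩ : ∃ y, y = (σ^[n]) x - x := ⟨_, rfl⟩
    have hy1 : y ∈ m ^ (k + 1) := by
      have e : y = ((σ^[n]) x - x - n * (σ x - x)) + n * (σ x - x) := by rw [hy]; ring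
      rw [e]
      exact Ideal.add_mem _ (Ideal.pow_le_pow_right (by omega) ih) (Ideal.mul_mem_left _ _ (h x))
    have hy2 : σ y - y ∈ m ^ (k + 2) :=
      Ideal.pow_le_pow_right (by omega) (sub_mem_pow σ m hσm k h k y hy1)
    have e : σ ((σ^[n]) x) - x - ((n + 1 : ℕ) : B) * (σ x - x) =
        (σ y - y) + ((σ^[n]) x - x - n * (σ x - x)) := by
      rw [hy, map_sub]; push_cast; ring
    rw [e]
    exact Ideal.add_mem _ hy2 ih

theorem step (σ : B →+* B) (m : Ideal B) (hσm : ∀ x ∈ m, σ x ∈ m) (k : ℕ) (hk : 1 ≤ k)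
    (h : ∀ x, σ x - x ∈ m ^ (k + 1)) (n : ℕ) (hn : ∀ x, (σ^[n]) x = x) (c : B)
    (hc : c * n - 1 ∈ m) : ∀ x, σ x - x ∈ m ^ (k + 2) := by
  intro x
  have h1 := iterate_sub σ m hσm k hk h n x
  rw [hn x, sub_self, zero_sub] at h1
  have h2 : (n : B) * (σ x - x) ∈ m ^ (k + 2) := by
    have := Ideal.neg_mem_iff _ |>.mp h1
    exact this
  have h3 : (c * n - 1) * (σ x - x) ∈ m ^ (k + 2) := by
    have := Ideal.mul_mem_mul hc (h x)
    rw [← pow_succ'] at this
    exact this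
  have e : σ x - x = c * ((n : B) * (σ x - x)) - (c * n - 1) * (σ x - x) := by ring
  rw [e]
  exact Ideal.sub_mem _ (Ideal.mul_mem_left _ _ h2) h3

theorem eq_of_coprime_order (σ : B →+* B) (m : Ideal B) (hσm : ∀ x ∈ m, σ x ∈ m)
    (h2 : ∀ x, σ x - x ∈ m ^ 2) (n : ℕ) (hn : ∀ x, (σ^[n]) x = x) (c : B)
    (hc : c * n - 1 ∈ m) (hm : ⨅ k : ℕ, m ^ k = ⊥) : ∀ x, σ x = x := by
  have key : ∀ k : ℕ, ∀ x, σ x - x ∈ m ^ (k + 2) := by
    intro k
    induction k with
    | zero => exact h2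
    | succ k ih => exact step σ m hσm (k + 1) (by omega) ih n hn c hc
  intro x
  have : σ x - x ∈ ⨅ k : ℕ, m ^ k := by
    rw [Ideal.mem_iInf]
    intro k
    exact Ideal.pow_le_pow_right (by omega) (key k x)
  rw [hm, Ideal.mem_bot, sub_eq_zero] at this
  exact this

/-- The separability argument: an `A`-algebra endomorphism acting trivially on `B/m` and on
`m/m²` acts trivially on `B/m²`, if the residue extension is "separable". -/
theorem sub_mem_sq_of_separable {A : Type u} [CommRing A] [Algebra A B] (m : Ideal B)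
    [m.IsMaximal] (σ : B →ₐ[A] B) (hI : ∀ x, σ x - x ∈ m) (hm : ∀ x ∈ m, σ x - x ∈ m ^ 2)
    (hsep : ∀ x : B, ∃ f : A[X], aeval x f ∈ m ∧ aeval x (derivative f) ∉ m) :
    ∀ x, σ x - x ∈ m ^ 2 := by
  intro x
  obtain ⟨f, hf1, hf2⟩ := hsep x
  obtain ⟨h, hh⟩ : ∃ h, h = σ x - x := ⟨_, rfl⟩
  have hhm : h ∈ m := hh ▸ hI x
  have e1 : σ (aeval x f) = aeval (x + h) f := by
    rw [← Polynomial.aeval_algHom_apply, hh]; congr 2; ring
  have e2 := (Polynomial.binomExpansion (f.map (algebraMap A B)) x h).2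
  obtain ⟨k, hk⟩ : ∃ k, k = (Polynomial.binomExpansion (f.map (algebraMap A B)) x h).1 := ⟨_, rfl⟩
  rw [← hk] at e2
  rw [Polynomial.eval_map_algebraMap, Polynomial.eval_map_algebraMap, Polynomial.derivative_map,
    Polynomial.eval_map_algebraMap] at e2
  have h3 : aeval x (derivative f) * h ∈ m ^ 2 := by
    have e3 : aeval x (derivative f) * h = (σ (aeval x f) - aeval x f) - k * h ^ 2 := by
      rw [e1, e2]; ring
    rw [e3]
    refine Ideal.sub_mem _ (hm _ hf1) (Ideal.mul_mem_left _ _ ?_)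
    exact Ideal.pow_mem_pow hhm 2
  obtain ⟨c, i, hi, hci⟩ := Ideal.IsMaximal.exists_inv ‹m.IsMaximal› hf2
  have e4 : h = c * (aeval x (derivative f) * h) + i * h := by
    have : h = (c * aeval x (derivative f) + i) * h := by rw [hci, one_mul]
    linear_combination this
  rw [← hh, e4]
  refine Ideal.add_mem _ (Ideal.mul_mem_left _ _ h3) ?_
  rw [pow_two]
  exact Ideal.mul_mem_mul hi hhm

end RamGrpH8
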