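import Mathlib
import Groth.Agent.Lib.RamGrp1_helper8

set_option autoImplicit false
universe u
open Polynomial
open scoped Pointwise

namespace RamGrpH8

variable {B : Type u} [CommRing B] {G : Type u} [Group G] [MulSemiringAction G B]

theorem mem_inertia_iff (m : Ideal B) (σ : G) : σ ∈ m.inertia G ↔ ∀ x, σ • x - x ∈ m := Iff.rfl

theorem smul_mem_of_mem_inertia (m : Ideal B) {σ : G} (hσ : σ ∈ m.inertia G) {x : B}
    (hx : x ∈ m) : σ • x ∈ m := by
  have h := (mem_inertia_iff m σ).mp hσ x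
  have e : σ • x = (σ • x - x) + x := by ring
  rw [e]; exact m.add_mem h hx

theorem smul_mem_pow_of_mem_inertia (m : Ideal B) {σ : G} (hσ : σ ∈ m.inertia G) (j : ℕ) {x : B}
    (hx : x ∈ m ^ j) : σ • x ∈ m ^ j :=
  map_mem_pow (MulSemiringAction.toRingHom G B σ) m
    (fun _ hy => smul_mem_of_mem_inertia m hσ hy) j hx

section theta

variable (m : Ideal B) (π : B)

theorem exists_theta (H1 : m ≤ Ideal.span {π} ⊔ m ^ 2) (hπ : π ∈ m)
    (σ : G) (hσ : σ ∈ m.inertia G) : ∃ u : B, σ • π - u * π ∈ m ^ 2 := by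
  have h := H1 (smul_mem_of_mem_inertia m hσ hπ)
  obtain ⟨a, ha, b, hb, hab⟩ := Submodule.mem_sup.mp h
  obtain ⟨u, rfl⟩ := Ideal.mem_span_singleton'.mp ha
  refine ⟨u, ?_⟩
  rw [← hab, add_sub_cancel_left]
  exact hb

/-- the tame character, as a function -/
noncomputable def thetaFun (H1 : m ≤ Ideal.span {π} ⊔ m ^ 2) (hπ : π ∈ m)
    (σ : m.inertia G) : B ⧸ m :=
  Ideal.Quotient.mk m (Classical.choose (exists_theta m π H1 hπ σ.1 σ.2))

theorem thetaFun_eq (H1 : m ≤ Ideal.span {π} ⊔ m ^ 2) (hπ : π ∈ m)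
    (H2 : ∀ u, u * π ∈ m ^ 2 → u ∈ m) (σ : m.inertia G) (u : B)
    (hu : (σ : G) • π - u * π ∈ m ^ 2) :
    thetaFun m π H1 hπ σ = Ideal.Quotient.mk m u := by
  unfold thetaFun
  have h := Classical.choose_spec (exists_theta m π H1 hπ σ.1 σ.2)
  rw [Ideal.Quotient.eq]
  apply H2
  have e : (Classical.choose (exists_theta m π H1 hπ σ.1 σ.2) - u) * π =
      ((σ : G) • π - u * π) - ((σ : G) • π - Classical.choose (exists_theta m π H1 hπ σ.1 σ.2) * π) := by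
    ring
  rw [e]
  exact Ideal.sub_mem _ hu h

/-- the tame character -/
noncomputable def theta (H1 : m ≤ Ideal.span {π} ⊔ m ^ 2) (hπ : π ∈ m)
    (H2 : ∀ u, u * π ∈ m ^ 2 → u ∈ m) : m.inertia G →* B ⧸ m where
  toFun := thetaFun m π H1 hπ
  map_one' := by
    rw [thetaFun_eq m π H1 hπ H2 1 1 (by simp)]
    rfl
  map_mul' := by
    intro σ τ
    obtain ⟨u, hu⟩ := exists_theta m π H1 hπ σ.1 σ.2
    obtain ⟨v, hv⟩ := exists_theta m π H1 hπ τ.1 τ.2
    rw [thetaFun_eq m π H1 hπ H2 σ u hu, thetaFun_eq m π H1 hπ H2 τ v hv, ← map_mul]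
    apply thetaFun_eq m π H1 hπ H2
    obtain ⟨a, ha⟩ : ∃ a, a = (σ : G) • π - u * π := ⟨_, rfl⟩
    obtain ⟨b, hb⟩ : ∃ b, b = (τ : G) • π - v * π := ⟨_, rfl⟩
    have e1 : (τ : G) • π = v * π + b := by rw [hb]; ring
    have e2 : (σ : G) • π = u * π + a := by rw [ha]; ring
    have e : ((σ * τ : m.inertia G) : G) • π - u * v * π =
        ((σ : G) • v - v) * (u * π) + ((σ : G) • v) * a + (σ : G) • b := by
      rw [Subgroup.coe_mul, mul_smul, e1, smul_add, smul_mul', e2]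
      ring
    rw [e]
    rw [← ha] at hu
    rw [← hb] at hv
    refine Ideal.add_mem _ (Ideal.add_mem _ ?_ (Ideal.mul_mem_left _ _ hu))
      (smul_mem_pow_of_mem_inertia m σ.2 2 hv)
    rw [pow_two]
    exact Ideal.mul_mem_mul ((mem_inertia_iff m σ.1).mp σ.2 v) (Ideal.mul_mem_left _ _ hπ)

theorem theta_eq_one_iff (H1 : m ≤ Ideal.span {π} ⊔ m ^ 2) (hπ : π ∈ m)
    (H2 : ∀ u, u * π ∈ m ^ 2 → u ∈ m) (σ : m.inertia G) :
    theta m π H1 hπ H2 σ = 1 ↔ (σ : G) • π - π ∈ m ^ 2 := by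
  constructor
  · intro h
    obtain ⟨u, hu⟩ := exists_theta m π H1 hπ σ.1 σ.2
    have h1 : theta m π H1 hπ H2 σ = Ideal.Quotient.mk m u := thetaFun_eq m π H1 hπ H2 σ u hu
    rw [h1] at h
    have h2 : u - 1 ∈ m := by
      rw [← Ideal.Quotient.eq, h]; rfl
    have e : (σ : G) • π - π = ((σ : G) • π - u * π) + (u - 1) * π := by ring
    rw [e]
    refine Ideal.add_mem _ hu ?_
    rw [pow_two]
    exact Ideal.mul_mem_mul h2 hπ
  · intro h
    have : theta m π H1 hπ H2 σ = Ideal.Quotient.mk m 1 :=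
      thetaFun_eq m π H1 hπ H2 σ 1 (by simpa using h)
    rw [this]; rfl

/-- if `σ` fixes `π` mod `m²` then it acts trivially on `m/m²`. -/
theorem sub_mem_sq_of_mem (H1 : m ≤ Ideal.span {π} ⊔ m ^ 2)
    (σ : G) (hσ : σ ∈ m.inertia G) (h : σ • π - π ∈ m ^ 2) (hπ : π ∈ m) :
    ∀ x ∈ m, σ • x - x ∈ m ^ 2 := by
  intro x hx
  obtain ⟨a, ha, r, hr, rfl⟩ := Submodule.mem_sup.mp (H1 hx)
  obtain ⟨u, rfl⟩ := Ideal.mem_span_singleton'.mp ha
  have e : σ • (u * π + r) - (u * π + r) =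
      (σ • u - u) * (σ • π) + u * (σ • π - π) + (σ • r - r) := by
    rw [smul_add, smul_mul']; ring
  rw [e]
  refine Ideal.add_mem _ (Ideal.add_mem _ ?_ (Ideal.mul_mem_left _ _ h))
    (Ideal.sub_mem _ (smul_mem_pow_of_mem_inertia m hσ 2 hr) hr)
  rw [pow_two]
  exact Ideal.mul_mem_mul ((mem_inertia_iff m σ).mp hσ u) (smul_mem_of_mem_inertia m hσ hπ)

end theta

end RamGrpH8
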