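import Mathlib
import Groth.Agent.Lib.RamGrp2_helper8

set_option autoImplicit false
universe u
open Polynomial
open scoped Pointwise

namespace RamGrpH8

variable {A B : Type u} [CommRing A] [CommRing B] [Algebra A B]
  {G : Type u} [Group G] [MulSemiringAction G B] [SMulCommClass G A B]

theorem mem_sq_inertia_of_fix (m : Ideal B) [m.IsMaximal] (π : B)
    (H1 : m ≤ Ideal.span {π} ⊔ m ^ 2) (hπ : π ∈ m)
    (hsep : ∀ x : B, ∃ f : A[X], aeval x f ∈ m ∧ aeval x (derivative f) ∉ m)
    (σ : G) (hσ : σ ∈ m.inertia G) (h : σ • π - π ∈ m ^ 2) : σ ∈ (m ^ 2).inertia G := by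
  rw [mem_inertia_iff]
  exact sub_mem_sq_of_separable m (MulSemiringAction.toAlgHom A B σ)
    (fun x => (mem_inertia_iff m σ).mp hσ x) (sub_mem_sq_of_mem m π H1 σ hσ h hπ) hsep

omit [SMulCommClass G A B] in
theorem inertia_sq_le (m : Ideal B) : (m ^ 2).inertia G ≤ m.inertia G := by
  intro σ hσ
  rw [mem_inertia_iff] at hσ ⊢
  intro x
  exact Ideal.pow_le_self two_ne_zero (hσ x)

omit [SMulCommClass G A B] in
theorem eq_one_of_coprime_order [FaithfulSMul G B] (m : Ideal B) (hm : ⨅ k : ℕ, m ^ k = ⊥)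
    (σ : G) (hσ : σ ∈ (m ^ 2).inertia G) (n : ℕ) (hn : σ ^ n = 1) (c : B)
    (hc : c * n - 1 ∈ m) : σ = 1 := by
  have hσI : σ ∈ m.inertia G := inertia_sq_le m hσ
  have key := eq_of_coprime_order (MulSemiringAction.toRingHom G B σ) m
    (fun x hx => smul_mem_of_mem_inertia m hσI hx)
    (fun x => (mem_inertia_iff (m ^ 2) σ).mp hσ x) n
    (fun x => by
      have : (⇑(MulSemiringAction.toRingHom G B σ))^[n] x = σ ^ n • x := by
        have h1 : (⇑(MulSemiringAction.toRingHom G B σ)) = (σ • · : B → B) := rfl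
        rw [h1, smul_iterate]
      rw [this, hn, one_smul]) c hc hm
  apply FaithfulSMul.eq_of_smul_eq_smul (α := B)
  intro x
  rw [one_smul]
  exact key x

end RamGrpH8
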