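import Mathlib

set_option autoImplicit false
universe u

namespace RamGrpH8

theorem exists_uniformizer {B : Type u} [CommRing B] [IsDedekindDomain B] (m : Ideal B)
    [m.IsMaximal] (hm : m ≠ ⊥) :
    ∃ π ∈ m, m ≤ Ideal.span {π} ⊔ m ^ 2 ∧ ∀ u, u * π ∈ m ^ 2 → u ∈ m := by
  have hlt : m ^ 2 < m := by
    have := Ideal.pow_succ_lt_pow hm 1
    simpa using this
  obtain ⟨π, hπ, hπ2⟩ := SetLike.exists_of_lt hlt
  refine ⟨π, hπ, ?_, ?_⟩
  · -- J = span{π} ⊔ m² divides m²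
    obtain ⟨J, hJ⟩ : ∃ J, J = Ideal.span {π} ⊔ m ^ 2 := ⟨_, rfl⟩
    have hJm : J ≤ m := by
      rw [hJ]
      exact sup_le ((Ideal.span_singleton_le_iff_mem m).mpr hπ) hlt.le
    have hdvd : J ∣ m ^ 2 := Ideal.dvd_iff_le.mpr (hJ ▸ le_sup_right)
    have hprime : Prime m := Ideal.prime_of_isPrime hm inferInstance
    obtain ⟨i, hi, hassoc⟩ := (dvd_prime_pow hprime 2).mp hdvd
    rw [associated_iff_eq] at hassoc
    rw [← hJ]
    interval_cases i
    · exfalso
      rw [pow_zero, Ideal.one_eq_top] at hassoc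
      rw [hassoc] at hJm
      exact (Ideal.IsMaximal.ne_top ‹_›) (top_le_iff.mp hJm)
    · rw [hassoc, pow_one]
    · exfalso
      apply hπ2
      rw [← hassoc, hJ]
      exact Ideal.mem_sup_left (Ideal.mem_span_singleton_self π)
  · intro u hu
    rcases Ideal.IsPrime.mul_mem_pow m hu with h | h
    · exact h
    · exact absurd h hπ2

theorem iInf_pow_eq_bot {B : Type u} [CommRing B] [IsDedekindDomain B] (m : Ideal B)
    [m.IsMaximal] : ⨅ k : ℕ, m ^ k = ⊥ :=
  Ideal.iInf_pow_eq_bot_of_isDomain m (Ideal.IsMaximal.ne_top ‹_›)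

end RamGrpH8
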