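import Mathlib

set_option autoImplicit false
universe u
open Polynomial

namespace RamGrpH8

theorem exists_poly_of_isSeparable {A B : Type u} [CommRing A] [CommRing B] [Algebra A B]
    (p : Ideal A) (m : Ideal B) [m.LiesOver p] [m.IsMaximal]
    [Algebra.IsSeparable (A ⧸ p) (B ⧸ m)] (x : B) :
    ∃ f : A[X], aeval x f ∈ m ∧ aeval x (derivative f) ∉ m := by
  have hsep : (minpoly (A ⧸ p) (Ideal.Quotient.mk m x)).Separable :=
    Algebra.IsSeparable.isSeparable (A ⧸ p) (Ideal.Quotient.mk m x)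
  obtain ⟨g, hg⟩ := Polynomial.map_surjective (Ideal.Quotient.mk p) Ideal.Quotient.mk_surjective
    (minpoly (A ⧸ p) (Ideal.Quotient.mk m x))
  have hcomp : (algebraMap (A ⧸ p) (B ⧸ m)).comp (Ideal.Quotient.mk p) =
      (Ideal.Quotient.mk m).comp (algebraMap A B) := by
    ext a; rfl
  have key : ∀ f : A[X], Ideal.Quotient.mk m (aeval x f) =
      aeval (Ideal.Quotient.mk m x) (f.map (Ideal.Quotient.mk p)) := by
    intro f
    rw [aeval_def, aeval_def, Polynomial.hom_eval₂, Polynomial.eval₂_map, hcomp]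
  refine ⟨g, ?_, ?_⟩
  · rw [← Ideal.Quotient.eq_zero_iff_mem, key, hg, minpoly.aeval]
  · rw [← Ideal.Quotient.eq_zero_iff_mem, key, ← Polynomial.derivative_map, hg]
    exact hsep.aeval_derivative_ne_zero (minpoly.aeval _ _)

end RamGrpH8
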