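import Mathlib
import Groth.Agent.Lib.RamGrp3_helper8
import Groth.Agent.Lib.RamGrp5_helper8
import Groth.Agent.Lib.RamGrp6_helper8

set_option autoImplicit false
universe u
open Polynomial
open scoped Pointwise

namespace RamGrpH8

section general

variable {A B G : Type u} [CommRing A] [CommRing B] [IsDedekindDomain B] [Algebra A B]
  [Group G] [Finite G] [MulSemiringAction G B] [SMulCommClass G A B] [FaithfulSMul G B]
  (p : Ideal A) [p.IsMaximal] (m : Ideal B) [m.IsMaximal] [m.LiesOver p]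

omit [IsDedekindDomain B] [Finite G] [SMulCommClass G A B] [FaithfulSMul G B] in
theorem smul_mem_of_mem_stabilizer {τ : G} (hτ : τ ∈ MulAction.stabilizer G m) {x : B}
    (hx : x ∈ m) : τ • x ∈ m := by
  have h1 : τ • m = m := hτ
  rw [← h1]
  exact Ideal.smul_mem_pointwise_smul τ x m hx

omit [IsDedekindDomain B] [Finite G] [SMulCommClass G A B] [FaithfulSMul G B] in
theorem P_le_I : MulAction.stabilizer G m ⊓ (m ^ 2).inertia G ≤ m.inertia G :=
  inf_le_right.trans (inertia_sq_le m)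

omit [IsDedekindDomain B] [Finite G] [SMulCommClass G A B] [FaithfulSMul G B] in
theorem P_normal :
    ((MulAction.stabilizer G m ⊓ (m ^ 2).inertia G).subgroupOf (MulAction.stabilizer G m)).Normal := by
  refine (Subgroup.normal_subgroupOf_iff inf_le_left).mpr fun σ τ hσ hτ => ?_
  refine ⟨Subgroup.mul_mem _ (Subgroup.mul_mem _ hτ hσ.1) (Subgroup.inv_mem _ hτ),
    (mem_inertia_iff (m ^ 2) _).mpr ?_⟩
  intro x
  have h1 := (mem_inertia_iff (m ^ 2) σ).mp hσ.2 (τ⁻¹ • x)
  have e : (τ * σ * τ⁻¹) • x - x = τ • (σ • τ⁻¹ • x - τ⁻¹ • x) := by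
    rw [smul_sub, smul_smul, smul_smul, mul_smul, mul_smul]
    simp
  rw [e]
  exact map_mem_pow (MulSemiringAction.toRingHom G B τ) m
    (fun y hy => smul_mem_of_mem_stabilizer m hτ hy) 2 h1

omit [IsDedekindDomain B] [Finite G] [SMulCommClass G A B] [FaithfulSMul G B] [m.LiesOver p]
  [p.IsMaximal] in
theorem exists_inv_natCast (n : ℕ) (hn : (n : B ⧸ m) ≠ 0) : ∃ c : B, c * n - 1 ∈ m := by
  have h1 : (n : B) ∉ m := by
    intro h
    apply hn
    rw [← map_natCast (Ideal.Quotient.mk m)]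
    exact Ideal.Quotient.eq_zero_iff_mem.mpr h
  obtain ⟨c, i, hi, hci⟩ := Ideal.IsMaximal.exists_inv ‹m.IsMaximal› h1
  refine ⟨c, ?_⟩
  have : c * n - 1 = -i := by rw [← hci]; ring
  rw [this]
  exact Ideal.neg_mem_iff _ |>.mpr hi

omit [SMulCommClass G A B] in
/-- Elements of `P` whose order is invertible in the residue field are trivial. -/
theorem eq_one_of_mem_P (σ : G) (hσ : σ ∈ (m ^ 2).inertia G) (n : ℕ) (hn : σ ^ n = 1)
    (hn0 : (n : B ⧸ m) ≠ 0) : σ = 1 := by
  obtain ⟨c, hc⟩ := exists_inv_natCast m n hn0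
  exact eq_one_of_coprime_order m (iInf_pow_eq_bot m) σ hσ n hn c hc

omit [SMulCommClass G A B] in
theorem isPGroup_P (q : ℕ) [hq : Fact q.Prime] [CharP (B ⧸ m) q] :
    IsPGroup q ↥(MulAction.stabilizer G m ⊓ (m ^ 2).inertia G) := by
  intro σ
  have hord : 0 < orderOf σ := orderOf_pos σ
  obtain ⟨k, n', hn', hkn⟩ := Nat.exists_eq_pow_mul_and_not_dvd hord.ne' q hq.out.ne_one
  refine ⟨k, ?_⟩
  have h1 : (σ ^ q ^ k) ^ n' = 1 := by
    rw [← pow_mul, ← hkn, pow_orderOf_eq_one]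
  have h2 : ((σ ^ q ^ k : ↥(MulAction.stabilizer G m ⊓ (m ^ 2).inertia G)) : G) = 1 := by
    apply eq_one_of_mem_P m _ (σ ^ q ^ k).2.2 n'
    · have := congrArg Subtype.val h1
      simpa using this
    · rw [Ne, CharP.cast_eq_zero_iff (B ⧸ m) q]
      exact hn'
  exact Subtype.ext h2

omit [SMulCommClass G A B] in
theorem P_eq_bot [CharZero (B ⧸ m)] :
    MulAction.stabilizer G m ⊓ (m ^ 2).inertia G = ⊥ := by
  rw [eq_bot_iff]
  intro σ hσ
  rw [Subgroup.mem_bot]
  apply eq_one_of_mem_P m σ hσ.2 (orderOf σ) (pow_orderOf_eq_one σ)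
  exact Nat.cast_ne_zero.mpr (orderOf_pos σ).ne'

end general

end RamGrpH8
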