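import Mathlib

set_option autoImplicit false
universe u

namespace RamGrpH8

section endgame

variable {Q F : Type u} [Group Q] [Finite Q] [CommRing F] [IsDomain F]

/-- A finite group embedded in a field of characteristic `q` has order prime to `q`. -/
theorem not_dvd_card_of_injective (φ : Q →* F) (hφ : Function.Injective φ) (q : ℕ)
    [hq : Fact q.Prime] [CharP F q] : ¬ q ∣ Nat.card Q := by
  intro hdvd
  obtain ⟨x, hx⟩ := exists_prime_orderOf_dvd_card' q hdvd
  have h1 : x ^ q = 1 := by rw [← hx, pow_orderOf_eq_one]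
  have h2 : (φ x) ^ q = 1 := by rw [← map_pow, h1, map_one]
  have h3 : (φ x - 1) ^ q = 0 := by rw [sub_pow_char, h2, one_pow, sub_self]
  have h4 : φ x = 1 := by
    have := eq_zero_of_pow_eq_zero h3
    exact sub_eq_zero.mp this
  have h5 : x = 1 := hφ (h4.trans (map_one φ).symm)
  rw [h5, orderOf_one] at hx
  exact hq.out.ne_one hx.symm

theorem card_rootsOfUnity_mul_pow_le (N a q : ℕ) [NeZero N] [hq : Fact q.Prime] [CharP F q] :
    Nat.card (rootsOfUnity (N * q ^ a) F) ≤ N := by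
  haveI : NeZero (N * q ^ a) := ⟨Nat.mul_ne_zero (NeZero.ne N) (pow_ne_zero _ hq.out.ne_zero)⟩
  have hle : rootsOfUnity (N * q ^ a) F ≤ rootsOfUnity N F := by
    intro ζ hζ
    rw [mem_rootsOfUnity] at hζ ⊢
    have h1 : ((ζ : F) ^ N) ^ q ^ a = 1 := by
      rw [← pow_mul, ← Units.val_pow_eq_pow_val, hζ, Units.val_one]
    have h2 : ((ζ : F) ^ N - 1) ^ q ^ a = 0 := by rw [sub_pow_char_pow, h1, one_pow, sub_self]
    have h3 : (ζ : F) ^ N = 1 := sub_eq_zero.mp (eq_zero_of_pow_eq_zero h2)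
    apply Units.ext
    rw [Units.val_pow_eq_pow_val, h3, Units.val_one]
  calc Nat.card (rootsOfUnity (N * q ^ a) F) ≤ Nat.card (rootsOfUnity N F) :=
        Nat.card_le_card_of_injective (Subgroup.inclusion hle) (Subgroup.inclusion_injective hle)
    _ ≤ N := card_rootsOfUnity F N

theorem nonempty_mulEquiv_rootsOfUnity (φ : Q →* F) (hφ : Function.Injective φ) (e : ℕ) [NeZero e]
    (hdvd : Nat.card Q ∣ e) (hcard : Nat.card (rootsOfUnity e F) ≤ Nat.card Q) :
    Nonempty (Q ≃* ↥(rootsOfUnity e F)) := by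
  have hmem : ∀ x : Q, φ.toHomUnits x ∈ rootsOfUnity e F := by
    intro x
    rw [mem_rootsOfUnity, ← map_pow]
    obtain ⟨c, hc⟩ := hdvd
    rw [hc, pow_mul, pow_card_eq_one', one_pow, map_one]
  let ψ : Q →* ↥(rootsOfUnity e F) := φ.toHomUnits.codRestrict (rootsOfUnity e F) hmem
  have hψ : Function.Injective ψ := by
    intro x y hxy
    apply hφ
    have h1 : (ψ x : Fˣ) = ψ y := congrArg Subtype.val hxy
    have h2 : ((φ.toHomUnits x : Fˣ) : F) = (φ.toHomUnits y : Fˣ) := congrArg Units.val h1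
    simpa using h2
  exact ⟨MulEquiv.ofBijective ψ (hψ.bijective_of_nat_card_le hcard)⟩

end endgame

end RamGrpH8
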