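import Mathlib
import Groth.Agent.Lib.RamGrp7_helper8
import Groth.Agent.Lib.RamGrp8_helper8

set_option autoImplicit false
universe u
open Polynomial
open scoped Pointwise

namespace RamGrpH8

section tame

variable {A B G : Type u} [CommRing A] [CommRing B] [IsDedekindDomain B] [Algebra A B]
  [Group G] [Finite G] [MulSemiringAction G B] [SMulCommClass G A B] [FaithfulSMul G B]
  (p : Ideal A) [p.IsMaximal] (m : Ideal B) [m.IsMaximal] [m.LiesOver p]
  [Algebra.IsSeparable (A ⧸ p) (B ⧸ m)]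

include p in
omit [Finite G] [FaithfulSMul G B] [p.IsMaximal] in
/-- Existence of the tame character with kernel `P`. -/
theorem exists_tame_char (hm : m ≠ ⊥) :
    ∃ θ : m.inertia G →* B ⧸ m, ∀ σ : m.inertia G,
      θ σ = 1 ↔ (σ : G) ∈ MulAction.stabilizer G m ⊓ (m ^ 2).inertia G := by
  obtain ⟨π, hπ, H1, H2⟩ := exists_uniformizer m hm
  refine ⟨theta m π H1 hπ H2, fun σ => ?_⟩
  rw [theta_eq_one_iff]
  constructor
  · intro h
    exact ⟨Ideal.inertia_le_stabilizer m σ.2,
      mem_sq_inertia_of_fix (A := A) m π H1 hπ (exists_poly_of_isSeparable p m) σ.1 σ.2 h⟩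
  · intro h
    exact (mem_inertia_iff (m ^ 2) σ.1).mp h.2 π

include p in
omit [Finite G] [FaithfulSMul G B] [p.IsMaximal] in
theorem exists_tame_embedding (hm : m ≠ ⊥)
    [hN : ((MulAction.stabilizer G m ⊓ (m ^ 2).inertia G).subgroupOf (m.inertia G)).Normal] :
    ∃ φ : (m.inertia G ⧸ (MulAction.stabilizer G m ⊓ (m ^ 2).inertia G).subgroupOf (m.inertia G))
      →* B ⧸ m, Function.Injective φ := by
  obtain ⟨θ, hθ⟩ := exists_tame_char (G := G) p m hm
  refine ⟨QuotientGroup.lift _ θ (fun σ hσ => (hθ σ).mpr (Subgroup.mem_subgroupOf.mp hσ)), ?_⟩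
  rw [injective_iff_map_eq_one]
  intro x
  induction x using QuotientGroup.induction_on with
  | H σ =>
    intro h
    rw [QuotientGroup.lift_mk] at h
    exact (QuotientGroup.eq_one_iff σ).mpr (Subgroup.mem_subgroupOf.mpr ((hθ σ).mp h))

end tame

end RamGrpH8
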