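import Mathlib
import Groth.Agent.Lib.RamGrp9_helper8

set_option autoImplicit false
universe u
open Polynomial
open scoped Pointwise

namespace RamGrpH8

section final

variable {A B G : Type u} [CommRing A] [CommRing B] [IsDedekindDomain B] [Algebra A B]
  [Group G] [Finite G] [MulSemiringAction G B] [SMulCommClass G A B] [FaithfulSMul G B]
  (p : Ideal A) [p.IsMaximal] (m : Ideal B) [m.IsMaximal] [m.LiesOver p]
  [Algebra.IsSeparable (A ⧸ p) (B ⧸ m)]

omit [IsDedekindDomain B] [Finite G] [SMulCommClass G A B] [FaithfulSMul G B]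
  [Algebra.IsSeparable (A ⧸ p) (B ⧸ m)] [Group G] [MulSemiringAction G B] in
theorem algebraMap_quot_injective : Function.Injective (algebraMap (A ⧸ p) (B ⧸ m)) := by
  letI := Ideal.Quotient.field p
  exact (algebraMap (A ⧸ p) (B ⧸ m)).injective

omit [SMulCommClass G A B] [Algebra.IsSeparable (A ⧸ p) (B ⧸ m)] in
include p in
theorem isPGroup_P' (q : ℕ) (hq : q.Prime) [CharP (A ⧸ p) q] :
    IsPGroup q ↥(MulAction.stabilizer G m ⊓ (m ^ 2).inertia G) := by
  haveI : Fact q.Prime := ⟨hq⟩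
  haveI : CharP (B ⧸ m) q := charP_of_injective_algebraMap (algebraMap_quot_injective p m) q
  exact isPGroup_P m q

omit [SMulCommClass G A B] [Algebra.IsSeparable (A ⧸ p) (B ⧸ m)] in
include p in
theorem P_eq_bot' [CharZero (A ⧸ p)] :
    MulAction.stabilizer G m ⊓ (m ^ 2).inertia G = ⊥ := by
  haveI : CharZero (B ⧸ m) := charZero_of_injective_algebraMap (algebraMap_quot_injective p m)
  exact P_eq_bot m

theorem tame_structure (hm : m ≠ ⊥) (e : ℕ) (he : Nat.card (m.inertia G) = e)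
    [hN : ((MulAction.stabilizer G m ⊓ (m ^ 2).inertia G).subgroupOf (m.inertia G)).Normal] :
    IsCyclic (m.inertia G ⧸ (MulAction.stabilizer G m ⊓ (m ^ 2).inertia G).subgroupOf (m.inertia G)) ∧
    (∀ q : ℕ, q.Prime → CharP (A ⧸ p) q →
      Nat.card (m.inertia G ⧸ (MulAction.stabilizer G m ⊓ (m ^ 2).inertia G).subgroupOf (m.inertia G))
        = e / q ^ e.factorization q) ∧
    (CharZero (A ⧸ p) →
      Nat.card (m.inertia G ⧸ (MulAction.stabilizer G m ⊓ (m ^ 2).inertia G).subgroupOf (m.inertia G))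
        = e) ∧
    Nonempty ((m.inertia G ⧸ (MulAction.stabilizer G m ⊓ (m ^ 2).inertia G).subgroupOf (m.inertia G))
      ≃* ↥(rootsOfUnity e (B ⧸ m))) := by
  obtain ⟨φ, hφ⟩ := exists_tame_embedding (G := G) p m hm
  obtain ⟨N, hN'⟩ : ∃ N, N = Nat.card (m.inertia G ⧸
    (MulAction.stabilizer G m ⊓ (m ^ 2).inertia G).subgroupOf (m.inertia G)) := ⟨_, rfl⟩
  have hNpos : 0 < N := hN' ▸ Nat.card_pos
  have hcardI : e = N * Nat.card ↥(MulAction.stabilizer G m ⊓ (m ^ 2).inertia G) := by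
    rw [← he, hN', Subgroup.card_eq_card_quotient_mul_card_subgroup
      ((MulAction.stabilizer G m ⊓ (m ^ 2).inertia G).subgroupOf (m.inertia G))]
    congr 1
    exact Nat.card_congr (Subgroup.subgroupOfEquivOfLe (P_le_I m)).toEquiv
  -- the characteristic p case
  have hchar : ∀ q : ℕ, q.Prime → CharP (A ⧸ p) q →
      ∃ a : ℕ, e = N * q ^ a ∧ ¬ q ∣ N ∧ CharP (B ⧸ m) q := by
    intro q hq hchar
    haveI : Fact q.Prime := ⟨hq⟩
    haveI : CharP (B ⧸ m) q := charP_of_injective_algebraMap (algebraMap_quot_injective p m) q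
    obtain ⟨a, ha⟩ := (IsPGroup.iff_card (p := q)).mp (isPGroup_P' (G := G) p m q hq)
    refine ⟨a, by rw [hcardI, ha], ?_, inferInstance⟩
    rw [hN']
    exact not_dvd_card_of_injective φ hφ q
  have hchar0 : CharZero (A ⧸ p) → N = e := by
    intro h0
    rw [hcardI, P_eq_bot' (G := G) p m, Subgroup.card_bot, mul_one]
  rw [← hN']
  refine ⟨isCyclic_of_injective_ringHom φ hφ, ?_, fun h0 => hchar0 h0, ?_⟩
  · intro q hq hcharq
    obtain ⟨a, hea, hqN, -⟩ := hchar q hq hcharq
    have hfac : e.factorization q = a := by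
      rw [hea, Nat.factorization_mul hNpos.ne' (pow_ne_zero _ hq.ne_zero), Finsupp.add_apply,
        Nat.factorization_eq_zero_of_not_dvd hqN, hq.factorization_pow, Finsupp.single_eq_same,
        zero_add]
    rw [hfac, hea, Nat.mul_div_cancel _ (pow_pos hq.pos a)]
  · have he0 : e ≠ 0 := by
      rw [← he]; exact Nat.card_pos.ne'
    haveI : NeZero e := ⟨he0⟩
    have hdvd : N ∣ e := ⟨_, hcardI⟩
    rw [hN'] at hdvd
    refine nonempty_mulEquiv_rootsOfUnity φ hφ e hdvd ?_
    rw [← hN']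
    obtain ⟨q, hq⟩ := CharP.exists (A ⧸ p)
    letI := Ideal.Quotient.field p
    rcases CharP.char_is_prime_or_zero (A ⧸ p) q with hprime | h0
    · obtain ⟨a, hea, hqN, hcharB⟩ := hchar q hprime hq
      haveI : Fact q.Prime := ⟨hprime⟩
      haveI : NeZero N := ⟨hNpos.ne'⟩
      rw [hea]
      exact card_rootsOfUnity_mul_pow_le N a q
    · subst h0
      haveI : CharZero (A ⧸ p) := CharP.charP_to_charZero (A ⧸ p)
      rw [hchar0 inferInstance]
      exact card_rootsOfUnity (B ⧸ m) e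

end final

end RamGrpH8
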