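import Mathlib

set_option autoImplicit false
universe u
open scoped Pointwise

namespace RamGrpH8

attribute [local instance] Ideal.Quotient.field in
/-- `|D| = |I| * f` for a separable residue extension. -/
theorem card_stabilizer_eq {R S G : Type u} [CommRing R] [CommRing S] [Algebra R S] [Group G]
    [MulSemiringAction G S] [IsGaloisGroup G R S] [Finite G]
    (p : Ideal R) [p.IsMaximal] (P : Ideal S) [P.IsMaximal] [P.LiesOver p]
    [Algebra.IsSeparable (R ⧸ p) (S ⧸ P)] :
    Nat.card (MulAction.stabilizer G P) = Nat.card (P.inertia G) * Module.finrank (R ⧸ p) (S ⧸ P) := by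
  haveI : SMulCommClass G R S := IsGaloisGroup.commutes
  haveI : Algebra.IsInvariant R S G := IsGaloisGroup.isInvariant
  haveI : Normal (R ⧸ p) (S ⧸ P) := Ideal.Quotient.normal G p P
  haveI : IsGalois (R ⧸ p) (S ⧸ P) := { }
  haveI : Module.Finite (R ⧸ p) (S ⧸ P) := Ideal.Quotient.finite_of_isInvariant G p P
  have h1 : Subgroup.index _ = _ := Nat.card_congr
    (Ideal.Quotient.stabilizerQuotientInertiaEquiv G p P).toEquiv
  rw [← IsGalois.card_aut_eq_finrank (R ⧸ p) (S ⧸ P), ← h1,
    ← ((P.inertia G).subgroupOf (MulAction.stabilizer G P)).card_mul_index,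
    Nat.card_congr (Subgroup.subgroupOfEquivOfLe (Ideal.inertia_le_stabilizer (M := G) P)).toEquiv,
    AddSubgroup.subgroupOf_inertia]

/-- `|I| = e` in the Galois case with separable residue extension. -/
theorem card_inertia_eq {R S G : Type u} [CommRing R] [CommRing S] [Algebra R S] [Group G]
    [MulSemiringAction G S] [IsGaloisGroup G R S] [Finite G]
    [IsDomain R] [IsDomain S] [Module.Finite R S] [Module.Flat R S]
    (p : Ideal R) [p.IsMaximal] (P : Ideal S) [P.IsMaximal] [P.LiesOver p]
    [Algebra.IsSeparable (R ⧸ p) (S ⧸ P)] :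
    Nat.card (P.inertia G) = P.ramificationIdx R := by
  haveI : SMulCommClass G R S := IsGaloisGroup.commutes
  haveI : Algebra.IsInvariant R S G := IsGaloisGroup.isInvariant
  have h1 := Ideal.ncard_primesOver_mul_ramificationIdxIn_mul_inertiaDegIn p S G
  rw [Ideal.ramificationIdxIn_eq_ramificationIdx p P G, Ideal.inertiaDegIn_eq_inertiaDeg p P G,
    Ideal.inertiaDeg_eq_of_isMaximal p P] at h1
  have h2 : (p.primesOver S).ncard * Nat.card (MulAction.stabilizer G P) = Nat.card G := by
    rw [← Algebra.IsInvariant.orbit_eq_primesOver R S G p P]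
    simpa using Nat.card_congr (MulAction.orbitProdStabilizerEquivGroup G P)
  rw [card_stabilizer_eq p P, ← h1] at h2
  have h3 : (p.primesOver S).ncard ≠ 0 := by
    intro h0
    rw [h0, zero_mul] at h1
    exact (Nat.card_pos (α := G)).ne' h1.symm
  have h4 : Module.finrank (R ⧸ p) (S ⧸ P) ≠ 0 := by
    intro h0
    rw [h0, mul_zero, mul_zero] at h1
    exact (Nat.card_pos (α := G)).ne' h1.symm
  have h5 := Nat.eq_of_mul_eq_mul_left (Nat.pos_of_ne_zero h3) h2
  exact Nat.eq_of_mul_eq_mul_right (Nat.pos_of_ne_zero h4) h5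

end RamGrpH8
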