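import Mathlib

open IsLocalRing

namespace Groth.Agent.Lib.RamPow

universe u

theorem ram_eq {A B : Type u} [CommRing A] [IsDomain A] [IsDiscreteValuationRing A]
    [CommRing B] [IsDomain B] [IsDiscreteValuationRing B] [Algebra A B]
    (π : A) (hπ : Irreducible π) (pB : B) (hpB : Irreducible pB) (u : Bˣ) (e : ℕ)
    (hu : algebraMap A B π = ↑u * pB ^ e) :
    Ideal.ramificationIdx' (maximalIdeal A) (maximalIdeal B) = e := by
  apply Ideal.ramificationIdx'_spec
  · rw [hπ.maximalIdeal_eq, hpB.maximalIdeal_eq, Ideal.map_span, Set.image_singleton,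
      Ideal.span_singleton_pow, Ideal.span_singleton_le_span_singleton, hu]
    exact Dvd.intro_left _ rfl
  · rw [hπ.maximalIdeal_eq, hpB.maximalIdeal_eq, Ideal.map_span, Set.image_singleton,
      Ideal.span_singleton_pow, Ideal.span_singleton_le_span_singleton, hu,
      Units.dvd_mul_left]
    intro hdvd
    rw [pow_succ] at hdvd
    have h2 : pB ^ e * pB ∣ pB ^ e * 1 := by rwa [mul_one]
    have h3 : pB ∣ 1 := (mul_dvd_mul_iff_left (pow_ne_zero e hpB.ne_zero)).mp h2
    exact hpB.not_isUnit (isUnit_of_dvd_one h3)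

theorem main (A B K L : Type u) [CommRing A] [IsDomain A]
    [IsDiscreteValuationRing A] [CommRing B] [IsDomain B] [IsDiscreteValuationRing B]
    [Algebra A B]
    (hinj : Function.Injective (algebraMap A B)) [IsLocalHom (algebraMap A B)]
    [Field K] [Field L] [Algebra A K] [IsFractionRing A K] [Algebra B L] [IsFractionRing B L]
    [Algebra K L] [Algebra A L] [IsScalarTower A K L] [IsScalarTower A B L]
    (p : ℕ) (hp : p.Prime) [CharP K p] [IsPurelyInseparable K L] :
    ∃ k : ℕ, Ideal.ramificationIdx' (IsLocalRing.maximalIdeal A) (IsLocalRing.maximalIdeal B) =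
      p ^ k := by
  haveI : ExpChar K p := ExpChar.prime hp
  obtain ⟨π, hπ⟩ := IsDiscreteValuationRing.exists_irreducible A
  obtain ⟨pB, hpB⟩ := IsDiscreteValuationRing.exists_irreducible B
  have hπB : algebraMap A B π ≠ 0 := fun h => hπ.ne_zero (hinj (h.trans (map_zero _).symm))
  obtain ⟨e, u, hu⟩ := IsDiscreteValuationRing.eq_unit_mul_pow_irreducible hπB hpB
  rw [ram_eq π hπ pB hpB u e hu]
  obtain ⟨n, y, hy⟩ := IsPurelyInseparable.pow_mem K p (algebraMap B L pB)
  obtain ⟨a, s, hs, rfl⟩ := IsFractionRing.div_surjective (A := A) y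
  have hs0 : s ≠ 0 := nonZeroDivisors.ne_zero hs
  have hinjAL : Function.Injective (algebraMap A L) := by
    rw [IsScalarTower.algebraMap_eq A K L]
    exact (algebraMap K L).injective.comp (IsFractionRing.injective A K)
  have hsL : algebraMap A L s ≠ 0 := fun h => hs0 (hinjAL (h.trans (map_zero _).symm))
  have E0 : algebraMap A L a = (algebraMap B L pB) ^ (p ^ n) * algebraMap A L s := by
    rw [← hy, map_div₀, ← IsScalarTower.algebraMap_apply A K L,
      ← IsScalarTower.algebraMap_apply A K L, div_mul_cancel₀ _ hsL]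
  have E1 : algebraMap A B a = pB ^ (p ^ n) * algebraMap A B s := by
    apply IsFractionRing.injective B L
    rw [map_mul, map_pow, ← IsScalarTower.algebraMap_apply A B L,
      ← IsScalarTower.algebraMap_apply A B L]
    exact E0
  have hsB : algebraMap A B s ≠ 0 := fun h => hs0 (hinj (h.trans (map_zero _).symm))
  have ha0 : a ≠ 0 := by
    rintro rfl
    rw [map_zero] at E1
    exact (mul_ne_zero (pow_ne_zero _ hpB.ne_zero) hsB) E1.symm
  obtain ⟨ma, ua, ha⟩ := IsDiscreteValuationRing.eq_unit_mul_pow_irreducible ha0 hπ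
  obtain ⟨ms, us, hs'⟩ := IsDiscreteValuationRing.eq_unit_mul_pow_irreducible hs0 hπ
  obtain ⟨va, hva⟩ := (ua.isUnit.map (algebraMap A B))
  obtain ⟨vs, hvs⟩ := (us.isUnit.map (algebraMap A B))
  have E1' : (va : B) * ((u:B) * pB ^ e) ^ ma =
      pB ^ (p ^ n) * ((vs : B) * ((u:B) * pB ^ e) ^ ms) := by
    rw [hva, hvs, ← hu, ← map_pow, ← map_pow, ← map_mul, ← map_mul, ← ha, ← hs']
    exact E1
  have E2 : ((vs * u ^ ms : Bˣ) : B) * pB ^ (p ^ n + e * ms) =
      ((va * u ^ ma : Bˣ) : B) * pB ^ (e * ma) := by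
    simp only [Units.val_mul, Units.val_pow_eq_pow_val]
    linear_combination (-1 : B) * E1'
  have hpow := IsDiscreteValuationRing.unit_mul_pow_congr_pow hpB hpB _ _ _ _ E2
  have h1 : e ∣ e * ms + p ^ n := by rw [add_comm, hpow]; exact dvd_mul_right e ma
  have h2 : e ∣ p ^ n := (Nat.dvd_add_right (dvd_mul_right e ms)).mp h1
  obtain ⟨k, _, hk⟩ := (Nat.dvd_prime_pow hp).mp h2
  exact ⟨k, hk⟩

end Groth.Agent.Lib.RamPow
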