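import Mathlib
import Groth.Prelude.Def_W4c1limliniiiiRamP1
import Groth.Agent.Lib.RamThree_lead

/-!
# The intersection of three Schubert cycles of pencils is a projective space (helper9)
APPEND-ONLY once landed.
-/

set_option autoImplicit false

namespace Groth.Agent.RamP9

open Polynomial W4c1limliniiii
open Groth.Agent.Lib.RamThree (mem_pair pair_mem finrank_pair L1 L2 exists_candidate forall_fin3)

variable {k : Type*} [Field k]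

/-- polynomials divisible by a given polynomial, as a `k`-subspace -/
noncomputable def divSub (f : k[X]) : Submodule k k[X] :=
  (Ideal.span {f}).restrictScalars k

lemma mem_divSub (f g : k[X]) : g ∈ divSub f ↔ f ∣ g := by
  unfold divSub
  rw [Submodule.restrictScalars_mem, Ideal.mem_span_singleton]

/-- the linear space of normalised pairs -/
noncomputable def LL (d : ℕ) (ρ0 ρ1 ρ2 : k) (a0 a1 a2 : ℕ) : Submodule k (k[X] × k[X]) :=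
  Submodule.comap (LinearMap.fst k k[X] k[X]) (degreeLE k d ⊓ divSub ((X - C ρ0) ^ a0)) ⊓
    Submodule.comap (LinearMap.snd k k[X] k[X]) (degreeLE k d ⊓ divSub ((X - C ρ1) ^ a1)) ⊓
    Submodule.comap (LinearMap.fst k k[X] k[X] + LinearMap.snd k k[X] k[X])
      (divSub ((X - C ρ2) ^ a2))

lemma mem_LL (d : ℕ) (ρ0 ρ1 ρ2 : k) (a0 a1 a2 : ℕ) (v : k[X] × k[X]) :
    v ∈ LL d ρ0 ρ1 ρ2 a0 a1 a2 ↔
      ((v.1.natDegree ≤ d ∧ (X - C ρ0) ^ a0 ∣ v.1) ∧ (v.2.natDegree ≤ d ∧ (X - C ρ1) ^ a1 ∣ v.2)) ∧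
        (X - C ρ2) ^ a2 ∣ v.1 + v.2 := by
  unfold LL
  simp only [Submodule.mem_inf, Submodule.mem_comap, LinearMap.fst_apply, LinearMap.snd_apply,
    LinearMap.add_apply, mem_divSub, mem_degreeLE, natDegree_le_iff_degree_le]

section Main

variable (d : ℕ) (ρ0 ρ1 ρ2 : k) (h01 : ρ0 ≠ ρ1) (h02 : ρ0 ≠ ρ2) (h12 : ρ1 ≠ ρ2)
  (a0 a1 a2 : ℕ) (g01 : d < a0 + a1) (g02 : d < a0 + a2) (g12 : d < a1 + a2)

include h01 h02 h12 g01 g02 g12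

/-- a non-zero normalised pair has non-zero entries with non-zero sum -/
lemma LL_ne (v : k[X] × k[X]) (hv : v ∈ LL d ρ0 ρ1 ρ2 a0 a1 a2) (hv0 : v ≠ 0) :
    v.1 ≠ 0 ∧ v.2 ≠ 0 ∧ v.1 + v.2 ≠ 0 := by
  obtain ⟨⟨⟨hd1, hv1⟩, ⟨hd2, hv2⟩⟩, hv3⟩ := (mem_LL d ρ0 ρ1 ρ2 a0 a1 a2 v).1 hv
  have key1 : v.1 = 0 → v.2 = 0 := by
    intro h
    rw [h, zero_add] at hv3
    exact L1 d ρ1 ρ2 h12 a1 a2 g12 v.2 hd2 hv2 hv3
  have key2 : v.2 = 0 → v.1 = 0 := by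
    intro h
    rw [h, add_zero] at hv3
    exact L1 d ρ0 ρ2 h02 a0 a2 g02 v.1 hd1 hv1 hv3
  have key3 : v.1 + v.2 = 0 → v.2 = 0 := by
    intro h
    have h3 : v.2 = -v.1 := by
      rw [eq_neg_iff_add_eq_zero, add_comm]
      exact h
    have h4 : (X - C ρ0) ^ a0 ∣ v.2 := by
      rw [h3]
      exact (dvd_neg).2 hv1
    exact L1 d ρ0 ρ1 h01 a0 a1 g01 v.2 hd2 h4 hv2
  refine ⟨fun h => hv0 (Prod.ext h (key1 h)), fun h => hv0 (Prod.ext (key2 h) h), fun h => ?_⟩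
  exact hv0 (Prod.ext (key2 (key3 h)) (key3 h))

lemma LL_span (v : k[X] × k[X]) (hv : v ∈ LL d ρ0 ρ1 ρ2 a0 a1 a2) (hv0 : v ≠ 0) :
    Submodule.span k {v.1, v.2} ≤ degreeLE k d ∧
      Module.finrank k (Submodule.span k {v.1, v.2}) = 2 ∧
      (∃ s ∈ Submodule.span k {v.1, v.2}, s ≠ 0 ∧ a0 ≤ rootMultiplicity ρ0 s) ∧
      (∃ s ∈ Submodule.span k {v.1, v.2}, s ≠ 0 ∧ a1 ≤ rootMultiplicity ρ1 s) ∧
      (∃ s ∈ Submodule.span k {v.1, v.2}, s ≠ 0 ∧ a2 ≤ rootMultiplicity ρ2 s) := by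
  obtain ⟨n1, n2, n3⟩ := LL_ne d ρ0 ρ1 ρ2 h01 h02 h12 a0 a1 a2 g01 g02 g12 v hv hv0
  obtain ⟨⟨⟨hd1, hv1⟩, ⟨hd2, hv2⟩⟩, hv3⟩ := (mem_LL d ρ0 ρ1 ρ2 a0 a1 a2 v).1 hv
  have hm1 : v.1 ∈ Submodule.span k {v.1, v.2} := Submodule.subset_span (by simp)
  have hm2 : v.2 ∈ Submodule.span k {v.1, v.2} := Submodule.subset_span (by simp)
  refine ⟨?_, ?_, ⟨v.1, hm1, n1, (le_rootMultiplicity_iff n1).2 hv1⟩,
    ⟨v.2, hm2, n2, (le_rootMultiplicity_iff n2).2 hv2⟩,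
    ⟨v.1 + v.2, Submodule.add_mem _ hm1 hm2, n3, (le_rootMultiplicity_iff n3).2 hv3⟩⟩
  · rw [Submodule.span_le]
    rintro x (rfl | rfl)
    · exact mem_degreeLE.2 (natDegree_le_iff_degree_le.1 hd1)
    · exact mem_degreeLE.2 (natDegree_le_iff_degree_le.1 hd2)
  · rw [Submodule.span_insert]
    refine finrank_pair v.1 v.2 n1 n2 fun α β hαβ => ?_
    exact L1 d ρ0 ρ1 h01 a0 a1 g01 _ ((natDegree_smul_le _ _).trans hd1)
      (by rw [smul_eq_C_mul]; exact hv1.mul_left _)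
      (by rw [hαβ, smul_eq_C_mul]; exact hv2.mul_left _)

lemma LL_surj (V : Submodule k k[X]) (hV : V ≤ degreeLE k d) (h2 : Module.finrank k V = 2)
    (c0 : ∃ s ∈ V, s ≠ 0 ∧ a0 ≤ rootMultiplicity ρ0 s)
    (c1 : ∃ s ∈ V, s ≠ 0 ∧ a1 ≤ rootMultiplicity ρ1 s)
    (c2 : ∃ s ∈ V, s ≠ 0 ∧ a2 ≤ rootMultiplicity ρ2 s) :
    ∃ v ∈ LL d ρ0 ρ1 ρ2 a0 a1 a2, v ≠ 0 ∧ Submodule.span k {v.1, v.2} = V := by
  have conv : ∀ (ρ : k) (a : ℕ), (∃ s ∈ V, s ≠ 0 ∧ a ≤ rootMultiplicity ρ s) →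
      ∃ s ∈ V, s ≠ 0 ∧ (X - C ρ) ^ a ∣ s := by
    rintro ρ a ⟨s, hs, hs0, hle⟩
    exact ⟨s, hs, hs0, (le_rootMultiplicity_iff hs0).1 hle⟩
  obtain ⟨t0, t1, ht0, ht1, n0, n1, dv0, dv1, dv2, hVeq⟩ :=
    L2 d ρ0 ρ1 ρ2 h01 h02 h12 a0 a1 a2 g01 g02 g12 V hV h2 (conv _ _ c0) (conv _ _ c1)
      (conv _ _ c2)
  have hdeg : ∀ s ∈ V, s.natDegree ≤ d := fun s hs =>
    natDegree_le_of_degree_le (mem_degreeLE.1 (hV hs))
  refine ⟨(t0, t1), ?_, ?_, ?_⟩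
  · rw [mem_LL]
    exact ⟨⟨⟨hdeg _ ht0, dv0⟩, ⟨hdeg _ ht1, dv1⟩⟩, dv2⟩
  · intro h
    exact n0 (congrArg Prod.fst h)
  · rw [Submodule.span_insert, hVeq]

lemma LL_fibre (v w : k[X] × k[X]) (hv : v ∈ LL d ρ0 ρ1 ρ2 a0 a1 a2)
    (hw : w ∈ LL d ρ0 ρ1 ρ2 a0 a1 a2) (hv0 : v ≠ 0)
    (h : Submodule.span k {v.1, v.2} = Submodule.span k {w.1, w.2}) : ∃ c : k, w = c • v := by
  obtain ⟨n1, n2, n3⟩ := LL_ne d ρ0 ρ1 ρ2 h01 h02 h12 a0 a1 a2 g01 g02 g12 v hv hv0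
  obtain ⟨⟨⟨hd1, hv1⟩, ⟨hd2, hv2⟩⟩, hv3⟩ := (mem_LL d ρ0 ρ1 ρ2 a0 a1 a2 v).1 hv
  obtain ⟨⟨⟨hd1', hw1⟩, ⟨hd2', hw2⟩⟩, hw3⟩ := (mem_LL d ρ0 ρ1 ρ2 a0 a1 a2 w).1 hw
  have hm1 : w.1 ∈ Submodule.span k {v.1, v.2} := by
    rw [h]
    exact Submodule.subset_span (by simp)
  have hm2 : w.2 ∈ Submodule.span k {v.1, v.2} := by
    rw [h]
    exact Submodule.subset_span (by simp)
  obtain ⟨α, β, h1⟩ := Submodule.mem_span_pair.1 hm1
  obtain ⟨γ, δ, h2⟩ := Submodule.mem_span_pair.1 hm2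
  -- β = 0
  have hβ : β = 0 := by
    have h3 : β • v.2 = w.1 - α • v.1 := by
      rw [← h1]
      ring
    have h4 : (X - C ρ0) ^ a0 ∣ β • v.2 := by
      rw [h3]
      exact dvd_sub hw1 (by rw [smul_eq_C_mul]; exact hv1.mul_left _)
    have h5 : (X - C ρ1) ^ a1 ∣ β • v.2 := by
      rw [smul_eq_C_mul]
      exact hv2.mul_left _
    have h6 := L1 d ρ0 ρ1 h01 a0 a1 g01 _ ((natDegree_smul_le _ _).trans hd2) h4 h5
    exact (smul_eq_zero.1 h6).resolve_right n2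
  have hγ : γ = 0 := by
    have h3 : γ • v.1 = w.2 - δ • v.2 := by
      rw [← h2]
      ring
    have h4 : (X - C ρ1) ^ a1 ∣ γ • v.1 := by
      rw [h3]
      exact dvd_sub hw2 (by rw [smul_eq_C_mul]; exact hv2.mul_left _)
    have h5 : (X - C ρ0) ^ a0 ∣ γ • v.1 := by
      rw [smul_eq_C_mul]
      exact hv1.mul_left _
    have h6 := L1 d ρ0 ρ1 h01 a0 a1 g01 _ ((natDegree_smul_le _ _).trans hd1) h5 h4
    exact (smul_eq_zero.1 h6).resolve_right n1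
  rw [hβ, zero_smul, add_zero] at h1
  rw [hγ, zero_smul, zero_add] at h2
  have hδ : δ = α := by
    have h3 : (δ - α) • v.2 = (w.1 + w.2) - α • (v.1 + v.2) := by
      rw [← h1, ← h2, sub_smul, smul_add]
      ring
    have h4 : (X - C ρ2) ^ a2 ∣ (δ - α) • v.2 := by
      rw [h3]
      exact dvd_sub hw3 (by rw [smul_eq_C_mul]; exact hv3.mul_left _)
    have h5 : (X - C ρ1) ^ a1 ∣ (δ - α) • v.2 := by
      rw [smul_eq_C_mul]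
      exact hv2.mul_left _
    have h6 := L1 d ρ1 ρ2 h12 a1 a2 g12 _ ((natDegree_smul_le _ _).trans hd2) h5 h4
    exact sub_eq_zero.1 ((smul_eq_zero.1 h6).resolve_right n2)
  refine ⟨α, ?_⟩
  apply Prod.ext
  · exact h1.symm
  · rw [← h2, hδ]
    rfl

end Main

/-- The three-point Schubert intersection is a projective space. -/
theorem schubert_three (p d : ℕ) (P : Fin 3 → k) (hP : Function.Injective P)
    (e : Fin 3 → ℕ) (he : Admissible p d e) :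
    ∃ L : Submodule k (k[X] × k[X]), L ≠ ⊥ ∧
      (∀ v ∈ L, v ≠ 0 →
        Submodule.span k {v.1, v.2} ≤ Polynomial.degreeLE k d ∧
          Module.finrank k (Submodule.span k {v.1, v.2}) = 2 ∧
          ∀ i, ∃ s ∈ Submodule.span k {v.1, v.2}, s ≠ 0 ∧
            e i ≤ Polynomial.rootMultiplicity (P i) s) ∧
      (∀ V : Submodule k k[X], V ≤ Polynomial.degreeLE k d → Module.finrank k V = 2 →
        (∀ i, ∃ s ∈ V, s ≠ 0 ∧ e i ≤ Polynomial.rootMultiplicity (P i) s) →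
          ∃ v ∈ L, v ≠ 0 ∧ Submodule.span k {v.1, v.2} = V) ∧
      (∀ v ∈ L, ∀ w ∈ L, v ≠ 0 → w ≠ 0 →
        Submodule.span k {v.1, v.2} = Submodule.span k {w.1, w.2} → ∃ c : k, w = c • v) := by
  have h01 : P 0 ≠ P 1 := hP.ne (by decide)
  have h02 : P 0 ≠ P 2 := hP.ne (by decide)
  have h12 : P 1 ≠ P 2 := hP.ne (by decide)
  have hsum : e 0 + e 1 + e 2 = 2 * d + 1 := by
    have h := he.2
    rw [Fin.sum_univ_three] at h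
    omega
  obtain ⟨b0, l0, -⟩ := he.1 0
  obtain ⟨b1, l1, -⟩ := he.1 1
  obtain ⟨b2, l2, -⟩ := he.1 2
  have g01 : d < e 0 + e 1 := by omega
  have g02 : d < e 0 + e 2 := by omega
  have g12 : d < e 1 + e 2 := by omega
  refine ⟨LL d (P 0) (P 1) (P 2) (e 0) (e 1) (e 2), ?_, ?_, ?_, ?_⟩
  · obtain ⟨t0, t1, n0, n1, n2, dA, dB, dv0, dv1, dv2⟩ :=
      exists_candidate d (P 0) (P 1) (P 2) h01 h02 h12 (e 0) (e 1) (e 2) l0 l1 l2 hsum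
    intro hbot
    have hmem : (t0, t1) ∈ LL d (P 0) (P 1) (P 2) (e 0) (e 1) (e 2) := by
      rw [mem_LL]
      exact ⟨⟨⟨dA, dv0⟩, ⟨dB, dv1⟩⟩, dv2⟩
    rw [hbot, Submodule.mem_bot] at hmem
    exact n0 (congrArg Prod.fst hmem)
  · intro v hv hv0
    obtain ⟨q1, q2, r0, r1, r2⟩ := LL_span d (P 0) (P 1) (P 2) h01 h02 h12 (e 0) (e 1) (e 2)
      g01 g02 g12 v hv hv0
    exact ⟨q1, q2, forall_fin3 r0 r1 r2⟩
  · intro V hV h2 hc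
    exact LL_surj d (P 0) (P 1) (P 2) h01 h02 h12 (e 0) (e 1) (e 2) g01 g02 g12 V hV h2
      (hc 0) (hc 1) (hc 2)
  · intro v hv w hw hv0 _ h
    exact LL_fibre d (P 0) (P 1) (P 2) h01 h02 h12 (e 0) (e 1) (e 2) g01 g02 g12 v w hv hw hv0 h

end Groth.Agent.RamP9
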