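import Mathlib

namespace Groth.Agent.Lib.RankOneAbsH8

/-- Abstract rank-one data: root group maps `P`, `M` from the additive group of a ring `R` to a
group `Γ`, a torus `T` with `I : T →* Γ`, a root `A : T →* Rˣ` and a coroot `V : Rˣ →* T`. -/
structure Data (R Γ T : Type*) [CommRing R] [Group Γ] [Group T] where
  P : R → Γ
  M : R → Γ
  I : T →* Γ
  A : T →* Rˣ
  V : Rˣ →* T
  P_add : ∀ a b, P (a + b) = P a * P b
  M_add : ∀ a b, M (a + b) = M a * M b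
  AV : ∀ z, A (V z) = z ^ 2
  conjP : ∀ t r, I t * P r * (I t)⁻¹ = P ((A t : R) * r)
  conjM : ∀ t r, I t * M r * (I t)⁻¹ = M (((A t)⁻¹ : Rˣ) * r)
  F : ∀ (x y : R) (u : Rˣ), (u : R) = 1 + x * y →
    P x * M y = M (y * ((u⁻¹ : Rˣ) : R)) * I (V u) * P (x * ((u⁻¹ : Rˣ) : R))

namespace Data

variable {R Γ T : Type*} [CommRing R] [Group Γ] [Group T] (D : Data R Γ T)

lemma P_zero : D.P 0 = 1 := by
  have := D.P_add 0 0
  rw [add_zero] at this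
  exact (mul_eq_left (a := D.P 0)).mp this.symm |> fun h => h

lemma M_zero : D.M 0 = 1 := by
  have := D.M_add 0 0
  rw [add_zero] at this
  exact (mul_eq_left (a := D.M 0)).mp this.symm |> fun h => h

lemma P_neg (a : R) : D.P (-a) = (D.P a)⁻¹ := by
  rw [eq_inv_iff_mul_eq_one, ← D.P_add, neg_add_cancel, D.P_zero]

lemma M_neg (a : R) : D.M (-a) = (D.M a)⁻¹ := by
  rw [eq_inv_iff_mul_eq_one, ← D.M_add, neg_add_cancel, D.M_zero]

lemma I_P (t : T) (r : R) : D.I t * D.P r = D.P ((D.A t : R) * r) * D.I t := by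
  rw [← D.conjP t r, inv_mul_cancel_right]

lemma I_M (t : T) (r : R) : D.I t * D.M r = D.M (((D.A t)⁻¹ : Rˣ) * r) * D.I t := by
  rw [← D.conjM t r, inv_mul_cancel_right]

lemma P_I (t : T) (r : R) : D.P r * D.I t = D.I t * D.P (((D.A t)⁻¹ : Rˣ) * r) := by
  rw [D.I_P, ← mul_assoc, Units.mul_inv, one_mul]

lemma M_I (t : T) (r : R) : D.M r * D.I t = D.I t * D.M ((D.A t : R) * r) := by
  rw [D.I_M, ← mul_assoc, Units.inv_mul, one_mul]

/-- The reversed commutation rule. -/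
theorem F_rev (x y : R) (u : Rˣ) (hu : (u : R) = 1 + x * y) :
    D.M y * D.P x = D.P (x * ((u⁻¹ : Rˣ) : R)) * (D.I (D.V u))⁻¹ * D.M (y * ((u⁻¹ : Rˣ) : R)) := by
  have h := D.F (-x) (-y) u (by rw [hu]; ring)
  have h2 := congrArg (·⁻¹) h
  simp only [mul_inv_rev] at h2
  rw [neg_mul, neg_mul, D.P_neg, D.M_neg, D.P_neg, D.M_neg, inv_inv, inv_inv, inv_inv, inv_inv]
    at h2
  rw [h2, mul_assoc]

/-- Product of two elements of the big cell. -/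
theorem bigCell_mul (x y x' y' : R) (t t' : T) (u : Rˣ) (hu : (u : R) = 1 + x * y') :
    (D.M y * D.I t * D.P x) * (D.M y' * D.I t' * D.P x') =
      D.M (y + ((D.A t)⁻¹ : Rˣ) * (y' * ((u⁻¹ : Rˣ) : R))) * D.I (t * D.V u * t') *
        D.P (((D.A t')⁻¹ : Rˣ) * (x * ((u⁻¹ : Rˣ) : R)) + x') := by
  have h1 := D.F x y' u hu
  calc (D.M y * D.I t * D.P x) * (D.M y' * D.I t' * D.P x')
      = D.M y * D.I t * (D.P x * D.M y') * D.I t' * D.P x' := by group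
    _ = D.M y * (D.I t * D.M (y' * ((u⁻¹ : Rˣ) : R))) * D.I (D.V u) *
          (D.P (x * ((u⁻¹ : Rˣ) : R)) * D.I t') * D.P x' := by rw [h1]; group
    _ = D.M y * (D.M (((D.A t)⁻¹ : Rˣ) * (y' * ((u⁻¹ : Rˣ) : R))) * D.I t) * D.I (D.V u) *
          (D.I t' * D.P (((D.A t')⁻¹ : Rˣ) * (x * ((u⁻¹ : Rˣ) : R)))) * D.P x' := by
        rw [D.I_M, D.P_I]
    _ = _ := by
        rw [D.M_add, D.P_add, map_mul, map_mul]
        group

/-- The coroot through the root groups. -/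
theorem coroot_eq (z : Rˣ) :
    D.I (D.V z) = D.M (((z⁻¹ : Rˣ) : R) - 1) * D.P 1 * D.M ((z : R) - 1) *
      D.P (-((z⁻¹ : Rˣ) : R)) := by
  have h1 := D.F 1 ((z : R) - 1) z (by ring)
  have e1 : ((z : R) - 1) * ((z⁻¹ : Rˣ) : R) = 1 - ((z⁻¹ : Rˣ) : R) := by
    rw [sub_mul, Units.mul_inv, one_mul]
  rw [e1, one_mul] at h1
  calc D.I (D.V z) = D.M (((z⁻¹ : Rˣ) : R) - 1) * (D.M (1 - ((z⁻¹ : Rˣ) : R)) * D.I (D.V z) *
        D.P ((z⁻¹ : Rˣ) : R)) * D.P (-((z⁻¹ : Rˣ) : R)) := by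
        rw [D.P_neg, ← neg_sub (((z⁻¹ : Rˣ) : R)) 1, D.M_neg]
        group
    _ = _ := by rw [← h1]; group

/-- The Weyl element `w(x) = p₊(x) p₋(-x⁻¹) p₊(x)`. -/
def w (x : Rˣ) : Γ := D.P x * D.M (-((x⁻¹ : Rˣ) : R)) * D.P x

lemma w_inv (x : Rˣ) : (D.w x)⁻¹ = D.P (-(x : R)) * D.M ((x⁻¹ : Rˣ) : R) * D.P (-(x : R)) := by
  unfold w
  rw [mul_inv_rev, mul_inv_rev, ← D.P_neg, ← D.M_neg, neg_neg, mul_assoc]

theorem w_mul_left (z x : Rˣ) : D.w (z * x) = D.I (D.V z) * D.w x := by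
  have hz : (z : R) * ((z⁻¹ : Rˣ) : R) = 1 := Units.mul_inv z
  have hx : (x : R) * ((x⁻¹ : Rˣ) : R) = 1 := Units.mul_inv x
  have hzx : (((z * x)⁻¹ : Rˣ) : R) = ((x⁻¹ : Rˣ) : R) * ((z⁻¹ : Rˣ) : R) := by
    rw [mul_inv_rev, Units.val_mul]
  have hF := D.F (((z : R) - 1) * x) ((x⁻¹ : Rˣ) : R) z
    (by linear_combination (-((z : R) - 1)) * hx)
  have hAV : ((D.A (D.V z) : Rˣ) : R) = (z : R) ^ 2 := by rw [D.AV]; simp
  have key : D.w (z * x) * (D.w x)⁻¹ = D.I (D.V z) := by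
    rw [D.w_inv]
    unfold w
    rw [hzx, Units.val_mul]
    calc D.P ((z : R) * x) * D.M (-(((x⁻¹ : Rˣ) : R) * ((z⁻¹ : Rˣ) : R))) * D.P ((z : R) * x) *
          (D.P (-(x : R)) * D.M ((x⁻¹ : Rˣ) : R) * D.P (-(x : R)))
        = D.P ((z : R) * x) * D.M (-(((x⁻¹ : Rˣ) : R) * ((z⁻¹ : Rˣ) : R))) *
          (D.P ((z : R) * x + -(x : R)) * D.M ((x⁻¹ : Rˣ) : R)) * D.P (-(x : R)) := by
          rw [D.P_add]; group
      _ = D.P ((z : R) * x) * D.M (-(((x⁻¹ : Rˣ) : R) * ((z⁻¹ : Rˣ) : R))) *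
          (D.M (((x⁻¹ : Rˣ) : R) * ((z⁻¹ : Rˣ) : R)) * D.I (D.V z) *
            D.P (((z : R) - 1) * x * ((z⁻¹ : Rˣ) : R))) * D.P (-(x : R)) := by
          rw [← hF]
          congr 4
          ring
      _ = D.P ((z : R) * x) * D.I (D.V z) *
            D.P (((z : R) - 1) * x * ((z⁻¹ : Rˣ) : R) + -(x : R)) := by
          rw [D.M_neg, D.P_add]; group
      _ = D.P ((z : R) * x) * (D.P (((D.A (D.V z) : Rˣ) : R) *
            (((z : R) - 1) * x * ((z⁻¹ : Rˣ) : R) + -(x : R))) * D.I (D.V z)) := by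
          rw [mul_assoc, D.I_P]
      _ = D.P ((z : R) * x) * (D.P (-((z : R) * x)) * D.I (D.V z)) := by
          congr 3
          rw [hAV]
          linear_combination ((z : R) ^ 2 * x - (z : R) * x) * hz
      _ = D.I (D.V z) := by rw [D.P_neg]; group
  exact (mul_inv_eq_iff_eq_mul.mp key)

theorem w_conj (x : Rˣ) (t : T) : D.w x * D.I t * (D.w x)⁻¹ = (D.I (D.V (D.A t)))⁻¹ * D.I t := by
  have h1 : D.I t * D.w x * (D.I t)⁻¹ = D.w (D.A t * x) := by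
    unfold w
    have e1 : (((D.A t * x)⁻¹ : Rˣ) : R) = ((D.A t)⁻¹ : Rˣ) * ((x⁻¹ : Rˣ) : R) := by
      rw [mul_inv_rev, Units.val_mul, mul_comm]
    rw [e1, Units.val_mul, ← D.conjP, ← mul_neg, ← D.conjM]
    group
  rw [D.w_mul_left] at h1
  have h2 : D.I t * D.w x = D.I (D.V (D.A t)) * D.w x * D.I t := by
    rw [← h1]; group
  calc D.w x * D.I t * (D.w x)⁻¹
      = (D.I (D.V (D.A t)))⁻¹ * (D.I (D.V (D.A t)) * D.w x * D.I t) * (D.w x)⁻¹ := by group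
    _ = (D.I (D.V (D.A t)))⁻¹ * (D.I t * D.w x) * (D.w x)⁻¹ := by rw [h2]
    _ = _ := by group

theorem w_mul_right (z x : Rˣ) : D.w (z * x) = D.w x * (D.I (D.V z))⁻¹ := by
  rw [D.w_mul_left]
  have h := D.w_conj x (D.V z)
  have hAV : D.V (D.A (D.V z)) = D.V z * D.V z := by rw [D.AV, pow_two, map_mul]
  rw [hAV, map_mul] at h
  have h3 : D.w x * D.I (D.V z) = (D.I (D.V z))⁻¹ * D.w x := by
    calc D.w x * D.I (D.V z) = (D.w x * D.I (D.V z) * (D.w x)⁻¹) * D.w x := by group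
      _ = _ := by rw [h]; group
  apply eq_mul_inv_of_mul_eq
  rw [mul_assoc, h3]
  group

lemma w_neg (x : Rˣ) : D.w (-x) = (D.w x)⁻¹ := by
  rw [D.w_inv]
  unfold w
  have e : (((-x)⁻¹ : Rˣ) : R) = -((x⁻¹ : Rˣ) : R) := by
    rw [inv_neg, Units.val_neg]
  rw [e, neg_neg, Units.val_neg]

theorem w_sq (x : Rˣ) : D.w x ^ 2 = D.I (D.V (-1)) := by
  have h1 : (D.w x)⁻¹ = D.w x * (D.I (D.V (-1)))⁻¹ := by
    rw [← D.w_neg]
    have : (-x : Rˣ) = (-1) * x := by simp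
    rw [this, D.w_mul_right]
  rw [pow_two]
  calc D.w x * D.w x = D.w x * (D.w x * (D.I (D.V (-1)))⁻¹) * D.I (D.V (-1)) := by group
    _ = D.w x * (D.w x)⁻¹ * D.I (D.V (-1)) := by rw [← h1]
    _ = D.I (D.V (-1)) := by group

theorem w_mul_w (x y : Rˣ) : D.w x * D.w y = D.I (D.V (-x * y⁻¹)) := by
  have hy : y = (y * x⁻¹) * x := by group
  have h1 : D.w y = D.w x * (D.I (D.V (y * x⁻¹)))⁻¹ := by
    conv_lhs => rw [hy]
    rw [D.w_mul_right]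
  have h2 := D.w_sq x
  rw [pow_two] at h2
  rw [h1, ← mul_assoc, h2, ← map_inv, ← map_inv, ← map_mul, ← map_mul]
  congr 2
  rw [mul_inv_rev, inv_inv]
  simp

end Data

end Groth.Agent.Lib.RankOneAbsH8
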