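import Mathlib
import Groth.Agent.Lib.RedDict_helper8
import Groth.Agent.Lib.RankOneAbs_helper8

namespace Groth.Agent.Lib.RankOneTrH8

open CategoryTheory MonoidalCategory CartesianMonoidalCategory MonObj GrpObj AlgebraicGeometry
  CategoryTheory.Limits
open Red Groth.Agent.Lib.RedDictH8 Groth.Agent.Lib.RankOneAbsH8

universe u

variable {S : Scheme.{u}}

section pts

variable {X : Over S}

noncomputable def gaPt (r : Γ(X.left, ⊤)) : X ⟶ Red.Ga S := (gaFn_surjective r).choose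

lemma gaFn_gaPt (r : Γ(X.left, ⊤)) : Red.gaFn (gaPt (X := X) r) = r :=
  (gaFn_surjective r).choose_spec

lemma gaPt_gaFn (x : X ⟶ Red.Ga S) : gaPt (Red.gaFn x) = x := gaFn_injective (gaFn_gaPt _)

lemma gaPt_add (a b : Γ(X.left, ⊤)) : gaPt (X := X) (a + b) = gaPt a * gaPt b :=
  gaFn_injective (by rw [gaFn_gaPt, gaFn_mul, gaFn_gaPt, gaFn_gaPt])

noncomputable def gmPt (u : Γ(X.left, ⊤)ˣ) : X ⟶ Red.Gm S :=
  (gmFn_surjective (u : Γ(X.left, ⊤)) u.isUnit).choose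

lemma gmFn_gmPt (u : Γ(X.left, ⊤)ˣ) : Red.gmFn (gmPt (X := X) u) = u :=
  (gmFn_surjective (u : Γ(X.left, ⊤)) u.isUnit).choose_spec

noncomputable def gmUnit (z : X ⟶ Red.Gm S) : Γ(X.left, ⊤)ˣ := (isUnit_gmFn z).unit

lemma gmUnit_val (z : X ⟶ Red.Gm S) : ((gmUnit z : Γ(X.left, ⊤)ˣ) : Γ(X.left, ⊤)) = Red.gmFn z :=
  rfl

lemma gmPt_gmUnit (z : X ⟶ Red.Gm S) : gmPt (gmUnit z) = z :=
  gmFn_injective (by rw [gmFn_gmPt, gmUnit_val])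

lemma gmUnit_gmPt (u : Γ(X.left, ⊤)ˣ) : gmUnit (gmPt (X := X) u) = u :=
  Units.ext (by rw [gmUnit_val, gmFn_gmPt])

lemma gmUnit_mul (z w : X ⟶ Red.Gm S) : gmUnit (z * w) = gmUnit z * gmUnit w :=
  Units.ext (by rw [Units.val_mul, gmUnit_val, gmUnit_val, gmUnit_val, gmFn_mul])

lemma gmPt_mul (u v : Γ(X.left, ⊤)ˣ) : gmPt (X := X) (u * v) = gmPt u * gmPt v :=
  gmFn_injective (by rw [gmFn_gmPt, gmFn_mul, gmFn_gmPt, gmFn_gmPt, Units.val_mul])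

end pts

section mk

variable (G T : Over S) [GrpObj G] [GrpObj T] (i : T ⟶ G) [IsMonHom i]
    (α : T ⟶ Red.Gm S) [IsMonHom α] (pp pm : Red.Ga S ⟶ G) [IsMonHom pp] [IsMonHom pm]
    (hpp : ∀ (X : Over S) (t : X ⟶ T) (x : X ⟶ Red.Ga S), ∃ x' : X ⟶ Red.Ga S,
      x' ≫ pp = (t ≫ i) * (x ≫ pp) * (t ≫ i)⁻¹ ∧ Red.gaFn x' = Red.gmFn (t ≫ α) * Red.gaFn x)
    (hpm : ∀ (X : Over S) (t : X ⟶ T) (y : X ⟶ Red.Ga S), ∃ y' : X ⟶ Red.Ga S,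
      y' ≫ pm = (t ≫ i) * (y ≫ pm) * (t ≫ i)⁻¹ ∧ Red.gaFn y' * Red.gmFn (t ≫ α) = Red.gaFn y)
    (av : Red.Gm S ⟶ T) [IsMonHom av] (h2 : av ≫ α = (𝟙 (Red.Gm S)) ^ 2)
    (hF : ∀ (X : Over S) (x y : X ⟶ Red.Ga S), IsUnit (1 + Red.gaFn x * Red.gaFn y) →
      ∃ (x' y' : X ⟶ Red.Ga S) (z : X ⟶ Red.Gm S), Red.gmFn z = 1 + Red.gaFn x * Red.gaFn y ∧
        Red.gaFn x' * Red.gmFn z = Red.gaFn x ∧ Red.gaFn y' * Red.gmFn z = Red.gaFn y ∧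
        (x ≫ pp) * (y ≫ pm) = (y' ≫ pm) * (z ≫ av ≫ i) * (x' ≫ pp))
    (X : Over S)

/-- The abstract rank-one data attached to the points with values in `X`. -/
noncomputable def mkData : Data Γ(X.left, ⊤) (X ⟶ G) (X ⟶ T) where
  P r := gaPt r ≫ pp
  M r := gaPt r ≫ pm
  I := MonoidHom.mk' (fun t => t ≫ i) (fun a b => MonObj.mul_comp a b i)
  A := MonoidHom.mk' (fun t => gmUnit (t ≫ α)) (fun a b =>
    (congrArg gmUnit (MonObj.mul_comp a b α)).trans (gmUnit_mul _ _))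
  V := MonoidHom.mk' (fun u => gmPt u ≫ av) (fun a b => by
    rw [gmPt_mul, MonObj.mul_comp])
  P_add a b := by rw [gaPt_add, MonObj.mul_comp]
  M_add a b := by rw [gaPt_add, MonObj.mul_comp]
  AV z := by
    apply Units.ext
    show Red.gmFn ((gmPt z ≫ av) ≫ α) = _
    rw [Category.assoc, h2, MonObj.comp_pow, Category.comp_id, pow_two, gmFn_mul, gmFn_gmPt]
    simp [pow_two]
  conjP t r := by
    obtain ⟨x', h1, h3⟩ := hpp X t (gaPt r)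
    show (t ≫ i) * (gaPt r ≫ pp) * (t ≫ i)⁻¹ = gaPt _ ≫ pp
    rw [← h1]
    congr 1
    apply gaFn_injective
    rw [h3, gaFn_gaPt, gaFn_gaPt]
    rfl
  conjM t r := by
    obtain ⟨y', h1, h3⟩ := hpm X t (gaPt r)
    show (t ≫ i) * (gaPt r ≫ pm) * (t ≫ i)⁻¹ = gaPt _ ≫ pm
    rw [← h1]
    congr 1
    apply gaFn_injective
    rw [gaFn_gaPt] at h3
    rw [gaFn_gaPt, ← h3]
    show _ = ((gmUnit (t ≫ α))⁻¹ : Γ(X.left, ⊤)ˣ) * (Red.gaFn y' * ((gmUnit (t ≫ α) : Γ(X.left, ⊤)ˣ) : Γ(X.left, ⊤)))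
    rw [mul_comm (Red.gaFn y'), ← _root_.mul_assoc, Units.inv_mul, _root_.one_mul]
  F x y u hu := by
    obtain ⟨x', y', z, hz, hx', hy', h⟩ := hF X (gaPt x) (gaPt y)
      (by rw [gaFn_gaPt, gaFn_gaPt, ← hu]; exact u.isUnit)
    simp only [gaFn_gaPt] at hz hx' hy'
    have hzu : gmUnit z = u := Units.ext (by rw [gmUnit_val, hz, hu])
    show (gaPt x ≫ pp) * (gaPt y ≫ pm) = (gaPt _ ≫ pm) * ((gmPt u ≫ av) ≫ i) * (gaPt _ ≫ pp)
    rw [h, ← hzu, gmPt_gmUnit, Category.assoc]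
    have e1 : y' = gaPt (y * (((gmUnit z)⁻¹ : Γ(X.left, ⊤)ˣ) : Γ(X.left, ⊤))) := by
      apply gaFn_injective
      rw [gaFn_gaPt, ← hy', _root_.mul_assoc, ← gmUnit_val, Units.mul_inv, _root_.mul_one]
    have e2 : x' = gaPt (x * (((gmUnit z)⁻¹ : Γ(X.left, ⊤)ˣ) : Γ(X.left, ⊤))) := by
      apply gaFn_injective
      rw [gaFn_gaPt, ← hx', _root_.mul_assoc, ← gmUnit_val, Units.mul_inv, _root_.mul_one]
    rw [← e1, ← e2]

variable {G T i α pp pm} {hpp} {hpm} {av} {h2} {hF} {X}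

lemma mkData_P_gaFn (x : X ⟶ Red.Ga S) :
    (mkData G T i α pp pm hpp hpm av h2 hF X).P (Red.gaFn x) = x ≫ pp := by
  show gaPt (Red.gaFn x) ≫ pp = _
  rw [gaPt_gaFn]

lemma mkData_M_gaFn (x : X ⟶ Red.Ga S) :
    (mkData G T i α pp pm hpp hpm av h2 hF X).M (Red.gaFn x) = x ≫ pm := by
  show gaPt (Red.gaFn x) ≫ pm = _
  rw [gaPt_gaFn]

lemma mkData_P_of {x : X ⟶ Red.Ga S} {r : Γ(X.left, ⊤)} (h : Red.gaFn x = r) :
    (mkData G T i α pp pm hpp hpm av h2 hF X).P r = x ≫ pp := by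
  rw [← h, mkData_P_gaFn]

lemma mkData_M_of {x : X ⟶ Red.Ga S} {r : Γ(X.left, ⊤)} (h : Red.gaFn x = r) :
    (mkData G T i α pp pm hpp hpm av h2 hF X).M r = x ≫ pm := by
  rw [← h, mkData_M_gaFn]

lemma mkData_I (t : X ⟶ T) :
    (mkData G T i α pp pm hpp hpm av h2 hF X).I t = t ≫ i := rfl

lemma mkData_IV (z : X ⟶ Red.Gm S) :
    (mkData G T i α pp pm hpp hpm av h2 hF X).I
      ((mkData G T i α pp pm hpp hpm av h2 hF X).V (gmUnit z)) = z ≫ av ≫ i := by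
  show (gmPt (gmUnit z) ≫ av) ≫ i = _
  rw [gmPt_gmUnit, Category.assoc]

lemma mkData_V (z : X ⟶ Red.Gm S) :
    (mkData G T i α pp pm hpp hpm av h2 hF X).V (gmUnit z) = z ≫ av := by
  show gmPt (gmUnit z) ≫ av = _
  rw [gmPt_gmUnit]

lemma mkData_A (t : X ⟶ T) :
    (mkData G T i α pp pm hpp hpm av h2 hF X).A t = gmUnit (t ≫ α) := rfl

lemma mul_inv_of_mul_eq {R : Type*} [CommRing R] (a b : R) (u : Rˣ) (h : a * u = b) :
    b * ((u⁻¹ : Rˣ) : R) = a := by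
  rw [← h, _root_.mul_assoc, Units.mul_inv, _root_.mul_one]

end mk

end Groth.Agent.Lib.RankOneTrH8
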