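import Mathlib
import Groth.Agent.Lib.RankOneTr_helper8

namespace Groth.Agent.Lib.RankOneWH8

open CategoryTheory MonoidalCategory CartesianMonoidalCategory MonObj GrpObj AlgebraicGeometry
  CategoryTheory.Limits
open Red Groth.Agent.Lib.RedDictH8 Groth.Agent.Lib.RankOneAbsH8 Groth.Agent.Lib.RankOneTrH8

universe u

/-- The unit with value `a` and inverse `-b` when `b * a = -1`. -/
def unitOf {R : Type*} [CommRing R] (a b : R) (h : b * a = -1) : Rˣ :=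
  ⟨a, -b, by rw [mul_neg, mul_comm, h, neg_neg], by rw [neg_mul, h, neg_neg]⟩

lemma unitOf_val {R : Type*} [CommRing R] (a b : R) (h : b * a = -1) :
    ((unitOf a b h : Rˣ) : R) = a := rfl

lemma unitOf_inv {R : Type*} [CommRing R] (a b : R) (h : b * a = -1) :
    (((unitOf a b h)⁻¹ : Rˣ) : R) = -b := rfl

variable {S : Scheme.{u}}

variable {G T : Over S} [GrpObj G] [GrpObj T] {i : T ⟶ G} [IsMonHom i]
    {α : T ⟶ Red.Gm S} [IsMonHom α] {pp pm : Red.Ga S ⟶ G} [IsMonHom pp] [IsMonHom pm]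
    {hpp : ∀ (X : Over S) (t : X ⟶ T) (x : X ⟶ Red.Ga S), ∃ x' : X ⟶ Red.Ga S,
      x' ≫ pp = (t ≫ i) * (x ≫ pp) * (t ≫ i)⁻¹ ∧ Red.gaFn x' = Red.gmFn (t ≫ α) * Red.gaFn x}
    {hpm : ∀ (X : Over S) (t : X ⟶ T) (y : X ⟶ Red.Ga S), ∃ y' : X ⟶ Red.Ga S,
      y' ≫ pm = (t ≫ i) * (y ≫ pm) * (t ≫ i)⁻¹ ∧ Red.gaFn y' * Red.gmFn (t ≫ α) = Red.gaFn y}
    {av : Red.Gm S ⟶ T} [IsMonHom av] {h2 : av ≫ α = (𝟙 (Red.Gm S)) ^ 2}
    {hF : ∀ (X : Over S) (x y : X ⟶ Red.Ga S), IsUnit (1 + Red.gaFn x * Red.gaFn y) →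
      ∃ (x' y' : X ⟶ Red.Ga S) (z : X ⟶ Red.Gm S), Red.gmFn z = 1 + Red.gaFn x * Red.gaFn y ∧
        Red.gaFn x' * Red.gmFn z = Red.gaFn x ∧ Red.gaFn y' * Red.gmFn z = Red.gaFn y ∧
        (x ≫ pp) * (y ≫ pm) = (y' ≫ pm) * (z ≫ av ≫ i) * (x' ≫ pp)}
    {X : Over S}

lemma mkData_w {x x' : X ⟶ Red.Ga S} (hx : Red.gaFn x' * Red.gaFn x = -1) :
    (mkData G T i α pp pm hpp hpm av h2 hF X).w (unitOf (Red.gaFn x) (Red.gaFn x') hx) =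
      (x ≫ pp) * (x' ≫ pm) * (x ≫ pp) := by
  unfold Data.w
  rw [unitOf_val, unitOf_inv, neg_neg, mkData_P_gaFn, mkData_M_gaFn]

lemma mkData_IVA (t : X ⟶ T) :
    (mkData G T i α pp pm hpp hpm av h2 hF X).I
      ((mkData G T i α pp pm hpp hpm av h2 hF X).V
        ((mkData G T i α pp pm hpp hpm av h2 hF X).A t)) = t ≫ α ≫ av ≫ i := by
  rw [mkData_A, mkData_IV, Category.assoc]

end Groth.Agent.Lib.RankOneWH8
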