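import Mathlib
import Groth.Agent.Lib.RankOneW_helper8

set_option autoImplicit false
set_option linter.unusedVariables false
set_option linter.unusedTactic false
set_option linter.unreachableTactic false
set_option linter.unusedSectionVars false
set_option maxHeartbeats 800000

open CategoryTheory Limits AlgebraicGeometry

universe u

namespace Groth.Agent.Lib.RankOneCoverH4

noncomputable section Cover

/-- the cyclotomic polynomial `X² + X + 1` over `ULift ℤ` -/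
def cycPoly : Polynomial (ULift.{u} ℤ) := Polynomial.X ^ 2 + (Polynomial.X + Polynomial.C 1)

lemma cycPoly_deg :
    Polynomial.degree (Polynomial.X + Polynomial.C (1 : ULift.{u} ℤ)) < ((2 : ℕ) : WithBot ℕ) := by
  rw [Polynomial.degree_X_add_C]
  exact_mod_cast (by norm_num : (1 : ℕ) < 2)

lemma cycPoly_monic : (cycPoly.{u}).Monic := Polynomial.monic_X_pow_add cycPoly_deg

lemma cycPoly_natDegree : (cycPoly.{u}).natDegree = 2 := by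
  unfold cycPoly
  rw [Polynomial.natDegree_add_eq_left_of_natDegree_lt, Polynomial.natDegree_X_pow]
  rw [Polynomial.natDegree_X_pow, Polynomial.natDegree_X_add_C]
  norm_num

abbrev A₀ : Type u := AdjoinRoot cycPoly.{u}

instance instFreeA₀ : Module.Free (ULift.{u} ℤ) A₀.{u} :=
  Module.Free.of_basis (AdjoinRoot.powerBasis' cycPoly_monic.{u}).basis

instance instNontrivialA₀ : Nontrivial A₀.{u} := by
  have hdim : 0 < (AdjoinRoot.powerBasis' cycPoly_monic.{u}).dim := by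
    rw [AdjoinRoot.powerBasis'_dim, cycPoly_natDegree]; norm_num
  exact nontrivial_of_ne _ _ ((AdjoinRoot.powerBasis' cycPoly_monic.{u}).basis.ne_zero ⟨0, hdim⟩)

instance instFFA₀ : Module.FaithfullyFlat (ULift.{u} ℤ) A₀.{u} := inferInstance

lemma eval₂_cyc {B : Type*} [CommRing B] (φ : ULift.{u} ℤ →+* B) (x : B) :
    Polynomial.eval₂ φ x cycPoly.{u} = x ^ 2 + (x + 1) := by
  unfold cycPoly
  simp [Polynomial.eval₂_add, Polynomial.eval₂_pow]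

lemma root_rel : (AdjoinRoot.root cycPoly.{u}) ^ 2 + (AdjoinRoot.root cycPoly.{u} + 1) = 0 := by
  rw [← eval₂_cyc (AdjoinRoot.of cycPoly.{u}) (AdjoinRoot.root cycPoly.{u})]
  exact AdjoinRoot.eval₂_root _

def φ₀ : CommRingCat.of (ULift.{u} ℤ) ⟶ CommRingCat.of A₀.{u} :=
  CommRingCat.ofHom (algebraMap (ULift.{u} ℤ) A₀.{u})

lemma φ₀_ff : (φ₀.{u}).hom.FaithfullyFlat := by
  show (algebraMap (ULift.{u} ℤ) A₀.{u}).FaithfullyFlat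
  rw [RingHom.faithfullyFlat_algebraMap_iff]
  exact instFFA₀

instance instFlatφ₀ : Flat (Spec.map φ₀.{u}) := ((flat_and_surjective_SpecMap_iff _).mpr φ₀_ff).1

instance instSurjφ₀ : Surjective (Spec.map φ₀.{u}) :=
  ((flat_and_surjective_SpecMap_iff _).mpr φ₀_ff).2

variable {S : Scheme.{u}}

/-- the cover of `X` obtained by adjoining a primitive cube root of unity -/
def cov (X : Over S) : Over S :=
  Over.mk (pullback.fst (IsTerminal.from specULiftZIsTerminal X.left) (Spec.map φ₀.{u}) ≫ X.hom)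

def covMap (X : Over S) : cov X ⟶ X :=
  Over.homMk (pullback.fst (IsTerminal.from specULiftZIsTerminal X.left) (Spec.map φ₀.{u})) rfl

instance (X : Over S) : Epi (covMap X) := by
  haveI : Epi (covMap X).left := by
    show Epi (pullback.fst (IsTerminal.from specULiftZIsTerminal X.left) (Spec.map φ₀.{u}))
    exact Flat.epi_of_flat_of_surjective _
  exact Over.epi_of_epi_left _

def covψ (X : Over S) : A₀.{u} →+* Γ((cov X).left, ⊤) :=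
  ((Scheme.ΓSpecIso (CommRingCat.of A₀.{u})).inv ≫
    (pullback.snd (IsTerminal.from specULiftZIsTerminal X.left) (Spec.map φ₀.{u})).appTop).hom

def covω (X : Over S) : Γ((cov X).left, ⊤) := covψ X (AdjoinRoot.root cycPoly.{u})

lemma covω_rel (X : Over S) : covω X ^ 2 + (covω X + 1) = 0 := by
  have h := congrArg (covψ X) root_rel.{u}
  rw [map_add, map_pow, map_add, map_one, map_zero] at h
  exact h

lemma gaFn_comp {X Y : Over S} (f : Y ⟶ X) (x : X ⟶ Red.Ga S) :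
    Red.gaFn (f ≫ x) = f.left.appTop (Red.gaFn x) := by
  unfold Red.gaFn
  rw [Over.comp_left, Category.assoc, Scheme.Hom.comp_appTop]
  rfl

lemma gmFn_comp {X Y : Over S} (f : Y ⟶ X) (x : X ⟶ Red.Gm S) :
    Red.gmFn (f ≫ x) = f.left.appTop (Red.gmFn x) := by
  unfold Red.gmFn
  rw [Over.comp_left, Category.assoc, Scheme.Hom.comp_appTop]
  rfl

end Cover

section Abstract

open Groth.Agent.Lib.RankOneAbsH8

lemma grp_calc {Γ : Type*} [Group Γ] {pa mna my pny g1 iu g2 g3 g4 iv g5 g6 g7 iay g8 : Γ}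
    (F1 : pa * my = g1 * iu * g2) (h1 : mna * g1 = g3) (h2 : g2 * pny = g4)
    (F2 : pa * g3 = g5 * iv * g6) (h3 : g6 * iu = iu * g7) (h4 : g7 * g4 = 1)
    (h5 : iv * iu = iay) (h6 : iay * my = g8 * iay) (h7 : g5 * g8 = 1) :
    pa * mna * pa * (my * pny * my) = iay := by
  calc pa * mna * pa * (my * pny * my)
      = pa * mna * (pa * my) * pny * my := by group
    _ = pa * mna * (g1 * iu * g2) * pny * my := by rw [F1]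
    _ = pa * (mna * g1) * iu * (g2 * pny) * my := by group
    _ = pa * g3 * iu * g4 * my := by rw [h1, h2]
    _ = g5 * iv * g6 * iu * g4 * my := by rw [F2]
    _ = g5 * iv * (g6 * iu) * g4 * my := by group
    _ = g5 * iv * (iu * g7) * g4 * my := by rw [h3]
    _ = g5 * (iv * iu) * (g7 * g4) * my := by group
    _ = g5 * iay * 1 * my := by rw [h5, h4]
    _ = g5 * (iay * my) := by group
    _ = g5 * (g8 * iay) := by rw [h6]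
    _ = (g5 * g8) * iay := by group
    _ = 1 * iay := by rw [h7]
    _ = iay := by group

lemma braid_cube {Γ : Type*} [Group Γ] (w p m : Γ) (h1 : w = p * m * p) (h2 : w = m * p * m)
    (h4 : (w ^ 2) ^ 2 = 1) : w * p * w⁻¹ = m ∧ (w * p) ^ 3 = 1 := by
  have hwp : w * p = m * w := by
    calc w * p = (m * p * m) * p := by rw [← h2]
      _ = m * (p * m * p) := by group
      _ = m * w := by rw [← h1]
  have hwm : w * m = p * w := by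
    calc w * m = (p * m * p) * m := by rw [← h1]
      _ = p * (m * p * m) := by group
      _ = p * w := by rw [← h2]
  refine ⟨?_, ?_⟩
  · rw [hwp]; group
  · calc (w * p) ^ 3 = (w * p) * (w * p) * (w * p) := pow_three' (w * p)
      _ = (m * w) * (m * w) * (m * w) := by rw [hwp]
      _ = m * (w * m) * (w * m) * w := by group
      _ = m * (p * w) * (p * w) * w := by rw [hwm]
      _ = m * p * (w * p) * w * w := by group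
      _ = m * p * (m * w) * w * w := by rw [hwp]
      _ = (m * p * m) * w * w * w := by group
      _ = w * w * w * w := by rw [← h2]
      _ = (w ^ 2) ^ 2 := by simp only [pow_two, mul_assoc]
      _ = 1 := h4

variable {R Γ T : Type*} [CommRing R] [Group Γ] [Group T] (D : Data R Γ T)

/-- the opposite Weyl element `w₋(y) = p₋(y) p₊(-y⁻¹) p₋(y)` -/
def wm (y : Rˣ) : Γ := D.M y * D.P (-((y⁻¹ : Rˣ) : R)) * D.M y

theorem w_mul_wm_of_unit (a y u : Rˣ) (hu : (u : R) = 1 + a * y) :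
    D.w a * wm D y = D.I (D.V (a * y)) := by
  have ha : (a : R) * ((a⁻¹ : Rˣ) : R) = 1 := Units.mul_inv a
  have hy : (y : R) * ((y⁻¹ : Rˣ) : R) = 1 := Units.mul_inv y
  have huu : (u : R) * ((u⁻¹ : Rˣ) : R) = 1 := Units.mul_inv u
  have hv : ((a : R) * y * ((u⁻¹ : Rˣ) : R)) * (((a * y * u⁻¹)⁻¹ : Rˣ) : R) = 1 := by
    have := Units.mul_inv (a * y * u⁻¹)
    rw [Units.val_mul, Units.val_mul] at this
    exact this
  have hvval : ((a * y * u⁻¹ : Rˣ) : R) = (a : R) * y * ((u⁻¹ : Rˣ) : R) := by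
    rw [Units.val_mul, Units.val_mul]
  have hv2 : ((a * y * u⁻¹ : Rˣ) : R) = 1 + (a : R) * (-(((a⁻¹ : Rˣ) : R) * ((u⁻¹ : Rˣ) : R))) := by
    rw [hvval]
    linear_combination huu - ((u⁻¹ : Rˣ) : R) * hu + ((u⁻¹ : Rˣ) : R) * ha
  have F1 := D.F (a : R) (y : R) u hu
  have F2 := D.F (a : R) (-(((a⁻¹ : Rˣ) : R) * ((u⁻¹ : Rˣ) : R))) (a * y * u⁻¹) hv2
  have h1 : D.M (-((a⁻¹ : Rˣ) : R)) * D.M ((y : R) * ((u⁻¹ : Rˣ) : R)) =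
      D.M (-(((a⁻¹ : Rˣ) : R) * ((u⁻¹ : Rˣ) : R))) := by
    rw [← D.M_add]
    congr 1
    linear_combination (-((y : R) * ((u⁻¹ : Rˣ) : R))) * ha -
      (((a⁻¹ : Rˣ) : R) * ((u⁻¹ : Rˣ) : R)) * hu + ((a⁻¹ : Rˣ) : R) * huu
  have h2 : D.P ((a : R) * ((u⁻¹ : Rˣ) : R)) * D.P (-((y⁻¹ : Rˣ) : R)) =
      D.P (-(((u⁻¹ : Rˣ) : R) * ((y⁻¹ : Rˣ) : R))) := by
    rw [← D.P_add]
    congr 1
    linear_combination (-((a : R) * ((u⁻¹ : Rˣ) : R))) * hy -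
      (((y⁻¹ : Rˣ) : R) * ((u⁻¹ : Rˣ) : R)) * hu + ((y⁻¹ : Rˣ) : R) * huu
  have hAVu : (((D.A (D.V u))⁻¹ : Rˣ) : R) = ((u⁻¹ : Rˣ) : R) ^ 2 := by
    rw [D.AV, ← inv_pow, Units.val_pow_eq_pow_val]
  have hAVay : (((D.A (D.V (a * y)))⁻¹ : Rˣ) : R) =
      (((y⁻¹ : Rˣ) : R) * ((a⁻¹ : Rˣ) : R)) ^ 2 := by
    rw [D.AV, ← inv_pow, Units.val_pow_eq_pow_val, mul_inv_rev, Units.val_mul]
  have h3 : D.P ((a : R) * (((a * y * u⁻¹)⁻¹ : Rˣ) : R)) * D.I (D.V u) =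
      D.I (D.V u) * D.P (((u⁻¹ : Rˣ) : R) * ((y⁻¹ : Rˣ) : R)) := by
    rw [D.P_I]
    congr 2
    rw [hAVu]
    linear_combination (-(((u⁻¹ : Rˣ) : R) ^ 2 * (a : R) * (((a * y * u⁻¹)⁻¹ : Rˣ) : R))) * hy +
      (((u⁻¹ : Rˣ) : R) * ((y⁻¹ : Rˣ) : R)) * hv
  have h4 : D.P (((u⁻¹ : Rˣ) : R) * ((y⁻¹ : Rˣ) : R)) *
      D.P (-(((u⁻¹ : Rˣ) : R) * ((y⁻¹ : Rˣ) : R))) = 1 := by
    rw [D.P_neg, mul_inv_cancel]
  have h5 : D.I (D.V (a * y * u⁻¹)) * D.I (D.V u) = D.I (D.V (a * y)) := by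
    rw [← map_mul, ← map_mul, inv_mul_cancel_right]
  have h6 : D.I (D.V (a * y)) * D.M (y : R) =
      D.M (((a⁻¹ : Rˣ) : R) * ((u⁻¹ : Rˣ) : R) * (((a * y * u⁻¹)⁻¹ : Rˣ) : R)) *
        D.I (D.V (a * y)) := by
    rw [D.I_M]
    congr 2
    rw [hAVay]
    linear_combination
      ((a : R) * ((a⁻¹ : Rˣ) : R) ^ 2 * ((u⁻¹ : Rˣ) : R) * (((a * y * u⁻¹)⁻¹ : Rˣ) : R) +
        ((y⁻¹ : Rˣ) : R) * ((a⁻¹ : Rˣ) : R) ^ 2) * hy +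
      (((a⁻¹ : Rˣ) : R) * ((u⁻¹ : Rˣ) : R) * (((a * y * u⁻¹)⁻¹ : Rˣ) : R)) * ha -
      (((y⁻¹ : Rˣ) : R) * ((a⁻¹ : Rˣ) : R) ^ 2) * hv
  have h7 : D.M (-(((a⁻¹ : Rˣ) : R) * ((u⁻¹ : Rˣ) : R)) * (((a * y * u⁻¹)⁻¹ : Rˣ) : R)) *
      D.M (((a⁻¹ : Rˣ) : R) * ((u⁻¹ : Rˣ) : R) * (((a * y * u⁻¹)⁻¹ : Rˣ) : R)) = 1 := by
    rw [← D.M_add]
    have e : -(((a⁻¹ : Rˣ) : R) * ((u⁻¹ : Rˣ) : R)) * (((a * y * u⁻¹)⁻¹ : Rˣ) : R) +
        ((a⁻¹ : Rˣ) : R) * ((u⁻¹ : Rˣ) : R) * (((a * y * u⁻¹)⁻¹ : Rˣ) : R) = 0 := by ring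
    rw [e, D.M_zero]
  show D.P (a : R) * D.M (-((a⁻¹ : Rˣ) : R)) * D.P (a : R) *
      (D.M (y : R) * D.P (-((y⁻¹ : Rˣ) : R)) * D.M (y : R)) = D.I (D.V (a * y))
  exact grp_calc F1 h1 h2 F2 h3 h4 h5 h6 h7

theorem w_mul_wm (x y : Rˣ) (ω : R) (hω : ω ^ 2 + (ω + 1) = 0) :
    D.w x * wm D y = D.I (D.V (x * y)) := by
  obtain ⟨Ω, hΩ⟩ : ∃ Ω : Rˣ, (Ω : R) = ω :=
    ⟨⟨ω, -(1 + ω), by linear_combination (-1 : R) * hω, by linear_combination (-1 : R) * hω⟩, rfl⟩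
  obtain ⟨U, hUv⟩ : ∃ U : Rˣ, (U : R) = 1 + ω :=
    ⟨⟨1 + ω, -ω, by linear_combination (-1 : R) * hω, by linear_combination (-1 : R) * hω⟩, rfl⟩
  have hay : (Ω * y⁻¹) * y = Ω := inv_mul_cancel_right Ω y
  have hU : (U : R) = 1 + ((Ω * y⁻¹ : Rˣ) : R) * (y : R) := by
    rw [← Units.val_mul, hay, hΩ, hUv]
  have hA := w_mul_wm_of_unit D (Ω * y⁻¹) y U hU
  have hx : (x * (Ω * y⁻¹)⁻¹) * (Ω * y⁻¹) = x := inv_mul_cancel_right x (Ω * y⁻¹)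
  have hw : D.w x = D.I (D.V (x * (Ω * y⁻¹)⁻¹)) * D.w (Ω * y⁻¹) := by
    rw [← D.w_mul_left, hx]
  rw [hw, mul_assoc, hA, ← map_mul, ← map_mul]
  congr 2
  group

theorem wm_inv_eq (x : Rˣ) (ω : R) (hω : ω ^ 2 + (ω + 1) = 0) : wm D x⁻¹ = (D.w x)⁻¹ := by
  have h := w_mul_wm D x x⁻¹ ω hω
  rw [mul_inv_cancel, map_one, map_one] at h
  exact eq_inv_of_mul_eq_one_right h

theorem MPM_eq_w_inv (x : Rˣ) (ω : R) (hω : ω ^ 2 + (ω + 1) = 0) :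
    D.M ((x⁻¹ : Rˣ) : R) * D.P (-(x : R)) * D.M ((x⁻¹ : Rˣ) : R) = (D.w x)⁻¹ := by
  have h := wm_inv_eq D x ω hω
  unfold wm at h
  rw [inv_inv] at h
  exact h

theorem w_eq_MPM (x : Rˣ) (ω : R) (hω : ω ^ 2 + (ω + 1) = 0) :
    D.w x = D.M (-((x⁻¹ : Rˣ) : R)) * D.P (x : R) * D.M (-((x⁻¹ : Rˣ) : R)) := by
  have h := MPM_eq_w_inv D (-x) ω hω
  rw [D.w_neg, inv_inv] at h
  have e1 : (((-x)⁻¹ : Rˣ) : R) = -((x⁻¹ : Rˣ) : R) := by rw [inv_neg, Units.val_neg]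
  have e2 : -(((-x : Rˣ)) : R) = (x : R) := by rw [Units.val_neg, neg_neg]
  rw [e1, e2] at h
  exact h.symm

theorem braid_w (x : Rˣ) (ω : R) (hω : ω ^ 2 + (ω + 1) = 0) :
    D.w x * D.P (x : R) * (D.w x)⁻¹ = D.M (-((x⁻¹ : Rˣ) : R)) ∧
      (D.w x * D.P (x : R)) ^ 3 = 1 := by
  have h1 : D.w x = D.P (x : R) * D.M (-((x⁻¹ : Rˣ) : R)) * D.P (x : R) := rfl
  have h2 := w_eq_MPM D x ω hω
  have h4 : (D.w x ^ 2) ^ 2 = 1 := by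
    rw [D.w_sq, ← map_pow, ← map_pow]
    have e : ((-1 : Rˣ)) ^ 2 = 1 := by simp
    rw [e, map_one, map_one]
  exact braid_cube _ _ _ h1 h2 h4

theorem w_mul_MPM (x y : Rˣ) (ω : R) (hω : ω ^ 2 + (ω + 1) = 0) :
    D.w x * (D.M (y : R) * D.P (-((y⁻¹ : Rˣ) : R)) * D.M (y : R)) = D.I (D.V (x * y)) :=
  w_mul_wm D x y ω hω

end Abstract

section Glue

open MonoidalCategory CartesianMonoidalCategory MonObj GrpObj
open Red Groth.Agent.Lib.RedDictH8 Groth.Agent.Lib.RankOneAbsH8 Groth.Agent.Lib.RankOneTrH8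
  Groth.Agent.Lib.RankOneWH8

variable {S : Scheme.{u}}

theorem core8475 (G T : Over S) [GrpObj G] [GrpObj T] (i : T ⟶ G) [IsMonHom i]
    (α : T ⟶ Red.Gm S) [IsMonHom α] (pp pm : Red.Ga S ⟶ G) [IsMonHom pp] [IsMonHom pm]
    (hpp : ∀ (X : Over S) (t : X ⟶ T) (x : X ⟶ Red.Ga S), ∃ x' : X ⟶ Red.Ga S,
      x' ≫ pp = (t ≫ i) * (x ≫ pp) * (t ≫ i)⁻¹ ∧ Red.gaFn x' = Red.gmFn (t ≫ α) * Red.gaFn x)
    (hpm : ∀ (X : Over S) (t : X ⟶ T) (y : X ⟶ Red.Ga S), ∃ y' : X ⟶ Red.Ga S,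
      y' ≫ pm = (t ≫ i) * (y ≫ pm) * (t ≫ i)⁻¹ ∧ Red.gaFn y' * Red.gmFn (t ≫ α) = Red.gaFn y)
    (av : Red.Gm S ⟶ T) [IsMonHom av] (h2 : av ≫ α = (𝟙 (Red.Gm S)) ^ 2)
    (hF : ∀ (X : Over S) (x y : X ⟶ Red.Ga S), IsUnit (1 + Red.gaFn x * Red.gaFn y) →
      ∃ (x' y' : X ⟶ Red.Ga S) (z : X ⟶ Red.Gm S), Red.gmFn z = 1 + Red.gaFn x * Red.gaFn y ∧
        Red.gaFn x' * Red.gmFn z = Red.gaFn x ∧ Red.gaFn y' * Red.gmFn z = Red.gaFn y ∧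
        (x ≫ pp) * (y ≫ pm) = (y' ≫ pm) * (z ≫ av ≫ i) * (x' ≫ pp))
    (Y : Over S) (ω : Γ(Y.left, ⊤)) (hω : ω ^ 2 + (ω + 1) = 0)
    (x x' : Y ⟶ Red.Ga S) (hx : Red.gaFn x' * Red.gaFn x = -1) :
    ((x ≫ pp) * (x' ≫ pm) * (x ≫ pp)) * (x ≫ pp) * ((x ≫ pp) * (x' ≫ pm) * (x ≫ pp))⁻¹ = x' ≫ pm ∧
      (((x ≫ pp) * (x' ≫ pm) * (x ≫ pp)) * (x ≫ pp)) ^ 3 = 1 := by
  classical
  let D := mkData G T i α pp pm hpp hpm av h2 hF Y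
  let ux := unitOf (Red.gaFn x) (Red.gaFn x') hx
  have hw : D.w ux = (x ≫ pp) * (x' ≫ pm) * (x ≫ pp) := mkData_w hx
  have hP : D.P ((ux : Γ(Y.left, ⊤)ˣ) : Γ(Y.left, ⊤)) = x ≫ pp := mkData_P_gaFn x
  have hM : D.M (-(((ux⁻¹ : Γ(Y.left, ⊤)ˣ)) : Γ(Y.left, ⊤))) = x' ≫ pm :=
    mkData_M_of (show Red.gaFn x' = - - Red.gaFn x' from (neg_neg _).symm)
  have key := braid_w D ux ω hω
  rw [hw, hP, hM] at key
  exact key

theorem core8483 (G T : Over S) [GrpObj G] [GrpObj T] (i : T ⟶ G) [IsMonHom i]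
    (α : T ⟶ Red.Gm S) [IsMonHom α] (pp pm : Red.Ga S ⟶ G) [IsMonHom pp] [IsMonHom pm]
    (hpp : ∀ (X : Over S) (t : X ⟶ T) (x : X ⟶ Red.Ga S), ∃ x' : X ⟶ Red.Ga S,
      x' ≫ pp = (t ≫ i) * (x ≫ pp) * (t ≫ i)⁻¹ ∧ Red.gaFn x' = Red.gmFn (t ≫ α) * Red.gaFn x)
    (hpm : ∀ (X : Over S) (t : X ⟶ T) (y : X ⟶ Red.Ga S), ∃ y' : X ⟶ Red.Ga S,
      y' ≫ pm = (t ≫ i) * (y ≫ pm) * (t ≫ i)⁻¹ ∧ Red.gaFn y' * Red.gmFn (t ≫ α) = Red.gaFn y)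
    (av : Red.Gm S ⟶ T) [IsMonHom av] (h2 : av ≫ α = (𝟙 (Red.Gm S)) ^ 2)
    (hF : ∀ (X : Over S) (x y : X ⟶ Red.Ga S), IsUnit (1 + Red.gaFn x * Red.gaFn y) →
      ∃ (x' y' : X ⟶ Red.Ga S) (z : X ⟶ Red.Gm S), Red.gmFn z = 1 + Red.gaFn x * Red.gaFn y ∧
        Red.gaFn x' * Red.gmFn z = Red.gaFn x ∧ Red.gaFn y' * Red.gmFn z = Red.gaFn y ∧
        (x ≫ pp) * (y ≫ pm) = (y' ≫ pm) * (z ≫ av ≫ i) * (x' ≫ pp))
    (Y : Over S) (ω : Γ(Y.left, ⊤)) (hω : ω ^ 2 + (ω + 1) = 0)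
    (x x' nx nx' y y' : Y ⟶ Red.Ga S) (hx : Red.gaFn x' * Red.gaFn x = -1)
    (hnx : Red.gaFn nx = - Red.gaFn x) (hnx' : Red.gaFn nx' = - Red.gaFn x')
    (hy : Red.gaFn y' * Red.gaFn y = -1) (z : Y ⟶ Red.Gm S)
    (hz : Red.gmFn z = Red.gaFn x * Red.gaFn y) :
    (nx' ≫ pm) * (nx ≫ pp) * (nx' ≫ pm) = ((x ≫ pp) * (x' ≫ pm) * (x ≫ pp))⁻¹ ∧
      (nx ≫ pp) * (nx' ≫ pm) * (nx ≫ pp) = ((x ≫ pp) * (x' ≫ pm) * (x ≫ pp))⁻¹ ∧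
      ((x ≫ pp) * (x' ≫ pm) * (x ≫ pp)) * ((y ≫ pm) * (y' ≫ pp) * (y ≫ pm)) = z ≫ av ≫ i := by
  classical
  let D := mkData G T i α pp pm hpp hpm av h2 hF Y
  let ux := unitOf (Red.gaFn x) (Red.gaFn x') hx
  let uy := unitOf (Red.gaFn y) (Red.gaFn y') hy
  have hw : D.w ux = (x ≫ pp) * (x' ≫ pm) * (x ≫ pp) := mkData_w hx
  have hM1 : D.M (((ux⁻¹ : Γ(Y.left, ⊤)ˣ)) : Γ(Y.left, ⊤)) = nx' ≫ pm := mkData_M_of hnx'
  have hP1 : D.P (-((ux : Γ(Y.left, ⊤)ˣ) : Γ(Y.left, ⊤))) = nx ≫ pp := mkData_P_of hnx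
  have hMy : D.M ((uy : Γ(Y.left, ⊤)ˣ) : Γ(Y.left, ⊤)) = y ≫ pm := mkData_M_gaFn y
  have hPy : D.P (-(((uy⁻¹ : Γ(Y.left, ⊤)ˣ)) : Γ(Y.left, ⊤))) = y' ≫ pp :=
    mkData_P_of (show Red.gaFn y' = - - Red.gaFn y' from (neg_neg _).symm)
  have hzu : ux * uy = gmUnit z := by
    apply Units.ext
    show Red.gaFn x * Red.gaFn y = Red.gmFn z
    exact hz.symm
  have k1 := MPM_eq_w_inv D ux ω hω
  have k2 := (D.w_inv ux).symm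
  have k3 := w_mul_MPM D ux uy ω hω
  rw [hM1, hP1, hw] at k1
  rw [hM1, hP1, hw] at k2
  rw [hw, hMy, hPy, hzu, mkData_IV] at k3
  exact ⟨k1, k2, k3⟩

theorem main8475 (G T : Over S) [GrpObj G] [GrpObj T] (i : T ⟶ G) [IsMonHom i]
    (α : T ⟶ Red.Gm S) [IsMonHom α] (pp pm : Red.Ga S ⟶ G) [IsMonHom pp] [IsMonHom pm]
    (hpp : ∀ (X : Over S) (t : X ⟶ T) (x : X ⟶ Red.Ga S), ∃ x' : X ⟶ Red.Ga S,
      x' ≫ pp = (t ≫ i) * (x ≫ pp) * (t ≫ i)⁻¹ ∧ Red.gaFn x' = Red.gmFn (t ≫ α) * Red.gaFn x)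
    (hpm : ∀ (X : Over S) (t : X ⟶ T) (y : X ⟶ Red.Ga S), ∃ y' : X ⟶ Red.Ga S,
      y' ≫ pm = (t ≫ i) * (y ≫ pm) * (t ≫ i)⁻¹ ∧ Red.gaFn y' * Red.gmFn (t ≫ α) = Red.gaFn y)
    (av : Red.Gm S ⟶ T) [IsMonHom av] (h2 : av ≫ α = (𝟙 (Red.Gm S)) ^ 2)
    (hF : ∀ (X : Over S) (x y : X ⟶ Red.Ga S), IsUnit (1 + Red.gaFn x * Red.gaFn y) →
      ∃ (x' y' : X ⟶ Red.Ga S) (z : X ⟶ Red.Gm S), Red.gmFn z = 1 + Red.gaFn x * Red.gaFn y ∧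
        Red.gaFn x' * Red.gmFn z = Red.gaFn x ∧ Red.gaFn y' * Red.gmFn z = Red.gaFn y ∧
        (x ≫ pp) * (y ≫ pm) = (y' ≫ pm) * (z ≫ av ≫ i) * (x' ≫ pp))
    (X : Over S) (x x' : X ⟶ Red.Ga S) (hx : Red.gaFn x' * Red.gaFn x = -1) :
    ((x ≫ pp) * (x' ≫ pm) * (x ≫ pp)) * (x ≫ pp) * ((x ≫ pp) * (x' ≫ pm) * (x ≫ pp))⁻¹ = x' ≫ pm ∧
      (((x ≫ pp) * (x' ≫ pm) * (x ≫ pp)) * (x ≫ pp)) ^ 3 = 1 := by
  have hx' : Red.gaFn (covMap X ≫ x') * Red.gaFn (covMap X ≫ x) = -1 := by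
    rw [gaFn_comp, gaFn_comp, ← map_mul, hx, map_neg, map_one]
  obtain ⟨c1, c2⟩ := core8475 G T i α pp pm hpp hpm av h2 hF (cov X) (covω X) (covω_rel X)
    (covMap X ≫ x) (covMap X ≫ x') hx'
  simp only [Category.assoc] at c1 c2
  constructor
  · apply (cancel_epi (covMap X)).mp
    simp only [MonObj.comp_mul, GrpObj.comp_inv, MonObj.comp_pow, MonObj.comp_one]
    exact c1
  · apply (cancel_epi (covMap X)).mp
    simp only [MonObj.comp_mul, GrpObj.comp_inv, MonObj.comp_pow, MonObj.comp_one]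
    exact c2

theorem main8483 (G T : Over S) [GrpObj G] [GrpObj T] (i : T ⟶ G) [IsMonHom i]
    (α : T ⟶ Red.Gm S) [IsMonHom α] (pp pm : Red.Ga S ⟶ G) [IsMonHom pp] [IsMonHom pm]
    (hpp : ∀ (X : Over S) (t : X ⟶ T) (x : X ⟶ Red.Ga S), ∃ x' : X ⟶ Red.Ga S,
      x' ≫ pp = (t ≫ i) * (x ≫ pp) * (t ≫ i)⁻¹ ∧ Red.gaFn x' = Red.gmFn (t ≫ α) * Red.gaFn x)
    (hpm : ∀ (X : Over S) (t : X ⟶ T) (y : X ⟶ Red.Ga S), ∃ y' : X ⟶ Red.Ga S,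
      y' ≫ pm = (t ≫ i) * (y ≫ pm) * (t ≫ i)⁻¹ ∧ Red.gaFn y' * Red.gmFn (t ≫ α) = Red.gaFn y)
    (av : Red.Gm S ⟶ T) [IsMonHom av] (h2 : av ≫ α = (𝟙 (Red.Gm S)) ^ 2)
    (hF : ∀ (X : Over S) (x y : X ⟶ Red.Ga S), IsUnit (1 + Red.gaFn x * Red.gaFn y) →
      ∃ (x' y' : X ⟶ Red.Ga S) (z : X ⟶ Red.Gm S), Red.gmFn z = 1 + Red.gaFn x * Red.gaFn y ∧
        Red.gaFn x' * Red.gmFn z = Red.gaFn x ∧ Red.gaFn y' * Red.gmFn z = Red.gaFn y ∧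
        (x ≫ pp) * (y ≫ pm) = (y' ≫ pm) * (z ≫ av ≫ i) * (x' ≫ pp))
    (X : Over S) (x x' nx nx' y y' : X ⟶ Red.Ga S) (hx : Red.gaFn x' * Red.gaFn x = -1)
    (hnx : Red.gaFn nx = - Red.gaFn x) (hnx' : Red.gaFn nx' = - Red.gaFn x')
    (hy : Red.gaFn y' * Red.gaFn y = -1) (z : X ⟶ Red.Gm S)
    (hz : Red.gmFn z = Red.gaFn x * Red.gaFn y) :
    (nx' ≫ pm) * (nx ≫ pp) * (nx' ≫ pm) = ((x ≫ pp) * (x' ≫ pm) * (x ≫ pp))⁻¹ ∧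
      (nx ≫ pp) * (nx' ≫ pm) * (nx ≫ pp) = ((x ≫ pp) * (x' ≫ pm) * (x ≫ pp))⁻¹ ∧
      ((x ≫ pp) * (x' ≫ pm) * (x ≫ pp)) * ((y ≫ pm) * (y' ≫ pp) * (y ≫ pm)) = z ≫ av ≫ i := by
  have hx' : Red.gaFn (covMap X ≫ x') * Red.gaFn (covMap X ≫ x) = -1 := by
    rw [gaFn_comp, gaFn_comp, ← map_mul, hx, map_neg, map_one]
  have hy' : Red.gaFn (covMap X ≫ y') * Red.gaFn (covMap X ≫ y) = -1 := by
    rw [gaFn_comp, gaFn_comp, ← map_mul, hy, map_neg, map_one]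
  have hnxc : Red.gaFn (covMap X ≫ nx) = - Red.gaFn (covMap X ≫ x) := by
    rw [gaFn_comp, gaFn_comp, hnx, map_neg]
  have hnxc' : Red.gaFn (covMap X ≫ nx') = - Red.gaFn (covMap X ≫ x') := by
    rw [gaFn_comp, gaFn_comp, hnx', map_neg]
  have hzc : Red.gmFn (covMap X ≫ z) = Red.gaFn (covMap X ≫ x) * Red.gaFn (covMap X ≫ y) := by
    rw [gmFn_comp, gaFn_comp, gaFn_comp, hz, map_mul]
  obtain ⟨c1, c2, c3⟩ := core8483 G T i α pp pm hpp hpm av h2 hF (cov X) (covω X) (covω_rel X)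
    (covMap X ≫ x) (covMap X ≫ x') (covMap X ≫ nx) (covMap X ≫ nx') (covMap X ≫ y)
    (covMap X ≫ y') hx' hnxc hnxc' hy' (covMap X ≫ z) hzc
  simp only [Category.assoc] at c1 c2 c3
  refine ⟨?_, ?_, ?_⟩
  · apply (cancel_epi (covMap X)).mp
    simp only [MonObj.comp_mul, GrpObj.comp_inv, MonObj.comp_pow, MonObj.comp_one]
    exact c1
  · apply (cancel_epi (covMap X)).mp
    simp only [MonObj.comp_mul, GrpObj.comp_inv, MonObj.comp_pow, MonObj.comp_one]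
    exact c2
  · apply (cancel_epi (covMap X)).mp
    simp only [MonObj.comp_mul, GrpObj.comp_inv, MonObj.comp_pow, MonObj.comp_one]
    exact c3

end Glue

end Groth.Agent.Lib.RankOneCoverH4
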