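import Mathlib
import Groth.Prelude
import Groth.Agent.Lib.ReflFree1_helper8
import Groth.Agent.Lib.HomLin6_helper8

/-!
# A rank one reflexive coherent module with factorial local rings is invertible: scheme side (helper4)
APPEND-ONLY once landed.
-/

set_option autoImplicit false
set_option linter.style.haveILetI false
universe u
open CategoryTheory CategoryTheory.Limits AlgebraicGeometry TopologicalSpace Opposite

namespace Groth.Agent.Lib.RankOneInvH4

variable {X : Scheme.{u}}

/-- the stalks of a module which is invertible on `U` are free of rank one at the points of `U` -/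
theorem finrank_stalk_of_restrict_invertible (F : X.Modules) [F.IsQuasicoherent] {U : X.Opens}
    {x : X} (hx : x ∈ U) (h : PicF.IsInvertible (F.restrict U.ι)) :
    Module.Free (X.presheaf.stalk x) (F.presheaf.stalk x) ∧
      Module.finrank (X.presheaf.stalk x) (F.presheaf.stalk x) = 1 := by
  obtain ⟨W', hxW', ⟨α⟩⟩ := h ⟨x, hx⟩
  have α' : (F.restrict U.ι).restrict W'.ι ≅ FlatMod.freeMod (↑W') 1 :=
    α ≪≫ (coproductUniqueIso (fun _ : Fin 1 => Coh.structureModule (W' : Scheme.{u}))).symm
  obtain ⟨O, hO, hxO, -, t, ht⟩ := FLFH8.exists_affine_bases (F.restrict U.ι) hxW' α'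
  obtain ⟨h1, h2⟩ := FLFH8.BasisOn.self (F.restrict U.ι) t (ht O le_rfl)
  obtain ⟨g', h3, h4⟩ := FLFH8.basis_transport F O t h1 h2
  have hOX : IsAffineOpen (U.ι ''ᵁ O) := hO.image_of_isOpenImmersion U.ι
  have hxOX : x ∈ U.ι ''ᵁ O := ⟨⟨x, hx⟩, hxO, rfl⟩
  exact FLFH8.free_stalk_of_basis F hOX hxOX g' h3 h4

/-- reflexive modules over a domain are torsion free -/
theorem eq_zero_of_smul_eq_zero_of_isReflexive {R : Type u} [CommRing R] [IsDomain R] {N : Type u}
    [AddCommGroup N] [Module R N] [Module.IsReflexive R N] (x : R) (hx : x ≠ 0) (n : N)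
    (h : x • n = 0) : n = 0 := by
  apply (Module.evalEquiv R N).injective
  rw [map_zero]
  ext φ
  have h1 : x * φ n = 0 := by rw [← smul_eq_mul, ← map_smul, h, map_zero]
  rcases mul_eq_zero.mp h1 with h2 | h2
  · exact absurd h2 hx
  · simpa using h2

/-- the statement of the algebraic input -/
def AlgInput : Prop :=
  ∀ (R : Type u) [CommRing R] [IsDomain R] [IsNoetherianRing R] [UniqueFactorizationMonoid R]
    (M : Type u) [AddCommGroup M] [Module R M] [Module.Finite R M] [Module.IsReflexive R M]
    (K : Type u) [Field K] [Algebra R K] [IsFractionRing R K]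
    (V : Type u) [AddCommGroup V] [Module K V] [Module R V] [IsScalarTower R K V],
    Module.finrank K V = 1 → ∀ g : M →ₗ[R] V, Function.Injective g → (∃ m : M, m ≠ 0) →
      Nonempty (M ≃ₗ[R] R)

theorem isInvertible_of_algInput [IsIntegral X] [IsLocallyNoetherian X] (halg : AlgInput.{u})
    (hufd : ∀ x : X, UniqueFactorizationMonoid (X.presheaf.stalk x))
    (F : X.Modules) (hF : Coh.IsCoh F) (hrefl : RefHull.IsReflexive F)
    (hrk : RefHull.GenInvertible F) : PicF.IsInvertible F := by
  intro x
  haveI := hF.1
  haveI := hF.2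
  obtain ⟨U, hUd, hUinv⟩ := hrk
  have hηU : genericPoint X ∈ U := by
    obtain ⟨y, hy⟩ := hUd.nonempty
    exact ((genericPoint_spec X).mem_open_set_iff U.isOpen).mpr ⟨y, trivial, hy⟩
  obtain ⟨-, hrank⟩ := finrank_stalk_of_restrict_invertible F hηU hUinv
  have hspec : genericPoint X ⤳ x := (genericPoint_spec X).specializes trivial
  -- stalk reflexive, finite
  haveI : Module.Finite (X.presheaf.stalk x) (F.presheaf.stalk x) := RefHullH8.finite_stalk hF.2 x
  have h01 : RefHull.IsReflexive F → ∀ x : X, RefHull.IsReflexiveAt F x :=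
    ((HomLinH8.isReflexive_tfae F hF).out 0 1).mp
  haveI : Module.IsReflexive (X.presheaf.stalk x) (F.presheaf.stalk x) := h01 hrefl x
  haveI := hufd x
  -- the generic stalk as a vector space over the function field
  letI modK : Module X.functionField (F.presheaf.stalk (genericPoint X)) :=
    inferInstanceAs (Module (X.presheaf.stalk (genericPoint X)) (F.presheaf.stalk (genericPoint X)))
  letI modR : Module (X.presheaf.stalk x) (F.presheaf.stalk (genericPoint X)) :=
    Module.compHom _ (algebraMap (X.presheaf.stalk x) X.functionField)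
  haveI : IsScalarTower (X.presheaf.stalk x) X.functionField (F.presheaf.stalk (genericPoint X)) :=
    IsScalarTower.of_algebraMap_smul (fun _ _ => rfl)
  let g : F.presheaf.stalk x →ₗ[X.presheaf.stalk x] F.presheaf.stalk (genericPoint X) :=
    { toFun := fun z => F.presheaf.stalkSpecializes hspec z
      map_add' := fun a b => map_add _ a b
      map_smul' := fun a z => SecOrdH8.stalkSpecializes_smul F hspec a z }
  have hg : Function.Injective g := by
    rw [injective_iff_map_eq_zero]
    intro a ha
    obtain ⟨s, hs, hsa⟩ := HomLinH8.exists_smul_eq_zero_of_stalkSpecializes F hspec a ha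
    have hs0 : s ≠ 0 := by
      rintro rfl
      rw [map_zero] at hs
      exact not_isUnit_zero hs
    exact eq_zero_of_smul_eq_zero_of_isReflexive s hs0 a hsa
  have hne : ∃ m : F.presheaf.stalk x, m ≠ 0 := by
    by_contra hcon0
    have hcon : ∀ m : F.presheaf.stalk x, m = 0 := fun m => by
      by_contra h
      exact hcon0 ⟨m, h⟩
    -- then the generic stalk is zero, contradicting rank one
    have hz : ∀ z : F.presheaf.stalk (genericPoint X), z = 0 := by
      intro z
      obtain ⟨a, s, hs, hsz⟩ := HomLinH8.exists_smul_eq_stalkSpecializes F hspec z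
      rw [hcon a, map_zero] at hsz
      obtain ⟨v, hv⟩ := hs
      have h2 : (↑v⁻¹ : X.presheaf.stalk (genericPoint X)) • ((v : X.presheaf.stalk (genericPoint X)) • z) = 0 := by
        rw [hv, hsz, smul_zero]
      rw [smul_smul, Units.inv_mul, one_smul] at h2
      exact h2
    haveI : Subsingleton (F.presheaf.stalk (genericPoint X)) :=
      ⟨fun a b => (hz a).trans (hz b).symm⟩
    have h0 : Module.finrank (X.presheaf.stalk (genericPoint X))
        (F.presheaf.stalk (genericPoint X)) = 0 := Module.finrank_zero_of_subsingleton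
    rw [h0] at hrank
    exact zero_ne_one hrank
  obtain ⟨e⟩ := halg (X.presheaf.stalk x) (F.presheaf.stalk x) X.functionField
    (F.presheaf.stalk (genericPoint X)) hrank g hg hne
  -- free stalk of rank one gives a trivialisation near x
  have hfree : Module.Free (X.presheaf.stalk x) (F.presheaf.stalk x) :=
    Module.Free.of_equiv e.symm
  have hfr : Module.finrank (X.presheaf.stalk x) (F.presheaf.stalk x) = 1 := by
    rw [LinearEquiv.finrank_eq e, Module.finrank_self]
  haveI := FLFH8.isFinitePresentation_of_isCoh F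
  obtain ⟨W, n, hxW, ⟨β⟩⟩ := FLFH8.exists_free_nhd F x hfree
  have hn : n = 1 := by
    obtain ⟨W₂, hW₂, hxW₂, -, t, ht⟩ := FLFH8.exists_affine_bases F hxW β
    obtain ⟨h1, h2⟩ := FLFH8.BasisOn.self F t (ht W₂ le_rfl)
    have h3 := (FLFH8.free_stalk_of_basis F hW₂ hxW₂ t h1 h2).2
    exact h3.symm.trans hfr
  subst hn
  exact ⟨W, hxW, ⟨β ≪≫ coproductUniqueIso (fun _ : Fin 1 => Coh.structureModule (W : Scheme.{u}))⟩⟩

end Groth.Agent.Lib.RankOneInvH4
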