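import Mathlib

/-!
# Value sets of modules over a closed subalgebra of `k[[t]]` (S15034) — helper1

Key lemma `pow_dvd_imp_mem`: if `A ⊆ k[[t]]` is a `t`-adically closed `k`-subalgebra over which
`k[[t]]` is finite and `N` is an `A`-submodule of `k[[t]]` containing elements of every order
`≥ c`, then `t^c k[[t]] ⊆ N` (Nakayama over the local ring `A`; no conductor needed).
-/

set_option autoImplicit false
universe u

namespace Groth.Agent.Lib.ValSetH1

open PowerSeries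

variable {k : Type u} [Field k]

lemma inv_mem_of_closed (A : Subalgebra k (PowerSeries k))
    (hcl : ∀ f : PowerSeries k,
      (∀ n : ℕ, ∃ g ∈ A, (n : ℕ∞) ≤ PowerSeries.order (f - g)) → f ∈ A)
    (W : PowerSeries k) (hW : W ∈ A) (h1 : PowerSeries.constantCoeff W = 1) : W⁻¹ ∈ A := by
  apply hcl
  intro n
  refine ⟨∑ i ∈ Finset.range n, (1 - W) ^ i, ?_, ?_⟩
  · exact Subalgebra.sum_mem _ fun i _ =>
      Subalgebra.pow_mem _ (Subalgebra.sub_mem _ (Subalgebra.one_mem _) hW) i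
  · have hgeom : W * ∑ i ∈ Finset.range n, (1 - W) ^ i = 1 - (1 - W) ^ n := by
      have := mul_neg_geom_sum (1 - W) n
      rwa [sub_sub_cancel] at this
    have hWne : PowerSeries.constantCoeff W ≠ 0 := by rw [h1]; exact one_ne_zero
    have hinv : W⁻¹ * W = 1 := PowerSeries.inv_mul_cancel W hWne
    have key : W⁻¹ - ∑ i ∈ Finset.range n, (1 - W) ^ i = W⁻¹ * (1 - W) ^ n := by
      have : ∑ i ∈ Finset.range n, (1 - W) ^ i = W⁻¹ * (1 - (1 - W) ^ n) := by
        rw [← hgeom, ← mul_assoc, hinv, one_mul]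
      rw [this]; ring
    rw [key]
    apply PowerSeries.nat_le_order
    have hX : (PowerSeries.X : PowerSeries k) ∣ 1 - W := by
      rw [PowerSeries.X_dvd_iff, map_sub, map_one, h1, sub_self]
    have hXn : (PowerSeries.X : PowerSeries k) ^ n ∣ W⁻¹ * (1 - W) ^ n :=
      Dvd.dvd.mul_left (pow_dvd_pow_of_dvd hX n) _
    exact PowerSeries.X_pow_dvd_iff.mp hXn

/-- The augmentation ideal of a subalgebra of `k[[t]]`. -/
noncomputable def augIdeal (A : Subalgebra k (PowerSeries k)) : Ideal ↥A :=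
  RingHom.ker ((PowerSeries.constantCoeff (R := k)).comp A.val.toRingHom)

lemma mem_augIdeal (A : Subalgebra k (PowerSeries k)) (a : ↥A) :
    a ∈ augIdeal A ↔ PowerSeries.constantCoeff (a : PowerSeries k) = 0 := by
  rw [augIdeal, RingHom.mem_ker]
  rfl

lemma augIdeal_le_jacobson (A : Subalgebra k (PowerSeries k))
    (hcl : ∀ f : PowerSeries k,
      (∀ n : ℕ, ∃ g ∈ A, (n : ℕ∞) ≤ PowerSeries.order (f - g)) → f ∈ A) :
    augIdeal A ≤ Ideal.jacobson ⊥ := by
  intro x hx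
  rw [Ideal.mem_jacobson_bot]
  intro y
  rw [mem_augIdeal] at hx
  have h1 : PowerSeries.constantCoeff ((x * y + 1 : ↥A) : PowerSeries k) = 1 := by
    simp only [Subalgebra.coe_add, Subalgebra.coe_mul, Subalgebra.coe_one, map_add, map_mul,
      map_one, hx, zero_mul, zero_add]
  have hmem := inv_mem_of_closed A hcl _ (x * y + 1).2 h1
  rw [isUnit_iff_exists_inv]
  refine ⟨⟨_, hmem⟩, ?_⟩
  apply Subtype.ext
  change ((x * y + 1 : ↥A) : PowerSeries k) * ((x * y + 1 : ↥A) : PowerSeries k)⁻¹ = 1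
  exact PowerSeries.mul_inv_cancel _ (by rw [h1]; exact one_ne_zero)

lemma exists_aug_ne_zero (A : Subalgebra k (PowerSeries k))
    (hA : Module.Finite ↥A (PowerSeries k)) :
    ∃ h : PowerSeries k, h ∈ A ∧ h ≠ 0 ∧ PowerSeries.constantCoeff h = 0 := by
  by_contra hno
  push_neg at hno
  have hbot : A = ⊥ := by
    rw [eq_bot_iff]
    intro a ha
    rw [Algebra.mem_bot]
    have hmem : a - algebraMap k (PowerSeries k) (PowerSeries.constantCoeff a) ∈ A :=
      Subalgebra.sub_mem _ ha (Subalgebra.algebraMap_mem _ _)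
    have hc : PowerSeries.constantCoeff
        (a - algebraMap k (PowerSeries k) (PowerSeries.constantCoeff a)) = 0 := by
      rw [map_sub, PowerSeries.algebraMap_apply, Algebra.algebraMap_self_apply,
        PowerSeries.constantCoeff_C, sub_self]
    have := by_contra fun hne => hno _ hmem hne hc
    exact ⟨PowerSeries.constantCoeff a, (sub_eq_zero.mp this).symm⟩
  subst hbot
  haveI : Module.Finite k (PowerSeries k) :=
    Module.Finite.trans (↥(⊥ : Subalgebra k (PowerSeries k))) (PowerSeries k)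
  have hfld : IsField (PowerSeries k) :=
    isField_of_isIntegral_of_isField' (R := k) (S := PowerSeries k) (Field.toIsField k)
  exact PowerSeries.not_isField hfld

lemma approx (A : Subalgebra k (PowerSeries k)) (N : Submodule ↥A (PowerSeries k)) (c : ℕ)
    (hN : ∀ j : ℕ, c ≤ j → ∃ f ∈ N, PowerSeries.order f = j) (d : ℕ) (x : PowerSeries k)
    (hx : (PowerSeries.X : PowerSeries k) ^ c ∣ x) :
    ∃ y ∈ N, (PowerSeries.X : PowerSeries k) ^ (c + d) ∣ x - y := by
  induction d with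
  | zero => exact ⟨0, N.zero_mem, by simpa using hx⟩
  | succ d ih =>
    obtain ⟨y, hy, hdvd⟩ := ih
    obtain ⟨f, hf, hford⟩ := hN (c + d) (Nat.le_add_right c d)
    have hfc : PowerSeries.coeff (c + d) f ≠ 0 ∧ ∀ i, i < c + d → PowerSeries.coeff i f = 0 :=
      PowerSeries.order_eq_nat.mp hford
    obtain ⟨z, hz⟩ : ∃ z, z = x - y := ⟨_, rfl⟩
    obtain ⟨lam, hlam⟩ : ∃ lam : k,
        lam = PowerSeries.coeff (c + d) z / PowerSeries.coeff (c + d) f := ⟨_, rfl⟩
    have hlf : lam • f ∈ N := by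
      have := N.smul_mem (algebraMap k ↥A lam) hf
      rwa [algebraMap_smul] at this
    refine ⟨y + lam • f, N.add_mem hy hlf, ?_⟩
    rw [PowerSeries.X_pow_dvd_iff]
    intro m hm
    have hzm := PowerSeries.X_pow_dvd_iff.mp hdvd
    rw [← hz] at hzm
    have hxy : x - (y + lam • f) = z - lam • f := by rw [hz, sub_add_eq_sub_sub]
    rw [hxy, map_sub, PowerSeries.coeff_smul]
    rcases Nat.lt_succ_iff_lt_or_eq.mp hm with h | h
    · rw [hzm m h, hfc.2 m h, smul_zero, sub_zero]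
    · have h' : m = c + d := h
      subst h'
      rw [hlam, smul_eq_mul, div_mul_cancel₀ _ hfc.1, sub_self]

theorem pow_dvd_imp_mem (A : Subalgebra k (PowerSeries k))
    (hA : Module.Finite ↥A (PowerSeries k))
    (hcl : ∀ f : PowerSeries k,
      (∀ n : ℕ, ∃ g ∈ A, (n : ℕ∞) ≤ PowerSeries.order (f - g)) → f ∈ A)
    (N : Submodule ↥A (PowerSeries k)) (c : ℕ)
    (hN : ∀ j : ℕ, c ≤ j → ∃ f ∈ N, PowerSeries.order f = j) :
    ∀ x : PowerSeries k, (PowerSeries.X : PowerSeries k) ^ c ∣ x → x ∈ N := by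
  obtain ⟨h, hhA, hh0, hhc⟩ := exists_aug_ne_zero A hA
  obtain ⟨e, he⟩ : ∃ e : ℕ, e = h.order.toNat := ⟨_, rfl⟩
  let mulX : PowerSeries k →ₗ[↥A] PowerSeries k :=
    LinearMap.mulLeft ↥A ((PowerSeries.X : PowerSeries k) ^ c)
  obtain ⟨T, hT⟩ : ∃ T : Submodule ↥A (PowerSeries k), T = LinearMap.range mulX := ⟨_, rfl⟩
  have hTmem : ∀ x, x ∈ T ↔ (PowerSeries.X : PowerSeries k) ^ c ∣ x := by
    intro x
    rw [hT, LinearMap.mem_range]
    constructor
    · rintro ⟨y, rfl⟩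
      exact ⟨y, rfl⟩
    · rintro ⟨y, rfl⟩
      exact ⟨y, rfl⟩
  have hTfg : T.FG := by
    rw [hT, LinearMap.range_eq_map]
    exact (Module.Finite.fg_top).map mulX
  have key : T ≤ N ⊔ augIdeal A • T := by
    intro x hx
    obtain ⟨y, hyN, hdvd⟩ := approx A N c hN e x ((hTmem x).mp hx)
    obtain ⟨w, hw⟩ := hdvd
    have hv : IsUnit (PowerSeries.divXPowOrder h) := by
      rw [PowerSeries.isUnit_iff_constantCoeff, isUnit_iff_ne_zero]
      intro h0
      exact hh0 (PowerSeries.constantCoeff_divXPowOrder_eq_zero_iff.mp h0)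
    obtain ⟨v, hv'⟩ := hv
    have hh : h = PowerSeries.X ^ e * (v : PowerSeries k) := by
      rw [hv', he]
      exact PowerSeries.X_pow_order_mul_divXPowOrder.symm
    have hvv : (v : PowerSeries k) * ((v⁻¹ : (PowerSeries k)ˣ) : PowerSeries k) = 1 :=
      Units.mul_inv v
    have hxy : x - y = h * (PowerSeries.X ^ c * (((v⁻¹ : (PowerSeries k)ˣ) : PowerSeries k) * w)) := by
      rw [hw, hh, pow_add]
      calc (PowerSeries.X : PowerSeries k) ^ c * PowerSeries.X ^ e * w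
          = PowerSeries.X ^ c * PowerSeries.X ^ e * (1 * w) := by rw [one_mul]
        _ = PowerSeries.X ^ c * PowerSeries.X ^ e *
              ((v : PowerSeries k) * ((v⁻¹ : (PowerSeries k)ˣ) : PowerSeries k) * w) := by rw [hvv]
        _ = _ := by ring
    have hmem : x - y ∈ augIdeal A • T := by
      rw [hxy]
      have h1 : (⟨h, hhA⟩ : ↥A) ∈ augIdeal A := (mem_augIdeal A _).mpr hhc
      have h2 : PowerSeries.X ^ c * (((v⁻¹ : (PowerSeries k)ˣ) : PowerSeries k) * w) ∈ T :=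
        (hTmem _).mpr ⟨_, rfl⟩
      exact Submodule.smul_mem_smul h1 h2
    have hx' : x = y + (x - y) := by ring
    rw [hx']
    exact Submodule.add_mem_sup hyN hmem
  intro x hx
  exact Submodule.le_of_le_smul_of_le_jacobson_bot hTfg (augIdeal_le_jacobson A hcl) key
    ((hTmem x).mpr hx)

theorem main15034 (A : Subalgebra k (PowerSeries k))
    (hA : Module.Finite ↥A (PowerSeries k))
    (hcl : ∀ f : PowerSeries k,
      (∀ n : ℕ, ∃ g ∈ A, (n : ℕ∞) ≤ PowerSeries.order (f - g)) → f ∈ A)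
    (M N : Submodule ↥A (PowerSeries k)) (hM1 : (1 : PowerSeries k) ∈ M)
    (ΓM ΓN : Set ℕ) (hΓM : ∀ n : ℕ, n ∈ ΓM ↔ ∃ f ∈ M, PowerSeries.order f = n)
    (hΓN : ∀ n : ℕ, n ∈ ΓN ↔ ∃ f ∈ N, PowerSeries.order f = n) :
    (∀ n : ℕ, (∃ u : PowerSeries k, PowerSeries.order u = n ∧ ∀ m ∈ M, u * m ∈ N) →
        ∀ a ∈ ΓM, n + a ∈ ΓN) ∧
      ∀ c' : ℕ, (∀ n : ℕ, c' ≤ n →
          ∃ u : PowerSeries k, PowerSeries.order u = n ∧ ∀ m ∈ M, u * m ∈ N) ↔
        (∀ n : ℕ, c' ≤ n → ∀ a ∈ ΓM, n + a ∈ ΓN) := by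
  have part1 : ∀ n : ℕ, (∃ u : PowerSeries k, PowerSeries.order u = n ∧ ∀ m ∈ M, u * m ∈ N) →
      ∀ a ∈ ΓM, n + a ∈ ΓN := by
    rintro n ⟨u, hu, hmul⟩ a ha
    obtain ⟨f, hf, hfa⟩ := (hΓM a).mp ha
    rw [hΓN]
    refine ⟨u * f, hmul f hf, ?_⟩
    rw [PowerSeries.order_mul, hu, hfa, Nat.cast_add]
  refine ⟨part1, fun c' => ⟨fun h n hn => part1 n (h n hn), fun h n hn => ?_⟩⟩
  have h0 : (0 : ℕ) ∈ ΓM := (hΓM 0).mpr ⟨1, hM1, by simp⟩
  have hN : ∀ j : ℕ, c' ≤ j → ∃ f ∈ N, PowerSeries.order f = j := by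
    intro j hj
    have := h j hj 0 h0
    rw [add_zero] at this
    exact (hΓN j).mp this
  refine ⟨PowerSeries.X ^ n, PowerSeries.order_X_pow n, fun m _ => ?_⟩
  apply pow_dvd_imp_mem A hA hcl N c' hN
  exact Dvd.dvd.mul_right (pow_dvd_pow _ hn) m

end Groth.Agent.Lib.ValSetH1
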