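import Mathlib
import Groth.Agent.Lib.ValSet_helper1

/-!
# Rank-one torsion-free modules over a unibranch curve singularity as lattices in `k[[t]]`
(S15023) — helper1

* `finrank_quot_eq_ncard`: codimension of a `k`-subspace `V ⊇ t^c k[[t]]` is the number of gaps
  of its set of orders.
* `exists_embedding`: a f.g. torsion-free rank-one `A`-module embeds `A`-linearly in `k[[t]]`.
* `exists_normalized`, `exists_lattice`, `main15023`.
-/

set_option autoImplicit false
universe u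

namespace Groth.Agent.Lib.RankOneLatH1

open PowerSeries

variable {k : Type u} [Field k]

lemma exists_nat_order {f : PowerSeries k} (hf : f ≠ 0) :
    ∃ n : ℕ, PowerSeries.order f = (n : ℕ∞) :=
  ⟨f.order.toNat, (PowerSeries.coe_toNat_order hf).symm⟩

lemma approx_k (W : Submodule k (PowerSeries k))
    (hW : ∀ j : ℕ, ∃ f ∈ W, PowerSeries.order f = (j : ℕ∞)) (d : ℕ) (x : PowerSeries k) :
    ∃ y ∈ W, (PowerSeries.X : PowerSeries k) ^ d ∣ x - y := by
  induction d with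
  | zero => exact ⟨0, W.zero_mem, by simp⟩
  | succ d ih =>
    obtain ⟨y, hy, hdvd⟩ := ih
    obtain ⟨f, hf, hford⟩ := hW d
    have hfc : PowerSeries.coeff d f ≠ 0 ∧ ∀ i, i < d → PowerSeries.coeff i f = 0 :=
      PowerSeries.order_eq_nat.mp hford
    obtain ⟨z, hz⟩ : ∃ z, z = x - y := ⟨_, rfl⟩
    obtain ⟨lam, hlam⟩ : ∃ lam : k,
        lam = PowerSeries.coeff d z / PowerSeries.coeff d f := ⟨_, rfl⟩
    refine ⟨y + lam • f, W.add_mem hy (W.smul_mem lam hf), ?_⟩
    rw [PowerSeries.X_pow_dvd_iff]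
    intro m hm
    have hzm := PowerSeries.X_pow_dvd_iff.mp hdvd
    rw [← hz] at hzm
    have hxy : x - (y + lam • f) = z - lam • f := by rw [hz, sub_add_eq_sub_sub]
    rw [hxy, map_sub, PowerSeries.coeff_smul]
    rcases Nat.lt_succ_iff_lt_or_eq.mp hm with h | h
    · rw [hzm m h, hfc.2 m h, smul_zero, sub_zero]
    · have h' : m = d := h
      subst h'
      rw [hlam, smul_eq_mul, div_mul_cancel₀ _ hfc.1, sub_self]

/-- Codimension = number of gaps. -/
theorem finrank_quot_eq_ncard (V : Submodule k (PowerSeries k)) (c : ℕ)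
    (hV : ∀ x : PowerSeries k, (PowerSeries.X : PowerSeries k) ^ c ∣ x → x ∈ V)
    (G : Set ℕ) (hG : ∀ n : ℕ, n ∈ G ↔ ∃ f ∈ V, PowerSeries.order f = (n : ℕ∞)) :
    Module.finrank k (PowerSeries k ⧸ V) = Gᶜ.ncard := by
  classical
  have hGc : ∀ n, c ≤ n → n ∈ G := by
    intro n hn
    rw [hG]
    exact ⟨PowerSeries.X ^ n, hV _ (pow_dvd_pow _ hn), PowerSeries.order_X_pow n⟩
  obtain ⟨s, hs⟩ : ∃ s : Finset ℕ, s = (Finset.range c).filter (fun n => n ∉ G) := ⟨_, rfl⟩
  have hsmem : ∀ n, n ∈ s ↔ n ∉ G := by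
    intro n
    rw [hs, Finset.mem_filter, Finset.mem_range]
    constructor
    · exact fun h => h.2
    · intro h
      refine ⟨?_, h⟩
      by_contra hlt
      exact h (hGc n (not_lt.mp hlt))
  have hsG : (s : Set ℕ) = Gᶜ := by
    ext n
    rw [Finset.mem_coe, Set.mem_compl_iff]
    exact hsmem n
  rw [← hsG, Set.ncard_coe_finset]
  obtain ⟨v, hv⟩ : ∃ v : ↥s → PowerSeries k, v = fun g : ↥s => (PowerSeries.X : PowerSeries k) ^ (g : ℕ) :=
    ⟨_, rfl⟩
  have hcoeff : ∀ (c' : ↥s → k) (i : ℕ),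
      PowerSeries.coeff i (Fintype.linearCombination k v c') =
        if h : i ∈ s then c' ⟨i, h⟩ else 0 := by
    intro c' i
    rw [Fintype.linearCombination_apply, map_sum]
    simp only [hv, PowerSeries.coeff_smul, PowerSeries.coeff_X_pow, smul_eq_mul]
    split_ifs with h
    · rw [Finset.sum_eq_single (⟨i, h⟩ : ↥s)]
      · simp
      · intro b _ hb
        have : i ≠ (b : ℕ) := fun hib => hb (Subtype.ext hib.symm)
        simp [this]
      · intro habs
        exact absurd (Finset.mem_univ _) habs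
    · apply Finset.sum_eq_zero
      intro b _
      have : i ≠ (b : ℕ) := fun hib => h (hib ▸ b.2)
      simp [this]
  obtain ⟨φ, hφ⟩ : ∃ φ : (↥s → k) →ₗ[k] (PowerSeries k ⧸ V),
      ∀ c', φ c' = V.mkQ (Fintype.linearCombination k v c') :=
    ⟨V.mkQ ∘ₗ Fintype.linearCombination k v, fun _ => rfl⟩
  have hinj : Function.Injective φ := by
    rw [← LinearMap.ker_eq_bot, LinearMap.ker_eq_bot']
    intro c' hc'
    have hpV : Fintype.linearCombination k v c' ∈ V := by
      rw [hφ, Submodule.mkQ_apply, Submodule.Quotient.mk_eq_zero] at hc'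
      exact hc'
    have hp0 : Fintype.linearCombination k v c' = 0 := by
      by_contra hne
      have hord := PowerSeries.coe_toNat_order hne
      have hnG : (Fintype.linearCombination k v c').order.toNat ∈ G :=
        (hG _).mpr ⟨_, hpV, hord.symm⟩
      have hcn := PowerSeries.coeff_order hne
      rw [hcoeff] at hcn
      split_ifs at hcn with h
      · exact (hsmem _).mp h hnG
      · exact hcn rfl
    funext g
    have := hcoeff c' (g : ℕ)
    rw [hp0, map_zero, dif_pos g.2] at this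
    exact this.symm
  have hWall : ∀ j : ℕ, ∃ f ∈ V ⊔ LinearMap.range (Fintype.linearCombination k v),
      PowerSeries.order f = (j : ℕ∞) := by
    intro j
    by_cases hj : j ∈ G
    · obtain ⟨f, hf, hfj⟩ := (hG j).mp hj
      exact ⟨f, Submodule.mem_sup_left hf, hfj⟩
    · have hjs : j ∈ s := (hsmem j).mpr hj
      refine ⟨PowerSeries.X ^ j, Submodule.mem_sup_right ?_, PowerSeries.order_X_pow j⟩
      refine LinearMap.mem_range.mpr ⟨Pi.single (⟨j, hjs⟩ : ↥s) 1, ?_⟩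
      rw [Fintype.linearCombination_apply_single, one_smul, hv]
  have hsurj : Function.Surjective φ := by
    intro q
    obtain ⟨x, rfl⟩ := Submodule.mkQ_surjective V q
    obtain ⟨y, hy, hdvd⟩ := approx_k _ hWall c x
    have hxW : x ∈ V ⊔ LinearMap.range (Fintype.linearCombination k v) := by
      have : x = y + (x - y) := by ring
      rw [this]
      exact Submodule.add_mem _ hy (Submodule.mem_sup_left (hV _ hdvd))
    obtain ⟨v', hv', p, hp, hvp⟩ := Submodule.mem_sup.mp hxW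
    obtain ⟨c', hc'⟩ := LinearMap.mem_range.mp hp
    refine ⟨c', ?_⟩
    rw [hφ, hc', ← hvp, map_add]
    have : V.mkQ v' = 0 := by
      rw [Submodule.mkQ_apply, Submodule.Quotient.mk_eq_zero]
      exact hv'
    rw [this, zero_add]
  have e := LinearEquiv.ofBijective φ ⟨hinj, hsurj⟩
  rw [← e.finrank_eq, Module.finrank_fintype_fun_eq_card, Fintype.card_coe]

/-- A numerical semigroup containing two consecutive integers has a conductor. -/
lemma exists_conductor (Γ : Set ℕ) (h0 : 0 ∈ Γ) (hadd : ∀ a ∈ Γ, ∀ b ∈ Γ, a + b ∈ Γ)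
    (n₀ : ℕ) (h1 : n₀ ∈ Γ) (h2 : n₀ + 1 ∈ Γ) : ∃ c, ∀ n, c ≤ n → n ∈ Γ := by
  have hmul : ∀ a ∈ Γ, ∀ m : ℕ, m * a ∈ Γ := by
    intro a ha m
    induction m with
    | zero => rw [Nat.zero_mul]; exact h0
    | succ m ih => rw [Nat.succ_mul]; exact hadd _ ih _ ha
  refine ⟨n₀ * n₀, fun n hn => ?_⟩
  rcases Nat.eq_zero_or_pos n₀ with hz | hpos
  · subst hz
    have := hmul _ h2 n
    rwa [Nat.zero_add, Nat.mul_one] at this
  · obtain ⟨q, hq⟩ : ∃ q, q = n / n₀ := ⟨_, rfl⟩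
    obtain ⟨r, hr⟩ : ∃ r, r = n % n₀ := ⟨_, rfl⟩
    have hdm : n₀ * q + r = n := by rw [hq, hr]; exact Nat.div_add_mod n n₀
    have hrlt : r < n₀ := by rw [hr]; exact Nat.mod_lt _ hpos
    have hqge : n₀ ≤ q := by rw [hq]; exact (Nat.le_div_iff_mul_le hpos).mpr hn
    obtain ⟨p, hp⟩ := Nat.exists_eq_add_of_le (le_trans hrlt.le hqge)
    have hn' : n = p * n₀ + r * (n₀ + 1) := by
      rw [← hdm, hp]; ring
    rw [hn']
    exact hadd _ (hmul _ h1 p) _ (hmul _ h2 r)

/-- multiplication by `t^e` as an `A`-linear endomorphism of `k[[t]]`. -/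
noncomputable def mulX (A : Subalgebra k (PowerSeries k)) (e : ℕ) :
    PowerSeries k →ₗ[↥A] PowerSeries k :=
  LinearMap.mulLeft ↥A ((PowerSeries.X : PowerSeries k) ^ e)

lemma mulX_apply (A : Subalgebra k (PowerSeries k)) (e : ℕ) (x : PowerSeries k) :
    mulX A e x = (PowerSeries.X : PowerSeries k) ^ e * x := rfl

lemma mulX_injective (A : Subalgebra k (PowerSeries k)) (e : ℕ) :
    Function.Injective (mulX A e) := by
  intro x y h
  rw [mulX_apply, mulX_apply] at h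
  exact mul_left_cancel₀ (pow_ne_zero e PowerSeries.X_ne_zero) h

theorem exists_normalized (A : Subalgebra k (PowerSeries k))
    (M₁ : Submodule ↥A (PowerSeries k)) (hne : ∃ f ∈ M₁, f ≠ 0) :
    ∃ P : Submodule ↥A (PowerSeries k), Nonempty (↥M₁ ≃ₗ[↥A] ↥P) ∧
      ∃ u ∈ P, PowerSeries.order u = ((0 : ℕ) : ℕ∞) := by
  classical
  have hex : ∃ n : ℕ, ∃ f ∈ M₁, PowerSeries.order f = (n : ℕ∞) := by
    obtain ⟨f, hf, hf0⟩ := hne
    obtain ⟨n, hn⟩ := exists_nat_order hf0
    exact ⟨n, f, hf, hn⟩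
  obtain ⟨a₀, ha₀⟩ : ∃ a₀, a₀ = Nat.find hex := ⟨_, rfl⟩
  obtain ⟨f₀, hf₀, hord₀⟩ : ∃ f ∈ M₁, PowerSeries.order f = (a₀ : ℕ∞) := by
    rw [ha₀]; exact Nat.find_spec hex
  have hmin : ∀ f ∈ M₁, ∀ n : ℕ, PowerSeries.order f = (n : ℕ∞) → a₀ ≤ n := by
    intro f hf n h
    rw [ha₀]
    exact Nat.find_min' hex ⟨f, hf, h⟩
  have hdiv : ∀ f ∈ M₁, (PowerSeries.X : PowerSeries k) ^ a₀ ∣ f := by
    intro f hf
    by_cases hf0 : f = 0
    · rw [hf0]; exact dvd_zero _
    · obtain ⟨n, hn⟩ := exists_nat_order hf0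
      have h := hmin f hf n hn
      rw [PowerSeries.X_pow_dvd_iff]
      intro m hm
      apply PowerSeries.coeff_of_lt_order
      rw [hn]
      exact_mod_cast lt_of_lt_of_le hm h
  refine ⟨M₁.comap (mulX A a₀), ⟨?_⟩, ?_⟩
  · have hmapeq : (M₁.comap (mulX A a₀)).map (mulX A a₀) = M₁ := by
      apply Submodule.map_comap_eq_self
      intro f hf
      obtain ⟨y, hy⟩ := hdiv f hf
      exact LinearMap.mem_range.mpr ⟨y, by rw [mulX_apply, hy]⟩
    exact ((Submodule.equivMapOfInjective (mulX A a₀) (mulX_injective A a₀) _).trans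
      (LinearEquiv.ofEq _ _ hmapeq)).symm
  · have hf₀ne : f₀ ≠ 0 := by
      intro h
      rw [h, PowerSeries.order_zero] at hord₀
      exact ENat.top_ne_natCast _ hord₀
    have htn : f₀.order.toNat = a₀ := by rw [hord₀, ENat.toNat_natCast]
    refine ⟨PowerSeries.divXPowOrder f₀, ?_, ?_⟩
    · rw [Submodule.mem_comap, mulX_apply, ← htn, PowerSeries.X_pow_order_mul_divXPowOrder]
      exact hf₀
    · apply PowerSeries.order_eq_nat.mpr
      refine ⟨?_, fun i hi => absurd hi (Nat.not_lt_zero i)⟩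
      rw [PowerSeries.coeff_zero_eq_constantCoeff_apply]
      intro h0
      exact hf₀ne (PowerSeries.constantCoeff_divXPowOrder_eq_zero_iff.mp h0)

theorem exists_lattice (A : Subalgebra k (PowerSeries k))
    (hA : Module.Finite ↥A (PowerSeries k))
    (hcl : ∀ f : PowerSeries k,
      (∀ n : ℕ, ∃ g ∈ A, (n : ℕ∞) ≤ PowerSeries.order (f - g)) → f ∈ A)
    (hbir : ∀ f : PowerSeries k, ∃ a ∈ A, a ≠ 0 ∧ a * f ∈ A)
    (Γ : Set ℕ) (hΓ : ∀ n : ℕ, n ∈ Γ ↔ ∃ f ∈ A, PowerSeries.order f = n)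
    (P : Submodule ↥A (PowerSeries k))
    (hu : ∃ u ∈ P, PowerSeries.order u = ((0 : ℕ) : ℕ∞)) :
    ∃ M' : Submodule ↥A (PowerSeries k),
      (Ideal.span {(PowerSeries.X : PowerSeries k) ^ (2 * Γᶜ.ncard)}).restrictScalars ↥A ≤ M' ∧
      Nonempty (↥P ≃ₗ[↥A] ↥M') ∧
      Module.finrank k (PowerSeries k ⧸ M'.restrictScalars k) = Γᶜ.ncard := by
  classical
  have hΓ0 : 0 ∈ Γ := (hΓ 0).mpr ⟨1, A.one_mem, by rw [PowerSeries.order_one, Nat.cast_zero]⟩
  have hΓadd : ∀ a ∈ Γ, ∀ b ∈ Γ, a + b ∈ Γ := by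
    intro a ha b hb
    obtain ⟨f, hf, hfa⟩ := (hΓ a).mp ha
    obtain ⟨g, hg, hgb⟩ := (hΓ b).mp hb
    exact (hΓ _).mpr ⟨f * g, A.mul_mem hf hg,
      by rw [PowerSeries.order_mul, hfa, hgb, Nat.cast_add]⟩
  obtain ⟨cΓ, hcΓ⟩ : ∃ c, ∀ n, c ≤ n → n ∈ Γ := by
    obtain ⟨a, haA, ha0, haX⟩ := hbir PowerSeries.X
    obtain ⟨n₀, hn₀⟩ := exists_nat_order ha0
    have h1 : n₀ ∈ Γ := (hΓ _).mpr ⟨a, haA, hn₀⟩
    have h2 : n₀ + 1 ∈ Γ := (hΓ _).mpr ⟨a * PowerSeries.X, haX,
      by rw [PowerSeries.order_mul, PowerSeries.order_X, hn₀, Nat.cast_add, Nat.cast_one]⟩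
    exact exists_conductor Γ hΓ0 hΓadd n₀ h1 h2
  have hΓfin : (Γᶜ).Finite := by
    apply Set.Finite.subset (Finset.range cΓ).finite_toSet
    intro n hn
    rw [Finset.mem_coe, Finset.mem_range]
    by_contra h
    exact hn (hcΓ n (not_lt.mp h))
  obtain ⟨G, hG⟩ : ∃ G : Set ℕ, ∀ n, n ∈ G ↔ ∃ f ∈ P, PowerSeries.order f = (n : ℕ∞) :=
    ⟨{n | ∃ f ∈ P, PowerSeries.order f = (n : ℕ∞)}, fun n => Iff.rfl⟩
  have hG0 : 0 ∈ G := (hG 0).mpr hu
  have hGΓ : ∀ g ∈ G, ∀ γ ∈ Γ, γ + g ∈ G := by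
    intro g hg γ hγ
    obtain ⟨f, hf, hfg⟩ := (hG g).mp hg
    obtain ⟨a, ha, haγ⟩ := (hΓ γ).mp hγ
    refine (hG _).mpr ⟨a * f, ?_, by rw [PowerSeries.order_mul, haγ, hfg, Nat.cast_add]⟩
    exact P.smul_mem (⟨a, ha⟩ : ↥A) hf
  have hΓG : Γ ⊆ G := by
    intro γ hγ
    have := hGΓ 0 hG0 γ hγ
    rwa [add_zero] at this
  have hGcΓ : Gᶜ ⊆ Γᶜ := Set.compl_subset_compl.mpr hΓG
  have hGfin : (Gᶜ).Finite := hΓfin.subset hGcΓ
  have hdle : Gᶜ.ncard ≤ Γᶜ.ncard := Set.ncard_le_ncard hGcΓ hΓfin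
  have hexc : ∃ c, ∀ n, c ≤ n → n ∈ G := ⟨cΓ, fun n hn => hΓG (hcΓ n hn)⟩
  obtain ⟨cM, hcM⟩ : ∃ cM, cM = Nat.find hexc := ⟨_, rfl⟩
  have hcM1 : ∀ n, cM ≤ n → n ∈ G := by
    rw [hcM]; exact Nat.find_spec hexc
  have hcM2 : 0 < cM → cM - 1 ∉ G := by
    intro hpos hmem
    have hlt : cM - 1 < Nat.find hexc := by rw [← hcM]; omega
    apply Nat.find_min hexc hlt
    intro n hn
    rcases Nat.eq_or_lt_of_le hn with h | h
    · rw [← h]; exact hmem
    · exact hcM1 n (by omega)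
  have hbound : cM ≤ Γᶜ.ncard + Gᶜ.ncard := by
    obtain ⟨S₁, hS₁⟩ : ∃ S₁ : Finset ℕ, S₁ = (Finset.range cM).filter (fun n => n ∈ Γ) :=
      ⟨_, rfl⟩
    obtain ⟨S₂, hS₂⟩ : ∃ S₂ : Finset ℕ, S₂ = (Finset.range cM).filter (fun n => ¬ n ∈ Γ) :=
      ⟨_, rfl⟩
    have hcard : S₁.card + S₂.card = cM := by
      have := Finset.card_filter_add_card_filter_not (s := Finset.range cM) (fun n => n ∈ Γ)
      rw [Finset.card_range] at this
      rw [hS₁, hS₂]
      exact this
    have h2 : S₂.card ≤ Γᶜ.ncard := by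
      rw [← Set.ncard_coe_finset S₂]
      apply Set.ncard_le_ncard _ hΓfin
      intro n hn
      rw [Finset.mem_coe, hS₂, Finset.mem_filter] at hn
      exact hn.2
    have h1 : S₁.card ≤ Gᶜ.ncard := by
      have hinj : Set.InjOn (fun s => cM - 1 - s) (S₁ : Set ℕ) := by
        intro x hx y hy hxy
        rw [Finset.mem_coe, hS₁, Finset.mem_filter, Finset.mem_range] at hx hy
        have hxy' : cM - 1 - x = cM - 1 - y := hxy
        omega
      rw [← Finset.card_image_of_injOn hinj, ← Set.ncard_coe_finset]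
      apply Set.ncard_le_ncard _ hGfin
      intro n hn
      obtain ⟨s, hs, hsn⟩ := Finset.mem_image.mp (Finset.mem_coe.mp hn)
      rw [hS₁, Finset.mem_filter, Finset.mem_range] at hs
      intro hmem
      apply hcM2 (by omega)
      have hmem' : cM - 1 - s ∈ G := by rw [hsn]; exact hmem
      have := hGΓ _ hmem' s hs.2
      have heq : s + (cM - 1 - s) = cM - 1 := by omega
      rwa [heq] at this
    omega
  obtain ⟨δ, hδ⟩ : ∃ δ, δ = Γᶜ.ncard := ⟨_, rfl⟩
  obtain ⟨d, hd⟩ : ∃ d, d = Gᶜ.ncard := ⟨_, rfl⟩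
  rw [← hδ, ← hd] at hbound hdle
  rw [← hδ]
  obtain ⟨e, he⟩ : ∃ e, e = δ - d := ⟨_, rfl⟩
  have hmem : ∀ x : PowerSeries k, (PowerSeries.X : PowerSeries k) ^ (2 * δ) ∣ x →
      x ∈ P.map (mulX A e) := by
    intro x hx
    obtain ⟨y, hy⟩ := hx
    rw [Submodule.mem_map]
    refine ⟨PowerSeries.X ^ (δ + d) * y, ?_, ?_⟩
    · apply ValSetH1.pow_dvd_imp_mem A hA hcl P cM (fun j hj => (hG j).mp (hcM1 j hj))
      exact Dvd.dvd.mul_right (pow_dvd_pow _ hbound) y
    · rw [mulX_apply, hy, ← mul_assoc, ← pow_add]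
      have : e + (δ + d) = 2 * δ := by omega
      rw [this]
  refine ⟨P.map (mulX A e), ?_,
    ⟨Submodule.equivMapOfInjective (mulX A e) (mulX_injective A e) P⟩, ?_⟩
  · intro x hx
    rw [Submodule.restrictScalars_mem, Ideal.mem_span_singleton] at hx
    exact hmem x hx
  · rw [finrank_quot_eq_ncard ((P.map (mulX A e)).restrictScalars k) (2 * δ)
      (fun x hx => (Submodule.restrictScalars_mem _ _ _).mpr (hmem x hx))
      {n | ∃ f ∈ (P.map (mulX A e)).restrictScalars k, PowerSeries.order f = (n : ℕ∞)}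
      (fun n => Iff.rfl)]
    have hGe : ∀ n : ℕ, (∃ f ∈ (P.map (mulX A e)).restrictScalars k,
        PowerSeries.order f = (n : ℕ∞)) ↔ ∃ g ∈ G, n = e + g := by
      intro n
      constructor
      · rintro ⟨f, hf, hfn⟩
        rw [Submodule.restrictScalars_mem, Submodule.mem_map] at hf
        obtain ⟨p, hp, rfl⟩ := hf
        rw [mulX_apply, PowerSeries.order_mul, PowerSeries.order_X_pow] at hfn
        have hp0 : p ≠ 0 := by
          intro h
          rw [h, PowerSeries.order_zero, add_top] at hfn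
          exact ENat.top_ne_natCast _ hfn
        obtain ⟨g, hg⟩ := exists_nat_order hp0
        refine ⟨g, (hG g).mpr ⟨p, hp, hg⟩, ?_⟩
        rw [hg] at hfn
        exact_mod_cast hfn.symm
      · rintro ⟨g, hg, rfl⟩
        obtain ⟨p, hp, hpg⟩ := (hG g).mp hg
        exact ⟨PowerSeries.X ^ e * p,
          (Submodule.restrictScalars_mem _ _ _).mpr (Submodule.mem_map.mpr ⟨p, hp, rfl⟩),
          by rw [PowerSeries.order_mul, PowerSeries.order_X_pow, hpg, Nat.cast_add]⟩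
    have hset : {n : ℕ | ∃ f ∈ (P.map (mulX A e)).restrictScalars k,
        PowerSeries.order f = (n : ℕ∞)}ᶜ =
        ((Finset.range e : Finset ℕ) : Set ℕ) ∪ (fun g => e + g) '' Gᶜ := by
      ext n
      rw [Set.mem_compl_iff, Set.mem_setOf_eq, hGe, Set.mem_union, Finset.mem_coe,
        Finset.mem_range, Set.mem_image]
      constructor
      · intro hn
        by_cases hlt : n < e
        · exact Or.inl hlt
        · refine Or.inr ⟨n - e, ?_, by omega⟩
          intro hg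
          exact hn ⟨n - e, hg, by omega⟩
      · rintro (hlt | ⟨g', hg', hg'n⟩) ⟨g, hg, hng⟩
        · omega
        · have : g' = g := by omega
          exact hg' (this ▸ hg)
    have hdisj : Disjoint ((Finset.range e : Finset ℕ) : Set ℕ) ((fun g => e + g) '' Gᶜ) := by
      rw [Set.disjoint_left]
      rintro n h1 ⟨g, _, hgn⟩
      rw [Finset.mem_coe, Finset.mem_range] at h1
      have hgn' : e + g = n := hgn
      omega
    rw [hset, Set.ncard_union_eq hdisj (Finset.finite_toSet _) (hGfin.image _),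
      Set.ncard_coe_finset, Finset.card_range,
      Set.ncard_image_of_injective _ (add_right_injective e), ← hd]
    omega

theorem exists_embedding_gen (R : Type u) [CommRing R] [IsDomain R] (M : Type u)
    [AddCommGroup M] [Module R M] [Module.Finite R M] [NoZeroSMulDivisors R M]
    (hrk : Module.finrank (FractionRing R) (TensorProduct R (FractionRing R) M) = 1) :
    ∃ θ : M →ₗ[R] R, Function.Injective θ ∧ ∃ m, θ m ≠ 0 := by
  classical
  haveI : Module.Finite (FractionRing R) (TensorProduct R (FractionRing R) M) :=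
    Module.finite_of_finrank_pos (by rw [hrk]; exact Nat.one_pos)
  obtain ⟨ψ⟩ : Nonempty (TensorProduct R (FractionRing R) M ≃ₗ[FractionRing R]
      FractionRing R) :=
    ⟨LinearEquiv.ofFinrankEq _ _ (by rw [hrk, Module.finrank_self])⟩
  obtain ⟨mk1, hmk1def⟩ : ∃ mk1 : M →ₗ[R] TensorProduct R (FractionRing R) M,
      mk1 = TensorProduct.mk R (FractionRing R) M 1 := ⟨_, rfl⟩
  have hmk1 : ∀ m, mk1 m = 0 → m = 0 := by
    intro m hm
    rw [hmk1def] at hm
    obtain ⟨s, hs⟩ := (IsLocalizedModule.eq_zero_iff (nonZeroDivisors R)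
      (TensorProduct.mk R (FractionRing R) M 1)).mp hm
    rw [Submonoid.smul_def] at hs
    rcases smul_eq_zero.mp hs with h | h
    · exact absurd h (nonZeroDivisors.coe_ne_zero s)
    · exact h
  obtain ⟨φ, hφ⟩ : ∃ φ : M →ₗ[R] FractionRing R, ∀ m, φ m = ψ (mk1 m) :=
    ⟨(ψ.restrictScalars R).toLinearMap ∘ₗ mk1, fun _ => rfl⟩
  obtain ⟨gens, hgens⟩ := (Module.Finite.fg_top : (⊤ : Submodule R M).FG)
  obtain ⟨b, hb⟩ := IsLocalization.exist_integer_multiples_of_finset (nonZeroDivisors R)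
    (gens.image φ)
  have hb0 : (b : R) ≠ 0 := nonZeroDivisors.coe_ne_zero b
  have hinjK : Function.Injective (algebraMap R (FractionRing R)) :=
    IsFractionRing.injective R (FractionRing R)
  have hint : ∀ m : M, ∃ r : R, algebraMap R (FractionRing R) r = (b : R) • φ m := by
    intro m
    have hm : m ∈ Submodule.span R (gens : Set M) := by rw [hgens]; trivial
    refine Submodule.span_induction
      (p := fun m _ => ∃ r : R, algebraMap R (FractionRing R) r = (b : R) • φ m)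
      ?_ ?_ ?_ ?_ hm
    · intro x hx
      exact RingHom.mem_rangeS.mp (hb (φ x) (Finset.mem_image_of_mem φ hx))
    · exact ⟨0, by rw [map_zero, map_zero, smul_zero]⟩
    · rintro x y _ _ ⟨r1, h1⟩ ⟨r2, h2⟩
      exact ⟨r1 + r2, by rw [map_add, map_add, smul_add, h1, h2]⟩
    · rintro a x _ ⟨r1, h1⟩
      exact ⟨a * r1, by rw [map_mul, h1, map_smul, smul_comm, ← Algebra.smul_def]⟩
  choose θf hθf using hint
  have hθadd : ∀ x y, θf (x + y) = θf x + θf y := by
    intro x y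
    apply hinjK
    rw [map_add, hθf, hθf, hθf, map_add, smul_add]
  have hθsmul : ∀ (r : R) x, θf (r • x) = r * θf x := by
    intro r x
    apply hinjK
    rw [map_mul, hθf, hθf, map_smul, smul_comm, Algebra.smul_def]
  obtain ⟨θ, hθ⟩ : ∃ θ : M →ₗ[R] R, ∀ m, θ m = θf m :=
    ⟨{ toFun := θf
       map_add' := hθadd
       map_smul' := fun r x => by rw [hθsmul]; rfl }, fun _ => rfl⟩
  have hθinj : Function.Injective θ := by
    intro x y hxy
    rw [hθ, hθ] at hxy
    have h2 : (b : R) • φ x = (b : R) • φ y := by rw [← hθf, ← hθf, hxy]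
    have h3 : φ x = φ y := by
      rw [Algebra.smul_def, Algebra.smul_def] at h2
      exact mul_left_cancel₀ (fun h => hb0 (hinjK (by rw [h, map_zero]))) h2
    rw [hφ, hφ] at h3
    have h4 : mk1 x = mk1 y := ψ.injective h3
    have h5 : mk1 (x - y) = 0 := by rw [map_sub, h4, sub_self]
    exact sub_eq_zero.mp (hmk1 _ h5)
  refine ⟨θ, hθinj, ?_⟩
  by_contra hall
  push_neg at hall
  have hsub : ∀ m : M, m = 0 := fun m => hθinj (by rw [hall m, map_zero])
  have hT : ∀ t : TensorProduct R (FractionRing R) M, t = 0 := by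
    intro t
    induction t using TensorProduct.induction_on with
    | zero => rfl
    | tmul x y => rw [hsub y, TensorProduct.tmul_zero]
    | add x y hx hy => rw [hx, hy, add_zero]
  haveI : Subsingleton (TensorProduct R (FractionRing R) M) :=
    ⟨fun a b => by rw [hT a, hT b]⟩
  rw [Module.finrank_zero_of_subsingleton] at hrk
  exact zero_ne_one hrk

theorem exists_embedding (A : Subalgebra k (PowerSeries k)) (M : Type u) [AddCommGroup M]
    [Module ↥A M] [Module.Finite ↥A M] [NoZeroSMulDivisors ↥A M]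
    (hrk : Module.finrank (FractionRing ↥A) (TensorProduct ↥A (FractionRing ↥A) M) = 1) :
    ∃ Θ : M →ₗ[↥A] PowerSeries k, Function.Injective Θ ∧ ∃ m, Θ m ≠ 0 := by
  obtain ⟨θ, hθinj, m₀, hm₀⟩ := exists_embedding_gen ↥A M hrk
  have hval : ∀ a : ↥A, Algebra.linearMap ↥A (PowerSeries k) a = (a : PowerSeries k) :=
    fun a => rfl
  refine ⟨Algebra.linearMap ↥A (PowerSeries k) ∘ₗ θ, ?_, m₀, ?_⟩
  · intro x y hxy
    rw [LinearMap.comp_apply, LinearMap.comp_apply, hval, hval] at hxy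
    exact hθinj (Subtype.ext hxy)
  · rw [LinearMap.comp_apply, hval]
    intro h
    exact hm₀ (Subtype.ext h)

theorem main15023 (A : Subalgebra k (PowerSeries k))
    (hA : Module.Finite ↥A (PowerSeries k))
    (hcl : ∀ f : PowerSeries k,
      (∀ n : ℕ, ∃ g ∈ A, (n : ℕ∞) ≤ PowerSeries.order (f - g)) → f ∈ A)
    (hbir : ∀ f : PowerSeries k, ∃ a ∈ A, a ≠ 0 ∧ a * f ∈ A)
    (Γ : Set ℕ) (hΓ : ∀ n : ℕ, n ∈ Γ ↔ ∃ f ∈ A, PowerSeries.order f = n)
    (M : Type u) [AddCommGroup M] [Module ↥A M] [Module.Finite ↥A M]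
    [NoZeroSMulDivisors ↥A M]
    (hrk : Module.finrank (FractionRing ↥A) (TensorProduct ↥A (FractionRing ↥A) M) = 1) :
    ∃ M' : Submodule ↥A (PowerSeries k),
      (Ideal.span {(PowerSeries.X : PowerSeries k) ^ (2 * Γᶜ.ncard)}).restrictScalars ↥A ≤ M' ∧
      Nonempty (M ≃ₗ[↥A] ↥M') ∧
      Module.finrank k (PowerSeries k ⧸ M'.restrictScalars k) = Γᶜ.ncard := by
  obtain ⟨Θ, hΘinj, m₀, hm₀⟩ := exists_embedding A M hrk
  obtain ⟨P, ⟨e₁⟩, hu⟩ := exists_normalized A (LinearMap.range Θ)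
    ⟨Θ m₀, LinearMap.mem_range_self Θ m₀, hm₀⟩
  obtain ⟨M', h1, ⟨e₂⟩, h3⟩ := exists_lattice A hA hcl hbir Γ hΓ P hu
  exact ⟨M', h1, ⟨((LinearEquiv.ofInjective Θ hΘinj).trans e₁).trans e₂⟩, h3⟩

end Groth.Agent.Lib.RankOneLatH1
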