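import Mathlib

/-!
# Reflexive modules of rank one over a Noetherian factorial domain are free (helper4)
APPEND-ONLY once landed.
-/

set_option autoImplicit false
universe u

namespace Groth.Agent.Lib.RankOneReflH4

variable (R : Type u) [CommRing R] [IsDomain R] [IsNoetherianRing R] [UniqueFactorizationMonoid R]

/-- the dual of a nonzero ideal of a Noetherian factorial domain is free of rank one: there is
`d` dividing all elements of `I` such that every linear form on `I` is `a ↦ r * (a / d)` -/
theorem exists_gcd_form (I : Ideal R) (hI : I ≠ ⊥) :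
    ∃ d : R, d ≠ 0 ∧ (∀ a ∈ I, d ∣ a) ∧
      ∀ φ : I →ₗ[R] R, ∃ r : R, ∀ a : I, d * φ a = r * (a : R) := by
  classical
  letI := UniqueFactorizationMonoid.strongNormalizationMonoid (α := R)
  letI := UniqueFactorizationMonoid.toNormalizedGCDMonoid R
  obtain ⟨s, hs⟩ := (IsNoetherian.noetherian I : I.FG)
  have hsI : ∀ a ∈ s, a ∈ I := fun a ha => by
    rw [← hs]
    exact Submodule.subset_span ha
  obtain ⟨a₀, ha₀I, ha₀⟩ : ∃ a₀ ∈ I, a₀ ≠ 0 := by
    by_contra hcon
    apply hI
    rw [eq_bot_iff]
    intro a ha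
    by_contra h0
    exact hcon ⟨a, ha, h0⟩
  have hdvd : ∀ a ∈ I, s.gcd id ∣ a := by
    intro a ha
    have hle : I ≤ Ideal.span {s.gcd id} := by
      rw [← hs]
      apply Submodule.span_le.mpr
      intro b hb
      exact Ideal.mem_span_singleton.mpr (Finset.gcd_dvd hb)
    exact Ideal.mem_span_singleton.mp (hle ha)
  have hd0 : s.gcd id ≠ 0 := by
    intro h0
    obtain ⟨c, hc⟩ := hdvd a₀ ha₀I
    rw [h0, zero_mul] at hc
    exact ha₀ hc
  refine ⟨s.gcd id, hd0, hdvd, fun φ => ?_⟩
  have hcomm : ∀ a b : I, (a : R) * φ b = (b : R) * φ a := by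
    intro a b
    have h1 : (a : R) • b = (b : R) • a := by
      apply Subtype.ext
      show (a : R) * (b : R) = (b : R) * (a : R)
      exact mul_comm _ _
    have h2 := congrArg φ h1
    rw [map_smul, map_smul, smul_eq_mul, smul_eq_mul] at h2
    exact h2
  -- a₀ divides (gcd s) * φ a₀
  have h1 : a₀ ∣ s.gcd (fun a => a * φ ⟨a₀, ha₀I⟩) := by
    apply Finset.dvd_gcd
    intro a ha
    have := hcomm ⟨a₀, ha₀I⟩ ⟨a, hsI a ha⟩
    exact ⟨φ ⟨a, hsI a ha⟩, this.symm⟩
  have h2 : Associated (s.gcd (fun a => id a * φ ⟨a₀, ha₀I⟩)) (s.gcd id * φ ⟨a₀, ha₀I⟩) :=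
    Finset.gcd_mul_right' s id (φ ⟨a₀, ha₀I⟩)
  have h3 : a₀ ∣ s.gcd id * φ ⟨a₀, ha₀I⟩ := (Associated.dvd_iff_dvd_right h2).mp h1
  obtain ⟨r, hr⟩ := h3
  refine ⟨r, fun a => ?_⟩
  apply mul_left_cancel₀ ha₀
  have h4 := hcomm ⟨a₀, ha₀I⟩ a
  have h4' : a₀ * φ a = (a : R) * φ ⟨a₀, ha₀I⟩ := h4
  calc a₀ * (s.gcd id * φ a) = s.gcd id * (a₀ * φ a) := by ring
    _ = s.gcd id * ((a : R) * φ ⟨a₀, ha₀I⟩) := by rw [h4']
    _ = (a : R) * (s.gcd id * φ ⟨a₀, ha₀I⟩) := by ring
    _ = (a : R) * (a₀ * r) := by rw [hr]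
    _ = a₀ * (r * (a : R)) := by ring

/-- the dual of a nonzero ideal of a Noetherian factorial domain is free of rank one -/
theorem nonempty_dual_ideal_equiv (I : Ideal R) (hI : I ≠ ⊥) :
    Nonempty ((I →ₗ[R] R) ≃ₗ[R] R) := by
  classical
  obtain ⟨d, hd0, hdvd, hform⟩ := exists_gcd_form R I hI
  obtain ⟨a₀, ha₀I, ha₀⟩ : ∃ a₀ ∈ I, a₀ ≠ 0 := by
    by_contra hcon
    apply hI
    rw [eq_bot_iff]
    intro a ha
    by_contra h0
    exact hcon ⟨a, ha, h0⟩
  choose r hr using hform
  have huniq : ∀ (φ : I →ₗ[R] R) (c : R), (∀ a : I, d * φ a = c * (a : R)) → r φ = c := by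
    intro φ c hc
    have h1 := hc ⟨a₀, ha₀I⟩
    have h2 := hr φ ⟨a₀, ha₀I⟩
    have h3 : r φ * a₀ = c * a₀ := h2.symm.trans h1
    exact mul_right_cancel₀ ha₀ h3
  let Φ : (I →ₗ[R] R) →ₗ[R] R :=
    { toFun := r
      map_add' := fun φ ψ => huniq (φ + ψ) (r φ + r ψ) (fun a => by
        rw [LinearMap.add_apply, mul_add, hr φ a, hr ψ a, add_mul])
      map_smul' := fun c φ => huniq (c • φ) (c * r φ) (fun a => by
        rw [LinearMap.smul_apply, smul_eq_mul, mul_left_comm, hr φ a, mul_assoc]) }
  have hinj : Function.Injective Φ := by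
    intro φ ψ hφψ
    ext a
    have h1 := hr φ a
    have h2 := hr ψ a
    have h3 : r φ = r ψ := hφψ
    apply mul_left_cancel₀ hd0
    rw [h1, h2, h3]
  have hsurj : Function.Surjective Φ := by
    intro c
    choose q hq using hdvd
    let φ : I →ₗ[R] R :=
      { toFun := fun a => c * q a a.2
        map_add' := fun a b => by
          have key : q ((a + b : I) : R) (a + b).2 = q a a.2 + q b b.2 := by
            apply mul_left_cancel₀ hd0
            calc d * q ((a + b : I) : R) (a + b).2 = ((a + b : I) : R) := (hq _ _).symm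
              _ = (a : R) + (b : R) := rfl
              _ = d * q a a.2 + d * q b b.2 := by rw [← hq _ a.2, ← hq _ b.2]
              _ = d * (q a a.2 + q b b.2) := (mul_add _ _ _).symm
          show c * q ((a + b : I) : R) (a + b).2 = c * q a a.2 + c * q b b.2
          rw [key, mul_add]
        map_smul' := fun t a => by
          have key : q ((t • a : I) : R) (t • a).2 = t * q a a.2 := by
            apply mul_left_cancel₀ hd0
            calc d * q ((t • a : I) : R) (t • a).2 = ((t • a : I) : R) := (hq _ _).symm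
              _ = t * (a : R) := rfl
              _ = t * (d * q a a.2) := by rw [← hq _ a.2]
              _ = d * (t * q a a.2) := by ring
          show c * q ((t • a : I) : R) (t • a).2 = t * (c * q a a.2)
          rw [key]
          ring }
    refine ⟨φ, ?_⟩
    refine huniq φ c (fun a => ?_)
    show d * (c * q a a.2) = c * (a : R)
    rw [mul_left_comm, ← hq _ a.2]
  exact ⟨LinearEquiv.ofBijective Φ ⟨hinj, hsurj⟩⟩

/-- a finite module embedded in a one-dimensional vector space over the fraction field is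
isomorphic to an ideal -/
theorem exists_ideal_equiv (M : Type u) [AddCommGroup M] [Module R M] [Module.Finite R M]
    (K : Type u) [Field K] [Algebra R K] [IsFractionRing R K]
    (V : Type u) [AddCommGroup V] [Module K V] [Module R V] [IsScalarTower R K V]
    (hV : Module.finrank K V = 1) (g : M →ₗ[R] V) (hg : Function.Injective g) :
    ∃ I : Ideal R, Nonempty (M ≃ₗ[R] I) := by
  classical
  haveI : Module.Finite K V := Module.finite_of_finrank_pos (by rw [hV]; exact Nat.one_pos)
  let e : V ≃ₗ[K] K := LinearEquiv.ofFinrankEq V K (by rw [hV, Module.finrank_self])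
  let h : M →ₗ[R] K := (e.restrictScalars R).toLinearMap ∘ₗ g
  have hh : Function.Injective h := (e.restrictScalars R).injective.comp hg
  obtain ⟨s, hs⟩ := (Module.Finite.fg_top : (⊤ : Submodule R M).FG)
  obtain ⟨c, hc⟩ :=
    IsLocalization.exist_integer_multiples_of_finset (nonZeroDivisors R) (s.image h)
  have hle : (⊤ : Submodule R M) ≤
      Submodule.comap ((c : R) • h) (LinearMap.range (Algebra.linearMap R K)) := by
    rw [← hs, Submodule.span_le]
    intro x hx
    obtain ⟨r, hr⟩ := hc (h x) (Finset.mem_image_of_mem h hx)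
    exact ⟨r, hr⟩
  let ι : R ≃ₗ[R] LinearMap.range (Algebra.linearMap R K) :=
    LinearEquiv.ofInjective (Algebra.linearMap R K) (IsFractionRing.injective R K)
  let χ : M →ₗ[R] LinearMap.range (Algebra.linearMap R K) :=
    LinearMap.codRestrict (LinearMap.range (Algebra.linearMap R K)) ((c : R) • h)
      (fun m => hle (Submodule.mem_top : m ∈ ⊤))
  let ψ : M →ₗ[R] R := ι.symm.toLinearMap ∘ₗ χ
  have hψ : Function.Injective ψ := by
    intro m m' hmm
    have h1 : χ m = χ m' := ι.symm.injective hmm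
    have h2 : (c : R) • h m = (c : R) • h m' := congrArg Subtype.val h1
    have hc0 : algebraMap R K (c : R) ≠ 0 := by
      intro h0
      exact nonZeroDivisors.coe_ne_zero c
        ((IsFractionRing.injective R K) (h0.trans (map_zero _).symm))
    rw [Algebra.smul_def, Algebra.smul_def] at h2
    exact hh (mul_left_cancel₀ hc0 h2)
  exact ⟨LinearMap.range ψ, ⟨LinearEquiv.ofInjective ψ hψ⟩⟩

/-- **a finite reflexive module of rank one over a Noetherian factorial domain is free** -/
theorem nonempty_equiv_of_rank_one (M : Type u) [AddCommGroup M] [Module R M] [Module.Finite R M]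
    [Module.IsReflexive R M]
    (K : Type u) [Field K] [Algebra R K] [IsFractionRing R K]
    (V : Type u) [AddCommGroup V] [Module K V] [Module R V] [IsScalarTower R K V]
    (hV : Module.finrank K V = 1) (g : M →ₗ[R] V) (hg : Function.Injective g)
    (hne : ∃ m : M, m ≠ 0) : Nonempty (M ≃ₗ[R] R) := by
  obtain ⟨I, ⟨e⟩⟩ := exists_ideal_equiv R M K V hV g hg
  have hI : I ≠ ⊥ := by
    rintro rfl
    obtain ⟨m, hm⟩ := hne
    apply hm
    have h0 : e m = 0 := Subtype.ext ((Submodule.mem_bot R).mp (e m).2)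
    exact e.injective (h0.trans (map_zero e).symm)
  obtain ⟨f⟩ := nonempty_dual_ideal_equiv R I hI
  let f' : Module.Dual R M ≃ₗ[R] R := e.symm.dualMap.trans f
  exact ⟨(Module.evalEquiv R M).trans
    (f'.symm.dualMap.trans (LinearMap.ringLmapEquivSelf R R R))⟩


end Groth.Agent.Lib.RankOneReflH4
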