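import Mathlib

/-!
# Reflexive rank-one modules over a UFD are free (lead, for helper4's S16491)

`exists_dual_equiv`: a nonzero finitely generated module embedded in a UFD `R` has dual `≅ R`.
`nonempty_linearEquiv_self`: a nonzero finite reflexive `R`-module embedded in a one-dimensional
vector space over the fraction field is isomorphic to `R`.
-/

set_option autoImplicit false
set_option linter.all false
set_option maxHeartbeats 1600000

universe u

namespace Groth.Agent.Lib.RankOneReflL

open Module

/-- For a nonzero finitely generated module `M` embedded in a UFD `R`, the dual of `M` is free of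
rank one. -/
theorem exists_dual_equiv {R : Type u} [CommRing R] [IsDomain R] [UniqueFactorizationMonoid R]
    {M : Type u} [AddCommGroup M] [Module R M] [Module.Finite R M]
    (j : M →ₗ[R] R) (hj : Function.Injective j)
    (hne : ∃ m : M, m ≠ 0) : Nonempty (R ≃ₗ[R] Module.Dual R M) := by
  classical
  letI inst : NormalizedGCDMonoid R := Classical.choice inferInstance
  obtain ⟨s, hs⟩ := (Module.Finite.fg_top : (⊤ : Submodule R M).FG)
  -- some generator has nonzero image
  have hex : ∃ i0 ∈ s, j i0 ≠ 0 := by
    by_contra hcon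
    push_neg at hcon
    obtain ⟨m, hm⟩ := hne
    apply hm
    apply hj
    rw [map_zero]
    have hle : (⊤ : Submodule R M) ≤ LinearMap.ker j := by
      rw [← hs, Submodule.span_le]
      intro x hx
      exact LinearMap.mem_ker.2 (hcon x hx)
    exact LinearMap.mem_ker.1 (hle Submodule.mem_top)
  obtain ⟨i0, hi0s, hi0⟩ := hex
  obtain ⟨d, hd_def⟩ : ∃ d : R, d = s.gcd (fun m => j m) := ⟨_, rfl⟩
  have hd : d ≠ 0 := by
    intro h0
    rw [hd_def] at h0
    exact hi0 ((Finset.gcd_eq_zero_iff.1 h0) i0 hi0s)
  have hdiv : ∀ m : M, d ∣ j m := by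
    intro m
    have hm : m ∈ Submodule.span R (s : Set M) := by rw [hs]; exact Submodule.mem_top
    induction hm using Submodule.span_induction with
    | mem x hx =>
      rw [hd_def]
      exact Finset.gcd_dvd (f := fun m => j m) hx
    | zero => rw [map_zero]; exact dvd_zero _
    | add x y _ _ hx hy => rw [map_add]; exact dvd_add hx hy
    | smul r x _ hx => rw [map_smul, smul_eq_mul]; exact Dvd.dvd.mul_left hx r
  choose q hq using hdiv
  let ψ0 : M →ₗ[R] R :=
    { toFun := q
      map_add' := fun x y => mul_left_cancel₀ hd (by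
        rw [mul_add, ← hq x, ← hq y, ← hq (x + y), map_add])
      map_smul' := fun r x => mul_left_cancel₀ hd (by
        rw [RingHom.id_apply, smul_eq_mul, mul_left_comm, ← hq x, ← hq (r • x), map_smul,
          smul_eq_mul]) }
  have hψ : ∀ m, j m = d * ψ0 m := hq
  have hψ0 : ψ0 i0 ≠ 0 := by
    intro h0
    apply hi0
    rw [hψ, h0, mul_zero]
  -- gcd of ψ0 over s is one
  have hgcd1 : s.gcd (fun m => ψ0 m) = 1 := by
    apply Finset.extract_gcd' (fun m => j m) (fun m => ψ0 m) ⟨i0, hi0s, hi0⟩
    intro m hm
    rw [← hd_def]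
    exact hψ m
  -- the basic relation
  have hrel : ∀ (φ : Module.Dual R M) (m m' : M), ψ0 m * φ m' = ψ0 m' * φ m := by
    intro φ m m'
    have h1 : j m • m' = j m' • m := by
      apply hj
      rw [map_smul, map_smul, smul_eq_mul, smul_eq_mul, mul_comm]
    have h2 : j m * φ m' = j m' * φ m := by
      have h3 := congrArg φ h1
      rwa [map_smul, map_smul, smul_eq_mul, smul_eq_mul] at h3
    rw [hψ m, hψ m', mul_assoc, mul_assoc] at h2
    exact mul_left_cancel₀ hd h2
  have hsurj : ∀ φ : Module.Dual R M, ∃ r : R, r • ψ0 = φ := by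
    intro φ
    have hdvd : ψ0 i0 ∣ φ i0 := by
      have h1 : ψ0 i0 ∣ s.gcd (fun m => ψ0 m * φ i0) := by
        apply Finset.dvd_gcd
        intro m hm
        rw [hrel φ m i0]
        exact dvd_mul_right _ _
      have h2 := (Finset.gcd_mul_right' s (fun m => ψ0 m) (φ i0)).dvd_iff_dvd_right.1 h1
      rw [hgcd1, one_mul] at h2
      exact h2
    obtain ⟨r, hr⟩ := hdvd
    refine ⟨r, ?_⟩
    apply LinearMap.ext
    intro m
    have h1 : ψ0 i0 * φ m = ψ0 m * φ i0 := hrel φ i0 m
    rw [hr] at h1
    have h2 : ψ0 i0 * φ m = ψ0 i0 * (r * ψ0 m) := by rw [h1]; ring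
    have h3 := mul_left_cancel₀ hψ0 h2
    rw [LinearMap.smul_apply, smul_eq_mul, h3]
  let T : R →ₗ[R] Module.Dual R M := LinearMap.toSpanSingleton R (Module.Dual R M) ψ0
  have hT : ∀ r, T r = r • ψ0 := fun r => rfl
  refine ⟨LinearEquiv.ofBijective T ⟨?_, ?_⟩⟩
  · intro r r' hrr
    have h1 : (r • ψ0) i0 = (r' • ψ0) i0 := by rw [← hT, ← hT, hrr]
    rw [LinearMap.smul_apply, LinearMap.smul_apply, smul_eq_mul, smul_eq_mul] at h1
    exact mul_right_cancel₀ hψ0 h1
  · intro φ
    obtain ⟨r, hr⟩ := hsurj φ
    exact ⟨r, hr⟩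

/-- A nonzero finite reflexive module over a UFD which embeds into a one-dimensional vector space
over the fraction field is free of rank one. -/
theorem nonempty_linearEquiv_self (R : Type u) [CommRing R] [IsDomain R] [IsNoetherianRing R]
    [UniqueFactorizationMonoid R]
    (M : Type u) [AddCommGroup M] [Module R M] [Module.Finite R M] [Module.IsReflexive R M]
    (K : Type u) [Field K] [Algebra R K] [IsFractionRing R K]
    (V : Type u) [AddCommGroup V] [Module K V] [Module R V] [IsScalarTower R K V]
    (hV : Module.finrank K V = 1) (g : M →ₗ[R] V) (hg : Function.Injective g)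
    (hne : ∃ m : M, m ≠ 0) : Nonempty (M ≃ₗ[R] R) := by
  classical
  haveI : Module.Finite K V := Module.finite_of_finrank_pos (by rw [hV]; exact one_pos)
  let e : V ≃ₗ[K] K := LinearEquiv.ofFinrankEq V K (by rw [hV, Module.finrank_self])
  let h : M →ₗ[R] K := (e.restrictScalars R).toLinearMap.comp g
  have hh : Function.Injective h := (e.restrictScalars R).injective.comp hg
  obtain ⟨s, hs⟩ := (Module.Finite.fg_top : (⊤ : Submodule R M).FG)
  obtain ⟨b, hb⟩ :=
    IsLocalization.exist_integer_multiples_of_finset (nonZeroDivisors R) (s.image h)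
  have hb0 : (b : R) ≠ 0 := nonZeroDivisors.coe_ne_zero b
  let h2 : M →ₗ[R] K := (b : R) • h
  have hmem : ∀ m, h2 m ∈ LinearMap.range (Algebra.linearMap R K) := by
    intro m
    have hm : m ∈ Submodule.span R (s : Set M) := by rw [hs]; exact Submodule.mem_top
    induction hm using Submodule.span_induction with
    | mem x hx =>
      obtain ⟨r, hr⟩ := hb (h x) (Finset.mem_image_of_mem h hx)
      exact ⟨r, hr⟩
    | zero => rw [map_zero]; exact Submodule.zero_mem _
    | add x y _ _ hx hy => rw [map_add]; exact Submodule.add_mem _ hx hy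
    | smul r x _ hx => rw [map_smul]; exact Submodule.smul_mem _ r hx
  have hinj : Function.Injective (Algebra.linearMap R K) := IsFractionRing.injective R K
  have hcod : Function.Injective
      (h2.codRestrict (LinearMap.range (Algebra.linearMap R K)) hmem) := by
    intro x y hxy
    have h1 : h2 x = h2 y := congrArg Subtype.val hxy
    have h3 : (b : R) • h x = (b : R) • h y := h1
    apply hh
    rw [Algebra.smul_def, Algebra.smul_def] at h3
    have hb' : algebraMap R K (b : R) ≠ 0 :=
      (map_ne_zero_iff (algebraMap R K) (IsFractionRing.injective R K)).2 hb0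
    exact mul_left_cancel₀ hb' h3
  let j : M →ₗ[R] R :=
    (LinearEquiv.ofInjective (Algebra.linearMap R K) hinj).symm.toLinearMap.comp
      (h2.codRestrict (LinearMap.range (Algebra.linearMap R K)) hmem)
  have hjinj : Function.Injective j := by
    intro x y hxy
    apply hcod
    exact (LinearEquiv.ofInjective (Algebra.linearMap R K) hinj).symm.injective hxy
  obtain ⟨eD⟩ := exists_dual_equiv j hjinj hne
  exact ⟨(Module.evalEquiv R M).trans (eD.dualMap.trans (LinearMap.ringLmapEquivSelf R R R))⟩

end Groth.Agent.Lib.RankOneReflL
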