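import Mathlib

/-!
# Reflexive modules with `End = S` over one-dimensional Noetherian rings (helper6)

* `algebraMap_end_bijective_of_locally_free`: `M` finite and locally free of rank one ⇒
  `S → End_S(M)` bijective.
* `locally_free_of_algebraMap_end_bijective`: `S` Noetherian of dimension `≤ 1`, `M` reflexive
  with `S → End_S(M)` bijective ⇒ `M_P ≅ S_P` for all primes `P`.
-/

set_option autoImplicit false
set_option maxHeartbeats 400000
universe u

namespace Groth.Agent.Lib.RankOne_helper6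

variable (S : Type u) [CommRing S] (M : Type u) [AddCommGroup M] [Module S M]

lemma exists_smul_mem_of_fg [Module.Finite S M] (T : Submonoid S) (N : Submodule S M)
    (h : ∀ p : M, ∃ a ∈ T, a • p ∈ N) : ∃ a ∈ T, ∀ p : M, a • p ∈ N := by
  classical
  obtain ⟨s, hs⟩ := (Module.Finite.fg_top : (⊤ : Submodule S M).FG)
  choose b hbT hb using h
  refine ⟨∏ x ∈ s, b x, Submonoid.prod_mem T (fun x _ => hbT x), ?_⟩
  have hle : (⊤ : Submodule S M) ≤ N.comap ((∏ x ∈ s, b x) • (LinearMap.id : M →ₗ[S] M)) := by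
    rw [← hs, Submodule.span_le]
    intro x hx
    have hx' : x ∈ s := hx
    show ((∏ x ∈ s, b x) • (LinearMap.id : M →ₗ[S] M)) x ∈ N
    rw [LinearMap.smul_apply, LinearMap.id_apply, ← Finset.prod_erase_mul s b hx', mul_smul]
    exact N.smul_mem _ (hb x)
  intro p
  exact hle (Submodule.mem_top : p ∈ ⊤)

lemma exists_generator (P : Ideal S) [P.IsPrime]
    (e : LocalizedModule P.primeCompl M ≃ₗ[Localization.AtPrime P] Localization.AtPrime P) :
    ∃ m : M, ∀ y : M, ∃ w ∈ P.primeCompl, ∃ a : S, w • y = a • m := by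
  obtain ⟨m, t, hmt⟩ : ∃ (m : M) (t : P.primeCompl), e.symm 1 = LocalizedModule.mk m t :=
    LocalizedModule.induction_on
      (β := fun z => ∃ (m : M) (t : P.primeCompl), z = LocalizedModule.mk m t)
      (fun m t => ⟨m, t, rfl⟩) (e.symm 1)
  refine ⟨m, fun y => ?_⟩
  obtain ⟨a, w, haw⟩ : ∃ (a : S) (w : P.primeCompl),
      e (LocalizedModule.mk y 1) = Localization.mk a w :=
    Localization.induction_on (p := fun z => ∃ (a : S) (w : P.primeCompl), z = Localization.mk a w)
      (e (LocalizedModule.mk y 1)) (fun yw => ⟨yw.1, yw.2, rfl⟩)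
  have h1 : LocalizedModule.mk y (1 : P.primeCompl) =
      Localization.mk a w • LocalizedModule.mk m t := by
    rw [← hmt, ← map_smul, smul_eq_mul, mul_one, ← haw, LinearEquiv.symm_apply_apply]
  rw [LocalizedModule.mk_smul_mk, LocalizedModule.mk_eq] at h1
  obtain ⟨u, hu⟩ := h1
  refine ⟨(u : S) * ((w : S) * (t : S)), (u * (w * t)).2, (u : S) * a, ?_⟩
  simpa [Submonoid.smul_def, mul_smul] using hu

theorem algebraMap_end_bijective_of_locally_free [Module.Finite S M]
    (h : ∀ (P : Ideal S) (_ : P.IsPrime),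
        Nonempty (LocalizedModule P.primeCompl M ≃ₗ[Localization.AtPrime P] Localization.AtPrime P)) :
    Function.Bijective (algebraMap S (Module.End S M)) := by
  constructor
  · rw [injective_iff_map_eq_zero]
    intro s hs
    have hx : ∀ x : M, s • x = 0 := fun x => by
      have := LinearMap.congr_fun hs x
      rwa [Module.algebraMap_end_apply] at this
    apply eq_zero_of_localization
    intro J hJ
    haveI := hJ.isPrime
    obtain ⟨e⟩ := h J hJ.isPrime
    have h0 : ∀ z : LocalizedModule J.primeCompl M, s • z = 0 := by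
      intro z
      induction z using LocalizedModule.induction_on with
      | h m t => rw [LocalizedModule.smul'_mk, hx, LocalizedModule.zero_mk]
    have h1 : algebraMap S (Localization.AtPrime J) s = e (s • e.symm 1) := by
      rw [← algebraMap_smul (Localization.AtPrime J) s (e.symm 1), map_smul,
        LinearEquiv.apply_symm_apply, smul_eq_mul, mul_one]
    rw [h1, h0, map_zero]
  · intro u
    let I : Ideal S :=
      { carrier := {s | ∃ r : S, ∀ x : M, s • u x = r • x}
        add_mem' := by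
          rintro a b ⟨r, hr⟩ ⟨r', hr'⟩
          exact ⟨r + r', fun x => by rw [add_smul, add_smul, hr, hr']⟩
        zero_mem' := ⟨0, fun x => by rw [zero_smul, zero_smul]⟩
        smul_mem' := by
          rintro c a ⟨r, hr⟩
          exact ⟨c * r, fun x => by rw [smul_eq_mul, mul_smul, mul_smul, hr]⟩ }
    have hI : I = ⊤ := by
      by_contra hne
      obtain ⟨P, hP, hIP⟩ := Ideal.exists_le_maximal I hne
      haveI := hP.isPrime
      obtain ⟨e⟩ := h P hP.isPrime
      obtain ⟨m, hm⟩ := exists_generator S M P e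
      obtain ⟨w, hwP, hw⟩ := exists_smul_mem_of_fg S M P.primeCompl (Submodule.span S {m})
        (fun y => by
          obtain ⟨w, hw, a, hwa⟩ := hm y
          exact ⟨w, hw, by
            rw [hwa]
            exact Submodule.smul_mem _ _ (Submodule.mem_span_singleton_self m)⟩)
      obtain ⟨w₁, hw₁P, a₁, hw₁⟩ := hm (u m)
      have hmem : w₁ * w ∈ I := by
        refine ⟨a₁ * w, fun x => ?_⟩
        obtain ⟨a, ha⟩ := Submodule.mem_span_singleton.mp (hw x)
        calc (w₁ * w) • u x = w₁ • u (w • x) := by rw [map_smul, mul_smul]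
          _ = w₁ • u (a • m) := by rw [ha]
          _ = a • (w₁ • u m) := by rw [map_smul, smul_comm]
          _ = a • (a₁ • m) := by rw [hw₁]
          _ = a₁ • (a • m) := by rw [smul_comm]
          _ = (a₁ * w) • x := by rw [ha, mul_smul]
      have h2 := hIP hmem
      rcases hP.isPrime.mem_or_mem h2 with h1 | h1
      · exact hw₁P h1
      · exact hwP h1
    have h1 : (1 : S) ∈ I := by
      rw [hI]
      exact Submodule.mem_top
    obtain ⟨r, hr⟩ := h1
    refine ⟨r, LinearMap.ext fun x => ?_⟩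
    rw [Module.algebraMap_end_apply, ← hr x, one_smul]

lemma dual_end_scalar [Module.IsReflexive S M]
    (hsurj : Function.Surjective (algebraMap S (Module.End S M)))
    (v : Module.Dual S M →ₗ[S] Module.Dual S M) :
    ∃ r : S, ∀ φ : Module.Dual S M, v φ = r • φ := by
  obtain ⟨r, hr⟩ := hsurj ((Module.evalEquiv S M).symm.toLinearMap ∘ₗ v.dualMap ∘ₗ
    (Module.evalEquiv S M).toLinearMap)
  refine ⟨r, fun φ => LinearMap.ext fun x => ?_⟩
  have h := LinearMap.congr_fun hr x
  rw [Module.algebraMap_end_apply] at h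
  have h2 : φ (r • x) = (v φ) x := by
    rw [h]
    show φ ((Module.evalEquiv S M).symm (v.dualMap (Module.evalEquiv S M x))) = (v φ) x
    rw [Module.apply_evalEquiv_symm_apply, LinearMap.dualMap_apply, Module.evalEquiv_apply,
      Module.Dual.eval_apply]
  rw [LinearMap.smul_apply, ← h2, map_smul]

lemma hom_ideal_scalar [Module.IsReflexive S M]
    (hsurj : Function.Surjective (algebraMap S (Module.End S M)))
    (𝔪 : Ideal S) (hJ : ∀ (φ : Module.Dual S M) (x : M), φ x ∈ 𝔪)
    (x₀ : 𝔪)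
    (hx₀J : x₀ ∈ Submodule.span S {y : 𝔪 | ∃ (φ : Module.Dual S M) (x : M), φ x = (y : S)})
    (hx₀ : (x₀ : S) ∈ nonZeroDivisors S)
    (f : 𝔪 →ₗ[S] S) : ∃ r : S, ∀ y : 𝔪, f y = r * y := by
  let v : Module.Dual S M →ₗ[S] Module.Dual S M :=
    { toFun := fun φ => f ∘ₗ (LinearMap.codRestrict 𝔪 φ (hJ φ))
      map_add' := fun φ ψ => LinearMap.ext fun x => by
        show f ⟨(φ + ψ) x, _⟩ = f ⟨φ x, _⟩ + f ⟨ψ x, _⟩
        rw [← map_add]
        rfl
      map_smul' := fun c φ => LinearMap.ext fun x => by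
        show f ⟨(c • φ) x, _⟩ = c • f ⟨φ x, _⟩
        rw [← map_smul]
        rfl }
  obtain ⟨r, hr⟩ := dual_end_scalar S M hsurj v
  have hval : ∀ (φ : Module.Dual S M) (x : M), f ⟨φ x, hJ φ x⟩ = r * φ x := by
    intro φ x
    have := LinearMap.congr_fun (hr φ) x
    rw [LinearMap.smul_apply, smul_eq_mul] at this
    exact this
  have hle : Submodule.span S {y : 𝔪 | ∃ (φ : Module.Dual S M) (x : M), φ x = (y : S)} ≤
      LinearMap.eqLocus f (r • 𝔪.subtype) := by
    rw [Submodule.span_le]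
    rintro y ⟨φ, x, hy⟩
    have hy' : y = ⟨φ x, hJ φ x⟩ := Subtype.ext hy.symm
    rw [SetLike.mem_coe, LinearMap.mem_eqLocus, hy', hval]
    rfl
  have h0 : f x₀ = r * x₀ := by
    have := hle hx₀J
    rw [LinearMap.mem_eqLocus] at this
    rw [this]
    rfl
  refine ⟨r, fun y => ?_⟩
  have h1 : (x₀ : S) • y = (y : S) • x₀ := Subtype.ext (by simp [mul_comm])
  have h2 : (x₀ : S) * f y = (y : S) * (r * x₀) := by
    rw [← smul_eq_mul, ← map_smul, h1, map_smul, h0, smul_eq_mul]
  have h3 : (f y - r * y) * (x₀ : S) = 0 := by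
    rw [sub_mul, mul_comm (f y), h2]
    ring
  exact sub_eq_zero.mp ((mul_right_mem_nonZeroDivisors_eq_zero_iff hx₀).mp h3)

lemma exists_regular_trace [IsNoetherianRing S]
    (hinj : Function.Injective (algebraMap S (Module.End S M)))
    (htl : Function.Injective (Module.Dual.eval S M))
    (𝔪 : Ideal S) (hJ : ∀ (φ : Module.Dual S M) (x : M), φ x ∈ 𝔪) :
    ∃ x₀ : 𝔪, x₀ ∈ Submodule.span S {y : 𝔪 | ∃ (φ : Module.Dual S M) (x : M), φ x = (y : S)} ∧
      (x₀ : S) ∈ nonZeroDivisors S := by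
  by_contra hcon
  push_neg at hcon
  let J : Ideal S := (Submodule.span S
    {y : 𝔪 | ∃ (φ : Module.Dual S M) (x : M), φ x = (y : S)}).map 𝔪.subtype
  have hdisj : Disjoint (J : Set S) (nonZeroDivisors S : Set S) := by
    rw [Set.disjoint_left]
    rintro a ⟨y, hy, rfl⟩ ha
    exact hcon y hy ha
  obtain ⟨z, hzann, hz0⟩ :=
    SetLike.exists_of_lt (Ideal.bot_lt_annihilator_of_disjoint_nonZeroDivisors hdisj)
  apply hz0
  rw [Ideal.mem_bot]
  apply hinj
  rw [map_zero]
  apply LinearMap.ext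
  intro x
  rw [Module.algebraMap_end_apply, LinearMap.zero_apply]
  apply htl
  rw [map_zero]
  apply LinearMap.ext
  intro φ
  rw [Module.Dual.eval_apply, LinearMap.zero_apply, map_smul, smul_eq_mul]
  have hmem : φ x ∈ J := ⟨⟨φ x, hJ φ x⟩, Submodule.subset_span ⟨φ, x, rfl⟩, rfl⟩
  have := Module.mem_annihilator.mp hzann ⟨φ x, hmem⟩
  exact congrArg Subtype.val this

lemma exists_hom_not_scalar [IsNoetherianRing S] (hdim : ringKrullDim S ≤ 1)
    (𝔪 : Ideal S) [h𝔪 : 𝔪.IsMaximal] (x₀ : S) (hx₀m : x₀ ∈ 𝔪) (hx₀ : x₀ ∈ nonZeroDivisors S) :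
    ∃ f : 𝔪 →ₗ[S] S, ¬ ∃ r : S, ∀ y : 𝔪, f y = r * y := by
  haveI : 𝔪.IsPrime := h𝔪.isPrime
  have hmin : 𝔪 ∈ (Ideal.span {x₀}).minimalPrimes := by
    refine ⟨⟨inferInstance, (Ideal.span_singleton_le_iff_mem 𝔪).mpr hx₀m⟩, ?_⟩
    rintro 𝔮 ⟨h𝔮, hle⟩ h𝔮𝔪
    by_contra hnot
    have hlt : 𝔮 < 𝔪 := lt_of_le_of_ne h𝔮𝔪 (fun heq => hnot (le_of_eq heq.symm))
    haveI := h𝔮
    have h1 : 𝔮.height < 𝔪.height := Ideal.height_strict_mono_of_isPrime_of_isPrime hlt
    have h2 : (𝔪.height : WithBot ℕ∞) ≤ 1 := Ideal.height_le_ringKrullDim_of_isPrime.trans hdim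
    have h3 : 𝔪.height ≤ 1 := by exact_mod_cast h2
    have h4 : 𝔮.height = 0 := ENat.lt_one_iff_eq_zero.mp (lt_of_lt_of_le h1 h3)
    have h5 : 𝔮 ∈ minimalPrimes S := Ideal.height_eq_zero_iff.mp h4
    exact notMem_nonZeroDivisors_of_mem_mem_minimalPrimes
      ((Ideal.span_singleton_le_iff_mem 𝔮).mp hle) h5 hx₀
  have hass : 𝔪 ∈ associatedPrimes S (S ⧸ Ideal.span {x₀}) := by
    apply Module.associatedPrimes.minimalPrimes_annihilator_subset_associatedPrimes S
      (S ⧸ Ideal.span {x₀})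
    rw [Ideal.annihilator_quotient]
    exact hmin
  rw [AssociatedPrimes.mem_iff, isAssociatedPrime_iff] at hass
  obtain ⟨_, zbar, hz⟩ := hass
  obtain ⟨z, rfl⟩ := Ideal.Quotient.mk_surjective zbar
  have hmem : ∀ y : S, y ∈ 𝔪 ↔ y * z ∈ Ideal.span {x₀} := by
    intro y
    have h1 : y ∈ 𝔪 ↔ y • (Ideal.Quotient.mk (Ideal.span {x₀}) z) = 0 := by
      conv_lhs => rw [hz]
      rw [Submodule.mem_colon_singleton, Submodule.mem_bot]
    rw [h1, ← Ideal.Quotient.eq_zero_iff_mem]
    rfl
  have hz_not : z ∉ Ideal.span {x₀} := by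
    intro hzm
    have h1 : (1 : S) ∈ 𝔪 := by
      rw [hmem, one_mul]
      exact hzm
    exact h𝔪.ne_top ((Ideal.eq_top_iff_one 𝔪).mpr h1)
  have hex : ∀ y : 𝔪, ∃ a : S, a * x₀ = (y : S) * z := fun y =>
    Ideal.mem_span_singleton'.mp ((hmem y).mp y.2)
  choose c hc using hex
  have hcancel : ∀ a b : S, a * x₀ = b * x₀ → a = b := fun a b h =>
    (mul_cancel_right_mem_nonZeroDivisors hx₀).mp h
  let f : 𝔪 →ₗ[S] S :=
    { toFun := c
      map_add' := fun y y' => hcancel _ _ (by
        rw [hc (y + y'), add_mul, hc y, hc y', Submodule.coe_add, add_mul])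
      map_smul' := fun a y => hcancel _ _ (by
        rw [hc (a • y), RingHom.id_apply, smul_eq_mul, mul_assoc, hc y, Submodule.coe_smul,
          smul_eq_mul, mul_assoc]) }
  refine ⟨f, ?_⟩
  rintro ⟨r, hr⟩
  apply hz_not
  have h1 : f ⟨x₀, hx₀m⟩ = r * x₀ := hr ⟨x₀, hx₀m⟩
  have h2 : c ⟨x₀, hx₀m⟩ * x₀ = x₀ * z := hc ⟨x₀, hx₀m⟩
  have h3 : z = r * x₀ := by
    apply hcancel
    rw [← h1]
    show z * x₀ = c ⟨x₀, hx₀m⟩ * x₀
    rw [h2, mul_comm]
  rw [h3]
  exact Ideal.mul_mem_left _ _ (Ideal.subset_span (Set.mem_singleton x₀))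

lemma locIso_of_value_notMem (hsurj : Function.Surjective (algebraMap S (Module.End S M)))
    (P : Ideal S) [hP : P.IsPrime] (φ : Module.Dual S M) (m : M) (hu : φ m ∉ P) :
    Nonempty (LocalizedModule P.primeCompl M ≃ₗ[Localization.AtPrime P] Localization.AtPrime P) := by
  obtain ⟨s, hs⟩ := hsurj ((LinearMap.toSpanSingleton S M m) ∘ₗ φ)
  have hs' : ∀ x : M, s • x = φ x • m := fun x => by
    have := LinearMap.congr_fun hs x
    rw [Module.algebraMap_end_apply] at this
    rw [this]
    rfl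
  have hsu : (s - φ m) * φ m = 0 := by
    have h1 := congrArg φ (hs' m)
    rw [map_smul, map_smul, smul_eq_mul, smul_eq_mul] at h1
    rw [sub_mul, h1, sub_self]
  have hsP : s ∉ P := by
    intro hsP
    have h0 : (s - φ m) * φ m ∈ P := by
      rw [hsu]
      exact P.zero_mem
    rcases hP.mem_or_mem h0 with h1 | h1
    · exact hu (by
        have := P.sub_mem hsP h1
        simpa using this)
    · exact hu h1
  let ψ : Localization.AtPrime P →ₗ[Localization.AtPrime P] LocalizedModule P.primeCompl M :=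
    LinearMap.toSpanSingleton _ _ (LocalizedModule.mk m 1)
  have hψ : ∀ (a : S) (t : P.primeCompl),
      ψ (Localization.mk a t) = LocalizedModule.mk (a • m) t := by
    intro a t
    show (Localization.mk a t : Localization.AtPrime P) •
      (LocalizedModule.mk m 1 : LocalizedModule P.primeCompl M) = _
    rw [LocalizedModule.mk_smul_mk, mul_one]
  have hinj : Function.Injective ψ := by
    rw [injective_iff_map_eq_zero]
    intro z hz
    induction z using Localization.induction_on with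
    | H at' =>
      obtain ⟨a, t⟩ := at'
      rw [hψ] at hz
      rw [← LocalizedModule.zero_mk (1 : P.primeCompl), LocalizedModule.mk_eq] at hz
      obtain ⟨w, hw⟩ := hz
      have hw' : (w : S) • a • m = 0 := by simpa [Submonoid.smul_def] using hw
      have h2 := congrArg φ hw'
      rw [map_smul, map_smul, map_zero, smul_eq_mul, smul_eq_mul] at h2
      rw [Localization.mk_eq_mk', IsLocalization.mk'_eq_zero_iff]
      refine ⟨⟨(w : S) * φ m, P.primeCompl.mul_mem w.2 hu⟩, ?_⟩
      show (w : S) * φ m * a = 0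
      rw [← h2]
      ring
  have hsurjψ : Function.Surjective ψ := by
    intro z
    induction z using LocalizedModule.induction_on with
    | h x t =>
      refine ⟨Localization.mk (φ x) (⟨s, hsP⟩ * t), ?_⟩
      rw [hψ, ← hs' x]
      exact LocalizedModule.mk_cancel_common_left ⟨s, hsP⟩ t x
  exact ⟨(LinearEquiv.ofBijective ψ ⟨hinj, hsurjψ⟩).symm⟩

theorem locally_free_of_algebraMap_end_bijective [IsNoetherianRing S] (hdim : ringKrullDim S ≤ 1)
    [Module.IsReflexive S M] (hb : Function.Bijective (algebraMap S (Module.End S M)))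
    (P : Ideal S) [hP : P.IsPrime] :
    Nonempty (LocalizedModule P.primeCompl M ≃ₗ[Localization.AtPrime P] Localization.AtPrime P) := by
  obtain ⟨𝔪, h𝔪, hP𝔪⟩ := Ideal.exists_le_maximal P hP.ne_top
  have key : ∃ (φ : Module.Dual S M) (m : M), φ m ∉ 𝔪 := by
    by_contra hcon
    push_neg at hcon
    obtain ⟨x₀, hx₀J, hx₀⟩ := exists_regular_trace S M hb.injective
      (Module.bijective_dual_eval S M).injective 𝔪 hcon
    obtain ⟨f, hf⟩ := exists_hom_not_scalar S hdim 𝔪 (x₀ : S) x₀.2 hx₀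
    exact hf (hom_ideal_scalar S M hb.surjective 𝔪 hcon x₀ hx₀J hx₀ f)
  obtain ⟨φ, m, hφ⟩ := key
  exact locIso_of_value_notMem S M hb.surjective P φ m (fun h => hφ (hP𝔪 h))

end Groth.Agent.Lib.RankOne_helper6
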