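import Mathlib

set_option autoImplicit false
universe u

namespace Groth.Agent.Lib.RankTwoH7

variable (S R : Type u) [CommRing S] [CommRing R] [Algebra S R]

theorem exists_retraction [Module.Finite S R] [Module.Projective S R]
    (hpos : ∀ p : PrimeSpectrum S, 0 < Module.rankAtStalk (R := S) R p) :
    ∃ ρ : R →ₗ[S] S, ρ 1 = 1 := by
  classical
  let ev : (R →ₗ[S] S) →ₗ[S] S := LinearMap.applyₗ (1 : R)
  let J : Ideal S := LinearMap.range ev
  by_cases hJ : J = ⊤
  · have h1 : (1 : S) ∈ J := by rw [hJ]; trivial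
    obtain ⟨ρ, hρ⟩ := h1
    exact ⟨ρ, hρ⟩
  · exfalso
    obtain ⟨m, hm, hJm⟩ := Ideal.exists_le_maximal J hJ
    have hmem := (PrimeSpectrum.rankAtStalk_pos_iff_mem_range_comap (S := R)
      ⟨m, hm.isPrime⟩).mp (hpos _)
    obtain ⟨Q, hQ⟩ := hmem
    obtain ⟨s, hs⟩ := Module.Projective.out (R := S) (P := R)
    have h1 := hs 1
    have hin : ∀ r : R, (s 1) r ∈ m := fun r => hJm ⟨(Finsupp.lapply r).comp s, rfl⟩
    have hQm : (PrimeSpectrum.comap (algebraMap S R) Q).asIdeal = m := by rw [hQ]
    have hone : (1 : R) ∈ Q.asIdeal := by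
      rw [← h1, Finsupp.linearCombination_apply, Finsupp.sum]
      refine Ideal.sum_mem _ (fun r _ => ?_)
      rw [id, Algebra.smul_def]
      refine Ideal.mul_mem_right _ _ ?_
      have h2 : (s 1) r ∈ (PrimeSpectrum.comap (algebraMap S R) Q).asIdeal := by
        rw [hQm]; exact hin r
      exact h2
    exact Q.isPrime.ne_top ((Ideal.eq_top_iff_one _).mpr hone)

variable {S R}

/-- the quotient module `R / S·1`. -/
abbrev Quo : Type u := R ⧸ LinearMap.range (Algebra.linearMap S R)

theorem splitting (ρ : R →ₗ[S] S) (hρ : ρ 1 = 1) :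
    Function.Bijective (LinearMap.prod ρ (LinearMap.range (Algebra.linearMap S R)).mkQ) := by
  have hρa : ∀ s : S, ρ (algebraMap S R s) = s := by
    intro s
    rw [Algebra.algebraMap_eq_smul_one, map_smul, hρ, smul_eq_mul, mul_one]
  constructor
  · rw [← LinearMap.ker_eq_bot, LinearMap.ker_eq_bot']
    intro x hx
    have hx' : (ρ x, (LinearMap.range (Algebra.linearMap S R)).mkQ x) = 0 := hx
    rw [Prod.mk_eq_zero] at hx'
    replace hx := hx'
    obtain ⟨h1, h2⟩ := hx
    rw [Submodule.mkQ_apply, Submodule.Quotient.mk_eq_zero] at h2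
    obtain ⟨s, hs⟩ := h2
    rw [Algebra.linearMap_apply] at hs
    rw [← hs, hρa] at h1
    rw [← hs, h1, map_zero]
  · rintro ⟨s, q⟩
    obtain ⟨y, hy⟩ := Submodule.mkQ_surjective _ q
    refine ⟨y - algebraMap S R (ρ y) + algebraMap S R s, ?_⟩
    refine Prod.ext ?_ ?_
    · show ρ (y - algebraMap S R (ρ y) + algebraMap S R s) = s
      rw [map_add, map_sub, hρa, hρa, sub_self, zero_add]
    · show (LinearMap.range (Algebra.linearMap S R)).mkQ
        (y - algebraMap S R (ρ y) + algebraMap S R s) = q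
      rw [map_add, map_sub, hy]
      have h0 : ∀ t : S, (LinearMap.range (Algebra.linearMap S R)).mkQ (algebraMap S R t) = 0 := by
        intro t
        rw [Submodule.mkQ_apply, Submodule.Quotient.mk_eq_zero]
        exact ⟨t, rfl⟩
      rw [h0, h0, sub_zero, add_zero]

theorem main [Module.Finite S R] [Module.Projective S R]
    (h2 : ∀ p : PrimeSpectrum S, Module.rankAtStalk (R := S) R p = 2) :
    Module.Projective S (R ⧸ LinearMap.range (Algebra.linearMap S R)) ∧
      ∀ p : PrimeSpectrum S,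
        Module.rankAtStalk (R := S) (R ⧸ LinearMap.range (Algebra.linearMap S R)) p = 1 := by
  obtain ⟨ρ, hρ⟩ := exists_retraction S R (fun p => by rw [h2 p]; norm_num)
  let e : R ≃ₗ[S] S × (R ⧸ LinearMap.range (Algebra.linearMap S R)) :=
    LinearEquiv.ofBijective _ (splitting ρ hρ)
  have hproj : Module.Projective S (R ⧸ LinearMap.range (Algebra.linearMap S R)) := by
    refine Module.Projective.of_split (M := R)
      (e.symm.toLinearMap.comp (LinearMap.inr S S _))
      ((LinearMap.snd S S _).comp e.toLinearMap) ?_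
    ext q
    simp
  refine ⟨hproj, fun p => ?_⟩
  haveI : Nontrivial S := ⟨⟨0, 1, fun h => p.isPrime.ne_top (by
    rw [Ideal.eq_top_iff_one, ← h]; exact zero_mem _)⟩⟩
  have hr := Module.rankAtStalk_eq_of_equiv (R := S) e
  rw [Module.rankAtStalk_prod] at hr
  have hp := congrFun hr p
  rw [Pi.add_apply, h2 p, Module.rankAtStalk_self, Pi.one_apply] at hp
  omega

end Groth.Agent.Lib.RankTwoH7
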