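import Mathlib
import Groth.Agent.Lib.RatExt_helper7
import Groth.Agent.Lib.EtNormal5_helper4

/-!
# Rational maps from a normal locally Noetherian scheme to a proper scheme extend in codimension one
(helper8)
-/

set_option autoImplicit false
universe u
open CategoryTheory CategoryTheory.Limits AlgebraicGeometry TopologicalSpace

namespace RatCodimH8

theorem le_one_of_not_two_le (d : WithBot ℕ∞) (h : ¬ (2 : WithBot ℕ∞) ≤ d) : d ≤ 1 := by
  rw [not_le] at h
  induction d using WithBot.recBotCoe with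
  | bot => exact bot_le
  | coe n =>
    have h' : n < 2 := by
      have h0 := h
      rwa [show (2 : WithBot ℕ∞) = ((2 : ℕ∞) : WithBot ℕ∞) from rfl, WithBot.coe_lt_coe] at h0
    have h2 : n ≤ 1 := by
      have e : (2 : ℕ∞) = 1 + 1 := by norm_num
      rw [e] at h'
      exact Order.le_of_lt_add_one h'
    exact_mod_cast h2

theorem valuationRing_of_dim_le_one (A : Type u) [CommRing A] [IsDomain A] [IsNoetherianRing A]
    [IsLocalRing A] (hic : IsIntegrallyClosed A) (hd : ringKrullDim A ≤ 1) : ValuationRing A := by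
  have h4 : IsIntegrallyClosed A ∧
      ∀ P : Ideal A, P ≠ ⊥ → P.IsPrime → P = IsLocalRing.maximalIdeal A := by
    refine ⟨hic, fun P hP hPp => ?_⟩
    have hK : Ring.KrullDimLE 1 A := Ring.krullDimLE_iff.mpr hd
    rcases Ring.krullDimLE_one_iff.mp hK P hPp with h | h
    · exfalso
      apply hP
      have hm : minimalPrimes A = {⊥} := IsDomain.minimalPrimes_eq_singleton_bot A
      rw [hm] at h
      exact h
    · exact IsLocalRing.eq_maximalIdeal h
  exact ((tfae_of_isNoetherianRing_of_isLocalRing_of_isDomain (R := A)).out 3 1).mp h4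

variable {X Y S : Scheme.{u}}

set_option maxHeartbeats 800000 in
theorem extends_codim_two [IsLocallyNoetherian X] (p : X ⟶ S) (q : Y ⟶ S) [IsProper q]
    (hX : ∀ x : X, IsDomain (X.presheaf.stalk x) ∧ IsIntegrallyClosed (X.presheaf.stalk x))
    (U : X.Opens) (hU : Dense (U : Set X)) (f : (U : Scheme.{u}) ⟶ Y) (hf : f ≫ q = U.ι ≫ p) :
    ∃ (V : X.Opens) (hUV : U ≤ V) (g : (V : Scheme.{u}) ⟶ Y),
      g ≫ q = V.ι ≫ p ∧ X.homOfLE hUV ≫ g = f ∧
      ∀ x : X, x ∉ V → (2 : WithBot ℕ∞) ≤ ringKrullDim (X.presheaf.stalk x) := by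
  haveI : ∀ x : X, _root_.IsReduced (X.presheaf.stalk x) := fun x => by
    haveI := (hX x).1
    infer_instance
  haveI : IsReduced X := isReduced_of_isReduced_stalk X
  by_cases hne : Nonempty X
  swap
  · refine ⟨U, le_rfl, f, hf, by simp, ?_⟩
    intro x
    exact absurd ⟨x⟩ hne
  obtain ⟨x₀⟩ := hne
  have key : ∀ x : X, ∃ (U' : X.Opens) (hUU' : U ≤ U') (h' : (U' : Scheme.{u}) ⟶ Y),
      (ringKrullDim (X.presheaf.stalk x) ≤ 1 → x ∈ U') ∧ h' ≫ q = U'.ι ≫ p ∧
        X.homOfLE hUU' ≫ h' = f := by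
    intro x
    by_cases hd : ringKrullDim (X.presheaf.stalk x) ≤ 1
    · haveI := (hX x).1
      haveI : X.IsGermInjectiveAt x := inferInstance
      have hval : ValuationRing (X.presheaf.stalk x) :=
        valuationRing_of_dim_le_one _ (hX x).2 hd
      obtain ⟨U', hUU', hxU', f', hf'q, hf'res⟩ :=
        Groth.Agent.Lib.RatExtH7.exists_extension_of_valuationRing p q x U f hf
          (by rw [hU.closure_eq]; trivial) (hX x).1 hval
      exact ⟨U', hUU', f', fun _ => hxU', hf'q, hf'res⟩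
    · exact ⟨U, le_rfl, f, fun h => absurd h hd, hf, by simp⟩
  choose U' hUU' h' hxU' h'q h'res using key
  have hcompat : ∀ i j, X.homOfLE (inf_le_left : U' i ⊓ U' j ≤ U' i) ≫ h' i =
      X.homOfLE (inf_le_right : U' i ⊓ U' j ≤ U' j) ≫ h' j := by
    intro i j
    haveI : IsDominant (X.homOfLE (le_inf (hUU' i) (hUU' j))) :=
      Groth.Agent.Lib.RatExtH7.isDominant_homOfLE _ hU
    refine ext_of_isDominant_of_isSeparated q ?_ (X.homOfLE (le_inf (hUU' i) (hUU' j))) ?_
    · rw [Category.assoc, Category.assoc, h'q, h'q, Scheme.homOfLE_ι_assoc, Scheme.homOfLE_ι_assoc]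
    · rw [Scheme.homOfLE_homOfLE_assoc, Scheme.homOfLE_homOfLE_assoc, h'res, h'res]
  obtain ⟨F, hFq, hF⟩ := Groth.Agent.Lib.RatExtH7.exists_glue_over p q U' h' h'q hcompat
  refine ⟨⨆ i, U' i, (hUU' x₀).trans (le_iSup U' x₀), F, hFq, ?_, ?_⟩
  · rw [← Scheme.homOfLE_homOfLE X (hUU' x₀) (le_iSup U' x₀), Category.assoc, hF, h'res]
  · intro x hx
    by_contra hd
    exact hx ((le_iSup U' x) (hxU' x (le_one_of_not_two_le _ hd)))

/-- The local rings of `Spec R` for a Dedekind domain `R` are integrally closed domains. -/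
theorem stalk_spec_normal (R : Type u) [CommRing R] [IsDomain R] [IsIntegrallyClosed R]
    (y : Spec (CommRingCat.of R)) :
    IsDomain ((Spec (CommRingCat.of R)).presheaf.stalk y) ∧
      IsIntegrallyClosed ((Spec (CommRingCat.of R)).presheaf.stalk y) := by
  have hle : y.asIdeal.primeCompl ≤ nonZeroDivisors R := y.asIdeal.primeCompl_le_nonZeroDivisors
  letI : Algebra R ((Spec (CommRingCat.of R)).presheaf.stalk y) :=
    AlgebraicGeometry.StructureSheaf.stalkAlgebra (R := R) y
  haveI : IsLocalization.AtPrime ((Spec (CommRingCat.of R)).presheaf.stalk y) y.asIdeal :=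
    AlgebraicGeometry.StructureSheaf.IsLocalization.to_stalk (R := R) y
  exact ⟨IsLocalization.isDomain_of_le_nonZeroDivisors _ hle,
    isIntegrallyClosed_of_isLocalization _ _ hle⟩

end RatCodimH8
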