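import Mathlib
import Groth.Agent.Lib.RatExt2_helper7
import Groth.Agent.Lib.SchIrredComp2_helper7

/-!
# Extension of rational sections of closed separated morphisms (helper7)
-/

set_option autoImplicit false
universe u
open CategoryTheory CategoryTheory.Limits AlgebraicGeometry TopologicalSpace

namespace Groth.Agent.Lib.RatExt3H7

open Groth.Agent.Lib.RatExtH7 Groth.Agent.Lib.RatExt2H7

/-- Abstract form of the extension lemma: it suffices to lift `Spec O_{X,x}`. -/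
theorem exists_extension_of_lift {X Y S : Scheme.{u}} (p : X ⟶ S) (q : Y ⟶ S)
    [IsSeparated q] [LocallyOfFiniteType q] (x : X) [X.IsGermInjectiveAt x] (U : X.Opens)
    (f : (U : Scheme.{u}) ⟶ Y)
    (hf : f ≫ q = U.ι ≫ p) (hx : x ∈ closure (U : Set X))
    (hdom : IsDomain (X.presheaf.stalk x))
    (hkey : ∀ j : Spec (CommRingCat.of (FractionRing (X.presheaf.stalk x))) ⟶ U.toScheme,
      j ≫ U.ι = Spec.map (CommRingCat.ofHom (algebraMap (X.presheaf.stalk x)
        (FractionRing (X.presheaf.stalk x)))) ≫ X.fromSpecStalk x →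
      ∃ ℓ : Spec (X.presheaf.stalk x) ⟶ Y,
        Spec.map (CommRingCat.ofHom (algebraMap (X.presheaf.stalk x)
          (FractionRing (X.presheaf.stalk x)))) ≫ ℓ = j ≫ f ∧
        ℓ ≫ q = X.fromSpecStalk x ≫ p) :
    ∃ (U' : X.Opens) (hUU' : U ≤ U'), x ∈ U' ∧
      ∃ f' : (U' : Scheme.{u}) ⟶ Y, f' ≫ q = U'.ι ≫ p ∧ X.homOfLE hUU' ≫ f' = f := by
  haveI := hdom
  obtain ⟨N, hxN, hNint⟩ := exists_isIntegral_nhd x hdom
  obtain ⟨ψ, hψ⟩ : ∃ ψ : Spec (CommRingCat.of (FractionRing (X.presheaf.stalk x))) ⟶ X,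
      ψ = Spec.map (CommRingCat.ofHom (algebraMap (X.presheaf.stalk x)
        (FractionRing (X.presheaf.stalk x)))) ≫ X.fromSpecStalk x := ⟨_, rfl⟩
  have hψsp : ∀ t n, n ∈ N → ψ t ⤳ n := by
    intro t n hn
    have h1 : N.ι (genericPoint N.toScheme) ⤳ n :=
      (genericPoint_specializes (α := ↥(N.toScheme)) ⟨n, hn⟩).map N.ι.continuous
    have h2 : N.ι (genericPoint N.toScheme) ⤳ x :=
      (genericPoint_specializes (α := ↥(N.toScheme)) ⟨x, hxN⟩).map N.ι.continuous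
    obtain ⟨pp, hpp⟩ : N.ι (genericPoint N.toScheme) ∈ Set.range (X.fromSpecStalk x) := by
      rw [Scheme.range_fromSpecStalk]; exact h2
    have h3 : Spec.map (CommRingCat.ofHom (algebraMap (X.presheaf.stalk x)
        (FractionRing (X.presheaf.stalk x)))) t ⤳ pp := by
      refine (PrimeSpectrum.le_iff_specializes (R := X.presheaf.stalk x)
        (Spec.map (CommRingCat.ofHom (algebraMap (X.presheaf.stalk x)
          (FractionRing (X.presheaf.stalk x)))) t) pp).mp ?_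
      change Ideal.comap (algebraMap (X.presheaf.stalk x) (FractionRing (X.presheaf.stalk x)))
        t.asIdeal ≤ pp.asIdeal
      have ht : t.asIdeal = ⊥ := (Ideal.eq_bot_or_top t.asIdeal).resolve_right t.isPrime.ne_top
      rw [ht]
      intro a ha
      have ha' : algebraMap (X.presheaf.stalk x) (FractionRing (X.presheaf.stalk x)) a = 0 := ha
      have ha0 : a = 0 :=
        (IsFractionRing.injective (X.presheaf.stalk x) (FractionRing (X.presheaf.stalk x)))
          (by rw [ha', map_zero])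
      rw [ha0]; exact zero_mem _
    have h4 := h3.map (X.fromSpecStalk x).continuous
    rw [hpp] at h4
    rw [hψ, Scheme.Hom.comp_apply]
    exact h4.trans h1
  obtain ⟨u, huN, huU⟩ : ∃ u, u ∈ N ∧ u ∈ U := by
    obtain ⟨u, hu1, hu2⟩ := mem_closure_iff.mp hx N N.2 hxN
    exact ⟨u, hu1, hu2⟩
  have hψU : ∀ t, ψ t ∈ U := fun t => (hψsp t u huN).mem_open U.2 huU
  have hψx : ∀ t, ψ t ⤳ x := fun t => hψsp t x hxN
  have hrU : Set.range ψ ⊆ Set.range U.ι := by
    rintro _ ⟨t, rfl⟩; rw [Scheme.Opens.range_ι]; exact hψU t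
  obtain ⟨j, hj⟩ : ∃ j : Spec (CommRingCat.of (FractionRing (X.presheaf.stalk x))) ⟶ U.toScheme,
      j ≫ U.ι = ψ := ⟨IsOpenImmersion.lift U.ι ψ hrU, IsOpenImmersion.lift_fac _ _ _⟩
  have key := hkey j (hj.trans hψ)
  obtain ⟨ℓ, hℓ₁, hℓ₂⟩ := key
  obtain ⟨W, hxW, g, hg1, hg2⟩ := spread_out_of_isGermInjective' p q ℓ hℓ₂
  obtain ⟨W', hW'⟩ : ∃ W' : X.Opens, W' = W ⊓ N := ⟨_, rfl⟩
  have hxW' : x ∈ W' := hW' ▸ ⟨hxW, hxN⟩
  have hW'W : W' ≤ W := hW' ▸ inf_le_left
  have hW'N : W' ≤ N := hW' ▸ inf_le_right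
  have hψT : ∀ t, ψ t ∈ U ⊓ W' := fun t => ⟨hψU t, (hψx t).mem_open W'.2 hxW'⟩
  obtain ⟨t₀, -⟩ : ∃ t₀ : Spec (CommRingCat.of (FractionRing (X.presheaf.stalk x))), True :=
    ⟨IsLocalRing.closedPoint (FractionRing (X.presheaf.stalk x)), trivial⟩
  haveI : Nonempty (U ⊓ W').toScheme := ⟨⟨ψ t₀, hψT t₀⟩⟩
  haveI : IsIntegral (U ⊓ W').toScheme :=
    isIntegral_of_isOpenImmersion (X.homOfLE (inf_le_right.trans hW'N : U ⊓ W' ≤ N))
  have hrT : Set.range ψ ⊆ Set.range (U ⊓ W').ι := by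
    rintro _ ⟨t, rfl⟩; rw [Scheme.Opens.range_ι]; exact hψT t
  obtain ⟨jT, hjT⟩ : ∃ jT : Spec (CommRingCat.of (FractionRing (X.presheaf.stalk x))) ⟶
      (U ⊓ W').toScheme, jT ≫ (U ⊓ W').ι = ψ :=
    ⟨IsOpenImmersion.lift _ ψ hrT, IsOpenImmersion.lift_fac _ _ _⟩
  haveI : IsDominant jT := by
    constructor
    intro z
    have hz : jT t₀ ⤳ z := by
      rw [← (U ⊓ W').ι.isEmbedding.isInducing.specializes_iff]
      have h1 : (U ⊓ W').ι (jT t₀) = ψ t₀ := by rw [← Scheme.Hom.comp_apply, hjT]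
      rw [h1]
      exact hψsp t₀ z.1 (hW'N z.2.2)
    exact closure_mono (Set.singleton_subset_iff.mpr (Set.mem_range_self t₀))
      (specializes_iff_mem_closure.mp hz)
  have hg' : (X.homOfLE hW'W ≫ g) ≫ q = W'.ι ≫ p := by
    rw [Category.assoc, hg2, ← Category.assoc, Scheme.homOfLE_ι]
  have hagree : X.homOfLE (inf_le_left : U ⊓ W' ≤ U) ≫ f =
      X.homOfLE (inf_le_right : U ⊓ W' ≤ W') ≫ (X.homOfLE hW'W ≫ g) := by
    apply ext_of_isDominant_of_isSeparated q ?_ jT ?_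
    · rw [Category.assoc, hf, ← Category.assoc, Scheme.homOfLE_ι, Category.assoc, hg',
        ← Category.assoc, Scheme.homOfLE_ι]
    · have e1 : jT ≫ X.homOfLE (inf_le_left : U ⊓ W' ≤ U) = j := by
        rw [← cancel_mono U.ι, Category.assoc, Scheme.homOfLE_ι, hjT, hj]
      have e2 : jT ≫ X.homOfLE (inf_le_right : U ⊓ W' ≤ W') ≫ X.homOfLE hW'W =
          Spec.map (CommRingCat.ofHom (algebraMap (X.presheaf.stalk x)
            (FractionRing (X.presheaf.stalk x)))) ≫ W.fromSpecStalkOfMem x hxW := by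
        rw [← cancel_mono W.ι]
        simp only [Category.assoc, Scheme.homOfLE_ι, Scheme.Opens.fromSpecStalkOfMem_ι]
        rw [hjT, hψ]
      calc jT ≫ X.homOfLE (inf_le_left : U ⊓ W' ≤ U) ≫ f
          = (jT ≫ X.homOfLE (inf_le_left : U ⊓ W' ≤ U)) ≫ f := by rw [Category.assoc]
        _ = j ≫ f := by rw [e1]
        _ = Spec.map (CommRingCat.ofHom (algebraMap (X.presheaf.stalk x)
              (FractionRing (X.presheaf.stalk x)))) ≫ ℓ := hℓ₁.symm
        _ = (Spec.map (CommRingCat.ofHom (algebraMap (X.presheaf.stalk x)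
              (FractionRing (X.presheaf.stalk x)))) ≫ W.fromSpecStalkOfMem x hxW) ≫ g := by
            rw [hg1, Category.assoc]
        _ = (jT ≫ X.homOfLE (inf_le_right : U ⊓ W' ≤ W') ≫ X.homOfLE hW'W) ≫ g := by rw [e2]
        _ = jT ≫ X.homOfLE (inf_le_right : U ⊓ W' ≤ W') ≫ (X.homOfLE hW'W ≫ g) := by
            simp only [Category.assoc]
  obtain ⟨F, hFq, hF1, -⟩ := exists_glue_two_over p q U W' f (X.homOfLE hW'W ≫ g) hf hg' hagree
  exact ⟨U ⊔ W', le_sup_left, Or.inr hxW', F, hFq, hF1⟩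


/-- For a closed map `f : X ⟶ Y` and a point `y` whose local ring `A` is a valuation ring, a
`Frac A`-point of `X` over the generic point of `Spec A` extends to an `A`-point. -/
theorem exists_lift_of_isClosedMap {X Y : Scheme.{u}} (f : X ⟶ Y) (hcl : IsClosedMap f)
    (y : Y) (hdom : IsDomain (Y.presheaf.stalk y))
    (hval : @ValuationRing (Y.presheaf.stalk y) _ hdom)
    (a : Spec (CommRingCat.of (FractionRing (Y.presheaf.stalk y))) ⟶ X)
    (ha : a ≫ f = Spec.map (CommRingCat.ofHom (algebraMap (Y.presheaf.stalk y)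
      (FractionRing (Y.presheaf.stalk y)))) ≫ Y.fromSpecStalk y) :
    ∃ ℓ : Spec (Y.presheaf.stalk y) ⟶ X,
      Spec.map (CommRingCat.ofHom (algebraMap (Y.presheaf.stalk y)
        (FractionRing (Y.presheaf.stalk y)))) ≫ ℓ = a ∧ ℓ ≫ f = Y.fromSpecStalk y := by
  haveI := hdom
  obtain ⟨z₀, hz₀⟩ : ∃ z₀ : X,
      a (IsLocalRing.closedPoint (FractionRing (Y.presheaf.stalk y))) = z₀ := ⟨_, rfl⟩
  have hfz₀ : f z₀ ⤳ y := by
    rw [← hz₀, ← Scheme.Hom.comp_apply, ha, Scheme.Hom.comp_apply]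
    exact Groth.Agent.Lib.SchIrredComp2H7.fromSpecStalk_specializes Y y _
  obtain ⟨z, hz, hfz⟩ : ∃ z ∈ closure ({z₀} : Set X), f z = y := by
    have h1 : IsClosed (f '' closure ({z₀} : Set X)) := hcl _ isClosed_closure
    have h2 : closure ({f z₀} : Set Y) ⊆ f '' closure ({z₀} : Set X) :=
      closure_minimal (Set.singleton_subset_iff.mpr ⟨z₀, subset_closure rfl, rfl⟩) h1
    exact h2 (specializes_iff_mem_closure.mp hfz₀)
  have hsp : z₀ ⤳ z := specializes_iff_mem_closure.mpr hz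
  subst hfz
  obtain ⟨θ₀, hθ₀⟩ := Groth.Agent.Lib.BiratStalkH7.exists_stalkHom
    (R := CommRingCat.of (FractionRing (Y.presheaf.stalk (f z)))) a z₀ hz₀
  obtain ⟨β, hβdef⟩ : ∃ β : X.presheaf.stalk z ⟶
      CommRingCat.of (FractionRing (Y.presheaf.stalk (f z))),
      β = X.presheaf.stalkSpecializes hsp ≫ θ₀ := ⟨_, rfl⟩
  have hβ : Spec.map β ≫ X.fromSpecStalk z = a := by
    rw [hβdef, Spec.map_comp, Category.assoc, Scheme.SpecMap_stalkSpecializes_fromSpecStalk, hθ₀]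
  have hcomp : f.stalkMap z ≫ β = CommRingCat.ofHom (algebraMap (Y.presheaf.stalk (f z))
      (FractionRing (Y.presheaf.stalk (f z)))) := by
    apply Spec.map_injective
    rw [← cancel_mono (Y.fromSpecStalk (f z)), Spec.map_comp, Category.assoc,
      Scheme.SpecMap_stalkMap_fromSpecStalk, ← Category.assoc, hβ, ha]
  have hcomp' : ∀ c : Y.presheaf.stalk (f z), β.hom ((f.stalkMap z).hom c) =
      algebraMap (Y.presheaf.stalk (f z)) (FractionRing (Y.presheaf.stalk (f z))) c := fun c =>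
    congrArg (fun m => m.hom c) hcomp
  have hinj : Function.Injective (algebraMap (Y.presheaf.stalk (f z))
      (FractionRing (Y.presheaf.stalk (f z)))) := IsFractionRing.injective _ _
  have hmem : ∀ w : X.presheaf.stalk z, β.hom w ∈ (algebraMap (Y.presheaf.stalk (f z))
      (FractionRing (Y.presheaf.stalk (f z)))).range := by
    intro w
    rcases ValuationRing.isInteger_or_isInteger (Y.presheaf.stalk (f z))
      (K := FractionRing (Y.presheaf.stalk (f z))) (β.hom w) with ⟨c, hc⟩ | ⟨c, hc⟩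
    · exact ⟨c, hc⟩
    · by_cases hw0 : β.hom w = 0
      · exact ⟨0, by rw [map_zero, hw0]⟩
      by_cases hcu : IsUnit c
      · obtain ⟨d, hd⟩ := isUnit_iff_exists_inv.mp hcu
        refine ⟨d, ?_⟩
        have h1 : algebraMap (Y.presheaf.stalk (f z)) (FractionRing (Y.presheaf.stalk (f z))) c *
            algebraMap (Y.presheaf.stalk (f z)) (FractionRing (Y.presheaf.stalk (f z))) d = 1 := by
          rw [← map_mul, hd, map_one]
        rw [hc] at h1
        calc algebraMap (Y.presheaf.stalk (f z)) (FractionRing (Y.presheaf.stalk (f z))) d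
            = (β.hom w * (β.hom w)⁻¹) * algebraMap (Y.presheaf.stalk (f z))
                (FractionRing (Y.presheaf.stalk (f z))) d := by
              rw [mul_inv_cancel₀ hw0, one_mul]
          _ = β.hom w * ((β.hom w)⁻¹ * algebraMap (Y.presheaf.stalk (f z))
                (FractionRing (Y.presheaf.stalk (f z))) d) := by ring
          _ = β.hom w := by rw [h1, mul_one]
      · exfalso
        have hnu : ¬ IsUnit ((f.stalkMap z).hom c) := fun h => hcu (isUnit_of_map_unit _ c h)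
        have hnu' : w * (f.stalkMap z).hom c ∈ nonunits (X.presheaf.stalk z) := by
          intro h
          exact hnu (isUnit_of_mul_isUnit_right h)
        have hu : IsUnit (1 - w * (f.stalkMap z).hom c) :=
          IsLocalRing.isUnit_one_sub_self_of_mem_nonunits _ hnu'
        have h0 : β.hom (1 - w * (f.stalkMap z).hom c) = 0 := by
          rw [map_sub, map_one, map_mul, hcomp', hc, mul_inv_cancel₀ hw0, sub_self]
        exact (hu.map β.hom).ne_zero h0
  obtain ⟨e, he⟩ : ∃ e : Y.presheaf.stalk (f z) ≃+* (algebraMap (Y.presheaf.stalk (f z))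
      (FractionRing (Y.presheaf.stalk (f z)))).range,
      ∀ c, ((e c : (algebraMap (Y.presheaf.stalk (f z))
        (FractionRing (Y.presheaf.stalk (f z)))).range) :
          FractionRing (Y.presheaf.stalk (f z))) =
        algebraMap (Y.presheaf.stalk (f z)) (FractionRing (Y.presheaf.stalk (f z))) c :=
    ⟨RingEquiv.ofBijective (algebraMap (Y.presheaf.stalk (f z))
      (FractionRing (Y.presheaf.stalk (f z)))).rangeRestrict
      ⟨fun c₁ c₂ h => hinj (congrArg Subtype.val h),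
        (algebraMap (Y.presheaf.stalk (f z))
          (FractionRing (Y.presheaf.stalk (f z)))).rangeRestrict_surjective⟩, fun c => rfl⟩
  obtain ⟨θ, hθdef⟩ : ∃ θ : X.presheaf.stalk z ⟶ Y.presheaf.stalk (f z),
      θ = CommRingCat.ofHom (e.symm.toRingHom.comp (β.hom.codRestrict _ hmem)) := ⟨_, rfl⟩
  have hθ : ∀ w, algebraMap (Y.presheaf.stalk (f z)) (FractionRing (Y.presheaf.stalk (f z)))
      (θ.hom w) = β.hom w := by
    intro w
    rw [← he, hθdef]
    change ((e (e.symm (β.hom.codRestrict _ hmem w)) : (algebraMap (Y.presheaf.stalk (f z))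
      (FractionRing (Y.presheaf.stalk (f z)))).range) :
        FractionRing (Y.presheaf.stalk (f z))) = β.hom w
    rw [e.apply_symm_apply]
    rfl
  have hθβ : θ ≫ CommRingCat.ofHom (algebraMap (Y.presheaf.stalk (f z))
      (FractionRing (Y.presheaf.stalk (f z)))) = β := by
    ext w
    exact hθ w
  have hθid : f.stalkMap z ≫ θ = 𝟙 _ := by
    ext c
    apply hinj
    change algebraMap _ _ (θ.hom ((f.stalkMap z).hom c)) = algebraMap _ _ c
    rw [hθ, hcomp']
  refine ⟨Spec.map θ ≫ X.fromSpecStalk z, ?_, ?_⟩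
  · have h1 : Spec.map (CommRingCat.ofHom (algebraMap (Y.presheaf.stalk (f z))
        (FractionRing (Y.presheaf.stalk (f z))))) ≫ Spec.map θ = Spec.map β := by
      rw [← Spec.map_comp]; exact congrArg Spec.map hθβ
    rw [← Category.assoc, h1, hβ]
  · rw [Category.assoc, ← Scheme.SpecMap_stalkMap_fromSpecStalk, ← Category.assoc,
      ← Spec.map_comp, hθid, Spec.map_id, Category.id_comp]

/-- Abstract gluing of pointwise extensions of a rational map from a reduced scheme to a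
separated scheme. -/
theorem exists_extension_of_forall {S X Y : Scheme.{u}} (p : X ⟶ S) [IsSeparated p]
    (q : Y ⟶ S) [IsReduced Y] (P : Y → Prop)
    (V : Y.Opens) (hV : Dense (V : Set Y)) (g : (V : Scheme.{u}) ⟶ X) (hg : g ≫ p = V.ι ≫ q)
    (hP : ∀ y, P y → ∃ (U' : Y.Opens) (hVU' : V ≤ U'), y ∈ U' ∧
      ∃ g' : (U' : Scheme.{u}) ⟶ X, g' ≫ p = U'.ι ≫ q ∧ Y.homOfLE hVU' ≫ g' = g) :
    ∃ (U : Y.Opens) (hVU : V ≤ U) (g' : (U : Scheme.{u}) ⟶ X), g' ≫ p = U.ι ≫ q ∧
      Y.homOfLE hVU ≫ g' = g ∧ ∀ y : Y, P y → y ∈ U := by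
  obtain ⟨J, hJdef⟩ : ∃ J : Set Y.Opens, J = {T | ∃ (hVT : V ≤ T) (t : (T : Scheme.{u}) ⟶ X),
      t ≫ p = T.ι ≫ q ∧ Y.homOfLE hVT ≫ t = g} := ⟨_, rfl⟩
  have hJ : ∀ T : J, ∃ (hVT : V ≤ T.1) (t : (T.1 : Scheme.{u}) ⟶ X),
      t ≫ p = T.1.ι ≫ q ∧ Y.homOfLE hVT ≫ t = g := by
    rintro ⟨T, hT⟩
    have h1 : T ∈ J := hT
    rw [hJdef] at h1
    exact h1
  choose hVT t htp htg using hJ
  have hcompat : ∀ T₁ T₂ : J, Y.homOfLE (inf_le_left : T₁.1 ⊓ T₂.1 ≤ T₁.1) ≫ t T₁ =
      Y.homOfLE (inf_le_right : T₁.1 ⊓ T₂.1 ≤ T₂.1) ≫ t T₂ := by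
    intro T₁ T₂
    haveI : IsDominant (Y.homOfLE (le_inf (hVT T₁) (hVT T₂))) := isDominant_homOfLE _ hV
    apply ext_of_isDominant_of_isSeparated p ?_ (Y.homOfLE (le_inf (hVT T₁) (hVT T₂))) ?_
    · rw [Category.assoc, htp, ← Category.assoc, Scheme.homOfLE_ι, Category.assoc, htp,
        ← Category.assoc, Scheme.homOfLE_ι]
    · rw [← Category.assoc, Scheme.homOfLE_homOfLE, htg, ← Category.assoc,
        Scheme.homOfLE_homOfLE, htg]
  obtain ⟨F, hFp, hF⟩ := exists_glue_over q p (fun T : J => T.1) t htp hcompat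
  have hVmem : V ∈ J := by
    rw [hJdef]
    exact ⟨le_rfl, g, hg, by rw [Scheme.homOfLE_rfl, Category.id_comp]⟩
  refine ⟨⨆ T : J, T.1, le_iSup (fun T : J => T.1) ⟨V, hVmem⟩, F, hFp, ?_, ?_⟩
  · rw [hF ⟨V, hVmem⟩]
    have h1 := htg ⟨V, hVmem⟩
    have h2 : Y.homOfLE (hVT ⟨V, hVmem⟩) = 𝟙 _ := Y.homOfLE_rfl V
    rw [h2, Category.id_comp] at h1
    exact h1
  · intro y hy
    obtain ⟨U', hVU', hyU', g', hg'p, hg'ext⟩ := hP y hy
    have hU'mem : U' ∈ J := by
      rw [hJdef]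
      exact ⟨hVU', g', hg'p, hg'ext⟩
    exact TopologicalSpace.Opens.mem_iSup.mpr ⟨⟨U', hU'mem⟩, hyU'⟩

/-- Rational sections of a separated closed morphism of finite type extend over points whose
local rings are valuation rings. -/
theorem exists_section_extension_of_isClosedMap {X Y : Scheme.{u}} [IsReduced Y]
    [∀ y : Y, Y.IsGermInjectiveAt y] (f : X ⟶ Y) [IsSeparated f] [LocallyOfFiniteType f]
    (hcl : IsClosedMap f) (P : Y → Prop)
    (hP : ∀ y, P y → ∃ hdom : IsDomain (Y.presheaf.stalk y),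
      @ValuationRing (Y.presheaf.stalk y) _ hdom)
    (V : Y.Opens) (hV : Dense (V : Set Y)) (s : (V : Scheme.{u}) ⟶ X) (hs : s ≫ f = V.ι) :
    ∃ (U : Y.Opens) (hVU : V ≤ U) (s' : (U : Scheme.{u}) ⟶ X), s' ≫ f = U.ι ∧
      Y.homOfLE hVU ≫ s' = s ∧ ∀ y : Y, P y → y ∈ U := by
  have hs' : s ≫ f = V.ι ≫ 𝟙 Y := by rw [hs, Category.comp_id]
  obtain ⟨U, hVU, s', h1, h2, h3⟩ := exists_extension_of_forall f (𝟙 Y) P V hV s hs' (by
    intro y hy
    obtain ⟨hdom, hval⟩ := hP y hy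
    refine exists_extension_of_lift (𝟙 Y) f y V s hs' (hV.closure_eq ▸ Set.mem_univ _) hdom ?_
    intro j hj
    obtain ⟨ℓ, hℓ₁, hℓ₂⟩ := exists_lift_of_isClosedMap f hcl y hdom hval (j ≫ s) (by
      rw [Category.assoc, hs, hj])
    exact ⟨ℓ, hℓ₁, by rw [hℓ₂, Category.comp_id]⟩)
  exact ⟨U, hVU, s', by rw [h1, Category.comp_id], h2, h3⟩

end Groth.Agent.Lib.RatExt3H7
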