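import Groth.Statements.S3835
import Groth.Agent.Lib.SchDenseBC_lead
import Groth.Agent.Lib.SchDenseExt_helper4

/-! # Domain of definition of a pseudo-morphism and flat lfp base change (lead) -/

set_option backward.isDefEq.respectTransparency false
set_option backward.isDefEq.respectTransparency.types false
set_option linter.unusedSimpArgs false
set_option linter.unusedVariables false
set_option linter.unusedSectionVars false
set_option linter.style.longLine false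
set_option linter.style.haveILetI false
set_option linter.unnecessarySimpa false
set_option maxHeartbeats 800000

universe u

open CategoryTheory CategoryTheory.Limits AlgebraicGeometry Opposite TopologicalSpace

namespace Groth.Agent.Lib.RatExtFlat

/-- **Lemma A.** -/
theorem lemmaA {X X' Y : Scheme.{u}} (U : X.Opens) (h : (U : Scheme.{u}) ⟶ Y) (f : X' ⟶ X)
    (V' : X'.Opens) (v' : (V' : Scheme.{u}) ⟶ Y)
    (hv' : X'.homOfLE (inf_le_right : f ⁻¹ᵁ U ⊓ V' ≤ V') ≫ v' =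
      X'.homOfLE (inf_le_left : f ⁻¹ᵁ U ⊓ V' ≤ f ⁻¹ᵁ U) ≫ (f ∣_ U) ≫ h)
    {T : Scheme.{u}} (a : T ⟶ V') (c : T ⟶ U) (hc : c ≫ U.ι = a ≫ V'.ι ≫ f) :
    a ≫ v' = c ≫ h := by
  have hrange : Set.range (a ≫ V'.ι).base ⊆ Set.range (f ⁻¹ᵁ U ⊓ V').ι.base := by
    rw [Scheme.Opens.range_ι]
    rintro _ ⟨t, rfl⟩
    constructor
    · show f.base ((a ≫ V'.ι).base t) ∈ U
      have h1 : (c ≫ U.ι).base t = f.base ((a ≫ V'.ι).base t) := by
        have := congrArg (fun φ : T ⟶ X => φ.base t) hc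
        simpa using this
      rw [← h1]
      exact (c.base t).2
    · exact (a.base t).2
  let d : T ⟶ (f ⁻¹ᵁ U ⊓ V' : X'.Opens) := IsOpenImmersion.lift (f ⁻¹ᵁ U ⊓ V').ι (a ≫ V'.ι) hrange
  have hd : d ≫ (f ⁻¹ᵁ U ⊓ V').ι = a ≫ V'.ι := IsOpenImmersion.lift_fac _ _ _
  have ha : a = d ≫ X'.homOfLE (inf_le_right : f ⁻¹ᵁ U ⊓ V' ≤ V') := by
    rw [← cancel_mono V'.ι, Category.assoc, Scheme.homOfLE_ι, hd]
  have hcd : c = d ≫ X'.homOfLE (inf_le_left : f ⁻¹ᵁ U ⊓ V' ≤ f ⁻¹ᵁ U) ≫ (f ∣_ U) := by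
    rw [← cancel_mono U.ι, hc]
    simp only [Category.assoc, morphismRestrict_ι, Scheme.homOfLE_ι_assoc]
    rw [← Category.assoc, ← hd, Category.assoc]
  rw [ha, Category.assoc, hv', hcd, Category.assoc, Category.assoc]

theorem main3835 {X X' Y S : Scheme.{u}} (pX : X ⟶ S) (pY : Y ⟶ S)
    [IsSeparated pY] (U : X.Opens) (hU : CInt.IsSchematicallyDense U) (h : (U : Scheme.{u}) ⟶ Y)
    (hh : h ≫ pY = U.ι ≫ pX) (f : X' ⟶ X) [Flat f] [LocallyOfFinitePresentation f] (x' : ↥X')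
    (V' : X'.Opens) (hx' : x' ∈ V') (v' : (V' : Scheme.{u}) ⟶ Y) (hv'S : v' ≫ pY = V'.ι ≫ f ≫ pX)
    (hv' : X'.homOfLE (inf_le_right : f ⁻¹ᵁ U ⊓ V' ≤ V') ≫ v' =
      X'.homOfLE (inf_le_left : f ⁻¹ᵁ U ⊓ V' ≤ f ⁻¹ᵁ U) ≫ (f ∣_ U) ≫ h) :
    ∃ (V : X.Opens) (v : (V : Scheme.{u}) ⟶ Y), f x' ∈ V ∧ v ≫ pY = V.ι ≫ pX ∧
      X.homOfLE (inf_le_right : U ⊓ V ≤ V) ≫ v = X.homOfLE (inf_le_left : U ⊓ V ≤ U) ≫ h := by
  let V : X.Opens := ⟨f.base '' (V' : Set X'), f.isOpenMap _ V'.2⟩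
  have hV'V : V' ≤ f ⁻¹ᵁ V := fun y hy => ⟨y, hy, rfl⟩
  let f' : (V' : Scheme.{u}) ⟶ V := f.resLE V V' hV'V
  have hf' : f' ≫ V.ι = V'.ι ≫ f := Scheme.Hom.resLE_comp_ι f hV'V
  haveI : Flat f' := inferInstance
  haveI : LocallyOfFinitePresentation f' :=
    IsZariskiLocalAtSource.resLE (P := @LocallyOfFinitePresentation) hV'V inferInstance
  haveI : Surjective f' := by
    refine ⟨fun y => ?_⟩
    obtain ⟨y', hy', hyy⟩ := y.2
    refine ⟨⟨y', hy'⟩, ?_⟩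
    apply Subtype.ext
    have := congrArg (fun φ : (V' : Scheme.{u}) ⟶ X => φ.base ⟨y', hy'⟩) hf'
    simpa [hyy] using this
  haveI : Epi f' := Flat.epi_of_flat_of_surjective f'
  -- the descent condition
  have hP : pullback.fst f' f' ≫ v' = pullback.snd f' f' ≫ v' := by
    let π : pullback f' f' ⟶ X := pullback.fst f' f' ≫ f' ≫ V.ι
    haveI : Flat π := inferInstance
    haveI : LocallyOfFinitePresentation π := inferInstance
    have hD : CInt.IsSchematicallyDense (π ⁻¹ᵁ U) := SchDenseBC.main3843 π U hU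
    haveI := SchDenseExtH4.isSchemeTheoreticallyDominant_of_isSchematicallyDense _ hD
    have hπ1 : π = pullback.fst f' f' ≫ V'.ι ≫ f := by
      show pullback.fst f' f' ≫ f' ≫ V.ι = _
      rw [hf']
    have hπ2 : π = pullback.snd f' f' ≫ V'.ι ≫ f := by
      show pullback.fst f' f' ≫ f' ≫ V.ι = _
      rw [← hf', ← Category.assoc, pullback.condition, Category.assoc]
    refine SchDenseExtH4.ext_of_schDominant_of_isSeparated pY ?_ (π ⁻¹ᵁ U).ι ?_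
    · rw [Category.assoc, Category.assoc, hv'S]
      have := congrArg (fun φ => φ ≫ pX) (hπ1.symm.trans hπ2)
      simpa only [Category.assoc] using this
    · have e1 := lemmaA U h f V' v' hv' ((π ⁻¹ᵁ U).ι ≫ pullback.fst f' f') (π ∣_ U) (by
        rw [morphismRestrict_ι, hπ1, Category.assoc])
      have e2 := lemmaA U h f V' v' hv' ((π ⁻¹ᵁ U).ι ≫ pullback.snd f' f') (π ∣_ U) (by
        rw [morphismRestrict_ι, hπ2, Category.assoc])
      rw [← Category.assoc, e1, ← Category.assoc, e2]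
  have hdesc : ∀ {Z : Scheme.{u}} (g₁ g₂ : Z ⟶ (V' : Scheme.{u})), g₁ ≫ f' = g₂ ≫ f' →
      g₁ ≫ v' = g₂ ≫ v' := by
    intro Z g₁ g₂ hg
    have h1 : pullback.lift g₁ g₂ hg ≫ pullback.fst f' f' = g₁ := pullback.lift_fst _ _ _
    have h2 : pullback.lift g₁ g₂ hg ≫ pullback.snd f' f' = g₂ := pullback.lift_snd _ _ _
    rw [← h1, Category.assoc, hP, ← Category.assoc, h2]
  let v : (V : Scheme.{u}) ⟶ Y := EffectiveEpi.desc f' v' hdesc
  have hv : f' ≫ v = v' := EffectiveEpi.fac f' v' hdesc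
  refine ⟨V, v, ⟨x', hx', rfl⟩, ?_, ?_⟩
  · rw [← cancel_epi f', ← Category.assoc, hv, hv'S, ← Category.assoc, ← hf', Category.assoc]
  · -- agreement on `U ⊓ V`
    have hle : f ⁻¹ᵁ U ⊓ V' ≤ f ⁻¹ᵁ (U ⊓ V) := fun y hy => ⟨hy.1, ⟨y, hy.2, rfl⟩⟩
    let f'' : ((f ⁻¹ᵁ U ⊓ V' : X'.Opens) : Scheme.{u}) ⟶ (U ⊓ V : X.Opens) :=
      f.resLE (U ⊓ V) (f ⁻¹ᵁ U ⊓ V') hle
    have hf'' : f'' ≫ (U ⊓ V).ι = (f ⁻¹ᵁ U ⊓ V').ι ≫ f := Scheme.Hom.resLE_comp_ι f hle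
    haveI : Flat f'' := inferInstance
    haveI : Surjective f'' := by
      refine ⟨fun y => ?_⟩
      obtain ⟨hyU, y', hy', hyy⟩ := y.2
      have hy'U : y' ∈ f ⁻¹ᵁ U := by
        show f.base y' ∈ U
        rw [hyy]; exact hyU
      refine ⟨⟨y', hy'U, hy'⟩, ?_⟩
      apply Subtype.ext
      have := congrArg (fun φ : ((f ⁻¹ᵁ U ⊓ V' : X'.Opens) : Scheme.{u}) ⟶ X =>
        φ.base ⟨y', hy'U, hy'⟩) hf''
      simpa [hyy] using this
    haveI : Epi f'' := Flat.epi_of_flat_of_surjective f''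
    rw [← cancel_epi f'']
    have e1 : f'' ≫ X.homOfLE (inf_le_right : U ⊓ V ≤ V) =
        X'.homOfLE (inf_le_right : f ⁻¹ᵁ U ⊓ V' ≤ V') ≫ f' := by
      rw [← cancel_mono V.ι, Category.assoc, Scheme.homOfLE_ι, hf'', Category.assoc, hf',
        Scheme.homOfLE_ι_assoc]
    have e2 : f'' ≫ X.homOfLE (inf_le_left : U ⊓ V ≤ U) =
        X'.homOfLE (inf_le_left : f ⁻¹ᵁ U ⊓ V' ≤ f ⁻¹ᵁ U) ≫ (f ∣_ U) := by
      rw [← cancel_mono U.ι, Category.assoc, Scheme.homOfLE_ι, hf'', Category.assoc,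
        morphismRestrict_ι, Scheme.homOfLE_ι_assoc]
    calc f'' ≫ X.homOfLE (inf_le_right : U ⊓ V ≤ V) ≫ v
        = (f'' ≫ X.homOfLE (inf_le_right : U ⊓ V ≤ V)) ≫ v := (Category.assoc _ _ _).symm
      _ = (X'.homOfLE (inf_le_right : f ⁻¹ᵁ U ⊓ V' ≤ V') ≫ f') ≫ v := by rw [e1]
      _ = X'.homOfLE (inf_le_right : f ⁻¹ᵁ U ⊓ V' ≤ V') ≫ v' := by rw [Category.assoc, hv]
      _ = X'.homOfLE (inf_le_left : f ⁻¹ᵁ U ⊓ V' ≤ f ⁻¹ᵁ U) ≫ (f ∣_ U) ≫ h := hv'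
      _ = (f'' ≫ X.homOfLE (inf_le_left : U ⊓ V ≤ U)) ≫ h := by rw [e2, Category.assoc]
      _ = f'' ≫ X.homOfLE (inf_le_left : U ⊓ V ≤ U) ≫ h := Category.assoc _ _ _

end Groth.Agent.Lib.RatExtFlat
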