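import Mathlib
set_option maxSynthPendingDepth 3

/-!
# A functional equation for rational functions

If `F ∈ k(X)` satisfies `F(0) = 1` and `F(X + Y·F(X)) = F(X)·F(Y)` then `F = 1 + aX`.
-/

namespace Groth.Agent.Lib.RatFE

open Polynomial

noncomputable section

/-! ### Algebra in `K[y]` -/

lemma assoc_step {K : Type*} [Field K] (Py Qy lin : K[X]) (a b : K) (ha : a ≠ 0) (hb : b ≠ 0)
    (hcop : IsCoprime Py Qy)
    (hid : Py.comp lin * (C b * Qy) = (C a * Py) * Qy.comp lin) :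
    (∃ c : K, Py.comp lin = Py * C c) ∧ (∃ c : K, Qy.comp lin = Qy * C c) := by
  have hcop' : IsCoprime (Py.comp lin) (Qy.comp lin) := by
    have := hcop.map (Polynomial.compRingHom lin)
    simpa using this
  have ua : IsUnit (C a : K[X]) := Polynomial.isUnit_C.mpr (IsUnit.mk0 a ha)
  have ub : IsUnit (C b : K[X]) := Polynomial.isUnit_C.mpr (IsUnit.mk0 b hb)
  have h1 : Py.comp lin ∣ Py := by
    have h : Py.comp lin ∣ (C a * Py) * Qy.comp lin := ⟨C b * Qy, hid.symm⟩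
    exact ua.dvd_mul_left.mp (hcop'.dvd_of_dvd_mul_right h)
  have h2 : Py ∣ Py.comp lin := by
    have h : Py ∣ (Py.comp lin * C b) * Qy := ⟨C a * Qy.comp lin, by linear_combination hid⟩
    exact ub.dvd_mul_right.mp (hcop.dvd_of_dvd_mul_right h)
  have h3 : Qy.comp lin ∣ Qy := by
    have h : Qy.comp lin ∣ Py.comp lin * (C b * Qy) := ⟨C a * Py, by linear_combination hid⟩
    exact ub.dvd_mul_left.mp (hcop'.symm.dvd_of_dvd_mul_left h)
  have h4 : Qy ∣ Qy.comp lin := by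
    have h : Qy ∣ Py * (C a * Qy.comp lin) :=
      ⟨Py.comp lin * C b, by linear_combination (-1 : K[X]) * hid⟩
    exact ua.dvd_mul_left.mp (hcop.symm.dvd_of_dvd_mul_left h)
  constructor
  · obtain ⟨u, hu⟩ := associated_of_dvd_dvd h2 h1
    obtain ⟨c, -, hc⟩ := Polynomial.isUnit_iff.mp u.isUnit
    exact ⟨c, by rw [hc, hu]⟩
  · obtain ⟨u, hu⟩ := associated_of_dvd_dvd h4 h3
    obtain ⟨c, -, hc⟩ := Polynomial.isUnit_iff.mp u.isUnit
    exact ⟨c, by rw [hc, hu]⟩

lemma const_eq {K : Type*} [Field K] (Py : K[X]) (β ξ c : K) (hβ : β ≠ 0) (hPy : Py ≠ 0)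
    (h : Py.comp (C β * X + C ξ) = Py * C c) :
    c = β ^ Py.natDegree ∧ Py.eval ξ = Py.eval 0 * c := by
  have hdeg : (C β * X + C ξ : K[X]).natDegree ≠ 0 := by
    rw [natDegree_linear hβ]; exact one_ne_zero
  constructor
  · have hl := leadingCoeff_comp (p := Py) hdeg
    rw [h, leadingCoeff_mul, leadingCoeff_C, leadingCoeff_linear hβ] at hl
    exact mul_left_cancel₀ (leadingCoeff_ne_zero.mpr hPy) hl
  · have := congrArg (eval 0) h
    rw [eval_comp, eval_mul, eval_C] at this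
    simpa using this

lemma degree_bounds {k : Type*} [Field k] (P Q : k[X]) (hcop : IsCoprime P Q) (hP0 : P ≠ 0)
    (p0 q0 : k) (hq0 : q0 ≠ 0)
    (hPeq : P * Q ^ P.natDegree = C p0 * P ^ P.natDegree)
    (hQeq : Q * Q ^ Q.natDegree = C q0 * P ^ Q.natDegree) :
    P.natDegree ≤ 1 ∧ Q.natDegree = 0 := by
  constructor
  · by_contra hn
    push_neg at hn
    obtain ⟨n, hn_def⟩ : ∃ n, n = P.natDegree := ⟨_, rfl⟩
    rw [← hn_def] at hPeq hn
    have hn1 : n - 1 ≠ 0 := by omega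
    have hpow : P ^ n = P * P ^ (n - 1) := by
      rw [← pow_succ', Nat.sub_add_cancel (by omega)]
    have e : P * Q ^ n = P * (C p0 * P ^ (n - 1)) := by
      rw [hPeq, hpow]; ring
    have e' := mul_left_cancel₀ hP0 e
    have hdvd : P ∣ Q ^ n := by rw [e']; exact Dvd.dvd.mul_left (dvd_pow_self P hn1) _
    have hu : IsUnit P := (hcop.pow_right (n := n)).isUnit_of_dvd' dvd_rfl hdvd
    have := natDegree_eq_zero_of_isUnit hu
    omega
  · by_contra hm
    have hdvd : Q ∣ C q0 * P ^ Q.natDegree := ⟨Q ^ Q.natDegree, hQeq.symm⟩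
    have uq : IsUnit (C q0 : k[X]) := Polynomial.isUnit_C.mpr (IsUnit.mk0 q0 hq0)
    have hdvd' : Q ∣ P ^ Q.natDegree := uq.dvd_mul_left.mp hdvd
    have hu : IsUnit Q := (hcop.pow_left (m := Q.natDegree)).isUnit_of_dvd' hdvd' dvd_rfl
    exact hm (natDegree_eq_zero_of_isUnit hu)

/-! ### Transport from `Frac k[X₀,X₁]` to `Frac (k(X₀)[y])` -/

section Transport

variable (k : Type*) [Field k]

abbrev K1 := FractionRing (MvPolynomial (Fin 1) k)
abbrev L2 := FractionRing (MvPolynomial (Fin 2) k)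
abbrev LL := FractionRing (Polynomial (K1 k))

def ι1 : k →+* K1 k := (algebraMap (MvPolynomial (Fin 1) k) (K1 k)).comp MvPolynomial.C
def ξ : K1 k := algebraMap (MvPolynomial (Fin 1) k) (K1 k) (MvPolynomial.X 0)
def ev : k[X] →+* K1 k := Polynomial.eval₂RingHom (ι1 k) (ξ k)

lemma ev_apply (P : k[X]) : ev k P = P.eval₂ (ι1 k) (ξ k) := rfl

lemma aeval_X0_injective :
    Function.Injective (Polynomial.aeval (R := k) (MvPolynomial.X 0 : MvPolynomial (Fin 1) k)) := by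
  have h : ∀ P : k[X], MvPolynomial.aeval (fun _ : Fin 1 => (Polynomial.X : k[X]))
      (Polynomial.aeval (R := k) (MvPolynomial.X 0 : MvPolynomial (Fin 1) k) P) = P := by
    intro P
    have : ((MvPolynomial.aeval (fun _ : Fin 1 => (Polynomial.X : k[X]))).comp
        (Polynomial.aeval (R := k) (MvPolynomial.X 0 : MvPolynomial (Fin 1) k))) = AlgHom.id k k[X] := by
      apply Polynomial.algHom_ext
      simp
    exact DFunLike.congr_fun this P
  exact Function.LeftInverse.injective h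

lemma ev_eq (P : k[X]) : ev k P = algebraMap (MvPolynomial (Fin 1) k) (K1 k)
    (Polynomial.aeval (R := k) (MvPolynomial.X 0 : MvPolynomial (Fin 1) k) P) := by
  rw [ev_apply, Polynomial.aeval_def, Polynomial.hom_eval₂]
  rfl

lemma ev_injective : Function.Injective (ev k) := by
  intro a b h
  rw [ev_eq, ev_eq] at h
  exact aeval_X0_injective k (IsFractionRing.injective (MvPolynomial (Fin 1) k) (K1 k) h)

lemma ev_C (c : k) : ev k (C c) = ι1 k c := by rw [ev_apply, Polynomial.eval₂_C]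

def φ : MvPolynomial (Fin 2) k →+* (K1 k)[X] :=
  (Polynomial.mapRingHom (algebraMap (MvPolynomial (Fin 1) k) (K1 k))).comp
    ((MvPolynomial.finSuccEquiv k 1).toAlgHom.toRingHom.comp
      (MvPolynomial.rename (Equiv.swap (0 : Fin 2) 1) :
        MvPolynomial (Fin 2) k →ₐ[k] MvPolynomial (Fin 2) k).toRingHom)

lemma φ_apply (r : MvPolynomial (Fin 2) k) :
    φ k r = Polynomial.map (algebraMap (MvPolynomial (Fin 1) k) (K1 k))
      (MvPolynomial.finSuccEquiv k 1 (MvPolynomial.rename (Equiv.swap (0 : Fin 2) 1) r)) := rfl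

lemma φ_X0 : φ k (MvPolynomial.X 0) = C (ξ k) := by
  rw [φ_apply, MvPolynomial.rename_X, Equiv.swap_apply_left]
  have : (MvPolynomial.X (1 : Fin 2) : MvPolynomial (Fin 2) k) =
      MvPolynomial.X (Fin.succ (0 : Fin 1)) := rfl
  rw [this, MvPolynomial.finSuccEquiv_X_succ, Polynomial.map_C]
  rfl

lemma φ_X1 : φ k (MvPolynomial.X 1) = X := by
  rw [φ_apply, MvPolynomial.rename_X, Equiv.swap_apply_right, MvPolynomial.finSuccEquiv_X_zero,
    Polynomial.map_X]

lemma φ_C (c : k) : φ k (MvPolynomial.C c) = C (ι1 k c) := by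
  rw [φ_apply, MvPolynomial.rename_C]
  have h := (MvPolynomial.finSuccEquiv k 1).commutes c
  rw [MvPolynomial.algebraMap_eq, Polynomial.algebraMap_apply, MvPolynomial.algebraMap_eq] at h
  rw [h, Polynomial.map_C]
  rfl

lemma φ_injective : Function.Injective (φ k) := by
  intro a b h
  simp only [φ_apply] at h
  have h1 := Polynomial.map_injective _
    (IsFractionRing.injective (MvPolynomial (Fin 1) k) (K1 k)) h
  have h2 := (MvPolynomial.finSuccEquiv k 1).injective h1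
  exact MvPolynomial.rename_injective _ (Equiv.injective _) h2

def ρ : (K1 k)[X] →+* LL k := algebraMap _ _

lemma ρ_injective : Function.Injective (ρ k) := IsFractionRing.injective _ _

def g : MvPolynomial (Fin 2) k →+* LL k := (ρ k).comp (φ k)

lemma g_injective : Function.Injective (g k) := by
  intro a b h
  exact φ_injective k (ρ_injective k h)

def Φ : L2 k →+* LL k := IsFractionRing.lift (g_injective k)

lemma Φ_algebraMap (r : MvPolynomial (Fin 2) k) :
    Φ k (algebraMap _ (L2 k) r) = ρ k (φ k r) :=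
  IsFractionRing.lift_algebraMap (g_injective k) r

local notation "x0" => algebraMap (MvPolynomial (Fin 2) k) (L2 k) (MvPolynomial.X 0)
local notation "x1" => algebraMap (MvPolynomial (Fin 2) k) (L2 k) (MvPolynomial.X 1)
local notation "ι" => algebraMap k (L2 k)

theorem core (P Q : k[X]) (hcop : IsCoprime P Q) (hQ0 : Q.eval 0 ≠ 0) (h1 : P.eval 0 = Q.eval 0)
    (βL u : L2 k) (hβL : βL = P.eval₂ ι x0 / Q.eval₂ ι x0) (hu : u = x0 + x1 * βL)
    (hFE : P.eval₂ ι u / Q.eval₂ ι u = βL * (P.eval₂ ι x1 / Q.eval₂ ι x1)) :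
    P.natDegree ≤ 1 ∧ Q.natDegree = 0 := by
  classical
  have hP0 : P ≠ 0 := by
    rintro rfl
    rw [Polynomial.eval_zero] at h1
    exact hQ0 h1.symm
  have hQne : Q ≠ 0 := by
    rintro rfl
    simp at hQ0
  have hι1 : Function.Injective (ι1 k) := (ι1 k).injective
  have hΦι : (Φ k).comp ι = (ρ k).comp (Polynomial.C.comp (ι1 k)) := by
    refine RingHom.ext fun c => ?_
    simp only [RingHom.comp_apply]
    rw [IsScalarTower.algebraMap_apply k (MvPolynomial (Fin 2) k) (L2 k),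
      MvPolynomial.algebraMap_eq, Φ_algebraMap, φ_C]
  have hΦev : ∀ (R : k[X]) (a : L2 k) (T : (K1 k)[X]), Φ k a = ρ k T →
      Φ k (R.eval₂ ι a) = ρ k ((R.map (ι1 k)).comp T) := by
    intro R a T ha
    rw [Polynomial.hom_eval₂, ha, hΦι, Polynomial.comp, Polynomial.eval₂_map,
      Polynomial.hom_eval₂]
  have hx0 : Φ k x0 = ρ k (C (ξ k)) := by rw [Φ_algebraMap, φ_X0]
  have hx1 : Φ k x1 = ρ k X := by rw [Φ_algebraMap, φ_X1]
  obtain ⟨Py, hPy⟩ : ∃ Py, Py = P.map (ι1 k) := ⟨_, rfl⟩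
  obtain ⟨Qy, hQy⟩ : ∃ Qy, Qy = Q.map (ι1 k) := ⟨_, rfl⟩
  have hPyne : Py ≠ 0 := by rw [hPy]; exact (Polynomial.map_ne_zero_iff hι1).mpr hP0
  have hQyne : Qy ≠ 0 := by rw [hQy]; exact (Polynomial.map_ne_zero_iff hι1).mpr hQne
  have hPydeg : Py.natDegree = P.natDegree := by
    rw [hPy]; exact natDegree_map_eq_of_injective hι1 P
  have hQydeg : Qy.natDegree = Q.natDegree := by
    rw [hQy]; exact natDegree_map_eq_of_injective hι1 Q
  have hPyξ : Py.eval (ξ k) = ev k P := by rw [hPy, Polynomial.eval_map, ev_apply]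
  have hQyξ : Qy.eval (ξ k) = ev k Q := by rw [hQy, Polynomial.eval_map, ev_apply]
  have hPy0 : Py.eval 0 = ι1 k (P.eval 0) := by
    rw [hPy, Polynomial.eval_map, Polynomial.eval₂_at_zero, Polynomial.coeff_zero_eq_eval_zero]
  have hQy0 : Qy.eval 0 = ι1 k (Q.eval 0) := by
    rw [hQy, Polynomial.eval_map, Polynomial.eval₂_at_zero, Polynomial.coeff_zero_eq_eval_zero]
  have hcopy : IsCoprime Py Qy := by
    rw [hPy, hQy]
    have := hcop.map (Polynomial.mapRingHom (ι1 k))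
    simpa only [Polynomial.coe_mapRingHom] using this
  have hevP : ev k P ≠ 0 := fun h => hP0 (ev_injective k (by rw [h, map_zero]))
  have hevQ : ev k Q ≠ 0 := fun h => hQne (ev_injective k (by rw [h, map_zero]))
  obtain ⟨β, hβ⟩ : ∃ β, β = ev k P / ev k Q := ⟨_, rfl⟩
  have hβne : β ≠ 0 := by rw [hβ]; exact div_ne_zero hevP hevQ
  obtain ⟨lin, hlin⟩ : ∃ lin : (K1 k)[X], lin = C β * X + C (ξ k) := ⟨_, rfl⟩
  have hρC : ∀ a b : K1 k, ρ k (C (a / b)) = ρ k (C a) / ρ k (C b) := by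
    intro a b
    exact map_div₀ ((ρ k).comp C) a b
  have hΦP0 : Φ k (P.eval₂ ι x0) = ρ k (C (ev k P)) := by
    rw [hΦev P x0 _ hx0, ← hPy, Polynomial.comp_C, hPyξ]
  have hΦQ0 : Φ k (Q.eval₂ ι x0) = ρ k (C (ev k Q)) := by
    rw [hΦev Q x0 _ hx0, ← hQy, Polynomial.comp_C, hQyξ]
  have hΦP1 : Φ k (P.eval₂ ι x1) = ρ k Py := by
    rw [hΦev P x1 _ hx1, ← hPy, Polynomial.comp_X]
  have hΦQ1 : Φ k (Q.eval₂ ι x1) = ρ k Qy := by
    rw [hΦev Q x1 _ hx1, ← hQy, Polynomial.comp_X]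
  have hΦβ : Φ k βL = ρ k (C β) := by
    rw [hβL, map_div₀, hΦP0, hΦQ0, hβ, hρC]
  have hΦu : Φ k u = ρ k lin := by
    rw [hu, map_add, map_mul, hx0, hx1, hΦβ, hlin, map_add, map_mul]
    ring
  have hΦPu : Φ k (P.eval₂ ι u) = ρ k (Py.comp lin) := by
    rw [hΦev P u _ hΦu, ← hPy]
  have hΦQu : Φ k (Q.eval₂ ι u) = ρ k (Qy.comp lin) := by
    rw [hΦev Q u _ hΦu, ← hQy]
  have key : ρ k (Py.comp lin) / ρ k (Qy.comp lin) = ρ k (C β) * (ρ k Py / ρ k Qy) := by
    have hL : Φ k (P.eval₂ ι u / Q.eval₂ ι u) = ρ k (Py.comp lin) / ρ k (Qy.comp lin) := by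
      rw [map_div₀, hΦPu, hΦQu]
    have hR : Φ k (βL * (P.eval₂ ι x1 / Q.eval₂ ι x1)) = ρ k (C β) * (ρ k Py / ρ k Qy) := by
      rw [map_mul, hΦβ, map_div₀, hΦP1, hΦQ1]
    rw [← hL, ← hR, hFE]
  have hlindeg : lin.natDegree ≠ 0 := by
    rw [hlin, natDegree_linear hβne]; exact one_ne_zero
  have hQQne : Qy.comp lin ≠ 0 := by
    intro h
    have hl := leadingCoeff_comp (p := Qy) hlindeg
    rw [h, leadingCoeff_zero, hlin, leadingCoeff_linear hβne] at hl
    exact mul_ne_zero (leadingCoeff_ne_zero.mpr hQyne) (pow_ne_zero _ hβne) hl.symm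
  have hid : Py.comp lin * (C 1 * Qy) = (C β * Py) * Qy.comp lin := by
    apply ρ_injective k
    have hρQQ : ρ k (Qy.comp lin) ≠ 0 := (map_ne_zero_iff _ (ρ_injective k)).mpr hQQne
    have hρQy : ρ k Qy ≠ 0 := (map_ne_zero_iff _ (ρ_injective k)).mpr hQyne
    rw [div_eq_iff hρQQ] at key
    simp only [map_mul, Polynomial.C_1, one_mul]
    have e : ρ k Py / ρ k Qy * ρ k Qy = ρ k Py := div_mul_cancel₀ _ hρQy
    rw [key]
    linear_combination (ρ k (C β) * ρ k (Qy.comp lin)) * e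
  obtain ⟨⟨c, hc⟩, ⟨c', hc'⟩⟩ := assoc_step Py Qy lin β 1 hβne one_ne_zero hcopy hid
  rw [hlin] at hc hc'
  obtain ⟨hc1, hc2⟩ := const_eq Py β (ξ k) c hβne hPyne hc
  obtain ⟨hc1', hc2'⟩ := const_eq Qy β (ξ k) c' hβne hQyne hc'
  have hPK : ev k P * ev k Q ^ P.natDegree = ι1 k (P.eval 0) * ev k P ^ P.natDegree := by
    rw [hPyξ, hPy0, hc1, hPydeg, hβ, div_pow] at hc2
    have e2 : ev k Q ^ P.natDegree ≠ 0 := pow_ne_zero _ hevQ
    calc ev k P * ev k Q ^ P.natDegree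
        = (ι1 k (P.eval 0) * (ev k P ^ P.natDegree / ev k Q ^ P.natDegree)) *
            ev k Q ^ P.natDegree := by rw [← hc2]
      _ = ι1 k (P.eval 0) * ev k P ^ P.natDegree := by rw [mul_assoc, div_mul_cancel₀ _ e2]
  have hQK : ev k Q * ev k Q ^ Q.natDegree = ι1 k (Q.eval 0) * ev k P ^ Q.natDegree := by
    rw [hQyξ, hQy0, hc1', hQydeg, hβ, div_pow] at hc2'
    have e2 : ev k Q ^ Q.natDegree ≠ 0 := pow_ne_zero _ hevQ
    calc ev k Q * ev k Q ^ Q.natDegree
        = (ι1 k (Q.eval 0) * (ev k P ^ Q.natDegree / ev k Q ^ Q.natDegree)) *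
            ev k Q ^ Q.natDegree := by rw [← hc2']
      _ = ι1 k (Q.eval 0) * ev k P ^ Q.natDegree := by rw [mul_assoc, div_mul_cancel₀ _ e2]
  have hPk : P * Q ^ P.natDegree = C (P.eval 0) * P ^ P.natDegree := by
    apply ev_injective k
    rw [map_mul, map_pow, map_mul, map_pow, ev_C]
    exact hPK
  have hQk : Q * Q ^ Q.natDegree = C (Q.eval 0) * P ^ Q.natDegree := by
    apply ev_injective k
    rw [map_mul, map_pow, map_mul, map_pow, ev_C]
    exact hQK
  exact degree_bounds P Q hcop hP0 (P.eval 0) (Q.eval 0) hQ0 hPk hQk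

theorem main (F : RatFunc k) (h0 : F.denom.eval 0 ≠ 0) (h1 : F.num.eval 0 = F.denom.eval 0)
    (hFE : RatFunc.eval ι (x0 + x1 * RatFunc.eval ι x0 F) F =
      RatFunc.eval ι x0 F * RatFunc.eval ι x1 F) :
    ∃ a : k, F = 1 + RatFunc.C a * RatFunc.X := by
  obtain ⟨hn, hm⟩ := core k F.num F.denom (RatFunc.isCoprime_num_denom F) h0 h1 _ _ rfl rfl hFE
  have hQ := Polynomial.eq_C_of_natDegree_eq_zero hm
  have hP := Polynomial.eq_X_add_C_of_natDegree_le_one hn
  rw [Polynomial.coeff_zero_eq_eval_zero] at hQ hP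
  rw [h1] at hP
  obtain ⟨q0, hq0⟩ : ∃ q0, q0 = F.denom.eval 0 := ⟨_, rfl⟩
  obtain ⟨p1, hp1⟩ : ∃ p1, p1 = F.num.coeff 1 := ⟨_, rfl⟩
  rw [← hq0] at hQ hP h0
  rw [← hp1] at hP
  refine ⟨p1 / q0, ?_⟩
  have hF := RatFunc.num_div_denom F
  rw [hP, hQ] at hF
  rw [← hF]
  simp only [map_add, map_mul, RatFunc.algebraMap_C, RatFunc.algebraMap_X]
  have hq : (RatFunc.C q0 : RatFunc k) ≠ 0 := by
    rw [Ne, map_eq_zero]; exact h0
  rw [map_div₀]
  field_simp
  try ring

end Transport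

end

end Groth.Agent.Lib.RatFE
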