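import Mathlib

/-!
# Valuation subrings of `k(x)` containing the constants (helper3)
-/

set_option autoImplicit false
universe u
open Polynomial WithZero IsDedekindDomain IsDedekindDomain.HeightOneSpectrum

namespace Groth.Agent.Lib.RatFuncValH3

variable (k : Type u) [Field k]

local notation "K" => RatFunc k

section General
variable {k}
variable (O : ValuationSubring (RatFunc k))

theorem inv_mem_of_valuation_eq_one {y : RatFunc k} (h : O.valuation y = 1) : y⁻¹ ∈ O := by
  rw [← O.valuation_le_one_iff, map_inv₀, h, inv_one]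

theorem const_mem (hk : (algebraMap k (RatFunc k)).range ≤ O.toSubring) (a : k) :
    algebraMap k[X] (RatFunc k) (C a) ∈ O := by
  have : algebraMap k (RatFunc k) a ∈ O.toSubring := hk ⟨a, rfl⟩
  rw [IsScalarTower.algebraMap_apply k k[X] (RatFunc k)] at this
  exact this

theorem valuation_const (hk : (algebraMap k (RatFunc k)).range ≤ O.toSubring) {a : k}
    (ha : a ≠ 0) : O.valuation (algebraMap k[X] (RatFunc k) (C a)) = 1 := by
  have h1 : O.valuation (algebraMap k[X] (RatFunc k) (C a)) ≤ 1 :=
    (O.valuation_le_one_iff _).mpr (const_mem O hk a)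
  have h2 : O.valuation (algebraMap k[X] (RatFunc k) (C a⁻¹)) ≤ 1 :=
    (O.valuation_le_one_iff _).mpr (const_mem O hk a⁻¹)
  have h3 : O.valuation (algebraMap k[X] (RatFunc k) (C a)) *
      O.valuation (algebraMap k[X] (RatFunc k) (C a⁻¹)) = 1 := by
    rw [← map_mul, ← map_mul, ← C_mul, mul_inv_cancel₀ ha, C_1, map_one, map_one]
  exact le_antisymm h1 (by
    by_contra hlt
    push_neg at hlt
    have : O.valuation (algebraMap k[X] (RatFunc k) (C a)) *
        O.valuation (algebraMap k[X] (RatFunc k) (C a⁻¹)) < 1 :=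
      mul_lt_one_of_lt_of_le hlt h2 
    rw [h3] at this
    exact lt_irrefl _ this)

end General

section Finite
variable {k}
variable (O : ValuationSubring (RatFunc k))
  (hk : (algebraMap k (RatFunc k)).range ≤ O.toSubring) (hO : O ≠ ⊤)
  (hX : (RatFunc.X : RatFunc k) ∈ O)

include hk hX in
theorem poly_mem (p : k[X]) : algebraMap k[X] (RatFunc k) p ∈ O := by
  induction p using Polynomial.induction_on with
  | C a => exact const_mem O hk a
  | add p q hp hq => rw [map_add]; exact add_mem hp hq
  | monomial n a _ =>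
    rw [map_mul, map_pow, RatFunc.algebraMap_X]
    exact mul_mem (const_mem O hk a) (pow_mem hX _)

include hk hO hX in
theorem exists_v : ∃ v : HeightOneSpectrum k[X], O = (v.valuation (RatFunc k)).valuationSubring := by
  classical
  let φ : k[X] →+* O := (algebraMap k[X] (RatFunc k)).codRestrict O (poly_mem O hk hX)
  have hφ : ∀ p, ((φ p : O) : RatFunc k) = algebraMap k[X] (RatFunc k) p := fun p => rfl
  let P : Ideal k[X] := (IsLocalRing.maximalIdeal O).comap φ
  haveI : P.IsPrime := Ideal.comap_isPrime φ _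
  have hPmem : ∀ p, p ∈ P ↔ O.valuation (algebraMap k[X] (RatFunc k) p) < 1 := by
    intro p
    show φ p ∈ IsLocalRing.maximalIdeal O ↔ _
    rw [O.valuation_lt_one_iff, hφ]
  have hnotP : ∀ p, p ∉ P → O.valuation (algebraMap k[X] (RatFunc k) p) = 1 := by
    intro p hp
    rw [hPmem] at hp
    exact le_antisymm ((O.valuation_le_one_iff _).mpr (poly_mem O hk hX p)) (not_lt.mp hp)
  have hPne : P ≠ ⊥ := by
    intro hP
    apply hO
    rw [eq_top_iff]
    intro f _
    obtain ⟨p, q, hq, rfl⟩ := IsFractionRing.div_surjective (A := k[X]) f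
    have hq0 : q ≠ 0 := nonZeroDivisors.ne_zero hq
    have hqP : q ∉ P := by rw [hP]; exact hq0
    rw [div_eq_mul_inv]
    exact mul_mem (poly_mem O hk hX p) (inv_mem_of_valuation_eq_one O (hnotP q hqP))
  let v : HeightOneSpectrum k[X] := ⟨P, inferInstance, hPne⟩
  refine ⟨v, ?_⟩
  have hle : valuationSubringAtPrime (RatFunc k) v ≤ O := by
    rintro x ⟨a, s, hs, rfl⟩
    exact mul_mem (poly_mem O hk hX a) (inv_mem_of_valuation_eq_one O (hnotP s hs))
  rw [← valuationSubringAtPrime_eq_valuationSubring]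
  exact (ValuationSubring.eq_of_le_of_ne_top _ hle hO).symm

end Finite

section Infinite
variable {k} [DecidableEq (RatFunc k)]
variable (O : ValuationSubring (RatFunc k))
  (hk : (algebraMap k (RatFunc k)).range ≤ O.toSubring)
  (hX : (RatFunc.X : RatFunc k) ∉ O)

include hX in
theorem Xi_lt : O.valuation (RatFunc.X : RatFunc k)⁻¹ < 1 := by
  have h1 : ¬ O.valuation (RatFunc.X : RatFunc k) ≤ 1 :=
    fun h => hX ((O.valuation_le_one_iff _).mp h)
  push_neg at h1
  rw [map_inv₀]
  exact inv_lt_one_of_one_lt₀ h1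

include hX in
theorem Xi_mem : (RatFunc.X : RatFunc k)⁻¹ ∈ O :=
  (O.valuation_le_one_iff _).mp (Xi_lt O hX).le

include hk hX in
theorem lemA (n : ℕ) (p : k[X]) (hp : p.natDegree ≤ n) :
    algebraMap k[X] (RatFunc k) p * ((RatFunc.X : RatFunc k)⁻¹) ^ n ∈ O := by
  have hX0 : (RatFunc.X : RatFunc k) ≠ 0 := RatFunc.X_ne_zero
  rw [p.as_sum_range' (n + 1) (by omega), map_sum, Finset.sum_mul]
  refine sum_mem fun i hi => ?_
  have hi' : i ≤ n := by
    have := Finset.mem_range.mp hi
    omega
  rw [← C_mul_X_pow_eq_monomial, map_mul, map_pow, RatFunc.algebraMap_X, mul_assoc]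
  refine mul_mem (const_mem O hk _) ?_
  have : (RatFunc.X : RatFunc k) ^ i * (RatFunc.X⁻¹) ^ n = (RatFunc.X⁻¹) ^ (n - i) := by
    obtain ⟨m, rfl⟩ := Nat.exists_eq_add_of_le hi'
    rw [Nat.add_sub_cancel_left, pow_add, ← mul_assoc, ← mul_pow, mul_inv_cancel₀ hX0, one_pow,
      one_mul]
  rw [this]
  exact pow_mem (Xi_mem O hX) _

include hk hX in
theorem small (m : ℕ) (p : k[X]) (hp : p.natDegree ≤ m) :
    O.valuation (algebraMap k[X] (RatFunc k) p * ((RatFunc.X : RatFunc k)⁻¹) ^ (m + 1)) < 1 := by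
  rw [pow_succ, ← mul_assoc, map_mul]
  calc O.valuation (algebraMap k[X] (RatFunc k) p * ((RatFunc.X : RatFunc k)⁻¹) ^ m) *
        O.valuation (RatFunc.X : RatFunc k)⁻¹
      ≤ 1 * O.valuation (RatFunc.X : RatFunc k)⁻¹ :=
        mul_le_mul' ((O.valuation_le_one_iff _).mpr (lemA O hk hX m p hp)) le_rfl
    _ < 1 := by rw [one_mul]; exact Xi_lt O hX

include hk hX in
theorem lemB (q : k[X]) (hq : q ≠ 0) :
    O.valuation (algebraMap k[X] (RatFunc k) q * ((RatFunc.X : RatFunc k)⁻¹) ^ q.natDegree) = 1 := by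
  set n := q.natDegree with hn
  have hdecomp : q = q.eraseLead + C q.leadingCoeff * X ^ n := (eraseLead_add_C_mul_X_pow q).symm
  have h1 : algebraMap k[X] (RatFunc k) q * ((RatFunc.X : RatFunc k)⁻¹) ^ n
      = algebraMap k[X] (RatFunc k) (C q.leadingCoeff)
        + algebraMap k[X] (RatFunc k) q.eraseLead * ((RatFunc.X : RatFunc k)⁻¹) ^ n := by
    conv_lhs => rw [hdecomp]
    rw [map_add, map_mul, map_pow, RatFunc.algebraMap_X, add_mul, mul_assoc, ← mul_pow,
      mul_inv_cancel₀ RatFunc.X_ne_zero, one_pow, mul_one, add_comm]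
  rw [h1]
  have hlc : O.valuation (algebraMap k[X] (RatFunc k) (C q.leadingCoeff)) = 1 :=
    valuation_const O hk (leadingCoeff_ne_zero.mpr hq)
  have hsmall : O.valuation (algebraMap k[X] (RatFunc k) q.eraseLead *
      ((RatFunc.X : RatFunc k)⁻¹) ^ n) < 1 := by
    rcases eraseLead_natDegree_lt_or_eraseLead_eq_zero q with h | h
    · obtain ⟨m, hm⟩ : ∃ m, n = m + 1 := ⟨n - 1, by omega⟩
      rw [hm]
      exact small O hk hX m q.eraseLead (by omega)
    · rw [h, map_zero, zero_mul, map_zero]; exact zero_lt_one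
  rw [Valuation.map_add_eq_of_lt_left _ (by rw [hlc]; exact hsmall), hlc]

include hk hX in
theorem eq_infty : O = (RatFunc.inftyValuation k).valuationSubring := by
  ext f
  rw [Valuation.mem_valuationSubring_iff]
  by_cases hf : f = 0
  · subst hf
    simp [zero_mem]
  obtain ⟨p, q, hq, rfl⟩ := IsFractionRing.div_surjective (A := k[X]) f
  have hq0 : q ≠ 0 := nonZeroDivisors.ne_zero hq
  have hp0 : p ≠ 0 := by
    rintro rfl
    simp at hf
  have hp0' : algebraMap k[X] (RatFunc k) p ≠ 0 := by simpa using hp0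
  have hq0' : algebraMap k[X] (RatFunc k) q ≠ 0 := by simpa using hq0
  have hval : RatFunc.inftyValuation k (algebraMap k[X] (RatFunc k) p / algebraMap k[X] (RatFunc k) q)
      = exp ((p.natDegree : ℤ) - q.natDegree) := by
    rw [map_div₀, RatFunc.inftyValuation_apply, RatFunc.inftyValuation_apply,
      RatFunc.inftyValuation.polynomial k hp0, RatFunc.inftyValuation.polynomial k hq0, ← exp_sub]
  rw [hval, ← exp_zero, exp_le_exp]
  have hXi0 : ((RatFunc.X : RatFunc k)⁻¹) ≠ 0 := inv_ne_zero RatFunc.X_ne_zero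
  rcases le_or_gt p.natDegree q.natDegree with hle | hlt
  · refine ⟨fun _ => by omega, fun _ => ?_⟩
    have e : algebraMap k[X] (RatFunc k) p / algebraMap k[X] (RatFunc k) q
        = (algebraMap k[X] (RatFunc k) p * ((RatFunc.X : RatFunc k)⁻¹) ^ q.natDegree) *
          (algebraMap k[X] (RatFunc k) q * ((RatFunc.X : RatFunc k)⁻¹) ^ q.natDegree)⁻¹ := by
      have := pow_ne_zero q.natDegree hXi0
      rw [div_eq_mul_inv, mul_inv, mul_mul_mul_comm, mul_inv_cancel₀ this, mul_one]
    rw [e]
    exact mul_mem (lemA O hk hX _ p hle) (inv_mem_of_valuation_eq_one O (lemB O hk hX q hq0))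
  · refine ⟨fun hmem => ?_, fun h => by omega⟩
    exfalso
    have e : (algebraMap k[X] (RatFunc k) p / algebraMap k[X] (RatFunc k) q)⁻¹
        = (algebraMap k[X] (RatFunc k) q * ((RatFunc.X : RatFunc k)⁻¹) ^ p.natDegree) *
          (algebraMap k[X] (RatFunc k) p * ((RatFunc.X : RatFunc k)⁻¹) ^ p.natDegree)⁻¹ := by
      have := pow_ne_zero p.natDegree hXi0
      rw [inv_div, div_eq_mul_inv, mul_inv, mul_mul_mul_comm, mul_inv_cancel₀ this, mul_one]
    have h1 : O.valuation (algebraMap k[X] (RatFunc k) p / algebraMap k[X] (RatFunc k) q)⁻¹ < 1 := by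
      rw [e, map_mul, map_inv₀, lemB O hk hX p hp0, inv_one, mul_one]
      obtain ⟨m, hm⟩ : ∃ m, p.natDegree = m + 1 := ⟨p.natDegree - 1, by omega⟩
      rw [hm]
      exact small O hk hX m q (by omega)
    have h2 : O.valuation (algebraMap k[X] (RatFunc k) p / algebraMap k[X] (RatFunc k) q) ≤ 1 :=
      (O.valuation_le_one_iff _).mpr hmem
    have h3 : O.valuation (algebraMap k[X] (RatFunc k) p / algebraMap k[X] (RatFunc k) q) *
        O.valuation (algebraMap k[X] (RatFunc k) p / algebraMap k[X] (RatFunc k) q)⁻¹ = 1 := by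
      rw [← map_mul, mul_inv_cancel₀ hf, map_one]
    have h4 := mul_lt_one_of_lt_of_le h1 h2
    rw [mul_comm, h3] at h4
    exact lt_irrefl _ h4

end Infinite

section Main
variable [DecidableEq (RatFunc k)]

theorem main (O : ValuationSubring (RatFunc k)) :
    ((algebraMap k (RatFunc k)).range ≤ O.toSubring ∧ O ≠ ⊤) ↔
      ((∃ v : IsDedekindDomain.HeightOneSpectrum (Polynomial k),
          O = (v.valuation (RatFunc k)).valuationSubring) ∨
        O = (RatFunc.inftyValuation k).valuationSubring) := by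
  constructor
  · rintro ⟨hk, hO⟩
    by_cases hX : (RatFunc.X : RatFunc k) ∈ O
    · exact Or.inl (exists_v O hk hO hX)
    · exact Or.inr (eq_infty O hk hX)
  · rintro (⟨v, rfl⟩ | rfl)
    · refine ⟨?_, ?_⟩
      · rintro _ ⟨a, rfl⟩
        show algebraMap k (RatFunc k) a ∈ (v.valuation (RatFunc k)).valuationSubring
        rw [Valuation.mem_valuationSubring_iff, IsScalarTower.algebraMap_apply k k[X] (RatFunc k)]
        exact v.valuation_le_one _
      · intro htop
        obtain ⟨π, hπ⟩ := v.valuation_exists_uniformizer (RatFunc k)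
        have hπ0 : π ≠ 0 := by
          rintro rfl
          rw [map_zero] at hπ
          exact exp_ne_zero hπ.symm
        have hmem : π⁻¹ ∈ (v.valuation (RatFunc k)).valuationSubring := htop ▸ ValuationSubring.mem_top _
        rw [Valuation.mem_valuationSubring_iff, map_inv₀, hπ, ← exp_neg, ← exp_zero, exp_le_exp] at hmem
        omega
    · refine ⟨?_, ?_⟩
      · rintro _ ⟨a, rfl⟩
        show algebraMap k (RatFunc k) a ∈ (RatFunc.inftyValuation k).valuationSubring
        rw [Valuation.mem_valuationSubring_iff]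
        by_cases ha : a = 0
        · rw [ha, map_zero, map_zero]; exact zero_le_one
        · rw [RatFunc.algebraMap_eq_C, RatFunc.inftyValuation.C k ha]
      · intro htop
        have hmem : (RatFunc.X : RatFunc k) ∈ (RatFunc.inftyValuation k).valuationSubring :=
          htop ▸ ValuationSubring.mem_top _
        rw [Valuation.mem_valuationSubring_iff, RatFunc.inftyValuation.X, ← exp_zero, exp_le_exp] at hmem
        omega

end Main

end Groth.Agent.Lib.RatFuncValH3
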