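import Mathlib

set_option autoImplicit false
set_option maxHeartbeats 1000000

/-! Rational maximizers of `ℓ·y / √q(y)` on the orthant (helper1). -/

namespace Groth.Agent.Lib.RatMaxH1

open Matrix

variable {n : ℕ}

/-- a quadratic `c₁ t + c₂ t²` nonnegative near `0` has `c₁ = 0` -/
lemma lin_zero (c₁ c₂ ε : ℝ) (hε : 0 < ε) (h : ∀ t, |t| < ε → 0 ≤ c₁ * t + c₂ * t ^ 2) :
    c₁ = 0 := by
  have key : ∀ t, 0 < t → t < ε → |c₁| ≤ c₂ * t := by
    intro t ht htε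
    have h1 := h t (by rw [abs_of_pos ht]; exact htε)
    have h2 := h (-t) (by rw [abs_neg, abs_of_pos ht]; exact htε)
    have h3 : |c₁| * t ≤ (c₂ * t) * t := by
      rcases abs_cases c₁ with ⟨h', _⟩ | ⟨h', _⟩ <;> rw [h'] <;> nlinarith
    exact le_of_mul_le_mul_right h3 ht
  by_contra hne
  have hpos : 0 < |c₁| := abs_pos.mpr hne
  have h1 := key (ε / 2) (by linarith) (by linarith)
  have hc₂ : 0 < c₂ := by
    by_contra hc
    push Not at hc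
    have : c₂ * (ε / 2) ≤ 0 := mul_nonpos_of_nonpos_of_nonneg hc (by linarith)
    linarith
  have htpos : 0 < min (ε / 2) (|c₁| / (2 * c₂)) := lt_min (by linarith) (by positivity)
  have h2 := key _ htpos (lt_of_le_of_lt (min_le_left _ _) (by linarith))
  have h3 : c₂ * min (ε / 2) (|c₁| / (2 * c₂)) ≤ |c₁| / 2 := by
    calc c₂ * min (ε / 2) (|c₁| / (2 * c₂)) ≤ c₂ * (|c₁| / (2 * c₂)) :=
          mul_le_mul_of_nonneg_left (min_le_right _ _) hc₂.le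
      _ = |c₁| / 2 := by field_simp
  linarith

section
variable (ℓ : Fin n → ℚ) (B : Matrix (Fin n) (Fin n) ℚ)

/-- the real matrix -/
noncomputable def BR : Matrix (Fin n) (Fin n) ℝ := B.map (fun r : ℚ => (r : ℝ))
/-- the real linear form -/
noncomputable def LR : Fin n → ℝ := fun i => (ℓ i : ℝ)
/-- the quadratic form -/
noncomputable def qf (y : Fin n → ℝ) : ℝ := y ⬝ᵥ (BR B) *ᵥ y
/-- the bilinear form -/
noncomputable def bf (u v : Fin n → ℝ) : ℝ := u ⬝ᵥ (BR B) *ᵥ v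
/-- the objective function -/
noncomputable def F (y : Fin n → ℝ) : ℝ := LR ℓ ⬝ᵥ y / Real.sqrt (qf B y)

lemma qf_eq_bf (y : Fin n → ℝ) : qf B y = bf B y y := rfl

lemma bf_add_left (u u' v : Fin n → ℝ) : bf B (u + u') v = bf B u v + bf B u' v := by
  unfold bf; rw [add_dotProduct]
lemma bf_add_right (u v v' : Fin n → ℝ) : bf B u (v + v') = bf B u v + bf B u v' := by
  unfold bf; rw [mulVec_add, dotProduct_add]
lemma bf_smul_left (c : ℝ) (u v : Fin n → ℝ) : bf B (c • u) v = c * bf B u v := by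
  unfold bf; rw [smul_dotProduct, smul_eq_mul]
lemma bf_smul_right (c : ℝ) (u v : Fin n → ℝ) : bf B u (c • v) = c * bf B u v := by
  unfold bf; rw [mulVec_smul, dotProduct_smul, smul_eq_mul]
lemma bf_neg_left (u v : Fin n → ℝ) : bf B (-u) v = - bf B u v := by
  have := bf_smul_left B (-1) u v
  simpa using this
lemma bf_neg_right (u v : Fin n → ℝ) : bf B u (-v) = - bf B u v := by
  have := bf_smul_right B (-1) u v
  simpa using this

lemma qf_expand (u v : Fin n → ℝ) (t : ℝ) :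
    qf B (u + t • v) = qf B u + t * (bf B u v + bf B v u) + t ^ 2 * qf B v := by
  simp only [qf_eq_bf, bf_add_left, bf_add_right, bf_smul_left, bf_smul_right]
  ring

lemma qf_smul (c : ℝ) (y : Fin n → ℝ) : qf B (c • y) = c ^ 2 * qf B y := by
  simp only [qf_eq_bf, bf_smul_left, bf_smul_right]; ring

lemma bf_symm_sum (u v : Fin n → ℝ) :
    bf B u v + bf B v u = ∑ i, u i * ∑ j, ((B i j : ℝ) + (B j i : ℝ)) * v j := by
  have h1 : bf B u v = ∑ i, ∑ j, u i * ((B i j : ℝ) * v j) := by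
    simp only [bf, BR, dotProduct, mulVec, map_apply, Finset.mul_sum]
  have h2 : bf B v u = ∑ i, ∑ j, u i * ((B j i : ℝ) * v j) := by
    have : bf B v u = ∑ j, ∑ i, v j * ((B j i : ℝ) * u i) := by
      simp only [bf, BR, dotProduct, mulVec, map_apply, Finset.mul_sum]
    rw [this, Finset.sum_comm]
    exact Finset.sum_congr rfl fun i _ => Finset.sum_congr rfl fun j _ => by ring
  rw [h1, h2, ← Finset.sum_add_distrib]
  refine Finset.sum_congr rfl fun i _ => ?_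
  rw [Finset.mul_sum, ← Finset.sum_add_distrib]
  exact Finset.sum_congr rfl fun j _ => by ring

/-- maximizers on the orthant -/
def IsMaxr (y : Fin n → ℝ) : Prop :=
  (∀ i, 0 ≤ y i) ∧ y ≠ 0 ∧ ∀ y' : Fin n → ℝ, (∀ i, 0 ≤ y' i) → y' ≠ 0 → F ℓ B y' ≤ F ℓ B y

lemma F_smul {c : ℝ} (hc : 0 < c) (y : Fin n → ℝ) : F ℓ B (c • y) = F ℓ B y := by
  unfold F
  rw [dotProduct_smul, qf_smul, smul_eq_mul, Real.sqrt_mul (sq_nonneg c), Real.sqrt_sq hc.le,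
    mul_div_mul_left _ _ hc.ne']

lemma sum_pos_of (y : Fin n → ℝ) (hy : ∀ i, 0 ≤ y i) (hy0 : y ≠ 0) : 0 < ∑ i, y i := by
  obtain ⟨i, hi⟩ := Function.ne_iff.mp hy0
  have hi' : y i ≠ 0 := hi
  exact Finset.sum_pos' (fun i _ => hy i)
    ⟨i, Finset.mem_univ i, lt_of_le_of_ne (hy i) (Ne.symm hi')⟩

variable (hpos : ∀ y : Fin n → ℝ, (∀ i, 0 ≤ y i) → y ≠ 0 → 0 < qf B y)
  (hℓ : ∃ y : Fin n → ℝ, (∀ i, 0 ≤ y i) ∧ 0 < LR ℓ ⬝ᵥ y)

include hpos hℓ

lemma exists_maxr : ∃ y, IsMaxr ℓ B y := by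
  obtain ⟨y₀, hy₀, hLy₀⟩ := hℓ
  have hy₀0 : y₀ ≠ 0 := by
    rintro rfl
    rw [dotProduct_zero] at hLy₀
    exact lt_irrefl _ hLy₀
  have hmem : ∀ y : Fin n → ℝ, (∀ i, 0 ≤ y i) → y ≠ 0 →
      (∑ i, y i)⁻¹ • y ∈ stdSimplex ℝ (Fin n) := by
    intro y hy hy0
    have hσ := sum_pos_of y hy hy0
    refine ⟨fun i => ?_, ?_⟩
    · rw [Pi.smul_apply, smul_eq_mul]; exact mul_nonneg (inv_nonneg.mpr hσ.le) (hy i)
    · simp only [Pi.smul_apply, smul_eq_mul]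
      rw [← Finset.mul_sum, inv_mul_cancel₀ hσ.ne']
  have hK : IsCompact (stdSimplex ℝ (Fin n)) := isCompact_stdSimplex ℝ (Fin n)
  have hne : (stdSimplex ℝ (Fin n)).Nonempty := ⟨_, hmem y₀ hy₀ hy₀0⟩
  have hsimp0 : ∀ y ∈ stdSimplex ℝ (Fin n), y ≠ 0 := by
    rintro y ⟨_, hy1⟩ rfl
    simp at hy1
  have c1 : Continuous fun y : Fin n → ℝ => LR ℓ ⬝ᵥ y := by
    unfold dotProduct; fun_prop
  have c2 : Continuous (qf B) := by
    unfold qf
    simp only [dotProduct, mulVec]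
    fun_prop
  have hcont : ContinuousOn (F ℓ B) (stdSimplex ℝ (Fin n)) := by
    show ContinuousOn (fun y => LR ℓ ⬝ᵥ y / Real.sqrt (qf B y)) _
    refine c1.continuousOn.div (Real.continuous_sqrt.comp c2).continuousOn ?_
    intro y hy
    exact (Real.sqrt_pos.mpr (hpos y hy.1 (hsimp0 y hy))).ne'
  obtain ⟨ys, hysK, hmax⟩ := hK.exists_isMaxOn hne hcont
  refine ⟨ys, hysK.1, hsimp0 ys hysK, fun y' hy' hy'0 => ?_⟩
  have := isMaxOn_iff.mp hmax _ (hmem y' hy' hy'0)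
  rwa [F_smul ℓ B (inv_pos.mpr (sum_pos_of y' hy' hy'0))] at this

lemma pos_a {y : Fin n → ℝ} (hy : IsMaxr ℓ B y) : 0 < LR ℓ ⬝ᵥ y := by
  obtain ⟨y₀, hy₀, hLy₀⟩ := hℓ
  have hy₀0 : y₀ ≠ 0 := by
    rintro rfl
    rw [dotProduct_zero] at hLy₀
    exact lt_irrefl _ hLy₀
  have h1 : 0 < F ℓ B y₀ := div_pos hLy₀ (Real.sqrt_pos.mpr (hpos y₀ hy₀ hy₀0))
  have h2 := hy.2.2 y₀ hy₀ hy₀0
  by_contra hcon
  push Not at hcon
  have : F ℓ B y ≤ 0 := div_nonpos_of_nonpos_of_nonneg hcon (Real.sqrt_nonneg _)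
  linarith

omit hℓ in
lemma sq_ineq {y : Fin n → ℝ} (hy : IsMaxr ℓ B y)
    (y' : Fin n → ℝ) (hy' : ∀ i, 0 ≤ y' i) (hy'0 : y' ≠ 0) (hL : 0 ≤ LR ℓ ⬝ᵥ y') :
    qf B y * (LR ℓ ⬝ᵥ y') ^ 2 ≤ (LR ℓ ⬝ᵥ y) ^ 2 * qf B y' := by
  have hQ := hpos y hy.1 hy.2.1
  have hQ' := hpos y' hy' hy'0
  have h := hy.2.2 y' hy' hy'0
  unfold F at h
  rw [div_le_div_iff₀ (Real.sqrt_pos.mpr hQ') (Real.sqrt_pos.mpr hQ)] at h
  have h2 := mul_self_le_mul_self (mul_nonneg hL (Real.sqrt_nonneg _)) h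
  have e1 : (LR ℓ ⬝ᵥ y' * Real.sqrt (qf B y)) * (LR ℓ ⬝ᵥ y' * Real.sqrt (qf B y))
      = qf B y * (LR ℓ ⬝ᵥ y') ^ 2 := by
    rw [mul_mul_mul_comm, Real.mul_self_sqrt hQ.le]; ring
  have e2 : (LR ℓ ⬝ᵥ y * Real.sqrt (qf B y')) * (LR ℓ ⬝ᵥ y * Real.sqrt (qf B y'))
      = (LR ℓ ⬝ᵥ y) ^ 2 * qf B y' := by
    rw [mul_mul_mul_comm, Real.mul_self_sqrt hQ'.le]; ring
  rw [e1, e2] at h2
  exact h2

/-- first order condition -/
lemma foc {y : Fin n → ℝ} (hy : IsMaxr ℓ B y) (e : Fin n → ℝ) (he : ∀ i, y i = 0 → e i = 0) :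
    (LR ℓ ⬝ᵥ y) * (bf B y e + bf B e y) = 2 * qf B y * (LR ℓ ⬝ᵥ e) := by
  classical
  have ha := pos_a ℓ B hpos hℓ hy
  have hQ := hpos y hy.1 hy.2.1
  have hIne : (Finset.univ.filter (fun i => y i ≠ 0)).Nonempty := by
    obtain ⟨i, hi⟩ := Function.ne_iff.mp hy.2.1
    exact ⟨i, Finset.mem_filter.mpr ⟨Finset.mem_univ i, hi⟩⟩
  obtain ⟨im, himI, hmin⟩ := Finset.exists_min_image _ y hIne
  have hδ : 0 < y im := lt_of_le_of_ne (hy.1 im) (Ne.symm (Finset.mem_filter.mp himI).2)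
  have hEpos : 0 < 1 + ∑ i, |e i| := by
    have : 0 ≤ ∑ i, |e i| := Finset.sum_nonneg fun i _ => abs_nonneg _
    linarith
  have hE : ∀ i, |e i| ≤ 1 + ∑ i, |e i| := by
    intro i
    have := Finset.single_le_sum (fun j _ => abs_nonneg (e j)) (Finset.mem_univ i)
    linarith
  have hbpos : 0 < |LR ℓ ⬝ᵥ e| + 1 := by positivity
  have hε : 0 < min (y im / (1 + ∑ i, |e i|)) (LR ℓ ⬝ᵥ y / (|LR ℓ ⬝ᵥ e| + 1)) :=
    lt_min (div_pos hδ hEpos) (div_pos ha hbpos)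
  have hc₁ := lin_zero
    ((LR ℓ ⬝ᵥ y) ^ 2 * (bf B y e + bf B e y) - 2 * qf B y * (LR ℓ ⬝ᵥ y) * (LR ℓ ⬝ᵥ e))
    ((LR ℓ ⬝ᵥ y) ^ 2 * qf B e - qf B y * (LR ℓ ⬝ᵥ e) ^ 2) _ hε ?_
  · have h1 : (LR ℓ ⬝ᵥ y) * ((LR ℓ ⬝ᵥ y) * (bf B y e + bf B e y) - 2 * qf B y * (LR ℓ ⬝ᵥ e))
        = 0 := by rw [← hc₁]; ring
    rcases mul_eq_zero.mp h1 with h | h
    · exact absurd h ha.ne'
    · linarith
  · intro t ht
    have ht1 : |t| < y im / (1 + ∑ i, |e i|) := lt_of_lt_of_le ht (min_le_left _ _)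
    have ht2 : |t| < LR ℓ ⬝ᵥ y / (|LR ℓ ⬝ᵥ e| + 1) := lt_of_lt_of_le ht (min_le_right _ _)
    have hynn : ∀ i, 0 ≤ (y + t • e) i := by
      intro i
      rw [Pi.add_apply, Pi.smul_apply, smul_eq_mul]
      by_cases hi : y i = 0
      · rw [hi, he i hi, mul_zero, add_zero]
      · have hiI : i ∈ Finset.univ.filter (fun i => y i ≠ 0) :=
          Finset.mem_filter.mpr ⟨Finset.mem_univ i, hi⟩
        have h1 : |t * e i| < y im := by
          rw [abs_mul]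
          calc |t| * |e i| ≤ |t| * (1 + ∑ i, |e i|) :=
                mul_le_mul_of_nonneg_left (hE i) (abs_nonneg t)
            _ < (y im / (1 + ∑ i, |e i|)) * (1 + ∑ i, |e i|) :=
                mul_lt_mul_of_pos_right ht1 hEpos
            _ = y im := div_mul_cancel₀ _ hEpos.ne'
        have h2 := neg_abs_le (t * e i)
        have h3 := hmin i hiI
        linarith
    have hL : LR ℓ ⬝ᵥ (y + t • e) = LR ℓ ⬝ᵥ y + t * (LR ℓ ⬝ᵥ e) := by
      rw [dotProduct_add, dotProduct_smul, smul_eq_mul]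
    have hLpos : 0 < LR ℓ ⬝ᵥ y + t * (LR ℓ ⬝ᵥ e) := by
      have h1 : |t * (LR ℓ ⬝ᵥ e)| < LR ℓ ⬝ᵥ y := by
        rw [abs_mul]
        calc |t| * |LR ℓ ⬝ᵥ e| ≤ |t| * (|LR ℓ ⬝ᵥ e| + 1) :=
              mul_le_mul_of_nonneg_left (by linarith) (abs_nonneg t)
          _ < (LR ℓ ⬝ᵥ y / (|LR ℓ ⬝ᵥ e| + 1)) * (|LR ℓ ⬝ᵥ e| + 1) :=
              mul_lt_mul_of_pos_right ht2 hbpos
          _ = LR ℓ ⬝ᵥ y := div_mul_cancel₀ _ hbpos.ne'
      have h2 := neg_abs_le (t * (LR ℓ ⬝ᵥ e))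
      linarith
    have hy0 : y + t • e ≠ 0 := by
      intro h0
      rw [h0, dotProduct_zero] at hL
      linarith
    have h := sq_ineq ℓ B hpos hy (y + t • e) hynn hy0 (by rw [hL]; exact hLpos.le)
    rw [hL, qf_expand] at h
    have key : (LR ℓ ⬝ᵥ y) ^ 2 * (qf B y + t * (bf B y e + bf B e y) + t ^ 2 * qf B e)
        - qf B y * (LR ℓ ⬝ᵥ y + t * (LR ℓ ⬝ᵥ e)) ^ 2
        = ((LR ℓ ⬝ᵥ y) ^ 2 * (bf B y e + bf B e y)
            - 2 * qf B y * (LR ℓ ⬝ᵥ y) * (LR ℓ ⬝ᵥ e)) * t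
          + ((LR ℓ ⬝ᵥ y) ^ 2 * qf B e - qf B y * (LR ℓ ⬝ᵥ e) ^ 2) * t ^ 2 := by ring
    linarith

lemma kernel_false {y : Fin n → ℝ} (hy : IsMaxr ℓ B y)
    (hmin : ∀ z, IsMaxr ℓ B z → (Finset.univ.filter (fun i => y i ≠ 0)).card ≤
      (Finset.univ.filter (fun i => z i ≠ 0)).card)
    (e : Fin n → ℝ) (he : ∀ i, y i = 0 → e i = 0)
    (hSe : ∀ u : Fin n → ℝ, (∀ i, y i = 0 → u i = 0) → bf B u e + bf B e u = 0)
    (hneg : ∃ i, e i < 0) : False := by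
  classical
  have ha := pos_a ℓ B hpos hℓ hy
  have hQ := hpos y hy.1 hy.2.1
  have hs : bf B y e + bf B e y = 0 := hSe y (fun i hi => hi)
  have hqe : qf B e = 0 := by
    have := hSe e he
    rw [← qf_eq_bf] at this
    linarith
  have hLe : LR ℓ ⬝ᵥ e = 0 := by
    have h := foc ℓ B hpos hℓ hy e he
    rw [hs, mul_zero] at h
    have h2 : 2 * qf B y ≠ 0 := by positivity
    exact (mul_eq_zero.mp h.symm).resolve_left h2
  have hJ : (Finset.univ.filter (fun i => e i < 0)).Nonempty := by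
    obtain ⟨i, hi⟩ := hneg
    exact ⟨i, Finset.mem_filter.mpr ⟨Finset.mem_univ i, hi⟩⟩
  obtain ⟨i₀, hi₀J, hi₀min⟩ := Finset.exists_min_image _ (fun i => y i / (-e i)) hJ
  have hei₀ : e i₀ < 0 := (Finset.mem_filter.mp hi₀J).2
  have hyi₀ : 0 < y i₀ := by
    have : y i₀ ≠ 0 := fun h => (ne_of_lt hei₀) (he i₀ h)
    exact lt_of_le_of_ne (hy.1 i₀) (Ne.symm this)
  have hznn : ∀ i, 0 ≤ (y + (y i₀ / (-e i₀)) • e) i := by
    intro i
    rw [Pi.add_apply, Pi.smul_apply, smul_eq_mul]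
    by_cases hi : e i < 0
    · have h1 := hi₀min i (Finset.mem_filter.mpr ⟨Finset.mem_univ i, hi⟩)
      have h2 : y i₀ / (-e i₀) * (-e i) ≤ y i := by
        rwa [← le_div_iff₀ (neg_pos.mpr hi)]
      linarith
    · push Not at hi
      have h1 : 0 ≤ y i₀ / (-e i₀) := div_nonneg hyi₀.le (neg_pos.mpr hei₀).le
      have h2 := mul_nonneg h1 hi
      linarith [hy.1 i]
  have hzi₀ : (y + (y i₀ / (-e i₀)) • e) i₀ = 0 := by
    rw [Pi.add_apply, Pi.smul_apply, smul_eq_mul]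
    have hne : e i₀ ≠ 0 := ne_of_lt hei₀
    have : y i₀ / (-e i₀) * e i₀ = - y i₀ := by
      rw [div_neg, neg_mul, div_mul_cancel₀ _ hne]
    rw [this]; ring
  have hLz : LR ℓ ⬝ᵥ (y + (y i₀ / (-e i₀)) • e) = LR ℓ ⬝ᵥ y := by
    rw [dotProduct_add, dotProduct_smul, hLe, smul_zero, add_zero]
  have hqz : qf B (y + (y i₀ / (-e i₀)) • e) = qf B y := by
    rw [qf_expand, hs, hqe, mul_zero, mul_zero, add_zero, add_zero]
  have hz0 : y + (y i₀ / (-e i₀)) • e ≠ 0 := by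
    intro h0
    rw [h0] at hqz
    have : qf B (0 : Fin n → ℝ) = 0 := by simp [qf]
    rw [this] at hqz
    exact hQ.ne hqz
  have hFz : F ℓ B (y + (y i₀ / (-e i₀)) • e) = F ℓ B y := by
    unfold F; rw [hLz, hqz]
  have hzmax : IsMaxr ℓ B (y + (y i₀ / (-e i₀)) • e) :=
    ⟨hznn, hz0, fun y' h1 h2 => (hy.2.2 y' h1 h2).trans (le_of_eq hFz.symm)⟩
  have hlt : (Finset.univ.filter (fun i => (y + (y i₀ / (-e i₀)) • e) i ≠ 0)).card <
      (Finset.univ.filter (fun i => y i ≠ 0)).card := by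
    apply Finset.card_lt_card
    rw [Finset.ssubset_iff_of_subset]
    · refine ⟨i₀, Finset.mem_filter.mpr ⟨Finset.mem_univ _, hyi₀.ne'⟩, ?_⟩
      intro h
      exact (Finset.mem_filter.mp h).2 hzi₀
    · intro i hi
      rw [Finset.mem_filter] at hi ⊢
      refine ⟨Finset.mem_univ _, fun h => hi.2 ?_⟩
      rw [Pi.add_apply, Pi.smul_apply, h, he i h, smul_zero, add_zero]
  exact absurd (hmin _ hzmax) (not_le.mpr hlt)

lemma kernel_zero {y : Fin n → ℝ} (hy : IsMaxr ℓ B y)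
    (hmin : ∀ z, IsMaxr ℓ B z → (Finset.univ.filter (fun i => y i ≠ 0)).card ≤
      (Finset.univ.filter (fun i => z i ≠ 0)).card)
    (e : Fin n → ℝ) (he : ∀ i, y i = 0 → e i = 0)
    (hSe : ∀ u : Fin n → ℝ, (∀ i, y i = 0 → u i = 0) → bf B u e + bf B e u = 0) : e = 0 := by
  by_contra hne
  obtain ⟨i, hi⟩ := Function.ne_iff.mp hne
  have hi' : e i ≠ 0 := hi
  rcases lt_or_gt_of_ne hi' with h | h
  · exact kernel_false ℓ B hpos hℓ hy hmin e he hSe ⟨i, h⟩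
  · refine kernel_false ℓ B hpos hℓ hy hmin (-e)
      (fun j hj => by rw [Pi.neg_apply, he j hj, neg_zero]) ?_
      ⟨i, by rw [Pi.neg_apply]; linarith⟩
    intro u hu
    rw [bf_neg_right, bf_neg_left, ← neg_add, hSe u hu, neg_zero]

end

/-- the block operator -/
def Lam (K : Type*) [Field K] (S : Fin n → Fin n → K) (I : Finset (Fin n)) :
    (Fin n → K) →ₗ[K] (Fin n → K) where
  toFun z := fun i => if i ∈ I then ∑ j ∈ I, S i j * z j else z i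
  map_add' z z' := by
    funext i
    by_cases hi : i ∈ I
    · simp only [hi, ↓reduceIte, Pi.add_apply, mul_add, Finset.sum_add_distrib]
    · simp only [hi, ↓reduceIte, Pi.add_apply]
  map_smul' c z := by
    funext i
    by_cases hi : i ∈ I
    · simp only [hi, ↓reduceIte, Pi.smul_apply, smul_eq_mul, RingHom.id_apply, Finset.mul_sum]
      exact Finset.sum_congr rfl fun j _ => by ring
    · simp only [hi, ↓reduceIte, Pi.smul_apply, smul_eq_mul, RingHom.id_apply]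

lemma Lam_mem {K : Type*} [Field K] (S : Fin n → Fin n → K) {I : Finset (Fin n)}
    (z : Fin n → K) {i : Fin n} (hi : i ∈ I) : Lam K S I z i = ∑ j ∈ I, S i j * z j := by
  simp [Lam, hi]

lemma Lam_not_mem {K : Type*} [Field K] (S : Fin n → Fin n → K) {I : Finset (Fin n)}
    (z : Fin n → K) {i : Fin n} (hi : i ∉ I) : Lam K S I z i = z i := by
  simp [Lam, hi]

lemma Lam_cast (B : Matrix (Fin n) (Fin n) ℚ) (I : Finset (Fin n)) (z : Fin n → ℚ) (i : Fin n) :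
    Lam ℝ (fun i j => (B i j : ℝ) + (B j i : ℝ)) I (fun j => (z j : ℝ)) i =
      ((Lam ℚ (fun i j => B i j + B j i) I z i : ℚ) : ℝ) := by
  by_cases hi : i ∈ I
  · rw [Lam_mem _ _ hi, Lam_mem _ _ hi]; push_cast; rfl
  · rw [Lam_not_mem _ _ hi, Lam_not_mem _ _ hi]

theorem main (ℓ : Fin n → ℚ) (B : Matrix (Fin n) (Fin n) ℚ)
    (hpos : ∀ y : Fin n → ℝ, (∀ i, 0 ≤ y i) → y ≠ 0 → 0 < qf B y)
    (hℓ : ∃ y : Fin n → ℝ, (∀ i, 0 ≤ y i) ∧ 0 < LR ℓ ⬝ᵥ y) :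
    ∃ x : Fin n → ℚ, (∀ i, 0 ≤ x i) ∧ x ≠ 0 ∧
      ∀ y : Fin n → ℝ, (∀ i, 0 ≤ y i) → y ≠ 0 → F ℓ B y ≤ F ℓ B (fun i => (x i : ℝ)) := by
  classical
  obtain ⟨y₁, hy₁⟩ := exists_maxr ℓ B hpos hℓ
  have hex : ∃ m, ∃ y, IsMaxr ℓ B y ∧ (Finset.univ.filter (fun i => y i ≠ 0)).card = m :=
    ⟨_, y₁, hy₁, rfl⟩
  obtain ⟨y, hy, hcard⟩ := Nat.find_spec hex
  have hmin : ∀ z, IsMaxr ℓ B z → (Finset.univ.filter (fun i => y i ≠ 0)).card ≤
      (Finset.univ.filter (fun i => z i ≠ 0)).card := by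
    intro z hz
    rw [hcard]
    exact Nat.find_min' hex ⟨z, hz, rfl⟩
  have ha := pos_a ℓ B hpos hℓ hy
  have hQ := hpos y hy.1 hy.2.1
  obtain ⟨I, hI⟩ : ∃ I : Finset (Fin n), I = Finset.univ.filter (fun i => y i ≠ 0) := ⟨_, rfl⟩
  have hIy : ∀ i, i ∉ I → y i = 0 := by
    intro i hi
    by_contra h
    apply hi
    rw [hI]
    exact Finset.mem_filter.mpr ⟨Finset.mem_univ i, h⟩
  have hyI : ∀ i, y i = 0 → i ∉ I := by
    intro i h hi
    rw [hI] at hi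
    exact (Finset.mem_filter.mp hi).2 h
  have hIy' : ∀ i, y i ≠ 0 → i ∈ I := fun i h => by
    by_contra hi; exact h (hIy i hi)
  have hsumI : ∀ (v : Fin n → ℝ), (∀ i, y i = 0 → v i = 0) → ∀ i,
      ∑ j, ((B i j : ℝ) + (B j i : ℝ)) * v j = ∑ j ∈ I, ((B i j : ℝ) + (B j i : ℝ)) * v j := by
    intro v hv i
    symm
    apply Finset.sum_subset (Finset.subset_univ I)
    intro j _ hj
    rw [hv j (hIy j hj), mul_zero]
  have hinjR : ∀ z : Fin n → ℝ,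
      Lam ℝ (fun i j => (B i j : ℝ) + (B j i : ℝ)) I z = 0 → z = 0 := by
    intro z hz
    have hz0 : ∀ i, y i = 0 → z i = 0 := by
      intro i hi
      have := congrFun hz i
      rwa [Lam_not_mem _ _ (hyI i hi)] at this
    apply kernel_zero ℓ B hpos hℓ hy hmin z hz0
    intro u hu
    rw [bf_symm_sum]
    apply Finset.sum_eq_zero
    intro i _
    by_cases hi : y i = 0
    · rw [hu i hi, zero_mul]
    · have := congrFun hz i
      rw [Lam_mem _ _ (hIy' i hi)] at this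
      rw [hsumI z hz0 i, this]; simp
  have hinjQ : Function.Injective (Lam ℚ (fun i j => B i j + B j i) I) := by
    rw [injective_iff_map_eq_zero]
    intro z hz
    have h1 : Lam ℝ (fun i j => (B i j : ℝ) + (B j i : ℝ)) I (fun j => (z j : ℝ)) = 0 := by
      funext i
      rw [Lam_cast, hz]; simp
    have h2 := hinjR _ h1
    funext i
    have := congrFun h2 i
    simpa using this
  have hsurjQ : Function.Surjective (Lam ℚ (fun i j => B i j + B j i) I) :=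
    LinearMap.injective_iff_surjective.mp hinjQ
  obtain ⟨z, hz⟩ := hsurjQ (fun i => if i ∈ I then ℓ i else 0)
  have hκ : 0 < LR ℓ ⬝ᵥ y / (2 * qf B y) := div_pos ha (by positivity)
  have hzy : (fun j => (z j : ℝ)) = (LR ℓ ⬝ᵥ y / (2 * qf B y)) • y := by
    have hdiff : (fun j => (z j : ℝ)) - (LR ℓ ⬝ᵥ y / (2 * qf B y)) • y = 0 := by
      apply hinjR
      rw [map_sub, sub_eq_zero]
      funext i
      rw [Lam_cast, hz]
      beta_reduce
      by_cases hi : i ∈ I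
      · rw [if_pos hi, Lam_mem _ _ hi]
        have hyi : y i ≠ 0 := fun h => hyI i h hi
        have hfoc := foc ℓ B hpos hℓ hy (Pi.single i 1) (fun i' hi' => by
          rw [Pi.single_apply, if_neg]; rintro rfl; exact hyi hi')
        have hs : bf B y (Pi.single i 1) + bf B (Pi.single i 1) y
            = ∑ j, ((B i j : ℝ) + (B j i : ℝ)) * y j := by
          rw [add_comm, bf_symm_sum, Finset.sum_eq_single i]
          · rw [Pi.single_eq_same, one_mul]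
          · intro i' _ hi'
            rw [Pi.single_eq_of_ne hi', zero_mul]
          · intro h; exact absurd (Finset.mem_univ i) h
        have hL : LR ℓ ⬝ᵥ (Pi.single i 1 : Fin n → ℝ) = (ℓ i : ℝ) := by
          rw [dotProduct_single, mul_one]; rfl
        rw [hs, hL, hsumI y (fun _ h => h) i] at hfoc
        simp only [Pi.smul_apply, smul_eq_mul]
        have hsum : ∑ j ∈ I, ((B i j : ℝ) + (B j i : ℝ)) * (LR ℓ ⬝ᵥ y / (2 * qf B y) * y j)
            = LR ℓ ⬝ᵥ y / (2 * qf B y) * ∑ j ∈ I, ((B i j : ℝ) + (B j i : ℝ)) * y j := by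
          rw [Finset.mul_sum]; exact Finset.sum_congr rfl fun j _ => by ring
        rw [hsum]
        have h2Q : (2 * qf B y) ≠ 0 := by positivity
        rw [div_mul_eq_mul_div, eq_div_iff h2Q]
        linarith
      · rw [if_neg hi, Lam_not_mem _ _ hi, Pi.smul_apply, hIy i hi, smul_zero]; simp
    exact sub_eq_zero.mp hdiff
  refine ⟨z, fun i => ?_, ?_, fun y' hy' hy'0 => ?_⟩
  · have := congrFun hzy i
    simp only [Pi.smul_apply, smul_eq_mul] at this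
    have h2 : 0 ≤ LR ℓ ⬝ᵥ y / (2 * qf B y) * y i := mul_nonneg hκ.le (hy.1 i)
    rw [← this] at h2
    exact_mod_cast h2
  · intro hz0
    have h1 : (fun j => (z j : ℝ)) = 0 := by rw [hz0]; funext j; simp
    rw [hzy] at h1
    exact hy.2.1 ((smul_eq_zero.mp h1).resolve_left hκ.ne')
  · rw [hzy, F_smul ℓ B hκ]
    exact hy.2.2 y' hy' hy'0

theorem main19138 (n : ℕ) (ℓ : Fin n → ℚ)
    (B : Matrix (Fin n) (Fin n) ℚ)
    (hnn : ∀ y : Fin n → ℝ, 0 ≤ y ⬝ᵥ (B.map (fun r : ℚ => (r : ℝ))) *ᵥ y)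
    (hpos : ∀ y : Fin n → ℝ, (∀ i, 0 ≤ y i) → y ≠ 0 → 0 < y ⬝ᵥ (B.map (fun r : ℚ => (r : ℝ))) *ᵥ y)
    (hℓ : ∃ y : Fin n → ℝ, (∀ i, 0 ≤ y i) ∧ 0 < (fun i => (ℓ i : ℝ)) ⬝ᵥ y) :
    ∃ x : Fin n → ℚ, (∀ i, 0 ≤ x i) ∧ x ≠ 0 ∧
      ∀ y : Fin n → ℝ, (∀ i, 0 ≤ y i) → y ≠ 0 →
        (fun i => (ℓ i : ℝ)) ⬝ᵥ y / Real.sqrt (y ⬝ᵥ (B.map (fun r : ℚ => (r : ℝ))) *ᵥ y) ≤
          (fun i => (ℓ i : ℝ)) ⬝ᵥ (fun i => (x i : ℝ)) /
            Real.sqrt ((fun i => (x i : ℝ)) ⬝ᵥ (B.map (fun r : ℚ => (r : ℝ))) *ᵥ (fun i => (x i : ℝ))) :=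
  main ℓ B hpos hℓ

end Groth.Agent.Lib.RatMaxH1
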