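import Mathlib
import Groth.Prelude
import Groth.Agent.Lib.SepTan3_helper2
import Groth.Agent.Lib.HypReg3_helper9
import Groth.Agent.Lib.GenLoc2_helper8
import Groth.Agent.Lib.FinPtsGen1_helper5
import Groth.Agent.Lib.ESZ1_helper6
import Groth.Agent.Lib.PB9_helper8

/-!
# Sections of a very ample module vanishing at a rational point but not at finitely many other
points (helper2)
APPEND-ONLY once landed.
-/

set_option autoImplicit false
universe u
open CategoryTheory CategoryTheory.Limits AlgebraicGeometry TopologicalSpace Opposite DirectSum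
open HomogeneousLocalization QcqsLoc GenLocH8 TensH8 PBH8

namespace Groth.Agent.Lib.RatPtSecH2

open Groth.Agent.GrTw Groth.Agent.ProjUPU Groth.Agent.Lib.TwPullH2 Groth.Agent.Lib.ClProjIdealH2
open Groth.Agent.Lib.SepTanH2

section Pn
variable (k : Type u) [Field k] (n : ℕ) (i : Fin (n + 1))

theorem primeIdealOf_le_span_linPt' (y : Proj (CohB1.polyGrading n k)) (hy : y ∈ Dp k n i)
    (a : Fin (n + 1) → k)
    (key : ∀ F : MvPolynomial (Fin (n + 1)) k,
      dh k n i F ∈ ((isAffineOpen_Dp k n i).primeIdealOf ⟨y, hy⟩).asIdeal ↔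
        MvPolynomial.eval a F = 0) :
    ((isAffineOpen_Dp k n i).primeIdealOf ⟨y, hy⟩).asIdeal ≤
      Ideal.span (Set.range fun j => dh k n i (linPt k n i a j)) := by
  intro s hs
  obtain ⟨F, rfl⟩ := dh_surjective k n i s
  have h0 : MvPolynomial.eval a F = 0 := (key F).mp hs
  have h1 := dh_sub_const_mem k n i a F
  rw [h0, map_zero, map_zero, sub_zero] at h1
  exact h1

/-- A rational point of `P^n_k` (one whose ideal in a chart is the kernel of an evaluation) is
separated from any other point by a linear form. -/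
theorem exists_lin_sep_of_key (y z : Proj (CohB1.polyGrading n k)) (hyi : y ∈ Dp k n i)
    (a : Fin (n + 1) → k) (hai : a i = 1)
    (key : ∀ F : MvPolynomial (Fin (n + 1)) k,
      dh k n i F ∈ ((isAffineOpen_Dp k n i).primeIdealOf ⟨y, hyi⟩).asIdeal ↔
        MvPolynomial.eval a F = 0)
    (hyz : y ≠ z) :
    ∃ c : Fin (n + 1) → k, y ∉ Proj.basicOpen (CohB1.polyGrading n k) (lin k n c) ∧
      z ∈ Proj.basicOpen (CohB1.polyGrading n k) (lin k n c) := by
  by_contra hcon
  push Not at hcon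
  have hz1 : ∀ j, z ∉ Proj.basicOpen (CohB1.polyGrading n k) (linPt k n i a j) := by
    intro j
    obtain ⟨c, hc⟩ := exists_lin_eq_linPt k n i a j
    rw [← hc]
    apply hcon c
    rw [hc, ← mem_Dp_lin_iff k n i y hyi (linPt_mem k n i a j), key]
    exact eval_linPt k n i a hai j
  have hzi : z ∈ Dp k n i := by
    by_contra hzi
    obtain ⟨j, hzj⟩ := Groth.Agent.VAmpPn.hcovX n z
    rw [Proj.mem_basicOpen] at hzi hzj
    rw [not_not] at hzi
    apply hzj
    have h1 := hz1 j
    rw [Proj.mem_basicOpen, not_not] at h1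
    have h2 : MvPolynomial.X j = linPt k n i a j + MvPolynomial.C (a j) * MvPolynomial.X i := by
      unfold linPt
      ring
    rw [h2]
    exact Ideal.add_mem _ h1 (Ideal.mul_mem_left _ _ hzi)
  have hspan : Ideal.span (Set.range fun j => dh k n i (linPt k n i a j)) ≤
      ((isAffineOpen_Dp k n i).primeIdealOf ⟨z, hzi⟩).asIdeal := by
    rw [Ideal.span_le]
    rintro _ ⟨j, rfl⟩
    exact (mem_Dp_lin_iff k n i z hzi (linPt_mem k n i a j)).mpr (hz1 j)
  have hle : ((isAffineOpen_Dp k n i).primeIdealOf ⟨y, hyi⟩).asIdeal ≤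
      ((isAffineOpen_Dp k n i).primeIdealOf ⟨z, hzi⟩).asIdeal :=
    (primeIdealOf_le_span_linPt' k n i y hyi a key).trans hspan
  have hge : ((isAffineOpen_Dp k n i).primeIdealOf ⟨z, hzi⟩).asIdeal ≤
      ((isAffineOpen_Dp k n i).primeIdealOf ⟨y, hyi⟩).asIdeal := by
    intro s hs
    obtain ⟨F, rfl⟩ := dh_surjective k n i s
    rw [key]
    by_contra hne
    have h2 := hspan (dh_sub_const_mem k n i a F)
    have h3 : dh k n i (MvPolynomial.C (MvPolynomial.eval a F)) ∈
        ((isAffineOpen_Dp k n i).primeIdealOf ⟨z, hzi⟩).asIdeal := by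
      have h4 := Ideal.sub_mem _ hs h2
      rwa [sub_sub_cancel] at h4
    have h4 : IsUnit (dh k n i (MvPolynomial.C (MvPolynomial.eval a F))) :=
      ((IsUnit.mk0 _ hne).map MvPolynomial.C).map (dh k n i)
    exact ((isAffineOpen_Dp k n i).primeIdealOf ⟨z, hzi⟩).isPrime.ne_top
      (Ideal.eq_top_of_isUnit_mem _ h3 h4)
  exact hyz (primeIdealOf_injective (isAffineOpen_Dp k n i) hyi hzi (le_antisymm hle hge))

/-- The coefficient vectors of the linear forms vanishing at a point. -/
noncomputable def vanSub (y : Proj (CohB1.polyGrading n k)) : Submodule k (Fin (n + 1) → k) where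
  carrier := {c | lin k n c ∈ y.asHomogeneousIdeal.toIdeal}
  add_mem' := by
    intro a b ha hb
    rw [Set.mem_setOf_eq, lin_add]
    exact Ideal.add_mem _ ha hb
  zero_mem' := by
    have h0 : lin k n 0 = 0 := by
      unfold lin
      simp
    rw [Set.mem_setOf_eq, h0]
    exact Ideal.zero_mem _
  smul_mem' := by
    intro t a ha
    rw [Set.mem_setOf_eq, lin_smul]
    exact Ideal.mul_mem_left _ _ ha

theorem mem_vanSub (y : Proj (CohB1.polyGrading n k)) (c : Fin (n + 1) → k) :
    c ∈ vanSub k n y ↔ y ∉ Proj.basicOpen (CohB1.polyGrading n k) (lin k n c) := by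
  rw [Proj.mem_basicOpen, not_not]
  rfl

/-- The constant `c` restricted to the chart is the dehomogenisation of the constant polynomial. -/
theorem res_strP (c : k) :
    ((Proj (CohB1.polyGrading n k)).presheaf.map (homOfLE (le_top : Dp k n i ≤ ⊤)).op).hom
      (strP k n c) = dh k n i (MvPolynomial.C c) := by
  have hC : MvPolynomial.C c ∈ CohB1.polyGrading n k 0 := by
    rw [← MvPolynomial.algebraMap_eq]
    exact SetLike.algebraMap_mem_graded _ c
  have h1 : dh k n i (MvPolynomial.C c) = _ := dehom_of_mem _ (Groth.Agent.VAmpPn.hX n i) hC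
  rw [h1]
  apply ext_valO
  intro y
  have h2 := valO_strP k n c y.1
  refine Eq.trans ?_ (Eq.trans h2 ?_)
  · rfl
  · rw [Groth.Agent.GStar.valO_frO, Localization.mk_eq_mk_iff, Localization.r_iff_exists]
    exact ⟨1, by simp⟩

end Pn

section Rat

theorem ev_eq_zero_iff {X Y : Scheme.{u}} (r : X ⟶ Y) {D : Y.Opens} (hD : IsAffineOpen D) (x : X)
    (hx : r.base x ∈ D) (s : Γ(Y, D)) :
    (X.residue x).hom ((X.presheaf.germ (r ⁻¹ᵁ D) x hx).hom ((r.app D).hom s)) = 0 ↔
      s ∈ (hD.primeIdealOf ⟨r.base x, hx⟩).asIdeal := by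
  rw [mem_primeIdealOf_iff hD (r.base x) hx s]
  have h1 : (X.residue x).hom ((X.presheaf.germ (r ⁻¹ᵁ D) x hx).hom ((r.app D).hom s)) = 0 ↔
      ¬ IsUnit ((X.presheaf.germ (r ⁻¹ᵁ D) x hx).hom ((r.app D).hom s)) := by
    show IsLocalRing.residue _ _ = 0 ↔ _
    rw [IsLocalRing.residue_eq_zero_iff, IsLocalRing.mem_maximalIdeal, mem_nonunits_iff]
  rw [h1, ← Scheme.mem_basicOpen X _ x hx, ← Scheme.preimage_basicOpen]
  rfl

variable {k : Type u} [Field k] {n : ℕ} {X : Scheme.{u}} [X.Over (Spec (CommRingCat.of k))]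
  (r : X ⟶ CohB1.ProjSpace n k)
  (hr : r ≫ CohB1.ProjSpace.toSpec n k = X ↘ Spec (CommRingCat.of k))

include hr in
theorem ev_dh_C (x : X) (i : Fin (n + 1)) (hxi : r.base x ∈ Dp k n i) (c : k) :
    (X.residue x).hom ((X.presheaf.germ (r ⁻¹ᵁ Dp k n i) x hxi).hom
      ((r.app (Dp k n i)).hom (dh k n i (MvPolynomial.C c)))) = Curv2.resMap k X x c := by
  have h1 : Coh.toGlobal (X ↘ Spec (CommRingCat.of k)) c = (r.appTop).hom (strP k n c) :=
    toGlobal_eq (X ↘ Spec (CommRingCat.of k)) r hr c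
  show (X.residue x).hom _ = (X.residue x).hom ((X.presheaf.germ ⊤ x trivial).hom
    (Coh.toGlobal (X ↘ Spec (CommRingCat.of k)) c))
  congr 1
  rw [h1, ← res_strP k n i c]
  have h3 := r.naturality (homOfLE (le_top : Dp k n i ≤ ⊤)).op
  have h4 := ConcreteCategory.congr_hom h3 (strP k n c)
  refine Eq.trans (congrArg (X.presheaf.germ (r ⁻¹ᵁ Dp k n i) x hxi).hom h4) ?_
  exact TopCat.Presheaf.germ_res_apply X.presheaf
    (homOfLE (le_top : r ⁻¹ᵁ Dp k n i ≤ ⊤)) x hxi ((r.appTop).hom (strP k n c))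

include hr in
/-- A rational point of `X` maps to a point of `P^n_k` whose ideal in a chart is the kernel of an
evaluation. -/
theorem exists_key (x : X) (hx : Function.Surjective (Curv2.resMap k X x)) (i : Fin (n + 1))
    (hxi : r.base x ∈ Dp k n i) :
    ∃ a : Fin (n + 1) → k, a i = 1 ∧ ∀ F : MvPolynomial (Fin (n + 1)) k,
      dh k n i F ∈ ((isAffineOpen_Dp k n i).primeIdealOf ⟨r.base x, hxi⟩).asIdeal ↔
        MvPolynomial.eval a F = 0 := by
  let ev : Γ(Proj (CohB1.polyGrading n k), Dp k n i) →+* X.residueField x :=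
    (X.residue x).hom.comp ((X.presheaf.germ (r ⁻¹ᵁ Dp k n i) x hxi).hom.comp
      (r.app (Dp k n i)).hom)
  have hinj : Function.Injective (Curv2.resMap k X x) := (Curv2.resMap k X x).injective
  choose a ha using fun j => hx (ev (dh k n i (MvPolynomial.X j)))
  have hcomp : ev.comp (dh k n i) = (Curv2.resMap k X x).comp (MvPolynomial.eval a) := by
    apply MvPolynomial.ringHom_ext
    · intro c
      show ev (dh k n i (MvPolynomial.C c)) =
        Curv2.resMap k X x (MvPolynomial.eval a (MvPolynomial.C c))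
      rw [MvPolynomial.eval_C]
      exact ev_dh_C r hr x i hxi c
    · intro j
      show ev (dh k n i (MvPolynomial.X j)) =
        Curv2.resMap k X x (MvPolynomial.eval a (MvPolynomial.X j))
      rw [MvPolynomial.eval_X]
      exact (ha j).symm
  have hF : ∀ F, ev (dh k n i F) = Curv2.resMap k X x (MvPolynomial.eval a F) :=
    fun F => RingHom.congr_fun hcomp F
  refine ⟨a, ?_, ?_⟩
  · apply hinj
    rw [ha i, dh_X_self, map_one, map_one]
  · intro F
    have h := ev_eq_zero_iff (Y := Proj (CohB1.polyGrading n k)) r (isAffineOpen_Dp k n i) x hxi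
      (dh k n i F)
    refine h.symm.trans ?_
    show ev (dh k n i F) = 0 ↔ _
    rw [hF, map_eq_zero_iff _ hinj]

end Rat

section Main

/-- **S7626** -/
theorem main7626 (k : Type u) [Field k] [Infinite k] (X : Scheme.{u})
    [X.Over (Spec (CommRingCat.of k))] (L : X.Modules)
    (hL : RelAmple.IsRelVeryAmplePn (X ↘ (Spec (CommRingCat.of k))) L)
    (x : X) (hx : Function.Surjective (Curv2.resMap k X x)) (n : ℕ) (pts : Fin n → X)
    (hne : ∀ i, pts i ≠ x) :
    ∃ s : Coh.structureModule X ⟶ L, x ∉ CohB1.genLocus L s ∧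
      ∀ i, pts i ∈ CohB1.genLocus L s := by
  obtain ⟨N, i, hi, hcomp, ⟨eL⟩⟩ := hL
  obtain ⟨r, hrdef⟩ : ∃ r : X ⟶ CohB1.ProjSpace N k,
      r = i ≫ (Groth.Agent.Lib.ESZH6.projIso N k).inv := ⟨_, rfl⟩
  have hr : r ≫ CohB1.ProjSpace.toSpec N k = X ↘ Spec (CommRingCat.of k) := by
    rw [hrdef, Category.assoc, Groth.Agent.Lib.ESZH6.projIso_inv_toSpec]
    exact hcomp
  haveI : IsImmersion i := hi
  haveI : IsImmersion r := by rw [hrdef]; infer_instance
  have hinj : Function.Injective r.base := r.isEmbedding.injective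
  obtain ⟨e1⟩ := Groth.Agent.Lib.ESZH6.pullback_comp_inv_twist i 1
  obtain ⟨θ⟩ : Nonempty ((Scheme.Modules.pullback r).obj (Twist.twistProjSpace N k 1) ≅ L) := by
    rw [hrdef]
    exact ⟨e1 ≪≫ eL.symm⟩
  let e0 : Coh.structureModule X ≅
      (Scheme.Modules.pullback r).obj (Coh.structureModule (CohB1.ProjSpace N k)) :=
    (PBH8.pullbackUnitIso r).symm
  have hinv := Groth.Agent.Horrocks.isInvertible_OO N k 1
  have hgl : ∀ c : Fin (N + 1) → k,
      CohB1.genLocus L ((e0.hom ≫ (Scheme.Modules.pullback r).map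
        (HypReg.sec k N ⟨lin k N c, lin_mem k N c⟩)) ≫ θ.hom) =
      r ⁻¹ᵁ Proj.basicOpen (CohB1.polyGrading N k) (lin k N c) := by
    intro c
    rw [Groth.Agent.FinPtsGen.genLocus_comp_iso, GenLocH8.genLocus_pullback r _ hinv,
      HypReg.genLocus_sec]
  obtain ⟨j, hxj⟩ := Groth.Agent.VAmpPn.hcovX N (r.base x)
  obtain ⟨a, haj, key⟩ := exists_key r hr x hx j hxj
  have hsep : ∀ t : Fin n, ∃ c, c ∈ vanSub k N (r.base x) ∧ c ∉ vanSub k N (r.base (pts t)) := by
    intro t
    have hne' : r.base x ≠ r.base (pts t) := fun h => hne t (hinj h).symm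
    obtain ⟨c, hc1, hc2⟩ :=
      exists_lin_sep_of_key k N j (r.base x) (r.base (pts t)) hxj a haj key hne'
    refine ⟨c, (mem_vanSub k N _ c).mpr hc1, fun h => (mem_vanSub k N _ c).mp h hc2⟩
  obtain ⟨⟨c, hcW⟩, hc⟩ := Submodule.exists_forall_notMem_of_forall_ne_top
    (fun t : Fin n => Submodule.comap (vanSub k N (r.base x)).subtype
      (vanSub k N (r.base (pts t)))) (by
      intro t htop
      obtain ⟨c, hc1, hc2⟩ := hsep t
      apply hc2
      have h1 : (⟨c, hc1⟩ : vanSub k N (r.base x)) ∈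
          Submodule.comap (vanSub k N (r.base x)).subtype (vanSub k N (r.base (pts t))) := by
        rw [htop]
        trivial
      exact h1)
  refine ⟨(e0.hom ≫ (Scheme.Modules.pullback r).map
    (HypReg.sec k N ⟨lin k N c, lin_mem k N c⟩)) ≫ θ.hom, ?_, ?_⟩
  · rw [hgl c]
    exact (mem_vanSub k N _ c).mp hcW
  · intro t
    rw [hgl c]
    have h1 : c ∉ vanSub k N (r.base (pts t)) := hc t
    rw [mem_vanSub, not_not] at h1
    exact h1

end Main

end Groth.Agent.Lib.RatPtSecH2
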