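import Mathlib
import Groth.Agent.Lib.GUComponents_helper3

/-!
# Rational sections of unramified separated morphisms: preliminaries (helper3)
-/

set_option autoImplicit false
set_option maxSynthPendingDepth 3
universe u

namespace Groth.Agent.Lib.RatSecH3

open IsLocalRing AlgebraicGeometry CategoryTheory

/-- a flat local homomorphism into a local domain which is "birational" is bijective -/
theorem bijective_of_flat_of_birational {A B K L : Type*} [CommRing A] [CommRing B]
    [CommRing K] [CommRing L] [IsLocalRing A] [IsLocalRing B] [IsDomain B]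
    (φ : A →+* B) [IsLocalHom φ] (hφ : φ.Flat)
    (σA : A →+* K) (σB : B →+* L) (ψ : K →+* L)
    (hcomm : ∀ a, ψ (σA a) = σB (φ a))
    (hσB : Function.Injective σB) (hψ : Function.Surjective ψ)
    (hfrac : ∀ c : K, ∃ a s : A, s ≠ 0 ∧ c * σA s = σA a) :
    Function.Bijective φ := by
  letI := φ.toAlgebra
  haveI : Module.Flat A B := hφ
  haveI : IsLocalHom (algebraMap A B) := ‹IsLocalHom φ›
  haveI : Module.FaithfullyFlat A B := Module.FaithfullyFlat.of_flat_of_isLocalHom
  have hinj : Function.Injective φ := FaithfulSMul.algebraMap_injective A B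
  refine ⟨hinj, fun b => ?_⟩
  obtain ⟨c, hc⟩ := hψ (σB b)
  obtain ⟨a, s, hs, hcs⟩ := hfrac c
  have h1 : b * φ s = φ a := by
    apply hσB
    rw [map_mul, ← hc, ← hcomm, ← hcomm, ← map_mul, hcs]
  have h2 : a ∈ Ideal.span {s} := by
    have h3 := Ideal.comap_map_eq_self_of_faithfullyFlat (A := A) (B := B) (Ideal.span {s})
    rw [← h3, Ideal.mem_comap, Ideal.map_span, Set.image_singleton, Ideal.mem_span_singleton]
    exact ⟨b, by rw [mul_comm]; exact h1.symm⟩
  obtain ⟨a', rfl⟩ := Ideal.mem_span_singleton'.mp h2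
  refine ⟨a', ?_⟩
  have hs' : φ s ≠ 0 := fun h => hs (hinj (h.trans (map_zero _).symm))
  have h4 : (φ a' - b) * φ s = 0 := by rw [sub_mul, h1, map_mul]; ring
  rcases mul_eq_zero.mp h4 with h | h
  · exact sub_eq_zero.mp h
  · exact (hs' h).elim

section Top

variable {X : Type*} [TopologicalSpace X]

/-- if the irreducible components are locally finite and `y` lies on a unique component `Z₀`,
then `Z₀` is a neighbourhood of `y` -/
theorem exists_open_subset_component
    (hcomp : LocallyFinite (fun Z : ↥(irreducibleComponents X) => (Z : Set X))) (y : X)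
    (Z₀ : Set X) (hZ₀ : Z₀ ∈ irreducibleComponents X)
    (huniq : ∀ Z ∈ irreducibleComponents X, y ∈ Z → Z = Z₀) :
    ∃ N : Set X, IsOpen N ∧ y ∈ N ∧ N ⊆ Z₀ := by
  obtain ⟨t, ht, hfin⟩ := hcomp y
  obtain ⟨F, hF⟩ : ∃ F : Set ↥(irreducibleComponents X),
      F = {Z : ↥(irreducibleComponents X) | ((Z : Set X) ∩ t).Nonempty ∧ (Z : Set X) ≠ Z₀} :=
    ⟨_, rfl⟩
  have hFfin : F.Finite := hfin.subset (fun Z hZ => by rw [hF] at hZ; exact hZ.1)
  obtain ⟨C, hC⟩ : ∃ C : Set X, C = ⋃ Z ∈ F, (Z : Set X) := ⟨_, rfl⟩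
  have hCcl : IsClosed C := by
    rw [hC]
    exact hFfin.isClosed_biUnion fun Z _ => isClosed_of_mem_irreducibleComponents _ Z.2
  have hyC : y ∉ C := by
    intro h
    rw [hC, Set.mem_iUnion₂] at h
    obtain ⟨Z, hZ, hyZ⟩ := h
    rw [hF] at hZ
    exact hZ.2 (huniq Z.1 Z.2 hyZ)
  refine ⟨interior t ∩ Cᶜ, isOpen_interior.inter hCcl.isOpen_compl,
    ⟨mem_interior_iff_mem_nhds.mpr ht, hyC⟩, ?_⟩
  rintro s ⟨hst, hsC⟩
  by_contra hsZ
  apply hsC
  rw [hC, Set.mem_iUnion₂]
  refine ⟨⟨irreducibleComponent s, irreducibleComponent_mem_irreducibleComponents s⟩, ?_,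
    mem_irreducibleComponent⟩
  rw [hF]
  refine ⟨⟨s, mem_irreducibleComponent, interior_subset hst⟩, ?_⟩
  intro h
  apply hsZ
  rw [← h]
  exact mem_irreducibleComponent

end Top

section Sch

variable {X Y : Scheme.{u}}

/-- a point with geometrically unibranch local ring on a reduced scheme with locally finite
components has an irreducible affine open neighbourhood -/
theorem exists_irreducible_affine_nhd
    (hcomp : LocallyFinite (fun Z : ↥(irreducibleComponents ↥Y) => (Z : Set ↥Y)))
    (y : Y) (hy : CAlg2.IsGeomUnibranch (Y.presheaf.stalk y)) :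
    ∃ V : Y.Opens, IsAffineOpen V ∧ y ∈ V ∧ IsIrreducible (V : Set Y) := by
  have hmem := irreducibleComponent_mem_irreducibleComponents y
  obtain ⟨N, hNo, hyN, hNZ⟩ := exists_open_subset_component hcomp y (irreducibleComponent y) hmem
    (fun Z hZ hyZ => Groth.Agent.Lib.GUComponentsH3.component_unique_of_isGeomUnibranch Y y hy
      Z hZ _ hmem hyZ mem_irreducibleComponent)
  obtain ⟨V, hV, hyV, hVN⟩ := exists_isAffineOpen_mem_and_subset (x := y) (U := ⟨N, hNo⟩) hyN
  refine ⟨V, hV, hyV, ⟨y, hyV⟩, ?_⟩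
  exact hmem.1.2.open_subset V.isOpen (fun t ht => hNZ (hVN ht))

/-- sections of an irreducible reduced affine open form a domain -/
theorem isDomain_of_isIrreducible [IsReduced Y] (V : Y.Opens)
    (hirr : IsIrreducible (V : Set Y)) : IsDomain Γ(Y, V) := by
  haveI : IrreducibleSpace ↥V.toScheme := Subtype.irreducibleSpace hirr
  haveI : IsIntegral V.toScheme := isIntegral_of_irreducibleSpace_of_isReduced _
  haveI : IsDomain Γ(V.toScheme, ⊤) := inferInstance
  exact (V.topIso).commRingCatIsoToRingEquiv.symm.toMulEquiv.isDomain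

/-- **Sections of unramified morphisms are open immersions.** -/
theorem isOpenImmersion_of_section (f : X ⟶ Y) [LocallyOfFiniteType f] [FormallyUnramified f]
    {T : Scheme.{u}} (u : T ⟶ X) [IsOpenImmersion (u ≫ f)] : IsOpenImmersion u := by
  haveI : MorphismProperty.HasOfPostcompProperty @IsOpenImmersion
      (@FormallyUnramified ⊓ @LocallyOfFiniteType) := by
    rw [MorphismProperty.hasOfPostcompProperty_iff_le_diagonal]
    rintro A B g ⟨h1, h2⟩
    haveI := h1
    haveI := h2
    exact inferInstanceAs (IsOpenImmersion (Limits.pullback.diagonal g))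
  exact MorphismProperty.of_postcomp (W := @IsOpenImmersion)
    (W' := @FormallyUnramified ⊓ @LocallyOfFiniteType) u f ⟨inferInstance, inferInstance⟩
    inferInstance

end Sch

end Groth.Agent.Lib.RatSecH3
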