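import Mathlib
import Groth.Agent.Lib.RatSec1_helper3

/-!
# Rational sections: stalks over an affine open with domain sections (helper3)
-/

set_option autoImplicit false
set_option maxSynthPendingDepth 3
universe u

namespace Groth.Agent.Lib.RatSecH3

open IsLocalRing AlgebraicGeometry CategoryTheory

section Sch

variable {Y : Scheme.{u}} (V : Y.Opens) (hV : IsAffineOpen V) [IsDomain Γ(Y, V)]

include hV

theorem primeCompl_le_nonZeroDivisors (y : Y) (hy : y ∈ V) :
    (hV.primeIdealOf ⟨y, hy⟩).asIdeal.primeCompl ≤ nonZeroDivisors Γ(Y, V) := by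
  intro s hs
  rw [mem_nonZeroDivisors_iff_ne_zero]
  rintro rfl
  exact hs (Ideal.zero_mem _)

theorem germ_injective_of_isDomain (y : Y) (hy : y ∈ V) :
    Function.Injective (Y.presheaf.germ V y hy).hom := by
  letI := Y.presheaf.algebra_section_stalk ⟨y, hy⟩
  haveI := hV.isLocalization_stalk ⟨y, hy⟩
  exact IsLocalization.injective (M := (hV.primeIdealOf ⟨y, hy⟩).asIdeal.primeCompl)
    (Y.presheaf.stalk y) (primeCompl_le_nonZeroDivisors V hV y hy)

theorem isDomain_stalk_of_isDomain (y : Y) (hy : y ∈ V) : IsDomain (Y.presheaf.stalk y) := by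
  letI := Y.presheaf.algebra_section_stalk ⟨y, hy⟩
  haveI := hV.isLocalization_stalk ⟨y, hy⟩
  exact IsLocalization.isDomain_of_le_nonZeroDivisors
    (M := (hV.primeIdealOf ⟨y, hy⟩).asIdeal.primeCompl)
    (Y.presheaf.stalk y) (primeCompl_le_nonZeroDivisors V hV y hy)

theorem isGermInjectiveAt_of_isDomain (y : Y) (hy : y ∈ V) : Y.IsGermInjectiveAt y :=
  ⟨⟨V, hy, hV, germ_injective_of_isDomain V hV y hy⟩⟩

/-- every element of the stalk is a germ fraction -/
theorem exists_germ_mul_eq (y : Y) (hy : y ∈ V) (c : Y.presheaf.stalk y) :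
    ∃ a s : Γ(Y, V), s ≠ 0 ∧ c * Y.presheaf.germ V y hy s = Y.presheaf.germ V y hy a := by
  letI := Y.presheaf.algebra_section_stalk ⟨y, hy⟩
  haveI := hV.isLocalization_stalk ⟨y, hy⟩
  obtain ⟨⟨a, s⟩, h⟩ := IsLocalization.surj (hV.primeIdealOf ⟨y, hy⟩).asIdeal.primeCompl c
  refine ⟨a, s.1, ?_, h⟩
  rintro h0
  exact s.2 (h0 ▸ Ideal.zero_mem _)

theorem stalkSpecializes_injective_of_isDomain {y y' : Y} (h : y' ⤳ y) (hy : y ∈ V) :
    Function.Injective (Y.presheaf.stalkSpecializes h).hom := by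
  have hy' : y' ∈ V := h.mem_open V.isOpen hy
  rw [injective_iff_map_eq_zero]
  intro c hc
  obtain ⟨a, s, hs, hcs⟩ := exists_germ_mul_eq V hV y hy c
  have h1 : ∀ t : Γ(Y, V), (Y.presheaf.stalkSpecializes h).hom (Y.presheaf.germ V y hy t) =
      Y.presheaf.germ V y' hy' t := fun t =>
    TopCat.Presheaf.germ_stalkSpecializes_apply Y.presheaf hy h t
  have h2 := congrArg (Y.presheaf.stalkSpecializes h).hom hcs
  rw [map_mul, hc, zero_mul, h1] at h2
  have h3 : a = 0 := germ_injective_of_isDomain V hV y' hy' (h2.symm.trans (map_zero _).symm)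
  rw [h3, map_zero] at hcs
  haveI := isDomain_stalk_of_isDomain V hV y hy
  rcases mul_eq_zero.mp hcs with h4 | h4
  · exact h4
  · exact (hs (germ_injective_of_isDomain V hV y hy (h4.trans (map_zero _).symm))).elim

/-- elements of the stalk at a generization are fractions of elements of the stalk at `y` -/
theorem exists_frac_of_specializes {y y' : Y} (h : y' ⤳ y) (hy : y ∈ V)
    (c : Y.presheaf.stalk y') :
    ∃ a s : Y.presheaf.stalk y, s ≠ 0 ∧
      c * (Y.presheaf.stalkSpecializes h).hom s = (Y.presheaf.stalkSpecializes h).hom a := by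
  have hy' : y' ∈ V := h.mem_open V.isOpen hy
  obtain ⟨a, s, hs, hcs⟩ := exists_germ_mul_eq V hV y' hy' c
  have h1 : ∀ t : Γ(Y, V), (Y.presheaf.stalkSpecializes h).hom (Y.presheaf.germ V y hy t) =
      Y.presheaf.germ V y' hy' t := fun t =>
    TopCat.Presheaf.germ_stalkSpecializes_apply Y.presheaf hy h t
  refine ⟨Y.presheaf.germ V y hy a, Y.presheaf.germ V y hy s, ?_, ?_⟩
  · intro h0
    exact hs (germ_injective_of_isDomain V hV y hy (h0.trans (map_zero _).symm))
  · rw [h1, h1]
    exact hcs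

end Sch

end Groth.Agent.Lib.RatSecH3
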