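import Mathlib
import Groth.Agent.Lib.RatSec2_helper3

/-!
# Rational sections: étale neighbourhood and the stalk isomorphism (helper3)
-/

set_option autoImplicit false
set_option maxSynthPendingDepth 3
universe u

namespace Groth.Agent.Lib.RatSecH3

open IsLocalRing AlgebraicGeometry CategoryTheory
open Groth.Agent.Lib.UnramGUH3

section Sch

variable {X Y : Scheme.{u}}

/-- variant of `exists_etale_nhd` with an explicit affine open with domain sections -/
theorem exists_etale_nhd_of_affine_domain (f : X ⟶ Y) [LocallyOfFiniteType f] (x : X)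
    (V : Y.Opens) (hV : IsAffineOpen V) (hxV : f x ∈ V) [IsDomain Γ(Y, V)]
    (hGU : CAlg2.IsGeomUnibranch (Y.presheaf.stalk (f x)))
    (hunr : (f.stalkMap x).hom.FormallyUnramified)
    (hinj : Function.Injective (f.stalkMap x).hom) :
    ∃ U : X.Opens, x ∈ U ∧ Etale (U.ι ≫ f) := by
  haveI hdom : IsDomain (Y.presheaf.stalk (f x)) := isDomain_stalk_of_isDomain V hV (f x) hxV
  have hxV' : x ∈ f ⁻¹ᵁ V := hxV
  obtain ⟨W, hW, hxW, e⟩ := exists_isAffineOpen_mem_and_subset hxV'
  letI algAB : Algebra Γ(Y, V) Γ(X, W) := (f.appLE V W e).hom.toAlgebra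
  haveI : Algebra.FiniteType Γ(Y, V) Γ(X, W) :=
    LocallyOfFiniteType.finiteType_appLE (f := f) hV hW e
  have iso := IsAffineOpen.arrowStalkMapIso f V hV W hW e hxW
  have hpq : (hV.primeIdealOf ⟨f x, e hxW⟩).asIdeal =
      (hW.primeIdealOf ⟨x, hxW⟩).asIdeal.comap (algebraMap Γ(Y, V) Γ(X, W)) :=
    congr($(IsAffineOpen.comap_primeIdealOf_appLE V hV W hW e hxW).1).symm
  have hunr' : (Localization.localRingHom (hV.primeIdealOf ⟨f x, e hxW⟩).asIdeal
      (hW.primeIdealOf ⟨x, hxW⟩).asIdeal (algebraMap Γ(Y, V) Γ(X, W)) hpq).FormallyUnramified := by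
    have := (RingHom.FormallyUnramified.respectsIso.arrow_mk_iso_iff iso).mp hunr
    rw [CommRingCat.hom_ofHom] at this
    exact this
  -- the two isomorphisms
  have hw := iso.hom.w
  have hbl : Function.Bijective iso.hom.left.hom :=
    ConcreteCategory.bijective_of_isIso iso.hom.left
  have hbr : Function.Bijective iso.hom.right.hom :=
    ConcreteCategory.bijective_of_isIso iso.hom.right
  have hcomm : ∀ w : Y.presheaf.stalk (f x),
      Localization.localRingHom (hV.primeIdealOf ⟨f x, e hxW⟩).asIdeal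
        (hW.primeIdealOf ⟨x, hxW⟩).asIdeal (algebraMap Γ(Y, V) Γ(X, W)) hpq (iso.hom.left.hom w) =
      iso.hom.right.hom ((f.stalkMap x).hom w) := by
    intro w
    have := congrArg (fun φ => φ.hom w) hw
    exact this
  have hinj' : Function.Injective (Localization.localRingHom (hV.primeIdealOf ⟨f x, e hxW⟩).asIdeal
      (hW.primeIdealOf ⟨x, hxW⟩).asIdeal (algebraMap Γ(Y, V) Γ(X, W)) hpq) := by
    rw [injective_iff_map_eq_zero]
    intro z hz
    obtain ⟨w, rfl⟩ := hbl.2 z
    rw [hcomm] at hz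
    have h1 : (f.stalkMap x).hom w = 0 := hbr.1 (hz.trans (map_zero _).symm)
    have h2 : w = 0 := hinj (h1.trans (map_zero _).symm)
    rw [h2, map_zero]
  let eA : Y.presheaf.stalk (f x) ≃+*
      Localization.AtPrime (hV.primeIdealOf ⟨f x, e hxW⟩).asIdeal :=
    RingEquiv.ofBijective iso.hom.left.hom hbl
  haveI : IsDomain (Localization.AtPrime (hV.primeIdealOf ⟨f x, e hxW⟩).asIdeal) :=
    eA.symm.toMulEquiv.isDomain
  have hGU' := isGeomUnibranch_of_ringEquiv eA hGU
  have hcase' : IsDomain Γ(Y, V) ∨ Algebra.FinitePresentation Γ(Y, V) Γ(X, W) :=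
    Or.inl inferInstance
  obtain ⟨g, hgq, hEt⟩ := exists_etale_away' Γ(Y, V) Γ(X, W)
    (hV.primeIdealOf ⟨f x, e hxW⟩).asIdeal (hW.primeIdealOf ⟨x, hxW⟩).asIdeal hpq hunr' hGU'
    hinj' hcase'
  refine ⟨X.basicOpen g, ?_, etale_basicOpen_ι_comp f V hV W hW e g hEt⟩
  rw [Scheme.mem_basicOpen X g x hxW]
  letI := X.presheaf.algebra_section_stalk ⟨x, hxW⟩
  haveI := hW.isLocalization_stalk ⟨x, hxW⟩
  exact (IsLocalization.AtPrime.isUnit_to_map_iff (X.presheaf.stalk x)
    (hW.primeIdealOf ⟨x, hxW⟩).asIdeal g).mpr hgq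


/-- if the stalk at `x` is a domain, the specialization maps out of it are injective -/
theorem stalkSpecializes_injective_of_isDomain_stalk {x ξ : X} (h : ξ ⤳ x)
    [IsDomain (X.presheaf.stalk x)] :
    Function.Injective (X.presheaf.stalkSpecializes h).hom := by
  obtain ⟨W, hW, hxW, -⟩ := exists_isAffineOpen_mem_and_subset (x := x) (U := ⊤) trivial
  have hξW : ξ ∈ W := h.mem_open W.isOpen hxW
  letI algx := X.presheaf.algebra_section_stalk ⟨x, hxW⟩
  haveI locx := hW.isLocalization_stalk ⟨x, hxW⟩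
  letI algξ := X.presheaf.algebra_section_stalk ⟨ξ, hξW⟩
  haveI locξ := hW.isLocalization_stalk ⟨ξ, hξW⟩
  have h1 : ∀ t : Γ(X, W), (X.presheaf.stalkSpecializes h).hom (algebraMap _ (X.presheaf.stalk x) t) =
      algebraMap _ (X.presheaf.stalk ξ) t := fun t =>
    TopCat.Presheaf.germ_stalkSpecializes_apply X.presheaf hxW h t
  rw [injective_iff_map_eq_zero]
  intro a ha
  obtain ⟨⟨b₀, s⟩, hs⟩ := IsLocalization.surj (hW.primeIdealOf ⟨x, hxW⟩).asIdeal.primeCompl a
  have h2 : algebraMap _ (X.presheaf.stalk ξ) b₀ = 0 := by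
    have h3 := congrArg (X.presheaf.stalkSpecializes h).hom hs
    rw [map_mul, ha, zero_mul] at h3
    rw [← h1]
    exact h3.symm
  obtain ⟨t, ht⟩ := (IsLocalization.map_eq_zero_iff
    (hW.primeIdealOf ⟨ξ, hξW⟩).asIdeal.primeCompl (X.presheaf.stalk ξ) b₀).mp h2
  have h3 : algebraMap _ (X.presheaf.stalk x) t.1 * algebraMap _ (X.presheaf.stalk x) b₀ = 0 := by
    rw [← map_mul, ht, map_zero]
  have h4 : algebraMap _ (X.presheaf.stalk x) t.1 ≠ 0 := by
    intro h0
    obtain ⟨t', ht'⟩ := (IsLocalization.map_eq_zero_iff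
      (hW.primeIdealOf ⟨x, hxW⟩).asIdeal.primeCompl (X.presheaf.stalk x) t.1).mp h0
    have hu : IsUnit (algebraMap _ (X.presheaf.stalk x) t'.1) :=
      IsLocalization.map_units _ t'
    have hu' : IsUnit (algebraMap _ (X.presheaf.stalk ξ) t'.1) := by
      rw [← h1]
      exact hu.map _
    have hu'' : IsUnit (algebraMap _ (X.presheaf.stalk ξ) t.1) := IsLocalization.map_units _ t
    have h5 : algebraMap _ (X.presheaf.stalk ξ) t'.1 * algebraMap _ (X.presheaf.stalk ξ) t.1 = 0 := by
      rw [← map_mul, ht', map_zero]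
    exact (hu'.mul hu'').ne_zero h5
  have h5 : algebraMap _ (X.presheaf.stalk x) b₀ = 0 := (mul_eq_zero.mp h3).resolve_left h4
  rw [h5] at hs
  exact (IsUnit.mul_left_eq_zero (IsLocalization.map_units _ s)).mp hs

/-- **the stalk isomorphism**: under the assumptions of the extension theorem, if the stalk map
is bijective at a generization `ξ` of `x`, then it is bijective at `x`. -/
theorem bijective_stalkMap_of_generization (f : X ⟶ Y) [LocallyOfFiniteType f]
    [FormallyUnramified f] (V : Y.Opens) (hV : IsAffineOpen V) [IsDomain Γ(Y, V)] (x : X)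
    (hxV : f x ∈ V) (hGU : CAlg2.IsGeomUnibranch (Y.presheaf.stalk (f x)))
    (ξ : X) (hξ : ξ ⤳ x) (hiso : Function.Bijective (f.stalkMap ξ).hom) :
    Function.Bijective (f.stalkMap x).hom := by
  have hsp : f ξ ⤳ f x := f.base.hom.map_specializes hξ
  have hnat : ∀ a, (f.stalkMap ξ).hom ((Y.presheaf.stalkSpecializes hsp).hom a) =
      (X.presheaf.stalkSpecializes hξ).hom ((f.stalkMap x).hom a) :=
    fun a => Scheme.Hom.stalkSpecializes_stalkMap_apply f ξ x hξ a
  have hinjY := stalkSpecializes_injective_of_isDomain V hV hsp hxV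
  have hinj : Function.Injective (f.stalkMap x).hom := by
    rw [injective_iff_map_eq_zero]
    intro a ha
    have h1 := hnat a
    rw [ha, map_zero] at h1
    have h2 : (Y.presheaf.stalkSpecializes hsp).hom a = 0 :=
      hiso.1 (h1.trans (map_zero _).symm)
    exact hinjY (h2.trans (map_zero _).symm)
  have hunr : (f.stalkMap x).hom.FormallyUnramified := FormallyUnramified.stalkMap f x
  obtain ⟨W, hxW, hW⟩ := exists_etale_nhd_of_affine_domain f x V hV hxV hGU hunr hinj
  haveI := hW
  have hflat : (f.stalkMap x).hom.Flat :=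
    flat_stalkMap_of_comp' f W.ι ⟨x, hxW⟩ x rfl (Flat.stalkMap (W.ι ≫ f) ⟨x, hxW⟩)
  haveI hdomA := isDomain_stalk_of_isDomain V hV (f x) hxV
  have hess := Groth.Agent.Lib.BrEtNbhdH3.isEssentiallyEtale_stalkMap_of_etaleOn f x W hxW
  haveI hdomB : IsDomain (X.presheaf.stalk x) := by
    letI := (f.stalkMap x).hom.toAlgebra
    haveI : IsLocalHom (algebraMap (Y.presheaf.stalk (f x)) (X.presheaf.stalk x)) :=
      inferInstanceAs (IsLocalHom (f.stalkMap x).hom)
    exact (Groth.Agent.Lib.BrEtNbhdH3.isDomain_and_isGeomUnibranch_of_essEtale _ _ hGU hess).1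
  exact bijective_of_flat_of_birational (f.stalkMap x).hom hflat
    (Y.presheaf.stalkSpecializes hsp).hom (X.presheaf.stalkSpecializes hξ).hom
    (f.stalkMap ξ).hom hnat (stalkSpecializes_injective_of_isDomain_stalk hξ) hiso.2
    (fun c => exists_frac_of_specializes V hV hsp hxV c)

end Sch

end Groth.Agent.Lib.RatSecH3
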