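import Mathlib
import Groth.Agent.Lib.RatSec3_helper3

/-!
# Rational sections: spreading out and agreement (helper3)
-/

set_option autoImplicit false
set_option maxSynthPendingDepth 3
universe u

namespace Groth.Agent.Lib.RatSecH3

open IsLocalRing AlgebraicGeometry CategoryTheory

section Sch

variable {X Y : Scheme.{u}}

/-- if the stalk map at `x` is an isomorphism (and `Y` is germ-injective at `f x`), then `f` has a
section through `x` over an open neighbourhood of `f x` -/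
theorem exists_section_of_isIso_stalkMap (f : X ⟶ Y) [LocallyOfFiniteType f] (x : X)
    [Y.IsGermInjectiveAt (f x)] [IsIso (f.stalkMap x)] :
    ∃ (V : Y.Opens) (hyV : f x ∈ V) (v : V.toScheme ⟶ X), v ≫ f = V.ι ∧ v ⟨f x, hyV⟩ = x := by
  have h : (Spec.map (inv (f.stalkMap x)) ≫ X.fromSpecStalk x) ≫ f =
      Y.fromSpecStalk (f x) ≫ 𝟙 Y := by
    rw [Category.assoc, ← Scheme.SpecMap_stalkMap_fromSpecStalk, ← Spec.map_comp_assoc,
      IsIso.hom_inv_id, Spec.map_id, Category.id_comp, Category.comp_id]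
  obtain ⟨V, hyV, v, hφ, hv⟩ := spread_out_of_isGermInjective' (𝟙 Y) f
    (Spec.map (inv (f.stalkMap x)) ≫ X.fromSpecStalk x) h
  refine ⟨V, hyV, v, by rw [hv, Category.comp_id], ?_⟩
  have hz : V.fromSpecStalkOfMem (f x) hyV (closedPoint (Y.presheaf.stalk (f x))) =
      ⟨f x, hyV⟩ := by
    apply Subtype.ext
    have h1 := congrArg (fun ψ : Spec (Y.presheaf.stalk (f x)) ⟶ Y =>
      ψ (closedPoint (Y.presheaf.stalk (f x)))) (V.fromSpecStalkOfMem_ι (f x) hyV)
    simp only [Scheme.Hom.comp_apply] at h1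
    rw [Scheme.fromSpecStalk_closedPoint] at h1
    exact h1
  have h2 := congrArg (fun ψ : Spec (Y.presheaf.stalk (f x)) ⟶ X =>
    ψ (closedPoint (Y.presheaf.stalk (f x)))) hφ
  simp only [Scheme.Hom.comp_apply] at h2
  rw [hz] at h2
  rw [← h2]
  haveI : IsLocalHom (inv (f.stalkMap x)).hom := isLocalHom_of_isIso _
  rw [Spec_closedPoint, Scheme.fromSpecStalk_closedPoint]

/-- two morphisms over a separated `f` from a reduced irreducible scheme agree as soon as one of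
them lands in an open `W'` on which `f` is a monomorphism and the other meets `W'` -/
theorem eq_of_mono_on_open (f : X ⟶ Y) [IsSeparated f] {T : Scheme.{u}} [IsReduced T]
    [IrreducibleSpace T] (a b : T ⟶ X) (hab : a ≫ f = b ≫ f) (W' : X.Opens)
    [Mono (W'.ι ≫ f)] (hb : ∀ t : T, b t ∈ W') (t₀ : T) (ht₀ : a t₀ ∈ W') : a = b := by
  have hT : Dense ((a ⁻¹ᵁ W' : T.Opens) : Set T) := (a ⁻¹ᵁ W').isOpen.dense ⟨t₀, ht₀⟩
  haveI : IsDominant (a ⁻¹ᵁ W').ι := AlgebraicGeometry.Opens.isDominant_ι hT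
  have hra : Set.range ((a ⁻¹ᵁ W').ι ≫ a) ⊆ Set.range W'.ι := by
    rintro _ ⟨t, rfl⟩
    rw [Scheme.Opens.range_ι]
    exact t.2
  have hrb : Set.range ((a ⁻¹ᵁ W').ι ≫ b) ⊆ Set.range W'.ι := by
    rintro _ ⟨t, rfl⟩
    rw [Scheme.Opens.range_ι]
    exact hb _
  have h1 : IsOpenImmersion.lift W'.ι ((a ⁻¹ᵁ W').ι ≫ a) hra =
      IsOpenImmersion.lift W'.ι ((a ⁻¹ᵁ W').ι ≫ b) hrb := by
    rw [← cancel_mono (W'.ι ≫ f), IsOpenImmersion.lift_fac_assoc, IsOpenImmersion.lift_fac_assoc,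
      Category.assoc, Category.assoc, hab]
  have h2 : (a ⁻¹ᵁ W').ι ≫ a = (a ⁻¹ᵁ W').ι ≫ b := by
    rw [← IsOpenImmersion.lift_fac W'.ι ((a ⁻¹ᵁ W').ι ≫ a) hra, h1, IsOpenImmersion.lift_fac]
  exact ext_of_isDominant_of_isSeparated f hab (a ⁻¹ᵁ W').ι h2

/-- `f` is a monomorphism on the image of a section -/
theorem mono_opensRange_ι_comp (f : X ⟶ Y) (V : Y.Opens) (v : V.toScheme ⟶ X)
    [IsOpenImmersion v] (hv : v ≫ f = V.ι) : Mono (v.opensRange.ι ≫ f) := by
  have h1 : v.opensRange.ι ≫ f = v.isoOpensRange.inv ≫ V.ι := by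
    rw [← hv, ← Category.assoc, Scheme.Hom.isoOpensRange_inv_comp]
  rw [h1]
  infer_instance

end Sch

end Groth.Agent.Lib.RatSecH3
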