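import Mathlib
import Groth.Agent.Lib.RatSec3_helper8
import Groth.Agent.Lib.SectionExt_helper7
import Groth.Agent.Lib.ClosureSpec_helper7

/-!
# Lifting through immersions, uniqueness of valuative lifts (helper8)
-/

set_option autoImplicit false
universe u
open CategoryTheory CategoryTheory.Limits AlgebraicGeometry TopologicalSpace

namespace RatSecH8

/-- A morphism from a reduced scheme factors through an immersion as soon as it does so
set-theoretically. -/
theorem exists_lift_of_isReduced_of_isImmersion {T Z P : Scheme.{u}} [IsReduced T] (m : T ⟶ P)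
    (γ : Z ⟶ P) [IsImmersion γ] (h : Set.range m ⊆ Set.range γ) : ∃ m₀ : T ⟶ Z, m₀ ≫ γ = m := by
  have hr : Set.range m ⊆ Set.range γ.coborderRange.ι := by
    intro p hp
    obtain ⟨z, rfl⟩ := h hp
    refine ⟨γ.liftCoborder z, ?_⟩
    rw [← Scheme.Hom.comp_apply, γ.liftCoborder_ι]
  obtain ⟨m₁, hm₁⟩ : ∃ m₁ : T ⟶ γ.coborderRange.toScheme, m₁ ≫ γ.coborderRange.ι = m :=
    ⟨IsOpenImmersion.lift _ m hr, IsOpenImmersion.lift_fac _ _ _⟩
  have hr1 : Set.range m₁ ⊆ Set.range γ.liftCoborder := by
    rintro _ ⟨t, rfl⟩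
    obtain ⟨z, hz⟩ := h ⟨t, rfl⟩
    refine ⟨z, ?_⟩
    apply γ.coborderRange.ι.isOpenEmbedding.injective
    rw [← Scheme.Hom.comp_apply, γ.liftCoborder_ι, hz, ← Scheme.Hom.comp_apply, hm₁]
  obtain ⟨m₀, hm₀⟩ := Groth.Agent.Lib.SectionExtH7.exists_lift_of_isReduced m₁ γ.liftCoborder hr1
  refine ⟨m₀, ?_⟩
  rw [← γ.liftCoborder_ι, ← Category.assoc, hm₀, hm₁]

/-- Two morphisms from the spectrum of a valuation ring into the source of a separated morphism
which agree after composing with it and on the generic point are equal. -/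
theorem eq_of_valuative {P N : Scheme.{u}} (f : P ⟶ N) [IsSeparated f] (R : Type u) [CommRing R]
    [IsDomain R] [ValuationRing R] (a t : Spec (CommRingCat.of R) ⟶ P) (h1 : a ≫ f = t ≫ f)
    (h2 : Spec.map (CommRingCat.ofHom (algebraMap R (FractionRing R))) ≫ a =
      Spec.map (CommRingCat.ofHom (algebraMap R (FractionRing R))) ≫ t) : a = t := by
  let S : ValuativeCommSq f :=
    { R := R
      K := FractionRing R
      i₁ := Spec.map (CommRingCat.ofHom (algebraMap R (FractionRing R))) ≫ a
      i₂ := a ≫ f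
      commSq := ⟨by rw [Category.assoc]⟩ }
  have hs : Subsingleton S.commSq.LiftStruct := IsSeparated.valuativeCriterion f S
  let l1 : S.commSq.LiftStruct := ⟨a, rfl, rfl⟩
  let l2 : S.commSq.LiftStruct := ⟨t, h2.symm, h1.symm⟩
  have := congrArg CommSq.LiftStruct.l (Subsingleton.elim l1 l2)
  exact this

end RatSecH8
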