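import Mathlib
import Groth.Agent.Lib.RatSec4_helper8

/-!
# Valuative criterion for a rational section to be defined at a normal point (helper8)
-/

set_option autoImplicit false
universe u
open CategoryTheory CategoryTheory.Limits AlgebraicGeometry TopologicalSpace

namespace RatSecH8

variable {X Y : Scheme.{u}}

/-- The DVR hypothesis of the valuative criterion. -/
def DvrHyp (q : Y ⟶ X) (U : X.Opens) (h : (U : Scheme.{u}) ⟶ Y) (x : X) (y₀ : Y) : Prop :=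
  ∀ (R : Type u) [CommRing R] [IsDomain R] [IsDiscreteValuationRing R]
    (u : Spec (CommRingCat.of R) ⟶ X), u (IsLocalRing.closedPoint R) = x →
    ∀ ub : Spec (CommRingCat.of (FractionRing R)) ⟶ (U : Scheme.{u}),
      ub ≫ U.ι = Spec.map (CommRingCat.ofHom (algebraMap R (FractionRing R))) ≫ u →
      ∃ h₁ : Spec (CommRingCat.of R) ⟶ Y, h₁ ≫ q = u ∧ h₁ (IsLocalRing.closedPoint R) = y₀ ∧
        Spec.map (CommRingCat.ofHom (algebraMap R (FractionRing R))) ≫ h₁ = ub ≫ h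

theorem apply_mem_of_specializes [IsLocallyNoetherian X] (q : Y ⟶ X) (U : X.Opens)
    (h : (U : Scheme.{u}) ⟶ Y) (x : X) (y₀ : Y) (H : DvrHyp q U h x y₀) (Y₀ : Y.Opens)
    (hy₀ : y₀ ∈ Y₀) (c : X) (hcU : c ∈ U) (hcx : c ⤳ x) (hne : c ≠ x) : h ⟨c, hcU⟩ ∈ Y₀ := by
  obtain ⟨R, iR, iD, iV, u, ub, hucl, hub, hpt⟩ :=
    exists_dvr_of_specializes_mem U c x hcU hcx hne
  obtain ⟨h₁, h₁q, h₁cl, h₁b⟩ := H R u hucl ub hub
  obtain ⟨pt, -⟩ : ∃ pt : ↥(Spec (CommRingCat.of (FractionRing R))), True :=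
    ⟨⟨⊥, Ideal.isPrime_bot⟩, trivial⟩
  have e1 : ub pt = ⟨c, hcU⟩ := Subtype.ext (hpt pt)
  have e2 : h₁ (Spec.map (CommRingCat.ofHom (algebraMap R (FractionRing R))) pt) = h (ub pt) := by
    rw [← Scheme.Hom.comp_apply, h₁b, Scheme.Hom.comp_apply]
  have e3 : h₁ (Spec.map (CommRingCat.ofHom (algebraMap R (FractionRing R))) pt) ⤳ y₀ := by
    rw [← h₁cl]
    exact (specializes_closedPoint' R _).map h₁.continuous
  rw [← e1, ← e2]
  exact e3.mem_open Y₀.2 hy₀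


set_option maxHeartbeats 1600000 in
theorem extends_of_dvrHyp [IsLocallyNoetherian X] (q : Y ⟶ X) [LocallyOfFiniteType q]
    (U : X.Opens) (hU : Dense (U : Set X)) (h : (U : Scheme.{u}) ⟶ Y) (hh : h ≫ q = U.ι) (x : X)
    (hxU : x ∉ U) [IsDomain (X.presheaf.stalk x)] (hx : IsIntegrallyClosed (X.presheaf.stalk x))
    (y₀ : Y) (H : DvrHyp q U h x y₀) :
    ∃ (U' : X.Opens) (hUU' : U ≤ U') (hxU' : x ∈ U') (h' : (U' : Scheme.{u}) ⟶ Y),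
      h' ≫ q = U'.ι ∧ X.homOfLE hUU' ≫ h' = h ∧ h' ⟨x, hxU'⟩ = y₀ := by
  haveI : X.IsGermInjectiveAt x := inferInstance
  obtain ⟨N, hxN, hNint⟩ := Groth.Agent.Lib.RatExtH7.exists_isIntegral_nhd x inferInstance
  haveI := hNint
  obtain ⟨_, ⟨(Y₀ : Y.Opens), hY₀aff, rfl⟩, hy₀Y₀, -⟩ :=
    Y.isBasis_affineOpens.exists_subset_of_mem_open (Set.mem_univ y₀) isOpen_univ
  haveI : IsAffine Y₀.toScheme := hY₀aff
  obtain ⟨q₀, hq₀⟩ : ∃ q₀ : Y₀.toScheme ⟶ X, q₀ = Y₀.ι ≫ q := ⟨_, rfl⟩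
  haveI : LocallyOfFiniteType q₀ := by rw [hq₀]; infer_instance
  haveI : IsSeparated q₀ := inferInstance
  have hq₀c : ∀ {T : Scheme.{u}} (f : T ⟶ Y₀.toScheme), f ≫ q₀ = (f ≫ Y₀.ι) ≫ q := by
    intro T f
    rw [hq₀, Category.assoc]
  -- the open `U₀`
  obtain ⟨U₀, hU₀⟩ : ∃ U₀ : X.Opens, U₀ = U.ι ''ᵁ (h ⁻¹ᵁ Y₀) := ⟨_, rfl⟩
  have hU₀U : U₀ ≤ U := by rw [hU₀]; exact U.ι_image_le _
  have hmemU₀ : ∀ (c : X) (hc : c ∈ U), h ⟨c, hc⟩ ∈ Y₀ → c ∈ U₀ := by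
    intro c hc hcY
    rw [hU₀]
    exact ⟨⟨c, hc⟩, hcY, rfl⟩
  have hofU₀ : ∀ (c : X) (hc : c ∈ U₀), h ⟨c, hU₀U hc⟩ ∈ Y₀ := by
    intro c hc
    have hc' := hc
    rw [hU₀] at hc'
    obtain ⟨a, haY, rfl⟩ := hc'
    exact haY
  -- the restricted section `h₀`
  have hr₀ : Set.range (X.homOfLE hU₀U ≫ h) ⊆ Set.range Y₀.ι := by
    rintro _ ⟨p, rfl⟩
    rw [Scheme.Opens.range_ι, Scheme.Hom.comp_apply]
    have e : X.homOfLE hU₀U p = ⟨p.1, hU₀U p.2⟩ := Subtype.ext (by simp)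
    rw [e]
    exact hofU₀ p.1 p.2
  obtain ⟨h₀, hh₀⟩ : ∃ h₀ : U₀.toScheme ⟶ Y₀.toScheme, h₀ ≫ Y₀.ι = X.homOfLE hU₀U ≫ h :=
    ⟨IsOpenImmersion.lift _ _ hr₀, IsOpenImmersion.lift_fac _ _ _⟩
  have hh₀q : h₀ ≫ q₀ = U₀.ι := by
    rw [hq₀, ← Category.assoc, hh₀, Category.assoc, hh, Scheme.homOfLE_ι]
  -- the generic point
  have hbU := generic_mem_of_dense U N hU
  have hbx := generic_specializes N x hxN
  have hbne : N.ι (genericPoint N.toScheme) ≠ x := fun e => hxU (e ▸ hbU)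
  have hbU₀ : N.ι (genericPoint N.toScheme) ∈ U₀ :=
    hmemU₀ _ hbU (apply_mem_of_specializes q U h x y₀ H Y₀ hy₀Y₀ _ hbU hbx hbne)
  -- first DVR
  obtain ⟨R, iR, iD, iV, u, ub, hucl, hub, hpt⟩ :=
    exists_dvr_of_specializes_mem U _ x hbU hbx hbne
  obtain ⟨h₁, h₁q, h₁cl, h₁b⟩ := H R u hucl ub hub
  obtain ⟨h₁₀, hh₁₀⟩ := exists_lift_of_closedPoint_mem R h₁ Y₀ (by rw [h₁cl]; exact hy₀Y₀)
  have hrub : Set.range (Spec.map (CommRingCat.ofHom (algebraMap R (FractionRing R))) ≫ u) ⊆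
      Set.range U₀.ι := by
    rintro _ ⟨pt, rfl⟩
    rw [Scheme.Opens.range_ι, ← hub, Scheme.Hom.comp_apply, hpt]
    exact hbU₀
  obtain ⟨ub₀, hub₀⟩ : ∃ ub₀ : Spec (CommRingCat.of (FractionRing R)) ⟶ U₀.toScheme,
      ub₀ ≫ U₀.ι = Spec.map (CommRingCat.ofHom (algebraMap R (FractionRing R))) ≫ u :=
    ⟨IsOpenImmersion.lift _ _ hrub, IsOpenImmersion.lift_fac _ _ _⟩
  have hub₀' : ub₀ ≫ X.homOfLE hU₀U = ub := by
    rw [← cancel_mono U.ι, Category.assoc, Scheme.homOfLE_ι, hub₀, hub]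
  have h₁₀q : h₁₀ ≫ q₀ = u := by rw [hq₀, ← Category.assoc, hh₁₀, h₁q]
  have h₁₀b : Spec.map (CommRingCat.ofHom (algebraMap R (FractionRing R))) ≫ h₁₀ = ub₀ ≫ h₀ := by
    rw [← cancel_mono Y₀.ι, Category.assoc, hh₁₀, h₁b, Category.assoc, hh₀, ← Category.assoc,
      hub₀']
  obtain ⟨z, hz1, hz2, hz3⟩ :=
    exists_point_of_dvr q₀ U₀ h₀ hh₀q x N hxN R u hucl ub₀ hub₀ h₁₀ h₁₀q h₁₀b
  -- isolation of `z`
  obtain ⟨γ, hγ⟩ : ∃ γ : (N.ι ⁻¹ᵁ U₀).toScheme ⟶ pullback N.ι q₀,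
      γ = pullback.lift (N.ι ⁻¹ᵁ U₀).ι ((N.ι ∣_ U₀) ≫ h₀) (resSec_comp q₀ U₀ N h₀ hh₀q) := ⟨_, rfl⟩
  rw [← hγ] at hz3
  have hγ1 : γ ≫ pullback.fst N.ι q₀ = (N.ι ⁻¹ᵁ U₀).ι := by rw [hγ]; exact pullback.lift_fst _ _ _
  have hγ2 : γ ≫ pullback.snd N.ι q₀ = (N.ι ∣_ U₀) ≫ h₀ := by
    rw [hγ]; exact pullback.lift_snd _ _ _
  haveI : IsImmersion γ := by
    haveI : IsImmersion (γ ≫ pullback.fst N.ι q₀) := by rw [hγ1]; infer_instance
    exact IsImmersion.of_comp γ (pullback.fst N.ι q₀)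
  haveI : Nonempty (N.ι ⁻¹ᵁ U₀).toScheme := ⟨⟨genericPoint N.toScheme, hbU₀⟩⟩
  haveI : IsIntegral (N.ι ⁻¹ᵁ U₀).toScheme := inferInstance
  haveI : IsLocallyNoetherian N.toScheme := inferInstance
  haveI : IsLocallyNoetherian (pullback N.ι q₀) :=
    LocallyOfFiniteType.isLocallyNoetherian (pullback.fst N.ι q₀)
  have hsndinj : Function.Injective (pullback.snd N.ι q₀) :=
    (pullback.snd N.ι q₀).isOpenEmbedding.injective
  have hisoAll : ∀ w : ↥(pullback N.ι q₀), w ∈ closure (Set.range γ) →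
      pullback.fst N.ι q₀ w = ⟨x, hxN⟩ → w = z := by
    intro w hwcl hwx
    obtain ⟨ξ, hξ⟩ : ∃ ξ : (N.ι ⁻¹ᵁ U₀).toScheme, ξ = genericPoint (N.ι ⁻¹ᵁ U₀).toScheme :=
      ⟨_, rfl⟩
    have hsub : closure (Set.range γ) ⊆ closure {γ ξ} := by
      apply closure_minimal _ isClosed_closure
      rintro _ ⟨p, rfl⟩
      have h1 : ξ ⤳ p := by
        rw [hξ]
        exact (genericPoint_spec (N.ι ⁻¹ᵁ U₀).toScheme).specializes (Set.mem_univ p)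
      exact (specializes_iff_mem_closure.mp (h1.map γ.continuous))
    have hsp : γ ξ ⤳ w := specializes_iff_mem_closure.mpr (hsub hwcl)
    have hfstγ : pullback.fst N.ι q₀ (γ ξ) = (N.ι ⁻¹ᵁ U₀).ι ξ := by
      rw [← Scheme.Hom.comp_apply, hγ1]
    have hξU₀ : N.ι ((N.ι ⁻¹ᵁ U₀).ι ξ) ∈ U₀ := ξ.2
    have hne' : γ ξ ≠ w := by
      intro e
      apply hxU
      have h2 : N.ι ((N.ι ⁻¹ᵁ U₀).ι ξ) = x := by
        rw [← hfstγ, e, hwx]
        rfl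
      rw [← h2]
      exact hU₀U hξU₀
    obtain ⟨R', iR', iD', iV', a, η', hη', hacl, haη⟩ :=
      Groth.Agent.Lib.UnramLocal_helper7.exists_dvr_of_specializes (γ ξ) w hsp hne'
    obtain ⟨u', hu'⟩ : ∃ u' : Spec (CommRingCat.of R') ⟶ X,
        u' = a ≫ pullback.fst N.ι q₀ ≫ N.ι := ⟨_, rfl⟩
    have hu'cl : u' (IsLocalRing.closedPoint R') = x := by
      rw [hu', Scheme.Hom.comp_apply, Scheme.Hom.comp_apply, hacl, hwx]
      rfl
    have hptb : ∀ pt : ↥(Spec (CommRingCat.of (FractionRing R'))),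
        (Spec.map (CommRingCat.ofHom (algebraMap R' (FractionRing R'))) ≫ u') pt =
          N.ι ((N.ι ⁻¹ᵁ U₀).ι ξ) := by
      intro pt
      rw [Scheme.Hom.comp_apply, specMap_fractionRing_apply R' η' hη' pt, hu',
        Scheme.Hom.comp_apply, Scheme.Hom.comp_apply, haη, hfstγ]
    have hrub' : Set.range (Spec.map (CommRingCat.ofHom (algebraMap R' (FractionRing R'))) ≫ u') ⊆
        Set.range U.ι := by
      rintro _ ⟨pt, rfl⟩
      rw [Scheme.Opens.range_ι, hptb]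
      exact hU₀U hξU₀
    obtain ⟨ub', hub'⟩ : ∃ ub' : Spec (CommRingCat.of (FractionRing R')) ⟶ U.toScheme,
        ub' ≫ U.ι = Spec.map (CommRingCat.ofHom (algebraMap R' (FractionRing R'))) ≫ u' :=
      ⟨IsOpenImmersion.lift _ _ hrub', IsOpenImmersion.lift_fac _ _ _⟩
    obtain ⟨h₁', h₁'q, h₁'cl, h₁'b⟩ := H R' u' hu'cl ub' hub'
    obtain ⟨h₁'₀, hh₁'₀⟩ :=
      exists_lift_of_closedPoint_mem R' h₁' Y₀ (by rw [h₁'cl]; exact hy₀Y₀)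
    have hcond : (a ≫ pullback.fst N.ι q₀) ≫ N.ι = h₁'₀ ≫ q₀ := by
      rw [hq₀c, hh₁'₀, h₁'q, hu', Category.assoc]
    obtain ⟨t', ht'⟩ : ∃ t' : Spec (CommRingCat.of R') ⟶ pullback N.ι q₀,
        t' = pullback.lift (a ≫ pullback.fst N.ι q₀) h₁'₀ hcond := ⟨_, rfl⟩
    have ht'1 : t' ≫ pullback.fst N.ι q₀ = a ≫ pullback.fst N.ι q₀ := by
      rw [ht']; exact pullback.lift_fst _ _ _
    have ht'2 : t' ≫ pullback.snd N.ι q₀ = h₁'₀ := by rw [ht']; exact pullback.lift_snd _ _ _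
    -- the generic point of `a` factors through the graph
    have hrm : Set.range (Spec.map (CommRingCat.ofHom (algebraMap R' (FractionRing R'))) ≫ a) ⊆
        Set.range γ := by
      rintro _ ⟨pt, rfl⟩
      rw [Scheme.Hom.comp_apply, specMap_fractionRing_apply R' η' hη' pt, haη]
      exact ⟨ξ, rfl⟩
    obtain ⟨m₀, hm₀⟩ := exists_lift_of_isReduced_of_isImmersion
      (Spec.map (CommRingCat.ofHom (algebraMap R' (FractionRing R'))) ≫ a) γ hrm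
    have hub'eq : ub' = m₀ ≫ (N.ι ∣_ U₀) ≫ X.homOfLE hU₀U := by
      rw [← cancel_mono U.ι, hub', Category.assoc, Category.assoc, Scheme.homOfLE_ι,
        morphismRestrict_ι, hu', ← Category.assoc, ← hm₀, Category.assoc, reassoc_of% hγ1]
    have hgen : Spec.map (CommRingCat.ofHom (algebraMap R' (FractionRing R'))) ≫ a =
        Spec.map (CommRingCat.ofHom (algebraMap R' (FractionRing R'))) ≫ t' := by
      apply pullback.hom_ext
      · rw [Category.assoc, Category.assoc, ht'1]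
      · rw [Category.assoc (Spec.map _) t', ht'2, ← cancel_mono Y₀.ι, Category.assoc _ h₁'₀,
          hh₁'₀, h₁'b, hub'eq, ← hm₀, Category.assoc, Category.assoc, Category.assoc,
          Category.assoc, ← Category.assoc γ, hγ2, Category.assoc, hh₀]
    have hat : a = t' := eq_of_valuative (pullback.fst N.ι q₀) R' a t' ht'1.symm hgen
    have hw : w = t' (IsLocalRing.closedPoint R') := by rw [← hat, hacl]
    rw [hw]
    apply hsndinj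
    rw [← Scheme.Hom.comp_apply, ht'2, hz2]
    apply Y₀.ι.isOpenEmbedding.injective
    rw [← Scheme.Hom.comp_apply, hh₁'₀, h₁'cl, ← Scheme.Hom.comp_apply, hh₁₀, h₁cl]
  have hiso : ∃ W : (pullback N.ι q₀).Opens, (W : Set ↥(pullback N.ι q₀)) ∩
      closure (Set.range (pullback.lift (N.ι ⁻¹ᵁ U₀).ι ((N.ι ∣_ U₀) ≫ h₀)
        (resSec_comp q₀ U₀ N h₀ hh₀q))) ∩ (pullback.fst N.ι q₀) ⁻¹' {⟨x, hxN⟩} = {z} := by
    rw [← hγ]
    refine ⟨⊤, ?_⟩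
    apply Set.eq_singleton_iff_unique_mem.mpr
    refine ⟨⟨⟨trivial, hz3⟩, hz1⟩, ?_⟩
    rintro w ⟨⟨-, hwcl⟩, hwx⟩
    exact hisoAll w hwcl hwx
  have hz3' : z ∈ closure (Set.range (pullback.lift (N.ι ⁻¹ᵁ U₀).ι ((N.ι ∣_ U₀) ≫ h₀)
      (resSec_comp q₀ U₀ N h₀ hh₀q))) := by rw [← hγ]; exact hz3
  obtain ⟨V, v, hxV, hvq, hag⟩ := section_extends_at q₀ U₀ h₀ hh₀q x N hxN hx z hz1 hz3' hiso
  -- the value at `x`
  have hbV : N.ι (genericPoint N.toScheme) ∈ V := hbx.mem_open V.2 hxV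
  obtain ⟨uV, huV⟩ := exists_lift_of_closedPoint_mem R u V (by rw [hucl]; exact hxV)
  have hrubV : Set.range (Spec.map (CommRingCat.ofHom (algebraMap R (FractionRing R))) ≫ u) ⊆
      Set.range (U₀ ⊓ V).ι := by
    rintro _ ⟨pt, rfl⟩
    rw [Scheme.Opens.range_ι, ← hub, Scheme.Hom.comp_apply, hpt]
    exact ⟨hbU₀, hbV⟩
  obtain ⟨ubV, hubV⟩ : ∃ ubV : Spec (CommRingCat.of (FractionRing R)) ⟶ (U₀ ⊓ V).toScheme,
      ubV ≫ (U₀ ⊓ V).ι = Spec.map (CommRingCat.ofHom (algebraMap R (FractionRing R))) ≫ u :=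
    ⟨IsOpenImmersion.lift _ _ hrubV, IsOpenImmersion.lift_fac _ _ _⟩
  have hubV1 : ubV ≫ X.homOfLE (inf_le_left : U₀ ⊓ V ≤ U₀) = ub₀ := by
    rw [← cancel_mono U₀.ι, Category.assoc, Scheme.homOfLE_ι, hubV, hub₀]
  have hubV2 : ubV ≫ X.homOfLE (inf_le_right : U₀ ⊓ V ≤ V) =
      Spec.map (CommRingCat.ofHom (algebraMap R (FractionRing R))) ≫ uV := by
    rw [← cancel_mono V.ι, Category.assoc, Scheme.homOfLE_ι, hubV, Category.assoc, huV]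
  have hh₁₀v : h₁₀ = uV ≫ v := by
    apply eq_of_valuative q₀ R h₁₀ (uV ≫ v)
    · rw [h₁₀q, Category.assoc, hvq, huV]
    · rw [h₁₀b, ← hubV1, Category.assoc, ← hag, ← Category.assoc, hubV2, Category.assoc]
  have huVcl : uV (IsLocalRing.closedPoint R) = ⟨x, hxV⟩ := by
    apply Subtype.ext
    change V.ι (uV _) = x
    rw [← Scheme.Hom.comp_apply, huV, hucl]
  have hvx : Y₀.ι (v ⟨x, hxV⟩) = y₀ := by
    have e : v ⟨x, hxV⟩ = h₁₀ (IsLocalRing.closedPoint R) := by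
      rw [← huVcl, hh₁₀v, Scheme.Hom.comp_apply]
    rw [e, ← Scheme.Hom.comp_apply, hh₁₀, h₁cl]
  -- shrinking `V`
  have hxC : x ∉ closure ((U : Set X) \ (U₀ : Set X)) := by
    intro hxc
    have hZ : IsClosed ((U.ι ⁻¹' (U₀ : Set X))ᶜ : Set U.toScheme) :=
      (U₀.2.preimage U.ι.continuous).isClosed_compl
    have himg : U.ι '' ((U.ι ⁻¹' (U₀ : Set X))ᶜ : Set U.toScheme) = (U : Set X) \ (U₀ : Set X) := by
      ext p
      constructor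
      · rintro ⟨a, haZ, rfl⟩
        exact ⟨a.2, haZ⟩
      · rintro ⟨hpU, hpU₀⟩
        exact ⟨⟨p, hpU⟩, hpU₀, rfl⟩
    obtain ⟨c, hcZ, hcx⟩ :=
      Groth.Agent.Lib.ClosureSpecH7.exists_specializes_of_mem_closure_image U.ι _ hZ x
        (by rw [himg]; exact hxc)
    have hcU : U.ι c ∈ U := c.2
    have hcne : U.ι c ≠ x := fun e => hxU (e ▸ hcU)
    exact hcZ (hmemU₀ _ hcU (apply_mem_of_specializes q U h x y₀ H Y₀ hy₀Y₀ _ hcU hcx hcne))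
  obtain ⟨V', hV'⟩ : ∃ V' : X.Opens,
      V' = V ⊓ ⟨(closure ((U : Set X) \ (U₀ : Set X)))ᶜ, isClosed_closure.isOpen_compl⟩ := ⟨_, rfl⟩
  have hxV' : x ∈ V' := by rw [hV']; exact ⟨hxV, hxC⟩
  have hV'V : V' ≤ V := by rw [hV']; exact inf_le_left
  have hV'le : U ⊓ V' ≤ U₀ ⊓ V := by
    rintro p ⟨hpU, hpV'⟩
    rw [hV'] at hpV'
    refine ⟨?_, hpV'.1⟩
    by_contra hpU₀
    exact hpV'.2 (subset_closure ⟨hpU, hpU₀⟩)
  obtain ⟨v', hv'⟩ : ∃ v' : V'.toScheme ⟶ Y, v' = X.homOfLE hV'V ≫ v ≫ Y₀.ι := ⟨_, rfl⟩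
  have hv'q : v' ≫ q = V'.ι := by
    rw [hv', Category.assoc, Category.assoc, ← hq₀, hvq, Scheme.homOfLE_ι]
  have hag' : X.homOfLE (inf_le_left : U ⊓ V' ≤ U) ≫ h =
      X.homOfLE (inf_le_right : U ⊓ V' ≤ V') ≫ v' := by
    have e1 : X.homOfLE (inf_le_right : U ⊓ V' ≤ V') ≫ v' =
        X.homOfLE hV'le ≫ (X.homOfLE (inf_le_right : U₀ ⊓ V ≤ V) ≫ v) ≫ Y₀.ι := by
      rw [hv', ← Category.assoc, Scheme.homOfLE_homOfLE, Category.assoc,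
        ← Category.assoc (X.homOfLE hV'le), Scheme.homOfLE_homOfLE]
    rw [e1, hag, Category.assoc, hh₀, Scheme.homOfLE_homOfLE_assoc,
      Scheme.homOfLE_homOfLE_assoc]
  obtain ⟨F, hFq, hF1, hF2⟩ := Groth.Agent.Lib.RatExtH7.exists_glue_two_over (𝟙 X) q U V' h v'
    (by rw [hh, Category.comp_id]) (by rw [hv'q, Category.comp_id]) hag'
  refine ⟨U ⊔ V', le_sup_left, Or.inr hxV', F, by rw [hFq, Category.comp_id], hF1, ?_⟩
  have e2 : (⟨x, Or.inr hxV'⟩ : (U ⊔ V' : X.Opens)) =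
      X.homOfLE (le_sup_right : V' ≤ U ⊔ V') ⟨x, hxV'⟩ := Subtype.ext (by simp)
  have e3 : X.homOfLE hV'V ⟨x, hxV'⟩ = ⟨x, hxV⟩ := Subtype.ext (by simp)
  rw [e2, ← Scheme.Hom.comp_apply, hF2, hv', Scheme.Hom.comp_apply, Scheme.Hom.comp_apply, e3, hvx]

end RatSecH8
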