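import Mathlib
import Groth.Agent.Lib.RatSec5_helper3

/-!
# Rational sections: strong form of the extension theorem and consequences (helper3)
-/

set_option autoImplicit false
set_option maxSynthPendingDepth 3
universe u

namespace Groth.Agent.Lib.RatSecH3

open IsLocalRing AlgebraicGeometry CategoryTheory

section Sch

variable {X Y : Scheme.{u}}

/-- **Extension of a rational section at a geometrically unibranch point** (point form, strong version). -/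
theorem exists_section_nhd_strong [IsReduced Y]
    (hcomp : LocallyFinite (fun Z : ↥(irreducibleComponents ↥Y) => (Z : Set ↥Y)))
    (f : X ⟶ Y) [IsSeparated f] [LocallyOfFiniteType f] [FormallyUnramified f]
    (U : Y.Opens) (hU : Dense (U : Set ↥Y)) (u : (U : Scheme.{u}) ⟶ X) (hu : u ≫ f = U.ι)
    (x : X) (hGU : CAlg2.IsGeomUnibranch (Y.presheaf.stalk (f x)))
    (hx : x ∈ closure (Set.range u)) :
    ∃ (V : Y.Opens) (v : (V : Scheme.{u}) ⟶ X) (hyV : f x ∈ V), v ⟨f x, hyV⟩ = x ∧ v ≫ f = V.ι ∧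
      Y.homOfLE (inf_le_left : U ⊓ V ≤ U) ≫ u = Y.homOfLE (inf_le_right : U ⊓ V ≤ V) ≫ v := by
  obtain ⟨V₀, hV₀, hyV₀, hirr⟩ := exists_irreducible_affine_nhd hcomp (f x) hGU
  haveI := isDomain_of_isIrreducible V₀ hirr
  haveI hOI : IsOpenImmersion (u ≫ f) := by rw [hu]; infer_instance
  haveI : IsOpenImmersion u := isOpenImmersion_of_section f u
  -- the generic point
  have hgen := hirr.isGenericPoint_genericPoint_closure
  obtain ⟨η, hη⟩ : ∃ η, η = hirr.genericPoint := ⟨_, rfl⟩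
  rw [← hη] at hgen
  have hηV₀ : η ∈ V₀ := (hgen.mem_open_set_iff V₀.isOpen).mpr ⟨f x, subset_closure hyV₀, hyV₀⟩
  have hηU : η ∈ U := by
    obtain ⟨t, htV, htU⟩ := hU.inter_open_nonempty V₀ V₀.isOpen ⟨f x, hyV₀⟩
    exact (hgen.mem_open_set_iff U.isOpen).mpr ⟨t, subset_closure htV, htU⟩
  have hηsp : ∀ t ∈ V₀, η ⤳ t := fun t ht => hgen.specializes (subset_closure ht)
  have hfu : ∀ t : U, f (u t) = t.1 := fun t => by
    have h1 := congrArg (fun ψ : U.toScheme ⟶ Y => ψ t) hu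
    simpa [Scheme.Hom.comp_apply] using h1
  -- `ξ := u η` specializes to `x`
  have hξx : u ⟨η, hηU⟩ ⤳ x := by
    rw [specializes_iff_mem_closure, mem_closure_iff]
    intro O hO hxO
    have hO' : IsOpen (O ∩ f ⁻¹' V₀) := hO.inter (V₀.isOpen.preimage f.continuous)
    obtain ⟨_, ⟨hzO, hzV⟩, t, rfl⟩ := mem_closure_iff.mp hx _ hO' ⟨hxO, hyV₀⟩
    have htV : t.1 ∈ V₀ := by rw [← hfu t]; exact hzV
    have hsp : (⟨η, hηU⟩ : U) ⤳ t := (subtype_specializes_iff _ _).mpr (hηsp _ htV)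
    have hsp' : u ⟨η, hηU⟩ ⤳ u t := hsp.map u.continuous
    exact ⟨u ⟨η, hηU⟩, hsp'.mem_open hO hzO, rfl⟩
  -- the stalk map at `ξ` is an isomorphism
  haveI hisoξ : IsIso (f.stalkMap (u ⟨η, hηU⟩)) := by
    haveI h1 : IsIso ((u ≫ f).stalkMap ⟨η, hηU⟩) := inferInstance
    rw [Scheme.Hom.stalkMap_comp] at h1
    haveI h2 : IsIso (u.stalkMap ⟨η, hηU⟩) := inferInstance
    exact @IsIso.of_isIso_comp_right _ _ _ _ _ (f.stalkMap (u ⟨η, hηU⟩)) (u.stalkMap ⟨η, hηU⟩)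
      h2 h1
  have hbij := bijective_stalkMap_of_generization f V₀ hV₀ x hyV₀ hGU _ hξx
    ((ConcreteCategory.isIso_iff_bijective _).mp hisoξ)
  haveI : IsIso (f.stalkMap x) := (ConcreteCategory.isIso_iff_bijective _).mpr hbij
  haveI := isGermInjectiveAt_of_isDomain V₀ hV₀ (f x) hyV₀
  obtain ⟨V, hyV, v, hv, hvx⟩ := exists_section_of_isIso_stalkMap f x
  -- shrink the section to `V ⊓ V₀`
  obtain ⟨v₁, hv₁def⟩ : ∃ v₁ : (V ⊓ V₀ : Y.Opens).toScheme ⟶ X,
      v₁ = Y.homOfLE inf_le_left ≫ v := ⟨_, rfl⟩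
  have hv₁ : v₁ ≫ f = (V ⊓ V₀).ι := by rw [hv₁def, Category.assoc, hv, Scheme.homOfLE_ι]
  haveI : IsOpenImmersion (v₁ ≫ f) := by rw [hv₁]; infer_instance
  haveI : IsOpenImmersion v₁ := isOpenImmersion_of_section f v₁
  have hv₁x : v₁ ⟨f x, hyV, hyV₀⟩ = x := by
    rw [hv₁def, Scheme.Hom.comp_apply, Scheme.homOfLE_apply']
    exact hvx
  have hxW : x ∈ v₁.opensRange := ⟨⟨f x, hyV, hyV₀⟩, hv₁x⟩
  have hξW : u ⟨η, hηU⟩ ∈ v₁.opensRange := hξx.mem_open v₁.opensRange.isOpen hxW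
  haveI := mono_opensRange_ι_comp f (V ⊓ V₀) v₁ hv₁
  have hηV : η ∈ V := (hηsp _ hyV₀).mem_open V.isOpen hyV
  have hTirr : IsIrreducible ((U ⊓ (V ⊓ V₀) : Y.Opens) : Set Y) :=
    ⟨⟨η, hηU, hηV, hηV₀⟩,
      hirr.2.open_subset (U ⊓ (V ⊓ V₀)).isOpen (fun t ht => ht.2.2)⟩
  haveI : IrreducibleSpace ↥(U ⊓ (V ⊓ V₀) : Y.Opens).toScheme := Subtype.irreducibleSpace hTirr
  refine ⟨V ⊓ V₀, v₁, ⟨hyV, hyV₀⟩, hv₁x, hv₁, ?_⟩
  refine eq_of_mono_on_open f _ _ ?_ v₁.opensRange ?_ ⟨η, hηU, hηV, hηV₀⟩ ?_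
  · rw [Category.assoc, Category.assoc, hu, hv₁, Scheme.homOfLE_ι, Scheme.homOfLE_ι]
  · intro t
    rw [Scheme.Hom.comp_apply]
    exact ⟨_, rfl⟩
  · rw [Scheme.Hom.comp_apply, Scheme.homOfLE_apply']
    exact hξW


/-- if `f` maps closed irreducible sets to closed sets, the closure of the image of a rational
section meets the fibre over every geometrically unibranch point -/
theorem exists_mem_closure_range_of_closed_image [IsReduced Y]
    (hcomp : LocallyFinite (fun Z : ↥(irreducibleComponents ↥Y) => (Z : Set ↥Y)))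
    (f : X ⟶ Y) (U : Y.Opens) (hU : Dense (U : Set ↥Y)) (u : (U : Scheme.{u}) ⟶ X)
    (hu : u ≫ f = U.ι)
    (hcl : ∀ T : Set ↥X, IsClosed T → IsIrreducible T → IsClosed (f '' T))
    (y : Y) (hy : CAlg2.IsGeomUnibranch (Y.presheaf.stalk y)) :
    ∃ x : X, x ∈ closure (Set.range u) ∧ f x = y := by
  obtain ⟨V₀, hV₀, hyV₀, hirr⟩ := exists_irreducible_affine_nhd hcomp y hy
  have hgen := hirr.isGenericPoint_genericPoint_closure
  obtain ⟨η, hη⟩ : ∃ η, η = hirr.genericPoint := ⟨_, rfl⟩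
  rw [← hη] at hgen
  have hηU : η ∈ U := by
    obtain ⟨t, htV, htU⟩ := hU.inter_open_nonempty V₀ V₀.isOpen ⟨y, hyV₀⟩
    exact (hgen.mem_open_set_iff U.isOpen).mpr ⟨t, subset_closure htV, htU⟩
  have hfu : f (u ⟨η, hηU⟩) = η := by
    have h1 := congrArg (fun ψ : U.toScheme ⟶ Y => ψ ⟨η, hηU⟩) hu
    simpa [Scheme.Hom.comp_apply] using h1
  have hTcl : IsClosed (f '' closure {u ⟨η, hηU⟩}) :=
    hcl _ isClosed_closure isIrreducible_singleton.closure
  have hηT : η ∈ f '' closure {u ⟨η, hηU⟩} := ⟨_, subset_closure rfl, hfu⟩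
  have hyT : y ∈ f '' closure {u ⟨η, hηU⟩} :=
    (hgen.mem_closed_set_iff hTcl).mp hηT (subset_closure hyV₀)
  obtain ⟨x, hx, hxy⟩ := hyT
  refine ⟨x, ?_, hxy⟩
  have hsub : ({u ⟨η, hηU⟩} : Set X) ⊆ Set.range u := by
    rintro _ rfl
    exact ⟨_, rfl⟩
  exact closure_mono hsub hx

/-- a maximal rational section of a separated unramified morphism over a base with geometrically
unibranch local rings has open and closed image -/
theorem isClopen_range_of_maximal [IsReduced Y]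
    (hcomp : LocallyFinite (fun Z : ↥(irreducibleComponents ↥Y) => (Z : Set ↥Y)))
    (f : X ⟶ Y) [IsSeparated f] [LocallyOfFiniteType f] [FormallyUnramified f]
    (U : Y.Opens) (hU : Dense (U : Set ↥Y)) (u : (U : Scheme.{u}) ⟶ X) (hu : u ≫ f = U.ι)
    (hY : ∀ y : Y, CAlg2.IsGeomUnibranch (Y.presheaf.stalk y))
    (hmax : ∀ (V : Y.Opens) (v : (V : Scheme.{u}) ⟶ X), v ≫ f = V.ι →
      Y.homOfLE (inf_le_left : U ⊓ V ≤ U) ≫ u = Y.homOfLE (inf_le_right : U ⊓ V ≤ V) ≫ v → V ≤ U) :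
    IsOpen (Set.range u) ∧ IsClosed (Set.range u) := by
  haveI hOI : IsOpenImmersion (u ≫ f) := by rw [hu]; infer_instance
  haveI : IsOpenImmersion u := isOpenImmersion_of_section f u
  refine ⟨u.isOpenEmbedding.isOpen_range, ?_⟩
  rw [← closure_subset_iff_isClosed]
  intro x hx
  obtain ⟨V, v, hyV, hvx, hv, hcompat⟩ :=
    exists_section_nhd_strong hcomp f U hU u hu x (hY _) hx
  have hVU : V ≤ U := hmax V v hv hcompat
  have hyU : f x ∈ U := hVU hyV
  refine ⟨⟨f x, hyU⟩, ?_⟩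
  have h1 := congrArg (fun ψ : (U ⊓ V : Y.Opens).toScheme ⟶ X => ψ ⟨f x, hyU, hyV⟩) hcompat
  simp only [Scheme.Hom.comp_apply, Scheme.homOfLE_apply'] at h1
  rw [h1]
  exact hvx

end Sch

end Groth.Agent.Lib.RatSecH3
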