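import Mathlib
import Groth.Agent.Lib.RatSec3_helper8

/-!
# Rational sections of separated unramified formally proper morphisms over a normal base (helper8)
-/

set_option autoImplicit false
universe u
open CategoryTheory CategoryTheory.Limits AlgebraicGeometry TopologicalSpace

namespace RatSecH8

variable {X Y : Scheme.{u}}

theorem lqf_of_unramified {A B : Scheme.{u}} (g : A ⟶ B) [LocallyOfFiniteType g]
    [FormallyUnramified g] : LocallyQuasiFinite g := by
  refine ⟨fun {U} hU {V} hV e => ?_⟩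
  have h1 : (g.appLE U V e).hom.FiniteType := g.finiteType_appLE hU hV e
  have h2 : (g.appLE U V e).hom.FormallyUnramified := g.formallyUnramified_appLE hU hV e
  algebraize [(g.appLE U V e).hom]
  change Algebra.QuasiFinite _ _
  infer_instance

theorem isIso_ι_of_eq_top (W : X.Opens) (h : W = ⊤) : IsIso W.ι := by
  subst h
  exact (Scheme.topIso X).isIso_hom

/-- A section over a dense open extends over a normal point as soon as one DVR through the point
lifts (the `←` direction of the DVR criterion). -/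
theorem extends_of_exists_dvr [IsLocallyNoetherian X] (q : Y ⟶ X)
    [LocallyOfFiniteType q] [IsSeparated q] [LocallyQuasiFinite q] (U : X.Opens)
    (h : (U : Scheme.{u}) ⟶ Y) (hh : h ≫ q = U.ι) (x : X) [IsDomain (X.presheaf.stalk x)]
    (hx : IsIntegrallyClosed (X.presheaf.stalk x))
    (R : Type u) [CommRing R] [IsDomain R] [IsDiscreteValuationRing R]
    (u : Spec (CommRingCat.of R) ⟶ X) (ub : Spec (CommRingCat.of (FractionRing R)) ⟶ (U : Scheme.{u}))
    (h₁ : Spec (CommRingCat.of R) ⟶ Y)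
    (hucl : u (IsLocalRing.closedPoint R) = x)
    (hub : ub ≫ U.ι = Spec.map (CommRingCat.ofHom (algebraMap R (FractionRing R))) ≫ u)
    (h₁q : h₁ ≫ q = u)
    (h₁b : Spec.map (CommRingCat.ofHom (algebraMap R (FractionRing R))) ≫ h₁ = ub ≫ h) :
    ∃ (U' : X.Opens) (hUU' : U ≤ U') (h' : (U' : Scheme.{u}) ⟶ Y),
        x ∈ U' ∧ h' ≫ q = U'.ι ∧ X.homOfLE hUU' ≫ h' = h := by
  haveI : X.IsGermInjectiveAt x := inferInstance
  obtain ⟨N, hxN, hNint⟩ := Groth.Agent.Lib.RatExtH7.exists_isIntegral_nhd x inferInstance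
  haveI := hNint
  obtain ⟨z, hz1, -, hz3⟩ :=
    RatSecH8.exists_point_of_dvr q U h hh x N hxN R u hucl ub hub h₁ h₁q h₁b
  have hdisc := (pullback.fst N.ι q).isDiscrete_preimage_singleton ⟨x, hxN⟩
  obtain ⟨W, hWo, hW⟩ := (isDiscrete_iff_forall_mem_exists_isOpen.mp hdisc) z hz1
  have hiso : ∃ W : (pullback N.ι q).Opens, (W : Set ↥(pullback N.ι q)) ∩
      closure (Set.range (pullback.lift (N.ι ⁻¹ᵁ U).ι ((N.ι ∣_ U) ≫ h)
        (RatSecH8.resSec_comp q U N h hh))) ∩ (pullback.fst N.ι q) ⁻¹' {⟨x, hxN⟩} = {z} := by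
    refine ⟨⟨W, hWo⟩, ?_⟩
    apply Set.eq_singleton_iff_unique_mem.mpr
    have hzW : z ∈ W := by
      have : z ∈ W ∩ (pullback.fst N.ι q) ⁻¹' {⟨x, hxN⟩} := by rw [hW]; rfl
      exact this.1
    refine ⟨⟨⟨hzW, hz3⟩, hz1⟩, ?_⟩
    rintro w ⟨⟨hwW, -⟩, hwx⟩
    have : w ∈ W ∩ (pullback.fst N.ι q) ⁻¹' {⟨x, hxN⟩} := ⟨hwW, hwx⟩
    rw [hW] at this
    exact this
  obtain ⟨V, v, hxV, hvq, hag⟩ :=
    RatSecH8.section_extends_at q U h hh x N hxN hx z hz1 hz3 hiso
  obtain ⟨F, hFq, hF1, -⟩ := Groth.Agent.Lib.RatExtH7.exists_glue_two_over (𝟙 X) q U V h v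
    (by rw [hh, Category.comp_id]) (by rw [hvq, Category.comp_id]) hag.symm
  exact ⟨U ⊔ V, le_sup_left, F, Or.inr hxV, by rw [hFq, Category.comp_id], hF1⟩

/-- Under the existence part of the valuative criterion, a section over a dense open extends
over every normal point. -/
theorem extends_of_existence [IsLocallyNoetherian X] (q : Y ⟶ X)
    [LocallyOfFiniteType q] [IsSeparated q] [LocallyQuasiFinite q]
    (hq : ValuativeCriterion.Existence q) (U : X.Opens) (hU : Dense (U : Set X))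
    (h : (U : Scheme.{u}) ⟶ Y) (hh : h ≫ q = U.ι) (x : X) [IsDomain (X.presheaf.stalk x)]
    (hx : IsIntegrallyClosed (X.presheaf.stalk x)) :
    ∃ (U' : X.Opens) (hUU' : U ≤ U') (h' : (U' : Scheme.{u}) ⟶ Y),
        x ∈ U' ∧ h' ≫ q = U'.ι ∧ X.homOfLE hUU' ≫ h' = h := by
  by_cases hxU : x ∈ U
  · exact ⟨U, le_rfl, h, hxU, hh, by simp⟩
  haveI : X.IsGermInjectiveAt x := inferInstance
  obtain ⟨N, hxN, hNint⟩ := Groth.Agent.Lib.RatExtH7.exists_isIntegral_nhd x inferInstance
  haveI := hNint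
  have hbU := RatSecH8.generic_mem_of_dense U N hU
  have hbx := RatSecH8.generic_specializes N x hxN
  have hne : N.ι (genericPoint N.toScheme) ≠ x := fun e => hxU (e ▸ hbU)
  obtain ⟨R, iR, iD, iV, u, ub, hucl, hub, -⟩ :=
    RatSecH8.exists_dvr_of_specializes_mem U _ x hbU hbx hne
  have hsq : CommSq (ub ≫ h) (Spec.map (CommRingCat.ofHom (algebraMap R (FractionRing R)))) q u :=
    ⟨by rw [Category.assoc, hh, hub]⟩
  let S : ValuativeCommSq q := ⟨R, FractionRing R, ub ≫ h, u, hsq⟩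
  obtain ⟨⟨l, hl1, hl2⟩⟩ := (hq S).exists_lift
  exact extends_of_exists_dvr q U h hh x hx R u ub l hucl hub hl2 hl1

/-- Sections of a separated unramified formally proper morphism over a normal locally Noetherian
base: a section over a dense open extends to a global section. -/
theorem exists_section_of_existence [IsLocallyNoetherian X] (q : Y ⟶ X)
    [LocallyOfFiniteType q] [IsSeparated q] [LocallyQuasiFinite q]
    (hX : ∀ x : X, IsDomain (X.presheaf.stalk x) ∧ IsIntegrallyClosed (X.presheaf.stalk x))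
    (hq : ValuativeCriterion.Existence q) (U : X.Opens) (hU : Dense (U : Set X))
    (h : (U : Scheme.{u}) ⟶ Y) (hh : h ≫ q = U.ι) :
    ∃ w : X ⟶ Y, w ≫ q = 𝟙 X ∧ U.ι ≫ w = h := by
  haveI : ∀ x : X, _root_.IsReduced (X.presheaf.stalk x) := fun x => by
    haveI := (hX x).1
    infer_instance
  haveI : IsReduced X := isReduced_of_isReduced_stalk X
  have key : ∀ x : X, ∃ (U' : X.Opens) (hUU' : U ≤ U') (h' : (U' : Scheme.{u}) ⟶ Y),
      x ∈ U' ∧ h' ≫ q = U'.ι ∧ X.homOfLE hUU' ≫ h' = h := by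
    intro x
    haveI := (hX x).1
    exact extends_of_existence q hq U hU h hh x (hX x).2
  choose U' hUU' h' hxU' h'q h'res using key
  have hcompat : ∀ i j, X.homOfLE (inf_le_left : U' i ⊓ U' j ≤ U' i) ≫ h' i =
      X.homOfLE (inf_le_right : U' i ⊓ U' j ≤ U' j) ≫ h' j := by
    intro i j
    haveI : IsDominant (X.homOfLE (le_inf (hUU' i) (hUU' j))) :=
      Groth.Agent.Lib.RatExtH7.isDominant_homOfLE _ hU
    refine ext_of_isDominant_of_isSeparated q ?_ (X.homOfLE (le_inf (hUU' i) (hUU' j))) ?_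
    · rw [Category.assoc, Category.assoc, h'q, h'q, Scheme.homOfLE_ι, Scheme.homOfLE_ι]
    · rw [Scheme.homOfLE_homOfLE_assoc, Scheme.homOfLE_homOfLE_assoc, h'res, h'res]
  obtain ⟨F, hFq, hF⟩ := Groth.Agent.Lib.RatExtH7.exists_glue_over (𝟙 X) q U' h'
    (fun i => by rw [h'q, Category.comp_id]) hcompat
  have htop : (⨆ i, U' i) = ⊤ := by
    rw [eq_top_iff]
    intro x _
    exact (le_iSup U' x) (hxU' x)
  haveI : IsIso (⨆ i, U' i).ι := isIso_ι_of_eq_top _ htop
  refine ⟨inv (⨆ i, U' i).ι ≫ F, ?_, ?_⟩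
  · rw [Category.assoc, hFq, Category.comp_id, IsIso.inv_hom_id]
  · by_cases hne : Nonempty X
    · obtain ⟨x⟩ := hne
      have e1 : U.ι ≫ inv (⨆ i, U' i).ι = X.homOfLE ((hUU' x).trans (le_iSup U' x)) := by
        rw [IsIso.comp_inv_eq, Scheme.homOfLE_ι]
      rw [← Category.assoc, e1, ← Scheme.homOfLE_homOfLE X (hUU' x) (le_iSup U' x), Category.assoc,
        hF, h'res]
    · haveI : IsEmpty X := not_nonempty_iff.mp hne
      haveI : IsEmpty (U : Scheme.{u}) := ⟨fun a => IsEmpty.false (U.ι a)⟩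
      exact (isInitialOfIsEmpty (X := (U : Scheme.{u}))).hom_ext _ _

end RatSecH8
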