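import Mathlib
import Groth.Prelude
import Groth.Agent.Lib.ZeroSch2_helper8
import Groth.Agent.Lib.MeroInv8_helper8
import Groth.Agent.Lib.Tens14_helper8

set_option autoImplicit false

namespace ZeroSchH8

open AlgebraicGeometry CategoryTheory CategoryTheory.Limits TopologicalSpace Opposite
open QcqsLoc QCohExtn GenLocH8 TensH8 MeroInvH8 Groth.Agent.Lib.Mero_helper4

universe u

variable {X : Scheme.{u}}

/-- values of a representative of an effective divisor are regular. -/
theorem mem_range_of_isEffectiveAt (D : Mero.Divisor X) {U : X.Opens} (f : (Γ(Mero.kmod X, U))ˣ)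
    (hf : ∀ y : U, D.1 y.1 = Mero.germOf f y) (y : U) (hD : Mero.IsEffectiveAt D y.1) :
    f.1.1 y ∈ (algebraMap (X.presheaf.stalk y.1) (Mero.KStalk X y.1)).range := by
  obtain ⟨a, ha⟩ := hD
  rw [hf y, QuotientGroup.eq] at ha
  obtain ⟨v, hv⟩ := ha
  -- alg v = f_y⁻¹ * alg a
  have h3 : f.1.1 y * algebraMap _ _ (v : X.presheaf.stalk y.1) =
      algebraMap _ _ (a : X.presheaf.stalk y.1) := by
    have h4 : ((Units.map (Mero.evalK X U y).toMonoidHom f : (Mero.KStalk X y.1)ˣ) :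
        Mero.KStalk X y.1) = f.1.1 y := rfl
    have h5 : f.1.1 y * (((Units.map (Mero.evalK X U y).toMonoidHom f)⁻¹ : (Mero.KStalk X y.1)ˣ) :
        Mero.KStalk X y.1) = 1 := by
      rw [← h4, ← Units.val_mul, mul_inv_cancel, Units.val_one]
    have h6 : ((Units.map (algebraMap (X.presheaf.stalk y.1) (Mero.KStalk X y.1)).toMonoidHom v :
        (Mero.KStalk X y.1)ˣ) : Mero.KStalk X y.1) =
        algebraMap _ _ (v : X.presheaf.stalk y.1) := rfl
    have h7 := congrArg Units.val hv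
    rw [h6, Units.val_mul] at h7
    rw [h7, ← mul_assoc, h5, one_mul, IsUnit.unit_spec]
  refine ⟨(a : X.presheaf.stalk y.1) * ((v⁻¹ : (X.presheaf.stalk y.1)ˣ) : X.presheaf.stalk y.1), ?_⟩
  rw [map_mul, ← h3, mul_assoc, ← map_mul, Units.mul_inv, map_one, mul_one]

end ZeroSchH8

namespace ZeroSchH8

open AlgebraicGeometry CategoryTheory CategoryTheory.Limits TopologicalSpace Opposite
open QcqsLoc QCohExtn GenLocH8 TensH8 MeroInvH8 Groth.Agent.Lib.Mero_helper4

universe u

variable {X : Scheme.{u}}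

theorem divCond_one_of_isEffectiveAt (D : Mero.Divisor X) (y : X) (h : Mero.IsEffectiveAt D y) :
    Mero.DivCond D y 1 := by
  intro g hg
  obtain ⟨a, ha⟩ := h
  rw [hg, eq_comm, QuotientGroup.eq] at ha
  obtain ⟨v, hv⟩ := ha
  have h6 : ((Units.map (algebraMap (X.presheaf.stalk y) (Mero.KStalk X y)).toMonoidHom v :
      (Mero.KStalk X y)ˣ) : Mero.KStalk X y) = algebraMap _ _ (v : X.presheaf.stalk y) := rfl
  have h7 := congrArg Units.val hv
  rw [h6, Units.val_mul] at h7
  -- g = alg a * alg v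
  have h8 : (g : Mero.KStalk X y) = algebraMap _ _ (a : X.presheaf.stalk y) *
      algebraMap _ _ (v : X.presheaf.stalk y) := by
    rw [h7, ← mul_assoc]
    have h9 : algebraMap _ _ (a : X.presheaf.stalk y) *
        (((IsLocalization.map_units (Mero.KStalk X y) a).unit⁻¹ : (Mero.KStalk X y)ˣ) :
          Mero.KStalk X y) = 1 := by
      have := Units.mul_inv (IsLocalization.map_units (Mero.KStalk X y) a).unit
      rw [IsUnit.unit_spec] at this
      exact this
    rw [h9, one_mul]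
  rw [one_mul, h8, ← map_mul]
  exact ⟨_, rfl⟩

/-- the section `1` of `O(D)` for `D` effective. -/
noncomputable def oneSec (D : Mero.Divisor X) (hD : Mero.IsEffective D) (W : X.Opens) :
    Γ(Mero.divMod D, W) :=
  (⟨fun _ => 1, ⟨Mero.kLoc_one X W, fun y => divCond_one_of_isEffectiveAt D y.1 (hD y.1)⟩⟩ :
    Γ(Mero.divMod D, W))

/-- S19458. -/
theorem exists_section_of_iso [IsIntegral X] (L : X.Modules) (hL : PicF.IsInvertible L)
    (D : Mero.Divisor X) (hD : Mero.IsEffective D) (e : L ≅ Mero.divMod D) :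
    ∃ s : Coh.structureModule X ⟶ L, s ≠ 0 ∧ Mero.IsDivOfIdeal D (PicF2.zeroScheme L s) := by
  let s : Coh.structureModule X ⟶ L := SDivGenH8.unitHom (Mero.divMod D) (oneSec D hD ⊤) ≫ e.inv
  have hval : ∀ W : X.Opens, (SecTwist.val s W : Γ(L, W)) = ap e.inv W (oneSec D hD W) := by
    intro W
    show (e.inv.val.app (op W)).hom
      ((SDivGenH8.unitHom (Mero.divMod D) (oneSec D hD ⊤)).val.app (op W)
        (1 : X.ringCatSheaf.obj.obj (op W))) = _
    rw [SDivGenH8.unitHom_app_one]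
    rfl
  refine ⟨s, ?_, ?_⟩
  · intro hs
    have h1 : (SecTwist.val s ⊤ : Γ(L, ⊤)) = 0 := by
      rw [hs]
      rfl
    rw [hval] at h1
    have h2 := congrArg (ap e.hom ⊤) h1
    rw [ap_hom_inv] at h2
    have h2' : oneSec D hD ⊤ = 0 := h2.trans (map_zero _)
    obtain ⟨x⟩ : Nonempty X := inferInstance
    have h3 := congrArg (fun t : Γ(Mero.divMod D, ⊤) => t.1 ⟨x, trivial⟩) h2'
    exact one_ne_zero h3
  · intro x
    obtain ⟨U₀, hxU₀, f, hf⟩ := D.2 x
    have hf' : ∀ y : U₀, D.1 y.1 = Mero.germOf f y := fun y => hf y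
    obtain ⟨c, hc⟩ := exists_toK_eq (f : Γ(Mero.kmod X, U₀))
      (fun y => mem_range_of_isEffectiveAt D f hf' y (hD y.1))
    have hcy : ∀ y : U₀, algebraMap _ _ (X.presheaf.germ U₀ y.1 y.2 c) = f.1.1 y := by
      intro y
      rw [← mk_one_eq_algebraMap, ← Mero.toK_apply, hc]
    -- `c` is regular
    have hcreg : c ∈ Mero.regSub X U₀ := by
      intro y
      rw [mem_nonZeroDivisors_iff_right]
      intro z hz
      apply Mero.algebraMap_KStalk_injective y.1
      have h1 := congrArg (algebraMap (X.presheaf.stalk y.1) (Mero.KStalk X y.1)) hz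
      rw [map_mul, map_zero, hcy y] at h1
      rw [map_zero]
      calc algebraMap (X.presheaf.stalk y.1) (Mero.KStalk X y.1) z
          = ((f⁻¹).1.1 y * f.1.1 y) * algebraMap (X.presheaf.stalk y.1) (Mero.KStalk X y.1) z := by
            rw [inv_mul_val, one_mul]
        _ = (f⁻¹).1.1 y * (f.1.1 y * algebraMap (X.presheaf.stalk y.1) (Mero.KStalk X y.1) z) :=
            mul_assoc _ _ _
        _ = 0 := by rw [mul_comm (f.1.1 y), h1, mul_zero]
    -- generators
    have hgen : IsGen (Mero.divMod D) U₀ (invSec D f hf' U₀ le_rfl) := isGen_invSec D f hf'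
    have hgenL : IsGen L U₀ (ap e.inv U₀ (invSec D f hf' U₀ le_rfl)) :=
      isGen_of_iso e.symm hgen
    have hone : oneSec D hD U₀ = c • invSec D f hf' U₀ le_rfl := by
      apply Subtype.ext
      funext y
      show (1 : Mero.KStalk X y.1) = X.presheaf.germ U₀ y.1 y.2 c • (f⁻¹).1.1 y
      rw [Algebra.smul_def, hcy, mul_inv_val]
    obtain ⟨_, ⟨U, hU : IsAffineOpen U, rfl⟩, hxU, hUle⟩ :=
      (X.isBasis_affineOpens).exists_subset_of_mem_open hxU₀ U₀.isOpen
    have hUU₀ : U ≤ U₀ := hUle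
    have hcU : rX hUU₀ c ∈ Mero.regSub X U := Mero.regSub_res (homOfLE hUU₀) hcreg
    refine ⟨⟨U, hU⟩, hxU, rX hUU₀ c, hcU, ?_, ?_⟩
    · refine zeroScheme_ideal_of_isGen hL s hgenL ⟨U, hU⟩ hUU₀ (rX hUU₀ c) ?_
      rw [← TensH8.rF_val s hUU₀, hval, hone, ap_smul, rF_smul]
    · intro y
      rw [hf ⟨y.1, hUU₀ y.2⟩]
      show QuotientGroup.mk _ = QuotientGroup.mk _
      congr 1
      apply Units.ext
      show f.1.1 ⟨y.1, hUU₀ y.2⟩ = algebraMap _ _ (X.presheaf.germ U y.1 y.2 (rX hUU₀ c))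
      rw [TopCat.Presheaf.germ_res_apply]
      exact (hcy ⟨y.1, hUU₀ y.2⟩).symm

end ZeroSchH8
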