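import Mathlib
import Groth.Prelude
import Groth.Agent.Lib.ZeroSch3_helper8
import Groth.Agent.Lib.Tens40_helper8

set_option autoImplicit false

namespace ZeroSchH8

open AlgebraicGeometry CategoryTheory CategoryTheory.Limits TopologicalSpace Opposite
open QcqsLoc QCohExtn GenLocH8 TensH8 MeroInvH8

universe u

variable {X : Scheme.{u}}

theorem colonI_unit_smul {A : Type u} [CommRing A] {M : Type u} [AddCommGroup M] [Module A M]
    (t : M) (h : A) (hh : IsUnit h) : colonI A (h • t) = colonI A t := by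
  obtain ⟨v, hv⟩ := hh.exists_left_inv
  ext x
  rw [mem_colonI, mem_colonI]
  constructor
  · intro H m
    obtain ⟨b, hb⟩ := H m
    exact ⟨b * h, by rw [hb, mul_smul]⟩
  · intro H m
    obtain ⟨b, hb⟩ := H m
    refine ⟨b * v, ?_⟩
    rw [hb, mul_smul, ← mul_smul v, hv, one_smul]

/-- (⇐) of S19457. -/
theorem zeroScheme_eq_of_unit (L : X.Modules) (s s' : Coh.structureModule X ⟶ L)
    (h : Γ(X, ⊤)) (hh : IsUnit h)
    (hs : (SecTwist.val s' ⊤ : Γ(L, ⊤)) = h • (SecTwist.val s ⊤ : Γ(L, ⊤))) :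
    PicF2.zeroScheme L s' = PicF2.zeroScheme L s := by
  unfold PicF2.zeroScheme
  congr 1
  funext U
  have h1 : (SecTwist.val s' U.1 : Γ(L, U.1)) =
      rX (le_top : U.1 ≤ ⊤) h • (SecTwist.val s U.1 : Γ(L, U.1)) := by
    have e1 := rF_val s' (le_top : U.1 ≤ ⊤)
    have e2 := rF_val s (le_top : U.1 ≤ ⊤)
    have e3 := rF_smul (F := L) (le_top : U.1 ≤ ⊤) h (SecTwist.val s ⊤ : Γ(L, ⊤))
    rw [e2] at e3
    exact e1.symm.trans ((congrArg (rF L (le_top : U.1 ≤ ⊤)) hs).trans e3)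
  show colonI Γ(X, U.1) (SecTwist.val s' U.1 : Γ(L, U.1)) =
    colonI Γ(X, U.1) (SecTwist.val s U.1 : Γ(L, U.1))
  rw [h1]
  exact colonI_unit_smul _ _ (hh.map _)


theorem val_ne_zero [IsIntegral X] {L : X.Modules} (hL : PicF.IsInvertible L)
    (s : Coh.structureModule X ⟶ L) (hs : s ≠ 0) {W : X.Opens} (hW : (W : Set X).Nonempty) :
    (SecTwist.val s W : Γ(L, W)) ≠ 0 := by
  intro h0
  apply hs
  apply hom_ext_of_val
  have h1 : rF L (le_top : W ≤ ⊤) (SecTwist.val s ⊤ : Γ(L, ⊤)) = 0 :=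
    (rF_val s (le_top : W ≤ ⊤)).trans h0
  have h2 := eq_zero_of_rF_eq_zero hL (le_top : W ≤ ⊤) hW _ h1
  exact h2.trans rfl

/-- (⇒) of S19457. -/
theorem exists_unit_of_zeroScheme_eq [IsIntegral X] (L : X.Modules) (hL : PicF.IsInvertible L)
    (s s' : Coh.structureModule X ⟶ L) (hs : s ≠ 0)
    (hZ : PicF2.zeroScheme L s' = PicF2.zeroScheme L s) :
    ∃ h : Γ(X, ⊤), IsUnit h ∧
      (SecTwist.val s' ⊤ : Γ(L, ⊤)) = h • (SecTwist.val s ⊤ : Γ(L, ⊤)) := by
  classical
  -- local data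
  have hloc : ∀ x : X, ∃ (W : X.Opens) (_ : x ∈ W) (e : Γ(L, W)) (_ : IsGen L W e)
      (c : Γ(X, W)) (u : Γ(X, W)), IsUnit u ∧ c ≠ 0 ∧
      (SecTwist.val s W : Γ(L, W)) = c • e ∧ (SecTwist.val s' W : Γ(L, W)) = (u * c) • e := by
    intro x
    obtain ⟨W, hW, hxW, e, he⟩ := exists_isGen hL x
    obtain ⟨c, hc⟩ := he.exists_coef (SecTwist.val s W)
    obtain ⟨c', hc'⟩ := he.exists_coef (SecTwist.val s' W)
    haveI : Nonempty W := ⟨⟨x, hxW⟩⟩
    have hc0 : c ≠ 0 := by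
      intro h0
      apply val_ne_zero hL s hs ⟨x, hxW⟩
      exact hc.trans ((congrArg (fun t : Γ(X, W) => t • e) h0).trans (zero_smul _ e))
    have hcnzd : c ∈ nonZeroDivisors Γ(X, W) := mem_nonZeroDivisors_of_ne_zero hc0
    have hI := zeroScheme_ideal_of_isGen hL s he ⟨W, hW⟩ le_rfl c
      (by rw [SubExt.rF_self]; exact hc)
    have hI' := zeroScheme_ideal_of_isGen hL s' he ⟨W, hW⟩ le_rfl c'
      (by rw [SubExt.rF_self]; exact hc')
    rw [hZ, hI] at hI'
    obtain ⟨u, hu⟩ := exists_unit_of_span_eq hcnzd hI'.symm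
    exact ⟨W, hxW, e, he, c, u, u.isUnit, hc0, hc, by rw [← hu]; exact hc'⟩
  choose W hxW e he c u hu hc0 hc hc' using hloc
  -- `val s'` is `u • val s` on smaller opens
  have hrel : ∀ (x : X) (V : X.Opens) (hV : V ≤ W x),
      (SecTwist.val s' V : Γ(L, V)) = rX hV (u x) • (SecTwist.val s V : Γ(L, V)) := by
    intro x V hV
    have e1 := rF_val s' hV
    have e2 := rF_val s hV
    rw [hc' x, mul_smul, ← hc x] at e1
    have e3 := rF_smul (F := L) hV (u x) (SecTwist.val s (W x) : Γ(L, W x))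
    rw [e2] at e3
    exact e1.symm.trans e3
  have hcompat : TopCat.Presheaf.IsCompatible X.presheaf W u := by
    intro x y
    set V : X.Opens := W x ⊓ W y with hVdef
    have hVx : V ≤ W x := inf_le_left
    have hVy : V ≤ W y := inf_le_right
    have hVne : (V : Set X).Nonempty :=
      inter_nonempty_of_isIntegral ⟨x, hxW x⟩ ⟨y, hxW y⟩
    haveI : Nonempty V := hVne.to_subtype
    show rX hVx (u x) = rX hVy (u y)
    have h1 := hrel x V hVx
    have h2 := hrel y V hVy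
    have h3 : (SecTwist.val s V : Γ(L, V)) = rX hVx (c x) • rF L hVx (e x) := by
      have e2 := rF_val s hVx
      rw [hc x] at e2
      exact e2.symm.trans (rF_smul (F := L) hVx (c x) (e x))
    have h4 : ((rX hVx (u x) - rX hVy (u y)) * rX hVx (c x)) • rF L hVx (e x) = 0 := by
      have k1 : ((rX hVx (u x) - rX hVy (u y)) * rX hVx (c x)) • rF L hVx (e x) =
          (rX hVx (u x) - rX hVy (u y)) • (SecTwist.val s V : Γ(L, V)) := by
        rw [mul_smul]
        exact congrArg (fun t : Γ(L, V) => (rX hVx (u x) - rX hVy (u y)) • t) h3.symm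
      have k2 : (rX hVx (u x) - rX hVy (u y)) • (SecTwist.val s V : Γ(L, V)) =
          rX hVx (u x) • (SecTwist.val s V : Γ(L, V)) -
            rX hVy (u y) • (SecTwist.val s V : Γ(L, V)) := sub_smul _ _ _
      have k3 : rX hVx (u x) • (SecTwist.val s V : Γ(L, V)) -
            rX hVy (u y) • (SecTwist.val s V : Γ(L, V)) = 0 :=
        sub_eq_zero.2 (h1.symm.trans h2)
      exact k1.trans (k2.trans k3)
    have h5 := ((he x) V hVx).2 _ h4
    have h6 : rX hVx (c x) ≠ 0 := by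
      intro h0
      exact hc0 x (rX_injective_of_isIntegral hVx hVne (h0.trans (map_zero _).symm))
    rcases mul_eq_zero.1 h5 with h7 | h7
    · exact sub_eq_zero.1 h7
    · exact absurd h7 h6
  have hcover : (⊤ : X.Opens) ≤ iSup W := by
    intro y _
    exact Opens.mem_iSup.2 ⟨y, hxW y⟩
  obtain ⟨h, hh, -⟩ := TopCat.Sheaf.existsUnique_gluing' X.sheaf W ⊤ (fun y => homOfLE le_top)
    hcover u hcompat
  have hh' : ∀ x : X, rX (le_top : W x ≤ ⊤) h = u x := hh
  refine ⟨h, ?_, ?_⟩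
  · apply X.toRingedSpace.isUnit_of_isUnit_germ ⊤ h
    intro x _
    have h1 : X.presheaf.germ ⊤ x trivial h = X.presheaf.germ (W x) x (hxW x) (u x) := by
      rw [← hh' x]
      exact (TopCat.Presheaf.germ_res_apply X.presheaf (homOfLE (le_top : W x ≤ ⊤)) x (hxW x) h).symm
    rw [h1]
    exact (hu x).map _
  · rw [← sub_eq_zero]
    apply eq_zero_of_cover
    intro x _
    refine ⟨W x, le_top, hxW x, ?_⟩
    refine (map_sub (rF L (le_top : W x ≤ ⊤)) (SecTwist.val s' ⊤ : Γ(L, ⊤))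
      (h • (SecTwist.val s ⊤ : Γ(L, ⊤)))).trans (sub_eq_zero.2 ?_)
    have e1 := rF_val s' (le_top : W x ≤ ⊤)
    have e2 := rF_val s (le_top : W x ≤ ⊤)
    have e3 := rF_smul (F := L) (le_top : W x ≤ ⊤) h (SecTwist.val s ⊤ : Γ(L, ⊤))
    rw [e2, hh' x] at e3
    have e4 := hrel x (W x) le_rfl
    have e5 : rX (le_rfl : W x ≤ W x) (u x) = u x := by
      show (X.presheaf.map (homOfLE (le_rfl : W x ≤ W x)).op).hom (u x) = u x
      have : (homOfLE (le_rfl : W x ≤ W x)).op = 𝟙 (op (W x)) := Subsingleton.elim _ _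
      rw [this, X.presheaf.map_id]
      rfl
    rw [e5] at e4
    exact e1.trans (e4.trans e3.symm)

end ZeroSchH8
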