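import Mathlib
import Groth.Prelude
import Groth.Agent.Lib.ZeroSch4_helper8

/-!
# The divisor of a nonzero section of an invertible module on an integral scheme (helper8)
APPEND-ONLY once landed.
-/

set_option autoImplicit false

namespace RatioH8

open AlgebraicGeometry CategoryTheory CategoryTheory.Limits TopologicalSpace Opposite
open QcqsLoc QCohExtn GenLocH8 TensH8 MeroInvH8 Groth.Agent.Lib.Mero_helper4

universe u

variable {X : Scheme.{u}}


section PtData

variable {T : X → Type u} [∀ x, AddCommGroup (T x)] [∀ x, Module (X.presheaf.stalk x) (T x)]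

/-- Data defining a morphism into a module of dependent functions, pointwise. -/
structure PtData (L : X.Modules) (P : TopCat.LocalPredicate T) [Mero.IsModPred P] where
  φ : ∀ (U : X.Opens), Γ(L, U) → ∀ x : U, T x.1
  pred : ∀ (U : X.Opens) (m : Γ(L, U)), P.pred (φ U m)
  map_add : ∀ (U : X.Opens) (m m' : Γ(L, U)) (x : U), φ U (m + m') x = φ U m x + φ U m' x
  map_smul : ∀ (U : X.Opens) (r : Γ(X, U)) (m : Γ(L, U)) (x : U),
    φ U (r • m) x = X.presheaf.germ U x.1 x.2 r • φ U m x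
  res : ∀ (U V : X.Opens) (h : V ≤ U) (m : Γ(L, U)) (x : V),
    φ V (rF L h m) x = φ U m ⟨x.1, h x.2⟩

variable {L : X.Modules} {P : TopCat.LocalPredicate T} [Mero.IsModPred P]

/-- The additive map on sections. -/
noncomputable def PtData.fn (d : PtData L P) (U : X.Opens) : Γ(L, U) →+ Γ(Mero.modOf P, U) :=
  AddMonoidHom.mk' (fun m => (⟨d.φ U m, d.pred U m⟩ : Γ(Mero.modOf P, U)))
    (fun m m' => Subtype.ext (funext fun x => d.map_add U m m' x))

/-- The morphism of modules defined by pointwise data. -/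
noncomputable def PtData.toHom (d : PtData L P) : L ⟶ Mero.modOf P :=
  ⟨PresheafOfModules.homMk (M₁ := L.val) (M₂ := (Mero.modOf P).val)
    { app := fun U => AddCommGrpCat.ofHom (d.fn U.unop)
      naturality := fun {U V} i => by
        ext m
        refine Subtype.ext (funext fun x => ?_)
        exact (d.res U.unop V.unop i.unop.le m x) }
    (fun U r m => Subtype.ext <| funext fun x => d.map_smul U.unop r m x)⟩

theorem PtData.toHom_app (d : PtData L P) (U : X.Opens) (m : Γ(L, U)) (x : U) :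
    (ap d.toHom U m).1 x = d.φ U m x := rfl

end PtData



section Coef

variable {L : X.Modules} {W : X.Opens} {e : Γ(L, W)}

/-- The coefficient of a section with respect to a generator. -/
noncomputable def coef (he : IsGen L W e) {O : X.Opens} (hO : O ≤ W) (m : Γ(L, O)) : Γ(X, O) :=
  ((he O hO).1 m).choose

theorem coef_spec (he : IsGen L W e) {O : X.Opens} (hO : O ≤ W) (m : Γ(L, O)) :
    m = coef he hO m • rF L hO e :=
  ((he O hO).1 m).choose_spec

theorem coef_unique (he : IsGen L W e) {O : X.Opens} (hO : O ≤ W) (m : Γ(L, O)) (r : Γ(X, O))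
    (h : m = r • rF L hO e) : coef he hO m = r := by
  have h1 : (coef he hO m - r) • rF L hO e = 0 := by
    have h2 : (coef he hO m - r) • rF L hO e = coef he hO m • rF L hO e - r • rF L hO e :=
      sub_smul _ _ _
    exact h2.trans (sub_eq_zero.2 ((coef_spec he hO m).symm.trans h))
  exact sub_eq_zero.1 ((he O hO).2 _ h1)

theorem coef_add (he : IsGen L W e) {O : X.Opens} (hO : O ≤ W) (m m' : Γ(L, O)) :
    coef he hO (m + m') = coef he hO m + coef he hO m' := by
  apply coef_unique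
  have h1 : (coef he hO m + coef he hO m') • rF L hO e =
      coef he hO m • rF L hO e + coef he hO m' • rF L hO e := add_smul _ _ _
  exact (congrArg₂ (· + ·) (coef_spec he hO m) (coef_spec he hO m')).trans h1.symm

theorem coef_smul (he : IsGen L W e) {O : X.Opens} (hO : O ≤ W) (a : Γ(X, O)) (m : Γ(L, O)) :
    coef he hO (a • m) = a * coef he hO m := by
  apply coef_unique
  have h1 : (a * coef he hO m) • rF L hO e = a • (coef he hO m • rF L hO e) := mul_smul _ _ _
  exact (congrArg (fun t : Γ(L, O) => a • t) (coef_spec he hO m)).trans h1.symm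

theorem coef_res (he : IsGen L W e) {O O' : X.Opens} (hO' : O' ≤ O) (hO : O ≤ W) (m : Γ(L, O)) :
    coef he (hO'.trans hO) (rF L hO' m) = rX hO' (coef he hO m) := by
  apply coef_unique
  have h1 := congrArg (rF L hO') (coef_spec he hO m)
  have h2 := rF_smul (F := L) hO' (coef he hO m) (rF L hO e)
  have h3 := rF_rF (F := L) hO' hO e
  exact h1.trans (h2.trans (congrArg (fun t : Γ(L, O') => rX hO' (coef he hO m) • t) h3))

theorem coef_gen (he : IsGen L W e) {O : X.Opens} (hO : O ≤ W) :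
    coef he hO (rF L hO e) = 1 := by
  apply coef_unique
  exact (one_smul _ _).symm

variable {W' : X.Opens} {e' : Γ(L, W')}

/-- change of generator. -/
theorem coef_change (he : IsGen L W e) (he' : IsGen L W' e') {O : X.Opens} (hO : O ≤ W)
    (hO' : O ≤ W') (m : Γ(L, O)) :
    coef he hO m = coef he' hO' m * coef he hO (rF L hO' e') := by
  apply coef_unique
  have h1 : (coef he' hO' m * coef he hO (rF L hO' e')) • rF L hO e =
      coef he' hO' m • (coef he hO (rF L hO' e') • rF L hO e) := mul_smul _ _ _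
  have h2 := coef_spec he hO (rF L hO' e')
  have h3 := coef_spec he' hO' m
  exact h3.trans ((congrArg (fun t : Γ(L, O) => coef he' hO' m • t) h2).trans h1.symm)

/-- cross-multiplication: the ratio of coefficients does not depend on the generator. -/
theorem coef_cross (he : IsGen L W e) (he' : IsGen L W' e') {O : X.Opens} (hO : O ≤ W)
    (hO' : O ≤ W') (m t : Γ(L, O)) :
    coef he hO m * coef he' hO' t = coef he' hO' m * coef he hO t := by
  rw [coef_change he he' hO hO' m, coef_change he he' hO hO' t]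
  ring

theorem coef_gen_mul (he : IsGen L W e) (he' : IsGen L W' e') {O : X.Opens} (hO : O ≤ W)
    (hO' : O ≤ W') :
    coef he' hO' (rF L hO e) * coef he hO (rF L hO' e') = 1 := by
  rw [← coef_change he he' hO hO' (rF L hO e), coef_gen]

theorem isUnit_coef_gen (he : IsGen L W e) (he' : IsGen L W' e') {O : X.Opens} (hO : O ≤ W)
    (hO' : O ≤ W') : IsUnit (coef he hO (rF L hO' e')) :=
  IsUnit.of_mul_eq_one _ ((mul_comm _ _).trans (coef_gen_mul he he' hO hO'))

end Coef



theorem mem_regSub_of_ne_zero [IsIntegral X] {W : X.Opens} {c : Γ(X, W)} (hc : c ≠ 0) :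
    c ∈ Mero.regSub X W := by
  intro y
  apply mem_nonZeroDivisors_of_ne_zero
  intro h0
  apply hc
  exact germ_injective_of_isIntegral X y.1 y.2 (h0.trans (map_zero _).symm)

/-- The unit of `K_X(W)` defined by a regular section. -/
noncomputable def unitK {W : X.Opens} (c : Γ(X, W)) (hc : c ∈ Mero.regSub X W) :
    (Γ(Mero.kmod X, W))ˣ :=
  ⟨Mero.toK X W c, invK ⟨c, hc⟩, toK_mul_invK ⟨c, hc⟩,
    (mul_comm _ _).trans (toK_mul_invK ⟨c, hc⟩)⟩

theorem unitK_val {W : X.Opens} (c : Γ(X, W)) (hc : c ∈ Mero.regSub X W) (y : W) :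
    (unitK c hc).1.1 y = algebraMap _ _ (X.presheaf.germ W y.1 y.2 c) := by
  show (Mero.toK X W c).1 y = _
  rw [Mero.toK_apply, mk_one_eq_algebraMap]

theorem unitK_inv_val {W : X.Opens} (c : Γ(X, W)) (hc : c ∈ Mero.regSub X W) (y : W) :
    ((unitK c hc)⁻¹).1.1 y = LocalizedModule.mk 1 (Mero.regGerm y ⟨c, hc⟩) := rfl

/-- `germOf` of two regular sections differing by a unit germ agree. -/
theorem germOf_unitK_eq {W W' : X.Opens} (c : Γ(X, W)) (hc : c ∈ Mero.regSub X W)
    (c' : Γ(X, W')) (hc' : c' ∈ Mero.regSub X W') (y : X) (hy : y ∈ W) (hy' : y ∈ W')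
    (w : (X.presheaf.stalk y)ˣ)
    (h : X.presheaf.germ W y hy c = X.presheaf.germ W' y hy' c' * w) :
    Mero.germOf (unitK c hc) ⟨y, hy⟩ = Mero.germOf (unitK c' hc') ⟨y, hy'⟩ := by
  rw [Mero.germOf, Mero.germOf, eq_comm, QuotientGroup.eq]
  refine ⟨w, ?_⟩
  rw [eq_inv_mul_iff_mul_eq]
  apply Units.ext
  show (unitK c' hc').1.1 ⟨y, hy'⟩ * algebraMap _ _ (w : X.presheaf.stalk y) =
    (unitK c hc).1.1 ⟨y, hy⟩
  rw [unitK_val, unitK_val, ← map_mul, h]


/-- Local trivialisations of `(L, s)` around every point. -/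
structure SecData (L : X.Modules) (s : Coh.structureModule X ⟶ L) where
  W : X → X.Opens
  hW : ∀ x, IsAffineOpen (W x)
  mem : ∀ x, x ∈ W x
  e : ∀ x, Γ(L, W x)
  he : ∀ x, IsGen L (W x) (e x)
  c : ∀ x, Γ(X, W x)
  creg : ∀ x, c x ∈ Mero.regSub X (W x)
  hc : ∀ x, (SecTwist.val s (W x) : Γ(L, W x)) = c x • e x

theorem exists_secData [IsIntegral X] {L : X.Modules} (hL : PicF.IsInvertible L)
    (s : Coh.structureModule X ⟶ L) (hs : s ≠ 0) : Nonempty (SecData L s) := by
  have hloc : ∀ x : X, ∃ (W : X.Opens) (_ : IsAffineOpen W) (_ : x ∈ W) (e : Γ(L, W))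
      (_ : IsGen L W e) (c : Γ(X, W)), c ∈ Mero.regSub X W ∧
      (SecTwist.val s W : Γ(L, W)) = c • e := by
    intro x
    obtain ⟨W, hW, hxW, e, he⟩ := exists_isGen hL x
    obtain ⟨c, hc⟩ := he.exists_coef (SecTwist.val s W)
    have hc0 : c ≠ 0 := by
      intro h0
      apply ZeroSchH8.val_ne_zero hL s hs ⟨x, hxW⟩
      exact hc.trans ((congrArg (fun t : Γ(X, W) => t • e) h0).trans (zero_smul _ e))
    exact ⟨W, hW, hxW, e, he, c, mem_regSub_of_ne_zero hc0, hc⟩
  choose W hW mem e he c creg hc using hloc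
  exact ⟨⟨W, hW, mem, e, he, c, creg, hc⟩⟩



namespace SecData

variable {L : X.Modules} {s : Coh.structureModule X ⟶ L} (d : SecData L s)

theorem coef_val (x : X) {O : X.Opens} (hO : O ≤ d.W x) :
    coef (d.he x) hO (SecTwist.val s O) = rX hO (d.c x) := by
  apply coef_unique
  exact val_res_coef s (d.hc x) hO

/-- comparing the local equations. -/
theorem c_rel (x y : X) {O : X.Opens} (hx : O ≤ d.W x) (hy : O ≤ d.W y) :
    rX hx (d.c x) = rX hy (d.c y) * coef (d.he x) hx (rF L hy (d.e y)) := by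
  rw [← coef_val d x hx, ← coef_val d y hy]
  exact coef_change (d.he x) (d.he y) hx hy _

theorem germ_rel (x y : X) (hy : y ∈ d.W x) : ∃ w : (X.presheaf.stalk y)ˣ,
    X.presheaf.germ (d.W x) y hy (d.c x) =
      X.presheaf.germ (d.W y) y (d.mem y) (d.c y) * w := by
  have hx : d.W x ⊓ d.W y ≤ d.W x := inf_le_left
  have hyO : d.W x ⊓ d.W y ≤ d.W y := inf_le_right
  have hyO' : y ∈ d.W x ⊓ d.W y := ⟨hy, d.mem y⟩
  have hu := isUnit_coef_gen (d.he x) (d.he y) hx hyO
  refine ⟨(hu.map (X.presheaf.germ (d.W x ⊓ d.W y) y hyO').hom).unit, ?_⟩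
  rw [IsUnit.unit_spec]
  have h1 := congrArg (X.presheaf.germ (d.W x ⊓ d.W y) y hyO') (d.c_rel x y hx hyO)
  rw [map_mul] at h1
  have h2 := TopCat.Presheaf.germ_res_apply X.presheaf (homOfLE hx) y hyO' (d.c x)
  have h3 := TopCat.Presheaf.germ_res_apply X.presheaf (homOfLE hyO) y hyO' (d.c y)
  exact h2.symm.trans (h1.trans (congrArg (· * _) h3))

/-- The local equation as a unit of `K_X`. -/
noncomputable def fK (x : X) : (Γ(Mero.kmod X, d.W x))ˣ := unitK (d.c x) (d.creg x)

/-- The divisor of zeros of `s`. -/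
noncomputable def div : Mero.Divisor X :=
  ⟨fun y => Mero.germOf (d.fK y) ⟨y, d.mem y⟩, fun x => ⟨d.W x, d.mem x, d.fK x, fun y => by
    obtain ⟨w, hw⟩ := d.germ_rel x y.1 y.2
    exact (germOf_unitK_eq _ _ _ _ y.1 y.2 (d.mem y.1) w hw).symm⟩⟩

theorem div_eq (x : X) (y : d.W x) : d.div.1 y.1 = Mero.germOf (d.fK x) y := by
  obtain ⟨w, hw⟩ := d.germ_rel x y.1 y.2
  exact (germOf_unitK_eq _ _ _ _ y.1 y.2 (d.mem y.1) w hw).symm

theorem isDivOfIdeal [IsIntegral X] (hL : PicF.IsInvertible L) :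
    Mero.IsDivOfIdeal d.div (PicF2.zeroScheme L s) := by
  intro x
  refine ⟨⟨d.W x, d.hW x⟩, d.mem x, d.c x, d.creg x, ?_, ?_⟩
  · refine ZeroSchH8.zeroScheme_ideal_of_isGen hL s (d.he x) ⟨d.W x, d.hW x⟩ le_rfl (d.c x) ?_
    rw [SubExt.rF_self]
    exact d.hc x
  · intro y
    rw [d.div_eq x y]
    show QuotientGroup.mk _ = QuotientGroup.mk _
    congr 1
    apply Units.ext
    show (unitK (d.c x) (d.creg x)).1.1 y = algebraMap _ _ (X.presheaf.germ (d.W x) y.1 y.2 (d.c x))
    exact unitK_val _ _ y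

end SecData


namespace SecData

variable {L : X.Modules} {s : Coh.structureModule X ⟶ L} (d : SecData L s)

/-- The ratio `m / s` at a point. -/
noncomputable def ratio (U : X.Opens) (m : Γ(L, U)) (x : U) : Mero.KStalk X x.1 :=
  LocalizedModule.mk
    (X.presheaf.germ (U ⊓ d.W x.1) x.1 ⟨x.2, d.mem x.1⟩
      (coef (d.he x.1) (inf_le_right : U ⊓ d.W x.1 ≤ d.W x.1)
        (rF L (inf_le_left : U ⊓ d.W x.1 ≤ U) m)))
    (Mero.regGerm (⟨x.1, d.mem x.1⟩ : d.W x.1) ⟨d.c x.1, d.creg x.1⟩)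

/-- The ratio computed with any of the local trivialisations. -/
theorem ratio_eq (U : X.Opens) (m : Γ(L, U)) (x₀ : X) (O : X.Opens) (hO : O ≤ U)
    (hO' : O ≤ d.W x₀) (y : X) (hy : y ∈ O) :
    d.ratio U m ⟨y, hO hy⟩ =
      LocalizedModule.mk (X.presheaf.germ O y hy (coef (d.he x₀) hO' (rF L hO m)))
        (Mero.regGerm (⟨y, hy⟩ : O)
          ⟨rX hO' (d.c x₀), Mero.regSub_res (homOfLE hO') (d.creg x₀)⟩) := by
  unfold ratio
  rw [mk_eq_mk_iff]
  -- the common refinement
  have hQy : O ⊓ d.W y ≤ d.W y := inf_le_right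
  have hQO : O ⊓ d.W y ≤ O := inf_le_left
  have hQx : O ⊓ d.W y ≤ d.W x₀ := hQO.trans hO'
  have hQU : O ⊓ d.W y ≤ U := hQO.trans hO
  have hQUy : O ⊓ d.W y ≤ U ⊓ d.W y := inf_le_inf_right _ hO
  have hyQ : y ∈ O ⊓ d.W y := ⟨hy, d.mem y⟩
  have hcross := coef_cross (d.he y) (d.he x₀) hQy hQx (rF L hQU m)
    (SecTwist.val s (O ⊓ d.W y) : Γ(L, O ⊓ d.W y))
  rw [coef_val d x₀ hQx, coef_val d y hQy] at hcross
  -- numerators
  have hn1 : coef (d.he y) hQy (rF L hQU m) =
      rX hQUy (coef (d.he y) (inf_le_right : U ⊓ d.W y ≤ d.W y)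
        (rF L (inf_le_left : U ⊓ d.W y ≤ U) m)) := by
    have h1 := coef_res (d.he y) hQUy (inf_le_right : U ⊓ d.W y ≤ d.W y)
      (rF L (inf_le_left : U ⊓ d.W y ≤ U) m)
    have h2 := rF_rF (F := L) hQUy (inf_le_left : U ⊓ d.W y ≤ U) m
    rw [h2] at h1
    exact h1
  have hn2 : coef (d.he x₀) hQx (rF L hQU m) = rX hQO (coef (d.he x₀) hO' (rF L hO m)) := by
    have h1 := coef_res (d.he x₀) hQO hO' (rF L hO m)
    have h2 := rF_rF (F := L) hQO hO m
    rw [h2] at h1
    exact h1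
  rw [hn1, hn2] at hcross
  have hg := congrArg (X.presheaf.germ (O ⊓ d.W y) y hyQ) hcross
  rw [map_mul, map_mul] at hg
  have g1 := TopCat.Presheaf.germ_res_apply X.presheaf (homOfLE hQUy) y hyQ
    (coef (d.he y) (inf_le_right : U ⊓ d.W y ≤ d.W y) (rF L (inf_le_left : U ⊓ d.W y ≤ U) m))
  have g2 := TopCat.Presheaf.germ_res_apply X.presheaf (homOfLE hQx) y hyQ (d.c x₀)
  have g3 := TopCat.Presheaf.germ_res_apply X.presheaf (homOfLE hQO) y hyQ
    (coef (d.he x₀) hO' (rF L hO m))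
  have g4 := TopCat.Presheaf.germ_res_apply X.presheaf (homOfLE hQy) y hyQ (d.c y)
  have g5 := TopCat.Presheaf.germ_res_apply X.presheaf (homOfLE hO') y hy (d.c x₀)
  show X.presheaf.germ (U ⊓ d.W y) y _ _ * X.presheaf.germ O y hy (rX hO' (d.c x₀)) =
    X.presheaf.germ O y hy _ * X.presheaf.germ (d.W y) y (d.mem y) (d.c y)
  exact (congrArg₂ (· * ·) g1.symm (g5.trans g2.symm)).trans
    (hg.trans (congrArg₂ (· * ·) g3 g4))

end SecData

end RatioH8
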