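import Mathlib
import Groth.Prelude
import Groth.Agent.Lib.Ratio1_helper8

set_option autoImplicit false

namespace RatioH8

open AlgebraicGeometry CategoryTheory CategoryTheory.Limits TopologicalSpace Opposite
open QcqsLoc QCohExtn GenLocH8 TensH8 MeroInvH8 Groth.Agent.Lib.Mero_helper4

universe u

variable {X : Scheme.{u}}

theorem mk_eq_mul (y : X) (r : X.presheaf.stalk y) (s : Mero.regStalk X y) :
    (LocalizedModule.mk r s : Mero.KStalk X y) =
      algebraMap _ _ r * (LocalizedModule.mk 1 s : Mero.KStalk X y) := by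
  rw [mk_eq_mk', mk_eq_mk', IsLocalization.mul_mk'_eq_mk'_of_mul, mul_one]

theorem mk_one_mul_algebraMap (y : X) (s : Mero.regStalk X y) :
    (LocalizedModule.mk 1 s : Mero.KStalk X y) * algebraMap _ _ (s : X.presheaf.stalk y) = 1 := by
  rw [mul_comm, ← mk_eq_mul]
  exact Mero.mk_self_eq_one s

namespace SecData

variable {L : X.Modules} {s : Coh.structureModule X ⟶ L} (d : SecData L s)

theorem ratio_add (U : X.Opens) (m m' : Γ(L, U)) (x : U) :
    d.ratio U (m + m') x = d.ratio U m x + d.ratio U m' x := by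
  unfold ratio
  rw [mk_eq_mul, mk_eq_mul _ (X.presheaf.germ _ _ _ (coef _ _ (rF L _ m))),
    mk_eq_mul _ (X.presheaf.germ _ _ _ (coef _ _ (rF L _ m'))), ← add_mul, ← map_add, ← map_add,
    ← coef_add, ← map_add]

theorem ratio_smul (U : X.Opens) (r : Γ(X, U)) (m : Γ(L, U)) (x : U) :
    d.ratio U (r • m) x = X.presheaf.germ U x.1 x.2 r • d.ratio U m x := by
  unfold ratio
  have h1 := rF_smul (F := L) (inf_le_left : U ⊓ d.W x.1 ≤ U) r m
  have h2 := coef_smul (d.he x.1) (inf_le_right : U ⊓ d.W x.1 ≤ d.W x.1)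
    (rX (inf_le_left : U ⊓ d.W x.1 ≤ U) r) (rF L (inf_le_left : U ⊓ d.W x.1 ≤ U) m)
  rw [← h1] at h2
  rw [h2, map_mul, LocalizedModule.smul'_mk]
  refine Mero.mk_congr ?_ rfl
  rw [smul_eq_mul]
  congr 1
  exact TopCat.Presheaf.germ_res_apply X.presheaf (homOfLE (inf_le_left : U ⊓ d.W x.1 ≤ U)) x.1
    ⟨x.2, d.mem x.1⟩ r

theorem ratio_res (U V : X.Opens) (h : V ≤ U) (m : Γ(L, U)) (x : V) :
    d.ratio V (rF L h m) x = d.ratio U m ⟨x.1, h x.2⟩ := by
  have h1 := d.ratio_eq U m x.1 (V ⊓ d.W x.1) (inf_le_left.trans h) inf_le_right x.1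
    ⟨x.2, d.mem x.1⟩
  refine Eq.trans ?_ h1.symm
  unfold ratio
  refine Mero.mk_congr ?_ ?_
  · rw [rF_rF]
  · exact (TopCat.Presheaf.germ_res_apply X.presheaf
      (homOfLE (inf_le_right : V ⊓ d.W x.1 ≤ d.W x.1)) x.1 ⟨x.2, d.mem x.1⟩ (d.c x.1)).symm

theorem ratio_pred (U : X.Opens) (m : Γ(L, U)) :
    (Mero.divLoc X d.div).pred (d.ratio U m) := by
  refine ⟨fun x => ?_, fun x => ?_⟩
  · refine ⟨U ⊓ d.W x.1, ⟨x.2, d.mem x.1⟩, homOfLE inf_le_left,
      coef (d.he x.1) inf_le_right (rF L inf_le_left m),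
      ⟨rX inf_le_right (d.c x.1), Mero.regSub_res (homOfLE inf_le_right) (d.creg x.1)⟩,
      fun y => ?_⟩
    exact d.ratio_eq U m x.1 (U ⊓ d.W x.1) inf_le_left inf_le_right y.1 y.2
  · rw [divCond_iff d.div (d.fK x.1) (fun y => d.div_eq x.1 y) ⟨x.1, d.mem x.1⟩]
    unfold ratio
    rw [mk_eq_mul, mul_assoc]
    have h1 : (d.fK x.1).1.1 ⟨x.1, d.mem x.1⟩ =
        algebraMap _ _ (X.presheaf.germ (d.W x.1) x.1 (d.mem x.1) (d.c x.1)) :=
      unitK_val _ _ _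
    rw [h1]
    have h2 := mk_one_mul_algebraMap x.1
      (Mero.regGerm (⟨x.1, d.mem x.1⟩ : d.W x.1) ⟨d.c x.1, d.creg x.1⟩)
    rw [h2, mul_one]
    exact ⟨_, rfl⟩

/-- The pointwise data of `m ↦ m / s`. -/
noncomputable def ratioData : PtData L (Mero.divLoc X d.div) where
  φ := d.ratio
  pred := d.ratio_pred
  map_add := d.ratio_add
  map_smul := d.ratio_smul
  res := d.ratio_res

/-- The morphism `L ⟶ O_X(D)`, `m ↦ m / s`. -/
noncomputable def ratioHom : L ⟶ Mero.divMod d.div := d.ratioData.toHom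

theorem ratioHom_app (U : X.Opens) (m : Γ(L, U)) (x : U) :
    (ap d.ratioHom U m).1 x = d.ratio U m x := rfl

theorem ratioHom_gen (x : X) :
    ap d.ratioHom (d.W x) (d.e x) =
      invSec d.div (d.fK x) (fun y => d.div_eq x y) (d.W x) le_rfl := by
  apply Subtype.ext
  funext y
  show d.ratio (d.W x) (d.e x) y = ((d.fK x)⁻¹).1.1 ⟨y.1, y.2⟩
  have h1 := d.ratio_eq (d.W x) (d.e x) x (d.W x) le_rfl le_rfl y.1 y.2
  rw [coef_gen] at h1
  refine h1.trans ?_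
  show _ = LocalizedModule.mk 1 (Mero.regGerm y ⟨d.c x, d.creg x⟩)
  refine Mero.mk_congr (map_one _) ?_
  exact TopCat.Presheaf.germ_res_apply X.presheaf (homOfLE (le_rfl : d.W x ≤ d.W x)) y.1 y.2 (d.c x)

theorem isIso_ratioHom : IsIso d.ratioHom := by
  apply isIso_of_isGen_cover
  intro x
  refine ⟨d.W x, d.mem x, d.e x, d.he x, ?_⟩
  rw [ratioHom_gen]
  exact isGen_invSec d.div (d.fK x) (fun y => d.div_eq x y)

theorem ratio_val (x : X) : d.ratio ⊤ (SecTwist.val s ⊤ : Γ(L, ⊤)) ⟨x, trivial⟩ = 1 := by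
  unfold ratio
  have h1 := rF_val s (inf_le_left : (⊤ : X.Opens) ⊓ d.W x ≤ ⊤)
  have h2 := d.coef_val x (inf_le_right : (⊤ : X.Opens) ⊓ d.W x ≤ d.W x)
  rw [← h1] at h2
  rw [h2]
  refine (Mero.mk_congr ?_ rfl).trans (Mero.mk_self_eq_one
    (Mero.regGerm (⟨x, d.mem x⟩ : d.W x) ⟨d.c x, d.creg x⟩))
  exact TopCat.Presheaf.germ_res_apply X.presheaf
    (homOfLE (inf_le_right : (⊤ : X.Opens) ⊓ d.W x ≤ d.W x)) x ⟨trivial, d.mem x⟩ (d.c x)

end SecData

/-- S19456. -/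
theorem exists_div_iso [IsIntegral X] (L : X.Modules) (hL : PicF.IsInvertible L)
    (s : Coh.structureModule X ⟶ L) (hs : s ≠ 0) :
    ∃ D : Mero.Divisor X, Mero.IsDivOfIdeal D (PicF2.zeroScheme L s) ∧
      ∃ e : L ≅ Mero.divMod D,
        (Mero.divModι D).app ⊤ (e.hom.app ⊤ (SecTwist.val s ⊤)) = 1 := by
  obtain ⟨d⟩ := exists_secData hL s hs
  refine ⟨d.div, d.isDivOfIdeal hL, ?_⟩
  haveI := d.isIso_ratioHom
  refine ⟨asIso d.ratioHom, ?_⟩
  apply kmod_ext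
  intro x
  exact d.ratio_val x.1

end RatioH8
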