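import Mathlib

/-!
# Characteristic polynomial of `M ⊕ M⁻ᵀ` is real when the eigenvalues of `M` are unitary (S15525)
-/

universe u

namespace Groth.Agent.Lib.RealCharpoly

open Polynomial Matrix

lemma reverse_X_sub_C_unit (a : ℂ) (ha : ‖a‖ = 1) :
    (X - C a : ℂ[X]).reverse = C (-a) * (X - C (starRingEnd ℂ a)) := by
  have h1 : a * (starRingEnd ℂ) a = 1 := by
    rw [Complex.mul_conj, Complex.normSq_eq_norm_sq, ha]; simp
  ext n
  rw [coeff_reverse, natDegree_X_sub_C]
  have hR : (C (-a) * (X - C (starRingEnd ℂ a)) : ℂ[X]) = C (-a) * X + C 1 := by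
    rw [mul_sub, ← C_mul, neg_mul, h1, show (C (-1) : ℂ[X]) = - C 1 by simp, sub_neg_eq_add]
  rw [hR]
  rcases n with _ | _ | n
  · rw [revAt_le (by norm_num)]
    simp [coeff_X, coeff_C]
  · rw [revAt_le (by norm_num)]
    simp [coeff_X, coeff_C, coeff_one]
  · have : revAt 1 (n + 1 + 1) = n + 1 + 1 := by
      exact revAt_eq_self_of_lt (by omega)
    rw [this]
    simp [coeff_X, coeff_C, coeff_one]

lemma reverse_prod_unit (s : Multiset ℂ) (hs : ∀ z ∈ s, ‖z‖ = 1) :
    ((s.map (fun z => (X - C z : ℂ[X]))).prod).reverse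
      = C ((s.map (fun z => -z)).prod)
          * (s.map (fun z => (X - C (starRingEnd ℂ z) : ℂ[X]))).prod := by
  induction s using Multiset.induction_on with
  | empty =>
    simp only [Multiset.map_zero, Multiset.prod_zero, C_1, one_mul]
    rw [← C_1, reverse_C]
  | cons a s ih =>
    have ha : ‖a‖ = 1 := hs a (Multiset.mem_cons_self a s)
    have hs' : ∀ z ∈ s, ‖z‖ = 1 := fun z hz => hs z (Multiset.mem_cons_of_mem hz)
    rw [Multiset.map_cons, Multiset.prod_cons, reverse_mul_of_domain, ih hs', Multiset.map_cons,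
      Multiset.prod_cons, Multiset.map_cons, Multiset.prod_cons, reverse_X_sub_C_unit a ha, C_mul]
    ring

/-- Key: for an invertible complex matrix with unitary eigenvalues the characteristic polynomial
of the inverse is the complex conjugate of the characteristic polynomial. -/
lemma charpoly_inv_eq_conj {r : ℕ} (A : Matrix (Fin r) (Fin r) ℂ) (hA : IsUnit A)
    (h : ∀ z ∈ A.charpoly.roots, ‖z‖ = 1) :
    A⁻¹.charpoly = A.charpoly.map (starRingEnd ℂ) := by
  have hsplit : A.charpoly.Splits := IsAlgClosed.splits _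
  have hQ := hsplit.eq_prod_roots_of_monic (charpoly_monic A)
  set s := A.charpoly.roots with hs
  have hconj : A.charpoly.map (starRingEnd ℂ)
      = (s.map (fun z => (X - C (starRingEnd ℂ z) : ℂ[X]))).prod := by
    conv_lhs => rw [hQ]
    rw [Polynomial.map_multiset_prod, Multiset.map_map]
    congr 1
    apply Multiset.map_congr rfl
    intro z _
    simp
  have hmonic : ((s.map (fun z => (X - C (starRingEnd ℂ z) : ℂ[X]))).prod).Monic :=
    monic_multiset_prod_of_monic _ _ (fun z _ => monic_X_sub_C _)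
  have hrev : A.charpoly.reverse = C ((s.map (fun z => -z)).prod)
          * (s.map (fun z => (X - C (starRingEnd ℂ z) : ℂ[X]))).prod := by
    conv_lhs => rw [hQ]
    exact reverse_prod_unit s h
  have hinv := charpoly_inv A hA
  rw [← reverse_charpoly, hrev] at hinv
  have hinv' : A⁻¹.charpoly = C ((-1) ^ Fintype.card (Fin r) * Ring.inverse A.det
      * (s.map (fun z => -z)).prod)
      * (s.map (fun z => (X - C (starRingEnd ℂ z) : ℂ[X]))).prod := by
    rw [hinv]
    simp only [C_mul, C_pow, C_neg, C_1]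
    ring
  have hlead := congrArg leadingCoeff hinv'
  rw [leadingCoeff_mul, leadingCoeff_C, hmonic.leadingCoeff, mul_one,
    (charpoly_monic A⁻¹).leadingCoeff] at hlead
  rw [hinv', ← hlead, C_1, one_mul, hconj]

theorem main (L : Type u) [Field L] (ι : L →+* ℂ)
    {r : ℕ} (M : Matrix (Fin r) (Fin r) L)
    (hM : ∀ z ∈ ((Matrix.charpoly M).map ι).roots, ‖z‖ = 1) (n : ℕ) :
    (ι ((Matrix.fromBlocks M 0 0 (M⁻¹).transpose).charpoly.coeff n)).im = 0 := by
  have hdet : M.det ≠ 0 := by
    intro h0
    have hc : M.charpoly.coeff 0 = 0 := by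
      have h1 := det_eq_sign_charpoly_coeff M
      rw [h0] at h1
      have h2 : ((-1 : L) ^ Fintype.card (Fin r)) ≠ 0 := pow_ne_zero _ (by simp)
      rcases mul_eq_zero.mp h1.symm with h | h
      · exact absurd h h2
      · exact h
    have hroot : (0 : ℂ) ∈ (M.charpoly.map ι).roots := by
      rw [mem_roots ((charpoly_monic M).map ι).ne_zero, IsRoot, ← coeff_zero_eq_eval_zero,
        coeff_map, hc, map_zero]
    have := hM 0 hroot
    simp at this
  have hMu : IsUnit M := (Matrix.isUnit_iff_isUnit_det M).mpr (IsUnit.mk0 _ hdet)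
  set A : Matrix (Fin r) (Fin r) ℂ := M.map ι with hAdef
  have hAQ : A.charpoly = M.charpoly.map ι := charpoly_map M ι
  have hAinv : A⁻¹ = (M⁻¹).map ι := by
    apply Matrix.inv_eq_right_inv
    rw [hAdef, ← Matrix.map_mul, Matrix.mul_nonsing_inv M (IsUnit.mk0 _ hdet)]
    exact Matrix.map_one ι (map_zero ι) (map_one ι)
  have hAu : IsUnit A := by
    rw [Matrix.isUnit_iff_isUnit_det]
    have : A.det = ι M.det := by
      rw [hAdef]; exact (RingHom.map_det ι M).symm
    rw [this]
    exact IsUnit.mk0 _ (by simpa using hdet)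
  have hkey := charpoly_inv_eq_conj A hAu (by rw [hAQ]; exact hM)
  have hP : ((Matrix.fromBlocks M 0 0 (M⁻¹).transpose).charpoly).map ι
      = A.charpoly * A.charpoly.map (starRingEnd ℂ) := by
    rw [charpoly_fromBlocks_zero₁₂, charpoly_transpose, Polynomial.map_mul, ← hAQ,
      ← charpoly_map, ← hAinv, hkey]
  have hcc : (A.charpoly.map (starRingEnd ℂ)).map (starRingEnd ℂ) = A.charpoly := by
    rw [Polynomial.map_map]
    have : (starRingEnd ℂ).comp (starRingEnd ℂ) = RingHom.id ℂ := by
      ext z <;> simp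
    rw [this, Polynomial.map_id]
  rw [← Complex.conj_eq_iff_im, ← coeff_map, hP]
  rw [show (starRingEnd ℂ) ((A.charpoly * A.charpoly.map (starRingEnd ℂ)).coeff n)
      = ((A.charpoly * A.charpoly.map (starRingEnd ℂ)).map (starRingEnd ℂ)).coeff n from
      (coeff_map _ _).symm]
  rw [Polynomial.map_mul, hcc, mul_comm]

end Groth.Agent.Lib.RealCharpoly
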