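import Mathlib
import Groth.Prelude

set_option autoImplicit false
universe u

open CategoryTheory AlgebraicGeometry TopologicalSpace Opposite

namespace RectChartH8

variable {X S : Scheme.{u}} (g : X ⟶ S) [LocallyOfFiniteType g]

theorem exists_chart (x₀ : X) :
    ∃ (V : S.Opens) (_ : IsAffineOpen V) (U : X.Opens) (_ : IsAffineOpen U) (e : U ≤ g ⁻¹ᵁ V)
      (m : ℕ) (φ : MvPolynomial (Fin m) Γ(S, V) →+* Γ(X, U)), x₀ ∈ U ∧ Function.Surjective φ ∧
        ∀ b, φ (MvPolynomial.C b) = (g.appLE V U e).hom b := by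
  obtain ⟨_, ⟨V, hV, rfl⟩, hxV, -⟩ :=
    S.isBasis_affineOpens.exists_subset_of_mem_open (Set.mem_univ (g.base x₀)) isOpen_univ
  obtain ⟨_, ⟨U, hU, rfl⟩, hxU, hUV⟩ :=
    X.isBasis_affineOpens.exists_subset_of_mem_open (show x₀ ∈ (g ⁻¹ᵁ V : Set X) from hxV)
      (g ⁻¹ᵁ V).2
  have e : U ≤ g ⁻¹ᵁ V := hUV
  have hft : RingHom.FiniteType (g.appLE V U e).hom :=
    HasRingHomProperty.appLE @LocallyOfFiniteType g inferInstance ⟨V, hV⟩ ⟨U, hU⟩ e
  letI := (g.appLE V U e).hom.toAlgebra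
  have hft' : Algebra.FiniteType Γ(S, V) Γ(X, U) := hft
  obtain ⟨m, φ, hφ⟩ := Algebra.FiniteType.iff_quotient_mvPolynomial''.mp hft'
  refine ⟨V, hV, U, hU, e, m, φ.toRingHom, hxU, hφ, ?_⟩
  intro b
  exact φ.commutes b

variable {V : S.Opens} (hV : IsAffineOpen V) {U : X.Opens} (hU : IsAffineOpen U)
  (e : U ≤ g ⁻¹ᵁ V) {m : ℕ} (φ : MvPolynomial (Fin m) Γ(S, V) →+* Γ(X, U))
  (hφ : Function.Surjective φ) (hC : ∀ b, φ (MvPolynomial.C b) = (g.appLE V U e).hom b)

/-- The affine space over `V`. -/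
noncomputable abbrev P (V : S.Opens) (m : ℕ) : Scheme.{u} :=
  Spec (CommRingCat.of (MvPolynomial (Fin m) Γ(S, V)))

/-- The structure morphism of the affine space to `S`. -/
noncomputable def π (m : ℕ) : P V m ⟶ S :=
  Spec.map (CommRingCat.ofHom (MvPolynomial.C : Γ(S, V) →+* MvPolynomial (Fin m) Γ(S, V))) ≫
    hV.fromSpec

/-- The closed immersion of the chart into affine space. -/
noncomputable def ι : (U : Scheme.{u}) ⟶ P V m :=
  hU.isoSpec.hom ≫ Spec.map (CommRingCat.ofHom φ)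

include hφ in
theorem isClosedImmersion_ι : IsClosedImmersion (ι hU φ) := by
  haveI : IsClosedImmersion (Spec.map (CommRingCat.ofHom φ)) :=
    IsClosedImmersion.spec_of_surjective _ hφ
  unfold ι
  infer_instance

instance : LocallyOfFiniteType (π hV m) := by
  haveI : LocallyOfFiniteType (Spec.map (CommRingCat.ofHom
      (MvPolynomial.C : Γ(S, V) →+* MvPolynomial (Fin m) Γ(S, V)))) := by
    rw [HasRingHomProperty.Spec_iff (P := @LocallyOfFiniteType)]
    change RingHom.FiniteType (MvPolynomial.C : Γ(S, V) →+* MvPolynomial (Fin m) Γ(S, V))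
    have : (MvPolynomial.C : Γ(S, V) →+* MvPolynomial (Fin m) Γ(S, V)) =
        algebraMap Γ(S, V) (MvPolynomial (Fin m) Γ(S, V)) := rfl
    rw [this, RingHom.finiteType_algebraMap]
    infer_instance
  unfold π
  infer_instance

omit [LocallyOfFiniteType g] in
include hC in
theorem ι_π : ι hU φ ≫ π hV m = U.ι ≫ g := by
  unfold ι π
  rw [Category.assoc, ← Category.assoc (Spec.map _), ← Spec.map_comp]
  have h1 : (CommRingCat.ofHom (MvPolynomial.C : Γ(S, V) →+* MvPolynomial (Fin m) Γ(S, V))) ≫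
      CommRingCat.ofHom φ = g.appLE V U e := by
    ext b
    exact hC b
  rw [h1, IsAffineOpen.SpecMap_appLE_fromSpec g hV hU e, ← Category.assoc]
  congr 1
  rw [IsAffineOpen.fromSpec, Iso.hom_inv_id_assoc]

end RectChartH8
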