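import Mathlib
import Groth.Prelude
import Groth.Agent.Lib.RectChart_helper8
import Groth.Agent.Lib.LocAB_helper8
import Groth.Agent.Lib.GenPt_helper8
import Groth.Agent.Lib.DimFunLft_helper8
import Groth.Agent.Lib.PDOpen_helper7
import Groth.Agent.Lib.QCohFT_helper9
import Groth.Agent.Lib.QCohLoc_helper4
import Groth.Agent.Lib.TildeFT_helper9
import Groth.Agent.Lib.ResTrdeg1_helper8

set_option autoImplicit false
universe u

open CategoryTheory AlgebraicGeometry TopologicalSpace Opposite
open Groth.Agent.Lib.QCohLoc_helper4

namespace RectKeyH8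

/-- Stalks of the spectrum of a regular ring are regular local rings of dimension the height. -/
theorem spec_stalk (R : CommRingCat.{u}) [IsRegularRing R] (q : Spec R) :
    IsRegularLocalRing ((Spec R).presheaf.stalk q) ∧
      ringKrullDim ((Spec R).presheaf.stalk q) =
        ((show PrimeSpectrum R from q).asIdeal.height : WithBot ℕ∞) := by
  let k : Algebra ↑R ↑((Spec R).presheaf.stalk q) := StructureSheaf.stalkAlgebra (↑R) q
  have : IsLocalization.AtPrime (↑((Spec R).presheaf.stalk q))
      (show PrimeSpectrum R from q).asIdeal := StructureSheaf.IsLocalization.to_stalk R q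
  refine ⟨?_, IsLocalization.AtPrime.ringKrullDim_eq_height _ _⟩
  haveI : IsRegularLocalRing (Localization.AtPrime (show PrimeSpectrum R from q).asIdeal) :=
    IsRegularRing.isRegularLocalRing_localization _
  exact IsRegularLocalRing.of_ringEquiv
    (IsLocalization.algEquiv (show PrimeSpectrum R from q).asIdeal.primeCompl
      (Localization.AtPrime (show PrimeSpectrum R from q).asIdeal)
      ((Spec R).presheaf.stalk q)).toRingEquiv

/-- Sections over an affine open of a locally Noetherian scheme with regular local rings form a
regular ring. -/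
theorem isRegularRing_sections {S : Scheme.{u}} [IsLocallyNoetherian S]
    (hreg : ∀ s : S, IsRegularLocalRing ↑(S.presheaf.stalk s)) {V : S.Opens}
    (hV : IsAffineOpen V) : IsRegularRing Γ(S, V) := by
  haveI : IsNoetherianRing Γ(S, V) := IsLocallyNoetherian.component_noetherian ⟨V, hV⟩
  rw [isRegularRing_iff]
  intro p hp
  set s : S := hV.fromSpec (⟨p, hp⟩ : PrimeSpectrum Γ(S, V)) with hs
  have hsV : s ∈ V := by
    have : s ∈ Set.range hV.fromSpec := ⟨_, rfl⟩
    rw [hV.range_fromSpec] at this
    exact this
  letI := TopCat.Presheaf.algebra_section_stalk S.presheaf (⟨s, hsV⟩ : V)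
  haveI : IsLocalization.AtPrime (S.presheaf.stalk s) p :=
    hV.isLocalization_stalk' (⟨p, hp⟩ : PrimeSpectrum Γ(S, V)) hsV
  haveI := hreg s
  exact IsRegularLocalRing.of_ringEquiv
    (IsLocalization.algEquiv p.primeCompl (S.presheaf.stalk s)
      (Localization.AtPrime p)).toRingEquiv

end RectKeyH8
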