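import Mathlib
import Groth.Prelude
import Groth.Agent.Lib.RectKey_helper8

set_option autoImplicit false
universe u

open CategoryTheory AlgebraicGeometry TopologicalSpace Opposite
open Groth.Agent.Lib.QCohLoc_helper4 RectChartH8

namespace RectKeyH8

variable {X S : Scheme.{u}} [IsLocallyNoetherian S] [JacobsonSpace S]

set_option maxHeartbeats 1600000 in
/-- The key local formula: near every point, `depth F_y + dim cl{y} + pdf y = C` on the support,
with `pdf` upper semicontinuous. -/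
theorem key (hreg : ∀ s : S, IsRegularLocalRing ↑(S.presheaf.stalk s))
    (h3 : ∀ S' ∈ irreducibleComponents (S : Type u), ∀ s ∈ S', IsClosed ({s} : Set S) →
      topologicalKrullDim (↥S' : Type u) = topologicalKrullDim ↥{t : S | t ∈ S' ∧ t ⤳ s})
    (g : X ⟶ S) [LocallyOfFiniteType g] (F : X.Modules) [F.IsQuasicoherent]
    [SheafOfModules.IsFiniteType (R := X.ringCatSheaf) F] (x₀ : X) :
    ∃ (W : Set X) (C : ℕ) (pdf : X → WithBot ℕ∞), IsOpen W ∧ x₀ ∈ W ∧
      (∀ k : ℕ, IsOpen {y : X | y ∈ W ∧ pdf y ≤ (k : WithBot ℕ∞)}) ∧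
      ∀ y ∈ W, y ∈ CohB1.support F → ∃ e d c : ℕ, pdf y = (e : WithBot ℕ∞) ∧
        LocCoh.depth ↑(X.presheaf.stalk y) ↑(F.presheaf.stalk y) = (d : ℕ∞) ∧
        topologicalKrullDim ↥(closure ({y} : Set X)) = (c : WithBot ℕ∞) ∧ d + c + e = C := by
  classical
  haveI : JacobsonSpace X := LocallyOfFiniteType.jacobsonSpace g
  haveI : IsLocallyNoetherian X := LocallyOfFiniteType.isLocallyNoetherian g
  have h2 : ∀ s : S, CAlg.IsUniversallyCatenary (S.presheaf.stalk s) := fun s =>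
    haveI := hreg s
    RegUCH8.isUniversallyCatenary_of_isRegularLocalRing _
  obtain ⟨V, hV, U, hU, e, m, φ, hx₀U, hφ, hC⟩ := exists_chart g x₀
  haveI : IsRegularRing Γ(S, V) := isRegularRing_sections hreg hV
  haveI : IsClosedImmersion (ι hU φ) := isClosedImmersion_ι hU φ hφ
  have hcomm : ι hU φ ≫ π hV m = U.ι ≫ g := ι_π g hV hU e φ hC
  -- dimension functions
  obtain ⟨δX, hδX, h0X, hfX⟩ := DimFunLftH8.exists_dimFun' S h2 h3 g
  obtain ⟨δP, hδP, h0P, hfP⟩ := DimFunLftH8.exists_dimFun' S h2 h3 (π hV m)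
  haveI : JacobsonSpace (P V m) := LocallyOfFiniteType.jacobsonSpace (π hV m)
  haveI : IsLocallyNoetherian (P V m) := LocallyOfFiniteType.isLocallyNoetherian (π hV m)
  have hstalk := fun q : P V m => spec_stalk (CommRingCat.of (MvPolynomial (Fin m) Γ(S, V))) q
  have hdomP : ∀ q : P V m, IsDomain ((P V m).presheaf.stalk q) := fun q =>
    haveI := (hstalk q).1
    Groth.Agent.RegularLib.isDomain _
  have hcatP : ∀ q : P V m, CAlg.IsCatenary ((P V m).presheaf.stalk q) := fun q =>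
    haveI := (hstalk q).1
    RegUCH8.isCatenary_of_isCM _ (RegUCH8.isCM_of_regular _)
  -- the comparison of dimension functions
  have hδ : ∀ y' : ↥U, δP ((ι hU φ).base y') = δX y'.1 := by
    intro y'
    obtain ⟨nP, hnP, hP⟩ := hfP ((ι hU φ).base y')
    obtain ⟨nX, hnX, hX⟩ := hfX y'.1
    have hpt : (π hV m).base ((ι hU φ).base y') = g.base y'.1 := by
      have := congrArg (fun ψ => ψ.base y') hcomm
      exact this
    have h1 : Dual3.resTrdeg (ι hU φ ≫ π hV m) y' =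
        Dual3.resTrdeg (π hV m) ((ι hU φ).base y') := by
      rw [ResTrdegH8.resTrdeg_comp, ResTrdegH8.resTrdeg_eq_zero_of_lqf (ι hU φ) y', add_zero]
    have h2' : Dual3.resTrdeg (U.ι ≫ g) y' = Dual3.resTrdeg g y'.1 := by
      rw [ResTrdegH8.resTrdeg_comp, ResTrdegH8.resTrdeg_eq_zero_of_lqf U.ι y', add_zero]
      rfl
    have h3' : Dual3.resTrdeg (π hV m) ((ι hU φ).base y') = Dual3.resTrdeg g y'.1 := by
      rw [← h1, ← h2', ResTrdegH8.resTrdeg_congr hcomm]
    have hn : nP = nX := by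
      have : ((nP : ℕ) : Cardinal) = ((nX : ℕ) : Cardinal) := by
        rw [← hnP, ← hnX]; exact h3'
      exact_mod_cast this
    rw [hP, hX, hpt, hn]
  -- generic points
  set q₀ : P V m := (ι hU φ).base ⟨x₀, hx₀U⟩ with hq₀
  obtain ⟨W', hW'o, hq₀W', hW'⟩ := GenPtH8.exists_nhd_gen_eq hdomP q₀
  set C : ℕ := (δP (GenPtH8.gen hdomP q₀)).toNat with hCdef
  -- module structure over R
  letI modRM : Module (MvPolynomial (Fin m) Γ(S, V)) Γ(F, U) := Module.compHom _ φ
  haveI : Module.Finite Γ(X, U) Γ(F, U) := QCohFT.finite_of_isFiniteType F hU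
  haveI : Module.Finite (MvPolynomial (Fin m) Γ(S, V)) Γ(F, U) :=
    TildeFT.finite_of_smul_eq' φ hφ (fun _ _ => rfl)
  let pdR : PrimeSpectrum (MvPolynomial (Fin m) Γ(S, V)) → WithBot ℕ∞ := fun q =>
    projectiveDimension (ModuleCat.of (Localization.AtPrime q.asIdeal)
      (LocalizedModule q.asIdeal.primeCompl Γ(F, U)))
  let pdf : X → WithBot ℕ∞ := fun y =>
    if hy : y ∈ U then pdR ((ι hU φ).base ⟨y, hy⟩) else 0
  let W : Set X := U.ι.base '' ((ι hU φ).base ⁻¹' W')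
  have hloc : LocOn F U := locOn_of_isQuasicoherent F hU
  refine ⟨W, C, pdf, ?_, ?_, ?_, ?_⟩
  · exact U.ι.isOpenEmbedding.isOpenMap _ (hW'o.preimage (ι hU φ).continuous)
  · exact ⟨⟨x₀, hx₀U⟩, hq₀W', rfl⟩
  · intro k
    have hVk : IsOpen {q | pdR q ≤ (k : WithBot ℕ∞)} :=
      Groth.Agent.Lib.PDOpenH7.main (MvPolynomial (Fin m) Γ(S, V)) Γ(F, U) k
    have : {y : X | y ∈ W ∧ pdf y ≤ (k : WithBot ℕ∞)} =
        U.ι.base '' ((ι hU φ).base ⁻¹' (W' ∩ {q | pdR q ≤ (k : WithBot ℕ∞)})) := by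
      ext y
      constructor
      · rintro ⟨⟨y', hy'W, rfl⟩, hpd⟩
        refine ⟨y', ⟨hy'W, ?_⟩, rfl⟩
        have hyU : (U.ι.base y') ∈ U := y'.2
        simp only [pdf, dif_pos hyU] at hpd
        exact hpd
      · rintro ⟨y', ⟨hy'W, hpd⟩, rfl⟩
        refine ⟨⟨y', hy'W, rfl⟩, ?_⟩
        have hyU : (U.ι.base y') ∈ U := y'.2
        simp only [pdf, dif_pos hyU]
        exact hpd
    rw [this]
    exact U.ι.isOpenEmbedding.isOpenMap _ ((hW'o.inter hVk).preimage (ι hU φ).continuous)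
  · rintro _ ⟨⟨y, hyU⟩, hy'W, rfl⟩ hysupp
    change y ∈ CohB1.support F at hysupp
    set q : P V m := (ι hU φ).base ⟨y, hyU⟩ with hq
    let ρ : MvPolynomial (Fin m) Γ(S, V) →+* X.presheaf.stalk y :=
      (X.presheaf.germ U y hyU).hom.comp φ
    haveI : Nontrivial (F.presheaf.stalk y) := not_subsingleton_iff_nontrivial.mp hysupp
    have hqρ : (show PrimeSpectrum (MvPolynomial (Fin m) Γ(S, V)) from q).asIdeal =
        LocABH8.qOf ρ := by
      change (PrimeSpectrum.comap φ (hU.primeIdealOf ⟨y, hyU⟩)).asIdeal = _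
      rw [hU.primeIdealOf_eq_map_closedPoint]
      rfl
    have hnot : ∀ s : MvPolynomial (Fin m) Γ(S, V), y ∈ X.basicOpen (φ s) → s ∉ LocABH8.qOf ρ := by
      intro s hs hsq
      have h1 : IsUnit ((X.presheaf.germ U y hyU).hom (φ s)) :=
        (Scheme.mem_basicOpen _ _ _ hyU).mp hs
      exact ((IsLocalRing.mem_maximalIdeal _).mp hsq) h1
    obtain ⟨e', d', hpd, hdep, hht⟩ := LocABH8.main ρ (M := Γ(F, U))
      (N := F.presheaf.stalk y) (F.presheaf.germ U y hyU).hom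
      (fun r m => germ_smul F U y hyU (φ r) m)
      (by
        intro z
        obtain ⟨g', t, hg', hgt⟩ := hloc.exists_germ_eq_smul hU hyU z
        obtain ⟨s, rfl⟩ := hφ g'
        exact ⟨s, t, hnot s hg', hgt.symm⟩)
      (by
        intro t ht
        obtain ⟨g', hg', hgt⟩ := hloc.exists_smul_eq_zero_of_germ_eq_zero hU hyU t ht
        obtain ⟨s, rfl⟩ := hφ g'
        exact ⟨s, hnot s hg', hgt⟩)
    -- dimension side
    have hc := Groth.Agent.LocDim2H8.dim_closure_eq X δX hδX h0X y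
    have hδy : δP q = δX y := hδ ⟨y, hyU⟩
    have hnonneg : 0 ≤ δP q := Groth.Agent.LocDim1H8.delta_nonneg (P V m) δP hδP h0P q
    have hdimq : ringKrullDim ((P V m).presheaf.stalk q) = ((e' + d' : ℕ) : WithBot ℕ∞) := by
      rw [(hstalk q).2, hqρ, hht]
      rfl
    haveI := hdomP q
    have hgen := DimFunLftH8.delta_generic (P V m) δP hδP q (hcatP q) (e' + d') hdimq
    have hgen' : δP (GenPtH8.gen hdomP q) = δP q + ((e' + d' : ℕ) : ℤ) := hgen
    rw [hW' q hy'W] at hgen'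
    refine ⟨e', d', (δX y).toNat, ?_, hdep, hc, ?_⟩
    · have hyU' : (U.ι.base ⟨y, hyU⟩) ∈ U := hyU
      simp only [pdf, dif_pos hyU']
      change pdR q = _
      have hqq : (show PrimeSpectrum (MvPolynomial (Fin m) Γ(S, V)) from q) =
          ⟨LocABH8.qOf ρ, inferInstance⟩ := PrimeSpectrum.ext hqρ
      have : pdR q = pdR ⟨LocABH8.qOf ρ, inferInstance⟩ := congrArg pdR hqq
      rw [this]
      exact hpd
    · rw [hCdef, hgen', hδy]
      rw [hδy] at hnonneg
      omega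

end RectKeyH8
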