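import Mathlib
import Groth.Prelude
import Groth.Agent.Lib.RectKey2_helper8
import Groth.Agent.Lib.SupportCoh_helper9
import Groth.Agent.Lib.DepthHom_helper5
import Groth.Agent.Lib.RectDepth2_helper8

set_option autoImplicit false
universe u

open CategoryTheory AlgebraicGeometry TopologicalSpace Opposite

namespace RectKeyH8

variable {X S : Scheme.{u}} [IsLocallyNoetherian S] [JacobsonSpace S]

/-- Off the support, the rectified depth is `⊤`. -/
theorem rect_top_of_notMem (X : Scheme.{u}) [IsLocallyNoetherian X] (F : X.Modules) (y : X)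
    (hy : y ∉ CohB1.support F) :
    LocCoh.depth ↑(X.presheaf.stalk y) ↑(F.presheaf.stalk y) = ⊤ ∧
    ((LocCoh.depth ↑(X.presheaf.stalk y) ↑(F.presheaf.stalk y) : ℕ∞) : WithBot ℕ∞) +
        topologicalKrullDim ↥(closure ({y} : Set X)) = ((⊤ : ℕ∞) : WithBot ℕ∞) := by
  have hsub : Subsingleton (F.presheaf.stalk y) := not_not.mp hy
  have hdep : LocCoh.depth (X.presheaf.stalk y) (F.presheaf.stalk y) = ⊤ :=
    Groth.Agent.DepthLib.idealDepth_of_subsingleton _ _
  refine ⟨hdep, ?_⟩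
  rw [hdep]
  haveI : Nonempty ↥(closure ({y} : Set X)) := ⟨⟨y, subset_closure rfl⟩⟩
  have hclne : topologicalKrullDim ↥(closure ({y} : Set X)) ≠ ⊥ := RectDepthH8.topDim_ne_bot' _
  generalize topologicalKrullDim ↥(closure ({y} : Set X)) = c at hclne
  induction c with
  | bot => exact absurd rfl hclne
  | coe c => rw [← WithBot.coe_add, top_add]

theorem main4895 (hreg : ∀ s : S, IsRegularLocalRing ↑(S.presheaf.stalk s))
    (h3 : ∀ S' ∈ irreducibleComponents (S : Type u), ∀ s ∈ S', IsClosed ({s} : Set S) →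
      topologicalKrullDim (↥S' : Type u) = topologicalKrullDim ↥{t : S | t ∈ S' ∧ t ⤳ s})
    (g : X ⟶ S) [LocallyOfFiniteType g] (F : X.Modules) (hF : Coh.IsCoh F) (n : ℕ) :
    IsOpen {x : X | (n : WithBot ℕ∞) ≤
      ((LocCoh.depth ↑(X.presheaf.stalk x) ↑(F.presheaf.stalk x) : ℕ∞) : WithBot ℕ∞) +
        topologicalKrullDim ↥(closure ({x} : Set X))} := by
  haveI : F.IsQuasicoherent := hF.1
  haveI : SheafOfModules.IsFiniteType (R := X.ringCatSheaf) F := hF.2
  haveI : IsLocallyNoetherian X := LocallyOfFiniteType.isLocallyNoetherian g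
  have hcl : IsClosed (CohB1.support F) := SupportCoh.isClosed_support F
  have hoff : ∀ y : X, y ∉ CohB1.support F → (n : WithBot ℕ∞) ≤
      ((LocCoh.depth ↑(X.presheaf.stalk y) ↑(F.presheaf.stalk y) : ℕ∞) : WithBot ℕ∞) +
        topologicalKrullDim ↥(closure ({y} : Set X)) := by
    intro y hy
    rw [(rect_top_of_notMem X F y hy).2]
    exact_mod_cast le_top
  rw [isOpen_iff_forall_mem_open]
  intro x₀ hx₀
  by_cases hxs : x₀ ∈ CohB1.support F
  · obtain ⟨W, C, pdf, hWo, hxW, hpdf, hkey⟩ := key hreg h3 g F x₀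
    obtain ⟨e₀, d₀, c₀, hpd₀, hdep₀, hc₀, hsum₀⟩ := hkey x₀ hxW hxs
    have hn : n ≤ d₀ + c₀ := by
      have := hx₀
      simp only [Set.mem_ofPred_eq] at this
      rw [hdep₀, hc₀] at this
      exact_mod_cast this
    refine ⟨{y | y ∈ W ∧ pdf y ≤ (e₀ : WithBot ℕ∞)}, ?_, hpdf e₀, ⟨hxW, hpd₀.le⟩⟩
    rintro y ⟨hyW, hye⟩
    by_cases hys : y ∈ CohB1.support F
    · obtain ⟨e, d, c, hpd, hdep, hc, hsum⟩ := hkey y hyW hys
      rw [hpd] at hye
      have hee : e ≤ e₀ := by exact_mod_cast hye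
      change (n : WithBot ℕ∞) ≤ _
      rw [hdep, hc]
      have : n ≤ d + c := by omega
      exact_mod_cast this
    · exact hoff y hys
  · exact ⟨(CohB1.support F)ᶜ, fun y hy => hoff y hy, hcl.isOpen_compl, hxs⟩

end RectKeyH8
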