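import Mathlib
import Groth.Prelude
import Groth.Agent.Lib.RectMain_helper8

set_option autoImplicit false
universe u

open CategoryTheory AlgebraicGeometry TopologicalSpace Opposite

namespace RectKeyH8

variable {X S : Scheme.{u}} [IsLocallyNoetherian S] [JacobsonSpace S]

/-- A point closed in an open subset of a Jacobson space is closed. -/
theorem isClosed_of_isClosed_in_open {T : Type*} [TopologicalSpace T] [JacobsonSpace T]
    (U : Set T) (hU : IsOpen U) (x' : ↥U) (h : IsClosed ({x'} : Set ↥U)) :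
    IsClosed ({x'.1} : Set T) := by
  apply isClosed_singleton_of_isLocallyClosed_singleton
  have h1 : IsLocallyClosed (Subtype.val '' ({x'} : Set ↥U)) :=
    h.isLocallyClosed.image Topology.IsInducing.subtypeVal
      (by rw [Subtype.range_val]; exact hU.isLocallyClosed)
  rwa [Set.image_singleton] at h1

theorem isClosed_in_open_of_isClosed {T : Type*} [TopologicalSpace T]
    (U : Set T) (x' : ↥U) (h : IsClosed ({x'.1} : Set T)) : IsClosed ({x'} : Set ↥U) := by
  have : ({x'} : Set ↥U) = Subtype.val ⁻¹' {x'.1} := by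
    ext z; simp [Subtype.ext_iff]
  rw [this]
  exact h.preimage continuous_subtype_val

/-- Existence of a good neighbourhood realizing the rectified depth. -/
theorem exists_good (hreg : ∀ s : S, IsRegularLocalRing ↑(S.presheaf.stalk s))
    (h3 : ∀ S' ∈ irreducibleComponents (S : Type u), ∀ s ∈ S', IsClosed ({s} : Set S) →
      topologicalKrullDim (↥S' : Type u) = topologicalKrullDim ↥{t : S | t ∈ S' ∧ t ⤳ s})
    (g : X ⟶ S) [LocallyOfFiniteType g] (F : X.Modules) (hF : Coh.IsCoh F) (x : X) :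
    ∃ (U₀ : X.Opens) (n₀ : ℕ∞), x ∈ U₀ ∧
      ((n₀ : WithBot ℕ∞) =
        ((LocCoh.depth ↑(X.presheaf.stalk x) ↑(F.presheaf.stalk x) : ℕ∞) : WithBot ℕ∞) +
          topologicalKrullDim ↥(closure ({x} : Set X))) ∧
      ∀ x' : ↥U₀, (x' : X) ∈ closure ({x} : Set X) → IsClosed ({x'} : Set ↥U₀) →
        LocCoh.depth ↑(X.presheaf.stalk (x' : X)) ↑(F.presheaf.stalk (x' : X)) = n₀ := by
  haveI : F.IsQuasicoherent := hF.1
  haveI : SheafOfModules.IsFiniteType (R := X.ringCatSheaf) F := hF.2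
  haveI : IsLocallyNoetherian X := LocallyOfFiniteType.isLocallyNoetherian g
  haveI : JacobsonSpace X := LocallyOfFiniteType.jacobsonSpace g
  have hcl : IsClosed (CohB1.support F) := SupportCoh.isClosed_support F
  by_cases hxs : x ∈ CohB1.support F
  · obtain ⟨W, C, pdf, hWo, hxW, hpdf, hkey⟩ := key hreg h3 g F x
    obtain ⟨e₀, d₀, c₀, hpd₀, hdep₀, hc₀, hsum₀⟩ := hkey x hxW hxs
    refine ⟨⟨{y | y ∈ W ∧ pdf y ≤ (e₀ : WithBot ℕ∞)}, hpdf e₀⟩, ((d₀ + c₀ : ℕ) : ℕ∞),
      ⟨hxW, hpd₀.le⟩, ?_, ?_⟩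
    · rw [hdep₀, hc₀]
      push_cast
      rfl
    · rintro ⟨x', hx'W, hx'e⟩ hx'cl hx'closed
      have hsp : x ⤳ x' := specializes_iff_mem_closure.mpr hx'cl
      have hx's : x' ∈ CohB1.support F := hcl.closure_subset_iff.mpr
        (Set.singleton_subset_iff.mpr hxs) hx'cl
      obtain ⟨e, d, c, hpd, hdep, hc, hsum⟩ := hkey x' hx'W hx's
      change LocCoh.depth ↑(X.presheaf.stalk x') ↑(F.presheaf.stalk x') = _
      rw [hdep]
      -- c = 0
      have hclosed : IsClosed ({x'} : Set X) :=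
        isClosed_of_isClosed_in_open _ (hpdf e₀) ⟨x', hx'W, hx'e⟩ hx'closed
      have hc0 : c = 0 := by
        rw [hclosed.closure_eq] at hc
        have h1 := topologicalKrullDim_zero_of_discreteTopology ↥({x'} : Set X)
        rw [hc] at h1
        have : c ≤ 0 := by exact_mod_cast h1
        omega
      -- e = e₀
      rw [hpd] at hx'e
      have hee : e ≤ e₀ := by exact_mod_cast hx'e
      have hge : e₀ ≤ e := by
        have hopen := hpdf e
        have hx'mem : x' ∈ {y | y ∈ W ∧ pdf y ≤ (e : WithBot ℕ∞)} := ⟨hx'W, hpd.le⟩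
        have hxmem := hsp.mem_open hopen hx'mem
        have := hxmem.2
        rw [hpd₀] at this
        exact_mod_cast this
      have : d = d₀ + c₀ := by omega
      rw [this]
  · refine ⟨⟨(CohB1.support F)ᶜ, hcl.isOpen_compl⟩, ⊤, hxs, ?_, ?_⟩
    · exact ((rect_top_of_notMem X F x hxs).2).symm
    · rintro ⟨x', hx'⟩ _ _
      exact (rect_top_of_notMem X F x' hx').1

theorem main4896 (hreg : ∀ s : S, IsRegularLocalRing ↑(S.presheaf.stalk s))
    (h3 : ∀ S' ∈ irreducibleComponents (S : Type u), ∀ s ∈ S', IsClosed ({s} : Set S) →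
      topologicalKrullDim (↥S' : Type u) = topologicalKrullDim ↥{t : S | t ∈ S' ∧ t ⤳ s})
    (g : X ⟶ S) [LocallyOfFiniteType g] (F : X.Modules) (hF : Coh.IsCoh F) (x : X) (n : ℕ∞) :
    (∃ U : X.Opens, x ∈ U ∧ ∀ x' : ↥U, (x' : X) ∈ closure ({x} : Set X) →
        IsClosed ({x'} : Set ↥U) →
        LocCoh.depth ↑(X.presheaf.stalk (x' : X)) ↑(F.presheaf.stalk (x' : X)) = n) ↔
      ((n : WithBot ℕ∞) =
        ((LocCoh.depth ↑(X.presheaf.stalk x) ↑(F.presheaf.stalk x) : ℕ∞) : WithBot ℕ∞) +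
          topologicalKrullDim ↥(closure ({x} : Set X))) := by
  haveI : JacobsonSpace X := LocallyOfFiniteType.jacobsonSpace g
  obtain ⟨U₀, n₀, hxU₀, hn₀, hgood⟩ := exists_good hreg h3 g F hF x
  constructor
  · rintro ⟨U, hxU, hU⟩
    rw [← hn₀]
    -- find a closed point in U ∩ U₀ ∩ cl{x}
    obtain ⟨x', ⟨⟨hx'U, hx'U₀⟩, hx'cl⟩, hx'closed⟩ :=
      nonempty_inter_closedPoints (X := X) (Z := ((U : Set X) ∩ (U₀ : Set X)) ∩ closure {x})
        ⟨x, ⟨hxU, hxU₀⟩, subset_closure rfl⟩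
        ((U.2.inter U₀.2).isLocallyClosed.inter isClosed_closure.isLocallyClosed)
    have hx'closed' : IsClosed ({x'} : Set X) := hx'closed
    have h1 := hU ⟨x', hx'U⟩ hx'cl (isClosed_in_open_of_isClosed _ ⟨x', hx'U⟩ hx'closed')
    have h2 := hgood ⟨x', hx'U₀⟩ hx'cl (isClosed_in_open_of_isClosed _ ⟨x', hx'U₀⟩ hx'closed')
    have : n = n₀ := h1.symm.trans h2
    rw [this]
  · intro hn
    have : n = n₀ := by
      have := hn.trans hn₀.symm
      exact_mod_cast this
    rw [this]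
    exact ⟨U₀, hxU₀, hgood⟩

end RectKeyH8
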