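/-
helper5: reducedness of flat algebras over reduced rings (EGA IV 11.3.13 / 6.5.3-type), ring level, part 1:
the noetherian core and the passage to a noetherian model.  APPEND-ONLY once landed.
-/
import Mathlib
import Groth.Agent.Lib.FlatDesc15_helper8
import Groth.Agent.Lib.FibGRed1_helper5

set_option autoImplicit false
set_option linter.unusedSectionVars false
universe u

open scoped TensorProduct

namespace Groth.Agent.Lib.RedAscH5

open Groth.Agent.Lib.FlatDescH8

section Noeth

variable (A S : Type u) [CommRing A] [CommRing S] [Algebra A S] [IsNoetherianRing A] [IsReduced A]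
  [Module.Flat A S]

/-- over a reduced noetherian ring, an element of a flat algebra lying in `P S` for every minimal prime `P` is zero -/
theorem eq_zero_of_forall_minimal (b : S)
    (h : ∀ P ∈ minimalPrimes A, b ∈ P.map (algebraMap A S)) : b = 0 := by
  classical
  -- the annihilator of `b`
  set I : Ideal A := LinearMap.ker (LinearMap.toSpanSingleton A S b) with hI
  have hmem : ∀ a : A, a ∈ I ↔ a • b = 0 := by
    intro a
    rw [hI, LinearMap.mem_ker, LinearMap.toSpanSingleton_apply]
  -- `I` is not contained in any associated prime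
  have hnot : ∀ P ∈ associatedPrimes A A, ¬ I ≤ P := by
    intro P hP hIP
    have hmin := Groth.Agent.Lib.FibGRedH5.mem_minimalPrimes_of_mem_associatedPrimes A P hP
    obtain ⟨hPprime, x, hx⟩ := isAssociatedPrime_iff.1 hP
    have hxP : x ∉ P := by
      intro hxP
      have h1 : x * x = 0 := by
        have := hxP
        rw [hx, Submodule.mem_colon_singleton, Submodule.mem_bot, smul_eq_mul] at this
        exact this
      have h2 : x = 0 := by
        have : IsNilpotent x := ⟨2, by rw [pow_two]; exact h1⟩
        exact this.eq_zero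
      apply hPprime.ne_top
      rw [hx, Ideal.eq_top_iff_one, Submodule.mem_colon_singleton, h2]
      simp
    apply hxP
    apply hIP
    rw [hmem]
    -- `x` kills `P S`
    have hb := h P hmin
    have key : ∀ s ∈ P.map (algebraMap A S), x • s = 0 := by
      intro s hs
      refine Submodule.span_induction ?_ ?_ ?_ ?_ hs
      · rintro _ ⟨p, hp, rfl⟩
        have hpx : p * x = 0 := by
          have := hp
          rw [SetLike.mem_coe, hx, Submodule.mem_colon_singleton, Submodule.mem_bot,
            smul_eq_mul] at this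
          exact this
        rw [Algebra.smul_def, ← map_mul, mul_comm, hpx, map_zero]
      · simp
      · intro a c _ _ ha hc
        rw [smul_add, ha, hc, add_zero]
      · intro a c _ hc
        rw [smul_eq_mul, Algebra.smul_def, mul_left_comm, ← Algebra.smul_def, hc, mul_zero]
    exact key b hb
  -- hence `I` contains a regular element
  have hreg : ∃ r ∈ I, r ∈ nonZeroDivisors A := by
    by_contra hcon
    push Not at hcon
    have hdis : Disjoint (I : Set A) (nonZeroDivisors A) := by
      rw [Set.disjoint_left]
      intro a ha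
      exact hcon a ha
    obtain ⟨P, hP, hIP⟩ : ∃ P ∈ associatedPrimes A A, I ≤ P :=
      (I.subset_union_prime_finite (associatedPrimes.finite ..) (f := id) 0 0
        fun _ h _ _ ↦ h.1).1 <|
        biUnion_associatedPrimes_eq_compl_nonZeroDivisors A ▸ hdis.subset_compl_right
    exact hnot P hP hIP
  obtain ⟨r, hrI, hr⟩ := hreg
  have hregA : IsSMulRegular A r := by
    intro a c hac
    have h1 : r * (a - c) = 0 := by
      rw [mul_sub]
      exact sub_eq_zero.mpr hac
    have h2 := (mem_nonZeroDivisors_iff.mp hr).1 (a - c) h1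
    exact sub_eq_zero.mp h2
  have hregS : IsSMulRegular S (algebraMap A S r) := hregA.of_flat
  have h0 : algebraMap A S r • b = algebraMap A S r • (0 : S) := by
    rw [smul_zero, smul_eq_mul, ← Algebra.smul_def]
    exact (hmem r).mp hrI
  exact hregS h0

end Noeth

section Core

variable (A₀ A B₀ : Type u) [CommRing A₀] [CommRing A] [CommRing B₀] [Algebra A₀ A] [Algebra A₀ B₀]
  [IsNoetherianRing A₀] [IsReduced A] [Module.Flat A₀ B₀]

/-- **Core**: `A` reduced, `A₀ → A` with `A₀` noetherian, `B₀` a flat `A₀`-algebra such that over every prime `P` of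
`A` there is an `A`-algebra `L` with kernel `P` and `L ⊗ B₀` reduced.  Then `A ⊗ B₀` is reduced. -/
theorem isReduced_tensor_of_model
    (H₀ : ∀ (P : Ideal A) [P.IsPrime], ∃ (L : Type u) (_ : CommRing L) (_ : Algebra A L)
      (_ : Algebra A₀ L) (_ : IsScalarTower A₀ A L),
        RingHom.ker (algebraMap A L) = P ∧ IsReduced (L ⊗[A₀] B₀)) :
    IsReduced (A ⊗[A₀] B₀) := by
  refine ⟨fun b hb => ?_⟩
  obtain ⟨A'', hfg, b', hb'⟩ := exists_fg_mem_jmap_range (A₀ := A₀) (A := A) (B₀ := B₀) b
  haveI : Algebra.FiniteType A₀ A'' := (Subalgebra.fg_iff_finiteType A'').mp hfg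
  haveI : IsNoetherianRing A'' := Algebra.FiniteType.isNoetherianRing A₀ A''
  haveI : IsReduced A'' := isReduced_of_injective A''.val Subtype.val_injective
  -- injectivity of `jmap`
  have hinj : Function.Injective (jmap (B₀ := B₀) A'') := by
    have h1 : Function.Injective (LinearMap.rTensor B₀ A''.val.toLinearMap) :=
      Module.Flat.rTensor_preserves_injective_linearMap _ Subtype.val_injective
    intro x y hxy
    apply h1
    have e : ∀ z : A'' ⊗[A₀] B₀, LinearMap.rTensor B₀ A''.val.toLinearMap z = jmap A'' z := by
      intro z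
      induction z with
      | zero => simp
      | tmul a c => rfl
      | add z w hz hw => rw [map_add, map_add, hz, hw]
    rw [e, e]
    exact hxy
  have hb'nil : IsNilpotent b' := by
    obtain ⟨n, hn⟩ := hb
    refine ⟨n, hinj ?_⟩
    rw [map_pow, map_zero]
    show (jmap A'' b') ^ n = 0
    rw [show jmap A'' b' = b from hb']
    exact hn
  -- apply the noetherian core to `A'' ⊗ B₀`
  have hzero : b' = 0 := by
    apply eq_zero_of_forall_minimal A'' (A'' ⊗[A₀] B₀) b'
    intro P' hP'
    haveI hP'prime : P'.IsPrime := hP'.1.1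
    obtain ⟨P, hPprime, hPc⟩ := Ideal.exists_comap_eq_of_mem_minimalPrimes_of_injective
      (f := A''.val.toRingHom) Subtype.val_injective P' hP'
    haveI := hPprime
    obtain ⟨L, _, _, _, _, hker, hred⟩ := H₀ P
    let ψ : A'' →ₐ[A₀] L := (IsScalarTower.toAlgHom A₀ A L).comp A''.val
    have hψker : ∀ a : A'', ψ a = 0 ↔ a ∈ P' := by
      intro a
      rw [← hPc, Ideal.mem_comap]
      show algebraMap A L (a : A) = 0 ↔ (a : A) ∈ P
      rw [← hker, RingHom.mem_ker]
    let Ψ : A'' ⊗[A₀] B₀ →ₐ[A₀] L ⊗[A₀] B₀ := Algebra.TensorProduct.map ψ (AlgHom.id A₀ B₀)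
    have hΨ0 : Ψ b' = 0 := by
      have : IsNilpotent (Ψ b') := hb'nil.map Ψ
      exact this.eq_zero
    -- exactness after tensoring with the flat module `B₀`
    have hex : Function.Exact ((LinearMap.ker ψ.toLinearMap).subtype.rTensor B₀)
        (ψ.toLinearMap.rTensor B₀) :=
      Module.Flat.rTensor_exact B₀ (LinearMap.exact_subtype_ker_map ψ.toLinearMap)
    have hΨ' : ψ.toLinearMap.rTensor B₀ b' = 0 := by
      have e : ∀ z : A'' ⊗[A₀] B₀, ψ.toLinearMap.rTensor B₀ z = Ψ z := by
        intro z
        induction z with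
        | zero => simp
        | tmul a c => rfl
        | add z w hz hw => rw [map_add, map_add, hz, hw]
      rw [e]
      exact hΨ0
    obtain ⟨t, ht⟩ := (hex b').mp hΨ'
    -- the image of `ker ψ ⊗ B₀` lies in `P' (A'' ⊗ B₀)`
    have hall : ∀ t : (LinearMap.ker ψ.toLinearMap) ⊗[A₀] B₀,
        (LinearMap.ker ψ.toLinearMap).subtype.rTensor B₀ t ∈
          P'.map (algebraMap A'' (A'' ⊗[A₀] B₀)) := by
      intro t
      induction t with
      | zero => simp
      | tmul a c =>
        have haP : (a : A'') ∈ P' := (hψker a).mp a.2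
        have : (LinearMap.ker ψ.toLinearMap).subtype.rTensor B₀ (a ⊗ₜ[A₀] c) =
            algebraMap A'' (A'' ⊗[A₀] B₀) (a : A'') * ((1 : A'') ⊗ₜ[A₀] c) := by
          rw [LinearMap.rTensor_tmul, Algebra.TensorProduct.algebraMap_apply,
            Algebra.TensorProduct.tmul_mul_tmul, one_mul]
          simp
        rw [this]
        exact Ideal.mul_mem_right _ _ (Ideal.mem_map_of_mem _ haP)
      | add z w hz hw =>
        rw [map_add]
        exact Ideal.add_mem _ hz hw
    rw [← ht]
    exact hall t
  rw [← hb', hzero, map_zero]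

end Core

end Groth.Agent.Lib.RedAscH5
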