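/-
helper5: reducedness of flat finitely presented algebras over reduced rings with reduced fibres (non-noetherian base),
via a noetherian model (helper8's FlatDesc).  APPEND-ONLY once landed.
-/
import Mathlib
import Groth.Agent.Lib.RedAsc1_helper5
import Groth.Agent.Lib.FlatDesc12_helper8

set_option autoImplicit false
set_option linter.unusedSectionVars false
universe u

open scoped TensorProduct

namespace Groth.Agent.Lib.RedAscH5

open Groth.Agent.Lib.FlatDescH8

/-- a flat finitely presented algebra is the base change of a flat algebra over a noetherian ring -/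
theorem exists_noeth_model_flat (A B : Type u) [CommRing A] [CommRing B] [Algebra A B]
    [Algebra.FinitePresentation A B] [Module.Flat A B] :
    ∃ (A₀ B₀ : Type u) (_ : CommRing A₀) (_ : CommRing B₀) (_ : Algebra A₀ A) (_ : Algebra A₀ B₀),
      IsNoetherianRing A₀ ∧ Module.Flat A₀ B₀ ∧ Nonempty (A ⊗[A₀] B₀ ≃ₐ[A] B) := by
  obtain ⟨A₁, _, _, _, _, B₁, _, _, _, _, M₁, _, _, _, _, f, hft, -, hfp, -, hpush, -⟩ :=
    exists_model A B B
  haveI : IsNoetherianRing A₁ := Algebra.FiniteType.isNoetherianRing ℤ A₁
  haveI := hfp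
  haveI := hpush
  haveI : Module.Flat A (A ⊗[A₁] B₁) :=
    Module.Flat.of_linearEquiv (R := A) (M := B)
      (Algebra.IsPushout.equiv A₁ A B₁ B).toLinearEquiv
  obtain ⟨A', _, _, _, _, hA'ft, -, hflat⟩ := exists_fg_algebra_flat (A₁ := A₁) (B₁ := B₁) B₁ A
  haveI : IsNoetherianRing A' := Algebra.FiniteType.isNoetherianRing A₁ A'
  exact ⟨A', A' ⊗[A₁] B₁, inferInstance, inferInstance, inferInstance, inferInstance,
    inferInstance, hflat,
    ⟨(Algebra.TensorProduct.cancelBaseChange A₁ A' A A B₁).trans
      (Algebra.IsPushout.equiv A₁ A B₁ B)⟩⟩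

/-- **Reducedness ascends** along flat finitely presented algebras with reduced fibres over a reduced ring. -/
theorem isReduced_of_flat_of_fiber (A B : Type u) [CommRing A] [CommRing B] [Algebra A B]
    [IsReduced A] [Algebra.FinitePresentation A B] [Module.Flat A B]
    (H : ∀ (P : Ideal A) [P.IsPrime], IsReduced (P.Fiber B)) : IsReduced B := by
  obtain ⟨A₀, B₀, _, _, _, _, hN, hfl, ⟨e⟩⟩ := exists_noeth_model_flat A B
  haveI := hN
  haveI := hfl
  haveI h : IsReduced (A ⊗[A₀] B₀) := by
    apply isReduced_tensor_of_model A₀ A B₀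
    intro P hP
    refine ⟨P.ResidueField, inferInstance, inferInstance, inferInstance, inferInstance,
      Ideal.ker_algebraMap_residueField P, ?_⟩
    let e1 : P.ResidueField ⊗[A] (A ⊗[A₀] B₀) ≃ₐ[P.ResidueField] P.ResidueField ⊗[A₀] B₀ :=
      Algebra.TensorProduct.cancelBaseChange A₀ A P.ResidueField P.ResidueField B₀
    let e2 : P.ResidueField ⊗[A] (A ⊗[A₀] B₀) ≃ₐ[P.ResidueField] P.ResidueField ⊗[A] B :=
      Algebra.TensorProduct.congr AlgEquiv.refl e
    haveI : IsReduced (P.ResidueField ⊗[A] B) := H P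
    exact isReduced_of_injective (e1.symm.trans e2).toRingEquiv.toRingHom
      (e1.symm.trans e2).injective
  exact isReduced_of_injective e.symm.toRingEquiv.toRingHom e.symm.injective

end Groth.Agent.Lib.RedAscH5
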