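/-
helper5: reducedness ascent, ring level, part 3: from the fibre local rings `B_Q / pB_Q` to the fibres, and the local form
(`R_p` reduced + reduced fibre local rings ⇒ `S_q` reduced) for flat finitely presented algebras.  APPEND-ONLY once landed.
-/
import Mathlib
import Groth.Prelude.Def_EGA4b
import Groth.Agent.Lib.RedAsc2_helper5

set_option autoImplicit false
set_option linter.unusedSectionVars false
universe u

open scoped TensorProduct

namespace Groth.Agent.Lib.RedAscH5

section Fiber

variable (R S : Type u) [CommRing R] [CommRing S] [Algebra R S]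

/-- if all fibre local rings `S_Q / p S_Q` are reduced then so are the fibres `κ(p) ⊗ S` -/
theorem isReduced_fiber_of_fibLocRing (p : Ideal R) [p.IsPrime]
    (h : ∀ (Q : Ideal S) [Q.IsPrime], IsReduced (EGA4.FibLocRing R S Q)) :
    IsReduced (p.Fiber S) := by
  apply isReduced_ofLocalizationMaximal
  intro q hq
  haveI : q.IsPrime := hq.isPrime
  set r : Ideal S := q.comap (Algebra.TensorProduct.includeRight : S →ₐ[R] p.Fiber S) with hr
  haveI : r.IsPrime := Ideal.comap_isPrime _ _
  have hrp : r.comap (algebraMap R S) = p := by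
    have h1 : q.comap (algebraMap R (p.Fiber S)) = p := (Ideal.over_def q p).symm
    rw [← h1]
    ext a
    simp only [hr, Ideal.mem_comap]
    rw [AlgHom.commutes]
  let e := Ideal.Fiber.algEquivAux₂ p q
  have hJ : (p.map (algebraMap R S)).map (algebraMap S (Localization.AtPrime r)) =
      (r.comap (algebraMap R S)).map (algebraMap R (Localization.AtPrime r)) := by
    rw [hrp, Ideal.map_map, ← IsScalarTower.algebraMap_eq]
  haveI h1 : IsReduced (Localization.AtPrime r ⧸
      (r.comap (algebraMap R S)).map (algebraMap R (Localization.AtPrime r))) := h r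
  haveI h2 : IsReduced (Localization.AtPrime r ⧸
      (p.map (algebraMap R S)).map (algebraMap S (Localization.AtPrime r))) :=
    isReduced_of_injective (Ideal.quotEquivOfEq hJ).toRingHom (Ideal.quotEquivOfEq hJ).injective
  exact isReduced_of_injective e.toRingEquiv.toRingHom e.injective

end Fiber

section Local

variable (R S : Type u) [CommRing R] [CommRing S] [Algebra R S]
  [Algebra.FinitePresentation R S] [Module.Flat R S]

/-- **Local form of the ascent of reducedness** (EGA IV 11.3.13 (i)-type, ring form): for a flat finitely presented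
`R`-algebra `S` whose fibre local rings are all reduced, `S_q` is reduced as soon as `R_p` (`p = q ∩ R`) is. -/
theorem isReduced_localization_of_fibLocRing (q : Ideal S) [q.IsPrime]
    (hR : IsReduced (Localization.AtPrime (q.comap (algebraMap R S))))
    (h : ∀ (Q : Ideal S) [Q.IsPrime], IsReduced (EGA4.FibLocRing R S Q)) :
    IsReduced (Localization.AtPrime q) := by
  set p : Ideal R := q.comap (algebraMap R S) with hp
  -- the base change to `A = R_p`
  haveI hB : IsReduced (Localization.AtPrime p ⊗[R] S) := by
    apply isReduced_of_flat_of_fiber (Localization.AtPrime p) (Localization.AtPrime p ⊗[R] S)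
    intro P hP
    set p' : Ideal R := P.comap (algebraMap R (Localization.AtPrime p)) with hp'
    haveI : p'.IsPrime := Ideal.comap_isPrime _ _
    have hbij : Function.Bijective (Ideal.ResidueField.mapₐ p' P
        (Algebra.ofId R (Localization.AtPrime p)) rfl) :=
      RingHom.SurjectiveOnStalks.residueFieldMap_bijective
        (RingHom.surjectiveOnStalks_of_isLocalization (M := p.primeCompl) (Localization.AtPrime p))
        p' P rfl
    let ε : p'.ResidueField ≃ₐ[R] P.ResidueField := AlgEquiv.ofBijective _ hbij
    let e1 : P.ResidueField ⊗[Localization.AtPrime p] (Localization.AtPrime p ⊗[R] S) ≃ₐ[P.ResidueField]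
        P.ResidueField ⊗[R] S :=
      Algebra.TensorProduct.cancelBaseChange R (Localization.AtPrime p) P.ResidueField
        P.ResidueField S
    let e3 : p'.ResidueField ⊗[R] S ≃ₐ[R] P.ResidueField ⊗[R] S :=
      Algebra.TensorProduct.congr ε AlgEquiv.refl
    haveI : IsReduced (p'.ResidueField ⊗[R] S) := isReduced_fiber_of_fibLocRing R S p' h
    haveI : IsReduced (P.ResidueField ⊗[R] S) :=
      isReduced_of_injective e3.symm.toRingEquiv.toRingHom e3.symm.injective
    exact isReduced_of_injective e1.toRingEquiv.toRingHom e1.injective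
  -- back to `S_q`
  refine ⟨fun x hx => ?_⟩
  obtain ⟨s, t, rfl⟩ := IsLocalization.exists_mk'_eq q.primeCompl x
  obtain ⟨n, hn⟩ := hx
  rw [← IsLocalization.mk'_pow, IsLocalization.mk'_eq_zero_iff] at hn
  obtain ⟨u, hu⟩ := hn
  -- `c = u s` is nilpotent in `S`
  have hc : IsNilpotent ((u : S) * s) := by
    refine ⟨n + 1, ?_⟩
    calc ((u : S) * s) ^ (n + 1) = (u : S) ^ n * s * ((u : S) * s ^ n) := by ring
      _ = 0 := by rw [hu, mul_zero]
  have hc0 : (1 : Localization.AtPrime p) ⊗ₜ[R] ((u : S) * s) = 0 := by
    have : IsNilpotent ((1 : Localization.AtPrime p) ⊗ₜ[R] ((u : S) * s)) :=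
      hc.map (Algebra.TensorProduct.includeRight : S →ₐ[R] Localization.AtPrime p ⊗[R] S)
    exact this.eq_zero
  haveI : IsLocalizedModule p.primeCompl (TensorProduct.mk R (Localization.AtPrime p) S 1) :=
    (isLocalizedModule_iff_isBaseChange p.primeCompl (Localization.AtPrime p) _).mpr
      (TensorProduct.isBaseChange R S (Localization.AtPrime p))
  have hc1 : TensorProduct.mk R (Localization.AtPrime p) S 1 ((u : S) * s) = 0 := hc0
  rw [IsLocalizedModule.eq_zero_iff p.primeCompl] at hc1
  obtain ⟨a, ha⟩ := hc1
  rw [IsLocalization.mk'_eq_zero_iff]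
  have haq : algebraMap R S (a : R) ∈ q.primeCompl := by
    intro hmem
    exact a.2 hmem
  refine ⟨⟨algebraMap R S (a : R), haq⟩ * u, ?_⟩
  rw [Submonoid.coe_mul, mul_assoc]
  have : (a : R) • ((u : S) * s) = 0 := ha
  rw [Algebra.smul_def] at this
  exact this

end Local

end Groth.Agent.Lib.RedAscH5
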