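/-
helper5: reducedness ascent, scheme level (EGA IV 11.3.13 (i)-type): `f` flat l.f.p., `O_{Y,f x}` reduced, the fibre geometrically
reduced at `x` ⇒ `O_{X,x}` reduced (no noetherian hypothesis).  APPEND-ONLY once landed.
-/
import Mathlib
import Groth.Agent.Lib.RedAsc3_helper5
import Groth.Agent.Lib.FibGRed3_helper5

set_option autoImplicit false
set_option linter.unusedSectionVars false
universe u

open scoped TensorProduct
open CategoryTheory CategoryTheory.Limits AlgebraicGeometry TopologicalSpace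
open Groth.Agent.Lib.FibSkH5 Groth.Agent.Lib.FibGRedH5

attribute [local instance] Curv2.stalkAlgebra

namespace Groth.Agent.Lib.RedAscH5

/-- geometric reducedness of the fibre at a point gives reducedness of the local ring of the fibre -/
theorem isReduced_fibre_stalk_of_geomReducedAt {X Y : Scheme.{u}} (f : X ⟶ Y)
    [LocallyOfFinitePresentation f] (x : X)
    (hx : FBase.IsGeomReducedAt (f.fiberToSpecResidueField (f.base x)) (f.asFiber x)) :
    IsReduced ((f.fiber (f.base x)).presheaf.stalk (f.asFiber x)) := by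
  letI : (f.fiber (f.base x)).Over (Spec (CommRingCat.of (Y.residueField (f.base x)))) :=
    ⟨f.fiberToSpecResidueField (f.base x)⟩
  have h0 : Curv2.IsGeomReducedAt (Y.residueField (f.base x)) (f.fiber (f.base x)) (f.asFiber x) :=
    hx
  haveI hgr : Algebra.IsGeometricallyReduced (Y.residueField (f.base x))
      ((f.fiber (f.base x)).presheaf.stalk (f.asFiber x)) :=
    (Groth.Agent.Lib.StalkDict2H4.main1541 (Y.residueField (f.base x)) (f.fiber (f.base x))
      (f.asFiber x)).mp h0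
  exact Algebra.isReduced_of_isGeometricallyReduced (Y.residueField (f.base x))

/-- **EGA IV 11.3.13 (i)-type.** -/
theorem isReduced_stalk_of_flat_geomReducedAt {X Y : Scheme.{u}} (f : X ⟶ Y) [Flat f]
    [LocallyOfFinitePresentation f] (x : X)
    (hy : IsReduced (Y.presheaf.stalk (f.base x)))
    (hx : FBase.IsGeomReducedAt (f.fiberToSpecResidueField (f.base x)) (f.asFiber x)) :
    IsReduced (X.presheaf.stalk x) := by
  classical
  have hG := isOpen_geomReducedAt f
  set G : X.Opens := ⟨{x' : X | FBase.IsGeomReducedAt (f.fiberToSpecResidueField (f.base x'))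
    (f.asFiber x')}, hG⟩ with hGdef
  obtain ⟨V, hV, hyV, -⟩ := Opens.isBasis_iff_nbhd.mp Y.isBasis_affineOpens
    (show f x ∈ (⊤ : Y.Opens) from trivial)
  obtain ⟨U, hU, hxU, e'⟩ := Opens.isBasis_iff_nbhd.mp X.isBasis_affineOpens
    (show x ∈ f ⁻¹ᵁ V ⊓ G from ⟨hyV, hx⟩)
  have e : U ≤ f ⁻¹ᵁ V := e'.trans inf_le_left
  have hUG : ∀ x' ∈ U, FBase.IsGeomReducedAt (f.fiberToSpecResidueField (f.base x'))
      (f.asFiber x') := fun x' hx' => (e' hx').2
  letI algAB : Algebra Γ(Y, V) Γ(X, U) := (f.appLE V U e).hom.toAlgebra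
  haveI : Module.Flat Γ(Y, V) Γ(X, U) :=
    HasRingHomProperty.appLE (P := @Flat) f inferInstance ⟨V, hV⟩ ⟨U, hU⟩ e
  haveI : Algebra.FinitePresentation Γ(Y, V) Γ(X, U) :=
    HasRingHomProperty.appLE (P := @LocallyOfFinitePresentation) f inferInstance ⟨V, hV⟩
      ⟨U, hU⟩ e
  have hmemU : ∀ 𝔭 : PrimeSpectrum Γ(X, U), (hU.fromSpec 𝔭 : X) ∈ U := by
    intro 𝔭
    have : (hU.fromSpec 𝔭 : X) ∈ hU.fromSpec.opensRange := ⟨𝔭, rfl⟩
    rwa [hU.opensRange_fromSpec] at this
  have hprime : ∀ 𝔭 : PrimeSpectrum Γ(X, U),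
      hU.primeIdealOf ⟨hU.fromSpec 𝔭, hmemU 𝔭⟩ = 𝔭 := by
    intro 𝔭
    apply hU.fromSpec.isOpenEmbedding.injective
    rw [hU.fromSpec_primeIdealOf]
  -- the fibre local rings are reduced
  have hfib : ∀ (Q : Ideal Γ(X, U)) [Q.IsPrime],
      IsReduced (EGA4.FibLocRing Γ(Y, V) Γ(X, U) Q) := by
    intro Q hQ
    have key := nonempty_fib_ringEquiv f hV hU e (hmemU ⟨Q, hQ⟩)
    rw [hprime] at key
    obtain ⟨σ⟩ := key
    haveI := isReduced_fibre_stalk_of_geomReducedAt f (hU.fromSpec ⟨Q, hQ⟩)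
      (hUG _ (hmemU ⟨Q, hQ⟩))
    exact isReduced_of_injective σ.toRingHom σ.injective
  -- the local ring of the base
  have hcomap : (hU.primeIdealOf ⟨x, hxU⟩).asIdeal.comap (algebraMap Γ(Y, V) Γ(X, U)) =
      (hV.primeIdealOf ⟨f x, e hxU⟩).asIdeal := primeIdealOf_comap f hV hU e hxU
  letI aX : Algebra Γ(X, U) (X.presheaf.stalk x) :=
    TopCat.Presheaf.algebra_section_stalk X.presheaf (⟨x, hxU⟩ : U)
  letI aY : Algebra Γ(Y, V) (Y.presheaf.stalk (f x)) :=
    TopCat.Presheaf.algebra_section_stalk Y.presheaf (⟨f x, e hxU⟩ : V)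
  haveI : IsLocalization.AtPrime (X.presheaf.stalk x) (hU.primeIdealOf ⟨x, hxU⟩).asIdeal :=
    hU.isLocalization_stalk ⟨x, hxU⟩
  haveI : IsLocalization.AtPrime (Y.presheaf.stalk (f x))
      (hV.primeIdealOf ⟨f x, e hxU⟩).asIdeal := hV.isLocalization_stalk ⟨f x, e hxU⟩
  have hRp : IsReduced (Localization.AtPrime (hV.primeIdealOf ⟨f x, e hxU⟩).asIdeal) := by
    let e₂ : Localization.AtPrime (hV.primeIdealOf ⟨f x, e hxU⟩).asIdeal ≃ₐ[Γ(Y, V)]
        Y.presheaf.stalk (f x) :=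
      IsLocalization.algEquiv (hV.primeIdealOf ⟨f x, e hxU⟩).asIdeal.primeCompl _ _
    haveI := hy
    exact isReduced_of_injective e₂.toRingEquiv.toRingHom e₂.injective
  have tr : ∀ (r : Ideal Γ(Y, V)) [r.IsPrime], r = (hV.primeIdealOf ⟨f x, e hxU⟩).asIdeal →
      IsReduced (Localization.AtPrime r) := by
    intro r _ hr
    subst hr
    exact hRp
  have hR := tr _ hcomap
  haveI hS := isReduced_localization_of_fibLocRing Γ(Y, V) Γ(X, U)
    (hU.primeIdealOf ⟨x, hxU⟩).asIdeal hR hfib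
  let e₁ : Localization.AtPrime (hU.primeIdealOf ⟨x, hxU⟩).asIdeal ≃ₐ[Γ(X, U)]
      X.presheaf.stalk x :=
    IsLocalization.algEquiv (hU.primeIdealOf ⟨x, hxU⟩).asIdeal.primeCompl _ _
  exact isReduced_of_injective e₁.symm.toRingEquiv.toRingHom e₁.symm.injective

end Groth.Agent.Lib.RedAscH5
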