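import Mathlib

/-!
# Ring lemmas for reducedness over a discrete valuation ring (helper7)
-/

set_option autoImplicit false
set_option linter.style.haveILetI false
universe u

namespace Groth.Agent.Lib.RedDVR1H7

open TensorProduct

/-- Powers of a non-zero-divisor are non-zero-divisors. -/
theorem eq_zero_of_pow_mul_eq_zero {B : Type*} [CommRing B] (π : B)
    (hπ : ∀ x : B, π * x = 0 → x = 0) : ∀ (n : ℕ) (z : B), π ^ n * z = 0 → z = 0 := by
  intro n
  induction n with
  | zero => intro z h; simpa using h
  | succ n ih =>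
    intro z h
    apply ih
    apply hπ
    rw [← mul_assoc, ← pow_succ']
    exact h

/-- If `π` is a non-zero-divisor of a Noetherian ring `B` with `B/πB` reduced, then the nilradical
of `B` is killed by an element congruent to `1` modulo `π` (Nakayama). -/
theorem exists_annihilator_of_isRadical {B : Type*} [CommRing B] [IsNoetherianRing B] (π : B)
    (hπ : ∀ x : B, π * x = 0 → x = 0) (hred : (Ideal.span {π}).IsRadical) :
    ∃ b : B, b - 1 ∈ Ideal.span {π} ∧ ∀ x ∈ nilradical B, b * x = 0 := by
  have hle : (nilradical B : Submodule B B) ≤ Ideal.span {π} • (nilradical B : Submodule B B) := by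
    intro x hx
    obtain ⟨n, hn⟩ := mem_nilradical.1 hx
    have hxπ : x ∈ Ideal.span {π} :=
      hred (Ideal.mem_radical_iff.2 ⟨n, by rw [hn]; exact Ideal.zero_mem _⟩)
    obtain ⟨y, rfl⟩ := Ideal.mem_span_singleton'.1 hxπ
    have hy : y ∈ nilradical B := by
      refine mem_nilradical.2 ⟨n, eq_zero_of_pow_mul_eq_zero π hπ n _ ?_⟩
      rw [mul_comm, ← mul_pow]
      exact hn
    have e : y * π = π • y := by rw [smul_eq_mul, mul_comm]
    rw [e]
    exact Submodule.smul_mem_smul (Ideal.mem_span_singleton_self π) hy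
  obtain ⟨b, hb1, hb2⟩ := Submodule.exists_sub_one_mem_and_smul_eq_zero_of_fg_of_le_smul
    (Ideal.span {π}) (nilradical B) (IsNoetherian.noetherian _) hle
  exact ⟨b, hb1, fun x hx => by simpa using hb2 x hx⟩

/-- A localization of `B` at a submonoid containing an element killing the nilradical is
reduced. -/
theorem isReduced_of_isLocalization_of_annihilator {B A : Type*} [CommRing B] [CommRing A]
    [Algebra B A] (M : Submonoid B) [IsLocalization M A] (b : B) (hbM : b ∈ M)
    (hb : ∀ x ∈ nilradical B, b * x = 0) : IsReduced A := by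
  refine ⟨fun z hz => ?_⟩
  obtain ⟨x, s, rfl⟩ := IsLocalization.exists_mk'_eq M z
  obtain ⟨n, hn⟩ := hz
  rw [← IsLocalization.mk'_pow, IsLocalization.mk'_eq_zero_iff] at hn
  obtain ⟨t, ht⟩ := hn
  have hnil : (t : B) * x ∈ nilradical B := by
    refine mem_nilradical.2 ⟨n + 1, ?_⟩
    calc ((t : B) * x) ^ (n + 1) = (t : B) ^ n * x * ((t : B) * x ^ n) := by ring
      _ = 0 := by rw [ht, mul_zero]
  rw [IsLocalization.mk'_eq_zero_iff]
  exact ⟨⟨b, hbM⟩ * t, by rw [Submonoid.coe_mul, mul_assoc]; exact hb _ hnil⟩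

/-- If `B ⊗ R/I` is reduced then `IB` is a radical ideal. -/
theorem isRadical_map_of_isReduced_tensor {R B : Type*} [CommRing R] [CommRing B] [Algebra R B]
    (I : Ideal R) (h : IsReduced (B ⊗[R] (R ⧸ I))) : (I.map (algebraMap R B)).IsRadical := by
  rw [Ideal.isRadical_iff_quotient_reduced]
  haveI := h
  exact isReduced_of_injective (Algebra.TensorProduct.quotIdealMapEquivTensorQuot B I)
    (AlgEquiv.injective _)

/-- The fraction field of a discrete valuation ring is the localization away from a
uniformizer. -/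
theorem isLocalization_away_fractionRing (R : Type*) [CommRing R] [IsDomain R]
    [IsDiscreteValuationRing R] (ϖ : R) (hϖ : Irreducible ϖ) :
    IsLocalization.Away ϖ (FractionRing R) := by
  haveI : IsFractionRing R (Localization.Away ϖ) := by
    refine IsLocalization.of_le_of_exists_dvd (M := Submonoid.powers ϖ) (N := nonZeroDivisors R) ?_ ?_
    · exact Submonoid.powers_le.2 (mem_nonZeroDivisors_of_ne_zero hϖ.ne_zero)
    · intro n hn
      obtain ⟨k, v, hv⟩ := IsDiscreteValuationRing.eq_unit_mul_pow_irreducible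
        (nonZeroDivisors.ne_zero hn) hϖ
      exact ⟨ϖ ^ k, ⟨k, rfl⟩, Dvd.intro (↑v⁻¹ : R)
        (by rw [hv, mul_comm (↑v : R), mul_assoc, Units.mul_inv, mul_one])⟩
  exact IsLocalization.isLocalization_of_algEquiv (Submonoid.powers ϖ)
    (IsLocalization.algEquiv (nonZeroDivisors R) (Localization.Away ϖ) (FractionRing R))

end Groth.Agent.Lib.RedDVR1H7
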