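import Mathlib
import Groth.Agent.Lib.RedDVR1_helper7
import Groth.Agent.Lib.AlgSpReduced_helper7

/-!
# Flat schemes over a discrete valuation ring with reduced special fibre (helper7)
-/

set_option autoImplicit false
set_option linter.style.haveILetI false
universe u
open CategoryTheory CategoryTheory.Limits AlgebraicGeometry Opposite TopologicalSpace TensorProduct

namespace Groth.Agent.Lib.RedDVR2H7

open Groth.Agent.Lib.RedDVR1H7 Groth.Agent.Lib.AlgSpReduced_helper7

/-- Affine case: an element congruent to one modulo the uniformizer kills the nilradical. -/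
theorem exists_annihilator (R : Type u) [CommRing R] [IsDomain R] [IsDiscreteValuationRing R]
    {B : CommRingCat.{u}} (φ : CommRingCat.of R ⟶ B) (hfl : Flat (Spec.map φ))
    (hft : LocallyOfFiniteType (Spec.map φ)) (ϖ : R) (hϖ : Irreducible ϖ) {P : Scheme.{u}}
    (p₁ : P ⟶ Spec B) (p₂ : P ⟶ Spec (CommRingCat.of (IsLocalRing.ResidueField R)))
    (sq : IsPullback p₁ p₂ (Spec.map φ)
      (Spec.map (CommRingCat.ofHom (IsLocalRing.residue R))))
    [IsReduced P] :
    ∃ b : B, b - 1 ∈ Ideal.span {φ.hom ϖ} ∧ ∀ x ∈ nilradical B, b * x = 0 := by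
  have hfl' : φ.hom.Flat := (HasRingHomProperty.Spec_iff (P := @Flat)).1 hfl
  have hft' : φ.hom.FiniteType :=
    (HasRingHomProperty.Spec_iff (P := @LocallyOfFiniteType)).1 hft
  letI : Algebra R B := φ.hom.toAlgebra
  haveI : Module.Flat R B := hfl'
  haveI : Algebra.FiniteType R B := hft'
  haveI : IsNoetherianRing B := Algebra.FiniteType.isNoetherianRing R B
  have sq' := isPullback_SpecMap_of_isPushout _ _ _ _
    (CommRingCat.isPushout_tensorProduct R B (IsLocalRing.ResidueField R))
  have sq'' : IsPullback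
      (Spec.map (CommRingCat.ofHom (S := B ⊗[R] IsLocalRing.ResidueField R)
        Algebra.TensorProduct.includeLeftRingHom))
      (Spec.map (CommRingCat.ofHom (S := B ⊗[R] IsLocalRing.ResidueField R)
        Algebra.TensorProduct.includeRight.toRingHom))
      (Spec.map φ) (Spec.map (CommRingCat.ofHom (IsLocalRing.residue R))) := sq'
  let e : P ≅ Spec (CommRingCat.of (B ⊗[R] IsLocalRing.ResidueField R)) :=
    sq.isoIsPullback _ _ sq''
  haveI : IsReduced (Spec (CommRingCat.of (B ⊗[R] IsLocalRing.ResidueField R))) :=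
    isReduced_of_isOpenImmersion e.inv
  have hT : _root_.IsReduced (B ⊗[R] IsLocalRing.ResidueField R) :=
    (affine_isReduced_iff _).1 this
  have hrad : ((IsLocalRing.maximalIdeal R).map (algebraMap R B)).IsRadical :=
    isRadical_map_of_isReduced_tensor (IsLocalRing.maximalIdeal R) hT
  have hspan : (IsLocalRing.maximalIdeal R).map (algebraMap R B) =
      Ideal.span {algebraMap R B ϖ} := by
    rw [hϖ.maximalIdeal_eq, Ideal.map_span, Set.image_singleton]
  rw [hspan] at hrad
  refine exists_annihilator_of_isRadical (algebraMap R B ϖ) ?_ hrad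
  intro x hx
  have hreg : IsSMulRegular B ϖ :=
    Module.Flat.isSMulRegular_of_nonZeroDivisors (mem_nonZeroDivisors_of_ne_zero hϖ.ne_zero)
  apply hreg
  show ϖ • x = ϖ • (0 : B)
  rw [smul_zero, Algebra.smul_def]
  exact hx

/-- Membership in a basic open of an affine open in terms of the corresponding prime. -/
theorem mem_basicOpen_iff_mem_primeCompl {U : Scheme.{u}} {V : U.Opens} (hV : IsAffineOpen V)
    (g : Γ(U, V)) (w : U) (hw : w ∈ V) :
    w ∈ U.basicOpen g ↔ g ∈ (hV.primeIdealOf ⟨w, hw⟩).asIdeal.primeCompl := by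
  letI := U.presheaf.algebra_section_stalk (U := V) ⟨w, hw⟩
  haveI := hV.isLocalization_stalk ⟨w, hw⟩
  rw [U.mem_basicOpen g w hw]
  exact IsLocalization.AtPrime.isUnit_to_map_iff (U.presheaf.stalk w)
    (hV.primeIdealOf ⟨w, hw⟩).asIdeal g

/-- Around every point of the special fibre of a flat, locally finite type scheme over a discrete
valuation ring with reduced special fibre, all local rings are reduced. -/
theorem exists_reduced_nbhd (R : Type u) [CommRing R] [IsDomain R] [IsDiscreteValuationRing R]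
    {U U₀ : Scheme.{u}} (f : U ⟶ Spec (CommRingCat.of R)) [Flat f] [LocallyOfFiniteType f]
    (a : U₀ ⟶ U) (b : U₀ ⟶ Spec (CommRingCat.of (IsLocalRing.ResidueField R)))
    (sq : IsPullback a b f (Spec.map (CommRingCat.ofHom (IsLocalRing.residue R))))
    [IsReduced U₀] (u : U) (hu : f u = IsLocalRing.closedPoint R) :
    ∃ W : U.Opens, u ∈ W ∧ ∀ w ∈ W, _root_.IsReduced (U.presheaf.stalk w) := by
  obtain ⟨ϖ, hϖ⟩ := IsDiscreteValuationRing.exists_irreducible R
  obtain ⟨V, hV, huV, -⟩ := Opens.isBasis_iff_nbhd.1 U.isBasis_affineOpens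
    (show u ∈ (⊤ : U.Opens) from trivial)
  have hV : IsAffineOpen V := hV
  let φ : CommRingCat.of R ⟶ Γ(U, V) := Spec.preimage (hV.fromSpec ≫ f)
  have hφ : Spec.map φ = hV.fromSpec ≫ f := Spec.map_preimage _
  have hflat : Flat (Spec.map φ) := by rw [hφ]; infer_instance
  have hlft : LocallyOfFiniteType (Spec.map φ) := by rw [hφ]; infer_instance
  have sqP : IsPullback (pullback.snd a hV.fromSpec) (pullback.fst a hV.fromSpec ≫ b)
      (Spec.map φ) (Spec.map (CommRingCat.ofHom (IsLocalRing.residue R))) := by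
    rw [hφ]
    exact (IsPullback.of_hasPullback a hV.fromSpec).flip.paste_vert sq
  haveI : IsReduced (pullback a hV.fromSpec) :=
    isReduced_of_isOpenImmersion (pullback.fst a hV.fromSpec)
  obtain ⟨b', hb1, hb2⟩ := exists_annihilator R φ hflat hlft ϖ hϖ _ _ sqP
  refine ⟨U.basicOpen b', ?_, ?_⟩
  · rw [mem_basicOpen_iff_mem_primeCompl hV b' u huV]
    intro hmem
    have hy1 : hV.fromSpec (hV.primeIdealOf ⟨u, huV⟩) = u := hV.fromSpec_primeIdealOf ⟨u, huV⟩
    have h1 : (Spec.map φ) (hV.primeIdealOf ⟨u, huV⟩) = IsLocalRing.closedPoint R := by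
      have e : (Spec.map φ) (hV.primeIdealOf ⟨u, huV⟩) =
          f (hV.fromSpec (hV.primeIdealOf ⟨u, huV⟩)) := by rw [hφ]; rfl
      exact e.trans ((congrArg f hy1).trans hu)
    have h1' : PrimeSpectrum.comap φ.hom (hV.primeIdealOf ⟨u, huV⟩) =
        IsLocalRing.closedPoint R := h1
    have h2 : φ.hom ϖ ∈ (hV.primeIdealOf ⟨u, huV⟩).asIdeal := by
      have h : ϖ ∈ (PrimeSpectrum.comap φ.hom (hV.primeIdealOf ⟨u, huV⟩)).asIdeal := by
        rw [h1']
        exact (IsLocalRing.mem_maximalIdeal ϖ).2 (mem_nonunits_iff.2 hϖ.not_isUnit)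
      exact h
    have h3 : b' - 1 ∈ (hV.primeIdealOf ⟨u, huV⟩).asIdeal :=
      (Ideal.span_singleton_le_iff_mem _).2 h2 hb1
    exact (hV.primeIdealOf ⟨u, huV⟩).isPrime.ne_top
      ((Ideal.eq_top_iff_one _).2 (by simpa using sub_mem hmem h3))
  · intro w hw
    have hwV : w ∈ V := U.basicOpen_le b' hw
    letI := U.presheaf.algebra_section_stalk (U := V) ⟨w, hwV⟩
    haveI := hV.isLocalization_stalk ⟨w, hwV⟩
    exact isReduced_of_isLocalization_of_annihilator
      (hV.primeIdealOf ⟨w, hwV⟩).asIdeal.primeCompl b'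
      ((mem_basicOpen_iff_mem_primeCompl hV b' w hwV).1 hw) hb2

/-- A flat, locally finite type scheme over a discrete valuation ring with reduced special fibre has
a reduced open subscheme containing the special fibre. -/
theorem exists_reduced_open (R : Type u) [CommRing R] [IsDomain R] [IsDiscreteValuationRing R]
    {U U₀ : Scheme.{u}} (f : U ⟶ Spec (CommRingCat.of R)) [Flat f] [LocallyOfFiniteType f]
    (a : U₀ ⟶ U) (b : U₀ ⟶ Spec (CommRingCat.of (IsLocalRing.ResidueField R)))
    (sq : IsPullback a b f (Spec.map (CommRingCat.ofHom (IsLocalRing.residue R))))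
    [IsReduced U₀] :
    ∃ W : U.Opens, (∀ u : U, f u = IsLocalRing.closedPoint R → u ∈ W) ∧
      IsReduced (W : Scheme.{u}) := by
  let Z : Set U := {w | _root_.IsReduced (U.presheaf.stalk w)}
  let W : U.Opens := ⟨interior Z, isOpen_interior⟩
  refine ⟨W, fun u hu => ?_, ?_⟩
  · obtain ⟨W', huW, hW⟩ := exists_reduced_nbhd R f a b sq u hu
    exact interior_maximal (fun w hw => hW w hw) W'.2 huW
  · haveI : ∀ w : (W : Scheme.{u}), _root_.IsReduced ((W : Scheme.{u}).presheaf.stalk w) :=
      fun w => by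
        have hz : (w.1 : U) ∈ Z := interior_subset (s := Z) w.2
        have hz' : _root_.IsReduced (U.presheaf.stalk (W.ι w)) := hz
        exact isReduced_stalk_of_etale W.ι w hz'
    exact isReduced_of_isReduced_stalk _

end Groth.Agent.Lib.RedDVR2H7
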