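import Mathlib
import Groth.Agent.Lib.RedDVR2_helper7
import Groth.Agent.Lib.AlgSpGeneriz_helper6
import Groth.Agent.Lib.AlgSpQC2_helper7
import Groth.Agent.Lib.AlgSpUnram_helper7
import Groth.Agent.Lib.FieldQuot3_helper6
import Groth.Agent.Lib.AlgSpDecent4_helper6

/-!
# Flat proper algebraic spaces over a discrete valuation ring with reduced special fibre (helper7)
-/

set_option autoImplicit false
set_option linter.style.haveILetI false
universe u
open CategoryTheory CategoryTheory.Limits AlgebraicGeometry Opposite TopologicalSpace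

namespace Groth.Agent.Lib.RedDVR3H7

open AlgSp Groth.Agent.Lib.AlgSpPoints_helper7 Groth.Agent.Lib.AlgSpPullback_helper7
  Groth.Agent.Lib.AlgSpQC_helper7 Groth.Agent.Lib.AlgSpQC2_helper7
  Groth.Agent.Lib.AlgSpReduced_helper7 Groth.Agent.Lib.AlgSpGeneriz_helper6
  Groth.Agent.Lib.AlgSpUnram_helper7 Groth.Agent.Lib.RedDVR1H7 Groth.Agent.Lib.RedDVR2H7

section general
variable {S : Scheme.{u}}

/-- Field points of an algebraic space quasi-separated over a scheme are representable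
quasi-compact. -/
theorem repWith_quasiCompact_fieldPt {X : Sp S} (hX : IsAlgSpace X) {T : Over S}
    (s : X ⟶ (yon S).obj T) (hqs : IsQuasiSeparatedMor s) (q : FieldPt X) :
    RepWith @QuasiCompact q.toHom := by
  apply repWith_quasiCompact_of_isQuasiCompactMor _ (hX.representable_from_yon _)
  apply isQuasiCompactMor_of_comp_of_isQuasiSeparatedMor q.toHom s _ hqs
  obtain ⟨c, hc⟩ := (yon S).map_surjective (q.toHom ≫ s)
  rw [← hc]
  apply isQuasiCompactMor_of_repWith
  refine (repWith_yon_map_iff @QuasiCompact c).2 ?_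
  haveI := Groth.Agent.Lib.FieldQuot3H6.subsingleton_spec_field q.K
  exact Groth.Agent.Lib.AlgSpDecent4_helper6.quasiCompact_of_subsingleton
    (X := Spec (CommRingCat.of q.K)) c.left

end general

section dvr
variable (R : Type u) [CommRing R] [IsDomain R] [IsDiscreteValuationRing R]

local notation "𝒮" => Spec (CommRingCat.of R)

/-- The closed point of `Spec R` as a morphism of schemes over `Spec R`. -/
noncomputable abbrev jO :
    (Over.mk (Spec.map (CommRingCat.ofHom (IsLocalRing.residue R))) : Over 𝒮) ⟶ Over.mk (𝟙 𝒮) :=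
  Over.homMk (Spec.map (CommRingCat.ofHom (IsLocalRing.residue R))) (Category.comp_id _)

/-- The generic point of `Spec R` as a morphism of schemes over `Spec R`. -/
noncomputable abbrev jη :
    (Over.mk (Spec.map (CommRingCat.ofHom (algebraMap R (FractionRing R)))) : Over 𝒮) ⟶
      Over.mk (𝟙 𝒮) :=
  Over.homMk (Spec.map (CommRingCat.ofHom (algebraMap R (FractionRing R)))) (Category.comp_id _)

theorem isReducedSp_of_reduced_special_fibre {X : Sp 𝒮} (hX : IsAlgSpace X)
    (s : X ⟶ (yon 𝒮).obj (Over.mk (𝟙 𝒮))) (hs1 : IsProperMor s) (hs2 : LocP @Flat s)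
    (h0 : EtaleLocally (fun U => IsReduced U) (pullback s ((yon 𝒮).map (jO R)))) :
    EtaleLocally (fun U => IsReduced U) X := by
  obtain ⟨U, p, hpe, hps⟩ := hX.atlas
  let T0 : Over 𝒮 := Over.mk (𝟙 𝒮)
  let fU : U ⟶ T0 := Over.homMk U.hom (Category.comp_id _)
  have hfU : p ≫ s = (yon 𝒮).map fU := (isTerminalYonId (S := 𝒮)).hom_ext _ _
  have hcomm : p ≫ s = (yon 𝒮).map fU ≫ 𝟙 _ := by rw [Category.comp_id]; exact hfU
  have hid : RepWith @Etale (𝟙 ((yon 𝒮).obj T0)) := by
    have h : MorphismProperty.IsMultiplicative @Etale.{u} := inferInstance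
    haveI := h.toContainsIdentities
    exact AlgSp.repWith_id _ T0
  haveI hflat : Flat U.hom := hs2 p (𝟙 _) fU hpe hid hcomm
  haveI hlft : LocallyOfFiniteType U.hom := hs1.2.1.1 p (𝟙 _) fU hpe hid hcomm
  -- special fibre of the chart
  have hj : Representable ((yon 𝒮).map (jO R)) :=
    (IsAlgSpace.yon_obj T0).representable_from_yon _
  let U₀ : Over 𝒮 := hj.pullback ((yon 𝒮).map fU)
  let a0 : U₀ ⟶ U := hj.snd ((yon 𝒮).map fU)
  let b0 : U₀ ⟶ Over.mk (Spec.map (CommRingCat.ofHom (IsLocalRing.residue R))) :=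
    hj.fst' ((yon 𝒮).map fU)
  have sqY : IsPullback ((yon 𝒮).map b0) ((yon 𝒮).map a0) ((yon 𝒮).map (jO R))
      ((yon 𝒮).map fU) := hj.isPullback' _
  have sq0 := IsPullback.of_hasPullback s ((yon 𝒮).map (jO R))
  have hX0 : IsAlgSpace (pullback s ((yon 𝒮).map (jO R))) :=
    isAlgSpace_of_isPullback (IsAlgSpace.yon_obj T0).diag hX (IsAlgSpace.yon_obj _) sq0
  obtain ⟨c, hc1, hc2⟩ : ∃ c : (yon 𝒮).obj U₀ ⟶ pullback s ((yon 𝒮).map (jO R)),
      c ≫ pullback.fst _ _ = (yon 𝒮).map a0 ≫ p ∧ c ≫ pullback.snd _ _ = (yon 𝒮).map b0 :=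
    ⟨pullback.lift ((yon 𝒮).map a0 ≫ p) ((yon 𝒮).map b0)
      (by rw [Category.assoc, hfU]; exact sqY.w.symm), pullback.lift_fst _ _ _,
      pullback.lift_snd _ _ _⟩
  have outer : IsPullback ((yon 𝒮).map a0) (c ≫ pullback.snd _ _) (p ≫ s)
      ((yon 𝒮).map (jO R)) := by
    rw [hc2, hfU]; exact sqY.flip
  have top : IsPullback ((yon 𝒮).map a0) c p (pullback.fst _ _) :=
    IsPullback.of_bot outer hc1.symm sq0
  have hce : RepWith @Etale c := repWith_snd_of_isPullback _ top hpe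
  haveI hU₀ : IsReduced U₀.left := isReduced_chart_of_isReducedSp hX0 h0 c hce
  have sqS : IsPullback b0.left a0.left (jO R).left fU.left :=
    isPullback_left_of_isPullback_yon sqY
  have sqS' : IsPullback a0.left b0.left U.hom
      (Spec.map (CommRingCat.ofHom (IsLocalRing.residue R))) := sqS.flip
  obtain ⟨W, hW1, hW2⟩ := exists_reduced_open R U.hom a0.left b0.left sqS'
  -- the reduced chart
  let WO : Over 𝒮 := Over.mk (W.ι ≫ U.hom)
  let ιO : WO ⟶ U := Over.homMk W.ι rfl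
  have hιe : RepWith @Etale ((yon 𝒮).map ιO) :=
    (repWith_yon_map_iff _ _).2 (show Etale W.ι from inferInstance)
  have hqe : RepWith @Etale ((yon 𝒮).map ιO ≫ p) := repWith_comp _ hιe hpe
  refine ⟨WO, (yon 𝒮).map ιO ≫ p, hqe, (repWith_surjective_iff _ hqe.rep).2 (fun x => ?_), hW2⟩
  -- surjectivity
  have hqs : IsQuasiSeparatedMor s :=
    repWith_mono (fun _ _ g hg => by haveI : IsClosedImmersion g := hg; infer_instance) hs1.1
  have hcl : IsClosedMap (Points.map s) :=
    hs1.2.2 (IsAlgSpace.yon_obj T0) (𝟙 _) (𝟙 _) s (IsPullback.id_horiz s)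
  let τ : Points X → ↥𝒮 := fun y => Points.toScheme T0 (Points.map s y)
  have hτ : IsClosedMap τ := (Points.schemeHomeo T0).symm.isClosedMap.comp hcl
  have hτp : ∀ u : U.left, τ (Points.ofPt p u) = U.hom u := fun u => by
    have e : Points.map s (Points.ofPt p u) = Points.ofPt ((yon 𝒮).map fU) u := by
      rw [Points.map_ofPt, hfU]
    show Points.toScheme T0 (Points.map s (Points.ofPt p u)) = _
    rw [e]
    exact Points.toScheme_ofPt fU u
  have hmem : (IsLocalRing.closedPoint R : ↥𝒮) ∈ τ '' closure {x} := by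
    have h1 : IsClosed (τ '' closure {x}) := hτ _ isClosed_closure
    have h2 : closure {τ x} ⊆ τ '' closure {x} :=
      h1.closure_subset_iff.2 (Set.singleton_subset_iff.2 ⟨x, subset_closure rfl, rfl⟩)
    exact h2 (specializes_iff_mem_closure.1 (IsLocalRing.specializes_closedPoint (τ x)))
  obtain ⟨x₀, hx₀cl, hx₀⟩ := hmem
  have hsp : x ⤳ x₀ := specializes_iff_mem_closure.2 hx₀cl
  obtain ⟨u₀, hu₀⟩ := ofPt_surjective p hps x₀
  have hu₀c : U.hom u₀ = IsLocalRing.closedPoint R :=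
    (hτp u₀).symm.trans ((congrArg τ hu₀).trans hx₀)
  obtain ⟨q, hq⟩ := Points.mk_surjective x
  have hqc := repWith_quasiCompact_fieldPt hX s hqs q
  obtain ⟨u', hu'sp, hu'⟩ := exists_specializes_lift x₀ x hsp q hq hqc p hpe u₀ hu₀
  have hu'W : u' ∈ W := hu'sp.mem_open W.2 (hW1 u₀ hu₀c)
  refine ⟨Points.ofScheme WO ⟨u', hu'W⟩, ?_⟩
  exact ((Points.ofPt_eq_map_ofScheme _ _).symm.trans (ofPt_comp ιO p _)).trans hu'

theorem isReducedSp_generic_fibre {X : Sp 𝒮} (hX : IsAlgSpace X)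
    (s : X ⟶ (yon 𝒮).obj (Over.mk (𝟙 𝒮)))
    (hred : EtaleLocally (fun U => IsReduced U) X)
    (Xη : Sp 𝒮) (fst : Xη ⟶ X)
    (snd : Xη ⟶ (yon 𝒮).obj (Over.mk (Spec.map (CommRingCat.ofHom (algebraMap R (FractionRing R))))))
    (sq : IsPullback fst snd s ((yon 𝒮).map (jη R))) :
    EtaleLocally (fun U => IsReduced U) Xη := by
  obtain ⟨ϖ, hϖ⟩ := IsDiscreteValuationRing.exists_irreducible R
  haveI := isLocalization_away_fractionRing R ϖ hϖ
  have hopen : IsOpenImmersion (Spec.map (CommRingCat.ofHom (algebraMap R (FractionRing R)))) :=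
    IsOpenImmersion.of_isLocalization ϖ
  have hj : RepWith @IsOpenImmersion ((yon 𝒮).map (jη R)) := (repWith_yon_map_iff _ _).2 hopen
  have hfst : RepWith @Etale fst :=
    repWith_mono (fun _ _ g hg => by haveI : IsOpenImmersion g := hg; infer_instance)
      (repWith_fst_of_isPullback _ sq hj)
  have hXη : IsAlgSpace Xη :=
    isAlgSpace_of_isPullback (IsAlgSpace.yon_obj _).diag hX (IsAlgSpace.yon_obj _) sq
  obtain ⟨V, q, hqe, hqs⟩ := hXη.atlas
  exact ⟨V, q, hqe, hqs, isReduced_chart_of_isReducedSp hX hred (q ≫ fst) (repWith_comp _ hqe hfst)⟩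

theorem main10669 {X : AlgSp.Space 𝒮} (s : X.obj ⟶ (yon 𝒮).obj (Over.mk (𝟙 𝒮)))
    (hs1 : IsProperMor s) (hs2 : LocP @Flat s)
    (h0 : ∀ (X0 : Sp 𝒮) (fst : X0 ⟶ X.obj)
      (snd : X0 ⟶ (yon 𝒮).obj (Over.mk (Spec.map (CommRingCat.ofHom (IsLocalRing.residue R))))),
      IsPullback fst snd s ((yon 𝒮).map (jO R)) → EtaleLocally (fun U => IsReduced U) X0) :
    EtaleLocally (fun U => IsReduced U) X.obj ∧
      ∀ (Xη : Sp 𝒮) (fst : Xη ⟶ X.obj)
        (snd : Xη ⟶ (yon 𝒮).obj
          (Over.mk (Spec.map (CommRingCat.ofHom (algebraMap R (FractionRing R)))))),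
        IsPullback fst snd s ((yon 𝒮).map (jη R)) → EtaleLocally (fun U => IsReduced U) Xη := by
  have h1 := isReducedSp_of_reduced_special_fibre R X.property s hs1 hs2
    (h0 _ _ _ (IsPullback.of_hasPullback _ _))
  exact ⟨h1, fun Xη fst snd sq => isReducedSp_generic_fibre R X.property s h1 Xη fst snd sq⟩

end dvr

end Groth.Agent.Lib.RedDVR3H7
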