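import Groth.Agent.Lib.RedInduced_helper7
import Groth.Agent.Lib.AlgSpIso_helper7
import Groth.Agent.Lib.AlgSpReduced_helper7
import Groth.Agent.Lib.AlgSpUniv_helper7

set_option autoImplicit false
universe u
open CategoryTheory CategoryTheory.Limits AlgebraicGeometry Opposite TopologicalSpace

namespace Groth.Agent.Lib.RedFactorH7

open AlgSp Groth.Agent.Lib.AlgSpPoints_helper7 Groth.Agent.Lib.AlgSpTop_helper7
  Groth.Agent.Lib.AlgSpPullback_helper7 Groth.Agent.Lib.AlgSpBasic_helper7
  Groth.Agent.Lib.AlgSpQC_helper7 Groth.Agent.Lib.SchImageH7 Groth.Agent.Lib.AlgSpUniv_helper7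
  Groth.Agent.Lib.AlgSpIso_helper7 Groth.Agent.Lib.AlgSpReduced_helper7
  Groth.Agent.Lib.RedInducedH7

variable {S : Scheme.{u}}

/-- Diagonal filler for an epimorphism against a monomorphism of sheaves. -/
theorem exists_factor_of_epi_mono {A W Z Y : Sp S} (w : A ⟶ W) [Epi w] (i : Z ⟶ Y) [Mono i]
    (g : W ⟶ Y) (a : A ⟶ Z) (h : a ≫ i = w ≫ g) : ∃ g' : W ⟶ Z, g' ≫ i = g := by
  haveI : Mono i.hom := (sheafToPresheaf (J S) (Type (u + 1))).map_mono i
  haveI : Sheaf.IsLocallySurjective w := (Sheaf.isLocallySurjective_iff_epi w).2 inferInstance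
  have hr : Subfunctor.range g.hom ≤ Subfunctor.range i.hom := by
    rintro T _ ⟨x, rfl⟩
    have hmem := Presheaf.imageSieve_mem (J S) w.hom x
    refine mem_range_of_sieve i (g.hom.app T x) ((J S).superset_covering ?_ hmem)
    intro T' c hc
    obtain ⟨y, hy⟩ := hc
    show Y.obj.map c.op (g.hom.app T x) ∈ Set.range (i.hom.app (op T'))
    refine ⟨a.hom.app (op T') y, ?_⟩
    have h1 : i.hom.app (op T') (a.hom.app (op T') y) = g.hom.app (op T') (w.hom.app (op T') y) :=
      congrArg (fun m : A ⟶ Y => m.hom.app (op T') y) h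
    rw [h1, hy]
    exact NatTrans.naturality_apply g.hom c.op x
  refine ⟨ObjectProperty.homMk (Subfunctor.lift g.hom hr ≫ inv (Subfunctor.toRange i.hom)), ?_⟩
  apply (sheafToPresheaf (J S) (Type (u + 1))).map_injective
  show (Subfunctor.lift g.hom hr ≫ inv (Subfunctor.toRange i.hom)) ≫ i.hom = g.hom
  have e : inv (Subfunctor.toRange i.hom) ≫ i.hom = (Subfunctor.range i.hom).ι := by
    rw [IsIso.inv_comp_eq, Subfunctor.toRange_ι]
  rw [Category.assoc, e, Subfunctor.lift_ι]

/-- A morphism from a reduced algebraic space whose image lies in a closed subspace factors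
through it. -/
theorem exists_factor_of_reduced {W Z Y : Sp S} (hW : IsAlgSpace W) (hWr : IsReducedSp W)
    (i : Z ⟶ Y) (hi : RepWith @IsClosedImmersion i) (g : W ⟶ Y)
    (hg : Set.range (Points.map g) ⊆ Set.range (Points.map i)) : ∃ g' : W ⟶ Z, g' ≫ i = g := by
  haveI : Mono i := mono_of_closedImmersion i hi
  obtain ⟨T, w, hwe, hws⟩ := hW.atlas
  haveI : IsReduced T.left := isReduced_chart_of_isReducedSp hW hWr w hwe
  haveI : Epi w := epi_of_atlas w hwe hws
  have sq := hi.rep.isPullback (w ≫ g)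
  haveI : IsClosedImmersion (hi.rep.snd (w ≫ g)).left := hi.property_snd (w ≫ g)
  haveI : Surjective (hi.rep.snd (w ≫ g)).left := by
    refine ⟨fun t => ?_⟩
    obtain ⟨z, hz⟩ := hg ⟨Points.ofPt w t, rfl⟩
    obtain ⟨v, -, hv2⟩ := exists_of_isPullback sq z (Points.ofScheme T t)
      (by rw [hz, Points.map_ofPt, ← Points.ofPt_eq_map_ofScheme])
    obtain ⟨v', rfl⟩ := ofScheme_surjective _ v
    refine ⟨v', ?_⟩
    apply (Points.schemeEquiv T).injective
    show Points.ofScheme T ((hi.rep.snd (w ≫ g)).left v') = Points.ofScheme T t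
    rw [← ofPt_yon_map, Points.ofPt_eq_map_ofScheme]
    exact hv2
  haveI : IsIso (hi.rep.snd (w ≫ g)).left :=
    isIso_of_isClosedImmersion_of_surjective _
  haveI : IsIso ((Over.forget S).map (hi.rep.snd (w ≫ g))) := ‹IsIso (hi.rep.snd (w ≫ g)).left›
  haveI : IsIso (hi.rep.snd (w ≫ g)) := isIso_of_reflects_iso _ (Over.forget S)
  refine exists_factor_of_epi_mono w i g
    ((yon S).map (inv (hi.rep.snd (w ≫ g))) ≫ hi.rep.fst (w ≫ g)) ?_
  rw [Category.assoc, sq.w, ← Category.assoc, ← Functor.map_comp, IsIso.inv_hom_id,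
    (yon S).map_id, Category.id_comp]

end Groth.Agent.Lib.RedFactorH7
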