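import Mathlib
import Groth.Agent.Lib.FibreProd_helper9

set_option autoImplicit false
universe u v

open TensorProduct

namespace RedFibH8

variable (A : Type u) (B : Type v) [CommRing A] [CommRing B] [Algebra A B]

/-- the inclusion of the nilradical as an `A`-linear map -/
noncomputable def incl : ↥(nilradical B) →ₗ[A] B := (nilradical B).subtype.restrictScalars A

lemma isNilpotent_lTensor_incl (K : Type u) [CommRing K] [Algebra A K] (t : K ⊗[A] ↥(nilradical B)) :
    IsNilpotent ((incl A B).lTensor K t) := by
  induction t using TensorProduct.induction_on with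
  | zero => rw [map_zero]; exact IsNilpotent.zero
  | tmul c n =>
    rw [LinearMap.lTensor_tmul]
    obtain ⟨k, hk⟩ := (mem_nilradical.mp n.2 : IsNilpotent (n : B))
    refine ⟨k, ?_⟩
    change (c ⊗ₜ[A] (n : B)) ^ k = 0
    rw [Algebra.TensorProduct.tmul_pow, hk, tmul_zero]
  | add x y hx hy =>
    rw [map_add]
    exact Commute.isNilpotent_add (Commute.all _ _) hx hy

theorem subsingleton_fibre_nilradical [Module.Flat A (B ⧸ nilradical B)]
    (p : PrimeSpectrum A) (hp : IsReduced (p.asIdeal.ResidueField ⊗[A] B)) :
    Subsingleton (p.asIdeal.ResidueField ⊗[A] ↥(nilradical B)) := by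
  have hinj : Function.Injective ((incl A B).lTensor p.asIdeal.ResidueField) := by
    refine Groth.Agent.Lib.FibreProd.lTensor_injective_of_exact_flat (incl A B)
      ((Ideal.Quotient.mkₐ A (nilradical B)).toLinearMap) ?_ ?_ ?_ _
    · exact Subtype.val_injective
    · intro x
      constructor
      · intro hx
        have : x ∈ nilradical B := Ideal.Quotient.eq_zero_iff_mem.mp hx
        exact ⟨⟨x, this⟩, rfl⟩
      · rintro ⟨y, rfl⟩
        exact Ideal.Quotient.eq_zero_iff_mem.mpr y.2
    · exact Ideal.Quotient.mk_surjective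
  refine ⟨fun x y => hinj ?_⟩
  have hx := (isNilpotent_lTensor_incl A B p.asIdeal.ResidueField x).eq_zero
  have hy := (isNilpotent_lTensor_incl A B p.asIdeal.ResidueField y).eq_zero
  rw [hx, hy]

theorem subsingleton_residue_nilradical
    (q : PrimeSpectrum B)
    (h : Subsingleton ((q.asIdeal.comap (algebraMap A B)).ResidueField ⊗[A] ↥(nilradical B))) :
    Subsingleton (q.asIdeal.ResidueField ⊗[B] ↥(nilradical B)) := by
  let ι : (q.asIdeal.comap (algebraMap A B)).ResidueField →ₐ[A] q.asIdeal.ResidueField :=
    Ideal.ResidueField.mapₐ (q.asIdeal.comap (algebraMap A B)) q.asIdeal (Algebra.ofId A B) rfl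
  letI : Algebra (q.asIdeal.comap (algebraMap A B)).ResidueField q.asIdeal.ResidueField :=
    ι.toRingHom.toAlgebra
  haveI : IsScalarTower A (q.asIdeal.comap (algebraMap A B)).ResidueField q.asIdeal.ResidueField :=
    IsScalarTower.of_algebraMap_eq fun x => (ι.commutes x).symm
  -- κ(q) ⊗[A] N is a subsingleton
  have e := TensorProduct.AlgebraTensorModule.cancelBaseChange A
    (q.asIdeal.comap (algebraMap A B)).ResidueField q.asIdeal.ResidueField
    q.asIdeal.ResidueField ↥(nilradical B)
  haveI : Subsingleton (q.asIdeal.ResidueField ⊗[(q.asIdeal.comap (algebraMap A B)).ResidueField]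
      ((q.asIdeal.comap (algebraMap A B)).ResidueField ⊗[A] ↥(nilradical B))) :=
    inferInstance
  haveI h2 : Subsingleton (q.asIdeal.ResidueField ⊗[A] ↥(nilradical B)) :=
    e.symm.toEquiv.subsingleton
  exact (TensorProduct.mapOfCompatibleSMul_surjective B A A q.asIdeal.ResidueField
    ↥(nilradical B)).subsingleton

theorem isReduced_of_fibres [IsNoetherianRing B] [Module.Flat A (B ⧸ nilradical B)]
    (hfib : ∀ p : PrimeSpectrum A, IsReduced (p.asIdeal.ResidueField ⊗[A] B)) :
    IsReduced B := by
  rw [← nilradical_eq_bot_iff]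
  haveI : Module.Finite B ↥(nilradical B) :=
    Module.Finite.of_fg (IsNoetherian.noetherian (nilradical B))
  have hsupp : Module.support B ↥(nilradical B) = ∅ := by
    rw [Set.eq_empty_iff_forall_notMem]
    intro q hq
    rw [Module.mem_support_iff_nontrivial_residueField_tensorProduct] at hq
    have h1 := subsingleton_fibre_nilradical A B (q.comap (algebraMap A B))
      (hfib (q.comap (algebraMap A B)))
    have h2 := subsingleton_residue_nilradical A B q h1
    exact not_subsingleton _ h2
  rw [Module.support_eq_empty_iff] at hsupp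
  exact (Submodule.subsingleton_iff_eq_bot).mp hsupp

end RedFibH8
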