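import Mathlib
import Groth.Prelude.Def_Grpd
import Groth.Agent.Lib.SchImGrpd_helper4
set_option autoImplicit false
set_option linter.style.haveILetI false

universe u

open CategoryTheory CategoryTheory.Limits AlgebraicGeometry Grpd
open Groth.Agent.Lib.GrpdCalc

namespace Groth.Agent.Lib.SubGrpdH4

variable {S : Scheme.{u}}

section sub

variable (G : GroupoidScheme S) {Z : Scheme.{u}} (ι : Z ⟶ G.R) [Mono ι]
  (e' : G.U ⟶ Z) (he' : e' ≫ ι = G.e)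
  (i' : Z ⟶ Z) (hi' : i' ≫ ι = ι ≫ G.i)
  (c' : pullback (ι ≫ G.s) (ι ≫ G.t) ⟶ Z)
  (hc' : ∀ {T : Scheme.{u}} (α β : T ⟶ Z) (h : α ≫ ι ≫ G.s = β ≫ ι ≫ G.t)
    (h' : (α ≫ ι) ≫ G.s = (β ≫ ι) ≫ G.t),
    (pullback.lift α β h ≫ c') ≫ ι = comp G (α ≫ ι) (β ≫ ι) h')

/-- A sub-groupoid: a monomorphism `ι : Z ⟶ R` through which identity, inverse and composition
restrict. -/
noncomputable def subGroupoid : GroupoidScheme S where
  U := G.U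
  R := Z
  pU := G.pU
  pR := ι ≫ G.pR
  s := ι ≫ G.s
  t := ι ≫ G.t
  e := e'
  i := i'
  c := c'
  s_over := by rw [Category.assoc, G.s_over]
  t_over := by rw [Category.assoc, G.t_over]
  comp_s := fun α β h => by
    have h' : (α ≫ ι) ≫ G.s = (β ≫ ι) ≫ G.t := by simpa only [Category.assoc] using h
    rw [← Category.assoc, hc' α β h h', comp_s', Category.assoc]
  comp_t := fun α β h => by
    have h' : (α ≫ ι) ≫ G.s = (β ≫ ι) ≫ G.t := by simpa only [Category.assoc] using h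
    rw [← Category.assoc, hc' α β h h', comp_t', Category.assoc]
  assoc := fun α β γ h₁ h₂ => by
    have h₁' : (α ≫ ι) ≫ G.s = (β ≫ ι) ≫ G.t := by simpa only [Category.assoc] using h₁
    have h₂' : (β ≫ ι) ≫ G.s = (γ ≫ ι) ≫ G.t := by simpa only [Category.assoc] using h₂
    rw [← cancel_mono ι]
    have e1 := hc' α β h₁ h₁'
    have e2 := hc' β γ h₂ h₂'
    have h3 : ((pullback.lift α β h₁ ≫ c') ≫ ι) ≫ G.s = (γ ≫ ι) ≫ G.t := by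
      rw [e1, comp_s']; exact h₂'
    have h4 : (α ≫ ι) ≫ G.s = ((pullback.lift β γ h₂ ≫ c') ≫ ι) ≫ G.t := by
      rw [e2, comp_t']; exact h₁'
    rw [hc' _ γ _ h3, hc' α _ _ h4]
    have h3' : comp G (α ≫ ι) (β ≫ ι) h₁' ≫ G.s = (γ ≫ ι) ≫ G.t := by
      rw [comp_s']; exact h₂'
    have h4' : (α ≫ ι) ≫ G.s = comp G (β ≫ ι) (γ ≫ ι) h₂' ≫ G.t := by
      rw [comp_t']; exact h₁'
    rw [comp_congr G e1 rfl h3 h3', comp_congr G rfl e2 h4 h4']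
    exact comp_assoc G _ _ _ h₁' h₂' h3' h4'
  e_s := by rw [← Category.assoc, he', G.e_s]
  e_t := by rw [← Category.assoc, he', G.e_t]
  comp_e := fun α => by
    rw [← cancel_mono ι]
    have h' : (α ≫ ι) ≫ G.s = ((α ≫ (ι ≫ G.s) ≫ e') ≫ ι) ≫ G.t := by
      simp only [Category.assoc, reassoc_of% he', G.e_t, Category.comp_id]
    rw [hc' α _ _ h']
    have h'' : (α ≫ ι) ≫ G.s = ((α ≫ ι) ≫ G.s ≫ G.e) ≫ G.t := by
      simp only [Category.assoc, G.e_t, Category.comp_id]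
    rw [comp_congr G rfl (show (α ≫ (ι ≫ G.s) ≫ e') ≫ ι = (α ≫ ι) ≫ G.s ≫ G.e by
      simp only [Category.assoc, he']) h' h'']
    exact comp_e' G _ h''
  e_comp := fun α => by
    rw [← cancel_mono ι]
    have h' : ((α ≫ (ι ≫ G.t) ≫ e') ≫ ι) ≫ G.s = (α ≫ ι) ≫ G.t := by
      simp only [Category.assoc, reassoc_of% he', G.e_s, Category.comp_id]
    rw [hc' _ α _ h']
    have h'' : ((α ≫ ι) ≫ G.t ≫ G.e) ≫ G.s = (α ≫ ι) ≫ G.t := by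
      simp only [Category.assoc, G.e_s, Category.comp_id]
    rw [comp_congr G (show (α ≫ (ι ≫ G.t) ≫ e') ≫ ι = (α ≫ ι) ≫ G.t ≫ G.e by
      simp only [Category.assoc, he']) rfl h' h'']
    exact e_comp' G _ h''
  i_s := by rw [← Category.assoc, hi', Category.assoc, G.i_s]
  i_t := by rw [← Category.assoc, hi', Category.assoc, G.i_t]
  comp_i := fun α => by
    rw [← cancel_mono ι]
    have h' : (α ≫ ι) ≫ G.s = ((α ≫ i') ≫ ι) ≫ G.t := by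
      simp only [Category.assoc, reassoc_of% hi', G.i_t]
    rw [hc' α _ _ h']
    have h'' : (α ≫ ι) ≫ G.s = ((α ≫ ι) ≫ G.i) ≫ G.t := by
      simp only [Category.assoc, G.i_t]
    rw [comp_congr G rfl (show (α ≫ i') ≫ ι = (α ≫ ι) ≫ G.i by
      simp only [Category.assoc, hi']) h' h'', comp_i' G _ h'']
    simp only [Category.assoc, he']
  i_comp := fun α => by
    rw [← cancel_mono ι]
    have h' : ((α ≫ i') ≫ ι) ≫ G.s = (α ≫ ι) ≫ G.t := by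
      simp only [Category.assoc, reassoc_of% hi', G.i_s]
    rw [hc' _ α _ h']
    have h'' : ((α ≫ ι) ≫ G.i) ≫ G.s = (α ≫ ι) ≫ G.t := by
      simp only [Category.assoc, G.i_s]
    rw [comp_congr G (show (α ≫ i') ≫ ι = (α ≫ ι) ≫ G.i by
      simp only [Category.assoc, hi']) rfl h' h'', i_comp' G _ h'']
    simp only [Category.assoc, he']

/-- the inclusion of a sub-groupoid -/
noncomputable def subHom : GroupoidScheme.Hom (subGroupoid G ι e' he' i' hi' c' hc') G where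
  fU := 𝟙 G.U
  fR := ι
  fU_over := Category.id_comp _
  comm_s := (Category.comp_id _).symm
  comm_t := (Category.comp_id _).symm
  comm_c := fun α β h => hc' α β h _

end sub

theorem main_abstract' (G₁ G₂ : GroupoidScheme S) (f : GroupoidScheme.Hom G₁ G₂) [IsIso f.fU]
    {Z : Scheme.{u}} (ι : Z ⟶ G₂.R) (π : G₁.R ⟶ Z) (hπι : π ≫ ι = f.fR)
    [IsClosedImmersion ι] [QuasiCompact π] [IsSchemeTheoreticallyDominant π]
    [Flat (f.fR ≫ G₂.t)] [Flat (ι ≫ G₂.s)] :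
    ∃ (G' : GroupoidScheme S) (ψ : GroupoidScheme.Hom G' G₂), IsIso ψ.fU ∧
      IsClosedImmersion ψ.fR ∧ ψ.fR.ker = f.fR.ker := by
  haveI : Mono ι := inferInstance
  have hkerι : ι.ker = f.fR.ker := by
    rw [← hπι, Scheme.Hom.ker_comp, Scheme.Hom.ker_eq_bot π, Scheme.IdealSheafData.map_bot]
  have he' : (inv f.fU ≫ G₁.e ≫ π) ≫ ι = G₂.e := by
    rw [Category.assoc, Category.assoc, hπι, Groth.Agent.Lib.GrpdClosedH4.hom_e f,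
      IsIso.inv_hom_id_assoc]
  have hker_i : ι.ker ≤ (ι ≫ G₂.i).ker := by
    calc ι.ker = f.fR.ker := hkerι
      _ ≤ (G₁.i ≫ f.fR).ker := Scheme.Hom.le_ker_comp _ _
      _ = (π ≫ ι ≫ G₂.i).ker := by
          rw [Groth.Agent.Lib.GrpdClosedH4.hom_i f, ← hπι, Category.assoc]
      _ = _ := by
          rw [Scheme.Hom.ker_comp, Scheme.Hom.ker_eq_bot π, Scheme.IdealSheafData.map_bot]
  obtain ⟨i', hi'⟩ : ∃ i' : Z ⟶ Z, i' ≫ ι = ι ≫ G₂.i :=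
    ⟨IsClosedImmersion.lift ι _ hker_i, IsClosedImmersion.lift_fac _ _ _⟩
  have hπs : π ≫ ι ≫ G₂.s = f.fR ≫ G₂.s := by rw [reassoc_of% hπι]
  have hπt : π ≫ ι ≫ G₂.t = f.fR ≫ G₂.t := by rw [reassoc_of% hπι]
  obtain ⟨ρ, hρd, hρfst, hρsnd⟩ := Groth.Agent.Lib.SchImGrpdH4.exists_rho π
    (f.fR ≫ G₂.s) (f.fR ≫ G₂.t) (ι ≫ G₂.s) (ι ≫ G₂.t) hπs hπt
  haveI := hρd
  have hm : (pullback.fst (ι ≫ G₂.s) (ι ≫ G₂.t) ≫ ι) ≫ G₂.s =
      (pullback.snd (ι ≫ G₂.s) (ι ≫ G₂.t) ≫ ι) ≫ G₂.t := by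
    simp only [Category.assoc]
    exact pullback.condition
  have hμ : pullback.fst (f.fR ≫ G₂.s) (f.fR ≫ G₂.t) ≫ G₁.s =
      pullback.snd (f.fR ≫ G₂.s) (f.fR ≫ G₂.t) ≫ G₁.t := by
    rw [← cancel_mono f.fU, Category.assoc, Category.assoc, ← f.comm_s, ← f.comm_t]
    exact pullback.condition
  have ea : ρ ≫ pullback.fst (ι ≫ G₂.s) (ι ≫ G₂.t) ≫ ι =
      pullback.fst (f.fR ≫ G₂.s) (f.fR ≫ G₂.t) ≫ f.fR := by
    rw [reassoc_of% hρfst, hπι]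
  have eb : ρ ≫ pullback.snd (ι ≫ G₂.s) (ι ≫ G₂.t) ≫ ι =
      pullback.snd (f.fR ≫ G₂.s) (f.fR ≫ G₂.t) ≫ f.fR := by
    rw [reassoc_of% hρsnd, hπι]
  have h₂ : (pullback.fst (f.fR ≫ G₂.s) (f.fR ≫ G₂.t) ≫ f.fR) ≫ G₂.s =
      (pullback.snd (f.fR ≫ G₂.s) (f.fR ≫ G₂.t) ≫ f.fR) ≫ G₂.t := by
    simp only [Category.assoc]
    exact pullback.condition
  have h₁ : (ρ ≫ pullback.fst (ι ≫ G₂.s) (ι ≫ G₂.t) ≫ ι) ≫ G₂.s =
      (ρ ≫ pullback.snd (ι ≫ G₂.s) (ι ≫ G₂.t) ≫ ι) ≫ G₂.t := by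
    rw [ea, eb]
    exact h₂
  have hkey : ρ ≫ comp G₂ (pullback.fst (ι ≫ G₂.s) (ι ≫ G₂.t) ≫ ι)
      (pullback.snd (ι ≫ G₂.s) (ι ≫ G₂.t) ≫ ι) hm =
      comp G₁ (pullback.fst (f.fR ≫ G₂.s) (f.fR ≫ G₂.t))
        (pullback.snd (f.fR ≫ G₂.s) (f.fR ≫ G₂.t)) hμ ≫ f.fR :=
    (precomp_comp G₂ ρ _ _ hm h₁).trans ((comp_congr G₂ ea eb h₁ h₂).trans
      (Groth.Agent.Lib.GrpdClosedH4.hom_comp f _ _ hμ h₂).symm)
  have hker_c : ι.ker ≤ (comp G₂ (pullback.fst (ι ≫ G₂.s) (ι ≫ G₂.t) ≫ ι)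
      (pullback.snd (ι ≫ G₂.s) (ι ≫ G₂.t) ≫ ι) hm).ker := by
    calc ι.ker = f.fR.ker := hkerι
      _ ≤ (comp G₁ (pullback.fst (f.fR ≫ G₂.s) (f.fR ≫ G₂.t))
            (pullback.snd (f.fR ≫ G₂.s) (f.fR ≫ G₂.t)) hμ ≫ f.fR).ker :=
          Scheme.Hom.le_ker_comp _ _
      _ = (ρ ≫ comp G₂ (pullback.fst (ι ≫ G₂.s) (ι ≫ G₂.t) ≫ ι)
            (pullback.snd (ι ≫ G₂.s) (ι ≫ G₂.t) ≫ ι) hm).ker := by rw [hkey]
      _ = _ := by
          rw [Scheme.Hom.ker_comp, Scheme.Hom.ker_eq_bot ρ, Scheme.IdealSheafData.map_bot]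
  obtain ⟨c', hc'⟩ : ∃ c' : pullback (ι ≫ G₂.s) (ι ≫ G₂.t) ⟶ Z,
      c' ≫ ι = comp G₂ (pullback.fst (ι ≫ G₂.s) (ι ≫ G₂.t) ≫ ι)
        (pullback.snd (ι ≫ G₂.s) (ι ≫ G₂.t) ≫ ι) hm :=
    ⟨IsClosedImmersion.lift ι _ hker_c, IsClosedImmersion.lift_fac _ _ _⟩
  have hc'' : ∀ {T : Scheme.{u}} (α β : T ⟶ Z) (h : α ≫ ι ≫ G₂.s = β ≫ ι ≫ G₂.t)
      (h' : (α ≫ ι) ≫ G₂.s = (β ≫ ι) ≫ G₂.t),
      (pullback.lift α β h ≫ c') ≫ ι = comp G₂ (α ≫ ι) (β ≫ ι) h' := by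
    intro T α β h h'
    have ea' : pullback.lift α β h ≫ pullback.fst (ι ≫ G₂.s) (ι ≫ G₂.t) ≫ ι = α ≫ ι := by
      rw [pullback.lift_fst_assoc]
    have eb' : pullback.lift α β h ≫ pullback.snd (ι ≫ G₂.s) (ι ≫ G₂.t) ≫ ι = β ≫ ι := by
      rw [pullback.lift_snd_assoc]
    have h₁' : (pullback.lift α β h ≫ pullback.fst (ι ≫ G₂.s) (ι ≫ G₂.t) ≫ ι) ≫ G₂.s =
        (pullback.lift α β h ≫ pullback.snd (ι ≫ G₂.s) (ι ≫ G₂.t) ≫ ι) ≫ G₂.t := by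
      rw [ea', eb']
      exact h'
    rw [Category.assoc, hc']
    exact (precomp_comp G₂ _ _ _ hm h₁').trans (comp_congr G₂ ea' eb' h₁' h')
  refine ⟨subGroupoid G₂ ι _ he' i' hi' c' hc'', subHom G₂ ι _ he' i' hi' c' hc'', ?_, ?_, ?_⟩
  · show IsIso (𝟙 G₂.U)
    infer_instance
  · show IsClosedImmersion ι
    infer_instance
  · exact hkerι

theorem main7492 (S : Scheme.{u}) (G₁ G₂ : GroupoidScheme S) (f : GroupoidScheme.Hom G₁ G₂)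
    [IsIso f.fU] [QuasiCompact f.fR] (k : Type u) [Field k]
    (eU : G₂.U ≅ Spec (CommRingCat.of k)) :
    ∃ (G' : GroupoidScheme S) (ψ : GroupoidScheme.Hom G' G₂), IsIso ψ.fU ∧
      IsClosedImmersion ψ.fR ∧ ψ.fR.ker = f.fR.ker := by
  obtain ⟨hint, hsub⟩ := Groth.Agent.Lib.GrpdClosedH4.instances_of_iso k eU
  haveI := hint
  haveI := hsub
  haveI : IsSchemeTheoreticallyDominant f.fR.toImage :=
    ⟨_root_.SchImGrpH4.ker_toImage_eq_bot f.fR⟩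
  exact main_abstract' G₁ G₂ f f.fR.imageι f.fR.toImage f.fR.toImage_imageι

end Groth.Agent.Lib.SubGrpdH4
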