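import Mathlib
import Groth.Prelude.Def_Grpd
import Groth.Agent.Lib.SubGrpd_helper4
import Groth.Agent.Lib.GrpdClosed_helper4
import Groth.Agent.Lib.ProperOver_helper9
import Groth.Agent.Lib.SchImage_helper9
import Groth.Agent.Lib.PerfectRed_lead

/-!
# Reduced sub-groupoids on closures over a perfect field (S7491, S7503)

* `isReduced_pullback_of_perfect`: a fibre product of reduced schemes over the spectrum of a
  perfect field is reduced.
* `exists_red`: the reduced induced closed subscheme on a closed subset, packaged with its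
  lifting property for morphisms from reduced schemes.
* `main7491`, `main7503`.
-/

set_option autoImplicit false
set_option linter.unusedVariables false
set_option linter.unusedTactic false
set_option linter.unreachableTactic false
set_option linter.unusedSectionVars false
set_option linter.style.haveILetI false
set_option linter.deprecated false
set_option maxHeartbeats 1600000

universe u

open CategoryTheory CategoryTheory.Limits AlgebraicGeometry Grpd TopologicalSpace
open scoped TensorProduct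
open Groth.Agent.Lib.GrpdCalc ProperOver

namespace Groth.Agent.Lib.RedGrpdH4

set_option backward.isDefEq.respectTransparency false in
set_option backward.isDefEq.respectTransparency.types false in
/-- The reduced induced structure is reduced. -/
theorem isReduced_red {X : Scheme.{u}} (Z : Set X) (hZ : IsClosed Z) : IsReduced (red Z hZ) := by
  apply +allowSynthFailures @IsReduced.of_openCover
    (𝒰 := (Scheme.IdealSheafData.vanishingIdeal ⟨Z, hZ⟩).subschemeCover.openCover)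
  intro U
  show IsReduced (Spec (.of (Γ(X, U.1) ⧸ (Scheme.IdealSheafData.vanishingIdeal ⟨Z, hZ⟩).ideal U)))
  rw [affine_isReduced_iff]
  show _root_.IsReduced (Γ(X, U.1) ⧸ (Scheme.IdealSheafData.vanishingIdeal ⟨Z, hZ⟩).ideal U)
  rw [← Ideal.isRadical_iff_quotient_reduced, Scheme.IdealSheafData.vanishingIdeal_ideal]
  exact PrimeSpectrum.isRadical_vanishingIdeal _

/-- Lifting a morphism from a reduced scheme through the reduced induced structure. -/
theorem exists_lift_of_reduced {T X : Scheme.{u}} [IsReduced T] (g : T ⟶ X) {C : Set X}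
    (hC : IsClosed C) (h : Set.range g ⊆ C) :
    ∃ g' : T ⟶ red C hC, g' ≫ redι C hC = g := by
  have hle : (redι C hC).ker ≤ g.ker := by
    rw [Scheme.IdealSheafData.ker_subschemeι,
      Groth.Agent.Lib.SchImage_helper9.ker_eq_vanishingIdeal g]
    apply Scheme.IdealSheafData.vanishingIdeal_antimono
    intro z hz
    exact (hC.closure_subset_iff.mpr h) hz
  exact ⟨IsClosedImmersion.lift (redι C hC) g hle, IsClosedImmersion.lift_fac _ _ _⟩

/-- The reduced induced closed subscheme, packaged abstractly. -/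
theorem exists_red {X : Scheme.{u}} (W : Set X) (hW : IsClosed W) :
    ∃ (Z : Scheme.{u}) (ι : Z ⟶ X), IsClosedImmersion ι ∧ IsReduced Z ∧ Set.range ι = W ∧
      ∀ (T : Scheme.{u}) [IsReduced T] (g : T ⟶ X), Set.range g ⊆ W →
        ∃ g' : T ⟶ Z, g' ≫ ι = g :=
  ⟨red W hW, redι W hW, inferInstance, isReduced_red W hW, range_redι W hW,
    fun T _ g hg => exists_lift_of_reduced g hW hg⟩

/-- Affine case of `isReduced_pullback_of_perfect`. -/
theorem isReduced_pullback_affine (k : Type u) [Field k] [PerfectField k] {X Y U : Scheme.{u}}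
    [IsAffine X] [IsAffine Y] (eU : U ≅ Spec (CommRingCat.of k)) (f : X ⟶ U) (g : Y ⟶ U)
    [IsReduced X] [IsReduced Y] : IsReduced (pullback f g) := by
  obtain ⟨φ, hφ⟩ : ∃ φ : CommRingCat.of k ⟶ Γ(X, ⊤),
      Spec.map φ = X.isoSpec.inv ≫ f ≫ eU.hom := ⟨Spec.preimage _, Spec.map_preimage _⟩
  obtain ⟨ψ, hψ⟩ : ∃ ψ : CommRingCat.of k ⟶ Γ(Y, ⊤),
      Spec.map ψ = Y.isoSpec.inv ≫ g ≫ eU.hom := ⟨Spec.preimage _, Spec.map_preimage _⟩
  letI : Algebra k Γ(X, ⊤) := φ.hom.toAlgebra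
  letI : Algebra k Γ(Y, ⊤) := ψ.hom.toAlgebra
  have ha : Spec.map (CommRingCat.ofHom (algebraMap k Γ(X, ⊤))) =
      X.isoSpec.inv ≫ f ≫ eU.hom := hφ
  have hb : Spec.map (CommRingCat.ofHom (algebraMap k Γ(Y, ⊤))) =
      Y.isoSpec.inv ≫ g ≫ eU.hom := hψ
  let e1 : pullback f g ≅
      pullback (Spec.map (CommRingCat.ofHom (algebraMap k Γ(X, ⊤))))
        (Spec.map (CommRingCat.ofHom (algebraMap k Γ(Y, ⊤)))) :=
    asIso (pullback.map f g
      (Spec.map (CommRingCat.ofHom (algebraMap k Γ(X, ⊤))))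
      (Spec.map (CommRingCat.ofHom (algebraMap k Γ(Y, ⊤))))
      X.isoSpec.hom Y.isoSpec.hom eU.hom
      (by rw [ha, Iso.hom_inv_id_assoc])
      (by rw [hb, Iso.hom_inv_id_assoc]))
  haveI : _root_.IsReduced Γ(X, ⊤) := inferInstance
  haveI : _root_.IsReduced Γ(Y, ⊤) := inferInstance
  haveI : _root_.IsReduced (Γ(X, ⊤) ⊗[k] Γ(Y, ⊤)) :=
    Groth.Agent.Lib.PerfectRed.isReduced_tensor_of_perfectField k Γ(X, ⊤) Γ(Y, ⊤)
  haveI : IsReduced (Spec (CommRingCat.of (Γ(X, ⊤) ⊗[k] Γ(Y, ⊤)))) := inferInstance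
  exact isReduced_of_isOpenImmersion (e1 ≪≫ pullbackSpecIso k Γ(X, ⊤) Γ(Y, ⊤)).hom

/-- A fibre product of reduced schemes over the spectrum of a perfect field is reduced. -/
theorem isReduced_pullback_of_perfect (k : Type u) [Field k] [PerfectField k]
    {X Y U : Scheme.{u}} (eU : U ≅ Spec (CommRingCat.of k)) (f : X ⟶ U) (g : Y ⟶ U)
    [IsReduced X] [IsReduced Y] : IsReduced (pullback f g) := by
  haveI : ∀ ij, IsReduced
      ((Scheme.Pullback.openCoverOfLeftRight X.affineCover Y.affineCover f g).X ij) := by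
    rintro ⟨i, j⟩
    show IsReduced (pullback (X.affineCover.f i ≫ f) (Y.affineCover.f j ≫ g))
    haveI : IsReduced (X.affineCover.X i) := isReduced_of_isOpenImmersion (X.affineCover.f i)
    haveI : IsReduced (Y.affineCover.X j) := isReduced_of_isOpenImmersion (Y.affineCover.f j)
    exact isReduced_pullback_affine k eU _ _
  exact IsReduced.of_openCover _
    (Scheme.Pullback.openCoverOfLeftRight X.affineCover Y.affineCover f g)

variable {S : Scheme.{u}}

/-- **S7491**: over a perfect field, the reduced closed subscheme on the closure of the image of a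
morphism of groupoids is a sub-groupoid. -/
theorem main7491 (S : Scheme.{u}) (G₁ G₂ : GroupoidScheme S) (f : GroupoidScheme.Hom G₁ G₂)
    [IsIso f.fU] (k : Type u) [Field k] [PerfectField k]
    (eU : G₂.U ≅ Spec (CommRingCat.of k)) :
    ∃ (G' : GroupoidScheme S) (ψ : GroupoidScheme.Hom G' G₂), IsIso ψ.fU ∧
      IsClosedImmersion ψ.fR ∧ IsReduced G'.R ∧
      Set.range ⇑ψ.fR = closure (Set.range ⇑f.fR) := by
  obtain ⟨hint, hsub⟩ := Groth.Agent.Lib.GrpdClosedH4.instances_of_iso k eU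
  haveI := hint
  haveI := hsub
  obtain ⟨Z, ι, hιci, hZred, hιrange, hlift⟩ :=
    exists_red (closure (Set.range f.fR)) isClosed_closure
  haveI := hιci
  haveI := hZred
  haveI : Mono ι := inferInstance
  have hmem : ∀ z : Z, ι z ∈ closure (Set.range f.fR) := fun z => by
    rw [← hιrange]; exact ⟨z, rfl⟩
  -- identity
  obtain ⟨e', he'⟩ := hlift G₂.U G₂.e (by
    rintro _ ⟨u, rfl⟩
    exact subset_closure (Groth.Agent.Lib.GrpdClosedH4.e_mem_range f u))
  -- inverse
  obtain ⟨i', hi'⟩ := hlift Z (ι ≫ G₂.i) (by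
    rintro _ ⟨z, rfl⟩
    rw [Scheme.Hom.comp_apply]
    exact map_mem_closure G₂.i.continuous (hmem z)
      (fun x hx => Groth.Agent.Lib.GrpdClosedH4.inv_mem_range f x hx))
  -- composition
  have hm : (pullback.fst (ι ≫ G₂.s) (ι ≫ G₂.t) ≫ ι) ≫ G₂.s =
      (pullback.snd (ι ≫ G₂.s) (ι ≫ G₂.t) ≫ ι) ≫ G₂.t := by
    simp only [Category.assoc]
    exact pullback.condition
  haveI : IsReduced (pullback (ι ≫ G₂.s) (ι ≫ G₂.t)) :=
    isReduced_pullback_of_perfect k eU (ι ≫ G₂.s) (ι ≫ G₂.t)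
  have hrange_c : Set.range (comp G₂ (pullback.fst (ι ≫ G₂.s) (ι ≫ G₂.t) ≫ ι)
      (pullback.snd (ι ≫ G₂.s) (ι ≫ G₂.t) ≫ ι) hm) ⊆ closure (Set.range f.fR) := by
    rintro _ ⟨p, rfl⟩
    show (pullback.lift (pullback.fst (ι ≫ G₂.s) (ι ≫ G₂.t) ≫ ι)
      (pullback.snd (ι ≫ G₂.s) (ι ≫ G₂.t) ≫ ι) hm ≫ G₂.c) p ∈ closure (Set.range f.fR)
    rw [Scheme.Hom.comp_apply]
    refine Groth.Agent.Lib.GrpdClosedH4.c_mem_closure f _ ?_ ?_
    · rw [← Scheme.Hom.comp_apply, pullback.lift_fst, Scheme.Hom.comp_apply]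
      exact hmem _
    · rw [← Scheme.Hom.comp_apply, pullback.lift_snd, Scheme.Hom.comp_apply]
      exact hmem _
  obtain ⟨c', hc'⟩ := hlift (pullback (ι ≫ G₂.s) (ι ≫ G₂.t)) _ hrange_c
  have hc'' : ∀ {T : Scheme.{u}} (α β : T ⟶ Z) (h : α ≫ ι ≫ G₂.s = β ≫ ι ≫ G₂.t)
      (h' : (α ≫ ι) ≫ G₂.s = (β ≫ ι) ≫ G₂.t),
      (pullback.lift α β h ≫ c') ≫ ι = comp G₂ (α ≫ ι) (β ≫ ι) h' := by
    intro T α β h h'
    have ea' : pullback.lift α β h ≫ pullback.fst (ι ≫ G₂.s) (ι ≫ G₂.t) ≫ ι = α ≫ ι := by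
      rw [pullback.lift_fst_assoc]
    have eb' : pullback.lift α β h ≫ pullback.snd (ι ≫ G₂.s) (ι ≫ G₂.t) ≫ ι = β ≫ ι := by
      rw [pullback.lift_snd_assoc]
    have h₁' : (pullback.lift α β h ≫ pullback.fst (ι ≫ G₂.s) (ι ≫ G₂.t) ≫ ι) ≫ G₂.s =
        (pullback.lift α β h ≫ pullback.snd (ι ≫ G₂.s) (ι ≫ G₂.t) ≫ ι) ≫ G₂.t := by
      rw [ea', eb']
      exact h'
    rw [Category.assoc, hc']
    exact (precomp_comp G₂ _ _ _ hm h₁').trans (comp_congr G₂ ea' eb' h₁' h')
  refine ⟨Groth.Agent.Lib.SubGrpdH4.subGroupoid G₂ ι e' he' i' hi' c' hc'',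
    Groth.Agent.Lib.SubGrpdH4.subHom G₂ ι e' he' i' hi' c' hc'', ?_, ?_, ?_, ?_⟩
  · show IsIso (𝟙 G₂.U)
    infer_instance
  · show IsClosedImmersion ι
    exact hιci
  · show IsReduced Z
    exact hZred
  · show Set.range ι = closure (Set.range f.fR)
    exact hιrange

section pr02

variable (G : GroupoidScheme S)

theorem pr_cond :
    (pullback.fst (pullback.snd G.pU G.pU) (pullback.fst G.pU G.pU) ≫
        pullback.fst G.pU G.pU) ≫ G.pU =
      (pullback.snd (pullback.snd G.pU G.pU) (pullback.fst G.pU G.pU) ≫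
        pullback.snd G.pU G.pU) ≫ G.pU := by
  have c1 : pullback.fst G.pU G.pU ≫ G.pU = pullback.snd G.pU G.pU ≫ G.pU := pullback.condition
  have c2 : pullback.fst (pullback.snd G.pU G.pU) (pullback.fst G.pU G.pU) ≫
      pullback.snd G.pU G.pU =
      pullback.snd (pullback.snd G.pU G.pU) (pullback.fst G.pU G.pU) ≫
        pullback.fst G.pU G.pU := pullback.condition
  rw [Category.assoc, c1, ← Category.assoc, c2, Category.assoc, c1, ← Category.assoc]

/-- the "composition" `(t, s) ∘ (t, s) ↦ (t, s)` on the reduced closure of the image of `j`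
lands in that closure. -/
theorem range_m_subset (k : Type u) [Field k] (eU : G.U ≅ Spec (CommRingCat.of k))
    {Z : Scheme.{u}} (ι : Z ⟶ pullback G.pU G.pU) (s' t' : Z ⟶ G.U)
    (hs' : ι ≫ pullback.snd G.pU G.pU = s') (ht' : ι ≫ pullback.fst G.pU G.pU = t')
    (hι : ∀ z : Z, ι z ∈ closure (Set.range G.j))
    (hm : (pullback.fst s' t' ≫ t') ≫ G.pU = (pullback.snd s' t' ≫ s') ≫ G.pU) :
    Set.range (pullback.lift (pullback.fst s' t' ≫ t') (pullback.snd s' t' ≫ s') hm) ⊆
      closure (Set.range G.j) := by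
  rintro _ ⟨p, rfl⟩
  have e₁ : s' ≫ 𝟙 G.U = ι ≫ pullback.snd G.pU G.pU := by rw [Category.comp_id, hs']
  have e₂ : t' ≫ 𝟙 G.U = ι ≫ pullback.fst G.pU G.pU := by rw [Category.comp_id, ht']
  obtain ⟨q, hq1, hq2⟩ : ∃ q : pullback s' t' ⟶
      pullback (pullback.snd G.pU G.pU) (pullback.fst G.pU G.pU),
      q ≫ pullback.fst (pullback.snd G.pU G.pU) (pullback.fst G.pU G.pU) =
        pullback.fst s' t' ≫ ι ∧
      q ≫ pullback.snd (pullback.snd G.pU G.pU) (pullback.fst G.pU G.pU) =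
        pullback.snd s' t' ≫ ι :=
    ⟨pullback.map s' t' (pullback.snd G.pU G.pU) (pullback.fst G.pU G.pU) ι ι (𝟙 G.U) e₁ e₂,
      pullback.lift_fst _ _ _, pullback.lift_snd _ _ _⟩
  obtain ⟨pr02, h0, h1⟩ : ∃ pr02 : pullback (pullback.snd G.pU G.pU) (pullback.fst G.pU G.pU) ⟶
      pullback G.pU G.pU,
      pr02 ≫ pullback.fst G.pU G.pU =
        pullback.fst (pullback.snd G.pU G.pU) (pullback.fst G.pU G.pU) ≫
          pullback.fst G.pU G.pU ∧
      pr02 ≫ pullback.snd G.pU G.pU =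
        pullback.snd (pullback.snd G.pU G.pU) (pullback.fst G.pU G.pU) ≫
          pullback.snd G.pU G.pU :=
    ⟨pullback.lift _ _ (pr_cond G), pullback.lift_fst _ _ _, pullback.lift_snd _ _ _⟩
  have hfac : pullback.lift (pullback.fst s' t' ≫ t') (pullback.snd s' t' ≫ s') hm =
      q ≫ pr02 := by
    apply pullback.hom_ext
    · rw [pullback.lift_fst, Category.assoc, h0, ← Category.assoc, hq1, Category.assoc, ht']
    · rw [pullback.lift_snd, Category.assoc, h1, ← Category.assoc, hq2, Category.assoc, hs']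
  rw [hfac, Scheme.Hom.comp_apply]
  refine Groth.Agent.Lib.GrpdClosedH4.main7463 S G k eU pr02 h0 h1 (q p) ?_ ?_
  · rw [← Scheme.Hom.comp_apply, hq1, Scheme.Hom.comp_apply]
    exact hι _
  · rw [← Scheme.Hom.comp_apply, hq2, Scheme.Hom.comp_apply]
    exact hι _

end pr02

/-- **S7503**: over a perfect field, the reduced closed subscheme of `U ×_S U` on the closure of
the image of `j = (t, s)` is an equivalence relation (a groupoid). -/
theorem main7503 (S : Scheme.{u}) (G : GroupoidScheme S) (k : Type u) [Field k] [PerfectField k]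
    (eU : G.U ≅ Spec (CommRingCat.of k)) :
    ∃ (G' : GroupoidScheme S) (ψ : G'.U ≅ G.U) (hψ : ψ.hom ≫ G.pU = G'.pU),
      IsReduced G'.R ∧ IsClosedImmersion G'.j ∧
      Set.range ⇑(G'.j ≫ pullback.map G'.pU G'.pU G.pU G.pU ψ.hom ψ.hom (𝟙 S)
        ((Category.comp_id _).trans hψ.symm) ((Category.comp_id _).trans hψ.symm)) =
        closure (Set.range ⇑G.j) := by
  obtain ⟨hint, hsub⟩ := Groth.Agent.Lib.GrpdClosedH4.instances_of_iso k eU
  haveI := hint
  haveI := hsub
  obtain ⟨Z, ι, hιci, hZred, hιrange, hlift⟩ :=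
    exists_red (closure (Set.range G.j)) isClosed_closure
  haveI := hιci
  haveI := hZred
  haveI : Mono ι := inferInstance
  have hjfst : G.j ≫ pullback.fst G.pU G.pU = G.t := pullback.lift_fst _ _ _
  have hjsnd : G.j ≫ pullback.snd G.pU G.pU = G.s := pullback.lift_snd _ _ _
  have hmem : ∀ z : Z, ι z ∈ closure (Set.range G.j) := fun z => by
    rw [← hιrange]; exact ⟨z, rfl⟩
  obtain ⟨s', hs'⟩ : ∃ s' : Z ⟶ G.U, ι ≫ pullback.snd G.pU G.pU = s' := ⟨_, rfl⟩
  obtain ⟨t', ht'⟩ : ∃ t' : Z ⟶ G.U, ι ≫ pullback.fst G.pU G.pU = t' := ⟨_, rfl⟩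
  have hover : s' ≫ G.pU = t' ≫ G.pU := by
    rw [← hs', ← ht', Category.assoc, Category.assoc, pullback.condition]
  have hext : ∀ {T : Scheme.{u}} (a b : T ⟶ Z), a ≫ t' = b ≫ t' → a ≫ s' = b ≫ s' → a = b := by
    intro T a b h1 h2
    rw [← cancel_mono ι]
    apply pullback.hom_ext
    · rw [Category.assoc, Category.assoc, ht']
      exact h1
    · rw [Category.assoc, Category.assoc, hs']
      exact h2
  -- identity
  obtain ⟨e', he'⟩ := hlift G.U (G.e ≫ G.j) (by
    rintro _ ⟨u, rfl⟩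
    rw [Scheme.Hom.comp_apply]
    exact subset_closure ⟨_, rfl⟩)
  have he's : e' ≫ s' = 𝟙 G.U := by
    calc e' ≫ s' = (e' ≫ ι) ≫ pullback.snd G.pU G.pU := by rw [← hs', Category.assoc]
      _ = (G.e ≫ G.j) ≫ pullback.snd G.pU G.pU := by rw [he']
      _ = 𝟙 G.U := by rw [Category.assoc, hjsnd, G.e_s]
  have he't : e' ≫ t' = 𝟙 G.U := by
    calc e' ≫ t' = (e' ≫ ι) ≫ pullback.fst G.pU G.pU := by rw [← ht', Category.assoc]
      _ = (G.e ≫ G.j) ≫ pullback.fst G.pU G.pU := by rw [he']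
      _ = 𝟙 G.U := by rw [Category.assoc, hjfst, G.e_t]
  -- inverse
  obtain ⟨sw, hsw1, hsw2⟩ : ∃ sw : pullback G.pU G.pU ⟶ pullback G.pU G.pU,
      sw ≫ pullback.fst G.pU G.pU = pullback.snd G.pU G.pU ∧
      sw ≫ pullback.snd G.pU G.pU = pullback.fst G.pU G.pU :=
    ⟨pullback.lift (pullback.snd G.pU G.pU) (pullback.fst G.pU G.pU) pullback.condition.symm,
      pullback.lift_fst _ _ _, pullback.lift_snd _ _ _⟩
  have hswap : G.i ≫ G.j = G.j ≫ sw := by
    apply pullback.hom_ext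
    · rw [Category.assoc, Category.assoc, hjfst, hsw1, hjsnd, G.i_t]
    · rw [Category.assoc, Category.assoc, hjsnd, hsw2, hjfst, G.i_s]
  obtain ⟨i', hi'⟩ := hlift Z (ι ≫ sw) (by
    rintro _ ⟨z, rfl⟩
    rw [Scheme.Hom.comp_apply]
    refine map_mem_closure sw.continuous (hmem z) ?_
    rintro _ ⟨x, rfl⟩
    refine ⟨G.i x, ?_⟩
    rw [← Scheme.Hom.comp_apply, hswap, Scheme.Hom.comp_apply])
  have hi's : i' ≫ s' = t' := by
    calc i' ≫ s' = (i' ≫ ι) ≫ pullback.snd G.pU G.pU := by rw [← hs', Category.assoc]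
      _ = (ι ≫ sw) ≫ pullback.snd G.pU G.pU := by rw [hi']
      _ = t' := by rw [Category.assoc, hsw2, ht']
  have hi't : i' ≫ t' = s' := by
    calc i' ≫ t' = (i' ≫ ι) ≫ pullback.fst G.pU G.pU := by rw [← ht', Category.assoc]
      _ = (ι ≫ sw) ≫ pullback.fst G.pU G.pU := by rw [hi']
      _ = s' := by rw [Category.assoc, hsw1, hs']
  -- composition
  haveI : IsReduced (pullback s' t') := isReduced_pullback_of_perfect k eU s' t'
  have hcond : pullback.fst s' t' ≫ s' = pullback.snd s' t' ≫ t' := pullback.condition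
  have hm : (pullback.fst s' t' ≫ t') ≫ G.pU = (pullback.snd s' t' ≫ s') ≫ G.pU := by
    rw [Category.assoc, Category.assoc, ← hover, reassoc_of% hcond, hover]
  obtain ⟨c', hc'⟩ := hlift (pullback s' t')
    (pullback.lift (pullback.fst s' t' ≫ t') (pullback.snd s' t' ≫ s') hm)
    (range_m_subset G k eU ι s' t' hs' ht' hmem hm)
  have hc's : c' ≫ s' = pullback.snd s' t' ≫ s' := by
    calc c' ≫ s' = (c' ≫ ι) ≫ pullback.snd G.pU G.pU :=
          (congrArg (fun x => c' ≫ x) hs'.symm).trans (Category.assoc _ _ _).symm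
      _ = pullback.snd s' t' ≫ s' := by rw [hc', pullback.lift_snd]
  have hc't : c' ≫ t' = pullback.fst s' t' ≫ t' := by
    calc c' ≫ t' = (c' ≫ ι) ≫ pullback.fst G.pU G.pU :=
          (congrArg (fun x => c' ≫ x) ht'.symm).trans (Category.assoc _ _ _).symm
      _ = pullback.fst s' t' ≫ t' := by rw [hc', pullback.lift_fst]
  let G' : GroupoidScheme S :=
    Groth.Agent.Lib.SchImGrpdH4.relGroupoid G.pU s' t' hover hext e' he's he't i' hi's hi't
      c' hc's hc't
  have hj' : G'.j = ι := by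
    apply pullback.hom_ext
    · exact (pullback.lift_fst _ _ _).trans ht'.symm
    · exact (pullback.lift_snd _ _ _).trans hs'.symm
  have hmap : ∀ (h1 : G.pU ≫ 𝟙 S = 𝟙 G.U ≫ G.pU) (h2 : G.pU ≫ 𝟙 S = 𝟙 G.U ≫ G.pU),
      pullback.map G.pU G.pU G.pU G.pU (𝟙 G.U) (𝟙 G.U) (𝟙 S) h1 h2 = 𝟙 _ := by
    intro h1 h2
    exact pullback.map_id
  refine ⟨G', Iso.refl G.U, (Category.id_comp G.pU : (Iso.refl G.U).hom ≫ G.pU = G'.pU),
    ?_, ?_, ?_⟩
  · show IsReduced Z
    exact hZred
  · rw [hj']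
    exact hιci
  · have hmap' : pullback.map G'.pU G'.pU G.pU G.pU (Iso.refl G.U).hom (Iso.refl G.U).hom (𝟙 S)
        ((Category.comp_id _).trans
          (Category.id_comp G.pU : (Iso.refl G.U).hom ≫ G.pU = G'.pU).symm)
        ((Category.comp_id _).trans
          (Category.id_comp G.pU : (Iso.refl G.U).hom ≫ G.pU = G'.pU).symm) =
        𝟙 (pullback G.pU G.pU) := hmap _ _
    rw [hmap', hj']
    show Set.range ⇑(ι ≫ 𝟙 (pullback G.pU G.pU)) = closure (Set.range ⇑G.j)
    rw [Category.comp_id]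
    exact hιrange

end Groth.Agent.Lib.RedGrpdH4
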