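import Mathlib
import Groth.Statements.S6084

/-! # The quotient of a group scheme over a field by a subgroup with the same space (lead) -/

set_option backward.isDefEq.respectTransparency false
set_option backward.isDefEq.respectTransparency.types false
set_option linter.unusedSimpArgs false
set_option linter.unusedVariables false
set_option linter.unusedSectionVars false
set_option linter.style.longLine false
set_option linter.style.haveILetI false
set_option maxHeartbeats 800000

universe u

open CategoryTheory CategoryTheory.Limits MonoidalCategory CartesianMonoidalCategory MonObj GrpObj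
  AlgebraicGeometry Opposite Topology

namespace Groth.Agent.Lib.RedQuot

/-- A `k`-algebra `A` with a single prime, a `k`-point, and a flat map to a nonzero Noetherian ring
is finite over `k`. -/
theorem finite_of_flat_cover {k A B : Type u} [Field k] [CommRing A] [CommRing B]
    (φ : k →+* A) (ψ : A →+* B) (ε : A →+* k) (hε : ε.comp φ = RingHom.id k)
    (hψ : ψ.Flat) [Nontrivial B] [IsNoetherianRing B] [Subsingleton (PrimeSpectrum A)] :
    φ.Finite := by
  letI : Algebra k A := φ.toAlgebra
  letI : Algebra A B := ψ.toAlgebra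
  haveI : Module.Flat A B := hψ
  haveI : Nontrivial A := ε.domain_nontrivial
  haveI : Module.FaithfullyFlat A B := by
    apply Module.FaithfullyFlat.of_comap_surjective
    intro q
    obtain ⟨q'⟩ : Nonempty (PrimeSpectrum B) := inferInstance
    exact ⟨q', Subsingleton.elim _ _⟩
  haveI : IsNoetherianRing A := by
    rw [isNoetherianRing_iff_ideal_fg]
    intro I
    exact Ideal.FG.of_FG_map_of_faithfullyFlat (S := B) (IsNoetherian.noetherian _)
  have hmax : ∀ I : Ideal A, I.IsPrime → I.IsMaximal := by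
    intro I hI
    obtain ⟨M, hM, hIM⟩ := Ideal.exists_le_maximal I hI.ne_top
    have h1 : (⟨I, hI⟩ : PrimeSpectrum A) = ⟨M, hM.isPrime⟩ := Subsingleton.elim _ _
    have h2 : I = M := congrArg PrimeSpectrum.asIdeal h1
    rw [h2]; exact hM
  haveI : Ring.KrullDimLE 0 A := Ring.KrullDimLE.mk₀ hmax
  haveI : IsArtinianRing A :=
    isArtinianRing_iff_isNoetherianRing_krullDimLE_zero.mpr ⟨inferInstance, inferInstance⟩
  have hεφ : ∀ x : k, ε (φ x) = x := fun x => RingHom.congr_fun hε x
  have hεsurj : Function.Surjective ε := fun x => ⟨φ x, hεφ x⟩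
  haveI hkmax : (RingHom.ker ε).IsMaximal := RingHom.ker_isMaximal_of_surjective ε hεsurj
  have hker : RingHom.ker ε ≤ Ring.jacobson A := by
    rw [Ring.jacobson_eq_sInf_isMaximal]
    intro a ha
    rw [Ideal.mem_sInf]
    intro M hM
    have h1 : (⟨M, (hM : M.IsMaximal).isPrime⟩ : PrimeSpectrum A) =
        ⟨RingHom.ker ε, hkmax.isPrime⟩ := Subsingleton.elim _ _
    have h2 : M = RingHom.ker ε := congrArg PrimeSpectrum.asIdeal h1
    rw [h2]; exact ha
  haveI : Module.Finite k (A ⧸ Ring.jacobson A) := by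
    apply Module.Finite.of_surjective (Algebra.linearMap k (A ⧸ Ring.jacobson A))
    intro z
    obtain ⟨a, rfl⟩ := Ideal.Quotient.mk_surjective z
    refine ⟨ε a, ?_⟩
    rw [Algebra.linearMap_apply, IsScalarTower.algebraMap_apply k A (A ⧸ Ring.jacobson A),
      Ideal.Quotient.algebraMap_eq, Ideal.Quotient.eq]
    apply hker
    rw [RingHom.mem_ker, map_sub]
    show ε (φ (ε a)) - ε a = 0
    rw [hεφ, sub_self]
  exact IsSemiprimaryRing.finite_of_isArtinian k A A

theorem main6084 (k : Type u) [Field k]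
    (F G : Over (Spec (CommRingCat.of k))) [GrpObj F] [GrpObj G] [LocallyOfFiniteType G.hom]
    (u : F ⟶ G) [Surjective u.left]
    (X : Over (Spec (CommRingCat.of k))) (p : G ⟶ X) [Flat p.left] [Surjective p.left]
    (hw : (u ▷ G) ≫ μ[G] ≫ p = snd F G ≫ p) :
    IsAffine X.left ∧ (∃ x : X.left, (Set.univ : Set X.left) = {x} ∧
      IsIso (X.hom.residueFieldMap x)) ∧
      ((Scheme.ΓSpecIso (CommRingCat.of k)).inv ≫ X.hom.appTop).hom.Finite := by
  haveI hsub : Subsingleton ↥(Spec (CommRingCat.of k)) :=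
    inferInstanceAs (Subsingleton (PrimeSpectrum k))
  haveI hsub' : Subsingleton ↥(𝟙_ (Over (Spec (CommRingCat.of k)))).left :=
    (inferInstance : Subsingleton (PrimeSpectrum k))
  obtain ⟨pt⟩ : Nonempty ↥(Spec (CommRingCat.of k)) := inferInstanceAs (Nonempty (PrimeSpectrum k))
  -- `p ∘ u` is constant
  have he : u ▷ G = lift (fst F G ≫ u) (snd F G) := by
    apply CartesianMonoidalCategory.hom_ext <;> simp
  have hmul : (u ▷ G) ≫ μ[G] = (fst F G ≫ u) * snd F G := by rw [Hom.mul_def, he]
  have hup : u ≫ p = toUnit F ≫ η[G] ≫ p := by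
    have e1 : lift (𝟙 F) (toUnit F ≫ η[G]) ≫ (u ▷ G) ≫ μ[G] = u := by
      rw [hmul, MonObj.comp_mul, lift_fst_assoc, lift_snd, Category.id_comp, ← Hom.one_def,
        _root_.mul_one]
    calc u ≫ p = (lift (𝟙 F) (toUnit F ≫ η[G]) ≫ (u ▷ G) ≫ μ[G]) ≫ p := by rw [e1]
      _ = lift (𝟙 F) (toUnit F ≫ η[G]) ≫ (snd F G ≫ p) := by
        rw [Category.assoc, Category.assoc, hw]
      _ = toUnit F ≫ η[G] ≫ p := by rw [← Category.assoc, lift_snd, Category.assoc]
  obtain ⟨e', he'⟩ : ∃ e' : Spec (CommRingCat.of k) ⟶ X.left, e' = (η[G]).left ≫ p.left :=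
    ⟨_, rfl⟩
  have he1 : e' ≫ X.hom = 𝟙 (Spec (CommRingCat.of k)) := by
    rw [he', Category.assoc, Over.w p]; exact Over.w η[G]
  have hall : ∀ x : X.left, x = e' pt := by
    intro x
    obtain ⟨g, rfl⟩ := p.left.surjective x
    obtain ⟨f, rfl⟩ := u.left.surjective g
    have h1 : u.left ≫ p.left = (toUnit F).left ≫ (η[G]).left ≫ p.left :=
      congrArg (fun q => q.left) hup
    have h2 := congrArg (fun q : F.left ⟶ X.left => q f) h1
    simp only [Scheme.Hom.comp_apply] at h2
    rw [h2, he', Scheme.Hom.comp_apply]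
    exact congrArg (fun t => p.left ((η[G]).left t)) (Subsingleton.elim _ _)
  -- affine
  haveI hXaff : IsAffine X.left := by
    obtain ⟨W, hW, hxW, -⟩ := exists_isAffineOpen_mem_and_subset (U := ⊤) (x := e' pt)
      (TopologicalSpace.Opens.mem_top _)
    have hWtop : W = ⊤ := by
      rw [eq_top_iff]
      intro y _
      rw [hall y]; exact hxW
    rw [hWtop] at hW
    haveI : IsAffine (⊤ : X.left.Opens).toScheme := hW
    exact IsAffine.of_isIso (X.left.topIso).inv
  -- residue field
  have hres : IsIso (X.hom.residueFieldMap (e' pt)) := by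
    obtain ⟨q, hq⟩ : ∃ q : X.left ⟶ Spec (CommRingCat.of k), q = X.hom := ⟨_, rfl⟩
    have he1' : e' ≫ q = 𝟙 (Spec (CommRingCat.of k)) := by rw [hq]; exact he1
    have hab : IsIso (q.residueFieldMap (e' pt) ≫ e'.residueFieldMap pt) := by
      have h1 : (e' ≫ q).residueFieldMap pt =
          q.residueFieldMap (e' pt) ≫ e'.residueFieldMap pt := Scheme.residueFieldMap_comp e' q pt
      have h2 := Scheme.Hom.residueFieldMap_congr he1' pt
      haveI h3 : IsIso (Scheme.Hom.residueFieldMap (𝟙 (Spec (CommRingCat.of k))) pt) := by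
        have h4 := Scheme.residueFieldMap_id (X := Spec (CommRingCat.of k)) pt
        rw [h4]
        exact IsIso.id _
      rw [← h1, h2]
      infer_instance
    have hbij : Function.Bijective (e'.residueFieldMap pt) := by
      refine ⟨(e'.residueFieldMap pt).hom.injective, fun z => ?_⟩
      obtain ⟨w, hw⟩ := (ConcreteCategory.bijective_of_isIso
        (q.residueFieldMap (e' pt) ≫ e'.residueFieldMap pt)).2 z
      exact ⟨q.residueFieldMap (e' pt) w, hw⟩
    haveI : IsIso (e'.residueFieldMap pt) := (ConcreteCategory.isIso_iff_bijective _).mpr hbij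
    have hfin : IsIso (q.residueFieldMap (e' pt)) :=
      IsIso.of_isIso_comp_right _ (e'.residueFieldMap pt)
    subst hq
    exact hfin
  refine ⟨hXaff, ⟨e' pt, (Set.eq_univ_of_forall fun y => Set.mem_singleton_iff.mpr (hall y)).symm,
    hres⟩, ?_⟩
  -- finiteness
  obtain ⟨U, hU, hgU, -⟩ := exists_isAffineOpen_mem_and_subset (U := ⊤) (x := (η[G]).left pt)
    (TopologicalSpace.Opens.mem_top _)
  haveI : Nonempty U := ⟨⟨_, hgU⟩⟩
  haveI : IsLocallyNoetherian G.left := LocallyOfFiniteType.isLocallyNoetherian G.hom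
  haveI : IsNoetherianRing Γ(G.left, U) := IsLocallyNoetherian.component_noetherian ⟨U, hU⟩
  haveI : Nontrivial Γ(G.left, U) := inferInstance
  have hUle : U ≤ p.left ⁻¹ᵁ ⊤ := by simp
  have hflat : (p.left.appLE ⊤ U hUle).hom.Flat :=
    p.left.flat_appLE (isAffineOpen_top X.left) hU hUle
  haveI : Subsingleton (PrimeSpectrum Γ(X.left, ⊤)) := by
    refine ⟨fun (q q' : ↥(Spec Γ(X.left, ⊤))) => ?_⟩
    have h1 : X.left.isoSpec.inv q = X.left.isoSpec.inv q' := (hall _).trans (hall _).symm
    exact (X.left.isoSpec.inv.homeomorph).injective h1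
  have hcat : ((Scheme.ΓSpecIso (CommRingCat.of k)).inv ≫ X.hom.appTop) ≫
      (e'.appTop ≫ (Scheme.ΓSpecIso (CommRingCat.of k)).hom) = 𝟙 _ := by
    rw [Category.assoc, ← Category.assoc X.hom.appTop, ← Scheme.Hom.comp_appTop, he1]
    simp
  refine finite_of_flat_cover _ (p.left.appLE ⊤ U hUle).hom
    (e'.appTop ≫ (Scheme.ΓSpecIso (CommRingCat.of k)).hom).hom ?_ hflat
  exact RingHom.ext fun x => congrArg (fun q => q.hom x) hcat

end Groth.Agent.Lib.RedQuot
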