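import Mathlib
import Groth.Prelude
import Groth.Agent.Lib.KzA_helper1

/-!
# Koszul strands of the Rees algebra are exact in high degrees (helper1)

For elements `s v` (`v : Fin N`) of a Noetherian ring `R` generating the ideal `J`, the Koszul
complex of the multiplication operators `s v` on the powers of `J`,
`… → (J^{j-1})^{(N choose q+1)} → (J^j)^{(N choose q)} → (J^{j+1})^{(N choose q-1)} → …`,
is exact as soon as `j + q` is large.
-/

set_option autoImplicit false

namespace Groth.Agent.Lib.ReesH1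

open Groth.Agent.Lib.KzH1 DirectSum

universe u

section General

variable {A : Type*} [CommRing A] {σA : Type*} [SetLike σA A] [AddSubgroupClass σA A]
  (𝒜 : ℤ → σA) [GradedRing 𝒜] {N : ℕ}

/-- multiplication operators -/
def mulOp (t : Fin N → A) (v : Fin N) : A →ₗ[A] A := LinearMap.mulLeft A (t v)

theorem mulOp_apply (t : Fin N → A) (v : Fin N) (a : A) : mulOp t v a = t v * a := rfl

theorem proj_mul_of_mem {e : ℤ} {a : A} (ha : a ∈ 𝒜 e) (c : ℤ) (b : A) :
    GradedRing.proj 𝒜 (e + c) (a * b) = a * GradedRing.proj 𝒜 c b := by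
  rw [GradedRing.proj_apply, GradedRing.proj_apply]
  exact coe_decompose_mul_add_of_left_mem 𝒜 ha

theorem proj_of_mem {e : ℤ} {a : A} (ha : a ∈ 𝒜 e) : GradedRing.proj 𝒜 e a = a := by
  rw [GradedRing.proj_apply]
  exact decompose_of_mem_same 𝒜 ha

theorem proj_mem (e : ℤ) (a : A) : GradedRing.proj 𝒜 e a ∈ 𝒜 e := by
  rw [GradedRing.proj_apply]
  exact (decompose 𝒜 a e).2

theorem exists_bound_proj (F : A) : ∃ B : ℤ, ∀ b, B < b → GradedRing.proj 𝒜 b F = 0 := by
  classical
  obtain ⟨B, hB⟩ := (decompose 𝒜 F).support.exists_le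
  refine ⟨B, fun b hb => ?_⟩
  by_contra hne
  exact absurd (hB b ((GradedRing.mem_support_iff 𝒜 F b).mpr hne)) (not_le.mpr hb)

/-- the Koszul differential commutes with taking suitable homogeneous components -/
theorem kd_proj (t : Fin N → A) (e : ℤ) (ht : ∀ v, t v ∈ 𝒜 e) (δ : Finset (Fin N) → ℤ)
    (hδ : ∀ (I' : Finset (Fin N)) (v : Fin N), v ∉ I' → δ I' = e + δ (insert v I'))
    (Z : Finset (Fin N) → A) :
    kd (mulOp t) (fun I => GradedRing.proj 𝒜 (δ I) (Z I)) =
      fun I' => GradedRing.proj 𝒜 (δ I') (kd (mulOp t) Z I') := by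
  funext I'
  rw [kd_apply, kd_apply, map_sum]
  refine Finset.sum_congr rfl fun v hv => ?_
  have hv' : v ∉ I' := by simpa using hv
  rw [map_zsmul, mulOp_apply, mulOp_apply, hδ I' v hv', proj_mul_of_mem 𝒜 (ht v)]

theorem kd_smul (t : Fin N → A) (F : A) (Z : Finset (Fin N) → A) :
    kd (mulOp t) (F • Z) = F • kd (mulOp t) Z := by
  funext J
  rw [Pi.smul_apply, kd_apply, kd_apply, Finset.smul_sum]
  refine Finset.sum_congr rfl fun v _ => ?_
  rw [Pi.smul_apply, map_smul, smul_comm]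

/-- the homogeneous part of total degree `P` of a chain (a subset of cardinality `c` counts
for `c`) -/
def hc (P : ℤ) : (Finset (Fin N) → A) →+ (Finset (Fin N) → A) where
  toFun Z := fun I => GradedRing.proj 𝒜 (P - I.card) (Z I)
  map_zero' := by
    funext I
    simp
  map_add' a b := by
    funext I
    simp

theorem hc_apply (P : ℤ) (Z : Finset (Fin N) → A) (I : Finset (Fin N)) :
    hc 𝒜 P Z I = GradedRing.proj 𝒜 (P - I.card) (Z I) := rfl

theorem hc_smul_of_mem {e : ℤ} {F : A} (hF : F ∈ 𝒜 e) (P : ℤ) (Z : Finset (Fin N) → A) :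
    hc 𝒜 (e + P) (F • Z) = F • hc 𝒜 P Z := by
  funext I
  rw [hc_apply, Pi.smul_apply, Pi.smul_apply, hc_apply, smul_eq_mul, smul_eq_mul, add_sub_assoc,
    proj_mul_of_mem 𝒜 hF]

theorem kd_hc (t : Fin N → A) (ht : ∀ v, t v ∈ 𝒜 1) (P : ℤ) (Z : Finset (Fin N) → A) :
    kd (mulOp t) (hc 𝒜 P Z) =
      fun I' => GradedRing.proj 𝒜 (P - I'.card) (kd (mulOp t) Z I') := by
  refine kd_proj 𝒜 t 1 ht (fun I => P - I.card) ?_ Z
  intro I' v hv
  rw [Finset.card_insert_of_notMem hv]
  push_cast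
  ring

theorem exists_bound_chain (G : Finset (Finset (Fin N) → A)) :
    ∃ B : ℤ, ∀ g ∈ G, ∀ (I : Finset (Fin N)) (b : ℤ), B < b + I.card →
      GradedRing.proj 𝒜 b (g I) = 0 := by
  classical
  choose Bf hBf using fun (g : Finset (Fin N) → A) (I : Finset (Fin N)) =>
    exists_bound_proj 𝒜 (g I)
  obtain ⟨B, hB⟩ := (G.biUnion fun g => Finset.univ.image fun I : Finset (Fin N) =>
    Bf g I + (I.card : ℤ)).exists_le
  refine ⟨B, fun g hg I b hb => hBf g I b ?_⟩
  have h1 : Bf g I + (I.card : ℤ) ≤ B :=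
    hB _ (Finset.mem_biUnion.mpr ⟨g, hg, Finset.mem_image.mpr ⟨I, Finset.mem_univ _, rfl⟩⟩)
  omega

end General

section Rees

variable {R : Type u} [CommRing R] {N : ℕ} (s : Fin N → R)

/-- evaluation of the variables at the `s v` -/
noncomputable def ev : MvPolynomial (Fin N) R →ₐ[R] R := MvPolynomial.aeval s

theorem ev_X (v : Fin N) : ev s (MvPolynomial.X v) = s v := MvPolynomial.aeval_X s v

theorem ev_C (a : R) : ev s (MvPolynomial.C a) = a := by
  unfold ev
  rw [MvPolynomial.aeval_C]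
  rfl

/-- the ideal generated by the `s v` -/
def JJ : Ideal R := Ideal.span (Set.range s)

theorem X_mem' (v : Fin N) :
    (MvPolynomial.X v : MvPolynomial (Fin N) R) ∈ GrSyz.stdGr R (Fin N) 1 :=
  MvPolynomial.isWeightedHomogeneous_X R (fun _ : Fin N => (1 : ℤ)) v

theorem C_mem (a : R) :
    (MvPolynomial.C a : MvPolynomial (Fin N) R) ∈ GrSyz.stdGr R (Fin N) 0 :=
  MvPolynomial.isWeightedHomogeneous_C (fun _ : Fin N => (1 : ℤ)) a

theorem weight_one' (d : Fin N →₀ ℕ) :
    Finsupp.weight (fun _ : Fin N => (1 : ℤ)) d = ((∑ v, d v : ℕ) : ℤ) := by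
  rw [Finsupp.weight_apply, Finsupp.sum_fintype d (fun _ c => c • (1 : ℤ)) (fun i => zero_smul _ _)]
  simp

theorem ev_mem_pow (j : ℕ) (F : MvPolynomial (Fin N) R)
    (hF : F ∈ GrSyz.stdGr R (Fin N) (j : ℤ)) : ev s F ∈ JJ s ^ j := by
  have h1 : ev s F = ∑ m ∈ F.support, MvPolynomial.coeff m F * ∏ v, s v ^ m v := by
    unfold ev
    rw [MvPolynomial.aeval_def, MvPolynomial.eval₂_eq']
    rfl
  rw [h1]
  refine Ideal.sum_mem _ fun m hm => Ideal.mul_mem_left _ _ ?_
  have hw : Finsupp.weight (fun _ : Fin N => (1 : ℤ)) m = (j : ℤ) :=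
    hF (MvPolynomial.mem_support_iff.mp hm)
  rw [weight_one'] at hw
  have hj : ∑ v, m v = j := by exact_mod_cast hw
  rw [← hj, ← Finset.prod_pow_eq_pow_sum]
  exact Ideal.prod_mem_prod fun v _ =>
    Ideal.pow_mem_pow (Ideal.subset_span (Set.mem_range_self v)) _

theorem exists_lift (j : ℕ) : ∀ w : R, w ∈ JJ s ^ j →
    ∃ F : MvPolynomial (Fin N) R, F ∈ GrSyz.stdGr R (Fin N) (j : ℤ) ∧ ev s F = w := by
  induction j with
  | zero =>
    intro w _
    refine ⟨MvPolynomial.C w, ?_, ev_C s w⟩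
    rw [Nat.cast_zero]
    exact C_mem w
  | succ j ih =>
    intro w hw
    rw [pow_succ] at hw
    refine Submodule.mul_induction_on hw ?_ ?_
    · intro a ha b hb
      obtain ⟨Fa, hFa, rfl⟩ := ih a ha
      obtain ⟨c, rfl⟩ := Ideal.mem_span_range_iff_exists_fun.mp hb
      refine ⟨Fa * ∑ v, MvPolynomial.C (c v) * MvPolynomial.X v, ?_, ?_⟩
      · have h1 : (∑ v, MvPolynomial.C (c v) * MvPolynomial.X v : MvPolynomial (Fin N) R) ∈
            GrSyz.stdGr R (Fin N) 1 := by
          refine sum_mem fun v _ => ?_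
          have h2 := SetLike.GradedMul.mul_mem (A := GrSyz.stdGr R (Fin N)) (C_mem (c v))
            (X_mem' (R := R) v)
          rwa [zero_add] at h2
        have h3 := SetLike.GradedMul.mul_mem (A := GrSyz.stdGr R (Fin N)) hFa h1
        rw [Nat.cast_succ]
        exact h3
      · rw [map_mul, map_sum]
        refine congrArg (fun x => ev s Fa * x) ?_
        refine Finset.sum_congr rfl fun v _ => ?_
        rw [map_mul, ev_C, ev_X]
    · rintro a b ⟨Fa, hFa, ha⟩ ⟨Fb, hFb, hb⟩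
      exact ⟨Fa + Fb, add_mem hFa hFb, by rw [map_add, ha, hb]⟩

theorem ev_kd (Z : Finset (Fin N) → MvPolynomial (Fin N) R) :
    (fun J => ev s (kd (mulOp (MvPolynomial.X : Fin N → MvPolynomial (Fin N) R)) Z J)) =
      kd (mulOp s) (fun I => ev s (Z I)) := by
  funext J
  rw [kd_apply, kd_apply, map_sum]
  refine Finset.sum_congr rfl fun v _ => ?_
  rw [map_zsmul, mulOp_apply, mulOp_apply, map_mul, ev_X]

/-- the ideal generated by the homogeneous relations between the `s v` -/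
noncomputable def KK : Ideal (MvPolynomial (Fin N) R) :=
  Ideal.span {F | SetLike.IsHomogeneousElem (GrSyz.stdGr R (Fin N)) F ∧ ev s F = 0}

theorem KK_hom : (KK s).IsHomogeneous (GrSyz.stdGr R (Fin N)) :=
  Ideal.homogeneous_span _ _ fun _ hF => hF.1

theorem ev_eq_zero_of_mem_KK {F : MvPolynomial (Fin N) R} (hF : F ∈ KK s) : ev s F = 0 := by
  have hle : KK s ≤ RingHom.ker (ev s : MvPolynomial (Fin N) R →+* R) :=
    Ideal.span_le.mpr fun F hF => RingHom.mem_ker.mpr hF.2
  exact RingHom.mem_ker.mp (hle hF)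

theorem proj_mem_KK {F : MvPolynomial (Fin N) R} (hF : F ∈ KK s) (i : ℤ) :
    GradedRing.proj (GrSyz.stdGr R (Fin N)) i F ∈ KK s := KK_hom s i hF

/-- chains whose boundary lies in the relation ideal -/
noncomputable def ZZ : Submodule (MvPolynomial (Fin N) R) (Finset (Fin N) → MvPolynomial (Fin N) R) where
  carrier := {Z | ∀ I, kd (mulOp (MvPolynomial.X : Fin N → MvPolynomial (Fin N) R)) Z I ∈ KK s}
  add_mem' := by
    intro a b ha hb I
    rw [map_add, Pi.add_apply]
    exact (KK s).add_mem (ha I) (hb I)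
  zero_mem' := by
    intro I
    rw [map_zero]
    exact (KK s).zero_mem
  smul_mem' := by
    intro F Z hZ I
    rw [kd_smul, Pi.smul_apply]
    exact (KK s).mul_mem_left F (hZ I)

theorem mem_ZZ {Z : Finset (Fin N) → MvPolynomial (Fin N) R} :
    Z ∈ ZZ s ↔
      ∀ I, kd (mulOp (MvPolynomial.X : Fin N → MvPolynomial (Fin N) R)) Z I ∈ KK s := Iff.rfl

theorem hc_mem_ZZ {Z : Finset (Fin N) → MvPolynomial (Fin N) R} (hZ : Z ∈ ZZ s) (P : ℤ) :
    hc (GrSyz.stdGr R (Fin N)) P Z ∈ ZZ s := by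
  intro I'
  rw [kd_hc (GrSyz.stdGr R (Fin N)) _ (fun v => X_mem' v) P Z]
  exact proj_mem_KK s (hZ I') _

/-- chains of the form `∑ v, X v • (part of degree P - 1 of a chain in ZZ)` -/
noncomputable def XX (P : ℤ) : AddSubmonoid (Finset (Fin N) → MvPolynomial (Fin N) R) where
  carrier := {W | ∃ Z' : Fin N → (Finset (Fin N) → MvPolynomial (Fin N) R),
    (∀ v, Z' v ∈ ZZ s) ∧
      W = ∑ v, (MvPolynomial.X v : MvPolynomial (Fin N) R) •
        hc (GrSyz.stdGr R (Fin N)) (P - 1) (Z' v)}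
  zero_mem' := ⟨0, fun _ => (ZZ s).zero_mem, by simp⟩
  add_mem' := by
    rintro a b ⟨Za, hZa, rfl⟩ ⟨Zb, hZb, rfl⟩
    refine ⟨Za + Zb, fun v => (ZZ s).add_mem (hZa v) (hZb v), ?_⟩
    rw [← Finset.sum_add_distrib]
    refine Finset.sum_congr rfl fun v _ => ?_
    rw [Pi.add_apply, map_add, smul_add]

theorem smul_mem_XX (P : ℤ) (g : Finset (Fin N) → MvPolynomial (Fin N) R) (hg : g ∈ ZZ s)
    (hg0 : hc (GrSyz.stdGr R (Fin N)) P g = 0) (F : MvPolynomial (Fin N) R) :
    hc (GrSyz.stdGr R (Fin N)) P (F • g) ∈ XX s P := by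
  induction F using MvPolynomial.induction_on with
  | C a =>
    have h := hc_smul_of_mem (GrSyz.stdGr R (Fin N)) (C_mem a) P g
    rw [zero_add] at h
    rw [h, hg0, smul_zero]
    exact (XX s P).zero_mem
  | add F F' hF hF' =>
    rw [add_smul, map_add]
    exact (XX s P).add_mem hF hF'
  | mul_X F v _ =>
    have e1 : (F * MvPolynomial.X v) • g = (MvPolynomial.X v : MvPolynomial (Fin N) R) • (F • g) := by
      rw [smul_smul, mul_comm]
    have e2 : hc (GrSyz.stdGr R (Fin N)) P ((MvPolynomial.X v : MvPolynomial (Fin N) R) • (F • g)) =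
        (MvPolynomial.X v : MvPolynomial (Fin N) R) •
          hc (GrSyz.stdGr R (Fin N)) (P - 1) (F • g) := by
      have h := hc_smul_of_mem (GrSyz.stdGr R (Fin N)) (X_mem' (R := R) v) (P - 1) (F • g)
      rwa [show (1 : ℤ) + (P - 1) = P by ring] at h
    rw [e1, e2]
    refine ⟨fun w => if w = v then F • g else 0, fun w => ?_, ?_⟩
    · show (if w = v then F • g else 0) ∈ ZZ s
      split_ifs
      · exact (ZZ s).smul_mem F hg
      · exact (ZZ s).zero_mem
    · rw [Finset.sum_eq_single v]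
      · dsimp only
        rw [if_pos rfl]
      · intro w _ hw
        dsimp only
        rw [if_neg hw, map_zero, smul_zero]
      · intro h
        exact absurd (Finset.mem_univ v) h

/-- homogeneous chains of high degree in `ZZ` lie in the irrelevant ideal times `ZZ` -/
theorem exists_decomp [IsNoetherianRing R] :
    ∃ B : ℤ, ∀ P : ℤ, B < P → ∀ Z ∈ ZZ s, hc (GrSyz.stdGr R (Fin N)) P Z = Z →
      ∃ Z' : Fin N → (Finset (Fin N) → MvPolynomial (Fin N) R), (∀ v, Z' v ∈ ZZ s) ∧
        Z = ∑ v, (MvPolynomial.X v : MvPolynomial (Fin N) R) •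
          hc (GrSyz.stdGr R (Fin N)) (P - 1) (Z' v) := by
  classical
  obtain ⟨G, hG⟩ := (IsNoetherian.noetherian (ZZ s) : (ZZ s).FG)
  obtain ⟨B, hB⟩ := exists_bound_chain (GrSyz.stdGr R (Fin N)) G
  refine ⟨B, fun P hP Z hZ hZP => ?_⟩
  have hGZ : ∀ g ∈ G, g ∈ ZZ s := fun g hg => by
    rw [← hG]
    exact Submodule.subset_span hg
  rw [← hG] at hZ
  obtain ⟨f, -, hf⟩ := Submodule.mem_span_finset.mp hZ
  have hmem : hc (GrSyz.stdGr R (Fin N)) P Z ∈ XX s P := by
    rw [← hf, map_sum]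
    refine (XX s P).sum_mem fun g hg => ?_
    refine smul_mem_XX s P g (hGZ g hg) ?_ (f g)
    funext I
    rw [hc_apply]
    exact hB g hg I _ (by simpa using hP)
  rw [hZP] at hmem
  exact hmem

/-- **Exactness of the Koszul strands of the Rees algebra in high degrees.** -/
theorem koszul_strand [IsNoetherianRing R] :
    ∃ p₀ : ℕ, ∀ q j : ℕ, p₀ < j + q → ∀ z : Finset (Fin N) → R, Supp q z →
      (∀ I, z I ∈ JJ s ^ j) → kd (mulOp s) z = 0 →
      ∃ w : Finset (Fin N) → R, Supp (q + 1) w ∧ (∀ I, w I ∈ JJ s ^ (j - 1)) ∧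
        kd (mulOp s) w = z := by
  classical
  obtain ⟨B, hB⟩ := exists_decomp s
  refine ⟨B.toNat, fun q j hpq z hzS hzJ hzc => ?_⟩
  have hP : B < ((j : ℤ) + q) := by
    have h1 : B ≤ (B.toNat : ℤ) := Int.self_le_toNat B
    have h2 : (B.toNat : ℤ) < ((j + q : ℕ) : ℤ) := by exact_mod_cast hpq
    push_cast at h2
    omega
  have hl : ∀ I, ∃ F : MvPolynomial (Fin N) R, F ∈ GrSyz.stdGr R (Fin N) (j : ℤ) ∧
      ev s F = z I := fun I => exists_lift s j (z I) (hzJ I)
  choose Z₀ hZ₀1 hZ₀2 using hl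
  let Z : Finset (Fin N) → MvPolynomial (Fin N) R := fun I => if I.card = q then Z₀ I else 0
  have hZev : (fun I => ev s (Z I)) = z := by
    funext I
    show ev s (if I.card = q then Z₀ I else 0) = z I
    split_ifs with h
    · exact hZ₀2 I
    · rw [map_zero, hzS I h]
  have hZdeg : ∀ I, Z I ∈ GrSyz.stdGr R (Fin N) ((j : ℤ) + q - I.card) := by
    intro I
    show (if I.card = q then Z₀ I else 0) ∈ _
    split_ifs with h
    · rw [h, add_sub_cancel_right]
      exact hZ₀1 I
    · exact Submodule.zero_mem _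
  have hZhc : hc (GrSyz.stdGr R (Fin N)) ((j : ℤ) + q) Z = Z := by
    funext I
    rw [hc_apply]
    exact proj_of_mem _ (hZdeg I)
  have hZZ : Z ∈ ZZ s := by
    intro I'
    refine Ideal.subset_span ⟨⟨(j : ℤ) + q - I'.card, ?_⟩, ?_⟩
    · have h1 := congrFun (kd_hc (GrSyz.stdGr R (Fin N)) _ (fun v => X_mem' (R := R) v)
        ((j : ℤ) + q) Z) I'
      rw [hZhc] at h1
      rw [h1]
      exact proj_mem _ _ _
    · have h1 := congrFun (ev_kd s Z) I'
      rw [hZev, hzc] at h1
      exact h1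
  obtain ⟨Z', hZ'1, hZ'2⟩ := hB _ hP Z hZZ hZhc
  let Y : Fin N → (Finset (Fin N) → MvPolynomial (Fin N) R) := fun v =>
    hc (GrSyz.stdGr R (Fin N)) ((j : ℤ) + q - 1) (Z' v)
  have hY : ∀ v, Y v ∈ ZZ s := fun v => hc_mem_ZZ s (hZ'1 v) _
  have hZY : ∀ J, Z J = ∑ v, MvPolynomial.X v * Y v J := by
    intro J
    have h1 := congrFun hZ'2 J
    rw [Finset.sum_apply] at h1
    exact h1
  let W : Finset (Fin N) → MvPolynomial (Fin N) R := ∑ v, sU v (Y v)
  have hkW : ∀ J, ev s (kd (mulOp (MvPolynomial.X : Fin N → MvPolynomial (Fin N) R)) W J) =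
      z J := by
    intro J
    have h1 : kd (mulOp (MvPolynomial.X : Fin N → MvPolynomial (Fin N) R)) W J =
        ∑ v, (MvPolynomial.X v * Y v J -
          sU v (kd (mulOp (MvPolynomial.X : Fin N → MvPolynomial (Fin N) R)) (Y v)) J) := by
      show kd _ (∑ v, sU v (Y v)) J = _
      rw [map_sum, Finset.sum_apply]
      refine Finset.sum_congr rfl fun v _ => ?_
      have h2 := congrFun (kd_sU (mulOp (MvPolynomial.X : Fin N → MvPolynomial (Fin N) R)) v
        (Y v)) J
      rw [Pi.add_apply, mulOp_apply] at h2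
      rw [← h2]
      ring
    rw [h1, map_sum]
    have h3 : ∀ v ∈ Finset.univ, ev s (MvPolynomial.X v * Y v J -
        sU v (kd (mulOp (MvPolynomial.X : Fin N → MvPolynomial (Fin N) R)) (Y v)) J) =
        ev s (MvPolynomial.X v * Y v J) := by
      intro v _
      rw [map_sub, ev_eq_zero_of_mem_KK s (sU_mem (L := KK s) v (fun I => hY v I) J), sub_zero]
    rw [Finset.sum_congr rfl h3, ← map_sum, ← hZY J]
    exact congrFun hZev J
  have hWdeg : ∀ I : Finset (Fin N), I.card = q + 1 →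
      W I ∈ GrSyz.stdGr R (Fin N) ((j : ℤ) - 1) := by
    intro I hI
    show (∑ v, sU v (Y v)) I ∈ _
    rw [Finset.sum_apply]
    refine sum_mem fun v _ => ?_
    unfold sU
    split_ifs with hv
    · refine zsmul_mem ?_ _
      show hc (GrSyz.stdGr R (Fin N)) ((j : ℤ) + q - 1) (Z' v) (I.erase v) ∈ _
      rw [hc_apply]
      have e : (j : ℤ) + q - 1 - ((I.erase v).card : ℤ) = (j : ℤ) - 1 := by
        rw [Finset.card_erase_of_mem hv, hI]
        push_cast
        ring
      rw [e]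
      exact proj_mem _ _ _
    · exact Submodule.zero_mem _
  have hkw₀ : kd (mulOp s) (fun I => ev s (W I)) = z := by
    rw [← ev_kd]
    exact funext hkW
  refine ⟨fun I => if I.card = q + 1 then ev s (W I) else 0, fun I hI => if_neg hI, fun I => ?_, ?_⟩
  · show (if I.card = q + 1 then ev s (W I) else 0) ∈ _
    split_ifs with hI
    · rcases Nat.eq_zero_or_pos j with hj | hj
      · subst hj
        rw [Nat.zero_sub, pow_zero, Ideal.one_eq_top]
        exact Submodule.mem_top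
      · obtain ⟨j', rfl⟩ : ∃ j', j = j' + 1 := ⟨j - 1, by omega⟩
        have h1 := hWdeg I hI
        rw [show ((j' + 1 : ℕ) : ℤ) - 1 = (j' : ℤ) by push_cast; ring] at h1
        rw [Nat.add_sub_cancel]
        exact ev_mem_pow s j' _ h1
    · exact Submodule.zero_mem _
  · funext I'
    rw [kd_apply]
    by_cases hI' : I'.card = q
    · rw [← congrFun hkw₀ I', kd_apply]
      refine Finset.sum_congr rfl fun v hv => ?_
      have hv' : v ∉ I' := by simpa using hv
      rw [if_pos (by rw [Finset.card_insert_of_notMem hv', hI'])]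
    · rw [hzS I' hI']
      refine Finset.sum_eq_zero fun v hv => ?_
      have hv' : v ∉ I' := by simpa using hv
      rw [if_neg (by rw [Finset.card_insert_of_notMem hv']; omega), map_zero, smul_zero]

end Rees

end Groth.Agent.Lib.ReesH1
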