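import Mathlib
import Groth.Prelude
import Groth.Agent.Lib.Rees1_helper1
import Groth.Agent.Lib.TlMap6_helper1

/-!
# Graded modules of Koszul chains with values in powers of an ideal (helper1)
-/

set_option autoImplicit false

namespace Groth.Agent.Lib.ReesH1

open Groth.Agent.Lib.KzH1 Groth.Agent.Lib.TlMapH1 DirectSum

universe u

section Hom

variable {A : Type u} [CommRing A] {σA : Type*} [SetLike σA A] [AddSubgroupClass σA A] {N : ℕ}

theorem JJ_pow_hom {ι : Type*} [DecidableEq ι] [AddMonoid ι] (𝒜 : ι → σA) [GradedRing 𝒜]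
    (s : Fin N → A) (hs : ∀ v, SetLike.IsHomogeneousElem 𝒜 (s v)) (m : ℕ) :
    (JJ s ^ m).IsHomogeneous 𝒜 := by
  have hJ : (JJ s).IsHomogeneous 𝒜 := Ideal.homogeneous_span 𝒜 _ (by
    rintro _ ⟨v, rfl⟩
    exact hs v)
  induction m with
  | zero =>
    rw [pow_zero, Ideal.one_eq_top]
    exact Ideal.IsHomogeneous.top 𝒜
  | succ m ih =>
    rw [pow_succ]
    exact ih.mul hJ

variable (𝒜 : ℤ → σA) [GradedRing 𝒜]

theorem kd_mem_graded (t : Fin N → A) (e : ℤ) (ht : ∀ v, t v ∈ 𝒜 e) (c : ℤ)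
    (Z : Finset (Fin N) → A) (hZ : ∀ I, Z I ∈ 𝒜 c) (I' : Finset (Fin N)) :
    kd (mulOp t) Z I' ∈ 𝒜 (e + c) := by
  rw [kd_apply]
  exact sum_mem fun v _ => zsmul_mem (SetLike.GradedMul.mul_mem (ht v) (hZ _)) _

/-- exactness of the strands of total degree `≥ P`, in homogeneous form -/
def StrandExact (s : Fin N → A) (d : ℤ) (P : ℕ) : Prop :=
  ∀ q j : ℕ, P ≤ j + q → ∀ (c : ℤ) (z : Finset (Fin N) → A), Supp q z →
    (∀ I, z I ∈ JJ s ^ j) → (∀ I, z I ∈ 𝒜 c) → kd (mulOp s) z = 0 →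
    ∃ w : Finset (Fin N) → A, Supp (q + 1) w ∧ (∀ I, w I ∈ JJ s ^ (j - 1)) ∧
      (∀ I, w I ∈ 𝒜 (c - d)) ∧ kd (mulOp s) w = z

theorem strand_hom [IsNoetherianRing A] (s : Fin N → A) (d : ℤ) (hs : ∀ v, s v ∈ 𝒜 d) :
    ∃ p₀ : ℕ, ∀ P : ℕ, p₀ < P → StrandExact 𝒜 s d P := by
  obtain ⟨p₀, h⟩ := koszul_strand s
  refine ⟨p₀, fun P hP q j hpq c z hzS hzJ hzc hzk => ?_⟩
  obtain ⟨w₀, hw₀S, hw₀J, hw₀k⟩ := h q j (by omega) z hzS hzJ hzk
  let δ : Finset (Fin N) → ℤ := fun I => c + d * q - d * I.card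
  have hδ : ∀ (I' : Finset (Fin N)) (v : Fin N), v ∉ I' → δ I' = d + δ (insert v I') := by
    intro I' v hv
    show c + d * q - d * I'.card = d + (c + d * q - d * (insert v I').card)
    rw [Finset.card_insert_of_notMem hv]
    push_cast
    ring
  have hδq : ∀ I : Finset (Fin N), I.card = q → δ I = c := by
    intro I hI
    show c + d * q - d * I.card = c
    rw [hI]
    ring
  have hδq1 : ∀ I : Finset (Fin N), I.card = q + 1 → δ I = c - d := by
    intro I hI
    show c + d * q - d * I.card = c - d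
    rw [hI]
    push_cast
    ring
  refine ⟨fun I => GradedRing.proj 𝒜 (δ I) (w₀ I), ?_, ?_, ?_, ?_⟩
  · intro I hI
    show GradedRing.proj 𝒜 (δ I) (w₀ I) = 0
    rw [hw₀S I hI, map_zero]
  · intro I
    exact JJ_pow_hom 𝒜 s (fun v => ⟨d, hs v⟩) (j - 1) (δ I) (hw₀J I)
  · intro I
    show GradedRing.proj 𝒜 (δ I) (w₀ I) ∈ _
    by_cases hI : I.card = q + 1
    · rw [hδq1 I hI]
      exact proj_mem 𝒜 _ _
    · rw [hw₀S I hI, map_zero]
      exact zero_mem _
  · rw [kd_proj 𝒜 s d hs δ hδ w₀, hw₀k]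
    funext I'
    by_cases hI' : I'.card = q
    · rw [hδq I' hI']
      exact proj_of_mem 𝒜 (hzc I')
    · rw [hzS I' hI', map_zero]

end Hom

section Chains

variable (k : Type u) [Field k] (r : ℕ) (N : ℕ)

/-- chains of exterior degree `q` with values in the ideal `L` -/
noncomputable def chMod (L : Ideal (MvPolynomial (Fin (r + 1)) k)) (q : ℕ) :
    Submodule (MvPolynomial (Fin (r + 1)) k) (Finset (Fin N) → MvPolynomial (Fin (r + 1)) k) where
  carrier := {z | Supp q z ∧ ∀ I, z I ∈ L}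
  add_mem' := by
    rintro a b ⟨ha1, ha2⟩ ⟨hb1, hb2⟩
    exact ⟨fun I hI => by rw [Pi.add_apply, ha1 I hI, hb1 I hI, add_zero],
      fun I => L.add_mem (ha2 I) (hb2 I)⟩
  zero_mem' := ⟨fun _ _ => rfl, fun _ => L.zero_mem⟩
  smul_mem' := by
    rintro f a ⟨ha1, ha2⟩
    exact ⟨fun I hI => by rw [Pi.smul_apply, ha1 I hI, smul_zero],
      fun I => L.mul_mem_left f (ha2 I)⟩

variable {k r N}

theorem mem_chMod {L : Ideal (MvPolynomial (Fin (r + 1)) k)} {q : ℕ}
    {z : Finset (Fin N) → MvPolynomial (Fin (r + 1)) k} :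
    z ∈ chMod k r N L q ↔ Supp q z ∧ ∀ I, z I ∈ L := Iff.rfl

theorem chMod_ext {L : Ideal (MvPolynomial (Fin (r + 1)) k)} {q : ℕ}
    {z z' : ↥(chMod k r N L q)} (h : ∀ I, z.1 I = z'.1 I) : z = z' :=
  Subtype.ext (funext h)

variable (k r N)

/-- the grading of the module of chains, shifted by `a` -/
noncomputable def chGrZ (L : Ideal (MvPolynomial (Fin (r + 1)) k)) (q : ℕ) (a : ℤ) :
    ℤ → Submodule k ↥(chMod k r N L q) := fun m =>
  { carrier := {z | ∀ I, z.1 I ∈ GrSyz.stdGr k (Fin (r + 1)) (m - a)}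
    add_mem' := fun ha hb I => (GrSyz.stdGr k (Fin (r + 1)) (m - a)).add_mem (ha I) (hb I)
    zero_mem' := fun _ => (GrSyz.stdGr k (Fin (r + 1)) (m - a)).zero_mem
    smul_mem' := fun c _ hz I => (GrSyz.stdGr k (Fin (r + 1)) (m - a)).smul_mem c (hz I) }

variable {k r N}

theorem mem_chGrZ {L : Ideal (MvPolynomial (Fin (r + 1)) k)} {q : ℕ} {a m : ℤ}
    {z : ↥(chMod k r N L q)} :
    z ∈ chGrZ k r N L q a m ↔ ∀ I, z.1 I ∈ GrSyz.stdGr k (Fin (r + 1)) (m - a) := Iff.rfl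

instance gsmul_chGrZ (L : Ideal (MvPolynomial (Fin (r + 1)) k)) (q : ℕ) (a : ℤ) :
    SetLike.GradedSMul (GrSyz.stdGr k (Fin (r + 1))) (chGrZ k r N L q a) where
  smul_mem := by
    intro i j f z hf hz
    rw [vadd_eq_add, mem_chGrZ]
    intro I
    have h := SetLike.GradedMul.mul_mem (A := GrSyz.stdGr k (Fin (r + 1))) hf (hz I)
    have e : i + (j - a) = i + j - a := by ring
    rw [e] at h
    exact h

variable (k r)

/-- the grading of an ideal, shifted by `a` -/
noncomputable def idGrZ (L : Ideal (MvPolynomial (Fin (r + 1)) k)) (a : ℤ) : ℤ → Submodule k ↥L := fun m =>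
  (GrSyz.stdGr k (Fin (r + 1)) (m - a)).comap ((Submodule.subtype L).restrictScalars k)

variable {k r}

theorem mem_idGrZ {L : Ideal (MvPolynomial (Fin (r + 1)) k)} {a m : ℤ} {w : ↥L} :
    w ∈ idGrZ k r L a m ↔
      (w : MvPolynomial (Fin (r + 1)) k) ∈ GrSyz.stdGr k (Fin (r + 1)) (m - a) := Iff.rfl

instance gsmul_idGrZ (L : Ideal (MvPolynomial (Fin (r + 1)) k)) (a : ℤ) :
    SetLike.GradedSMul (GrSyz.stdGr k (Fin (r + 1))) (idGrZ k r L a) where
  smul_mem := by
    intro i j f w hf hw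
    rw [vadd_eq_add, mem_idGrZ]
    have h := SetLike.GradedMul.mul_mem (A := GrSyz.stdGr k (Fin (r + 1))) hf (mem_idGrZ.mp hw)
    have e : i + (j - a) = i + j - a := by ring
    rw [e] at h
    exact h

/-! ### the linear maps -/

/-- the Koszul differential on chains with values in ideals -/
noncomputable def chD (s : Fin N → MvPolynomial (Fin (r + 1)) k)
    (L L' : Ideal (MvPolynomial (Fin (r + 1)) k)) (q : ℕ) (h : ∀ v, ∀ a ∈ L, s v * a ∈ L') :
    ↥(chMod k r N L (q + 1)) →ₗ[MvPolynomial (Fin (r + 1)) k] ↥(chMod k r N L' q) where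
  toFun z := ⟨kd (mulOp s) z.1, kd_supp _ z.2.1,
    fun I => kd_mem (mulOp s) (L' := L) (L := L') (fun v a ha => h v a ha) z.2.2 I⟩
  map_add' a b := Subtype.ext (map_add (kd (mulOp s)) a.1 b.1)
  map_smul' f a := Subtype.ext (kd_smul s f a.1)

theorem chD_val (s : Fin N → MvPolynomial (Fin (r + 1)) k)
    (L L' : Ideal (MvPolynomial (Fin (r + 1)) k)) (q : ℕ) (h : ∀ v, ∀ a ∈ L, s v * a ∈ L')
    (z : ↥(chMod k r N L (q + 1))) : (chD s L L' q h z).1 = kd (mulOp s) z.1 := rfl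

/-- the augmentation -/
noncomputable def augL (s : Fin N → MvPolynomial (Fin (r + 1)) k)
    (L L' : Ideal (MvPolynomial (Fin (r + 1)) k)) (h : ∀ v, ∀ a ∈ L, s v * a ∈ L') :
    ↥(chMod k r N L 1) →ₗ[MvPolynomial (Fin (r + 1)) k] ↥L' where
  toFun z := ⟨kd (mulOp s) z.1 ∅,
    kd_mem (mulOp s) (L' := L) (L := L') (fun v a ha => h v a ha) z.2.2 ∅⟩
  map_add' a b := Subtype.ext (congrFun (map_add (kd (mulOp s)) a.1 b.1) ∅)
  map_smul' f a := Subtype.ext (congrFun (kd_smul s f a.1) ∅)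

theorem augL_val (s : Fin N → MvPolynomial (Fin (r + 1)) k)
    (L L' : Ideal (MvPolynomial (Fin (r + 1)) k)) (h : ∀ v, ∀ a ∈ L, s v * a ∈ L')
    (z : ↥(chMod k r N L 1)) : ((augL s L L' h z : ↥L') : MvPolynomial (Fin (r + 1)) k) =
      kd (mulOp s) z.1 ∅ := rfl

/-- evaluation of a chain at a subset -/
noncomputable def chπ (L : Ideal (MvPolynomial (Fin (r + 1)) k)) (q : ℕ) (I : Finset (Fin N)) :
    ↥(chMod k r N L q) →ₗ[MvPolynomial (Fin (r + 1)) k] ↥L where
  toFun z := ⟨z.1 I, z.2.2 I⟩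
  map_add' _ _ := rfl
  map_smul' _ _ := rfl

/-- the chain concentrated at one subset -/
noncomputable def chι (L : Ideal (MvPolynomial (Fin (r + 1)) k)) (q : ℕ) (I : Finset (Fin N))
    (hI : I.card = q) :
    ↥L →ₗ[MvPolynomial (Fin (r + 1)) k] ↥(chMod k r N L q) where
  toFun w := ⟨Pi.single I w.1, fun I' hI' => Pi.single_eq_of_ne (by
      rintro rfl
      exact hI' hI) _, fun I' => by
      by_cases h : I' = I
      · subst h
        rw [Pi.single_eq_same]
        exact w.2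
      · rw [Pi.single_eq_of_ne h]
        exact L.zero_mem⟩
  map_add' a b := by
    apply Subtype.ext
    funext I'
    show (Pi.single I (a.1 + b.1) : Finset (Fin N) → MvPolynomial (Fin (r + 1)) k) I' =
      (Pi.single I a.1 : Finset (Fin N) → MvPolynomial (Fin (r + 1)) k) I' +
        (Pi.single I b.1 : Finset (Fin N) → MvPolynomial (Fin (r + 1)) k) I'
    by_cases h : I' = I
    · subst h
      rw [Pi.single_eq_same, Pi.single_eq_same, Pi.single_eq_same]
    · rw [Pi.single_eq_of_ne h, Pi.single_eq_of_ne h, Pi.single_eq_of_ne h, add_zero]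
  map_smul' f a := by
    apply Subtype.ext
    funext I'
    show (Pi.single I (f * a.1) : Finset (Fin N) → MvPolynomial (Fin (r + 1)) k) I' =
      f * (Pi.single I a.1 : Finset (Fin N) → MvPolynomial (Fin (r + 1)) k) I'
    by_cases h : I' = I
    · subst h
      rw [Pi.single_eq_same, Pi.single_eq_same]
    · rw [Pi.single_eq_of_ne h, Pi.single_eq_of_ne h, mul_zero]

theorem chπ_chι_same (L : Ideal (MvPolynomial (Fin (r + 1)) k)) (q : ℕ) (I : Finset (Fin N))
    (hI : I.card = q) : chπ L q I ∘ₗ chι L q I hI = LinearMap.id := by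
  apply LinearMap.ext
  intro w
  apply Subtype.ext
  show (Pi.single I w.1 : Finset (Fin N) → MvPolynomial (Fin (r + 1)) k) I = w.1
  rw [Pi.single_eq_same]

theorem chπ_chι_ne (L : Ideal (MvPolynomial (Fin (r + 1)) k)) (q : ℕ) (I I' : Finset (Fin N))
    (hI : I.card = q) (hne : I' ≠ I) : chπ L q I' ∘ₗ chι L q I hI = 0 := by
  apply LinearMap.ext
  intro w
  apply Subtype.ext
  show (Pi.single I w.1 : Finset (Fin N) → MvPolynomial (Fin (r + 1)) k) I' = 0
  rw [Pi.single_eq_of_ne hne]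

theorem sum_chι_chπ (L : Ideal (MvPolynomial (Fin (r + 1)) k)) (q : ℕ) :
    ∑ I : {I : Finset (Fin N) // I.card = q}, chι L q I.1 I.2 ∘ₗ chπ L q I.1 =
      LinearMap.id := by
  classical
  apply LinearMap.ext
  intro z
  apply chMod_ext
  intro I₀
  rw [LinearMap.sum_apply, Submodule.coe_sum, Finset.sum_apply, LinearMap.id_apply]
  by_cases h0 : I₀.card = q
  · rw [Finset.sum_eq_single (⟨I₀, h0⟩ : {I : Finset (Fin N) // I.card = q})]
    · show (Pi.single I₀ (z.1 I₀) : Finset (Fin N) → MvPolynomial (Fin (r + 1)) k) I₀ = z.1 I₀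
      rw [Pi.single_eq_same]
    · intro I _ hI
      show (Pi.single I.1 (z.1 I.1) : Finset (Fin N) → MvPolynomial (Fin (r + 1)) k) I₀ = 0
      rw [Pi.single_eq_of_ne]
      intro h
      exact hI (Subtype.ext h.symm)
    · intro h
      exact absurd (Finset.mem_univ _) h
  · rw [z.2.1 I₀ h0]
    refine Finset.sum_eq_zero fun I _ => ?_
    show (Pi.single I.1 (z.1 I.1) : Finset (Fin N) → MvPolynomial (Fin (r + 1)) k) I₀ = 0
    rw [Pi.single_eq_of_ne]
    intro h
    exact h0 (h ▸ I.2)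

/-! ### compatibility with the gradings -/

theorem degPres_chD (s : Fin N → MvPolynomial (Fin (r + 1)) k) (d : ℤ)
    (hs : ∀ v, s v ∈ GrSyz.stdGr k (Fin (r + 1)) d)
    (L L' : Ideal (MvPolynomial (Fin (r + 1)) k)) (q : ℕ) (h : ∀ v, ∀ a ∈ L, s v * a ∈ L')
    (a a' : ℤ) (ha : a' = a + d) :
    DegPres (truncN (chGrZ k r N L (q + 1) a')) (truncN (chGrZ k r N L' q a))
      (chD s L L' q h) := by
  intro i z hz I
  have h1 := kd_mem_graded (GrSyz.stdGr k (Fin (r + 1))) s d hs ((i : ℤ) - a') z.1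
    (mem_chGrZ.mp hz) I
  have e : d + ((i : ℤ) - a') = (i : ℤ) - a := by
    rw [ha]
    ring
  rw [e] at h1
  exact h1

theorem degPres_augL (s : Fin N → MvPolynomial (Fin (r + 1)) k) (d : ℕ)
    (hs : ∀ v, s v ∈ GrSyz.stdGr k (Fin (r + 1)) (d : ℤ))
    (L L' : Ideal (MvPolynomial (Fin (r + 1)) k)) (h : ∀ v, ∀ a ∈ L, s v * a ∈ L') :
    DegPres (truncN (chGrZ k r N L 1 (d : ℤ))) (idealGr k r L') (augL s L L' h) := by
  intro i z hz
  have h1 := kd_mem_graded (GrSyz.stdGr k (Fin (r + 1))) s (d : ℤ) hs ((i : ℤ) - (d : ℤ)) z.1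
    (mem_chGrZ.mp hz) ∅
  have e : (d : ℤ) + ((i : ℤ) - (d : ℤ)) = (i : ℤ) := by ring
  rw [e] at h1
  rw [mem_idealGr, augL_val]
  exact (mem_stdGr_natCast k r i _).mp h1

theorem degPres_chπ (L : Ideal (MvPolynomial (Fin (r + 1)) k)) (q : ℕ) (a : ℤ)
    (I : Finset (Fin N)) :
    DegPres (truncN (chGrZ k r N L q a)) (truncN (idGrZ k r L a)) (chπ L q I) :=
  fun _ _ hz => hz I

theorem degPres_chι (L : Ideal (MvPolynomial (Fin (r + 1)) k)) (q : ℕ) (a : ℤ)
    (I : Finset (Fin N)) (hI : I.card = q) :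
    DegPres (truncN (idGrZ k r L a)) (truncN (chGrZ k r N L q a)) (chι L q I hI) := by
  intro i w hw I'
  show (Pi.single I w.1 : Finset (Fin N) → MvPolynomial (Fin (r + 1)) k) I' ∈ _
  by_cases h : I' = I
  · subst h
    rw [Pi.single_eq_same]
    exact hw
  · rw [Pi.single_eq_of_ne h]
    exact Submodule.zero_mem _

theorem homAnn_chGr (L : Ideal (MvPolynomial (Fin (r + 1)) k)) (q : ℕ) (a : ℤ) :
    HomAnn (CohB1.polyGrading r k) (truncN (chGrZ k r N L q a)) := by
  intro i z _ u hu l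
  by_cases hu0 : u = 0
  · subst hu0
    rw [decompose_zero, DirectSum.zero_apply, ZeroMemClass.coe_zero, zero_smul]
  · have hz : z = 0 := by
      apply chMod_ext
      intro I
      have h : u * z.1 I = 0 := congrFun (congrArg Subtype.val hu) I
      exact (mul_eq_zero.mp h).resolve_left hu0
    rw [hz, smul_zero]

theorem homAnn_idealGr (L : Ideal (MvPolynomial (Fin (r + 1)) k)) :
    HomAnn (CohB1.polyGrading r k) (idealGr k r L) := by
  intro i z _ u hu l
  by_cases hu0 : u = 0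
  · subst hu0
    rw [decompose_zero, DirectSum.zero_apply, ZeroMemClass.coe_zero, zero_smul]
  · have hz : z = 0 := by
      apply Subtype.ext
      have h : u * z.1 = 0 := congrArg Subtype.val hu
      exact (mul_eq_zero.mp h).resolve_left hu0
    rw [hz, smul_zero]

end Chains

end Groth.Agent.Lib.ReesH1
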