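import Mathlib
import Groth.Prelude
import Groth.Agent.Lib.RegZero_helper9
import Groth.Agent.Lib.Snap42_helper9
import Groth.Agent.Lib.CohDev9_helper8
import Groth.Agent.S0022
import Groth.Agent.S2357

/-!
# Regularity of the cokernel and image of a complex on `P^n` exact off dimension `≤ 1` (helper9)
APPEND-ONLY once landed.
-/

set_option autoImplicit false
universe u
open CategoryTheory CategoryTheory.Limits AlgebraicGeometry TopologicalSpace Opposite MvPolynomial

namespace RegCx

open Groth.Agent.ProjCech Groth.Agent.ProjFin Groth.Agent.TensInv Groth.Agent.HHVan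
  Groth.Agent.ProjTens

variable (k : Type u) [Field k] (n : ℕ)

/-- vanishing of `H^j(F(a))` -/
def V (F : (CohB1.ProjSpace n k).Modules) (j : ℕ) (a : ℤ) : Prop :=
  Subsingleton (Coh.HH (CohB1.ProjSpace n k) (CohB1.tensorMod F (OO n k a)) j)

variable {k n}

theorem V_of_iso {F G : (CohB1.ProjSpace n k).Modules} (e : F ≅ G) (j : ℕ) (a : ℤ)
    (h : V k n F j a) : V k n G j a :=
  subsingleton_of_iso ((tR (OO n k a)).mapIso e) j h

theorem V_of_isZero {F : (CohB1.ProjSpace n k).Modules} (hF : IsZero F) (j : ℕ) (a : ℤ) :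
    V k n F j a :=
  Snap9.subsingleton_HH_of_isZero' _ (Snap9.isZero_tensorMod_of_isZero _ hF) j

theorem V_of_gt {F : (CohB1.ProjSpace n k).Modules} (hF : Coh.IsQCoh F) (j : ℕ) (hj : n < j)
    (a : ℤ) : V k n F j a := by
  haveI : Coh.IsQCoh (CohB1.tensorMod F (OO n k a)) := isQCoh_twistBy n k F hF a
  exact Groth.Agent.S0022.result n k _ j hj

theorem V_of_reg {F : (CohB1.ProjSpace n k).Modules} (hF : Coh.IsQCoh F) (m : ℤ)
    (h : Curv2.IsMRegular k n F m) (j : ℕ) (hj : 1 ≤ j) : V k n F j (m - j) := by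
  by_cases hn : j ≤ n
  · exact h j hj hn
  · exact V_of_gt hF j (by omega) _

theorem V_of_dim {F : (CohB1.ProjSpace n k).Modules} (hF : Coh.IsCoh F)
    (hdim : topologicalKrullDim (CohB1.support F) ≤ 1) (j : ℕ) (hj : 2 ≤ j) (a : ℤ) :
    V k n F j a := by
  haveI hNoeth : AlgebraicGeometry.IsNoetherian (CohB1.ProjSpace n k) :=
    Groth.Agent.S2357.result (𝒜 n k)
  haveI : SheafOfModules.IsFiniteType (R := (CohB1.ProjSpace n k).ringCatSheaf) F := hF.2
  have hcl : IsClosed (CohB1.support F) := SuppFT.isClosed_support F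
  let Z : Closeds (CohB1.ProjSpace n k) := ⟨CohB1.support F, hcl⟩
  have hZ : Groth.Agent.Lib.GVanH2.dimC (X := (CohB1.ProjSpace n k).toTopCat) Z
      < ((2 : ℕ) : WithBot ℕ∞) := by
    rw [Snap9.dimC_eq]
    refine lt_of_le_of_lt hdim ?_
    norm_num
  exact Snap9.subsingleton_HH_of_dimC 2 Z hZ _
    (Groth.Agent.RegZero.support_twistBy_subset n k F hF a) j hj

section Abelian

variable {B C : (CohB1.ProjSpace n k).Modules} (t : B ⟶ C)

theorem shortExact_image :
    (ShortComplex.mk (Abelian.image.ι t) (cokernel.π t) (kernel.condition _)).ShortExact :=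
  ShortComplex.ShortExact.mk'
    ((ShortComplex.mk (Abelian.image.ι t) (cokernel.π t) (kernel.condition _)).exact_of_f_is_kernel
      (kernelIsKernel (cokernel.π t)))
    (inferInstanceAs (Mono (kernel.ι (cokernel.π t)))) (inferInstanceAs (Epi (cokernel.π t)))

theorem V_image (j : ℕ) (a : ℤ) (hB : V k n B j a) (hK : V k n (kernel t) (j + 1) a) :
    V k n (Abelian.image t) j a := by
  have hS := Snap9.shortExact_cokernel (kernel.ι t)
  have hS' := shortExact_twist n k _ hS a
  have h := subsingleton_right _ hS' j hB hK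
  exact V_of_iso (Abelian.coimageIsoImage t) j a h

theorem V_of_image (j : ℕ) (a : ℤ) (hI : V k n (Abelian.image t) j a)
    (hQ : V k n (cokernel t) j a) : V k n C j a := by
  have hS' := shortExact_twist n k _ (shortExact_image t) a
  exact subsingleton_mid _ hS' j hI hQ

theorem V_cokernel (j : ℕ) (a : ℤ) (hC : V k n C j a)
    (hI : V k n (Abelian.image t) (j + 1) a) : V k n (cokernel t) j a := by
  have hS' := shortExact_twist n k _ (shortExact_image t) a
  exact subsingleton_right _ hS' j hC hI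

theorem V_four (j : ℕ) (a : ℤ) (hB : V k n B j a) (hK : V k n (kernel t) (j + 1) a)
    (hQ : V k n (cokernel t) j a) : V k n C j a :=
  V_of_image t j a (V_image t j a hB hK) hQ

end Abelian

section Complex

variable (E : ChainComplex ((CohB1.ProjSpace n k).Modules) ℕ)

/-- `ker (E_{s+1} → Z_s) ≅ Z_{s+1}` -/
noncomputable def kernelToCyclesIso (s : ℕ) : kernel (E.toCycles (s + 1) s) ≅ E.cycles (s + 1) :=
  (kernelCompMono (E.toCycles (s + 1) s) (E.iCycles s)).symm ≪≫
    kernel.mapIso _ _ (Iso.refl _) (Iso.refl _) (by simp) ≪≫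
    (IsLimit.conePointUniqueUpToIso (kernelIsKernel (E.d (s + 1) s))
      (E.cyclesIsKernel (s + 1) s (ChainComplex.next_nat_succ s)))

/-- `ker (E_{s+1} → E_s) ≅ Z_{s+1}` -/
noncomputable def kernelDIso (s : ℕ) : kernel (E.d (s + 1) s) ≅ E.cycles (s + 1) :=
  IsLimit.conePointUniqueUpToIso (kernelIsKernel (E.d (s + 1) s))
    (E.cyclesIsKernel (s + 1) s (ChainComplex.next_nat_succ s))

/-- `coker (E_{s+1} → Z_s) ≅ H_s` -/
noncomputable def cokernelToCyclesIso (s : ℕ) :
    cokernel (E.toCycles (s + 1) s) ≅ E.homology s :=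
  IsColimit.coconePointUniqueUpToIso (cokernelIsCokernel (E.toCycles (s + 1) s))
    (E.homologyIsCokernel (s + 1) s (ChainComplex.prev ℕ s))

end Complex

section Main

variable (E : ChainComplex ((CohB1.ProjSpace n k).Modules) ℕ)
  (hcoh : ∀ s : ℕ, Coh.IsCoh (E.X s))

include hcoh in
theorem isCoh_cycles (s : ℕ) : Coh.IsCoh (E.cycles (s + 1)) := by
  haveI hNoeth : AlgebraicGeometry.IsNoetherian (CohB1.ProjSpace n k) :=
    Groth.Agent.S2357.result (𝒜 n k)
  exact CohDevH8.isCoh_of_iso (kernelDIso E s).symm (CohKerH8.isCoh_kernel (hcoh _) (hcoh _) _)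

include hcoh in
theorem isCoh_homology (s : ℕ) : Coh.IsCoh (E.homology (s + 1)) := by
  haveI hNoeth : AlgebraicGeometry.IsNoetherian (CohB1.ProjSpace n k) :=
    Groth.Agent.S2357.result (𝒜 n k)
  exact CohDevH8.isCoh_of_iso (cokernelToCyclesIso E (s + 1)).symm
    (CohKerH8.isCoh_cokernel (hcoh _) (isCoh_cycles E hcoh s) _)

variable (d : ℤ) (hreg : ∀ s : ℕ, Curv2.IsMRegular k n (E.X s) (d + s))
  (hsupp : ∀ i : ℕ, 0 < i → topologicalKrullDim (CohB1.support (E.homology i)) ≤ 1)

/-- the inductive statement on the cycles -/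
def Q (s : ℕ) : Prop := ∀ j : ℕ, 2 ≤ j → V k n (E.cycles s) j (d + s + 1 - j)

include hcoh hreg hsupp in
theorem Q_step (s : ℕ) (h : Q E d (s + 1 + 1)) : Q E d (s + 1) := by
  intro j hj
  refine V_four (E.toCycles (s + 1 + 1) (s + 1)) j _ ?_ ?_ ?_
  · have h1 := V_of_reg (hcoh (s + 1 + 1)).1 _ (hreg (s + 1 + 1)) j (by omega)
    have e : d + ((s + 1 + 1 : ℕ) : ℤ) - (j : ℤ) = d + ((s + 1 : ℕ) : ℤ) + 1 - j := by
      push_cast; ring
    rw [e] at h1
    exact h1
  · have h1 := h (j + 1) (by omega)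
    have e : d + ((s + 1 + 1 : ℕ) : ℤ) + 1 - ((j + 1 : ℕ) : ℤ) = d + ((s + 1 : ℕ) : ℤ) + 1 - j := by
      push_cast; ring
    rw [e] at h1
    exact V_of_iso (kernelToCyclesIso E (s + 1)).symm _ _ h1
  · exact V_of_iso (cokernelToCyclesIso E (s + 1)).symm _ _
      (V_of_dim (isCoh_homology E hcoh s) (hsupp (s + 1) (by omega)) j hj _)

variable (t : ℕ) (hbdd : ∀ s : ℕ, t < s → IsZero (E.X s))

include hcoh hreg hsupp hbdd in
theorem Q_all : ∀ (r s : ℕ), t < s + 1 + r → Q E d (s + 1) := by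
  intro r
  induction r with
  | zero =>
    intro s hs j hj
    exact V_of_isZero (IsZero.of_mono (E.iCycles (s + 1)) (hbdd (s + 1) (by omega))) _ _
  | succ r ih =>
    intro s hs
    exact Q_step E hcoh d hreg hsupp s (ih (s + 1) (by omega))

include hcoh hreg hsupp hbdd in
theorem V_image_all (i : ℕ) (hi : 1 ≤ i) : V k n (Abelian.image (E.d 1 0)) i (d + 1 - i) := by
  refine V_image (E.d 1 0) i _ ?_ ?_
  · have h1 := V_of_reg (hcoh 1).1 _ (hreg 1) i hi
    have e : d + ((1 : ℕ) : ℤ) - (i : ℤ) = d + 1 - i := by push_cast; ring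
    rw [e] at h1
    exact h1
  · have h1 := Q_all E hcoh d hreg hsupp t hbdd t 0 (by omega) (i + 1) (by omega)
    have e : d + ((0 + 1 : ℕ) : ℤ) + 1 - ((i + 1 : ℕ) : ℤ) = d + 1 - i := by push_cast; ring
    rw [e] at h1
    exact V_of_iso (kernelDIso E 0).symm _ _ h1

include hcoh hreg hsupp hbdd in
theorem main :
    Curv2.IsMRegular k n (cokernel (E.d 1 0)) d ∧
      Curv2.IsMRegular k n (Abelian.image (E.d 1 0)) (d + 1) := by
  refine ⟨?_, ?_⟩
  · intro i hi hn
    refine V_cokernel (E.d 1 0) i _ ?_ ?_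
    · have h1 := hreg 0 i hi hn
      have e : d + ((0 : ℕ) : ℤ) - (i : ℤ) = d - i := by push_cast; ring
      rw [e] at h1
      exact h1
    · have h1 := V_image_all E hcoh d hreg hsupp t hbdd (i + 1) (by omega)
      have e : d + 1 - ((i + 1 : ℕ) : ℤ) = d - i := by push_cast; ring
      rw [e] at h1
      exact h1
  · intro i hi hn
    exact V_image_all E hcoh d hreg hsupp t hbdd i hi

end Main

end RegCx
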