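import Mathlib
import Groth.Prelude
import Groth.Agent.Lib.TlMap4_helper1
import Groth.Agent.S12910
import Groth.Agent.Lib.Horrocks4_helper9
import Groth.Agent.Lib.SyzTw2_helper9
import Groth.Agent.Lib.CycLen8_helper8

/-!
# Regularity of the sheaf of a graded module from its minimal free resolution (helper1)
-/

set_option autoImplicit false

namespace Groth.Agent.Lib.TlMapH1

universe u

open CategoryTheory CategoryTheory.Limits AlgebraicGeometry TopologicalSpace Opposite
open Groth.Agent.HHVan Groth.Agent.ProjTens Groth.Agent.TensInv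

theorem dim_empty_le {X : Type*} [TopologicalSpace X] (S : Set X) (h : S = ∅) :
    topologicalKrullDim S ≤ 1 := by
  subst h
  have : IsEmpty (TopologicalSpace.IrreducibleCloseds (↥(∅ : Set X))) := by
    constructor
    intro Z
    obtain ⟨x, _⟩ := Z.isIrreducible.nonempty
    exact (Set.mem_empty_iff_false _).mp x.2
  unfold topologicalKrullDim
  rw [Order.krullDim_eq_bot]
  exact bot_le

section Final

variable (k : Type u) [Field k] (r : ℕ)
    (M : Type u) [AddCommGroup M] [Module k M] [Module (MvPolynomial (Fin (r + 1)) k) M]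
    [IsScalarTower k (MvPolynomial (Fin (r + 1)) k) M]
    (ℳ : ℤ → Submodule k M) [DirectSum.Decomposition ℳ]
    [SetLike.GradedSMul (GrSyz.stdGr k (Fin (r + 1))) ℳ]
    (F : GrSyz.FreeRes (GrSyz.stdGr k (Fin (r + 1))) ℳ)

theorem isCoh_EX (s : ℕ) : Coh.IsCoh (EX k r M ℳ F s) :=
  Groth.Agent.SyzTw.isCoh_of_isSumTw r k
    ⟨F.rk s, fun b => -(F.deg s b), nonempty_EX_iso k r M ℳ F s⟩

theorem isMRegular_EX (d : ℤ) (hd : F.IsGenLE d) (s : ℕ) :
    Curv2.IsMRegular k r (EX k r M ℳ F s) (d + s) := by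
  obtain ⟨e⟩ := nonempty_EX_iso k r M ℳ F s
  intro i hi hir
  have h1 := Groth.Agent.Horrocks.subsingleton_HH_sum_twists r k (fun b => -(F.deg s b))
    (d + s - i) i (fun b => ⟨by omega, by
      have h2 := hd s b
      omega⟩)
  exact subsingleton_of_iso ((tR (OO r k (d + s - i))).mapIso e.symm) i h1

theorem dim_support_homology (i : ℕ) (hi : 0 < i) :
    topologicalKrullDim (CohB1.support ((Ecx k r M ℳ F).homology i)) ≤ 1 := by
  obtain ⟨j, rfl⟩ : ∃ j, i = j + 1 := ⟨i - 1, by omega⟩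
  exact dim_empty_le _ (CycLenH8.support_eq_empty_of_isZero (isZero_homology k r M ℳ F j))

end Final

section Main

variable (k : Type u) [Field k] (r : ℕ)
    (M : Type u) [AddCommGroup M] [Module k M] [Module (MvPolynomial (Fin (r + 1)) k) M]
    [IsScalarTower k (MvPolynomial (Fin (r + 1)) k) M]
    (ℳ : ℤ → Submodule k M) [DirectSum.Decomposition ℳ]
    [SetLike.GradedSMul (GrSyz.stdGr k (Fin (r + 1))) ℳ]

/-- `reg M~ ≤ reg M` -/
theorem main15434 (d : ℤ)
    (hd : GrSyz.IsRegLE (GrSyz.stdGr k (Fin (r + 1))) ℳ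
      (GrSyz.irrel (GrSyz.stdGr k (Fin (r + 1)))).toIdeal d) :
    Curv2.IsMRegular k r (MT k r M ℳ) d := by
  obtain ⟨F, hF, hgen⟩ := hd
  obtain ⟨e⟩ := nonempty_cokernel_iso_MT k r M ℳ F
  have h := (Groth.Agent.S12910.result k r (Ecx k r M ℳ F) (r + 1)
    (fun s hs => isZero_EX_of_minimal k r M ℳ F hF s hs)
    (fun s => isCoh_EX k r M ℳ F s) d
    (fun s => isMRegular_EX k r M ℳ F d hgen s)
    (fun i hi => dim_support_homology k r M ℳ F i hi)).1
  exact fun i hi hir =>
    subsingleton_of_iso ((tR (OO r k (d - i))).mapIso e) i (h i hi hir)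

end Main

end Groth.Agent.Lib.TlMapH1
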