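import Mathlib
import Groth.Prelude
import Groth.Agent.Lib.Rees2_helper1
import Groth.Agent.Lib.TlMap5_helper1
import Groth.Agent.Lib.ProjTwMod_helper5
import Groth.Agent.Lib.ProjFin2_helper9
import Groth.Agent.Lib.CurveDegAdd1_helper9
import Groth.Agent.Lib.RegZero_helper9

/-!
# The sheafified Koszul strands of the Rees algebra on projective space (helper1)
-/

set_option autoImplicit false

namespace Groth.Agent.Lib.ReesH1

open CategoryTheory CategoryTheory.Limits AlgebraicGeometry TopologicalSpace Opposite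
open Groth.Agent.Lib.KzH1 Groth.Agent.Lib.TlMapH1 DirectSum
open Groth.Agent.HHVan Groth.Agent.ProjTens Groth.Agent.TensInv

universe u

section CatGen

variable {C : Type*} [Category C] [Abelian C] (X : ℕ → C) (d : ∀ s, X (s + 1) ⟶ X s)
  (sq : ∀ s, d (s + 1) ≫ d s = 0)

theorem of_exactAt (s : ℕ) (hex : (ShortComplex.mk (d (s + 1)) (d s) (sq s)).Exact) :
    (ChainComplex.of X d sq).ExactAt (s + 1) := by
  rw [(ChainComplex.of X d sq).exactAt_iff' (s + 2) (s + 1) s (by simp) (by simp)]
  have e : ShortComplex.mk (d (s + 1)) (d s) (sq s) ≅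
      (ChainComplex.of X d sq).sc' (s + 2) (s + 1) s := by
    refine ShortComplex.isoMk (Iso.refl _) (Iso.refl _) (Iso.refl _) ?_ ?_
    · exact (Category.id_comp _).trans
        ((ChainComplex.of_d X d (s + 1)).trans (Category.comp_id _).symm)
    · exact (Category.id_comp _).trans
        ((ChainComplex.of_d X d s).trans (Category.comp_id _).symm)
  exact ShortComplex.exact_of_iso e hex

theorem of_isZero_homology (s : ℕ) (hex : (ShortComplex.mk (d (s + 1)) (d s) (sq s)).Exact) :
    IsZero ((ChainComplex.of X d sq).homology (s + 1)) :=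
  (HomologicalComplex.exactAt_iff_isZero_homology _ _).mp (of_exactAt X d sq s hex)

theorem of_cokernel_iso {Y : C} (aug : X 0 ⟶ Y) (sq0 : d 0 ≫ aug = 0)
    (hex0 : (ShortComplex.mk (d 0) aug sq0).Exact) [Epi aug] :
    Nonempty (cokernel ((ChainComplex.of X d sq).d 1 0) ≅ Y) := by
  obtain ⟨e⟩ := nonempty_cokernel_iso (d 0) aug sq0 hex0
  exact ⟨cokernelIsoOfEq (ChainComplex.of_d X d 0) ≪≫ e⟩

/-- an object with a finite decomposition into copies of `Y` is a coproduct of copies of `Y` -/
theorem nonempty_iso_sigma_const {c : ℕ} (P Y : C) (π : Fin c → (P ⟶ Y)) (ι : Fin c → (Y ⟶ P))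
    (hsame : ∀ b, ι b ≫ π b = 𝟙 Y) (hne : ∀ b b', b ≠ b' → ι b ≫ π b' = 0)
    (htot : ∑ b, π b ≫ ι b = 𝟙 P) : Nonempty (P ≅ ∐ fun _ : Fin c => Y) := by
  let B : Bicone (fun _ : Fin c => Y) :=
    { pt := P
      π := π
      ι := ι
      ι_π := by
        intro j j'
        by_cases h : j = j'
        · subst h
          rw [dif_pos rfl, eqToHom_refl]
          exact hsame j
        · rw [dif_neg h]
          exact hne j j' h }
  have hB : B.IsBilimit := isBilimitOfTotal B htot
  exact ⟨hB.isColimit.coconePointUniqueUpToIso (coproductIsCoproduct _)⟩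

end CatGen

section Dec

variable (k : Type u) [Field k] (r : ℕ)

theorem isInternal_idealGr (L : Ideal (MvPolynomial (Fin (r + 1)) k))
    (hL : L.IsHomogeneous (CohB1.polyGrading r k)) :
    DirectSum.IsInternal (idealGr k r L) := by
  classical
  apply DirectSum.isInternal_submodule_of_iSupIndep_of_iSup_eq_top
  · have hind : iSupIndep (CohB1.polyGrading r k) :=
      (DirectSum.Decomposition.isInternal (CohB1.polyGrading r k)).submodule_iSupIndep
    intro i
    rw [Submodule.disjoint_def]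
    intro x hxi hxs
    have h1 : (x : MvPolynomial (Fin (r + 1)) k) ∈ CohB1.polyGrading r k i := hxi
    have h2 : (x : MvPolynomial (Fin (r + 1)) k) ∈
        ⨆ (j) (_ : j ≠ i), CohB1.polyGrading r k j := by
      have hmap : Submodule.map ((Submodule.subtype L).restrictScalars k)
          (⨆ (j) (_ : j ≠ i), idealGr k r L j) ≤ ⨆ (j) (_ : j ≠ i), CohB1.polyGrading r k j := by
        rw [Submodule.map_iSup]
        refine iSup_mono fun j => ?_
        rw [Submodule.map_iSup]
        refine iSup_mono fun _ => ?_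
        exact Submodule.map_comap_le _ _
      exact hmap (Submodule.mem_map_of_mem hxs)
    exact Subtype.ext ((Submodule.disjoint_def.mp (hind i)) _ h1 h2)
  · rw [eq_top_iff]
    intro w _
    have hw : w = ∑ i ∈ (decompose (CohB1.polyGrading r k) w.1).support,
        (⟨(decompose (CohB1.polyGrading r k) w.1 i : MvPolynomial (Fin (r + 1)) k),
          hL i w.2⟩ : ↥L) := by
      apply Subtype.ext
      rw [Submodule.coe_sum]
      exact (DirectSum.sum_support_decompose (CohB1.polyGrading r k) w.1).symm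
    rw [hw]
    refine Submodule.sum_mem _ fun i _ => ?_
    exact Submodule.mem_iSup_of_mem i
      (show _ ∈ idealGr k r L i from (decompose (CohB1.polyGrading r k) w.1 i).2)

/-- the decomposition of a homogeneous ideal into its graded pieces -/
noncomputable def decIdealGr (L : Ideal (MvPolynomial (Fin (r + 1)) k))
    (hL : L.IsHomogeneous (CohB1.polyGrading r k)) : DirectSum.Decomposition (idealGr k r L) :=
  (isInternal_idealGr k r L hL).chooseDecomposition

end Dec

section Sheaves

variable (k : Type u) [Field k] (r : ℕ) (N : ℕ)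

/-- the sheaf of the module of chains -/
noncomputable def EQ (L : Ideal (MvPolynomial (Fin (r + 1)) k)) (q : ℕ) (a : ℤ) :
    (CohB1.ProjSpace r k).Modules :=
  GrTilde.tilde (CohB1.polyGrading r k) (truncN (chGrZ k r N L q a)) 0

/-- the sheaf of a shifted ideal -/
noncomputable def YL (L : Ideal (MvPolynomial (Fin (r + 1)) k)) (a : ℤ) :
    (CohB1.ProjSpace r k).Modules :=
  GrTilde.tilde (CohB1.polyGrading r k) (truncN (idGrZ k r L a)) 0

theorem isZero_EQ (L : Ideal (MvPolynomial (Fin (r + 1)) k)) (q : ℕ) (a : ℤ) (hq : N < q) :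
    IsZero (EQ k r N L q a) := by
  rw [IsZero.iff_id_eq_zero]
  have e : (LinearMap.id : ↥(chMod k r N L q) →ₗ[MvPolynomial (Fin (r + 1)) k]
      ↥(chMod k r N L q)) = 0 := by
    apply LinearMap.ext
    intro z
    apply chMod_ext
    intro I
    refine z.2.1 I ?_
    have h1 : I.card ≤ N := by
      have h2 := Finset.card_le_univ I
      rwa [Fintype.card_fin] at h2
    omega
  exact (tMap_id (CohB1.polyGrading r k) (truncN (chGrZ k r N L q a)) 0).symm.trans
    ((tMap_congr (CohB1.polyGrading r k) (truncN (chGrZ k r N L q a))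
      (truncN (chGrZ k r N L q a)) 0 e (degPres_id _) (degPres_zero _ _)).trans
    (tMap_zero (CohB1.polyGrading r k) (truncN (chGrZ k r N L q a))
      (truncN (chGrZ k r N L q a)) 0))

/-- the sheaf of chains is a finite sum of copies of the sheaf of the shifted ideal -/
theorem nonempty_EQ_iso (L : Ideal (MvPolynomial (Fin (r + 1)) k)) (q : ℕ) (a : ℤ) :
    Nonempty (EQ k r N L q a ≅
      ∐ fun _ : Fin (Fintype.card {I : Finset (Fin N) // I.card = q}) => YL k r L a) := by
  classical
  let e : Fin (Fintype.card {I : Finset (Fin N) // I.card = q}) ≃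
      {I : Finset (Fin N) // I.card = q} := (Fintype.equivFin _).symm
  refine nonempty_iso_sigma_const (EQ k r N L q a) (YL k r L a)
    (fun b => tMap (CohB1.polyGrading r k) (truncN (chGrZ k r N L q a))
      (truncN (idGrZ k r L a)) 0 (chπ L q (e b).1) (degPres_chπ L q a (e b).1))
    (fun b => tMap (CohB1.polyGrading r k) (truncN (idGrZ k r L a))
      (truncN (chGrZ k r N L q a)) 0 (chι L q (e b).1 (e b).2) (degPres_chι L q a (e b).1 (e b).2))
    ?_ ?_ ?_
  · intro b
    exact (tMap_comp (CohB1.polyGrading r k) (truncN (idGrZ k r L a))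
      (truncN (chGrZ k r N L q a)) (truncN (idGrZ k r L a)) 0 _ (degPres_chι L q a _ _) _
      (degPres_chπ L q a _)).trans
      ((tMap_congr (CohB1.polyGrading r k) (truncN (idGrZ k r L a)) (truncN (idGrZ k r L a)) 0
        (chπ_chι_same L q (e b).1 (e b).2) _ (degPres_id _)).trans
      (tMap_id (CohB1.polyGrading r k) (truncN (idGrZ k r L a)) 0))
  · intro b b' hbb'
    have hne : (e b').1 ≠ (e b).1 := fun h => hbb' (e.injective (Subtype.ext h)).symm
    exact (tMap_comp (CohB1.polyGrading r k) (truncN (idGrZ k r L a))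
      (truncN (chGrZ k r N L q a)) (truncN (idGrZ k r L a)) 0 _ (degPres_chι L q a _ _) _
      (degPres_chπ L q a _)).trans
      ((tMap_congr (CohB1.polyGrading r k) (truncN (idGrZ k r L a)) (truncN (idGrZ k r L a)) 0
        (chπ_chι_ne L q (e b).1 (e b').1 (e b).2 hne) _ (degPres_zero _ _)).trans
      (tMap_zero (CohB1.polyGrading r k) (truncN (idGrZ k r L a)) (truncN (idGrZ k r L a)) 0))
  · have hsum : ∑ b, chι L q (e b).1 (e b).2 ∘ₗ chπ L q (e b).1 =
        (LinearMap.id : ↥(chMod k r N L q) →ₗ[MvPolynomial (Fin (r + 1)) k] _) := by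
      rw [← sum_chι_chπ L q]
      exact Equiv.sum_comp e (fun I => chι L q I.1 I.2 ∘ₗ chπ L q I.1)
    have hdeg : DegPres (truncN (chGrZ k r N L q a)) (truncN (chGrZ k r N L q a))
        (∑ b, chι L q (e b).1 (e b).2 ∘ₗ chπ L q (e b).1) := by
      rw [hsum]
      exact degPres_id _
    refine (Finset.sum_congr rfl (fun b _ =>
      tMap_comp (CohB1.polyGrading r k) (truncN (chGrZ k r N L q a))
        (truncN (idGrZ k r L a)) (truncN (chGrZ k r N L q a)) 0 _ (degPres_chπ L q a _) _
        (degPres_chι L q a _ _))).trans ?_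
    refine (tMap_sum (CohB1.polyGrading r k) (truncN (chGrZ k r N L q a))
      (truncN (chGrZ k r N L q a)) 0 Finset.univ
      (fun b => chι L q (e b).1 (e b).2 ∘ₗ chπ L q (e b).1)
      (fun b => (degPres_chι L q a _ _).comp (degPres_chπ L q a _)) hdeg).trans ?_
    exact (tMap_congr (CohB1.polyGrading r k) (truncN (chGrZ k r N L q a))
      (truncN (chGrZ k r N L q a)) 0 hsum hdeg (degPres_id _)).trans
      (tMap_id (CohB1.polyGrading r k) (truncN (chGrZ k r N L q a)) 0)

variable {N}

theorem compat_idGr_to (L : Ideal (MvPolynomial (Fin (r + 1)) k)) (a : ℤ) :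
    Compat (truncN (idGrZ k r L a)) (idealGr k r L) 0 (-a)
      (LinearMap.id : ↥L →ₗ[MvPolynomial (Fin (r + 1)) k] ↥L) := by
  intro i j m hm hij
  have hm' : (m : MvPolynomial (Fin (r + 1)) k) ∈ GrSyz.stdGr k (Fin (r + 1)) ((i : ℤ) - a) := hm
  by_cases hneg : (i : ℤ) - a < 0
  · left
    exact Subtype.ext (eq_zero_of_mem_stdGr_neg k r hneg hm')
  · right
    have h0 : 0 ≤ (i : ℤ) - a := by omega
    refine ⟨((i : ℤ) - a).toNat, ?_, ?_⟩
    · rw [Int.toNat_of_nonneg h0]
      omega
    · show (m : MvPolynomial (Fin (r + 1)) k) ∈ CohB1.polyGrading r k ((i : ℤ) - a).toNat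
      rw [← mem_stdGr_natCast, Int.toNat_of_nonneg h0]
      exact hm'

theorem compat_idGr_from (L : Ideal (MvPolynomial (Fin (r + 1)) k)) (a : ℤ) :
    Compat (idealGr k r L) (truncN (idGrZ k r L a)) (-a) 0
      (LinearMap.id : ↥L →ₗ[MvPolynomial (Fin (r + 1)) k] ↥L) := by
  intro i j m hm hij
  right
  refine ⟨j, by simp, ?_⟩
  show (m : MvPolynomial (Fin (r + 1)) k) ∈ GrSyz.stdGr k (Fin (r + 1)) ((j : ℤ) - a)
  have e : (j : ℤ) - a = (i : ℤ) := by omega
  rw [e]
  exact (mem_stdGr_natCast k r i _).mpr hm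

/-- `L(-a)~ ≅ L~(-a)` -/
noncomputable def idShiftIso (L : Ideal (MvPolynomial (Fin (r + 1)) k)) (a : ℤ) :
    YL k r L a ≅ GrTilde.tilde (CohB1.polyGrading r k) (idealGr k r L) (-a) where
  hom := tildeMap (CohB1.polyGrading r k) (truncN (idGrZ k r L a)) (idealGr k r L) 0 (-a)
    LinearMap.id (compat_idGr_to k r L a)
  inv := tildeMap (CohB1.polyGrading r k) (idealGr k r L) (truncN (idGrZ k r L a)) (-a) 0
    LinearMap.id (compat_idGr_from k r L a)
  hom_inv_id :=
    (tildeMap_comp (CohB1.polyGrading r k) (truncN (idGrZ k r L a)) (idealGr k r L)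
      (truncN (idGrZ k r L a)) 0 (-a) 0 LinearMap.id (compat_idGr_to k r L a) LinearMap.id
      (compat_idGr_from k r L a)
      (compat_of_deg (truncN (idGrZ k r L a)) (truncN (idGrZ k r L a)) (fun _ _ hm => hm) 0)).trans
    ((tildeMap_congr (CohB1.polyGrading r k) (truncN (idGrZ k r L a)) (truncN (idGrZ k r L a)) 0 0
      (LinearMap.id ∘ₗ LinearMap.id) _ (LinearMap.id_comp _)
      (compat_of_deg (truncN (idGrZ k r L a)) (truncN (idGrZ k r L a)) (fun _ _ hm => hm) 0)).trans
    (tildeMap_id (CohB1.polyGrading r k) (truncN (idGrZ k r L a)) 0 _))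
  inv_hom_id :=
    (tildeMap_comp (CohB1.polyGrading r k) (idealGr k r L) (truncN (idGrZ k r L a))
      (idealGr k r L) (-a) 0 (-a) LinearMap.id (compat_idGr_from k r L a) LinearMap.id
      (compat_idGr_to k r L a)
      (compat_of_deg (idealGr k r L) (idealGr k r L) (fun _ _ hm => hm) (-a))).trans
    ((tildeMap_congr (CohB1.polyGrading r k) (idealGr k r L) (idealGr k r L)
      (-a) (-a) (LinearMap.id ∘ₗ LinearMap.id) _ (LinearMap.id_comp _)
      (compat_of_deg (idealGr k r L) (idealGr k r L) (fun _ _ hm => hm) (-a))).trans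
    (tildeMap_id (CohB1.polyGrading r k) (idealGr k r L) (-a) _))

/-- `L(-a)~ ≅ L~ ⊗ O(-a)` for a homogeneous ideal `L` -/
theorem nonempty_YL_iso (L : Ideal (MvPolynomial (Fin (r + 1)) k))
    (hL : L.IsHomogeneous (CohB1.polyGrading r k)) (a : ℤ) :
    Nonempty (YL k r L a ≅ CohB1.tensorMod (idealTilde k r L) (OO r k (-a))) := by
  haveI := decIdealGr k r L hL
  obtain ⟨e⟩ := Groth.Agent.ProjTw.tilde_twist_iso (CohB1.polyGrading r k) (idealGr k r L)
    (hcov' r k) (-a)
  exact ⟨idShiftIso k r L a ≪≫ e⟩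

variable (N)

theorem isCoh_EQ (L : Ideal (MvPolynomial (Fin (r + 1)) k))
    (hL : L.IsHomogeneous (CohB1.polyGrading r k)) (q : ℕ) (a : ℤ)
    (hcoh : Coh.IsCoh (idealTilde k r L)) : Coh.IsCoh (EQ k r N L q a) := by
  haveI : AlgebraicGeometry.IsNoetherian (CohB1.ProjSpace r k) :=
    Groth.Agent.S2357.result (CohB1.polyGrading r k)
  obtain ⟨e1⟩ := nonempty_EQ_iso k r N L q a
  obtain ⟨e2⟩ := nonempty_YL_iso k r L hL a
  have hY : Coh.IsCoh (YL k r L a) :=
    CohDevH8.isCoh_of_iso e2 (Groth.Agent.RegZero.isCoh_twistBy r k (idealTilde k r L) hcoh (-a))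
  exact CohDevH8.isCoh_of_iso e1 (Groth.Agent.ProjFin.isCoh_sigma_fin (YL k r L a) hY _)

theorem isMRegular_EQ (L : Ideal (MvPolynomial (Fin (r + 1)) k))
    (hL : L.IsHomogeneous (CohB1.polyGrading r k)) (q : ℕ) (a m : ℤ)
    (hreg : Curv2.IsMRegular k r (idealTilde k r L) (m - a)) :
    Curv2.IsMRegular k r (EQ k r N L q a) m := by
  obtain ⟨e1⟩ := nonempty_EQ_iso k r N L q a
  obtain ⟨e2⟩ := nonempty_YL_iso k r L hL a
  intro i hi hir
  obtain ⟨e3⟩ := twist_twist r k (idealTilde k r L) (-a) (m - i) (m - a - i) (by ring)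
  have hY : Subsingleton (Coh.HH (CohB1.ProjSpace r k)
      ((tR (OO r k (m - i))).obj (YL k r L a)) i) :=
    subsingleton_of_iso ((mapR e2 (OO r k (m - i))) ≪≫ e3).symm i (hreg i hi hir)
  have hS := Groth.Agent.Horrocks.subsingleton_HH_sigma (tR (OO r k (m - i)))
    (fun _ : Fin (Fintype.card {I : Finset (Fin N) // I.card = q}) => YL k r L a) i
    (fun _ => hY)
  exact subsingleton_of_iso ((tR (OO r k (m - i))).mapIso e1.symm) i hS

theorem isMRegular_of_isZero' {F : (CohB1.ProjSpace r k).Modules} (hF : IsZero F) (m : ℤ) :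
    Curv2.IsMRegular k r F m := fun i _ _ =>
  CurveDegAdd.HH_subsingleton_of_isZero _ ((tR (OO r k (m - i))).map_isZero hF) i

theorem isMRegular_of_iso' {F G : (CohB1.ProjSpace r k).Modules} (e : F ≅ G) (m : ℤ)
    (h : Curv2.IsMRegular k r F m) : Curv2.IsMRegular k r G m :=
  fun i hi hir => subsingleton_of_iso ((tR (OO r k (m - i))).mapIso e) i (h i hi hir)

end Sheaves

end Groth.Agent.Lib.ReesH1
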