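import Mathlib
import Groth.Prelude
import Groth.Agent.Lib.Rees3_helper1
import Groth.Agent.Lib.CurveIdeal1_helper9
import Groth.Agent.Lib.ProjTens2_helper9
import Groth.Agent.S1642

/-!
# Regularity of the powers of an ideal generated in one degree, on projective space (helper1)
-/

set_option autoImplicit false

namespace Groth.Agent.Lib.ReesH1

open CategoryTheory CategoryTheory.Limits AlgebraicGeometry TopologicalSpace Opposite
open Groth.Agent.Lib.KzH1 Groth.Agent.Lib.TlMapH1 DirectSum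
open Groth.Agent.HHVan Groth.Agent.ProjTens Groth.Agent.TensInv

universe u

section Complex

variable (k : Type u) [Field k] (r : ℕ) {N : ℕ} (s : Fin N → MvPolynomial (Fin (r + 1)) k)
  (d : ℕ) (p : ℕ)

/-- the ideal at level `q` -/
noncomputable def Lq (q : ℕ) : Ideal (MvPolynomial (Fin (r + 1)) k) := JJ s ^ (p - q)

variable {k r}

theorem mul_mem_Lq (q : ℕ) (v : Fin N) (a : MvPolynomial (Fin (r + 1)) k)
    (ha : a ∈ Lq k r s p (q + 1)) : s v * a ∈ Lq k r s p q := by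
  unfold Lq at ha ⊢
  by_cases h : q + 1 ≤ p
  · have e : p - q = (p - (q + 1)) + 1 := by omega
    rw [e, pow_succ']
    exact Ideal.mul_mem_mul (Ideal.subset_span (Set.mem_range_self v)) ha
  · have e : p - q = 0 := by omega
    rw [e, pow_zero, Ideal.one_eq_top]
    exact Submodule.mem_top

variable (k r)

/-- the shift at level `q` -/
def sh (q : ℕ) : ℤ := (d : ℤ) * (q : ℤ)

variable (hs : ∀ v, s v ∈ GrSyz.stdGr k (Fin (r + 1)) (d : ℤ))

include hs in
theorem Lq_hom (q : ℕ) : (Lq k r s p q).IsHomogeneous (CohB1.polyGrading r k) :=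
  JJ_pow_hom (CohB1.polyGrading r k) s
    (fun v => ⟨d, (mem_stdGr_natCast k r d _).mp (hs v)⟩) _

/-- the terms of the complex -/
noncomputable def XQ (s' : ℕ) : (CohB1.ProjSpace r k).Modules :=
  EQ k r N (Lq k r s p (s' + 1)) (s' + 1) (sh d (s' + 1))

include hs in
theorem degPres_dQ (s' : ℕ) :
    DegPres (truncN (chGrZ k r N (Lq k r s p (s' + 1 + 1)) (s' + 1 + 1) (sh d (s' + 1 + 1))))
      (truncN (chGrZ k r N (Lq k r s p (s' + 1)) (s' + 1) (sh d (s' + 1))))
      (chD s (Lq k r s p (s' + 1 + 1)) (Lq k r s p (s' + 1)) (s' + 1)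
        (mul_mem_Lq s p (s' + 1))) :=
  degPres_chD s (d : ℤ) hs _ _ (s' + 1) _ (sh d (s' + 1)) (sh d (s' + 1 + 1)) (by
    unfold sh
    push_cast
    ring)

/-- the differentials -/
noncomputable def dQ (s' : ℕ) : XQ k r s d p (s' + 1) ⟶ XQ k r s d p s' :=
  tMap (CohB1.polyGrading r k) _ _ 0
    (chD s (Lq k r s p (s' + 1 + 1)) (Lq k r s p (s' + 1)) (s' + 1) (mul_mem_Lq s p (s' + 1)))
    (degPres_dQ k r s d p hs s')

theorem chD_comp (L L' L'' : Ideal (MvPolynomial (Fin (r + 1)) k)) (q : ℕ)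
    (h : ∀ v, ∀ a ∈ L, s v * a ∈ L') (h' : ∀ v, ∀ a ∈ L', s v * a ∈ L'') :
    chD s L' L'' q h' ∘ₗ chD s L L' (q + 1) h = 0 := by
  apply LinearMap.ext
  intro z
  apply Subtype.ext
  exact kd_kd (mulOp s) (mulOp s) (fun v w a => by
    simp only [mulOp_apply]
    ring) z.1

theorem augL_comp (L L' L'' : Ideal (MvPolynomial (Fin (r + 1)) k))
    (h : ∀ v, ∀ a ∈ L, s v * a ∈ L') (h' : ∀ v, ∀ a ∈ L', s v * a ∈ L'') :
    augL s L' L'' h' ∘ₗ chD s L L' 1 h = 0 := by
  apply LinearMap.ext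
  intro z
  apply Subtype.ext
  exact congrFun (kd_kd (mulOp s) (mulOp s) (fun v w a => by
    simp only [mulOp_apply]
    ring) z.1) ∅

theorem sqQ (s' : ℕ) : dQ k r s d p hs (s' + 1) ≫ dQ k r s d p hs s' = 0 :=
  tMap_comp_eq_zero (CohB1.polyGrading r k) _ _ _ 0 _ (degPres_dQ k r s d p hs (s' + 1)) _
    (degPres_dQ k r s d p hs s') (chD_comp k r s _ _ _ (s' + 1) _ _)

theorem exact_dQ (hP : StrandExact (GrSyz.stdGr k (Fin (r + 1))) s (d : ℤ) p) (s' : ℕ) :
    (ShortComplex.mk (dQ k r s d p hs (s' + 1)) (dQ k r s d p hs s')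
      (sqQ k r s d p hs s')).Exact := by
  refine tMap_exact (CohB1.polyGrading r k) 0 _ (degPres_dQ k r s d p hs (s' + 1)) _
    (degPres_dQ k r s d p hs s') (chD_comp k r s _ _ _ (s' + 1) _ _) ?_ (homAnn_chGr _ _ _)
  intro i z hz hker
  have hk : kd (mulOp s) z.1 = 0 := congrArg Subtype.val hker
  obtain ⟨w, hwS, hwJ, hwc, hwk⟩ := hP (s' + 1 + 1) (p - (s' + 1 + 1)) (by omega)
    ((i : ℤ) - sh d (s' + 1 + 1)) z.1 z.2.1 z.2.2 (mem_chGrZ.mp hz) hk
  refine ⟨⟨w, hwS, fun I => ?_⟩, ?_, ?_⟩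
  · have h1 := hwJ I
    rw [Nat.sub_sub] at h1
    exact h1
  · intro I
    have h1 := hwc I
    rw [show (i : ℤ) - sh d (s' + 1 + 1) - (d : ℤ) = (i : ℤ) - sh d (s' + 1 + 1 + 1) by
      unfold sh
      push_cast
      ring] at h1
    exact h1
  · exact Subtype.ext hwk

include hs in
theorem degPres_augQ :
    DegPres (truncN (chGrZ k r N (Lq k r s p (0 + 1)) (0 + 1) (sh d (0 + 1))))
      (idealGr k r (Lq k r s p 0))
      (augL s (Lq k r s p (0 + 1)) (Lq k r s p 0) (mul_mem_Lq s p 0)) := by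
  intro i z hz
  have h1 := kd_mem_graded (GrSyz.stdGr k (Fin (r + 1))) s (d : ℤ) hs
    ((i : ℤ) - sh d (0 + 1)) z.1 (mem_chGrZ.mp hz) ∅
  have e : (d : ℤ) + ((i : ℤ) - sh d (0 + 1)) = (i : ℤ) := by
    unfold sh
    push_cast
    ring
  rw [e] at h1
  rw [mem_idealGr, augL_val]
  exact (mem_stdGr_natCast k r i _).mp h1

/-- the augmentation -/
noncomputable def augQ : XQ k r s d p 0 ⟶ idealTilde k r (Lq k r s p 0) :=
  tMap (CohB1.polyGrading r k) _ _ 0
    (augL s (Lq k r s p (0 + 1)) (Lq k r s p 0) (mul_mem_Lq s p 0)) (degPres_augQ k r s d p hs)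

theorem sq0Q : dQ k r s d p hs 0 ≫ augQ k r s d p hs = 0 :=
  tMap_comp_eq_zero (CohB1.polyGrading r k) _ _ _ 0 _ (degPres_dQ k r s d p hs 0) _
    (degPres_augQ k r s d p hs) (augL_comp k r s _ _ _ _ _)

theorem exact_augQ (hP : StrandExact (GrSyz.stdGr k (Fin (r + 1))) s (d : ℤ) p) :
    (ShortComplex.mk (dQ k r s d p hs 0) (augQ k r s d p hs) (sq0Q k r s d p hs)).Exact := by
  refine tMap_exact (CohB1.polyGrading r k) 0 _ (degPres_dQ k r s d p hs 0) _
    (degPres_augQ k r s d p hs) (augL_comp k r s _ _ _ _ _) ?_ (homAnn_idealGr _)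
  intro i z hz hker
  have h0 : kd (mulOp s) z.1 ∅ = 0 := congrArg Subtype.val hker
  have hk : kd (mulOp s) z.1 = 0 := by
    have h1 := eq_pc_of_supp_zero (kd_supp (mulOp s) z.2.1)
    rw [h1, h0]
    funext I
    unfold pc
    split_ifs <;> rfl
  obtain ⟨w, hwS, hwJ, hwc, hwk⟩ := hP (0 + 1) (p - (0 + 1)) (by omega)
    ((i : ℤ) - sh d (0 + 1)) z.1 z.2.1 z.2.2 (mem_chGrZ.mp hz) hk
  refine ⟨⟨w, hwS, fun I => ?_⟩, ?_, ?_⟩
  · have h1 := hwJ I
    rw [Nat.sub_sub] at h1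
    exact h1
  · intro I
    have h1 := hwc I
    rw [show (i : ℤ) - sh d (0 + 1) - (d : ℤ) = (i : ℤ) - sh d (0 + 1 + 1) by
      unfold sh
      push_cast
      ring] at h1
    exact h1
  · exact Subtype.ext hwk

theorem epi_augQ (hP : StrandExact (GrSyz.stdGr k (Fin (r + 1))) s (d : ℤ) p) :
    Epi (augQ k r s d p hs) := by
  refine tMap_epi (CohB1.polyGrading r k) 0 _ (degPres_augQ k r s d p hs) ?_
  intro i w hw
  have hw' : (w : MvPolynomial (Fin (r + 1)) k) ∈ GrSyz.stdGr k (Fin (r + 1)) (i : ℤ) :=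
    (mem_stdGr_natCast k r i _).mpr (mem_idealGr.mp hw)
  have hwL : (w : MvPolynomial (Fin (r + 1)) k) ∈ JJ s ^ p := w.2
  obtain ⟨w', hS, hJ, hc, hk⟩ := hP 0 p (by omega) (i : ℤ)
    (pc (w : MvPolynomial (Fin (r + 1)) k)) (pc_supp _) (fun I => pc_mem hwL I)
    (fun I => pc_mem hw' I) (kd_of_supp_zero _ (pc_supp _))
  refine ⟨⟨w', hS, hJ⟩, ?_, ?_⟩
  · intro I
    have h1 := hc I
    rw [show (i : ℤ) - (d : ℤ) = (i : ℤ) - sh d (0 + 1) by
      unfold sh
      push_cast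
      ring] at h1
    exact h1
  · apply Subtype.ext
    rw [augL_val]
    show kd (mulOp s) w' ∅ = w.1
    rw [hk, pc_empty]

set_option maxHeartbeats 1600000 in
/-- the complex -/
noncomputable def Qcx : ChainComplex (CohB1.ProjSpace r k).Modules ℕ :=
  ChainComplex.of (fun s' => XQ k r s d p s') (fun s' => dQ k r s d p hs s')
    (fun s' => sqQ k r s d p hs s')

theorem isZero_Qcx_homology (hP : StrandExact (GrSyz.stdGr k (Fin (r + 1))) s (d : ℤ) p)
    (j : ℕ) : IsZero ((Qcx k r s d p hs).homology (j + 1)) :=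
  of_isZero_homology _ _ _ j (exact_dQ k r s d p hs hP j)

theorem nonempty_Qcx_cokernel_iso (hP : StrandExact (GrSyz.stdGr k (Fin (r + 1))) s (d : ℤ) p) :
    Nonempty (cokernel ((Qcx k r s d p hs).d 1 0) ≅ idealTilde k r (Lq k r s p 0)) := by
  haveI := epi_augQ k r s d p hs hP
  exact of_cokernel_iso (XQ k r s d p) (dQ k r s d p hs) (sqQ k r s d p hs)
    (augQ k r s d p hs) (sq0Q k r s d p hs) (exact_augQ k r s d p hs hP)

include hs in
/-- the inductive step: regularity of `(J^p)~` from that of the lower powers -/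
theorem step (hP : StrandExact (GrSyz.stdGr k (Fin (r + 1))) s (d : ℤ) p) (m : ℤ)
    (hcoh : ∀ q : ℕ, 1 ≤ q → q ≤ N → Coh.IsCoh (idealTilde k r (Lq k r s p q)))
    (hreg : ∀ q : ℕ, 1 ≤ q → q ≤ N →
      Curv2.IsMRegular k r (idealTilde k r (Lq k r s p q)) (m + ((q : ℤ) - 1) - sh d q)) :
    Curv2.IsMRegular k r (idealTilde k r (Lq k r s p 0)) m := by
  haveI : AlgebraicGeometry.IsNoetherian (CohB1.ProjSpace r k) :=
    Groth.Agent.S2357.result (CohB1.polyGrading r k)
  obtain ⟨e⟩ := nonempty_Qcx_cokernel_iso k r s d p hs hP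
  have hbdd : ∀ s' : ℕ, N < s' → IsZero ((Qcx k r s d p hs).X s') := by
    intro s' hs'
    exact isZero_EQ k r N _ _ _ (by omega)
  have h := (Groth.Agent.S12910.result k r (Qcx k r s d p hs) N hbdd ?_ m ?_ ?_).1
  · exact isMRegular_of_iso' k r e m h
  · intro s'
    show Coh.IsCoh (EQ k r N (Lq k r s p (s' + 1)) (s' + 1) (sh d (s' + 1)))
    by_cases hN : s' + 1 ≤ N
    · exact isCoh_EQ k r N _ (Lq_hom k r s d p hs _) _ _ (hcoh (s' + 1) (by omega) hN)
    · exact CohDevH8.isCoh_of_isZero (isZero_EQ k r N _ _ _ (by omega))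
  · intro s'
    show Curv2.IsMRegular k r (EQ k r N (Lq k r s p (s' + 1)) (s' + 1) (sh d (s' + 1))) (m + s')
    by_cases hN : s' + 1 ≤ N
    · refine isMRegular_EQ k r N _ (Lq_hom k r s d p hs _) _ _ _ ?_
      have h1 := hreg (s' + 1) (by omega) hN
      rw [show m + (((s' + 1 : ℕ) : ℤ) - 1) - sh d (s' + 1) = m + (s' : ℤ) - sh d (s' + 1) by
        push_cast
        ring] at h1
      exact h1
    · exact isMRegular_of_isZero' k r (isZero_EQ k r N _ _ _ (by omega)) _
  · intro i hi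
    obtain ⟨j, rfl⟩ : ∃ j, i = j + 1 := ⟨i - 1, by omega⟩
    exact dim_empty_le _ (CycLenH8.support_eq_empty_of_isZero
      (isZero_Qcx_homology k r s d p hs hP j))

end Complex

section Final

variable (k : Type u) [Field k] (n : ℕ)

theorem isMRegular_add' {F : (CohB1.ProjSpace n k).Modules} (hF : Coh.IsCoh F) (m : ℤ)
    (h : Curv2.IsMRegular k n F m) : ∀ j : ℕ, Curv2.IsMRegular k n F (m + j) := by
  intro j
  induction j with
  | zero => simpa using h
  | succ j ih =>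
    have h1 := Groth.Agent.S1642.result k n F hF (m + j) ih
    have e : m + ((j + 1 : ℕ) : ℤ) = m + j + 1 := by
      push_cast
      ring
    rw [e]
    exact h1

theorem isMRegular_of_le' {F : (CohB1.ProjSpace n k).Modules} (hF : Coh.IsCoh F) {m m' : ℤ}
    (h : Curv2.IsMRegular k n F m) (hmm : m ≤ m') : Curv2.IsMRegular k n F m' := by
  have h1 := isMRegular_add' k n hF m h (m' - m).toNat
  have e : m + ((m' - m).toNat : ℤ) = m' := by
    rw [Int.toNat_of_nonneg (by omega)]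
    ring
  rw [e] at h1
  exact h1

theorem exists_isMRegular {F : (CohB1.ProjSpace n k).Modules} (hF : Coh.IsCoh F) :
    ∃ m : ℤ, Curv2.IsMRegular k n F m := by
  obtain ⟨d₀, hd₀⟩ := serre_vanishing n k F hF
  refine ⟨d₀ + n, fun i hi hin => ?_⟩
  exact hd₀ (d₀ + n - i) (by omega) i hi

/-- the regularity of the powers of an ideal sheaf given by forms of one degree -/
theorem main_of_dict (I : (CohB1.ProjSpace n k).IdealSheafData) (d : ℕ) {N : ℕ}
    (s : Fin N → MvPolynomial (Fin (n + 1)) k) (hs : ∀ j, s j ∈ CohB1.polyGrading n k d)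
    (hiso : ∀ p : ℕ, 1 ≤ p → Nonempty (ClSub.idealMod (I ^ p) ≅ idealTilde k n (JJ s ^ p))) :
    ∃ e : ℤ, ∀ p : ℕ, 1 ≤ p → ∀ m : ℤ, (d : ℤ) * p + e ≤ m →
      Curv2.IsMRegular k n (ClSub.idealMod (I ^ p)) m := by
  classical
  haveI : AlgebraicGeometry.IsNoetherian (CohB1.ProjSpace n k) :=
    Groth.Agent.S2357.result (CohB1.polyGrading n k)
  have hs' : ∀ v, s v ∈ GrSyz.stdGr k (Fin (n + 1)) (d : ℤ) := fun v =>
    (mem_stdGr_natCast k n d _).mpr (hs v)
  have hcohT : ∀ p : ℕ, 1 ≤ p → Coh.IsCoh (idealTilde k n (JJ s ^ p)) := fun p hp => by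
    obtain ⟨e⟩ := hiso p hp
    exact CohDevH8.isCoh_of_iso e.symm (CurveIdeal.isCoh_idealMod (I ^ p))
  have hex : ∀ p : ℕ, ∃ m₀ : ℤ, 1 ≤ p →
      Curv2.IsMRegular k n (idealTilde k n (JJ s ^ p)) m₀ := by
    intro p
    by_cases hp : 1 ≤ p
    · obtain ⟨m₀, h⟩ := exists_isMRegular k n (hcohT p hp)
      exact ⟨m₀, fun _ => h⟩
    · exact ⟨0, fun h => absurd h hp⟩
  choose M hM using hex
  obtain ⟨p₀, hp₀⟩ := strand_hom (GrSyz.stdGr k (Fin (n + 1))) s (d : ℤ) hs'
  obtain ⟨e, he⟩ := ((Finset.range (max p₀ N + 1)).image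
    fun p : ℕ => M p - (d : ℤ) * p).exists_le
  refine ⟨e, ?_⟩
  have key : ∀ p : ℕ, 1 ≤ p → ∀ m : ℤ, (d : ℤ) * p + e ≤ m →
      Curv2.IsMRegular k n (idealTilde k n (JJ s ^ p)) m := by
    intro p
    induction p using Nat.strong_induction_on with
    | _ p ih =>
      intro hp m hm
      by_cases hpP : p ≤ max p₀ N
      · have h1 : M p - (d : ℤ) * p ≤ e :=
          he _ (Finset.mem_image.mpr ⟨p, Finset.mem_range.mpr (by omega), rfl⟩)
        exact isMRegular_of_le' k n (hcohT p hp) (hM p hp) (by linarith)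
      · have h2 := le_max_left p₀ N
        have h3 := le_max_right p₀ N
        have hp1 : p₀ < p := by omega
        have hpN : N < p := by omega
        have hstep := step k n s d p hs' (hp₀ p hp1) m ?_ ?_
        · exact hstep
        · intro q hq1 hqN
          exact hcohT (p - q) (by omega)
        · intro q hq1 hqN
          refine ih (p - q) (by omega) (by omega) _ ?_
          have hc : ((p - q : ℕ) : ℤ) = (p : ℤ) - q := by
            rw [Nat.cast_sub (by omega : q ≤ p)]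
          rw [hc]
          unfold sh
          have hq1' : (1 : ℤ) ≤ q := by exact_mod_cast hq1
          linarith
  intro p hp m hm
  obtain ⟨e'⟩ := hiso p hp
  exact isMRegular_of_iso' k n e'.symm m (key p hp m hm)

end Final

end Groth.Agent.Lib.ReesH1
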