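import Mathlib
import Groth.Prelude
import Groth.Agent.Lib.Rees4_helper1
import Groth.Agent.Lib.GG1_helper8
import Groth.Agent.Lib.CurveTens2_helper9
import Groth.Agent.Lib.Tens30_helper8

/-!
# Ideal sheaves on projective space with a globally generated negative twist vanish (helper1)
-/

set_option autoImplicit false

namespace Groth.Agent.Lib.ReesH1

open CategoryTheory CategoryTheory.Limits AlgebraicGeometry TopologicalSpace Opposite
open Groth.Agent.Lib.TlMapH1
open Groth.Agent.HHVan Groth.Agent.ProjTens Groth.Agent.TensInv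

universe u

section Neg

theorem sections_eq_zero_of_isZero {X : Scheme.{u}} {A : X.Modules} (hA : IsZero A)
    (W : X.Opens) (t : Γ(A, W)) : t = 0 := by
  have h1 : (𝟙 A : A ⟶ A) = 0 := hA.eq_of_src _ _
  have h2 := congrArg (fun φ : A ⟶ A => (φ.app W).hom t) h1
  exact h2

theorem isZero_of_sections {X : Scheme.{u}} {A : X.Modules}
    (h : ∀ (W : X.Opens) (t : Γ(A, W)), t = 0) : IsZero A := by
  rw [IsZero.iff_id_eq_zero]
  apply Scheme.Modules.hom_ext
  intro V
  ext t
  exact (h V _).trans (h V _).symm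

/-- a globally generated module without global sections is zero -/
theorem isZero_of_gg_of_subsingleton {X : Scheme.{u}} {H : X.Modules}
    (h : Curv2.IsGloballyGenerated H) [Subsingleton Γ(H, ⊤)] : IsZero H := by
  obtain ⟨ι, g, hg⟩ := GGH8.exists_locSpan h
  apply isZero_of_sections
  intro W s
  apply eq_of_cover' H
  intro x hx
  obtain ⟨W', hW', hxW', hmem⟩ := hg W s x hx
  refine ⟨W', hW', hxW', ?_⟩
  have hbot : GGH8.spanAt H g W' = ⊥ := by
    unfold GGH8.spanAt
    rw [Submodule.span_eq_bot]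
    rintro _ ⟨i, rfl⟩
    dsimp only
    rw [Subsingleton.elim (g i) 0, map_zero]
  rw [hbot, Submodule.mem_bot] at hmem
  rw [map_zero]
  exact hmem

theorem isZero_idealMod_pow_of_isZero {X : Scheme.{u}} (I : X.IdealSheafData)
    (hI : IsZero (ClSub.idealMod I)) (p : ℕ) (hp : 1 ≤ p) : IsZero (ClSub.idealMod (I ^ p)) := by
  have hbot : I = ⊥ := by
    apply Scheme.IdealSheafData.ext
    funext W
    rw [Scheme.IdealSheafData.ideal_bot, Pi.bot_apply, eq_bot_iff]
    intro a ha
    obtain ⟨t, ht⟩ := TensH8.exists_idealMod_section I W.2 a ha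
    rw [Submodule.mem_bot, ← ht, sections_eq_zero_of_isZero hI _ t, map_zero]
    rfl
  have hpow : I ^ p = I := by
    rw [hbot]
    show (0 : X.IdealSheafData) ^ p = 0
    exact zero_pow (by omega)
  rw [hpow]
  exact hI

variable (k : Type u) [Field k] (n : ℕ)

/-- on `P^n`, `n ≥ 1`: if `I(d)` is globally generated with `d < 0` then `I = 0` -/
theorem isZero_idealMod_of_gg_neg (hn : 1 ≤ n) (I : (CohB1.ProjSpace n k).IdealSheafData)
    (d : ℤ) (hd0 : d < 0)
    (hd : Curv2.IsGloballyGenerated (CohB1.tensorMod (ClSub.idealMod I) (OO n k d))) :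
    IsZero (ClSub.idealMod I) := by
  obtain ⟨e0⟩ := twist_zero n k
  haveI : Mono (ClSub.idealModι I) :=
    inferInstanceAs (Mono (kernel.ι (ClSub.toSubscheme I)))
  haveI : Mono (ClSub.idealModι I ≫ e0.inv) := mono_comp _ _
  haveI := isEquivalence_tR_twist n k d
  haveI : Mono ((tR (OO n k d)).map (ClSub.idealModι I ≫ e0.inv)) := inferInstance
  haveI hsub : Subsingleton Γ(CohB1.tensorMod (OO n k 0) (OO n k d), ⊤) := by
    haveI := Groth.Agent.Horrocks.subsingleton_HH_OO_tensor n k 0 d 0
      (by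
        rintro ⟨_, h⟩
        omega)
      (by
        rintro ⟨h, _⟩
        omega)
    exact (CurveTens.e₀ (CohB1.tensorMod (OO n k 0) (OO n k d))).symm.toEquiv.subsingleton
  haveI : Subsingleton Γ(CohB1.tensorMod (ClSub.idealMod I) (OO n k d), ⊤) :=
    @Function.Injective.subsingleton _ _ _
      (app_injective_of_mono' ((tR (OO n k d)).map (ClSub.idealModι I ≫ e0.inv)) ⊤) hsub
  have hF : IsZero (CohB1.tensorMod (ClSub.idealMod I) (OO n k d)) :=
    isZero_of_gg_of_subsingleton hd
  rw [IsZero.iff_id_eq_zero]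
  apply (tR (OO n k d)).map_injective
  rw [CategoryTheory.Functor.map_id, CategoryTheory.Functor.map_zero]
  exact hF.eq_of_src _ _

end Neg

end Groth.Agent.Lib.ReesH1
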