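import Mathlib
import Groth.Prelude.Def_W4c2filtblowupsingRees

/-!
# The Rees algebra of a filtration cut out by finitely many weighted valuations is normal (helper3)

* `isIntegrallyClosed_of_closed`: a subalgebra of a normal domain containing every element of the
  ambient ring that is integral over it is integrally closed.
* `φ q`, `absA`: the real absolute value `x ↦ 2 ^ (-q v(x))` attached to a `ℤ`-valued additive
  valuation; Mathlib's `Polynomial.gaussNorm_mul` then gives a multiplicative nonarchimedean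
  function on `A[X]` whose unit ball is `{f | ∀ k, k p ≤ q v(f_k)}`.
* `abv_le_one_of_isIntegral`: the unit ball of a nonarchimedean absolute value is integrally closed
  over any subalgebra it contains.
-/

set_option autoImplicit false
universe u v w

namespace Groth.Agent.Lib.ReesValH3

open Polynomial

theorem isIntegrallyClosed_of_closed {k : Type u} {A : Type v} [CommRing k] [CommRing A]
    [IsDomain A] [IsIntegrallyClosed A] [Algebra k A] (S : Subalgebra k A)
    (hS : ∀ a : A, IsIntegral S a → a ∈ S) : IsIntegrallyClosed S := by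
  have hfa : FaithfulSMul S (FractionRing A) := by
    rw [faithfulSMul_iff_algebraMap_injective,
      IsScalarTower.algebraMap_eq S A (FractionRing A)]
    exact (FaithfulSMul.algebraMap_injective A (FractionRing A)).comp Subtype.val_injective
  letI : Algebra (FractionRing S) (FractionRing A) :=
    FractionRing.liftAlgebra S (FractionRing A)
  haveI : IsScalarTower S (FractionRing S) (FractionRing A) :=
    FractionRing.isScalarTower_liftAlgebra S (FractionRing A)
  refine (isIntegrallyClosed_iff (FractionRing S)).2 fun {x} hx => ?_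
  have hy : IsIntegral S (algebraMap (FractionRing S) (FractionRing A) x) :=
    hx.map (IsScalarTower.toAlgHom S (FractionRing S) (FractionRing A))
  have hyA : IsIntegral A (algebraMap (FractionRing S) (FractionRing A) x) := hy.tower_top
  obtain ⟨a, ha⟩ := IsIntegrallyClosed.algebraMap_eq_of_integral hyA
  have haS : IsIntegral S a := by
    rw [← ha] at hy
    exact (isIntegral_algebraMap_iff (IsFractionRing.injective A (FractionRing A))).mp hy
  refine ⟨⟨a, hS a haS⟩, ?_⟩
  apply (algebraMap (FractionRing S) (FractionRing A)).injective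
  rw [← IsScalarTower.algebraMap_apply S (FractionRing S) (FractionRing A), ← ha,
    IsScalarTower.algebraMap_apply S A (FractionRing A)]
  rfl

/-- the weight `n ↦ 2 ^ (-q n)`, `⊤ ↦ 0`. -/
noncomputable def φ (q : ℕ) : WithTop ℤ → ℝ
  | ⊤ => 0
  | (n : ℤ) => (2 : ℝ) ^ (-(q : ℤ) * n)

@[simp] theorem φ_top (q : ℕ) : φ q ⊤ = 0 := rfl

@[simp] theorem φ_coe (q : ℕ) (n : ℤ) : φ q (n : WithTop ℤ) = (2 : ℝ) ^ (-(q : ℤ) * n) := rfl

theorem φ_nonneg (q : ℕ) (a : WithTop ℤ) : 0 ≤ φ q a := by
  induction a using WithTop.recTopCoe with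
  | top => simp
  | coe n => rw [φ_coe]; positivity

theorem φ_eq_zero (q : ℕ) (a : WithTop ℤ) : φ q a = 0 ↔ a = ⊤ := by
  induction a using WithTop.recTopCoe with
  | top => simp
  | coe n =>
    rw [φ_coe]
    constructor
    · intro h
      exact absurd h (zpow_ne_zero _ two_ne_zero)
    · intro h
      exact absurd h WithTop.coe_ne_top

theorem φ_add (q : ℕ) (a b : WithTop ℤ) : φ q (a + b) = φ q a * φ q b := by
  induction a using WithTop.recTopCoe with
  | top => simp
  | coe m =>
    induction b using WithTop.recTopCoe with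
    | top => simp
    | coe n =>
      rw [← WithTop.coe_add, φ_coe, φ_coe, φ_coe, ← zpow_add₀ two_ne_zero, mul_add]

theorem φ_anti (q : ℕ) {a b : WithTop ℤ} (h : a ≤ b) : φ q b ≤ φ q a := by
  induction b using WithTop.recTopCoe with
  | top => rw [φ_top]; exact φ_nonneg q a
  | coe n =>
    induction a using WithTop.recTopCoe with
    | top => exact absurd (top_le_iff.mp h) WithTop.coe_ne_top
    | coe m =>
      rw [φ_coe, φ_coe]
      have hmn : m ≤ n := WithTop.coe_le_coe.mp h
      refine zpow_le_zpow_right₀ one_le_two ?_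
      have : (0 : ℤ) ≤ (q : ℤ) := Int.natCast_nonneg q
      nlinarith

theorem φ_zero (q : ℕ) : φ q 0 = 1 := by
  have : (0 : WithTop ℤ) = ((0 : ℤ) : WithTop ℤ) := rfl
  rw [this, φ_coe, mul_zero, zpow_zero]

/-- the unit-ball condition in integer terms. -/
theorem φ_mul_pow_le_one_iff (q p k : ℕ) (hq : 0 < q) (a : WithTop ℤ) :
    φ q a * ((2 : ℝ) ^ p) ^ k ≤ 1 ↔ ((k * p : ℕ) : WithTop ℤ) ≤ (q : WithTop ℤ) * a := by
  induction a using WithTop.recTopCoe with
  | top =>
    rw [φ_top, zero_mul, WithTop.mul_top (by exact_mod_cast hq.ne')]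
    exact ⟨fun _ => le_top, fun _ => zero_le_one⟩
  | coe n =>
    have h1 : ((k * p : ℕ) : WithTop ℤ) = (((k * p : ℕ) : ℤ) : WithTop ℤ) := by norm_cast
    have h2 : (q : WithTop ℤ) * (n : WithTop ℤ) = (((q : ℤ) * n : ℤ) : WithTop ℤ) := by norm_cast
    rw [h1, h2, WithTop.coe_le_coe, φ_coe, ← pow_mul, ← zpow_natCast, ← zpow_add₀ two_ne_zero]
    rw [show (1 : ℝ) = (2 : ℝ) ^ (0 : ℤ) from (zpow_zero _).symm,
      zpow_le_zpow_iff_right₀ one_lt_two]
    push_cast
    constructor <;> intro h <;> nlinarith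

section abs

variable {A : Type u} {K : Type v} [CommRing A] [IsDomain A] [Field K] [Algebra A K]
  [IsFractionRing A K]

/-- the absolute value `x ↦ 2 ^ (-q v(x))` on `A`. -/
noncomputable def absA (v : AddValuation K (WithTop ℤ)) (q : ℕ) : AbsoluteValue A ℝ where
  toFun x := φ q (v (algebraMap A K x))
  map_mul' x y := by rw [map_mul, AddValuation.map_mul, φ_add]
  nonneg' x := φ_nonneg _ _
  eq_zero' x := by
    rw [φ_eq_zero, AddValuation.top_iff, map_eq_zero_iff _ (IsFractionRing.injective A K)]
  add_le' x y := by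
    rw [map_add]
    have h := AddValuation.map_add v (algebraMap A K x) (algebraMap A K y)
    rcases min_le_iff.mp h with h1 | h1
    · exact (φ_anti q h1).trans (le_add_of_nonneg_right (φ_nonneg _ _))
    · exact (φ_anti q h1).trans (le_add_of_nonneg_left (φ_nonneg _ _))

theorem absA_apply (v : AddValuation K (WithTop ℤ)) (q : ℕ) (x : A) :
    absA (A := A) v q x = φ q (v (algebraMap A K x)) := rfl

theorem absA_na (v : AddValuation K (WithTop ℤ)) (q : ℕ) :
    IsNonarchimedean (absA (A := A) v q) := by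
  intro x y
  rw [absA_apply, absA_apply, absA_apply, map_add]
  have h := AddValuation.map_add v (algebraMap A K x) (algebraMap A K y)
  rcases min_le_iff.mp h with h1 | h1
  · exact (φ_anti q h1).trans (le_max_left _ _)
  · exact (φ_anti q h1).trans (le_max_right _ _)

/-- the weighted Gauss norm on `A[X]`. -/
noncomputable def N (v : AddValuation K (WithTop ℤ)) (q p : ℕ) (f : A[X]) : ℝ :=
  f.gaussNorm (absA (A := A) v q) ((2 : ℝ) ^ p)

theorem N_le_one_iff (v : AddValuation K (WithTop ℤ)) (q p : ℕ) (hq : 0 < q) (f : A[X]) :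
    N v q p f ≤ 1 ↔
      ∀ k : ℕ, ((k * p : ℕ) : WithTop ℤ) ≤ (q : WithTop ℤ) * v (algebraMap A K (f.coeff k)) := by
  have hc0 : (0 : ℝ) ≤ (2 : ℝ) ^ p := by positivity
  constructor
  · intro h k
    rw [← φ_mul_pow_le_one_iff q p k hq]
    exact (le_gaussNorm (absA (A := A) v q) f hc0 k).trans h
  · intro h
    obtain ⟨i, hi⟩ := exists_eq_gaussNorm (absA (A := A) v q) ((2 : ℝ) ^ p) f
    unfold N
    rw [hi, absA_apply, φ_mul_pow_le_one_iff q p i hq]
    exact h i

theorem N_isAbsoluteValue (v : AddValuation K (WithTop ℤ)) (q p : ℕ) :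
    IsAbsoluteValue (N (A := A) v q p) :=
  gaussNorm_isAbsoluteValue (absA_na v q) (by positivity)

theorem N_na (v : AddValuation K (WithTop ℤ)) (q p : ℕ) :
    IsNonarchimedean (N (A := A) v q p) :=
  isNonarchimedean_gaussNorm (absA (A := A) v q) (absA_na v q) (by positivity)

end abs

/-- The unit ball of a nonarchimedean absolute value contains every element integral over a
subalgebra contained in it. -/
theorem abv_le_one_of_isIntegral {k : Type u} {T : Type v} [CommRing k] [CommRing T] [IsDomain T]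
    [Algebra k T] (S : Subalgebra k T) (Nm : T → ℝ) [IsAbsoluteValue Nm]
    (hna : IsNonarchimedean Nm) (hS : ∀ s ∈ S, Nm s ≤ 1) {t : T} (ht : IsIntegral S t) :
    Nm t ≤ 1 := by
  by_contra hlt
  push_neg at hlt
  obtain ⟨P, hmonic, heval⟩ := ht
  rw [eval₂_eq_sum_range, Finset.sum_range_succ, hmonic.coeff_natDegree, map_one, one_mul] at heval
  have h1 : t ^ P.natDegree =
      -∑ i ∈ Finset.range P.natDegree, algebraMap S T (P.coeff i) * t ^ i :=
    eq_neg_of_add_eq_zero_right heval
  have hpos : 0 < Nm t := lt_trans zero_lt_one hlt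
  have h2 : Nm (t ^ P.natDegree) = Nm t ^ P.natDegree := IsAbsoluteValue.abv_pow Nm t _
  rcases Nat.eq_zero_or_pos P.natDegree with h0 | hnpos
  · rw [h0, Finset.range_zero, Finset.sum_empty, neg_zero, pow_zero] at h1
    exact one_ne_zero h1
  · have hne : (Finset.range P.natDegree).Nonempty := ⟨0, Finset.mem_range.mpr hnpos⟩
    obtain ⟨j, hj, hle⟩ := IsNonarchimedean.finset_image_add_of_nonempty hna
      (fun i => algebraMap S T (P.coeff i) * t ^ i) hne
    rw [Finset.mem_range] at hj
    have h3 : Nm (t ^ P.natDegree) ≤ Nm (algebraMap S T (P.coeff j) * t ^ j) := by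
      rw [h1, IsAbsoluteValue.abv_neg Nm]
      exact hle
    rw [h2, IsAbsoluteValue.abv_mul Nm, IsAbsoluteValue.abv_pow Nm] at h3
    have h4 : Nm (algebraMap S T (P.coeff j)) ≤ 1 := hS _ (P.coeff j).2
    have h5 : Nm t ^ j < Nm t ^ P.natDegree := pow_lt_pow_right₀ hlt hj
    have h6 : Nm (algebraMap S T (P.coeff j)) * Nm t ^ j ≤ 1 * Nm t ^ j :=
      mul_le_mul_of_nonneg_right h4 (pow_nonneg hpos.le _)
    linarith

/-- The Rees algebra of the filtration cut out by finitely many weighted valuations is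
integrally closed. -/
theorem isIntegrallyClosed_rees (A K : Type u) [CommRing A] [IsDomain A]
    [IsIntegrallyClosed A] [Field K] [Algebra A K] [IsFractionRing A K]
    (ι : Type) (v : ι → AddValuation K (WithTop ℤ))
    (p q : ι → ℕ) (hq : ∀ i, 0 < q i) (𝓕 : FiltBl.IdealFiltration A)
    (hF : ∀ (k : ℕ) (x : A), x ∈ 𝓕.F k ↔
      ∀ i, ((k * p i : ℕ) : WithTop ℤ) ≤ (q i : WithTop ℤ) * v i (algebraMap A K x)) :
    IsIntegrallyClosed 𝓕.rees := by
  have hmem : ∀ f : A[X], f ∈ 𝓕.rees ↔ ∀ i, N (v i) (q i) (p i) f ≤ 1 := by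
    intro f
    change (∀ n, f.coeff n ∈ 𝓕.F n) ↔ _
    simp only [hF, N_le_one_iff _ _ _ (hq _)]
    exact forall_comm
  refine isIntegrallyClosed_of_closed 𝓕.rees fun t ht => ?_
  rw [hmem]
  intro i
  haveI := N_isAbsoluteValue (A := A) (v i) (q i) (p i)
  exact abv_le_one_of_isIntegral 𝓕.rees (N (v i) (q i) (p i)) (N_na (v i) (q i) (p i))
    (fun s hs => (hmem s).mp hs i) ht

end Groth.Agent.Lib.ReesValH3
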