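import Mathlib
import Groth.Agent.Lib.RefVal9_helper6

/-!
# Certificates for the non-existence of centres of valuation rings (helper6)

Pure commutative algebra used to approximate an arbitrary valuation ring by a discrete valuation
ring in the refined Noetherian valuative criterion for algebraic spaces.
-/

set_option autoImplicit false
universe u
open IsLocalRing

namespace Groth.Agent.Lib.RefCertH6

open Groth.Agent.Lib.ValCrit Groth.Agent.Lib.RefVal

variable {K₀ : Type u} [Field K₀]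

/-- The maximal ideal of a valuation subring, as a set of field elements. -/
def mSet (V : ValuationSubring K₀) : Set K₀ := {a | V.valuation a < 1}

theorem mSet_subset (V : ValuationSubring K₀) {a : K₀} (ha : a ∈ mSet V) : a ∈ V :=
  (V.valuation_le_one_iff a).mp (le_of_lt ha)

theorem zero_mem_mSet (V : ValuationSubring K₀) : (0 : K₀) ∈ mSet V := by
  show V.valuation 0 < 1
  rw [map_zero]
  exact zero_lt_one

theorem mem_mSet_iff (V : ValuationSubring K₀) (a : ↥V) :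
    (a : K₀) ∈ mSet V ↔ a ∈ maximalIdeal ↥V :=
  (V.valuation_lt_one_iff a).symm

/-- A certificate: `1` lies in the ideal generated by `M` in the ring generated by `M`-multiples
and the image of `C`. -/
def Cert {C L : Type u} [CommRing C] [Field L] (M : Set K₀) (ρ : K₀ →+* L) (x : C →+* L) : Prop :=
  ∃ G : MvPolynomial C K₀, (∀ m, G.coeff m ∈ M) ∧ MvPolynomial.eval₂ ρ (fun c => x c) G = 1

/-- Without a certificate there is a valuation ring of `L` dominating `V` and containing the image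
of `C`. -/
theorem exists_valuationSubring_of_not_cert {C L : Type u} [CommRing C] [Field L]
    (V : ValuationSubring K₀) (ρ : K₀ →+* L) (x : C →+* L) (h : ¬ Cert (mSet V) ρ x) :
    ∃ V' : ValuationSubring L, (∀ v ∈ V, ρ v ∈ V') ∧ (∀ v ∈ mSet V, V'.valuation (ρ v) < 1) ∧
      ∀ c, x c ∈ V' := by
  classical
  obtain ⟨Φ, hΦdef⟩ : ∃ Φ : MvPolynomial C ↥V →+* L,
      Φ = MvPolynomial.eval₂Hom (ρ.comp V.subtype) (fun c => x c) := ⟨_, rfl⟩
  have hΦC : ∀ v : ↥V, Φ (MvPolynomial.C v) = ρ (v : K₀) := fun v => by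
    rw [hΦdef]; exact MvPolynomial.eval₂Hom_C _ _ v
  have hΦX : ∀ c : C, Φ (MvPolynomial.X c) = x c := fun c => by
    rw [hΦdef]; exact MvPolynomial.eval₂Hom_X' _ _ c
  have hΦr : Function.Surjective Φ.rangeRestrict := Φ.rangeRestrict_surjective
  obtain ⟨I, hIdef⟩ : ∃ I : Ideal ↥Φ.range, I = Ideal.map Φ.rangeRestrict
      (Ideal.map (MvPolynomial.C : ↥V →+* MvPolynomial C ↥V) (maximalIdeal ↥V)) := ⟨_, rfl⟩
  have hI : I ≠ ⊤ := by
    intro htop
    have h1 : (1 : ↥Φ.range) ∈ I := by rw [htop]; trivial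
    rw [hIdef, Ideal.mem_map_iff_of_surjective Φ.rangeRestrict hΦr] at h1
    obtain ⟨g, hgJ, hg1⟩ := h1
    apply h
    refine ⟨MvPolynomial.map V.subtype g, ?_, ?_⟩
    · intro m
      rw [MvPolynomial.coeff_map]
      exact (mem_mSet_iff V _).mpr (MvPolynomial.mem_map_C_iff.mp hgJ m)
    · rw [MvPolynomial.eval₂_map]
      have h2 : ((Φ.rangeRestrict g : ↥Φ.range) : L) = 1 := by rw [hg1]; rfl
      rw [← h2, hΦdef]
      rfl
  obtain ⟨𝔓, h𝔓max, hI𝔓⟩ := Ideal.exists_le_maximal I hI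
  haveI : 𝔓.IsPrime := h𝔓max.isPrime
  have hunit : ∀ y : 𝔓.primeCompl, IsUnit (Φ.range.subtype y) := by
    intro y
    rw [isUnit_iff_ne_zero]
    intro h0
    have : (y : ↥Φ.range) = 0 := Subtype.ext h0
    exact y.2 (by rw [this]; exact zero_mem 𝔓)
  obtain ⟨j, hjdef⟩ : ∃ j : Localization.AtPrime 𝔓 →+* L, j = IsLocalization.lift hunit :=
    ⟨_, rfl⟩
  have hj : ∀ β : ↥Φ.range, j (algebraMap _ (Localization.AtPrime 𝔓) β) = (β : L) := fun β => by
    rw [hjdef]; exact IsLocalization.lift_eq hunit β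
  obtain ⟨V', hV', hloc⟩ := IsLocalRing.exists_factor_valuationRing j
  have hmemB : ∀ β : ↥Φ.range, (β : L) ∈ V' := fun β => by
    rw [← hj β]; exact hV' _
  have hmemΦ : ∀ g, Φ g ∈ V' := fun g => hmemB (Φ.rangeRestrict g)
  refine ⟨V', fun v hv => ?_, fun v hv => ?_, fun c => ?_⟩
  · rw [← hΦC ⟨v, hv⟩]; exact hmemΦ _
  · have hvV : v ∈ V := mSet_subset V hv
    have hvm : (⟨v, hvV⟩ : ↥V) ∈ maximalIdeal ↥V := (mem_mSet_iff V ⟨v, hvV⟩).mp hv
    have h1 : Φ.rangeRestrict (MvPolynomial.C ⟨v, hvV⟩) ∈ 𝔓 := by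
      apply hI𝔓
      rw [hIdef]
      exact Ideal.mem_map_of_mem _ (Ideal.mem_map_of_mem _ hvm)
    have h2 : algebraMap _ (Localization.AtPrime 𝔓) (Φ.rangeRestrict (MvPolynomial.C ⟨v, hvV⟩)) ∈
        maximalIdeal (Localization.AtPrime 𝔓) :=
      (IsLocalization.AtPrime.to_map_mem_maximal_iff (Localization.AtPrime 𝔓) 𝔓 _).mpr h1
    obtain ⟨w, hwdef⟩ : ∃ w : ↥V', w = ⟨j (algebraMap _ (Localization.AtPrime 𝔓)
        (Φ.rangeRestrict (MvPolynomial.C ⟨v, hvV⟩))), hV' _⟩ := ⟨_, rfl⟩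
    have h3 : ¬ IsUnit w := by
      intro hu
      rw [hwdef] at hu
      exact (mem_maximalIdeal _).mp h2 (hloc.map_nonunit _ hu)
    have h4 : w ∈ maximalIdeal ↥V' := (mem_maximalIdeal _).mpr h3
    have h5 := (V'.valuation_lt_one_iff _).mp h4
    have h6 : (w : L) = ρ v := by
      rw [hwdef]
      change j _ = ρ v
      rw [hj]
      exact hΦC ⟨v, hvV⟩
    rw [h6] at h5
    exact h5
  · rw [← hΦX c]; exact hmemΦ _

/-- If all members of a finite nonempty family carry certificates for `V`, then there is a discrete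
valuation ring containing the image of `R₀` all of whose members carry certificates. -/
theorem exists_dvr_of_forall_cert {R₀ : Type u} [CommRing R₀] [IsNoetherianRing R₀]
    (θ : R₀ →+* K₀) (hθ : θ.EssFiniteType) (V : ValuationSubring K₀) (hθV : ∀ r, θ r ∈ V)
    {ι : Type u} [Finite ι] [Nonempty ι] {C : Type u} [CommRing C] (L : ι → Type u)
    [∀ i, Field (L i)] (ρ : ∀ i, K₀ →+* L i) (x : ∀ i, C →+* L i)
    (hc : ∀ i, Cert (mSet V) (ρ i) (x i)) :
    ∃ A : ValuationSubring K₀, IsDiscreteValuationRing A ∧ (∀ r, θ r ∈ A) ∧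
      ∀ i, Cert (mSet A) (ρ i) (x i) := by
  classical
  haveI := Fintype.ofFinite ι
  choose G hG1 hG2 using hc
  obtain ⟨Γ, hΓdef⟩ : ∃ Γ : Finset K₀,
      Γ = Finset.univ.biUnion (fun i => (G i).support.image (G i).coeff) := ⟨_, rfl⟩
  have hΓmem : ∀ i m, m ∈ (G i).support → (G i).coeff m ∈ Γ := by
    intro i m hm
    rw [hΓdef, Finset.mem_biUnion]
    exact ⟨i, Finset.mem_univ i, Finset.mem_image_of_mem _ hm⟩
  have hΓV : ∀ γ ∈ Γ, γ ∈ mSet V := by
    intro γ hγ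
    rw [hΓdef, Finset.mem_biUnion] at hγ
    obtain ⟨i, -, hγi⟩ := hγ
    obtain ⟨m, -, rfl⟩ := Finset.mem_image.mp hγi
    exact hG1 i m
  obtain ⟨φCV, hφCVdef⟩ : ∃ φCV : MvPolynomial ↥Γ R₀ →+* ↥V,
      φCV = MvPolynomial.eval₂Hom (θ.codRestrict V.toSubring hθV)
        (fun γ => (⟨γ.1, mSet_subset V (hΓV γ.1 γ.2)⟩ : ↥V)) := ⟨_, rfl⟩
  have hφCV_C : ∀ a, φCV (MvPolynomial.C a) = θ.codRestrict V.toSubring hθV a := fun a => by
    rw [hφCVdef]; exact MvPolynomial.eval₂Hom_C _ _ a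
  have hφCV_X : ∀ γ : ↥Γ, φCV (MvPolynomial.X γ) = ⟨γ.1, mSet_subset V (hΓV γ.1 γ.2)⟩ :=
    fun γ => by rw [hφCVdef]; exact MvPolynomial.eval₂Hom_X' _ _ γ
  obtain ⟨φC, hφCdef⟩ : ∃ φC : MvPolynomial ↥Γ R₀ →+* K₀, φC = V.subtype.comp φCV := ⟨_, rfl⟩
  have hφC_C : ∀ a, φC (MvPolynomial.C a) = θ a := fun a => by
    rw [hφCdef]
    change ((φCV (MvPolynomial.C a) : ↥V) : K₀) = _
    rw [hφCV_C]; rfl
  have hφC_X : ∀ γ : ↥Γ, φC (MvPolynomial.X γ) = γ.1 := fun γ => by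
    rw [hφCdef]
    change ((φCV (MvPolynomial.X γ) : ↥V) : K₀) = _
    rw [hφCV_X]
  have hφC_ess : φC.EssFiniteType := by
    apply essFiniteType_of_comp (MvPolynomial.C : R₀ →+* MvPolynomial ↥Γ R₀)
    have h1 : φC.comp MvPolynomial.C = θ := by
      ext a
      exact hφC_C a
    rw [h1]
    exact hθ
  have hqprime : ((maximalIdeal ↥V).comap φCV).IsPrime := Ideal.comap_isPrime _ _
  have hqle : RingHom.ker φC ≤ (maximalIdeal ↥V).comap φCV := by
    intro c hc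
    rw [RingHom.mem_ker, hφCdef] at hc
    have h1 : φCV c = 0 := Subtype.ext hc
    rw [Ideal.mem_comap, h1]
    exact Ideal.zero_mem _
  have hXmem : ∀ γ : ↥Γ, MvPolynomial.X γ ∈ (maximalIdeal ↥V).comap φCV := fun γ => by
    rw [Ideal.mem_comap, hφCV_X]
    exact (mem_mSet_iff V _).mp (hΓV γ.1 γ.2)
  -- a nonzero coefficient
  obtain ⟨i₀⟩ := ‹Nonempty ι›
  have hG0 : G i₀ ≠ 0 := by
    intro h0
    have := hG2 i₀
    rw [h0, MvPolynomial.eval₂_zero] at this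
    exact zero_ne_one this
  obtain ⟨m₀, hm₀⟩ := MvPolynomial.ne_zero_iff.mp hG0
  have hm₀s : m₀ ∈ (G i₀).support := MvPolynomial.mem_support_iff.mpr hm₀
  have hne : ∃ c ∈ (maximalIdeal ↥V).comap φCV, φC c ≠ 0 :=
    ⟨MvPolynomial.X ⟨_, hΓmem i₀ m₀ hm₀s⟩, hXmem _, by rw [hφC_X]; exact hm₀⟩
  obtain ⟨R, hRdvr, hR1, hR2⟩ := exists_dvr_of_ringHom φC hφC_ess
    ((maximalIdeal ↥V).comap φCV) hqle hne
  refine ⟨R, hRdvr, fun r => by rw [← hφC_C r]; exact hR1 _, fun i => ⟨G i, fun m => ?_, hG2 i⟩⟩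
  by_cases hm : m ∈ (G i).support
  · have h1 := (hR2 (MvPolynomial.X ⟨_, hΓmem i m hm⟩)).mpr (hXmem _)
    rw [hφC_X] at h1
    exact h1
  · rw [MvPolynomial.notMem_support_iff.mp hm]
    exact zero_mem_mSet R

/-- A certificate is incompatible with a pair of ring maps out of a ring `B`, the first killing
the images of `M` and the second compatible with the evaluation, such that the kernel of the second
is contained in the kernel of the first. -/
theorem not_cert_of_ringHoms {C L L' B A₀ : Type u} [CommRing C] [Field L] [Field L']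
    [CommRing B] [CommRing A₀] (M : Set K₀) (ρ : K₀ →+* L) (x : C →+* L) (τ : L →+* L')
    (a : A₀ →+* K₀) (α : A₀ →+* B) (β : C →+* B) (ε : B →+* L') (𝔮 : Ideal B) (h𝔮 : 𝔮 ≠ ⊤)
    (hker : RingHom.ker ε ≤ 𝔮)
    (hM : ∀ m ∈ M, ∃ a₀, a a₀ = m ∧ α a₀ ∈ 𝔮)
    (h1 : ∀ a₀, τ (ρ (a a₀)) = ε (α a₀)) (h2 : ∀ c, τ (x c) = ε (β c)) : ¬ Cert M ρ x := by
  classical
  rintro ⟨G, hG, hG1⟩
  choose f hf1 hf2 using fun m => hM (G.coeff m) (hG m)
  obtain ⟨s, hsdef⟩ : ∃ s : B, s = ∑ d ∈ G.support, α (f d) * ∏ i ∈ d.support, β i ^ d i :=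
    ⟨_, rfl⟩
  have hs𝔮 : s ∈ 𝔮 := by
    rw [hsdef]
    exact Ideal.sum_mem _ (fun d _ => Ideal.mul_mem_right _ _ (hf2 d))
  have hεs : ε s = 1 := by
    rw [hsdef, map_sum]
    have h3 : τ (MvPolynomial.eval₂ ρ (fun c => x c) G) = 1 := by rw [hG1, map_one]
    rw [MvPolynomial.eval₂_eq, map_sum] at h3
    rw [← h3]
    refine Finset.sum_congr rfl (fun d _ => ?_)
    rw [map_mul, map_mul, map_prod, map_prod, ← h1, hf1]
    congr 1
    refine Finset.prod_congr rfl (fun i _ => ?_)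
    rw [map_pow, map_pow, h2]
  have h4 : s - 1 ∈ 𝔮 := hker (by rw [RingHom.mem_ker, map_sub, hεs, map_one, sub_self])
  apply h𝔮
  rw [Ideal.eq_top_iff_one]
  have : (1 : B) = s - (s - 1) := by ring
  rw [this]
  exact Ideal.sub_mem _ hs𝔮 h4

end Groth.Agent.Lib.RefCertH6
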