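import Groth.Agent.Lib.UCAffine_helper7

set_option autoImplicit false
universe u
open CategoryTheory CategoryTheory.Limits AlgebraicGeometry Opposite

namespace Groth.Agent.Lib.UCLimitH7

open AlgSp Groth.Agent.Lib.ValCrit Groth.Agent.Lib.AlgSpPoints_helper7
  Groth.Agent.Lib.AlgSpTop_helper7 Groth.Agent.Lib.AlgSpQC_helper7
  Groth.Agent.Lib.AlgSpQC2_helper7 Groth.Agent.Lib.AlgSpPullback_helper7

variable {S : Scheme.{u}}

/-- Closedness of the base change to an affine scheme mapping into an affine open of `V`. -/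
theorem closed_of_affine_into_affineOpen {X₀ : Sp S} (hX₀ : IsAlgSpace X₀) (V : Over S)
    (f₀ : X₀ ⟶ (yon S).obj V) (hqc : IsQuasiCompactMor f₀)
    (H₀ : ∀ n : ℕ, IsClosedMap (Points.map (pullback.snd f₀ ((yon S).map (affHom V n)))))
    (T' : Over S) [IsAffine T'.left] (γ : T' ⟶ V) (V₀ : V.left.Opens) (hV₀ : IsAffineOpen V₀)
    (hle : (⊤ : T'.left.Opens) ≤ γ.left ⁻¹ᵁ V₀)
    {P' : Sp S} (fst' : P' ⟶ X₀) (snd' : P' ⟶ (yon S).obj T')
    (sq : IsPullback fst' snd' f₀ ((yon S).map γ)) : IsClosedMap (Points.map snd') := by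
  obtain ⟨φ, hφdef⟩ : ∃ φ : Γ(V.left, V₀) ⟶ Γ(T'.left, ⊤), φ = γ.left.appLE V₀ ⊤ hle := ⟨_, rfl⟩
  letI : Algebra Γ(V.left, V₀) Γ(T'.left, ⊤) := φ.hom.toAlgebra
  have hφ : Spec.map φ ≫ hV₀.fromSpec = (isAffineOpen_top T'.left).fromSpec ≫ γ.left := by
    rw [hφdef]
    exact IsAffineOpen.SpecMap_appLE_fromSpec γ.left hV₀ (isAffineOpen_top _) hle
  have hφ' : Spec.map (CommRingCat.ofHom (algebraMap Γ(V.left, V₀) Γ(T'.left, ⊤))) = Spec.map φ :=
    rfl
  obtain ⟨s, hsdef⟩ : ∃ s : Spec (CommRingCat.of Γ(T'.left, ⊤)) ⟶ V.left,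
      s = Spec.map (CommRingCat.ofHom (algebraMap Γ(V.left, V₀) Γ(T'.left, ⊤))) ≫
        hV₀.fromSpec := ⟨_, rfl⟩
  have hL : IsClosedMap (Points.map (pullback.snd f₀
      ((yon S).map (Over.homMk s rfl : Over.mk (s ≫ V.hom) ⟶ V)))) := by
    refine isClosedMap_snd_of_limit V (specT V₀ hV₀ Γ(T'.left, ⊤))
      (specCone Γ(V.left, V₀) Γ(T'.left, ⊤)) (specConeIsLimit _ _) s (fun i => ?_) hX₀ f₀ hqc
      (fun i => ?_)
    · change (specCone Γ(V.left, V₀) Γ(T'.left, ⊤)).π.app i ≫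
        specStr Γ(V.left, V₀) Γ(T'.left, ⊤) i ≫ hV₀.fromSpec = s
      rw [hsdef]
      exact (Category.assoc _ _ _).symm.trans
        (congrArg (· ≫ hV₀.fromSpec) (specCone_π_specStr Γ(V.left, V₀) Γ(T'.left, ⊤) i))
    · exact closed_of_finiteType hX₀ V f₀ H₀ V₀ hV₀ (fgSub Γ(V.left, V₀) Γ(T'.left, ⊤) i.unop)
        inferInstance
  have hs : s = (isAffineOpen_top T'.left).fromSpec ≫ γ.left := by rw [hsdef, hφ', hφ]
  haveI hiso : IsIso (isAffineOpen_top T'.left).fromSpec := by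
    rw [IsAffineOpen.fromSpec_top]; infer_instance
  let jO : T' ⟶ Over.mk (s ≫ V.hom) := Over.homMk (inv (isAffineOpen_top T'.left).fromSpec) (by
    show inv (isAffineOpen_top T'.left).fromSpec ≫ s ≫ V.hom = T'.hom
    rw [hs, Category.assoc, IsIso.inv_hom_id_assoc]
    exact Over.w γ)
  haveI : IsImmersion jO.left :=
    (inferInstance : IsImmersion (inv (isAffineOpen_top T'.left).fromSpec))
  refine closed_of_immersion hX₀ f₀ (Over.homMk s rfl : Over.mk (s ≫ V.hom) ⟶ V) jO γ ?_ hL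
    fst' snd' sq
  ext
  show inv (isAffineOpen_top T'.left).fromSpec ≫ s = γ.left
  rw [hs, IsIso.inv_hom_id_assoc]

/-- A quasi-compact morphism from an algebraic space to a scheme `V` is universally closed as
soon as its base changes to the affine spaces over `V` are closed. -/
theorem isUnivClosedMor_of_affineSpace_closed_scheme {X₀ : Sp S} (hX₀ : IsAlgSpace X₀)
    (V : Over S) (f₀ : X₀ ⟶ (yon S).obj V) (hqc : IsQuasiCompactMor f₀)
    (H₀ : ∀ n : ℕ, IsClosedMap (Points.map (pullback.snd f₀ ((yon S).map (affHom V n))))) :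
    IsUnivClosedMor f₀ := by
  apply isUnivClosedMor_of_forall_affine
  intro T hT g P fst snd sq
  obtain ⟨γ, rfl⟩ := (yon S).map_surjective g
  have hex : ∀ t : ↥T.left, ∃ (V₀ : V.left.Opens) (T₀ : T.left.Opens), IsAffineOpen V₀ ∧
      IsAffineOpen T₀ ∧ t ∈ T₀ ∧ T₀ ≤ γ.left ⁻¹ᵁ V₀ := by
    intro t
    obtain ⟨_, ⟨V₀, hV₀ : IsAffineOpen V₀, rfl⟩, htV, -⟩ :=
      V.left.isBasis_affineOpens.exists_subset_of_mem_open (Set.mem_univ (γ.left t)) isOpen_univ
    obtain ⟨_, ⟨T₀, hT₀ : IsAffineOpen T₀, rfl⟩, htT, hsub⟩ :=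
      T.left.isBasis_affineOpens.exists_subset_of_mem_open
        (show t ∈ ((γ.left ⁻¹ᵁ V₀ : T.left.Opens) : Set ↥T.left) from htV) (γ.left ⁻¹ᵁ V₀).2
    exact ⟨V₀, T₀, hV₀, hT₀, htT, hsub⟩
  choose V₀ T₀ hV₀ hT₀ htT hsub using hex
  let T' : ↥T.left → Over S := fun t => Over.mk ((T₀ t).ι ≫ T.hom)
  let ιO : ∀ t, T' t ⟶ T := fun t => Over.homMk (T₀ t).ι rfl
  refine isClosedMap_map_of_charts snd T' (fun t => (yon S).map (ιO t)) (fun t => ?_)
    (fun z => ?_) (fun t => ?_)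
  · rw [repWith_yon_map_iff]
    show Etale (T₀ t).ι
    infer_instance
  · obtain ⟨t, rfl⟩ := ofScheme_surjective T z
    refine ⟨t, (⟨t, htT t⟩ : ↥(T₀ t)), ?_⟩
    rw [ofPt_yon_map]
    rfl
  · have sq' := IsPullback.of_hasPullback snd ((yon S).map (ιO t))
    refine ⟨_, _, _, sq', ?_⟩
    haveI : IsAffine (T' t).left := hT₀ t
    have big := (sq'.flip.paste_vert sq.flip).flip
    rw [← Functor.map_comp] at big
    refine closed_of_affine_into_affineOpen hX₀ V f₀ hqc H₀ (T' t) (ιO t ≫ γ) (V₀ t) (hV₀ t)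
      ?_ _ _ big
    intro x _
    show γ.left ((T₀ t).ι x) ∈ V₀ t
    exact hsub t ((Scheme.Opens.range_ι (T₀ t)).subset ⟨x, rfl⟩)

/-- A quasi-compact morphism of algebraic spaces is universally closed as soon as, for one étale
atlas `V` of the target, its base changes to the affine spaces over `V` are closed. -/
theorem isUnivClosedMor_of_affineSpace_closed {X Y : Sp S} (hX : IsAlgSpace X) (hY : IsAlgSpace Y)
    (f : X ⟶ Y) (hqc : IsQuasiCompactMor f) (V : Over S) (p : (yon S).obj V ⟶ Y)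
    (hpe : RepWith @Etale p) (hps : RepWith @Surjective p)
    (H : ∀ (n : ℕ) (P : Sp S) (fst : P ⟶ X) (snd : P ⟶ (yon S).obj (affOver V n)),
      IsPullback fst snd f ((yon S).map (affHom V n) ≫ p) → IsClosedMap (Points.map snd)) :
    IsUnivClosedMor f := by
  have sq₀ := IsPullback.of_hasPullback f p
  have hX₀ : IsAlgSpace (pullback f p) :=
    isAlgSpace_of_isPullback hY.diag hX (IsAlgSpace.yon_obj V) sq₀
  have hqc₀ : IsQuasiCompactMor (pullback.snd f p) := by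
    intro Z Z' hZ hZq g fst snd sq
    exact hqc hZ hZq (g ≫ p) (fst ≫ pullback.fst f p) snd (sq.flip.paste_vert sq₀.flip).flip
  refine isUnivClosedMor_of_chart hY f p hpe hps sq₀
    (isUnivClosedMor_of_affineSpace_closed_scheme hX₀ V _ hqc₀ (fun n => ?_))
  exact H n _ _ _
    ((IsPullback.of_hasPullback (pullback.snd f p) _).flip.paste_vert sq₀.flip).flip

end Groth.Agent.Lib.UCLimitH7
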