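import Groth.Agent.Lib.ValCrit_helper7
import Groth.Agent.Lib.AlgSpVal_helper7
import Groth.Agent.Lib.AlgSpTop_helper7
import Groth.Agent.Lib.AlgSpQC_helper7

set_option autoImplicit false
universe u
open CategoryTheory CategoryTheory.Limits AlgebraicGeometry Opposite IsLocalRing

namespace Groth.Agent.Lib.ValCrit2H7

open AlgSp Groth.Agent.Lib.AlgSpVal_helper7 Groth.Agent.Lib.AlgSpPoints_helper7
  Groth.Agent.Lib.AlgSpTop_helper7 Groth.Agent.Lib.AlgSpQC_helper7

variable {S : Scheme.{u}}

/-- The existence part of the valuative criterion is stable under base change (sheaf level). -/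
theorem existVC_of_isPullback {F G Z F' : Sp S} {f : F ⟶ G} {g : Z ⟶ G} {fst : F' ⟶ F}
    {f' : F' ⟶ Z} (sq : IsPullback fst f' f g) (hE : ExistVC f) : ExistVC f' := by
  rw [existVC_iff] at hE ⊢
  intro A _ _ _ K _ _ _ str top bot comm
  obtain ⟨A', i1, i2, i3, K', i4, i5, i6, φ, ψ, hc, hl, l, h1, h2⟩ :=
    hE A K str (top ≫ fst) (bot ≫ g)
      (by rw [Category.assoc, sq.w, ← Category.assoc, comm, Category.assoc])
  have hw : l ≫ f = ((yon S).map (Over.homMk (Spec.map (CommRingCat.ofHom φ)) rfl :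
      Over.mk (Spec.map (CommRingCat.ofHom φ) ≫ str) ⟶ Over.mk str) ≫ bot) ≫ g :=
    h2.trans (Category.assoc _ _ _).symm
  refine ⟨A', i1, i2, i3, K', i4, i5, i6, φ, ψ, hc, hl, sq.lift l _ hw, ?_, sq.lift_snd _ _ _⟩
  apply sq.hom_ext
  · rw [Category.assoc, sq.lift_fst, Category.assoc]
    exact h1
  · rw [Category.assoc, sq.lift_snd, Category.assoc, comm, ← Functor.map_comp_assoc,
      ← Functor.map_comp_assoc]
    congr 2
    ext
    change Spec.map _ ≫ Spec.map _ = Spec.map _ ≫ Spec.map _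
    rw [← Spec.map_comp, ← Spec.map_comp, ← CommRingCat.ofHom_comp, ← CommRingCat.ofHom_comp,
      hc]

/-- The image of a closed set under a morphism of affine schemes is closed as soon as it is
stable under specialization. -/
theorem isClosed_image_of_stable {R : CommRingCat.{u}} {Y : Scheme.{u}} [IsAffine Y]
    (f : Spec R ⟶ Y) {Z : Set ↥(Spec R)} (hZ : IsClosed Z)
    (H : StableUnderSpecialization (f '' Z)) : IsClosed (f '' Z) := by
  let e := Y.isoSpec.hom.homeomorph
  obtain ⟨ψ, hψ⟩ : ∃ ψ : Γ(Y, ⊤) ⟶ R, Spec.map ψ = f ≫ Y.isoSpec.hom :=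
    ⟨Spec.preimage _, Spec.map_preimage _⟩
  have h1 : (Spec.map ψ) '' Z = e '' (f '' Z) := by
    rw [hψ, Set.image_image]
    rfl
  have h2 : StableUnderSpecialization ((Spec.map ψ) '' Z) := by
    rw [h1]
    rintro x y hxy ⟨x0, hx0, rfl⟩
    refine ⟨e.symm y, H ?_ hx0, e.apply_symm_apply y⟩
    have := hxy.map e.symm.continuous
    rwa [e.symm_apply_apply] at this
  have h3 : IsClosed ((Spec.map ψ) '' Z) :=
    PrimeSpectrum.isClosed_image_of_stableUnderSpecialization ψ.hom Z hZ h2
  rw [h1] at h3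
  exact (e.isClosed_image).1 h3

set_option maxHeartbeats 1600000 in
set_option backward.isDefEq.respectTransparency.types false in
/-- A morphism from a quasi-compact sheaf to an affine scheme satisfying the existence part of
the valuative criterion is closed on points. -/
theorem isClosedMap_of_existVC {P : Sp S} {Z : Over S} (hZ : IsAffine Z.left)
    (q : P ⟶ (yon S).obj Z) (hP : IsQuasiCompactSp P) (hq : ExistVC q) :
    IsClosedMap (Points.map q) := by
  obtain ⟨U, a, -, has, hU⟩ := hP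
  haveI : CompactSpace ↥U.left := hU
  obtain ⟨R, g, hg⟩ := compactSpace_iff_exists.mp (inferInstance : CompactSpace ↥U.left)
  let U' : Over S := Over.mk (g ≫ U.hom)
  let γ : U' ⟶ U := Over.homMk g rfl
  let b : (yon S).obj U' ⟶ P := (yon S).map γ ≫ a
  have hb : Function.Surjective (Points.ofPt b) := by
    intro x
    obtain ⟨u, rfl⟩ := ofPt_surjective a has x
    obtain ⟨r, rfl⟩ := hg u
    exact ⟨r, ofPt_comp γ a r⟩
  obtain ⟨φ₀, hφ₀⟩ := (yon S).map_surjective (b ≫ q)
  have hqb : ∀ r : ↥U'.left, Points.map q (Points.ofPt b r) = Points.ofScheme Z (φ₀.left r) := by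
    intro r
    rw [Points.map_ofPt, ← hφ₀, ofPt_yon_map]
  intro W hW
  have himg : Points.map q '' W =
      Points.schemeHomeo Z '' (φ₀.left '' (Points.ofPt b ⁻¹' W)) := by
    ext z
    constructor
    · rintro ⟨x, hx, rfl⟩
      obtain ⟨r, rfl⟩ := hb x
      exact ⟨φ₀.left r, ⟨r, hx, rfl⟩, (hqb r).symm⟩
    · rintro ⟨_, ⟨r, hr, rfl⟩, rfl⟩
      exact ⟨Points.ofPt b r, hr, hqb r⟩
  rw [himg, (Points.schemeHomeo Z).isClosed_image]
  haveI : IsAffine Z.left := hZ
  refine isClosed_image_of_stable (R := R) (Y := Z.left) φ₀.left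
    (hW.preimage (Points.continuous_ofPt b)) ?_
  rintro y' y hspec ⟨u', hu', rfl⟩
  let X₀ : Scheme.{u} := U'.left
  let Y₀ : Scheme.{u} := Z.left
  let f₀ : X₀ ⟶ Y₀ := φ₀.left
  let sr : Y₀.presheaf.stalk y ⟶ X₀.residueField u' :=
    Y₀.presheaf.stalkSpecializes hspec ≫ f₀.stalkMap u' ≫ X₀.residue u'
  obtain ⟨A, hA, hA_local⟩ := exists_factor_valuationRing sr.hom
  let sA : Y₀.presheaf.stalk y ⟶ .of A := CommRingCat.ofHom (sr.hom.codRestrict _ hA)
  have w : X₀.fromSpecResidueField u' ≫ f₀ =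
      Spec.map (CommRingCat.ofHom (algebraMap A (X₀.residueField u'))) ≫
        Spec.map sA ≫ Y₀.fromSpecStalk y := by
    rw [Scheme.fromSpecResidueField, Category.assoc, ← Scheme.SpecMap_stalkMap_fromSpecStalk,
      ← Scheme.SpecMap_stalkSpecializes_fromSpecStalk hspec]
    simp_rw [← Spec.map_comp_assoc]
    rfl
  let β₀ : Spec (.of A) ⟶ Y₀ := Spec.map sA ≫ Y₀.fromSpecStalk y
  let str : Spec (.of A) ⟶ S := β₀ ≫ Z.hom
  let β : Over.mk str ⟶ Z := Over.homMk β₀ rfl
  let jK : Spec (.of (X₀.residueField u')) ⟶ Spec (.of A) :=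
    Spec.map (CommRingCat.ofHom (algebraMap A (X₀.residueField u')))
  have hκ : X₀.fromSpecResidueField u' ≫ U'.hom = jK ≫ str := by
    rw [← Over.w φ₀, ← Category.assoc]
    show (X₀.fromSpecResidueField u' ≫ f₀) ≫ Z.hom = jK ≫ β₀ ≫ Z.hom
    rw [w, Category.assoc, Category.assoc]
  let κ : Over.mk (jK ≫ str) ⟶ U' := Over.homMk (X₀.fromSpecResidueField u') hκ
  let j : Over.mk (jK ≫ str) ⟶ Over.mk str := Over.homMk jK rfl
  have hκβ : κ ≫ φ₀ = j ≫ β := by
    ext
    exact w
  have comm : ((yon S).map κ ≫ b) ≫ q = (yon S).map j ≫ (yon S).map β := by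
    rw [Category.assoc, ← hφ₀, ← Functor.map_comp, ← Functor.map_comp, hκβ]
  obtain ⟨A', _, _, _, K', _, _, _, φ, ψ, hc, hl, l, h1, h2⟩ :=
    (existVC_iff q).1 hq A (X₀.residueField u') str ((yon S).map κ ≫ b) ((yon S).map β) comm
  haveI : IsLocalHom φ := hl
  have hη : Points.ofPt l ((Spec.map (CommRingCat.ofHom (algebraMap A' K'))) (closedPoint K')) =
      Points.ofPt b u' := by
    have e1 := congrArg (fun m => Points.ofPt m (closedPoint K')) h1
    simp only [ofPt_comp] at e1
    exact e1.trans (congrArg (Points.ofPt b) (Scheme.fromSpecResidueField_apply u' _))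
  have hxW : Points.ofPt l (closedPoint A') ∈ W := by
    have hs : (Spec.map (CommRingCat.ofHom (algebraMap A' K'))) (closedPoint K') ⤳
        (closedPoint A' : ↥(Spec (.of A'))) := specializes_closedPoint (R := A') _
    have hs' := hs.map (Points.continuous_ofPt l)
    refine hW.stableUnderSpecialization hs' ?_
    rw [hη]
    exact hu'
  have hqx : Points.map q (Points.ofPt l (closedPoint A')) = Points.ofScheme Z y := by
    rw [Points.map_ofPt, h2, ofPt_comp, ofPt_yon_map]
    congr 1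
    show β₀ (Spec.map (CommRingCat.ofHom φ) (closedPoint A')) = y
    have e1 : Spec.map (CommRingCat.ofHom φ) (closedPoint A') = closedPoint A :=
      comap_closedPoint φ
    rw [e1]
    show (Spec.map sA ≫ Y₀.fromSpecStalk y) (closedPoint A) = y
    rw [Scheme.Hom.comp_apply]
    have e2 : Spec.map sA (closedPoint A) = closedPoint (Y₀.presheaf.stalk y) :=
      comap_closedPoint (S := A) (sr.hom.codRestrict A.toSubring hA)
    rw [e2, Y₀.fromSpecStalk_closedPoint]
  obtain ⟨r, hr⟩ := hb (Points.ofPt l (closedPoint A'))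
  refine ⟨r, ?_, ?_⟩
  · show Points.ofPt b r ∈ W
    rw [hr]
    exact hxW
  · apply (Points.schemeEquiv Z).injective
    show Points.ofScheme Z (φ₀.left r) = Points.ofScheme Z y
    rw [← hqb r, hr, hqx]

/-- A quasi-compact morphism satisfying the existence part of the valuative criterion is
universally closed. -/
theorem isUnivClosedMor_of_existVC {X Y : Sp S} (f : X ⟶ Y) (hqc : IsQuasiCompactMor f)
    (he : ExistVC f) : IsUnivClosedMor f := by
  apply isUnivClosedMor_of_forall_affine
  intro Z hZ g P fst snd sq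
  haveI : IsAffine Z.left := hZ
  have hP : IsQuasiCompactSp P :=
    hqc (IsAlgSpace.yon_obj Z) (isQuasiCompactSp_yon Z) g fst snd sq
  exact isClosedMap_of_existVC hZ snd hP (existVC_of_isPullback sq he)

end Groth.Agent.Lib.ValCrit2H7
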