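import Mathlib
import Groth.Agent.Lib.ValCrit2_helper7
import Groth.Agent.Lib.ValCrit2_helper6
import Groth.Agent.Lib.UCAffine2_helper7
import Groth.Agent.Lib.AlgSpLocP4_helper7

/-!
# Universal closedness from lifts over discrete valuation rings (helper6)

For a morphism of finite type to a locally Noetherian algebraic space, the existence of lifts in all
valuative squares over discrete valuation rings implies universal closedness.
-/

set_option autoImplicit false
universe u
open CategoryTheory CategoryTheory.Limits AlgebraicGeometry Opposite IsLocalRing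

namespace Groth.Agent.Lib.ValCritDVRClosedH6

open AlgSp Groth.Agent.Lib.AlgSpVal_helper7 Groth.Agent.Lib.AlgSpPoints_helper7
  Groth.Agent.Lib.AlgSpTop_helper7 Groth.Agent.Lib.AlgSpQC_helper7
  Groth.Agent.Lib.AlgSpPullback_helper7 Groth.Agent.Lib.AlgSpLocP4_helper7
  Groth.Agent.Lib.ValCrit Groth.Agent.Lib.ValCrit2H7 Groth.Agent.Lib.UCLimitH7

variable {S : Scheme.{u}}

/-- Lifts in valuative squares over discrete valuation rings are stable under base change. -/
theorem hasLift_of_isPullback {F G Z F' : Sp S} {f : F ⟶ G} {g : Z ⟶ G} {fst : F' ⟶ F}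
    {f' : F' ⟶ Z} (sq : IsPullback fst f' f g)
    (hf : ∀ s : ValSq f, IsDiscreteValuationRing s.A → s.HasLift) :
    ∀ s : ValSq f', IsDiscreteValuationRing s.A → s.HasLift := by
  intro s hs
  let s₀ : ValSq f :=
    { A := s.A, commRing := s.commRing, isDomain := s.isDomain
      valuationRing := s.valuationRing
      K := s.K, field := s.field, algebra := s.algebra, isFractionRing := s.isFractionRing
      str := s.str, top := s.top ≫ fst, bot := s.bot ≫ g
      comm := by rw [Category.assoc, sq.w, ← Category.assoc, s.comm, Category.assoc] }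
  obtain ⟨l, h1, h2⟩ := hf s₀ hs
  change (yon S).map s.j ≫ l = s.top ≫ fst at h1
  change l ≫ f = s.bot ≫ g at h2
  refine ⟨sq.lift l s.bot h2, ?_, sq.lift_snd _ _ _⟩
  apply sq.hom_ext
  · rw [Category.assoc, sq.lift_fst]
    exact h1
  · rw [Category.assoc, sq.lift_snd]
    exact s.comm.symm

/-- A quasi-compact scheme receives a surjective étale morphism from an affine scheme. -/
theorem exists_affine_etale_surjective (U : Scheme.{u}) [CompactSpace ↥U] :
    ∃ (R : CommRingCat.{u}) (g : Spec R ⟶ U), Function.Surjective g ∧ Etale g := by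
  let 𝒰 : U.OpenCover := U.affineCover.finiteSubcover
  refine ⟨Γ(∐ 𝒰.X, ⊤), (∐ 𝒰.X).isoSpec.inv ≫ Sigma.desc 𝒰.f, Surjective.surj, ?_⟩
  haveI : Etale (Sigma.desc 𝒰.f) :=
    IsZariskiLocalAtSource.sigmaDesc (P := @Etale) (fun i => inferInstance)
  infer_instance

set_option maxHeartbeats 1600000 in
set_option backward.isDefEq.respectTransparency.types false in
/-- A morphism locally of finite type from a quasi-compact sheaf to a Noetherian affine scheme
which has lifts in all valuative squares over discrete valuation rings is closed on points. -/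
theorem isClosedMap_of_dvr {P : Sp S} {Z : Over S} (hZ : IsAffine Z.left)
    (hZn : IsLocallyNoetherian Z.left)
    (q : P ⟶ (yon S).obj Z) (hP : IsQuasiCompactSp P) (hlft : LocP @LocallyOfFiniteType q)
    (hq : ∀ s : ValSq q, IsDiscreteValuationRing s.A → s.HasLift) :
    IsClosedMap (Points.map q) := by
  obtain ⟨U, a, hae, has, hU⟩ := hP
  haveI : CompactSpace ↥U.left := hU
  obtain ⟨R, g, hg, hge⟩ := exists_affine_etale_surjective U.left
  let U' : Over S := Over.mk (g ≫ U.hom)
  let γ : U' ⟶ U := Over.homMk g rfl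
  let b : (yon S).obj U' ⟶ P := (yon S).map γ ≫ a
  have hbe : RepWith @Etale b := repWith_comp _ ((repWith_yon_map_iff _ _).2 hge) hae
  have hb : Function.Surjective (Points.ofPt b) := by
    intro x
    obtain ⟨u, rfl⟩ := ofPt_surjective a has x
    obtain ⟨r, rfl⟩ := hg u
    exact ⟨r, ofPt_comp γ a r⟩
  obtain ⟨φ₀, hφ₀⟩ := (yon S).map_surjective (b ≫ q)
  haveI : LocallyOfFiniteType φ₀.left :=
    hlft b (𝟙 _) φ₀ hbe (repWith_id _ Z) (by rw [hφ₀, Category.comp_id])
  have hqb : ∀ r : ↥U'.left, Points.map q (Points.ofPt b r) = Points.ofScheme Z (φ₀.left r) := by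
    intro r
    rw [Points.map_ofPt, ← hφ₀, ofPt_yon_map]
  intro W hW
  have himg : Points.map q '' W =
      Points.schemeHomeo Z '' (φ₀.left '' (Points.ofPt b ⁻¹' W)) := by
    ext z
    constructor
    · rintro ⟨x, hx, rfl⟩
      obtain ⟨r, rfl⟩ := hb x
      exact ⟨φ₀.left r, ⟨r, hx, rfl⟩, (hqb r).symm⟩
    · rintro ⟨_, ⟨r, hr, rfl⟩, rfl⟩
      exact ⟨Points.ofPt b r, hr, hqb r⟩
  rw [himg, (Points.schemeHomeo Z).isClosed_image]
  haveI : IsAffine Z.left := hZ
  refine isClosed_image_of_stable (R := R) (Y := Z.left) φ₀.left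
    (hW.preimage (Points.continuous_ofPt b)) ?_
  rintro y' y hspec ⟨u', hu', rfl⟩
  by_cases hne : y = φ₀.left u'
  · exact ⟨u', hu', hne.symm⟩
  let X₀ : Scheme.{u} := U'.left
  let Y₀ : Scheme.{u} := Z.left
  let f₀ : X₀ ⟶ Y₀ := φ₀.left
  haveI : IsLocallyNoetherian Y₀ := hZn
  haveI : LocallyOfFiniteType f₀ := ‹LocallyOfFiniteType φ₀.left›
  obtain ⟨A, h, hA, hcl, hw⟩ := exists_dvr_of_specializes f₀ u' y hspec hne
  let str : Spec (.of A) ⟶ S := h ≫ Z.hom
  let β : Over.mk str ⟶ Z := Over.homMk h rfl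
  let jK : Spec (.of (X₀.residueField u')) ⟶ Spec (.of A) :=
    Spec.map (CommRingCat.ofHom (algebraMap A (X₀.residueField u')))
  have hw' : X₀.fromSpecResidueField u' ≫ f₀ = jK ≫ h := hw.symm
  have hκ : X₀.fromSpecResidueField u' ≫ U'.hom = jK ≫ str := by
    rw [← Over.w φ₀, ← Category.assoc]
    show (X₀.fromSpecResidueField u' ≫ f₀) ≫ Z.hom = jK ≫ h ≫ Z.hom
    rw [hw', Category.assoc]
  let κ : Over.mk (jK ≫ str) ⟶ U' := Over.homMk (X₀.fromSpecResidueField u') hκ
  let j : Over.mk (jK ≫ str) ⟶ Over.mk str := Over.homMk jK rfl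
  have hκβ : κ ≫ φ₀ = j ≫ β := by
    ext
    exact hw'
  have comm : ((yon S).map κ ≫ b) ≫ q = (yon S).map j ≫ (yon S).map β := by
    rw [Category.assoc, ← hφ₀, ← Functor.map_comp, ← Functor.map_comp, hκβ]
  let vsq : ValSq q :=
    { A := A, K := X₀.residueField u', str := str
      top := (yon S).map κ ≫ b
      bot := (yon S).map β
      comm := comm }
  obtain ⟨l, h1, h2⟩ := hq vsq hA
  change (yon S).map j ≫ l = (yon S).map κ ≫ b at h1
  change l ≫ q = (yon S).map β at h2
  have hη : Points.ofPt l (jK (closedPoint (X₀.residueField u'))) = Points.ofPt b u' := by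
    have e1 := congrArg (fun m => Points.ofPt m (closedPoint (X₀.residueField u'))) h1
    simp only [ofPt_comp] at e1
    exact e1.trans (congrArg (Points.ofPt b) (Scheme.fromSpecResidueField_apply u' _))
  have hxW : Points.ofPt l (closedPoint A) ∈ W := by
    have hs : jK (closedPoint (X₀.residueField u')) ⤳
        (closedPoint A : ↥(Spec (.of A))) := specializes_closedPoint (R := A) _
    have hs' := hs.map (Points.continuous_ofPt l)
    refine hW.stableUnderSpecialization hs' ?_
    rw [hη]
    exact hu'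
  have hqx : Points.map q (Points.ofPt l (closedPoint A)) = Points.ofScheme Z y := by
    rw [Points.map_ofPt, h2, ofPt_yon_map]
    congr 1
  obtain ⟨r, hr⟩ := hb (Points.ofPt l (closedPoint A))
  refine ⟨r, ?_, ?_⟩
  · show Points.ofPt b r ∈ W
    rw [hr]
    exact hxW
  · apply (Points.schemeEquiv Z).injective
    show Points.ofScheme Z (φ₀.left r) = Points.ofScheme Z y
    rw [← hqb r, hr, hqx]

/-- Closedness of the base change of `f` to a locally Noetherian scheme, from lifts over discrete
valuation rings. -/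
theorem isClosedMap_of_dvr_locNoeth {X Y : Sp S} (hX : IsAlgSpace X) (hY : IsAlgSpace Y)
    (f : X ⟶ Y) (hlft : LocP @LocallyOfFiniteType f) (hqc : IsQuasiCompactMor f)
    (hl : ∀ s : ValSq f, IsDiscreteValuationRing s.A → s.HasLift)
    (T : Over S) (hT : IsLocallyNoetherian T.left) (g : (yon S).obj T ⟶ Y) {P : Sp S}
    (fst : P ⟶ X) (snd : P ⟶ (yon S).obj T) (sq : IsPullback fst snd f g) :
    IsClosedMap (Points.map snd) := by
  have hex : ∀ t : ↥T.left, ∃ (T₀ : T.left.Opens), IsAffineOpen T₀ ∧ t ∈ T₀ := by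
    intro t
    obtain ⟨_, ⟨T₀, hT₀ : IsAffineOpen T₀, rfl⟩, htT, -⟩ :=
      T.left.isBasis_affineOpens.exists_subset_of_mem_open (Set.mem_univ t) isOpen_univ
    exact ⟨T₀, hT₀, htT⟩
  choose T₀ hT₀ htT using hex
  let T' : ↥T.left → Over S := fun t => Over.mk ((T₀ t).ι ≫ T.hom)
  let ιO : ∀ t, T' t ⟶ T := fun t => Over.homMk (T₀ t).ι rfl
  refine isClosedMap_map_of_charts snd T' (fun t => (yon S).map (ιO t)) (fun t => ?_)
    (fun z => ?_) (fun t => ?_)
  · rw [repWith_yon_map_iff]
    show Etale (T₀ t).ι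
    infer_instance
  · obtain ⟨t, rfl⟩ := ofScheme_surjective T z
    refine ⟨t, (⟨t, htT t⟩ : ↥(T₀ t)), ?_⟩
    rw [ofPt_yon_map]
    rfl
  · have sq' := IsPullback.of_hasPullback snd ((yon S).map (ιO t))
    refine ⟨_, _, _, sq', ?_⟩
    haveI : IsAffine (T' t).left := hT₀ t
    have big := (sq'.flip.paste_vert sq.flip).flip
    haveI : IsLocallyNoetherian T.left := hT
    have hn : IsLocallyNoetherian (T' t).left :=
      isLocallyNoetherian_of_isOpenImmersion (T₀ t).ι
    have hPqc : IsQuasiCompactSp (pullback snd ((yon S).map (ιO t))) :=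
      hqc (IsAlgSpace.yon_obj (T' t)) (isQuasiCompactSp_yon (T' t)) _ _ _ big
    have hlft' : LocP @LocallyOfFiniteType (pullback.snd snd ((yon S).map (ιO t))) :=
      locP_baseChange etLocal_locallyOfFiniteType hX hY (IsAlgSpace.yon_obj (T' t)) f _ _ _ big
        hlft
    exact isClosedMap_of_dvr (show IsAffine (T' t).left from hT₀ t) hn _ hPqc hlft'
      (hasLift_of_isPullback big hl)

/-- A morphism of finite type to a locally Noetherian algebraic space which has lifts in all
valuative squares over discrete valuation rings is universally closed. -/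
theorem isUnivClosedMor_of_dvr {X Y : Sp S} (hX : IsAlgSpace X) (hY : IsAlgSpace Y) (f : X ⟶ Y)
    (hft : IsFiniteTypeMor f) (hYn : IsLocNoethSp Y)
    (hl : ∀ s : ValSq f, IsDiscreteValuationRing s.A → s.HasLift) : IsUnivClosedMor f := by
  obtain ⟨hlft, hqc⟩ := hft
  obtain ⟨V, p, hpe, hps, hV⟩ := hYn
  refine isUnivClosedMor_of_affineSpace_closed hX hY f hqc V p hpe hps ?_
  intro n P fst snd sq
  haveI : IsLocallyNoetherian V.left := hV
  haveI : LocallyOfFiniteType (affHom V n).left := by
    show LocallyOfFiniteType (𝔸(ULift.{u} (Fin n); V.left) ↘ V.left)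
    infer_instance
  have hn : IsLocallyNoetherian (affOver V n).left :=
    LocallyOfFiniteType.isLocallyNoetherian (affHom V n).left
  exact isClosedMap_of_dvr_locNoeth hX hY f hlft hqc hl (affOver V n) hn _ fst snd sq

end Groth.Agent.Lib.ValCritDVRClosedH6
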