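import Mathlib
import Groth.Agent.Lib.ValCritDVRClosed2_helper6
import Groth.Agent.Lib.ClosureSpec_helper7

/-!
# Points of an étale chart are specializations of points coming from a dense quasi-compact
morphism (helper6)
-/

set_option autoImplicit false
universe u
open CategoryTheory CategoryTheory.Limits AlgebraicGeometry Opposite IsLocalRing

namespace Groth.Agent.Lib.RefCoverH6

open AlgSp Groth.Agent.Lib.AlgSpVal_helper7 Groth.Agent.Lib.AlgSpPoints_helper7
  Groth.Agent.Lib.AlgSpTop_helper7 Groth.Agent.Lib.AlgSpQC_helper7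
  Groth.Agent.Lib.AlgSpPullback_helper7 Groth.Agent.Lib.AlgSpLocP4_helper7

variable {S : Scheme.{u}}

/-- Let `h : U ⟶ X` be a quasi-compact morphism, locally of finite type, with dense image, and
`w : h_W ⟶ X` an étale morphism from a scheme. Every point `x₁` of `W` is a specialization of the
image of a point `z` of a scheme `Z'` locally of finite type over `W` which maps to `U` over `X`. -/
theorem exists_specializes_chart {U X : Sp S} (hX : IsAlgSpace X) (h : U ⟶ X)
    (hlft : LocP @LocallyOfFiniteType h) (hqc : IsQuasiCompactMor h)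
    (hd : Dense (Set.range (Points.map h)))
    {W : Over S} (w : (yon S).obj W ⟶ X) (hwe : RepWith @Etale w) (x₁ : ↥W.left) :
    ∃ (Z' : Over S) (c : Z' ⟶ W) (d : (yon S).obj Z' ⟶ U) (z : ↥Z'.left),
      d ≫ h = (yon S).map c ≫ w ∧ LocallyOfFiniteType c.left ∧ c.left z ⤳ x₁ := by
  obtain ⟨_, ⟨(W₀ : W.left.Opens), (hW₀ : IsAffineOpen W₀), rfl⟩, hxW, -⟩ :=
    W.left.isBasis_affineOpens.exists_subset_of_mem_open (Set.mem_univ x₁) isOpen_univ
  let W' : Over S := Over.mk (W₀.ι ≫ W.hom)
  let ιO : W' ⟶ W := Over.homMk W₀.ι rfl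
  haveI hW'aff : IsAffine W'.left := hW₀
  let w₀ : (yon S).obj W' ⟶ X := (yon S).map ιO ≫ w
  have hιe : Etale ιO.left := by
    show Etale W₀.ι
    infer_instance
  have hw₀e : RepWith @Etale w₀ := repWith_comp _ ((repWith_yon_map_iff _ _).2 hιe) hwe
  have sq := IsPullback.of_hasPullback h w₀
  have hPqc : IsQuasiCompactSp (pullback h w₀) :=
    hqc (IsAlgSpace.yon_obj W') (isQuasiCompactSp_yon W') w₀ _ _ sq
  obtain ⟨U₁, a, hae, has, hU₁⟩ := hPqc
  haveI : CompactSpace ↥U₁.left := hU₁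
  obtain ⟨c₀, hc₀⟩ := (yon S).map_surjective (a ≫ pullback.snd h w₀)
  have hfst : RepWith @Etale (pullback.fst h w₀) := repWith_fst_of_isPullback _ sq hw₀e
  have hde : RepWith @Etale (a ≫ pullback.fst h w₀) := repWith_comp _ hae hfst
  have hcomm : (a ≫ pullback.fst h w₀) ≫ h = (yon S).map (c₀ ≫ ιO) ≫ w := by
    rw [Category.assoc, pullback.condition, ← Category.assoc, ← hc₀, Functor.map_comp,
      Category.assoc]
  have hclft : LocallyOfFiniteType (c₀ ≫ ιO).left :=
    hlft (a ≫ pullback.fst h w₀) w (c₀ ≫ ιO) hde hwe hcomm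
  -- density of the range of `c₀`
  haveI : QuasiCompact c₀.left :=
    (HasAffineProperty.iff_of_isAffine (P := @QuasiCompact) (f := c₀.left)).2
      (inferInstance : CompactSpace ↥U₁.left)
  have hsurj : Function.Surjective (Points.ofPt a) := ofPt_surjective a has
  have hopen : IsOpenMap (Points.ofPt w₀) := isOpenMap_ofPt_of_etale w₀ hw₀e
  have hdense : ∀ y : ↥W'.left, y ∈ closure (Set.range c₀.left) := by
    intro y
    rw [mem_closure_iff]
    intro O hO hyO
    have hOimg : IsOpen (Points.ofPt w₀ '' O) := hopen O hO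
    have hne : (Points.ofPt w₀ '' O).Nonempty := ⟨_, y, hyO, rfl⟩
    obtain ⟨_, ⟨o, hoO, rfl⟩, ⟨u, hu⟩⟩ := hd.inter_open_nonempty _ hOimg hne
    -- a point of the pullback over `(u, o)`
    have hpt : Points.map h u = Points.map w₀ (Points.ofScheme W' o) := by
      rw [hu, Points.ofPt_eq_map_ofScheme]
    obtain ⟨t, ht1, ht2⟩ := exists_of_isPullback sq u (Points.ofScheme W' o) hpt
    obtain ⟨r, hr⟩ := hsurj t
    refine ⟨o, hoO, r, ?_⟩
    apply (Points.schemeEquiv W').injective
    show Points.ofScheme W' (c₀.left r) = Points.ofScheme W' o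
    rw [← ofPt_yon_map, hc₀, ← Points.map_ofPt, hr, ht2]
  obtain ⟨z, hz⟩ := Groth.Agent.Lib.ClosureSpecH7.exists_specializes_of_mem_closure_range
    c₀.left (⟨x₁, hxW⟩ : ↥W₀) (hdense _)
  refine ⟨U₁, c₀ ≫ ιO, a ≫ pullback.fst h w₀, z, hcomm, hclft, ?_⟩
  have := hz.map W₀.ι.continuous
  exact this

end Groth.Agent.Lib.RefCoverH6
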