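import Mathlib
import Groth.Agent.Lib.RefVal5_helper6

/-!
# Valuation rings realizing specializations; S-subtrusive morphisms (helper6)
-/

set_option autoImplicit false
universe u
open CategoryTheory CategoryTheory.Limits AlgebraicGeometry IsLocalRing

namespace Groth.Agent.Lib.RefVal

/-- A specialization `y₁ ⤳ y₀` in a scheme is realized by a morphism from the spectrum of a
valuation ring: some point maps to `y₁` and the closed point maps to `y₀`. -/
theorem exists_valuationRing_of_specializes {Y : Scheme.{u}} (y₁ y₀ : Y) (h : y₁ ⤳ y₀) :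
    ∃ (V : Type u) (_ : CommRing V) (_ : IsDomain V) (_ : ValuationRing V)
      (g : Spec (CommRingCat.of V) ⟶ Y) (v₁ : Spec (CommRingCat.of V)),
      g v₁ = y₁ ∧ g (closedPoint V) = y₀ := by
  obtain ⟨V, d, e, hd₁, hd₂⟩ := exists_dominating (𝟙 Y) y₀ y₁ h
  refine ⟨↥V, inferInstance, inferInstance, inferInstance, d,
    Spec.map (CommRingCat.ofHom V.subtype) (closedPoint (Y.residueField y₁)), ?_, ?_⟩
  · rw [← Scheme.Hom.comp_apply, hd₁, Category.comp_id, Scheme.fromSpecResidueField_apply]
  · have hloc : IsLocalHom (CommRingCat.ofHom (residue ↥V)).hom :=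
      IsLocalHom.of_surjective _ residue_surjective
    have h1 := comp_closedPoint (CommRingCat.ofHom (residue ↥V)) d
    rw [← h1, hd₂, Scheme.Hom.comp_apply, Scheme.fromSpecResidueField_apply]

end Groth.Agent.Lib.RefVal
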