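import Mathlib
import Groth.Agent.Lib.RefVal16_helper6
set_option autoImplicit false
universe u
open CategoryTheory CategoryTheory.Limits AlgebraicGeometry IsLocalRing

namespace Groth.Agent.Lib.RefVal

theorem comap_surjective_of_injective_local {V V' : Type u} [CommRing V] [IsDomain V]
    [ValuationRing V] [CommRing V'] [IsDomain V'] [IsLocalRing V'] (φ : V →+* V')
    (hinj : Function.Injective φ) [IsLocalHom φ] :
    Function.Surjective (PrimeSpectrum.comap φ) := by
  letI := φ.toAlgebra
  have hinj' : Function.Injective (algebraMap V V') := hinj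
  have hfl : Module.Flat V V' := by
    rw [Module.Flat.flat_iff_torsion_eq_bot_of_isBezout, eq_bot_iff]
    rintro m ⟨⟨r, hr⟩, h⟩
    have hr0 : r ≠ 0 := nonZeroDivisors.ne_zero hr
    have h' : algebraMap V V' r * m = 0 := by
      simpa [Algebra.smul_def] using h
    rcases mul_eq_zero.mp h' with h1 | h1
    · exact absurd ((map_eq_zero_iff _ hinj').mp h1) hr0
    · simpa using h1
  have hloc : IsLocalHom (algebraMap V V') := ‹IsLocalHom φ›
  have hff : Module.FaithfullyFlat V V' := Module.FaithfullyFlat.of_flat_of_isLocalHom
  exact PrimeSpectrum.comap_surjective_of_faithfullyFlat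

/-- A morphism between spectra of valuation rings hitting the generic point and sending the
closed point to the closed point is surjective. -/
theorem surjective_of_generic_closed {V V' : Type u} [CommRing V] [IsDomain V]
    [ValuationRing V] [CommRing V'] [IsDomain V'] [IsLocalRing V']
    (b : Spec (CommRingCat.of V') ⟶ Spec (CommRingCat.of V))
    (v' : Spec (CommRingCat.of V')) (hv' : b v' = (⊥ : PrimeSpectrum V))
    (hcl : b (closedPoint V') = closedPoint V) : Surjective b := by
  obtain ⟨φ, rfl⟩ : ∃ φ, b = Spec.map φ := ⟨Spec.preimage b, (Spec.map_preimage b).symm⟩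
  have hinj : Function.Injective φ.hom := by
    rw [RingHom.injective_iff_ker_eq_bot, eq_bot_iff]
    intro r hr
    have h1 : r ∈ (PrimeSpectrum.comap φ.hom v').asIdeal := by
      change φ.hom r ∈ v'.asIdeal
      rw [RingHom.mem_ker.mp hr]
      exact zero_mem _
    have h2 : PrimeSpectrum.comap φ.hom v' = (⊥ : PrimeSpectrum V) := hv'
    rw [h2] at h1
    exact h1
  have hloc : IsLocalHom φ.hom := by
    have h2 : PrimeSpectrum.comap φ.hom (closedPoint V') = closedPoint V := hcl
    refine ((IsLocalRing.local_hom_TFAE φ.hom).out 0 4).mpr ?_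
    have := congrArg PrimeSpectrum.asIdeal h2
    exact this
  exact ⟨comap_surjective_of_injective_local φ.hom hinj⟩

/-- A surjective morphism between spectra of local rings sends the closed point to the closed
point. -/
theorem closedPoint_of_surjective {V V' : Type u} [CommRing V] [IsLocalRing V]
    [CommRing V'] [IsLocalRing V']
    (b : Spec (CommRingCat.of V') ⟶ Spec (CommRingCat.of V)) [Surjective b] :
    b (closedPoint V') = closedPoint V := by
  obtain ⟨w, hw⟩ := b.surjective (closedPoint V)
  have h1 : b w ⤳ b (closedPoint V') :=
    (IsLocalRing.specializes_closedPoint w).map b.continuous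
  rw [hw] at h1
  exact h1.mem_closed (IsLocalRing.isClosed_singleton_closedPoint V) rfl

end Groth.Agent.Lib.RefVal
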