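import Mathlib
import Groth.Agent.Lib.RefVal17_helper6

/-!
# A valuation ring dominating a localization of an extension of a composite valuation ring (helper6)
-/

set_option autoImplicit false
universe u
open CategoryTheory CategoryTheory.Limits AlgebraicGeometry IsLocalRing

namespace Groth.Agent.Lib.RefDomH6

open Groth.Agent.Lib.RefVal

set_option maxHeartbeats 800000 in
/-- Let `C` be the composite of a valuation ring `V₀` of `L` and a valuation ring of its residue
field, and let `C → C'` be a local homomorphism into a local domain with an injection into a field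
`K'`, compatible with a map of fields `L → K'`. Then there is a valuation ring `B` of `K'` which
contains the image of `C'` and dominates `V₀`. -/
theorem exists_valuationSubring_dominating {L K' : Type u} [Field L] [Field K']
    (V₀ : ValuationSubring L) (Vt : ValuationSubring (ResidueField ↥V₀))
    {C' : Type u} [CommRing C'] [IsDomain C'] [IsLocalRing C'] [Algebra C' K']
    (hinjC' : Function.Injective (algebraMap C' K'))
    (φ : ↥(composite V₀ Vt) →+* C') [IsLocalHom φ] (ψ' : L →+* K')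
    (hc : (algebraMap C' K').comp φ = ψ'.comp (composite V₀ Vt).subtype) :
    ∃ (B : ValuationSubring K') (ν : ↥V₀ →+* ↥B) (νC : C' →+* ↥B),
      (∀ v : ↥V₀, ((ν v : ↥B) : K') = ψ' (v : L)) ∧
      (∀ c : C', ((νC c : ↥B) : K') = algebraMap C' K' c) ∧ IsLocalHom ν := by
  classical
  have hc' : ∀ a : ↥(composite V₀ Vt), algebraMap C' K' (φ a) = ψ' (a : L) :=
    fun a => congr($hc a)
  have hinj : Function.Injective φ := by
    intro a b hab
    apply Subtype.ext
    apply ψ'.injective
    rw [← hc', ← hc', hab]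
  -- the prime of the composite
  let 𝔭C : PrimeSpectrum ↥(composite V₀ Vt) :=
    ⟨(maximalIdeal ↥V₀).comap (compositeι V₀ Vt), inferInstance⟩
  obtain ⟨𝔭', h𝔭'⟩ := comap_surjective_of_injective_local φ hinj 𝔭C
  have hmem : ∀ a : ↥(composite V₀ Vt),
      φ a ∈ 𝔭'.asIdeal ↔ compositeι V₀ Vt a ∈ maximalIdeal ↥V₀ := by
    intro a
    have h1 := congrArg PrimeSpectrum.asIdeal h𝔭'
    have h2 : a ∈ (PrimeSpectrum.comap φ 𝔭').asIdeal ↔ a ∈ 𝔭C.asIdeal := by rw [h1]
    exact h2
  have hunit : ∀ s : 𝔭'.asIdeal.primeCompl, IsUnit (algebraMap C' K' (s : C')) := by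
    intro s
    refine IsUnit.mk0 _ ?_
    intro h0
    have hs0 : (s : C') = 0 := hinjC' (by rw [h0, map_zero])
    exact s.2 (by rw [hs0]; exact zero_mem _)
  obtain ⟨ιD, hιDdef⟩ : ∃ ιD : Localization.AtPrime 𝔭'.asIdeal →+* K',
      ιD = IsLocalization.lift (M := 𝔭'.asIdeal.primeCompl)
        (S := Localization.AtPrime 𝔭'.asIdeal) hunit := ⟨_, rfl⟩
  have hιD : ∀ c : C', ιD (algebraMap C' (Localization.AtPrime 𝔭'.asIdeal) c) =
      algebraMap C' K' c := fun c => by rw [hιDdef]; exact IsLocalization.lift_eq hunit c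
  obtain ⟨B, hB, hloc⟩ := exists_factor_valuationRing ιD
  have hBC : ∀ c : C', algebraMap C' K' c ∈ B.toSubring := fun c => by
    rw [← hιD c]; exact hB _
  have hBV : ∀ v : ↥V₀, (ψ'.comp V₀.subtype) v ∈ B.toSubring := by
    intro v
    show ψ' (v : L) ∈ B
    by_cases hvC : (v : L) ∈ composite V₀ Vt
    · have h1 := hBC (φ ⟨v, hvC⟩)
      rw [hc'] at h1
      exact h1
    · have hinvC : (v : L)⁻¹ ∈ composite V₀ Vt :=
        ((composite V₀ Vt).mem_or_inv_mem (v : L)).resolve_left hvC
      have hv0 : (v : L) ≠ 0 := by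
        intro h0; apply hvC; rw [h0]; exact (composite V₀ Vt).zero_mem
      obtain ⟨a, ha⟩ : ∃ a : ↥(composite V₀ Vt), (a : L) = (v : L)⁻¹ := ⟨⟨_, hinvC⟩, rfl⟩
      have hna : compositeι V₀ Vt a ∉ maximalIdeal ↥V₀ := by
        intro hm
        have hu : IsUnit (compositeι V₀ Vt a) := by
          refine IsUnit.of_mul_eq_one v (Subtype.ext ?_)
          show ((compositeι V₀ Vt a : ↥V₀) : L) * (v : L) = 1
          rw [compositeι_coe, ha]
          exact inv_mul_cancel₀ hv0
        exact (mem_maximalIdeal _).mp hm hu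
      have hφa : φ a ∉ 𝔭'.asIdeal := fun h => hna ((hmem a).mp h)
      have huD : IsUnit (algebraMap C' (Localization.AtPrime 𝔭'.asIdeal) (φ a)) :=
        IsLocalization.map_units (Localization.AtPrime 𝔭'.asIdeal)
          (⟨φ a, hφa⟩ : 𝔭'.asIdeal.primeCompl)
      have huB : IsUnit ((ιD.codRestrict B.toSubring hB)
          (algebraMap C' (Localization.AtPrime 𝔭'.asIdeal) (φ a))) := huD.map _
      obtain ⟨w, hw⟩ := huB.exists_right_inv
      have hw' : ιD (algebraMap C' (Localization.AtPrime 𝔭'.asIdeal) (φ a)) * (w : K') = 1 :=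
        congrArg Subtype.val hw
      rw [hιD, hc', ha, map_inv₀] at hw'
      have hw'' : (w : K') = ((ψ' (v : L))⁻¹)⁻¹ := eq_inv_of_mul_eq_one_right hw'
      rw [inv_inv] at hw''
      rw [← hw'']
      exact w.2
  refine ⟨B, (ψ'.comp V₀.subtype).codRestrict B.toSubring hBV,
    (algebraMap C' K').codRestrict B.toSubring hBC, fun v => rfl, fun c => rfl, ⟨?_⟩⟩
  intro v hv
  by_contra hnu
  have hvm : v ∈ maximalIdeal ↥V₀ := (mem_maximalIdeal v).mpr hnu
  have hvC : (v : L) ∈ composite V₀ Vt := by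
    rw [mem_composite]
    refine ⟨v, ?_, rfl⟩
    have h0 : residue ↥V₀ v = 0 := (residue_eq_zero_iff v).mpr hvm
    rw [h0]; exact Vt.zero_mem
  obtain ⟨a, ha⟩ : ∃ a : ↥(composite V₀ Vt), (a : L) = (v : L) := ⟨⟨_, hvC⟩, rfl⟩
  have hιa : compositeι V₀ Vt a = v := Subtype.ext ha
  have hφa : φ a ∈ 𝔭'.asIdeal := (hmem a).mpr (by rw [hιa]; exact hvm)
  have hmD : algebraMap C' (Localization.AtPrime 𝔭'.asIdeal) (φ a) ∈
      maximalIdeal (Localization.AtPrime 𝔭'.asIdeal) :=
    (IsLocalization.AtPrime.to_map_mem_maximal_iff (Localization.AtPrime 𝔭'.asIdeal)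
      𝔭'.asIdeal (φ a)).mpr hφa
  have hnuB : ¬ IsUnit ((ιD.codRestrict B.toSubring hB)
      (algebraMap C' (Localization.AtPrime 𝔭'.asIdeal) (φ a))) := by
    intro hu
    exact (mem_maximalIdeal _).mp hmD (hloc.map_nonunit _ hu)
  apply hnuB
  have heq : (ιD.codRestrict B.toSubring hB)
      (algebraMap C' (Localization.AtPrime 𝔭'.asIdeal) (φ a)) =
      (ψ'.comp V₀.subtype).codRestrict B.toSubring hBV v := by
    apply Subtype.ext
    show ιD (algebraMap C' (Localization.AtPrime 𝔭'.asIdeal) (φ a)) = ψ' (v : L)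
    rw [hιD, hc', ha]
  rw [heq]
  exact hv

end Groth.Agent.Lib.RefDomH6
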