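import Mathlib
import Groth.Agent.Lib.RefCert_helper6
import Groth.Agent.Lib.ValCritDVRClosed2_helper6
import Groth.Agent.Lib.AlgSpEtale_helper7
import Groth.Agent.Lib.RefVal11_helper6

/-!
# Lifts after extension from a valuation ring of a residue field of an étale chart (helper6)
-/

set_option autoImplicit false
universe u
open CategoryTheory CategoryTheory.Limits AlgebraicGeometry Opposite IsLocalRing

namespace Groth.Agent.Lib.RefExtH6

open AlgSp Groth.Agent.Lib.AlgSpVal_helper7 Groth.Agent.Lib.AlgSpPoints_helper7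
  Groth.Agent.Lib.AlgSpTop_helper7 Groth.Agent.Lib.AlgSpQC_helper7
  Groth.Agent.Lib.AlgSpPullback_helper7 Groth.Agent.Lib.AlgSpLocP4_helper7
  Groth.Agent.Lib.ValCrit Groth.Agent.Lib.RefVal Groth.Agent.Lib.RefCertH6

variable {S : Scheme.{u}}

/-- The ring map `R → κ(x)` of a morphism to `Spec R` at a point. -/
noncomputable def evSpec {X : Scheme.{u}} {R : CommRingCat.{u}} (p : X ⟶ Spec R) (x : X) :
    R ⟶ X.residueField x :=
  (Scheme.ΓSpecIso R).inv ≫ evalMap p x ⊤ trivial

theorem specMap_evSpec {X : Scheme.{u}} {R : CommRingCat.{u}} (p : X ⟶ Spec R) (x : X) :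
    Spec.map (evSpec p x) = X.fromSpecResidueField x ≫ p := by
  have h := specMap_evalMap_fromSpec p x ⊤ (isAffineOpen_top _) trivial
  rw [IsAffineOpen.fromSpec_top, Scheme.isoSpec_Spec_inv] at h
  rw [evSpec, Spec.map_comp]
  exact h

theorem mem_asIdeal_iff {X : Scheme.{u}} {R : CommRingCat.{u}} (p : X ⟶ Spec R) (x : X) (r : R) :
    r ∈ (p x).asIdeal ↔ (evSpec p x).hom r = 0 := by
  have h : (Spec.map (evSpec p x)) (closedPoint (X.residueField x)) = p x := by
    rw [specMap_evSpec, Scheme.Hom.comp_apply, Scheme.fromSpecResidueField_apply]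
  rw [← h]
  change (evSpec p x).hom r ∈ (closedPoint (X.residueField x)).asIdeal ↔ _
  change _ ∈ maximalIdeal _ ↔ _
  rw [mem_maximalIdeal, mem_nonunits_iff, isUnit_iff_ne_zero, not_not]

theorem evalMap_top_eq {X Y : Scheme.{u}} (p : X ⟶ Y) (x : X) :
    evalMap p x ⊤ trivial = p.appTop ≫ X.Γevaluation x := by
  unfold evalMap
  exact Scheme.Γevaluation_naturality p x

theorem evSpec_eq {X : Scheme.{u}} {R : CommRingCat.{u}} (p : X ⟶ Spec R) (x : X) :
    evSpec p x = (Scheme.ΓSpecIso R).inv ≫ p.appTop ≫ X.Γevaluation x := by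
  rw [evSpec, evalMap_top_eq]

/-- Two morphisms from a spectrum to an affine scheme which agree after restriction along an
injective ring map are equal. -/
theorem eq_of_SpecMap_comp_eq_affine {Y : Scheme.{u}} [IsAffine Y] {A B : CommRingCat.{u}}
    (ρ : A ⟶ B) (hρ : Function.Injective ρ.hom) (u v : Spec A ⟶ Y)
    (h : Spec.map ρ ≫ u = Spec.map ρ ≫ v) : u = v := by
  apply (cancel_mono Y.isoSpec.hom).mp
  rw [← Spec.map_preimage (u ≫ Y.isoSpec.hom), ← Spec.map_preimage (v ≫ Y.isoSpec.hom)]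
  congr 1
  have h2 : Spec.map (Spec.preimage (u ≫ Y.isoSpec.hom) ≫ ρ) =
      Spec.map (Spec.preimage (v ≫ Y.isoSpec.hom) ≫ ρ) := by
    rw [Spec.map_comp, Spec.map_comp, Spec.map_preimage, Spec.map_preimage, ← Category.assoc,
      ← Category.assoc, h]
  have h3 := Spec.map_injective h2
  ext a
  apply hρ
  exact congr($h3 a)

/-- **Uniqueness of lifts from the spectrum of a domain** for a separated morphism. -/
theorem eq_of_eq_generic {F G : Sp S} (f : F ⟶ G) (hf : IsSeparatedMor f) {D K : Type u}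
    [CommRing D] [IsDomain D] [Field K] (ι : D →+* K) (hι : Function.Injective ι)
    (str : Spec (CommRingCat.of D) ⟶ S) (l l' : (yon S).obj (Over.mk str) ⟶ F)
    (h1 : (yon S).map (Over.homMk (Spec.map (CommRingCat.ofHom ι)) rfl :
        Over.mk (Spec.map (CommRingCat.ofHom ι) ≫ str) ⟶ Over.mk str) ≫ l =
      (yon S).map (Over.homMk (Spec.map (CommRingCat.ofHom ι)) rfl :
        Over.mk (Spec.map (CommRingCat.ofHom ι) ≫ str) ⟶ Over.mk str) ≫ l')
    (h2 : l ≫ f = l' ≫ f) : l = l' := by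
  let jD : Over.mk (Spec.map (CommRingCat.ofHom ι) ≫ str) ⟶ Over.mk str :=
    Over.homMk (Spec.map (CommRingCat.ofHom ι)) rfl
  obtain ⟨m, hm1, hm2⟩ : ∃ m : (yon S).obj (Over.mk str) ⟶ pullback f f,
      m ≫ pullback.fst _ _ = l ∧ m ≫ pullback.snd _ _ = l' :=
    ⟨pullback.lift l l' h2, pullback.lift_fst _ _ _, pullback.lift_snd _ _ _⟩
  have sqE := hf.rep.isPullback m
  have hci : IsClosedImmersion (hf.rep.snd m).left := hf.property_snd m
  have hw : ((yon S).map jD ≫ l) ≫ pullback.diagonal f = (yon S).map jD ≫ m := by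
    apply pullback.hom_ext
    · rw [Category.assoc, pullback.diagonal_fst, Category.comp_id, Category.assoc, hm1]
    · rw [Category.assoc, pullback.diagonal_snd, Category.comp_id, Category.assoc, hm2]
      exact h1
  obtain ⟨k, hk⟩ := (yon S).map_surjective (sqE.lift ((yon S).map jD ≫ l) ((yon S).map jD) hw)
  have hkj : k ≫ hf.rep.snd m = jD :=
    (yon S).map_injective (by rw [Functor.map_comp, hk, sqE.lift_snd])
  have hkj' : k.left ≫ (hf.rep.snd m).left = Spec.map (CommRingCat.ofHom ι) := by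
    have := congrArg (fun t => t.left) hkj
    exact this
  have hsurj : Surjective (hf.rep.snd m).left := by
    refine ⟨fun y => ?_⟩
    have hcl : IsClosed (Set.range (hf.rep.snd m).left) :=
      (hf.rep.snd m).left.isClosedEmbedding.isClosed_range
    let x0 : PrimeSpectrum K := ⟨⊥, Ideal.isPrime_bot⟩
    let η : PrimeSpectrum D := PrimeSpectrum.comap ι x0
    have hη : η.asIdeal = ⊥ := by
      change Ideal.comap ι ⊥ = ⊥
      exact Ideal.comap_bot_of_injective _ hι
    have hmem : η ∈ Set.range (hf.rep.snd m).left := by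
      refine ⟨k.left x0, ?_⟩
      rw [← Scheme.Hom.comp_apply, hkj']
      rfl
    have hsub : closure {η} ⊆ Set.range (hf.rep.snd m).left :=
      hcl.closure_subset_iff.2 (Set.singleton_subset_iff.2 hmem)
    rw [PrimeSpectrum.closure_singleton, hη] at hsub
    exact hsub (by simp)
  have hred : IsReduced (Spec (CommRingCat.of D)) := inferInstance
  have hiso : IsIso (hf.rep.snd m).left :=
    @isIso_of_isClosedImmersion_of_surjective _ _ (hf.rep.snd m).left hci hsurj hred
  have hiso2 : IsIso ((Over.forget S).map (hf.rep.snd m)) := hiso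
  have hiso' : IsIso (hf.rep.snd m) := isIso_of_reflects_iso _ (Over.forget S)
  have hm : m = inv ((yon S).map (hf.rep.snd m)) ≫ hf.rep.fst m ≫ pullback.diagonal f := by
    rw [sqE.w, IsIso.inv_hom_id_assoc]
  rw [← hm1, ← hm2, hm]
  simp

section ctx

variable {P : Sp S} {Z : Over S} (q : P ⟶ (yon S).obj Z) {Z' : Over S}
  (t : (yon S).obj Z' ⟶ P) (ψ : Z' ⟶ Z) (htψ : t ≫ q = (yon S).map ψ) (z : ↥Z'.left)

theorem str_eq (V : ValuationSubring ↑(Z'.left.residueField z))
    (φ : Spec (CommRingCat.of ↥V) ⟶ Z.left)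
    (hφ : Spec.map (CommRingCat.ofHom V.subtype) ≫ φ =
      Z'.left.fromSpecResidueField z ≫ ψ.left) :
    Z'.left.fromSpecResidueField z ≫ Z'.hom =
      Spec.map (CommRingCat.ofHom (algebraMap ↥V ↑(Z'.left.residueField z))) ≫ φ ≫ Z.hom := by
  rw [← Over.w ψ, ← Category.assoc, ← hφ, Category.assoc]
  rfl

/-- The valuative square attached to a valuation subring of the residue field of `z`. -/
noncomputable def sqOf (V : ValuationSubring ↑(Z'.left.residueField z))
    (φ : Spec (CommRingCat.of ↥V) ⟶ Z.left)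
    (hφ : Spec.map (CommRingCat.ofHom V.subtype) ≫ φ =
      Z'.left.fromSpecResidueField z ≫ ψ.left) : ValSq q where
  A := ↥V
  K := ↑(Z'.left.residueField z)
  str := φ ≫ Z.hom
  top := (yon S).map (Over.homMk (Z'.left.fromSpecResidueField z) (str_eq ψ z V φ hφ) :
    Over.mk (Spec.map (CommRingCat.ofHom (algebraMap ↥V ↑(Z'.left.residueField z))) ≫ φ ≫ Z.hom)
      ⟶ Z') ≫ t
  bot := (yon S).map (Over.homMk φ rfl : Over.mk (φ ≫ Z.hom) ⟶ Z)
  comm := by
    rw [Category.assoc, htψ, ← Functor.map_comp, ← Functor.map_comp]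
    congr 1
    ext
    exact hφ.symm

end ctx

set_option maxHeartbeats 1600000 in
/-- A point of the étale fibre over the generic point of a valuative square, together with a
valuation ring of its residue field dominating the given one and containing the coordinates of the
chart, gives a lift after extension. -/
theorem hasLiftExt_of_valuationSubring {P : Sp S} {Z : Over S} [IsAffine Z.left]
    (q : P ⟶ (yon S).obj Z) {X₁ : Over S} [IsAffine X₁.left]
    (b : (yon S).obj X₁ ⟶ P) (hbe : RepWith @Etale b) (φ₀ : X₁ ⟶ Z)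
    (hφ₀ : (yon S).map φ₀ = b ≫ q) (sq : ValSq q) (e : ↥(hbe.rep.pullback sq.top).left)
    (V' : ValuationSubring ↑((hbe.rep.pullback sq.top).left.residueField e))
    (hV'1 : ∀ a : sq.A, (evSpec (R := CommRingCat.of sq.K) (hbe.rep.snd sq.top).left e).hom
      (algebraMap sq.A sq.K a) ∈ V')
    (hV'2 : ∀ a ∈ maximalIdeal sq.A, V'.valuation
      ((evSpec (R := CommRingCat.of sq.K) (hbe.rep.snd sq.top).left e).hom
        (algebraMap sq.A sq.K a)) < 1)
    (hV'3 : ∀ c, (evalMap (hbe.rep.fst' sq.top).left e ⊤ trivial).hom c ∈ V') :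
    sq.HasLiftExt := by
  obtain ⟨E, hEdef⟩ : ∃ E : Over S, E = hbe.rep.pullback sq.top := ⟨_, rfl⟩
  subst hEdef
  obtain ⟨sE, hsE⟩ : ∃ sE : hbe.rep.pullback sq.top ⟶ sq.ptK, sE = hbe.rep.snd sq.top := ⟨_, rfl⟩
  obtain ⟨fE, hfE⟩ : ∃ fE : hbe.rep.pullback sq.top ⟶ X₁, fE = hbe.rep.fst' sq.top := ⟨_, rfl⟩
  rw [← hsE] at hV'1 hV'2
  rw [← hfE] at hV'3
  have hpb : (yon S).map fE ≫ b = (yon S).map sE ≫ sq.top := by
    rw [hsE, hfE]; exact (hbe.rep.isPullback' sq.top).w
  obtain ⟨β, hβ⟩ := (yon S).map_surjective sq.bot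
  -- ring maps
  obtain ⟨ρ, hρdef⟩ : ∃ ρ : CommRingCat.of sq.K ⟶ (hbe.rep.pullback sq.top).left.residueField e,
      ρ = evSpec (R := CommRingCat.of sq.K) sE.left e := ⟨_, rfl⟩
  rw [← hρdef] at hV'1 hV'2
  have hρ : Spec.map ρ = (hbe.rep.pullback sq.top).left.fromSpecResidueField e ≫ sE.left := by
    rw [hρdef]; exact specMap_evSpec _ _
  obtain ⟨x, hxdef⟩ : ∃ x : Γ(X₁.left, ⊤) ⟶ (hbe.rep.pullback sq.top).left.residueField e,
      x = evalMap fE.left e ⊤ trivial := ⟨_, rfl⟩
  rw [← hxdef] at hV'3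
  have hx : Spec.map x ≫ (isAffineOpen_top X₁.left).fromSpec =
      (hbe.rep.pullback sq.top).left.fromSpecResidueField e ≫ fE.left := by
    rw [hxdef]; exact specMap_evalMap_fromSpec _ _ _ _ _
  obtain ⟨φ', hφ'def⟩ : ∃ φ' : sq.A →+* ↥V',
      φ' = (ρ.hom.comp (algebraMap sq.A sq.K)).codRestrict V'.toSubring hV'1 := ⟨_, rfl⟩
  have hφ'coe : ∀ a, ((φ' a : ↥V') : ↑((hbe.rep.pullback sq.top).left.residueField e)) =
      ρ.hom (algebraMap sq.A sq.K a) := fun a => by rw [hφ'def]; rfl
  obtain ⟨xV, hxVdef⟩ : ∃ xV : Γ(X₁.left, ⊤) ⟶ CommRingCat.of ↥V',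
      xV = CommRingCat.ofHom (x.hom.codRestrict V'.toSubring hV'3) := ⟨_, rfl⟩
  have hxV : xV ≫ CommRingCat.ofHom V'.subtype = x := by
    rw [hxVdef]; ext c; rfl
  have hcomm : (algebraMap ↥V' ↑((hbe.rep.pullback sq.top).left.residueField e)).comp φ' =
      ρ.hom.comp (algebraMap sq.A sq.K) := by
    ext a; exact hφ'coe a
  have hloc : IsLocalHom φ' := by
    constructor
    intro a ha
    by_contra hna
    have h1 : a ∈ maximalIdeal sq.A := (mem_maximalIdeal _).mpr hna
    have h2 := hV'2 a h1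
    rw [← hφ'coe a] at h2
    have h3 : φ' a ∈ maximalIdeal ↥V' := (V'.valuation_lt_one_iff _).mpr h2
    exact (mem_maximalIdeal _).mp h3 ha
  -- equality of the two morphisms `Spec V' ⟶ Z`
  have hOver : fE ≫ φ₀ = sE ≫ sq.j ≫ β := by
    apply (yon S).map_injective
    rw [Functor.map_comp, hφ₀, ← Category.assoc, hpb, Category.assoc, sq.comm, Functor.map_comp,
      Functor.map_comp, hβ]
  have hOverL : fE.left ≫ φ₀.left =
      sE.left ≫ Spec.map (CommRingCat.ofHom (algebraMap sq.A sq.K)) ≫ β.left := by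
    have := congrArg (fun k => k.left) hOver
    exact this
  have hsubφ : CommRingCat.ofHom φ' ≫ CommRingCat.ofHom V'.subtype =
      CommRingCat.ofHom (algebraMap sq.A sq.K) ≫ ρ := by
    ext a; exact hφ'coe a
  have hZ : (Spec.map xV ≫ (isAffineOpen_top X₁.left).fromSpec) ≫ φ₀.left =
      Spec.map (CommRingCat.ofHom φ') ≫ β.left := by
    apply eq_of_SpecMap_comp_eq_affine (CommRingCat.ofHom V'.subtype) Subtype.val_injective
    rw [← Category.assoc, ← Category.assoc, ← Spec.map_comp, hxV, hx, Category.assoc, hOverL,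
      ← Category.assoc, ← hρ, ← Category.assoc (Spec.map _) (Spec.map _), ← Spec.map_comp, ← hsubφ,
      Spec.map_comp, Category.assoc]
  have hβw : β.left ≫ Z.hom = sq.str := Over.w β
  -- the lift
  let ptA' : Over S := Over.mk (Spec.map (CommRingCat.ofHom φ') ≫ sq.str)
  have hlamw : (Spec.map xV ≫ (isAffineOpen_top X₁.left).fromSpec) ≫ X₁.hom = ptA'.hom := by
    show _ = Spec.map (CommRingCat.ofHom φ') ≫ sq.str
    rw [← Over.w φ₀, ← Category.assoc, hZ, Category.assoc, hβw]
  let lam : ptA' ⟶ X₁ := Over.homMk (Spec.map xV ≫ (isAffineOpen_top X₁.left).fromSpec) hlamw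
  refine ⟨⟨↥V', ↑((hbe.rep.pullback sq.top).left.residueField e), φ', ρ.hom, hcomm, hloc⟩,
    (yon S).map lam ≫ b, ?_, ?_⟩
  · -- generic point
    have hεw : (hbe.rep.pullback sq.top).left.fromSpecResidueField e ≫
        (hbe.rep.pullback sq.top).hom =
        Spec.map (CommRingCat.ofHom
          (algebraMap ↥V' ↑((hbe.rep.pullback sq.top).left.residueField e))) ≫
        Spec.map (CommRingCat.ofHom φ') ≫ sq.str := by
      rw [← Over.w sE, ← Category.assoc, ← hρ]
      show Spec.map ρ ≫ Spec.map (CommRingCat.ofHom (algebraMap sq.A sq.K)) ≫ sq.str = _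
      rw [← Category.assoc, ← Spec.map_comp, ← hsubφ, Spec.map_comp, Category.assoc]
      rfl
    let ε : Over.mk (Spec.map (CommRingCat.ofHom
          (algebraMap ↥V' ↑((hbe.rep.pullback sq.top).left.residueField e))) ≫
        Spec.map (CommRingCat.ofHom φ') ≫ sq.str) ⟶ hbe.rep.pullback sq.top :=
      Over.homMk ((hbe.rep.pullback sq.top).left.fromSpecResidueField e) hεw
    refine Eq.trans (b := (yon S).map (ε ≫ fE) ≫ b) ?_
      (Eq.trans (b := (yon S).map (ε ≫ sE) ≫ sq.top) ?_ ?_)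
    · simp only [← Category.assoc, ← Functor.map_comp]
      congr 2
      ext
      simp only [Over.comp_left, Over.homMk_left]
      show Spec.map (CommRingCat.ofHom V'.subtype) ≫ Spec.map xV ≫ _ = _
      rw [← Category.assoc, ← Spec.map_comp, hxV, hx]
      rfl
    · simp only [Functor.map_comp, Category.assoc]
      rw [hpb]
    · congr 2
      ext
      simp only [Over.comp_left, Over.homMk_left]
      exact hρ.symm
  · -- over the base
    rw [Category.assoc, ← hφ₀, ← Functor.map_comp, ← hβ, ← Functor.map_comp]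
    congr 1
    ext
    simp only [Over.comp_left, Over.homMk_left]
    exact hZ

end Groth.Agent.Lib.RefExtH6
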