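import Mathlib
import Groth.Agent.Lib.RefExt1_helper6

/-!
# Lifts after extension for all valuation rings from lifts for discrete valuation rings (helper6)
-/

set_option autoImplicit false
universe u
open CategoryTheory CategoryTheory.Limits AlgebraicGeometry Opposite IsLocalRing

namespace Groth.Agent.Lib.RefExtH6

open AlgSp Groth.Agent.Lib.AlgSpVal_helper7 Groth.Agent.Lib.AlgSpPoints_helper7
  Groth.Agent.Lib.AlgSpTop_helper7 Groth.Agent.Lib.AlgSpQC_helper7
  Groth.Agent.Lib.AlgSpPullback_helper7 Groth.Agent.Lib.AlgSpLocP4_helper7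
  Groth.Agent.Lib.ValCrit Groth.Agent.Lib.RefVal Groth.Agent.Lib.RefCertH6

variable {S : Scheme.{u}}

set_option maxHeartbeats 3200000 in
/-- A lift over the valuation ring `A` produces a point of the étale fibre over the generic point
which carries no certificate for `A`. -/
theorem exists_not_cert_of_lift {P : Sp S} {Z : Over S} (q : P ⟶ (yon S).obj Z) {Z' : Over S}
    (t : (yon S).obj Z' ⟶ P) (ψ : Z' ⟶ Z) (htψ : t ≫ q = (yon S).map ψ) (z : ↥Z'.left)
    {X₁ : Over S} [IsAffine X₁.left] (b : (yon S).obj X₁ ⟶ P) (hbe : RepWith @Etale b)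
    (hbs : RepWith @Surjective b)
    (V A : ValuationSubring ↑(Z'.left.residueField z))
    (φV : Spec (CommRingCat.of ↥V) ⟶ Z.left)
    (hφV : Spec.map (CommRingCat.ofHom V.subtype) ≫ φV =
      Z'.left.fromSpecResidueField z ≫ ψ.left)
    (φA : Spec (CommRingCat.of ↥A) ⟶ Z.left)
    (hφA : Spec.map (CommRingCat.ofHom A.subtype) ≫ φA =
      Z'.left.fromSpecResidueField z ≫ ψ.left)
    (l : (yon S).obj (sqOf q t ψ htψ z A φA hφA).ptA ⟶ P)
    (hl1 : (yon S).map (sqOf q t ψ htψ z A φA hφA).j ≫ l = (sqOf q t ψ htψ z A φA hφA).top) :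
    ∃ e : ↥(hbe.rep.pullback (sqOf q t ψ htψ z V φV hφV).top).left,
      ¬ Cert (mSet A)
        (evSpec (R := CommRingCat.of ↑(Z'.left.residueField z))
          (hbe.rep.snd (sqOf q t ψ htψ z V φV hφV).top).left e).hom
        (evalMap (hbe.rep.fst' (sqOf q t ψ htψ z V φV hφV).top).left e ⊤ trivial).hom := by
  classical
  let sV : ValSq q := sqOf q t ψ htψ z V φV hφV
  let sA : ValSq q := sqOf q t ψ htψ z A φA hφA
  obtain ⟨sAE, hsAE⟩ : ∃ s : hbe.rep.pullback l ⟶ sA.ptA, s = hbe.rep.snd l := ⟨_, rfl⟩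
  obtain ⟨fAE, hfAE⟩ : ∃ f : hbe.rep.pullback l ⟶ X₁, f = hbe.rep.fst' l := ⟨_, rfl⟩
  have hpbA : (yon S).map fAE ≫ b = (yon S).map sAE ≫ l := by
    rw [hsAE, hfAE]; exact (hbe.rep.isPullback' l).w
  haveI hEt : Etale sAE.left := by rw [hsAE]; exact hbe.property_snd l
  haveI hSurj : Surjective sAE.left := by
    rw [hsAE]; exact hbs.property _ _ _ (hbe.rep.isPullback l)
  haveI : Flat sAE.left := inferInstance
  obtain ⟨e', he'⟩ := sAE.left.surjective (closedPoint ↥A)
  let η : ↥(Spec (CommRingCat.of ↥A)) := (⟨⊥, Ideal.isPrime_bot⟩ : PrimeSpectrum ↥A)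
  have hηsp : η ⤳ sAE.left e' := by
    rw [he']; exact specializes_closedPoint (R := ↥A) η
  obtain ⟨e'', he''sp, he''η⟩ := (Flat.generalizingMap (f := sAE.left)) hηsp
  -- residue field data at `e''`
  obtain ⟨aE, haEdef⟩ : ∃ a : CommRingCat.of ↥A ⟶ (hbe.rep.pullback l).left.residueField e'',
      a = evSpec (R := CommRingCat.of ↥A) sAE.left e'' := ⟨_, rfl⟩
  have haE : Spec.map aE = (hbe.rep.pullback l).left.fromSpecResidueField e'' ≫ sAE.left := by
    rw [haEdef]; exact specMap_evSpec _ _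
  have haEinj : Function.Injective aE.hom := by
    rw [injective_iff_map_eq_zero]
    intro r hr
    have h1 : r ∈ (sAE.left e'').asIdeal := by
      rw [haEdef] at hr
      exact (mem_asIdeal_iff (R := CommRingCat.of ↥A) sAE.left e'' r).mpr hr
    rw [he''η] at h1
    exact h1
  obtain ⟨ρ'', hρ''def⟩ : ∃ ρ : ↑(Z'.left.residueField z) →+*
      ↑((hbe.rep.pullback l).left.residueField e''),
      ρ = IsFractionRing.lift (A := ↥A) (K := ↑(Z'.left.residueField z)) haEinj := ⟨_, rfl⟩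
  have hρ''A' : ∀ r : ↥A, ρ'' (algebraMap ↥A ↑(Z'.left.residueField z) r) = aE.hom r :=
    fun r => by
      rw [hρ''def]
      exact IsFractionRing.lift_algebraMap haEinj r
  have hρ''A : CommRingCat.ofHom A.subtype ≫ CommRingCat.ofHom ρ'' = aE := by
    ext r
    exact hρ''A' r
  obtain ⟨x'', hx''def⟩ : ∃ x : Γ(X₁.left, ⊤) ⟶ (hbe.rep.pullback l).left.residueField e'',
      x = evalMap fAE.left e'' ⊤ trivial := ⟨_, rfl⟩
  have hx'' : Spec.map x'' ≫ (isAffineOpen_top X₁.left).fromSpec =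
      (hbe.rep.pullback l).left.fromSpecResidueField e'' ≫ fAE.left := by
    rw [hx''def]; exact specMap_evalMap_fromSpec _ _ _ _ _
  -- objects over `S`
  let pt : Over S := Over.mk ((hbe.rep.pullback l).left.fromSpecResidueField e'' ≫
    (hbe.rep.pullback l).hom)
  let ι'' : pt ⟶ hbe.rep.pullback l :=
    Over.homMk ((hbe.rep.pullback l).left.fromSpecResidueField e'') rfl
  have hptw : Spec.map (CommRingCat.ofHom ρ'') ≫
      (Z'.left.fromSpecResidueField z ≫ Z'.hom) = pt.hom := by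
    show _ = (hbe.rep.pullback l).left.fromSpecResidueField e'' ≫ (hbe.rep.pullback l).hom
    have h1 : (hbe.rep.pullback l).left.fromSpecResidueField e'' ≫ (hbe.rep.pullback l).hom =
        Spec.map aE ≫ (φA ≫ Z.hom) := by
      have e1 : (hbe.rep.pullback l).hom = sAE.left ≫ (φA ≫ Z.hom) := (Over.w sAE).symm
      rw [e1, haE]
      exact (Category.assoc _ _ _).symm
    rw [h1, ← hρ''A, Spec.map_comp, Category.assoc]
    congr 1
    exact str_eq ψ z A φA hφA
  let kV : pt ⟶ sV.ptK := Over.homMk (Spec.map (CommRingCat.ofHom ρ'')) (by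
    show Spec.map (CommRingCat.ofHom ρ'') ≫
      (Spec.map (CommRingCat.ofHom (algebraMap ↥V ↑(Z'.left.residueField z))) ≫ φV ≫ Z.hom) =
      pt.hom
    rw [← str_eq ψ z V φV hφV]; exact hptw)
  let kA : pt ⟶ sA.ptK := Over.homMk (Spec.map (CommRingCat.ofHom ρ'')) (by
    show Spec.map (CommRingCat.ofHom ρ'') ≫
      (Spec.map (CommRingCat.ofHom (algebraMap ↥A ↑(Z'.left.residueField z))) ≫ φA ≫ Z.hom) =
      pt.hom
    rw [← str_eq ψ z A φA hφA]; exact hptw)
  let κV : sV.ptK ⟶ Z' := Over.homMk (Z'.left.fromSpecResidueField z) (str_eq ψ z V φV hφV)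
  let κA : sA.ptK ⟶ Z' := Over.homMk (Z'.left.fromSpecResidueField z) (str_eq ψ z A φA hφA)
  have hsVtop : sV.top = (yon S).map κV ≫ t := rfl
  have hsAtop : sA.top = (yon S).map κA ≫ t := rfl
  have hkκ : kA ≫ κA = kV ≫ κV := by
    ext
    rfl
  have hιs : ι'' ≫ sAE = kA ≫ sA.j := by
    ext
    show (hbe.rep.pullback l).left.fromSpecResidueField e'' ≫ sAE.left =
      Spec.map (CommRingCat.ofHom ρ'') ≫
        Spec.map (CommRingCat.ofHom (algebraMap ↥A ↑(Z'.left.residueField z)))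
    rw [← haE, ← hρ''A, Spec.map_comp]
    rfl
  have hcond : (yon S).map (ι'' ≫ fAE) ≫ b = (yon S).map kV ≫ sV.top := by
    have e1 : (yon S).map (ι'' ≫ fAE) ≫ b = (yon S).map (ι'' ≫ sAE) ≫ l := by
      simp only [Functor.map_comp, Category.assoc]
      rw [hpbA]
    have e2 : (yon S).map (kA ≫ sA.j) ≫ l = (yon S).map (kA ≫ κA) ≫ t := by
      simp only [Functor.map_comp, Category.assoc]
      rw [hl1, hsAtop]
    rw [e1, hιs, e2, hkκ, hsVtop]
    simp only [Functor.map_comp, Category.assoc]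
  obtain ⟨m, hmdef⟩ : ∃ m : pt ⟶ hbe.rep.pullback sV.top,
      m = hbe.rep.lift' (ι'' ≫ fAE) kV hcond := ⟨_, rfl⟩
  have hm1 : m ≫ hbe.rep.fst' sV.top = ι'' ≫ fAE := by
    rw [hmdef]; exact hbe.rep.lift'_fst _ _ _
  have hm2 : m ≫ hbe.rep.snd sV.top = kV := by
    rw [hmdef]; exact hbe.rep.lift'_snd _ _ _
  have hm1L : m.left ≫ (hbe.rep.fst' sV.top).left =
      (hbe.rep.pullback l).left.fromSpecResidueField e'' ≫ fAE.left := by
    have := congrArg (fun k => k.left) hm1
    exact this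
  have hm2L : m.left ≫ (hbe.rep.snd sV.top).left = Spec.map (CommRingCat.ofHom ρ'') := by
    have := congrArg (fun k => k.left) hm2
    exact this
  -- the point `e` and the map of residue fields
  obtain ⟨mL, hmL⟩ : ∃ mL : Spec (CommRingCat.of ↑((hbe.rep.pullback l).left.residueField e'')) ⟶
      (hbe.rep.pullback sV.top).left, mL = m.left := ⟨_, rfl⟩
  rw [← hmL] at hm1L hm2L
  obtain ⟨e, hedef⟩ : ∃ e : ↥(hbe.rep.pullback sV.top).left,
      e = mL (closedPoint ↑((hbe.rep.pullback l).left.residueField e'')) := ⟨_, rfl⟩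
  obtain ⟨τ, hτ⟩ : ∃ τ : (hbe.rep.pullback sV.top).left.residueField e ⟶
      (hbe.rep.pullback l).left.residueField e'',
      Spec.map τ ≫ (hbe.rep.pullback sV.top).left.fromSpecResidueField e = mL := by
    rw [hedef]
    exact ⟨_, Scheme.descResidueField_stalkClosedPointTo_fromSpecResidueField _ _ mL⟩
  have hτρ : evSpec (R := CommRingCat.of ↑(Z'.left.residueField z))
      (hbe.rep.snd sV.top).left e ≫ τ = CommRingCat.ofHom ρ'' := by
    apply Spec.map_injective
    rw [Spec.map_comp, specMap_evSpec, ← Category.assoc, hτ]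
    exact hm2L
  have hτx : evalMap (hbe.rep.fst' sV.top).left e ⊤ trivial ≫ τ = x'' := by
    apply fromSpec_cancel (isAffineOpen_top X₁.left)
    rw [Spec.map_comp, Category.assoc,
      specMap_evalMap_fromSpec _ _ _ (isAffineOpen_top X₁.left) _, ← Category.assoc, hτ, hx'']
    exact hm1L
  refine ⟨e, ?_⟩
  refine not_cert_of_ringHoms (mSet A) _ _ τ.hom A.subtype
    ((Scheme.ΓSpecIso (CommRingCat.of ↥A)).inv ≫ sAE.left.appTop).hom fAE.left.appTop.hom
    ((hbe.rep.pullback l).left.Γevaluation e'').hom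
    (RingHom.ker ((hbe.rep.pullback l).left.Γevaluation e').hom)
    (RingHom.ker_ne_top _) ?_ ?_ ?_ ?_
  · intro s hs
    rw [RingHom.mem_ker] at hs ⊢
    by_contra hne
    have h1 : e' ∈ (hbe.rep.pullback l).left.basicOpen s :=
      ((hbe.rep.pullback l).left.evaluation_ne_zero_iff_mem_basicOpen (U := ⊤) e' (Set.mem_univ _) s).mp hne
    have h2 : e'' ∈ (hbe.rep.pullback l).left.basicOpen s :=
      he''sp.mem_open ((hbe.rep.pullback l).left.basicOpen s).2 h1
    exact ((hbe.rep.pullback l).left.evaluation_ne_zero_iff_mem_basicOpen (U := ⊤) e'' (Set.mem_univ _) s).mpr h2 hs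
  · intro a₀ ha₀
    refine ⟨⟨a₀, mSet_subset A ha₀⟩, rfl, ?_⟩
    rw [RingHom.mem_ker]
    have h1 : (evSpec (R := CommRingCat.of ↥A) sAE.left e').hom ⟨a₀, mSet_subset A ha₀⟩ = 0 := by
      have hmem : (⟨a₀, mSet_subset A ha₀⟩ : ↥A) ∈ (closedPoint ↥A).asIdeal :=
        (mem_mSet_iff A _).mp ha₀
      rw [← he'] at hmem
      exact (mem_asIdeal_iff (R := CommRingCat.of ↥A) sAE.left e' _).mp hmem
    rw [evSpec_eq] at h1
    exact h1
  · intro a₀
    have h1 := congr($hτρ (a₀ : ↑(Z'.left.residueField z)))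
    have h2 := congr($hρ''A a₀)
    rw [haEdef, evSpec_eq] at h2
    exact h1.trans h2
  · intro c
    have h1 := congr($hτx c)
    rw [hx''def] at h1
    have h2 := congr($(evalMap_top_eq fAE.left e'') c)
    exact h1.trans h2

set_option maxHeartbeats 3200000 in
/-- **Approximation by discrete valuation rings.** If all valuative squares over discrete valuation
subrings of `κ(z)` have lifts, then all valuative squares over valuation subrings of `κ(z)` have
lifts after extension. -/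
theorem hasLiftExt_of_dvr {P : Sp S} {Z : Over S} [IsAffine Z.left] [IsLocallyNoetherian Z.left]
    (q : P ⟶ (yon S).obj Z) {Z' : Over S}
    (t : (yon S).obj Z' ⟶ P) (ψ : Z' ⟶ Z) (htψ : t ≫ q = (yon S).map ψ)
    [LocallyOfFiniteType ψ.left] (z : ↥Z'.left)
    {X₁ : Over S} [IsAffine X₁.left] (b : (yon S).obj X₁ ⟶ P) (hbe : RepWith @Etale b)
    (hbs : RepWith @Surjective b) (hbq : RepWith @QuasiCompact b) (φ₀ : X₁ ⟶ Z)
    (hφ₀ : (yon S).map φ₀ = b ≫ q)
    (H : ∀ (A : ValuationSubring ↑(Z'.left.residueField z))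
      (φ : Spec (CommRingCat.of ↥A) ⟶ Z.left)
      (hφ : Spec.map (CommRingCat.ofHom A.subtype) ≫ φ =
        Z'.left.fromSpecResidueField z ≫ ψ.left),
      IsDiscreteValuationRing ↥A → (sqOf q t ψ htψ z A φ hφ).HasLift)
    (V : ValuationSubring ↑(Z'.left.residueField z))
    (φV : Spec (CommRingCat.of ↥V) ⟶ Z.left)
    (hφV : Spec.map (CommRingCat.ofHom V.subtype) ≫ φV =
      Z'.left.fromSpecResidueField z ≫ ψ.left) :
    (sqOf q t ψ htψ z V φV hφV).HasLiftExt := by
  classical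
  by_contra hno
  let sV : ValSq q := sqOf q t ψ htψ z V φV hφV
  have hcert : ∀ e : ↥(hbe.rep.pullback sV.top).left, Cert (mSet V)
      (evSpec (R := CommRingCat.of ↑(Z'.left.residueField z)) (hbe.rep.snd sV.top).left e).hom
      (evalMap (hbe.rep.fst' sV.top).left e ⊤ trivial).hom := by
    intro e
    by_contra hc
    obtain ⟨V', h1, h2, h3⟩ := exists_valuationSubring_of_not_cert V _ _ hc
    exact hno (hasLiftExt_of_valuationSubring q b hbe φ₀ hφ₀ sV e V' (fun a => h1 _ a.2)
      (fun a ha => h2 _ ((mem_mSet_iff V a).mpr ha)) h3)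
  -- finiteness and nonemptiness of the fibre
  haveI : Etale (hbe.rep.snd sV.top).left := hbe.property_snd sV.top
  haveI : QuasiCompact (hbe.rep.snd sV.top).left :=
    hbq.property _ _ _ (hbe.rep.isPullback sV.top)
  haveI : Surjective (hbe.rep.snd sV.top).left :=
    hbs.property _ _ _ (hbe.rep.isPullback sV.top)
  haveI : LocallyQuasiFinite (hbe.rep.snd sV.top).left :=
    Groth.Agent.Lib.AlgSpEtale_helper7.locallyQuasiFinite_of_unramified _
  haveI : Finite ↥(hbe.rep.pullback sV.top).left := by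
    have h := Scheme.Hom.finite_preimage_singleton (hbe.rep.snd sV.top).left
      (closedPoint ↑(Z'.left.residueField z))
    refine Set.finite_univ_iff.mp (h.subset (fun e _ => ?_))
    show (hbe.rep.snd sV.top).left e ∈ ({closedPoint ↑(Z'.left.residueField z)} : Set _)
    exact eq_closedPoint_of_field _
  haveI : Nonempty ↥(hbe.rep.pullback sV.top).left :=
    ⟨((hbe.rep.snd sV.top).left.surjective (closedPoint ↑(Z'.left.residueField z))).choose⟩
  -- the ring map `Γ(Z) → κ(z)`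
  obtain ⟨θ, hθdef⟩ : ∃ θ : Γ(Z.left, ⊤) ⟶ Z'.left.residueField z,
      θ = evalMap ψ.left z ⊤ trivial := ⟨_, rfl⟩
  have hθ : Spec.map θ ≫ (isAffineOpen_top Z.left).fromSpec =
      Z'.left.fromSpecResidueField z ≫ ψ.left := by
    rw [hθdef]; exact specMap_evalMap_fromSpec _ _ _ _ _
  have hθess : θ.hom.EssFiniteType := by
    rw [hθdef]; exact essFiniteType_evalMap ψ.left z ⊤ (isAffineOpen_top _) trivial
  haveI : IsNoetherianRing Γ(Z.left, ⊤) :=
    IsLocallyNoetherian.component_noetherian ⟨⊤, isAffineOpen_top _⟩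
  obtain ⟨βV, hβV⟩ := exists_factor_fromSpec φV (isAffineOpen_top Z.left) trivial
  have hβVθ : βV ≫ CommRingCat.ofHom V.subtype = θ := by
    apply fromSpec_cancel (isAffineOpen_top Z.left)
    rw [Spec.map_comp, Category.assoc, hβV, hφV, hθ]
  have hθV : ∀ r, θ.hom r ∈ V := fun r => by
    rw [← hβVθ]; exact (βV.hom r).2
  obtain ⟨A, hAdvr, hθA, hAcert⟩ := exists_dvr_of_forall_cert θ.hom hθess V hθV
    (fun e : ↥(hbe.rep.pullback sV.top).left =>
      ↑((hbe.rep.pullback sV.top).left.residueField e))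
    (fun e => (evSpec (R := CommRingCat.of ↑(Z'.left.residueField z))
      (hbe.rep.snd sV.top).left e).hom)
    (fun e => (evalMap (hbe.rep.fst' sV.top).left e ⊤ trivial).hom) hcert
  obtain ⟨θA, hθAdef⟩ : ∃ θA : Γ(Z.left, ⊤) ⟶ CommRingCat.of ↥A,
      θA = CommRingCat.ofHom (θ.hom.codRestrict A.toSubring hθA) := ⟨_, rfl⟩
  have hθA' : θA ≫ CommRingCat.ofHom A.subtype = θ := by
    rw [hθAdef]; ext r; rfl
  have hφA : Spec.map (CommRingCat.ofHom A.subtype) ≫
      (Spec.map θA ≫ (isAffineOpen_top Z.left).fromSpec) =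
      Z'.left.fromSpecResidueField z ≫ ψ.left := by
    rw [← Category.assoc, ← Spec.map_comp, hθA', hθ]
  obtain ⟨l, hl1, -⟩ := H A _ hφA hAdvr
  obtain ⟨e, he⟩ := exists_not_cert_of_lift q t ψ htψ z b hbe hbs V A φV hφV _ hφA l hl1
  exact he (hAcert e)

end Groth.Agent.Lib.RefExtH6
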