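import Mathlib
import Groth.Agent.Lib.RefExt2_helper6
import Groth.Agent.Lib.RefCover_helper6
import Groth.Agent.Lib.RefDom_helper6
import Groth.Agent.Lib.RefVal8_helper6
import Groth.Agent.Lib.AlgSpSep_helper7
import Groth.Agent.Lib.AlgSpLocP3_helper7
import Groth.Agent.Lib.AlgSpLocP7_helper7
import Groth.Agent.Lib.AlgSpLocP_helper7

/-!
# Specializations lift along morphisms satisfying the refined existence criterion (helper6)
-/

set_option autoImplicit false
universe u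
open CategoryTheory CategoryTheory.Limits AlgebraicGeometry Opposite IsLocalRing

namespace Groth.Agent.Lib.RefClosedH6

open AlgSp Groth.Agent.Lib.AlgSpVal_helper7 Groth.Agent.Lib.AlgSpPoints_helper7
  Groth.Agent.Lib.AlgSpTop_helper7 Groth.Agent.Lib.AlgSpQC_helper7
  Groth.Agent.Lib.AlgSpPullback_helper7 Groth.Agent.Lib.AlgSpLocP4_helper7
  Groth.Agent.Lib.ValCrit Groth.Agent.Lib.ValCrit2H7 Groth.Agent.Lib.UCLimitH7
  Groth.Agent.Lib.ValCritDVRClosedH6 Groth.Agent.Lib.RefVal Groth.Agent.Lib.RefExtH6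
  Groth.Agent.Lib.RefCoverH6 Groth.Agent.Lib.RefDomH6 Groth.Agent.Lib.AlgSpQC2_helper7
  Groth.Agent.Lib.AlgSpSep_helper7 Groth.Agent.Lib.AlgSpLocP_helper7
  Groth.Agent.Lib.AlgSpLocP3_helper7 Groth.Agent.Lib.AlgSpLocP7_helper7

variable {S : Scheme.{u}}

set_option maxHeartbeats 6400000 in
/-- **Specializations lift.** Let `q : P ⟶ h_Z` be separated with `Z` affine Noetherian, and let
`h : U ⟶ P` be of finite type with dense image such that all valuative squares of `h ≫ q` over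
discrete valuation rings have lifts to `P`. If `b : h_{X₁} ⟶ P` is an étale surjective
quasi-compact affine chart, `u'` a point of `X₁` and `y` a specialization of its image in `Z`,
then the image of `u'` in `|P|` specializes to a point over `y`. -/
theorem exists_specialization {P U : Sp S} {Z : Over S} [IsAffine Z.left]
    [IsLocallyNoetherian Z.left] (hP : IsAlgSpace P) (q : P ⟶ (yon S).obj Z)
    (hqs : IsSeparatedMor q) (h : U ⟶ P) (hhlft : LocP @LocallyOfFiniteType h)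
    (hhqc : IsQuasiCompactMor h) (hd : Dense (Set.range (Points.map h)))
    (hval : ∀ sq : ValSq (h ≫ q), IsDiscreteValuationRing sq.A →
      ∃ l : (yon S).obj sq.ptA ⟶ P, (yon S).map sq.j ≫ l = sq.top ≫ h ∧ l ≫ q = sq.bot)
    {X₁ : Over S} [IsAffine X₁.left] (b : (yon S).obj X₁ ⟶ P) (hbe : RepWith @Etale b)
    (hbs : RepWith @Surjective b) (hbq : RepWith @QuasiCompact b) (φ₀ : X₁ ⟶ Z)
    (hφ₀ : (yon S).map φ₀ = b ≫ q) [LocallyOfFiniteType φ₀.left]
    (u' : ↥X₁.left) (y : ↥Z.left) (hspec : φ₀.left u' ⤳ y) :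
    ∃ x' : Points P, Points.ofPt b u' ⤳ x' ∧ Points.map q x' = Points.ofScheme Z y := by
  obtain ⟨Z', c, d, z, hdc, hclft, hz⟩ := exists_specializes_chart hP h hhlft hhqc hd b hbe u'
  haveI := hclft
  obtain ⟨ψ, hψdef⟩ : ∃ ψ : Z' ⟶ Z, ψ = c ≫ φ₀ := ⟨_, rfl⟩
  obtain ⟨t, htdef⟩ : ∃ t : (yon S).obj Z' ⟶ P, t = (yon S).map c ≫ b := ⟨_, rfl⟩
  have htψ : t ≫ q = (yon S).map ψ := by
    rw [htdef, hψdef, Category.assoc, ← hφ₀, ← Functor.map_comp]
  have hψleft : ψ.left = c.left ≫ φ₀.left := by rw [hψdef]; rfl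
  haveI : LocallyOfFiniteType ψ.left := by rw [hψleft]; infer_instance
  obtain ⟨V₀, d₀, e, hd₁, hd₂⟩ := exists_dominating c.left u' z hz
  obtain ⟨R', dR, eR, hdR₁, hdR₂⟩ := exists_dominating φ₀.left y u' hspec
  have hdRcl : dR (closedPoint ↥R') = y := by
    haveI : IsLocalHom (CommRingCat.ofHom (residue ↥R')).hom :=
      IsLocalHom.of_surjective _ residue_surjective
    have h2 := comp_closedPoint (CommRingCat.ofHom (residue ↥R')) dR
    rw [hdR₂, Scheme.Hom.comp_apply, Scheme.fromSpecResidueField_apply] at h2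
    exact h2.symm
  have hd₀cl : d₀ (closedPoint ↥V₀) = u' := by
    haveI : IsLocalHom (CommRingCat.ofHom (residue ↥V₀)).hom :=
      IsLocalHom.of_surjective _ residue_surjective
    have h2 := comp_closedPoint (CommRingCat.ofHom (residue ↥V₀)) d₀
    rw [hd₂, Scheme.Hom.comp_apply, Scheme.fromSpecResidueField_apply] at h2
    exact h2.symm
  obtain ⟨Vt, hVt⟩ := exists_comap_eq R' e.hom
  subst hVt
  have hρloc : IsLocalHom (CommRingCat.ofHom (comapρ Vt e.hom)).hom :=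
    isLocalHom_comap Vt e.hom _ (comapρ_coe Vt e.hom)
  have hsq : CommRingCat.ofHom (comapρ Vt e.hom) ≫ CommRingCat.ofHom Vt.subtype =
      CommRingCat.ofHom (Vt.comap e.hom).subtype ≫ e := by
    ext x; rfl
  have hsub : CommRingCat.ofHom (composite V₀ Vt).subtype =
      CommRingCat.ofHom (compositeι V₀ Vt) ≫ CommRingCat.ofHom V₀.subtype := by
    ext x; rfl
  -- glue the morphism to `Z`
  have GX := glue (T := Z.left) _ (composite V₀ Vt) V₀ (composite_le V₀ Vt) (compositeι V₀ Vt)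
    (compositeι_coe V₀ Vt) Vt (compositeσ V₀ Vt) (compositeσ_surjective V₀ Vt)
    (compositeσ_coe V₀ Vt) (d₀ ≫ φ₀.left) (Spec.map (CommRingCat.ofHom (comapρ Vt e.hom)) ≫ dR)
    (by rw [← Category.assoc, ← Spec.map_comp, hsq, Spec.map_comp, Category.assoc, hdR₁,
      ← Category.assoc, ← hd₂, Category.assoc])
  obtain ⟨φW, ⟨hφWc, hφWd⟩, -⟩ := GX
  have hφWgen : Spec.map (CommRingCat.ofHom (composite V₀ Vt).subtype) ≫ φW =
      Z'.left.fromSpecResidueField z ≫ ψ.left := by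
    rw [hsub, Spec.map_comp, Category.assoc, hφWc, ← Category.assoc, hd₁, Category.assoc, hψleft]
  have hφWcl : φW (closedPoint ↥(composite V₀ Vt)) = y := by
    haveI : IsLocalHom (CommRingCat.ofHom (compositeσ V₀ Vt)).hom :=
      IsLocalHom.of_surjective _ (compositeσ_surjective V₀ Vt)
    have h2 := comp_closedPoint (CommRingCat.ofHom (compositeσ V₀ Vt)) φW
    rw [hφWd] at h2
    haveI := hρloc
    have h3 := comp_closedPoint (CommRingCat.ofHom (comapρ Vt e.hom)) dR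
    rw [← h2, h3]
    exact hdRcl
  -- the hypothesis on discrete valuation rings
  have H : ∀ (A : ValuationSubring ↑(Z'.left.residueField z))
      (φ : Spec (CommRingCat.of ↥A) ⟶ Z.left)
      (hφ : Spec.map (CommRingCat.ofHom A.subtype) ≫ φ =
        Z'.left.fromSpecResidueField z ≫ ψ.left),
      IsDiscreteValuationRing ↥A → (sqOf q t ψ htψ z A φ hφ).HasLift := by
    intro A φ hφ hA
    let s := sqOf q t ψ htψ z A φ hφ
    let κ : Over.mk (Spec.map (CommRingCat.ofHom (algebraMap ↥A ↑(Z'.left.residueField z))) ≫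
        φ ≫ Z.hom) ⟶ Z' := Over.homMk (Z'.left.fromSpecResidueField z) (str_eq ψ z A φ hφ)
    have e1 : ((yon S).map κ ≫ d) ≫ h ≫ q = ((yon S).map κ ≫ t) ≫ q := by
      rw [htdef, ← hdc]; simp only [Category.assoc]
    let s' : ValSq (h ≫ q) :=
      { A := s.A, commRing := s.commRing, isDomain := s.isDomain
        valuationRing := s.valuationRing
        K := s.K, field := s.field, algebra := s.algebra, isFractionRing := s.isFractionRing
        str := s.str, top := (yon S).map κ ≫ d, bot := s.bot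
        comm := e1.trans s.comm }
    obtain ⟨l, hl1, hl2⟩ := hval s' hA
    refine ⟨l, hl1.trans ?_, hl2⟩
    show ((yon S).map κ ≫ d) ≫ h = (yon S).map κ ≫ t
    rw [Category.assoc, hdc, htdef]
  have hext := hasLiftExt_of_dvr q t ψ htψ z b hbe hbs hbq φ₀ hφ₀ H (composite V₀ Vt) φW hφWgen
  obtain ⟨κC, hκC⟩ : ∃ κC : Over.mk (Spec.map (CommRingCat.ofHom
      (algebraMap ↥(composite V₀ Vt) ↑(Z'.left.residueField z))) ≫ φW ≫ Z.hom) ⟶ Z',
      κC = Over.homMk (Z'.left.fromSpecResidueField z) (str_eq ψ z _ φW hφWgen) := ⟨_, rfl⟩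
  have hκCl : κC.left = Z'.left.fromSpecResidueField z := by rw [hκC]; rfl
  have hLD : LiftData q ↥(composite V₀ Vt) ↑(Z'.left.residueField z) (φW ≫ Z.hom)
      ((yon S).map κC ≫ t)
      ((yon S).map (Over.homMk φW rfl : Over.mk (φW ≫ Z.hom) ⟶ Z)) := by
    rw [hκC]; exact (hasLiftExt_iff _).1 hext
  obtain ⟨C', _, _, _, K', _, _, _, φ, ψ', hc, hl, l, h1, h2⟩ := hLD
  haveI : IsLocalHom φ := hl
  -- the point over `y`
  have hqx : Points.map q (Points.ofPt l (closedPoint C')) = Points.ofScheme Z y := by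
    rw [Points.map_ofPt, h2, ofPt_comp, ofPt_yon_map]
    congr 1
    show φW (Spec.map (CommRingCat.ofHom φ) (closedPoint C')) = y
    have e1 : Spec.map (CommRingCat.ofHom φ) (closedPoint C') =
        closedPoint ↥(composite V₀ Vt) := comap_closedPoint φ
    rw [e1]
    exact hφWcl
  refine ⟨Points.ofPt l (closedPoint C'), ?_, hqx⟩
  -- the dominating valuation ring
  obtain ⟨B, ν, νC, hν, hνC, hνloc⟩ := exists_valuationSubring_dominating V₀ Vt
    (IsFractionRing.injective C' K') φ ψ' hc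
  have hringeq : CommRingCat.ofHom (compositeι V₀ Vt) ≫ CommRingCat.ofHom ν =
      CommRingCat.ofHom φ ≫ CommRingCat.ofHom νC := by
    ext a
    show ((ν (compositeι V₀ Vt a) : ↥B) : K') = ((νC (φ a) : ↥B) : K')
    rw [hν, hνC, compositeι_coe]
    exact (congr($hc a)).symm
  have hSpecEq : Spec.map (CommRingCat.ofHom ν) ≫ Spec.map (CommRingCat.ofHom (compositeι V₀ Vt)) =
      Spec.map (CommRingCat.ofHom νC) ≫ Spec.map (CommRingCat.ofHom φ) := by
    rw [← Spec.map_comp, ← Spec.map_comp, hringeq]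
  have hBK : CommRingCat.ofHom νC ≫ CommRingCat.ofHom B.subtype =
      CommRingCat.ofHom (algebraMap C' K') := by
    ext c; exact hνC c
  have hVK : CommRingCat.ofHom ν ≫ CommRingCat.ofHom B.subtype =
      CommRingCat.ofHom V₀.subtype ≫ CommRingCat.ofHom ψ' := by
    ext v; exact hν v
  have e1 : (Spec.map (CommRingCat.ofHom ν) ≫ d₀) ≫ φ₀.left =
      (Spec.map (CommRingCat.ofHom νC) ≫ Spec.map (CommRingCat.ofHom φ)) ≫ φW := by
    calc (Spec.map (CommRingCat.ofHom ν) ≫ d₀) ≫ φ₀.left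
        = Spec.map (CommRingCat.ofHom ν) ≫ (d₀ ≫ φ₀.left) := Category.assoc _ _ _
      _ = Spec.map (CommRingCat.ofHom ν) ≫
          (Spec.map (CommRingCat.ofHom (compositeι V₀ Vt)) ≫ φW) := by rw [hφWc]
      _ = (Spec.map (CommRingCat.ofHom ν) ≫
          Spec.map (CommRingCat.ofHom (compositeι V₀ Vt))) ≫ φW := (Category.assoc _ _ _).symm
      _ = _ := by rw [hSpecEq]
  have hw₂ : (Spec.map (CommRingCat.ofHom ν) ≫ d₀) ≫ X₁.hom =
      Spec.map (CommRingCat.ofHom νC) ≫ Spec.map (CommRingCat.ofHom φ) ≫ φW ≫ Z.hom := by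
    calc (Spec.map (CommRingCat.ofHom ν) ≫ d₀) ≫ X₁.hom
        = (Spec.map (CommRingCat.ofHom ν) ≫ d₀) ≫ (φ₀.left ≫ Z.hom) := by rw [Over.w φ₀]
      _ = ((Spec.map (CommRingCat.ofHom ν) ≫ d₀) ≫ φ₀.left) ≫ Z.hom :=
          (Category.assoc _ _ _).symm
      _ = ((Spec.map (CommRingCat.ofHom νC) ≫ Spec.map (CommRingCat.ofHom φ)) ≫ φW) ≫ Z.hom := by
          rw [e1]
      _ = _ := by simp only [Category.assoc]
  -- the two morphisms from `Spec B`
  obtain ⟨m₁, hm₁l⟩ : ∃ m₁ : Over.mk (Spec.map (CommRingCat.ofHom νC) ≫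
      Spec.map (CommRingCat.ofHom φ) ≫ φW ≫ Z.hom) ⟶
      Over.mk (Spec.map (CommRingCat.ofHom φ) ≫ φW ≫ Z.hom),
      m₁.left = Spec.map (CommRingCat.ofHom νC) := ⟨Over.homMk _ rfl, rfl⟩
  obtain ⟨m₂, hm₂l⟩ : ∃ m₂ : Over.mk (Spec.map (CommRingCat.ofHom νC) ≫
      Spec.map (CommRingCat.ofHom φ) ≫ φW ≫ Z.hom) ⟶ X₁,
      m₂.left = Spec.map (CommRingCat.ofHom ν) ≫ d₀ := ⟨Over.homMk _ hw₂, rfl⟩
  obtain ⟨mφ, mW, hmφl, hmWl, h2'⟩ : ∃ (mφ : Over.mk (Spec.map (CommRingCat.ofHom φ) ≫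
      φW ≫ Z.hom) ⟶ Over.mk (φW ≫ Z.hom)) (mW : Over.mk (φW ≫ Z.hom) ⟶ Z),
      mφ.left = Spec.map (CommRingCat.ofHom φ) ∧ mW.left = φW ∧
      l ≫ q = (yon S).map mφ ≫ (yon S).map mW := ⟨_, _, rfl, rfl, h2⟩
  have hq12 : ((yon S).map m₁ ≫ l) ≫ q = ((yon S).map m₂ ≫ b) ≫ q := by
    calc ((yon S).map m₁ ≫ l) ≫ q = (yon S).map m₁ ≫ (l ≫ q) := Category.assoc _ _ _
      _ = (yon S).map m₁ ≫ ((yon S).map mφ ≫ (yon S).map mW) := by rw [h2']
      _ = (yon S).map ((m₁ ≫ mφ) ≫ mW) := by simp only [Functor.map_comp, Category.assoc]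
      _ = (yon S).map (m₂ ≫ φ₀) := by
          congr 1
          ext
          simp only [Over.comp_left]
          rw [hm₁l, hmφl, hmWl, hm₂l]
          exact e1.symm
      _ = (yon S).map m₂ ≫ (b ≫ q) := by rw [Functor.map_comp, hφ₀]
      _ = ((yon S).map m₂ ≫ b) ≫ q := (Category.assoc _ _ _).symm
  -- agreement on the generic point
  obtain ⟨jK', mψ, hjK'l, hmψl, h1'⟩ : ∃ (jK' : Over.mk (Spec.map (CommRingCat.ofHom
      (algebraMap C' K')) ≫ Spec.map (CommRingCat.ofHom φ) ≫ φW ≫ Z.hom) ⟶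
      Over.mk (Spec.map (CommRingCat.ofHom φ) ≫ φW ≫ Z.hom))
      (mψ : Over.mk (Spec.map (CommRingCat.ofHom (algebraMap C' K')) ≫
        Spec.map (CommRingCat.ofHom φ) ≫ φW ≫ Z.hom) ⟶
        Over.mk (Spec.map (CommRingCat.ofHom
          (algebraMap ↥(composite V₀ Vt) ↑(Z'.left.residueField z))) ≫ φW ≫ Z.hom)),
      jK'.left = Spec.map (CommRingCat.ofHom (algebraMap C' K')) ∧
      mψ.left = Spec.map (CommRingCat.ofHom ψ') ∧
      (yon S).map jK' ≫ l = (yon S).map mψ ≫ ((yon S).map κC ≫ t) := ⟨_, _, rfl, rfl, h1⟩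
  have hε : 𝟙 (Spec (CommRingCat.of K')) ≫ (Spec.map (CommRingCat.ofHom (algebraMap C' K')) ≫
      Spec.map (CommRingCat.ofHom φ) ≫ φW ≫ Z.hom) =
      Spec.map (CommRingCat.ofHom B.subtype) ≫ Spec.map (CommRingCat.ofHom νC) ≫
        Spec.map (CommRingCat.ofHom φ) ≫ φW ≫ Z.hom := by
    rw [Category.id_comp, ← hBK, Spec.map_comp, Category.assoc]
  obtain ⟨ε, hεl⟩ : ∃ ε : Over.mk (Spec.map (CommRingCat.ofHom B.subtype) ≫
      Spec.map (CommRingCat.ofHom νC) ≫ Spec.map (CommRingCat.ofHom φ) ≫ φW ≫ Z.hom) ⟶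
      Over.mk (Spec.map (CommRingCat.ofHom (algebraMap C' K')) ≫
        Spec.map (CommRingCat.ofHom φ) ≫ φW ≫ Z.hom),
      ε.left = 𝟙 (Spec (CommRingCat.of K')) := ⟨Over.homMk (𝟙 _) hε, rfl⟩
  obtain ⟨jB, hjBl⟩ : ∃ jB : Over.mk (Spec.map (CommRingCat.ofHom B.subtype) ≫
      Spec.map (CommRingCat.ofHom νC) ≫ Spec.map (CommRingCat.ofHom φ) ≫ φW ≫ Z.hom) ⟶
      Over.mk (Spec.map (CommRingCat.ofHom νC) ≫ Spec.map (CommRingCat.ofHom φ) ≫ φW ≫ Z.hom),
      jB = Over.homMk (Spec.map (CommRingCat.ofHom B.subtype)) rfl := ⟨_, rfl⟩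
  have hjBl' : jB.left = Spec.map (CommRingCat.ofHom B.subtype) := by rw [hjBl]; rfl
  have hjm₁ : jB ≫ m₁ = ε ≫ jK' := by
    ext
    simp only [Over.comp_left]
    rw [hjBl', hm₁l, hεl, hjK'l]
    refine Eq.trans ?_ (Category.id_comp _).symm
    rw [← Spec.map_comp, hBK]
  have hjm₂ : jB ≫ m₂ = ε ≫ mψ ≫ κC ≫ c := by
    ext
    simp only [Over.comp_left]
    rw [hjBl', hm₂l, hεl, hmψl, hκCl]
    refine Eq.trans ?_ (Category.id_comp _).symm
    calc Spec.map (CommRingCat.ofHom B.subtype) ≫ Spec.map (CommRingCat.ofHom ν) ≫ d₀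
        = (Spec.map (CommRingCat.ofHom B.subtype) ≫ Spec.map (CommRingCat.ofHom ν)) ≫ d₀ :=
          (Category.assoc _ _ _).symm
      _ = (Spec.map (CommRingCat.ofHom ψ') ≫ Spec.map (CommRingCat.ofHom V₀.subtype)) ≫ d₀ := by
          rw [← Spec.map_comp, hVK, Spec.map_comp]
      _ = Spec.map (CommRingCat.ofHom ψ') ≫ (Spec.map (CommRingCat.ofHom V₀.subtype) ≫ d₀) :=
          Category.assoc _ _ _
      _ = _ := by rw [hd₁]
  have hgen : (yon S).map jB ≫ ((yon S).map m₁ ≫ l) =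
      (yon S).map jB ≫ ((yon S).map m₂ ≫ b) := by
    calc (yon S).map jB ≫ ((yon S).map m₁ ≫ l) = (yon S).map (jB ≫ m₁) ≫ l := by
          rw [Functor.map_comp, Category.assoc]
      _ = (yon S).map (ε ≫ jK') ≫ l := by rw [hjm₁]
      _ = (yon S).map ε ≫ ((yon S).map jK' ≫ l) := by rw [Functor.map_comp, Category.assoc]
      _ = (yon S).map ε ≫ ((yon S).map mψ ≫ ((yon S).map κC ≫ t)) := by rw [h1']
      _ = (yon S).map (ε ≫ mψ ≫ κC ≫ c) ≫ b := by
          rw [htdef]; simp only [Functor.map_comp, Category.assoc]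
      _ = (yon S).map (jB ≫ m₂) ≫ b := by rw [hjm₂]
      _ = (yon S).map jB ≫ ((yon S).map m₂ ≫ b) := by rw [Functor.map_comp, Category.assoc]
  rw [hjBl] at hgen
  have hL : (yon S).map m₁ ≫ l = (yon S).map m₂ ≫ b :=
    eq_of_eq_generic q hqs B.subtype Subtype.val_injective _ _ _ hgen hq12
  -- evaluate at the closed point of `B`
  have hp1 : Points.ofPt ((yon S).map m₁ ≫ l) (closedPoint ↥B) =
      Points.ofPt l (Spec.map (CommRingCat.ofHom νC) (closedPoint ↥B)) := by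
    rw [ofPt_comp m₁ l, hm₁l]
  have hp2 : Points.ofPt ((yon S).map m₂ ≫ b) (closedPoint ↥B) = Points.ofPt b u' := by
    rw [ofPt_comp m₂ b, hm₂l]
    congr 1
    haveI : IsLocalHom (CommRingCat.ofHom ν).hom := hνloc
    rw [comp_closedPoint (CommRingCat.ofHom ν) d₀]
    exact hd₀cl
  have hpt : Points.ofPt l (Spec.map (CommRingCat.ofHom νC) (closedPoint ↥B)) =
      Points.ofPt b u' := by
    rw [← hp1, hL, hp2]
  have hs : (Spec.map (CommRingCat.ofHom νC)) (closedPoint ↥B) ⤳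
      (closedPoint C' : ↥(Spec (.of C'))) := specializes_closedPoint (R := C') _
  have hs' := hs.map (Points.continuous_ofPt l)
  rw [← hpt]
  exact hs'

end Groth.Agent.Lib.RefClosedH6
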