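import Mathlib
import Groth.Agent.Lib.RefClosed_helper6

/-!
# Universal closedness from the refined existence criterion over discrete valuation rings (helper6)
-/

set_option autoImplicit false
universe u
open CategoryTheory CategoryTheory.Limits AlgebraicGeometry Opposite IsLocalRing

namespace Groth.Agent.Lib.RefClosedH6

open AlgSp Groth.Agent.Lib.AlgSpVal_helper7 Groth.Agent.Lib.AlgSpPoints_helper7
  Groth.Agent.Lib.AlgSpTop_helper7 Groth.Agent.Lib.AlgSpQC_helper7
  Groth.Agent.Lib.AlgSpPullback_helper7 Groth.Agent.Lib.AlgSpLocP4_helper7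
  Groth.Agent.Lib.ValCrit Groth.Agent.Lib.ValCrit2H7 Groth.Agent.Lib.UCLimitH7
  Groth.Agent.Lib.ValCritDVRClosedH6 Groth.Agent.Lib.RefVal Groth.Agent.Lib.RefExtH6
  Groth.Agent.Lib.RefCoverH6 Groth.Agent.Lib.RefDomH6 Groth.Agent.Lib.AlgSpQC2_helper7
  Groth.Agent.Lib.AlgSpSep_helper7 Groth.Agent.Lib.AlgSpLocP_helper7
  Groth.Agent.Lib.AlgSpLocP3_helper7 Groth.Agent.Lib.AlgSpLocP7_helper7

variable {S : Scheme.{u}}

open MvPolynomial AlgebraicGeometry.AffineSpace in
set_option backward.isDefEq.respectTransparency.types false in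
theorem flat_affineSpace (n : Type u) (T : Scheme.{u}) : Flat (𝔸(n; T) ↘ T) :=
  MorphismProperty.pullback_fst _ _ <| by
  have := isIso_of_isTerminal specULiftZIsTerminal.{u} terminalIsTerminal (terminal.from _)
  rw [← terminal.comp_from (Spec.map (CommRingCat.ofHom C)),
    MorphismProperty.cancel_right_of_respectsIso (P := @Flat),
    HasRingHomProperty.Spec_iff (P := @Flat)]
  have h : (CommRingCat.ofHom (C : ULift.{u} ℤ →+* MvPolynomial n (ULift.{u} ℤ))).hom =
      algebraMap _ _ := (MvPolynomial.algebraMap_eq (R := ULift.{u} ℤ) (σ := n)).symm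
  rw [h, RingHom.flat_algebraMap_iff]
  infer_instance

set_option maxHeartbeats 1600000 in
set_option backward.isDefEq.respectTransparency.types false in
/-- Closedness over an affine Noetherian base from the refined existence criterion. -/
theorem isClosedMap_of_refined_affine {P U : Sp S} {Z : Over S} (hP : IsAlgSpace P)
    (hZ : IsAffine Z.left) (hZn : IsLocallyNoetherian Z.left)
    (q : P ⟶ (yon S).obj Z) (hPqc : IsQuasiCompactSp P) (hlft : LocP @LocallyOfFiniteType q)
    (hqs : IsSeparatedMor q) (h : U ⟶ P) (hhlft : LocP @LocallyOfFiniteType h)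
    (hhqc : IsQuasiCompactMor h) (hd : Dense (Set.range (Points.map h)))
    (hval : ∀ sq : ValSq (h ≫ q), IsDiscreteValuationRing sq.A →
      ∃ l : (yon S).obj sq.ptA ⟶ P, (yon S).map sq.j ≫ l = sq.top ≫ h ∧ l ≫ q = sq.bot) :
    IsClosedMap (Points.map q) := by
  obtain ⟨U₁, a, hae, has, hU₁⟩ := hPqc
  haveI : CompactSpace ↥U₁.left := hU₁
  obtain ⟨R, g, hg, hge⟩ := exists_affine_etale_surjective U₁.left
  let U' : Over S := Over.mk (g ≫ U₁.hom)
  let γ : U' ⟶ U₁ := Over.homMk g rfl
  let b : (yon S).obj U' ⟶ P := (yon S).map γ ≫ a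
  have hbe : RepWith @Etale b := repWith_comp _ ((repWith_yon_map_iff _ _).2 hge) hae
  have hbs : RepWith @Surjective b :=
    repWith_comp _ ((repWith_yon_map_iff _ _).2 (⟨hg⟩ : Surjective g)) has
  have hb : Function.Surjective (Points.ofPt b) := by
    intro x
    obtain ⟨u, rfl⟩ := ofPt_surjective a has x
    obtain ⟨r, rfl⟩ := hg u
    exact ⟨r, ofPt_comp γ a r⟩
  obtain ⟨φ₀, hφ₀⟩ := (yon S).map_surjective (b ≫ q)
  haveI : LocallyOfFiniteType φ₀.left :=
    hlft b (𝟙 _) φ₀ hbe (repWith_id _ Z) (by rw [hφ₀, Category.comp_id])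
  haveI : IsAffine Z.left := hZ
  haveI : IsLocallyNoetherian Z.left := hZn
  haveI : IsAffine U'.left := (inferInstance : IsAffine (Spec R))
  have hbq : RepWith @QuasiCompact b := by
    apply repWith_quasiCompact_of_isQuasiCompactMor b hbe.rep
    refine isQuasiCompactMor_of_comp_of_isQuasiSeparatedMor b q ?_
      (repWith_mono (fun _ _ k (hk : IsClosedImmersion k) => (inferInstance : QuasiCompact k)) hqs)
    rw [← hφ₀]
    apply isQuasiCompactMor_of_repWith
    rw [repWith_yon_map_iff]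
    exact (inferInstance : QuasiCompact φ₀.left)
  have hqb : ∀ r : ↥U'.left, Points.map q (Points.ofPt b r) = Points.ofScheme Z (φ₀.left r) := by
    intro r
    rw [Points.map_ofPt, ← hφ₀, ofPt_yon_map]
  intro W hW
  have himg : Points.map q '' W =
      Points.schemeHomeo Z '' (φ₀.left '' (Points.ofPt b ⁻¹' W)) := by
    ext z
    constructor
    · rintro ⟨x, hx, rfl⟩
      obtain ⟨r, rfl⟩ := hb x
      exact ⟨φ₀.left r, ⟨r, hx, rfl⟩, (hqb r).symm⟩
    · rintro ⟨_, ⟨r, hr, rfl⟩, rfl⟩
      exact ⟨Points.ofPt b r, hr, hqb r⟩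
  rw [himg, (Points.schemeHomeo Z).isClosed_image]
  refine isClosed_image_of_stable (R := R) (Y := Z.left) φ₀.left
    (hW.preimage (Points.continuous_ofPt b)) ?_
  rintro y' y hspec ⟨u', hu', rfl⟩
  obtain ⟨x', hx'sp, hx'q⟩ := exists_specialization hP q hqs h hhlft hhqc hd hval b hbe hbs hbq
    φ₀ hφ₀ u' y hspec
  have hxW : x' ∈ W := hW.stableUnderSpecialization hx'sp hu'
  obtain ⟨r, hr⟩ := hb x'
  refine ⟨r, ?_, ?_⟩
  · show Points.ofPt b r ∈ W
    rw [hr]
    exact hxW
  · apply (Points.schemeEquiv Z).injective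
    show Points.ofScheme Z (φ₀.left r) = Points.ofScheme Z y
    rw [← hqb r, hr, hx'q]

/-- The lifting hypothesis of the refined criterion is stable under base change. -/
theorem hval_baseChange {U X Y P' T' U' : Sp S} {h : U ⟶ X} {f : X ⟶ Y} {π : P' ⟶ X}
    {q' : P' ⟶ T'} {g' : T' ⟶ Y} (big : IsPullback π q' f g') {fstU : U' ⟶ U} {h' : U' ⟶ P'}
    (sqU : IsPullback fstU h' h π)
    (hval : ∀ sq : ValSq (h ≫ f), IsDiscreteValuationRing sq.A →
      ∃ l : (yon S).obj sq.ptA ⟶ X, (yon S).map sq.j ≫ l = sq.top ≫ h ∧ l ≫ f = sq.bot) :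
    ∀ s : ValSq (h' ≫ q'), IsDiscreteValuationRing s.A →
      ∃ l : (yon S).obj s.ptA ⟶ P', (yon S).map s.j ≫ l = s.top ≫ h' ∧ l ≫ q' = s.bot := by
  intro s hs
  have e1 : (s.top ≫ fstU) ≫ h ≫ f = (s.top ≫ (h' ≫ q')) ≫ g' := by
    calc (s.top ≫ fstU) ≫ h ≫ f = s.top ≫ ((fstU ≫ h) ≫ f) := by simp only [Category.assoc]
      _ = s.top ≫ ((h' ≫ π) ≫ f) := by rw [sqU.w]
      _ = s.top ≫ (h' ≫ (π ≫ f)) := by simp only [Category.assoc]
      _ = s.top ≫ (h' ≫ (q' ≫ g')) := by rw [big.w]
      _ = _ := by simp only [Category.assoc]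
  let s₀ : ValSq (h ≫ f) :=
    { A := s.A, commRing := s.commRing, isDomain := s.isDomain
      valuationRing := s.valuationRing
      K := s.K, field := s.field, algebra := s.algebra, isFractionRing := s.isFractionRing
      str := s.str, top := s.top ≫ fstU, bot := s.bot ≫ g'
      comm := by rw [e1, s.comm, Category.assoc] }
  obtain ⟨l₀, hl1, hl2⟩ := hval s₀ hs
  have hl1' : (yon S).map s.j ≫ l₀ = (s.top ≫ fstU) ≫ h := hl1
  have hl2' : l₀ ≫ f = s.bot ≫ g' := hl2
  refine ⟨big.lift l₀ s.bot hl2', ?_, big.lift_snd _ _ _⟩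
  apply big.hom_ext
  · calc ((yon S).map s.j ≫ big.lift l₀ s.bot hl2') ≫ π
        = (yon S).map s.j ≫ (big.lift l₀ s.bot hl2' ≫ π) := Category.assoc _ _ _
      _ = (yon S).map s.j ≫ l₀ := by rw [big.lift_fst]
      _ = (s.top ≫ fstU) ≫ h := hl1'
      _ = s.top ≫ (fstU ≫ h) := Category.assoc _ _ _
      _ = s.top ≫ (h' ≫ π) := by rw [sqU.w]
      _ = (s.top ≫ h') ≫ π := (Category.assoc _ _ _).symm
  · calc ((yon S).map s.j ≫ big.lift l₀ s.bot hl2') ≫ q'
        = (yon S).map s.j ≫ (big.lift l₀ s.bot hl2' ≫ q') := Category.assoc _ _ _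
      _ = (yon S).map s.j ≫ s.bot := by rw [big.lift_snd]
      _ = s.top ≫ (h' ≫ q') := s.comm.symm
      _ = (s.top ≫ h') ≫ q' := (Category.assoc _ _ _).symm

/-- Density of the image is stable under base change along a morphism which is open on points. -/
theorem dense_baseChange {U X P' U' : Sp S} {h : U ⟶ X} {π : P' ⟶ X} {fstU : U' ⟶ U}
    {h' : U' ⟶ P'} (sqU : IsPullback fstU h' h π) (hopen : IsOpenMap (Points.map π))
    (hd : Dense (Set.range (Points.map h))) : Dense (Set.range (Points.map h')) := by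
  rw [dense_iff_inter_open]
  intro W hWo hWne
  have hWimg : IsOpen (Points.map π '' W) := hopen W hWo
  obtain ⟨_, ⟨w, hwW, rfl⟩, ⟨u, hu⟩⟩ := hd.inter_open_nonempty _ hWimg (hWne.image _)
  obtain ⟨z, -, hz2⟩ := exists_of_isPullback sqU u w hu
  exact ⟨w, hwW, z, hz2⟩

set_option maxHeartbeats 1600000 in
theorem isClosedMap_of_refined_locNoeth {U X Y : Sp S} (hU : IsAlgSpace U) (hX : IsAlgSpace X)
    (hY : IsAlgSpace Y) (h : U ⟶ X) (f : X ⟶ Y) (hlft : LocP @LocallyOfFiniteType f)
    (hqc : IsQuasiCompactMor f) (hfs : IsSeparatedMor f) (hh : IsFiniteTypeMor h)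
    (hd : Dense (Set.range (Points.map h)))
    (hval : ∀ sq : ValSq (h ≫ f), IsDiscreteValuationRing sq.A →
      ∃ l : (yon S).obj sq.ptA ⟶ X, (yon S).map sq.j ≫ l = sq.top ≫ h ∧ l ≫ f = sq.bot)
    (T : Over S) (hT : IsLocallyNoetherian T.left) (g : (yon S).obj T ⟶ Y)
    (hgfl : LocP @Flat g) (hgfp : LocP @LocallyOfFinitePresentation g) {P : Sp S}
    (fst : P ⟶ X) (snd : P ⟶ (yon S).obj T) (sq : IsPullback fst snd f g) :
    IsClosedMap (Points.map snd) := by
  have hex : ∀ t : ↥T.left, ∃ (T₀ : T.left.Opens), IsAffineOpen T₀ ∧ t ∈ T₀ := by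
    intro t
    obtain ⟨_, ⟨T₀, hT₀ : IsAffineOpen T₀, rfl⟩, htT, -⟩ :=
      T.left.isBasis_affineOpens.exists_subset_of_mem_open (Set.mem_univ t) isOpen_univ
    exact ⟨T₀, hT₀, htT⟩
  choose T₀ hT₀ htT using hex
  let T' : ↥T.left → Over S := fun t => Over.mk ((T₀ t).ι ≫ T.hom)
  let ιO : ∀ t, T' t ⟶ T := fun t => Over.homMk (T₀ t).ι rfl
  refine isClosedMap_map_of_charts snd T' (fun t => (yon S).map (ιO t)) (fun t => ?_)
    (fun z => ?_) (fun t => ?_)
  · rw [repWith_yon_map_iff]
    show Etale (T₀ t).ι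
    infer_instance
  · obtain ⟨t, rfl⟩ := ofScheme_surjective T z
    refine ⟨t, (⟨t, htT t⟩ : ↥(T₀ t)), ?_⟩
    rw [ofPt_yon_map]
    rfl
  · have sq' := IsPullback.of_hasPullback snd ((yon S).map (ιO t))
    refine ⟨_, _, _, sq', ?_⟩
    haveI : IsAffine (T' t).left := hT₀ t
    have big := (sq'.flip.paste_vert sq.flip).flip
    haveI : IsLocallyNoetherian T.left := hT
    have hn : IsLocallyNoetherian (T' t).left :=
      isLocallyNoetherian_of_isOpenImmersion (T₀ t).ι
    have hP' : IsAlgSpace (pullback snd ((yon S).map (ιO t))) :=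
      isAlgSpace_of_isPullback hY.diag hX (IsAlgSpace.yon_obj (T' t)) big
    have hPqc : IsQuasiCompactSp (pullback snd ((yon S).map (ιO t))) :=
      hqc (IsAlgSpace.yon_obj (T' t)) (isQuasiCompactSp_yon (T' t)) _ _ _ big
    have hlft' : LocP @LocallyOfFiniteType (pullback.snd snd ((yon S).map (ιO t))) :=
      locP_baseChange etLocal_locallyOfFiniteType hX hY (IsAlgSpace.yon_obj (T' t)) f _ _ _ big
        hlft
    have hqs' : IsSeparatedMor (pullback.snd snd ((yon S).map (ιO t))) :=
      isSeparatedMor_of_isPullback big hfs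
    -- the base change of `h`
    have sqU := IsPullback.of_hasPullback h (pullback.fst snd ((yon S).map (ιO t)) ≫ fst)
    have hh' := isFiniteTypeMor_of_isPullback hU hX hP' sqU hh
    -- openness of the projection
    have hιfl : LocP @Flat ((yon S).map (ιO t)) :=
      locP_of_repWith @Flat (fun _ _ k _ => inferInstance) _
        ((repWith_yon_map_iff @Flat (ιO t)).2 (show Flat (T₀ t).ι from inferInstance))
    have hιfp : LocP @LocallyOfFinitePresentation ((yon S).map (ιO t)) :=
      locP_of_repWith @LocallyOfFinitePresentation (fun _ _ k _ => inferInstance) _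
        ((repWith_yon_map_iff @LocallyOfFinitePresentation (ιO t)).2
          (show LocallyOfFinitePresentation (T₀ t).ι from inferInstance))
    have hg'fl : LocP @Flat ((yon S).map (ιO t) ≫ g) :=
      locP_comp etLocal_flat (IsAlgSpace.yon_obj (T' t)) (IsAlgSpace.yon_obj T) hY _ g hιfl hgfl
    have hg'fp : LocP @LocallyOfFinitePresentation ((yon S).map (ιO t) ≫ g) :=
      locP_comp etLocal_locallyOfFinitePresentation (IsAlgSpace.yon_obj (T' t))
        (IsAlgSpace.yon_obj T) hY _ g hιfp hgfp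
    have hUO := isUnivOpenMor_of_flat_of_lfp (IsAlgSpace.yon_obj (T' t)) hY _ hg'fl hg'fp
    have hopen : IsOpenMap (Points.map (pullback.fst snd ((yon S).map (ιO t)) ≫ fst)) :=
      hUO hX f _ _ big.flip
    exact isClosedMap_of_refined_affine hP' (show IsAffine (T' t).left from hT₀ t) hn _ hPqc
      hlft' hqs' _ hh'.1 hh'.2
      (dense_baseChange sqU hopen hd) (hval_baseChange big sqU hval)

/-- **Refined valuative criterion for universal closedness over discrete valuation rings.** -/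
theorem isUnivClosedMor_of_refined {U X Y : Sp S} (hU : IsAlgSpace U) (hX : IsAlgSpace X)
    (hY : IsAlgSpace Y) (h : U ⟶ X) (f : X ⟶ Y) (hYn : IsLocNoethSp Y)
    (hfs : IsSeparatedMor f) (hft : IsFiniteTypeMor f) (hh : IsFiniteTypeMor h)
    (hd : Dense (Set.range (Points.map h)))
    (hval : ∀ sq : ValSq (h ≫ f), IsDiscreteValuationRing sq.A →
      ∃ l : (yon S).obj sq.ptA ⟶ X, (yon S).map sq.j ≫ l = sq.top ≫ h ∧ l ≫ f = sq.bot) :
    IsUnivClosedMor f := by
  obtain ⟨hlft, hqc⟩ := hft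
  obtain ⟨V, p, hpe, hps, hV⟩ := hYn
  refine isUnivClosedMor_of_affineSpace_closed hX hY f hqc V p hpe hps ?_
  intro n P fst snd sq
  haveI : IsLocallyNoetherian V.left := hV
  haveI : LocallyOfFiniteType (affHom V n).left := by
    show LocallyOfFiniteType (𝔸(ULift.{u} (Fin n); V.left) ↘ V.left)
    infer_instance
  have hn : IsLocallyNoetherian (affOver V n).left :=
    LocallyOfFiniteType.isLocallyNoetherian (affHom V n).left
  have hafl : Flat (affHom V n).left := flat_affineSpace _ _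
  have hafp : LocallyOfFinitePresentation (affHom V n).left := by
    show LocallyOfFinitePresentation (𝔸(ULift.{u} (Fin n); V.left) ↘ V.left)
    infer_instance
  have h1fl : LocP @Flat ((yon S).map (affHom V n)) :=
    locP_of_repWith @Flat (fun _ _ k _ => inferInstance) _
      ((repWith_yon_map_iff @Flat (affHom V n)).2 hafl)
  have h1fp : LocP @LocallyOfFinitePresentation ((yon S).map (affHom V n)) :=
    locP_of_repWith @LocallyOfFinitePresentation (fun _ _ k _ => inferInstance) _
      ((repWith_yon_map_iff @LocallyOfFinitePresentation (affHom V n)).2 hafp)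
  have hpfl : LocP @Flat p :=
    locP_of_repWith @Flat (fun _ _ k _ => inferInstance) p
      (repWith_mono (fun _ _ k (hk : Etale k) => (inferInstance : Flat k)) hpe)
  have hpfp : LocP @LocallyOfFinitePresentation p :=
    locP_of_repWith @LocallyOfFinitePresentation (fun _ _ k _ => inferInstance) p
      (repWith_mono (fun _ _ k (hk : Etale k) =>
        (inferInstance : LocallyOfFinitePresentation k)) hpe)
  have hgfl : LocP @Flat ((yon S).map (affHom V n) ≫ p) :=
    locP_comp etLocal_flat (IsAlgSpace.yon_obj _) (IsAlgSpace.yon_obj V) hY _ p h1fl hpfl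
  have hgfp : LocP @LocallyOfFinitePresentation ((yon S).map (affHom V n) ≫ p) :=
    locP_comp etLocal_locallyOfFinitePresentation (IsAlgSpace.yon_obj _) (IsAlgSpace.yon_obj V)
      hY _ p h1fp hpfp
  exact isClosedMap_of_refined_locNoeth hU hX hY h f hlft hqc hfs hh hd hval (affOver V n) hn _
    hgfl hgfp fst snd sq

end Groth.Agent.Lib.RefClosedH6
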