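import Mathlib
import Groth.Agent.Lib.RefClosed2_helper6

/-!
# The refined valuative criterion with arbitrary valuation rings: specializations lift (helper6)
-/

set_option autoImplicit false
universe u
open CategoryTheory CategoryTheory.Limits AlgebraicGeometry Opposite IsLocalRing

namespace Groth.Agent.Lib.RefGenH6

open AlgSp Groth.Agent.Lib.AlgSpVal_helper7 Groth.Agent.Lib.AlgSpPoints_helper7
  Groth.Agent.Lib.AlgSpTop_helper7 Groth.Agent.Lib.AlgSpQC_helper7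
  Groth.Agent.Lib.AlgSpPullback_helper7 Groth.Agent.Lib.AlgSpLocP4_helper7
  Groth.Agent.Lib.ValCrit Groth.Agent.Lib.ValCrit2H7 Groth.Agent.Lib.UCLimitH7
  Groth.Agent.Lib.ValCritDVRClosedH6 Groth.Agent.Lib.RefVal Groth.Agent.Lib.RefExtH6
  Groth.Agent.Lib.RefCoverH6 Groth.Agent.Lib.RefDomH6 Groth.Agent.Lib.AlgSpQC2_helper7
  Groth.Agent.Lib.AlgSpSep_helper7 Groth.Agent.Lib.AlgSpLocP_helper7
  Groth.Agent.Lib.AlgSpLocP3_helper7 Groth.Agent.Lib.AlgSpLocP7_helper7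
  Groth.Agent.Lib.RefClosedH6

variable {S : Scheme.{u}}

/-- Let `h : U ⟶ X` be a quasi-compact morphism with dense image, and `w : h_W ⟶ X` an étale
morphism from a scheme. Every point `x₁` of `W` is a specialization of the image of a point `z`
of a scheme `Z'` over `W` which maps to `U` over `X`. -/
theorem exists_specializes_chart' {U X : Sp S} (hX : IsAlgSpace X) (h : U ⟶ X)
    (hqc : IsQuasiCompactMor h)
    (hd : Dense (Set.range (Points.map h)))
    {W : Over S} (w : (yon S).obj W ⟶ X) (hwe : RepWith @Etale w) (x₁ : ↥W.left) :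
    ∃ (Z' : Over S) (c : Z' ⟶ W) (d : (yon S).obj Z' ⟶ U) (z : ↥Z'.left),
      d ≫ h = (yon S).map c ≫ w ∧ c.left z ⤳ x₁ := by
  obtain ⟨_, ⟨(W₀ : W.left.Opens), (hW₀ : IsAffineOpen W₀), rfl⟩, hxW, -⟩ :=
    W.left.isBasis_affineOpens.exists_subset_of_mem_open (Set.mem_univ x₁) isOpen_univ
  let W' : Over S := Over.mk (W₀.ι ≫ W.hom)
  let ιO : W' ⟶ W := Over.homMk W₀.ι rfl
  haveI hW'aff : IsAffine W'.left := hW₀
  let w₀ : (yon S).obj W' ⟶ X := (yon S).map ιO ≫ w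
  have hιe : Etale ιO.left := by
    show Etale W₀.ι
    infer_instance
  have hw₀e : RepWith @Etale w₀ := repWith_comp _ ((repWith_yon_map_iff _ _).2 hιe) hwe
  have sq := IsPullback.of_hasPullback h w₀
  have hPqc : IsQuasiCompactSp (pullback h w₀) :=
    hqc (IsAlgSpace.yon_obj W') (isQuasiCompactSp_yon W') w₀ _ _ sq
  obtain ⟨U₁, a, hae, has, hU₁⟩ := hPqc
  haveI : CompactSpace ↥U₁.left := hU₁
  obtain ⟨c₀, hc₀⟩ := (yon S).map_surjective (a ≫ pullback.snd h w₀)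
  have hfst : RepWith @Etale (pullback.fst h w₀) := repWith_fst_of_isPullback _ sq hw₀e
  have hde : RepWith @Etale (a ≫ pullback.fst h w₀) := repWith_comp _ hae hfst
  have hcomm : (a ≫ pullback.fst h w₀) ≫ h = (yon S).map (c₀ ≫ ιO) ≫ w := by
    rw [Category.assoc, pullback.condition, ← Category.assoc, ← hc₀, Functor.map_comp,
      Category.assoc]
  -- density of the range of `c₀`
  haveI : QuasiCompact c₀.left :=
    (HasAffineProperty.iff_of_isAffine (P := @QuasiCompact) (f := c₀.left)).2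
      (inferInstance : CompactSpace ↥U₁.left)
  have hsurj : Function.Surjective (Points.ofPt a) := ofPt_surjective a has
  have hopen : IsOpenMap (Points.ofPt w₀) := isOpenMap_ofPt_of_etale w₀ hw₀e
  have hdense : ∀ y : ↥W'.left, y ∈ closure (Set.range c₀.left) := by
    intro y
    rw [mem_closure_iff]
    intro O hO hyO
    have hOimg : IsOpen (Points.ofPt w₀ '' O) := hopen O hO
    have hne : (Points.ofPt w₀ '' O).Nonempty := ⟨_, y, hyO, rfl⟩
    obtain ⟨_, ⟨o, hoO, rfl⟩, ⟨u, hu⟩⟩ := hd.inter_open_nonempty _ hOimg hne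
    -- a point of the pullback over `(u, o)`
    have hpt : Points.map h u = Points.map w₀ (Points.ofScheme W' o) := by
      rw [hu, Points.ofPt_eq_map_ofScheme]
    obtain ⟨t, ht1, ht2⟩ := exists_of_isPullback sq u (Points.ofScheme W' o) hpt
    obtain ⟨r, hr⟩ := hsurj t
    refine ⟨o, hoO, r, ?_⟩
    apply (Points.schemeEquiv W').injective
    show Points.ofScheme W' (c₀.left r) = Points.ofScheme W' o
    rw [← ofPt_yon_map, hc₀, ← Points.map_ofPt, hr, ht2]
  obtain ⟨z, hz⟩ := Groth.Agent.Lib.ClosureSpecH7.exists_specializes_of_mem_closure_range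
    c₀.left (⟨x₁, hxW⟩ : ↥W₀) (hdense _)
  refine ⟨U₁, c₀ ≫ ιO, a ≫ pullback.fst h w₀, z, hcomm, ?_⟩
  have := hz.map W₀.ι.continuous
  exact this


set_option maxHeartbeats 6400000 in
/-- **Specializations lift.** Let `q : P ⟶ h_Z` be separated with `Z` affine Noetherian, and let
`h : U ⟶ P` be of finite type with dense image such that all valuative squares of `h ≫ q` over
discrete valuation rings have lifts to `P`. If `b : h_{X₁} ⟶ P` is an étale surjective
quasi-compact affine chart, `u'` a point of `X₁` and `y` a specialization of its image in `Z`,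
then the image of `u'` in `|P|` specializes to a point over `y`. (Version for the refined
criterion with arbitrary valuation rings.) -/
theorem exists_specialization' {P U : Sp S} {Z : Over S} (hP : IsAlgSpace P)
    (q : P ⟶ (yon S).obj Z) (h : U ⟶ P)
    (hhqc : IsQuasiCompactMor h) (hd : Dense (Set.range (Points.map h)))
    (hv : ∀ sq : ValSq q, (∃ t : (yon S).obj sq.ptK ⟶ U, t ≫ h = sq.top) →
      sq.HasUniq ∧ sq.HasLiftExt)
    {X₁ : Over S} (b : (yon S).obj X₁ ⟶ P) (hbe : RepWith @Etale b) (φ₀ : X₁ ⟶ Z)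
    (hφ₀ : (yon S).map φ₀ = b ≫ q)
    (u' : ↥X₁.left) (y : ↥Z.left) (hspec : φ₀.left u' ⤳ y) :
    ∃ x' : Points P, Points.ofPt b u' ⤳ x' ∧ Points.map q x' = Points.ofScheme Z y := by
  obtain ⟨Z', c, d, z, hdc, hz⟩ := exists_specializes_chart' hP h hhqc hd b hbe u'
  obtain ⟨ψ, hψdef⟩ : ∃ ψ : Z' ⟶ Z, ψ = c ≫ φ₀ := ⟨_, rfl⟩
  obtain ⟨t, htdef⟩ : ∃ t : (yon S).obj Z' ⟶ P, t = (yon S).map c ≫ b := ⟨_, rfl⟩
  have htψ : t ≫ q = (yon S).map ψ := by
    rw [htdef, hψdef, Category.assoc, ← hφ₀, ← Functor.map_comp]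
  have hψleft : ψ.left = c.left ≫ φ₀.left := by rw [hψdef]; rfl
  obtain ⟨V₀, d₀, e, hd₁, hd₂⟩ := exists_dominating c.left u' z hz
  obtain ⟨R', dR, eR, hdR₁, hdR₂⟩ := exists_dominating φ₀.left y u' hspec
  have hdRcl : dR (closedPoint ↥R') = y := by
    haveI : IsLocalHom (CommRingCat.ofHom (residue ↥R')).hom :=
      IsLocalHom.of_surjective _ residue_surjective
    have h2 := comp_closedPoint (CommRingCat.ofHom (residue ↥R')) dR
    rw [hdR₂, Scheme.Hom.comp_apply, Scheme.fromSpecResidueField_apply] at h2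
    exact h2.symm
  have hd₀cl : d₀ (closedPoint ↥V₀) = u' := by
    haveI : IsLocalHom (CommRingCat.ofHom (residue ↥V₀)).hom :=
      IsLocalHom.of_surjective _ residue_surjective
    have h2 := comp_closedPoint (CommRingCat.ofHom (residue ↥V₀)) d₀
    rw [hd₂, Scheme.Hom.comp_apply, Scheme.fromSpecResidueField_apply] at h2
    exact h2.symm
  obtain ⟨Vt, hVt⟩ := exists_comap_eq R' e.hom
  subst hVt
  have hρloc : IsLocalHom (CommRingCat.ofHom (comapρ Vt e.hom)).hom :=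
    isLocalHom_comap Vt e.hom _ (comapρ_coe Vt e.hom)
  have hsq : CommRingCat.ofHom (comapρ Vt e.hom) ≫ CommRingCat.ofHom Vt.subtype =
      CommRingCat.ofHom (Vt.comap e.hom).subtype ≫ e := by
    ext x; rfl
  have hsub : CommRingCat.ofHom (composite V₀ Vt).subtype =
      CommRingCat.ofHom (compositeι V₀ Vt) ≫ CommRingCat.ofHom V₀.subtype := by
    ext x; rfl
  -- glue the morphism to `Z`
  have GX := glue (T := Z.left) _ (composite V₀ Vt) V₀ (composite_le V₀ Vt) (compositeι V₀ Vt)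
    (compositeι_coe V₀ Vt) Vt (compositeσ V₀ Vt) (compositeσ_surjective V₀ Vt)
    (compositeσ_coe V₀ Vt) (d₀ ≫ φ₀.left) (Spec.map (CommRingCat.ofHom (comapρ Vt e.hom)) ≫ dR)
    (by rw [← Category.assoc, ← Spec.map_comp, hsq, Spec.map_comp, Category.assoc, hdR₁,
      ← Category.assoc, ← hd₂, Category.assoc])
  obtain ⟨φW, ⟨hφWc, hφWd⟩, -⟩ := GX
  have hφWgen : Spec.map (CommRingCat.ofHom (composite V₀ Vt).subtype) ≫ φW =
      Z'.left.fromSpecResidueField z ≫ ψ.left := by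
    rw [hsub, Spec.map_comp, Category.assoc, hφWc, ← Category.assoc, hd₁, Category.assoc, hψleft]
  have hφWcl : φW (closedPoint ↥(composite V₀ Vt)) = y := by
    haveI : IsLocalHom (CommRingCat.ofHom (compositeσ V₀ Vt)).hom :=
      IsLocalHom.of_surjective _ (compositeσ_surjective V₀ Vt)
    have h2 := comp_closedPoint (CommRingCat.ofHom (compositeσ V₀ Vt)) φW
    rw [hφWd] at h2
    haveI := hρloc
    have h3 := comp_closedPoint (CommRingCat.ofHom (comapρ Vt e.hom)) dR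
    rw [← h2, h3]
    exact hdRcl
  -- the hypothesis for the composite square
  have htC : ∃ t' : (yon S).obj (sqOf q t ψ htψ z (composite V₀ Vt) φW hφWgen).ptK ⟶ U,
      t' ≫ h = (sqOf q t ψ htψ z (composite V₀ Vt) φW hφWgen).top := by
    refine ⟨(yon S).map (Over.homMk (Z'.left.fromSpecResidueField z)
      (str_eq ψ z _ φW hφWgen) : (sqOf q t ψ htψ z (composite V₀ Vt) φW hφWgen).ptK ⟶ Z') ≫ d, ?_⟩
    show ((yon S).map _ ≫ d) ≫ h = (yon S).map _ ≫ t
    rw [Category.assoc, hdc, ← htdef]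
    rfl
  have hext := (hv _ htC).2
  obtain ⟨κC, hκC⟩ : ∃ κC : Over.mk (Spec.map (CommRingCat.ofHom
      (algebraMap ↥(composite V₀ Vt) ↑(Z'.left.residueField z))) ≫ φW ≫ Z.hom) ⟶ Z',
      κC = Over.homMk (Z'.left.fromSpecResidueField z) (str_eq ψ z _ φW hφWgen) := ⟨_, rfl⟩
  have hκCl : κC.left = Z'.left.fromSpecResidueField z := by rw [hκC]; rfl
  have hLD : LiftData q ↥(composite V₀ Vt) ↑(Z'.left.residueField z) (φW ≫ Z.hom)
      ((yon S).map κC ≫ t)
      ((yon S).map (Over.homMk φW rfl : Over.mk (φW ≫ Z.hom) ⟶ Z)) := by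
    rw [hκC]; exact (hasLiftExt_iff _).1 hext
  obtain ⟨C', _, _, _, K', _, _, _, φ, ψ', hc, hl, l, h1, h2⟩ := hLD
  haveI : IsLocalHom φ := hl
  -- the point over `y`
  have hqx : Points.map q (Points.ofPt l (closedPoint C')) = Points.ofScheme Z y := by
    rw [Points.map_ofPt, h2, ofPt_comp, ofPt_yon_map]
    congr 1
    show φW (Spec.map (CommRingCat.ofHom φ) (closedPoint C')) = y
    have e1 : Spec.map (CommRingCat.ofHom φ) (closedPoint C') =
        closedPoint ↥(composite V₀ Vt) := comap_closedPoint φ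
    rw [e1]
    exact hφWcl
  refine ⟨Points.ofPt l (closedPoint C'), ?_, hqx⟩
  -- the dominating valuation ring
  obtain ⟨B, ν, νC, hν, hνC, hνloc⟩ := exists_valuationSubring_dominating V₀ Vt
    (IsFractionRing.injective C' K') φ ψ' hc
  have hringeq : CommRingCat.ofHom (compositeι V₀ Vt) ≫ CommRingCat.ofHom ν =
      CommRingCat.ofHom φ ≫ CommRingCat.ofHom νC := by
    ext a
    show ((ν (compositeι V₀ Vt a) : ↥B) : K') = ((νC (φ a) : ↥B) : K')
    rw [hν, hνC, compositeι_coe]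
    exact (congr($hc a)).symm
  have hSpecEq : Spec.map (CommRingCat.ofHom ν) ≫ Spec.map (CommRingCat.ofHom (compositeι V₀ Vt)) =
      Spec.map (CommRingCat.ofHom νC) ≫ Spec.map (CommRingCat.ofHom φ) := by
    rw [← Spec.map_comp, ← Spec.map_comp, hringeq]
  have hBK : CommRingCat.ofHom νC ≫ CommRingCat.ofHom B.subtype =
      CommRingCat.ofHom (algebraMap C' K') := by
    ext c; exact hνC c
  have hVK : CommRingCat.ofHom ν ≫ CommRingCat.ofHom B.subtype =
      CommRingCat.ofHom V₀.subtype ≫ CommRingCat.ofHom ψ' := by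
    ext v; exact hν v
  have e1 : (Spec.map (CommRingCat.ofHom ν) ≫ d₀) ≫ φ₀.left =
      (Spec.map (CommRingCat.ofHom νC) ≫ Spec.map (CommRingCat.ofHom φ)) ≫ φW := by
    calc (Spec.map (CommRingCat.ofHom ν) ≫ d₀) ≫ φ₀.left
        = Spec.map (CommRingCat.ofHom ν) ≫ (d₀ ≫ φ₀.left) := Category.assoc _ _ _
      _ = Spec.map (CommRingCat.ofHom ν) ≫
          (Spec.map (CommRingCat.ofHom (compositeι V₀ Vt)) ≫ φW) := by rw [hφWc]
      _ = (Spec.map (CommRingCat.ofHom ν) ≫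
          Spec.map (CommRingCat.ofHom (compositeι V₀ Vt))) ≫ φW := (Category.assoc _ _ _).symm
      _ = _ := by rw [hSpecEq]
  have hw₂ : (Spec.map (CommRingCat.ofHom ν) ≫ d₀) ≫ X₁.hom =
      Spec.map (CommRingCat.ofHom νC) ≫ Spec.map (CommRingCat.ofHom φ) ≫ φW ≫ Z.hom := by
    calc (Spec.map (CommRingCat.ofHom ν) ≫ d₀) ≫ X₁.hom
        = (Spec.map (CommRingCat.ofHom ν) ≫ d₀) ≫ (φ₀.left ≫ Z.hom) := by rw [Over.w φ₀]
      _ = ((Spec.map (CommRingCat.ofHom ν) ≫ d₀) ≫ φ₀.left) ≫ Z.hom :=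
          (Category.assoc _ _ _).symm
      _ = ((Spec.map (CommRingCat.ofHom νC) ≫ Spec.map (CommRingCat.ofHom φ)) ≫ φW) ≫ Z.hom := by
          rw [e1]
      _ = _ := by simp only [Category.assoc]
  -- the two morphisms from `Spec B`
  obtain ⟨m₁, hm₁l⟩ : ∃ m₁ : Over.mk (Spec.map (CommRingCat.ofHom νC) ≫
      Spec.map (CommRingCat.ofHom φ) ≫ φW ≫ Z.hom) ⟶
      Over.mk (Spec.map (CommRingCat.ofHom φ) ≫ φW ≫ Z.hom),
      m₁.left = Spec.map (CommRingCat.ofHom νC) := ⟨Over.homMk _ rfl, rfl⟩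
  obtain ⟨m₂, hm₂l⟩ : ∃ m₂ : Over.mk (Spec.map (CommRingCat.ofHom νC) ≫
      Spec.map (CommRingCat.ofHom φ) ≫ φW ≫ Z.hom) ⟶ X₁,
      m₂.left = Spec.map (CommRingCat.ofHom ν) ≫ d₀ := ⟨Over.homMk _ hw₂, rfl⟩
  obtain ⟨mφ, mW, hmφl, hmWl, h2'⟩ : ∃ (mφ : Over.mk (Spec.map (CommRingCat.ofHom φ) ≫
      φW ≫ Z.hom) ⟶ Over.mk (φW ≫ Z.hom)) (mW : Over.mk (φW ≫ Z.hom) ⟶ Z),
      mφ.left = Spec.map (CommRingCat.ofHom φ) ∧ mW.left = φW ∧
      l ≫ q = (yon S).map mφ ≫ (yon S).map mW := ⟨_, _, rfl, rfl, h2⟩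
  have hq12 : ((yon S).map m₁ ≫ l) ≫ q = ((yon S).map m₂ ≫ b) ≫ q := by
    calc ((yon S).map m₁ ≫ l) ≫ q = (yon S).map m₁ ≫ (l ≫ q) := Category.assoc _ _ _
      _ = (yon S).map m₁ ≫ ((yon S).map mφ ≫ (yon S).map mW) := by rw [h2']
      _ = (yon S).map ((m₁ ≫ mφ) ≫ mW) := by simp only [Functor.map_comp, Category.assoc]
      _ = (yon S).map (m₂ ≫ φ₀) := by
          congr 1
          ext
          simp only [Over.comp_left]
          rw [hm₁l, hmφl, hmWl, hm₂l]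
          exact e1.symm
      _ = (yon S).map m₂ ≫ (b ≫ q) := by rw [Functor.map_comp, hφ₀]
      _ = ((yon S).map m₂ ≫ b) ≫ q := (Category.assoc _ _ _).symm
  -- agreement on the generic point
  obtain ⟨jK', mψ, hjK'l, hmψl, h1'⟩ : ∃ (jK' : Over.mk (Spec.map (CommRingCat.ofHom
      (algebraMap C' K')) ≫ Spec.map (CommRingCat.ofHom φ) ≫ φW ≫ Z.hom) ⟶
      Over.mk (Spec.map (CommRingCat.ofHom φ) ≫ φW ≫ Z.hom))
      (mψ : Over.mk (Spec.map (CommRingCat.ofHom (algebraMap C' K')) ≫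
        Spec.map (CommRingCat.ofHom φ) ≫ φW ≫ Z.hom) ⟶
        Over.mk (Spec.map (CommRingCat.ofHom
          (algebraMap ↥(composite V₀ Vt) ↑(Z'.left.residueField z))) ≫ φW ≫ Z.hom)),
      jK'.left = Spec.map (CommRingCat.ofHom (algebraMap C' K')) ∧
      mψ.left = Spec.map (CommRingCat.ofHom ψ') ∧
      (yon S).map jK' ≫ l = (yon S).map mψ ≫ ((yon S).map κC ≫ t) := ⟨_, _, rfl, rfl, h1⟩
  have hε : 𝟙 (Spec (CommRingCat.of K')) ≫ (Spec.map (CommRingCat.ofHom (algebraMap C' K')) ≫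
      Spec.map (CommRingCat.ofHom φ) ≫ φW ≫ Z.hom) =
      Spec.map (CommRingCat.ofHom B.subtype) ≫ Spec.map (CommRingCat.ofHom νC) ≫
        Spec.map (CommRingCat.ofHom φ) ≫ φW ≫ Z.hom := by
    rw [Category.id_comp, ← hBK, Spec.map_comp, Category.assoc]
  obtain ⟨ε, hεl⟩ : ∃ ε : Over.mk (Spec.map (CommRingCat.ofHom B.subtype) ≫
      Spec.map (CommRingCat.ofHom νC) ≫ Spec.map (CommRingCat.ofHom φ) ≫ φW ≫ Z.hom) ⟶
      Over.mk (Spec.map (CommRingCat.ofHom (algebraMap C' K')) ≫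
        Spec.map (CommRingCat.ofHom φ) ≫ φW ≫ Z.hom),
      ε.left = 𝟙 (Spec (CommRingCat.of K')) := ⟨Over.homMk (𝟙 _) hε, rfl⟩
  obtain ⟨jB, hjBl⟩ : ∃ jB : Over.mk (Spec.map (CommRingCat.ofHom B.subtype) ≫
      Spec.map (CommRingCat.ofHom νC) ≫ Spec.map (CommRingCat.ofHom φ) ≫ φW ≫ Z.hom) ⟶
      Over.mk (Spec.map (CommRingCat.ofHom νC) ≫ Spec.map (CommRingCat.ofHom φ) ≫ φW ≫ Z.hom),
      jB = Over.homMk (Spec.map (CommRingCat.ofHom B.subtype)) rfl := ⟨_, rfl⟩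
  have hjBl' : jB.left = Spec.map (CommRingCat.ofHom B.subtype) := by rw [hjBl]; rfl
  have hjm₁ : jB ≫ m₁ = ε ≫ jK' := by
    ext
    simp only [Over.comp_left]
    rw [hjBl', hm₁l, hεl, hjK'l]
    refine Eq.trans ?_ (Category.id_comp _).symm
    rw [← Spec.map_comp, hBK]
  have hjm₂ : jB ≫ m₂ = ε ≫ mψ ≫ κC ≫ c := by
    ext
    simp only [Over.comp_left]
    rw [hjBl', hm₂l, hεl, hmψl, hκCl]
    refine Eq.trans ?_ (Category.id_comp _).symm
    calc Spec.map (CommRingCat.ofHom B.subtype) ≫ Spec.map (CommRingCat.ofHom ν) ≫ d₀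
        = (Spec.map (CommRingCat.ofHom B.subtype) ≫ Spec.map (CommRingCat.ofHom ν)) ≫ d₀ :=
          (Category.assoc _ _ _).symm
      _ = (Spec.map (CommRingCat.ofHom ψ') ≫ Spec.map (CommRingCat.ofHom V₀.subtype)) ≫ d₀ := by
          rw [← Spec.map_comp, hVK, Spec.map_comp]
      _ = Spec.map (CommRingCat.ofHom ψ') ≫ (Spec.map (CommRingCat.ofHom V₀.subtype) ≫ d₀) :=
          Category.assoc _ _ _
      _ = _ := by rw [hd₁]
  have hgen : (yon S).map jB ≫ ((yon S).map m₁ ≫ l) =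
      (yon S).map jB ≫ ((yon S).map m₂ ≫ b) := by
    calc (yon S).map jB ≫ ((yon S).map m₁ ≫ l) = (yon S).map (jB ≫ m₁) ≫ l := by
          rw [Functor.map_comp, Category.assoc]
      _ = (yon S).map (ε ≫ jK') ≫ l := by rw [hjm₁]
      _ = (yon S).map ε ≫ ((yon S).map jK' ≫ l) := by rw [Functor.map_comp, Category.assoc]
      _ = (yon S).map ε ≫ ((yon S).map mψ ≫ ((yon S).map κC ≫ t)) := by rw [h1']
      _ = (yon S).map (ε ≫ mψ ≫ κC ≫ c) ≫ b := by
          rw [htdef]; simp only [Functor.map_comp, Category.assoc]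
      _ = (yon S).map (jB ≫ m₂) ≫ b := by rw [hjm₂]
      _ = (yon S).map jB ≫ ((yon S).map m₂ ≫ b) := by rw [Functor.map_comp, Category.assoc]
  have htop : ((yon S).map (ε ≫ mψ ≫ κC) ≫ d) ≫ h = (yon S).map jB ≫ ((yon S).map m₁ ≫ l) := by
    calc ((yon S).map (ε ≫ mψ ≫ κC) ≫ d) ≫ h
        = (yon S).map (ε ≫ mψ ≫ κC) ≫ ((yon S).map c ≫ b) := by rw [Category.assoc, hdc]
      _ = (yon S).map (ε ≫ mψ ≫ κC ≫ c) ≫ b := by
          simp only [Functor.map_comp, Category.assoc]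
      _ = (yon S).map (jB ≫ m₂) ≫ b := by rw [hjm₂]
      _ = (yon S).map jB ≫ ((yon S).map m₂ ≫ b) := by rw [Functor.map_comp, Category.assoc]
      _ = (yon S).map jB ≫ ((yon S).map m₁ ≫ l) := hgen.symm
  rw [hjBl] at hgen htop
  let sB : ValSq q :=
    { A := ↥B, K := K'
      str := Spec.map (CommRingCat.ofHom νC) ≫ Spec.map (CommRingCat.ofHom φ) ≫ φW ≫ Z.hom
      top := (yon S).map (Over.homMk (Spec.map (CommRingCat.ofHom (algebraMap ↥B K'))) rfl :
        Over.mk (Spec.map (CommRingCat.ofHom (algebraMap ↥B K')) ≫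
          Spec.map (CommRingCat.ofHom νC) ≫ Spec.map (CommRingCat.ofHom φ) ≫ φW ≫ Z.hom) ⟶
        Over.mk (Spec.map (CommRingCat.ofHom νC) ≫ Spec.map (CommRingCat.ofHom φ) ≫
          φW ≫ Z.hom)) ≫ ((yon S).map m₁ ≫ l)
      bot := ((yon S).map m₁ ≫ l) ≫ q
      comm := Category.assoc _ _ _ }
  have htB : ∃ t' : (yon S).obj sB.ptK ⟶ U, t' ≫ h = sB.top :=
    ⟨(yon S).map (ε ≫ mψ ≫ κC) ≫ d, htop⟩
  have hL : (yon S).map m₁ ≫ l = (yon S).map m₂ ≫ b :=
    (hv sB htB).1 _ _ rfl rfl hgen.symm hq12.symm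
  -- evaluate at the closed point of `B`
  have hp1 : Points.ofPt ((yon S).map m₁ ≫ l) (closedPoint ↥B) =
      Points.ofPt l (Spec.map (CommRingCat.ofHom νC) (closedPoint ↥B)) := by
    rw [ofPt_comp m₁ l, hm₁l]
  have hp2 : Points.ofPt ((yon S).map m₂ ≫ b) (closedPoint ↥B) = Points.ofPt b u' := by
    rw [ofPt_comp m₂ b, hm₂l]
    congr 1
    haveI : IsLocalHom (CommRingCat.ofHom ν).hom := hνloc
    rw [comp_closedPoint (CommRingCat.ofHom ν) d₀]
    exact hd₀cl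
  have hpt : Points.ofPt l (Spec.map (CommRingCat.ofHom νC) (closedPoint ↥B)) =
      Points.ofPt b u' := by
    rw [← hp1, hL, hp2]
  have hs : (Spec.map (CommRingCat.ofHom νC)) (closedPoint ↥B) ⤳
      (closedPoint C' : ↥(Spec (.of C'))) := specializes_closedPoint (R := C') _
  have hs' := hs.map (Points.continuous_ofPt l)
  rw [← hpt]
  exact hs'

end Groth.Agent.Lib.RefGenH6
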