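import Mathlib
import Groth.Agent.Lib.RefGen1_helper6

/-!
# The refined valuative criterion with arbitrary valuation rings: universal closedness (helper6)
-/

set_option autoImplicit false
universe u
open CategoryTheory CategoryTheory.Limits AlgebraicGeometry Opposite IsLocalRing

namespace Groth.Agent.Lib.RefGenH6

open AlgSp Groth.Agent.Lib.AlgSpVal_helper7 Groth.Agent.Lib.AlgSpPoints_helper7
  Groth.Agent.Lib.AlgSpTop_helper7 Groth.Agent.Lib.AlgSpQC_helper7
  Groth.Agent.Lib.AlgSpPullback_helper7 Groth.Agent.Lib.AlgSpLocP4_helper7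
  Groth.Agent.Lib.ValCrit Groth.Agent.Lib.ValCrit2H7 Groth.Agent.Lib.UCLimitH7
  Groth.Agent.Lib.ValCritDVRClosedH6 Groth.Agent.Lib.RefVal Groth.Agent.Lib.RefExtH6
  Groth.Agent.Lib.RefCoverH6 Groth.Agent.Lib.RefDomH6 Groth.Agent.Lib.AlgSpQC2_helper7
  Groth.Agent.Lib.AlgSpSep_helper7 Groth.Agent.Lib.AlgSpLocP_helper7
  Groth.Agent.Lib.AlgSpLocP3_helper7 Groth.Agent.Lib.AlgSpLocP7_helper7
  Groth.Agent.Lib.RefClosedH6 Groth.Agent.Lib.AlgSpFpqc_helper7

variable {S : Scheme.{u}}

set_option maxHeartbeats 1600000 in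
set_option backward.isDefEq.respectTransparency.types false in
/-- Closedness over an affine base from the refined criterion. -/
theorem isClosedMap_of_refined_affine' {P U : Sp S} {Z : Over S} (hP : IsAlgSpace P)
    (hZ : IsAffine Z.left) (q : P ⟶ (yon S).obj Z) (hPqc : IsQuasiCompactSp P)
    (h : U ⟶ P) (hhqc : IsQuasiCompactMor h) (hd : Dense (Set.range (Points.map h)))
    (hv : ∀ sq : ValSq q, (∃ t : (yon S).obj sq.ptK ⟶ U, t ≫ h = sq.top) →
      sq.HasUniq ∧ sq.HasLiftExt) :
    IsClosedMap (Points.map q) := by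
  obtain ⟨U₁, a, hae, has, hU₁⟩ := hPqc
  haveI : CompactSpace ↥U₁.left := hU₁
  obtain ⟨R, g, hg, hge⟩ := exists_affine_etale_surjective U₁.left
  let U' : Over S := Over.mk (g ≫ U₁.hom)
  let γ : U' ⟶ U₁ := Over.homMk g rfl
  let b : (yon S).obj U' ⟶ P := (yon S).map γ ≫ a
  have hbe : RepWith @Etale b := repWith_comp _ ((repWith_yon_map_iff _ _).2 hge) hae
  have hb : Function.Surjective (Points.ofPt b) := by
    intro x
    obtain ⟨u, rfl⟩ := ofPt_surjective a has x
    obtain ⟨r, rfl⟩ := hg u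
    exact ⟨r, ofPt_comp γ a r⟩
  obtain ⟨φ₀, hφ₀⟩ := (yon S).map_surjective (b ≫ q)
  haveI : IsAffine Z.left := hZ
  have hqb : ∀ r : ↥U'.left, Points.map q (Points.ofPt b r) = Points.ofScheme Z (φ₀.left r) := by
    intro r
    rw [Points.map_ofPt, ← hφ₀, ofPt_yon_map]
  intro W hW
  have himg : Points.map q '' W =
      Points.schemeHomeo Z '' (φ₀.left '' (Points.ofPt b ⁻¹' W)) := by
    ext z
    constructor
    · rintro ⟨x, hx, rfl⟩
      obtain ⟨r, rfl⟩ := hb x
      exact ⟨φ₀.left r, ⟨r, hx, rfl⟩, (hqb r).symm⟩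
    · rintro ⟨_, ⟨r, hr, rfl⟩, rfl⟩
      exact ⟨Points.ofPt b r, hr, hqb r⟩
  rw [himg, (Points.schemeHomeo Z).isClosed_image]
  refine isClosed_image_of_stable (R := R) (Y := Z.left) φ₀.left
    (hW.preimage (Points.continuous_ofPt b)) ?_
  rintro y' y hspec ⟨u', hu', rfl⟩
  obtain ⟨x', hx'sp, hx'q⟩ := exists_specialization' hP q h hhqc hd hv b hbe φ₀ hφ₀ u' y hspec
  have hxW : x' ∈ W := hW.stableUnderSpecialization hx'sp hu'
  obtain ⟨r, hr⟩ := hb x'
  refine ⟨r, ?_, ?_⟩
  · show Points.ofPt b r ∈ W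
    rw [hr]
    exact hxW
  · apply (Points.schemeEquiv Z).injective
    show Points.ofScheme Z (φ₀.left r) = Points.ofScheme Z y
    rw [← hqb r, hr, hx'q]

/-- The hypothesis of the refined criterion is stable under base change. -/
theorem hv_baseChange {U X Y P' T' U' : Sp S} {h : U ⟶ X} {f : X ⟶ Y} {π : P' ⟶ X}
    {q' : P' ⟶ T'} {g' : T' ⟶ Y} (big : IsPullback π q' f g') {fstU : U' ⟶ U} {h' : U' ⟶ P'}
    (sqU : IsPullback fstU h' h π)
    (hv : ∀ sq : ValSq f, (∃ t : (yon S).obj sq.ptK ⟶ U, t ≫ h = sq.top) →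
      sq.HasUniq ∧ sq.HasLiftExt) :
    ∀ s : ValSq q', (∃ t : (yon S).obj s.ptK ⟶ U', t ≫ h' = s.top) →
      s.HasUniq ∧ s.HasLiftExt := by
  rintro s ⟨t, ht⟩
  have e1 : (s.top ≫ π) ≫ f = (s.top ≫ q') ≫ g' := by
    rw [Category.assoc, big.w, Category.assoc]
  let s₀ : ValSq f :=
    { A := s.A, commRing := s.commRing, isDomain := s.isDomain
      valuationRing := s.valuationRing
      K := s.K, field := s.field, algebra := s.algebra, isFractionRing := s.isFractionRing
      str := s.str, top := s.top ≫ π, bot := s.bot ≫ g'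
      comm := by rw [e1, s.comm, Category.assoc] }
  have ht₀ : (t ≫ fstU) ≫ h = s₀.top := by
    show (t ≫ fstU) ≫ h = s.top ≫ π
    rw [Category.assoc, sqU.w, ← Category.assoc, ht]
  obtain ⟨hu, he⟩ := hv s₀ ⟨t ≫ fstU, ht₀⟩
  constructor
  · intro l l' h1 h2 h1' h2'
    apply big.hom_ext
    · refine hu (l ≫ π) (l' ≫ π) ?_ ?_ ?_ ?_
      · show (yon S).map s.j ≫ l ≫ π = s.top ≫ π
        rw [← Category.assoc, h1]
      · show (l ≫ π) ≫ f = s.bot ≫ g'
        rw [Category.assoc, big.w, ← Category.assoc, h2]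
      · show (yon S).map s.j ≫ l' ≫ π = s.top ≫ π
        rw [← Category.assoc, h1']
      · show (l' ≫ π) ≫ f = s.bot ≫ g'
        rw [Category.assoc, big.w, ← Category.assoc, h2']
    · exact h2.trans h2'.symm
  · have h0 := (hasLiftExt_iff s₀).1 he
    rw [hasLiftExt_iff]
    obtain ⟨A', i1, i2, i3, K', i4, i5, i6, φ, ψ, hc, hl, l, h1, h2⟩ := h0
    have hw : l ≫ f = ((yon S).map (Over.homMk (Spec.map (CommRingCat.ofHom φ)) rfl :
        Over.mk (Spec.map (CommRingCat.ofHom φ) ≫ s.str) ⟶ Over.mk s.str) ≫ s.bot) ≫ g' :=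
      h2.trans (Category.assoc _ _ _).symm
    refine ⟨A', i1, i2, i3, K', i4, i5, i6, φ, ψ, hc, hl, big.lift l _ hw, ?_, big.lift_snd _ _ _⟩
    apply big.hom_ext
    · rw [Category.assoc, big.lift_fst, Category.assoc]
      exact h1
    · rw [Category.assoc, big.lift_snd, Category.assoc, s.comm, ← Functor.map_comp_assoc,
        ← Functor.map_comp_assoc]
      congr 2
      ext
      change Spec.map _ ≫ Spec.map _ = Spec.map _ ≫ Spec.map _
      rw [← Spec.map_comp, ← Spec.map_comp, ← CommRingCat.ofHom_comp, ← CommRingCat.ofHom_comp,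
        hc]

set_option maxHeartbeats 1600000 in
theorem isClosedMap_of_refined_gen {U X Y : Sp S} (hX : IsAlgSpace X)
    (hY : IsAlgSpace Y) (h : U ⟶ X) (f : X ⟶ Y)
    (hqc : IsQuasiCompactMor f) (hhqc : IsQuasiCompactMor h)
    (hd : Dense (Set.range (Points.map h)))
    (hv : ∀ sq : ValSq f, (∃ t : (yon S).obj sq.ptK ⟶ U, t ≫ h = sq.top) →
      sq.HasUniq ∧ sq.HasLiftExt)
    (T : Over S) (g : (yon S).obj T ⟶ Y)
    (hgfl : LocP @Flat g) (hgfp : LocP @LocallyOfFinitePresentation g) {P : Sp S}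
    (fst : P ⟶ X) (snd : P ⟶ (yon S).obj T) (sq : IsPullback fst snd f g) :
    IsClosedMap (Points.map snd) := by
  have hex : ∀ t : ↥T.left, ∃ (T₀ : T.left.Opens), IsAffineOpen T₀ ∧ t ∈ T₀ := by
    intro t
    obtain ⟨_, ⟨T₀, hT₀ : IsAffineOpen T₀, rfl⟩, htT, -⟩ :=
      T.left.isBasis_affineOpens.exists_subset_of_mem_open (Set.mem_univ t) isOpen_univ
    exact ⟨T₀, hT₀, htT⟩
  choose T₀ hT₀ htT using hex
  let T' : ↥T.left → Over S := fun t => Over.mk ((T₀ t).ι ≫ T.hom)
  let ιO : ∀ t, T' t ⟶ T := fun t => Over.homMk (T₀ t).ι rfl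
  refine isClosedMap_map_of_charts snd T' (fun t => (yon S).map (ιO t)) (fun t => ?_)
    (fun z => ?_) (fun t => ?_)
  · rw [repWith_yon_map_iff]
    show Etale (T₀ t).ι
    infer_instance
  · obtain ⟨t, rfl⟩ := ofScheme_surjective T z
    refine ⟨t, (⟨t, htT t⟩ : ↥(T₀ t)), ?_⟩
    rw [ofPt_yon_map]
    rfl
  · have sq' := IsPullback.of_hasPullback snd ((yon S).map (ιO t))
    refine ⟨_, _, _, sq', ?_⟩
    haveI : IsAffine (T' t).left := hT₀ t
    have big := (sq'.flip.paste_vert sq.flip).flip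
    have hP' : IsAlgSpace (pullback snd ((yon S).map (ιO t))) :=
      isAlgSpace_of_isPullback hY.diag hX (IsAlgSpace.yon_obj (T' t)) big
    have hPqc : IsQuasiCompactSp (pullback snd ((yon S).map (ιO t))) :=
      hqc (IsAlgSpace.yon_obj (T' t)) (isQuasiCompactSp_yon (T' t)) _ _ _ big
    -- the base change of `h`
    have sqU := IsPullback.of_hasPullback h (pullback.fst snd ((yon S).map (ιO t)) ≫ fst)
    have hh' := isQuasiCompactMor_of_isPullback sqU hhqc
    -- openness of the projection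
    have hιfl : LocP @Flat ((yon S).map (ιO t)) :=
      locP_of_repWith @Flat (fun _ _ k _ => inferInstance) _
        ((repWith_yon_map_iff @Flat (ιO t)).2 (show Flat (T₀ t).ι from inferInstance))
    have hιfp : LocP @LocallyOfFinitePresentation ((yon S).map (ιO t)) :=
      locP_of_repWith @LocallyOfFinitePresentation (fun _ _ k _ => inferInstance) _
        ((repWith_yon_map_iff @LocallyOfFinitePresentation (ιO t)).2
          (show LocallyOfFinitePresentation (T₀ t).ι from inferInstance))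
    have hg'fl : LocP @Flat ((yon S).map (ιO t) ≫ g) :=
      locP_comp etLocal_flat (IsAlgSpace.yon_obj (T' t)) (IsAlgSpace.yon_obj T) hY _ g hιfl hgfl
    have hg'fp : LocP @LocallyOfFinitePresentation ((yon S).map (ιO t) ≫ g) :=
      locP_comp etLocal_locallyOfFinitePresentation (IsAlgSpace.yon_obj (T' t))
        (IsAlgSpace.yon_obj T) hY _ g hιfp hgfp
    have hUO := isUnivOpenMor_of_flat_of_lfp (IsAlgSpace.yon_obj (T' t)) hY _ hg'fl hg'fp
    have hopen : IsOpenMap (Points.map (pullback.fst snd ((yon S).map (ιO t)) ≫ fst)) :=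
      hUO hX f _ _ big.flip
    exact isClosedMap_of_refined_affine' hP' (show IsAffine (T' t).left from hT₀ t) _ hPqc
      _ hh' (dense_baseChange sqU hopen hd) (hv_baseChange big sqU hv)

/-- **Refined valuative criterion for universal closedness.** -/
theorem isUnivClosedMor_of_refined' {U X Y : Sp S} (hX : IsAlgSpace X)
    (hY : IsAlgSpace Y) (h : U ⟶ X) (f : X ⟶ Y) (hqc : IsQuasiCompactMor f)
    (hhqc : IsQuasiCompactMor h) (hd : Dense (Set.range (Points.map h)))
    (hv : ∀ sq : ValSq f, (∃ t : (yon S).obj sq.ptK ⟶ U, t ≫ h = sq.top) →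
      sq.HasUniq ∧ sq.HasLiftExt) :
    IsUnivClosedMor f := by
  obtain ⟨V, p, hpe, hps⟩ := hY.atlas
  refine isUnivClosedMor_of_affineSpace_closed hX hY f hqc V p hpe hps ?_
  intro n P fst snd sq
  have hafl : Flat (affHom V n).left := flat_affineSpace _ _
  have hafp : LocallyOfFinitePresentation (affHom V n).left := by
    show LocallyOfFinitePresentation (𝔸(ULift.{u} (Fin n); V.left) ↘ V.left)
    infer_instance
  have h1fl : LocP @Flat ((yon S).map (affHom V n)) :=
    locP_of_repWith @Flat (fun _ _ k _ => inferInstance) _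
      ((repWith_yon_map_iff @Flat (affHom V n)).2 hafl)
  have h1fp : LocP @LocallyOfFinitePresentation ((yon S).map (affHom V n)) :=
    locP_of_repWith @LocallyOfFinitePresentation (fun _ _ k _ => inferInstance) _
      ((repWith_yon_map_iff @LocallyOfFinitePresentation (affHom V n)).2 hafp)
  have hpfl : LocP @Flat p :=
    locP_of_repWith @Flat (fun _ _ k _ => inferInstance) p
      (repWith_mono (fun _ _ k (hk : Etale k) => (inferInstance : Flat k)) hpe)
  have hpfp : LocP @LocallyOfFinitePresentation p :=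
    locP_of_repWith @LocallyOfFinitePresentation (fun _ _ k _ => inferInstance) p
      (repWith_mono (fun _ _ k (hk : Etale k) =>
        (inferInstance : LocallyOfFinitePresentation k)) hpe)
  have hgfl : LocP @Flat ((yon S).map (affHom V n) ≫ p) :=
    locP_comp etLocal_flat (IsAlgSpace.yon_obj _) (IsAlgSpace.yon_obj V) hY _ p h1fl hpfl
  have hgfp : LocP @LocallyOfFinitePresentation ((yon S).map (affHom V n) ≫ p) :=
    locP_comp etLocal_locallyOfFinitePresentation (IsAlgSpace.yon_obj _) (IsAlgSpace.yon_obj V)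
      hY _ p h1fp hpfp
  exact isClosedMap_of_refined_gen hX hY h f hqc hhqc hd hv (affOver V n) _
    hgfl hgfp fst snd sq

end Groth.Agent.Lib.RefGenH6
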