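import Mathlib
import Groth.Agent.Lib.ValCrit2_helper6
import Groth.Agent.Lib.ValCrit6_helper6

/-!
# The existence part of the valuative criterion tested on discrete valuation rings (helper6)
-/

set_option autoImplicit false
universe u

open CategoryTheory CategoryTheory.Limits AlgebraicGeometry IsLocalRing

namespace Groth.Agent.Lib.ValCrit

/-- The existence part of the valuative criterion, tested on discrete valuation rings only. -/
def DVRExistence {X Y : Scheme.{u}} (f : X ⟶ Y) : Prop :=
  ∀ (A : Type u) [CommRing A] [IsDomain A] [IsDiscreteValuationRing A]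
    (x : Spec (CommRingCat.of (FractionRing A)) ⟶ X) (y : Spec (CommRingCat.of A) ⟶ Y),
    x ≫ f = Spec.map (CommRingCat.ofHom (algebraMap A (FractionRing A))) ≫ y →
    ∃ l : Spec (CommRingCat.of A) ⟶ X, l ≫ f = y ∧
      Spec.map (CommRingCat.ofHom (algebraMap A (FractionRing A))) ≫ l = x

/-- Version for an arbitrary fraction field. -/
theorem DVRExistence.exists_lift {X Y : Scheme.{u}} {f : X ⟶ Y} (hf : DVRExistence f)
    (A : Type u) [CommRing A] [IsDomain A] [IsDiscreteValuationRing A]
    (K : Type u) [Field K] [Algebra A K] [IsFractionRing A K]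
    (x : Spec (CommRingCat.of K) ⟶ X) (y : Spec (CommRingCat.of A) ⟶ Y)
    (w : x ≫ f = Spec.map (CommRingCat.ofHom (algebraMap A K)) ≫ y) :
    ∃ l : Spec (CommRingCat.of A) ⟶ X, l ≫ f = y ∧
      Spec.map (CommRingCat.ofHom (algebraMap A K)) ≫ l = x := by
  obtain ⟨e, hedef⟩ : ∃ e : FractionRing A ≃ₐ[A] K, e = FractionRing.algEquiv A K := ⟨_, rfl⟩
  have h1 : CommRingCat.ofHom (algebraMap A K) =
      CommRingCat.ofHom (algebraMap A (FractionRing A)) ≫
        CommRingCat.ofHom (e : FractionRing A →+* K) := by
    apply CommRingCat.hom_ext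
    ext a
    exact (e.commutes a).symm
  have h2 : CommRingCat.ofHom (algebraMap A (FractionRing A)) =
      CommRingCat.ofHom (algebraMap A K) ≫
        CommRingCat.ofHom (e.symm : K →+* FractionRing A) := by
    apply CommRingCat.hom_ext
    ext a
    exact (e.symm.commutes a).symm
  have h3 : CommRingCat.ofHom (e.symm : K →+* FractionRing A) ≫
      CommRingCat.ofHom (e : FractionRing A →+* K) = 𝟙 _ := by
    apply CommRingCat.hom_ext
    ext a
    exact e.apply_symm_apply a
  obtain ⟨l, hl1, hl2⟩ := hf A
    (Spec.map (CommRingCat.ofHom (e.symm : K →+* FractionRing A)) ≫ x) y (by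
      rw [Category.assoc, w, ← Category.assoc, ← Spec.map_comp, ← h2])
  refine ⟨l, hl1, ?_⟩
  rw [h1, Spec.map_comp, Category.assoc, hl2, ← Category.assoc, ← Spec.map_comp, h3,
    Spec.map_id, Category.id_comp]

/-- Stability under base change. -/
theorem DVRExistence.fst {X Y Y' : Scheme.{u}} {f : X ⟶ Y} (hf : DVRExistence f) (g : Y' ⟶ Y) :
    DVRExistence (pullback.fst g f) := by
  intro A _ _ _ x y w
  obtain ⟨l₀, hl1, hl2⟩ := hf A (x ≫ pullback.snd g f) (y ≫ g) (by
    rw [Category.assoc, ← pullback.condition, ← Category.assoc, w, Category.assoc])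
  refine ⟨pullback.lift y l₀ hl1.symm, pullback.lift_fst _ _ _, ?_⟩
  apply pullback.hom_ext
  · rw [Category.assoc, pullback.lift_fst, w]
  · rw [Category.assoc, pullback.lift_snd, hl2]

/-- Specializations lift along a morphism locally of finite type to a locally Noetherian scheme
satisfying the existence part of the valuative criterion for discrete valuation rings. -/
theorem DVRExistence.specializingMap {X Y : Scheme.{u}} [IsLocallyNoetherian Y] {f : X ⟶ Y}
    [LocallyOfFiniteType f] (hf : DVRExistence f) : SpecializingMap f := by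
  intro x y' h
  by_cases hne : y' = f x
  · exact ⟨x, specializes_rfl, hne.symm⟩
  obtain ⟨A, y, hA, hy1, hy2⟩ := exists_dvr_of_specializes f x y' h hne
  obtain ⟨l, hl1, hl2⟩ := hf.exists_lift A (X.residueField x) (X.fromSpecResidueField x) y
    hy2.symm
  refine ⟨l (closedPoint A), ?_, ?_⟩
  · have h1 : x = l (Spec.map (CommRingCat.ofHom (algebraMap A (X.residueField x)))
        (closedPoint (X.residueField x))) := by
      rw [← Scheme.Hom.comp_apply, hl2, Scheme.fromSpecResidueField_apply]
    have h2 := (specializes_closedPoint (R := A) (Spec.map (CommRingCat.ofHom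
      (algebraMap A (X.residueField x))) (closedPoint (X.residueField x)))).map l.continuous
    rw [← h1] at h2
    exact h2
  · rw [← Scheme.Hom.comp_apply, hl1, hy1]

/-- A quasi-compact morphism locally of finite type to a locally Noetherian scheme which
satisfies the existence part of the valuative criterion for discrete valuation rings is
universally closed. -/
theorem DVRExistence.universallyClosed {X Y : Scheme.{u}} [IsLocallyNoetherian Y] {f : X ⟶ Y}
    [LocallyOfFiniteType f] [QuasiCompact f] (hf : DVRExistence f) : UniversallyClosed f := by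
  apply universallyClosed_of_finiteType_closed
  intro V hV C _ _ hC
  haveI : LocallyOfFiniteType (Spec.map (CommRingCat.ofHom (algebraMap Γ(Y, V) C))) := by
    rw [HasRingHomProperty.Spec_iff (P := @LocallyOfFiniteType)]
    exact RingHom.finiteType_algebraMap.mpr hC
  haveI : IsLocallyNoetherian (Spec (CommRingCat.of C)) :=
    LocallyOfFiniteType.isLocallyNoetherian
      (Spec.map (CommRingCat.ofHom (algebraMap Γ(Y, V) C)) ≫ hV.fromSpec)
  rw [isClosedMap_iff_specializingMap]
  exact (hf.fst _).specializingMap

end Groth.Agent.Lib.ValCrit
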