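import Mathlib
import Groth.Agent.Lib.ValCrit7_helper6

/-!
# Separatedness and properness tested on discrete valuation rings (helper6)
-/

set_option autoImplicit false
universe u

open CategoryTheory CategoryTheory.Limits AlgebraicGeometry IsLocalRing

namespace Groth.Agent.Lib.ValCrit

/-- The uniqueness part of the valuative criterion, tested on discrete valuation rings only. -/
def DVRUniqueness {X Y : Scheme.{u}} (f : X ⟶ Y) : Prop :=
  ∀ (A : Type u) [CommRing A] [IsDomain A] [IsDiscreteValuationRing A]
    (g₁ g₂ : Spec (CommRingCat.of A) ⟶ X), g₁ ≫ f = g₂ ≫ f →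
    Spec.map (CommRingCat.ofHom (algebraMap A (FractionRing A))) ≫ g₁ =
      Spec.map (CommRingCat.ofHom (algebraMap A (FractionRing A))) ≫ g₂ → g₁ = g₂

theorem dvrUniqueness_of_isSeparated {X Y : Scheme.{u}} (f : X ⟶ Y) [IsSeparated f] :
    DVRUniqueness f := by
  intro A _ _ _ g₁ g₂ h1 h2
  have hU := IsSeparated.valuativeCriterion f
  let Sq : ValuativeCommSq f :=
    { R := A
      K := FractionRing A
      i₁ := Spec.map (CommRingCat.ofHom (algebraMap A (FractionRing A))) ≫ g₁
      i₂ := g₁ ≫ f
      commSq := ⟨by rw [Category.assoc]⟩ }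
  haveI := hU Sq
  let l₁ : Sq.commSq.LiftStruct := ⟨g₁, rfl, rfl⟩
  let l₂ : Sq.commSq.LiftStruct := ⟨g₂, h2.symm, h1.symm⟩
  have h12 : l₁ = l₂ := Subsingleton.elim _ _
  exact congrArg CommSq.LiftStruct.l h12

theorem DVRUniqueness.existence_diagonal {X Y : Scheme.{u}} {f : X ⟶ Y} (hf : DVRUniqueness f) :
    DVRExistence (pullback.diagonal f) := by
  intro A _ _ _ x y w
  have h1 : (y ≫ pullback.fst f f) ≫ f = (y ≫ pullback.snd f f) ≫ f := by
    rw [Category.assoc, Category.assoc, pullback.condition]
  have hx1 : Spec.map (CommRingCat.ofHom (algebraMap A (FractionRing A))) ≫ y ≫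
      pullback.fst f f = x := by
    rw [← Category.assoc, ← w, Category.assoc, pullback.diagonal_fst, Category.comp_id]
  have hx2 : Spec.map (CommRingCat.ofHom (algebraMap A (FractionRing A))) ≫ y ≫
      pullback.snd f f = x := by
    rw [← Category.assoc, ← w, Category.assoc, pullback.diagonal_snd, Category.comp_id]
  have h12 := hf A _ _ h1 (hx1.trans hx2.symm)
  refine ⟨y ≫ pullback.fst f f, ?_, hx1⟩
  apply pullback.hom_ext
  · rw [Category.assoc, pullback.diagonal_fst, Category.comp_id]
  · rw [Category.assoc, pullback.diagonal_snd, Category.comp_id, h12]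

theorem DVRUniqueness.isSeparated {X Y : Scheme.{u}} [IsLocallyNoetherian Y] {f : X ⟶ Y}
    [LocallyOfFiniteType f] (hf : DVRUniqueness f) : IsSeparated f where
  isClosedImmersion_diagonal := by
    haveI : IsLocallyNoetherian X := LocallyOfFiniteType.isLocallyNoetherian f
    haveI : QuasiSeparated f := QuasiSeparated.of_quasiSeparatedSpace f
    haveI : IsLocallyNoetherian (pullback f f) := inferInstance
    have hsp := (hf.existence_diagonal).specializingMap
    have hcl : IsClosedMap (pullback.diagonal f) :=
      (isClosedMap_iff_specializingMap (pullback.diagonal f)).2 hsp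
    exact .of_isPreimmersion _ hcl.isClosed_range

/-- The Noetherian valuative criterion for properness. -/
theorem isProper_of_dvr {X Y : Scheme.{u}} [IsLocallyNoetherian Y] {f : X ⟶ Y}
    [LocallyOfFiniteType f] [QuasiCompact f] (hE : DVRExistence f) (hU : DVRUniqueness f) :
    IsProper f := by
  haveI := hU.isSeparated
  haveI := hE.universallyClosed
  exact { }

theorem dvrExistence_of_universallyClosed {X Y : Scheme.{u}} (f : X ⟶ Y) [UniversallyClosed f] :
    DVRExistence f := by
  intro A _ _ _ x y w
  have hE : ValuativeCriterion.Existence f := by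
    have h1 : (ValuativeCriterion.Existence ⊓ @QuasiCompact) f := by
      rw [← UniversallyClosed.eq_valuativeCriterion]; infer_instance
    exact h1.1
  let Sq : ValuativeCommSq f :=
    { R := A
      K := FractionRing A
      i₁ := x
      i₂ := y
      commSq := ⟨w⟩ }
  obtain ⟨l, hl₁, hl₂⟩ := (hE Sq).exists_lift
  exact ⟨l, hl₂, hl₁⟩

end Groth.Agent.Lib.ValCrit
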