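import Groth.Agent.Lib.ValCrit_helper7
import Groth.Agent.Lib.ValCrit8_helper6
import Groth.Agent.Lib.EtCharts_helper7
import Groth.Agent.Lib.AlgSpLocP3_helper7
import Groth.Agent.Lib.AlgSpLocP4_helper7

set_option autoImplicit false
universe u
open CategoryTheory CategoryTheory.Limits AlgebraicGeometry Opposite

namespace Groth.Agent.Lib.ValCritDVRH7

open AlgSp Groth.Agent.Lib.AlgSpDiag_helper7 Groth.Agent.Lib.ValCrit Groth.Agent.Lib.EtChartsH7
  Groth.Agent.Lib.AffDescH7 Groth.Agent.Lib.AlgSpLocP3_helper7 Groth.Agent.Lib.AlgSpLocP4_helper7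
  Groth.Agent.Lib.AlgSpPullback_helper7

variable {S : Scheme.{u}}

/-- If `d` has lifts for all valuative squares over discrete valuation rings, so does every
representing base change of `d` to a scheme (in helper6's scheme-level sense). -/
theorem dvrExistence_of_hasLift {F G : Sp S} {d : F ⟶ G}
    (hd : ∀ sq : ValSq d, IsDiscreteValuationRing sq.A → sq.HasLift)
    {T W : Over S} {g : (yon S).obj T ⟶ G} {fst : (yon S).obj W ⟶ F} {snd : W ⟶ T}
    (sq : IsPullback fst ((yon S).map snd) d g) :
    DVRExistence snd.left := by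
  intro A _ _ _ x y w
  let ptA : Over S := Over.mk (y ≫ T.hom)
  let i₂' : ptA ⟶ T := Over.homMk y rfl
  let ptK : Over S :=
    Over.mk (Spec.map (CommRingCat.ofHom (algebraMap A (FractionRing A))) ≫ y ≫ T.hom)
  let j : ptK ⟶ ptA :=
    Over.homMk (Spec.map (CommRingCat.ofHom (algebraMap A (FractionRing A)))) rfl
  let i₁' : ptK ⟶ W := Over.homMk x (by
    change x ≫ W.hom = Spec.map _ ≫ y ≫ T.hom
    rw [← Over.w snd, ← Category.assoc, w, Category.assoc])
  have hw : i₁' ≫ snd = j ≫ i₂' := by
    ext
    exact w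
  let vsq : ValSq d :=
    { A := A, K := FractionRing A, str := y ≫ T.hom
      top := (yon S).map i₁' ≫ fst
      bot := (yon S).map i₂' ≫ g
      comm := by
        have e : (yon S).map i₁' ≫ (yon S).map snd = (yon S).map j ≫ (yon S).map i₂' := by
          rw [← Functor.map_comp, ← Functor.map_comp, hw]
        show ((yon S).map i₁' ≫ fst) ≫ d = (yon S).map j ≫ (yon S).map i₂' ≫ g
        calc ((yon S).map i₁' ≫ fst) ≫ d = (yon S).map i₁' ≫ (yon S).map snd ≫ g := by
              rw [Category.assoc, sq.w]
          _ = (yon S).map j ≫ (yon S).map i₂' ≫ g := by rw [← Category.assoc, e, Category.assoc] }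
  obtain ⟨l, hl1, hl2⟩ := hd vsq ‹IsDiscreteValuationRing A›
  change (yon S).map j ≫ l = (yon S).map i₁' ≫ fst at hl1
  change l ≫ d = (yon S).map i₂' ≫ g at hl2
  obtain ⟨m, hm⟩ := (yon S).map_surjective (sq.lift l ((yon S).map i₂') hl2)
  have hm1 : (yon S).map m ≫ fst = l := by rw [hm, sq.lift_fst]
  have hm2 : m ≫ snd = i₂' := by
    apply (yon S).map_injective
    rw [Functor.map_comp, hm, sq.lift_snd]
  have hm3 : j ≫ m = i₁' := by
    apply (yon S).map_injective
    apply sq.hom_ext
    · rw [Functor.map_comp, Category.assoc, hm1, hl1]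
    · rw [← Functor.map_comp, ← Functor.map_comp, Category.assoc, hm2, hw]
  exact ⟨m.left, congrArg (fun k => k.left) hm2, congrArg (fun k => k.left) hm3⟩

/-- Uniqueness of lifts over discrete valuation rings for `f` gives existence of lifts over
discrete valuation rings for its diagonal. -/
theorem hasLift_diagonal_of_dvr {X Y : Sp S} (f : X ⟶ Y)
    (hu : ∀ sq : ValSq f, IsDiscreteValuationRing sq.A → sq.HasUniq) :
    ∀ sq : ValSq (pullback.diagonal f), IsDiscreteValuationRing sq.A → sq.HasLift := by
  intro sq hdvr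
  have htop : sq.top = (yon S).map sq.j ≫ sq.bot ≫ pullback.fst f f := by
    have := sq.comm =≫ pullback.fst f f
    simpa using this
  have htop' : sq.top = (yon S).map sq.j ≫ sq.bot ≫ pullback.snd f f := by
    have := sq.comm =≫ pullback.snd f f
    simpa using this
  let sq' : ValSq f :=
    { A := sq.A, commRing := sq.commRing, isDomain := sq.isDomain
      valuationRing := sq.valuationRing
      K := sq.K, field := sq.field, algebra := sq.algebra, isFractionRing := sq.isFractionRing
      str := sq.str, top := sq.top, bot := sq.bot ≫ pullback.fst f f ≫ f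
      comm := by rw [htop]; simp }
  have h := hu sq' hdvr (sq.bot ≫ pullback.fst f f) (sq.bot ≫ pullback.snd f f)
    htop.symm (by simp [sq']) htop'.symm (by simp [sq', pullback.condition])
  refine ⟨sq.bot ≫ pullback.fst f f, htop.symm, ?_⟩
  apply pullback.hom_ext
  · simp
  · simp [h]

/-- A quasi-separated morphism locally of finite type to a locally Noetherian algebraic space,
with at most one lift in every valuative square over a discrete valuation ring, is separated. -/
theorem isSeparatedMor_of_dvr_uniq {X Y : Sp S} (hX : IsAlgSpace X) (hY : IsAlgSpace Y)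
    (f : X ⟶ Y) (hqs : IsQuasiSeparatedMor f) (hft : LocP @LocallyOfFiniteType f)
    (hYn : IsLocNoethSp Y)
    (hu : ∀ sq : ValSq f, IsDiscreteValuationRing sq.A → sq.HasUniq) : IsSeparatedMor f := by
  obtain ⟨hlft, hmono, -, -⟩ := diagonal_properties hX f
  have sqD := IsPullback.of_hasPullback f f
  have hD : IsAlgSpace (pullback f f) := isAlgSpace_of_isPullback hY.diag hX hX sqD
  have h1 : LocP @LocallyOfFiniteType (pullback.snd f f) :=
    locP_baseChange etLocal_locallyOfFiniteType hX hY hX f f _ _ sqD hft
  have h2 : LocP @LocallyOfFiniteType (pullback.snd f f ≫ f) :=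
    locP_comp etLocal_locallyOfFiniteType hD hX hY _ _ h1 hft
  obtain ⟨T, p, hpe, hps, hT⟩ := isLocNoethSp_of_locP hD hY.diag _ h2 hYn
  haveI : IsLocallyNoetherian T.left := hT
  have sq := hqs.rep.isPullback p
  haveI : QuasiCompact (hqs.rep.snd p).left := hqs.property_snd p
  haveI : LocallyOfFiniteType (hqs.rep.snd p).left := hlft.property _ _ _ sq
  haveI : Mono (hqs.rep.snd p).left := hmono.property _ _ _ sq
  haveI : UniversallyClosed (hqs.rep.snd p).left :=
    (dvrExistence_of_hasLift (hasLift_diagonal_of_dvr f hu) sq).universallyClosed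
  haveI : IsProper (hqs.rep.snd p).left := {}
  have hci : IsClosedImmersion (hqs.rep.snd p).left :=
    (IsClosedImmersion.iff_isProper_and_mono _).2
      ⟨‹IsProper (hqs.rep.snd p).left›, ‹Mono (hqs.rep.snd p).left›⟩
  have h : RepWith @IsClosedImmersion ((yon S).map (hqs.rep.snd p)) :=
    (repWith_yon_map_iff _ _).2 hci
  exact of_etale_chart (isLocalOnBase_fppf_of_fpqc isLocalOnBase_fpqc_repWith_isClosedImmersion)
    hX hD (pullback.diagonal f) T p hpe hps (hqs.rep.fst p) ((yon S).map (hqs.rep.snd p)) sq h

end Groth.Agent.Lib.ValCritDVRH7
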