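import Mathlib
import Groth.Agent.Lib.RefGen1_helper6
import Groth.Agent.Lib.RefSep_helper6

/-!
# The refined valuative criterion with arbitrary valuation rings: separatedness (helper6)
-/

set_option autoImplicit false
universe u
open CategoryTheory CategoryTheory.Limits AlgebraicGeometry Opposite

namespace Groth.Agent.Lib.RefGenH6

open AlgSp Groth.Agent.Lib.AlgSpDiag_helper7 Groth.Agent.Lib.ValCrit Groth.Agent.Lib.EtChartsH7
  Groth.Agent.Lib.AffDescH7 Groth.Agent.Lib.AlgSpLocP3_helper7 Groth.Agent.Lib.AlgSpLocP4_helper7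
  Groth.Agent.Lib.AlgSpPullback_helper7 Groth.Agent.Lib.AlgSpQC_helper7
  Groth.Agent.Lib.RefVal Groth.Agent.Lib.RefCoverH6

variable {S : Scheme.{u}}

set_option maxHeartbeats 1600000 in
/-- The scheme-level refined existence hypothesis for a representing base change of the diagonal,
for arbitrary valuation rings of residue fields. -/
theorem val_lift_diagonal {U X Y : Sp S} (h : U ⟶ X) (f : X ⟶ Y)
    (hv : ∀ sq : ValSq f, (∃ t : (yon S).obj sq.ptK ⟶ U, t ≫ h = sq.top) → sq.HasUniq)
    {T W Z' : Over S} {p : (yon S).obj T ⟶ pullback f f} {fstW : (yon S).obj W ⟶ X} {snd : W ⟶ T}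
    (sq : IsPullback fstW ((yon S).map snd) (pullback.diagonal f) p)
    (c : Z' ⟶ W) (d : (yon S).obj Z' ⟶ U) (hcd : d ≫ h = (yon S).map c ≫ fstW)
    (z : ↥Z'.left) (R : ValuationSubring ↑(Z'.left.residueField z))
    (yA : Spec (CommRingCat.of ↥R) ⟶ T.left)
    (w : Spec.map (CommRingCat.ofHom R.subtype) ≫ yA =
      Z'.left.fromSpecResidueField z ≫ c.left ≫ snd.left) :
    ∃ l : Spec (CommRingCat.of ↥R) ⟶ W.left,
      Spec.map (CommRingCat.ofHom R.subtype) ≫ l = Z'.left.fromSpecResidueField z ≫ c.left ∧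
      l ≫ snd.left = yA := by
  have w' : Z'.left.fromSpecResidueField z ≫ c.left ≫ snd.left =
      Spec.map (CommRingCat.ofHom (algebraMap ↥R ↑(Z'.left.residueField z))) ≫ yA := w.symm
  let ptA : Over S := Over.mk (yA ≫ T.hom)
  let i₂' : ptA ⟶ T := Over.homMk yA rfl
  let ptK : Over S :=
    Over.mk (Spec.map (CommRingCat.ofHom (algebraMap ↥R ↑(Z'.left.residueField z))) ≫ yA ≫ T.hom)
  let j : ptK ⟶ ptA :=
    Over.homMk (Spec.map (CommRingCat.ofHom (algebraMap ↥R ↑(Z'.left.residueField z)))) rfl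
  let iU : ptK ⟶ Z' := Over.homMk (Z'.left.fromSpecResidueField z) (by
    change Z'.left.fromSpecResidueField z ≫ Z'.hom = Spec.map _ ≫ yA ≫ T.hom
    rw [← Over.w c, ← Over.w snd, ← Category.assoc, ← Category.assoc,
      Category.assoc (Z'.left.fromSpecResidueField z), w', Category.assoc])
  have hw : iU ≫ c ≫ snd = j ≫ i₂' := by
    ext
    exact w'
  have hfstW : fstW = (yon S).map snd ≫ p ≫ pullback.fst f f := by
    have := sq.w =≫ pullback.fst f f
    simpa using this
  have hfstW' : fstW = (yon S).map snd ≫ p ≫ pullback.snd f f := by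
    have := sq.w =≫ pullback.snd f f
    simpa using this
  have hkey : (yon S).map iU ≫ (yon S).map c ≫ (yon S).map snd =
      (yon S).map j ≫ (yon S).map i₂' := by
    rw [← Functor.map_comp, ← Functor.map_comp, ← Functor.map_comp, hw]
  let l₁ : (yon S).obj ptA ⟶ X := (yon S).map i₂' ≫ p ≫ pullback.fst f f
  let l₂ : (yon S).obj ptA ⟶ X := (yon S).map i₂' ≫ p ≫ pullback.snd f f
  have hl₁ : (yon S).map j ≫ l₁ = ((yon S).map iU ≫ d) ≫ h := by
    show (yon S).map j ≫ (yon S).map i₂' ≫ p ≫ pullback.fst f f = _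
    rw [Category.assoc, hcd, hfstW, ← Category.assoc ((yon S).map j), ← hkey]
    simp only [Category.assoc]
  have hl₂ : (yon S).map j ≫ l₂ = ((yon S).map iU ≫ d) ≫ h := by
    show (yon S).map j ≫ (yon S).map i₂' ≫ p ≫ pullback.snd f f = _
    rw [Category.assoc, hcd, hfstW', ← Category.assoc ((yon S).map j), ← hkey]
    simp only [Category.assoc]
  have hl₂f : l₂ ≫ f = l₁ ≫ f := by
    show ((yon S).map i₂' ≫ p ≫ pullback.snd f f) ≫ f = ((yon S).map i₂' ≫ p ≫ pullback.fst f f) ≫ f
    simp only [Category.assoc, pullback.condition]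
  let vsq : ValSq f :=
    { A := ↥R, K := ↑(Z'.left.residueField z), str := yA ≫ T.hom
      top := ((yon S).map iU ≫ d) ≫ h
      bot := l₁ ≫ f
      comm := by
        have e : (((yon S).map iU ≫ d) ≫ h) ≫ f = ((yon S).map j ≫ l₁) ≫ f := by rw [hl₁]
        simpa only [Category.assoc] using e }
  have h12 : l₁ = l₂ := hv vsq ⟨(yon S).map iU ≫ d, rfl⟩ l₁ l₂ hl₁ rfl hl₂ hl₂f
  have hfac : l₁ ≫ pullback.diagonal f = (yon S).map i₂' ≫ p := by
    apply pullback.hom_ext
    · rw [Category.assoc, pullback.diagonal_fst, Category.comp_id, Category.assoc]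
    · rw [Category.assoc, pullback.diagonal_snd, Category.comp_id, h12, Category.assoc]
  obtain ⟨m, hm⟩ := (yon S).map_surjective (sq.lift l₁ ((yon S).map i₂') hfac)
  have hm1 : (yon S).map m ≫ fstW = l₁ := by rw [hm, sq.lift_fst]
  have hm2 : m ≫ snd = i₂' := by
    apply (yon S).map_injective
    rw [Functor.map_comp, hm, sq.lift_snd]
  have hm3 : j ≫ m = iU ≫ c := by
    apply (yon S).map_injective
    apply sq.hom_ext
    · rw [Functor.map_comp, Category.assoc, hm1, hl₁, Functor.map_comp, Category.assoc,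
        Category.assoc, hcd]
    · rw [← Functor.map_comp, ← Functor.map_comp, Category.assoc, hm2, Category.assoc, hw]
  exact ⟨m.left, congrArg (fun k => k.left) hm3, congrArg (fun k => k.left) hm2⟩

set_option maxHeartbeats 1600000 in
/-- **Refined valuative criterion for separatedness.** -/
theorem isSeparatedMor_of_refined_uniq {U X Y : Sp S} (hX : IsAlgSpace X)
    (hY : IsAlgSpace Y) (h : U ⟶ X) (f : X ⟶ Y) (hfqs : IsQuasiSeparatedMor f)
    (hhqc : IsQuasiCompactMor h) (hd : Dense (Set.range (Points.map h)))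
    (hv : ∀ sq : ValSq f, (∃ t : (yon S).obj sq.ptK ⟶ U, t ≫ h = sq.top) → sq.HasUniq) :
    IsSeparatedMor f := by
  obtain ⟨hlft, hmono, hsep, -⟩ := diagonal_properties hX f
  have sqD := IsPullback.of_hasPullback f f
  have hD : IsAlgSpace (pullback f f) := isAlgSpace_of_isPullback hY.diag hX hX sqD
  obtain ⟨T, p, hpe, hps⟩ := hD.atlas
  have sq := hfqs.rep.isPullback p
  haveI : QuasiCompact (hfqs.rep.snd p).left := hfqs.property_snd p
  haveI : LocallyOfFiniteType (hfqs.rep.snd p).left := hlft.property _ _ _ sq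
  haveI : Mono (hfqs.rep.snd p).left := hmono.property _ _ _ sq
  haveI : IsSeparated (hfqs.rep.snd p).left := hsep.property _ _ _ sq
  have hfe : RepWith @Etale (hfqs.rep.fst p) := repWith_fst_of_isPullback _ sq hpe
  have hE : ValuativeCriterion.Existence (hfqs.rep.snd p).left := by
    apply existence_of_core
    intro y R' φ' hφ'
    obtain ⟨Z', c, d, z, hcd, hz⟩ :=
      exists_specializes_chart' hX h hhqc hd (hfqs.rep.fst p) hfe y
    have hU' : RefUniqAt c.left (hfqs.rep.snd p).left z :=
      refUniqAt_of_uniqueness c.left (hfqs.rep.snd p).left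
        (IsSeparated.valuativeCriterion (hfqs.rep.snd p).left) z
    have hE' : RefExistAt c.left (hfqs.rep.snd p).left z := by
      intro R φ hφ
      exact val_lift_diagonal h f hv sq c d hcd z R φ hφ
    exact core_exist_at c.left (hfqs.rep.snd p).left y z hE' hU' hz R' φ' hφ'
  haveI : UniversallyClosed (hfqs.rep.snd p).left := UniversallyClosed.of_valuativeCriterion _ hE
  haveI : IsProper (hfqs.rep.snd p).left := {}
  have hci : IsClosedImmersion (hfqs.rep.snd p).left :=
    (IsClosedImmersion.iff_isProper_and_mono _).2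
      ⟨‹IsProper (hfqs.rep.snd p).left›, ‹Mono (hfqs.rep.snd p).left›⟩
  have hrep : RepWith @IsClosedImmersion ((yon S).map (hfqs.rep.snd p)) :=
    (repWith_yon_map_iff _ _).2 hci
  exact of_etale_chart (isLocalOnBase_fppf_of_fpqc isLocalOnBase_fpqc_repWith_isClosedImmersion)
    hX hD (pullback.diagonal f) T p hpe hps (hfqs.rep.fst p) ((yon S).map (hfqs.rep.snd p)) sq hrep

end Groth.Agent.Lib.RefGenH6
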