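import Mathlib
import Groth.Prelude
import Groth.Agent.Lib.FlatHart4_helper4
import Groth.Agent.Lib.Hartogs_helper5
import Groth.Agent.Lib.DepthRefl_helper5
import Groth.Agent.Lib.ReflHom2_helper8
import Groth.Agent.Lib.HomLin6_helper8
import Groth.Agent.Lib.FibMono1_helper8
import Groth.Agent.Lib.SubExt_helper9
import Groth.Agent.Lib.PureCurve1_helper8

/-!
# The bidual of a finite type submodule of a flat module on a normal scheme: Hartogs part (helper4)
APPEND-ONLY once landed.
-/

set_option autoImplicit false
set_option linter.style.haveILetI false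
universe u
open CategoryTheory CategoryTheory.Limits AlgebraicGeometry TopologicalSpace Opposite

namespace Groth.Agent.Lib.RefHullFlatH4

variable {S : Scheme.{u}}

/-- a finite type submodule of a quasi-coherent module is quasi-coherent -/
theorem isQuasicoherent_of_mono_of_isFT {F A : S.Modules} [A.IsQuasicoherent]
    (hF : CohB1.IsFT F) (ι : F ⟶ A) [Mono ι] : F.IsQuasicoherent := by
  haveI : (cokernel ι).IsQuasicoherent :=
    Groth.Agent.Lib.FibMonoH8.isQuasicoherent_cokernel_of_isFT hF ι
  haveI : (kernel (cokernel.π ι)).IsQuasicoherent := SubExt.isQuasicoherent_kernel _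
  have hlim := Abelian.monoIsKernelOfCokernel (CokernelCofork.ofπ (cokernel.π ι)
    (cokernel.condition ι)) (cokernelIsCokernel ι)
  let e : F ≅ kernel (cokernel.π ι) :=
    IsLimit.conePointUniqueUpToIso hlim (limit.isLimit (parallelPair (cokernel.π ι) 0))
  exact (SheafOfModules.isQuasicoherent S.ringCatSheaf).prop_of_iso e.symm inferInstance

/-- the reflexive hull of a coherent module on a normal Noetherian scheme extends uniquely over
closed subsets of codimension at least two -/
theorem isIso_unit_ddual [IsNoetherian S] (hS : Pi1.IsNormalScheme S)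
    (F : S.Modules) (hF : Coh.IsCoh F) (U : S.Opens)
    (hU : ∀ s : S, ringKrullDim (S.presheaf.stalk s) ≤ 1 → s ∈ U) :
    IsIso ((Scheme.Modules.restrictAdjunction U.ι).unit.app (RefHull.ddual F)) := by
  have hDD := HomLinH8.isCoh_ddual F hF
  haveI : (RefHull.ddual F).IsQuasicoherent := hDD.1
  haveI : SheafOfModules.IsFiniteType (R := S.ringCatSheaf) (RefHull.ddual F) := hDD.2
  have hd : ∀ x : S, x ∉ U → (2 : ℕ∞) ≤
      LocCoh.depth (S.presheaf.stalk x) ((RefHull.ddual F).presheaf.stalk x) := by
    intro x hx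
    haveI : IsDomain (S.presheaf.stalk x) := (hS x).1
    haveI : IsIntegrallyClosed (S.presheaf.stalk x) := (hS x).2
    have h2 : (2 : ℕ∞) ≤ LocCoh.depth (S.presheaf.stalk x) (S.presheaf.stalk x) := by
      apply Groth.Agent.ParaUfd.two_le_depth_of_normal
      by_contra hlt
      exact hx (hU x (Groth.Agent.Lib.FlatHartH4.le_one_of_not_two_le _ hlt))
    haveI : Module.Finite (S.presheaf.stalk x) (F.presheaf.stalk x) :=
      RefHullH8.finite_stalk hF.2 x
    obtain ⟨Φ, -⟩ := ReflHomH8.exists_equiv_bidual F hF x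
    haveI : Module.Finite (S.presheaf.stalk x)
        (Module.Dual (S.presheaf.stalk x) (F.presheaf.stalk x)) :=
      Groth.Agent.DepthLib.finite_hom _ _
    have h3 := (Groth.Agent.DepthLib.idealDepth_hom
      (IsLocalRing.maximalIdeal (S.presheaf.stalk x))
      (Module.Dual (S.presheaf.stalk x) (F.presheaf.stalk x)) (S.presheaf.stalk x)).2 h2
    have h4 := Groth.Agent.DepthLib.idealDepth_congr
      (IsLocalRing.maximalIdeal (S.presheaf.stalk x)) _ Φ
    show (2 : ℕ∞) ≤ LocCoh.idealDepth (IsLocalRing.maximalIdeal (S.presheaf.stalk x))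
      ((RefHull.ddual F).presheaf.stalk x)
    rw [h4]
    exact h3
  apply Groth.Agent.Lib.FlatHartH4.isIso_unit_of_affine (RefHull.ddual F) U
  intro V _
  constructor
  · intro a b hab
    have h0 : a - b = 0 := Groth.Agent.Hartogs.inj (RefHull.ddual F) U hd V (a - b) (by
      rw [map_sub, hab, sub_self])
    exact sub_eq_zero.mp h0
  · intro τ
    exact Groth.Agent.Hartogs.surj (RefHull.ddual F) U hd V τ

/-- a submodule of a flat module over a principal ideal domain is flat -/
theorem flat_of_injective_of_pid {R : Type u} [CommRing R] [IsDomain R] [IsPrincipalIdealRing R]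
    {M N : Type u} [AddCommGroup M] [Module R M] [AddCommGroup N] [Module R N] [Module.Flat R N]
    (g : M →ₗ[R] N) (hg : Function.Injective g) : Module.Flat R M := by
  rw [Module.Flat.flat_iff_torsion_eq_bot_of_isBezout]
  have hN : Submodule.torsion R N = ⊥ := Module.Flat.torsion_eq_bot
  rw [eq_bot_iff]
  intro m hm
  obtain ⟨a, ha⟩ := (Submodule.mem_torsion_iff m).mp hm
  have h1 : g m ∈ Submodule.torsion R N := by
    rw [Submodule.mem_torsion_iff]
    refine ⟨a, ?_⟩
    rw [Submonoid.smul_def] at ha ⊢
    rw [← map_smul, ha, map_zero]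
  rw [hN] at h1
  have h2 : g m = 0 := (Submodule.mem_bot R).mp h1
  exact (Submodule.mem_bot R).mpr (hg (h2.trans (map_zero g).symm))

/-- a finite type submodule of a flat module on a normal Noetherian scheme is flat at the points of
codimension at most one -/
theorem isFlatAt_of_dim_le_one [IsNoetherian S] (hS : Pi1.IsNormalScheme S) {F A : S.Modules}
    (hAfl : FlatMod.IsFlat A) (ι : F ⟶ A) [Mono ι] (x : S)
    (hx : ringKrullDim (S.presheaf.stalk x) ≤ 1) : FlatMod.IsFlatAt F x := by
  haveI : IsDomain (S.presheaf.stalk x) := (hS x).1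
  haveI : IsIntegrallyClosed (S.presheaf.stalk x) := (hS x).2
  haveI : Ring.KrullDimLE 1 (S.presheaf.stalk x) := Ring.krullDimLE_iff.mpr hx
  haveI : IsPrincipalIdealRing (S.presheaf.stalk x) := by
    have h4 : IsIntegrallyClosed (S.presheaf.stalk x) ∧ ∀ P : Ideal (S.presheaf.stalk x), P ≠ ⊥ →
        P.IsPrime → P = IsLocalRing.maximalIdeal (S.presheaf.stalk x) :=
      ⟨inferInstance, fun P hP hP' => IsLocalRing.eq_maximalIdeal (hP'.isMaximal_of_ne_bot hP)⟩
    exact ((tfae_of_isNoetherianRing_of_isLocalRing_of_isDomain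
      (R := S.presheaf.stalk x)).out 3 0).1 h4
  haveI : Module.Flat (S.presheaf.stalk x) (A.presheaf.stalk x) := hAfl x
  exact flat_of_injective_of_pid (RefHull.stalkMapₗ ι x)
    (PureCurveH8.stalkMap_injective_of_mono ι x)

end Groth.Agent.Lib.RefHullFlatH4
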