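import Mathlib
import Groth.Prelude
import Groth.Agent.Lib.RefHullFlat1_helper4
import Groth.Agent.Lib.CohQuot1_helper8
import Groth.Agent.Lib.ZClosPt5_helper8

/-!
# The bidual of a finite type submodule of a flat module on a normal scheme (helper4)
APPEND-ONLY once landed.
-/

set_option autoImplicit false
set_option linter.style.haveILetI false
universe u
open CategoryTheory CategoryTheory.Limits AlgebraicGeometry TopologicalSpace Opposite

namespace Groth.Agent.Lib.RefHullFlatH4

variable {S : Scheme.{u}}

/-- a morphism bijective on the stalks at the points of `U` restricts to an isomorphism on `U` -/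
theorem isIso_restrict_of_stalk_bijective {H T : S.Modules} (p : H ⟶ T) (U : S.Opens)
    (h : ∀ x ∈ U, Function.Bijective (RefHull.stalkMapₗ p x)) :
    IsIso ((Scheme.Modules.restrictFunctor U.ι).map p) :=
  Groth.Agent.Lib.CohQuotH8.isIso_restrict_of_bijective p U (fun V _ hVU =>
    ZClosPtH8.app_bijective_of_stalk_bijective p V (fun x hx => h x (hVU hx)))

/-- the biduality map of a coherent module is bijective on the stalks at the points where the module
is flat -/
theorem stalkMap_bidual_bijective_of_isFlatAt [IsLocallyNoetherian S] (F : S.Modules)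
    (hF : Coh.IsCoh F) (x : S) (hx : FlatMod.IsFlatAt F x) :
    Function.Bijective (RefHull.stalkMapₗ (RefHull.bidualMap F) x) := by
  apply (HomLinH8.isReflexiveAt_iff F hF x).mp
  haveI : Module.Finite (S.presheaf.stalk x) (F.presheaf.stalk x) := RefHullH8.finite_stalk hF.2 x
  haveI : Module.Flat (S.presheaf.stalk x) (F.presheaf.stalk x) := hx
  haveI : Module.Free (S.presheaf.stalk x) (F.presheaf.stalk x) :=
    Module.free_of_flat_of_isLocalRing
  show Module.IsReflexive (S.presheaf.stalk x) (F.presheaf.stalk x)
  infer_instance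

/-- **the bidual of a finite type submodule of a flat quasi-coherent module on a normal Noetherian
scheme is the direct image of its restriction to its flatness locus** -/
theorem main16486 (S : Scheme.{u}) [IsNoetherian S]
    (hS : Pi1.IsNormalScheme S) (A F : S.Modules) (hA : Coh.IsQCoh A) (hAfl : FlatMod.IsFlat A)
    (ι : F ⟶ A) [Mono ι] (hF : CohB1.IsFT F) (U : S.Opens)
    (hU : (U : Set S) = {s : S | FlatMod.IsFlatAt F s}) :
    ∃ e : RefHull.ddual F ≅ (Scheme.Modules.pushforward U.ι).obj (F.restrict U.ι),
      RefHull.bidualMap F ≫ e.hom = (Scheme.Modules.restrictAdjunction U.ι).unit.app F := by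
  haveI : A.IsQuasicoherent := hA
  haveI hFq : F.IsQuasicoherent := isQuasicoherent_of_mono_of_isFT hF ι
  have hFc : Coh.IsCoh F := ⟨hFq, hF⟩
  have hmem : ∀ s : S, s ∈ U ↔ FlatMod.IsFlatAt F s := by
    intro s
    have h1 : s ∈ (U : Set S) ↔ s ∈ {s : S | FlatMod.IsFlatAt F s} := by rw [hU]
    exact h1
  have hUbig : ∀ s : S, ringKrullDim (S.presheaf.stalk s) ≤ 1 → s ∈ U := fun s hs =>
    (hmem s).mpr (isFlatAt_of_dim_le_one hS hAfl ι s hs)
  haveI h1 := isIso_unit_ddual hS F hFc U hUbig
  haveI h2 : IsIso ((Scheme.Modules.restrictFunctor U.ι).map (RefHull.bidualMap F)) :=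
    isIso_restrict_of_stalk_bijective _ U (fun x hx =>
      stalkMap_bidual_bijective_of_isFlatAt F hFc x ((hmem x).mp hx))
  haveI h3 : IsIso ((Scheme.Modules.pushforward U.ι).map
      ((Scheme.Modules.restrictFunctor U.ι).map (RefHull.bidualMap F))) := inferInstance
  have hnat := (Scheme.Modules.restrictAdjunction U.ι).unit.naturality (RefHull.bidualMap F)
  refine ⟨asIso ((Scheme.Modules.restrictAdjunction U.ι).unit.app (RefHull.ddual F)) ≪≫
    (asIso ((Scheme.Modules.pushforward U.ι).map
      ((Scheme.Modules.restrictFunctor U.ι).map (RefHull.bidualMap F)))).symm, ?_⟩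
  rw [Iso.trans_hom, asIso_hom, Iso.symm_hom, asIso_inv, ← Category.assoc, IsIso.comp_inv_eq]
  exact hnat

end Groth.Agent.Lib.RefHullFlatH4
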