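import Mathlib
import Groth.Agent.Lib.RefVal12_helper6

/-!
# Function field versions of the refined valuative criterion (helper6)
-/

set_option autoImplicit false
universe u
open CategoryTheory CategoryTheory.Limits AlgebraicGeometry IsLocalRing

namespace Groth.Agent.Lib.RefVal

variable {X Y : Scheme.{u}} [IsIntegral X]

/-- The generic point as a morphism from the spectrum of the function field. -/
noncomputable def genPt (X : Scheme.{u}) [IsIntegral X] :
    Spec (CommRingCat.of ↑X.functionField) ⟶ X :=
  X.fromSpecStalk (genericPoint X)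

/-- The residue map `K(X) → κ(ξ)`. -/
noncomputable def resK (X : Scheme.{u}) [IsIntegral X] :
    CommRingCat.of ↑X.functionField ⟶ CommRingCat.of ↑(X.residueField (genericPoint X)) :=
  CommRingCat.ofHom (X.residue (genericPoint X)).hom

theorem resK_genPt (X : Scheme.{u}) [IsIntegral X] :
    Spec.map (resK X) ≫ genPt X = X.fromSpecResidueField (genericPoint X) := rfl

theorem resK_bijective : Function.Bijective (resK X).hom := by
  refine ⟨?_, X.residue_surjective _⟩
  exact RingHom.injective (resK X).hom

instance : IsIso (resK X) :=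
  (ConcreteCategory.isIso_iff_bijective _).mpr resK_bijective

/-- The existence statement for a valuation subring of the function field. -/
def FFExist (f : X ⟶ Y) (R : ValuationSubring X.functionField) : Prop :=
  ∀ φ : Spec (CommRingCat.of ↥R) ⟶ Y,
    Spec.map (CommRingCat.ofHom R.subtype) ≫ φ = genPt X ≫ f →
    ∃ l : Spec (CommRingCat.of ↥R) ⟶ X,
      Spec.map (CommRingCat.ofHom R.subtype) ≫ l = genPt X ∧ l ≫ f = φ

theorem comapρ_bijective (R' : ValuationSubring ↑(X.residueField (genericPoint X))) :
    Function.Bijective (comapρ R' (resK X).hom) := by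
  refine ⟨injective_comap R' _ _ (comapρ_coe R' _), ?_⟩
  intro r'
  obtain ⟨k, hk⟩ := X.residue_surjective (genericPoint X) (r' : ↑(X.residueField (genericPoint X)))
  have hkm : k ∈ R'.comap (resK X).hom := by
    change (X.residue (genericPoint X)).hom k ∈ R'
    rw [hk]; exact r'.2
  exact ⟨⟨k, hkm⟩, Subtype.ext hk⟩

/-- Transport of the existence statement from the function field to the residue field of the
generic point. -/
theorem transport_exist (f : X ⟶ Y) (R' : ValuationSubring ↑(X.residueField (genericPoint X)))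
    (hE : FFExist f (R'.comap (resK X).hom))
    (φ' : Spec (CommRingCat.of ↥R') ⟶ Y)
    (hφ' : Spec.map (CommRingCat.ofHom R'.subtype) ≫ φ' =
      X.fromSpecResidueField (genericPoint X) ≫ 𝟙 X ≫ f) :
    ∃ l' : Spec (CommRingCat.of ↥R') ⟶ X,
      Spec.map (CommRingCat.ofHom R'.subtype) ≫ l' =
        X.fromSpecResidueField (genericPoint X) ≫ 𝟙 X ∧ l' ≫ f = φ' := by
  haveI : IsIso (CommRingCat.ofHom (comapρ R' (resK X).hom)) :=
    (ConcreteCategory.isIso_iff_bijective _).mpr (comapρ_bijective R')
  have hsq : CommRingCat.ofHom (comapρ R' (resK X).hom) ≫ CommRingCat.ofHom R'.subtype =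
      CommRingCat.ofHom (R'.comap (resK X).hom).subtype ≫ resK X := by
    ext a; rfl
  have hsq' : Spec.map (CommRingCat.ofHom R'.subtype) ≫
      Spec.map (CommRingCat.ofHom (comapρ R' (resK X).hom)) =
      Spec.map (resK X) ≫ Spec.map (CommRingCat.ofHom (R'.comap (resK X).hom).subtype) := by
    rw [← Spec.map_comp, ← Spec.map_comp, hsq]
  obtain ⟨l, hl₁, hl₂⟩ := hE
    (inv (Spec.map (CommRingCat.ofHom (comapρ R' (resK X).hom))) ≫ φ') (by
      rw [← cancel_epi (Spec.map (resK X)), ← Category.assoc, ← hsq',
        Category.assoc, IsIso.hom_inv_id_assoc, hφ', Category.id_comp, ← resK_genPt,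
        Category.assoc])
  refine ⟨Spec.map (CommRingCat.ofHom (comapρ R' (resK X).hom)) ≫ l, ?_, ?_⟩
  · rw [← Category.assoc, hsq', Category.assoc, hl₁, Category.comp_id, resK_genPt]
  · rw [Category.assoc, hl₂, IsIso.hom_inv_id_assoc]

theorem isDVR_comap (R' : ValuationSubring ↑(X.residueField (genericPoint X)))
    (h : IsDiscreteValuationRing ↥R') :
    IsDiscreteValuationRing ↥(R'.comap (resK X).hom) :=
  IsDiscreteValuationRing.RingEquivClass.isDiscreteValuationRing (RingEquiv.ofBijective _ (comapρ_bijective R')).symm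

/-- `FFExist` holds for the trivial valuation ring. -/
theorem ffExist_top (f : X ⟶ Y) : FFExist f ⊤ := by
  intro φ hφ
  haveI : IsIso (CommRingCat.ofHom (⊤ : ValuationSubring X.functionField).subtype) := by
    rw [ConcreteCategory.isIso_iff_bijective]
    exact ⟨Subtype.val_injective, fun k => ⟨⟨k, trivial⟩, rfl⟩⟩
  refine ⟨inv (Spec.map (CommRingCat.ofHom (⊤ : ValuationSubring X.functionField).subtype)) ≫
    genPt X, by rw [IsIso.hom_inv_id_assoc], ?_⟩
  rw [Category.assoc, ← hφ, IsIso.inv_hom_id_assoc]

end Groth.Agent.Lib.RefVal
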