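import Mathlib
import Groth.Agent.Lib.RefVal13_helper6

/-!
# Properness from domination of local rings by valuation rings of the function field (helper6)
-/

set_option autoImplicit false
universe u
open CategoryTheory CategoryTheory.Limits AlgebraicGeometry IsLocalRing

namespace Groth.Agent.Lib.RefVal

/-- Two morphisms from the spectrum of a valuation ring to a separated scheme which agree at the
generic point are equal. -/
theorem eq_of_gen_eq_of_isSeparated {T : Scheme.{u}} [T.IsSeparated] {K : Type u} [Field K]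
    (R : ValuationSubring K) (a b : Spec (CommRingCat.of ↥R) ⟶ T)
    (h : Spec.map (CommRingCat.ofHom R.subtype) ≫ a = Spec.map (CommRingCat.ofHom R.subtype) ≫ b) :
    a = b := by
  have hU := IsSeparated.valuativeCriterion (terminal.from T)
  let Sq : ValuativeCommSq (terminal.from T) :=
    { R := ↥R
      K := K
      i₁ := Spec.map (CommRingCat.ofHom R.subtype) ≫ a
      i₂ := terminal.from _
      commSq := ⟨terminal.hom_ext _ _⟩ }
  haveI := hU Sq
  let l₁ : Sq.commSq.LiftStruct := ⟨a, rfl, terminal.hom_ext _ _⟩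
  let l₂ : Sq.commSq.LiftStruct := ⟨b, h.symm, terminal.hom_ext _ _⟩
  exact congrArg CommSq.LiftStruct.l (Subsingleton.elim l₁ l₂)

variable {X Y : Scheme.{u}} [IsIntegral X]

/-- The domination hypothesis of EGA II 7.3.10 for a valuation ring of the function field. -/
def Dominates (f : X ⟶ Y) (R : ValuationSubring X.functionField) : Prop :=
  ∀ (y : Y) (hy : f.base (genericPoint X) ⤳ y),
    ((∀ a : Y.presheaf.stalk y,
        (Y.presheaf.stalkSpecializes hy ≫ f.stalkMap (genericPoint X)).hom a ∈ R) ∧
      ∀ a ∈ IsLocalRing.maximalIdeal (Y.presheaf.stalk y),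
        R.valuation ((Y.presheaf.stalkSpecializes hy ≫ f.stalkMap (genericPoint X)).hom a) < 1) →
    ∃ x : X, (∀ a : X.presheaf.stalk x, algebraMap (X.presheaf.stalk x) X.functionField a ∈ R) ∧
      ∀ a ∈ IsLocalRing.maximalIdeal (X.presheaf.stalk x),
        R.valuation (algebraMap (X.presheaf.stalk x) X.functionField a) < 1

theorem genPt_comp (f : X ⟶ Y) :
    genPt X ≫ f = Spec.map (f.stalkMap (genericPoint X)) ≫ Y.fromSpecStalk (f (genericPoint X)) :=
  (Scheme.SpecMap_stalkMap_fromSpecStalk (f := f) (x := genericPoint X)).symm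

theorem ffExist_of_dominates [Y.IsSeparated] (f : X ⟶ Y) (R : ValuationSubring X.functionField)
    (hdom : Dominates f R) : FFExist f R := by
  intro φ hφ
  rw [genPt_comp] at hφ
  obtain ⟨hsp, c1, c2⟩ := dominates_of_lift (T := Y) (f (genericPoint X))
    (K := ↑X.functionField) (f.stalkMap (genericPoint X)) R φ hφ
  obtain ⟨x, d1, d2⟩ := hdom _ hsp ⟨c1, c2⟩
  obtain ⟨l, hl, -⟩ := exists_lift_of_dominates (T := X) x (K := ↑X.functionField)
    (CommRingCat.ofHom (algebraMap (X.presheaf.stalk x) X.functionField)) R d1 d2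
  have hl' : Spec.map (CommRingCat.ofHom R.subtype) ≫ l = genPt X := by
    rw [hl]
    exact Scheme.SpecMap_stalkSpecializes_fromSpecStalk
      ((genericPoint_spec X).specializes trivial)
  refine ⟨l, hl', ?_⟩
  apply eq_of_gen_eq_of_isSeparated R
  rw [← Category.assoc, hl', genPt_comp, hφ]

end Groth.Agent.Lib.RefVal
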