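import Mathlib
import Groth.Agent.Lib.RefVal14_helper6

/-!
# EGA II 7.3.10: properness from valuation rings of the function field (helper6)
-/

set_option autoImplicit false
universe u
open CategoryTheory CategoryTheory.Limits AlgebraicGeometry IsLocalRing

namespace Groth.Agent.Lib.RefVal

variable {X Y : Scheme.{u}} [IsIntegral X]

theorem existence_of_ffExist (f : X ⟶ Y) [IsSeparated f]
    (hFF : ∀ R' : ValuationSubring ↑(X.residueField (genericPoint X)),
      FFExist f (R'.comap (resK X).hom)) :
    ValuativeCriterion.Existence f := by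
  have hU : ValuativeCriterion.Uniqueness f := IsSeparated.valuativeCriterion f
  apply existence_of_refAt (𝟙 X) f
  intro x
  refine ⟨genericPoint X, ?_, ?_, refUniqAt_of_uniqueness (𝟙 X) f hU _⟩
  · exact (genericPoint_spec X).specializes trivial
  · intro R' φ' hφ'
    exact transport_exist f R' (hFF R') φ' hφ'

theorem isProper_of_dominates [X.IsSeparated] [Y.IsSeparated] (f : X ⟶ Y)
    [LocallyOfFiniteType f] [QuasiCompact f]
    (h : ∀ R : ValuationSubring X.functionField, R ≠ ⊤ → Dominates f R) : IsProper f := by
  have hFF : ∀ R : ValuationSubring X.functionField, FFExist f R := fun R => by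
    by_cases hR : R = ⊤
    · subst hR; exact ffExist_top f
    · exact ffExist_of_dominates f R (h R hR)
  have hE := existence_of_ffExist f (fun R' => hFF _)
  have h4 : UniversallyClosed f := UniversallyClosed.of_valuativeCriterion f hE
  constructor

theorem isProper_of_dominates_dvr [X.IsSeparated] [Y.IsSeparated] [IsLocallyNoetherian Y]
    (f : X ⟶ Y) [LocallyOfFiniteType f] [QuasiCompact f]
    (h : ∀ R : ValuationSubring X.functionField, IsDiscreteValuationRing R → Dominates f R) :
    IsProper f := by
  have hU : ValuativeCriterion.Uniqueness f := IsSeparated.valuativeCriterion f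
  have hE : ValuativeCriterion.Existence f := by
    apply existence_of_refAt (𝟙 X) f
    intro x
    refine ⟨genericPoint X, ?_, ?_, refUniqAt_of_uniqueness (𝟙 X) f hU _⟩
    · exact (genericPoint_spec X).specializes trivial
    · apply refExistAt_of_dvr f (𝟙 X)
      intro A' hA' φ' hφ'
      exact transport_exist f A' (ffExist_of_dominates f _ (h _ (isDVR_comap A' hA'))) φ' hφ'
  have h4 : UniversallyClosed f := UniversallyClosed.of_valuativeCriterion f hE
  constructor

theorem dominates_of_universallyClosed (f : X ⟶ Y) [UniversallyClosed f]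
    (R : ValuationSubring X.functionField) : Dominates f R := by
  intro y hy hdom
  obtain ⟨φ, hφ, -⟩ := exists_lift_of_dominates (T := Y) y (K := ↑X.functionField)
    (Y.presheaf.stalkSpecializes hy ≫ f.stalkMap (genericPoint X)) R hdom.1 hdom.2
  have hφ' : Spec.map (CommRingCat.ofHom R.subtype) ≫ φ = genPt X ≫ f := by
    rw [hφ, genPt_comp, Spec.map_comp, Category.assoc,
      Scheme.SpecMap_stalkSpecializes_fromSpecStalk]
  have hE : ValuativeCriterion.Existence f := by
    have h1 : (ValuativeCriterion.Existence ⊓ @QuasiCompact) f := by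
      rw [← UniversallyClosed.eq_valuativeCriterion]; infer_instance
    exact h1.1
  let Sq : ValuativeCommSq f :=
    { R := ↥R
      K := ↑X.functionField
      i₁ := genPt X
      i₂ := φ
      commSq := ⟨hφ'.symm⟩ }
  obtain ⟨l, hl₁, hl₂⟩ := (hE Sq).exists_lift
  have hl : Spec.map (CommRingCat.ofHom R.subtype) ≫ l =
      Spec.map (𝟙 (X.presheaf.stalk (genericPoint X))) ≫ X.fromSpecStalk (genericPoint X) := by
    rw [Spec.map_id, Category.id_comp]
    exact hl₁
  obtain ⟨hsp, c1, c2⟩ := dominates_of_lift (T := X) (genericPoint X) (K := ↑X.functionField)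
    (𝟙 (X.presheaf.stalk (genericPoint X))) R l hl
  exact ⟨l (closedPoint ↥R), c1, c2⟩

end Groth.Agent.Lib.RefVal
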