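import Mathlib
set_option autoImplicit false
universe u
open CategoryTheory CategoryTheory.Limits AlgebraicGeometry IsLocalRing

namespace Groth.Agent.Lib.RefVal

/-- An open subset with quasi-compact inclusion which is stable under specialization is closed. -/
theorem isClosed_of_quasiCompact_of_stableUnderSpecialization {X : Scheme.{u}} (U : X.Opens)
    [QuasiCompact U.ι] (h : StableUnderSpecialization (U : Set X)) : IsClosed (U : Set X) := by
  have h1 : SpecializingMap U.ι :=
    U.ι.isOpenEmbedding.isInducing.specializingMap (by rwa [Scheme.Opens.range_ι])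
  have h2 : IsClosedMap U.ι := (isClosedMap_iff_specializingMap U.ι).mpr h1
  have := h2.isClosed_range
  rwa [Scheme.Opens.range_ι] at this

/-- The preimage of an open under a morphism to a locally Noetherian scheme has quasi-compact
inclusion. -/
theorem quasiCompact_preimage_ι {X Y : Scheme.{u}} [IsLocallyNoetherian Y] (f : X ⟶ Y)
    (W : Y.Opens) : QuasiCompact (f ⁻¹ᵁ W).ι :=
  MorphismProperty.of_isPullback (P := @QuasiCompact) (isPullback_morphismRestrict f W)
    inferInstance

section DVR

variable (V : Type u) [CommRing V] [IsDomain V] [IsDiscreteValuationRing V]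

theorem dvr_point_cases (p : PrimeSpectrum V) : p = ⊥ ∨ p = closedPoint V := by
  by_cases h : p.asIdeal = ⊥
  · left; exact PrimeSpectrum.ext h
  · right
    apply PrimeSpectrum.ext
    have := ((IsDiscreteValuationRing.iff_pid_with_one_nonzero_prime V).mp inferInstance).2
    obtain ⟨P, -, hP⟩ := this
    have h1 := hP p.asIdeal ⟨h, p.isPrime⟩
    have h2 := hP (maximalIdeal V) ⟨IsDiscreteValuationRing.not_a_field V, inferInstance⟩
    change p.asIdeal = maximalIdeal V
    rw [h1, h2]

theorem dvr_bot_ne_closedPoint : (⊥ : PrimeSpectrum V) ≠ closedPoint V := by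
  intro h
  have := congrArg PrimeSpectrum.asIdeal h
  exact IsDiscreteValuationRing.not_a_field V this.symm

end DVR

end Groth.Agent.Lib.RefVal
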