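import Mathlib
import Groth.Agent.Lib.RefVal17_helper6
set_option autoImplicit false
universe u
open CategoryTheory CategoryTheory.Limits AlgebraicGeometry IsLocalRing

namespace Groth.Agent.Lib.RefVal

/-- A ring map out of a valuation ring which becomes injective into a domain (or lands in a subring
of the zero ring) is flat. -/
theorem flat_of_injective_to_domain {V B D : Type u} [CommRing V] [IsDomain V] [ValuationRing V]
    [CommRing B] [CommRing D] (ψ : V →+* B) (ι : B →+* D) (hι : Function.Injective ι)
    (hD : Subsingleton D ∨ (IsDomain D ∧ Function.Injective (ι.comp ψ))) : ψ.Flat := by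
  letI := ψ.toAlgebra
  change Module.Flat V B
  rw [Module.Flat.flat_iff_torsion_eq_bot_of_isBezout, eq_bot_iff]
  rintro m ⟨⟨r, hr⟩, h⟩
  have hr0 : r ≠ 0 := nonZeroDivisors.ne_zero hr
  have h' : ψ r * m = 0 := by
    have : algebraMap V B r * m = 0 := by simpa [Algebra.smul_def] using h
    exact this
  rcases hD with hD | ⟨hD, hinj⟩
  · have : ι m = ι 0 := Subsingleton.elim _ _
    simpa using hι this
  · have h2 : ι (ψ r) * ι m = 0 := by rw [← map_mul, h', map_zero]
    rcases mul_eq_zero.mp h2 with h3 | h3
    · exact absurd ((map_eq_zero_iff _ hinj).mp h3) hr0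
    · have : ι m = ι 0 := by rw [h3, map_zero]
      simpa using hι this

/-- If a morphism `Spec S ⟶ Spec R` (with `R` a domain) hits the generic point, then
it is injective on global sections. -/
theorem appTop_injective_of_apply_eq_bot {R S : CommRingCat.{u}} [IsDomain R]
    (b : Spec S ⟶ Spec R)
    (p : Spec S) (hp : b p = (⊥ : PrimeSpectrum R)) :
    Function.Injective b.appTop.hom := by
  obtain ⟨φ, rfl⟩ : ∃ φ, b = Spec.map φ := ⟨Spec.preimage b, (Spec.map_preimage b).symm⟩
  have hinj : Function.Injective φ.hom := by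
    rw [RingHom.injective_iff_ker_eq_bot, eq_bot_iff]
    intro r hr
    have h1 : r ∈ (PrimeSpectrum.comap φ.hom p).asIdeal := by
      change φ.hom r ∈ p.asIdeal
      rw [RingHom.mem_ker.mp hr]
      exact zero_mem _
    have h2 : PrimeSpectrum.comap φ.hom p = (⊥ : PrimeSpectrum R) := hp
    rw [h2] at h1
    exact h1
  have h3 : (Spec.map φ).appTop = (Scheme.ΓSpecIso _).hom ≫ φ ≫ (Scheme.ΓSpecIso _).inv := by
    rw [← Category.assoc, ← Scheme.ΓSpecIso_naturality, Category.assoc, Iso.hom_inv_id,
      Category.comp_id]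
  rw [h3]
  simp only [CommRingCat.hom_comp, RingHom.coe_comp]
  exact ((ConcreteCategory.bijective_of_isIso (Scheme.ΓSpecIso _).inv).injective.comp hinj).comp
    (ConcreteCategory.bijective_of_isIso (Scheme.ΓSpecIso _).hom).injective

/-- The scheme-theoretic image of a quasi-compact morphism from an integral scheme is flat over
the spectrum of a valuation ring as soon as the composite is injective on global sections. -/
theorem flat_imageι_comp {V : Type u} [CommRing V] [IsDomain V] [ValuationRing V]
    {T X : Scheme.{u}} [IsIntegral T] (g : T ⟶ X) [QuasiCompact g]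
    (f : X ⟶ Spec (CommRingCat.of V)) (hinj : Function.Injective (g ≫ f).appTop.hom) :
    Flat (g.imageι ≫ f) := by
  refine HasRingHomProperty.of_iSup_eq_top (P := @Flat)
    (fun u : X.affineOpens => (⟨g.imageι ⁻¹ᵁ u.1, u.2.preimage g.imageι⟩ : g.image.affineOpens))
    ?_ ?_
  · change ⨆ u : X.affineOpens, g.imageι ⁻¹ᵁ u.1 = ⊤
    rw [← Scheme.Hom.preimage_iSup, iSup_affineOpens_eq_top]
    rfl
  · intro u
    change RingHom.Flat ((g.imageι ≫ f).appLE ⊤ (g.imageι ⁻¹ᵁ u.1) le_top).hom
    set O : T.Opens := g.toImage ⁻¹ᵁ (g.imageι ⁻¹ᵁ u.1) with hO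
    let e : V ≃+* Γ(Spec (CommRingCat.of V), ⊤) :=
      (Scheme.ΓSpecIso (CommRingCat.of V)).symm.commRingCatIsoToRingEquiv
    set ψ1 : Γ(Spec (CommRingCat.of V), ⊤) →+* Γ(g.image, g.imageι ⁻¹ᵁ u.1) :=
      ((g.imageι ≫ f).appLE ⊤ (g.imageι ⁻¹ᵁ u.1) le_top).hom with hψ1
    have hψ : (ψ1.comp e.toRingHom).Flat := by
      refine flat_of_injective_to_domain _ (g.toImage.app (g.imageι ⁻¹ᵁ u.1)).hom
        (g.toImage_app_injective u) ?_
      by_cases hne : Nonempty O
      · right
        refine ⟨inferInstance, ?_⟩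
        have hcomp : (g.imageι ≫ f).appLE ⊤ (g.imageι ⁻¹ᵁ u.1) le_top ≫
            g.toImage.app (g.imageι ⁻¹ᵁ u.1) =
            (g ≫ f).appTop ≫ T.presheaf.map (homOfLE (le_top : O ≤ ⊤)).op := by
          rw [Scheme.Hom.app_eq_appLE, Scheme.Hom.appLE_comp_appLE]
          have : g.toImage ≫ g.imageι ≫ f = g ≫ f := by
            rw [← Category.assoc, Scheme.Hom.toImage_imageι]
          simp only [this]
          rfl
        have : ((g.toImage.app (g.imageι ⁻¹ᵁ u.1)).hom.comp (ψ1.comp e.toRingHom)) =
            ((T.presheaf.map (homOfLE (le_top : O ≤ ⊤)).op).hom.comp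
              (g ≫ f).appTop.hom).comp e.toRingHom := by
          rw [← RingHom.comp_assoc]
          congr 1
          rw [hψ1, ← CommRingCat.hom_comp, hcomp, CommRingCat.hom_comp]
        rw [this]
        exact ((map_injective_of_isIntegral T (homOfLE (le_top : O ≤ ⊤))).comp hinj).comp
          e.injective
      · left
        have : O = ⊥ := by
          ext x
          simp only [TopologicalSpace.Opens.coe_bot, Set.mem_empty_iff_false, iff_false]
          intro hx
          exact hne ⟨⟨x, hx⟩⟩
        rw [← hO, this]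
        infer_instance
    have : ψ1 = (ψ1.comp e.toRingHom).comp e.symm.toRingHom := by
      ext x
      simp
    rw [this]
    exact RingHom.Flat.comp (RingHom.Flat.of_bijective e.symm.bijective) hψ


/-- Over a valuation ring, a specialization `x' ⤳ x` from the generic fibre to the closed fibre
gives a closed subscheme (the closure of `x'`) which is flat and surjective over the base. -/
theorem exists_flat_closed_of_specializes {V : Type u} [CommRing V] [IsDomain V] [ValuationRing V]
    {X : Scheme.{u}} (f : X ⟶ Spec (CommRingCat.of V)) (x x' : X) (hxx' : x' ⤳ x)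
    (hx : f x = closedPoint V) (hx' : f x' = (⊥ : PrimeSpectrum V)) :
    ∃ (Z : Scheme.{u}) (i : Z ⟶ X), IsClosedImmersion i ∧ Flat (i ≫ f) ∧ Surjective (i ≫ f) := by
  let g₀ : Spec (X.residueField x') ⟶ X := X.fromSpecResidueField x'
  have hinj : Function.Injective (g₀ ≫ f).appTop.hom := by
    refine appTop_injective_of_apply_eq_bot (R := CommRingCat.of V) (g₀ ≫ f)
      (closedPoint (X.residueField x')) ?_
    rw [Scheme.Hom.comp_apply]
    change f (X.fromSpecResidueField x' _) = _
    rw [Scheme.fromSpecResidueField_apply, hx']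
  have hflat : Flat (g₀.imageι ≫ f) := flat_imageι_comp g₀ f hinj
  refine ⟨g₀.image, g₀.imageι, inferInstance, hflat, ⟨?_⟩⟩
  have hxr : x ∈ Set.range g₀.imageι := by
    rw [Scheme.IdealSheafData.range_subschemeι, Scheme.Hom.support_ker]
    have h1 : x' ∈ Set.range g₀ := ⟨closedPoint (X.residueField x'),
      Scheme.fromSpecResidueField_apply _ _⟩
    exact hxx'.mem_closed isClosed_closure (subset_closure h1)
  obtain ⟨z, hz⟩ := hxr
  have hgen : GeneralizingMap (g₀.imageι ≫ f) := Flat.generalizingMap _
  intro y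
  have hy : y ⤳ (g₀.imageι ≫ f) z := by
    rw [Scheme.Hom.comp_apply, hz, hx]
    exact specializes_closedPoint y
  obtain ⟨z', -, hz'⟩ := hgen hy
  exact ⟨z', hz'⟩

end Groth.Agent.Lib.RefVal
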