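import Mathlib
import Groth.Agent.Lib.RefVal17_helper6
import Groth.Agent.Lib.RefVal4_helper6
import Groth.Agent.Lib.RefVal3_helper6
import Groth.Agent.Lib.RefVal2_helper6
set_option autoImplicit false
universe u
open CategoryTheory CategoryTheory.Limits AlgebraicGeometry IsLocalRing

namespace Groth.Agent.Lib.RefVal

/-- A field-valued point whose image specializes to `y` extends to a valuation ring of the field
whose closed point maps to `y`. -/
theorem exists_dominating_field {Y : Scheme.{u}} {k : Type u} [Field k]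
    (hk : Spec (CommRingCat.of k) ⟶ Y) (y : Y) (hy : hk (closedPoint k) ⤳ y) :
    ∃ (B : ValuationSubring k) (d : Spec (CommRingCat.of ↥B) ⟶ Y),
      Spec.map (CommRingCat.ofHom B.subtype) ≫ d = hk ∧ d (closedPoint ↥B) = y := by
  obtain ⟨⟨y'', φ⟩, hφ⟩ : ∃ p : Σ x, Y.residueField x ⟶ CommRingCat.of k,
      Spec.map p.2 ≫ Y.fromSpecResidueField p.1 = hk :=
    ⟨Scheme.SpecToEquivOfField k Y hk, (Scheme.SpecToEquivOfField k Y).left_inv hk⟩
  dsimp only at hφ
  have hy'' : hk (closedPoint k) = y'' := by
    rw [← hφ, Scheme.Hom.comp_apply, Scheme.fromSpecResidueField_apply]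
  rw [hy''] at hy
  obtain ⟨B₀, d₀, e, hd₁, hd₂⟩ := exists_dominating (𝟙 Y) y y'' hy
  obtain ⟨B, hB⟩ := exists_comap_eq B₀ φ.hom
  subst hB
  let ρ : ↥(B.comap φ.hom) →+* ↥B :=
    (φ.hom.comp (B.comap φ.hom).subtype).codRestrict B.toSubring (fun x => x.2)
  have hρloc : IsLocalHom (CommRingCat.ofHom ρ).hom := isLocalHom_comap B φ.hom ρ (fun x => rfl)
  refine ⟨B, Spec.map (CommRingCat.ofHom ρ) ≫ d₀, ?_, ?_⟩
  · have h1 : CommRingCat.ofHom ρ ≫ CommRingCat.ofHom B.subtype =
        CommRingCat.ofHom (B.comap φ.hom).subtype ≫ φ := by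
      ext x; rfl
    rw [← Category.assoc, ← Spec.map_comp, h1, Spec.map_comp, Category.assoc, hd₁,
      Category.comp_id, hφ]
  · have h2 := comp_closedPoint (CommRingCat.ofHom ρ) d₀
    rw [h2]
    have hloc : IsLocalHom (CommRingCat.ofHom (residue ↥(B.comap φ.hom))).hom :=
      IsLocalHom.of_surjective _ residue_surjective
    have h1 := comp_closedPoint (CommRingCat.ofHom (residue ↥(B.comap φ.hom))) d₀
    rw [← h1, hd₂, Scheme.Hom.comp_apply, Scheme.fromSpecResidueField_apply]

/-- Extend a valuation-ring point by one further specialization of its closed point, using a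
composite valuation ring. -/
theorem exists_extend_closedPoint {Y : Scheme.{u}} {L : Type u} [Field L] (V : ValuationSubring L)
    (h : Spec (CommRingCat.of ↥V) ⟶ Y) (y : Y) (hy : h (closedPoint ↥V) ⤳ y) :
    ∃ (V' : ValuationSubring L) (hle : V' ≤ V) (h' : Spec (CommRingCat.of ↥V') ⟶ Y),
      Spec.map (CommRingCat.ofHom (Subring.inclusion hle)) ≫ h' = h ∧
        h' (closedPoint ↥V') = y := by
  have hloc : IsLocalHom (CommRingCat.ofHom (residue ↥V)).hom :=
    IsLocalHom.of_surjective _ residue_surjective
  have h0 := comp_closedPoint (CommRingCat.ofHom (residue ↥V)) h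
  obtain ⟨B, d, hd₁, hd₂⟩ := exists_dominating_field
    (Spec.map (CommRingCat.ofHom (residue ↥V)) ≫ h) y (by rw [h0]; exact hy)
  obtain ⟨h', ⟨hh'₁, hh'₂⟩, -⟩ := glue L (composite V B) V (composite_le V B) (compositeι V B)
    (compositeι_coe V B) B (compositeσ V B) (compositeσ_surjective V B) (compositeσ_coe V B)
    h d hd₁
  refine ⟨composite V B, composite_le V B, h', hh'₁, ?_⟩
  have hσloc : IsLocalHom (CommRingCat.ofHom (compositeσ V B)).hom :=
    IsLocalHom.of_surjective _ (compositeσ_surjective V B)
  have h3 := comp_closedPoint (CommRingCat.ofHom (compositeσ V B)) h'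
  rw [← h3, hh'₂, hd₂]


/-- Every finite chain of specializations in a scheme is the image of a chain in the spectrum of a
valuation ring, ending at the closed point. -/
theorem exists_valuationRing_of_chain {Y : Scheme.{u}} (n : ℕ) (y : Fin (n + 1) → Y)
    (hy : ∀ i j : Fin (n + 1), i ≤ j → y i ⤳ y j) :
    ∃ (L : Type u) (_ : Field L) (V : ValuationSubring L) (h : Spec (CommRingCat.of ↥V) ⟶ Y)
      (v : Fin (n + 1) → Spec (CommRingCat.of ↥V)),
      (∀ i j : Fin (n + 1), i ≤ j → v i ⤳ v j) ∧ (∀ i, h (v i) = y i) ∧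
        v (Fin.last n) = closedPoint ↥V := by
  induction n with
  | zero =>
    obtain ⟨V, d, e, hd₁, hd₂⟩ := exists_dominating (𝟙 Y) (y 0) (y 0) specializes_rfl
    refine ⟨Y.residueField (y 0), inferInstance, V, d, fun _ => closedPoint ↥V,
      fun _ _ _ => specializes_rfl, ?_, rfl⟩
    intro i
    have hi : i = 0 := Fin.fin_one_eq_zero i
    subst hi
    have hloc : IsLocalHom (CommRingCat.ofHom (residue ↥V)).hom :=
      IsLocalHom.of_surjective _ residue_surjective
    have h1 := comp_closedPoint (CommRingCat.ofHom (residue ↥V)) d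
    rw [← h1, hd₂, Scheme.Hom.comp_apply, Scheme.fromSpecResidueField_apply]
  | succ n ih =>
    obtain ⟨L, _, V, h, v, hv, hhv, hlast⟩ := ih (fun i => y i.castSucc)
      (fun i j hij => hy _ _ (Fin.castSucc_le_castSucc_iff.mpr hij))
    have hsp : h (closedPoint ↥V) ⤳ y (Fin.last (n + 1)) := by
      rw [← hlast, hhv]
      exact hy _ _ (Fin.le_last _)
    obtain ⟨V', hle, h', hh', hcl⟩ := exists_extend_closedPoint V h _ hsp
    let v' : Fin (n + 1 + 1) → Spec (CommRingCat.of ↥V') :=
      Fin.lastCases (motive := fun _ => Spec (CommRingCat.of ↥V')) (closedPoint ↥V')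
        (fun i => Spec.map (CommRingCat.ofHom (Subring.inclusion hle)) (v i))
    have hv'last : v' (Fin.last (n + 1)) = closedPoint ↥V' := Fin.lastCases_last
    have hv'cast : ∀ i : Fin (n + 1), v' i.castSucc =
        Spec.map (CommRingCat.ofHom (Subring.inclusion hle)) (v i) :=
      fun i => Fin.lastCases_castSucc i
    refine ⟨L, inferInstance, V', h', v', ?_, ?_, hv'last⟩
    · intro i j hij
      induction j using Fin.lastCases with
      | last =>
        rw [hv'last]
        exact specializes_closedPoint _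
      | cast j =>
        induction i using Fin.lastCases with
        | last =>
          exfalso
          exact absurd (lt_of_lt_of_le (Fin.castSucc_lt_last j) hij) (lt_irrefl _)
        | cast i =>
          rw [hv'cast, hv'cast]
          exact (hv i j (Fin.castSucc_le_castSucc_iff.mp hij)).map (Scheme.Hom.continuous _)
    · intro i
      induction i using Fin.lastCases with
      | last => rw [hv'last, hcl]
      | cast i =>
        rw [hv'cast, ← Scheme.Hom.comp_apply, hh', hhv]

end Groth.Agent.Lib.RefVal
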