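import Mathlib
import Groth.Prelude.Def_Hyper
import Groth.Agent.Lib.Refine_helper7
import Groth.Agent.Lib.HyperSiteOver_lead

set_option autoImplicit false
set_option linter.style.haveILetI false
set_option linter.unusedSectionVars false
set_option linter.unusedVariables false
set_option backward.isDefEq.respectTransparency false
set_option backward.isDefEq.respectTransparency.types false
set_option maxHeartbeats 1600000

/-! # Refinement of a hypercovering along a locally surjective map of presheaves -/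

universe u

open CategoryTheory CategoryTheory.Limits Opposite Simplicial

namespace Groth.Agent.Lib.Refine2H7

open Groth.Agent.Lib.HyperSiteL

section gen

variable {D₀ : Type u} [SmallCategory D₀] (J' : GrothendieckTopology D₀)
  (A : FormalCoproduct.{u} D₀) (P : D₀ᵒᵖ ⥤ Type u) (v : P ⟶ FormalCoproduct.yoneda.obj A)

/-- the canonical section of `yo A` over `A.obj i`. -/
noncomputable def can (i : A.I) : (FormalCoproduct.yoneda.obj A).obj (op (A.obj i)) :=
  toY A (A.obj i) (FormalCoproduct.Hom.fromIncl i (𝟙 _))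

/-- the indexing type of the refinement. -/
abbrev ZI : Type u :=
  Σ (i : A.I), Σ (T' : D₀), {g : T' ⟶ A.obj i // (Presheaf.imageSieve v (can A i)).arrows g}

/-- the refinement. -/
abbrev ZZ : FormalCoproduct.{u} D₀ := ⟨ZI A P v, fun idx => idx.2.1⟩

/-- the map from the refinement. -/
abbrev uZ : ZZ A P v ⟶ A := ⟨fun idx => idx.1, fun idx => idx.2.2.1⟩

lemma srcov_uZ [Presheaf.IsLocallySurjective J' v] : Hyper.IsSRCovering J' (uZ A P v) := by
  intro j
  refine J'.superset_covering ?_ (Presheaf.imageSieve_mem J' v (U := op (A.obj j)) (can A j))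
  intro T' g hg
  refine (Sieve.mem_ofArrows_iff _ _ _).2 ⟨⟨⟨j, T', g, hg⟩, rfl⟩, 𝟙 _, ?_⟩
  show g = 𝟙 _ ≫ g ≫ 𝟙 _
  rw [Category.id_comp, Category.comp_id]

/-- the chosen section of `P`. -/
noncomputable def pp (idx : ZI A P v) : P.obj (op idx.2.1) := idx.2.2.2.choose

lemma pp_spec (idx : ZI A P v) :
    v.app (op idx.2.1) (pp A P v idx) =
      (FormalCoproduct.yoneda.obj A).map idx.2.2.1.op (can A idx.1) :=
  idx.2.2.2.choose_spec

/-- the map from `yo Z` to `P`. -/
noncomputable def gP : FormalCoproduct.yoneda.obj (ZZ A P v) ⟶ P :=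
  Sigma.desc (fun idx : ZI A P v => yonedaEquiv.symm (pp A P v idx))

lemma gP_comp : gP A P v ≫ v = FormalCoproduct.yoneda.map (uZ A P v) := by
  refine Sigma.hom_ext _ _ (fun (idx : ZI A P v) => ?_)
  have h1 : Sigma.ι (fun i : ZI A P v => yoneda.obj i.2.1) idx ≫
      FormalCoproduct.yoneda.map (uZ A P v) =
      yoneda.map (idx.2.2.1 : idx.2.1 ⟶ A.obj idx.1) ≫
        Sigma.ι (fun j : A.I => yoneda.obj (A.obj j)) idx.1 := by
    dsimp only [FormalCoproduct.yoneda]
    simp only [FormalCoproduct.eval_obj_map]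
    exact Sigma.ι_desc _ _
  have h2 : Sigma.ι (fun i : ZI A P v => yoneda.obj i.2.1) idx ≫ gP A P v =
      yonedaEquiv.symm (pp A P v idx) := Sigma.ι_desc _ _
  refine ((Category.assoc _ _ _).symm.trans ?_).trans h1.symm
  rw [h2]
  apply yonedaEquiv.injective
  have e1 : yonedaEquiv (yonedaEquiv.symm (pp A P v idx) ≫ v) = v.app _ (pp A P v idx) :=
    (yonedaEquiv_comp _ _).trans (congrArg (v.app (op idx.2.1)) (Equiv.apply_symm_apply _ _))
  have e2 : yonedaEquiv (yoneda.map (idx.2.2.1 : idx.2.1 ⟶ A.obj idx.1) ≫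
      Sigma.ι (fun j : A.I => yoneda.obj (A.obj j)) idx.1) =
      (Sigma.ι (fun j : A.I => yoneda.obj (A.obj j)) idx.1).app (op idx.2.1)
        (idx.2.2.1 : idx.2.1 ⟶ A.obj idx.1) :=
    (yonedaEquiv_comp _ _).trans (congrArg _ (yonedaEquiv_yoneda_map _))
  refine (e1.trans ?_).trans e2.symm
  refine (pp_spec A P v idx).trans ?_
  refine (toY_res A idx.2.2.1 (FormalCoproduct.Hom.fromIncl idx.1 (𝟙 _))).trans ?_
  unfold toY
  congr 1
  exact Category.comp_id _

end gen

variable {C : Type u} [SmallCategory C] [HasPullbacks C]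

theorem main6507 (J : GrothendieckTopology C) (X : C)
    [∀ (n : ℕ) (F : (SimplexCategory.Truncated n)ᵒᵖ ⥤ Limits.FormalCoproduct.{u} (Over X)),
      (SimplexCategory.Truncated.inclusion n).op.HasRightKanExtension F]
    (K : SimplicialObject (FormalCoproduct.{u} (Over X))) (hK : Hyper.IsHypercovering J X K) (n : ℕ)
    (P : (Over X)ᵒᵖ ⥤ Type u) (u : P ⟶ FormalCoproduct.yoneda.obj (K.obj (op (SimplexCategory.mk n))))
    (hu : Presheaf.IsLocallySurjective (J.over X) u) :
    ∃ (L : SimplicialObject (FormalCoproduct.{u} (Over X))) (f : L ⟶ K)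
      (g : FormalCoproduct.yoneda.obj (L.obj (op (SimplexCategory.mk n))) ⟶ P),
      Hyper.IsHypercovering J X L ∧ g ≫ u = FormalCoproduct.yoneda.map (f.app (op (SimplexCategory.mk n))) := by
  obtain ⟨L, f, g', hL, hg'⟩ := Groth.Agent.Lib.RefineH7.main3881 J X K hK n
    (ZZ (K.obj (op (SimplexCategory.mk n))) P u) (uZ _ P u) (srcov_uZ (J.over X) _ P u)
  refine ⟨L, f, FormalCoproduct.yoneda.map g' ≫ gP _ P u, hL, ?_⟩
  rw [Category.assoc, gP_comp, ← Functor.map_comp, hg']

end Groth.Agent.Lib.Refine2H7
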