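import Mathlib
import Groth.Prelude.Def_CAlg
import Groth.Agent.S6879
import Groth.Agent.S0601
import Groth.Agent.Lib.DepthRefl_helper5
import Groth.Agent.Lib.DimOne3_helper3

/-!
# Reflexive ⟺ torsion-free and `(S_2)` over a Noetherian normal domain (helper6)
-/

set_option autoImplicit false
universe u

namespace Groth.Agent.Lib.ReflS2_helper6

theorem isPrincipalIdealRing_of_normal_of_dim_le_one (S : Type u) [CommRing S]
    [IsNoetherianRing S] [IsLocalRing S] [IsDomain S] [IsIntegrallyClosed S]
    (h : ringKrullDim S ≤ 1) : IsPrincipalIdealRing S := by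
  by_cases h1 : ringKrullDim S = 1
  · have hsurj : ∀ x : FractionRing S, IsIntegral S x →
        ∃ a, algebraMap S (FractionRing S) a = x :=
      fun x hx => IsIntegrallyClosed.isIntegral_iff.1 hx
    haveI := Groth.Agent.Lib.DimOne3_helper3.isDVR_of_integral_surj h1 hsurj
    infer_instance
  · have h0 : ringKrullDim S ≤ 0 :=
      Groth.Agent.SerreLib.le_zero_of_lt_one (lt_of_le_of_ne h h1)
    haveI : Ring.KrullDimLE 0 S := Ring.krullDimLE_iff.2 (by exact_mod_cast h0)
    have hf : IsField S := Ring.KrullDimLE.isField_of_isDomain
    letI := hf.toField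
    infer_instance

variable {R : Type u} [CommRing R] [IsDomain R] [IsNoetherianRing R] [IsIntegrallyClosed R]
  (M : Type u) [AddCommGroup M] [Module R M] [Module.Finite R M]

theorem isReflexive_of_torsionFree_of_hasSk [Module.IsTorsionFree R M]
    (hS : LocCoh.HasSk 2 R M) : Module.IsReflexive R M := by
  rw [Groth.Agent.S6879.result R M]
  intro p hp
  haveI : IsIntegrallyClosed (Localization.AtPrime p) :=
    isIntegrallyClosed_of_isLocalization (Localization.AtPrime p) p.primeCompl
      p.primeCompl_le_nonZeroDivisors
  haveI : IsNoetherianRing (Localization.AtPrime p) :=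
    IsLocalization.isNoetherianRing p.primeCompl _ inferInstance
  by_cases hht : p.height ≤ 1
  · left
    have hdim : ringKrullDim (Localization.AtPrime p) ≤ 1 := by
      rw [IsLocalization.AtPrime.ringKrullDim_eq_height p (Localization.AtPrime p)]
      exact_mod_cast hht
    haveI := isPrincipalIdealRing_of_normal_of_dim_le_one (Localization.AtPrime p) hdim
    haveI : Module.Free (Localization.AtPrime p) (LocalizedModule p.primeCompl M) :=
      inferInstance
    infer_instance
  · right
    push_neg at hht
    rcases subsingleton_or_nontrivial (LocalizedModule p.primeCompl M) with hs | hnt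
    · unfold LocCoh.depth LocCoh.idealDepth
      rw [if_pos (Subsingleton.elim _ _)]
      exact le_top
    · have hsupp : Module.support (Localization.AtPrime p) (LocalizedModule p.primeCompl M) =
          Set.univ := Module.support_of_noZeroSMulDivisors
      have hsd : Module.supportDim (Localization.AtPrime p) (LocalizedModule p.primeCompl M) =
          (p.height : WithBot ℕ∞) := by
        unfold Module.supportDim
        rw [hsupp, ← IsLocalization.AtPrime.ringKrullDim_eq_height p (Localization.AtPrime p)]
        exact Order.krullDim_eq_of_orderIso OrderIso.Set.univ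
      have h1 := hS p
      rw [hsd] at h1
      have h2 : ((2 : ℕ) : WithBot ℕ∞) ≤ (p.height : WithBot ℕ∞) := by
        have h3 : (1 : ℕ∞) + 1 ≤ p.height := Order.add_one_le_of_lt hht
        rw [one_add_one_eq_two] at h3
        have h4 : (((2 : ℕ) : ℕ∞) : WithBot ℕ∞) ≤ ((p.height : ℕ∞) : WithBot ℕ∞) :=
          WithBot.coe_le_coe.2 (by simpa using h3)
        exact h4
      rw [min_eq_left h2] at h1
      have h5 : (((2 : ℕ) : ℕ∞) : WithBot ℕ∞) ≤
          ((LocCoh.depth (Localization.AtPrime p) (LocalizedModule p.primeCompl M) : ℕ∞) :
            WithBot ℕ∞) := h1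
      have h6 := WithBot.coe_le_coe.1 h5
      simpa using h6

theorem torsionFree_hasSk_of_isReflexive [Module.IsReflexive R M] :
    NoZeroSMulDivisors R M ∧ LocCoh.HasSk 2 R M := by
  constructor
  · refine ⟨fun {c x} hcx => ?_⟩
    by_cases hc : c = 0
    · exact Or.inl hc
    · right
      apply (Module.bijective_dual_eval R M).1
      rw [map_zero]
      ext f
      have h1 : f (c • x) = 0 := by rw [hcx, map_zero]
      rw [map_smul, smul_eq_mul] at h1
      simpa [Module.Dual.eval_apply] using (mul_eq_zero.1 h1).resolve_left hc
  · have hA : LocCoh.HasSk 2 R R :=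
      ((Groth.Agent.S0601.result R).1 (fun p hp => ⟨inferInstance,
        isIntegrallyClosed_of_isLocalization _ p.primeCompl
          p.primeCompl_le_nonZeroDivisors⟩)).2
    exact Groth.Agent.DepthLib.hasSk_of_reflexive M 2 le_rfl hA

end Groth.Agent.Lib.ReflS2_helper6
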