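import Mathlib
import Groth.Prelude
import Groth.Agent.Lib.Tens3_helper8
import Groth.Agent.Lib.SDivGen_helper8
import Groth.Agent.Lib.QCohFT_helper9
import Groth.Agent.Lib.Desc1_helper8

/-!
# Regular linear combinations of generating sections (helper6)

`exists_notMem_of_ne_top`: over a local ring with infinite residue field, a finite module is not a
finite union of proper submodules.
`eq_zero_of_smul_eq_zero_of_regular`: a function regular on the sections of a quasi-coherent module
over an affine open stays regular on all smaller opens.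
`tensorBi_obj_map_tmul`: `F ⊗ τ` on pure tensors.
`mono_tensor_of_regular`: `F ⊗ τ` is a monomorphism when `τ` is locally a regular multiple of a
generator.
`main`: S15976.
APPEND-ONLY once landed.
-/

set_option autoImplicit false
set_option linter.all false
set_option maxHeartbeats 1600000
set_option backward.isDefEq.respectTransparency false
set_option backward.isDefEq.respectTransparency.types false
set_option backward.defeqAttrib.useBackward true

universe u
open CategoryTheory CategoryTheory.Limits AlgebraicGeometry TopologicalSpace Opposite TensorProduct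
open QcqsLoc MonoidalCategory GenLocH8 FLFH8 QCohExtn TensH8

namespace Groth.Agent.Lib.RegComb

section Algebra

/-- Over a local ring with infinite residue field, a finite module is not a finite union of proper
submodules. -/
theorem exists_notMem_of_ne_top {A M : Type*} [CommRing A] [IsLocalRing A]
    (hA : Infinite (IsLocalRing.ResidueField A)) [AddCommGroup M] [Module A M] [Module.Finite A M]
    (s : Set (Submodule A M)) (hs : s.Finite) (hS : ∀ S ∈ s, S ≠ ⊤) :
    ∃ a : M, ∀ S ∈ s, a ∉ S := by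
  classical
  by_contra hcon
  push Not at hcon
  have hcov : ⋃ S ∈ hs.toFinset, ((id S : Submodule A M) : Set M) = Set.univ := by
    ext a
    simp only [Set.mem_iUnion, Set.mem_univ, iff_true]
    obtain ⟨S, hS1, hS2⟩ := hcon a
    exact ⟨S, hs.mem_toFinset.2 hS1, hS2⟩
  obtain ⟨S, hk, hfi⟩ := Submodule.exists_finiteIndex_of_cover (p := id) hcov
  have hSs : S ∈ s := hs.mem_toFinset.1 hk
  haveI hfi' : S.toAddSubgroup.FiniteIndex := hfi
  haveI : Finite (M ⧸ S) := AddSubgroup.finite_quotient_of_finiteIndex (H := S.toAddSubgroup)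
  let m := IsLocalRing.maximalIdeal A
  let N : Submodule A (M ⧸ S) := m • ⊤
  have hN : N ≠ ⊤ := by
    intro h
    have h1 := Submodule.eq_bot_of_le_smul_of_le_jacobson_bot m (⊤ : Submodule A (M ⧸ S))
      Module.Finite.fg_top h.ge (IsLocalRing.maximalIdeal_le_jacobson ⊥)
    haveI : Nontrivial (M ⧸ S) := Submodule.Quotient.nontrivial_iff.mpr (hS S hSs)
    exact top_ne_bot h1
  haveI : Nontrivial ((M ⧸ S) ⧸ N) := Submodule.Quotient.nontrivial_iff.mpr hN
  letI : Field (A ⧸ m) := Ideal.Quotient.field m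
  haveI : Infinite (A ⧸ m) := hA
  haveI : Infinite ((M ⧸ S) ⧸ N) := Module.Free.infinite (A ⧸ m) ((M ⧸ S) ⧸ N)
  haveI : Finite ((M ⧸ S) ⧸ N) := Quotient.finite _
  exact not_finite ((M ⧸ S) ⧸ N)

variable {A R : Type*} [CommRing A] [CommRing R] {n : ℕ}

/-- The coefficient vectors `a` with `∑ ρ(aᵢ) cᵢ ∈ P`. -/
def sub (ρ : A →+* R) (c : Fin n → R) (P : Ideal R) : Submodule A (Fin n → A) where
  carrier := {a | ∑ i, ρ (a i) * c i ∈ P}
  add_mem' := by
    intro a b ha hb
    simp only [Set.mem_setOf_eq, Pi.add_apply, map_add, add_mul, Finset.sum_add_distrib] at ha hb ⊢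
    exact P.add_mem ha hb
  zero_mem' := by simp
  smul_mem' := by
    intro r a ha
    simp only [Set.mem_setOf_eq, Pi.smul_apply, smul_eq_mul, map_mul, mul_assoc,
      ← Finset.mul_sum] at ha ⊢
    exact P.mul_mem_left _ ha

theorem mem_sub (ρ : A →+* R) (c : Fin n → R) (P : Ideal R) (a : Fin n → A) :
    a ∈ sub ρ c P ↔ ∑ i, ρ (a i) * c i ∈ P := Iff.rfl

theorem sub_ne_top (ρ : A →+* R) (c : Fin n → R) (P : Ideal R) (i : Fin n) (hi : c i ∉ P) :
    sub ρ c P ≠ ⊤ := by
  classical
  intro h
  have h1 : (Pi.single i (1 : A) : Fin n → A) ∈ sub ρ c P := h ▸ Submodule.mem_top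
  rw [mem_sub] at h1
  apply hi
  have h2 : ∑ j, ρ ((Pi.single i (1 : A) : Fin n → A) j) * c j = c i := by
    rw [Finset.sum_eq_single i]
    · simp
    · intro j _ hj
      rw [Pi.single_eq_of_ne hj, map_zero, zero_mul]
    · intro h; exact absurd (Finset.mem_univ i) h
  rwa [h2] at h1

end Algebra

variable {X : Scheme.{u}}

/-- A function which is regular on the sections of a quasi-coherent module over an affine open is
regular on the sections over all smaller opens. -/
theorem eq_zero_of_smul_eq_zero_of_regular (G : X.Modules) [G.IsQuasicoherent] {W : X.Opens}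
    (hW : IsAffineOpen W) (t : Γ(X, W)) (ht : ∀ g : Γ(G, W), t • g = 0 → g = 0) {O : X.Opens}
    (hO : O ≤ W) (g : Γ(G, O)) (hg : rX hO t • g = 0) : g = 0 := by
  apply eq_zero_of_cover G g
  intro z hz
  obtain ⟨h, hle, hzh⟩ := hW.exists_basicOpen_le (V := O) ⟨z, hz⟩ (hO hz)
  refine ⟨X.basicOpen h, hle, hzh, ?_⟩
  have hD : X.basicOpen h ≤ W := X.basicOpen_le h
  obtain ⟨n, m, hm⟩ := Groth.Agent.Lib.QCohLoc_helper4.exists_res_eq_pow_smul G hW h (rF G hle g)
  have hm' : rF G hD m = rX hD h ^ n • rF G hle g := hm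
  have h0 : rX hD t • rF G hle g = 0 := by
    have h1 := congrArg (rF G hle) hg
    rw [rF_smul, rX_rX, map_zero] at h1
    exact h1
  have h1 : rF G hD (t • m) = 0 := by
    rw [rF_smul, hm', smul_comm, h0, smul_zero]
  obtain ⟨k, hk⟩ := Groth.Agent.Lib.QCohLoc_helper4.exists_pow_smul_eq_zero G hW h (t • m) h1
  have h2 : h ^ k • m = 0 := ht _ (by rw [smul_comm, hk])
  have h3 : rX hD h ^ (k + n) • rF G hle g = 0 := by
    have h4 := congrArg (rF G hD) h2
    rw [rF_pow_smul, hm', map_zero, ← mul_smul, ← pow_add] at h4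
    exact h4
  have hu : IsUnit (rX hD h ^ (k + n)) := (X.toRingedSpace.isUnit_res_basicOpen h).pow _
  obtain ⟨v, hv⟩ := hu.exists_left_inv
  have h5 := congrArg (fun y => v • y) h3
  simp only [smul_zero, ← mul_smul, hv, one_smul] at h5
  exact h5

/-- sheafification of a map of presheaf tensor products, on sections coming from the presheaf
(copy of helper3's `StalkTensH3.shP_map_eta`). -/
lemma shP_map_eta {M N M' N' : X.Modules}
    (φ : (CohB1.tensorPre M N : X.PresheafOfModules) ⟶ (CohB1.tensorPre M' N' : X.PresheafOfModules))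
    (U : X.Opens) (p : ↥((CohB1.tensorPre M N).obj (op U))) :
    (((CohB1.sheafifyMod X).map φ).val.app (op U)).hom (TensH8.eta M N U p) =
      TensH8.eta M' N' U ((φ.app (op U)).hom p) := by
  have h := (PresheafOfModules.sheafificationAdjunction (𝟙 X.ringCatSheaf.obj)).unit.naturality φ
  have h2 := congrArg (fun ψ => (PresheafOfModules.Hom.app ψ (op U)).hom p) h
  exact h2.symm

/-- `F ⊗ g` on pure tensors. -/
lemma tensorBi_obj_map_tmul (M : X.Modules) {N N' : X.Modules} (g : N ⟶ N') (U : X.Opens)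
    (m : Γ(M, U)) (n : Γ(N, U)) :
    ((DCoh.tensorBi.obj M).map g).app U (SecTwist.tmul M N U m n) =
      SecTwist.tmul M N' U m (g.app U n) := by
  have h := shP_map_eta (M := M) (N := N) (M' := M) (N' := N')
    (DCoh.toP.obj M ◁ DCoh.toP.map g) U (m ⊗ₜ n)
  exact h

/-- `F ⊗ τ` is a monomorphism when `τ` is locally a multiple `t • e` of a generator `e` of `L`
by a function `t` regular on `F`. -/
theorem mono_tensor_of_regular (L : X.Modules) (τ : Coh.structureModule X ⟶ L) (F : X.Modules)
    [F.IsQuasicoherent]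
    (h : ∀ x : X, ∃ W : X.Opens, IsAffineOpen W ∧ x ∈ W ∧ ∃ (e : Γ(L, W)) (t : Γ(X, W)),
      IsGen L W e ∧ SecTwist.val τ W = t • e ∧ ∀ g : Γ(F, W), t • g = 0 → g = 0) :
    Mono ((DCoh.tensorBi.obj F).map τ) := by
  apply DescH8.mono_of_app_injective
  intro U
  rw [injective_iff_map_eq_zero ((((DCoh.tensorBi.obj F).map τ).app U).hom)]
  intro κ hκ
  apply eq_zero_of_cover (CohB1.tensorMod F (Coh.structureModule X)) κ
  intro z hz
  obtain ⟨W, hW, hzW, e, t, he, hτ, hreg⟩ := h z
  have hOW : W ⊓ U ≤ W := inf_le_left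
  have hOU : W ⊓ U ≤ U := inf_le_right
  refine ⟨W ⊓ U, hOU, ⟨hzW, hz⟩, ?_⟩
  obtain ⟨g, hg⟩ := tmulGen_surjective F (Coh.structureModule X) (isGen_one (W ⊓ U)) le_rfl
    (rF (CohB1.tensorMod F (Coh.structureModule X)) hOU κ)
  rw [SubExt.rF_self] at hg
  have h1 : ap ((DCoh.tensorBi.obj F).map τ) (W ⊓ U)
      (rF (CohB1.tensorMod F (Coh.structureModule X)) hOU κ) = 0 := by
    have h1' := ap_rF ((DCoh.tensorBi.obj F).map τ) hOU κ
    refine h1'.trans ?_
    have : ap ((DCoh.tensorBi.obj F).map τ) U κ = 0 := hκ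
    rw [this, map_zero]
  rw [← hg] at h1
  have h1b : SecTwist.tmul F L (W ⊓ U) g (τ.app (W ⊓ U) (toM (1 : Γ(X, W ⊓ U)))) = 0 :=
    (tensorBi_obj_map_tmul F τ (W ⊓ U) g (toM 1)).symm.trans h1
  have h2 : τ.app (W ⊓ U) (toM (1 : Γ(X, W ⊓ U))) = rX hOW t • rF L hOW e := by
    have h2a : ap τ (W ⊓ U) (rF (Coh.structureModule X) hOW (toM (1 : Γ(X, W)))) =
        rF L hOW (ap τ W (toM 1)) := ap_rF τ hOW _
    have h2b : rF (Coh.structureModule X) hOW (toM (1 : Γ(X, W))) = toM (1 : Γ(X, W ⊓ U)) :=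
      map_one (rX hOW)
    rw [h2b] at h2a
    refine h2a.trans ?_
    have h2c : ap τ W (toM 1) = t • e := hτ
    rw [h2c, rF_smul]
  rw [h2, tmul_smul_right, ← tmul_smul_left] at h1b
  have h3 : rX hOW t • g = 0 :=
    tmulGen_injective F L he hOW (rX hOW t • g) 0 (h1b.trans (tmul_zero_left F L _ _).symm)
  have h4 : g = 0 := eq_zero_of_smul_eq_zero_of_regular F hW t hreg hOW g h3
  rw [← hg, h4]
  exact tmul_zero_left F _ _ _

end Groth.Agent.Lib.RegComb
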