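import Mathlib
import Groth.Prelude
import Groth.Agent.Lib.RegComb1_helper6

/-!
# Regular linear combinations of generating sections, II: the main theorem S15976 (helper6)

`main`: over a Noetherian local ring with infinite residue field, some `A`-linear combination of
finitely many generating sections of an invertible module is regular on finitely many coherent
modules.
APPEND-ONLY once landed.
-/

set_option autoImplicit false
set_option linter.all false
set_option maxHeartbeats 1600000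

universe u
open CategoryTheory CategoryTheory.Limits AlgebraicGeometry TopologicalSpace Opposite TensorProduct
open QcqsLoc MonoidalCategory GenLocH8 FLFH8 QCohExtn TensH8

namespace Groth.Agent.Lib.RegComb

variable {X : Scheme.{u}}

/-- a coefficient of `s` relative to a generator not in a prime `P` of the affine `W`, at whose
point `s` generates. -/
theorem coef_notMem {L : X.Modules} (s : Coh.structureModule X ⟶ L) {W : X.Opens}
    (hW : IsAffineOpen W) {e : Γ(L, W)} (he : IsGen L W e) (c : Γ(X, W))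
    (hc : SecTwist.val s W = c • e) (y : Spec Γ(X, W))
    (h : hW.fromSpec y ∈ CohB1.genLocus L s) : c ∉ y.asIdeal := by
  have h1 := genLocus_inf_eq s he c hc
  have hyW : hW.fromSpec y ∈ W := by
    have h0 : hW.fromSpec y ∈ hW.fromSpec.opensRange := ⟨y, rfl⟩
    rwa [hW.opensRange_fromSpec] at h0
  have h2 : hW.fromSpec y ∈ X.basicOpen c := by
    rw [← h1]; exact ⟨h, hyW⟩
  have h3 : y ∈ hW.fromSpec ⁻¹ᵁ X.basicOpen c := h2
  rw [hW.fromSpec_preimage_basicOpen] at h3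
  exact h3

/-- the value over `W` of the morphism given by a linear combination of global sections. -/
theorem val_unitHom_sum {L : X.Modules} {n : ℕ} (σ : Fin n → (Coh.structureModule X ⟶ L))
    (r : Fin n → Γ(X, ⊤)) (W : X.Opens) (e : Γ(L, W)) (c : Fin n → Γ(X, W))
    (hc : ∀ i, SecTwist.val (σ i) W = c i • e) :
    SecTwist.val (SDivGenH8.unitHom L
      (∑ i, r i • (σ i).val.app (op ⊤) (1 : X.ringCatSheaf.obj.obj (op ⊤)))) W =
      (∑ i, rX (le_top : W ≤ ⊤) (r i) * c i) • e := by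
  have h1 : SecTwist.val (SDivGenH8.unitHom L
      (∑ i, r i • (σ i).val.app (op ⊤) (1 : X.ringCatSheaf.obj.obj (op ⊤)))) W =
      rF L (le_top : W ≤ ⊤)
        (∑ i, r i • (σ i).val.app (op ⊤) (1 : X.ringCatSheaf.obj.obj (op ⊤))) :=
    SDivGenH8.unitHom_app_one L _ W
  rw [h1, map_sum, Finset.sum_smul]
  apply Finset.sum_congr rfl
  intro i _
  have h2 : rF L (le_top : W ≤ ⊤) (r i • (σ i).val.app (op ⊤) (1 : X.ringCatSheaf.obj.obj (op ⊤))) =
      rX (le_top : W ≤ ⊤) (r i) • rF L (le_top : W ≤ ⊤) (ap (σ i) ⊤ (toM 1)) :=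
    rF_smul L _ (r i) _
  rw [h2, ← ap_rF]
  have h3 : rF (Coh.structureModule X) (le_top : W ≤ ⊤) (toM (1 : Γ(X, ⊤))) = toM (1 : Γ(X, W)) :=
    map_one (rX (le_top : W ≤ ⊤))
  rw [h3]
  have h4 : ap (σ i) W (toM 1) = c i • e := hc i
  rw [h4, mul_smul]

/-- **S15976**. -/
theorem main {A : Type u} [CommRing A] [IsNoetherianRing A] [IsLocalRing A]
    (hA : Infinite (IsLocalRing.ResidueField A))
    {V : Scheme.{u}} [IsNoetherian V] (f : V ⟶ Spec (CommRingCat.of A))
    (L : V.Modules) (hL : PicF.IsInvertible L)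
    {N : ℕ} (σ : Fin (N + 1) → (Coh.structureModule V ⟶ L))
    (hgen : ∀ x : V, ∃ i, x ∈ CohB1.genLocus L (σ i))
    {m : ℕ} (F : Fin m → V.Modules) (hF : ∀ j, Coh.IsCoh (F j)) :
    ∃ (τ : Coh.structureModule V ⟶ L) (a : Fin (N + 1) → A),
      τ.val.app (op ⊤) (1 : V.ringCatSheaf.obj.obj (op ⊤)) =
        ∑ i, f.appTop ((Scheme.ΓSpecIso (CommRingCat.of A)).inv (a i)) •
          (σ i).val.app (op ⊤) (1 : V.ringCatSheaf.obj.obj (op ⊤)) ∧
      ∀ j, Mono (((DCoh.tensorBi (X := V)).obj (F j)).map τ) := by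
  classical
  let ρ : A →+* Γ(V, ⊤) := (f.appTop).hom.comp (Scheme.ΓSpecIso (CommRingCat.of A)).inv.hom
  choose W hW hxW _ e he using fun x : V => exists_isGen_le hL x ⊤ trivial
  have hc : ∀ x i, ∃ c : Γ(V, W x), SecTwist.val (σ i) (W x) = c • e x :=
    fun x i => (he x).exists_coef _
  choose c hc using hc
  obtain ⟨t, ht⟩ := isCompact_univ.elim_finite_subcover (fun x : V => ((W x : V.Opens) : Set V))
    (fun x => (W x).isOpen) (fun x _ => Set.mem_iUnion.2 ⟨x, hxW x⟩)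
  let ρW : ∀ x, A →+* Γ(V, W x) := fun x => (rX (le_top : W x ≤ ⊤)).comp ρ
  let 𝒮 : Set (Submodule A (Fin (N + 1) → A)) :=
    ⋃ x ∈ t, ⋃ j : Fin m, (fun P => sub (ρW x) (c x) P) ''
      (associatedPrimes Γ(V, W x) Γ(F j, W x))
  have h𝒮fin : 𝒮.Finite := by
    refine t.finite_toSet.biUnion (fun x _ => Set.finite_iUnion (fun j => Set.Finite.image _ ?_))
    haveI : IsNoetherianRing Γ(V, W x) := IsLocallyNoetherian.component_noetherian ⟨W x, hW x⟩
    haveI : (F j).IsQuasicoherent := (hF j).1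
    haveI : SheafOfModules.IsFiniteType (R := V.ringCatSheaf) (F j) := (hF j).2
    haveI : Module.Finite Γ(V, W x) Γ(F j, W x) := QCohFT.finite_of_isFiniteType (F j) (hW x)
    exact associatedPrimes.finite _ _
  have h𝒮top : ∀ S ∈ 𝒮, S ≠ ⊤ := by
    intro S hS
    obtain ⟨x, hx, hS⟩ := Set.mem_iUnion₂.1 hS
    obtain ⟨j, hS⟩ := Set.mem_iUnion.1 hS
    obtain ⟨P, hP, rfl⟩ := hS
    haveI : P.IsPrime := hP.isPrime
    obtain ⟨i, hi⟩ := hgen ((hW x).fromSpec ⟨P, inferInstance⟩)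
    exact sub_ne_top _ _ _ i
      (coef_notMem (σ i) (hW x) (he x) (c x i) (hc x i) ⟨P, inferInstance⟩ hi)
  obtain ⟨a, ha⟩ := exists_notMem_of_ne_top hA 𝒮 h𝒮fin h𝒮top
  let s0 : Γ(L, ⊤) := ∑ i, ρ (a i) • (σ i).val.app (op ⊤) (1 : V.ringCatSheaf.obj.obj (op ⊤))
  refine ⟨SDivGenH8.unitHom L s0, a, ?_, fun j => ?_⟩
  · rw [SDivGenH8.unitHom_app_one]
    exact SubExt.rF_self L le_rfl s0
  · haveI : (F j).IsQuasicoherent := (hF j).1
    apply mono_tensor_of_regular L _ (F j)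
    intro z
    obtain ⟨x, hxt, hzx⟩ : ∃ x ∈ t, z ∈ W x := by
      have := ht (Set.mem_univ z)
      obtain ⟨x, hx1, hx2⟩ := Set.mem_iUnion₂.1 this
      exact ⟨x, hx1, hx2⟩
    refine ⟨W x, hW x, hzx, e x, ∑ i, ρW x (a i) * c x i, he x, ?_, ?_⟩
    · exact val_unitHom_sum σ (fun i => ρ (a i)) (W x) (e x) (c x) (hc x)
    · intro g hg
      by_contra hne
      haveI : IsNoetherianRing Γ(V, W x) := IsLocallyNoetherian.component_noetherian ⟨W x, hW x⟩
      have hmem : (∑ i, ρW x (a i) * c x i) ∈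
          {r : Γ(V, W x) | ∃ y : Γ(F j, W x), y ≠ 0 ∧ r • y = 0} := ⟨g, hne, hg⟩
      rw [← biUnion_associatedPrimes_eq_zero_divisors] at hmem
      obtain ⟨P, hP, hmemP⟩ := Set.mem_iUnion₂.1 hmem
      refine ha (sub (ρW x) (c x) P) ?_ ((mem_sub _ _ _ _).2 hmemP)
      exact Set.mem_iUnion₂.2 ⟨x, hxt, Set.mem_iUnion.2 ⟨j, P, hP, rfl⟩⟩

end Groth.Agent.Lib.RegComb
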