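import Mathlib
import Groth.Agent.Lib.QuasiReg_helper5
import Groth.Agent.Lib.Regular_helper5
import Groth.Agent.Lib.Regular2_helper5
import Groth.Agent.Lib.Regular3_helper5

/-!
# A discrete valuation ring dominating a regular local ring (order valuation)
-/

set_option autoImplicit false

namespace Groth.Agent.Lib.RegDVRH4

open MvPolynomial IsLocalRing
open Groth.Agent.QuasiReg

universe u

/-! ### Part A: polynomial lemmas -/
section Poly
variable {A : Type u} [CommRing A]

theorem aeval_mul_of_isHomogeneous {S : Type*} [CommRing S] [Algebra A S] {σ : Type*} {n : ℕ}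
    (P : MvPolynomial σ A) (hP : P.IsHomogeneous n) (c : S) (g : σ → S) :
    aeval (fun i => c * g i) P = c ^ n * aeval g P := by
  rw [aeval_def, aeval_def, eval₂_eq, eval₂_eq, Finset.mul_sum]
  refine Finset.sum_congr rfl fun μ hμ => ?_
  have hdeg : ∑ i ∈ μ.support, μ i = n := (hP.degree_eq_sum_deg_support hμ).symm
  have h1 : ∏ i ∈ μ.support, (c * g i) ^ μ i = c ^ n * ∏ i ∈ μ.support, g i ^ μ i := by
    simp only [mul_pow]
    rw [Finset.prod_mul_distrib, Finset.prod_pow_eq_pow_sum, hdeg]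
  rw [h1]; ring

/-- homogenization with respect to the new variable `0`. -/
noncomputable def hom {d' : ℕ} (Q : MvPolynomial (Fin d') A) : MvPolynomial (Fin (d' + 1)) A :=
  ∑ j ∈ Finset.range (Q.totalDegree + 1),
    X 0 ^ (Q.totalDegree - j) * rename Fin.succ (homogeneousComponent j Q)

theorem hom_isHomogeneous {d' : ℕ} (Q : MvPolynomial (Fin d') A) :
    (hom Q).IsHomogeneous Q.totalDegree := by
  unfold hom
  refine IsHomogeneous.sum _ _ _ fun j hj => ?_
  have hj' : j ≤ Q.totalDegree := Nat.lt_succ_iff.mp (Finset.mem_range.mp hj)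
  have h1 := (isHomogeneous_X_pow (R := A) (0 : Fin (d' + 1)) (Q.totalDegree - j)).mul
    ((homogeneousComponent_isHomogeneous j Q).rename_isHomogeneous (f := Fin.succ))
  rwa [Nat.sub_add_cancel hj'] at h1

theorem aeval_hom {S : Type*} [CommRing S] [Algebra A S] {d' : ℕ}
    (Q : MvPolynomial (Fin d') A) (c : S) (g : Fin d' → S) :
    aeval (Fin.cons c (fun i => c * g i) : Fin (d' + 1) → S) (hom Q)
      = c ^ Q.totalDegree * aeval g Q := by
  have hsum : aeval g Q
      = ∑ j ∈ Finset.range (Q.totalDegree + 1), aeval g (homogeneousComponent j Q) := by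
    rw [← map_sum, sum_homogeneousComponent]
  rw [hsum, Finset.mul_sum]
  unfold hom
  rw [map_sum]
  refine Finset.sum_congr rfl fun j hj => ?_
  have hj' : j ≤ Q.totalDegree := Nat.lt_succ_iff.mp (Finset.mem_range.mp hj)
  rw [map_mul, map_pow, aeval_X, Fin.cons_zero, aeval_rename]
  have hcomp : (Fin.cons c (fun i => c * g i) : Fin (d' + 1) → S) ∘ Fin.succ
      = fun i => c * g i := by
    funext i; simp [Fin.cons_succ]
  rw [hcomp, aeval_mul_of_isHomogeneous _ (homogeneousComponent_isHomogeneous j Q), ← mul_assoc,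
    ← pow_add, Nat.sub_add_cancel hj']

theorem dehom_hom {d' : ℕ} (Q : MvPolynomial (Fin d') A) :
    aeval (Fin.cons 1 X : Fin (d' + 1) → MvPolynomial (Fin d') A) (hom Q) = Q := by
  have h := aeval_hom (S := MvPolynomial (Fin d') A) Q 1 X
  simp only [one_mul, one_pow] at h
  rw [aeval_X_left_apply] at h
  exact h

theorem coeff_mem_of_hom {d' : ℕ} (I : Ideal A) (Q : MvPolynomial (Fin d') A)
    (h : ∀ μ, (hom Q).coeff μ ∈ I) : ∀ μ, Q.coeff μ ∈ I := by
  have h1 : hom Q ∈ Ideal.map (C : A →+* MvPolynomial (Fin (d' + 1)) A) I := mem_map_C_iff.mpr h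
  let ψ : MvPolynomial (Fin (d' + 1)) A →ₐ[A] MvPolynomial (Fin d') A := aeval (Fin.cons 1 X)
  have h2 : (ψ : MvPolynomial (Fin (d' + 1)) A →+* MvPolynomial (Fin d') A) (hom Q) ∈
      Ideal.map (ψ : MvPolynomial (Fin (d' + 1)) A →+* MvPolynomial (Fin d') A)
        (Ideal.map C I) := Ideal.mem_map_of_mem _ h1
  rw [Ideal.map_map] at h2
  have h3 : ((ψ : MvPolynomial (Fin (d' + 1)) A →+* MvPolynomial (Fin d') A).comp C) = C := by
    refine RingHom.ext fun a => ?_
    simp [ψ]
  rw [h3] at h2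
  have h4 : (ψ : MvPolynomial (Fin (d' + 1)) A →+* MvPolynomial (Fin d') A) (hom Q) = Q :=
    dehom_hom Q
  rw [h4] at h2
  exact mem_map_C_iff.mp h2

theorem iota_eval {B : Type*} [CommRing B] [Algebra A B] {σ : Type*} (g : σ → A)
    (Q : MvPolynomial σ A) :
    algebraMap A B (eval g Q) = aeval (fun i => algebraMap A B (g i)) Q := by
  induction Q using MvPolynomial.induction_on with
  | C a => simp
  | add p q hp hq => simp only [map_add, hp, hq]
  | mul_X p i hp => simp only [map_mul, eval_X, aeval_X, hp]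

end Poly

/-! ### ENat arithmetic -/
section ENatLemmas

theorem enat_cancel {x y z w : ℕ∞} (hz : z ≠ ⊤) (hw : w ≠ ⊤) (h : x + w = y + z)
    (hwy : w ≤ y) : z ≤ x := by
  lift z to ℕ using hz
  lift w to ℕ using hw
  induction x using ENat.recTopCoe with
  | top => exact le_top
  | coe x =>
    induction y using ENat.recTopCoe with
    | top => simp at h
    | coe y => norm_cast at *; omega

theorem enat_aux {x y z w : ℕ∞} (hz : z ≠ ⊤) (hw : w ≠ ⊤) (hlt : z < x) (hle : w ≤ y)
    (e : 1 + (z + w) = x + y) : y = w := by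
  lift z to ℕ using hz
  lift w to ℕ using hw
  induction x using ENat.recTopCoe with
  | top => simp at e
  | coe x =>
    induction y using ENat.recTopCoe with
    | top => simp at e
    | coe y => norm_cast at *; omega

end ENatLemmas

/-! ### Part B: the order function -/
section Ord
variable {A : Type u} [CommRing A] [IsLocalRing A] [IsNoetherianRing A]

theorem exists_not_mem_pow (a : A) (ha : a ≠ 0) : ∃ n : ℕ, a ∉ maximalIdeal A ^ (n + 1) := by
  by_contra hcon
  push_neg at hcon
  apply ha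
  have h1 : a ∈ ⨅ i : ℕ, maximalIdeal A ^ i := by
    rw [Ideal.mem_iInf]
    intro i
    cases i with
    | zero => simp
    | succ n => exact hcon n
  rw [Ideal.iInf_pow_eq_bot_of_isLocalRing _ (IsLocalRing.maximalIdeal.isMaximal A).ne_top] at h1
  exact h1

open Classical in
/-- the `𝔪`-adic order, with values in `ℕ∞`. -/
noncomputable def ord (a : A) : ℕ∞ :=
  if h : a = 0 then ⊤ else ((Nat.find (exists_not_mem_pow a h) : ℕ) : ℕ∞)

theorem ord_zero : ord (0 : A) = ⊤ := by simp [ord]

theorem ord_of_ne {a : A} (h : a ≠ 0) :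
    ∃ k : ℕ, ord a = k ∧ a ∈ maximalIdeal A ^ k ∧ a ∉ maximalIdeal A ^ (k + 1) := by
  classical
  refine ⟨Nat.find (exists_not_mem_pow a h), by simp [ord, h], ?_,
    Nat.find_spec (exists_not_mem_pow a h)⟩
  by_cases h0 : Nat.find (exists_not_mem_pow a h) = 0
  · rw [h0]; simp
  · obtain ⟨k, hk⟩ := Nat.exists_eq_succ_of_ne_zero h0
    have := Nat.find_min (exists_not_mem_pow a h) (m := k) (by omega)
    rw [hk]; exact not_not.mp this

theorem ord_eq_top_iff {a : A} : ord a = ⊤ ↔ a = 0 := by
  constructor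
  · intro h
    by_contra ha
    obtain ⟨k, hk, _⟩ := ord_of_ne ha
    rw [hk] at h
    exact ENat.coe_ne_top k h
  · rintro rfl; exact ord_zero

theorem ord_ne_top {a : A} (ha : a ≠ 0) : ord a ≠ ⊤ := fun h => ha (ord_eq_top_iff.mp h)

theorem le_ord_iff (n : ℕ) (a : A) : (n : ℕ∞) ≤ ord a ↔ a ∈ maximalIdeal A ^ n := by
  by_cases ha : a = 0
  · subst ha; simp [ord_zero]
  · obtain ⟨k, hk, h1, h2⟩ := ord_of_ne ha
    rw [hk, Nat.cast_le]
    constructor
    · intro hnk; exact Ideal.pow_le_pow_right hnk h1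
    · intro hn
      by_contra hlt
      push_neg at hlt
      exact h2 (Ideal.pow_le_pow_right (Nat.succ_le_of_lt hlt) hn)

theorem ord_add_le (a b : A) : min (ord a) (ord b) ≤ ord (a + b) := by
  rw [← ENat.forall_natCast_le_iff_le]
  intro n hn
  rw [le_min_iff, le_ord_iff, le_ord_iff] at hn
  rw [le_ord_iff]
  exact Ideal.add_mem _ hn.1 hn.2

theorem one_le_ord_of_mem {a : A} (ha : a ∈ maximalIdeal A) : (1 : ℕ∞) ≤ ord a := by
  have := (le_ord_iff 1 a).mpr (by rwa [pow_one])
  exact_mod_cast this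

theorem ord_eq_zero_of_not_mem {a : A} (ha : a ∉ maximalIdeal A) : ord a = 0 := by
  by_contra h
  have h1 : (1 : ℕ∞) ≤ ord a := ENat.one_le_iff_ne_zero.mpr h
  have h2 := (le_ord_iff 1 a).mp (by exact_mod_cast h1)
  rw [pow_one] at h2
  exact ha h2

theorem ord_one : ord (1 : A) = 0 :=
  ord_eq_zero_of_not_mem ((Ideal.ne_top_iff_one _).mp (IsLocalRing.maximalIdeal.isMaximal A).ne_top)

end Ord

/-! ### Part B': multiplicativity from quasi-regularity -/
section QRsec
variable {A : Type u} [CommRing A] [IsLocalRing A] [IsNoetherianRing A] [IsDomain A]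
variable {d' : ℕ} {f : Fin (d' + 1) → A}

/-- the data: a quasi-regular system of generators of the maximal ideal. -/
structure Setup (f : Fin (d' + 1) → A) : Prop where
  span_eq : Ideal.span (Set.range f) = maximalIdeal A
  qr : QR f

theorem exists_coeff_not_mem (h : Setup f) {p : ℕ} (P : MvPolynomial (Fin (d' + 1)) A)
    (hP : P.IsHomogeneous p) (hnot : eval f P ∉ maximalIdeal A ^ (p + 1)) :
    ∃ μ, P.coeff μ ∉ maximalIdeal A := by
  by_contra hcon
  push_neg at hcon
  apply hnot
  have := eval_mem_mul_pow f (maximalIdeal A) P hP hcon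
  rwa [h.span_eq, ← pow_succ'] at this

theorem core (h : Setup f) {p q : ℕ} {a b : A} (ha : a ∈ maximalIdeal A ^ p)
    (ha' : a ∉ maximalIdeal A ^ (p + 1)) (hb : b ∈ maximalIdeal A ^ q)
    (hb' : b ∉ maximalIdeal A ^ (q + 1)) : a * b ∉ maximalIdeal A ^ (p + q + 1) := by
  rw [← h.span_eq] at ha hb
  obtain ⟨P, hP, hPa⟩ := (Ideal.mem_span_pow_iff_exists_isHomogeneous f a).1 ha
  obtain ⟨Q, hQ, hQb⟩ := (Ideal.mem_span_pow_iff_exists_isHomogeneous f b).1 hb
  rw [← hPa] at ha'
  rw [← hQb] at hb'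
  obtain ⟨μ, hμ⟩ := exists_coeff_not_mem h P hP ha'
  obtain ⟨ν, hν⟩ := exists_coeff_not_mem h Q hQ hb'
  intro hab
  rw [← hPa, ← hQb, ← map_mul, ← h.span_eq] at hab
  have hall := h.qr (p + q) (P * Q) (hP.mul hQ) hab
  have hzero : map (residue A) (P * Q) = 0 := by
    ext κ
    rw [coeff_map, coeff_zero, residue_eq_zero_iff, ← h.span_eq]
    exact hall κ
  rw [map_mul, mul_eq_zero] at hzero
  rcases hzero with hz | hz
  · apply hμ
    have := congrArg (coeff μ) hz
    rwa [coeff_map, coeff_zero, residue_eq_zero_iff] at this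
  · apply hν
    have := congrArg (coeff ν) hz
    rwa [coeff_map, coeff_zero, residue_eq_zero_iff] at this

theorem ord_mul (h : Setup f) (a b : A) : ord (a * b) = ord a + ord b := by
  by_cases ha : a = 0
  · subst ha; simp [ord_zero]
  by_cases hb : b = 0
  · subst hb; simp [ord_zero]
  obtain ⟨p, hp, hp1, hp2⟩ := ord_of_ne ha
  obtain ⟨q, hq, hq1, hq2⟩ := ord_of_ne hb
  obtain ⟨r, hr, hr1, hr2⟩ := ord_of_ne (mul_ne_zero ha hb)
  rw [hp, hq, hr, ← Nat.cast_add, Nat.cast_inj]
  have h1 : a * b ∈ maximalIdeal A ^ (p + q) := by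
    rw [pow_add]; exact Ideal.mul_mem_mul hp1 hq1
  have h2 := core h hp1 hp2 hq1 hq2
  by_contra hne
  rcases Nat.lt_or_gt_of_ne hne with hlt | hgt
  · exact hr2 (Ideal.pow_le_pow_right (Nat.succ_le_of_lt hlt) h1)
  · exact h2 (Ideal.pow_le_pow_right (Nat.succ_le_of_lt hgt) hr1)

theorem ord_pow (h : Setup f) (a : A) (n : ℕ) : ord (a ^ n) = n * ord a := by
  induction n with
  | zero => simp [ord_one]
  | succ n ih => rw [pow_succ, ord_mul h, ih]; push_cast; ring

theorem f_mem (h : Setup f) (i : Fin (d' + 1)) : f i ∈ maximalIdeal A := by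
  rw [← h.span_eq]; exact Ideal.subset_span ⟨i, rfl⟩

theorem ord_f0 (h : Setup f) : ord (f 0) = 1 := by
  have hmem : f 0 ∈ maximalIdeal A := f_mem h 0
  have hne : f 0 ∉ maximalIdeal A ^ 2 := by
    intro h2
    have := h.qr 1 (X 0) (isHomogeneous_X A 0) (by rw [eval_X, h.span_eq]; exact h2)
      (Finsupp.single 0 1)
    have hc1 : coeff (Finsupp.single 0 1) (X 0 : MvPolynomial (Fin (d' + 1)) A) = 1 := by simp
    rw [hc1, h.span_eq] at this
    exact (Ideal.ne_top_iff_one _).mp (IsLocalRing.maximalIdeal.isMaximal A).ne_top this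
  have hf0 : f 0 ≠ 0 := by
    intro h0; apply hne; rw [h0]; exact zero_mem _
  obtain ⟨k, hk, hk1, hk2⟩ := ord_of_ne hf0
  rw [hk]
  have hk' : k = 1 := by
    by_contra hne1
    rcases Nat.lt_or_gt_of_ne hne1 with hlt | hgt
    · have hk0 : k = 0 := by omega
      subst hk0
      exact hk2 (by simpa using hmem)
    · exact hne (Ideal.pow_le_pow_right (Nat.succ_le_of_lt hgt) hk1)
  rw [hk']; rfl

theorem f0_ne_zero (h : Setup f) : f 0 ≠ 0 := by
  intro h0
  have := ord_f0 h
  rw [h0, ord_zero] at this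
  simp at this

end QRsec

/-! ### Part C: the valuation ring -/
section VRing
variable {A : Type u} [CommRing A] [IsLocalRing A] [IsNoetherianRing A] [IsDomain A]
variable {d' : ℕ} {f : Fin (d' + 1) → A}

local notation "K" => FractionRing A
local notation "ι" => algebraMap A (FractionRing A)

theorem iota_ne_zero {a : A} (ha : a ≠ 0) : ι a ≠ 0 :=
  (map_ne_zero_iff _ (IsFractionRing.injective A (FractionRing A))).mpr ha

/-- the valuation ring of the order valuation, as a subalgebra of the fraction field. -/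
noncomputable def V (h : Setup f) : Subalgebra A (FractionRing A) where
  carrier := {x | ∃ a b : A, b ≠ 0 ∧ x * ι b = ι a ∧ ord b ≤ ord a}
  mul_mem' := by
    rintro x y ⟨a, b, hb, hx, hab⟩ ⟨a', b', hb', hy, hab'⟩
    refine ⟨a * a', b * b', mul_ne_zero hb hb', ?_, ?_⟩
    · rw [map_mul, map_mul, ← hx, ← hy]; ring
    · rw [ord_mul h, ord_mul h]; exact add_le_add hab hab'
  one_mem' := ⟨1, 1, one_ne_zero, by simp, le_refl _⟩
  add_mem' := by
    rintro x y ⟨a, b, hb, hx, hab⟩ ⟨a', b', hb', hy, hab'⟩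
    refine ⟨a * b' + a' * b, b * b', mul_ne_zero hb hb', ?_, ?_⟩
    · rw [map_add, map_mul, map_mul, map_mul, ← hx, ← hy]; ring
    · refine le_trans ?_ (ord_add_le _ _)
      rw [ord_mul h, ord_mul h, ord_mul h]
      refine le_min (add_le_add hab le_rfl) ?_
      rw [add_comm (ord b)]
      exact add_le_add hab' le_rfl
  zero_mem' := ⟨0, 1, one_ne_zero, by simp, by rw [ord_zero]; exact le_top⟩
  algebraMap_mem' r := ⟨r, 1, one_ne_zero, by simp, by simp [ord_one]⟩

theorem mem_V (h : Setup f) {x : K} :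
    x ∈ V h ↔ ∃ a b : A, b ≠ 0 ∧ x * ι b = ι a ∧ ord b ≤ ord a := Iff.rfl

theorem mem_V_iff (h : Setup f) {x : K} {a b : A} (hb : b ≠ 0) (hx : x * ι b = ι a) :
    x ∈ V h ↔ ord b ≤ ord a := by
  constructor
  · intro hxV
    obtain ⟨a', b', hb', hx', hab'⟩ := (mem_V h).mp hxV
    have e : a * b' = a' * b := by
      apply IsFractionRing.injective A (FractionRing A)
      rw [map_mul, map_mul, ← hx, ← hx']; ring
    have e2 := congrArg ord e
    rw [ord_mul h, ord_mul h] at e2
    exact enat_cancel (ord_ne_top hb) (ord_ne_top hb') e2 hab'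
  · intro hab; exact (mem_V h).mpr ⟨a, b, hb, hx, hab⟩

theorem coe_algebraMap (h : Setup f) (a : A) :
    ((algebraMap A (V h) a : V h) : K) = ι a := rfl

theorem isUnit_of_ord_eq (h : Setup f) (x : V h) {a b : A} (hb : b ≠ 0)
    (hx : (x : K) * ι b = ι a) (hab : ord a = ord b) : IsUnit x := by
  have ha : a ≠ 0 := fun h0 => ord_ne_top hb (by rw [← hab, h0, ord_zero])
  have hιa : ι a ≠ 0 := iota_ne_zero ha
  have hx0 : (x : K) ≠ 0 := by
    intro h0; rw [h0, zero_mul] at hx; exact hιa hx.symm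
  have hinv : (x : K)⁻¹ * ι a = ι b := by
    rw [← hx, ← mul_assoc, inv_mul_cancel₀ hx0, one_mul]
  have hmem : (x : K)⁻¹ ∈ V h := (mem_V h).mpr ⟨b, a, ha, hinv, hab.le⟩
  refine isUnit_iff_exists_inv.mpr ⟨⟨_, hmem⟩, Subtype.ext ?_⟩
  rw [Subalgebra.coe_mul, Subalgebra.coe_one]
  exact mul_inv_cancel₀ hx0

theorem not_isUnit_of_ord_lt (h : Setup f) (x : V h) {a b : A} (hb : b ≠ 0)
    (hx : (x : K) * ι b = ι a) (hab : ord b < ord a) : ¬ IsUnit x := by
  intro hu
  obtain ⟨y, hy⟩ := isUnit_iff_exists_inv.mp hu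
  have hy' : (x : K) * (y : K) = 1 := by
    have := congrArg Subtype.val hy
    rwa [Subalgebra.coe_mul, Subalgebra.coe_one] at this
  have hιb : ι b ≠ 0 := iota_ne_zero hb
  by_cases ha : a = 0
  · subst ha
    rw [map_zero] at hx
    have hx0 : (x : K) = 0 := by
      rcases mul_eq_zero.mp hx with h1 | h1
      · exact h1
      · exact absurd h1 hιb
    rw [hx0, zero_mul] at hy'
    exact zero_ne_one hy'
  · have hy2 : (y : K) * ι a = ι b := by
      rw [← hx]
      calc (y : K) * ((x : K) * ι b) = ((x : K) * (y : K)) * ι b := by ring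
        _ = ι b := by rw [hy', one_mul]
    have := (mem_V_iff h ha hy2).mp y.2
    exact absurd hab (not_lt.mpr this)

/-- the uniformizer -/
noncomputable def pi (h : Setup f) : V h := algebraMap A (V h) (f 0)

theorem exists_associated (h : Setup f) (x : V h) (hx0 : x ≠ 0) :
    ∃ n : ℕ, Associated (pi h ^ n) x := by
  obtain ⟨a, b, hb, hx, hab⟩ := (mem_V h).mp x.2
  have hιb : ι b ≠ 0 := iota_ne_zero hb
  have ha : a ≠ 0 := by
    rintro rfl
    rw [map_zero] at hx
    apply hx0
    apply Subtype.ext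
    rcases mul_eq_zero.mp hx with h1 | h1
    · rw [h1]; rfl
    · exact absurd h1 hιb
  obtain ⟨p, hp, -, -⟩ := ord_of_ne ha
  obtain ⟨q, hq, -, -⟩ := ord_of_ne hb
  rw [hp, hq, Nat.cast_le] at hab
  have hf0 : f 0 ≠ 0 := f0_ne_zero h
  have hιf : ι (f 0) ≠ 0 := iota_ne_zero hf0
  have hu_eq : ((x : K) * (ι (f 0))⁻¹ ^ (p - q)) * ι (b * f 0 ^ (p - q)) = ι a := by
    calc ((x : K) * (ι (f 0))⁻¹ ^ (p - q)) * ι (b * f 0 ^ (p - q))
        = ((x : K) * ι b) * ((ι (f 0))⁻¹ * ι (f 0)) ^ (p - q) := by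
          rw [map_mul, map_pow]; ring
      _ = ι a := by rw [inv_mul_cancel₀ hιf, one_pow, mul_one, hx]
  have hord : ord a = ord (b * f 0 ^ (p - q)) := by
    rw [ord_mul h, ord_pow h, ord_f0 h, hp, hq, mul_one, ← Nat.cast_add, Nat.cast_inj]; omega
  have hb' : b * f 0 ^ (p - q) ≠ 0 := mul_ne_zero hb (pow_ne_zero _ hf0)
  have hmem : (x : K) * (ι (f 0))⁻¹ ^ (p - q) ∈ V h :=
    (mem_V h).mpr ⟨a, _, hb', hu_eq, hord.ge⟩
  have hunit : IsUnit (⟨_, hmem⟩ : V h) := isUnit_of_ord_eq h ⟨_, hmem⟩ hb' hu_eq hord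
  refine ⟨p - q, ?_⟩
  obtain ⟨u, hu⟩ := hunit
  refine ⟨u, ?_⟩
  apply Subtype.ext
  rw [Subalgebra.coe_mul, hu, Subalgebra.coe_pow]
  show ι (f 0) ^ (p - q) * ((x : K) * (ι (f 0))⁻¹ ^ (p - q)) = (x : K)
  calc ι (f 0) ^ (p - q) * ((x : K) * (ι (f 0))⁻¹ ^ (p - q))
      = (x : K) * ((ι (f 0))⁻¹ * ι (f 0)) ^ (p - q) := by ring
    _ = (x : K) := by rw [inv_mul_cancel₀ hιf, one_pow, mul_one]

theorem pi_irreducible (h : Setup f) : Irreducible (pi h) := by
  have hf0 := f0_ne_zero h
  have hpi : ((pi h : V h) : K) * ι 1 = ι (f 0) := by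
    rw [map_one, mul_one]; rfl
  rw [irreducible_iff]
  constructor
  · exact not_isUnit_of_ord_lt h (pi h) one_ne_zero hpi
      (by rw [ord_one, ord_f0 h]; exact zero_lt_one)
  · intro y z hyz
    obtain ⟨a, b, hb, hy, hab⟩ := (mem_V h).mp y.2
    obtain ⟨a', b', hb', hz, hab'⟩ := (mem_V h).mp z.2
    have e : f 0 * (b * b') = a * a' := by
      apply IsFractionRing.injective A (FractionRing A)
      have h1 : ι (f 0) = (y : K) * (z : K) := by
        have := congrArg Subtype.val hyz
        rwa [Subalgebra.coe_mul] at this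
      rw [map_mul, map_mul, map_mul, ← hy, ← hz, h1]; ring
    have e2 := congrArg ord e
    rw [ord_mul h, ord_mul h, ord_mul h, ord_f0 h] at e2
    by_cases h1 : ord a = ord b
    · left; exact isUnit_of_ord_eq h y hb hy h1
    · right
      refine isUnit_of_ord_eq h z hb' hz ?_
      have hlt : ord b < ord a := lt_of_le_of_ne hab (Ne.symm h1)
      exact enat_aux (ord_ne_top hb) (ord_ne_top hb') hlt hab' e2

instance instIsDomainV (h : Setup f) : IsDomain (V h) := inferInstance

theorem dvr (h : Setup f) : IsDiscreteValuationRing (V h) :=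
  IsDiscreteValuationRing.ofHasUnitMulPowIrreducibleFactorization
    ⟨pi h, pi_irreducible h, fun {x} hx => exists_associated h x hx⟩

instance isLocalRingV (h : Setup f) : IsLocalRing (V h) :=
  haveI := dvr h
  inferInstance

theorem isFractionRing (h : Setup f) : IsFractionRing (V h) (FractionRing A) := by
  haveI : FaithfulSMul (V h) (FractionRing A) :=
    (faithfulSMul_iff_algebraMap_injective _ _).mpr Subtype.val_injective
  refine IsFractionRing.of_field _ _ (fun z => ?_)
  obtain ⟨a, b, -, rfl⟩ := IsFractionRing.div_surjective (A := A) z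
  exact ⟨algebraMap A (V h) a, algebraMap A (V h) b, rfl⟩

theorem comap_max (h : Setup f) :
    (maximalIdeal (V h)).comap (algebraMap A (V h)) = maximalIdeal A := by
  ext a
  rw [Ideal.mem_comap, mem_maximalIdeal, mem_maximalIdeal, mem_nonunits_iff, mem_nonunits_iff]
  constructor
  · intro hn hu; exact hn (hu.map _)
  · intro hn
    have ha : a ∈ maximalIdeal A := hn
    have hx : ((algebraMap A (V h) a : V h) : K) * ι 1 = ι a := by
      rw [map_one, mul_one]; rfl
    exact not_isUnit_of_ord_lt h _ one_ne_zero hx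
      (by rw [ord_one]; exact lt_of_lt_of_le zero_lt_one (one_le_ord_of_mem ha))

theorem isLocalHom (h : Setup f) : IsLocalHom (algebraMap A (V h)) :=
  ((local_hom_TFAE (algebraMap A (V h))).out 0 4).mpr (comap_max h)

/-- the map on residue fields -/
noncomputable def phi (h : Setup f) : ResidueField A →+* ResidueField (V h) :=
  haveI := isLocalHom h
  ResidueField.map (algebraMap A (V h))

theorem phi_comp (h : Setup f) :
    (phi h).comp (residue A) = (residue (V h)).comp (algebraMap A (V h)) := rfl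

/-- the algebra structure on the residue field of `V` -/
@[reducible] noncomputable def resAlg (h : Setup f) :
    Algebra (ResidueField A) (ResidueField (V h)) := (phi h).toAlgebra

attribute [local instance] resAlg

theorem algebraMap_res (h : Setup f) (a : A) :
    algebraMap (ResidueField A) (ResidueField (V h)) (residue A a)
      = residue (V h) (algebraMap A (V h) a) := rfl

theorem tau_mem (h : Setup f) (j : Fin d') : ι (f j.succ) / ι (f 0) ∈ V h :=
  (mem_V h).mpr ⟨f j.succ, f 0, f0_ne_zero h, div_mul_cancel₀ _ (iota_ne_zero (f0_ne_zero h)),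
    by rw [ord_f0 h]; exact one_le_ord_of_mem (f_mem h _)⟩

/-- the elements `f_{j+1} / f_0` of `V` -/
noncomputable def tau (h : Setup f) (j : Fin d') : V h := ⟨_, tau_mem h j⟩

/-- their residue classes -/
noncomputable def t0 (h : Setup f) (j : Fin d') : ResidueField (V h) := residue (V h) (tau h j)

theorem residue_aeval (h : Setup f) {σ : Type*} (T : σ → V h) (Q : MvPolynomial σ A) :
    residue (V h) (aeval T Q)
      = aeval (fun i => residue (V h) (T i)) (map (residue A) Q) := by
  induction Q using MvPolynomial.induction_on with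
  | C a =>
    rw [aeval_C, map_C, aeval_C]
    rfl
  | add p q hp hq => simp only [map_add, hp, hq]
  | mul_X p i hp => simp only [map_mul, aeval_X, map_X, hp]

theorem residue_aeval_mem (h : Setup f) (P : MvPolynomial (Fin (d' + 1)) A) :
    residue (V h) (aeval (Fin.cons 1 (tau h) : Fin (d' + 1) → V h) P)
      ∈ Algebra.adjoin (ResidueField A) (Set.range (t0 h)) := by
  induction P using MvPolynomial.induction_on with
  | C a =>
    rw [aeval_C]
    exact Subalgebra.algebraMap_mem _ (residue A a)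
  | add p q hp hq =>
    rw [map_add, map_add]; exact Subalgebra.add_mem _ hp hq
  | mul_X p i hp =>
    rw [map_mul, aeval_X, map_mul]
    refine Subalgebra.mul_mem _ hp ?_
    refine Fin.cases ?_ (fun j => ?_) i
    · rw [Fin.cons_zero, map_one]; exact Subalgebra.one_mem _
    · rw [Fin.cons_succ]; exact Algebra.subset_adjoin ⟨j, rfl⟩

theorem coe_aeval (h : Setup f) {σ : Type*} (T : σ → V h) (Q : MvPolynomial σ A) :
    ((aeval T Q : V h) : K) = aeval (fun i => ((T i : V h) : K)) Q :=
  MvPolynomial.comp_aeval_apply T (V h).val Q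

theorem key_homog (h : Setup f) {n : ℕ} (P : MvPolynomial (Fin (d' + 1)) A)
    (hP : P.IsHomogeneous n) :
    ι (eval f P)
      = ι (f 0) ^ n * ((aeval (Fin.cons 1 (tau h) : Fin (d' + 1) → V h) P : V h) : K) := by
  have hιf : ι (f 0) ≠ 0 := iota_ne_zero (f0_ne_zero h)
  have hfun : (fun i => ι (f i))
      = fun i => ι (f 0) * (((Fin.cons 1 (tau h) : Fin (d' + 1) → V h) i : V h) : K) := by
    funext i
    refine Fin.cases ?_ (fun j => ?_) i
    · rw [Fin.cons_zero, Subalgebra.coe_one, mul_one]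
    · rw [Fin.cons_succ]
      show ι (f j.succ) = ι (f 0) * (ι (f j.succ) / ι (f 0))
      rw [mul_div_cancel₀ _ hιf]
  rw [iota_eval, coe_aeval, hfun, aeval_mul_of_isHomogeneous P hP]

theorem key_hom (h : Setup f) (G : MvPolynomial (Fin d') A) :
    ι (eval f (hom G)) = ι (f 0) ^ G.totalDegree * ((aeval (tau h) G : V h) : K) := by
  have hιf : ι (f 0) ≠ 0 := iota_ne_zero (f0_ne_zero h)
  have hfun : (fun i => ι (f i))
      = (Fin.cons (ι (f 0)) (fun i => ι (f 0) * ((tau h i : V h) : K)) : Fin (d' + 1) → K) := by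
    funext i
    refine Fin.cases ?_ (fun j => ?_) i
    · rw [Fin.cons_zero]
    · rw [Fin.cons_succ]
      show ι (f j.succ) = ι (f 0) * (ι (f j.succ) / ι (f 0))
      rw [mul_div_cancel₀ _ hιf]
  rw [iota_eval, coe_aeval, hfun, aeval_hom]

theorem adjoin_eq_top (h : Setup f) :
    IntermediateField.adjoin (ResidueField A) (Set.range (t0 h)) = ⊤ := by
  rw [eq_top_iff]
  rintro z -
  obtain ⟨x, rfl⟩ := residue_surjective z
  obtain ⟨a, b, hb, hx, hab⟩ := (mem_V h).mp x.2
  rcases lt_or_eq_of_le hab with hlt | heq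
  · have hz : residue (V h) x = 0 := by
      rw [residue_eq_zero_iff, mem_maximalIdeal, mem_nonunits_iff]
      exact not_isUnit_of_ord_lt h x hb hx hlt
    rw [hz]; exact zero_mem _
  · obtain ⟨n, hn, hb1, -⟩ := ord_of_ne hb
    have ha1 : a ∈ maximalIdeal A ^ n := (le_ord_iff n a).mp (by rw [← heq, hn])
    rw [← h.span_eq] at ha1 hb1
    obtain ⟨P, hP, hPa⟩ := (Ideal.mem_span_pow_iff_exists_isHomogeneous f a).1 ha1
    obtain ⟨Q, hQ, hQb⟩ := (Ideal.mem_span_pow_iff_exists_isHomogeneous f b).1 hb1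
    have kP := key_homog h P hP
    have kQ := key_homog h Q hQ
    rw [hPa] at kP
    rw [hQb] at kQ
    have hιf : ι (f 0) ≠ 0 := iota_ne_zero (f0_ne_zero h)
    have hrel : x * aeval (Fin.cons 1 (tau h) : Fin (d' + 1) → V h) Q
        = aeval (Fin.cons 1 (tau h) : Fin (d' + 1) → V h) P := by
      apply Subtype.ext
      rw [Subalgebra.coe_mul]
      have h3 : ι (f 0) ^ n * ((x : K) *
            ((aeval (Fin.cons 1 (tau h) : Fin (d' + 1) → V h) Q : V h) : K))
          = ι (f 0) ^ n * ((aeval (Fin.cons 1 (tau h) : Fin (d' + 1) → V h) P : V h) : K) := by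
        rw [← kP, ← hx, kQ]; ring
      exact mul_left_cancel₀ (pow_ne_zero n hιf) h3
    have hQunit : IsUnit (aeval (Fin.cons 1 (tau h) : Fin (d' + 1) → V h) Q : V h) := by
      refine isUnit_of_ord_eq h _ (a := b) (b := f 0 ^ n) (pow_ne_zero _ (f0_ne_zero h)) ?_ ?_
      · rw [map_pow, kQ, mul_comm]
      · rw [ord_pow h, ord_f0 h, mul_one, hn]
    have hne : residue (V h) (aeval (Fin.cons 1 (tau h) : Fin (d' + 1) → V h) Q) ≠ 0 := by
      rw [Ne, residue_eq_zero_iff, mem_maximalIdeal, mem_nonunits_iff, not_not]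
      exact hQunit
    have hz : residue (V h) x
        = residue (V h) (aeval (Fin.cons 1 (tau h) : Fin (d' + 1) → V h) P)
          / residue (V h) (aeval (Fin.cons 1 (tau h) : Fin (d' + 1) → V h) Q) := by
      rw [eq_div_iff hne, ← map_mul, hrel]
    rw [hz]
    exact div_mem
      (IntermediateField.algebra_adjoin_le_adjoin _ _ (residue_aeval_mem h P))
      (IntermediateField.algebra_adjoin_le_adjoin _ _ (residue_aeval_mem h Q))

theorem algInd (h : Setup f) : AlgebraicIndependent (ResidueField A) (t0 h) := by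
  rw [algebraicIndependent_iff]
  intro G hG
  obtain ⟨G', rfl⟩ := MvPolynomial.map_surjective (residue A) residue_surjective G
  have h1 : residue (V h) (aeval (tau h) G') = 0 := by
    rw [residue_aeval]; exact hG
  have hnu : ¬ IsUnit (aeval (tau h) G' : V h) := by
    rwa [residue_eq_zero_iff, mem_maximalIdeal, mem_nonunits_iff] at h1
  have hk := key_hom h G'
  have hf0N : f 0 ^ G'.totalDegree ≠ 0 := pow_ne_zero _ (f0_ne_zero h)
  have hrep : ((aeval (tau h) G' : V h) : K) * ι (f 0 ^ G'.totalDegree)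
      = ι (eval f (hom G')) := by
    rw [hk, map_pow, mul_comm]
  have hle : ord (f 0 ^ G'.totalDegree) ≤ ord (eval f (hom G')) :=
    (mem_V_iff h hf0N hrep).mp (aeval (tau h) G').2
  have hne : ord (eval f (hom G')) ≠ ord (f 0 ^ G'.totalDegree) :=
    fun e => hnu (isUnit_of_ord_eq h _ hf0N hrep e)
  have hlt : ord (f 0 ^ G'.totalDegree) < ord (eval f (hom G')) :=
    lt_of_le_of_ne hle (Ne.symm hne)
  rw [ord_pow h, ord_f0 h, mul_one] at hlt
  have h2 : ((G'.totalDegree + 1 : ℕ) : ℕ∞) ≤ ord (eval f (hom G')) := by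
    rw [Nat.cast_succ]; exact Order.add_one_le_of_lt hlt
  have h3 := (le_ord_iff _ _).mp h2
  rw [← h.span_eq] at h3
  have h4 := h.qr G'.totalDegree (hom G') (hom_isHomogeneous G') h3
  rw [h.span_eq] at h4
  have h5 := coeff_mem_of_hom (maximalIdeal A) G' h4
  ext μ
  rw [coeff_map, coeff_zero, residue_eq_zero_iff]
  exact h5 μ

end VRing

/-! ### The main theorem -/
section Main

theorem exists_setup (A : Type u) [CommRing A] [IsRegularLocalRing A] [IsDomain A]
    (hA : ¬ IsField A) : ∃ (d' : ℕ) (f : Fin (d' + 1) → A), Setup f := by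
  classical
  obtain ⟨s, hcard, hspan⟩ := Submodule.FG.exists_span_finset_card_eq_spanFinrank
    (IsNoetherian.noetherian (maximalIdeal A))
  have hl_span : Ideal.ofList s.toList = maximalIdeal A := by
    rw [Groth.Agent.RegularLib.ofList_toList]; exact hspan
  have hl_len : s.toList.length = (maximalIdeal A).spanFinrank := by
    rw [Finset.length_toList]; exact hcard
  have hreg := Groth.Agent.RegularLib.isRegular_of_ofList_eq A s.toList hl_span hl_len
  obtain ⟨l, hl⟩ : ∃ l, l = s.toList := ⟨_, rfl⟩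
  rw [← hl] at hreg hl_span
  cases l with
  | nil =>
    exfalso
    apply hA
    rw [IsLocalRing.isField_iff_maximalIdeal_eq, ← hl_span]
    simp [Ideal.ofList]
  | cons a l' =>
    refine ⟨l'.length, (a :: l').get, ?_, ?_⟩
    · rw [← hl_span]
      unfold Ideal.ofList
      congr 1
      ext x
      simp only [Set.mem_range, Set.mem_ofPred_eq, List.mem_iff_get]
      exact Iff.rfl
    · apply qr_of_isWeaklyRegular
      show RingTheory.Sequence.IsWeaklyRegular A (List.ofFn (a :: l').get)
      rw [List.ofFn_get]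
      exact hreg.toIsWeaklyRegular

attribute [local instance] resAlg

theorem final {A : Type u} [CommRing A] [IsLocalRing A] [IsNoetherianRing A] [IsDomain A]
    {d' : ℕ} {f : Fin (d' + 1) → A} (h : Setup f) :
    ∃ (φ : IsLocalRing.ResidueField A →+* IsLocalRing.ResidueField (V h)),
        φ.comp (IsLocalRing.residue A) = (IsLocalRing.residue (V h)).comp (algebraMap A (V h)) ∧
        letI := φ.toAlgebra
        ∃ (ι : Type u) (t : ι → IsLocalRing.ResidueField (V h)),
          AlgebraicIndependent (IsLocalRing.ResidueField A) t ∧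
          IntermediateField.adjoin (IsLocalRing.ResidueField A) (Set.range t) = ⊤ := by
  refine ⟨phi h, phi_comp h, ?_⟩
  have h1 : AlgebraicIndependent (IsLocalRing.ResidueField A)
      ((t0 h) ∘ (Equiv.ulift : ULift.{u} (Fin d') ≃ Fin d')) :=
    (algebraicIndependent_equiv (R := IsLocalRing.ResidueField A)
      (Equiv.ulift : ULift.{u} (Fin d') ≃ Fin d') (f := t0 h)).mpr (algInd h)
  have hr : Set.range ((t0 h) ∘ (Equiv.ulift : ULift.{u} (Fin d') ≃ Fin d')) = Set.range (t0 h) :=
    (Equiv.ulift : ULift.{u} (Fin d') ≃ Fin d').surjective.range_comp (t0 h)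
  have h2 : IntermediateField.adjoin (IsLocalRing.ResidueField A)
      (Set.range ((t0 h) ∘ (Equiv.ulift : ULift.{u} (Fin d') ≃ Fin d'))) = ⊤ := by
    rw [hr]; exact adjoin_eq_top h
  exact ⟨ULift.{u} (Fin d'), (t0 h) ∘ (Equiv.ulift : ULift.{u} (Fin d') ≃ Fin d'), h1, h2⟩

theorem main (A : Type u) [CommRing A] [IsRegularLocalRing A] (hA : ¬ IsField A) :
    ∃ (V : Subalgebra A (FractionRing A)) (_ : IsDomain V) (_ : IsDiscreteValuationRing V),
      IsFractionRing V (FractionRing A) ∧
      (IsLocalRing.maximalIdeal V).comap (algebraMap A V) = IsLocalRing.maximalIdeal A ∧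
      ∃ (φ : IsLocalRing.ResidueField A →+* IsLocalRing.ResidueField V),
        φ.comp (IsLocalRing.residue A) = (IsLocalRing.residue V).comp (algebraMap A V) ∧
        letI := φ.toAlgebra
        ∃ (ι : Type u) (t : ι → IsLocalRing.ResidueField V),
          AlgebraicIndependent (IsLocalRing.ResidueField A) t ∧
          IntermediateField.adjoin (IsLocalRing.ResidueField A) (Set.range t) = ⊤ := by
  haveI : IsDomain A := Groth.Agent.RegularLib.isDomain A
  obtain ⟨d', f, h⟩ := exists_setup A hA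
  exact ⟨V h, instIsDomainV h, dvr h, isFractionRing h, comap_max h, final h⟩

end Main

end Groth.Agent.Lib.RegDVRH4
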