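import Mathlib
import Groth.Agent.Lib.Regular5_helper5

/-!
# Two-dimensional regular local rings are factorial (helper3)

Built on helper5's `radical_ideal_dim_two`.  Also: additivity of local intersection numbers.
-/

set_option autoImplicit false
universe u

namespace Groth.Agent.Lib.RegDim2H3

open IsLocalRing Groth.Agent.RegularLib

/-- An element of `m \ m²` of a regular local ring is prime. -/
theorem prime_of_mem_not_mem_sq (A : Type u) [CommRing A] [IsRegularLocalRing A] (x : A)
    (hx : x ∈ maximalIdeal A) (hx2 : x ∉ maximalIdeal A ^ 2) : Prime x := by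
  obtain ⟨hreg, _⟩ := quotient_of_not_mem_sq A x hx hx2
  have hdom : IsDomain (A ⧸ Ideal.span {x}) := isDomain _
  have hprime : (Ideal.span {x}).IsPrime := (Ideal.Quotient.isDomain_iff_prime _).mp hdom
  have hx0 : x ≠ 0 := by rintro rfl; exact hx2 (zero_mem _)
  exact (Ideal.span_singleton_prime hx0).mp hprime

/-- A regular local ring of dimension two is a unique factorization domain. -/
theorem ufd_of_dim_two (A : Type u) [CommRing A] [IsRegularLocalRing A]
    (hdim : ringKrullDim A = 2) : UniqueFactorizationMonoid A := by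
  haveI : IsDomain A := isDomain A
  have hrank : (maximalIdeal A).spanFinrank = 2 := by
    have := spanFinrank_eq_dim A
    rw [hdim] at this
    exact_mod_cast this
  have hm0 : maximalIdeal A ≠ ⊥ := by
    intro h
    rw [h, Submodule.spanFinrank_bot] at hrank
    omega
  refine UniqueFactorizationMonoid.iff_exists_prime_mem_of_isPrime.mpr fun I hI0 hIp => ?_
  rcases radical_ideal_dim_two A hdim I (IsLocalRing.le_maximalIdeal hIp.ne_top) hIp.isRadical with
    h | h | ⟨f, hfm, hf0, hIf⟩
  · exact absurd h hI0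
  · obtain ⟨x, hxm, hx2, -⟩ := exists_mem_not_mem_sq_of_finite A hm0 ∅ Set.finite_empty
      (fun p hp => absurd hp (Set.notMem_empty p)) (fun p hp => absurd hp (Set.notMem_empty p))
    exact ⟨x, h ▸ hxm, prime_of_mem_not_mem_sq A x hxm hx2⟩
  · refine ⟨f, hIf ▸ Ideal.mem_span_singleton_self f, ?_⟩
    rw [hIf] at hIp
    exact (Ideal.span_singleton_prime hf0).mp hIp

/-- Additivity of `length A/(f,g)` in the first variable when `f` is a nonzerodivisor
modulo `g`. -/
theorem length_quotient_mul_add {A : Type u} [CommRing A] (f g h : A)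
    (hreg : ∀ a : A, g ∣ f * a → g ∣ a) :
    Module.length A (A ⧸ Ideal.span ({f * h, g} : Set A)) =
      Module.length A (A ⧸ Ideal.span ({f, g} : Set A)) +
        Module.length A (A ⧸ Ideal.span ({h, g} : Set A)) := by
  have hle1 : Ideal.span ({h, g} : Set A) ≤
      Submodule.comap (LinearMap.lsmul A A f) (Ideal.span ({f * h, g} : Set A)) := by
    intro a ha
    rw [Ideal.mem_span_pair] at ha
    obtain ⟨c, d, rfl⟩ := ha
    rw [Submodule.mem_comap, LinearMap.lsmul_apply, smul_eq_mul, Ideal.mem_span_pair]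
    exact ⟨c, f * d, by ring⟩
  have hle2 : Ideal.span ({f * h, g} : Set A) ≤
      Submodule.comap (LinearMap.id : A →ₗ[A] A) (Ideal.span ({f, g} : Set A)) := by
    intro a ha
    rw [Ideal.mem_span_pair] at ha
    obtain ⟨c, d, rfl⟩ := ha
    rw [Submodule.mem_comap, LinearMap.id_apply, Ideal.mem_span_pair]
    exact ⟨c * h, d, by ring⟩
  set φ := Submodule.mapQ (Ideal.span ({h, g} : Set A)) (Ideal.span ({f * h, g} : Set A))
    (LinearMap.lsmul A A f) hle1 with hφ
  set ψ := Submodule.mapQ (Ideal.span ({f * h, g} : Set A)) (Ideal.span ({f, g} : Set A))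
    LinearMap.id hle2 with hψ
  have hφinj : Function.Injective φ := by
    rw [← LinearMap.ker_eq_bot, LinearMap.ker_eq_bot']
    intro x hx
    obtain ⟨a, rfl⟩ := Submodule.Quotient.mk_surjective _ x
    rw [hφ, Submodule.mapQ_apply, Submodule.Quotient.mk_eq_zero, LinearMap.lsmul_apply,
      smul_eq_mul, Ideal.mem_span_pair] at hx
    obtain ⟨c, d, hcd⟩ := hx
    rw [Submodule.Quotient.mk_eq_zero, Ideal.mem_span_pair]
    have hdvd : g ∣ f * (a - c * h) := ⟨d, by linear_combination -hcd⟩
    obtain ⟨e, he⟩ := hreg _ hdvd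
    exact ⟨c, e, by linear_combination -he⟩
  have hψsurj : Function.Surjective ψ := by
    intro y
    obtain ⟨a, rfl⟩ := Submodule.Quotient.mk_surjective _ y
    exact ⟨Submodule.Quotient.mk a, by rw [hψ, Submodule.mapQ_apply]; rfl⟩
  have hexact : Function.Exact φ ψ := by
    intro y
    constructor
    · intro hy
      obtain ⟨a, rfl⟩ := Submodule.Quotient.mk_surjective _ y
      rw [hψ, Submodule.mapQ_apply, Submodule.Quotient.mk_eq_zero, LinearMap.id_apply,
        Ideal.mem_span_pair] at hy
      obtain ⟨c, d, hcd⟩ := hy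
      refine ⟨Submodule.Quotient.mk c, ?_⟩
      rw [hφ, Submodule.mapQ_apply, LinearMap.lsmul_apply, smul_eq_mul, Submodule.Quotient.eq,
        Ideal.mem_span_pair]
      exact ⟨0, -d, by linear_combination -hcd⟩
    · rintro ⟨x, rfl⟩
      obtain ⟨a, rfl⟩ := Submodule.Quotient.mk_surjective _ x
      rw [hφ, hψ, Submodule.mapQ_apply, Submodule.mapQ_apply, Submodule.Quotient.mk_eq_zero,
        LinearMap.id_apply, LinearMap.lsmul_apply, smul_eq_mul, Ideal.mem_span_pair]
      exact ⟨a, 0, by ring⟩
  rw [Module.length_eq_add_of_exact φ ψ hφinj hψsurj hexact, add_comm]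

end Groth.Agent.Lib.RegDim2H3

namespace Groth.Agent.Lib.RegDim2H3

section prodpi

variable {A : Type u} [CommRing A]

/-- `length A/(∏ f_i, g) = ∑ length A/(f_i, g)` when `g` is relatively prime to each `f_i`. -/
theorem length_quotient_prod [DecompositionMonoid A] {ι : Type*} (s : Finset ι) (f : ι → A) (g : A)
    (hrel : ∀ i ∈ s, IsRelPrime g (f i)) :
    Module.length A (A ⧸ Ideal.span ({∏ i ∈ s, f i, g} : Set A)) =
      ∑ i ∈ s, Module.length A (A ⧸ Ideal.span ({f i, g} : Set A)) := by
  classical
  induction s using Finset.induction_on with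
  | empty =>
    rw [Finset.prod_empty, Finset.sum_empty, Module.length_eq_zero_iff]
    have : Ideal.span ({1, g} : Set A) = ⊤ := by
      rw [Ideal.eq_top_iff_one]
      exact Ideal.subset_span (Set.mem_insert _ _)
    rw [this]
    infer_instance
  | insert a s ha ih =>
    rw [Finset.prod_insert ha, Finset.sum_insert ha,
      length_quotient_mul_add (f a) g (∏ i ∈ s, f i)
        (fun x hx => (hrel a (Finset.mem_insert_self a s)).dvd_of_dvd_mul_left hx),
      ih (fun i hi => hrel i (Finset.mem_insert_of_mem hi))]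

/-- The diagonal map `A → ∏ A/(f_i)`. -/
noncomputable def diag {n : ℕ} (f : Fin n → A) : A →ₗ[A] ((i : Fin n) → A ⧸ Ideal.span {f i}) :=
  LinearMap.pi (fun i => (Ideal.span {f i}).mkQ)

theorem diag_apply {n : ℕ} (f : Fin n → A) (a : A) (i : Fin n) :
    diag f a i = Submodule.Quotient.mk a := rfl

theorem mk_eq_zero_iff_dvd (x a : A) :
    (Submodule.Quotient.mk a : A ⧸ Ideal.span {x}) = 0 ↔ x ∣ a := by
  rw [Submodule.Quotient.mk_eq_zero, Ideal.mem_span_singleton]

/-- The tail projection. -/
noncomputable def tailProj {n : ℕ} (f : Fin (n + 1) → A) :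
    ((i : Fin (n + 1)) → A ⧸ Ideal.span {f i}) →ₗ[A]
      ((i : Fin n) → A ⧸ Ideal.span {f i.succ}) :=
  LinearMap.pi (fun i => LinearMap.proj i.succ)

theorem tailProj_apply {n : ℕ} (f : Fin (n + 1) → A) (x) (i : Fin n) :
    tailProj f x i = x i.succ := rfl

theorem tailProj_diag {n : ℕ} (f : Fin (n + 1) → A) (a : A) :
    tailProj f (diag f a) = diag (fun i : Fin n => f i.succ) a := rfl

theorem length_coker_diag_succ [DecompositionMonoid A] {n : ℕ} (f : Fin (n + 1) → A)
    (hrel : Pairwise (Function.onFun IsRelPrime f)) :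
    Module.length A (((i : Fin (n + 1)) → A ⧸ Ideal.span {f i}) ⧸ LinearMap.range (diag f)) =
      Module.length A (A ⧸ Ideal.span ({∏ i : Fin n, f i.succ, f 0} : Set A)) +
        Module.length A (((i : Fin n) → A ⧸ Ideal.span {f i.succ}) ⧸
          LinearMap.range (diag (fun i : Fin n => f i.succ))) := by
  classical
  set f' : Fin n → A := fun i => f i.succ with hf'
  set F' := ∏ i : Fin n, f i.succ with hF'
  have hrel' : Pairwise (Function.onFun IsRelPrime f') := by
    intro i j hij
    exact hrel (fun h => hij (Fin.succ_injective _ h))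
  have hF'dvd : ∀ a : A, (∀ i, f' i ∣ a) → F' ∣ a := fun a ha =>
    Fintype.prod_dvd_of_isRelPrime hrel' ha
  -- the inclusion of the zeroth coordinate
  set ι0 : (A ⧸ Ideal.span {f 0}) →ₗ[A] ((i : Fin (n + 1)) → A ⧸ Ideal.span {f i}) :=
    LinearMap.single A (fun i : Fin (n + 1) => A ⧸ Ideal.span {f i}) 0 with hι0
  have hι0_zero : ∀ z, ι0 z 0 = z := fun z => by
    rw [hι0, LinearMap.single_apply, Pi.single_eq_same]
  have hι0_succ : ∀ z (j : Fin n), ι0 z j.succ = 0 := fun z j => by
    rw [hι0, LinearMap.single_apply, Pi.single_eq_of_ne (Fin.succ_ne_zero j)]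
  -- κ
  have hle : Ideal.span ({F', f 0} : Set A) ≤
      LinearMap.ker ((LinearMap.range (diag f)).mkQ ∘ₗ ι0 ∘ₗ (Ideal.span {f 0}).mkQ) := by
    rw [Ideal.span_le]
    intro x hx
    rw [SetLike.mem_coe, LinearMap.mem_ker, LinearMap.comp_apply, LinearMap.comp_apply,
      Submodule.mkQ_apply, Submodule.mkQ_apply, Submodule.Quotient.mk_eq_zero]
    rcases hx with rfl | hx
    · refine ⟨F', ?_⟩
      funext i
      refine Fin.cases ?_ (fun j => ?_) i
      · rw [hι0_zero, diag_apply]
      · rw [hι0_succ, diag_apply, mk_eq_zero_iff_dvd]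
        exact Finset.dvd_prod_of_mem (fun i : Fin n => f i.succ) (Finset.mem_univ j)
    · rw [Set.mem_singleton_iff] at hx
      subst hx
      have : (Submodule.Quotient.mk (f 0) : A ⧸ Ideal.span {f 0}) = 0 :=
        (mk_eq_zero_iff_dvd _ _).mpr dvd_rfl
      rw [this, map_zero]
      exact zero_mem _
  set κ := Submodule.liftQ (Ideal.span ({F', f 0} : Set A))
    ((LinearMap.range (diag f)).mkQ ∘ₗ ι0 ∘ₗ (Ideal.span {f 0}).mkQ) hle with hκ
  have hκ_mk : ∀ b : A, κ (Submodule.Quotient.mk b) =
      Submodule.Quotient.mk (ι0 (Submodule.Quotient.mk b)) := fun b => by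
    rw [hκ, Submodule.liftQ_apply]
    rfl
  -- π̄
  have hle2 : LinearMap.range (diag f) ≤
      Submodule.comap (tailProj f) (LinearMap.range (diag f')) := by
    rintro _ ⟨a, rfl⟩
    exact ⟨a, (tailProj_diag f a).symm⟩
  set πb := Submodule.mapQ (LinearMap.range (diag f)) (LinearMap.range (diag f'))
    (tailProj f) hle2 with hπb
  have hκinj : Function.Injective κ := by
    rw [← LinearMap.ker_eq_bot, LinearMap.ker_eq_bot']
    intro y hy
    obtain ⟨b, rfl⟩ := Submodule.Quotient.mk_surjective _ y
    rw [hκ_mk, Submodule.Quotient.mk_eq_zero] at hy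
    obtain ⟨a, ha⟩ := hy
    rw [Submodule.Quotient.mk_eq_zero, Ideal.mem_span_pair]
    have h0 : (Submodule.Quotient.mk a : A ⧸ Ideal.span {f 0}) = Submodule.Quotient.mk b := by
      have := congrFun ha 0
      rwa [diag_apply, hι0_zero] at this
    have hsucc : ∀ j : Fin n, f' j ∣ a := by
      intro j
      have := congrFun ha j.succ
      rw [diag_apply, hι0_succ, mk_eq_zero_iff_dvd] at this
      exact this
    obtain ⟨c, hc⟩ := hF'dvd a hsucc
    rw [Submodule.Quotient.eq, Ideal.mem_span_singleton] at h0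
    obtain ⟨d, hd⟩ := h0
    exact ⟨c, -d, by linear_combination hd - hc⟩
  have hπsurj : Function.Surjective πb := by
    intro y
    obtain ⟨x', rfl⟩ := Submodule.Quotient.mk_surjective _ y
    refine ⟨Submodule.Quotient.mk (fun i => Fin.cases (motive := fun i => A ⧸ Ideal.span {f i})
      0 (fun j => x' j) i), ?_⟩
    rw [hπb, Submodule.mapQ_apply]
    congr 1
  have hexact : Function.Exact κ πb := by
    intro y
    constructor
    · intro hy
      obtain ⟨x, rfl⟩ := Submodule.Quotient.mk_surjective _ y
      rw [hπb, Submodule.mapQ_apply, Submodule.Quotient.mk_eq_zero] at hy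
      obtain ⟨a, ha⟩ := hy
      obtain ⟨b, hb⟩ := Submodule.Quotient.mk_surjective (Ideal.span {f 0})
        (x 0 - Submodule.Quotient.mk a)
      refine ⟨Submodule.Quotient.mk b, ?_⟩
      rw [hκ_mk, Submodule.Quotient.eq]
      refine ⟨-a, ?_⟩
      funext i
      refine Fin.cases ?_ (fun j => ?_) i
      · rw [Pi.sub_apply, hι0_zero, map_neg, Pi.neg_apply, diag_apply, hb]
        abel
      · rw [Pi.sub_apply, hι0_succ, map_neg, Pi.neg_apply, diag_apply]
        have := congrFun ha j
        rw [diag_apply, tailProj_apply] at this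
        rw [← this]
        abel
    · rintro ⟨z, rfl⟩
      obtain ⟨b, rfl⟩ := Submodule.Quotient.mk_surjective _ z
      rw [hκ_mk, hπb, Submodule.mapQ_apply, Submodule.Quotient.mk_eq_zero]
      refine ⟨0, ?_⟩
      funext j
      rw [map_zero, tailProj_apply, hι0_succ]
      rfl
  exact Module.length_eq_add_of_exact κ πb hκinj hπsurj hexact

theorem length_coker_diag [DecompositionMonoid A] : ∀ (n : ℕ) (f : Fin n → A),
    Pairwise (Function.onFun IsRelPrime f) →
    Module.length A (((i : Fin n) → A ⧸ Ideal.span {f i}) ⧸ LinearMap.range (diag f)) =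
      ∑ i : Fin n, ∑ j : Fin n,
        if i < j then Module.length A (A ⧸ Ideal.span ({f i, f j} : Set A)) else 0 := by
  intro n
  induction n with
  | zero =>
    intro f _
    rw [Finset.univ_eq_empty, Finset.sum_empty, Module.length_eq_zero_iff]
    infer_instance
  | succ n ih =>
    intro f hrel
    have hrel' : Pairwise (Function.onFun IsRelPrime fun i : Fin n => f i.succ) := by
      intro i j hij
      exact hrel (fun h => hij (Fin.succ_injective _ h))
    rw [length_coker_diag_succ f hrel, ih _ hrel',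
      length_quotient_prod Finset.univ (fun i : Fin n => f i.succ) (f 0)
        (fun i _ => hrel (Fin.succ_ne_zero i).symm)]
    rw [Fin.sum_univ_succ]
    congr 1
    · rw [Fin.sum_univ_succ]
      simp only [lt_self_iff_false, if_false, zero_add, Fin.succ_pos, if_true]
      refine Finset.sum_congr rfl fun j _ => ?_
      rw [Set.pair_comm]
    · refine Finset.sum_congr rfl fun i _ => ?_
      rw [Fin.sum_univ_succ]
      simp only [Fin.not_lt_zero, if_false, zero_add, Fin.succ_lt_succ_iff]

end prodpi

end Groth.Agent.Lib.RegDim2H3
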