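import Mathlib
import Groth.Agent.Lib.ReflFree_helper5

/-!
# Kernels of maps between flat modules over a regular ring of dimension `≤ 2` (helper1)

If `φ : X → Y` is a linear map between flat modules over a regular ring of Krull dimension `≤ 2`
and `ker φ` is finitely generated, then `ker φ` is projective.
-/

set_option autoImplicit false
set_option maxHeartbeats 1000000
universe u

namespace Groth.Agent.Lib.RegDimTwoH1

open RingTheory.Sequence IsLocalRing Pointwise

section KL

variable {A : Type*} [CommRing A] {K X Y : Type*} [AddCommGroup K] [Module A K]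
  [AddCommGroup X] [Module A X] [AddCommGroup Y] [Module A Y]

theorem isSMulRegular_of_injective' (ι : K →ₗ[A] X) (hι : Function.Injective ι) (x : A)
    (hx : IsSMulRegular X x) : IsSMulRegular K x := by
  intro k k' hkk
  have h : x • k = x • k' := hkk
  apply hι
  apply hx
  show x • ι k = x • ι k'
  rw [← map_smul, ← map_smul, h]

/-- depth two passes to kernels: if `(x, y)` is weakly regular on `X` and `x` is regular on `Y`,
then `(x, y)` is weakly regular on the kernel of any map `X → Y`. -/
theorem isWeaklyRegular_pair_of_exact (ι : K →ₗ[A] X) (φ : X →ₗ[A] Y) (hι : Function.Injective ι)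
    (hex : Function.Exact ι φ) (x y : A) (hX : IsWeaklyRegular X [x, y]) (hY : IsSMulRegular Y x) :
    IsWeaklyRegular K [x, y] := by
  rw [isWeaklyRegular_cons_iff, isWeaklyRegular_singleton_iff] at hX ⊢
  obtain ⟨hx, hy⟩ := hX
  refine ⟨isSMulRegular_of_injective' ι hι x hx, ?_⟩
  have hy' := (isSMulRegular_quotient_iff_mem_of_smul_mem (x • (⊤ : Submodule A X)) y).mp hy
  refine (isSMulRegular_quotient_iff_mem_of_smul_mem (x • (⊤ : Submodule A K)) y).mpr ?_
  intro k hk
  obtain ⟨k', -, hk'⟩ := (Submodule.mem_smul_pointwise_iff_exists _ _ _).mp hk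
  have h1 : y • ι k ∈ x • (⊤ : Submodule A X) :=
    (Submodule.mem_smul_pointwise_iff_exists _ _ _).mpr
      ⟨ι k', trivial, by rw [← map_smul, hk', map_smul]⟩
  obtain ⟨u, -, hu⟩ := (Submodule.mem_smul_pointwise_iff_exists _ _ _).mp (hy' (ι k) h1)
  have h3 : φ u = 0 := by
    apply hY
    show x • φ u = x • 0
    rw [← map_smul, hu, smul_zero]
    exact hex.apply_apply_eq_zero k
  obtain ⟨k'', hk''⟩ := (hex u).mp h3
  refine (Submodule.mem_smul_pointwise_iff_exists _ _ _).mpr ⟨k'', trivial, hι ?_⟩
  rw [map_smul, hk'', hu]

end KL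

section PL

variable (R : Type u) [CommRing R] [IsRegularRing R]

theorem dim_localization_le (hdim : ringKrullDim R ≤ 2) (I : Ideal R) [hI : I.IsPrime] :
    ringKrullDim (Localization.AtPrime I) ≤ 2 := by
  rw [IsLocalization.AtPrime.ringKrullDim_eq_height I (Localization.AtPrime I)]
  exact le_trans (Ideal.height_le_ringKrullDim_of_ne_top hI.ne_top) hdim

theorem free_localizedModule_ker (hdim : ringKrullDim R ≤ 2)
    (X Y : Type u) [AddCommGroup X] [Module R X] [AddCommGroup Y] [Module R Y]
    [Module.Flat R X] [Module.Flat R Y] (φ : X →ₗ[R] Y) [Module.Finite R (LinearMap.ker φ)]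
    (I : Ideal R) [I.IsMaximal] :
    Module.Free (Localization.AtPrime I) (LocalizedModule I.primeCompl (LinearMap.ker φ)) := by
  haveI : IsRegularLocalRing (Localization.AtPrime I) :=
    IsRegularRing.isRegularLocalRing_localization I
  obtain ⟨n, hn⟩ := Groth.Agent.GlDim.exists_dim (Localization.AtPrime I)
  have hn2 : n ≤ 2 := by
    have h := dim_localization_le R hdim I
    rw [hn] at h
    exact_mod_cast h
  apply Groth.Agent.ReflFree.free_of_depth (Localization.AtPrime I) n hn
  have hd := Groth.Agent.ExtTop.regular_depth (Localization.AtPrime I) n hn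
  have h1 : (n : ℕ∞) ≤ LocCoh.idealDepth (maximalIdeal (Localization.AtPrime I))
      (Localization.AtPrime I) := le_of_eq hd.symm
  rw [Groth.Agent.DepthLib.le_idealDepth_iff] at h1 ⊢
  right
  rcases h1 with h1 | ⟨rs, hreg, hmem, hlen⟩
  · exfalso
    rw [smul_eq_mul, Ideal.mul_top] at h1
    exact (IsLocalRing.maximalIdeal.isMaximal (Localization.AtPrime I)).ne_top h1
  · refine ⟨rs, ?_, hmem, hlen⟩
    let ι0 := IsLocalizedModule.map I.primeCompl
      (LocalizedModule.mkLinearMap I.primeCompl (LinearMap.ker φ))
      (LocalizedModule.mkLinearMap I.primeCompl X) (LinearMap.ker φ).subtype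
    let φ0 := IsLocalizedModule.map I.primeCompl
      (LocalizedModule.mkLinearMap I.primeCompl X)
      (LocalizedModule.mkLinearMap I.primeCompl Y) φ
    have hι0 : Function.Injective ι0 :=
      IsLocalizedModule.map_injective I.primeCompl _ _ _ (Submodule.injective_subtype _)
    have hex0 : Function.Exact ι0 φ0 :=
      LocalizedModule.map_exact I.primeCompl _ _ (LinearMap.exact_subtype_ker_map φ)
    let ι1 : LocalizedModule I.primeCompl (LinearMap.ker φ) →ₗ[Localization.AtPrime I]
        LocalizedModule I.primeCompl X :=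
      ι0.extendScalarsOfIsLocalization I.primeCompl (Localization.AtPrime I)
    let φ1 : LocalizedModule I.primeCompl X →ₗ[Localization.AtPrime I]
        LocalizedModule I.primeCompl Y :=
      φ0.extendScalarsOfIsLocalization I.primeCompl (Localization.AtPrime I)
    have hι1 : Function.Injective ι1 := hι0
    have hex1 : Function.Exact ι1 φ1 := hex0
    have hXrs : IsWeaklyRegular (LocalizedModule I.primeCompl X) rs :=
      ((TensorProduct.rid (Localization.AtPrime I)
        (LocalizedModule I.primeCompl X)).isWeaklyRegular_congr rs).mp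
        (IsWeaklyRegular.isWeaklyRegular_lTensor (M₂ := LocalizedModule I.primeCompl X) hreg)
    have hYrs : IsWeaklyRegular (LocalizedModule I.primeCompl Y) rs :=
      ((TensorProduct.rid (Localization.AtPrime I)
        (LocalizedModule I.primeCompl Y)).isWeaklyRegular_congr rs).mp
        (IsWeaklyRegular.isWeaklyRegular_lTensor (M₂ := LocalizedModule I.primeCompl Y) hreg)
    rcases rs with _ | ⟨x, _ | ⟨y, _ | ⟨w, t⟩⟩⟩
    · exact IsWeaklyRegular.nil _ _
    · rw [isWeaklyRegular_singleton_iff] at hXrs ⊢
      exact isSMulRegular_of_injective' ι1 hι1 x hXrs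
    · have hYx : IsSMulRegular (LocalizedModule I.primeCompl Y) x :=
        ((isWeaklyRegular_cons_iff _ x [y]).mp hYrs).1
      exact isWeaklyRegular_pair_of_exact ι1 φ1 hι1 hex1 x y hXrs hYx
    · exfalso
      simp only [List.length_cons] at hlen
      omega

/-- **Kernels of maps of flat modules are projective in dimension `≤ 2`.** -/
theorem projective_ker_of_flat (hdim : ringKrullDim R ≤ 2)
    (X Y : Type u) [AddCommGroup X] [Module R X] [AddCommGroup Y] [Module R Y]
    [Module.Flat R X] [Module.Flat R Y] (φ : X →ₗ[R] Y) [Module.Finite R (LinearMap.ker φ)] :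
    Module.Projective R (LinearMap.ker φ) := by
  haveI : Module.FinitePresentation R (LinearMap.ker φ) :=
    Module.finitePresentation_of_finite R _
  apply Module.projective_of_localization_maximal
  intro I hI
  haveI := hI
  haveI := free_localizedModule_ker R hdim X Y φ I
  infer_instance

end PL

end Groth.Agent.Lib.RegDimTwoH1
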