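import Mathlib
import Groth.Prelude
import Groth.Agent.S3032

/-!
# Equivariant resolution property gives a closed embedding into `GL_d` (helper4)
APPEND-ONLY once landed.
-/

set_option backward.isDefEq.respectTransparency.types false
set_option autoImplicit false
set_option linter.unusedVariables false
set_option linter.unusedTactic false
set_option linter.unreachableTactic false
set_option linter.unusedSectionVars false
set_option linter.style.haveILetI false
set_option linter.deprecated false
set_option linter.unusedSimpArgs false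
set_option linter.style.longLine false
set_option maxHeartbeats 3200000

universe u

open TensorProduct

namespace Groth.Agent.Lib.ResolGLH4

section Ev

variable {R : Type u} [CommRing R] {E : Type u} [AddCommGroup E] [Module R E]

/-- Evaluate a functional on the first tensor factor. -/
noncomputable def ev (N : Type u) [AddCommGroup N] [Module R N] (f : E →ₗ[R] R) :
    E ⊗[R] N →ₗ[R] N :=
  (TensorProduct.lid R N).toLinearMap ∘ₗ f.rTensor N

theorem ev_tmul (N : Type u) [AddCommGroup N] [Module R N] (f : E →ₗ[R] R) (x : E) (n : N) :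
    ev N f (x ⊗ₜ[R] n) = f x • n := by
  simp only [ev, LinearMap.comp_apply, LinearMap.rTensor_tmul, LinearEquiv.coe_coe,
    TensorProduct.lid_tmul]

theorem ev_lTensor {N N' : Type u} [AddCommGroup N] [Module R N] [AddCommGroup N'] [Module R N']
    (f : E →ₗ[R] R) (g : N →ₗ[R] N') (z : E ⊗[R] N) :
    ev N' f (g.lTensor E z) = g (ev N f z) := by
  induction z using TensorProduct.induction_on with
  | zero => simp only [map_zero]
  | tmul x n => rw [LinearMap.lTensor_tmul, ev_tmul, ev_tmul, map_smul]
  | add z z' hz hz' => simp only [map_add, hz, hz']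

variable {d : ℕ} (e : Fin d → E) (c : Fin d → (E →ₗ[R] R))
  (hec : ∀ x : E, ∑ i, c i x • e i = x)

include hec in
theorem expand (N : Type u) [AddCommGroup N] [Module R N] (z : E ⊗[R] N) :
    z = ∑ l, e l ⊗ₜ[R] ev N (c l) z := by
  induction z using TensorProduct.induction_on with
  | zero => simp only [map_zero, TensorProduct.tmul_zero, Finset.sum_const_zero]
  | tmul x n =>
    simp only [ev_tmul]
    conv_lhs => rw [← hec x]
    rw [TensorProduct.sum_tmul]
    refine Finset.sum_congr rfl fun l _ => ?_
    rw [TensorProduct.smul_tmul]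
  | add z z' hz hz' =>
    conv_lhs => rw [hz, hz']
    rw [← Finset.sum_add_distrib]
    refine Finset.sum_congr rfl fun l _ => ?_
    rw [map_add, TensorProduct.tmul_add]

end Ev

section Mat

variable {R : Type u} [CommRing R] {A : Type u} [CommRing A] [HopfAlgebra R A]
variable {E : Type u} [AddCommGroup E] [Module R E] [cE : HopfRep.Comod R A E]
variable {d : ℕ} (e : Fin d → E) (c : Fin d → (E →ₗ[R] R))

variable (A) in
/-- The matrix coefficients of the coaction in the coordinate system `(e, c)`. -/
noncomputable def bmat : Matrix (Fin d) (Fin d) A := fun i j => ev A (c i) (cE.coact (e j))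

/-- The idempotent scalar matrix of the coordinate system. -/
noncomputable def Pm : Matrix (Fin d) (Fin d) R := fun i j => c i (e j)

variable (A) in
/-- The complementary idempotent, with entries in `A`. -/
noncomputable def QA : Matrix (Fin d) (Fin d) A := (algebraMap R A).mapMatrix (1 - Pm e c)

variable (A) in
/-- The invertible matrix corepresentation. -/
noncomputable def amat : Matrix (Fin d) (Fin d) A := bmat A e c + QA A e c

variable (hec : ∀ x : E, ∑ i, c i x • e i = x)

include hec

theorem coact_e (j : Fin d) : cE.coact (e j) = ∑ l, e l ⊗ₜ[R] bmat A e c l j :=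
  expand e c hec A (cE.coact (e j))

theorem Pb (i j : Fin d) : ∑ l, c i (e l) • bmat A e c l j = bmat A e c i j := by
  have h : bmat A e c i j = ev A (c i) (cE.coact (e j)) := rfl
  conv_rhs => rw [h, coact_e e c hec j, map_sum]
  exact Finset.sum_congr rfl fun l _ => (ev_tmul A (c i) (e l) _).symm

theorem bP (i j : Fin d) : ∑ l, c l (e j) • bmat A e c i l = bmat A e c i j := by
  have h : ∀ l, bmat A e c i l = ev A (c i) (cE.coact (e l)) := fun l => rfl
  conv_rhs => rw [h j, ← hec (e j)]
  simp only [map_sum, map_smul, h]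

theorem PP (i j : Fin d) : ∑ l, c i (e l) * c l (e j) = c i (e j) := by
  have h := congrArg (c i) (hec (e j))
  rw [map_sum] at h
  conv_rhs => rw [← h]
  refine Finset.sum_congr rfl fun l _ => ?_
  rw [map_smul, smul_eq_mul, mul_comm]

theorem comul_bmat (i j : Fin d) :
    CoalgebraStruct.comul (R := R) (bmat A e c i j) = ∑ l, bmat A e c i l ⊗ₜ[R] bmat A e c l j := by
  have h1 := LinearMap.congr_fun cE.coassoc (e j)
  simp only [LinearMap.comp_apply, LinearEquiv.coe_coe] at h1
  have h2 := congrArg (ev (A ⊗[R] A) (c i)) h1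
  rw [ev_lTensor] at h2
  have h3 : bmat A e c i j = ev A (c i) (cE.coact (e j)) := rfl
  rw [h3, ← h2, coact_e e c hec j, map_sum, map_sum, map_sum]
  refine Finset.sum_congr rfl fun l _ => ?_
  rw [LinearMap.rTensor_tmul, coact_e e c hec l, TensorProduct.sum_tmul, map_sum, map_sum]
  simp only [TensorProduct.assoc_tmul, ev_tmul]
  rw [← Pb e c hec i l, TensorProduct.sum_tmul]
  refine Finset.sum_congr rfl fun m _ => ?_
  rw [TensorProduct.smul_tmul']

theorem counit_bmat (i j : Fin d) :
    CoalgebraStruct.counit (R := R) (bmat A e c i j) = c i (e j) := by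
  have h1 := LinearMap.congr_fun cE.counit_comp (e j)
  simp only [LinearMap.comp_apply, LinearMap.flip_apply, TensorProduct.mk_apply] at h1
  have h2 := congrArg (ev R (c i)) h1
  rw [ev_lTensor, ev_tmul, smul_eq_mul, mul_one] at h2
  exact h2

theorem Pm_mul_Pm : Pm e c * Pm e c = Pm e c := by
  ext i j
  rw [Matrix.mul_apply]
  exact PP e c hec i j

theorem bmat_mul_PA : bmat A e c * (algebraMap R A).mapMatrix (Pm e c) = bmat A e c := by
  ext i j
  rw [Matrix.mul_apply]
  conv_rhs => rw [← bP e c hec i j]
  refine Finset.sum_congr rfl fun l _ => ?_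
  show bmat A e c i l * algebraMap R A (c l (e j)) = c l (e j) • bmat A e c i l
  rw [Algebra.smul_def, mul_comm]

theorem PA_mul_bmat : (algebraMap R A).mapMatrix (Pm e c) * bmat A e c = bmat A e c := by
  ext i j
  rw [Matrix.mul_apply]
  conv_rhs => rw [← Pb e c hec i j]
  refine Finset.sum_congr rfl fun l _ => ?_
  show algebraMap R A (c i (e l)) * bmat A e c l j = c i (e l) • bmat A e c l j
  rw [Algebra.smul_def]

omit hec in
theorem QA_eq : QA A e c = 1 - (algebraMap R A).mapMatrix (Pm e c) := by
  unfold QA
  rw [map_sub, map_one]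

theorem bmat_mul_QA : bmat A e c * QA A e c = 0 := by
  rw [QA_eq, mul_sub, mul_one, bmat_mul_PA e c hec, sub_self]

theorem QA_mul_bmat : QA A e c * bmat A e c = 0 := by
  rw [QA_eq, sub_mul, one_mul, PA_mul_bmat e c hec, sub_self]

theorem QA_mul_QA : QA A e c * QA A e c = QA A e c := by
  have h : (1 - Pm e c) * (1 - Pm e c) = 1 - Pm e c := by
    rw [mul_sub, mul_one, sub_mul, one_mul, Pm_mul_Pm e c hec, sub_self, sub_zero]
  unfold QA
  rw [← map_mul, h]

omit hec in
theorem sum_X_tmul_QA (X : Matrix (Fin d) (Fin d) A) (i j : Fin d) :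
    ∑ l, X i l ⊗ₜ[R] QA A e c l j = ((X * QA A e c) i j) ⊗ₜ[R] (1 : A) := by
  rw [Matrix.mul_apply, TensorProduct.sum_tmul]
  refine Finset.sum_congr rfl fun l _ => ?_
  have h : QA A e c l j = algebraMap R A ((1 - Pm e c) l j) := rfl
  rw [h, Algebra.algebraMap_eq_smul_one, TensorProduct.tmul_smul, mul_smul_comm, mul_one,
    TensorProduct.smul_tmul']

omit hec in
theorem sum_QA_tmul_Y (Y : Matrix (Fin d) (Fin d) A) (i j : Fin d) :
    ∑ l, QA A e c i l ⊗ₜ[R] Y l j = (1 : A) ⊗ₜ[R] ((QA A e c * Y) i j) := by
  rw [Matrix.mul_apply, TensorProduct.tmul_sum]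
  refine Finset.sum_congr rfl fun l _ => ?_
  have h : QA A e c i l = algebraMap R A ((1 - Pm e c) i l) := rfl
  rw [h, Algebra.algebraMap_eq_smul_one, TensorProduct.smul_tmul, smul_mul_assoc, one_mul]

omit hec in
theorem comul_QA (i j : Fin d) :
    CoalgebraStruct.comul (R := R) (QA A e c i j) = QA A e c i j ⊗ₜ[R] (1 : A) := by
  have h : QA A e c i j = algebraMap R A ((1 - Pm e c) i j) := rfl
  rw [h, Bialgebra.comul_algebraMap, Algebra.TensorProduct.algebraMap_apply]

theorem comul_amat (i j : Fin d) :
    CoalgebraStruct.comul (R := R) (amat A e c i j) =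
      ∑ l, amat A e c i l ⊗ₜ[R] amat A e c l j := by
  have e1 : ∀ i j, amat A e c i j = bmat A e c i j + QA A e c i j := fun i j => rfl
  simp only [e1, map_add, TensorProduct.add_tmul, TensorProduct.tmul_add,
    Finset.sum_add_distrib]
  rw [comul_bmat e c hec i j, comul_QA e c i j, sum_X_tmul_QA e c (bmat A e c) i j,
    sum_QA_tmul_Y e c (bmat A e c) i j, sum_X_tmul_QA e c (QA A e c) i j,
    bmat_mul_QA e c hec, QA_mul_bmat e c hec, QA_mul_QA e c hec]
  simp only [Matrix.zero_apply, TensorProduct.zero_tmul, TensorProduct.tmul_zero, add_zero,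
    zero_add]

theorem counit_amat (i j : Fin d) :
    CoalgebraStruct.counit (R := R) (amat A e c i j) = if i = j then 1 else 0 := by
  have e1 : amat A e c i j = bmat A e c i j + algebraMap R A ((1 - Pm e c) i j) := rfl
  rw [e1, map_add, counit_bmat e c hec, Bialgebra.counit_algebraMap, Matrix.sub_apply,
    Matrix.one_apply]
  show c i (e j) + ((if i = j then 1 else 0) - c i (e j)) = _
  ring

theorem amat_mul_antipode :
    amat A e c * (amat A e c).map (HopfAlgebra.antipode R) = 1 := by
  ext i j
  rw [Matrix.mul_apply]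
  have h := HopfAlgebra.mul_antipode_lTensor_comul_apply (R := R) (amat A e c i j)
  rw [comul_amat e c hec i j, map_sum, map_sum, counit_amat e c hec i j] at h
  simp only [LinearMap.lTensor_tmul, LinearMap.mul'_apply] at h
  simp only [Matrix.map_apply]
  rw [h, Matrix.one_apply]
  split_ifs
  · exact map_one _
  · exact map_zero _

end Mat

section Main

theorem main6081 (R : Type u) [CommRing R] [IsNoetherianRing R]
    (A : Type u) [CommRing A] [HopfAlgebra R A] [Module.Flat R A] [Algebra.FiniteType R A]
    (hRE : ∀ (F : Type u) [AddCommGroup F] [Module R F] [HopfRep.Comod R A F] [Module.Finite R F],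
      ∃ (E : Type u) (_ : AddCommGroup E) (_ : Module R E) (_ : HopfRep.Comod R A E) (π : E →ₗ[R] F),
        Module.Finite R E ∧ Module.Projective R E ∧ Function.Surjective π ∧
        HopfRep.Comod.coact (k := R) (A := A) ∘ₗ π = π.rTensor A ∘ₗ HopfRep.Comod.coact (k := R) (A := A) (V := E)) :
    ∃ (d : ℕ) (a : Matrix (Fin d) (Fin d) A),
      (∀ i j, CoalgebraStruct.comul (R := R) (a i j) = ∑ l, a i l ⊗ₜ[R] a l j) ∧
      (∀ i j, CoalgebraStruct.counit (R := R) (a i j) = if i = j then 1 else 0) ∧
      ∃ u : A, u * a.det = 1 ∧ Algebra.adjoin R (Set.range (fun p : Fin d × Fin d => a p.1 p.2) ∪ {u}) = ⊤ := by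
  classical
  obtain ⟨s, hs⟩ := (Algebra.FiniteType.out : (⊤ : Subalgebra R A).FG)
  obtain ⟨W, hW, hMW, hWfg⟩ := Groth.Agent.S3032.result R A A (Submodule.span R (s : Set A))
    (Submodule.fg_span s.finite_toSet)
  letI cW : HopfRep.Comod R A W := ComodSub.Comod.restr (HopfRep.Comod.regular R A) W hW
  haveI : Module.Finite R W := Module.Finite.iff_fg.mpr hWfg
  obtain ⟨E, iE1, iE2, cE, π, hEf, hEp, hπs, hπ⟩ := hRE W
  -- the comodule map to the regular comodule
  have hp : ∀ y : E, CoalgebraStruct.comul (R := R) ((π y : W) : A) =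
      (W.subtype ∘ₗ π).rTensor A (cE.coact y) := by
    intro y
    have h1 := ComodSub.restr_coact_coe (HopfRep.Comod.regular R A) W hW (π y)
    have h2 := LinearMap.congr_fun hπ y
    simp only [LinearMap.comp_apply] at h2
    rw [LinearMap.rTensor_comp, LinearMap.comp_apply, ← h2]
    exact h1.symm
  -- coordinates on the projective module
  obtain ⟨d, f, hf⟩ := Module.Finite.exists_fin' R E
  obtain ⟨g, hg⟩ := Module.projective_lifting_property f LinearMap.id hf
  let e : Fin d → E := fun j => f (fun k => if j = k then 1 else 0)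
  let c : Fin d → (E →ₗ[R] R) := fun i => LinearMap.proj i ∘ₗ g
  have hec : ∀ x : E, ∑ i, c i x • e i = x := by
    intro x
    have h1 := LinearMap.pi_apply_eq_sum_univ f (g x)
    have h2 : f (g x) = x := LinearMap.congr_fun hg x
    rw [h2] at h1
    exact h1.symm
  refine ⟨d, amat A e c, comul_amat e c hec, counit_amat e c hec,
    ((amat A e c).map (HopfAlgebra.antipode R)).det, ?_, ?_⟩
  · rw [mul_comm, ← Matrix.det_mul, amat_mul_antipode e c hec, Matrix.det_one]
  · -- generation
    set T := Algebra.adjoin R (Set.range (fun p : Fin d × Fin d => amat A e c p.1 p.2) ∪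
      {((amat A e c).map (HopfAlgebra.antipode R)).det}) with hT
    have ha : ∀ i j, amat A e c i j ∈ T := fun i j =>
      Algebra.subset_adjoin (Or.inl ⟨(i, j), rfl⟩)
    have hb : ∀ i j, bmat A e c i j ∈ T := by
      intro i j
      have h : bmat A e c i j = amat A e c i j - algebraMap R A ((1 - Pm e c) i j) := by
        have e1 : amat A e c i j = bmat A e c i j + algebraMap R A ((1 - Pm e c) i j) := rfl
        rw [e1, add_sub_cancel_right]
      rw [h]
      exact T.sub_mem (ha i j) (T.algebraMap_mem _)
    have hpe : ∀ j, ((π (e j) : W) : A) =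
        ∑ l, CoalgebraStruct.counit (R := R) ((π (e l) : W) : A) • bmat A e c l j := by
      intro j
      have h1 := Coalgebra.rTensor_counit_comul (R := R) ((π (e j) : W) : A)
      rw [hp (e j), coact_e e c hec j, map_sum, map_sum] at h1
      simp only [LinearMap.rTensor_tmul, LinearMap.comp_apply, Submodule.subtype_apply] at h1
      have h2 := congrArg (TensorProduct.lid R A) h1
      rw [map_sum] at h2
      simp only [TensorProduct.lid_tmul, one_smul] at h2
      exact h2.symm
    have hW' : ∀ w : W, (w : A) ∈ T := by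
      intro w
      obtain ⟨y, rfl⟩ := hπs w
      have h1 : (π y : W) = ∑ j, c j y • π (e j) := by
        conv_lhs => rw [← hec y]
        rw [map_sum]
        exact Finset.sum_congr rfl fun j _ => map_smul _ _ _
      rw [h1]
      push_cast
      refine T.sum_mem fun j _ => ?_
      refine T.smul_mem ?_ _
      rw [hpe j]
      exact T.sum_mem fun l _ => T.smul_mem (hb l j) _
    rw [eq_top_iff, ← hs]
    refine Algebra.adjoin_le fun x hx => ?_
    exact hW' ⟨x, hMW (Submodule.subset_span hx)⟩

end Main

end Groth.Agent.Lib.ResolGLH4
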