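import Groth.Agent.Lib.RegDimTwo2_helper1
import Groth.Agent.Lib.ResolGL_helper4

/-!
# Flat Hopf algebras over a regular ring of dimension `≤ 2`: finite projective subcomodules and
matrix corepresentations (helper1)
-/

set_option autoImplicit false
set_option maxHeartbeats 1000000
universe u

namespace Groth.Agent.Lib.RegDimTwoH1

open TensorProduct
open Groth.Agent.Lib.Comod_helper9 Groth.Agent.Lib.IndHom_helper9

section Sub

variable (R : Type u) [CommRing R] [IsRegularRing R] (A : Type u) [CommRing A] [HopfAlgebra R A]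
  [Module.Flat R A]

/-- every finite subset of a flat Hopf algebra over a regular ring of dimension `≤ 2` lies in a
subcomodule (of the regular comodule) which is finitely generated and projective -/
theorem exists_projective_subcomod (hdim : ringKrullDim R ≤ 2) (F : Finset A) :
    ∃ W : Submodule R A, HopfRep.IsSubcomod (k := R) (A := A) W ∧ (↑F : Set A) ⊆ W ∧ W.FG ∧
      Module.Projective R W := by
  classical
  choose S hS using fun v : A => TensorProduct.exists_finset (CoalgebraStruct.comul (R := R) v)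
  let T : Finset A := F.biUnion fun v => (S v).image Prod.fst
  obtain ⟨N, hTN, hNfg, hNproj⟩ := exists_projective_hull R hdim A (Submodule.span R (T : Set A))
    (Submodule.fg_span T.finite_toSet)
  let f : A →ₗ[R] Hoch.Ind R A (A ⧸ N) := indMap (C := A) N.mkQ ∘ₗ Hoch.toInd R A A
  have hf : Hoch.IsComodHom A f := isComodHom_comp _ _ (isComodHom_indMap _) (isComodHom_toInd A)
  have hfv : ∀ v, f v = N.mkQ.rTensor A (CoalgebraStruct.comul (R := R) v) := fun v => rfl
  have hsub : HopfRep.IsSubcomod (k := R) (A := A) (LinearMap.ker f) := isSubcomod_ker f hf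
  have hFW : (↑F : Set A) ⊆ LinearMap.ker f := by
    intro v hv
    rw [SetLike.mem_coe, LinearMap.mem_ker, hfv, hS v, map_sum]
    apply Finset.sum_eq_zero
    intro i hi
    rw [LinearMap.rTensor_tmul]
    have : i.1 ∈ N := by
      apply hTN
      apply Submodule.subset_span
      rw [Finset.mem_coe, Finset.mem_biUnion]
      exact ⟨v, hv, Finset.mem_image_of_mem _ hi⟩
    rw [Submodule.mkQ_apply, (Submodule.Quotient.mk_eq_zero N).mpr this, zero_tmul]
    rfl
  have hWN : LinearMap.ker f ≤ N := by
    intro v hv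
    rw [LinearMap.mem_ker, hfv] at hv
    have hv' : N.mkQ.rTensor A (CoalgebraStruct.comul (R := R) v) = (0 : (A ⧸ N) ⊗[R] A) := hv
    have h1 := Coalgebra.lTensor_counit_comul (R := R) v
    have e : (Coalgebra.counit (R := R) (A := A)).lTensor (A ⧸ N) ∘ₗ N.mkQ.rTensor A =
        N.mkQ.rTensor R ∘ₗ (Coalgebra.counit (R := R) (A := A)).lTensor A := by
      rw [LinearMap.lTensor_comp_rTensor, LinearMap.rTensor_comp_lTensor]
    have h2 : (Coalgebra.counit (R := R) (A := A)).lTensor (A ⧸ N)
        (N.mkQ.rTensor A (CoalgebraStruct.comul (R := R) v)) =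
        N.mkQ.rTensor R ((Coalgebra.counit (R := R) (A := A)).lTensor A
          (CoalgebraStruct.comul (R := R) v)) :=
      LinearMap.congr_fun e (CoalgebraStruct.comul (R := R) v)
    rw [hv', map_zero, h1, LinearMap.rTensor_tmul] at h2
    have h3 := congrArg (TensorProduct.rid R (A ⧸ N)) h2
    rw [map_zero, TensorProduct.rid_tmul, one_smul] at h3
    exact (Submodule.Quotient.mk_eq_zero N).mp h3.symm
  have hWfg : (LinearMap.ker f).FG := Submodule.FG.of_le hNfg hWN
  refine ⟨LinearMap.ker f, hsub, hFW, hWfg, ?_⟩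
  -- projectivity: the subcomodule is the kernel of a map of flat modules
  obtain ⟨g, hgdef⟩ : ∃ g : ↥N ⊗[R] A →ₗ[R] A ⊗[R] A, g = N.subtype.rTensor A := ⟨_, rfl⟩
  have hg : Function.Injective g := by
    rw [hgdef]
    exact Module.Flat.rTensor_preserves_injective_linearMap _ N.injective_subtype
  have hex : Function.Exact g (N.mkQ.rTensor A) := by
    rw [hgdef]
    exact rTensor_exact A (LinearMap.exact_subtype_mkQ N) (Submodule.mkQ_surjective N)
  obtain ⟨m, hmdef⟩ : ∃ m : A ⊗[R] A →ₗ[R] A, m = (TensorProduct.rid R A).toLinearMap ∘ₗ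
      (Coalgebra.counit (R := R) (A := A)).lTensor A := ⟨_, rfl⟩
  have hmΔ : ∀ a : A, m (CoalgebraStruct.comul (R := R) a) = a := by
    intro a
    rw [hmdef, LinearMap.comp_apply, Coalgebra.lTensor_counit_comul, LinearEquiv.coe_coe,
      TensorProduct.rid_tmul, one_smul]
  obtain ⟨φ, hφdef⟩ : ∃ φ : ↥N ⊗[R] A →ₗ[R] A ⊗[R] A,
      φ = g - (CoalgebraStruct.comul (R := R) (A := A)) ∘ₗ m ∘ₗ g := ⟨_, rfl⟩
  have hφ : ∀ z, φ z = g z - CoalgebraStruct.comul (R := R) (m (g z)) := by
    intro z
    rw [hφdef]
    rfl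
  obtain ⟨ψ, hψdef⟩ : ∃ ψ : LinearMap.ker φ →ₗ[R] A,
      ψ = m ∘ₗ g ∘ₗ (LinearMap.ker φ).subtype := ⟨_, rfl⟩
  have hψ : ∀ z : LinearMap.ker φ, ψ z = m (g z.1) := by
    intro z
    rw [hψdef]
    rfl
  have hker : ∀ z : LinearMap.ker φ, g z.1 = CoalgebraStruct.comul (R := R) (ψ z) := by
    intro z
    have h := z.2
    rw [LinearMap.mem_ker, hφ, sub_eq_zero] at h
    rw [hψ]
    exact h
  have hψinj : Function.Injective ψ := by
    intro z z' hzz
    apply Subtype.ext
    apply hg
    rw [hker z, hker z', hzz]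
  have hrange : LinearMap.range ψ = LinearMap.ker f := by
    ext a
    constructor
    · rintro ⟨z, rfl⟩
      rw [LinearMap.mem_ker, hfv, ← hker z]
      exact hex.apply_apply_eq_zero z.1
    · intro ha
      rw [LinearMap.mem_ker, hfv] at ha
      obtain ⟨z, hz⟩ := (hex (CoalgebraStruct.comul (R := R) a)).mp ha
      have hzk : z ∈ LinearMap.ker φ := by
        rw [LinearMap.mem_ker, hφ, hz, hmΔ, sub_self]
      refine ⟨⟨z, hzk⟩, ?_⟩
      rw [hψ]
      show m (g z) = a
      rw [hz, hmΔ]
  obtain ⟨e⟩ : Nonempty (LinearMap.ker φ ≃ₗ[R] LinearMap.ker f) :=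
    ⟨(LinearEquiv.ofInjective ψ hψinj).trans (LinearEquiv.ofEq _ _ hrange)⟩
  haveI : Module.Finite R (LinearMap.ker f) := Module.Finite.iff_fg.mpr hWfg
  haveI : Module.Finite R (LinearMap.ker φ) := Module.Finite.equiv e.symm
  haveI : Module.Projective R ↥N := hNproj
  have hKproj : Module.Projective R (LinearMap.ker φ) :=
    projective_ker_of_flat R hdim (↥N ⊗[R] A) (A ⊗[R] A) φ
  exact Module.Projective.of_equiv e

end Sub

section Main

open Groth.Agent.Lib.ResolGLH4

theorem main6080 (R : Type u) [CommRing R] [IsRegularRing R]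
    (hdim : ringKrullDim R ≤ 2) (A : Type u) [CommRing A] [HopfAlgebra R A] [Module.Flat R A]
    (F : Finset A) :
    ∃ (d : ℕ) (a : Matrix (Fin d) (Fin d) A),
      (∀ i j, CoalgebraStruct.comul (R := R) (a i j) = ∑ l, a i l ⊗ₜ[R] a l j) ∧
      (∀ i j, CoalgebraStruct.counit (R := R) (a i j) = if i = j then 1 else 0) ∧
      ∃ u : A, u * a.det = 1 ∧ (↑F : Set A) ⊆
        Algebra.adjoin R (Set.range (fun p : Fin d × Fin d => a p.1 p.2) ∪ {u}) := by
  classical
  obtain ⟨W, hW, hFW, hWfg, hWproj⟩ := exists_projective_subcomod R A hdim F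
  letI cW : HopfRep.Comod R A W := ComodSub.Comod.restr (HopfRep.Comod.regular R A) W hW
  haveI : Module.Finite R W := Module.Finite.iff_fg.mpr hWfg
  have hp : ∀ y : W, CoalgebraStruct.comul (R := R) (y : A) =
      W.subtype.rTensor A (cW.coact y) := by
    intro y
    exact (ComodSub.restr_coact_coe (HopfRep.Comod.regular R A) W hW y).symm
  obtain ⟨d, f, hf⟩ := Module.Finite.exists_fin' R W
  obtain ⟨g, hg⟩ := Module.projective_lifting_property f LinearMap.id hf
  let e : Fin d → W := fun j => f (fun k => if j = k then 1 else 0)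
  let c : Fin d → (W →ₗ[R] R) := fun i => LinearMap.proj i ∘ₗ g
  have hec : ∀ x : W, ∑ i, c i x • e i = x := by
    intro x
    have h1 := LinearMap.pi_apply_eq_sum_univ f (g x)
    have h2 : f (g x) = x := LinearMap.congr_fun hg x
    rw [h2] at h1
    exact h1.symm
  refine ⟨d, amat A e c, comul_amat e c hec, counit_amat e c hec,
    ((amat A e c).map (HopfAlgebra.antipode R)).det, ?_, ?_⟩
  · rw [mul_comm, ← Matrix.det_mul, amat_mul_antipode e c hec, Matrix.det_one]
  · set T := Algebra.adjoin R (Set.range (fun p : Fin d × Fin d => amat A e c p.1 p.2) ∪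
      {((amat A e c).map (HopfAlgebra.antipode R)).det}) with hT
    have ha : ∀ i j, amat A e c i j ∈ T := fun i j =>
      Algebra.subset_adjoin (Or.inl ⟨(i, j), rfl⟩)
    have hb : ∀ i j, bmat A e c i j ∈ T := by
      intro i j
      have h : bmat A e c i j = amat A e c i j - algebraMap R A ((1 - Pm e c) i j) := by
        have e1 : amat A e c i j = bmat A e c i j + algebraMap R A ((1 - Pm e c) i j) := rfl
        rw [e1, add_sub_cancel_right]
      rw [h]
      exact T.sub_mem (ha i j) (T.algebraMap_mem _)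
    have hpe : ∀ j, ((e j : W) : A) =
        ∑ l, CoalgebraStruct.counit (R := R) ((e l : W) : A) • bmat A e c l j := by
      intro j
      have h1 := Coalgebra.rTensor_counit_comul (R := R) ((e j : W) : A)
      rw [hp (e j), coact_e e c hec j, map_sum, map_sum] at h1
      simp only [LinearMap.rTensor_tmul, Submodule.subtype_apply] at h1
      have h2 := congrArg (TensorProduct.lid R A) h1
      rw [map_sum] at h2
      simp only [TensorProduct.lid_tmul, one_smul] at h2
      exact h2.symm
    have hW' : ∀ w : W, (w : A) ∈ T := by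
      intro w
      have h1 : (w : A) = ∑ j, c j w • ((e j : W) : A) := by
        have := congrArg (W.subtype) (hec w)
        rw [map_sum] at this
        simp only [map_smul, Submodule.subtype_apply] at this
        exact this.symm
      rw [h1]
      refine T.sum_mem fun j _ => ?_
      refine T.smul_mem ?_ _
      rw [hpe j]
      exact T.sum_mem fun l _ => T.smul_mem (hb l j) _
    intro x hx
    exact hW' ⟨x, hFW hx⟩

end Main

end Groth.Agent.Lib.RegDimTwoH1
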