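import Mathlib

/-!
# Local embedding of a scheme locally of finite type over a field into affine space (helper3)

APPEND-ONLY once landed.
-/

set_option autoImplicit false
universe u

open CategoryTheory CategoryTheory.Limits AlgebraicGeometry

namespace Groth.Agent.Lib.RegEmbedH3

/-- Stalks of the spectrum of a regular ring are regular local rings. -/
theorem spec_stalk (R : CommRingCat.{u}) [IsRegularRing R] (q : Spec R) :
    IsRegularLocalRing ((Spec R).presheaf.stalk q) := by
  let k : Algebra ↑R ↑((Spec R).presheaf.stalk q) := StructureSheaf.stalkAlgebra (↑R) q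
  have : IsLocalization.AtPrime (↑((Spec R).presheaf.stalk q))
      (show PrimeSpectrum R from q).asIdeal := StructureSheaf.IsLocalization.to_stalk R q
  haveI : IsRegularLocalRing (Localization.AtPrime (show PrimeSpectrum R from q).asIdeal) :=
    IsRegularRing.isRegularLocalRing_localization _
  exact IsRegularLocalRing.of_ringEquiv
    (IsLocalization.algEquiv (show PrimeSpectrum R from q).asIdeal.primeCompl
      (Localization.AtPrime (show PrimeSpectrum R from q).asIdeal)
      ((Spec R).presheaf.stalk q)).toRingEquiv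

/-- An affine scheme of finite type over a field embeds as a closed subscheme of affine space. -/
theorem exists_closedImmersion_affine (k : Type u) [Field k] {Z : Scheme.{u}} [IsAffine Z]
    (h : Z ⟶ Spec (CommRingCat.of k)) [LocallyOfFiniteType h] :
    ∃ (n : ℕ) (i : Z ⟶ Spec (CommRingCat.of (MvPolynomial (Fin n) k))),
      IsClosedImmersion i ∧
        i ≫ Spec.map (CommRingCat.ofHom (MvPolynomial.C : k →+* MvPolynomial (Fin n) k)) = h := by
  have hft : RingHom.FiniteType h.appTop.hom :=
    (HasRingHomProperty.iff_of_isAffine (P := @LocallyOfFiniteType)).1 inferInstance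
  obtain ⟨ψ, hψ⟩ : ∃ ψ : CommRingCat.of k ⟶ Γ(Z, ⊤),
      ψ = (Scheme.ΓSpecIso (CommRingCat.of k)).inv ≫ h.appTop := ⟨_, rfl⟩
  have hψft : ψ.hom.FiniteType := by
    rw [hψ, CommRingCat.hom_comp]
    exact hft.comp (RingHom.FiniteType.of_surjective _
      (ConcreteCategory.bijective_of_isIso (Scheme.ΓSpecIso (CommRingCat.of k)).inv).2)
  have hcomm : h = Z.toSpecΓ ≫ Spec.map ψ := by
    rw [hψ, Spec.map_comp, ← Category.assoc, ← Scheme.toSpecΓ_naturality, Category.assoc,
      toSpecΓ_SpecMap_ΓSpecIso_inv, Category.comp_id]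
  letI alg : Algebra k Γ(Z, ⊤) := ψ.hom.toAlgebra
  haveI : Algebra.FiniteType k Γ(Z, ⊤) := hψft
  obtain ⟨n, φ, hφ⟩ := Algebra.FiniteType.iff_quotient_mvPolynomial''.1
    (inferInstance : Algebra.FiniteType k Γ(Z, ⊤))
  refine ⟨n, Z.toSpecΓ ≫ Spec.map (CommRingCat.ofHom φ.toRingHom), ?_, ?_⟩
  · haveI : IsClosedImmersion (Spec.map (CommRingCat.ofHom φ.toRingHom)) :=
      IsClosedImmersion.spec_of_surjective _ hφ
    infer_instance
  · rw [hcomm, Category.assoc, ← Spec.map_comp]
    congr 2
    ext r
    exact φ.commutes r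

/-- **EGA IV 6.?**: a scheme locally of finite type over a field locally embeds in a regular
`k`-scheme (affine space). -/
theorem main4732 (k : Type u) [Field k] {X : Scheme.{u}}
    (f : X ⟶ Spec (CommRingCat.of k)) [LocallyOfFiniteType f] (x : X) :
    ∃ (U : X.Opens) (_ : x ∈ U) (Y : Scheme.{u}) (g : Y ⟶ Spec (CommRingCat.of k))
      (i : (U : Scheme.{u}) ⟶ Y),
      IsImmersion i ∧ i ≫ g = U.ι ≫ f ∧ ∀ y : Y, IsRegularLocalRing (Y.presheaf.stalk y) := by
  obtain ⟨U, hU, hxU, -⟩ := exists_isAffineOpen_mem_and_subset (x := x) (U := ⊤) trivial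
  haveI : IsAffine (U : Scheme.{u}) := hU
  obtain ⟨n, i, hi, hcomm⟩ := exists_closedImmersion_affine k (U.ι ≫ f)
  refine ⟨U, hxU, Spec (CommRingCat.of (MvPolynomial (Fin n) k)),
    Spec.map (CommRingCat.ofHom (MvPolynomial.C : k →+* MvPolynomial (Fin n) k)), i,
    inferInstance, hcomm, ?_⟩
  intro y
  haveI : IsRegularRing (CommRingCat.of (MvPolynomial (Fin n) k)) :=
    inferInstanceAs (IsRegularRing (MvPolynomial (Fin n) k))
  exact spec_stalk _ y

end Groth.Agent.Lib.RegEmbedH3
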