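import Mathlib
import Groth.Agent.Lib.LocalCrit_helper9

/-! Regular sequences and flatness over a Noetherian local base (EGA 0_IV 15.1.14–16). -/

namespace Groth.Agent.Lib.RegFlat

open IsLocalRing RingTheory.Sequence Submodule
open scoped Pointwise

universe u

section descent

variable {A B : Type u} [CommRing A] [CommRing B] [IsLocalRing B] [IsNoetherianRing B] [Algebra A B]

/-- `M ⧸ ⊥ • ⊤ ≅ M`, `A`-linearly. -/
noncomputable def quotNilEquiv (M : Type u) [AddCommGroup M] [Module B M] [Module A M]
    [IsScalarTower A B M] :
    (M ⧸ (Ideal.ofList ([] : List B) • ⊤ : Submodule B M)) ≃ₗ[A] M :=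
  (quotEquivOfEqBot _ (by rw [Ideal.ofList_nil, Submodule.bot_smul])).restrictScalars A

/-- descending flatness along a regular sequence in the maximal ideal. -/
theorem flat_take (fs : List B) : ∀ (M : Type u) [AddCommGroup M] [Module B M] [Module A M]
    [IsScalarTower A B M] [Module.Finite B M],
    (∀ f ∈ fs, f ∈ maximalIdeal B) → IsWeaklyRegular M fs →
    Module.Flat A (M ⧸ (Ideal.ofList fs • (⊤ : Submodule B M))) →
    ∀ i ≤ fs.length, Module.Flat A (M ⧸ (Ideal.ofList (fs.take i) • (⊤ : Submodule B M))) := by
  induction fs with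
  | nil =>
    intro M _ _ _ _ _ _ _ hflat i _
    rw [List.take_nil]
    exact hflat
  | cons r rs ih =>
    intro M _ _ _ _ _ hfs hreg hflat i hi
    rw [isWeaklyRegular_cons_iff] at hreg
    obtain ⟨hr, hrs⟩ := hreg
    haveI : Module.Flat A (QuotSMulTop r M ⧸ (Ideal.ofList rs • ⊤ : Submodule B (QuotSMulTop r M))) :=
      Module.Flat.of_linearEquiv
        ((quotOfListConsSMulTopEquivQuotSMulTopInner M r rs).symm.restrictScalars A)
    have ih' := ih (QuotSMulTop r M) (fun f hf => hfs f (List.mem_cons_of_mem _ hf)) hrs
      inferInstance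
    cases i with
    | zero =>
      rw [List.take_zero]
      have h0 := ih' 0 (Nat.zero_le _)
      rw [List.take_zero] at h0
      haveI : Module.Flat A (QuotSMulTop r M) :=
        Module.Flat.of_linearEquiv (quotNilEquiv (A := A) (B := B) (QuotSMulTop r M)).symm
      haveI : Module.Flat A (M ⧸ (Ideal.span {r} • (⊤ : Submodule B M))) :=
        Module.Flat.of_linearEquiv ((quotEquivOfEq _ _
          (Submodule.ideal_span_singleton_smul r ⊤)).restrictScalars A)
      haveI : Module.Flat A M := Groth.Agent.Lib.LocalCrit.flat_of_regular_of_flat_quot r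
        (hfs r List.mem_cons_self) M hr inferInstance
      exact Module.Flat.of_linearEquiv (quotNilEquiv (A := A) (B := B) M)
    | succ j =>
      rw [List.take_succ_cons]
      have hj := ih' j (by simpa using hi)
      exact Module.Flat.of_linearEquiv
        ((quotOfListConsSMulTopEquivQuotSMulTopInner M r (rs.take j)).restrictScalars A)

end descent

end Groth.Agent.Lib.RegFlat
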