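import Mathlib
import Groth.Agent.Lib.LocalCrit3_helper9
import Groth.Agent.Lib.LocalCrit4_helper9
import Groth.Agent.Lib.ArtinLocalReg_helper9
import Groth.Agent.Lib.RegFlat_helper9

/-! Lifting regular sequences from the closed fibre (EGA 0_IV 15.1.16). -/

namespace Groth.Agent.Lib.RegFlat2

open IsLocalRing RingTheory.Sequence Submodule TensorProduct
open Groth.Agent.Lib.ArtinLocalFlat Groth.Agent.Lib.ArtinLocalReg
open scoped Pointwise

universe u

variable {A B : Type u} [CommRing A] [CommRing B] [IsLocalRing A] [IsLocalRing B]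
  [IsNoetherianRing A] [IsNoetherianRing B] [Algebra A B] [IsLocalHom (algebraMap A B)]

section single

variable (M : Type u) [AddCommGroup M] [Module B M] [Module A M] [IsScalarTower A B M]
  [Module.Finite B M] [Module.Flat A M] (r : B)
  (hr : IsSMulRegular (M ⧸ ((maximalIdeal A).map (algebraMap A B) • ⊤ : Submodule B M)) r)

include hr

omit [IsNoetherianRing A] [IsNoetherianRing B] [IsLocalRing B] [IsLocalHom (algebraMap A B)]
  [Module.Finite B M] in
/-- `Tor`-vanishing for all modules killed by a power of the maximal ideal. -/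
lemma lTensor_injective (k : ℕ) (N : Type u) [AddCommGroup N] [Module A N]
    (hN : ∀ x ∈ maximalIdeal A ^ k, ∀ y : N, x • y = 0) :
    Function.Injective (((LinearMap.lsmul B M r).restrictScalars A).lTensor N) := by
  letI := Ideal.Quotient.field (maximalIdeal A)
  haveI : Module.Flat (A ⧸ maximalIdeal A)
      ((A ⧸ maximalIdeal A) ⊗[A] (QuotSMulTop r M)) := inferInstance
  have hex : Function.Exact ((LinearMap.lsmul B M r).restrictScalars A)
      (((r • ⊤ : Submodule B M).mkQ).restrictScalars A) := by
    intro y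
    simp only [LinearMap.coe_restrictScalars, Submodule.mkQ_apply, Submodule.Quotient.mk_eq_zero,
      Submodule.mem_smul_pointwise_iff_exists, Submodule.mem_top, true_and, Set.mem_range,
      LinearMap.lsmul_apply]
  refine Groth.Agent.Lib.LocalCrit4.T1_of_pow_torsion _ _ hex (Submodule.mkQ_surjective _)
    (maximalIdeal A) ?_ k N hN
  rw [← injMod_iff_lTensor, ← isSMulRegular_quot_iff]
  exact hr

omit [IsNoetherianRing A] in
theorem isSMulRegular : IsSMulRegular M r := by
  rw [isSMulRegular_iff_right_eq_zero_of_smul]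
  intro x hx
  have hle : (maximalIdeal A).map (algebraMap A B) ≤ Ideal.jacobson ⊥ := by
    rw [IsLocalRing.jacobson_eq_maximalIdeal ⊥ bot_ne_top]
    exact ((IsLocalRing.local_hom_TFAE (algebraMap A B)).out 0 2).mp ‹_›
  have hkrull := Ideal.iInf_pow_smul_eq_bot_of_le_jacobson (M := M) _ hle
  have hmem : x ∈ (⨅ i : ℕ, ((maximalIdeal A).map (algebraMap A B)) ^ i • ⊤ : Submodule B M) := by
    rw [Submodule.mem_iInf]
    intro k
    have h1 := lTensor_injective M r hr k (A ⧸ maximalIdeal A ^ k) (by
      intro a ha y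
      obtain ⟨y, rfl⟩ := Ideal.Quotient.mk_surjective y
      rw [Algebra.smul_def, Ideal.Quotient.algebraMap_eq, ← map_mul,
        Ideal.Quotient.eq_zero_iff_mem]
      exact Ideal.mul_mem_right _ _ ha)
    rw [← injMod_iff_lTensor] at h1
    have h2 := h1 x (by
      rw [LinearMap.coe_restrictScalars, LinearMap.lsmul_apply, hx]
      exact zero_mem _)
    have h3 := Ideal.smul_restrictScalars (maximalIdeal A ^ k) (⊤ : Submodule B M)
    rw [Submodule.restrictScalars_top] at h3
    rw [← h3, Submodule.restrictScalars_mem, Ideal.map_pow] at h2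
    exact h2
  rw [hkrull] at hmem
  exact hmem

theorem flat_quotSMulTop : Module.Flat A (QuotSMulTop r M) := by
  have hle : (maximalIdeal A).map (algebraMap A B) ≤ Ideal.jacobson ⊥ := by
    rw [IsLocalRing.jacobson_eq_maximalIdeal ⊥ bot_ne_top]
    exact ((IsLocalRing.local_hom_TFAE (algebraMap A B)).out 0 2).mp ‹_›
  refine Groth.Agent.Lib.LocalCrit3.flat_of_forall_flat_quot_pow (S := B) (maximalIdeal A) hle
    (QuotSMulTop r M) (fun n => ?_)
  have hex : Function.Exact ((LinearMap.lsmul B M r).restrictScalars A)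
      (((r • ⊤ : Submodule B M).mkQ).restrictScalars A) := by
    intro y
    simp only [LinearMap.coe_restrictScalars, Submodule.mkQ_apply, Submodule.Quotient.mk_eq_zero,
      Submodule.mem_smul_pointwise_iff_exists, Submodule.mem_top, true_and, Set.mem_range,
      LinearMap.lsmul_apply]
  refine Groth.Agent.Lib.LocalCrit4.flat_baseChange_of_T1 _ _ hex (Submodule.mkQ_surjective _)
    (A ⧸ maximalIdeal A ^ (n + 1)) ?_
  intro N _ _ _ _
  refine lTensor_injective M r hr (n + 1) N ?_
  intro a ha y
  rw [← algebraMap_smul (A ⧸ maximalIdeal A ^ (n + 1)) a y, Ideal.Quotient.algebraMap_eq,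
    Ideal.Quotient.eq_zero_iff_mem.mpr ha, zero_smul]

end single

/-- EGA 0_IV 15.1.16. -/
theorem isWeaklyRegular_and_flat (fs : List B) : ∀ (M : Type u) [AddCommGroup M] [Module B M]
    [Module A M] [IsScalarTower A B M] [Module.Finite B M] [Module.Flat A M],
    IsWeaklyRegular (M ⧸ ((maximalIdeal A).map (algebraMap A B) • (⊤ : Submodule B M))) fs →
    IsWeaklyRegular M fs ∧
      ∀ i ≤ fs.length, Module.Flat A (M ⧸ (Ideal.ofList (fs.take i) • (⊤ : Submodule B M))) := by
  induction fs with
  | nil =>
    intro M _ _ _ _ _ _ _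
    refine ⟨IsWeaklyRegular.nil B M, fun i _ => ?_⟩
    rw [List.take_nil]
    exact Module.Flat.of_linearEquiv (Groth.Agent.Lib.RegFlat.quotNilEquiv (A := A) (B := B) M)
  | cons r rs ih =>
    intro M _ _ _ _ _ _ hreg
    rw [isWeaklyRegular_cons_iff] at hreg
    obtain ⟨h1, h2⟩ := hreg
    have hr := isSMulRegular M r h1
    haveI := flat_quotSMulTop M r h1
    have h3 : IsWeaklyRegular (QuotSMulTop r M ⧸
        (((maximalIdeal A).map (algebraMap A B)) • ⊤ : Submodule B (QuotSMulTop r M))) rs :=
      ((quotSwap M ((maximalIdeal A).map (algebraMap A B)) r).isWeaklyRegular_congr rs).mpr h2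
    obtain ⟨h4, h5⟩ := ih (QuotSMulTop r M) h3
    refine ⟨(isWeaklyRegular_cons_iff M r rs).mpr ⟨hr, h4⟩, fun i hi => ?_⟩
    cases i with
    | zero =>
      rw [List.take_zero]
      exact Module.Flat.of_linearEquiv (Groth.Agent.Lib.RegFlat.quotNilEquiv (A := A) (B := B) M)
    | succ j =>
      rw [List.take_succ_cons]
      haveI := h5 j (by simpa using hi)
      exact Module.Flat.of_linearEquiv
        ((quotOfListConsSMulTopEquivQuotSMulTopInner M r (rs.take j)).restrictScalars A)

end Groth.Agent.Lib.RegFlat2
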