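import Mathlib
import Groth.Agent.Lib.RegFlat2_helper9
import Groth.Agent.Lib.FlatLift_helper9

/-! EGA 0_IV 15.1.18-type statement: identifying a submodule with `(f_1, …, f_n) M`. -/

namespace Groth.Agent.Lib.RegFlat4

open IsLocalRing RingTheory.Sequence Submodule

universe u

theorem isWeaklyRegular_and_eq {A B : Type u} [CommRing A] [CommRing B] [IsLocalRing A]
    [IsLocalRing B] [IsNoetherianRing A] [IsNoetherianRing B] [Algebra A B]
    [IsLocalHom (algebraMap A B)]
    (M : Type u) [AddCommGroup M] [Module B M] [Module A M] [IsScalarTower A B M] [Module.Finite B M]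
    [Module.Flat A M] (R : Submodule B M) (hR : Module.Flat A (M ⧸ R)) (fs : List B)
    (h1 : Ideal.ofList fs • (⊤ : Submodule B M) ≤ R)
    (h2 : IsWeaklyRegular
      (M ⧸ ((maximalIdeal A).map (algebraMap A B) • (⊤ : Submodule B M))) fs)
    (h3 : Ideal.ofList fs • (⊤ : Submodule B
        (M ⧸ ((maximalIdeal A).map (algebraMap A B) • (⊤ : Submodule B M)))) =
      R.map ((maximalIdeal A).map (algebraMap A B) • (⊤ : Submodule B M)).mkQ) :
    IsWeaklyRegular M fs ∧ R = Ideal.ofList fs • (⊤ : Submodule B M) := by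
  refine ⟨(Groth.Agent.Lib.RegFlat2.isWeaklyRegular_and_flat fs M h2).1, le_antisymm ?_ h1⟩
  have hle : (maximalIdeal A).map (algebraMap A B) ≤ Ideal.jacobson ⊥ := by
    rw [IsLocalRing.jacobson_eq_maximalIdeal ⊥ bot_ne_top]
    exact ((IsLocalRing.local_hom_TFAE (algebraMap A B)).out 0 2).mp ‹_›
  have hfg : R.FG := IsNoetherian.noetherian R
  apply Submodule.le_of_le_smul_of_le_jacobson_bot hfg hle
  intro x hx
  have h4 : ((maximalIdeal A).map (algebraMap A B) • (⊤ : Submodule B M)).mkQ x ∈
      R.map ((maximalIdeal A).map (algebraMap A B) • (⊤ : Submodule B M)).mkQ :=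
    Submodule.mem_map_of_mem hx
  rw [← h3] at h4
  have h5 : (Ideal.ofList fs • ⊤ : Submodule B
        (M ⧸ ((maximalIdeal A).map (algebraMap A B) • (⊤ : Submodule B M)))) =
      (Ideal.ofList fs • (⊤ : Submodule B M)).map
        ((maximalIdeal A).map (algebraMap A B) • (⊤ : Submodule B M)).mkQ := by
    rw [map_smul'', Submodule.map_top, range_mkQ]
  rw [h5] at h4
  obtain ⟨y, hy, hyx⟩ := h4
  have h6 : x - y ∈ (maximalIdeal A).map (algebraMap A B) • (⊤ : Submodule B M) := by
    rw [← Submodule.Quotient.mk_eq_zero, Submodule.Quotient.mk_sub, sub_eq_zero]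
    exact hyx.symm
  have h7 := Ideal.smul_restrictScalars (maximalIdeal A) (⊤ : Submodule B M)
  rw [Submodule.restrictScalars_top] at h7
  have h8 : x - y ∈ (maximalIdeal A) • (⊤ : Submodule A M) := by
    rw [← h7]; exact h6
  have h9 : x - y ∈ R := Submodule.sub_mem _ hx (h1 hy)
  have h10 := Groth.Agent.Lib.FlatLift.mem_smul_ker_of_flat (maximalIdeal A)
    (R.mkQ.restrictScalars A) (Submodule.mkQ_surjective R) h8
    ((Submodule.Quotient.mk_eq_zero R).mpr h9)
  have h11 : LinearMap.ker (R.mkQ.restrictScalars A) = R.restrictScalars A := by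
    ext z
    simp
  rw [h11, ← Ideal.smul_restrictScalars] at h10
  have h12 : x = y + (x - y) := by abel
  rw [h12]
  exact Submodule.add_mem_sup hy h10

end Groth.Agent.Lib.RegFlat4
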