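import Mathlib

open RingTheory.Sequence

namespace Groth.Agent.RegHt

universe u

theorem length_le_height {A : Type*} [CommRing A] (rs : List A)
    (h : IsWeaklyRegular A rs) : ∀ (p : Ideal A) [p.IsPrime], Ideal.ofList rs ≤ p →
    (rs.length : ℕ∞) ≤ p.height := by
  induction rs using List.reverseRecOn with
  | nil => intro p _ _; simp
  | append_singleton rs a ih =>
    intro p _ hp
    rw [isWeaklyRegular_append_iff, isWeaklyRegular_singleton_iff] at h
    obtain ⟨h1, h2⟩ := h
    rw [Ideal.ofList_append, Ideal.ofList_singleton, sup_le_iff, Ideal.span_singleton_le_iff_mem]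
      at hp
    obtain ⟨hp1, hap⟩ := hp
    obtain ⟨q, hq, hqp⟩ := Ideal.exists_minimalPrimes_le hp1
    haveI := hq.1.1
    have hlen : (rs.length : ℕ∞) ≤ q.height := ih h1 q hq.1.2
    have hann : Module.annihilator A (A ⧸ (Ideal.ofList rs • ⊤ : Submodule A A)) =
        Ideal.ofList rs := by
      rw [smul_eq_mul, Ideal.mul_top]
      exact Ideal.annihilator_quotient
    have haq : a ∉ q := by
      apply h2.notMem_of_mem_minimalPrimes
      rw [hann]
      exact hq
    have hlt : q < p := lt_of_le_of_ne hqp (fun heq => haq (heq ▸ hap))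
    have := Ideal.height_add_one_le_of_lt_of_isPrime hlt
    rw [List.length_append, List.length_singleton]
    push_cast
    exact (add_le_add_left hlen 1).trans this

end Groth.Agent.RegHt
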