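import Groth.Agent.Lib.RegImmComp_helper2
import Groth.Agent.Lib.RegKindFlat_helper2
import Groth.Agent.Lib.CAlgMisc3_helper1
import Groth.Agent.Lib.QRAppend_helper3

/-!
# Composition of regular immersions of kinds koszul / h1 / quasi (schemes) (helper7)
APPEND-ONLY once landed.
-/

set_option backward.isDefEq.respectTransparency false
set_option backward.isDefEq.respectTransparency.types false
set_option linter.style.haveILetI false
set_option linter.unusedSectionVars false
set_option linter.unusedVariables false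
set_option autoImplicit false
set_option maxHeartbeats 1600000
universe u
open CategoryTheory CategoryTheory.Limits AlgebraicGeometry TopologicalSpace

namespace Groth.Agent.Lib.RegImmCompSpH7

section algebra

variable {A : Type u} [CommRing A]

theorem h1_cast {n n' : ℕ} (h : n' = n) (f : Fin n → A) (hf : CAlgX.IsH1Regular f) :
    CAlgX.IsH1Regular (fun i : Fin n' => f (Fin.cast h i)) := by
  subst h
  exact hf

theorem quasi_cast {n n' : ℕ} (h : n' = n) (f : Fin n → A) (hf : CAlgX.IsQuasiRegular f) :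
    CAlgX.IsQuasiRegular (fun i : Fin n' => f (Fin.cast h i)) := by
  subst h
  exact hf

theorem append_get (rs ts : List A) :
    Fin.append rs.get ts.get =
      fun j => (rs ++ ts).get (Fin.cast (List.length_append).symm j) := by
  funext j
  induction j using Fin.addCases with
  | left j =>
    rw [Fin.append_left]
    simp [List.getElem_append_left]
  | right j =>
    rw [Fin.append_right]
    simp [List.getElem_append_right]

theorem get_append (rs ts : List A) :
    (rs ++ ts).get =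
      fun i => Fin.append rs.get ts.get (Fin.cast List.length_append i) := by
  funext i
  rw [append_get]
  rfl

theorem span_range_get (rs : List A) : Ideal.span (Set.range rs.get) = Ideal.ofList rs := by
  congr 1
  ext x
  constructor
  · rintro ⟨i, rfl⟩
    exact List.get_mem rs i
  · intro hx
    obtain ⟨i, hi⟩ := List.get_of_mem hx
    exact ⟨i, hi⟩

theorem h1_mk_congr {m : ℕ} (g : Fin m → A) (I J : Ideal A) (hIJ : I = J)
    (h : CAlgX.IsH1Regular (fun j => Ideal.Quotient.mk I (g j))) :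
    CAlgX.IsH1Regular (fun j => Ideal.Quotient.mk J (g j)) := by
  subst hIJ
  exact h

theorem h1_map_get (I : Ideal A) (ts : List A)
    (h : CAlgX.IsH1Regular (ts.map (Ideal.Quotient.mk I)).get) :
    CAlgX.IsH1Regular (fun j => Ideal.Quotient.mk I (ts.get j)) := by
  have h' := h1_cast (n := (ts.map (Ideal.Quotient.mk I)).length) (n' := ts.length)
    (List.length_map _).symm _ h
  have heq : (fun i : Fin ts.length => (ts.map (Ideal.Quotient.mk I)).get
      (Fin.cast (List.length_map _).symm i)) = fun j => Ideal.Quotient.mk I (ts.get j) := by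
    funext i
    simp
  rw [heq] at h'
  exact h'

theorem h1_append_list (rs ts : List A) (h1 : CAlgX.IsH1Regular rs.get)
    (h2 : CAlgX.IsH1Regular (ts.map (Ideal.Quotient.mk (Ideal.ofList rs))).get) :
    CAlgX.IsH1Regular (rs ++ ts).get := by
  have h3 := h1_mk_congr ts.get _ _ (span_range_get rs).symm (h1_map_get _ ts h2)
  have h4 := Groth.Agent.Lib.CAlgMisc3H1.h1_append rs.get ts.get h1 h3
  rw [get_append]
  exact h1_cast List.length_append _ h4

theorem quasi_append_list (rs ts : List A) (h1 : CAlgX.IsQuasiRegular rs.get)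
    (h2 : CAlgX.IsH1Regular (ts.map (Ideal.Quotient.mk (Ideal.ofList rs))).get) :
    CAlgX.IsQuasiRegular (rs ++ ts).get := by
  have h3 := h1_mk_congr ts.get _ _ (span_range_get rs).symm (h1_map_get _ ts h2)
  have h4 := Groth.Agent.Lib.QRAppendH3.main rs.get ts.get h1 h3
  rw [get_append]
  exact quasi_cast List.length_append _ h4

end algebra

section scheme

open Groth.Agent.Lib.RegImmComp

variable {X Y Z : Scheme.{u}}

/-- a predicate on finite sequences of ring elements that is stable under flat ring maps -/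
def FlatStable (K : ∀ (R : Type u) [CommRing R], List R → Prop) : Prop :=
  ∀ {R C : Type u} [CommRing R] [CommRing C] (f : R →+* C), f.Flat → ∀ rs : List R,
    K R rs → K C (rs.map f)

/-- shrinking a presentation of an immersion of kind `K` to a basic open -/
theorem shrink_gen (K : ∀ (R : Type u) [CommRing R], List R → Prop) (hK : FlatStable K)
    (i : Z ⟶ X) {U : X.Opens} (hU : IsAffineOpen U)
    (hcU : IsClosedImmersion (i ∣_ U)) (rs : List Γ(X, U))
    (hrs : K Γ(X, U) rs)
    (hkU : RingHom.ker (i.app U).hom = Ideal.ofList rs)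
    (a : Γ(X, U)) (W : X.Opens) (hW : W = X.basicOpen a) :
    IsAffineOpen W ∧ IsClosedImmersion (i ∣_ W) ∧
      ∃ rs' : List Γ(X, W), K Γ(X, W) rs' ∧
        RingHom.ker (i.app W).hom = Ideal.ofList rs' := by
  have hWU : W ≤ U := hW ▸ X.basicOpen_le a
  have hWaff : IsAffineOpen W := hW ▸ hU.basicOpen a
  obtain ⟨hZU, -⟩ := affine_and_surjective i hU hcU
  refine ⟨hWaff, isClosedImmersion_restrict_of_le i hWU hcU,
    rs.map (X.presheaf.map (homOfLE hWU).op).hom, ?_, ?_⟩
  · apply hK _ _ rs hrs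
    letI := (X.presheaf.map (homOfLE hWU).op).hom.toAlgebra
    haveI : IsLocalization (Submonoid.powers a) Γ(X, W) :=
      hU.isLocalization_of_eq_basicOpen a (homOfLE hWU) hW
    have hfl : Module.Flat Γ(X, U) Γ(X, W) := IsLocalization.flat _ (Submonoid.powers a)
    exact hfl
  · rw [ker_app_basicOpen i hU hZU a W hW hWU, hkU, Ideal.map_ofList]

/-- **Composition at a point**, generic in the kinds. -/
theorem comp_at_gen (K1 K2 K3 : ∀ (R : Type u) [CommRing R], List R → Prop)
    (hK1 : FlatStable K1) (hK2 : FlatStable K2)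
    (happ : ∀ {R : Type u} [CommRing R] (rs ts : List R), K1 R rs →
      K2 (R ⧸ Ideal.ofList rs) (ts.map (Ideal.Quotient.mk (Ideal.ofList rs))) → K3 R (rs ++ ts))
    (i : Y ⟶ X) (j : Z ⟶ Y) (z : Z)
    (U : X.affineOpens) (hxU : i (j z) ∈ U.1) (hcU : IsClosedImmersion (i ∣_ U.1))
    (rs : List Γ(X, U.1)) (hrs : K1 Γ(X, U.1) rs)
    (hkU : RingHom.ker (i.app U.1).hom = Ideal.ofList rs)
    (V : Y.affineOpens) (hyV : j z ∈ V.1) (hcV : IsClosedImmersion (j ∣_ V.1))
    (ss : List Γ(Y, V.1)) (hss : K2 Γ(Y, V.1) ss)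
    (hkV : RingHom.ker (j.app V.1).hom = Ideal.ofList ss) :
    ∃ W : X.affineOpens, (j ≫ i) z ∈ W.1 ∧ IsClosedImmersion ((j ≫ i) ∣_ W.1) ∧
      ∃ ts : List Γ(X, W.1), K3 Γ(X, W.1) ts ∧
        RingHom.ker ((j ≫ i).app W.1).hom = Ideal.ofList ts := by
  obtain ⟨hYU, hsurjU⟩ := affine_and_surjective i U.2 hcU
  have hyU : j z ∈ i ⁻¹ᵁ U.1 := hxU
  obtain ⟨b, b', hbb', hyb⟩ := exists_basicOpen_le_affine_inter hYU V.2 (j z) ⟨hyU, hyV⟩
  obtain ⟨a, ha⟩ := hsurjU b
  have hW' : i ⁻¹ᵁ X.basicOpen a = Y.basicOpen b := by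
    rw [Scheme.preimage_basicOpen]
    exact congrArg Y.basicOpen ha
  obtain ⟨hWaff, hcW, rs', hrs', hkW⟩ :=
    shrink_gen K1 hK1 i U.2 hcU rs hrs hkU a (X.basicOpen a) rfl
  obtain ⟨hV'aff, hcV', ss', hss', hkV'⟩ :=
    shrink_gen K2 hK2 j V.2 hcV ss hss hkV b' (i ⁻¹ᵁ X.basicOpen a) (hW'.trans hbb')
  obtain ⟨-, hsurjW⟩ := affine_and_surjective i hWaff hcW
  obtain ⟨ts0, hts0⟩ := (List.map_surjective_iff.mpr hsurjW) ss'
  refine ⟨⟨X.basicOpen a, hWaff⟩, ?_, ?_, rs' ++ ts0, ?_, ?_⟩
  · show j z ∈ i ⁻¹ᵁ X.basicOpen a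
    rw [hW']; exact hyb
  · show IsClosedImmersion ((j ≫ i) ∣_ X.basicOpen a)
    haveI := hcW
    haveI := hcV'
    have h : IsClosedImmersion (j ∣_ (i ⁻¹ᵁ X.basicOpen a) ≫ i ∣_ X.basicOpen a) := inferInstance
    rw [morphismRestrict_comp]
    exact h
  · apply happ rs' ts0 hrs'
    let e0 : (Γ(X, X.basicOpen a) ⧸ RingHom.ker (i.app (X.basicOpen a)).hom) ≃+*
        Γ(Y, i ⁻¹ᵁ X.basicOpen a) :=
      RingHom.quotientKerEquivOfSurjective hsurjW
    let e : Γ(Y, i ⁻¹ᵁ X.basicOpen a) ≃+* (Γ(X, X.basicOpen a) ⧸ Ideal.ofList rs') :=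
      e0.symm.trans (Ideal.quotEquivOfEq hkW)
    have h1 := hK2 e.toRingHom (RingHom.Flat.of_bijective e.bijective) ss' hss'
    have h2 : ss'.map e.toRingHom = ts0.map (Ideal.Quotient.mk (Ideal.ofList rs')) := by
      rw [← hts0, List.map_map]
      apply List.map_congr_left
      intro x _
      show e ((i.app (X.basicOpen a)).hom x) = _
      have : e0.symm ((i.app (X.basicOpen a)).hom x) = Ideal.Quotient.mk _ x := by
        rw [RingEquiv.symm_apply_eq]
        rfl
      show (Ideal.quotEquivOfEq hkW) (e0.symm ((i.app (X.basicOpen a)).hom x)) = _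
      rw [this]
      rfl
    rw [h2] at h1
    exact h1
  · show RingHom.ker ((j ≫ i).app (X.basicOpen a)).hom = _
    have hcomp : ∀ x, ((j ≫ i).app (X.basicOpen a)).hom x =
        (j.app (i ⁻¹ᵁ X.basicOpen a)).hom ((i.app (X.basicOpen a)).hom x) := by
      intro x; rw [Scheme.Hom.comp_app]; rfl
    have hk : RingHom.ker ((j ≫ i).app (X.basicOpen a)).hom =
        Ideal.comap (i.app (X.basicOpen a)).hom
          (RingHom.ker (j.app (i ⁻¹ᵁ X.basicOpen a)).hom) := by
      ext x
      rw [RingHom.mem_ker, Ideal.mem_comap, RingHom.mem_ker, hcomp]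
    rw [hk, hkV', ← hts0, ← Ideal.map_ofList, Ideal.comap_map_of_surjective _ hsurjW,
      ← RingHom.ker_eq_comap_bot, hkW, Ideal.ofList_append, sup_comm]

/-- the sequence predicate of a kind -/
def KSeq (k : RegImm.Kind) : ∀ (R : Type u) [CommRing R], List R → Prop :=
  fun R _ rs => k.Seq R rs

theorem flatStable_h1 : FlatStable (KSeq.{u} RegImm.Kind.h1) := by
  intro R C _ _ f hf rs h
  exact Groth.Agent.Lib.RegKindFlat.h1_map_of_flat f hf rs h

theorem flatStable_quasi : FlatStable (KSeq.{u} RegImm.Kind.quasi) := by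
  intro R C _ _ f hf rs h
  exact Groth.Agent.Lib.RegKindFlat.quasi_map_of_flat f hf rs h

/-- composition of regular immersions of schemes: outer `i` of kind `k1`, inner `j` of kind `h1`,
for `k1 = h1` or `quasi`; the composite is of kind `k1`. -/
theorem comp_h1_inner (k1 : RegImm.Kind) (hk1 : k1 = RegImm.Kind.h1 ∨ k1 = RegImm.Kind.quasi)
    (i : Y ⟶ X) (j : Z ⟶ Y)
    (hi : RegImm.IsRegularImmersion k1 i) (hj : RegImm.IsRegularImmersion RegImm.Kind.h1 j) :
    RegImm.IsRegularImmersion k1 (j ≫ i) := by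
  obtain ⟨hi1, hi2⟩ := hi
  obtain ⟨hj1, hj2⟩ := hj
  refine ⟨inferInstance, fun z => ?_⟩
  obtain ⟨U, hxU, hcU, rs, hrs, hkU⟩ := hi2 (j z)
  obtain ⟨V, hyV, hcV, ss, hss, hkV⟩ := hj2 z
  rcases hk1 with rfl | rfl
  · exact comp_at_gen (KSeq RegImm.Kind.h1) (KSeq RegImm.Kind.h1) (KSeq RegImm.Kind.h1)
      flatStable_h1 flatStable_h1 (fun rs ts h1 h2 => h1_append_list rs ts h1 h2)
      i j z U hxU hcU rs hrs hkU V hyV hcV ss hss hkV
  · exact comp_at_gen (KSeq RegImm.Kind.quasi) (KSeq RegImm.Kind.h1) (KSeq RegImm.Kind.quasi)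
      flatStable_quasi flatStable_h1 (fun rs ts h1 h2 => quasi_append_list rs ts h1 h2)
      i j z U hxU hcU rs hrs hkU V hyV hcV ss hss hkV

/-- composition of Koszul-regular immersions of schemes (helper2's `comp_at`) -/
theorem comp_koszul (i : Y ⟶ X) (j : Z ⟶ Y)
    (hi : RegImm.IsRegularImmersion RegImm.Kind.koszul i)
    (hj : RegImm.IsRegularImmersion RegImm.Kind.koszul j) :
    RegImm.IsRegularImmersion RegImm.Kind.koszul (j ≫ i) := by
  obtain ⟨hi1, hi2⟩ := hi
  obtain ⟨hj1, hj2⟩ := hj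
  refine ⟨inferInstance, fun z => ?_⟩
  obtain ⟨U, hxU, hcU, rs, hrs, hkU⟩ := hi2 (j z)
  obtain ⟨V, hyV, hcV, ss, hss, hkV⟩ := hj2 z
  obtain ⟨W, h1, h2, ts, -, h4, h5⟩ :=
    Groth.Agent.Lib.RegImmComp.comp_at i j z U hxU hcU rs hrs hkU V hyV hcV ss hss hkV
  exact ⟨W, h1, h2, ts, h4, h5⟩

end scheme

end Groth.Agent.Lib.RegImmCompSpH7
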