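import Mathlib
import Groth.Prelude.Def_RegImm
import Groth.Prelude.Def_AlgSpMor6
import Groth.Agent.Lib.FpqcRegImm_helper2
import Groth.Agent.Lib.FpqcRegImmK_helper2
import Groth.Agent.Lib.CancelSch_helper2
import Groth.Agent.Lib.AlgSpLocP2_helper7

/-!
# Descent of regular immersions along flat surjective universally open morphisms, and Koszul-regular
immersions of algebraic spaces into smooth spaces (helper2)
-/

set_option autoImplicit false
universe u
open CategoryTheory CategoryTheory.Limits AlgebraicGeometry TopologicalSpace MorphismProperty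

namespace Groth.Agent.Lib.RegImmEt

open Groth.Agent.Lib.FpqcReg Groth.Agent.Lib.RegImmComp Groth.Agent.Lib.RegImmBC
  Groth.Agent.Lib.RegImmRelBC Groth.Agent.Lib.CancelSch

section sch

variable {X Y X' Y' : Scheme.{u}}

theorem exists_finite_affine_cover_of_open (g : X' ⟶ X) [Surjective g] [UniversallyOpen g]
    {U : X.Opens} (hU : IsAffineOpen U) :
    ∃ s : Set X'.affineOpens, s.Finite ∧ (∀ j ∈ s, j.1 ≤ g ⁻¹ᵁ U) ∧
      ∀ x ∈ U, ∃ j ∈ s, ∃ x' ∈ j.1, g x' = x := by
  classical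
  let ι := {j : X'.affineOpens // j.1 ≤ g ⁻¹ᵁ U}
  have hopen : ∀ j : ι, IsOpen (g '' (j.1.1 : Set X')) := fun j => g.isOpenMap _ j.1.1.2
  have hcov : (U : Set X) ⊆ ⋃ j : ι, g '' (j.1.1 : Set X') := by
    intro x hx
    obtain ⟨x', rfl⟩ := g.surjective x
    obtain ⟨W, hW, hx'W, hWle⟩ := (Opens.isBasis_iff_nbhd.mp X'.isBasis_affineOpens)
      (show x' ∈ g ⁻¹ᵁ U from hx)
    exact Set.mem_iUnion.mpr ⟨⟨⟨W, hW⟩, hWle⟩, x', hx'W, rfl⟩
  obtain ⟨t, ht⟩ := hU.isCompact.elim_finite_subcover _ hopen hcov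
  refine ⟨(fun j : ι => j.1) '' (t : Set ι), (t.finite_toSet.image _), ?_, ?_⟩
  · rintro _ ⟨j, -, rfl⟩
    exact j.2
  · intro x hx
    obtain ⟨j, hjt, x', hx'j, hx'⟩ : ∃ j ∈ t, x ∈ g '' (j.1.1 : Set X') := by
      simpa using ht hx
    exact ⟨j.1, ⟨j, hjt, rfl⟩, x', hx'j, hx'⟩

/-- descent of regular immersions along flat surjective universally open morphisms (e.g. fppf or
étale coverings), the immersion being given. -/
theorem regImm_descent_open (k : RegImm.Kind) (hD : Desc (PKind.{u} k)) (i : Y ⟶ X)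
    [IsImmersion i] (g : X' ⟶ X) [Flat g] [Surjective g] [UniversallyOpen g]
    (i' : Y' ⟶ X') (g' : Y' ⟶ Y) (hsq : IsPullback g' i' i g)
    (hi' : RegImm.IsRegularImmersion k i') : RegImm.IsRegularImmersion k i := by
  refine ⟨inferInstance, fun y => ?_⟩
  obtain ⟨U, hyU, hcU⟩ := exists_affine_closedImmersion i y
  apply regImmAt_of_locP k hD i U.2 hcU y hyU
  obtain ⟨s, hs, hle', hcov⟩ := exists_finite_affine_cover_of_open g U.2
  haveI : Finite s := hs.to_subtype
  have hle : ∀ j : s, j.1.1 ≤ g ⁻¹ᵁ U.1 := fun j => hle' j.1 j.2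
  apply locP_descent_family hD (fun j : s => Γ(X', j.1.1))
    (fun j => (g.appLE U.1 j.1.1 (hle j)).hom) (fun j => g.flat_appLE U.2 j.1.2 (hle j))
  · intro p
    obtain ⟨x, rfl⟩ : ∃ x : U.1, U.2.primeIdealOf x = p :=
      ⟨U.2.isoSpec.inv p, by simp [IsAffineOpen.primeIdealOf]⟩
    obtain ⟨j, hj, x', hx'j, hx'⟩ := hcov x.1 x.2
    refine ⟨⟨j, hj⟩, j.2.primeIdealOf ⟨x', hx'j⟩, ?_⟩
    rw [IsAffineOpen.comap_primeIdealOf_appLE U.1 U.2 j.1 j.2 (hle ⟨j, hj⟩) hx'j]
    congr 1
    exact Subtype.ext hx'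
  · intro j
    obtain ⟨hc', hk'⟩ := bc_core i g i' g' hsq U.2 hcU j.1.2 (hle j)
    rw [← hk']
    exact locP_of_regImm k i' hi'.2 j.1.2 hc'

end sch

section sp

open AlgSp Groth.Agent.Lib.AlgSpQC2_helper7 Groth.Agent.Lib.AlgSpPoints_helper7
  Groth.Agent.Lib.AlgSpQC_helper7 Groth.Agent.Lib.AlgSpDiag_helper7 Groth.Agent.Lib.AlgSpTop_helper7
  Groth.Agent.Lib.AlgSpPullback_helper7 Groth.Agent.Lib.AlgSpSep_helper7
  Groth.Agent.Lib.AlgSpLocP_helper7 Groth.Agent.Lib.AlgSpUniv_helper7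
  Groth.Agent.Lib.AlgSpProper_helper7 Groth.Agent.Lib.AlgSpFpqc_helper7
  Groth.Agent.Lib.AlgSpDescent_helper7 Groth.Agent.Lib.AlgSpEtale_helper7

variable {S : Scheme.{u}}

/-- S10664 -/
theorem main10664 {X Y P U : AlgSp.Space S} (f : X ⟶ Y) (g : P ⟶ Y) (e : U ⟶ X) (i : U ⟶ P)
    (hc : i ≫ g = e ≫ f) (hf : AlgSp.IsLCIMor f.hom) (hg : AlgSp.LocP @Smooth g.hom)
    (he : AlgSp.IsEtaleMor e.hom) (hi : AlgSp.RepWith @IsImmersion i.hom) :
    AlgSp.IsRegImmMor RegImm.Kind.koszul i.hom := by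
  refine ⟨hi.rep, ?_⟩
  intro V W b fst snd hbe sq
  have hc' : i.hom ≫ g.hom = e.hom ≫ f.hom := congrArg (fun t => t.hom) hc
  haveI himm : IsImmersion snd.left := hi.property b fst snd sq
  obtain ⟨T, c, hce, hcs⟩ := Y.property.atlas
  let V' := hce.rep.pullback (b ≫ g.hom)
  let π : V' ⟶ V := hce.rep.snd (b ≫ g.hom)
  let w : V' ⟶ T := hce.rep.fst' (b ≫ g.hom)
  have sqV : IsPullback ((yon S).map w) ((yon S).map π) c (b ≫ g.hom) := hce.rep.isPullback' _
  have hπe : Etale π.left := hce.property_snd _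
  have hπs : Surjective π.left := hcs.property _ _ _ (hce.rep.isPullback _)
  have sqU := IsPullback.of_hasPullback snd π
  have sqU' : IsPullback (pullback.fst snd π).left (pullback.snd snd π).left snd.left π.left :=
    sqU.map (Over.forget S)
  have hπ'e : Etale (pullback.fst snd π).left := MorphismProperty.of_isPullback sqU'.flip hπe
  have hb' : RepWith @Etale ((yon S).map π ≫ b) :=
    repWith_comp _ ((repWith_yon_map_iff _ _).2 hπe) hbe
  haveI hw : Smooth w.left := hg _ _ _ hb' hce (by rw [Category.assoc]; exact sqV.w.symm)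
  have hfst : RepWith @Etale fst := repWith_fst_of_isPullback _ sq hbe
  have ha1 : RepWith @Etale ((yon S).map (pullback.fst snd π) ≫ fst) :=
    repWith_comp _ ((repWith_yon_map_iff _ _).2 hπ'e) hfst
  have ha' : RepWith @Etale (((yon S).map (pullback.fst snd π) ≫ fst) ≫ e.hom) := he _ ha1
  have hcomm : (((yon S).map (pullback.fst snd π) ≫ fst) ≫ e.hom) ≫ f.hom =
      (yon S).map (pullback.snd snd π ≫ w) ≫ c := by
    calc (((yon S).map (pullback.fst snd π) ≫ fst) ≫ e.hom) ≫ f.hom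
        = (yon S).map (pullback.fst snd π) ≫ fst ≫ (e.hom ≫ f.hom) := by
          simp only [Category.assoc]
      _ = (yon S).map (pullback.fst snd π) ≫ (fst ≫ i.hom) ≫ g.hom := by
          rw [← hc']
          simp only [Category.assoc]
      _ = (yon S).map (pullback.fst snd π) ≫ ((yon S).map snd ≫ b) ≫ g.hom := by rw [sq.w]
      _ = (yon S).map (pullback.fst snd π ≫ snd) ≫ b ≫ g.hom := by
          rw [Functor.map_comp]
          simp only [Category.assoc]
      _ = (yon S).map (pullback.snd snd π ≫ π) ≫ b ≫ g.hom := by rw [sqU.w]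
      _ = (yon S).map (pullback.snd snd π) ≫ ((yon S).map π ≫ b ≫ g.hom) := by
          rw [Functor.map_comp]
          simp only [Category.assoc]
      _ = (yon S).map (pullback.snd snd π) ≫ ((yon S).map w ≫ c) := by rw [← sqV.w]
      _ = (yon S).map (pullback.snd snd π ≫ w) ≫ c := by
          rw [Functor.map_comp]
          simp only [Category.assoc]
  have h1 : AlgSp.lci (pullback.snd snd π ≫ w).left := hf _ _ _ ha' hce hcomm
  have h1' : ∀ x, Synt.IsKoszulAt ((pullback.snd snd π).left ≫ w.left) x := by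
    rwa [Over.comp_left] at h1
  haveI : IsImmersion (pullback.snd snd π).left := MorphismProperty.of_isPullback sqU' himm
  have h2 : RegImm.IsRegularImmersion .koszul (pullback.snd snd π).left :=
    main8656 _ h1' w.left _ rfl
  haveI : Etale π.left := hπe
  haveI : Surjective π.left := hπs
  exact regImm_descent_open .koszul desc_kind_koszul snd.left π.left (pullback.snd snd π).left
    (pullback.fst snd π).left sqU' h2

end sp

end Groth.Agent.Lib.RegImmEt
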