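import Mathlib
import Groth.Prelude.Def_RegImm
import Groth.Prelude.Def_AlgSpMor6
import Groth.Agent.Lib.RegImmEt_helper2
import Groth.Agent.Lib.FpqcH1_helper2
import Groth.Agent.Lib.RegImmBC_helper2
import Groth.Agent.Lib.ImmDescent_helper7

/-!
# Flat base change of regular immersions of algebraic spaces (helper2)
-/

set_option autoImplicit false
universe u
open CategoryTheory CategoryTheory.Limits AlgebraicGeometry TopologicalSpace MorphismProperty

namespace Groth.Agent.Lib.RegImmSpBC

open Groth.Agent.Lib.FpqcReg Groth.Agent.Lib.RegImmComp Groth.Agent.Lib.RegImmBC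
  Groth.Agent.Lib.RegImmRelBC Groth.Agent.Lib.RegImmEt Groth.Agent.Lib.ImmDescent_helper7

open AlgSp Groth.Agent.Lib.AlgSpQC2_helper7 Groth.Agent.Lib.AlgSpPoints_helper7
  Groth.Agent.Lib.AlgSpQC_helper7 Groth.Agent.Lib.AlgSpDiag_helper7 Groth.Agent.Lib.AlgSpTop_helper7
  Groth.Agent.Lib.AlgSpPullback_helper7 Groth.Agent.Lib.AlgSpSep_helper7
  Groth.Agent.Lib.AlgSpLocP_helper7 Groth.Agent.Lib.AlgSpUniv_helper7
  Groth.Agent.Lib.AlgSpProper_helper7 Groth.Agent.Lib.AlgSpFpqc_helper7
  Groth.Agent.Lib.AlgSpDescent_helper7 Groth.Agent.Lib.AlgSpEtale_helper7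

variable {S : Scheme.{u}}

/-- descent of regular immersions (kinds koszul, h1, quasi) along an étale surjective morphism of
schemes, the immersion property being descended as well. -/
theorem regImm_descent_etale (k : RegImm.Kind) (hk : k ≠ RegImm.Kind.regular)
    {X Y X' Y' : Scheme.{u}} (i : Y ⟶ X)
    (g : X' ⟶ X) [Etale g] [Surjective g]
    (i' : Y' ⟶ X') (g' : Y' ⟶ Y) (hsq : IsPullback g' i' i g)
    (hi' : RegImm.IsRegularImmersion k i') : RegImm.IsRegularImmersion k i := by
  haveI := isImmersion_descends_fppf.{u}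
  haveI : IsImmersion i :=
    MorphismProperty.of_isPullback_of_descendsAlong (P := @IsImmersion)
      (Q := (@Surjective ⊓ @Flat ⊓ @LocallyOfFinitePresentation : MorphismProperty Scheme.{u}))
      hsq.flip ⟨⟨inferInstance, inferInstance⟩, inferInstance⟩ hi'.1
  exact regImm_descent_open k (desc_kind k hk) i g i' g' hsq hi'

/-- S10662 -/
theorem main10662 (k : RegImm.Kind)
    (hk : k = RegImm.Kind.koszul ∨ k = RegImm.Kind.h1 ∨ k = RegImm.Kind.quasi)
    {Z X X' : AlgSp.Space S} (i : Z ⟶ X) (g : X' ⟶ X)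
    (hi : AlgSp.IsRegImmMor k i.hom) (hg : AlgSp.LocP @Flat g.hom)
    (P : AlgSp.Space S) (fst : P ⟶ Z) (i' : P ⟶ X') (sq : IsPullback fst.hom i'.hom i.hom g.hom) :
    AlgSp.IsRegImmMor k i'.hom := by
  have hk' : k ≠ RegImm.Kind.regular := by
    rcases hk with rfl | rfl | rfl <;> simp
  obtain ⟨hrep, hloc⟩ := hi
  refine ⟨MorphismProperty.of_isPullback (P := AlgSp.Representable) sq hrep, ?_⟩
  intro V W b fst' snd hbe sq'
  obtain ⟨T, c, hce, hcs⟩ := X.property.atlas
  let V' := hce.rep.pullback (b ≫ g.hom)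
  let π : V' ⟶ V := hce.rep.snd (b ≫ g.hom)
  let w : V' ⟶ T := hce.rep.fst' (b ≫ g.hom)
  have sqV : IsPullback ((yon S).map w) ((yon S).map π) c (b ≫ g.hom) := hce.rep.isPullback' _
  have hπe : Etale π.left := hce.property_snd _
  have hπs : Surjective π.left := hcs.property _ _ _ (hce.rep.isPullback _)
  have hb' : RepWith @Etale ((yon S).map π ≫ b) :=
    repWith_comp _ ((repWith_yon_map_iff _ _).2 hπe) hbe
  haveI hw : Flat w.left := hg _ _ _ hb' hce (by rw [Category.assoc]; exact sqV.w.symm)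
  -- the chart of `Z` over `T`
  let ZT := hrep.pullback c
  let iT : ZT ⟶ T := hrep.snd c
  have sqT : IsPullback (hrep.fst c) ((yon S).map iT) i.hom c := hrep.isPullback c
  have hiT : RegImm.IsRegularImmersion k iT.left := hloc c (hrep.fst c) iT hce sqT
  have sqU := IsPullback.of_hasPullback snd π
  have sqU' : IsPullback (pullback.fst snd π).left (pullback.snd snd π).left snd.left π.left :=
    sqU.map (Over.forget S)
  have sqB : IsPullback (fst' ≫ fst.hom) ((yon S).map snd) i.hom (b ≫ g.hom) :=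
    sq'.paste_horiz sq
  have sqB' := isPullback_restrict sqB π
  have hcomm : ((yon S).map (pullback.fst snd π) ≫ (fst' ≫ fst.hom)) ≫ i.hom =
      (yon S).map (pullback.snd snd π ≫ w) ≫ c := by
    rw [sqB'.w, ← sqV.w, Functor.map_comp, Category.assoc]
  let ℓ : pullback snd π ⟶ ZT := hrep.lift _ _ hcomm
  have h1 : (yon S).map ℓ ≫ hrep.fst c = (yon S).map (pullback.fst snd π) ≫ (fst' ≫ fst.hom) :=
    hrep.lift_fst _ _ _
  have h2 : ℓ ≫ iT = pullback.snd snd π ≫ w := hrep.lift_snd _ _ _
  have s : IsPullback ((yon S).map ℓ ≫ hrep.fst c) ((yon S).map (pullback.snd snd π)) i.hom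
      ((yon S).map w ≫ c) := by
    rw [h1, sqV.w]; exact sqB'
  have sqL : IsPullback ((yon S).map ℓ) ((yon S).map (pullback.snd snd π)) ((yon S).map iT)
      ((yon S).map w) :=
    IsPullback.of_right s (by rw [← Functor.map_comp, ← Functor.map_comp, h2]) sqT
  have sqL' : IsPullback ℓ (pullback.snd snd π) iT w := IsPullback.of_map (yon S) h2 sqL
  have sqL'' : IsPullback ℓ.left (pullback.snd snd π).left iT.left w.left :=
    sqL'.map (Over.forget S)
  have h3 : RegImm.IsRegularImmersion k (pullback.snd snd π).left :=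
    isRegularImmersion_baseChange k iT.left w.left (pullback.snd snd π).left ℓ.left sqL'' hiT
  haveI : Etale π.left := hπe
  haveI : Surjective π.left := hπs
  exact regImm_descent_etale k hk' snd.left π.left (pullback.snd snd π).left
    (pullback.fst snd π).left sqU' h3

end Groth.Agent.Lib.RegImmSpBC
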