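import Groth.Agent.Lib.RegImmCompSp1_helper7
import Groth.Agent.Lib.RegImmSpBC_helper2

/-!
# Composition of regular immersions of algebraic spaces (helper7)
APPEND-ONLY once landed.
-/

set_option backward.isDefEq.respectTransparency false
set_option backward.isDefEq.respectTransparency.types false
set_option linter.style.haveILetI false
set_option linter.unusedSectionVars false
set_option linter.unusedVariables false
set_option autoImplicit false
set_option maxHeartbeats 1600000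
universe u
open CategoryTheory CategoryTheory.Limits AlgebraicGeometry TopologicalSpace MorphismProperty

namespace Groth.Agent.Lib.RegImmCompSpH7

open AlgSp Groth.Agent.Lib.AlgSpPullback_helper7 Groth.Agent.Lib.AlgSpQC_helper7

variable {S : Scheme.{u}}

/-- composition of `RepLocT` properties: if scheme-level composition `inner of kind P1`, `outer of
kind P2` gives `P3`, the same holds for algebraic spaces. -/
theorem repLocT_comp (P1 P2 P3 : MorphismProperty Scheme.{u})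
    (hcomp : ∀ {A B C : Scheme.{u}} (f : A ⟶ B) (g : B ⟶ C), P1 f → P2 g → P3 (f ≫ g))
    {F G H : Sp S} (f : F ⟶ G) (g : G ⟶ H)
    (hf : RepLocT P1 f) (hg : RepLocT P2 g) : RepLocT P3 (f ≫ g) := by
  obtain ⟨hfrep, hfloc⟩ := hf
  obtain ⟨hgrep, hgloc⟩ := hg
  refine ⟨(AlgSp.Representable (S := S)).comp_mem f g hfrep hgrep, ?_⟩
  intro V W b fst snd hbe sq
  obtain ⟨GV, fstg, gV, sqg⟩ : ∃ (GV : Over S) (fstg : (yon S).obj GV ⟶ G) (gV : GV ⟶ V),
      IsPullback fstg ((yon S).map gV) g b :=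
    ⟨_, hgrep.fst b, hgrep.snd b, hgrep.isPullback b⟩
  have hcomm : (fst ≫ f) ≫ g = (yon S).map snd ≫ b := by
    rw [Category.assoc]; exact sq.w
  obtain ⟨ℓ', hℓ1, hℓ2⟩ : ∃ ℓ' : (yon S).obj W ⟶ (yon S).obj GV,
      ℓ' ≫ fstg = fst ≫ f ∧ ℓ' ≫ (yon S).map gV = (yon S).map snd :=
    ⟨sqg.lift (fst ≫ f) ((yon S).map snd) hcomm, sqg.lift_fst _ _ _, sqg.lift_snd _ _ _⟩
  obtain ⟨ℓ, rfl⟩ : ∃ ℓ : W ⟶ GV, (yon S).map ℓ = ℓ' := ⟨(yon S).preimage ℓ', (yon S).map_preimage ℓ'⟩
  have hsnd : ℓ ≫ gV = snd := by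
    apply (yon S).map_injective
    rw [Functor.map_comp]; exact hℓ2
  have sqbig : IsPullback fst ((yon S).map ℓ ≫ (yon S).map gV) (f ≫ g) b := by
    rw [hℓ2]; exact sq
  have sqtop : IsPullback fst ((yon S).map ℓ) f fstg := IsPullback.of_bot sqbig hℓ1.symm sqg
  have hfstg : RepWith @Etale fstg := repWith_fst_of_isPullback @Etale sqg hbe
  have h1 : P1 ℓ.left := hfloc fstg fst ℓ hfstg sqtop
  have h2 : P2 gV.left := hgloc b fstg gV hbe sqg
  have h3 := hcomp ℓ.left gV.left h1 h2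
  rw [← hsnd]
  exact h3

/-- S10663 -/
theorem main10663 {Z Y X : AlgSp.Space S} (i : Z ⟶ Y) (j : Y ⟶ X)
    (hi : AlgSp.RepWith @IsImmersion i.hom) (hj : AlgSp.RepWith @IsImmersion j.hom) :
    (AlgSp.IsRegImmMor RegImm.Kind.koszul i.hom → AlgSp.IsRegImmMor RegImm.Kind.koszul j.hom →
        AlgSp.IsRegImmMor RegImm.Kind.koszul (i ≫ j).hom) ∧
      (AlgSp.IsRegImmMor RegImm.Kind.h1 i.hom → AlgSp.IsRegImmMor RegImm.Kind.h1 j.hom →
        AlgSp.IsRegImmMor RegImm.Kind.h1 (i ≫ j).hom) ∧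
      (AlgSp.IsRegImmMor RegImm.Kind.h1 i.hom → AlgSp.IsRegImmMor RegImm.Kind.quasi j.hom →
        AlgSp.IsRegImmMor RegImm.Kind.quasi (i ≫ j).hom) := by
  refine ⟨fun h1 h2 => ?_, fun h1 h2 => ?_, fun h1 h2 => ?_⟩
  · exact repLocT_comp (regImm RegImm.Kind.koszul) (regImm RegImm.Kind.koszul)
      (regImm RegImm.Kind.koszul) (fun f g hf hg => comp_koszul g f hg hf) i.hom j.hom h1 h2
  · exact repLocT_comp (regImm RegImm.Kind.h1) (regImm RegImm.Kind.h1)
      (regImm RegImm.Kind.h1)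
      (fun f g hf hg => comp_h1_inner RegImm.Kind.h1 (Or.inl rfl) g f hg hf) i.hom j.hom h1 h2
  · exact repLocT_comp (regImm RegImm.Kind.h1) (regImm RegImm.Kind.quasi)
      (regImm RegImm.Kind.quasi)
      (fun f g hf hg => comp_h1_inner RegImm.Kind.quasi (Or.inr rfl) g f hg hf) i.hom j.hom h1 h2

end Groth.Agent.Lib.RegImmCompSpH7
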