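import Mathlib
import Groth.Prelude.Def_RegImm
import Groth.Agent.Lib.SyntNoeth1_helper2
import Groth.Agent.Lib.FpqcRegImm_helper2
import Groth.Agent.Lib.RegImmKinds_helper2

/-!
# A regularly immersed closed subscheme of affine space over a Noetherian ring is locally
`A[X_0..X_n]/(regular sequence)` (helper2): S18937.
APPEND-ONLY once landed.
-/

set_option autoImplicit false
universe u

namespace Groth.Agent.Lib.RegImmPres

open RingTheory.Sequence IsLocalRing Polynomial
open Groth.Agent.Lib.KRegIdeal Groth.Agent.Lib.LCILocal Groth.Agent.Lib.LCIComp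
open Groth.Agent.Lib.SyntTA Groth.Agent.Lib.SyntNoeth Groth.Agent.Lib.FpqcReg
open AlgebraicGeometry CategoryTheory
open scoped Pointwise

/-- a Koszul-regular closed immersion into an affine scheme has Koszul-regular ideal. -/
theorem kr_of_regImm_spec {R : Type u} [CommRing R] (I : Ideal R)
    (h : RegImm.IsRegularImmersion RegImm.Kind.koszul
      (Spec.map (CommRingCat.ofHom (Ideal.Quotient.mk I)))) : KR I := by
  set i := Spec.map (CommRingCat.ofHom (Ideal.Quotient.mk I)) with hi
  haveI : IsClosedImmersion i :=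
    IsClosedImmersion.spec_of_surjective _ Ideal.Quotient.mk_surjective
  have hV : IsAffineOpen (⊤ : (Spec (CommRingCat.of R)).Opens) := isAffineOpen_top _
  haveI hcV : IsClosedImmersion (i ∣_ ⊤) := IsZariskiLocalAtTarget.restrict ‹_› ⊤
  have hKR : KR (RingHom.ker (i.app ⊤).hom) := fun q hq hle =>
    locP_of_regImm .koszul i h.2 hV hcV q hq hle
  let e : R ≃+* Γ(Spec (CommRingCat.of R), ⊤) :=
    (Scheme.ΓSpecIso (CommRingCat.of R)).symm.commRingCatIsoToRingEquiv
  have h1 := kr_comap_equiv e _ hKR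
  have hnat : ∀ y : Γ(Spec (CommRingCat.of R), ⊤),
      (Scheme.ΓSpecIso (CommRingCat.of (R ⧸ I))).hom.hom ((i.app ⊤).hom y) =
        Ideal.Quotient.mk I ((Scheme.ΓSpecIso (CommRingCat.of R)).hom.hom y) := by
    intro y
    have h2 := Scheme.ΓSpecIso_naturality (CommRingCat.ofHom (Ideal.Quotient.mk I))
    exact congrArg (fun f => f.hom y) h2
  have hinj : Function.Injective (Scheme.ΓSpecIso (CommRingCat.of (R ⧸ I))).hom.hom :=
    (Scheme.ΓSpecIso (CommRingCat.of (R ⧸ I))).commRingCatIsoToRingEquiv.injective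
  have he : ∀ x : R, (Scheme.ΓSpecIso (CommRingCat.of R)).hom.hom (e x) = x := by
    intro x
    exact (Scheme.ΓSpecIso (CommRingCat.of R)).commRingCatIsoToRingEquiv.apply_symm_apply x
  have hEq : (RingHom.ker (i.app ⊤).hom).comap
      (e : R →+* Γ(Spec (CommRingCat.of R), ⊤)) = I := by
    ext x
    rw [Ideal.mem_comap, RingHom.mem_ker]
    constructor
    · intro hx
      have h5 : (i.app ⊤).hom (e x) = 0 := hx
      have h3 := hnat (e x)
      rw [he] at h3
      have h6 : (Scheme.ΓSpecIso (CommRingCat.of (R ⧸ I))).hom.hom ((i.app ⊤).hom (e x)) = 0 := by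
        rw [h5]
        exact map_zero _
      exact Ideal.Quotient.eq_zero_iff_mem.mp (h3.symm.trans h6)
    · intro hx
      apply hinj
      have h3 := hnat (e x)
      rw [he, Ideal.Quotient.eq_zero_iff_mem.mpr hx] at h3
      exact h3.trans (map_zero _).symm
  rw [hEq] at h1
  exact h1

/-- the tail of `main18938`, for a given presentation with Koszul-regular kernel. -/
theorem main_of_kr
    (A : Type u) [CommRing A] [IsNoetherianRing A] (B : Type u) [CommRing B] [Algebra A B]
    (n : ℕ) (π : MvPolynomial (Fin n) A →ₐ[A] B) (hπ : Function.Surjective π)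
    (hKR : KR (RingHom.ker π.toRingHom)) (q : PrimeSpectrum B) :
    ∃ g : B, g ∉ q.asIdeal ∧
      ∃ (d : ℕ) (P : Fin d → MvPolynomial (Fin (n + 1)) A),
        RingTheory.Sequence.IsRegular (MvPolynomial (Fin (n + 1)) A) (List.ofFn P) ∧
        Nonempty (Localization.Away g ≃ₐ[A]
          (MvPolynomial (Fin (n + 1)) A ⧸ Ideal.ofList (List.ofFn P))) := by
  haveI : (q.asIdeal.comap π.toRingHom).IsPrime := Ideal.comap_isPrime _ _
  have hle : RingHom.ker π.toRingHom ≤ q.asIdeal.comap π.toRingHom := by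
    intro x hx
    rw [Ideal.mem_comap, RingHom.mem_ker.mp hx]
    exact q.asIdeal.zero_mem
  obtain ⟨g', hg', hg'I⟩ := koszul_local_of_krAt _ _ (hKR _ inferInstance hle)
  obtain ⟨G, hG, as, -, hreg, heq⟩ :=
    exists_away_regular_of_koszul_local _ _ hle g' hg' hg'I
  obtain ⟨φ, hφ, hker⟩ := exists_presentation_away n π hπ G as heq
  set eE : (MvPolynomial (Fin n) A)[X] ≃+* MvPolynomial (Fin (n + 1)) A :=
    (MvPolynomial.finSuccEquiv A n).symm.toRingEquiv with heE
  set L' : List (MvPolynomial (Fin (n + 1)) A) :=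
    (((C G * X - 1 : (MvPolynomial (Fin n) A)[X]) :: as.map C).map eE) with hL'
  have hregL' : IsRegular (MvPolynomial (Fin (n + 1)) A) L' :=
    isRegular_map_ringEquiv _ _ (isRegular_cons_CX G as hreg)
  have hker' : Ideal.ofList L' = RingHom.ker φ := by
    ext x
    rw [RingHom.mem_ker, hker, hL', mem_ofList_map_ringEquiv]
    rfl
  refine ⟨π G, hG, L'.length, L'.get, ?_, ?_⟩
  · rw [List.ofFn_get]
    exact hregL'
  · rw [List.ofFn_get]
    exact ⟨((Ideal.quotientEquivAlgOfEq A hker').trans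
      (Ideal.quotientKerAlgEquivOfSurjective hφ)).symm⟩

theorem main18937
    (A : Type u) [CommRing A] [IsNoetherianRing A] (n : ℕ) (I : Ideal (MvPolynomial (Fin n) A))
    (h : RegImm.IsRegularImmersion RegImm.Kind.regular
      (Spec.map (CommRingCat.ofHom (Ideal.Quotient.mk I))))
    (q : PrimeSpectrum (MvPolynomial (Fin n) A ⧸ I)) :
    ∃ g : MvPolynomial (Fin n) A ⧸ I, g ∉ q.asIdeal ∧
      ∃ (d : ℕ) (P : Fin d → MvPolynomial (Fin (n + 1)) A),
        RingTheory.Sequence.IsRegular (MvPolynomial (Fin (n + 1)) A) (List.ofFn P) ∧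
        Nonempty (Localization.Away g ≃ₐ[A]
          (MvPolynomial (Fin (n + 1)) A ⧸ Ideal.ofList (List.ofFn P))) := by
  have hk := Groth.Agent.Lib.RegImmKinds.regular_koszul _ h
  have hKR : KR I := kr_of_regImm_spec I hk
  have hker : RingHom.ker (Ideal.Quotient.mkₐ A I).toRingHom = I := Ideal.mk_ker
  exact main_of_kr A _ n (Ideal.Quotient.mkₐ A I) (Ideal.Quotient.mkₐ_surjective A I)
    (by rw [hker]; exact hKR) q

end Groth.Agent.Lib.RegImmPres
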