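import Mathlib
import Groth.Agent.Lib.RegLift1_helper8

/-!
# Regularity of complete local algebras with residue field `k` via infinitesimal lifting (helper8)
APPEND-ONLY once landed.
-/

set_option autoImplicit false
set_option maxSynthPendingDepth 3
universe u

namespace Groth.Agent.Lib.RegLiftH8

open IsLocalRing TensorProduct

theorem isGeometricallyReduced_of_bijective (k K : Type u) [Field k] [Field K] [Algebra k K]
    (h : Function.Bijective (algebraMap k K)) : Algebra.IsGeometricallyReduced k K := by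
  let e : k ≃ₐ[k] K := AlgEquiv.ofBijective (Algebra.ofId k K) h
  let E : (AlgebraicClosure k ⊗[k] K) ≃ₐ[AlgebraicClosure k] AlgebraicClosure k :=
    (Algebra.TensorProduct.congr AlgEquiv.refl e.symm).trans
      (Algebra.TensorProduct.rid k (AlgebraicClosure k) (AlgebraicClosure k))
  rw [Algebra.isGeometricallyReduced_field_iff]
  exact isReduced_of_injective E.toRingEquiv.toRingHom E.injective

theorem main19506 (k A : Type u) [Field k]
    [CommRing A] [Algebra k A] [IsLocalRing A] [IsNoetherianRing A]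
    (π : A →ₐ[k] k) (hπ : RingHom.ker π = IsLocalRing.maximalIdeal A) :
    IsRegularLocalRing A ↔
      ∀ (R : Type u) [CommRing R] [Algebra k R] [IsArtinianRing R] [IsLocalRing R] (J : Ideal R),
        J ^ 2 = ⊥ → ∀ f : A →ₐ[k] R ⧸ J, IsLocalHom (f : A →+* R ⧸ J) →
          ∃ g : A →ₐ[k] R, (Ideal.Quotient.mkₐ k J).comp g = f := by
  have hres : Function.Surjective (algebraMap k (ResidueField A)) := by
    intro y
    obtain ⟨a, rfl⟩ := residue_surjective y
    refine ⟨π a, ?_⟩
    have h1 : a - algebraMap k A (π a) ∈ maximalIdeal A := by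
      rw [← hπ, RingHom.mem_ker, map_sub]
      simp
    rw [← residue_eq_zero_iff, map_sub, sub_eq_zero] at h1
    rw [h1]
    rfl
  haveI : Algebra.IsGeometricallyReduced k (ResidueField A) :=
    isGeometricallyReduced_of_bijective k _ ⟨(algebraMap k (ResidueField A)).injective, hres⟩
  have T := (Groth.Agent.S2453.result (k := k) (A := A)).out 0 3
  rw [← T]
  constructor
  · intro hsm R _ _ _ _ J hJ f hf
    refine hsm R J hJ f ?_
    obtain ⟨n, hn⟩ := IsArtinianRing.isNilpotent_jacobson_bot (R := R)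
    rw [jacobson_eq_maximalIdeal ⊥ bot_ne_top] at hn
    replace hn : maximalIdeal R ^ n = ⊥ := hn
    have hJtop : J ≠ ⊤ := by
      intro h
      rw [h, Ideal.top_pow] at hJ
      exact top_ne_bot hJ
    haveI : Nontrivial (R ⧸ J) := Ideal.Quotient.nontrivial_iff.2 hJtop
    haveI : IsLocalRing (R ⧸ J) :=
      IsLocalRing.of_surjective' (Ideal.Quotient.mk J) Ideal.Quotient.mk_surjective
    have h1 : (maximalIdeal A).map (f : A →+* R ⧸ J) ≤ maximalIdeal (R ⧸ J) :=
      ((local_hom_TFAE (f : A →+* R ⧸ J)).out 0 2).1 hf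
    have h2 : maximalIdeal (R ⧸ J) = (maximalIdeal R).map (Ideal.Quotient.mk J) :=
      (map_maximalIdeal_of_surjective _ Ideal.Quotient.mk_surjective).symm
    refine ⟨n, fun x hx => ?_⟩
    have h3 : (f : A →+* R ⧸ J) x ∈ (maximalIdeal A ^ n).map (f : A →+* R ⧸ J) :=
      Ideal.mem_map_of_mem _ hx
    rw [Ideal.map_pow] at h3
    have h4 := Ideal.pow_right_mono h1 n h3
    rw [h2, ← Ideal.map_pow, hn, Ideal.map_bot, Ideal.mem_bot] at h4
    exact h4
  · intro H
    haveI : IsLocalHom (algebraMap k A) := isLocalHom_algebraMap_field k A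
    apply Groth.Agent.Lib.SmallExtH3.adic_of_smallLift
    intro A' _ _ _ _ _ J hJ hlen _ ψ hψ hbij
    exact H A' J hJ ψ hψ

end Groth.Agent.Lib.RegLiftH8
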