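import Mathlib

/-!
Helper library (helper1): fiberwise regular matrices.  A matrix over a field whose commutant has
dimension `n` admits a cyclic vector; over a local ring a cyclic vector lifts and the commutant is
the set of polynomials in the matrix.  APPEND-ONLY once landed.
-/

set_option autoImplicit false

namespace Groth.Agent.Lib.RegMatH1

open Polynomial Module

universe u

section Cyclic

variable {B : Type*} [CommRing B] {n : ℕ}

/-- The "Krylov matrix" of `v` with respect to `g`: its columns are `v, g v, …, g^(n-1) v`. -/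
def kry (g : Matrix (Fin n) (Fin n) B) (v : Fin n → B) : Matrix (Fin n) (Fin n) B :=
  Matrix.of fun a (i : Fin n) => ((g ^ (i : ℕ)).mulVec v) a

theorem eq_sum_pow_of_commute (g x : Matrix (Fin n) (Fin n) B) (v : Fin n → B)
    (hS : IsUnit (kry g v).det) (hx : x * g = g * x) :
    ∃ c : Fin n → B, x = ∑ i : Fin n, c i • g ^ (i : ℕ) := by
  classical
  let c : Fin n → B := (kry g v)⁻¹.mulVec (x.mulVec v)
  have h1 : (kry g v).mulVec c = x.mulVec v := by
    show (kry g v).mulVec ((kry g v)⁻¹.mulVec (x.mulVec v)) = x.mulVec v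
    rw [Matrix.mulVec_mulVec, Matrix.mul_nonsing_inv _ hS, Matrix.one_mulVec]
  have h2 : (kry g v).mulVec c = (∑ i : Fin n, c i • g ^ (i : ℕ)).mulVec v := by
    rw [Matrix.sum_mulVec]
    funext a
    rw [Finset.sum_apply]
    have h0 : ((kry g v).mulVec c) a = ∑ i, kry g v a i * c i := rfl
    rw [h0]
    apply Finset.sum_congr rfl
    intro i _
    rw [Matrix.smul_mulVec, Pi.smul_apply, smul_eq_mul, mul_comm]
    rfl
  have hcomm : ∀ j : ℕ, x * g ^ j = g ^ j * x := fun j =>
    (Commute.pow_right (show Commute x g from hx) j).eq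
  have hPcomm : ∀ j : ℕ, (∑ i : Fin n, c i • g ^ (i : ℕ)) * g ^ j =
      g ^ j * ∑ i : Fin n, c i • g ^ (i : ℕ) := by
    intro j
    rw [Finset.sum_mul, Finset.mul_sum]
    apply Finset.sum_congr rfl
    intro i _
    rw [Matrix.smul_mul, Matrix.mul_smul, ← pow_add, ← pow_add, add_comm]
  have h3 : ∀ j : ℕ, x.mulVec ((g ^ j).mulVec v) =
      (∑ i : Fin n, c i • g ^ (i : ℕ)).mulVec ((g ^ j).mulVec v) := by
    intro j
    rw [Matrix.mulVec_mulVec, Matrix.mulVec_mulVec, hcomm, hPcomm, ← Matrix.mulVec_mulVec,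
      ← Matrix.mulVec_mulVec, ← h1, h2]
  have h4 : x * kry g v = (∑ i : Fin n, c i • g ^ (i : ℕ)) * kry g v := by
    ext a j
    show (x.mulVec ((g ^ (j : ℕ)).mulVec v)) a =
      ((∑ i : Fin n, c i • g ^ (i : ℕ)).mulVec ((g ^ (j : ℕ)).mulVec v)) a
    rw [h3]
  refine ⟨c, ?_⟩
  calc x = x * kry g v * (kry g v)⁻¹ := (Matrix.mul_nonsing_inv_cancel_right _ x hS).symm
    _ = (∑ i : Fin n, c i • g ^ (i : ℕ)) * kry g v * (kry g v)⁻¹ := by rw [h4]
    _ = ∑ i : Fin n, c i • g ^ (i : ℕ) := Matrix.mul_nonsing_inv_cancel_right _ _ hS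

theorem commute_of_cyclic (g x y : Matrix (Fin n) (Fin n) B) (v : Fin n → B)
    (hS : IsUnit (kry g v).det) (hx : x * g = g * x) (hy : y * g = g * y) : x * y = y * x := by
  obtain ⟨c, hc⟩ := eq_sum_pow_of_commute g x v hS hx
  obtain ⟨d, hd⟩ := eq_sum_pow_of_commute g y v hS hy
  rw [hc, hd]
  exact (Commute.sum_left _ _ _ fun i _ => Commute.sum_right _ _ _ fun j _ =>
    ((Commute.pow_pow (Commute.refl g) _ _).smul_left _).smul_right _).eq

theorem kry_map {C : Type*} [CommRing C] (f : B →+* C) (g : Matrix (Fin n) (Fin n) B)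
    (v : Fin n → B) : (kry g v).map f = kry (g.map f) (f ∘ v) := by
  ext a i
  have h : (g ^ (i : ℕ)).map f = (g.map f) ^ (i : ℕ) := by
    rw [← RingHom.mapMatrix_apply, map_pow, RingHom.mapMatrix_apply]
  show f (((g ^ (i : ℕ)).mulVec v) a) = (((g.map f) ^ (i : ℕ)).mulVec (f ∘ v)) a
  rw [RingHom.map_mulVec, h]

end Cyclic

section Local

theorem exists_cyclic_local {B : Type u} [CommRing B] [IsLocalRing B] {n : ℕ}
    (g : Matrix (Fin n) (Fin n) B)
    (h : ∃ w : Fin n → IsLocalRing.ResidueField B,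
      (kry (g.map (IsLocalRing.residue B)) w).det ≠ 0) :
    ∃ v : Fin n → B, IsUnit (kry g v).det := by
  obtain ⟨w, hw⟩ := h
  choose v hv using fun a => IsLocalRing.residue_surjective (w a)
  refine ⟨v, ?_⟩
  rw [← IsLocalRing.residue_ne_zero_iff_isUnit, RingHom.map_det, RingHom.mapMatrix_apply, kry_map]
  have h1 : (IsLocalRing.residue B) ∘ v = w := funext hv
  rw [h1]
  exact hw

end Local

section Field

variable {K : Type u} [Field K]

section Abstract

variable {ι : Type u} [Fintype ι] [DecidableEq ι] (q : ι → K[X])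

/-- Pairwise coprime case: the module is cyclic. -/
theorem exists_cyclic_of_pairwise_coprime {M : Type*} [AddCommGroup M] [Module K[X] M]
    (e' : M ≃ₗ[K[X]] (∀ i, K[X] ⧸ K[X] ∙ q i))
    (hco : Pairwise (Function.onFun IsCoprime fun i => Ideal.span {q i})) :
    ∃ v : M, ∀ m : M, ∃ r : K[X], r • v = m := by
  refine ⟨e'.symm (fun i => Submodule.Quotient.mk 1), fun m => ?_⟩
  have hrep : ∀ i, ∃ t : K[X], (Submodule.Quotient.mk t : K[X] ⧸ K[X] ∙ q i) = e' m i :=
    fun i => Submodule.Quotient.mk_surjective _ _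
  choose t ht using hrep
  obtain ⟨r, hr⟩ := Ideal.exists_forall_sub_mem_ideal hco t
  refine ⟨r, ?_⟩
  rw [← map_smul, LinearEquiv.symm_apply_eq]
  funext i
  rw [Pi.smul_apply, ← Submodule.Quotient.mk_smul, smul_eq_mul, mul_one, ← ht i]
  exact (Submodule.Quotient.eq _).mpr (hr i)

/-- Non-coprime case: an extra endomorphism, independent of the multiplications. -/
theorem exists_extra_endo {i j : ι} (hij : i ≠ j) (hqj : q j ≠ 0)
    (hnc : ¬ IsCoprime (Ideal.span {q i}) (Ideal.span {q j})) :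
    ∃ H : (∀ l, K[X] ⧸ K[X] ∙ q l) →ₗ[K[X]] (∀ l, K[X] ⧸ K[X] ∙ q l),
      ∀ (a : ∀ l, K[X] ⧸ K[X] ∙ q l) (c : K),
        LinearMap.mul K[X] (∀ l, K[X] ⧸ K[X] ∙ q l) a + (C c : K[X]) • H = 0 →
          a = 0 ∧ c = 0 := by
  classical
  rw [Ideal.isCoprime_iff_sup_eq] at hnc
  have hIπ : Ideal.span {Submodule.IsPrincipal.generator
      (Ideal.span {q i} ⊔ Ideal.span {q j})} = Ideal.span {q i} ⊔ Ideal.span {q j} :=
    Ideal.span_singleton_generator _
  generalize Submodule.IsPrincipal.generator (Ideal.span {q i} ⊔ Ideal.span {q j}) = π at hIπ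
  have hπu : ¬ IsUnit π := by
    intro hu
    apply hnc
    rw [← hIπ]
    exact Ideal.span_singleton_eq_top.mpr hu
  have hπi : π ∣ q i := by
    rw [← Ideal.mem_span_singleton, hIπ]
    exact Ideal.mem_sup_left (Ideal.mem_span_singleton_self _)
  have hπj : π ∣ q j := by
    rw [← Ideal.mem_span_singleton, hIπ]
    exact Ideal.mem_sup_right (Ideal.mem_span_singleton_self _)
  obtain ⟨t, ht⟩ := hπi
  obtain ⟨s, hs⟩ := hπj
  have hs0 : (Submodule.Quotient.mk s : K[X] ⧸ K[X] ∙ q j) ≠ 0 := by
    intro h0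
    rw [Submodule.Quotient.mk_eq_zero, Submodule.mem_span_singleton] at h0
    obtain ⟨a, ha⟩ := h0
    rw [smul_eq_mul, hs] at ha
    have h1 : s * (1 - a * π) = 0 := by linear_combination -ha
    rcases mul_eq_zero.mp h1 with h2 | h2
    · apply hqj
      rw [hs, h2, mul_zero]
    · apply hπu
      exact IsUnit.of_mul_eq_one a (by linear_combination -h2)
  let h : (K[X] ⧸ K[X] ∙ q i) →ₗ[K[X]] (K[X] ⧸ K[X] ∙ q j) :=
    (K[X] ∙ q i).liftQ (LinearMap.toSpanSingleton K[X] (K[X] ⧸ K[X] ∙ q j)
      (Submodule.Quotient.mk s)) (by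
      rw [Submodule.span_singleton_le_iff_mem, LinearMap.mem_ker, LinearMap.toSpanSingleton_apply,
        ← Submodule.Quotient.mk_smul, Submodule.Quotient.mk_eq_zero, Submodule.mem_span_singleton]
      exact ⟨t, by rw [smul_eq_mul, smul_eq_mul, ht, hs]; ring⟩)
  have h1' : h (Submodule.Quotient.mk 1) = Submodule.Quotient.mk s := by
    show ((K[X] ∙ q i).liftQ _ _) (Submodule.Quotient.mk 1) = _
    rw [Submodule.liftQ_apply, LinearMap.toSpanSingleton_apply, one_smul]
  refine ⟨(LinearMap.single K[X] (fun l => K[X] ⧸ K[X] ∙ q l) j) ∘ₗ h ∘ₗ (LinearMap.proj i),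
    fun a c hz => ?_⟩
  have hc : c = 0 := by
    by_contra hc
    have h2 := congr_fun (LinearMap.congr_fun hz (Pi.single i (Submodule.Quotient.mk 1) :
      ∀ l, K[X] ⧸ K[X] ∙ q l)) j
    rw [LinearMap.add_apply, LinearMap.smul_apply, LinearMap.mul_apply', LinearMap.zero_apply,
      Pi.add_apply, Pi.smul_apply, Pi.mul_apply, Pi.zero_apply,
      Pi.single_eq_of_ne hij.symm, mul_zero, zero_add] at h2
    have h3 : ((LinearMap.single K[X] (fun l => K[X] ⧸ K[X] ∙ q l) j) ∘ₗ h ∘ₗ (LinearMap.proj i))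
        (Pi.single i (Submodule.Quotient.mk 1) : ∀ l, K[X] ⧸ K[X] ∙ q l) j =
        Submodule.Quotient.mk s := by
      show (Pi.single j (h ((Pi.single i (Submodule.Quotient.mk 1) :
        ∀ l, K[X] ⧸ K[X] ∙ q l) i)) : ∀ l, K[X] ⧸ K[X] ∙ q l) j = _
      rw [Pi.single_eq_same, Pi.single_eq_same, h1']
    rw [h3] at h2
    apply hs0
    have h4 : (C c⁻¹ : K[X]) • ((C c : K[X]) •
        (Submodule.Quotient.mk s : K[X] ⧸ K[X] ∙ q j)) = Submodule.Quotient.mk s := by
      rw [smul_smul, ← C_mul, inv_mul_cancel₀ hc, C_1, one_smul]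
    rw [← h4, h2, smul_zero]
  subst hc
  refine ⟨?_, rfl⟩
  rw [C_0, zero_smul, add_zero] at hz
  have h5 := LinearMap.congr_fun hz 1
  rw [LinearMap.mul_apply', mul_one, LinearMap.zero_apply] at h5
  exact h5

end Abstract

section Count

variable {n : ℕ} (g : Matrix (Fin n) (Fin n) K)

theorem succ_le_finrank_centralizer
    (Ψ : AEval' (Matrix.toLin' g) →ₗ[K[X]] Module.End K[X] (AEval' (Matrix.toLin' g)))
    (H : Module.End K[X] (AEval' (Matrix.toLin' g)))
    (hinj : ∀ (m : AEval' (Matrix.toLin' g)) (c : K),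
      Ψ m + (C c : K[X]) • H = 0 → m = 0 ∧ c = 0) :
    n + 1 ≤ Module.finrank K
      (Subalgebra.centralizer K ({g} : Set (Matrix (Fin n) (Fin n) K))) := by
  classical
  let T : Module.End K[X] (AEval' (Matrix.toLin' g)) →ₗ[K] Matrix (Fin n) (Fin n) K :=
    (LinearMap.toMatrix' : ((Fin n → K) →ₗ[K] (Fin n → K)) ≃ₗ[K]
        Matrix (Fin n) (Fin n) K).toLinearMap ∘ₗ
    ((AEval'.of (Matrix.toLin' g)).symm.conj : Module.End K (AEval' (Matrix.toLin' g)) ≃ₗ[K]
        Module.End K (Fin n → K)).toLinearMap ∘ₗ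
    (LinearMap.restrictScalarsₗ K K[X] (AEval' (Matrix.toLin' g)) (AEval' (Matrix.toLin' g)) K)
  have hT_apply : ∀ (ψ : Module.End K[X] (AEval' (Matrix.toLin' g))) (m : Fin n → K),
      (T ψ).mulVec m = (AEval'.of (Matrix.toLin' g)).symm (ψ (AEval'.of (Matrix.toLin' g) m)) := by
    intro ψ m
    show (LinearMap.toMatrix' ((AEval'.of (Matrix.toLin' g)).symm.conj
      (ψ.restrictScalars K))).mulVec m = _
    rw [← Matrix.toLin'_apply, Matrix.toLin'_toMatrix', LinearEquiv.conj_apply_apply]
    rfl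
  have hT_inj : Function.Injective T := by
    intro ψ₁ ψ₂ h12
    apply LinearMap.ext
    intro z
    have h1 := hT_apply ψ₁ ((AEval'.of (Matrix.toLin' g)).symm z)
    have h2 := hT_apply ψ₂ ((AEval'.of (Matrix.toLin' g)).symm z)
    rw [h12, h2, LinearEquiv.apply_symm_apply] at h1
    exact ((AEval'.of (Matrix.toLin' g)).symm.injective h1).symm
  have hT_mem : ∀ ψ : Module.End K[X] (AEval' (Matrix.toLin' g)),
      T ψ ∈ Subalgebra.centralizer K ({g} : Set (Matrix (Fin n) (Fin n) K)) := by
    intro ψ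
    rw [Subalgebra.mem_centralizer_iff]
    intro g' hg'
    rw [Set.mem_singleton_iff] at hg'
    subst hg'
    rw [Matrix.ext_iff_mulVec]
    intro m
    rw [← Matrix.mulVec_mulVec, ← Matrix.mulVec_mulVec, hT_apply, hT_apply]
    have h1 : AEval'.of (Matrix.toLin' g') (g'.mulVec m) =
        (X : K[X]) • AEval'.of (Matrix.toLin' g') m := by
      rw [AEval'.X_smul_of, Matrix.toLin'_apply]
    rw [h1, map_smul, AEval'.of_symm_X_smul, Matrix.toLin'_apply]
  let L₀ : ((Fin n → K) × K) →ₗ[K] Matrix (Fin n) (Fin n) K :=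
    T ∘ₗ (((Ψ.restrictScalars K) ∘ₗ (AEval'.of (Matrix.toLin' g)).toLinearMap).coprod
      (((LinearMap.toSpanSingleton K[X] _ H).restrictScalars K) ∘ₗ (Algebra.linearMap K K[X])))
  have hL₀ : ∀ (m : Fin n → K) (c : K),
      L₀ (m, c) = T (Ψ (AEval'.of (Matrix.toLin' g) m) + (C c : K[X]) • H) := by
    intro m c
    rfl
  have hL₀_inj : Function.Injective L₀ := by
    rw [injective_iff_map_eq_zero]
    rintro ⟨m, c⟩ hz
    rw [hL₀] at hz
    have h1 := hT_inj (hz.trans (map_zero T).symm)
    obtain ⟨h2, h3⟩ := hinj _ _ h1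
    rw [LinearEquiv.map_eq_zero_iff] at h2
    rw [h2, h3]
    rfl
  let L : ((Fin n → K) × K) →ₗ[K]
      ↥(Subalgebra.toSubmodule (Subalgebra.centralizer K ({g} : Set (Matrix (Fin n) (Fin n) K)))) :=
    L₀.codRestrict _ (fun z => hT_mem _)
  have hL_inj : Function.Injective L := (LinearMap.injective_codRestrict_iff _).mpr hL₀_inj
  have h6 := LinearMap.finrank_le_finrank_of_injective hL_inj
  rw [Module.finrank_prod, Module.finrank_fin_fun, Module.finrank_self,
    Subalgebra.finrank_toSubmodule] at h6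
  exact h6

theorem kry_det_ne_zero_of_cyclic (hn : 0 < n)
    (v : AEval' (Matrix.toLin' g))
    (hv : ∀ m : AEval' (Matrix.toLin' g), ∃ r : K[X], r • v = m) :
    ∃ w : Fin n → K, (kry g w).det ≠ 0 := by
  classical
  refine ⟨(AEval'.of (Matrix.toLin' g)).symm v, ?_⟩
  have haev : ∀ r : K[X], aeval (Matrix.toLin' g) r = Matrix.toLin' (aeval g r) := by
    intro r
    exact Polynomial.aeval_algHom_apply
      (Matrix.toLinAlgEquiv' : Matrix (Fin n) (Fin n) K ≃ₐ[K] _) g r
  have hχ : g.charpoly.Monic := Matrix.charpoly_monic g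
  have hdeg : g.charpoly.natDegree = n := by
    rw [Matrix.charpoly_natDegree_eq_dim, Fintype.card_fin]
  have hχ1 : g.charpoly ≠ 1 := by
    intro h1
    rw [h1, natDegree_one] at hdeg
    omega
  have hspan : ⊤ ≤ Submodule.span K (Set.range fun i : Fin n =>
      (g ^ (i : ℕ)).mulVec ((AEval'.of (Matrix.toLin' g)).symm v)) := by
    rintro m -
    obtain ⟨r, hr⟩ := hv (AEval'.of (Matrix.toLin' g) m)
    have h2 : (AEval'.of (Matrix.toLin' g)).symm (r • v) = m := by
      rw [hr]
      exact LinearEquiv.symm_apply_apply _ _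
    rw [AEval.of_symm_smul] at h2
    have h2' : (aeval (Matrix.toLin' g) r) ((AEval'.of (Matrix.toLin' g)).symm v) = m := h2
    rw [haev, Matrix.toLin'_apply] at h2'
    have h3 : aeval g r = aeval g (r %ₘ g.charpoly) := by
      conv_lhs => rw [← Polynomial.modByMonic_add_div r g.charpoly]
      rw [map_add, map_mul, Matrix.aeval_self_charpoly, zero_mul, add_zero]
    have h4 := natDegree_modByMonic_lt r hχ hχ1
    rw [hdeg] at h4
    rw [← h2', h3, aeval_eq_sum_range' h4, Matrix.sum_mulVec,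
      ← Fin.sum_univ_eq_sum_range (fun i => ((r %ₘ g.charpoly).coeff i • g ^ i).mulVec
        ((AEval'.of (Matrix.toLin' g)).symm v)) n]
    apply Submodule.sum_mem
    intro i _
    rw [Matrix.smul_mulVec]
    exact Submodule.smul_mem _ _ (Submodule.subset_span ⟨i, rfl⟩)
  have hli : LinearIndependent K (fun i : Fin n =>
      (g ^ (i : ℕ)).mulVec ((AEval'.of (Matrix.toLin' g)).symm v)) :=
    linearIndependent_of_top_le_span_of_card_eq_finrank hspan
      (by rw [Fintype.card_fin, Module.finrank_fin_fun])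
  have hcol : (kry g ((AEval'.of (Matrix.toLin' g)).symm v)).col = fun i : Fin n =>
      (g ^ (i : ℕ)).mulVec ((AEval'.of (Matrix.toLin' g)).symm v) := by
    funext i
    rfl
  have hU : IsUnit (kry g ((AEval'.of (Matrix.toLin' g)).symm v)) :=
    Matrix.linearIndependent_cols_iff_isUnit.mp (by rw [hcol]; exact hli)
  exact ((Matrix.isUnit_iff_isUnit_det _).mp hU).ne_zero

/-- A matrix over a field whose commutant has dimension `n` has a cyclic vector. -/
theorem exists_kry_det_ne_zero
    (hreg : Module.finrank K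
      (Subalgebra.centralizer K ({g} : Set (Matrix (Fin n) (Fin n) K))) = n) :
    ∃ v : Fin n → K, (kry g v).det ≠ 0 := by
  classical
  rcases Nat.eq_zero_or_pos n with hn | hn
  · subst hn
    exact ⟨0, by rw [Matrix.det_isEmpty]; exact one_ne_zero⟩
  have htors : Module.IsTorsion K[X] (AEval' (Matrix.toLin' g)) :=
    Module.AEval.isTorsion_of_finiteDimensional K (Fin n → K) (Matrix.toLin' g)
  obtain ⟨ι, _, p, hp, e, ⟨iso⟩⟩ := Module.equiv_directSum_of_isTorsion htors
  have hq0 : ∀ i, p i ^ e i ≠ 0 := fun i => pow_ne_zero _ (hp i).ne_zero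
  let e' : AEval' (Matrix.toLin' g) ≃ₗ[K[X]] (∀ i, K[X] ⧸ K[X] ∙ p i ^ e i) :=
    iso.trans (DirectSum.linearEquivFunOnFintype K[X] ι _)
  by_cases hco : Pairwise (Function.onFun IsCoprime fun i => Ideal.span {p i ^ e i})
  · obtain ⟨v, hv⟩ := exists_cyclic_of_pairwise_coprime (fun i => p i ^ e i) e' hco
    exact kry_det_ne_zero_of_cyclic g hn v hv
  · exfalso
    rw [Pairwise] at hco
    push Not at hco
    obtain ⟨i, j, hij, hnc⟩ := hco
    obtain ⟨H, hH⟩ := exists_extra_endo (fun i => p i ^ e i) hij (hq0 j) hnc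
    have h1 := succ_le_finrank_centralizer g
      ((e'.conj.symm : Module.End K[X] (∀ i, K[X] ⧸ K[X] ∙ p i ^ e i) ≃ₗ[K[X]]
          Module.End K[X] (AEval' (Matrix.toLin' g))).toLinearMap ∘ₗ
        (LinearMap.mul K[X] (∀ i, K[X] ⧸ K[X] ∙ p i ^ e i)) ∘ₗ e'.toLinearMap)
      (e'.conj.symm H) (by
        intro m c hz
        have h2 : e'.conj.symm (LinearMap.mul K[X] (∀ i, K[X] ⧸ K[X] ∙ p i ^ e i) (e' m) +
            (C c : K[X]) • H) = 0 := by
          rw [map_add, map_smul]
          exact hz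
        rw [LinearEquiv.map_eq_zero_iff] at h2
        obtain ⟨h3, h4⟩ := hH _ _ h2
        exact ⟨(LinearEquiv.map_eq_zero_iff e').mp h3, h4⟩)
    omega

end Count

end Field

section Global

/-- Over any base, two matrices commuting with a fiberwise regular matrix commute. -/
theorem commute_of_fiberwise_regular {A : Type u} [CommRing A] {n : ℕ}
    (g : Matrix (Fin n) (Fin n) A)
    (hreg : ∀ (K : Type u) [Field K] (φ : A →+* K),
      Module.finrank K (Subalgebra.centralizer K ({g.map φ} : Set (Matrix (Fin n) (Fin n) K))) = n)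
    {B : Type u} [CommRing B] [Algebra A B] (x y : Matrix (Fin n) (Fin n) B)
    (hxg : x * g.map (algebraMap A B) = g.map (algebraMap A B) * x)
    (hyg : y * g.map (algebraMap A B) = g.map (algebraMap A B) * y) :
    x * y = y * x := by
  classical
  ext a b
  rw [← sub_eq_zero]
  apply eq_zero_of_localization
  intro J hJ
  have hk := hreg (IsLocalRing.ResidueField (Localization.AtPrime J))
    ((IsLocalRing.residue (Localization.AtPrime J)).comp
      ((algebraMap B (Localization.AtPrime J)).comp (algebraMap A B)))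
  have hmap : ((g.map (algebraMap A B)).map (algebraMap B (Localization.AtPrime J))).map
      (IsLocalRing.residue (Localization.AtPrime J)) =
      g.map ((IsLocalRing.residue (Localization.AtPrime J)).comp
        ((algebraMap B (Localization.AtPrime J)).comp (algebraMap A B))) := by
    rw [Matrix.map_map, Matrix.map_map]
    rfl
  obtain ⟨w, hw⟩ := exists_kry_det_ne_zero _ hk
  obtain ⟨v, hv⟩ := exists_cyclic_local
    ((g.map (algebraMap A B)).map (algebraMap B (Localization.AtPrime J)))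
    ⟨w, by rw [hmap]; exact hw⟩
  have hx' : x.map (algebraMap B (Localization.AtPrime J)) *
      (g.map (algebraMap A B)).map (algebraMap B (Localization.AtPrime J)) =
      (g.map (algebraMap A B)).map (algebraMap B (Localization.AtPrime J)) *
        x.map (algebraMap B (Localization.AtPrime J)) := by
    rw [← Matrix.map_mul, ← Matrix.map_mul, hxg]
  have hy' : y.map (algebraMap B (Localization.AtPrime J)) *
      (g.map (algebraMap A B)).map (algebraMap B (Localization.AtPrime J)) =
      (g.map (algebraMap A B)).map (algebraMap B (Localization.AtPrime J)) *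
        y.map (algebraMap B (Localization.AtPrime J)) := by
    rw [← Matrix.map_mul, ← Matrix.map_mul, hyg]
  have hc := commute_of_cyclic _ (x.map (algebraMap B (Localization.AtPrime J)))
    (y.map (algebraMap B (Localization.AtPrime J))) v hv hx' hy'
  rw [map_sub, sub_eq_zero]
  have h1 : algebraMap B (Localization.AtPrime J) ((x * y) a b) =
      (x.map (algebraMap B (Localization.AtPrime J)) *
        y.map (algebraMap B (Localization.AtPrime J))) a b := by
    rw [← Matrix.map_mul]
    rfl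
  have h2 : algebraMap B (Localization.AtPrime J) ((y * x) a b) =
      (y.map (algebraMap B (Localization.AtPrime J)) *
        x.map (algebraMap B (Localization.AtPrime J))) a b := by
    rw [← Matrix.map_mul]
    rfl
  rw [h1, h2, hc]

end Global

end Groth.Agent.Lib.RegMatH1
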