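import Mathlib
import Groth.Agent.Lib.RegMat_helper1

/-!
Helper library (helper1): fiberwise regular matrices, global form.  For a fiberwise regular `g`
over `A` and any `A`-algebra `B`, every matrix commuting with `g_B` is uniquely a `B`-combination
of `1, g_B, …, g_B^(n-1)`; the centralizer scheme is an affine space over `A`.
APPEND-ONLY once landed.
-/

set_option autoImplicit false

namespace Groth.Agent.Lib.RegMat2H1

open Groth.Agent.Lib.RegMatH1

universe u

section General

variable {B : Type*} [CommRing B] {n : ℕ}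

theorem kry_mulVec (g : Matrix (Fin n) (Fin n) B) (v c : Fin n → B) :
    (kry g v).mulVec c = (∑ k : Fin n, c k • g ^ (k : ℕ)).mulVec v := by
  rw [Matrix.sum_mulVec]
  funext a
  rw [Finset.sum_apply]
  have h0 : ((kry g v).mulVec c) a = ∑ i, kry g v a i * c i := rfl
  rw [h0]
  apply Finset.sum_congr rfl
  intro i _
  rw [Matrix.smul_mulVec, Pi.smul_apply, smul_eq_mul, mul_comm]
  rfl

theorem sum_pow_commute (g : Matrix (Fin n) (Fin n) B) (c : Fin n → B) (j : ℕ) :
    (∑ i : Fin n, c i • g ^ (i : ℕ)) * g ^ j = g ^ j * ∑ i : Fin n, c i • g ^ (i : ℕ) := by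
  rw [Finset.sum_mul, Finset.mul_sum]
  apply Finset.sum_congr rfl
  intro i _
  rw [Matrix.smul_mul, Matrix.mul_smul, ← pow_add, ← pow_add, add_comm]

theorem det_sq_smul_eq (g x : Matrix (Fin n) (Fin n) B) (v : Fin n → B) (hx : x * g = g * x) :
    ∃ c : Fin n → B, (kry g v).det ^ 2 • x =
      (kry g v).det • ∑ k : Fin n, c k • g ^ (k : ℕ) := by
  classical
  let c : Fin n → B := (kry g v).adjugate.mulVec (x.mulVec v)
  have h1 : (kry g v).mulVec c = (kry g v).det • x.mulVec v := by
    show (kry g v).mulVec ((kry g v).adjugate.mulVec (x.mulVec v)) = _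
    rw [Matrix.mulVec_mulVec, Matrix.mul_adjugate, Matrix.smul_mulVec, Matrix.one_mulVec]
  have h2 := kry_mulVec g v c
  have hcomm : ∀ j : ℕ, x * g ^ j = g ^ j * x := fun j =>
    (Commute.pow_right (show Commute x g from hx) j).eq
  have h3 : ∀ j : ℕ, ((kry g v).det • x).mulVec ((g ^ j).mulVec v) =
      (∑ i : Fin n, c i • g ^ (i : ℕ)).mulVec ((g ^ j).mulVec v) := by
    intro j
    rw [Matrix.smul_mulVec, Matrix.mulVec_mulVec, hcomm, ← Matrix.mulVec_mulVec,
      ← Matrix.mulVec_smul, ← h1, h2, Matrix.mulVec_mulVec, Matrix.mulVec_mulVec,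
      sum_pow_commute]
  have h4 : ((kry g v).det • x) * kry g v = (∑ i : Fin n, c i • g ^ (i : ℕ)) * kry g v := by
    ext a j
    show (((kry g v).det • x).mulVec ((g ^ (j : ℕ)).mulVec v)) a =
      ((∑ i : Fin n, c i • g ^ (i : ℕ)).mulVec ((g ^ (j : ℕ)).mulVec v)) a
    rw [h3]
  refine ⟨c, ?_⟩
  have h5 := congrArg (fun M => M * (kry g v).adjugate) h4
  simp only [Matrix.mul_assoc, Matrix.mul_adjugate, Matrix.mul_smul, Matrix.mul_one] at h5
  rw [sq, mul_smul]
  exact h5

end General

section Global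

variable {A : Type u} [CommRing A] {n : ℕ} (g : Matrix (Fin n) (Fin n) A)
  (hreg : ∀ (K : Type u) [Field K] (φ : A →+* K),
    Module.finrank K (Subalgebra.centralizer K ({g.map φ} : Set (Matrix (Fin n) (Fin n) K))) = n)
  {B : Type u} [CommRing B] [Algebra A B]

include hreg in
theorem ideal_eq_top_of_kry_det_sq_mem (J : Ideal B)
    (hJ : ∀ v : Fin n → B, (kry (g.map (algebraMap A B)) v).det ^ 2 ∈ J) : J = ⊤ := by
  classical
  by_contra hne
  obtain ⟨m, hm, hJm⟩ := Ideal.exists_le_maximal J hne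
  haveI := hm
  letI : Field (B ⧸ m) := Ideal.Quotient.field m
  have hk := hreg (B ⧸ m) ((Ideal.Quotient.mk m).comp (algebraMap A B))
  obtain ⟨w, hw⟩ := exists_kry_det_ne_zero _ hk
  choose v hv using fun a => Ideal.Quotient.mk_surjective (w a)
  have h1 : (kry (g.map (algebraMap A B)) v).det ∈ m :=
    hm.isPrime.mem_of_pow_mem 2 (hJm (hJ v))
  apply hw
  have h2 : (Ideal.Quotient.mk m) (kry (g.map (algebraMap A B)) v).det = 0 :=
    Ideal.Quotient.eq_zero_iff_mem.mpr h1
  rw [RingHom.map_det, RingHom.mapMatrix_apply, kry_map, Matrix.map_map] at h2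
  have h3 : (Ideal.Quotient.mk m) ∘ v = w := funext hv
  rw [h3] at h2
  exact h2

include hreg in
theorem exists_coeffs (x : Matrix (Fin n) (Fin n) B)
    (hx : x * g.map (algebraMap A B) = g.map (algebraMap A B) * x) :
    ∃ c : Fin n → B, x = ∑ k : Fin n, c k • (g.map (algebraMap A B)) ^ (k : ℕ) := by
  classical
  have hJ : Submodule.comap (LinearMap.toSpanSingleton B (Matrix (Fin n) (Fin n) B) x)
      (Submodule.span B (Set.range fun k : Fin n => (g.map (algebraMap A B)) ^ (k : ℕ))) = ⊤ := by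
    apply ideal_eq_top_of_kry_det_sq_mem g hreg
    intro v
    rw [Submodule.mem_comap, LinearMap.toSpanSingleton_apply]
    obtain ⟨c, hc⟩ := det_sq_smul_eq (g.map (algebraMap A B)) x v hx
    rw [hc]
    exact Submodule.smul_mem _ _ (Submodule.sum_mem _ fun k _ =>
      Submodule.smul_mem _ _ (Submodule.subset_span ⟨k, rfl⟩))
  have h1 : (1 : B) ∈ Submodule.comap (LinearMap.toSpanSingleton B (Matrix (Fin n) (Fin n) B) x)
      (Submodule.span B (Set.range fun k : Fin n => (g.map (algebraMap A B)) ^ (k : ℕ))) := by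
    rw [hJ]
    trivial
  rw [Submodule.mem_comap, LinearMap.toSpanSingleton_apply, one_smul] at h1
  obtain ⟨c, hc⟩ := (Submodule.mem_span_range_iff_exists_fun B).mp h1
  exact ⟨c, hc.symm⟩

include hreg in
theorem coeffs_unique (c : Fin n → B)
    (hc : ∑ k : Fin n, c k • (g.map (algebraMap A B)) ^ (k : ℕ) = 0) : c = 0 := by
  classical
  have hJ : LinearMap.ker (LinearMap.toSpanSingleton B (Fin n → B) c) = ⊤ := by
    apply ideal_eq_top_of_kry_det_sq_mem g hreg
    intro v
    rw [LinearMap.mem_ker, LinearMap.toSpanSingleton_apply, sq, mul_smul]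
    have h0 : (kry (g.map (algebraMap A B)) v).det • c = 0 := by
      have h2 := kry_mulVec (g.map (algebraMap A B)) v c
      rw [hc, Matrix.zero_mulVec] at h2
      have h3 := congrArg (Matrix.mulVec (Matrix.adjugate (kry (g.map (algebraMap A B)) v))) h2
      rw [Matrix.mulVec_mulVec, Matrix.adjugate_mul, Matrix.smul_mulVec, Matrix.one_mulVec,
        Matrix.mulVec_zero] at h3
      exact h3
    rw [h0, smul_zero]
  have h1 : (1 : B) ∈ LinearMap.ker (LinearMap.toSpanSingleton B (Fin n → B) c) := by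
    rw [hJ]
    trivial
  rw [LinearMap.mem_ker, LinearMap.toSpanSingleton_apply, one_smul] at h1
  exact h1

end Global

section Centralizer

open MvPolynomial

variable {A : Type u} [CommRing A] {n : ℕ} (g : Matrix (Fin n) (Fin n) A)

/-- The ideal of the centralizer scheme inside the scheme of all matrices. -/
noncomputable def cIdeal : Ideal (MvPolynomial (Fin n × Fin n) A) :=
  Ideal.span (Set.range fun ij : Fin n × Fin n =>
    (Matrix.mvPolynomialX (Fin n) (Fin n) A * g.map MvPolynomial.C -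
      g.map MvPolynomial.C * Matrix.mvPolynomialX (Fin n) (Fin n) A :
        Matrix (Fin n) (Fin n) (MvPolynomial (Fin n × Fin n) A)) ij.1 ij.2)

/-- The generic polynomial in `g` over `A[t_0, …, t_{n-1}]`. -/
noncomputable def genPoly : Matrix (Fin n) (Fin n) (MvPolynomial (Fin n) A) :=
  ∑ k : Fin n, (X k : MvPolynomial (Fin n) A) • (g.map (algebraMap A (MvPolynomial (Fin n) A))) ^ (k : ℕ)

theorem genPoly_comm : genPoly g * g.map (algebraMap A (MvPolynomial (Fin n) A)) =
    g.map (algebraMap A (MvPolynomial (Fin n) A)) * genPoly g := by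
  have h := sum_pow_commute (g.map (algebraMap A (MvPolynomial (Fin n) A)))
    (fun k => (X k : MvPolynomial (Fin n) A)) 1
  rw [pow_one] at h
  exact h

/-- Apply an algebra map entrywise to a combination of powers of `g`. -/
theorem map_sum_pow {B C : Type*} [CommRing B] [CommRing C] [Algebra A B] [Algebra A C]
    (f : B →ₐ[A] C) (c : Fin n → B) :
    f.mapMatrix (∑ k : Fin n, c k • (g.map (algebraMap A B)) ^ (k : ℕ)) =
      ∑ k : Fin n, f (c k) • (g.map (algebraMap A C)) ^ (k : ℕ) := by
  have hg : f.mapMatrix (g.map (algebraMap A B)) = g.map (algebraMap A C) := by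
    refine Matrix.ext fun i j => ?_
    rw [AlgHom.mapMatrix_apply, Matrix.map_apply, Matrix.map_apply, Matrix.map_apply,
      AlgHom.commutes]
  rw [map_sum]
  apply Finset.sum_congr rfl
  intro k _
  refine Matrix.ext fun i j => ?_
  rw [AlgHom.mapMatrix_apply, Matrix.map_apply, Matrix.smul_apply, Matrix.smul_apply,
    smul_eq_mul, smul_eq_mul, map_mul, ← hg, ← map_pow, AlgHom.mapMatrix_apply, Matrix.map_apply]

/-- `A[x_ij] → A[t_k]`, sending the generic matrix to the generic polynomial in `g`. -/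
noncomputable def alphaHom : MvPolynomial (Fin n × Fin n) A →ₐ[A] MvPolynomial (Fin n) A :=
  MvPolynomial.aeval (fun ij : Fin n × Fin n => genPoly g ij.1 ij.2)

theorem alphaHom_X : (alphaHom g).mapMatrix (Matrix.mvPolynomialX (Fin n) (Fin n) A) =
    genPoly g := by
  refine Matrix.ext fun i j => ?_
  rw [AlgHom.mapMatrix_apply, Matrix.map_apply, Matrix.mvPolynomialX_apply]
  show MvPolynomial.aeval (fun ij : Fin n × Fin n => genPoly g ij.1 ij.2)
    (X (i, j) : MvPolynomial (Fin n × Fin n) A) = genPoly g i j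
  rw [MvPolynomial.aeval_X]

theorem alphaHom_g : (alphaHom g).mapMatrix (g.map MvPolynomial.C) =
    g.map (algebraMap A (MvPolynomial (Fin n) A)) := by
  refine Matrix.ext fun i j => ?_
  rw [AlgHom.mapMatrix_apply, Matrix.map_apply, Matrix.map_apply, Matrix.map_apply]
  show MvPolynomial.aeval (fun ij : Fin n × Fin n => genPoly g ij.1 ij.2) (C (g i j)) =
    algebraMap A (MvPolynomial (Fin n) A) (g i j)
  rw [MvPolynomial.aeval_C]

theorem alphaHom_cIdeal : ∀ a ∈ cIdeal g, alphaHom g a = 0 := by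
  intro a ha
  have hle : cIdeal g ≤ RingHom.ker (alphaHom g).toRingHom := by
    unfold cIdeal
    rw [Ideal.span_le]
    rintro _ ⟨ij, rfl⟩
    rw [SetLike.mem_coe, RingHom.mem_ker]
    have h1 : (alphaHom g).mapMatrix (Matrix.mvPolynomialX (Fin n) (Fin n) A * g.map MvPolynomial.C -
        g.map MvPolynomial.C * Matrix.mvPolynomialX (Fin n) (Fin n) A) = 0 := by
      rw [map_sub, map_mul, map_mul, alphaHom_X, alphaHom_g, genPoly_comm, sub_self]
    have h2 := congrFun (congrFun h1 ij.1) ij.2
    rw [AlgHom.mapMatrix_apply, Matrix.map_apply] at h2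
    exact h2
  exact hle ha

/-- `A[x_ij]/I → A[t_k]`. -/
noncomputable def alphaBar :
    (MvPolynomial (Fin n × Fin n) A ⧸ cIdeal g) →ₐ[A] MvPolynomial (Fin n) A :=
  Ideal.Quotient.liftₐ (cIdeal g) (alphaHom g) (alphaHom_cIdeal g)

theorem alphaBar_mk (a : MvPolynomial (Fin n × Fin n) A) :
    alphaBar g (Ideal.Quotient.mkₐ A (cIdeal g) a) = alphaHom g a := by
  unfold alphaBar
  rw [Ideal.Quotient.liftₐ_apply]
  exact Ideal.Quotient.lift_mk _ _ _

/-- The generic commuting matrix over the quotient. -/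
noncomputable def Xbar : Matrix (Fin n) (Fin n) (MvPolynomial (Fin n × Fin n) A ⧸ cIdeal g) :=
  (Ideal.Quotient.mkₐ A (cIdeal g)).mapMatrix (Matrix.mvPolynomialX (Fin n) (Fin n) A)

theorem Xbar_comm : Xbar g * g.map (algebraMap A (MvPolynomial (Fin n × Fin n) A ⧸ cIdeal g)) =
    g.map (algebraMap A (MvPolynomial (Fin n × Fin n) A ⧸ cIdeal g)) * Xbar g := by
  have hg : (Ideal.Quotient.mkₐ A (cIdeal g)).mapMatrix (g.map MvPolynomial.C) =
      g.map (algebraMap A (MvPolynomial (Fin n × Fin n) A ⧸ cIdeal g)) := by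
    refine Matrix.ext fun i j => ?_
    rw [AlgHom.mapMatrix_apply, Matrix.map_apply, Matrix.map_apply, Matrix.map_apply]
    exact (Ideal.Quotient.mkₐ A (cIdeal g)).commutes (g i j)
  have h1 : (Ideal.Quotient.mkₐ A (cIdeal g)).mapMatrix
      (Matrix.mvPolynomialX (Fin n) (Fin n) A * g.map MvPolynomial.C -
        g.map MvPolynomial.C * Matrix.mvPolynomialX (Fin n) (Fin n) A) = 0 := by
    refine Matrix.ext fun i j => ?_
    rw [AlgHom.mapMatrix_apply, Matrix.map_apply, Matrix.zero_apply]
    show Ideal.Quotient.mk (cIdeal g) _ = 0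
    rw [Ideal.Quotient.eq_zero_iff_mem]
    exact Ideal.subset_span ⟨(i, j), rfl⟩
  rw [map_sub, map_mul, map_mul, hg, sub_eq_zero] at h1
  exact h1

variable (hreg : ∀ (K : Type u) [Field K] (φ : A →+* K),
    Module.finrank K (Subalgebra.centralizer K ({g.map φ} : Set (Matrix (Fin n) (Fin n) K))) = n)

include hreg in
theorem nonempty_algEquiv :
    Nonempty ((MvPolynomial (Fin n × Fin n) A ⧸ cIdeal g) ≃ₐ[A] MvPolynomial (Fin n) A) := by
  classical
  obtain ⟨c, hc⟩ := exists_coeffs g hreg (Xbar g) (Xbar_comm g)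
  let β : MvPolynomial (Fin n) A →ₐ[A] (MvPolynomial (Fin n × Fin n) A ⧸ cIdeal g) :=
    MvPolynomial.aeval c
  have hβX : ∀ k, β (X k) = c k := fun k => MvPolynomial.aeval_X _ _
  have hβgen : β.mapMatrix (genPoly g) = Xbar g := by
    unfold genPoly
    rw [map_sum_pow g β, hc]
    apply Finset.sum_congr rfl
    intro k _
    rw [hβX]
  have hαX : (alphaBar g).mapMatrix (Xbar g) = genPoly g := by
    rw [← alphaHom_X]
    refine Matrix.ext fun i j => ?_
    rw [AlgHom.mapMatrix_apply, Matrix.map_apply, AlgHom.mapMatrix_apply, Matrix.map_apply]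
    unfold Xbar
    rw [AlgHom.mapMatrix_apply, Matrix.map_apply, alphaBar_mk]
  have h1 : (alphaBar g).comp β = AlgHom.id A (MvPolynomial (Fin n) A) := by
    apply MvPolynomial.algHom_ext
    intro k
    rw [AlgHom.comp_apply, hβX, AlgHom.id_apply]
    -- uniqueness of coefficients over `A[t]`
    have h2 : ∑ k : Fin n, (alphaBar g (c k) - X k) •
        (g.map (algebraMap A (MvPolynomial (Fin n) A))) ^ (k : ℕ) = 0 := by
      have h3 := hαX
      rw [hc, map_sum_pow g (alphaBar g)] at h3
      simp only [sub_smul, Finset.sum_sub_distrib]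
      rw [h3]
      unfold genPoly
      rw [sub_self]
    have h4 := coeffs_unique g hreg (fun k => alphaBar g (c k) - X k) h2
    have h5 := congrFun h4 k
    exact sub_eq_zero.mp h5
  have h2 : β.comp (alphaBar g) = AlgHom.id A (MvPolynomial (Fin n × Fin n) A ⧸ cIdeal g) := by
    apply Ideal.Quotient.algHom_ext
    apply MvPolynomial.algHom_ext
    rintro ⟨i, j⟩
    rw [AlgHom.comp_apply, AlgHom.comp_apply, AlgHom.comp_apply, AlgHom.id_apply, alphaBar_mk]
    have h3 : alphaHom g (X (i, j)) = genPoly g i j := by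
      show MvPolynomial.aeval (fun ij : Fin n × Fin n => genPoly g ij.1 ij.2)
        (X (i, j) : MvPolynomial (Fin n × Fin n) A) = genPoly g i j
      rw [MvPolynomial.aeval_X]
    rw [h3]
    have h4 := congrFun (congrFun hβgen i) j
    rw [AlgHom.mapMatrix_apply, Matrix.map_apply] at h4
    rw [h4]
    unfold Xbar
    rw [AlgHom.mapMatrix_apply, Matrix.map_apply, Matrix.mvPolynomialX_apply]
  exact ⟨AlgEquiv.ofAlgHom (alphaBar g) β h1 h2⟩

include hreg in
theorem flat_quot : Module.Flat A (MvPolynomial (Fin n × Fin n) A ⧸ cIdeal g) := by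
  obtain ⟨e⟩ := nonempty_algEquiv g hreg
  exact Module.Flat.of_linearEquiv e.toLinearEquiv

theorem main15843 (A : Type u) [CommRing A] (n : ℕ)
    (g : Matrix (Fin n) (Fin n) A)
    (hreg : ∀ (K : Type u) [Field K] (φ : A →+* K),
      Module.finrank K (Subalgebra.centralizer K ({g.map φ} : Set (Matrix (Fin n) (Fin n) K))) = n) :
    Module.Flat A (Localization.Away
      (Ideal.Quotient.mk (Ideal.span (Set.range fun ij : Fin n × Fin n =>
        (Matrix.mvPolynomialX (Fin n) (Fin n) A * g.map MvPolynomial.C -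
          g.map MvPolynomial.C * Matrix.mvPolynomialX (Fin n) (Fin n) A :
            Matrix (Fin n) (Fin n) (MvPolynomial (Fin n × Fin n) A)) ij.1 ij.2))
        (Matrix.mvPolynomialX (Fin n) (Fin n) A).det)) := by
  have : Module.Flat A (MvPolynomial (Fin n × Fin n) A ⧸ cIdeal g) := flat_quot g hreg
  exact Localization.flat (R := A) (S := MvPolynomial (Fin n × Fin n) A ⧸ cIdeal g) _

end Centralizer

end Groth.Agent.Lib.RegMat2H1
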