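import Mathlib
import Groth.Prelude
import Groth.Agent.Lib.RegMero1_helper5
import Groth.Agent.Lib.AssPt2_helper8

/-!
# Existence of regular meromorphic sections (helper5)
APPEND-ONLY once landed.

* `finite_components_meeting`: irreducible components meeting an open with finitely many
  irreducible components.
* `exists_gen_generic`: a generator of an invertible module over an open containing all maximal
  points, when the irreducible components are locally finite.
* `hasRegularMero_of_reduced`: EGA IV 21.3.4 for reduced schemes with locally finitely many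
  irreducible components.
* `hasRegularMero_of_noEmbedded`: EGA IV 21.3.5 for locally Noetherian schemes without embedded
  points.
-/

set_option autoImplicit false
universe u
open CategoryTheory CategoryTheory.Limits AlgebraicGeometry TopologicalSpace Opposite
open QcqsLoc QCohExtn GenLocH8

namespace Groth.Agent.RegMero

open Groth.Agent.DivPic

/-- The irreducible components meeting an open subset with finitely many irreducible components are
finite in number. -/
theorem finite_components_meeting {T : Type*} [TopologicalSpace T] (W : Set T) (hW : IsOpen W)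
    (hfin : (irreducibleComponents W).Finite) :
    {Z : Set T | Z ∈ irreducibleComponents T ∧ (Z ∩ W).Nonempty}.Finite := by
  refine Set.Finite.of_injOn (f := fun Z : Set T => (Subtype.val : W → T) ⁻¹' Z)
    (t := irreducibleComponents W) ?_ ?_ hfin
  · intro Z hZ
    exact preimage_mem_irreducibleComponents hZ.1 hW.isOpenEmbedding_subtypeVal
      (by rw [Subtype.range_coe]; exact hZ.2)
  · intro Z hZ Z' hZ' h
    have hne : ∀ Z₀ : Set T, (Z₀ ∩ W).Nonempty → ((Subtype.val : W → T) ⁻¹' Z₀).Nonempty := by
      rintro Z₀ ⟨x, hxZ, hxW⟩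
      exact ⟨⟨x, hxW⟩, hxZ⟩
    have h1 := closure_image_preimage_of_isPreirreducible (Subtype.val : W → T)
      hW.isOpenEmbedding_subtypeVal.isOpenMap Z (hne Z hZ.2) hZ.1.1.2
      (isClosed_of_mem_irreducibleComponents Z hZ.1)
    have h2 := closure_image_preimage_of_isPreirreducible (Subtype.val : W → T)
      hW.isOpenEmbedding_subtypeVal.isOpenMap Z' (hne Z' hZ'.2) hZ'.1.1.2
      (isClosed_of_mem_irreducibleComponents Z' hZ'.1)
    have h' : (Subtype.val : W → T) ⁻¹' Z = (Subtype.val : W → T) ⁻¹' Z' := h
    rw [← h1, ← h2, h']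

variable {X : Scheme.{u}}

/-- With locally finitely many irreducible components, an invertible module has a generator over an
open containing all maximal points. -/
theorem exists_gen_generic
    (hX : ∀ x : X, ∃ W : X.Opens, x ∈ W ∧
      {Z : Set X | Z ∈ irreducibleComponents X ∧ (Z ∩ (W : Set X)).Nonempty}.Finite)
    {L : X.Modules} (hL : PicF.IsInvertible L) :
    ∃ (U : X.Opens) (e : Γ(L, U)), IsGen L U e ∧
      ∀ x : X, closure {x} ∈ irreducibleComponents X → x ∈ U := by
  have hT : ∀ x : X, ∃ W : Set X, IsOpen W ∧ x ∈ W ∧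
      {Z : Set X | Z ∈ irreducibleComponents X ∧ (Z ∩ W).Nonempty}.Finite := by
    intro x
    obtain ⟨W, hxW, hfin⟩ := hX x
    exact ⟨W, W.isOpen, hxW, hfin⟩
  have h1 : ∀ Z : irreducibleComponents X, ∃ (O : X.Opens) (g : Γ(L, O)), IsGen L O g ∧
      (O : Set X) ⊆ (others Z.1)ᶜ ∧ (genericPoints.ofComponent Z).1 ∈ O := by
    intro Z
    have hgen := genericPoints.isGenericPoint_ofComponent Z
    obtain ⟨p, hp⟩ := compl_others_nonempty hT Z.2
    have hξ : (genericPoints.ofComponent Z).1 ∈ (others Z.1)ᶜ :=
      (hgen.mem_open_set_iff (isClosed_others hT Z.1).isOpen_compl).2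
        ⟨p, compl_others_subset Z.1 hp, hp⟩
    obtain ⟨V, -, hξV, g, hg⟩ := GenLocH8.exists_isGen hL (genericPoints.ofComponent Z).1
    obtain ⟨O', hO'⟩ : ∃ O' : X.Opens, (O' : Set X) = (others Z.1)ᶜ :=
      ⟨⟨(others Z.1)ᶜ, (isClosed_others hT Z.1).isOpen_compl⟩, rfl⟩
    refine ⟨O' ⊓ V, rF L inf_le_right g, hg.res inf_le_right, ?_, ⟨?_, hξV⟩⟩
    · intro x hx
      rw [← hO']
      exact hx.1
    · show (genericPoints.ofComponent Z).1 ∈ (O' : Set X)
      rw [hO']
      exact hξ
  choose O g hg hO hξO using h1
  have hdisj : ∀ Z Z' : irreducibleComponents X, Z ≠ Z' → O Z ⊓ O Z' = ⊥ := by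
    intro Z Z' hne
    rw [eq_bot_iff]
    intro x hx
    exact (compl_others_disjoint Z.2 (fun h => hne (Subtype.ext h)) x (hO Z hx.1)
      (hO Z' hx.2)).elim
  obtain ⟨U, hUdef⟩ : ∃ U : X.Opens, U = ⨆ Z, O Z := ⟨_, rfl⟩
  have hle : ∀ Z, O Z ≤ U := fun Z => by rw [hUdef]; exact le_iSup O Z
  obtain ⟨e, he⟩ := TensH8.glue L O U hle (le_of_eq hUdef) g (by
    intro Z Z'
    by_cases h : Z = Z'
    · subst h
      rfl
    · apply eq_of_cover L
      intro x hx
      rw [hdisj Z Z' h] at hx
      exact hx.elim)
  have heU : IsGen L U e := by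
    apply TensH8.isGen_of_cover e
    intro x hx
    rw [hUdef] at hx
    obtain ⟨Z, hZ⟩ := Opens.mem_iSup.1 hx
    refine ⟨O Z, hle Z, hZ, ?_⟩
    rw [he Z]
    exact hg Z
  refine ⟨U, e, heU, fun x hx => ?_⟩
  have h2 : IsGenericPoint (genericPoints.ofComponent ⟨closure {x}, hx⟩).1 (closure {x}) :=
    genericPoints.isGenericPoint_ofComponent ⟨closure {x}, hx⟩
  have h3 : (genericPoints.ofComponent ⟨closure {x}, hx⟩).1 = x :=
    h2.eq (isGenericPoint_closure (x := x))
  rw [← h3]
  exact hle _ (hξO _)

/-- **EGA IV 21.3.4**: on a reduced scheme whose quasi-compact opens have finitely many irreducible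
components, every invertible module has a regular meromorphic section. -/
theorem hasRegularMero_of_reduced [IsReduced X]
    (hfin : ∀ U : X.Opens, IsCompact (U : Set X) → (irreducibleComponents ↥(U : Scheme.{u})).Finite)
    (L : X.Modules) (hL : PicF.IsInvertible L) : Mero.HasRegularMero L := by
  have hX : ∀ x : X, ∃ W : X.Opens, x ∈ W ∧
      {Z : Set X | Z ∈ irreducibleComponents X ∧ (Z ∩ (W : Set X)).Nonempty}.Finite := by
    intro x
    obtain ⟨W, hW, hxW, -⟩ := GenLocH8.exists_isGen hL x
    exact ⟨W, hxW, finite_components_meeting (W : Set X) W.isOpen (hfin W hW.isCompact)⟩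
  obtain ⟨U, e, heU, hUgen⟩ := exists_gen_generic hX hL
  have hdense : SchDense U := by
    apply schDense_of_dense U
    intro W hW hWU
    obtain ⟨x, hxW⟩ : ∃ x, x ∈ W := by
      by_contra hcon
      push Not at hcon
      apply hW
      rw [eq_bot_iff]
      intro x hx
      exact (hcon x hx).elim
    have hZ := irreducibleComponent_mem_irreducibleComponents x
    have hgen := genericPoints.isGenericPoint_ofComponent ⟨irreducibleComponent x, hZ⟩
    have hξU : (genericPoints.ofComponent ⟨irreducibleComponent x, hZ⟩).1 ∈ U :=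
      hUgen _ (genericPoints.ofComponent ⟨irreducibleComponent x, hZ⟩).2
    have hξW : (genericPoints.ofComponent ⟨irreducibleComponent x, hZ⟩).1 ∈ W :=
      (hgen.mem_open_set_iff W.isOpen).2 ⟨x, mem_irreducibleComponent, hxW⟩
    have hq : (genericPoints.ofComponent ⟨irreducibleComponent x, hZ⟩).1 ∈ W ⊓ U := ⟨hξW, hξU⟩
    rw [hWU] at hq
    exact hq
  exact hasRegularMero_of_gen (Or.inr ⟨inferInstance, hX⟩) hL hdense heU

/-- **EGA IV 21.3.5**: on a locally Noetherian scheme without embedded points, every invertible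
module has a regular meromorphic section. -/
theorem hasRegularMero_of_noEmbedded [IsLocallyNoetherian X]
    (hne : ∀ x : X, Curv2.IsAssPoint (Coh.structureModule X) x →
      ∀ y : X, Curv2.IsAssPoint (Coh.structureModule X) y → y ⤳ x → y = x)
    (L : X.Modules) (hL : PicF.IsInvertible L) : Mero.HasRegularMero L := by
  have hX : ∀ x : X, ∃ W : X.Opens, x ∈ W ∧
      {Z : Set X | Z ∈ irreducibleComponents X ∧ (Z ∩ (W : Set X)).Nonempty}.Finite := by
    intro x
    obtain ⟨W, hW, hxW, -⟩ := GenLocH8.exists_isGen hL x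
    haveI : IsNoetherianRing Γ(X, W) := IsLocallyNoetherian.component_noetherian ⟨W, hW⟩
    have hN : NoetherianSpace (↥(W : Set X)) := noetherianSpace_of_isAffineOpen W hW
    exact ⟨W, hxW, finite_components_meeting (W : Set X) W.isOpen
      (@NoetherianSpace.finite_irreducibleComponents _ _ hN)⟩
  obtain ⟨U, e, heU, hUgen⟩ := exists_gen_generic hX hL
  have hdense : SchDense U := by
    apply schDense_of_assPoints U
    intro x hx
    have hZ := irreducibleComponent_mem_irreducibleComponents x
    obtain ⟨ξ, hξ⟩ : ∃ ξ : X, ξ = (genericPoints.ofComponent ⟨irreducibleComponent x, hZ⟩).1 :=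
      ⟨_, rfl⟩
    have hgen : IsGenericPoint ξ (irreducibleComponent x) :=
      hξ ▸ genericPoints.isGenericPoint_ofComponent ⟨irreducibleComponent x, hZ⟩
    have hξx : ξ ⤳ x := hgen.specializes mem_irreducibleComponent
    obtain ⟨η, hηξ, hη⟩ := AssPtH8.exists_assPoint_specializes ξ
    -- `η = ξ` by maximality of the component
    have hηξ' : ξ ⤳ η := by
      have h1 : irreducibleComponent x ⊆ closure {η} := by
        rw [← hgen.def]
        exact hηξ.closure_subset   -- closure {ξ} ⊆ closure {η}
      have h2 : closure {η} ⊆ irreducibleComponent x :=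
        hZ.2 isIrreducible_singleton.closure h1
      have h3 : η ∈ closure {ξ} := by
        rw [hgen.def]
        exact h2 (subset_closure rfl)
      exact specializes_iff_mem_closure.2 h3
    have hηeq : η = ξ := (hηξ.antisymm hηξ').eq
    have hξass : Curv2.IsAssPoint (Coh.structureModule X) ξ :=
      (AssPtH8.isAssPoint_structureModule_iff ξ).2 (hηeq ▸ hη)
    have hxξ : ξ = x := hne x hx ξ hξass hξx
    rw [← hxξ, hξ]
    exact hUgen _ (genericPoints.ofComponent ⟨irreducibleComponent x, hZ⟩).2
  exact hasRegularMero_of_gen (Or.inl inferInstance) hL hdense heU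

end Groth.Agent.RegMero
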