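import Mathlib
import Groth.Prelude.Def_Mor2
import Groth.Prelude.Def_RegImm
import Groth.Agent.Lib.RegNear2_helper5

/-!
# Immersions between regular schemes are regular immersions (helper5)
-/

open CategoryTheory AlgebraicGeometry RingTheory.Sequence TopologicalSpace

universe u

namespace Groth.Agent.RegNear4

variable {X Z : Scheme.{u}}

/-- affine data on `X` extracted from a regular closed immersion over an open subscheme -/
theorem affine_data (i : Z ⟶ X) [IsClosedImmersion i] (z : Z) (V : X.Opens) (hzV : i z ∈ V)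
    (h : Mor2.IsRegularClosedImmersion (i ∣_ V)) :
    ∃ (W : X.Opens) (_ : IsAffineOpen W) (_ : i z ∈ W) (rs : List Γ(X, W)),
      IsRegular Γ(X, W) rs ∧ RingHom.ker (i.app W).hom = Ideal.ofList rs := by
  obtain ⟨U, hU, hzU, rs, hrs, hk⟩ := h.2 ⟨z, hzV⟩
  have hW : IsAffineOpen (V.ι ''ᵁ U) := hU.image_of_isOpenImmersion V.ι
  have hpt : V.ι ((i ∣_ V) ⟨z, hzV⟩) = i z := by
    have h0 : ((i ∣_ V) ≫ V.ι) ⟨z, hzV⟩ = ((i ⁻¹ᵁ V).ι ≫ i) ⟨z, hzV⟩ := by
      rw [morphismRestrict_ι]
    simpa using h0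
  have hx : i z ∈ V.ι ''ᵁ U := ⟨(i ∣_ V) ⟨z, hzV⟩, hzU, hpt⟩
  have hinj : Function.Injective
      (Z.presheaf.map (eqToHom (image_morphismRestrict_preimage i V U)).op).hom :=
    (ConcreteCategory.bijective_of_isIso
      (Z.presheaf.map (eqToHom (image_morphismRestrict_preimage i V U)).op)).1
  have hk1 : RingHom.ker ((i ∣_ V).app U).hom = Ideal.ofList rs := by
    rw [← hk, Scheme.Hom.ker_apply]
  have hk2 : RingHom.ker (i.app (V.ι ''ᵁ U)).hom = RingHom.ker ((i ∣_ V).app U).hom := by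
    rw [morphismRestrict_app]
    exact (RingHom.ker_comp_of_injective (i.app (V.ι ''ᵁ U)).hom hinj).symm
  exact ⟨V.ι ''ᵁ U, hW, hx, rs, hrs, hk2.trans hk1⟩

theorem main8855 (i : Z ⟶ X) [IsImmersion i] [IsLocallyNoetherian X] [IsLocallyNoetherian Z]
    (hX : ∀ x : ↥X, IsRegularLocalRing ↑(X.presheaf.stalk x))
    (hZ : ∀ z : ↥Z, IsRegularLocalRing ↑(Z.presheaf.stalk z)) :
    RegImm.IsRegularImmersion RegImm.Kind.regular i := by
  refine ⟨inferInstance, fun z => ?_⟩
  haveI : IsRegularLocalRing (Z.presheaf.stalk z) := hZ z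
  haveI : IsRegularLocalRing
      (i.coborderRange.toScheme.presheaf.stalk (i.liftCoborder z)) := by
    haveI := hX (i.coborderRange.ι (i.liftCoborder z))
    exact IsRegularLocalRing.of_ringEquiv
      (asIso (i.coborderRange.ι.stalkMap (i.liftCoborder z))).commRingCatIsoToRingEquiv
  obtain ⟨V, hzV, hreg⟩ := (Groth.Agent.RegNear2.main2889 i.liftCoborder z).mpr inferInstance
  obtain ⟨U, hU, hzU, rs, hrs, hker⟩ := affine_data i.liftCoborder z V hzV hreg
  have hpt : i.coborderRange.ι (i.liftCoborder z) = i z := by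
    rw [← Scheme.Hom.comp_apply, i.liftCoborder_ι]
  have hzU' : i z ∈ i.coborderRange.ι ''ᵁ U := ⟨i.liftCoborder z, hzU, hpt⟩
  have hUa : IsAffineOpen (i.coborderRange.ι ''ᵁ U) :=
    hU.image_of_isOpenImmersion i.coborderRange.ι
  have hUW : ∀ x, x ∈ i.coborderRange.ι ''ᵁ U → x ∈ coborder (Set.range i) := by
    rintro x ⟨u, -, rfl⟩
    exact u.2
  haveI hcl : IsClosedImmersion (i ∣_ (i.coborderRange.ι ''ᵁ U)) := by
    refine IsClosedImmersion.of_isPreimmersion _ ?_
    have hr : Set.range ⇑(i ∣_ (i.coborderRange.ι ''ᵁ U)) =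
        {u | (u.1 : X) ∈ closure (Set.range i)} := by
      ext ⟨x, hx⟩
      constructor
      · rintro ⟨y, hy⟩
        have h3 := morphismRestrict_base_coe i (i.coborderRange.ι ''ᵁ U) y
        rw [hy] at h3
        exact subset_closure ⟨y.1, h3.symm⟩
      · intro h
        have h2 : x ∈ coborder (Set.range i) ∩ closure (Set.range i) := ⟨hUW x hx, h⟩
        rw [coborder_inter_closure] at h2
        obtain ⟨y, rfl⟩ := h2
        refine ⟨⟨y, hx⟩, ?_⟩
        exact Subtype.ext (morphismRestrict_base_coe i (i.coborderRange.ι ''ᵁ U) ⟨y, hx⟩)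
    rw [hr]
    exact isClosed_closure.preimage continuous_subtype_val
  have hinj : Function.Injective
      (Z.presheaf.map (eqToHom (i.liftCoborder_preimage U)).op).hom :=
    (ConcreteCategory.bijective_of_isIso
      (Z.presheaf.map (eqToHom (i.liftCoborder_preimage U)).op)).1
  have hk2 : RingHom.ker (i.app (i.coborderRange.ι ''ᵁ U)).hom =
      RingHom.ker (i.liftCoborder.app U).hom := by
    rw [liftCoborder_app]
    exact (RingHom.ker_comp_of_injective (i.app (i.coborderRange.ι ''ᵁ U)).hom hinj).symm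
  exact ⟨⟨i.coborderRange.ι ''ᵁ U, hUa⟩, hzU', hcl, rs, hrs, hk2.trans hker⟩

end Groth.Agent.RegNear4
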