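import Mathlib

/-!
# Smoothness of an ambient local algebra from a smooth regularly embedded quotient (helper3)

Ring-level part of EGA IV 17.12.1 (direction "regular immersion into X with Y smooth ⇒ X smooth").

* `eq_bot_of_isWeaklyRegular_quotient`: `A` local Noetherian, `l ⊆ 𝔪`, `M` finite, `N ≤ (l) M` and `l`
  weakly regular on `M ⧸ N` ⇒ `N = 0`.
* `δ R x = 1 ⊗ d x` in `κ(Q) ⊗ Ω[Q/R]`; `formallySmooth_quotient_of_linearIndependent`
  (Jacobian criterion: `Q ⧸ (k_i)` is formally smooth when the `δ k_i` are linearly independent);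
  `mem_smul_of_δ_eq_zero` (converse form).
* `formallySmooth_quotient_of_regular`: `Q` local Noetherian, formally smooth over `R` with `Ω` finite
  free; `K ≤ K' = K + (l)`, `Q ⧸ K'` formally smooth and `l` weakly regular on `Q ⧸ K` ⇒ `Q ⧸ K` formally
  smooth.
APPEND-ONLY once landed.
-/

set_option autoImplicit false

namespace Groth.Agent.Lib.RegPairH3

open IsLocalRing TensorProduct KaehlerDifferential RingTheory.Sequence
open scoped Pointwise

section LemmaA

universe u v

variable {A : Type u} [CommRing A] [IsLocalRing A] [IsNoetherianRing A]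

theorem eq_bot_of_isWeaklyRegular_quotient (l : List A) (hl : ∀ r ∈ l, r ∈ maximalIdeal A) :
    ∀ (M : Type v) [AddCommGroup M] [Module A M] [Module.Finite A M] (N : Submodule A M),
      N ≤ (Ideal.ofList l • ⊤ : Submodule A M) → IsWeaklyRegular (M ⧸ N) l → N = ⊥ := by
  induction l with
  | nil =>
    intro M _ _ _ N hN _
    rw [Ideal.ofList_nil, Submodule.bot_smul] at hN
    exact le_bot_iff.mp hN
  | cons r l ih =>
    intro M _ _ _ N hN hreg
    obtain ⟨h1, h2⟩ := (isWeaklyRegular_cons_iff _ r l).mp hreg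
    have hl' : ∀ r ∈ l, r ∈ maximalIdeal A := fun x hx => hl x (List.mem_cons_of_mem _ hx)
    have hr : r ∈ maximalIdeal A := hl r List.mem_cons_self
    let rM : Submodule A M := r • ⊤
    let N' : Submodule A (M ⧸ rM) := N.map rM.mkQ
    have hN' : N' ≤ (Ideal.ofList l • ⊤ : Submodule A (M ⧸ rM)) := by
      have h3 : N.map rM.mkQ ≤ ((Ideal.ofList (r :: l) • ⊤ : Submodule A M)).map rM.mkQ :=
        Submodule.map_mono hN
      refine h3.trans ?_
      rw [Ideal.ofList_cons_smul, Submodule.map_sup, Submodule.map_smul'']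
      have h4 : (r • (⊤ : Submodule A M)).map rM.mkQ = ⊥ := Submodule.mkQ_map_self rM
      rw [h4, bot_sup_eq]
      exact Submodule.smul_mono le_rfl le_top
    have hrtop : (r • ⊤ : Submodule A (M ⧸ N)) = rM.map N.mkQ := by
      rw [Submodule.map_pointwise_smul, Submodule.map_top, Submodule.range_mkQ]
    let e : ((M ⧸ rM) ⧸ N') ≃ₗ[A] QuotSMulTop r (M ⧸ N) :=
      (Submodule.quotientQuotientEquivQuotientSup rM N) ≪≫ₗ
        (Submodule.quotEquivOfEq _ _ (sup_comm rM N)) ≪≫ₗ
        (Submodule.quotientQuotientEquivQuotientSup N rM).symm ≪≫ₗ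
        (Submodule.quotEquivOfEq _ _ hrtop.symm)
    have h2' : IsWeaklyRegular ((M ⧸ rM) ⧸ N') l := (e.isWeaklyRegular_congr l).mpr h2
    have hN'0 : N' = ⊥ := ih hl' (M ⧸ rM) N' hN' h2'
    have hNr : N ≤ rM := by
      intro n hn
      have h5 : rM.mkQ n ∈ N' := Submodule.mem_map_of_mem hn
      rw [hN'0, Submodule.mem_bot] at h5
      exact (Submodule.Quotient.mk_eq_zero _).mp h5
    have hNN : N ≤ (maximalIdeal A) • N := by
      intro n hn
      obtain ⟨m, -, rfl⟩ := (Submodule.mem_smul_pointwise_iff_exists _ _ _).mp (hNr hn)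
      have hm : m ∈ N := by
        have h3 : r • (Submodule.Quotient.mk m : M ⧸ N) = r • 0 := by
          rw [smul_zero, ← Submodule.Quotient.mk_smul]
          exact (Submodule.Quotient.mk_eq_zero _).mpr hn
        exact (Submodule.Quotient.mk_eq_zero _).mp (h1 h3)
      exact Submodule.smul_mem_smul hr hm
    exact Submodule.eq_bot_of_le_smul_of_le_jacobson_bot _ N (IsNoetherian.noetherian N) hNN
      (by rw [IsLocalRing.jacobson_eq_maximalIdeal _ bot_ne_top])

end LemmaA

section Main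

universe u

variable (R : Type u) {Q : Type u} [CommRing R] [CommRing Q] [Algebra R Q] [IsLocalRing Q]

/-- `δ x = 1 ⊗ d x` in `κ(Q) ⊗ Ω[Q/R]`. -/
noncomputable def δ (x : Q) : (ResidueField Q) ⊗[Q] Ω[Q⁄R] := (1 : ResidueField Q) ⊗ₜ[Q] D R Q x

theorem δ_zero : δ R (0 : Q) = 0 := by simp [δ]

theorem δ_add (x y : Q) : δ R (x + y) = δ R x + δ R y := by simp [δ, tmul_add]

theorem δ_sub (x y : Q) : δ R (x - y) = δ R x - δ R y := by simp [δ, tmul_sub]

theorem δ_mul (q x : Q) (hx : x ∈ maximalIdeal Q) : δ R (q * x) = residue Q q • δ R x := by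
  have hx0 : x • (1 : ResidueField Q) = 0 := by
    rw [Algebra.smul_def, mul_one]
    exact (residue_eq_zero_iff x).mpr hx
  have hq : q • (1 : ResidueField Q) = residue Q q := by
    rw [Algebra.smul_def, mul_one]; rfl
  simp only [δ, Derivation.leibniz, tmul_add]
  rw [← TensorProduct.smul_tmul, ← TensorProduct.smul_tmul, hx0, zero_tmul, add_zero, hq,
    TensorProduct.smul_tmul', smul_eq_mul, mul_one]

theorem injective_of_linearIndependent_comp {K V W : Type*} [Field K] [AddCommGroup V]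
    [Module K V] [AddCommGroup W] [Module K W] (φ : V →ₗ[K] W) {ι : Type*} (v : ι → V)
    (hv : Submodule.span K (Set.range v) = ⊤) (hli : LinearIndependent K (φ ∘ v)) :
    Function.Injective φ := by
  rw [← LinearMap.ker_eq_bot, eq_bot_iff]
  intro y hy
  have hy' : y ∈ Submodule.span K (Set.range v) := hv ▸ Submodule.mem_top
  obtain ⟨c, rfl⟩ := Finsupp.mem_span_range_iff_exists_finsupp.mp hy'
  have h0 : Finsupp.linearCombination K (φ ∘ v) c = 0 := by
    rw [LinearMap.mem_ker] at hy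
    rw [← hy, Finsupp.linearCombination_apply, map_finsuppSum]
    simp [Function.comp]
  have hc : c = 0 := linearIndependent_iff.mp hli c h0
  simp [hc]

theorem mem_smul_top_of_tmul_eq_zero {M : Type*} [AddCommGroup M] [Module Q M] (y : M)
    (h : (1 : ResidueField Q) ⊗ₜ[Q] y = 0) : y ∈ (maximalIdeal Q • ⊤ : Submodule Q M) := by
  have h1 : TensorProduct.quotTensorEquivQuotSMul M (maximalIdeal Q)
      ((1 : Q ⧸ maximalIdeal Q) ⊗ₜ[Q] y) = 0 := by
    rw [show ((1 : Q ⧸ maximalIdeal Q) ⊗ₜ[Q] y) = 0 from h]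
    exact map_zero _
  have h2 : TensorProduct.quotTensorEquivQuotSMul M (maximalIdeal Q)
      ((1 : Q ⧸ maximalIdeal Q) ⊗ₜ[Q] y) = Submodule.Quotient.mk y :=
    TensorProduct.quotTensorEquivQuotSMul_mk_one_tmul _ _
  exact (Submodule.Quotient.mk_eq_zero _).mp (h2.symm.trans h1)

end Main

section Crit

universe u

variable (R : Type u) {Q : Type u} [CommRing R] [CommRing Q] [Algebra R Q] [IsLocalRing Q]
  [Algebra.FormallySmooth R Q] [Module.Free Q Ω[Q⁄R]] [Module.Finite Q Ω[Q⁄R]]

/-- the `κ(Q)`-algebra structure on a proper quotient of `Q`. -/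
noncomputable def quotResidue (I : Ideal Q) (hI : I ≤ maximalIdeal Q) : (Q ⧸ I) →+* ResidueField Q :=
  Ideal.Quotient.lift I (residue Q) (fun a ha => (residue_eq_zero_iff a).mpr (hI ha))

theorem isLocalRing_quotient (I : Ideal Q) (hI : I ≤ maximalIdeal Q) : IsLocalRing (Q ⧸ I) := by
  have hne : I ≠ ⊤ := fun h => (maximalIdeal.isMaximal Q).ne_top (top_le_iff.mp (h ▸ hI))
  haveI : Nontrivial (Q ⧸ I) := Ideal.Quotient.nontrivial_iff.mpr hne
  exact IsLocalRing.of_surjective' (Ideal.Quotient.mk I) Ideal.Quotient.mk_surjective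

theorem maximalIdeal_le_ker_quotResidue (I : Ideal Q) (hI : I ≤ maximalIdeal Q) :
    haveI := isLocalRing_quotient I hI
    maximalIdeal (Q ⧸ I) ≤ RingHom.ker (quotResidue I hI) := by
  haveI := isLocalRing_quotient I hI
  intro s hs
  obtain ⟨q, rfl⟩ := Ideal.Quotient.mk_surjective s
  have hq : q ∈ maximalIdeal Q := by
    by_contra h
    have hu : IsUnit q := by
      by_contra h'
      exact h ((mem_maximalIdeal q).mpr h')
    exact ((mem_maximalIdeal _).mp hs) (hu.map (Ideal.Quotient.mk I))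
  rw [RingHom.mem_ker]
  show (Ideal.Quotient.lift I (residue Q) _) (Ideal.Quotient.mk I q) = 0
  rw [Ideal.Quotient.lift_mk]
  exact (residue_eq_zero_iff q).mpr hq

/-- Jacobian criterion, sufficient direction in terms of elements. -/
theorem formallySmooth_quotient_of_linearIndependent {ι : Type*} [Finite ι] (k : ι → Q)
    (hk : ∀ i, k i ∈ maximalIdeal Q)
    (hli : LinearIndependent (ResidueField Q) (fun i => δ R (k i))) :
    Algebra.FormallySmooth R (Q ⧸ Ideal.span (Set.range k)) := by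
  set I := Ideal.span (Set.range k) with hIdef
  have hI : I ≤ maximalIdeal Q := Ideal.span_le.mpr (by rintro _ ⟨i, rfl⟩; exact hk i)
  haveI := isLocalRing_quotient I hI
  letI : Algebra (Q ⧸ I) (ResidueField Q) := (quotResidue I hI).toAlgebra
  haveI : IsScalarTower Q (Q ⧸ I) (ResidueField Q) := IsScalarTower.of_algebraMap_eq' rfl
  have hsurj : Function.Surjective (algebraMap Q (Q ⧸ I)) := Ideal.Quotient.mk_surjective
  have hker : RingHom.ker (algebraMap Q (Q ⧸ I)) = I := Ideal.mk_ker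
  have hFG : (RingHom.ker (algebraMap Q (Q ⧸ I))).FG := by
    rw [hker]; exact Submodule.fg_span (Set.finite_range k)
  have h3 : maximalIdeal (Q ⧸ I) ≤ RingHom.ker (algebraMap (Q ⧸ I) (ResidueField Q)) :=
    maximalIdeal_le_ker_quotResidue I hI
  rw [Algebra.FormallySmooth.iff_injective_cotangentComplexBaseChange (R := R) (S := Q ⧸ I) Q
    (ResidueField Q) hsurj hFG h3]
  let J := RingHom.ker (algebraMap Q (Q ⧸ I))
  have hkJ : ∀ i, k i ∈ J := fun i => by
    show k i ∈ RingHom.ker (algebraMap Q (Q ⧸ I))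
    rw [hker]; exact Ideal.subset_span ⟨i, rfl⟩
  let x' : ι → J := fun i => ⟨k i, hkJ i⟩
  have hx'span : Submodule.span Q (Set.range x') = ⊤ := by
    apply Submodule.map_injective_of_injective J.subtype_injective
    rw [Submodule.map_span, Submodule.map_subtype_top, ← Set.range_comp]
    exact hker.symm
  let v : ι → (ResidueField Q) ⊗[Q] J := fun i => (1 : ResidueField Q) ⊗ₜ[Q] x' i
  have hv : Submodule.span (ResidueField Q) (Set.range v) = ⊤ := by
    have h1 := Submodule.baseChange_span (R := Q) (ResidueField Q) (Set.range x')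
    rw [hx'span, Submodule.baseChange_top, ← Set.range_comp] at h1
    exact h1.symm
  apply injective_of_linearIndependent_comp _ v hv
  have : (cotangentComplexBaseChange R (Q ⧸ I) Q (ResidueField Q)) ∘ v = fun i => δ R (k i) := by
    funext i
    simp only [Function.comp, v]
    rw [cotangentComplexBaseChange_tmul, one_smul, kerToTensor_apply]
    rfl
  rw [this]
  exact hli

/-- Jacobian criterion, necessary direction in terms of elements. -/
theorem mem_smul_of_δ_eq_zero (I : Ideal Q) (hI : I ≤ maximalIdeal Q)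
    [Algebra.FormallySmooth R (Q ⧸ I)] [IsNoetherianRing Q] (x : Q) (hx : x ∈ I)
    (h0 : δ R x = 0) : x ∈ maximalIdeal Q • I := by
  haveI := isLocalRing_quotient I hI
  letI : Algebra (Q ⧸ I) (ResidueField Q) := (quotResidue I hI).toAlgebra
  haveI : IsScalarTower Q (Q ⧸ I) (ResidueField Q) := IsScalarTower.of_algebraMap_eq' rfl
  have hsurj : Function.Surjective (algebraMap Q (Q ⧸ I)) := Ideal.Quotient.mk_surjective
  have hker : RingHom.ker (algebraMap Q (Q ⧸ I)) = I := Ideal.mk_ker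
  have hFG : (RingHom.ker (algebraMap Q (Q ⧸ I))).FG := IsNoetherian.noetherian _
  have h3 : maximalIdeal (Q ⧸ I) ≤ RingHom.ker (algebraMap (Q ⧸ I) (ResidueField Q)) :=
    maximalIdeal_le_ker_quotResidue I hI
  have hinj := (Algebra.FormallySmooth.iff_injective_cotangentComplexBaseChange (R := R)
    (S := Q ⧸ I) Q (ResidueField Q) hsurj hFG h3).mp inferInstance
  let J := RingHom.ker (algebraMap Q (Q ⧸ I))
  have hxJ : x ∈ J := by
    show x ∈ RingHom.ker (algebraMap Q (Q ⧸ I))
    rw [hker]; exact hx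
  have h1 : (1 : ResidueField Q) ⊗ₜ[Q] (⟨x, hxJ⟩ : J) = 0 := by
    apply hinj
    rw [map_zero, cotangentComplexBaseChange_tmul, one_smul, kerToTensor_apply]
    exact h0
  have h2 := mem_smul_top_of_tmul_eq_zero (⟨x, hxJ⟩ : J) h1
  have h4 : J.subtype ⟨x, hxJ⟩ ∈ (maximalIdeal Q • ⊤ : Submodule Q J).map J.subtype :=
    Submodule.mem_map_of_mem h2
  rw [Submodule.map_smul'', Submodule.map_subtype_top] at h4
  have h5 : (maximalIdeal Q • J : Submodule Q Q) = maximalIdeal Q • I := by
    show maximalIdeal Q • RingHom.ker (algebraMap Q (Q ⧸ I)) = _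
    rw [hker]
  rw [← h5]
  exact h4

variable [IsNoetherianRing Q]

omit [Algebra.FormallySmooth R Q] [Module.Free Q Ω[Q⁄R]] [Module.Finite Q Ω[Q⁄R]] in
/-- Nakayama step. -/
theorem le_of_δ_image (K' N : Ideal Q) (hNK : N ≤ K')
    (h0 : ∀ x ∈ K', δ R x = 0 → x ∈ maximalIdeal Q • K')
    (himg : ∀ x ∈ K', ∃ n ∈ N, δ R n = δ R x) : K' ≤ N := by
  apply Submodule.le_of_le_smul_of_le_jacobson_bot (I := maximalIdeal Q)
    (IsNoetherian.noetherian K') (by rw [IsLocalRing.jacobson_eq_maximalIdeal _ bot_ne_top])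
  intro x hx
  obtain ⟨n, hn, hnx⟩ := himg x hx
  have h1 : x - n ∈ maximalIdeal Q • K' :=
    h0 _ (K'.sub_mem hx (hNK hn)) (by rw [δ_sub, hnx, sub_self])
  have h2 : x = n + (x - n) := by ring
  rw [h2]
  exact Submodule.add_mem_sup hn h1

/-- **Main ring-level statement** (EGA IV 17.12.1, direction "regular ⇒ ambient smooth"). -/
theorem formallySmooth_quotient_of_regular (K K' : Ideal Q) (hK' : K' ≠ ⊤)
    [Algebra.FormallySmooth R (Q ⧸ K')] (l : List Q) (hl : K' = K ⊔ Ideal.ofList l)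
    (hreg : IsWeaklyRegular (Q ⧸ K) l) : Algebra.FormallySmooth R (Q ⧸ K) := by
  classical
  have hKK' : K ≤ K' := hl ▸ le_sup_left
  have hK'm : K' ≤ maximalIdeal Q := IsLocalRing.le_maximalIdeal hK'
  have hKm : K ≤ maximalIdeal Q := hKK'.trans hK'm
  -- choose a basis of the span of δ(K)
  let S : Set ((ResidueField Q) ⊗[Q] Ω[Q⁄R]) := (fun x => δ R x) '' (K : Set Q)
  obtain ⟨b, hbS, hbspan, hbli⟩ := exists_linearIndependent (ResidueField Q) S
  haveI : Finite b := Set.finite_coe_iff.mpr hbli.setFinite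
  choose k hkK hkw using fun w : b => hbS w.2
  have hli : LinearIndependent (ResidueField Q) (fun w : b => δ R (k w)) := by
    have : (fun w : b => δ R (k w)) = ((↑) : b → _) := funext hkw
    rw [this]; exact hbli
  set K0 : Ideal Q := Ideal.span (Set.range k) with hK0
  have hK0K : K0 ≤ K := Ideal.span_le.mpr (by rintro _ ⟨w, rfl⟩; exact hkK w)
  have hK0m : K0 ≤ maximalIdeal Q := hK0K.trans hKm
  haveI sm0 : Algebra.FormallySmooth R (Q ⧸ K0) :=
    formallySmooth_quotient_of_linearIndependent R k (fun w => hKm (hkK w)) hli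
  have key : ∀ w ∈ Submodule.span (ResidueField Q) b, ∃ n ∈ K0, δ R n = w := by
    intro w hw
    induction hw using Submodule.span_induction with
    | mem w hw => exact ⟨k ⟨w, hw⟩, Ideal.subset_span ⟨_, rfl⟩, hkw _⟩
    | zero => exact ⟨0, K0.zero_mem, δ_zero R⟩
    | add w₁ w₂ _ _ ih₁ ih₂ =>
      obtain ⟨n₁, hn₁, rfl⟩ := ih₁
      obtain ⟨n₂, hn₂, rfl⟩ := ih₂
      exact ⟨n₁ + n₂, K0.add_mem hn₁ hn₂, δ_add R _ _⟩
    | smul c w _ ih =>
      obtain ⟨n, hn, rfl⟩ := ih
      obtain ⟨q, rfl⟩ := residue_surjective c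
      exact ⟨q * n, K0.mul_mem_left q hn, δ_mul R q n (hK0m hn)⟩
  have himgK : ∀ x ∈ K, ∃ n ∈ K0, δ R n = δ R x := by
    intro x hx
    apply key
    rw [hbspan]
    exact Submodule.subset_span ⟨x, hx, rfl⟩
  -- K' = K0 ⊔ (l)
  have hle : K' ≤ K0 ⊔ Ideal.ofList l := by
    apply le_of_δ_image R K' (K0 ⊔ Ideal.ofList l)
      (by rw [hl]; exact sup_le_sup_right hK0K _)
      (fun x hx h0 => mem_smul_of_δ_eq_zero R K' hK'm x hx h0)
    intro x hx
    rw [hl] at hx
    obtain ⟨a, ha, y, hy, rfl⟩ := Submodule.mem_sup.mp hx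
    obtain ⟨n, hn, hna⟩ := himgK a ha
    exact ⟨n + y, Submodule.add_mem_sup hn hy, by rw [δ_add, δ_add, hna]⟩
  -- Lemma A
  let NN : Submodule Q (Q ⧸ K0) := Submodule.map (Submodule.mkQ K0) K
  have hNN : NN ≤ (Ideal.ofList l • ⊤ : Submodule Q (Q ⧸ K0)) := by
    rintro _ ⟨x, hx, rfl⟩
    obtain ⟨a, ha, y, hy, rfl⟩ := Submodule.mem_sup.mp (hle (hKK' hx))
    have h1 : Submodule.mkQ K0 (a + y) = y • Submodule.mkQ K0 (1 : Q) := by
      rw [map_add, ← map_smul, smul_eq_mul, mul_one]
      have : Submodule.mkQ K0 a = 0 := (Submodule.Quotient.mk_eq_zero _).mpr ha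
      rw [this, zero_add]
    rw [h1]
    exact Submodule.smul_mem_smul hy Submodule.mem_top
  let e : ((Q ⧸ K0) ⧸ NN) ≃ₗ[Q] (Q ⧸ K) :=
    (Submodule.quotientQuotientEquivQuotientSup K0 K) ≪≫ₗ
      (Submodule.quotEquivOfEq _ _ (sup_eq_right.mpr hK0K))
  have hreg' : IsWeaklyRegular ((Q ⧸ K0) ⧸ NN) l := (e.isWeaklyRegular_congr l).mpr hreg
  have hlm : ∀ r ∈ l, r ∈ maximalIdeal Q := fun r hr =>
    hK'm (hl ▸ (le_sup_right : Ideal.ofList l ≤ K ⊔ Ideal.ofList l) (Ideal.subset_span hr))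
  have hNN0 : NN = ⊥ := eq_bot_of_isWeaklyRegular_quotient l hlm (Q ⧸ K0) NN hNN hreg'
  have hKK0 : K ≤ K0 := by
    intro x hx
    have h1 : Submodule.mkQ K0 x ∈ NN := Submodule.mem_map_of_mem hx
    rw [hNN0, Submodule.mem_bot] at h1
    exact (Submodule.Quotient.mk_eq_zero _).mp h1
  have hEq : K = K0 := le_antisymm hKK0 hK0K
  rw [hEq]
  exact sm0

end Crit

end Groth.Agent.Lib.RegPairH3
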