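import Mathlib
import Groth.Prelude.Def_CAlgX
import Groth.Prelude.Def_CInt
import Groth.Agent.Lib.RegPair1_helper3
import Groth.Agent.Lib.RegFib1_helper8
import Groth.Agent.Lib.Regular3_helper5
import Groth.Agent.Lib.SmoothRegField_helper3
import Groth.Agent.Lib.FibCritC_helper6

/-!
# EGA IV 17.12.1 at the level of local rings (helper3)

`A` Noetherian local, `P` a local `A`-algebra essentially of finite presentation (local hom), `J` a
proper ideal with `P ⧸ J` formally smooth over `A`.  Then `P` is formally smooth over `A` iff `J` is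
generated by a regular sequence (`main_ring`).

* `exists_lift_list`, `fibre_regular` (closed fibre of a formally smooth local algebra is regular),
  `exists_regular_of_formallySmooth` (direction ⇒), `exists_presentation` (a local, essentially
  finitely presented algebra is a quotient of a localization of a polynomial ring).
APPEND-ONLY once landed.
-/

set_option autoImplicit false

namespace Groth.Agent.Lib.RegPairH3

open IsLocalRing TensorProduct KaehlerDifferential RingTheory.Sequence

universe u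

theorem exists_lift_list {α β : Type*} (f : α → β) (S : Set α) (l : List β)
    (h : ∀ b ∈ l, ∃ a ∈ S, f a = b) : ∃ l' : List α, (∀ a ∈ l', a ∈ S) ∧ l'.map f = l := by
  induction l with
  | nil => exact ⟨[], by simp, rfl⟩
  | cons b l ih =>
    obtain ⟨a, ha, rfl⟩ := h b List.mem_cons_self
    obtain ⟨l', hl', rfl⟩ := ih (fun b hb => h b (List.mem_cons_of_mem _ hb))
    refine ⟨a :: l', ?_, rfl⟩
    intro x hx
    rcases List.mem_cons.mp hx with rfl | hx
    · exact ha
    · exact hl' x hx

theorem mem_smul_top_quotient_iff {P : Type*} [CommRing P] (I L : Ideal P) (p : P) :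
    (Submodule.Quotient.mk p : P ⧸ L) ∈ (I • ⊤ : Submodule P (P ⧸ L)) ↔ p ∈ I ⊔ L := by
  have h1 : (I • ⊤ : Submodule P (P ⧸ L)) = Submodule.map (Submodule.mkQ L) I := by
    have h2 : (I • ⊤ : Submodule P P) = I := by rw [smul_eq_mul, Ideal.mul_top]
    conv_rhs => rw [← h2]
    rw [Submodule.map_smul'', Submodule.map_top, Submodule.range_mkQ]
  rw [h1]
  constructor
  · rintro ⟨y, hy, hyp⟩
    have h3 : y - p ∈ L := (Submodule.Quotient.eq L).mp hyp
    have h4 : p = y + (-(y - p)) := by ring
    rw [h4]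
    exact Submodule.add_mem_sup hy (L.neg_mem h3)
  · intro hp
    obtain ⟨y, hy, z, hz, rfl⟩ := Submodule.mem_sup.mp hp
    refine ⟨y, hy, ?_⟩
    refine (Submodule.Quotient.eq L).mpr ?_
    have : y - (y + z) = -z := by ring
    rw [this]
    exact L.neg_mem hz

section Fibre

variable {A P : Type u} [CommRing A] [CommRing P] [Algebra A P] [IsLocalRing A] [IsLocalRing P]
  [IsLocalHom (algebraMap A P)]

theorem map_maximalIdeal_le : (maximalIdeal A).map (algebraMap A P) ≤ maximalIdeal P :=
  ((local_hom_TFAE (algebraMap A P)).out 0 2).1 ‹IsLocalHom (algebraMap A P)›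

theorem fibre_regular [IsNoetherianRing P] [Algebra.FormallySmooth A P] :
    IsRegularLocalRing (P ⧸ (maximalIdeal A).map (algebraMap A P)) := by
  haveI : IsLocalRing (P ⧸ (maximalIdeal A).map (algebraMap A P)) :=
    isLocalRing_quotient _ (map_maximalIdeal_le (A := A) (P := P))
  letI : Field (A ⧸ maximalIdeal A) := Ideal.Quotient.field _
  haveI : Algebra.FormallySmooth (A ⧸ maximalIdeal A) ((A ⧸ maximalIdeal A) ⊗[A] P) :=
    inferInstance
  haveI : Algebra.FormallySmooth (A ⧸ maximalIdeal A)
      (P ⧸ (maximalIdeal A).map (algebraMap A P)) :=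
    Algebra.FormallySmooth.of_equiv
      (Algebra.TensorProduct.quotIdealMapEquivQuotTensor P (maximalIdeal A)).symm
  exact Groth.Agent.Lib.SmoothRegFieldH3.regular_of_formallySmooth_field
    (k := A ⧸ maximalIdeal A)

theorem exists_regular_of_formallySmooth [IsNoetherianRing P]
    (hP : CAlgX.IsEssFinitePresentation A P) (J : Ideal P) (hJ : J ≠ ⊤)
    [Algebra.FormallySmooth A P] [Algebra.FormallySmooth A (P ⧸ J)] [Module.Flat A P]
    [Module.Flat A (P ⧸ J)] :
    ∃ rs : List P, RingTheory.Sequence.IsRegular P rs ∧ Ideal.ofList rs = J ∧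
      RingTheory.Sequence.IsRegular (P ⧸ (maximalIdeal A).map (algebraMap A P))
        (rs.map (Ideal.Quotient.mk ((maximalIdeal A).map (algebraMap A P)))) := by
  set mP := (maximalIdeal A).map (algebraMap A P) with hmP
  have hmPle : mP ≤ maximalIdeal P := map_maximalIdeal_le
  have hJm : J ≤ maximalIdeal P := IsLocalRing.le_maximalIdeal hJ
  haveI : IsLocalRing (P ⧸ J) := isLocalRing_quotient J hJm
  haveI : IsLocalHom (algebraMap A (P ⧸ J)) := by
    haveI : IsLocalHom (Ideal.Quotient.mk J) :=
      IsLocalHom.of_surjective _ Ideal.Quotient.mk_surjective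
    have : algebraMap A (P ⧸ J) = (Ideal.Quotient.mk J).comp (algebraMap A P) := rfl
    rw [this]
    infer_instance
  haveI hreg1 : IsRegularLocalRing (P ⧸ mP) := fibre_regular
  have hreg2 : IsRegularLocalRing ((P ⧸ J) ⧸ (maximalIdeal A).map (algebraMap A (P ⧸ J))) :=
    fibre_regular
  let J' : Ideal (P ⧸ mP) := J.map (Ideal.Quotient.mk mP)
  have hmap : mP.map (Ideal.Quotient.mk J) = (maximalIdeal A).map (algebraMap A (P ⧸ J)) := by
    rw [hmP, Ideal.map_map]; rfl
  haveI hreg3 : IsRegularLocalRing ((P ⧸ mP) ⧸ J') := by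
    have e : ((P ⧸ J) ⧸ (maximalIdeal A).map (algebraMap A (P ⧸ J))) ≃+* ((P ⧸ mP) ⧸ J') :=
      (Ideal.quotEquivOfEq hmap.symm).trans (DoubleQuot.quotQuotEquivComm J mP)
    exact IsRegularLocalRing.of_ringEquiv e
  obtain ⟨rs', hrs'reg, hrs'J⟩ := Groth.Agent.RegularLib.exists_isRegular (P ⧸ mP) J'
  obtain ⟨rs, hrsJ, hrsmap⟩ := exists_lift_list (Ideal.Quotient.mk mP) (J : Set P) rs' (by
    intro b hb
    have hbJ' : b ∈ J' := hrs'J ▸ Ideal.subset_span hb
    exact (Ideal.mem_map_iff_of_surjective _ Ideal.Quotient.mk_surjective).mp hbJ')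
  have hw1 : IsWeaklyRegular (P ⧸ mP) rs := by
    have h1 := hrs'reg.toIsWeaklyRegular
    rw [← hrsmap] at h1
    exact (isWeaklyRegular_map_algebraMap_iff (P ⧸ mP) (P ⧸ mP) rs).mp h1
  have htop : (mP • ⊤ : Submodule P P) = mP := by rw [smul_eq_mul, Ideal.mul_top]
  have hw2 : IsWeaklyRegular (P ⧸ (mP • ⊤ : Submodule P P)) rs :=
    ((Submodule.quotEquivOfEq _ _ htop).isWeaklyRegular_congr rs).mpr hw1
  obtain ⟨hw, -⟩ := Groth.Agent.Lib.RegFibH8.local_reg hP rs P hw2
  have hrsm : ∀ r ∈ rs, r ∈ maximalIdeal P := fun r hr => hJm (hrsJ r hr)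
  have hregP : IsRegular P rs := IsRegular.of_isWeaklyRegular_of_mem_maximalIdeal P hrsm hw
  refine ⟨rs, hregP, ?_, hrsmap ▸ hrs'reg⟩
  set I0 := Ideal.ofList rs with hI0
  have hI0J : I0 ≤ J := Ideal.span_le.mpr (fun r hr => hrsJ r hr)
  apply le_antisymm hI0J
  let uu : (P ⧸ I0) →ₗ[P] (P ⧸ J) := Submodule.mapQ I0 J LinearMap.id hI0J
  have hu : ∀ x : P ⧸ I0, uu x ∈ mP • (⊤ : Submodule P (P ⧸ J)) →
      x ∈ mP • (⊤ : Submodule P (P ⧸ I0)) := by
    intro x hx
    obtain ⟨p, rfl⟩ := Submodule.Quotient.mk_surjective I0 x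
    have hx' : (Submodule.Quotient.mk p : P ⧸ J) ∈ mP • (⊤ : Submodule P (P ⧸ J)) := hx
    rw [mem_smul_top_quotient_iff] at hx' ⊢
    obtain ⟨a, ha, j, hj, rfl⟩ := Submodule.mem_sup.mp hx'
    have h1 : Ideal.Quotient.mk mP (a + j) ∈ J' := by
      rw [map_add, Ideal.Quotient.eq_zero_iff_mem.mpr ha, zero_add]
      exact Ideal.mem_map_of_mem _ hj
    have h2 : J' = I0.map (Ideal.Quotient.mk mP) := by
      rw [← hrs'J, ← hrsmap, hI0, Ideal.map_ofList]
    rw [h2] at h1
    obtain ⟨i, hi, hij⟩ := (Ideal.mem_map_iff_of_surjective _ Ideal.Quotient.mk_surjective).mp h1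
    have h3 : i - (a + j) ∈ mP := Ideal.Quotient.eq.mp hij
    have h4 : a + j = (-(i - (a + j))) + i := by ring
    rw [h4]
    exact Submodule.add_mem_sup (mP.neg_mem h3) hi
  haveI : Module.FinitePresentation P (P ⧸ I0) := Module.finitePresentation_of_finite P _
  haveI : Module.FinitePresentation P (P ⧸ J) := Module.finitePresentation_of_finite P _
  obtain ⟨hinj, -⟩ := Groth.Agent.S2107.result (R := A) hP uu hu
  intro j hj
  have h1 : uu (Submodule.Quotient.mk j) = uu 0 := by
    rw [map_zero]
    exact (Submodule.Quotient.mk_eq_zero J).mpr hj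
  exact (Submodule.Quotient.mk_eq_zero I0).mp (hinj h1)

end Fibre

section Presentation

theorem exists_presentation {A P : Type u} [CommRing A] [CommRing P] [Algebra A P] [IsLocalRing P]
    [IsNoetherianRing A] (hP : CAlgX.IsEssFinitePresentation A P) :
    ∃ (Q : Type u) (_ : CommRing Q) (_ : Algebra A Q) (_ : Algebra Q P) (_ : IsScalarTower A Q P)
      (_ : IsLocalRing Q), IsNoetherianRing Q ∧ Algebra.FormallySmooth A Q ∧
        Module.Free Q Ω[Q⁄A] ∧ Module.Finite Q Ω[Q⁄A] ∧ Module.Flat A Q ∧
        Function.Surjective (algebraMap Q P) := by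
  obtain ⟨B, _, _, _, _, hfp, hloc⟩ := Groth.Agent.Lib.FibCritH6.exists_atPrime_model hP
  obtain ⟨n, f₀, hf₀⟩ := Algebra.FiniteType.iff_quotient_mvPolynomial''.mp
    (inferInstance : Algebra.FiniteType A B)
  set q : Ideal B := (maximalIdeal P).comap (algebraMap B P) with hq
  let q' : Ideal (MvPolynomial (Fin n) A) := q.comap f₀
  haveI : q'.IsPrime := Ideal.comap_isPrime f₀ q
  let Q := Localization.AtPrime q'
  let g : MvPolynomial (Fin n) A →ₐ[A] P := (IsScalarTower.toAlgHom A B P).comp f₀
  have hg : ∀ x : q'.primeCompl, IsUnit (g x) := by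
    intro x
    have h1 : f₀ x ∉ q := x.2
    by_contra h
    exact h1 ((mem_maximalIdeal _).mpr h)
  let fP : Q →ₐ[A] P := IsLocalization.liftAlgHom (M := q'.primeCompl) (f := g) hg
  have hf₁ : Function.Surjective fP := by
    intro x
    obtain ⟨x, ⟨s, hs⟩, rfl⟩ := IsLocalization.exists_mk'_eq q.primeCompl x
    obtain ⟨x, rfl⟩ := hf₀ x
    obtain ⟨s, rfl⟩ := hf₀ s
    refine ⟨IsLocalization.mk' (M := q'.primeCompl) _ x ⟨s, hs⟩, ?_⟩
    simp [fP, g, IsLocalization.lift_mk', Units.mul_inv_eq_iff_eq_mul, IsUnit.liftRight]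
  letI : Algebra Q P := fP.toRingHom.toAlgebra
  haveI : IsScalarTower A Q P := IsScalarTower.of_algebraMap_eq' fP.comp_algebraMap.symm
  haveI : Algebra.FormallyEtale (MvPolynomial (Fin n) A) Q := .of_isLocalization q'.primeCompl
  haveI : Algebra.FormallySmooth A Q := .comp _ (MvPolynomial (Fin n) A) _
  haveI : Module.Free Q Ω[Q⁄A] :=
    .of_equiv (KaehlerDifferential.tensorKaehlerEquivOfFormallyEtale A (MvPolynomial (Fin n) A) Q)
  haveI : Module.Finite Q Ω[Q⁄A] :=
    .equiv (KaehlerDifferential.tensorKaehlerEquivOfFormallyEtale A (MvPolynomial (Fin n) A) Q)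
  haveI : Module.Flat (MvPolynomial (Fin n) A) Q := IsLocalization.flat Q q'.primeCompl
  haveI : Module.Flat A Q := Module.Flat.trans A (MvPolynomial (Fin n) A) Q
  haveI : IsNoetherianRing Q := IsLocalization.isNoetherianRing q'.primeCompl Q inferInstance
  exact ⟨Q, inferInstance, inferInstance, inferInstance, inferInstance, inferInstance,
    inferInstance, inferInstance, inferInstance, inferInstance, inferInstance, hf₁⟩

end Presentation

section MainRing

variable {A P : Type u} [CommRing A] [CommRing P] [Algebra A P] [IsLocalRing A] [IsLocalRing P]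
  [IsLocalHom (algebraMap A P)] [IsNoetherianRing A]

/-- Direction ⇒ with the regularity of the images in the closed fibre; flatness is derived from
formal smoothness (`A` Noetherian). -/
theorem exists_regular_of_formallySmooth' (hP : CAlgX.IsEssFinitePresentation A P) (J : Ideal P)
    (hJ : J ≠ ⊤) [Algebra.FormallySmooth A P] [Algebra.FormallySmooth A (P ⧸ J)] :
    IsNoetherianRing P ∧
    ∃ rs : List P, RingTheory.Sequence.IsRegular P rs ∧ Ideal.ofList rs = J ∧
      RingTheory.Sequence.IsRegular (P ⧸ (maximalIdeal A).map (algebraMap A P))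
        (rs.map (Ideal.Quotient.mk ((maximalIdeal A).map (algebraMap A P)))) := by
  obtain ⟨Q, _, _, _, _, _, hN, hS, hFree, hFin, hFlat, hsurj⟩ := exists_presentation hP
  haveI := hN; haveI := hS; haveI := hFree; haveI := hFin; haveI := hFlat
  haveI : IsNoetherianRing P := isNoetherianRing_of_surjective Q P (algebraMap Q P) hsurj
  let φ : Q →ₐ[A] P := IsScalarTower.toAlgHom A Q P
  let ψ : Q →ₐ[A] (P ⧸ J) := (Ideal.Quotient.mkₐ A J).comp φ
  have hψ : Function.Surjective ψ := (Ideal.Quotient.mkₐ_surjective A J).comp hsurj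
  haveI : Module.Flat A P :=
    Algebra.FormallySmooth.flat_of_algHom_of_isNoetherianRing φ hsurj
  haveI : Module.Flat A (P ⧸ J) :=
    Algebra.FormallySmooth.flat_of_algHom_of_isNoetherianRing ψ hψ
  exact ⟨inferInstance, exists_regular_of_formallySmooth hP J hJ⟩

/-- **EGA IV 17.12.1**, local ring form. -/
theorem main_ring (hP : CAlgX.IsEssFinitePresentation A P) (J : Ideal P) (hJ : J ≠ ⊤)
    [Algebra.FormallySmooth A (P ⧸ J)] :
    Algebra.FormallySmooth A P ↔ CInt.IsRegularIdeal J := by
  obtain ⟨Q, _, _, _, _, _, hN, hS, hFree, hFin, hFlat, hsurj⟩ := exists_presentation hP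
  haveI := hN; haveI := hS; haveI := hFree; haveI := hFin; haveI := hFlat
  haveI : IsNoetherianRing P := isNoetherianRing_of_surjective Q P (algebraMap Q P) hsurj
  haveI : Nontrivial (P ⧸ J) := Ideal.Quotient.nontrivial_iff.mpr hJ
  let φ : Q →ₐ[A] P := IsScalarTower.toAlgHom A Q P
  let ψ : Q →ₐ[A] (P ⧸ J) := (Ideal.Quotient.mkₐ A J).comp φ
  have hψ : Function.Surjective ψ := (Ideal.Quotient.mkₐ_surjective A J).comp hsurj
  constructor
  · intro hsm
    haveI : Module.Flat A P :=
      Algebra.FormallySmooth.flat_of_algHom_of_isNoetherianRing φ hsurj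
    haveI : Module.Flat A (P ⧸ J) :=
      Algebra.FormallySmooth.flat_of_algHom_of_isNoetherianRing ψ hψ
    obtain ⟨rs, h1, h2, -⟩ := exists_regular_of_formallySmooth hP J hJ
    exact ⟨rs, h1, h2⟩
  · rintro ⟨rs, hreg, hrs⟩
    let K : Ideal Q := RingHom.ker φ
    let K' : Ideal Q := RingHom.ker ψ
    obtain ⟨l, -, hl⟩ := exists_lift_list (algebraMap Q P) Set.univ rs
      (fun b _ => let ⟨a, ha⟩ := hsurj b; ⟨a, trivial, ha⟩)
    have hK' : K' = K ⊔ Ideal.ofList l := by
      apply le_antisymm
      · intro x hx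
        have h1 : φ x ∈ J := by
          have : ψ x = 0 := hx
          exact Ideal.Quotient.eq_zero_iff_mem.mp this
        have h2 : J = (Ideal.ofList l).map (algebraMap Q P) := by
          rw [← hrs, ← hl, Ideal.map_ofList]
        rw [h2] at h1
        obtain ⟨y, hy, hyx⟩ := (Ideal.mem_map_iff_of_surjective _ hsurj).mp h1
        have h3 : x - y ∈ K := by
          show φ (x - y) = 0
          rw [map_sub]
          exact sub_eq_zero.mpr hyx.symm
        have h4 : x = (x - y) + y := by ring
        rw [h4]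
        exact Submodule.add_mem_sup h3 hy
      · refine sup_le ?_ ?_
        · intro x hx
          have h1 : φ x = 0 := hx
          show ψ x = 0
          show Ideal.Quotient.mk J (φ x) = 0
          rw [h1, map_zero]
        · refine Ideal.span_le.mpr ?_
          intro x hx
          show Ideal.Quotient.mk J (φ x) = 0
          refine Ideal.Quotient.eq_zero_iff_mem.mpr ?_
          rw [← hrs]
          refine Ideal.subset_span ?_
          rw [← hl]
          exact List.mem_map_of_mem hx
    have hK'ne : K' ≠ ⊤ := RingHom.ker_ne_top _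
    haveI : Algebra.FormallySmooth A (Q ⧸ K') :=
      .of_equiv (Ideal.quotientKerAlgEquivOfSurjective hψ).symm
    have hregQ : IsWeaklyRegular (Q ⧸ K) l := by
      have h0 := hreg.toIsWeaklyRegular
      rw [← hl] at h0
      have h1 : IsWeaklyRegular P l := (isWeaklyRegular_map_algebraMap_iff P P l).mp h0
      have hKker : (K : Submodule Q Q) = LinearMap.ker (Algebra.linearMap Q P) := by
        ext x; exact Iff.rfl
      let e : (Q ⧸ K) ≃ₗ[Q] P :=
        (Submodule.quotEquivOfEq _ _ hKker).trans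
          ((Algebra.linearMap Q P).quotKerEquivOfSurjective hsurj)
      exact (e.isWeaklyRegular_congr l).mpr h1
    haveI := formallySmooth_quotient_of_regular A K K' hK'ne l hK' hregQ
    exact .of_equiv (Ideal.quotientKerAlgEquivOfSurjective (f := φ) hsurj)

end MainRing

end Groth.Agent.Lib.RegPairH3
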