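import Mathlib
import Groth.Prelude.Def_CInt
import Groth.Agent.Lib.RegPair2_helper3
import Groth.Agent.Lib.FibInjF_helper6
import Groth.Agent.Lib.FibStalkDim_helper8
import Groth.Agent.Lib.DimPrime_helper8
import Groth.Agent.Lib.JacDimSch_helper3
import Groth.Agent.S14103

/-!
# Relative codimension of a smooth closed subscheme of a smooth scheme (helper3)

* `height_eq_length_of_mem_minimalPrimes`: a minimal prime over an ideal generated by a weakly regular
  sequence of length `c` in a Noetherian ring has height `c`.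
* `ringKrullDim_stalk_fromSpecStalk`: `dim O_{X, ξ} = ht Q` for the generization `ξ` of `x` attached
  to the prime `Q` of `O_{X,x}`.
* `exists_mem_range_dim_le`, `main14106`.
APPEND-ONLY once landed.
-/

set_option autoImplicit false

namespace Groth.Agent.Lib.RegPairH3

open AlgebraicGeometry CategoryTheory IsLocalRing RingTheory.Sequence

universe u

theorem height_eq_length_of_mem_minimalPrimes {P : Type*} [CommRing P] [IsNoetherianRing P]
    (rs : List P) (hreg : IsWeaklyRegular P rs) (q : Ideal P)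
    (hq : q ∈ (Ideal.ofList rs).minimalPrimes) : q.height = rs.length := by
  classical
  haveI : q.IsPrime := hq.1.1
  apply le_antisymm
  · have h1 : Ideal.ofList rs = Ideal.span (rs.toFinset : Set P) := by
      unfold Ideal.ofList
      congr 1
      ext a
      simp
    rw [h1] at hq
    refine (Ideal.height_le_card_of_mem_minimalPrimes_span_finset hq).trans ?_
    exact_mod_cast rs.toFinset_card_le
  · let R' := Localization.AtPrime q
    have hmem : ∀ r ∈ rs, r ∈ q := fun r hr => hq.1.2 (Ideal.subset_span hr)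
    have hreg' : IsRegular R' (rs.map (algebraMap P R')) :=
      hreg.isRegular_of_isLocalization_of_mem R' q hmem
    have h2 := ringKrullDim_add_length_eq_ringKrullDim_of_isRegular _ hreg'
    rw [List.length_map, IsLocalization.AtPrime.ringKrullDim_eq_height q R'] at h2
    have hle : Ideal.ofList (rs.map (algebraMap P R')) ≤ maximalIdeal R' := by
      refine Ideal.span_le.mpr ?_
      intro x hx
      obtain ⟨r, hr, rfl⟩ := List.mem_map.mp hx
      exact (IsLocalization.AtPrime.to_map_mem_maximal_iff R' q r).mpr (hmem r hr)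
    haveI : Nontrivial (R' ⧸ Ideal.ofList (rs.map (algebraMap P R'))) :=
      Ideal.Quotient.nontrivial_iff.mpr
        (fun h => (maximalIdeal.isMaximal R').ne_top (top_le_iff.mp (h ▸ hle)))
    have h3 : (0 : WithBot ℕ∞) ≤ ringKrullDim (R' ⧸ Ideal.ofList (rs.map (algebraMap P R'))) :=
      ringKrullDim_nonneg_of_nontrivial
    have h4 : ((rs.length : ℕ∞) : WithBot ℕ∞) ≤ (q.height : WithBot ℕ∞) := by
      rw [← h2]
      calc ((rs.length : ℕ∞) : WithBot ℕ∞) = 0 + (rs.length : WithBot ℕ∞) := by simp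
        _ ≤ _ := by gcongr
    exact_mod_cast h4

theorem specializes_fromSpecStalk {X : Scheme.{u}} (x : X) (Q : Spec (X.presheaf.stalk x)) :
    X.fromSpecStalk x Q ⤳ x := by
  have : X.fromSpecStalk x Q ∈ Set.range (X.fromSpecStalk x) := ⟨Q, rfl⟩
  rw [Scheme.range_fromSpecStalk] at this
  exact this

theorem ringKrullDim_stalk_fromSpecStalk {X : Scheme.{u}} (x : X)
    (Q : Spec (X.presheaf.stalk x)) :
    ringKrullDim (X.presheaf.stalk (X.fromSpecStalk x Q)) = (Q.asIdeal.height : WithBot ℕ∞) := by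
  obtain ⟨_, ⟨U, hU, rfl⟩, hxU, -⟩ := X.isBasis_affineOpens.exists_subset_of_mem_open
    (Set.mem_univ x) isOpen_univ
  have h₀ : X.fromSpecStalk x Q ∈ U := (specializes_fromSpecStalk x Q).mem_open U.2 hxU
  rw [Groth.Agent.Lib.JacDimSchH3.ringKrullDim_stalk_eq_height hU _ h₀,
    DimPrimeH8.primeIdealOf_fromSpecStalk hU x hxU Q h₀]
  letI := TopCat.Presheaf.algebra_section_stalk X.presheaf (⟨x, hxU⟩ : U)
  haveI := hU.isLocalization_stalk ⟨x, hxU⟩
  congr 1
  exact IsLocalization.height_under (hU.primeIdealOf ⟨x, hxU⟩).asIdeal.primeCompl Q.asIdeal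

theorem exists_mem_range_dim_le {X Y S : Scheme.{u}} [IsLocallyNoetherian S] (f : X ⟶ S)
    [Smooth f] (i : Y ⟶ X) [IsClosedImmersion i] [Smooth (i ≫ f)] (z : Y) :
    ∃ y' ∈ Set.range i.base, ringKrullDim (X.presheaf.stalk y') ≤
      ringKrullDim (CInt.fiberStalk f (i.base z)) := by
  let A := S.presheaf.stalk (f.base (i.base z))
  let P := X.presheaf.stalk (i.base z)
  let C := Y.presheaf.stalk z
  letI : Algebra A P := (f.stalkMap (i.base z)).hom.toAlgebra
  haveI : IsLocalHom (algebraMap A P) :=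
    inferInstanceAs (IsLocalHom (f.stalkMap (i.base z)).hom)
  have hP : CAlgX.IsEssFinitePresentation A P :=
    Groth.Agent.Lib.FibInjH6.isEssFinitePresentation_stalkMap f (i.base z)
  let J : Ideal P := RingHom.ker (i.stalkMap z).hom
  have hsurj : Function.Surjective (i.stalkMap z).hom := i.stalkMap_surjective z
  have hJ : J ≠ ⊤ := RingHom.ker_ne_top _
  letI : Algebra A C := ((i.stalkMap z).hom.comp (f.stalkMap (i.base z)).hom).toAlgebra
  let ψ : P →ₐ[A] C := { (i.stalkMap z).hom with commutes' := fun _ => rfl }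
  haveI hsmP : Algebra.FormallySmooth A P := by
    have h1 : i.base z ∈ f.smoothLocus := by rw [f.smoothLocus_eq_top]; trivial
    exact h1
  have hsmC : Algebra.FormallySmooth A C := by
    have h1 : z ∈ (i ≫ f).smoothLocus := by rw [(i ≫ f).smoothLocus_eq_top]; trivial
    have h2 : ((i ≫ f).stalkMap z).hom.FormallySmooth := h1
    rw [Scheme.Hom.stalkMap_comp] at h2
    exact h2
  haveI : Algebra.FormallySmooth A (P ⧸ J) :=
    .of_equiv (Ideal.quotientKerAlgEquivOfSurjective (f := ψ) hsurj).symm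
  obtain ⟨hNoeth, rs, hreg, hrsJ, hregbar⟩ := exists_regular_of_formallySmooth' hP J hJ
  haveI := hNoeth
  obtain ⟨q', hq'⟩ := Ideal.nonempty_minimalPrimes hJ
  haveI : q'.IsPrime := hq'.1.1
  have hJq' : J ≤ q' := hq'.1.2
  have hht : q'.height = rs.length :=
    height_eq_length_of_mem_minimalPrimes rs hreg.toIsWeaklyRegular q' (hrsJ ▸ hq')
  let 𝔭 : Ideal C := q'.map (i.stalkMap z).hom
  haveI : 𝔭.IsPrime := Ideal.map_isPrime_of_surjective hsurj hJq'
  have hcomap : 𝔭.comap (i.stalkMap z).hom = q' := by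
    rw [Ideal.comap_map_of_surjective _ hsurj, ← RingHom.ker_eq_comap_bot]
    exact sup_eq_left.mpr hJq'
  let 𝔓 : Spec (Y.presheaf.stalk z) := ⟨𝔭, inferInstance⟩
  let Q' : Spec (X.presheaf.stalk (i.base z)) := ⟨q', inferInstance⟩
  let z' : Y := Y.fromSpecStalk z 𝔓
  refine ⟨i.base z', ⟨z', rfl⟩, ?_⟩
  have hpt : i.base z' = X.fromSpecStalk (i.base z) Q' := by
    have h1 := Scheme.SpecMap_stalkMap_fromSpecStalk (f := i) (x := z)
    have h2 : (Spec.map (i.stalkMap z) ≫ X.fromSpecStalk (i.base z)).base 𝔓 =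
        (Y.fromSpecStalk z ≫ i).base 𝔓 := by rw [h1]
    rw [Scheme.Hom.comp_apply, Scheme.Hom.comp_apply] at h2
    rw [← h2]
    congr 1
    exact PrimeSpectrum.ext hcomap
  rw [hpt, ringKrullDim_stalk_fromSpecStalk (i.base z) Q']
  show ((q'.height : ℕ∞) : WithBot ℕ∞) ≤ _
  rw [hht]
  refine le_trans ?_ (Groth.Agent.FibStalkDimH8.dim_quot_le f (i.base z))
  haveI : IsLocalRing (P ⧸ (maximalIdeal A).map (algebraMap A P)) :=
    isLocalRing_quotient _ map_maximalIdeal_le
  have h4 := ringKrullDim_add_length_eq_ringKrullDim_of_isRegular _ hregbar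
  rw [List.length_map] at h4
  have h5 : (0 : WithBot ℕ∞) ≤ ringKrullDim ((P ⧸ (maximalIdeal A).map (algebraMap A P)) ⧸
      Ideal.ofList (rs.map (Ideal.Quotient.mk ((maximalIdeal A).map (algebraMap A P))))) := by
    haveI : Nontrivial ((P ⧸ (maximalIdeal A).map (algebraMap A P)) ⧸
        Ideal.ofList (rs.map (Ideal.Quotient.mk ((maximalIdeal A).map (algebraMap A P))))) := by
      refine Ideal.Quotient.nontrivial_iff.mpr (fun h => hregbar.2 ?_)
      rw [h, smul_eq_mul, Ideal.mul_top]
    exact ringKrullDim_nonneg_of_nontrivial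
  show ((rs.length : ℕ∞) : WithBot ℕ∞) ≤
    ringKrullDim (P ⧸ (maximalIdeal A).map (algebraMap A P))
  rw [← h4]
  calc ((rs.length : ℕ∞) : WithBot ℕ∞) = 0 + (rs.length : WithBot ℕ∞) := by simp
    _ ≤ _ := by gcongr

theorem main14106 {X Y S : Scheme.{u}} [IsLocallyNoetherian X] [IsLocallyNoetherian S]
    (f : X ⟶ S) [Smooth f] (i : Y ⟶ X) [IsClosedImmersion i] [Smooth (i ≫ f)] :
    (⨅ y : Set.range i.base, ringKrullDim ↑(CInt.fiberStalk f y.1)) =
      ⨅ y : Set.range i.base, ringKrullDim ↑(X.presheaf.stalk y.1) := by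
  apply le_antisymm
  · exact Groth.Agent.S14103.result f (Set.range i.base) i.isClosedEmbedding.isClosed_range
  · refine le_iInf fun y => ?_
    obtain ⟨_, z, rfl⟩ := y
    obtain ⟨y', hy', hle⟩ := exists_mem_range_dim_le f i z
    exact (iInf_le (fun y : Set.range i.base => ringKrullDim ↑(X.presheaf.stalk y.1))
      ⟨y', hy'⟩).trans hle

end Groth.Agent.Lib.RegPairH3
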