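import Mathlib
import Groth.Prelude.Def_CInt
import Groth.Agent.Lib.RegPair2_helper3
import Groth.Agent.Lib.FibInjF_helper6

/-!
# EGA IV 17.12.1, scheme form (helper3)

`main3700`: `S` locally Noetherian, `f : X ⟶ S` locally of finite presentation, `Y = V(I)` a closed
subscheme smooth over `S` at `x`.  Then `X` is smooth over `S` at `x` iff the kernel of
`O_{X,x} → O_{Y,x}` is generated by a regular sequence.
APPEND-ONLY once landed.
-/

set_option autoImplicit false

namespace Groth.Agent.Lib.RegPairH3

open AlgebraicGeometry CategoryTheory IsLocalRing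

universe u

theorem main3700 {X S : Scheme.{u}} [IsLocallyNoetherian S] (f : X ⟶ S)
    [LocallyOfFinitePresentation f] (I : X.IdealSheafData)
    [LocallyOfFinitePresentation (I.subschemeι ≫ f)] (x : ↥I.subscheme)
    (hY : x ∈ (I.subschemeι ≫ f).smoothLocus) :
    I.subschemeι.base x ∈ f.smoothLocus ↔
      CInt.IsRegularIdeal (RingHom.ker (I.subschemeι.stalkMap x).hom) := by
  let A := S.presheaf.stalk (f.base (I.subschemeι.base x))
  let P := X.presheaf.stalk (I.subschemeι.base x)
  let C := I.subscheme.presheaf.stalk x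
  letI : Algebra A P := (f.stalkMap (I.subschemeι.base x)).hom.toAlgebra
  haveI : IsLocalHom (algebraMap A P) :=
    inferInstanceAs (IsLocalHom (f.stalkMap (I.subschemeι.base x)).hom)
  have hP : CAlgX.IsEssFinitePresentation A P :=
    Groth.Agent.Lib.FibInjH6.isEssFinitePresentation_stalkMap f (I.subschemeι.base x)
  let J : Ideal P := RingHom.ker (I.subschemeι.stalkMap x).hom
  have hsurj : Function.Surjective (I.subschemeι.stalkMap x).hom :=
    I.subschemeι.stalkMap_surjective x
  have hJ : J ≠ ⊤ := RingHom.ker_ne_top _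
  letI : Algebra A C :=
    ((I.subschemeι.stalkMap x).hom.comp (f.stalkMap (I.subschemeι.base x)).hom).toAlgebra
  let ψ : P →ₐ[A] C := { (I.subschemeι.stalkMap x).hom with commutes' := fun _ => rfl }
  have hsm : Algebra.FormallySmooth A C := by
    have h1 : ((I.subschemeι ≫ f).stalkMap x).hom.FormallySmooth := hY
    rw [Scheme.Hom.stalkMap_comp] at h1
    exact h1
  haveI : Algebra.FormallySmooth A (P ⧸ J) :=
    .of_equiv (Ideal.quotientKerAlgEquivOfSurjective (f := ψ) hsurj).symm
  exact main_ring hP J hJ

end Groth.Agent.Lib.RegPairH3
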