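import Mathlib

set_option backward.isDefEq.respectTransparency false
set_option backward.isDefEq.respectTransparency.types false
set_option linter.style.haveILetI false
set_option linter.unusedSectionVars false
set_option autoImplicit false

/-!
# Points of the regular topology on a small abelian category (helper7)

Via the Freyd–Mitchell embedding `A ⥤ ModuleCat R` (exact, faithful) we get a left exact functor
`base A : A ⥤ Type u` sending epimorphisms to surjections and reflecting them. For any index type
`I`, the power `fib A I = (I → base A -)` is again such a functor, hence a point of the regular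
topology. Taking `I` = the set of non-epimorphisms with target `X`, a "generic" element shows that
these points form a conservative family.
-/

open CategoryTheory Limits Opposite CategoryTheory.Abelian

namespace Groth.Agent.Lib.RegPtH7

universe u

variable (A : Type u) [SmallCategory A] [Abelian A]

/-- An exact faithful functor to types. -/
noncomputable def base : A ⥤ Type u :=
  FreydMitchell.functor A ⋙ forget (ModuleCat.{u} (FreydMitchell.EmbeddingRing A))

/-- Its `I`-th power. -/
noncomputable def fib (I : Type u) : A ⥤ Type u := base A ⋙ coyoneda.obj (op I)

instance (I : Type u) : PreservesFiniteLimits (fib A I) := by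
  unfold fib base
  infer_instance

variable {A}

lemma base_surjective_of_epi {X Y : A} (f : X ⟶ Y) [Epi f] :
    Function.Surjective ((base A).map f) := by
  have h1 : Epi ((FreydMitchell.functor A).map f) := inferInstance
  have h2 := (ModuleCat.epi_iff_surjective _).1 h1
  exact h2

lemma epi_of_base_surjective {X Y : A} (f : X ⟶ Y)
    (h : Function.Surjective ((base A).map f)) : Epi f := by
  have h1 : Epi ((FreydMitchell.functor A).map f) := (ModuleCat.epi_iff_surjective _).2 h
  exact (FreydMitchell.functor A).epi_of_epi_map h1

variable [Preregular A]

variable (A) in
/-- The point of the regular topology given by the `I`-th power of the Freyd–Mitchell functor. -/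
noncomputable def pt (I : Type u) : (regularTopology A).Point where
  fiber := fib A I
  isCofiltered := Functor.isCofiltered_elements _
  initiallySmall := initiallySmall_of_essentiallySmall _
  jointly_surjective {X} R hR x := by
    obtain ⟨Y, π, hπ, hRπ⟩ := (regularTopology.mem_sieves_iff_hasEffectiveEpi R).1 hR
    have : Epi π := inferInstance
    have hs := base_surjective_of_epi π
    let x' : I ⟶ (base A).obj X := x
    let y' : I ⟶ (base A).obj Y := TypeCat.ofHom (fun i => (hs (x' i)).choose)
    refine ⟨Y, π, hRπ, y', ?_⟩
    have : y' ≫ (base A).map π = x' := by
      ext i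
      exact (hs (x' i)).choose_spec
    exact this

/-- The index set of the generic point at `X`: non-epimorphisms into `X`. -/
def Idx (X : A) : Type u := Σ Y : A, {g : Y ⟶ X // ¬ Epi g}

lemma conservative :
    (ObjectProperty.ofObj (fun X : A => pt A (Idx X))).IsConservativeFamilyOfPoints :=
  .mk' (fun X R hR => by
    classical
    have hne : ∀ i : Idx X, ∃ x : (base A).obj X, x ∉ Set.range ((base A).map i.2.1) := by
      intro i
      by_contra hcon
      push Not at hcon
      exact i.2.2 (epi_of_base_surjective i.2.1 hcon)
    let x' : Idx X ⟶ (base A).obj X := TypeCat.ofHom (fun i => (hne i).choose)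
    let x : (pt A (Idx X)).fiber.obj X := x'
    obtain ⟨Y, g, hg, y, hy⟩ := hR ⟨_, ⟨X⟩⟩ x
    let y' : Idx X ⟶ (base A).obj Y := y
    have hy' : y' ≫ (base A).map g = x' := hy
    have hepi : Epi g := by
      by_contra h
      apply (hne ⟨Y, g, h⟩).choose_spec
      refine ⟨y' ⟨Y, g, h⟩, ?_⟩
      have := ConcreteCategory.congr_hom hy' ⟨Y, g, h⟩
      exact this
    rw [regularTopology.mem_sieves_iff_hasEffectiveEpi]
    have hreg : IsRegularEpi g := IsRegularEpiCategory.regularEpiOfEpi g
    exact ⟨Y, g, inferInstance, hg⟩)

lemma hasEnoughPoints : GrothendieckTopology.HasEnoughPoints.{u, u, u} (regularTopology A) where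
  exists_objectProperty := ⟨_, inferInstance, conservative⟩

end Groth.Agent.Lib.RegPtH7
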