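import Mathlib
import Groth.Prelude
import Groth.Agent.Lib.CurvePtInv6_helper9
import Groth.Agent.Lib.BlowGen_helper2
import Groth.Agent.S1549
import Groth.Agent.S1543
import Groth.Agent.S1560
import Groth.Agent.S1535

/-!
# Regular points of reduced schemes of finite type over a perfect field; non-special invertible
modules on integral proper curves over an algebraically closed field (helper9)

`RegPts9.main1523` is the statement of S1523.
APPEND-ONLY once landed.
-/

set_option autoImplicit false
universe u
open CategoryTheory CategoryTheory.Limits AlgebraicGeometry Opposite TopologicalSpace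

namespace RegPts9

open QcqsLoc QCohExtn GenLocH8 TensH8 FLFH8 CohB1 Groth.Agent.TensInv CurveAmple CurveGG CurvePt
  CurvePtInv

section Reg

variable (k : Type u) [Field k] [PerfectField k] (X : Scheme.{u}) [X.Over (Spec (CommRingCat.of k))]
  [IsReduced X] [LocallyOfFiniteType (X ↘ Spec (CommRingCat.of k))]

include k in
/-- a reduced scheme locally of finite type over a perfect field has a dense open subset all of
whose local rings are regular -/
theorem exists_regular_open :
    ∃ U : X.Opens, Dense (U : Set X) ∧ ∀ x ∈ U, IsRegularLocalRing (X.presheaf.stalk x) := by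
  have hGR : GeometricallyReduced (X ↘ Spec (CommRingCat.of k)) := by
    apply Groth.Agent.S1543.result k X
    intro Z _ η _
    exact Groth.Agent.S1560.result k X η
  obtain ⟨U, hUd, hUs⟩ := (Groth.Agent.S1549.result k X).1 hGR
  refine ⟨U, hUd, fun x hx => ?_⟩
  letI : (U : Scheme.{u}).Over (Spec (CommRingCat.of k)) :=
    ⟨U.ι ≫ (X ↘ Spec (CommRingCat.of k))⟩
  haveI : Smooth ((U : Scheme.{u}) ↘ Spec (CommRingCat.of k)) := hUs
  have h1 := Groth.Agent.S1535.result k (U : Scheme.{u}) ⟨x, hx⟩
  exact Groth.Agent.Lib.BlowGen.regular_stalk_fwd U.ι ⟨x, hx⟩ h1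

end Reg

section Curve

variable (k : Type u) [Field k] (X : Scheme.{u}) [X.Over (Spec (CommRingCat.of k))]
  [IsIntegral X] [IsProper (X ↘ Spec (CommRingCat.of k))]

/-- the divisor of a rational point with regular local ring (no global regularity needed) -/
theorem exists_point_divisor' (hdim : topologicalKrullDim X = 1)
    (O : Spec (CommRingCat.of k) ⟶ X) (hO : O ≫ (X ↘ Spec (CommRingCat.of k)) = 𝟙 _)
    (hreg : ∀ y ∈ Set.range O, IsRegularLocalRing (X.presheaf.stalk y)) :
    ∃ (I : X.IdealSheafData) (N : X.Modules), PicF.IsInvertible (ClSub.idealMod I) ∧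
      PicF.IsInvertible N ∧ Nonempty (CohB1.tensorMod (ClSub.idealMod I) N ≅ Coh.structureModule X) ∧
      (∀ y ∈ I.support, IsClosed ({y} : Set X)) ∧ Set.range O ⊆ (I.support : Set X) ∧
      Module.finrank k (Coh.HH X (ClSub.quotMod I) 0) = 1 ∧ Curv2.deg k X N 1 = 1 := by
  haveI : IsLocallyNoetherian X :=
    LocallyOfFiniteType.isLocallyNoetherian (X ↘ Spec (CommRingCat.of k))
  haveI : Subsingleton ↥(Spec (CommRingCat.of k)) :=
    inferInstanceAs (Subsingleton (PrimeSpectrum k))
  haveI := isClosedImmersion_section k O hO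
  have hsupp : (O.ker.support : Set X) = Set.range O := by
    rw [Scheme.Hom.support_ker]
    exact O.isClosedEmbedding.isClosed_range.closure_eq
  have hpt : ∀ y ∈ O.ker.support, IsClosed ({y} : Set X) := by
    intro y hy
    have hy' : y ∈ Set.range O := by rw [← hsupp]; exact hy
    obtain ⟨z, rfl⟩ := hy'
    have h1 : ({O z} : Set X) = Set.range O := by
      ext w
      constructor
      · rintro rfl
        exact ⟨z, rfl⟩
      · rintro ⟨z', rfl⟩
        rw [Subsingleton.elim z' z]
        rfl
    rw [h1]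
    exact O.isClosedEmbedding.isClosed_range
  have hIinv := isInvertible_idealMod_of_support hdim O.ker
    (fun y hy => ⟨hpt y hy, hreg y (by rw [← hsupp]; exact hy)⟩)
  obtain ⟨N, hN, ⟨e⟩⟩ := Groth.Agent.InvTensP.exists_inverse _ hIinv
  have hZ : topologicalKrullDim (O.ker.support : Set X) ≤ 0 :=
    CurveSpec.dim_le_zero_of_closed_points _ O.ker.support.isClosed hpt
  have hd := finrank_HH0_quotMod_ker k O hO
  refine ⟨O.ker, N, hIinv, hN, ⟨e⟩, hpt, hsupp.ge, hd, ?_⟩
  have e5 := CurveIdeal.euler_eq_add k X O.ker hZ hN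
  have e6 := CurveTens.euler_of_iso k X e
  unfold Curv2.deg
  rw [e5, e6, hd]
  push_cast
  ring

end Curve

section GenPt

variable {X : Scheme.{u}} [IsIntegral X]

/-- a nonzero section of an invertible module on an integral Jacobson scheme generates it at some
closed point of any given nonempty open subset -/
theorem exists_closed_genAt' [IsLocallyNoetherian X] [JacobsonSpace X] {L : X.Modules}
    (hL : PicF.IsInvertible L) (σ : Coh.structureModule X ⟶ L) (hσ : σ ≠ 0)
    (U : X.Opens) (hU : (U : Set X).Nonempty) :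
    ∃ q : X, q ∈ U ∧ IsClosed ({q} : Set X) ∧ CurveLin.GenAt L σ q := by
  obtain ⟨W, hW, hξW, e, he⟩ := exists_isGen hL (genericPoint X)
  obtain ⟨c, hc⟩ := (he W le_rfl).1 (ap σ W (toM (1 : Γ(X, W))))
  rw [SubExt.rF_self] at hc
  have hne : ((X.basicOpen c : X.Opens) : Set X).Nonempty := by
    by_contra hempty
    rw [Set.not_nonempty_iff_eq_empty] at hempty
    have hbot : X.basicOpen c = ⊥ := by
      apply TopologicalSpace.Opens.ext
      rw [hempty]
      rfl
    have hc0 : c = 0 := (AlgebraicGeometry.basicOpen_eq_bot_iff c).mp hbot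
    apply hσ
    apply TensBasis.hom_eq_zero_of_ap_one_open
      (TensBasis.isFinLocFree_of_rank (finLocFreeOfRank_one_of_isInvertible hL)) σ
      (W := W) ⟨genericPoint X, hξW⟩
    rw [hc, hc0, zero_smul]
  have hne2 : (((X.basicOpen c ⊓ U : X.Opens)) : Set X).Nonempty := by
    have hirr : IsPreirreducible (Set.univ : Set X) :=
      (PreirreducibleSpace.isPreirreducible_univ (X := X))
    obtain ⟨z, -, hz⟩ := hirr _ _ (X.basicOpen c).isOpen U.isOpen
      (by simpa using hne) (by simpa using hU)
    exact ⟨z, hz⟩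
  obtain ⟨q, hqc, hq⟩ := nonempty_inter_closedPoints hne2
    (X.basicOpen c ⊓ U).isOpen.isLocallyClosed
  refine ⟨q, hqc.2, hq, ?_⟩
  exact (genAt_iff_mem_basicOpen σ he hc (X.basicOpen_le c hqc.1)).mpr hqc.1

end GenPt

section AlgClosed

variable (k : Type u) [Field k] [IsAlgClosed k] (X : Scheme.{u}) [X.Over (Spec (CommRingCat.of k))]
  [IsIntegral X] [IsProper (X ↘ Spec (CommRingCat.of k))]

/-- over an algebraically closed field every regular closed point of an integral proper curve is
the support of an invertible ideal sheaf of degree `-1` -/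
theorem exists_point_divisor_of_closed' (hdim : topologicalKrullDim X = 1) (q : X)
    (hq : IsClosed ({q} : Set X)) (hreg : IsRegularLocalRing (X.presheaf.stalk q)) :
    ∃ (I : X.IdealSheafData) (N : X.Modules), PicF.IsInvertible (ClSub.idealMod I) ∧
      PicF.IsInvertible N ∧ Nonempty (CohB1.tensorMod (ClSub.idealMod I) N ≅ Coh.structureModule X) ∧
      (∀ y ∈ I.support, IsClosed ({y} : Set X)) ∧ q ∈ I.support ∧
      Module.finrank k (Coh.HH X (ClSub.quotMod I) 0) = 1 ∧ Curv2.deg k X N 1 = 1 := by
  obtain ⟨I, N, h1, h2, h3, h4, h5, h6, h7⟩ := exists_point_divisor' k X hdim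
    (pointOfClosedPoint (X ↘ Spec (CommRingCat.of k)) q hq)
    (pointOfClosedPoint_comp (X ↘ Spec (CommRingCat.of k)) q hq) (by
      rintro y ⟨a, rfl⟩
      rw [pointOfClosedPoint_apply (X ↘ Spec (CommRingCat.of k)) q hq a]
      exact hreg)
  refine ⟨I, N, h1, h2, h3, h4, ?_, h6, h7⟩
  haveI : Nonempty ↥(Spec (CommRingCat.of k)) := inferInstanceAs (Nonempty (PrimeSpectrum k))
  obtain ⟨a⟩ : Nonempty ↥(Spec (CommRingCat.of k)) := inferInstance
  exact h5 ⟨a, pointOfClosedPoint_apply (X ↘ Spec (CommRingCat.of k)) q hq a⟩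

/-- for every `j ≤ g + 1` there is an invertible module of degree `2g - j` with vanishing `H¹`
(only a nonempty open set of regular points is needed) -/
theorem exists_deg_vanishing' (hdim : topologicalKrullDim X = 1) (U : X.Opens)
    (hU : (U : Set X).Nonempty)
    (hreg : ∀ x ∈ U, IsRegularLocalRing (X.presheaf.stalk x)) (j : ℕ)
    (hj : j ≤ Curv2.genus k X + 1) :
    ∃ L : X.Modules, PicF.IsInvertible L ∧
      Curv2.deg k X L 1 = 2 * (Curv2.genus k X : ℤ) - (j : ℤ) ∧ Subsingleton (Coh.HH X L 1) := by
  haveI : IsLocallyNoetherian X :=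
    LocallyOfFiniteType.isLocallyNoetherian (X ↘ Spec (CommRingCat.of k))
  haveI : JacobsonSpace ↥(Spec (CommRingCat.of k)) :=
    inferInstanceAs (JacobsonSpace (PrimeSpectrum k))
  haveI : JacobsonSpace X := LocallyOfFiniteType.jacobsonSpace (X ↘ Spec (CommRingCat.of k))
  haveI : CompactSpace X :=
    QuasiCompact.compactSpace_of_compactSpace (X ↘ Spec (CommRingCat.of k))
  haveI : Nonempty X := inferInstance
  set g := Curv2.genus k X with hg
  have h00 := CurveSpec.finrank_HH0_structureModule k X hdim
  haveI := (CohDevH8.isCoh_structureModule X).1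
  have hχO : Curv2.euler k X (Coh.structureModule X) = 1 - (g : ℤ) := by
    have e3 := CurveRR.euler_eq_sub k X hdim.le (Coh.structureModule X)
    have hg' : Curv2.genus k X = Module.finrank k (Coh.HH X (Coh.structureModule X) 1) := rfl
    rw [h00, ← hg', ← hg] at e3
    push_cast at e3
    exact e3
  obtain ⟨p, hpU, hp⟩ := nonempty_inter_closedPoints hU U.isOpen.isLocallyClosed
  obtain ⟨I, N, hI, hN, -, -, -, -, hdegN⟩ :=
    exists_point_divisor_of_closed' k X hdim p hp (hreg p hpU)
  induction j with
  | zero =>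
    have hdeg : Curv2.deg k X (CohB1.tensorPow N (2 * g)) 1 = 2 * (g : ℤ) := by
      rw [CurveTens.deg_tensorPow k X hdim.le hN, hdegN]
      push_cast
      ring
    refine ⟨CohB1.tensorPow N (2 * g), isInvertible_tensorPow hN _, ?_, ?_⟩
    · rw [hdeg]
      push_cast
      ring
    · apply HH1_subsingleton_of_deg_ge k X hdim.le (isInvertible_tensorPow hN _)
      rw [hdeg]
      linarith
  | succ j ih =>
    obtain ⟨L, hL, hdegL, hH1⟩ := ih (by omega)
    have hLc := ProperFinH9.isCoh_of_isInvertible hL
    haveI := hLc.1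
    haveI := ProperFinH9.finite_HH_of_proper k X _ hLc 0
    have e3 := CurveRR.euler_eq_sub k X hdim.le L
    have e7 : Module.finrank k (Coh.HH X L 1) = 0 := Module.finrank_zero_of_subsingleton
    rw [e7] at e3
    have hpos : 0 < Module.finrank k (Coh.HH X L 0) := by
      unfold Curv2.deg at hdegL
      rw [hχO, e3] at hdegL
      have hj' : ((j + 1 : ℕ) : ℤ) ≤ (g : ℤ) + 1 := by exact_mod_cast hj
      push_cast at hdegL hj'
      have : (0 : ℤ) < (Module.finrank k (Coh.HH X L 0) : ℤ) := by linarith
      exact_mod_cast this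
    obtain ⟨σ, hσ⟩ : ∃ σ : Coh.structureModule X ⟶ L, σ ≠ 0 := by
      haveI : Nontrivial (Coh.HH X L 0) := Module.finrank_pos_iff.mp hpos
      obtain ⟨v, hv⟩ := exists_ne (0 : Coh.HH X L 0)
      refine ⟨(CurveIdeal.thetaEquiv k L).symm v, fun h => hv ?_⟩
      have := congrArg (CurveIdeal.thetaEquiv k L) h
      rwa [LinearEquiv.apply_symm_apply, map_zero] at this
    obtain ⟨q, hqU, hq, hgen⟩ := exists_closed_genAt' hL σ hσ U hU
    obtain ⟨I', N', hI', -, -, hpt', hqI, hd', -⟩ :=
      exists_point_divisor_of_closed' k X hdim q hq (hreg q hqU)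
    obtain ⟨hH1', hχ⟩ := twist_down_step k X hdim I' hpt' hd' hL hH1 σ hqI hgen
    refine ⟨CohB1.tensorMod (ClSub.idealMod I') L, isInvertible_tensorMod hI' hL, ?_, hH1'⟩
    unfold Curv2.deg at hdegL ⊢
    rw [hχ]
    push_cast at hdegL ⊢
    linarith

/-- **S1523**: on an integral proper curve over an algebraically closed field there is an
invertible module with `h⁰ = 1`, `h¹ = 0`, and one with `h⁰ = h¹ = 0`. -/
theorem main1523 (hdim : topologicalKrullDim X = 1) :
    (∃ L : X.Modules, PicF.IsInvertible L ∧ Module.finrank k (Coh.HH X L 0) = 1 ∧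
      Subsingleton (Coh.HH X L 1)) ∧
    (∃ N : X.Modules, PicF.IsInvertible N ∧ Subsingleton (Coh.HH X N 0) ∧
      Subsingleton (Coh.HH X N 1)) := by
  haveI : IsLocallyNoetherian X :=
    LocallyOfFiniteType.isLocallyNoetherian (X ↘ Spec (CommRingCat.of k))
  haveI : Nonempty X := inferInstance
  obtain ⟨U, hUd, hUreg⟩ := exists_regular_open k X
  have hU : (U : Set X).Nonempty := hUd.nonempty
  have h00 := CurveSpec.finrank_HH0_structureModule k X hdim
  haveI := (CohDevH8.isCoh_structureModule X).1
  have e4 := CurveRR.euler_eq_sub k X hdim.le (Coh.structureModule X)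
  have hg' : Curv2.genus k X = Module.finrank k (Coh.HH X (Coh.structureModule X) 1) := rfl
  constructor
  · obtain ⟨L, hL, hdegL, hH1⟩ :=
      exists_deg_vanishing' k X hdim U hU hUreg (Curv2.genus k X) (Nat.le_succ _)
    refine ⟨L, hL, ?_, hH1⟩
    have hLc := ProperFinH9.isCoh_of_isInvertible hL
    haveI := hLc.1
    have e3 := CurveRR.euler_eq_sub k X hdim.le L
    have e7 : Module.finrank k (Coh.HH X L 1) = 0 := Module.finrank_zero_of_subsingleton
    unfold Curv2.deg at hdegL
    rw [e3, e4, e7, h00, ← hg'] at hdegL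
    push_cast at hdegL
    have : (Module.finrank k (Coh.HH X L 0) : ℤ) = 1 := by linarith
    exact_mod_cast this
  · obtain ⟨L, hL, hdegL, hH1⟩ :=
      exists_deg_vanishing' k X hdim U hU hUreg (Curv2.genus k X + 1) le_rfl
    refine ⟨L, hL, ?_, hH1⟩
    have hLc := ProperFinH9.isCoh_of_isInvertible hL
    haveI := hLc.1
    haveI := ProperFinH9.finite_HH_of_proper k X _ hLc 0
    have e3 := CurveRR.euler_eq_sub k X hdim.le L
    have e7 : Module.finrank k (Coh.HH X L 1) = 0 := Module.finrank_zero_of_subsingleton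
    unfold Curv2.deg at hdegL
    rw [e3, e4, e7, h00, ← hg'] at hdegL
    push_cast at hdegL
    have : (Module.finrank k (Coh.HH X L 0) : ℤ) = 0 := by linarith
    have h0 : Module.finrank k (Coh.HH X L 0) = 0 := by exact_mod_cast this
    exact Module.finrank_zero_iff.mp h0

end AlgClosed

end RegPts9
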