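import Mathlib
import Groth.Agent.Lib.RegSeqSameIdeal_lead

/-!
# Two regular sequences generating the same ideal (Noetherian local ring) are connected by
permutations and changes of the last element, through regular sequences generating that ideal.
-/

namespace Groth.Agent.Lib.RegSeqChainLead

open RingTheory.Sequence IsLocalRing Groth.Agent.Lib.RegSeqSameIdealLead

variable {A : Type*} [CommRing A]

lemma ofList_perm {l l' : List A} (h : l.Perm l') : Ideal.ofList l = Ideal.ofList l' :=
  congrArg Ideal.span (Set.ext fun _ => h.mem_iff)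

lemma ofList_append_singleton_eq {rs : List A} {x x' u : A} (hu : IsUnit u)
    (hx' : x' - u * x ∈ Ideal.ofList rs) :
    Ideal.ofList (rs ++ [x']) = Ideal.ofList (rs ++ [x]) := by
  rw [Ideal.ofList_append, Ideal.ofList_append, Ideal.ofList_singleton, Ideal.ofList_singleton]
  apply le_antisymm
  · refine sup_le le_sup_left ?_
    rw [Ideal.span_singleton_le_iff_mem]
    have e : x' = (x' - u * x) + u * x := by ring
    rw [e]
    exact Ideal.add_mem _ (Ideal.mem_sup_left hx')
      (Ideal.mem_sup_right (Ideal.mul_mem_left _ _ (Ideal.mem_span_singleton_self x)))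
  · refine sup_le le_sup_left ?_
    rw [Ideal.span_singleton_le_iff_mem]
    obtain ⟨v, hv⟩ := hu.exists_left_inv
    have e : x = v * x' - v * (x' - u * x) := by
      have e1 : v * u * x = x := by rw [hv, one_mul]
      linear_combination (-1 : A) * e1
    rw [e]
    exact Ideal.sub_mem _
      (Ideal.mem_sup_right (Ideal.mul_mem_left _ _ (Ideal.mem_span_singleton_self x')))
      (Ideal.mem_sup_left (Ideal.mul_mem_left _ _ hx'))

/-- the step relation of the statement -/
def Rel (w w' : List A) : Prop :=
  w.Perm w' ∨ (w.length = w'.length ∧ w.dropLast = w'.dropLast)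

def Good (I : Ideal A) (n : ℕ) (w : List A) : Prop := w.length = n ∧ Ideal.ofList w = I

def Step (I : Ideal A) (n : ℕ) (w w' : List A) : Prop := Rel w w' ∧ Good I n w'

lemma move (I : Ideal A) (n : ℕ) (pre l₁ l₂ : List A) (z y c : A) (hc : IsUnit c)
    (hy : y - c * z ∈ Ideal.ofList (pre ++ (l₁ ++ l₂)))
    (hgood : Good I n (pre ++ (l₁ ++ z :: l₂))) :
    Relation.ReflTransGen (Step I n) (pre ++ (l₁ ++ z :: l₂)) (pre ++ y :: (l₁ ++ l₂)) ∧
      Good I n (pre ++ y :: (l₁ ++ l₂)) := by
  have p1 : (pre ++ (l₁ ++ z :: l₂)).Perm ((pre ++ (l₁ ++ l₂)) ++ [z]) := by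
    have h : (pre ++ (l₁ ++ z :: l₂)).Perm (z :: (pre ++ (l₁ ++ l₂))) := by
      rw [← List.append_assoc, ← List.append_assoc]
      exact List.perm_middle
    exact h.trans (List.perm_append_singleton z _).symm
  have p3 : ((pre ++ (l₁ ++ l₂)) ++ [y]).Perm (pre ++ y :: (l₁ ++ l₂)) :=
    (List.perm_append_singleton y _).trans List.perm_middle.symm
  have g1 : Good I n ((pre ++ (l₁ ++ l₂)) ++ [z]) :=
    ⟨by rw [← p1.length_eq]; exact hgood.1, (ofList_perm p1).symm.trans hgood.2⟩
  have g2 : Good I n ((pre ++ (l₁ ++ l₂)) ++ [y]) := by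
    refine ⟨?_, (ofList_append_singleton_eq hc hy).trans g1.2⟩
    have := g1.1
    simp only [List.length_append, List.length_singleton] at this ⊢
    exact this
  have g3 : Good I n (pre ++ y :: (l₁ ++ l₂)) :=
    ⟨by rw [← p3.length_eq]; exact g2.1, (ofList_perm p3).symm.trans g2.2⟩
  refine ⟨?_, g3⟩
  refine Relation.ReflTransGen.trans (Relation.ReflTransGen.single ⟨Or.inl p1, g1⟩) ?_
  refine Relation.ReflTransGen.trans
    (Relation.ReflTransGen.single ⟨Or.inr ⟨?_, ?_⟩, g2⟩)
    (Relation.ReflTransGen.single ⟨Or.inl p3, g3⟩)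
  · simp
  · rw [List.dropLast_concat, List.dropLast_concat]

variable [IsLocalRing A]

lemma exists_pivot' (pre suf : List A) {y : A} (hy : y ∈ Ideal.ofList (pre ++ suf)) :
    y ∈ Ideal.ofList pre ⊔ maximalIdeal A * Ideal.ofList suf ∨
    ∃ (l₁ : List A) (z : A) (l₂ : List A) (c : A), suf = l₁ ++ z :: l₂ ∧ IsUnit c ∧
      y - c * z ∈ Ideal.ofList (pre ++ (l₁ ++ l₂)) := by
  rw [Ideal.ofList_append, Submodule.mem_sup] at hy
  obtain ⟨a, ha, b, hb, rfl⟩ := hy
  rcases exists_pivot suf hb with h | ⟨l₁, z, l₂, c, hs, hc, hmem⟩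
  · left
    exact Ideal.add_mem _ (Ideal.mem_sup_left ha) (Ideal.mem_sup_right h)
  · right
    refine ⟨l₁, z, l₂, c, hs, hc, ?_⟩
    rw [Ideal.ofList_append]
    have e : a + b - c * z = a + (b - c * z) := by ring
    rw [e]
    exact Ideal.add_mem _ (Ideal.mem_sup_left ha) (Ideal.mem_sup_right hmem)

lemma conn_aux [IsNoetherianRing A] (I : Ideal A) (n : ℕ)
    (hmin : ∀ l : List A, Ideal.ofList l = I → n ≤ l.length) :
    ∀ (vs pre suf : List A), Good I n (pre ++ suf) → Good I n (pre ++ vs) →
      suf.length = vs.length → Relation.ReflTransGen (Step I n) (pre ++ suf) (pre ++ vs) := by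
  intro vs
  induction vs with
  | nil =>
    intro pre suf _ _ hlen
    have : suf = [] := List.length_eq_zero_iff.1 (by simpa using hlen)
    rw [this]
  | cons y vs' ih =>
    intro pre suf hg1 hg2 hlen
    have hyI : y ∈ Ideal.ofList (pre ++ suf) := by
      rw [hg1.2, ← hg2.2, Ideal.ofList_append, Ideal.ofList_cons]
      exact Ideal.mem_sup_right (Ideal.mem_sup_left (Ideal.mem_span_singleton_self y))
    rcases exists_pivot' pre suf hyI with hbad | ⟨l₁, z, l₂, c, rfl, hc, hmem⟩
    · exfalso
      -- `I` is generated by `pre ++ vs'`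
      have hle : I ≤ Ideal.ofList (pre ++ vs') := by
        apply Submodule.le_of_le_smul_of_le_jacobson_bot (I := maximalIdeal A)
          ((isNoetherianRing_iff_ideal_fg A).1 inferInstance I)
          (IsLocalRing.maximalIdeal_le_jacobson _)
        have hsufI : Ideal.ofList suf ≤ I := by
          rw [← hg1.2, Ideal.ofList_append]; exact le_sup_right
        have hy' : y ∈ Ideal.ofList (pre ++ vs') ⊔ maximalIdeal A • I := by
          have h1 : Ideal.ofList pre ⊔ maximalIdeal A * Ideal.ofList suf ≤
              Ideal.ofList (pre ++ vs') ⊔ maximalIdeal A • I := by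
            refine sup_le_sup ?_ ?_
            · rw [Ideal.ofList_append]; exact le_sup_left
            · exact Ideal.mul_mono_right hsufI
          exact h1 hbad
        conv_lhs => rw [← hg2.2]
        rw [Ideal.ofList_append, Ideal.ofList_cons]
        refine sup_le ?_ (sup_le ?_ ?_)
        · refine le_sup_of_le_left ?_
          rw [Ideal.ofList_append]; exact le_sup_left
        · rw [Ideal.span_singleton_le_iff_mem]; exact hy'
        · refine le_sup_of_le_left ?_
          rw [Ideal.ofList_append]; exact le_sup_right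
      have hge : Ideal.ofList (pre ++ vs') ≤ I := by
        rw [← hg2.2, Ideal.ofList_append, Ideal.ofList_append, Ideal.ofList_cons]
        exact sup_le_sup_left le_sup_right _
      have h1 := hmin (pre ++ vs') (le_antisymm hge hle)
      have h2 := hg2.1
      simp only [List.length_append, List.length_cons] at h1 h2
      omega
    · obtain ⟨hmove, hgm⟩ := move I n pre l₁ l₂ z y c hc hmem hg1
      refine hmove.trans ?_
      have e1 : pre ++ y :: (l₁ ++ l₂) = (pre ++ [y]) ++ (l₁ ++ l₂) := by simp
      have e2 : pre ++ y :: vs' = (pre ++ [y]) ++ vs' := by simp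
      rw [e1, e2]
      apply ih (pre ++ [y]) (l₁ ++ l₂)
      · rw [← e1]; exact hgm
      · rw [← e2]; exact hg2
      · simp only [List.length_append, List.length_cons] at hlen ⊢
        omega

lemma not_short [IsNoetherianRing A] {u l : List A} (hu : IsRegular A u)
    (hl : Ideal.ofList l = Ideal.ofList u) (hlt : l.length < u.length) : False := by
  classical
  set k := u.length - l.length with hk
  have hkpos : k ≠ 0 := by omega
  set l' := l ++ List.replicate k (0 : A) with hl'
  have hlen : l'.length = u.length := by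
    simp only [hl', List.length_append, List.length_replicate]; omega
  have hideal : Ideal.ofList u = Ideal.ofList l' := by
    rw [hl', Ideal.ofList_append, hl]
    have : Ideal.ofList (List.replicate k (0 : A)) = ⊥ := by
      rw [eq_bot_iff]
      refine Ideal.span_le.2 fun x hx => ?_
      have hx0 : x = 0 := List.eq_of_mem_replicate hx
      rw [hx0]; exact zero_mem _
    rw [this, sup_bot_eq]
  have hreg : IsRegular A l' :=
    isRegular_of_ofList_eq u.length A A u l' rfl hlen hu hideal
  have h0 : (0 : A) ∈ l' := by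
    rw [hl']
    exact List.mem_append_right _ (List.mem_replicate.2 ⟨hkpos, rfl⟩)
  have hperm := List.perm_cons_erase h0
  have hreg' : IsRegular A ((0 : A) :: l'.erase 0) := IsLocalRing.isRegular_of_perm hreg hperm
  exact not_mem_ofList_of_isRegular_cons hreg' (zero_mem _)

theorem exists_chain [IsNoetherianRing A] (u v : List A) (hu : IsRegular A u) (hv : IsRegular A v)
    (huv : Ideal.ofList u = Ideal.ofList v) :
    ∃ ws : List (List A), ws.head? = some u ∧ ws.getLast? = some v ∧
      (∀ w ∈ ws, IsRegular A w ∧ Ideal.ofList w = Ideal.ofList u) ∧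
      List.IsChain (fun w w' : List A =>
        w.Perm w' ∨ (w.length = w'.length ∧ w.dropLast = w'.dropLast)) ws := by
  have hlen : v.length = u.length := by
    apply le_antisymm
    · by_contra hcon
      exact not_short hv huv (not_le.1 hcon)
    · by_contra hcon
      exact not_short hu huv.symm (not_le.1 hcon)
  have hmin : ∀ l : List A, Ideal.ofList l = Ideal.ofList u → u.length ≤ l.length := by
    intro l hl
    by_contra hcon
    exact not_short hu hl (not_le.1 hcon)
  have hconn := conn_aux (Ideal.ofList u) u.length hmin v [] u ⟨rfl, rfl⟩ ⟨hlen, huv.symm⟩ hlen.symm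
  simp only [List.nil_append] at hconn
  obtain ⟨l, hchain, hlast⟩ := List.exists_isChain_cons_of_relationReflTransGen hconn
  have hgood : ∀ (a : List A) (l : List (List A)), List.IsChain (Step (Ideal.ofList u) u.length) (a :: l) →
      Good (Ideal.ofList u) u.length a → ∀ w ∈ a :: l, Good (Ideal.ofList u) u.length w := by
    intro a l
    induction l generalizing a with
    | nil =>
      intro _ ha w hw
      rw [List.mem_singleton] at hw
      rw [hw]; exact ha
    | cons b l' ih =>
      intro hch ha w hw
      rw [List.isChain_cons_cons] at hch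
      rcases List.mem_cons.1 hw with rfl | hw'
      · exact ha
      · exact ih b hch.2 hch.1.2 w hw'
  refine ⟨u :: l, rfl, ?_, ?_, ?_⟩
  · rw [List.getLast?_eq_some_getLast (List.cons_ne_nil _ _), hlast]
  · intro w hw
    have hg := hgood u l hchain ⟨rfl, rfl⟩ w hw
    exact ⟨isRegular_of_ofList_eq u.length A A u w rfl hg.1 hu hg.2.symm, hg.2⟩
  · exact hchain.imp fun _ _ h => h.1

end Groth.Agent.Lib.RegSeqChainLead
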