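import Mathlib

/-!
# `J/J²` is free on the classes of a weakly regular sequence generating `J`
-/

namespace Groth.Agent.Lib.RegSeqCotangentLead

open RingTheory.Sequence

variable {A : Type*} [CommRing A]

lemma ofList_ofFn {n : ℕ} (c : Fin n → A) :
    Ideal.ofList (List.ofFn c) = Ideal.span (Set.range c) := by
  show Ideal.span _ = Ideal.span _
  congr 1
  ext x
  simp [List.mem_ofFn]

/-- relations among a weakly regular sequence have coefficients in the ideal -/
theorem coeff_mem_of_sum_eq_zero : ∀ (p : ℕ) (x : Fin p → A), IsWeaklyRegular A (List.ofFn x) →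
    ∀ a : Fin p → A, ∑ i, a i * x i = 0 → ∀ i, a i ∈ Ideal.span (Set.range x) := by
  intro p
  induction p with
  | zero => intro x _ a _ i; exact i.elim0
  | succ p ih =>
    intro x hreg a hsum
    set x' : Fin p → A := fun i => x i.castSucc with hx'
    have hlist : List.ofFn x = List.ofFn x' ++ [x (Fin.last p)] := by
      rw [List.ofFn_succ', List.concat_eq_append]
    rw [hlist, isWeaklyRegular_append_iff, isWeaklyRegular_singleton_iff] at hreg
    obtain ⟨hreg', hlast⟩ := hreg
    have e : (Ideal.ofList (List.ofFn x') • ⊤ : Submodule A A) = Ideal.span (Set.range x') := by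
      rw [Ideal.smul_eq_mul, Ideal.mul_top, ofList_ofFn]
    have hJle : Ideal.span (Set.range x') ≤ Ideal.span (Set.range x) := by
      apply Ideal.span_mono
      rintro _ ⟨i, rfl⟩
      exact ⟨i.castSucc, rfl⟩
    rw [Fin.sum_univ_castSucc] at hsum
    have h1 : a (Fin.last p) * x (Fin.last p) ∈ Ideal.span (Set.range x') := by
      have e1 : a (Fin.last p) * x (Fin.last p) = -∑ i : Fin p, a i.castSucc * x' i := by
        rw [eq_neg_iff_add_eq_zero, add_comm]; exact hsum
      rw [e1]
      exact (Ideal.neg_mem_iff _).2 (Ideal.sum_mem _ fun i _ =>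
        Ideal.mul_mem_left _ _ (Ideal.subset_span ⟨i, rfl⟩))
    have h2 : a (Fin.last p) ∈ Ideal.span (Set.range x') := by
      have hq : x (Fin.last p) • (Submodule.Quotient.mk (a (Fin.last p)) :
          A ⧸ (Ideal.ofList (List.ofFn x') • ⊤ : Submodule A A)) = x (Fin.last p) • 0 := by
        rw [smul_zero, ← Submodule.Quotient.mk_smul, Submodule.Quotient.mk_eq_zero, e, smul_eq_mul,
          mul_comm]
        exact h1
      have h3 := hlast hq
      rw [Submodule.Quotient.mk_eq_zero, e] at h3
      exact h3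
    obtain ⟨c, hc⟩ := (Ideal.mem_span_range_iff_exists_fun).1 h2
    have h3 : ∑ i : Fin p, (a i.castSucc + c i * x (Fin.last p)) * x' i = 0 := by
      have e2 : ∑ i : Fin p, (a i.castSucc + c i * x (Fin.last p)) * x' i =
          ∑ i : Fin p, a i.castSucc * x i.castSucc + (∑ i, c i * x' i) * x (Fin.last p) := by
        rw [Finset.sum_mul, ← Finset.sum_add_distrib]
        refine Finset.sum_congr rfl fun i _ => ?_
        simp only [hx']; ring
      rw [e2, hc]; exact hsum
    have h4 := ih x' hreg' _ h3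
    intro i
    refine Fin.lastCases ?_ (fun j => ?_) i
    · exact hJle h2
    · have h5 := hJle (h4 j)
      have e3 : a j.castSucc =
          (a j.castSucc + c j * x (Fin.last p)) - c j * x (Fin.last p) := by ring
      rw [e3]
      exact Ideal.sub_mem _ h5 (Ideal.mul_mem_left _ _ (Ideal.subset_span ⟨Fin.last p, rfl⟩))

theorem exists_basis (p : ℕ) (x : Fin p → A) (hreg : IsWeaklyRegular A (List.ofFn x)) :
    ∃ b : Module.Basis (Fin p) (A ⧸ Ideal.span (Set.range x)) (Ideal.span (Set.range x)).Cotangent,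
      ∀ i, b i = (Ideal.span (Set.range x)).toCotangent
        ⟨x i, Ideal.subset_span (Set.mem_range_self i)⟩ := by
  classical
  set J := Ideal.span (Set.range x) with hJ
  have hxJ : ∀ i, x i ∈ J := fun i => Ideal.subset_span (Set.mem_range_self i)
  set v : Fin p → J.Cotangent := fun i => J.toCotangent ⟨x i, hxJ i⟩ with hv
  have hsmul : ∀ (a : A) (m : J.Cotangent), (Ideal.Quotient.mk J a) • m = a • m :=
    fun a m => algebraMap_smul (A ⧸ J) a m
  have hcomb : ∀ (a : Fin p → A) (h : ∑ i, a i * x i ∈ J),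
      J.toCotangent ⟨∑ i, a i * x i, h⟩ = ∑ i, a i • v i := by
    intro a h
    have e1 : (⟨∑ i, a i * x i, h⟩ : J) = ∑ i, a i • (⟨x i, hxJ i⟩ : J) := by
      ext
      simp [Submodule.coe_sum]
    rw [e1, map_sum]
    refine Finset.sum_congr rfl fun i _ => ?_
    rw [map_smul]
  have hli : LinearIndependent (A ⧸ J) v := by
    rw [Fintype.linearIndependent_iff]
    intro g hg i
    choose a ha using fun i => Ideal.Quotient.mk_surjective (g i)
    have hmem : ∑ i, a i * x i ∈ J :=
      Ideal.sum_mem _ fun i _ => Ideal.mul_mem_left _ _ (hxJ i)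
    have h1 : ∑ i, a i • v i = 0 := by
      rw [← hg]; refine Finset.sum_congr rfl fun i _ => ?_
      rw [← ha i, hsmul]
    have h2 : J.toCotangent ⟨∑ i, a i * x i, hmem⟩ = 0 := by rw [hcomb, h1]
    rw [Ideal.toCotangent_eq_zero] at h2
    have h3 : ∃ b : Fin p → A, (∀ i, b i ∈ J) ∧ ∑ i, a i * x i = ∑ i, b i * x i := by
      have h4 : (∑ i, a i * x i) ∈ J • (Submodule.span A (Set.range x)) := by
        have : J • (Submodule.span A (Set.range x)) = J ^ 2 := by
          rw [pow_two]; rfl
        rw [this]; exact h2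
      obtain ⟨b, hb, hsum⟩ := (Submodule.mem_ideal_smul_span_iff_exists_sum J x _).1 h4
      refine ⟨fun i => b i, hb, ?_⟩
      rw [← hsum, Finsupp.sum_fintype _ _ (by simp)]
      simp [smul_eq_mul]
    obtain ⟨b, hbJ, hb⟩ := h3
    have h4 : ∑ i, (a i - b i) * x i = 0 := by
      simp only [sub_mul, Finset.sum_sub_distrib, hb, sub_self]
    have h5 := coeff_mem_of_sum_eq_zero p x hreg _ h4 i
    have h6 : a i ∈ J := by
      have e : a i = (a i - b i) + b i := by ring
      rw [e]; exact Ideal.add_mem _ h5 (hbJ i)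
    rw [← ha i]; exact Ideal.Quotient.eq_zero_iff_mem.2 h6
  have hsp : ⊤ ≤ Submodule.span (A ⧸ J) (Set.range v) := by
    intro m _
    obtain ⟨⟨y, hy⟩, rfl⟩ := Ideal.toCotangent_surjective J m
    obtain ⟨c, hc⟩ := (Ideal.mem_span_range_iff_exists_fun).1 hy
    have hmem : ∑ i, c i * x i ∈ J := hc ▸ hy
    have e1 : (⟨y, hy⟩ : J) = ⟨∑ i, c i * x i, hmem⟩ := by
      ext; exact hc.symm
    rw [e1, hcomb]
    refine Submodule.sum_mem _ fun i _ => ?_
    rw [← hsmul]
    exact Submodule.smul_mem _ _ (Submodule.subset_span (Set.mem_range_self i))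
  exact ⟨Module.Basis.mk hli hsp, fun i => by rw [Module.Basis.mk_apply]⟩

end Groth.Agent.Lib.RegSeqCotangentLead
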