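import Mathlib
import Groth.Agent.Lib.GlDim_helper5

/-!
# Regular local rings: `Pic (R_f)` is trivial (helper3)

* `isStablyFree_baseChange`: over a Noetherian local ring `R`, if `N` is a finite `R`-module of
  finite projective dimension and `S` a flat `R`-algebra with `S ⊗ N` projective, then `S ⊗ N` is
  stably free.
* `pic_away`: for a regular local ring `R` and `f : R`, `Pic (R_f)` is trivial.
-/

set_option autoImplicit false
universe u
open CategoryTheory TensorProduct

namespace Groth.Agent.Lib.RegUFDH3

section stably

variable (R : Type u) [CommRing R] [IsLocalRing R] [IsNoetherianRing R]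
  (S : Type u) [CommRing S] [Algebra R S] [Module.Flat R S]

theorem isStablyFree_baseChange :
    ∀ (n : ℕ) (N : Type u) [AddCommGroup N] [Module R N] [Module.Finite R N],
      HasProjectiveDimensionLT (ModuleCat.of R N) (n + 1) →
      Module.Projective S (S ⊗[R] N) → Module.IsStablyFree S (S ⊗[R] N) := by
  intro n
  induction n with
  | zero =>
    intro N _ _ _ hpd _
    haveI : HasProjectiveDimensionLT (ModuleCat.of R N) 1 := hpd
    haveI : CategoryTheory.Projective (ModuleCat.of R N) := inferInstance
    haveI : Module.Projective R N := (IsProjective.iff_projective N).mpr inferInstance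
    haveI : Module.Free R N := Module.free_of_flat_of_isLocalRing
    infer_instance
  | succ n ih =>
    intro N _ _ _ hpd hproj
    obtain ⟨g, p, hp⟩ := Module.Finite.exists_fin' R N
    let K := LinearMap.ker p
    let i : K →ₗ[R] (Fin g → R) := K.subtype
    have hi : Function.Injective i := Submodule.injective_subtype _
    have hip : Function.Exact i p := LinearMap.exact_subtype_ker_map p
    -- pd K ≤ n
    have hSE : (ShortComplex.moduleCatMk i p hip.linearMap_comp_eq_zero).ShortExact :=
      ModuleCat.shortComplex_shortExact _ hip hi hp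
    have h2 : HasProjectiveDimensionLT (ModuleCat.of R (Fin g → R)) (n + 1) := by
      haveI : CategoryTheory.Projective (ModuleCat.of R (Fin g → R)) :=
        (IsProjective.iff_projective (Fin g → R)).mp inferInstance
      exact hasProjectiveDimensionLT_of_ge _ 1 (n + 1) (by omega)
    have hK : HasProjectiveDimensionLT (ModuleCat.of R K) (n + 1) :=
      hSE.hasProjectiveDimensionLT_X₁ (n + 1) h2 hpd
    -- base change
    let i' : S ⊗[R] K →ₗ[S] S ⊗[R] (Fin g → R) := i.baseChange S
    let p' : S ⊗[R] (Fin g → R) →ₗ[S] S ⊗[R] N := p.baseChange S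
    have hi' : Function.Injective i' := by
      have := Module.Flat.lTensor_preserves_injective_linearMap (M := S) i hi
      exact this
    have hp' : Function.Surjective p' := by
      have := LinearMap.lTensor_surjective S hp
      exact this
    have hip' : Function.Exact i' p' := by
      have := lTensor_exact S hip hp
      exact this
    obtain ⟨s, hs⟩ := Module.projective_lifting_property p' LinearMap.id hp'
    have hs' : ∀ x, p' (s x) = x := fun x => LinearMap.congr_fun hs x
    let e : (S ⊗[R] K × S ⊗[R] N) ≃ₗ[S] S ⊗[R] (Fin g → R) :=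
      LinearEquiv.ofBijective (i'.coprod s) (by
        constructor
        · rw [← LinearMap.ker_eq_bot, LinearMap.ker_eq_bot']
          rintro ⟨k, m⟩ h
          simp only [LinearMap.coprod_apply] at h
          have h1 := congrArg p' h
          rw [map_add, hs', hip'.apply_apply_eq_zero, zero_add, map_zero] at h1
          subst h1
          rw [map_zero, add_zero] at h
          have := hi' (h.trans (map_zero i').symm)
          rw [this]
          rfl
        · intro x
          have h1 : p' (x - s (p' x)) = 0 := by rw [map_sub, hs', sub_self]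
          obtain ⟨k, hk⟩ := (hip' _).mp h1
          refine ⟨(k, p' x), ?_⟩
          simp only [LinearMap.coprod_apply]
          rw [hk]
          abel)
    haveI : Module.Projective S (S ⊗[R] K × S ⊗[R] N) := Module.Projective.of_equiv e.symm
    haveI : Module.Projective S (S ⊗[R] K) :=
      Module.Projective.of_split (LinearMap.inl S (S ⊗[R] K) (S ⊗[R] N))
        (LinearMap.fst S (S ⊗[R] K) (S ⊗[R] N)) (LinearMap.ext fun _ => rfl)
    haveI : Module.Finite R K := inferInstance
    haveI := ih K hK inferInstance
    obtain ⟨F₁, _, _, _, _, _⟩ := Module.IsStablyFree.exist_free_prod S (S ⊗[R] K)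
    let e2 : (S ⊗[R] N × (S ⊗[R] K × F₁)) ≃ₗ[S] (S ⊗[R] (Fin g → R) × F₁) :=
      (LinearEquiv.prodAssoc S (S ⊗[R] N) (S ⊗[R] K) F₁).symm ≪≫ₗ
        LinearEquiv.prodCongr ((LinearEquiv.prodComm S (S ⊗[R] N) (S ⊗[R] K)) ≪≫ₗ e)
          (LinearEquiv.refl S F₁)
    haveI : Module.Free S (S ⊗[R] N × (S ⊗[R] K × F₁)) := Module.Free.of_equiv e2.symm
    exact Module.IsStablyFree.of_free_prod S (S ⊗[R] N) (S ⊗[R] K × F₁)

end stably

section pic

/-- a finite module over `R_f` is the localization of a finitely generated `R`-submodule. -/
theorem exists_isLocalizedModule (R : Type u) [CommRing R] (f : R) (S : Type u) [CommRing S]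
    [Algebra R S] [IsLocalization.Away f S] (M : Type u) [AddCommGroup M] [Module S M]
    [Module R M] [IsScalarTower R S M] [Module.Finite S M] :
    ∃ N : Submodule R M, N.FG ∧ IsLocalizedModule (Submonoid.powers f) N.subtype := by
  classical
  obtain ⟨s, hs⟩ := (Module.Finite.fg_top : (⊤ : Submodule S M).FG)
  refine ⟨Submodule.span R (s : Set M), Submodule.fg_span (Finset.finite_toSet s), ?_⟩
  refine ⟨?_, ?_, ?_⟩
  · intro x
    exact (isLocalizedModule_id (Submonoid.powers f) M S).map_units x
  · intro y
    have hy : y ∈ Submodule.span S (s : Set M) := by rw [hs]; trivial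
    induction hy using Submodule.span_induction with
    | mem y hy => exact ⟨(⟨y, Submodule.subset_span hy⟩, 1), by simp⟩
    | zero => exact ⟨(0, 1), by simp⟩
    | add y₁ y₂ _ _ h₁ h₂ =>
      obtain ⟨⟨n₁, t₁⟩, h₁⟩ := h₁
      obtain ⟨⟨n₂, t₂⟩, h₂⟩ := h₂
      refine ⟨(t₂ • n₁ + t₁ • n₂, t₁ * t₂), ?_⟩
      simp only [Submodule.subtype_apply] at h₁ h₂ ⊢
      rw [Submodule.coe_add, Submodule.coe_smul_of_tower, Submodule.coe_smul_of_tower, ← h₁, ← h₂,
        smul_add, mul_smul, mul_comm, mul_smul]
      rw [smul_comm t₁ t₂ y₁, smul_comm t₂ t₁ y₂]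
    | smul c y _ h =>
      obtain ⟨⟨n, t⟩, h⟩ := h
      obtain ⟨⟨a, u⟩, hau⟩ := IsLocalization.surj (Submonoid.powers f) c
      refine ⟨(a • n, u * t), ?_⟩
      simp only [Submodule.subtype_apply] at h ⊢
      rw [Submodule.coe_smul_of_tower, ← h, mul_smul, Submonoid.smul_def, Submonoid.smul_def,
        Submonoid.smul_def]
      rw [smul_comm (t : R) c y, ← algebraMap_smul S (u : R) (c • (t : R) • y), ← mul_smul,
        mul_comm, hau, algebraMap_smul]
  · intro x₁ x₂ h
    exact ⟨1, by rw [one_smul, one_smul]; exact Subtype.ext h⟩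

variable (R : Type u) [CommRing R] [IsRegularLocalRing R] (f : R)

/-- **S9247**: for a regular local ring `R`, `Pic (R_f)` is trivial. -/
theorem pic_away : Subsingleton (CommRing.Pic (Localization.Away f)) := by
  rw [CommRing.Pic.subsingleton_iff]
  intro M _ _ hM
  letI : Module R M := Module.compHom M (algebraMap R (Localization.Away f))
  haveI : IsScalarTower R (Localization.Away f) M :=
    IsScalarTower.of_algebraMap_smul fun _ _ => rfl
  obtain ⟨N, hN, hloc⟩ := exists_isLocalizedModule R f (Localization.Away f) M
  haveI : Module.Finite R N := Module.Finite.iff_fg.mpr hN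
  obtain ⟨d, hd⟩ := Groth.Agent.GlDim.exists_dim R
  have hpd := Groth.Agent.GlDim.pd_finite R d hd N
  let eM : Localization.Away f ⊗[R] N ≃ₗ[Localization.Away f] M :=
    (IsLocalizedModule.isBaseChange (Submonoid.powers f) (Localization.Away f) N.subtype).equiv
  haveI : Module.Projective (Localization.Away f) (Localization.Away f ⊗[R] N) :=
    Module.Projective.of_equiv eM.symm
  haveI := isStablyFree_baseChange R (Localization.Away f) d N hpd inferInstance
  haveI : Module.IsStablyFree (Localization.Away f) M := Module.IsStablyFree.equiv eM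
  exact Module.free_of_isStablyFree_of_invertible (Localization.Away f) M

end pic

end Groth.Agent.Lib.RegUFDH3
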