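import Mathlib
import Groth.Agent.Lib.RegUFD_helper3
import Groth.Agent.Lib.Serre_helper5
import Groth.Agent.Lib.CAlgMisc4_helper1
import Groth.Agent.Lib.Regular5_helper5

/-!
# Regular local rings are factorial (Auslander–Buchsbaum) (helper3)
-/

set_option autoImplicit false
universe u
open scoped nonZeroDivisors

namespace Groth.Agent.Lib.RegUFD2H3

section invertible

variable {S : Type u} [CommRing S] [IsDomain S]

/-- a nonzero ideal which is "locally principal" at every maximal ideal is an invertible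
fractional ideal. -/
theorem isUnit_coeIdeal_of_local (P : Ideal S) (hP : P ≠ ⊥)
    (hloc : ∀ m : Ideal S, m.IsMaximal → ∃ π ∈ P, ∃ s, s ∉ m ∧ ∀ p ∈ P, π ∣ s * p) :
    IsUnit ((P : FractionalIdeal S⁰ (FractionRing S))) := by
  classical
  rw [← FractionalIdeal.mul_inv_cancel_iff_isUnit]
  set I : FractionalIdeal S⁰ (FractionRing S) := (P : FractionalIdeal S⁰ (FractionRing S)) with hI
  have hI0 : I ≠ 0 := FractionalIdeal.coeIdeal_ne_zero.mpr hP
  apply le_antisymm
  · rw [FractionalIdeal.inv_eq]
    exact FractionalIdeal.mul_one_div_le_one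
  rw [FractionalIdeal.one_le]
  let J : Ideal S :=
    Submodule.comap (Algebra.linearMap S (FractionRing S)) ((I * I⁻¹ : FractionalIdeal S⁰ (FractionRing S)) : Submodule S (FractionRing S))
  have hJmem : ∀ r : S, r ∈ J ↔ algebraMap S (FractionRing S) r ∈ I * I⁻¹ := fun r => Iff.rfl
  suffices hJ : J = ⊤ by
    have h1 : (1 : S) ∈ J := by rw [hJ]; trivial
    rw [hJmem, map_one] at h1
    exact h1
  by_contra hJ
  obtain ⟨m, hm, hJm⟩ := Ideal.exists_le_maximal J hJ
  obtain ⟨π, hπP, s, hsm, hdiv⟩ := hloc m hm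
  obtain ⟨p₀, hp₀P, hp₀⟩ : ∃ p ∈ P, p ≠ 0 := Submodule.exists_mem_ne_zero_of_ne_bot hP
  have hs0 : s ≠ 0 := fun h => hsm (h ▸ m.zero_mem)
  have hπ0 : π ≠ 0 := by
    rintro rfl
    obtain ⟨c, hc⟩ := hdiv p₀ hp₀P
    rw [zero_mul] at hc
    exact mul_ne_zero hs0 hp₀ hc
  have hπK : algebraMap S (FractionRing S) π ≠ 0 :=
    (map_ne_zero_iff _ (IsFractionRing.injective S (FractionRing S))).mpr hπ0
  have hx : algebraMap S (FractionRing S) s / algebraMap S (FractionRing S) π ∈ I⁻¹ := by
    rw [FractionalIdeal.mem_inv_iff hI0]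
    intro y hy
    rw [hI, FractionalIdeal.mem_coeIdeal] at hy
    obtain ⟨p, hpP, rfl⟩ := hy
    obtain ⟨c, hc⟩ := hdiv p hpP
    rw [FractionalIdeal.mem_one_iff]
    refine ⟨c, ?_⟩
    rw [div_mul_eq_mul_div, ← map_mul, hc, map_mul, mul_div_cancel_left₀ _ hπK]
  have hπI : algebraMap S (FractionRing S) π ∈ I := by
    rw [hI, FractionalIdeal.mem_coeIdeal]
    exact ⟨π, hπP, rfl⟩
  have hs : s ∈ J := by
    rw [hJmem]
    have := FractionalIdeal.mul_mem_mul hπI hx
    rwa [mul_div_cancel₀ _ hπK] at this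
  exact hsm (hJm hs)

end invertible

section localprincipal

variable {S : Type u} [CommRing S] [IsDomain S] [IsNoetherianRing S]

/-- a nonzero prime of height `≤ 1` is locally principal at a prime with factorial local ring. -/
theorem exists_local_generator (P : Ideal S) [hPp : P.IsPrime] (hP : P ≠ ⊥) (hht : P.height ≤ 1)
    (m : Ideal S) [hm : m.IsPrime]
    (hufd : UniqueFactorizationMonoid (Localization.AtPrime m)) :
    ∃ π ∈ P, ∃ s, s ∉ m ∧ ∀ p ∈ P, π ∣ s * p := by
  classical
  by_cases hPm : P ≤ m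
  swap
  · obtain ⟨π, hπP, hπm⟩ := SetLike.not_le_iff_exists.mp hPm
    exact ⟨π, hπP, π, hπm, fun p _ => Dvd.intro p rfl⟩
  set A := Localization.AtPrime m with hA
  have hdisj : Disjoint (m.primeCompl : Set S) (P : Set S) := by
    rw [Set.disjoint_left]
    intro a ha haP
    exact ha (hPm haP)
  have hinj : Function.Injective (algebraMap S A) :=
    IsLocalization.injective A m.primeCompl_le_nonZeroDivisors
  have hP'prime : (P.map (algebraMap S A)).IsPrime :=
    IsLocalization.isPrime_of_isPrime_disjoint m.primeCompl A P hPp hdisj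
  have hP'ne : P.map (algebraMap S A) ≠ ⊥ := by
    rw [Ne, Ideal.map_eq_bot_iff_of_injective hinj]
    exact hP
  have hcomapP : (P.map (algebraMap S A)).comap (algebraMap S A) = P :=
    IsLocalization.under_map_of_isPrime_disjoint m.primeCompl A hPp hdisj
  obtain ⟨ϖ, hϖP, hϖ⟩ := hP'prime.exists_mem_prime_of_ne_bot hP'ne
  obtain ⟨⟨π₀, t⟩, hπ₀⟩ := IsLocalization.surj m.primeCompl ϖ
  simp only at hπ₀
  have htunit : IsUnit (algebraMap S A (t : S)) := IsLocalization.map_units A t
  have hπ₁prime : Prime (algebraMap S A π₀) := by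
    rw [← hπ₀]
    exact (associated_mul_unit_right ϖ _ htunit).prime hϖ
  have hπ₁P : algebraMap S A π₀ ∈ P.map (algebraMap S A) := by
    rw [← hπ₀]
    exact Ideal.mul_mem_right _ _ hϖP
  have hπ₀P : π₀ ∈ P := by
    rw [← hcomapP]
    exact hπ₁P
  have hπ₀ne : π₀ ≠ 0 := by
    rintro rfl
    rw [map_zero] at hπ₁prime
    exact hπ₁prime.ne_zero rfl
  -- the prime `Q₀`
  let Q₀ : Ideal S := (Ideal.span {algebraMap S A π₀}).comap (algebraMap S A)
  haveI hspanprime : (Ideal.span {algebraMap S A π₀}).IsPrime :=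
    (Ideal.span_singleton_prime hπ₁prime.ne_zero).mpr hπ₁prime
  haveI hQ₀prime : Q₀.IsPrime := Ideal.IsPrime.comap _
  have hQ₀P : Q₀ ≤ P := by
    rw [← hcomapP]
    exact Ideal.comap_mono ((Ideal.span_singleton_le_iff_mem _).mpr hπ₁P)
  have hπ₀Q : π₀ ∈ Q₀ := Ideal.subset_span rfl
  have hQ₀ne : Q₀ ≠ ⊥ := fun h => hπ₀ne (by rw [h] at hπ₀Q; exact hπ₀Q)
  have hQ₀eq : Q₀ = P := by
    by_contra hne
    have hlt : Q₀ < P := lt_of_le_of_ne hQ₀P hne
    have hbot : (⊥ : Ideal S) < Q₀ := bot_lt_iff_ne_bot.mpr hQ₀ne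
    haveI : (⊥ : Ideal S).IsPrime := Ideal.isPrime_bot
    have h1 : (⊥ : Ideal S).height < Q₀.height := Ideal.height_strict_mono_of_isPrime_of_isPrime hbot
    have h2 : Q₀.height < P.height := Ideal.height_strict_mono_of_isPrime_of_isPrime hlt
    have h3 : Q₀.height < 1 := lt_of_lt_of_le h2 hht
    have h4 : Q₀.height = 0 := ENat.lt_one_iff_eq_zero.mp h3
    rw [h4] at h1
    exact not_lt_zero' h1
  have hP'eq : P.map (algebraMap S A) = Ideal.span {algebraMap S A π₀} := by
    rw [← hQ₀eq]
    exact IsLocalization.map_under m.primeCompl A _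
  -- each `p ∈ P` is divisible by `π₀` up to an element outside `m`
  have hpt : ∀ p ∈ P, ∃ t : S, t ∉ m ∧ π₀ ∣ t * p := by
    intro p hp
    have h1 : algebraMap S A p ∈ Ideal.span {algebraMap S A π₀} := by
      rw [← hP'eq]
      exact Ideal.mem_map_of_mem _ hp
    obtain ⟨z, hz⟩ := Ideal.mem_span_singleton.mp h1
    obtain ⟨⟨c, t⟩, hc⟩ := IsLocalization.surj m.primeCompl z
    simp only at hc
    refine ⟨t, t.2, c, hinj ?_⟩
    rw [map_mul, map_mul, hz, ← hc]
    ring
  obtain ⟨G, hG⟩ := (IsNoetherian.noetherian P : P.FG)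
  have hGP : ∀ g ∈ G, g ∈ P := fun g hg => hG ▸ Ideal.subset_span hg
  choose! t ht using hpt
  refine ⟨π₀, hπ₀P, ∏ g ∈ G, t g, ?_, ?_⟩
  · intro hmem
    obtain ⟨g, hg, hgm⟩ := (Ideal.IsPrime.prod_mem_iff).mp hmem
    exact (ht g (hGP g hg)).1 hgm
  · intro p hp
    rw [← hG] at hp
    induction hp using Submodule.span_induction with
    | mem g hg =>
      have h1 : t g ∣ ∏ g ∈ G, t g := Finset.dvd_prod_of_mem t hg
      obtain ⟨w, hw⟩ := h1
      rw [hw, mul_right_comm]
      exact Dvd.dvd.mul_right (ht g (hGP g hg)).2 w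
    | zero => simp
    | add a b _ _ ha hb =>
      rw [mul_add]
      exact dvd_add ha hb
    | smul c a _ ha =>
      rw [smul_eq_mul, mul_left_comm]
      exact Dvd.dvd.mul_left ha c

end localprincipal

section criterion

/-- A Noetherian domain with trivial Picard group all of whose local rings at maximal ideals are
factorial is factorial. -/
theorem ufd_of_pic_of_local (S : Type u) [CommRing S] [IsDomain S] [IsNoetherianRing S]
    [Subsingleton (CommRing.Pic S)]
    (hloc : ∀ (m : Ideal S) [m.IsMaximal], UniqueFactorizationMonoid (Localization.AtPrime m)) :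
    UniqueFactorizationMonoid S := by
  classical
  rw [UniqueFactorizationMonoid.iff_exists_prime_mem_of_isPrime]
  intro I hI hIp
  haveI := hIp
  obtain ⟨a, haI, ha0⟩ : ∃ a ∈ I, a ≠ 0 := Submodule.exists_mem_ne_zero_of_ne_bot hI
  obtain ⟨P, hPmin, hPI⟩ := Ideal.exists_minimalPrimes_le
    (I := Ideal.span {a}) (J := I) ((Ideal.span_singleton_le_iff_mem _).mpr haI)
  haveI hPp : P.IsPrime := hPmin.1.1
  have haP : a ∈ P := hPmin.1.2 (Ideal.subset_span rfl)
  have hP0 : P ≠ ⊥ := fun h => ha0 (by rw [h] at haP; exact haP)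
  have hht : P.height ≤ 1 :=
    Ideal.height_le_one_of_isPrincipal_of_mem_minimalPrimes (Ideal.span {a}) P hPmin
  have hunit : IsUnit ((P : FractionalIdeal S⁰ (FractionRing S))) :=
    isUnit_coeIdeal_of_local P hP0 fun m hm =>
      haveI := hm
      exists_local_generator P hP0 hht m (hloc m)
  haveI : Subsingleton (ClassGroup S) := (ClassGroup.equivPic S).toEquiv.subsingleton
  have hprin : P.IsPrincipal :=
    ClassGroup.isPrincipal_of_isUnit_coeIdeal (K := FractionRing S) P hunit
  obtain ⟨g, hg⟩ := hprin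
  have hg' : P = Ideal.span {g} := hg
  have hg0 : g ≠ 0 := by
    rintro rfl
    apply hP0
    rw [hg']
    simp
  refine ⟨g, hPI (hg' ▸ Ideal.subset_span rfl), ?_⟩
  rw [← Ideal.span_singleton_prime hg0, ← hg']
  exact hPp

end criterion

section main

open IsLocalRing

theorem nagata_of_eq {A : Type u} [CommRing A] [IsDomain A]
    (hfac : ∀ a : A, a ≠ 0 → ¬ IsUnit a →
      ∃ f : Multiset A, (∀ b ∈ f, Irreducible b) ∧ Associated f.prod a)
    (x : A) (hx : Prime x) :
    ∀ (M : Submonoid A), M = Submonoid.closure {x} → ∀ [IsDomain (Localization M)],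
      UniqueFactorizationMonoid (Localization M) → UniqueFactorizationMonoid A := by
  intro M hM
  subst hM
  intro _ hS
  exact Groth.Agent.Lib.CAlgMisc4H1.nagata_ufd hfac {x}
    (fun p hp => by rw [Set.mem_singleton_iff] at hp; subst hp; exact hx) hS

/-- **Auslander–Buchsbaum**: a regular local ring is factorial. -/
theorem ufd_aux : ∀ (d : ℕ) (R : Type u) [CommRing R] [IsRegularLocalRing R] [IsDomain R],
    ringKrullDim R = d → UniqueFactorizationMonoid R := by
  intro d
  induction d using Nat.strong_induction_on with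
  | _ d ih =>
  intro R _ _ _ hd
  by_cases hm : maximalIdeal R = ⊥
  · rw [UniqueFactorizationMonoid.iff_exists_prime_mem_of_isPrime]
    intro I hI hIp
    exfalso
    apply hI
    rw [eq_bot_iff, ← hm]
    exact IsLocalRing.le_maximalIdeal hIp.ne_top
  obtain ⟨x, hxm, hx2, -⟩ := Groth.Agent.RegularLib.exists_mem_not_mem_sq_of_finite R hm ∅
    Set.finite_empty (by simp) (by simp)
  obtain ⟨hreg, -⟩ := Groth.Agent.RegularLib.quotient_of_not_mem_sq R x hxm hx2
  haveI := hreg
  haveI : IsDomain (R ⧸ Ideal.span {x}) := Groth.Agent.RegularLib.isDomain _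
  have hxprime_ideal : (Ideal.span {x}).IsPrime :=
    (Ideal.Quotient.isDomain_iff_prime _).mp inferInstance
  have hx0 : x ≠ 0 := by
    rintro rfl
    exact hx2 (Ideal.zero_mem _)
  have hxprime : Prime x := (Ideal.span_singleton_prime hx0).mp hxprime_ideal
  have hle : Submonoid.powers x ≤ nonZeroDivisors R :=
    powers_le_nonZeroDivisors_of_noZeroDivisors hx0
  haveI : IsDomain (Localization.Away x) := IsLocalization.isDomain_localization hle
  haveI : Subsingleton (CommRing.Pic (Localization.Away x)) :=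
    Groth.Agent.Lib.RegUFDH3.pic_away R x
  haveI : IsNoetherianRing (Localization.Away x) :=
    IsLocalization.isNoetherianRing (Submonoid.powers x) _ inferInstance
  have hS : UniqueFactorizationMonoid (Localization.Away x) := by
    apply ufd_of_pic_of_local
    intro m hm
    set q := m.comap (algebraMap R (Localization.Away x)) with hq
    haveI : q.IsPrime := Ideal.IsPrime.comap _
    haveI hregq : IsRegularLocalRing (Localization.AtPrime q) :=
      Groth.Agent.Serre.localization_regular R q
    haveI : IsDomain (Localization.AtPrime q) := Groth.Agent.RegularLib.isDomain _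
    obtain ⟨e, he⟩ := Groth.Agent.GlDim.exists_dim (Localization.AtPrime q)
    have hxq : x ∉ q := by
      intro hxq
      have h1 : algebraMap R (Localization.Away x) x ∈ m := hxq
      exact hm.ne_top (Ideal.eq_top_of_isUnit_mem _ h1 (IsLocalization.Away.algebraMap_isUnit x))
    have hqlt : q < maximalIdeal R :=
      lt_of_le_of_ne (IsLocalRing.le_maximalIdeal (Ideal.IsPrime.ne_top inferInstance))
        (fun h => hxq (h ▸ hxm))
    have hlt : e < d := by
      have h1 : ringKrullDim (Localization.AtPrime q) = q.height :=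
        IsLocalization.AtPrime.ringKrullDim_eq_height q _
      have h2 : q.height < (maximalIdeal R).height :=
        Ideal.height_strict_mono_of_isPrime_of_isPrime hqlt
      have h3 : ((maximalIdeal R).height : WithBot ℕ∞) = ringKrullDim R :=
        IsLocalRing.maximalIdeal_height_eq_ringKrullDim
      rw [he] at h1
      rw [hd] at h3
      have h4 : ((q.height : ℕ∞) : WithBot ℕ∞) < ((maximalIdeal R).height : WithBot ℕ∞) :=
        WithBot.coe_lt_coe.mpr h2
      rw [← h1, h3] at h4
      exact_mod_cast h4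
    have hufd := ih e hlt (Localization.AtPrime q) he
    exact (IsLocalization.localizationLocalizationAtPrimeIsoLocalization
      (Submonoid.powers x) m).toRingEquiv.toMulEquiv.uniqueFactorizationMonoid hufd
  have hfac : ∀ a : R, a ≠ 0 → ¬ IsUnit a →
      ∃ f : Multiset R, (∀ b ∈ f, Irreducible b) ∧ Associated f.prod a :=
    fun a ha _ => WfDvdMonoid.exists_factors a ha
  exact nagata_of_eq hfac x hxprime (Submonoid.powers x) (Submonoid.powers_eq_closure x) hS

theorem ufd_of_regular (R : Type u) [CommRing R] [IsRegularLocalRing R] :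
    IsDomain R ∧ UniqueFactorizationMonoid R := by
  haveI : IsDomain R := Groth.Agent.RegularLib.isDomain R
  obtain ⟨d, hd⟩ := Groth.Agent.GlDim.exists_dim R
  exact ⟨inferInstance, ufd_aux d R hd⟩

end main

end Groth.Agent.Lib.RegUFD2H3
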