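import Mathlib

set_option backward.isDefEq.respectTransparency false
set_option backward.isDefEq.respectTransparency.types false
set_option linter.style.haveILetI false
set_option linter.unusedSectionVars false
set_option autoImplicit false

/-!
# The additive Yoneda embedding into abelian sheaves for the regular topology (helper7)
-/

open CategoryTheory Limits Opposite

namespace Groth.Agent.Lib.RegPtH7

universe u

variable {A : Type u} [SmallCategory A] [Abelian A] [Preregular A]

lemma isSheaf_preadditiveYoneda (Y : A) :
    Presheaf.IsSheaf (regularTopology A) (preadditiveYoneda.obj Y) := by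
  rw [Presheaf.isSheaf_iff_isSheaf_forget (regularTopology A) _ (forget AddCommGrpCat.{u})]
  exact (isSheaf_iff_isSheaf_of_type _ _).2 (regularTopology.isSheaf_yoneda_obj Y)

variable (A) in
/-- The additive Yoneda functor, valued in sheaves. -/
noncomputable def yon : A ⥤ Sheaf (regularTopology A) AddCommGrpCat.{u} :=
  ObjectProperty.lift _ preadditiveYoneda isSheaf_preadditiveYoneda

variable (A) in
/-- The functor of the statement. -/
noncomputable abbrev FF : A ⥤ Sheaf (regularTopology A) AddCommGrpCat.{u} :=
  preadditiveYoneda ⋙ presheafToSheaf (regularTopology A) AddCommGrpCat.{u}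

variable (A) in
/-- `FF ≅ yon`. -/
noncomputable def ffIso : FF A ≅ yon A :=
  (Functor.isoWhiskerLeft (yon A)
    (sheafificationNatIso (regularTopology A) AddCommGrpCat.{u})).symm ≪≫ (yon A).rightUnitor

instance : (yon A).Full := by unfold yon; infer_instance
instance : (yon A).Faithful := by unfold yon; infer_instance

lemma full_FF : (FF A).Full := Functor.Full.of_iso (ffIso A).symm
lemma faithful_FF : (FF A).Faithful := Functor.Faithful.of_iso (ffIso A).symm

instance : PreservesFiniteLimits (preadditiveYoneda : A ⥤ Aᵒᵖ ⥤ AddCommGrpCat.{u}) := by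
  constructor
  intro K _ _
  apply preservesLimitsOfShape_of_evaluation
  intro Z
  have e : (preadditiveYoneda : A ⥤ Aᵒᵖ ⥤ AddCommGrpCat.{u}) ⋙ (evaluation _ _).obj Z ≅
      preadditiveCoyoneda.obj Z := NatIso.ofComponents (fun _ => Iso.refl _)
  exact preservesLimitsOfShape_of_natIso e.symm

lemma preservesFiniteLimits_FF : PreservesFiniteLimits (FF A) := by
  unfold FF
  infer_instance

instance : (preadditiveYoneda : A ⥤ Aᵒᵖ ⥤ AddCommGrpCat.{u}).Additive where
  map_add {X Y f g} := by
    ext Z (h : Z.unop ⟶ X)
    exact Preadditive.comp_add _ _ _ h f g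

instance : (FF A).Additive := by unfold FF; infer_instance

lemma epi_FF_map {X Y : A} (f : X ⟶ Y) [Epi f] : Epi ((FF A).map f) := by
  have hls : Presheaf.IsLocallySurjective (regularTopology A) (preadditiveYoneda.map f) := by
    constructor
    intro U s
    -- s : U ⟶ Y ; pull back f along s
    let s' : U ⟶ Y := s
    have hepi : Epi (pullback.snd f s') := inferInstance
    have hreg : IsRegularEpi (pullback.snd f s') := IsRegularEpiCategory.regularEpiOfEpi _
    rw [regularTopology.mem_sieves_iff_hasEffectiveEpi]
    refine ⟨pullback f s', pullback.snd f s', inferInstance, ?_⟩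
    refine ⟨(pullback.fst f s' : pullback f s' ⟶ X), ?_⟩
    exact pullback.condition
  have : Sheaf.IsLocallySurjective ((FF A).map f) :=
    (Presheaf.isLocallySurjective_presheafToSheaf_map_iff _ _).2 hls
  infer_instance

lemma preservesFiniteColimits_FF : PreservesFiniteColimits (FF A) := by
  have hlim := preservesFiniteLimits_FF (A := A)
  rw [Functor.preservesFiniteColimits_iff_forall_exact_map_and_epi]
  intro S hS
  have h1 := (Functor.preservesFiniteLimits_iff_forall_exact_map_and_mono (FF A)).1 hlim S hS
  have : Epi S.g := hS.epi_g
  exact ⟨h1.1, epi_FF_map S.g⟩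

end Groth.Agent.Lib.RegPtH7
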