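import Mathlib
import Groth.Prelude
import Groth.Agent.Lib.RelAmp1_helper5

/-!
# `O_{P(E)}(1)` is relatively ample, and so is its pullback along a topological embedding, II
(helper5).  APPEND-ONLY once landed.
-/

set_option autoImplicit false
universe u
open CategoryTheory CategoryTheory.Limits AlgebraicGeometry TopologicalSpace Opposite
open scoped HomogeneousIdeal

noncomputable section

namespace Groth.Agent.RelAmp

open QcqsLoc QCohExtn GenLocH8 Groth.Agent.GrTw Groth.Agent.RelProjTN Groth.Agent.SymSum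
  Groth.Agent.SymGr

variable {Y P : Scheme.{u}} (𝒮 : RelProj.QCGrAlg Y) (p : P ⟶ Y)
  (chart : ∀ (U : Y.Opens) (hU : IsAffineOpen U),
    (((p ⁻¹ᵁ U : P.Opens) : Scheme.{u}) ≅ Proj (𝒮.deg U hU)))
variable (E : Y.Modules) [E.IsQuasicoherent] (j : E ⟶ 𝒮.toModule) (hj : RelProj.IsGrSymAlg E 𝒮 j)

include hj in
/-- `O_P(1)` is ample on every finite union of `D_+(j e)`'s over an affine open of the base. -/
theorem isAmpleOn_iSup (n : ℤ) (hn : n = (1 : ℤ) * ((1 : ℕ) : ℤ)) (O1 : P.Modules)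
    (lam : ∀ (U : Y.Opens) (hU : IsAffineOpen U),
      O1 ⟶ (Scheme.Modules.pushforward (RelProj.emb p chart U hU)).obj
        (GrTwist.twist (𝒮.deg U hU) n))
    (hO1 : RelProj.IsRelTwist 𝒮 p chart n O1 lam) (V : Y.Opens) (hV : IsAffineOpen V)
    (T : Finset Γ(E, V)) :
    TensH8.IsAmpleOn O1 (⨆ e : ↥T, (RelProj.emb p chart V hV) ''ᵁ
      (Proj.basicOpen (𝒮.deg V hV) (jAdd E 𝒮.toQCAlg j V e.1))) := by
  have hinv : PicF.IsInvertible O1 :=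
    Groth.Agent.VAmpEpi.isInvertible_O1 𝒮 p chart E j hj n hn O1 lam hO1
  obtain ⟨V', hV'def⟩ : ∃ V' : P.Opens, V' = ⨆ e : ↥T, (RelProj.emb p chart V hV) ''ᵁ
      (Proj.basicOpen (𝒮.deg V hV) (jAdd E 𝒮.toQCAlg j V e.1)) := ⟨_, rfl⟩
  rw [← hV'def]
  have hle : ∀ e : ↥T, (RelProj.emb p chart V hV) ''ᵁ
      (Proj.basicOpen (𝒮.deg V hV) (jAdd E 𝒮.toQCAlg j V e.1)) ≤ V' := by
    intro e
    rw [hV'def]
    exact le_iSup (fun e : ↥T => (RelProj.emb p chart V hV) ''ᵁ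
      (Proj.basicOpen (𝒮.deg V hV) (jAdd E 𝒮.toQCAlg j V e.1))) e
  have hV' : V' ≤ p ⁻¹ᵁ V := by
    rw [hV'def]
    exact iSup_le (fun e => image_basicOpen_le 𝒮 p chart V hV _)
  have haff : ∀ e : Γ(E, V), IsAffineOpen ((RelProj.emb p chart V hV) ''ᵁ
      (Proj.basicOpen (𝒮.deg V hV) (jAdd E 𝒮.toQCAlg j V e))) := fun e =>
    (Proj.isAffineOpen_basicOpen _ _
      (show jAdd E 𝒮.toQCAlg j V e ∈ 𝒮.deg V hV 1 from hj.2 V hV e)
      one_pos).image_of_isOpenImmersion _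
  refine ⟨?_, fun x hx => ?_⟩
  · have h1 : ((V' : P.Opens) : Set P) = ⋃ e : ↥T, (((RelProj.emb p chart V hV) ''ᵁ
        (Proj.basicOpen (𝒮.deg V hV) (jAdd E 𝒮.toQCAlg j V e.1)) : P.Opens) : Set P) := by
      rw [hV'def, Opens.coe_iSup]
    rw [h1]
    exact isCompact_iUnion (fun e => (haff e.1).isCompact)
  · rw [hV'def] at hx
    obtain ⟨e, hxe⟩ := Opens.mem_iSup.mp hx
    rw [← hV'def] at hx
    have hf : jAdd E 𝒮.toQCAlg j V e.1 ∈ 𝒮.deg V hV 1 := hj.2 V hV e.1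
    obtain ⟨ε, hval⟩ := exists_sec 𝒮 p chart n hn O1 lam hO1 V hV hf
    have hloc := hasLocus_sec 𝒮 p chart E j hj n hn O1 lam hO1 V hV hf ε hval V' hV'
    obtain ⟨σ', hσ'⟩ := TensH8.HasLocus.change_frame hinv (TensH8.Frame.self O1)
      (TensH8.Frame.pow O1 (0 + 1)) _ hloc
    have hDV' : (RelProj.emb p chart V hV) ''ᵁ
        (Proj.basicOpen (𝒮.deg V hV) (jAdd E 𝒮.toQCAlg j V e.1)) ⊓ V' =
        (RelProj.emb p chart V hV) ''ᵁ
        (Proj.basicOpen (𝒮.deg V hV) (jAdd E 𝒮.toQCAlg j V e.1)) := inf_eq_left.mpr (hle e)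
    refine ⟨0, σ', (RelProj.emb p chart V hV) ''ᵁ
        (Proj.basicOpen (𝒮.deg V hV) (jAdd E 𝒮.toQCAlg j V e.1)) ⊓ V', ?_, ⟨hxe, hx⟩,
      inf_le_right, hσ'⟩
    rw [hDV']
    exact haff e.1

include hj in
/-- **The pullback of `O_{P(E)}(1)` along a topological embedding over `Y` is relatively ample.** -/
theorem isRelAmple_pullback (n : ℤ) (hn : n = (1 : ℤ) * ((1 : ℕ) : ℤ)) (O1 : P.Modules)
    (lam : ∀ (U : Y.Opens) (hU : IsAffineOpen U),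
      O1 ⟶ (Scheme.Modules.pushforward (RelProj.emb p chart U hU)).obj
        (GrTwist.twist (𝒮.deg U hU) n))
    (hO1 : RelProj.IsRelTwist 𝒮 p chart n O1 lam) {X : Scheme.{u}} (f : X ⟶ Y) [QuasiCompact f]
    (g : X ⟶ P) (hg : g ≫ p = f) (hemb : Topology.IsEmbedding g.base) :
    RelAmple.IsRelAmple f ((Scheme.Modules.pullback g).obj O1) := by
  subst hg
  have hinv : PicF.IsInvertible O1 :=
    Groth.Agent.VAmpEpi.isInvertible_O1 𝒮 p chart E j hj n hn O1 lam hO1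
  have hinv' := TensH8.isInvertible_pullback g hinv
  rw [TensH8.isRelAmple_iff _ hinv']
  refine ⟨inferInstance, fun V => ?_⟩
  have hc : IsCompact (((g ≫ p) ⁻¹ᵁ V.1 : X.Opens) : Set X) :=
    QuasiCompact.isCompact_preimage (f := g ≫ p) _ V.1.isOpen V.2.isCompact
  obtain ⟨T, hT⟩ := hc.elim_finite_subcover
    (fun e : Γ(E, V.1) => ((g ⁻¹ᵁ ((RelProj.emb p chart V.1 V.2) ''ᵁ
      (Proj.basicOpen (𝒮.deg V.1 V.2) (jAdd E 𝒮.toQCAlg j V.1 e))) : X.Opens) : Set X))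
    (fun e => (g ⁻¹ᵁ _).isOpen)
    (fun x hx => by
      have hx' : g.base x ∈ p ⁻¹ᵁ V.1 := hx
      obtain ⟨e, he⟩ := exists_not_mem 𝒮 E j hj V.1 V.2 (zpt p chart V.1 V.2 (g.base x) hx')
      exact Set.mem_iUnion.mpr ⟨e, ⟨zpt p chart V.1 V.2 (g.base x) hx',
        (Proj.mem_basicOpen _ _ _).mpr he, emb_zpt V.1 V.2 (g.base x) hx'⟩⟩)
  have hA := isAmpleOn_iSup 𝒮 p chart E j hj n hn O1 lam hO1 V.1 V.2 T
  have heq : g ⁻¹ᵁ (⨆ e : ↥T, (RelProj.emb p chart V.1 V.2) ''ᵁ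
      (Proj.basicOpen (𝒮.deg V.1 V.2) (jAdd E 𝒮.toQCAlg j V.1 e.1))) = (g ≫ p) ⁻¹ᵁ V.1 := by
    apply le_antisymm
    · intro x hx
      have hx1 : g.base x ∈ (⨆ e : ↥T, (RelProj.emb p chart V.1 V.2) ''ᵁ
        (Proj.basicOpen (𝒮.deg V.1 V.2) (jAdd E 𝒮.toQCAlg j V.1 e.1))) := hx
      obtain ⟨e, hxe⟩ := Opens.mem_iSup.mp hx1
      exact image_basicOpen_le 𝒮 p chart V.1 V.2 _ hxe
    · intro x hx
      obtain ⟨e, heT, hxe⟩ := Set.mem_iUnion₂.mp (hT hx)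
      show g.base x ∈ (⨆ e : ↥T, (RelProj.emb p chart V.1 V.2) ''ᵁ
        (Proj.basicOpen (𝒮.deg V.1 V.2) (jAdd E 𝒮.toQCAlg j V.1 e.1)))
      exact Opens.mem_iSup.mpr ⟨⟨e, heT⟩, hxe⟩
  have h1 := TensH8.isAmpleOn_pullback_of_isEmbedding g hemb hinv hA (by rw [heq]; exact hc)
  rwa [heq] at h1

end Groth.Agent.RelAmp
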