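import Mathlib
import Groth.Prelude.Def_BlowUp2
import Groth.Prelude.Def_CurvBase
import Groth.Agent.Lib.FibChartCart_helper2
import Groth.Agent.Lib.FibNzd3_helper2
import Groth.Agent.Lib.CDivConn_helper2
import Groth.Agent.Lib.AffStalk3_helper3

/-!
# Relative effective Cartier divisors via fibres (S8848) (helper2)

`φ : X ⟶ S` flat, locally of finite presentation, `𝓘` a locally principal ideal sheaf whose
restriction to every scheme-theoretic fibre is effective Cartier.  Then `𝓘` is effective Cartier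
and `V(𝓘)` is flat over `S`.
APPEND-ONLY once landed.
-/

set_option autoImplicit false
open AlgebraicGeometry CategoryTheory CategoryTheory.Limits TopologicalSpace
universe u
namespace Groth.Agent.Lib.RelCartFib

open Groth.Agent.Lib.FibChart

theorem nzd_of_span_eq {A : Type*} [CommRing A] (a g : A) (hg : g ∈ nonZeroDivisors A)
    (h : Ideal.span {a} = Ideal.span {g}) : a ∈ nonZeroDivisors A := by
  have h1 : g ∈ Ideal.span {a} := by rw [h]; exact Ideal.mem_span_singleton_self g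
  obtain ⟨v, hv⟩ := Ideal.mem_span_singleton'.mp h1
  rw [mem_nonZeroDivisors_iff_right]
  intro x hx
  apply (mem_nonZeroDivisors_iff_right.mp hg) x
  rw [← hv]
  calc x * (v * a) = v * (x * a) := by ring
    _ = 0 := by rw [hx, mul_zero]

variable {X S : Scheme.{u}} (φ : X ⟶ S)

/-- the fibre hypothesis on a chart, elementwise -/
theorem fibre_nzd (𝓘 : X.IdealSheafData) (s : S)
    (hfib : BlowUp.IsEffCartierIdeal (𝓘.comap (φ.fiberι s)))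
    {U : X.Opens} (hU : IsAffineOpen U) (hW : IsAffineOpen (W φ s U))
    (f : Γ(X, U)) (hf : 𝓘.ideal ⟨U, hU⟩ = Ideal.span {f})
    (y : φ.fiber s) (hyW : y ∈ W φ s U) (y' : Γ(φ.fiber s, W φ s U))
    (hy' : ((φ.fiberι s).appLE U (W φ s U) inf_le_left).hom f * y' = 0) :
    ∃ t, t ∉ (hW.primeIdealOf ⟨y, hyW⟩).asIdeal ∧ t * y' = 0 := by
  obtain ⟨U₀, hyU₀, hprin⟩ := Groth.Agent.Lib.CartierFlat.exists_affine_principal
    (𝓘.comap (φ.fiberι s)) hfib y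
  obtain ⟨c, hcle, hyc⟩ := hW.exists_basicOpen_le (V := W φ s U ⊓ U₀.1) ⟨y, ⟨hyW, hyU₀⟩⟩ hyW
  have hD : IsAffineOpen ((φ.fiber s).basicOpen c) := hW.basicOpen c
  obtain ⟨g, hg, hJg⟩ := hprin ⟨_, hD⟩ (fun z hz => (hcle hz).2)
  have hle : (⟨_, hD⟩ : (φ.fiber s).affineOpens) ≤ ⟨W φ s U, hW⟩ := (φ.fiber s).basicOpen_le c
  have h1 := (𝓘.comap (φ.fiberι s)).map_ideal hle
  rw [comap_ideal_W φ s 𝓘 hU hW, hf, Ideal.map_span, Set.image_singleton, Ideal.map_span,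
    Set.image_singleton, hJg] at h1
  have hnz := nzd_of_span_eq _ g hg h1
  have h2 : ((φ.fiber s).presheaf.map (homOfLE hle).op).hom
      (((φ.fiberι s).appLE U (W φ s U) inf_le_left).hom f) *
      ((φ.fiber s).presheaf.map (homOfLE hle).op).hom y' = 0 := by
    rw [← map_mul, hy', map_zero]
  have h3 : ((φ.fiber s).presheaf.map (homOfLE hle).op).hom y' = 0 :=
    (mul_right_mem_nonZeroDivisors_eq_zero_iff hnz).mp (by rw [mul_comm]; exact h2)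
  haveI := hW.isLocalization_basicOpen c
  have h4 : algebraMap Γ(φ.fiber s, W φ s U) Γ(φ.fiber s, (φ.fiber s).basicOpen c) y' = 0 := h3
  obtain ⟨m, hm⟩ := (IsLocalization.map_eq_zero_iff (Submonoid.powers c)
    Γ(φ.fiber s, (φ.fiber s).basicOpen c) y').mp h4
  refine ⟨m.1, ?_, hm⟩
  obtain ⟨n, hn⟩ := m.2
  rw [← hn]
  intro hmem
  have h5 := Ideal.IsPrime.mem_of_pow_mem (hW.primeIdealOf ⟨y, hyW⟩).isPrime n hmem
  exact (Groth.Agent.Lib.AffStalk_helper3.mem_basicOpen_iff hW c ⟨y, hyW⟩).mp hyc h5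

/-- **The chart statement.** -/
theorem chart_main [Flat φ] [LocallyOfFinitePresentation φ] (𝓘 : X.IdealSheafData)
    (hfib : ∀ s : ↥S, BlowUp.IsEffCartierIdeal (𝓘.comap (φ.fiberι s)))
    {U : X.Opens} (hU : IsAffineOpen U) {V : S.Opens} (hV : IsAffineOpen V) (hUV : U ≤ φ ⁻¹ᵁ V)
    (f : Γ(X, U)) (hf : 𝓘.ideal ⟨U, hU⟩ = Ideal.span {f}) :
    f ∈ nonZeroDivisors Γ(X, U) ∧
      ((Ideal.Quotient.mk (Ideal.span {f})).comp (φ.appLE V U hUV).hom).Flat := by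
  refine Groth.Agent.Lib.FibNzd.main_alg (φ.appLE V U hUV).hom (φ.flat_appLE hV hU hUV)
    (φ.finitePresentation_appLE hV hU hUV) f ?_
  intro q hq
  haveI hqp : q.IsPrime := hq.isPrime
  have hxU : hU.fromSpec ⟨q, hqp⟩ ∈ U := Groth.Agent.Lib.CartierFlat3.fromSpec_mem hU ⟨q, hqp⟩
  obtain ⟨x, hx⟩ : ∃ x : X, x = hU.fromSpec ⟨q, hqp⟩ := ⟨_, rfl⟩
  rw [← hx] at hxU
  have hsV : φ x ∈ V := hUV hxU
  have hW := isAffineOpen_W φ (φ x) hV hsV hU hUV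
  have hιy : (φ.fiberι (φ x)) (φ.asFiber x) = x := φ.fiberι_asFiber x
  have hyW : φ.asFiber x ∈ W φ (φ x) U := by
    refine ⟨?_, trivial⟩
    show (φ.fiberι (φ x)) (φ.asFiber x) ∈ U
    rw [hιy]
    exact hxU
  refine ⟨Γ(Spec (S.residueField (φ x)), ⊤), Γ(φ.fiber (φ x), W φ (φ x) U), inferInstance,
    inferInstance, isField_K _,
    ((S.fromSpecResidueField (φ x)).appLE V ⊤ (top_le _ hsV)).hom,
    ((φ.fiberι (φ x)).appLE U (W φ (φ x) U) inf_le_left).hom,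
    ((φ.fiberToSpecResidueField (φ x)).appLE ⊤ (W φ (φ x) U) inf_le_right).hom,
    (hW.primeIdealOf ⟨φ.asFiber x, hyW⟩).asIdeal, (hW.primeIdealOf ⟨φ.asFiber x, hyW⟩).isPrime,
    isPushout_W φ _ hV hsV hU hUV, ?_, ?_⟩
  · have h1 := IsAffineOpen.comap_primeIdealOf_appLE U hU (W φ (φ x) U) hW inf_le_left hyW
    have h2 : hU.primeIdealOf ⟨(φ.fiberι (φ x)) (φ.asFiber x),
        (inf_le_left : W φ (φ x) U ≤ (φ.fiberι (φ x)) ⁻¹ᵁ U) hyW⟩ = ⟨q, hqp⟩ := by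
      have h3 : (⟨(φ.fiberι (φ x)) (φ.asFiber x),
          (inf_le_left : W φ (φ x) U ≤ (φ.fiberι (φ x)) ⁻¹ᵁ U) hyW⟩ : U) =
          ⟨hU.fromSpec ⟨q, hqp⟩, Groth.Agent.Lib.CartierFlat3.fromSpec_mem hU ⟨q, hqp⟩⟩ :=
        Subtype.ext (hιy.trans hx)
      rw [h3]
      exact Groth.Agent.Lib.CartierFlat3.primeIdealOf_fromSpec hU ⟨q, hqp⟩ _
    exact congrArg PrimeSpectrum.asIdeal (h1.trans h2)
  · intro y' hy'
    exact fibre_nzd φ 𝓘 (φ x) (hfib (φ x)) hU hW f hf (φ.asFiber x) hyW y' hy'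

/-- a principal chart around every point -/
theorem exists_chart (𝓘 : X.IdealSheafData) (hZ : Curv2.IsLocPrincipal 𝓘) (x : X) :
    ∃ (U : X.Opens) (hU : IsAffineOpen U) (V : S.Opens) (_ : IsAffineOpen V)
      (_ : U ≤ φ ⁻¹ᵁ V) (f : Γ(X, U)), x ∈ U ∧ 𝓘.ideal ⟨U, hU⟩ = Ideal.span {f} := by
  obtain ⟨V, hV, hxV, -⟩ := (Opens.isBasis_iff_nbhd.mp S.isBasis_affineOpens)
    (show φ x ∈ (⊤ : S.Opens) from trivial)
  have step : ∃ (U₀ : X.Opens) (hU₀ : IsAffineOpen U₀) (f₀ : Γ(X, U₀)), x ∈ U₀ ∧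
      𝓘.ideal ⟨U₀, hU₀⟩ = Ideal.span {f₀} := by
    by_cases hx : x ∈ 𝓘.support
    · obtain ⟨⟨U₀, hU₀⟩, hxU₀, f₀, hf₀⟩ := hZ x hx
      exact ⟨U₀, hU₀, f₀, hxU₀, hf₀⟩
    · have hopen : IsOpen ((𝓘.support : Set X)ᶜ) := 𝓘.support.isClosed.isOpen_compl
      obtain ⟨U₀, hU₀, hxU₀, hU₀s⟩ := (Opens.isBasis_iff_nbhd.mp X.isBasis_affineOpens)
        (show x ∈ (⟨(𝓘.support : Set X)ᶜ, hopen⟩ : X.Opens) from hx)
      refine ⟨U₀, hU₀, 1, hxU₀, ?_⟩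
      rw [Ideal.span_singleton_one]
      apply Groth.Agent.Lib.CDivConn.ideal_eq_top_of_disjoint 𝓘 ⟨U₀, hU₀⟩
      rw [Set.eq_empty_iff_forall_notMem]
      rintro z ⟨hz1, hz2⟩
      exact hU₀s hz2 hz1
  obtain ⟨U₀, hU₀, f₀, hxU₀, hf₀⟩ := step
  obtain ⟨c, hcle, hxc⟩ := hU₀.exists_basicOpen_le (V := U₀ ⊓ φ ⁻¹ᵁ V) ⟨x, ⟨hxU₀, hxV⟩⟩ hxU₀
  have hle : (⟨_, hU₀.basicOpen c⟩ : X.affineOpens) ≤ ⟨U₀, hU₀⟩ := X.basicOpen_le c
  refine ⟨X.basicOpen c, hU₀.basicOpen c, V, hV, fun z hz => (hcle hz).2,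
    (X.presheaf.map (homOfLE hle).op).hom f₀, hxc, ?_⟩
  rw [← 𝓘.map_ideal hle, hf₀, Ideal.map_span, Set.image_singleton]

theorem main8848 [Flat φ] [LocallyOfFinitePresentation φ]
    (𝓘 : X.IdealSheafData) (hZ : Curv2.IsLocPrincipal 𝓘)
    (hfib : ∀ s : ↥S, BlowUp.IsEffCartierIdeal (𝓘.comap (φ.fiberι s))) :
    BlowUp.IsEffCartierIdeal 𝓘 ∧ Flat (𝓘.subschemeι ≫ φ) := by
  have key : ∀ x : X, ∃ (U : X.Opens) (hU : IsAffineOpen U) (V : S.Opens) (_ : IsAffineOpen V)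
      (hUV : U ≤ φ ⁻¹ᵁ V) (f : Γ(X, U)), x ∈ U ∧ 𝓘.ideal ⟨U, hU⟩ = Ideal.span {f} ∧
      f ∈ nonZeroDivisors Γ(X, U) ∧
      ((Ideal.Quotient.mk (Ideal.span {f})).comp (φ.appLE V U hUV).hom).Flat := by
    intro x
    obtain ⟨U, hU, V, hV, hUV, f, hxU, hf⟩ := exists_chart φ 𝓘 hZ x
    obtain ⟨h1, h2⟩ := chart_main φ 𝓘 hfib hU hV hUV f hf
    exact ⟨U, hU, V, hV, hUV, f, hxU, hf, h1, h2⟩
  constructor
  · intro x
    obtain ⟨U, hU, V, hV, hUV, f, hxU, hf, hnz, -⟩ := key x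
    exact ⟨⟨U, hU⟩, hxU, f, hnz, hf⟩
  · apply Groth.Agent.Lib.CartierFlat.flat_of_forall_exists
    intro x
    obtain ⟨U, hU, V, hV, hUV, f, hxU, hf, -, hfl⟩ := key x
    refine ⟨⟨V, hV⟩, ⟨U, hU⟩, hxU, hUV, ?_⟩
    rw [hf]
    exact hfl

end Groth.Agent.Lib.RelCartFib
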