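import Mathlib
import Groth.Agent.Lib.FibKoszul3_helper2

/-!
# Principal ideals via fibres (helper2)

`R → P`, `I` a finitely generated ideal of `P` with `P/I` flat over `R`, `K` a field over `R`,
`𝔮K` a prime of `P ⊗_R K`.  If `f ∈ I` generates `I` in the local ring of the fibre at `𝔮K`, then
`f` generates `I` in `P_Q`, `Q` the contraction of `𝔮K` (`local_principal`); pushout form with
explicit generators: `principal_pushout`.
APPEND-ONLY once landed.
-/

set_option autoImplicit false
universe u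

namespace Groth.Agent.Lib.RelCartPrin

open TensorProduct Groth.Agent.Lib.FibKoszul CategoryTheory CategoryTheory.Limits

section Literal

variable {R P K : Type u} [CommRing R] [CommRing P] [Algebra R P] [Field K] [Algebra R K]

theorem local_principal (𝔮K : Ideal (P ⊗[R] K)) [𝔮K.IsPrime] (I : Ideal P) (hIfg : I.FG)
    [Module.Flat R (P ⧸ I)] (f : P) (hfI : f ∈ I)
    (hI : I.map (iotaK 𝔮K) ≤ (Ideal.span {f}).map (iotaK 𝔮K))
    (Q : Ideal P) [Q.IsPrime]
    (hQ : Q = 𝔮K.comap (Algebra.TensorProduct.includeLeftRingHom : P →+* P ⊗[R] K)) :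
    I.map (algebraMap P (Localization.AtPrime Q)) ≤
      (Ideal.span {f}).map (algebraMap P (Localization.AtPrime Q)) := by
  haveI hp : (RingHom.ker (algebraMap R K)).IsPrime := RingHom.ker_isPrime _
  let j : (RingHom.ker (algebraMap R K)).ResidueField →ₐ[R] K :=
    Ideal.ResidueField.liftₐ (RingHom.ker (algebraMap R K)) (Algebra.ofId R K)
      (fun x hx => hx)
      (fun r hr => by
        show IsUnit (algebraMap R K r)
        rw [isUnit_iff_ne_zero]
        exact hr)
  have hQ' : Q = ctr (RingHom.ker (algebraMap R K))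
      (primeKappa (RingHom.ker (algebraMap R K)) j 𝔮K) :=
    hQ.trans (ctr_eq (RingHom.ker (algebraMap R K)) j 𝔮K).symm
  subst hQ'
  set p : Ideal R := RingHom.ker (algebraMap R K) with hp_def
  have h1 := map_le_sup_of_fibre p j 𝔮K I (Ideal.span {f}) hI
  have hLI : (Ideal.span {f}).map
      (algebraMap P (Localization.AtPrime (ctr p (primeKappa p j 𝔮K)))) ≤
      I.map (algebraMap P (Localization.AtPrime (ctr p (primeKappa p j 𝔮K)))) := by
    apply Ideal.map_mono
    rw [Ideal.span_le]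
    intro x hx
    rw [Set.mem_singleton_iff.mp hx]
    exact hfI
  haveI hfl1 : Module.Flat (P ⧸ I) (Localization.AtPrime (ctr p (primeKappa p j 𝔮K)) ⧸
      I.map (algebraMap P (Localization.AtPrime (ctr p (primeKappa p j 𝔮K))))) :=
    IsLocalization.flat _ (Algebra.algebraMapSubmonoid (P ⧸ I)
      (ctr p (primeKappa p j 𝔮K)).primeCompl)
  haveI htw2 : IsScalarTower R (P ⧸ I) (Localization.AtPrime (ctr p (primeKappa p j 𝔮K)) ⧸
      I.map (algebraMap P (Localization.AtPrime (ctr p (primeKappa p j 𝔮K))))) :=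
    IsScalarTower.of_algebraMap_eq (fun r => by
      rw [IsScalarTower.algebraMap_apply R P (P ⧸ I),
        IsScalarTower.algebraMap_apply R (Localization.AtPrime (ctr p (primeKappa p j 𝔮K)))
          (Localization.AtPrime (ctr p (primeKappa p j 𝔮K)) ⧸
            I.map (algebraMap P (Localization.AtPrime (ctr p (primeKappa p j 𝔮K))))),
        IsScalarTower.algebraMap_apply R P (Localization.AtPrime (ctr p (primeKappa p j 𝔮K)))]
      rfl)
  haveI hfl2 : Module.Flat R (Localization.AtPrime (ctr p (primeKappa p j 𝔮K)) ⧸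
      I.map (algebraMap P (Localization.AtPrime (ctr p (primeKappa p j 𝔮K))))) :=
    Module.Flat.trans R (P ⧸ I) _
  have hpm : p.map (algebraMap R (Localization.AtPrime (ctr p (primeKappa p j 𝔮K)))) ≤
      IsLocalRing.maximalIdeal (Localization.AtPrime (ctr p (primeKappa p j 𝔮K))) := by
    rw [Ideal.map_le_iff_le_comap]
    intro r hr
    rw [Ideal.mem_comap, IsScalarTower.algebraMap_apply R P,
      IsLocalization.AtPrime.to_map_mem_maximal_iff _ (ctr p (primeKappa p j 𝔮K))]
    have : r ∈ (ctr p (primeKappa p j 𝔮K)).comap (algebraMap R P) := by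
      rw [comap_ctr]
      exact hr
    exact this
  have h2 : I.map (algebraMap P (Localization.AtPrime (ctr p (primeKappa p j 𝔮K)))) ≤
      (Ideal.span {f}).map (algebraMap P (Localization.AtPrime (ctr p (primeKappa p j 𝔮K)))) ⊔
      (IsLocalRing.maximalIdeal (Localization.AtPrime (ctr p (primeKappa p j 𝔮K)))) •
        I.map (algebraMap P (Localization.AtPrime (ctr p (primeKappa p j 𝔮K)))) := by
    intro x hx
    obtain ⟨y, hy, z, hz, rfl⟩ := Submodule.mem_sup.mp (h1 hx)
    have hzI : z ∈ I.map (algebraMap P (Localization.AtPrime (ctr p (primeKappa p j 𝔮K)))) := by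
      have h5 : z = (y + z) - y := by ring
      rw [h5]
      exact Ideal.sub_mem _ hx (hLI hy)
    have hz2 := Groth.Agent.Lib.KoszulNil.mem_mul_of_flat_quot p
      (I.map (algebraMap P (Localization.AtPrime (ctr p (primeKappa p j 𝔮K))))) z hzI hz
    refine Ideal.add_mem _ (Ideal.mem_sup_left hy) (Ideal.mem_sup_right ?_)
    rw [smul_eq_mul]
    exact Ideal.mul_mono_left hpm hz2
  refine Submodule.le_of_le_smul_of_le_jacobson_bot ?_ ?_ h2
  · exact hIfg.map _
  · rw [IsLocalRing.jacobson_eq_maximalIdeal ⊥ bot_ne_top]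

end Literal

section Pushout

variable {R B K BK : Type u} [CommRing R] [CommRing B] [CommRing K] [CommRing BK]

/-- spreading out finitely many local divisibilities -/
theorem exists_common_mul (Q : Ideal B) [Q.IsPrime] (f : B) (s : Finset B)
    (H : ∀ a ∈ s, ∃ h : B, h ∉ Q ∧ ∃ b, h * a = b * f) :
    ∃ h : B, h ∉ Q ∧ ∀ a ∈ s, ∃ b, h * a = b * f := by
  classical
  induction s using Finset.induction_on with
  | empty => exact ⟨1, fun h1 => (Ideal.ne_top_iff_one Q).mp (Ideal.IsPrime.ne_top inferInstance) h1,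
      fun a ha => absurd ha (Finset.notMem_empty a)⟩
  | insert a s _ ih =>
    obtain ⟨h₁, hh₁, H₁⟩ := ih (fun a' ha' => H a' (Finset.mem_insert_of_mem ha'))
    obtain ⟨h₂, hh₂, b₂, hb₂⟩ := H a (Finset.mem_insert_self a s)
    refine ⟨h₁ * h₂, ?_, ?_⟩
    · exact (Ideal.IsPrime.mul_mem_iff_mem_or_mem inferInstance).not.mpr (not_or.mpr ⟨hh₁, hh₂⟩)
    · intro a' ha'
      rcases Finset.mem_insert.mp ha' with rfl | ha'
      · exact ⟨h₁ * b₂, by rw [mul_assoc, hb₂, mul_assoc]⟩
      · obtain ⟨b₁, hb₁⟩ := H₁ a' ha'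
        exact ⟨h₂ * b₁, by rw [mul_comm h₁ h₂, mul_assoc, hb₁, mul_assoc]⟩

/-- **Principal ideals via fibres**, pushout form. -/
theorem principal_pushout (hK : IsField K) (α : R →+* B) (κ : R →+* K) (βB : B →+* BK)
    (κB : K →+* BK)
    (h1 : IsPushout (CommRingCat.ofHom α) (CommRingCat.ofHom κ) (CommRingCat.ofHom βB)
      (CommRingCat.ofHom κB))
    (qK : Ideal BK) [qK.IsPrime] (I : Ideal B) (hIfg : I.FG)
    (hfl : ((Ideal.Quotient.mk I).comp α).Flat) (f : B) (hfI : f ∈ I)
    (hgen : ∀ a ∈ I, ∃ t, t ∉ qK ∧ ∃ b, t * βB a = b * βB f) :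
    ∃ h : B, h ∉ qK.comap βB ∧ ∀ a ∈ I, ∃ b, h * a = b * f := by
  classical
  letI := hK.toField
  letI algRB : Algebra R B := α.toAlgebra
  letI algRK : Algebra R K := κ.toAlgebra
  haveI : Module.Flat R (B ⧸ I) := by
    have : (Ideal.Quotient.mk I).comp α = algebraMap R (B ⧸ I) := rfl
    rw [this, RingHom.flat_algebraMap_iff] at hfl
    exact hfl
  have hT := CommRingCat.isPushout_tensorProduct R B K
  let e := hT.isoIsPushout _ _ h1
  have he : ∀ b : B, e.hom.hom (b ⊗ₜ[R] (1 : K)) = βB b := by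
    intro b
    have := congrArg (fun t => t.hom b) (hT.inl_isoIsPushout_hom _ _ h1)
    exact this
  have hbij : Function.Bijective e.hom.hom := ConcreteCategory.bijective_of_isIso e.hom
  haveI : (qK.comap e.hom.hom).IsPrime := Ideal.comap_isPrime _ _
  haveI : (qK.comap βB).IsPrime := Ideal.comap_isPrime _ _
  have hQ : qK.comap βB = (qK.comap e.hom.hom).comap
      (Algebra.TensorProduct.includeLeftRingHom : B →+* B ⊗[R] K) := by
    ext b
    rw [Ideal.mem_comap, Ideal.mem_comap, Ideal.mem_comap]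
    show βB b ∈ qK ↔ e.hom.hom (b ⊗ₜ[R] (1 : K)) ∈ qK
    rw [he]
  have hI : I.map (iotaK (qK.comap e.hom.hom)) ≤
      (Ideal.span {f}).map (iotaK (qK.comap e.hom.hom)) := by
    rw [Ideal.map_le_iff_le_comap]
    intro a ha
    rw [Ideal.mem_comap, Ideal.map_span, Set.image_singleton]
    obtain ⟨t, ht, b, hb⟩ := hgen a ha
    obtain ⟨t', rfl⟩ := hbij.2 t
    obtain ⟨b', rfl⟩ := hbij.2 b
    have h2 : t' * (a ⊗ₜ[R] (1 : K)) = b' * (f ⊗ₜ[R] (1 : K)) := by
      apply hbij.1
      rw [map_mul, map_mul, he, he]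
      exact hb
    have hu : IsUnit (algebraMap (B ⊗[R] K) (Localization.AtPrime (qK.comap e.hom.hom)) t') :=
      IsLocalization.map_units (Localization.AtPrime (qK.comap e.hom.hom))
        (⟨t', ht⟩ : (qK.comap e.hom.hom).primeCompl)
    have h3 := congrArg (algebraMap (B ⊗[R] K) (Localization.AtPrime (qK.comap e.hom.hom))) h2
    rw [map_mul, map_mul] at h3
    rw [iotaK_apply, iotaK_apply, Ideal.mem_span_singleton']
    refine ⟨↑hu.unit⁻¹ * algebraMap (B ⊗[R] K) (Localization.AtPrime (qK.comap e.hom.hom)) b', ?_⟩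
    rw [mul_assoc, ← h3, ← mul_assoc, IsUnit.val_inv_mul, one_mul]
  have hprin := local_principal (qK.comap e.hom.hom) I hIfg f hfI hI (qK.comap βB) hQ
  have hloc : ∀ a ∈ I, ∃ h : B, h ∉ qK.comap βB ∧ ∃ b, h * a = b * f := by
    intro a ha
    have h3 : algebraMap B (Localization.AtPrime (qK.comap βB)) a ∈
        (Ideal.span {f}).map (algebraMap B (Localization.AtPrime (qK.comap βB))) :=
      hprin (Ideal.mem_map_of_mem _ ha)
    rw [Ideal.map_span, Set.image_singleton] at h3
    obtain ⟨w, hw⟩ := Ideal.mem_span_singleton'.mp h3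
    obtain ⟨⟨b, u⟩, rfl⟩ := IsLocalization.mk'_surjective (qK.comap βB).primeCompl w
    have h4 : algebraMap B (Localization.AtPrime (qK.comap βB)) (b * f) =
        algebraMap B (Localization.AtPrime (qK.comap βB)) ((u : B) * a) := by
      rw [map_mul, map_mul, ← hw, ← mul_assoc,
        IsLocalization.mk'_spec' (Localization.AtPrime (qK.comap βB)) b u]
    obtain ⟨v, hv⟩ := (IsLocalization.eq_iff_exists (qK.comap βB).primeCompl _).mp h4
    refine ⟨(v : B) * (u : B), ?_, (v : B) * b, ?_⟩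
    · exact (Ideal.IsPrime.mul_mem_iff_mem_or_mem inferInstance).not.mpr
        (not_or.mpr ⟨v.2, u.2⟩)
    · rw [mul_assoc, mul_assoc]
      exact hv.symm
  obtain ⟨s, hs⟩ := hIfg
  obtain ⟨h, hh, Hh⟩ := exists_common_mul (qK.comap βB) f s (fun a ha =>
    hloc a (by rw [← hs]; exact Ideal.subset_span ha))
  refine ⟨h, hh, ?_⟩
  intro a ha
  rw [← hs] at ha
  refine Submodule.span_induction ?_ ?_ ?_ ?_ ha
  · intro x hx
    exact Hh x hx
  · exact ⟨0, by rw [mul_zero, zero_mul]⟩
  · rintro x y _ _ ⟨b₁, hb₁⟩ ⟨b₂, hb₂⟩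
    exact ⟨b₁ + b₂, by rw [mul_add, hb₁, hb₂, add_mul]⟩
  · rintro c x _ ⟨b₁, hb₁⟩
    exact ⟨c * b₁, by rw [smul_eq_mul, mul_left_comm, hb₁, mul_assoc]⟩

end Pushout

end Groth.Agent.Lib.RelCartPrin
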