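import Mathlib
import Groth.Agent.Lib.RelCartFib_helper2
import Groth.Agent.Lib.RelCartPrin_helper2

/-!
# Relative effective Cartier divisors via fibres, flat closed subscheme version (S8847) (helper2)
APPEND-ONLY once landed.
-/

set_option autoImplicit false
open AlgebraicGeometry CategoryTheory CategoryTheory.Limits TopologicalSpace
universe u
namespace Groth.Agent.Lib.RelCartFib

open Groth.Agent.Lib.FibChart

section Alg

/-- in a ring where the image of a finitely generated ideal is generated by a nonzerodivisor, one of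
the generators generates it near a given prime -/
theorem gen_choice {B T : Type*} [CommRing B] [CommRing T] (ρ : B →+* T) (s : Finset B) (g : T)
    (hg : g ∈ nonZeroDivisors T)
    (h : (Ideal.span (s : Set B)).map ρ = Ideal.span {g}) (qT : Ideal T) [qT.IsPrime] :
    ∃ f ∈ s, ∀ a ∈ Ideal.span (s : Set B), ∃ t, t ∉ qT ∧ ∃ b, t * ρ a = b * ρ f := by
  classical
  have hz : ∀ a ∈ Ideal.span (s : Set B), ∃ z, ρ a = z * g := by
    intro a ha
    have h1 : ρ a ∈ Ideal.span {g} := by rw [← h]; exact Ideal.mem_map_of_mem _ ha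
    obtain ⟨z, hz⟩ := Ideal.mem_span_singleton'.mp h1
    exact ⟨z, hz.symm⟩
  choose! z hz using hz
  have hg' : g ∈ Ideal.span (ρ '' (s : Set B)) := by
    rw [← Ideal.map_span, h]; exact Ideal.mem_span_singleton_self g
  have hsum : ∀ x ∈ Ideal.span (ρ '' (s : Set B)), ∃ y : B → T, x = ∑ a ∈ s, y a * ρ a := by
    intro x hx
    refine Submodule.span_induction ?_ ?_ ?_ ?_ hx
    · rintro _ ⟨a₀, ha₀, rfl⟩
      refine ⟨fun a => if a = a₀ then 1 else 0, ?_⟩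
      simp only [ite_mul, one_mul, zero_mul]
      rw [Finset.sum_ite_eq' s a₀ (fun a => ρ a), if_pos (Finset.mem_coe.mp ha₀)]
    · exact ⟨0, by simp⟩
    · rintro x₁ x₂ _ _ ⟨y₁, rfl⟩ ⟨y₂, rfl⟩
      exact ⟨y₁ + y₂, by simp only [Pi.add_apply, add_mul, Finset.sum_add_distrib]⟩
    · rintro r x₁ _ ⟨y₁, rfl⟩
      exact ⟨fun a => r * y₁ a, by
        rw [smul_eq_mul, Finset.mul_sum]
        exact Finset.sum_congr rfl (fun a _ => by ring)⟩
  obtain ⟨y, hy⟩ := hsum g hg'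
  have h1 : g * (1 - ∑ a ∈ s, y a * z a) = 0 := by
    have h2 : g * ∑ a ∈ s, y a * z a = ∑ a ∈ s, y a * ρ a := by
      rw [Finset.mul_sum]
      refine Finset.sum_congr rfl (fun a ha => ?_)
      rw [hz a (Ideal.subset_span (Finset.mem_coe.mpr ha))]
      ring
    rw [mul_sub, mul_one, h2, ← hy, sub_self]
  have h3 : 1 - ∑ a ∈ s, y a * z a = 0 := by
    rw [mul_comm] at h1
    exact (mul_right_mem_nonZeroDivisors_eq_zero_iff hg).mp h1
  have h4 : ∑ a ∈ s, y a * z a = 1 := (sub_eq_zero.mp h3).symm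
  have h5 : ∃ f ∈ s, z f ∉ qT := by
    by_contra hcon
    push_neg at hcon
    have h6 : ∑ a ∈ s, y a * z a ∈ qT :=
      Ideal.sum_mem _ (fun a ha => Ideal.mul_mem_left _ _ (hcon a ha))
    rw [h4] at h6
    exact (Ideal.ne_top_iff_one qT).mp (Ideal.IsPrime.ne_top inferInstance) h6
  obtain ⟨f, hfs, hzf⟩ := h5
  refine ⟨f, hfs, fun a ha => ⟨z f, hzf, z a, ?_⟩⟩
  rw [hz a ha, hz f (Ideal.subset_span (Finset.mem_coe.mpr hfs))]
  ring

/-- descending a divisibility relation from a principal localization -/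
theorem away_descend {BK T : Type*} [CommRing BK] [CommRing T] [Algebra BK T] (c : BK)
    [IsLocalization.Away c T] (qK : Ideal BK) [qK.IsPrime] (hc : c ∉ qK) (u v : BK) (tT bT : T)
    (htT : tT ∉ qK.map (algebraMap BK T))
    (h : tT * algebraMap BK T u = bT * algebraMap BK T v) :
    ∃ t, t ∉ qK ∧ ∃ b, t * u = b * v := by
  obtain ⟨⟨t₀, n⟩, ht₀x⟩ := IsLocalization.mk'_surjective (Submonoid.powers c) tT
  obtain ⟨⟨b₀, m⟩, hb₀x⟩ := IsLocalization.mk'_surjective (Submonoid.powers c) bT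
  have ht₀' : IsLocalization.mk' T t₀ n = tT := ht₀x
  have hb₀' : IsLocalization.mk' T b₀ m = bT := hb₀x
  have hpow : ∀ w : Submonoid.powers c, (w : BK) ∉ qK := by
    rintro ⟨_, k, rfl⟩ hmem
    exact hc (Ideal.IsPrime.mem_of_pow_mem inferInstance k hmem)
  have h1 : algebraMap BK T ((m : BK) * t₀ * u) = algebraMap BK T ((n : BK) * b₀ * v) := by
    have e1 := IsLocalization.mk'_spec' T t₀ n
    have e2 := IsLocalization.mk'_spec' T b₀ m
    rw [ht₀'] at e1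
    rw [hb₀'] at e2
    rw [map_mul, map_mul, map_mul, map_mul, ← e1, ← e2]
    linear_combination (algebraMap BK T (m : BK)) * (algebraMap BK T (n : BK)) * h
  obtain ⟨k, hk⟩ := (IsLocalization.eq_iff_exists (Submonoid.powers c) T).mp h1
  refine ⟨(k : BK) * (m : BK) * t₀, ?_, (k : BK) * (n : BK) * b₀, ?_⟩
  · have ht₀ : t₀ ∉ qK := by
      intro hmem
      apply htT
      rw [← ht₀', IsLocalization.mk'_eq_mul_mk'_one]
      exact Ideal.mul_mem_right _ _ (Ideal.mem_map_of_mem _ hmem)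
    intro hmem
    rcases (Ideal.IsPrime.mem_or_mem inferInstance hmem) with h2 | h2
    · rcases (Ideal.IsPrime.mem_or_mem inferInstance h2) with h3 | h3
      · exact hpow k h3
      · exact hpow m h3
    · exact ht₀ h2
  · linear_combination hk

/-- the choice of a generator on the fibre -/
theorem fibre_gen {B BK T : Type*} [CommRing B] [CommRing BK] [CommRing T] [Algebra BK T]
    (βB : B →+* BK) (c : BK) [IsLocalization.Away c T] (qK : Ideal BK) [qK.IsPrime]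
    (hc : c ∉ qK) (s : Finset B) (g : T) (hg : g ∈ nonZeroDivisors T)
    (h : ((Ideal.span (s : Set B)).map βB).map (algebraMap BK T) = Ideal.span {g}) :
    ∃ f ∈ s, ∀ a ∈ Ideal.span (s : Set B), ∃ t, t ∉ qK ∧ ∃ b, t * βB a = b * βB f := by
  have hdisj : Disjoint (Submonoid.powers c : Set BK) (qK : Set BK) := by
    rw [Set.disjoint_left]
    rintro _ ⟨k, rfl⟩ hmem
    exact hc (Ideal.IsPrime.mem_of_pow_mem inferInstance k hmem)
  haveI : (qK.map (algebraMap BK T)).IsPrime :=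
    IsLocalization.isPrime_of_isPrime_disjoint (Submonoid.powers c) T qK inferInstance hdisj
  rw [Ideal.map_map] at h
  obtain ⟨f, hfs, H⟩ := gen_choice ((algebraMap BK T).comp βB) s g hg h
    (qK.map (algebraMap BK T))
  refine ⟨f, hfs, fun a ha => ?_⟩
  obtain ⟨tT, htT, bT, hb⟩ := H a ha
  exact away_descend c qK hc (βB a) (βB f) tT bT htT hb

end Alg

variable {X S : Scheme.{u}} (φ : X ⟶ S)

/-- finite presentation of the quotient charts of a closed subscheme -/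
theorem fp_quot_of_fp (I : X.IdealSheafData)
    [LocallyOfFinitePresentation (I.subschemeι ≫ φ)]
    (V : S.affineOpens) (W : X.affineOpens) (e : W.1 ≤ φ ⁻¹ᵁ V.1) :
    ((Ideal.Quotient.mk (I.ideal W)).comp (φ.appLE V.1 W.1 e).hom).FinitePresentation := by
  have e' : I.subschemeι ⁻¹ᵁ W.1 ≤ (I.subschemeι ≫ φ) ⁻¹ᵁ V.1 := fun z hz => e hz
  have h0 := (I.subschemeι ≫ φ).finitePresentation_appLE V.2 (W.2.preimage I.subschemeι) e'
  have h1 : (I.subschemeι ≫ φ).appLE V.1 (I.subschemeι ⁻¹ᵁ W.1) e' =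
      φ.appLE V.1 W.1 e ≫ I.subschemeι.app W.1 := by
    rw [Scheme.Hom.app_eq_appLE, Scheme.Hom.appLE_comp_appLE]
  rw [h1, I.subschemeι_app W] at h0
  simp only [CommRingCat.hom_comp, CommRingCat.hom_ofHom] at h0
  rw [RingHom.comp_assoc] at h0
  exact (RingHom.finitePresentation_respectsIso.cancel_right_isIso
    (CommRingCat.ofHom ((Ideal.Quotient.mk (I.ideal W)).comp (φ.appLE V.1 W.1 e).hom))
    (I.subschemeObjIso W).inv).mp h0

theorem main8847 [Flat φ] [LocallyOfFinitePresentation φ]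
    (𝓘 : X.IdealSheafData) [Flat (𝓘.subschemeι ≫ φ)]
    [LocallyOfFinitePresentation (𝓘.subschemeι ≫ φ)]
    (hfib : ∀ s : ↥S, BlowUp.IsEffCartierIdeal (𝓘.comap (φ.fiberι s))) :
    BlowUp.IsEffCartierIdeal 𝓘 := by
  refine (main8848 φ 𝓘 ?_ hfib).1
  intro x _
  obtain ⟨V, hV, hxV, -⟩ := (Opens.isBasis_iff_nbhd.mp S.isBasis_affineOpens)
    (show φ x ∈ (⊤ : S.Opens) from trivial)
  obtain ⟨U, hU, hxU, hUV⟩ := (Opens.isBasis_iff_nbhd.mp X.isBasis_affineOpens)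
    (show x ∈ φ ⁻¹ᵁ V from hxV)
  -- finite generation
  have hfp := fp_quot_of_fp φ 𝓘 ⟨V, hV⟩ ⟨U, hU⟩ hUV
  have hft : (φ.appLE V U hUV).hom.FiniteType :=
    RingHom.FiniteType.of_finitePresentation (φ.finitePresentation_appLE hV hU hUV)
  have hmk : (Ideal.Quotient.mk (𝓘.ideal ⟨U, hU⟩)).FinitePresentation :=
    RingHom.FinitePresentation.of_comp_finiteType _ hfp hft
  have hIfg : (𝓘.ideal ⟨U, hU⟩).FG := by
    haveI h2 : Algebra.FinitePresentation Γ(X, U) (Γ(X, U) ⧸ 𝓘.ideal ⟨U, hU⟩) :=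
      RingHom.finitePresentation_algebraMap.mp hmk
    have h3 := Algebra.FinitePresentation.ker_fG_of_surjective
      (Ideal.Quotient.mkₐ Γ(X, U) (𝓘.ideal ⟨U, hU⟩))
      (Ideal.Quotient.mkₐ_surjective Γ(X, U) (𝓘.ideal ⟨U, hU⟩))
    have h4 : RingHom.ker (Ideal.Quotient.mkₐ Γ(X, U) (𝓘.ideal ⟨U, hU⟩)).toRingHom =
        𝓘.ideal ⟨U, hU⟩ := Ideal.Quotient.mkₐ_ker Γ(X, U) (𝓘.ideal ⟨U, hU⟩)
    rw [h4] at h3
    exact h3
  have hfl := Groth.Agent.Lib.CartierFlat.flat_quot_of_flat 𝓘 φ inferInstance ⟨V, hV⟩ ⟨U, hU⟩ hUV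
  -- the fibre
  have hW := isAffineOpen_W φ (φ x) hV hxV hU hUV
  have hιy : (φ.fiberι (φ x)) (φ.asFiber x) = x := φ.fiberι_asFiber x
  have hyW : φ.asFiber x ∈ W φ (φ x) U := by
    refine ⟨?_, trivial⟩
    show (φ.fiberι (φ x)) (φ.asFiber x) ∈ U
    rw [hιy]
    exact hxU
  haveI hqK : (hW.primeIdealOf ⟨φ.asFiber x, hyW⟩).asIdeal.IsPrime :=
    (hW.primeIdealOf ⟨φ.asFiber x, hyW⟩).isPrime
  obtain ⟨U₀, hyU₀, hprin⟩ := Groth.Agent.Lib.CartierFlat.exists_affine_principal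
    (𝓘.comap (φ.fiberι (φ x))) (hfib (φ x)) (φ.asFiber x)
  obtain ⟨c, hcle, hyc⟩ := hW.exists_basicOpen_le (V := W φ (φ x) U ⊓ U₀.1)
    ⟨φ.asFiber x, ⟨hyW, hyU₀⟩⟩ hyW
  have hD : IsAffineOpen ((φ.fiber (φ x)).basicOpen c) := hW.basicOpen c
  obtain ⟨g, hg, hJg⟩ := hprin ⟨_, hD⟩ (fun z hz => (hcle hz).2)
  have hle : (⟨_, hD⟩ : (φ.fiber (φ x)).affineOpens) ≤ ⟨W φ (φ x) U, hW⟩ :=
    (φ.fiber (φ x)).basicOpen_le c
  have h1 := (𝓘.comap (φ.fiberι (φ x))).map_ideal hle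
  rw [comap_ideal_W φ (φ x) 𝓘 hU hW, hJg] at h1
  obtain ⟨s, hs⟩ := hIfg
  rw [← hs] at h1
  haveI := hW.isLocalization_basicOpen c
  have hcq : c ∉ (hW.primeIdealOf ⟨φ.asFiber x, hyW⟩).asIdeal :=
    (Groth.Agent.Lib.AffStalk_helper3.mem_basicOpen_iff hW c ⟨φ.asFiber x, hyW⟩).mp hyc
  obtain ⟨f, hfs, hgen⟩ := fibre_gen
    ((φ.fiberι (φ x)).appLE U (W φ (φ x) U) inf_le_left).hom c
    (hW.primeIdealOf ⟨φ.asFiber x, hyW⟩).asIdeal hcq s g hg h1
  rw [hs] at hgen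
  have hfI : f ∈ 𝓘.ideal ⟨U, hU⟩ := by
    rw [← hs]; exact Ideal.subset_span (Finset.mem_coe.mpr hfs)
  obtain ⟨h, hh, Hh⟩ := Groth.Agent.Lib.RelCartPrin.principal_pushout (isField_K (φ x))
    (φ.appLE V U hUV).hom
    ((S.fromSpecResidueField (φ x)).appLE V ⊤ (top_le _ hxV)).hom
    ((φ.fiberι (φ x)).appLE U (W φ (φ x) U) inf_le_left).hom
    ((φ.fiberToSpecResidueField (φ x)).appLE ⊤ (W φ (φ x) U) inf_le_right).hom
    (isPushout_W φ _ hV hxV hU hUV) (hW.primeIdealOf ⟨φ.asFiber x, hyW⟩).asIdeal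
    (𝓘.ideal ⟨U, hU⟩) ⟨s, hs⟩ hfl f hfI hgen
  -- the point lies in `D(h)`
  have hcomap : (hW.primeIdealOf ⟨φ.asFiber x, hyW⟩).asIdeal.comap
      ((φ.fiberι (φ x)).appLE U (W φ (φ x) U) inf_le_left).hom =
      (hU.primeIdealOf ⟨x, hxU⟩).asIdeal := by
    have h2 := IsAffineOpen.comap_primeIdealOf_appLE U hU (W φ (φ x) U) hW inf_le_left hyW
    have h3 : (⟨(φ.fiberι (φ x)) (φ.asFiber x),
        (inf_le_left : W φ (φ x) U ≤ (φ.fiberι (φ x)) ⁻¹ᵁ U) hyW⟩ : U) = ⟨x, hxU⟩ :=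
      Subtype.ext hιy
    rw [h3] at h2
    exact congrArg PrimeSpectrum.asIdeal h2
  rw [hcomap] at hh
  have hxh : x ∈ X.basicOpen h :=
    (Groth.Agent.Lib.AffStalk_helper3.mem_basicOpen_iff hU h ⟨x, hxU⟩).mpr hh
  have hle2 : (⟨_, hU.basicOpen h⟩ : X.affineOpens) ≤ ⟨U, hU⟩ := X.basicOpen_le h
  refine ⟨⟨X.basicOpen h, hU.basicOpen h⟩, hxh, (X.presheaf.map (homOfLE hle2).op).hom f, ?_⟩
  rw [← 𝓘.map_ideal hle2]
  apply le_antisymm
  · rw [Ideal.map_le_iff_le_comap]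
    intro a ha
    rw [Ideal.mem_comap]
    obtain ⟨b, hb⟩ := Hh a ha
    haveI := hU.isLocalization_basicOpen h
    have hu : IsUnit ((X.presheaf.map (homOfLE hle2).op).hom h) :=
      IsLocalization.Away.algebraMap_isUnit (S := Γ(X, X.basicOpen h)) h
    have h5 := congrArg (X.presheaf.map (homOfLE hle2).op).hom hb
    rw [map_mul, map_mul] at h5
    rw [Ideal.mem_span_singleton']
    refine ⟨↑hu.unit⁻¹ * (X.presheaf.map (homOfLE hle2).op).hom b, ?_⟩
    rw [mul_assoc, ← h5, ← mul_assoc, IsUnit.val_inv_mul, one_mul]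
  · rw [Ideal.span_le]
    intro w hw
    rw [Set.mem_singleton_iff.mp hw]
    exact Ideal.mem_map_of_mem _ hfI

end Groth.Agent.Lib.RelCartFib
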