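import Mathlib
import Groth.Prelude.Def_EGA43
import Groth.Agent.Lib.RelDim_helper8
import Groth.Agent.Lib.OpenAtEq_helper8
import Groth.Agent.Lib.CompDims_helper8

/-! More on `relDim`; EGA IV 13.3.x: `E(y) ⊆ E(η)`. -/

universe u
open AlgebraicGeometry CategoryTheory TopologicalSpace IsLocalRing

namespace RelDimH8

open Equi133H8

variable {X Y : Scheme.{u}}

/-- if `dim (O_z / P_ξ) = dim O_z` then `ξ` is a maximal point. -/
theorem isMax_of_relDim_eq [IsLocallyNoetherian X] (z ξ : X) (h : ξ ⤳ z)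
    (hd : relDim z ξ h = ringKrullDim (X.presheaf.stalk z)) : ∀ b : X, b ⤳ ξ → b = ξ := by
  obtain ⟨P, rfl⟩ := OpenAtDimH8.exists_fromSpecStalk_eq z h
  rw [relDim_fromSpecStalk] at hd
  apply isMax_fromSpecStalk z P
  obtain ⟨𝔮', h𝔮'min, h𝔮'le⟩ :=
    Ideal.exists_minimalPrimes_le (show (⊥ : Ideal _) ≤ P.asIdeal from bot_le)
  by_cases heq : 𝔮' = P.asIdeal
  · rw [← heq]; exact h𝔮'min
  · exfalso
    haveI : 𝔮'.IsPrime := h𝔮'min.1.1
    have hlt : 𝔮' < P.asIdeal := lt_of_le_of_ne h𝔮'le heq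
    have h1 := dim_quot_succ_le 𝔮' P.asIdeal hlt
    have h2 := ringKrullDim_quotient_le 𝔮'
    obtain ⟨b, hb⟩ := exists_nat_ringKrullDim (X.presheaf.stalk z)
    rw [hd, hb] at h1
    rw [hb] at h2
    have h3 : ((b : ℕ) : WithBot ℕ∞) + 1 ≤ (b : WithBot ℕ∞) := h1.trans h2
    have h4 : b + 1 ≤ b := by exact_mod_cast h3
    omega

/-- **EGA IV 13.3.x**: if `dim O_{X,z} = dim O_{Y,y}` at all maximal points of the fibre over `y`
(`Y` irreducible, `O_{Y,y}` universally catenary) then `E(y) ⊆ E(η)`. -/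
theorem dims_subset_generic [IrreducibleSpace Y] [IsLocallyNoetherian Y] (f : X ⟶ Y)
    [LocallyOfFiniteType f] (y : Y)
    (hcat : CAlg.IsUniversallyCatenary (Y.presheaf.stalk y))
    (hb : ∀ z : X, f.base z = y → (∀ z' : X, f.base z' = y → z ∈ closure {z'} → z' = z) →
      ringKrullDim (X.presheaf.stalk z) = ringKrullDim (Y.presheaf.stalk y)) :
    {d | ∃ x : X, f.base x = y ∧ FlatMor.fibreDimAt f x = d} ⊆
      {d | ∃ x : X, f.base x = genericPoint Y ∧ FlatMor.fibreDimAt f x = d} := by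
  haveI : IsLocallyNoetherian X := LocallyOfFiniteType.isLocallyNoetherian f
  rintro d ⟨x, hx, rfl⟩
  obtain ⟨ζ, hζf, hζx, hζmax, hζdim⟩ := CompDimsH8.exists_fibre_max_eq f x
  have hζy : f.base ζ = y := hζf.trans hx
  have hdζ := hb ζ hζy (fun z' hz' hcl => hζmax z' (hz'.trans hx.symm)
    (specializes_iff_mem_closure.mpr hcl))
  subst hζy
  have hζmax' : ∀ x'' : X, f.base x'' = f.base ζ → x'' ⤳ ζ → x'' = ζ :=
    fun x'' h1 h2 => hζmax x'' (h1.trans hζf) h2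
  have hcoh0 := OpenAtEqH8.fibCoh_eq_zero_of_isMax f ζ hζmax'
  obtain ⟨EP, hEP⟩ := Groth.Agent.ResQuot2H8.exists_trdeg_nat f ζ
  have hEP' : Dual3.resTrdeg f ζ = EP := hEP
  have hfζ : FlatMor.fibreDimAt f ζ = ((EP : ℕ) : WithBot ℕ∞) := by
    rw [FibCohH8.fibreDimAt_eq f ζ, hEP', Cardinal.toENat_nat, hcoh0]; simp
  obtain ⟨ξ, hξζ, hξmax, hξdim⟩ := exists_max_relDim_eq ζ
  obtain ⟨E0, hE0⟩ := Groth.Agent.ResQuot2H8.exists_trdeg_nat f ξ
  have hE0' : Dual3.resTrdeg f ξ = E0 := hE0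
  have hfξ : FlatMor.fibreDimAt f ξ = ((E0 : ℕ) : WithBot ℕ∞) := by
    rw [FibGenH8.fibreDimAt_of_isMax f _ hξmax, hE0', Cardinal.toENat_nat]
    rfl
  have hsemi := FibGenH8.fibreDimAt_le_of_specializes f hξζ
  rw [hfζ, hfξ] at hsemi
  have hsemi' : E0 ≤ EP := by exact_mod_cast hsemi
  have hF := formula f ζ ξ hξζ hcat EP E0 hEP' hE0'
  obtain ⟨a, ha⟩ := exists_nat_ringKrullDim (Y.presheaf.stalk (f.base ζ))
  obtain ⟨a0, ha0, ha0le⟩ := exists_nat_of_le_of_ne_bot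
    (relDim (f.base ζ) (f.base ξ) (hξζ.map f.continuous)) a
    (ha ▸ relDim_le _ _ _) (relDim_ne_bot _ _ _)
  rw [hξdim, hdζ, ha, ha0] at hF
  have hF' : a + EP = a0 + E0 := by exact_mod_cast hF
  have hE : E0 = EP := by omega
  have ha0eq : a0 = a := by omega
  have hmaxY := isMax_of_relDim_eq (f.base ζ) (f.base ξ) (hξζ.map f.continuous)
    (by rw [ha0, ha, ha0eq])
  have hη : f.base ξ = genericPoint Y :=
    (hmaxY _ (genericPoint_specializes (f.base ξ))).symm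
  refine ⟨ξ, hη, ?_⟩
  rw [← hζdim, hfζ, hfξ, hE]

theorem main [IrreducibleSpace Y] [IsLocallyNoetherian Y] (f : X ⟶ Y)
    [LocallyOfFiniteType f] (y : Y)
    (hcat : CAlg.IsUniversallyCatenary (Y.presheaf.stalk y))
    (hb : ∀ z : X, f.base z = y → (∀ z' : X, f.base z' = y → z ∈ closure {z'} → z' = z) →
      ringKrullDim (X.presheaf.stalk z) = ringKrullDim (Y.presheaf.stalk y)) :
    (fun Z : Set ↥(f.fiber y) => topologicalKrullDim ↥Z) '' irreducibleComponents ↥(f.fiber y) ⊆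
      (fun Z : Set ↥(f.fiber (genericPoint Y)) => topologicalKrullDim ↥Z) ''
        irreducibleComponents ↥(f.fiber (genericPoint Y)) ∧
      topologicalKrullDim ↥(f.fiber y) ≤ topologicalKrullDim ↥(f.fiber (genericPoint Y)) := by
  have hsub := dims_subset_generic f y hcat hb
  refine ⟨?_, ?_⟩
  · rw [CompDimsH8.dims_eq, CompDimsH8.dims_eq]
    exact hsub
  · rw [TopDimLocH8.topDim_le_iff_forall_localDim]
    intro p
    rw [OpenGenH8.localDim_fiber_eq]
    obtain ⟨ξ, hξ, hd⟩ := hsub ⟨_, Groth.Agent.FibRes2H8.fiberι_mem f y p, rfl⟩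
    rw [← hd]
    have h1 : (f.fiberι (genericPoint Y)).base ((f.fiberHomeo (genericPoint Y)).symm ⟨ξ, hξ⟩) = ξ :=
      f.fiberι_fiberHomeo_symm _ _
    rw [← h1, ← OpenGenH8.localDim_fiber_eq]
    exact TopDimLocH8.localDim_le_topDim _ _

end RelDimH8
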