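import Mathlib
import Groth.Prelude.Def_EGA43
import Groth.Agent.Lib.RelDim2_helper8
import Groth.Agent.Lib.FibClos_helper8
import Groth.Agent.Lib.SubComp_helper8

/-! EGA IV 13.3.x: conditions (b) and (c). -/

universe u
open AlgebraicGeometry CategoryTheory TopologicalSpace IsLocalRing

namespace RelDimH8

open Equi133H8

variable {X Y : Scheme.{u}}

theorem topDim_eq_bot_of_isEmpty' (T : Type*) [TopologicalSpace T] [IsEmpty T] :
    topologicalKrullDim T = ⊥ := by
  unfold topologicalKrullDim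
  haveI : IsEmpty (IrreducibleCloseds T) :=
    ⟨fun s => by obtain ⟨t, _⟩ := s.isIrreducible'.nonempty; exact isEmptyElim t⟩
  exact Order.krullDim_eq_bot

theorem relDim_genericPoint [IrreducibleSpace Y] [IsLocallyNoetherian Y] (y : Y) :
    relDim y (genericPoint Y) (genericPoint_specializes y) =
      ringKrullDim (Y.presheaf.stalk y) := by
  obtain ⟨ξ, hξy, hξmax, hξdim⟩ := exists_max_relDim_eq y
  have : genericPoint Y = ξ := hξmax _ (genericPoint_specializes ξ)
  rw [relDim_congr rfl this _ hξy]; exact hξdim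

theorem fibCoh_eq_zero_of_dim (f : X ⟶ Y) (z : X)
    (hz0 : ringKrullDim ((f.fiber (f.base z)).presheaf.stalk (f.asFiber z)) = 0) :
    FibCohH8.fibCoh f z = 0 := by
  rw [FibCohH8.stalk_fiber_eq_fibCoh] at hz0
  exact_mod_cast hz0

theorem b_imp_c [IrreducibleSpace Y] [IsLocallyNoetherian Y] (f : X ⟶ Y)
    [LocallyOfFiniteType f] (z : X)
    (hz0 : ringKrullDim ((f.fiber (f.base z)).presheaf.stalk (f.asFiber z)) = 0)
    (hdz : ringKrullDim (X.presheaf.stalk z) = ringKrullDim (Y.presheaf.stalk (f.base z))) :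
    ∃ X' ∈ irreducibleComponents (X : Type u), z ∈ X' ∧
      topologicalKrullDim ↥(X' ∩ f.base ⁻¹' {genericPoint Y}) = FlatMor.fibreDimAt f z := by
  haveI : IsLocallyNoetherian X := LocallyOfFiniteType.isLocallyNoetherian f
  have hcoh0 := fibCoh_eq_zero_of_dim f z hz0
  obtain ⟨EP, hEP⟩ := Groth.Agent.ResQuot2H8.exists_trdeg_nat f z
  have hEP' : Dual3.resTrdeg f z = EP := hEP
  have hfz : FlatMor.fibreDimAt f z = ((EP : ℕ) : WithBot ℕ∞) := by
    rw [FibCohH8.fibreDimAt_eq f z, hEP', Cardinal.toENat_nat, hcoh0]; simp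
  obtain ⟨ξ, hξz, hξmax, hξdim⟩ := exists_max_relDim_eq z
  obtain ⟨E0, hE0⟩ := Groth.Agent.ResQuot2H8.exists_trdeg_nat f ξ
  have hE0' : Dual3.resTrdeg f ξ = E0 := hE0
  have hfξ : FlatMor.fibreDimAt f ξ = ((E0 : ℕ) : WithBot ℕ∞) := by
    rw [FibGenH8.fibreDimAt_of_isMax f _ hξmax, hE0', Cardinal.toENat_nat]
    rfl
  have hsemi := FibGenH8.fibreDimAt_le_of_specializes f hξz
  rw [hfz, hfξ] at hsemi
  have hsemi' : E0 ≤ EP := by exact_mod_cast hsemi
  have hF := ineq f z ξ hξz EP E0 hEP' hE0'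
  obtain ⟨a, ha⟩ := exists_nat_ringKrullDim (Y.presheaf.stalk (f.base z))
  obtain ⟨a0, ha0, ha0le⟩ := exists_nat_of_le_of_ne_bot
    (relDim (f.base z) (f.base ξ) (hξz.map f.continuous)) a
    (ha ▸ relDim_le _ _ _) (relDim_ne_bot _ _ _)
  rw [hξdim, hdz, ha, ha0] at hF
  have hF' : a + EP ≤ a0 + E0 := by exact_mod_cast hF
  have hE : E0 = EP := by omega
  have ha0eq : a0 = a := by omega
  have hmaxY := isMax_of_relDim_eq (f.base z) (f.base ξ) (hξz.map f.continuous)
    (by rw [ha0, ha, ha0eq])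
  have hη : f.base ξ = genericPoint Y :=
    (hmaxY _ (genericPoint_specializes (f.base ξ))).symm
  refine ⟨closure {ξ}, (SubCompH8.closure_mem_irreducibleComponents_iff ξ).mpr hξmax,
    specializes_iff_mem_closure.mp hξz, ?_⟩
  rw [← hη, FibClosH8.dim_closure_inter_fiber, hE0', Cardinal.toENat_nat, hfz, hE]
  rfl

theorem c_imp_b [IrreducibleSpace Y] [IsLocallyNoetherian Y] (f : X ⟶ Y)
    [LocallyOfFiniteType f] (z : X)
    (hcat : CAlg.IsUniversallyCatenary (Y.presheaf.stalk (f.base z)))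
    (hz0 : ringKrullDim ((f.fiber (f.base z)).presheaf.stalk (f.asFiber z)) = 0)
    (hc : ∃ X' ∈ irreducibleComponents (X : Type u), z ∈ X' ∧
      topologicalKrullDim ↥(X' ∩ f.base ⁻¹' {genericPoint Y}) = FlatMor.fibreDimAt f z) :
    ringKrullDim (X.presheaf.stalk z) = ringKrullDim (Y.presheaf.stalk (f.base z)) := by
  haveI : IsLocallyNoetherian X := LocallyOfFiniteType.isLocallyNoetherian f
  have hcoh0 := fibCoh_eq_zero_of_dim f z hz0
  obtain ⟨EP, hEP⟩ := Groth.Agent.ResQuot2H8.exists_trdeg_nat f z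
  have hEP' : Dual3.resTrdeg f z = EP := hEP
  have hfz : FlatMor.fibreDimAt f z = ((EP : ℕ) : WithBot ℕ∞) := by
    rw [FibCohH8.fibreDimAt_eq f z, hEP', Cardinal.toENat_nat, hcoh0]; simp
  obtain ⟨X', hX', hzX', hdim⟩ := hc
  obtain ⟨ξ, hX'eq, hξmax0, -⟩ :=
    Groth.Agent.FlatFibDimH8.exists_generic_of_mem_irreducibleComponents X X' hX'
  have hξmax : ∀ b : X, b ⤳ ξ → b = ξ := by
    intro b hb
    have h1 : ξ ≤ b := hb
    have h2 : ξ ⤳ b := hξmax0 h1
    exact (hb.antisymm h2).eq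
  have hξz : ξ ⤳ z := by
    rw [hX'eq] at hzX'
    exact specializes_iff_mem_closure.mpr hzX'
  have hne : (X' ∩ f.base ⁻¹' {genericPoint Y}).Nonempty := by
    by_contra hemp
    rw [Set.not_nonempty_iff_eq_empty] at hemp
    haveI : IsEmpty ↥(X' ∩ f.base ⁻¹' {genericPoint Y}) := by
      rw [hemp]; infer_instance
    rw [topDim_eq_bot_of_isEmpty', hfz] at hdim
    exact absurd hdim.symm (by simp)
  obtain ⟨w, hwX', hwη⟩ := hne
  have hη : f.base ξ = genericPoint Y := by
    have h1 : ξ ⤳ w := by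
      rw [hX'eq] at hwX'
      exact specializes_iff_mem_closure.mpr hwX'
    have h2 : f.base ξ ⤳ genericPoint Y := by
      have := h1.map f.continuous
      rwa [show f.base w = genericPoint Y from hwη] at this
    exact (h2.antisymm (genericPoint_specializes (f.base ξ))).eq
  obtain ⟨E0, hE0⟩ := Groth.Agent.ResQuot2H8.exists_trdeg_nat f ξ
  have hE0' : Dual3.resTrdeg f ξ = E0 := hE0
  have hE : E0 = EP := by
    rw [hX'eq, ← hη, FibClosH8.dim_closure_inter_fiber, hE0', Cardinal.toENat_nat, hfz] at hdim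
    have : ((E0 : ℕ) : WithBot ℕ∞) = ((EP : ℕ) : WithBot ℕ∞) := hdim
    exact_mod_cast this
  have hF := formula f z ξ hξz hcat EP E0 hEP' hE0'
  rw [relDim_congr rfl hη _ (genericPoint_specializes _), relDim_genericPoint] at hF
  obtain ⟨a, ha⟩ := exists_nat_ringKrullDim (Y.presheaf.stalk (f.base z))
  obtain ⟨b, hb⟩ := exists_nat_ringKrullDim (X.presheaf.stalk z)
  obtain ⟨r, hr, hrb⟩ := exists_nat_of_le_of_ne_bot (relDim z ξ hξz) b
    (hb ▸ relDim_le _ _ _) (relDim_ne_bot _ _ _)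
  rw [hr, ha] at hF
  have hF' : r + EP = a + E0 := by exact_mod_cast hF
  have hle := dim_stalk_le f z
  rw [hz0, add_zero, hb, ha] at hle
  have hle' : b ≤ a := by exact_mod_cast hle
  rw [hb, ha]
  have : b = a := by omega
  exact_mod_cast this

end RelDimH8
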