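import Mathlib
import Groth.Prelude
import Groth.Agent.Lib.ContraLES1_helper2

/-!
# Abstract tools for coherence of relative Ext sheaves (helper2)

* `pw A k`: the direct sum of `k + 1` copies of `A`;
* `exists_epi_pw`: generation by finitely many sections after applying a fully faithful functor;
* `isZero_rightDerived_pw`: the class of first arguments with vanishing `RᵠΦ(-)(G)` is stable under
  finite direct sums.
APPEND-ONLY once landed.
-/

set_option autoImplicit false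
universe v₁ v₂ v₃ u₁ u₂ u₃
open CategoryTheory CategoryTheory.Limits Opposite

namespace Groth.Agent.Lib.RelExtCohH2
open Groth.Agent.Lib.ContraLESH2

section Abstract

variable {𝒞 : Type u₁} [Category.{v₁} 𝒞] [Abelian 𝒞]

/-- the direct sum of `k + 1` copies of `A` -/
noncomputable def pw (A : 𝒞) : ℕ → 𝒞
  | 0 => A
  | (k + 1) => A ⊞ pw A k

/-- the map out of `pw A k` given by `k` maps (and zero on the last summand) -/
noncomputable def dF {A F : 𝒞} : (k : ℕ) → (Fin k → (A ⟶ F)) → (pw A k ⟶ F)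
  | 0, _ => 0
  | (k + 1), t => biprod.desc (t 0) (dF k (fun j => t j.succ))

theorem dF_comp_zero {A F C : 𝒞} (c : F ⟶ C) :
    ∀ (k : ℕ) (t : Fin k → (A ⟶ F)), dF k t ≫ c = 0 → ∀ j, t j ≫ c = 0
  | 0, _, _, j => j.elim0
  | (k + 1), t, h, j => by
    have hd : biprod.desc (t 0) (dF k (fun j => t j.succ)) ≫ c = 0 := h
    have h0 : t 0 ≫ c = 0 := by
      have h' : (biprod.inl : A ⟶ A ⊞ pw A k) ≫
          (biprod.desc (t 0) (dF k (fun j => t j.succ)) ≫ c) = 0 := by rw [hd, comp_zero]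
      rwa [biprod.inl_desc_assoc] at h'
    have h1 : dF k (fun j => t j.succ) ≫ c = 0 := by
      have h' : (biprod.inr : pw A k ⟶ A ⊞ pw A k) ≫
          (biprod.desc (t 0) (dF k (fun j => t j.succ)) ≫ c) = 0 := by rw [hd, comp_zero]
      rwa [biprod.inr_desc_assoc] at h'
    exact Fin.cases h0 (fun j' => dF_comp_zero c k _ h1 j') j

/-- If `T` is full and faithful, `T A ≅ O`, and `k` maps `O ⟶ T F` are jointly epimorphic, then `F` is a
quotient of `pw A k`. -/
theorem exists_epi_pw (T : 𝒞 ⥤ 𝒞) [T.Full] [T.Faithful] [T.PreservesZeroMorphisms] {A O F : 𝒞}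
    (φ : T.obj A ≅ O) (k : ℕ) (s : Fin k → (O ⟶ T.obj F))
    (hs : ∀ {C : 𝒞} (c : T.obj F ⟶ C), (∀ j, s j ≫ c = 0) → c = 0) :
    ∃ π : pw A k ⟶ F, Epi π := by
  let t : Fin k → (A ⟶ F) := fun j => T.preimage (φ.hom ≫ s j)
  refine ⟨dF k t, Preadditive.epi_of_cancel_zero _ (fun {C} c hc => ?_)⟩
  have h1 : ∀ j, t j ≫ c = 0 := dF_comp_zero c k t hc
  have h2 : T.map c = 0 := by
    apply hs
    intro j
    have h3 : T.map (t j) ≫ T.map c = 0 := by
      rw [← T.map_comp, h1 j, T.map_zero]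
    rw [T.map_preimage, Category.assoc] at h3
    have h4 : φ.hom ≫ (s j ≫ T.map c) = φ.hom ≫ 0 := by rw [h3, comp_zero]
    exact (cancel_epi φ.hom).1 h4
  apply T.map_injective
  rw [h2, T.map_zero]

variable {𝒜 : Type u₂} {ℬ : Type u₃} [Category.{v₂} 𝒜] [Category.{v₃} ℬ] [Abelian 𝒜] [Abelian ℬ]
  {Φ : 𝒞ᵒᵖ ⥤ 𝒜 ⥤ ℬ} (hΦ : IsGood Φ) [HasInjectiveResolutions 𝒜] [∀ M, (Φ.obj M).Additive]
  [∀ M, PreservesFiniteLimits (Φ.obj M)]

include hΦ in
/-- middle term of a short exact sequence -/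
theorem isZero_rightDerived_of_shortExact (S : ShortComplex 𝒞) (hS : S.ShortExact) (G : 𝒜) (q : ℕ)
    (h₁ : IsZero (((Φ.obj (op S.X₁)).rightDerived q).obj G))
    (h₃ : IsZero (((Φ.obj (op S.X₃)).rightDerived q).obj G)) :
    IsZero (((Φ.obj (op S.X₂)).rightDerived q).obj G) := by
  obtain ⟨-, hex, -⟩ := hΦ.les S hS G
  obtain ⟨w, ex⟩ := hex q
  exact ex.isZero_X₂ (h₃.eq_of_src _ _) (h₁.eq_of_tgt _ _)

include hΦ in
theorem isZero_rightDerived_pw (A : 𝒞) (G : 𝒜) (q : ℕ)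
    (h : IsZero (((Φ.obj (op A)).rightDerived q).obj G)) :
    ∀ k, IsZero (((Φ.obj (op (pw A k))).rightDerived q).obj G)
  | 0 => h
  | (k + 1) => by
    let S : ShortComplex 𝒞 :=
      ShortComplex.mk (biprod.inl : A ⟶ A ⊞ pw A k) biprod.snd (by simp)
    have hS : S.ShortExact := (ShortComplex.Splitting.ofHasBinaryBiproduct A (pw A k)).shortExact
    exact isZero_rightDerived_of_shortExact hΦ S hS G q h (isZero_rightDerived_pw A G q h k)

end Abstract

end Groth.Agent.Lib.RelExtCohH2
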