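import Mathlib
import Groth.Prelude
import Groth.Agent.Lib.RelExtCoh1_helper2
import Groth.Agent.Lib.RelExtSch1_helper2
import Groth.Agent.Lib.RelExtProj2_helper2
import Groth.Agent.Lib.RestrHom1_helper2
import Groth.Agent.Lib.ExtShCoh1_helper2
import Groth.Agent.Lib.TensInv2_helper9
import Groth.Agent.Lib.NegPow_helper5
import Groth.Agent.Lib.Tens29_helper8
import Groth.Agent.Lib.FinGG_helper5
import Groth.Agent.Lib.RelAmpleVan_helper9
import Groth.Agent.Lib.RelAmpleCrit_helper9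
import Groth.Agent.Lib.GEx10_helper2
import Groth.Agent.Lib.CohDev2_helper8
import Groth.Agent.Lib.Tens45_helper8
import Groth.Agent.Lib.InvTensP2_helper5
import Groth.Agent.Lib.VAmpPn9_helper5
import Groth.Agent.Lib.KRRReg1_helper9
import Groth.Agent.Lib.ProjSpaceProper_helper4

/-!
# Coherence of the relative Ext sheaves of a projective morphism (helper2)
APPEND-ONLY once landed.
-/

set_option autoImplicit false
set_option maxHeartbeats 1600000
set_option linter.style.haveILetI false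
universe u
open CategoryTheory CategoryTheory.Limits Opposite AlgebraicGeometry TopologicalSpace

namespace Groth.Agent.Lib.RelExtCohH2
open ModSite Groth.Agent.Lib.ModSiteH8 Groth.Agent.Lib.ContraLESH2 Groth.Agent.Lib.RelExtSchH2
  Groth.Agent.TensInv

noncomputable section

variable {Z W : Scheme.{u}}

attribute [local instance] Groth.Agent.Lib.ExtShCohH2.hsh Groth.Agent.Lib.ExtShCohH2.hir
  Groth.Agent.Lib.RelExtSchH2.pf_additive Groth.Agent.Lib.RelExtSchH2.pf_isRightAdjoint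

/-- `- ⊗ B` on `Mod Z.sheaf` -/
abbrev tRn (B : ModSite.Mod Z.sheaf) : ModSite.Mod Z.sheaf ⥤ ModSite.Mod Z.sheaf :=
  (tensorBi Z.sheaf).flip.obj B

/-- for `A ⊗ B ≅ O`: `𝓗om(A, -) ≅ - ⊗ B` -/
def sheafHomInvIso (A B : ModSite.Mod Z.sheaf)
    (e : ((tensorBi Z.sheaf).obj A).obj B ≅ ModSite.unit Z.sheaf) :
    ModSite.sheafHom (O := Z.sheaf) A ≅ tRn B :=
  Adjunction.rightAdjointUniq (ModSite.sheafHomAdj (O := Z.sheaf) A)
    (tensorRightEquiv Z.sheaf A B e).toAdjunction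

theorem isZero_relExt_inverse (g : Z ⟶ W) (A B : Z.Modules) (hB : FlatMod.IsFinLocFree B)
    (e : CohB1.tensorMod A B ≅ Coh.structureModule Z) (G : ModSite.Mod Z.sheaf) (q : ℕ)
    (h : IsZero (((Scheme.Modules.pushforward g :
      ModSite.Mod Z.sheaf ⥤ W.Modules).rightDerived q).obj ((tRn B).obj G))) :
    IsZero ((((relHomF g).obj (op A)).rightDerived q).obj G) := by
  haveI := Groth.Agent.Lib.RelExtProjH2.tRm_preservesFiniteLimits B hB
  haveI := Groth.Agent.Lib.RelExtProjH2.tRm_preservesInjectiveObjects B hB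
  haveI : PreservesFiniteColimits (tRn B) := by
    haveI : (tRn B).IsLeftAdjoint := (ModSite.sheafHomAdj (O := Z.sheaf) B).isLeftAdjoint
    infer_instance
  let e1 : (relHomF g).obj (op A) ≅
      tRn B ⋙ (Scheme.Modules.pushforward g : ModSite.Mod Z.sheaf ⥤ W.Modules) :=
    Functor.isoWhiskerRight (sheafHomInvIso A B e) _
  let e2 := DerivedCommH8.rightDerivedNatIso e1 q
  let e3 := DerivedCommH8.rightDerivedPrecompIso (tRn B)
    (Scheme.Modules.pushforward g : ModSite.Mod Z.sheaf ⥤ W.Modules) q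
  exact IsZero.of_iso h (e2.app G ≪≫ e3.app G)

theorem isCoh_pw {A : ModSite.Mod Z.sheaf} (hA : Coh.IsCoh A) : ∀ k, Coh.IsCoh (pw A k)
  | 0 => hA
  | (k + 1) => CohDevH8.isCoh_biprod hA (isCoh_pw hA k)

/-- a coherent module is a quotient of a finite direct sum of copies of a negative power of an ample
module -/
theorem exists_epi_pw_of_ample [IsLocallyNoetherian Z] [CompactSpace Z] {L M : Z.Modules}
    (hL : CohB1.IsAmple L) (ε : CohB1.tensorMod L M ≅ Coh.structureModule Z)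
    (F : ModSite.Mod Z.sheaf) (hF : Coh.IsCoh F) (m₀ : ℕ) :
    ∃ n, m₀ ≤ n ∧ ∃ (k : ℕ)
      (π : pw (𝒞 := ModSite.Mod Z.sheaf) (CohB1.tensorPow M n) k ⟶ F), Epi π := by
  obtain ⟨n₀, hn₀⟩ := TensH8.exists_isGloballyGenerated_twist hL F hF
  have hgg := hn₀ (max n₀ m₀) (le_max_left _ _)
  have hLn := TensH8.isInvertible_tensorPow hL.1 (max n₀ m₀)
  have hc : Coh.IsCoh (CohB1.tensorMod F (CohB1.tensorPow L (max n₀ m₀))) :=
    RelAmpleVanH9.isCoh_tensorMod hF (ProperFinH9.isCoh_of_isInvertible hLn)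
  haveI := hc.1
  haveI : SheafOfModules.IsFiniteType (R := Z.ringCatSheaf)
    (CohB1.tensorMod F (CohB1.tensorPow L (max n₀ m₀))) := hc.2
  obtain ⟨k, p, hp⟩ := Groth.Agent.FinGG.exists_epi_freeMod _ hgg
  obtain ⟨εn⟩ := Groth.Agent.NegPow.tensorPow_inverse ε (max n₀ m₀)
  haveI : (tRn (CohB1.tensorPow L (max n₀ m₀))).IsEquivalence :=
    isEquivalence_flip Z.sheaf (CohB1.tensorPow L (max n₀ m₀)) (CohB1.tensorPow M (max n₀ m₀)) εn
  haveI : (tRn (CohB1.tensorPow L (max n₀ m₀))).PreservesZeroMorphisms :=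
    Functor.preservesZeroMorphisms_of_isLeftAdjoint _
  let φ : (tRn (CohB1.tensorPow L (max n₀ m₀))).obj (CohB1.tensorPow M (max n₀ m₀)) ≅
      Coh.structureModule Z := comm _ _ ≪≫ εn
  obtain ⟨π, hπ⟩ := exists_epi_pw (tRn (CohB1.tensorPow L (max n₀ m₀))) φ k
    (fun j => Sigma.ι (fun _ : Fin k => Coh.structureModule Z) j ≫ p) (by
      intro C c hc
      have h1 : p ≫ c = 0 := by
        apply Sigma.hom_ext
        intro j
        rw [comp_zero, ← Category.assoc]
        exact hc j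
      exact zero_of_epi_comp p h1)
  exact ⟨max n₀ m₀, le_max_right _ _, k, π, hπ⟩

theorem isCoh_relExt_zero (g : Z ⟶ W) [IsProper g] [IsLocallyNoetherian W] [IsLocallyNoetherian Z]
    (F G : ModSite.Mod Z.sheaf) (hF : Coh.IsCoh F) (hG : Coh.IsCoh G) :
    Coh.IsCoh ((((relHomF g).obj (op F)).rightDerived 0).obj G) := by
  have h1 : Coh.IsCoh ((Scheme.Modules.pushforward g).obj
      ((ModSite.sheafHom (O := Z.sheaf) F).obj G)) :=
    Groth.Agent.Lib.GExH2.isCoh_pushforward g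
      (Groth.Agent.Lib.ExtShCohH2.isCoh_sheafHom F G hF hG)
  exact Groth.Agent.Lib.RelPCPropH3.isCoh_of_iso
    (((relHomF g).obj (op F)).rightDerivedZeroIsoSelf.app G) h1

/-- the inductive step -/
theorem isCoh_relExt_succ (g : Z ⟶ W) [IsNoetherian W] [IsProper g] {L M : Z.Modules}
    (hL : CohB1.IsAmple L) (ε : CohB1.tensorMod L M ≅ Coh.structureModule Z) (p : ℕ)
    (IH : ∀ F G : ModSite.Mod Z.sheaf, Coh.IsCoh F → Coh.IsCoh G →
      Coh.IsCoh ((((relHomF g).obj (op F)).rightDerived p).obj G))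
    (F G : ModSite.Mod Z.sheaf) (hF : Coh.IsCoh F) (hG : Coh.IsCoh G) :
    Coh.IsCoh ((((relHomF g).obj (op F)).rightDerived (p + 1)).obj G) := by
  haveI : IsLocallyNoetherian Z := LocallyOfFiniteType.isLocallyNoetherian g
  haveI : CompactSpace Z := QuasiCompact.compactSpace_of_compactSpace g
  have ha : ∀ W' : W.Opens, IsAffineOpen W' → CohB1.IsAmple (L.restrict (g ⁻¹ᵁ W').ι) := by
    intro W' hW'
    haveI : CompactSpace (g ⁻¹ᵁ W').toScheme :=
      isCompact_iff_compactSpace.mp (g.isCompact_preimage hW'.isCompact)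
    exact TensH8.isAmple_restrict _ hL
  obtain ⟨n₀, hn₀⟩ := RelAmpleVanH9.relative_vanishing g L hL.1 ha G hG
  obtain ⟨n, hn, k, π, hπ⟩ := exists_epi_pw_of_ample hL ε F hF n₀
  have hMinv : PicF.IsInvertible M := InvTensH8.isInvertible_of_tensor_iso (comm M L ≪≫ ε)
  have hA : Coh.IsCoh (CohB1.tensorPow M n) :=
    ProperFinH9.isCoh_of_isInvertible (TensH8.isInvertible_tensorPow hMinv n)
  have hB : FlatMod.IsFinLocFree (CohB1.tensorPow L n) :=
    TensH8.isFinLocFree_of_isInvertible (TensH8.isInvertible_tensorPow hL.1 n)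
  obtain ⟨εn⟩ := Groth.Agent.NegPow.tensorPow_inverse ε n
  have hz : IsZero ((Coh.Rpush g (p + 1)).obj (CohB1.tensorMod G (CohB1.tensorPow L n))) :=
    (RelAmpleCrit.isZero_Rpush_iff g (p + 1) _).2 (hn₀ n hn (p + 1) (Nat.succ_pos p))
  have hzA : IsZero ((((relHomF g).obj (op (CohB1.tensorPow M n))).rightDerived (p + 1)).obj G) :=
    isZero_relExt_inverse g (CohB1.tensorPow M n) (CohB1.tensorPow L n) hB (comm _ _ ≪≫ εn) G
      (p + 1) hz
  have hzE := isZero_rightDerived_pw (isGood_relHomF g) (CohB1.tensorPow M n) G (p + 1) hzA k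
  have hE : Coh.IsCoh (pw (𝒞 := ModSite.Mod Z.sheaf) (CohB1.tensorPow M n) k) := isCoh_pw hA k
  have hK : Coh.IsCoh (kernel π) := CohKerH8.isCoh_kernel hE hF π
  have hm : Mono (kernel.ι π) := inferInstance
  let S : ShortComplex (ModSite.Mod Z.sheaf) := ShortComplex.mk (kernel.ι π) π (kernel.condition π)
  have hS : S.ShortExact :=
    { exact := ShortComplex.exact_of_f_is_kernel _ (kernelIsKernel π)
      mono_f := hm
      epi_g := hπ }
  obtain ⟨-, -, δ, hδ⟩ := (isGood_relHomF g).les S hS G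
  obtain ⟨⟨w1, ex1⟩, ⟨w2, ex2⟩⟩ := hδ p
  have hcz : Coh.IsCoh ((((relHomF g).obj (op S.X₂)).rightDerived (p + 1)).obj G) :=
    Groth.Agent.Lib.LocTorCohH3.isCoh_of_isZero' hzE
  exact Groth.Agent.Lib.CohSerreH3.isCoh_five_term
    ((NatTrans.rightDerived ((relHomF g).map S.f.op) p).app G) (δ p)
    ((NatTrans.rightDerived ((relHomF g).map S.g.op) (p + 1)).app G)
    (0 : (((relHomF g).obj (op S.X₂)).rightDerived (p + 1)).obj G ⟶
      (((relHomF g).obj (op S.X₂)).rightDerived (p + 1)).obj G)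
    w1 w2 comp_zero ex1 ex2 (ShortComplex.exact_of_isZero_X₂ _ hzE)
    (IH _ G hE hG) (IH _ G hK hG) hcz hcz

/-- relative Ext sheaves of coherent modules are coherent, for a proper morphism to a Noetherian scheme
whose source carries an ample invertible module -/
theorem isCoh_relExt_of_ample (g : Z ⟶ W) [IsNoetherian W] [IsProper g] {L M : Z.Modules}
    (hL : CohB1.IsAmple L) (ε : CohB1.tensorMod L M ≅ Coh.structureModule Z) :
    ∀ (p : ℕ) (F G : ModSite.Mod Z.sheaf), Coh.IsCoh F → Coh.IsCoh G →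
      Coh.IsCoh ((((relHomF g).obj (op F)).rightDerived p).obj G)
  | 0, F, G, hF, hG => by
    haveI : IsLocallyNoetherian Z := LocallyOfFiniteType.isLocallyNoetherian g
    exact isCoh_relExt_zero g F G hF hG
  | (p + 1), F, G, hF, hG =>
    isCoh_relExt_succ g hL ε p (isCoh_relExt_of_ample g hL ε p) F G hF hG

/-- relative Ext sheaves of coherent modules are coherent, for a proper morphism to a Noetherian scheme
with a relatively ample invertible module -/
theorem isCoh_relExt_of_relAmple {X Y : Scheme.{u}} [IsNoetherian Y] (f : X ⟶ Y) [IsProper f]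
    (L : X.Modules) (hL : PicF.IsInvertible L) (hamp : RelAmple.IsRelAmple f L)
    (F G : ModSite.Mod X.sheaf) (hF : Coh.IsCoh F) (hG : Coh.IsCoh G) (p : ℕ) :
    Coh.IsCoh ((((relHomF f).obj (op F)).rightDerived p).obj G) := by
  apply Groth.Agent.Lib.RelPCPropH3.isCoh_of_forall_point
  intro y
  obtain ⟨W₀, hW₀, hyW₀, -⟩ := (Opens.isBasis_iff_nbhd.mp Y.isBasis_affineOpens)
    (show y ∈ (⊤ : Y.Opens) from trivial)
  obtain ⟨W, hW, hyW⟩ : ∃ W : Y.Opens, IsAffineOpen W ∧ y ∈ W := ⟨W₀, hW₀, hyW₀⟩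
  refine ⟨W, hyW, ?_⟩
  haveI : IsAffine (W : Scheme.{u}) := hW
  haveI : IsNoetherian (W : Scheme.{u}) :=
    { toIsLocallyNoetherian := inferInstance
      toCompactSpace := inferInstance }
  haveI : IsProper (f ∣_ W) := IsZariskiLocalAtTarget.restrict ‹IsProper f› W
  obtain ⟨e⟩ := Groth.Agent.Lib.RestrHomH2.main16281 f W F G p
  have hLW : CohB1.IsAmple (L.restrict (f ⁻¹ᵁ W).ι) := hamp.2 ⟨W, hW⟩
  obtain ⟨M, -, ⟨ε⟩⟩ := Groth.Agent.InvTensP.exists_inverse _ hLW.1
  have hFW : Coh.IsCoh ((Groth.Agent.Lib.RestrHomH2.jS (f ⁻¹ᵁ W)).obj F) :=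
    Groth.Agent.Lib.RelPCPropH3.isCoh_restrict (f ⁻¹ᵁ W).ι F hF
  have hGW : Coh.IsCoh ((Groth.Agent.Lib.RestrHomH2.jS (f ⁻¹ᵁ W)).obj G) :=
    Groth.Agent.Lib.RelPCPropH3.isCoh_restrict (f ⁻¹ᵁ W).ι G hG
  have h2 := isCoh_relExt_of_ample (f ∣_ W) hLW ε p _ _ hFW hGW
  exact Groth.Agent.Lib.RelPCPropH3.isCoh_of_iso e h2

/-- **S16280** -/
theorem main16280 (X Y : Scheme.{u}) [IsNoetherian Y] (f : X ⟶ Y) (n : ℕ)
    (e : X ⟶ CohB1.ProjSpaceOver n Y) [IsClosedImmersion e]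
    (he : e ≫ CohB1.ProjSpaceOver.toBase n Y = f)
    (F G : ModSite.Mod X.sheaf) (hF : Coh.IsCoh F) (hG : Coh.IsCoh G) (p : ℕ) :
    Coh.IsCoh ((((relHomF f).obj (op F)).rightDerived p).obj G) := by
  haveI hb := Groth.Agent.Lib.ProjSpaceProperH4.isProper_toBase n Y
  haveI : IsProper f := by
    rw [← he]
    infer_instance
  have hL : PicF.IsInvertible ((Scheme.Modules.pullback e).obj (Twist.twistOver n Y 1)) :=
    TensH8.isInvertible_pullback e (KRRRegH9.isInvertible_twistOver n Y 1)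
  have hva : RelAmple.IsRelVeryAmplePn f ((Scheme.Modules.pullback e).obj (Twist.twistOver n Y 1)) :=
    ⟨n, e, inferInstance, he, ⟨Iso.refl _⟩⟩
  exact isCoh_relExt_of_relAmple f _ hL
    (Groth.Agent.VAmpPn.isRelAmple_of_isRelVeryAmplePn f hva) F G hF hG p

end

end Groth.Agent.Lib.RelExtCohH2
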