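import Mathlib
import Groth.Prelude
import Groth.Agent.Lib.RelExtCoh2_helper2
import Groth.Agent.Lib.SSCollapse1_helper2
import Groth.Agent.Lib.TensPowApi_helper9
import Groth.Agent.S16283

/-!
# `g_* 𝓔xt^p_f(F, G(l)) ≅ 𝓔xt^p_{gf}(F, G(l))` for `l` large (helper2)
APPEND-ONLY once landed.
-/

set_option autoImplicit false
set_option maxHeartbeats 1600000
set_option linter.style.haveILetI false
universe u
open CategoryTheory CategoryTheory.Limits Opposite AlgebraicGeometry TopologicalSpace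

namespace Groth.Agent.Lib.RelExtCohH2
open ModSite Groth.Agent.Lib.ModSiteH8 Groth.Agent.Lib.ContraLESH2 Groth.Agent.Lib.RelExtSchH2
  Groth.Agent.TensInv Groth.Agent.Lib.RelExtProjH2

noncomputable section

attribute [local instance] Groth.Agent.Lib.ExtShCohH2.hsh Groth.Agent.Lib.ExtShCohH2.hir
  Groth.Agent.Lib.RelExtProjH2.pfm_additive Groth.Agent.Lib.RelExtProjH2.pfm_isRightAdjoint

/-- `𝓔xt^b_f(F, G ⊗ f^*N) ≅ 𝓔xt^b_f(F, G) ⊗ N` for `N` finite locally free -/
theorem nonempty_relExt_twist_iso {X Y : Scheme.{u}} (f : X ⟶ Y) (F G : X.Modules) (N : Y.Modules)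
    (hN : FlatMod.IsFinLocFree N) (b : ℕ) :
    Nonempty (((ModSite.sheafHom (O := X.sheaf) F ⋙ pfm f).rightDerived b).obj
        (CohB1.tensorMod G ((Scheme.Modules.pullback f).obj N)) ≅
      CohB1.tensorMod (((ModSite.sheafHom (O := X.sheaf) F ⋙ pfm f).rightDerived b).obj G) N) := by
  have hE : FlatMod.IsFinLocFree ((Scheme.Modules.pullback f).obj N) :=
    PBH8.isFinLocFree_pullback f hN
  haveI := tRm_preservesFiniteLimits ((Scheme.Modules.pullback f).obj N) hE
  haveI := tRm_preservesInjectiveObjects ((Scheme.Modules.pullback f).obj N) hE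
  haveI := tRm_preservesFiniteLimits N hN
  let e6 := DerivedCommH8.rightDerivedBaseChange (ModSite.sheafHom (O := X.sheaf) F ⋙ pfm f)
    (ModSite.sheafHom (O := X.sheaf) F ⋙ pfm f) (tRm ((Scheme.Modules.pullback f).obj N)) (tRm N)
    (gammaIso f F N hN) b
  exact ⟨(e6.app G).symm⟩

/-- Serre vanishing for the twists of a relative Ext sheaf -/
theorem exists_isZero_Rpush_relExt_twist (Z : Scheme.{u}) [IsNoetherian Z] (m : ℕ)
    (Y : Scheme.{u}) (g : Y ⟶ Z) (e' : Y ⟶ CohB1.ProjSpaceOver m Z) [IsClosedImmersion e']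
    (he' : e' ≫ CohB1.ProjSpaceOver.toBase m Z = g)
    (n : ℕ) (X : Scheme.{u}) (f : X ⟶ Y) (e : X ⟶ CohB1.ProjSpaceOver n Y) [IsClosedImmersion e]
    (he : e ≫ CohB1.ProjSpaceOver.toBase n Y = f)
    (F G : X.Modules) (hF : Coh.IsCoh F) (hG : Coh.IsCoh G) (b : ℕ) :
    ∃ l₀ : ℕ, ∀ l : ℕ, l₀ ≤ l → ∀ a : ℕ, 0 < a →
      IsZero ((Coh.Rpush g a).obj (((ModSite.sheafHom (O := X.sheaf) F ⋙ pfm f).rightDerived b).obj
        (CohB1.tensorMod G ((Scheme.Modules.pullback f).obj
          ((Scheme.Modules.pullback e').obj (Twist.twistOver m Z (l : ℤ))))))) := by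
  haveI hb := Groth.Agent.Lib.ProjSpaceProperH4.isProper_toBase m Z
  haveI : IsProper g := by
    rw [← he']
    infer_instance
  haveI : IsLocallyNoetherian Y := LocallyOfFiniteType.isLocallyNoetherian g
  haveI : CompactSpace Y := QuasiCompact.compactSpace_of_compactSpace g
  haveI : IsNoetherian Y := {}
  have hL : PicF.IsInvertible ((Scheme.Modules.pullback e').obj (Twist.twistOver m Z 1)) :=
    TensH8.isInvertible_pullback e' (KRRRegH9.isInvertible_twistOver m Z 1)
  have hva : RelAmple.IsRelVeryAmplePn g ((Scheme.Modules.pullback e').obj (Twist.twistOver m Z 1)) :=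
    ⟨m, e', inferInstance, he', ⟨Iso.refl _⟩⟩
  have hamp := Groth.Agent.VAmpPn.isRelAmple_of_isRelVeryAmplePn g hva
  have hM : Coh.IsCoh (((ModSite.sheafHom (O := X.sheaf) F ⋙ pfm f).rightDerived b).obj G) :=
    main16280 X Y f n e he F G hF hG b
  obtain ⟨l₀, hl₀⟩ := RelAmpleVanH9.relative_vanishing g _ hL
    (fun W hW => hamp.2 ⟨W, hW⟩) _ hM
  refine ⟨l₀, fun l hl a ha => ?_⟩
  have h1 := (RelAmpleCrit.isZero_Rpush_iff g a _).2 (hl₀ l hl a ha)
  have hNl : FlatMod.IsFinLocFree ((Scheme.Modules.pullback e').obj (Twist.twistOver m Z (l : ℤ))) :=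
    TensH8.isFinLocFree_of_isInvertible
      (TensH8.isInvertible_pullback e' (KRRRegH9.isInvertible_twistOver m Z (l : ℤ)))
  obtain ⟨i1⟩ := nonempty_relExt_twist_iso f F G _ hNl b
  obtain ⟨i2⟩ := TensPowH9.pullback_twistOver_pow m Z e' l
  exact IsZero.of_iso h1 ((Coh.Rpush g a).mapIso (i1 ≪≫ mapL _ i2.symm))

/-- **S16284** -/
theorem main16284 (Z : Scheme.{u}) [IsNoetherian Z] (m : ℕ)
    (Y : Scheme.{u}) (g : Y ⟶ Z) (e' : Y ⟶ CohB1.ProjSpaceOver m Z) [IsClosedImmersion e']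
    (he' : e' ≫ CohB1.ProjSpaceOver.toBase m Z = g)
    (n : ℕ) (X : Scheme.{u}) (f : X ⟶ Y) (e : X ⟶ CohB1.ProjSpaceOver n Y) [IsClosedImmersion e]
    (he : e ≫ CohB1.ProjSpaceOver.toBase n Y = f)
    (F G : X.Modules) (hF : Coh.IsCoh F) (hG : Coh.IsCoh G) (p : ℕ)
    [(ModSite.sheafHom (O := X.sheaf) F ⋙ Scheme.Modules.pushforward f).Additive]
    [(ModSite.sheafHom (O := X.sheaf) F ⋙ Scheme.Modules.pushforward (f ≫ g)).Additive] :
    ∃ l₀ : ℕ, ∀ l : ℕ, l₀ ≤ l →
      Nonempty ((Scheme.Modules.pushforward g).obj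
          (((ModSite.sheafHom (O := X.sheaf) F ⋙ Scheme.Modules.pushforward f).rightDerived p).obj
          (CohB1.tensorMod G ((Scheme.Modules.pullback f).obj
            ((Scheme.Modules.pullback e').obj (Twist.twistOver m Z (l : ℤ)))))) ≅
        ((ModSite.sheafHom (O := X.sheaf) F ⋙
            Scheme.Modules.pushforward (f ≫ g)).rightDerived p).obj
          (CohB1.tensorMod G ((Scheme.Modules.pullback f).obj
            ((Scheme.Modules.pullback e').obj (Twist.twistOver m Z (l : ℤ)))))) := by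
  haveI : HasInjectiveResolutions Y.Modules := Groth.Agent.Lib.ExtShCohH2.hir Y
  have hv := fun b : ℕ => exists_isZero_Rpush_relExt_twist Z m Y g e' he' n X f e he F G hF hG b
  choose n₀ hn₀ using hv
  refine ⟨(Finset.range p).sup n₀, fun l hl => ?_⟩
  have hvan : ∀ b : ℕ, b < p → ∀ a : ℕ, 0 < a →
      IsZero ((Coh.Rpush g a).obj
        (((ModSite.sheafHom (O := X.sheaf) F ⋙ Scheme.Modules.pushforward f).rightDerived b).obj
        (CohB1.tensorMod G ((Scheme.Modules.pullback f).obj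
          ((Scheme.Modules.pullback e').obj (Twist.twistOver m Z (l : ℤ))))))) := by
    intro b hb a ha
    exact hn₀ b l (le_trans (Finset.le_sup (Finset.mem_range.mpr hb)) hl) a ha
  obtain ⟨E, ab, hfin, -, hE2⟩ := Groth.Agent.S16283.result X Y Z f g F
    (CohB1.tensorMod G ((Scheme.Modules.pullback f).obj
      ((Scheme.Modules.pullback e').obj (Twist.twistOver m Z (l : ℤ)))))
  -- vanishing of the relevant `E₂`-terms
  have hz : ∀ a b : ℤ, a ≠ 0 → b < (p : ℤ) → IsZero ((E.page 2 le_rfl).X (a, b)) := by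
    intro a b ha hb
    obtain ⟨i⟩ := hE2 a b
    refine IsZero.of_iso ?_ i
    split_ifs with h
    · obtain ⟨h1, h2⟩ := h
      have ha' : 0 < a.toNat := by omega
      have hb' : b.toNat < p := by omega
      exact hvan b.toNat hb' a.toNat ha'
    · exact isZero_zero _
  obtain ⟨i1⟩ := Groth.Agent.Lib.SSCollapseH2.nonempty_abut_iso_of_column E _ ab (p : ℤ)
    (hfin (p : ℤ))
    (fun a ha => by
      by_cases h : 0 < a
      · exact hz a ((p : ℤ) - a) ha (by omega)
      · obtain ⟨i⟩ := hE2 a ((p : ℤ) - a)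
        refine IsZero.of_iso ?_ i
        rw [if_neg (by omega)]
        exact isZero_zero _)
    (fun r hr => by
      obtain ⟨i⟩ := hE2 (0 - r) ((p : ℤ) - (1 - r))
      refine IsZero.of_iso ?_ i
      rw [if_neg (by omega)]
      exact isZero_zero _)
    (fun r hr => hz (0 + r) ((p : ℤ) + (1 - r)) (by omega) (by omega))
  obtain ⟨i2⟩ := hE2 0 (p : ℤ)
  rw [if_pos (by omega)] at i1
  rw [if_pos ⟨le_rfl, by omega⟩] at i2
  simp only [Int.toNat_natCast, Int.toNat_zero] at i1 i2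
  haveI : PreservesFiniteLimits (Scheme.Modules.pushforward g) := inferInstance
  exact ⟨((Scheme.Modules.pushforward g).rightDerivedZeroIsoSelf.app _).symm ≪≫ i2.symm ≪≫ i1.symm⟩

end

end Groth.Agent.Lib.RelExtCohH2
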