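import Groth.Agent.Lib.RelFP_helper9

/-!
# Relative finite presentation: localization over a localized base
-/

namespace Groth.Agent.Lib.RelFP

universe u

open MvPolynomial

set_option maxHeartbeats 1600000 in
theorem loc_away {R A : Type u} [CommRing R] [CommRing A] (f : R)
    [Algebra R A] [Algebra (Localization.Away f) A] [IsScalarTower R (Localization.Away f) A]
    {n k : ℕ}
    (α : MvPolynomial (Fin n) (Localization.Away f) →ₐ[Localization.Away f] A)
    (hα : Function.Surjective α)
    (g : A) (M : Type u) [AddCommGroup M] [Module A M]
    (hM : @Module.FinitePresentation (MvPolynomial (Fin n) (Localization.Away f)) M _ _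
      (Module.compHom M α.toRingHom))
    (γ : MvPolynomial (Fin k) R →ₐ[R] Localization.Away g) (hγ : Function.Surjective γ) :
    @Module.FinitePresentation (MvPolynomial (Fin k) R)
      (LocalizedModule (Submonoid.powers g) M) _ _
      (Module.compHom (LocalizedModule (Submonoid.powers g) M) γ.toRingHom) := by
  obtain ⟨G, hG⟩ := hα g
  haveI : Algebra.FiniteType (Localization.Away f) A := Algebra.FiniteType.of_surjective α hα
  haveI : Algebra.FinitePresentation A (Localization.Away g) :=
    IsLocalization.Away.finitePresentation g
  haveI : Algebra.FiniteType A (Localization.Away g) := inferInstance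
  haveI : Algebra.FiniteType (Localization.Away f) (Localization.Away g) :=
    Algebra.FiniteType.trans (S := A) inferInstance inferInstance
  obtain ⟨k', γ'', hγ''⟩ := Algebra.FiniteType.iff_quotient_mvPolynomial''.mp
    (inferInstance : Algebra.FiniteType (Localization.Away f) (Localization.Away g))
  letI modPM : Module (MvPolynomial (Fin n) (Localization.Away f)) M :=
    Module.compHom M α.toRingHom
  haveI : Module.FinitePresentation (MvPolynomial (Fin n) (Localization.Away f)) M := hM
  have h1 := (local_iff (R := Localization.Away f) α hα M g G hG γ'' hγ'').mp inferInstance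
  haveI : Algebra.FinitePresentation R (Localization.Away f) :=
    IsLocalization.Away.finitePresentation f
  haveI : Algebra.FinitePresentation R (MvPolynomial (Fin k') (Localization.Away f)) :=
    Algebra.FinitePresentation.trans R (Localization.Away f) _
  obtain ⟨m, Θ, hΘ⟩ := Algebra.FiniteType.iff_quotient_mvPolynomial''.mp
    (inferInstance : Algebra.FiniteType R (MvPolynomial (Fin k') (Localization.Away f)))
  have hΘfp : Θ.toRingHom.FinitePresentation := by
    letI : Algebra (MvPolynomial (Fin m) R) (MvPolynomial (Fin k') (Localization.Away f)) :=
      Θ.toRingHom.toAlgebra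
    haveI : IsScalarTower R (MvPolynomial (Fin m) R)
        (MvPolynomial (Fin k') (Localization.Away f)) :=
      IsScalarTower.of_algebraMap_eq' Θ.comp_algebraMap.symm
    exact Algebra.FinitePresentation.of_restrict_scalars_finitePresentation R _ _
  have h2 := fp_down Θ.toRingHom hΘ hΘfp
    (Module.compHom (LocalizedModule (Submonoid.powers g) M) γ''.toRingHom) h1
  haveI : IsScalarTower R (Localization.Away f) (Localization.Away g) :=
    IsScalarTower.of_algebraMap_eq fun r => by
      rw [IsScalarTower.algebraMap_apply R A (Localization.Away g),
        IsScalarTower.algebraMap_apply R (Localization.Away f) A,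
        ← IsScalarTower.algebraMap_apply (Localization.Away f) A (Localization.Away g)]
  let γ₂ : MvPolynomial (Fin m) R →ₐ[R] Localization.Away g := (γ''.restrictScalars R).comp Θ
  have h3 : @Module.FinitePresentation (MvPolynomial (Fin m) R)
      (LocalizedModule (Submonoid.powers g) M) _ _
      (Module.compHom (LocalizedModule (Submonoid.powers g) M) γ₂.toRingHom) :=
    fp_congr_inst _ _ (fun _ _ => rfl) h2
  exact indep_presentation γ hγ γ₂ (hγ''.comp hΘ) h3

end Groth.Agent.Lib.RelFP
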