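import Groth.Agent.Lib.RelFP3_helper9

/-!
# Relative finite presentation: base change along a finitely presented algebra
-/

namespace Groth.Agent.Lib.RelFP

universe u

open MvPolynomial TensorProduct

set_option maxHeartbeats 1600000 in
/-- Core of base change: `P → A` surjective, `M` an `A`-module f.p. over `P`, `A → A'` of finite
presentation.  Then `A' ⊗[A] M` is f.p. over a polynomial ring over `P` surjecting onto `A'`. -/
theorem baseChange_core {P A A' : Type u} [CommRing P] [CommRing A] [CommRing A']
    [Algebra P A] [Algebra A A'] [Algebra P A'] [IsScalarTower P A A']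
    (hα : Function.Surjective (algebraMap P A))
    [Algebra.FinitePresentation A A']
    (M : Type u) [AddCommGroup M] [Module A M] [Module P M] [IsScalarTower P A M]
    [Module.FinitePresentation P M] :
    ∃ (m : ℕ) (ψ : MvPolynomial (Fin m) P →ₐ[P] A'), Function.Surjective ψ ∧
      @Module.FinitePresentation (MvPolynomial (Fin m) P) (A' ⊗[A] M) _ _
        (Module.compHom (A' ⊗[A] M) ψ.toRingHom) := by
  classical
  obtain ⟨m, f, hf, hJ⟩ := Algebra.FinitePresentation.out (R := A) (A := A')
  let μ : MvPolynomial (Fin m) P →+* MvPolynomial (Fin m) A := MvPolynomial.map (algebraMap P A)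
  have hμ : Function.Surjective μ := MvPolynomial.map_surjective _ hα
  let ψ : MvPolynomial (Fin m) P →ₐ[P] A' := MvPolynomial.aeval (fun i => f (X i))
  have hψf : ∀ s, ψ s = f (μ s) := by
    intro s
    have : (ψ : MvPolynomial (Fin m) P →+* A') = (f : _ →+* A').comp μ := by
      apply MvPolynomial.ringHom_ext
      · intro p
        show ψ (C p) = f (μ (C p))
        have h1 : ψ (C p) = algebraMap P A' p := by
          show MvPolynomial.aeval _ (C p) = _
          rw [MvPolynomial.aeval_C]
        have h2 : μ (C p) = C (algebraMap P A p) := MvPolynomial.map_C _ _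
        rw [h1, h2]
        have h3 : f (C (algebraMap P A p)) = algebraMap A A' (algebraMap P A p) := by
          rw [← MvPolynomial.algebraMap_eq, f.commutes]
        rw [h3, ← IsScalarTower.algebraMap_apply]
      · intro i
        show ψ (X i) = f (μ (X i))
        have h1 : ψ (X i) = f (X i) := by
          show MvPolynomial.aeval _ (X i) = _
          rw [MvPolynomial.aeval_X]
        have h2 : μ (X i) = X i := MvPolynomial.map_X _ _
        rw [h1, h2]
    exact RingHom.congr_fun this s
  have hψ : Function.Surjective ψ := by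
    intro a'
    obtain ⟨y, rfl⟩ := hf a'
    obtain ⟨s, rfl⟩ := hμ y
    exact ⟨s, hψf s⟩
  refine ⟨m, ψ, hψ, ?_⟩
  -- the module structure
  letI modS : Module (MvPolynomial (Fin m) P) (A' ⊗[A] M) :=
    Module.compHom (A' ⊗[A] M) ψ.toRingHom
  show Module.FinitePresentation (MvPolynomial (Fin m) P) (A' ⊗[A] M)
  -- compatibility
  haveI : CompatibleSMul P A A' M := ⟨fun a a' x => by
    obtain ⟨p, rfl⟩ := hα a
    rw [algebraMap_smul, algebraMap_smul, TensorProduct.smul_tmul]⟩
  let e : A' ⊗[A] M ≃ₗ[A'] A' ⊗[P] M := TensorProduct.equivOfCompatibleSMul P A A' A' M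
  let Ψ : MvPolynomial (Fin m) P ⊗[P] M →ₗ[P] A' ⊗[P] M := LinearMap.rTensor M ψ.toLinearMap
  have hΨs : ∀ (s : MvPolynomial (Fin m) P) (x : MvPolynomial (Fin m) P ⊗[P] M),
      Ψ (s • x) = ψ s • Ψ x := by
    intro s x
    induction x using TensorProduct.induction_on with
    | zero => simp
    | add x y hx hy => rw [smul_add, map_add, map_add, smul_add, hx, hy]
    | tmul s' x =>
      rw [TensorProduct.smul_tmul']
      show (ψ (s • s')) ⊗ₜ[P] x = ψ s • ((ψ s') ⊗ₜ[P] x)
      rw [TensorProduct.smul_tmul', smul_eq_mul, map_mul, smul_eq_mul]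
  have hΨsurj : Function.Surjective Ψ := LinearMap.rTensor_surjective M hψ
  let Φ : MvPolynomial (Fin m) P ⊗[P] M →ₗ[MvPolynomial (Fin m) P] A' ⊗[A] M :=
    { toFun := fun x => e.symm (Ψ x)
      map_add' := fun x y => by rw [map_add, map_add]
      map_smul' := fun s x => by
        show e.symm (Ψ (s • x)) = ψ s • e.symm (Ψ x)
        rw [hΨs, map_smul] }
  have hΦsurj : Function.Surjective Φ := e.symm.surjective.comp hΨsurj
  have hΦker : ∀ x, Φ x = 0 ↔ Ψ x = 0 := fun x => by
    show e.symm (Ψ x) = 0 ↔ _
    exact e.symm.map_eq_zero_iff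
  apply Module.finitePresentation_of_surjective Φ hΦsurj
  -- generators of the kernel
  obtain ⟨G₀, hG₀⟩ := hJ
  have hμ' := hμ
  choose lift hlift using hμ'
  obtain ⟨G₁, hG₁⟩ := (inferInstance : Module.Finite P M).fg_top
  let G : Finset (MvPolynomial (Fin m) P ⊗[P] M) :=
    (G₀ ×ˢ G₁).image (fun gm => lift gm.1 ⊗ₜ[P] gm.2)
  let T : Submodule (MvPolynomial (Fin m) P) (MvPolynomial (Fin m) P ⊗[P] M) :=
    Submodule.span _ (G : Set _)
  have c1 : ∀ g ∈ G₀, ∀ x : M, lift g ⊗ₜ[P] x ∈ T := by
    intro g hg x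
    have hx : x ∈ Submodule.span P (G₁ : Set M) := by rw [hG₁]; trivial
    induction hx using Submodule.span_induction with
    | mem y hy =>
      apply Submodule.subset_span
      exact Finset.mem_image.mpr ⟨(g, y), Finset.mem_product.mpr ⟨hg, hy⟩, rfl⟩
    | zero => rw [TensorProduct.tmul_zero]; exact T.zero_mem
    | add y z _ _ hy hz => rw [TensorProduct.tmul_add]; exact T.add_mem hy hz
    | smul p y _ hy =>
      rw [TensorProduct.tmul_smul, ← algebraMap_smul (MvPolynomial (Fin m) P) p]
      exact T.smul_mem _ hy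
  let 𝒦 : Ideal (MvPolynomial (Fin m) P) :=
    { carrier := {k | ∀ x : M, k ⊗ₜ[P] x ∈ T}
      add_mem' := fun {a b} ha hb x => by rw [TensorProduct.add_tmul]; exact T.add_mem (ha x) (hb x)
      zero_mem' := fun x => by rw [TensorProduct.zero_tmul]; exact T.zero_mem
      smul_mem' := fun c {a} ha x => by
        rw [← TensorProduct.smul_tmul']
        exact T.smul_mem c (ha x) }
  have c3 : RingHom.ker μ ≤ 𝒦 := by
    rw [show RingHom.ker μ = Ideal.map C (RingHom.ker (algebraMap P A)) from MvPolynomial.ker_map _,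
      Ideal.map_le_iff_le_comap]
    intro p hp x
    have hp' : algebraMap P A p = 0 := hp
    have : (C p : MvPolynomial (Fin m) P) ⊗ₜ[P] x = 0 := by
      have h1 : (C p : MvPolynomial (Fin m) P) = p • (1 : MvPolynomial (Fin m) P) := by
        rw [MvPolynomial.smul_eq_C_mul, mul_one]
      rw [h1, TensorProduct.smul_tmul, ← algebraMap_smul A p x, hp', zero_smul,
        TensorProduct.tmul_zero]
    show (C p : MvPolynomial (Fin m) P) ⊗ₜ[P] x ∈ T
    rw [this]; exact T.zero_mem
  have c2 : RingHom.ker (ψ : MvPolynomial (Fin m) P →+* A') ≤ 𝒦 := by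
    have h1 : RingHom.ker (ψ : MvPolynomial (Fin m) P →+* A') =
        Ideal.comap μ (Ideal.map μ (Ideal.span (lift '' (G₀ : Set _)))) := by
      rw [Ideal.map_span, ← Set.image_comp]
      have : (μ ∘ lift) '' (G₀ : Set (MvPolynomial (Fin m) A)) = G₀ := by
        ext y; constructor
        · rintro ⟨z, hz, rfl⟩; show μ (lift z) ∈ _; rw [hlift]; exact hz
        · intro hy; exact ⟨y, hy, hlift y⟩
      rw [this, hG₀]
      ext s
      simp only [RingHom.mem_ker, Ideal.mem_comap]
      show ψ s = 0 ↔ f (μ s) = 0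
      rw [hψf]
    rw [h1, Ideal.comap_map_of_surjective μ hμ]
    refine sup_le ?_ c3
    rw [Ideal.span_le]
    rintro _ ⟨g, hg, rfl⟩
    exact c1 g hg
  have hker : LinearMap.ker Φ = T := by
    apply le_antisymm
    · intro x hx
      have hx' : Ψ x = 0 := (hΦker x).mp hx
      have hex := rTensor_exact M (LinearMap.exact_subtype_ker_map ψ.toLinearMap) hψ
      obtain ⟨y, rfl⟩ := (hex x).mp hx'
      induction y using TensorProduct.induction_on with
      | zero => rw [map_zero]; exact T.zero_mem
      | add y z hy hz =>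
        rw [map_add]
        refine T.add_mem (hy ?_ ?_) (hz ?_ ?_)
        all_goals first | exact (hΦker _).mpr ((hex _).mpr ⟨_, rfl⟩) | exact (hex _).mpr ⟨_, rfl⟩
      | tmul k x =>
        show (k : MvPolynomial (Fin m) P) ⊗ₜ[P] x ∈ T
        exact c2 (show ψ k.1 = 0 from k.2) x
    · show T ≤ LinearMap.ker Φ
      rw [Submodule.span_le]
      intro x hx
      obtain ⟨⟨g, y⟩, hgy, rfl⟩ := Finset.mem_image.mp hx
      have hg : g ∈ G₀ := (Finset.mem_product.mp hgy).1
      show Φ (lift g ⊗ₜ[P] y) = 0
      rw [hΦker]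
      show ψ (lift g) ⊗ₜ[P] y = 0
      have : ψ (lift g) = 0 := by
        rw [hψf, hlift]
        have : g ∈ RingHom.ker f.toRingHom := by rw [← hG₀]; exact Ideal.subset_span hg
        exact this
      rw [this, TensorProduct.zero_tmul]
  rw [hker]
  exact Submodule.fg_span G.finite_toSet

end Groth.Agent.Lib.RelFP
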