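import Mathlib
import Groth.Prelude.Def_Flatn
import Groth.Agent.Lib.RelFPKit_helper9

/-!
# Relative finite presentation toolkit, part 2: finite extensions
-/

universe u

open MvPolynomial

namespace RelFPKit

open Groth.Agent.Lib.RelFP

/-- Finite extension `A → B`: a `B`-module is relatively f.p. over `R` as an `A`-module iff as a
`B`-module. -/
theorem finite_iff {R A B : Type u} [CommRing R] [CommRing A] [CommRing B] (φ : R →+* A)
    (ψ : A →+* B) (hft : φ.FiniteType) (hfin : ψ.Finite) {M M' : Type u} [AddCommGroup M]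
    [Module B M] [AddCommGroup M'] [Module A M'] (e : M' ≃+ M)
    (hsm : ∀ (a : A) (m : M'), e (a • m) = ψ a • e m) :
    RelFPHom φ M' ↔ RelFPHom (ψ.comp φ) M := by
  letI modAM : Module A M := Module.compHom M ψ
  have h1 : RelFPHom φ M' ↔ RelFPHom φ M :=
    ⟨transport φ φ (RingEquiv.refl R) (RingEquiv.refl A) (fun _ => rfl) e hsm,
     transport φ φ (RingEquiv.refl R) (RingEquiv.refl A) (fun _ => rfl) e.symm (fun a m => by
      apply e.injective
      rw [hsm, AddEquiv.apply_symm_apply, AddEquiv.apply_symm_apply]; rfl)⟩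
  rw [h1]
  letI := φ.toAlgebra
  letI := ψ.toAlgebra
  letI : Algebra R B := (ψ.comp φ).toAlgebra
  haveI : IsScalarTower R A B := IsScalarTower.of_algebraMap_eq (fun _ => rfl)
  haveI : Module.Finite A B := hfin
  haveI : IsScalarTower A B M := IsScalarTower.of_algebraMap_smul (fun _ _ => rfl)
  haveI : Algebra.FiniteType R A := hft
  haveI : Algebra.FiniteType A B := inferInstance
  haveI : Algebra.FiniteType R B := Algebra.FiniteType.trans (S := A) inferInstance inferInstance
  constructor
  · rintro ⟨n, α, hα, h⟩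
    obtain ⟨k, β, hβ⟩ := Algebra.FiniteType.iff_quotient_mvPolynomial''.mp
      (inferInstance : Algebra.FiniteType R B)
    exact ⟨k, β, hβ, (of_finite_extension M α hα β hβ).mp h⟩
  · rintro ⟨k, β, hβ, h⟩
    obtain ⟨n, α, hα⟩ := Algebra.FiniteType.iff_quotient_mvPolynomial''.mp
      (inferInstance : Algebra.FiniteType R A)
    exact ⟨n, α, hα, (of_finite_extension M α hα β hβ).mpr h⟩

end RelFPKit
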