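import Mathlib
import Groth.Prelude.Def_Flatn
import Groth.Agent.Lib.RelFPAff2_helper9
import Groth.Agent.Lib.RelFPKit2_helper9

/-!
# Relative finite presentation and finite pushforward
-/

universe u

open CategoryTheory AlgebraicGeometry Opposite TopologicalSpace RelFPKit

namespace RelFPAff

theorem P_push_iff {X Y S : Scheme.{u}} (π : X ⟶ Y) (g : Y ⟶ S) [IsFinite π]
    [LocallyOfFiniteType g] (F : X.Modules) {U : Y.Opens} (hU : IsAffineOpen U) {V : S.Opens}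
    (hV : IsAffineOpen V) (h : U ≤ g ⁻¹ᵁ V) (h' : π ⁻¹ᵁ U ≤ (π ≫ g) ⁻¹ᵁ V) :
    P g ((Scheme.Modules.pushforward π).obj F) U V h ↔ P (π ≫ g) F (π ⁻¹ᵁ U) V h' := by
  have hft : (g.appLE V U h).hom.FiniteType := g.finiteType_appLE hV hU h
  have hfin : (π.app U).hom.Finite := π.finite_app U hU
  have : ((π ≫ g).appLE V (π ⁻¹ᵁ U) h').hom = (π.app U).hom.comp (g.appLE V U h).hom := by
    rw [← CommRingCat.hom_comp, Scheme.Hom.app_eq_appLE, Scheme.Hom.appLE_comp_appLE]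
  unfold P
  rw [this]
  exact finite_iff _ _ hft hfin (AddEquiv.refl _) (fun a m => rfl)

theorem isRelFP_push_iff {X Y S : Scheme.{u}} (π : X ⟶ Y) (g : Y ⟶ S) [IsFinite π]
    [LocallyOfFiniteType g] (F : X.Modules) [F.IsQuasicoherent] :
    Flatn.IsRelFP (π ≫ g) F ↔ Flatn.IsRelFP g ((Scheme.Modules.pushforward π).obj F) := by
  constructor
  · intro hF
    apply isRelFP_of_all_pairs
    intro U V h
    rw [relFPOn_iff]
    have h' : π ⁻¹ᵁ (U : Y.Opens) ≤ (π ≫ g) ⁻¹ᵁ (V : S.Opens) := fun x hx => h hx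
    rw [P_push_iff π g F U.2 V.2 h h']
    exact all_pairs (π ≫ g) F hF (U.2.preimage π) V.2 h'
  · rintro ⟨𝒱, h𝒱, h𝒰⟩
    refine ⟨𝒱, h𝒱, fun V hV => ?_⟩
    obtain ⟨𝒰, hcov, hP⟩ := h𝒰 V hV
    refine ⟨(fun U : Y.affineOpens => (⟨π ⁻¹ᵁ (U : Y.Opens), U.2.preimage π⟩ : X.affineOpens)) '' 𝒰,
      ?_, ?_⟩
    · have : (π ≫ g) ⁻¹ᵁ (V : S.Opens) = π ⁻¹ᵁ (g ⁻¹ᵁ (V : S.Opens)) := rfl
      rw [this, ← hcov]
      ext x
      simp only [Opens.mem_iSup, Set.mem_image, SetLike.mem_coe, exists_prop, Scheme.Hom.mem_preimage]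
      constructor
      · rintro ⟨_, ⟨U, hU, rfl⟩, hx⟩
        exact ⟨U, hU, hx⟩
      · rintro ⟨U, hU, hx⟩
        exact ⟨_, ⟨U, hU, rfl⟩, hx⟩
    · rintro _ ⟨U, hU, rfl⟩ h
      have hle : (U : Y.Opens) ≤ g ⁻¹ᵁ (V : S.Opens) := by
        rw [← hcov]
        exact le_iSup₂ (f := fun (U : Y.affineOpens) (_ : U ∈ 𝒰) => (U : Y.Opens)) U hU
      rw [relFPOn_iff]
      exact (P_push_iff π g F U.2 V.2 hle h).mp (hP U hU hle)

end RelFPAff
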