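import Mathlib
import Groth.Prelude.Def_Flatn
import Groth.Agent.Lib.RelFPAff4_helper9
import Groth.Agent.Lib.QCohFT_helper9

/-!
# Relative finite presentation: quotients by finite type submodules
-/

universe u

open CategoryTheory AlgebraicGeometry Opposite TopologicalSpace RelFPKit

namespace RelFPAff

variable {X S : Scheme.{u}} (f : X ⟶ S)

theorem isRelFP_quotient [LocallyOfFiniteType f] (E : ShortComplex X.Modules)
    (hE : E.ShortExact) [E.X₁.IsQuasicoherent] [E.X₂.IsQuasicoherent] [E.X₃.IsQuasicoherent]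
    (h₁ : SheafOfModules.IsFiniteType (R := X.ringCatSheaf) E.X₁) (h₂ : Flatn.IsRelFP f E.X₂) :
    Flatn.IsRelFP f E.X₃ := by
  haveI := hE.mono_f
  haveI := hE.epi_g
  apply isRelFP_of_all_pairs
  intro U V h
  rw [relFPOn_iff]
  haveI : Module.Finite Γ(X, (U : X.Opens)) Γ(E.X₁, (U : X.Opens)) :=
    QCohFT.finite_of_isFiniteType E.X₁ U.2
  exact quotient (f.appLE V U h).hom (appₗ E.f U) (appₗ E.g U)
    (QCohExact.app_surjective_of_epi E.g U.2)
    (QCohExact.app_exact E hE.exact U) (comp_app_zero E U)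
    (all_pairs f E.X₂ h₂ U.2 V.2 h)

end RelFPAff
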