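import Mathlib
import Groth.Prelude.Def_Flatn
import Groth.Agent.Lib.RelFPKit_helper9
import Groth.Agent.Lib.RelFP4_helper9
import Groth.Agent.Lib.RelFPAff2_helper9
import Groth.Agent.Lib.PB7_helper8

/-!
# Relative finite presentation: base change of the module along a finitely presented algebra
-/

universe u

open MvPolynomial TensorProduct

namespace RelFPPBH8

open Groth.Agent.Lib.RelFP RelFPKit

/-- If `N` is an `A`-module finitely presented relative to `R`, `A → B` is of finite presentation
and `M` is the base change of `N` to `B`, then `M` is finitely presented relative to `R`. -/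
theorem comp_baseChange {R A B : Type u} [CommRing R] [CommRing A] [CommRing B]
    (φ : R →+* A) [Algebra A B] [Algebra.FinitePresentation A B]
    {N M : Type u} [AddCommGroup N] [Module A N] [AddCommGroup M] [Module B M] [Module A M]
    [IsScalarTower A B M]
    (c : N →ₗ[A] M) (hbc : IsBaseChange B c) (hN : RelFPHom φ N) :
    RelFPHom ((algebraMap A B).comp φ) M := by
  letI algRA := φ.toAlgebra
  obtain ⟨n, α, hα, hfp⟩ := hN
  letI algPA : Algebra (MvPolynomial (Fin n) R) A := α.toRingHom.toAlgebra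
  letI algPB : Algebra (MvPolynomial (Fin n) R) B :=
    ((algebraMap A B).comp α.toRingHom).toAlgebra
  haveI : IsScalarTower (MvPolynomial (Fin n) R) A B := IsScalarTower.of_algebraMap_eq' rfl
  letI modPN : Module (MvPolynomial (Fin n) R) N := Module.compHom N α.toRingHom
  haveI : IsScalarTower (MvPolynomial (Fin n) R) A N :=
    IsScalarTower.of_algebraMap_smul fun _ _ => rfl
  haveI : Module.FinitePresentation (MvPolynomial (Fin n) R) N := hfp
  obtain ⟨m, ψ', hψ', hfp'⟩ :=
    baseChange_core (P := MvPolynomial (Fin n) R) (A := A) (A' := B) hα N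
  letI algRB : Algebra R B := ((algebraMap A B).comp φ).toAlgebra
  haveI : IsScalarTower R A B := IsScalarTower.of_algebraMap_eq' rfl
  haveI : IsScalarTower R (MvPolynomial (Fin n) R) B := IsScalarTower.of_algebraMap_eq fun r => by
    show algebraMap A B (φ r) = algebraMap A B (α (algebraMap R (MvPolynomial (Fin n) R) r))
    rw [α.commutes]; rfl
  haveI : Algebra.FiniteType R A := Algebra.FiniteType.of_surjective α hα
  haveI : Algebra.FiniteType A B := inferInstance
  haveI : Algebra.FiniteType R B := Algebra.FiniteType.trans (S := A) inferInstance inferInstance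
  obtain ⟨k, β, hβ⟩ := Algebra.FiniteType.iff_quotient_mvPolynomial''.mp
    (inferInstance : Algebra.FiniteType R B)
  have h3 := trans_fp_algebra (R := R) (A := MvPolynomial (Fin n) R) (B := B) (B ⊗[A] N)
    ψ' hψ' β hβ hfp'
  have h4 : RelFPHom ((algebraMap A B).comp φ) (B ⊗[A] N) := ⟨k, β, hβ, h3⟩
  exact transport _ _ (RingEquiv.refl R) (RingEquiv.refl B) (fun _ => rfl)
    hbc.equiv.toAddEquiv (fun b x => hbc.equiv.map_smul b x) h4

end RelFPPBH8

namespace RelFPPBH8

open CategoryTheory AlgebraicGeometry Opposite TopologicalSpace RelFPKit RelFPAff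

theorem isRelFP_pullback_comp {X Y S : Scheme.{u}} (f : X ⟶ Y) (g : Y ⟶ S)
    [LocallyOfFinitePresentation f] [LocallyOfFiniteType g]
    (G : Y.Modules) [G.IsQuasicoherent] (hG : Flatn.IsRelFP g G) :
    Flatn.IsRelFP (f ≫ g) ((Scheme.Modules.pullback f).obj G) := by
  haveI : LocallyOfFiniteType (f ≫ g) := inferInstance
  apply isRelFP_of_all_pairs
  intro U W h
  rw [RelFPAff.relFPOn_iff]
  refine P_of_local U.2 W.2 h (fun x hx => ?_)
  have hy : f.base x ∈ g ⁻¹ᵁ (W : S.Opens) := h hx
  obtain ⟨V, hV, hyV, hVle⟩ := (Opens.isBasis_iff_nbhd.mp Y.isBasis_affineOpens) hy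
  obtain ⟨a, ha, hxa⟩ := U.2.exists_basicOpen_le (V := (U : X.Opens) ⊓ f ⁻¹ᵁ V)
    ⟨x, ⟨hx, hyV⟩⟩ hx
  refine ⟨a, hxa, ?_⟩
  have hle : X.basicOpen a ≤ f ⁻¹ᵁ V := ha.trans inf_le_right
  have h1 : P g G V W hVle := all_pairs g G hG hV W.2 hVle
  letI := (f.appLE V (X.basicOpen a) hle).hom.toAlgebra
  letI : Module Γ(Y, V) Γ((Scheme.Modules.pullback f).obj G, X.basicOpen a) :=
    Module.compHom _ (f.appLE V (X.basicOpen a) hle).hom
  haveI : IsScalarTower Γ(Y, V) Γ(X, X.basicOpen a)
      Γ((Scheme.Modules.pullback f).obj G, X.basicOpen a) :=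
    IsScalarTower.of_algebraMap_smul fun _ _ => rfl
  haveI : Algebra.FinitePresentation Γ(Y, V) Γ(X, X.basicOpen a) :=
    f.finitePresentation_appLE hV (U.2.basicOpen a) hle
  have key := comp_baseChange (g.appLE W V hVle).hom (PBH8.cUVLin f G hle)
    (PBH8.isBaseChange_cUV f G hle (U.2.basicOpen a) hV) h1
  have : ((f ≫ g).appLE W (X.basicOpen a) ((X.basicOpen_le a).trans h)).hom =
      (f.appLE V (X.basicOpen a) hle).hom.comp (g.appLE W V hVle).hom := by
    rw [← CommRingCat.hom_comp, Scheme.Hom.appLE_comp_appLE]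
  unfold P
  rw [this]
  exact key

end RelFPPBH8
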