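import Mathlib
import Groth.Prelude.Def_Flatn
import Groth.Agent.Lib.RelFPKit_helper9
import Groth.Agent.Lib.RelFPAff2_helper9
import Groth.Agent.Lib.PB7_helper8
import Groth.Agent.Lib.NilThick2_helper6

/-!
# Relative finite presentation: arbitrary base change
-/

universe u

open MvPolynomial TensorProduct

namespace RelFPPBH8

open Groth.Agent.Lib.RelFP RelFPKit

set_option maxHeartbeats 1600000 in
/-- `P ↠ A`, `P' ↠ A'` with `ker (P' → A') = ker (P → A) · P'`; then the base change `M` to `A'`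
of an `A`-module `N` finitely presented over `P` is finitely presented over `P'`. -/
theorem fp_of_isBaseChange_of_ker {P A P' A' : Type u} [CommRing P] [CommRing A] [CommRing P']
    [CommRing A'] (α : P →+* A) (hα : Function.Surjective α) (μ : P →+* P') (α' : P' →+* A')
    (hα' : Function.Surjective α') [Algebra A A']
    (hcomm : ∀ p, α' (μ p) = algebraMap A A' (α p))
    (hker : RingHom.ker α' ≤ Ideal.map μ (RingHom.ker α))
    {N M : Type u} [AddCommGroup N] [Module A N] [AddCommGroup M] [Module A' M] [Module A M]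
    [IsScalarTower A A' M] (c : N →ₗ[A] M) (hbc : IsBaseChange A' c)
    (hN : @Module.FinitePresentation P N _ _ (Module.compHom N α)) :
    @Module.FinitePresentation P' M _ _ (Module.compHom M α') := by
  letI algPP' : Algebra P P' := μ.toAlgebra
  letI algPA : Algebra P A := α.toAlgebra
  letI algPA' : Algebra P A' := ((algebraMap A A').comp α).toAlgebra
  haveI : IsScalarTower P A A' := IsScalarTower.of_algebraMap_eq' rfl
  letI modPN : Module P N := Module.compHom N α
  haveI : IsScalarTower P A N := IsScalarTower.of_algebraMap_smul fun _ _ => rfl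
  haveI : Module.FinitePresentation P N := hN
  letI modP'M : Module P' M := Module.compHom M α'
  show Module.FinitePresentation P' M
  haveI : CompatibleSMul P A A' N := ⟨fun a a' x => by
    obtain ⟨p, rfl⟩ := hα a
    have h1 : (α p) • a' = p • a' := (algebraMap_smul A p a')
    have h2 : (α p) • x = p • x := (algebraMap_smul A p x)
    rw [h1, h2, TensorProduct.smul_tmul]⟩
  let e' : A' ⊗[A] N ≃ₗ[A'] A' ⊗[P] N := TensorProduct.equivOfCompatibleSMul P A A' A' N
  let e : A' ⊗[A] N ≃ₗ[A'] M := hbc.equiv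
  -- `α'` as a `P`-linear map
  let α'l : P' →ₗ[P] A' :=
    { toFun := α'
      map_add' := map_add α'
      map_smul' := fun p x => by
        show α' (μ p * x) = (algebraMap A A' (α p)) * α' x
        rw [map_mul, hcomm] }
  let Ψ : P' ⊗[P] N →ₗ[P] A' ⊗[P] N := LinearMap.rTensor N α'l
  have hΨs : ∀ (s : P') (x : P' ⊗[P] N), Ψ (s • x) = α' s • Ψ x := by
    intro s x
    induction x using TensorProduct.induction_on with
    | zero => simp
    | add x y hx hy => rw [smul_add, map_add, map_add, smul_add, hx, hy]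
    | tmul s' x =>
      rw [TensorProduct.smul_tmul']
      show (α' (s • s')) ⊗ₜ[P] x = α' s • ((α' s') ⊗ₜ[P] x)
      rw [TensorProduct.smul_tmul', smul_eq_mul, map_mul, smul_eq_mul]
  have hΨsurj : Function.Surjective Ψ := LinearMap.rTensor_surjective N hα'
  have hΨinj : Function.Injective Ψ := by
    rw [injective_iff_map_eq_zero]
    intro x hx
    have hex := rTensor_exact N (LinearMap.exact_subtype_ker_map α'l) hα'
    obtain ⟨y, rfl⟩ := (hex x).mp hx
    induction y using TensorProduct.induction_on with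
    | zero => rw [map_zero]
    | add y z hy hz =>
      rw [map_add]
      have hy' := hy ((hex _).mpr ⟨_, rfl⟩)
      have hz' := hz ((hex _).mpr ⟨_, rfl⟩)
      rw [hy', hz', add_zero]
    | tmul k x =>
      show (k : P') ⊗ₜ[P] x = 0
      have hk : (k : P') ∈ Ideal.map μ (RingHom.ker α) := hker (show α' k.1 = 0 from k.2)
      -- the set of `k` with `k ⊗ x = 0` for all `x` is an ideal containing `μ (ker α)`
      let 𝒦 : Ideal P' :=
        { carrier := {k | ∀ x : N, k ⊗ₜ[P] x = 0}
          add_mem' := fun {a b} ha hb x => by rw [TensorProduct.add_tmul, ha x, hb x, add_zero]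
          zero_mem' := fun x => TensorProduct.zero_tmul _ _
          smul_mem' := fun c {a} ha x => by
            rw [← TensorProduct.smul_tmul', ha x, smul_zero] }
      have hle : Ideal.map μ (RingHom.ker α) ≤ 𝒦 := by
        rw [Ideal.map_le_iff_le_comap]
        intro p hp x
        have hp' : α p = 0 := hp
        have h1 : (μ p : P') = p • (1 : P') := by
          rw [Algebra.smul_def, mul_one]; rfl
        have h2 : p • x = 0 := by
          show α p • x = 0
          rw [hp', zero_smul]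
        rw [h1, TensorProduct.smul_tmul, h2, TensorProduct.tmul_zero]
      exact hle hk x
  let Φ : P' ⊗[P] N →ₗ[P'] M :=
    { toFun := fun x => e (e'.symm (Ψ x))
      map_add' := fun x y => by rw [map_add, map_add, map_add]
      map_smul' := fun s x => by
        show e (e'.symm (Ψ (s • x))) = α' s • e (e'.symm (Ψ x))
        rw [hΨs, map_smul, map_smul] }
  have hΦbij : Function.Bijective Φ :=
    e.bijective.comp (e'.symm.bijective.comp ⟨hΨinj, hΨsurj⟩)
  exact Module.FinitePresentation.of_equiv (LinearEquiv.ofBijective Φ hΦbij)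

end RelFPPBH8

namespace RelFPPBH8

open Groth.Agent.Lib.RelFP RelFPKit CategoryTheory

set_option maxHeartbeats 1600000 in
/-- Relative finite presentation is stable under arbitrary base change (ring level). -/
theorem baseChange_pushout {R A R' A' : Type u} [CommRing R] [CommRing A] [CommRing R']
    [CommRing A'] (φ : R →+* A) (lam : R →+* R') (φ' : R' →+* A') [Algebra A A']
    (H : IsPushout (CommRingCat.ofHom φ) (CommRingCat.ofHom lam)
      (CommRingCat.ofHom (algebraMap A A')) (CommRingCat.ofHom φ'))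
    {N M : Type u} [AddCommGroup N] [Module A N] [AddCommGroup M] [Module A' M] [Module A M]
    [IsScalarTower A A' M] (c : N →ₗ[A] M) (hbc : IsBaseChange A' c) (hN : RelFPHom φ N) :
    RelFPHom φ' M := by
  letI algRA : Algebra R A := φ.toAlgebra
  letI algR'A' : Algebra R' A' := φ'.toAlgebra
  obtain ⟨n, α, hα, hfp⟩ := hN
  obtain ⟨ρ, hρ⟩ : ∃ ρ : A →+* A', ρ = algebraMap A A' := ⟨_, rfl⟩
  have hw : ∀ r, ρ (φ r) = φ' (lam r) := fun r => by
    have := congrArg (fun q => q.hom r) H.w
    rw [hρ]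
    exact this
  let α' : MvPolynomial (Fin n) R' →ₐ[R'] A' := MvPolynomial.aeval (fun i => ρ (α (X i)))
  let μ : MvPolynomial (Fin n) R →+* MvPolynomial (Fin n) R' := MvPolynomial.map lam
  have hαC : ∀ r, α (C r) = φ r := fun r => by
    rw [← MvPolynomial.algebraMap_eq, AlgHom.commutes]; rfl
  have hα'C : ∀ r', α' (C r') = φ' r' := fun r' => by
    simp only [α', MvPolynomial.aeval_C]; rfl
  have hα'X : ∀ i, α' (X i) = ρ (α (X i)) := fun i => by simp [α']
  have key : ∀ p, α' (μ p) = ρ (α p) := by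
    intro p
    have : (α'.toRingHom.comp μ) = ρ.comp α.toRingHom := by
      apply MvPolynomial.ringHom_ext
      · intro r
        show α' (μ (C r)) = ρ (α (C r))
        have h1 : μ (C r) = C (lam r) := MvPolynomial.map_C _ _
        rw [h1, hα'C, hαC, hw]
      · intro i
        show α' (μ (X i)) = ρ (α (X i))
        have h1 : μ (X i) = X i := MvPolynomial.map_X _ _
        rw [h1, hα'X]
    exact RingHom.congr_fun this p
  -- surjectivity of `α'`
  have hα' : Function.Surjective α' := by
    letI algRR' : Algebra R R' := lam.toAlgebra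
    letI algRA' : Algebra R A' := ((algebraMap A A').comp φ).toAlgebra
    haveI : IsScalarTower R A A' := IsScalarTower.of_algebraMap_eq' rfl
    haveI : IsScalarTower R R' A' := IsScalarTower.of_algebraMap_eq fun r => by
      show algebraMap A A' (φ r) = φ' (lam r)
      rw [← hρ, hw]
    have hP : Algebra.IsPushout R A R' A' := CommRingCat.isPushout_iff_isPushout.mp H
    intro x
    refine hP.out.inductionOn x (fun y => ∃ p, α' p = y) ⟨0, map_zero _⟩ ?_ ?_ ?_
    · intro r'
      exact ⟨C r', hα'C r'⟩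
    · rintro a y ⟨q, rfl⟩
      obtain ⟨p, rfl⟩ := hα a
      refine ⟨μ p * q, ?_⟩
      rw [map_mul, key, Algebra.smul_def, hρ]
    · rintro y z ⟨p, rfl⟩ ⟨q, rfl⟩
      exact ⟨p + q, map_add _ _ _⟩
  -- the kernel of `α'`
  have hker : RingHom.ker α'.toRingHom ≤ Ideal.map μ (RingHom.ker α.toRingHom) := by
    obtain ⟨J, hJ⟩ : ∃ J : Ideal (MvPolynomial (Fin n) R'),
      J = Ideal.map μ (RingHom.ker α.toRingHom) := ⟨_, rfl⟩
    rw [← hJ]
    have hle : RingHom.ker α.toRingHom ≤ RingHom.ker ((Ideal.Quotient.mk J).comp μ) := by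
      intro p hp
      rw [RingHom.mem_ker, RingHom.comp_apply, Ideal.Quotient.eq_zero_iff_mem, hJ]
      exact Ideal.mem_map_of_mem _ hp
    let fQ : A →+* (MvPolynomial (Fin n) R' ⧸ J) :=
      α.toRingHom.liftOfSurjective hα ⟨(Ideal.Quotient.mk J).comp μ, hle⟩
    have hfQ : ∀ p, fQ (α p) = Ideal.Quotient.mk J (μ p) := fun p =>
      α.toRingHom.liftOfRightInverse_comp_apply _ _ ⟨(Ideal.Quotient.mk J).comp μ, hle⟩ p
    let gQ : R' →+* (MvPolynomial (Fin n) R' ⧸ J) := (Ideal.Quotient.mk J).comp C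
    have hcompat : CommRingCat.ofHom φ ≫ CommRingCat.ofHom fQ =
        CommRingCat.ofHom lam ≫ CommRingCat.ofHom gQ := by
      ext r
      show fQ (φ r) = gQ (lam r)
      rw [← hαC, hfQ]
      show Ideal.Quotient.mk J (μ (C r)) = Ideal.Quotient.mk J (C (lam r))
      have h1 : μ (C r) = C (lam r) := MvPolynomial.map_C _ _
      rw [h1]
    let d := H.desc (CommRingCat.ofHom fQ) (CommRingCat.ofHom gQ) hcompat
    have hd1 : ∀ a, d.hom (ρ a) = fQ a := fun a => by
      have := congrArg (fun q => q.hom a)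
        (H.inl_desc (CommRingCat.ofHom fQ) (CommRingCat.ofHom gQ) hcompat)
      rw [hρ]
      exact this
    have hd2 : ∀ r', d.hom (φ' r') = gQ r' := fun r' => by
      have := congrArg (fun q => q.hom r')
        (H.inr_desc (CommRingCat.ofHom fQ) (CommRingCat.ofHom gQ) hcompat)
      exact this
    have hcomp : d.hom.comp α'.toRingHom = Ideal.Quotient.mk J := by
      apply MvPolynomial.ringHom_ext
      · intro r'
        show d.hom (α' (C r')) = Ideal.Quotient.mk J (C r')
        rw [hα'C, hd2]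
        rfl
      · intro i
        show d.hom (α' (X i)) = Ideal.Quotient.mk J (X i)
        rw [hα'X, hd1, hfQ]
        have h1 : μ (X i) = X i := MvPolynomial.map_X _ _
        rw [h1]
    intro k hk
    have hk' : α' k = 0 := hk
    have := RingHom.congr_fun hcomp k
    rw [RingHom.comp_apply] at this
    have h2 : (α'.toRingHom k) = 0 := hk'
    rw [h2, map_zero] at this
    exact Ideal.Quotient.eq_zero_iff_mem.mp this.symm
  refine ⟨n, α', hα', ?_⟩
  have := fp_of_isBaseChange_of_ker α.toRingHom hα μ α'.toRingHom hα'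
    (fun p => by rw [← hρ]; exact key p) hker c hbc hfp
  exact this

end RelFPPBH8

namespace RelFPPBH8

open CategoryTheory AlgebraicGeometry Opposite TopologicalSpace RelFPKit RelFPAff
open Groth.Agent.Lib.NilThick_helper6

theorem isRelFP_pullback_baseChange {X S X' S' : Scheme.{u}} (f : X ⟶ S) [LocallyOfFiniteType f]
    (F : X.Modules) [F.IsQuasicoherent]
    (g : S' ⟶ S) (f' : X' ⟶ S') (g' : X' ⟶ X) (hc : IsPullback g' f' f g)
    (hF : Flatn.IsRelFP f F) :
    Flatn.IsRelFP f' ((Scheme.Modules.pullback g').obj F) := by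
  refine ⟨{V' | ∃ W : S.affineOpens, (V' : S'.Opens) ≤ g ⁻¹ᵁ (W : S.Opens)}, ?_, ?_⟩
  · rw [eq_top_iff]
    intro y _
    obtain ⟨W, hW, hyW, -⟩ := (Opens.isBasis_iff_nbhd.mp S.isBasis_affineOpens)
      (show g.base y ∈ (⊤ : S.Opens) from trivial)
    obtain ⟨V', hV', hyV', hV'le⟩ := (Opens.isBasis_iff_nbhd.mp S'.isBasis_affineOpens)
      (show y ∈ g ⁻¹ᵁ W from hyW)
    simp only [Opens.mem_iSup]
    exact ⟨⟨V', hV'⟩, ⟨⟨W, hW⟩, hV'le⟩, hyV'⟩
  · rintro V' ⟨W, hV'W⟩
    refine ⟨{U' | ∃ U : X.affineOpens, ∃ _ : (U : X.Opens) ≤ f ⁻¹ᵁ (W : S.Opens),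
      (U' : X'.Opens) = g' ⁻¹ᵁ (U : X.Opens) ⊓ f' ⁻¹ᵁ (V' : S'.Opens)}, ?_, ?_⟩
    · apply le_antisymm
      · refine iSup₂_le ?_
        rintro U' ⟨U, hUW, hU'⟩
        rw [hU']
        exact inf_le_right
      · intro x hx
        have hfx : f.base (g'.base x) ∈ (W : S.Opens) := by
          have : f.base (g'.base x) = g.base (f'.base x) := by
            rw [← Scheme.Hom.comp_apply, ← Scheme.Hom.comp_apply, hc.w]
          rw [this]
          exact hV'W hx
        obtain ⟨U, hU, hxU, hUle⟩ := (Opens.isBasis_iff_nbhd.mp X.isBasis_affineOpens)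
          (show g'.base x ∈ f ⁻¹ᵁ (W : S.Opens) from hfx)
        obtain ⟨haff, -⟩ := isPushout_appLE_of_isPullback hc W.2 V'.2 hU hV'W hUle
        simp only [Opens.mem_iSup]
        exact ⟨⟨_, haff⟩, ⟨⟨U, hU⟩, hUle, rfl⟩, ⟨hxU, hx⟩⟩
    · rintro U' ⟨U, hUW, hU'⟩ h
      obtain ⟨haff, po⟩ := isPushout_appLE_of_isPullback hc W.2 V'.2 U.2 hV'W hUW
      rw [RelFPAff.relFPOn_iff]
      have h1 : P f F U W hUW := all_pairs f F hF U.2 W.2 hUW
      rw [P_congr f' _ hU' rfl h inf_le_right]
      letI := (g'.appLE (U : X.Opens) (g' ⁻¹ᵁ (U : X.Opens) ⊓ f' ⁻¹ᵁ (V' : S'.Opens))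
        inf_le_left).hom.toAlgebra
      letI : Module Γ(X, (U : X.Opens)) Γ((Scheme.Modules.pullback g').obj F,
          g' ⁻¹ᵁ (U : X.Opens) ⊓ f' ⁻¹ᵁ (V' : S'.Opens)) :=
        Module.compHom _ (g'.appLE (U : X.Opens) (g' ⁻¹ᵁ (U : X.Opens) ⊓ f' ⁻¹ᵁ (V' : S'.Opens))
          inf_le_left).hom
      haveI : IsScalarTower Γ(X, (U : X.Opens))
          Γ(X', g' ⁻¹ᵁ (U : X.Opens) ⊓ f' ⁻¹ᵁ (V' : S'.Opens))
          Γ((Scheme.Modules.pullback g').obj F,
            g' ⁻¹ᵁ (U : X.Opens) ⊓ f' ⁻¹ᵁ (V' : S'.Opens)) :=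
        IsScalarTower.of_algebraMap_smul fun _ _ => rfl
      exact baseChange_pushout (f.appLE W U hUW).hom (g.appLE W V' hV'W).hom
        (f'.appLE V' (g' ⁻¹ᵁ (U : X.Opens) ⊓ f' ⁻¹ᵁ (V' : S'.Opens)) inf_le_right).hom po
        (PBH8.cUVLin g' F inf_le_left) (PBH8.isBaseChange_cUV g' F inf_le_left haff U.2) h1

end RelFPPBH8
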