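import Mathlib
import Groth.Prelude.Def_Flatn

/-!
# Relative finite presentation of sheaves of modules: retracts
-/

universe u

open CategoryTheory CategoryTheory.Limits AlgebraicGeometry Opposite TopologicalSpace

namespace Groth.Agent.Lib.RelFPSheaf

/-- A retract of a finitely presented module is finitely presented. -/
theorem fp_of_retract {P M M'' : Type*} [CommRing P] [AddCommGroup M] [AddCommGroup M'']
    [Module P M] [Module P M''] (i : M →ₗ[P] M'') (r : M'' →ₗ[P] M) (h : ∀ m, r (i m) = m)
    [Module.FinitePresentation P M''] : Module.FinitePresentation P M := by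
  apply Module.finitePresentation_of_surjective r (fun m => ⟨i m, h m⟩)
  have hker : LinearMap.ker r = LinearMap.range (LinearMap.id - i.comp r) := by
    ext x
    constructor
    · intro hx
      refine ⟨x, ?_⟩
      have : r x = 0 := hx
      simp [this]
    · rintro ⟨y, rfl⟩
      show r (((LinearMap.id : M'' →ₗ[P] M'') - i.comp r) y) = 0
      simp [h]
  rw [hker, LinearMap.range_eq_map]
  exact Module.Finite.fg_top.map _

/-- Ring-level: a retract (over `S`) of a relatively finitely presented module is relatively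
finitely presented. -/
theorem relFP_of_retract {R S : Type u} [CommRing R] [CommRing S] [Algebra R S]
    {N N'' : Type u} [AddCommGroup N] [Module S N] [AddCommGroup N''] [Module S N'']
    (i : N →ₗ[S] N'') (r : N'' →ₗ[S] N) (h : ∀ m, r (i m) = m)
    (hfp : FlatCA.RelFinitePresentation R S N'') : FlatCA.RelFinitePresentation R S N := by
  obtain ⟨n, φ, hφ, hN⟩ := hfp
  refine ⟨n, φ, hφ, ?_⟩
  letI : Module (MvPolynomial (Fin n) R) N := Module.compHom N φ.toRingHom
  letI : Module (MvPolynomial (Fin n) R) N'' := Module.compHom N'' φ.toRingHom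
  haveI : Module.FinitePresentation (MvPolynomial (Fin n) R) N'' := hN
  let i' : N →ₗ[MvPolynomial (Fin n) R] N'' :=
    { toFun := i, map_add' := i.map_add, map_smul' := fun p x => i.map_smul (φ p) x }
  let r' : N'' →ₗ[MvPolynomial (Fin n) R] N :=
    { toFun := r, map_add' := r.map_add, map_smul' := fun p x => r.map_smul (φ p) x }
  exact fp_of_retract i' r' h

/-- A retract of a relatively finitely presented sheaf of modules is relatively finitely
presented. -/
theorem isRelFP_of_retract {X S : Scheme.{u}} (f : X ⟶ S) {G G'' : X.Modules} (i : G ⟶ G'')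
    (r : G'' ⟶ G) (hir : i ≫ r = 𝟙 G) (h : Flatn.IsRelFP f G'') : Flatn.IsRelFP f G := by
  obtain ⟨𝒱, h𝒱, h𝒰⟩ := h
  refine ⟨𝒱, h𝒱, fun V hV => ?_⟩
  obtain ⟨𝒰, hcov, hU⟩ := h𝒰 V hV
  refine ⟨𝒰, hcov, fun U hUm hle => ?_⟩
  have h1 := hU U hUm hle
  rw [Flatn.relFPOn_iff] at h1 ⊢
  letI := (f.appLE (V : S.Opens) (U : X.Opens) hle).hom.toAlgebra
  refine relFP_of_retract (i.val.app (op (U : X.Opens))).hom (r.val.app (op (U : X.Opens))).hom
    ?_ h1
  intro m
  have := congrArg (fun φ => (SheafOfModules.Hom.val φ).app (op (U : X.Opens)) m) hir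
  exact this

end Groth.Agent.Lib.RelFPSheaf
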