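import Mathlib
import Groth.Prelude
import Groth.Agent.Lib.TorIndepAmp2_helper3
import Groth.Agent.Lib.RelFlatAmp1_helper3
import Groth.Agent.Lib.LpullTens_helper3

/-!
# Base change of the relative flat amplitude (helper3; S5631)

`main5631`: `f : X ⟶ Y` flat, `h : Y' ⟶ Y` arbitrary; if `E ∈ D(O_X)` has flat amplitude in
`[a, b]` relative to `f` then `Lg^* E` has flat amplitude in `[a, b]` relative to the base change
`f'` of `f`.
-/

set_option autoImplicit false
set_option linter.all false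
set_option maxHeartbeats 1600000
set_option backward.isDefEq.respectTransparency false
set_option backward.isDefEq.respectTransparency.types false
set_option backward.defeqAttrib.useBackward true

universe u
open CategoryTheory CategoryTheory.Limits AlgebraicGeometry Opposite TopologicalSpace

attribute [local instance] HasDerivedCategory.standard

namespace Groth.Agent.Lib.RelFlatBCH3

open Groth.Agent.Lib.TorIndepAmpH3 Groth.Agent.Lib.RelFlatAmpH3 Groth.Agent.Lib.LpullLocH3
  DerSch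

theorem main5631 {X Y Y' : Scheme.{u}} (f : X ⟶ Y) [Flat f] (h : Y' ⟶ Y)
    [DCoh.HasLpull (pullback.fst f h)] (E : DCoh.D X) (a b : ℤ)
    (hE : DCoh.HasRelFlatAmplitudeIn f a b E) :
    DCoh.HasRelFlatAmplitudeIn (pullback.snd f h) a b
      ((DCoh.Lpull (pullback.fst f h)).obj E) := by
  obtain ⟨P, hP, ⟨eP⟩⟩ := Groth.Agent.Lib.LpullTensH3.exists_kflat_rep E
  have hE' : DCoh.HasRelFlatAmplitudeIn f a b (DCoh.toD X P) := by
    obtain ⟨E₀, h1, h2, ⟨e⟩⟩ := hE
    exact ⟨E₀, h1, h2, ⟨e ≪≫ eP.symm⟩⟩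
  have hT := (relFlatAmp_iff_hasTorAmplitude f P a b).1 hE'
  haveI : Flat (pullback.snd f h) := inferInstance
  have hpb : IsPullback (pullback.fst f h) (pullback.snd f h) f h := IsPullback.of_hasPullback f h
  have hZ : IsPullback h (𝟙 Y') (𝟙 Y) h := IsPullback.of_vert_isIso ⟨by simp⟩
  haveI : Flat (𝟙 Y) := inferInstance
  haveI : Flat (f ≫ 𝟙 Y) := by rw [Category.comp_id]; infer_instance
  have hT' : HasTorAmplitude (pullback.snd f h) a b ((pullCx (pullback.fst f h)).obj P) :=
    fun x' => hasTorAmplitudeAt_pullCx_torIndep (𝟙 Y) h f h (𝟙 Y') hZ (pullback.fst f h)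
      (pullback.snd f h) hpb P hP a b x' (hT _)
  obtain ⟨E₁, h1, h2, ⟨e⟩⟩ := (relFlatAmp_iff_hasTorAmplitude (pullback.snd f h) _ a b).2 hT'
  exact ⟨E₁, h1, h2, ⟨e ≪≫ (LpullQIso _ P hP).symm ≪≫ (DCoh.Lpull _).mapIso eP⟩⟩

end Groth.Agent.Lib.RelFlatBCH3
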