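import Mathlib
import Groth.Prelude.Def_RegImm
import Groth.Agent.Lib.RelGCI10_helper2
import Groth.Agent.Lib.RelGCI7_helper2

/-!
# Relative global complete intersections, part 11 (helper2): S9150 (lifting syntomic algebras
along `R → R/I`).  APPEND-ONLY once landed.
-/

set_option autoImplicit false
universe u

namespace Groth.Agent.Lib.RelGCI

open TensorProduct MvPolynomial

section basechange

variable (R : Type u) [CommRing R] (n c : ℕ) (F : Fin c → MvPolynomial (Fin n) R)

/-- base change of a presented algebra is the presented algebra with mapped equations. -/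
theorem nonempty_baseChangeEquiv (A : Type u) [CommRing A] [Algebra R A] :
    Nonempty (A ⊗[R] Synt.RelGCIRing R n c F ≃ₐ[A]
      Synt.RelGCIRing A n c (fun i => MvPolynomial.map (algebraMap R A) (F i))) := by
  let e₁ := Algebra.TensorProduct.tensorQuotientEquiv (R := R) A
    (MvPolynomial (Fin n) R) A (Ideal.span (Set.range F))
  let e₂ := MvPolynomial.algebraTensorAlgEquiv (σ := Fin n) R A
  have h : Ideal.span (Set.range (fun i => MvPolynomial.map (algebraMap R A) (F i))) =
      ((Ideal.span (Set.range F)).map (Algebra.TensorProduct.includeRight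
        (A := A) (R := R) (B := MvPolynomial (Fin n) R))).map e₂ := by
    rw [Ideal.map_span, Ideal.map_span, ← Set.range_comp, ← Set.range_comp]
    congr 2
    funext i
    show _ = e₂ ((1 : A) ⊗ₜ[R] F i)
    rw [MvPolynomial.algebraTensorAlgEquiv_tmul, one_smul]
  exact ⟨e₁.trans (Ideal.quotientEquivAlg _ _ e₂ h)⟩

end basechange

section quotaway

/-- inverting an element congruent to `1` modulo `I` does not change the reduction modulo `I`. -/
theorem nonempty_quotAwayEquiv {R A : Type u} [CommRing R] [CommRing A] [Algebra R A]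
    (I : Ideal R) (a : A) (ha : Ideal.Quotient.mk (I.map (algebraMap R A)) a = 1) :
    Nonempty ((Localization.Away a ⧸ I.map (algebraMap R (Localization.Away a))) ≃ₐ[R]
      (A ⧸ I.map (algebraMap R A))) := by
  have hu : ∀ y : Submonoid.powers a,
      IsUnit ((Ideal.Quotient.mkₐ R (I.map (algebraMap R A))) y) := by
    rintro ⟨_, m, rfl⟩
    show IsUnit (Ideal.Quotient.mk _ (a ^ m))
    rw [map_pow, ha, one_pow]
    exact isUnit_one
  let f : Localization.Away a →ₐ[R] (A ⧸ I.map (algebraMap R A)) :=
    IsLocalization.liftAlgHom (M := Submonoid.powers a) hu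
  have hf : ∀ x : A, f (algebraMap A (Localization.Away a) x) = Ideal.Quotient.mk _ x :=
    fun x => IsLocalization.lift_eq hu x
  have hfk : ∀ x ∈ I.map (algebraMap R (Localization.Away a)), f x = 0 := by
    intro x hx
    have hle : I.map (algebraMap R (Localization.Away a)) ≤ RingHom.ker f.toRingHom := by
      rw [Ideal.map_le_iff_le_comap]
      intro r hr
      rw [Ideal.mem_comap, RingHom.mem_ker]
      show f (algebraMap R _ r) = 0
      rw [f.commutes, IsScalarTower.algebraMap_apply R A (A ⧸ I.map (algebraMap R A)),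
        Ideal.Quotient.algebraMap_eq, Ideal.Quotient.eq_zero_iff_mem]
      exact Ideal.mem_map_of_mem _ hr
    exact hle hx
  let fb : (Localization.Away a ⧸ I.map (algebraMap R (Localization.Away a))) →ₐ[R]
      (A ⧸ I.map (algebraMap R A)) := Ideal.Quotient.liftₐ _ f hfk
  let g₀ : A →ₐ[R] (Localization.Away a ⧸ I.map (algebraMap R (Localization.Away a))) :=
    (Ideal.Quotient.mkₐ R _).comp (IsScalarTower.toAlgHom R A (Localization.Away a))
  have hg₀k : ∀ x ∈ I.map (algebraMap R A), g₀ x = 0 := by
    intro x hx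
    have hle : I.map (algebraMap R A) ≤ RingHom.ker g₀.toRingHom := by
      rw [Ideal.map_le_iff_le_comap]
      intro r hr
      rw [Ideal.mem_comap, RingHom.mem_ker]
      show g₀ (algebraMap R _ r) = 0
      rw [g₀.commutes, IsScalarTower.algebraMap_apply R (Localization.Away a)
        (Localization.Away a ⧸ I.map (algebraMap R (Localization.Away a))),
        Ideal.Quotient.algebraMap_eq, Ideal.Quotient.eq_zero_iff_mem]
      exact Ideal.mem_map_of_mem _ hr
    exact hle hx
  let g : (A ⧸ I.map (algebraMap R A)) →ₐ[R]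
      (Localization.Away a ⧸ I.map (algebraMap R (Localization.Away a))) :=
    Ideal.Quotient.liftₐ _ g₀ hg₀k
  have hfg : ∀ x, fb (g x) = x := by
    intro x
    obtain ⟨x, rfl⟩ := Ideal.Quotient.mk_surjective x
    show fb (g₀ x) = _
    show f (algebraMap A _ x) = _
    exact hf x
  have hgf : ∀ y, g (fb y) = y := by
    intro y
    obtain ⟨y, rfl⟩ := Ideal.Quotient.mk_surjective y
    show g (f y) = _
    have h1 : (g.toRingHom.comp f.toRingHom) = (Ideal.Quotient.mk
        (I.map (algebraMap R (Localization.Away a)))) := by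
      apply IsLocalization.ringHom_ext (Submonoid.powers a)
      ext x
      show g (f (algebraMap A _ x)) = _
      rw [hf]
      rfl
    exact RingHom.congr_fun h1 y
  exact ⟨AlgEquiv.ofAlgHom fb g (AlgHom.ext hfg) (AlgHom.ext hgf)⟩

end quotaway

section s9150

variable (R : Type u) [CommRing R]

theorem main9150 (I : Ideal R) (Sb : Type u) [CommRing Sb]
    [Algebra R Sb] [Algebra (R ⧸ I) Sb] [IsScalarTower R (R ⧸ I) Sb]
    (h : Synt.IsSyntomic (R ⧸ I) Sb) :
    ∃ s : Finset Sb, Ideal.span (s : Set Sb) = ⊤ ∧ ∀ g ∈ s,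
      ∃ (n c : ℕ) (F : Fin c → MvPolynomial (Fin n) R), Synt.IsRelGCI R n c F ∧
        Nonempty (Localization.Away g ≃ₐ[R]
          (Synt.RelGCIRing R n c F ⧸ I.map (algebraMap R (Synt.RelGCIRing R n c F)))) := by
  have hloc : ∀ q : Ideal Sb, q.IsPrime → ∃ g : Sb, g ∉ q ∧
      ∃ (n c : ℕ) (F : Fin c → MvPolynomial (Fin n) R), Synt.IsRelGCI R n c F ∧
        Nonempty (Localization.Away g ≃ₐ[R]
          (Synt.RelGCIRing R n c F ⧸ I.map (algebraMap R (Synt.RelGCIRing R n c F)))) := by
    intro q hq
    haveI := hq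
    obtain ⟨g, hg, n, c, Fb, hgci, ⟨E⟩⟩ := exists_relGCI_away (R ⧸ I) Sb h q
    choose F hF using fun i => MvPolynomial.map_surjective (Ideal.Quotient.mk I)
      Ideal.Quotient.mk_surjective (Fb i)
    have hFb : Fb = fun i => MvPolynomial.map (Ideal.Quotient.mk I) (F i) :=
      funext (fun i => (hF i).symm)
    subst hFb
    obtain ⟨h', h1, hgci', ⟨E'⟩⟩ := main9172 R n c F I hgci
    refine ⟨g, hg, n + 1, c + 1, Fsnoc R n c F h', hgci', ?_⟩
    -- `T/IT ≃ (S'_a)/I`
    have hmap : I.map (algebraMap R (Localization.Away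
        (Ideal.Quotient.mk (Ideal.span (Set.range F)) h'))) =
        (I.map (algebraMap R (Synt.RelGCIRing R (n + 1) (c + 1) (Fsnoc R n c F h')))).map
          (E'.symm : Synt.RelGCIRing R (n + 1) (c + 1) (Fsnoc R n c F h') →+*
            Localization.Away (Ideal.Quotient.mk (Ideal.span (Set.range F)) h')) := by
      rw [Ideal.map_map]
      congr 1
      ext r
      exact (E'.symm.commutes r).symm
    let e1 := Ideal.quotientEquivAlg _ _ E'.symm hmap
    obtain ⟨e2⟩ := nonempty_quotAwayEquiv I
      (Ideal.Quotient.mk (Ideal.span (Set.range F)) h') h1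
    obtain ⟨e3'⟩ := nonempty_baseChangeEquiv R n c F (R ⧸ I)
    let e3 := ((Algebra.TensorProduct.quotIdealMapEquivQuotTensor
      (Synt.RelGCIRing R n c F) I).trans e3').restrictScalars R
    let e4 := (E.symm).restrictScalars R
    exact ⟨(e1.trans (e2.trans (e3.trans e4))).symm⟩
  set Gd : Set Sb := {g : Sb | ∃ (n c : ℕ) (F : Fin c → MvPolynomial (Fin n) R),
    Synt.IsRelGCI R n c F ∧ Nonempty (Localization.Away g ≃ₐ[R]
      (Synt.RelGCIRing R n c F ⧸ I.map (algebraMap R (Synt.RelGCIRing R n c F))))} with hGd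
  have htop : Ideal.span Gd = ⊤ := by
    by_contra hne
    obtain ⟨M, hM, hle⟩ := Ideal.exists_le_maximal _ hne
    obtain ⟨g, hg, hP⟩ := hloc M hM.isPrime
    exact hg (hle (Ideal.subset_span hP))
  obtain ⟨s, hs, hs'⟩ := (Ideal.span_eq_top_iff_finite Gd).mp htop
  exact ⟨s, hs', fun g hg => hs hg⟩

end s9150

end Groth.Agent.Lib.RelGCI
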