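import Mathlib
import Groth.Prelude.Def_RegImm
import Groth.Prelude.Def_Flat
import Groth.Agent.Lib.RelGCIDesc3_helper2

/-!
# Standard syntomic morphisms descend to finite type over `ℤ` (helper2): S9736.
APPEND-ONLY once landed.
-/

set_option autoImplicit false
universe u

namespace Groth.Agent.Lib.RelGCI

open AlgebraicGeometry CategoryTheory CategoryTheory.Limits TensorProduct MvPolynomial

theorem main9736 {X S : Scheme.{u}} (f : X ⟶ S) [IsAffine X] [IsAffine S]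
    (hf : Synt.IsStandardSyntomic f) :
    ∃ (X₀ S₀ : Scheme.{u}) (f₀ : X₀ ⟶ S₀) (g : S ⟶ S₀) (g' : X ⟶ X₀), IsAffine X₀ ∧ IsAffine S₀ ∧
      IsPullback g' f f₀ g ∧ Algebra.FiniteType ℤ Γ(S₀, ⊤) ∧ LocallyOfFiniteType f₀ ∧
      Synt.IsStandardSyntomic f₀ := by
  obtain ⟨R, _, n, c, F, hRel, e₁, e₂, hcomm⟩ := hf
  obtain ⟨R₀, F₀, hft, hmap, hRel₀⟩ := main9148 R n c F hRel
  have hF : F = fun i => MvPolynomial.map (algebraMap R₀ R) (F₀ i) :=
    funext (fun i => (hmap i).symm)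
  subst hF
  have hpb := isPullback_phi R₀ R n c F₀
  refine ⟨Spec (CommRingCat.of (Synt.RelGCIRing R₀ n c F₀)), Spec (CommRingCat.of R₀),
    Spec.map (CommRingCat.ofHom (algebraMap R₀ (Synt.RelGCIRing R₀ n c F₀))),
    e₂.hom ≫ Spec.map (CommRingCat.ofHom (algebraMap R₀ R)),
    e₁.hom ≫ Spec.map (CommRingCat.ofHom (phi R₀ R n c F₀)), inferInstance, inferInstance,
    ?_, ?_, ?_, ?_⟩
  · refine hpb.of_iso e₁.symm (Iso.refl _) e₂.symm (Iso.refl _) ?_ ?_ ?_ ?_
    · simp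
    · rw [Iso.symm_hom, Iso.symm_hom, Iso.eq_inv_comp, ← Category.assoc, hcomm, Category.assoc,
        Iso.hom_inv_id, Category.comp_id]
    · simp
    · simp
  · exact hft.equiv (AlgEquiv.ofRingEquiv
      (f := (Scheme.ΓSpecIso (CommRingCat.of R₀)).symm.commRingCatIsoToRingEquiv)
      (fun z => by
        rw [eq_intCast (algebraMap ℤ ↥R₀) z,
          eq_intCast (algebraMap ℤ ↑Γ(Spec (CommRingCat.of ↥R₀), ⊤)) z, map_intCast]))
  · rw [HasRingHomProperty.Spec_iff (P := @LocallyOfFiniteType)]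
    exact RingHom.finiteType_algebraMap.mpr inferInstance
  · exact ⟨R₀, inferInstance, n, c, F₀, hRel₀, Iso.refl _, Iso.refl _, by simp⟩

end Groth.Agent.Lib.RelGCI
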