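import Mathlib
import Groth.Prelude.Def_AlgSpRep

set_option autoImplicit false
set_option linter.style.haveILetI false
set_option linter.unusedSectionVars false

universe u

namespace Groth.Agent.Lib.RelLimPresH4

open CategoryTheory CategoryTheory.Limits AlgebraicGeometry Opposite AlgSp

variable {S : Scheme.{u}}

/-! ### elementwise helpers -/

theorem map_map (H : PSp S) {X Y Z : Over S} (f : X ⟶ Y) (g : Y ⟶ Z) (z : H.obj (op Z)) :
    H.map f.op (H.map g.op z) = H.map (f ≫ g).op z := by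
  rw [op_comp, Functor.map_comp_apply]

theorem map_one (H : PSp S) {X : Over S} (z : H.obj (op X)) : H.map (𝟙 X).op z = z := by
  rw [op_id, Functor.map_id_apply]

theorem map_chain (H : PSp S) {X Y Z : Over S} (f : X ⟶ Y) (g : Y ⟶ Z) (h : X ⟶ Z)
    (hfg : f ≫ g = h) (z : H.obj (op Z)) : H.map f.op (H.map g.op z) = H.map h.op z := by
  subst hfg; exact map_map H f g z

theorem map_sq (H : PSp S) {X Y Y' Z : Over S} (f : X ⟶ Y) (g : Y ⟶ Z) (f' : X ⟶ Y')
    (g' : Y' ⟶ Z) (h : f ≫ g = f' ≫ g') (z : H.obj (op Z)) :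
    H.map f.op (H.map g.op z) = H.map f'.op (H.map g'.op z) := by
  rw [map_map, map_map, h]

theorem nat_ap {F G : PSp S} (a : F ⟶ G) {X Y : Over S} (f : X ⟶ Y) (x : F.obj (op Y)) :
    a.app (op X) (F.map f.op x) = G.map f.op (a.app (op Y) x) :=
  NatTrans.naturality_apply a f.op x

theorem nat_chain {F G : PSp S} (a : F ⟶ G) {X Y Z : Over S} (f : X ⟶ Y) (g : Y ⟶ Z)
    (h : X ⟶ Z) (hfg : f ≫ g = h) (x : F.obj (op Y)) (y : G.obj (op Z))
    (hx : a.app (op Y) x = G.map g.op y) :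
    a.app (op X) (F.map f.op x) = G.map h.op y := by
  subst hfg
  rw [nat_ap, hx, map_map]

/-! ### the fibre presheaf, elementwise -/

section fib

variable {F G : PSp S} (a : F ⟶ G) (T : Over S) (y : G.obj (op T))

def mkFib (T' : Over T.left) (x : F.obj (op ((Over.map T.hom).obj T')))
    (hx : a.app _ x = G.map (overHom T T').op y) : (fiberFun a T y).obj (op T') :=
  Subtype.mk x hx

def fibVal (T' : (Over T.left)ᵒᵖ) (w : (fiberFun a T y).obj T') :
    F.obj (op ((Over.map T.hom).obj T'.unop)) := w.1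

theorem fibVal_mkFib (T' : Over T.left) (x : F.obj (op ((Over.map T.hom).obj T')))
    (hx : a.app _ x = G.map (overHom T T').op y) :
    fibVal a T y (op T') (mkFib a T y T' x hx) = x := rfl

theorem fibVal_prop (T' : (Over T.left)ᵒᵖ) (w : (fiberFun a T y).obj T') :
    a.app _ (fibVal a T y T' w) = G.map (overHom T T'.unop).op y := w.2

theorem fibVal_map {T' T'' : (Over T.left)ᵒᵖ} (g : T' ⟶ T'') (w : (fiberFun a T y).obj T') :
    fibVal a T y T'' ((fiberFun a T y).map g w) =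
      F.map ((Over.map T.hom).map g.unop).op (fibVal a T y T' w) := rfl

theorem fib_ext (T' : (Over T.left)ᵒᵖ) (w w' : (fiberFun a T y).obj T')
    (h : fibVal a T y T' w = fibVal a T y T' w') : w = w' := Subtype.ext h

end fib

/-! ### the elementwise conditions -/

section E

variable {F G : PSp S} (a : F ⟶ G) {I : Type u} [SmallCategory I] {D : I ⥤ Over S} (c : Cone D)

abbrev cπ (i : I) : c.pt ⟶ D.obj i := c.π.app i

theorem cπ_w {i j : I} (φ : j ⟶ i) : cπ c j ≫ D.map φ = cπ c i := c.w φ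

def E1 : Prop :=
  ∀ (i : I) (y : G.obj (op (D.obj i))) (x : F.obj (op c.pt)),
    a.app (op c.pt) x = G.map (cπ c i).op y →
    ∃ (j : I) (φ : j ⟶ i) (xj : F.obj (op (D.obj j))),
      a.app (op (D.obj j)) xj = G.map (D.map φ).op y ∧ F.map (cπ c j).op xj = x

def E2 : Prop :=
  ∀ (i : I) (x₁ x₂ : F.obj (op (D.obj i))),
    a.app (op (D.obj i)) x₁ = a.app (op (D.obj i)) x₂ →
    F.map (cπ c i).op x₁ = F.map (cπ c i).op x₂ →
    ∃ (j : I) (φ : j ⟶ i), F.map (D.map φ).op x₁ = F.map (D.map φ).op x₂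

def Sq : Prop :=
  IsPullback (colimMap (Functor.whiskerLeft D.op a))
    (colimit.desc (D.op ⋙ F) (F.mapCocone c.op))
    (colimit.desc (D.op ⋙ G) (G.mapCocone c.op)) (a.app (op c.pt))

theorem t_ι (i : Iᵒᵖ) (x : (D.op ⋙ F).obj i) :
    colimMap (Functor.whiskerLeft D.op a) (colimit.ι (D.op ⋙ F) i x) =
      colimit.ι (D.op ⋙ G) i (a.app (op (D.obj i.unop)) x) := by
  have h := ConcreteCategory.congr_hom (ι_colimMap (Functor.whiskerLeft D.op a) i) x
  rw [ConcreteCategory.comp_apply, ConcreteCategory.comp_apply] at h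
  exact h

theorem l_ι (H : PSp S) (i : Iᵒᵖ) (x : (D.op ⋙ H).obj i) :
    colimit.desc (D.op ⋙ H) (H.mapCocone c.op) (colimit.ι (D.op ⋙ H) i x) =
      H.map (cπ c i.unop).op x := by
  have h := ConcreteCategory.congr_hom (colimit.ι_desc (H.mapCocone c.op) i) x
  rw [ConcreteCategory.comp_apply] at h
  exact h

theorem ι_w (D : I ⥤ Over S) (H : PSp S) {i j : Iᵒᵖ} (f : i ⟶ j) (x : (D.op ⋙ H).obj i) :
    colimit.ι (D.op ⋙ H) j (H.map (D.map f.unop).op x) = colimit.ι (D.op ⋙ H) i x := by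
  have h := ConcreteCategory.congr_hom (colimit.w (D.op ⋙ H) f) x
  rw [ConcreteCategory.comp_apply] at h
  exact h

variable [IsCofiltered I]

theorem sq_iff : Sq a c ↔ E1 a c ∧ E2 a c := by
  unfold Sq
  rw [Types.isPullback_iff]
  constructor
  · rintro ⟨-, hinj, hsurj⟩
    constructor
    · intro i y x hx
      obtain ⟨ξ, hξ1, hξ2⟩ := hsurj (colimit.ι (D.op ⋙ G) (op i) y) x
        ((l_ι c G (op i) y).trans hx.symm)
      obtain ⟨j, xj, rfl⟩ := Types.jointly_surjective' ξ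
      have h1 := (t_ι a j xj).symm.trans hξ1
      have h2 := (l_ι c F j xj).symm.trans hξ2
      obtain ⟨k, f, g, hk⟩ := (Types.FilteredColimit.colimit_eq_iff (D.op ⋙ G)).1 h1
      refine ⟨k.unop, g.unop, F.map (D.map f.unop).op xj, ?_, ?_⟩
      · exact (nat_ap a (D.map f.unop) xj).trans hk
      · exact (map_chain F _ _ _ (cπ_w c f.unop) xj).trans h2
    · intro i x₁ x₂ h12 hres
      have h := hinj (colimit.ι (D.op ⋙ F) (op i) x₁) (colimit.ι (D.op ⋙ F) (op i) x₂)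
        ⟨(t_ι a (op i) x₁).trans ((congrArg (fun t => colimit.ι (D.op ⋙ G) (op i) t) h12).trans
          (t_ι a (op i) x₂).symm),
         (l_ι c F (op i) x₁).trans (hres.trans (l_ι c F (op i) x₂).symm)⟩
      obtain ⟨k, f, hk⟩ := (Types.FilteredColimit.isColimit_eq_iff'
        (colimit.isColimit (D.op ⋙ F)) (i := op i) x₁ x₂).1 h
      exact ⟨k.unop, f.unop, hk⟩
  · rintro ⟨h1, h2⟩
    refine ⟨?_, ?_, ?_⟩
    · refine colimit.hom_ext fun j => ?_
      refine ConcreteCategory.hom_ext _ _ fun x => ?_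
      simp only [ConcreteCategory.comp_apply]
      rw [t_ι, l_ι c G, l_ι c F]
      exact (nat_ap a (cπ c j.unop) x).symm
    · rintro ξ₁ ξ₂ ⟨ht, hl⟩
      obtain ⟨j, x₁, x₂, e₁, e₂⟩ := Types.FilteredColimit.jointly_surjective_of_isColimit₂
        (colimit.isColimit (D.op ⋙ F)) ξ₁ ξ₂
      change colimit.ι (D.op ⋙ F) j x₁ = ξ₁ at e₁
      change colimit.ι (D.op ⋙ F) j x₂ = ξ₂ at e₂
      subst e₁ e₂
      have ht' := (t_ι a j x₁).symm.trans (ht.trans (t_ι a j x₂))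
      have hl' := (l_ι c F j x₁).symm.trans (hl.trans (l_ι c F j x₂))
      obtain ⟨k, f, hk⟩ := (Types.FilteredColimit.isColimit_eq_iff'
        (colimit.isColimit (D.op ⋙ G)) (i := j) _ _).1 ht'
      obtain ⟨m, φ, hm⟩ := h2 k.unop (F.map (D.map f.unop).op x₁) (F.map (D.map f.unop).op x₂)
        ((nat_ap a (D.map f.unop) x₁).trans (hk.trans (nat_ap a (D.map f.unop) x₂).symm))
        ((map_chain F _ _ _ (cπ_w c f.unop) x₁).trans
          (hl'.trans (map_chain F _ _ _ (cπ_w c f.unop) x₂).symm))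
      refine (Types.FilteredColimit.isColimit_eq_iff'
        (colimit.isColimit (D.op ⋙ F)) (i := j) x₁ x₂).2 ⟨op m, f ≫ φ.op, ?_⟩
      rw [Functor.map_comp_apply, Functor.map_comp_apply]
      exact hm
    · intro η x hηx
      obtain ⟨i, y, rfl⟩ := Types.jointly_surjective' η
      have h := (l_ι c G i y).symm.trans hηx
      obtain ⟨j, φ, xj, h1', h2'⟩ := h1 i.unop y x h.symm
      refine ⟨colimit.ι (D.op ⋙ F) (op j) xj, ?_, ?_⟩
      · exact (t_ι a (op j) xj).trans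
          ((congrArg (fun t => colimit.ι (D.op ⋙ G) (op j) t) h1').trans
            (ι_w D G (i := i) (j := op j) φ.op y))
      · exact (l_ι c F (op j) xj).trans h2'

end E

/-! ### transport between `U` and `T ×` style objects -/

section eps

def epsHom {T U : Over S} (u : U ⟶ T) : U ⟶ (Over.map T.hom).obj (Over.mk u.left) :=
  Over.homMk (𝟙 U.left) (by simp)

def epsInv {T U : Over S} (u : U ⟶ T) : (Over.map T.hom).obj (Over.mk u.left) ⟶ U :=
  Over.homMk (𝟙 U.left) (by simp)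

theorem epsHom_inv {T U : Over S} (u : U ⟶ T) : epsHom u ≫ epsInv u = 𝟙 U := by
  apply Over.OverMorphism.ext
  show 𝟙 U.left ≫ 𝟙 U.left = 𝟙 U.left
  simp

theorem epsInv_comp {T U : Over S} (u : U ⟶ T) :
    epsInv u ≫ u = overHom T (Over.mk u.left) := by
  apply Over.OverMorphism.ext
  show 𝟙 U.left ≫ u.left = u.left
  simp

theorem epsHom_overHom {T U : Over S} (u : U ⟶ T) :
    epsHom u ≫ overHom T (Over.mk u.left) = u := by
  apply Over.OverMorphism.ext
  show 𝟙 U.left ≫ u.left = u.left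
  simp

end eps

/-! ### the slice diagram -/

section DQ

variable {I : Type u} [SmallCategory I] (D : I ⥤ Over S) (i₀ : I)

abbrev dq (q : Over i₀) : D.obj q.left ⟶ D.obj i₀ := D.map q.hom

abbrev q0 : Over i₀ := Over.mk (𝟙 i₀)

def Dq : Over i₀ ⥤ Over (D.obj i₀).left where
  obj q := Over.mk (dq D i₀ q).left
  map {q q'} g := Over.homMk (D.map g.left).left
    ((Over.comp_left _ _ _ (D.map g.left) (dq D i₀ q')).symm.trans
      (congrArg (fun t => CommaMorphism.left t)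
        ((D.map_comp g.left q'.hom).symm.trans (congrArg (fun t => D.map t) (Over.w g)))))
  map_id q := by
    apply Over.OverMorphism.ext
    show (D.map (𝟙 q.left)).left = 𝟙 _
    rw [D.map_id]; rfl
  map_comp f g := by
    apply Over.OverMorphism.ext
    show (D.map (f.left ≫ g.left)).left = (D.map f.left).left ≫ (D.map g.left).left
    rw [D.map_comp]; rfl

variable {D} (c : Cone D)

def cq : Cone (Dq D i₀) where
  pt := Over.mk (cπ c i₀).left
  π :=
    { app := fun q => Over.homMk (cπ c q.left).left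
        ((Over.comp_left _ _ _ (cπ c q.left) (dq D i₀ q)).symm.trans
          (congrArg (fun t => CommaMorphism.left t) (cπ_w c (i := i₀) (j := q.left) q.hom)))
      naturality := fun q q' g => by
        apply Over.OverMorphism.ext
        show 𝟙 _ ≫ (cπ c q'.left).left = (cπ c q.left).left ≫ (D.map g.left).left
        rw [Category.id_comp, ← Over.comp_left, cπ_w] }

noncomputable def cqIsLimit [IsCofiltered I] (hc : IsLimit ((Over.forget S).mapCone c)) :
    IsLimit ((Over.forget (D.obj i₀).left).mapCone (cq i₀ c)) :=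
  (Functor.Initial.isLimitWhiskerEquiv (Over.forget i₀) ((Over.forget S).mapCone c)).symm hc

theorem sqC (q : Over i₀) :
    epsHom (cπ c i₀) ≫ (Over.map (D.obj i₀).hom).map ((cq i₀ c).π.app q) =
      cπ c q.left ≫ epsHom (dq D i₀ q) := by
  apply Over.OverMorphism.ext
  show 𝟙 c.pt.left ≫ (cπ c q.left).left = (cπ c q.left).left ≫ 𝟙 (D.obj q.left).left
  rw [Category.id_comp, Category.comp_id]

variable [IsCofiltered I] {F G : PSp S} (a : F ⟶ G)

theorem E1_of_rlp (hR : IsRelLimitPreserving a)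
    (hc : IsLimit ((Over.forget S).mapCone c)) (hD : ∀ i, IsAffine (D.obj i).left)
    (hT : IsAffine c.pt.left) : E1 a c := by
  intro i₀ y₀ x hx
  obtain ⟨hΦ⟩ := hR (D.obj i₀) y₀ (Dq D i₀) (cq i₀ c) (cqIsLimit i₀ c hc)
    (fun q => hD q.left) hT
  have hz : a.app _ (F.map (epsInv (cπ c i₀)).op x) =
      G.map (overHom (D.obj i₀) (cq i₀ c).pt).op y₀ :=
    nat_chain a (epsInv (cπ c i₀)) (cπ c i₀) (overHom (D.obj i₀) (cq i₀ c).pt)
      (epsInv_comp (cπ c i₀)) x y₀ hx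
  obtain ⟨q, w, hw⟩ := Types.jointly_surjective_of_isColimit hΦ
    (mkFib a (D.obj i₀) y₀ (cq i₀ c).pt (F.map (epsInv (cπ c i₀)).op x) hz)
  have hw1 : F.map ((Over.map (D.obj i₀).hom).map ((cq i₀ c).π.app q.unop)).op
      (fibVal a (D.obj i₀) y₀ (op ((Dq D i₀).obj q.unop)) w) =
        F.map (epsInv (cπ c i₀)).op x :=
    congrArg (fibVal a (D.obj i₀) y₀ (op (cq i₀ c).pt)) hw
  refine ⟨q.unop.left, q.unop.hom, F.map (epsHom (dq D i₀ q.unop)).op
    (fibVal a (D.obj i₀) y₀ (op ((Dq D i₀).obj q.unop)) w), ?_, ?_⟩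
  · exact nat_chain a (epsHom (dq D i₀ q.unop)) (overHom (D.obj i₀) ((Dq D i₀).obj q.unop))
      (dq D i₀ q.unop) (epsHom_overHom (dq D i₀ q.unop)) _ y₀
      (fibVal_prop a (D.obj i₀) y₀ (op ((Dq D i₀).obj q.unop)) w)
  · calc F.map (cπ c q.unop.left).op (F.map (epsHom (dq D i₀ q.unop)).op
          (fibVal a (D.obj i₀) y₀ (op ((Dq D i₀).obj q.unop)) w))
        = F.map (epsHom (cπ c i₀)).op
            (F.map ((Over.map (D.obj i₀).hom).map ((cq i₀ c).π.app q.unop)).op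
              (fibVal a (D.obj i₀) y₀ (op ((Dq D i₀).obj q.unop)) w)) :=
          map_sq F _ _ _ _ (sqC i₀ c q.unop).symm _
      _ = F.map (epsHom (cπ c i₀)).op (F.map (epsInv (cπ c i₀)).op x) :=
          congrArg (fun t => F.map (epsHom (cπ c i₀)).op t) hw1
      _ = F.map (𝟙 c.pt).op x := map_chain F _ _ _ (epsHom_inv (cπ c i₀)) x
      _ = x := map_one F x

theorem E2_of_rlp (hR : IsRelLimitPreserving a)
    (hc : IsLimit ((Over.forget S).mapCone c)) (hD : ∀ i, IsAffine (D.obj i).left)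
    (hT : IsAffine c.pt.left) : E2 a c := by
  intro i₀ x₁ x₂ h12 hres
  obtain ⟨hΦ⟩ := hR (D.obj i₀) (a.app _ x₁) (Dq D i₀) (cq i₀ c) (cqIsLimit i₀ c hc)
    (fun q => hD q.left) hT
  have key (x' : F.obj (op (D.obj i₀))) :
      F.map ((Over.map (D.obj i₀).hom).map ((cq i₀ c).π.app (q0 i₀))).op
        (F.map (overHom (D.obj i₀) ((Dq D i₀).obj (q0 i₀))).op x') =
      F.map (epsInv (cπ c i₀)).op (F.map (cπ c i₀).op x') :=
    map_sq F _ _ _ _ ((map_comp_overHom (D.obj i₀) ((cq i₀ c).π.app (q0 i₀))).trans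
      (epsInv_comp (cπ c i₀)).symm) x'
  let w₁ := mkFib a (D.obj i₀) (a.app _ x₁) ((Dq D i₀).obj (q0 i₀))
    (F.map (overHom (D.obj i₀) ((Dq D i₀).obj (q0 i₀))).op x₁) (nat_ap a _ x₁)
  let w₂ := mkFib a (D.obj i₀) (a.app _ x₁) ((Dq D i₀).obj (q0 i₀))
    (F.map (overHom (D.obj i₀) ((Dq D i₀).obj (q0 i₀))).op x₂)
    ((nat_ap a _ x₂).trans (congrArg
      (fun t => G.map (overHom (D.obj i₀) ((Dq D i₀).obj (q0 i₀))).op t) h12.symm))
  have hι : ((fiberFun a (D.obj i₀) (a.app _ x₁)).mapCocone (cq i₀ c).op).ι.app (op (q0 i₀)) w₁ =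
      ((fiberFun a (D.obj i₀) (a.app _ x₁)).mapCocone (cq i₀ c).op).ι.app (op (q0 i₀)) w₂ :=
    fib_ext a (D.obj i₀) (a.app _ x₁) (op (cq i₀ c).pt) _ _
      ((key x₁).trans ((congrArg (fun t => F.map (epsInv (cπ c i₀)).op t) hres).trans
        (key x₂).symm))
  obtain ⟨k, f, hk⟩ := (Types.FilteredColimit.isColimit_eq_iff' hΦ (i := op (q0 i₀)) w₁ w₂).1 hι
  have hk1 : F.map ((Over.map (D.obj i₀).hom).map ((Dq D i₀).map f.unop)).op
        (F.map (overHom (D.obj i₀) ((Dq D i₀).obj (q0 i₀))).op x₁) =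
      F.map ((Over.map (D.obj i₀).hom).map ((Dq D i₀).map f.unop)).op
        (F.map (overHom (D.obj i₀) ((Dq D i₀).obj (q0 i₀))).op x₂) :=
    congrArg (fibVal a (D.obj i₀) (a.app _ x₁) (op ((Dq D i₀).obj k.unop))) hk
  have key2 (x' : F.obj (op (D.obj i₀))) :
      F.map (epsHom (dq D i₀ k.unop)).op
        (F.map ((Over.map (D.obj i₀).hom).map ((Dq D i₀).map f.unop)).op
          (F.map (overHom (D.obj i₀) ((Dq D i₀).obj (q0 i₀))).op x')) =
        F.map (dq D i₀ k.unop).op x' :=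
    (congrArg (fun t => F.map (epsHom (dq D i₀ k.unop)).op t)
      (map_chain F _ _ (overHom (D.obj i₀) ((Dq D i₀).obj k.unop))
        (map_comp_overHom (D.obj i₀) ((Dq D i₀).map f.unop)) x')).trans
      (map_chain F _ _ _ (epsHom_overHom (dq D i₀ k.unop)) x')
  exact ⟨k.unop.left, k.unop.hom, (key2 x₁).symm.trans
    ((congrArg (fun t => F.map (epsHom (dq D i₀ k.unop)).op t) hk1).trans (key2 x₂))⟩

end DQ

/-! ### from the elementwise conditions back to relative limit preservation -/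

theorem rlp_of_E {F G : PSp S} (a : F ⟶ G)
    (h : ∀ ⦃I : Type u⦄ [SmallCategory I] [IsCofiltered I] (D : I ⥤ Over S) (c : Cone D),
      IsLimit ((Over.forget S).mapCone c) → (∀ i, IsAffine (D.obj i).left) →
        IsAffine c.pt.left → E1 a c ∧ E2 a c) :
    IsRelLimitPreserving a := by
  intro T₀ y₀ J _ _ D' c' hlim hD' hT'
  obtain ⟨h1, h2⟩ := h (D' ⋙ Over.map T₀.hom) ((Over.map T₀.hom).mapCone c') hlim hD' hT'
  refine ⟨Types.FilteredColimit.isColimitOf' _ _ ?_ ?_⟩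
  · intro z
    obtain ⟨j₀⟩ := IsCofiltered.nonempty (C := J)
    obtain ⟨j, φ, xj, hx1, hx2⟩ := h1 j₀ (G.map (overHom T₀ (D'.obj j₀)).op y₀)
      (fibVal a T₀ y₀ (op c'.pt) z)
      ((fibVal_prop a T₀ y₀ (op c'.pt) z).trans
        (map_chain G _ _ _ (map_comp_overHom T₀ (c'.π.app j₀)) y₀).symm)
    refine ⟨op j, mkFib a T₀ y₀ (D'.obj j) xj
      (hx1.trans (map_chain G _ _ _ (map_comp_overHom T₀ (D'.map φ)) y₀)), ?_⟩
    exact fib_ext a T₀ y₀ (op c'.pt) _ _ hx2.symm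
  · intro i w₁ w₂ hw
    have hw1 : F.map ((Over.map T₀.hom).map (c'.π.app i.unop)).op
        (fibVal a T₀ y₀ (op (D'.obj i.unop)) w₁) =
        F.map ((Over.map T₀.hom).map (c'.π.app i.unop)).op
          (fibVal a T₀ y₀ (op (D'.obj i.unop)) w₂) :=
      congrArg (fibVal a T₀ y₀ (op c'.pt)) hw
    obtain ⟨k, φ, hk⟩ := h2 i.unop (fibVal a T₀ y₀ (op (D'.obj i.unop)) w₁)
      (fibVal a T₀ y₀ (op (D'.obj i.unop)) w₂)
      ((fibVal_prop a T₀ y₀ (op (D'.obj i.unop)) w₁).trans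
        (fibVal_prop a T₀ y₀ (op (D'.obj i.unop)) w₂).symm) hw1
    exact ⟨op k, φ.op, fib_ext a T₀ y₀ (op (D'.obj k)) _ _ hk⟩

theorem rlp_iff_E {F G : PSp S} (a : F ⟶ G) :
    IsRelLimitPreserving a ↔
      ∀ ⦃I : Type u⦄ [SmallCategory I] [IsCofiltered I] (D : I ⥤ Over S) (c : Cone D),
        IsLimit ((Over.forget S).mapCone c) → (∀ i, IsAffine (D.obj i).left) →
          IsAffine c.pt.left → E1 a c ∧ E2 a c :=
  ⟨fun hR _ _ _ _ c hc hD hT => ⟨E1_of_rlp c a hR hc hD hT, E2_of_rlp c a hR hc hD hT⟩,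
    rlp_of_E a⟩

theorem main10067 (S : Scheme.{u}) {F G : AlgSp.PSp S} (a : F ⟶ G) :
    AlgSp.IsRelLimitPreserving a ↔
      ∀ ⦃I : Type u⦄ [SmallCategory I] [IsCofiltered I] (D : I ⥤ Over S) (c : Cone D),
        IsLimit ((Over.forget S).mapCone c) → (∀ i, IsAffine (D.obj i).left) →
          IsAffine c.pt.left →
          IsPullback (colimMap (Functor.whiskerLeft D.op a))
            (colimit.desc (D.op ⋙ F) (F.mapCocone c.op))
            (colimit.desc (D.op ⋙ G) (G.mapCocone c.op)) (a.app (Opposite.op c.pt)) := by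
  rw [rlp_iff_E]
  constructor
  · intro h I _ _ D c hc hD hT
    exact (sq_iff a c).2 (h D c hc hD hT)
  · intro h I _ _ D c hc hD hT
    exact (sq_iff a c).1 (h D c hc hD hT)

/-! ### composition, cancellation, base change -/

section ops

variable {I : Type u} [SmallCategory I] {D : I ⥤ Over S} (c : Cone D)

theorem E1_comp {F G H : PSp S} (a : F ⟶ G) (b : G ⟶ H) (ha : E1 a c) (hb : E1 b c) :
    E1 (a ≫ b) c := by
  intro i z x hx
  obtain ⟨j, φ, gj, hg1, hg2⟩ := hb i z (a.app _ x) hx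
  obtain ⟨k, ψ, xk, hk1, hk2⟩ := ha j gj x hg2.symm
  refine ⟨k, ψ ≫ φ, xk, ?_, hk2⟩
  exact (congrArg (fun t => b.app (op (D.obj k)) t) hk1).trans
    (nat_chain b (D.map ψ) (D.map φ) (D.map (ψ ≫ φ)) (D.map_comp ψ φ).symm gj z hg1)

theorem E2_comp {F G H : PSp S} (a : F ⟶ G) (b : G ⟶ H) (ha : E2 a c) (hb : E2 b c) :
    E2 (a ≫ b) c := by
  intro i x₁ x₂ h12 hres
  obtain ⟨j, φ, hj⟩ := hb i (a.app _ x₁) (a.app _ x₂) h12
    ((nat_ap a (cπ c i) x₁).symm.trans
      ((congrArg (fun t => a.app (op c.pt) t) hres).trans (nat_ap a (cπ c i) x₂)))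
  obtain ⟨k, ψ, hk⟩ := ha j (F.map (D.map φ).op x₁) (F.map (D.map φ).op x₂)
    ((nat_ap a (D.map φ) x₁).trans (hj.trans (nat_ap a (D.map φ) x₂).symm))
    ((map_chain F _ _ _ (cπ_w c φ) x₁).trans
      (hres.trans (map_chain F _ _ _ (cπ_w c φ) x₂).symm))
  exact ⟨k, ψ ≫ φ,
    (map_chain F (D.map ψ) (D.map φ) (D.map (ψ ≫ φ)) (D.map_comp ψ φ).symm x₁).symm.trans
      (hk.trans (map_chain F (D.map ψ) (D.map φ) (D.map (ψ ≫ φ)) (D.map_comp ψ φ).symm x₂))⟩

theorem E1_cancel {F G H : PSp S} (a : F ⟶ G) (b : G ⟶ H) (hab1 : E1 (a ≫ b) c)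
    (hb2 : E2 b c) : E1 a c := by
  intro i y x hx
  have h0 : (a ≫ b).app (op c.pt) x = H.map (cπ c i).op (b.app _ y) :=
    (congrArg (fun t => b.app (op c.pt) t) hx).trans (nat_ap b (cπ c i) y)
  obtain ⟨j, φ, xj, hj1, hj2⟩ := hab1 i (b.app _ y) x h0
  obtain ⟨k, ψ, hk⟩ := hb2 j (a.app _ xj) (G.map (D.map φ).op y)
    (hj1.trans (nat_ap b (D.map φ) y).symm)
    ((nat_ap a (cπ c j) xj).symm.trans ((congrArg (fun t => a.app (op c.pt) t) hj2).trans
      (hx.trans (map_chain G _ _ _ (cπ_w c φ) y).symm)))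
  refine ⟨k, ψ ≫ φ, F.map (D.map ψ).op xj, ?_, ?_⟩
  · exact (nat_ap a (D.map ψ) xj).trans
      (hk.trans (map_chain G _ _ _ (D.map_comp ψ φ).symm y))
  · exact (map_chain F _ _ _ (cπ_w c ψ) xj).trans hj2

theorem E2_cancel {F G H : PSp S} (a : F ⟶ G) (b : G ⟶ H) (hab2 : E2 (a ≫ b) c) :
    E2 a c := by
  intro i x₁ x₂ h12 hres
  exact hab2 i x₁ x₂ (congrArg (fun t => b.app (op (D.obj i)) t) h12) hres

variable {F G H P : PSp S} {a : F ⟶ G} {b : H ⟶ G} {fst : P ⟶ F} {snd : P ⟶ H}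

theorem pb_w (hP : IsPullback fst snd a b) (X : (Over S)ᵒᵖ) (p : P.obj X) :
    a.app X (fst.app X p) = b.app X (snd.app X p) :=
  ConcreteCategory.congr_hom (NatTrans.congr_app hP.w X) p

theorem pb_ext (hP : IsPullback fst snd a b) (X : (Over S)ᵒᵖ) (p₁ p₂ : P.obj X)
    (h1 : fst.app X p₁ = fst.app X p₂) (h2 : snd.app X p₁ = snd.app X p₂) : p₁ = p₂ := by
  have hX : IsPullback (fst.app X) (snd.app X) (a.app X) (b.app X) :=
    hP.map ((evaluation (Over S)ᵒᵖ (Type (u + 1))).obj X)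
  exact ((Types.isPullback_iff _ _ _ _).1 hX).2.1 p₁ p₂ ⟨h1, h2⟩

theorem pb_exists (hP : IsPullback fst snd a b) (X : (Over S)ᵒᵖ) (x : F.obj X) (h : H.obj X)
    (hxh : a.app X x = b.app X h) : ∃ p : P.obj X, fst.app X p = x ∧ snd.app X p = h := by
  have hX : IsPullback (fst.app X) (snd.app X) (a.app X) (b.app X) :=
    hP.map ((evaluation (Over S)ᵒᵖ (Type (u + 1))).obj X)
  exact ((Types.isPullback_iff _ _ _ _).1 hX).2.2 x h hxh

theorem E1_bc (hP : IsPullback fst snd a b) (hb1 : E1 b c) : E1 fst c := by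
  intro i x p hp
  have h0 : b.app (op c.pt) (snd.app (op c.pt) p) = G.map (cπ c i).op (a.app _ x) :=
    (pb_w hP _ p).symm.trans
      ((congrArg (fun t => a.app (op c.pt) t) hp).trans (nat_ap a (cπ c i) x))
  obtain ⟨j, φ, hj, hj1, hj2⟩ := hb1 i (a.app _ x) (snd.app (op c.pt) p) h0
  obtain ⟨pj, hpj1, hpj2⟩ := pb_exists hP (op (D.obj j)) (F.map (D.map φ).op x) hj
    ((nat_ap a (D.map φ) x).trans hj1.symm)
  refine ⟨j, φ, pj, hpj1, ?_⟩
  apply pb_ext hP (op c.pt)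
  · exact (nat_ap fst (cπ c j) pj).trans
      ((congrArg (fun t => F.map (cπ c j).op t) hpj1).trans
        ((map_chain F _ _ _ (cπ_w c φ) x).trans hp.symm))
  · exact (nat_ap snd (cπ c j) pj).trans
      ((congrArg (fun t => H.map (cπ c j).op t) hpj2).trans hj2)

theorem E2_bc (hP : IsPullback fst snd a b) (hb2 : E2 b c) : E2 fst c := by
  intro i p₁ p₂ h12 hres
  obtain ⟨j, φ, hj⟩ := hb2 i (snd.app _ p₁) (snd.app _ p₂)
    ((pb_w hP _ p₁).symm.trans
      ((congrArg (fun t => a.app (op (D.obj i)) t) h12).trans (pb_w hP _ p₂)))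
    ((nat_ap snd (cπ c i) p₁).symm.trans
      ((congrArg (fun t => snd.app (op c.pt) t) hres).trans (nat_ap snd (cπ c i) p₂)))
  refine ⟨j, φ, pb_ext hP (op (D.obj j)) _ _ ?_ ?_⟩
  · exact (nat_ap fst (D.map φ) p₁).trans
      ((congrArg (fun t => F.map (D.map φ).op t) h12).trans (nat_ap fst (D.map φ) p₂).symm)
  · exact (nat_ap snd (D.map φ) p₁).trans (hj.trans (nat_ap snd (D.map φ) p₂).symm)

end ops

theorem main10025 (S : Scheme.{u}) {F G H : AlgSp.PSp S} (a : F ⟶ G) (b : G ⟶ H)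
    (ha : AlgSp.IsRelLimitPreserving a) (hb : AlgSp.IsRelLimitPreserving b) :
    AlgSp.IsRelLimitPreserving (a ≫ b) := by
  rw [rlp_iff_E] at ha hb ⊢
  intro I _ _ D c hc hD hT
  obtain ⟨ha1, ha2⟩ := ha D c hc hD hT
  obtain ⟨hb1, hb2⟩ := hb D c hc hD hT
  exact ⟨E1_comp c a b ha1 hb1, E2_comp c a b ha2 hb2⟩

theorem main10026 (S : Scheme.{u}) {F G H : AlgSp.PSp S} (a : F ⟶ G) (b : G ⟶ H)
    (hab : AlgSp.IsRelLimitPreserving (a ≫ b)) (hb : AlgSp.IsRelLimitPreserving b) :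
    AlgSp.IsRelLimitPreserving a := by
  rw [rlp_iff_E] at hab hb ⊢
  intro I _ _ D c hc hD hT
  obtain ⟨hab1, hab2⟩ := hab D c hc hD hT
  obtain ⟨-, hb2⟩ := hb D c hc hD hT
  exact ⟨E1_cancel c a b hab1 hb2, E2_cancel c a b hab2⟩

theorem main10027 (S : Scheme.{u}) {E F G H P : AlgSp.PSp S}
    (a : F ⟶ G) (b : H ⟶ G) (c : G ⟶ E) (fst : P ⟶ F) (snd : P ⟶ H)
    (hP : IsPullback fst snd a b)
    (hc : AlgSp.IsRelLimitPreserving c) (hac : AlgSp.IsRelLimitPreserving (a ≫ c))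
    (hbc : AlgSp.IsRelLimitPreserving (b ≫ c)) :
    AlgSp.IsRelLimitPreserving (fst ≫ a ≫ c) := by
  have hb : IsRelLimitPreserving b := main10026 S b c hbc hc
  have hfst : IsRelLimitPreserving fst := by
    rw [rlp_iff_E] at hb ⊢
    intro I _ _ D cc hcc hD hT
    obtain ⟨h1, h2⟩ := hb D cc hcc hD hT
    exact ⟨E1_bc cc hP h1, E2_bc cc hP h2⟩
  exact main10025 S fst (a ≫ c) hfst hac

end Groth.Agent.Lib.RelLimPresH4
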