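import Mathlib
import Groth.Prelude.Def_CohCx
import Groth.Agent.Lib.DerivedLES2_helper2
import Groth.Agent.Lib.RestrOpen_helper2

/-!
# Relative Mayer–Vietoris sequence for higher direct images
-/

set_option autoImplicit false
universe u
open CategoryTheory Limits TopologicalSpace Opposite

namespace Groth.Agent.Lib.RelMV

open Groth.Agent.Lib.Cech Groth.Agent.Lib.FlasqueAcyclic Groth.Agent.Lib.RestrOpen
  Groth.Agent.Lib.DerivedLES

lemma exact_mk₂_of_iso {E : Type*} [Category E] [Abelian E] {A B Cc A' B' Cc' : E}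
    (f : A ⟶ B) (g : B ⟶ Cc) (f' : A' ⟶ B') (g' : B' ⟶ Cc') (e₁ : A ≅ A') (e₂ : B ≅ B')
    (e₃ : Cc ≅ Cc') (hf : f ≫ e₂.hom = e₁.hom ≫ f') (hg : g ≫ e₃.hom = e₂.hom ≫ g')
    (h : ∃ w : f ≫ g = 0, (ShortComplex.mk f g w).Exact) :
    (ComposableArrows.mk₂ f' g').Exact := by
  obtain ⟨w, hS⟩ := h
  have w' : f' ≫ g' = 0 := by
    have h1 : e₁.hom ≫ f' ≫ g' = 0 := by
      rw [← reassoc_of% hf, ← hg, reassoc_of% w]
      simp
    exact (cancel_epi e₁.hom).1 (by rw [h1, comp_zero])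
  have hS' : (ShortComplex.mk f' g' w').Exact :=
    ShortComplex.exact_of_iso (ShortComplex.isoMk e₁ e₂ e₃ hf.symm hg.symm) hS
  exact hS'.exact_toComposableArrows

section BiprodSections

variable {Y : TopCat.{u}} {A B : CohTop.Ab Y} (W : Opens Y)

lemma mono_of_app_injective {A B : CohTop.Ab Y} (φ : A ⟶ B)
    (h : ∀ W : Opens Y, Function.Injective (φ.hom.app (op W)).hom) : Mono φ := by
  rw [Sheaf.Hom.mono_iff_presheaf_mono]
  apply (NatTrans.mono_iff_mono_app _).mpr
  intro W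
  rw [AddCommGrpCat.mono_iff_injective]
  exact h W.unop

lemma sec_total (x : (A ⊞ B).obj.obj (op W)) :
    x = ((biprod.inl : A ⟶ A ⊞ B).hom.app (op W)).hom
          (((biprod.fst : A ⊞ B ⟶ A).hom.app (op W)).hom x) +
        ((biprod.inr : B ⟶ A ⊞ B).hom.app (op W)).hom
          (((biprod.snd : A ⊞ B ⟶ B).hom.app (op W)).hom x) := by
  have h := congrArg (fun ψ : A ⊞ B ⟶ A ⊞ B => (ψ.hom.app (op W)).hom x)
    (biprod.total (X := A) (Y := B))
  exact h.symm

lemma sec_ext (s t : (A ⊞ B).obj.obj (op W))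
    (h1 : ((biprod.fst : A ⊞ B ⟶ A).hom.app (op W)).hom s =
      ((biprod.fst : A ⊞ B ⟶ A).hom.app (op W)).hom t)
    (h2 : ((biprod.snd : A ⊞ B ⟶ B).hom.app (op W)).hom s =
      ((biprod.snd : A ⊞ B ⟶ B).hom.app (op W)).hom t) : s = t := by
  rw [sec_total W s, sec_total W t, h1, h2]

lemma fst_lift {T : CohTop.Ab Y} (φ : T ⟶ A) (ψ : T ⟶ B) (t : T.obj.obj (op W)) :
    ((biprod.fst : A ⊞ B ⟶ A).hom.app (op W)).hom (((biprod.lift φ ψ).hom.app (op W)).hom t) =
      (φ.hom.app (op W)).hom t :=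
  congrArg (fun ψ' : T ⟶ A => (ψ'.hom.app (op W)).hom t) (biprod.lift_fst φ ψ)

lemma snd_lift {T : CohTop.Ab Y} (φ : T ⟶ A) (ψ : T ⟶ B) (t : T.obj.obj (op W)) :
    ((biprod.snd : A ⊞ B ⟶ B).hom.app (op W)).hom (((biprod.lift φ ψ).hom.app (op W)).hom t) =
      (ψ.hom.app (op W)).hom t :=
  congrArg (fun ψ' : T ⟶ B => (ψ'.hom.app (op W)).hom t) (biprod.lift_snd φ ψ)

lemma desc_app {T : CohTop.Ab Y} (φ : A ⟶ T) (ψ : B ⟶ T) (s : (A ⊞ B).obj.obj (op W)) :
    ((biprod.desc φ ψ).hom.app (op W)).hom s =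
      (φ.hom.app (op W)).hom (((biprod.fst : A ⊞ B ⟶ A).hom.app (op W)).hom s) +
      (ψ.hom.app (op W)).hom (((biprod.snd : A ⊞ B ⟶ B).hom.app (op W)).hom s) :=
  congrArg (fun ψ' : A ⊞ B ⟶ T => (ψ'.hom.app (op W)).hom s) (biprod.desc_eq (f := φ) (g := ψ))

lemma desc_inl {T : CohTop.Ab Y} (φ : A ⟶ T) (ψ : B ⟶ T) (a : A.obj.obj (op W)) :
    ((biprod.desc φ ψ).hom.app (op W)).hom (((biprod.inl : A ⟶ A ⊞ B).hom.app (op W)).hom a) =
      (φ.hom.app (op W)).hom a :=
  congrArg (fun ψ' : A ⟶ T => (ψ'.hom.app (op W)).hom a) (biprod.inl_desc φ ψ)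

lemma neg_app {A B : CohTop.Ab Y} (φ : A ⟶ B) (s : A.obj.obj (op W)) :
    ((-φ).hom.app (op W)).hom s = -((φ.hom.app (op W)).hom s) := rfl

end BiprodSections

variable {X Y : TopCat.{u}} (f : X ⟶ Y) (U V : Opens X)

/-- preimage -/
abbrev PW (W : Opens Y) : Opens X := (Opens.map f).obj W

/-- `U ∩ f⁻¹ W` as the image in `X` of the preimage in `U` -/
noncomputable abbrev AW (W : Opens Y) : Opens X := jj U ((Opens.map (CohCx.incl U ≫ f)).obj W)

variable {f U V}

lemma mem_AW {W : Opens Y} {x : X} : x ∈ AW f U W ↔ x ∈ U ∧ x ∈ PW f W := by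
  constructor
  · rintro ⟨y, hy, rfl⟩
    exact ⟨y.2, hy⟩
  · rintro ⟨hx, hfx⟩
    exact ⟨⟨x, hx⟩, hfx, rfl⟩

lemma AW_le_PW (W : Opens Y) : AW f U W ≤ PW f W := fun _ hx => (mem_AW.1 hx).2

lemma AW_mono (h : V ≤ U) (W : Opens Y) : AW f V W ≤ AW f U W :=
  fun _ hx => mem_AW.2 ⟨h (mem_AW.1 hx).1, (mem_AW.1 hx).2⟩

lemma AW_inf_le (W : Opens Y) : AW f U W ⊓ AW f V W ≤ AW f (U ⊓ V) W :=
  fun _ hx => mem_AW.2 ⟨⟨(mem_AW.1 hx.1).1, (mem_AW.1 hx.2).1⟩, (mem_AW.1 hx.1).2⟩

lemma AW_inf_le' (W : Opens Y) : AW f V W ⊓ AW f U W ≤ AW f (U ⊓ V) W :=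
  fun _ hx => mem_AW.2 ⟨⟨(mem_AW.1 hx.2).1, (mem_AW.1 hx.1).1⟩, (mem_AW.1 hx.1).2⟩

/-- the two-element cover of `f⁻¹ W` -/
noncomputable def cov (f : X ⟶ Y) (U V : Opens X) (W : Opens Y) : Bool → Opens X
  | true => AW f U W
  | false => AW f V W

lemma cov_le (W : Opens Y) (b : Bool) : cov f U V W b ≤ PW f W := by
  cases b
  · exact AW_le_PW W
  · exact AW_le_PW W

lemma le_cov (hUV : U ⊔ V = ⊤) (W : Opens Y) : PW f W ≤ iSup (cov f U V W) := by
  intro x hx
  have hx' : x ∈ U ⊔ V := by rw [hUV]; trivial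
  rcases hx' with h | h
  · exact Opens.mem_iSup.2 ⟨true, mem_AW.2 ⟨h, hx⟩⟩
  · exact Opens.mem_iSup.2 ⟨false, mem_AW.2 ⟨h, hx⟩⟩

variable (f U V)

lemma pa_ra (h : V ≤ U) :
    CohCx.pushToRestrPush f U ≫ CohCx.restrPushToRestrPush f h = CohCx.pushToRestrPush f V := by
  ext F : 2
  ext : 2
  funext W
  change F.obj.map _ ≫ F.obj.map _ = F.obj.map _
  rw [← F.obj.map_comp]
  rfl

/-- the functors -/
noncomputable abbrev Gr (U : Opens X) : CohTop.Ab X ⥤ CohTop.Ab Y :=
  CohTop.restrFunctor U ⋙ CohTop.push (CohCx.incl U ≫ f)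

noncomputable def α : CohTop.push f ⟶ biprodFunctor (Gr f U) (Gr f V) :=
  liftN (CohCx.pushToRestrPush f U) (CohCx.pushToRestrPush f V)

noncomputable def β : biprodFunctor (Gr f U) (Gr f V) ⟶ Gr f (U ⊓ V) :=
  descN (CohCx.restrPushToRestrPush f (inf_le_left : U ⊓ V ≤ U))
    (-(CohCx.restrPushToRestrPush f (inf_le_right : U ⊓ V ≤ V)))

lemma w : α f U V ≫ β f U V = 0 := by
  ext I : 2
  show biprod.lift _ _ ≫ biprod.desc _ _ = 0
  rw [biprod.lift_desc]
  have h1 := congrArg (fun t => t.app I) (pa_ra f U (U ⊓ V) inf_le_left)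
  have h2 := congrArg (fun t => t.app I) (pa_ra f V (U ⊓ V) inf_le_right)
  simp only [NatTrans.comp_app] at h1 h2
  rw [h1]
  show _ + (CohCx.pushToRestrPush f V).app I ≫
    (-((CohCx.restrPushToRestrPush f (inf_le_right : U ⊓ V ≤ V)).app I)) = 0
  rw [Preadditive.comp_neg, h2]
  exact add_neg_cancel _

variable {f U V}

lemma pa_app (I : CohTop.Ab X) (W : Opens Y) (s : I.obj.obj (op (PW f W))) :
    (((CohCx.pushToRestrPush f U).app I).hom.app (op W)).hom s = res I.obj (AW_le_PW W) s := rfl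

lemma ra_app (I : CohTop.Ab X) (h : V ≤ U) (W : Opens Y) (s : I.obj.obj (op (AW f U W))) :
    (((CohCx.restrPushToRestrPush f h).app I).hom.app (op W)).hom s =
      res I.obj (AW_mono h W) s := rfl

lemma hI (hUV : U ⊔ V = ⊤) (I : CohTop.Ab X) (hinj : Injective I) :
    (ShortComplex.mk ((α f U V).app I) ((β f U V).app I)
      (app_zero (α f U V) (β f U V) (w f U V) I)).ShortExact := by
  haveI := hinj
  haveI := isFlasque_of_injective I
  have hmono : Mono ((α f U V).app I) := by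
    apply mono_of_app_injective
    intro W
    rw [injective_iff_map_eq_zero]
    intro t ht
    have h1 : res I.obj (AW_le_PW (U := U) W) t = 0 := by
      rw [← pa_app (U := U) I W t]
      have := fst_lift W ((CohCx.pushToRestrPush f U).app I) ((CohCx.pushToRestrPush f V).app I) t
      rw [← this]
      erw [ht]
      exact map_zero _
    have h2 : res I.obj (AW_le_PW (U := V) W) t = 0 := by
      rw [← pa_app (U := V) I W t]
      have := snd_lift W ((CohCx.pushToRestrPush f U).app I) ((CohCx.pushToRestrPush f V).app I) t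
      rw [← this]
      erw [ht]
      exact map_zero _
    apply ext_of_cover I (cov f U V W) (PW f W) (cov_le W) (le_cov hUV W)
    intro b
    refine Eq.trans ?_ (map_zero _).symm
    cases b
    · exact h2
    · exact h1
  have hex : (ShortComplex.mk ((α f U V).app I) ((β f U V).app I)
      (app_zero (α f U V) (β f U V) (w f U V) I)).Exact := by
    apply exact_of_local
    intro W s hs x hx
    refine ⟨W, le_rfl, hx, ?_⟩
    obtain ⟨a, ha⟩ : ∃ a : I.obj.obj (op (AW f U W)), a =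
      ((biprod.fst : (Gr f U).obj I ⊞ (Gr f V).obj I ⟶ _).hom.app (op W)).hom s := ⟨_, rfl⟩
    obtain ⟨b, hb⟩ : ∃ b : I.obj.obj (op (AW f V W)), b =
      ((biprod.snd : (Gr f U).obj I ⊞ (Gr f V).obj I ⟶ _).hom.app (op W)).hom s := ⟨_, rfl⟩
    have hab : res I.obj (AW_mono (inf_le_left : U ⊓ V ≤ U) W) a =
        res I.obj (AW_mono (inf_le_right : U ⊓ V ≤ V) W) b := by
      have h1 := desc_app W ((CohCx.restrPushToRestrPush f (inf_le_left : U ⊓ V ≤ U)).app I)
        (-((CohCx.restrPushToRestrPush f (inf_le_right : U ⊓ V ≤ V)).app I)) s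
      rw [← ha, ← hb, neg_app, ra_app, ra_app] at h1
      have h2 : res I.obj (AW_mono (inf_le_left : U ⊓ V ≤ U) W) a +
          -res I.obj (AW_mono (inf_le_right : U ⊓ V ≤ V) W) b = 0 := by
        exact h1.symm.trans hs
      exact add_neg_eq_zero.1 h2
    obtain ⟨t, ht⟩ := glue I (cov f U V W) (PW f W) (cov_le W) (le_cov hUV W)
      (fun k => match k with
        | true => a
        | false => b)
      (by
        intro k l
        cases k <;> cases l
        · rfl
        · have := congrArg (res I.obj (AW_inf_le' (U := U) (V := V) W)) hab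
          rw [res_res, res_res] at this
          exact this.symm
        · have := congrArg (res I.obj (AW_inf_le (U := U) (V := V) W)) hab
          rw [res_res, res_res] at this
          exact this
        · rfl)
    refine ⟨t, ?_⟩
    rw [res_self]
    apply sec_ext W
    · refine (fst_lift W ((CohCx.pushToRestrPush f U).app I)
        ((CohCx.pushToRestrPush f V).app I) t).trans ?_
      rw [← ha]
      exact ht true
    · refine (snd_lift W ((CohCx.pushToRestrPush f U).app I)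
        ((CohCx.pushToRestrPush f V).app I) t).trans ?_
      rw [← hb]
      exact ht false
  have hepi : Epi ((β f U V).app I) := by
    apply epi_of_local
    intro W c x hx
    have hepi : Epi (I.obj.map (homOfLE (AW_mono (f := f) (inf_le_left : U ⊓ V ≤ U) W)).op) :=
      TopCat.Presheaf.IsFlasque.epi (F := I.obj) _
    obtain ⟨a, ha⟩ := (AddCommGrpCat.epi_iff_surjective _).mp hepi c
    refine ⟨W, le_rfl, hx, ((biprod.inl : (Gr f U).obj I ⟶ (Gr f U).obj I ⊞ (Gr f V).obj I).hom.app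
      (op W)).hom a, ?_⟩
    rw [res_self]
    refine (desc_inl W ((CohCx.restrPushToRestrPush f (inf_le_left : U ⊓ V ≤ U)).app I)
        (-((CohCx.restrPushToRestrPush f (inf_le_right : U ⊓ V ≤ V)).app I)) a).trans ?_
    exact ha
  exact ShortComplex.ShortExact.mk' hex hmono hepi

variable (f U V)

lemma hα (n : ℕ) (F : CohTop.Ab X) :
    (NatTrans.rightDerived (α f U V) n).app F ≫ (θ (Gr f U) (Gr f V) n F).hom =
      biprod.lift ((NatTrans.rightDerived (CohCx.pushToRestrPush f U) n).app F)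
        ((NatTrans.rightDerived (CohCx.pushToRestrPush f V) n).app F) :=
  rightDerived_liftN_θ _ _ n F

lemma hβ (n : ℕ) (F : CohTop.Ab X) :
    (θ (Gr f U) (Gr f V) n F).inv ≫ (NatTrans.rightDerived (β f U V) n).app F =
      biprod.desc
        ((NatTrans.rightDerived (CohCx.restrPushToRestrPush f (inf_le_left : U ⊓ V ≤ U)) n).app F)
        (-((NatTrans.rightDerived
          (CohCx.restrPushToRestrPush f (inf_le_right : U ⊓ V ≤ V)) n).app F)) := by
  rw [← rightDerived_neg]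
  exact θ_inv_rightDerived_descN _ _ n F

theorem main (hUV : U ⊔ V = ⊤) (F : CohTop.Ab X) :
    ∃ δ : ∀ n : ℕ, (CohCx.RpushOn f (U ⊓ V) n).obj F ⟶ (CohTop.Rpush f (n + 1)).obj F,
      Mono (biprod.lift ((NatTrans.rightDerived (CohCx.pushToRestrPush f U) 0).app F)
        ((NatTrans.rightDerived (CohCx.pushToRestrPush f V) 0).app F)) ∧
      ∀ n : ℕ,
        (ComposableArrows.mk₂
          (biprod.lift ((NatTrans.rightDerived (CohCx.pushToRestrPush f U) n).app F)
            ((NatTrans.rightDerived (CohCx.pushToRestrPush f V) n).app F))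
          (biprod.desc
            ((NatTrans.rightDerived (CohCx.restrPushToRestrPush f (inf_le_left : U ⊓ V ≤ U)) n).app F)
            (-((NatTrans.rightDerived (CohCx.restrPushToRestrPush f (inf_le_right : U ⊓ V ≤ V)) n).app F)))).Exact ∧
        (ComposableArrows.mk₂
          (biprod.desc
            ((NatTrans.rightDerived (CohCx.restrPushToRestrPush f (inf_le_left : U ⊓ V ≤ U)) n).app F)
            (-((NatTrans.rightDerived (CohCx.restrPushToRestrPush f (inf_le_right : U ⊓ V ≤ V)) n).app F)))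
          (δ n)).Exact ∧
        (ComposableArrows.mk₂ (δ n)
          (biprod.lift ((NatTrans.rightDerived (CohCx.pushToRestrPush f U) (n + 1)).app F)
            ((NatTrans.rightDerived (CohCx.pushToRestrPush f V) (n + 1)).app F))).Exact := by
  have hβ' : ∀ n : ℕ, (NatTrans.rightDerived (β f U V) n).app F ≫ (Iso.refl _).hom =
      (θ (Gr f U) (Gr f V) n F).hom ≫ biprod.desc
        ((NatTrans.rightDerived (CohCx.restrPushToRestrPush f (inf_le_left : U ⊓ V ≤ U)) n).app F)
        (-((NatTrans.rightDerived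
          (CohCx.restrPushToRestrPush f (inf_le_right : U ⊓ V ≤ V)) n).app F)) := by
    intro n
    rw [← hβ f U V n F]
    simp
  have hα' : ∀ n : ℕ, (NatTrans.rightDerived (α f U V) n).app F ≫ (θ (Gr f U) (Gr f V) n F).hom =
      (Iso.refl _).hom ≫ biprod.lift ((NatTrans.rightDerived (CohCx.pushToRestrPush f U) n).app F)
        ((NatTrans.rightDerived (CohCx.pushToRestrPush f V) n).app F) := by
    intro n
    rw [hα f U V n F]
    simp
  refine ⟨fun n => (δnat (α f U V) (β f U V) (w f U V) (hI hUV) n).app F, ?_,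
    fun n => ⟨?_, ?_, ?_⟩⟩
  · rw [← hα f U V 0 F]
    haveI := mono_rightDerived_zero (α f U V) (β f U V) (w f U V) (hI hUV) F
    exact mono_comp _ _
  · exact exact_mk₂_of_iso _ _ _ _ (Iso.refl _) (θ (Gr f U) (Gr f V) n F) (Iso.refl _)
      (hα' n) (hβ' n) (exact_αβ (α f U V) (β f U V) (w f U V) (hI hUV) n F)
  · exact exact_mk₂_of_iso _ _ _ _ (θ (Gr f U) (Gr f V) n F) (Iso.refl _) (Iso.refl _)
      (hβ' n) (by simp) (exact_δnat (α f U V) (β f U V) (w f U V) (hI hUV) n F)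
  · exact exact_mk₂_of_iso _ _ _ _ (Iso.refl _) (Iso.refl _) (θ (Gr f U) (Gr f V) (n + 1) F)
      (by simp) (hα' (n + 1)) (exact_δα (α f U V) (β f U V) (w f U V) (hI hUV) n F)

end Groth.Agent.Lib.RelMV
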