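import Groth.Agent.Lib.AffDesc5_helper7
import Groth.Prelude.Def_AlgSpMor5
import Mathlib.AlgebraicGeometry.Normalization

/-!
# The relative normalization of schemes is the normalization of algebraic spaces (helper7)
-/

set_option autoImplicit false
universe u
open CategoryTheory CategoryTheory.Limits AlgebraicGeometry Opposite

namespace Groth.Agent.Lib.RelNormSchH7

open AlgSp Groth.Agent.Lib.AffDescH7

variable {S : Scheme.{u}}

theorem existsUnique_over {V U N Z₀ : Over S} (g : V ⟶ U) [QuasiCompact g.left]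
    [QuasiSeparated g.left] (f' : V ⟶ N) (ν : N ⟶ U) (e : N.left ≅ g.left.normalization)
    (he1 : f'.left ≫ e.hom = g.left.toNormalization)
    (he2 : e.hom ≫ g.left.fromNormalization = ν.left)
    (sndZ : Z₀ ⟶ U) [IsIntegralHom sndZ.left] (γ : V ⟶ Z₀) (hγ : γ ≫ sndZ = g) :
    ∃! m : N ⟶ Z₀, f' ≫ m = γ ∧ m ≫ sndZ = ν := by
  have H : g.left = γ.left ≫ sndZ.left := by rw [← Over.comp_left, hγ]
  obtain ⟨d, hd1, hd2⟩ : ∃ d : g.left.normalization ⟶ Z₀.left,
      g.left.toNormalization ≫ d = γ.left ∧ d ≫ sndZ.left = g.left.fromNormalization :=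
    ⟨_, g.left.toNormalization_normalizationDesc γ.left sndZ.left H,
      g.left.normalizationDesc_comp γ.left sndZ.left H⟩
  have hS : (e.hom ≫ d) ≫ Z₀.hom = N.hom := by
    rw [← Over.w sndZ, Category.assoc, reassoc_of% hd2, reassoc_of% he2, Over.w ν]
  refine ⟨Over.homMk (e.hom ≫ d) hS, ⟨?_, ?_⟩, ?_⟩
  · apply Over.OverMorphism.ext
    show f'.left ≫ e.hom ≫ d = γ.left
    rw [← Category.assoc, he1, hd1]
  · apply Over.OverMorphism.ext
    show (e.hom ≫ d) ≫ sndZ.left = ν.left
    rw [Category.assoc, hd2, he2]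
  · rintro m ⟨hm1, hm2⟩
    apply Over.OverMorphism.ext
    show m.left = e.hom ≫ d
    have hm1' : f'.left ≫ m.left = γ.left := by rw [← Over.comp_left, hm1]
    have hm2' : m.left ≫ sndZ.left = ν.left := by rw [← Over.comp_left, hm2]
    have : e.inv ≫ m.left = d := by
      apply Scheme.Hom.normalization.hom_ext (f := g.left) _ _ sndZ.left
      · rw [hd1, ← he1, Category.assoc, e.hom_inv_id_assoc, hm1']
      · rw [Category.assoc, hm2', ← he2, e.inv_hom_id_assoc]
      · exact hd2
    rw [← this, e.hom_inv_id_assoc]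

theorem isRelNormalization_of_scheme_normalization {V U N : Over S} (g : V ⟶ U)
    [QuasiCompact g.left] [QuasiSeparated g.left] (f' : V ⟶ N) (ν : N ⟶ U)
    (e : N.left ≅ g.left.normalization) (he1 : f'.left ≫ e.hom = g.left.toNormalization)
    (he2 : e.hom ≫ g.left.fromNormalization = ν.left) :
    IsRelNormalization ((yon S).map g) ((yon S).map ν) ((yon S).map f') := by
  have hfac : f' ≫ ν = g := by
    apply Over.OverMorphism.ext
    show f'.left ≫ ν.left = g.left
    rw [← he2, ← Category.assoc, he1, Scheme.Hom.toNormalization_fromNormalization]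
  have hν : IsIntegralHom ν.left := by
    rw [← he2]
    exact (MorphismProperty.cancel_left_of_respectsIso @IsIntegralHom e.hom _).2 inferInstance
  have hAff : ∀ ⦃A B : Scheme.{u}⦄ (k : A ⟶ B), IsIntegralHom k → IsAffineHom k :=
    fun _ _ k hk => by haveI := hk; infer_instance
  refine ⟨by rw [← CategoryTheory.Functor.map_comp, hfac], ?_, ?_⟩
  · exact (affRep_iff_repWith @IsIntegralHom hAff _).2 ((repWith_yon_map_iff _ _).2 hν)
  · intro Z hZ π g₁ hπ hg₁
    have hπ' : RepWith @IsIntegralHom π := (affRep_iff_repWith @IsIntegralHom hAff π).1 hπ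
    obtain ⟨Z₀, fstZ, sndZ, sqZ⟩ : ∃ (Z₀ : Over S) (fstZ : (yon S).obj Z₀ ⟶ Z) (sndZ : Z₀ ⟶ U),
        IsPullback fstZ ((yon S).map sndZ) π (𝟙 _) := ⟨_, _, _, hπ'.rep.isPullback _⟩
    haveI : IsIntegralHom sndZ.left := hπ'.2 _ fstZ sndZ sqZ
    haveI : IsIso fstZ := sqZ.isIso_fst_of_isIso
    have hinv : inv fstZ ≫ (yon S).map sndZ = π := by
      rw [IsIso.inv_comp_eq, sqZ.w, Category.comp_id]
    obtain ⟨γ, hγ⟩ : ∃ γ : V ⟶ Z₀, (yon S).map γ = g₁ ≫ inv fstZ :=
      ⟨(yon S).preimage _, CategoryTheory.Functor.map_preimage _ _⟩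
    have hγ2 : γ ≫ sndZ = g := (yon S).map_injective (by
      rw [CategoryTheory.Functor.map_comp, hγ, Category.assoc, hinv, hg₁])
    obtain ⟨m, ⟨hm1, hm2⟩, huniq⟩ := existsUnique_over g f' ν e he1 he2 sndZ γ hγ2
    refine ⟨(yon S).map m ≫ fstZ, ⟨?_, ?_⟩, ?_⟩
    · rw [← Category.assoc, ← CategoryTheory.Functor.map_comp, hm1, hγ, Category.assoc,
        IsIso.inv_hom_id, Category.comp_id]
    · rw [Category.assoc, sqZ.w, Category.comp_id, ← CategoryTheory.Functor.map_comp, hm2]
    · rintro h' ⟨hh1, hh2⟩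
      obtain ⟨k', hk'⟩ : ∃ k' : N ⟶ Z₀, (yon S).map k' = h' ≫ inv fstZ :=
        ⟨(yon S).preimage _, CategoryTheory.Functor.map_preimage _ _⟩
      have e1 : f' ≫ k' = γ := (yon S).map_injective (by
        rw [CategoryTheory.Functor.map_comp, hk', ← Category.assoc, hh1, hγ])
      have e2 : k' ≫ sndZ = ν := (yon S).map_injective (by
        rw [CategoryTheory.Functor.map_comp, hk', Category.assoc, hinv, hh2])
      have := huniq k' ⟨e1, e2⟩
      rw [← this, hk', Category.assoc, IsIso.inv_hom_id, Category.comp_id]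

end Groth.Agent.Lib.RelNormSchH7
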