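import Mathlib
import Groth.Prelude
import Groth.Agent.Lib.DMod28_helper6
import Groth.Agent.Lib.DMod25_helper6

/-!
# Restriction of scalars detects `m`-pseudo-coherence of objects bounded above by `b` when the
target ring is `(m + 1 - b)`-pseudo-coherent over the source (helper3; ring level of S6205)
-/

set_option autoImplicit false
set_option linter.all false
set_option maxHeartbeats 1600000

universe u
open CategoryTheory CategoryTheory.Limits Pretriangulated DerivedCategory ZeroObject
attribute [local instance] HasDerivedCategory.standard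

namespace Groth.Agent.Lib.RelPCCompH3

open DRing CochainComplex Groth.Agent.Lib.DMod_helper6

variable {A B : Type u} [CommRing A] [CommRing B] (φ : A →+* B)

/-- finite free modules inherit `n`-pseudo-coherence over `A` from `B` -/
lemma resPCn_inD_fin (n : ℤ)
    (hB : IsPseudoCoherent A n ((restrictD φ).obj (Dual.inD B B))) (r : ℕ) :
    IsPseudoCoherent A n ((restrictD φ).obj (Dual.inD B (Fin r → B))) := by
  induction r with
  | zero =>
    rw [isPseudoCoherent_iff_pcmP]
    exact pcmP_of_isZero n _ ((restrictD φ).map_isZero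
      ((DerivedCategory.singleFunctor _ 0).map_isZero
        (@ModuleCat.isZero_of_subsingleton _ _ (ModuleCat.of B (Fin 0 → B)) inferInstance)))
  | succ r ih =>
    let i : B →ₗ[B] (Fin (r + 1) → B) := LinearMap.single B (fun _ : Fin (r + 1) => B) 0
    let p : (Fin (r + 1) → B) →ₗ[B] (Fin r → B) :=
      LinearMap.pi (fun j : Fin r => LinearMap.proj (R := B) (φ := fun _ : Fin (r + 1) => B)
        (Fin.succ j))
    have hp : ∀ (f : Fin (r + 1) → B) (j : Fin r), p f j = f (Fin.succ j) := fun _ _ => rfl
    have hi0 : ∀ b : B, i b 0 = b := fun b => by simp [i, Pi.single_apply]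
    have his : ∀ (b : B) (j : Fin r), i b (Fin.succ j) = 0 := fun b j => by
      simp [i, Pi.single_apply, Fin.succ_ne_zero]
    have w : (ModuleCat.ofHom i : ModuleCat.of B B ⟶ ModuleCat.of B (Fin (r + 1) → B)) ≫
        (ModuleCat.ofHom p : ModuleCat.of B (Fin (r + 1) → B) ⟶ ModuleCat.of B (Fin r → B)) =
        0 := by
      apply ModuleCat.hom_ext
      apply LinearMap.ext
      intro b
      funext j
      show p (i b) j = 0
      rw [hp, his]
    have hS : (ShortComplex.mk _ _ w).ShortExact := by
      refine ShortComplex.ShortExact.mk' ?_ ?_ ?_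
      · rw [ShortComplex.moduleCat_exact_iff]
        intro f hf
        refine ⟨(f : Fin (r + 1) → B) 0, ?_⟩
        funext j
        refine Fin.cases ?_ (fun k => ?_) j
        · exact hi0 _
        · have h1 : p f k = 0 := congrFun hf k
          rw [hp] at h1
          show i _ (Fin.succ k) = f (Fin.succ k)
          rw [his, h1]
      · refine (ModuleCat.mono_iff_injective _).2 (fun b b' hbb' => ?_)
        have h1 : i b 0 = i b' 0 := congrFun hbb' 0
        rwa [hi0, hi0] at h1
      · refine (ModuleCat.epi_iff_surjective _).2 (fun g => ⟨Fin.cons 0 g, ?_⟩)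
        funext j
        show p (Fin.cons 0 g) j = g j
        rw [hp, Fin.cons_succ]
    have hT := (restrictD φ).map_distinguished _ hS.singleTriangle_distinguished
    exact (isPseudoCoherent_two_of_three _ hT n).2.1 hB ih

/-- a finite free module placed in degree `t` -/
lemma resPCn_single (n t m' : ℤ) (h : m' = n + t)
    (hB : IsPseudoCoherent A n ((restrictD φ).obj (Dual.inD B B))) (r : ℕ) :
    IsPseudoCoherent A m' ((restrictD φ).obj
      (toD ((HomologicalComplex.single (ModuleCat.{u} B) (ComplexShape.up ℤ) t).obj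
        (ModuleCat.of B (Fin r → B))))) := by
  have h1 := (isPseudoCoherent_iff_pcmP n _).1 (resPCn_inD_fin φ n hB r)
  have h2 := pcmP_shift n (-t) m' (by omega) _ h1
  let e : (restrictD φ).obj
      (toD ((HomologicalComplex.single (ModuleCat.{u} B) (ComplexShape.up ℤ) t).obj
        (ModuleCat.of B (Fin r → B)))) ≅
      ((restrictD φ).obj (Dual.inD B (Fin r → B)))⟦-t⟧ :=
    (restrictD φ).mapIso (toDSingleIso (ModuleCat.of B (Fin r → B)) t (-t) (by omega)) ≪≫
      ((restrictD φ).commShiftIso (-t)).app _
  exact (isPseudoCoherent_iff_pcmP m' _).2 ((pcmP A m').prop_of_iso e.symm h2)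

theorem pcmP_of_pcmP_restrictD' (m : ℤ) (n : ℕ) :
    ∀ (K : Dual.D B) (t : ℤ), DerivedCategory.IsLE K t → t + 1 = m + n →
      IsPseudoCoherent A (m + 1 - t) ((restrictD φ).obj (Dual.inD B B)) →
      pcmP A m ((restrictD φ).obj K) → pcmP B m K := by
  induction n with
  | zero =>
    intro K t hK ht _ _
    obtain rfl : t = m - 1 := by push_cast at ht; omega
    exact leP_le_pcmP m _ hK
  | succ n ih =>
    intro K t hK ht hB hR
    haveI := hK
    have htm : m ≤ t := by push_cast at ht; omega
    let C : Cx B := Q.objPreimage K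
    let eC : toD C ≅ K := Q.objObjPreimageIso K
    haveI hRle : DerivedCategory.IsLE ((restrictD φ).obj K) t := isLE_restrictD φ K t
    have hRt : IsPseudoCoherent A t ((restrictD φ).obj K) :=
      isPseudoCoherent_mono htm _ ((isPseudoCoherent_iff_pcmP m _).2 hR)
    have hfinD : Module.Finite A
        ((DerivedCategory.homologyFunctor (ModuleCat.{u} A) t).obj ((restrictD φ).obj K)) :=
      finite_HD_of_isPseudoCoherent _ t hRt
        (fun i hi => DerivedCategory.isZero_of_isLE _ t i hi)
    have eR : (restrictD φ).obj K ≅ toD ((restrictCx φ).obj C) :=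
      (restrictD φ).mapIso eC.symm ≪≫
        (ModuleCat.restrictScalars φ).mapDerivedCategoryFactors.app C
    have hfinA : Module.Finite A (((restrictCx φ).obj C).homology t) :=
      finite_of_iso ((DerivedCategory.homologyFunctor (ModuleCat.{u} A) t).mapIso eR ≪≫
        (homologyFunctorFactors (ModuleCat.{u} A) t).app _) hfinD
    have hfin : Module.Finite B (C.homology t) := finite_homology_of_restrictCx φ C t hfinA
    obtain ⟨r, ψ, hψ⟩ := exists_single_hom_epi C t hfin
    have hTψ := mappingCone_triangle_distinguished ψ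
    haveI : DerivedCategory.IsLE (Q.mapTriangle.obj (mappingCone.triangle ψ)).obj₁ t :=
      leP_single _ t t le_rfl
    haveI : DerivedCategory.IsLE (Q.mapTriangle.obj (mappingCone.triangle ψ)).obj₂ t :=
      TStructure.t.isLE_of_iso eC.symm t
    have hepi : Epi ((DerivedCategory.homologyFunctor (ModuleCat.{u} B) t).map
        (Q.mapTriangle.obj (mappingCone.triangle ψ)).mor₁) :=
      (epi_homology_Q_map_iff ψ t).2 hψ
    have h3le := isLE_cone_of_epi _ hTψ t hepi
    have hX1 : bfCls ((HomologicalComplex.single (ModuleCat.{u} B) (ComplexShape.up ℤ) t).obj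
        (ModuleCat.of B (Fin r → B))) :=
      bfCls_single _ (inferInstanceAs (Module.Finite B (Fin r → B)))
        (inferInstanceAs (Module.Free B (Fin r → B))) t
    have hX1B : pcmP B m (toD ((HomologicalComplex.single (ModuleCat.{u} B)
        (ComplexShape.up ℤ) t).obj (ModuleCat.of B (Fin r → B)))) :=
      bfProp_le_pcmP m _ ⟨_, hX1, ⟨Iso.refl _⟩⟩
    have hX1A : IsPseudoCoherent A (m + 1) ((restrictD φ).obj
        (toD ((HomologicalComplex.single (ModuleCat.{u} B)
        (ComplexShape.up ℤ) t).obj (ModuleCat.of B (Fin r → B))))) :=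
      resPCn_single φ (m + 1 - t) t (m + 1) (by omega) hB r
    have hTR := (restrictD φ).map_distinguished _ hTψ
    have hR2 : IsPseudoCoherent A m ((restrictD φ).obj (toD C)) :=
      (isPseudoCoherent_iff_pcmP m _).2
        ((pcmP A m).prop_of_iso ((restrictD φ).mapIso eC.symm) hR)
    have hR3 : IsPseudoCoherent A m ((restrictD φ).obj (toD (mappingCone ψ))) :=
      (isPseudoCoherent_two_of_three _ hTR m).1 hX1A hR2
    have h3 : pcmP B m (toD (mappingCone ψ)) :=
      ih _ (t - 1) h3le (by push_cast at ht ⊢; omega)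
        (isPseudoCoherent_mono (by omega) _ hB) ((isPseudoCoherent_iff_pcmP m _).1 hR3)
    have h2 : pcmP B m (toD C) := pcmP_ext m _ ⟨_, _, _, _, _, hTψ, hX1B, h3⟩
    exact (pcmP B m).prop_of_iso eC h2

/-- **ring level of S6205** -/
theorem isPseudoCoherent_of_restrictD (a b : ℤ) (K : Dual.D B) [DerivedCategory.IsLE K b]
    (hB : IsPseudoCoherent A (a + 1 - b) ((restrictD φ).obj (Dual.inD B B)))
    (hK : IsPseudoCoherent A a ((restrictD φ).obj K)) : IsPseudoCoherent B a K := by
  rw [isPseudoCoherent_iff_pcmP] at hK ⊢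
  by_cases hba : b ≤ a - 1
  · exact leP_le_pcmP a _ (TStructure.t.isLE_of_le K b (a - 1) hba)
  · exact pcmP_of_pcmP_restrictD' φ a (b + 1 - a).toNat K b inferInstance (by omega) hB hK

/-- graded preservation of pseudo-coherence by restriction of scalars -/
theorem pcmP_restrictD_graded (n m' : ℤ)
    (hB : IsPseudoCoherent A n ((restrictD φ).obj (Dual.inD B B))) (m : ℤ) (k : ℕ) :
    ∀ (K : Dual.D B) (t : ℤ), DerivedCategory.IsLE K t → t + 1 ≤ m + k → m ≤ m' → n + t ≤ m' →
      pcmP B m K → pcmP A m' ((restrictD φ).obj K) := by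
  induction k with
  | zero =>
    intro K t hK ht hmm' _ _
    haveI := hK
    haveI : DerivedCategory.IsLE ((restrictD φ).obj K) t := isLE_restrictD φ K t
    exact leP_le_pcmP m' _
      (TStructure.t.isLE_of_le ((restrictD φ).obj K) t (m' - 1) (by push_cast at ht; omega))
  | succ k ih =>
    intro K t hK ht hmm' hnt hKm
    by_cases ht' : t + 1 ≤ m + k
    · exact ih K t hK ht' hmm' hnt hKm
    haveI := hK
    have htm : m ≤ t := by push_cast at ht; omega
    let C : Cx B := Q.objPreimage K
    let eC : toD C ≅ K := Q.objObjPreimageIso K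
    have hKt : IsPseudoCoherent B t K :=
      isPseudoCoherent_mono htm _ ((isPseudoCoherent_iff_pcmP m _).2 hKm)
    have hfinD : Module.Finite B
        ((DerivedCategory.homologyFunctor (ModuleCat.{u} B) t).obj K) :=
      finite_HD_of_isPseudoCoherent _ t hKt
        (fun i hi => DerivedCategory.isZero_of_isLE _ t i hi)
    have hfin : Module.Finite B (C.homology t) :=
      finite_of_iso ((DerivedCategory.homologyFunctor (ModuleCat.{u} B) t).mapIso eC.symm ≪≫
        (homologyFunctorFactors (ModuleCat.{u} B) t).app _) hfinD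
    obtain ⟨r, ψ, hψ⟩ := exists_single_hom_epi C t hfin
    have hTψ := mappingCone_triangle_distinguished ψ
    haveI : DerivedCategory.IsLE (Q.mapTriangle.obj (mappingCone.triangle ψ)).obj₁ t :=
      leP_single _ t t le_rfl
    haveI : DerivedCategory.IsLE (Q.mapTriangle.obj (mappingCone.triangle ψ)).obj₂ t :=
      TStructure.t.isLE_of_iso eC.symm t
    have hepi : Epi ((DerivedCategory.homologyFunctor (ModuleCat.{u} B) t).map
        (Q.mapTriangle.obj (mappingCone.triangle ψ)).mor₁) :=
      (epi_homology_Q_map_iff ψ t).2 hψ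
    have h3le := isLE_cone_of_epi _ hTψ t hepi
    have hX1 : bfCls ((HomologicalComplex.single (ModuleCat.{u} B) (ComplexShape.up ℤ) t).obj
        (ModuleCat.of B (Fin r → B))) :=
      bfCls_single _ (inferInstanceAs (Module.Finite B (Fin r → B)))
        (inferInstanceAs (Module.Free B (Fin r → B))) t
    have hX1B : IsPseudoCoherent B (m + 1) (toD ((HomologicalComplex.single (ModuleCat.{u} B)
        (ComplexShape.up ℤ) t).obj (ModuleCat.of B (Fin r → B)))) :=
      (isPseudoCoherent_iff_pcmP _ _).2 (bfProp_le_pcmP (m + 1) _ ⟨_, hX1, ⟨Iso.refl _⟩⟩)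
    have hC2 : IsPseudoCoherent B m (toD C) :=
      (isPseudoCoherent_iff_pcmP m _).2 ((pcmP B m).prop_of_iso eC.symm hKm)
    have hcone : IsPseudoCoherent B m (toD (mappingCone ψ)) :=
      (isPseudoCoherent_two_of_three _ hTψ m).1 hX1B hC2
    have hconeA : pcmP A m' ((restrictD φ).obj (toD (mappingCone ψ))) :=
      ih _ (t - 1) h3le (by push_cast at ht ⊢; omega) hmm' (by omega)
        ((isPseudoCoherent_iff_pcmP m _).1 hcone)
    have hX1A : IsPseudoCoherent A m' ((restrictD φ).obj
        (toD ((HomologicalComplex.single (ModuleCat.{u} B)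
        (ComplexShape.up ℤ) t).obj (ModuleCat.of B (Fin r → B))))) :=
      isPseudoCoherent_mono hnt _ (resPCn_single φ n t (n + t) rfl hB r)
    have hTR := (restrictD φ).map_distinguished _ hTψ
    have hR2 : IsPseudoCoherent A m' ((restrictD φ).obj (toD C)) :=
      (isPseudoCoherent_two_of_three _ hTR m').2.1 hX1A
        ((isPseudoCoherent_iff_pcmP m' _).2 hconeA)
    exact (pcmP A m').prop_of_iso ((restrictD φ).mapIso eC)
      ((isPseudoCoherent_iff_pcmP m' _).1 hR2)

theorem isPseudoCoherent_restrictD_graded (n m m' t : ℤ) (K : Dual.D B)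
    [DerivedCategory.IsLE K t]
    (hB : IsPseudoCoherent A n ((restrictD φ).obj (Dual.inD B B)))
    (hK : IsPseudoCoherent B m K) (h1 : m ≤ m') (h2 : n + t ≤ m') :
    IsPseudoCoherent A m' ((restrictD φ).obj K) := by
  rw [isPseudoCoherent_iff_pcmP] at hK ⊢
  exact pcmP_restrictD_graded φ n m' hB m (t + 1 - m).toNat K t inferInstance (by omega) h1 h2 hK

end Groth.Agent.Lib.RelPCCompH3
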