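import Mathlib
import Groth.Prelude
import Groth.Agent.Lib.RelPCComp1_helper3
import Groth.Agent.Lib.FinPushPC2_helper3

/-!
# Graded preservation of pseudo-coherence by affine pushforward, quasi-coherent case (helper3)

For `f : X ⟶ Y` affine with `f_* O_X` `n`-pseudo-coherent and `E ∈ D_QCoh(O_X)` which is
`m`-pseudo-coherent with `H^i(E) = 0` for `i > t`: `Rf_* E` is `m'`-pseudo-coherent for
`m' ≥ m, n + t`.
-/

set_option autoImplicit false
set_option linter.all false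
set_option maxHeartbeats 1600000
set_option backward.isDefEq.respectTransparency false
set_option backward.isDefEq.respectTransparency.types false
set_option backward.defeqAttrib.useBackward true

universe u

open CategoryTheory CategoryTheory.Limits AlgebraicGeometry Opposite TopologicalSpace
open CategoryTheory.Pretriangulated

attribute [local instance] HasDerivedCategory.standard

namespace Groth.Agent.Lib.RelPCCompH3

open Groth.Agent.Lib.DCohLocLead DerivedCategory DRing Groth.Agent.Lib.DMod_helper6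
  Groth.Agent.Lib.TildeAmpL Groth.Agent.Lib.TildePCH3 Groth.Agent.Lib.FpqcPCH3
  Groth.Agent.Lib.FinPushPCH3

noncomputable section

section Core

variable {A B : Type u} [CommRing A] [CommRing B] (φ : A →+* B)

theorem core_graded [DCoh.HasRpush (Spec.map (CommRingCat.ofHom φ))] (n m m' t : ℤ)
    (hB : DRing.IsPseudoCoherent A n ((DRing.restrictD φ).obj (Dual.inD B B)))
    (N : Dual.D B) [DerivedCategory.IsLE N t] (h1 : m ≤ m') (h2 : n + t ≤ m') :
    haveI := Groth.Agent.Lib.LpullQCL.preservesFiniteLimits_tilde B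
    DCoh.IsPseudoCoherentD m ((DCoh.tildeD (CommRingCat.of B)).obj N) →
      DCoh.IsPseudoCoherentD m' ((DCoh.Rpush (Spec.map (CommRingCat.ofHom φ))).obj
        ((DCoh.tildeD (CommRingCat.of B)).obj N)) := by
  haveI instA : PreservesFiniteLimits (tilde.functor (CommRingCat.of A)) :=
    Groth.Agent.Lib.LpullQCL.preservesFiniteLimits_tilde A
  haveI instB : PreservesFiniteLimits (tilde.functor (CommRingCat.of B)) :=
    Groth.Agent.Lib.LpullQCL.preservesFiniteLimits_tilde B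
  obtain ⟨c⟩ := Groth.Agent.Lib.DSectX.nonempty_iso_7268 (R := CommRingCat.of A)
    (S := CommRingCat.of B) (CommRingCat.ofHom φ)
  intro h
  rw [main1004 B N m] at h
  have h3 := isPseudoCoherent_restrictD_graded φ n m m' t N hB h h1 h2
  rw [← main1004 A _ m'] at h3
  exact isPC_of_iso (c.app N).symm h3

end Core

section Main

variable {X Y : Scheme.{u}} (f : X ⟶ Y)

/-- `f_* O_X` is `n`-pseudo-coherent -/
def PushOn (n : ℤ) : Prop :=
  DCoh.IsPseudoCoherentD n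
    (DCoh.inD Y ((Scheme.Modules.pushforward f).obj (Coh.structureModule X)))

theorem hB_of_pushOn [IsAffineHom f] [DCoh.HasRpush f] (n : ℤ) (hO : PushOn f n)
    (V : Y.Opens) (hV : IsAffineOpen V) :
    DRing.IsPseudoCoherent Γ(Y, V) n
      ((DRing.restrictD (f.app V).hom).obj (Dual.inD Γ(X, f ⁻¹ᵁ V) Γ(X, f ⁻¹ᵁ V))) := by
  have hU : IsAffineOpen (f ⁻¹ᵁ V) := hV.preimage f
  haveI instR : PreservesFiniteLimits (tilde.functor Γ(Y, V)) :=
    Groth.Agent.Lib.LpullQCL.preservesFiniteLimits_tilde Γ(Y, V)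
  haveI instS : PreservesFiniteLimits (tilde.functor Γ(X, f ⁻¹ᵁ V)) :=
    Groth.Agent.Lib.LpullQCL.preservesFiniteLimits_tilde Γ(X, f ⁻¹ᵁ V)
  haveI : DCoh.HasRpush (Spec.map (f.app V)) := Groth.Agent.Lib.BCOpenL.hasRpush _
  have h1 := isPC_restrict hO hV.fromSpec
  obtain ⟨e2⟩ := nonempty_Rpush_inD_iso f (Coh.structureModule X) inferInstance
  obtain ⟨e3⟩ := nonempty_bc_affine f V hV hU (DCoh.inD X (Coh.structureModule X))
  let e4 : (DD hU.fromSpec).obj (DCoh.inD X (Coh.structureModule X)) ≅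
      DCoh.inD (Spec Γ(X, f ⁻¹ᵁ V)) (Coh.structureModule (Spec Γ(X, f ⁻¹ᵁ V))) :=
    ((Scheme.Modules.restrictFunctor hU.fromSpec).mapDerivedCategorySingleFunctor 0).app _ ≪≫
      (DerivedCategory.singleFunctor _ 0).mapIso (Scheme.Modules.restrictUnitIso hU.fromSpec)
  let e5 : (DCoh.tildeD Γ(X, f ⁻¹ᵁ V)).obj (Dual.inD Γ(X, f ⁻¹ᵁ V) Γ(X, f ⁻¹ᵁ V)) ≅
      DCoh.inD (Spec Γ(X, f ⁻¹ᵁ V)) (Coh.structureModule (Spec Γ(X, f ⁻¹ᵁ V))) :=
    ((tilde.functor Γ(X, f ⁻¹ᵁ V)).mapDerivedCategorySingleFunctor 0).app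
      (ModuleCat.of Γ(X, f ⁻¹ᵁ V) Γ(X, f ⁻¹ᵁ V)) ≪≫
      (DerivedCategory.singleFunctor _ 0).mapIso tildeSelf
  obtain ⟨e6⟩ := Groth.Agent.Lib.DSectX.nonempty_iso_7268 (f.app V)
  have h7 : DCoh.IsPseudoCoherentD n ((DCoh.tildeD Γ(Y, V)).obj
      ((DRing.restrictD (f.app V).hom).obj (Dual.inD Γ(X, f ⁻¹ᵁ V) Γ(X, f ⁻¹ᵁ V)))) :=
    isPC_of_iso ((DD hV.fromSpec).mapIso e2.symm ≪≫ e3 ≪≫
      (DCoh.Rpush (Spec.map (f.app V))).mapIso (e4 ≪≫ e5.symm) ≪≫ e6.app _) h1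
  exact (main1004 Γ(Y, V) _ n).mp h7

theorem key_graded [IsAffineHom f] [DCoh.HasRpush f] (n : ℤ) (hO : PushOn f n)
    (V : Y.Opens) (hV : IsAffineOpen V) (E : DCoh.D X) (hE : DCoh.IsQCohD E) (m m' t : ℤ)
    (h1 : m ≤ m') (h2 : n + t ≤ m')
    (hm : DCoh.IsPseudoCoherentD m ((DD (hV.preimage f).fromSpec).obj E))
    (ht : Lt (t + 1) ((DD (hV.preimage f).fromSpec).obj E)) :
    DCoh.IsPseudoCoherentD m' ((DD hV.fromSpec).obj ((DCoh.Rpush f).obj E)) := by
  have hU : IsAffineOpen (f ⁻¹ᵁ V) := hV.preimage f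
  haveI instS : PreservesFiniteLimits (tilde.functor Γ(X, f ⁻¹ᵁ V)) :=
    Groth.Agent.Lib.LpullQCL.preservesFiniteLimits_tilde Γ(X, f ⁻¹ᵁ V)
  haveI : DCoh.HasRpush (Spec.map (f.app V)) := Groth.Agent.Lib.BCOpenL.hasRpush _
  haveI : DCoh.HasRpush (Spec.map (CommRingCat.ofHom (f.app V).hom)) :=
    Groth.Agent.Lib.BCOpenL.hasRpush _
  have hB := hB_of_pushOn f n hO V hV
  have hq : DCoh.IsQCohD ((DD hU.fromSpec).obj E) :=
    Groth.Agent.Lib.LpullQCL.isQCohD_restrictD hU.fromSpec E hE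
  obtain ⟨N, ⟨eN⟩⟩ := ((Groth.Agent.Lib.DSectX.main0997 Γ(X, f ⁻¹ᵁ V)).2.2 _).mp hq
  obtain ⟨bc⟩ := nonempty_bc_affine f V hV hU E
  have hLt : Lt (t + 1) N :=
    Lt_of_map (tilde.functor Γ(X, f ⁻¹ᵁ V)) (isZero_of_isZero_tilde Γ(X, f ⁻¹ᵁ V))
      (ht.of_iso eN.symm)
  haveI : DerivedCategory.IsLE N t := by
    rw [DerivedCategory.isLE_iff]
    intro i hi
    exact hLt i (by omega)
  have h3 := core_graded (f.app V).hom n m m' t hB N h1 h2 (isPC_of_iso eN.symm hm)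
  have h4 : DCoh.IsPseudoCoherentD m'
      ((DCoh.Rpush (Spec.map (f.app V))).obj ((DD hU.fromSpec).obj E)) :=
    isPC_of_iso ((DCoh.Rpush (Spec.map (f.app V))).mapIso eN) h3
  exact isPC_of_iso bc.symm h4

/-- **graded preservation of pseudo-coherence by affine pushforward** (quasi-coherent case) -/
theorem isPC_Rpush_graded [IsAffineHom f] [DCoh.HasRpush f] (n : ℤ) (hO : PushOn f n)
    (E : DCoh.D X) (hE : DCoh.IsQCohD E) (m m' t : ℤ) (h1 : m ≤ m') (h2 : n + t ≤ m')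
    (hm : DCoh.IsPseudoCoherentD m E) (ht : Lt (t + 1) E) :
    DCoh.IsPseudoCoherentD m' ((DCoh.Rpush f).obj E) := by
  refine isPC_of_cover m' _ (fun V : Y.affineOpens => Spec Γ(Y, V.1))
    (fun V => V.2.fromSpec) ?_ ?_
  · intro y
    obtain ⟨V, hV, hyV, -⟩ := Opens.isBasis_iff_nbhd.mp Y.isBasis_affineOpens
      (show y ∈ (⊤ : Y.Opens) from trivial)
    have hy : y ∈ Set.range hV.fromSpec := by
      rw [IsAffineOpen.range_fromSpec]
      exact hyV
    obtain ⟨z, hz⟩ := hy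
    exact ⟨⟨V, hV⟩, z, hz⟩
  · intro V
    exact key_graded f n hO V.1 V.2 E hE m m' t h1 h2 (isPC_restrict hm _)
      (ht.mapExact (Scheme.Modules.restrictFunctor (V.2.preimage f).fromSpec))

end Main

end

end Groth.Agent.Lib.RelPCCompH3
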