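import Mathlib
import Groth.Prelude
import Groth.Agent.Lib.RelPCComp2_helper3
import Groth.Agent.Lib.RelPCg2_helper3

/-!
# Graded reflection of pseudo-coherence along a closed immersion (helper3)

For a closed immersion `j : Z' ⟶ Z` with `j_* O_{Z'}` `n`-pseudo-coherent:
* `isPC_Rpush_graded'`: `K` `m`-pseudo-coherent with `H^i(K) = 0` for `i > t ≥ m` implies `Rj_* K`
  `m'`-pseudo-coherent for `m' ≥ m, n + t` (no quasi-coherence assumption);
* `isPC_of_pushD_of_Lt_graded`: if `H^i(K) = 0` for `i ≥ N`, `n + N ≤ m + 2` and `j_* K` is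
  `m`-pseudo-coherent then `K` is `m`-pseudo-coherent.
-/

set_option autoImplicit false
set_option linter.all false
set_option maxHeartbeats 1600000
set_option backward.isDefEq.respectTransparency false
set_option backward.isDefEq.respectTransparency.types false
set_option backward.defeqAttrib.useBackward true

universe u
open CategoryTheory CategoryTheory.Limits AlgebraicGeometry Opposite TopologicalSpace
open CategoryTheory.Pretriangulated

attribute [local instance] HasDerivedCategory.standard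

namespace Groth.Agent.Lib.RelPCCompH3

open Groth.Agent.Lib.DCohLocLead DerivedCategory Groth.Agent.Lib.FpqcPCH3
  Groth.Agent.Lib.FinPushPCH3 Groth.Agent.Lib.BCOpenL Groth.Agent.Lib.RelPCaH3

noncomputable section

variable {Z' Z : Scheme.{u}} (j : Z' ⟶ Z)

theorem pushOn_restrict (n : ℤ) (hO : PushOn j n) (W : Z.Opens) : PushOn (j ∣_ W) n := by
  have h1 := isPC_restrict hO W.ι
  let e1 : (DD W.ι).obj (DCoh.inD Z ((Scheme.Modules.pushforward j).obj
      (Coh.structureModule Z'))) ≅
      DCoh.inD (W : Scheme.{u}) ((Scheme.Modules.restrictFunctor W.ι).obj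
        ((Scheme.Modules.pushforward j).obj (Coh.structureModule Z'))) :=
    ((Scheme.Modules.restrictFunctor W.ι).mapDerivedCategorySingleFunctor 0).app _
  let e2 : (Scheme.Modules.restrictFunctor W.ι).obj
      ((Scheme.Modules.pushforward j).obj (Coh.structureModule Z')) ≅
      (Scheme.Modules.pushforward (j ∣_ W)).obj
        ((Scheme.Modules.restrictFunctor (j ⁻¹ᵁ W).ι).obj (Coh.structureModule Z')) :=
    (baseChangeIso j W).app _
  let e3 : (Scheme.Modules.restrictFunctor (j ⁻¹ᵁ W).ι).obj (Coh.structureModule Z') ≅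
      Coh.structureModule ((j ⁻¹ᵁ W : Z'.Opens) : Scheme.{u}) :=
    Scheme.Modules.restrictUnitIso (j ⁻¹ᵁ W).ι
  exact isPC_of_iso (e1 ≪≫ (DerivedCategory.singleFunctor _ 0).mapIso
    (e2 ≪≫ (Scheme.Modules.pushforward (j ∣_ W)).mapIso e3)) h1

variable [IsClosedImmersion j]

/-- **graded preservation of pseudo-coherence by pushforward along a closed immersion** -/
theorem isPC_Rpush_graded' [DCoh.HasRpush j] (n : ℤ) (hO : PushOn j n) (K : DCoh.D Z')
    (m m' t : ℤ) (h1 : m ≤ m') (h2 : n + t ≤ m') (h3 : m ≤ t)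
    (hK : DCoh.IsPseudoCoherentD m K) (hKt : Lt (t + 1) K) :
    DCoh.IsPseudoCoherentD m' ((DCoh.Rpush j).obj K) := by
  refine isPC_of_pointwise m' _ (fun z => ?_)
  by_cases hz : z ∈ Set.range j
  · obtain ⟨z', rfl⟩ := hz
    obtain ⟨V', hz'V', E, α, hE, hα⟩ := (isPC_iff m K).1 hK z'
    obtain ⟨t₀, ht₀, htV⟩ := j.isClosedEmbedding.isInducing.isOpen_iff.mp V'.isOpen
    let W : Z.Opens := ⟨t₀, ht₀⟩
    have hW : j ⁻¹ᵁ W = V' := Opens.ext htV
    subst hW
    haveI := hasRpush (j ∣_ W)
    obtain ⟨b1⟩ := main6508 j W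
    have hP : ∀ m' : ℤ, DCoh.IsPseudoCoherentD m' (Q.obj E) := fun m' =>
      isPC_of_isPerfect (isPerfect_Q_obj E hE) m'
    have hq : DCoh.IsQCohD (Q.obj E) :=
      Groth.Agent.Lib.RpushPCUnbH3.isQCohD_of_forall_isPC (Q.obj E) hP
    have hLtT : Lt (t + 1) ((DD (j ⁻¹ᵁ W).ι).obj K) :=
      hKt.mapExact (Scheme.Modules.restrictFunctor (j ⁻¹ᵁ W).ι)
    have hLtE : Lt (t + 1) (Q.obj E) := by
      intro i hi
      haveI := hα.1 i (by omega)
      exact IsZero.of_iso (hLtT i hi) (asIso ((homologyFunctor _ i).map α))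
    have h2' : DCoh.IsPseudoCoherentD m' ((DCoh.Rpush (j ∣_ W)).obj (Q.obj E)) :=
      isPC_Rpush_graded (j ∣_ W) n (pushOn_restrict j n hO W) (Q.obj E) hq m m' t h1 h2
        (hP m) hLtE
    have h3' := isPC_of_isApprox _ m' (isApprox_Rpush_map (j ∣_ W) α m' (hα.mono h1)) h2'
    refine ⟨(W : Scheme.{u}), W.ι, inferInstance, ⟨⟨j z', hz'V'⟩, rfl⟩, ?_⟩
    exact isPC_of_iso (b1.app K).symm h3'
  · let W₀ : Z.Opens := ⟨(Set.range j)ᶜ, j.isClosedEmbedding.isClosed_range.isOpen_compl⟩
    refine ⟨(W₀ : Scheme.{u}), W₀.ι, inferInstance, ⟨⟨z, hz⟩, rfl⟩, ?_⟩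
    exact isPC_of_isZero (isZero_restrict_Rpush_of_disjoint j W₀
      (fun x hx => hx ⟨x, rfl⟩) K) m'

/-- **graded reflection of pseudo-coherence along a closed immersion** -/
theorem isPC_of_pushD_of_Lt_graded :
    ∀ (d : ℕ) (N m n : ℤ) (K : DCoh.D Z'), N - m ≤ d → n + N ≤ m + 2 → PushOn j n → Lt N K →
      DCoh.IsPseudoCoherentD m ((pushD j).obj K) → DCoh.IsPseudoCoherentD m K
  | 0 => fun N m n K hd _ _ hK _ => isPC_of_Lt m K (hK.mono (by omega))
  | (d + 1) => fun N m n K hd hn hO hK hpc => by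
    by_cases hNm : N ≤ m
    · exact isPC_of_Lt m K (hK.mono hNm)
    haveI := hasRpush j
    haveI := Groth.Agent.Lib.LpullExH3.hasLpull j
    obtain ⟨adj⟩ := Groth.Agent.Lib.LpullAdjH3.nonempty_adj j
    let φ := Groth.Agent.Lib.ProjFormulaH3.RpushIsoMapD j
    let L : DCoh.D Z' := (DCoh.Lpull j).obj ((DCoh.Rpush j).obj K)
    let ε : L ⟶ K := adj.counit.app K
    have hpc' : DCoh.IsPseudoCoherentD m ((DCoh.Rpush j).obj K) := (isPC_pushD_iff j K m).mp hpc
    have hL : DCoh.IsPseudoCoherentD m L := Groth.Agent.Lib.LpullPCH3.isPC_Lpull j m _ hpc'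
    have hLN : Lt N L := by
      apply Lt_Lpull
      exact (hK.mapExact (Scheme.Modules.pushforward j)).of_iso (φ.app K).symm
    obtain ⟨F, a, δ, hT⟩ := distinguished_cocone_triangle₁ ε
    have hT' := (pushD j).map_distinguished _ hT
    -- `D(j_*) ε` is a split epimorphism
    let s : (pushD j).obj K ⟶ (pushD j).obj L :=
      φ.inv.app K ≫ adj.unit.app ((DCoh.Rpush j).obj K) ≫ φ.hom.app L
    have hs : s ≫ (pushD j).map ε = 𝟙 _ := by
      have h1 : (pushD j).map ε = φ.inv.app L ≫ (DCoh.Rpush j).map ε ≫ φ.hom.app K := by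
        rw [← Category.assoc, ← φ.inv.naturality ε, Category.assoc, Iso.inv_hom_id_app,
          Category.comp_id]
      have h2 := adj.right_triangle_components K
      calc s ≫ (pushD j).map ε = φ.inv.app K ≫
            (adj.unit.app _ ≫ (DCoh.Rpush j).map ε) ≫ φ.hom.app K := by
              rw [h1]
              simp only [s, Category.assoc, Iso.hom_inv_id_app_assoc]
        _ = 𝟙 _ := by
              rw [h2]
              simp only [Category.id_comp, Iso.inv_hom_id_app]
    have h0 : ((pushD j).mapTriangle.obj (Triangle.mk a ε δ)).mor₃ = 0 := by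
      have h1 := comp_distTriang_mor_zero₂₃ _ hT'
      have h2 : ((pushD j).mapTriangle.obj (Triangle.mk a ε δ)).mor₂ = (pushD j).map ε := rfl
      rw [h2] at h1
      calc _ = (s ≫ (pushD j).map ε) ≫
            ((pushD j).mapTriangle.obj (Triangle.mk a ε δ)).mor₃ := by
              rw [hs, Category.id_comp]
        _ = 0 := by rw [Category.assoc, h1, comp_zero]
    obtain ⟨e, -, -⟩ := exists_iso_binaryBiproduct_of_distTriang _ hT' h0
    have e' : (pushD j).obj L ≅ (pushD j).obj F ⊞ (pushD j).obj K := e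
    -- `D(j_*) L` is `(m + 1)`-pseudo-coherent
    have hGL : DCoh.IsPseudoCoherentD (m + 1) ((pushD j).obj L) :=
      (isPC_pushD_iff j L (m + 1)).mpr
        (isPC_Rpush_graded' j n hO L m (m + 1) (N - 1) (by omega) (by omega) (by omega) hL
          (hLN.mono (by omega)))
    have hGF : DCoh.IsPseudoCoherentD (m + 1) ((pushD j).obj F) :=
      (main888 (m + 1) _ _ (isPC_of_iso e' hGL)).1
    have hFN : Lt N F := by
      apply Lt_of_Lt_pushD j
      refine Lt.of_retract (hLN.mapExact (Scheme.Modules.pushforward j))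
        (biprod.inl ≫ e'.inv) (e'.hom ≫ biprod.fst) ?_
      rw [Category.assoc, Iso.inv_hom_id_assoc, biprod.inl_fst]
    have hF : DCoh.IsPseudoCoherentD (m + 1) F :=
      isPC_of_pushD_of_Lt_graded d N (m + 1) n F (by omega) (by omega) hO hFN hGF
    exact (main889 m _ hT).1 hF hL

end

end Groth.Agent.Lib.RelPCCompH3
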