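import Mathlib
import Groth.Prelude
import Groth.Agent.Lib.RelPCComp3_helper3
import Groth.Agent.Lib.RelPCBC4_helper3

/-!
# S6205: relative pseudo-coherence over a composite whose second factor is `(a + 1 - b)`-pseudo-coherent (helper3)
-/

set_option autoImplicit false
set_option linter.all false
set_option maxHeartbeats 1600000
set_option backward.isDefEq.respectTransparency false
set_option backward.isDefEq.respectTransparency.types false
set_option backward.defeqAttrib.useBackward true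

universe u
open CategoryTheory CategoryTheory.Limits AlgebraicGeometry Opposite TopologicalSpace
open CategoryTheory.Pretriangulated

attribute [local instance] HasDerivedCategory.standard

namespace Groth.Agent.Lib.RelPCCompH3

open Groth.Agent.Lib.DCohLocLead DerivedCategory Groth.Agent.Lib.FpqcPCH3
  Groth.Agent.Lib.FinPushPCH3 Groth.Agent.Lib.BCOpenL Groth.Agent.Lib.RelPCaH3
  Groth.Agent.Lib.DMod_helper6 Groth.Agent.Lib.TildePCH3 Groth.Agent.Lib.TildeAmpL DRing
  Groth.Agent.Lib.RelPCbH3 Groth.Agent.Lib.RelPCBCH3 DerSch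

noncomputable section

local instance hasRpushInstC4 {X Y : Scheme.{u}} (f : X ⟶ Y) : DCoh.HasRpush f := hasRpush f

local instance hasLBCInstC4 {A B : Type u} [CommRing A] [CommRing B] (φ : A →+* B) :
    HasLBaseChange φ := Groth.Agent.Lib.LpullQCL.hasLBaseChange φ

local instance pflInstC4 (R : CommRingCat.{u}) : PreservesFiniteLimits (tilde.functor R) :=
  Groth.Agent.Lib.LpullQCL.preservesFiniteLimits_tilde R

section Ring

attribute [local instance] MvPolynomial.algebraMvPolynomial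

variable {P A : Type u} [CommRing P] [CommRing A]

/-- `n`-pseudo-coherence of `A` over `P` passes to `A[x]` over `P[x]` -/
theorem resPCn_map (α : P →+* A) (n : ℤ) (k : ℕ)
    (h : IsPseudoCoherent P n ((restrictD α).obj (Dual.inD A A))) :
    IsPseudoCoherent (MvPolynomial (Fin k) P) n
      ((restrictD (MvPolynomial.map α : MvPolynomial (Fin k) P →+* MvPolynomial (Fin k) A)).obj
        (Dual.inD (MvPolynomial (Fin k) A) (MvPolynomial (Fin k) A))) := by
  letI : Algebra P A := α.toAlgebra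
  haveI hpo : Algebra.IsPushout P (MvPolynomial (Fin k) P) A (MvPolynomial (Fin k) A) :=
    inferInstance
  obtain ⟨i⟩ := nonempty_restrict_lBaseChange_iso P A (MvPolynomial (Fin k) P)
    (MvPolynomial (Fin k) A) (Dual.inD A A)
  obtain ⟨l⟩ := nonempty_lBaseChange_self (algebraMap A (MvPolynomial (Fin k) A))
  have h1 := isPseudoCoherent_lBaseChange (algebraMap P (MvPolynomial (Fin k) P)) _ n h
  exact (isPseudoCoherent_iff_of_iso
    ((restrictD (algebraMap (MvPolynomial (Fin k) P) (MvPolynomial (Fin k) A))).mapIso l.symm ≪≫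
      i) n).2 h1

end Ring

section Spec

variable {B' B : Type u} [CommRing B'] [CommRing B] (π : B' →+* B)

theorem pushOn_Spec_of_ring (n : ℤ)
    (h : DRing.IsPseudoCoherent B' n ((DRing.restrictD π).obj (Dual.inD B B))) :
    PushOn (Spec.map (CommRingCat.ofHom π)) n := by
  haveI instA : PreservesFiniteLimits (tilde.functor (CommRingCat.of B')) :=
    Groth.Agent.Lib.LpullQCL.preservesFiniteLimits_tilde B'
  haveI instB : PreservesFiniteLimits (tilde.functor (CommRingCat.of B)) :=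
    Groth.Agent.Lib.LpullQCL.preservesFiniteLimits_tilde B
  haveI := hasRpush (Spec.map (CommRingCat.ofHom π))
  obtain ⟨c⟩ := Groth.Agent.Lib.DSectX.nonempty_iso_7268 (R := CommRingCat.of B')
    (S := CommRingCat.of B) (CommRingCat.ofHom π)
  have h2 := (main1004 B' _ n).mpr h
  obtain ⟨e2⟩ := nonempty_Rpush_inD_iso (Spec.map (CommRingCat.ofHom π))
    (Coh.structureModule (Spec (CommRingCat.of B))) inferInstance
  let e5 : (DCoh.tildeD (CommRingCat.of B)).obj (Dual.inD B B) ≅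
      DCoh.inD (Spec (CommRingCat.of B)) (Coh.structureModule (Spec (CommRingCat.of B))) :=
    ((tilde.functor (CommRingCat.of B)).mapDerivedCategorySingleFunctor 0).app
      (ModuleCat.of B B) ≪≫
      (DerivedCategory.singleFunctor _ 0).mapIso tildeSelf
  exact isPC_of_iso ((c.app _).symm ≪≫
    (DCoh.Rpush (Spec.map (CommRingCat.ofHom π))).mapIso e5 ≪≫ e2) h2

end Spec

section Chart

variable {X : Scheme.{u}} (U : X.Opens) {B' B : Type u} [CommRing B'] [CommRing B]
  (β : B →+* Γ(X, U)) (π : B' →+* B)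

/-- transfer back along a surjection `π` with `B` `(a + 1 - b)`-pseudo-coherent over `B'`, for
objects with no cohomology above `b` -/
theorem gpc_of_comp_graded [IsClosedImmersion (cImm U β)] (hπ : Function.Surjective π) (a b : ℤ)
    (E : DCoh.D X) (hEb : Lt (b + 1) E)
    (hB : DRing.IsPseudoCoherent B' (a + 1 - b) ((DRing.restrictD π).obj (Dual.inD B B)))
    (hE : GPC a E U (β.comp π)) : GPC a E U β := by
  rw [gpc_comp_iff] at hE
  haveI : IsClosedImmersion (Spec.map (CommRingCat.ofHom π)) :=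
    IsClosedImmersion.spec_of_surjective _ hπ
  let j := Spec.map (CommRingCat.ofHom π)
  let K : DCoh.D (Spec (CommRingCat.of B)) := (RP (cImm U β)).obj ((DD U.ι).obj E)
  have hKLt : Lt (b + 1) K :=
    ((hEb.mapExact (Scheme.Modules.restrictFunctor U.ι)).mapExact
      (Scheme.Modules.pushforward (cImm U β))).of_iso
      ((Groth.Agent.Lib.ProjFormulaH3.RpushIsoMapD (cImm U β)).app _).symm
  have h1 : DCoh.IsPseudoCoherentD a ((pushD j).obj K) := (isPC_pushD_iff j K a).mpr hE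
  exact isPC_of_pushD_of_Lt_graded j (b + 1 - a).toNat (b + 1) a (a + 1 - b) K (by omega)
    (by omega) (pushOn_Spec_of_ring π _ hB) hKLt h1

end Chart

section Main

variable {X Y S : Scheme.{u}} (f : X ⟶ Y) (g : Y ⟶ S)

theorem key6205 [LocallyOfFiniteType f] [LocallyOfFiniteType g] (a b : ℤ) (E : DCoh.D X)
    (hEb : Lt (b + 1) E) (hg : DerSch.IsNPseudoCoherent g (a + 1 - b))
    (U : X.affineOpens) (V : Y.affineOpens) (W : S.affineOpens)
    (h' : (U : X.Opens) ≤ f ⁻¹ᵁ (V : Y.Opens)) (h : (V : Y.Opens) ≤ g ⁻¹ᵁ (W : S.Opens))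
    (h'' : (U : X.Opens) ≤ (f ≫ g) ⁻¹ᵁ (W : S.Opens)) :
    ∃ (n : ℕ) (β : MvPolynomial (Fin n) Γ(Y, (V : Y.Opens)) →+* Γ(X, (U : X.Opens)))
      (l : ℕ) (γ : MvPolynomial (Fin l) Γ(S, (W : S.Opens)) →+* Γ(X, (U : X.Opens))),
      DerSch.IsChart f (U : X.Opens) (V : Y.Opens) h' β ∧
      DerSch.IsChart (f ≫ g) (U : X.Opens) (W : S.Opens) h'' γ ∧
      (GPC a E (U : X.Opens) γ → GPC a E (U : X.Opens) β) := by
  obtain ⟨k, α, hα⟩ := exists_isChart g V.1 W.1 h
    (LocallyOfFiniteType.finiteType_appLE g W.2 V.2 h)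
  obtain ⟨n, β, hβ⟩ := exists_isChart f U.1 V.1 h'
    (LocallyOfFiniteType.finiteType_appLE f V.2 U.2 h')
  refine ⟨n, β, n + k, compChart U.1 α β, hβ,
    isChart_compChart f g U.1 V.1 W.1 h' h h'' α hα β hβ, ?_⟩
  intro hγ
  unfold compChart at hγ
  rw [gpc_comp_ringEquiv_iff U.1 (β.comp (MvPolynomial.map α)) (compEquiv _ n k) a E] at hγ
  have h1 : GPC (a + 1 - b) (DCoh.toD Y (unitCx Y)) V.1 α :=
    (relPC_iff_forall_gpc g (a + 1 - b) _).1 hg V W h α hα
  obtain ⟨eu⟩ := nonempty_unit_ring_rep' V.1 V.2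
  have h2 := (gpc_iff_ring' V.1 V.2 α (a + 1 - b) _ _ eu).1 h1
  haveI := isClosedImmersion_cImm U.1 U.2 β hβ.1
  exact gpc_of_comp_graded U.1 β (MvPolynomial.map α) (MvPolynomial.map_surjective _ hα.1) a b E
    hEb (resPCn_map α (a + 1 - b) n h2) hγ

theorem main6205 [LocallyOfFiniteType f] [LocallyOfFiniteType g] (a b : ℤ) (E : DCoh.D X)
    [E.IsLE b] (hE : DerSch.IsPseudoCoherentRel (f ≫ g) a E)
    (hg : DerSch.IsNPseudoCoherent g (a + 1 - b)) : DerSch.IsPseudoCoherentRel f a E := by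
  haveI : LocallyOfFiniteType (f ≫ g) := inferInstance
  have hEb : Lt (b + 1) E := fun i hi => DerivedCategory.isZero_of_isLE E b i (by omega)
  have H := (relPC_iff_forall_gpc (f ≫ g) a E).1 hE
  refine ⟨inferInstance, {V | ∃ W : S.affineOpens, (V : Y.Opens) ≤ g ⁻¹ᵁ (W : S.Opens)}, ?_,
    fun V hV => ⟨{U | (U : X.Opens) ≤ f ⁻¹ᵁ (V : Y.Opens)}, ?_, ?_⟩⟩
  · rw [eq_top_iff]
    intro y _
    obtain ⟨W, hW, hyW, -⟩ := Opens.isBasis_iff_nbhd.mp S.isBasis_affineOpens
      (show g y ∈ (⊤ : S.Opens) from trivial)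
    obtain ⟨V, hV, hyV, hVW⟩ := Opens.isBasis_iff_nbhd.mp Y.isBasis_affineOpens
      (show y ∈ g ⁻¹ᵁ W from hyW)
    exact Opens.mem_iSup.mpr ⟨⟨V, hV⟩, Opens.mem_iSup.mpr ⟨⟨⟨W, hW⟩, hVW⟩, hyV⟩⟩
  · apply le_antisymm
    · exact iSup₂_le (fun U hU => hU)
    · intro x hx
      obtain ⟨U, hU, hxU, hUV⟩ := Opens.isBasis_iff_nbhd.mp X.isBasis_affineOpens hx
      exact Opens.mem_iSup.mpr ⟨⟨U, hU⟩, Opens.mem_iSup.mpr ⟨hUV, hxU⟩⟩
  · intro U _ h'
    obtain ⟨W, h⟩ := hV
    have h'' : (U : X.Opens) ≤ (f ≫ g) ⁻¹ᵁ (W : S.Opens) := h'.trans (fun x hx => h hx)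
    obtain ⟨n, β, l, γ, hβ, hγ, himp⟩ := key6205 f g a b E hEb hg U V W h' h h''
    exact ⟨n, β, hβ, (chartPC_iff_gpc a E U.1 U.2 V.1 β hβ.1).mpr
      (himp (H U W h'' γ hγ))⟩

end Main

end

end Groth.Agent.Lib.RelPCCompH3
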