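import Mathlib
import Groth.Agent.Lib.FlatFP_helper2

/-!
# Relative pseudo-coherence and principal localisation (helper2)

* `bcResIso`: for `φ : P → A`, `G : P`, `g = φ G` and a complex `K` of `A`-modules, the complexes
  `P_G ⊗_P K` and `A_g ⊗_A K` (the latter restricted along `P_G → A_g`) are isomorphic;
* `isPseudoCoherent_ESc_of_flat`: flat base change of `m`-pseudo-coherent complexes;
* `relPC_away_iff`, `relPC_away`: localisation of relative pseudo-coherence;
* `main6987`, `main7008`.
-/

set_option autoImplicit false
universe u
open CategoryTheory CategoryTheory.Limits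
open scoped TensorProduct
attribute [local instance] HasDerivedCategory.standard

namespace Groth.Agent.Lib.PCHom

open DRing Groth.Agent.Lib.DMod_helper6 Groth.Agent.ExtendScalarsLib ChangeOfRings

section BCRes

variable {P A : Type u} [CommRing P] [CommRing A] (φ : P →+* A) (G : P) (g : A) (hg : φ G = g)

/-- the induced map on principal localisations -/
noncomputable def awayψ : Localization.Away G →+* Localization.Away g :=
  IsLocalization.Away.lift G (g := (algebraMap A (Localization.Away g)).comp φ)
    (by rw [RingHom.comp_apply, hg]; exact IsLocalization.Away.algebraMap_isUnit g)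

lemma awayψ_algebraMap (p : P) :
    awayψ φ G g hg (algebraMap P (Localization.Away G) p) =
      algebraMap A (Localization.Away g) (φ p) :=
  IsLocalization.Away.lift_eq _ _ p

lemma awayψ_comp : (awayψ φ G g hg).comp (algebraMap P (Localization.Away G)) =
    (algebraMap A (Localization.Away g)).comp φ :=
  RingHom.ext (awayψ_algebraMap φ G g hg)

lemma awayψ_surjective (hφ : Function.Surjective φ) : Function.Surjective (awayψ φ G g hg) := by
  intro y
  obtain ⟨⟨a, s⟩, hy⟩ := IsLocalization.surj (Submonoid.powers g) y
  obtain ⟨n, hn⟩ := s.2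
  obtain ⟨a', rfl⟩ := hφ a
  refine ⟨IsLocalization.mk' (Localization.Away G) a' (⟨G ^ n, n, rfl⟩ : Submonoid.powers G), ?_⟩
  have hu : IsUnit (algebraMap A (Localization.Away g) (s : A)) := IsLocalization.map_units _ s
  have h1 : algebraMap A (Localization.Away g) (s : A) =
      awayψ φ G g hg (algebraMap P (Localization.Away G) (G ^ n)) := by
    rw [awayψ_algebraMap, map_pow, hg]
    exact congrArg _ hn.symm
  apply hu.mul_left_injective
  show awayψ φ G g hg _ * algebraMap A (Localization.Away g) (s : A) =
    y * algebraMap A (Localization.Away g) (s : A)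
  rw [hy, h1, ← map_mul]
  have h2 : IsLocalization.mk' (Localization.Away G) a' (⟨G ^ n, n, rfl⟩ : Submonoid.powers G) *
      algebraMap P (Localization.Away G) (G ^ n) = algebraMap P (Localization.Away G) a' :=
    IsLocalization.mk'_spec (Localization.Away G) a' (⟨G ^ n, n, rfl⟩ : Submonoid.powers G)
  rw [h2, awayψ_algebraMap]

/-- module-level comparison of the two localisations -/
lemma exists_addEquiv_away (M : Type u) [AddCommGroup M] [Module A M] [Module P M]
    (hPM : ∀ (p : P) (m : M), p • m = φ p • m) :
    ∃ e : Localization.Away G ⊗[P] M ≃+ Localization.Away g ⊗[A] M,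
      ∀ (x : Localization.Away G) (m : M), e (x ⊗ₜ[P] m) = (awayψ φ G g hg x) ⊗ₜ[A] m := by
  letI algPA : Algebra P A := φ.toAlgebra
  haveI t1 : IsScalarTower P A M := ⟨fun p a m => by
    rw [Algebra.smul_def, mul_smul, hPM]
    rfl⟩
  let f : M →ₗ[A] Localization.Away g ⊗[A] M := TensorProduct.mk A (Localization.Away g) M 1
  haveI hloc : IsLocalizedModule (Submonoid.powers (algebraMap P A G)) f := by
    have : algebraMap P A G = g := hg
    rw [this]
    exact IsLocalization.tensorProduct_isLocalizedModule (Submonoid.powers g)
      (Localization.Away g)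
  haveI hlocP : IsLocalizedModule (Submonoid.powers G) (f.restrictScalars P) :=
    IsLocalizedModule.restrictScalars_powers G f
  letI modPGN : Module (Localization.Away G) (Localization.Away g ⊗[A] M) :=
    Module.compHom (Localization.Away g ⊗[A] M) (awayψ φ G g hg)
  haveI t3 : IsScalarTower P (Localization.Away G) (Localization.Away g ⊗[A] M) :=
    ⟨fun p x n => by
      show awayψ φ G g hg (p • x) • n = p • (awayψ φ G g hg x • n)
      rw [Algebra.smul_def, map_mul, awayψ_algebraMap, mul_smul,
        ← algebraMap_smul (Localization.Away g) p (awayψ φ G g hg x • n),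
        IsScalarTower.algebraMap_apply P A (Localization.Away g)]
      rfl⟩
  have hbc : IsBaseChange (Localization.Away G) (f.restrictScalars P) :=
    IsLocalizedModule.isBaseChange (Submonoid.powers G) (Localization.Away G)
      (f.restrictScalars P)
  refine ⟨hbc.equiv.toAddEquiv, fun x m => ?_⟩
  show hbc.equiv (x ⊗ₜ m) = _
  rw [IsBaseChange.equiv_tmul]
  show awayψ φ G g hg x • ((1 : Localization.Away g) ⊗ₜ[A] m) = _
  rw [TensorProduct.smul_tmul', smul_eq_mul, mul_one]

section ModCat

variable (M : ModuleCat.{u} A)

/-- the unit `m ↦ 1 ⊗ m`, as a `P`-linear map into the double restriction -/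
noncomputable def bcUnit : (ModuleCat.restrictScalars φ).obj M ⟶
    (ModuleCat.restrictScalars (algebraMap P (Localization.Away G))).obj
      ((ModuleCat.restrictScalars (awayψ φ G g hg)).obj
        ((ModuleCat.extendScalars.{u, u, u} (algebraMap A (Localization.Away g))).obj M)) :=
  (ModuleCat.restrictScalars φ).map
      ((ModuleCat.extendRestrictScalarsAdj.{u, u, u} (algebraMap A (Localization.Away g))).unit.app M) ≫
    (ModuleCat.restrictScalarsComp'App φ (algebraMap A (Localization.Away g))
      ((algebraMap A (Localization.Away g)).comp φ) rfl _).inv ≫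
    (ModuleCat.restrictScalarsComp'App (algebraMap P (Localization.Away G)) (awayψ φ G g hg)
      ((algebraMap A (Localization.Away g)).comp φ) (awayψ_comp φ G g hg).symm _).hom

lemma bcUnit_apply (m : M) :
    (bcUnit φ G g hg M).hom m = (1 : Localization.Away g) ⊗ₜ[A, algebraMap A (Localization.Away g)] m :=
  rfl

/-- the base change comparison morphism -/
noncomputable def bcθ :
    (ModuleCat.extendScalars.{u, u, u} (algebraMap P (Localization.Away G))).obj
        ((ModuleCat.restrictScalars φ).obj M) ⟶
      (ModuleCat.restrictScalars (awayψ φ G g hg)).obj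
        ((ModuleCat.extendScalars.{u, u, u} (algebraMap A (Localization.Away g))).obj M) :=
  ((ModuleCat.extendRestrictScalarsAdj.{u, u, u} (algebraMap P (Localization.Away G))).homEquiv _ _).symm
    (bcUnit φ G g hg M)

lemma bcθ_tmul (x : Localization.Away G) (m : M) :
    (bcθ φ G g hg M).hom (x ⊗ₜ[P, algebraMap P (Localization.Away G)] m) =
      (awayψ φ G g hg x * 1) ⊗ₜ[A, algebraMap A (Localization.Away g)] m :=
  rfl

lemma bcθ_bijective : Function.Bijective (fun z => (bcθ φ G g hg M).hom z) := by
  letI modP : Module P M := ((ModuleCat.restrictScalars φ).obj M).isModule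
  obtain ⟨e, he⟩ := exists_addEquiv_away φ G g hg M (fun p m => rfl)
  let e₁ := extendScalarsEquivTensor (S := Localization.Away G)
    ((ModuleCat.restrictScalars φ).obj M)
  let e₂ := extendScalarsEquivTensor (S := Localization.Away g) M
  let F1 : ↑((ModuleCat.extendScalars.{u, u, u} (algebraMap P (Localization.Away G))).obj
      ((ModuleCat.restrictScalars φ).obj M)) →+ Localization.Away g ⊗[A] M :=
    e₂.toLinearMap.toAddMonoidHom.comp (bcθ φ G g hg M).hom.toAddMonoidHom
  let F2 : ↑((ModuleCat.extendScalars.{u, u, u} (algebraMap P (Localization.Away G))).obj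
      ((ModuleCat.restrictScalars φ).obj M)) →+ Localization.Away g ⊗[A] M :=
    e.toAddMonoidHom.comp e₁.toLinearMap.toAddMonoidHom
  have key : ∀ z, F1 z = F2 z := by
    intro z
    refine TensorProduct.induction_on (motive := fun z => F1 z = F2 z) z ?_ ?_ ?_
    · exact (map_zero F1).trans (map_zero F2).symm
    · intro x m
      have h1 := bcθ_tmul φ G g hg M x m
      have h3 : e₂ ((awayψ φ G g hg x * 1) ⊗ₜ[A, algebraMap A (Localization.Away g)] m) =
          (awayψ φ G g hg x * 1) ⊗ₜ[A] m := rfl
      refine (congrArg e₂ h1).trans (h3.trans ?_)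
      rw [mul_one]
      exact (he x m).symm
    · intro x y hx hy
      exact (map_add F1 x y).trans ((congrArg₂ (· + ·) hx hy).trans (map_add F2 x y).symm)
  have h2 : (fun z => (bcθ φ G g hg M).hom z) = fun z => e₂.symm (e (e₁ z)) :=
    funext fun z => by
      have := key z
      exact (e₂.symm_apply_apply _).symm.trans (congrArg e₂.symm this)
  rw [h2]
  exact e₂.symm.bijective.comp (e.bijective.comp e₁.bijective)

instance isIso_bcθ : IsIso (bcθ φ G g hg M) :=
  (ConcreteCategory.isIso_iff_bijective _).2 (bcθ_bijective φ G g hg M)

variable {M} in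
lemma bcθ_naturality {M' : ModuleCat.{u} A} (h : M ⟶ M') :
    (ModuleCat.extendScalars.{u, u, u} (algebraMap P (Localization.Away G))).map
        ((ModuleCat.restrictScalars φ).map h) ≫ bcθ φ G g hg M' =
      bcθ φ G g hg M ≫ (ModuleCat.restrictScalars (awayψ φ G g hg)).map
        ((ModuleCat.extendScalars.{u, u, u} (algebraMap A (Localization.Away g))).map h) := by
  unfold bcθ
  rw [← Adjunction.homEquiv_naturality_left_symm, ← Adjunction.homEquiv_naturality_right_symm]
  congr 1

/-- the comparison isomorphism of complexes -/
noncomputable def bcResIso (K : Cx A) :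
    (ESc (algebraMap P (Localization.Away G))).obj ((restrictCx φ).obj K) ≅
      (restrictCx (awayψ φ G g hg)).obj ((ESc (algebraMap A (Localization.Away g))).obj K) :=
  HomologicalComplex.Hom.isoOfComponents
    (fun i => @asIso _ _ _ _ (bcθ φ G g hg (K.X i)) (isIso_bcθ φ G g hg (K.X i)))
    (fun i j _ => (bcθ_naturality φ G g hg (K.d i j)).symm)

end ModCat

end BCRes

section FlatBC

variable {A B : Type u} [CommRing A] [CommRing B] [Algebra A B] [Module.Flat A B]

open DerivedCategory in
/-- flat base change preserves `m`-pseudo-coherence of complexes -/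
theorem isPseudoCoherent_ESc_of_flat (m : ℤ) (K : Cx A) (h : IsPseudoCoherent A m (toD K)) :
    IsPseudoCoherent B m (toD (((ES A B).mapHomologicalComplex (ComplexShape.up ℤ)).obj K)) := by
  obtain ⟨E, a, b, α, h1, h2, h3, h4⟩ := h
  haveI : E.IsKProjective := isKProjective_of_pcCls ⟨b, fun i hi => h1 i (Or.inr hi), h2⟩
  obtain ⟨f, hf⟩ : ∃ f : E ⟶ K, Q.map f = α := exists_Q_map_eq_of_isKProjective (F := K) α
  refine ⟨_, a, b, Q.map (((ES A B).mapHomologicalComplex (ComplexShape.up ℤ)).map f),
    fun i hi => (ES A B).map_isZero (h1 i hi),
    fun i => ⟨finite_ES _ (h2 i).1, free_ES _ (h2 i).2⟩, fun i hi => ?_, ?_⟩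
  · refine (isIso_homology_Q_map_iff _ i).2 ?_
    have h3' : IsIso (HomologicalComplex.homologyMap f i) :=
      (isIso_homology_Q_map_iff f i).1 (by rw [hf]; exact h3 i hi)
    exact isIso_homologyMap_map (ES A B) f i h3'
  · refine (epi_homology_Q_map_iff _ m).2 ?_
    have h4' : Epi (HomologicalComplex.homologyMap f m) :=
      (epi_homology_Q_map_iff f m).1 (by rw [hf]; exact h4)
    exact epi_homologyMap_map (ES A B) f m h4'

end FlatBC

section AwayPC

variable {P A : Type u} [CommRing P] [CommRing A] (φ : P →+* A) (G : P) (g : A) (hg : φ G = g)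

lemma isPseudoCoherent_away_iff (K : Cx A) (m : ℤ) :
    IsPseudoCoherent (Localization.Away G) m
      ((restrictD (awayψ φ G g hg)).obj
        (toD ((ESc (algebraMap A (Localization.Away g))).obj K))) ↔
    IsPseudoCoherent (Localization.Away G) m
      (toD ((ESc (algebraMap P (Localization.Away G))).obj ((restrictCx φ).obj K))) := by
  let e1 : (restrictD (awayψ φ G g hg)).obj
      (toD ((ESc (algebraMap A (Localization.Away g))).obj K)) ≅
      toD ((restrictCx (awayψ φ G g hg)).obj
        ((ESc (algebraMap A (Localization.Away g))).obj K)) :=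
    ((ModuleCat.restrictScalars.{u} (awayψ φ G g hg)).mapDerivedCategoryFactors).app _
  exact isPseudoCoherent_iff_of_iso
    (e1 ≪≫ (DerivedCategory.Q.mapIso (bcResIso φ G g hg K)).symm) m

lemma isPseudoCoherent_restrict_away (K : Cx A) (m : ℤ)
    (h : IsPseudoCoherent P m ((restrictD φ).obj (toD K))) :
    IsPseudoCoherent (Localization.Away G) m
      (toD ((ESc (algebraMap P (Localization.Away G))).obj ((restrictCx φ).obj K))) := by
  haveI : Module.Flat P (Localization.Away G) := IsLocalization.flat _ (Submonoid.powers G)
  let e1 : (restrictD φ).obj (toD K) ≅ toD ((restrictCx φ).obj K) :=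
    ((ModuleCat.restrictScalars.{u} φ).mapDerivedCategoryFactors).app K
  exact isPseudoCoherent_ESc_of_flat m _ ((isPseudoCoherent_iff_of_iso e1 m).1 h)

end AwayPC

section RelAway

/-- relative pseudo-coherence over a principal localisation of a quotient `A` of a "good" finite type
`R`-algebra `P`, in terms of the corresponding principal localisation of `P` -/
theorem relPC_away_iff_gen {R P A : Type u} [CommRing R] [CommRing P] [CommRing A] [Algebra R P]
    [Algebra R A] [Algebra.FiniteType R P] (hP : DerCA.IsRelPseudoCoherentModuleAll R P P)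
    (α : P →ₐ[R] A) (hα : Function.Surjective α) (G : P) (g : A) (hg : (α : P →+* A) G = g)
    (X : Dual.D (Localization.Away g)) (m : ℤ) :
    DerCA.IsRelPseudoCoherent R (Localization.Away g) m X ↔
      IsPseudoCoherent (Localization.Away G) m
        ((restrictD (awayψ (α : P →+* A) G g hg)).obj X) := by
  letI algPA : Algebra P A := (α : P →+* A).toAlgebra
  haveI t0 : IsScalarTower R P A := IsScalarTower.of_algebraMap_eq (fun r => (α.commutes r).symm)
  letI algPGAg : Algebra (Localization.Away G) (Localization.Away g) :=
    (awayψ (α : P →+* A) G g hg).toAlgebra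
  haveI t1 : IsScalarTower R P (Localization.Away g) := IsScalarTower.of_algebraMap_eq (fun r => by
    rw [IsScalarTower.algebraMap_apply R A (Localization.Away g),
      IsScalarTower.algebraMap_apply P A (Localization.Away g)]
    congr 1
    exact (α.commutes r).symm)
  haveI t2 : IsScalarTower P (Localization.Away G) (Localization.Away g) :=
    IsScalarTower.of_algebraMap_eq (fun p => by
      rw [IsScalarTower.algebraMap_apply P A (Localization.Away g)]
      exact (awayψ_algebraMap (α : P →+* A) G g hg p).symm)
  haveI ft1 : Algebra.FiniteType P A :=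
    Algebra.FiniteType.of_surjective (Algebra.ofId P A) (fun a => hα a)
  haveI ft2 : Algebra.FiniteType A (Localization.Away g) := by
    haveI := IsLocalization.Away.finitePresentation (S := Localization.Away g) g
    infer_instance
  haveI ft3 : Algebra.FiniteType P (Localization.Away g) := Algebra.FiniteType.trans ft1 ft2
  haveI ft4 : Algebra.FiniteType P (Localization.Away G) := by
    haveI := IsLocalization.Away.finitePresentation (S := Localization.Away G) G
    infer_instance
  have hψ : Function.Surjective (awayψ (α : P →+* A) G g hg) :=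
    awayψ_surjective _ G g hg hα
  haveI ft5 : Algebra.FiniteType (Localization.Away G) (Localization.Away g) :=
    Algebra.FiniteType.of_surjective
      (Algebra.ofId (Localization.Away G) (Localization.Away g)) hψ
  haveI fin : Module.Finite (Localization.Away G) (Localization.Away g) :=
    Module.Finite.of_surjective
      (Algebra.linearMap (Localization.Away G) (Localization.Away g)) hψ
  have hPG : DerCA.IsRelPseudoCoherentModuleAll P (Localization.Away G) (Localization.Away G) :=
    pch_iff_rel.1 (pcr_algebraMap.1 (PCR.away G))
  have s1 := isRelPseudoCoherent_iff_of_intermediate (R := R) (A := P)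
    (B := Localization.Away g) hP X m
  have s2 := isRelPseudoCoherent_iff_of_intermediate (R := P) (A := Localization.Away G)
    (B := Localization.Away g) hPG X m
  have s3 := isRelPseudoCoherent_iff_restrict_of_finite (R := Localization.Away G)
    (A := Localization.Away G) (B := Localization.Away g) X m
  have s4 := isRelPseudoCoherent_self_iff (A := Localization.Away G) m
    ((restrictD (algebraMap (Localization.Away G) (Localization.Away g))).obj X)
  exact s1.symm.trans (s2.symm.trans (s3.trans s4))

lemma relPC_mvPolynomial {R : Type u} [CommRing R] (n : ℕ) :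
    DerCA.IsRelPseudoCoherentModuleAll R (MvPolynomial (Fin n) R) (MvPolynomial (Fin n) R) :=
  pch_iff_rel.1 ((pch_iff_via (AlgHom.id R (MvPolynomial (Fin n) R)) Function.surjective_id).2
    (resPC_of_bijective _ Function.bijective_id))

variable {R A : Type u} [CommRing R] [CommRing A] [Algebra R A]

/-- relative pseudo-coherence passes to principal localisations -/
theorem relPC_away (g : A) (K : Cx A) (m : ℤ) (h : DerCA.IsRelPseudoCoherent R A m (toD K)) :
    DerCA.IsRelPseudoCoherent R (Localization.Away g) m
      (toD ((ESc (algebraMap A (Localization.Away g))).obj K)) := by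
  obtain ⟨n, α, hα, hvia⟩ := h
  obtain ⟨G, hG⟩ := hα g
  have hG' : (α : MvPolynomial (Fin n) R →+* A) G = g := hG
  refine (relPC_away_iff_gen (relPC_mvPolynomial n) α hα G g hG' _ m).2 ?_
  refine (isPseudoCoherent_away_iff (α : MvPolynomial (Fin n) R →+* A) G g hG' K m).2 ?_
  exact isPseudoCoherent_restrict_away (α : MvPolynomial (Fin n) R →+* A) G K m hvia

/-- Zariski descent of `m`-pseudo-coherence for an arbitrary finite index type -/
theorem isPseudoCoherent_of_localization_away' {P : Type u} [CommRing P] {ι : Type*} [Finite ι]
    (G : ι → P) (hG : Ideal.span (Set.range G) = ⊤) (K : Cx P) (m : ℤ)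
    (hK : ∀ j, IsPseudoCoherent (Localization.Away (G j)) m
      (toD (((ES P (Localization.Away (G j))).mapHomologicalComplex (ComplexShape.up ℤ)).obj K))) :
    IsPseudoCoherent P m (toD K) := by
  obtain ⟨r, ⟨e⟩⟩ := Finite.exists_equiv_fin ι
  refine isPseudoCoherent_of_localization_away (f := G ∘ e.symm) ?_ K m (fun j => hK (e.symm j))
  rw [← hG]
  congr 1
  exact e.symm.surjective.range_comp G

theorem main6987 [Algebra.FiniteType R A] (K : DRing.Cx A) (m : ℤ) {r : ℕ} (f : Fin r → A)
    (hf : Ideal.span (Set.range f) = ⊤) :
    DerCA.IsRelPseudoCoherent R A m (DRing.toD K) ↔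
      ∀ i, DerCA.IsRelPseudoCoherent R (Localization.Away (f i)) m
        (DRing.toD (((ModuleCat.extendScalars (algebraMap A (Localization.Away (f i)))).mapHomologicalComplex
          (ComplexShape.up ℤ)).obj K)) := by
  constructor
  · intro h i
    exact relPC_away (f i) K m h
  · intro h
    obtain ⟨n, α, hα⟩ := Algebra.FiniteType.iff_quotient_mvPolynomial''.1
      (inferInstance : Algebra.FiniteType R A)
    let φ : MvPolynomial (Fin n) R →+* A := α
    choose F hF using fun i => hα (f i)
    have h1 : (1 : A) ∈ Ideal.span (Set.range f) := by rw [hf]; trivial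
    obtain ⟨a, ha⟩ := Ideal.mem_span_range_iff_exists_fun.1 h1
    choose a' ha' using fun i => hα (a i)
    let k : MvPolynomial (Fin n) R := 1 - ∑ i, a' i * F i
    have hk : φ k = 0 := by
      show α (1 - ∑ i, a' i * F i) = 0
      rw [map_sub, map_one, map_sum]
      simp only [map_mul, hF, ha']
      rw [ha, sub_self]
    let G : Option (Fin r) → MvPolynomial (Fin n) R := fun o => o.elim k F
    have hGtop : Ideal.span (Set.range G) = ⊤ := by
      rw [Ideal.eq_top_iff_one]
      have hk' : k ∈ Ideal.span (Set.range G) := Ideal.subset_span ⟨none, rfl⟩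
      have hF' : ∀ i, F i ∈ Ideal.span (Set.range G) := fun i => Ideal.subset_span ⟨some i, rfl⟩
      have h1 : (1 : MvPolynomial (Fin n) R) = k + ∑ i, a' i * F i := by
        show (1 : MvPolynomial (Fin n) R) = (1 - ∑ i, a' i * F i) + ∑ i, a' i * F i
        rw [sub_add_cancel]
      rw [h1]
      exact Ideal.add_mem _ hk' (Ideal.sum_mem _ (fun i _ => Ideal.mul_mem_left _ _ (hF' i)))
    refine ⟨n, α, hα, ?_⟩
    show IsPseudoCoherent (MvPolynomial (Fin n) R) m ((restrictD φ).obj (toD K))
    let e1 : (restrictD φ).obj (toD K) ≅ toD ((restrictCx φ).obj K) :=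
      ((ModuleCat.restrictScalars.{u} φ).mapDerivedCategoryFactors).app K
    refine (isPseudoCoherent_iff_of_iso e1 m).2 ?_
    refine isPseudoCoherent_of_localization_away' G hGtop _ m ?_
    intro o
    cases o with
    | none =>
      show IsPseudoCoherent (Localization.Away k) m
        (toD ((ESc (algebraMap (MvPolynomial (Fin n) R) (Localization.Away k))).obj
          ((restrictCx φ).obj K)))
      have hzero : IsZero (toD ((ESc (algebraMap (MvPolynomial (Fin n) R)
          (Localization.Away k))).obj ((restrictCx φ).obj K))) := by
        apply isZero_toD_of_exactAt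
        intro i
        refine ShortComplex.exact_of_isZero_X₂ _ ?_
        show IsZero (((ESc (algebraMap (MvPolynomial (Fin n) R)
          (Localization.Away k))).obj ((restrictCx φ).obj K)).X i)
        haveI : Subsingleton (Localization.Away (0 : A)) :=
          IsLocalization.subsingleton (M := Submonoid.powers (0 : A)) ⟨1, pow_one 0⟩
        haveI hs : Subsingleton ↑(((ESc (algebraMap A (Localization.Away (0 : A)))).obj K).X i) :=
          Module.subsingleton (Localization.Away (0 : A)) _
        have hz : IsZero (((restrictCx (awayψ φ k 0 hk)).obj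
            ((ESc (algebraMap A (Localization.Away (0 : A)))).obj K)).X i) := by
          haveI : Subsingleton ↑(((restrictCx (awayψ φ k 0 hk)).obj
            ((ESc (algebraMap A (Localization.Away (0 : A)))).obj K)).X i) := hs
          exact ModuleCat.isZero_of_subsingleton _
        exact IsZero.of_iso hz
          ((HomologicalComplex.eval _ _ i).mapIso (bcResIso φ k 0 hk K))
      exact (isPseudoCoherent_iff_pcmP m _).2 (pcmP_of_isZero m _ hzero)
    | some i =>
      show IsPseudoCoherent (Localization.Away (F i)) m
        (toD ((ESc (algebraMap (MvPolynomial (Fin n) R) (Localization.Away (F i)))).obj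
          ((restrictCx φ).obj K)))
      exact (isPseudoCoherent_away_iff φ (F i) (f i) (hF i) K m).1
        ((relPC_away_iff_gen (relPC_mvPolynomial n) α hα (F i) (f i) (hF i) _ m).1 (h i))

end RelAway

theorem main7008 {R A : Type u} [CommRing R] [CommRing A] (f : R) [Algebra R A]
    [Algebra (Localization.Away f) A] [IsScalarTower R (Localization.Away f) A]
    [Algebra.FiniteType (Localization.Away f) A] (g : A) (K : DRing.Cx A) (m : ℤ) :
    (DerCA.IsRelPseudoCoherent (Localization.Away f) A m (DRing.toD K) →
      DerCA.IsRelPseudoCoherent R (Localization.Away g) m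
        (DRing.toD (((ModuleCat.extendScalars (algebraMap A (Localization.Away g))).mapHomologicalComplex
          (ComplexShape.up ℤ)).obj K))) ∧
      (DerCA.IsRelPseudoCoherentAll (Localization.Away f) A (DRing.toD K) →
        DerCA.IsRelPseudoCoherentAll R (Localization.Away g)
          (DRing.toD (((ModuleCat.extendScalars (algebraMap A (Localization.Away g))).mapHomologicalComplex
            (ComplexShape.up ℤ)).obj K))) := by
  have hRf : DerCA.IsRelPseudoCoherentModuleAll R (Localization.Away f) (Localization.Away f) :=
    pch_iff_rel.1 (pcr_algebraMap.1 (PCR.away f))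
  haveI : Algebra.FiniteType R (Localization.Away f) := by
    haveI := IsLocalization.Away.finitePresentation (S := Localization.Away f) f
    infer_instance
  haveI : Algebra.FiniteType R A :=
    Algebra.FiniteType.trans (S := Localization.Away f) inferInstance inferInstance
  have key : ∀ m' : ℤ, DerCA.IsRelPseudoCoherent (Localization.Away f) A m' (toD K) →
      DerCA.IsRelPseudoCoherent R (Localization.Away g) m'
        (toD ((ESc (algebraMap A (Localization.Away g))).obj K)) := fun m' h =>
    relPC_away g K m' ((isRelPseudoCoherent_iff_of_intermediate hRf (toD K) m').1 h)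
  exact ⟨key m, fun h m' => key m' (h m')⟩

end Groth.Agent.Lib.PCHom
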