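import Mathlib
import Groth.Prelude.Def_TrivBC
import Groth.Prelude.Def_DTen4
import Groth.Prelude.Def_DRing4
import Groth.Prelude.Def_DerCA
import Groth.Agent.Lib.TrivBC15_helper6

/-!
# Relative pseudo-coherence and tor independent base change (helper6), part 1

* `torIndepCx_pushout_of_tor`: if `Tor_p^R(A, R') = 0` for `p > 0`, `P` is a flat `R`-algebra with
  `P → A`, and `P'' = P ⊗_R R'`, then `A` and `P''` are (chain level) tor independent over `P`.
* `main6998`.
-/

set_option autoImplicit false
set_option linter.style.haveILetI false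
set_option linter.unusedSectionVars false
set_option linter.unusedVariables false
universe u
open CategoryTheory CategoryTheory.Limits DerivedCategory Pretriangulated
open scoped TensorProduct
attribute [local instance] HasDerivedCategory.standard

namespace Groth.Agent.Lib.RelPcBCH6

open DRing Groth.Agent.Lib.DMod_helper6 Groth.Agent.Lib.ShriekIndH6 Groth.Agent.Lib.FlatBCH6
  Groth.Agent.Lib.TrivBCH6 Groth.Agent.Lib.KFlatMod Groth.Agent.Lib.BaseCmp

attribute [local instance] MvPolynomial.algebraMvPolynomial Algebra.TensorProduct.rightAlgebra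

section TI

/-- `A[0]` over `P`, restricted to `R`, is `A[0]` over `R` -/
noncomputable def resSingleIso (R P A : Type u) [CommRing R] [CommRing P] [CommRing A]
    [Algebra R P] [Algebra P A] [Algebra R A] [IsScalarTower R P A] :
    (DTen.resCx (algebraMap R P)).obj
      ((HomologicalComplex.single (ModuleCat.{u} P) (ComplexShape.up ℤ) 0).obj
        (ModuleCat.of P A)) ≅ A0 R A :=
  (HomologicalComplex.singleMapHomologicalComplex
    (ModuleCat.restrictScalars.{u} (algebraMap R P)) (ComplexShape.up ℤ) 0).app
      (ModuleCat.of P A) ≪≫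
    (HomologicalComplex.single (ModuleCat.{u} R) (ComplexShape.up ℤ) 0).mapIso
      (resOfEquiv (R := R) (P := P) (A := A)).symm.toModuleIso

/-- **tor independence over a flat intermediate ring from `Tor` vanishing over the base** -/
theorem torIndepCx_pushout_of_tor (R P R' P'' A : Type u) [CommRing R] [CommRing P]
    [CommRing R'] [CommRing P''] [CommRing A]
    [Algebra R P] [Algebra R R'] [Algebra P P''] [Algebra R' P''] [Algebra R P'']
    [IsScalarTower R P P''] [IsScalarTower R R' P''] [Algebra.IsPushout R R' P P'']
    [Algebra P A] [Algebra R A] [IsScalarTower R P A] [Module.Flat R P]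
    (htor : ∀ p : ℕ, 1 ≤ p → Subsingleton (DRing.Tor R p A R')) :
    TorIndepCx (algebraMap P A) (algebraMap P P'') := by
  have h0 : (algebraMap P P'').comp (algebraMap R P) = (algebraMap R' P'').comp (algebraMap R R') := by
    rw [← IsScalarTower.algebraMap_eq R P P'', ← IsScalarTower.algebraMap_eq R R' P'']
  let Pr := ProjectiveResolution.of (ModuleCat.of P A)
  let N : DRing.Cx P := Pr.cochainComplex
  have hb : DRing.VanishesAbove N 0 := fun i hi => CochainComplex.isZero_of_isStrictlyLE N 0 i hi
  have hflat : ∀ i, Module.Flat P (N.X i) := fun i => by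
    haveI : Module.Projective P (N.X i) :=
      (IsProjective.iff_projective (N.X i)).2 (inferInstance : Projective (Pr.cochainComplex.X i))
    exact Module.Flat.of_projective
  let π₀ : N ⟶ (HomologicalComplex.single (ModuleCat.{u} P) (ComplexShape.up ℤ) 0).obj
    (ModuleCat.of P A) := Pr.π'
  haveI : QuasiIso π₀ := inferInstanceAs (QuasiIso Pr.π')
  -- K-flatness over `R`
  have hkN : KF R ((DTen.resCx (algebraMap R P)).obj N) :=
    kf_of_vanishesAbove _ 0
      (fun i hi => Functor.map_isZero (ModuleCat.restrictScalars.{u} (algebraMap R P)) (hb i hi))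
      (fun i => flat_restrictScalars (N.X i) (hflat i))
  haveI : QuasiIso ((DTen.resCx (algebraMap R P)).map π₀) := inferInstance
  -- tor independence over `R`
  let A' := R' ⊗[R] A
  have hTI : TorIndepCx (algebraMap R A) (algebraMap R R') := torIndepCx_of_tor R A R' htor
  haveI po1 : Algebra.IsPushout R A R' A' := inferInstance
  haveI po1' : Algebra.IsPushout R R' A A' := po1.symm
  have hsq : (algebraMap A A').comp (algebraMap R A) =
      (algebraMap R' A').comp (algebraMap R R') := by
    rw [← IsScalarTower.algebraMap_eq R A A', ← IsScalarTower.algebraMap_eq R R' A']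
  haveI : DRing.HasLBaseChange (algebraMap R R') := hasLBaseChange_general _
  haveI : DRing.HasLBaseChange (algebraMap A A') := hasLBaseChange_general _
  obtain ⟨adjρ⟩ := Groth.Agent.Lib.DerivedAdj.nonempty_adj (algebraMap R R')
  obtain ⟨adjα⟩ := Groth.Agent.Lib.DerivedAdj.nonempty_adj (algebraMap A A')
  haveI hq0 : QuasiIso ((DTen.extCx (algebraMap R R')).map
      ((DTen.resCx (algebraMap R P)).map π₀ ≫ (resSingleIso R P A).hom)) :=
    quasiIso_ext_of_torIndepCx hsq adjρ adjα hTI _ hkN
      ((DTen.resCx (algebraMap R P)).map π₀ ≫ (resSingleIso R P A).hom)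
  haveI hq1 : QuasiIso ((DTen.extCx (algebraMap R R')).map
      ((DTen.resCx (algebraMap R P)).map π₀)) := by
    rw [Functor.map_comp] at hq0
    exact (quasiIso_iff_comp_right _ _).1 hq0
  have hnat := (poCx h0).naturality π₀
  dsimp only [Functor.comp_obj, Functor.comp_map] at hnat
  haveI hq2 : QuasiIso ((DTen.resCx (algebraMap R' P'')).map
      ((DTen.extCx (algebraMap P P'')).map π₀)) := by
    have h2 : (DTen.resCx (algebraMap R' P'')).map ((DTen.extCx (algebraMap P P'')).map π₀) =
        inv ((poCx h0).app N) ≫
          (DTen.extCx (algebraMap R R')).map ((DTen.resCx (algebraMap R P)).map π₀) ≫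
            (poCx h0).app _ := by
      rw [hnat, IsIso.inv_hom_id_assoc]
    rw [h2]
    infer_instance
  haveI hq3 : QuasiIso ((DTen.extCx (algebraMap P P'')).map π₀) :=
    (HomologicalComplex.quasiIso_map_iff_of_preservesHomology _
      (ModuleCat.restrictScalars.{u} (algebraMap R' P''))).1 hq2
  refine ⟨N, 0, π₀ ≫ (singleResIso P A).hom, hb, hflat, inferInstance, ?_⟩
  rw [Functor.map_comp]
  infer_instance

end TI

end Groth.Agent.Lib.RelPcBCH6
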