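import Mathlib
import Groth.Agent.Lib.RelPcBC1_helper6

/-!
# Relative pseudo-coherence and tor independent base change (helper6), part 2: S6998
-/

set_option autoImplicit false
set_option linter.style.haveILetI false
set_option linter.unusedSectionVars false
set_option linter.unusedVariables false
universe u
open CategoryTheory CategoryTheory.Limits DerivedCategory Pretriangulated
open scoped TensorProduct
attribute [local instance] HasDerivedCategory.standard

namespace Groth.Agent.Lib.RelPcBCH6

open DRing Groth.Agent.Lib.DMod_helper6 Groth.Agent.Lib.ShriekIndH6 Groth.Agent.Lib.FlatBCH6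
  Groth.Agent.Lib.TrivBCH6 Groth.Agent.Lib.KFlatMod Groth.Agent.Lib.BaseCmp

attribute [local instance] MvPolynomial.algebraMvPolynomial Algebra.TensorProduct.rightAlgebra

section Main

variable {R A R' : Type u} [CommRing R] [CommRing A] [CommRing R'] [Algebra R A] [Algebra R R']

theorem relPc_baseChange_of_tor
    (htor : ∀ p : ℕ, 0 < p → Subsingleton (DRing.Tor R p A R'))
    [DRing.HasLBaseChange (Algebra.TensorProduct.includeRight : A →ₐ[R] R' ⊗[R] A).toRingHom]
    (K : Dual.D A) (m : ℤ) (hK : DerCA.IsRelPseudoCoherent R A m K) :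
    DerCA.IsRelPseudoCoherent R' (R' ⊗[R] A) m
      ((DRing.LBaseChange
        (Algebra.TensorProduct.includeRight : A →ₐ[R] R' ⊗[R] A).toRingHom).obj K) := by
  obtain ⟨n, ψ, hψ, hvia⟩ := hK
  let P := MvPolynomial (Fin n) R
  let P'' := MvPolynomial (Fin n) R'
  let A' := R' ⊗[R] A
  let ψ'' : P'' →ₐ[R'] A' := presBC (R' := R') ψ
  have hψ'' : Function.Surjective ψ'' := presBC_surjective ψ hψ
  refine ⟨n, ψ'', hψ'', ?_⟩
  letI algPA : Algebra P A := ψ.toRingHom.toAlgebra
  letI algP''A' : Algebra P'' A' := ψ''.toRingHom.toAlgebra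
  letI algPA' : Algebra P A' := ((algebraMap A A').comp (algebraMap P A)).toAlgebra
  haveI t1 : IsScalarTower P A A' := IsScalarTower.of_algebraMap_eq (fun _ => rfl)
  haveI t2 : IsScalarTower P P'' A' := IsScalarTower.of_algebraMap_eq (fun p => by
    show (1 : R') ⊗ₜ[R] ψ p = ψ'' (MvPolynomial.map (algebraMap R R') p)
    exact (presBC_map ψ p).symm)
  haveI t3 : IsScalarTower R P A := IsScalarTower.of_algebraMap_eq (fun r => (ψ.commutes r).symm)
  haveI t4 : IsScalarTower R' P'' A' :=
    IsScalarTower.of_algebraMap_eq (fun r => (ψ''.commutes r).symm)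
  haveI t5 : IsScalarTower R P'' A' := IsScalarTower.of_algebraMap_eq (fun r => by
    rw [IsScalarTower.algebraMap_apply R R' A', IsScalarTower.algebraMap_apply R R' P'',
      ← IsScalarTower.algebraMap_apply R' P'' A'])
  haveI po1 : Algebra.IsPushout R A R' A' := inferInstance
  haveI po2 : Algebra.IsPushout P A P'' A' := (Algebra.IsPushout.comp_iff R P R' P'').1 po1
  haveI po3 : Algebra.IsPushout P P'' A A' := po2.symm
  haveI po4 : Algebra.IsPushout R R' P P'' := Algebra.IsPushout.symm inferInstance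
  haveI hLβ : DRing.HasLBaseChange (algebraMap P P'') := hasLBaseChange_general _
  haveI hLα : DRing.HasLBaseChange (algebraMap A A') :=
    ‹DRing.HasLBaseChange (Algebra.TensorProduct.includeRight : A →ₐ[R] R' ⊗[R] A).toRingHom›
  obtain ⟨adjLα⟩ := Groth.Agent.Lib.DerivedAdj.nonempty_adj (algebraMap A A')
  obtain ⟨adjLβ⟩ := Groth.Agent.Lib.DerivedAdj.nonempty_adj (algebraMap P P'')
  have hTI : TorIndepCx (algebraMap P A) (algebraMap P P'') :=
    torIndepCx_pushout_of_tor R P R' P'' A (fun p hp => htor p hp)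
  have hsq : (algebraMap A A').comp (algebraMap P A) =
      (algebraMap P'' A').comp (algebraMap P P'') := by
    rw [← IsScalarTower.algebraMap_eq P A A', ← IsScalarTower.algebraMap_eq P P'' A']
  haveI hc : IsIso (TrivBC.cmp adjLβ adjLα hsq K) :=
    isIso_cmp_of_torIndepCx hsq adjLβ adjLα hTI K
  have h1 : IsPseudoCoherent P'' m
      ((DRing.LBaseChange (algebraMap P P'')).obj ((DRing.restrictD (algebraMap P A)).obj K)) :=
    isPseudoCoherent_lBaseChange (algebraMap P P'') _ m hvia
  exact (isPseudoCoherent_iff_of_iso (asIso (TrivBC.cmp adjLβ adjLα hsq K)) m).1 h1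

/-- **S6998** -/
theorem main6998 [Algebra.FiniteType R A]
    (htor : ∀ p : ℕ, 0 < p → Subsingleton (DRing.Tor R p A R'))
    [DRing.HasLBaseChange (Algebra.TensorProduct.includeRight : A →ₐ[R] R' ⊗[R] A).toRingHom]
    (K : Dual.D A) (m : ℤ) :
    (DerCA.IsRelPseudoCoherent R A m K → DerCA.IsRelPseudoCoherent R' (R' ⊗[R] A) m
      ((DRing.LBaseChange
        (Algebra.TensorProduct.includeRight : A →ₐ[R] R' ⊗[R] A).toRingHom).obj K)) ∧
      (DerCA.IsRelPseudoCoherentAll R A K → DerCA.IsRelPseudoCoherentAll R' (R' ⊗[R] A)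
        ((DRing.LBaseChange
          (Algebra.TensorProduct.includeRight : A →ₐ[R] R' ⊗[R] A).toRingHom).obj K)) :=
  ⟨relPc_baseChange_of_tor htor K m, fun h m' => relPc_baseChange_of_tor htor K m' (h m')⟩

end Main

end Groth.Agent.Lib.RelPcBCH6
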