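import Mathlib
import Groth.Agent.Lib.RelPcTen4_helper6
import Groth.Agent.Lib.RelPcBC2_helper6
import Groth.Agent.Lib.GorFib1_helper6
import Groth.Agent.Lib.DMod39_helper6
import Groth.Agent.Lib.DMod64_helper6

/-!
# Tensoring with a pseudo-coherent algebra (helper6), part 5: chain level tor independence from
flatness of the base change ring
-/

set_option autoImplicit false
set_option linter.style.haveILetI false
set_option linter.unusedSectionVars false
set_option linter.unusedVariables false
universe u
open CategoryTheory CategoryTheory.Limits DerivedCategory Pretriangulated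
open scoped TensorProduct
attribute [local instance] HasDerivedCategory.standard

namespace Groth.Agent.Lib.RelPcTenH6

open DRing Groth.Agent.Lib.DMod_helper6 Groth.Agent.Lib.ShriekIndH6 Groth.Agent.Lib.FlatBCH6
  Groth.Agent.Lib.TrivBCH6 Groth.Agent.Lib.KFlatMod Groth.Agent.Lib.BaseCmp

section TI

/-- **tor independence from flatness of the base change ring** -/
theorem torIndepCx_of_flat_right (R A R' : Type u) [CommRing R] [CommRing A] [CommRing R']
    [Algebra R A] [Algebra R R'] [Module.Flat R R'] :
    TorIndepCx (algebraMap R A) (algebraMap R R') := by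
  let P := ProjectiveResolution.of (ModuleCat.of R A)
  let N : DRing.Cx R := P.cochainComplex
  have hb : DRing.VanishesAbove N 0 := fun i hi => CochainComplex.isZero_of_isStrictlyLE N 0 i hi
  have hflat : ∀ i, Module.Flat R (N.X i) := fun i => by
    haveI : Module.Projective R (N.X i) :=
      (IsProjective.iff_projective (N.X i)).2 (inferInstance : Projective (P.cochainComplex.X i))
    exact Module.Flat.of_projective
  let π₀ : N ⟶ (HomologicalComplex.single (ModuleCat.{u} R) (ComplexShape.up ℤ) 0).obj
    (ModuleCat.of R A) := P.π'
  haveI : QuasiIso π₀ := inferInstanceAs (QuasiIso P.π')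
  have hexN : ∀ i : ℤ, i < 0 → N.ExactAt i := by
    intro i hi
    have hL : ((HomologicalComplex.single (ModuleCat.{u} R) (ComplexShape.up ℤ) 0).obj
        (ModuleCat.of R A)).ExactAt i :=
      exactAt_of_isZero_X _ i
        (HomologicalComplex.isZero_single_obj_X (ComplexShape.up ℤ) 0 _ i (by omega))
    exact (quasiIsoAt_iff_exactAt' π₀ i hL).1 inferInstance
  have hex : ∀ i : ℤ, i < 0 → ((DTen.extCx (algebraMap R R')).obj N).ExactAt i := fun i hi =>
    exactAt_ESc_of_exactAt (R := R) (B := R') N i (hexN i hi)
  haveI := quasiIso_ext_of_exactAt_neg (R' := R') N (ModuleCat.of R A) π₀ (fun i hi => hb i hi) hex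
  refine ⟨N, 0, π₀ ≫ (singleResIso R A).hom, hb, hflat, inferInstance, ?_⟩
  rw [Functor.map_comp]
  infer_instance

end TI

end Groth.Agent.Lib.RelPcTenH6
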