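import Mathlib
import Groth.Agent.Lib.RelPcTen5_helper6

/-!
# Tensoring with a pseudo-coherent algebra (helper6), part 6: S6986
-/

set_option autoImplicit false
set_option linter.style.haveILetI false
set_option linter.unusedSectionVars false
set_option linter.unusedVariables false
universe u
open CategoryTheory CategoryTheory.Limits DerivedCategory Pretriangulated
open scoped TensorProduct
attribute [local instance] HasDerivedCategory.standard

namespace Groth.Agent.Lib.RelPcTenH6

open DRing Groth.Agent.Lib.DMod_helper6 Groth.Agent.Lib.ShriekIndH6 Groth.Agent.Lib.FlatBCH6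
  Groth.Agent.Lib.TrivBCH6 Groth.Agent.Lib.KFlatMod Groth.Agent.Lib.BaseCmp

attribute [local instance] MvPolynomial.algebraMvPolynomial

section PcProps

variable {P S : Type u} [CommRing P] [CommRing S] (φ : P →+* S)

/-- the family of properties "`j`-pseudo-coherent after restriction along `φ`" -/
def PcRes (j : ℤ) (Y : Dual.D S) : Prop := IsPseudoCoherent P j ((restrictD φ).obj Y)

lemma pcRes_iso (j : ℤ) {X Y : Dual.D S} (e : X ≅ Y) (h : PcRes φ j X) : PcRes φ j Y :=
  (isPseudoCoherent_iff_of_iso ((restrictD φ).mapIso e) j).1 h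

lemma pcRes_mono (j j' : ℤ) (X : Dual.D S) (hjj' : j ≤ j') (h : PcRes φ j X) : PcRes φ j' X :=
  isPseudoCoherent_mono hjj' _ h

lemma pcRes_ext (j : ℤ) (T : Triangle (Dual.D S)) (hT : T ∈ distTriang _)
    (h₁ : PcRes φ j T.obj₁) (h₃ : PcRes φ j T.obj₃) : PcRes φ j T.obj₂ :=
  (isPseudoCoherent_two_of_three _ ((restrictD φ).map_distinguished T hT) j).2.1 h₁ h₃

lemma pcRes_shift (j d : ℤ) (X : Dual.D S) (h : PcRes φ j X) : PcRes φ (j - d) (X⟦d⟧) := by
  have h1 : pcmP P (j - d) (((restrictD φ).obj X)⟦d⟧) :=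
    pcmP_shift j d (j - d) (by omega) _ ((isPseudoCoherent_iff_pcmP j _).1 h)
  exact (isPseudoCoherent_iff_of_iso (((restrictD φ).commShiftIso d).app X) (j - d)).2
    ((isPseudoCoherent_iff_pcmP _ _).2 h1)

lemma pcRes_le (j : ℤ) (X : Dual.D S) (h : DerivedCategory.IsLE X (j - 1)) : PcRes φ j X := by
  haveI := h
  haveI : DerivedCategory.IsLE ((restrictD φ).obj X) (j - 1) := isLE_restrictD φ X (j - 1)
  exact (isPseudoCoherent_iff_pcmP j _).2 (leP_le_pcmP j _ ‹_›)

end PcProps

section Main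

variable {R A B : Type u} [CommRing R] [CommRing A] [CommRing B] [Algebra R A] [Algebra A B]
  [Algebra R B] [IsScalarTower R A B] [Algebra.FiniteType R A] [Algebra.FiniteType A B]

theorem relPc_lBaseChange_of_algebra (hB : DerCA.IsRelPseudoCoherentModuleAll A B B)
    [DRing.HasLBaseChange (algebraMap A B)] (K : Dual.D A) (m : ℤ)
    (hK : DerCA.IsRelPseudoCoherent R A m K) :
    DerCA.IsRelPseudoCoherent R B m ((DRing.LBaseChange (algebraMap A B)).obj K) := by
  obtain ⟨k, α, hα, -⟩ := hB 0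
  let A₁ := MvPolynomial (Fin k) A
  have hBpc0 : ∀ j : ℤ, IsPseudoCoherent A₁ j
      ((restrictD (α : A₁ →+* B)).obj (Dual.inD B B)) :=
    fun j => (isRelPseudoCoherent_iff_via α hα j _).1 (hB j)
  letI algA₁B : Algebra A₁ B := α.toRingHom.toAlgebra
  have hBpc : ∀ j : ℤ, IsPseudoCoherent A₁ j
      ((restrictD (algebraMap A₁ B)).obj (Dual.inD B B)) := hBpc0
  haveI t1 : IsScalarTower A A₁ B :=
    IsScalarTower.of_algebraMap_eq (fun a => (α.commutes a).symm)
  haveI t2 : IsScalarTower R A₁ B := IsScalarTower.of_algebraMap_eq (fun r => by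
    rw [IsScalarTower.algebraMap_apply R A B, IsScalarTower.algebraMap_apply R A A₁,
      ← IsScalarTower.algebraMap_apply A A₁ B])
  haveI ft1 : Algebra.FiniteType R A₁ := inferInstance
  haveI fin1 : Module.Finite A₁ B := Module.Finite.of_surjective (Algebra.linearMap A₁ B) hα
  obtain ⟨n, β, hβ, hvia⟩ := hK
  let P := MvPolynomial (Fin n) R
  letI algPA : Algebra P A := β.toRingHom.toAlgebra
  let P₁ := MvPolynomial (Fin k) P
  let β₁ : P₁ →ₐ[R] A₁ := MvPolynomial.mapAlgHom β
  have hβ₁ : Function.Surjective β₁ := MvPolynomial.map_surjective β.toRingHom hβ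
  have hβ₁eq : (β₁ : P₁ →+* A₁) = algebraMap P₁ A₁ := rfl
  rw [isRelPseudoCoherent_iff_restrict_of_finite (R := R) (A := A₁) (B := B),
    isRelPseudoCoherent_iff_iterated β₁ hβ₁, hβ₁eq]
  -- derived base change along the composite
  haveI hL1 : DRing.HasLBaseChange (algebraMap A A₁) := hasLBaseChange_general _
  haveI hL2 : DRing.HasLBaseChange (algebraMap A₁ B) := hasLBaseChange_general _
  haveI hL3 : DRing.HasLBaseChange (algebraMap P P₁) := hasLBaseChange_general _
  obtain ⟨ecomp⟩ := Groth.Agent.Lib.GorFibH6.nonempty_lBaseChange_comp (algebraMap A A₁)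
    (algebraMap A₁ B) (algebraMap A B) (IsScalarTower.algebraMap_eq A A₁ B).symm
  let L : Dual.D A₁ := (DRing.LBaseChange (algebraMap A A₁)).obj K
  have eX : (DRing.LBaseChange (algebraMap A B)).obj K ≅
      (DRing.LBaseChange (algebraMap A₁ B)).obj L := ecomp.app K
  -- `L` restricted to `P₁` is the base change of `K` restricted to `P`
  obtain ⟨adjLα⟩ := Groth.Agent.Lib.DerivedAdj.nonempty_adj (algebraMap A A₁)
  obtain ⟨adjLβ⟩ := Groth.Agent.Lib.DerivedAdj.nonempty_adj (algebraMap P P₁)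
  have hTI : TorIndepCx (algebraMap P A) (algebraMap P P₁) := torIndepCx_of_flat_right P A P₁
  have hsq : (algebraMap A A₁).comp (algebraMap P A) =
      (algebraMap P₁ A₁).comp (algebraMap P P₁) := by
    rw [← IsScalarTower.algebraMap_eq P A A₁, ← IsScalarTower.algebraMap_eq P P₁ A₁]
  haveI hc : IsIso (TrivBC.cmp adjLβ adjLα hsq K) :=
    isIso_cmp_of_torIndepCx hsq adjLβ adjLα hTI K
  have h1 : IsPseudoCoherent P₁ m
      ((DRing.LBaseChange (algebraMap P P₁)).obj ((DRing.restrictD (algebraMap P A)).obj K)) :=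
    isPseudoCoherent_lBaseChange (algebraMap P P₁) _ m hvia
  have hL : PcRes (algebraMap P₁ A₁) m L :=
    (isPseudoCoherent_iff_of_iso (asIso (TrivBC.cmp adjLβ adjLα hsq K)) m).1 h1
  -- boundedness of `L`
  obtain ⟨b, hb⟩ := exists_isLE_of_pcmP m _ ((isPseudoCoherent_iff_pcmP m _).1 hL)
  have hLb : DerivedCategory.IsLE L b := isLE_of_isLE_restrictD (algebraMap P₁ A₁) L b hb
  have main := pc_tensor_of_lBaseChange (S := A₁) (B := B) hBpc (PcRes (algebraMap P₁ A₁))
    (fun j _ _ e h => pcRes_iso _ j e h) (pcRes_mono _) (pcRes_ext _) (pcRes_shift _)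
    (pcRes_le _) L b hLb m hL
  exact pcRes_iso _ m ((restrictD (algebraMap A₁ B)).mapIso eX.symm) main

/-- **S6986** -/
theorem main6986 (hB : DerCA.IsRelPseudoCoherentModuleAll A B B)
    [DRing.HasLBaseChange (algebraMap A B)] (K : Dual.D A) (m : ℤ) :
    (DerCA.IsRelPseudoCoherent R A m K →
      DerCA.IsRelPseudoCoherent R B m ((DRing.LBaseChange (algebraMap A B)).obj K)) ∧
      (DerCA.IsRelPseudoCoherentAll R A K →
        DerCA.IsRelPseudoCoherentAll R B ((DRing.LBaseChange (algebraMap A B)).obj K)) :=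
  ⟨relPc_lBaseChange_of_algebra hB K m, fun h m' => relPc_lBaseChange_of_algebra hB K m' (h m')⟩

end Main

end Groth.Agent.Lib.RelPcTenH6
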