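import Mathlib
import Groth.Prelude
import Groth.Agent.Lib.RelPCBC5_helper3
import Groth.Agent.Lib.RelPCi2_helper3
import Groth.Agent.Lib.RelPCQc_helper3
import Groth.Agent.Lib.RelPCq_helper3
import Groth.Agent.Lib.RelPcTen6_helper6
import Groth.Agent.Lib.TorAmpRel2_helper3

/-!
# Relative pseudo-coherence of `Lf^* K` relative to a composite (helper3; S6229)

* `nonempty_chart_Lpull_iso_gen`: the restriction of `Lp^* K` to an affine chart.
* `gpc_Lpull_comp`, `relPC_Lpull_comp`: if `f` is pseudo-coherent and `K` (with quasi-coherent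
  cohomology) is `m`-pseudo-coherent relative to `g`, then `Lf^* K` is `m`-pseudo-coherent relative
  to `f ≫ g` (ring-level input: helper6's `relPc_lBaseChange_of_algebra`).
* `main6229`.
-/

set_option autoImplicit false
set_option linter.all false
set_option maxHeartbeats 1600000
set_option backward.isDefEq.respectTransparency false
set_option backward.isDefEq.respectTransparency.types false
set_option backward.defeqAttrib.useBackward true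

universe u
open CategoryTheory CategoryTheory.Limits AlgebraicGeometry Opposite TopologicalSpace

attribute [local instance] HasDerivedCategory.standard

namespace Groth.Agent.Lib.RelPCLpullH3

open Groth.Agent.Lib.DCohLocLead DerivedCategory Groth.Agent.Lib.FpqcPCH3
  Groth.Agent.Lib.FinPushPCH3 Groth.Agent.Lib.BCOpenL Groth.Agent.Lib.RelPCaH3
  Groth.Agent.Lib.DMod_helper6 Groth.Agent.Lib.TildePCH3 Groth.Agent.Lib.TildeAmpL DRing
  Groth.Agent.Lib.RelPCbH3 Groth.Agent.Lib.RelPerfLocH3 Groth.Agent.Lib.RelPerfBCH3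
  Groth.Agent.Lib.RelPCBCH3 Groth.Agent.Lib.LpullLocH3 Groth.Agent.Lib.LpullExH3 DerSch

noncomputable section

local instance hasRpushInstLP {X Y : Scheme.{u}} (f : X ⟶ Y) : DCoh.HasRpush f := hasRpush f

local instance hasLBCInstLP {A B : Type u} [CommRing A] [CommRing B] (φ : A →+* B) :
    HasLBaseChange φ := Groth.Agent.Lib.LpullQCL.hasLBaseChange φ

local instance pflInstLP (R : CommRingCat.{u}) : PreservesFiniteLimits (tilde.functor R) :=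
  Groth.Agent.Lib.LpullQCL.preservesFiniteLimits_tilde R

section ChartLpull

variable {X' X : Scheme.{u}} (p : X' ⟶ X) (U : X.Opens) (hU : IsAffineOpen U)
  (U' : X'.Opens) (hU' : IsAffineOpen U') (hUU' : U' ≤ p ⁻¹ᵁ U)

/-- the restriction of `Lp^* K` to an affine chart `U' ⊆ p⁻¹ U` -/
theorem nonempty_chart_Lpull_iso_gen [DCoh.HasLpull p] (K : DCoh.D X)
    (M : DerivedCategory (ModuleCat.{u} Γ(X, U)))
    (eM : EC U hU K ≅ (DCoh.tildeD Γ(X, U)).obj M) :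
    Nonempty (EC U' hU' ((DCoh.Lpull p).obj K) ≅
      (DCoh.tildeD Γ(X', U')).obj ((LBaseChange (p.appLE U U' hUU').hom).obj M)) := by
  let ψ : Γ(X, U) ⟶ Γ(X', U') := p.appLE U U' hUU'
  have hg : hU'.fromSpec ≫ p = Spec.map ψ ≫ hU.fromSpec :=
    (IsAffineOpen.SpecMap_appLE_fromSpec p hU hU' hUU').symm
  haveI := hasLpull hU'.fromSpec
  haveI := hasLpull (hU'.fromSpec ≫ p)
  haveI := hasLpull hU.fromSpec
  haveI := hasLpull (Spec.map ψ)
  haveI := hasLpull (Spec.map ψ ≫ hU.fromSpec)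
  obtain ⟨c1⟩ := Groth.Agent.Lib.LpullCompH3.nonempty_comp_iso hU'.fromSpec p
  obtain ⟨c2⟩ := Groth.Agent.Lib.LpullCompH3.nonempty_comp_iso (Spec.map ψ) hU.fromSpec
  obtain ⟨c3⟩ := nonempty_Lpull_congr hg
  obtain ⟨c4⟩ := nonempty_iso_1055' ψ
  obtain ⟨d1⟩ := nonempty_DD_comp_iso hU'.isoSpec.inv U'.ι ((DCoh.Lpull p).obj K)
  obtain ⟨d2⟩ := nonempty_DD_comp_iso hU.isoSpec.inv U.ι K
  have e1 : EC U' hU' ((DCoh.Lpull p).obj K) ≅
      (DCoh.Lpull hU'.fromSpec).obj ((DCoh.Lpull p).obj K) :=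
    d1.symm ≪≫ (restrictDIsoLpull hU'.fromSpec).app _
  have e2 : (DCoh.Lpull hU'.fromSpec).obj ((DCoh.Lpull p).obj K) ≅
      (DCoh.Lpull (Spec.map ψ)).obj ((DD hU.fromSpec).obj K) :=
    c1.app K ≪≫ c3.app K ≪≫ (c2.app K).symm ≪≫
      (DCoh.Lpull (Spec.map ψ)).mapIso ((restrictDIsoLpull hU.fromSpec).app K).symm
  have e3 : (DCoh.Lpull (Spec.map ψ)).obj ((DD hU.fromSpec).obj K) ≅
      (DCoh.Lpull (Spec.map ψ)).obj ((DCoh.tildeD Γ(X, U)).obj M) :=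
    (DCoh.Lpull (Spec.map ψ)).mapIso (d2 ≪≫ eM)
  exact ⟨e1 ≪≫ e2 ≪≫ e3 ≪≫ (c4.app M).symm⟩

end ChartLpull

section Comp

variable {X Y Z : Scheme.{u}} (f : X ⟶ Y) (g : Y ⟶ Z)

/-- **the chart computation** -/
theorem gpc_Lpull_comp [LocallyOfFiniteType f] [LocallyOfFiniteType g] [DCoh.HasLpull f]
    (hf : IsPseudoCoherentRelAll f (DCoh.toD X (unitCx X))) (K : DCoh.D Y)
    (hq : DCoh.IsQCohD K) (m : ℤ) (hK : IsPseudoCoherentRel g m K)
    (U : X.Opens) (hU : IsAffineOpen U) (V : Y.Opens) (hV : IsAffineOpen V)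
    (W : Z.Opens) (hW : IsAffineOpen W)
    (hUV : U ≤ f ⁻¹ᵁ V) (hVW : V ≤ g ⁻¹ᵁ W) (hUW : U ≤ (f ≫ g) ⁻¹ᵁ W) :
    ∃ (n : ℕ) (φ : MvPolynomial (Fin n) Γ(Z, W) →+* Γ(X, U)),
      IsChart (f ≫ g) U W hUW φ ∧ GPC m ((DCoh.Lpull f).obj K) U φ := by
  letI aRA : Algebra Γ(Z, W) Γ(Y, V) := (g.appLE W V hVW).hom.toAlgebra
  letI aAB : Algebra Γ(Y, V) Γ(X, U) := (f.appLE V U hUV).hom.toAlgebra
  letI aRB : Algebra Γ(Z, W) Γ(X, U) := ((f ≫ g).appLE W U hUW).hom.toAlgebra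
  have hcomp : g.appLE W V hVW ≫ f.appLE V U hUV = (f ≫ g).appLE W U hUW :=
    Scheme.Hom.appLE_comp_appLE f g W V U hVW hUV
  haveI : IsScalarTower Γ(Z, W) Γ(Y, V) Γ(X, U) := IsScalarTower.of_algebraMap_eq (fun r => by
    have := congrArg (fun k => k.hom r) hcomp
    exact this.symm)
  haveI ft1 : Algebra.FiniteType Γ(Z, W) Γ(Y, V) :=
    LocallyOfFiniteType.finiteType_appLE g hW hV hVW
  haveI ft2 : Algebra.FiniteType Γ(Y, V) Γ(X, U) :=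
    LocallyOfFiniteType.finiteType_appLE f hV hU hUV
  -- the ring representative of `K` on `V`
  obtain ⟨N, ⟨eN⟩⟩ := exists_ring_rep' V hV K hq
  obtain ⟨n₁, α₁, hα₁, hch₁⟩ := exists_isChart_algHom g V W hVW
    (LocallyOfFiniteType.finiteType_appLE g hW hV hVW)
  have hN : DerCA.IsRelPseudoCoherent Γ(Z, W) Γ(Y, V) m N := by
    rw [isRelPseudoCoherent_iff_via α₁ hα₁ m N]
    exact (gpc_iff_ring' V hV _ m K N eN).1
      ((relPC_iff_forall_gpc g m K).1 hK ⟨V, hV⟩ ⟨W, hW⟩ hVW _ hch₁)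
  -- `f` is pseudo-coherent on `(U, V)`
  obtain ⟨eB⟩ := nonempty_unit_ring_rep' U hU
  obtain ⟨n₂, α₂, hα₂, hch₂⟩ := exists_isChart_algHom f U V hUV
    (LocallyOfFiniteType.finiteType_appLE f hV hU hUV)
  have hB : DerCA.IsRelPseudoCoherentModuleAll Γ(Y, V) Γ(X, U) Γ(X, U) := fun j => by
    show DerCA.IsRelPseudoCoherent Γ(Y, V) Γ(X, U) j (Dual.inD Γ(X, U) Γ(X, U))
    rw [isRelPseudoCoherent_iff_via α₂ hα₂ j _]
    exact (gpc_iff_ring' U hU _ j _ _ eB).1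
      ((relPC_iff_forall_gpc f j _).1 (hf j) ⟨U, hU⟩ ⟨V, hV⟩ hUV _ hch₂)
  -- tensoring with a pseudo-coherent algebra
  obtain ⟨n, α, hα, hvia⟩ := Groth.Agent.Lib.RelPcTenH6.relPc_lBaseChange_of_algebra
    (R := Γ(Z, W)) hB N m hN
  obtain ⟨c⟩ := nonempty_chart_Lpull_iso_gen f V hV U hU hUV K N eN.symm
  refine ⟨n, (α : MvPolynomial (Fin n) Γ(Z, W) →+* Γ(X, U)), ⟨hα, ?_⟩, ?_⟩
  · ext r
    exact α.commutes r
  · rw [gpc_iff_ring' U hU _ m _ _ c.symm]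
    exact hvia

/-- **`Lf^* K` is `m`-pseudo-coherent relative to `f ≫ g`** -/
theorem relPC_Lpull_comp [LocallyOfFiniteType f] [LocallyOfFiniteType g] [DCoh.HasLpull f]
    (hf : IsPseudoCoherentRelAll f (DCoh.toD X (unitCx X))) (K : DCoh.D Y)
    (hq : DCoh.IsQCohD K) (m : ℤ) (hK : IsPseudoCoherentRel g m K) :
    IsPseudoCoherentRel (f ≫ g) m ((DCoh.Lpull f).obj K) := by
  refine ⟨inferInstance, Set.univ, ?_, ?_⟩
  · rw [eq_top_iff]
    intro z _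
    obtain ⟨W, hW, hzW, -⟩ := Opens.isBasis_iff_nbhd.mp Z.isBasis_affineOpens
      (show z ∈ (⊤ : Z.Opens) from trivial)
    exact Opens.mem_iSup.2 ⟨⟨W, hW⟩, Opens.mem_iSup.2 ⟨Set.mem_univ _, hzW⟩⟩
  · rintro W -
    refine ⟨{U : X.affineOpens | ∃ V : Y.affineOpens, V.1 ≤ g ⁻¹ᵁ W.1 ∧ U.1 ≤ f ⁻¹ᵁ V.1},
      ?_, ?_⟩
    · refine le_antisymm (iSup₂_le fun U hU => ?_) (fun x hx => ?_)
      · obtain ⟨V, hVW, hUV⟩ := hU
        exact fun t ht => hVW (hUV ht)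
      · have h1 : f.base x ∈ g ⁻¹ᵁ W.1 := hx
        obtain ⟨V, hV, hyV, hVW⟩ := Opens.isBasis_iff_nbhd.mp Y.isBasis_affineOpens h1
        obtain ⟨U, hU, hxU, hUV⟩ := Opens.isBasis_iff_nbhd.mp X.isBasis_affineOpens
          (show x ∈ f ⁻¹ᵁ V from hyV)
        exact Opens.mem_iSup.2 ⟨⟨U, hU⟩, Opens.mem_iSup.2 ⟨⟨⟨V, hV⟩, hVW, hUV⟩, hxU⟩⟩
    · rintro U ⟨V, hVW, hUV⟩ h
      obtain ⟨n, φ, hφ, hgpc⟩ := gpc_Lpull_comp f g hf K hq m hK U.1 U.2 V.1 V.2 W.1 W.2 hUV hVW h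
      exact ⟨n, φ, hφ, (chartPC_iff_gpc m _ U.1 U.2 W.1 φ hφ.1).2 hgpc⟩

end Comp

/-- **S6229** -/
theorem main6229 {X Y Z : Scheme.{u}} (f : X ⟶ Y) (g : Y ⟶ Z)
    [LocallyOfFiniteType f] [LocallyOfFiniteType g] (m : ℕ) (hf : DerSch.HasPerfDimLE f m)
    [DCoh.HasLpull f] (c d : ℤ)
    (G : CochainComplex Y.Modules ℤ) (hG : DerSch.HasPerfAmplitudeRel g c d G)
    (F' : CochainComplex X.Modules ℤ)
    (eF' : Nonempty (DCoh.toD X F' ≅ (DCoh.Lpull f).obj (DCoh.toD Y G))) :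
    DerSch.HasPerfAmplitudeRel (f ≫ g) (c - m) d F' := by
  obtain ⟨e⟩ := eF'
  refine ⟨fun j => ?_, ?_⟩
  · have hq : DCoh.IsQCohD (DCoh.toD Y G) := Groth.Agent.Lib.RelPCQcH3.main6235 g _ hG.1
    have h1 := relPC_Lpull_comp f g hf.1 (DCoh.toD Y G) hq j (hG.1 j)
    exact Groth.Agent.Lib.RelPCbH3.relPC_of_iso (f ≫ g) e.symm j h1
  · exact Groth.Agent.Lib.TorAmpRelH3.main6188 f g (f ≫ g) rfl m hf.2 G c d hG.2 F' ⟨e⟩

end

end Groth.Agent.Lib.RelPCLpullH3
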