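import Mathlib
import Groth.Prelude
import Groth.Agent.Lib.DCohLoc5_lead

/-!
# Direct summands of relatively pseudo-coherent objects (helper3)

`main7214`: if `E ⊞ K` is `m`-pseudo-coherent relative to `f` (chart form), so are `E` and `K`.
-/

set_option autoImplicit false
set_option linter.all false
set_option maxHeartbeats 1600000
set_option backward.isDefEq.respectTransparency false
set_option backward.isDefEq.respectTransparency.types false
set_option backward.defeqAttrib.useBackward true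

universe u
open CategoryTheory CategoryTheory.Limits AlgebraicGeometry Opposite

attribute [local instance] HasDerivedCategory.standard

namespace Groth.Agent.Lib.RelPCSumH3

open DerSch Groth.Agent.Lib.DCohLocLead

noncomputable section

variable {X Y : Scheme.{u}}

/-- the functor `G ↦ Q (i_* (G|_U))` of the chart test -/
abbrev chartFun (U : X.Opens) {R : Type u} [CommRing R] {n : ℕ}
    (φ : MvPolynomial (Fin n) R →+* Γ(X, U)) :
    CochainComplex X.Modules ℤ ⥤
      DCoh.D (Spec (CommRingCat.of (MvPolynomial (Fin n) R))) :=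
  DCoh.restrictCx U ⋙ pushCx (chartImm U φ) ⋙ DerivedCategory.Q

theorem chartPC_of_biprod (m : ℤ) (E K : DCoh.D X) [HasBinaryBiproduct E K] (U : X.Opens)
    (V : Y.Opens) {n : ℕ} (φ : MvPolynomial (Fin n) Γ(Y, V) →+* Γ(X, U))
    (h : ChartPC m (E ⊞ K) U V φ) : ChartPC m E U V φ ∧ ChartPC m K U V φ := by
  haveI : PreservesBinaryBiproducts (DerivedCategory.Q (C := X.Modules)) :=
    preservesBinaryBiproducts_of_preservesBiproducts _
  haveI : PreservesBinaryBiproducts (chartFun U φ) :=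
    preservesBinaryBiproducts_of_preservesBiproducts _
  have key : ∀ (G G' : CochainComplex X.Modules ℤ), (DCoh.toD X G ≅ E) → (DCoh.toD X G' ≅ K) →
      DCoh.IsPseudoCoherentD m ((chartFun U φ).obj G) ∧
        DCoh.IsPseudoCoherentD m ((chartFun U φ).obj G') := by
    intro G G' e e'
    have eGG : DCoh.toD X (G ⊞ G') ≅ E ⊞ K :=
      (DerivedCategory.Q (C := X.Modules)).mapBiprod G G' ≪≫ biprod.mapIso e e'
    have h1 := h (G ⊞ G') ⟨eGG⟩
    have h2 : DCoh.IsPseudoCoherentD m ((chartFun U φ).obj G ⊞ (chartFun U φ).obj G') :=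
      isPC_of_iso ((chartFun U φ).mapBiprod G G') h1
    exact main888 m _ _ h2
  constructor
  · rintro G ⟨e⟩
    exact (key G (DerivedCategory.Q.objPreimage K) e (DerivedCategory.Q.objObjPreimageIso K)).1
  · rintro G' ⟨e'⟩
    exact (key (DerivedCategory.Q.objPreimage E) G' (DerivedCategory.Q.objObjPreimageIso E) e').2

/-- **S7214** -/
theorem main7214 (f : X ⟶ Y) (m : ℤ) (E K : DCoh.D X) [HasBinaryBiproduct E K]
    (h : IsPseudoCoherentRel f m (E ⊞ K)) :
    IsPseudoCoherentRel f m E ∧ IsPseudoCoherentRel f m K := by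
  obtain ⟨hft, 𝒱, h𝒱, H⟩ := h
  constructor
  · refine ⟨hft, 𝒱, h𝒱, fun V hV => ?_⟩
    obtain ⟨𝒰, h𝒰, HU⟩ := H V hV
    refine ⟨𝒰, h𝒰, fun U hU hle => ?_⟩
    obtain ⟨n, φ, hc, hpc⟩ := HU U hU hle
    exact ⟨n, φ, hc, (chartPC_of_biprod m E K _ _ φ hpc).1⟩
  · refine ⟨hft, 𝒱, h𝒱, fun V hV => ?_⟩
    obtain ⟨𝒰, h𝒰, HU⟩ := H V hV
    refine ⟨𝒰, h𝒰, fun U hU hle => ?_⟩
    obtain ⟨n, φ, hc, hpc⟩ := HU U hU hle
    exact ⟨n, φ, hc, (chartPC_of_biprod m E K _ _ φ hpc).2⟩

end

end Groth.Agent.Lib.RelPCSumH3
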