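import Mathlib
import Groth.Prelude
import Groth.Agent.Lib.RelPCi2_helper3
import Groth.Agent.Lib.DMod39_helper6

/-!
# Relative pseudo-coherence, part o: finite morphisms (helper3)

* `nonempty_ring_rep_push`: the ring-level representative of `(Rπ_* E)|_{V'}` for `π` affine.
* `gpc_push_finite_iff`, `main7210`.
-/

set_option autoImplicit false
set_option linter.all false
set_option maxHeartbeats 1600000
set_option backward.isDefEq.respectTransparency false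
set_option backward.isDefEq.respectTransparency.types false
set_option backward.defeqAttrib.useBackward true

universe u
open CategoryTheory CategoryTheory.Limits AlgebraicGeometry Opposite TopologicalSpace
open CategoryTheory.Pretriangulated

attribute [local instance] HasDerivedCategory.standard

namespace Groth.Agent.Lib.RelPCbH3

open Groth.Agent.Lib.DCohLocLead DerivedCategory Groth.Agent.Lib.FpqcPCH3
  Groth.Agent.Lib.FinPushPCH3 Groth.Agent.Lib.BCOpenL Groth.Agent.Lib.RelPCaH3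
  Groth.Agent.Lib.DMod_helper6 Groth.Agent.Lib.TildePCH3 Groth.Agent.Lib.TildeAmpL DRing

noncomputable section

local instance hasRpushInst17 {X Y : Scheme.{u}} (f : X ⟶ Y) : DCoh.HasRpush f := hasRpush f

section Push

variable {X Y : Scheme.{u}} (π : X ⟶ Y) [IsAffineHom π]

/-- ring-level representative of the derived direct image along an affine morphism, over an affine
open of the target -/
theorem nonempty_ring_rep_push (V' : Y.Opens) (hV' : IsAffineOpen V')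
    [PreservesFiniteLimits (tilde.functor Γ(X, π ⁻¹ᵁ V'))]
    [PreservesFiniteLimits (tilde.functor Γ(Y, V'))]
    (E : DCoh.D X) (M : Dual.D Γ(X, π ⁻¹ᵁ V'))
    (e : (DCoh.tildeD Γ(X, π ⁻¹ᵁ V')).obj M ≅
      (RP (hV'.preimage π).isoSpec.hom).obj ((DD (π ⁻¹ᵁ V').ι).obj E)) :
    Nonempty ((DCoh.tildeD Γ(Y, V')).obj ((DRing.restrictD (π.app V').hom).obj M) ≅
      (RP hV'.isoSpec.hom).obj ((DD V'.ι).obj ((RP π).obj E))) := by
  obtain ⟨b3⟩ := main6508 π V'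
  have hnat : (π ∣_ V') ≫ hV'.isoSpec.hom =
      (hV'.preimage π).isoSpec.hom ≫ Spec.map (π.app V') :=
    (Scheme.Opens.toSpecΓ_naturality π V').symm
  obtain ⟨c1⟩ := Groth.Agent.Lib.LpullAdjH3.nonempty_Rpush_comp_iso (π ∣_ V') hV'.isoSpec.hom
  obtain ⟨c2⟩ := nonempty_Rpush_congr hnat
  obtain ⟨c3⟩ := Groth.Agent.Lib.LpullAdjH3.nonempty_Rpush_comp_iso
    (hV'.preimage π).isoSpec.hom (Spec.map (π.app V'))
  obtain ⟨c⟩ := Groth.Agent.Lib.DSectX.nonempty_iso_7268 (R := Γ(Y, V'))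
    (S := Γ(X, π ⁻¹ᵁ V')) (π.app V')
  exact ⟨(c.app M).symm ≪≫ (RP (Spec.map (π.app V'))).mapIso e ≪≫ c3.app _ ≪≫
    (c2.app _).symm ≪≫ (c1.app _).symm ≪≫ (RP hV'.isoSpec.hom).mapIso (b3.app E).symm⟩

end Push

section Finite

variable {X Y S : Scheme.{u}} (p : X ⟶ S) (q : Y ⟶ S) (π : X ⟶ Y)

theorem appLE_comp_of_fac (w : π ≫ q = p) (V' : Y.Opens) (W : S.Opens) (h : V' ≤ q ⁻¹ᵁ W)
    (hU : π ⁻¹ᵁ V' ≤ p ⁻¹ᵁ W) (r : Γ(S, W)) :
    (p.appLE W (π ⁻¹ᵁ V') hU).hom r = (π.app V').hom ((q.appLE W V' h).hom r) := by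
  subst w
  rw [Scheme.Hom.app_eq_appLE]
  have := Scheme.Hom.appLE_comp_appLE π q W V' (π ⁻¹ᵁ V') h le_rfl
  rw [← this]
  rfl

theorem gpc_push_finite_iff (w : π ≫ q = p) [IsFinite π] [LocallyOfFiniteType p] [LocallyOfFiniteType q]
    (V' : Y.affineOpens) (W : S.affineOpens) (h : (V' : Y.Opens) ≤ q ⁻¹ᵁ (W : S.Opens))
    (hU : π ⁻¹ᵁ (V' : Y.Opens) ≤ p ⁻¹ᵁ (W : S.Opens))
    (E : DCoh.D X) (hE : DCoh.IsQCohD E) (m : ℤ) {k : ℕ}
    (α : MvPolynomial (Fin k) Γ(S, (W : S.Opens)) →+* Γ(Y, (V' : Y.Opens)))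
    (hα : DerSch.IsChart q (V' : Y.Opens) (W : S.Opens) h α) {l : ℕ}
    (β : MvPolynomial (Fin l) Γ(S, (W : S.Opens)) →+* Γ(X, π ⁻¹ᵁ (V' : Y.Opens)))
    (hβ : DerSch.IsChart p (π ⁻¹ᵁ (V' : Y.Opens)) (W : S.Opens) hU β) :
    GPC m E (π ⁻¹ᵁ (V' : Y.Opens)) β ↔ GPC m ((RP π).obj E) (V' : Y.Opens) α := by
  have hUaff : IsAffineOpen (π ⁻¹ᵁ (V' : Y.Opens)) := V'.2.preimage π
  haveI : PreservesFiniteLimits (tilde.functor Γ(X, π ⁻¹ᵁ (V' : Y.Opens))) :=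
    Groth.Agent.Lib.LpullQCL.preservesFiniteLimits_tilde Γ(X, π ⁻¹ᵁ (V' : Y.Opens))
  haveI : PreservesFiniteLimits (tilde.functor Γ(Y, (V' : Y.Opens))) :=
    Groth.Agent.Lib.LpullQCL.preservesFiniteLimits_tilde Γ(Y, (V' : Y.Opens))
  obtain ⟨M, ⟨e⟩⟩ := exists_ring_rep (π ⁻¹ᵁ (V' : Y.Opens)) hUaff E hE
  obtain ⟨e'⟩ := nonempty_ring_rep_push π V'.1 V'.2 E M e
  letI algRA : Algebra Γ(S, (W : S.Opens)) Γ(Y, (V' : Y.Opens)) :=
    (q.appLE (W : S.Opens) (V' : Y.Opens) h).hom.toAlgebra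
  letI algAB : Algebra Γ(Y, (V' : Y.Opens)) Γ(X, π ⁻¹ᵁ (V' : Y.Opens)) :=
    (π.app (V' : Y.Opens)).hom.toAlgebra
  letI algRB : Algebra Γ(S, (W : S.Opens)) Γ(X, π ⁻¹ᵁ (V' : Y.Opens)) :=
    (p.appLE (W : S.Opens) (π ⁻¹ᵁ (V' : Y.Opens)) hU).hom.toAlgebra
  haveI : IsScalarTower Γ(S, (W : S.Opens)) Γ(Y, (V' : Y.Opens))
      Γ(X, π ⁻¹ᵁ (V' : Y.Opens)) :=
    IsScalarTower.of_algebraMap_eq (fun r => appLE_comp_of_fac p q π w V'.1 W.1 h hU r)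
  let αA : MvPolynomial (Fin k) Γ(S, (W : S.Opens)) →ₐ[Γ(S, (W : S.Opens))]
      Γ(Y, (V' : Y.Opens)) :=
    { α with commutes' := fun r => DFunLike.congr_fun hα.2 r }
  let βA : MvPolynomial (Fin l) Γ(S, (W : S.Opens)) →ₐ[Γ(S, (W : S.Opens))]
      Γ(X, π ⁻¹ᵁ (V' : Y.Opens)) :=
    { β with commutes' := fun r => DFunLike.congr_fun hβ.2 r }
  haveI : Algebra.FiniteType Γ(S, (W : S.Opens)) Γ(Y, (V' : Y.Opens)) :=
    Algebra.FiniteType.of_surjective αA hα.1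
  haveI : Module.Finite Γ(Y, (V' : Y.Opens)) Γ(X, π ⁻¹ᵁ (V' : Y.Opens)) :=
    IsFinite.finite_app π V'.1 V'.2
  have k1 := relPC_ring_of_gpc p (π ⁻¹ᵁ (V' : Y.Opens)) hUaff W.1 hU m E M e βA hβ.1
  have k2 := relPC_ring_of_gpc q V'.1 V'.2 W.1 h m ((RP π).obj E) _ e' αA hα.1
  exact k1.trans ((isRelPseudoCoherent_iff_restrict_of_finite M m).trans k2.symm)

theorem main7210 (w : π ≫ q = p) [LocallyOfFiniteType p] [LocallyOfFiniteType q] [IsFinite π]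
    [DCoh.HasRpush π] (m : ℤ) (E : DCoh.D X) (hE : DCoh.IsQCohD E) :
    DerSch.IsPseudoCoherentRel p m E ↔ DerSch.IsPseudoCoherentRel q m ((DCoh.Rpush π).obj E) := by
  constructor
  · intro H
    rw [relPC_iff_forall_gpc] at H
    rw [main7208]
    intro V' W h
    have hU : π ⁻¹ᵁ (V' : Y.Opens) ≤ p ⁻¹ᵁ (W : S.Opens) := by
      subst w
      exact fun x hx => h hx
    have hUaff : IsAffineOpen (π ⁻¹ᵁ (V' : Y.Opens)) := V'.2.preimage π
    obtain ⟨k, α, hα⟩ := exists_isChart q V'.1 W.1 h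
      (LocallyOfFiniteType.finiteType_appLE q W.2 V'.2 h)
    obtain ⟨l, β, hβ⟩ := exists_isChart p (π ⁻¹ᵁ (V' : Y.Opens)) W.1 hU
      (LocallyOfFiniteType.finiteType_appLE p W.2 hUaff hU)
    refine ⟨k, α, hα, ?_⟩
    rw [chartPC_iff_gpc m _ V'.1 V'.2 W.1 α hα.1]
    exact (gpc_push_finite_iff p q π w V' W h hU E hE m α hα β hβ).mp
      (H ⟨_, hUaff⟩ W hU β hβ)
  · intro H
    rw [relPC_iff_forall_gpc] at H
    refine ⟨inferInstance, Set.univ, ?_, fun W _ =>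
      ⟨{U | ∃ V' : Y.affineOpens, (V' : Y.Opens) ≤ q ⁻¹ᵁ (W : S.Opens) ∧
        (U : X.Opens) = π ⁻¹ᵁ (V' : Y.Opens)}, ?_, ?_⟩⟩
    · rw [eq_top_iff]
      intro y _
      obtain ⟨V, hV, hyV, -⟩ := Opens.isBasis_iff_nbhd.mp S.isBasis_affineOpens
        (show y ∈ (⊤ : S.Opens) from trivial)
      exact Opens.mem_iSup.mpr ⟨⟨V, hV⟩, Opens.mem_iSup.mpr ⟨Set.mem_univ _, hyV⟩⟩
    · apply le_antisymm
      · refine iSup₂_le (fun U hU => ?_)
        obtain ⟨V', hV', hUeq⟩ := hU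
        rw [hUeq]
        subst w
        exact fun x hx => hV' hx
      · intro x hx
        have hx' : π x ∈ q ⁻¹ᵁ (W : S.Opens) := by
          subst w
          exact hx
        obtain ⟨V', hV'aff, hxV', hV'W⟩ := Opens.isBasis_iff_nbhd.mp Y.isBasis_affineOpens hx'
        exact Opens.mem_iSup.mpr ⟨⟨π ⁻¹ᵁ V', hV'aff.preimage π⟩,
          Opens.mem_iSup.mpr ⟨⟨⟨V', hV'aff⟩, hV'W, rfl⟩, hxV'⟩⟩
    · rintro ⟨U, hUaff⟩ ⟨V', hV'W, hUeq⟩ hU
      have hUeq' : U = π ⁻¹ᵁ (V' : Y.Opens) := hUeq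
      subst hUeq'
      obtain ⟨k, α, hα⟩ := exists_isChart q V'.1 W.1 hV'W
        (LocallyOfFiniteType.finiteType_appLE q W.2 V'.2 hV'W)
      obtain ⟨l, β, hβ⟩ := exists_isChart p (π ⁻¹ᵁ (V' : Y.Opens)) W.1 hU
        (LocallyOfFiniteType.finiteType_appLE p W.2 hUaff hU)
      refine ⟨l, β, hβ, ?_⟩
      rw [chartPC_iff_gpc m E _ hUaff W.1 β hβ.1]
      exact (gpc_push_finite_iff p q π w V' W hV'W hU E hE m α hα β hβ).mpr
        (H V' W hV'W α hα)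

end Finite

end

end Groth.Agent.Lib.RelPCbH3
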