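import Mathlib
import Groth.Prelude
import Groth.Agent.Lib.RelPCn_helper3
import Groth.Agent.Lib.RelPCm_helper3
import Groth.Agent.Lib.TorDimFactor_lead

/-!
# Relative pseudo-coherence, part p: morphisms of perfect dimension `0` (helper3)

* `main6214`: `f` has perfect dimension `≤ 0` iff `f` is flat and locally of finite presentation.
-/

set_option autoImplicit false
set_option linter.all false
set_option maxHeartbeats 1600000
set_option backward.isDefEq.respectTransparency false
set_option backward.isDefEq.respectTransparency.types false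
set_option backward.defeqAttrib.useBackward true

universe u
open CategoryTheory CategoryTheory.Limits AlgebraicGeometry Opposite TopologicalSpace
open CategoryTheory.Pretriangulated

attribute [local instance] HasDerivedCategory.standard

namespace Groth.Agent.Lib.RelPCbH3

open Groth.Agent.Lib.DCohLocLead DerivedCategory Groth.Agent.Lib.FpqcPCH3
  Groth.Agent.Lib.FinPushPCH3 Groth.Agent.Lib.BCOpenL Groth.Agent.Lib.RelPCaH3
  Groth.Agent.Lib.DMod_helper6 Groth.Agent.Lib.TildePCH3 Groth.Agent.Lib.TildeAmpL DRing
  Groth.Agent.Lib.TorAmpCompL Groth.Agent.Lib.TorDimFactorL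

noncomputable section

variable {X Y : Scheme.{u}} (f : X ⟶ Y)

theorem flat_of_unit_torAmp (h : DerSch.HasTorAmplitude f 0 0 (DerSch.unitCx X)) : Flat f := by
  rw [AlgebraicGeometry.Flat.iff_flat_stalkMap]
  intro x
  letI := stalkAlgebra f x
  have h1 : HasTorAmplitudeIn (Y.presheaf.stalk (f.base x)) 0 0
      (Dual.inD (Y.presheaf.stalk (f.base x)) (X.presheaf.stalk x)) :=
    hasTorAmplitudeIn_of_iso (unitIso f x) _ _ (h x)
  exact (hasTorAmplitudeIn_zero_zero_iff_flat (A := Y.presheaf.stalk (f.base x))
    (X.presheaf.stalk x)).1 h1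

theorem main6214 [LocallyOfFiniteType f] :
    DerSch.HasPerfDimLE f 0 ↔ (Flat f ∧ LocallyOfFinitePresentation f) := by
  have hz : (-((0 : ℕ) : ℤ)) = 0 := by norm_num
  constructor
  · rintro ⟨hpc, htor⟩
    rw [hz] at htor
    exact ⟨flat_of_unit_torAmp f htor, (main6225 f).mp (hpc (-1))⟩
  · rintro ⟨hfl, hfp⟩
    haveI := hfl
    haveI := hfp
    refine ⟨fun m => isNPseudoCoherent_of_flat_lfp f m, ?_⟩
    rw [hz]
    exact fun x => unit_flat_of_flat f x

end

end Groth.Agent.Lib.RelPCbH3
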