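import Mathlib
import Groth.Prelude
import Groth.Agent.Lib.RelPCn_helper3
import Groth.Agent.Lib.PerfFlat3_lead
import Groth.Agent.Lib.TorAmpPush_lead

/-!
# Relative pseudo-coherence, part r: closed immersions into smooth schemes, perfect amplitude
(helper3)

* `main6218`: if `i_* F` has perfect amplitude `[a, b]` on `Y`, `i : X ⟶ Y` a closed immersion and
  `g : Y ⟶ S` smooth, then `F` has perfect amplitude `[a, b]` relative to `i ≫ g`.
-/

set_option autoImplicit false
set_option linter.all false
set_option maxHeartbeats 1600000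
set_option backward.isDefEq.respectTransparency false
set_option backward.isDefEq.respectTransparency.types false
set_option backward.defeqAttrib.useBackward true

universe u
open CategoryTheory CategoryTheory.Limits AlgebraicGeometry Opposite TopologicalSpace
open CategoryTheory.Pretriangulated

attribute [local instance] HasDerivedCategory.standard

namespace Groth.Agent.Lib.RelPCbH3

open Groth.Agent.Lib.DCohLocLead DerivedCategory

noncomputable section

theorem isPerfect_of_hasPerfAmp {Y : Scheme.{u}} (a b : ℤ) (K : DCoh.D Y)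
    (h : KSix.HasPerfectAmplitudeIn a b K) : DCoh.IsPerfect K := by
  rw [isPerfect_iff]
  intro x
  obtain ⟨V, hxV, hV⟩ := (hasPerfAmp_iff a b K).1 h x
  exact ⟨V, hxV, hV.mono (fun P hP =>
    (show DCoh.IsStrictlyPerfect P from ⟨⟨a, b, hP.1⟩, hP.2⟩))⟩

theorem hasFlatAmp_of_hasPerfAmp {Y : Scheme.{u}} (a b : ℤ) (K : DCoh.D Y)
    (h : KSix.HasPerfectAmplitudeIn a b K) : DCoh.HasFlatAmplitudeIn a b K := by
  have hG : DCoh.HasFlatAmplitudeIn a b (DCoh.toD Y (Q.objPreimage K)) := by
    refine flatAmp_of_cover (Q.objPreimage K) a b (fun x => ?_)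
    obtain ⟨V, hxV, hV⟩ := h x
    obtain ⟨P, hPv, hPf, ⟨i⟩⟩ := hV (Q.objPreimage K) ⟨Q.objObjPreimageIso K⟩
    exact ⟨V, hxV, P, hPv, fun k => isFlat_of_isFinLocFree (hPf k), ⟨i.symm⟩⟩
  exact hasFlatAmp_of_iso (Q.objObjPreimageIso K) hG

theorem main6218 {X Y S : Scheme.{u}} (i : X ⟶ Y) [IsClosedImmersion i]
    (g : Y ⟶ S) [Smooth g] (a b : ℤ) (F : CochainComplex X.Modules ℤ)
    (hF : KSix.HasPerfectAmplitudeIn a b (DCoh.toD Y
      (((Scheme.Modules.pushforward i).mapHomologicalComplex (ComplexShape.up ℤ)).obj F))) :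
    DerSch.HasPerfAmplitudeRel (i ≫ g) a b F := by
  haveI : Flat g := inferInstance
  have hperf := isPerfect_of_hasPerfAmp a b _ hF
  have hflat := hasFlatAmp_of_hasPerfAmp a b _ hF
  exact ⟨fun m => (main6201 i g m F).mpr (isPC_of_isPerfect hperf m),
    Groth.Agent.Lib.TorAmpPushL.hasTorAmplitude_of_push i g F a b hflat⟩

end

end Groth.Agent.Lib.RelPCbH3
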