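import Mathlib
import Groth.Prelude
import Groth.Agent.Lib.RelPCn_helper3
import Groth.Agent.Lib.RelPCm_helper3

/-!
# Relative pseudo-coherence, part s: composition of an `r`-pseudo-coherent and an
`s`-pseudo-coherent morphism (helper3)

* `pc_restrict_max`: ring level: if `Q` is `s`-pseudo-coherent over `P` and `C` is an
  `r`-pseudo-coherent `Q`-module, then `C` is `max r s`-pseudo-coherent over `P`.
* `main6209`.
-/

set_option autoImplicit false
set_option linter.all false
set_option maxHeartbeats 1600000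
set_option backward.isDefEq.respectTransparency false
set_option backward.isDefEq.respectTransparency.types false
set_option backward.defeqAttrib.useBackward true

universe u
open CategoryTheory CategoryTheory.Limits AlgebraicGeometry Opposite TopologicalSpace
open CategoryTheory.Pretriangulated
open scoped TensorProduct

attribute [local instance] HasDerivedCategory.standard

namespace Groth.Agent.Lib.RelPCbH3

open Groth.Agent.Lib.DCohLocLead DerivedCategory Groth.Agent.Lib.FpqcPCH3
  Groth.Agent.Lib.FinPushPCH3 Groth.Agent.Lib.BCOpenL Groth.Agent.Lib.RelPCaH3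
  Groth.Agent.Lib.DMod_helper6 Groth.Agent.Lib.TildePCH3 Groth.Agent.Lib.TildeAmpL DRing

noncomputable section

section RingMax

variable {P Q : Type u} [CommRing P] [CommRing Q] (φ : P →+* Q)

/-- an object of `D^{≤ 0}` is `m`-pseudo-coherent for every `m ≥ 1` -/
theorem isPseudoCoherent_of_isLE_zero (K : Dual.D P) [DerivedCategory.IsLE K 0] (m : ℤ)
    (hm : 1 ≤ m) : IsPseudoCoherent P m K := by
  rw [isPseudoCoherent_iff_pcmP]
  refine leP_le_pcmP m _ ?_
  show DerivedCategory.IsLE K (m - 1)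
  exact TStructure.t.isLE_of_le K 0 (m - 1) (by omega)

instance isLE_restrictD_inD (C : ModuleCat.{u} Q) :
    DerivedCategory.IsLE ((restrictD φ).obj (Dual.inD Q C)) 0 :=
  TStructure.t.isLE_of_iso (restrictDInDIso φ C).symm 0

/-- two out of three for the restrictions of a short exact sequence of modules -/
theorem pc_restrict_ses (S : ShortComplex (ModuleCat.{u} Q)) (hS : S.ShortExact) (m : ℤ) :
    (IsPseudoCoherent P (m + 1) ((restrictD φ).obj (Dual.inD Q S.X₁)) →
      IsPseudoCoherent P m ((restrictD φ).obj (Dual.inD Q S.X₂)) →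
        IsPseudoCoherent P m ((restrictD φ).obj (Dual.inD Q S.X₃))) ∧
    (IsPseudoCoherent P m ((restrictD φ).obj (Dual.inD Q S.X₁)) →
      IsPseudoCoherent P m ((restrictD φ).obj (Dual.inD Q S.X₃)) →
        IsPseudoCoherent P m ((restrictD φ).obj (Dual.inD Q S.X₂))) ∧
    (IsPseudoCoherent P (m + 1) ((restrictD φ).obj (Dual.inD Q S.X₂)) →
      IsPseudoCoherent P m ((restrictD φ).obj (Dual.inD Q S.X₃)) →
        IsPseudoCoherent P (m + 1) ((restrictD φ).obj (Dual.inD Q S.X₁))) :=
  isPseudoCoherent_two_of_three _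
    ((restrictD φ).map_distinguished _ hS.singleTriangle_distinguished) m

/-- the standard short exact sequence `0 → Q → Q^{n+1} → Q^n → 0` -/
theorem shortExact_succ (n : ℕ) :
    ∃ (f : ModuleCat.of Q Q ⟶ ModuleCat.of Q (Fin (n + 1) → Q))
      (g : ModuleCat.of Q (Fin (n + 1) → Q) ⟶ ModuleCat.of Q (Fin n → Q)) (w : f ≫ g = 0),
      (ShortComplex.mk f g w).ShortExact := by
  let f : Q →ₗ[Q] (Fin (n + 1) → Q) := LinearMap.single Q (fun _ => Q) 0
  let g : (Fin (n + 1) → Q) →ₗ[Q] (Fin n → Q) := LinearMap.funLeft Q Q Fin.succ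
  have hgf : ∀ x, g (f x) = 0 := by
    intro x
    ext i
    show (Pi.single (0 : Fin (n + 1)) x : Fin (n + 1) → Q) (Fin.succ i) = 0
    exact Pi.single_eq_of_ne (Fin.succ_ne_zero i) x
  refine ⟨ModuleCat.ofHom f, ModuleCat.ofHom g, ?_, ?_⟩
  · apply ModuleCat.hom_ext
    apply LinearMap.ext
    intro x
    exact hgf x
  · refine ShortComplex.ShortExact.mk' ?_ ?_ ?_
    · rw [ShortComplex.moduleCat_exact_iff]
      intro v hv
      refine ⟨v 0, ?_⟩
      have hv' : ∀ i : Fin n, v (Fin.succ i) = 0 := fun i => congrFun hv i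
      show (Pi.single (0 : Fin (n + 1)) (v 0) : Fin (n + 1) → Q) = v
      ext j
      refine Fin.cases ?_ (fun i => ?_) j
      · exact Pi.single_eq_same _ _
      · rw [hv' i]
        exact Pi.single_eq_of_ne (Fin.succ_ne_zero i) _
    · refine (ModuleCat.mono_iff_injective _).2 ?_
      intro x y hxy
      have := congrFun hxy 0
      simpa [f] using this
    · refine (ModuleCat.epi_iff_surjective _).2 ?_
      intro w
      refine ⟨Fin.cons 0 w, ?_⟩
      ext i
      show (Fin.cons 0 w : Fin (n + 1) → Q) (Fin.succ i) = w i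
      exact Fin.cons_succ _ _ _

/-- finite free `Q`-modules are `s`-pseudo-coherent over `P` if `Q` is -/
theorem pc_restrict_free (s : ℤ)
    (hQ : IsPseudoCoherent P s ((restrictD φ).obj (Dual.inD Q Q))) (n : ℕ) :
    IsPseudoCoherent P s ((restrictD φ).obj (Dual.inD Q (Fin n → Q))) := by
  induction n with
  | zero =>
    have hz : IsZero (ModuleCat.of Q (Fin 0 → Q)) := by
      haveI : Subsingleton (Fin 0 → Q) := inferInstance
      exact ModuleCat.isZero_of_subsingleton _
    rw [isPseudoCoherent_iff_pcmP]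
    exact pcmP_of_isZero s _ ((restrictD φ).map_isZero
      ((DerivedCategory.singleFunctor _ 0).map_isZero hz))
  | succ n ih =>
    obtain ⟨f, g, w, hS⟩ := shortExact_succ (Q := Q) n
    exact (pc_restrict_ses φ _ hS s).2.1 hQ ih

/-- finiteness through restriction of scalars -/
theorem finite_restrictScalars (C : ModuleCat.{u} Q) [Module.Finite Q C]
    (hQ : Module.Finite P ((ModuleCat.restrictScalars φ).obj (ModuleCat.of Q Q))) :
    Module.Finite P ((ModuleCat.restrictScalars φ).obj C) := by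
  letI algPQ : Algebra P Q := φ.toAlgebra
  let M : ModuleCat.{u} P := (ModuleCat.restrictScalars φ).obj C
  letI : Module Q M := inferInstanceAs (Module Q C)
  haveI : IsScalarTower P Q M := IsScalarTower.of_algebraMap_smul (fun r x => rfl)
  haveI : Module.Finite P Q := hQ
  haveI : Module.Finite Q M := inferInstanceAs (Module.Finite Q C)
  exact Module.Finite.trans Q M

/-- **ring level**: if `Q` is `s`-pseudo-coherent over `P` (`s ≤ 0`) and the `Q`-module `C` is
`(-k)`-pseudo-coherent, then `C` is `max (-k) s`-pseudo-coherent over `P` -/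
theorem pc_restrict_max_aux (s : ℤ) (hs : s ≤ 0)
    (hQ : IsPseudoCoherent P s ((restrictD φ).obj (Dual.inD Q Q))) :
    ∀ (k : ℕ) (C : ModuleCat.{u} Q), IsPseudoCoherent Q (-(k : ℤ)) (Dual.inD Q C) →
      IsPseudoCoherent P (max (-(k : ℤ)) s) ((restrictD φ).obj (Dual.inD Q C)) := by
  have hQfin : Module.Finite P ((ModuleCat.restrictScalars φ).obj (ModuleCat.of Q Q)) := by
    have h0 : IsPseudoCoherent P 0 ((restrictD φ).obj (Dual.inD Q Q)) :=
      isPseudoCoherent_mono hs _ hQ
    rw [isPseudoCoherent_iff_of_iso (restrictDInDIso φ (ModuleCat.of Q Q))] at h0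
    exact (isPseudoCoherentModule_zero_iff P _).mp h0
  intro k
  induction k with
  | zero =>
    intro C hC
    have hC0 : IsPseudoCoherent Q 0 (Dual.inD Q C) := by simpa using hC
    haveI : Module.Finite Q C := (isPseudoCoherentModule_zero_iff Q C).mp hC0
    haveI := finite_restrictScalars φ C hQfin
    have h1 : IsPseudoCoherent P 0 ((restrictD φ).obj (Dual.inD Q C)) := by
      rw [isPseudoCoherent_iff_of_iso (restrictDInDIso φ C)]
      exact isPseudoCoherentModule_zero_of_finite (A := P) ((ModuleCat.restrictScalars φ).obj C)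
    exact isPseudoCoherent_mono (by simp [hs]) _ h1
  | succ k ih =>
    intro C hC
    have hC0 : IsPseudoCoherent Q 0 (Dual.inD Q C) :=
      isPseudoCoherent_mono (by push_cast; omega) _ hC
    haveI : Module.Finite Q C := (isPseudoCoherentModule_zero_iff Q C).mp hC0
    obtain ⟨n, p, hp⟩ := Module.Finite.exists_fin' Q C
    have hS := shortExact_of_surjective p hp
    -- the kernel is `(-k)`-pseudo-coherent over `Q`
    have hfree : IsPseudoCoherent Q (-((k + 1 : ℕ) : ℤ) + 1) (Dual.inD Q (Fin n → Q)) :=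
      (isPseudoCoherent_iff_pcmP _ _).2
        (bfProp_le_pcmP _ _ (bfProp_single _ inferInstance inferInstance))
    have hK : IsPseudoCoherent Q (-((k + 1 : ℕ) : ℤ) + 1) (Dual.inD Q (LinearMap.ker p)) :=
      (isPseudoCoherent_two_of_three _ hS.singleTriangle_distinguished
        (-((k + 1 : ℕ) : ℤ))).2.2 hfree hC
    have hK' : IsPseudoCoherent Q (-(k : ℤ)) (Dual.inD Q (LinearMap.ker p)) := by
      have : -((k + 1 : ℕ) : ℤ) + 1 = -(k : ℤ) := by push_cast; ring
      rwa [this] at hK
    have hKP := ih (ModuleCat.of Q (LinearMap.ker p)) hK'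
    have hFP := pc_restrict_free φ s hQ n
    set m : ℤ := max (-((k + 1 : ℕ) : ℤ)) s with hm
    have h1 : IsPseudoCoherent P (m + 1) ((restrictD φ).obj (Dual.inD Q (LinearMap.ker p))) :=
      isPseudoCoherent_mono (by
        rw [hm]
        push_cast
        omega) _ hKP
    have h2 : IsPseudoCoherent P m ((restrictD φ).obj (Dual.inD Q (Fin n → Q))) :=
      isPseudoCoherent_mono (le_max_right _ _) _ hFP
    exact (pc_restrict_ses φ _ hS m).1 h1 h2

theorem pc_restrict_max (r s : ℤ)
    (hQ : IsPseudoCoherent P s ((restrictD φ).obj (Dual.inD Q Q)))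
    (C : ModuleCat.{u} Q) (hC : IsPseudoCoherent Q r (Dual.inD Q C)) :
    IsPseudoCoherent P (max r s) ((restrictD φ).obj (Dual.inD Q C)) := by
  by_cases h1 : 1 ≤ max r s
  · exact isPseudoCoherent_of_isLE_zero _ _ h1
  · have hr : r ≤ 0 := by
      have := le_max_left r s
      omega
    have hs : s ≤ 0 := by
      have := le_max_right r s
      omega
    obtain ⟨k, rfl⟩ : ∃ k : ℕ, r = -(k : ℤ) := ⟨(-r).toNat, by omega⟩
    exact pc_restrict_max_aux φ s hs hQ k C hC

end RingMax

section PolyLevel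

variable {P A : Type u} [CommRing P] [CommRing A] [Algebra P A] (k : ℕ)

/-- polynomial base change of `s`-pseudo-coherence -/
theorem resPC_map_level (s : ℤ) (hA : IsPseudoCoherentModule P s A) :
    IsPseudoCoherent (MvPolynomial (Fin k) P) s
      ((restrictD (MvPolynomial.map (σ := Fin k) (algebraMap P A))).obj
        (Dual.inD (MvPolynomial (Fin k) A) (MvPolynomial (Fin k) A))) := by
  have h : IsPseudoCoherent (MvPolynomial (Fin k) P) s
      ((DerivedCategory.singleFunctor (ModuleCat.{u} (MvPolynomial (Fin k) P)) 0).obj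
        (ModuleCat.of (MvPolynomial (Fin k) P) (MvPolynomial (Fin k) P ⊗[P] A))) :=
    isPseudoCoherentModule_baseChange (A := P) (B := MvPolynomial (Fin k) P) s A hA
  let X : ModuleCat.{u} (MvPolynomial (Fin k) P) :=
    (ModuleCat.restrictScalars (MvPolynomial.map (σ := Fin k) (algebraMap P A))).obj
        (ModuleCat.of (MvPolynomial (Fin k) A) (MvPolynomial (Fin k) A))
  have e1 : ModuleCat.of (MvPolynomial (Fin k) P) (MvPolynomial (Fin k) P ⊗[P] A) ≅ X :=
    (polyBCEquiv (P := P) (A := A) k).toModuleIso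
  rw [isPseudoCoherent_iff_of_iso (restrictDInDIso
    (MvPolynomial.map (σ := Fin k) (algebraMap P A))
    (ModuleCat.of (MvPolynomial (Fin k) A) (MvPolynomial (Fin k) A)))]
  exact (isPseudoCoherent_iff_of_iso ((DerivedCategory.singleFunctor _ 0).mapIso e1) s).mp h

end PolyLevel

section Composite

variable {X : Scheme.{u}} (U : X.Opens) {R A : Type u} [CommRing R] [CommRing A] {k n : ℕ}
  (α : MvPolynomial (Fin k) R →+* A) (β : MvPolynomial (Fin n) A →+* Γ(X, U))

theorem gpc_unit_compChart_max (hU : IsAffineOpen U) (r s : ℤ)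
    (hαs : IsPseudoCoherent (MvPolynomial (Fin k) R) s ((restrictD α).obj (Dual.inD A A)))
    (H : GPC r (DCoh.toD X (DerSch.unitCx X)) U β) :
    GPC (max r s) (DCoh.toD X (DerSch.unitCx X)) U (compChart U α β) := by
  unfold compChart
  rw [gpc_comp_ringEquiv_iff U (β.comp (MvPolynomial.map α)) (compEquiv R n k) _ _]
  rw [gpc_unit_iff_ring U hU] at H ⊢
  letI : Algebra (MvPolynomial (Fin k) R) A := α.toAlgebra
  have hA : IsPseudoCoherentModule (MvPolynomial (Fin k) R) s A :=
    (isPseudoCoherent_iff_of_iso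
      (restrictDInDSelfIso (A := MvPolynomial (Fin k) R) (B := A)) s).mp hαs
  have hμ := resPC_map_level (P := MvPolynomial (Fin k) R) (A := A) n s hA
  let C : ModuleCat.{u} (MvPolynomial (Fin n) A) :=
    (ModuleCat.restrictScalars β).obj (ModuleCat.of Γ(X, U) Γ(X, U))
  have hC : IsPseudoCoherent (MvPolynomial (Fin n) A) r (Dual.inD (MvPolynomial (Fin n) A) C) :=
    (isPseudoCoherent_iff_of_iso (restrictDInDIso β (ModuleCat.of Γ(X, U) Γ(X, U))) r).mp H
  have key := pc_restrict_max (MvPolynomial.map (σ := Fin n) α) r s hμ C hC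
  rw [isPseudoCoherent_iff_of_iso (restrictDCompIso (MvPolynomial.map (σ := Fin n) α) β
    (β.comp (MvPolynomial.map α)) rfl _)]
  exact (isPseudoCoherent_iff_of_iso ((restrictD (MvPolynomial.map (σ := Fin n) α)).mapIso
    (restrictDInDIso β (ModuleCat.of Γ(X, U) Γ(X, U)))) _).mpr key

end Composite

section Main

variable {X Y S : Scheme.{u}} (f : X ⟶ Y) (g : Y ⟶ S)

theorem main6209 [LocallyOfFiniteType f] [LocallyOfFiniteType g] (r s : ℤ)
    (hf : DerSch.IsNPseudoCoherent f r) (hg : DerSch.IsNPseudoCoherent g s) :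
    DerSch.IsNPseudoCoherent (f ≫ g) (max r s) := by
  haveI : LocallyOfFiniteType (f ≫ g) := inferInstance
  have Hf := (relPC_iff_forall_gpc f r _).mp hf
  have Hg := (relPC_iff_forall_gpc g s _).mp hg
  refine ⟨inferInstance, Set.univ, ?_, fun W _ =>
    ⟨{U | ∃ V : Y.affineOpens, (U : X.Opens) ≤ f ⁻¹ᵁ (V : Y.Opens) ∧
      (V : Y.Opens) ≤ g ⁻¹ᵁ (W : S.Opens)}, ?_, ?_⟩⟩
  · rw [eq_top_iff]
    intro y _
    obtain ⟨V, hV, hyV, -⟩ := Opens.isBasis_iff_nbhd.mp S.isBasis_affineOpens
      (show y ∈ (⊤ : S.Opens) from trivial)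
    exact Opens.mem_iSup.mpr ⟨⟨V, hV⟩, Opens.mem_iSup.mpr ⟨Set.mem_univ _, hyV⟩⟩
  · apply le_antisymm
    · refine iSup₂_le (fun U hU => ?_)
      obtain ⟨V, h', h⟩ := hU
      exact h'.trans (fun x hx => h hx)
    · intro x hx
      obtain ⟨V, hV, hxV, hVW⟩ := Opens.isBasis_iff_nbhd.mp Y.isBasis_affineOpens
        (show f x ∈ g ⁻¹ᵁ (W : S.Opens) from hx)
      obtain ⟨U, hU, hxU, hUV⟩ := Opens.isBasis_iff_nbhd.mp X.isBasis_affineOpens
        (show x ∈ f ⁻¹ᵁ V from hxV)
      exact Opens.mem_iSup.mpr ⟨⟨U, hU⟩, Opens.mem_iSup.mpr ⟨⟨⟨V, hV⟩, hUV, hVW⟩, hxU⟩⟩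
  · rintro U ⟨V, h', h⟩ h''
    obtain ⟨k, α, hα⟩ := exists_isChart g V.1 W.1 h
      (LocallyOfFiniteType.finiteType_appLE g W.2 V.2 h)
    obtain ⟨n, β, hβ⟩ := exists_isChart f U.1 V.1 h'
      (LocallyOfFiniteType.finiteType_appLE f V.2 U.2 h')
    have hγ := isChart_compChart f g U.1 V.1 W.1 h' h h'' α hα β hβ
    refine ⟨n + k, compChart U.1 α β, hγ, (chartPC_iff_gpc _ _ U.1 U.2 W.1 _ hγ.1).mpr ?_⟩
    have hαs := (gpc_unit_iff_ring V.1 V.2 α s).mp (Hg V W h α hα)
    exact gpc_unit_compChart_max U.1 α β U.2 r s hαs (Hf U V h' β hβ)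

end Main

end

end Groth.Agent.Lib.RelPCbH3
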