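import Mathlib
import Groth.Prelude
import Groth.Agent.Lib.RelPCn_helper3
import Groth.Agent.Lib.PerfFlat3_lead
import Groth.Agent.Lib.TildeAmp_lead
import Groth.Agent.Lib.DMod62_helper6
import Groth.Agent.Lib.TorAmpPush_lead

/-!
# Relative pseudo-coherence, part t: the structure sheaf of a closed subscheme cut out by a
Koszul-regular sequence, on an affine open (helper3)

* `hasFlatAmp_DD`, `hasFlatAmp_RP_of_isIso_iff`: transfer of flat amplitude.
* `nonempty_core_rep`: `(Ri_* O_Z)|_V`, pushed to `Spec Γ(X, V)`, is the tilde of `Γ(Z, i⁻¹V)`.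
* `hasFlatAmp_core`: if `Γ(X, V) → Γ(Z, i⁻¹V)` is surjective with kernel generated by a
  Koszul-regular sequence of length `d`, then `(Ri_* O_Z)|_V` has flat amplitude `[-d, 0]`.
-/

set_option autoImplicit false
set_option linter.all false
set_option maxHeartbeats 1600000
set_option backward.isDefEq.respectTransparency false
set_option backward.isDefEq.respectTransparency.types false
set_option backward.defeqAttrib.useBackward true

universe u
open CategoryTheory CategoryTheory.Limits AlgebraicGeometry Opposite TopologicalSpace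
open CategoryTheory.Pretriangulated ZeroObject

attribute [local instance] HasDerivedCategory.standard

namespace Groth.Agent.Lib.RelPCbH3

open Groth.Agent.Lib.DCohLocLead DerivedCategory Groth.Agent.Lib.FpqcPCH3
  Groth.Agent.Lib.FinPushPCH3 Groth.Agent.Lib.BCOpenL Groth.Agent.Lib.RelPCaH3
  Groth.Agent.Lib.DMod_helper6 Groth.Agent.Lib.TildePCH3 Groth.Agent.Lib.TildeAmpL DRing

noncomputable section

local instance hasRpushInst19 {X Y : Scheme.{u}} (f : X ⟶ Y) : DCoh.HasRpush f := hasRpush f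

section Transfer

/-- restriction along an open immersion preserves flat amplitude -/
theorem hasFlatAmp_DD {Y X : Scheme.{u}} (j : Y ⟶ X) [IsOpenImmersion j] {a b : ℤ}
    {K : DCoh.D X} (h : DCoh.HasFlatAmplitudeIn a b K) :
    DCoh.HasFlatAmplitudeIn a b ((DD j).obj K) := by
  obtain ⟨E₀, hv, hfl, ⟨e⟩⟩ := h
  exact ⟨(RC j).obj E₀, fun i hi => (Scheme.Modules.restrictFunctor j).map_isZero (hv i hi),
    fun i => isFlat_restrictFunctor j (hfl i), ⟨(facIso j E₀).symm ≪≫ (DD j).mapIso e⟩⟩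

variable {Y Z : Scheme.{u}} (θ : Y ⟶ Z) [IsIso θ]

theorem hasFlatAmp_RP_of_isIso_iff (L : DCoh.D Y) (a b : ℤ) :
    DCoh.HasFlatAmplitudeIn a b ((RP θ).obj L) ↔ DCoh.HasFlatAmplitudeIn a b L := by
  obtain ⟨b'⟩ := Groth.Agent.Lib.RpushQCL.nonempty_Rpush_iso_restrictD θ
  obtain ⟨c⟩ := nonempty_DD_hom_inv (asIso θ) L
  constructor
  · intro h
    have h1 : DCoh.HasFlatAmplitudeIn a b ((DD (inv θ)).obj L) := hasFlatAmp_of_iso (b'.app L) h
    exact hasFlatAmp_of_iso c (hasFlatAmp_DD θ h1)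
  · intro h
    exact hasFlatAmp_of_iso (b'.app L).symm (hasFlatAmp_DD (inv θ) h)

/-- a zero object has every flat amplitude -/
theorem hasFlatAmp_of_isZero {X : Scheme.{u}} (K : DCoh.D X) (hK : IsZero K) (a b : ℤ) :
    DCoh.HasFlatAmplitudeIn a b K := by
  have hz : IsZero (0 : CochainComplex X.Modules ℤ) := isZero_zero _
  refine ⟨0, fun i _ => ?_, fun i => ?_, ⟨(Q.map_isZero hz).iso hK⟩⟩
  · exact (HomologicalComplex.eval _ _ i).map_isZero hz
  · exact isFlat_of_isFinLocFree (isFinLocFree_of_isZero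
      ((HomologicalComplex.eval _ _ i).map_isZero hz))

end Transfer

section Dict

variable {X : Scheme.{u}} (U : X.Opens) (hU : IsAffineOpen U) {B : Type u} [CommRing B]
  (β : B →+* Γ(X, U))

/-- the dictionary, as an isomorphism -/
theorem nonempty_RP_cImm_iso_tilde [PreservesFiniteLimits (tilde.functor Γ(X, U))]
    [PreservesFiniteLimits (tilde.functor (CommRingCat.of B))] (E : DCoh.D X)
    (M : Dual.D Γ(X, U))
    (e : (DCoh.tildeD Γ(X, U)).obj M ≅ (RP hU.isoSpec.hom).obj ((DD U.ι).obj E)) :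
    Nonempty ((RP (cImm U β)).obj ((DD U.ι).obj E) ≅
      (DCoh.tildeD (CommRingCat.of B)).obj ((DRing.restrictD β).obj M)) := by
  obtain ⟨c⟩ := Groth.Agent.Lib.DSectX.nonempty_iso_7268 (R := CommRingCat.of B)
    (S := Γ(X, U)) (CommRingCat.ofHom β)
  have hfac : cImm U β = hU.isoSpec.hom ≫ Spec.map (CommRingCat.ofHom β) := rfl
  obtain ⟨b1⟩ := nonempty_Rpush_congr hfac
  obtain ⟨b2⟩ := Groth.Agent.Lib.LpullAdjH3.nonempty_Rpush_comp_iso hU.isoSpec.hom
    (Spec.map (CommRingCat.ofHom β))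
  exact ⟨b1.app _ ≪≫ (b2.app _).symm ≪≫
      (RP (Spec.map (CommRingCat.ofHom β))).mapIso e.symm ≪≫ c.app M⟩

end Dict

section Core

variable {Z X : Scheme.{u}} (i : Z ⟶ X)

theorem cImm_appLE_eq' (V : X.Opens) :
    cImm (i ⁻¹ᵁ V) (i.appLE V (i ⁻¹ᵁ V) le_rfl).hom = (i ∣_ V) ≫ V.toSpecΓ := by
  unfold cImm
  rw [← Scheme.Hom.resLE_eq_morphismRestrict, ← Scheme.Opens.toSpecΓ_SpecMap_appLE]
  rfl

/-- `(Ri_* O_Z)|_V`, pushed to `Spec Γ(X, V)`, is the tilde of `Γ(Z, i⁻¹V)` -/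
theorem nonempty_core_rep (V : X.Opens) (hV : IsAffineOpen V) (hV' : IsAffineOpen (i ⁻¹ᵁ V))
    [PreservesFiniteLimits (tilde.functor Γ(Z, i ⁻¹ᵁ V))]
    [PreservesFiniteLimits (tilde.functor (CommRingCat.of Γ(X, V)))] :
    Nonempty ((RP V.toSpecΓ).obj ((DD V.ι).obj ((RP i).obj (DCoh.toD Z (DerSch.unitCx Z)))) ≅
      (DCoh.tildeD (CommRingCat.of Γ(X, V))).obj
        ((DRing.restrictD (i.appLE V (i ⁻¹ᵁ V) le_rfl).hom).obj
          (Dual.inD Γ(Z, i ⁻¹ᵁ V) Γ(Z, i ⁻¹ᵁ V)))) := by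
  obtain ⟨b1⟩ := nonempty_Rpush_congr (cImm_appLE_eq' i V)
  obtain ⟨b2⟩ := Groth.Agent.Lib.LpullAdjH3.nonempty_Rpush_comp_iso (i ∣_ V) V.toSpecΓ
  obtain ⟨b3⟩ := main6508 i V
  obtain ⟨e⟩ := nonempty_unit_ring_rep (i ⁻¹ᵁ V) hV'
  obtain ⟨i1⟩ := nonempty_RP_cImm_iso_tilde (i ⁻¹ᵁ V) hV' (i.appLE V (i ⁻¹ᵁ V) le_rfl).hom
    (DCoh.toD Z (DerSch.unitCx Z)) _ e
  exact ⟨(RP V.toSpecΓ).mapIso (b3.app _) ≪≫ b2.app _ ≪≫ (b1.app _).symm ≪≫ i1⟩

end Core

section RingKoszul

variable {A B : Type u} [CommRing A] [CommRing B] (β : A →+* B)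

/-- `B`, as an `A`-module through a surjection `β`, is `A / ker β` -/
def restrictQuotEquiv (hβ : Function.Surjective β) :
    ((ModuleCat.restrictScalars β).obj (ModuleCat.of B B)) ≃ₗ[A] (A ⧸ RingHom.ker β) where
  toFun := fun x => (RingHom.quotientKerEquivOfSurjective hβ).symm (show B from x)
  invFun := fun y => (RingHom.quotientKerEquivOfSurjective hβ) y
  map_add' := fun x y => map_add (RingHom.quotientKerEquivOfSurjective hβ).symm
    (show B from x) (show B from y)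
  map_smul' := fun r x => by
    change (RingHom.quotientKerEquivOfSurjective hβ).symm (β r * (show B from x)) =
      r • (RingHom.quotientKerEquivOfSurjective hβ).symm (show B from x)
    rw [map_mul, RingHom.quotientKerEquivOfSurjective_symm_apply, Algebra.smul_def]
    rfl
  left_inv := fun x => (RingHom.quotientKerEquivOfSurjective hβ).apply_symm_apply _
  right_inv := fun y => (RingHom.quotientKerEquivOfSurjective hβ).symm_apply_apply _

def restrictQuotIso (hβ : Function.Surjective β) :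
    (restrictD β).obj (Dual.inD B B) ≅ Dual.inD A (A ⧸ RingHom.ker β) :=
  restrictDInDIso β (ModuleCat.of B B) ≪≫
    (DerivedCategory.singleFunctor _ 0).mapIso (restrictQuotEquiv β hβ).toModuleIso

theorem nonempty_koszul_iso (hβ : Function.Surjective β) (rs : List A)
    (hrs : LCI.IsKoszulRegularSeq A rs) (hker : RingHom.ker β = Ideal.ofList rs) :
    Nonempty (toD (Koszul.koszul A rs) ≅ (restrictD β).obj (Dual.inD B B)) := by
  obtain ⟨e⟩ := toD_koszul_iso A rs hrs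
  exact ⟨e ≪≫ (DerivedCategory.singleFunctor _ 0).mapIso
    (Submodule.quotEquivOfEq _ _ hker.symm).toModuleIso ≪≫ (restrictQuotIso β hβ).symm⟩

theorem hasTorAmp_restrict_koszul (hβ : Function.Surjective β) (rs : List A)
    (hrs : LCI.IsKoszulRegularSeq A rs) (hker : RingHom.ker β = Ideal.ofList rs) :
    HasTorAmplitudeIn A (-(rs.length : ℤ)) 0 ((restrictD β).obj (Dual.inD B B)) := by
  obtain ⟨e⟩ := nonempty_koszul_iso β hβ rs hrs hker
  obtain ⟨h1, h2⟩ := koszul_props A rs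
  exact ⟨Koszul.koszul A rs, h1, fun i => by
    haveI := (h2 i).2
    infer_instance, ⟨e⟩⟩

end RingKoszul

section Core2

variable {Z X : Scheme.{u}} (i : Z ⟶ X)

/-- flat amplitude of `(Ri_* O_Z)|_V` for a Koszul-regular kernel -/
theorem hasFlatAmp_core (V : X.Opens) (hV : IsAffineOpen V) (hV' : IsAffineOpen (i ⁻¹ᵁ V))
    (hβ : Function.Surjective (i.appLE V (i ⁻¹ᵁ V) le_rfl).hom) (rs : List Γ(X, V))
    (hrs : LCI.IsKoszulRegularSeq Γ(X, V) rs)
    (hker : RingHom.ker (i.appLE V (i ⁻¹ᵁ V) le_rfl).hom = Ideal.ofList rs) :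
    DCoh.HasFlatAmplitudeIn (-(rs.length : ℤ)) 0
      ((DD V.ι).obj ((RP i).obj (DCoh.toD Z (DerSch.unitCx Z)))) := by
  haveI : PreservesFiniteLimits (tilde.functor Γ(Z, i ⁻¹ᵁ V)) :=
    Groth.Agent.Lib.LpullQCL.preservesFiniteLimits_tilde Γ(Z, i ⁻¹ᵁ V)
  haveI : PreservesFiniteLimits (tilde.functor (CommRingCat.of Γ(X, V))) :=
    Groth.Agent.Lib.LpullQCL.preservesFiniteLimits_tilde Γ(X, V)
  haveI : IsIso V.toSpecΓ := by
    rw [← IsAffineOpen.isoSpec_hom hV]
    infer_instance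
  obtain ⟨rep⟩ := nonempty_core_rep i V hV hV'
  rw [← hasFlatAmp_RP_of_isIso_iff V.toSpecΓ]
  refine hasFlatAmp_of_iso rep.symm ?_
  rw [main7243]
  exact hasTorAmp_restrict_koszul _ hβ rs hrs hker

end Core2

end

end Groth.Agent.Lib.RelPCbH3
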