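import Mathlib
import Groth.Prelude
import Groth.Agent.Lib.RelPCt_helper3
import Groth.Agent.Lib.KoszulAtLCI_helper2
import Groth.Agent.Lib.TorAmpRel3_helper3
import Groth.Agent.Lib.TorDimFactor_lead
import Groth.Agent.Lib.ProjFormula3_helper3

/-!
# Relative pseudo-coherence, part u: Koszul-regular immersions are perfect (helper3)

* `koszulAt_of_regImm`: a Koszul-regular immersion (`RegImm`, kind koszul) is Koszul at every point
  (`Synt.IsKoszulAt`), hence lci on all affine pairs, hence a pseudo-coherent morphism.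
* `main6237`: `i_* O_Z` is perfect for a Koszul-regular closed immersion.
* `main6238`: a Koszul-regular immersion of codimension `d` has perfect dimension `≤ d`.
-/

set_option autoImplicit false
set_option linter.all false
set_option maxHeartbeats 1600000
set_option backward.isDefEq.respectTransparency false
set_option backward.isDefEq.respectTransparency.types false
set_option backward.defeqAttrib.useBackward true

universe u
open CategoryTheory CategoryTheory.Limits AlgebraicGeometry Opposite TopologicalSpace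
open CategoryTheory.Pretriangulated ZeroObject

attribute [local instance] HasDerivedCategory.standard

namespace Groth.Agent.Lib.RelPCbH3

open Groth.Agent.Lib.DCohLocLead DerivedCategory Groth.Agent.Lib.FpqcPCH3
  Groth.Agent.Lib.FinPushPCH3 Groth.Agent.Lib.BCOpenL Groth.Agent.Lib.RelPCaH3
  Groth.Agent.Lib.DMod_helper6 Groth.Agent.Lib.TildePCH3 Groth.Agent.Lib.TildeAmpL DRing

noncomputable section

local instance hasRpushInst20 {X Y : Scheme.{u}} (f : X ⟶ Y) : DCoh.HasRpush f := hasRpush f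

section Data

variable {Z X : Scheme.{u}} (i : Z ⟶ X)

theorem surjective_appLE_congr {V V' : X.Opens} {W W' : Z.Opens} (hV : V = V') (hW : W = W')
    (e : W ≤ i ⁻¹ᵁ V) (e' : W' ≤ i ⁻¹ᵁ V') (h : Function.Surjective (i.appLE V W e).hom) :
    Function.Surjective (i.appLE V' W' e').hom := by
  subst hV
  subst hW
  exact h

theorem isAffineOpen_preimage_of_ci (U : X.Opens) (hU : IsAffineOpen U)
    [IsClosedImmersion (i ∣_ U)] : IsAffineOpen (i ⁻¹ᵁ U) := by
  haveI : IsAffine U.toScheme := hU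
  exact isAffine_of_isAffineHom (i ∣_ U)

theorem surjective_appLE_of_ci (U : X.Opens) (hU : IsAffineOpen U)
    [IsClosedImmersion (i ∣_ U)] :
    Function.Surjective (i.appLE U (i ⁻¹ᵁ U) le_rfl).hom := by
  haveI : IsAffine U.toScheme := hU
  have h := (IsClosedImmersion.isAffine_surjective_of_isAffine (i ∣_ U)).2
  rw [Scheme.Hom.appTop, morphismRestrict_app'] at h
  exact surjective_appLE_congr i (by simp) (by simp) _ _ h

/-- the ideal generated by a Koszul-regular sequence is a Koszul-regular ideal -/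
theorem kr_of_ofList' {P : Type u} [CommRing P] (l : List P)
    (hl : LCI.IsKoszulRegularSeq P l) : Groth.Agent.Lib.KRegIdeal.KR (Ideal.ofList l) := by
  intro 𝔭 h𝔭 _
  refine ⟨1, fun h => h𝔭.ne_top ((Ideal.eq_top_iff_one _).mpr h), P, inferInstance, inferInstance,
    IsLocalization.away_of_isUnit_of_bijective P isUnit_one Function.bijective_id, l, hl, ?_⟩
  exact Ideal.map_id _

theorem isKoszulAt_of_data (z : Z) (U : X.Opens) (hU : IsAffineOpen U) (hz : i z ∈ U)
    [IsClosedImmersion (i ∣_ U)] (rs : List Γ(X, U))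
    (hrs : LCI.IsKoszulRegularSeq Γ(X, U) rs)
    (hker : RingHom.ker (i.appLE U (i ⁻¹ᵁ U) le_rfl).hom = Ideal.ofList rs) :
    Synt.IsKoszulAt i z := by
  have hU' := isAffineOpen_preimage_of_ci i U hU
  have hβ := surjective_appLE_of_ci i U hU
  refine Groth.Agent.Lib.KoszulAtLCI.koszulAt_of_isLCIHom i z (i ⁻¹ᵁ U) U hU' hU le_rfl hz ?_
  refine Groth.Agent.Lib.SmoothLCI.isLCIHom_of_surjective _ hβ ?_
  rw [hker]
  exact kr_of_ofList' rs hrs

theorem koszulAt_of_regImm
    (hi : ∀ z : Z, RegImm.IsRegularImmersionAt RegImm.Kind.koszul i z) (z : Z) :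
    Synt.IsKoszulAt i z := by
  obtain ⟨U, hz, hci, rs, hrs, hker⟩ := hi z
  haveI := hci
  rw [Scheme.Hom.app_eq_appLE] at hker
  exact isKoszulAt_of_data i z U.1 U.2 hz rs hrs hker

theorem isNPC_of_regImm [IsImmersion i]
    (hi : ∀ z : Z, RegImm.IsRegularImmersionAt RegImm.Kind.koszul i z) (n : ℤ) :
    DerSch.IsNPseudoCoherent i n :=
  (isNPseudoCoherent_iff_pcMor i).2
    (Groth.Agent.Lib.LCIPerf.main1514 i
      (Groth.Agent.Lib.KoszulAtLCI.lci_of_koszulAt i (koszulAt_of_regImm i hi))).2.1 n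

end Data

section Closed

variable {Z X : Scheme.{u}} (i : Z ⟶ X)

/-- `Ri_* O_Z ≅ (i_* O_Z)[0]` for a closed immersion -/
def coreIso [IsClosedImmersion i] : (RP i).obj (DCoh.toD Z (DerSch.unitCx Z)) ≅
    DCoh.inD X ((Scheme.Modules.pushforward i).obj (Coh.structureModule Z)) :=
  Groth.Agent.Lib.ProjFormulaH3.RpushQIso i _ ≪≫
    Q.mapIso ((HomologicalComplex.singleMapHomologicalComplex (Scheme.Modules.pushforward i)
      (ComplexShape.up ℤ) 0).app _) ≪≫
    ((DerivedCategory.singleFunctorIsoCompQ X.Modules 0).app _).symm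

theorem main6237 [IsClosedImmersion i]
    (hi : RegImm.IsRegularImmersion RegImm.Kind.koszul i) :
    DCoh.IsPerfect (DCoh.inD X ((Scheme.Modules.pushforward i).obj (Coh.structureModule Z))) := by
  have hpc : ∀ m : ℤ, DCoh.IsPseudoCoherentD m ((RP i).obj (DCoh.toD Z (DerSch.unitCx Z))) :=
    fun m => (relPC_closedImmersion_iff i m _).mp (isNPC_of_regImm i hi.2 m)
  have htd : DCoh.LocHasFiniteTorDim ((RP i).obj (DCoh.toD Z (DerSch.unitCx Z))) := by
    intro x
    by_cases hx : x ∈ Set.range i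
    · obtain ⟨z, rfl⟩ := hx
      obtain ⟨U, hz, hci, rs, hrs, hker⟩ := hi.2 z
      haveI := hci
      rw [Scheme.Hom.app_eq_appLE] at hker
      refine ⟨U.1, -(rs.length : ℤ), 0, hz, fun F' ⟨e⟩ => ?_⟩
      exact hasFlatAmp_of_iso ((DD U.1.ι).mapIso e.symm ≪≫ facIso U.1.ι F')
        (hasFlatAmp_core i U.1 U.2 (isAffineOpen_preimage_of_ci i U.1 U.2)
          (surjective_appLE_of_ci i U.1 U.2) rs hrs hker)
    · let W₀ : X.Opens := ⟨(Set.range i)ᶜ, i.isClosedEmbedding.isClosed_range.isOpen_compl⟩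
      refine ⟨W₀, 0, 0, hx, fun F' ⟨e⟩ => ?_⟩
      exact hasFlatAmp_of_iso ((DD W₀.ι).mapIso e.symm ≪≫ facIso W₀.ι F')
        (hasFlatAmp_of_isZero _
          (isZero_restrict_Rpush_of_disjoint i W₀ (fun z hz => hz ⟨z, rfl⟩) _) 0 0)
  exact isPerfect_of_iso (coreIso i) ((main914 _).2 ⟨hpc, htd⟩)

end Closed

section Codim

variable {Z X : Scheme.{u}} (i : Z ⟶ X)

open Groth.Agent.Lib.TorAmpRelH3 Groth.Agent.Lib.TorDimFactorL Groth.Agent.Lib.TorAmpCompL in
theorem hasTorAmplitudeAt_core (z : Z) (U : X.Opens) (hU : IsAffineOpen U) (hz : i z ∈ U)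
    [IsClosedImmersion (i ∣_ U)] (rs : List Γ(X, U))
    (hrs : LCI.IsKoszulRegularSeq Γ(X, U) rs)
    (hker : RingHom.ker (i.appLE U (i ⁻¹ᵁ U) le_rfl).hom = Ideal.ofList rs) :
    DerSch.HasTorAmplitudeAt i (-(rs.length : ℤ)) 0 (DerSch.unitCx Z) z := by
  have hU' := isAffineOpen_preimage_of_ci i U hU
  have hβ := surjective_appLE_of_ci i U hU
  obtain ⟨b3⟩ := main6508 i U
  have hflat : DCoh.HasFlatAmplitudeIn (-(rs.length : ℤ)) 0 (DCoh.toD U.toScheme
      (((Scheme.Modules.pushforward (i ∣_ U)).mapHomologicalComplex (ComplexShape.up ℤ)).obj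
        ((RC (i ⁻¹ᵁ U).ι).obj (DerSch.unitCx Z)))) :=
    hasFlatAmp_of_iso ((b3.app _) ≪≫ (RP (i ∣_ U)).mapIso (facIso (i ⁻¹ᵁ U).ι _) ≪≫
        Groth.Agent.Lib.ProjFormulaH3.RpushQIso (i ∣_ U) _)
      (hasFlatAmp_core i U hU hU' hβ rs hrs hker)
  have h1 : DerSch.HasTorAmplitude ((i ∣_ U) ≫ 𝟙 _) (-(rs.length : ℤ)) 0
      ((RC (i ⁻¹ᵁ U).ι).obj (DerSch.unitCx Z)) :=
    Groth.Agent.Lib.TorAmpPushL.hasTorAmplitude_of_push (i ∣_ U) (𝟙 _) _ _ _ hflat
  rw [Category.comp_id] at h1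
  have h2 := hasTorAmplitudeAt_comp (i ∣_ U) U.ι 0 ⟨z, hz⟩
    (by simpa using unit_flat_of_flat U.ι ((i ∣_ U) ⟨z, hz⟩))
    ((RC (i ⁻¹ᵁ U).ι).obj (DerSch.unitCx Z)) _ _ (h1 ⟨z, hz⟩)
  rw [morphismRestrict_ι] at h2
  have h3 : DerSch.HasTorAmplitudeAt ((i ⁻¹ᵁ U).ι ≫ i) (-(rs.length : ℤ)) 0
      ((RC (i ⁻¹ᵁ U).ι).obj (DerSch.unitCx Z)) ⟨z, hz⟩ := by
    simpa using h2
  exact hasTorAmplitudeIn_of_iso
    (Q.mapIso (restrStalkCxOverIso (i ⁻¹ᵁ U).ι i ⟨z, hz⟩ (DerSch.unitCx Z))) _ _ h3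

theorem main6238 (d : ℕ)
    (hi : RegImm.IsRegularImmersionOfCodim RegImm.Kind.koszul d i) :
    DerSch.HasPerfDimLE i d := by
  haveI := hi.1
  have hAt : ∀ z : Z, RegImm.IsRegularImmersionAt RegImm.Kind.koszul i z := by
    intro z
    obtain ⟨U, hz, hci, rs, -, hrs, hker⟩ := hi.2 z
    exact ⟨U, hz, hci, rs, hrs, hker⟩
  refine ⟨fun m => isNPC_of_regImm i hAt m, fun z => ?_⟩
  obtain ⟨U, hz, hci, rs, hlen, hrs, hker⟩ := hi.2 z
  haveI := hci
  rw [Scheme.Hom.app_eq_appLE] at hker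
  have h := hasTorAmplitudeAt_core i z U.1 U.2 hz rs hrs hker
  rw [hlen] at h
  exact h

end Codim

end

end Groth.Agent.Lib.RelPCbH3
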