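import Mathlib
import Groth.Prelude
import Groth.Agent.Lib.RelPCu_helper3

/-!
# Relative pseudo-coherence, part v: perfect closed immersions (helper3)

* `hasFlatAmp_core_of_amp`: flat amplitude of `(Ri_* O_Z)|_V` from the tor amplitude of
  `Γ(Z, i⁻¹V)` over `Γ(X, V)`.
* `main7175`: `i_* O_Z` is perfect for a perfect closed immersion.
-/

set_option autoImplicit false
set_option linter.all false
set_option maxHeartbeats 1600000
set_option backward.isDefEq.respectTransparency false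
set_option backward.isDefEq.respectTransparency.types false
set_option backward.defeqAttrib.useBackward true

universe u
open CategoryTheory CategoryTheory.Limits AlgebraicGeometry Opposite TopologicalSpace
open CategoryTheory.Pretriangulated ZeroObject

attribute [local instance] HasDerivedCategory.standard

namespace Groth.Agent.Lib.RelPCbH3

open Groth.Agent.Lib.DCohLocLead DerivedCategory Groth.Agent.Lib.FpqcPCH3
  Groth.Agent.Lib.FinPushPCH3 Groth.Agent.Lib.BCOpenL Groth.Agent.Lib.RelPCaH3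
  Groth.Agent.Lib.DMod_helper6 Groth.Agent.Lib.TildePCH3 Groth.Agent.Lib.TildeAmpL DRing

noncomputable section

local instance hasRpushInst21 {X Y : Scheme.{u}} (f : X ⟶ Y) : DCoh.HasRpush f := hasRpush f

section Core3

variable {Z X : Scheme.{u}} (i : Z ⟶ X)

/-- flat amplitude of `(Ri_* O_Z)|_V` from the tor amplitude of the ring of `i⁻¹V` -/
theorem hasFlatAmp_core_of_amp (V : X.Opens) (hV : IsAffineOpen V)
    (hV' : IsAffineOpen (i ⁻¹ᵁ V)) (a b : ℤ)
    (h : HasTorAmplitudeIn Γ(X, V) a b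
      ((DRing.restrictD (i.appLE V (i ⁻¹ᵁ V) le_rfl).hom).obj
        (Dual.inD Γ(Z, i ⁻¹ᵁ V) Γ(Z, i ⁻¹ᵁ V)))) :
    DCoh.HasFlatAmplitudeIn a b
      ((DD V.ι).obj ((RP i).obj (DCoh.toD Z (DerSch.unitCx Z)))) := by
  haveI : PreservesFiniteLimits (tilde.functor Γ(Z, i ⁻¹ᵁ V)) :=
    Groth.Agent.Lib.LpullQCL.preservesFiniteLimits_tilde Γ(Z, i ⁻¹ᵁ V)
  haveI : PreservesFiniteLimits (tilde.functor (CommRingCat.of Γ(X, V))) :=
    Groth.Agent.Lib.LpullQCL.preservesFiniteLimits_tilde Γ(X, V)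
  haveI : IsIso V.toSpecΓ := by
    rw [← IsAffineOpen.isoSpec_hom hV]
    infer_instance
  obtain ⟨rep⟩ := nonempty_core_rep i V hV hV'
  rw [← hasFlatAmp_RP_of_isIso_iff V.toSpecΓ]
  refine hasFlatAmp_of_iso rep.symm ?_
  rw [main7243]
  exact h

theorem hasFlatAmp_core_of_torDim (V : X.Opens) (hV : IsAffineOpen V)
    (hV' : IsAffineOpen (i ⁻¹ᵁ V)) (d : ℕ)
    (h : letI := (i.appLE V (i ⁻¹ᵁ V) le_rfl).hom.toAlgebra
      DRing.HasTorDimLE Γ(X, V) d Γ(Z, i ⁻¹ᵁ V)) :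
    DCoh.HasFlatAmplitudeIn (-(d : ℤ)) 0
      ((DD V.ι).obj ((RP i).obj (DCoh.toD Z (DerSch.unitCx Z)))) := by
  letI := (i.appLE V (i ⁻¹ᵁ V) le_rfl).hom.toAlgebra
  refine hasFlatAmp_core_of_amp i V hV hV' _ _ ?_
  exact hasTorAmplitudeIn_of_iso
    (restrictDInDSelfIso (A := Γ(X, V)) (B := Γ(Z, i ⁻¹ᵁ V))).symm _ _
    ((hasTorDimLE_iff _ d).1 h)

theorem main7175 [IsClosedImmersion i] (hi : MoreMor.IsPerfectMor i) :
    DCoh.IsPerfect (DCoh.inD X ((Coh.push i).obj (Coh.structureModule Z))) := by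
  have hpcm : MoreMor.IsPseudoCoherentMor i := fun U V hU hV hUV => (hi U V hU hV hUV).1
  have hpc : ∀ m : ℤ, DCoh.IsPseudoCoherentD m ((RP i).obj (DCoh.toD Z (DerSch.unitCx Z))) :=
    fun m => (relPC_closedImmersion_iff i m _).mp ((isNPseudoCoherent_iff_pcMor i).2 hpcm m)
  have htd : DCoh.LocHasFiniteTorDim ((RP i).obj (DCoh.toD Z (DerSch.unitCx Z))) := by
    intro x
    obtain ⟨V₀, hV, hxV, -⟩ := Opens.isBasis_iff_nbhd.mp X.isBasis_affineOpens
      (show x ∈ (⊤ : X.Opens) from trivial)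
    let V : X.Opens := V₀
    have hV0 : IsAffineOpen V := hV
    have hV' : IsAffineOpen (i ⁻¹ᵁ V) := hV0.preimage i
    obtain ⟨d, hd⟩ := (hi (i ⁻¹ᵁ V) V hV' hV0 le_rfl).2
    refine ⟨V, -(d : ℤ), 0, hxV, fun F' ⟨e⟩ => ?_⟩
    exact hasFlatAmp_of_iso ((DD V.ι).mapIso e.symm ≪≫ facIso V.ι F')
      (hasFlatAmp_core_of_torDim i V hV0 hV' d hd)
  exact isPerfect_of_iso (coreIso i) ((main914 _).2 ⟨hpc, htd⟩)

end Core3

end

end Groth.Agent.Lib.RelPCbH3
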