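import Mathlib
import Groth.Prelude
import Groth.Agent.Lib.RelPCComp4_helper3
import Groth.Agent.Lib.RelPCq_helper3
import Groth.Agent.Lib.RelPCh_helper3
import Groth.Agent.Lib.RelPCi2_helper3
import Groth.Agent.Lib.RelFPAff_helper9
import Groth.Agent.Lib.PCohFT2_lead

/-!
# S7212: relative pseudo-coherence of a module placed in degree zero (helper3)

* `gpc_inD_pos`: every module is `m`-pseudo-coherent on charts for `m > 0`;
* `gpc_zero_iff`: on a chart, `0`-pseudo-coherence of the pushforward is `0`-pseudo-coherence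
  (no quasi-coherence assumption; graded reflection along the closed immersion);
* `gpc_negOne_iff`: for a quasi-coherent module, `(-1)`-pseudo-coherence on a chart is finite
  presentation of the sections over the chart ring;
* `main7212`.
-/

set_option autoImplicit false
set_option linter.all false
set_option maxHeartbeats 1600000
set_option backward.isDefEq.respectTransparency false
set_option backward.isDefEq.respectTransparency.types false
set_option backward.defeqAttrib.useBackward true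

universe u
open CategoryTheory CategoryTheory.Limits AlgebraicGeometry Opposite TopologicalSpace
open CategoryTheory.Pretriangulated

attribute [local instance] HasDerivedCategory.standard

namespace Groth.Agent.Lib.RelPCCompH3

open Groth.Agent.Lib.DCohLocLead DerivedCategory Groth.Agent.Lib.FpqcPCH3
  Groth.Agent.Lib.FinPushPCH3 Groth.Agent.Lib.BCOpenL Groth.Agent.Lib.RelPCaH3
  Groth.Agent.Lib.DMod_helper6 Groth.Agent.Lib.TildePCH3 Groth.Agent.Lib.TildeAmpL DRing
  Groth.Agent.Lib.RelPCbH3 Groth.Agent.Lib.RelPCBCH3 DerSch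

noncomputable section

local instance hasRpushInstW {X Y : Scheme.{u}} (f : X ⟶ Y) : DCoh.HasRpush f := hasRpush f

local instance hasLBCInstW {A B : Type u} [CommRing A] [CommRing B] (φ : A →+* B) :
    HasLBaseChange φ := Groth.Agent.Lib.LpullQCL.hasLBaseChange φ

local instance pflInstW (R : CommRingCat.{u}) : PreservesFiniteLimits (tilde.functor R) :=
  Groth.Agent.Lib.LpullQCL.preservesFiniteLimits_tilde R

section Chart

variable {X : Scheme.{u}} (U : X.Opens) {B : Type u} [CommRing B]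
  (β : B →+* Γ(X, U))

/-- for a chart, `cImm_* O_U` is `0`-pseudo-coherent -/
theorem pushOn_cImm_zero (hU : IsAffineOpen U) (hβ : Function.Surjective β) [IsClosedImmersion (cImm U β)] :
    PushOn (cImm U β) 0 := by
  obtain ⟨e⟩ := nonempty_RP_unit_iso U β
  have h : GPC 0 (DCoh.toD X (DerSch.unitCx X)) U β := by
    obtain ⟨eu⟩ := nonempty_unit_ring_rep' U hU
    rw [gpc_iff_ring' U hU β 0 _ _ eu]
    letI algP : Algebra B Γ(X, U) := β.toAlgebra
    have e2 : (DRing.restrictD β).obj (Dual.inD Γ(X, U) Γ(X, U)) ≅ Dual.inD B Γ(X, U) :=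
      restrictDInDSelfIso (A := B) (B := Γ(X, U))
    rw [isPseudoCoherent_iff_of_iso e2 0]
    haveI : Module.Finite B Γ(X, U) :=
      Module.Finite.of_surjective (Algebra.linearMap B Γ(X, U)) hβ
    exact (isPseudoCoherentModule_zero_iff _ _).mpr inferInstance
  exact isPC_of_iso e h

/-- every module in degree `0` is `m`-pseudo-coherent on charts for `m > 0` -/
theorem gpc_inD_pos [IsClosedImmersion (cImm U β)] (M : X.Modules) (m : ℤ) (hm : 0 < m) :
    GPC m (DCoh.inD X M) U β := by
  have hLt : Lt m (DCoh.inD X M) := Lt_inD M m hm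
  have h2 : Lt m ((RP (cImm U β)).obj ((DD U.ι).obj (DCoh.inD X M))) :=
    ((hLt.mapExact (Scheme.Modules.restrictFunctor U.ι)).mapExact
      (Scheme.Modules.pushforward (cImm U β))).of_iso
      ((Groth.Agent.Lib.ProjFormulaH3.RpushIsoMapD (cImm U β)).app _).symm
  exact isPC_of_Lt m _ h2

/-- on a chart, `0`-pseudo-coherence of the pushforward of a module in degree `0` is
`0`-pseudo-coherence on the chart domain -/
theorem gpc_zero_iff (hU : IsAffineOpen U) (hβ : Function.Surjective β) (M : X.Modules) :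
    GPC 0 (DCoh.inD X M) U β ↔ DCoh.IsPseudoCoherentD 0 ((DD U.ι).obj (DCoh.inD X M)) := by
  haveI := isClosedImmersion_cImm U hU β hβ
  have hO := pushOn_cImm_zero U β hU hβ
  have hLt : Lt 1 ((DD U.ι).obj (DCoh.inD X M)) :=
    (Lt_inD M 1 one_pos).mapExact (Scheme.Modules.restrictFunctor U.ι)
  constructor
  · intro h
    have h1 : DCoh.IsPseudoCoherentD 0
        ((pushD (cImm U β)).obj ((DD U.ι).obj (DCoh.inD X M))) :=
      (isPC_pushD_iff (cImm U β) _ 0).mpr h
    exact isPC_of_pushD_of_Lt_graded (cImm U β) 1 1 0 0 _ (by norm_num) (by norm_num) hO hLt h1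
  · intro h
    have hLt' : Lt (0 + 1) ((DD U.ι).obj (DCoh.inD X M)) := by
      rw [zero_add]
      exact hLt
    exact isPC_Rpush_graded' (cImm U β) 0 hO _ 0 0 0 le_rfl (by norm_num) le_rfl h hLt'

/-- for a quasi-coherent module, `(-1)`-pseudo-coherence on a chart is finite presentation of the
sections over the chart ring -/
theorem gpc_negOne_iff (hU : IsAffineOpen U) (M : X.Modules) [M.IsQuasicoherent] :
    GPC (-1) (DCoh.inD X M) U β ↔
      (letI : Module B Γ(M, U) := Module.compHom Γ(M, U) β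
       Module.FinitePresentation B Γ(M, U)) := by
  obtain ⟨e⟩ := nonempty_module_ring_rep U hU M
  rw [gpc_iff_ring U hU β _ _ _ e]
  let N : ModuleCat.{u} Γ(X, U) := ModuleCat.of Γ(X, U) Γ(M, U)
  let e2 := restrictDInDIso β N
  rw [isPseudoCoherent_iff_of_iso e2]
  exact isPseudoCoherentModule_negOne_iff _ ((ModuleCat.restrictScalars β).obj N)

end Chart

section Main

variable {X S : Scheme.{u}} (f : X ⟶ S)

theorem relPC_pos [LocallyOfFiniteType f] (M : X.Modules) (m : ℤ) (hm : 0 < m) :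
    DerSch.IsPseudoCoherentRel f m (DCoh.inD X M) := by
  rw [relPC_iff_forall_gpc]
  intro U V h n φ hφ
  haveI := isClosedImmersion_cImm U.1 U.2 φ hφ.1
  exact gpc_inD_pos U.1 φ M m hm

theorem relPC_zero_iff [LocallyOfFiniteType f] (M : X.Modules) :
    DerSch.IsPseudoCoherentRel f 0 (DCoh.inD X M) ↔ CohB1.IsFT M := by
  rw [relPC_iff_forall_gpc, ← (main6518 M).1]
  constructor
  · intro H
    refine isPC_of_pointwise 0 _ (fun x => ?_)
    obtain ⟨V, hV, hxV, -⟩ := Opens.isBasis_iff_nbhd.mp S.isBasis_affineOpens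
      (show f x ∈ (⊤ : S.Opens) from trivial)
    obtain ⟨U₀, hU, hxU, hUV⟩ := Opens.isBasis_iff_nbhd.mp X.isBasis_affineOpens
      (show x ∈ f ⁻¹ᵁ V from hxV)
    let U : X.Opens := U₀
    obtain ⟨n, φ, hφ⟩ := exists_isChart f U V hUV
      (LocallyOfFiniteType.finiteType_appLE f hV hU hUV)
    refine ⟨U, U.ι, inferInstance, ⟨⟨x, hxU⟩, rfl⟩, ?_⟩
    exact (gpc_zero_iff U φ hU hφ.1 M).mp (H ⟨U, hU⟩ ⟨V, hV⟩ hUV φ hφ)
  · intro h U V hUV n φ hφ
    exact (gpc_zero_iff U.1 φ U.2 hφ.1 M).mpr (isPC_restrict h U.1.ι)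

theorem relPC_negOne_iff [LocallyOfFiniteType f] (M : X.Modules) :
    DerSch.IsPseudoCoherentRel f (-1) (DCoh.inD X M) ↔ (Coh.IsQCoh M ∧ Flatn.IsRelFP f M) := by
  constructor
  · intro hfp
    have hq0 := Groth.Agent.Lib.RelPCQcH3.main7213 f (-1) _ hfp 0 (by norm_num)
    let e0 : DCoh.HD (DCoh.inD X M) 0 ≅ M :=
      (homologyFunctorFactors X.Modules 0).app
        ((CochainComplex.singleFunctor X.Modules 0).obj M) ≪≫
        HomologicalComplex.singleObjHomologySelfIso (ComplexShape.up ℤ) 0 M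
    haveI hq : M.IsQuasicoherent :=
      (SheafOfModules.isQuasicoherent X.ringCatSheaf).prop_of_iso e0 hq0
    refine ⟨hq, RelFPAff.isRelFP_of_all_pairs (f := f) (F := M) (fun U V hUV => ?_)⟩
    letI := (f.appLE (V : S.Opens) (U : X.Opens) hUV).hom.toAlgebra
    obtain ⟨n, α, hα, hchart⟩ := exists_isChart_algHom f U.1 V.1 hUV
      (LocallyOfFiniteType.finiteType_appLE f V.2 U.2 hUV)
    have H := (relPC_iff_forall_gpc f (-1) _).1 hfp U V hUV _ hchart
    have H' := (gpc_negOne_iff U.1
      (α : MvPolynomial (Fin n) Γ(S, (V : S.Opens)) →+* Γ(X, (U : X.Opens))) U.2 M).mp H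
    exact ⟨n, α, hα, H'⟩
  · rintro ⟨hq, hrel⟩
    haveI : M.IsQuasicoherent := hq
    rw [main7208]
    intro U V hUV
    letI := (f.appLE (V : S.Opens) (U : X.Opens) hUV).hom.toAlgebra
    obtain ⟨n, α, hα, hfpα⟩ := RelFPAff.all_pairs (f := f) (F := M) hrel U.2 V.2 hUV
    refine ⟨n, α.toRingHom, ⟨hα, ?_⟩, ?_⟩
    · ext r
      exact α.commutes r
    · rw [chartPC_iff_gpc (-1) _ U.1 U.2 V.1 _ hα]
      exact (gpc_negOne_iff U.1 _ U.2 M).mpr hfpα

theorem main7212 [LocallyOfFiniteType f] (M : X.Modules) :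
    (∀ m : ℤ, 0 < m → DerSch.IsPseudoCoherentRel f m (DCoh.inD X M)) ∧
      (DerSch.IsPseudoCoherentRel f 0 (DCoh.inD X M) ↔ CohB1.IsFT M) ∧
      (DerSch.IsPseudoCoherentRel f (-1) (DCoh.inD X M) ↔
        (Coh.IsQCoh M ∧ Flatn.IsRelFP f M)) :=
  ⟨fun m hm => relPC_pos f M m hm, relPC_zero_iff f M, relPC_negOne_iff f M⟩

end Main

end

end Groth.Agent.Lib.RelPCCompH3
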