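import Mathlib
import Groth.Agent.Lib.RelPcTen6_helper6
import Groth.Agent.Lib.DMod79_helper6

/-!
# Tensoring with a pseudo-coherent algebra (helper6), part 7: S7025
-/

set_option autoImplicit false
set_option linter.style.haveILetI false
set_option linter.unusedSectionVars false
set_option linter.unusedVariables false
universe u
open CategoryTheory CategoryTheory.Limits DerivedCategory Pretriangulated
open scoped TensorProduct
attribute [local instance] HasDerivedCategory.standard

namespace Groth.Agent.Lib.RelPcTenH6

open DRing Groth.Agent.Lib.DMod_helper6 Groth.Agent.Lib.TrivBCH6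

lemma isRelPseudoCoherent_of_iso {R A : Type u} [CommRing R] [CommRing A] [Algebra R A]
    {K L : Dual.D A} (e : K ≅ L) (m : ℤ) (h : DerCA.IsRelPseudoCoherent R A m K) :
    DerCA.IsRelPseudoCoherent R A m L := by
  obtain ⟨n, α, hα, hv⟩ := h
  exact ⟨n, α, hα, (isPseudoCoherent_iff_of_iso ((restrictD _).mapIso e) m).1 hv⟩

section Main

variable {R A B : Type u} [CommRing R] [CommRing A] [CommRing B] [Algebra R A] [Algebra A B]
  [Algebra R B] [IsScalarTower R A B] [Algebra.FiniteType R A] [Algebra.FiniteType A B]
  [Module.Flat A B]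

theorem relPcModule_baseChange_of_flat (hB : DerCA.IsRelPseudoCoherentModuleAll A B B) (m : ℤ)
    (M : Type u) [AddCommGroup M] [Module A M] (hM : DerCA.IsRelPseudoCoherentModule R A m M) :
    DerCA.IsRelPseudoCoherentModule R B m (TensorProduct A B M) := by
  haveI hL : DRing.HasLBaseChange (algebraMap A B) := hasLBaseChange_general _
  obtain ⟨e⟩ := nonempty_lBaseChange_iso_bcD (A := A) (B := B)
  have h1 := relPc_lBaseChange_of_algebra (R := R) hB (Dual.inD A M) m hM
  exact isRelPseudoCoherent_of_iso (e.app _ ≪≫ bcSingleIso M) m h1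

/-- **S7025** -/
theorem main7025 (hB : DerCA.IsRelPseudoCoherentModuleAll A B B) (m : ℤ)
    (M : Type u) [AddCommGroup M] [Module A M] :
    (DerCA.IsRelPseudoCoherentModule R A m M →
      DerCA.IsRelPseudoCoherentModule R B m (TensorProduct A B M)) ∧
      (DerCA.IsRelPseudoCoherentModuleAll R A M →
        DerCA.IsRelPseudoCoherentModuleAll R B (TensorProduct A B M)) :=
  ⟨relPcModule_baseChange_of_flat hB m M,
    fun h m' => relPcModule_baseChange_of_flat hB m' M (h m')⟩

end Main

end Groth.Agent.Lib.RelPcTenH6
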