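import Mathlib
import Groth.Prelude.Def_DualSh
import Groth.Agent.Lib.FlatFP_helper2

/-!
# `R`-perfect complexes over a flat finitely presented `R`-algebra (helper2)

* `flat_restrict_coker`: flatness over `R` of a cokernel computed over `A`;
* `relPerfect_exists_flat_cx`, `relPerfect_of_flat_cx`, `main7074`: for `R → A` flat of finite
  presentation, `K ∈ D(A)` is `R`-perfect iff it is represented by a bounded complex of finitely
  presented `A`-modules flat over `R`.
-/

set_option autoImplicit false
universe u
open CategoryTheory CategoryTheory.Limits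
attribute [local instance] HasDerivedCategory.standard

namespace Groth.Agent.Lib.PCHom

open DRing Groth.Agent.Lib.DMod_helper6 ChangeOfRings DerivedCategory

section RelPerfFlat

variable {R A : Type u} [CommRing R] [CommRing A] [Algebra R A]

/-- flatness over `R` of a cokernel, computed over `A` -/
lemma flat_restrict_coker {M N : ModuleCat.{u} A} (f : M ⟶ N)
    (h : Module.Flat R
      (((ModuleCat.restrictScalars (algebraMap R A)).obj N) ⧸
        LinearMap.range ((ModuleCat.restrictScalars (algebraMap R A)).map f).hom)) :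
    Module.Flat R ((ModuleCat.restrictScalars (algebraMap R A)).obj
      (ModuleCat.of A (N ⧸ LinearMap.range f.hom))) := by
  let q : N ⟶ ModuleCat.of A (N ⧸ LinearMap.range f.hom) :=
    ModuleCat.ofHom (LinearMap.range f.hom).mkQ
  let qR := ((ModuleCat.restrictScalars (algebraMap R A)).map q).hom
  have hsurj : Function.Surjective qR := Submodule.mkQ_surjective (LinearMap.range f.hom)
  have hker : LinearMap.ker qR =
      LinearMap.range ((ModuleCat.restrictScalars (algebraMap R A)).map f).hom := by
    ext x
    rw [LinearMap.mem_ker, LinearMap.mem_range]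
    show (LinearMap.range f.hom).mkQ x = 0 ↔ ∃ y, f.hom y = x
    rw [Submodule.mkQ_apply, Submodule.Quotient.mk_eq_zero, LinearMap.mem_range]
  haveI := h
  exact Module.Flat.of_linearEquiv
    ((Submodule.quotEquivOfEq _ _ hker.symm).trans (qR.quotKerEquivOfSurjective hsurj)).symm

theorem relPerfect_exists_flat_cx [Module.Flat R A] (K : Dual.D A)
    (h : Dual2.IsRelPerfect R A K) :
    ∃ (E : DRing.Cx A) (a b : ℤ), DRing.VanishesOutside E a b ∧
        (∀ i : ℤ, Module.FinitePresentation A (E.X i) ∧
          Module.Flat R ((ModuleCat.restrictScalars (algebraMap R A)).obj (E.X i))) ∧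
        Nonempty (DRing.toD E ≅ K) := by
  obtain ⟨⟨F, b, hFb, hFff, ⟨eF⟩⟩, a₀, b₀, hamp⟩ := h
  let FR : Cx R := (restrictCx (algebraMap R A)).obj F
  have hFRb : VanishesAbove FR b := fun i hi =>
    (ModuleCat.restrictScalars (algebraMap R A)).map_isZero (hFb i hi)
  have hFRf : TermwiseFlat FR := fun i =>
    flat_restrictScalars (F.X i) (by haveI := (hFff i).2; infer_instance)
  have eR : toD FR ≅ (restrictD (algebraMap R A)).obj K :=
    ((ModuleCat.restrictScalars.{u} (algebraMap R A)).mapDerivedCategoryFactors.app F).symm ≪≫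
      (restrictD (algebraMap R A)).mapIso eF
  have hampR : HasTorAmplitudeIn R a₀ b₀ (toD FR) := hasTorAmplitudeIn_of_iso eR.symm a₀ b₀ hamp
  have hexR : ∀ i, i < a₀ → FR.ExactAt i := by
    obtain ⟨E', hE', _, ⟨e'⟩⟩ := hampR
    intro i hi
    exact exactAt_of_iso_toD FR E' e'.symm i (exactAt_of_isZero_X E' i (hE' i (Or.inl hi)))
  have hex : ∀ i, i ≤ a₀ - 1 → F.ExactAt i := fun i hi => by
    have h1 := function_exact_of_exactAt FR (i - 1) i (i + 1) (by omega) rfl (hexR i (by omega))
    exact exactAt_of_function_exact F (i - 1) i (i + 1) (by omega) rfl h1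
  have hcokerR : Module.Flat R
      (FR.X (a₀ - 1 + 1) ⧸ LinearMap.range (FR.d (a₀ - 1) (a₀ - 1 + 1)).hom) :=
    flat_coker_of_TN_exact FR (a₀ - 1) (a₀ - 1 + 1) rfl (hFRf _)
      (fun N => exactAt_TN_of_hasTorAmplitudeIn FR b hFRb hFRf a₀ b₀ hampR N (a₀ - 1) (by omega))
  obtain ⟨T, π, hπ, hT0, hTiso, ⟨eT⟩⟩ := exists_trunc_desc F (a₀ - 1) hex
  haveI := hπ
  refine ⟨T, a₀, b, ?_, ?_, ⟨(asIso (Q.map π)).symm ≪≫ eF⟩⟩
  · intro i hi
    rcases hi with hi | hi
    · exact hT0 i (by omega)
    · rcases lt_trichotomy i (a₀ - 1 + 1) with h1 | h1 | h1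
      · exact hT0 i (by omega)
      · subst h1
        haveI : Subsingleton (F.X (a₀ - 1 + 1)) := ModuleCat.subsingleton_of_isZero (hFb _ hi)
        have : Subsingleton
            (F.X (a₀ - 1 + 1) ⧸ LinearMap.range (F.d (a₀ - 1) (a₀ - 1 + 1)).hom) :=
          (Submodule.mkQ_surjective _).subsingleton
        exact IsZero.of_iso (@ModuleCat.isZero_of_subsingleton _ _ (ModuleCat.of A
          (F.X (a₀ - 1 + 1) ⧸ LinearMap.range (F.d (a₀ - 1) (a₀ - 1 + 1)).hom)) this) eT
      · obtain ⟨e'⟩ := hTiso i h1
        exact IsZero.of_iso (hFb i hi) e'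
  · intro i
    rcases lt_trichotomy i (a₀ - 1 + 1) with h1 | h1 | h1
    · have hz := hT0 i (by omega)
      haveI : Subsingleton (T.X i) := ModuleCat.subsingleton_of_isZero hz
      exact ⟨inferInstance,
        flat_of_isZero _ ((ModuleCat.restrictScalars (algebraMap R A)).map_isZero hz)⟩
    · subst h1
      constructor
      · haveI := (hFff (a₀ - 1 + 1)).1
        haveI := (hFff (a₀ - 1 + 1)).2
        haveI := (hFff (a₀ - 1)).1
        haveI : Module.FinitePresentation A (F.X (a₀ - 1 + 1)) :=
          Module.finitePresentation_of_projective A _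
        have hfp : Module.FinitePresentation A
            (F.X (a₀ - 1 + 1) ⧸ LinearMap.range (F.d (a₀ - 1) (a₀ - 1 + 1)).hom) := by
          refine Module.finitePresentation_of_surjective
            (LinearMap.range (F.d (a₀ - 1) (a₀ - 1 + 1)).hom).mkQ (Submodule.mkQ_surjective _) ?_
          rw [Submodule.ker_mkQ, LinearMap.range_eq_map]
          exact (Module.Finite.fg_top).map _
        haveI := hfp
        exact Module.FinitePresentation.of_equiv eT.toLinearEquiv.symm
      · have h2 := flat_restrict_coker (R := R) (F.d (a₀ - 1) (a₀ - 1 + 1)) hcokerR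
        exact flat_of_iso ((ModuleCat.restrictScalars (algebraMap R A)).mapIso eT.symm) h2
    · obtain ⟨e'⟩ := hTiso i h1
      constructor
      · haveI := (hFff i).1
        haveI := (hFff i).2
        haveI : Module.FinitePresentation A (F.X i) := Module.finitePresentation_of_projective A _
        exact Module.FinitePresentation.of_equiv e'.toLinearEquiv.symm
      · exact flat_of_iso ((ModuleCat.restrictScalars (algebraMap R A)).mapIso e'.symm)
          (flat_restrictScalars (F.X i) (by haveI := (hFff i).2; infer_instance))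

theorem relPerfect_of_flat_cx [Module.Flat R A] [Algebra.FinitePresentation R A] (K : Dual.D A)
    (E : DRing.Cx A) (a b : ℤ) (hE : DRing.VanishesOutside E a b)
    (hterms : ∀ i : ℤ, Module.FinitePresentation A (E.X i) ∧
          Module.Flat R ((ModuleCat.restrictScalars (algebraMap R A)).obj (E.X i)))
    (e : DRing.toD E ≅ K) : Dual2.IsRelPerfect R A K := by
  constructor
  · have hb : VanishesAbove E b := fun i hi => hE i (Or.inr hi)
    refine isPseudoCoherent'_of_iso e (isPseudoCoherent'_of_terms E b hb (fun i => ?_))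
    letI modR : Module R ↑(E.X i) :=
      ((ModuleCat.restrictScalars (algebraMap R A)).obj (E.X i)).isModule
    haveI tower : IsScalarTower R A ↑(E.X i) := ⟨fun r a x => by
      rw [Algebra.smul_def, mul_smul]
      rfl⟩
    haveI := (hterms i).1
    haveI : Module.Flat R ↑(E.X i) := (hterms i).2
    obtain ⟨Rs, hRs⟩ :=
      Groth.Agent.Lib.FlatDescH8.exists_finite_free_resolution_of_flat R A ↑(E.X i)
    exact pcModule_of_resolution ↑(E.X i) Rs hRs
  · refine ⟨a, b, (restrictCx (algebraMap R A)).obj E, fun i hi =>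
      (ModuleCat.restrictScalars (algebraMap R A)).map_isZero (hE i hi),
      fun i => (hterms i).2, ⟨?_⟩⟩
    exact ((ModuleCat.restrictScalars.{u} (algebraMap R A)).mapDerivedCategoryFactors.app E).symm ≪≫
      (restrictD (algebraMap R A)).mapIso e

theorem main7074 (R A : Type u) [CommRing R] [CommRing A] [Algebra R A]
    [Module.Flat R A] [Algebra.FinitePresentation R A] (K : Dual.D A) :
    Dual2.IsRelPerfect R A K ↔
      ∃ (E : DRing.Cx A) (a b : ℤ), DRing.VanishesOutside E a b ∧
        (∀ i : ℤ, Module.FinitePresentation A (E.X i) ∧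
          Module.Flat R ((ModuleCat.restrictScalars (algebraMap R A)).obj (E.X i))) ∧
        Nonempty (DRing.toD E ≅ K) :=
  ⟨relPerfect_exists_flat_cx K, fun ⟨E, a, b, hE, ht, ⟨e⟩⟩ => relPerfect_of_flat_cx K E a b hE ht e⟩

end RelPerfFlat

end Groth.Agent.Lib.PCHom
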