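import Mathlib
import Groth.Prelude.Def_DualSh
import Groth.Agent.Lib.PushoutBC_helper2
import Groth.Agent.Lib.ResKFlat_helper2
import Groth.Agent.Lib.NilpPc_helper2

/-!
# Relative perfectness descends along a nilpotent thickening (helper2)

`R' → A'` flat, `R' → R` surjective with nilpotent kernel, `B = R ⊗_{R'} A'`.  If `K' ⊗^L_{A'} B` is
`R`-perfect then `K'` is `R'`-perfect.
-/

set_option autoImplicit false
universe u
open CategoryTheory Limits MonoidalCategory TensorProduct ChangeOfRings

namespace Groth.Agent.Lib.RelPerfNilp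

open Groth.Agent.ExtendScalarsLib Groth.Agent.Lib.KFlatMod Groth.Agent.Lib.KFlatGen
  Groth.Agent.Lib.ExtKFlat Groth.Agent.Lib.ResKFlat Groth.Agent.Lib.NilpTor
  Groth.Agent.Lib.DMod_helper6 Groth.Agent.Lib.PushoutBC Groth.Agent.Lib.DRingLT
  Groth.Agent.Lib.BifSingleL

attribute [local instance] HasDerivedCategory.standard

variable {R' R A' B : Type u} [CommRing R'] [CommRing R] [CommRing A'] [CommRing B]
  [Algebra R' R] [Algebra R' A'] [Algebra R B] [Algebra A' B] [Algebra R' B]
  [IsScalarTower R' R B] [IsScalarTower R' A' B] [Algebra.IsPushout R' R A' B]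

/-- restriction of scalars along a flat ring map preserves flat modules -/
lemma flat_res [Module.Flat R' A'] (M : ModuleCat.{u} A') (hM : Module.Flat A' M) :
    Module.Flat R' ((res R' A').obj M) := by
  letI : Module R' M := modL M
  haveI : IsScalarTower R' A' M := towerL M
  exact Module.Flat.trans R' A' M

/-- finite tor dimension descends -/
theorem hasTorAmplitudeIn_of_lBaseChange_pushout [Module.Flat R' A'] [Module.Flat R B]
    (hs : Function.Surjective (algebraMap R' R))
    (hn : IsNilpotent (RingHom.ker (algebraMap R' R)))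
    [DRing.HasLBaseChange (algebraMap A' B)] (K' : Dual.D A') (a b : ℤ)
    (hT : DRing.HasTorAmplitudeIn R a b ((DRing.restrictD (algebraMap R B)).obj
      ((DRing.LBaseChange (algebraMap A' B)).obj K'))) :
    DRing.HasTorAmplitudeIn R' a b ((DRing.restrictD (algebraMap R' A')).obj K') := by
  obtain ⟨E, hEv, hEfl, ⟨eE⟩⟩ := hT
  have hE : KF R E := kf_of_vanishesAbove E b (fun i hi => hEv i (Or.inr hi)) hEfl
  obtain ⟨P, π, hπ, hPkp, hPkf, hPfl⟩ :=
    Groth.Agent.Lib.KProjRes.exists_kproj_resolution (DerivedCategory.Q.objPreimage K')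
  haveI := hπ
  haveI := hPkp
  haveI : IsIso (DerivedCategory.Q.map π) :=
    (DerivedCategory.isIso_Q_map_iff_quasiIso _ _).2 inferInstance
  let eP : DRing.toD P ≅ K' :=
    asIso (DerivedCategory.Q.map π) ≪≫ DerivedCategory.Q.objObjPreimageIso K'
  -- the restriction of `P` to `R'`
  let X : DRing.Cx R' := ((res R' A').mapHomologicalComplex (ComplexShape.up ℤ)).obj P
  have hXkf : KF R' X := kf_res (R := R') (A := A') P hPkf
  have hXfl : ∀ q, Module.Flat R' (X.X q) := fun q => flat_res (P.X q) (hPfl q)
  let eX : (DRing.restrictD (algebraMap R' A')).obj K' ≅ DRing.toD X :=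
    (DRing.restrictD (algebraMap R' A')).mapIso eP.symm ≪≫
      (ModuleCat.restrictScalars.{u} (algebraMap R' A')).mapDerivedCategoryFactors.app P
  -- the base change of `P` to `B`, restricted to `R`
  let PB : DRing.Cx B := ((ext A' B).mapHomologicalComplex (ComplexShape.up ℤ)).obj P
  have hPBkf : KF B PB := kf_ext (R := A') (R' := B) P hPkf
  let Y : DRing.Cx R := ((res R B).mapHomologicalComplex (ComplexShape.up ℤ)).obj PB
  have hYkf : KF R Y := kf_res (R := R) (A := B) PB hPBkf
  obtain ⟨eL⟩ := nonempty_lBaseChange_iso_of_isKProjective (algebraMap A' B) P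
  let eY : DRing.toD E ≅ DRing.toD Y :=
    eE ≪≫ (DRing.restrictD (algebraMap R B)).mapIso
      ((DRing.LBaseChange (algebraMap A' B)).mapIso eP.symm ≪≫ eL) ≪≫
      (ModuleCat.restrictScalars.{u} (algebraMap R B)).mapDerivedCategoryFactors.app PB
  -- the extension of `X` to `R`
  let W : DRing.Cx R := ((ext R' R).mapHomologicalComplex (ComplexShape.up ℤ)).obj X
  have hWkf : KF R W := kf_ext (R := R') (R' := R) X hXkf
  let eW : DRing.toD Y ≅ DRing.toD W := DerivedCategory.Q.mapIso (θCx R' R A' B P).symm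
  have hvan : ∀ (i : ℤ), (i < a ∨ b < i) → ∀ M : ModuleCat.{u} R',
      IsZero ((TorFun.T (T R') X i).obj M) := fun i hi M => by
    refine devissage hs hn X hXfl i (fun N => isZero_T_res N X i ?_) M
    exact isZero_T_of_iso hYkf hWkf eW N i
      (isZero_T_of_iso hE hYkf eY N i (isZero_T_of_isZero_X E N i (hEv i hi)))
  exact hasTorAmplitudeIn_of_iso eX.symm a b (hasTorAmplitudeIn_of_isZero_T X hXkf a b hvan)

/-- **relative perfectness descends along a nilpotent thickening** -/
theorem isRelPerfect_of_lBaseChange [Module.Flat R' A'] [Module.Flat R B]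
    (hs : Function.Surjective (algebraMap R' R))
    (hn : IsNilpotent (RingHom.ker (algebraMap R' R)))
    (hφs : Function.Surjective (algebraMap A' B))
    (hφn : IsNilpotent (RingHom.ker (algebraMap A' B)))
    [DRing.HasLBaseChange (algebraMap A' B)] (K' : Dual.D A')
    (hK : Dual2.IsRelPerfect R B ((DRing.LBaseChange (algebraMap A' B)).obj K')) :
    Dual2.IsRelPerfect R' A' K' := by
  obtain ⟨hpc, a, b, hT⟩ := hK
  exact ⟨Groth.Agent.Lib.NilpPc.pc_of_lBaseChange (algebraMap A' B) hφs hφn K' hpc, a, b,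
    hasTorAmplitudeIn_of_lBaseChange_pushout hs hn K' a b hT⟩

end Groth.Agent.Lib.RelPerfNilp
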