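import Groth.Agent.Lib.RelProj_helper3
import Groth.Agent.Lib.ProjNull_helper3

/-! Integrality of relative homogeneous spectra. -/

universe u

open CategoryTheory CategoryTheory.Limits AlgebraicGeometry TopologicalSpace Opposite
open scoped HomogeneousIdeal

namespace Groth.Agent.Lib.RelProjInt_helper3

/-- A space covered by irreducible open subsets, any two of which contain a third, is irreducible. -/
theorem irreducibleSpace_of_cover {X : Type*} [TopologicalSpace X] {ι : Type*} [Nonempty ι] (U : ι → Set X)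
    (hopen : ∀ i, IsOpen (U i)) (hcov : ∀ x, ∃ i, x ∈ U i) (hirr : ∀ i, IsIrreducible (U i))
    (hmeet : ∀ i j, ∃ k, U k ⊆ U i ∩ U j) : IrreducibleSpace X := by
  have hne : Nonempty X := by
    obtain ⟨i⟩ := ‹Nonempty ι›
    exact ⟨(hirr i).nonempty.some⟩
  have : PreirreducibleSpace X := by
    refine .of_forall_nonempty_inter fun u v hu hv ⟨x, hx⟩ ⟨y, hy⟩ => ?_
    obtain ⟨i, hi⟩ := hcov x
    obtain ⟨j, hj⟩ := hcov y
    obtain ⟨k, hk⟩ := hmeet i j
    obtain ⟨z0, hz0⟩ := (hirr k).nonempty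
    obtain ⟨z, hz⟩ := (hirr i).2 u (U k) hu (hopen k) ⟨x, hi, hx⟩ ⟨z0, (hk hz0).1, hz0⟩
    obtain ⟨w, hw⟩ := (hirr j).2 v (U k) hv (hopen k) ⟨y, hj, hy⟩ ⟨z0, (hk hz0).2, hz0⟩
    obtain ⟨t, ht⟩ := (hirr k).2 u v hu hv ⟨z, hz.2.2, hz.2.1⟩ ⟨w, hw.2.2, hw.2.1⟩
    exact ⟨t, ht.2⟩
  exact ⟨hne⟩

section
open RelProj
variable {Y P : Scheme.{u}} {𝒮 : RelProj.QCGrAlg Y} {p : P ⟶ Y}
  (chart : ∀ (U : Y.Opens) (hU : IsAffineOpen U), (((p ⁻¹ᵁ U : P.Opens) : Scheme.{u}) ≅ Proj (𝒮.deg U hU)))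

include chart in
/-- If `Y` is irreducible and `Proj 𝒮(U)` is integral for all nonempty affine opens `U`, the relative `Proj` is
integral and dominates `Y`. -/
theorem isIntegral_of_chart [IrreducibleSpace Y]
    (H : ∀ (U : Y.Opens) (hU : IsAffineOpen U), (U : Set Y).Nonempty → IsIntegral (Proj (𝒮.deg U hU))) :
    IsIntegral P ∧ DenseRange p.base := by
  classical
  -- nonempty affine opens
  let ι := {U : Y.affineOpens // ((U : Y.Opens) : Set Y).Nonempty}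
  have hι : Nonempty ι := by
    obtain ⟨y⟩ := (inferInstance : Nonempty Y)
    obtain ⟨_, ⟨U, hU : IsAffineOpen U, rfl⟩, hyU, -⟩ :=
      Y.isBasis_affineOpens.exists_subset_of_mem_open (Set.mem_univ y) isOpen_univ
    exact ⟨⟨⟨U, hU⟩, ⟨y, hyU⟩⟩⟩
  have hintU : ∀ i : ι, IsIntegral ((p ⁻¹ᵁ (i.1 : Y.Opens) : P.Opens) : Scheme.{u}) := by
    intro i
    have := H i.1.1 i.1.2 i.2
    have hne : Nonempty (Proj (𝒮.deg i.1.1 i.1.2)) := inferInstance
    have : Nonempty ((p ⁻¹ᵁ (i.1 : Y.Opens) : P.Opens) : Scheme.{u}) := hne.map (chart i.1.1 i.1.2).inv.base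
    exact isIntegral_of_isOpenImmersion (chart i.1.1 i.1.2).hom
  have hirrU : ∀ i : ι, IsIrreducible ((p ⁻¹ᵁ (i.1 : Y.Opens) : P.Opens) : Set P) := by
    intro i
    have := hintU i
    have h1 : IrreducibleSpace ((p ⁻¹ᵁ (i.1 : Y.Opens) : P.Opens) : Scheme.{u}) := inferInstance
    exact isIrreducible_iff_irreducibleSpace.mpr h1
  -- nonempty opens of Y contain nonempty affine opens
  have hsub : ∀ W : Y.Opens, (W : Set Y).Nonempty → ∃ i : ι, (i.1 : Y.Opens) ≤ W := by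
    rintro W ⟨y, hy⟩
    obtain ⟨_, ⟨U, hU : IsAffineOpen U, rfl⟩, hyU, hUW⟩ :=
      Y.isBasis_affineOpens.exists_subset_of_mem_open hy W.2
    exact ⟨⟨⟨U, hU⟩, ⟨y, hyU⟩⟩, hUW⟩
  have hcov : ∀ x : P, ∃ i : ι, x ∈ ((p ⁻¹ᵁ (i.1 : Y.Opens) : P.Opens) : Set P) := by
    intro x
    obtain ⟨_, ⟨U, hU : IsAffineOpen U, rfl⟩, hyU, -⟩ :=
      Y.isBasis_affineOpens.exists_subset_of_mem_open (Set.mem_univ (p.base x)) isOpen_univ
    exact ⟨⟨⟨U, hU⟩, ⟨_, hyU⟩⟩, hyU⟩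
  have hirrP : IrreducibleSpace P := by
    refine irreducibleSpace_of_cover (fun i : ι => ((p ⁻¹ᵁ (i.1 : Y.Opens) : P.Opens) : Set P))
      (fun i => (p ⁻¹ᵁ (i.1 : Y.Opens)).2) hcov hirrU ?_
    intro i j
    have hne : (((i.1 : Y.Opens) ⊓ (j.1 : Y.Opens) : Y.Opens) : Set Y).Nonempty :=
      nonempty_preirreducible_inter (i.1 : Y.Opens).2 (j.1 : Y.Opens).2 i.2 j.2
    obtain ⟨k, hk⟩ := hsub _ hne
    refine ⟨k, fun x hx => ⟨(hk hx).1, (hk hx).2⟩⟩
  have hredP : IsReduced P := by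
    have hc : TopologicalSpace.IsOpenCover (fun i : ι => p ⁻¹ᵁ (i.1 : Y.Opens)) := by
      rw [TopologicalSpace.IsOpenCover, eq_top_iff]
      intro x _
      obtain ⟨i, hi⟩ := hcov x
      exact Opens.mem_iSup.mpr ⟨i, hi⟩
    have : ∀ i, IsReduced ((P.openCoverOfIsOpenCover _ hc).X i) := by
      intro i
      have := hintU i
      change IsReduced ((p ⁻¹ᵁ (i.1 : Y.Opens) : P.Opens) : Scheme.{u})
      infer_instance
    exact IsReduced.of_openCover _ (P.openCoverOfIsOpenCover _ hc)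
  refine ⟨isIntegral_of_irreducibleSpace_of_isReduced P, ?_⟩
  -- dominance
  rw [DenseRange, dense_iff_inter_open]
  intro W hW hWne
  obtain ⟨i, hi⟩ := hsub ⟨W, hW⟩ hWne
  have := hintU i
  obtain ⟨x⟩ : Nonempty ((p ⁻¹ᵁ (i.1 : Y.Opens) : P.Opens) : Scheme.{u}) := inferInstance
  exact ⟨p.base x.1, hi x.2, x.1, rfl⟩
end

end Groth.Agent.Lib.RelProjInt_helper3

namespace Groth.Agent.Lib.RelProjInt_helper3

section
open HomogeneousLocalization
variable {A σ : Type u} [CommRing A] [SetLike σ A] [AddSubgroupClass σ A]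
  (𝒜 : ℕ → σ) [GradedRing 𝒜]

/-- If `Proj 𝒜` is irreducible and dominates `Spec 𝒜₀` with `𝒜₀` reduced, then `𝒜₀ → 𝒜_(f)` is injective for every
non-nilpotent homogeneous `f` of positive degree. -/
theorem fromZero_injective_of_dominant [IrreducibleSpace (Proj 𝒜)] [IsReduced (𝒜 0)]
    (hdom : DenseRange (Proj.toSpecZero 𝒜).base) {n : ℕ} (hn : 0 < n) {f : A} (hf : f ∈ 𝒜 n)
    (hnil : ¬ IsNilpotent f) :
    Function.Injective (fromZeroRingHom 𝒜 (Submonoid.powers f)) := by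
  have hne : Nonempty (Spec (CommRingCat.of (Away 𝒜 f))) := by
    obtain ⟨x, hx⟩ := (Groth.Agent.Lib.ProjNull_helper3.basicOpen_nonempty_iff 𝒜
      (HomogeneousIdeal.mem_irrelevant_of_mem 𝒜 hn hf)).mpr hnil
    rw [← Proj.opensRange_awayι 𝒜 f hf hn] at hx
    obtain ⟨y, -⟩ := hx
    exact ⟨y⟩
  have h1 : DenseRange (Proj.awayι 𝒜 f hf hn).base :=
    IsOpenMap.denseRange_of_isPreirreducibleSpace _ (Proj.awayι 𝒜 f hf hn).isOpenEmbedding.isOpenMap
  have h2 : DenseRange (Proj.awayι 𝒜 f hf hn ≫ Proj.toSpecZero 𝒜).base := by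
    rw [Scheme.Hom.comp_base, TopCat.coe_comp]
    exact hdom.comp h1 (Proj.toSpecZero 𝒜).base.hom.continuous
  rw [Proj.awayι_toSpecZero] at h2
  have h3 : DenseRange (PrimeSpectrum.comap (fromZeroRingHom 𝒜 (Submonoid.powers f))) := h2
  rw [PrimeSpectrum.denseRange_comap_iff_ker_le_nilRadical] at h3
  rw [injective_iff_map_eq_zero]
  intro a ha
  have : a ∈ nilradical (𝒜 0) := h3 ha
  rw [nilradical_eq_zero] at this
  exact this

/-- If `Proj 𝒜` is integral and dominates `Spec 𝒜₀`, with `𝒜₀` a domain and `𝒜₊` without nilpotents, then `A` is a domain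
with `𝒜₊ ≠ 0`. -/
theorem isDomain_of_proj_isIntegral [IsIntegral (Proj 𝒜)] [IsDomain (𝒜 0)]
    (hred : ∀ f ∈ (HomogeneousIdeal.irrelevant 𝒜).toIdeal, IsNilpotent f → f = 0)
    (hdom : DenseRange (Proj.toSpecZero 𝒜).base) :
    IsDomain A ∧ (HomogeneousIdeal.irrelevant 𝒜).toIdeal ≠ ⊥ := by
  classical
  obtain ⟨⟨f0, hf0, hf0ne⟩, hnzd⟩ := (Groth.Agent.Lib.ProjNull_helper3.proj_isIntegral_iff 𝒜 hred).mp inferInstance
  have hirr : (HomogeneousIdeal.irrelevant 𝒜).toIdeal ≠ ⊥ := by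
    intro h
    rw [h, Ideal.mem_bot] at hf0
    exact hf0ne hf0
  refine ⟨?_, hirr⟩
  have hnt : Nontrivial A := ⟨⟨f0, 0, hf0ne⟩⟩
  have key : ∀ {m n : ℕ} {x y : A}, x ∈ 𝒜 m → y ∈ 𝒜 n → m = 0 → 0 < n → x * y = 0 → x = 0 ∨ y = 0 := by
    intro m n x y hx hy hm hn hxy
    subst hm
    by_cases hy0 : y = 0
    · exact Or.inr hy0
    left
    have hnil : ¬ IsNilpotent y := fun h => hy0 (hred y (HomogeneousIdeal.mem_irrelevant_of_mem 𝒜 hn hy) h)
    have hinj := fromZero_injective_of_dominant 𝒜 hdom hn hy hnil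
    have h0 : fromZeroRingHom 𝒜 (Submonoid.powers y) ⟨x, hx⟩ = 0 := by
      rw [HomogeneousLocalization.ext_iff_val, HomogeneousLocalization.val_zero]
      change (HomogeneousLocalization.mk _).val = 0
      rw [HomogeneousLocalization.val_mk]
      rw [← Localization.mk_zero 1, Localization.mk_eq_mk_iff, Localization.r_iff_exists]
      exact ⟨⟨y, Submonoid.mem_powers y⟩, by simp [mul_comm y x, hxy]⟩
    have := hinj (h0.trans (map_zero _).symm)
    exact congr_arg Subtype.val this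
  have hprime : (⊥ : Ideal A).IsPrime := by
    refine Ideal.IsHomogeneous.isPrime_of_homogeneous_mem_or_mem (𝒜 := 𝒜) (Ideal.IsHomogeneous.bot 𝒜) bot_ne_top ?_
    rintro x y ⟨m, hx⟩ ⟨n, hy⟩ hxy
    rw [Ideal.mem_bot] at hxy ⊢
    rw [Ideal.mem_bot]
    rcases Nat.eq_zero_or_pos m with hm | hm <;> rcases Nat.eq_zero_or_pos n with hn | hn
    · subst hm; subst hn
      have : (⟨x, hx⟩ : 𝒜 0) * ⟨y, hy⟩ = 0 := Subtype.ext hxy
      rcases mul_eq_zero.mp this with h | h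
      · exact Or.inl (congr_arg Subtype.val h)
      · exact Or.inr (congr_arg Subtype.val h)
    · exact key hx hy hm hn hxy
    · exact (key hy hx hn hm (by rw [mul_comm]; exact hxy)).symm
    · exact hnzd x (HomogeneousIdeal.mem_irrelevant_of_mem 𝒜 hm hx) y
        (HomogeneousIdeal.mem_irrelevant_of_mem 𝒜 hn hy) hxy
  exact IsDomain.of_bot_isPrime A
end

end Groth.Agent.Lib.RelProjInt_helper3
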