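import Mathlib
import Groth.Prelude.Def_W4sga3iivvp2RelPsh

set_option autoImplicit false

/-! The relative presheaf on `Over S` of `φ : F ⟶ h_S` is separated / a sheaf iff `F` is. -/

namespace Groth.Agent.Lib.RelPsh_helper7
open CategoryTheory Opposite ShfCat
universe v u

variable {C : Type u} [Category.{v} C] (J : GrothendieckTopology C) {S : C}
  {F : Cᵒᵖ ⥤ Type v} (φ : F ⟶ yoneda.obj S)

lemma φ_map {X Y : C} (f : Y ⟶ X) (t : F.obj (op X)) :
    (φ.app (op Y) (F.map f.op t) : Y ⟶ S) = f ≫ (φ.app (op X) t : X ⟶ S) :=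
  NatTrans.naturality_apply φ f.op t

lemma isSeparated_relPsh (hF : Presieve.IsSeparated J F) :
    Presieve.IsSeparated (J.over S) (relPsh φ) := by
  intro T R hR x t₁ t₂ h₁ h₂
  apply Subtype.ext
  refine (hF _ ((GrothendieckTopology.mem_over_iff J R).1 hR)).ext ?_
  intro Z f hf
  have hf' := (Sieve.overEquiv_iff R f).1 hf
  exact congrArg Subtype.val ((h₁ _ hf').trans (h₂ _ hf').symm)

lemma isSeparated_of_relPsh (hS : Presieve.IsSheaf J (yoneda.obj S))
    (hG : Presieve.IsSeparated (J.over S) (relPsh φ)) : Presieve.IsSeparated J F := by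
  intro X R hR x t₁ t₂ h₁ h₂
  have hagree : ∀ ⦃Y : C⦄ (f : Y ⟶ X), R f → F.map f.op t₁ = F.map f.op t₂ :=
    fun Y f hf => (h₁ f hf).trans (h₂ f hf).symm
  have ha : (φ.app (op X) t₁ : X ⟶ S) = (φ.app (op X) t₂ : X ⟶ S) := by
    refine (hS R hR).isSeparatedFor.ext ?_
    intro Y f hf
    show f ≫ (φ.app (op X) t₁ : X ⟶ S) = f ≫ (φ.app (op X) t₂ : X ⟶ S)
    rw [← φ_map, ← φ_map, hagree f hf]
  let T : Over S := Over.mk (φ.app (op X) t₂ : X ⟶ S)
  let s₁ : (relPsh φ).obj (op T) := ⟨t₁, ha⟩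
  let s₂ : (relPsh φ).obj (op T) := ⟨t₂, rfl⟩
  have hR' : (Sieve.overEquiv T).symm R ∈ (J.over S) T := J.overEquiv_symm_mem_over T R hR
  have key : s₁ = s₂ := by
    refine (hG _ hR').ext ?_
    intro Z g hg
    apply Subtype.ext
    exact hagree g.left hg
  exact congrArg Subtype.val key

lemma isSheaf_relPsh (hS : Presieve.IsSheaf J (yoneda.obj S)) (hF : Presieve.IsSheaf J F) :
    Presieve.IsSheaf (J.over S) (relPsh φ) := by
  intro T R hR
  rw [← Presieve.isSeparatedFor_and_exists_isAmalgamation_iff_isSheafFor]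
  refine ⟨isSeparated_relPsh J φ hF.isSeparated R hR, ?_⟩
  intro x hx
  have hR' : Sieve.overEquiv T R ∈ J T.left := (J.mem_over_iff R).1 hR
  have hxs := (Presieve.compatible_iff_sieveCompatible x).1 hx
  have h2 : ∀ {Z : Over S} (m m' : Z ⟶ T) (_ : m = m') (h : R m) (h' : R m'),
      x m h = x m' h' := by
    intro Z m m' e h h'; subst e; rfl
  let x' : Presieve.FamilyOfElements F (Sieve.overEquiv T R).arrows := fun Z f hf =>
    (x (Over.homMk f : Over.mk (f ≫ T.hom) ⟶ T) ((Sieve.overEquiv_iff R f).1 hf)).1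
  have hx' : x'.Compatible := by
    rw [Presieve.compatible_iff_sieveCompatible]
    intro Y Z f g hf
    let g' : Over.mk ((g ≫ f) ≫ T.hom) ⟶ Over.mk (f ≫ T.hom) := Over.homMk g (by simp)
    have e : (Over.homMk (g ≫ f) : Over.mk ((g ≫ f) ≫ T.hom) ⟶ T) = g' ≫ Over.homMk f := by
      ext; simp [g']
    have h3 := hxs (Over.homMk f : Over.mk (f ≫ T.hom) ⟶ T) g' ((Sieve.overEquiv_iff R f).1 hf)
    show (x (Over.homMk (g ≫ f) : Over.mk ((g ≫ f) ≫ T.hom) ⟶ T) _).1 =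
      F.map g.op (x (Over.homMk f : Over.mk (f ≫ T.hom) ⟶ T) _).1
    rw [h2 _ _ e _ (R.downward_closed ((Sieve.overEquiv_iff R f).1 hf) g'), h3]
    rfl
  obtain ⟨t, ht, -⟩ := hF _ hR' x' hx'
  have hφt : (φ.app (op T.left) t : T.left ⟶ S) = T.hom := by
    refine (hS _ hR').isSeparatedFor.ext ?_
    intro Z f hf
    show f ≫ (φ.app (op T.left) t : T.left ⟶ S) = f ≫ T.hom
    rw [← φ_map, ht f hf]
    exact (x (Over.homMk f : Over.mk (f ≫ T.hom) ⟶ T) ((Sieve.overEquiv_iff R f).1 hf)).2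
  refine ⟨⟨t, hφt⟩, ?_⟩
  intro Z g hg
  apply Subtype.ext
  show F.map g.left.op t = (x g hg).1
  let e : Over.mk (g.left ≫ T.hom) ⟶ Z := Over.homMk (𝟙 _) (by simp)
  have he : (Over.homMk g.left : Over.mk (g.left ≫ T.hom) ⟶ T) = e ≫ g := by
    ext; simp [e]
  have hR1 : R (e ≫ g) := R.downward_closed hg e
  have hR2 : R (Over.homMk g.left : Over.mk (g.left ≫ T.hom) ⟶ T) := by rw [he]; exact hR1
  have hgl : Sieve.overEquiv T R g.left := (Sieve.overEquiv_iff R g.left).2 hR2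
  have h4 : F.map g.left.op t =
      (x (Over.homMk g.left : Over.mk (g.left ≫ T.hom) ⟶ T) hR2).1 := ht g.left hgl
  rw [h4, h2 _ _ he hR2 hR1, hxs g e hg]
  show F.map (𝟙 Z.left).op (x g hg).1 = (x g hg).1
  rw [op_id, F.map_id]
  rfl

lemma isSheaf_of_relPsh (hS : Presieve.IsSheaf J (yoneda.obj S))
    (hG : Presieve.IsSheaf (J.over S) (relPsh φ)) : Presieve.IsSheaf J F := by
  intro X R hR
  rw [← Presieve.isSeparatedFor_and_exists_isAmalgamation_iff_isSheafFor]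
  refine ⟨isSeparated_of_relPsh J φ hS hG.isSeparated R hR, ?_⟩
  intro x hx
  have hxs := (Presieve.compatible_iff_sieveCompatible x).1 hx
  obtain ⟨a, ha, -⟩ := hS R hR (x.map φ) (hx.map φ)
  let T : Over S := Over.mk (a : X ⟶ S)
  have hR' : (Sieve.overEquiv T).symm R ∈ (J.over S) T := J.overEquiv_symm_mem_over T R hR
  let y : Presieve.FamilyOfElements (relPsh φ) ((Sieve.overEquiv T).symm R).arrows :=
    fun Z g hg => ⟨x g.left hg, by
      have h1 : g.left ≫ (a : X ⟶ S) = (φ.app (op Z.left) (x g.left hg) : Z.left ⟶ S) :=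
        ha g.left hg
      exact h1.symm.trans (Over.w g)⟩
  have hy : y.Compatible := by
    rw [Presieve.compatible_iff_sieveCompatible]
    intro Z W g h hg
    apply Subtype.ext
    exact hxs g.left h.left hg
  obtain ⟨t', ht', -⟩ := hG _ hR' y hy
  refine ⟨t'.1, ?_⟩
  intro Y f hf
  have h5 := ht' (Over.homMk f : Over.mk (f ≫ (a : X ⟶ S)) ⟶ T) hf
  exact congrArg Subtype.val h5

theorem main (hS : Presieve.IsSheaf J (yoneda.obj S)) :
    (Presieve.IsSeparated (J.over S) (ShfCat.relPsh φ) ↔ Presieve.IsSeparated J F) ∧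
    (Presieve.IsSheaf (J.over S) (ShfCat.relPsh φ) ↔ Presieve.IsSheaf J F) :=
  ⟨⟨isSeparated_of_relPsh J φ hS, isSeparated_relPsh J φ⟩,
    ⟨isSheaf_of_relPsh J φ hS, isSheaf_relPsh J φ hS⟩⟩

end Groth.Agent.Lib.RelPsh_helper7
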