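import Mathlib
import Groth.Prelude.Def_CInt
import Groth.Agent.Lib.SchDenseExt_helper4
import Groth.Agent.Lib.GrpFlatHom_helper4

set_option autoImplicit false
set_option linter.style.haveILetI false

universe u

open CategoryTheory CategoryTheory.Limits AlgebraicGeometry MonoidalCategory
  CartesianMonoidalCategory MonObj

namespace Groth.Agent.Lib.RelSchDenseH4

open Groth.Agent.Lib.SchDenseExtH4

theorem dense_of_isSchematicallyDense {X : Scheme.{u}} (D : X.Opens)
    (hD : CInt.IsSchematicallyDense D) : Dense (D : Set X) := by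
  rw [dense_iff_inter_open]
  intro V hV hne
  by_contra hcon
  rw [Set.not_nonempty_iff_eq_empty] at hcon
  let V' : X.Opens := ⟨V, hV⟩
  have hbot : V' ⊓ D = ⊥ := by
    apply TopologicalSpace.Opens.ext
    exact hcon
  have hinj := hD V'
  haveI : Nonempty V' := ⟨⟨hne.some, hne.some_mem⟩⟩
  haveI : Nontrivial Γ(X, V') := inferInstance
  haveI hsub : Subsingleton Γ(X, V' ⊓ D) := by rw [hbot]; infer_instance
  exact not_subsingleton Γ(X, V') hinj.subsingleton

theorem schDominant_of_rel {S : Scheme.{u}} (X : Over S) (U : X.left.Opens)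
    (hU : CInt.IsSchematicallyDense ((pullback.fst X.hom (𝟙 S)) ⁻¹ᵁ U)) :
    IsSchemeTheoreticallyDominant U.ι := by
  haveI : IsIso (pullback.fst X.hom (𝟙 S)) := inferInstance
  haveI := isSchemeTheoreticallyDominant_of_isSchematicallyDense _ hU
  haveI : IsSchemeTheoreticallyDominant
      (((pullback.fst X.hom (𝟙 S)) ⁻¹ᵁ U).ι ≫ pullback.fst X.hom (𝟙 S)) := inferInstance
  refine ⟨?_⟩
  rw [eq_bot_iff]
  calc U.ι.ker ≤ ((pullback.fst X.hom (𝟙 S) ∣_ U) ≫ U.ι).ker := Scheme.Hom.le_ker_comp _ _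
    _ = (((pullback.fst X.hom (𝟙 S)) ⁻¹ᵁ U).ι ≫ pullback.fst X.hom (𝟙 S)).ker := by
        rw [morphismRestrict_ι]
    _ = ⊥ := IsSchemeTheoreticallyDominant.ker_eq_bot _

set_option maxHeartbeats 1600000 in
theorem main5434 (S : Scheme.{u}) (X Y : Over S) (U : X.left.Opens)
    (hU : (∀ (S' : Scheme.{u}) (g : S' ⟶ S),
      CInt.IsSchematicallyDense ((pullback.fst X.hom g) ⁻¹ᵁ U)))
    (hY : ∀ s : S, IsSeparated (pullback.snd Y.hom (S.fromSpecResidueField s)))
    (f g : X ⟶ Y) (h : U.ι ≫ f.left = U.ι ≫ g.left) : f = g := by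
  apply Over.OverMorphism.ext
  have hfib : ∀ s : S, pullback.fst X.hom (S.fromSpecResidueField s) ≫ f.left =
      pullback.fst X.hom (S.fromSpecResidueField s) ≫ g.left := by
    intro s
    obtain ⟨ks, hks⟩ : ∃ ks : Spec (S.residueField s) ⟶ S, ks = S.fromSpecResidueField s :=
      ⟨_, rfl⟩
    rw [← hks]
    haveI := isSchemeTheoreticallyDominant_of_isSchematicallyDense _ (hU _ ks)
    haveI : IsSeparated (pullback.snd Y.hom ks) := by rw [hks]; exact hY s
    have cf : (pullback.fst X.hom ks ≫ f.left) ≫ Y.hom = pullback.snd X.hom ks ≫ ks := by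
      rw [Category.assoc, Over.w f]; exact pullback.condition
    have cg : (pullback.fst X.hom ks ≫ g.left) ≫ Y.hom = pullback.snd X.hom ks ≫ ks := by
      rw [Category.assoc, Over.w g]; exact pullback.condition
    have key : pullback.lift (pullback.fst X.hom ks ≫ f.left) (pullback.snd X.hom ks) cf =
        pullback.lift (pullback.fst X.hom ks ≫ g.left) (pullback.snd X.hom ks) cg := by
      refine ext_of_schDominant_of_isSeparated (pullback.snd Y.hom ks) ?_
        ((pullback.fst X.hom ks) ⁻¹ᵁ U).ι ?_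
      · rw [pullback.lift_snd, pullback.lift_snd]
      · apply pullback.hom_ext
        · rw [Category.assoc, Category.assoc, pullback.lift_fst, pullback.lift_fst]
          have e : ((pullback.fst X.hom ks) ⁻¹ᵁ U).ι ≫ pullback.fst X.hom ks =
              (pullback.fst X.hom ks ∣_ U) ≫ U.ι := (morphismRestrict_ι _ U).symm
          rw [← Category.assoc, ← Category.assoc, e, Category.assoc, Category.assoc, h]
        · rw [Category.assoc, Category.assoc, pullback.lift_snd, pullback.lift_snd]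
    have := congrArg (fun k => k ≫ pullback.fst Y.hom ks) key
    simpa only [pullback.lift_fst] using this
  have hpt : ∀ x : X.left, X.left.fromSpecResidueField x ≫ f.left =
      X.left.fromSpecResidueField x ≫ g.left := by
    intro x
    have e := Scheme.Hom.SpecMap_residueFieldMap_fromSpecResidueField X.hom x
    have e1 : pullback.lift (X.left.fromSpecResidueField x) (Spec.map (X.hom.residueFieldMap x))
        e.symm ≫ pullback.fst X.hom (S.fromSpecResidueField (X.hom x)) =
        X.left.fromSpecResidueField x := pullback.lift_fst _ _ _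
    rw [← e1, Category.assoc, Category.assoc, hfib]
  have hsurj : Set.range (equalizer.ι f.left g.left) = Set.univ := by
    rw [Set.eq_univ_iff_forall]
    intro x
    refine ⟨(equalizer.lift _ (hpt x)) (IsLocalRing.closedPoint _), ?_⟩
    rw [← Scheme.Hom.comp_apply, equalizer.lift_ι]
    exact Scheme.fromSpecResidueField_apply _ _
  haveI : IsClosedImmersion (equalizer.ι f.left g.left) :=
    IsClosedImmersion.of_isPreimmersion _ (by rw [hsurj]; exact isClosed_univ)
  haveI : IsSchemeTheoreticallyDominant U.ι := schDominant_of_rel X U (hU S (𝟙 S))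
  have hker : (equalizer.ι f.left g.left).ker = ⊥ := by
    rw [eq_bot_iff]
    calc (equalizer.ι f.left g.left).ker
        ≤ (equalizer.lift U.ι h ≫ equalizer.ι f.left g.left).ker := Scheme.Hom.le_ker_comp _ _
      _ = U.ι.ker := by rw [equalizer.lift_ι]
      _ = ⊥ := IsSchemeTheoreticallyDominant.ker_eq_bot _
  haveI : IsIso (equalizer.ι f.left g.left) := IsClosedImmersion.isIso_iff_ker_eq_bot.mpr hker
  rw [← cancel_epi (equalizer.ι f.left g.left)]
  exact equalizer.condition _ _

set_option maxHeartbeats 1600000 in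
theorem core' {S : Scheme.{u}} (G : Over S) [GrpObj G]
    (U V : G.left.Opens) (g : G.left)
    (hU : Dense ((pullback.fst G.hom (G.left.fromSpecResidueField g ≫ G.hom)) ⁻¹'
      (U : Set G.left)))
    (hV : Dense ((pullback.fst G.hom (G.left.fromSpecResidueField g ≫ G.hom)) ⁻¹'
      (V : Set G.left))) :
    ∃ z : ↥(G ⊗ G).left, (fst G G).left z ∈ U ∧ (snd G G).left z ∈ V ∧ μ[G].left z = g := by
  let Kobj : Over S := Over.mk (G.left.fromSpecResidueField g ≫ G.hom)
  let c0 : Kobj ⟶ G := Over.homMk (G.left.fromSpecResidueField g) rfl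
  let T : Over S := G ⊗ Kobj
  let p : T ⟶ G := fst G Kobj
  let q : T ⟶ Kobj := snd G Kobj
  let cc : T ⟶ G := q ≫ c0
  let θ : T ⟶ G := p⁻¹ * cc
  let τ : T ⟶ T := lift θ q
  let τ' : T ⟶ T := lift (cc * p⁻¹) q
  have hτp : τ ≫ p = θ := lift_fst _ _
  have hτq : τ ≫ q = q := lift_snd _ _
  have hτcc : τ ≫ cc = cc := by
    show τ ≫ q ≫ c0 = q ≫ c0
    rw [← Category.assoc, hτq]
  have hτ'p : τ' ≫ p = cc * p⁻¹ := lift_fst _ _
  have hτ'q : τ' ≫ q = q := lift_snd _ _
  have hτ'cc : τ' ≫ cc = cc := by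
    show τ' ≫ q ≫ c0 = q ≫ c0
    rw [← Category.assoc, hτ'q]
  have hττ' : τ ≫ τ' = 𝟙 T := by
    apply CartesianMonoidalCategory.hom_ext
    · rw [Category.assoc, lift_fst, MonObj.comp_mul, GrpObj.comp_inv, hτcc, hτp, Category.id_comp]
      show cc * (p⁻¹ * cc)⁻¹ = p
      group
    · rw [Category.assoc, lift_snd, hτq, Category.id_comp]
  have hτ'τ : τ' ≫ τ = 𝟙 T := by
    apply CartesianMonoidalCategory.hom_ext
    · rw [Category.assoc, lift_fst, Category.id_comp]
      show τ' ≫ (p⁻¹ * cc) = p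
      rw [MonObj.comp_mul, GrpObj.comp_inv, hτ'cc, hτ'p]
      group
    · rw [Category.assoc, lift_snd, hτ'q, Category.id_comp]
  haveI : IsIso τ := ⟨τ', hττ', hτ'τ⟩
  haveI : IsIso τ.left := inferInstanceAs (IsIso ((Over.forget _).map τ))
  have hτ_open : IsOpenMap τ.left := τ.left.isOpenEmbedding.isOpenMap
  have hθ : τ.left ≫ p.left = θ.left := by rw [← Over.comp_left, hτp]
  have hA : Dense (p.left ⁻¹' (U : Set G.left)) := hU
  have hB : Dense (θ.left ⁻¹' (V : Set G.left)) := by
    have : θ.left ⁻¹' (V : Set G.left) = τ.left ⁻¹' (p.left ⁻¹' (V : Set G.left)) := by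
      rw [← hθ]; rfl
    rw [this]
    exact Dense.preimage (s := p.left ⁻¹' (V : Set G.left)) hV hτ_open
  have hBo : IsOpen (θ.left ⁻¹' (V : Set G.left)) := V.2.preimage θ.left.continuous
  haveI : Nonempty T.left :=
    ⟨(lift c0 (𝟙 Kobj)).left (IsLocalRing.closedPoint (G.left.residueField g))⟩
  obtain ⟨z, hzA, hzB⟩ := (hA.inter_of_isOpen_right hB hBo).nonempty
  have e1 : (lift p θ).left ≫ (fst G G).left = p.left := by rw [← Over.comp_left, lift_fst]
  have e2 : (lift p θ).left ≫ (snd G G).left = θ.left := by rw [← Over.comp_left, lift_snd]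
  have e3 : (lift p θ).left ≫ μ[G].left = q.left ≫ c0.left := by
    rw [← Over.comp_left, ← Over.comp_left, ← Hom.mul_def]
    congr 1
    show p * (p⁻¹ * cc) = cc
    group
  refine ⟨(lift p θ).left z, ?_, ?_, ?_⟩
  · show (fst G G).left ((lift p θ).left z) ∈ (U : Set G.left)
    rw [← Scheme.Hom.comp_apply, e1]
    exact hzA
  · show (snd G G).left ((lift p θ).left z) ∈ (V : Set G.left)
    rw [← Scheme.Hom.comp_apply, e2]
    exact hzB
  · rw [← Scheme.Hom.comp_apply, e3, Scheme.Hom.comp_apply]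
    exact Scheme.fromSpecResidueField_apply _ _

set_option maxHeartbeats 1600000 in
theorem main5435 (S : Scheme.{u}) (G H : Over S) [GrpObj G] [GrpObj H] [Flat G.hom]
    [LocallyOfFinitePresentation G.hom]
    (U : G.left.Opens) (hU : (∀ (S' : Scheme.{u}) (g : S' ⟶ S),
      CInt.IsSchematicallyDense ((pullback.fst G.hom g) ⁻¹ᵁ U)))
    (f g : G ⟶ H) [IsMonHom f] [IsMonHom g] (h : U.ι ≫ f.left = U.ι ≫ g.left) : f = g := by
  let Uobj : Over S := Over.mk (U.ι ≫ G.hom)
  let jU : Uobj ⟶ G := Over.homMk U.ι rfl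
  have hj : jU ≫ f = jU ≫ g := by
    apply Over.OverMorphism.ext
    exact h
  let m : Uobj ⊗ Uobj ⟶ G := (jU ⊗ₘ jU) ≫ μ[G]
  have hm : m ≫ f = m ≫ g := by
    show ((jU ⊗ₘ jU) ≫ μ[G]) ≫ f = ((jU ⊗ₘ jU) ≫ μ[G]) ≫ g
    rw [Category.assoc, Category.assoc, IsMonHom.mul_hom, IsMonHom.mul_hom, ← Category.assoc,
      ← Category.assoc, tensorHom_comp_tensorHom, tensorHom_comp_tensorHom, hj]
  -- flatness
  haveI : IsOpenImmersion jU.left := inferInstanceAs (IsOpenImmersion U.ι)
  haveI : IsOpenImmersion (jU ⊗ₘ jU).left := by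
    rw [Over.tensorHom_left]
    infer_instance
  haveI : IsIso (Groth.Agent.Lib.GrpFlatHomH4.sG G) :=
    ⟨Groth.Agent.Lib.GrpFlatHomH4.sGinv G, Groth.Agent.Lib.GrpFlatHomH4.sG_sGinv,
      Groth.Agent.Lib.GrpFlatHomH4.sGinv_sG⟩
  haveI : IsIso (Groth.Agent.Lib.GrpFlatHomH4.sG G).left :=
    inferInstanceAs (IsIso ((Over.forget S).map (Groth.Agent.Lib.GrpFlatHomH4.sG G)))
  have hμ : μ[G] = Groth.Agent.Lib.GrpFlatHomH4.sG G ≫ snd G G := by
    unfold Groth.Agent.Lib.GrpFlatHomH4.sG
    rw [lift_snd, Hom.mul_def, lift_fst_snd, Category.id_comp]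
  haveI : Flat (snd G G).left := (inferInstance : Flat (pullback.snd G.hom G.hom))
  haveI : Flat μ[G].left := by
    rw [hμ, Over.comp_left]; infer_instance
  haveI : Flat m.left := by
    show Flat ((jU ⊗ₘ jU) ≫ μ[G]).left
    rw [Over.comp_left]; infer_instance
  -- surjectivity
  haveI : Surjective m.left := by
    refine ⟨fun x => ?_⟩
    have hd := dense_of_isSchematicallyDense _
      (hU _ (G.left.fromSpecResidueField x ≫ G.hom))
    obtain ⟨z, hz1, hz2, hz3⟩ := core' G U U x hd hd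
    have hrange : Set.range (jU ⊗ₘ jU).left = (fst G G).left ⁻¹' Set.range jU.left ∩
        (snd G G).left ⁻¹' Set.range jU.left :=
      Scheme.Pullback.range_map (f := Uobj.hom) (g := Uobj.hom) G.hom G.hom jU.left jU.left
        (𝟙 S) (by simp) (by simp)
    have hjr : Set.range jU.left = (U : Set G.left) := Scheme.Opens.range_ι U
    have hz : z ∈ Set.range (jU ⊗ₘ jU).left := by
      rw [hrange, hjr]; exact ⟨hz1, hz2⟩
    obtain ⟨w, rfl⟩ := hz
    refine ⟨w, ?_⟩
    show ((jU ⊗ₘ jU) ≫ μ[G]).left w = x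
    rw [Over.comp_left, Scheme.Hom.comp_apply]
    exact hz3
  haveI : Epi m.left := Flat.epi_of_flat_of_surjective m.left
  apply Over.OverMorphism.ext
  rw [← cancel_epi m.left, ← Over.comp_left, ← Over.comp_left, hm]

end Groth.Agent.Lib.RelSchDenseH4
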