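import Mathlib
import Groth.Prelude
import Groth.Agent.Lib.SerreQS_helper5
import Groth.Agent.Lib.ProjMorph1_helper5
import Groth.Agent.Lib.GrTwMul_helper5
import Groth.Agent.Lib.GrTwO_helper5
import Groth.Agent.Lib.Tens29_helper8

/-!
# Serre's theorem on a relative `Proj`: `p^* p_* F(n) ⟶ F(n)` is an epimorphism for `n` large
(helper5).  APPEND-ONLY once landed.
-/

set_option autoImplicit false
universe u
open CategoryTheory CategoryTheory.Limits AlgebraicGeometry TopologicalSpace Opposite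
open QcqsLoc GenLocH8 TensH8 FLFH8 QCohExtn

namespace Groth.Agent.RelSerre

section
variable {Y P : Scheme.{u}} {𝒮 : RelProj.QCGrAlg Y} {p : P ⟶ Y}
  {chart : ∀ (U : Y.Opens) (hU : IsAffineOpen U),
    (((p ⁻¹ᵁ U : P.Opens) : Scheme.{u}) ≅ Proj (𝒮.deg U hU))}

/-- `O_P(m) ⊗ O_P(n) ≅ O_P(k)` for `k = m + n`, when `𝒮` is generated in degree one. -/
theorem mul_iso (hP : RelProj.IsRelProj 𝒮 p chart) (hgen : 𝒮.IsGenDegOne) {m n k : ℤ}
    (hk : k = m + n) {L : P.Modules}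
    {lam : ∀ (U : Y.Opens) (hU : IsAffineOpen U),
      L ⟶ (Scheme.Modules.pushforward (RelProj.emb p chart U hU)).obj
        (GrTwist.twist (𝒮.deg U hU) m)}
    (hL : RelProj.IsRelTwist 𝒮 p chart m L lam) {L' : P.Modules}
    {lam' : ∀ (U : Y.Opens) (hU : IsAffineOpen U),
      L' ⟶ (Scheme.Modules.pushforward (RelProj.emb p chart U hU)).obj
        (GrTwist.twist (𝒮.deg U hU) n)}
    (hL' : RelProj.IsRelTwist 𝒮 p chart n L' lam') {L'' : P.Modules}
    {lam'' : ∀ (U : Y.Opens) (hU : IsAffineOpen U),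
      L'' ⟶ (Scheme.Modules.pushforward (RelProj.emb p chart U hU)).obj
        (GrTwist.twist (𝒮.deg U hU) k)}
    (hL'' : RelProj.IsRelTwist 𝒮 p chart k L'' lam'') :
    Nonempty (CohB1.tensorMod L L' ≅ L'') := by
  subst hk
  haveI : IsIso (Groth.Agent.GrTw.mulBilinRel hL hL' hL'' hP).toHom := by
    apply Groth.Agent.GrTw.isIso_mulHomRel_of_cover hL hL' hL'' hP
    intro x
    obtain ⟨V, hV, hx, hxz⟩ := Groth.Agent.GrTw.exists_chart_point 𝒮 p chart x
    obtain ⟨g, hg, hgz⟩ := Groth.Agent.GrTw.exists_deg_one_not_mem (𝒮.deg V hV) (hgen V hV)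
      ((chart V hV).hom ⟨x, hx⟩)
    exact ⟨V, hV, 1, g, hg, m, n, by simp, by simp, ⟨_, hgz, hxz⟩⟩
  exact ⟨asIso (Groth.Agent.GrTw.mulBilinRel hL hL' hL'' hP).toHom⟩

/-- `O_P(1)^{⊗ k} ≅ O_P(k)`. -/
theorem tensorPow_iso (hP : RelProj.IsRelProj 𝒮 p chart) (hgen : 𝒮.IsGenDegOne)
    {L₁ : P.Modules}
    {lam₁ : ∀ (U : Y.Opens) (hU : IsAffineOpen U),
      L₁ ⟶ (Scheme.Modules.pushforward (RelProj.emb p chart U hU)).obj
        (GrTwist.twist (𝒮.deg U hU) 1)}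
    (hL₁ : RelProj.IsRelTwist 𝒮 p chart 1 L₁ lam₁) :
    ∀ (k : ℕ) {L : P.Modules}
      {lam : ∀ (U : Y.Opens) (hU : IsAffineOpen U),
        L ⟶ (Scheme.Modules.pushforward (RelProj.emb p chart U hU)).obj
          (GrTwist.twist (𝒮.deg U hU) (k : ℤ))}
      (_ : RelProj.IsRelTwist 𝒮 p chart (k : ℤ) L lam),
      Nonempty (CohB1.tensorPow L₁ k ≅ L) := by
  intro k
  induction k with
  | zero =>
    intro L lam hL
    have h0 := Groth.Agent.GrTw.isRelTwist_lamO (𝒮 := 𝒮) (p := p) (chart := chart) hP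
      (0 : ℤ) rfl
    obtain ⟨α⟩ := mul_iso hP hgen (m := 0) (n := 0) (k := ((0 : ℕ) : ℤ)) (by norm_num) h0 h0 hL
    exact ⟨(SecTwist.unitorR (Coh.structureModule P)).symm ≪≫ α⟩
  | succ k ih =>
    intro L lam hL
    obtain ⟨β⟩ := ih (Groth.Agent.RelTwEx.isRelTwist_relTwist hP (k : ℤ))
    obtain ⟨α⟩ := mul_iso hP hgen (m := (k : ℤ)) (n := 1) (k := ((k + 1 : ℕ) : ℤ))
      (by push_cast; ring) (Groth.Agent.RelTwEx.isRelTwist_relTwist hP (k : ℤ)) hL₁ hL
    exact ⟨PicGrp.tensorModIso β (Iso.refl L₁) ≪≫ α⟩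

/-- **Serre's theorem on a relative `Proj`** (base quasi-compact, `𝒮` generated by `𝒮_1` of finite
type): for `n` large the counit `p^* p_* (F ⊗ O_P(n)) ⟶ F ⊗ O_P(n)` is an epimorphism. -/
theorem exists_epi_counit [CompactSpace Y] (hP : RelProj.IsRelProj 𝒮 p chart)
    (hgen : 𝒮.IsGenDegOne) (hft : 𝒮.IsFTDeg 1) (F : P.Modules) (hFq : Coh.IsQCoh F)
    (hFt : CohB1.IsFT F) :
    ∃ n₀ : ℕ, ∀ (k : ℕ), n₀ ≤ k → ∀ (L : P.Modules)
      (lam : ∀ (U : Y.Opens) (hU : IsAffineOpen U),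
        L ⟶ (Scheme.Modules.pushforward (RelProj.emb p chart U hU)).obj
          (GrTwist.twist (𝒮.deg U hU) (k : ℤ))),
      RelProj.IsRelTwist 𝒮 p chart (k : ℤ) L lam →
        Epi ((Scheme.Modules.pullbackPushforwardAdjunction p).counit.app (CohB1.tensorMod F L)) := by
  classical
  haveI : F.IsQuasicoherent := hFq
  haveI : SheafOfModules.IsFiniteType (R := P.ringCatSheaf) F := hFt
  haveI : IsProper p := Groth.Agent.ProjMorph.isProper_relProj hP hgen hft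
  have hqc : QuasiCompact p := inferInstance
  -- `O_P(1)`
  have hL₁ := Groth.Agent.RelTwEx.isRelTwist_relTwist hP 1
  have hn : (1 : ℤ) = (1 : ℤ) * ((1 : ℕ) : ℤ) := by norm_num
  have hinv : PicF.IsInvertible (Groth.Agent.RelTwEx.relTwist hP 1) := by
    refine Groth.Agent.RelAmpD.isInvertible_of_cov (d := 1) one_pos 1 hn _ _ hL₁ (fun x => ?_)
    obtain ⟨V, hV, hxV, -⟩ := Opens.isBasis_iff_nbhd.mp Y.isBasis_affineOpens
      (Opens.mem_top (p.base x))
    exact ⟨V, hV, hxV, Groth.Agent.ProjMorph.cov_one hgen V hV⟩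
  have hamp : ∀ (V : Y.Opens), IsAffineOpen V →
      IsAmpleOn (Groth.Agent.RelTwEx.relTwist hP 1) (p ⁻¹ᵁ V) := fun V hV =>
    Groth.Agent.RelAmpD.isAmpleOn_preimage (d := 1) one_pos 1 hn _ _ hL₁ hinv V hV
      (Groth.Agent.ProjMorph.cov_one hgen V hV)
      ((quasiCompact_iff_forall_isAffineOpen.mp hqc) V hV)
  -- quasi-separatedness of the preimages of affine opens
  have hqs : ∀ (V : Y.Opens), IsAffineOpen V → IsQuasiSeparated ((p ⁻¹ᵁ V : P.Opens) : Set P) := by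
    intro V hV
    exact Scheme.Hom.isQuasiSeparated_preimage p hV.isQuasiSeparated
  -- finite affine cover of the base
  have key : ∀ y : Y, ∃ V : Y.Opens, IsAffineOpen V ∧ y ∈ V := fun y => by
    obtain ⟨V, hV, hyV, -⟩ := Opens.isBasis_iff_nbhd.mp Y.isBasis_affineOpens (Opens.mem_top y)
    exact ⟨V, hV, hyV⟩
  choose V hV hyV using key
  obtain ⟨Tf, hTf⟩ := isCompact_univ.elim_finite_subcover
    (fun y : Y => ((V y : Y.Opens) : Set Y)) (fun y => (V y).isOpen)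
    (fun y _ => Set.mem_iUnion.mpr ⟨y, hyV y⟩)
  have hgen' := fun y : Y => Groth.Agent.SerreQS.exists_gen_of_isAmpleOn' hinv F
    (hamp (V y) (hV y)) (hqs (V y) (hV y))
  choose n1 hn1 using hgen'
  refine ⟨Tf.sup n1, fun k hk L lam hL => ?_⟩
  obtain ⟨α⟩ := tensorPow_iso hP hgen hL₁ k hL
  apply epi_counit_of_span
  intro x
  obtain ⟨y, hyT, hxy⟩ := Set.mem_iUnion₂.mp (hTf (Set.mem_univ (p.base x)))
  refine ⟨V y, hxy, fun W hW z hxW => ?_⟩
  exact hn1 y k (le_trans (Finset.le_sup hyT) hk)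
    (TFrame.tensor ((Frame.pow (Groth.Agent.RelTwEx.relTwist hP 1) k).mapIso α) F) hW z x hxW

end

end Groth.Agent.RelSerre
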