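import Mathlib
import Groth.Prelude
import Groth.Agent.Lib.RelSerre1_helper5
import Groth.Agent.Lib.SubExt3_helper9
import Groth.Agent.Lib.CohOpen2_helper8
import Groth.Agent.Lib.Tens38_helper8
import Groth.Agent.Lib.TensorAssoc_helper2
import Groth.Agent.Lib.EpiLoc_helper9
import Groth.Agent.Lib.QCohFT_helper9
import Groth.Agent.Lib.QCohCrit_helper9
import Groth.Agent.Lib.ProjSerre2_helper5

/-!
# On a relative `Proj` over a qcqs base, `F` is a quotient of `p^*G ⊗ O_P(-n)` with `G` of finite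
type (helper5).  APPEND-ONLY once landed.
-/

set_option autoImplicit false
universe u
open CategoryTheory CategoryTheory.Limits AlgebraicGeometry TopologicalSpace Opposite
open QcqsLoc GenLocH8 TensH8 FLFH8 QCohExtn

namespace Groth.Agent.RelSerre

section General
variable {X : Scheme.{u}}

/-- A binary biproduct of quasi-coherent modules of finite type is of finite type. -/
theorem isFiniteType_biprod (F₁ F₂ : X.Modules) [F₁.IsQuasicoherent] [F₂.IsQuasicoherent]
    (h₁ : SheafOfModules.IsFiniteType (R := X.ringCatSheaf) F₁)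
    (h₂ : SheafOfModules.IsFiniteType (R := X.ringCatSheaf) F₂) :
    SheafOfModules.IsFiniteType (R := X.ringCatSheaf) (F₁ ⊞ F₂) := by
  haveI hq : (F₁ ⊞ F₂ : X.Modules).IsQuasicoherent := CohOpenH8.isQuasicoherent_biprod F₁ F₂
  refine QCohCrit.isFiniteType_of_sections_cover (F₁ ⊞ F₂) (fun V : X.affineOpens => (V : X.Opens))
    (fun V => V.2) (iSup_affineOpens_eq_top X) (fun V => ?_)
  haveI := QCohFT.finite_of_isFiniteType F₁ V.2
  haveI := QCohFT.finite_of_isFiniteType F₂ V.2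
  let lin : (Γ(F₁, (V : X.Opens)) × Γ(F₂, (V : X.Opens))) →ₗ[Γ(X, (V : X.Opens))]
      Γ(F₁ ⊞ F₂, (V : X.Opens)) :=
    { toFun := fun ab => ap (biprod.inl : F₁ ⟶ F₁ ⊞ F₂) V ab.1 +
        ap (biprod.inr : F₂ ⟶ F₁ ⊞ F₂) V ab.2
      map_add' := fun a b => by
        simp only [Prod.fst_add, Prod.snd_add, map_add]
        abel
      map_smul' := fun r a => by
        simp only [Prod.smul_fst, Prod.smul_snd, RingHom.id_apply, smul_add]
        rw [ap_smul, ap_smul] }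
  refine Module.Finite.of_surjective lin ?_
  intro x
  refine ⟨(ap (biprod.fst : F₁ ⊞ F₂ ⟶ F₁) V x, ap (biprod.snd : F₁ ⊞ F₂ ⟶ F₂) V x), ?_⟩
  have h := congrArg (fun φ : F₁ ⊞ F₂ ⟶ F₁ ⊞ F₂ => ap φ (V : X.Opens) x)
    (biprod.total (X := F₁) (Y := F₂))
  exact h

theorem isFiniteType_OO : SheafOfModules.IsFiniteType (R := X.ringCatSheaf)
    (Coh.structureModule X) := by
  haveI : (Coh.structureModule X).IsQuasicoherent := SerreCrit.isQuasicoherent_OO
  exact QCohCrit.isFiniteType_of_sections_cover _ (fun U : X.affineOpens => (U : X.Opens))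
    (fun U => U.2) (iSup_affineOpens_eq_top X)
    (fun U => inferInstanceAs (Module.Finite Γ(X, (U : X.Opens)) Γ(X, (U : X.Opens))))

/-- On a qcqs scheme, finitely many local sections (over affine opens) of a quasi-coherent module
all come from a single quasi-coherent module of finite type mapping to it. -/
theorem exists_ft_family [CompactSpace X] [QuasiSeparatedSpace X] (G₀ : X.Modules)
    [G₀.IsQuasicoherent] (l : List (Σ V : X.affineOpens, Γ(G₀, (V : X.Opens)))) :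
    ∃ (G : X.Modules) (i : G ⟶ G₀), G.IsQuasicoherent ∧
      SheafOfModules.IsFiniteType (R := X.ringCatSheaf) G ∧
      ∀ a ∈ l, ∃ g : Γ(G, (a.1 : X.Opens)), ap i (a.1 : X.Opens) g = a.2 := by
  induction l with
  | nil =>
    exact ⟨Coh.structureModule X, 0, SerreCrit.isQuasicoherent_OO, isFiniteType_OO,
      fun a ha => absurd ha (List.not_mem_nil)⟩
  | cons a l ih =>
    obtain ⟨G, i, hGq, hGt, hG⟩ := ih
    obtain ⟨G₁, i₁, -, hG₁q, hG₁t, g₁, hg₁⟩ := SubExt.exists_ft_sub_section G₀ a.1.2 a.2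
    haveI := hGq
    haveI := hG₁q
    refine ⟨G ⊞ G₁, biprod.desc i i₁, CohOpenH8.isQuasicoherent_biprod G G₁,
      isFiniteType_biprod G G₁ hGt hG₁t, ?_⟩
    intro b hb
    rcases List.mem_cons.mp hb with rfl | hb
    · refine ⟨ap (biprod.inr : G₁ ⟶ G ⊞ G₁) _ g₁, ?_⟩
      have h := congrArg (fun φ : G₁ ⟶ G₀ => ap φ (b.1 : X.Opens) g₁)
        (biprod.inr_desc i i₁)
      exact h.trans hg₁
    · obtain ⟨g, hg⟩ := hG b hb
      refine ⟨ap (biprod.inl : G ⟶ G ⊞ G₁) _ g, ?_⟩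
      have h := congrArg (fun φ : G ⟶ G₀ => ap φ (b.1 : X.Opens) g)
        (biprod.inl_desc i i₁)
      exact h.trans hg

end General

section SpanOn
variable {X : Scheme.{u}}

/-- The submodule of `Γ(H, W)` spanned by the restrictions of the sections in `S ⊆ Γ(H, Q)`. -/
noncomputable def spanOn (H : X.Modules) {Q : X.Opens} (S : Set Γ(H, Q)) {W : X.Opens}
    (hW : W ≤ Q) : Submodule Γ(X, W) Γ(H, W) :=
  Submodule.span Γ(X, W) ((fun y : Γ(H, Q) => rF H hW y) '' S)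

theorem spanOn_mono (H : X.Modules) {Q : X.Opens} {S S' : Set Γ(H, Q)} (h : S ⊆ S')
    {W : X.Opens} (hW : W ≤ Q) : spanOn H S hW ≤ spanOn H S' hW :=
  Submodule.span_mono (Set.image_mono h)

theorem spanOn_res (H : X.Modules) {Q : X.Opens} (S : Set Γ(H, Q)) {W W' : X.Opens}
    (hW : W ≤ Q) (h : W' ≤ W) {t : Γ(H, W)} (ht : t ∈ spanOn H S hW) :
    rF H h t ∈ spanOn H S (h.trans hW) := by
  unfold spanOn at ht ⊢
  induction ht using Submodule.span_induction with
  | mem y hy =>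
    obtain ⟨s, hs, rfl⟩ := hy
    exact Submodule.subset_span ⟨s, hs, (rF_rF H h hW s).symm⟩
  | zero => rw [map_zero]; exact zero_mem _
  | add a a' _ _ ha ha' => rw [map_add]; exact add_mem ha ha'
  | smul r a _ ha => rw [rF_smul]; exact Submodule.smul_mem _ _ ha

/-- Near any point of `Q`, finitely many sections over `Q` suffice. -/
theorem spanOn_finite_nhd (H : X.Modules) [H.IsQuasicoherent]
    [SheafOfModules.IsFiniteType (R := X.ringCatSheaf) H] (Q : X.Opens)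
    (hloc : ∀ (W : X.Opens) (hW : W ≤ Q) (z : Γ(H, W)) (x : X), x ∈ W →
      ∃ (W' : X.Opens) (h' : W' ≤ W), x ∈ W' ∧
        rF H h' z ∈ spanOn H (Set.univ : Set Γ(H, Q)) (h'.trans hW))
    (x : X) (hx : x ∈ Q) :
    ∃ (W : X.Opens) (hWQ : W ≤ Q) (J : Finset Γ(H, Q)), x ∈ W ∧
      ∀ (O : X.Opens) (hO : O ≤ W) (t : Γ(H, O)) (y : X), y ∈ O →
        ∃ (O' : X.Opens) (h' : O' ≤ O), y ∈ O' ∧
          rF H h' t ∈ spanOn H (J : Set Γ(H, Q)) ((h'.trans hO).trans hWQ) := by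
  classical
  obtain ⟨_, ⟨U, hU : IsAffineOpen U, rfl⟩, hxU, hUQ⟩ :=
    (X.isBasis_affineOpens).exists_subset_of_mem_open (show x ∈ (Q : Set X) from hx) Q.isOpen
  have hxU' : x ∈ U := hxU
  have hUQ' : U ≤ Q := hUQ
  haveI := QCohFT.finite_of_isFiniteType H hU
  obtain ⟨G, hG⟩ := (Module.Finite.fg_top : (⊤ : Submodule Γ(X, U) Γ(H, U)).FG)
  have key : ∀ z : Γ(H, U), ∃ (W' : X.Opens) (h : W' ≤ U) (Jz : Finset Γ(H, Q)), x ∈ W' ∧
      rF H h z ∈ spanOn H (Jz : Set Γ(H, Q)) (h.trans hUQ') := by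
    intro z
    obtain ⟨W', h, hxW', hmem⟩ := hloc U hUQ' z x hxU'
    unfold spanOn at hmem
    rw [Set.image_univ, Finsupp.mem_span_range_iff_exists_finsupp] at hmem
    obtain ⟨c, hc⟩ := hmem
    refine ⟨W', h, c.support, hxW', ?_⟩
    rw [← hc]
    unfold spanOn
    exact Submodule.sum_mem _ (fun i hi => Submodule.smul_mem _ _
      (Submodule.subset_span ⟨i, Finset.mem_coe.mpr hi, rfl⟩))
  choose W' hW' Jz hxW' hmem using key
  let W0 : X.Opens := ⟨⋂ z ∈ G, (W' z : Set X), isOpen_biInter_finset (fun z _ => (W' z).isOpen)⟩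
  have hW0 : ∀ z ∈ G, W0 ≤ W' z := fun z hz y hy => Set.mem_iInter₂.mp hy z hz
  refine ⟨W0 ⊓ U, inf_le_right.trans hUQ', G.biUnion Jz,
    ⟨Set.mem_iInter₂.mpr (fun z _ => hxW' z), hxU'⟩, ?_⟩
  intro O hO t y hy
  have hOU : O ≤ U := hO.trans inf_le_right
  obtain ⟨b, hbO, hyb⟩ := hU.exists_basicOpen_le ⟨y, hy⟩ (hOU hy)
  have hbQ : X.basicOpen b ≤ Q := (X.basicOpen_le b).trans hUQ'
  have hspan : ∀ m : Γ(H, U), rF H (X.basicOpen_le b) m ∈
      spanOn H ((G.biUnion Jz : Finset Γ(H, Q)) : Set Γ(H, Q)) hbQ := by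
    intro m
    have hmG : m ∈ Submodule.span Γ(X, U) (G : Set Γ(H, U)) := hG ▸ Submodule.mem_top
    induction hmG using Submodule.span_induction with
    | mem z hz =>
      have hle : X.basicOpen b ≤ W' z := (hbO.trans (hO.trans inf_le_left)).trans (hW0 z hz)
      have h1 := spanOn_res H (Jz z : Set Γ(H, Q)) ((hW' z).trans hUQ') hle (hmem z)
      rw [rF_rF] at h1
      refine spanOn_mono H ?_ _ h1
      intro i hi
      exact Finset.mem_coe.mpr (Finset.mem_biUnion.mpr ⟨z, hz, Finset.mem_coe.mp hi⟩)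
    | zero => rw [map_zero]; exact zero_mem _
    | add a a' _ _ ha ha' => rw [map_add]; exact add_mem ha ha'
    | smul r a _ ha => rw [rF_smul]; exact Submodule.smul_mem _ _ ha
  have hD := QCohCrit.locOnU_of_isQuasicoherent H hU b
  obtain ⟨n, m, hm⟩ := hD.surj (rF H hbO t)
  refine ⟨X.basicOpen b, hbO, hyb, ?_⟩
  have hunit : IsUnit (rX (X.basicOpen_le b) b ^ n) :=
    (RingedSpace.isUnit_res_basicOpen _ b).pow n
  obtain ⟨u, hu⟩ := hunit
  have hm' : rX (X.basicOpen_le b) b ^ n • rF H hbO t = rF H (X.basicOpen_le b) m := hm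
  have ht : rF H hbO t = (↑u⁻¹ : Γ(X, X.basicOpen b)) • rF H (X.basicOpen_le b) m := by
    rw [← hm', ← hu, smul_smul, Units.inv_mul, one_smul]
  rw [ht]
  exact Submodule.smul_mem _ _ (hspan m)

/-- On a quasi-compact open `Q`, if a quasi-coherent module of finite type is generated by its
sections over `Q`, finitely many of them suffice. -/
theorem exists_finite_spanOn (H : X.Modules) [H.IsQuasicoherent]
    [SheafOfModules.IsFiniteType (R := X.ringCatSheaf) H] (Q : X.Opens)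
    (hQ : IsCompact (Q : Set X))
    (hloc : ∀ (W : X.Opens) (hW : W ≤ Q) (z : Γ(H, W)) (x : X), x ∈ W →
      ∃ (W' : X.Opens) (h' : W' ≤ W), x ∈ W' ∧
        rF H h' z ∈ spanOn H (Set.univ : Set Γ(H, Q)) (h'.trans hW)) :
    ∃ S : Finset Γ(H, Q), ∀ (W : X.Opens) (hW : W ≤ Q) (z : Γ(H, W)) (x : X), x ∈ W →
      ∃ (W' : X.Opens) (h' : W' ≤ W), x ∈ W' ∧
        rF H h' z ∈ spanOn H (S : Set Γ(H, Q)) (h'.trans hW) := by
  classical
  have key := fun x : Q => spanOn_finite_nhd H Q hloc x.1 x.2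
  choose W hWQ J hxW hW using key
  obtain ⟨T, hT⟩ := hQ.elim_finite_subcover (fun x : Q => ((W x : X.Opens) : Set X))
    (fun x => (W x).isOpen) (fun x hx => Set.mem_iUnion.mpr ⟨⟨x, hx⟩, hxW ⟨x, hx⟩⟩)
  refine ⟨T.biUnion J, ?_⟩
  intro O hO s x hx
  obtain ⟨x0, hx0T, hxx0⟩ := Set.mem_iUnion₂.mp (hT (hO hx))
  obtain ⟨O', hO', hxO', hmem⟩ := hW x0 (O ⊓ W x0) inf_le_right
    (rF H (inf_le_left : O ⊓ W x0 ≤ O) s) x ⟨hx, hxx0⟩
  refine ⟨O', hO'.trans inf_le_left, hxO', ?_⟩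
  rw [rF_rF] at hmem
  refine spanOn_mono H ?_ _ hmem
  intro i hi
  exact Finset.mem_coe.mpr (Finset.mem_biUnion.mpr ⟨x0, hx0T, Finset.mem_coe.mp hi⟩)

end SpanOn

section Adj
open PBH8
variable {X Y : Scheme.{u}} (f : X ⟶ Y)

/-- If every local section of `T` is locally a combination of the images under `i : G ⟶ f_* T` of
sections of `G` over opens of the base, then the adjoint `f^* G ⟶ T` of `i` is an epimorphism. -/
theorem epi_adj_of_span (T : X.Modules) {G : Y.Modules}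
    (i : G ⟶ (Scheme.Modules.pushforward f).obj T)
    (h : ∀ x : X, ∃ V : Y.Opens, f x ∈ V ∧ ∀ (W : X.Opens) (hW : W ≤ f ⁻¹ᵁ V) (z : Γ(T, W)),
      x ∈ W → ∃ (W' : X.Opens) (h' : W' ≤ W), x ∈ W' ∧ rF T h' z ∈ Submodule.span Γ(X, W')
        (Set.range fun y : Γ(G, V) => rF T (h'.trans hW)
          (show Γ(T, f ⁻¹ᵁ V) from ap i V y))) :
    Epi ((Scheme.Modules.pullback f).map i ≫
      (Scheme.Modules.pullbackPushforwardAdjunction f).counit.app T) := by
  apply epi_of_locally_surjective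
  intro U m x hx
  obtain ⟨V, hxV, hV⟩ := h x
  have hl : U ⊓ f ⁻¹ᵁ V ≤ U := inf_le_left
  have hr : U ⊓ f ⁻¹ᵁ V ≤ f ⁻¹ᵁ V := inf_le_right
  obtain ⟨W', h', hxW', hmem⟩ := hV (U ⊓ f ⁻¹ᵁ V) hr (rF T hl m) ⟨hx, hxV⟩
  refine ⟨W', h'.trans hl, hxW', ?_⟩
  let lin : Γ((Scheme.Modules.pullback f).obj G, W') →ₗ[Γ(X, W')] Γ(T, W') :=
    { toFun := ap ((Scheme.Modules.pullback f).map i ≫
        (Scheme.Modules.pullbackPushforwardAdjunction f).counit.app T) W'
      map_add' := map_add _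
      map_smul' := fun r z =>
        ap_smul ((Scheme.Modules.pullback f).map i ≫
          (Scheme.Modules.pullbackPushforwardAdjunction f).counit.app T) r z }
  have hle : Submodule.span Γ(X, W')
      (Set.range fun y : Γ(G, V) => rF T (h'.trans hr)
        (show Γ(T, f ⁻¹ᵁ V) from ap i V y)) ≤ LinearMap.range lin := by
    rw [Submodule.span_le]
    rintro _ ⟨y, rfl⟩
    refine ⟨cUV f G (h'.trans hr) y, ?_⟩
    show ap ((Scheme.Modules.pullbackPushforwardAdjunction f).counit.app T) W'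
      (ap ((Scheme.Modules.pullback f).map i) W' (cUV f G (h'.trans hr) y)) = _
    have h1 := cUV_naturality f i (h'.trans hr) y
    have h1' : ap ((Scheme.Modules.pullback f).map i) W' (cUV f G (h'.trans hr) y) =
        cUV f ((Scheme.Modules.pushforward f).obj T) (h'.trans hr) (ap i V y) := h1
    rw [h1']
    exact counit_cUV f T (h'.trans hr) (show Γ(T, f ⁻¹ᵁ V) from ap i V y)
  obtain ⟨z, hz⟩ := hle hmem
  refine ⟨z, ?_⟩
  have hz' : ap ((Scheme.Modules.pullback f).map i ≫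
      (Scheme.Modules.pullbackPushforwardAdjunction f).counit.app T) W' z =
      rF T h' (rF T hl m) := hz
  exact hz'.trans (rF_rF T h' hl m)

end Adj

section Tmap
variable {X : Scheme.{u}}

/-- Tensoring an epimorphism with an invertible module gives an epimorphism. -/
theorem epi_tmap {K N : X.Modules} (j : K ⟶ N) [Epi j] {M : X.Modules}
    (hM : PicF.IsInvertible M) : Epi (tmap j M) := by
  apply epi_of_locally_surjective
  intro U m x hx
  obtain ⟨W', -, hxW', hW'U, e, he⟩ := exists_isGen_le hM x U hx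
  obtain ⟨n, hn⟩ := tmulGen_surjective N M he le_rfl (rF _ hW'U m)
  obtain ⟨V, hV, hxV, k, hk⟩ := EpiLoc.exists_local_lift j n hxW'
  refine ⟨V, hV.trans hW'U, hxV, SecTwist.tmul K M V k (rF M hV e), ?_⟩
  rw [tmap_tmul]
  have hk' : ap j V k = rF N hV n := hk
  rw [hk', ← rF_tmul, ← rF_rF _ hV hW'U m, ← hn, SubExt.rF_self]

end Tmap

section Main
variable {Y P : Scheme.{u}} {𝒮 : RelProj.QCGrAlg Y} {p : P ⟶ Y}
  {chart : ∀ (U : Y.Opens) (hU : IsAffineOpen U),
    (((p ⁻¹ᵁ U : P.Opens) : Scheme.{u}) ≅ Proj (𝒮.deg U hU))}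

/-- Relative Serre generation, sections form, with an explicit finite affine cover of the base. -/
theorem exists_span_cover [CompactSpace Y] (hP : RelProj.IsRelProj 𝒮 p chart)
    (hgen : 𝒮.IsGenDegOne) (hft : 𝒮.IsFTDeg 1) (F : P.Modules) (hFq : Coh.IsQCoh F)
    (hFt : CohB1.IsFT F) :
    ∃ (n₀ : ℕ) (Tf : Finset Y) (V : Y → Y.Opens), (∀ y, IsAffineOpen (V y)) ∧
      (∀ y' : Y, ∃ y ∈ Tf, y' ∈ V y) ∧
      ∀ (k : ℕ), n₀ ≤ k → ∀ (L : P.Modules)
        (lam : ∀ (U : Y.Opens) (hU : IsAffineOpen U),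
          L ⟶ (Scheme.Modules.pushforward (RelProj.emb p chart U hU)).obj
            (GrTwist.twist (𝒮.deg U hU) (k : ℤ))),
        RelProj.IsRelTwist 𝒮 p chart (k : ℤ) L lam →
        ∀ y ∈ Tf, ∀ {W : P.Opens} (hW : W ≤ p ⁻¹ᵁ V y) (z : Γ(CohB1.tensorMod F L, W)) (x : P),
          x ∈ W → ∃ (W' : P.Opens) (h' : W' ≤ W), x ∈ W' ∧
            rF (CohB1.tensorMod F L) h' z ∈ Submodule.span Γ(P, W')
              (Set.range fun y' : Γ(CohB1.tensorMod F L, p ⁻¹ᵁ V y) =>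
                rF (CohB1.tensorMod F L) (h'.trans hW) y') := by
  classical
  haveI : F.IsQuasicoherent := hFq
  haveI : SheafOfModules.IsFiniteType (R := P.ringCatSheaf) F := hFt
  haveI : IsProper p := Groth.Agent.ProjMorph.isProper_relProj hP hgen hft
  have hqc : QuasiCompact p := inferInstance
  have hL₁ := Groth.Agent.RelTwEx.isRelTwist_relTwist hP 1
  have hn : (1 : ℤ) = (1 : ℤ) * ((1 : ℕ) : ℤ) := by norm_num
  have hinv : PicF.IsInvertible (Groth.Agent.RelTwEx.relTwist hP 1) := by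
    refine Groth.Agent.RelAmpD.isInvertible_of_cov (d := 1) one_pos 1 hn _ _ hL₁ (fun x => ?_)
    obtain ⟨V, hV, hxV, -⟩ := Opens.isBasis_iff_nbhd.mp Y.isBasis_affineOpens
      (Opens.mem_top (p.base x))
    exact ⟨V, hV, hxV, Groth.Agent.ProjMorph.cov_one hgen V hV⟩
  have hamp : ∀ (V : Y.Opens), IsAffineOpen V →
      IsAmpleOn (Groth.Agent.RelTwEx.relTwist hP 1) (p ⁻¹ᵁ V) := fun V hV =>
    Groth.Agent.RelAmpD.isAmpleOn_preimage (d := 1) one_pos 1 hn _ _ hL₁ hinv V hV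
      (Groth.Agent.ProjMorph.cov_one hgen V hV)
      ((quasiCompact_iff_forall_isAffineOpen.mp hqc) V hV)
  have hqs : ∀ (V : Y.Opens), IsAffineOpen V → IsQuasiSeparated ((p ⁻¹ᵁ V : P.Opens) : Set P) := by
    intro V hV
    exact Scheme.Hom.isQuasiSeparated_preimage p hV.isQuasiSeparated
  have key : ∀ y : Y, ∃ V : Y.Opens, IsAffineOpen V ∧ y ∈ V := fun y => by
    obtain ⟨V, hV, hyV, -⟩ := Opens.isBasis_iff_nbhd.mp Y.isBasis_affineOpens (Opens.mem_top y)
    exact ⟨V, hV, hyV⟩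
  choose V hV hyV using key
  obtain ⟨Tf, hTf⟩ := isCompact_univ.elim_finite_subcover
    (fun y : Y => ((V y : Y.Opens) : Set Y)) (fun y => (V y).isOpen)
    (fun y _ => Set.mem_iUnion.mpr ⟨y, hyV y⟩)
  have hgen' := fun y : Y => Groth.Agent.SerreQS.exists_gen_of_isAmpleOn' hinv F
    (hamp (V y) (hV y)) (hqs (V y) (hV y))
  choose n1 hn1 using hgen'
  refine ⟨Tf.sup n1, Tf, V, hV, fun y' => ?_, fun k hk L lam hL y hyT W hW z x hxW => ?_⟩
  · obtain ⟨y, hyT, hxy⟩ := Set.mem_iUnion₂.mp (hTf (Set.mem_univ y'))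
    exact ⟨y, hyT, hxy⟩
  · obtain ⟨α⟩ := tensorPow_iso hP hgen hL₁ k hL
    exact hn1 y k (le_trans (Finset.le_sup hyT) hk)
      (TFrame.tensor ((Frame.pow (Groth.Agent.RelTwEx.relTwist hP 1) k).mapIso α) F) hW z x hxW

set_option maxHeartbeats 1600000 in
/-- On a relative `Proj` over a quasi-compact quasi-separated base, a quasi-coherent module of
finite type is, for all large `n`, a quotient of `p^* G ⊗ O_P(-n)` with `G` quasi-coherent of
finite type. -/
theorem exists_quotient_twist [CompactSpace Y] [QuasiSeparatedSpace Y]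
    (hP : RelProj.IsRelProj 𝒮 p chart) (hgen : 𝒮.IsGenDegOne) (hft : 𝒮.IsFTDeg 1)
    (F : P.Modules) (hFq : Coh.IsQCoh F) (hFt : CohB1.IsFT F) :
    ∃ n₀ : ℤ, ∀ (n : ℤ), n₀ ≤ n → ∀ (L : P.Modules)
      (lam : ∀ (U : Y.Opens) (hU : IsAffineOpen U),
        L ⟶ (Scheme.Modules.pushforward (RelProj.emb p chart U hU)).obj
          (GrTwist.twist (𝒮.deg U hU) (-n))),
      RelProj.IsRelTwist 𝒮 p chart (-n) L lam →
        ∃ (G : Y.Modules) (π : CohB1.tensorMod ((Scheme.Modules.pullback p).obj G) L ⟶ F),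
          Coh.IsQCoh G ∧ CohB1.IsFT G ∧ Epi π := by
  classical
  haveI : F.IsQuasicoherent := hFq
  haveI : SheafOfModules.IsFiniteType (R := P.ringCatSheaf) F := hFt
  haveI : IsProper p := Groth.Agent.ProjMorph.isProper_relProj hP hgen hft
  obtain ⟨n₀, Tf, V, hV, hcov, hspan⟩ := exists_span_cover hP hgen hft F hFq hFt
  refine ⟨(n₀ : ℤ), fun n hn L lam hL => ?_⟩
  obtain ⟨k, rfl⟩ : ∃ k : ℕ, n = (k : ℤ) :=
    ⟨n.toNat, (Int.toNat_of_nonneg (le_trans (Int.natCast_nonneg _) hn)).symm⟩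
  have hk : n₀ ≤ k := by exact_mod_cast hn
  -- `O_P(k)` and the twist `T = F(k)`
  obtain ⟨Lk, lamk, hLk⟩ : ∃ (Lk : P.Modules)
      (lamk : ∀ (U : Y.Opens) (hU : IsAffineOpen U),
        Lk ⟶ (Scheme.Modules.pushforward (RelProj.emb p chart U hU)).obj
          (GrTwist.twist (𝒮.deg U hU) (k : ℤ))),
      RelProj.IsRelTwist 𝒮 p chart (k : ℤ) Lk lamk :=
    ⟨_, _, Groth.Agent.RelTwEx.isRelTwist_relTwist hP (k : ℤ)⟩
  have hinvk : PicF.IsInvertible Lk := Groth.Agent.GrTw.isInvertible_of_genDegOne hgen hLk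
  have hinvL : PicF.IsInvertible L := Groth.Agent.GrTw.isInvertible_of_genDegOne hgen hL
  haveI hLkq : Lk.IsQuasicoherent := TensH8.isQuasicoherent_of_isInvertible hinvk
  have hLkt : SheafOfModules.IsFiniteType (R := P.ringCatSheaf) Lk :=
    Groth.Agent.ProjTw.isFiniteType_of_gens (fun x => by
      obtain ⟨W, hW, hxW, e, he⟩ := exists_isGen hinvk x
      exact ⟨W, hW, hxW, e, he⟩)
  obtain ⟨T, hTdef⟩ : ∃ T : P.Modules, T = CohB1.tensorMod F Lk := ⟨_, rfl⟩
  haveI hTq : T.IsQuasicoherent := by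
    rw [hTdef]; exact TensH8.isQuasicoherent_tensorMod_right F hinvk
  haveI hTt : SheafOfModules.IsFiniteType (R := P.ringCatSheaf) T := by
    rw [hTdef]; exact TensQCH8.isFiniteType_tensorMod F Lk hFt hLkt
  have hspanT : ∀ y ∈ Tf, ∀ {W : P.Opens} (hW : W ≤ p ⁻¹ᵁ V y) (z : Γ(T, W)) (x : P),
      x ∈ W → ∃ (W' : P.Opens) (h' : W' ≤ W), x ∈ W' ∧
        rF T h' z ∈ spanOn T (Set.univ : Set Γ(T, p ⁻¹ᵁ V y)) (h'.trans hW) := by
    subst hTdef
    intro y hy W hW z x hxW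
    obtain ⟨W', h', hxW', hmem⟩ := hspan k hk Lk _ hLk y hy hW z x hxW
    refine ⟨W', h', hxW', ?_⟩
    unfold spanOn
    rw [Set.image_univ]
    exact hmem
  -- the direct image
  haveI hG₀q : ((Scheme.Modules.pushforward p).obj T).IsQuasicoherent :=
    QcqsLoc.isQuasicoherent_pushforward_qcqs p T
  -- finitely many sections over each member of the cover
  have key : ∀ y : Y, ∃ S : Finset Γ(T, p ⁻¹ᵁ V y), y ∈ Tf →
      ∀ (W : P.Opens) (hW : W ≤ p ⁻¹ᵁ V y) (z : Γ(T, W)) (x : P), x ∈ W →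
        ∃ (W' : P.Opens) (h' : W' ≤ W), x ∈ W' ∧
          rF T h' z ∈ spanOn T (S : Set Γ(T, p ⁻¹ᵁ V y)) (h'.trans hW) := by
    intro y
    by_cases hy : y ∈ Tf
    · have hc : IsCompact ((p ⁻¹ᵁ V y : P.Opens) : Set P) :=
        (quasiCompact_iff_forall_isAffineOpen.mp inferInstance) (V y) (hV y)
      obtain ⟨S, hS⟩ := exists_finite_spanOn T (p ⁻¹ᵁ V y) hc
        (fun W hW z x hx => hspanT y hy hW z x hx)
      exact ⟨S, fun _ => hS⟩
    · exact ⟨∅, fun h => absurd h hy⟩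
  choose S hS using key
  -- the list of local sections of the direct image
  let l : List (Σ U : Y.affineOpens, Γ((Scheme.Modules.pushforward p).obj T, (U : Y.Opens))) :=
    Tf.toList.flatMap (fun y => (S y).toList.map (fun s => ⟨⟨V y, hV y⟩, s⟩))
  obtain ⟨G, i, hGq, hGt, hG⟩ := exists_ft_family ((Scheme.Modules.pushforward p).obj T) l
  have hepi : Epi ((Scheme.Modules.pullback p).map i ≫
      (Scheme.Modules.pullbackPushforwardAdjunction p).counit.app T) := by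
    apply epi_adj_of_span
    intro x
    obtain ⟨y, hyT, hxy⟩ := hcov (p.base x)
    refine ⟨V y, hxy, fun W hW z hxW => ?_⟩
    obtain ⟨W', h', hxW', hmem⟩ := hS y hyT W hW z x hxW
    refine ⟨W', h', hxW', ?_⟩
    refine Submodule.span_mono ?_ hmem
    rintro _ ⟨s, hs, rfl⟩
    have hmeml : (⟨⟨V y, hV y⟩, s⟩ :
        Σ U : Y.affineOpens, Γ((Scheme.Modules.pushforward p).obj T, (U : Y.Opens))) ∈ l := by
      refine List.mem_flatMap.mpr ⟨y, Finset.mem_toList.mpr hyT, ?_⟩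
      exact List.mem_map.mpr ⟨s, Finset.mem_toList.mpr (Finset.mem_coe.mp hs), rfl⟩
    obtain ⟨g, hg⟩ := hG _ hmeml
    exact ⟨g, congrArg (fun t : Γ(T, p ⁻¹ᵁ V y) => rF T (h'.trans hW) t) hg⟩
  -- untwisting
  obtain ⟨α⟩ := mul_iso hP hgen (m := (k : ℤ)) (n := -(k : ℤ)) (k := 0) (by ring) hLk hL
    (Groth.Agent.GrTw.isRelTwist_lamO hP 0 rfl)
  subst hTdef
  let Φ : CohB1.tensorMod (CohB1.tensorMod F Lk) L ≅ F :=
    Groth.Agent.Lib.TensorAssoc.assocIso P.sheaf F Lk L ≪≫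
      PicGrp.tensorModIso (Iso.refl F) α ≪≫ SecTwist.unitorR F
  haveI := hepi
  haveI := epi_tmap ((Scheme.Modules.pullback p).map i ≫
      (Scheme.Modules.pullbackPushforwardAdjunction p).counit.app (CohB1.tensorMod F Lk)) hinvL
  exact ⟨G, tmap ((Scheme.Modules.pullback p).map i ≫
      (Scheme.Modules.pullbackPushforwardAdjunction p).counit.app (CohB1.tensorMod F Lk)) L ≫ Φ.hom,
    hGq, hGt, epi_comp _ _⟩

end Main

end Groth.Agent.RelSerre
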