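import Mathlib
import Groth.Prelude
import Groth.Agent.Lib.RelSerre2_helper5
import Groth.Agent.Lib.Tens13_helper8
import Groth.Agent.Lib.Tens21_helper8

/-!
# For `g : Y ⟶ Z` quasi-compact quasi-separated over a qcqs base and `K` ample on the preimages of
the affine opens, `E ⊗ K^m` is a quotient of `g^*F` with `F` of finite type (helper5).
APPEND-ONLY once landed.
-/

set_option autoImplicit false
universe u
open CategoryTheory CategoryTheory.Limits AlgebraicGeometry TopologicalSpace Opposite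
open QcqsLoc GenLocH8 TensH8 FLFH8 QCohExtn

namespace Groth.Agent.RelSerre

set_option maxHeartbeats 1600000 in
/-- Relative Serre theorem for a relatively ample module over a qcqs base. -/
theorem exists_quotient_of_isAmpleOn {Y Z : Scheme.{u}} [CompactSpace Z] [QuasiSeparatedSpace Z]
    (g : Y ⟶ Z) [QuasiCompact g] [QuasiSeparated g] {K : Y.Modules} (hK : PicF.IsInvertible K)
    (hamp : ∀ V : Z.Opens, IsAffineOpen V → IsAmpleOn K (g ⁻¹ᵁ V))
    (E : Y.Modules) (hEq : Coh.IsQCoh E) (hEt : CohB1.IsFT E) :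
    ∃ m₀ : ℕ, ∀ m : ℕ, m₀ ≤ m → ∃ (F : Z.Modules)
      (φ : (Scheme.Modules.pullback g).obj F ⟶ CohB1.tensorMod E (CohB1.tensorPow K m)),
      Coh.IsQCoh F ∧ CohB1.IsFT F ∧ Epi φ := by
  classical
  haveI : E.IsQuasicoherent := hEq
  haveI : SheafOfModules.IsFiniteType (R := Y.ringCatSheaf) E := hEt
  have hqs : ∀ (V : Z.Opens), IsAffineOpen V →
      IsQuasiSeparated ((g ⁻¹ᵁ V : Y.Opens) : Set Y) := fun V hV =>
    Scheme.Hom.isQuasiSeparated_preimage g hV.isQuasiSeparated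
  have key : ∀ z : Z, ∃ V : Z.Opens, IsAffineOpen V ∧ z ∈ V := fun z => by
    obtain ⟨V, hV, hzV, -⟩ := Opens.isBasis_iff_nbhd.mp Z.isBasis_affineOpens (Opens.mem_top z)
    exact ⟨V, hV, hzV⟩
  choose V hV hzV using key
  obtain ⟨Tf, hTf⟩ := isCompact_univ.elim_finite_subcover
    (fun z : Z => ((V z : Z.Opens) : Set Z)) (fun z => (V z).isOpen)
    (fun z _ => Set.mem_iUnion.mpr ⟨z, hzV z⟩)
  have hcov : ∀ z' : Z, ∃ z ∈ Tf, z' ∈ V z := fun z' => by
    obtain ⟨z, hzT, hz⟩ := Set.mem_iUnion₂.mp (hTf (Set.mem_univ z'))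
    exact ⟨z, hzT, hz⟩
  have hgen' := fun z : Z => Groth.Agent.SerreQS.exists_gen_of_isAmpleOn' hK E
    (hamp (V z) (hV z)) (hqs (V z) (hV z))
  choose n1 hn1 using hgen'
  refine ⟨Tf.sup n1, fun k hk => ?_⟩
  have hinvk : PicF.IsInvertible (CohB1.tensorPow K k) := TensH8.isInvertible_tensorPow hK k
  haveI hLkq : (CohB1.tensorPow K k).IsQuasicoherent :=
    TensH8.isQuasicoherent_of_isInvertible hinvk
  have hLkt : SheafOfModules.IsFiniteType (R := Y.ringCatSheaf) (CohB1.tensorPow K k) :=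
    Groth.Agent.ProjTw.isFiniteType_of_gens (fun x => by
      obtain ⟨W, hW, hxW, e, he⟩ := exists_isGen hinvk x
      exact ⟨W, hW, hxW, e, he⟩)
  obtain ⟨T, hTdef⟩ : ∃ T : Y.Modules, T = CohB1.tensorMod E (CohB1.tensorPow K k) := ⟨_, rfl⟩
  haveI hTq : T.IsQuasicoherent := by
    rw [hTdef]; exact TensH8.isQuasicoherent_tensorMod_right E hinvk
  haveI hTt : SheafOfModules.IsFiniteType (R := Y.ringCatSheaf) T := by
    rw [hTdef]; exact TensQCH8.isFiniteType_tensorMod E _ hEt hLkt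
  have hspanT : ∀ z ∈ Tf, ∀ {W : Y.Opens} (hW : W ≤ g ⁻¹ᵁ V z) (s : Γ(T, W)) (x : Y),
      x ∈ W → ∃ (W' : Y.Opens) (h' : W' ≤ W), x ∈ W' ∧
        rF T h' s ∈ spanOn T (Set.univ : Set Γ(T, g ⁻¹ᵁ V z)) (h'.trans hW) := by
    subst hTdef
    intro z hz W hW s x hxW
    obtain ⟨W', h', hxW', hmem⟩ := hn1 z k (le_trans (Finset.le_sup hz) hk)
      (TFrame.tensor (Frame.pow K k) E) hW s x hxW
    refine ⟨W', h', hxW', ?_⟩
    unfold spanOn
    rw [Set.image_univ]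
    exact hmem
  haveI hG₀q : ((Scheme.Modules.pushforward g).obj T).IsQuasicoherent :=
    QcqsLoc.isQuasicoherent_pushforward_qcqs g T
  have key : ∀ z : Z, ∃ S : Finset Γ(T, g ⁻¹ᵁ V z), z ∈ Tf →
      ∀ (W : Y.Opens) (hW : W ≤ g ⁻¹ᵁ V z) (s : Γ(T, W)) (x : Y), x ∈ W →
        ∃ (W' : Y.Opens) (h' : W' ≤ W), x ∈ W' ∧
          rF T h' s ∈ spanOn T (S : Set Γ(T, g ⁻¹ᵁ V z)) (h'.trans hW) := by
    intro z
    by_cases hz : z ∈ Tf
    · have hc : IsCompact ((g ⁻¹ᵁ V z : Y.Opens) : Set Y) :=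
        (quasiCompact_iff_forall_isAffineOpen.mp inferInstance) (V z) (hV z)
      obtain ⟨S, hS⟩ := exists_finite_spanOn T (g ⁻¹ᵁ V z) hc
        (fun W hW s x hx => hspanT z hz hW s x hx)
      exact ⟨S, fun _ => hS⟩
    · exact ⟨∅, fun h => absurd h hz⟩
  choose S hS using key
  let l : List (Σ U : Z.affineOpens, Γ((Scheme.Modules.pushforward g).obj T, (U : Z.Opens))) :=
    Tf.toList.flatMap (fun z => (S z).toList.map (fun s => ⟨⟨V z, hV z⟩, s⟩))
  obtain ⟨G, i, hGq, hGt, hG⟩ := exists_ft_family ((Scheme.Modules.pushforward g).obj T) l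
  have hepi : Epi ((Scheme.Modules.pullback g).map i ≫
      (Scheme.Modules.pullbackPushforwardAdjunction g).counit.app T) := by
    apply epi_adj_of_span
    intro x
    obtain ⟨z, hzT, hxz⟩ := hcov (g.base x)
    refine ⟨V z, hxz, fun W hW s hxW => ?_⟩
    obtain ⟨W', h', hxW', hmem⟩ := hS z hzT W hW s x hxW
    refine ⟨W', h', hxW', ?_⟩
    refine Submodule.span_mono ?_ hmem
    rintro _ ⟨s', hs', rfl⟩
    have hmeml : (⟨⟨V z, hV z⟩, s'⟩ :
        Σ U : Z.affineOpens, Γ((Scheme.Modules.pushforward g).obj T, (U : Z.Opens))) ∈ l := by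
      refine List.mem_flatMap.mpr ⟨z, Finset.mem_toList.mpr hzT, ?_⟩
      exact List.mem_map.mpr ⟨s', Finset.mem_toList.mpr (Finset.mem_coe.mp hs'), rfl⟩
    obtain ⟨t, ht⟩ := hG _ hmeml
    exact ⟨t, congrArg (fun t' : Γ(T, g ⁻¹ᵁ V z) => rF T (h'.trans hW) t') ht⟩
  subst hTdef
  exact ⟨G, (Scheme.Modules.pullback g).map i ≫
      (Scheme.Modules.pullbackPushforwardAdjunction g).counit.app _, hGq, hGt, hepi⟩

end Groth.Agent.RelSerre
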