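import Mathlib
import Groth.Prelude
import Groth.Agent.S8255
import Groth.Agent.S3569
import Groth.Agent.Lib.DirImgPO_helper5
import Groth.Agent.Lib.RelSpecBC_helper5
import Groth.Agent.Lib.AffSpec1_helper5
import Groth.Agent.Lib.AffLimExists_helper7

set_option autoImplicit false
set_option linter.all false
set_option backward.isDefEq.respectTransparency false

universe u

open CategoryTheory CategoryTheory.Limits AlgebraicGeometry TopologicalSpace Opposite RelSpec

namespace Groth.Agent.Lib.RelSpecFFH6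

variable {S : Scheme.{u}}

/-- Morphisms out of a relative spectrum are determined on the charts. -/
theorem spec_hom_ext {A : QCAlg S} {Z : Scheme.{u}} (f g : A.spec ⟶ Z)
    (h : ∀ (U : S.Opens) (hU : IsAffineOpen U), A.ι U hU ≫ f = A.ι U hU ≫ g) : f = g := by
  apply colimit.hom_ext
  intro U
  exact h U.1 U.2

theorem specMap_id (A : QCAlg S) : QCAlg.specMap (𝟙 A) = 𝟙 A.spec := by
  apply spec_hom_ext
  intro U hU
  rw [QCAlg.ι_specMap, Category.comp_id]
  have : (𝟙 A : A ⟶ A).hom.app (op U) = 𝟙 _ := rfl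
  rw [this, Spec.map_id, Category.id_comp]

theorem specMap_comp {A B C : QCAlg S} (φ : A ⟶ B) (ψ : B ⟶ C) :
    QCAlg.specMap (φ ≫ ψ) = QCAlg.specMap ψ ≫ QCAlg.specMap φ := by
  apply spec_hom_ext
  intro U hU
  rw [QCAlg.ι_specMap, reassoc_of% (QCAlg.ι_specMap U hU ψ), QCAlg.ι_specMap,
    ← Spec.map_comp_assoc]
  rfl

/-- naturality of `gammaMap` with respect to `specMap`. -/
theorem algHom_specMap_gammaMap {A B : QCAlg S} (φ : A ⟶ B) :
    AffAlg.algHom A.π B.π (QCAlg.specMap φ) (QCAlg.specMap_π φ) ≫ B.gammaMap =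
      A.gammaMap ≫ φ.hom := by
  apply (Functor.IsCoverDense.restrictHomEquivHom (G := Scheme.AffineZariskiSite.toOpensFunctor S)
    (K := Opens.grothendieckTopology S) (ℱ := A.π.base _* A.spec.presheaf)
    (ℱ' := (⟨B.presheaf, B.isSheaf⟩ : TopCat.Sheaf CommRingCat.{u} S.carrier))).symm.injective
  ext U : 2
  change (AffAlg.algHom A.π B.π (QCAlg.specMap φ) (QCAlg.specMap_π φ)).app (op U.unop.1) ≫
      B.gammaMap.app (op U.unop.1) = A.gammaMap.app (op U.unop.1) ≫ φ.hom.app (op U.unop.1)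
  rw [B.gammaMap_app U.unop.1 U.unop.2, A.gammaMap_app U.unop.1 U.unop.2,
    Groth.Agent.DirImgPO.algHom_app]
  rw [QCAlg.gammaAff, QCAlg.gammaAff, ← Category.assoc, Scheme.Hom.appLE_comp_appLE,
    Groth.Agent.PullbackLocal.appLE_congr (QCAlg.ι_specMap U.unop.1 U.unop.2 φ) _ _ _
      (show (⊤ : (Spec (B.presheaf.obj (op U.unop.1))).Opens) ≤
        (Spec.map (φ.hom.app (op U.unop.1)) ≫ A.ι U.unop.1 U.unop.2) ⁻¹ᵁ (A.π ⁻¹ᵁ U.unop.1) from by
          rw [Scheme.Hom.comp_preimage]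
          exact le_top.trans (Scheme.Hom.preimage_mono _ (A.top_le_preimage U.unop.1 U.unop.2))),
    ← Scheme.Hom.appLE_comp_appLE _ _ _ ⊤ _ (A.top_le_preimage U.unop.1 U.unop.2) le_top,
    Category.assoc, Category.assoc]
  congr 1
  exact Scheme.ΓSpecIso_naturality _

theorem algHom_congr {X Y : Scheme.{u}} (f : X ⟶ S) (g : Y ⟶ S) {a b : Y ⟶ X} (e : a = b)
    (wa : a ≫ f = g) (wb : b ≫ f = g) : AffAlg.algHom f g a wa = AffAlg.algHom f g b wb := by
  subst e; rfl

/-- Fullness of the relative spectrum on morphisms over `S`. -/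
theorem exists_specMap_eq {A B : QCAlg S} (h : B.spec ⟶ A.spec) (w : h ≫ A.π = B.π) :
    ∃ φ : A ⟶ B, QCAlg.specMap φ = h := by
  haveI : IsIso A.gammaMap := Groth.Agent.S8255.result A
  haveI : IsIso B.gammaMap := Groth.Agent.S8255.result B
  have hcomm : A.str ≫ (inv A.gammaMap ≫ AffAlg.algHom A.π B.π h w ≫ B.gammaMap) = B.str := by
    rw [← A.π_c_gammaMap, Category.assoc, IsIso.hom_inv_id_assoc,
      ← Category.assoc, AffAlg.algHom_comm, B.π_c_gammaMap]
  let φ : A ⟶ B := ⟨inv A.gammaMap ≫ AffAlg.algHom A.π B.π h w ≫ B.gammaMap, hcomm⟩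
  refine ⟨φ, ?_⟩
  have hinj := (Groth.Agent.S3569.result A.π B.π).1
  have key : AffAlg.algOf A.π B.π ⟨QCAlg.specMap φ, QCAlg.specMap_π φ⟩ =
      AffAlg.algOf A.π B.π ⟨h, w⟩ := by
    apply Subtype.ext
    change AffAlg.algHom A.π B.π (QCAlg.specMap φ) (QCAlg.specMap_π φ) =
      AffAlg.algHom A.π B.π h w
    rw [← cancel_mono B.gammaMap, algHom_specMap_gammaMap]
    change A.gammaMap ≫ inv A.gammaMap ≫ _ = _
    rw [IsIso.hom_inv_id_assoc]
  exact congrArg Subtype.val (hinj key)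

/-- Faithfulness of the relative spectrum. -/
theorem specMap_injective {A B : QCAlg S} {φ ψ : A ⟶ B}
    (h : QCAlg.specMap φ = QCAlg.specMap ψ) : φ = ψ := by
  haveI : IsIso A.gammaMap := Groth.Agent.S8255.result A
  apply QCAlg.hom_ext
  have h1 := algHom_specMap_gammaMap φ
  have h2 := algHom_specMap_gammaMap ψ
  rw [← cancel_epi A.gammaMap, ← h1, ← h2,
    algHom_congr A.π B.π h (QCAlg.specMap_π φ) (QCAlg.specMap_π ψ)]

instance isAffineHom_specMap {A B : QCAlg S} (φ : A ⟶ B) : IsAffineHom (QCAlg.specMap φ) := by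
  haveI : IsAffineHom (QCAlg.specMap φ ≫ A.π) := by
    rw [QCAlg.specMap_π]; infer_instance
  exact IsAffineHom.of_comp (QCAlg.specMap φ) A.π

end Groth.Agent.Lib.RelSpecFFH6
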