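import Mathlib
import Groth.Prelude
import Groth.Agent.Lib.RelSpecFF_helper6

set_option autoImplicit false
set_option linter.all false
set_option backward.isDefEq.respectTransparency false

universe u

open CategoryTheory CategoryTheory.Limits AlgebraicGeometry TopologicalSpace Opposite RelSpec

namespace Groth.Agent.Lib.RelSpecFFH6

variable {S : Scheme.{u}}

/-- The diagram of relative spectra attached to a diagram of quasi-coherent algebras. -/
noncomputable def specDiagram {J : Type u} [SmallCategory J] (A : J ⥤ QCAlg S) : Jᵒᵖ ⥤ Scheme.{u} where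
  obj j := (A.obj j.unop).spec
  map f := QCAlg.specMap (A.map f.unop)
  map_id j := by rw [unop_id, A.map_id, specMap_id]
  map_comp f g := by rw [unop_comp, A.map_comp, specMap_comp]

instance {J : Type u} [SmallCategory J] (A : J ⥤ QCAlg S) (i j : Jᵒᵖ) (f : i ⟶ j) :
    IsAffineHom ((specDiagram A).map f) := by
  change IsAffineHom (QCAlg.specMap (A.map f.unop))
  infer_instance

theorem main {J : Type u} [SmallCategory J] [IsFiltered J]
    (A : J ⥤ QCAlg S) (c : Cocone A) (hc : IsColimit c)
    (T : Scheme.{u}) (v : ∀ j : J, T ⟶ (A.obj j).spec)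
    (hv : ∀ (j j' : J) (φ : j ⟶ j'), v j' ≫ QCAlg.specMap (A.map φ) = v j) :
    ∃! w : T ⟶ c.pt.spec, ∀ j : J, w ≫ QCAlg.specMap (c.ι.app j) = v j := by
  obtain ⟨L, hL, hLaff⟩ := Groth.Agent.Lib.AffLimExists_helper7.main (specDiagram A)
  obtain ⟨j₀⟩ := IsFiltered.nonempty (C := J)
  let p : L.pt ⟶ S := L.π.app (op j₀) ≫ (A.obj j₀).π
  have hw : ∀ {j k : J} (a : j ⟶ k), L.π.app (op k) ≫ QCAlg.specMap (A.map a) = L.π.app (op j) :=
    fun a => L.w a.op
  have hp : ∀ j, L.π.app (op j) ≫ (A.obj j).π = p := by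
    intro j
    obtain ⟨k, a, b, -⟩ := IsFilteredOrEmpty.cocone_objs j j₀
    change _ = L.π.app (op j₀) ≫ (A.obj j₀).π
    rw [← hw a, ← hw b, Category.assoc, Category.assoc, QCAlg.specMap_π, QCAlg.specMap_π]
  haveI : IsAffineHom (L.π.app (op j₀)) := hLaff _
  haveI : IsAffineHom p := by
    change IsAffineHom (L.π.app (op j₀) ≫ (A.obj j₀).π)
    infer_instance
  let B : QCAlg S := QCAlg.directImage p
  have hα : ∀ j, ∃ α : A.obj j ⟶ B,
      QCAlg.specMap α = Groth.Agent.AffSpec.toX p ≫ L.π.app (op j) := fun j =>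
    exists_specMap_eq _ (by rw [Category.assoc, hp, Groth.Agent.AffSpec.toX_comp])
  choose α hα using hα
  let cc : Cocone A :=
    { pt := B
      ι :=
        { app := α
          naturality := fun j j' f => by
            apply specMap_injective
            change QCAlg.specMap (A.map f ≫ α j') = QCAlg.specMap (α j ≫ 𝟙 B)
            rw [Category.comp_id, specMap_comp, hα, hα, Category.assoc, hw] } }
  let β : c.pt ⟶ B := hc.desc cc
  have hβ : ∀ j, QCAlg.specMap β ≫ QCAlg.specMap (c.ι.app j) =
      Groth.Agent.AffSpec.toX p ≫ L.π.app (op j) := by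
    intro j
    rw [← specMap_comp, hc.fac]
    exact hα j
  let kc : Cone (specDiagram A) :=
    { pt := c.pt.spec
      π :=
        { app := fun j => QCAlg.specMap (c.ι.app j.unop)
          naturality := fun j j' f => by
            change 𝟙 _ ≫ QCAlg.specMap (c.ι.app j'.unop) =
              QCAlg.specMap (c.ι.app j.unop) ≫ QCAlg.specMap (A.map f.unop)
            rw [Category.id_comp, ← specMap_comp, c.w] } }
  let k : c.pt.spec ⟶ L.pt := hL.lift kc
  have hk : ∀ j, k ≫ L.π.app (op j) = QCAlg.specMap (c.ι.app j) := fun j => hL.fac kc (op j)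
  have hendo : k ≫ inv (Groth.Agent.AffSpec.toX p) ≫ QCAlg.specMap β = 𝟙 _ := by
    obtain ⟨γ, hγ⟩ := exists_specMap_eq (A := c.pt) (B := c.pt)
      (k ≫ inv (Groth.Agent.AffSpec.toX p) ≫ QCAlg.specMap β) (by
        rw [Category.assoc, Category.assoc, QCAlg.specMap_π,
          ← Groth.Agent.AffSpec.toX_comp, IsIso.inv_hom_id_assoc]
        change k ≫ L.π.app (op j₀) ≫ (A.obj j₀).π = _
        rw [reassoc_of% (hk j₀), QCAlg.specMap_π]
        rfl)
    have hγ1 : γ = 𝟙 c.pt := by
      apply hc.hom_ext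
      intro j
      apply specMap_injective
      rw [specMap_comp, hγ, Category.comp_id, Category.assoc, Category.assoc, hβ,
        IsIso.inv_hom_id_assoc, hk]
    rw [← hγ, hγ1, specMap_id]
  let cT : Cone (specDiagram A) :=
    { pt := T
      π :=
        { app := fun j => v j.unop
          naturality := fun j j' f => by
            change 𝟙 _ ≫ v j'.unop = v j.unop ≫ QCAlg.specMap (A.map f.unop)
            rw [Category.id_comp, hv] } }
  refine ⟨hL.lift cT ≫ inv (Groth.Agent.AffSpec.toX p) ≫ QCAlg.specMap β, ?_, ?_⟩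
  · intro j
    change (hL.lift cT ≫ inv (Groth.Agent.AffSpec.toX p) ≫ QCAlg.specMap β) ≫ _ = _
    rw [Category.assoc, Category.assoc, hβ, IsIso.inv_hom_id_assoc]
    exact hL.fac cT (op j)
  · intro w' hw'
    have h1 : w' ≫ k = hL.lift cT := by
      apply hL.hom_ext
      intro j
      rw [Category.assoc, hL.fac, hL.fac]
      exact hw' j.unop
    rw [← h1, Category.assoc, hendo, Category.comp_id]

end Groth.Agent.Lib.RelSpecFFH6
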