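import Mathlib
import Groth.Agent.Lib.QCohLoc_helper4

/-!
# Relative spectrum of a quasi-coherent algebra (helper7)

Given a sheaf of commutative rings `B` on a scheme `S` with a morphism `φ : O_S ⟶ B` making `B` a
quasi-coherent `O_S`-module, we construct (via Mathlib's `relativeGluingData`) a scheme `X` with an
affine morphism `f : X ⟶ S` and an isomorphism `B ≅ f_* O_X` compatible with `φ` and `f.c`.
-/

set_option autoImplicit false
universe u

namespace Groth.Agent.Lib.RelSpecH7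

open CategoryTheory AlgebraicGeometry TopologicalSpace Opposite Limits
open Scheme.AffineZariskiSite
open Groth.Agent.Lib.QCohLoc_helper4

variable {S : Scheme.{u}}
    (B : Sheaf (Opens.grothendieckTopology S) CommRingCat.{u}) (φ : S.sheaf ⟶ B)

/-- `B` as an `O_S`-module through `φ`. -/
noncomputable abbrev MM : S.Modules := ((SheafOfModules.restrictScalars
      ((sheafCompose (Opens.grothendieckTopology S) (forget₂ CommRingCat.{u} RingCat.{u})).map φ)).obj
      (SheafOfModules.unit ((sheafCompose (Opens.grothendieckTopology S)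
        (forget₂ CommRingCat.{u} RingCat.{u})).obj B)))

/-- Sections of the module are the sections of `B`. -/
def toB (U : S.Opens) (b : Γ(MM B φ, U)) : B.obj.obj (op U) := b
/-- Sections of `B` are sections of the module. -/
def ofB (U : S.Opens) (b : B.obj.obj (op U)) : Γ(MM B φ, U) := b

theorem toB_smul (U : S.Opens) (r : Γ(S, U)) (b : Γ(MM B φ, U)) :
    toB B φ U (r • b) = (φ.hom.app (op U)).hom r * toB B φ U b := rfl

theorem toB_map (U V : S.Opens) (i : U ⟶ V) (b : Γ(MM B φ, V)) :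
    toB B φ U ((MM B φ).presheaf.map i.op b) = (B.obj.map i.op).hom (toB B φ V b) := rfl

theorem toB_zero (U : S.Opens) : toB B φ U 0 = 0 := rfl

theorem toB_ofB (U : S.Opens) (b : B.obj.obj (op U)) : toB B φ U (ofB B φ U b) = b := rfl

theorem ofB_sub (U : S.Opens) (a b : B.obj.obj (op U)) :
    ofB B φ U (a - b) = ofB B φ U a - ofB B φ U b := rfl

theorem map_ofB (U V : S.Opens) (i : U ⟶ V) (b : B.obj.obj (op V)) :
    (MM B φ).presheaf.map i.op (ofB B φ V b) = ofB B φ U ((B.obj.map i.op).hom b) := rfl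

theorem ofB_zero (U : S.Opens) : ofB B φ U 0 = 0 := rfl

/-- Pure algebra: a localization criterion. -/
theorem away_of_ex_ker {A A' Bu Bd : Type u} [CommRing A] [CommRing A'] [CommRing Bu] [CommRing Bd]
    (ρ : A →+* A') (φU : A →+* Bu) (φD : A' →+* Bd) (β : Bu →+* Bd)
    (hnat : ∀ x, β (φU x) = φD (ρ x)) (r : A) (hr : IsUnit (ρ r))
    (ex : ∀ s : Bd, ∃ (n : ℕ) (t : Bu), β t = φD (ρ r ^ n) * s)
    (ker : ∀ t : Bu, β t = 0 → ∃ n : ℕ, φU (r ^ n) * t = 0) :
    letI := β.toAlgebra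
    IsLocalization.Away (φU r) Bd := by
  letI := β.toAlgebra
  have halg : ∀ b : Bu, algebraMap Bu Bd b = β b := fun _ => rfl
  refine (isLocalization_iff _ _).mpr ⟨?_, ?_, ?_⟩
  · rintro ⟨_, n, rfl⟩
    rw [halg, map_pow, hnat]
    exact (hr.map φD).pow n
  · intro s
    obtain ⟨n, t, ht⟩ := ex s
    refine ⟨(t, ⟨_, n, rfl⟩), ?_⟩
    show s * algebraMap _ _ (φU r ^ n) = algebraMap _ _ t
    rw [halg, halg, ht, map_pow, hnat, map_pow, mul_comm]
  · intro a b hab
    rw [halg, halg] at hab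
    obtain ⟨n, hn⟩ := ker (a - b) (by rw [map_sub, hab, sub_self])
    refine ⟨⟨_, n, rfl⟩, ?_⟩
    show φU r ^ n * a = φU r ^ n * b
    rw [map_pow, mul_sub, sub_eq_zero] at hn
    exact hn

theorem isLocalizationAway [(MM B φ).IsQuasicoherent] {U : S.Opens} (hU : IsAffineOpen U)
    (r : Γ(S, U)) :
    letI := (B.obj.map (homOfLE (S.basicOpen_le r)).op).hom.toAlgebra
    IsLocalization.Away ((φ.hom.app (op U)).hom r) (B.obj.obj (op (S.basicOpen r))) := by
  have hloc := locOn_of_isQuasicoherent (MM B φ) hU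
  refine away_of_ex_ker (S.presheaf.map (homOfLE (S.basicOpen_le r)).op).hom
    (φ.hom.app (op U)).hom (φ.hom.app (op (S.basicOpen r))).hom
    (B.obj.map (homOfLE (S.basicOpen_le r)).op).hom ?_ r
    (S.toRingedSpace.isUnit_res_basicOpen r) ?_ ?_
  · intro x
    exact (congr($(φ.hom.naturality (homOfLE (S.basicOpen_le r)).op).hom x)).symm
  · intro s
    obtain ⟨n, t, ht⟩ := hloc.ex r (ofB B φ _ s)
    exact ⟨n, toB B φ _ t, congrArg (toB B φ _) ht⟩
  · intro t ht
    obtain ⟨n, hn⟩ := hloc.ker r (ofB B φ _ t) (congrArg (ofB B φ _) ht)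
    exact ⟨n, congrArg (toB B φ _) hn⟩

/-- The restriction of `B` to the affine Zariski site. -/
noncomputable abbrev FF : S.AffineZariskiSiteᵒᵖ ⥤ CommRingCat.{u} :=
  (toOpensFunctor S).op ⋙ B.obj

/-- The structure map on the affine Zariski site. -/
noncomputable abbrev αα : (toOpensFunctor S).op ⋙ S.presheaf ⟶ FF B :=
  Functor.whiskerLeft (toOpensFunctor S).op φ.hom

theorem coequifibered (hB : (MM B φ).IsQuasicoherent) : (αα B φ).Coequifibered := by
  refine coequifibered_iff_forall_isLocalizationAway.mpr fun U r => ?_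
  haveI := hB
  exact isLocalizationAway B φ U.2 r


variable (hB : (MM B φ).IsQuasicoherent)

/-- The gluing data. -/
noncomputable def gd : (directedCover S).RelativeGluingData :=
  relativeGluingData (coequifibered B φ hB)

instance : ((gd B φ hB).functor ⋙ Scheme.forget).IsLocallyDirected :=
  Scheme.Cover.RelativeGluingData.instIsLocallyDirectedI₀CompFunctorForgetOfIsThin ..

/-- The relative spectrum. -/
noncomputable def XX : Scheme.{u} := (gd B φ hB).glued

/-- The structure morphism. -/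
noncomputable def ff : XX B φ hB ⟶ S := (gd B φ hB).toBase

/-- The canonical open immersion `Spec B(U) ⟶ X`. -/
noncomputable def ιι (U : S.AffineZariskiSite) : Spec (B.obj.obj (op U.1)) ⟶ XX B φ hB :=
  colimit.ι (gd B φ hB).functor U

instance (U : S.AffineZariskiSite) : IsOpenImmersion (ιι B φ hB U) :=
  inferInstanceAs (IsOpenImmersion ((gd B φ hB).cover.f U))

theorem ιι_ff (U : S.AffineZariskiSite) :
    ιι B φ hB U ≫ ff B φ hB = Spec.map (φ.hom.app (op U.1)) ≫ U.2.fromSpec :=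
  colimit.ι_desc _ _

theorem ff_preimage (U : S.AffineZariskiSite) :
    ff B φ hB ⁻¹ᵁ U.1 = (ιι B φ hB U).opensRange := by
  simpa using! (gd B φ hB).toBase_preimage_eq_opensRange_ι U

theorem ιι_w {V U : S.AffineZariskiSite} (i : V ⟶ U) :
    Spec.map (B.obj.map ((toOpensFunctor S).map i).op) ≫ ιι B φ hB U = ιι B φ hB V :=
  colimit.w (gd B φ hB).functor i

instance : IsAffineHom (ff B φ hB) := by
  constructor
  intro U hU
  rw [ff_preimage B φ hB ⟨U, hU⟩]
  exact isAffineOpen_opensRange _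


theorem appLE_congr' {X Y : Scheme.{u}} {f g : X ⟶ Y} (h : f = g) (U : Y.Opens) (V : X.Opens)
    (e : V ≤ f ⁻¹ᵁ U) : f.appLE U V e = g.appLE U V (h ▸ e) := by
  subst h; rfl

theorem appLE_top_top {X Y : Scheme.{u}} (g : X ⟶ Y) (e : (⊤ : X.Opens) ≤ g ⁻¹ᵁ ⊤) :
    g.appLE ⊤ ⊤ e = g.appTop := by
  simp [Scheme.Hom.appLE, Scheme.Hom.appTop]

theorem fromSpec_appLE_top {X : Scheme.{u}} {U : X.Opens} (hU : IsAffineOpen U)
    (e : (⊤ : (Spec Γ(X, U)).Opens) ≤ hU.fromSpec ⁻¹ᵁ U) :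
    hU.fromSpec.appLE U ⊤ e = (Scheme.ΓSpecIso Γ(X, U)).inv := by
  rw [Scheme.Hom.appLE, hU.fromSpec_app_self, Category.assoc, ← Functor.map_comp]
  have : (eqToHom hU.fromSpec_preimage_self).op ≫ (homOfLE e).op = 𝟙 _ := Subsingleton.elim _ _
  rw [this, CategoryTheory.Functor.map_id, Category.comp_id]

/-- General compatibility lemma. -/
theorem L1 {X S : Scheme.{u}} {R : CommRingCat.{u}} (ι : Spec R ⟶ X) (f : X ⟶ S) {U : S.Opens}
    (hU : IsAffineOpen U) (ψ : Γ(S, U) ⟶ R) (h : ι ≫ f = Spec.map ψ ≫ hU.fromSpec)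
    (e : (⊤ : (Spec R).Opens) ≤ ι ⁻¹ᵁ (f ⁻¹ᵁ U)) :
    f.app U ≫ ι.appLE (f ⁻¹ᵁ U) ⊤ e ≫ (Scheme.ΓSpecIso R).hom = ψ := by
  have e₁ : (⊤ : (Spec Γ(S, U)).Opens) ≤ hU.fromSpec ⁻¹ᵁ U := by
    rw [hU.fromSpec_preimage_self]
  have e₂ : (⊤ : (Spec R).Opens) ≤ Spec.map ψ ⁻¹ᵁ ⊤ := le_rfl
  rw [← Category.assoc, ← Scheme.Hom.comp_appLE, appLE_congr' h,
    ← Scheme.Hom.appLE_comp_appLE _ _ U ⊤ ⊤ e₁ e₂, fromSpec_appLE_top, appLE_top_top,
    Category.assoc, Scheme.ΓSpecIso_naturality, Iso.inv_hom_id_assoc]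

/-- General naturality lemma. -/
theorem L2 {X : Scheme.{u}} {R R' : CommRingCat.{u}} (ιU : Spec R ⟶ X) (ιV : Spec R' ⟶ X)
    (b : R ⟶ R') (h : Spec.map b ≫ ιU = ιV) {W W' : X.Opens} (k : op W ⟶ op W')
    (eU : (⊤ : (Spec R).Opens) ≤ ιU ⁻¹ᵁ W) (eV : (⊤ : (Spec R').Opens) ≤ ιV ⁻¹ᵁ W') :
    X.presheaf.map k ≫ ιV.appLE W' ⊤ eV ≫ (Scheme.ΓSpecIso R').hom =
      (ιU.appLE W ⊤ eU ≫ (Scheme.ΓSpecIso R).hom) ≫ b := by
  have e₂ : (⊤ : (Spec R').Opens) ≤ Spec.map b ⁻¹ᵁ ⊤ := le_rfl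
  rw [Scheme.Hom.map_appLE_assoc, appLE_congr' h.symm,
    ← Scheme.Hom.appLE_comp_appLE _ _ W ⊤ ⊤ eU e₂, appLE_top_top,
    Category.assoc, Scheme.ΓSpecIso_naturality, Category.assoc]

theorem top_le_preimage (U : S.AffineZariskiSite) :
    (⊤ : (Spec (B.obj.obj (op U.1))).Opens) ≤ ιι B φ hB U ⁻¹ᵁ (ff B φ hB ⁻¹ᵁ U.1) := by
  rw [ff_preimage B φ hB U]
  intro x _
  exact Set.mem_range_self x

/-- The comparison map on an affine open. -/
noncomputable def jj (U : S.AffineZariskiSite) :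
    Γ(XX B φ hB, ff B φ hB ⁻¹ᵁ U.1) ⟶ B.obj.obj (op U.1) :=
  (ιι B φ hB U).appLE (ff B φ hB ⁻¹ᵁ U.1) ⊤ (top_le_preimage B φ hB U) ≫ (Scheme.ΓSpecIso _).hom

instance jj_isIso (U : S.AffineZariskiSite) : IsIso (jj B φ hB U) := by
  have h1 : IsIso ((ιι B φ hB U).app (ff B φ hB ⁻¹ᵁ U.1)) :=
    Scheme.Hom.isIso_app _ _ (ff_preimage B φ hB U).le
  have h2 : IsIso (homOfLE (top_le_preimage B φ hB U)) :=
    ⟨homOfLE le_top, Subsingleton.elim _ _, Subsingleton.elim _ _⟩
  unfold jj Scheme.Hom.appLE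
  infer_instance

theorem ff_app_jj (U : S.AffineZariskiSite) :
    (ff B φ hB).app U.1 ≫ jj B φ hB U = φ.hom.app (op U.1) :=
  L1 (ιι B φ hB U) (ff B φ hB) U.2 (φ.hom.app (op U.1)) (ιι_ff B φ hB U) (top_le_preimage B φ hB U)

theorem jj_naturality {V U : S.AffineZariskiSite} (i : V ⟶ U)
    (k : op (ff B φ hB ⁻¹ᵁ U.1) ⟶ op (ff B φ hB ⁻¹ᵁ V.1)) :
    (XX B φ hB).presheaf.map k ≫ jj B φ hB V =
      jj B φ hB U ≫ B.obj.map ((toOpensFunctor S).map i).op :=
  L2 (ιι B φ hB U) (ιι B φ hB V) (B.obj.map ((toOpensFunctor S).map i).op) (ιι_w B φ hB i) k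
    (top_le_preimage B φ hB U) (top_le_preimage B φ hB V)

/-- The natural isomorphism on the affine Zariski site. -/
noncomputable def natIso : (toOpensFunctor S).op ⋙
    ((TopCat.Sheaf.pushforward CommRingCat.{u} (ff B φ hB).base).obj (XX B φ hB).sheaf).obj ≅
      (toOpensFunctor S).op ⋙ B.obj :=
  NatIso.ofComponents
    (fun U => (@asIso _ _ _ _ (jj B φ hB U.unop) (jj_isIso B φ hB U.unop) :
      Γ(XX B φ hB, ff B φ hB ⁻¹ᵁ U.unop.1) ≅ B.obj.obj (op U.unop.1)))
    (fun {U V} g => jj_naturality B φ hB g.unop _)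

include hB in
theorem main : ∃ (X : Scheme.{u}) (f : X ⟶ S) (_ : IsAffineHom f)
    (e : B ≅ (TopCat.Sheaf.pushforward CommRingCat.{u} f.base).obj X.sheaf),
    (φ ≫ e.hom).hom = f.c := by
  let e : B ≅ (TopCat.Sheaf.pushforward CommRingCat.{u} (ff B φ hB).base).obj (XX B φ hB).sheaf :=
    Functor.IsCoverDense.sheafIso (G := toOpensFunctor S) (natIso B φ hB).symm
  refine ⟨XX B φ hB, ff B φ hB, inferInstance, e, ?_⟩
  have key : Functor.whiskerLeft (toOpensFunctor S).op (φ ≫ e.hom).hom =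
      Functor.whiskerLeft (toOpensFunctor S).op (ff B φ hB).c := by
    have h1 : Functor.whiskerLeft (toOpensFunctor S).op e.hom.hom = (natIso B φ hB).symm.hom :=
      Functor.IsCoverDense.sheafHom_restrict_eq _
    refine NatTrans.ext (funext fun U => ?_)
    have h2 : e.hom.hom.app (op U.unop.1) = (natIso B φ hB).symm.hom.app U :=
      congrArg (fun t => t.app U) h1
    show φ.hom.app (op U.unop.1) ≫ e.hom.hom.app (op U.unop.1) = (ff B φ hB).app U.unop.1
    rw [h2]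
    show φ.hom.app (op U.unop.1) ≫ inv (jj B φ hB U.unop) = (ff B φ hB).app U.unop.1
    exact (IsIso.comp_inv_eq (jj B φ hB U.unop)).mpr (ff_app_jj B φ hB U.unop).symm
  exact (Functor.IsCoverDense.restrictHomEquivHom (G := toOpensFunctor S)
    (K := Opens.grothendieckTopology S) (ℱ := S.presheaf)
    (ℱ' := (TopCat.Sheaf.pushforward CommRingCat.{u} (ff B φ hB).base).obj
      (XX B φ hB).sheaf)).symm.injective key

end Groth.Agent.Lib.RelSpecH7
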