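import Mathlib
import Groth.Prelude.Def_EtRam
import Groth.Prelude.Def_FEt

/-!
# The residue field of a proper generization of a DVR point is its fraction field (helper8)
-/

set_option autoImplicit false
universe u

namespace Groth.Agent.Lib.RelTameH8

open AlgebraicGeometry CategoryTheory Limits

section dvr

/-- in a DVR, every nonzero element divides a power of any element of the maximal ideal -/
theorem dvd_pow_of_mem_maximalIdeal {A : Type u} [CommRing A] [IsDomain A]
    [IsDiscreteValuationRing A] (x ϖ : A) (hx : x ≠ 0) (hϖ : ϖ ∈ IsLocalRing.maximalIdeal A) :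
    ∃ n : ℕ, x ∣ ϖ ^ n := by
  obtain ⟨π, hπ⟩ := IsDiscreteValuationRing.exists_irreducible A
  obtain ⟨k, hk⟩ := IsDiscreteValuationRing.associated_pow_irreducible hx hπ
  refine ⟨k, ?_⟩
  have h1 : π ∣ ϖ := by
    rw [(IsDiscreteValuationRing.irreducible_iff_uniformizer π).mp hπ] at hϖ
    exact Ideal.mem_span_singleton.mp hϖ
  exact hk.dvd.trans (pow_dvd_pow_of_dvd h1 k)

end dvr

section loc

variable {R A T : Type u} [CommRing R] [CommRing A] [CommRing T] [Algebra R A] [Algebra R T]
  [Algebra A T] [IsScalarTower R A T] (p q : Ideal R) [p.IsPrime] [q.IsPrime]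
  [IsLocalization.AtPrime A q] [IsLocalization.AtPrime T p]
  [IsDomain A] [IsDiscreteValuationRing A]

include p q in
/-- a proper localization of a DVR at a prime is its fraction field -/
theorem isFractionRing_of_atPrime (hne : p ≠ q) : IsFractionRing A T := by
  haveI : IsLocalRing T := IsLocalization.AtPrime.isLocalRing T p
  have hle : p ≤ q := by
    intro r hr
    by_contra hrq
    have h1 : IsUnit (algebraMap R A r) :=
      IsLocalization.map_units A (⟨r, hrq⟩ : q.primeCompl)
    have h2 : IsUnit (algebraMap R T r) := by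
      rw [IsScalarTower.algebraMap_apply R A T]
      exact h1.map _
    exact (IsLocalization.AtPrime.isUnit_to_map_iff T p r).mp h2 hr
  have hle' : q.primeCompl ≤ p.primeCompl := fun r hr hrp => hr (hle hrp)
  obtain ⟨r₀, hr₀q, hr₀p⟩ : ∃ r₀ : R, r₀ ∈ q ∧ r₀ ∉ p := by
    by_contra hcon
    push Not at hcon
    exact hne (le_antisymm hle hcon)
  haveI h1 : IsLocalization (p.primeCompl.map (algebraMap R A)) T :=
    IsLocalization.isLocalization_of_submonoid_le A T q.primeCompl p.primeCompl hle'
  have hnz : ∀ r : R, r ∉ p → algebraMap R A r ≠ 0 := by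
    intro r hr h0
    have h2 : IsUnit (algebraMap R T r) :=
      IsLocalization.map_units T (⟨r, hr⟩ : p.primeCompl)
    rw [IsScalarTower.algebraMap_apply R A T, h0, map_zero] at h2
    exact not_isUnit_zero h2
  have hM : p.primeCompl.map (algebraMap R A) ≤ nonZeroDivisors A := by
    rintro _ ⟨r, hr, rfl⟩
    exact mem_nonZeroDivisors_of_ne_zero (hnz r hr)
  have hϖ : algebraMap R A r₀ ∈ IsLocalRing.maximalIdeal A := by
    rw [← IsLocalization.AtPrime.map_eq_maximalIdeal q A]
    exact Ideal.mem_map_of_mem _ hr₀q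
  refine IsLocalization.isLocalization_of_is_exists_mul_mem (S := T) (M := p.primeCompl.map (algebraMap R A)) (N := nonZeroDivisors A) hM ?_
  rintro ⟨x, hx⟩
  obtain ⟨n, m, hm⟩ := dvd_pow_of_mem_maximalIdeal x (algebraMap R A r₀)
    (nonZeroDivisors.ne_zero hx) hϖ
  refine ⟨m, ?_⟩
  rw [mul_comm, ← hm, ← map_pow]
  exact ⟨r₀ ^ n, fun h => hr₀p (Ideal.IsPrime.mem_of_pow_mem inferInstance n h), rfl⟩

end loc

section scheme

variable {X : Scheme.{u}}

/-- the stalk at a proper generization of a DVR point is the fraction field -/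
theorem isFractionRing_stalk {y x : X} (h : x ⤳ y) (hne : x ≠ y)
    [IsDomain (X.presheaf.stalk y)] (hdvr : IsDiscreteValuationRing (X.presheaf.stalk y)) :
    letI : Algebra (X.presheaf.stalk y) (X.presheaf.stalk x) :=
      (X.presheaf.stalkSpecializes h).hom.toAlgebra
    IsFractionRing (X.presheaf.stalk y) (X.presheaf.stalk x) := by
  letI algAT : Algebra (X.presheaf.stalk y) (X.presheaf.stalk x) :=
    (X.presheaf.stalkSpecializes h).hom.toAlgebra
  obtain ⟨U, hyU⟩ : ∃ U : X.affineOpens, y ∈ U.1 := by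
    obtain ⟨_, ⟨U, hU, rfl⟩, hy, -⟩ :=
      X.isBasis_affineOpens.exists_subset_of_mem_open (Set.mem_univ y) isOpen_univ
    exact ⟨⟨U, hU⟩, hy⟩
  have hxU : x ∈ U.1 := h.mem_open U.1.isOpen hyU
  have hU := U.2
  letI algRA : Algebra Γ(X, U.1) (X.presheaf.stalk y) :=
    TopCat.Presheaf.algebra_section_stalk X.presheaf (⟨y, hyU⟩ : U.1)
  letI algRT : Algebra Γ(X, U.1) (X.presheaf.stalk x) :=
    TopCat.Presheaf.algebra_section_stalk X.presheaf (⟨x, hxU⟩ : U.1)
  haveI : IsScalarTower Γ(X, U.1) (X.presheaf.stalk y) (X.presheaf.stalk x) := by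
    refine IsScalarTower.of_algebraMap_eq (fun r => ?_)
    have := TopCat.Presheaf.germ_stalkSpecializes X.presheaf (U := U.1) hyU h
    exact (congrArg (fun f => f.hom r) this).symm
  haveI h1 : IsLocalization.AtPrime (X.presheaf.stalk y) (hU.primeIdealOf ⟨y, hyU⟩).asIdeal :=
    hU.isLocalization_stalk ⟨y, hyU⟩
  haveI h2 : IsLocalization.AtPrime (X.presheaf.stalk x) (hU.primeIdealOf ⟨x, hxU⟩).asIdeal :=
    hU.isLocalization_stalk ⟨x, hxU⟩
  haveI := hdvr
  refine isFractionRing_of_atPrime (hU.primeIdealOf ⟨x, hxU⟩).asIdeal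
    (hU.primeIdealOf ⟨y, hyU⟩).asIdeal ?_
  intro hpq
  apply hne
  have h3 : hU.primeIdealOf ⟨x, hxU⟩ = hU.primeIdealOf ⟨y, hyU⟩ := PrimeSpectrum.ext hpq
  have h4 := congrArg hU.fromSpec h3
  rw [hU.fromSpec_primeIdealOf, hU.fromSpec_primeIdealOf] at h4
  exact h4

/-- the residue field at a proper generization of a DVR point is the fraction field -/
theorem isFractionRing_residueField {y x : X} (h : x ⤳ y) (hne : x ≠ y)
    [IsDomain (X.presheaf.stalk y)] (hdvr : IsDiscreteValuationRing (X.presheaf.stalk y)) :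
    letI : Algebra (X.presheaf.stalk y) (X.residueField x) :=
      ((X.residue x).hom.comp (X.presheaf.stalkSpecializes h).hom).toAlgebra
    IsFractionRing (X.presheaf.stalk y) (X.residueField x) := by
  letI algAT : Algebra (X.presheaf.stalk y) (X.presheaf.stalk x) :=
    (X.presheaf.stalkSpecializes h).hom.toAlgebra
  letI algAK : Algebra (X.presheaf.stalk y) (X.residueField x) :=
    ((X.residue x).hom.comp (X.presheaf.stalkSpecializes h).hom).toAlgebra
  haveI hfr : IsFractionRing (X.presheaf.stalk y) (X.presheaf.stalk x) :=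
    isFractionRing_stalk h hne hdvr
  have hfield : IsField (X.presheaf.stalk x) := by
    letI := IsFractionRing.toField (X.presheaf.stalk y) (K := X.presheaf.stalk x)
    exact Field.toIsField _
  have hmax : IsLocalRing.maximalIdeal (X.presheaf.stalk x) = ⊥ :=
    IsLocalRing.isField_iff_maximalIdeal_eq.mp hfield
  have hbij : Function.Bijective (IsLocalRing.residue (X.presheaf.stalk x)) := by
    refine ⟨?_, IsLocalRing.residue_surjective⟩
    rw [injective_iff_map_eq_zero]
    intro a ha
    have : a ∈ IsLocalRing.maximalIdeal (X.presheaf.stalk x) :=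
      (IsLocalRing.residue_eq_zero_iff a).mp ha
    rw [hmax] at this
    exact this
  let e : X.presheaf.stalk x ≃ₐ[X.presheaf.stalk y] X.residueField x :=
    AlgEquiv.ofBijective
      { (IsLocalRing.residue (X.presheaf.stalk x)) with commutes' := fun a => rfl } hbij
  exact IsLocalization.isLocalization_of_algEquiv _ e

end scheme

end Groth.Agent.Lib.RelTameH8
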