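import Mathlib
import Groth.Prelude.Def_EtRam
import Groth.Prelude.Def_FEt

/-!
# Residue field extensions of unramified morphisms are finite separable (helper8)
-/

set_option autoImplicit false
universe u

namespace Groth.Agent.Lib.RelTameH8

open AlgebraicGeometry CategoryTheory Limits

section fibre

variable {W X : Scheme.{u}} (f : W ⟶ X) [FormallyUnramified f] [LocallyOfFiniteType f] (x : W)

/-- the residue field extension of an unramified morphism is finite -/
theorem residue_finite :
    letI : Algebra (X.residueField (f.base x)) (W.residueField x) :=
      (f.residueFieldMap x).hom.toAlgebra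
    FiniteDimensional (X.residueField (f.base x)) (W.residueField x) := by
  letI alg1 : Algebra (X.residueField (f.base x)) (W.residueField x) :=
    (f.residueFieldMap x).hom.toAlgebra
  algebraize [(f.stalkMap x).hom]
  have : IsLocalHom (algebraMap (X.presheaf.stalk (f x)) (W.presheaf.stalk x)) :=
    inferInstanceAs <| IsLocalHom (f.stalkMap x).hom
  have : Algebra.EssFiniteType (X.presheaf.stalk (f x)) (W.presheaf.stalk x) := by
    rw [← RingHom.essFiniteType_algebraMap, RingHom.algebraMap_toAlgebra]
    exact LocallyOfFiniteType.stalkMap f x
  have : Algebra.FormallyUnramified (X.presheaf.stalk (f x)) (W.presheaf.stalk x) := by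
    rw [← RingHom.formallyUnramified_algebraMap, RingHom.algebraMap_toAlgebra]
    exact FormallyUnramified.stalkMap f x
  let alg2 : Algebra (IsLocalRing.ResidueField <| X.presheaf.stalk (f x))
      (IsLocalRing.ResidueField <| W.presheaf.stalk x) := inferInstance
  have heq : alg1 = alg2 := by
    refine Algebra.algebra_ext _ _ fun c ↦ ?_
    obtain ⟨c, rfl⟩ := IsLocalRing.residue_surjective c
    rfl
  have hfin : @Module.Finite (IsLocalRing.ResidueField <| X.presheaf.stalk (f x))
      (IsLocalRing.ResidueField <| W.presheaf.stalk x) _ _ alg2.toModule :=
    (inferInstance : Module.Finite (IsLocalRing.ResidueField <| X.presheaf.stalk (f x))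
      (IsLocalRing.ResidueField <| W.presheaf.stalk x))
  show @Module.Finite (IsLocalRing.ResidueField <| X.presheaf.stalk (f x))
      (IsLocalRing.ResidueField <| W.presheaf.stalk x) _ _ alg1.toModule
  rw [heq]
  exact hfin

/-- the residue field extension of an unramified morphism is finite separable -/
theorem residue_finite_separable' :
    letI : Algebra (X.residueField (f.base x)) (W.residueField x) :=
      (f.residueFieldMap x).hom.toAlgebra
    FiniteDimensional (X.residueField (f.base x)) (W.residueField x) ∧
      Algebra.IsSeparable (X.residueField (f.base x)) (W.residueField x) :=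
  ⟨residue_finite f x, inferInstance⟩

end fibre

end Groth.Agent.Lib.RelTameH8
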