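import Mathlib
import Groth.Prelude.Def_EtRam
import Groth.Prelude.Def_FEt
import Groth.Agent.Lib.GalTame3_helper8
import Groth.Agent.Lib.GalTame4_helper8

/-!
# Residue fields of a scheme with a simply transitive group action on geometric fibres (helper8)
-/

set_option autoImplicit false
universe u

namespace Groth.Agent.Lib.RelTameH8

open AlgebraicGeometry CategoryTheory Limits Groth.Agent.Lib.GalTameH8

section act

variable {W Y : Scheme.{u}} (h : W ⟶ Y) {C : Type} [Group C] (act : C → (W ⟶ W))
  (hone : act 1 = 𝟙 W) (hmul : ∀ g g' : C, act (g * g') = act g' ≫ act g)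

/-- the decomposition group of a point -/
def decompC (hone : act 1 = 𝟙 W) (hmul : ∀ g g' : C, act (g * g') = act g' ≫ act g) (w : W) :
    Subgroup C where
  carrier := {g | (act g) w = w}
  one_mem' := by
    show (act 1) w = w
    rw [hone]; rfl
  mul_mem' := by
    intro g g' hg hg'
    show (act (g * g')) w = w
    have h1 : (act g') w = w := hg'
    have h2 : (act g) w = w := hg
    rw [hmul, Scheme.Hom.comp_apply, h1, h2]
  inv_mem' := by
    intro g hg
    show (act g⁻¹) w = w
    have h2 : (act g) w = w := hg
    have h3 : (act (g⁻¹ * g)) w = w := by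
      rw [inv_mul_cancel, hone]; rfl
    rw [hmul, Scheme.Hom.comp_apply, h2] at h3
    exact h3

variable (hover : ∀ g : C, act g ≫ h = h)
  (htrans : ∀ (Ω : Type u) [Field Ω] [IsAlgClosed Ω] (s t : Spec (CommRingCat.of Ω) ⟶ W),
    s ≫ h = t ≫ h → ∃! g : C, s ≫ act g = t)

include hover htrans in
/-- transitivity on embeddings -/
theorem exists_comp_of_act (w : W) {Ω : Type u} [Field Ω] [IsAlgClosed Ω]
    (ι : Y.residueField (h.base w) →+* Ω) (τ τ' : W.residueField w →+* Ω)
    (hτ : τ.comp (h.residueFieldMap w).hom = ι)
    (hτ' : τ'.comp (h.residueFieldMap w).hom = ι) :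
    ∃ f : W.residueField w →+* W.residueField w, τ' = τ.comp f := by
  obtain ⟨g, hg, -⟩ := htrans Ω (pt w τ) (pt w τ')
    (by rw [pt_comp h w ι τ hτ, pt_comp h w ι τ' hτ'])
  exact exists_comp_of_pt w (act g) τ τ' hg

include hone hmul hover htrans in
/-- counting embeddings -/
theorem card_emb_dvd_act [Finite C] (w : W) {Ω : Type u} [Field Ω] [IsAlgClosed Ω]
    (ι : Y.residueField (h.base w) →+* Ω) (τ₀ : W.residueField w →+* Ω)
    (hτ₀ : τ₀.comp (h.residueFieldMap w).hom = ι) :
    Nat.card {τ : W.residueField w →+* Ω // τ.comp (h.residueFieldMap w).hom = ι} ∣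
      Nat.card C := by
  classical
  have hex : ∀ g : decompC act hone hmul w, ∃ τ : W.residueField w →+* Ω,
      τ.comp (h.residueFieldMap w).hom = ι ∧ pt w τ = pt w τ₀ ≫ act g.1 := by
    intro g
    refine pt_surj h w ι (pt w τ₀ ≫ act g.1) ?_ ?_
    · rw [Category.assoc, hover, pt_comp h w ι τ₀ hτ₀]
    · rw [Scheme.Hom.comp_apply, pt_base]
      exact g.2
  choose e he1 he2 using hex
  let E : decompC act hone hmul w →
      {τ : W.residueField w →+* Ω // τ.comp (h.residueFieldMap w).hom = ι} :=
    fun g => ⟨e g, he1 g⟩
  have hE : Function.Bijective E := by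
    constructor
    · intro g g' hgg'
      have h1 : e g = e g' := congrArg Subtype.val hgg'
      have h2 : pt w τ₀ ≫ act g.1 = pt w τ₀ ≫ act g'.1 := by
        rw [← he2 g, ← he2 g', h1]
      obtain ⟨g₀, -, huniq⟩ := htrans Ω (pt w τ₀) (pt w τ₀ ≫ act g.1)
        (by rw [Category.assoc, hover])
      apply Subtype.ext
      rw [huniq g.1 rfl, huniq g'.1 h2.symm]
    · rintro ⟨τ, hτ⟩
      obtain ⟨g, hg, -⟩ := htrans Ω (pt w τ₀) (pt w τ)
        (by rw [pt_comp h w ι τ₀ hτ₀, pt_comp h w ι τ hτ])
      have hmem : g ∈ decompC act hone hmul w := by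
        show (act g) w = w
        have h1 := pt_base w τ (IsLocalRing.closedPoint Ω)
        rw [← hg, Scheme.Hom.comp_apply, pt_base] at h1
        exact h1
      refine ⟨⟨g, hmem⟩, Subtype.ext ?_⟩
      apply pt_injective w
      show pt w (e ⟨g, hmem⟩) = pt w τ
      rw [he2 ⟨g, hmem⟩, hg]
  rw [← Nat.card_eq_of_bijective E hE]
  exact Subgroup.card_subgroup_dvd_card _

include hone hmul hover htrans in
/-- **Galois**: the residue field extension is Galois of degree dividing the order of `C`. -/
theorem isGalois_of_act [Finite C] (w : W) :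
    letI : Algebra (Y.residueField (h.base w)) (W.residueField w) :=
      (h.residueFieldMap w).hom.toAlgebra
    FiniteDimensional (Y.residueField (h.base w)) (W.residueField w) →
    Algebra.IsSeparable (Y.residueField (h.base w)) (W.residueField w) →
    IsGalois (Y.residueField (h.base w)) (W.residueField w) ∧
      Module.finrank (Y.residueField (h.base w)) (W.residueField w) ∣ Nat.card C := by
  letI algKL : Algebra (Y.residueField (h.base w)) (W.residueField w) :=
    (h.residueFieldMap w).hom.toAlgebra
  intro hfd hsep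
  haveI := hfd
  haveI := hsep
  have H : ∀ τ τ' : W.residueField w →ₐ[Y.residueField (h.base w)]
      AlgebraicClosure (Y.residueField (h.base w)),
      ∃ f : W.residueField w →+* W.residueField w,
        (τ' : W.residueField w →+* AlgebraicClosure (Y.residueField (h.base w))) =
          (τ : W.residueField w →+* AlgebraicClosure (Y.residueField (h.base w))).comp f := by
    intro τ τ'
    exact exists_comp_of_act h act hover htrans w
      (algebraMap (Y.residueField (h.base w)) (AlgebraicClosure (Y.residueField (h.base w))))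
      τ τ' (by ext c; exact τ.commutes c) (by ext c; exact τ'.commutes c)
  obtain ⟨hgal, hcard⟩ := isGalois_of_transitive H
  refine ⟨hgal, ?_⟩
  rw [← hcard, Nat.card_congr algHomEquivSubtype]
  let τ₀ : W.residueField w →ₐ[Y.residueField (h.base w)]
    AlgebraicClosure (Y.residueField (h.base w)) := IsAlgClosed.lift
  exact card_emb_dvd_act h act hone hmul hover htrans w
    (algebraMap (Y.residueField (h.base w)) (AlgebraicClosure (Y.residueField (h.base w))))
    (τ₀ : W.residueField w →+* AlgebraicClosure (Y.residueField (h.base w)))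
    (by ext c; exact τ₀.commutes c)

end act

end Groth.Agent.Lib.RelTameH8
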