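import Mathlib
import Groth.Prelude.Def_EtRam
import Groth.Prelude.Def_FEt
import Groth.Prelude.Def_SGA1t
import Groth.Agent.Lib.GalTame1_helper8
import Groth.Agent.Lib.RelTame1_helper8
import Groth.Agent.Lib.RelTame2_helper8
import Groth.Agent.Lib.RelTame3_helper8

/-!
# S3711: principal covers of order invertible on the base are tame (helper8)
-/

set_option autoImplicit false
universe u

namespace Groth.Agent.Lib.RelTameH8

open AlgebraicGeometry CategoryTheory Limits Groth.Agent.Lib.GalTameH8

section main

variable {X S : Scheme.{u}} (f : X ⟶ S) {r : ℕ} (φ : Fin r → Γ(X, ⊤))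
  {C : Type} [Group C] (P : FEt.Cat (SGA1t.compl φ : Scheme.{u})) (ρ : C →* Aut P)
  {T : Scheme.{u}} (q : T ⟶ X)

/-- the structure map of the cover, to `X` -/
noncomputable abbrev pX : P.left ⟶ X := P.hom ≫ (SGA1t.compl φ).ι

theorem rho_w (g : C) : (ρ g).hom.left ≫ pX φ P = pX φ P := by
  unfold pX
  rw [← Category.assoc, Over.w]

/-- the action of `C` on the pullback of the cover -/
noncomputable def actC (g : C) : pullback (pX φ P) q ⟶ pullback (pX φ P) q :=
  pullback.lift (pullback.fst _ _ ≫ (ρ g).hom.left) (pullback.snd _ _) (by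
    rw [Category.assoc, rho_w, pullback.condition])

theorem actC_fst (g : C) : actC φ P ρ q g ≫ pullback.fst _ _ = pullback.fst _ _ ≫ (ρ g).hom.left :=
  pullback.lift_fst _ _ _

theorem actC_snd (g : C) : actC φ P ρ q g ≫ pullback.snd _ _ = pullback.snd _ _ :=
  pullback.lift_snd _ _ _

theorem actC_one : actC φ P ρ q 1 = 𝟙 _ := by
  apply pullback.hom_ext
  · rw [actC_fst, map_one, Category.id_comp]
    show pullback.fst _ _ ≫ (𝟙 P : P ⟶ P).left = _
    simp
  · rw [actC_snd, Category.id_comp]

theorem actC_mul (g g' : C) : actC φ P ρ q (g * g') = actC φ P ρ q g' ≫ actC φ P ρ q g := by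
  apply pullback.hom_ext
  · rw [actC_fst, Category.assoc, actC_fst, ← Category.assoc, actC_fst, Category.assoc, map_mul,
      Aut.Aut_mul_def]
    rfl
  · rw [actC_snd, Category.assoc, actC_snd, actC_snd]

theorem actC_trans (hP : SGA1t.IsPrincipal C P ρ) (Ω : Type u) [Field Ω] [IsAlgClosed Ω]
    (s t : Spec (CommRingCat.of Ω) ⟶ pullback (pX φ P) q)
    (hst : s ≫ pullback.snd _ _ = t ≫ pullback.snd _ _) :
    ∃! g : C, s ≫ actC φ P ρ q g = t := by
  have h1 : (s ≫ pullback.fst _ _) ≫ P.hom = (t ≫ pullback.fst _ _) ≫ P.hom := by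
    rw [← cancel_mono (SGA1t.compl φ).ι]
    show (s ≫ pullback.fst _ _) ≫ pX φ P = (t ≫ pullback.fst _ _) ≫ pX φ P
    rw [Category.assoc, Category.assoc, pullback.condition, ← Category.assoc, ← Category.assoc, hst]
  obtain ⟨g, hg, huniq⟩ := hP.2 Ω ((s ≫ pullback.fst _ _) ≫ P.hom)
    ⟨s ≫ pullback.fst _ _, rfl⟩ ⟨t ≫ pullback.fst _ _, h1.symm⟩
  have key : ∀ g' : C, (s ≫ actC φ P ρ q g' = t) ↔
      (FEt.fiber ((s ≫ pullback.fst _ _) ≫ P.hom)).map (ρ g').hom
        ⟨s ≫ pullback.fst _ _, rfl⟩ = ⟨t ≫ pullback.fst _ _, h1.symm⟩ := by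
    intro g'
    constructor
    · intro h2
      apply Subtype.ext
      show (s ≫ pullback.fst _ _) ≫ (ρ g').hom.left = t ≫ pullback.fst _ _
      rw [← h2, Category.assoc, Category.assoc, actC_fst]
    · intro h2
      have h3 : (s ≫ pullback.fst _ _) ≫ (ρ g').hom.left = t ≫ pullback.fst _ _ :=
        congrArg Subtype.val h2
      apply pullback.hom_ext
      · rw [Category.assoc, actC_fst, ← Category.assoc, h3]
      · rw [Category.assoc, actC_snd, hst]
  exact ⟨g, (key g).mpr hg, fun g' hg' => huniq g' ((key g').mp hg')⟩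

set_option maxHeartbeats 1600000 in
theorem main3711 [Finite C]
    (hC : ∀ s : S, IsUnit ((Nat.card C : ℕ) : S.residueField s))
    (hP : SGA1t.IsPrincipal C P ρ) : SGA1t.IsRelTame f φ P := by
  intro Ω _ _ σ _ y _ hdvr w hspec hne
  haveI : IsFinite P.hom := P.prop.1
  haveI : Etale P.hom := P.prop.2
  haveI : Etale (pX φ P) := inferInstance
  let hh : pullback (pX φ P) (pullback.fst f σ) ⟶ pullback f σ := pullback.snd _ _
  haveI : Etale hh := inferInstance
  letI algKL : Algebra ((pullback f σ).residueField (hh.base w))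
      ((pullback (pX φ P) (pullback.fst f σ)).residueField w) :=
    (hh.residueFieldMap w).hom.toAlgebra
  have hfs := residue_finite_separable' hh w
  haveI hfd : FiniteDimensional ((pullback f σ).residueField (hh.base w))
      ((pullback (pX φ P) (pullback.fst f σ)).residueField w) := hfs.1
  haveI hsep : Algebra.IsSeparable ((pullback f σ).residueField (hh.base w))
      ((pullback (pX φ P) (pullback.fst f σ)).residueField w) := hfs.2
  obtain ⟨hgal, hdvd⟩ := isGalois_of_act hh (actC φ P ρ (pullback.fst f σ))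
    (actC_one φ P ρ _) (actC_mul φ P ρ _) (actC_snd φ P ρ _)
    (fun Ω' _ _ s t hst => actC_trans φ P ρ _ hP Ω' s t hst) w hfd hsep
  haveI := hgal
  letI algAK : Algebra ((pullback f σ).presheaf.stalk y) ((pullback f σ).residueField (hh.base w)) :=
    (((pullback f σ).residue _).hom.comp ((pullback f σ).presheaf.stalkSpecializes hspec).hom).toAlgebra
  haveI hfr : IsFractionRing ((pullback f σ).presheaf.stalk y)
      ((pullback f σ).residueField (hh.base w)) :=
    isFractionRing_residueField hspec hne hdvr
  letI algAL : Algebra ((pullback f σ).presheaf.stalk y)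
      ((pullback (pX φ P) (pullback.fst f σ)).residueField w) :=
    ((hh.residueFieldMap w).hom.comp
      (((pullback f σ).residue _).hom.comp
        ((pullback f σ).presheaf.stalkSpecializes hspec).hom)).toAlgebra
  haveI : IsScalarTower ((pullback f σ).presheaf.stalk y) ((pullback f σ).residueField (hh.base w))
      ((pullback (pX φ P) (pullback.fst f σ)).residueField w) :=
    IsScalarTower.of_algebraMap_eq (fun _ => rfl)
  haveI := hdvr
  apply tame_of_galois_coprime (A := (pullback f σ).presheaf.stalk y)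
    (K := (pullback f σ).residueField (hh.base w))
    (L := (pullback (pX φ P) (pullback.fst f σ)).residueField w)
  intro p hp hchar hpd
  have hpC : p ∣ Nat.card C := hpd.trans hdvd
  let ψ : S.residueField ((pullback.fst f σ ≫ f).base y) →+* (pullback f σ).residueField y :=
    ((pullback.fst f σ ≫ f).residueFieldMap y).hom
  have h1 : IsUnit ((Nat.card C : ℕ) : (pullback f σ).residueField y) := by
    have := (hC ((pullback.fst f σ ≫ f).base y)).map ψ
    rwa [map_natCast] at this
  have h2 : ((Nat.card C : ℕ) : (pullback f σ).residueField y) = 0 := by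
    haveI : CharP ((pullback f σ).residueField y) p := hchar
    exact (CharP.cast_eq_zero_iff _ p _).mpr hpC
  rw [h2] at h1
  exact not_isUnit_zero h1

end main

end Groth.Agent.Lib.RelTameH8
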