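import Mathlib
import Groth.Prelude
import Groth.Agent.Lib.GrTiComap_helper5
import Groth.Agent.Lib.RelTwEx2_helper5

/-!
# Existence of the modules `ℳ(n)~` on a relative `Proj`, part 1: maps of localized modules along
a ring homomorphism and a semilinear map (helper5)
-/

set_option autoImplicit false
universe u
open CategoryTheory CategoryTheory.Limits AlgebraicGeometry TopologicalSpace Opposite DirectSum

namespace Groth.Agent.RelTiEx

section Alg
variable {A B : Type u} [CommRing A] [CommRing B] {M N : Type u} [AddCommGroup M] [Module A M]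
  [AddCommGroup N] [Module B N]
  (f : A →+* B) (v : M →ₛₗ[f] N) (I : Ideal A) [I.IsPrime] (J : Ideal B) [J.IsPrime]
  (h : I = J.comap f)

include h in
theorem map_mem_primeCompl (s : I.primeCompl) : f (s : A) ∈ J.primeCompl := by
  intro hs
  apply s.2
  have : (s : A) ∈ J.comap f := hs
  exact h ▸ this

/-- The value `v m / f s` on a representative `(m, s)`. -/
def locFun (q : M × I.primeCompl) : LocalizedModule J.primeCompl N :=
  LocalizedModule.mk (v q.1) ⟨f (q.2 : A), map_mem_primeCompl f I J h q.2⟩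

theorem locFun_wd (q q' : M × I.primeCompl) (hq : q ≈ q') :
    locFun f v I J h q = locFun f v I J h q' := by
  obtain ⟨m, s⟩ := q
  obtain ⟨m', s'⟩ := q'
  obtain ⟨w, hw⟩ := hq
  refine LocalizedModule.mk_eq.mpr ⟨⟨f (w : A), map_mem_primeCompl f I J h w⟩, ?_⟩
  have hw' := congrArg v hw
  simp only [Submonoid.smul_def, LinearMap.map_smulₛₗ] at hw' ⊢
  exact hw'

/-- The induced additive map of localized modules `M_I → N_J`, `m / s ↦ v m / f s`, for
`I = f⁻¹ J`. -/
def glocM : LocalizedModule I.primeCompl M →+ LocalizedModule J.primeCompl N where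
  toFun q := q.liftOn (locFun f v I J h) (locFun_wd f v I J h)
  map_zero' := by
    rw [← LocalizedModule.zero_mk 1, LocalizedModule.liftOn_mk]
    change LocalizedModule.mk (v 0) _ = 0
    rw [map_zero, LocalizedModule.zero_mk]
  map_add' q q' := by
    induction q using LocalizedModule.induction_on with
    | h m s =>
      induction q' using LocalizedModule.induction_on with
      | h m' s' =>
        rw [LocalizedModule.mk_add_mk, LocalizedModule.liftOn_mk, LocalizedModule.liftOn_mk,
          LocalizedModule.liftOn_mk]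
        change LocalizedModule.mk (v (s' • m + s • m')) _ =
          LocalizedModule.mk (v m) _ + LocalizedModule.mk (v m') _
        rw [LocalizedModule.mk_add_mk]
        simp only [map_add, Submonoid.smul_def, LinearMap.map_smulₛₗ]
        congr 1
        exact Subtype.ext (by simp [map_mul])

@[simp] theorem glocM_mk (m : M) (s : I.primeCompl) :
    glocM f v I J h (LocalizedModule.mk m s) =
      LocalizedModule.mk (v m) ⟨f (s : A), map_mem_primeCompl f I J h s⟩ := rfl

theorem glocM_comp {C P : Type u} [CommRing C] [AddCommGroup P] [Module C P]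
    (g : B →+* C) (w : N →ₛₗ[g] P) (K : Ideal C) [K.IsPrime] (h' : J = K.comap g)
    (f3 : A →+* C) (v3 : M →ₛₗ[f3] P) (h3 : I = K.comap f3)
    (hf : ∀ a, f3 a = g (f a)) (hv : ∀ m, v3 m = w (v m))
    (q : LocalizedModule I.primeCompl M) :
    glocM g w J K h' (glocM f v I J h q) = glocM f3 v3 I K h3 q := by
  induction q using LocalizedModule.induction_on with
  | h m s =>
    rw [glocM_mk, glocM_mk, glocM_mk, hv]
    congr 1
    exact Subtype.ext (hf s).symm

theorem glocM_self (f : A →+* A) (v : M →ₛₗ[f] M) (I : Ideal A) [I.IsPrime] (h : I = I.comap f)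
    (hf : ∀ a, f a = a) (hv : ∀ m, v m = m) (q : LocalizedModule I.primeCompl M) :
    glocM f v I I h q = q := by
  induction q using LocalizedModule.induction_on with
  | h m s =>
    rw [glocM_mk, hv]
    congr 1
    exact Subtype.ext (hf s)

/-- If `B = A[1/c]` and `N = M[1/c]` (through `v`), then `M_{f⁻¹ J} → N_J` is bijective. -/
theorem glocM_bijective_of_away (c : A)
    (hloc : letI := f.toAlgebra; IsLocalization.Away c B)
    (hsurj : ∀ n' : N, ∃ (k : ℕ) (m : M), f c ^ k • n' = v m)
    (hker : ∀ m : M, v m = 0 → ∃ k : ℕ, c ^ k • m = 0) :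
    Function.Bijective (glocM f v I J h) := by
  letI := f.toAlgebra
  haveI : IsLocalization (Submonoid.powers c) B := hloc
  have hu : IsUnit (f c) := IsLocalization.map_units (M := Submonoid.powers c) B ⟨c, 1, pow_one c⟩
  have hfcJ : ∀ k : ℕ, f c ^ k ∉ J := fun k hk =>
    (Ideal.IsPrime.ne_top inferInstance) (Ideal.eq_top_of_isUnit_mem J hk (hu.pow k))
  have hcI : ∀ k : ℕ, c ^ k ∉ I := fun k hk => by
    rw [h] at hk
    have : f (c ^ k) ∈ J := hk
    rw [map_pow] at this
    exact hfcJ k this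
  have hB : ∀ b : B, ∃ (k : ℕ) (a : A), b * f c ^ k = f a := fun b => by
    obtain ⟨⟨a, s, hs⟩, has⟩ := IsLocalization.surj (Submonoid.powers c) b
    obtain ⟨k, rfl⟩ := (Submonoid.mem_powers_iff _ _).mp hs
    refine ⟨k, a, ?_⟩
    have : b * f (c ^ k) = f a := has
    rw [map_pow] at this
    exact this
  have hlift : ∀ t : B, t ∉ J → ∃ (k : ℕ) (a : A), t * f c ^ k = f a ∧ a ∉ I := fun t ht => by
    obtain ⟨k, a, hka⟩ := hB t
    refine ⟨k, a, hka, fun haI => ?_⟩
    rw [h] at haI
    have : f a ∈ J := haI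
    rw [← hka] at this
    exact (Ideal.IsPrime.mem_or_mem inferInstance this).elim ht (hfcJ k)
  constructor
  · rw [injective_iff_map_eq_zero]
    intro q hq
    induction q using LocalizedModule.induction_on with
    | h m s =>
      rw [glocM_mk, ← LocalizedModule.zero_mk (1 : J.primeCompl), LocalizedModule.mk_eq] at hq
      obtain ⟨u, hu0⟩ := hq
      simp only [Submonoid.smul_def, smul_zero, OneMemClass.coe_one, one_smul] at hu0
      obtain ⟨k, a, hka, haI⟩ := hlift (u : B) u.2
      have h1 : v (a • m) = 0 := by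
        rw [LinearMap.map_smulₛₗ, ← hka, mul_comm, mul_smul, hu0, smul_zero]
      obtain ⟨k', hk'⟩ := hker _ h1
      rw [← LocalizedModule.zero_mk (1 : I.primeCompl), LocalizedModule.mk_eq]
      refine ⟨⟨c ^ k' * a, fun hmem =>
        (Ideal.IsPrime.mem_or_mem inferInstance hmem).elim (hcI k') haI⟩, ?_⟩
      simp only [Submonoid.smul_def, smul_zero, OneMemClass.coe_one, one_smul]
      rw [mul_smul]
      exact hk'
  · intro q'
    induction q' using LocalizedModule.induction_on with
    | h n' t =>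
      obtain ⟨k, m, hkm⟩ := hsurj n'
      obtain ⟨k₂, a, hka, haI⟩ := hlift (t : B) t.2
      refine ⟨LocalizedModule.mk (c ^ k₂ • m) ⟨a * c ^ k, fun hmem =>
        (Ideal.IsPrime.mem_or_mem inferInstance hmem).elim haI (hcI k)⟩, ?_⟩
      rw [glocM_mk, LocalizedModule.mk_eq]
      refine ⟨1, ?_⟩
      simp only [Submonoid.smul_def, OneMemClass.coe_one, one_smul, LinearMap.map_smulₛₗ, map_mul,
        map_pow]
      rw [← hkm, ← hka, smul_smul, smul_smul]
      try rw [smul_smul]
      try (congr 1; ring)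

end Alg

section Gr
variable {A σ : Type u} [CommRing A] [SetLike σ A] [AddSubgroupClass σ A] {𝒜 : ℕ → σ}
  [GradedRing 𝒜]
  {B σ' : Type u} [CommRing B] [SetLike σ' B] [AddSubgroupClass σ' B] {ℬ : ℕ → σ'} [GradedRing ℬ]
  (ψ : 𝒜 →+*ᵍ ℬ)
  {M τ : Type u} [AddCommGroup M] [Module A M] [SetLike τ M] [AddSubgroupClass τ M] (ℳ : ℕ → τ)
  [DirectSum.Decomposition ℳ]
  {N τ' : Type u} [AddCommGroup N] [Module B N] [SetLike τ' N] [AddSubgroupClass τ' N] (𝒩 : ℕ → τ')
  [SetLike.GradedSMul ℬ 𝒩] [DirectSum.Decomposition 𝒩]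
  (v : M →ₛₗ[ψ.toRingHom] N) (hv : ∀ (i : ℕ) (m : M), m ∈ ℳ i → v m ∈ 𝒩 i)

include hv in
/-- Homogeneous elements of `M[1/c]`, `c` of degree zero, lift to homogeneous elements of `M` after
multiplication by a power of `c`. -/
theorem exists_homog_lift_mod (c : A) (hc : c ∈ 𝒜 0)
    (hsurj : ∀ n' : N, ∃ (k : ℕ) (m : M), ψ c ^ k • n' = v m) {i : ℕ} {n' : N} (hn' : n' ∈ 𝒩 i) :
    ∃ (m : M) (k : ℕ), m ∈ ℳ i ∧ v m = ψ c ^ k • n' := by
  classical
  obtain ⟨k, m₀, hkm⟩ := hsurj n'
  have hc0 : ψ c ^ k ∈ ℬ 0 := by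
    have := SetLike.pow_mem_graded (A := ℬ) k (ψ.map_mem hc)
    simpa using this
  have hmem : ψ c ^ k • n' ∈ 𝒩 i := by
    have := SetLike.GradedSMul.smul_mem (A := ℬ) (B := 𝒩) hc0 hn'
    simpa [vadd_eq_add] using this
  refine ⟨(DirectSum.decompose ℳ m₀ i : M), k, SetLike.coe_mem _, ?_⟩
  rw [← Groth.Agent.GrTi.decompose_map ψ ℳ 𝒩 v hv, ← hkm,
    DirectSum.decompose_of_mem_same 𝒩 hmem]

end Gr

end Groth.Agent.RelTiEx
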