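import Mathlib
import Groth.Prelude
import Groth.Agent.Lib.RelTiEx1_helper5
import Groth.Agent.Lib.GrTiGlue_helper5
import Groth.Agent.Lib.GrTiVanish_helper5

/-!
# Existence of the modules `ℳ(n)~` on a relative `Proj`, part 2: comparing the localized modules
at corresponding points of two charts (helper5)
-/

set_option autoImplicit false
universe u
open CategoryTheory CategoryTheory.Limits AlgebraicGeometry TopologicalSpace Opposite DirectSum

namespace Groth.Agent.RelTiEx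

open Groth.Agent.RelTwEx

section Rel
variable {Y P : Scheme.{u}} {𝒮 : RelProj.QCGrAlg Y} {p : P ⟶ Y}
  {chart : ∀ (U : Y.Opens) (hU : IsAffineOpen U),
    (((p ⁻¹ᵁ U : P.Opens) : Scheme.{u}) ≅ Proj (𝒮.deg U hU))}
  (ℳ : RelProj.GrModule 𝒮)

theorem mres_res_apply {U V W : Y.Opens} (hU : IsAffineOpen U) (hV : IsAffineOpen V)
    (hW : IsAffineOpen W) (i : V ≤ U) (j : W ≤ V) (m : ℳ.mod.val.obj (op U)) :
    ℳ.res hV hW j (ℳ.res hU hV i m) = ℳ.res hU hW (j.trans i) m := by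
  show (ℳ.mod.val.map (homOfLE j).op).hom ((ℳ.mod.val.map (homOfLE i).op).hom m) =
    (ℳ.mod.val.map (homOfLE (j.trans i)).op).hom m
  exact (PresheafOfModules.map_comp_apply ℳ.mod.val (homOfLE i).op (homOfLE j).op m).symm

theorem mres_self_apply {U : Y.Opens} (hU : IsAffineOpen U) (m : ℳ.mod.val.obj (op U)) :
    ℳ.res hU hU le_rfl m = m := by
  show (ℳ.mod.val.map (homOfLE (le_refl U)).op).hom m = m
  have h : (homOfLE (le_refl U)).op = 𝟙 (op U) := rfl
  rw [h]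
  simp

/-- The canonical map between the localized modules at corresponding points of two charts. -/
noncomputable def glocR (hP : RelProj.IsRelProj 𝒮 p chart) {V V' : Y.Opens} (hV : IsAffineOpen V)
    (hV' : IsAffineOpen V') (hle : V' ≤ V)
    (y : ProjectiveSpectrum (𝒮.deg V hV)) (y' : ProjectiveSpectrum (𝒮.deg V' hV'))
    (h : (RelProj.emb p chart V hV) y = (RelProj.emb p chart V' hV') y') :
    GrMod.LocMod (𝒮.deg V hV) (M := ℳ.mod.val.obj (op V)) y →+
      GrMod.LocMod (𝒮.deg V' hV') (M := ℳ.mod.val.obj (op V')) y' :=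
  glocM (𝒮.res hV hV' hle).toRingHom (ℳ.res hV hV' hle) _ _ (ptCompat hP hV hV' hle y y' h)

theorem glocR_mk (hP : RelProj.IsRelProj 𝒮 p chart) {V V' : Y.Opens} (hV : IsAffineOpen V)
    (hV' : IsAffineOpen V') (hle : V' ≤ V)
    (y : ProjectiveSpectrum (𝒮.deg V hV)) (y' : ProjectiveSpectrum (𝒮.deg V' hV'))
    (h : (RelProj.emb p chart V hV) y = (RelProj.emb p chart V' hV') y')
    (m : ℳ.mod.val.obj (op V)) (s : 𝒮.presheaf.obj (op V))
    (hs : s ∈ y.asHomogeneousIdeal.toIdeal.primeCompl)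
    (hs' : 𝒮.res hV hV' hle s ∈ y'.asHomogeneousIdeal.toIdeal.primeCompl) :
    glocR ℳ hP hV hV' hle y y' h (LocalizedModule.mk m ⟨s, hs⟩) =
      LocalizedModule.mk (ℳ.res hV hV' hle m) ⟨𝒮.res hV hV' hle s, hs'⟩ := rfl

theorem glocR_comp (hP : RelProj.IsRelProj 𝒮 p chart) {V V' V'' : Y.Opens} (hV : IsAffineOpen V)
    (hV' : IsAffineOpen V') (hV'' : IsAffineOpen V'') (hle : V' ≤ V) (hle' : V'' ≤ V')
    (y : ProjectiveSpectrum (𝒮.deg V hV)) (y' : ProjectiveSpectrum (𝒮.deg V' hV'))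
    (y'' : ProjectiveSpectrum (𝒮.deg V'' hV''))
    (h : (RelProj.emb p chart V hV) y = (RelProj.emb p chart V' hV') y')
    (h' : (RelProj.emb p chart V' hV') y' = (RelProj.emb p chart V'' hV'') y'')
    (v : GrMod.LocMod (𝒮.deg V hV) (M := ℳ.mod.val.obj (op V)) y) :
    glocR ℳ hP hV' hV'' hle' y' y'' h' (glocR ℳ hP hV hV' hle y y' h v) =
      glocR ℳ hP hV hV'' (hle'.trans hle) y y'' (h.trans h') v :=
  glocM_comp _ _ _ _ _ _ _ _ _ _ _ _
    (fun a => (res_res_apply hV hV' hV'' hle hle' a).symm)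
    (fun m => (mres_res_apply ℳ hV hV' hV'' hle hle' m).symm) v

theorem glocR_self (hP : RelProj.IsRelProj 𝒮 p chart) {V : Y.Opens} (hV : IsAffineOpen V)
    (y : ProjectiveSpectrum (𝒮.deg V hV))
    (v : GrMod.LocMod (𝒮.deg V hV) (M := ℳ.mod.val.obj (op V)) y) :
    glocR ℳ hP hV hV le_rfl y y rfl v = v :=
  glocM_self _ _ _ _ (fun a => res_self_apply hV a) (fun m => mres_self_apply ℳ hV m) v

theorem res_str {V D : Y.Opens} (hV : IsAffineOpen V) (hD : IsAffineOpen D) (hle : D ≤ V)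
    (r : Γ(Y, V)) :
    𝒮.res hV hD hle ((𝒮.str.app (op V)).hom r) =
      (𝒮.str.app (op D)).hom ((Y.presheaf.map (homOfLE hle).op).hom r) := by
  have := congr_arg (fun ψ => ψ.hom r) (𝒮.str.naturality (homOfLE hle).op)
  simp only [CommRingCat.hom_comp, RingHom.comp_apply] at this
  exact this.symm

/-- Quasi-coherence: sections over `D(r)` come from sections over `V` after multiplication by a
power of `r`. -/
theorem mod_surj (hℳ : Coh.IsQCoh ((AMod.toOS 𝒮.toQCAlg).obj ℳ.mod)) {V : Y.Opens}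
    (hV : IsAffineOpen V) (r : Γ(Y, V)) (hD : IsAffineOpen (Y.basicOpen r))
    (hDV : Y.basicOpen r ≤ V) (n' : ℳ.mod.val.obj (op (Y.basicOpen r))) :
    ∃ (k : ℕ) (m : ℳ.mod.val.obj (op V)),
      (𝒮.res hV hD hDV ((𝒮.str.app (op V)).hom r)) ^ k • n' = ℳ.res hV hD hDV m := by
  haveI : (Groth.Agent.GrTi.osMod ℳ).IsQuasicoherent := hℳ
  have hloc := QCohCrit.locOnU_of_isQuasicoherent (Groth.Agent.GrTi.osMod ℳ) hV r
  obtain ⟨k, m, hkm⟩ := hloc.surj (Groth.Agent.GrTi.toG ℳ _ n')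
  refine ⟨k, m, ?_⟩
  have h2 : (((𝒮.str.app (op (Y.basicOpen r))).hom
      (((Y.presheaf.map (homOfLE hDV).op).hom r) ^ k) :
      𝒮.presheaf.obj (op (Y.basicOpen r))) • n') = ℳ.res hV hD hDV m := hkm
  rw [← h2, map_pow]
  congr 2
  exact res_str hV hD hDV r

theorem glocR_bijective_basic (hP : RelProj.IsRelProj 𝒮 p chart)
    (hℳ : Coh.IsQCoh ((AMod.toOS 𝒮.toQCAlg).obj ℳ.mod)) {V D : Y.Opens}
    (hV : IsAffineOpen V) (hD : IsAffineOpen D) (hDV : D ≤ V)
    (hbas : ∃ r : Γ(Y, V), D = Y.basicOpen r)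
    (y : ProjectiveSpectrum (𝒮.deg V hV)) (y' : ProjectiveSpectrum (𝒮.deg D hD))
    (h : (RelProj.emb p chart V hV) y = (RelProj.emb p chart D hD) y') :
    Function.Bijective (glocR ℳ hP hV hD hDV y y' h) := by
  obtain ⟨r, rfl⟩ := hbas
  haveI : (Groth.Agent.GrTi.osMod ℳ).IsQuasicoherent := hℳ
  have hloc := QCohCrit.locOnU_of_isQuasicoherent (Groth.Agent.GrTi.osMod ℳ) hV r
  refine glocM_bijective_of_away _ _ _ _ _ ((𝒮.str.app (op V)).hom r) (𝒮.isQC V hV r) ?_ ?_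
  · exact fun n' => mod_surj ℳ hℳ hV r hD hDV n'
  · intro m hm
    obtain ⟨k, hk⟩ := hloc.ker (Groth.Agent.GrTi.toG ℳ _ m) hm
    refine ⟨k, ?_⟩
    have h2 : (((𝒮.str.app (op V)).hom (r ^ k) : 𝒮.presheaf.obj (op V)) • m) = 0 := hk
    rw [map_pow] at h2
    exact h2

theorem glocR_bijective (hP : RelProj.IsRelProj 𝒮 p chart)
    (hℳ : Coh.IsQCoh ((AMod.toOS 𝒮.toQCAlg).obj ℳ.mod)) {V V' : Y.Opens} (hV : IsAffineOpen V)
    (hV' : IsAffineOpen V') (hle : V' ≤ V)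
    (y : ProjectiveSpectrum (𝒮.deg V hV)) (y' : ProjectiveSpectrum (𝒮.deg V' hV'))
    (h : (RelProj.emb p chart V hV) y = (RelProj.emb p chart V' hV') y') :
    Function.Bijective (glocR ℳ hP hV hV' hle y y' h) := by
  obtain ⟨D, hD, hDV, hDV', hb, hb', y'', hy''⟩ := exists_common_basic (𝒮 := 𝒮) (chart := chart)
    hV hV' ((RelProj.emb p chart V hV) y) (Groth.Agent.GrTw.mem_preimage_of_emb V hV y)
    (h ▸ Groth.Agent.GrTw.mem_preimage_of_emb V' hV' y')
  have b1 := glocR_bijective_basic ℳ hP hℳ hV hD hDV hb y y'' hy''.symm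
  have b2 := glocR_bijective_basic ℳ hP hℳ hV' hD hDV' hb' y' y'' (h.symm.trans hy''.symm)
  have hc : (glocR ℳ hP hV' hD hDV' y' y'' (h.symm.trans hy''.symm)) ∘
      (glocR ℳ hP hV hV' hle y y' h) = glocR ℳ hP hV hD hDV y y'' hy''.symm := by
    funext v
    exact glocR_comp ℳ hP hV hV' hD hle hDV' y y' y'' h _ v
  rw [← Function.Bijective.of_comp_iff' b2, hc]
  exact b1

/-- The prelude's `locModMap` along the restriction to a basic open is a `glocR`. -/
theorem locModMap_eq_glocR (hP : RelProj.IsRelProj 𝒮 p chart) {V : Y.Opens} (hV : IsAffineOpen V)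
    (r : Γ(Y, V)) (y : ProjectiveSpectrum (𝒮.deg (Y.basicOpen r) (hV.basicOpen r)))
    (v : GrMod.LocMod (𝒮.deg V hV) (M := ℳ.mod.val.obj (op V)) (ProjectiveSpectrum.comap
      (𝒮.res hV (hV.basicOpen r) (Y.basicOpen_le r)) (𝒮.irrelevant_le_map V hV r) y)) :
    GrMod.locModMap (𝒮.res hV (hV.basicOpen r) (Y.basicOpen_le r)) (𝒮.irrelevant_le_map V hV r)
        (ℳ.res hV (hV.basicOpen r) (Y.basicOpen_le r)) y v =
      glocR ℳ hP hV (hV.basicOpen r) (Y.basicOpen_le r) _ y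
        (Groth.Agent.GrTw.emb_comap hP V hV r y) v := by
  induction v using LocalizedModule.induction_on with
  | h m s => rfl

end Rel

end Groth.Agent.RelTiEx
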