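import Mathlib
import Groth.Prelude
import Groth.Agent.Lib.RelTiEx2_helper5
import Groth.Agent.Lib.RelTwEx3_helper5

/-!
# Existence of the modules `ℳ(n)~` on a relative `Proj`, part 3: a section of `ℳ(U₀)(n)~` on an
open of one chart extends uniquely to a compatible family of chartwise sections (helper5)
-/

set_option autoImplicit false
universe u
open CategoryTheory CategoryTheory.Limits AlgebraicGeometry TopologicalSpace Opposite DirectSum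

namespace Groth.Agent.RelTiEx

open Groth.Agent.RelTwEx

section Alg
variable {A σ : Type u} [CommRing A] [SetLike σ A] [AddSubgroupClass σ A] {𝒜 : ℕ → σ}
  [GradedRing 𝒜]
  {B σ' : Type u} [CommRing B] [SetLike σ' B] [AddSubgroupClass σ' B] {ℬ : ℕ → σ'} [GradedRing ℬ]
  (ψ : 𝒜 →+*ᵍ ℬ)
  {M τ : Type u} [AddCommGroup M] [Module A M] [SetLike τ M] [AddSubgroupClass τ M] (ℳ : ℕ → τ)
  [SetLike.GradedSMul 𝒜 ℳ] [DirectSum.Decomposition ℳ]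
  {N τ' : Type u} [AddCommGroup N] [Module B N] [SetLike τ' N] [AddSubgroupClass τ' N] (𝒩 : ℕ → τ')
  [SetLike.GradedSMul ℬ 𝒩] [DirectSum.Decomposition 𝒩]
  (v : M →ₛₗ[ψ.toRingHom] N) (hv : ∀ (i : ℕ) (m : M), m ∈ ℳ i → v m ∈ 𝒩 i)

include hv in
theorem exists_homog_lift_pair_mod (c : A) (hc : c ∈ 𝒜 0)
    (hloc : letI := ψ.toRingHom.toAlgebra; IsLocalization.Away c B)
    (hsurj : ∀ n' : N, ∃ (k : ℕ) (m : M), ψ c ^ k • n' = v m) {i j : ℕ} {n' : N} {b' : B}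
    (hn' : n' ∈ 𝒩 i) (hb' : b' ∈ ℬ j) :
    ∃ (m : M) (s : A) (k : ℕ), m ∈ ℳ i ∧ s ∈ 𝒜 j ∧ v m = ψ c ^ k • n' ∧ ψ s = b' * ψ c ^ k := by
  obtain ⟨m, k, hm, hmk⟩ := exists_homog_lift_mod ψ ℳ 𝒩 v hv c hc hsurj hn'
  obtain ⟨s, l, hs, hsl⟩ := exists_homog_lift ψ c hc hloc hb'
  have hpow : ∀ e : ℕ, c ^ e ∈ 𝒜 0 := fun e => by
    have := SetLike.pow_mem_graded (A := 𝒜) e hc
    simpa using this
  refine ⟨c ^ l • m, s * c ^ k, k + l, ?_, ?_, ?_, ?_⟩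
  · have := SetLike.GradedSMul.smul_mem (A := 𝒜) (B := ℳ) (hpow l) hm
    simpa [vadd_eq_add] using this
  · simpa only [add_zero] using SetLike.mul_mem_graded (A := 𝒜) hs (hpow k)
  · rw [LinearMap.map_smulₛₗ, hmk, smul_smul]
    congr 1
    show ψ (c ^ l) * ψ c ^ k = ψ c ^ (k + l)
    rw [map_pow, pow_add, mul_comm]
  · rw [map_mul, map_pow, hsl, pow_add, mul_assoc, mul_comm (ψ c ^ l)]

end Alg

section Ext
variable {Y P : Scheme.{u}} {𝒮 : RelProj.QCGrAlg Y} {p : P ⟶ Y}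
  {chart : ∀ (U : Y.Opens) (hU : IsAffineOpen U),
    (((p ⁻¹ᵁ U : P.Opens) : Scheme.{u}) ≅ Proj (𝒮.deg U hU))}
  (ℳ : RelProj.GrModule 𝒮) (hP : RelProj.IsRelProj 𝒮 p chart)
  (hℳ : Coh.IsQCoh ((AMod.toOS 𝒮.toQCAlg).obj ℳ.mod)) (n : ℤ)
  {U₀ : Y.Opens} (hU₀ : IsAffineOpen U₀) {W : P.Opens}
  (t₀ : Γ(GrMod.tilde (𝒮.deg U₀ hU₀) (ℳ.deg U₀ hU₀) n, (RelProj.emb p chart U₀ hU₀) ⁻¹ᵁ W))

/-- `v` is the value at the point `y` of the chart over `V` of the extension of `t₀`. -/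
def IsVal {V : Y.Opens} (hV : IsAffineOpen V) (y : ProjectiveSpectrum (𝒮.deg V hV))
    (v : GrMod.LocMod (𝒮.deg V hV) (M := ℳ.mod.val.obj (op V)) y) : Prop :=
  ∀ (D : Y.Opens) (hD : IsAffineOpen D) (hDU : D ≤ U₀) (hDV : D ≤ V)
    (yD : ProjectiveSpectrum (𝒮.deg D hD)) (y₀ : ProjectiveSpectrum (𝒮.deg U₀ hU₀))
    (hy₀ : (RelProj.emb p chart U₀ hU₀) y₀ ∈ W)
    (h₀ : (RelProj.emb p chart U₀ hU₀) y₀ = (RelProj.emb p chart D hD) yD)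
    (h : (RelProj.emb p chart V hV) y = (RelProj.emb p chart D hD) yD),
    glocR ℳ hP hV hD hDV y yD h v =
      glocR ℳ hP hU₀ hD hDU y₀ yD h₀ (GrMod.val t₀ ⟨y₀, hy₀⟩)

variable {ℳ hP n hU₀ t₀}

include hℳ in
theorem isVal_of_one {V : Y.Opens} (hV : IsAffineOpen V) (y : ProjectiveSpectrum (𝒮.deg V hV))
    (v : GrMod.LocMod (𝒮.deg V hV) (M := ℳ.mod.val.obj (op V)) y)
    (D : Y.Opens) (hD : IsAffineOpen D) (hDU : D ≤ U₀) (hDV : D ≤ V)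
    (yD : ProjectiveSpectrum (𝒮.deg D hD)) (y₀ : ProjectiveSpectrum (𝒮.deg U₀ hU₀))
    (hy₀ : (RelProj.emb p chart U₀ hU₀) y₀ ∈ W)
    (h₀ : (RelProj.emb p chart U₀ hU₀) y₀ = (RelProj.emb p chart D hD) yD)
    (h : (RelProj.emb p chart V hV) y = (RelProj.emb p chart D hD) yD)
    (heq : glocR ℳ hP hV hD hDV y yD h v =
      glocR ℳ hP hU₀ hD hDU y₀ yD h₀ (GrMod.val t₀ ⟨y₀, hy₀⟩)) :
    IsVal ℳ hP n hU₀ t₀ hV y v := by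
  intro D' hD' hDU' hDV' yD' y₀' hy₀' h₀' h'
  have e : y₀' = y₀ := emb_injective U₀ hU₀ (h₀'.trans (h'.symm.trans (h.trans h₀.symm)))
  subst e
  obtain ⟨D'', hD'', hle1, hle2, y'', hy''⟩ := exists_common_affine (𝒮 := 𝒮) (chart := chart) D D'
    ((RelProj.emb p chart V hV) y) (h ▸ Groth.Agent.GrTw.mem_preimage_of_emb D hD yD)
    (h' ▸ Groth.Agent.GrTw.mem_preimage_of_emb D' hD' yD')
  apply (glocR_bijective ℳ hP hℳ hD' hD'' hle2 yD' y'' (h'.symm.trans hy''.symm)).1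
  rw [glocR_comp, glocR_comp]
  have e1 := glocR_comp ℳ hP hV hD hD'' hDV hle1 y yD y'' h (h.symm.trans hy''.symm) v
  have e2 := glocR_comp ℳ hP hU₀ hD hD'' hDU hle1 y₀' yD y'' h₀ (h.symm.trans hy''.symm)
    (GrMod.val t₀ ⟨y₀', hy₀⟩)
  exact e1.symm.trans ((congrArg _ heq).trans e2)

include hℳ in
/-- A fraction over `U₀` read in the chart over `V` through an affine open `D ⊆ U₀ ∩ V`. -/
theorem frac_point {V D : Y.Opens} (hV : IsAffineOpen V) (hD : IsAffineOpen D) (hDV : D ≤ V)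
    (hDU : D ≤ U₀) (ρ : 𝒮.presheaf.obj (op D)) (hu : IsUnit ρ) (k : ℕ)
    (a : ℳ.mod.val.obj (op U₀)) (s : 𝒮.presheaf.obj (op U₀))
    (a' : ℳ.mod.val.obj (op V)) (s' : 𝒮.presheaf.obj (op V))
    (hak : ℳ.res hV hD hDV a' = ρ ^ k • ℳ.res hU₀ hD hDU a)
    (hsk : 𝒮.res hV hD hDV s' = 𝒮.res hU₀ hD hDU s * ρ ^ k)
    (x : ProjectiveSpectrum (𝒮.deg V hV)) (z₀ : ProjectiveSpectrum (𝒮.deg U₀ hU₀))
    (zD : ProjectiveSpectrum (𝒮.deg D hD))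
    (hz₀ : (RelProj.emb p chart U₀ hU₀) z₀ = (RelProj.emb p chart D hD) zD)
    (hx : (RelProj.emb p chart V hV) x = (RelProj.emb p chart D hD) zD)
    (hs : s ∉ z₀.asHomogeneousIdeal) (hz₀W : (RelProj.emb p chart U₀ hU₀) z₀ ∈ W)
    (hval : GrMod.val t₀ ⟨z₀, hz₀W⟩ = LocalizedModule.mk a ⟨s, hs⟩) :
    ∃ hs' : s' ∉ x.asHomogeneousIdeal,
      IsVal ℳ hP n hU₀ t₀ hV x (LocalizedModule.mk a' ⟨s', hs'⟩) := by
  have I1 := ptCompat hP hV hD hDV x zD hx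
  have I0 := ptCompat hP hU₀ hD hDU z₀ zD hz₀
  have hs0 : 𝒮.res hU₀ hD hDU s ∉ zD.asHomogeneousIdeal.toIdeal := by
    intro hmem
    apply hs
    have : s ∈ z₀.asHomogeneousIdeal.toIdeal := by rw [I0]; exact hmem
    exact this
  have hs1 : 𝒮.res hV hD hDV s' ∉ zD.asHomogeneousIdeal.toIdeal := by
    intro h1
    rw [hsk] at h1
    obtain ⟨w, hw⟩ := (hu.pow k).exists_right_inv
    have := Ideal.mul_mem_right w _ h1
    rw [mul_assoc, hw, mul_one] at this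
    exact hs0 this
  have hs' : s' ∉ x.asHomogeneousIdeal := by
    intro hmem
    have h1 : s' ∈ x.asHomogeneousIdeal.toIdeal := hmem
    rw [I1] at h1
    exact hs1 h1
  refine ⟨hs', isVal_of_one hℳ hV x _ D hD hDU hDV zD z₀ hz₀W hz₀ hx ?_⟩
  rw [hval]
  refine (glocR_mk ℳ hP hV hD hDV x zD hx a' s' hs' hs1).trans ?_
  refine Eq.trans ?_ (glocR_mk ℳ hP hU₀ hD hDU z₀ zD hz₀ a s hs hs0).symm
  rw [LocalizedModule.mk_eq]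
  refine ⟨1, ?_⟩
  simp only [Submonoid.smul_def, OneMemClass.coe_one, one_smul]
  rw [hak, hsk, smul_smul, mul_comm]

variable (hW : W ≤ p ⁻¹ᵁ U₀)
include hW hℳ

theorem exists_isVal {V : Y.Opens} (hV : IsAffineOpen V) (y : ProjectiveSpectrum (𝒮.deg V hV))
    (hy : (RelProj.emb p chart V hV) y ∈ W) : ∃ v, IsVal ℳ hP n hU₀ t₀ hV y v := by
  have hx0 : (RelProj.emb p chart V hV) y ∈ p ⁻¹ᵁ U₀ := hW hy
  obtain ⟨D, hD, hDU, hDV, yD, hyD⟩ := exists_common_affine (𝒮 := 𝒮) (chart := chart) U₀ V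
    ((RelProj.emb p chart V hV) y) hx0 (Groth.Agent.GrTw.mem_preimage_of_emb V hV y)
  obtain ⟨y₀, hy₀⟩ := exists_pt (𝒮 := 𝒮) (chart := chart) U₀ hU₀ _ hx0
  have hy₀W : (RelProj.emb p chart U₀ hU₀) y₀ ∈ W := hy₀ ▸ hy
  obtain ⟨v, hv⟩ := (glocR_bijective ℳ hP hℳ hV hD hDV y yD hyD.symm).2
    (glocR ℳ hP hU₀ hD hDU y₀ yD (hy₀.trans hyD.symm) (GrMod.val t₀ ⟨y₀, hy₀W⟩))
  exact ⟨v, isVal_of_one hℳ hV y v D hD hDU hDV yD y₀ hy₀W _ _ hv⟩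

theorem isVal_unique {V : Y.Opens} (hV : IsAffineOpen V) (y : ProjectiveSpectrum (𝒮.deg V hV))
    (hy : (RelProj.emb p chart V hV) y ∈ W) (v v' : GrMod.LocMod (𝒮.deg V hV) (M := ℳ.mod.val.obj (op V)) y)
    (hv : IsVal ℳ hP n hU₀ t₀ hV y v) (hv' : IsVal ℳ hP n hU₀ t₀ hV y v') : v = v' := by
  have hx0 : (RelProj.emb p chart V hV) y ∈ p ⁻¹ᵁ U₀ := hW hy
  obtain ⟨D, hD, hDU, hDV, yD, hyD⟩ := exists_common_affine (𝒮 := 𝒮) (chart := chart) U₀ V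
    ((RelProj.emb p chart V hV) y) hx0 (Groth.Agent.GrTw.mem_preimage_of_emb V hV y)
  obtain ⟨y₀, hy₀⟩ := exists_pt (𝒮 := 𝒮) (chart := chart) U₀ hU₀ _ hx0
  have hy₀W : (RelProj.emb p chart U₀ hU₀) y₀ ∈ W := hy₀ ▸ hy
  apply (glocR_bijective ℳ hP hℳ hV hD hDV y yD hyD.symm).1
  exact (hv D hD hDU hDV yD y₀ hy₀W (hy₀.trans hyD.symm) hyD.symm).trans
    (hv' D hD hDU hDV yD y₀ hy₀W (hy₀.trans hyD.symm) hyD.symm).symm

/-- The value of the extension of `t₀` at a point of the chart over `V`. -/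
noncomputable def extVal {V : Y.Opens} (hV : IsAffineOpen V)
    (y : ((RelProj.emb p chart V hV) ⁻¹ᵁ W : (Proj (𝒮.deg V hV)).Opens)) :
    GrMod.LocMod (𝒮.deg V hV) (M := ℳ.mod.val.obj (op V)) y.1 :=
  Classical.choose (exists_isVal (ℳ := ℳ) (hP := hP) (hℳ := hℳ) (n := n) (hU₀ := hU₀) (t₀ := t₀) hW hV y.1 y.2)

theorem isVal_extVal {V : Y.Opens} (hV : IsAffineOpen V)
    (y : ((RelProj.emb p chart V hV) ⁻¹ᵁ W : (Proj (𝒮.deg V hV)).Opens)) :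
    IsVal ℳ hP n hU₀ t₀ hV y.1 (extVal (ℳ := ℳ) (hP := hP) (hℳ := hℳ) (n := n) (hU₀ := hU₀) (t₀ := t₀) hW hV y) :=
  Classical.choose_spec (exists_isVal (ℳ := ℳ) (hP := hP) (hℳ := hℳ) (n := n) (hU₀ := hU₀) (t₀ := t₀) hW hV y.1 y.2)

/-- The extension of `t₀` is locally a fraction. -/
theorem extVal_locFrac {V : Y.Opens} (hV : IsAffineOpen V)
    (y : ((RelProj.emb p chart V hV) ⁻¹ᵁ W : (Proj (𝒮.deg V hV)).Opens)) :
    ∃ (O : Opens (ProjectiveSpectrum.top (𝒮.deg V hV))) (_ : y.1 ∈ O)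
      (hO : O ≤ ((RelProj.emb p chart V hV) ⁻¹ᵁ W : (Proj (𝒮.deg V hV)).Opens))
      (i j : ℕ) (a : ℳ.deg V hV i) (s : 𝒮.deg V hV j)
      (s_nin : ∀ x : O, (s : 𝒮.presheaf.obj (op V)) ∉ x.1.asHomogeneousIdeal),
      ((i : ℤ) = j + n ∨ (a : ℳ.mod.val.obj (op V)) = 0) ∧
      ∀ x : O, extVal (ℳ := ℳ) (hP := hP) (hℳ := hℳ) (n := n) (hU₀ := hU₀) (t₀ := t₀) hW hV ⟨x.1, hO x.2⟩ =
        LocalizedModule.mk (a : ℳ.mod.val.obj (op V)) ⟨(s : 𝒮.presheaf.obj (op V)), s_nin x⟩ := by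
  classical
  have hyW : (RelProj.emb p chart V hV) y.1 ∈ W := y.2
  have hx0 : (RelProj.emb p chart V hV) y.1 ∈ p ⁻¹ᵁ U₀ := hW hyW
  obtain ⟨D, hD, hDV, hDU, hb, -, yD, hyD⟩ := exists_common_basic (𝒮 := 𝒮) (chart := chart) hV hU₀
    _ (Groth.Agent.GrTw.mem_preimage_of_emb V hV y.1) hx0
  obtain ⟨y₀, hy₀⟩ := exists_pt (𝒮 := 𝒮) (chart := chart) U₀ hU₀ _ hx0
  have hy₀W : (RelProj.emb p chart U₀ hU₀) y₀ ∈ W := hy₀ ▸ hyW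
  obtain ⟨O₀, m₀, iO, i, j, a, s, nin, hij, hfrac⟩ :=
    (show GrMod.sect (𝒮.deg U₀ hU₀) (ℳ.deg U₀ hU₀) n (op _) from t₀).2 ⟨y₀, hy₀W⟩
  obtain ⟨r, rfl⟩ := hb
  obtain ⟨a', s', k, ha', hs', hak, hsk, ha0⟩ : ∃ (a' : ℳ.mod.val.obj (op V))
      (s' : 𝒮.presheaf.obj (op V)) (k : ℕ),
      a' ∈ ℳ.deg V hV i ∧ s' ∈ 𝒮.deg V hV j ∧
      ℳ.res hV hD hDV a' = (𝒮.res hV hD hDV ((𝒮.str.app (op V)).hom r)) ^ k •
        ℳ.res hU₀ hD hDU a ∧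
      𝒮.res hV hD hDV s' = 𝒮.res hU₀ hD hDU s *
        (𝒮.res hV hD hDV ((𝒮.str.app (op V)).hom r)) ^ k ∧
      ((a : ℳ.mod.val.obj (op U₀)) = 0 → a' = 0) := by
    obtain ⟨a', s', k, ha', hs', hak, hsk⟩ := exists_homog_lift_pair_mod (𝒮.res hV hD hDV)
      (ℳ.deg V hV) (ℳ.deg _ hD) (ℳ.res hV hD hDV) (fun i m hm => ℳ.res_mem hV hD hDV i m hm)
      ((𝒮.str.app (op V)).hom r) (𝒮.str_mem V hV r) (𝒮.isQC V hV r)
      (fun n' => mod_surj ℳ hℳ hV r hD hDV n')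
      (n' := ℳ.res hU₀ hD hDU a) (b' := 𝒮.res hU₀ hD hDU s)
      (ℳ.res_mem hU₀ hD hDU i a a.2) ((𝒮.res hU₀ hD hDU).map_mem s.2)
    by_cases h0 : (a : ℳ.mod.val.obj (op U₀)) = 0
    · exact ⟨0, s', k, zero_mem _, hs', by rw [h0, map_zero, map_zero, smul_zero], hsk,
        fun _ => rfl⟩
    · exact ⟨a', s', k, ha', hs', hak, hsk, fun h => absurd h h0⟩
  have hu : IsUnit (𝒮.res hV hD hDV ((𝒮.str.app (op V)).hom r)) := by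
    letI := (𝒮.presheaf.map (homOfLE (Y.basicOpen_le r)).op).hom.toAlgebra
    haveI : IsLocalization.Away ((𝒮.str.app (op V)).hom r)
      (𝒮.presheaf.obj (op (Y.basicOpen r))) := 𝒮.isQC V hV r
    exact IsLocalization.map_units (M := Submonoid.powers ((𝒮.str.app (op V)).hom r))
      (𝒮.presheaf.obj (op (Y.basicOpen r))) ⟨_, 1, pow_one _⟩
  let O : (Proj (𝒮.deg V hV)).Opens := (RelProj.emb p chart V hV) ⁻¹ᵁ
    (W ⊓ p ⁻¹ᵁ (Y.basicOpen r) ⊓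
      (RelProj.emb p chart U₀ hU₀) ''ᵁ (show (Proj (𝒮.deg U₀ hU₀)).Opens from O₀))
  have hyO : y.1 ∈ O :=
    ⟨⟨hyW, hyD ▸ Groth.Agent.GrTw.mem_preimage_of_emb _ hD yD⟩, ⟨y₀, m₀, hy₀⟩⟩
  have hO : O ≤ ((RelProj.emb p chart V hV) ⁻¹ᵁ W : (Proj (𝒮.deg V hV)).Opens) :=
    fun x hx => hx.1.1
  have key : ∀ x : O, ∃ hs'' : s' ∉ x.1.asHomogeneousIdeal,
      IsVal ℳ hP n hU₀ t₀ hV x.1 (LocalizedModule.mk a' ⟨s', hs''⟩) := by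
    intro x
    obtain ⟨⟨hxW, hxD⟩, ⟨z₀, hz₀, hz₀x⟩⟩ := x.2
    obtain ⟨zD, hzD⟩ := exists_pt (𝒮 := 𝒮) (chart := chart) _ hD _ hxD
    have hz₀W : (RelProj.emb p chart U₀ hU₀) z₀ ∈ W := by
      have : (RelProj.emb p chart U₀ hU₀) z₀ = (RelProj.emb p chart V hV) x.1 := hz₀x
      rw [this]; exact hxW
    exact frac_point hℳ hV hD hDV hDU _ hu k a s a' s' hak hsk x.1 z₀ zD (hz₀x.trans hzD.symm)
      hzD.symm (nin ⟨z₀, hz₀⟩) hz₀W (hfrac ⟨z₀, hz₀⟩)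
  refine ⟨O, hyO, hO, i, j, ⟨a', ha'⟩, ⟨s', hs'⟩, fun x => (key x).1, ?_, fun x => ?_⟩
  · rcases hij with h | h
    · exact Or.inl h
    · exact Or.inr (ha0 h)
  · exact isVal_unique hℳ hW hV x.1 (hO x.2) _ _ (isVal_extVal hℳ hW hV ⟨x.1, hO x.2⟩) (key x).2

end Ext


end Groth.Agent.RelTiEx
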