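import Mathlib
import Groth.Prelude
import Groth.Agent.Lib.RelTiEx4_helper5
import Groth.Agent.Lib.RelTwEx5_helper5

/-!
# Existence of the modules `ℳ(n)~` on a relative `Proj`, part 5: the module as the limit of the
direct images of the chartwise modules (helper5)
-/

set_option autoImplicit false
universe u
open CategoryTheory CategoryTheory.Limits AlgebraicGeometry TopologicalSpace Opposite DirectSum

namespace Groth.Agent.RelTiEx

open Groth.Agent.RelTwEx

section Constr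
variable {Y P : Scheme.{u}} (𝒮 : RelProj.QCGrAlg Y) (p : P ⟶ Y)
  (chart : ∀ (U : Y.Opens) (hU : IsAffineOpen U),
    (((p ⁻¹ᵁ U : P.Opens) : Scheme.{u}) ≅ Proj (𝒮.deg U hU)))
  (ℳ : RelProj.GrModule 𝒮) (hP : RelProj.IsRelProj 𝒮 p chart)
  (hℳ : Coh.IsQCoh ((AMod.toOS 𝒮.toQCAlg).obj ℳ.mod)) (n : ℤ)

/-- The direct image on `P` of the module `ℳ(V)(n)~` of the chart over `V`. -/
noncomputable abbrev pushTi (V : Y.Opens) (hV : IsAffineOpen V) : P.Modules :=
  (Scheme.Modules.pushforward (RelProj.emb p chart V hV)).obj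
    (GrMod.tilde (𝒮.deg V hV) (ℳ.deg V hV) n)

variable {𝒮 p chart}

/-- Sectionwise comparison map from the chart over `V` to the chart over `D(r)`. -/
noncomputable def cmpFun (V : Y.Opens) (hV : IsAffineOpen V) (r : Γ(Y, V)) (W : P.Opens)
    (t : Γ(pushTi 𝒮 p chart ℳ n V hV, W)) :
    Γ(pushTi 𝒮 p chart ℳ n (Y.basicOpen r) (hV.basicOpen r), W) :=
  GrMod.comapApp (𝒮.res hV (hV.basicOpen r) (Y.basicOpen_le r)) (𝒮.irrelevant_le_map V hV r)
    (ℳ.res hV (hV.basicOpen r) (Y.basicOpen_le r))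
    (fun i m hm => ℳ.res_mem hV (hV.basicOpen r) (Y.basicOpen_le r) i m hm) n
    ((RelProj.emb p chart V hV) ⁻¹ᵁ W) ((RelProj.emb p chart _ (hV.basicOpen r)) ⁻¹ᵁ W)
    (comap_mem hP V hV r W) t

theorem val_cmpFun (V : Y.Opens) (hV : IsAffineOpen V) (r : Γ(Y, V)) (W : P.Opens)
    (t : Γ(pushTi 𝒮 p chart ℳ n V hV, W))
    (y : ProjectiveSpectrum (𝒮.deg (Y.basicOpen r) (hV.basicOpen r)))
    (hy : (RelProj.emb p chart (Y.basicOpen r) (hV.basicOpen r)) y ∈ W)
    (hy' : (RelProj.emb p chart V hV) (ProjectiveSpectrum.comap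
      (𝒮.res hV (hV.basicOpen r) (Y.basicOpen_le r)) (𝒮.irrelevant_le_map V hV r) y) ∈ W) :
    GrMod.val (V := (RelProj.emb p chart (Y.basicOpen r) (hV.basicOpen r)) ⁻¹ᵁ W)
        (cmpFun ℳ hP n V hV r W t) ⟨y, hy⟩ =
      GrMod.locModMap (𝒮.res hV (hV.basicOpen r) (Y.basicOpen_le r)) (𝒮.irrelevant_le_map V hV r)
        (ℳ.res hV (hV.basicOpen r) (Y.basicOpen_le r)) y
        (GrMod.val (V := (RelProj.emb p chart V hV) ⁻¹ᵁ W) t ⟨_, hy'⟩) := rfl

/-- The comparison morphism from the chart over `V` to the chart over `D(r)`. -/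
noncomputable def cmp (V : Y.Opens) (hV : IsAffineOpen V) (r : Γ(Y, V)) :
    pushTi 𝒮 p chart ℳ n V hV ⟶ pushTi 𝒮 p chart ℳ n (Y.basicOpen r) (hV.basicOpen r) :=
  Groth.Agent.FinGG.homOfSections
    (M := pushTi 𝒮 p chart ℳ n V hV)
    (P := pushTi 𝒮 p chart ℳ n (Y.basicOpen r) (hV.basicOpen r))
    (fun W => AddMonoidHom.mk' (fun t => cmpFun ℳ hP n V hV r W t) (fun a b => by
      apply Groth.Agent.GrTi.ext_val
      intro y
      refine Eq.trans ?_ (Groth.Agent.GrTi.val_add (𝒮.deg _ (hV.basicOpen r)) (ℳ.deg _ (hV.basicOpen r)) _ _ y).symm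
      have hy' := comap_mem hP V hV r W y.2
      rw [val_cmpFun ℳ hP n V hV r W _ y.1 y.2 hy', val_cmpFun ℳ hP n V hV r W _ y.1 y.2 hy',
        val_cmpFun ℳ hP n V hV r W _ y.1 y.2 hy']
      refine Eq.trans ?_ (map_add _ _ _)
      congr 1))
    (fun W c m => by
      apply Groth.Agent.GrTi.ext_val
      intro y
      have hy' := comap_mem hP V hV r W y.2
      show GrMod.val (cmpFun ℳ hP n V hV r W
          ((((RelProj.emb p chart V hV).app W).hom c) •
            (show Γ(GrMod.tilde (𝒮.deg V hV) (ℳ.deg V hV) n, (RelProj.emb p chart V hV) ⁻¹ᵁ W) from m))) y =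
        GrMod.val ((((RelProj.emb p chart _ (hV.basicOpen r)).app W).hom c) •
          (show Γ(GrMod.tilde (𝒮.deg _ (hV.basicOpen r)) (ℳ.deg _ (hV.basicOpen r)) n,
            (RelProj.emb p chart _ (hV.basicOpen r)) ⁻¹ᵁ W) from cmpFun ℳ hP n V hV r W m)) y
      rw [Groth.Agent.GrTi.val_smul]
      rw [val_cmpFun ℳ hP n V hV r W _ y.1 y.2 hy', val_cmpFun ℳ hP n V hV r W _ y.1 y.2 hy']
      rw [Groth.Agent.GrTi.val_smul, GrMod.locModMap_smul]
      congr 1
      exact (Groth.Agent.GrTw.valO_emb_compat hP V hV r W c y.1 y.2 hy').symm)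
    (fun {W W'} h m => by
      apply Groth.Agent.GrTi.ext_val
      intro y
      rfl)

theorem ap_cmp (V : Y.Opens) (hV : IsAffineOpen V) (r : Γ(Y, V)) (W : P.Opens)
    (t : Γ(pushTi 𝒮 p chart ℳ n V hV, W)) :
    QCohExtn.ap (cmp ℳ hP n V hV r) W t = cmpFun ℳ hP n V hV r W t := rfl

/-- The diagram of direct images of chartwise twisting sheaves. -/
noncomputable def index : MulticospanIndex (shape Y) P.Modules where
  left V := pushTi 𝒮 p chart ℳ n V.1 V.2
  right b := pushTi 𝒮 p chart ℳ n (Y.basicOpen b.2) (b.1.2.basicOpen b.2)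
  fst b := cmp ℳ hP n b.1.1 b.1.2 b.2
  snd _ := 𝟙 _

/-- The module `ℳ(n)~` on the relative `Proj`. -/
noncomputable def relTilde : P.Modules := multiequalizer (index ℳ hP n)

/-- The chart identifications of `ℳ(n)~`. -/
noncomputable def relLamT (V : Y.Opens) (hV : IsAffineOpen V) :
    relTilde ℳ hP n ⟶ pushTi 𝒮 p chart ℳ n V hV :=
  Multiequalizer.ι (index ℳ hP n) ⟨V, hV⟩

theorem chartCompat_relLamT (W : P.Opens) (s : Γ(relTilde ℳ hP n, W)) :
    Groth.Agent.GrTi.ChartCompat (𝒮 := 𝒮) (p := p) (chart := chart) (ℳ := ℳ) (n := n) W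
      (fun V hV => QCohExtn.ap (relLamT ℳ hP n V hV) W s) := by
  intro V hV r y hy hy'
  have h := multieq_condition (index ℳ hP n) W s ⟨⟨V, hV⟩, r⟩
  have h1 : QCohExtn.ap (relLamT ℳ hP n (Y.basicOpen r) (hV.basicOpen r)) W s =
      cmpFun ℳ hP n V hV r W (QCohExtn.ap (relLamT ℳ hP n V hV) W s) := h.symm
  show GrMod.val (V := (RelProj.emb p chart (Y.basicOpen r) (hV.basicOpen r)) ⁻¹ᵁ W)
    (QCohExtn.ap (relLamT ℳ hP n (Y.basicOpen r) (hV.basicOpen r)) W s) ⟨y, hy⟩ = _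
  rw [h1]
  exact val_cmpFun ℳ hP n V hV r W _ y hy hy'

include hℳ in
/-- **Existence of the modules `ℳ(n)~` on a relative `Proj`, for `ℳ` quasi-coherent.** -/
theorem isRelTilde_relTilde :
    RelProj.IsRelTilde 𝒮 p chart ℳ n (relTilde ℳ hP n) (relLamT ℳ hP n) where
  bijective U₀ hU₀ W hW := by
    constructor
    · intro s s' hss
      have hss' : QCohExtn.ap (relLamT ℳ hP n U₀ hU₀) W s = QCohExtn.ap (relLamT ℳ hP n U₀ hU₀) W s' :=
        hss
      apply multieq_ext (index ℳ hP n) W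
      rintro ⟨V, hV⟩
      show QCohExtn.ap (relLamT ℳ hP n V hV) W s = QCohExtn.ap (relLamT ℳ hP n V hV) W s'
      have e1 := eq_extSec_of_chartCompat (ℳ := ℳ) (hP := hP) (hℳ := hℳ) (n := n) (hU₀ := hU₀)
        (t₀ := QCohExtn.ap (relLamT ℳ hP n U₀ hU₀) W s) hW _ (chartCompat_relLamT ℳ hP n W s) rfl hV
      have e2 := eq_extSec_of_chartCompat (ℳ := ℳ) (hP := hP) (hℳ := hℳ) (n := n) (hU₀ := hU₀)
        (t₀ := QCohExtn.ap (relLamT ℳ hP n U₀ hU₀) W s) hW _ (chartCompat_relLamT ℳ hP n W s')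
        hss'.symm hV
      exact e1.trans e2.symm
    · intro t₀
      obtain ⟨s, hs⟩ := multieq_exists (index ℳ hP n) W
        (fun a => extSec ℳ hP hℳ n hU₀ t₀ hW a.2) (by
          rintro ⟨⟨V, hV⟩, r⟩
          show cmpFun ℳ hP n V hV r W (extSec ℳ hP hℳ n hU₀ t₀ hW hV) =
            extSec ℳ hP hℳ n hU₀ t₀ hW (hV.basicOpen r)
          apply Groth.Agent.GrTi.ext_val
          intro y
          have hy' := comap_mem hP V hV r W y.2
          rw [val_cmpFun ℳ hP n V hV r W _ y.1 y.2 hy']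
          exact (chartCompat_extSec ℳ hP hℳ n hU₀ t₀ hW V hV r y.1 y.2 hy').symm)
      refine ⟨s, ?_⟩
      exact (hs ⟨U₀, hU₀⟩).trans (extSec_self ℳ hP hℳ n hU₀ t₀ hW)
  compat V hV r W s y hy hy' := chartCompat_relLamT ℳ hP n W s V hV r y hy hy'

end Constr

end Groth.Agent.RelTiEx
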