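import Groth.Agent.Lib.SchDDEff2_helper7
import Groth.Agent.Lib.AlgSpFormal5_helper7
import Groth.Agent.Lib.AlgSpDescent_helper7

/-!
# Representability from a chart and effective descent (helper7)

Given a sheaf `H` over `h_T` whose base change along an fppf cover `c : T' ⟶ T` is represented by a
scheme `V'` over `T'`, the scheme `V'` carries a canonical descent datum relative to `c`; if it is
effective, the resulting scheme over `T` represents `H`.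
-/

set_option autoImplicit false
set_option linter.style.haveILetI false
universe u
open CategoryTheory CategoryTheory.Limits AlgebraicGeometry Opposite
open AlgSp Groth.Agent.Lib.ShDescH7 Groth.Agent.Lib.AlgSpFormal5_helper7
  Groth.Agent.Lib.AlgSpDescent_helper7 Groth.Agent.Lib.AlgSpIso_helper7
  Groth.Agent.Lib.AlgSpQC_helper7 Groth.Agent.Lib.AlgSpRepBySp_helper7

namespace Groth.Agent.Lib.RepDescH7

variable {S : Scheme.{u}}

section Core

variable {H : Sp S} {T T' V' : Over S} {π₂ : H ⟶ (yon S).obj T} {c : T' ⟶ T}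
  {v' : V' ⟶ T'} {ψ : (yon S).obj V' ⟶ H}

/-- Compatibility of structure maps. -/
theorem str_eq {T'' : Scheme.{u}} (b : T'' ⟶ V'.left) (x₁ : T'' ⟶ T'.left)
    (h : (b ≫ v'.left) ≫ c.left = x₁ ≫ c.left) : x₁ ≫ T'.hom = b ≫ V'.hom := by
  have e1 : x₁ ≫ T'.hom = (x₁ ≫ c.left) ≫ T.hom := by
    rw [Category.assoc, CategoryTheory.Over.w c]
  have e2 : b ≫ V'.hom = ((b ≫ v'.left) ≫ c.left) ≫ T.hom := by
    rw [Category.assoc, Category.assoc, CategoryTheory.Over.w c, CategoryTheory.Over.w v']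
  rw [e1, e2, h]

variable (sqL : IsPullback ψ ((yon S).map v') π₂ ((yon S).map c))

include sqL

theorem exists_tr {Z : Over S} (B : Z ⟶ V') (X₁ : Z ⟶ T') (h : (B ≫ v') ≫ c = X₁ ≫ c) :
    ∃ B' : Z ⟶ V', B' ≫ v' = X₁ ∧ (yon S).map B' ≫ ψ = (yon S).map B ≫ ψ := by
  have hw : ((yon S).map B ≫ ψ) ≫ π₂ = (yon S).map X₁ ≫ (yon S).map c := by
    rw [Category.assoc, sqL.w]
    simp only [← Functor.map_comp]
    rw [← h, Category.assoc]
  obtain ⟨B', hB'⟩ := (yon S).map_surjective (sqL.lift _ _ hw)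
  refine ⟨B', (yon S).map_injective ?_, ?_⟩
  · rw [Functor.map_comp, hB', sqL.lift_snd]
  · rw [hB', sqL.lift_fst]

/-- Transport of a point of `V'` to a point over `X₁`. -/
noncomputable def tr {Z : Over S} (B : Z ⟶ V') (X₁ : Z ⟶ T') (h : (B ≫ v') ≫ c = X₁ ≫ c) :
    Z ⟶ V' :=
  (exists_tr sqL B X₁ h).choose

theorem tr_hom {Z : Over S} (B : Z ⟶ V') (X₁ : Z ⟶ T') (h : (B ≫ v') ≫ c = X₁ ≫ c) :
    tr sqL B X₁ h ≫ v' = X₁ :=
  (exists_tr sqL B X₁ h).choose_spec.1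

theorem tr_ψ {Z : Over S} (B : Z ⟶ V') (X₁ : Z ⟶ T') (h : (B ≫ v') ≫ c = X₁ ≫ c) :
    (yon S).map (tr sqL B X₁ h) ≫ ψ = (yon S).map B ≫ ψ :=
  (exists_tr sqL B X₁ h).choose_spec.2

theorem eq_of_ψ {Z : Over S} (B₁ B₂ : Z ⟶ V') (h1 : B₁ ≫ v' = B₂ ≫ v')
    (h2 : (yon S).map B₁ ≫ ψ = (yon S).map B₂ ≫ ψ) : B₁ = B₂ := by
  apply (yon S).map_injective
  apply sqL.hom_ext h2
  rw [← Functor.map_comp, ← Functor.map_comp, h1]

theorem tr_unique {Z : Over S} (B : Z ⟶ V') (X₁ : Z ⟶ T') (h : (B ≫ v') ≫ c = X₁ ≫ c)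
    (B' : Z ⟶ V') (h1 : B' ≫ v' = X₁) (h2 : (yon S).map B' ≫ ψ = (yon S).map B ≫ ψ) :
    B' = tr sqL B X₁ h :=
  eq_of_ψ sqL _ _ (h1.trans (tr_hom sqL B X₁ h).symm) (h2.trans (tr_ψ sqL B X₁ h).symm)

theorem tr_congr {Z : Over S} {B B' : Z ⟶ V'} {X₁ X₁' : Z ⟶ T'} (eB : B = B') (eX : X₁ = X₁')
    (h : (B ≫ v') ≫ c = X₁ ≫ c) (h' : (B' ≫ v') ≫ c = X₁' ≫ c) :
    tr sqL B X₁ h = tr sqL B' X₁' h' := by
  subst eB eX
  rfl

theorem tr_natural {Z Z' : Over S} (g : Z' ⟶ Z) (B : Z ⟶ V') (X₁ : Z ⟶ T')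
    (h : (B ≫ v') ≫ c = X₁ ≫ c) (h' : ((g ≫ B) ≫ v') ≫ c = (g ≫ X₁) ≫ c) :
    g ≫ tr sqL B X₁ h = tr sqL (g ≫ B) (g ≫ X₁) h' := by
  apply tr_unique
  · rw [Category.assoc, tr_hom]
  · rw [Functor.map_comp, Category.assoc, tr_ψ, ← Category.assoc, ← Functor.map_comp]

theorem tr_self {Z : Over S} (B : Z ⟶ V') (h : (B ≫ v') ≫ c = (B ≫ v') ≫ c) :
    tr sqL B (B ≫ v') h = B :=
  (tr_unique sqL B (B ≫ v') h B rfl rfl).symm

theorem tr_comp {Z : Over S} (B : Z ⟶ V') (X₁ X₂ : Z ⟶ T') (h₁ : (B ≫ v') ≫ c = X₁ ≫ c)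
    (h₂ : (tr sqL B X₁ h₁ ≫ v') ≫ c = X₂ ≫ c) (h₃ : (B ≫ v') ≫ c = X₂ ≫ c) :
    tr sqL (tr sqL B X₁ h₁) X₂ h₂ = tr sqL B X₂ h₃ := by
  apply tr_unique
  · exact tr_hom sqL _ _ _
  · exact (tr_ψ sqL _ _ _).trans (tr_ψ sqL _ _ _)

/-- Scheme-level transport. -/
noncomputable def trS {T'' : Scheme.{u}} (b : T'' ⟶ V'.left) (x₁ : T'' ⟶ T'.left)
    (h : (b ≫ v'.left) ≫ c.left = x₁ ≫ c.left) : T'' ⟶ V'.left :=
  (tr sqL (Z := Over.mk (b ≫ V'.hom)) (Over.homMk b rfl) (Over.homMk x₁ (str_eq b x₁ h))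
    (Over.OverMorphism.ext h)).left

theorem trS_eq {Z : Over S} (B : Z ⟶ V') (X₁ : Z ⟶ T') (h : (B ≫ v') ≫ c = X₁ ≫ c) :
    (tr sqL B X₁ h).left = trS sqL B.left X₁.left (congrArg (fun k => k.left) h) := by
  let ι : Over.mk (B.left ≫ V'.hom) ⟶ Z := Over.homMk (𝟙 _) (by
    rw [Category.id_comp]
    exact (CategoryTheory.Over.w B).symm)
  have hh : ((ι ≫ B) ≫ v') ≫ c = (ι ≫ X₁) ≫ c := by
    simp only [Category.assoc] at h ⊢
    rw [h]
  have h1 := tr_natural sqL ι B X₁ h hh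
  have h2 : (tr sqL B X₁ h).left = (ι ≫ tr sqL B X₁ h).left := (Category.id_comp _).symm
  rw [h2, h1]
  have eB : ι ≫ B = Over.homMk (U := Over.mk (B.left ≫ V'.hom)) (V := V') B.left rfl := by
    apply Over.OverMorphism.ext
    exact Category.id_comp B.left
  have eX : ι ≫ X₁ = Over.homMk (U := Over.mk (B.left ≫ V'.hom)) (V := T') X₁.left
      (str_eq B.left X₁.left (congrArg (fun k => k.left) h)) := by
    apply Over.OverMorphism.ext
    exact Category.id_comp X₁.left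
  exact congrArg (fun k => k.left) (tr_congr sqL eB eX _ _)

theorem trS_hom {T'' : Scheme.{u}} (b : T'' ⟶ V'.left) (x₁ : T'' ⟶ T'.left)
    (h : (b ≫ v'.left) ≫ c.left = x₁ ≫ c.left) : trS sqL b x₁ h ≫ v'.left = x₁ :=
  congrArg (fun k => k.left) (tr_hom sqL (Z := Over.mk (b ≫ V'.hom)) (Over.homMk b rfl)
    (Over.homMk x₁ (str_eq b x₁ h)) (Over.OverMorphism.ext h))

theorem trS_congr {T'' : Scheme.{u}} {b b' : T'' ⟶ V'.left} {x₁ x₁' : T'' ⟶ T'.left}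
    (eb : b = b') (ex : x₁ = x₁') (h : (b ≫ v'.left) ≫ c.left = x₁ ≫ c.left)
    (h' : (b' ≫ v'.left) ≫ c.left = x₁' ≫ c.left) : trS sqL b x₁ h = trS sqL b' x₁' h' := by
  subst eb ex
  rfl

theorem trS_natural {T'' T''' : Scheme.{u}} (g : T''' ⟶ T'') (b : T'' ⟶ V'.left)
    (x₁ : T'' ⟶ T'.left) (h : (b ≫ v'.left) ≫ c.left = x₁ ≫ c.left)
    (h' : ((g ≫ b) ≫ v'.left) ≫ c.left = (g ≫ x₁) ≫ c.left) :
    g ≫ trS sqL b x₁ h = trS sqL (g ≫ b) (g ≫ x₁) h' := by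
  let Z : Over S := Over.mk (b ≫ V'.hom)
  let Z' : Over S := Over.mk (g ≫ b ≫ V'.hom)
  let G : Z' ⟶ Z := Over.homMk g rfl
  let B : Z ⟶ V' := Over.homMk b rfl
  let X₁ : Z ⟶ T' := Over.homMk x₁ (str_eq b x₁ h)
  have hh : (B ≫ v') ≫ c = X₁ ≫ c := Over.OverMorphism.ext h
  have hh' : ((G ≫ B) ≫ v') ≫ c = (G ≫ X₁) ≫ c := Over.OverMorphism.ext h'
  have h1 := tr_natural sqL G B X₁ hh hh'
  have h2 := trS_eq sqL (G ≫ B) (G ≫ X₁) hh'
  exact (congrArg (fun k => k.left) h1).trans h2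

theorem trS_self' {T'' : Scheme.{u}} (b : T'' ⟶ V'.left) (x : T'' ⟶ T'.left)
    (hx : b ≫ v'.left = x) (h : (b ≫ v'.left) ≫ c.left = x ≫ c.left) : trS sqL b x h = b := by
  subst hx
  let B : Over.mk (b ≫ V'.hom) ⟶ V' := Over.homMk b rfl
  exact (trS_eq sqL B (B ≫ v') rfl).symm.trans (congrArg (fun k => k.left) (tr_self sqL B rfl))

theorem trS_comp {T'' : Scheme.{u}} (b : T'' ⟶ V'.left) (x₁ x₂ : T'' ⟶ T'.left)
    (h₁ : (b ≫ v'.left) ≫ c.left = x₁ ≫ c.left)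
    (h₂ : (trS sqL b x₁ h₁ ≫ v'.left) ≫ c.left = x₂ ≫ c.left)
    (h₃ : (b ≫ v'.left) ≫ c.left = x₂ ≫ c.left) :
    trS sqL (trS sqL b x₁ h₁) x₂ h₂ = trS sqL b x₂ h₃ := by
  let Z : Over S := Over.mk (b ≫ V'.hom)
  let B : Z ⟶ V' := Over.homMk b rfl
  let X₁ : Z ⟶ T' := Over.homMk x₁ (str_eq b x₁ h₁)
  let X₂ : Z ⟶ T' := Over.homMk x₂ (str_eq b x₂ h₃)
  have hh₁ : (B ≫ v') ≫ c = X₁ ≫ c := Over.OverMorphism.ext h₁
  have hh₃ : (B ≫ v') ≫ c = X₂ ≫ c := Over.OverMorphism.ext h₃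
  have hh₂ : (tr sqL B X₁ hh₁ ≫ v') ≫ c = X₂ ≫ c := by
    rw [tr_hom]
    exact hh₁.symm.trans hh₃
  have e1 := trS_eq sqL (tr sqL B X₁ hh₁) X₂ hh₂
  have e2 := tr_comp sqL B X₁ X₂ hh₁ hh₂ hh₃
  exact e1.symm.trans (congrArg (fun k => k.left) e2)

/-- The descent datum on `V'` relative to `c` induced by the sheaf `H`. -/
noncomputable def descDD : Desc.SchDD c.left where
  obj := Over.mk v'.left
  φ T'' x₀ x₁ h :=
    { toFun := fun v => ⟨trS sqL v.1 x₁ ((congrArg (fun k => k ≫ c.left) v.2).trans h),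
        trS_hom sqL _ _ _⟩
      invFun := fun w => ⟨trS sqL w.1 x₀ ((congrArg (fun k => k ≫ c.left) w.2).trans h.symm),
        trS_hom sqL _ _ _⟩
      left_inv := fun v => Subtype.ext (by
        have hv : v.1 ≫ v'.left = x₀ := v.2
        have h₁ : (v.1 ≫ v'.left) ≫ c.left = x₁ ≫ c.left := by rw [hv]; exact h
        have h₃ : (v.1 ≫ v'.left) ≫ c.left = x₀ ≫ c.left := by rw [hv]
        have h₂ : (trS sqL v.1 x₁ h₁ ≫ v'.left) ≫ c.left = x₀ ≫ c.left := by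
          rw [trS_hom]; exact h.symm
        exact (trS_comp sqL v.1 x₁ x₀ h₁ h₂ h₃).trans (trS_self' sqL v.1 x₀ hv h₃))
      right_inv := fun w => Subtype.ext (by
        have hw : w.1 ≫ v'.left = x₁ := w.2
        have h₁ : (w.1 ≫ v'.left) ≫ c.left = x₀ ≫ c.left := by rw [hw]; exact h.symm
        have h₃ : (w.1 ≫ v'.left) ≫ c.left = x₁ ≫ c.left := by rw [hw]
        have h₂ : (trS sqL w.1 x₀ h₁ ≫ v'.left) ≫ c.left = x₁ ≫ c.left := by
          rw [trS_hom]; exact h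
        exact (trS_comp sqL w.1 x₀ x₁ h₁ h₂ h₃).trans (trS_self' sqL w.1 x₁ hw h₃)) }
  φ_natural T'' T₃ g x₀ x₁ h h' v w hw := by
    have hv : v.1 ≫ v'.left = x₀ := v.2
    have h₁ : (v.1 ≫ v'.left) ≫ c.left = x₁ ≫ c.left := by rw [hv]; exact h
    have h₂ : ((g ≫ v.1) ≫ v'.left) ≫ c.left = (g ≫ x₁) ≫ c.left := by
      rw [Category.assoc g, hv]; exact h'
    have hw2 : w.1 ≫ v'.left = g ≫ x₀ := w.2
    have h₃ : (w.1 ≫ v'.left) ≫ c.left = (g ≫ x₁) ≫ c.left := by rw [hw2]; exact h'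
    have e1 : trS sqL w.1 (g ≫ x₁) h₃ = trS sqL (g ≫ v.1) (g ≫ x₁) h₂ :=
      trS_congr sqL hw rfl _ _
    exact e1.trans (trS_natural sqL g v.1 x₁ h₁ h₂).symm
  φ_self T'' x v := Subtype.ext (by
    have hv : v.1 ≫ v'.left = x := v.2
    exact trS_self' sqL v.1 x hv (by rw [hv]))
  φ_comp T'' x₀ x₁ x₂ h₀₁ h₁₂ v := Subtype.ext (by
    have hv : v.1 ≫ v'.left = x₀ := v.2
    have h₁ : (v.1 ≫ v'.left) ≫ c.left = x₁ ≫ c.left := by rw [hv]; exact h₀₁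
    have h₃ : (v.1 ≫ v'.left) ≫ c.left = x₂ ≫ c.left := by rw [hv]; exact h₀₁.trans h₁₂
    have h₂ : (trS sqL v.1 x₁ h₁ ≫ v'.left) ≫ c.left = x₂ ≫ c.left := by
      rw [trS_hom]; exact h₁₂
    exact trS_comp sqL v.1 x₁ x₂ h₁ h₂ h₃)

set_option backward.isDefEq.respectTransparency false in
/-- If the induced descent datum is effective, the sheaf `H` is representable over `h_T`. -/
theorem exists_iso_of_essImage [Epi ((yon S).map c)] (Y : Over T.left)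
    (θ : (Desc.toDD c.left).obj Y ≅ descDD sqL) :
    ∃ (Ys : Over S) (y : Ys ⟶ T) (e : (yon S).obj Ys ≅ H), e.hom ≫ π₂ = (yon S).map y := by
  let D := descDD sqL
  let κ : V'.left ⟶ pullback c.left Y.hom := θ.inv.hom.left
  have hκ1 : κ ≫ pullback.fst c.left Y.hom = v'.left := CategoryTheory.Over.w θ.inv.hom
  have hi1 : κ ≫ θ.hom.hom.left = 𝟙 _ := congrArg (fun k => k.hom.left) θ.inv_hom_id
  have hi2 : θ.hom.hom.left ≫ κ = 𝟙 _ := congrArg (fun k => k.hom.left) θ.hom_inv_id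
  haveI hκiso : IsIso κ := ⟨θ.hom.hom.left, hi1, hi2⟩
  let r : V'.left ⟶ Y.left := κ ≫ pullback.snd c.left Y.hom
  have hr : r ≫ Y.hom = v'.left ≫ c.left := by
    show (κ ≫ pullback.snd _ _) ≫ Y.hom = _
    rw [Category.assoc, ← pullback.condition, ← Category.assoc, hκ1]
  let Ys : Over S := Over.mk (Y.hom ≫ T.hom)
  let y : Ys ⟶ T := Over.homMk Y.hom rfl
  let R : V' ⟶ Ys := Over.homMk r (by
    show r ≫ Y.hom ≫ T.hom = V'.hom
    rw [← Category.assoc, hr, Category.assoc, CategoryTheory.Over.w c, CategoryTheory.Over.w v'])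
  have sqS : IsPullback r v'.left Y.hom c.left := by
    have h0 := (IsPullback.of_hasPullback c.left Y.hom).flip
    refine IsPullback.of_iso h0 (asIso κ).symm (Iso.refl _) (Iso.refl _) (Iso.refl _) ?_ ?_ ?_ ?_
    · rw [Iso.refl_hom, Category.comp_id, Iso.symm_hom, asIso_inv, IsIso.eq_inv_comp]
    · rw [Iso.refl_hom, Category.comp_id, Iso.symm_hom, asIso_inv, IsIso.eq_inv_comp, hκ1]
    · simp
    · simp
  have sqB : IsPullback R v' y c :=
    IsPullback.of_map (Over.forget S) (Over.OverMorphism.ext sqS.w) sqS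
  have sqBy := sqB.map (yon S)
  have hcompat : ∀ ⦃T'' : Scheme.{u}⦄ (x₀ x₁ : T'' ⟶ T'.left) (h : x₀ ≫ c.left = x₁ ≫ c.left)
      (v : Desc.Lifts D.obj x₀), (D.φ x₀ x₁ h v).1 ≫ r = v.1 ≫ r := by
    intro T'' x₀ x₁ h v
    have hw : (v.1 ≫ κ) ≫ pullback.fst c.left Y.hom = x₀ := by
      rw [Category.assoc, hκ1]
      exact v.2
    have h3 := θ.inv.comm x₀ x₁ h v ⟨v.1 ≫ κ, hw⟩ rfl
    have e := congrArg (fun k => k ≫ pullback.snd c.left Y.hom) h3
    have e2 : (((Desc.toDD c.left).obj Y).φ x₀ x₁ h ⟨v.1 ≫ κ, hw⟩).1 ≫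
        pullback.snd c.left Y.hom = (v.1 ≫ κ) ≫ pullback.snd c.left Y.hom := by
      show (Desc.canMap c.left Y x₀ x₁ h _).1 ≫ _ = _
      rw [Desc.canMap_val, pullback.lift_snd]
    show (D.φ x₀ x₁ h v).1 ≫ κ ≫ pullback.snd _ _ = v.1 ≫ κ ≫ pullback.snd _ _
    rw [← Category.assoc, ← Category.assoc]
    exact e.symm.trans e2
  have K1 : ∀ {Z : Over S} (B₁ B₂ : Z ⟶ V'),
      (yon S).map B₁ ≫ ψ = (yon S).map B₂ ≫ ψ → B₁ ≫ R = B₂ ≫ R := by
    intro Z B₁ B₂ e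
    have hc : (B₁ ≫ v') ≫ c = (B₂ ≫ v') ≫ c := by
      apply (yon S).map_injective
      have h5 := congrArg (fun k => k ≫ π₂) e
      simp only [Category.assoc, sqL.w] at h5
      simpa only [Functor.map_comp, Category.assoc] using h5
    have h2 : B₂ = tr sqL B₁ (B₂ ≫ v') hc := tr_unique sqL B₁ (B₂ ≫ v') hc B₂ rfl e.symm
    have h3 : B₂.left = trS sqL B₁.left (B₂ ≫ v').left (congrArg (fun k => k.left) hc) :=
      (congrArg (fun k => k.left) h2).trans (trS_eq sqL B₁ (B₂ ≫ v') hc)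
    have h4 := hcompat (B₁.left ≫ v'.left) (B₂.left ≫ v'.left) (congrArg (fun k => k.left) hc)
      ⟨B₁.left, rfl⟩
    apply Over.OverMorphism.ext
    show B₁.left ≫ r = B₂.left ≫ r
    exact h4.symm.trans (congrArg (fun k => k ≫ r) h3.symm)
  have K2 : ∀ {Z : Over S} (B₁ B₂ : Z ⟶ V'),
      B₁ ≫ R = B₂ ≫ R → (yon S).map B₁ ≫ ψ = (yon S).map B₂ ≫ ψ := by
    intro Z B₁ B₂ e
    have hc : (B₁ ≫ v') ≫ c = (B₂ ≫ v') ≫ c := by
      rw [Category.assoc, Category.assoc, ← sqB.w, ← Category.assoc, ← Category.assoc, e]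
    have h1 := K1 B₁ (tr sqL B₁ (B₂ ≫ v') hc) (tr_ψ sqL _ _ _).symm
    have h2 : tr sqL B₁ (B₂ ≫ v') hc = B₂ :=
      sqB.hom_ext (h1.symm.trans e) (tr_hom sqL _ _ _)
    exact (tr_ψ sqL B₁ (B₂ ≫ v') hc).symm.trans (congrArg (fun k => (yon S).map k ≫ ψ) h2)
  have hd1 : ∀ {Z : Sp S} (g₁ g₂ : Z ⟶ (yon S).obj V'), g₁ ≫ ψ = g₂ ≫ ψ →
      g₁ ≫ (yon S).map R = g₂ ≫ (yon S).map R := by
    intro Z g₁ g₂ hg
    apply hom_ext_yon
    intro W x
    obtain ⟨B₁, hB₁⟩ := (yon S).map_surjective (x ≫ g₁)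
    obtain ⟨B₂, hB₂⟩ := (yon S).map_surjective (x ≫ g₂)
    have e : (yon S).map B₁ ≫ ψ = (yon S).map B₂ ≫ ψ := by
      rw [hB₁, hB₂, Category.assoc, Category.assoc, hg]
    have h6 := K1 B₁ B₂ e
    rw [← Category.assoc, ← Category.assoc, ← hB₁, ← hB₂, ← Functor.map_comp,
      ← Functor.map_comp, h6]
  have hd2 : ∀ {Z : Sp S} (g₁ g₂ : Z ⟶ (yon S).obj V'),
      g₁ ≫ (yon S).map R = g₂ ≫ (yon S).map R → g₁ ≫ ψ = g₂ ≫ ψ := by
    intro Z g₁ g₂ hg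
    apply hom_ext_yon
    intro W x
    obtain ⟨B₁, hB₁⟩ := (yon S).map_surjective (x ≫ g₁)
    obtain ⟨B₂, hB₂⟩ := (yon S).map_surjective (x ≫ g₂)
    have e : B₁ ≫ R = B₂ ≫ R := by
      apply (yon S).map_injective
      rw [Functor.map_comp, Functor.map_comp, hB₁, hB₂, Category.assoc, Category.assoc, hg]
    have h6 := K2 B₁ B₂ e
    rw [← Category.assoc, ← Category.assoc, ← hB₁, ← hB₂, h6]
  haveI : Epi ψ := epi_fst_of_isPullback sqL
  haveI : Epi ((yon S).map R) := epi_fst_of_isPullback sqBy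
  haveI := effectiveEpi_of_epi ψ
  haveI := effectiveEpi_of_epi ((yon S).map R)
  let α : H ⟶ (yon S).obj Ys := EffectiveEpi.desc ψ ((yon S).map R) hd1
  let β : (yon S).obj Ys ⟶ H := EffectiveEpi.desc ((yon S).map R) ψ hd2
  have hα : ψ ≫ α = (yon S).map R := EffectiveEpi.fac _ _ _
  have hβ : (yon S).map R ≫ β = ψ := EffectiveEpi.fac _ _ _
  refine ⟨Ys, y, ⟨β, α, ?_, ?_⟩, ?_⟩
  · rw [← cancel_epi ((yon S).map R), ← Category.assoc, hβ, hα, Category.comp_id]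
  · rw [← cancel_epi ψ, ← Category.assoc, hα, hβ, Category.comp_id]
  · show β ≫ π₂ = (yon S).map y
    rw [← cancel_epi ((yon S).map R), ← Category.assoc, hβ, sqL.w, sqBy.w]

end Core

set_option backward.isDefEq.respectTransparency false in
/-- Representability with property `P` from a chart and effective descent. -/
theorem main9894 (P : MorphismProperty Scheme.{u})
    [P.IsStableUnderBaseChange] [P.IsLocalAtTarget Scheme.fppfPrecoverage]
    (hdesc : ∀ ⦃X' S' : Scheme.{u}⦄ (p : X' ⟶ S'), Surjective p → Flat p →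
      LocallyOfFinitePresentation p →
      ∀ D : Desc.SchDD p, P D.obj.hom → (Desc.toDD p).essImage D)
    {F G : Sp S} (hF : IsAlgSpace F) (f : G ⟶ F) {U V : Over S} (q : (yon S).obj U ⟶ F)
    (hqe : RepWith @Etale q) (hqs : RepWith @Surjective q) (fst : (yon S).obj V ⟶ G)
    (g : V ⟶ U) (sq : IsPullback fst ((yon S).map g) f q) (hP : P g.left) :
    IsAlgSpace G ∧ RepWith P f := by
  have hrep : Representable f := by
    intro T t
    let T' := hqe.rep.pullback t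
    let c : T' ⟶ T := hqe.rep.snd t
    let t' : T' ⟶ U := hqe.rep.fst' t
    have sqT : IsPullback ((yon S).map t') ((yon S).map c) q t := hqe.rep.isPullback' t
    haveI hce : Etale c.left := hqe.property_snd t
    have hcs : Surjective c.left := hqs.property _ _ _ sqT
    haveI : Epi q := epi_of_atlas q hqe hqs
    haveI : Epi ((yon S).map c) := epi_snd_of_isPullback sqT
    let V' := pullback g t'
    let v' : V' ⟶ T' := pullback.snd g t'
    have hPv : P v'.left := P.of_isPullback ((IsPullback.of_hasPullback g t').map (Over.forget S)) hP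
    have sqB := isPullback_restrict sq t'
    rw [sqT.w] at sqB
    have sqG := IsPullback.of_hasPullback f t
    let ψ : (yon S).obj V' ⟶ pullback f t :=
      sqG.lift ((yon S).map (pullback.fst g t') ≫ fst) ((yon S).map v' ≫ (yon S).map c) (by
        rw [Category.assoc, Category.assoc]
        exact sqB.w)
    have hψ1 : ψ ≫ pullback.fst f t = (yon S).map (pullback.fst g t') ≫ fst := sqG.lift_fst _ _ _
    have hψ2 : ψ ≫ pullback.snd f t = (yon S).map v' ≫ (yon S).map c := sqG.lift_snd _ _ _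
    rw [← hψ1] at sqB
    have sqL : IsPullback ψ ((yon S).map v') (pullback.snd f t) ((yon S).map c) :=
      IsPullback.of_right sqB hψ2 sqG
    obtain ⟨Y, ⟨θ⟩⟩ := hdesc c.left hcs inferInstance inferInstance (descDD sqL) hPv
    obtain ⟨Ys, y, e, he⟩ := exists_iso_of_essImage sqL Y θ
    refine ⟨Ys, y, e.hom ≫ pullback.fst f t, ?_⟩
    refine IsPullback.of_iso sqG e.symm (Iso.refl _) (Iso.refl _) (Iso.refl _) ?_ ?_ ?_ ?_
    · simp
    · rw [← he]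
      simp
    · simp
    · simp
  have h2 : RepWith P f :=
    repWith_of_chart P (descendsEtale_of_isLocalAtTarget_fppf P) f hrep q hqe hqs fst g sq hP
  refine ⟨?_, h2⟩
  refine isAlgSpace_of_repBySp f ((repBySp_hom_iff f).2 ?_) hF
  intro W ξ F' fst' snd' sq'
  exact (IsAlgSpace.yon_obj _).of_iso (sq'.isoIsPullback _ _ (hrep.isPullback ξ)).symm

end Groth.Agent.Lib.RepDescH7
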