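import Mathlib

set_option autoImplicit false
set_option linter.style.haveILetI false
set_option linter.unusedSectionVars false

universe w v u

namespace Groth.Agent.Lib.RepleteH4

open CategoryTheory CategoryTheory.Limits Opposite

section Tower

variable (G : ℕᵒᵖ ⥤ Type w)

/-- transition map -/
def T {a b : ℕ} (h : b ≤ a) : G.obj (op a) → G.obj (op b) := fun z => G.map (homOfLE h).op z

lemma hom_eq {a b : ℕ} (f g : (op a : ℕᵒᵖ) ⟶ op b) : f = g :=
  Quiver.Hom.unop_inj (Subsingleton.elim _ _)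

lemma T_eq {a b : ℕ} (h : b ≤ a) (f : (op a : ℕᵒᵖ) ⟶ op b) (z : G.obj (op a)) :
    T G h z = G.map f z := by
  rw [hom_eq f (homOfLE h).op]; rfl

lemma T_refl (a : ℕ) (z : G.obj (op a)) : T G (le_refl a) z = z := by
  rw [T_eq G (le_refl a) (𝟙 (op a)) z, G.map_id]; rfl

lemma T_trans {a b c : ℕ} (h1 : b ≤ a) (h2 : c ≤ b) (z : G.obj (op a)) :
    T G h2 (T G h1 z) = T G (h2.trans h1) z := by
  rw [T_eq G (h2.trans h1) ((homOfLE h1).op ≫ (homOfLE h2).op) z, G.map_comp]
  rfl

theorem exists_section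
    (hG : ∀ m, Function.Surjective (G.map (homOfLE (Nat.le_succ m)).op))
    (n : ℕ) (s : G.obj (op n)) : ∃ x ∈ G.sections, x (op n) = s := by
  have hG' : ∀ m, Function.Surjective (T G (Nat.le_succ m)) := hG
  choose r hr using hG'
  let y : ∀ k, G.obj (op (n + k)) := fun k =>
    Nat.rec (motive := fun k => G.obj (op (n + k))) s (fun k yk => r (n + k) yk) k
  have hy : ∀ k, T G (Nat.le_succ (n + k)) (y (k + 1)) = y k := fun k => hr (n + k) (y k)
  have compat : ∀ k' k (h : k' ≤ k), T G (Nat.add_le_add_left h n) (y k) = y k' := by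
    intro k' k h
    induction k, h using Nat.le_induction with
    | base => exact T_refl G _ _
    | succ k hk ih =>
      rw [← ih, ← hy k, T_trans]
      try rfl
  refine ⟨fun j => T G (Nat.le_add_left j.unop n) (y j.unop), ?_, ?_⟩
  · intro j j' f
    obtain ⟨j⟩ := j
    obtain ⟨j'⟩ := j'
    have hle : j' ≤ j := leOfHom f.unop
    show G.map f (T G (Nat.le_add_left j n) (y j)) = T G (Nat.le_add_left j' n) (y j')
    rw [← compat j' j hle, T_trans, ← T_eq G (a := j) (b := j') hle f, T_trans]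
  · show T G (Nat.le_add_left n n) (y n) = s
    exact compat 0 n (Nat.zero_le n)

end Tower

theorem main14018 {C : Type u} [Category.{v} C] (J : GrothendieckTopology C)
    (hwc : ∀ V : C, ∃ S : Sieve V, S ∈ J V ∧ ∀ ⦃W : C⦄ (f : W ⟶ V), S.arrows f →
      ∃ (U : C) (g : W ⟶ U) (h : U ⟶ V), (∀ (A B : Sheaf J (Type w)) (ψ : A ⟶ B), Epi ψ →
        Function.Surjective (ψ.hom.app (op U))) ∧ g ≫ h = f)
    (F : ℕᵒᵖ ⥤ Sheaf J (Type w))
    (hF : ∀ n : ℕ, Epi (F.map (homOfLE (Nat.le_succ n)).op))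
    (c : Cone F) (hc : IsLimit c) (n : ℕ) :
    Epi (c.π.app (op n)) := by
  haveI : Sheaf.IsLocallySurjective (c.π.app (op n)) := by
    refine ⟨fun {V} s => ?_⟩
    obtain ⟨S, hS, hS'⟩ := hwc V
    refine J.superset_covering ?_ hS
    intro W f hf
    obtain ⟨U, g, h, hU, rfl⟩ := hS' f hf
    let E : Sheaf J (Type w) ⥤ Type w :=
      sheafToPresheaf J (Type w) ⋙ (evaluation Cᵒᵖ (Type w)).obj (op U)
    have hc' : IsLimit (E.mapCone c) := isLimitOfPreserves E hc
    have hsurj : ∀ m, Function.Surjective ((F ⋙ E).map (homOfLE (Nat.le_succ m)).op) :=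
      fun m => hU _ _ _ (hF m)
    obtain ⟨x, hx, hxn⟩ := exists_section (F ⋙ E) hsurj n ((F.obj (op n)).obj.map h.op s)
    let tU : c.pt.obj.obj (op U) := (Types.isLimitEquivSections hc').symm ⟨x, hx⟩
    have htU : (c.π.app (op n)).hom.app (op U) tU = (F.obj (op n)).obj.map h.op s := by
      have := Types.isLimitEquivSections_symm_apply hc' ⟨x, hx⟩ (op n)
      exact this.trans hxn
    refine ⟨c.pt.obj.map g.op tU, ?_⟩
    have nat := NatTrans.naturality_apply (c.π.app (op n)).hom g.op tU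
    refine nat.trans ?_
    rw [htU, op_comp, Functor.map_comp]
    rfl
  infer_instance

end Groth.Agent.Lib.RepleteH4
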