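import Mathlib

set_option autoImplicit false
set_option maxHeartbeats 1000000

/-! Point counts for resultants of a binary quadratic and a binary form of degree `n` (helper1). -/

namespace Groth.Agent.Lib.ResCountH1

open Polynomial Finset

universe u

attribute [local instance 10] Classical.propDecidable

section generic

variable {α β : Type*}

theorem nc_eq [Fintype α] (p : α → Prop) [DecidablePred p] :
    Nat.card {x // p x} = (univ.filter p).card := by
  rw [Nat.card_eq_fintype_card, Fintype.card_subtype]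

theorem nc_congr {p p' : α → Prop} (h : ∀ x, p x ↔ p' x) :
    Nat.card {x // p x} = Nat.card {x // p' x} :=
  Nat.card_congr (Equiv.subtypeEquivRight h)

theorem nc_false {p : α → Prop} (h : ∀ x, ¬ p x) : Nat.card {x // p x} = 0 := by
  have : IsEmpty {x // p x} := ⟨fun x => h x.1 x.2⟩
  exact Nat.card_of_isEmpty

theorem nc_and_const (c : Prop) [Decidable c] (p : β → Prop) :
    Nat.card {b : β // c ∧ p b} = if c then Nat.card {b // p b} else 0 := by
  by_cases h : c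
  · rw [if_pos h]; exact nc_congr fun b => and_iff_right h
  · rw [if_neg h]; exact nc_false fun b hb => h hb.1

theorem nc_split [Fintype α] (p c : α → Prop) :
    Nat.card {x // p x} = Nat.card {x // p x ∧ c x} + Nat.card {x // p x ∧ ¬ c x} := by
  have h1 : (univ.filter fun x => p x ∧ c x) = (univ.filter p).filter c := by
    ext x; simp [mem_filter]
  have h2 : (univ.filter fun x => p x ∧ ¬ c x) = (univ.filter p).filter (fun x => ¬ c x) := by
    ext x; simp [mem_filter]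
  rw [nc_eq, nc_eq, nc_eq, h1, h2, Finset.card_filter_add_card_filter_not]

theorem nc_prod_sum [Fintype α] [Fintype β] (p : α → β → Prop) :
    Nat.card {x : α × β // p x.1 x.2} = ∑ a, Nat.card {b // p a b} := by
  simp only [nc_eq, Finset.card_filter]
  rw [← Finset.univ_product_univ, Finset.sum_product]

theorem nc_prod_sum' [Fintype α] [Fintype β] (p : α → β → Prop) :
    Nat.card {x : α × β // p x.1 x.2} = ∑ b, Nat.card {a // p a b} := by
  simp only [nc_eq, Finset.card_filter]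
  rw [← Finset.univ_product_univ, Finset.sum_product_right]

theorem nc_prod [Fintype α] [Fintype β] (p : α → β → Prop) (c : α → Prop) [DecidablePred c]
    (m : ℕ)
    (h : ∀ a, Nat.card {b // p a b} = if c a then m else 0) :
    Nat.card {x : α × β // p x.1 x.2} = Nat.card {a // c a} * m := by
  rw [nc_prod_sum, nc_eq c]
  simp only [h]
  rw [← Finset.sum_filter, Finset.sum_const, smul_eq_mul]

theorem nc_prod' [Fintype α] [Fintype β] (p : α → β → Prop) (c : β → Prop) [DecidablePred c]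
    (m : ℕ)
    (h : ∀ b, Nat.card {a // p a b} = if c b then m else 0) :
    Nat.card {x : α × β // p x.1 x.2} = Nat.card {b // c b} * m := by
  rw [nc_prod_sum', nc_eq c]
  simp only [h]
  rw [← Finset.sum_filter, Finset.sum_const, smul_eq_mul]

theorem nc_comp {V W : Type*} [AddCommGroup V] [Fintype V] [AddCommGroup W] [Fintype W]
    (T : V →+ W) (hT : Function.Surjective T) (p : W → Prop) :
    Nat.card {v // p (T v)} * Nat.card W = Nat.card {w // p w} * Nat.card V := by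
  have hfib : ∀ w : W, (univ.filter fun v => T v = w).card =
      (univ.filter fun v => T v = 0).card :=
    fun w => AddMonoidHom.card_fiber_eq_of_mem_range T (hT w) (hT 0)
  have hfib2 : ∀ w ∈ (univ.filter fun w => p w),
      ((univ.filter fun v => p (T v)).filter fun v => T v = w).card =
        (univ.filter fun v => T v = 0).card := by
    intro w hw
    rw [← hfib w]
    congr 1
    ext v
    simp only [mem_filter, mem_univ, true_and]
    constructor
    · exact fun h => h.2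
    · intro h; exact ⟨by rw [h]; exact (mem_filter.mp hw).2, h⟩
  have h1 : Nat.card {v // p (T v)} =
      Nat.card {w // p w} * (univ.filter fun v => T v = 0).card := by
    rw [nc_eq, nc_eq, Finset.card_eq_sum_card_fiberwise (f := fun v => T v)
      (s := univ.filter fun v => p (T v)) (t := univ.filter fun w => p w)
      (fun v hv => by simpa using hv),
      Finset.sum_congr rfl hfib2, Finset.sum_const, smul_eq_mul]
  have h2 : Nat.card V = Nat.card W * (univ.filter fun v => T v = 0).card := by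
    rw [Nat.card_eq_fintype_card, Nat.card_eq_fintype_card, ← Finset.card_univ (α := V),
      Finset.card_eq_sum_card_fiberwise (f := fun v => T v) (s := (univ : Finset V))
        (t := (univ : Finset W)) (fun v _ => by simp),
      Finset.sum_congr rfl (fun w _ => hfib w), Finset.sum_const, smul_eq_mul, Finset.card_univ]
  rw [h1, h2]; ring

theorem nc_comp_div {V W : Type*} [AddCommGroup V] [Fintype V] [AddCommGroup W] [Fintype W]
    (T : V →+ W) (hT : Function.Surjective T) (p : W → Prop) (K : ℕ)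
    (hK : Nat.card V = K * Nat.card W) :
    Nat.card {v // p (T v)} = Nat.card {w // p w} * K := by
  have h := nc_comp T hT p
  rw [hK, ← mul_assoc] at h
  exact Nat.eq_of_mul_eq_mul_right Nat.card_pos h

end generic

variable {F : Type u} [Field F]

/-! ### polynomials from coefficient vectors -/

noncomputable def pol (d : ℕ) (c : Fin d → F) : F[X] := ∑ i : Fin d, C (c i) * X ^ (i : ℕ)

theorem pol_coeff {d : ℕ} (c : Fin d → F) (j : ℕ) :
    (pol d c).coeff j = if h : j < d then c ⟨j, h⟩ else 0 := by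
  unfold pol
  rw [Polynomial.finsetSum_coeff]
  simp only [coeff_C_mul, coeff_X_pow, mul_ite, mul_one, mul_zero]
  by_cases h : j < d
  · rw [dif_pos h, Finset.sum_eq_single (⟨j, h⟩ : Fin d)]
    · simp
    · intro i _ hi
      rw [if_neg]
      intro hj; apply hi; exact Fin.ext hj.symm
    · intro h'; exact absurd (mem_univ _) h'
  · rw [dif_neg h]
    apply Finset.sum_eq_zero
    intro i _
    rw [if_neg]
    intro hj; apply h; rw [hj]; exact i.isLt

theorem pol_add (d : ℕ) (c c' : Fin d → F) : pol d (c + c') = pol d c + pol d c' := by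
  unfold pol
  rw [← Finset.sum_add_distrib]
  refine Finset.sum_congr rfl fun i _ => ?_
  rw [Pi.add_apply, C_add, add_mul]

theorem pol_smul (d : ℕ) (x : F) (c : Fin d → F) : pol d (x • c) = C x * pol d c := by
  unfold pol
  rw [Finset.mul_sum]
  refine Finset.sum_congr rfl fun i _ => ?_
  rw [Pi.smul_apply, smul_eq_mul, C_mul, mul_assoc]

theorem pol_single (d : ℕ) (j : Fin d) (u : F) : pol d (Pi.single j u) = C u * X ^ (j : ℕ) := by
  unfold pol
  rw [Finset.sum_eq_single j]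
  · rw [Pi.single_eq_same]
  · intro i _ hi; rw [Pi.single_eq_of_ne hi, C_0, zero_mul]
  · intro h; exact absurd (mem_univ j) h

theorem pol_natDegree_le (d : ℕ) (c : Fin (d + 1) → F) : (pol (d + 1) c).natDegree ≤ d := by
  rw [Polynomial.natDegree_le_iff_coeff_eq_zero]
  intro N hN
  rw [pol_coeff, dif_neg (by omega)]

theorem coeff_last (d : ℕ) (b : Fin (d + 1) → F) : (pol (d + 1) b).coeff d = b (Fin.last d) := by
  rw [pol_coeff, dif_pos (Nat.lt_succ_self d)]
  rfl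

theorem pol3 (a : Fin 3 → F) : pol 3 a = C (a 0) + C (a 1) * X + C (a 2) * X ^ 2 := by
  unfold pol
  rw [Fin.sum_univ_three]
  simp

theorem coeff2 (a : Fin 3 → F) : (pol 3 a).coeff 2 = a 2 := coeff_last 2 a

theorem pol3_natDegree (a : Fin 3 → F) : (pol 3 a).natDegree ≤ 2 := pol_natDegree_le 2 a

theorem pol3_of_zero {a : Fin 3 → F} (h2 : a 2 = 0) : pol 3 a = C (a 0) + C (a 1) * X := by
  rw [pol3, h2, C_0, zero_mul, add_zero]

/-! ### basic counts -/

theorem nc_ne_zero [Fintype F] : Nat.card {w : F // w ≠ 0} = Fintype.card F - 1 := by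
  rw [nc_eq]
  have : (univ.filter fun w : F => w ≠ 0) = univ.erase 0 := by ext w; simp
  rw [this, Finset.card_erase_of_mem (mem_univ _), Finset.card_univ]

theorem nc_eq_zero [Fintype F] : Nat.card {w : F // w = 0} = 1 := by
  rw [nc_eq]
  have : (univ.filter fun w : F => w = 0) = {0} := by ext w; simp
  rw [this, Finset.card_singleton]

theorem base01 [Fintype F] :
    Nat.card {w : F × F // w.1 = 0 ∧ w.2 ≠ 0} = Fintype.card F - 1 := by
  rw [nc_prod (fun u v : F => u = 0 ∧ v ≠ 0) (fun u => u = 0) (Fintype.card F - 1)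
    (fun u => by rw [nc_and_const, nc_ne_zero]), nc_eq_zero, one_mul]

theorem K2 [Fintype F] (d : ℕ) :
    Nat.card {c : Fin (d + 1) → F // c (Fin.last d) ≠ 0} =
      (Fintype.card F - 1) * Fintype.card F ^ d := by
  have h := nc_comp_div (Pi.evalAddMonoidHom (fun _ : Fin (d + 1) => F) (Fin.last d))
    (fun u => ⟨Pi.single (Fin.last d) u, by simp⟩) (fun w : F => w ≠ 0) (Fintype.card F ^ d)
    (by rw [Nat.card_fun, Nat.card_fin, Nat.card_eq_fintype_card, pow_succ])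
  rw [nc_ne_zero] at h
  exact h

theorem K1 [Fintype F] (d e : ℕ) (hd : d = e + 1) (x : F) :
    Nat.card {c : Fin (d + 1) → F // c (Fin.last d) ≠ 0 ∧ eval x (pol (d + 1) c) ≠ 0} =
      (Fintype.card F - 1) ^ 2 * Fintype.card F ^ e := by
  subst hd
  let T : (Fin (e + 1 + 1) → F) →+ F × F :=
    AddMonoidHom.mk' (fun c => (c (Fin.last (e + 1)), eval x (pol (e + 1 + 1) c)))
      (by intro c c'; simp only [pol_add, eval_add, Pi.add_apply, Prod.mk_add_mk])
  have hT : Function.Surjective T := by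
    rintro ⟨u, v⟩
    have h0 : (0 : Fin (e + 1 + 1)) ≠ Fin.last (e + 1) := by
      intro h; have := congrArg Fin.val h; simp at this
    refine ⟨Pi.single (Fin.last (e + 1)) u + Pi.single 0 (v - u * x ^ (e + 1)), ?_⟩
    show ((Pi.single (Fin.last (e + 1)) u + Pi.single 0 (v - u * x ^ (e + 1)) :
        Fin (e + 1 + 1) → F) (Fin.last (e + 1)),
      eval x (pol (e + 1 + 1) (Pi.single (Fin.last (e + 1)) u +
        Pi.single 0 (v - u * x ^ (e + 1))))) = (u, v)
    rw [pol_add, pol_single, pol_single, Pi.add_apply, Pi.single_eq_same,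
      Pi.single_eq_of_ne h0.symm]
    simp
  have h := nc_comp_div T hT (fun w : F × F => w.1 ≠ 0 ∧ w.2 ≠ 0) (Fintype.card F ^ e)
    (by rw [Nat.card_fun, Nat.card_fin, Nat.card_prod, Nat.card_eq_fintype_card]; ring)
  have hb : Nat.card {w : F × F // w.1 ≠ 0 ∧ w.2 ≠ 0} = (Fintype.card F - 1) ^ 2 := by
    rw [nc_prod (fun u v : F => u ≠ 0 ∧ v ≠ 0) (fun u => u ≠ 0) (Fintype.card F - 1)
      (fun u => by rw [nc_and_const, nc_ne_zero]), nc_ne_zero, sq]
  rw [hb] at h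
  exact h

theorem K1_3 [Fintype F] (x : F) :
    Nat.card {a : Fin 3 → F // a 2 ≠ 0 ∧ eval x (pol 3 a) ≠ 0} =
      (Fintype.card F - 1) ^ 2 * Fintype.card F ^ 1 := K1 2 1 rfl x

theorem K2_3 [Fintype F] :
    Nat.card {a : Fin 3 → F // a 2 ≠ 0} = (Fintype.card F - 1) * Fintype.card F ^ 2 := K2 2

theorem cnt4 [Fintype F] :
    Nat.card {a : Fin 3 → F // a 2 = 0 ∧ a 1 ≠ 0} = (Fintype.card F - 1) * Fintype.card F := by
  let T : (Fin 3 → F) →+ F × F :=
    AddMonoidHom.mk' (fun a => (a 2, a 1)) (by intro a a'; rfl)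
  have hT : Function.Surjective T := by
    rintro ⟨u, v⟩
    exact ⟨![0, v, u], rfl⟩
  have h := nc_comp_div T hT (fun w : F × F => w.1 = 0 ∧ w.2 ≠ 0) (Fintype.card F)
    (by rw [Nat.card_fun, Nat.card_fin, Nat.card_prod, Nat.card_eq_fintype_card]; ring)
  rw [base01] at h
  exact h

theorem cnt5 [Fintype F] :
    Nat.card {a : Fin 3 → F // a 2 = 0 ∧ a 1 = 0 ∧ a 0 ≠ 0} = Fintype.card F - 1 := by
  let T : (Fin 3 → F) →+ F × F × F :=
    AddMonoidHom.mk' (fun a => (a 2, a 1, a 0)) (by intro a a'; rfl)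
  have hT : Function.Surjective T := by
    rintro ⟨u, v, w⟩
    exact ⟨![w, v, u], rfl⟩
  have h := nc_comp_div T hT (fun w : F × F × F => w.1 = 0 ∧ w.2.1 = 0 ∧ w.2.2 ≠ 0) 1
    (by rw [Nat.card_fun, Nat.card_fin, Nat.card_prod, Nat.card_prod]; ring)
  have hb : Nat.card {w : F × F × F // w.1 = 0 ∧ w.2.1 = 0 ∧ w.2.2 ≠ 0} =
      Fintype.card F - 1 := by
    rw [nc_prod (fun (u : F) (vw : F × F) => u = 0 ∧ vw.1 = 0 ∧ vw.2 ≠ 0) (fun u => u = 0)
      (Fintype.card F - 1) (fun u => by rw [nc_and_const, base01]), nc_eq_zero, one_mul]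
  rw [hb, mul_one] at h
  exact h

theorem cnt8 [Fintype F] :
    Nat.card {r : F × F // r.2 ≠ 0} = (Fintype.card F - 1) * Fintype.card F := by
  have h := nc_comp_div (AddMonoidHom.snd F F) Prod.snd_surjective (fun w : F => w ≠ 0)
    (Fintype.card F) (by rw [Nat.card_prod, Nat.card_eq_fintype_card])
  rw [nc_ne_zero] at h
  exact h

theorem cnt9 [Fintype F] :
    Nat.card {r : F × F // r.2 = 0 ∧ r.1 ≠ 0} = Fintype.card F - 1 := by
  rw [nc_prod' (fun u v : F => v = 0 ∧ u ≠ 0) (fun v => v = 0) (Fintype.card F - 1)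
    (fun v => by rw [nc_and_const, nc_ne_zero]), nc_eq_zero, one_mul]

/-! ### Case A: leading coefficient of the quadratic nonzero -/

noncomputable def ftil (a : Fin 3 → F) : F[X] := C (a 2)⁻¹ * pol 3 a

noncomputable def pol2 (r : F × F) : F[X] := C r.1 + C r.2 * X

theorem ftil_monic {a : Fin 3 → F} (ha : a 2 ≠ 0) : (ftil a).Monic := by
  apply monic_of_natDegree_le_of_coeff_eq_one 2
  · exact (natDegree_C_mul_le _ _).trans (pol3_natDegree a)
  · rw [ftil, coeff_C_mul, coeff2, inv_mul_cancel₀ ha]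

theorem ftil_natDegree {a : Fin 3 → F} (ha : a 2 ≠ 0) : (ftil a).natDegree = 2 := by
  apply natDegree_eq_of_le_of_coeff_ne_zero
  · exact (natDegree_C_mul_le _ _).trans (pol3_natDegree a)
  · rw [ftil, coeff_C_mul, coeff2, inv_mul_cancel₀ ha]; exact one_ne_zero

theorem pol2_coeff0 (r : F × F) : (pol2 r).coeff 0 = r.1 := by simp [pol2]

theorem pol2_coeff1 (r : F × F) : (pol2 r).coeff 1 = r.2 := by simp [pol2]

theorem pol2_natDegree (r : F × F) : (pol2 r).natDegree ≤ 1 := by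
  rw [natDegree_le_iff_coeff_eq_zero]
  intro N hN
  rw [pol2, coeff_add, coeff_C_mul, coeff_C_of_ne_zero (by omega), coeff_X_of_ne_one (by omega),
    mul_zero, add_zero]

theorem eq_pol2 (p : F[X]) (hp : p.natDegree < 2) : p = pol2 (p.coeff 0, p.coeff 1) := by
  ext j
  by_cases h0 : j = 0
  · subst h0; rw [pol2_coeff0]
  by_cases h1 : j = 1
  · subst h1; rw [pol2_coeff1]
  have hj : 2 ≤ j := by omega
  rw [coeff_eq_zero_of_natDegree_lt (lt_of_lt_of_le hp hj),
    coeff_eq_zero_of_natDegree_lt (lt_of_le_of_lt (pol2_natDegree _) (by omega))]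

noncomputable def TA (d : ℕ) (a : Fin 3 → F) : (Fin d → F) →+ F × F :=
  AddMonoidHom.mk' (fun b => ((pol d b %ₘ ftil a).coeff 0, (pol d b %ₘ ftil a).coeff 1))
    (by intro b b'; simp only [pol_add, add_modByMonic, coeff_add, Prod.mk_add_mk])

theorem TA_apply (d : ℕ) (a : Fin 3 → F) (b : Fin d → F) :
    TA d a b = ((pol d b %ₘ ftil a).coeff 0, (pol d b %ₘ ftil a).coeff 1) := rfl

theorem TA_surj {a : Fin 3 → F} (ha : a 2 ≠ 0) (d : ℕ) (hd : 2 ≤ d) :
    Function.Surjective (TA d a) := by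
  rintro ⟨u, v⟩
  obtain ⟨i0, hi0⟩ : ∃ i : Fin d, i.val = 0 := ⟨⟨0, by omega⟩, rfl⟩
  obtain ⟨i1, hi1⟩ : ∃ i : Fin d, i.val = 1 := ⟨⟨1, by omega⟩, rfl⟩
  refine ⟨Pi.single i0 u + Pi.single i1 v, ?_⟩
  have hp : pol d (Pi.single i0 u + Pi.single i1 v) = pol2 (u, v) := by
    rw [pol_add, pol_single, pol_single, pol2, hi0, hi1, pow_zero, mul_one, pow_one]
  have hmod : pol2 (u, v) %ₘ ftil a = pol2 (u, v) := by
    rw [modByMonic_eq_self_iff (ftil_monic ha)]
    apply degree_lt_degree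
    rw [ftil_natDegree ha]
    exact lt_of_le_of_lt (pol2_natDegree _) one_lt_two
  rw [TA_apply, hp, hmod, pol2_coeff0, pol2_coeff1]

theorem res_deg (f r : F[X]) (k : ℕ) (hr : r.natDegree ≤ 1) :
    resultant f r 2 (k + 1) = f.coeff 2 ^ k * resultant f r 2 1 := by
  rw [add_comm k 1]
  exact resultant_add_right_deg f r 2 1 k hr

theorem res_A {a : Fin 3 → F} (ha : a 2 ≠ 0) (m : ℕ) (b : Fin (m + 2 + 1) → F) :
    resultant (pol 3 a) (pol (m + 2 + 1) b) 2 (m + 2) =
      a 2 ^ (m + 1) * resultant (pol 3 a) (pol2 (TA (m + 2 + 1) a b)) 2 1 := by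
  have hmon := ftil_monic ha
  have hdiv : pol (m + 2 + 1) b %ₘ ftil a + ftil a * (pol (m + 2 + 1) b /ₘ ftil a) =
      pol (m + 2 + 1) b := modByMonic_add_div _ _
  have hmul : ftil a * (pol (m + 2 + 1) b /ₘ ftil a) =
      pol 3 a * (C (a 2)⁻¹ * (pol (m + 2 + 1) b /ₘ ftil a)) := by
    rw [ftil]; ring
  have hgdeg : (pol (m + 2 + 1) b).natDegree ≤ m + 2 := pol_natDegree_le (m + 2) b
  have hqdeg : (C (a 2)⁻¹ * (pol (m + 2 + 1) b /ₘ ftil a)).natDegree + 2 ≤ m + 2 := by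
    have h1 := natDegree_C_mul_le (a 2)⁻¹ (pol (m + 2 + 1) b /ₘ ftil a)
    have h2 := natDegree_divByMonic (pol (m + 2 + 1) b) hmon
    rw [ftil_natDegree ha] at h2
    omega
  have hrdeg : (pol (m + 2 + 1) b %ₘ ftil a).natDegree < 2 := by
    have := natDegree_modByMonic_lt (pol (m + 2 + 1) b) hmon (fun h => by
      have h2 := ftil_natDegree ha
      rw [h, natDegree_one] at h2
      omega)
    rw [ftil_natDegree ha] at this
    exact this
  have hr : pol (m + 2 + 1) b %ₘ ftil a = pol2 (TA (m + 2 + 1) a b) := by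
    rw [TA_apply]
    exact eq_pol2 _ hrdeg
  have hfdeg : (pol 3 a).natDegree ≤ 2 := pol3_natDegree a
  calc resultant (pol 3 a) (pol (m + 2 + 1) b) 2 (m + 2)
      = resultant (pol 3 a) (pol (m + 2 + 1) b %ₘ ftil a +
          pol 3 a * (C (a 2)⁻¹ * (pol (m + 2 + 1) b /ₘ ftil a))) 2 (m + 2) := by
        rw [← hmul, hdiv]
    _ = resultant (pol 3 a) (pol (m + 2 + 1) b %ₘ ftil a) 2 (m + 2) :=
        resultant_add_mul_right (pol 3 a) _ _ 2 (m + 2) hqdeg hfdeg
    _ = (pol 3 a).coeff 2 ^ (m + 1) * resultant (pol 3 a) (pol (m + 2 + 1) b %ₘ ftil a) 2 1 :=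
        res_deg (pol 3 a) _ (m + 1) (by omega)
    _ = a 2 ^ (m + 1) * resultant (pol 3 a) (pol2 (TA (m + 2 + 1) a b)) 2 1 := by
        rw [coeff2, hr]

theorem NA [Fintype F] {a : Fin 3 → F} (ha : a 2 ≠ 0) (m : ℕ) :
    Nat.card {b : Fin (m + 2 + 1) → F //
      resultant (pol 3 a) (pol (m + 2 + 1) b) 2 (m + 2) ≠ 0} =
      Nat.card {r : F × F // resultant (pol 3 a) (pol2 r) 2 1 ≠ 0} *
        Fintype.card F ^ (m + 1) := by
  refine (nc_congr (fun b => ?_)).trans (nc_comp_div (TA (m + 2 + 1) a)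
    (TA_surj ha _ (by omega))
    (fun r : F × F => resultant (pol 3 a) (pol2 r) 2 1 ≠ 0) (Fintype.card F ^ (m + 1)) ?_)
  · rw [res_A ha m b]
    exact ⟨fun h => right_ne_zero_of_mul h, fun h => mul_ne_zero (pow_ne_zero _ ha) h⟩
  · rw [Nat.card_fun, Nat.card_fin, Nat.card_prod, Nat.card_eq_fintype_card]; ring

theorem rho_ne (a : Fin 3 → F) (r : F × F) (hr : r.2 ≠ 0) :
    resultant (pol 3 a) (pol2 r) 2 1 =
      r.2 ^ 2 * ((-1) ^ 2 * eval (-(r.1 / r.2)) (pol 3 a)) := by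
  have h1 : pol2 r = C r.2 * (X + C (r.1 / r.2)) := by
    have : r.2 * (r.1 / r.2) = r.1 := by field_simp
    rw [pol2, mul_add, ← C_mul, this, add_comm]
  rw [h1, resultant_C_mul_right, resultant_X_add_C_right _ _ _ (pol3_natDegree a)]

theorem rho_zero (a : Fin 3 → F) (r : F × F) (hr : r.2 = 0) :
    resultant (pol 3 a) (pol2 r) 2 1 = a 2 ^ 1 * r.1 ^ 2 := by
  have h1 : pol2 r = C r.1 := by rw [pol2, hr, C_0, zero_mul, add_zero]
  rw [h1, resultant_C_right, coeff2]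

theorem MA [Fintype F] :
    Nat.card {x : (Fin 3 → F) × (F × F) //
      x.1 2 ≠ 0 ∧ resultant (pol 3 x.1) (pol2 x.2) 2 1 ≠ 0} =
      (Fintype.card F - 1) * Fintype.card F * ((Fintype.card F - 1) ^ 2 * Fintype.card F ^ 1) +
      (Fintype.card F - 1) * ((Fintype.card F - 1) * Fintype.card F ^ 2) := by
  rw [nc_split _ (fun x : (Fin 3 → F) × (F × F) => x.2.2 ≠ 0)]
  congr 1
  · refine (nc_prod' (fun (a : Fin 3 → F) (r : F × F) =>
      (a 2 ≠ 0 ∧ resultant (pol 3 a) (pol2 r) 2 1 ≠ 0) ∧ r.2 ≠ 0) (fun r => r.2 ≠ 0)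
      ((Fintype.card F - 1) ^ 2 * Fintype.card F ^ 1) (fun r => ?_)).trans (by rw [cnt8])
    by_cases hr : r.2 ≠ 0
    · rw [if_pos hr]
      refine (nc_congr fun a => ?_).trans (K1_3 (-(r.1 / r.2)))
      rw [rho_ne a r hr]
      constructor
      · rintro ⟨⟨h1, h2⟩, _⟩
        refine ⟨h1, fun h => h2 ?_⟩
        rw [h, mul_zero, mul_zero]
      · rintro ⟨h1, h2⟩
        refine ⟨⟨h1, ?_⟩, hr⟩
        exact mul_ne_zero (pow_ne_zero _ hr) (mul_ne_zero (by norm_num) h2)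
    · rw [if_neg hr]
      exact nc_false fun a h => hr h.2
  · refine (nc_prod' (fun (a : Fin 3 → F) (r : F × F) =>
      (a 2 ≠ 0 ∧ resultant (pol 3 a) (pol2 r) 2 1 ≠ 0) ∧ ¬ r.2 ≠ 0)
      (fun r => r.2 = 0 ∧ r.1 ≠ 0)
      ((Fintype.card F - 1) * Fintype.card F ^ 2) (fun r => ?_)).trans (by rw [cnt9])
    by_cases hr : r.2 = 0 ∧ r.1 ≠ 0
    · rw [if_pos hr]
      refine (nc_congr fun a => ?_).trans K2_3
      rw [rho_zero a r hr.1]
      constructor
      · rintro ⟨⟨h1, _⟩, _⟩; exact h1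
      · intro h1
        exact ⟨⟨h1, mul_ne_zero (pow_ne_zero _ h1) (pow_ne_zero _ hr.2)⟩, not_not.mpr hr.1⟩
    · rw [if_neg hr]
      refine nc_false fun a h => hr ?_
      have h2 : r.2 = 0 := not_not.mp h.2
      refine ⟨h2, fun h0 => h.1.2 ?_⟩
      rw [rho_zero a r h2, h0]
      simp

theorem NAtot [Fintype F] (m : ℕ) :
    Nat.card {x : (Fin 3 → F) × (Fin (m + 2 + 1) → F) //
      x.1 2 ≠ 0 ∧ resultant (pol 3 x.1) (pol (m + 2 + 1) x.2) 2 (m + 2) ≠ 0} =
    ((Fintype.card F - 1) * Fintype.card F * ((Fintype.card F - 1) ^ 2 * Fintype.card F ^ 1) +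
      (Fintype.card F - 1) * ((Fintype.card F - 1) * Fintype.card F ^ 2)) *
      Fintype.card F ^ (m + 1) := by
  have e1 := nc_prod_sum (fun (a : Fin 3 → F) (b : Fin (m + 2 + 1) → F) =>
      a 2 ≠ 0 ∧ resultant (pol 3 a) (pol (m + 2 + 1) b) 2 (m + 2) ≠ 0)
  have e2 := nc_prod_sum (fun (a : Fin 3 → F) (r : F × F) =>
      a 2 ≠ 0 ∧ resultant (pol 3 a) (pol2 r) 2 1 ≠ 0)
  rw [← MA]
  refine e1.trans ?_
  rw [e2, Finset.sum_mul]
  refine Finset.sum_congr rfl fun a _ => ?_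
  rw [nc_and_const, nc_and_const]
  by_cases ha : a 2 ≠ 0
  · rw [if_pos ha, if_pos ha]; exact NA ha m
  · rw [if_neg ha, if_neg ha, zero_mul]

/-! ### Cases B, C: leading coefficient of the quadratic zero -/

theorem res_B {a : Fin 3 → F} (h2 : a 2 = 0) (h1 : a 1 ≠ 0) (d : ℕ) (b : Fin (d + 1) → F) :
    resultant (pol 3 a) (pol (d + 1) b) 2 d =
      (-1) ^ d * b (Fin.last d) * (a 1 ^ d * eval (-(a 0 / a 1)) (pol (d + 1) b)) := by
  have hf : pol 3 a = C (a 1) * (X + C (a 0 / a 1)) := by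
    have : a 1 * (a 0 / a 1) = a 0 := by field_simp
    rw [pol3_of_zero h2, mul_add, ← C_mul, this, add_comm]
  have hdeg : (pol 3 a).natDegree ≤ 1 := by
    rw [pol3_of_zero h2]
    exact pol2_natDegree (a 0, a 1)
  have hg : (pol (d + 1) b).natDegree ≤ d := pol_natDegree_le d b
  show resultant (pol 3 a) (pol (d + 1) b) (1 + 1) d = _
  rw [resultant_succ_left_deg _ _ _ _ hdeg, coeff_last, hf, resultant_C_mul_left,
    resultant_X_add_C_left _ _ _ hg]

theorem res_C {a : Fin 3 → F} (h2 : a 2 = 0) (h1 : a 1 = 0) (d : ℕ) (b : Fin (d + 1) → F) :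
    resultant (pol 3 a) (pol (d + 1) b) 2 d =
      (-1) ^ (2 * d) * b (Fin.last d) ^ 2 * a 0 ^ d := by
  have hf : pol 3 a = C (a 0) := by rw [pol3_of_zero h2, h1, C_0, zero_mul, add_zero]
  rw [hf, resultant_C_left, coeff_last]

theorem NB [Fintype F] (d e : ℕ) (hd : d = e + 1) :
    Nat.card {x : (Fin 3 → F) × (Fin (d + 1) → F) //
      (x.1 2 = 0 ∧ x.1 1 ≠ 0) ∧ resultant (pol 3 x.1) (pol (d + 1) x.2) 2 d ≠ 0} =
    (Fintype.card F - 1) * Fintype.card F *
      ((Fintype.card F - 1) ^ 2 * Fintype.card F ^ e) := by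
  refine (nc_prod (fun (a : Fin 3 → F) (b : Fin (d + 1) → F) =>
    (a 2 = 0 ∧ a 1 ≠ 0) ∧ resultant (pol 3 a) (pol (d + 1) b) 2 d ≠ 0)
    (fun a => a 2 = 0 ∧ a 1 ≠ 0) ((Fintype.card F - 1) ^ 2 * Fintype.card F ^ e)
    (fun a => ?_)).trans (by rw [cnt4])
  rw [nc_and_const]
  by_cases h : a 2 = 0 ∧ a 1 ≠ 0
  · rw [if_pos h, if_pos h]
    refine (nc_congr fun b => ?_).trans (K1 d e hd (-(a 0 / a 1)))
    rw [res_B h.1 h.2]
    constructor
    · intro hne
      refine ⟨fun h0 => hne ?_, fun h0 => hne ?_⟩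
      · rw [h0, mul_zero, zero_mul]
      · rw [h0, mul_zero, mul_zero]
    · rintro ⟨hb, he⟩
      exact mul_ne_zero (mul_ne_zero (pow_ne_zero _ (by norm_num)) hb)
        (mul_ne_zero (pow_ne_zero _ h.2) he)
  · rw [if_neg h, if_neg h]

theorem NC [Fintype F] (e : ℕ) :
    Nat.card {x : (Fin 3 → F) × (Fin (e + 1 + 1) → F) //
      (x.1 2 = 0 ∧ x.1 1 = 0) ∧ resultant (pol 3 x.1) (pol (e + 1 + 1) x.2) 2 (e + 1) ≠ 0} =
    (Fintype.card F - 1) * ((Fintype.card F - 1) * Fintype.card F ^ (e + 1)) := by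
  refine (nc_prod (fun (a : Fin 3 → F) (b : Fin (e + 1 + 1) → F) =>
    (a 2 = 0 ∧ a 1 = 0) ∧ resultant (pol 3 a) (pol (e + 1 + 1) b) 2 (e + 1) ≠ 0)
    (fun a => a 2 = 0 ∧ a 1 = 0 ∧ a 0 ≠ 0) ((Fintype.card F - 1) * Fintype.card F ^ (e + 1))
    (fun a => ?_)).trans (by rw [cnt5])
  by_cases h : a 2 = 0 ∧ a 1 = 0 ∧ a 0 ≠ 0
  · rw [if_pos h]
    refine (nc_congr fun b => ?_).trans (K2 (e + 1))
    rw [res_C h.1 h.2.1]
    constructor
    · rintro ⟨_, hne⟩ h0
      apply hne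
      rw [h0]
      simp
    · intro hb
      exact ⟨⟨h.1, h.2.1⟩, mul_ne_zero (mul_ne_zero (pow_ne_zero _ (by norm_num))
        (pow_ne_zero _ hb)) (pow_ne_zero _ h.2.2)⟩
  · rw [if_neg h]
    refine nc_false fun b hb => h ⟨hb.1.1, hb.1.2, fun h0 => hb.2 ?_⟩
    rw [res_C hb.1.1 hb.1.2, h0, zero_pow (Nat.succ_ne_zero e), mul_zero]

/-! ### Total -/

theorem total' [Fintype F] (n : ℕ) (h2 : 2 ≤ n) :
    Nat.card {p : (Fin 3 → F) × (Fin (n + 1) → F) //
      resultant (pol 3 p.1) (pol (n + 1) p.2) 2 n ≠ 0} =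
      Fintype.card F ^ (n + 1) * (Fintype.card F - 1) ^ 2 * (Fintype.card F + 1) := by
  obtain ⟨m, rfl⟩ := Nat.exists_eq_add_of_le' h2
  have s1 := nc_split (fun x : (Fin 3 → F) × (Fin (m + 2 + 1) → F) =>
      resultant (pol 3 x.1) (pol (m + 2 + 1) x.2) 2 (m + 2) ≠ 0) (fun x => x.1 2 ≠ 0)
  have s2 := nc_split (fun x : (Fin 3 → F) × (Fin (m + 2 + 1) → F) =>
      resultant (pol 3 x.1) (pol (m + 2 + 1) x.2) 2 (m + 2) ≠ 0 ∧ ¬ x.1 2 ≠ 0)
      (fun x => x.1 1 ≠ 0)
  have eA : Nat.card {x : (Fin 3 → F) × (Fin (m + 2 + 1) → F) //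
      resultant (pol 3 x.1) (pol (m + 2 + 1) x.2) 2 (m + 2) ≠ 0 ∧ x.1 2 ≠ 0} = _ :=
    (nc_congr fun x => and_comm).trans (NAtot m)
  have eB : Nat.card {x : (Fin 3 → F) × (Fin (m + 2 + 1) → F) //
      (resultant (pol 3 x.1) (pol (m + 2 + 1) x.2) 2 (m + 2) ≠ 0 ∧ ¬ x.1 2 ≠ 0) ∧
        x.1 1 ≠ 0} = _ :=
    (nc_congr fun x => by simp only [ne_eq, not_not]; tauto).trans (NB (m + 2) (m + 1) rfl)
  have eC : Nat.card {x : (Fin 3 → F) × (Fin (m + 2 + 1) → F) //
      (resultant (pol 3 x.1) (pol (m + 2 + 1) x.2) 2 (m + 2) ≠ 0 ∧ ¬ x.1 2 ≠ 0) ∧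
        ¬ x.1 1 ≠ 0} = _ :=
    (nc_congr fun x => by simp only [ne_eq, not_not]; tauto).trans (NC (m + 1))
  rw [s1, s2, eA, eB, eC]
  have hq2 : 2 ≤ Fintype.card F := Fintype.one_lt_card
  generalize Fintype.card F = q at *
  obtain ⟨t, rfl⟩ : ∃ t, q = t + 2 := ⟨q - 2, by omega⟩
  have e1 : t + 2 - 1 = t + 1 := by omega
  rw [e1]
  ring

theorem main25 (F : Type u) [Field F] [Fintype F] (n : ℕ) (h2 : 2 ≤ n) :
    Nat.card {p : (Fin 3 → F) × (Fin (n + 1) → F) //
      Polynomial.resultant (∑ i : Fin 3, Polynomial.C (p.1 i) * Polynomial.X ^ (i : ℕ))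
        (∑ j : Fin (n + 1), Polynomial.C (p.2 j) * Polynomial.X ^ (j : ℕ)) 2 n ≠ 0} =
      Fintype.card F ^ (n + 4) - Fintype.card F ^ (n + 3) - Fintype.card F ^ (n + 2) +
        Fintype.card F ^ (n + 1) := by
  refine Eq.trans (total' n h2) ?_
  have hq2 : 2 ≤ Fintype.card F := Fintype.one_lt_card
  generalize Fintype.card F = q at *
  obtain ⟨t, rfl⟩ : ∃ t, q = t + 2 := ⟨q - 2, by omega⟩
  have e1 : t + 2 - 1 = t + 1 := by omega
  rw [e1]
  have hA : (t + 2) ^ (n + 4) + (t + 2) ^ (n + 1) =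
      (t + 2) ^ (n + 1) * (t + 1) ^ 2 * (t + 2 + 1) + (t + 2) ^ (n + 3) + (t + 2) ^ (n + 2) := by
    ring
  have hQ : (t + 2) ^ (n + 1) ≤ (t + 2) ^ (n + 2) :=
    Nat.pow_le_pow_right (by omega) (by omega)
  have hT : (t + 2) ^ (n + 1) ≤ (t + 2) ^ (n + 1) * (t + 1) ^ 2 * (t + 2 + 1) := by
    calc (t + 2) ^ (n + 1) = (t + 2) ^ (n + 1) * 1 := by ring
      _ ≤ (t + 2) ^ (n + 1) * ((t + 1) ^ 2 * (t + 2 + 1)) :=
          Nat.mul_le_mul_left _ (Nat.one_le_iff_ne_zero.mpr (by positivity))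
      _ = _ := by ring
  generalize (t + 2) ^ (n + 1) * (t + 1) ^ 2 * (t + 2 + 1) = T at *
  generalize (t + 2) ^ (n + 4) = A at *
  generalize (t + 2) ^ (n + 3) = B at *
  generalize (t + 2) ^ (n + 2) = C' at *
  generalize (t + 2) ^ (n + 1) = Q at *
  omega

/-! ### resultant equal to one (odd degree) -/

noncomputable def scaleEquiv (d : ℕ) (c : F) (hc : c ≠ 0) : (Fin d → F) ≃ (Fin d → F) where
  toFun a := c • a
  invFun a := c⁻¹ • a
  left_inv a := by simp only [smul_smul, inv_mul_cancel₀ hc, one_smul]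
  right_inv a := by simp only [smul_smul, mul_inv_cancel₀ hc, one_smul]

theorem res_scale (d : ℕ) (c μ : F) (a : Fin 3 → F) (b : Fin (d + 1) → F) :
    resultant (pol 3 (c • a)) (pol (d + 1) (μ • b)) 2 d =
      c ^ d * (μ ^ 2 * resultant (pol 3 a) (pol (d + 1) b) 2 d) := by
  rw [pol_smul, pol_smul, resultant_C_mul_left, resultant_C_mul_right]

theorem fiber_eq [Fintype F] (k : ℕ) (c : F) (hc : c ≠ 0) :
    Nat.card {p : (Fin 3 → F) × (Fin (2 * k + 1 + 1) → F) //
      resultant (pol 3 p.1) (pol (2 * k + 1 + 1) p.2) 2 (2 * k + 1) = c} =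
    Nat.card {p : (Fin 3 → F) × (Fin (2 * k + 1 + 1) → F) //
      resultant (pol 3 p.1) (pol (2 * k + 1 + 1) p.2) 2 (2 * k + 1) = 1} := by
  symm
  refine Nat.card_congr (Equiv.subtypeEquiv (Equiv.prodCongr (scaleEquiv 3 c hc)
    (scaleEquiv (2 * k + 1 + 1) (c ^ k)⁻¹ (inv_ne_zero (pow_ne_zero _ hc)))) ?_)
  rintro ⟨a, b⟩
  show resultant (pol 3 a) (pol _ b) 2 (2 * k + 1) = 1 ↔
    resultant (pol 3 (c • a)) (pol _ ((c ^ k)⁻¹ • b)) 2 (2 * k + 1) = c
  rw [res_scale]
  have hck : c ^ (2 * k + 1) * ((c ^ k)⁻¹) ^ 2 = c := by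
    have : c ^ k ≠ 0 := pow_ne_zero _ hc
    field_simp
    ring
  constructor
  · intro h; rw [h, mul_one, hck]
  · intro h
    rw [← mul_assoc, hck] at h
    exact mul_left_cancel₀ hc (by rw [h, mul_one])

theorem count_one [Fintype F] (k : ℕ) :
    Nat.card {p : (Fin 3 → F) × (Fin (2 * k + 1 + 1) → F) //
      resultant (pol 3 p.1) (pol (2 * k + 1 + 1) p.2) 2 (2 * k + 1) ≠ 0} =
    (Fintype.card F - 1) *
      Nat.card {p : (Fin 3 → F) × (Fin (2 * k + 1 + 1) → F) //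
        resultant (pol 3 p.1) (pol (2 * k + 1 + 1) p.2) 2 (2 * k + 1) = 1} := by
  have hfib : ∀ c ∈ (univ.filter fun c : F => c ≠ 0),
      ((univ.filter fun p : (Fin 3 → F) × (Fin (2 * k + 1 + 1) → F) =>
        resultant (pol 3 p.1) (pol (2 * k + 1 + 1) p.2) 2 (2 * k + 1) ≠ 0).filter
          fun p => resultant (pol 3 p.1) (pol (2 * k + 1 + 1) p.2) 2 (2 * k + 1) = c).card =
      Nat.card {p : (Fin 3 → F) × (Fin (2 * k + 1 + 1) → F) //
        resultant (pol 3 p.1) (pol (2 * k + 1 + 1) p.2) 2 (2 * k + 1) = 1} := by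
    intro c hc
    have hc0 : c ≠ 0 := (mem_filter.mp hc).2
    rw [← fiber_eq k c hc0, nc_eq]
    congr 1
    ext p
    simp only [mem_filter, mem_univ, true_and]
    constructor
    · exact fun h => h.2
    · intro h; exact ⟨by rw [h]; exact hc0, h⟩
  have hcard : (univ.filter fun c : F => c ≠ 0).card = Fintype.card F - 1 := by
    rw [← nc_eq]; exact nc_ne_zero
  rw [nc_eq, Finset.card_eq_sum_card_fiberwise
    (f := fun p : (Fin 3 → F) × (Fin (2 * k + 1 + 1) → F) =>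
      resultant (pol 3 p.1) (pol (2 * k + 1 + 1) p.2) 2 (2 * k + 1))
    (t := univ.filter fun c : F => c ≠ 0) (fun p hp => by simpa using hp),
    Finset.sum_congr rfl hfib, Finset.sum_const, smul_eq_mul, hcard]

theorem main24 (F : Type u) [Field F] [Fintype F] (n : ℕ) (hn : Odd n) (h3 : 3 ≤ n) :
    Nat.card {p : (Fin 3 → F) × (Fin (n + 1) → F) //
      Polynomial.resultant (∑ i : Fin 3, Polynomial.C (p.1 i) * Polynomial.X ^ (i : ℕ))
        (∑ j : Fin (n + 1), Polynomial.C (p.2 j) * Polynomial.X ^ (j : ℕ)) 2 n = 1} =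
      Fintype.card F ^ (n + 3) - Fintype.card F ^ (n + 1) := by
  obtain ⟨k, rfl⟩ := hn
  have h1 := count_one (F := F) k
  have h2 := total' (F := F) (2 * k + 1) (by omega)
  rw [h2] at h1
  have hq2 : 2 ≤ Fintype.card F := Fintype.one_lt_card
  show Nat.card {p : (Fin 3 → F) × (Fin (2 * k + 1 + 1) → F) //
      resultant (pol 3 p.1) (pol (2 * k + 1 + 1) p.2) 2 (2 * k + 1) = 1} = _
  generalize Nat.card {p : (Fin 3 → F) × (Fin (2 * k + 1 + 1) → F) //
      resultant (pol 3 p.1) (pol (2 * k + 1 + 1) p.2) 2 (2 * k + 1) = 1} = N1 at *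
  generalize Fintype.card F = q at *
  obtain ⟨t, rfl⟩ : ∃ t, q = t + 2 := ⟨q - 2, by omega⟩
  have e1 : t + 2 - 1 = t + 1 := by omega
  rw [e1] at h1
  have h3' : (t + 1) * N1 = (t + 1) * ((t + 2) ^ (2 * k + 1 + 1) * (t + 1) * (t + 2 + 1)) := by
    rw [← h1]; ring
  have h4 : N1 = (t + 2) ^ (2 * k + 1 + 1) * (t + 1) * (t + 2 + 1) :=
    Nat.eq_of_mul_eq_mul_left (Nat.succ_pos t) h3'
  rw [h4]
  symm
  apply Nat.sub_eq_of_eq_add
  ring

end Groth.Agent.Lib.ResCountH1
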