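import Mathlib
import Groth.Prelude
import Groth.Agent.Lib.ResDesc1_helper8
import Groth.Agent.Lib.DualMod1_helper3
import Groth.Agent.Lib.HomShDual3_helper2
import Groth.Agent.Lib.ModSite11_helper8

/-!
# The evaluation `(N ⊗ A^∨) ⊗ A ⟶ N` is an epimorphism (helper8)

For `A` finite locally free with nonzero stalks on a scheme, the counit of the adjunction
`(- ⊗ A) ⊣ (- ⊗ A^∨)` is an epimorphism.
APPEND-ONLY once landed.
-/

set_option autoImplicit false
set_option linter.style.haveILetI false
set_option maxHeartbeats 1600000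
universe u

namespace Groth.Agent.Lib.ResDescH8

open AlgebraicGeometry CategoryTheory CategoryTheory.Limits TopologicalSpace Opposite TensorProduct
open ModSite Groth.Agent.Lib.ModSiteH8 Groth.Agent.Lib.DualLFH4 Groth.Agent.Lib.CxAdjH3
  Groth.Agent.Lib.DualModH3

attribute [local instance] Groth.Agent.Lib.ModSiteH8.hasSheafHom

noncomputable section

variable {Y : Scheme.{u}} (A : Y.Modules) (hA : FlatMod.IsFinLocFree A)

/-- the dual of a finite locally free module is finite locally free (as in helper3's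
`DualSch1`, reproved here to keep the imports light) -/
theorem isFinLocFree_dual (F : Y.Modules) (hF : FlatMod.IsFinLocFree F) :
    FlatMod.IsFinLocFree (dual Y.sheaf F) := by
  obtain ⟨D, hD, ⟨e⟩⟩ := Groth.Agent.Lib.HomShAdjH2.exists_dual (E := F) hF
  have i : dual Y.sheaf F ≅ D :=
    e.app (ModSite.unit Y.sheaf) ≪≫ (unitorObj Y.sheaf).app D
  exact FLFH8.IsFinLocFree.of_iso i.symm hD

theorem isIso_kappa_of_isFinLocFree (F : Y.Modules) (hF : FlatMod.IsFinLocFree F) :
    IsIso (kappa Y.sheaf F) := by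
  haveI : ∀ G, IsIso ((kappa Y.sheaf F).app G) := fun G => isIso_kappa F hF G
  exact NatIso.isIso_of_isIso_app _

/-- the dual of `A` -/
abbrev dualA : Y.Modules := dual Y.sheaf A

/-- the adjunction `(- ⊗ A) ⊣ (- ⊗ A^∨)` -/
def adjA : Fl Y.sheaf A ⊣ Fl Y.sheaf (dual Y.sheaf A) :=
  haveI := isIso_kappa_of_isFinLocFree A hA
  dualAdj Y.sheaf A

theorem Fl_obj (P N : Y.Modules) : (Fl Y.sheaf P).obj N = CohB1.tensorMod N P := rfl

include hA in
theorem nontrivial_stalk_dual (hnz : ∀ y : Y, Nontrivial (A.presheaf.stalk y)) (y : Y) :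
    Nontrivial ((dualA A).presheaf.stalk y) := by
  by_contra hcon
  haveI hs : Subsingleton ((dualA A).presheaf.stalk y) := not_nontrivial_iff_subsingleton.mp hcon
  haveI := hnz y
  haveI : A.IsQuasicoherent := FLFH8.isQuasicoherent_of_finLocFree A hA
  haveI : Module.Free (Y.presheaf.stalk y) (A.presheaf.stalk y) :=
    FLFH8.free_stalk_of_finLocFree A hA y
  let Q : Y.Modules := CohB1.tensorMod A A
  have htri := (adjA A hA).left_triangle_components A
  -- the middle object has zero stalk
  haveI h1 : Subsingleton ((CohB1.tensorMod Q (dualA A)).presheaf.stalk y) :=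
    subsingleton_stalk_tensor_of_right Q (dualA A) y
  haveI h2 : Subsingleton
      ((CohB1.tensorMod (CohB1.tensorMod Q (dualA A)) A).presheaf.stalk y) :=
    subsingleton_stalk_tensor_of_left _ A y
  have hQ : Subsingleton (Q.presheaf.stalk y) := by
    refine ⟨fun a b => ?_⟩
    have key : ∀ q : Q.presheaf.stalk y, q = 0 := by
      intro q
      have e : (DerSch.stalkFunctor Y y).map ((Fl Y.sheaf A).map ((adjA A hA).unit.app A)) ≫
          (DerSch.stalkFunctor Y y).map ((adjA A hA).counit.app ((Fl Y.sheaf A).obj A)) = 𝟙 _ := by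
        rw [← Functor.map_comp]
        exact (congrArg (fun φ => (DerSch.stalkFunctor Y y).map φ) htri).trans
          (CategoryTheory.Functor.map_id _ _)
      have e' : ((DerSch.stalkFunctor Y y).map ((adjA A hA).counit.app ((Fl Y.sheaf A).obj A))).hom
          (((DerSch.stalkFunctor Y y).map ((Fl Y.sheaf A).map ((adjA A hA).unit.app A))).hom q) = q := by
        have := congrArg (fun ψ => ψ.hom q) e
        exact this
      have z : ((DerSch.stalkFunctor Y y).map ((Fl Y.sheaf A).map ((adjA A hA).unit.app A))).hom q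
          = 0 := @Subsingleton.elim _ h2 _ _
      rw [z, map_zero] at e'
      exact e'.symm
    rw [key a, key b]
  haveI : Subsingleton ((A.presheaf.stalk y) ⊗[Y.presheaf.stalk y] (A.presheaf.stalk y)) :=
    (stalkTensorEquiv A A y).symm.subsingleton
  have : Subsingleton (A.presheaf.stalk y) :=
    (Module.FaithfullyFlat.subsingleton_tensorProduct_iff_left (Y.presheaf.stalk y)
      (A.presheaf.stalk y) (N := A.presheaf.stalk y)).mp inferInstance
  exact not_nontrivial_iff_subsingleton.mpr this (hnz y)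

include hA in
/-- **The evaluation `(N ⊗ A^∨) ⊗ A ⟶ N` is an epimorphism** for `A` finite locally free with
nonzero stalks. -/
theorem epi_counit (hnz : ∀ y : Y, Nontrivial (A.presheaf.stalk y)) (N : Y.Modules) :
    Epi ((adjA A hA).counit.app N) := by
  have htri := (adjA A hA).right_triangle_components N
  haveI : Epi ((Fl Y.sheaf (dual Y.sheaf A)).map ((adjA A hA).counit.app N)) :=
    epi_of_epi_fac htri
  apply Preadditive.epi_of_cokernel_zero
  have h0 : (Fl Y.sheaf (dual Y.sheaf A)).map (cokernel.π ((adjA A hA).counit.app N)) = 0 := by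
    rw [← cancel_epi ((Fl Y.sheaf (dual Y.sheaf A)).map ((adjA A hA).counit.app N)),
      ← Functor.map_comp, cokernel.condition, comp_zero]
    exact (Fl Y.sheaf (dual Y.sheaf A)).map_zero _ _
  haveI : (Fl Y.sheaf (dual Y.sheaf A)).IsLeftAdjoint :=
    Groth.Agent.Lib.ModSiteH8.hasSheafHom Y.sheaf (dual Y.sheaf A)
  haveI : Epi ((Fl Y.sheaf (dual Y.sheaf A)).map (cokernel.π ((adjA A hA).counit.app N))) :=
    inferInstance
  have hz : IsZero ((Fl Y.sheaf (dual Y.sheaf A)).obj (cokernel ((adjA A hA).counit.app N))) :=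
    IsZero.of_epi_eq_zero _ h0
  have hC : IsZero (cokernel ((adjA A hA).counit.app N)) :=
    isZero_of_isZero_tensor _ (dualA A) (isFinLocFree_dual A hA)
      (nontrivial_stalk_dual A hA hnz) hz
  exact hC.eq_of_tgt _ _

end

section PushO

variable {X Y : Scheme.{u}} (f : X ⟶ Y)

/-- the stalks of `f_* O_X` are nonzero for `f` surjective -/
theorem nontrivial_stalk_pushO [Surjective f] (y : Y) :
    Nontrivial ((FLFH8.pushO f).presheaf.stalk y) := by
  obtain ⟨x, rfl⟩ := f.surjective y
  by_contra hcon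
  haveI := not_nontrivial_iff_subsingleton.mp hcon
  let s : Γ(FLFH8.pushO f, ⊤) := (1 : Γ(X, f ⁻¹ᵁ ⊤))
  have h : (FLFH8.pushO f).presheaf.germ ⊤ (f x) trivial s =
      (FLFH8.pushO f).presheaf.germ ⊤ (f x) trivial 0 := Subsingleton.elim _ _
  obtain ⟨W, hW, iU, iV, hres⟩ := TopCat.Presheaf.germ_eq _ _ _ _ _ _ h
  have e1 : (FLFH8.pushO f).presheaf.map iU.op s = (1 : Γ(X, f ⁻¹ᵁ W)) :=
    (X.presheaf.map (homOfLE (show f ⁻¹ᵁ W ≤ f ⁻¹ᵁ ⊤ from fun _ _ => trivial)).op).hom.map_one
  have e2 : (FLFH8.pushO f).presheaf.map iV.op 0 = (0 : Γ(X, f ⁻¹ᵁ W)) := map_zero _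
  have h1 : (1 : Γ(X, f ⁻¹ᵁ W)) = 0 := by
    rw [← e1, ← e2]
    exact hres
  have hx : x ∈ f ⁻¹ᵁ W := hW
  have h2 := congrArg (X.presheaf.germ (f ⁻¹ᵁ W) x hx).hom h1
  rw [map_one, map_zero] at h2
  exact one_ne_zero h2

end PushO

end Groth.Agent.Lib.ResDescH8
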