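import Mathlib

set_option autoImplicit false
set_option maxHeartbeats 1000000

universe u

open PowerSeries

namespace Groth.Agent.Lib.ResDetH1

variable {R : Type u} [CommRing R]

lemma coeff_succ_mul_lin (p : PowerSeries R) (a : R) (n : ℕ) :
    coeff (n + 1) (p * (1 + C a * X)) = coeff (n + 1) p + a * coeff n p := by
  have e : p * (1 + C a * X) = p + C a * (p * X) := by ring
  rw [e, map_add, coeff_C_mul, coeff_succ_mul_X]

lemma coeff_zero_mul_lin (p : PowerSeries R) (a : R) :
    coeff 0 (p * (1 + C a * X)) = coeff 0 p := by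
  have e : p * (1 + C a * X) = p + C a * (p * X) := by ring
  rw [e, map_add, coeff_C_mul, coeff_zero_mul_X, mul_zero, add_zero]

/-- geometric series inverse of `1 + a t`. -/
noncomputable def G (a : R) : PowerSeries R := PowerSeries.mk (fun m => (-a) ^ m)

lemma G_mul (a : R) : G a * (1 + C a * X) = 1 := by
  ext n
  cases n with
  | zero =>
    rw [coeff_zero_mul_lin, coeff_one, if_pos rfl, G, coeff_mk, pow_zero]
  | succ n =>
    rw [coeff_succ_mul_lin, coeff_one, if_neg (Nat.succ_ne_zero n), G, coeff_mk, coeff_mk]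
    ring

variable {d : ℕ} (α : Fin d → R)

/-- the inverse of `∏_{l ≤ i} (1 + α_l t)`. -/
noncomputable def A (i : Fin d) : PowerSeries R :=
  ∏ l : Fin d, if l ≤ i then PowerSeries.mk (fun m => (-α l) ^ m) else 1

lemma A_succ (i i' : Fin d) (h : (i : ℕ) = (i' : ℕ) + 1) : A α i = A α i' * G (α i) := by
  unfold A
  have key : ∀ l : Fin d, (if l ≤ i then PowerSeries.mk (fun m => (-α l) ^ m) else (1 : PowerSeries R))
      = (if l ≤ i' then PowerSeries.mk (fun m => (-α l) ^ m) else 1) *
        (if l = i then G (α l) else 1) := by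
    intro l
    by_cases h1 : l ≤ i'
    · have h2 : l ≤ i := by rw [Fin.le_def] at h1 ⊢; omega
      have h3 : l ≠ i := by
        intro h3; rw [Fin.le_def] at h1; rw [h3] at h1; omega
      rw [if_pos h1, if_pos h2, if_neg h3, mul_one]
    · by_cases h2 : l = i
      · subst h2
        rw [if_pos le_rfl, if_neg h1, if_pos rfl, one_mul]; rfl
      · have h3 : ¬ l ≤ i := by
          intro h3
          rw [Fin.le_def] at h1 h3
          apply h2
          apply Fin.ext
          omega
        rw [if_neg h1, if_neg h3, if_neg h2, mul_one]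
  rw [Finset.prod_congr rfl (fun l _ => key l), Finset.prod_mul_distrib,
    Finset.prod_ite_eq' Finset.univ i (fun l => G (α l)), if_pos (Finset.mem_univ _)]

lemma A_zero (i : Fin d) (h : (i : ℕ) = 0) : A α i = G (α i) := by
  unfold A
  have key : ∀ l : Fin d, (if l ≤ i then PowerSeries.mk (fun m => (-α l) ^ m) else (1 : PowerSeries R))
      = (if l = i then G (α l) else 1) := by
    intro l
    by_cases h2 : l = i
    · subst h2
      rw [if_pos le_rfl, if_pos rfl]; rfl
    · have h3 : ¬ l ≤ i := by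
        intro h3
        rw [Fin.le_def] at h3
        apply h2
        apply Fin.ext
        omega
      rw [if_neg h3, if_neg h2]
  rw [Finset.prod_congr rfl (fun l _ => key l),
    Finset.prod_ite_eq' Finset.univ i (fun l => G (α l)), if_pos (Finset.mem_univ _)]

lemma A_mul_succ (i i' : Fin d) (h : (i : ℕ) = (i' : ℕ) + 1) :
    A α i' = A α i * (1 + C (α i) * X) := by
  rw [A_succ α i i' h, mul_assoc, G_mul, mul_one]

lemma A_mul_zero (i : Fin d) (h : (i : ℕ) = 0) : A α i * (1 + C (α i) * X) = 1 := by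
  rw [A_zero α i h, G_mul]

lemma coeff_zero_A (i : Fin d) : coeff 0 (A α i) = 1 := by
  unfold A
  rw [coeff_zero_eq_constantCoeff_apply, map_prod]
  refine Finset.prod_eq_one fun l _ => ?_
  split_ifs
  · rw [← coeff_zero_eq_constantCoeff_apply, coeff_mk, pow_zero]
  · exact map_one _

/-- the matrix of the statement, for a general numerator `b`. -/
noncomputable def Mat (b : PowerSeries R) (e : ℕ) : Matrix (Fin d) (Fin d) R :=
  Matrix.of fun i j : Fin d =>
    if (i : ℕ) ≤ e + (j : ℕ) then coeff (e + (j : ℕ) - (i : ℕ)) (b * A α i) else 0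

lemma Mat_apply (b : PowerSeries R) (e : ℕ) (i j : Fin d) :
    Mat α b e i j =
      if (i : ℕ) ≤ e + (j : ℕ) then coeff (e + (j : ℕ) - (i : ℕ)) (b * A α i) else 0 := rfl

/-- lower bidiagonal matrix. -/
def LL (β' : R) : Matrix (Fin d) (Fin d) R :=
  Matrix.of fun i k : Fin d =>
    if i = k then β' - α i else if (i : ℕ) = (k : ℕ) + 1 then 1 else 0

lemma LL_apply (β' : R) (i k : Fin d) :
    LL α β' i k = if i = k then β' - α i else if (i : ℕ) = (k : ℕ) + 1 then 1 else 0 := rfl

lemma det_LL (β' : R) : (LL α β').det = ∏ i, (β' - α i) := by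
  rw [Matrix.det_of_isLowerTriangular]
  · refine Finset.prod_congr rfl fun i _ => ?_
    rw [LL_apply, if_pos rfl]
  · intro i j hij
    have hij' : i < j := hij
    rw [LL_apply, if_neg (ne_of_lt hij'), if_neg]
    rw [Fin.lt_def] at hij'
    omega

lemma det_Mat_one : (Mat α (1 : PowerSeries R) 0).det = 1 := by
  rw [Matrix.det_of_isUpperTriangular]
  · refine Finset.prod_eq_one fun i _ => ?_
    rw [Mat_apply, if_pos (by omega)]
    have : 0 + (i : ℕ) - (i : ℕ) = 0 := by omega
    rw [this, one_mul, coeff_zero_A]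
  · intro i j hij
    have hij' : j < i := hij
    rw [Fin.lt_def] at hij'
    rw [Mat_apply, if_neg (by omega)]

lemma LL_mul_apply_zero (β' : R) (M : Matrix (Fin d) (Fin d) R) (i j : Fin d)
    (hi : (i : ℕ) = 0) : (LL α β' * M) i j = (β' - α i) * M i j := by
  rw [Matrix.mul_apply, Finset.sum_eq_single i]
  · rw [LL_apply, if_pos rfl]
  · intro k _ hk
    rw [LL_apply, if_neg (Ne.symm hk), if_neg (by omega), zero_mul]
  · intro h; exact absurd (Finset.mem_univ _) h

lemma LL_mul_apply_succ (β' : R) (M : Matrix (Fin d) (Fin d) R) (i i' j : Fin d)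
    (hi : (i : ℕ) = (i' : ℕ) + 1) : (LL α β' * M) i j = (β' - α i) * M i j + M i' j := by
  have hne : i ≠ i' := by
    intro h; rw [h] at hi; omega
  rw [Matrix.mul_apply, ← Finset.add_sum_erase _ _ (Finset.mem_univ i),
    ← Finset.add_sum_erase _ _ (Finset.mem_erase.mpr ⟨hne.symm, Finset.mem_univ i'⟩),
    Finset.sum_eq_zero, add_zero]
  · rw [LL_apply, if_pos rfl, LL_apply, if_neg hne, if_pos hi, one_mul]
  · intro k hk
    rw [Finset.mem_erase, Finset.mem_erase] at hk
    have h1 : k ≠ i' := hk.1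
    have h2 : k ≠ i := hk.2.1
    rw [LL_apply, if_neg (Ne.symm h2), if_neg, zero_mul]
    intro h
    apply h1
    apply Fin.ext
    omega

lemma step (b : PowerSeries R) (e : ℕ) (hb : ∀ n, e < n → coeff n b = 0) (β' : R) :
    Mat α (b * (1 + C β' * X)) (e + 1) = LL α β' * Mat α b e := by
  ext i j
  have hcomm : b * (1 + C β' * X) * A α i = (b * A α i) * (1 + C β' * X) := by ring
  rcases Nat.eq_zero_or_pos (i : ℕ) with hi | hi
  · rw [LL_mul_apply_zero α β' _ i j hi, Mat_apply, Mat_apply, if_pos (by omega),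
      if_pos (by omega), hcomm]
    have h1 : e + 1 + (j : ℕ) - (i : ℕ) = (e + (j : ℕ)) + 1 := by omega
    have h2 : e + (j : ℕ) - (i : ℕ) = e + (j : ℕ) := by omega
    rw [h1, h2, coeff_succ_mul_lin]
    have hz : coeff (e + (j : ℕ) + 1) ((b * A α i) * (1 + C (α i) * X)) = 0 := by
      rw [mul_assoc, A_mul_zero α i hi, mul_one]
      exact hb _ (by omega)
    rw [coeff_succ_mul_lin] at hz
    linear_combination hz
  · obtain ⟨i', hi'⟩ : ∃ i' : Fin d, (i : ℕ) = (i' : ℕ) + 1 :=
      ⟨⟨(i : ℕ) - 1, by omega⟩, by simp only []; omega⟩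
    rw [LL_mul_apply_succ α β' _ i i' j hi', Mat_apply, Mat_apply, Mat_apply, hcomm]
    have hA : b * A α i' = (b * A α i) * (1 + C (α i) * X) := by
      rw [A_mul_succ α i i' hi', mul_assoc]
    rw [hA]
    by_cases hc1 : (i : ℕ) ≤ e + (j : ℕ)
    · obtain ⟨n, hn⟩ : ∃ n, e + (j : ℕ) = (i : ℕ) + n := Nat.exists_eq_add_of_le hc1
      have h1 : e + 1 + (j : ℕ) - (i : ℕ) = n + 1 := by omega
      have h2 : e + (j : ℕ) - (i : ℕ) = n := by omega
      have h3 : e + (j : ℕ) - (i' : ℕ) = n + 1 := by omega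
      rw [if_pos (by omega), if_pos hc1, if_pos (by omega), h1, h2, h3, coeff_succ_mul_lin,
        coeff_succ_mul_lin]
      ring
    · by_cases hc2 : (i : ℕ) = e + (j : ℕ) + 1
      · have h1 : e + 1 + (j : ℕ) - (i : ℕ) = 0 := by omega
        have h3 : e + (j : ℕ) - (i' : ℕ) = 0 := by omega
        rw [if_pos (by omega), if_neg hc1, if_pos (by omega), h1, h3, coeff_zero_mul_lin,
          coeff_zero_mul_lin]
        ring
      · rw [if_neg (by omega), if_neg hc1, if_neg (by omega)]
        ring

lemma coeff_prod_lin (e : ℕ) (β : Fin e → R) (n : ℕ) (hn : e < n) :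
    coeff n (∏ j : Fin e, (1 + C (β j) * X) : PowerSeries R) = 0 := by
  induction e generalizing n with
  | zero =>
    rw [Finset.univ_eq_empty, Finset.prod_empty, coeff_one, if_neg (by omega)]
  | succ e ih =>
    rw [Fin.prod_univ_castSucc]
    obtain ⟨n, rfl⟩ : ∃ n', n = n' + 1 := ⟨n - 1, by omega⟩
    rw [coeff_succ_mul_lin, ih (fun j => β (Fin.castSucc j)) (n + 1) (by omega),
      ih (fun j => β (Fin.castSucc j)) n (by omega), mul_zero, add_zero]

theorem det_Mat (e : ℕ) (β : Fin e → R) :
    (Mat α (∏ j : Fin e, (1 + C (β j) * X)) e).det = ∏ i : Fin d, ∏ j : Fin e, (β j - α i) := by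
  induction e with
  | zero =>
    rw [Finset.univ_eq_empty, Finset.prod_empty, det_Mat_one]
    simp
  | succ e ih =>
    rw [Fin.prod_univ_castSucc,
      step α _ e (fun n hn => coeff_prod_lin e (fun j => β (Fin.castSucc j)) n hn),
      Matrix.det_mul, det_LL, ih (fun j => β (Fin.castSucc j))]
    simp only [Fin.prod_univ_castSucc]
    rw [Finset.prod_mul_distrib, mul_comm]

theorem main14505 (R : Type u) [CommRing R] (d e : ℕ)
    (α : Fin d → R) (β : Fin e → R) :
    ∏ i : Fin d, ∏ j : Fin e, (β j - α i) =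
      (Matrix.of fun i j : Fin d =>
        if (i : ℕ) ≤ e + (j : ℕ) then
          PowerSeries.coeff (e + (j : ℕ) - (i : ℕ))
            ((∏ j : Fin e, (1 + PowerSeries.C (β j) * PowerSeries.X)) *
              ∏ l : Fin d, if l ≤ i then PowerSeries.mk (fun m => (-α l) ^ m) else 1)
        else 0).det := by
  rw [← det_Mat α e β]
  rfl

end Groth.Agent.Lib.ResDetH1
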