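import Mathlib
import Groth.Prelude.Def_EtRam

set_option autoImplicit false
universe u

namespace ResExtH8

open IsLocalRing Polynomial

section Basic

variable {A : Type u} [CommRing A] [IsDomain A] [IsDiscreteValuationRing A]
  {K : Type u} [Field K] [Algebra A K] [IsFractionRing A K]
  {Ω : Type u} [Field Ω] [Algebra K Ω] [Algebra A Ω] [IsScalarTower A K Ω]
  (W : ValuationSubring Ω)

/-- polynomial values stay in a valuation subring -/
theorem aeval_mem (hW : ∀ a : A, algebraMap A Ω a ∈ W) (p : A[X]) {x : Ω} (hx : x ∈ W) :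
    aeval x p ∈ W := by
  induction p using Polynomial.induction_on' with
  | add p q hp hq => rw [map_add]; exact W.add_mem _ _ hp hq
  | monomial n a =>
    rw [aeval_monomial]
    exact W.mul_mem _ _ (hW a) (pow_mem hx n)

include K in
theorem algebraMap_injective : Function.Injective (algebraMap A Ω) := by
  rw [IsScalarTower.algebraMap_eq A K Ω]
  exact (algebraMap K Ω).injective.comp (IsFractionRing.injective A K)

theorem val_unit (hW : EtRam.Dominates A (algebraMap A Ω) W) {u : A} (hu : IsUnit u) :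
    W.valuation (algebraMap A Ω u) = 1 := by
  obtain ⟨u, rfl⟩ := hu
  have h1 : W.valuation (algebraMap A Ω (u : A)) ≤ 1 := (W.valuation_le_one_iff _).mpr (hW.1 _)
  have h2 : W.valuation (algebraMap A Ω ((u⁻¹ : Aˣ) : A)) ≤ 1 :=
    (W.valuation_le_one_iff _).mpr (hW.1 _)
  have h3 : W.valuation (algebraMap A Ω (u : A)) * W.valuation (algebraMap A Ω ((u⁻¹ : Aˣ) : A))
      = 1 := by
    rw [← map_mul, ← map_mul, Units.mul_inv, map_one, map_one]
  apply le_antisymm h1
  calc (1 : W.ValueGroup) = W.valuation (algebraMap A Ω (u : A)) *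
        W.valuation (algebraMap A Ω ((u⁻¹ : Aˣ) : A)) := h3.symm
    _ ≤ W.valuation (algebraMap A Ω (u : A)) * 1 := by gcongr
    _ = _ := mul_one _

theorem val_pi_lt_one (hW : EtRam.Dominates A (algebraMap A Ω) W) {π : A} (hπ : Irreducible π) :
    W.valuation (algebraMap A Ω π) < 1 :=
  hW.2 π ((mem_maximalIdeal _).mpr hπ.not_isUnit)

include K in
theorem val_pi_ne_zero {π : A} (hπ : Irreducible π) :
    W.valuation (algebraMap A Ω π) ≠ 0 := by
  rw [Ne, Valuation.zero_iff]
  intro h
  exact hπ.ne_zero (algebraMap_injective (K := K) (by rw [h, map_zero]))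

theorem val_eq_pow (hW : EtRam.Dominates A (algebraMap A Ω) W) {π : A} (hπ : Irreducible π)
    {a : A} (ha : a ≠ 0) :
    ∃ n : ℕ, W.valuation (algebraMap A Ω a) = W.valuation (algebraMap A Ω π) ^ n := by
  obtain ⟨n, u, rfl⟩ := IsDiscreteValuationRing.eq_unit_mul_pow_irreducible ha hπ
  refine ⟨n, ?_⟩
  rw [map_mul, map_mul, map_pow, map_pow, val_unit W hW u.isUnit, one_mul]

/-- a nonzero algebraic element of `W` has valuation bounded below by a power of the uniformizer -/
theorem exists_pow_le [Algebra.IsAlgebraic K Ω] (hW : EtRam.Dominates A (algebraMap A Ω) W)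
    {π : A} (hπ : Irreducible π) (x : Ω) (hx : x ∈ W) (hx0 : x ≠ 0) :
    ∃ m : ℕ, W.valuation (algebraMap A Ω π) ^ m ≤ W.valuation x := by
  have hint : IsIntegral K x := Algebra.IsIntegral.isIntegral x
  have hm0 : (minpoly K x).coeff 0 ≠ 0 := minpoly.coeff_zero_ne_zero hint hx0
  obtain ⟨q, hq⟩ : ∃ q : A[X], q = IsLocalization.integerNormalization (nonZeroDivisors A)
    (minpoly K x) := ⟨_, rfl⟩
  obtain ⟨b, hb, hqb⟩ := IsLocalization.integerNormalization_spec (nonZeroDivisors A) (minpoly K x)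
  rw [← hq] at hqb
  have hq0 : q.coeff 0 ≠ 0 := by
    intro h0
    have h1 := congrArg (fun r => Polynomial.coeff r 0) hqb
    simp only [coeff_map, coeff_smul, h0, map_zero] at h1
    rw [Algebra.smul_def] at h1
    have hb0 : algebraMap A K b ≠ 0 := by
      rw [Ne, map_eq_zero_iff _ (IsFractionRing.injective A K)]
      exact nonZeroDivisors.ne_zero hb
    exact (mul_ne_zero hb0 hm0) h1.symm
  have hqx : aeval x q = 0 := by
    rw [hq]
    exact IsLocalization.integerNormalization_aeval_eq_zero _ _ (minpoly.aeval K x)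
  have hdec : aeval x (divX q) * x + algebraMap A Ω (q.coeff 0) = 0 := by
    have h1 : aeval x (divX q * X + C (q.coeff 0)) = 0 := by rw [divX_mul_X_add]; exact hqx
    rwa [map_add, map_mul, aeval_X, aeval_C] at h1
  have hle : W.valuation (algebraMap A Ω (q.coeff 0)) ≤ W.valuation x := by
    have h2 : algebraMap A Ω (q.coeff 0) = -(aeval x (divX q)) * x := by
      linear_combination hdec
    rw [h2, map_mul, Valuation.map_neg]
    have h3 : W.valuation (aeval x (divX q)) ≤ 1 :=
      (W.valuation_le_one_iff _).mpr (aeval_mem W hW.1 _ hx)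
    calc W.valuation (aeval x (divX q)) * W.valuation x ≤ 1 * W.valuation x := by gcongr
      _ = _ := one_mul _
  obtain ⟨n, hn⟩ := val_eq_pow W hW hπ hq0
  exact ⟨n, hn ▸ hle⟩

end Basic

section Zpow

variable {A : Type u} [CommRing A] [IsDomain A] [IsDiscreteValuationRing A]
  {K : Type u} [Field K] [Algebra A K] [IsFractionRing A K]
  {Ω : Type u} [Field Ω] [Algebra K Ω] [Algebra A Ω] [IsScalarTower A K Ω]
  [Algebra.IsAlgebraic K Ω]
  (W : ValuationSubring Ω)

/-- in an intermediate field over which `ϖ` generates the maximal ideal of `W ∩ L`,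
elements of `W ∩ L` have valuation a power of `v ϖ`. -/
theorem exists_pow_eq (hW : EtRam.Dominates A (algebraMap A Ω) W)
    {π : A} (hπ : Irreducible π) (L : IntermediateField K Ω)
    (hP2 : ∀ x ∈ L, W.valuation x < 1 → x / algebraMap A Ω π ∈ W)
    (x : Ω) (hxL : x ∈ L) (hxW : x ∈ W) (hx0 : x ≠ 0) :
    ∃ n : ℕ, W.valuation x = W.valuation (algebraMap A Ω π) ^ n := by
  have hϖL : algebraMap A Ω π ∈ L := by
    rw [IsScalarTower.algebraMap_apply A K Ω]
    exact L.algebraMap_mem _
  have hϖ0 : algebraMap A Ω π ≠ 0 := fun h =>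
    hπ.ne_zero (algebraMap_injective (K := K) (by rw [h, map_zero]))
  have hv0 : W.valuation (algebraMap A Ω π) ≠ 0 := val_pi_ne_zero (K := K) W hπ
  obtain ⟨m, hm⟩ := exists_pow_le (K := K) W hW hπ x hxW hx0
  induction m generalizing x with
  | zero =>
    refine ⟨0, ?_⟩
    rw [pow_zero] at hm ⊢
    exact le_antisymm ((W.valuation_le_one_iff _).mpr hxW) hm
  | succ m ih =>
    by_cases h1 : W.valuation x = 1
    · exact ⟨0, by rw [pow_zero, h1]⟩
    · have hlt : W.valuation x < 1 :=
        lt_of_le_of_ne ((W.valuation_le_one_iff _).mpr hxW) h1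
      have hyW := hP2 x hxL hlt
      have hyL : x / algebraMap A Ω π ∈ L := L.div_mem hxL hϖL
      have hy0 : x / algebraMap A Ω π ≠ 0 := div_ne_zero hx0 hϖ0
      have hym : W.valuation (algebraMap A Ω π) ^ m ≤ W.valuation (x / algebraMap A Ω π) := by
        rw [map_div₀, le_div_iff₀ (zero_lt_iff.mpr hv0), ← pow_succ]
        exact hm
      obtain ⟨n, hn⟩ := ih (x / algebraMap A Ω π) hyL hyW hy0 hym
      refine ⟨n + 1, ?_⟩
      rw [map_div₀, div_eq_iff hv0] at hn
      rw [hn, pow_succ]

theorem exists_zpow_eq (hW : EtRam.Dominates A (algebraMap A Ω) W)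
    {π : A} (hπ : Irreducible π) (L : IntermediateField K Ω)
    (hP2 : ∀ x ∈ L, W.valuation x < 1 → x / algebraMap A Ω π ∈ W)
    (x : Ω) (hxL : x ∈ L) (hx0 : x ≠ 0) :
    ∃ n : ℤ, W.valuation x = W.valuation (algebraMap A Ω π) ^ n := by
  rcases W.mem_or_inv_mem x with hx | hx
  · obtain ⟨n, hn⟩ := exists_pow_eq W hW hπ L hP2 x hxL hx hx0
    exact ⟨n, by rw [zpow_natCast, hn]⟩
  · obtain ⟨n, hn⟩ := exists_pow_eq W hW hπ L hP2 x⁻¹ (L.inv_mem hxL) hx (inv_ne_zero hx0)
    refine ⟨-n, ?_⟩
    rw [map_inv₀] at hn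
    rw [zpow_neg, zpow_natCast, ← hn, inv_inv]

end Zpow

end ResExtH8
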