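import Mathlib
import Groth.Prelude.Def_EtRam
import Groth.Agent.Lib.ResExt1_helper8

set_option autoImplicit false
universe u

namespace ResExtH8

open IsLocalRing Polynomial

section KeyVal

variable {A : Type u} [CommRing A] [IsDomain A] [IsDiscreteValuationRing A]
  {K : Type u} [Field K] [Algebra A K] [IsFractionRing A K]
  {Ω : Type u} [Field Ω] [Algebra K Ω] [Algebra A Ω] [IsScalarTower A K Ω]
  [Algebra.IsAlgebraic K Ω]
  (W : ValuationSubring Ω)

/-- Key valuation computation: if `1, α, …, α^(d-1)` are "residually independent" over `L`, then every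
nonzero `L`-combination of them is a power of the uniformizer times a combination with coefficients
in `W ∩ L` which is a unit of `W`. -/
theorem key_val (hW : EtRam.Dominates A (algebraMap A Ω) W)
    {π : A} (hπ : Irreducible π) (L : IntermediateField K Ω)
    (hP2 : ∀ x ∈ L, W.valuation x < 1 → x / algebraMap A Ω π ∈ W)
    (d : ℕ) (α : Ω) (hα : α ∈ W)
    (hLI : ∀ c : Fin d → Ω, (∀ i, c i ∈ L) → (∀ i, c i ∈ W) →
      W.valuation (∑ i, c i * α ^ (i : ℕ)) < 1 → ∀ i, W.valuation (c i) < 1)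
    (c : Fin d → Ω) (hcL : ∀ i, c i ∈ L) (hy0 : ∑ i, c i * α ^ (i : ℕ) ≠ 0) :
    ∃ (n : ℤ) (c' : Fin d → Ω), (∀ i, c' i ∈ L) ∧ (∀ i, c' i ∈ W) ∧
      (∑ i, c i * α ^ (i : ℕ)) = (algebraMap A Ω π) ^ n * ∑ i, c' i * α ^ (i : ℕ) ∧
      W.valuation (∑ i, c' i * α ^ (i : ℕ)) = 1 := by
  classical
  have hϖL : algebraMap A Ω π ∈ L := by
    rw [IsScalarTower.algebraMap_apply A K Ω]
    exact L.algebraMap_mem _
  have hϖ0 : algebraMap A Ω π ≠ 0 := fun h =>
    hπ.ne_zero (algebraMap_injective (K := K) (by rw [h, map_zero]))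
  have hv0 : W.valuation (algebraMap A Ω π) ≠ 0 := val_pi_ne_zero (K := K) W hπ
  have hvlt : W.valuation (algebraMap A Ω π) < 1 := val_pi_lt_one W hW hπ
  -- some coefficient is nonzero
  have hex : ∃ i, c i ≠ 0 := by
    by_contra hall
    push Not at hall
    exact hy0 (Finset.sum_eq_zero fun i _ => by rw [hall i, zero_mul])
  -- pick the coefficient of largest valuation
  obtain ⟨j, -, hj⟩ := Finset.exists_max_image Finset.univ (fun i => W.valuation (c i))
    (Finset.univ_nonempty_iff.mpr ⟨hex.choose⟩)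
  have hcj0 : c j ≠ 0 := by
    obtain ⟨i, hi⟩ := hex
    intro h0
    have := hj i (Finset.mem_univ i)
    rw [h0, map_zero, le_zero_iff, Valuation.zero_iff] at this
    exact hi this
  obtain ⟨n, hn⟩ := exists_zpow_eq W hW hπ L hP2 (c j) (hcL j) hcj0
  refine ⟨n, fun i => c i / (algebraMap A Ω π) ^ n, ?_, ?_, ?_, ?_⟩
  · intro i
    exact L.div_mem (hcL i) (zpow_mem hϖL n)
  · intro i
    rw [← W.valuation_le_one_iff, map_div₀, map_zpow₀, ← hn]
    exact div_le_one_of_le₀ (hj i (Finset.mem_univ i)) zero_le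
  · rw [Finset.mul_sum]
    refine Finset.sum_congr rfl fun i _ => ?_
    field_simp
  · have hW' : ∀ i, c i / (algebraMap A Ω π) ^ n ∈ W := by
      intro i
      rw [← W.valuation_le_one_iff, map_div₀, map_zpow₀, ← hn]
      exact div_le_one_of_le₀ (hj i (Finset.mem_univ i)) zero_le
    have hle : W.valuation (∑ i, c i / (algebraMap A Ω π) ^ n * α ^ (i : ℕ)) ≤ 1 := by
      rw [W.valuation_le_one_iff]
      exact sum_mem fun i _ => W.mul_mem _ _ (hW' i) (pow_mem hα _)
    by_contra hne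
    have hlt := lt_of_le_of_ne hle hne
    have := hLI _ (fun i => L.div_mem (hcL i) (zpow_mem hϖL n)) hW' hlt j
    rw [map_div₀, map_zpow₀, ← hn, div_self] at this
    · exact lt_irrefl _ this
    · rw [Ne, Valuation.zero_iff]
      exact hcj0

/-- the properties `P₁`, `P₂` for `L`-combinations of powers of `α` -/
theorem ext_P12 (hW : EtRam.Dominates A (algebraMap A Ω) W)
    {π : A} (hπ : Irreducible π) (L : IntermediateField K Ω)
    (hP2 : ∀ x ∈ L, W.valuation x < 1 → x / algebraMap A Ω π ∈ W)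
    (Rk : Subring (ResidueField W))
    (hP1 : ∀ x ∈ L, ∀ hx : x ∈ W, residue W ⟨x, hx⟩ ∈ Rk)
    (d : ℕ) (α : Ω) (hα : α ∈ W) (hαres : residue W ⟨α, hα⟩ ∈ Rk)
    (hLI : ∀ c : Fin d → Ω, (∀ i, c i ∈ L) → (∀ i, c i ∈ W) →
      W.valuation (∑ i, c i * α ^ (i : ℕ)) < 1 → ∀ i, W.valuation (c i) < 1)
    (c : Fin d → Ω) (hcL : ∀ i, c i ∈ L) :
    (∀ hy : (∑ i, c i * α ^ (i : ℕ)) ∈ W, residue W ⟨∑ i, c i * α ^ (i : ℕ), hy⟩ ∈ Rk) ∧
    (W.valuation (∑ i, c i * α ^ (i : ℕ)) < 1 → (∑ i, c i * α ^ (i : ℕ)) / algebraMap A Ω π ∈ W) := by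
  have hϖ0 : algebraMap A Ω π ≠ 0 := fun h =>
    hπ.ne_zero (algebraMap_injective (K := K) (by rw [h, map_zero]))
  have hv0 : W.valuation (algebraMap A Ω π) ≠ 0 := val_pi_ne_zero (K := K) W hπ
  have hvlt : W.valuation (algebraMap A Ω π) < 1 := val_pi_lt_one W hW hπ
  by_cases hy0 : ∑ i, c i * α ^ (i : ℕ) = 0
  · constructor
    · intro hy
      have : (⟨∑ i, c i * α ^ (i : ℕ), hy⟩ : W) = 0 := Subtype.ext hy0
      rw [this, map_zero]
      exact Rk.zero_mem
    · intro _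
      rw [hy0, zero_div]
      exact W.zero_mem
  obtain ⟨n, c', hc'L, hc'W, hyeq, hu⟩ := key_val W hW hπ L hP2 d α hα hLI c hcL hy0
  have hvy : W.valuation (∑ i, c i * α ^ (i : ℕ)) = W.valuation (algebraMap A Ω π) ^ n := by
    rw [hyeq, map_mul, hu, mul_one, map_zpow₀]
  -- sign analysis of `n`
  have hneg : n < 0 → 1 < W.valuation (algebraMap A Ω π) ^ n := by
    intro hn
    obtain ⟨m, hm⟩ : ∃ m : ℕ, n = -((m : ℤ) + 1) := ⟨(-n - 1).toNat, by omega⟩
    rw [hm, zpow_neg, one_lt_inv₀ (zero_lt_iff.mpr (zpow_ne_zero _ hv0))]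
    rw [show ((m : ℤ) + 1) = ((m + 1 : ℕ) : ℤ) by push_cast; rfl, zpow_natCast]
    exact pow_lt_one₀ zero_le hvlt (Nat.succ_ne_zero m)
  have hpos : 0 < n → W.valuation (algebraMap A Ω π) ^ n < 1 := by
    intro hn
    obtain ⟨m, hm⟩ : ∃ m : ℕ, n = ((m + 1 : ℕ) : ℤ) := ⟨(n - 1).toNat, by omega⟩
    rw [hm, zpow_natCast]
    exact pow_lt_one₀ zero_le hvlt (Nat.succ_ne_zero m)
  constructor
  · intro hy
    have hle : W.valuation (∑ i, c i * α ^ (i : ℕ)) ≤ 1 := (W.valuation_le_one_iff _).mpr hy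
    have hn0 : 0 ≤ n := by
      by_contra hn
      push Not at hn
      exact absurd (hvy ▸ hneg hn) (not_lt.mpr hle)
    rcases hn0.lt_or_eq with hn | hn
    · -- positive: residue is zero
      have hlt : W.valuation (∑ i, c i * α ^ (i : ℕ)) < 1 := hvy ▸ hpos hn
      have hm : (⟨∑ i, c i * α ^ (i : ℕ), hy⟩ : W) ∈ maximalIdeal W := by
        rw [ValuationSubring.valuation_lt_one_iff]
        exact hlt
      have : residue W ⟨∑ i, c i * α ^ (i : ℕ), hy⟩ = 0 := (residue_eq_zero_iff _).mpr hm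
      rw [this]
      exact Rk.zero_mem
    · -- zero: the residue is a combination of residues
      rw [← hn, zpow_zero, one_mul] at hyeq
      have hsum : (⟨∑ i, c i * α ^ (i : ℕ), hy⟩ : W) =
          ∑ i, (⟨c' i, hc'W i⟩ : W) * (⟨α, hα⟩ : W) ^ (i : ℕ) := by
        apply Subtype.ext
        show ∑ i, c i * α ^ (i : ℕ) = _
        rw [hyeq]
        simp
      rw [hsum, map_sum]
      refine Rk.sum_mem fun i _ => ?_
      rw [map_mul, map_pow]
      exact Rk.mul_mem (hP1 _ (hc'L i) _) (Rk.pow_mem hαres _)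
  · intro hlt
    have hn : 0 < n := by
      by_contra hn
      push Not at hn
      rcases hn.lt_or_eq with hn | hn
      · exact absurd (hvy ▸ hneg hn) (not_lt.mpr hlt.le)
      · rw [hvy, hn, zpow_zero] at hlt
        exact lt_irrefl _ hlt
    rw [← W.valuation_le_one_iff, map_div₀, hvy]
    obtain ⟨m, hm⟩ : ∃ m : ℕ, n = ((m + 1 : ℕ) : ℤ) := ⟨(n - 1).toNat, by omega⟩
    rw [hm, zpow_natCast, pow_succ, mul_div_assoc, div_self hv0, mul_one]
    exact pow_le_one₀ zero_le hvlt.le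

end KeyVal

end ResExtH8
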