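import Mathlib
import Groth.Prelude.Def_EtRam
import Groth.Agent.Lib.ResExt1_helper8

set_option autoImplicit false
universe u

namespace ResExtH8

open IsLocalRing Polynomial IntermediateField

section Repr

variable {K : Type u} [Field K] {Ω : Type u} [Field Ω] [Algebra K Ω]

/-- elements of `L(α)` are `L`-combinations of `1, α, …, α^(d-1)` -/
theorem exists_repr (L : IntermediateField K Ω) (fL : (↥L)[X]) (hf : fL.Monic) (d : ℕ)
    (hd : fL.natDegree = d) (hd0 : d ≠ 0) (α : Ω) (hα : aeval α fL = 0) (y : Ω)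
    (hy : y ∈ IntermediateField.adjoin (↥L) {α}) :
    ∃ c : Fin d → Ω, (∀ i, c i ∈ L) ∧ y = ∑ i, c i * α ^ (i : ℕ) := by
  have halg : IsAlgebraic (↥L) α := ⟨fL, hf.ne_zero, hα⟩
  have h1 : y ∈ (IntermediateField.adjoin (↥L) {α}).toSubalgebra := hy
  rw [IntermediateField.adjoin_simple_toSubalgebra_of_isAlgebraic halg,
    Algebra.adjoin_singleton_eq_range_aeval] at h1
  obtain ⟨g, rfl⟩ := h1
  have hne1 : fL ≠ 1 := by
    intro h
    rw [h, natDegree_one] at hd
    exact hd0 hd.symm
  have hdeg : (g %ₘ fL).natDegree < d := hd ▸ natDegree_modByMonic_lt g hf hne1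
  refine ⟨fun i => (((g %ₘ fL).coeff i : ↥L) : Ω), fun i => SetLike.coe_mem _, ?_⟩
  show aeval α g = _
  rw [← aeval_modByMonic_eq_self_of_root hα, aeval_eq_sum_range' hdeg, Finset.sum_range]
  refine Finset.sum_congr rfl fun i _ => ?_
  rw [Algebra.smul_def]
  rfl

end Repr

section LI

variable {K : Type u} [Field K] {Ω : Type u} [Field Ω] [Algebra K Ω]
  (W : ValuationSubring Ω) (L : IntermediateField K Ω)

/-- the residue field map `κ(W ∩ L) → κ(W)` -/
noncomputable def resMap :
    ResidueField (W.comap (algebraMap (↥L) Ω)) →+* ResidueField W :=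
  ResidueField.map (EtRam.inclOfComap W (algebraMap (↥L) Ω))

/-- the residue field of `W` as an algebra over the residue field of `W ∩ L` -/
noncomputable abbrev resAlg :
    Algebra (ResidueField (W.comap (algebraMap (↥L) Ω))) (ResidueField W) :=
  (resMap W L).toAlgebra

attribute [local instance] resAlg

theorem algebraMap_residue (x : W.comap (algebraMap (↥L) Ω)) :
    algebraMap (ResidueField (W.comap (algebraMap (↥L) Ω))) (ResidueField W) (residue _ x) =
      residue W (EtRam.inclOfComap W (algebraMap (↥L) Ω) x) := rfl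

/-- residual linear independence of powers of a lift of `ā` -/
theorem li_of_minpoly (ā : ResidueField W)
    (hint : IsIntegral (ResidueField (W.comap (algebraMap (↥L) Ω))) ā)
    (α : Ω) (hα : α ∈ W) (hres : residue W ⟨α, hα⟩ = ā) (d : ℕ)
    (hd : (minpoly (ResidueField (W.comap (algebraMap (↥L) Ω))) ā).natDegree = d)
    (c : Fin d → Ω)
    (hcL : ∀ i, c i ∈ L) (hcW : ∀ i, c i ∈ W)
    (hlt : W.valuation (∑ i, c i * α ^ (i : ℕ)) < 1) : ∀ i, W.valuation (c i) < 1 := by
  classical
  let c' : Fin d → W.comap (algebraMap (↥L) Ω) := fun i => ⟨⟨c i, hcL i⟩, hcW i⟩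
  have hc' : ∀ i, EtRam.inclOfComap W (algebraMap (↥L) Ω) (c' i) = ⟨c i, hcW i⟩ := fun i => rfl
  let h : (ResidueField (W.comap (algebraMap (↥L) Ω)))[X] :=
    Polynomial.ofFn d (fun i => residue _ (c' i))
  have hsumW : (∑ i, c i * α ^ (i : ℕ)) ∈ W :=
    sum_mem fun i _ => W.mul_mem _ _ (hcW i) (pow_mem hα _)
  have hev : aeval ā h = 0 := by
    show aeval ā (Polynomial.ofFn d (fun i => residue _ (c' i))) = 0
    rw [ofFn_eq_sum_monomial, map_sum]
    simp only [aeval_monomial, algebraMap_residue, hc']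
    rw [← hres]
    simp only [← map_pow, ← map_mul, ← map_sum]
    rw [residue_eq_zero_iff, ValuationSubring.valuation_lt_one_iff]
    convert hlt using 2
    simp
  have hzero : h = 0 := by
    by_contra hne
    have h1 := minpoly.degree_le_of_ne_zero _ ā hne hev
    have h2 : h.degree < d := ofFn_degree_lt _
    rw [degree_eq_natDegree (minpoly.ne_zero hint), hd] at h1
    exact absurd (lt_of_le_of_lt h1 h2) (lt_irrefl _)
  intro i
  have hci : residue _ (c' i) = 0 := by
    have := congrArg (fun q => Polynomial.coeff q i) hzero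
    simp only [coeff_zero] at this
    rw [← this]
    exact (ofFn_coeff_eq_val_of_lt (fun i => residue _ (c' i)) i.2).symm
  rw [residue_eq_zero_iff, mem_maximalIdeal, mem_nonunits_iff] at hci
  by_contra hnlt
  apply hci
  have h1 : W.valuation (c i) = 1 :=
    le_antisymm ((W.valuation_le_one_iff _).mpr (hcW i)) (not_lt.mp hnlt)
  have hci0 : c i ≠ 0 := by
    intro h0
    rw [h0, map_zero] at h1
    exact zero_ne_one h1
  have hinvW : (c i)⁻¹ ∈ W := by
    rw [← W.valuation_le_one_iff, map_inv₀, h1, inv_one]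
  refine ⟨⟨c' i, ⟨⟨(c i)⁻¹, L.inv_mem (hcL i)⟩, hinvW⟩, ?_, ?_⟩, rfl⟩
  · apply Subtype.ext
    apply Subtype.ext
    show c i * (c i)⁻¹ = 1
    exact mul_inv_cancel₀ hci0
  · apply Subtype.ext
    apply Subtype.ext
    show (c i)⁻¹ * c i = 1
    exact inv_mul_cancel₀ hci0

end LI

end ResExtH8
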