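import Mathlib

set_option autoImplicit false
universe u

namespace ResExtH8

open IsLocalRing Polynomial

/-- over a valuation subring of an algebraically closed field, a root of the reduction of a monic
polynomial lifts to a root -/
theorem exists_root_res {Ω : Type u} [Field Ω] [IsAlgClosed Ω] (W : ValuationSubring Ω)
    (f : W[X]) (hf : f.Monic) (ā : ResidueField W)
    (hā : eval ā (f.map (residue W)) = 0) :
    ∃ α : W, eval α f = 0 ∧ residue W α = ā := by
  obtain ⟨a₀, rfl⟩ := residue_surjective ā
  have hsp : (f.map W.subtype).Splits := IsAlgClosed.splits _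
  have hm : (f.map W.subtype).Monic := hf.map _
  have hev := hsp.eval_eq_prod_roots_of_monic hm (a₀ : Ω)
  -- the value `f(a₀)` lies in the maximal ideal
  have h1 : eval a₀ f ∈ maximalIdeal W := by
    rw [← residue_eq_zero_iff, ← hā, eval_map, eval₂_at_apply]
  have h2 : W.valuation ((eval a₀ f : W) : Ω) < 1 :=
    (ValuationSubring.valuation_lt_one_iff W _).mp h1
  have h3 : ((eval a₀ f : W) : Ω) = eval (a₀ : Ω) (f.map W.subtype) := by
    rw [eval_map]
    exact (eval₂_at_apply (p := f) W.subtype a₀).symm
  rw [h3, hev, map_multiset_prod, Multiset.map_map] at h2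
  -- all roots lie in `W`
  have hroots : ∀ β ∈ (f.map W.subtype).roots, β ∈ W := by
    intro β hβ
    have hint : IsIntegral W β := ⟨f, hf, by
      rw [← eval_map]
      exact (mem_roots hm.ne_zero).mp hβ⟩
    obtain ⟨b, hb⟩ := IsIntegrallyClosed.isIntegral_iff.mp hint
    rw [← hb]
    exact b.2
  -- some factor has valuation < 1
  have hex : ∃ β ∈ (f.map W.subtype).roots, W.valuation ((a₀ : Ω) - β) < 1 := by
    by_contra hall
    push Not at hall
    have : ((f.map W.subtype).roots.map ((W.valuation : Ω → W.ValueGroup) ∘ fun a => (a₀ : Ω) - a)).prod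
        = 1 := by
      apply Multiset.prod_eq_one
      intro x hx
      obtain ⟨β, hβ, rfl⟩ := Multiset.mem_map.mp hx
      refine le_antisymm ?_ (hall β hβ)
      rw [Function.comp_apply, W.valuation_le_one_iff]
      exact sub_mem a₀.2 (hroots β hβ)
    rw [this] at h2
    exact lt_irrefl _ h2
  obtain ⟨β, hβ, hβlt⟩ := hex
  refine ⟨⟨β, hroots β hβ⟩, ?_, ?_⟩
  · apply Subtype.ext
    have h4 : (((eval (⟨β, hroots β hβ⟩ : W) f : W)) : Ω) = eval β (f.map W.subtype) := by
      rw [eval_map]
      exact (eval₂_at_apply (p := f) W.subtype (⟨β, hroots β hβ⟩ : W)).symm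
    rw [h4]
    exact (mem_roots hm.ne_zero).mp hβ
  · have h5 : a₀ - ⟨β, hroots β hβ⟩ ∈ maximalIdeal W := by
      rw [ValuationSubring.valuation_lt_one_iff]
      exact hβlt
    rw [← residue_eq_zero_iff, map_sub, sub_eq_zero] at h5
    exact h5.symm

end ResExtH8
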