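import Mathlib

set_option autoImplicit false
universe u

namespace ResExtH8

open IsLocalRing Polynomial

/-- a root of a polynomial at which the derivative does not vanish is separable -/
theorem isSeparable_of_derivative_ne_zero {F Ω : Type u} [Field F] [Field Ω] [Algebra F Ω]
    (g : F[X]) (α : Ω) (hα : aeval α g = 0) (hd : aeval α (derivative g) ≠ 0) :
    IsSeparable F α := by
  have hg0 : g ≠ 0 := by
    rintro rfl
    simp at hd
  have halg : IsAlgebraic F α := ⟨g, hg0, hα⟩
  have hint : IsIntegral F α := halg.isIntegral
  obtain ⟨h, hh⟩ := minpoly.dvd F α hα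
  have h1 : aeval α (derivative (minpoly F α)) ≠ 0 := by
    intro h0
    apply hd
    rw [hh, derivative_mul, map_add, map_mul, map_mul, h0, minpoly.aeval, zero_mul, zero_mul,
      add_zero]
  have h2 : derivative (minpoly F α) ≠ 0 := by
    intro h0
    rw [h0, map_zero] at h1
    exact h1 rfl
  exact (separable_iff_derivative_ne_zero (minpoly.irreducible hint)).mpr h2

/-- in characteristic `p`, a monic polynomial over the residue field of a valuation subring lifts to a
monic polynomial of the same degree whose derivative is the constant `ϖ` when the derivative of the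
given polynomial vanishes. -/
theorem exists_sep_lift {F : Type u} [Field F] (V : ValuationSubring F) (ϖ : V)
    (hϖ : ϖ ∈ maximalIdeal V) (p : ℕ) [hp : Fact p.Prime] [CharP F p]
    (fb : (ResidueField V)[X]) (hmon : fb.Monic) (hd0 : fb.natDegree ≠ 0) :
    ∃ f : V[X], f.Monic ∧ f.map (residue V) = fb ∧ f.natDegree = fb.natDegree ∧
      (derivative fb = 0 → derivative f = C ϖ) := by
  by_cases hder : derivative fb = 0
  · -- `CharP` for `V` and its residue field
    have hpV : (p : V) = 0 := by
      apply Subtype.ext
      show ((p : V) : F) = 0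
      rw [show ((p : V) : F) = (p : F) by simp]
      exact CharP.cast_eq_zero F p
    haveI : CharP (ResidueField V) p := by
      rw [CharP.charP_iff_prime_eq_zero hp.out]
      rw [← map_natCast (residue V), hpV, map_zero]
    have hexp : expand (ResidueField V) p (contract p fb) = fb :=
      expand_contract p hder hp.out.ne_zero
    have hgmon : (contract p fb).Monic := by
      rw [← monic_expand_iff hp.out.pos, hexp]
      exact hmon
    obtain ⟨g, hg, hgdeg, hgm⟩ := lifts_and_natDegree_eq_and_monic
      ((mem_lifts _).mpr (map_surjective (residue V) residue_surjective _)) hgmon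
    have hgd0 : g.natDegree ≠ 0 := by
      intro h0
      apply hd0
      rw [← hexp, natDegree_expand, ← hgdeg, h0, zero_mul]
    have hdeglt : (C ϖ * X : V[X]).degree < (expand V p g).degree := by
      have h1 : (C ϖ * X : V[X]).degree ≤ 1 := by
        refine (degree_C_mul_X_le ϖ)
      have h2 : (expand V p g).degree = ((g.natDegree * p : ℕ) : WithBot ℕ) := by
        rw [degree_eq_natDegree ((monic_expand_iff hp.out.pos).mpr hgm).ne_zero, natDegree_expand]
      rw [h2]
      refine lt_of_le_of_lt h1 ?_
      have : 1 < g.natDegree * p := by
        have := hp.out.two_le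
        have h3 : 1 ≤ g.natDegree := Nat.one_le_iff_ne_zero.mpr hgd0
        nlinarith
      exact_mod_cast this
    refine ⟨expand V p g + C ϖ * X, ((monic_expand_iff hp.out.pos).mpr hgm).add_of_left hdeglt,
      ?_, ?_, fun _ => ?_⟩
    · rw [Polynomial.map_add, map_expand, hg, hexp, Polynomial.map_mul, map_C, map_X,
        (residue_eq_zero_iff ϖ).mpr hϖ, C_0, zero_mul, add_zero]
    · rw [natDegree_add_eq_left_of_degree_lt hdeglt, natDegree_expand, hgdeg, ← natDegree_expand,
        hexp]
    · rw [derivative_add, derivative_expand, derivative_C_mul, derivative_X, mul_one]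
      have : ((p : ℕ) : V[X]) = 0 := by
        rw [← C_eq_natCast, hpV, C_0]
      rw [this, zero_mul, mul_zero, zero_add]
  · obtain ⟨f, hf, hfdeg, hfm⟩ := lifts_and_natDegree_eq_and_monic
      ((mem_lifts _).mpr (map_surjective (residue V) residue_surjective _)) hmon
    exact ⟨f, hfm, hf, hfdeg, fun h => absurd h hder⟩

end ResExtH8
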