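import Mathlib
import Groth.Prelude.Def_EtRam
import Groth.Agent.Lib.ResExt1_helper8
import Groth.Agent.Lib.ResExt3_helper8
import Groth.Agent.Lib.ResExt4_helper8
import Groth.Agent.Lib.ResExt5_helper8

set_option autoImplicit false
universe u

namespace ResExtH8

open IsLocalRing Polynomial IntermediateField

section Alpha

variable {A : Type u} [CommRing A] [IsDomain A] [IsDiscreteValuationRing A]
  {K : Type u} [Field K] [Algebra A K] [IsFractionRing A K]
  {Ω : Type u} [Field Ω] [Algebra K Ω] [Algebra A Ω] [IsScalarTower A K Ω]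
  (W : ValuationSubring Ω) (L : IntermediateField K Ω)

attribute [local instance] resAlg

theorem coe_eval_map_incl (g : (W.comap (algebraMap (↥L) Ω))[X]) (α : W) :
    ((eval α (g.map (EtRam.inclOfComap W (algebraMap (↥L) Ω))) : W) : Ω) =
      aeval (α : Ω) (g.map (W.comap (algebraMap (↥L) Ω)).subtype) := by
  rw [aeval_def, eval₂_map, eval_map]
  exact (hom_eval₂ g (EtRam.inclOfComap W (algebraMap (↥L) Ω)) W.subtype α)

theorem residue_eval_map_incl (g : (W.comap (algebraMap (↥L) Ω))[X]) (α : W) :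
    residue W (eval α (g.map (EtRam.inclOfComap W (algebraMap (↥L) Ω)))) =
      aeval (residue W α) (g.map (residue (W.comap (algebraMap (↥L) Ω)))) := by
  rw [aeval_def, eval₂_map, eval_map]
  exact (hom_eval₂ g (EtRam.inclOfComap W (algebraMap (↥L) Ω)) (residue W) α)

set_option maxHeartbeats 1600000 in
/-- existence of a separable lift `α` of a residue class `ā` integral over the residue field of `W ∩ L` -/
theorem exists_alpha [IsAlgClosed Ω] [Algebra.IsAlgebraic K Ω]
    (hW : EtRam.Dominates A (algebraMap A Ω) W) {π : A} (hπ : Irreducible π)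
    (ā : ResidueField W)
    (hint : IsIntegral (ResidueField (W.comap (algebraMap (↥L) Ω))) ā) :
    ∃ (fL : (↥L)[X]) (α : Ω) (hα : α ∈ W), fL.Monic ∧
      fL.natDegree = (minpoly (ResidueField (W.comap (algebraMap (↥L) Ω))) ā).natDegree ∧
      aeval α fL = 0 ∧ residue W ⟨α, hα⟩ = ā ∧ IsSeparable (↥L) α := by
  classical
  obtain ⟨fb, hfb⟩ : ∃ fb, fb = minpoly (ResidueField (W.comap (algebraMap (↥L) Ω))) ā := ⟨_, rfl⟩
  have hmon : fb.Monic := hfb ▸ minpoly.monic hint
  have hd0 : fb.natDegree ≠ 0 := hfb ▸ (minpoly.natDegree_pos hint).ne'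
  have hfbroot : aeval ā fb = 0 := hfb ▸ minpoly.aeval _ _
  -- the uniformizer in `W ∩ L`
  have hϖL : algebraMap A Ω π ∈ L := by
    rw [IsScalarTower.algebraMap_apply A K Ω]
    exact L.algebraMap_mem _
  have hϖ0 : algebraMap A Ω π ≠ 0 := fun h =>
    hπ.ne_zero (algebraMap_injective (K := K) (by rw [h, map_zero]))
  obtain ⟨ϖV, hϖV⟩ : ∃ ϖV : W.comap (algebraMap (↥L) Ω), ((ϖV : ↥L) : Ω) = algebraMap A Ω π :=
    ⟨⟨⟨algebraMap A Ω π, hϖL⟩, hW.1 π⟩, rfl⟩
  have hϖm : ϖV ∈ maximalIdeal (W.comap (algebraMap (↥L) Ω)) := by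
    rw [mem_maximalIdeal, mem_nonunits_iff]
    intro hu
    have hu' := hu.map (EtRam.inclOfComap W (algebraMap (↥L) Ω))
    have h1 : W.valuation ((EtRam.inclOfComap W (algebraMap (↥L) Ω) ϖV : W) : Ω) = 1 :=
      (ValuationSubring.valuation_eq_one_iff W _).mp hu'
    have h2 : ((EtRam.inclOfComap W (algebraMap (↥L) Ω) ϖV : W) : Ω) = algebraMap A Ω π := hϖV
    rw [h2] at h1
    exact absurd h1 (val_pi_lt_one W hW hπ).ne
  -- the lift of the minimal polynomial
  have hf : ∃ f : (W.comap (algebraMap (↥L) Ω))[X], f.Monic ∧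
      f.map (residue (W.comap (algebraMap (↥L) Ω))) = fb ∧ f.natDegree = fb.natDegree ∧
      (∀ p : ℕ, p.Prime → CharP K p → derivative fb = 0 → derivative f = C ϖV) := by
    obtain ⟨p, hp⟩ := CharP.exists K
    rcases CharP.char_is_prime_or_zero K p with hpp | hp0
    · haveI := Fact.mk hpp
      haveI : CharP (↥L) p := charP_of_injective_algebraMap (algebraMap K (↥L)).injective p
      obtain ⟨f, h1, h2, h3, h4⟩ := exists_sep_lift (W.comap (algebraMap (↥L) Ω)) ϖV hϖm p fb hmon hd0
      exact ⟨f, h1, h2, h3, fun q _ hqK hder => h4 hder⟩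
    · subst hp0
      obtain ⟨f, hf, hfdeg, hfm⟩ := lifts_and_natDegree_eq_and_monic
        ((mem_lifts _).mpr (map_surjective (residue (W.comap (algebraMap (↥L) Ω)))
          residue_surjective _)) hmon
      refine ⟨f, hfm, hf, hfdeg, fun q hq hqK _ => ?_⟩
      exact absurd (CharP.eq K hqK hp) hq.ne_zero
  obtain ⟨f, hfm, hfmap, hfdeg, hfder⟩ := hf
  -- a root with residue `ā`
  have hroot0 : eval ā ((f.map (EtRam.inclOfComap W (algebraMap (↥L) Ω))).map (residue W)) = 0 := by
    have h1 : (f.map (EtRam.inclOfComap W (algebraMap (↥L) Ω))).map (residue W) =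
        fb.map (algebraMap (ResidueField (W.comap (algebraMap (↥L) Ω))) (ResidueField W)) := by
      rw [← hfmap, Polynomial.map_map, Polynomial.map_map]
      rfl
    rw [h1, eval_map, ← aeval_def]
    exact hfbroot
  obtain ⟨α, hαroot, hαres⟩ := exists_root_res W
    (f.map (EtRam.inclOfComap W (algebraMap (↥L) Ω))) (hfm.map _) ā hroot0
  have hαL : aeval (α : Ω) (f.map (W.comap (algebraMap (↥L) Ω)).subtype) = 0 := by
    rw [← coe_eval_map_incl, hαroot]
    rfl
  refine ⟨f.map (W.comap (algebraMap (↥L) Ω)).subtype, (α : Ω), α.2, hfm.map _, ?_, hαL, hαres, ?_⟩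
  · rw [hfm.natDegree_map, hfdeg, hfb]
  · -- separability
    obtain ⟨p, hp⟩ := CharP.exists K
    rcases CharP.char_is_prime_or_zero K p with hpp | hp0
    · apply isSeparable_of_derivative_ne_zero _ _ hαL
      rw [derivative_map, ← coe_eval_map_incl]
      by_cases hder : derivative fb = 0
      · rw [hfder p hpp hp hder, Polynomial.map_C, eval_C]
        show ((ϖV : ↥L) : Ω) ≠ 0
        rw [hϖV]
        exact hϖ0
      · intro h0
        have h1 : eval α ((derivative f).map (EtRam.inclOfComap W (algebraMap (↥L) Ω))) = 0 :=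
          Subtype.ext h0
        have h2 := residue_eval_map_incl W L (derivative f) α
        rw [h1, map_zero, hαres, ← derivative_map, hfmap] at h2
        have h3 := minpoly.degree_le_of_ne_zero _ ā hder h2.symm
        rw [← hfb] at h3
        exact absurd (lt_of_le_of_lt h3 (degree_derivative_lt hmon.ne_zero)) (lt_irrefl _)
    · subst hp0
      haveI : CharZero K := CharP.charP_to_charZero K
      haveI : CharZero (↥L) := charZero_of_injective_algebraMap (algebraMap K (↥L)).injective
      haveI : Algebra.IsAlgebraic (↥L) Ω := Algebra.IsAlgebraic.tower_top (K := K) (↥L)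
      exact Algebra.IsSeparable.isSeparable (↥L) (α : Ω)

end Alpha

end ResExtH8
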