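import Mathlib
import Groth.Prelude.Def_EtRam
import Groth.Agent.Lib.ResExt2_helper8
import Groth.Agent.Lib.ResExt6_helper8

set_option autoImplicit false
universe u

namespace ResExtH8

open IsLocalRing Polynomial IntermediateField

section Larger

variable {A : Type u} [CommRing A] [IsDomain A] [IsDiscreteValuationRing A]
  {K : Type u} [Field K] [Algebra A K] [IsFractionRing A K]
  {Ω : Type u} [Field Ω] [Algebra K Ω] [Algebra A Ω] [IsScalarTower A K Ω]
  (W : ValuationSubring Ω) (L : IntermediateField K Ω)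

attribute [local instance] resAlg

/-- integrality over the residue field of `A` gives integrality over the residue field of `W ∩ L` -/
theorem isIntegral_resL (hW : ∀ a : A, algebraMap A Ω a ∈ W) (r : ResidueField W)
    (hr : ∃ q : A[X], q.Monic ∧
      eval₂ ((residue W).comp (RingHom.codRestrict (algebraMap A Ω) W hW)) r q = 0) :
    IsIntegral (ResidueField (W.comap (algebraMap (↥L) Ω))) r := by
  obtain ⟨q, hqm, hq⟩ := hr
  have hL : ∀ a : A, algebraMap A Ω a ∈ L := fun a => by
    rw [IsScalarTower.algebraMap_apply A K Ω]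
    exact L.algebraMap_mem _
  let φV : A →+* W.comap (algebraMap (↥L) Ω) :=
    RingHom.codRestrict (RingHom.codRestrict (algebraMap A Ω) L hL) _ (fun a => hW a)
  refine ⟨q.map ((residue _).comp φV), hqm.map _, ?_⟩
  rw [eval₂_map]
  exact hq

set_option maxHeartbeats 1600000 in
/-- the extension step -/
theorem exists_larger [IsAlgClosed Ω] [Algebra.IsAlgebraic K Ω]
    (hW : EtRam.Dominates A (algebraMap A Ω) W) {π : A} (hπ : Irreducible π)
    (Rk : Subring (ResidueField W))
    (hRk : ∀ r ∈ Rk, ∃ q : A[X], q.Monic ∧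
      eval₂ ((residue W).comp (RingHom.codRestrict (algebraMap A Ω) W hW.1)) r q = 0)
    (hP1 : ∀ x ∈ L, ∀ hx : x ∈ W, residue W ⟨x, hx⟩ ∈ Rk)
    (hP2 : ∀ x ∈ L, W.valuation x < 1 → x / algebraMap A Ω π ∈ W)
    (hP3 : ∀ x ∈ L, IsSeparable K x)
    (ā : ResidueField W) (hā : ā ∈ Rk)
    (hāL : ∀ x ∈ L, ∀ hx : x ∈ W, residue W ⟨x, hx⟩ ≠ ā) :
    ∃ L' : IntermediateField K Ω, L < L' ∧
      (∀ x ∈ L', ∀ hx : x ∈ W, residue W ⟨x, hx⟩ ∈ Rk) ∧
      (∀ x ∈ L', W.valuation x < 1 → x / algebraMap A Ω π ∈ W) ∧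
      (∀ x ∈ L', IsSeparable K x) := by
  have hint := isIntegral_resL W L hW.1 ā (hRk ā hā)
  obtain ⟨fL, α, hα, hfLm, hfLdeg, hfLroot, hαres, hαsep⟩ := exists_alpha W L hW hπ ā hint
  have hd0 : (minpoly (ResidueField (W.comap (algebraMap (↥L) Ω))) ā).natDegree ≠ 0 :=
    (minpoly.natDegree_pos hint).ne'
  have hLI := li_of_minpoly W L ā hint α hα hαres _ rfl
  refine ⟨(IntermediateField.adjoin (↥L) {α}).restrictScalars K, ?_, ?_⟩
  · -- strictly larger
    have hle : L ≤ (IntermediateField.adjoin (↥L) {α}).restrictScalars K := by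
      intro x hx
      exact (IntermediateField.adjoin (↥L) {α}).algebraMap_mem ⟨x, hx⟩
    refine lt_of_le_of_ne hle ?_
    intro heq
    have hαL : α ∈ L := by
      rw [heq]
      exact IntermediateField.mem_adjoin_simple_self (↥L) α
    exact hāL α hαL hα hαres
  · -- the three properties
    have hrepr : ∀ y ∈ (IntermediateField.adjoin (↥L) {α}).restrictScalars K,
        ∃ c : Fin (minpoly (ResidueField (W.comap (algebraMap (↥L) Ω))) ā).natDegree → Ω,
          (∀ i, c i ∈ L) ∧ y = ∑ i, c i * α ^ (i : ℕ) :=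
      fun y hy => exists_repr L fL hfLm _ hfLdeg hd0 α hfLroot y hy
    refine ⟨?_, ?_, ?_⟩
    · intro y hy hyW
      obtain ⟨c, hcL, rfl⟩ := hrepr y hy
      exact (ext_P12 W hW hπ L hP2 Rk hP1 _ α hα (hαres ▸ hā) hLI c hcL).1 hyW
    · intro y hy hylt
      obtain ⟨c, hcL, rfl⟩ := hrepr y hy
      exact (ext_P12 W hW hπ L hP2 Rk hP1 _ α hα (hαres ▸ hā) hLI c hcL).2 hylt
    · intro y hy
      haveI : Algebra.IsSeparable K (↥L) :=
        (le_separableClosure_iff K Ω L).mp (fun x hx => hP3 x hx)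
      have hle : IntermediateField.adjoin (↥L) {α} ≤ separableClosure (↥L) Ω := by
        rw [IntermediateField.adjoin_le_iff]
        rintro _ rfl
        exact hαsep
      have hysep : IsSeparable (↥L) y := hle hy
      exact IsSeparable.of_algebra_isSeparable_of_isSeparable K hysep

end Larger

end ResExtH8
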