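import Mathlib

set_option autoImplicit false
universe u

namespace ResExtH8

open IntermediateField

/-- a maximal intermediate field all of whose elements satisfy an elementwise predicate -/
theorem exists_maximal_field {K Ω : Type u} [Field K] [Field Ω] [Algebra K Ω] (P : Ω → Prop)
    (hbot : ∀ x ∈ (⊥ : IntermediateField K Ω), P x) :
    ∃ L : IntermediateField K Ω, (∀ x ∈ L, P x) ∧
      ∀ L' : IntermediateField K Ω, L ≤ L' → (∀ x ∈ L', P x) → L' ≤ L := by
  have ih : ∀ c ⊆ {L : IntermediateField K Ω | ∀ x ∈ L, P x}, IsChain (· ≤ ·) c → ∀ y ∈ c,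
      ∃ ub ∈ {L : IntermediateField K Ω | ∀ x ∈ L, P x}, ∀ z ∈ c, z ≤ ub := by
    intro c hcs hc y hy
    haveI : Nonempty c := ⟨⟨y, hy⟩⟩
    have hdir : Directed (· ≤ ·) (fun i : c => (i : IntermediateField K Ω)) :=
      hc.directedOn.directed_val
    refine ⟨⨆ i : c, (i : IntermediateField K Ω), ?_, fun z hz => le_iSup_of_le ⟨z, hz⟩ le_rfl⟩
    intro x hx
    have hx' : x ∈ ((⨆ i : c, (i : IntermediateField K Ω) : IntermediateField K Ω) : Set Ω) := hx
    rw [IntermediateField.coe_iSup_of_directed hdir, Set.mem_iUnion] at hx'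
    obtain ⟨i, hi⟩ := hx'
    exact hcs i.2 x hi
  obtain ⟨m, -, hm⟩ := zorn_le_nonempty₀ {L : IntermediateField K Ω | ∀ x ∈ L, P x} ih ⊥ hbot
  exact ⟨m, hm.1, fun L' hle hL' => hm.2 hL' hle⟩

end ResExtH8
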