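import Mathlib
import Groth.Prelude.Def_EtRam
import Groth.Agent.Lib.ResExt1_helper8

set_option autoImplicit false
universe u

namespace ResExtH8

open IsLocalRing Polynomial IntermediateField

section Bot

variable {A : Type u} [CommRing A] [IsDomain A] [IsDiscreteValuationRing A]
  {K : Type u} [Field K] [Algebra A K] [IsFractionRing A K]
  {Ω : Type u} [Field Ω] [Algebra K Ω] [Algebra A Ω] [IsScalarTower A K Ω]
  (W : ValuationSubring Ω)

/-- `W ∩ K = A` -/
theorem exists_of_mem (hW : EtRam.Dominates A (algebraMap A Ω) W) (y : K)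
    (hy : algebraMap K Ω y ∈ W) : ∃ a : A, algebraMap A K a = y := by
  rcases ValuationRing.isInteger_or_isInteger A y with ⟨a, ha⟩ | ⟨a, ha⟩
  · exact ⟨a, ha⟩
  · by_cases hy0 : y = 0
    · exact ⟨0, by rw [map_zero, hy0]⟩
    by_cases hu : IsUnit a
    · obtain ⟨u, rfl⟩ := hu
      refine ⟨((u⁻¹ : Aˣ) : A), ?_⟩
      have h1 : algebraMap A K ((u⁻¹ : Aˣ) : A) * algebraMap A K (u : A) = 1 := by
        rw [← map_mul, Units.inv_mul, map_one]
      rw [ha] at h1
      have := eq_inv_of_mul_eq_one_left h1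
      rw [this, inv_inv]
    · exfalso
      have hlt := hW.2 a ((mem_maximalIdeal _).mpr hu)
      have h1 : algebraMap A Ω a = (algebraMap K Ω y)⁻¹ := by
        rw [IsScalarTower.algebraMap_apply A K Ω, ha, map_inv₀]
      rw [h1, map_inv₀] at hlt
      have h2 : W.valuation (algebraMap K Ω y) ≤ 1 := (W.valuation_le_one_iff _).mpr hy
      have h3 : W.valuation (algebraMap K Ω y) ≠ 0 := by
        rw [Ne, Valuation.zero_iff, map_eq_zero]
        exact hy0
      have h4 : 1 ≤ (W.valuation (algebraMap K Ω y))⁻¹ :=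
        (one_le_inv₀ (zero_lt_iff.mpr h3)).mpr h2
      exact absurd hlt (not_lt.mpr h4)

/-- the three properties hold on the base field -/
theorem bot_props (hW : EtRam.Dominates A (algebraMap A Ω) W) {π : A} (hπ : Irreducible π)
    (Rk : Subring (ResidueField W))
    (hRk : ∀ a : A, residue W ⟨algebraMap A Ω a, hW.1 a⟩ ∈ Rk)
    (x : Ω) (hx : x ∈ (⊥ : IntermediateField K Ω)) :
    (∀ hx : x ∈ W, residue W ⟨x, hx⟩ ∈ Rk) ∧
    (W.valuation x < 1 → x / algebraMap A Ω π ∈ W) ∧ IsSeparable K x := by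
  obtain ⟨y, rfl⟩ := IntermediateField.mem_bot.mp hx
  refine ⟨?_, ?_, isSeparable_algebraMap y⟩
  · intro hyW
    obtain ⟨a, rfl⟩ := exists_of_mem W hW y hyW
    have : (⟨algebraMap K Ω (algebraMap A K a), hyW⟩ : W) = ⟨algebraMap A Ω a, hW.1 a⟩ := by
      apply Subtype.ext
      exact (IsScalarTower.algebraMap_apply A K Ω a).symm
    rw [this]
    exact hRk a
  · intro hlt
    have hyW : algebraMap K Ω y ∈ W := (W.valuation_le_one_iff _).mp hlt.le
    obtain ⟨a, rfl⟩ := exists_of_mem W hW y hyW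
    rw [← IsScalarTower.algebraMap_apply A K Ω] at hlt ⊢
    have ham : a ∈ maximalIdeal A := by
      rw [mem_maximalIdeal, mem_nonunits_iff]
      intro hu
      rw [val_unit W hW hu] at hlt
      exact lt_irrefl _ hlt
    rw [hπ.maximalIdeal_eq, Ideal.mem_span_singleton'] at ham
    obtain ⟨b, rfl⟩ := ham
    have hϖ0 : algebraMap A Ω π ≠ 0 := fun h =>
      hπ.ne_zero (algebraMap_injective (K := K) (by rw [h, map_zero]))
    rw [map_mul, mul_div_assoc, div_self hϖ0, mul_one]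
    exact hW.1 b

end Bot

section DVR

variable {A : Type u} [CommRing A] [IsDomain A] [IsDiscreteValuationRing A]
  {K : Type u} [Field K] [Algebra A K] [IsFractionRing A K]
  {Ω : Type u} [Field Ω] [Algebra K Ω] [Algebra A Ω] [IsScalarTower A K Ω]
  [Algebra.IsAlgebraic K Ω]
  (W : ValuationSubring Ω) (L : IntermediateField K Ω)

theorem val_lt_one_of_mem_maximalIdeal (x : W.comap (algebraMap (↥L) Ω))
    (hx : x ∈ maximalIdeal (W.comap (algebraMap (↥L) Ω))) : W.valuation ((x : ↥L) : Ω) < 1 := by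
  have h1 : EtRam.inclOfComap W (algebraMap (↥L) Ω) x ∈ maximalIdeal W := by
    rw [mem_maximalIdeal, mem_nonunits_iff] at hx ⊢
    intro hu
    exact hx (isUnit_of_map_unit (EtRam.inclOfComap W (algebraMap (↥L) Ω)) x hu)
  exact (ValuationSubring.valuation_lt_one_iff W _).mp h1

set_option maxHeartbeats 1600000 in
/-- `W ∩ L` is a discrete valuation ring with uniformizer `π` -/
theorem isDVR_comap (hW : EtRam.Dominates A (algebraMap A Ω) W) {π : A} (hπ : Irreducible π)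
    (hP2 : ∀ x ∈ L, W.valuation x < 1 → x / algebraMap A Ω π ∈ W) :
    ∃ ϖV : W.comap (algebraMap (↥L) Ω), ((ϖV : ↥L) : Ω) = algebraMap A Ω π ∧
      maximalIdeal (W.comap (algebraMap (↥L) Ω)) = Ideal.span {ϖV} ∧
      IsDiscreteValuationRing (W.comap (algebraMap (↥L) Ω)) := by
  have hϖL : algebraMap A Ω π ∈ L := by
    rw [IsScalarTower.algebraMap_apply A K Ω]
    exact L.algebraMap_mem _
  have hϖ0 : algebraMap A Ω π ≠ 0 := fun h =>
    hπ.ne_zero (algebraMap_injective (K := K) (by rw [h, map_zero]))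
  have hvlt : W.valuation (algebraMap A Ω π) < 1 := val_pi_lt_one W hW hπ
  obtain ⟨ϖV, hϖV⟩ : ∃ ϖV : W.comap (algebraMap (↥L) Ω), ((ϖV : ↥L) : Ω) = algebraMap A Ω π :=
    ⟨⟨⟨algebraMap A Ω π, hϖL⟩, hW.1 π⟩, rfl⟩
  have hϖV0 : ϖV ≠ 0 := by
    intro h0
    apply hϖ0
    rw [← hϖV, h0]
    rfl
  -- units of `W ∩ L`
  have hunit : ∀ x : W.comap (algebraMap (↥L) Ω), W.valuation ((x : ↥L) : Ω) = 1 → IsUnit x := by
    intro x hx
    have hx0 : ((x : ↥L) : Ω) ≠ 0 := by
      intro h0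
      rw [h0, map_zero] at hx
      exact zero_ne_one hx
    have hinvW : (((x : ↥L) : Ω))⁻¹ ∈ W := by
      rw [← W.valuation_le_one_iff, map_inv₀, hx, inv_one]
    refine ⟨⟨x, ⟨⟨(((x : ↥L) : Ω))⁻¹, L.inv_mem (x : ↥L).2⟩, hinvW⟩, ?_, ?_⟩, rfl⟩
    · apply Subtype.ext
      apply Subtype.ext
      exact mul_inv_cancel₀ hx0
    · apply Subtype.ext
      apply Subtype.ext
      exact inv_mul_cancel₀ hx0
  have hϖm : ϖV ∈ maximalIdeal (W.comap (algebraMap (↥L) Ω)) := by
    rw [mem_maximalIdeal, mem_nonunits_iff]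
    intro hu
    have hu' := hu.map (EtRam.inclOfComap W (algebraMap (↥L) Ω))
    have h1 : W.valuation ((EtRam.inclOfComap W (algebraMap (↥L) Ω) ϖV : W) : Ω) = 1 :=
      (ValuationSubring.valuation_eq_one_iff W _).mp hu'
    have h2 : ((EtRam.inclOfComap W (algebraMap (↥L) Ω) ϖV : W) : Ω) = algebraMap A Ω π := hϖV
    rw [h2] at h1
    exact absurd h1 hvlt.ne
  have hmax : maximalIdeal (W.comap (algebraMap (↥L) Ω)) = Ideal.span {ϖV} := by
    apply le_antisymm
    · intro x hx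
      have hlt := val_lt_one_of_mem_maximalIdeal W L x hx
      have hzW := hP2 _ (x : ↥L).2 hlt
      have hzL : ((x : ↥L) : Ω) / algebraMap A Ω π ∈ L := L.div_mem (x : ↥L).2 hϖL
      rw [Ideal.mem_span_singleton']
      refine ⟨⟨⟨_, hzL⟩, hzW⟩, ?_⟩
      apply Subtype.ext
      apply Subtype.ext
      show ((x : ↥L) : Ω) / algebraMap A Ω π * ((ϖV : ↥L) : Ω) = ((x : ↥L) : Ω)
      rw [hϖV, div_mul_cancel₀ _ hϖ0]
    · rw [Ideal.span_le, Set.singleton_subset_iff]
      exact hϖm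
  refine ⟨ϖV, hϖV, hmax, ?_⟩
  apply IsDiscreteValuationRing.ofHasUnitMulPowIrreducibleFactorization
  have hprime : Prime ϖV := by
    rw [← Ideal.span_singleton_prime hϖV0, ← hmax]
    infer_instance
  refine ⟨ϖV, hprime.irreducible, fun {x} hx0 => ?_⟩
  have hx0' : ((x : ↥L) : Ω) ≠ 0 := by
    intro h0
    apply hx0
    apply Subtype.ext
    apply Subtype.ext
    exact h0
  obtain ⟨n, hn⟩ := exists_pow_eq W hW hπ L hP2 ((x : ↥L) : Ω) (x : ↥L).2 x.2 hx0'
  have hzL : ((x : ↥L) : Ω) / algebraMap A Ω π ^ n ∈ L := L.div_mem (x : ↥L).2 (pow_mem hϖL n)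
  have hzv : W.valuation (((x : ↥L) : Ω) / algebraMap A Ω π ^ n) = 1 := by
    rw [map_div₀, map_pow, hn, div_self]
    exact pow_ne_zero _ (val_pi_ne_zero (K := K) W hπ)
  have hzW : ((x : ↥L) : Ω) / algebraMap A Ω π ^ n ∈ W := (W.valuation_le_one_iff _).mp hzv.le
  obtain ⟨u, hu⟩ := hunit ⟨⟨_, hzL⟩, hzW⟩ hzv
  refine ⟨n, u, ?_⟩
  rw [hu]
  apply Subtype.ext
  apply Subtype.ext
  show ((ϖV : ↥L) : Ω) ^ n * (((x : ↥L) : Ω) / algebraMap A Ω π ^ n) = ((x : ↥L) : Ω)
  rw [hϖV, mul_div_cancel₀ _ (pow_ne_zero n hϖ0)]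

end DVR

end ResExtH8
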