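import Mathlib

/-!
# Residue fields of integrally closed local domains with separably closed fraction field
(helper9) – used for S0253.
-/

set_option autoImplicit false

open Polynomial

namespace SepClosedRes9

section
variable {B : Type*} [CommRing B] [IsIntegrallyClosed B]
  {K : Type*} [Field K] [Algebra B K] [IsFractionRing B K]

/-- A monic polynomial over an integrally closed domain having a root in the fraction field
has a root in the ring. -/
theorem exists_root_of_root (g : B[X]) (hg : g.Monic) (x : K)
    (hx : eval₂ (algebraMap B K) x g = 0) : ∃ b : B, g.eval b = 0 := by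
  have hint : IsIntegral B x := ⟨g, hg, hx⟩
  obtain ⟨b, rfl⟩ := IsIntegrallyClosed.isIntegral_iff.mp hint
  refine ⟨b, ?_⟩
  apply IsFractionRing.injective B K
  rw [map_zero, ← hx, Polynomial.eval₂_at_apply]

end

/-- A monic polynomial over a local ring whose reduction is separable is separable. -/
theorem separable_of_separable_residue {B : Type*} [CommRing B] [IsLocalRing B]
    (g : B[X]) (hg : g.Monic)
    (hs : (g.map (IsLocalRing.residue B)).Separable) : g.Separable := by
  classical
  have hs' : IsCoprime (g.map (IsLocalRing.residue B))
      ((derivative g).map (IsLocalRing.residue B)) := by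
    have := hs
    rw [Polynomial.separable_def, derivative_map] at this
    exact this
  rw [Polynomial.separable_def, ← isUnit_resultant_iff_isCoprime hg]
  have hgm : (g.map (IsLocalRing.residue B)).Monic := hg.map _
  have h1 : IsUnit (resultant (g.map (IsLocalRing.residue B))
      ((derivative g).map (IsLocalRing.residue B))) :=
    (isUnit_resultant_iff_isCoprime hgm).mpr hs'
  have hdeg : (g.map (IsLocalRing.residue B)).natDegree = g.natDegree :=
    hg.natDegree_map _
  have hle : ((derivative g).map (IsLocalRing.residue B)).natDegree ≤
      (derivative g).natDegree := natDegree_map_le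
  obtain ⟨k, hk⟩ := Nat.exists_eq_add_of_le hle
  have h2 : resultant (g.map (IsLocalRing.residue B)) ((derivative g).map (IsLocalRing.residue B))
      g.natDegree (derivative g).natDegree
      = IsLocalRing.residue B (resultant g (derivative g)) :=
    resultant_map_map _ _ _ _ _
  have hc : (g.map (IsLocalRing.residue B)).coeff g.natDegree = 1 := by
    rw [coeff_map, hg.coeff_natDegree, map_one]
  have h3 : resultant (g.map (IsLocalRing.residue B)) ((derivative g).map (IsLocalRing.residue B))
      g.natDegree (derivative g).natDegree
      = resultant (g.map (IsLocalRing.residue B))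
        ((derivative g).map (IsLocalRing.residue B)) := by
    rw [hk, resultant_add_right_deg _ _ _ _ k le_rfl, hc, one_pow, one_mul, hdeg]
  rw [h3] at h2
  rw [h2] at h1
  exact isUnit_of_map_unit (IsLocalRing.residue B) _ h1

section
variable {B : Type*} [CommRing B] [IsDomain B] [IsIntegrallyClosed B] [IsLocalRing B]
  {K : Type*} [Field K] [Algebra B K] [IsFractionRing B K] [IsSepClosed K]

include K in
/-- The residue field of an integrally closed local domain with separably closed fraction field
is separably closed. -/
theorem isSepClosed_residue : IsSepClosed (IsLocalRing.ResidueField B) := by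
  apply IsSepClosed.of_exists_root
  intro p hpm hpirr hpsep
  obtain ⟨g, hgmap, hgdeg, hgmonic⟩ :=
    Polynomial.lifts_and_natDegree_eq_and_monic
      (Polynomial.mem_lifts_of_surjective (f := IsLocalRing.residue B)
        IsLocalRing.residue_surjective p) hpm
  have hgsep : g.Separable := separable_of_separable_residue g hgmonic (by rw [hgmap]; exact hpsep)
  have hKsep : (g.map (algebraMap B K)).Separable := hgsep.map
  have hpdeg : 0 < p.natDegree := Polynomial.natDegree_pos_iff_degree_pos.mpr
    (Polynomial.degree_pos_of_irreducible hpirr)
  have hKdeg : (g.map (algebraMap B K)).degree ≠ 0 := by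
    have hm : (g.map (algebraMap B K)).Monic := hgmonic.map _
    have hnd : (g.map (algebraMap B K)).natDegree = p.natDegree := by
      rw [hgmonic.natDegree_map, hgdeg]
    intro h0
    have := Polynomial.natDegree_eq_zero_iff_degree_le_zero.mpr h0.le
    omega
  obtain ⟨x, hx⟩ := IsSepClosed.exists_root _ hKdeg hKsep
  have hx' : eval₂ (algebraMap B K) x g = 0 := by
    rw [← Polynomial.eval_map]; exact hx
  obtain ⟨b, hb⟩ := exists_root_of_root g hgmonic x hx'
  refine ⟨IsLocalRing.residue B b, ?_⟩
  rw [← hgmap, Polynomial.eval_map, Polynomial.eval₂_at_apply, hb, map_zero]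

include K in
/-- The residue field of an integrally closed local domain which is not a field, with separably
closed fraction field, is perfect. -/
theorem perfectField_residue (π : B) (hπm : π ∈ IsLocalRing.maximalIdeal B) (hπ0 : π ≠ 0) :
    PerfectField (IsLocalRing.ResidueField B) := by
  obtain ⟨ℓ, hℓ⟩ := CharP.exists (IsLocalRing.ResidueField B)
  rcases CharP.char_is_prime_or_zero (IsLocalRing.ResidueField B) ℓ with hprime | hzero
  · haveI : Fact ℓ.Prime := ⟨hprime⟩
    haveI : ExpChar (IsLocalRing.ResidueField B) ℓ := ExpChar.prime hprime
    have hinj : Function.Injective (algebraMap B K) := IsFractionRing.injective B K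
    have hπres : IsLocalRing.residue B π = 0 := (IsLocalRing.residue_eq_zero_iff π).mpr hπm
    haveI : PerfectRing (IsLocalRing.ResidueField B) ℓ := by
      apply PerfectRing.ofSurjective
      intro a
      obtain ⟨a, rfl⟩ := IsLocalRing.residue_surjective a
      -- the polynomial `X^ℓ - (π X + a)`
      have hlin : (C π * X + C a : B[X]).degree < (ℓ : WithBot ℕ) := by
        refine lt_of_le_of_lt (degree_linear_le) ?_
        exact_mod_cast hprime.one_lt
      have hmonic : (X ^ ℓ - (C π * X + C a) : B[X]).Monic := monic_X_pow_sub hlin
      have hroot : ∃ x : K, eval₂ (algebraMap B K) x (X ^ ℓ - (C π * X + C a) : B[X]) = 0 := by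
        by_cases hℓK : (ℓ : K) = 0
        · obtain ⟨x, hx⟩ := IsSepClosed.exists_root_C_mul_X_pow_add_C_mul_X_add_C (1 : K)
            (-(algebraMap B K π)) (-(algebraMap B K a)) hℓK hprime.two_le
            (by
              rw [neg_ne_zero]
              exact (map_ne_zero_iff _ hinj).mpr hπ0)
          refine ⟨x, ?_⟩
          simp only [eval₂_sub, eval₂_pow, eval₂_X, eval₂_add, eval₂_mul, eval₂_C]
          linear_combination hx
        · -- then `K` has characteristic zero, hence is algebraically closed
          haveI : CharZero K := by
            obtain ⟨q, hq⟩ := CharP.exists K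
            rcases CharP.char_is_prime_or_zero K q with hqprime | hq0
            · exfalso
              have h2 : (q : B) = 0 := by
                apply hinj
                rw [map_natCast, map_zero]
                exact CharP.cast_eq_zero K q
              have h3 : ((q : ℕ) : IsLocalRing.ResidueField B) = 0 := by
                have := congrArg (IsLocalRing.residue B) h2
                rwa [map_natCast, map_zero] at this
              have h4 : ℓ ∣ q := (CharP.cast_eq_zero_iff (IsLocalRing.ResidueField B) ℓ q).mp h3
              have h5 : ℓ = q := (Nat.prime_dvd_prime_iff_eq hprime hqprime).mp h4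
              apply hℓK
              rw [h5]
              exact CharP.cast_eq_zero K q
            · subst hq0
              exact CharP.charP_to_charZero K
          haveI : IsAlgClosed K := inferInstance
          have hKdeg : ((X ^ ℓ - (C π * X + C a) : B[X]).map (algebraMap B K)).degree ≠ 0 := by
            rw [hmonic.degree_map, degree_sub_eq_left_of_degree_lt (by rw [degree_X_pow]; exact hlin),
              degree_X_pow]
            exact_mod_cast hprime.pos.ne'
          obtain ⟨x, hx⟩ := IsAlgClosed.exists_root _ hKdeg
          exact ⟨x, by rw [← Polynomial.eval_map]; exact hx⟩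
      obtain ⟨x, hx⟩ := hroot
      obtain ⟨b, hb⟩ := exists_root_of_root _ hmonic x hx
      refine ⟨IsLocalRing.residue B b, ?_⟩
      have hb' : b ^ ℓ = π * b + a := by
        have := hb
        simp only [eval_sub, eval_pow, eval_X, eval_add, eval_mul, eval_C] at this
        linear_combination this
      rw [frobenius_def, ← map_pow, hb', map_add, map_mul, hπres, zero_mul, zero_add]
    exact PerfectRing.toPerfectField (IsLocalRing.ResidueField B) ℓ
  · subst hzero
    haveI : CharZero (IsLocalRing.ResidueField B) :=
      CharP.charP_to_charZero (IsLocalRing.ResidueField B)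
    infer_instance

include K in
theorem isAlgClosed_residue (π : B) (hπm : π ∈ IsLocalRing.maximalIdeal B) (hπ0 : π ≠ 0) :
    IsAlgClosed (IsLocalRing.ResidueField B) := by
  haveI := isSepClosed_residue (B := B) (K := K)
  haveI := perfectField_residue (B := B) (K := K) π hπm hπ0
  infer_instance

end

/-- S0253. -/
theorem main (A : Type*) [CommRing A] [IsDomain A] [IsIntegrallyClosed A]
    [IsSepClosed (FractionRing A)]
    (p : Ideal A) [p.IsPrime] (hp : p ≠ ⊥) : IsAlgClosed p.ResidueField := by
  haveI : IsIntegrallyClosed (Localization.AtPrime p) :=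
    isIntegrallyClosed_of_isLocalization (Localization.AtPrime p) p.primeCompl
      p.primeCompl_le_nonZeroDivisors
  obtain ⟨z, hzp, hz0⟩ := Submodule.exists_mem_ne_zero_of_ne_bot hp
  have hinj : Function.Injective (algebraMap A (Localization.AtPrime p)) :=
    IsLocalization.injective _ p.primeCompl_le_nonZeroDivisors
  have hmmap : p.map (algebraMap A (Localization.AtPrime p)) =
      IsLocalRing.maximalIdeal (Localization.AtPrime p) :=
    IsLocalization.AtPrime.map_eq_maximalIdeal p (Localization.AtPrime p)
  have hzm : algebraMap A (Localization.AtPrime p) z ∈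
      IsLocalRing.maximalIdeal (Localization.AtPrime p) := by
    rw [← hmmap]; exact Ideal.mem_map_of_mem _ hzp
  have hz1 : algebraMap A (Localization.AtPrime p) z ≠ 0 :=
    fun h => hz0 (hinj (by rw [h, map_zero]))
  exact isAlgClosed_residue (B := Localization.AtPrime p) (K := FractionRing A) _ hzm hz1

end SepClosedRes9

namespace SepClosedRes9

section Hensel
variable {A : Type*} [CommRing A] [IsDomain A] [IsLocalRing A] [IsIntegrallyClosed A]
  {K : Type*} [Field K] [Algebra A K] [IsFractionRing A K] [IsSepClosed K]

open IsLocalRing

include K in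
theorem hensel_aux (n : ℕ) : ∀ f : A[X], f.Monic → f.natDegree = n → ∀ a₀ : A,
    f.eval a₀ ∈ maximalIdeal A → IsUnit (f.derivative.eval a₀) →
    ∃ a : A, f.IsRoot a ∧ a - a₀ ∈ maximalIdeal A := by
  induction n using Nat.strong_induction_on with
  | _ n ih =>
  intro f hf hn a₀ h0 h1
  have hinj : Function.Injective (algebraMap A K) := IsFractionRing.injective A K
  have hFm : (f.map (algebraMap A K)).Monic := hf.map _
  have hFdeg : (f.map (algebraMap A K)).natDegree = n := by rw [hf.natDegree_map, hn]
  have hnpos : n ≠ 0 := by
    intro h
    rw [h] at hn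
    have := eq_one_of_monic_natDegree_zero hf hn
    rw [this, eval_one] at h0
    exact (Ideal.ne_top_iff_one _).mp (maximalIdeal.isMaximal A).ne_top h0
  by_cases hirr : Irreducible (f.map (algebraMap A K))
  · by_cases hder : derivative (f.map (algebraMap A K)) = 0
    · exfalso
      rw [derivative_map] at hder
      have : derivative f = 0 :=
        Polynomial.map_injective _ hinj (by rw [hder, Polynomial.map_zero])
      rw [this, eval_zero] at h1
      exact not_isUnit_zero h1
    · have hsep : (f.map (algebraMap A K)).Separable :=
        (Polynomial.separable_iff_derivative_ne_zero hirr).mpr hder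
      have hd1 := IsSepClosed.degree_eq_one_of_irreducible (k := K) hirr hsep
      have hnd1 : f.natDegree = 1 := by
        rw [hn, ← hFdeg]; exact natDegree_eq_of_degree_eq_some hd1
      obtain ⟨c, hc⟩ : ∃ c, f = X + C c := ⟨_, hf.eq_X_add_C hnd1⟩
      subst hc
      refine ⟨-c, ?_, ?_⟩
      · rw [IsRoot.def]; simp
      · have h2 : -c - a₀ = -(eval a₀ (X + C c : A[X])) := by simp; ring
        rw [h2]; exact neg_mem h0
  · have hne1 : f.map (algebraMap A K) ≠ 1 := by
      intro h; rw [h, natDegree_one] at hFdeg; exact hnpos hFdeg.symm
    have hred : ¬ (∀ G H : K[X], G.Monic → H.Monic → G * H = f.map (algebraMap A K) →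
        G.natDegree = 0 ∨ H.natDegree = 0) :=
      fun h => hirr (hFm.irreducible_iff_natDegree.mpr ⟨hne1, h⟩)
    push_neg at hred
    obtain ⟨G, H, hG, hH, hGH, hG0, hH0⟩ := hred
    obtain ⟨g, hg⟩ := IsIntegrallyClosed.eq_map_mul_C_of_dvd K hf (Dvd.intro H hGH)
    obtain ⟨h, hh⟩ := IsIntegrallyClosed.eq_map_mul_C_of_dvd K hf (Dvd.intro_left G hGH)
    rw [hG.leadingCoeff, C_1, mul_one] at hg
    rw [hH.leadingCoeff, C_1, mul_one] at hh
    have hgm : g.Monic := monic_of_injective hinj (by rw [hg]; exact hG)
    have hhm : h.Monic := monic_of_injective hinj (by rw [hh]; exact hH)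
    have hfgh : f = g * h :=
      Polynomial.map_injective _ hinj (by rw [Polynomial.map_mul, hg, hh, hGH])
    have hgdeg : g.natDegree = G.natDegree := by rw [← hg, hgm.natDegree_map]
    have hhdeg : h.natDegree = H.natDegree := by rw [← hh, hhm.natDegree_map]
    have hsum : n = g.natDegree + h.natDegree := by rw [← hn, hfgh, hgm.natDegree_mul hhm]
    have key : ∀ g h : A[X], g.Monic → h.Monic → f = g * h → g.natDegree < n →
        g.eval a₀ ∈ maximalIdeal A → ∃ a, f.IsRoot a ∧ a - a₀ ∈ maximalIdeal A := by
      intro g h hgm hhm hfgh hlt hga
      have hder : f.derivative.eval a₀ =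
          g.derivative.eval a₀ * h.eval a₀ + g.eval a₀ * h.derivative.eval a₀ := by
        rw [hfgh, derivative_mul, eval_add, eval_mul, eval_mul]
      have hu : IsUnit (g.derivative.eval a₀ * h.eval a₀) := by
        by_contra hnu
        have hmem : g.derivative.eval a₀ * h.eval a₀ ∈ maximalIdeal A :=
          (mem_maximalIdeal _).mpr hnu
        have : f.derivative.eval a₀ ∈ maximalIdeal A := by
          rw [hder]
          exact Ideal.add_mem _ hmem (Ideal.mul_mem_right _ _ hga)
        exact (mem_maximalIdeal _).mp this h1
      have hgu : IsUnit (g.derivative.eval a₀) := isUnit_of_mul_isUnit_left hu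
      obtain ⟨a, ha, haa⟩ := ih g.natDegree hlt g hgm rfl a₀ hga hgu
      refine ⟨a, ?_, haa⟩
      rw [IsRoot.def, hfgh, eval_mul, ha.eq_zero, zero_mul]
    have hmul : g.eval a₀ * h.eval a₀ ∈ maximalIdeal A := by
      rw [← eval_mul, ← hfgh]; exact h0
    rcases (maximalIdeal.isMaximal A).isPrime.mem_or_mem hmul with hga | hha
    · exact key g h hgm hhm hfgh (by omega) hga
    · exact key h g hhm hgm (by rw [hfgh, mul_comm]) (by omega) hha

include K in
theorem henselian : HenselianLocalRing A :=
  { is_henselian := fun f hf a₀ h0 h1 => hensel_aux (K := K) _ f hf rfl a₀ h0 h1 }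

end Hensel

/-- S0254. -/
theorem main2 (A : Type*) [CommRing A] [IsDomain A] [IsLocalRing A] [IsIntegrallyClosed A]
    [IsSepClosed (FractionRing A)] :
    HenselianLocalRing A ∧ IsSepClosed (IsLocalRing.ResidueField A) :=
  ⟨henselian (K := FractionRing A), isSepClosed_residue (B := A) (K := FractionRing A)⟩

end SepClosedRes9
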