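import Mathlib
import Groth.Prelude.Def_EtRam
import Groth.Agent.Lib.ResExt7_helper8
import Groth.Agent.Lib.ResExt8_helper8
import Groth.Agent.Lib.ResExt9_helper8
import Groth.Agent.Lib.SepClosedRes_helper9
import Groth.Agent.Lib.TotRam2_helper8

set_option autoImplicit false
universe u

namespace ResExtH8

open IsLocalRing Polynomial IntermediateField

section Main

variable {A : Type u} [CommRing A] [IsDomain A] [IsDiscreteValuationRing A]
  {K : Type u} [Field K] [Algebra A K] [IsFractionRing A K]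
  {Ω : Type u} [Field Ω] [Algebra K Ω] [Algebra A Ω] [IsScalarTower A K Ω]
  [Algebra.IsAlgebraic K Ω] [IsAlgClosed Ω]

/-- the maximal field: all residues in `Rk` are attained -/
theorem exists_field (W : ValuationSubring Ω)
    (hW : EtRam.Dominates A (algebraMap A Ω) W) {π : A} (hπ : Irreducible π)
    (Rk : Subring (ResidueField W))
    (hRkA : ∀ a : A, residue W ⟨algebraMap A Ω a, hW.1 a⟩ ∈ Rk)
    (hRk : ∀ r ∈ Rk, ∃ q : A[X], q.Monic ∧
      eval₂ ((residue W).comp (RingHom.codRestrict (algebraMap A Ω) W hW.1)) r q = 0) :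
    ∃ L : IntermediateField K Ω,
      (∀ x ∈ L, ∀ hx : x ∈ W, residue W ⟨x, hx⟩ ∈ Rk) ∧
      (∀ x ∈ L, W.valuation x < 1 → x / algebraMap A Ω π ∈ W) ∧
      (∀ x ∈ L, IsSeparable K x) ∧
      (∀ r ∈ Rk, ∃ x ∈ L, ∃ hx : x ∈ W, residue W ⟨x, hx⟩ = r) := by
  obtain ⟨L, hL, hLmax⟩ := exists_maximal_field (K := K) (Ω := Ω)
    (fun x => (∀ hx : x ∈ W, residue W ⟨x, hx⟩ ∈ Rk) ∧
      (W.valuation x < 1 → x / algebraMap A Ω π ∈ W) ∧ IsSeparable K x)
    (fun x hx => bot_props W hW hπ Rk hRkA x hx)
  refine ⟨L, fun x hx => (hL x hx).1, fun x hx => (hL x hx).2.1, fun x hx => (hL x hx).2.2, ?_⟩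
  intro r hr
  by_contra hne
  push Not at hne
  obtain ⟨L', hlt, h1, h2, h3⟩ := exists_larger W L hW hπ Rk hRk (fun x hx => (hL x hx).1)
    (fun x hx => (hL x hx).2.1) (fun x hx => (hL x hx).2.2) r hr hne
  exact absurd (hLmax L' hlt.le (fun x hx => ⟨h1 x hx, h2 x hx, h3 x hx⟩)) (not_le_of_gt hlt)

set_option maxHeartbeats 3200000 in
/-- main construction, relative to an algebraically closed algebraic extension `Ω` of `K` -/
theorem main_aux (A K Ω : Type u) [CommRing A] [IsDomain A] [IsDiscreteValuationRing A]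
    [Field K] [Algebra A K] [IsFractionRing A K]
    [Field Ω] [Algebra K Ω] [Algebra A Ω] [IsScalarTower A K Ω]
    [Algebra.IsAlgebraic K Ω] [IsAlgClosed Ω]
    (k' : Type u) [Field k'] [Algebra (ResidueField A) k']
    [Algebra.IsAlgebraic (ResidueField A) k'] :
    ∃ (OL : Type u) (_ : CommRing OL) (_ : IsDomain OL) (_ : IsDiscreteValuationRing OL)
      (φ : A →+* OL),
      Function.Injective φ ∧ IsLocalHom φ ∧
      Ideal.map φ (maximalIdeal A) = maximalIdeal OL ∧
      (∃ e : ResidueField OL ≃+* k',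
        ∀ a : A, e (residue OL (φ a)) = algebraMap (ResidueField A) k' (residue A a)) ∧
      ∀ x : OL, ∃ p : Polynomial A, (p.map (algebraMap A K)).Separable ∧
        Polynomial.eval₂ φ x p = 0 := by
  classical
  obtain ⟨W, hW⟩ := TotRamH8.exists_dominating (algebraMap A Ω)
  obtain ⟨π, hπ⟩ := IsDiscreteValuationRing.exists_irreducible A
  have hϖ0 : algebraMap A Ω π ≠ 0 := fun h =>
    hπ.ne_zero (algebraMap_injective (K := K) (by rw [h, map_zero]))
  have hvlt : W.valuation (algebraMap A Ω π) < 1 := val_pi_lt_one W hW hπ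
  -- the local homomorphism `A → W`
  obtain ⟨φW, hφW⟩ : ∃ φW : A →+* W, φW = RingHom.codRestrict (algebraMap A Ω) W hW.1 := ⟨_, rfl⟩
  have hφWc : ∀ a, ((φW a : W) : Ω) = algebraMap A Ω a := fun a => by rw [hφW]; rfl
  haveI hφWloc : IsLocalHom φW := ⟨fun a ha => by
    by_contra hna
    have hlt := hW.2 a ((mem_maximalIdeal _).mpr hna)
    have h1 : W.valuation ((φW a : W) : Ω) = 1 :=
      (ValuationSubring.valuation_eq_one_iff W _).mp ha
    rw [hφWc] at h1
    exact absurd h1 hlt.ne⟩
  letI algkW : Algebra (ResidueField A) (ResidueField W) := (ResidueField.map φW).toAlgebra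
  have halgkW : ∀ a : A, algebraMap (ResidueField A) (ResidueField W) (residue A a) =
      residue W (φW a) := fun a => rfl
  -- the residue field of `W` is algebraically closed
  haveI : IsAlgClosed (ResidueField W) := by
    refine SepClosedRes9.isAlgClosed_residue (B := W) (K := Ω) (φW π) ?_ ?_
    · rw [ValuationSubring.valuation_lt_one_iff, hφWc]
      exact hvlt
    · intro h0
      apply hϖ0
      rw [← hφWc, h0]
      rfl
  -- embed `k'`
  obtain ⟨j⟩ : Nonempty (k' →ₐ[ResidueField A] ResidueField W) := ⟨IsAlgClosed.lift⟩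
  obtain ⟨Rk, hRkdef⟩ : ∃ Rk : Subring (ResidueField W), Rk = (j : k' →+* ResidueField W).range :=
    ⟨_, rfl⟩
  have hRkA : ∀ a : A, residue W ⟨algebraMap A Ω a, hW.1 a⟩ ∈ Rk := by
    intro a
    rw [hRkdef]
    refine ⟨algebraMap (ResidueField A) k' (residue A a), ?_⟩
    show j (algebraMap (ResidueField A) k' (residue A a)) = _
    rw [j.commutes, halgkW, hφW]
    rfl
  have hRk : ∀ r ∈ Rk, ∃ q : A[X], q.Monic ∧
      eval₂ ((residue W).comp (RingHom.codRestrict (algebraMap A Ω) W hW.1)) r q = 0 := by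
    intro r hr
    rw [hRkdef] at hr
    obtain ⟨x, rfl⟩ := hr
    obtain ⟨qb, hqbm, hqb⟩ := Algebra.IsIntegral.isIntegral (R := ResidueField A) x
    obtain ⟨q, hq, -, hqm⟩ := lifts_and_natDegree_eq_and_monic
      ((mem_lifts _).mpr (map_surjective (residue A) residue_surjective _)) hqbm
    refine ⟨q, hqm, ?_⟩
    have hcomp : (residue W).comp (RingHom.codRestrict (algebraMap A Ω) W hW.1) =
        ((j : k' →+* ResidueField W).comp (algebraMap (ResidueField A) k')).comp (residue A) := by
      ext a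
      show residue W _ = j (algebraMap (ResidueField A) k' (residue A a))
      rw [j.commutes, halgkW, hφW]
    rw [hcomp, ← eval₂_map, hq]
    have := hom_eval₂ qb (algebraMap (ResidueField A) k') (j : k' →+* ResidueField W) x
    rw [hqb, map_zero] at this
    exact this.symm
  obtain ⟨L, hP1, hP2, hP3, hsurj⟩ := exists_field (K := K) W hW hπ Rk hRkA hRk
  obtain ⟨ϖV, hϖV, hmax, hdvr⟩ := isDVR_comap W L hW hπ hP2
  have hL : ∀ a : A, algebraMap A Ω a ∈ L := fun a => by
    rw [IsScalarTower.algebraMap_apply A K Ω]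
    exact L.algebraMap_mem _
  obtain ⟨φ, hφ⟩ : ∃ φ : A →+* W.comap (algebraMap (↥L) Ω), φ =
      RingHom.codRestrict (RingHom.codRestrict (algebraMap A Ω) L hL) _ (fun a => hW.1 a) :=
    ⟨_, rfl⟩
  have hφc : ∀ a, (((φ a : W.comap (algebraMap (↥L) Ω)) : ↥L) : Ω) = algebraMap A Ω a :=
    fun a => by rw [hφ]; rfl
  have hinclφ : ∀ a, EtRam.inclOfComap W (algebraMap (↥L) Ω) (φ a) = φW a := fun a => by
    apply Subtype.ext
    rw [hφWc]
    exact hφc a
  refine ⟨↥(W.comap (algebraMap (↥L) Ω)), inferInstance, inferInstance, hdvr, φ, ?_, ?_, ?_, ?_, ?_⟩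
  · -- injective
    intro a b hab
    apply algebraMap_injective (K := K) (Ω := Ω)
    rw [← hφc a, ← hφc b, hab]
  · -- local
    refine ⟨fun a ha => ?_⟩
    have h1 := ha.map (EtRam.inclOfComap W (algebraMap (↥L) Ω))
    rw [hinclφ] at h1
    exact hφWloc.map_nonunit a h1
  · -- maximal ideal
    rw [hπ.maximalIdeal_eq, Ideal.map_span, Set.image_singleton, hmax]
    congr 2
    apply Subtype.ext
    apply Subtype.ext
    rw [hφc, hϖV]
  · -- residue field
    have hιres : ∀ x : W.comap (algebraMap (↥L) Ω), resMap W L (residue _ x) =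
        residue W (EtRam.inclOfComap W (algebraMap (↥L) Ω) x) := fun x => rfl
    have hrange : (resMap W L).range = (j : k' →+* ResidueField W).range := by
      rw [← hRkdef]
      ext r
      constructor
      · rintro ⟨t, rfl⟩
        obtain ⟨x, rfl⟩ := residue_surjective t
        rw [hιres]
        exact hP1 _ (x : ↥L).2 x.2
      · intro hr
        obtain ⟨x, hxL, hxW, rfl⟩ := hsurj r hr
        exact ⟨residue _ ⟨⟨x, hxL⟩, hxW⟩, rfl⟩
    let e₁ : ResidueField (W.comap (algebraMap (↥L) Ω)) ≃+* (resMap W L).range :=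
      RingEquiv.ofBijective (resMap W L).rangeRestrict
        ⟨fun x y hxy => (resMap W L).injective (congrArg Subtype.val hxy),
          (resMap W L).rangeRestrict_surjective⟩
    let e₂ : k' ≃+* (j : k' →+* ResidueField W).range :=
      RingEquiv.ofBijective (j : k' →+* ResidueField W).rangeRestrict
        ⟨fun x y hxy => (j : k' →+* ResidueField W).injective (congrArg Subtype.val hxy),
          (j : k' →+* ResidueField W).rangeRestrict_surjective⟩
    refine ⟨e₁.trans ((RingEquiv.subringCongr hrange).trans e₂.symm), fun a => ?_⟩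
    apply e₂.injective
    rw [RingEquiv.trans_apply, RingEquiv.trans_apply, RingEquiv.apply_symm_apply]
    apply Subtype.ext
    show resMap W L (residue _ (φ a)) = j (algebraMap (ResidueField A) k' (residue A a))
    rw [hιres, hinclφ, j.commutes, halgkW]
  · -- separability
    intro x
    have hsep : IsSeparable K (((x : W.comap (algebraMap (↥L) Ω)) : ↥L) : Ω) := hP3 _ (x : ↥L).2
    obtain ⟨b, hb, hqb⟩ := IsLocalization.integerNormalization_spec (nonZeroDivisors A)
      (minpoly K (((x : W.comap (algebraMap (↥L) Ω)) : ↥L) : Ω))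
    refine ⟨IsLocalization.integerNormalization (nonZeroDivisors A)
      (minpoly K (((x : W.comap (algebraMap (↥L) Ω)) : ↥L) : Ω)), ?_, ?_⟩
    · rw [hqb]
      have hb0 : algebraMap A K b ≠ 0 := by
        rw [Ne, map_eq_zero_iff _ (IsFractionRing.injective A K)]
        exact nonZeroDivisors.ne_zero hb
      have hassoc : Associated (minpoly K (((x : W.comap (algebraMap (↥L) Ω)) : ↥L) : Ω))
          (b • minpoly K (((x : W.comap (algebraMap (↥L) Ω)) : ↥L) : Ω)) := by
        refine ⟨(Polynomial.isUnit_C.mpr (IsUnit.mk0 _ hb0)).unit, ?_⟩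
        rw [IsUnit.unit_spec, mul_comm, ← Polynomial.smul_eq_C_mul, algebraMap_smul]
      exact hassoc.separable hsep
    · have h0 := IsLocalization.integerNormalization_aeval_eq_zero (nonZeroDivisors A)
        (minpoly K (((x : W.comap (algebraMap (↥L) Ω)) : ↥L) : Ω))
        (minpoly.aeval K (((x : W.comap (algebraMap (↥L) Ω)) : ↥L) : Ω))
      have h1 := hom_eval₂ (IsLocalization.integerNormalization (nonZeroDivisors A)
        (minpoly K (((x : W.comap (algebraMap (↥L) Ω)) : ↥L) : Ω))) φ
        ((algebraMap (↥L) Ω).comp (W.comap (algebraMap (↥L) Ω)).subtype) x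
      have h2 : ((algebraMap (↥L) Ω).comp (W.comap (algebraMap (↥L) Ω)).subtype).comp φ =
          algebraMap A Ω := by
        ext a
        exact hφc a
      rw [h2] at h1
      have h3 : ((algebraMap (↥L) Ω).comp (W.comap (algebraMap (↥L) Ω)).subtype) x =
          (((x : W.comap (algebraMap (↥L) Ω)) : ↥L) : Ω) := rfl
      rw [h3, ← aeval_def, h0] at h1
      have hinj : Function.Injective
          ((algebraMap (↥L) Ω).comp (W.comap (algebraMap (↥L) Ω)).subtype) :=
        (algebraMap (↥L) Ω).injective.comp Subtype.val_injective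
      exact hinj (by rw [h1, map_zero])

end Main

end ResExtH8
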