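import Mathlib
import Groth.Agent.Lib.SepMonogenic_lead

/-!
# Finite étale local algebras with prescribed separable residue field extension (lead)
-/

set_option autoImplicit false
universe u

namespace Groth.Agent.Lib.ResFieldEtale

open Polynomial

section Aux

variable (A : Type u) [CommRing A] [IsLocalRing A] (l : Type u) [Field l]
  [Algebra (IsLocalRing.ResidueField A) l] (F : A[X])

local notation "𝕜" => IsLocalRing.ResidueField A
set_option quotPrecheck false in
local notation "𝔼" => (A[X] ⧸ Ideal.span ({F} : Set A[X]))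

theorem main_aux (hFmonic : F.Monic) (α : l)
    (hFmap : F.map (IsLocalRing.residue A) = minpoly 𝕜 α)
    (hsep : (minpoly 𝕜 α).Separable) (hadj : Algebra.adjoin 𝕜 {α} = ⊤) :
    ∃ (_ : IsLocalRing 𝔼) (_ : IsLocalHom (algebraMap A 𝔼)),
      Module.Finite A 𝔼 ∧ Algebra.Etale A 𝔼 ∧
        Nonempty (IsLocalRing.ResidueField 𝔼 ≃ₐ[𝕜] l) := by
  classical
  have hFsep : F.Separable := by
    show IsCoprime F (derivative F)
    apply Groth.Agent.S17979.result A F (derivative F) hFmonic
    rw [← Polynomial.derivative_map, hFmap]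
    exact hsep
  letI algAl : Algebra A l :=
    ((algebraMap 𝕜 l).comp (algebraMap A 𝕜)).toAlgebra
  haveI tow : IsScalarTower A 𝕜 l := IsScalarTower.of_algebraMap_eq (fun _ => rfl)
  have halgAl : ∀ a : A, algebraMap A l a = algebraMap 𝕜 l (IsLocalRing.residue A a) :=
    fun _ => rfl
  have hmapres : ∀ p : A[X], aeval α (p.map (IsLocalRing.residue A)) = aeval α p :=
    fun p => Polynomial.aeval_map_algebraMap 𝕜 α p
  have hFα : aeval α F = 0 := by
    rw [← hmapres, hFmap, minpoly.aeval]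
  let ψ : 𝔼 →ₐ[A] l := Ideal.Quotient.liftₐ (Ideal.span {F}) (aeval α) (by
      intro p hp
      obtain ⟨q, rfl⟩ := Ideal.mem_span_singleton.1 hp
      rw [map_mul, hFα, zero_mul])
  have hψmk : ∀ p, ψ (Ideal.Quotient.mk _ p) = aeval α p := fun _ => rfl
  have hψs : Function.Surjective ψ := by
    intro y
    have h' := hadj
    rw [Algebra.adjoin_singleton_eq_range_aeval, AlgHom.range_eq_top] at h'
    obtain ⟨pbar, hp⟩ := h' y
    obtain ⟨p, rfl⟩ := Polynomial.map_surjective (IsLocalRing.residue A)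
      IsLocalRing.residue_surjective pbar
    exact ⟨Ideal.Quotient.mk _ p, by rw [hψmk, ← hmapres, hp]⟩
  have hψs' : Function.Surjective (ψ : 𝔼 →+* l) := hψs
  have halgE : algebraMap A 𝔼 = (Ideal.Quotient.mk (Ideal.span {F})).comp C :=
    RingHom.ext fun _ => rfl
  have hker : ∀ z, ψ z = 0 → z ∈ (IsLocalRing.maximalIdeal A).map (algebraMap A 𝔼) := by
    intro z hz
    obtain ⟨p, rfl⟩ := Ideal.Quotient.mk_surjective z
    rw [hψmk] at hz
    have h1 : aeval α (p.map (IsLocalRing.residue A)) = 0 := (hmapres p).trans hz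
    obtain ⟨qbar, hq⟩ := minpoly.dvd 𝕜 α h1
    obtain ⟨q, rfl⟩ := Polynomial.map_surjective (IsLocalRing.residue A)
      IsLocalRing.residue_surjective qbar
    have h2 : (p - F * q).map (IsLocalRing.residue A) = 0 := by
      rw [Polynomial.map_sub, Polynomial.map_mul, hFmap, hq, sub_self]
    have h3 : p - F * q ∈ (IsLocalRing.maximalIdeal A).map (C : A →+* A[X]) := by
      rw [Ideal.mem_map_C_iff]
      intro n
      have h := congrArg (fun r => r.coeff n) h2
      simp only [Polynomial.coeff_map, Polynomial.coeff_zero] at h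
      exact (IsLocalRing.residue_eq_zero_iff _).1 h
    have h4 : Ideal.Quotient.mk (Ideal.span {F}) (p - F * q)
        ∈ (IsLocalRing.maximalIdeal A).map (algebraMap A 𝔼) := by
      rw [halgE, ← Ideal.map_map]
      exact Ideal.mem_map_of_mem _ h3
    have h5 : Ideal.Quotient.mk (Ideal.span {F}) (p - F * q)
        = Ideal.Quotient.mk (Ideal.span {F}) p := by
      rw [map_sub, map_mul, Ideal.Quotient.eq_zero_iff_mem.2 (Ideal.mem_span_singleton_self F),
        zero_mul, sub_zero]
    rwa [h5] at h4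
  have hmker : ∀ z ∈ (IsLocalRing.maximalIdeal A).map (algebraMap A 𝔼), ψ z = 0 := by
    have hle : (IsLocalRing.maximalIdeal A).map (algebraMap A 𝔼) ≤ RingHom.ker (ψ : 𝔼 →+* l) := by
      rw [Ideal.map_le_iff_le_comap]
      intro a ha
      rw [Ideal.mem_comap, RingHom.mem_ker]
      show ψ (algebraMap A 𝔼 a) = 0
      rw [ψ.commutes, halgAl, (IsLocalRing.residue_eq_zero_iff a).2 ha, map_zero]
    exact fun z hz => RingHom.mem_ker.1 (hle hz)
  haveI hEfin : Module.Finite A 𝔼 := hFmonic.finite_adjoinRoot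
  haveI : Algebra.IsIntegral A 𝔼 := Algebra.IsIntegral.of_finite A 𝔼
  have hkermax : (RingHom.ker (ψ : 𝔼 →+* l)).IsMaximal :=
    RingHom.ker_isMaximal_of_surjective (ψ : 𝔼 →+* l) hψs'
  haveI hElocal : IsLocalRing 𝔼 := by
    apply IsLocalRing.of_unique_max_ideal
    refine ⟨RingHom.ker (ψ : 𝔼 →+* l), hkermax, ?_⟩
    intro 𝔫 h𝔫
    haveI := h𝔫
    have hcomap : 𝔫.comap (algebraMap A 𝔼) = IsLocalRing.maximalIdeal A :=
      IsLocalRing.eq_maximalIdeal (Ideal.isMaximal_comap_of_isIntegral_of_isMaximal 𝔫)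
    have hle : RingHom.ker (ψ : 𝔼 →+* l) ≤ 𝔫 := by
      intro z hz
      have hz' := hker z (RingHom.mem_ker.1 hz)
      have hle' : (IsLocalRing.maximalIdeal A).map (algebraMap A 𝔼) ≤ 𝔫 := by
        rw [Ideal.map_le_iff_le_comap, hcomap]
      exact hle' hz'
    exact (hkermax.eq_of_le h𝔫.ne_top hle).symm
  have hmaxE : IsLocalRing.maximalIdeal 𝔼 = RingHom.ker (ψ : 𝔼 →+* l) :=
    (IsLocalRing.eq_maximalIdeal hkermax).symm
  have hloc : IsLocalHom (algebraMap A 𝔼) := by
    refine ⟨fun a ha => ?_⟩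
    by_contra hna
    have ha' : a ∈ IsLocalRing.maximalIdeal A := (IsLocalRing.mem_maximalIdeal a).2 hna
    have h0 : ψ (algebraMap A 𝔼 a) = 0 := hmker _ (Ideal.mem_map_of_mem _ ha')
    have hu : IsUnit (ψ (algebraMap A 𝔼 a)) := ha.map ψ
    rw [h0] at hu
    exact not_isUnit_zero hu
  haveI := hloc
  haveI : Algebra.FormallyEtale A 𝔼 :=
    Groth.Agent.Lib.SepMonogenic.formallyEtale_of_equiv F hFmonic hFsep AlgEquiv.refl
  haveI : Algebra.FinitePresentation A 𝔼 :=
    Algebra.FinitePresentation.quotient (Submodule.fg_span_singleton F)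
  have hEt : Algebra.Etale A 𝔼 := ⟨inferInstance, inferInstance⟩
  haveI hψloc : IsLocalHom (ψ : 𝔼 →+* l) := ⟨fun z hz => by
    by_contra hnz
    have hz' : z ∈ IsLocalRing.maximalIdeal 𝔼 := (IsLocalRing.mem_maximalIdeal z).2 hnz
    rw [hmaxE, RingHom.mem_ker] at hz'
    rw [hz'] at hz
    exact not_isUnit_zero hz⟩
  let ψbar : IsLocalRing.ResidueField 𝔼 →+* l := IsLocalRing.ResidueField.lift (ψ : 𝔼 →+* l)
  have hψbar : ∀ z, ψbar (IsLocalRing.residue 𝔼 z) = ψ z := fun z =>
    IsLocalRing.ResidueField.lift_residue_apply (ψ : 𝔼 →+* l) z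
  let Ψ : IsLocalRing.ResidueField 𝔼 →ₐ[𝕜] l :=
    { ψbar with
      commutes' := fun c => by
        obtain ⟨a, rfl⟩ := IsLocalRing.residue_surjective c
        show ψbar (algebraMap 𝕜 (IsLocalRing.ResidueField 𝔼) (IsLocalRing.residue A a))
          = algebraMap 𝕜 l (IsLocalRing.residue A a)
        have h1 : algebraMap 𝕜 (IsLocalRing.ResidueField 𝔼) (IsLocalRing.residue A a)
            = IsLocalRing.residue 𝔼 (algebraMap A 𝔼 a) := rfl
        rw [h1, hψbar, ψ.commutes, halgAl] }
  have hΨ : ∀ z, Ψ (IsLocalRing.residue 𝔼 z) = ψ z := hψbar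
  refine ⟨hElocal, hloc, hEfin, hEt, ⟨AlgEquiv.ofBijective Ψ ⟨RingHom.injective Ψ.toRingHom, ?_⟩⟩⟩
  intro y
  obtain ⟨z, rfl⟩ := hψs y
  exact ⟨IsLocalRing.residue 𝔼 z, hΨ z⟩

end Aux

theorem main (A : Type u) [CommRing A] [IsLocalRing A] (l : Type u) [Field l]
    [Algebra (IsLocalRing.ResidueField A) l] [FiniteDimensional (IsLocalRing.ResidueField A) l]
    [Algebra.IsSeparable (IsLocalRing.ResidueField A) l] :
    ∃ (E : Type u) (_ : CommRing E) (_ : IsLocalRing E) (_ : Algebra A E)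
      (_ : IsLocalHom (algebraMap A E)),
      Module.Finite A E ∧ Algebra.Etale A E ∧
        Nonempty (IsLocalRing.ResidueField E ≃ₐ[IsLocalRing.ResidueField A] l) := by
  classical
  obtain ⟨α, hα⟩ := Field.exists_primitive_element (IsLocalRing.ResidueField A) l
  have hαint : IsIntegral (IsLocalRing.ResidueField A) α := Algebra.IsIntegral.isIntegral α
  have hadj : Algebra.adjoin (IsLocalRing.ResidueField A) {α} = ⊤ := by
    rw [← IntermediateField.adjoin_simple_toSubalgebra_of_isAlgebraic (IsAlgebraic.of_finite _ α),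
      hα, IntermediateField.top_toSubalgebra]
  obtain ⟨F, hFmap, -, hFmonic⟩ := Polynomial.lifts_and_natDegree_eq_and_monic
    ((Polynomial.mem_lifts _).2 (Polynomial.map_surjective (IsLocalRing.residue A)
      IsLocalRing.residue_surjective (minpoly (IsLocalRing.ResidueField A) α)))
    (minpoly.monic hαint)
  obtain ⟨h1, h2, h3, h4, h5⟩ := main_aux A l F hFmonic α hFmap
    (Algebra.IsSeparable.isSeparable _ α) hadj
  exact ⟨A[X] ⧸ Ideal.span {F}, inferInstance, h1, inferInstance, h2, h3, h4, h5⟩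

end Groth.Agent.Lib.ResFieldEtale
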