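import Mathlib
import Groth.Prelude

set_option autoImplicit false
set_option linter.style.haveILetI false
set_option linter.unusedVariables false

universe u

open CategoryTheory CategoryTheory.Limits AlgebraicGeometry TopologicalSpace Opposite

namespace Groth.Agent.Lib.ResFieldFppfH4

section ring
variable {A κ ℓ : Type u} [CommRing A] [Field κ] [Field ℓ] [Algebra κ ℓ]

/-- Every element of the field `κ` is a fraction of images, if `A → κ` is surjective on stalks. -/
theorem frac_of_surjOnStalks (ev : A →+* κ)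
    (h : ev.SurjectiveOnStalks) (c : κ) : ∃ a b : A, ev b ≠ 0 ∧ ev b * c = ev a := by
  haveI : (⊥ : Ideal κ).IsPrime := Ideal.bot_prime
  have h0 := h ⊥ Ideal.bot_prime
  obtain ⟨x, r, c', hc', hr, e⟩ := (RingHom.surjective_localRingHom_iff (⊥ : Ideal κ)).mp h0 c
  have hc'0 : c' ≠ 0 := fun h => hc' (by rw [h]; exact Ideal.zero_mem _)
  have hr0 : ev r ≠ 0 := fun h => hr (by rw [h]; exact Ideal.zero_mem _)
  refine ⟨x, r, hr0, ?_⟩
  have h3 : c' * (ev r * c) = c' * ev x := by rw [← mul_assoc]; exact e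
  exact mul_left_cancel₀ hc'0 h3

/-- the evaluation hom. -/
noncomputable def φ (ev : A →+* κ) {n : ℕ} (α : Fin n → ℓ) : MvPolynomial (Fin n) A →+* ℓ :=
  MvPolynomial.eval₂Hom ((algebraMap κ ℓ).comp ev) α

theorem φ_C (ev : A →+* κ) {n : ℕ} (α : Fin n → ℓ) (a : A) :
    φ ev α (MvPolynomial.C a) = algebraMap κ ℓ (ev a) := by
  simp [φ]

theorem φ_X (ev : A →+* κ) {n : ℕ} (α : Fin n → ℓ) (i : Fin n) :
    φ ev α (MvPolynomial.X i) = α i := by
  simp [φ]

/-- Good elements form a submodule. -/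
def T (ev : A →+* κ) (h : ev.SurjectiveOnStalks) {n : ℕ} (α : Fin n → ℓ) : Submodule κ ℓ where
  carrier := {e | ∃ x r : MvPolynomial (Fin n) A, φ ev α r ≠ 0 ∧ φ ev α r * e = φ ev α x}
  add_mem' := by
    rintro e1 e2 ⟨x1, r1, h1, E1⟩ ⟨x2, r2, h2, E2⟩
    refine ⟨x1 * r2 + x2 * r1, r1 * r2, ?_, ?_⟩
    · rw [map_mul]; exact mul_ne_zero h1 h2
    · rw [map_mul, map_add, map_mul, map_mul, ← E1, ← E2]; ring
  zero_mem' := ⟨0, 1, by rw [map_one]; exact one_ne_zero, by rw [map_zero, mul_zero]⟩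
  smul_mem' := by
    rintro c e ⟨x1, r1, h1, E1⟩
    obtain ⟨a, b, hb, E⟩ := frac_of_surjOnStalks ev h c
    refine ⟨MvPolynomial.C a * x1, MvPolynomial.C b * r1, ?_, ?_⟩
    · rw [map_mul, φ_C]
      exact mul_ne_zero (fun h0 => hb ((map_eq_zero (algebraMap κ ℓ)).mp h0)) h1
    · rw [map_mul, map_mul, φ_C, φ_C, ← E1, ← E, map_mul, Algebra.smul_def]; ring

theorem surjOnStalks_φ (ev : A →+* κ) (h : ev.SurjectiveOnStalks) {n : ℕ} (α : Fin n → ℓ)
    (hα : Submodule.span κ (Set.range α) = ⊤) : (φ ev α).SurjectiveOnStalks := by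
  intro P hP
  haveI := hP
  rw [RingHom.surjective_localRingHom_iff]
  intro e
  have hT : e ∈ T ev h α := by
    have hle : Submodule.span κ (Set.range α) ≤ T ev h α := by
      refine Submodule.span_le.mpr ?_
      rintro _ ⟨i, rfl⟩
      exact ⟨MvPolynomial.X i, 1, by rw [map_one]; exact one_ne_zero,
        by rw [map_one, one_mul, φ_X]⟩
    have : e ∈ Submodule.span κ (Set.range α) := by rw [hα]; exact Submodule.mem_top
    exact hle this
  obtain ⟨x, r, hr, E⟩ := hT
  have hP0 : P = ⊥ := Ideal.eq_bot_of_prime P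
  refine ⟨x, r, 1, ?_, ?_, ?_⟩
  · exact fun h1 => hP.ne_top ((Ideal.eq_top_iff_one P).mpr h1)
  · rw [hP0]; exact fun h0 => hr (Submodule.mem_bot (R := ℓ) |>.mp h0)
  · rw [one_mul, one_mul]; exact E

end ring

section scheme
variable (S : Scheme.{u}) (s : ↥S)

theorem spec_ev {W : S.Opens} (hW : IsAffineOpen W) (hs : s ∈ W) :
    Spec.map (S.evaluation W s hs) ≫ hW.fromSpec = S.fromSpecResidueField s := by
  have e1 : S.fromSpecResidueField s = Spec.map (S.residue s) ≫ S.fromSpecStalk s := rfl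
  have e2 : S.fromSpecStalk s = Spec.map (S.presheaf.germ W s hs) ≫ hW.fromSpec :=
    (hW.fromSpecStalk_eq_fromSpecStalk hs).symm
  have e3 : S.evaluation W s hs = S.presheaf.germ W s hs ≫ S.residue s := rfl
  rw [e1, e2, e3, Spec.map_comp, Category.assoc]

theorem ev_surjOnStalks {W : S.Opens} (hW : IsAffineOpen W) (hs : s ∈ W) :
    (S.evaluation W s hs).hom.SurjectiveOnStalks := by
  have h2 : IsPreimmersion (Spec.map (S.evaluation W s hs) ≫ hW.fromSpec) := by
    rw [spec_ev S s hW hs]; infer_instance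
  have h3 : IsPreimmersion (Spec.map (S.evaluation W s hs)) :=
    IsPreimmersion.of_comp _ hW.fromSpec
  exact ((IsPreimmersion.SpecMap_iff _).mp h3).2

theorem main (S : Scheme.{u}) (s : ↥S)
    (ℓ : Type u) [Field ℓ] [Algebra (S.residueField s) ℓ] [Module.Finite (S.residueField s) ℓ] :
    ∃ (U' : Scheme.{u}) (b : U' ⟶ S) (t : Spec (CommRingCat.of ℓ) ⟶ U'),
      IsAffine U' ∧ Flat b ∧ LocallyOfFinitePresentation b ∧ IsPreimmersion t ∧
        t ≫ b = Spec.map (CommRingCat.ofHom (algebraMap (S.residueField s) ℓ)) ≫ S.fromSpecResidueField s := by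
  obtain ⟨W, hW, hsW, -⟩ := (Opens.isBasis_iff_nbhd.mp S.isBasis_affineOpens) (Opens.mem_top s)
  have hW' : IsAffineOpen W := hW
  obtain ⟨n, α, hα⟩ := Module.Finite.exists_fin (R := S.residueField s) (M := ℓ)
  have hev := ev_surjOnStalks S s hW' hsW
  have hφ := surjOnStalks_φ (S.evaluation W s hsW).hom hev α hα
  refine ⟨Spec (CommRingCat.of (MvPolynomial (Fin n) Γ(S, W))),
    Spec.map (CommRingCat.ofHom (algebraMap Γ(S, W) (MvPolynomial (Fin n) Γ(S, W)))) ≫ hW'.fromSpec,
    Spec.map (CommRingCat.ofHom (φ (S.evaluation W s hsW).hom α)), inferInstance, ?_, ?_, ?_, ?_⟩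
  · haveI : Flat (Spec.map (CommRingCat.ofHom
        (algebraMap Γ(S, W) (MvPolynomial (Fin n) Γ(S, W))))) := by
      rw [Flat.SpecMap_iff]
      exact RingHom.flat_algebraMap_iff.mpr inferInstance
    infer_instance
  · haveI : LocallyOfFinitePresentation (Spec.map (CommRingCat.ofHom
        (algebraMap Γ(S, W) (MvPolynomial (Fin n) Γ(S, W))))) := by
      rw [LocallyOfFinitePresentation.SpecMap_iff]
      exact RingHom.finitePresentation_algebraMap.mpr inferInstance
    infer_instance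
  · exact IsPreimmersion.mk_SpecMap (Topology.IsEmbedding.of_subsingleton _) hφ
  · have h1 := spec_ev S s hW' hsW
    have h2 : CommRingCat.ofHom (algebraMap Γ(S, W) (MvPolynomial (Fin n) Γ(S, W))) ≫
        CommRingCat.ofHom (φ (S.evaluation W s hsW).hom α)
        = S.evaluation W s hsW ≫ CommRingCat.ofHom (algebraMap (S.residueField s) ℓ) := by
      refine CommRingCat.hom_ext (RingHom.ext fun a => ?_)
      exact φ_C _ _ a
    calc _ = Spec.map (CommRingCat.ofHom (algebraMap Γ(S, W) (MvPolynomial (Fin n) Γ(S, W))) ≫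
          CommRingCat.ofHom (φ (S.evaluation W s hsW).hom α)) ≫ hW'.fromSpec := by
          rw [Spec.map_comp, Category.assoc]
      _ = Spec.map (S.evaluation W s hsW ≫ CommRingCat.ofHom (algebraMap (S.residueField s) ℓ)) ≫
          hW'.fromSpec := by rw [h2]
      _ = _ := by rw [Spec.map_comp, Category.assoc, h1]; rfl

end scheme

end Groth.Agent.Lib.ResFieldFppfH4
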