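import Mathlib
import Groth.Prelude.Def_Cyc

universe u
open AlgebraicGeometry CategoryTheory

namespace ResFinH8

/-- The residue field extension of a morphism locally of finite type is essentially of finite type. -/
theorem essFiniteType_residueFieldMap {X Y : Scheme.{u}} (f : X ⟶ Y) [LocallyOfFiniteType f] (x : X) :
    (f.residueFieldMap x).hom.EssFiniteType := by
  algebraize [(f.stalkMap x).hom]
  have : IsLocalHom (algebraMap (Y.presheaf.stalk (f x)) (X.presheaf.stalk x)) :=
    inferInstanceAs <| IsLocalHom (f.stalkMap x).hom
  have h1 : Algebra.EssFiniteType (Y.presheaf.stalk (f x)) (X.presheaf.stalk x) := by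
    rw [← RingHom.essFiniteType_algebraMap, RingHom.algebraMap_toAlgebra]
    exact LocallyOfFiniteType.stalkMap f x
  have h2 : Algebra.EssFiniteType (Y.presheaf.stalk (f x))
      (IsLocalRing.ResidueField <| X.presheaf.stalk x) :=
    inferInstanceAs <| Algebra.EssFiniteType (Y.presheaf.stalk (f x))
      (X.presheaf.stalk x ⧸ IsLocalRing.maximalIdeal (X.presheaf.stalk x))
  have h3 : Algebra.EssFiniteType (IsLocalRing.ResidueField <| Y.presheaf.stalk (f x))
      (IsLocalRing.ResidueField <| X.presheaf.stalk x) :=
    Algebra.EssFiniteType.of_comp (Y.presheaf.stalk (f x)) _ _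
  letI := (f.residueFieldMap x).hom.toAlgebra
  show Algebra.EssFiniteType (Y.residueField (f x)) (X.residueField x)
  convert! h3
  refine Algebra.algebra_ext _ _ fun x ↦ ?_
  obtain ⟨x, rfl⟩ := IsLocalRing.residue_surjective x
  rfl

/-- If the residue field extension has transcendence degree zero, it is finite. -/
theorem finite_residueFieldMap_of_trdeg_eq_zero {X Y : Scheme.{u}} (f : X ⟶ Y)
    [LocallyOfFiniteType f] (x : X)
    (h : (letI := (f.residueFieldMap x).hom.toAlgebra
      Algebra.trdeg (Y.residueField (f x)) (X.residueField x)) = 0) :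
    (f.residueFieldMap x).hom.Finite := by
  have h1 := essFiniteType_residueFieldMap f x
  letI := (f.residueFieldMap x).hom.toAlgebra
  have h2 : Algebra.EssFiniteType (Y.residueField (f x)) (X.residueField x) := h1
  have h3 : Algebra.IsAlgebraic (Y.residueField (f x)) (X.residueField x) :=
    _root_.trdeg_eq_zero_iff.mp h
  have h4 : Module.Finite (Y.residueField (f x)) (X.residueField x) :=
    Algebra.finite_of_essFiniteType_of_isAlgebraic
  exact h4

end ResFinH8
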