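import Mathlib
import Groth.Agent.Lib.ProfCompl_lead

/-!
# Residual finiteness of bounded-exponent abelian groups and injectivity on profinite completions
-/

namespace Groth.Agent.Lib.ResFin

open CategoryTheory ProfiniteGrp ProfiniteGrp.ProfiniteCompletion

universe u

/-- bounded exponent commutative groups are residually finite -/
theorem exists_finiteIndex_not_mem {B : Type u} [CommGroup B] (n : ℕ) (hn : 0 < n)
    (hB : ∀ b : B, b ^ n = 1) {b₀ : B} (hb₀ : b₀ ≠ 1) :
    ∃ K : Subgroup B, K.FiniteIndex ∧ b₀ ∉ K := by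
  have hne : Additive.ofMul b₀ ≠ 0 := fun h => hb₀ (ofMul_eq_zero.mp h)
  obtain ⟨c, hc⟩ := CharacterModule.exists_character_apply_ne_zero_of_ne_zero hne
  let f : Additive B →+ AddCircle (1 : ℚ) := c
  have hcf : f (Additive.ofMul b₀) ≠ 0 := hc
  let g : B →* Multiplicative (AddCircle (1 : ℚ)) := AddMonoidHom.toMultiplicativeRight f
  have hg : ∀ b, g b = Multiplicative.ofAdd (f (Additive.ofMul b)) := fun b => rfl
  have hfin : (Set.range g).Finite := by
    have h1 : ({u : Multiplicative (AddCircle (1 : ℚ)) | u ^ n = 1}).Finite :=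
      AddCircle.finite_torsion (1 : ℚ) hn
    refine h1.subset ?_
    rintro _ ⟨b, rfl⟩
    show g b ^ n = 1
    rw [← map_pow, hB, map_one]
  haveI : Finite (Set.range g) := hfin.to_subtype
  haveI : Finite g.range :=
    Finite.of_injective (fun x : g.range => (⟨x.1, MonoidHom.mem_range.mp x.2⟩ : Set.range g))
      (fun x y h => Subtype.ext (congrArg Subtype.val h))
  refine ⟨g.ker, inferInstance, fun h => hcf ?_⟩
  have h1 : g b₀ = 1 := MonoidHom.mem_ker.mp h
  rw [hg] at h1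
  exact ofAdd_eq_one.mp h1

theorem exists_comap_le {A : Type u} [CommGroup A] (A' : Subgroup A) (N : ℕ) (hN : 0 < N)
    (htors : ∀ x : A ⧸ A', IsOfFinOrder x → x ^ N = 1) (U' : FiniteIndexNormalSubgroup A') :
    ∃ U : FiniteIndexNormalSubgroup A,
      ∀ a' : A', (a' : A) ∈ U.toSubgroup → a' ∈ U'.toSubgroup := by
  have hm0 : U'.toSubgroup.index ≠ 0 := U'.isFiniteIndex'.index_ne_zero
  have hn0 : 0 < N * U'.toSubgroup.index := Nat.mul_pos hN (Nat.pos_of_ne_zero hm0)
  let H : Subgroup A :=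
    (powMonoidHom (N * U'.toSubgroup.index) : A →* A).range ⊔ U'.toSubgroup.map A'.subtype
  have hH1 : (powMonoidHom (N * U'.toSubgroup.index) : A →* A).range ≤ H := le_sup_left
  have hH2 : U'.toSubgroup.map A'.subtype ≤ H := le_sup_right
  have hclaim : ∀ a' : A', (a' : A) ∈ H → a' ∈ U'.toSubgroup := by
    intro a' ha'
    obtain ⟨y, ⟨a, rfl⟩, z, ⟨u', hu', rfl⟩, hyz⟩ := Subgroup.mem_sup.mp ha'
    have h1 : a ^ (N * U'.toSubgroup.index) * (u' : A) = (a' : A) := hyz
    have h2 : a ^ (N * U'.toSubgroup.index) ∈ A' := by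
      have : a ^ (N * U'.toSubgroup.index) = (a' : A) * ((u' : A))⁻¹ := by
        rw [← h1]; group
      rw [this]; exact A'.mul_mem a'.2 (A'.inv_mem u'.2)
    have h3 : (QuotientGroup.mk a : A ⧸ A') ^ (N * U'.toSubgroup.index) = 1 := by
      rw [← QuotientGroup.mk_pow]; exact (QuotientGroup.eq_one_iff _).mpr h2
    have h4 : (QuotientGroup.mk a : A ⧸ A') ^ N = 1 :=
      htors _ (isOfFinOrder_iff_pow_eq_one.mpr ⟨_, hn0, h3⟩)
    have h5 : a ^ N ∈ A' := by
      rw [← QuotientGroup.mk_pow] at h4; exact (QuotientGroup.eq_one_iff _).mp h4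
    have h6 : (⟨a ^ N, h5⟩ : A') ^ U'.toSubgroup.index ∈ U'.toSubgroup :=
      Subgroup.pow_index_mem _ _
    have h7 : a' = (⟨a ^ N, h5⟩ : A') ^ U'.toSubgroup.index * u' := by
      apply Subtype.ext
      rw [Subgroup.coe_mul, Subgroup.coe_pow, ← pow_mul]
      exact h1.symm
    rw [h7]; exact U'.toSubgroup.mul_mem h6 hu'
  have hB : ∀ b : A ⧸ H, b ^ (N * U'.toSubgroup.index) = 1 := by
    intro b
    obtain ⟨a, rfl⟩ := QuotientGroup.mk_surjective b
    rw [← QuotientGroup.mk_pow]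
    exact (QuotientGroup.eq_one_iff _).mpr (hH1 ⟨a, rfl⟩)
  have hstep : ∀ a' : A', a' ∉ U'.toSubgroup →
      ∃ V : Subgroup A, V.FiniteIndex ∧ H ≤ V ∧ (a' : A) ∉ V := by
    intro a' ha'
    have hne : (QuotientGroup.mk (a' : A) : A ⧸ H) ≠ 1 :=
      fun h => ha' (hclaim a' ((QuotientGroup.eq_one_iff _).mp h))
    obtain ⟨K, hK, hbK⟩ := exists_finiteIndex_not_mem _ hn0 hB hne
    refine ⟨K.comap (QuotientGroup.mk' H), ?_, ?_, ?_⟩
    · exact ⟨by
        rw [Subgroup.index_comap_of_surjective _ (QuotientGroup.mk'_surjective H)]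
        exact hK.index_ne_zero⟩
    · intro x hx
      show QuotientGroup.mk' H x ∈ K
      have : (QuotientGroup.mk' H x) = 1 := (QuotientGroup.eq_one_iff _).mpr hx
      rw [this]; exact K.one_mem
    · exact hbK
  classical
  have hq : ∀ q : A' ⧸ U'.toSubgroup, ∃ V : Subgroup A, V.FiniteIndex ∧ H ≤ V ∧
      (q ≠ 1 → ∀ a' : A', QuotientGroup.mk a' = q → (a' : A) ∉ V) := by
    intro q
    by_cases hq1 : q = 1
    · exact ⟨⊤, inferInstance, le_top, fun h => absurd hq1 h⟩
    · obtain ⟨r, rfl⟩ := QuotientGroup.mk_surjective q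
      have hr : r ∉ U'.toSubgroup := fun h => hq1 ((QuotientGroup.eq_one_iff _).mpr h)
      obtain ⟨V, hV, hHV, hrV⟩ := hstep r hr
      refine ⟨V, hV, hHV, fun _ a' ha' haV => hrV ?_⟩
      have h1 : a'⁻¹ * r ∈ U'.toSubgroup := QuotientGroup.eq.mp ha'
      have h2 : ((a'⁻¹ * r : A') : A) ∈ V := hHV (hH2 ⟨_, h1, rfl⟩)
      have h3 : (r : A) = (a' : A) * ((a'⁻¹ * r : A') : A) := by
        rw [Subgroup.coe_mul, Subgroup.coe_inv]; group
      rw [h3]; exact V.mul_mem haV h2
  choose V hV hHV hVq using hq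
  haveI : Finite (A' ⧸ U'.toSubgroup) := Subgroup.finite_quotient_of_finiteIndex
  refine ⟨⟨⨅ q, V q, Subgroup.normal_of_comm _, Subgroup.finiteIndex_iInf hV⟩, ?_⟩
  intro a' ha'
  by_contra hcon
  have hq1 : (QuotientGroup.mk a' : A' ⧸ U'.toSubgroup) ≠ 1 :=
    fun h => hcon ((QuotientGroup.eq_one_iff _).mp h)
  exact hVq _ hq1 a' rfl ((Subgroup.mem_iInf.mp ha') _)

theorem injective_map_subtype {A : Type u} [CommGroup A] (A' : Subgroup A) (N : ℕ) (hN : 0 < N)
    (htors : ∀ x : A ⧸ A', IsOfFinOrder x → x ^ N = 1) :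
    Function.Injective (profiniteCompletion.map (GrpCat.ofHom A'.subtype)).hom := by
  refine (injective_iff_map_eq_one (profiniteCompletion.map (GrpCat.ofHom A'.subtype)).hom).mpr ?_
  intro x hx
  apply ProfCompl.ext_elt
  intro U'
  obtain ⟨U, hU⟩ := exists_comap_le A' N hN htors U'
  have hle : U.comap A'.subtype ≤ U' := fun a' ha' => hU a' ha'
  have h1 := ProfCompl.map_apply_component A'.subtype x U
  rw [hx] at h1
  have h2 : QuotientGroup.map (U.comap A'.subtype).toSubgroup U.toSubgroup A'.subtype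
      (fun _ h => h) (x.1 (U.comap A'.subtype)) = 1 := h1.symm.trans (ProfCompl.one_val U)
  have h3 : (x.1 (U.comap A'.subtype) : A' ⧸ (U.comap A'.subtype).toSubgroup) = 1 := by
    obtain ⟨y, hy⟩ := QuotientGroup.mk_surjective
      (x.1 (U.comap A'.subtype) : A' ⧸ (U.comap A'.subtype).toSubgroup)
    rw [← hy] at h2 ⊢
    rw [QuotientGroup.map_mk, QuotientGroup.eq_one_iff] at h2
    exact (QuotientGroup.eq_one_iff _).mpr h2
  have h4 := ProfCompl.compat x hle
  rw [h3] at h4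
  exact h4.symm.trans ((map_one _).trans (ProfCompl.one_val U').symm)

end Groth.Agent.Lib.ResFin
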