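import Mathlib

/-!
# Serre splitting / Bass cancellation, part 1 (helper9)

Pure linear algebra over a field: ranks of finite families of vectors and the effect of the
Eisenbud–Evans modification `x i ↦ x i + c i • y`.
-/

set_option autoImplicit false
universe u v

namespace Groth.Agent.Serre9

open Module Submodule

section LinAlg

variable (K : Type*) [Field K] {V : Type*} [AddCommGroup V] [Module K V]

/-- The rank of a family of vectors: dimension of its span. -/
noncomputable def frk {ι : Type*} (x : ι → V) : ℕ := finrank K (span K (Set.range x))

/-- The Eisenbud–Evans modification of a family: drop the last vector `y` and replace the `i`-th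
by `x i + c i • y`. -/
def modv {A : Type*} {M : Type*} [Semiring A] [AddCommMonoid M] [Module A M] {n : ℕ}
    (m : Fin (n + 1) → M) (c : Fin n → A) : Fin n → M :=
  fun i => m i.castSucc + c i • m (Fin.last n)

variable [FiniteDimensional K V]

theorem frk_mono {ι ι' : Type*} {x : ι → V} {y : ι' → V}
    (h : span K (Set.range x) ≤ span K (Set.range y)) : frk K x ≤ frk K y :=
  Submodule.finrank_mono h

theorem span_le_modv {n : ℕ} (m : Fin (n + 1) → V) (c : Fin n → K) :
    span K (Set.range m) ≤ span K (Set.range (modv m c)) ⊔ span K {m (Fin.last n)} := by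
  rw [span_le]
  rintro _ ⟨i, rfl⟩
  have hy : m (Fin.last n) ∈ span K (Set.range (modv m c)) ⊔ span K {m (Fin.last n)} :=
    mem_sup_right (mem_span_singleton_self _)
  induction i using Fin.lastCases with
  | last => exact hy
  | cast j =>
    have h1 : modv m c j ∈ span K (Set.range (modv m c)) ⊔ span K {m (Fin.last n)} :=
      mem_sup_left (subset_span ⟨j, rfl⟩)
    have : m j.castSucc = modv m c j - c j • m (Fin.last n) := by simp [modv]
    rw [SetLike.mem_coe, this]
    exact sub_mem h1 (smul_mem _ _ hy)

theorem frk_le_modv_add_one {n : ℕ} (m : Fin (n + 1) → V) (c : Fin n → K) :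
    frk K m ≤ frk K (modv m c) + 1 := by
  unfold frk
  calc finrank K (span K (Set.range m))
      ≤ finrank K ↥(span K (Set.range (modv m c)) ⊔ span K {m (Fin.last n)}) :=
        Submodule.finrank_mono (span_le_modv K m c)
    _ ≤ finrank K (span K (Set.range (modv m c))) + finrank K (span K {m (Fin.last n)}) :=
        Submodule.finrank_add_le_finrank_add_finrank _ _
    _ ≤ finrank K (span K (Set.range (modv m c))) + 1 := by
        gcongr
        have := finrank_span_le_card (R := K) ({m (Fin.last n)} : Set V)
        simpa using this

/-- The improvement step: if the modified family has smaller rank than the original one and is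
not of full rank `n`, then changing one coefficient by any non-zero amount restores the rank. -/
theorem exists_update_modv {n : ℕ} (m : Fin (n + 1) → V) (c : Fin n → K)
    (h1 : frk K (modv m c) < frk K m) (h2 : frk K (modv m c) < n) :
    ∃ j : Fin n, ∀ r : K, r ≠ 0 →
      frk K m ≤ frk K (modv m (Function.update c j (c j + r))) := by
  classical
  set x := modv m c with hx
  set y := m (Fin.last n) with hy
  set W := span K (Set.range x) with hW
  have hmx : ∀ i : Fin n, m i.castSucc = x i - c i • y := fun i => by simp [hx, modv, hy]
  -- y ∉ W
  have hyW : y ∉ W := by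
    intro hyW
    have : span K (Set.range m) ≤ W := by
      rw [span_le]
      rintro _ ⟨i, rfl⟩
      induction i using Fin.lastCases with
      | last => exact hyW
      | cast j =>
        rw [SetLike.mem_coe, hmx j]
        exact sub_mem (subset_span ⟨j, rfl⟩) (smul_mem _ _ hyW)
    have := Submodule.finrank_mono this
    unfold frk at h1
    rw [← hW] at h1
    omega
  -- x is not linearly independent
  have hnli : ¬ LinearIndependent K x := by
    intro hli
    have := finrank_span_eq_card hli
    simp only [Fintype.card_fin] at this
    unfold frk at h2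
    omega
  rw [linearIndependent_iff_notMem_span] at hnli
  push Not at hnli
  obtain ⟨j, hj⟩ := hnli
  refine ⟨j, fun r hr => ?_⟩
  set c' := Function.update c j (c j + r) with hc'
  set x' := modv m c' with hx'
  set W' := span K (Set.range x') with hW'
  have hx'i : ∀ i, i ≠ j → x' i = x i := fun i hi => by
    simp [hx', hx, modv, hc', Function.update_of_ne hi]
  have hx'j : x' j = x j + r • y := by
    simp [hx', hx, modv, hc', add_smul, add_assoc, hy]
  -- W ≤ W'
  have h0 : span K (x '' (Set.univ \ {j})) ≤ W' := by
    rw [span_le]
    rintro _ ⟨i, hi, rfl⟩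
    have hij : i ≠ j := by simpa using hi
    rw [← hx'i i hij]
    exact subset_span ⟨i, rfl⟩
  have hxjW' : x j ∈ W' := h0 hj
  have hWW' : W ≤ W' := by
    rw [hW, span_le]
    rintro _ ⟨i, rfl⟩
    by_cases hij : i = j
    · rw [hij]; exact hxjW'
    · rw [← hx'i i hij]; exact subset_span ⟨i, rfl⟩
  have hyW' : y ∈ W' := by
    have h3 : x' j ∈ W' := subset_span ⟨j, rfl⟩
    rw [hx'j] at h3
    have h4 : r • y ∈ W' := by
      have := sub_mem h3 hxjW'
      simpa using this
    have := smul_mem W' r⁻¹ h4
    rwa [smul_smul, inv_mul_cancel₀ hr, one_smul] at this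
  apply frk_mono
  rw [span_le]
  rintro _ ⟨i, rfl⟩
  induction i using Fin.lastCases with
  | last => exact hyW'
  | cast i =>
    rw [SetLike.mem_coe, hmx i]
    exact sub_mem (hWW' (subset_span ⟨i, rfl⟩)) (smul_mem _ _ hyW')

/-- `w ≤ frk x` iff some `w` members of the family are linearly independent. -/
theorem le_frk_iff {ι : Type*} [Finite ι] (x : ι → V) (w : ℕ) :
    w ≤ frk K x ↔ ∃ t : Fin w → ι, LinearIndependent K (x ∘ t) := by
  classical
  constructor
  · intro h
    obtain ⟨b, hb, hspan, hli⟩ := exists_linearIndependent K (Set.range x)
    have hbfin : b.Finite := (Set.finite_range x).subset hb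
    haveI : Fintype b := hbfin.fintype
    have hcard : Fintype.card b = frk K x := by
      unfold frk
      rw [← hspan]
      have := finrank_span_eq_card hli
      rw [← this, Subtype.range_val]
    have hw : w ≤ Fintype.card b := by omega
    let e : Fin w ↪ b :=
      (Fin.castLEEmb hw).trans (Fintype.equivFin b).symm.toEmbedding
    have hch : ∀ v : b, ∃ i : ι, x i = v.1 := fun v => hb v.2
    choose g hg using hch
    refine ⟨fun k => g (e k), ?_⟩
    have : x ∘ (fun k => g (e k)) = (Subtype.val : b → V) ∘ e := by
      funext k
      simp [hg]
    rw [this]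
    exact hli.comp e e.injective
  · rintro ⟨t, ht⟩
    have h1 := finrank_span_eq_card ht
    simp only [Fintype.card_fin] at h1
    unfold frk
    rw [← h1]
    apply Submodule.finrank_mono
    apply span_mono
    rintro _ ⟨k, rfl⟩
    exact ⟨t k, rfl⟩

omit [FiniteDimensional K V] in
theorem frk_eq_finrank_of_span_eq_top {ι : Type*} (x : ι → V)
    (h : span K (Set.range x) = ⊤) : frk K x = finrank K V := by
  unfold frk
  rw [h, finrank_top]

omit [FiniteDimensional K V] in
theorem frk_le_card {n : ℕ} (x : Fin n → V) : frk K x ≤ n := by
  unfold frk
  have := finrank_range_le_card (R := K) x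
  simpa [Set.finrank] using this

end LinAlg

end Groth.Agent.Serre9
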