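import Mathlib
import Groth.Agent.Lib.Serre1_helper9

/-!
# Serre splitting / Bass cancellation, part 2 (helper9)

Fibres of a module at primes, the rank `rk p m` of a finite family of elements at a prime, and the
local (finitely many primes) Eisenbud–Evans modification lemma.
-/

set_option autoImplicit false
universe u v

namespace Groth.Agent.Serre9

open Module Submodule TensorProduct

variable {R : Type u} [CommRing R] {P : Type v} [AddCommGroup P] [Module R P]

/-- The fibre of `P` at a prime. -/
abbrev Fib (p : PrimeSpectrum R) (P : Type v) [AddCommGroup P] [Module R P] : Type _ :=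
  p.asIdeal.ResidueField ⊗[R] P

/-- `x ↦ 1 ⊗ x`. -/
noncomputable def toFib (p : PrimeSpectrum R) : P →ₗ[R] Fib p P :=
  TensorProduct.mk R p.asIdeal.ResidueField P 1

theorem toFib_apply (p : PrimeSpectrum R) (x : P) : toFib p x = (1 : p.asIdeal.ResidueField) ⊗ₜ[R] x := rfl

theorem toFib_smul (p : PrimeSpectrum R) (r : R) (x : P) :
    toFib p (r • x) = algebraMap R p.asIdeal.ResidueField r • toFib p x := by
  rw [map_smul, algebraMap_smul]

theorem toFib_smul_of_mem (p : PrimeSpectrum R) {r : R} (hr : r ∈ p.asIdeal) (x : P) :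
    toFib p (r • x) = 0 := by
  rw [toFib_smul, Ideal.algebraMap_residueField_eq_zero.mpr hr, zero_smul]

/-- The rank of a family of elements of `P` at the prime `p`. -/
noncomputable def rk (p : PrimeSpectrum R) {ι : Type*} (m : ι → P) : ℕ :=
  frk p.asIdeal.ResidueField (toFib p ∘ m)

theorem toFib_comp_modv (p : PrimeSpectrum R) {n : ℕ} (m : Fin (n + 1) → P) (a : Fin n → R) :
    toFib p ∘ modv m a =
      modv (toFib p ∘ m) (fun i => algebraMap R p.asIdeal.ResidueField (a i)) := by
  funext i
  simp [modv, toFib_smul]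

theorem rk_modv_congr (p : PrimeSpectrum R) {n : ℕ} (m : Fin (n + 1) → P) (a a' : Fin n → R)
    (h : ∀ i, a i - a' i ∈ p.asIdeal) : rk p (modv m a) = rk p (modv m a') := by
  unfold rk
  rw [toFib_comp_modv, toFib_comp_modv]
  congr 2
  funext i
  have := Ideal.algebraMap_residueField_eq_zero.mpr (h i)
  rw [map_sub, sub_eq_zero] at this
  exact this

variable [Module.Finite R P]

theorem rk_le_modv_add_one (p : PrimeSpectrum R) {n : ℕ} (m : Fin (n + 1) → P) (a : Fin n → R) :
    rk p m ≤ rk p (modv m a) + 1 := by
  unfold rk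
  rw [toFib_comp_modv]
  exact frk_le_modv_add_one _ _ _

/-- Single prime step. -/
theorem exists_step_prime (p : PrimeSpectrum R) {n : ℕ} (m : Fin (n + 1) → P) (a : Fin n → R)
    (r : R) (hr : r ∉ p.asIdeal) :
    ∃ b : Fin n → R, min n (rk p m) ≤ rk p (modv m (a + r • b)) := by
  classical
  by_cases h : min n (rk p m) ≤ rk p (modv m a)
  · exact ⟨0, by simpa using h⟩
  · rw [not_le, lt_min_iff] at h
    obtain ⟨h2, h1⟩ := h
    unfold rk at h1 h2
    rw [toFib_comp_modv] at h1 h2
    obtain ⟨j, hj⟩ := exists_update_modv _ _ _ h1 h2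
    have hr' : algebraMap R p.asIdeal.ResidueField r ≠ 0 := by
      rwa [ne_eq, Ideal.algebraMap_residueField_eq_zero]
    refine ⟨(Pi.single j 1 : Fin n → R), ?_⟩
    refine (min_le_right _ _).trans ?_
    have := hj _ hr'
    unfold rk
    rw [toFib_comp_modv]
    have heq : (fun i => algebraMap R p.asIdeal.ResidueField
        ((a + r • (Pi.single j 1 : Fin n → R)) i)) =
        Function.update (fun i => algebraMap R p.asIdeal.ResidueField (a i)) j
          (algebraMap R p.asIdeal.ResidueField (a j) + algebraMap R p.asIdeal.ResidueField r) := by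
      funext i
      by_cases hij : i = j
      · subst hij
        simp
      · simp [Function.update_of_ne hij, Pi.single_eq_of_ne hij]
    rw [heq]
    exact this

/-- The local Eisenbud–Evans lemma: for finitely many primes simultaneously, a modification can be
found which does not drop the rank (unless the rank was full). -/
theorem exists_local {n : ℕ} (m : Fin (n + 1) → P) (B : Finset (PrimeSpectrum R)) :
    ∃ a : Fin n → R, ∀ p ∈ B, min n (rk p m) ≤ rk p (modv m a) := by
  classical
  induction hB : B.card using Nat.strong_induction_on generalizing B with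
  | _ k ih =>
  rcases B.eq_empty_or_nonempty with rfl | hne
  · exact ⟨0, by simp⟩
  obtain ⟨p, hpB, hpmin⟩ := B.exists_minimal hne
  have hcard : (B.erase p).card < k := by
    rw [← hB]
    exact Finset.card_erase_lt_of_mem hpB
  obtain ⟨a, ha⟩ := ih _ hcard (B.erase p) rfl
  -- an element in all the other primes but not in p
  have hex : ∀ q ∈ B.erase p, ∃ r : R, r ∈ q.asIdeal ∧ r ∉ p.asIdeal := by
    intro q hq
    have hqB : q ∈ B := Finset.mem_of_mem_erase hq
    have hqp : q ≠ p := Finset.ne_of_mem_erase hq
    by_contra hcon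
    push Not at hcon
    have hle : q ≤ p := fun x hx => hcon x hx
    have := hpmin hqB hle
    exact hqp (le_antisymm hle this)
  choose! f hf using hex
  set r := ∏ q ∈ B.erase p, f q with hr
  have hrp : r ∉ p.asIdeal := by
    rw [hr, Ideal.IsPrime.prod_mem_iff]
    push Not
    intro q hq
    exact (hf q hq).2
  have hrq : ∀ q ∈ B.erase p, r ∈ q.asIdeal := by
    intro q hq
    obtain ⟨c, hc⟩ := Finset.dvd_prod_of_mem f hq
    rw [hr, hc]
    exact Ideal.mul_mem_right _ _ (hf q hq).1
  obtain ⟨b, hb⟩ := exists_step_prime p m a r hrp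
  refine ⟨a + r • b, fun q hq => ?_⟩
  by_cases hqp : q = p
  · rw [hqp]; exact hb
  · have hq' : q ∈ B.erase p := Finset.mem_erase.mpr ⟨hqp, hq⟩
    rw [rk_modv_congr q m (a + r • b) a]
    · exact ha q hq'
    · intro i
      simp only [Pi.add_apply, Pi.smul_apply, smul_eq_mul, add_sub_cancel_left]
      exact Ideal.mul_mem_right _ _ (hrq q hq')

end Groth.Agent.Serre9
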