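import Mathlib
import Groth.Agent.Lib.Serre2_helper9

/-!
# Serre splitting / Bass cancellation, part 3 (helper9)

Determinantal description of the rank of a family at a prime (for finite projective modules):
the locus `rk p m < w` is the zero locus of the ideal `minorIdeal m w`.
-/

set_option autoImplicit false
universe u v

namespace Groth.Agent.Serre9

open Module Submodule TensorProduct

variable {R : Type u} [CommRing R] {P : Type v} [AddCommGroup P] [Module R P]

/-- The functional on the fibre induced by a functional on `P`. -/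
noncomputable def fibFun (p : PrimeSpectrum R) (ψ : P →ₗ[R] R) :
    Fib p P →ₗ[p.asIdeal.ResidueField] p.asIdeal.ResidueField :=
  LinearMap.liftBaseChange p.asIdeal.ResidueField
    ((Algebra.linearMap R p.asIdeal.ResidueField) ∘ₗ ψ)

theorem fibFun_tmul (p : PrimeSpectrum R) (ψ : P →ₗ[R] R) (c : p.asIdeal.ResidueField) (x : P) :
    fibFun p ψ (c ⊗ₜ[R] x) = c * algebraMap R p.asIdeal.ResidueField (ψ x) := by
  simp [fibFun]

theorem fibFun_toFib (p : PrimeSpectrum R) (ψ : P →ₗ[R] R) (x : P) :
    fibFun p ψ (toFib p x) = algebraMap R p.asIdeal.ResidueField (ψ x) := by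
  rw [toFib_apply, fibFun_tmul, one_mul]

/-- Lemma A: a non-vanishing minor forces linear independence in the fibre. -/
theorem li_of_det_notMem (p : PrimeSpectrum R) {w : ℕ} (v : Fin w → P)
    (ψ : Fin w → (P →ₗ[R] R))
    (h : (Matrix.of fun i j => ψ j (v i)).det ∉ p.asIdeal) :
    LinearIndependent p.asIdeal.ResidueField (toFib p ∘ v) := by
  classical
  rw [Fintype.linearIndependent_iff]
  intro c hc
  set A : Matrix (Fin w) (Fin w) p.asIdeal.ResidueField :=
    (algebraMap R p.asIdeal.ResidueField).mapMatrix (Matrix.of fun i j => ψ j (v i)) with hA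
  have hdet : A.det ≠ 0 := by
    rw [hA, ← RingHom.map_det, ne_eq, Ideal.algebraMap_residueField_eq_zero]
    exact h
  have hvec : Matrix.vecMul c A = 0 := by
    funext j
    have := congrArg (fibFun p (ψ j)) hc
    simp only [map_sum, map_smul, Function.comp_apply, fibFun_toFib, map_zero, smul_eq_mul] at this
    simpa [Matrix.vecMul, dotProduct, hA] using this
  have := Matrix.eq_zero_of_vecMul_eq_zero hdet hvec
  intro i
  exact congrFun this i

variable [Module.Finite R P] [Module.Projective R P]

/-- Lemma B: linear independence in the fibre is detected by a minor. -/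
theorem exists_det_notMem_of_li (p : PrimeSpectrum R) {w : ℕ} (v : Fin w → P)
    (hli : LinearIndependent p.asIdeal.ResidueField (toFib p ∘ v)) :
    ∃ ψ : Fin w → (P →ₗ[R] R), (Matrix.of fun i j => ψ j (v i)).det ∉ p.asIdeal := by
  classical
  set κ := p.asIdeal.ResidueField with hκ
  obtain ⟨N, f, g, -, -, hfg⟩ := Module.Finite.exists_comp_eq_id_of_projective R P
  set gk : Fin N → (P →ₗ[R] R) := fun k => LinearMap.proj k ∘ₗ g with hgk
  set ek : Fin N → P := fun k => f (Pi.single k 1) with hek
  have hrec : ∀ x : P, x = ∑ k, gk k x • ek k := by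
    intro x
    have h1 : f (g x) = x := by
      have := congrArg (fun l => l x) hfg
      simpa using this
    conv_lhs => rw [← h1, pi_eq_sum_univ (g x)]
    simp only [map_sum, hgk, hek]
    refine Finset.sum_congr rfl fun k _ => ?_
    have : (fun j => if k = j then (1 : R) else 0) = Pi.single k 1 := by
      funext j
      simp [Pi.single_apply, eq_comm]
    rw [this]
    simp
  -- reconstruction in the fibre
  have hrecF : ∀ y : Fib p P, y = ∑ k, fibFun p (gk k) y • toFib p (ek k) := by
    intro y
    induction y using TensorProduct.induction_on with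
    | zero => simp
    | tmul c x =>
      simp only [fibFun_tmul]
      conv_lhs => rw [hrec x]
      rw [TensorProduct.tmul_sum]
      refine Finset.sum_congr rfl fun k _ => ?_
      rw [TensorProduct.tmul_smul, TensorProduct.smul_tmul', toFib_apply,
        TensorProduct.smul_tmul', Algebra.smul_def]
      simp [mul_comm]
    | add a b ha hb =>
      conv_lhs => rw [ha, hb]
      rw [← Finset.sum_add_distrib]
      refine Finset.sum_congr rfl fun k _ => ?_
      rw [map_add, add_smul]
  -- dual functionals
  set L : (Fin w → κ) →ₗ[κ] Fib p P := Fintype.linearCombination κ (toFib p ∘ v) with hL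
  have hLker : LinearMap.ker L = ⊥ := by
    rw [LinearMap.ker_eq_bot]
    intro a b hab
    have := (Fintype.linearIndependent_iff).mp hli (a - b) (by
      have h2 : L (a - b) = 0 := by rw [map_sub, hab, sub_self]
      simpa [hL, Fintype.linearCombination_apply] using h2)
    funext i
    exact sub_eq_zero.mp (this i)
  obtain ⟨G, hG⟩ := L.exists_leftInverse_of_injective hLker
  have hGv : ∀ i j, G (toFib p (v i)) j = if i = j then 1 else 0 := by
    intro i j
    have h1 : L (Pi.single i 1) = toFib p (v i) := by
      simp [hL, Fintype.linearCombination_apply, Pi.single_apply, Finset.sum_ite_eq']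
    have h2 : G (L (Pi.single i 1)) = Pi.single i 1 := by
      have := congrArg (fun l => l (Pi.single i 1)) hG
      simpa using this
    rw [← h1, h2, Pi.single_apply]
    simp [eq_comm]
  -- coefficients and common denominator
  set cf : Fin w × Fin N → κ := fun jk => G (toFib p (ek jk.2)) jk.1 with hcf
  obtain ⟨b, hb⟩ := IsLocalization.exist_integer_multiples_of_finite
    (nonZeroDivisors (R ⧸ p.asIdeal)) cf
  obtain ⟨s, hs⟩ := Ideal.Quotient.mk_surjective (b : R ⧸ p.asIdeal)
  have hsp : s ∉ p.asIdeal := by
    intro hsp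
    have : (b : R ⧸ p.asIdeal) = 0 := by
      rw [← hs]; exact Ideal.Quotient.eq_zero_iff_mem.mpr hsp
    exact nonZeroDivisors.coe_ne_zero b this
  have hA : ∀ jk, ∃ a : R, algebraMap R κ a = algebraMap R κ s * cf jk := by
    intro jk
    obtain ⟨y, hy⟩ := hb jk
    obtain ⟨a, rfl⟩ := Ideal.Quotient.mk_surjective y
    refine ⟨a, ?_⟩
    rw [Ideal.algebraMap_quotient_residueField_mk] at hy
    rw [hy, Algebra.smul_def, ← hs, Ideal.algebraMap_quotient_residueField_mk]
  choose A hAeq using hA
  refine ⟨fun j => ∑ k, A (j, k) • gk k, ?_⟩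
  -- the matrix is s • 1 modulo p
  have hentry : ∀ i j, algebraMap R κ ((∑ k, A (j, k) • gk k) (v i)) =
      if i = j then algebraMap R κ s else 0 := by
    intro i j
    rw [LinearMap.sum_apply, map_sum]
    have h1 : ∀ k, algebraMap R κ ((A (j, k) • gk k) (v i)) =
        algebraMap R κ s * (fibFun p (gk k) (toFib p (v i)) * G (toFib p (ek k)) j) := by
      intro k
      rw [LinearMap.smul_apply, smul_eq_mul, map_mul, hAeq, fibFun_toFib, hcf]
      ring
    simp_rw [h1]
    rw [← Finset.mul_sum]
    have h2 : ∑ k, fibFun p (gk k) (toFib p (v i)) * G (toFib p (ek k)) j =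
        G (toFib p (v i)) j := by
      conv_rhs => rw [hrecF (toFib p (v i))]
      simp [map_sum]
    rw [h2, hGv]
    split_ifs <;> simp
  intro hmem
  have hdet0 : algebraMap R κ (Matrix.of fun i j => (∑ k, A (j, k) • gk k) (v i)).det = 0 :=
    Ideal.algebraMap_residueField_eq_zero.mpr hmem
  rw [RingHom.map_det] at hdet0
  have hmat : (algebraMap R κ).mapMatrix (Matrix.of fun i j => (∑ k, A (j, k) • gk k) (v i)) =
      algebraMap R κ s • (1 : Matrix (Fin w) (Fin w) κ) := by
    ext i j
    simp only [RingHom.mapMatrix_apply, Matrix.map_apply, Matrix.of_apply, Matrix.smul_apply,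
      Matrix.one_apply, smul_eq_mul, mul_ite, mul_one, mul_zero]
    exact hentry i j
  rw [hmat, Matrix.det_smul, Matrix.det_one, mul_one] at hdet0
  have : algebraMap R κ s = 0 := by
    by_contra hne
    exact pow_ne_zero _ hne hdet0
  exact hsp (Ideal.algebraMap_residueField_eq_zero.mp this)

/-- The ideal of `w × w` minors of a family (with respect to all functionals). -/
def minorIdeal {ι : Type*} (m : ι → P) (w : ℕ) : Ideal R :=
  Ideal.span {D | ∃ (t : Fin w → ι) (ψ : Fin w → (P →ₗ[R] R)),
    D = (Matrix.of fun i j => ψ j (m (t i))).det}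

theorem rk_lt_iff {ι : Type*} [Finite ι] (p : PrimeSpectrum R) (m : ι → P) (w : ℕ) :
    rk p m < w ↔ minorIdeal m w ≤ p.asIdeal := by
  rw [← not_le]
  unfold rk
  rw [le_frk_iff]
  constructor
  · intro h
    unfold minorIdeal
    rw [Ideal.span_le]
    rintro _ ⟨t, ψ, rfl⟩
    by_contra hD
    exact h ⟨t, li_of_det_notMem p (m ∘ t) ψ hD⟩
  · rintro h ⟨t, ht⟩
    obtain ⟨ψ, hψ⟩ := exists_det_notMem_of_li p (m ∘ t) ht
    exact hψ (h (Ideal.subset_span ⟨t, ψ, rfl⟩))

end Groth.Agent.Serre9
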