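import Mathlib
import Groth.Agent.Lib.Serre3_helper9

/-!
# Serre splitting / Bass cancellation, part 4 (helper9)

The global Eisenbud–Evans step over a noetherian ring and the existence of basic elements.
-/

set_option autoImplicit false
universe u v

namespace Groth.Agent.Serre9

open Module Submodule TensorProduct

variable {R : Type u} [CommRing R] {P : Type v} [AddCommGroup P] [Module R P]
variable [Module.Finite R P] [Module.Projective R P]

/-- The global Eisenbud–Evans step. `δ` is a dimension function (strictly decreasing along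
specialisation) and `U` a generisation-stable set of primes. -/
theorem exists_step [IsNoetherianRing R] (δ : PrimeSpectrum R → ℕ)
    (hδ : ∀ p q : PrimeSpectrum R, p < q → δ q < δ p)
    (U : Set (PrimeSpectrum R)) (hU : ∀ p q : PrimeSpectrum R, q ≤ p → p ∈ U → q ∈ U)
    {n : ℕ} (m : Fin (n + 1) → P) (hm : ∀ p ∈ U, min (n + 1) (δ p + 1) ≤ rk p m) :
    ∃ a : Fin n → R, ∀ p ∈ U, min n (δ p + 1) ≤ rk p (modv m a) := by
  classical
  -- the finite exceptional set
  set E : Set (PrimeSpectrum R) :=
    ⋃ w ∈ Finset.range (n + 2), {p | p.asIdeal ∈ (minorIdeal m w).minimalPrimes} with hE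
  have hEfin : E.Finite := by
    rw [hE]
    refine Set.Finite.biUnion (Finset.finite_toSet _) fun w _ => ?_
    have h1 := (minorIdeal m w).finite_minimalPrimes_of_isNoetherianRing R
    refine Set.Finite.preimage ?_ h1
    intro p _ q _ hpq
    exact PrimeSpectrum.ext hpq
  obtain ⟨a, ha⟩ := exists_local m hEfin.toFinset
  refine ⟨a, fun p hpU => ?_⟩
  by_cases hbad : min n (δ p + 1) + 1 ≤ rk p m
  · have := rk_le_modv_add_one p m a
    omega
  · have hmp := hm p hpU
    have h1 : δ p + 1 ≤ n := by
      by_contra hcon
      rw [not_le] at hcon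
      have : min (n + 1) (δ p + 1) = n + 1 := by omega
      have : min n (δ p + 1) = n := by omega
      omega
    have hrk : rk p m = δ p + 1 := by
      have : min (n + 1) (δ p + 1) = δ p + 1 := by omega
      have : min n (δ p + 1) = δ p + 1 := by omega
      omega
    -- p is in the exceptional set
    have hpE : p ∈ E := by
      rw [hE]
      simp only [Set.mem_iUnion, Set.mem_setOf_eq, Finset.mem_range, exists_prop]
      refine ⟨δ p + 2, by omega, ?_⟩
      have hle : minorIdeal m (δ p + 2) ≤ p.asIdeal := by
        rw [← rk_lt_iff]; omega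
      obtain ⟨q, hq, hqp⟩ := Ideal.exists_minimalPrimes_le hle
      set q' : PrimeSpectrum R := ⟨q, hq.1.1⟩ with hq'
      by_cases hqeq : q' = p
      · have hpq : p.asIdeal = q := by rw [← hqeq]
        rw [hpq]; exact hq
      · exfalso
        have hlt : q' < p := lt_of_le_of_ne hqp hqeq
        have hq'U : q' ∈ U := hU p q' hqp hpU
        have h3 := hδ q' p hlt
        have h4 := hm q' hq'U
        have h5 : rk q' m < δ p + 2 := by
          rw [rk_lt_iff]; exact hq.1.2
        have : min (n + 1) (δ q' + 1) ≥ δ p + 2 := by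
          rw [ge_iff_le, le_min_iff]; omega
        omega
    have := ha p (by simpa using hpE)
    rw [hrk] at this
    exact this

/-- Iterating the step: a combination `m 0 + x`, with `x` in the span of the other members of the
family, is basic at every prime of `U`. -/
theorem exists_basic [IsNoetherianRing R] (δ : PrimeSpectrum R → ℕ)
    (hδ : ∀ p q : PrimeSpectrum R, p < q → δ q < δ p)
    (U : Set (PrimeSpectrum R)) (hU : ∀ p q : PrimeSpectrum R, q ≤ p → p ∈ U → q ∈ U)
    {n : ℕ} (m : Fin (n + 1) → P) (hm : ∀ p ∈ U, min (n + 1) (δ p + 1) ≤ rk p m) :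
    ∃ x ∈ span R (Set.range (Fin.tail m)), ∀ p ∈ U, 1 ≤ rk p (fun _ : Fin 1 => m 0 + x) := by
  induction n with
  | zero =>
    refine ⟨0, zero_mem _, fun p hp => ?_⟩
    have h1 := hm p hp
    have h2 : (fun _ : Fin 1 => m 0 + 0) = m := by
      funext i
      rw [add_zero]
      congr 1
      exact (Fin.fin_one_eq_zero i).symm
    rw [h2]
    have : min (0 + 1) (δ p + 1) = 1 := by omega
    omega
  | succ n ih =>
    obtain ⟨a, ha⟩ := exists_step δ hδ U hU m hm
    obtain ⟨x', hx', hx'U⟩ := ih (modv m a) ha
    refine ⟨a 0 • m (Fin.last (n + 1)) + x', ?_, fun p hp => ?_⟩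
    · have hlast : m (Fin.last (n + 1)) ∈ span R (Set.range (Fin.tail m)) := by
        apply subset_span
        refine ⟨Fin.last n, ?_⟩
        simp [Fin.tail]
      refine add_mem (smul_mem _ _ hlast) ?_
      refine span_le.mpr ?_ hx'
      rintro _ ⟨i, rfl⟩
      have : Fin.tail (modv m a) i =
          Fin.tail m i.castSucc + a i.succ • m (Fin.last (n + 1)) := by
        simp [Fin.tail, modv]
      rw [SetLike.mem_coe, this]
      exact add_mem (subset_span ⟨_, rfl⟩) (smul_mem _ _ hlast)
    · have := hx'U p hp
      have heq : (fun _ : Fin 1 => modv m a 0 + x') =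
          (fun _ : Fin 1 => m 0 + (a 0 • m (Fin.last (n + 1)) + x')) := by
        funext _
        simp [modv, add_assoc]
      rw [← heq]
      exact this

omit [Module.Finite R P] [Module.Projective R P] in
theorem toFib_ne_zero_of_rk (p : PrimeSpectrum R) (x : P)
    (h : 1 ≤ rk p (fun _ : Fin 1 => x)) : toFib p x ≠ 0 := by
  intro h0
  unfold rk frk at h
  have : span p.asIdeal.ResidueField (Set.range (toFib p ∘ fun _ : Fin 1 => x)) = ⊥ := by
    rw [span_eq_bot]
    rintro _ ⟨i, rfl⟩
    simpa using h0
  rw [this, finrank_bot] at h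
  omega

/-- A basic element of a finite projective module is unimodular. -/
theorem exists_functional_of_toFib_ne_zero (x : P)
    (h : ∀ p : PrimeSpectrum R, toFib p x ≠ 0) : ∃ φ : P →ₗ[R] R, φ x = 1 := by
  classical
  set J : Ideal R := LinearMap.range (LinearMap.applyₗ (R := R) (M₂ := R) x) with hJ
  have hJtop : J = ⊤ := by
    by_contra hne
    obtain ⟨M, hM, hJM⟩ := Ideal.exists_le_maximal J hne
    set p : PrimeSpectrum R := ⟨M, hM.isPrime⟩ with hp
    have hli : LinearIndependent p.asIdeal.ResidueField (toFib p ∘ fun _ : Fin 1 => x) := by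
      rw [Fintype.linearIndependent_iff]
      intro c hc i
      have h1 : c 0 • toFib p x = 0 := by simpa using hc
      have h2 : c 0 = 0 := by
        rcases smul_eq_zero.mp h1 with h | h'
        · exact h
        · exact absurd h' (h p)
      have : i = 0 := Subsingleton.elim _ _
      rw [this, h2]
    obtain ⟨ψ, hψ⟩ := exists_det_notMem_of_li p (fun _ : Fin 1 => x) hli
    apply hψ
    have : (Matrix.of fun i j => ψ j ((fun _ : Fin 1 => x) i)).det = ψ 0 x := by
      simp
    rw [this]
    apply hJM
    rw [hJ]
    exact ⟨ψ 0, rfl⟩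
  have h1 : (1 : R) ∈ J := by rw [hJtop]; trivial
  obtain ⟨φ, hφ⟩ := h1
  exact ⟨φ, hφ⟩

end Groth.Agent.Serre9
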