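import Mathlib
import Groth.Agent.Lib.Serre4_helper9

/-!
# Serre splitting / Bass cancellation, part 5 (helper9)

Serre's splitting theorem: a finite projective module of constant rank `n > dim R` over a
noetherian ring has a unimodular element; iterated version.
-/

set_option autoImplicit false
universe u v

namespace Groth.Agent.Serre9

open Module Submodule TensorProduct

section
variable {R : Type u} [CommRing R] {P : Type v} [AddCommGroup P] [Module R P]

theorem span_toFib_eq_top (p : PrimeSpectrum R) {ι : Type*} (m : ι → P)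
    (h : span R (Set.range m) = ⊤) :
    span p.asIdeal.ResidueField (Set.range (toFib p ∘ m)) = ⊤ := by
  have h1 := Submodule.baseChange_span (R := R) (A := p.asIdeal.ResidueField) (Set.range m)
  rw [h, Submodule.baseChange_top] at h1
  rw [Set.range_comp]
  exact h1.symm

theorem rk_eq_rankAtStalk [Module.Finite R P] [Module.Flat R P] (p : PrimeSpectrum R)
    {ι : Type*} (m : ι → P)
    (h : span p.asIdeal.ResidueField (Set.range (toFib p ∘ m)) = ⊤) :
    rk p m = rankAtStalk P p := by
  unfold rk
  rw [frk_eq_finrank_of_span_eq_top _ _ h, rankAtStalk_eq]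

/-- The coheight dimension function. -/
noncomputable def cohtNat (p : PrimeSpectrum R) : ℕ := (Order.coheight p).toNat

theorem coheight_le_of_dim {d : ℕ} (hdim : ringKrullDim R ≤ d) (p : PrimeSpectrum R) :
    Order.coheight p ≤ (d : ℕ∞) := by
  have h1 : (Order.coheight p : WithBot ℕ∞) ≤ Order.krullDim (PrimeSpectrum R) :=
    Order.coheight_le_krullDim p
  have h2 : (Order.coheight p : WithBot ℕ∞) ≤ ((d : ℕ∞) : WithBot ℕ∞) := h1.trans hdim
  exact_mod_cast h2

theorem cohtNat_le {d : ℕ} (hdim : ringKrullDim R ≤ d) (p : PrimeSpectrum R) :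
    cohtNat p ≤ d := by
  have := coheight_le_of_dim hdim p
  unfold cohtNat
  exact ENat.toNat_le_of_le_coe this

theorem cohtNat_lt {d : ℕ} (hdim : ringKrullDim R ≤ d) (p q : PrimeSpectrum R) (h : p < q) :
    cohtNat q < cohtNat p := by
  have h1 := Order.coheight_add_one_le h
  have hp := coheight_le_of_dim hdim p
  have hq := coheight_le_of_dim hdim q
  unfold cohtNat
  lift Order.coheight p to ℕ using ne_top_of_le_ne_top (ENat.coe_ne_top d) hp with a ha
  lift Order.coheight q to ℕ using ne_top_of_le_ne_top (ENat.coe_ne_top d) hq with b hb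
  simp only [ENat.toNat_coe]
  have : (b : ℕ∞) + 1 ≤ a := h1
  exact_mod_cast this

/-- Serre's theorem: existence of a unimodular element. -/
theorem serre_unimodular [IsNoetherianRing R] [Module.Finite R P] [Module.Projective R P]
    (d n : ℕ) (hdim : ringKrullDim R ≤ d)
    (hrk : ∀ p : PrimeSpectrum R, rankAtStalk P p = n) (hnd : d < n) :
    ∃ (x : P) (φ : P →ₗ[R] R), φ x = 1 := by
  classical
  obtain ⟨k, s, hs⟩ := Module.Finite.exists_fin (R := R) (M := P)
  set m : Fin (k + 1) → P := Fin.cons 0 s with hm
  have htail : Fin.tail m = s := by simp [hm]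
  have hspan : span R (Set.range m) = ⊤ := by
    rw [eq_top_iff, ← hs]
    apply span_mono
    rintro _ ⟨i, rfl⟩
    exact ⟨i.succ, by simp [hm]⟩
  have hrkm : ∀ p : PrimeSpectrum R, rk p m = n := fun p => by
    rw [rk_eq_rankAtStalk p m (span_toFib_eq_top p m hspan), hrk]
  obtain ⟨x, -, hx⟩ := exists_basic (R := R) (P := P) cohtNat (cohtNat_lt hdim) Set.univ
    (fun _ _ _ _ => trivial) m (fun p _ => by
      rw [hrkm]
      have := cohtNat_le hdim p
      refine (min_le_right _ _).trans ?_
      omega)
  have hne : ∀ p : PrimeSpectrum R, toFib p (m 0 + x) ≠ 0 :=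
    fun p => toFib_ne_zero_of_rk p _ (hx p trivial)
  obtain ⟨φ, hφ⟩ := exists_functional_of_toFib_ne_zero (m 0 + x) hne
  exact ⟨_, φ, hφ⟩

end

section Split

variable {R : Type u} [CommRing R]

/-- Splitting a module along a unimodular element. -/
noncomputable def splitEquiv {P : Type v} [AddCommGroup P] [Module R P] (x : P) (φ : P →ₗ[R] R)
    (h : φ x = 1) : P ≃ₗ[R] (LinearMap.ker φ × R) :=
  LinearEquiv.ofLinear
    (LinearMap.prod
      (LinearMap.codRestrict (LinearMap.ker φ) (LinearMap.id - φ.smulRight x) (fun y => by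
        simp [LinearMap.mem_ker, h]))
      φ)
    (LinearMap.coprod (LinearMap.ker φ).subtype (LinearMap.toSpanSingleton R P x))
    (by
      apply LinearMap.ext
      rintro ⟨⟨z, hz⟩, r⟩
      have hz' : φ z = 0 := hz
      apply Prod.ext
      · apply Subtype.ext
        simp [hz', h]
      · simp [hz', h])
    (by
      apply LinearMap.ext
      intro y
      simp)

/-- Iterated Serre splitting, in the form of a split surjection onto a free module. -/
theorem serre_split [IsNoetherianRing R] (d : ℕ) (hdim : ringKrullDim R ≤ d) :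
    ∀ (k n : ℕ) (P : Type v) [AddCommGroup P] [Module R P] [Module.Finite R P]
      [Module.Projective R P],
      (∀ p : PrimeSpectrum R, rankAtStalk P p = n) → d + k ≤ n →
      ∃ (f : P →ₗ[R] (Fin k → R)) (g : (Fin k → R) →ₗ[R] P), f ∘ₗ g = LinearMap.id := by
  intro k
  induction k with
  | zero =>
    intro n P _ _ _ _ _ _
    refine ⟨0, 0, ?_⟩
    apply LinearMap.ext
    intro c
    exact Subsingleton.elim _ _
  | succ k ih =>
    intro n P _ _ _ _ hrk hdk
    rcases subsingleton_or_nontrivial R with hR | hR
    · refine ⟨0, 0, ?_⟩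
      apply LinearMap.ext
      intro c
      haveI : Subsingleton (Fin (k + 1) → R) := inferInstance
      exact Subsingleton.elim _ _
    obtain ⟨x, φ, hφ⟩ := serre_unimodular (P := P) d n hdim hrk (by omega)
    set e := splitEquiv x φ hφ with he
    -- the kernel is finite projective of rank n - 1
    haveI : Module.Finite R (LinearMap.ker φ) :=
      Module.Finite.of_surjective ((LinearMap.fst R (LinearMap.ker φ) R) ∘ₗ e.toLinearMap)
        (fun z => ⟨e.symm (z, 0), by simp⟩)
    haveI : Module.Projective R (LinearMap.ker φ) :=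
      Module.Projective.of_split (e.symm.toLinearMap ∘ₗ LinearMap.inl R (LinearMap.ker φ) R)
        ((LinearMap.fst R (LinearMap.ker φ) R) ∘ₗ e.toLinearMap) (by
          apply LinearMap.ext
          intro z
          simp)
    have hrk1 : ∀ p : PrimeSpectrum R, rankAtStalk (LinearMap.ker φ) p = n - 1 := by
      intro p
      have h1 := rankAtStalk_eq_of_equiv (R := R) e
      have h2 := rankAtStalk_prod (R := R) (LinearMap.ker φ) R
      have h3 := congrFun (h1.trans h2) p
      rw [hrk p] at h3
      simp only [Pi.add_apply, rankAtStalk_self, Pi.one_apply] at h3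
      omega
    obtain ⟨f₁, g₁, hfg₁⟩ := ih (n - 1) (LinearMap.ker φ) hrk1 (by omega)
    have hfg₁' : ∀ c, f₁ (g₁ c) = c := fun c => by
      have := congrArg (fun l => l c) hfg₁
      simpa using this
    set E := Fin.consLinearEquiv R (fun _ : Fin (k + 1) => R) with hE
    refine ⟨E.toLinearMap ∘ₗ (LinearMap.prod (LinearMap.snd R (LinearMap.ker φ) R)
        (f₁ ∘ₗ LinearMap.fst R (LinearMap.ker φ) R)) ∘ₗ e.toLinearMap,
      e.symm.toLinearMap ∘ₗ (LinearMap.prod (g₁ ∘ₗ LinearMap.snd R R (Fin k → R))
        (LinearMap.fst R R (Fin k → R))) ∘ₗ E.symm.toLinearMap, ?_⟩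
    apply LinearMap.ext
    intro c
    obtain ⟨⟨r, c'⟩, rfl⟩ := E.surjective c
    simp only [LinearMap.coe_comp, LinearEquiv.coe_coe, Function.comp_apply,
      LinearEquiv.symm_apply_apply, LinearEquiv.apply_symm_apply, LinearMap.id_coe, id_eq]
    congr 1
    simp [hfg₁']

/-- Serre's splitting theorem in the complement form. -/
theorem serre_isCompl [IsNoetherianRing R] (d n : ℕ) (hdim : ringKrullDim R ≤ d)
    (P : Type v) [AddCommGroup P] [Module R P] [Module.Finite R P] [Module.Projective R P]
    (hrk : ∀ p : PrimeSpectrum R, rankAtStalk P p = n) (k : ℕ) (hk : d + k ≤ n) :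
    ∃ (P₀ Q : Submodule R P), IsCompl P₀ Q ∧ Nonempty (Q ≃ₗ[R] (Fin k → R)) := by
  obtain ⟨f, g, hfg⟩ := serre_split d hdim k n P hrk hk
  have hfg' : ∀ c, f (g c) = c := fun c => by
    have := congrArg (fun l => l c) hfg
    simpa using this
  have hginj : Function.Injective g := Function.LeftInverse.injective hfg'
  refine ⟨LinearMap.ker f, LinearMap.range g, ?_, ⟨(LinearEquiv.ofInjective g hginj).symm⟩⟩
  constructor
  · rw [Submodule.disjoint_def]
    rintro y hy ⟨c, rfl⟩
    have : f (g c) = 0 := hy
    rw [hfg'] at this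
    rw [this, map_zero]
  · rw [codisjoint_iff, eq_top_iff]
    intro y _
    have : y = (y - g (f y)) + g (f y) := by abel
    rw [this]
    refine Submodule.add_mem_sup ?_ ⟨f y, rfl⟩
    simp [LinearMap.mem_ker, hfg']

end Split

end Groth.Agent.Serre9
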