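import Mathlib
import Groth.Agent.Lib.Serre5_helper9

/-!
# Serre splitting for finitely presented modules, part 1 (helper9)

The "dual fibre" of a module `M` at a prime `p`: the image of `κ(p) ⊗ M` in the space of functions
`(M →ₗ[R] R) → κ(p)`.  The rank of a family of elements in the dual fibre, and the local
Eisenbud–Evans modification lemma.
-/

set_option autoImplicit false
universe u v

namespace Groth.Agent.Serre9

open Module Submodule TensorProduct

variable {R : Type u} [CommRing R] {M : Type v} [AddCommGroup M] [Module R M]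

/-- The evaluation map from the fibre to functions on the dual. -/
noncomputable def dTheta (p : PrimeSpectrum R) (M : Type v) [AddCommGroup M] [Module R M] :
    Fib p M →ₗ[p.asIdeal.ResidueField] ((M →ₗ[R] R) → p.asIdeal.ResidueField) :=
  LinearMap.pi fun ψ => fibFun p ψ

/-- The dual fibre. -/
abbrev DFib (p : PrimeSpectrum R) (M : Type v) [AddCommGroup M] [Module R M] : Type _ :=
  LinearMap.range (dTheta p M)

/-- The map to the dual fibre. -/
noncomputable def toD (p : PrimeSpectrum R) (x : M) : DFib p M :=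
  ⟨dTheta p M (toFib p x), LinearMap.mem_range_self _ _⟩

theorem toD_val (p : PrimeSpectrum R) (x : M) (ψ : M →ₗ[R] R) :
    (toD p x).1 ψ = algebraMap R p.asIdeal.ResidueField (ψ x) := by
  simp [toD, dTheta, fibFun_toFib]

theorem toD_add (p : PrimeSpectrum R) (x y : M) : toD p (x + y) = toD p x + toD p y := by
  apply Subtype.ext
  simp [toD]

theorem toD_zero (p : PrimeSpectrum R) : toD p (0 : M) = 0 := by
  apply Subtype.ext
  simp [toD]

theorem toD_smul (p : PrimeSpectrum R) (r : R) (x : M) :
    toD p (r • x) = algebraMap R p.asIdeal.ResidueField r • toD p x := by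
  apply Subtype.ext
  simp [toD, toFib_smul]

theorem toD_smul_of_mem (p : PrimeSpectrum R) {r : R} (hr : r ∈ p.asIdeal) (x : M) :
    toD p (r • x) = 0 := by
  rw [toD_smul, Ideal.algebraMap_residueField_eq_zero.mpr hr, zero_smul]

/-- The evaluation functional on the dual fibre. -/
noncomputable def evD (p : PrimeSpectrum R) (ψ : M →ₗ[R] R) :
    DFib p M →ₗ[p.asIdeal.ResidueField] p.asIdeal.ResidueField :=
  (LinearMap.proj ψ) ∘ₗ (Submodule.subtype _)

theorem evD_toD (p : PrimeSpectrum R) (ψ : M →ₗ[R] R) (x : M) :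
    evD p ψ (toD p x) = algebraMap R p.asIdeal.ResidueField (ψ x) := by
  simp [evD, toD_val]

theorem eq_zero_of_evD (p : PrimeSpectrum R) (v : DFib p M) (h : ∀ ψ, evD p ψ v = 0) : v = 0 := by
  apply Subtype.ext
  funext ψ
  exact h ψ

theorem span_toD_eq_top (p : PrimeSpectrum R) {ι : Type*} (m : ι → M)
    (h : span R (Set.range m) = ⊤) :
    span p.asIdeal.ResidueField (Set.range (toD p ∘ m)) = ⊤ := by
  have h1 := span_toFib_eq_top p m h
  have h2 : Set.range (toD p ∘ m) =
      (LinearMap.rangeRestrict (dTheta p M)) '' Set.range (toFib p ∘ m) := by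
    rw [← Set.range_comp]
    rfl
  rw [h2, ← Submodule.map_span, h1, Submodule.map_top, LinearMap.range_rangeRestrict]

/-- The rank of a family of elements of `M` in the dual fibre at `p`. -/
noncomputable def rkD (p : PrimeSpectrum R) {ι : Type*} (m : ι → M) : ℕ :=
  frk p.asIdeal.ResidueField (toD p ∘ m)

theorem toD_comp_modv (p : PrimeSpectrum R) {n : ℕ} (m : Fin (n + 1) → M) (a : Fin n → R) :
    toD p ∘ modv m a =
      modv (toD p ∘ m) (fun i => algebraMap R p.asIdeal.ResidueField (a i)) := by
  funext i
  simp [modv, toD_smul, toD_add]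

theorem rkD_modv_congr (p : PrimeSpectrum R) {n : ℕ} (m : Fin (n + 1) → M) (a a' : Fin n → R)
    (h : ∀ i, a i - a' i ∈ p.asIdeal) : rkD p (modv m a) = rkD p (modv m a') := by
  unfold rkD
  rw [toD_comp_modv, toD_comp_modv]
  congr 2
  funext i
  have := Ideal.algebraMap_residueField_eq_zero.mpr (h i)
  rw [map_sub, sub_eq_zero] at this
  exact this

variable [Module.Finite R M]

theorem rkD_le_modv_add_one (p : PrimeSpectrum R) {n : ℕ} (m : Fin (n + 1) → M) (a : Fin n → R) :
    rkD p m ≤ rkD p (modv m a) + 1 := by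
  unfold rkD
  rw [toD_comp_modv]
  exact frk_le_modv_add_one _ _ _

/-- Single prime step. -/
theorem exists_step_primeD (p : PrimeSpectrum R) {n : ℕ} (m : Fin (n + 1) → M) (a : Fin n → R)
    (r : R) (hr : r ∉ p.asIdeal) :
    ∃ b : Fin n → R, min n (rkD p m) ≤ rkD p (modv m (a + r • b)) := by
  classical
  by_cases h : min n (rkD p m) ≤ rkD p (modv m a)
  · exact ⟨0, by simpa using h⟩
  · rw [not_le, lt_min_iff] at h
    obtain ⟨h2, h1⟩ := h
    unfold rkD at h1 h2
    rw [toD_comp_modv] at h1 h2
    obtain ⟨j, hj⟩ := exists_update_modv _ _ _ h1 h2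
    have hr' : algebraMap R p.asIdeal.ResidueField r ≠ 0 := by
      rwa [ne_eq, Ideal.algebraMap_residueField_eq_zero]
    refine ⟨(Pi.single j 1 : Fin n → R), ?_⟩
    refine (min_le_right _ _).trans ?_
    have := hj _ hr'
    unfold rkD
    rw [toD_comp_modv]
    have heq : (fun i => algebraMap R p.asIdeal.ResidueField
        ((a + r • (Pi.single j 1 : Fin n → R)) i)) =
        Function.update (fun i => algebraMap R p.asIdeal.ResidueField (a i)) j
          (algebraMap R p.asIdeal.ResidueField (a j) + algebraMap R p.asIdeal.ResidueField r) := by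
      funext i
      by_cases hij : i = j
      · subst hij
        simp
      · simp [Function.update_of_ne hij, Pi.single_eq_of_ne hij]
    rw [heq]
    exact this

/-- The local Eisenbud–Evans lemma in the dual fibres. -/
theorem exists_localD {n : ℕ} (m : Fin (n + 1) → M) (B : Finset (PrimeSpectrum R)) :
    ∃ a : Fin n → R, ∀ p ∈ B, min n (rkD p m) ≤ rkD p (modv m a) := by
  classical
  induction hB : B.card using Nat.strong_induction_on generalizing B with
  | _ k ih =>
  rcases B.eq_empty_or_nonempty with rfl | hne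
  · exact ⟨0, by simp⟩
  obtain ⟨p, hpB, hpmin⟩ := B.exists_minimal hne
  have hcard : (B.erase p).card < k := by
    rw [← hB]
    exact Finset.card_erase_lt_of_mem hpB
  obtain ⟨a, ha⟩ := ih _ hcard (B.erase p) rfl
  have hex : ∀ q ∈ B.erase p, ∃ r : R, r ∈ q.asIdeal ∧ r ∉ p.asIdeal := by
    intro q hq
    have hqB : q ∈ B := Finset.mem_of_mem_erase hq
    have hqp : q ≠ p := Finset.ne_of_mem_erase hq
    by_contra hcon
    push Not at hcon
    have hle : q ≤ p := fun x hx => hcon x hx
    have := hpmin hqB hle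
    exact hqp (le_antisymm hle this)
  choose! f hf using hex
  set r := ∏ q ∈ B.erase p, f q with hr
  have hrp : r ∉ p.asIdeal := by
    rw [hr, Ideal.IsPrime.prod_mem_iff]
    push Not
    intro q hq
    exact (hf q hq).2
  have hrq : ∀ q ∈ B.erase p, r ∈ q.asIdeal := by
    intro q hq
    obtain ⟨c, hc⟩ := Finset.dvd_prod_of_mem f hq
    rw [hr, hc]
    exact Ideal.mul_mem_right _ _ (hf q hq).1
  obtain ⟨b, hb⟩ := exists_step_primeD p m a r hrp
  refine ⟨a + r • b, fun q hq => ?_⟩
  by_cases hqp : q = p
  · rw [hqp]; exact hb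
  · have hq' : q ∈ B.erase p := Finset.mem_erase.mpr ⟨hqp, hq⟩
    rw [rkD_modv_congr q m (a + r • b) a]
    · exact ha q hq'
    · intro i
      simp only [Pi.add_apply, Pi.smul_apply, smul_eq_mul, add_sub_cancel_left]
      exact Ideal.mul_mem_right _ _ (hrq q hq')

end Groth.Agent.Serre9
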