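import Mathlib
import Groth.Agent.Lib.SerreB1_helper9

/-!
# Serre splitting for finitely presented modules, part 2 (helper9)

Determinantal description of the rank in the dual fibres.
-/

set_option autoImplicit false
universe u v

namespace Groth.Agent.Serre9

open Module Submodule TensorProduct

variable {R : Type u} [CommRing R] {M : Type v} [AddCommGroup M] [Module R M]

theorem fibFun_add (p : PrimeSpectrum R) (ψ₁ ψ₂ : M →ₗ[R] R) (y : Fib p M) :
    fibFun p (ψ₁ + ψ₂) y = fibFun p ψ₁ y + fibFun p ψ₂ y := by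
  induction y using TensorProduct.induction_on with
  | zero => simp
  | tmul c x => simp [fibFun_tmul, mul_add]
  | add a b ha hb => simp only [map_add, ha, hb]; ring

theorem fibFun_smul (p : PrimeSpectrum R) (r : R) (ψ : M →ₗ[R] R) (y : Fib p M) :
    fibFun p (r • ψ) y = algebraMap R p.asIdeal.ResidueField r * fibFun p ψ y := by
  induction y using TensorProduct.induction_on with
  | zero => simp
  | tmul c x => simp [fibFun_tmul]; ring
  | add a b ha hb => simp only [map_add, ha, hb]; ring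

theorem evD_add (p : PrimeSpectrum R) (ψ₁ ψ₂ : M →ₗ[R] R) :
    evD p (ψ₁ + ψ₂) = evD p ψ₁ + evD p ψ₂ := by
  apply LinearMap.ext
  rintro ⟨_, y, rfl⟩
  change fibFun p (ψ₁ + ψ₂) y = fibFun p ψ₁ y + fibFun p ψ₂ y
  exact fibFun_add p ψ₁ ψ₂ y

theorem evD_smul (p : PrimeSpectrum R) (r : R) (ψ : M →ₗ[R] R) :
    evD p (r • ψ) = algebraMap R p.asIdeal.ResidueField r • evD p ψ := by
  apply LinearMap.ext
  rintro ⟨_, y, rfl⟩
  change fibFun p (r • ψ) y = algebraMap R p.asIdeal.ResidueField r • fibFun p ψ y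
  rw [smul_eq_mul]
  exact fibFun_smul p r ψ y

theorem evD_zero (p : PrimeSpectrum R) : evD p (0 : M →ₗ[R] R) = 0 := by
  have := evD_smul p (0 : R) (0 : M →ₗ[R] R)
  simpa using this

theorem exists_frac (p : PrimeSpectrum R) (c : p.asIdeal.ResidueField) :
    ∃ (a t : R), t ∉ p.asIdeal ∧
      algebraMap R p.asIdeal.ResidueField t * c = algebraMap R p.asIdeal.ResidueField a := by
  obtain ⟨⟨x, y⟩, hxy⟩ := IsLocalization.surj (nonZeroDivisors (R ⧸ p.asIdeal)) c
  obtain ⟨a, rfl⟩ := Ideal.Quotient.mk_surjective x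
  obtain ⟨t, ht⟩ := Ideal.Quotient.mk_surjective (y : R ⧸ p.asIdeal)
  refine ⟨a, t, ?_, ?_⟩
  · intro htp
    have : (y : R ⧸ p.asIdeal) = 0 := by
      rw [← ht]; exact Ideal.Quotient.eq_zero_iff_mem.mpr htp
    exact nonZeroDivisors.coe_ne_zero y this
  · simp only at hxy
    rw [← ht, Ideal.algebraMap_quotient_residueField_mk,
      Ideal.algebraMap_quotient_residueField_mk] at hxy
    rw [mul_comm]; exact hxy

/-- Lemma A in the dual fibre. -/
theorem liD_of_det_notMem (p : PrimeSpectrum R) {w : ℕ} (v : Fin w → M)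
    (ψ : Fin w → (M →ₗ[R] R))
    (h : (Matrix.of fun i j => ψ j (v i)).det ∉ p.asIdeal) :
    LinearIndependent p.asIdeal.ResidueField (toD p ∘ v) := by
  classical
  rw [Fintype.linearIndependent_iff]
  intro c hc
  set A : Matrix (Fin w) (Fin w) p.asIdeal.ResidueField :=
    (algebraMap R p.asIdeal.ResidueField).mapMatrix (Matrix.of fun i j => ψ j (v i)) with hA
  have hdet : A.det ≠ 0 := by
    rw [hA, ← RingHom.map_det, ne_eq, Ideal.algebraMap_residueField_eq_zero]
    exact h
  have hvec : Matrix.vecMul c A = 0 := by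
    funext j
    have := congrArg (evD p (ψ j)) hc
    simp only [map_sum, map_smul, Function.comp_apply, evD_toD, map_zero, smul_eq_mul] at this
    simpa [Matrix.vecMul, dotProduct, hA] using this
  have := Matrix.eq_zero_of_vecMul_eq_zero hdet hvec
  intro i
  exact congrFun this i

variable [Module.Finite R M]

theorem span_evD_eq_top (p : PrimeSpectrum R) :
    span p.asIdeal.ResidueField (Set.range (evD (M := M) p)) = ⊤ := by
  set W : Subspace p.asIdeal.ResidueField (Dual p.asIdeal.ResidueField (DFib p M)) :=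
    span p.asIdeal.ResidueField (Set.range (evD (M := M) p)) with hW
  have h1 : W.dualCoannihilator = ⊥ := by
    rw [eq_bot_iff]
    intro v hv
    rw [Submodule.mem_dualCoannihilator] at hv
    rw [Submodule.mem_bot]
    apply eq_zero_of_evD
    intro ψ
    exact hv _ (subset_span ⟨ψ, rfl⟩)
  have h2 := Subspace.dualCoannihilator_dualAnnihilator_eq (W := W)
  rw [h1, Submodule.dualAnnihilator_bot] at h2
  exact h2.symm

omit [Module.Finite R M] in
theorem exists_smul_eq_evD (p : PrimeSpectrum R)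
    (φ : Dual p.asIdeal.ResidueField (DFib p M))
    (hφ : φ ∈ span p.asIdeal.ResidueField (Set.range (evD (M := M) p))) :
    ∃ (s : R) (ψ : M →ₗ[R] R), s ∉ p.asIdeal ∧
      algebraMap R p.asIdeal.ResidueField s • φ = evD p ψ := by
  induction hφ using Submodule.span_induction with
  | mem x hx =>
    obtain ⟨ψ, rfl⟩ := hx
    exact ⟨1, ψ, (Ideal.ne_top_iff_one _).mp p.isPrime.ne_top, by simp⟩
  | zero => exact ⟨1, 0, (Ideal.ne_top_iff_one _).mp p.isPrime.ne_top, by simp [evD_zero]⟩
  | add x y _ _ hx hy =>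
    obtain ⟨s₁, ψ₁, hs₁, h₁⟩ := hx
    obtain ⟨s₂, ψ₂, hs₂, h₂⟩ := hy
    refine ⟨s₁ * s₂, s₂ • ψ₁ + s₁ • ψ₂, ?_, ?_⟩
    · exact fun h => (p.isPrime.mem_or_mem h).elim hs₁ hs₂
    · rw [evD_add, evD_smul, evD_smul, ← h₁, ← h₂, map_mul, smul_add, smul_smul, smul_smul]
      congr 1
      rw [mul_comm]
  | smul c x _ hx =>
    obtain ⟨s, ψ, hs, h⟩ := hx
    obtain ⟨a, t, ht, hta⟩ := exists_frac p c
    refine ⟨t * s, a • ψ, ?_, ?_⟩
    · exact fun h => (p.isPrime.mem_or_mem h).elim ht hs
    · rw [evD_smul, ← h, map_mul, smul_smul, smul_smul, ← hta]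
      congr 1
      ring

/-- Lemma B in the dual fibre. -/
theorem exists_det_notMem_of_liD (p : PrimeSpectrum R) {w : ℕ} (v : Fin w → M)
    (hli : LinearIndependent p.asIdeal.ResidueField (toD p ∘ v)) :
    ∃ ψ : Fin w → (M →ₗ[R] R), (Matrix.of fun i j => ψ j (v i)).det ∉ p.asIdeal := by
  classical
  set κ := p.asIdeal.ResidueField with hκ
  set L : (Fin w → κ) →ₗ[κ] DFib p M := Fintype.linearCombination κ (toD p ∘ v) with hL
  have hLker : LinearMap.ker L = ⊥ := by
    rw [LinearMap.ker_eq_bot]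
    intro a b hab
    have := (Fintype.linearIndependent_iff).mp hli (a - b) (by
      have h2 : L (a - b) = 0 := by rw [map_sub, hab, sub_self]
      simpa [hL, Fintype.linearCombination_apply] using h2)
    funext i
    exact sub_eq_zero.mp (this i)
  obtain ⟨G, hG⟩ := L.exists_leftInverse_of_injective hLker
  have hGv : ∀ i j, G (toD p (v i)) j = if i = j then 1 else 0 := by
    intro i j
    have h1 : L (Pi.single i 1) = toD p (v i) := by
      simp [hL, Fintype.linearCombination_apply, Pi.single_apply, Finset.sum_ite_eq']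
    have h2 : G (L (Pi.single i 1)) = Pi.single i 1 := by
      have := congrArg (fun l => l (Pi.single i 1)) hG
      simpa using this
    rw [← h1, h2, Pi.single_apply]
    simp [eq_comm]
  have hex : ∀ j : Fin w, ∃ (s : R) (ψ : M →ₗ[R] R), s ∉ p.asIdeal ∧
      algebraMap R κ s • ((LinearMap.proj j) ∘ₗ G) = evD p ψ := by
    intro j
    apply exists_smul_eq_evD
    rw [span_evD_eq_top]
    trivial
  choose s ψ hs hsψ using hex
  refine ⟨ψ, ?_⟩
  have hentry : ∀ i j, algebraMap R κ (ψ j (v i)) =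
      if i = j then algebraMap R κ (s j) else 0 := by
    intro i j
    rw [← evD_toD, ← hsψ j]
    simp only [LinearMap.smul_apply, LinearMap.coe_comp, LinearMap.coe_proj, Function.comp_apply,
      Function.eval, hGv, smul_eq_mul]
    split_ifs <;> simp
  intro hmem
  have hdet0 : algebraMap R κ (Matrix.of fun i j => ψ j (v i)).det = 0 :=
    Ideal.algebraMap_residueField_eq_zero.mpr hmem
  rw [RingHom.map_det] at hdet0
  have hmat : (algebraMap R κ).mapMatrix (Matrix.of fun i j => ψ j (v i)) =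
      Matrix.diagonal fun j => algebraMap R κ (s j) := by
    ext i j
    simp only [RingHom.mapMatrix_apply, Matrix.map_apply, Matrix.of_apply, Matrix.diagonal_apply]
    rw [hentry i j]
    by_cases hij : i = j
    · simp [hij]
    · simp [hij]
  rw [hmat, Matrix.det_diagonal, Finset.prod_eq_zero_iff] at hdet0
  obtain ⟨j, -, hj⟩ := hdet0
  exact hs j (Ideal.algebraMap_residueField_eq_zero.mp hj)

theorem rkD_lt_iff {ι : Type*} [Finite ι] (p : PrimeSpectrum R) (m : ι → M) (w : ℕ) :
    rkD p m < w ↔ minorIdeal m w ≤ p.asIdeal := by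
  rw [← not_le]
  unfold rkD
  rw [le_frk_iff]
  constructor
  · intro h
    unfold minorIdeal
    rw [Ideal.span_le]
    rintro _ ⟨t, ψ, rfl⟩
    by_contra hD
    exact h ⟨t, liD_of_det_notMem p (m ∘ t) ψ hD⟩
  · rintro h ⟨t, ht⟩
    obtain ⟨ψ, hψ⟩ := exists_det_notMem_of_liD p (m ∘ t) ht
    exact hψ (h (Ideal.subset_span ⟨t, ψ, rfl⟩))

omit [Module.Finite R M] in
theorem toD_ne_zero_of_rkD (p : PrimeSpectrum R) (x : M)
    (h : 1 ≤ rkD p (fun _ : Fin 1 => x)) : toD p x ≠ 0 := by
  intro h0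
  unfold rkD frk at h
  have : span p.asIdeal.ResidueField (Set.range (toD p ∘ fun _ : Fin 1 => x)) = ⊥ := by
    rw [span_eq_bot]
    rintro _ ⟨i, rfl⟩
    simpa using h0
  rw [this, finrank_bot] at h
  omega

omit [Module.Finite R M] in
/-- An element which is non-zero in all dual fibres at maximal ideals is unimodular. -/
theorem exists_functional_of_toD_ne_zero (x : M)
    (h : ∀ (m : Ideal R) (hm : m.IsMaximal), toD ⟨m, hm.isPrime⟩ x ≠ 0) :
    ∃ φ : M →ₗ[R] R, φ x = 1 := by
  classical
  set J : Ideal R := LinearMap.range (LinearMap.applyₗ (R := R) (M₂ := R) x) with hJ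
  have hJtop : J = ⊤ := by
    by_contra hne
    obtain ⟨m, hm, hJm⟩ := Ideal.exists_le_maximal J hne
    apply h m hm
    apply eq_zero_of_evD
    intro ψ
    rw [evD_toD, Ideal.algebraMap_residueField_eq_zero]
    apply hJm
    rw [hJ]
    exact ⟨ψ, rfl⟩
  have h1 : (1 : R) ∈ J := by rw [hJtop]; trivial
  obtain ⟨φ, hφ⟩ := h1
  exact ⟨φ, hφ⟩

end Groth.Agent.Serre9
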