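import Mathlib
import Groth.Agent.Lib.SerreB2_helper9

/-!
# Serre splitting for finitely presented modules, part 3 (helper9)

The abstract Eisenbud–Evans step over an index set of primes with a dimension function and a
finiteness property, and its iteration.
-/

set_option autoImplicit false
universe u v

namespace Groth.Agent.Serre9

open Module Submodule TensorProduct

variable {R : Type u} [CommRing R] {M : Type v} [AddCommGroup M] [Module R M]
variable [Module.Finite R M]

/-- The abstract Eisenbud–Evans step. `𝒵` is an index set of primes `π z`, `δ` a dimension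
function, and `hfin` expresses that for each ideal `I` finitely many `z` are "minimal over `I`". -/
theorem exists_stepD {𝒵 : Type*} (π : 𝒵 → PrimeSpectrum R) (δ : 𝒵 → ℕ)
    (hfin : ∀ I : Ideal R, ∃ F : Finset 𝒵, ∀ z : 𝒵, I ≤ (π z).asIdeal →
      ∃ z' ∈ F, π z' ≤ π z ∧ I ≤ (π z').asIdeal ∧ (z' = z ∨ δ z < δ z'))
    {n : ℕ} (m : Fin (n + 1) → M) (hm : ∀ z : 𝒵, min (n + 1) (δ z + 1) ≤ rkD (π z) m) :
    ∃ a : Fin n → R, ∀ z : 𝒵, min n (δ z + 1) ≤ rkD (π z) (modv m a) := by
  classical
  choose F hF using hfin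
  set E : Finset (PrimeSpectrum R) :=
    (Finset.range (n + 2)).biUnion fun w => (F (minorIdeal m w)).image π with hE
  obtain ⟨a, ha⟩ := exists_localD m E
  refine ⟨a, fun z => ?_⟩
  by_cases hbad : min n (δ z + 1) + 1 ≤ rkD (π z) m
  · have := rkD_le_modv_add_one (π z) m a
    omega
  · have hmz := hm z
    have h1 : δ z + 1 ≤ n := by
      by_contra hcon
      rw [not_le] at hcon
      have : min (n + 1) (δ z + 1) = n + 1 := by omega
      have : min n (δ z + 1) = n := by omega
      omega
    have hrk : rkD (π z) m = δ z + 1 := by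
      have : min (n + 1) (δ z + 1) = δ z + 1 := by omega
      have : min n (δ z + 1) = δ z + 1 := by omega
      omega
    have hzE : π z ∈ E := by
      rw [hE]
      simp only [Finset.mem_biUnion, Finset.mem_range, Finset.mem_image]
      refine ⟨δ z + 2, by omega, ?_⟩
      have hle : minorIdeal m (δ z + 2) ≤ (π z).asIdeal := by
        rw [← rkD_lt_iff]; omega
      obtain ⟨z', hz'F, hz'le, hz'I, hz'⟩ := hF (minorIdeal m (δ z + 2)) z hle
      rcases hz' with rfl | hlt
      · exact ⟨z', hz'F, rfl⟩
      · exfalso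
        have h4 := hm z'
        have h5 : rkD (π z') m < δ z + 2 := by
          rw [rkD_lt_iff]; exact hz'I
        have : min (n + 1) (δ z' + 1) ≥ δ z + 2 := by
          rw [ge_iff_le, le_min_iff]; omega
        omega
    have := ha (π z) hzE
    rw [hrk] at this
    exact this

/-- Iterating the step. -/
theorem exists_basicD {𝒵 : Type*} (π : 𝒵 → PrimeSpectrum R) (δ : 𝒵 → ℕ)
    (hfin : ∀ I : Ideal R, ∃ F : Finset 𝒵, ∀ z : 𝒵, I ≤ (π z).asIdeal →
      ∃ z' ∈ F, π z' ≤ π z ∧ I ≤ (π z').asIdeal ∧ (z' = z ∨ δ z < δ z'))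
    {n : ℕ} (m : Fin (n + 1) → M) (hm : ∀ z : 𝒵, min (n + 1) (δ z + 1) ≤ rkD (π z) m) :
    ∃ x ∈ span R (Set.range (Fin.tail m)), ∀ z : 𝒵, 1 ≤ rkD (π z) (fun _ : Fin 1 => m 0 + x) := by
  induction n with
  | zero =>
    refine ⟨0, zero_mem _, fun z => ?_⟩
    have h1 := hm z
    have h2 : (fun _ : Fin 1 => m 0 + 0) = m := by
      funext i
      rw [add_zero]
      congr 1
      exact (Fin.fin_one_eq_zero i).symm
    rw [h2]
    have : min (0 + 1) (δ z + 1) = 1 := by omega
    omega
  | succ n ih =>
    obtain ⟨a, ha⟩ := exists_stepD π δ hfin m hm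
    obtain ⟨x', hx', hx'U⟩ := ih (modv m a) ha
    refine ⟨a 0 • m (Fin.last (n + 1)) + x', ?_, fun z => ?_⟩
    · have hlast : m (Fin.last (n + 1)) ∈ span R (Set.range (Fin.tail m)) := by
        apply subset_span
        refine ⟨Fin.last n, ?_⟩
        simp [Fin.tail]
      refine add_mem (smul_mem _ _ hlast) ?_
      refine span_le.mpr ?_ hx'
      rintro _ ⟨i, rfl⟩
      have : Fin.tail (modv m a) i =
          Fin.tail m i.castSucc + a i.succ • m (Fin.last (n + 1)) := by
        simp [Fin.tail, modv]
      rw [SetLike.mem_coe, this]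
      exact add_mem (subset_span ⟨_, rfl⟩) (smul_mem _ _ hlast)
    · have := hx'U z
      have heq : (fun _ : Fin 1 => modv m a 0 + x') =
          (fun _ : Fin 1 => m 0 + (a 0 • m (Fin.last (n + 1)) + x')) := by
        funext _
        simp [modv, add_assoc]
      rw [← heq]
      exact this

end Groth.Agent.Serre9
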