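import Mathlib
import Groth.Agent.Lib.SerreB3_helper9

/-!
# Serre splitting for finitely presented modules, part 4 (helper9)

The maximal spectrum instantiation: Serre's splitting theorem for a finitely presented module over a
ring whose maximal spectrum is a noetherian space of dimension `≤ d`.
-/

set_option autoImplicit false
universe u v

namespace Groth.Agent.Serre9

open Module Submodule TensorProduct TopologicalSpace

variable {R : Type u} [CommRing R]

/-- The ideal of an irreducible closed subset of the maximal spectrum. -/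
def icIdeal (Z : IrreducibleCloseds (MaximalSpectrum R)) : Ideal R :=
  ⨅ m ∈ (Z : Set (MaximalSpectrum R)), m.asIdeal

theorem mem_icIdeal (Z : IrreducibleCloseds (MaximalSpectrum R)) (a : R) :
    a ∈ icIdeal Z ↔ ∀ m ∈ (Z : Set (MaximalSpectrum R)), a ∈ m.asIdeal := by
  simp [icIdeal, Submodule.mem_iInf]

theorem icIdeal_le_of_mem (Z : IrreducibleCloseds (MaximalSpectrum R)) {m : MaximalSpectrum R}
    (hm : m ∈ (Z : Set (MaximalSpectrum R))) : icIdeal Z ≤ m.asIdeal :=
  fun a ha => (mem_icIdeal Z a).mp ha m hm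

theorem isClosed_idealLocus (I : Set R) :
    IsClosed {m : MaximalSpectrum R | I ⊆ m.asIdeal} := by
  have : {m : MaximalSpectrum R | I ⊆ m.asIdeal} =
      MaximalSpectrum.toPrimeSpectrum ⁻¹' (PrimeSpectrum.zeroLocus I) := by
    ext m
    simp [PrimeSpectrum.mem_zeroLocus, MaximalSpectrum.toPrimeSpectrum]
  rw [this]
  exact (PrimeSpectrum.isClosed_zeroLocus _).preimage MaximalSpectrum.toPrimeSpectrum_continuous

instance icIdeal_isPrime (Z : IrreducibleCloseds (MaximalSpectrum R)) : (icIdeal Z).IsPrime := by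
  constructor
  · obtain ⟨m, hm⟩ := Z.isIrreducible'.nonempty
    intro h
    have := icIdeal_le_of_mem Z hm
    rw [h, top_le_iff] at this
    exact m.isMaximal.ne_top this
  · intro a b hab
    have hsub : (Z : Set (MaximalSpectrum R)) ⊆
        {m | ({a} : Set R) ⊆ m.asIdeal} ∪ {m | ({b} : Set R) ⊆ m.asIdeal} := by
      intro m hm
      have h1 := (mem_icIdeal Z _).mp hab m hm
      rcases m.isMaximal.isPrime.mem_or_mem h1 with h | h
      · left; simpa using h
      · right; simpa using h
    rcases (isPreirreducible_iff_isClosed_union_isClosed.mp Z.isIrreducible'.isPreirreducible) _ _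
      (isClosed_idealLocus {a}) (isClosed_idealLocus {b}) hsub with h | h
    · left
      rw [mem_icIdeal]
      intro m hm
      simpa using h hm
    · right
      rw [mem_icIdeal]
      intro m hm
      simpa using h hm

/-- The prime attached to an irreducible closed subset of the maximal spectrum. -/
def icPrime (Z : IrreducibleCloseds (MaximalSpectrum R)) : PrimeSpectrum R :=
  ⟨icIdeal Z, inferInstance⟩

/-- The dimension function on irreducible closed subsets. -/
noncomputable def icDim (Z : IrreducibleCloseds (MaximalSpectrum R)) : ℕ :=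
  (Order.height Z).toNat

theorem height_le_of_dim {d : ℕ} (hdim : topologicalKrullDim (MaximalSpectrum R) ≤ d)
    (Z : IrreducibleCloseds (MaximalSpectrum R)) : Order.height Z ≤ (d : ℕ∞) := by
  have h1 : (Order.height Z : WithBot ℕ∞) ≤ Order.krullDim (IrreducibleCloseds (MaximalSpectrum R)) :=
    Order.height_le_krullDim Z
  have h2 : (Order.height Z : WithBot ℕ∞) ≤ ((d : ℕ∞) : WithBot ℕ∞) := h1.trans hdim
  exact_mod_cast h2

theorem icDim_le {d : ℕ} (hdim : topologicalKrullDim (MaximalSpectrum R) ≤ d)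
    (Z : IrreducibleCloseds (MaximalSpectrum R)) : icDim Z ≤ d := by
  have := height_le_of_dim hdim Z
  unfold icDim
  exact ENat.toNat_le_of_le_coe this

theorem icDim_lt {d : ℕ} (hdim : topologicalKrullDim (MaximalSpectrum R) ≤ d)
    (Z Z' : IrreducibleCloseds (MaximalSpectrum R)) (h : Z < Z') : icDim Z < icDim Z' := by
  have h1 := Order.height_add_one_le h
  have hp := height_le_of_dim hdim Z
  have hq := height_le_of_dim hdim Z'
  unfold icDim
  lift Order.height Z to ℕ using ne_top_of_le_ne_top (ENat.coe_ne_top d) hp with a ha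
  lift Order.height Z' to ℕ using ne_top_of_le_ne_top (ENat.coe_ne_top d) hq with b hb
  simp only [ENat.toNat_coe]
  have : (a : ℕ∞) + 1 ≤ b := h1
  exact_mod_cast this

/-- The finiteness property for the maximal spectrum. -/
theorem ic_hfin [NoetherianSpace (MaximalSpectrum R)] {d : ℕ}
    (hdim : topologicalKrullDim (MaximalSpectrum R) ≤ d) (I : Ideal R) :
    ∃ F : Finset (IrreducibleCloseds (MaximalSpectrum R)),
      ∀ Z : IrreducibleCloseds (MaximalSpectrum R), I ≤ (icPrime Z).asIdeal →
        ∃ Z' ∈ F, icPrime Z' ≤ icPrime Z ∧ I ≤ (icPrime Z').asIdeal ∧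
          (Z' = Z ∨ icDim Z < icDim Z') := by
  classical
  obtain ⟨S, hSf, hSc, hSi, hSU⟩ :=
    NoetherianSpace.exists_finite_set_isClosed_irreducible (isClosed_idealLocus (I : Set R))
  refine ⟨hSf.toFinset.attach.image fun t =>
    ⟨t.1, hSi t.1 (hSf.mem_toFinset.mp t.2), hSc t.1 (hSf.mem_toFinset.mp t.2)⟩, ?_⟩
  intro Z hZ
  have hsub : (Z : Set (MaximalSpectrum R)) ⊆ ⋃₀ (↑hSf.toFinset : Set (Set (MaximalSpectrum R))) := by
    rw [Set.Finite.coe_toFinset, ← hSU]
    intro m hm
    exact fun a ha => icIdeal_le_of_mem Z hm (hZ ha)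
  obtain ⟨z, hzS, hZz⟩ := (isIrreducible_iff_sUnion_isClosed.mp Z.isIrreducible') hSf.toFinset
    (fun t ht => hSc t (hSf.mem_toFinset.mp ht)) hsub
  have hzS' : z ∈ S := hSf.mem_toFinset.mp hzS
  set Z' : IrreducibleCloseds (MaximalSpectrum R) := ⟨z, hSi z hzS', hSc z hzS'⟩ with hZ'
  have hle : Z ≤ Z' := hZz
  refine ⟨Z', ?_, ?_, ?_, ?_⟩
  · rw [Finset.mem_image]
    exact ⟨⟨z, hzS⟩, Finset.mem_attach _ _, rfl⟩
  · intro a ha
    change a ∈ icIdeal Z
    rw [mem_icIdeal]
    intro m hm
    exact (mem_icIdeal Z' a).mp ha m (hZz hm)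
  · intro a ha
    change a ∈ icIdeal Z'
    rw [mem_icIdeal]
    intro m hm
    have hmY : m ∈ {m : MaximalSpectrum R | (I : Set R) ⊆ m.asIdeal} := by
      rw [hSU]; exact ⟨z, hzS', hm⟩
    exact hmY ha
  · rcases eq_or_lt_of_le hle with h | h
    · left; exact h.symm
    · right; exact icDim_lt hdim Z Z' h

/-- Translation of the free summand hypothesis into a non-vanishing minor. -/
theorem exists_minor_of_free_summand {M : Type v} [AddCommGroup M] [Module R M]
    [Module.FinitePresentation R M] (𝔪 : Ideal R) [𝔪.IsMaximal] (w : ℕ)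
    (f : (Fin w → Localization.AtPrime 𝔪) →ₗ[Localization.AtPrime 𝔪]
      LocalizedModule 𝔪.primeCompl M)
    (g : LocalizedModule 𝔪.primeCompl M →ₗ[Localization.AtPrime 𝔪]
      (Fin w → Localization.AtPrime 𝔪))
    (hgf : g ∘ₗ f = LinearMap.id) :
    ∃ (v : Fin w → M) (ψ : Fin w → (M →ₗ[R] R)), ∀ p : Ideal R, p.IsPrime → p ≤ 𝔪 →
      (Matrix.of fun i j => ψ j (v i)).det ∉ p := by
  classical
  set Rm := Localization.AtPrime 𝔪 with hRm
  have hx : ∀ i : Fin w, ∃ x : M × 𝔪.primeCompl,
      x.2 • f (Pi.single i 1) = LocalizedModule.mkLinearMap 𝔪.primeCompl M x.1 :=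
    fun i => IsLocalizedModule.surj 𝔪.primeCompl (LocalizedModule.mkLinearMap 𝔪.primeCompl M) _
  choose xt hxt using hx
  have hψ : ∀ j : Fin w, ∃ (h : M →ₗ[R] R) (s : 𝔪.primeCompl),
      (Algebra.linearMap R Rm) ∘ₗ h =
        s • (((LinearMap.proj j ∘ₗ g).restrictScalars R) ∘ₗ
          LocalizedModule.mkLinearMap 𝔪.primeCompl M) :=
    fun j => Module.FinitePresentation.exists_lift_of_isLocalizedModule 𝔪.primeCompl
      (Algebra.linearMap R Rm) _
  choose ψ s hψs using hψ
  refine ⟨fun i => (xt i).1, ψ, ?_⟩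
  have hgf' : ∀ c, g (f c) = c := fun c => by
    have := congrArg (fun l => l c) hgf
    simpa using this
  have hentry : ∀ i j, algebraMap R Rm (ψ j (xt i).1) =
      if i = j then algebraMap R Rm ((s j : R) * ((xt i).2 : R)) else 0 := by
    intro i j
    have h1 := congrArg (fun l => l (xt i).1) (hψs j)
    simp only [LinearMap.coe_comp, Function.comp_apply, Algebra.linearMap_apply,
      LinearMap.smul_apply, LinearMap.coe_restrictScalars, LinearMap.coe_proj,
      Function.eval] at h1
    rw [h1, ← hxt i, Submonoid.smul_def, Submonoid.smul_def,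
      ← algebraMap_smul Rm ((xt i).2 : R) (f (Pi.single i 1)), map_smul, hgf']
    simp only [Pi.smul_apply, Pi.single_apply]
    split_ifs with h1 h2 h2
    · rw [Algebra.smul_def, smul_eq_mul, mul_one, map_mul]
    · exact absurd h1.symm h2
    · exact absurd h2.symm h1
    · simp
  set u : R := ∏ i, ((s i : R) * ((xt i).2 : R)) with hu
  have hu𝔪 : u ∈ 𝔪.primeCompl := by
    rw [hu]
    apply Submonoid.prod_mem
    intro i _
    exact mul_mem (s i).2 (xt i).2.2
  have hdet : algebraMap R Rm (Matrix.of fun i j => ψ j (xt i).1).det = algebraMap R Rm u := by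
    rw [RingHom.map_det]
    have hmat : (algebraMap R Rm).mapMatrix (Matrix.of fun i j => ψ j (xt i).1) =
        Matrix.diagonal fun i => algebraMap R Rm ((s i : R) * ((xt i).2 : R)) := by
      ext i j
      simp only [RingHom.mapMatrix_apply, Matrix.map_apply, Matrix.of_apply,
        Matrix.diagonal_apply]
      rw [hentry i j]
      by_cases hij : i = j
      · simp [hij]
      · simp [hij]
    rw [hmat, Matrix.det_diagonal, hu, map_prod]
  obtain ⟨c, hc⟩ := (IsLocalization.eq_iff_exists 𝔪.primeCompl Rm).mp hdet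
  intro p hp hp𝔪 hmem
  have h1 : (c : R) * u ∈ p := by
    rw [← hc]; exact Ideal.mul_mem_left _ _ hmem
  rcases hp.mem_or_mem h1 with h | h
  · exact c.2 (hp𝔪 h)
  · exact hu𝔪 (hp𝔪 h)

/-- Serre's splitting theorem, maximal spectrum form. -/
theorem serre_maxSpec (d : ℕ) [NoetherianSpace (MaximalSpectrum R)]
    (hdim : topologicalKrullDim (MaximalSpectrum R) ≤ d)
    (M : Type v) [AddCommGroup M] [Module R M] [Module.FinitePresentation R M]
    (hM : ∀ (m : Ideal R) [m.IsMaximal],
      ∃ (f : (Fin (d + 1) → Localization.AtPrime m) →ₗ[Localization.AtPrime m]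
          LocalizedModule m.primeCompl M)
        (g : LocalizedModule m.primeCompl M →ₗ[Localization.AtPrime m]
          (Fin (d + 1) → Localization.AtPrime m)),
        g ∘ₗ f = LinearMap.id) :
    ∃ (s : M) (φ : M →ₗ[R] R), φ s = 1 := by
  classical
  haveI : Module.Finite R M := inferInstance
  obtain ⟨k, s, hs⟩ := Module.Finite.exists_fin (R := R) (M := M)
  set m : Fin (k + 1) → M := Fin.cons 0 s with hm
  have hspan : span R (Set.range m) = ⊤ := by
    rw [eq_top_iff, ← hs]
    apply span_mono
    rintro _ ⟨i, rfl⟩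
    exact ⟨i.succ, by simp [hm]⟩
  -- the rank is at least d + 1 everywhere
  have hrk : ∀ Z : IrreducibleCloseds (MaximalSpectrum R), d + 1 ≤ rkD (icPrime Z) m := by
    intro Z
    obtain ⟨𝔪, h𝔪⟩ := Z.isIrreducible'.nonempty
    obtain ⟨f, g, hgf⟩ := hM 𝔪.asIdeal
    obtain ⟨v, ψ, hvψ⟩ := exists_minor_of_free_summand 𝔪.asIdeal (d + 1) f g hgf
    have hdet := hvψ (icPrime Z).asIdeal (icPrime Z).isPrime (icIdeal_le_of_mem Z h𝔪)
    have hli := liD_of_det_notMem (icPrime Z) v ψ hdet
    have h1 := hli.fintype_card_le_finrank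
    simp only [Fintype.card_fin] at h1
    unfold rkD
    rw [frk_eq_finrank_of_span_eq_top _ _ (span_toD_eq_top (icPrime Z) m hspan)]
    exact h1
  obtain ⟨x, -, hx⟩ := exists_basicD (R := R) (M := M) icPrime icDim (ic_hfin hdim) m
    (fun Z => by
      have h1 := hrk Z
      have h2 := icDim_le hdim Z
      refine (min_le_right _ _).trans ?_
      omega)
  apply Exists.intro (m 0 + x)
  apply exists_functional_of_toD_ne_zero
  intro 𝔪 h𝔪
  set pt : MaximalSpectrum R := ⟨𝔪, h𝔪⟩ with hpt
  set Z : IrreducibleCloseds (MaximalSpectrum R) :=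
    ⟨{pt}, isIrreducible_singleton, isClosed_singleton⟩ with hZ
  have hZp : icPrime Z = ⟨𝔪, h𝔪.isPrime⟩ := by
    apply PrimeSpectrum.ext
    change icIdeal Z = 𝔪
    apply le_antisymm
    · exact icIdeal_le_of_mem Z (by simp [hZ] : pt ∈ (Z : Set (MaximalSpectrum R)))
    · intro a ha
      rw [mem_icIdeal]
      intro m' hm'
      have : m' = pt := by simpa [hZ] using hm'
      rw [this]; exact ha
  have := toD_ne_zero_of_rkD (icPrime Z) _ (hx Z)
  rw [hZp] at this
  exact this

end Groth.Agent.Serre9
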