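import Mathlib
import Groth.Agent.Lib.SerreB4_helper9

/-!
# Serre's splitting proposition, part 1: constrained Eisenbud–Evans modifications (helper9)

Variants of the modification lemmas in which a subfamily (linearly independent at the primes in
question) is kept fixed, and all coefficients are taken in a given ideal `J`.
APPEND-ONLY once landed.
-/

set_option autoImplicit false
universe u v

namespace Groth.Agent.Serre9

open Module Submodule

section LinAlg

variable (K : Type*) [Field K] {V : Type*} [AddCommGroup V] [Module K V] [FiniteDimensional K V]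

/-- If a family is linearly dependent but a subfamily indexed by `S` is independent, then some member
outside `S` lies in the span of the others. -/
theorem exists_mem_span_of_not_li {n : ℕ} (x : Fin n → V) (S : Finset (Fin n))
    (hS : LinearIndependent K (fun i : S => x i.1)) (hx : ¬ LinearIndependent K x) :
    ∃ j : Fin n, j ∉ S ∧ x j ∈ span K (x '' (Set.univ \ {j})) := by
  classical
  by_contra hcon
  push Not at hcon
  apply hx
  rw [Fintype.linearIndependent_iff]
  intro g hg
  have h1 : ∀ j, j ∉ S → g j = 0 := by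
    intro j hj
    by_contra hgj
    apply hcon j hj
    have h2 : g j • x j + ∑ i ∈ Finset.univ.erase j, g i • x i = 0 := by
      rw [Finset.add_sum_erase Finset.univ (fun i => g i • x i) (Finset.mem_univ j)]
      exact hg
    have h3 : x j = (g j)⁻¹ • (-∑ i ∈ Finset.univ.erase j, g i • x i) := by
      rw [← eq_neg_iff_add_eq_zero.mpr h2, smul_smul, inv_mul_cancel₀ hgj, one_smul]
    rw [h3]
    refine smul_mem _ _ (neg_mem (sum_mem fun i hi => smul_mem _ _ (subset_span ?_)))
    refine ⟨i, ?_, rfl⟩
    simpa using Finset.ne_of_mem_erase hi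
  have h4 : ∑ i : S, g i.1 • x i.1 = 0 := by
    rw [← hg, Finset.sum_coe_sort S (fun i => g i • x i)]
    apply Finset.sum_subset (Finset.subset_univ _)
    intro i _ hi
    rw [h1 i hi, zero_smul]
  have h5 := (Fintype.linearIndependent_iff.mp hS) (fun i => g i.1) h4
  intro i
  by_cases hi : i ∈ S
  · exact h5 ⟨i, hi⟩
  · exact h1 i hi

/-- The constrained improvement step. -/
theorem exists_update_modv' {n : ℕ} (m : Fin (n + 1) → V) (c : Fin n → K) (S : Finset (Fin n))
    (hS : LinearIndependent K (fun i : S => modv m c i.1))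
    (h1 : frk K (modv m c) < frk K m) (h2 : frk K (modv m c) < n) :
    ∃ j : Fin n, j ∉ S ∧ ∀ r : K, r ≠ 0 →
      frk K m ≤ frk K (modv m (Function.update c j (c j + r))) := by
  classical
  set x := modv m c with hx
  set y := m (Fin.last n) with hy
  set W := span K (Set.range x) with hW
  have hmx : ∀ i : Fin n, m i.castSucc = x i - c i • y := fun i => by simp [hx, modv, hy]
  have hyW : y ∉ W := by
    intro hyW
    have : span K (Set.range m) ≤ W := by
      rw [span_le]
      rintro _ ⟨i, rfl⟩
      induction i using Fin.lastCases with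
      | last => exact hyW
      | cast j =>
        rw [SetLike.mem_coe, hmx j]
        exact sub_mem (subset_span ⟨j, rfl⟩) (smul_mem _ _ hyW)
    have := Submodule.finrank_mono this
    unfold frk at h1
    rw [← hW] at h1
    omega
  have hnli : ¬ LinearIndependent K x := by
    intro hli
    have := finrank_span_eq_card hli
    simp only [Fintype.card_fin] at this
    unfold frk at h2
    omega
  obtain ⟨j, hjS, hj⟩ := exists_mem_span_of_not_li K x S hS hnli
  refine ⟨j, hjS, fun r hr => ?_⟩
  set c' := Function.update c j (c j + r) with hc'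
  set x' := modv m c' with hx'
  set W' := span K (Set.range x') with hW'
  have hx'i : ∀ i, i ≠ j → x' i = x i := fun i hi => by
    simp [hx', hx, modv, hc', Function.update_of_ne hi]
  have hx'j : x' j = x j + r • y := by
    simp [hx', hx, modv, hc', add_smul, add_assoc, hy]
  have h0 : span K (x '' (Set.univ \ {j})) ≤ W' := by
    rw [span_le]
    rintro _ ⟨i, hi, rfl⟩
    have hij : i ≠ j := by simpa using hi
    rw [← hx'i i hij]
    exact subset_span ⟨i, rfl⟩
  have hxjW' : x j ∈ W' := h0 hj
  have hWW' : W ≤ W' := by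
    rw [hW, span_le]
    rintro _ ⟨i, rfl⟩
    by_cases hij : i = j
    · rw [hij]; exact hxjW'
    · rw [← hx'i i hij]; exact subset_span ⟨i, rfl⟩
  have hyW' : y ∈ W' := by
    have h3 : x' j ∈ W' := subset_span ⟨j, rfl⟩
    rw [hx'j] at h3
    have h4 : r • y ∈ W' := by
      have := sub_mem h3 hxjW'
      simpa using this
    have := smul_mem W' r⁻¹ h4
    rwa [smul_smul, inv_mul_cancel₀ hr, one_smul] at this
  apply frk_mono
  rw [span_le]
  rintro _ ⟨i, rfl⟩
  induction i using Fin.lastCases with
  | last => exact hyW'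
  | cast i =>
    rw [SetLike.mem_coe, hmx i]
    exact sub_mem (hWW' (subset_span ⟨i, rfl⟩)) (smul_mem _ _ hyW')

end LinAlg

variable {R : Type u} [CommRing R] {M : Type v} [AddCommGroup M] [Module R M]
variable [Module.Finite R M]

/-- Single prime step, constrained. -/
theorem exists_step_primeD' (p : PrimeSpectrum R) {n : ℕ} (m : Fin (n + 1) → M) (a : Fin n → R)
    (S : Finset (Fin n)) (haS : ∀ i ∈ S, a i = 0)
    (hS : LinearIndependent p.asIdeal.ResidueField (fun i : S => toD p (m i.1.castSucc)))
    (r : R) (hr : r ∉ p.asIdeal) :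
    ∃ b : Fin n → R, (∀ i ∈ S, b i = 0) ∧ min n (rkD p m) ≤ rkD p (modv m (a + r • b)) := by
  classical
  by_cases h : min n (rkD p m) ≤ rkD p (modv m a)
  · exact ⟨0, fun _ _ => rfl, by simpa using h⟩
  · rw [not_le, lt_min_iff] at h
    obtain ⟨h2, h1⟩ := h
    unfold rkD at h1 h2
    rw [toD_comp_modv] at h1 h2
    have hS' : LinearIndependent p.asIdeal.ResidueField (fun i : S =>
        modv (toD p ∘ m) (fun i => algebraMap R p.asIdeal.ResidueField (a i)) i.1) := by
      have : (fun i : S =>
          modv (toD p ∘ m) (fun i => algebraMap R p.asIdeal.ResidueField (a i)) i.1) =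
          fun i : S => toD p (m i.1.castSucc) := by
        funext i
        simp [modv, haS i.1 i.2]
      rw [this]
      exact hS
    obtain ⟨j, hjS, hj⟩ := exists_update_modv' _ _ _ S hS' h1 h2
    have hr' : algebraMap R p.asIdeal.ResidueField r ≠ 0 := by
      rwa [ne_eq, Ideal.algebraMap_residueField_eq_zero]
    refine ⟨(Pi.single j 1 : Fin n → R), ?_, ?_⟩
    · intro i hi
      have : i ≠ j := fun hij => hjS (hij ▸ hi)
      simp [Pi.single_eq_of_ne this]
    refine (min_le_right _ _).trans ?_
    have := hj _ hr'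
    unfold rkD
    rw [toD_comp_modv]
    have heq : (fun i => algebraMap R p.asIdeal.ResidueField
        ((a + r • (Pi.single j 1 : Fin n → R)) i)) =
        Function.update (fun i => algebraMap R p.asIdeal.ResidueField (a i)) j
          (algebraMap R p.asIdeal.ResidueField (a j) + algebraMap R p.asIdeal.ResidueField r) := by
      funext i
      by_cases hij : i = j
      · subst hij
        simp
      · simp [Function.update_of_ne hij, Pi.single_eq_of_ne hij]
    rw [heq]
    exact this

/-- The local Eisenbud–Evans lemma in the dual fibres, constrained. -/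
theorem exists_localD' {n : ℕ} (m : Fin (n + 1) → M) (B : Finset (PrimeSpectrum R))
    (S : Finset (Fin n)) (J : Ideal R)
    (hS : ∀ p ∈ B, LinearIndependent p.asIdeal.ResidueField
      (fun i : S => toD p (m i.1.castSucc)))
    (hJ : ∀ p ∈ B, ¬ J ≤ p.asIdeal) :
    ∃ a : Fin n → R, (∀ i ∈ S, a i = 0) ∧ (∀ i, a i ∈ J) ∧
      ∀ p ∈ B, min n (rkD p m) ≤ rkD p (modv m a) := by
  classical
  induction hB : B.card using Nat.strong_induction_on generalizing B with
  | _ k ih =>
  rcases B.eq_empty_or_nonempty with rfl | hne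
  · exact ⟨0, fun _ _ => rfl, fun _ => J.zero_mem, by simp⟩
  obtain ⟨p, hpB, hpmin⟩ := B.exists_minimal hne
  have hcard : (B.erase p).card < k := by
    rw [← hB]
    exact Finset.card_erase_lt_of_mem hpB
  obtain ⟨a, haS, haJ, ha⟩ := ih _ hcard (B.erase p)
    (fun q hq => hS q (Finset.mem_of_mem_erase hq))
    (fun q hq => hJ q (Finset.mem_of_mem_erase hq)) rfl
  have hex : ∀ q ∈ B.erase p, ∃ r : R, r ∈ q.asIdeal ∧ r ∉ p.asIdeal := by
    intro q hq
    have hqB : q ∈ B := Finset.mem_of_mem_erase hq
    have hqp : q ≠ p := Finset.ne_of_mem_erase hq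
    by_contra hcon
    push Not at hcon
    have hle : q ≤ p := fun x hx => hcon x hx
    have := hpmin hqB hle
    exact hqp (le_antisymm hle this)
  choose! f hf using hex
  obtain ⟨g, hgJ, hgp⟩ := SetLike.not_le_iff_exists.mp (hJ p hpB)
  set r := (∏ q ∈ B.erase p, f q) * g with hr
  have hrp : r ∉ p.asIdeal := by
    rw [hr]
    intro hmem
    rcases p.isPrime.mem_or_mem hmem with h | h
    · rw [Ideal.IsPrime.prod_mem_iff] at h
      obtain ⟨q, hq, hfq⟩ := h
      exact (hf q hq).2 hfq
    · exact hgp h
  have hrq : ∀ q ∈ B.erase p, r ∈ q.asIdeal := by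
    intro q hq
    obtain ⟨c, hc⟩ := Finset.dvd_prod_of_mem f hq
    rw [hr, hc, mul_assoc]
    exact Ideal.mul_mem_right _ _ (hf q hq).1
  have hrJ : r ∈ J := by
    rw [hr]
    exact Ideal.mul_mem_left _ _ hgJ
  obtain ⟨b, hbS, hb⟩ := exists_step_primeD' p m a S haS (hS p hpB) r hrp
  refine ⟨a + r • b, ?_, ?_, fun q hq => ?_⟩
  · intro i hi
    simp [haS i hi, hbS i hi]
  · intro i
    simp only [Pi.add_apply, Pi.smul_apply, smul_eq_mul]
    exact J.add_mem (haJ i) (Ideal.mul_mem_right _ _ hrJ)
  by_cases hqp : q = p
  · rw [hqp]; exact hb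
  · have hq' : q ∈ B.erase p := Finset.mem_erase.mpr ⟨hqp, hq⟩
    rw [rkD_modv_congr q m (a + r • b) a]
    · exact ha q hq'
    · intro i
      simp only [Pi.add_apply, Pi.smul_apply, smul_eq_mul, add_sub_cancel_left]
      exact Ideal.mul_mem_right _ _ (hrq q hq')

end Groth.Agent.Serre9
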