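import Mathlib
import Groth.Agent.Lib.SerreC1_helper9

/-!
# Serre's splitting proposition, part 2: the abstract step and its iteration (helper9)
APPEND-ONLY once landed.
-/

set_option autoImplicit false
universe u v

namespace Groth.Agent.Serre9

open Module Submodule

variable {R : Type u} [CommRing R] {M : Type v} [AddCommGroup M] [Module R M]
variable [Module.Finite R M]

/-- A linearly independent subfamily bounds the rank below. -/
theorem le_rkD_of_li (p : PrimeSpectrum R) {ι : Type*} [Finite ι] (m : ι → M) {h : ℕ}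
    (t : Fin h → ι) (hli : LinearIndependent p.asIdeal.ResidueField (fun k => toD p (m (t k)))) :
    h ≤ rkD p m := by
  unfold rkD
  rw [le_frk_iff]
  exact ⟨t, hli⟩

/-- The abstract constrained Eisenbud–Evans step with a requirement function `ρ`. -/
theorem exists_stepD' {𝒵 : Type*} (π : 𝒵 → PrimeSpectrum R) (ρ : 𝒵 → ℕ) (h : ℕ) (J : Ideal R)
    (hfin : ∀ I : Ideal R, ∃ F : Finset 𝒵, ∀ z : 𝒵, I ≤ (π z).asIdeal →
      ∃ z' ∈ F, π z' ≤ π z ∧ I ≤ (π z').asIdeal ∧ (z' = z ∨ ρ z + 1 ≤ ρ z' ∨ ρ z ≤ h))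
    (hJ : ∀ z, ¬ J ≤ (π z).asIdeal)
    {n : ℕ} (hn : h ≤ n) (m : Fin (n + 1) → M)
    (hS : ∀ z, LinearIndependent (π z).asIdeal.ResidueField
      (fun k : Fin h => toD (π z) (m (Fin.castLE (by omega) k))))
    (hm : ∀ z : 𝒵, min (n + 1) (ρ z) ≤ rkD (π z) m) :
    ∃ a : Fin n → R, (∀ i : Fin n, i.1 < h → a i = 0) ∧ (∀ i, a i ∈ J) ∧
      ∀ z : 𝒵, min n (ρ z) ≤ rkD (π z) (modv m a) := by
  classical
  choose F hF using hfin
  set E : Finset (PrimeSpectrum R) :=
    (Finset.range (n + 2)).biUnion fun w => (F (minorIdeal m w)).image π with hE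
  obtain ⟨S, hSdef⟩ : ∃ S : Finset (Fin n), ∀ i, i ∈ S ↔ i.1 < h :=
    ⟨Finset.univ.filter (fun i : Fin n => i.1 < h), fun i => by simp⟩
  have hE_im : ∀ p ∈ E, ∃ z, π z = p := by
    intro p hp
    rw [hE] at hp
    simp only [Finset.mem_biUnion, Finset.mem_range, Finset.mem_image] at hp
    obtain ⟨_, _, z, _, rfl⟩ := hp
    exact ⟨z, rfl⟩
  have hS' : ∀ p ∈ E, LinearIndependent p.asIdeal.ResidueField
      (fun i : S => toD p (m i.1.castSucc)) := by
    intro p hp
    obtain ⟨z, rfl⟩ := hE_im p hp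
    have hmemS : ∀ i : S, i.1.1 < h := fun i => (hSdef i.1).mp i.2
    have := (hS z).comp (fun i : S => (⟨i.1.1, hmemS i⟩ : Fin h)) (by
      intro i j hij
      apply Subtype.ext
      apply Fin.ext
      simpa using hij)
    convert this using 1
    funext i
    rfl
  obtain ⟨a, haS, haJ, ha⟩ := exists_localD' m E S J hS' (by
    intro p hp
    obtain ⟨z, rfl⟩ := hE_im p hp
    exact hJ z)
  have haS' : ∀ i : Fin n, i.1 < h → a i = 0 := fun i hi => haS i ((hSdef i).mpr hi)
  refine ⟨a, haS', haJ, fun z => ?_⟩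
  by_cases hbad : min n (ρ z) + 1 ≤ rkD (π z) m
  · have := rkD_le_modv_add_one (π z) m a
    omega
  · have hmz := hm z
    have h1 : ρ z ≤ n := by
      by_contra hcon
      rw [not_le] at hcon
      have : min (n + 1) (ρ z) = n + 1 := by omega
      have : min n (ρ z) = n := by omega
      omega
    have hrk : rkD (π z) m = ρ z := by
      have : min (n + 1) (ρ z) = ρ z := by omega
      have : min n (ρ z) = ρ z := by omega
      omega
    have hle : minorIdeal m (ρ z + 1) ≤ (π z).asIdeal := by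
      rw [← rkD_lt_iff]; omega
    obtain ⟨z', hz'F, hz'le, hz'I, hz'⟩ := hF (minorIdeal m (ρ z + 1)) z hle
    rcases hz' with rfl | hlt | hsmall
    · have hzE : π z' ∈ E := by
        rw [hE]
        simp only [Finset.mem_biUnion, Finset.mem_range, Finset.mem_image]
        exact ⟨ρ z' + 1, by omega, z', hz'F, rfl⟩
      have := ha (π z') hzE
      rw [hrk] at this
      exact this
    · exfalso
      have h4 := hm z'
      have h5 : rkD (π z') m < ρ z + 1 := by
        rw [rkD_lt_iff]; exact hz'I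
      have : min (n + 1) (ρ z') ≥ ρ z + 1 := by
        rw [ge_iff_le, le_min_iff]; omega
      omega
    · -- the fixed part alone has rank `h ≥ ρ z`
      have h6 : h ≤ rkD (π z) (modv m a) := by
        apply le_rkD_of_li (π z) (modv m a) (fun k : Fin h => (Fin.castLE hn k : Fin n))
        have : (fun k : Fin h => toD (π z) (modv m a (Fin.castLE hn k))) =
            fun k : Fin h => toD (π z) (m (Fin.castLE (by omega) k)) := by
          funext k
          have h0 : a (Fin.castLE hn k) = 0 := haS' _ (by simp)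
          simp only [modv, h0, zero_smul, add_zero]
          rfl
        rw [this]
        exact hS z
      omega

/-- Iterating the constrained step. -/
theorem exists_basicD' {𝒵 : Type*} (π : 𝒵 → PrimeSpectrum R) (ρ : 𝒵 → ℕ) (h : ℕ) (J : Ideal R)
    (hfin : ∀ I : Ideal R, ∃ F : Finset 𝒵, ∀ z : 𝒵, I ≤ (π z).asIdeal →
      ∃ z' ∈ F, π z' ≤ π z ∧ I ≤ (π z').asIdeal ∧ (z' = z ∨ ρ z + 1 ≤ ρ z' ∨ ρ z ≤ h))
    (hJ : ∀ z, ¬ J ≤ (π z).asIdeal) (s : Fin h → M)
    (hs : ∀ z, LinearIndependent (π z).asIdeal.ResidueField (fun k => toD (π z) (s k))) :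
    ∀ (r : ℕ) (m : Fin (h + 1 + r) → M), (∀ k : Fin h, m (Fin.castLE (by omega) k) = s k) →
      (∀ z, min (h + 1 + r) (ρ z) ≤ rkD (π z) m) →
      ∃ t : M, t - m ⟨h, by omega⟩ ∈ J • (⊤ : Submodule R M) ∧
        ∀ z, min (h + 1) (ρ z) ≤ rkD (π z) (Fin.snoc (α := fun _ => M) s t) := by
  intro r
  induction r with
  | zero =>
    intro m hms hm
    refine ⟨m ⟨h, by omega⟩, by simp, fun z => ?_⟩
    have heq : (Fin.snoc (α := fun _ => M) s (m ⟨h, by omega⟩) : Fin (h + 1) → M) = m := by
      funext i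
      induction i using Fin.lastCases with
      | last => simp [Fin.snoc_last]; rfl
      | cast k =>
        rw [Fin.snoc_castSucc, ← hms k]
        rfl
    rw [heq]
    exact hm z
  | succ r ih =>
    intro m hms hm
    have hS : ∀ z, LinearIndependent (π z).asIdeal.ResidueField
        (fun k : Fin h => toD (π z) (m (Fin.castLE (by omega) k))) := by
      intro z
      have : (fun k : Fin h => toD (π z) (m (Fin.castLE (by omega) k))) =
          fun k => toD (π z) (s k) := by
        funext k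
        rw [hms k]
      rw [this]
      exact hs z
    obtain ⟨a, haS, haJ, ha⟩ := exists_stepD' π ρ h J hfin hJ (n := h + 1 + r) (by omega) m hS hm
    obtain ⟨t, ht, htU⟩ := ih (modv m a) (fun k => by
      have h0 : a (Fin.castLE (by omega) k) = 0 := haS _ (by simp)
      simp only [modv, h0, zero_smul, add_zero]
      rw [← hms k]
      rfl) ha
    refine ⟨t, ?_, htU⟩
    have hlt : h < h + 1 + r := by omega
    have hlt' : h < h + 1 + r + 1 := by omega
    have e : t - m ⟨h, hlt'⟩ =
        (t - modv m a ⟨h, hlt⟩) + a ⟨h, hlt⟩ • m (Fin.last (h + 1 + r)) := by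
      have : modv m a ⟨h, hlt⟩ = m ⟨h, hlt'⟩ + a ⟨h, hlt⟩ • m (Fin.last (h + 1 + r)) := rfl
      rw [this]
      abel
    have e2 : t - m ⟨h, by omega⟩ = t - m ⟨h, hlt'⟩ := rfl
    rw [e2, e]
    exact add_mem ht (Submodule.smul_mem_smul (haJ _) Submodule.mem_top)

end Groth.Agent.Serre9
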