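import Mathlib
import Groth.Agent.Lib.SerreC2_helper9

/-!
# Serre's splitting proposition, part 3: the quotients `V(x) = M(x)/B(x)` at closed points (helper9)
APPEND-ONLY once landed.
-/

set_option autoImplicit false
universe u v

namespace Groth.Agent.Serre9

open Module Submodule TopologicalSpace

variable {R : Type u} [CommRing R] {M : Type v} [AddCommGroup M] [Module R M]

/-- The subspace `B(x)` of `M(x) = M/xM`. -/
def BqS (x : MaximalSpectrum R) (M : Type v) [AddCommGroup M] [Module R M] :
    Submodule (R ⧸ x.asIdeal) (M ⧸ (x.asIdeal • ⊤ : Submodule R M)) :=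
  Submodule.span (R ⧸ x.asIdeal)
    ((x.asIdeal • ⊤ : Submodule R M).mkQ '' {m : M | ∀ φ : M →ₗ[R] R, φ m ∈ x.asIdeal})

/-- The image of an element of `M` in `V(x) = M(x)/B(x)`. -/
def imgS (x : MaximalSpectrum R) (m : M) : (M ⧸ (x.asIdeal • ⊤ : Submodule R M)) ⧸ BqS x M :=
  (BqS x M).mkQ ((x.asIdeal • ⊤ : Submodule R M).mkQ m)

theorem imgS_add (x : MaximalSpectrum R) (m m' : M) : imgS x (m + m') = imgS x m + imgS x m' := by
  unfold imgS
  rw [map_add, map_add]

theorem imgS_smul (x : MaximalSpectrum R) (r : R) (m : M) :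
    imgS x (r • m) = Ideal.Quotient.mk x.asIdeal r • imgS x m := by
  unfold imgS
  rw [← map_smul]
  rfl

theorem imgS_zero (x : MaximalSpectrum R) : imgS x (0 : M) = 0 := by
  unfold imgS
  rw [map_zero, map_zero]

theorem imgS_sum (x : MaximalSpectrum R) {ι : Type*} (s : Finset ι) (r : ι → R) (m : ι → M) :
    imgS x (∑ i ∈ s, r i • m i) = ∑ i ∈ s, Ideal.Quotient.mk x.asIdeal (r i) • imgS x (m i) := by
  classical
  induction s using Finset.induction_on with
  | empty => simp [imgS_zero]
  | insert a s ha ih => rw [Finset.sum_insert ha, Finset.sum_insert ha, imgS_add, imgS_smul, ih]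

theorem imgS_surjective (x : MaximalSpectrum R) : Function.Surjective (imgS (M := M) x) := by
  intro y
  obtain ⟨y', rfl⟩ := (BqS x M).mkQ_surjective y
  obtain ⟨m, rfl⟩ := (x.asIdeal • ⊤ : Submodule R M).mkQ_surjective y'
  exact ⟨m, rfl⟩

theorem functional_mem_of_mem_smul (x : MaximalSpectrum R) {m : M}
    (hm : m ∈ (x.asIdeal • ⊤ : Submodule R M)) (φ : M →ₗ[R] R) : φ m ∈ x.asIdeal := by
  refine Submodule.smul_induction_on hm (fun r hr n _ => ?_) (fun a b ha hb => ?_)
  · rw [map_smul, smul_eq_mul]
    exact Ideal.mul_mem_right _ _ hr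
  · rw [map_add]
    exact Ideal.add_mem _ ha hb

/-- The kernel of `M → V(x)`. -/
theorem imgS_eq_zero_iff (x : MaximalSpectrum R) (m : M) :
    imgS x m = 0 ↔ ∀ φ : M →ₗ[R] R, φ m ∈ x.asIdeal := by
  unfold imgS
  rw [mkQ_apply, Submodule.Quotient.mk_eq_zero]
  constructor
  · intro h
    have key : ∀ y ∈ BqS x M, ∃ m' : M, (x.asIdeal • ⊤ : Submodule R M).mkQ m' = y ∧
        ∀ φ : M →ₗ[R] R, φ m' ∈ x.asIdeal := by
      intro y hy
      unfold BqS at hy
      induction hy using Submodule.span_induction with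
      | mem y hy =>
        obtain ⟨m', hm', rfl⟩ := hy
        exact ⟨m', rfl, hm'⟩
      | zero => exact ⟨0, by simp, fun φ => by simp⟩
      | add a b _ _ ha hb =>
        obtain ⟨ma, rfl, hma⟩ := ha
        obtain ⟨mb, rfl, hmb⟩ := hb
        exact ⟨ma + mb, by simp, fun φ => by rw [map_add]; exact Ideal.add_mem _ (hma φ) (hmb φ)⟩
      | smul c a _ ha =>
        obtain ⟨ma, rfl, hma⟩ := ha
        obtain ⟨r, rfl⟩ := Ideal.Quotient.mk_surjective c
        exact ⟨r • ma, rfl, fun φ => by
          rw [map_smul, smul_eq_mul]; exact Ideal.mul_mem_left _ _ (hma φ)⟩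
    obtain ⟨m', hm', hφ⟩ := key _ h
    intro φ
    have h1 : m - m' ∈ (x.asIdeal • ⊤ : Submodule R M) := by
      rw [← Submodule.Quotient.mk_eq_zero, Submodule.Quotient.mk_sub, sub_eq_zero]
      exact hm'.symm
    have h2 := functional_mem_of_mem_smul x h1 φ
    have : φ m = φ (m - m') + φ m' := by rw [← map_add, sub_add_cancel]
    rw [this]
    exact Ideal.add_mem _ h2 (hφ φ)
  · intro h
    exact Submodule.subset_span ⟨m, h, rfl⟩

/-- The prime of the spectrum attached to a closed point. -/
def ptPrime (x : MaximalSpectrum R) : PrimeSpectrum R := ⟨x.asIdeal, x.isMaximal.isPrime⟩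

theorem toD_eq_zero_iff (p : PrimeSpectrum R) (m : M) :
    toD p m = 0 ↔ ∀ φ : M →ₗ[R] R, φ m ∈ p.asIdeal := by
  constructor
  · intro h φ
    have := congrArg (fun v => v.1 φ) h
    simp only [toD_val] at this
    exact Ideal.algebraMap_residueField_eq_zero.mp this
  · intro h
    apply Subtype.ext
    funext φ
    rw [toD_val]
    exact Ideal.algebraMap_residueField_eq_zero.mpr (h φ)

theorem toD_sum (p : PrimeSpectrum R) {ι : Type*} (s : Finset ι) (r : ι → R) (m : ι → M) :
    toD p (∑ i ∈ s, r i • m i) =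
      ∑ i ∈ s, algebraMap R p.asIdeal.ResidueField (r i) • toD p (m i) := by
  classical
  induction s using Finset.induction_on with
  | empty => simp [toD_zero]
  | insert a s ha ih => rw [Finset.sum_insert ha, Finset.sum_insert ha, toD_add, toD_smul, ih]

/-- Linear independence in `V(x)` is linear independence in the dual fibre. -/
theorem li_imgS_iff (x : MaximalSpectrum R) {ι : Type*} [Fintype ι] (m : ι → M) :
    LinearIndependent (R ⧸ x.asIdeal) (fun i => imgS x (m i)) ↔
      LinearIndependent (ptPrime x).asIdeal.ResidueField (fun i => toD (ptPrime x) (m i)) := by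
  classical
  haveI : x.asIdeal.IsMaximal := x.isMaximal
  have hsurj : Function.Surjective (algebraMap R (ptPrime x).asIdeal.ResidueField) :=
    Ideal.algebraMap_residueField_surjective x.asIdeal
  rw [Fintype.linearIndependent_iff, Fintype.linearIndependent_iff]
  constructor
  · intro h g hg
    choose r hr using fun i => hsurj (g i)
    have h1 : toD (ptPrime x) (∑ i, r i • m i) = 0 := by
      rw [toD_sum, ← hg]
      exact Finset.sum_congr rfl fun i _ => by rw [hr i]
    have h2 : imgS x (∑ i, r i • m i) = 0 :=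
      (imgS_eq_zero_iff x _).mpr ((toD_eq_zero_iff (ptPrime x) _).mp h1)
    rw [imgS_sum] at h2
    intro i
    have := h (fun i => Ideal.Quotient.mk x.asIdeal (r i)) h2 i
    rw [← hr i]
    exact Ideal.algebraMap_residueField_eq_zero.mpr (Ideal.Quotient.eq_zero_iff_mem.mp this)
  · intro h g hg
    choose r hr using fun i => Ideal.Quotient.mk_surjective (g i)
    have h1 : imgS x (∑ i, r i • m i) = 0 := by
      rw [imgS_sum, ← hg]
      exact Finset.sum_congr rfl fun i _ => by rw [hr i]
    have h2 : toD (ptPrime x) (∑ i, r i • m i) = 0 :=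
      (toD_eq_zero_iff (ptPrime x) _).mpr ((imgS_eq_zero_iff x _).mp h1)
    rw [toD_sum] at h2
    intro i
    have := h (fun i => algebraMap R (ptPrime x).asIdeal.ResidueField (r i)) h2 i
    rw [← hr i]
    exact Ideal.Quotient.eq_zero_iff_mem.mpr (Ideal.algebraMap_residueField_eq_zero.mp this)

variable [Module.Finite R M]

/-- The generic rank on an irreducible closed subset is attained at a closed point. -/
theorem le_rkD_icPrime_iff (Z : IrreducibleCloseds (MaximalSpectrum R)) {ι : Type*} [Finite ι]
    (m : ι → M) (w : ℕ) :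
    w ≤ rkD (icPrime Z) m ↔ ∃ x ∈ (Z : Set (MaximalSpectrum R)), w ≤ rkD (ptPrime x) m := by
  rw [← not_lt, rkD_lt_iff]
  constructor
  · intro h
    by_contra hcon
    push Not at hcon
    apply h
    intro a ha
    change a ∈ icIdeal Z
    rw [mem_icIdeal]
    intro x hx
    have := hcon x hx
    rw [rkD_lt_iff] at this
    exact this ha
  · rintro ⟨x, hx, hw⟩ hle
    have : rkD (ptPrime x) m < w := by
      rw [rkD_lt_iff]
      exact hle.trans (icIdeal_le_of_mem Z hx)
    omega

/-- The dimension hypothesis gives a lower bound for the rank of a generating family. -/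
theorem le_rkD_of_finrank (x : MaximalSpectrum R) {ι : Type*} [Finite ι] (m : ι → M)
    (hm : span R (Set.range m) = ⊤) (w : ℕ)
    (hw : w ≤ Module.finrank (R ⧸ x.asIdeal) ((M ⧸ (x.asIdeal • ⊤ : Submodule R M)) ⧸ BqS x M)) :
    w ≤ rkD (ptPrime x) m := by
  haveI : x.asIdeal.IsMaximal := x.isMaximal
  obtain ⟨f, hf⟩ := exists_linearIndependent_of_le_finrank hw
  choose y hy using fun i => imgS_surjective (M := M) x (f i)
  have h1 : LinearIndependent (R ⧸ x.asIdeal) (fun i => imgS x (y i)) := by
    have : (fun i => imgS x (y i)) = f := funext hy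
    rw [this]
    exact hf
  have h2 := (li_imgS_iff x y).mp h1
  have h3 := h2.fintype_card_le_finrank
  simp only [Fintype.card_fin] at h3
  unfold rkD
  rw [frk_eq_finrank_of_span_eq_top _ _ (span_toD_eq_top (ptPrime x) m hm)]
  exact h3

end Groth.Agent.Serre9
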