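import Mathlib
import Groth.Agent.Lib.SerreC3_helper9

/-!
# Serre's splitting proposition, part 4: the proposition (helper9)
APPEND-ONLY once landed.
-/

set_option autoImplicit false
universe u v

namespace Groth.Agent.Serre9

open Module Submodule TopologicalSpace

variable {R : Type u} [CommRing R]

/-- Finitely many irreducible closed sets covering the locus of a set of elements. -/
theorem ic_components [NoetherianSpace (MaximalSpectrum R)] (I : Set R) :
    ∃ T : Finset (IrreducibleCloseds (MaximalSpectrum R)),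
      (∀ G ∈ T, ∀ x ∈ (G : Set (MaximalSpectrum R)), I ⊆ x.asIdeal) ∧
      (∀ x : MaximalSpectrum R, I ⊆ x.asIdeal → ∃ G ∈ T, x ∈ (G : Set (MaximalSpectrum R))) ∧
      ∀ Z : IrreducibleCloseds (MaximalSpectrum R),
        (∀ x ∈ (Z : Set (MaximalSpectrum R)), I ⊆ x.asIdeal) → ∃ G ∈ T, Z ≤ G := by
  classical
  obtain ⟨S, hSf, hSc, hSi, hSU⟩ :=
    NoetherianSpace.exists_finite_set_isClosed_irreducible (isClosed_idealLocus (I : Set R))
  refine ⟨hSf.toFinset.attach.image fun t =>
    ⟨t.1, hSi t.1 (hSf.mem_toFinset.mp t.2), hSc t.1 (hSf.mem_toFinset.mp t.2)⟩, ?_, ?_, ?_⟩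
  · intro G hG x hx
    rw [Finset.mem_image] at hG
    obtain ⟨t, -, rfl⟩ := hG
    have hmY : x ∈ {m : MaximalSpectrum R | (I : Set R) ⊆ m.asIdeal} := by
      rw [hSU]; exact ⟨t.1, hSf.mem_toFinset.mp t.2, hx⟩
    exact hmY
  · intro x hx
    have hmY : x ∈ {m : MaximalSpectrum R | (I : Set R) ⊆ m.asIdeal} := hx
    rw [hSU] at hmY
    obtain ⟨z, hzS, hxz⟩ := hmY
    refine ⟨⟨z, hSi z hzS, hSc z hzS⟩, ?_, hxz⟩
    rw [Finset.mem_image]
    exact ⟨⟨z, hSf.mem_toFinset.mpr hzS⟩, Finset.mem_attach _ _, rfl⟩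
  · intro Z hZ
    have hsub : (Z : Set (MaximalSpectrum R)) ⊆
        ⋃₀ (↑hSf.toFinset : Set (Set (MaximalSpectrum R))) := by
      rw [Set.Finite.coe_toFinset, ← hSU]
      intro m hm
      exact hZ m hm
    obtain ⟨z, hzS, hZz⟩ := (isIrreducible_iff_sUnion_isClosed.mp Z.isIrreducible') hSf.toFinset
      (fun t ht => hSc t (hSf.mem_toFinset.mp ht)) hsub
    have hzS' : z ∈ S := hSf.mem_toFinset.mp hzS
    refine ⟨⟨z, hSi z hzS', hSc z hzS'⟩, ?_, hZz⟩
    rw [Finset.mem_image]
    exact ⟨⟨z, hzS⟩, Finset.mem_attach _ _, rfl⟩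

/-- The truncated codimension. -/
noncomputable def cdim (k : ℕ) (Z : IrreducibleCloseds (MaximalSpectrum R)) : ℕ :=
  (min (Order.coheight Z) (k : ℕ∞)).toNat

theorem cdim_le (k : ℕ) (Z : IrreducibleCloseds (MaximalSpectrum R)) : cdim k Z ≤ k := by
  unfold cdim
  exact ENat.toNat_le_of_le_coe (min_le_right _ _)

theorem le_coheight_of_cdim (k : ℕ) (Z : IrreducibleCloseds (MaximalSpectrum R))
    (h : k ≤ cdim k Z) : (k : ℕ∞) ≤ Order.coheight Z := by
  unfold cdim at h
  by_contra hcon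
  rw [not_le] at hcon
  rw [min_eq_left hcon.le] at h
  lift Order.coheight Z to ℕ using ne_top_of_lt hcon with c hc
  rw [ENat.toNat_natCast] at h
  have : c < k := by exact_mod_cast hcon
  omega

theorem cdim_lt_of_lt (k : ℕ) {Z Z' : IrreducibleCloseds (MaximalSpectrum R)} (hlt : Z < Z')
    (hZ : cdim k Z < k) : cdim k Z' + 1 ≤ cdim k Z := by
  have h1 := Order.coheight_add_one_le hlt
  unfold cdim at hZ ⊢
  have hZlt : Order.coheight Z < (k : ℕ∞) := by
    by_contra hcon
    rw [not_lt] at hcon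
    rw [min_eq_right hcon, ENat.toNat_natCast] at hZ
    omega
  have hZ'lt : Order.coheight Z' < (k : ℕ∞) :=
    lt_of_le_of_lt (le_self_add.trans h1) hZlt
  rw [min_eq_left hZlt.le, min_eq_left hZ'lt.le]
  lift Order.coheight Z to ℕ using ne_top_of_lt hZlt with c hc
  lift Order.coheight Z' to ℕ using ne_top_of_lt hZ'lt with c' hc'
  rw [ENat.toNat_natCast, ENat.toNat_natCast]
  exact_mod_cast h1

variable {M : Type v} [AddCommGroup M] [Module R M] [Module.Finite R M]

theorem li_of_card_le_rkD (p : PrimeSpectrum R) {n : ℕ} (m : Fin n → M) (h : n ≤ rkD p m) :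
    LinearIndependent p.asIdeal.ResidueField (fun i => toD p (m i)) := by
  rw [linearIndependent_iff_card_eq_finrank_span, Fintype.card_fin]
  have h1 : rkD p m ≤ n := frk_le_card _ _
  have h2 : rkD p m = n := le_antisymm h1 h
  exact h2.symm

/-- **Serre's splitting proposition.** -/
theorem serre_proposition [NoetherianSpace (MaximalSpectrum R)]
    (h : ℕ) (s : Fin h → M) (F : Set (MaximalSpectrum R))
    (n : ℕ) (xs : Fin n → MaximalSpectrum R) (hxF : ∀ i, xs i ∈ F)
    (v : ∀ i : Fin n, M ⧸ ((xs i).asIdeal • ⊤ : Submodule R M)) (hxs : Function.Injective xs)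
    (k : ℕ)
    (hdim : ∀ x : MaximalSpectrum R, h + k ≤
      Module.finrank (R ⧸ x.asIdeal) ((M ⧸ (x.asIdeal • ⊤ : Submodule R M)) ⧸ BqS x M))
    (hZ : ∀ x : MaximalSpectrum R,
      ¬ LinearIndependent (R ⧸ x.asIdeal) (fun i => imgS x (s i)) → x ∈ F) :
    ∃ (t : M) (F' : Set (MaximalSpectrum R)), IsClosed F' ∧
      (∀ i : Fin n, imgS (xs i) t = (BqS (xs i) M).mkQ (v i)) ∧
      (∀ x : MaximalSpectrum R,
        ¬ LinearIndependent (R ⧸ x.asIdeal)
          (Fin.snoc (α := fun _ => (M ⧸ (x.asIdeal • ⊤ : Submodule R M)) ⧸ BqS x M)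
            (fun i => imgS x (s i)) (imgS x t)) → x ∈ F ∪ F') ∧
      ∀ Z : IrreducibleCloseds (MaximalSpectrum R), (Z : Set (MaximalSpectrum R)) ⊆ F' →
        (k : ℕ∞) ≤ Order.coheight Z := by
  classical
  -- the index set
  let 𝒵 := {Z : IrreducibleCloseds (MaximalSpectrum R) // ¬ (Z : Set (MaximalSpectrum R)) ⊆ F}
  let π : 𝒵 → PrimeSpectrum R := fun z => icPrime z.1
  let ρ : 𝒵 → ℕ := fun z => h + (k - cdim k z.1)
  set J : Ideal R := Finset.univ.inf (fun i => (xs i).asIdeal) with hJdef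
  -- finiteness
  have hfin : ∀ I : Ideal R, ∃ T : Finset 𝒵, ∀ z : 𝒵, I ≤ (π z).asIdeal →
      ∃ z' ∈ T, π z' ≤ π z ∧ I ≤ (π z').asIdeal ∧ (z' = z ∨ ρ z + 1 ≤ ρ z' ∨ ρ z ≤ h) := by
    intro I
    obtain ⟨T, hT1, -, hT3⟩ := ic_components (R := R) (I : Set R)
    refine ⟨T.subtype _, fun z hz => ?_⟩
    obtain ⟨G, hGT, hzG⟩ := hT3 z.1 (fun x hx => (hz.trans (icIdeal_le_of_mem z.1 hx)))
    have hGF : ¬ (G : Set (MaximalSpectrum R)) ⊆ F := fun hsub => z.2 (fun x hx => hsub (hzG hx))
    refine ⟨⟨G, hGF⟩, Finset.mem_subtype.mpr hGT, ?_, ?_, ?_⟩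
    · intro a ha
      change a ∈ icIdeal z.1
      rw [mem_icIdeal]
      intro x hx
      exact (mem_icIdeal G a).mp ha x (hzG hx)
    · intro a ha
      change a ∈ icIdeal G
      rw [mem_icIdeal]
      intro x hx
      exact hT1 G hGT x hx ha
    · rcases eq_or_lt_of_le hzG with heq | hlt
      · left
        exact Subtype.ext heq.symm
      · right
        by_cases hc : cdim k z.1 < k
        · left
          have := cdim_lt_of_lt k hlt hc
          have h2 := cdim_le k G
          show h + (k - cdim k z.1) + 1 ≤ h + (k - cdim k G)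
          omega
        · right
          show h + (k - cdim k z.1) ≤ h
          omega
  -- the ideal J avoids all relevant primes
  have hJ : ∀ z : 𝒵, ¬ J ≤ (π z).asIdeal := by
    intro z hle
    obtain ⟨i, -, hi⟩ := (Ideal.IsPrime.inf_le' (icPrime z.1).isPrime).mp hle
    have heq : (xs i).asIdeal = icIdeal z.1 :=
      (xs i).isMaximal.eq_of_le (icPrime z.1).isPrime.ne_top hi
    apply z.2
    intro x hx
    have h1 : (xs i).asIdeal ≤ x.asIdeal := heq ▸ icIdeal_le_of_mem z.1 hx
    have h2 : (xs i).asIdeal = x.asIdeal := (xs i).isMaximal.eq_of_le x.isMaximal.ne_top h1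
    have h3 : xs i = x := MaximalSpectrum.ext h2
    rw [← h3]
    exact hxF i
  -- independence of `s` at the relevant primes
  have hs : ∀ z : 𝒵, LinearIndependent (π z).asIdeal.ResidueField
      (fun k => toD (π z) (s k)) := by
    intro z
    obtain ⟨x, hxZ, hxF'⟩ := Set.not_subset.mp z.2
    have h1 : LinearIndependent (R ⧸ x.asIdeal) (fun i => imgS x (s i)) := by
      by_contra hcon
      exact hxF' (hZ x hcon)
    have h2 := (li_imgS_iff x s).mp h1
    have h3 : h ≤ rkD (ptPrime x) s := le_rkD_of_li (ptPrime x) s id h2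
    have h4 : h ≤ rkD (icPrime z.1) s := (le_rkD_icPrime_iff z.1 s h).mpr ⟨x, hxZ, h3⟩
    exact li_of_card_le_rkD (icPrime z.1) s h4
  -- the initial element
  have hcop : Pairwise (Function.onFun IsCoprime fun i => (xs i).asIdeal) := by
    intro i j hij
    haveI := (xs i).isMaximal
    haveI := (xs j).isMaximal
    exact Ideal.isCoprime_of_isMaximal (fun heq => hij (hxs (MaximalSpectrum.ext heq)))
  have ht₀ : ∃ t₀ : M, ∀ i, ((xs i).asIdeal • ⊤ : Submodule R M).mkQ t₀ = v i := by
    choose vt hvt using fun i => ((xs i).asIdeal • ⊤ : Submodule R M).mkQ_surjective (v i)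
    choose e he using fun i : Fin n =>
      Ideal.exists_forall_sub_mem_ideal hcop (fun j => if j = i then (1 : R) else 0)
    refine ⟨∑ j, e j • vt j, fun i => ?_⟩
    rw [← hvt i, mkQ_apply, mkQ_apply, Submodule.Quotient.eq]
    have : ∑ j, e j • vt j - vt i = (e i - 1) • vt i + ∑ j ∈ Finset.univ.erase i, e j • vt j := by
      rw [← Finset.add_sum_erase Finset.univ (fun j => e j • vt j) (Finset.mem_univ i), sub_smul,
        one_smul]
      abel
    rw [this]
    refine add_mem (Submodule.smul_mem_smul ?_ mem_top)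
      (sum_mem fun j hj => Submodule.smul_mem_smul ?_ mem_top)
    · have := he i i
      simpa using this
    · have := he j i
      have hne : i ≠ j := (Finset.ne_of_mem_erase hj).symm
      simpa [hne] using this
  obtain ⟨t₀, ht₀⟩ := ht₀
  -- generators
  obtain ⟨r, g, hg⟩ := Module.Finite.exists_fin (R := R) (M := M)
  let m : Fin (h + 1 + r) → M := Fin.append (Fin.snoc (α := fun _ => M) s t₀) g
  have hm_s : ∀ k' : Fin h, m (Fin.castLE (by omega) k') = s k' := by
    intro k'
    have : (Fin.castLE (by omega) k' : Fin (h + 1 + r)) = Fin.castAdd r (Fin.castSucc k') := rfl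
    rw [this]
    show Fin.append _ _ _ = _
    rw [Fin.append_left, Fin.snoc_castSucc]
  have hm_t : m ⟨h, by omega⟩ = t₀ := by
    have : (⟨h, by omega⟩ : Fin (h + 1 + r)) = Fin.castAdd r (Fin.last h) := rfl
    rw [this]
    show Fin.append _ _ _ = _
    rw [Fin.append_left, Fin.snoc_last]
  have hm_span : span R (Set.range m) = ⊤ := by
    rw [eq_top_iff, ← hg]
    apply span_mono
    rintro _ ⟨j, rfl⟩
    exact ⟨Fin.natAdd (h + 1) j, by show Fin.append _ _ _ = _; rw [Fin.append_right]⟩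
  have hm_rk : ∀ z : 𝒵, min (h + 1 + r) (ρ z) ≤ rkD (π z) m := by
    intro z
    obtain ⟨x, hx⟩ := z.1.isIrreducible'.nonempty
    have h1 := le_rkD_of_finrank x m hm_span (h + k) (hdim x)
    have h2 : h + k ≤ rkD (icPrime z.1) m := (le_rkD_icPrime_iff z.1 m (h + k)).mpr ⟨x, hx, h1⟩
    refine (min_le_right _ _).trans ?_
    show h + (k - cdim k z.1) ≤ rkD (icPrime z.1) m
    omega
  obtain ⟨t, htJ, htrk⟩ := exists_basicD' π ρ h J hfin hJ s hs r m hm_s hm_rk
  rw [hm_t] at htJ
  -- the bad locus and its components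
  obtain ⟨T, hT1, hT2, hT3⟩ := ic_components (R := R)
    ((minorIdeal (R := R) (Fin.snoc (α := fun _ => M) s t) (h + 1) : Ideal R) : Set R)
  set Tf : Finset (IrreducibleCloseds (MaximalSpectrum R)) :=
    T.filter (fun G : IrreducibleCloseds (MaximalSpectrum R) =>
      ¬ ((G : Set (MaximalSpectrum R)) ⊆ F)) with hTf
  refine ⟨t, ⋃ G : IrreducibleCloseds (MaximalSpectrum R), ⋃ (_ : G ∈ Tf),
    (G : Set (MaximalSpectrum R)), ?_, ?_, ?_, ?_⟩
  · exact isClosed_biUnion_finset fun G _ => G.isClosed'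
  · intro i
    unfold imgS
    congr 1
    rw [← ht₀ i, mkQ_apply, mkQ_apply, Submodule.Quotient.eq]
    refine (Submodule.smul_mono_left ?_) htJ
    rw [hJdef]
    exact Finset.inf_le (Finset.mem_univ i)
  · intro x hx
    have h1 : ¬ LinearIndependent (ptPrime x).asIdeal.ResidueField
        (fun j => toD (ptPrime x) (Fin.snoc (α := fun _ => M) s t j)) := by
      intro hli
      apply hx
      have h2 := (li_imgS_iff x (Fin.snoc (α := fun _ => M) s t)).mpr hli
      have h3 : (fun j => imgS x (Fin.snoc (α := fun _ => M) s t j)) =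
          Fin.snoc (α := fun _ => (M ⧸ (x.asIdeal • ⊤ : Submodule R M)) ⧸ BqS x M)
            (fun i => imgS x (s i)) (imgS x t) := by
        have := Fin.comp_snoc (imgS (M := M) x) s t
        exact this
      rw [← h3]
      exact h2
    have h2 : rkD (ptPrime x) (Fin.snoc (α := fun _ => M) s t) < h + 1 := by
      by_contra hcon
      rw [not_lt] at hcon
      exact h1 (li_of_card_le_rkD (ptPrime x) _ hcon)
    rw [rkD_lt_iff] at h2
    obtain ⟨G, hGT, hxG⟩ := hT2 x h2
    by_cases hGF : (G : Set (MaximalSpectrum R)) ⊆ F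
    · left; exact hGF hxG
    · right
      rw [Set.mem_iUnion₂]
      exact ⟨G, by rw [hTf]; exact Finset.mem_filter.mpr ⟨hGT, hGF⟩, hxG⟩
  · intro Z hZF'
    have hsub : (Z : Set (MaximalSpectrum R)) ⊆
        ⋃₀ (↑(Tf.image (fun G : IrreducibleCloseds (MaximalSpectrum R) =>
          (G : Set (MaximalSpectrum R)))) : Set (Set (MaximalSpectrum R))) := by
      intro x hx
      have := hZF' hx
      rw [Set.mem_iUnion₂] at this
      obtain ⟨G, hG, hxG⟩ := this
      refine ⟨(G : Set (MaximalSpectrum R)), ?_, hxG⟩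
      rw [Finset.mem_coe, Finset.mem_image]
      exact ⟨G, hG, rfl⟩
    obtain ⟨z, hzS, hZz⟩ := (isIrreducible_iff_sUnion_isClosed.mp Z.isIrreducible') _
      (fun t ht => by
        rw [Finset.mem_image] at ht
        obtain ⟨G, -, rfl⟩ := ht
        exact G.isClosed') hsub
    rw [Finset.mem_image] at hzS
    obtain ⟨G, hG, rfl⟩ := hzS
    rw [hTf, Finset.mem_filter] at hG
    obtain ⟨hGT, hGF⟩ := hG
    have hZG : Z ≤ G := hZz
    have h1 : rkD (icPrime G) (Fin.snoc (α := fun _ => M) s t) < h + 1 := by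
      rw [rkD_lt_iff]
      intro a ha
      change a ∈ icIdeal G
      rw [mem_icIdeal]
      intro x hx
      exact hT1 G hGT x hx ha
    have h2 := htrk ⟨G, hGF⟩
    have h3 : h + (k - cdim k G) ≤ h := by
      have : min (h + 1) (h + (k - cdim k G)) ≤ rkD (icPrime G) (Fin.snoc (α := fun _ => M) s t) :=
        h2
      omega
    have h4 : k ≤ cdim k G := by omega
    exact (le_coheight_of_cdim k G h4).trans (Order.coheight_anti hZG)

end Groth.Agent.Serre9
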