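import Mathlib
import Groth.Agent.Lib.SerreC4_helper9

/-!
# Free submodules that are basic at all primes of small height (helper9)

For S13533: a finite module over a Noetherian ring which is free of rank `r` at every prime of
height `≤ k` contains `r - k` elements which are part of a basis at all these primes.
APPEND-ONLY once landed.
-/

set_option autoImplicit false
universe u v

namespace Groth.Agent.ResProp9

open Module Submodule Groth.Agent.Serre9

/-- Abstract splitting lemma over a local ring. -/
theorem equiv_of_split {L : Type*} [CommRing L] [IsLocalRing L] {F G Q : Type*}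
    [AddCommGroup F] [Module L F] [AddCommGroup G] [Module L G] [AddCommGroup Q] [Module L Q]
    (r h n : ℕ) (hn : h + n = r) (eF : F ≃ₗ[L] (Fin r → L)) [Module.Free L G] [Module.Finite L G]
    (hG : Module.finrank L G = h)
    (S : G →ₗ[L] F) (q : F →ₗ[L] Q) (l : F →ₗ[L] G) (hex : Function.Exact S q)
    (hq : Function.Surjective q) (hl : l ∘ₗ S = LinearMap.id) :
    Nonempty (Q ≃ₗ[L] (Fin n → L)) := by
  obtain ⟨e, he1, he2⟩ := hex.splitInjectiveEquiv hq ⟨l, hl⟩
  haveI : Module.Finite L F := Module.Finite.equiv eF.symm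
  haveI : Module.Free L F := Module.Free.of_equiv eF.symm
  haveI : Module.Finite L Q := Module.Finite.of_surjective q hq
  haveI : Module.Projective L Q := by
    refine Module.Projective.of_split (e.symm.toLinearMap ∘ₗ LinearMap.inr L G Q) q ?_
    rw [he2]
    ext x
    simp
  haveI : Module.Free L Q := Module.free_of_flat_of_isLocalRing
  have h1 : Module.finrank L F = r := by rw [LinearEquiv.finrank_eq eF, Module.finrank_fin_fun]
  have h2 : Module.finrank L F = Module.finrank L G + Module.finrank L Q := by
    rw [LinearEquiv.finrank_eq e, Module.finrank_prod]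
  have h3 : Module.finrank L Q = n := by omega
  exact ⟨(Module.finBasisOfFinrankEq L Q h3).equivFun⟩

variable {R : Type u} [CommRing R] {M : Type v} [AddCommGroup M] [Module R M]

theorem coe_map_eq (Sm : Submonoid R) {M₀ M₁ : Type*} [AddCommGroup M₀] [Module R M₀]
    [AddCommGroup M₁] [Module R M₁] (g : M₀ →ₗ[R] M₁) :
    ⇑(LocalizedModule.map Sm g) =
      ⇑(IsLocalizedModule.map Sm (LocalizedModule.mkLinearMap Sm M₀)
        (LocalizedModule.mkLinearMap Sm M₁) g) := by
  funext x
  induction x using LocalizedModule.induction_on with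
  | h m s => rw [LocalizedModule.map_mk, IsLocalizedModule.map_LocalizedModules]

theorem map_exact (Sm : Submonoid R) {M₀ M₁ M₂ : Type*} [AddCommGroup M₀] [Module R M₀]
    [AddCommGroup M₁] [Module R M₁] [AddCommGroup M₂] [Module R M₂]
    (g : M₀ →ₗ[R] M₁) (h : M₁ →ₗ[R] M₂) (ex : Function.Exact g h) :
    Function.Exact (LocalizedModule.map Sm g) (LocalizedModule.map Sm h) := by
  rw [coe_map_eq, coe_map_eq]
  exact LocalizedModule.map_exact Sm g h ex

/-- The quotient by a family with a unimodular minor at `p` is free at `p`. -/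
theorem quot_equiv_of_det (p : PrimeSpectrum R) (r h n : ℕ) (hn : h + n = r)
    (eM : LocalizedModule p.asIdeal.primeCompl M ≃ₗ[Localization.AtPrime p.asIdeal]
      (Fin r → Localization.AtPrime p.asIdeal))
    (s : Fin h → M) (ψ : Fin h → (M →ₗ[R] R))
    (hdet : (Matrix.of fun i j => ψ j (s i)).det ∉ p.asIdeal) :
    Nonempty (LocalizedModule p.asIdeal.primeCompl (M ⧸ span R (Set.range s))
      ≃ₗ[Localization.AtPrime p.asIdeal] (Fin n → Localization.AtPrime p.asIdeal)) := by
  classical
  haveI : Nontrivial R := ⟨⟨0, 1, fun h01 => p.isPrime.ne_top (by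
    rw [Ideal.eq_top_iff_one, ← h01]; exact zero_mem _)⟩⟩
  set Sm := p.asIdeal.primeCompl with hSm
  set T : Matrix (Fin h) (Fin h) R := Matrix.of fun i j => ψ j (s i) with hT
  set D := T.det with hD
  let S' : (Fin h → R) →ₗ[R] M := Fintype.linearCombination R s
  let Ψ : M →ₗ[R] (Fin h → R) := LinearMap.pi ψ
  have hΨS : ∀ a, Ψ (S' a) = T.transpose.mulVec a := by
    intro a
    funext j
    simp [Ψ, S', Fintype.linearCombination_apply, Matrix.mulVec, dotProduct, T, mul_comm]
  let l0 : M →ₗ[R] (Fin h → R) := (Matrix.mulVecLin T.transpose.adjugate) ∘ₗ Ψ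
  have hl0 : ∀ a, l0 (S' a) = D • a := by
    intro a
    simp only [l0, LinearMap.comp_apply, hΨS, Matrix.mulVecLin_apply, Matrix.mulVec_mulVec,
      Matrix.adjugate_mul, Matrix.det_transpose]
    rw [Matrix.smul_mulVec, Matrix.one_mulVec]
  set N := span R (Set.range s) with hN
  have hrange : LinearMap.range S' = N := Fintype.range_linearCombination R s
  have hex0 : Function.Exact S' N.mkQ := by
    rw [LinearMap.exact_iff, Submodule.ker_mkQ, hrange]
  have hDmem : D ∈ Sm := hdet
  let Dinv : Localization.AtPrime p.asIdeal := Localization.mk 1 ⟨D, hDmem⟩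
  let l : LocalizedModule Sm M →ₗ[Localization.AtPrime p.asIdeal] LocalizedModule Sm (Fin h → R) :=
    Dinv • LocalizedModule.map Sm l0
  have hl : l ∘ₗ LocalizedModule.map Sm S' = LinearMap.id := by
    refine LinearMap.ext fun x => ?_
    induction x using LocalizedModule.induction_on with
    | h a t =>
      simp only [l, LinearMap.comp_apply, LinearMap.smul_apply, LocalizedModule.map_mk, hl0,
        LinearMap.id_apply, Dinv]
      rw [LocalizedModule.mk_smul_mk, one_smul]
      exact LocalizedModule.mk_cancel_common_left ⟨D, hDmem⟩ t a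
  haveI : Module.Free (Localization.AtPrime p.asIdeal) (LocalizedModule Sm (Fin h → R)) :=
    Module.free_of_isLocalizedModule Sm (LocalizedModule.mkLinearMap Sm (Fin h → R))
  have hG : Module.finrank (Localization.AtPrime p.asIdeal) (LocalizedModule Sm (Fin h → R)) = h := by
    rw [Module.finrank_of_isLocalizedModule_of_free (Localization.AtPrime p.asIdeal) Sm
      (LocalizedModule.mkLinearMap Sm (Fin h → R)), Module.finrank_fin_fun]
  exact equiv_of_split r h n hn eM hG (LocalizedModule.map Sm S') (LocalizedModule.map Sm N.mkQ) l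
    (map_exact Sm S' N.mkQ hex0) (LocalizedModule.map_surjective Sm _ N.mkQ_surjective) hl

/-- If `M` is free of rank `r` at `p` (and finitely presented) then any generating family has
dual-fibre rank at least `r` at `p`. -/
theorem le_rkD_of_free [Module.FinitePresentation R M] (p : PrimeSpectrum R) (r : ℕ)
    (eM : LocalizedModule p.asIdeal.primeCompl M ≃ₗ[Localization.AtPrime p.asIdeal]
      (Fin r → Localization.AtPrime p.asIdeal))
    {ι : Type*} [Finite ι] (m : ι → M) (hm : span R (Set.range m) = ⊤) : r ≤ rkD p m := by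
  classical
  haveI : Module.Finite R M := inferInstance
  set Sm := p.asIdeal.primeCompl with hSm
  have hrep : ∀ y : LocalizedModule Sm M, ∃ (x : M) (t : Sm), y = LocalizedModule.mk x t := by
    intro y
    induction y using LocalizedModule.induction_on with
    | h x t => exact ⟨x, t, rfl⟩
  choose x t hxt using fun i : Fin r => hrep (eM.symm (Pi.single i 1))
  let c : Fin r → (M →ₗ[R] Localization.AtPrime p.asIdeal) := fun j =>
    ((LinearMap.proj j ∘ₗ eM.toLinearMap).restrictScalars R) ∘ₗ LocalizedModule.mkLinearMap Sm M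
  have hlift : ∀ j, ∃ (ψ : M →ₗ[R] R) (u : Sm),
      Algebra.linearMap R (Localization.AtPrime p.asIdeal) ∘ₗ ψ = u • c j := fun j =>
    Module.FinitePresentation.exists_lift_of_isLocalizedModule Sm
      (Algebra.linearMap R (Localization.AtPrime p.asIdeal)) (c j)
  choose ψ u hψ using hlift
  have hmk : ∀ i, eM (LocalizedModule.mk (x i) 1) = (t i : R) • Pi.single i 1 := by
    intro i
    have h1 : LocalizedModule.mk (x i) 1 = (t i : R) • LocalizedModule.mk (x i) (t i) := by
      rw [LocalizedModule.smul'_mk]
      exact (LocalizedModule.mk_cancel (t i) (x i)).symm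
    rw [h1, ← hxt i]
    have h2 : ((t i : R) • eM.symm (Pi.single i 1)) =
        (algebraMap R (Localization.AtPrime p.asIdeal) (t i)) • eM.symm (Pi.single i 1) := by
      rw [algebraMap_smul]
    rw [h2, map_smul, LinearEquiv.apply_symm_apply, algebraMap_smul]
  have hentry : ∀ i j, algebraMap R (Localization.AtPrime p.asIdeal) (ψ j (x i)) =
      if i = j then algebraMap R (Localization.AtPrime p.asIdeal) ((u j : R) * (t i : R)) else 0 := by
    intro i j
    have h1 := LinearMap.congr_fun (hψ j) (x i)
    simp only [LinearMap.comp_apply, Algebra.linearMap_apply, LinearMap.smul_apply] at h1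
    rw [h1]
    have h2 : c j (x i) = eM (LocalizedModule.mk (x i) 1) j := rfl
    rw [h2, hmk i]
    by_cases hij : i = j
    · subst hij
      simp [Submonoid.smul_def, Algebra.smul_def, map_mul]
    · simp [hij, Ne.symm hij]
  have hdet : (Matrix.of fun i j => ψ j (x i)).det ∉ p.asIdeal := by
    intro hmem
    have h1 : ¬ IsUnit (algebraMap R (Localization.AtPrime p.asIdeal)
        (Matrix.of fun i j => ψ j (x i)).det) := by
      rw [IsLocalization.AtPrime.isUnit_to_map_iff (Localization.AtPrime p.asIdeal) p.asIdeal]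
      exact fun h => h hmem
    apply h1
    rw [RingHom.map_det]
    have h2 : (algebraMap R (Localization.AtPrime p.asIdeal)).mapMatrix
        (Matrix.of fun i j => ψ j (x i)) =
        Matrix.diagonal fun i => algebraMap R (Localization.AtPrime p.asIdeal)
          ((u i : R) * (t i : R)) := by
      ext i j
      simp only [RingHom.mapMatrix_apply, Matrix.map_apply, Matrix.of_apply, hentry,
        Matrix.diagonal_apply]
      by_cases hij : i = j
      · subst hij; simp
      · simp [hij]
    rw [h2, Matrix.det_diagonal]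
    refine IsUnit.prod_univ_iff.mpr fun i => ?_
    rw [IsLocalization.AtPrime.isUnit_to_map_iff (Localization.AtPrime p.asIdeal) p.asIdeal]
    exact Sm.mul_mem (u i).2 (t i).2
  have hli := liD_of_det_notMem p x ψ hdet
  have h1 : r ≤ frk p.asIdeal.ResidueField (toD p ∘ x) := by
    rw [le_frk_iff]
    exact ⟨id, hli⟩
  refine h1.trans ?_
  unfold rkD
  apply frk_mono
  rw [span_toD_eq_top p m hm]
  exact le_top

/-- The iterative construction: `h` elements independent in the dual fibres at all primes of
height `≤ k`, as long as `h + k ≤ r`. -/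
theorem exists_family [IsNoetherianRing R] [Module.Finite R M] (k r : ℕ)
    (hM : ∀ p : PrimeSpectrum R, p.asIdeal.height ≤ k →
      Nonempty (LocalizedModule p.asIdeal.primeCompl M ≃ₗ[Localization.AtPrime p.asIdeal]
        (Fin r → Localization.AtPrime p.asIdeal))) :
    ∀ h : ℕ, h + k ≤ r → ∃ s : Fin h → M, ∀ p : PrimeSpectrum R, p.asIdeal.height ≤ k →
      LinearIndependent p.asIdeal.ResidueField (fun i => toD p (s i)) := by
  classical
  haveI : Module.FinitePresentation R M := Module.finitePresentation_of_finite R M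
  intro h
  induction h with
  | zero =>
    intro _
    exact ⟨Fin.elim0, fun p _ => linearIndependent_empty_type⟩
  | succ h ih =>
    intro hhk
    obtain ⟨s, hs⟩ := ih (by omega)
    let 𝒵 := {p : PrimeSpectrum R // p.asIdeal.height ≤ k}
    let π : 𝒵 → PrimeSpectrum R := Subtype.val
    let ht : 𝒵 → ℕ := fun z => (π z).asIdeal.height.toNat
    have hht : ∀ z : 𝒵, ((ht z : ℕ) : ℕ∞) = (π z).asIdeal.height := fun z =>
      ENat.coe_toNat (ne_top_of_le_ne_top (ENat.coe_ne_top k) z.2)
    have hht_le : ∀ z : 𝒵, ht z ≤ k := fun z => by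
      have := z.2
      rw [← hht z] at this
      exact_mod_cast this
    let ρ : 𝒵 → ℕ := fun z => h + 1 + (k - ht z)
    have hfin : ∀ I : Ideal R, ∃ T : Finset 𝒵, ∀ z : 𝒵, I ≤ (π z).asIdeal →
        ∃ z' ∈ T, π z' ≤ π z ∧ I ≤ (π z').asIdeal ∧ (z' = z ∨ ρ z + 1 ≤ ρ z' ∨ ρ z ≤ h) := by
      intro I
      have hfinset : {z : 𝒵 | (π z).asIdeal ∈ I.minimalPrimes}.Finite := by
        refine Set.Finite.preimage ?_ (I.finite_minimalPrimes_of_isNoetherianRing R)
        intro z _ z' _ hzz'
        exact Subtype.ext (PrimeSpectrum.ext hzz')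
      refine ⟨hfinset.toFinset, fun z hz => ?_⟩
      obtain ⟨q, hq, hqz⟩ := Ideal.exists_minimalPrimes_le hz
      haveI := hq.1.1
      have hqk : q.height ≤ k := (Ideal.height_mono hqz).trans z.2
      let z' : 𝒵 := ⟨⟨q, hq.1.1⟩, hqk⟩
      refine ⟨z', by simpa using hq, hqz, hq.1.2, ?_⟩
      by_cases heq : q = (π z).asIdeal
      · left
        exact Subtype.ext (PrimeSpectrum.ext heq)
      · right; left
        have hlt : q < (π z).asIdeal := lt_of_le_of_ne hqz heq
        haveI := (π z).isPrime
        have h1 : q.height < (π z).asIdeal.height := Ideal.height_strict_mono_of_isPrime hlt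
        have h2 : ht z' < ht z := by
          have : ((ht z' : ℕ) : ℕ∞) < ((ht z : ℕ) : ℕ∞) := by
            rw [hht z, hht z']
            exact h1
          exact_mod_cast this
        have h3 := hht_le z
        show h + 1 + (k - ht z) + 1 ≤ h + 1 + (k - ht z')
        omega
    have hJ : ∀ z : 𝒵, ¬ (⊤ : Ideal R) ≤ (π z).asIdeal := fun z hle =>
      (π z).isPrime.ne_top (top_le_iff.mp hle)
    have hs' : ∀ z : 𝒵, LinearIndependent (π z).asIdeal.ResidueField
        (fun i => toD (π z) (s i)) := fun z => hs z.1 z.2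
    obtain ⟨n, g, hg⟩ := Module.Finite.exists_fin (R := R) (M := M)
    let m : Fin (h + 1 + n) → M := Fin.append (Fin.snoc (α := fun _ => M) s 0) g
    have hm_s : ∀ k' : Fin h, m (Fin.castLE (by omega) k') = s k' := by
      intro k'
      have : (Fin.castLE (by omega) k' : Fin (h + 1 + n)) = Fin.castAdd n (Fin.castSucc k') := rfl
      rw [this]
      show Fin.append _ _ _ = _
      rw [Fin.append_left, Fin.snoc_castSucc]
    have hm_span : span R (Set.range m) = ⊤ := by
      rw [eq_top_iff, ← hg]
      apply span_mono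
      rintro _ ⟨j, rfl⟩
      exact ⟨Fin.natAdd (h + 1) j, by show Fin.append _ _ _ = _; rw [Fin.append_right]⟩
    have hm_rk : ∀ z : 𝒵, min (h + 1 + n) (ρ z) ≤ rkD (π z) m := by
      intro z
      obtain ⟨eM⟩ := hM z.1 z.2
      have h1 := le_rkD_of_free (π z) r eM m hm_span
      refine (min_le_right _ _).trans ?_
      show h + 1 + (k - ht z) ≤ rkD (π z) m
      omega
    obtain ⟨t, -, htrk⟩ := exists_basicD' π ρ h ⊤ hfin hJ s hs' n m hm_s hm_rk
    refine ⟨Fin.snoc (α := fun _ => M) s t, fun p hp => ?_⟩
    have h1 := htrk ⟨p, hp⟩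
    have h2 : h + 1 ≤ rkD p (Fin.snoc (α := fun _ => M) s t) := by
      have : min (h + 1) (h + 1 + (k - ht ⟨p, hp⟩)) ≤ rkD p (Fin.snoc (α := fun _ => M) s t) := h1
      omega
    exact li_of_card_le_rkD p _ h2

/-- A family which is independent in the dual fibres at all associated primes of the ring is
linearly independent. -/
theorem injective_of_li [IsNoetherianRing R] [Module.Finite R M] {h : ℕ} (s : Fin h → M)
    (hs : ∀ p : PrimeSpectrum R, p.asIdeal ∈ associatedPrimes R R →
      LinearIndependent p.asIdeal.ResidueField (fun i => toD p (s i))) :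
    Function.Injective (Fintype.linearCombination R s) := by
  classical
  rw [← LinearMap.ker_eq_bot, LinearMap.ker_eq_bot']
  intro a ha
  by_contra hne
  obtain ⟨i0, hi0⟩ : ∃ i, a i ≠ 0 := by
    by_contra hcon
    push_neg at hcon
    exact hne (funext hcon)
  obtain ⟨P, hP, hle⟩ := exists_le_isAssociatedPrime_of_isNoetherianRing R (a i0) hi0
  haveI := hP.isPrime
  obtain ⟨ψ, hψ⟩ := exists_det_notMem_of_liD ⟨P, hP.isPrime⟩ s (hs ⟨P, hP.isPrime⟩ hP)
  apply hψ
  apply hle
  rw [Submodule.mem_colon_singleton, Submodule.mem_bot]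
  set T : Matrix (Fin h) (Fin h) R := Matrix.of fun i j => ψ j (s i) with hT
  have h1 : T.transpose.mulVec a = 0 := by
    funext j
    have := congrArg (ψ j) ha
    simp only [Fintype.linearCombination_apply, map_sum, map_smul, smul_eq_mul, map_zero] at this
    simpa [Matrix.mulVec, dotProduct, T, mul_comm] using this
  have h2 : T.det • a = 0 := by
    have := congrArg (T.transpose.adjugate.mulVec) h1
    rw [Matrix.mulVec_mulVec, Matrix.adjugate_mul, Matrix.det_transpose, Matrix.smul_mulVec,
      Matrix.one_mulVec, Matrix.mulVec_zero] at this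
    exact this
  have := congrFun h2 i0
  simpa using this

/-- The main theorem (S13533). -/
theorem main {A : Type u} [CommRing A] [IsNoetherianRing A]
    {M : Type u} [AddCommGroup M] [Module A M] [Module.Finite A M] (k r : ℕ) (hkr : k ≤ r)
    (hAss : ∀ p ∈ associatedPrimes A A, p.height ≤ k)
    (hM : ∀ p : PrimeSpectrum A, p.asIdeal.height ≤ k →
      Nonempty (LocalizedModule p.asIdeal.primeCompl M ≃ₗ[Localization.AtPrime p.asIdeal]
        (Fin r → Localization.AtPrime p.asIdeal))) :
    ∃ N : Submodule A M, Nonempty (N ≃ₗ[A] (Fin (r - k) → A)) ∧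
      ∀ p : PrimeSpectrum A, p.asIdeal.height ≤ k →
        Nonempty (LocalizedModule p.asIdeal.primeCompl (M ⧸ N) ≃ₗ[Localization.AtPrime p.asIdeal]
          (Fin k → Localization.AtPrime p.asIdeal)) := by
  classical
  obtain ⟨s, hs⟩ := exists_family k r hM (r - k) (by omega)
  refine ⟨span A (Set.range s), ?_, fun p hp => ?_⟩
  · have hinj := injective_of_li s (fun p hp => hs p (hAss _ hp))
    have hrange : LinearMap.range (Fintype.linearCombination A s) = span A (Set.range s) :=
      Fintype.range_linearCombination A s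
    exact ⟨((LinearEquiv.ofInjective _ hinj).trans (LinearEquiv.ofEq _ _ hrange)).symm⟩
  · obtain ⟨eM⟩ := hM p hp
    obtain ⟨ψ, hψ⟩ := exists_det_notMem_of_liD p s (hs p hp)
    exact quot_equiv_of_det p r (r - k) k (by omega) eM s ψ hψ

end Groth.Agent.ResProp9
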