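import Mathlib
import Groth.Prelude
import Groth.Agent.Lib.ResProp2_lead

/-!
# Quotients of sums of negative powers of an ample family (lead)
APPEND-ONLY once landed.
-/

set_option autoImplicit false
set_option linter.unusedSimpArgs false
set_option linter.unusedVariables false
set_option linter.unusedSectionVars false
set_option linter.style.longLine false
set_option linter.unnecessarySimpa false
set_option linter.deprecated false
set_option linter.style.haveILetI false
set_option maxHeartbeats 1600000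
set_option backward.isDefEq.respectTransparency false
set_option backward.isDefEq.respectTransparency.types false
set_option backward.defeqAttrib.useBackward true

universe u

noncomputable section

namespace Groth.Agent.Lib.ResPropL

open CategoryTheory CategoryTheory.Limits AlgebraicGeometry TopologicalSpace Opposite
open QcqsLoc QCohExtn TensH8 FLFH8 GenLocH8 PBH8 Groth.Agent.TensInv

section Family2

variable {X : Scheme.{u}}

/-- Variant of `exists_twist_spansNear` with a positive exponent. -/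
theorem exists_twist_spansNear_pos [CompactSpace X] [QuasiSeparatedSpace X] {L : X.Modules}
    (hL : PicF.IsInvertible L) (n : ℕ) (σ : Γ(CohB1.tensorPow L n, ⊤)) {O : X.Opens}
    (hloc : HasLocus (Frame.pow L n) σ O) (hO : IsAffineOpen O) (F : X.Modules)
    [F.IsQuasicoherent] [SheafOfModules.IsFiniteType (R := X.ringCatSheaf) F] :
    ∃ (N : ℕ) (Y : Finset Γ(CohB1.tensorMod F (CohB1.tensorPow L (n * N)), ⊤)), 0 < N ∧
      SpansNear (CohB1.tensorMod F (CohB1.tensorPow L (n * N))) O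
        (Y : Set Γ(CohB1.tensorMod F (CohB1.tensorPow L (n * N)), ⊤)) := by
  classical
  have hcomp : IsCompact (((⊤ : X.Opens) : X.Opens) : Set X) := by
    simpa using isCompact_univ (X := X)
  haveI := QCohFT.finite_of_isFiniteType F hO
  obtain ⟨G, hG⟩ := (Module.Finite.fg_top (R := Γ(X, O)) (M := Γ(F, O)))
  have hext : ∀ g : Γ(F, O), ∃ N0 : ℕ, ∀ N : ℕ, N0 ≤ N →
      ∀ {T : X.Modules} (Θ : TFrame L F T (n * N)),
      ∃ y : Γ(T, ⊤), ∀ (W : X.Opens) (hW : W ≤ O) (e : Γ(L, W)) (he : IsGen L W e),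
        rF T (hW.trans le_top) y = Θ.ψ W e he
          ((Frame.pow L n).coefOf σ W (hW.trans le_top) e he ^ N • rF F hW g) :=
    fun g => TFrame.exists_extend hL F (Frame.pow L n) hcomp σ le_top hloc g
  choose N0 hN0 using hext
  obtain ⟨N, hN⟩ : ∃ N, N = G.sup N0 + 1 := ⟨_, rfl⟩
  let Θ : TFrame L F (CohB1.tensorMod F (CohB1.tensorPow L (n * N))) (n * N) :=
    TFrame.tensor (Frame.pow L (n * N)) F
  have hy : ∀ g : {g // g ∈ G}, ∃ y : Γ(CohB1.tensorMod F (CohB1.tensorPow L (n * N)), ⊤),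
      ∀ (W : X.Opens) (hW : W ≤ O) (e : Γ(L, W)) (he : IsGen L W e),
        rF (CohB1.tensorMod F (CohB1.tensorPow L (n * N))) (hW.trans le_top) y = Θ.ψ W e he
          ((Frame.pow L n).coefOf σ W (hW.trans le_top) e he ^ N • rF F hW g.1) :=
    fun g => hN0 g.1 N ((Finset.le_sup g.2).trans (by omega)) Θ
  choose yy hyy using hy
  refine ⟨N, G.attach.image yy, by omega, ?_⟩
  intro W z pt hptW hptO
  obtain ⟨U, -, hptU, hUle, e, he⟩ := exists_isGen_le hL pt (W ⊓ O) ⟨hptW, hptO⟩
  obtain ⟨a, ha1, ha2⟩ := hO.exists_basicOpen_le (V := U) ⟨pt, hptU⟩ hptO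
  have hW'W : X.basicOpen a ≤ W := (ha1.trans hUle).trans inf_le_left
  have hW'O : X.basicOpen a ≤ O := X.basicOpen_le a
  have he' : IsGen L (X.basicOpen a) (rF L ha1 e) := he.res ha1
  refine ⟨X.basicOpen a, hW'W, ha2, ?_⟩
  obtain ⟨t, ht⟩ := (Θ.bij (X.basicOpen a) (rF L ha1 e) he').2
    (rF (CohB1.tensorMod F (CohB1.tensorPow L (n * N))) hW'W z)
  have htmem := mem_span_res_of_affine F hO (G : Set Γ(F, O)) hG a t
  let Λ : Γ(F, X.basicOpen a) →ₗ[Γ(X, X.basicOpen a)]
      Γ(CohB1.tensorMod F (CohB1.tensorPow L (n * N)), X.basicOpen a) :=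
    { toFun := Θ.ψ (X.basicOpen a) (rF L ha1 e) he'
      map_add' := Θ.add _ _ _
      map_smul' := Θ.smul _ _ _ }
  have hle : Submodule.span Γ(X, X.basicOpen a) ((rF F hW'O) '' (G : Set Γ(F, O))) ≤
      (Submodule.span Γ(X, X.basicOpen a)
        (gres (CohB1.tensorMod F (CohB1.tensorPow L (n * N))) (X.basicOpen a) ''
          ((G.attach.image yy : Finset _) :
            Set Γ(CohB1.tensorMod F (CohB1.tensorPow L (n * N)), ⊤)))).comap Λ := by
    rw [Submodule.span_le]
    rintro _ ⟨g, hg, rfl⟩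
    show Θ.ψ (X.basicOpen a) (rF L ha1 e) he' (rF F hW'O g) ∈ Submodule.span _ _
    have h1 := hyy ⟨g, hg⟩ (X.basicOpen a) hW'O (rF L ha1 e) he'
    have hcu : IsUnit ((Frame.pow L n).coefOf σ (X.basicOpen a) (hW'O.trans le_top)
        (rF L ha1 e) he') := by
      apply isUnit_of_basicOpen_eq
      rw [← hloc (X.basicOpen a) (hW'O.trans le_top) (rF L ha1 e) he']
      exact inf_eq_right.mpr hW'O
    obtain ⟨v, hv⟩ := (hcu.pow N).exists_left_inv
    rw [Θ.smul] at h1
    have h2 : Θ.ψ (X.basicOpen a) (rF L ha1 e) he' (rF F hW'O g) =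
        v • rF (CohB1.tensorMod F (CohB1.tensorPow L (n * N))) (hW'O.trans le_top)
          (yy ⟨g, hg⟩) := by
      rw [h1, ← mul_smul, hv, one_smul]
    rw [h2]
    apply Submodule.smul_mem
    apply Submodule.subset_span
    exact ⟨yy ⟨g, hg⟩, Finset.mem_coe.mpr (Finset.mem_image.mpr
      ⟨⟨g, hg⟩, Finset.mem_attach _ _, rfl⟩), rfl⟩
  have hfin := hle htmem
  rw [← ht]
  exact hfin

/-- Near an affine locus `X_s`, a quasi-coherent module of finite type is the image of a finite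
direct sum of copies of a negative power of the invertible module. -/
theorem exists_negPow_surjNear [CompactSpace X] [QuasiSeparatedSpace X] {L : X.Modules}
    (hL : PicF.IsInvertible L) (n : ℕ) (hn : 0 < n)
    (s : Coh.structureModule X ⟶ CohB1.tensorPow L n)
    (hO : IsAffineOpen (CohB1.genLocus (CohB1.tensorPow L n) s)) (F : X.Modules)
    [F.IsQuasicoherent] [SheafOfModules.IsFiniteType (R := X.ringCatSheaf) F] :
    ∃ (c k : ℕ) (K' : X.Modules) (q : (∐ fun _ : Fin c => K') ⟶ F), 0 < k ∧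
      Nonempty (CohB1.tensorMod K' (CohB1.tensorPow L k) ≅ Coh.structureModule X) ∧
      SurjNear q (CohB1.genLocus (CohB1.tensorPow L n) s) := by
  classical
  have hloc : HasLocus (Frame.pow L n) (SecTwist.val s ⊤)
      (CohB1.genLocus (CohB1.tensorPow L n) s) := by
    have h1 := hasLocus_val (Frame.pow L n) s ⊤
    rwa [inf_top_eq] at h1
  obtain ⟨N, Y, hNpos, hY⟩ := exists_twist_spansNear_pos hL n (SecTwist.val s ⊤) hloc hO F
  have hM : PicF.IsInvertible (CohB1.tensorPow L (n * N)) := isInvertible_tensorPow hL (n * N)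
  let yy : Fin Y.card → Γ(CohB1.tensorMod F (CohB1.tensorPow L (n * N)), ⊤) :=
    fun j => (Y.equivFin.symm j).1
  have hrange : Set.range yy = (Y : Set _) := by
    ext t
    constructor
    · rintro ⟨j, rfl⟩
      exact (Y.equivFin.symm j).2
    · intro ht
      exact ⟨Y.equivFin ⟨t, ht⟩, by simp [yy]⟩
  have hp := surjNear_desc_of_spans (CohB1.tensorMod F (CohB1.tensorPow L (n * N))) yy
    (CohB1.genLocus (CohB1.tensorPow L n) s) (by rw [hrange]; exact hY)
  obtain ⟨K', hK', ⟨e⟩⟩ := Groth.Agent.InvTensP.exists_inverse _ hM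
  haveI : (tR K').IsEquivalence := isEquivalence_tR (swap ⟨e⟩)
  let θ : CohB1.tensorMod (CohB1.tensorMod F (CohB1.tensorPow L (n * N))) K' ≅ F :=
    assoc F (CohB1.tensorPow L (n * N)) K' ≪≫ mapL F e ≪≫ rightUnit F
  have hq₀ := (hp.tmap hK').comp_iso θ
  let e1 : CohB1.tensorMod (FlatMod.freeMod X Y.card) K' ≅
      ∐ fun _ : Fin Y.card => (tR K').obj (Coh.structureModule X) :=
    PreservesCoproduct.iso (tR K') (fun _ : Fin Y.card => Coh.structureModule X)
  let e2 : (∐ fun _ : Fin Y.card => (tR K').obj (Coh.structureModule X)) ≅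
      ∐ fun _ : Fin Y.card => K' :=
    Sigma.mapIso (fun _ => comm (Coh.structureModule X) K' ≪≫ rightUnit K')
  refine ⟨Y.card, n * N, K', (e1 ≪≫ e2).inv ≫
    (TensH8.tmap (Sigma.desc fun j => homOfSec _ (yy j)) K' ≫ θ.hom),
    Nat.mul_pos hn hNpos, swap ⟨e⟩, ?_⟩
  apply SurjNear.of_comp (e1 ≪≫ e2).hom
  rw [Iso.hom_inv_id_assoc]
  exact hq₀

/-- **Every quasi-coherent module of finite type on a scheme with an ample family `(L_i)` is a
quotient of a finite direct sum of negative powers of the `L_i`.** -/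
theorem exists_inAddL_epi {ι : Type u} (L : ι → X.Modules) (hL : KSix.IsAmpleFamily L)
    (F : X.Modules) (hF : Coh.IsQCoh F) (hF' : CohB1.IsFT F) :
    ∃ (M : X.Modules) (π : M ⟶ F), KSix.InAddL L M ∧ Epi π := by
  classical
  obtain ⟨hc, hqs, hinv, hcov⟩ := id hL
  haveI := hc
  haveI := hqs
  haveI : F.IsQuasicoherent := hF
  haveI : SheafOfModules.IsFiniteType (R := X.ringCatSheaf) F := hF'
  choose i n s hxs haff using hcov
  have key : ∀ x : X, ∃ (c k : ℕ) (K' : X.Modules) (q : (∐ fun _ : Fin c => K') ⟶ F), 0 < k ∧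
      Nonempty (CohB1.tensorMod K' (CohB1.tensorPow (L (i x)) k) ≅ Coh.structureModule X) ∧
      SurjNear q (CohB1.genLocus (CohB1.tensorPow (L (i x)) (n x + 1)) (s x)) :=
    fun x => exists_negPow_surjNear (hinv (i x)) (n x + 1) (Nat.succ_pos _) (s x) (haff x) F
  choose c k K' q hk hiso hq using key
  obtain ⟨Sf, hSf⟩ := isCompact_univ.elim_finite_subcover
    (fun x : X => ((CohB1.genLocus (CohB1.tensorPow (L (i x)) (n x + 1)) (s x) : X.Opens) : Set X))
    (fun x => (CohB1.genLocus (CohB1.tensorPow (L (i x)) (n x + 1)) (s x)).isOpen)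
    (fun y _ => Set.mem_iUnion.mpr ⟨y, hxs y⟩)
  let T := Σ x : {x // x ∈ Sf}, Fin (c x.1)
  let N' : T → X.Modules := fun t => K' t.1.1
  let Q : (∐ N') ⟶ F :=
    Sigma.desc (fun t => Sigma.ι (fun _ : Fin (c t.1.1) => K' t.1.1) t.2 ≫ q t.1.1)
  have hQ : ∀ x (hx : x ∈ Sf),
      SurjNear Q (CohB1.genLocus (CohB1.tensorPow (L (i x)) (n x + 1)) (s x)) := by
    intro x hx
    let ix : (∐ fun _ : Fin (c x) => K' x) ⟶ ∐ N' :=
      Sigma.desc (fun l => Sigma.ι N' ⟨⟨x, hx⟩, l⟩)
    have hcomp : ix ≫ Q = q x := by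
      apply Sigma.hom_ext
      intro l
      rw [← Category.assoc, Sigma.ι_desc, Sigma.ι_desc]
    exact SurjNear.of_comp ix (by rw [hcomp]; exact hq x)
  haveI : Epi Q := epi_of_surjNear_cover Q (fun y => by
    obtain ⟨x, hxS, hyx⟩ := Set.mem_iUnion₂.mp (hSf (Set.mem_univ y))
    exact ⟨_, hyx, hQ x hxS⟩)
  let e : T ≃ Fin (Fintype.card T) := Fintype.equivFin T
  let isoM : (⨁ (N' ∘ e.symm)) ≅ ∐ N' :=
    biproduct.isoCoproduct (N' ∘ e.symm) ≪≫ Sigma.reindex e.symm N'
  refine ⟨⨁ (N' ∘ e.symm), isoM.hom ≫ Q,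
    ⟨Fintype.card T, N' ∘ e.symm, fun j => ?_, ⟨Iso.refl _⟩⟩, epi_comp _ _⟩
  exact ⟨i (e.symm j).1.1, k (e.symm j).1.1, hk _, hiso _⟩

end Family2

end Groth.Agent.Lib.ResPropL
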