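import Groth.Agent.Lib.ResSystem_helper2
import Groth.Agent.Lib.KFlatSite4_helper2

/-!
# Resolution systems by direct sums of `j_{U!} O_U` on a ringed site (helper2)
-/

set_option autoImplicit false
universe u
open CategoryTheory Limits ModSite

namespace Groth.Agent.Lib.ResSite

variable {C : Type u} [SmallCategory C] {J : GrothendieckTopology C} (O : Sheaf J CommRingCat.{u})

open Groth.Agent.Lib.ModSiteH8

/-- isomorphic to a direct sum of modules `j_{U!} O_U` -/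
def IsFreeSum (X : Mod O) : Prop :=
  ∃ (ι : Type u) (U : ι → C), Nonempty (X ≅ ∐ fun j => ModSite.freeOn O (U j))

lemma isFreeSum_cover (G : Mod O) : ∃ (Y : Mod O) (π : Y ⟶ G), IsFreeSum O Y ∧ Epi π := by
  let I : Type u := Σ X : C, (freeOn O X ⟶ G)
  let Fam : I → Mod O := fun i => freeOn O i.1
  refine ⟨∐ Fam, Sigma.desc (fun i => i.2), ⟨I, fun i => i.1, ⟨Iso.refl _⟩⟩, ⟨?_⟩⟩
  intro H a b hab
  have hsep := freeOn_isSeparating O (Set.univ : Set C) (fun X => ⟨PUnit, fun _ => X,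
    fun _ => 𝟙 X, by
      have : Sieve.ofArrows (fun _ : PUnit.{u+1} => X) (fun _ => 𝟙 X) = ⊤ :=
        (Sieve.id_mem_iff_eq_top).1 (Sieve.ofArrows_mk _ _ PUnit.unit)
      rw [this]
      exact J.top_mem X, fun _ => Set.mem_univ _⟩)
  apply hsep
  rintro _ ⟨⟨X, _⟩⟩ h
  have := (Sigma.ι Fam ⟨X, h⟩) ≫= hab
  simpa using this

lemma isFreeSum_zero : ∃ Z : Mod O, IsZero Z ∧ IsFreeSum O Z := by
  refine ⟨∐ fun j : PEmpty.{u+1} => ModSite.freeOn O (j.elim : C), ?_,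
    ⟨PEmpty, fun j => j.elim, ⟨Iso.refl _⟩⟩⟩
  rw [IsZero.iff_id_eq_zero]
  apply Sigma.hom_ext
  intro j
  exact j.elim

lemma isFreeSum_of_iso {X Y : Mod O} (e : X ≅ Y) (h : IsFreeSum O X) : IsFreeSum O Y := by
  obtain ⟨ι, U, ⟨e'⟩⟩ := h
  exact ⟨ι, U, ⟨e.symm ≪≫ e'⟩⟩

lemma isFreeSum_biprod {X Y : Mod O} (hX : IsFreeSum O X) (hY : IsFreeSum O Y) :
    IsFreeSum O (X ⊞ Y) := by
  obtain ⟨ι₁, U₁, ⟨e₁⟩⟩ := hX
  obtain ⟨ι₂, U₂, ⟨e₂⟩⟩ := hY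
  let f₁ : ι₁ → Mod O := fun j => ModSite.freeOn O (U₁ j)
  let f₂ : ι₂ → Mod O := fun j => ModSite.freeOn O (U₂ j)
  have hcomb := Cofan.combPairIsColimit (coproductIsCoproduct f₁) (coproductIsCoproduct f₂)
    (BinaryBiproduct.isColimit (∐ f₁) (∐ f₂))
  let e₃ : (∐ f₁) ⊞ (∐ f₂) ≅ ∐ Sum.elim f₁ f₂ :=
    hcomb.coconePointUniqueUpToIso (coproductIsCoproduct (Sum.elim f₁ f₂))
  let e₄ : ∐ Sum.elim f₁ f₂ ≅ ∐ fun j => ModSite.freeOn O (Sum.elim U₁ U₂ j) :=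
    Sigma.mapIso (fun j => match j with
      | .inl _ => Iso.refl _
      | .inr _ => Iso.refl _)
  exact ⟨ι₁ ⊕ ι₂, Sum.elim U₁ U₂, ⟨biprod.mapIso e₁ e₂ ≪≫ e₃ ≪≫ e₄⟩⟩

lemma isFlat_of_isFreeSum {X : Mod O} (h : IsFreeSum O X) : ModSite.IsFlat X := by
  obtain ⟨ι, U, ⟨e⟩⟩ := h
  exact isFlat_of_iso O e.symm
    (isFlat_of_isColimit_cofan (fun j => ModSite.freeOn O (U j)) (fun j => isFlat_freeOn O (U j))
      (Cofan.mk _ (Sigma.ι _)) (coproductIsCoproduct _))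

/-- the resolution system of a complex on a ringed site -/
theorem exists_system (G : CochainComplex (Mod O) ℤ) :
    ∃ (Kc : ℕ ⥤ CochainComplex (ModSite.Mod O) ℤ) (π : ∀ n : ℕ, Kc.obj n ⟶ G.truncLE ((n : ℤ) + 1)),
      (∀ n : ℕ, Kc.map (homOfLE (Nat.le_succ n)) ≫ π (n + 1) ≫ G.ιTruncLE (((n + 1 : ℕ) : ℤ) + 1) =
        π n ≫ G.ιTruncLE ((n : ℤ) + 1)) ∧
      (∀ n : ℕ, QuasiIso (π n) ∧ ∀ i : ℤ, Epi ((π n).f i)) ∧
      (∀ n : ℕ, ∃ b : ℤ, (Kc.obj n).IsStrictlyLE b) ∧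
      (∀ (n : ℕ) (i : ℤ), IsFreeSum O ((Kc.obj n).X i)) ∧
      (∀ (n : ℕ) (i : ℤ), ∃ r : (Kc.obj (n + 1)).X i ⟶ (Kc.obj n).X i,
        (Kc.map (homOfLE (Nat.le_succ n))).f i ≫ r = 𝟙 _ ∧
        IsFreeSum O (cokernel ((Kc.map (homOfLE (Nat.le_succ n))).f i))) ∧
      ∃ c : colimit Kc ⟶ G, (∀ n : ℕ, colimit.ι Kc n ≫ c = π n ≫ G.ιTruncLE ((n : ℤ) + 1)) ∧
        QuasiIso c := by
  haveI := Groth.Agent.Lib.KFlatSite.hasExactColimitsOfShape_filtered O ℕ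
  exact Groth.Agent.Lib.ResSystem.exists_system (IsFreeSum O) G (isFreeSum_cover O)
    (isFreeSum_zero O) (fun e h => isFreeSum_of_iso O e h) (fun hX hY => isFreeSum_biprod O hX hY)

end Groth.Agent.Lib.ResSite
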