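import Groth.Agent.Lib.PCohCyl2_helper2
import Groth.Agent.Lib.LeftResolution_helper2

/-!
# The inductive step for resolution systems (helper2)

Given `a : K ⟶ T` with `K`, `T` bounded above and the terms of `K` in a class `P` of objects
(every object is a quotient of a `P`-object, `P` is closed under binary sums and isomorphisms),
`a` factors as `K ⟶ K' ⟶ T` with `K ⟶ K'` degreewise split injective with cokernels in `P`,
`K'` bounded above with terms in `P`, and `K' ⟶ T` a degreewise epimorphic quasi-isomorphism.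
-/

set_option autoImplicit false
universe v u
open CategoryTheory Limits HomologicalComplex CochainComplex

namespace Groth.Agent.Lib.ResStep
open Groth.Agent.Lib.PCohCyl Groth.Agent.Lib.PCohNQI

variable {A : Type u} [Category.{v} A] [Abelian A]

section

variable {E F K : CochainComplex A ℤ} (u : E ⟶ F) (κ : K ⟶ mappingCone u)

lemma exists_section_p (i : ℤ) : ∃ s : F.X i ⟶ (cyl u).X i, s ≫ (p u).f i = 𝟙 _ := by
  refine ⟨(biprod.inr : F ⟶ E ⊞ F).f i ≫ (mappingCone.inr (jj u)).f i, ?_⟩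
  have h : mappingCone.inr (jj u) ≫ p u = rr u := mappingCone.inr_descShortComplex (S₀ u)
  rw [Category.assoc, ← HomologicalComplex.comp_f, h, ← HomologicalComplex.comp_f]
  simp [rr]

lemma epi_u'_f (hκ : ∀ i, Epi (κ.f i)) (i : ℤ) : Epi ((u' u κ).f i) := by
  haveI : Epi κ := HomologicalComplex.epi_of_epi_f _ hκ
  haveI : Epi (pullback.fst (q u) κ) := inferInstance
  haveI : Epi ((pullback.fst (q u) κ).f i) := inferInstance
  obtain ⟨s, hs⟩ := exists_section_p u i
  haveI : Epi ((p u).f i) := epi_of_epi_fac hs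
  dsimp only [u']
  rw [HomologicalComplex.comp_f]
  infer_instance

end

variable (P : A → Prop) (hP : ∀ X : A, ∃ (Y : A) (π : Y ⟶ X), P Y ∧ Epi π)
  (hP0 : ∃ Z : A, IsZero Z ∧ P Z) (hPiso : ∀ {X Y : A}, (X ≅ Y) → P X → P Y)
  (hPsum : ∀ {X Y : A}, P X → P Y → P (X ⊞ Y))

include hP hP0 hPiso hPsum in
theorem exists_step {K T : CochainComplex A ℤ} (a : K ⟶ T) (bK bT : ℤ) [K.IsStrictlyLE bK]
    [T.IsStrictlyLE bT] (hK : ∀ i, P (K.X i)) :
    ∃ (K' : CochainComplex A ℤ) (v : K ⟶ K') (a' : K' ⟶ T), v ≫ a' = a ∧ QuasiIso a' ∧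
      (∀ i, Epi (a'.f i)) ∧ (∃ b : ℤ, K'.IsStrictlyLE b) ∧ (∀ i, P (K'.X i)) ∧
      ∀ i, ∃ r : K'.X i ⟶ K.X i, v.f i ≫ r = 𝟙 _ ∧ P (cokernel (v.f i)) := by
  let b₀ := max bK bT
  haveI : (mappingCone a).IsStrictlyLE b₀ := by
    rw [CochainComplex.isStrictlyLE_iff]
    intro i hi
    have hi1 : bK < i + 1 := by
      have := le_max_left bK bT
      omega
    have hi2 : bT < i := by
      have := le_max_right bK bT
      omega
    have h1 : IsZero (K.X (i + 1)) := K.isZero_of_isStrictlyLE bK (i + 1) hi1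
    have h2 : IsZero (T.X i) := T.isZero_of_isStrictlyLE bT i hi2
    rw [IsZero.iff_id_eq_zero, ← mappingCone.id_X a i (i + 1) rfl,
      h1.eq_of_tgt ((mappingCone.fst a).1.v i (i + 1) rfl) 0,
      h2.eq_of_tgt ((mappingCone.snd a).v i i (add_zero i)) 0]
    simp
  obtain ⟨Q, κ, hQb, hQP, hκepi, hκq⟩ :=
    Groth.Agent.Lib.LeftRes.exists_resolution_int P hP hP0 (mappingCone a) b₀
  haveI := hκq
  have hS := Sκ_shortExact a κ
  have hiso : ∀ i, Nonempty ((E' a κ).X i ≅ K.X i ⊞ Q.X i) := by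
    intro i
    obtain ⟨σ, hσ⟩ := exists_section a κ i
    exact nonempty_iso_biprod (vv a κ) (ππ a κ) (vv_ππ a κ) hS i σ hσ
  refine ⟨E' a κ, vv a κ, u' a κ, vv_u' a κ, ?_, epi_u'_f a κ hκepi, ⟨b₀, ?_⟩, ?_, ?_⟩
  · exact quasiIso_of_forall_nqi _ (fun m => nqi_u' a κ m (nqi_of_quasiIso m κ))
  · rw [CochainComplex.isStrictlyLE_iff]
    intro i hi
    obtain ⟨e⟩ := hiso i
    have hi1 : bK < i := by
      have := le_max_left bK bT
      omega
    have h1 : IsZero (K.X i) := K.isZero_of_isStrictlyLE bK i hi1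
    have h2 : IsZero (Q.X i) := Q.isZero_of_isStrictlyLE b₀ i hi
    refine IsZero.of_iso ?_ e
    rw [IsZero.iff_id_eq_zero]
    apply biprod.hom_ext
    · exact h1.eq_of_tgt _ _
    · exact h2.eq_of_tgt _ _
  · intro i
    obtain ⟨e⟩ := hiso i
    exact hPiso e.symm (hPsum (hK i) (hQP i))
  · intro i
    have hSi := degreewise (vv a κ) (ππ a κ) (vv_ππ a κ) hS i
    haveI := hSi.mono_f
    haveI := hSi.epi_g
    obtain ⟨σ, hσ⟩ := exists_section a κ i
    let spl := ShortComplex.Splitting.ofExactOfSection _ hSi.exact σ hσ hSi.mono_f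
    refine ⟨spl.r, spl.f_r, ?_⟩
    have hcok := hSi.exact.gIsCokernel
    exact hPiso ((cokernelIsCokernel ((vv a κ).f i)).coconePointUniqueUpToIso hcok).symm (hQP i)

end Groth.Agent.Lib.ResStep
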