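import Mathlib
import Groth.Prelude.Def_CohCx
import Groth.Prelude.Def_FreeSh
import Groth.Agent.Lib.OverShriek_helper2
import Groth.Agent.Lib.DerAdjExact_helper4

/-!
# Hypercohomology over an open `U` is hypercohomology of the restriction to `U` (helper7)

`Lsh U : Ab U ⥤ Ab X` (extension by zero), `adjLR U : Lsh U ⊣ restrFunctor U`,
`iotaIso U : Lsh U (ℤ_{U,⊤}) ≅ ℤ_X[U]`, and `main`.
-/

set_option autoImplicit false
universe u
open CategoryTheory Limits Opposite TopologicalSpace

namespace Groth.Agent.Lib.RestrDer_helper7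

open Groth.Agent.Lib

section General

/-- conjugating by isomorphisms, additively -/
def homCongrAdd {C : Type*} [Category C] [Preadditive C] {A A' B B' : C} (a : A ≅ A')
    (b : B ≅ B') : (A ⟶ B) ≃+ (A' ⟶ B') where
  toFun f := a.inv ≫ f ≫ b.hom
  invFun g := a.hom ≫ g ≫ b.inv
  left_inv f := by simp
  right_inv g := by simp
  map_add' f g := by simp

variable {C : Type*} [Category C]

lemma map_map_apply (P : Cᵒᵖ ⥤ AddCommGrpCat.{u}) {a b c : Cᵒᵖ} (f : a ⟶ b) (g : b ⟶ c)
    (x : P.obj a) : (P.map g).hom ((P.map f).hom x) = (P.map (f ≫ g)).hom x := by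
  rw [P.map_comp]; rfl

lemma nat_apply {P Q : Cᵒᵖ ⥤ AddCommGrpCat.{u}} (φ : P ⟶ Q) {a b : Cᵒᵖ} (f : a ⟶ b)
    (x : P.obj a) : (φ.app b).hom ((P.map f).hom x) = (Q.map f).hom ((φ.app a).hom x) :=
  ConcreteCategory.congr_hom (φ.naturality f) x

end General

variable {X : TopCat.{u}} (U : Opens X)

/-- extension by zero from an open subspace -/
noncomputable def Lsh : CohTop.Ab (TopCat.of U) ⥤ CohTop.Ab X :=
  (U.sheafEquivOver (A := AddCommGrpCat.{u})).inverse ⋙
    OverShriek.shriek U (Opens.grothendieckTopology X)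

/-- extension by zero is left adjoint to restriction -/
noncomputable def adjLR : Lsh U ⊣ CohTop.restrFunctor U :=
  ((U.sheafEquivOver (A := AddCommGrpCat.{u})).symm.toAdjunction).comp
    (OverShriek.adj U (Opens.grothendieckTopology X))

instance : (Lsh U).Additive := (adjLR U).left_adjoint_additive

instance : PreservesFiniteLimits (Lsh U) := by
  unfold Lsh
  infer_instance

instance : PreservesFiniteColimits (Lsh U) := by
  unfold Lsh
  infer_instance

/-- the image of `⊤ : Opens U` in `X` -/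
noncomputable abbrev U' : Opens X := U.isOpenEmbedding.functor.obj ⊤

lemma le1 : U' U ≤ U := (Opens.isOpenEmbedding_obj_top U).le
lemma le2 : U ≤ U' U := (Opens.isOpenEmbedding_obj_top U).ge

/-- `ℤ_⊤` on `U` -/
noncomputable abbrev ZU : CohTop.Ab (TopCat.of U) :=
  CohCx.freeSheaf (Opens.grothendieckTopology (TopCat.of U)) (⊤ : Opens (TopCat.of U))

/-- `ℤ_U` on `X` -/
noncomputable abbrev ZX : CohTop.Ab X := CohCx.freeSheaf (Opens.grothendieckTopology X) U

example (G : CohTop.Ab X) :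
    ((CohTop.restrFunctor U).obj G).obj.obj (op ⊤) = G.obj.obj (op (U' U)) := rfl

/-- the generator of `ℤ_U` restricted to `U'`, as a section of `ℤ_U|_U` over `⊤` -/
noncomputable def s₀ : ((CohTop.restrFunctor U).obj (ZX U)).obj.obj (op ⊤) :=
  ((ZX U).obj.map (homOfLE (le1 U)).op).hom (CohFree.gen (Opens.grothendieckTopology X) U)

noncomputable def g' : ZU U ⟶ (CohTop.restrFunctor U).obj (ZX U) :=
  CohFree.ofSect (Opens.grothendieckTopology (TopCat.of U)) ⊤ _ (s₀ U)

noncomputable def g : (Lsh U).obj (ZU U) ⟶ ZX U := ((adjLR U).homEquiv _ _).symm (g' U)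

noncomputable def t₁ : ((Lsh U).obj (ZU U)).obj.obj (op (U' U)) :=
  (((adjLR U).unit.app (ZU U)).hom.app (op ⊤)).hom
    (CohFree.gen (Opens.grothendieckTopology (TopCat.of U)) ⊤)

noncomputable def t₀ : ((Lsh U).obj (ZU U)).obj.obj (op U) :=
  (((Lsh U).obj (ZU U)).obj.map (homOfLE (le2 U)).op).hom (t₁ U)

noncomputable def f : ZX U ⟶ (Lsh U).obj (ZU U) :=
  CohFree.ofSect (Opens.grothendieckTopology X) U _ (t₀ U)

lemma unit_g : (adjLR U).unit.app (ZU U) ≫ (CohTop.restrFunctor U).map (g U) = g' U := by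
  have h := (adjLR U).homEquiv_unit (ZU U) (ZX U) (g U)
  rw [← h]
  exact Equiv.apply_symm_apply _ _

lemma g_t₁ : ((g U).hom.app (op (U' U))).hom (t₁ U) = s₀ U := by
  have h1 : CohFree.evalGen (Opens.grothendieckTopology (TopCat.of U)) ⊤ _ (g' U) = s₀ U :=
    CohFree.evalGen_ofSect _ _ _ _
  rw [← h1, ← unit_g U]
  rfl

lemma f_gen : ((f U).hom.app (op U)).hom (CohFree.gen (Opens.grothendieckTopology X) U) = t₀ U :=
  CohFree.evalGen_ofSect _ _ _ _

lemma fg : f U ≫ g U = 𝟙 (ZX U) := by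
  apply (CohFree.homEquivSect (Opens.grothendieckTopology X) U (ZX U)).injective
  show ((g U).hom.app (op U)).hom (((f U).hom.app (op U)).hom
    (CohFree.gen (Opens.grothendieckTopology X) U)) = CohFree.gen (Opens.grothendieckTopology X) U
  rw [f_gen]
  unfold t₀
  rw [nat_apply (g U).hom (homOfLE (le2 U)).op (t₁ U), g_t₁]
  unfold s₀
  rw [map_map_apply]
  have : (homOfLE (le1 U)).op ≫ (homOfLE (le2 U)).op = 𝟙 (op U) := Subsingleton.elim _ _
  rw [this, (ZX U).obj.map_id]
  rfl

lemma gf : g U ≫ f U = 𝟙 ((Lsh U).obj (ZU U)) := by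
  apply ((adjLR U).homEquiv _ _).injective
  rw [Adjunction.homEquiv_naturality_right, Adjunction.homEquiv_id]
  have hg : (adjLR U).homEquiv _ _ (g U) = g' U := Equiv.apply_symm_apply _ _
  rw [hg]
  apply (CohFree.homEquivSect (Opens.grothendieckTopology (TopCat.of U)) ⊤ _).injective
  show ((f U).hom.app (op (U' U))).hom (CohFree.evalGen _ ⊤ _ (g' U)) = t₁ U
  have h1 : CohFree.evalGen (Opens.grothendieckTopology (TopCat.of U)) ⊤ _ (g' U) = s₀ U :=
    CohFree.evalGen_ofSect _ _ _ _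
  rw [h1]
  unfold s₀
  rw [nat_apply (f U).hom (homOfLE (le1 U)).op, f_gen]
  unfold t₀
  rw [map_map_apply]
  have : (homOfLE (le2 U)).op ≫ (homOfLE (le1 U)).op = 𝟙 (op (U' U)) := Subsingleton.elim _ _
  rw [this, ((Lsh U).obj (ZU U)).obj.map_id]
  rfl

/-- extension by zero of `ℤ` on `U` is `ℤ_U` -/
noncomputable def iotaIso : (Lsh U).obj (ZU U) ≅ ZX U where
  hom := g U
  inv := f U
  hom_inv_id := gf U
  inv_hom_id := fg U

section Der

variable [HasDerivedCategory.{u} (CohTop.Ab X)] [HasDerivedCategory.{u} (CohTop.Ab (TopCat.of U))]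
  [PreservesFiniteLimits (CohTop.restrFunctor U)] [PreservesFiniteColimits (CohTop.restrFunctor U)]

/-- the derived adjunction -/
noncomputable def dAdj :
    (Lsh U).mapDerivedCategory ⊣ (CohTop.restrFunctor U).mapDerivedCategory :=
  DerAdjExactH4.derivedAdj (adjLR U)

theorem main (K : DerivedCategory (CohTop.Ab X)) (p : ℤ) :
    Nonempty (CohCx.HDU K p U ≃+
      CohCx.HDU ((CohTop.restrFunctor U).mapDerivedCategory.obj K) p ⊤) := by
  let a : (DerivedCategory.singleFunctor (CohTop.Ab X) 0).obj (ZX U) ≅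
      (Lsh U).mapDerivedCategory.obj
        ((DerivedCategory.singleFunctor (CohTop.Ab (TopCat.of U)) 0).obj (ZU U)) :=
    ((DerivedCategory.singleFunctor (CohTop.Ab X) 0).mapIso (iotaIso U).symm) ≪≫
      (((Lsh U).mapDerivedCategorySingleFunctor 0).app (ZU U)).symm
  let b := ((CohTop.restrFunctor U).mapDerivedCategory.commShiftIso p).app K
  exact ⟨(homCongrAdd a (Iso.refl _)).trans
    (((dAdj U).homAddEquiv _ _).trans (homCongrAdd (Iso.refl _) b))⟩

end Der

end Groth.Agent.Lib.RestrDer_helper7
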