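import Mathlib
import Groth.Prelude.Def_PLie

/-!
# The restricted enveloping algebra of a restricted Lie algebra (helper2)

`RU φ` is the quotient of the tensor algebra of `L` by the relations `x ⊗ y - y ⊗ x = [x,y]` and
`x^p = φ x`.  It is a cocommutative Hopf algebra in which the images of the elements of `L` are
primitive.
-/

set_option autoImplicit false
set_option linter.unusedSimpArgs false
set_option linter.unusedVariables false
set_option linter.unusedSectionVars false
set_option linter.style.haveILetI false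

open TensorProduct

namespace Groth.Agent.Lib.RestrEnvH2

universe u v

/-- `(a+b)^p = a^p + b^p` for commuting elements of an algebra over a field of characteristic `p`. -/
theorem add_pow_char_alg {k : Type*} [Field k] (p : ℕ) [Fact p.Prime] [CharP k p] {B : Type*}
    [Ring B] [Algebra k B] {a b : B} (h : Commute a b) : (a + b) ^ p = a ^ p + b ^ p := by
  rcases subsingleton_or_nontrivial B with hs | hn
  · exact Subsingleton.elim _ _
  · haveI : CharP B p := charP_of_injective_algebraMap (algebraMap k B).injective p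
    exact add_pow_char_of_commute p h

theorem natCast_eq_zero_alg {k : Type*} [Field k] (p : ℕ) [CharP k p] {B : Type*}
    [Ring B] [Algebra k B] : ((p : ℕ) : B) = 0 := by
  have h : ((p : ℕ) : B) = algebraMap k B ((p : ℕ) : k) := (map_natCast (algebraMap k B) p).symm
  rw [h, CharP.cast_eq_zero, map_zero]

theorem neg_pow_char_alg {k : Type*} [Field k] (p : ℕ) [Fact p.Prime] [CharP k p] {B : Type*}
    [Ring B] [Algebra k B] (a : B) : (-a) ^ p = -(a ^ p) := by
  have h1 : (-1 : k) ^ p = -1 := neg_one_pow_char k p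
  have h2 : (-a) = (-1 : k) • a := by simp
  rw [h2, smul_pow, h1]
  simp

section Def

variable {k : Type u} [Field k] {p : ℕ} [CharP k p] {L : Type v} [LieRing L] [LieAlgebra k L]

/-- The defining relations of the restricted enveloping algebra. -/
inductive Rel (φ : PLie.PMap k p L) : TensorAlgebra k L → TensorAlgebra k L → Prop
  | lie (x y : L) : Rel φ (TensorAlgebra.ι k ⁅x, y⁆ + TensorAlgebra.ι k y * TensorAlgebra.ι k x)
      (TensorAlgebra.ι k x * TensorAlgebra.ι k y)
  | pow (x : L) : Rel φ (TensorAlgebra.ι k x ^ p) (TensorAlgebra.ι k (φ x))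

/-- The restricted enveloping algebra. -/
def RU (φ : PLie.PMap k p L) : Type (max u v) := RingQuot (Rel φ)

variable (φ : PLie.PMap k p L)

noncomputable instance instRingRU : Ring (RU φ) := inferInstanceAs (Ring (RingQuot (Rel φ)))

noncomputable instance instAlgebraRU : Algebra k (RU φ) :=
  inferInstanceAs (Algebra k (RingQuot (Rel φ)))

/-- The quotient map. -/
noncomputable def mk : TensorAlgebra k L →ₐ[k] RU φ := RingQuot.mkAlgHom k (Rel φ)

/-- The canonical linear map `L → u(L)`. -/
noncomputable def uι : L →ₗ[k] RU φ := (mk φ).toLinearMap ∘ₗ TensorAlgebra.ι k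

theorem uι_apply (x : L) : uι φ x = mk φ (TensorAlgebra.ι k x) := rfl

theorem uι_lie (x y : L) : uι φ ⁅x, y⁆ = uι φ x * uι φ y - uι φ y * uι φ x := by
  have h := RingQuot.mkAlgHom_rel k (Rel.lie (φ := φ) x y)
  simp only [map_add, map_mul] at h
  rw [eq_sub_iff_add_eq]
  exact h

theorem uι_pow (x : L) : uι φ x ^ p = uι φ (φ x) := by
  have h := RingQuot.mkAlgHom_rel k (Rel.pow (φ := φ) x)
  simp only [map_pow] at h
  exact h

theorem mk_surjective : Function.Surjective (mk φ) := RingQuot.mkAlgHom_surjective k _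

section Lift

variable {B : Type*} [Ring B] [Algebra k B]

/-- The universal property. -/
noncomputable def lift (f : L →ₗ[k] B) (h1 : ∀ x y, f ⁅x, y⁆ = f x * f y - f y * f x)
    (h2 : ∀ x, f x ^ p = f (φ x)) : RU φ →ₐ[k] B :=
  RingQuot.liftAlgHom k ⟨TensorAlgebra.lift k f, by
    intro a b hab
    cases hab with
    | lie x y => simp [h1]
    | pow x => simp [h2]⟩

@[simp] theorem lift_uι (f : L →ₗ[k] B) (h1 : ∀ x y, f ⁅x, y⁆ = f x * f y - f y * f x)
    (h2 : ∀ x, f x ^ p = f (φ x)) (x : L) : lift φ f h1 h2 (uι φ x) = f x := by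
  exact (RingQuot.liftAlgHom_mkAlgHom_apply k (TensorAlgebra.lift k f) _
    (TensorAlgebra.ι k x)).trans (TensorAlgebra.lift_ι_apply f x)

end Lift

theorem hom_ext {B : Type*} [Semiring B] [Algebra k B] {f g : RU φ →ₐ[k] B}
    (h : ∀ x, f (uι φ x) = g (uι φ x)) : f = g := by
  apply RingQuot.ringQuot_ext'
  apply TensorAlgebra.hom_ext
  ext x
  exact h x


theorem induction_left {P : RU φ → Prop} (h1 : P 1) (hι : ∀ x a, P a → P (uι φ x * a))
    (hadd : ∀ a b, P a → P b → P (a + b)) (hsmul : ∀ (c : k) a, P a → P (c • a)) :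
    ∀ a, P a := by
  have hC : ∀ t : TensorAlgebra k L, ∀ w, P w → P (mk φ t * w) := by
    intro t
    induction t using TensorAlgebra.induction with
    | algebraMap r =>
      intro w hw
      rw [AlgHom.commutes, Algebra.algebraMap_eq_smul_one, smul_mul_assoc, one_mul]
      exact hsmul r w hw
    | ι x => intro w hw; exact hι x w hw
    | mul a c ha hc => intro w hw; rw [map_mul, mul_assoc]; exact ha _ (hc _ hw)
    | add a c ha hc => intro w hw; rw [map_add, add_mul]; exact hadd _ _ (ha _ hw) (hc _ hw)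
  intro a
  obtain ⟨t, rfl⟩ := mk_surjective φ a
  have := hC t 1 h1
  rwa [mul_one] at this

theorem induction_right {P : RU φ → Prop} (h1 : P 1) (hι : ∀ x a, P a → P (a * uι φ x))
    (hadd : ∀ a b, P a → P b → P (a + b)) (hsmul : ∀ (c : k) a, P a → P (c • a)) :
    ∀ a, P a := by
  have hC : ∀ t : TensorAlgebra k L, ∀ w, P w → P (w * mk φ t) := by
    intro t
    induction t using TensorAlgebra.induction with
    | algebraMap r =>
      intro w hw
      rw [AlgHom.commutes, Algebra.algebraMap_eq_smul_one, mul_smul_comm, mul_one]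
      exact hsmul r w hw
    | ι x => intro w hw; exact hι x w hw
    | mul a c ha hc => intro w hw; rw [map_mul, ← mul_assoc]; exact hc _ (ha _ hw)
    | add a c ha hc => intro w hw; rw [map_add, mul_add]; exact hadd _ _ (ha _ hw) (hc _ hw)
  intro a
  obtain ⟨t, rfl⟩ := mk_surjective φ a
  have := hC t 1 h1
  rwa [one_mul] at this

end Def

section Bialg

variable {k : Type u} [Field k] {p : ℕ} [Fact p.Prime] [CharP k p] {L : Type v} [LieRing L]
  [LieAlgebra k L] (φ : PLie.PMap k p L)

/-- `x ↦ x ⊗ 1 + 1 ⊗ x`. -/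
noncomputable def comulLin : L →ₗ[k] RU φ ⊗[k] RU φ :=
  (TensorProduct.mk k (RU φ) (RU φ)).flip 1 ∘ₗ uι φ + (TensorProduct.mk k (RU φ) (RU φ) 1) ∘ₗ uι φ

theorem comulLin_apply (x : L) : comulLin φ x = uι φ x ⊗ₜ[k] 1 + 1 ⊗ₜ[k] uι φ x := rfl

theorem comulLin_lie (x y : L) :
    comulLin φ ⁅x, y⁆ = comulLin φ x * comulLin φ y - comulLin φ y * comulLin φ x := by
  simp only [comulLin_apply, uι_lie, mul_add, add_mul, Algebra.TensorProduct.tmul_mul_tmul,
    one_mul, mul_one, sub_tmul, tmul_sub]
  abel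

theorem comulLin_pow (x : L) : comulLin φ x ^ p = comulLin φ (φ x) := by
  have hc : Commute (uι φ x ⊗ₜ[k] (1 : RU φ)) ((1 : RU φ) ⊗ₜ[k] uι φ x) := by
    show (uι φ x ⊗ₜ[k] (1 : RU φ)) * ((1 : RU φ) ⊗ₜ[k] uι φ x) =
      ((1 : RU φ) ⊗ₜ[k] uι φ x) * (uι φ x ⊗ₜ[k] (1 : RU φ))
    simp [Algebra.TensorProduct.tmul_mul_tmul]
  rw [comulLin_apply, comulLin_apply]
  refine (add_pow_char_alg (k := k) (B := RU φ ⊗[k] RU φ) p hc).trans ?_
  rw [Algebra.TensorProduct.tmul_pow, Algebra.TensorProduct.tmul_pow, one_pow, uι_pow]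

/-- The comultiplication as an algebra map. -/
noncomputable def comulAlg : RU φ →ₐ[k] RU φ ⊗[k] RU φ :=
  lift φ (B := RU φ ⊗[k] RU φ) (comulLin φ) (comulLin_lie φ) (comulLin_pow φ)

@[simp] theorem comulAlg_uι (x : L) :
    comulAlg φ (uι φ x) = uι φ x ⊗ₜ[k] 1 + 1 ⊗ₜ[k] uι φ x := by
  rw [comulAlg, lift_uι, comulLin_apply]

/-- The counit as an algebra map. -/
noncomputable def counitAlg : RU φ →ₐ[k] k :=
  lift φ (B := k) (0 : L →ₗ[k] k) (by intro x y; simp)
    (by intro x; simp [(Fact.out : p.Prime).ne_zero])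

@[simp] theorem counitAlg_uι (x : L) : counitAlg φ (uι φ x) = 0 := by
  rw [counitAlg, lift_uι]; rfl

noncomputable instance instBialgebra : Bialgebra k (RU φ) :=
  Bialgebra.ofAlgHom (comulAlg φ) (counitAlg φ)
    (by
      apply hom_ext φ; intro x
      simp only [AlgHom.comp_apply, AlgHom.coe_coe, comulAlg_uι,
        map_add, Algebra.TensorProduct.map_tmul, AlgHom.coe_id, id_eq, map_one,
        Algebra.TensorProduct.one_def, add_tmul, tmul_add, Algebra.TensorProduct.assoc_tmul]
      abel)
    (by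
      apply hom_ext φ; intro x
      simp only [AlgHom.comp_apply, comulAlg_uι, map_add, Algebra.TensorProduct.map_tmul,
        AlgHom.coe_id, id_eq, map_one, counitAlg_uι, zero_tmul, zero_add,
        AlgHom.coe_coe]
      show 1 ⊗ₜ[k] uι φ x = (Algebra.TensorProduct.lid k (RU φ)).symm (uι φ x)
      rw [Algebra.TensorProduct.lid_symm_apply])
    (by
      apply hom_ext φ; intro x
      simp only [AlgHom.comp_apply, comulAlg_uι, map_add, Algebra.TensorProduct.map_tmul,
        AlgHom.coe_id, id_eq, map_one, counitAlg_uι, tmul_zero, add_zero,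
        AlgHom.coe_coe]
      show uι φ x ⊗ₜ[k] 1 = (Algebra.TensorProduct.rid k k (RU φ)).symm (uι φ x)
      rw [Algebra.TensorProduct.rid_symm_apply])

theorem comul_eq (a : RU φ) : Coalgebra.comul (R := k) a = comulAlg φ a := rfl

theorem counit_eq (a : RU φ) : Coalgebra.counit (R := k) a = counitAlg φ a := rfl

@[simp] theorem comul_uι (x : L) :
    Coalgebra.comul (R := k) (uι φ x) = uι φ x ⊗ₜ[k] 1 + 1 ⊗ₜ[k] uι φ x := comulAlg_uι φ x

@[simp] theorem counit_uι (x : L) : Coalgebra.counit (R := k) (uι φ x) = 0 := counitAlg_uι φ x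

instance instIsCocomm : Coalgebra.IsCocomm k (RU φ) where
  comm_comp_comul := by
    have h : (Algebra.TensorProduct.comm k (RU φ) (RU φ)).toAlgHom.comp (comulAlg φ) =
        comulAlg φ := by
      apply hom_ext φ; intro x
      show Algebra.TensorProduct.comm k (RU φ) (RU φ) (comulAlg φ (uι φ x)) = _
      rw [comulAlg_uι, map_add, Algebra.TensorProduct.comm_tmul,
        Algebra.TensorProduct.comm_tmul, add_comm]
    ext a
    exact AlgHom.congr_fun h a

end Bialg

section Hopf

variable {k : Type u} [Field k] {p : ℕ} [Fact p.Prime] [CharP k p] {L : Type v} [LieRing L]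
  [LieAlgebra k L] (φ : PLie.PMap k p L)

/-- `x ↦ op (-x)`. -/
noncomputable def antiLin : L →ₗ[k] (RU φ)ᵐᵒᵖ :=
  (MulOpposite.opLinearEquiv k).toLinearMap ∘ₗ (-(uι φ))

theorem antiLin_apply (x : L) : antiLin φ x = MulOpposite.op (-(uι φ x)) := rfl

theorem antiLin_lie (x y : L) :
    antiLin φ ⁅x, y⁆ = antiLin φ x * antiLin φ y - antiLin φ y * antiLin φ x := by
  simp only [antiLin_apply, uι_lie, ← MulOpposite.op_mul, ← MulOpposite.op_sub]
  congr 1
  rw [neg_mul_neg, neg_mul_neg, neg_sub]

theorem antiLin_pow (x : L) : antiLin φ x ^ p = antiLin φ (φ x) := by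
  rw [antiLin_apply, antiLin_apply, ← MulOpposite.op_pow, neg_pow_char_alg (k := k) p, uι_pow]

/-- The antipode as an algebra map to the opposite algebra. -/
noncomputable def antiAlg : RU φ →ₐ[k] (RU φ)ᵐᵒᵖ :=
  lift φ (B := (RU φ)ᵐᵒᵖ) (antiLin φ) (antiLin_lie φ) (antiLin_pow φ)

/-- The antipode as a linear map. -/
noncomputable def antipodeLin : RU φ →ₗ[k] RU φ :=
  (MulOpposite.opLinearEquiv k).symm.toLinearMap ∘ₗ (antiAlg φ).toLinearMap

theorem antipodeLin_apply (a : RU φ) : antipodeLin φ a = MulOpposite.unop (antiAlg φ a) := rfl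

@[simp] theorem antipodeLin_uι (x : L) : antipodeLin φ (uι φ x) = -uι φ x := by
  rw [antipodeLin_apply, antiAlg, lift_uι, antiLin_apply]; rfl

theorem antipodeLin_mul (a b : RU φ) :
    antipodeLin φ (a * b) = antipodeLin φ b * antipodeLin φ a := by
  rw [antipodeLin_apply, map_mul, MulOpposite.unop_mul]; rfl

@[simp] theorem antipodeLin_one : antipodeLin φ 1 = 1 := by
  rw [antipodeLin_apply, map_one]; rfl

theorem antipode_aux1 (x : L) (t : RU φ ⊗[k] RU φ) :
    LinearMap.mul' k (RU φ) ((antipodeLin φ).rTensor (RU φ)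
      ((uι φ x ⊗ₜ[k] (1 : RU φ) + (1 : RU φ) ⊗ₜ[k] uι φ x) * t)) = 0 := by
  induction t using TensorProduct.induction_on with
  | zero => simp
  | tmul a b =>
    simp only [add_mul, Algebra.TensorProduct.tmul_mul_tmul, one_mul, map_add,
      LinearMap.rTensor_tmul, LinearMap.mul'_apply, antipodeLin_mul, antipodeLin_uι]
    simp only [mul_neg, neg_mul, mul_assoc]
    exact neg_add_cancel (antipodeLin φ a * (uι φ x * b))
  | add t1 t2 h1 h2 => rw [mul_add, map_add, map_add, h1, h2, add_zero]

theorem antipode_aux2 (x : L) (t : RU φ ⊗[k] RU φ) :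
    LinearMap.mul' k (RU φ) ((antipodeLin φ).lTensor (RU φ)
      (t * (uι φ x ⊗ₜ[k] (1 : RU φ) + (1 : RU φ) ⊗ₜ[k] uι φ x))) = 0 := by
  induction t using TensorProduct.induction_on with
  | zero => simp
  | tmul a b =>
    simp only [mul_add, Algebra.TensorProduct.tmul_mul_tmul, mul_one, map_add,
      LinearMap.lTensor_tmul, LinearMap.mul'_apply, antipodeLin_mul, antipodeLin_uι]
    simp only [mul_neg, neg_mul, mul_assoc]
    exact add_neg_cancel (a * (uι φ x * antipodeLin φ b))
  | add t1 t2 h1 h2 => rw [add_mul, map_add, map_add, h1, h2, add_zero]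

theorem mul_antipode_rTensor (a : RU φ) :
    LinearMap.mul' k (RU φ) ((antipodeLin φ).rTensor (RU φ) (Coalgebra.comul (R := k) a)) =
      algebraMap k (RU φ) (Coalgebra.counit (R := k) a) := by
  refine induction_left φ (P := fun a => LinearMap.mul' k (RU φ) ((antipodeLin φ).rTensor (RU φ)
    (Coalgebra.comul (R := k) a)) = algebraMap k (RU φ) (Coalgebra.counit (R := k) a))
    ?_ ?_ ?_ ?_ a
  · simp [Bialgebra.comul_one, Algebra.TensorProduct.one_def, Bialgebra.counit_one]
  · intro x a _
    rw [Bialgebra.comul_mul, comul_uι, antipode_aux1, Bialgebra.counit_mul, counit_uι, zero_mul,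
      map_zero]
  · intro a b ha hb
    simp only [map_add, ha, hb]
  · intro c a ha
    simp only [map_smul, ha, smul_eq_mul, map_mul]
    rw [Algebra.smul_def]

theorem mul_antipode_lTensor (a : RU φ) :
    LinearMap.mul' k (RU φ) ((antipodeLin φ).lTensor (RU φ) (Coalgebra.comul (R := k) a)) =
      algebraMap k (RU φ) (Coalgebra.counit (R := k) a) := by
  refine induction_right φ (P := fun a => LinearMap.mul' k (RU φ) ((antipodeLin φ).lTensor (RU φ)
    (Coalgebra.comul (R := k) a)) = algebraMap k (RU φ) (Coalgebra.counit (R := k) a))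
    ?_ ?_ ?_ ?_ a
  · simp [Bialgebra.comul_one, Algebra.TensorProduct.one_def, Bialgebra.counit_one]
  · intro x a _
    rw [Bialgebra.comul_mul, comul_uι, antipode_aux2, Bialgebra.counit_mul, counit_uι, mul_zero,
      map_zero]
  · intro a b ha hb
    simp only [map_add, ha, hb]
  · intro c a ha
    simp only [map_smul, ha, smul_eq_mul, map_mul]
    rw [Algebra.smul_def]

noncomputable instance instHopfAlgebra : HopfAlgebra k (RU φ) where
  antipode := antipodeLin φ
  mul_antipode_rTensor_comul := by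
    ext a
    exact mul_antipode_rTensor φ a
  mul_antipode_lTensor_comul := by
    ext a
    exact mul_antipode_lTensor φ a

theorem antipode_eq (a : RU φ) : HopfAlgebra.antipode k a = antipodeLin φ a := rfl

end Hopf

end Groth.Agent.Lib.RestrEnvH2
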