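import Mathlib

/-!
# Spanning by restricted ordered monomials (helper2)

Generic: a `k`-algebra `B` generated by a family `g : ι → B` whose span is closed under commutators
and contains the `p`-th powers `g i ^ p` is spanned by the ordered monomials in which every
generator occurs fewer than `p` times.  (Pattern of helper4's `perm_diff`.)
-/

set_option autoImplicit false
set_option linter.unusedSimpArgs false
set_option linter.unusedVariables false
set_option linter.unusedSectionVars false
set_option linter.style.haveILetI false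

namespace Groth.Agent.Lib.RestrEnvH2

section Span

variable {k : Type*} [Field k] {B : Type*} [Ring B] [Algebra k B] {ι : Type*} [LinearOrder ι]
  (g : ι → B) (p : ℕ)

/-- ordered product along a list. -/
def Mon (l : List ι) : B := (l.map g).prod

lemma Mon_nil : Mon g [] = 1 := by simp [Mon]

lemma Mon_cons (a : ι) (l : List ι) : Mon g (a :: l) = g a * Mon g l := by simp [Mon]

lemma Mon_append (l₁ l₂ : List ι) : Mon g (l₁ ++ l₂) = Mon g l₁ * Mon g l₂ := by simp [Mon]

lemma Mon_replicate (n : ℕ) (i : ι) : Mon g (List.replicate n i) = g i ^ n := by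
  simp [Mon]

/-- The span of the generators. -/
def V : Submodule k B := Submodule.span k (Set.range g)

lemma g_mem_V (i : ι) : g i ∈ V (k := k) g := Submodule.subset_span ⟨i, rfl⟩

/-- span of monomials of length `< n`. -/
def Ult (n : ℕ) : Submodule k B :=
  Submodule.span k {u | ∃ l : List ι, l.length < n ∧ u = Mon g l}

lemma Mon_mem_Ult {l : List ι} {n : ℕ} (h : l.length < n) : Mon g l ∈ Ult (k := k) g n :=
  Submodule.subset_span ⟨l, h, rfl⟩

lemma Ult_mono {m n : ℕ} (h : m ≤ n) : Ult (k := k) g m ≤ Ult g n := by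
  apply Submodule.span_mono
  rintro _ ⟨l, hl, rfl⟩
  exact ⟨l, lt_of_lt_of_le hl h, rfl⟩

lemma V_mul_Ult (n : ℕ) {v : B} (hv : v ∈ V (k := k) g) {u : B} (hu : u ∈ Ult (k := k) g n) :
    v * u ∈ Ult (k := k) g (n + 1) := by
  unfold V at hv
  induction hv using Submodule.span_induction with
  | mem y hy =>
    obtain ⟨c, rfl⟩ := hy
    unfold Ult at hu
    induction hu using Submodule.span_induction with
    | mem y hy =>
      obtain ⟨l, hl, rfl⟩ := hy
      rw [← Mon_cons]
      exact Submodule.subset_span ⟨c :: l, by simpa using hl, rfl⟩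
    | zero => rw [mul_zero]; exact Submodule.zero_mem _
    | add y z _ _ hy hz => rw [mul_add]; exact Submodule.add_mem _ hy hz
    | smul a y _ hy => rw [mul_smul_comm]; exact Submodule.smul_mem _ _ hy
  | zero => rw [zero_mul]; exact Submodule.zero_mem _
  | add y z _ _ hy hz => rw [add_mul]; exact Submodule.add_mem _ hy hz
  | smul a y _ hy => rw [smul_mul_assoc]; exact Submodule.smul_mem _ _ hy

variable {g} in
lemma perm_diff (hbr : ∀ i j, g i * g j - g j * g i ∈ V (k := k) g) {l₁ l₂ : List ι}
    (h : l₁.Perm l₂) : Mon g l₁ - Mon g l₂ ∈ Ult (k := k) g l₁.length := by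
  induction h with
  | nil => rw [sub_self]; exact Submodule.zero_mem _
  | cons x h ih =>
    rw [Mon_cons, Mon_cons, ← mul_sub, List.length_cons]
    exact V_mul_Ult g _ (g_mem_V g x) ih
  | swap x y l =>
    rw [Mon_cons, Mon_cons, Mon_cons, Mon_cons, ← mul_assoc, ← mul_assoc, ← sub_mul,
      List.length_cons, List.length_cons]
    exact V_mul_Ult g _ (hbr y x) (Mon_mem_Ult g (Nat.lt_succ_self _))
  | trans h₁ h₂ ih₁ ih₂ =>
    have := Submodule.add_mem _ ih₁ (by rw [h₁.length_eq]; exact ih₂)
    rwa [sub_add_sub_cancel] at this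

/-- The restricted sorted lists. -/
def Restr : Set (List ι) := {l | l.SortedLE ∧ ∀ i, l.count i < p}

/-- The span of restricted ordered monomials. -/
def RSpan : Submodule k B := Submodule.span k (Mon g '' Restr p)

variable {g p} in
lemma Mon_mem_RSpan (hbr : ∀ i j, g i * g j - g j * g i ∈ V (k := k) g) (hp : 2 ≤ p)
    (hpow : ∀ i, g i ^ p ∈ V (k := k) g) :
    ∀ (n : ℕ) (l : List ι), l.length < n → Mon g l ∈ RSpan (k := k) g p := by
  intro n
  induction n with
  | zero => intro l hl; omega
  | succ n ih =>
    intro l hl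
    have IHU : Ult (k := k) g l.length ≤ RSpan (k := k) g p := by
      apply Submodule.span_le.mpr
      rintro _ ⟨l', hl', rfl⟩
      exact ih l' (by omega)
    have hs : (l.insertionSort (· ≤ ·)).SortedLE := List.sortedLE_insertionSort
    have hperm := List.perm_insertionSort (· ≤ ·) l
    set s := l.insertionSort (· ≤ ·) with hsdef
    have h2 : Mon g l - Mon g s ∈ RSpan (k := k) g p := IHU (perm_diff hbr hperm.symm)
    suffices h : Mon g s ∈ RSpan (k := k) g p by
      have := Submodule.add_mem _ h2 h
      rwa [sub_add_cancel] at this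
    by_cases hr : ∀ i, s.count i < p
    · exact Submodule.subset_span ⟨s, ⟨hs, hr⟩, rfl⟩
    · push Not at hr
      obtain ⟨i, hi⟩ := hr
      set rest := s.diff (List.replicate p i) with hrest
      have hperm2 : (List.replicate p i ++ rest).Perm s := by
        apply List.subperm_append_diff_self_of_count_le
        intro x hx
        rw [List.mem_replicate] at hx
        obtain ⟨_, rfl⟩ := hx
        rw [List.count_replicate_self]
        exact hi
      have hlen : p + rest.length = s.length := by
        have := hperm2.length_eq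
        simpa using this
      have hsl : s.length = l.length := hperm.length_eq
      have h3 : Mon g (List.replicate p i ++ rest) - Mon g s ∈ RSpan (k := k) g p := by
        have := perm_diff hbr hperm2
        rw [List.length_append, List.length_replicate, hlen, hsl] at this
        exact IHU this
      have h4 : Mon g (List.replicate p i ++ rest) ∈ RSpan (k := k) g p := by
        rw [Mon_append, Mon_replicate]
        have h5 : g i ^ p * Mon g rest ∈ Ult (k := k) g (rest.length + 1 + 1) :=
          V_mul_Ult g _ (hpow i) (Mon_mem_Ult g (Nat.lt_succ_self _))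
        exact IHU (Ult_mono g (by omega) h5)
      have := Submodule.sub_mem _ h4 h3
      rwa [sub_sub_cancel] at this

lemma span_Mon_eq_top (hgen : Algebra.adjoin k (Set.range g) = ⊤) :
    Submodule.span k (Set.range (Mon g)) = ⊤ := by
  rw [eq_top_iff]
  have h1 : (⊤ : Submodule k B) = Subalgebra.toSubmodule (Algebra.adjoin k (Set.range g)) := by
    rw [hgen]; rfl
  rw [h1, Algebra.adjoin_eq_span]
  apply Submodule.span_mono
  intro x hx
  induction hx using Submonoid.closure_induction with
  | mem y hy =>
    obtain ⟨i, rfl⟩ := hy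
    exact ⟨[i], by simp [Mon]⟩
  | one => exact ⟨[], Mon_nil g⟩
  | mul a b _ _ ha hb =>
    obtain ⟨l₁, rfl⟩ := ha
    obtain ⟨l₂, rfl⟩ := hb
    exact ⟨l₁ ++ l₂, Mon_append g l₁ l₂⟩

variable {g p} in
theorem RSpan_eq_top (hbr : ∀ i j, g i * g j - g j * g i ∈ V (k := k) g) (hp : 2 ≤ p)
    (hpow : ∀ i, g i ^ p ∈ V (k := k) g) (hgen : Algebra.adjoin k (Set.range g) = ⊤) :
    RSpan (k := k) g p = ⊤ := by
  rw [eq_top_iff, ← span_Mon_eq_top g hgen, Submodule.span_le]
  rintro _ ⟨l, rfl⟩
  exact Mon_mem_RSpan hbr hp hpow _ l (Nat.lt_succ_self _)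

/-- counts of a restricted list. -/
def cntFun (l : Restr (ι := ι) p) : ι → Fin p := fun i => ⟨l.1.count i, l.2.2 i⟩

lemma cntFun_injective : Function.Injective (cntFun (ι := ι) p) := by
  intro l₁ l₂ h
  have hc : ∀ i, l₁.1.count i = l₂.1.count i := by
    intro i
    have := congrFun h i
    simpa [cntFun] using congrArg Fin.val this
  have hperm : l₁.1.Perm l₂.1 := List.perm_iff_count.mpr hc
  exact Subtype.ext (hperm.eq_of_sortedLE l₁.2.1 l₂.2.1)

instance [Fintype ι] : Finite (Restr (ι := ι) p) := Finite.of_injective _ (cntFun_injective p)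

lemma card_Restr_le [Fintype ι] : Nat.card (Restr (ι := ι) p) ≤ p ^ Fintype.card ι := by
  have := Nat.card_le_card_of_injective _ (cntFun_injective (ι := ι) p)
  simpa using this

variable {g p} in
theorem finite_of_gen [Fintype ι] (hbr : ∀ i j, g i * g j - g j * g i ∈ V (k := k) g) (hp : 2 ≤ p)
    (hpow : ∀ i, g i ^ p ∈ V (k := k) g) (hgen : Algebra.adjoin k (Set.range g) = ⊤) :
    Module.Finite k B := by
  rw [Module.finite_def, ← RSpan_eq_top hbr hp hpow hgen]
  exact Submodule.fg_span (Set.Finite.image _ (Set.toFinite _))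

variable {g p} in
theorem finrank_le_of_gen [Fintype ι] (hbr : ∀ i j, g i * g j - g j * g i ∈ V (k := k) g)
    (hp : 2 ≤ p) (hpow : ∀ i, g i ^ p ∈ V (k := k) g)
    (hgen : Algebra.adjoin k (Set.range g) = ⊤) :
    Module.finrank k B ≤ p ^ Fintype.card ι := by
  haveI := Fintype.ofFinite (Restr (ι := ι) p)
  have h1 : Set.range (fun l : Restr (ι := ι) p => Mon g l.1) = Mon g '' Restr p := by
    ext x; simp [Set.mem_image]
  have h2 := finrank_range_le_card (R := k) (fun l : Restr (ι := ι) p => Mon g l.1)
  rw [Set.finrank, h1] at h2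
  have h3 : Submodule.span k (Mon g '' Restr p) = ⊤ := RSpan_eq_top hbr hp hpow hgen
  rw [h3, finrank_top] at h2
  refine h2.trans ?_
  rw [← Nat.card_eq_fintype_card]
  exact card_Restr_le p

end Span

end Groth.Agent.Lib.RestrEnvH2
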