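import Mathlib
import Groth.Agent.Lib.CartMM4_helper2

/-!
# Restricted monomials in primitive elements are linearly independent (helper2)

Characteristic `p`: in a cocommutative bialgebra, the products `∏ d_i^{a_i}` (`a_i < p`) of linearly
independent primitive elements are linearly independent; hence `p ^ r ≤ dim H` for `r` independent
primitives.  Proof by pairing with products of functionals (derivations on the convolution algebra
lower the `I`-adic order, `I = ker (ev at 1)`).
-/

set_option autoImplicit false
set_option linter.unusedSimpArgs false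
set_option linter.unusedVariables false
set_option linter.unusedSectionVars false
set_option linter.style.haveILetI false

open TensorProduct Coalgebra WithConv

namespace Groth.Agent.Lib.RestrEnvH2

open Groth.Agent.Lib.CartMMH2

section DerPow

variable {C K : Type*} [CommRing C] [CommRing K] (ev : C →+* K)

lemma der_mem_pow {D : C → C} (hD : IsDer D) :
    ∀ (m : ℕ) (x : C), x ∈ (RingHom.ker ev) ^ (m + 1) → D x ∈ (RingHom.ker ev) ^ m := by
  intro m
  induction m with
  | zero => intro x _; simp
  | succ m ih =>
    intro x hx
    rw [pow_succ] at hx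
    refine Submodule.mul_induction_on hx ?_ ?_
    · intro y hy z hz
      rw [hD.leibniz]
      refine Ideal.add_mem _ ?_ ?_
      · rw [pow_succ]
        exact Ideal.mul_mem_mul (ih y hy) hz
      · exact Ideal.mul_mem_right _ _ hy
    · intro a b ha hb
      rw [hD.map_add]
      exact Ideal.add_mem _ ha hb

lemma fold_mem_pow (l : List (C → C)) (hl : ∀ d ∈ l, IsDer d) :
    ∀ (m : ℕ) (x : C), x ∈ (RingHom.ker ev) ^ (m + l.length) →
      l.foldl (fun acc d => d acc) x ∈ (RingHom.ker ev) ^ m := by
  induction l with
  | nil => intro m x hx; simpa using hx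
  | cons d l ih =>
    intro m x hx
    simp only [List.foldl_cons]
    apply ih (fun d' hd' => hl d' (List.mem_cons_of_mem _ hd'))
    apply der_mem_pow ev (hl d List.mem_cons_self)
    simpa [add_assoc] using hx

lemma ev_fold_eq_zero (l : List (C → C)) (hl : ∀ d ∈ l, IsDer d) (x : C)
    (hx : x ∈ (RingHom.ker ev) ^ (l.length + 1)) :
    ev (l.foldl (fun acc d => d acc) x) = 0 := by
  have := fold_mem_pow ev l hl 1 x (by rwa [add_comm])
  rw [pow_one] at this
  exact this

lemma fold_zero (l : List (C → C)) (hl : ∀ d ∈ l, IsDer d) :
    l.foldl (fun acc d => d acc) (0 : C) = 0 := by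
  have h := foldl_add l hl 0 0
  rw [add_zero] at h
  have h2 : l.foldl (fun acc d => d acc) (0 : C) + 0 =
      l.foldl (fun acc d => d acc) (0 : C) + l.foldl (fun acc d => d acc) (0 : C) := by
    rw [add_zero]; exact h
  exact (add_left_cancel h2).symm

lemma fold_nsmul (l : List (C → C)) (hl : ∀ d ∈ l, IsDer d) (n : ℕ) (x : C) :
    l.foldl (fun acc d => d acc) (n • x) = n • l.foldl (fun acc d => d acc) x := by
  induction n with
  | zero => simp [fold_zero l hl]
  | succ n ih => rw [succ_nsmul, foldl_add l hl, ih, succ_nsmul]

variable {ι : Type*} [DecidableEq ι] (t : ι → C) (D : ι → C → C)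

/-- product of the `t`'s along a list. -/
def PP (v : List ι) : C := (v.map t).prod

lemma PP_cons (j : ι) (v : List ι) : PP t (j :: v) = t j * PP t v := by simp [PP]

lemma PP_mem_pow (ht : ∀ j, ev (t j) = 0) (v : List ι) :
    PP t v ∈ (RingHom.ker ev) ^ v.length := by
  induction v with
  | nil => simp
  | cons j v ih =>
    rw [PP_cons, List.length_cons, pow_succ']
    exact Ideal.mul_mem_mul ((RingHom.mem_ker).mpr (ht j)) ih

lemma D_PP (hD : ∀ i, IsDer (D i)) (ht : ∀ j, ev (t j) = 0)
    (hDt : ∀ i j, ev (D i (t j)) = if i = j then 1 else 0) (i : ι) (v : List ι) :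
    D i (PP t v) - (v.count i : C) * PP t (v.erase i) ∈ (RingHom.ker ev) ^ v.length := by
  induction v with
  | nil => simp
  | cons j v ih =>
    set r := D i (t j) - (if i = j then 1 else 0) with hr
    have hrI : r ∈ RingHom.ker ev := by
      rw [RingHom.mem_ker, hr, map_sub, hDt]
      split_ifs <;> simp
    set y := D i (PP t v) - (v.count i : C) * PP t (v.erase i) with hy
    have key : D i (PP t (j :: v)) - ((j :: v).count i : C) * PP t ((j :: v).erase i) =
        r * PP t v + t j * y := by
      rw [PP_cons, (hD i).leibniz]
      by_cases hji : j = i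
      · subst hji
        have hcnt : (j :: v).count j = v.count j + 1 := List.count_cons_self
        have her : (j :: v).erase j = v := List.erase_cons_head j v
        have hmain : (v.count j : C) * (t j * PP t (v.erase j)) = (v.count j : C) * PP t v := by
          by_cases hmem : j ∈ v
          · rw [PP, PP, List.prod_map_erase _ hmem]
          · rw [List.count_eq_zero_of_not_mem hmem]; simp
        rw [hcnt, her, hr, hy, if_pos rfl]
        push_cast
        linear_combination hmain
      · have hcnt : (j :: v).count i = v.count i := List.count_cons_of_ne hji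
        have her : (j :: v).erase i = j :: v.erase i :=
          List.erase_cons_tail (by simpa using hji)
        rw [hcnt, her, PP_cons, hr, hy, if_neg (Ne.symm hji)]
        ring
    rw [key, List.length_cons, pow_succ']
    refine Ideal.add_mem _ ?_ ?_
    · exact Ideal.mul_mem_mul hrI (PP_mem_pow ev t ht v)
    · exact Ideal.mul_mem_mul ((RingHom.mem_ker).mpr (ht j)) ih

variable [Fintype ι]

/-- product of factorials of the multiplicities. -/
def fac (v : List ι) : ℕ := ∏ j, (v.count j).factorial

lemma fac_nil : fac ([] : List ι) = 1 := by simp [fac]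

lemma fac_eq (i : ι) (v : List ι) (hi : i ∈ v) : fac v = v.count i * fac (v.erase i) := by
  unfold fac
  rw [← Finset.mul_prod_erase Finset.univ _ (Finset.mem_univ i),
    ← Finset.mul_prod_erase Finset.univ (fun j => ((v.erase i).count j).factorial)
      (Finset.mem_univ i), ← mul_assoc]
  congr 1
  · rw [List.count_erase_self]
    have hpos : 0 < v.count i := List.count_pos_iff.mpr hi
    exact (Nat.mul_factorial_pred hpos.ne').symm
  · apply Finset.prod_congr rfl
    intro j hj
    rw [List.count_erase_of_ne (Finset.ne_of_mem_erase hj)]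

theorem ev_fold_PP (hD : ∀ i, IsDer (D i)) (ht : ∀ j, ev (t j) = 0)
    (hDt : ∀ i j, ev (D i (t j)) = if i = j then 1 else 0) :
    ∀ (w v : List ι), w.length ≤ v.length →
      ev ((w.map D).foldl (fun acc d => d acc) (PP t v)) =
        if w.Perm v then (fac v : K) else 0 := by
  intro w
  induction w with
  | nil =>
    intro v hv
    simp only [List.map_nil, List.foldl_nil]
    rcases v with _ | ⟨j, v⟩
    · simp [PP, fac_nil]
    · rw [if_neg (by simp), PP_cons, map_mul, ht j, zero_mul]
  | cons i w ih =>
    intro v hv
    have hlt : w.length < v.length := by simpa using hv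
    have hders : ∀ d ∈ w.map D, IsDer d := by
      intro d hd
      rw [List.mem_map] at hd
      obtain ⟨i', _, rfl⟩ := hd
      exact hD i'
    simp only [List.map_cons, List.foldl_cons]
    set y := D i (PP t v) - (v.count i : C) * PP t (v.erase i) with hy
    have hyI : y ∈ (RingHom.ker ev) ^ v.length := D_PP ev t D hD ht hDt i v
    have hsplit : D i (PP t v) = (v.count i) • PP t (v.erase i) + y := by
      rw [hy, nsmul_eq_mul]; ring
    rw [hsplit, foldl_add _ hders, fold_nsmul _ hders, map_add, map_nsmul]
    have hy0 : ev ((w.map D).foldl (fun acc d => d acc) y) = 0 := by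
      apply ev_fold_eq_zero ev _ hders
      rw [List.length_map]
      exact Ideal.pow_le_pow_right (by omega) hyI
    rw [hy0, add_zero]
    by_cases hi : i ∈ v
    · have hlen : w.length ≤ (v.erase i).length := by
        rw [List.length_erase_of_mem hi]; omega
      rw [ih (v.erase i) hlen]
      have hiff : (i :: w).Perm v ↔ w.Perm (v.erase i) := by
        rw [List.cons_perm_iff_perm_erase]
        exact ⟨fun h => h.2, fun h => ⟨hi, h⟩⟩
      by_cases hp : w.Perm (v.erase i)
      · rw [if_pos hp, if_pos (hiff.mpr hp), fac_eq i v hi]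
        push_cast
        rw [nsmul_eq_mul]
      · rw [if_neg hp, if_neg (fun h => hp (hiff.mp h)), smul_zero]
    · rw [List.count_eq_zero_of_not_mem hi, zero_smul, if_neg]
      intro h
      exact hi (h.subset List.mem_cons_self)

end DerPow

section Indep

variable {k : Type*} [Field k] (p : ℕ) [Fact p.Prime] [CharP k p] {H : Type*} [Ring H]
  [Bialgebra k H] [IsCocomm k H]

lemma fac_cast_ne_zero {ι : Type*} [DecidableEq ι] [Fintype ι] (v : List ι)
    (hv : ∀ i, v.count i < p) : ((fac v : ℕ) : k) ≠ 0 := by
  unfold fac
  rw [Nat.cast_prod]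
  apply Finset.prod_ne_zero_iff.mpr
  intro j _ h0
  rw [CharP.cast_eq_zero_iff k p, (Fact.out : p.Prime).dvd_factorial] at h0
  exact absurd (hv j) (not_lt.mpr h0)

theorem linearIndependent_restricted {ι : Type*} [Fintype ι] [DecidableEq ι] (d : ι → H)
    (hd : ∀ i, (comul (d i) : H ⊗[k] H) = d i ⊗ₜ[k] 1 + 1 ⊗ₜ[k] d i)
    (hli : LinearIndependent k d) {W : Type*} (w : W → List ι)
    (hw : ∀ a b, (w a).Perm (w b) → a = b) (hcount : ∀ a i, (w a).count i < p) :
    LinearIndependent k (fun a => ((w a).map d).prod) := by
  classical
  obtain ⟨G, hG⟩ : ∃ G : H →ₗ[k] (ι → k), ∀ i, G (d i) = Pi.single i 1 := by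
    obtain ⟨G, hG⟩ := LinearMap.exists_extend
      ((Module.Basis.span hli).constr k (fun i => (Pi.single i 1 : ι → k)))
    refine ⟨G, fun i => ?_⟩
    have := LinearMap.congr_fun hG (Module.Basis.span hli i)
    simp only [LinearMap.comp_apply, Submodule.subtype_apply, Module.Basis.constr_basis] at this
    rw [← this]
    congr 1
    exact (congrArg Subtype.val (Module.Basis.span_apply hli i)).symm
  set t : ι → WithConv (H →ₗ[k] k) := fun j =>
    toConv ((LinearMap.proj j ∘ₗ G) - (G 1 j) • (counit : H →ₗ[k] k)) with ht
  have ht1 : ∀ j, (t j).ofConv 1 = 0 := by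
    intro j
    simp [ht, Bialgebra.counit_one]
  have htd : ∀ i j, (t j).ofConv (d i) = if i = j then 1 else 0 := by
    intro i j
    simp only [ht, ofConv_toConv, LinearMap.sub_apply, LinearMap.comp_apply, LinearMap.proj_apply,
      LinearMap.smul_apply, hG, counit_eq_zero_of_prim (hd i), smul_zero, sub_zero,
      Pi.single_apply]
    by_cases h : i = j
    · rw [if_pos h, if_pos h.symm]
    · rw [if_neg h, if_neg (Ne.symm h)]
  set ev := convEvalOne (k := k) (H := H) k with hev
  set D : ι → WithConv (H →ₗ[k] k) → WithConv (H →ₗ[k] k) :=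
    fun i => transL (k := k) (P := k) (d i) with hD
  have hDer : ∀ i, IsDer (D i) := fun i => isDer_transL (d i) (hd i)
  have htev : ∀ j, ev (t j) = 0 := fun j => by rw [hev, convEvalOne_apply]; exact ht1 j
  have hDt : ∀ i j, ev (D i (t j)) = if i = j then 1 else 0 := by
    intro i j
    rw [hev, convEvalOne_apply, hD, transL_apply, mul_one]
    exact htd i j
  have hval : ∀ (u v : List ι), u.length ≤ v.length →
      (PP t v).ofConv ((u.map d).prod) = if u.Perm v then ((fac v : ℕ) : k) else 0 := by
    intro u v huv
    have h1 := foldl_transL_apply (k := k) (P := k) (u.map d) (PP t v) 1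
    rw [mul_one, List.map_map] at h1
    rw [← h1]
    have h2 := ev_fold_PP ev t D hDer htev hDt u v huv
    rw [hev, convEvalOne_apply] at h2
    exact h2
  rw [linearIndependent_iff']
  intro s c hsum
  by_contra hcon
  push Not at hcon
  obtain ⟨a1, ha1s, ha1c⟩ := hcon
  have hne : (s.filter (fun a => c a ≠ 0)).Nonempty := ⟨a1, Finset.mem_filter.mpr ⟨ha1s, ha1c⟩⟩
  obtain ⟨a0, ha0, hmax⟩ := Finset.exists_max_image _ (fun a : W => (w a).length) hne
  rw [Finset.mem_filter] at ha0
  have happ := congrArg (fun y => (PP t (w a0)).ofConv y) hsum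
  simp only [map_sum, map_smul, map_zero] at happ
  rw [Finset.sum_eq_single a0] at happ
  · rw [hval _ _ le_rfl, if_pos (List.Perm.refl _), smul_eq_mul] at happ
    rcases mul_eq_zero.mp happ with h | h
    · exact ha0.2 h
    · exact fac_cast_ne_zero p (w a0) (hcount a0) h
  · intro a ha hne'
    by_cases hca : c a = 0
    · rw [hca, zero_smul]
    have hlen : (w a).length ≤ (w a0).length := hmax a (Finset.mem_filter.mpr ⟨ha, hca⟩)
    rw [hval _ _ hlen, if_neg, smul_zero]
    intro h
    exact hne' (hw _ _ h)
  · intro h
    exact absurd ha0.1 h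

/-- canonical list with prescribed multiplicities. -/
def canon {r : ℕ} (a : Fin r → Fin p) : List (Fin r) :=
  (List.finRange r).flatMap (fun i => List.replicate (a i) i)

lemma count_canon {r : ℕ} (a : Fin r → Fin p) (j : Fin r) : (canon p a).count j = a j := by
  unfold canon
  rw [List.count_flatMap]
  have h : (List.count j ∘ fun i => List.replicate (a i : ℕ) i) =
      fun i => if i = j then (a i : ℕ) else 0 := by
    funext i
    simp only [Function.comp_apply, List.count_replicate]
    by_cases h : i = j
    · simp [h]
    · have : ¬ (i == j) = true := by simpa using h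
      simp [h, this]
  rw [h, ← Fin.sum_univ_def, Finset.sum_ite_eq' Finset.univ j]
  simp

theorem pow_le_finrank_of_prim [Module.Finite k H] {r : ℕ} (d : Fin r → H)
    (hd : ∀ i, (comul (d i) : H ⊗[k] H) = d i ⊗ₜ[k] 1 + 1 ⊗ₜ[k] d i)
    (hli : LinearIndependent k d) : p ^ r ≤ Module.finrank k H := by
  have h := linearIndependent_restricted p d hd hli (canon (r := r) p)
    (by
      intro a b hab
      funext j
      apply Fin.ext
      rw [← count_canon p a j, ← count_canon p b j]
      exact hab.count_eq j)
    (by
      intro a i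
      rw [count_canon]
      exact (a i).2)
  have := h.fintype_card_le_finrank
  simpa using this

end Indep

end Groth.Agent.Lib.RestrEnvH2
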