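import Mathlib
import Groth.Prelude.Def_CartDual
import Groth.Agent.Lib.RestrEnv1_helper2
import Groth.Agent.Lib.RestrEnv2_helper2
import Groth.Agent.Lib.RestrEnv3_helper2
import Groth.Agent.Lib.CartMM5_helper2
import Groth.Agent.Lib.PLieRep_helper1

/-!
# The dual of the restricted enveloping algebra (helper2)

Generic facts on the dual Hopf algebra `CartDual.D k H` of a finite-dimensional cocommutative Hopf
algebra: right translations, left-invariant derivations correspond to primitive elements.
Then the case `H = RU φ`: finite-dimensionality, `L → u(L)` injective (helper1's faithful restricted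
representation), primitive elements are exactly `L`, and `f^p = 0` on the augmentation ideal of the dual.
-/

set_option autoImplicit false
set_option linter.unusedSimpArgs false
set_option linter.unusedVariables false
set_option linter.unusedSectionVars false
set_option linter.style.haveILetI false

open TensorProduct Coalgebra WithConv

namespace Groth.Agent.Lib.RestrEnvH2

open Groth.Agent.Lib.CartMMH2

universe u v

section DualSide

variable {k : Type*} [Field k] {H : Type*} [Ring H] [HopfAlgebra k H] [IsCocomm k H]
  [Module.Finite k H]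

/-- Right translation `F ↦ F(· a)` on the dual. -/
noncomputable def transR : H →ₗ[k] (CartDual.D k H →ₗ[k] CartDual.D k H) :=
  LinearMap.mk₂ k (fun a F => toConv (F.ofConv ∘ₗ LinearMap.mulRight k a))
    (by intro a b F; apply WithConv.ext; ext h; simp [mul_add])
    (by intro c a F; apply WithConv.ext; ext h; simp)
    (by intro a F G; apply WithConv.ext; ext h; simp)
    (by intro c a F; apply WithConv.ext; ext h; simp)

theorem transR_apply (a : H) (F : CartDual.D k H) (h : H) :
    (transR a F).ofConv h = F.ofConv (h * a) := rfl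

theorem transR_transR (a b : H) (F : CartDual.D k H) :
    transR a (transR b F) = transR (a * b) F := by
  apply WithConv.ext; ext h
  simp [transR_apply, mul_assoc]

theorem transR_one (F : CartDual.D k H) : transR (1 : H) F = F := by
  apply WithConv.ext; ext h
  simp [transR_apply]

theorem transR_pow (a : H) (n : ℕ) :
    (transR (k := k) a) ^ n = transR (a ^ n) := by
  induction n with
  | zero =>
    ext F : 1
    rw [pow_zero, pow_zero, Module.End.one_apply, transR_one]
  | succ n ih =>
    ext F : 1
    rw [pow_succ, Module.End.mul_apply, ih, transR_transR, pow_succ]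

theorem transR_leibniz {x : H} (hx : (comul x : H ⊗[k] H) = x ⊗ₜ[k] 1 + 1 ⊗ₜ[k] x)
    (F G : CartDual.D k H) :
    transR x (F * G) = transR x F * G + F * transR x G := by
  apply WithConv.ext
  ext h
  simp only [transR_apply, ofConv_add, LinearMap.add_apply, LinearMap.convMul_apply,
    Bialgebra.comul_mul, hx]
  rw [← (ℛ k h).eq]
  simp only [Finset.sum_mul, mul_add, Algebra.TensorProduct.tmul_mul_tmul, mul_one, map_sum,
    map_add, TensorProduct.map_tmul, LinearMap.mul'_apply, transR_apply,
    Finset.sum_add_distrib]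

theorem ev₂_lTensor_transR (a : H) (y : CartDual.D k H ⊗[k] CartDual.D k H) (b c : H) :
    CartDual.ev₂ k H ((transR a).lTensor (CartDual.D k H) y) (b ⊗ₜ[k] c) =
      CartDual.ev₂ k H y (b ⊗ₜ[k] (c * a)) := by
  induction y using TensorProduct.induction_on with
  | zero => simp
  | tmul F G =>
    rw [LinearMap.lTensor_tmul, CartDual.ev₂_tmul, CartDual.ev₂_tmul, CartDual.coe_apply,
      CartDual.coe_apply, CartDual.coe_apply, transR_apply]
  | add y y' h h' => simp only [map_add, LinearMap.add_apply, h, h']

theorem comul_transR (a : H) (F : CartDual.D k H) :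
    (comul (transR a F) : CartDual.D k H ⊗[k] CartDual.D k H) =
      (transR a).lTensor (CartDual.D k H) (comul F) := by
  apply (CartDual.ev₂ k H).injective
  apply TensorProduct.ext'
  intro b c
  rw [CartDual.ev₂_coalgebra_comul_tmul, ev₂_lTensor_transR, CartDual.ev₂_coalgebra_comul_tmul,
    CartDual.coe_apply, CartDual.coe_apply, transR_apply, mul_assoc]

theorem exists_eq_transR (T : CartDual.D k H →ₗ[k] CartDual.D k H)
    (hT : (comul : CartDual.D k H →ₗ[k] _) ∘ₗ T = T.lTensor (CartDual.D k H) ∘ₗ comul) :
    ∃ d : H, ∀ F, T F = transR d F := by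
  set δ : Module.Dual k (Module.Dual k H) :=
    (LinearMap.applyₗ (1 : H)) ∘ₗ (CartDual.toDual k H).toLinearMap ∘ₗ T ∘ₗ
      (CartDual.toDual k H).symm.toLinearMap with hδ
  set d : H := (Module.evalEquiv k H).symm δ with hd
  have hdF : ∀ F : CartDual.D k H, F.ofConv d = (T F).ofConv 1 := by
    intro F
    have h1 : Module.evalEquiv k H d = δ := by rw [hd, LinearEquiv.apply_symm_apply]
    have h2 := LinearMap.congr_fun h1 (CartDual.toDual k H F)
    rw [Module.evalEquiv_apply, Module.Dual.eval_apply] at h2
    rw [CartDual.toDual_apply] at h2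
    rw [h2, hδ]
    simp
  have key : ∀ (y : CartDual.D k H ⊗[k] CartDual.D k H) (h : H),
      CartDual.ev₂ k H (T.lTensor (CartDual.D k H) y) (h ⊗ₜ[k] 1) =
        CartDual.ev₂ k H y (h ⊗ₜ[k] d) := by
    intro y h
    induction y using TensorProduct.induction_on with
    | zero => simp
    | tmul F G =>
      rw [LinearMap.lTensor_tmul, CartDual.ev₂_tmul, CartDual.ev₂_tmul, CartDual.coe_apply,
        CartDual.coe_apply, CartDual.coe_apply, hdF]
    | add y y' h1 h2 => simp only [map_add, LinearMap.add_apply, h1, h2]
  refine ⟨d, fun F => ?_⟩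
  apply WithConv.ext
  ext h
  have h1 := CartDual.ev₂_coalgebra_comul_tmul k H (T F) h 1
  have h2 : (comul (T F) : CartDual.D k H ⊗[k] CartDual.D k H) =
      T.lTensor (CartDual.D k H) (comul F) := LinearMap.congr_fun hT F
  rw [h2, key, CartDual.ev₂_coalgebra_comul_tmul, mul_one, CartDual.coe_apply,
    CartDual.coe_apply] at h1
  rw [transR_apply, ← h1]

theorem prim_of_forall (d : H)
    (hder : ∀ F G : CartDual.D k H,
      (F * G).ofConv d = F.ofConv 1 * G.ofConv d + G.ofConv 1 * F.ofConv d) :
    (comul d : H ⊗[k] H) = d ⊗ₜ[k] 1 + 1 ⊗ₜ[k] d := by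
  have key : ∀ y : CartDual.D k H ⊗[k] CartDual.D k H,
      CartDual.ev₂ k H y (comul d) = CartDual.ev₂ k H y (d ⊗ₜ[k] 1 + 1 ⊗ₜ[k] d) := by
    intro y
    induction y using TensorProduct.induction_on with
    | zero => simp
    | tmul F G =>
      rw [map_add, CartDual.ev₂_tmul, CartDual.ev₂_tmul, CartDual.ev₂_tmul_eq']
      have := hder F G
      rw [LinearMap.convMul_apply] at this
      simp only [LinearMap.comp_apply, CartDual.coe_apply]
      rw [this]
      ring
    | add y y' h1 h2 =>
      rw [map_add, LinearMap.add_apply, LinearMap.add_apply, h1, h2]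
  rw [← sub_eq_zero, ← Module.forall_dual_apply_eq_zero_iff k]
  intro ψ
  have := key ((CartDual.ev₂ k H).symm ψ)
  rw [LinearEquiv.apply_symm_apply] at this
  rw [map_sub, this, sub_self]

end DualSide

section RUfin

variable {k : Type u} [Field k] {p : ℕ} [Fact p.Prime] [CharP k p] {L : Type v} [LieRing L]
  [LieAlgebra k L] [Module.Finite k L] (φ : PLie.PMap k p L)

theorem uι_injective : Function.Injective (uι φ) := by
  obtain ⟨n, e, he1, he2, he3⟩ := Groth.Agent.Lib.PLieRepH1.main17337 k p L φ
  rw [injective_iff_map_eq_zero]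
  intro x hx
  have h := lift_uι φ e he2 (fun x => (he3 x).symm) x
  rw [hx, map_zero] at h
  exact (injective_iff_map_eq_zero e).mp he1 x h.symm

variable {ι : Type*} (b : Module.Basis ι k L)

theorem uι_mem_V (x : L) : uι φ x ∈ V (k := k) (fun i => uι φ (b i)) := by
  have hx : x ∈ Submodule.span k (Set.range b) := by rw [b.span_eq]; trivial
  have := Submodule.mem_map_of_mem (f := uι φ) hx
  rw [Submodule.map_span, ← Set.range_comp] at this
  exact this

theorem adjoin_range_eq_top : Algebra.adjoin k (Set.range (fun i => uι φ (b i))) = ⊤ := by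
  rw [eq_top_iff]
  intro a _
  refine induction_left φ (P := fun a => a ∈ Algebra.adjoin k (Set.range (fun i => uι φ (b i))))
    ?_ ?_ ?_ ?_ a
  · exact Subalgebra.one_mem _
  · intro x a ha
    exact Subalgebra.mul_mem _ (Algebra.span_le_adjoin k _ (uι_mem_V φ b x)) ha
  · intro a c ha hc
    exact Subalgebra.add_mem _ ha hc
  · intro c a ha
    exact Subalgebra.smul_mem _ ha c

theorem hbr_RU (i j : ι) : uι φ (b i) * uι φ (b j) - uι φ (b j) * uι φ (b i) ∈
    V (k := k) (fun i => uι φ (b i)) := by
  rw [← uι_lie]
  exact uι_mem_V φ b _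

theorem hpow_RU (i : ι) : uι φ (b i) ^ p ∈ V (k := k) (fun i => uι φ (b i)) := by
  rw [uι_pow]
  exact uι_mem_V φ b _

instance instFiniteRU : Module.Finite k (RU φ) := by
  classical
  let b := Module.finBasis k L
  exact finite_of_gen (k := k) (g := fun i => uι φ (b i)) (p := p) (hbr_RU φ b)
    (Fact.out : p.Prime).two_le (hpow_RU φ b) (adjoin_range_eq_top φ b)

theorem finrank_RU_le : Module.finrank k (RU φ) ≤ p ^ Module.finrank k L := by
  classical
  let b := Module.finBasis k L
  have := finrank_le_of_gen (k := k) (g := fun i => uι φ (b i)) (p := p) (hbr_RU φ b)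
    (Fact.out : p.Prime).two_le (hpow_RU φ b) (adjoin_range_eq_top φ b)
  simpa using this

theorem primSub_eq : primSub k (RU φ) = LinearMap.range (uι φ) := by
  symm
  apply Submodule.eq_of_le_of_finrank_le
  · rintro _ ⟨x, rfl⟩
    exact comul_uι φ x
  · rw [LinearMap.finrank_range_of_inj (uι_injective φ)]
    set r := Module.finrank k (primSub k (RU φ)) with hr
    let b' := Module.finBasis k (primSub k (RU φ))
    have hli : LinearIndependent k (fun i => ((b' i : primSub k (RU φ)) : RU φ)) :=
      b'.linearIndependent.map' (primSub k (RU φ)).subtype (Submodule.ker_subtype _)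
    have h1 := pow_le_finrank_of_prim (k := k) p (fun i => ((b' i : primSub k (RU φ)) : RU φ))
      (fun i => (b' i).2) hli
    have h2 := h1.trans (finrank_RU_le φ)
    exact (Nat.pow_le_pow_iff_right (Fact.out : p.Prime).one_lt).mp h2

theorem isDer_map_pow_eq_zero {C : Type*} [CommRing C] {d : C → C} (hd : IsDer d) (f : C)
    (n : ℕ) (hn : ((n : ℕ) : C) = 0) : d (f ^ n) = 0 := by
  cases n with
  | zero => rw [pow_zero]; exact hd.map_one
  | succ m => rw [hd.map_pow_succ, hn, zero_mul, zero_mul]

theorem pow_p_eq_zero (f : CartDual.D k (RU φ)) (hf : f.ofConv 1 = 0) : f ^ p = 0 := by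
  apply WithConv.ext
  ext a
  refine induction_left φ (P := fun a => (f ^ p).ofConv a = (0 : CartDual.D k (RU φ)).ofConv a)
    ?_ ?_ ?_ ?_ a
  · have h := map_pow (convEvalOne (k := k) (H := RU φ) k) f p
    rw [convEvalOne_apply, convEvalOne_apply, hf, zero_pow (Fact.out : p.Prime).ne_zero] at h
    rw [h]; rfl
  · intro x a _
    have hder := isDer_transL (k := k) (P := k) (uι φ x) (comul_uι φ x)
    have h1 : transL (k := k) (P := k) (uι φ x) (f ^ p) = 0 :=
      isDer_map_pow_eq_zero hder f p (natCast_eq_zero_alg (k := k) p)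
    have h2 := transL_apply (k := k) (P := k) (uι φ x) a (f ^ p)
    rw [h1] at h2
    exact h2.symm
  · intro a c ha hc
    rw [map_add, map_add, ha, hc]
  · intro c a ha
    rw [map_smul, map_smul, ha]

end RUfin

end Groth.Agent.Lib.RestrEnvH2
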