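import Mathlib
import Groth.Prelude.Def_CartDual
import Groth.Prelude.Def_PLie
import Groth.Agent.Lib.RestrEnv4_helper2

/-!
# A finite-dimensional restricted Lie algebra is the Lie algebra of a height ≤ 1 group (helper2)

`A = (u(L))^*`, the dual Hopf algebra of the restricted enveloping algebra; `e x` = right translation
by `x ∈ L ⊆ u(L)`.
-/

set_option autoImplicit false
set_option linter.unusedSimpArgs false
set_option linter.unusedVariables false
set_option linter.unusedSectionVars false
set_option linter.style.haveILetI false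

open TensorProduct Coalgebra WithConv

namespace Groth.Agent.Lib.RestrEnvH2

open Groth.Agent.Lib.CartMMH2

universe u v

section DualDer

variable {k : Type*} [Field k] {H : Type*} [Ring H] [HopfAlgebra k H] [IsCocomm k H]
  [Module.Finite k H]

/-- Right translation by a primitive element, as a derivation of the dual algebra. -/
noncomputable def derR (x : H) (hx : (comul x : H ⊗[k] H) = x ⊗ₜ[k] 1 + 1 ⊗ₜ[k] x) :
    Derivation k (CartDual.D k H) (CartDual.D k H) :=
  Derivation.mk' (transR x) (fun F G => by
    rw [transR_leibniz hx, smul_eq_mul, smul_eq_mul, mul_comm G, add_comm])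

theorem derR_apply (x : H) (hx : (comul x : H ⊗[k] H) = x ⊗ₜ[k] 1 + 1 ⊗ₜ[k] x)
    (F : CartDual.D k H) : derR x hx F = transR x F := rfl

theorem derR_toLinearMap (x : H) (hx : (comul x : H ⊗[k] H) = x ⊗ₜ[k] 1 + 1 ⊗ₜ[k] x) :
    (derR x hx).toLinearMap = transR x := rfl

theorem exists_prim_of_leftInvariant (D : Derivation k (CartDual.D k H) (CartDual.D k H))
    (hD : (comul : CartDual.D k H →ₗ[k] _) ∘ₗ D.toLinearMap =
      D.toLinearMap.lTensor (CartDual.D k H) ∘ₗ comul) :
    ∃ d : H, (comul d : H ⊗[k] H) = d ⊗ₜ[k] 1 + 1 ⊗ₜ[k] d ∧ ∀ F, D F = transR d F := by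
  obtain ⟨d, hd⟩ := exists_eq_transR D.toLinearMap hD
  have hd' : ∀ F, D F = transR d F := fun F => hd F
  have e1 : ∀ F : CartDual.D k H, F.ofConv d = (D F).ofConv 1 := by
    intro F
    rw [hd' F, transR_apply, one_mul]
  refine ⟨d, prim_of_forall d (fun F G => ?_), hd'⟩
  have m1 := map_mul (convEvalOne (k := k) (H := H) k) F (D G)
  have m2 := map_mul (convEvalOne (k := k) (H := H) k) G (D F)
  rw [convEvalOne_apply, convEvalOne_apply, convEvalOne_apply] at m1 m2
  rw [e1, Derivation.leibniz, ofConv_add, LinearMap.add_apply, smul_eq_mul, smul_eq_mul,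
    m1, m2, ← e1, ← e1]

theorem transR_eq_zero_imp (a : H) (h : ∀ F : CartDual.D k H, transR a F = 0) : a = 0 := by
  rw [← Module.forall_dual_apply_eq_zero_iff k]
  intro ψ
  have := congrArg (fun G : CartDual.D k H => G.ofConv 1) (h (toConv ψ))
  simpa [transR_apply] using this

end DualDer

section Main

variable {k : Type u} [Field k] {p : ℕ} [Fact p.Prime] [CharP k p] {L : Type v} [LieRing L]
  [LieAlgebra k L] [Module.Finite k L] (φ : PLie.PMap k p L)

/-- `L → Der((u(L))^*)`, `x ↦` right translation by `x`. -/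
noncomputable def eLin :
    L →ₗ[k] Derivation k (CartDual.D k (RU φ)) (CartDual.D k (RU φ)) where
  toFun x := derR (uι φ x) (comul_uι φ x)
  map_add' x y := by
    apply Derivation.ext
    intro F
    rw [Derivation.add_apply, derR_apply, derR_apply, derR_apply, map_add, map_add,
      LinearMap.add_apply]
  map_smul' c x := by
    apply Derivation.ext
    intro F
    rw [RingHom.id_apply, Derivation.smul_apply, derR_apply, derR_apply, map_smul, map_smul,
      LinearMap.smul_apply]

theorem eLin_apply (x : L) (F : CartDual.D k (RU φ)) : eLin φ x F = transR (uι φ x) F := rfl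

theorem eLin_toLinearMap (x : L) : (eLin φ x).toLinearMap = transR (uι φ x) := rfl

theorem eLin_injective : Function.Injective (eLin φ) := by
  rw [injective_iff_map_eq_zero]
  intro x hx
  apply uι_injective φ
  rw [map_zero]
  apply transR_eq_zero_imp (k := k)
  intro F
  rw [← eLin_apply, hx]
  rfl

theorem eLin_range : Set.range (eLin φ) =
    {D : Derivation k (CartDual.D k (RU φ)) (CartDual.D k (RU φ)) |
      (comul : CartDual.D k (RU φ) →ₗ[k] _) ∘ₗ D.toLinearMap =
        D.toLinearMap.lTensor (CartDual.D k (RU φ)) ∘ₗ comul} := by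
  apply Set.eq_of_subset_of_subset
  · rintro _ ⟨x, rfl⟩
    show (comul : CartDual.D k (RU φ) →ₗ[k] _) ∘ₗ (eLin φ x).toLinearMap =
        (eLin φ x).toLinearMap.lTensor (CartDual.D k (RU φ)) ∘ₗ comul
    rw [eLin_toLinearMap]
    apply LinearMap.ext
    intro F
    exact comul_transR (uι φ x) F
  · intro D hD
    obtain ⟨d, hd1, hd2⟩ := exists_prim_of_leftInvariant D hD
    have hmem : d ∈ primSub k (RU φ) := hd1
    rw [primSub_eq] at hmem
    obtain ⟨x, rfl⟩ := hmem
    refine ⟨x, ?_⟩
    apply Derivation.ext
    intro F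
    rw [eLin_apply, hd2]

theorem eLin_lie (x y : L) : eLin φ ⁅x, y⁆ = ⁅eLin φ x, eLin φ y⁆ := by
  apply Derivation.ext
  intro F
  rw [Derivation.commutator_apply, eLin_apply, eLin_apply, eLin_apply, eLin_apply, eLin_apply,
    transR_transR, transR_transR, uι_lie, map_sub, LinearMap.sub_apply]

theorem eLin_pmap (x : L) : (eLin φ (φ x)).toLinearMap = (eLin φ x).toLinearMap ^ p := by
  rw [eLin_toLinearMap, eLin_toLinearMap, transR_pow, uι_pow]

end Main

/-- **S17338**: a finite-dimensional restricted Lie algebra is the Lie algebra of a finite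
group scheme of height ≤ 1 (the dual of the restricted enveloping algebra). -/
theorem main17338 (k : Type u) [Field k] (p : ℕ) [Fact p.Prime] [CharP k p]
    (L : Type u) [LieRing L] [LieAlgebra k L] [Module.Finite k L] (φ : PLie.PMap k p L) :
    ∃ (A : Type u) (_ : CommRing A) (_ : HopfAlgebra k A), Module.Finite k A ∧
      (∀ f : A, Bialgebra.counitAlgHom k A f = 0 → f ^ p = 0) ∧
      ∃ e : L →ₗ[k] Derivation k A A, Function.Injective e ∧
        Set.range e = {D : Derivation k A A |
          CoalgebraStruct.comul (R := k) (A := A) ∘ₗ D.toLinearMap =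
          LinearMap.lTensor A D.toLinearMap ∘ₗ CoalgebraStruct.comul (R := k) (A := A)} ∧
        (∀ x y : L, e ⁅x, y⁆ = ⁅e x, e y⁆) ∧
        (∀ x : L, (e (φ x)).toLinearMap = (e x).toLinearMap ^ p) := by
  refine ⟨CartDual.D k (RU φ), inferInstance, inferInstance, inferInstance, ?_,
    eLin φ, eLin_injective φ, eLin_range φ, eLin_lie φ, eLin_pmap φ⟩
  intro f hf
  exact pow_p_eq_zero φ f hf

end Groth.Agent.Lib.RestrEnvH2
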