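import Mathlib

open CategoryTheory MonoidalCategory ExactPairing HasRightDual

namespace Groth.Agent.Lib.RetractDual

universe v u

variable {C : Type u} [Category.{v} C] [MonoidalCategory C]

theorem hasRightDual_of_retract [IsIdempotentComplete C] {X X₁ : C} (i : X₁ ⟶ X) (p : X ⟶ X₁)
    (hip : i ≫ p = 𝟙 X₁) [HasRightDual X] : Nonempty (HasRightDual X₁) := by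
  have he : (p ≫ i) ≫ (p ≫ i) = p ≫ i := by
    rw [Category.assoc, ← Category.assoc i, hip, Category.id_comp]
  have hE : (p ≫ i)ᘁ ≫ (p ≫ i)ᘁ = (p ≫ i)ᘁ := by rw [← comp_rightAdjointMate, he]
  obtain ⟨Y₁, j, q, hjq, hqj⟩ := IsIdempotentComplete.idempotents_split (Xᘁ) ((p ≫ i)ᘁ) hE
  have hjEq : j ≫ (p ≫ i)ᘁ ≫ q = 𝟙 Y₁ := by
    rw [← hqj, Category.assoc, hjq, Category.comp_id, hjq]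
  have hipip : i ≫ (p ≫ i) ≫ p = 𝟙 X₁ := by
    rw [Category.assoc, hip, Category.comp_id, hip]
  have hC : (Xᘁ) ◁ (η_ X (Xᘁ) ≫ p ▷ (Xᘁ)) ⊗≫ ((Xᘁ) ◁ i ≫ ε_ X (Xᘁ)) ▷ (Xᘁ) =
      𝟙 _ ⊗≫ (p ≫ i)ᘁ ⊗≫ 𝟙 _ := by
    rw [rightAdjointMate]
    monoidal
  have hD : η_ X (Xᘁ) ▷ X ⊗≫ X ◁ ((p ≫ i)ᘁ ▷ X ≫ ε_ X (Xᘁ)) = 𝟙 _ ⊗≫ (p ≫ i) ⊗≫ 𝟙 _ := by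
    rw [rightAdjointMate_comp_evaluation]
    calc η_ X (Xᘁ) ▷ X ⊗≫ X ◁ ((Xᘁ) ◁ (p ≫ i) ≫ ε_ X (Xᘁ))
        = 𝟙 _ ⊗≫ (η_ X (Xᘁ) ▷ X ≫ (X ⊗ (Xᘁ)) ◁ (p ≫ i)) ⊗≫ X ◁ ε_ X (Xᘁ) := by monoidal
      _ = 𝟙 _ ⊗≫ (p ≫ i) ⊗≫ (η_ X (Xᘁ) ▷ X ⊗≫ X ◁ ε_ X (Xᘁ)) := by
        rw [← whisker_exchange]; monoidal
      _ = _ := by rw [evaluation_coevaluation'']; monoidal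
  have pairing : ExactPairing X₁ Y₁ := by
    refine
      { coevaluation' := η_ X (Xᘁ) ≫ p ▷ (Xᘁ) ≫ X₁ ◁ q
        evaluation' := j ▷ X₁ ≫ (Xᘁ) ◁ i ≫ ε_ X (Xᘁ)
        coevaluation_evaluation' := ?_
        evaluation_coevaluation' := ?_ }
    · calc Y₁ ◁ (η_ X (Xᘁ) ≫ p ▷ (Xᘁ) ≫ X₁ ◁ q) ≫ (α_ _ _ _).inv ≫
            (j ▷ X₁ ≫ (Xᘁ) ◁ i ≫ ε_ X (Xᘁ)) ▷ Y₁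
          = Y₁ ◁ (η_ X (Xᘁ) ≫ p ▷ (Xᘁ)) ⊗≫ (Y₁ ◁ (X₁ ◁ q) ≫ j ▷ (X₁ ⊗ Y₁)) ⊗≫
            ((Xᘁ) ◁ i ≫ ε_ X (Xᘁ)) ▷ Y₁ := by monoidal
        _ = 𝟙 _ ⊗≫ (Y₁ ◁ (η_ X (Xᘁ) ≫ p ▷ (Xᘁ)) ≫ j ▷ (X₁ ⊗ (Xᘁ))) ⊗≫
            (((Xᘁ) ⊗ X₁) ◁ q ≫ ((Xᘁ) ◁ i ≫ ε_ X (Xᘁ)) ▷ Y₁) ⊗≫ 𝟙 _ := by
          rw [whisker_exchange]; monoidal
        _ = 𝟙 _ ⊗≫ j ⊗≫ ((Xᘁ) ◁ (η_ X (Xᘁ) ≫ p ▷ (Xᘁ)) ⊗≫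
            ((Xᘁ) ◁ i ≫ ε_ X (Xᘁ)) ▷ (Xᘁ)) ⊗≫ q ⊗≫ 𝟙 _ := by
          rw [whisker_exchange, whisker_exchange]; monoidal
        _ = 𝟙 _ ⊗≫ (j ≫ (p ≫ i)ᘁ ≫ q) ⊗≫ 𝟙 _ := by rw [hC]; monoidal
        _ = (ρ_ Y₁).hom ≫ (λ_ Y₁).inv := by rw [hjEq]; monoidal
    · calc (η_ X (Xᘁ) ≫ p ▷ (Xᘁ) ≫ X₁ ◁ q) ▷ X₁ ≫ (α_ _ _ _).hom ≫
            X₁ ◁ (j ▷ X₁ ≫ (Xᘁ) ◁ i ≫ ε_ X (Xᘁ))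
          = η_ X (Xᘁ) ▷ X₁ ⊗≫ (p ▷ ((Xᘁ) ⊗ X₁) ≫ X₁ ◁ ((q ≫ j) ▷ X₁ ≫ (Xᘁ) ◁ i)) ⊗≫
            X₁ ◁ ε_ X (Xᘁ) := by monoidal
        _ = η_ X (Xᘁ) ▷ X₁ ⊗≫ (p ▷ ((Xᘁ) ⊗ X₁) ≫ X₁ ◁ ((Xᘁ) ◁ i ≫ (p ≫ i)ᘁ ▷ X)) ⊗≫
            X₁ ◁ ε_ X (Xᘁ) := by rw [hqj, ← whisker_exchange ((p ≫ i)ᘁ) i]
        _ = η_ X (Xᘁ) ▷ X₁ ⊗≫ (p ▷ ((Xᘁ) ⊗ X₁) ≫ X₁ ◁ ((Xᘁ) ◁ i)) ⊗≫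
            X₁ ◁ ((p ≫ i)ᘁ ▷ X ≫ ε_ X (Xᘁ)) := by monoidal
        _ = 𝟙 _ ⊗≫ (η_ X (Xᘁ) ▷ X₁ ≫ (X ⊗ (Xᘁ)) ◁ i) ⊗≫
            (p ▷ ((Xᘁ) ⊗ X) ≫ X₁ ◁ ((p ≫ i)ᘁ ▷ X ≫ ε_ X (Xᘁ))) ⊗≫ 𝟙 _ := by
          rw [← whisker_exchange]; monoidal
        _ = 𝟙 _ ⊗≫ i ⊗≫ (η_ X (Xᘁ) ▷ X ⊗≫ X ◁ ((p ≫ i)ᘁ ▷ X ≫ ε_ X (Xᘁ))) ⊗≫ p ⊗≫ 𝟙 _ := by
          rw [← whisker_exchange, ← whisker_exchange]; monoidal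
        _ = 𝟙 _ ⊗≫ (i ≫ (p ≫ i) ≫ p) ⊗≫ 𝟙 _ := by rw [hD]; monoidal
        _ = (λ_ X₁).hom ≫ (ρ_ X₁).inv := by rw [hipip]; monoidal
  exact ⟨{ rightDual := Y₁, exact := pairing }⟩

end Groth.Agent.Lib.RetractDual
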