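import Mathlib

/-!
# Averaging (Reynolds) operator for a finite group of invertible order (helper5)
-/

namespace Groth.Agent.Lib.Reynolds_helper5

universe u v w

variable {A : Type u} [CommRing A] {Γ : Type v} [Group Γ] [Fintype Γ]
  {M : Type w} [AddCommGroup M] [Module A M] [DistribMulAction Γ M] [SMulCommClass Γ A M]

/-- `avg v m = v • ∑ γ, γ • m`; for `v = |Γ|⁻¹` this is the Reynolds operator. -/
noncomputable def avg (v : A) : M →ₗ[A] M :=
  v • ∑ γ : Γ, DistribSMul.toLinearMap A M γ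

lemma avg_apply (v : A) (m : M) : avg (Γ := Γ) v m = v • ∑ γ : Γ, γ • m := by
  simp only [avg, LinearMap.smul_apply, LinearMap.sum_apply]
  rfl

lemma smul_avg (v : A) (g : Γ) (m : M) : g • avg (Γ := Γ) v m = avg (Γ := Γ) v m := by
  rw [avg_apply, smul_comm, Finset.smul_sum]
  congr 1
  simp_rw [← mul_smul]
  exact Fintype.sum_bijective (fun γ => g * γ) (Group.mulLeft_bijective g) _ _ (fun _ => rfl)

lemma avg_of_fixed (v : A) (hv : v * (Fintype.card Γ : A) = 1) (m : M) (hm : ∀ γ : Γ, γ • m = m) :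
    avg (Γ := Γ) v m = m := by
  rw [avg_apply]
  simp_rw [hm]
  rw [Finset.sum_const, Finset.card_univ, ← Nat.cast_smul_eq_nsmul A, ← mul_smul, hv, one_smul]

lemma map_avg {N : Type*} [AddCommGroup N] [Module A N] [DistribMulAction Γ N] [SMulCommClass Γ A N]
    (f : M →ₗ[A] N) (hf : ∀ (γ : Γ) (m : M), f (γ • m) = γ • f m) (v : A) (m : M) :
    f (avg (Γ := Γ) v m) = avg (Γ := Γ) v (f m) := by
  rw [avg_apply, avg_apply, map_smul, map_sum]
  simp_rw [hf]

end Groth.Agent.Lib.Reynolds_helper5
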