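import Mathlib
import Groth.Agent.Lib.ThickAff5_helper6
import Groth.Agent.Lib.Thickening4_helper7

/-!
# RibbonCI (helper7): a morphism out of a square-zero thickening `D ⊆ C` is a closed immersion iff
its restriction to `D` is one and the ideal of `D` in the target pulls back onto the ideal of `D`.
-/

set_option autoImplicit false
universe u

open AlgebraicGeometry CategoryTheory Limits

namespace Groth.Agent.Lib.RibbonCIH7

theorem alg_surj {R A B : Type*} [CommRing R] [CommRing A] [CommRing B] (φ : R →+* A)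
    (ι : A →+* B) (hκ : Function.Surjective (ι.comp φ)) (hJ : RingHom.ker ι ^ 2 = ⊥)
    (hle : RingHom.ker ι ≤ Ideal.map φ (RingHom.ker (ι.comp φ))) : Function.Surjective φ := by
  have hsub : ∀ a : A, ∃ s : R, a - φ s ∈ RingHom.ker ι := by
    intro a
    obtain ⟨s, hs⟩ := hκ (ι a)
    refine ⟨s, ?_⟩
    have h1 : ι (φ s) = ι a := hs
    rw [RingHom.mem_ker, map_sub, h1, sub_self]
  have key : ∀ x ∈ Ideal.map φ (RingHom.ker (ι.comp φ)),
      ∃ r ∈ RingHom.ker (ι.comp φ), φ r = x := by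
    intro x hx
    have hx' : x ∈ Submodule.span A (φ '' (RingHom.ker (ι.comp φ) : Set R)) := hx
    refine Submodule.span_induction
      (p := fun x _ => ∃ r ∈ RingHom.ker (ι.comp φ), φ r = x) ?_ ?_ ?_ ?_ hx'
    · rintro _ ⟨k, hk, rfl⟩
      exact ⟨k, hk, rfl⟩
    · exact ⟨0, Ideal.zero_mem _, map_zero _⟩
    · rintro x y _ _ ⟨r, hr, rfl⟩ ⟨s, hs, rfl⟩
      exact ⟨r + s, Ideal.add_mem _ hr hs, map_add _ _ _⟩
    · rintro a x _ ⟨r, hr, rfl⟩
      obtain ⟨s, hj⟩ := hsub a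
      have hφr : φ r ∈ RingHom.ker ι := by
        rw [RingHom.mem_ker]
        exact hr
      have hz : (a - φ s) * φ r = 0 := by
        have h2 : (a - φ s) * φ r ∈ RingHom.ker ι ^ 2 := by
          rw [pow_two]
          exact Ideal.mul_mem_mul hj hφr
        rw [hJ] at h2
        exact h2
      refine ⟨s * r, Ideal.mul_mem_left _ _ hr, ?_⟩
      rw [map_mul, smul_eq_mul]
      have h3 : a * φ r = φ s * φ r + (a - φ s) * φ r := by ring
      rw [h3, hz, add_zero]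
  intro a
  obtain ⟨s, hj⟩ := hsub a
  obtain ⟨r, -, hr⟩ := key _ (hle hj)
  exact ⟨s + r, by rw [map_add, hr]; ring⟩

theorem surjective_of_ker_pow {Z X : Scheme.{u}} (t : Z ⟶ X) [IsClosedImmersion t] {n : ℕ}
    (hn : n ≠ 0) (h : t.ker ^ n = ⊥) : Function.Surjective t := by
  have h1 : t.ker.support = ⊤ := by
    rw [← Scheme.IdealSheafData.support_pow _ n hn, h, Scheme.IdealSheafData.support_bot]
  have h2 : (t.ker.support : Set X) = Set.univ := by rw [h1]; rfl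
  rw [Scheme.Hom.support_ker, t.isClosedEmbedding.isClosed_range.closure_eq] at h2
  exact Set.range_eq_univ.mp h2

theorem isPullback_of_mono {D C X : Scheme.{u}} (i : D ⟶ C) (f : C ⟶ X) [Mono f] :
    IsPullback i (𝟙 D) f (i ≫ f) := by
  refine ⟨⟨by rw [Category.id_comp]⟩, ⟨PullbackCone.IsLimit.mk _ (fun s => s.snd) ?_ ?_ ?_⟩⟩
  · intro s
    rw [← cancel_mono f, Category.assoc, s.condition]
  · intro s
    exact Category.comp_id _
  · intro s m _ h2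
    rw [← h2, Category.comp_id]

theorem closedImmersion_of_cartesian {D C X : Scheme.{u}} (i : D ⟶ C) (f : C ⟶ X)
    [IsClosedImmersion i] (hsq : i.ker ^ 2 = ⊥) [IsClosedImmersion (i ≫ f)]
    (hpb : IsPullback i (𝟙 D) f (i ≫ f)) : IsClosedImmersion f := by
  have hs : Function.Surjective i := surjective_of_ker_pow i two_ne_zero hsq
  rw [isClosedImmersion_iff_isAffineHom]
  have haff : ∀ U : X.Opens, IsAffineOpen U → IsAffineOpen (f ⁻¹ᵁ U) := by
    intro U hU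
    have hZa : IsAffineOpen (i ⁻¹ᵁ (f ⁻¹ᵁ U)) := hU.preimage (i ≫ f)
    have : IsAffine (i ⁻¹ᵁ (f ⁻¹ᵁ U)).toScheme := hZa
    have : Surjective (i ∣_ (f ⁻¹ᵁ U)) := IsZariskiLocalAtTarget.restrict ⟨hs⟩ _
    exact Groth.Agent.Lib.ThickAffH6.isAffine_of_thickening (i ∣_ (f ⁻¹ᵁ U))
  refine ⟨⟨haff⟩, fun U hU => ?_⟩
  have hW : IsAffineOpen (f ⁻¹ᵁ U) := haff U hU
  have hV : IsAffineOpen (i ⁻¹ᵁ (f ⁻¹ᵁ U)) := hU.preimage (i ≫ f)
  have hκ : Function.Surjective ((i.app (f ⁻¹ᵁ U)).hom.comp (f.app U).hom) :=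
    (i ≫ f).app_surjective U hU
  refine alg_surj (f.app U).hom (i.app (f ⁻¹ᵁ U)).hom hκ
    (Groth.Agent.Lib.Thickening4_helper7.ker_app_pow_eq_bot i hsq (f ⁻¹ᵁ U)) ?_
  -- the key inclusion, from the cartesian square
  obtain ⟨KA, hKA⟩ : ∃ KA : Ideal Γ(C, f ⁻¹ᵁ U), KA = Ideal.map (f.app U).hom
      (RingHom.ker ((i.app (f ⁻¹ᵁ U)).hom.comp (f.app U).hom)) := ⟨_, rfl⟩
  rw [← hKA]
  have hker : RingHom.ker ((i.app (f ⁻¹ᵁ U)).hom.comp (f.app U).hom) ≤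
      RingHom.ker ((Ideal.Quotient.mk KA).comp (f.app U).hom) := by
    intro r hr
    rw [RingHom.mem_ker, RingHom.comp_apply, Ideal.Quotient.eq_zero_iff_mem, hKA]
    exact Ideal.mem_map_of_mem _ hr
  let β : Γ(D, i ⁻¹ᵁ (f ⁻¹ᵁ U)) →+* Γ(C, f ⁻¹ᵁ U) ⧸ KA :=
    RingHom.liftOfSurjective ((i.app (f ⁻¹ᵁ U)).hom.comp (f.app U).hom) hκ
      ⟨(Ideal.Quotient.mk KA).comp (f.app U).hom, hker⟩
  have hβ : β.comp ((i.app (f ⁻¹ᵁ U)).hom.comp (f.app U).hom) =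
      (Ideal.Quotient.mk KA).comp (f.app U).hom :=
    RingHom.liftOfSurjective_comp _ hκ _
  let qC : Γ(C, f ⁻¹ᵁ U) ⟶ CommRingCat.of (Γ(C, f ⁻¹ᵁ U) ⧸ KA) :=
    CommRingCat.ofHom (Ideal.Quotient.mk KA)
  let βC : Γ(D, i ⁻¹ᵁ (f ⁻¹ᵁ U)) ⟶ CommRingCat.of (Γ(C, f ⁻¹ᵁ U) ⧸ KA) := CommRingCat.ofHom β
  have hβC : (f.app U ≫ i.app (f ⁻¹ᵁ U)) ≫ βC = f.app U ≫ qC := CommRingCat.hom_ext hβ
  have e1 : hW.fromSpec ≫ f = Spec.map (f.app U) ≫ hU.fromSpec := by
    rw [← IsAffineOpen.SpecMap_appLE_fromSpec f hU hW le_rfl, Scheme.Hom.appLE_eq_app]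
  have e2 : hV.fromSpec ≫ (i ≫ f) = Spec.map (f.app U ≫ i.app (f ⁻¹ᵁ U)) ≫ hU.fromSpec := by
    have := IsAffineOpen.SpecMap_appLE_fromSpec (i ≫ f) hU hV le_rfl
    rw [← this]
    congr 2
    exact Scheme.Hom.appLE_eq_app (i ≫ f)
  have e3 : hV.fromSpec ≫ i = Spec.map (i.app (f ⁻¹ᵁ U)) ≫ hW.fromSpec := by
    rw [← IsAffineOpen.SpecMap_appLE_fromSpec i hW hV le_rfl, Scheme.Hom.appLE_eq_app]
  have hcomm : (Spec.map qC ≫ hW.fromSpec) ≫ f = (Spec.map βC ≫ hV.fromSpec) ≫ (i ≫ f) := by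
    rw [Category.assoc, Category.assoc, e1, e2, ← Spec.map_comp_assoc, ← Spec.map_comp_assoc,
      hβC]
  have h1 := hpb.lift_fst _ _ hcomm
  have h2 := hpb.lift_snd _ _ hcomm
  rw [Category.comp_id] at h2
  rw [h2, Category.assoc, e3, ← Spec.map_comp_assoc, cancel_mono] at h1
  have h3 : i.app (f ⁻¹ᵁ U) ≫ βC = qC := Spec.map_injective h1
  intro a ha
  have h4 : (Ideal.Quotient.mk KA) a = β ((i.app (f ⁻¹ᵁ U)).hom a) :=
    (congrArg (fun k => k.hom a) h3).symm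
  rw [RingHom.mem_ker] at ha
  rw [ha, map_zero, Ideal.Quotient.eq_zero_iff_mem] at h4
  exact h4

theorem main {D C X : Scheme.{u}} (i : D ⟶ C) (f : C ⟶ X) [IsClosedImmersion i]
    (hsq : i.ker ^ 2 = ⊥) :
    IsClosedImmersion f ↔ (IsClosedImmersion (i ≫ f) ∧ (i ≫ f).ker.comap f = i.ker) := by
  constructor
  · intro hf
    refine ⟨inferInstance, ?_⟩
    have hpb := isPullback_of_mono i f
    rw [← Scheme.IdealSheafData.ker_fst_of_isClosedImmersion (i ≫ f) f]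
    have e : hpb.isoPullback.hom ≫ pullback.fst f (i ≫ f) = i := hpb.isoPullback_hom_fst
    rw [← e, Scheme.Hom.ker_comp_of_isIso, e]
  · rintro ⟨h1, h2⟩
    have hpb : IsPullback i (𝟙 D) f (i ≫ f) :=
      isPullback_of_isClosedImmersion i (i ≫ f) (𝟙 D) f (Category.id_comp _).symm h2
    exact closedImmersion_of_cartesian i f hsq hpb

end Groth.Agent.Lib.RibbonCIH7
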