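import Mathlib
import Groth.Prelude
import Groth.Agent.Lib.LiftUniq_helper7
import Groth.Agent.Lib.UnivThickSch1_helper7
import Groth.Agent.Lib.FinCov3_helper8
import Groth.Agent.Lib.Tens5_helper8

/-!
# A square-zero ideal is locally principal of order two iff its conormal sheaf is invertible
(helper7, S18344)
APPEND-ONLY once landed.
-/

set_option autoImplicit false
set_option linter.style.haveILetI false

universe u

open CategoryTheory CategoryTheory.Limits AlgebraicGeometry Opposite TopologicalSpace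
open AlgebraicGeometry.Scheme.Modules

namespace Groth.Agent.Lib.RibbonConormH7

open Groth.Agent.Lib.ConormBCH7 Groth.Agent.Lib.LiftUniqH7 QcqsLoc

variable {C D : Scheme.{u}} (i : D ⟶ C) [IsClosedImmersion i]

theorem cUV_zero (F : C.Modules) {U : D.Opens} {V : C.Opens} (h : U ≤ i ⁻¹ᵁ V) :
    PBH8.cUV i F h (0 : Γ(F, V)) = 0 := by
  have h1 := PBH8.cUV_add i F h (0 : Γ(F, V)) 0
  rw [add_zero] at h1
  exact left_eq_add.mp h1

theorem mem_ker_iff {U : C.Opens} (hU : IsAffineOpen U) (a : Γ(C, U)) :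
    a ∈ i.ker.ideal ⟨U, hU⟩ ↔ (i.app U).hom a = 0 := by
  rw [Scheme.Hom.ker_apply]
  exact RingHom.mem_ker

/-- key computation: `cUV (a • t) = i♯ a • cUV t`. -/
theorem cUV_smul' (F : C.Modules) {U : C.Opens} (a : Γ(C, U)) (t : Γ(F, U)) :
    PBH8.cUV i F (le_refl (i ⁻¹ᵁ U)) (a • t) =
      (i.app U).hom a • PBH8.cUV i F (le_refl (i ⁻¹ᵁ U)) t := by
  have h1 := PBH8.cUV_smul i F (le_refl (i ⁻¹ᵁ U)) a t
  have h2 : i.appLE U (i ⁻¹ᵁ U) (le_refl _) = i.app U := i.appLE_eq_app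
  rw [h2] at h1
  exact h1

theorem invertible_of_principal (hK : i.ker ^ 2 = ⊥)
    (h : MultCurve.IsPrincipalOfOrder i.ker 2) : PicF.IsInvertible (Omega.conormal i) := by
  haveI : (ClSub.idealMod i.ker).IsQuasicoherent :=
    Groth.Agent.Lib.OmegaAffH4.isQuasicoherent_idealMod i.ker
  haveI : ((Scheme.Modules.pullback i).obj (ClSub.idealMod i.ker)).IsQuasicoherent :=
    PBH8.isQuasicoherent_pullback i (ClSub.idealMod i.ker)
  intro d
  obtain ⟨U, hxU, z, hz, hann⟩ := h (i d)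
  have hU : IsAffineOpen (U : C.Opens) := U.2
  have hW : IsAffineOpen (i ⁻¹ᵁ (U : C.Opens)) := hU.preimage i
  have hzmem : z ∈ i.ker.ideal U := by
    rw [hz]
    exact Ideal.mem_span_singleton_self z
  obtain ⟨zt, hzt⟩ := TensH8.exists_idealMod_section i.ker hU z hzmem
  have hzt' : OmegaSh.idealSect i.ker U zt = z := hzt
  let g : Γ((Scheme.Modules.pullback i).obj (ClSub.idealMod i.ker), i ⁻¹ᵁ (U : C.Opens)) :=
    PBH8.cUV i (ClSub.idealMod i.ker) (le_refl (i ⁻¹ᵁ (U : C.Opens))) zt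
  have hsp : Submodule.span Γ(D, i ⁻¹ᵁ (U : C.Opens)) (Set.range (fun _ : Fin 1 => g)) = ⊤ := by
    have h0 := PBH8.span_cUV i (ClSub.idealMod i.ker) hW hU (le_refl (i ⁻¹ᵁ (U : C.Opens)))
    rw [eq_top_iff, ← h0]
    refine Submodule.span_le.mpr ?_
    rintro _ ⟨t, rfl⟩
    have ht : OmegaSh.idealSect i.ker U t ∈ i.ker.ideal U := TensH8.idealModι_mem i.ker hU t
    rw [hz] at ht
    obtain ⟨a, ha⟩ := Ideal.mem_span_singleton'.mp ht
    have e1 : t = a • zt := by
      apply idealSect_injective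
      rw [idealSect_smul, hzt', ha]
    have e2 : PBH8.cUV i (ClSub.idealMod i.ker) (le_refl (i ⁻¹ᵁ (U : C.Opens))) t =
        (i.app U).hom a • g := by
      rw [e1]
      exact cUV_smul' i (ClSub.idealMod i.ker) a zt
    show PBH8.cUV i (ClSub.idealMod i.ker) (le_refl (i ⁻¹ᵁ (U : C.Opens))) t ∈ _
    rw [e2]
    exact Submodule.smul_mem _ _ (Submodule.subset_span ⟨0, rfl⟩)
  have hli : LinearIndependent Γ(D, i ⁻¹ᵁ (U : C.Opens)) (fun _ : Fin 1 => g) := by
    rw [Fintype.linearIndependent_iff]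
    intro c hc j
    have h1 : c 0 • g = 0 := by simpa using hc
    obtain ⟨a, ha⟩ := i.app_surjective U hU (c 0)
    have ha' : (i.app U).hom a = c 0 := ha
    have h2 : PBH8.cUV i (ClSub.idealMod i.ker) (le_refl (i ⁻¹ᵁ (U : C.Opens))) (a • zt) = 0 := by
      rw [cUV_smul', ha']
      exact h1
    have h3 := Groth.Agent.Lib.RegSecIsoH7.cUV_eq_zero i (ClSub.idealMod i.ker) hU (a • zt) h2
    have h4 := idealSect_eq_zero_of_mem i.ker hK hU _ h3
    rw [idealSect_smul, hzt'] at h4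
    have h21 : (2 - 1 : ℕ) = 1 := rfl
    have h5 : a ∈ i.ker.ideal U := hann a (by rw [h21, pow_one]; exact h4)
    have h6 : (i.app U).hom a = 0 := (mem_ker_iff i hU a).mp h5
    have hj : j = 0 := Subsingleton.elim _ _
    rw [hj, ← ha', h6]
  obtain ⟨α⟩ := FLFH8.iso_of_basis ((Scheme.Modules.pullback i).obj (ClSub.idealMod i.ker)) hW
    (fun _ : Fin 1 => g) hsp hli
  exact ⟨i ⁻¹ᵁ (U : C.Opens), hxU, ⟨α ≪≫ coproductUniqueIso
    (fun _ : Fin 1 => Coh.structureModule ((i ⁻¹ᵁ (U : C.Opens) : D.Opens) : Scheme.{u}))⟩⟩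

theorem principal_of_invertible (hsurj : ∀ x : C, ∃ d : D, i d = x) (hK : i.ker ^ 2 = ⊥)
    (hN : PicF.IsInvertible (Omega.conormal i)) : MultCurve.IsPrincipalOfOrder i.ker 2 := by
  haveI : (ClSub.idealMod i.ker).IsQuasicoherent :=
    Groth.Agent.Lib.OmegaAffH4.isQuasicoherent_idealMod i.ker
  have hfot : MoreMor.IsFirstOrderThickening i :=
    ⟨⟨inferInstance, ⟨hsurj⟩⟩, by rw [← pow_two]; exact hK⟩
  intro x
  obtain ⟨d, rfl⟩ := hsurj x
  obtain ⟨W, hW, hdW, e, he⟩ := FLFH8.exists_affine_generator hN d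
  obtain ⟨V', hV'⟩ := Groth.Agent.Lib.UnivThickSch1_helper7.exists_opens_preimage_eq i hfot W
  have hdV' : i d ∈ V' := by
    have : d ∈ i ⁻¹ᵁ V' := by rw [hV']; exact hdW
    exact this
  obtain ⟨U, hU, hxU, hUV'⟩ := (Opens.isBasis_iff_nbhd.mp C.isBasis_affineOpens) hdV'
  have hU' : IsAffineOpen U := hU
  have hle : i ⁻¹ᵁ U ≤ W := by
    rw [← hV']
    exact i.preimage_mono hUV'
  obtain ⟨hgen1, hgen2⟩ := he (i ⁻¹ᵁ U) hle
  set e' := rF (Omega.conormal i) hle e with he'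
  obtain ⟨zt, hzt⟩ := Groth.Agent.Lib.RegSecIsoH7.cUV_surjective i (ClSub.idealMod i.ker) hU' e'
  refine ⟨⟨U, hU'⟩, hxU, OmegaSh.idealSect i.ker U zt, ?_, ?_⟩
  · refine le_antisymm ?_ ?_
    · intro a' ha'
      obtain ⟨t, ht⟩ := TensH8.exists_idealMod_section i.ker hU' a' ha'
      have ht' : OmegaSh.idealSect i.ker U t = a' := ht
      obtain ⟨c, hc⟩ := hgen1 (PBH8.cUV i (ClSub.idealMod i.ker) (le_refl (i ⁻¹ᵁ U)) t)
      obtain ⟨a, ha⟩ := i.app_surjective U hU' c
      have ha2 : (i.app U).hom a = c := ha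
      have h1 : PBH8.cUV i (ClSub.idealMod i.ker) (le_refl (i ⁻¹ᵁ U)) (t + (-a) • zt) = 0 := by
        rw [PBH8.cUV_add, cUV_smul', hzt, map_neg, ha2, hc, neg_smul]
        exact add_neg_cancel _
      have h3 := Groth.Agent.Lib.RegSecIsoH7.cUV_eq_zero i (ClSub.idealMod i.ker) hU' _ h1
      have h4 := idealSect_eq_zero_of_mem i.ker hK hU' _ h3
      rw [map_add, idealSect_smul, ht'] at h4
      have h5 : a' = a * OmegaSh.idealSect i.ker U zt := by linear_combination h4
      rw [h5]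
      exact Ideal.mem_span_singleton'.mpr ⟨a, rfl⟩
    · refine (Ideal.span_singleton_le_iff_mem _).mpr ?_
      exact TensH8.idealModι_mem i.ker hU' zt
  · intro a ha
    have h21 : (2 - 1 : ℕ) = 1 := rfl
    rw [h21, pow_one] at ha
    have h0 : a • zt = 0 := by
      apply idealSect_injective
      rw [idealSect_smul, ha, map_zero]
    have h1 : (i.app U).hom a • e' = 0 := by
      have := cUV_smul' i (ClSub.idealMod i.ker) a zt
      rw [h0, cUV_zero, hzt] at this
      exact this.symm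
    have h2 := hgen2 _ h1
    exact (mem_ker_iff i hU' a).mpr h2

theorem main18344 (I : C.IdealSheafData) (hI : I ^ 2 = ⊥) :
    MultCurve.IsPrincipalOfOrder I 2 ↔ PicF.IsInvertible (Omega.conormal I.subschemeι) := by
  have hK : I.subschemeι.ker ^ 2 = ⊥ := by rw [I.ker_subschemeι]; exact hI
  have hsurj : ∀ x : C, ∃ d : I.subscheme, I.subschemeι d = x := surjective_of_sq I hI
  have key : MultCurve.IsPrincipalOfOrder I.subschemeι.ker 2 ↔
      PicF.IsInvertible (Omega.conormal I.subschemeι) :=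
    ⟨invertible_of_principal I.subschemeι hK, principal_of_invertible I.subschemeι hsurj hK⟩
  rw [I.ker_subschemeι] at key
  exact key

end Groth.Agent.Lib.RibbonConormH7
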