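import Mathlib
import Groth.Prelude
import Groth.Agent.Lib.AffLift_helper7
import Groth.Agent.Lib.NilAff2_helper8

/-!
# A square-zero thickening of a smooth affine scheme admits a retraction (helper7)
APPEND-ONLY once landed.
-/

set_option autoImplicit false
set_option linter.style.haveILetI false

universe u

open CategoryTheory CategoryTheory.Limits AlgebraicGeometry Opposite TopologicalSpace

namespace Groth.Agent.Lib.RibbonSplitH7

theorem isAffine_of_sq {C : Scheme.{u}} (I : C.IdealSheafData) (hI : I ^ 2 = ⊥)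
    [IsAffine I.subscheme] : IsAffine C := by
  have hnil : ∃ n : ℕ, ∀ V : C.affineOpens, I.subschemeι.ker.ideal V ^ n = ⊥ := by
    refine ⟨2, fun V => ?_⟩
    rw [I.ker_subschemeι]
    exact congrArg (fun K : C.IdealSheafData => K.ideal V) hI
  exact NilAffH8.isAffine_of_nilpotent I.subschemeι hnil

theorem isThick_of_sq {C : Scheme.{u}} [IsAffine C] (I : C.IdealSheafData) (hI : I ^ 2 = ⊥) :
    Groth.Agent.Lib.AffLiftH7.IsThick I.subschemeι := by
  have htop : IsAffineOpen (⊤ : C.Opens) := isAffineOpen_top C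
  refine ⟨I.subschemeι.app_surjective ⊤ htop, ?_⟩
  intro x y hx hy
  have hk := I.ker_subschemeι_app ⟨⊤, htop⟩
  have hx' : x ∈ I.ideal ⟨⊤, htop⟩ := by
    rw [← hk]
    exact hx
  have hy' : y ∈ I.ideal ⟨⊤, htop⟩ := by
    rw [← hk]
    exact hy
  have hsq : (I.ideal ⟨⊤, htop⟩) ^ 2 = ⊥ :=
    congrArg (fun K : C.IdealSheafData => K.ideal ⟨⊤, htop⟩) hI
  have h1 : x * y ∈ (I.ideal ⟨⊤, htop⟩) ^ 2 := by
    rw [pow_two]
    exact Ideal.mul_mem_mul hx' hy'
  rw [hsq] at h1
  exact h1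

theorem exists_retraction {C S : Scheme.{u}} [IsAffine S] (sC : C ⟶ S) (I : C.IdealSheafData)
    (hI : I ^ 2 = ⊥) [IsAffine I.subscheme] [Smooth (I.subschemeι ≫ sC)] :
    ∃ r : C ⟶ I.subscheme, I.subschemeι ≫ r = 𝟙 I.subscheme ∧ r ≫ I.subschemeι ≫ sC = sC := by
  haveI : IsAffine C := isAffine_of_sq I hI
  obtain ⟨c, hc1, hc2⟩ := Groth.Agent.Lib.AffLiftH7.hasLift_of_smooth (I.subschemeι ≫ sC)
    I.subscheme C inferInstance inferInstance I.subschemeι (isThick_of_sq I hI) (𝟙 _) sC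
    (Category.id_comp _)
  exact ⟨c, hc1, hc2⟩

end Groth.Agent.Lib.RibbonSplitH7
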