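import Mathlib
import Groth.Agent.Lib.CompleteFinite_helper3

/-!
# Rig-closed primes of an adic Noetherian ring (helper3)
-/

set_option autoImplicit false
set_option maxSynthPendingDepth 3

namespace Groth.Agent.Lib.RigClosedH3

universe u

section Chains

/-- a chain `p < q < m` of primes gives `2 ≤ dim A/p` -/
theorem two_le_ringKrullDim_quotient {A : Type*} [CommRing A] (p q m : Ideal A) [hp : p.IsPrime]
    [hq : q.IsPrime] [hm : m.IsPrime] (hpq : p < q) (hqm : q < m) :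
    (2 : WithBot ℕ∞) ≤ ringKrullDim (A ⧸ p) := by
  rw [ringKrullDim_quotient]
  let x0 : PrimeSpectrum.zeroLocus (p : Set A) := ⟨⟨p, hp⟩, by
    rw [PrimeSpectrum.mem_zeroLocus]⟩
  let x1 : PrimeSpectrum.zeroLocus (p : Set A) := ⟨⟨q, hq⟩, by
    rw [PrimeSpectrum.mem_zeroLocus]; exact hpq.le⟩
  let x2 : PrimeSpectrum.zeroLocus (p : Set A) := ⟨⟨m, hm⟩, by
    rw [PrimeSpectrum.mem_zeroLocus]; exact hpq.le.trans hqm.le⟩
  have h01 : x0 < x1 := hpq
  have h12 : x1 < x2 := hqm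
  have hmono : StrictMono ![x0, x1, x2] := by
    rw [Fin.strictMono_iff_lt_succ]
    intro i
    fin_cases i
    · exact h01
    · exact h12
  have := Order.le_krullDim_iff.2 ⟨LTSeries.mk 2 ![x0, x1, x2] hmono, rfl⟩
  exact_mod_cast this

/-- In a Noetherian domain, a prime between `⊥` (strictly) and a prime of height `≤ 1` equals
the latter. -/
theorem eq_of_height_le_one {D : Type*} [CommRing D] [IsDomain D] [IsNoetherianRing D]
    (P Q : Ideal D) [P.IsPrime] [Q.IsPrime] (hQ : Q.height ≤ 1) (hP : P ≠ ⊥) (hPQ : P ≤ Q) :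
    P = Q := by
  by_contra hne
  have hlt : P < Q := lt_of_le_of_ne hPQ hne
  have h1 := Ideal.height_add_one_le_of_lt_of_isPrime hlt
  have h2 : P.height + 1 ≤ 1 := h1.trans hQ
  have h3 : P.height = 0 := by
    have h4 : P.height + 1 ≤ 0 + 1 := by rw [zero_add]; exact h2
    have h5 : P.height ≤ 0 := (ENat.add_le_add_iff_right ENat.one_ne_top).1 h4
    exact le_antisymm h5 bot_le
  exact hP (Ideal.height_eq_zero_iff_eq_bot.1 h3)

/-- Noetherian domain in which every nonzero prime contains a fixed nonzero element: every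
nonzero prime is maximal. -/
theorem isMaximal_of_forall_mem {D : Type*} [CommRing D] [IsDomain D] [IsNoetherianRing D]
    (f : D) (hf : f ≠ 0) (hall : ∀ P : Ideal D, P.IsPrime → P ≠ ⊥ → f ∈ P)
    (P₁ : Ideal D) (hP₁ : P₁.IsPrime) (hP₁0 : P₁ ≠ ⊥) : P₁.IsMaximal := by
  classical
  by_contra hnm
  obtain ⟨P₂, hP₂max, hle⟩ := Ideal.exists_le_maximal P₁ hP₁.ne_top
  haveI := hP₂max.isPrime
  haveI := hP₁
  have hlt : P₁ < P₂ := lt_of_le_of_ne hle (fun h => hnm (h ▸ hP₂max))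
  have hfin := Ideal.finite_minimalPrimes_of_isNoetherianRing D (Ideal.span {f})
  set S := hfin.toFinset with hS
  have hSmem : ∀ Q, Q ∈ S ↔ Q ∈ (Ideal.span {f}).minimalPrimes := fun Q => hfin.mem_toFinset
  have hSprime : ∀ Q ∈ S, Q.IsPrime := fun Q hQ => ((hSmem Q).1 hQ).1.1
  have hSheight : ∀ Q ∈ S, Q.height ≤ 1 := fun Q hQ =>
    Ideal.height_le_one_of_isPrincipal_of_mem_minimalPrimes _ Q ((hSmem Q).1 hQ)
  have hnot : ¬ ((P₂ : Set D) ⊆ ⋃ Q ∈ (S : Set (Ideal D)), (id Q : Ideal D)) := by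
    rw [Ideal.subset_union_prime (f := id) ⊥ ⊥ (fun Q hQ _ _ => hSprime Q hQ)]
    rintro ⟨Q, hQ, hP₂Q⟩
    haveI := hSprime Q hQ
    have h1 : P₁ = Q := eq_of_height_le_one P₁ Q (hSheight Q hQ) hP₁0 (hle.trans hP₂Q)
    exact absurd (hlt.trans_le hP₂Q) (by rw [h1]; exact lt_irrefl _)
  rw [Set.not_subset] at hnot
  obtain ⟨x, hxP₂, hxS⟩ := hnot
  have hxS' : ∀ Q ∈ S, x ∉ Q := by
    intro Q hQ hxQ
    exact hxS (Set.mem_biUnion (Finset.mem_coe.2 hQ) hxQ)
  -- `S` is nonempty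
  obtain ⟨Q₀, hQ₀, -⟩ := Ideal.exists_minimalPrimes_le (I := Ideal.span {f}) (J := P₁)
    ((Ideal.span_singleton_le_iff_mem _).2 (hall P₁ hP₁ hP₁0))
  have hx0 : x ≠ 0 := by
    intro h
    exact hxS' Q₀ ((hSmem Q₀).2 hQ₀) (h ▸ Ideal.zero_mem _)
  obtain ⟨Q', hQ', hQ'le⟩ := Ideal.exists_minimalPrimes_le (I := Ideal.span {x}) (J := P₂)
    ((Ideal.span_singleton_le_iff_mem _).2 hxP₂)
  haveI := hQ'.1.1
  have hxQ' : x ∈ Q' := hQ'.1.2 (Ideal.mem_span_singleton_self x)
  have hQ'0 : Q' ≠ ⊥ := fun h => hx0 (by rw [h] at hxQ'; exact hxQ')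
  have hQ'h : Q'.height ≤ 1 :=
    Ideal.height_le_one_of_isPrincipal_of_mem_minimalPrimes _ Q' hQ'
  have hfQ' : f ∈ Q' := hall Q' inferInstance hQ'0
  obtain ⟨Q'', hQ'', hQ''le⟩ := Ideal.exists_minimalPrimes_le (I := Ideal.span {f}) (J := Q')
    ((Ideal.span_singleton_le_iff_mem _).2 hfQ')
  haveI := hQ''.1.1
  have hQ''0 : Q'' ≠ ⊥ := fun h => hf (by
    have := hQ''.1.2 (Ideal.mem_span_singleton_self f)
    rw [h] at this
    exact this)
  have heq : Q'' = Q' := eq_of_height_le_one Q'' Q' hQ'h hQ''0 hQ''le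
  exact hxS' Q' ((hSmem Q').2 (heq ▸ hQ'')) hxQ'

end Chains

section Idem

/-- In a domain complete for `N`, a maximal ideal `m` and an ideal `K` with `m ⊓ K = N` and
`m ⊔ K = ⊤` force `K = ⊤`. -/
theorem eq_top_of_inf_eq {D : Type*} [CommRing D] [IsDomain D] (N m K : Ideal D)
    [IsAdicComplete N D] (hm : m ≠ ⊤) (hinf : m ⊓ K = N) (hsup : m ⊔ K = ⊤) : K = ⊤ := by
  have h1 : (1 : D) ∈ m ⊔ K := hsup ▸ Submodule.mem_top
  obtain ⟨y, hy, x, hx, hyx⟩ := Submodule.mem_sup.1 h1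
  -- `y ∈ m`, `x ∈ K`, `y + x = 1`
  have hxx : x * x - x ∈ N := by
    rw [← hinf]
    have h2 : x * x - x = -(y * x) := by
      have : y = 1 - x := by rw [← hyx]; ring
      rw [this]; ring
    rw [h2]
    exact ⟨Ideal.neg_mem_iff _ |>.2 (Ideal.mul_mem_right _ _ hy),
      Ideal.neg_mem_iff _ |>.2 (Ideal.mul_mem_left _ _ hx)⟩
  let F : Polynomial D := Polynomial.X ^ 2 - Polynomial.X
  have hFmonic : F.Monic := by
    apply Polynomial.monic_X_pow_sub
    rw [Polynomial.degree_X]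
    norm_num
  have hFeval : Polynomial.eval x F ∈ N := by
    simp only [F, Polynomial.eval_sub, Polynomial.eval_pow, Polynomial.eval_X]
    rw [pow_two]
    exact hxx
  have hFder : IsUnit (Ideal.Quotient.mk N (Polynomial.eval x (Polynomial.derivative F))) := by
    have h3 : Polynomial.eval x (Polynomial.derivative F) = 2 * x - 1 := by
      simp only [F, Polynomial.derivative_sub, Polynomial.derivative_X_pow, Polynomial.derivative_X,
        Polynomial.eval_sub, Polynomial.eval_mul, Polynomial.eval_pow, Polynomial.eval_X,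
        Polynomial.eval_one, Polynomial.eval_C]
      norm_num
    rw [h3]
    refine IsUnit.of_mul_eq_one (Ideal.Quotient.mk N (2 * x - 1)) ?_
    rw [← map_mul, ← map_one (Ideal.Quotient.mk N), Ideal.Quotient.eq]
    have h4 : (2 * x - 1) * (2 * x - 1) - 1 = 4 * (x * x - x) := by ring
    rw [h4]
    exact Ideal.mul_mem_left _ _ hxx
  obtain ⟨e, he, hex⟩ := HenselianRing.is_henselian (I := N) F hFmonic x hFeval hFder
  have hee : e * (e - 1) = 0 := by
    have := he
    simp only [F, Polynomial.IsRoot.def, Polynomial.eval_sub, Polynomial.eval_pow,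
      Polynomial.eval_X] at this
    rw [← this]; ring
  have hexm : e - x ∈ m := (hinf ▸ hex : e - x ∈ m ⊓ K).1
  have hexK : e - x ∈ K := (hinf ▸ hex : e - x ∈ m ⊓ K).2
  rcases mul_eq_zero.1 hee with h0 | h1'
  · -- `e = 0`: then `x ∈ m`, so `1 ∈ m`
    exfalso
    apply hm
    rw [Ideal.eq_top_iff_one, ← hyx]
    refine Ideal.add_mem _ hy ?_
    have : x = -(e - x) := by rw [h0]; ring
    rw [this]
    exact (Ideal.neg_mem_iff _).2 hexm
  · -- `e = 1`: then `1 - x ∈ K`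
    rw [Ideal.eq_top_iff_one]
    have h5 : (1 : D) = (e - x) + x := by
      have : e = 1 := by rw [← sub_eq_zero]; exact h1'
      rw [this]; ring
    rw [h5]
    exact Ideal.add_mem _ hexK hx

end Idem

end Groth.Agent.Lib.RigClosedH3
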