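import Mathlib
import Groth.Prelude.Def_EGA4b
import Groth.Agent.Lib.RigClosed5_helper3
import Groth.Agent.Lib.CompleteFinite_helper3
import Groth.Agent.Lib.GRingComplete_helper3
import Groth.Agent.Lib.GRingPoly_helper3
import Groth.Agent.Lib.IAdicRegular_helper3
import Groth.Agent.Lib.ComplReg_helper3
import Groth.Agent.Lib.SmoothRegHom_helper3
import Groth.Agent.S9294

/-!
# Restricted power series over the quotient by a rig-closed prime (helper3)

The quotient `D` of an adic Noetherian ring by a rig-closed prime is a complete local domain, hence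
excellent; so `D → D[x] → D{x}` is a composition of regular homomorphisms.
APPEND-ONLY once landed.
-/

set_option autoImplicit false
set_option maxSynthPendingDepth 3

namespace Groth.Agent.Lib.RigClosedRegH3

universe u

open Groth.Agent.Lib.RigClosedH3 IsLocalRing

section Quot

variable {R : Type u} [CommRing R] [IsNoetherianRing R] (K : Ideal R) [IsAdicComplete K R]
  (q : PrimeSpectrum R)

/-- The quotient by a rig-closed prime is complete for its maximal ideal. -/
theorem isAdicComplete_maximalIdeal_quotient_of_rigClosed (hq : IsRigClosed K q) :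
    haveI := isLocalRing_quotient_of_rigClosed K q hq
    IsAdicComplete (maximalIdeal (R ⧸ q.asIdeal)) (R ⧸ q.asIdeal) := by
  haveI := isLocalRing_quotient_of_rigClosed K q hq
  haveI : q.asIdeal.IsPrime := q.isPrime
  haveI := isAdicComplete_quotient K q.asIdeal
  let mk : R →+* R ⧸ q.asIdeal := Ideal.Quotient.mk q.asIdeal
  have hmk : Function.Surjective mk := Ideal.Quotient.mk_surjective
  have hJ : K.map mk ≠ ⊥ := by
    intro e
    apply hq.1
    intro k hk
    have : mk k ∈ K.map mk := Ideal.mem_map_of_mem _ hk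
    rw [e, Ideal.mem_bot, Ideal.Quotient.eq_zero_iff_mem] at this
    exact this
  have h : ∀ P : Ideal (R ⧸ q.asIdeal), P.IsPrime → P ≠ ⊥ → K.map mk ≤ P := by
    intro P' hP' hP'0
    rw [Ideal.map_le_iff_le_comap]
    haveI : (P'.comap mk).IsPrime := Ideal.comap_isPrime mk P'
    apply le_of_lt_of_rigClosed hq
    refine lt_of_le_of_ne ?_ ?_
    · intro a ha
      rw [Ideal.mem_comap]
      have : mk a = 0 := Ideal.Quotient.eq_zero_iff_mem.2 ha
      rw [this]
      exact P'.zero_mem
    · intro e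
      apply hP'0
      rw [← Ideal.map_comap_of_surjective mk hmk P', ← e]
      exact Ideal.map_quotient_self _
  have hJle : K.map mk ≤ maximalIdeal (R ⧸ q.asIdeal) := by
    have h1 := IsAdicComplete.le_jacobson_bot (K.map mk)
    rwa [IsLocalRing.jacobson_eq_maximalIdeal ⊥ bot_ne_top] at h1
  have hrad : maximalIdeal (R ⧸ q.asIdeal) ≤ (K.map mk).radical := by
    rw [Ideal.radical_eq_sInf]
    refine le_sInf ?_
    rintro P ⟨hJP, hP⟩
    have hP0 : P ≠ ⊥ := fun e => hJ (le_bot_iff.1 (e ▸ hJP))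
    haveI := hP
    have hPmax : P.IsMaximal := isMaximal_of_forall_le (K.map mk) hJ h P hP0
    exact (IsLocalRing.eq_maximalIdeal hPmax).ge
  obtain ⟨N, hN⟩ := Ideal.exists_pow_le_of_le_radical_of_fg hrad
    (IsNoetherian.noetherian _)
  exact Groth.Agent.Lib.CompleteFiniteH3.isAdicComplete_of_pow_le (K.map mk)
    (maximalIdeal (R ⧸ q.asIdeal)) N hJle hN

end Quot

section Main

/-- S8825 -/
theorem main8825 (A : Type u) [CommRing A] [IsNoetherianRing A] (I : Ideal A) [IsAdicComplete I A]
    (p : PrimeSpectrum A)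
    (hp : ¬ I ≤ p.asIdeal ∧ ∀ q : PrimeSpectrum A, p ≤ q → ¬ I ≤ q.asIdeal → q = p) (n : ℕ) :
    CAlg.IsRegularHom (A ⧸ p.asIdeal)
      (AdicCompletion (I.map (algebraMap A (MvPolynomial (Fin n) (A ⧸ p.asIdeal))))
        (MvPolynomial (Fin n) (A ⧸ p.asIdeal))) := by
  have hq : IsRigClosed I p := hp
  haveI := isLocalRing_quotient_of_rigClosed I p hq
  haveI := isAdicComplete_maximalIdeal_quotient_of_rigClosed I p hq
  have hG : CAlg.IsGRing (A ⧸ p.asIdeal) :=
    Groth.Agent.Lib.GRingCompleteH3.isGRing_of_complete _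
  have hGP : CAlg.IsGRing (MvPolynomial (Fin n) (A ⧸ p.asIdeal)) :=
    Groth.Agent.Lib.GRingPolyH3.isGRing_mvPolynomial _ hG n
  haveI := hGP.1
  haveI : Algebra.Smooth (A ⧸ p.asIdeal) (MvPolynomial (Fin n) (A ⧸ p.asIdeal)) := {}
  have h1 : CAlg.IsRegularHom (A ⧸ p.asIdeal) (MvPolynomial (Fin n) (A ⧸ p.asIdeal)) :=
    Groth.Agent.Lib.SmoothRegHomH3.isRegularHom_of_smooth _ _
  have h2 := Groth.Agent.Lib.IAdicRegularH3.isRegularHom_adicCompletion
    (MvPolynomial (Fin n) (A ⧸ p.asIdeal))
    (I.map (algebraMap A (MvPolynomial (Fin n) (A ⧸ p.asIdeal)))) hGP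
  haveI : IsNoetherianRing (AdicCompletion
      (I.map (algebraMap A (MvPolynomial (Fin n) (A ⧸ p.asIdeal))))
      (MvPolynomial (Fin n) (A ⧸ p.asIdeal))) :=
    Groth.Agent.Lib.ComplRegH3.isNoetherianRing_adicCompletion _ _
  exact Groth.Agent.S9294.result _ _ _ h1 h2
    (fun p' _ => Groth.Agent.Lib.RegFlatH3.isNoetherianRing_fiber _ _ p')

end Main

end Groth.Agent.Lib.RigClosedRegH3
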