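import Mathlib

set_option autoImplicit false
set_option maxHeartbeats 1000000
universe u

open MvPolynomial

namespace Groth.Agent.Lib.RigIdemH5


section Lift

variable {Q : Type*} [CommRing Q]

/-- lifting "rig-idempotent data" along a square-zero ideal, when one of the `u_l` is a unit -/
theorem lift_data (N : Ideal Q) (hN : N ^ 2 = ⊥) {s r : ℕ} (u : Fin r → Q) (k₀ : Fin r)
    (hu : IsUnit (u k₀))
    (fb : Fin s → Q ⧸ N) (kb : Fin r → Q ⧸ N) (gb : Fin r → Fin s → Q ⧸ N)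
    (h1 : ∀ l i, kb l * fb i = 0)
    (h2 : ∀ l, Ideal.Quotient.mk N (u l) - kb l = ∑ i, gb l i * fb i) :
    ∃ (f : Fin s → Q) (k : Fin r → Q) (g : Fin r → Fin s → Q),
      (∀ l i, k l * f i = 0) ∧ (∀ l, u l - k l = ∑ i, g l i * f i) ∧
      (∀ i, Ideal.Quotient.mk N (f i) = fb i) ∧ (∀ l, Ideal.Quotient.mk N (k l) = kb l) ∧
      (∀ l i, Ideal.Quotient.mk N (g l i) = gb l i) := by
  classical
  have hsq : ∀ x ∈ N, ∀ y ∈ N, x * y = 0 := by
    intro x hx y hy
    have : x * y ∈ N ^ 2 := by rw [pow_two]; exact Ideal.mul_mem_mul hx hy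
    rwa [hN, Ideal.mem_bot] at this
  obtain ⟨w, hw⟩ := hu.exists_right_inv
  obtain ⟨π, hπ⟩ : ∃ π : Q →+* Q ⧸ N, π = Ideal.Quotient.mk N := ⟨_, rfl⟩
  rw [← hπ] at h2 ⊢
  have hπw : π (u k₀) * π w = 1 := by rw [← map_mul, hw, map_one]
  -- the idempotent downstairs
  obtain ⟨εb, hεb⟩ : ∃ εb : Q ⧸ N, εb = kb k₀ * π w := ⟨_, rfl⟩
  have ha : ∀ i, fb i * εb = 0 := by
    intro i
    rw [hεb, ← mul_assoc, mul_comm (fb i), h1, zero_mul]
  have hb : 1 - εb = ∑ i, (π w * gb k₀ i) * fb i := by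
    have h3 := h2 k₀
    have h4 : ∑ i, (π w * gb k₀ i) * fb i = π w * ∑ i, gb k₀ i * fb i := by
      rw [Finset.mul_sum]
      refine Finset.sum_congr rfl fun i _ => ?_
      ring
    rw [h4, ← h3, hεb]
    linear_combination (-1 : Q ⧸ N) * hπw
  have hc : εb * εb = εb := by
    have h3 : εb * (1 - εb) = 0 := by
      rw [hb, Finset.mul_sum]
      refine Finset.sum_eq_zero fun i _ => ?_
      have := ha i
      linear_combination (π w * gb k₀ i) * this
    linear_combination -h3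
  have hd : ∀ l, kb l * (1 - εb) = 0 := by
    intro l
    rw [hb, Finset.mul_sum]
    refine Finset.sum_eq_zero fun i _ => ?_
    have := h1 l i
    linear_combination (π w * gb k₀ i) * this
  have he : ∀ l, kb l = π (u l) * εb := by
    intro l
    have h3 : (π (u l) - kb l) * εb = 0 := by
      rw [h2 l, Finset.sum_mul]
      refine Finset.sum_eq_zero fun i _ => ?_
      have := ha i
      linear_combination (gb l i) * this
    have := hd l
    linear_combination this - h3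
  -- lift the idempotent
  have hnil : ∀ x ∈ RingHom.ker π, IsNilpotent x := by
    intro x hx
    rw [hπ, Ideal.mk_ker] at hx
    exact ⟨2, by rw [pow_two]; exact hsq x hx x hx⟩
  obtain ⟨ε, hε, hπε⟩ := exists_isIdempotentElem_eq_of_ker_isNilpotent π hnil εb
    (by rw [hπ]; exact (Ideal.Quotient.mk_surjective (I := N) εb).elim fun x hx => ⟨x, hx⟩) hc
  have hεε : ε * ε = ε := hε
  have hmemN : ∀ x : Q, π x = 0 → x ∈ N := by
    intro x hx
    rw [hπ] at hx
    exact Ideal.Quotient.eq_zero_iff_mem.1 hx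
  -- lifts
  choose f' hf' using fun i => Ideal.Quotient.mk_surjective (I := N) (fb i)
  choose g' hg' using fun (p : Fin r × Fin s) => Ideal.Quotient.mk_surjective (I := N) (gb p.1 p.2)
  rw [← hπ] at hf' hg'
  obtain ⟨f, hf⟩ : ∃ f : Fin s → Q, f = fun i => f' i * (1 - ε) := ⟨_, rfl⟩
  have hfε : ∀ i, f i * ε = 0 := by
    intro i
    rw [hf]
    linear_combination (-(f' i)) * hεε
  have hπf : ∀ i, π (f i) = fb i := by
    intro i
    rw [hf, map_mul, map_sub, map_one, hπε, hf']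
    have := ha i
    linear_combination -this
  obtain ⟨ν, hν⟩ : ∃ ν : Fin r → Q, ν = fun l => ∑ i, g' (l, i) * f i - u l * (1 - ε) := ⟨_, rfl⟩
  have hνN : ∀ l, ν l ∈ N := by
    intro l
    apply hmemN
    rw [hν]
    simp only [map_sub, map_sum, map_mul, map_one, hg', hπf, hπε]
    rw [← h2 l, he l]
    ring
  have hνε : ∀ l, ν l * ε = 0 := by
    intro l
    rw [hν]
    simp only [sub_mul, Finset.sum_mul]
    have h3 : ∑ i, g' (l, i) * f i * ε = 0 := by
      refine Finset.sum_eq_zero fun i _ => ?_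
      rw [mul_assoc, hfε, mul_zero]
    rw [h3]
    linear_combination (u l) * hεε
  obtain ⟨θ, hθ⟩ : ∃ θ : Q, θ = 1 - w * ν k₀ := ⟨_, rfl⟩
  have hνν : ν k₀ * ν k₀ = 0 := hsq _ (hνN k₀) _ (hνN k₀)
  obtain ⟨c, hc'⟩ : ∃ c : Fin s → Q, c = fun i => θ * w * g' (k₀, i) := ⟨_, rfl⟩
  have hcsum : ∑ i, c i * f i = 1 - ε := by
    have h3 : ∑ i, c i * f i = θ * w * ∑ i, g' (k₀, i) * f i := by
      rw [hc', Finset.mul_sum]
      refine Finset.sum_congr rfl fun i _ => ?_
      ring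
    have h4 : ∑ i, g' (k₀, i) * f i = ν k₀ + u k₀ * (1 - ε) := by
      rw [hν]; ring
    rw [h3, h4, hθ]
    have h5 := hνε k₀
    linear_combination ((1 - ε) * (1 - w * ν k₀)) * hw - (w * w) * hνν + w * h5
  refine ⟨f, fun l => u l * ε, fun l i => g' (l, i) - ν l * c i, ?_, ?_, hπf, ?_, ?_⟩
  · intro l i
    rw [mul_assoc, mul_comm ε, hfε, mul_zero]
  · intro l
    have h3 : ∑ i, (g' (l, i) - ν l * c i) * f i =
        ∑ i, g' (l, i) * f i - ν l * ∑ i, c i * f i := by
      rw [Finset.mul_sum, ← Finset.sum_sub_distrib]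
      refine Finset.sum_congr rfl fun i _ => ?_
      ring
    rw [h3, hcsum]
    have h4 : ∑ i, g' (l, i) * f i = ν l + u l * (1 - ε) := by
      rw [hν]; ring
    rw [h4]
    have := hνε l
    linear_combination -this
  · intro l
    rw [map_mul, hπε, he l]
  · intro l i
    rw [map_sub, map_mul, hg']
    have : π (ν l) = 0 := by
      rw [hπ]; exact Ideal.Quotient.eq_zero_iff_mem.2 (hνN l)
    rw [this, zero_mul, sub_zero]

end Lift



section Def

variable (A : Type u) [CommRing A] (s r : ℕ) (a : Fin r → A)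

/-- the variables `F_i`, `K_l`, `G_{l,i}` -/
abbrev Var (s r : ℕ) : Type := Fin s ⊕ (Fin r ⊕ (Fin r × Fin s))

/-- the relations `K_l F_i = 0` and `a_l - K_l = ∑ G_{l,i} F_i` -/
noncomputable def rel : (Fin r × Fin s) ⊕ Fin r → MvPolynomial (Var s r) A
  | Sum.inl (l, i) => X (Sum.inr (Sum.inl l)) * X (Sum.inl i)
  | Sum.inr l => C (a l) - X (Sum.inr (Sum.inl l)) -
      ∑ i, X (Sum.inr (Sum.inr (l, i))) * X (Sum.inl i)

noncomputable def relIdeal : Ideal (MvPolynomial (Var s r) A) :=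
  Ideal.span (Set.range (rel A s r a))

/-- the algebra of "rig-idempotent data" -/
abbrev PA : Type u := MvPolynomial (Var s r) A ⧸ relIdeal A s r a

variable {A s r a}

/-- the point of `Q^Var` given by `f, k, g` -/
def pt {Q : Type*} (f : Fin s → Q) (k : Fin r → Q) (g : Fin r → Fin s → Q) : Var s r → Q
  | Sum.inl i => f i
  | Sum.inr (Sum.inl l) => k l
  | Sum.inr (Sum.inr (l, i)) => g l i

theorem aeval_rel_inl {Q : Type*} [CommRing Q] [Algebra A Q] (f : Fin s → Q) (k : Fin r → Q)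
    (g : Fin r → Fin s → Q) (l : Fin r) (i : Fin s) :
    aeval (pt f k g) (rel A s r a (Sum.inl (l, i))) = k l * f i := by
  show aeval (pt f k g) (X (Sum.inr (Sum.inl l)) * X (Sum.inl i)) = _
  rw [map_mul, aeval_X, aeval_X]
  rfl

theorem aeval_rel_inr {Q : Type*} [CommRing Q] [Algebra A Q] (f : Fin s → Q) (k : Fin r → Q)
    (g : Fin r → Fin s → Q) (l : Fin r) :
    aeval (pt f k g) (rel A s r a (Sum.inr l)) =
      algebraMap A Q (a l) - k l - ∑ i, g l i * f i := by
  show aeval (pt f k g) (C (a l) - X (Sum.inr (Sum.inl l)) -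
      ∑ i, X (Sum.inr (Sum.inr (l, i))) * X (Sum.inl i)) = _
  rw [map_sub, map_sub, map_sum, aeval_C, aeval_X]
  simp only [map_mul, aeval_X]
  rfl

/-- the universal property -/
noncomputable def liftP {Q : Type*} [CommRing Q] [Algebra A Q] (f : Fin s → Q) (k : Fin r → Q)
    (g : Fin r → Fin s → Q) (h1 : ∀ l i, k l * f i = 0)
    (h2 : ∀ l, algebraMap A Q (a l) - k l = ∑ i, g l i * f i) : PA A s r a →ₐ[A] Q :=
  Ideal.Quotient.liftₐ (relIdeal A s r a) (aeval (pt f k g)) (by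
    have hle : relIdeal A s r a ≤
        RingHom.ker (aeval (pt f k g) : MvPolynomial (Var s r) A →ₐ[A] Q).toRingHom := by
      unfold relIdeal
      rw [Ideal.span_le]
      rintro _ ⟨(⟨l, i⟩ | l), rfl⟩
      · rw [SetLike.mem_coe, RingHom.mem_ker]
        show aeval (pt f k g) (rel A s r a (Sum.inl (l, i))) = 0
        rw [aeval_rel_inl]; exact h1 l i
      · rw [SetLike.mem_coe, RingHom.mem_ker]
        show aeval (pt f k g) (rel A s r a (Sum.inr l)) = 0
        rw [aeval_rel_inr, h2 l, sub_self]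
    exact fun x hx => hle hx)

/-- the coordinates of a point -/
noncomputable def fOf {Q : Type*} [CommRing Q] [Algebra A Q] (τ : PA A s r a →ₐ[A] Q)
    (i : Fin s) : Q := τ (Ideal.Quotient.mk _ (X (Sum.inl i)))

noncomputable def kOf {Q : Type*} [CommRing Q] [Algebra A Q] (τ : PA A s r a →ₐ[A] Q)
    (l : Fin r) : Q := τ (Ideal.Quotient.mk _ (X (Sum.inr (Sum.inl l))))

noncomputable def gOf {Q : Type*} [CommRing Q] [Algebra A Q] (τ : PA A s r a →ₐ[A] Q)
    (l : Fin r) (i : Fin s) : Q := τ (Ideal.Quotient.mk _ (X (Sum.inr (Sum.inr (l, i)))))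

theorem liftP_f {Q : Type*} [CommRing Q] [Algebra A Q] (f : Fin s → Q) (k : Fin r → Q)
    (g : Fin r → Fin s → Q) (h1 : ∀ l i, k l * f i = 0)
    (h2 : ∀ l, algebraMap A Q (a l) - k l = ∑ i, g l i * f i) (i : Fin s) :
    fOf (liftP f k g h1 h2) i = f i := by
  unfold fOf liftP
  rw [Ideal.Quotient.liftₐ_apply, Ideal.Quotient.lift_mk]
  show aeval (pt f k g) (X (Sum.inl i)) = f i
  rw [aeval_X]
  rfl

theorem liftP_k {Q : Type*} [CommRing Q] [Algebra A Q] (f : Fin s → Q) (k : Fin r → Q)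
    (g : Fin r → Fin s → Q) (h1 : ∀ l i, k l * f i = 0)
    (h2 : ∀ l, algebraMap A Q (a l) - k l = ∑ i, g l i * f i) (l : Fin r) :
    kOf (liftP f k g h1 h2) l = k l := by
  unfold kOf liftP
  rw [Ideal.Quotient.liftₐ_apply, Ideal.Quotient.lift_mk]
  show aeval (pt f k g) (X (Sum.inr (Sum.inl l))) = k l
  rw [aeval_X]
  rfl

theorem liftP_g {Q : Type*} [CommRing Q] [Algebra A Q] (f : Fin s → Q) (k : Fin r → Q)
    (g : Fin r → Fin s → Q) (h1 : ∀ l i, k l * f i = 0)
    (h2 : ∀ l, algebraMap A Q (a l) - k l = ∑ i, g l i * f i) (l : Fin r) (i : Fin s) :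
    gOf (liftP f k g h1 h2) l i = g l i := by
  unfold gOf liftP
  rw [Ideal.Quotient.liftₐ_apply, Ideal.Quotient.lift_mk]
  show aeval (pt f k g) (X (Sum.inr (Sum.inr (l, i)))) = g l i
  rw [aeval_X]
  rfl

theorem mk_algebraMap (x : A) :
    Ideal.Quotient.mk (relIdeal A s r a) (C x) = algebraMap A (PA A s r a) x := rfl

theorem kOf_mul_fOf {Q : Type*} [CommRing Q] [Algebra A Q] (τ : PA A s r a →ₐ[A] Q)
    (l : Fin r) (i : Fin s) : kOf τ l * fOf τ i = 0 := by
  have h1 : Ideal.Quotient.mk (relIdeal A s r a) (rel A s r a (Sum.inl (l, i))) = 0 :=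
    Ideal.Quotient.eq_zero_iff_mem.2 (Ideal.subset_span ⟨_, rfl⟩)
  have h2 := congrArg τ h1
  rw [map_zero] at h2
  rw [← h2]
  show _ = τ (Ideal.Quotient.mk _ (X (Sum.inr (Sum.inl l)) * X (Sum.inl i)))
  rw [map_mul, map_mul]
  rfl

theorem sub_kOf {Q : Type*} [CommRing Q] [Algebra A Q] (τ : PA A s r a →ₐ[A] Q) (l : Fin r) :
    algebraMap A Q (a l) - kOf τ l = ∑ i, gOf τ l i * fOf τ i := by
  have h1 : Ideal.Quotient.mk (relIdeal A s r a) (rel A s r a (Sum.inr l)) = 0 :=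
    Ideal.Quotient.eq_zero_iff_mem.2 (Ideal.subset_span ⟨_, rfl⟩)
  have h2 := congrArg τ h1
  rw [map_zero] at h2
  have h3 : τ (Ideal.Quotient.mk (relIdeal A s r a) (rel A s r a (Sum.inr l))) =
      algebraMap A Q (a l) - kOf τ l - ∑ i, gOf τ l i * fOf τ i := by
    show τ (Ideal.Quotient.mk _ (C (a l) - X (Sum.inr (Sum.inl l)) -
      ∑ i, X (Sum.inr (Sum.inr (l, i))) * X (Sum.inl i))) = _
    rw [map_sub, map_sub, map_sum, map_sub, map_sub, map_sum, mk_algebraMap, AlgHom.commutes]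
    simp only [map_mul]
    rfl
  rw [h3] at h2
  exact sub_eq_zero.1 h2

theorem algHom_ext_P {Q : Type*} [CommRing Q] [Algebra A Q] (τ₁ τ₂ : PA A s r a →ₐ[A] Q)
    (hf : ∀ i, fOf τ₁ i = fOf τ₂ i) (hk : ∀ l, kOf τ₁ l = kOf τ₂ l)
    (hg : ∀ l i, gOf τ₁ l i = gOf τ₂ l i) : τ₁ = τ₂ := by
  apply Ideal.Quotient.algHom_ext
  apply MvPolynomial.algHom_ext
  rintro (i | l | ⟨l, i⟩)
  · exact hf i
  · exact hk l
  · exact hg l i

instance : Algebra.FinitePresentation A (PA A s r a) := by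
  classical
  apply Algebra.FinitePresentation.quotient
  unfold relIdeal
  exact ⟨(Finset.univ : Finset ((Fin r × Fin s) ⊕ Fin r)).image (rel A s r a), by
    rw [Finset.coe_image, Finset.coe_univ, Set.image_univ]⟩

end Def

section Smooth

variable {A : Type u} [CommRing A] {s r : ℕ} {a : Fin r → A}

theorem isUnit_of_isUnit_mk {Q : Type*} [CommRing Q] (J : Ideal Q) (hJ : J ^ 2 = ⊥) (x : Q)
    (hx : IsUnit (Ideal.Quotient.mk J x)) : IsUnit x := by
  obtain ⟨v', hv'⟩ := hx.exists_right_inv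
  obtain ⟨v, rfl⟩ := Ideal.Quotient.mk_surjective v'
  rw [← map_mul, ← map_one (Ideal.Quotient.mk J), Ideal.Quotient.eq] at hv'
  have h0 : (x * v - 1) * (x * v - 1) = 0 := by
    have : (x * v - 1) * (x * v - 1) ∈ J ^ 2 := by
      rw [pow_two]; exact Ideal.mul_mem_mul hv' hv'
    rw [hJ] at this
    exact this
  exact IsUnit.of_mul_eq_one (v * (2 - x * v)) (by linear_combination -h0)

/-- `PA` is formally smooth over `A` after inverting one of the `a_l` -/
theorem formallySmooth_away (k₀ : Fin r)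
    (Ps : Type u) [CommRing Ps] [Algebra (PA A s r a) Ps] [Algebra A Ps]
    [IsScalarTower A (PA A s r a) Ps]
    [IsLocalization.Away (algebraMap A (PA A s r a) (a k₀)) Ps] :
    Algebra.FormallySmooth A Ps := by
  refine Algebra.FormallySmooth.of_comp_surjective fun Q _ _ J hJ φb => ?_
  have hu : IsUnit (algebraMap A Q (a k₀)) := by
    apply isUnit_of_isUnit_mk J hJ
    have h1 : IsUnit (algebraMap (PA A s r a) Ps (algebraMap A (PA A s r a) (a k₀))) :=
      IsLocalization.Away.algebraMap_isUnit _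
    have h2 := h1.map φb
    rw [← IsScalarTower.algebraMap_apply A (PA A s r a) Ps, AlgHom.commutes] at h2
    exact h2
  obtain ⟨τb, hτb⟩ : ∃ τb : PA A s r a →ₐ[A] Q ⧸ J,
      τb = φb.comp (Algebra.algHom A (PA A s r a) Ps) := ⟨_, rfl⟩
  obtain ⟨f, k, g, h1, h2, hf, hk, hg⟩ := lift_data J hJ (fun l => algebraMap A Q (a l)) k₀ hu
    (fOf τb) (kOf τb) (gOf τb) (kOf_mul_fOf τb) (fun l => sub_kOf τb l)
  obtain ⟨τ, hτ⟩ : ∃ τ : PA A s r a →ₐ[A] Q, τ = liftP f k g h1 h2 := ⟨_, rfl⟩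
  have hτunit : ∀ z : Submonoid.powers (algebraMap A (PA A s r a) (a k₀)), IsUnit (τ z) := by
    rintro ⟨_, m, rfl⟩
    show IsUnit (τ ((algebraMap A (PA A s r a) (a k₀)) ^ m))
    rw [map_pow, AlgHom.commutes]
    exact hu.pow m
  refine ⟨IsLocalization.liftAlgHom hτunit, ?_⟩
  apply IsLocalization.algHom_ext (Submonoid.powers (algebraMap A (PA A s r a) (a k₀)))
  have key : ((Ideal.Quotient.mkₐ A J).comp (IsLocalization.liftAlgHom hτunit)).comp
      (Algebra.algHom A (PA A s r a) Ps) = (Ideal.Quotient.mkₐ A J).comp τ := by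
    refine AlgHom.ext fun x => ?_
    show Ideal.Quotient.mk J (IsLocalization.lift hτunit (algebraMap (PA A s r a) Ps x)) =
      Ideal.Quotient.mk J (τ x)
    rw [IsLocalization.lift_eq]
    rfl
  rw [key, ← hτb]
  apply algHom_ext_P
  · intro i
    show Ideal.Quotient.mk J (fOf τ i) = fOf τb i
    rw [hτ, liftP_f, hf]
  · intro l
    show Ideal.Quotient.mk J (kOf τ l) = kOf τb l
    rw [hτ, liftP_k, hk]
  · intro l i
    show Ideal.Quotient.mk J (gOf τ l i) = gOf τb l i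
    rw [hτ, liftP_g, hg]

end Smooth

end Groth.Agent.Lib.RigIdemH5
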