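import Mathlib

set_option autoImplicit false
set_option maxHeartbeats 1000000
universe u

namespace Groth.Agent.Lib.RigIdem2H5

section CH

variable {R : Type*} [CommRing R]

/-- Cayley–Hamilton: if `a J ⊆ J²` with `J` f.g., some `a^n - j` (`j ∈ J`) kills `J`. -/
theorem exists_pow_sub_kill (J : Ideal R) (hJ : J.FG) (a : R) (ha : ∀ x ∈ J, a * x ∈ J ^ 2) :
    ∃ (n : ℕ) (j : R), j ∈ J ∧ ∀ x ∈ J, (a ^ n - j) * x = 0 := by
  classical
  haveI : Module.Finite R J := Module.Finite.iff_fg.2 hJ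
  obtain ⟨f, hf⟩ : ∃ f : Module.End R J, f = algebraMap R (Module.End R J) a := ⟨_, rfl⟩
  have hrange : LinearMap.range f ≤ J • (⊤ : Submodule R J) := by
    rintro _ ⟨x, rfl⟩
    rw [Submodule.mem_smul_top_iff, hf]
    show ((a • x : J) : R) ∈ J • J
    rw [Submodule.coe_smul, smul_eq_mul, smul_eq_mul, ← pow_two]
    exact ha x x.2
  obtain ⟨p, hmonic, -, hcoeff, hp⟩ :=
    LinearMap.exists_monic_and_natDegree_eq_and_coeff_mem_pow_and_aeval_eq_zero R f J hrange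
  rw [hf, Polynomial.aeval_algebraMap_apply] at hp
  refine ⟨p.natDegree, a ^ p.natDegree - Polynomial.eval a p, ?_, ?_⟩
  · rw [Polynomial.eval_eq_sum_range, Finset.sum_range_succ, hmonic.coeff_natDegree, one_mul]
    have : a ^ p.natDegree - (∑ i ∈ Finset.range p.natDegree, p.coeff i * a ^ i + a ^ p.natDegree) =
        - ∑ i ∈ Finset.range p.natDegree, p.coeff i * a ^ i := by ring
    rw [this]
    apply J.neg_mem
    apply J.sum_mem
    intro i hi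
    rw [Finset.mem_range] at hi
    apply J.mul_mem_right
    exact Ideal.pow_le_self (by omega) (hcoeff i)
  · intro x hx
    have h1 := LinearMap.congr_fun hp ⟨x, hx⟩
    have h2 := congrArg (Subtype.val) h1
    rw [sub_sub_cancel]
    simpa [Module.algebraMap_end_apply] using h2

end CH

section Close

variable {R : Type*} [CommRing R] [IsNoetherianRing R]

/-- if `(f', k')` is rig-idempotent data close enough to `(f, k)`, the ideals `(f')` and `(f)`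
coincide -/
theorem span_eq_of_close (𝔦 : Ideal R) (hrad : 𝔦 ≤ (⊥ : Ideal R).jacobson) {s r : ℕ}
    (al : Fin r → R) (h : ℕ) (hh : 𝔦 ^ h ≤ Ideal.span (Set.range al)) (f : Fin s → R)
    (k : Fin r → R) (hk : ∀ l, al l - k l ∈ Ideal.span (Set.range f)) :
    ∃ M₀ : ℕ, ∀ (f' : Fin s → R) (k' : Fin r → R), (∀ l i, k' l * f' i = 0) →
      (∀ i, f' i - f i ∈ 𝔦 ^ M₀) → (∀ l, k' l - k l ∈ 𝔦 ^ M₀) →
      Ideal.span (Set.range f') = Ideal.span (Set.range f) := by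
  classical
  obtain ⟨J, hJ⟩ : ∃ J : Ideal R, J = Ideal.span (Set.range f) := ⟨_, rfl⟩
  rw [← hJ] at hk ⊢
  -- the colon ideal
  obtain ⟨T, hT⟩ : ∃ T : Ideal R, T = Submodule.colon (J : Submodule R R) ((𝔦 ^ h : Ideal R) : Set R) :=
    ⟨_, rfl⟩
  have hTmul : 𝔦 ^ h * T ≤ J := by
    rw [Ideal.mul_le]
    intro y hy x hx
    rw [hT, Submodule.mem_colon] at hx
    have := hx y hy
    rw [smul_eq_mul] at this
    rw [mul_comm]; exact this
  have hJT : J ≤ T := by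
    intro x hx
    rw [hT, Submodule.mem_colon]
    intro p _
    exact J.mul_mem_right _ hx
  obtain ⟨c₁, hc₁⟩ := Ideal.exists_pow_inf_eq_pow_smul 𝔦 (T : Submodule R R)
  obtain ⟨c₂, hc₂⟩ := Ideal.exists_pow_inf_eq_pow_smul 𝔦 (J : Submodule R R)
  refine ⟨c₁ + c₂ + h + 1, fun f' k' hkf hf' hk' => ?_⟩
  obtain ⟨J', hJ'⟩ : ∃ J' : Ideal R, J' = Ideal.span (Set.range f') := ⟨_, rfl⟩
  rw [← hJ']
  obtain ⟨M, hM⟩ : ∃ M : ℕ, M = c₁ + c₂ + h + 1 := ⟨_, rfl⟩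
  rw [← hM] at hf' hk'
  have hfJ : ∀ i, f i ∈ J := fun i => by rw [hJ]; exact Ideal.subset_span ⟨i, rfl⟩
  have hfJ' : ∀ i, f' i ∈ J' := fun i => by rw [hJ']; exact Ideal.subset_span ⟨i, rfl⟩
  -- J' ≤ J ⊔ 𝔦^M
  have h1 : J' ≤ J ⊔ 𝔦 ^ M := by
    rw [hJ', Ideal.span_le]
    rintro _ ⟨i, rfl⟩
    have : f' i = f i + (f' i - f i) := by ring
    rw [this]
    exact Ideal.add_mem _ (Ideal.mem_sup_left (hfJ i)) (Ideal.mem_sup_right (hf' i))
  -- (i)
  have h2 : Ideal.span (Set.range al) * J' ≤ J ⊔ 𝔦 ^ M * J' := by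
    rw [hJ', Ideal.span_mul_span, Ideal.span_le]
    rintro _ ⟨_, ⟨l, rfl⟩, _, ⟨i, rfl⟩, rfl⟩
    have : al l * f' i = (al l - k l) * f' i + (-(k' l - k l)) * f' i + k' l * f' i := by ring
    show al l * f' i ∈ J ⊔ 𝔦 ^ M * Ideal.span (Set.range f')
    rw [this, hkf, add_zero]
    refine Ideal.add_mem _ (Ideal.mem_sup_left (J.mul_mem_right _ (hk l)))
      (Ideal.mem_sup_right ?_)
    rw [← hJ']
    exact Ideal.mul_mem_mul ((Ideal.neg_mem_iff _).2 (hk' l)) (hfJ' i)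
  -- (ii)
  have h3 : 𝔦 ^ h * J' ≤ J := by
    apply Submodule.le_of_le_smul_of_le_jacobson_bot (IsNoetherian.noetherian _) hrad
    calc 𝔦 ^ h * J' ≤ Ideal.span (Set.range al) * J' := Ideal.mul_mono_left hh
      _ ≤ J ⊔ 𝔦 ^ M * J' := h2
      _ = J ⊔ 𝔦 ^ (M - h) * (𝔦 ^ h * J') := by
        rw [← mul_assoc, ← pow_add]; congr 3; omega
      _ ≤ J ⊔ 𝔦 * (𝔦 ^ h * J') :=
        sup_le_sup_left (Ideal.mul_mono_left (Ideal.pow_le_self (by omega))) _
  -- J' ≤ T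
  have h4 : J' ≤ T := by
    intro x hx
    rw [hT, Submodule.mem_colon]
    intro p hp
    rw [smul_eq_mul, mul_comm]
    exact h3 (Ideal.mul_mem_mul hp hx)
  -- (iii)
  have h5 : J' ≤ J := by
    intro x hx
    obtain ⟨y, hy, z, hz, rfl⟩ := Submodule.mem_sup.1 (h1 hx)
    have hzT : z ∈ T := by
      have : z = (y + z) - y := by ring
      rw [this]
      exact T.sub_mem (h4 hx) (hJT hy)
    have hz' : z ∈ 𝔦 ^ M • (⊤ : Submodule R R) ⊓ T :=
      ⟨by rw [smul_eq_mul, Ideal.mul_top]; exact hz, hzT⟩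
    rw [hc₁ M (by omega)] at hz'
    have : 𝔦 ^ (M - c₁) • (𝔦 ^ c₁ • (⊤ : Submodule R R) ⊓ T) ≤ J :=
      calc _ ≤ 𝔦 ^ (M - c₁) • T := Submodule.smul_mono (le_refl _) inf_le_right
       _ ≤ 𝔦 ^ h • T := Submodule.smul_mono_left (Ideal.pow_le_pow_right (by omega))
       _ = 𝔦 ^ h * T := rfl
       _ ≤ J := hTmul
    exact J.add_mem hy (this hz')
  -- (iv)
  apply le_antisymm h5
  apply Submodule.le_of_le_smul_of_le_jacobson_bot (IsNoetherian.noetherian _) hrad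
  have h6 : Ideal.span (Set.range f) ≤ J' ⊔ 𝔦 • J := by
    rw [Ideal.span_le]
    rintro _ ⟨i, rfl⟩
    have : f i = f' i + (f i - f' i) := by ring
    rw [this]
    refine Ideal.add_mem _ (Ideal.mem_sup_left (hfJ' i)) (Ideal.mem_sup_right ?_)
    have hz : f i - f' i ∈ 𝔦 ^ M := by
      have := (Ideal.neg_mem_iff _).2 (hf' i)
      rwa [neg_sub] at this
    have hzJ : f i - f' i ∈ J := J.sub_mem (hfJ i) (h5 (hfJ' i))
    have hz' : f i - f' i ∈ 𝔦 ^ M • (⊤ : Submodule R R) ⊓ J :=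
      ⟨by rw [smul_eq_mul, Ideal.mul_top]; exact hz, hzJ⟩
    rw [hc₂ M (by omega)] at hz'
    have : 𝔦 ^ (M - c₂) • (𝔦 ^ c₂ • (⊤ : Submodule R R) ⊓ J) ≤ 𝔦 • J :=
      calc _ ≤ 𝔦 ^ (M - c₂) • J := Submodule.smul_mono (le_refl _) inf_le_right
       _ ≤ 𝔦 • J := Submodule.smul_mono_left (Ideal.pow_le_self (by omega))
    exact this hz'
  rwa [← hJ] at h6

end Close

end Groth.Agent.Lib.RigIdem2H5
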