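import Mathlib
import Groth.Prelude.Def_Hens2
import Groth.Agent.Lib.RigIdem1_helper5
import Groth.Agent.Lib.RigIdem2_helper5
import Groth.Agent.Lib.ElkikG3_helper5
import Groth.Agent.Lib.ComplIso_helper5
import Groth.Agent.Lib.HensQuotCompl_helper5
import Groth.Agent.S2051

set_option autoImplicit false
set_option maxHeartbeats 1000000
set_option linter.unusedVariables false
universe u

open Groth.Agent.Lib

namespace Groth.Agent.Lib.RigIdem3H5

open RigIdemH5 RigIdem2H5 ElkikG2H5

section Smooth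

variable {X : Type u} [CommRing X] {s r : ℕ}

theorem basicOpen_subset_smoothLocus (a : Fin r → X) (l : Fin r) (t : X) (N : ℕ)
    (ht : a l = t ^ N) :
    (PrimeSpectrum.basicOpen (algebraMap X (PA X s r a) t) : Set (PrimeSpectrum (PA X s r a))) ⊆
      Algebra.smoothLocus X (PA X s r a) := by
  have h1 : (PrimeSpectrum.basicOpen (algebraMap X (PA X s r a) t) :
      Set (PrimeSpectrum (PA X s r a))) ⊆
      PrimeSpectrum.basicOpen (algebraMap X (PA X s r a) (a l)) := by
    intro p hp
    rw [SetLike.mem_coe, PrimeSpectrum.mem_basicOpen] at hp ⊢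
    intro h
    apply hp
    rw [ht, map_pow] at h
    exact p.2.mem_of_pow_mem N h
  refine h1.trans ?_
  rw [Algebra.basicOpen_subset_smoothLocus_iff]
  exact formallySmooth_away (A := X) (s := s) (r := r) (a := a) l _

end Smooth

section Core

variable (X : Type u) [CommRing X] [IsNoetherianRing X] {r : ℕ} (t : Fin r → X)
  (hH : HenselianRing X (Ideal.span (Set.range t)))
  (R : Type u) [CommRing R] [Algebra X R] (hΛ : IsComplOf X (Ideal.span (Set.range t)) R)

include hH hΛ in
/-- an ideal `J` of the completion with `𝔦^c J ⊆ J²` is extended from the henselian ring -/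
theorem exists_ideal_map_eq (J : Ideal R) (c : ℕ)
    (hJ : (Ideal.span (Set.range t)).map (algebraMap X R) ^ c * J ≤ J ^ 2) :
    ∃ J₀ : Ideal X, J₀.map (algebraMap X R) = J := by
  classical
  haveI : IsNoetherianRing R := hΛ.noeth
  haveI : IsAdicComplete ((Ideal.span (Set.range t)).map (algebraMap X R)) R := hΛ.complete
  obtain ⟨𝔦, h𝔦⟩ : ∃ 𝔦 : Ideal R, 𝔦 = (Ideal.span (Set.range t)).map (algebraMap X R) := ⟨_, rfl⟩
  have hrad : 𝔦 ≤ (⊥ : Ideal R).jacobson := by
    rw [h𝔦]; exact IsAdicComplete.le_jacobson_bot _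
  rw [← h𝔦] at hJ
  have htmem : ∀ l, algebraMap X R (t l) ∈ 𝔦 := fun l => by
    rw [h𝔦]; exact Ideal.mem_map_of_mem _ (Ideal.subset_span ⟨l, rfl⟩)
  -- generators of J
  obtain ⟨s, f, hf⟩ :=
    (Submodule.fg_iff_exists_fin_generating_family).1 (IsNoetherian.noetherian J : J.FG)
  -- Cayley–Hamilton
  have hCH : ∀ l, ∃ (n : ℕ) (j : R), j ∈ J ∧
      ∀ x ∈ J, ((algebraMap X R (t l) ^ c) ^ n - j) * x = 0 := by
    intro l
    apply exists_pow_sub_kill J (IsNoetherian.noetherian J)
    intro x hx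
    apply hJ
    exact Ideal.mul_mem_mul (Ideal.pow_mem_pow (htmem l) c) hx
  choose n j hjJ hkill using hCH
  obtain ⟨al, hal⟩ : ∃ al : Fin r → X, al = fun l => t l ^ (c * n l) := ⟨_, rfl⟩
  have halmap : ∀ l, algebraMap X R (al l) = (algebraMap X R (t l) ^ c) ^ n l := by
    intro l; rw [hal, map_pow, pow_mul]
  obtain ⟨k, hk⟩ : ∃ k : Fin r → R, k = fun l => algebraMap X R (al l) - j l := ⟨_, rfl⟩
  have hfJ : ∀ i, f i ∈ J := fun i => by rw [← hf]; exact Submodule.subset_span ⟨i, rfl⟩
  have h1 : ∀ l i, k l * f i = 0 := by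
    intro l i
    rw [hk]
    show (algebraMap X R (al l) - j l) * f i = 0
    rw [halmap]
    exact hkill l _ (hfJ i)
  have hjspan : ∀ l, ∃ g : Fin s → R, ∑ i, g i * f i = j l := by
    intro l
    have := hjJ l
    rw [← hf] at this
    exact (Ideal.mem_span_range_iff_exists_fun).1 this
  choose g hg using hjspan
  have h2 : ∀ l, algebraMap X R (al l) - k l = ∑ i, g l i * f i := by
    intro l
    rw [hg, hk]
    ring
  obtain ⟨φ, hφ⟩ : ∃ φ : PA X s r al →ₐ[X] R, φ = liftP f k g h1 h2 := ⟨_, rfl⟩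
  -- exponent h
  have hradal : 𝔦 ≤ (Ideal.span (Set.range fun l => algebraMap X R (al l))).radical := by
    rw [h𝔦, Ideal.map_span, Ideal.span_le]
    rintro _ ⟨_, ⟨l, rfl⟩, rfl⟩
    refine ⟨c * n l, ?_⟩
    have : algebraMap X R (t l) ^ (c * n l) = algebraMap X R (al l) := by rw [halmap, pow_mul]
    rw [this]
    exact Ideal.subset_span ⟨l, rfl⟩
  obtain ⟨h, hh⟩ := Ideal.exists_pow_le_of_le_radical_of_fg hradal (IsNoetherian.noetherian _)
  obtain ⟨M₀, hM₀⟩ := span_eq_of_close 𝔦 hrad (fun l => algebraMap X R (al l)) h hh f k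
    (fun l => by
      rw [h2 l]
      exact Ideal.sum_mem _ fun i _ => Ideal.mul_mem_left _ _ (Ideal.subset_span ⟨i, rfl⟩))
  -- Elkik
  obtain ⟨τ, hτ⟩ := elkik_general r X t hH R hΛ (PA X s r al)
    (fun l => basicOpen_subset_smoothLocus al l (t l) (c * n l) (by rw [hal])) φ M₀
  have hτ' : ∀ z, algebraMap X R (τ z) - φ z ∈ 𝔦 ^ M₀ := by
    intro z
    have := hτ z
    rwa [Ideal.map_pow, ← h𝔦] at this
  refine ⟨Ideal.span (Set.range (fOf τ)), ?_⟩
  have key := hM₀ (fun i => algebraMap X R (fOf τ i)) (fun l => algebraMap X R (kOf τ l))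
    (fun l i => by rw [← map_mul, kOf_mul_fOf, map_zero])
    (fun i => by
      have := hτ' (Ideal.Quotient.mk _ (MvPolynomial.X (Sum.inl i)))
      have h3 : φ (Ideal.Quotient.mk _ (MvPolynomial.X (Sum.inl i))) = f i := by
        rw [hφ]; exact liftP_f f k g h1 h2 i
      rwa [h3] at this)
    (fun l => by
      have := hτ' (Ideal.Quotient.mk _ (MvPolynomial.X (Sum.inr (Sum.inl l))))
      have h3 : φ (Ideal.Quotient.mk _ (MvPolynomial.X (Sum.inr (Sum.inl l)))) = k l := by
        rw [hφ]; exact liftP_k f k g h1 h2 l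
      rwa [h3] at this)
  rw [Ideal.map_span, ← hf, ← Set.range_comp]
  exact key

end Core

section Compl

/-- a quotient of a Noetherian adically complete ring is adically complete (as in helper3's
`RigClosedH3.isAdicComplete_quotient`) -/
theorem isAdicComplete_quotient {R : Type*} [CommRing R] [IsNoetherianRing R] (K : Ideal R)
    [IsAdicComplete K R] (Q : Ideal R) :
    IsAdicComplete (K.map (Ideal.Quotient.mk Q)) (R ⧸ Q) := by
  have hKj : K ≤ Ideal.jacobson ⊥ := IsAdicComplete.le_jacobson_bot K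
  haveI hH : IsHausdorff K (R ⧸ Q) := IsHausdorff.of_le_jacobson K (R ⧸ Q) hKj
  haveI : IsPrecomplete K R := inferInstance
  have h1 : IsPrecomplete K (R ⧸ Q) := by
    rw [← AdicCompletion.of_surjective_iff]
    intro y
    obtain ⟨x, rfl⟩ := AdicCompletion.map_surjective K
      (f := Submodule.mkQ Q) (Submodule.mkQ_surjective Q) y
    obtain ⟨s, rfl⟩ := AdicCompletion.of_surjective K R x
    exact ⟨Submodule.mkQ Q s, (AdicCompletion.map_of _ _ _).symm⟩
  have h2 : IsAdicComplete K (R ⧸ Q) := { toIsHausdorff := hH, toIsPrecomplete := h1 }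
  exact (IsAdicComplete.map_algebraMap_iff K (R ⧸ Q)).2 h2

variable (A : Type u) [CommRing A] (I : Ideal A)
  (X : Type u) [CommRing X] [Algebra A X] (R : Type u) [CommRing R] [Algebra A R] [Algebra X R]
  [IsScalarTower A X R]

/-- the quotient `R/J₀R` of the "completion" `R` of `X` is the completion of `X/J₀` -/
theorem exists_algEquiv_quot (J₀ : Ideal X)
    (hsurj : ∀ (n : ℕ) (y : R), ∃ x : X,
      y - algebraMap X R x ∈ ((I.map (algebraMap A X)) ^ n).map (algebraMap X R))
    (hinj : ∀ (𝔞 : Ideal X) (x : X), algebraMap X R x ∈ 𝔞.map (algebraMap X R) → x ∈ 𝔞)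
    (hc : IsAdicComplete (I.map (algebraMap A (R ⧸ J₀.map (algebraMap X R))))
      (R ⧸ J₀.map (algebraMap X R))) :
    Nonempty ((R ⧸ J₀.map (algebraMap X R)) ≃ₐ[A]
      AdicCompletion (I.map (algebraMap A (X ⧸ J₀))) (X ⧸ J₀)) := by
  classical
  obtain ⟨J, hJ⟩ : ∃ J : Ideal R, J = J₀.map (algebraMap X R) := ⟨_, rfl⟩
  rw [← hJ] at hc ⊢
  let f : (X ⧸ J₀) →ₐ[A] (R ⧸ J) :=
    Ideal.quotientMapₐ J (IsScalarTower.toAlgHom A X R) (by rw [hJ]; exact Ideal.le_comap_map)
  have hf_mk : ∀ x : X, f (Ideal.Quotient.mk J₀ x) = Ideal.Quotient.mk J (algebraMap X R x) :=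
    fun x => rfl
  obtain ⟨𝔵, h𝔵⟩ : ∃ 𝔵 : Ideal X, 𝔵 = I.map (algebraMap A X) := ⟨_, rfl⟩
  rw [← h𝔵] at hsurj
  set IR : Ideal (X ⧸ J₀) := I.map (algebraMap A (X ⧸ J₀)) with hIR
  set IS : Ideal (R ⧸ J) := I.map (algebraMap A (R ⧸ J)) with hIS
  have hmap : IR.map f ≤ IS := by
    rw [Ideal.map_le_iff_le_comap, hIR, Ideal.map_le_iff_le_comap]
    intro a ha
    show f (algebraMap A (X ⧸ J₀) a) ∈ IS
    rw [f.commutes]
    exact Ideal.mem_map_of_mem _ ha
  have hIRn : ∀ n, IR ^ n = (𝔵 ^ n).map (Ideal.Quotient.mk J₀) := by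
    intro n
    rw [hIR, h𝔵, ← Ideal.map_pow, ← Ideal.map_pow, Ideal.map_map]
    rfl
  have hISn : ∀ n, IS ^ n = ((𝔵 ^ n).map (algebraMap X R)).map (Ideal.Quotient.mk J) := by
    intro n
    rw [hIS, h𝔵, ← Ideal.map_pow, ← Ideal.map_pow, Ideal.map_map, Ideal.map_map]
    congr 1
    ext a
    show algebraMap A (R ⧸ J) a = Ideal.Quotient.mk J (algebraMap X R (algebraMap A X a))
    rw [← IsScalarTower.algebraMap_apply A X R]
    rfl
  obtain ⟨e, -⟩ := ComplIsoH5.exists_algEquiv f IR IS hmap (fun n => by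
    constructor
    · rw [injective_iff_map_eq_zero]
      intro z hz
      obtain ⟨z', rfl⟩ := Ideal.Quotient.mk_surjective z
      obtain ⟨x, rfl⟩ := Ideal.Quotient.mk_surjective z'
      rw [ComplIsoH5.lvl_mk, hf_mk, Ideal.Quotient.eq_zero_iff_mem, hISn,
        Ideal.mem_quotient_iff_mem_sup, hJ, ← Ideal.map_sup] at hz
      have hx : x ∈ 𝔵 ^ n ⊔ J₀ := hinj _ x hz
      rw [Ideal.Quotient.eq_zero_iff_mem, hIRn, Ideal.mem_quotient_iff_mem_sup]
      exact hx
    · intro y
      obtain ⟨y', rfl⟩ := Ideal.Quotient.mk_surjective y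
      obtain ⟨ρ, rfl⟩ := Ideal.Quotient.mk_surjective y'
      obtain ⟨x, hx⟩ := hsurj n ρ
      refine ⟨Ideal.Quotient.mk _ (Ideal.Quotient.mk J₀ x), ?_⟩
      rw [ComplIsoH5.lvl_mk, hf_mk]
      symm
      rw [Ideal.Quotient.eq, hISn, ← map_sub]
      exact Ideal.mem_map_of_mem _ hx)
  haveI := hc
  let e₀ : (R ⧸ J) ≃ₐ[A] AdicCompletion IS (R ⧸ J) :=
    AlgEquiv.ofRingEquiv (f := (AdicCompletion.ofAlgEquiv IS).toRingEquiv) (fun a => by
      show AdicCompletion.ofAlgEquiv IS (algebraMap A (R ⧸ J) a) = _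
      rw [AdicCompletion.ofAlgEquiv_apply]
      rfl)
  exact ⟨e₀.trans e.symm⟩

end Compl

section Main

theorem main9298 (A : Type u) [CommRing A] [IsNoetherianRing A] (I : Ideal A) (B : Type u)
    [CommRing B] [Algebra A B] [Algebra.FiniteType A B] (C : Type u) [CommRing C]
    (π : AdicCompletion (Ideal.map (algebraMap A B) I) B →+* C) (hπ : Function.Surjective π)
    (c : ℕ)
    (hJ : Ideal.map ((algebraMap B (AdicCompletion (Ideal.map (algebraMap A B) I) B)).comp
        (algebraMap A B)) I ^ c * RingHom.ker π ≤ RingHom.ker π ^ 2) :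
    ∃ (D : Type u) (_ : CommRing D) (_ : Algebra A D), Algebra.FiniteType A D ∧
      ∃ e : C ≃+* AdicCompletion (Ideal.map (algebraMap A D) I) D,
        ∀ a : A, e (π (algebraMap B _ (algebraMap A B a))) =
          algebraMap D _ (algebraMap A D a) := by
  classical
  haveI : IsNoetherianRing B := Algebra.FiniteType.isNoetherianRing A B
  obtain ⟨Bh, _, _, hBh⟩ := Groth.Agent.S2051.result B (I.map (algebraMap A B))
  haveI : IsNoetherianRing Bh := HensNoethH3.isNoetherianRing hBh
  letI : Algebra A Bh := ((algebraMap B Bh).comp (algebraMap A B)).toAlgebra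
  haveI : IsScalarTower A B Bh := IsScalarTower.of_algebraMap_eq fun _ => rfl
  obtain ⟨g, hg⟩ := HensNoethH3.exists_toCompletion hBh
  letI : Algebra Bh (AdicCompletion (I.map (algebraMap A B)) B) := g.toAlgebra
  have hΛ := ElkikG3H5.isComplOf_hens hBh g hg
  haveI := HensNoethH3.faithfullyFlat_toCompletion hBh g hg
  haveI : IsScalarTower A Bh (AdicCompletion (I.map (algebraMap A B)) B) :=
    IsScalarTower.of_algebraMap_eq fun a => by
      show algebraMap A (AdicCompletion (I.map (algebraMap A B)) B) a =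
        g (algebraMap B Bh (algebraMap A B a))
      have := RingHom.congr_fun hg (algebraMap A B a)
      rw [RingHom.comp_apply] at this
      rw [this]
      rfl
  -- generators of I
  obtain ⟨r, t0, ht0⟩ :=
    (Submodule.fg_iff_exists_fin_generating_family).1 (IsNoetherian.noetherian I : I.FG)
  obtain ⟨t, ht⟩ : ∃ t : Fin r → Bh, t = fun l => algebraMap A Bh (t0 l) := ⟨_, rfl⟩
  have hIt : I.map (algebraMap A Bh) = Ideal.span (Set.range t) := by
    have h1 : I.map (algebraMap A Bh) = (Ideal.span (Set.range t0)).map (algebraMap A Bh) := by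
      congr 1
      exact ht0.symm
    rw [h1, Ideal.map_span, ← Set.range_comp, ht]
    rfl
  have hspan : (I.map (algebraMap A B)).map (algebraMap B Bh) = Ideal.span (Set.range t) := by
    rw [Ideal.map_map, ← hIt]
    rfl
  have hH : HenselianRing Bh (Ideal.span (Set.range t)) := by
    rw [← hspan]; exact hBh.1
  rw [hspan] at hΛ
  have hJ' : (Ideal.span (Set.range t)).map
      (algebraMap Bh (AdicCompletion (I.map (algebraMap A B)) B)) ^ c * RingHom.ker π ≤
      RingHom.ker π ^ 2 := by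
    have h1 : (Ideal.span (Set.range t)).map
        (algebraMap Bh (AdicCompletion (I.map (algebraMap A B)) B)) =
        Ideal.map ((algebraMap B (AdicCompletion (Ideal.map (algebraMap A B) I) B)).comp
        (algebraMap A B)) I := by
      rw [← hspan, Ideal.map_map, Ideal.map_map]
      congr 1
      show (g.comp (algebraMap B Bh)).comp (algebraMap A B) = _
      rw [hg]
    rw [h1]
    exact hJ
  obtain ⟨J₀, hJ₀⟩ := exists_ideal_map_eq Bh t hH _ hΛ (RingHom.ker π) c hJ'
  have hsurj : ∀ (n : ℕ) (y : AdicCompletion (I.map (algebraMap A B)) B), ∃ x : Bh,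
      y - algebraMap Bh (AdicCompletion (I.map (algebraMap A B)) B) x ∈
        ((I.map (algebraMap A Bh)) ^ n).map
          (algebraMap Bh (AdicCompletion (I.map (algebraMap A B)) B)) := by
    intro n y
    rw [hIt]
    exact hΛ.surj n y
  have hinj : ∀ (𝔞 : Ideal Bh) (x : Bh),
      algebraMap Bh (AdicCompletion (I.map (algebraMap A B)) B) x ∈
        𝔞.map (algebraMap Bh (AdicCompletion (I.map (algebraMap A B)) B)) → x ∈ 𝔞 := by
    intro 𝔞 x hx
    have : x ∈ (𝔞.map (algebraMap Bh (AdicCompletion (I.map (algebraMap A B)) B))).comap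
        (algebraMap Bh (AdicCompletion (I.map (algebraMap A B)) B)) := hx
    rwa [Ideal.comap_map_eq_self_of_faithfullyFlat] at this
  have hc : IsAdicComplete (I.map (algebraMap A (AdicCompletion (I.map (algebraMap A B)) B ⧸
      J₀.map (algebraMap Bh (AdicCompletion (I.map (algebraMap A B)) B)))))
      (AdicCompletion (I.map (algebraMap A B)) B ⧸
        J₀.map (algebraMap Bh (AdicCompletion (I.map (algebraMap A B)) B))) := by
    haveI := hΛ.noeth
    haveI := hΛ.complete
    have h1 := isAdicComplete_quotient ((Ideal.span (Set.range t)).map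
      (algebraMap Bh (AdicCompletion (I.map (algebraMap A B)) B)))
      (J₀.map (algebraMap Bh (AdicCompletion (I.map (algebraMap A B)) B)))
    have h2 : ((Ideal.span (Set.range t)).map
        (algebraMap Bh (AdicCompletion (I.map (algebraMap A B)) B))).map
        (Ideal.Quotient.mk (J₀.map (algebraMap Bh (AdicCompletion (I.map (algebraMap A B)) B)))) =
        I.map (algebraMap A (AdicCompletion (I.map (algebraMap A B)) B ⧸
          J₀.map (algebraMap Bh (AdicCompletion (I.map (algebraMap A B)) B)))) := by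
      rw [← hIt, Ideal.map_map, Ideal.map_map]
      congr 1
      ext a
      show Ideal.Quotient.mk _ (algebraMap Bh (AdicCompletion (I.map (algebraMap A B)) B)
        (algebraMap A Bh a)) = algebraMap A _ a
      rw [← IsScalarTower.algebraMap_apply A Bh (AdicCompletion (I.map (algebraMap A B)) B)]
      rfl
    rwa [h2] at h1
  obtain ⟨e₁⟩ := exists_algEquiv_quot A I Bh (AdicCompletion (I.map (algebraMap A B)) B) J₀
    hsurj hinj hc
  obtain ⟨D, _, _, hD, ⟨e₂⟩⟩ := HensQuotComplH5.main8801 A I B Bh hBh J₀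
  refine ⟨D, inferInstance, inferInstance, hD, ?_⟩
  let e₀ : C ≃+* AdicCompletion (I.map (algebraMap A B)) B ⧸ RingHom.ker π :=
    (RingHom.quotientKerEquivOfSurjective hπ).symm
  let e₀' : (AdicCompletion (I.map (algebraMap A B)) B ⧸ RingHom.ker π) ≃+*
      (AdicCompletion (I.map (algebraMap A B)) B ⧸
        J₀.map (algebraMap Bh (AdicCompletion (I.map (algebraMap A B)) B))) :=
    Ideal.quotEquivOfEq hJ₀.symm
  refine ⟨(e₀.trans e₀').trans (e₁.toRingEquiv.trans e₂.symm.toRingEquiv), fun a => ?_⟩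
  show e₂.symm (e₁ (e₀' (e₀ (π (algebraMap B (AdicCompletion (I.map (algebraMap A B)) B)
    (algebraMap A B a)))))) = _
  have h1 : e₀ (π (algebraMap B (AdicCompletion (I.map (algebraMap A B)) B)
      (algebraMap A B a))) = Ideal.Quotient.mk _
      (algebraMap B (AdicCompletion (I.map (algebraMap A B)) B) (algebraMap A B a)) :=
    RingHom.quotientKerEquivOfSurjective_symm_apply hπ _
  rw [h1, Ideal.quotEquivOfEq_mk]
  have h2 : Ideal.Quotient.mk
      (J₀.map (algebraMap Bh (AdicCompletion (I.map (algebraMap A B)) B)))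
      (algebraMap B (AdicCompletion (I.map (algebraMap A B)) B) (algebraMap A B a)) =
      algebraMap A _ a := rfl
  rw [h2, e₁.commutes, e₂.symm.commutes]
  rfl

end Main

end Groth.Agent.Lib.RigIdem3H5
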