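import Mathlib
import Groth.Prelude
import Groth.Agent.Lib.BCFun3_helper2
import Groth.Agent.Lib.H0Const_helper4
import Groth.Agent.Lib.RigidFactor_helper4

/-!
# Rigidity over a locally Noetherian base (helper4)

* `isIso_app_of_local`: `O_Y → f_* O_X` is an isomorphism if it is so locally on `Y`.
* `isIso_app`: for `f` proper flat over a locally Noetherian base with geometrically connected and
  geometrically reduced fibres, `O_Y(W) → O_X(f⁻¹ W)` is an isomorphism for every open `W`
  (via helper2's S2393).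
* `isClosed_const_locus`: closedness of the locus where `f` is constant on the fibres of `ξ`.
* `main14667`.
APPEND-ONLY once landed.
-/

set_option autoImplicit false
set_option linter.unusedVariables false
set_option linter.unusedSectionVars false
set_option linter.style.haveILetI false
set_option maxHeartbeats 1600000

universe u

open CategoryTheory CategoryTheory.Limits AlgebraicGeometry TopologicalSpace Opposite

namespace Groth.Agent.Lib.RigidLNH4

/-- `O_Y → f_* O_X` is an isomorphism if it is so locally on `Y`. -/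
theorem isIso_app_of_local {X Y : Scheme.{u}} (f : X ⟶ Y)
    (h : ∀ y : Y, ∃ U : Y.Opens, y ∈ U ∧ ∀ V : Y.Opens, V ≤ U → IsIso (f.app V)) (W : Y.Opens) :
    IsIso (f.app W) := by
  let G : TopCat.Sheaf CommRingCat Y := (TopCat.Sheaf.pushforward CommRingCat f.base).obj X.sheaf
  let φ : Y.sheaf ⟶ G := ⟨f.c⟩
  let B : {V : Y.Opens // IsIso (f.app V)} → Y.Opens := fun V => V.1
  have hB : Opens.IsBasis (Set.range B) := by
    rw [Opens.isBasis_iff_nbhd]
    intro U x hx
    obtain ⟨U', hxU', hU'⟩ := h x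
    exact ⟨U ⊓ U', ⟨⟨U ⊓ U', hU' _ inf_le_right⟩, rfl⟩, ⟨hx, hxU'⟩, inf_le_left⟩
  have hφ : IsIso φ := TopCat.Sheaf.isIso_iff_isIso_basis (B := B) hB (fun V => V.2)
  have h2 : IsIso ((TopCat.Sheaf.forget CommRingCat Y).map φ) := inferInstance
  exact (NatTrans.isIso_iff_isIso_app ((TopCat.Sheaf.forget CommRingCat Y).map φ)).mp h2 (op W)

theorem geometricallyConnected_of_irreducible {X Y : Scheme.{u}} (f : X ⟶ Y)
    [GeometricallyIrreducible f] : GeometricallyConnected f :=
  ⟨fun K _ y Z fst snd h => by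
    haveI : IrreducibleSpace Z :=
      GeometricallyIrreducible.geometrically_irreducibleSpace y fst snd h
    infer_instance⟩

/-- `κ(y) → Γ(X_y, O)` is bijective for proper, geometrically connected and geometrically reduced
fibres. -/
theorem bijective_algebraMap_fiber {X Y : Scheme.{u}} (f : X ⟶ Y) [IsProper f]
    [GeometricallyReduced f] [GeometricallyConnected f] (y : Y) :
    Function.Bijective (algebraMap (Y.residueField y) Γ(f.fiber y, ⊤)) := by
  haveI : IsProper (f.fiberToSpecResidueField y) :=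
    MorphismProperty.pullback_snd (P := @IsProper) f (Y.fromSpecResidueField y) inferInstance
  haveI : GeometricallyReduced (f.fiberToSpecResidueField y) :=
    inferInstanceAs (GeometricallyReduced (pullback.snd f (Y.fromSpecResidueField y)))
  haveI : GeometricallyConnected (f.fiberToSpecResidueField y) :=
    inferInstanceAs (GeometricallyConnected (pullback.snd f (Y.fromSpecResidueField y)))
  have h := Groth.Agent.Lib.H0ConstH4.toGlobal_bijective (Y.residueField y)
    (X := f.fiber y) (f.fiberToSpecResidueField y)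
  exact h

/-- `O_Y = f_* O_X` for `f` proper flat over a locally Noetherian base with geometrically
connected and geometrically reduced fibres. -/
theorem isIso_app {X Y : Scheme.{u}} (f : X ⟶ Y) [IsProper f] [Flat f] [IsLocallyNoetherian Y]
    [GeometricallyReduced f] [GeometricallyConnected f] (W : Y.Opens) : IsIso (f.app W) := by
  apply isIso_app_of_local
  intro y
  exact Groth.Agent.Lib.BCFunH2.main2393 f y (bijective_algebraMap_fiber f y)

/-- Closedness of the locus over which `f` is constant on the fibres of `ξ`, given that `f`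
factors through `ξ` near every point of this locus. -/
theorem isClosed_const_locus {X Y S : Scheme.{u}} (ξ : X ⟶ S) [UniversallyOpen ξ] [Surjective ξ]
    (v : Y ⟶ S) [IsSeparated v] (f : X ⟶ Y) (hf : f ≫ v = ξ)
    (hloc : ∀ s ∈ {s : ↥S | ∃ y : ↥Y, ∀ x : ↥X, ξ.base x = s → f.base x = y},
      ∃ W : S.Opens, s ∈ W ∧ ∃ g : W.toScheme ⟶ Y, (ξ ∣_ W) ≫ g = (ξ ⁻¹ᵁ W).ι ≫ f) :
    IsClosed {s : ↥S | ∃ y : ↥Y, ∀ x : ↥X, ξ.base x = s → f.base x = y} := by
  obtain ⟨p₁, hp₁⟩ : ∃ p₁ : pullback ξ ξ ⟶ X, p₁ = pullback.fst ξ ξ := ⟨_, rfl⟩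
  obtain ⟨p₂, hp₂⟩ : ∃ p₂ : pullback ξ ξ ⟶ X, p₂ = pullback.snd ξ ξ := ⟨_, rfl⟩
  have hcond : p₁ ≫ ξ = p₂ ≫ ξ := by rw [hp₁, hp₂]; exact pullback.condition
  have hw : (p₁ ≫ f) ≫ v = (p₂ ≫ f) ≫ v := by
    rw [Category.assoc, Category.assoc, hf, hcond]
  obtain ⟨δ, hδ⟩ : ∃ δ : pullback ξ ξ ⟶ pullback v v, δ = pullback.lift (p₁ ≫ f) (p₂ ≫ f) hw :=
    ⟨_, rfl⟩
  have hδ1 : δ ≫ pullback.fst v v = p₁ ≫ f := by rw [hδ]; exact pullback.lift_fst _ _ _
  have hδ2 : δ ≫ pullback.snd v v = p₂ ≫ f := by rw [hδ]; exact pullback.lift_snd _ _ _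
  haveI : UniversallyOpen p₁ := by
    rw [hp₁]; exact MorphismProperty.pullback_fst (P := @UniversallyOpen) ξ ξ inferInstance
  haveI : UniversallyOpen (p₁ ≫ ξ) := inferInstance
  have hE : IsClosed (δ.base ⁻¹' (Set.range (pullback.diagonal v).base)) :=
    (pullback.diagonal v).isClosedEmbedding.isClosed_range.preimage δ.continuous
  have hopen : IsOpen ((p₁ ≫ ξ).base '' (δ.base ⁻¹' (Set.range (pullback.diagonal v).base))ᶜ) :=
    (p₁ ≫ ξ).isOpenMap _ hE.isOpen_compl
  have hEq : {s : ↥S | ∃ y : ↥Y, ∀ x : ↥X, ξ.base x = s → f.base x = y}ᶜ =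
      (p₁ ≫ ξ).base '' (δ.base ⁻¹' (Set.range (pullback.diagonal v).base))ᶜ := by
    ext s
    constructor
    · intro hs
      obtain ⟨x₁, hx₁⟩ := ξ.surjective s
      have hne : ∃ x₂ : X, ξ.base x₂ = s ∧ f.base x₂ ≠ f.base x₁ := by
        by_contra hcon
        push Not at hcon
        exact hs ⟨f.base x₁, fun x hx => hcon x hx⟩
      obtain ⟨x₂, hx₂, hx₂ne⟩ := hne
      obtain ⟨z, hz1, hz2⟩ := Scheme.Pullback.exists_preimage_pullback (f := ξ) (g := ξ) x₁ x₂
        (hx₁.trans hx₂.symm)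
      refine ⟨z, ?_, ?_⟩
      · rintro ⟨y, hy⟩
        apply hx₂ne
        have h1 : (δ ≫ pullback.fst v v).base z = y := by
          rw [Scheme.Hom.comp_base, TopCat.comp_app]
          show (pullback.fst v v).base (δ.base z) = y
          rw [← hy, ← Scheme.Hom.comp_apply, pullback.diagonal_fst]
          rfl
        have h2 : (δ ≫ pullback.snd v v).base z = y := by
          show (pullback.snd v v).base (δ.base z) = y
          rw [← hy, ← Scheme.Hom.comp_apply, pullback.diagonal_snd]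
          rfl
        rw [hδ1] at h1
        rw [hδ2] at h2
        have h3 : f.base (p₁.base z) = y := h1
        have h4 : f.base (p₂.base z) = y := h2
        rw [hp₁] at h3
        rw [hp₂] at h4
        rw [hz1] at h3
        rw [hz2] at h4
        rw [h3, h4]
      · show ξ.base (p₁.base z) = s
        rw [hp₁, hz1, hx₁]
    · rintro ⟨z, hz, rfl⟩ hsU
      apply hz
      obtain ⟨W, hsW, g, hg⟩ := hloc _ hsU
      -- the open of the pullback over `W`
      have hzW : z ∈ (p₁ ≫ ξ) ⁻¹ᵁ W := hsW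
      obtain ⟨j, hj⟩ : ∃ j : ((p₁ ≫ ξ) ⁻¹ᵁ W).toScheme ⟶ pullback ξ ξ,
        j = ((p₁ ≫ ξ) ⁻¹ᵁ W).ι := ⟨_, rfl⟩
      have hr1 : Set.range (j ≫ p₁).base ⊆ Set.range (ξ ⁻¹ᵁ W).ι.base := by
        rintro _ ⟨a, rfl⟩
        rw [Scheme.Opens.range_ι]
        show ξ.base (p₁.base (j.base a)) ∈ W
        rw [hj]
        exact a.2
      have hr2 : Set.range (j ≫ p₂).base ⊆ Set.range (ξ ⁻¹ᵁ W).ι.base := by
        rintro _ ⟨a, rfl⟩
        rw [Scheme.Opens.range_ι]
        show ξ.base (p₂.base (j.base a)) ∈ W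
        have h5 : ξ.base (p₂.base (j.base a)) = ξ.base (p₁.base (j.base a)) := by
          have := congrArg (fun φ : pullback ξ ξ ⟶ S => φ.base (j.base a)) hcond
          exact this.symm
        rw [h5, hj]
        exact a.2
      let q₁ := IsOpenImmersion.lift (ξ ⁻¹ᵁ W).ι (j ≫ p₁) hr1
      let q₂ := IsOpenImmersion.lift (ξ ⁻¹ᵁ W).ι (j ≫ p₂) hr2
      have hq₁ : q₁ ≫ (ξ ⁻¹ᵁ W).ι = j ≫ p₁ := IsOpenImmersion.lift_fac _ _ _
      have hq₂ : q₂ ≫ (ξ ⁻¹ᵁ W).ι = j ≫ p₂ := IsOpenImmersion.lift_fac _ _ _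
      have hqq : q₁ ≫ (ξ ∣_ W) = q₂ ≫ (ξ ∣_ W) := by
        rw [← cancel_mono W.ι, Category.assoc, Category.assoc, morphismRestrict_ι,
          ← Category.assoc, ← Category.assoc, hq₁, hq₂, Category.assoc, Category.assoc]
        exact congrArg (fun t => j ≫ t) hcond
      have hjf : j ≫ (p₁ ≫ f) = j ≫ (p₂ ≫ f) := by
        rw [← Category.assoc, ← hq₁, Category.assoc, ← hg, ← Category.assoc, hqq,
          Category.assoc, hg, ← Category.assoc, hq₂, Category.assoc]
      have hjδ : j ≫ δ = (j ≫ p₁ ≫ f) ≫ pullback.diagonal v := by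
        apply pullback.hom_ext
        · rw [Category.assoc, hδ1, Category.assoc, pullback.diagonal_fst, Category.comp_id]
        · rw [Category.assoc, hδ2, Category.assoc, pullback.diagonal_snd, Category.comp_id,
            hjf]
      show δ.base z ∈ Set.range (pullback.diagonal v).base
      have hzj : z = j.base ⟨z, hzW⟩ := by rw [hj]; rfl
      refine ⟨(j ≫ p₁ ≫ f).base ⟨z, hzW⟩, ?_⟩
      have h6 := congrArg (fun φ : ((p₁ ≫ ξ) ⁻¹ᵁ W).toScheme ⟶ pullback v v =>
        φ.base ⟨z, hzW⟩) hjδ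
      have h7 : (j ≫ δ).base ⟨z, hzW⟩ = δ.base z := by
        show δ.base (j.base ⟨z, hzW⟩) = δ.base z
        rw [← hzj]
      rw [← h7]
      exact h6.symm
  rw [← isOpen_compl_iff, hEq]
  exact hopen

theorem lfp_of_lft {X Y : Scheme.{u}} (f : X ⟶ Y) [LocallyOfFiniteType f] [IsLocallyNoetherian Y] :
    LocallyOfFinitePresentation f := by
  rw [HasRingHomProperty.iff_appLE (P := @LocallyOfFinitePresentation)]
  intro U V e
  have h1 := HasRingHomProperty.appLE (P := @LocallyOfFiniteType) f inferInstance U V e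
  haveI : IsNoetherianRing Γ(Y, U.1) := IsLocallyNoetherian.component_noetherian U
  exact RingHom.FinitePresentation.of_finiteType.1 h1

/-- **S14667** -/
theorem main14667 {X Y S : Scheme.{u}} [IsLocallyNoetherian S]
    (ξ : X ⟶ S) [IsProper ξ] [Flat ξ] [GeometricallyIntegral ξ]
    (v : Y ⟶ S) [IsSeparated v] (f : X ⟶ Y) (hf : f ≫ v = ξ) :
    IsClosed {s : ↥S | ∃ y : ↥Y, ∀ x : ↥X, ξ.base x = s → f.base x = y} ∧
      IsOpen {s : ↥S | ∃ y : ↥Y, ∀ x : ↥X, ξ.base x = s → f.base x = y} := by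
  haveI := geometricallyConnected_of_irreducible ξ
  haveI : LocallyOfFinitePresentation ξ := lfp_of_lft ξ
  have h0 : ∀ U : S.Opens, Function.Bijective (ξ.app U).hom := fun U => by
    haveI := isIso_app ξ U
    exact ConcreteCategory.bijective_of_isIso (ξ.app U)
  have hmain := Groth.Agent.Lib.RigidFactorH4.main14666 ξ h0 v f hf
  refine ⟨?_, hmain.1⟩
  apply isClosed_const_locus ξ v f hf
  rintro s ⟨y, hy⟩
  exact Groth.Agent.Lib.RigidFactorH4.exists_nhd_factor ξ ξ.isClosedMap h0 f s y hy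

end Groth.Agent.Lib.RigidLNH4
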