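import Mathlib
import Groth.Prelude
import Groth.Agent.Lib.RigidGen_helper4
import Groth.Agent.Lib.RigidLN_helper4

/-!
# Rigidity over a connected Noetherian base with `κ(s) = H⁰(X_s, O)` (helper4)

`main14141` = **S14141**.
APPEND-ONLY once landed.
-/

set_option autoImplicit false
set_option linter.unusedVariables false
set_option linter.unusedSectionVars false
set_option linter.style.haveILetI false
set_option maxHeartbeats 1600000

universe u

open CategoryTheory CategoryTheory.Limits AlgebraicGeometry TopologicalSpace Opposite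

namespace Groth.Agent.Lib.Rigid14141H4

open Groth.Agent.Lib.RigidGenH4

/-- **S14141** -/
theorem main14141 {X Y S : Scheme.{u}} [IsNoetherian S] [ConnectedSpace ↥S]
    (f : X ⟶ S) [IsProper f] [Flat f]
    (hfib : ∀ s : ↥S, Function.Bijective (algebraMap (S.residueField s) Γ(f.fiber s, ⊤)))
    (g : Y ⟶ S) [IsSeparated g] (π : X ⟶ Y) (hπ : π ≫ g = f) (s : ↥S)
    (hs : ∃ y : Spec (S.residueField s) ⟶ Y,
      f.fiberι s ≫ π = f.fiberToSpecResidueField s ≫ y) :
    ∃ σ : S ⟶ Y, σ ≫ g = 𝟙 S ∧ π = f ≫ σ := by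
  have hiso : ∀ W : S.Opens, IsIso (f.app W) := fun W =>
    Groth.Agent.Lib.RigidLNH4.isIso_app_of_local f
      (fun y => Groth.Agent.Lib.BCFunH2.main2393 f y (hfib y)) W
  have hbij : ∀ W : S.Opens, Function.Bijective (f.app W).hom := fun W => by
    haveI := hiso W
    exact ConcreteCategory.bijective_of_isIso (f.app W)
  have hcl : IsClosedMap f.base := f.isClosedMap
  have hinj : ∀ W : S.Opens, Function.Injective (f.app W).hom := fun W => (hbij W).1
  have hsurj : Function.Surjective f.base :=
    Groth.Agent.Lib.RigidFactorH4.surjective_of_injective_app f hcl hinj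
  haveI : Surjective f := ⟨hsurj⟩
  haveI : LocallyOfFinitePresentation f := Groth.Agent.Lib.RigidLNH4.lfp_of_lft f
  haveI : UniversallyOpen f := UniversallyOpen.of_flat f
  -- `s` lies in the locus
  have hsl : s ∈ locus f π := by
    obtain ⟨y, hy⟩ := hs
    obtain ⟨x₀, hx₀⟩ := hsurj s
    refine ⟨π.base x₀, fun x hx => ?_⟩
    have hx' : x ∈ Set.range (f.fiberι s) := by
      rw [Scheme.Hom.range_fiberι]
      exact hx
    have hx₀' : x₀ ∈ Set.range (f.fiberι s) := by
      rw [Scheme.Hom.range_fiberι]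
      exact hx₀
    obtain ⟨z, rfl⟩ := hx'
    obtain ⟨z₀, rfl⟩ := hx₀'
    have h1 := congrArg (fun φ : f.fiber s ⟶ Y => φ.base z) hy
    have h2 := congrArg (fun φ : f.fiber s ⟶ Y => φ.base z₀) hy
    have h3 : (f.fiberToSpecResidueField s).base z = (f.fiberToSpecResidueField s).base z₀ := by
      haveI : Subsingleton ↥(Spec (S.residueField s)) :=
        inferInstanceAs (Subsingleton (PrimeSpectrum (S.residueField s)))
      exact Subsingleton.elim _ _
    have h4 : π.base ((f.fiberι s).base z) = y.base ((f.fiberToSpecResidueField s).base z) := h1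
    have h5 : π.base ((f.fiberι s).base z₀) = y.base ((f.fiberToSpecResidueField s).base z₀) := h2
    show π.base ((f.fiberι s).base z) = π.base ((f.fiberι s).base z₀)
    rw [h4, h5, h3]
  have hf' : π ≫ g = f ≫ 𝟙 S := by rw [Category.comp_id]; exact hπ
  have hclopen : IsClopen (locus f π) :=
    ⟨isClosed_locus_gen f π hcl hbij (𝟙 S) g hf', isOpen_locus_gen f π hcl hbij⟩
  have huniv : locus f π = Set.univ := hclopen.eq_univ ⟨s, hsl⟩
  obtain ⟨σ, hσ⟩ := exists_factor_of_univ_gen f π hcl hbij (fun t => by rw [huniv]; trivial)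
  refine ⟨σ, ?_, hσ⟩
  haveI : Epi f := epi_gen f hcl hbij
  rw [← cancel_epi f, ← Category.assoc, ← hσ, hπ, Category.comp_id]

end Groth.Agent.Lib.Rigid14141H4
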