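import Mathlib

set_option autoImplicit false
universe u
open CategoryTheory AlgebraicGeometry Limits

namespace RigidH8

/-- Rigidity: two `Y`-morphisms from a connected scheme to an unramified separated `Y`-scheme that
agree at a field-valued point are equal. -/
theorem eq_of_eq_at_point {T X Y : Scheme.{u}} (p : X ⟶ Y) [IsSeparated p] [FormallyUnramified p]
    [LocallyOfFiniteType p] [ConnectedSpace T] (a b : T ⟶ X) (hab : a ≫ p = b ≫ p)
    (K : Type u) [Field K] (ξ : Spec (.of K) ⟶ T) (hξ : ξ ≫ a = ξ ≫ b) : a = b := by
  have hd1 : pullback.lift a b hab ≫ pullback.fst p p = a := pullback.lift_fst _ _ _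
  have hd2 : pullback.lift a b hab ≫ pullback.snd p p = b := pullback.lift_snd _ _ _
  obtain ⟨d, hd⟩ : ∃ d, d = pullback.lift a b hab := ⟨_, rfl⟩
  rw [← hd] at hd1 hd2
  have hcl : IsClosedImmersion (pullback.fst d (pullback.diagonal p)) := inferInstance
  have hop : IsOpenImmersion (pullback.fst d (pullback.diagonal p)) := inferInstance
  have hrange : Set.range (pullback.fst d (pullback.diagonal p)).base = Set.univ := by
    apply IsClopen.eq_univ
    · exact ⟨(pullback.fst d (pullback.diagonal p)).isClosedEmbedding.isClosed_range,
        (pullback.fst d (pullback.diagonal p)).isOpenEmbedding.isOpen_range⟩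
    · have hl : ξ ≫ d = (ξ ≫ a) ≫ pullback.diagonal p := by
        apply pullback.hom_ext
        · rw [Category.assoc, hd1, Category.assoc, pullback.diagonal_fst, Category.comp_id]
        · rw [Category.assoc, hd2, Category.assoc, pullback.diagonal_snd, Category.comp_id, hξ]
      refine ⟨ξ.base (IsLocalRing.closedPoint K),
        (pullback.lift ξ (ξ ≫ a) hl).base (IsLocalRing.closedPoint K), ?_⟩
      have := pullback.lift_fst ξ (ξ ≫ a) hl
      exact congrArg (fun f => f.base (IsLocalRing.closedPoint K)) this
  have hsurj : Surjective (pullback.fst d (pullback.diagonal p)) :=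
    ⟨Set.range_eq_univ.mp hrange⟩
  have hiso : IsIso (pullback.fst d (pullback.diagonal p)) :=
    (isIso_iff_isOpenImmersion_and_surjective _).mpr ⟨hop, hsurj⟩
  rw [← cancel_epi (pullback.fst d (pullback.diagonal p))]
  have e1 : pullback.fst d (pullback.diagonal p) ≫ a = pullback.snd d (pullback.diagonal p) := by
    rw [← hd1, ← Category.assoc, pullback.condition, Category.assoc, pullback.diagonal_fst,
      Category.comp_id]
  have e2 : pullback.fst d (pullback.diagonal p) ≫ b = pullback.snd d (pullback.diagonal p) := by
    rw [← hd2, ← Category.assoc, pullback.condition, Category.assoc, pullback.diagonal_snd,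
      Category.comp_id]
  rw [e1, e2]

end RigidH8
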