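import Groth.Agent.Lib.TorsorSeq_lead

/-! # Morphisms of rigidified bitorsors between extensions are homomorphisms (lead) -/

set_option linter.unusedSimpArgs false
set_option linter.unusedVariables false
set_option linter.unusedSectionVars false
set_option linter.style.longLine false
set_option maxHeartbeats 800000

universe u

open CategoryTheory CategoryTheory.Limits MonoidalCategory CartesianMonoidalCategory MonObj GrpObj
  AlgebraicGeometry Opposite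

namespace Groth.Agent.Lib.RigidBitorsor

open SchFpqcCovH7 Groth.Agent.Lib.TorsorSeq

section general

variable {C : Type*} [Category C] [CartesianMonoidalCategory C]

/-- A morphism of group objects which is multiplicative on points is a homomorphism. -/
theorem isMonHom_of_pointwise' {G H : C} [GrpObj G] [GrpObj H] (φ : G ⟶ H)
    (h : ∀ (T : C) (x y : T ⟶ G), (x * y) ≫ φ = (x ≫ φ) * (y ≫ φ)) : IsMonHom φ where
  one_hom := by
    have h1 := h (𝟙_ C) 1 1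
    rw [_root_.mul_one] at h1
    have h2 : (1 : 𝟙_ C ⟶ G) ≫ φ = 1 := by
      have h3 : ((1 : 𝟙_ C ⟶ G) ≫ φ) * 1 = ((1 : 𝟙_ C ⟶ G) ≫ φ) * ((1 : 𝟙_ C ⟶ G) ≫ φ) := by
        rw [_root_.mul_one]
        exact h1
      exact (mul_left_cancel h3).symm
    have e : toUnit (𝟙_ C) = 𝟙 _ := toUnit_unique _ _
    rw [Hom.one_def, Hom.one_def, e, Category.id_comp, Category.id_comp] at h2
    exact h2
  mul_hom := by
    have h1 := h (G ⊗ G) (fst G G) (snd G G)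
    rw [Hom.mul_def, Hom.mul_def, lift_fst_snd, Category.id_comp, lift_fst_comp_snd_comp] at h1
    exact h1

end general

variable {S : Scheme.{u}}

theorem rigid_hom (P G E E' : Over S) [GrpObj P] [GrpObj G] [GrpObj E] [GrpObj E'] [IsCommMonObj G]
    (u : G ⟶ E) (v : E ⟶ P) (hex : NonAbH1.IsExactSeq Scheme.fppfPrecoverage u v)
    (u' : G ⟶ E') (v' : E' ⟶ P) (hex' : NonAbH1.IsExactSeq Scheme.fppfPrecoverage u' v')
    (hPP : ∀ c : P ⊗ P ⟶ G, lift (𝟙 P) (toUnit P ≫ η[P]) ≫ c = 1 →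
      lift (toUnit P ≫ η[P]) (𝟙 P) ≫ c = 1 → c = 1)
    (f : E ⟶ E') (hv : f ≫ v' = v) (hu : u ≫ f = u') (h1 : η[E] ≫ f = η[E'])
    (hl : ∀ (T : Over S) (g : T ⟶ G) (x : T ⟶ E), ((g ≫ u) * x) ≫ f = (g ≫ u') * (x ≫ f))
    (hr : ∀ (T : Over S) (g : T ⟶ G) (x : T ⟶ E), (x * (g ≫ u)) ≫ f = (x ≫ f) * (g ≫ u')) :
    IsMonHom f := by
  obtain ⟨hu1, hv1, huv, hpb, hloc⟩ := hex
  obtain ⟨hu2, hv2, huv', hpb', hloc'⟩ := hex'
  haveI := hu1
  haveI := hv1
  haveI := hu2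
  haveI := hv2
  have hvcov : IsCov v.left := by
    have h1 : NonAbH1.IsLocallyTrivialFor Scheme.fpqcPrecoverage
        (Over.mk v.left : Over P.left) := by
      obtain ⟨R, hR, hs⟩ := hloc
      exact ⟨R, Scheme.fppfPrecoverage_le_fpqcPrecoverage _ hR, hs⟩
    exact isCov_of_locallyTrivial _ h1
  haveI hvepi : Epi v := epi_of_isCov v hvcov
  have hker : ∀ {T : Over S} (y : T ⟶ E), y ≫ v = 1 → ∃ g : T ⟶ G, g ≫ u = y := by
    intro T y hy
    obtain ⟨g, hg⟩ := exists_of_eq_v u v hpb 1 y (by rw [MonObj.one_comp, hy])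
    exact ⟨g, by rw [hg, _root_.one_mul]⟩
  have hker' : ∀ {T : Over S} (y : T ⟶ E'), y ≫ v' = 1 → ∃ g : T ⟶ G, g ≫ u' = y := by
    intro T y hy
    obtain ⟨g, hg⟩ := exists_of_eq_v u' v' hpb' 1 y (by rw [MonObj.one_comp, hy])
    exact ⟨g, by rw [hg, _root_.one_mul]⟩
  have hfv : ∀ {T : Over S} (x : T ⟶ E), (x ≫ f) ≫ v' = x ≫ v := by
    intro T x
    rw [Category.assoc, hv]
  have hf1 : ∀ {T : Over S}, (1 : T ⟶ E) ≫ f = 1 := by
    intro T
    rw [Hom.one_def, Category.assoc, h1, ← Hom.one_def]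
  -- the defect of multiplicativity
  obtain ⟨d, hd⟩ := hker' (((fst E E * snd E E) ≫ f) * (snd E E ≫ f)⁻¹ * (fst E E ≫ f)⁻¹) (by
    rw [MonObj.mul_comp, MonObj.mul_comp, GrpObj.inv_comp, GrpObj.inv_comp, hfv, hfv, hfv,
      MonObj.mul_comp]
    group)
  have hdp : ∀ {T : Over S} (x y : T ⟶ E),
      (lift x y ≫ d) ≫ u' = ((x * y) ≫ f) * (y ≫ f)⁻¹ * (x ≫ f)⁻¹ := by
    intro T x y
    have e : lift x y ≫ (fst E E * snd E E) ≫ f = (x * y) ≫ f := by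
      rw [← Category.assoc, MonObj.comp_mul, lift_fst, lift_snd]
    rw [Category.assoc, hd, MonObj.comp_mul, MonObj.comp_mul, GrpObj.comp_inv, GrpObj.comp_inv, e,
      lift_snd_assoc, lift_fst_assoc]
  have hcEE : IsCov (v ⊗ₘ v).left := isCov_tensorHom v v hvcov hvcov
  obtain ⟨dbar, hdbar⟩ := desc_of_isCov (v ⊗ₘ v) hcEE d (by
    intro T a₁ a₂ ha
    have k1 : (a₁ ≫ fst E E) ≫ v = (a₂ ≫ fst E E) ≫ v := by
      have := congrArg (fun k => k ≫ fst P P) ha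
      simpa only [Category.assoc, tensorHom_fst] using this
    have k2 : (a₁ ≫ snd E E) ≫ v = (a₂ ≫ snd E E) ≫ v := by
      have := congrArg (fun k => k ≫ snd P P) ha
      simpa only [Category.assoc, tensorHom_snd] using this
    obtain ⟨g, hg⟩ := exists_of_eq_v u v hpb _ _ k1
    obtain ⟨h, hh⟩ := exists_of_eq_v u v hpb _ _ k2
    obtain ⟨g', hg'⟩ := hker ((a₁ ≫ snd E E)⁻¹ * (g ≫ u) * (a₁ ≫ snd E E)) (by
      rw [MonObj.mul_comp, MonObj.mul_comp, GrpObj.inv_comp, Category.assoc g u v, huv,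
        MonObj.comp_one, _root_.mul_one, inv_mul_cancel])
    have hg'' : (g ≫ u) * (a₁ ≫ snd E E) = (a₁ ≫ snd E E) * (g' ≫ u) := by
      rw [hg']
      group
    apply u_cancel u' v' hpb'
    have m1 : (a₁ ≫ d) ≫ u' = (((a₁ ≫ fst E E) * (a₁ ≫ snd E E)) ≫ f) *
        ((a₁ ≫ snd E E) ≫ f)⁻¹ * ((a₁ ≫ fst E E) ≫ f)⁻¹ := by
      have := hdp (a₁ ≫ fst E E) (a₁ ≫ snd E E)
      rwa [lift_comp_fst_snd] at this
    have m2 : (a₂ ≫ d) ≫ u' = (((a₂ ≫ fst E E) * (a₂ ≫ snd E E)) ≫ f) *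
        ((a₂ ≫ snd E E) ≫ f)⁻¹ * ((a₂ ≫ fst E E) ≫ f)⁻¹ := by
      have := hdp (a₂ ≫ fst E E) (a₂ ≫ snd E E)
      rwa [lift_comp_fst_snd] at this
    have F1 : ((a₂ ≫ fst E E) * (a₂ ≫ snd E E)) ≫ f =
        (((a₁ ≫ fst E E) * (a₁ ≫ snd E E)) ≫ f) * (g' ≫ u') * (h ≫ u') := by
      have e : (a₂ ≫ fst E E) * (a₂ ≫ snd E E) =
          ((a₁ ≫ fst E E) * (a₁ ≫ snd E E)) * (g' ≫ u) * (h ≫ u) := by
        rw [hg, hh]
        calc (a₁ ≫ fst E E) * (g ≫ u) * ((a₁ ≫ snd E E) * (h ≫ u))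
            = (a₁ ≫ fst E E) * ((g ≫ u) * (a₁ ≫ snd E E)) * (h ≫ u) := by group
          _ = (a₁ ≫ fst E E) * ((a₁ ≫ snd E E) * (g' ≫ u)) * (h ≫ u) := by rw [hg'']
          _ = ((a₁ ≫ fst E E) * (a₁ ≫ snd E E)) * (g' ≫ u) * (h ≫ u) := by group
      rw [e, hr, hr]
    have F2 : (a₂ ≫ snd E E) ≫ f = ((a₁ ≫ snd E E) ≫ f) * (h ≫ u') := by
      rw [hh, hr]
    have F3 : (a₂ ≫ fst E E) ≫ f = ((a₁ ≫ fst E E) ≫ f) * (g ≫ u') := by
      rw [hg, hr]
    have F4 : ((a₁ ≫ snd E E) ≫ f) * (g' ≫ u') = (g ≫ u') * ((a₁ ≫ snd E E) ≫ f) := by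
      rw [← hr, ← hg'', hl]
    have F4' : (g' ≫ u') = ((a₁ ≫ snd E E) ≫ f)⁻¹ * ((g ≫ u') * ((a₁ ≫ snd E E) ≫ f)) := by
      rw [← F4]
      group
    rw [m1, m2, F1, F2, F3, F4']
    group)
  have hd1 : lift (𝟙 E) (1 : E ⟶ E) ≫ d = 1 := by
    apply u_cancel u' v' hpb'
    rw [hdp, MonObj.one_comp u', hf1, _root_.mul_one]
    group
  have hd2 : lift (1 : E ⟶ E) (𝟙 E) ≫ d = 1 := by
    apply u_cancel u' v' hpb'
    rw [hdp, MonObj.one_comp u', hf1, _root_.one_mul]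
    group
  have hg1 : lift (𝟙 P) (toUnit P ≫ η[P]) ≫ dbar = 1 := by
    rw [← Hom.one_def, ← cancel_epi v]
    have e : v ≫ lift (𝟙 P) (1 : P ⟶ P) = lift (𝟙 E) (1 : E ⟶ E) ≫ (v ⊗ₘ v) := by
      apply CartesianMonoidalCategory.hom_ext
      · rw [Category.assoc, lift_fst, Category.assoc, tensorHom_fst, lift_fst_assoc,
          Category.comp_id, Category.id_comp]
      · rw [Category.assoc, lift_snd, Category.assoc, tensorHom_snd, lift_snd_assoc,
          MonObj.comp_one, MonObj.one_comp]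
    rw [← Category.assoc, e, Category.assoc, hdbar, hd1, MonObj.comp_one]
  have hg2 : lift (toUnit P ≫ η[P]) (𝟙 P) ≫ dbar = 1 := by
    rw [← Hom.one_def, ← cancel_epi v]
    have e : v ≫ lift (1 : P ⟶ P) (𝟙 P) = lift (1 : E ⟶ E) (𝟙 E) ≫ (v ⊗ₘ v) := by
      apply CartesianMonoidalCategory.hom_ext
      · rw [Category.assoc, lift_fst, Category.assoc, tensorHom_fst, lift_fst_assoc,
          MonObj.comp_one, MonObj.one_comp]
      · rw [Category.assoc, lift_snd, Category.assoc, tensorHom_snd, lift_snd_assoc,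
          Category.comp_id, Category.id_comp]
    rw [← Category.assoc, e, Category.assoc, hdbar, hd2, MonObj.comp_one]
  have hd' : d = 1 := by
    rw [← hdbar, hPP dbar hg1 hg2, MonObj.comp_one]
  apply isMonHom_of_pointwise'
  intro T x y
  have k := hdp x y
  rw [hd', MonObj.comp_one, MonObj.one_comp] at k
  calc (x * y) ≫ f = (((x * y) ≫ f) * (y ≫ f)⁻¹ * (x ≫ f)⁻¹) * ((x ≫ f) * (y ≫ f)) := by group
    _ = (x ≫ f) * (y ≫ f) := by rw [← k, _root_.one_mul]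

end Groth.Agent.Lib.RigidBitorsor
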