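import Mathlib

set_option autoImplicit false
set_option maxHeartbeats 400000
universe u
open TensorProduct CategoryTheory MonoidalCategory

namespace Groth.Agent.Lib.RigidProj

section lin
variable {R : Type*} [CommRing R] {M : Type*} [AddCommGroup M] [Module R M]
  {n : ℕ} (e : Fin n → M) (φ : Fin n → Module.Dual R M)

noncomputable def coev : R →ₗ[R] M ⊗[R] Module.Dual R M :=
  LinearMap.toSpanSingleton R _ (∑ i, e i ⊗ₜ[R] φ i)

theorem coev_apply (r : R) : coev e φ r = r • ∑ i, e i ⊗ₜ[R] φ i := rfl

variable (hdb : ∀ m : M, m = ∑ i, φ i m • e i)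
include hdb

theorem lemmaA :
    (contractLeft R M).rTensor _ ∘ₗ (TensorProduct.assoc R _ _ _).symm.toLinearMap ∘ₗ
      (coev e φ).lTensor (Module.Dual R M) =
    (TensorProduct.lid R _).symm.toLinearMap ∘ₗ (TensorProduct.rid R _).toLinearMap := by
  apply TensorProduct.ext'
  intro ψ r
  have hψ : ∑ i, ψ (e i) • φ i = ψ := by
    apply LinearMap.ext; intro m
    rw [LinearMap.sum_apply]
    simp only [LinearMap.smul_apply, smul_eq_mul]
    conv_rhs => rw [hdb m, map_sum]
    refine Finset.sum_congr rfl fun i _ => ?_
    rw [map_smul, smul_eq_mul, mul_comm]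
  simp only [LinearMap.comp_apply, LinearEquiv.coe_coe, LinearMap.lTensor_tmul, coev_apply,
    TensorProduct.tmul_smul, TensorProduct.tmul_sum, map_sum, map_smul,
    TensorProduct.assoc_symm_tmul, LinearMap.rTensor_tmul, contractLeft_apply,
    TensorProduct.rid_tmul, TensorProduct.lid_symm_apply]
  congr 1
  conv_rhs => rw [← hψ]
  rw [TensorProduct.tmul_sum]
  refine Finset.sum_congr rfl fun i _ => ?_
  rw [TensorProduct.tmul_smul, TensorProduct.smul_tmul', smul_eq_mul, mul_one]

theorem lemmaB :
    (contractLeft R M).lTensor _ ∘ₗ (TensorProduct.assoc R _ _ _).toLinearMap ∘ₗ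
      (coev e φ).rTensor M =
    (TensorProduct.rid R _).symm.toLinearMap ∘ₗ (TensorProduct.lid R _).toLinearMap := by
  apply TensorProduct.ext'
  intro r m
  have key : ∑ i, e i ⊗ₜ[R] (φ i m) = m ⊗ₜ[R] (1 : R) := by
    conv_rhs => rw [hdb m]
    rw [TensorProduct.sum_tmul]
    refine Finset.sum_congr rfl fun i _ => ?_
    rw [TensorProduct.smul_tmul, smul_eq_mul, mul_one]
  simp only [LinearMap.comp_apply, LinearEquiv.coe_coe, LinearMap.rTensor_tmul, coev_apply,
    TensorProduct.lid_tmul, TensorProduct.rid_symm_apply]
  rw [← TensorProduct.smul_tmul', map_smul, map_smul, TensorProduct.sum_tmul, map_sum, map_sum]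
  simp only [TensorProduct.assoc_tmul, LinearMap.lTensor_tmul, contractLeft_apply]
  rw [key, TensorProduct.smul_tmul']

end lin

theorem main (R : Type u) [CommRing R] (M : ModuleCat.{u} R)
    [Module.Finite R M] [Module.Projective R M] : Nonempty (HasRightDual M) := by
  obtain ⟨n, π, s, -, -, hπs⟩ := Module.Finite.exists_comp_eq_id_of_projective R M
  classical
  let e : Fin n → M := fun i => π (Pi.single i 1)
  let φ : Fin n → Module.Dual R M := fun i => (LinearMap.proj i) ∘ₗ s
  have hdb : ∀ m : M, m = ∑ i, φ i m • e i := by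
    intro m
    have h1 : π (s m) = m := LinearMap.congr_fun hπs m
    conv_lhs => rw [← h1, pi_eq_sum_univ' (s m), map_sum]
    refine Finset.sum_congr rfl fun i _ => ?_
    rw [map_smul]
    rfl
  exact ⟨{ rightDual := ModuleCat.of R (Module.Dual R M)
           exact :=
            { coevaluation' := ModuleCat.ofHom (coev e φ)
              evaluation' := ModuleCat.ofHom (contractLeft R M)
              coevaluation_evaluation' := by
                ext : 1
                apply lemmaA e φ hdb
              evaluation_coevaluation' := by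
                ext : 1
                apply lemmaB e φ hdb } }⟩

end Groth.Agent.Lib.RigidProj
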