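import Mathlib
import Groth.Prelude.Def_CotT2
import Groth.Agent.Lib.T01Indep_helper1

/-!
# Rigid singularities are not smoothable, part 1: almost-retractions of the conormal map (helper3)

`HasAlmostRetr P τ` : there is `ψ : B ⊗ Ω_{R/A} → I/I²` with `ψ ∘ d = τ • id`.
* `hasAlmostRetr_iff` : elementary form with partial derivatives (finitely many variables);
* `hasAlmostRetr_of_generators` : independence of the generators.
-/

set_option autoImplicit false

namespace Groth.Agent.Lib.RigidSmH3

open MvPolynomial TensorProduct Groth.Agent.Lib.T01IndepH1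

universe u v w w'

variable {A : Type u} {B : Type v} [CommRing A] [CommRing B] [Algebra A B]

/-- the conormal map of the extension has a retraction up to multiplication by `τ`. -/
def HasAlmostRetr (E : Algebra.Extension.{w} A B) (τ : B) : Prop :=
  ∃ ψ : E.CotangentSpace →ₗ[B] E.Cotangent, ψ ∘ₗ E.cotangentComplex = τ • LinearMap.id

theorem hasAlmostRetr_iff_forall_QE (E : Algebra.Extension.{w} A B) (τ : B) :
    HasAlmostRetr E τ ↔
      ∀ x : QE E.Cotangent E, τ • x = 0 := by
  constructor
  · rintro ⟨ψ, hψ⟩ x
    obtain ⟨φ, rfl⟩ := Submodule.Quotient.mk_surjective _ x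
    rw [← Submodule.Quotient.mk_smul, Submodule.Quotient.mk_eq_zero]
    refine ⟨φ ∘ₗ ψ, ?_⟩
    rw [LinearMap.lcomp_apply', LinearMap.comp_assoc, hψ, LinearMap.comp_smul, LinearMap.comp_id]
  · intro h
    have h3 := h (Submodule.Quotient.mk LinearMap.id)
    rw [← Submodule.Quotient.mk_smul, Submodule.Quotient.mk_eq_zero] at h3
    obtain ⟨ψ, hψ⟩ := h3
    exact ⟨ψ, hψ⟩

theorem hasAlmostRetr_forall_QE {E : Algebra.Extension.{w} A B} {τ : B} (h : HasAlmostRetr E τ)
    (M : Type*) [AddCommGroup M] [Module B M] (x : QE M E) : τ • x = 0 := by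
  obtain ⟨ψ, hψ⟩ := h
  obtain ⟨φ, rfl⟩ := Submodule.Quotient.mk_surjective _ x
  rw [← Submodule.Quotient.mk_smul, Submodule.Quotient.mk_eq_zero]
  refine ⟨φ ∘ₗ ψ, ?_⟩
  rw [LinearMap.lcomp_apply', LinearMap.comp_assoc, hψ, LinearMap.comp_smul, LinearMap.comp_id]

/-- independence of the generators. -/
theorem hasAlmostRetr_of_generators {ι : Type w} {ι' : Type w'} (P : Algebra.Generators A B ι)
    (P' : Algebra.Generators A B ι') (τ : B) (h : HasAlmostRetr P.toExtension τ) :
    HasAlmostRetr P'.toExtension τ := by
  rw [hasAlmostRetr_iff_forall_QE]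
  intro x
  obtain ⟨e⟩ := nonempty_QE P'.toExtension.Cotangent
    (P.defaultHom P').toExtensionHom (P'.defaultHom P).toExtensionHom
  apply e.symm.injective
  rw [map_smul, map_zero]
  exact hasAlmostRetr_forall_QE h _ _

section Elementary

variable {ι : Type w} [Fintype ι] (P : Algebra.Generators A B ι)

set_option backward.defeqAttrib.useBackward true in
set_option backward.isDefEq.respectTransparency false in
theorem cotangentComplex_mk_eq_sum (x : P.toExtension.ker) :
    P.toExtension.cotangentComplex (Algebra.Extension.Cotangent.mk x) =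
      ∑ i, (aeval P.val (pderiv i x.val)) • P.cotangentSpaceBasis i := by
  rw [← P.cotangentSpaceBasis.sum_repr
    (P.toExtension.cotangentComplex (Algebra.Extension.Cotangent.mk x))]
  refine Finset.sum_congr rfl fun i _ => ?_
  congr 1
  rw [Algebra.Extension.cotangentComplex_mk]
  simp only [Algebra.Generators.toExtension_Ring, P.cotangentSpaceBasis_repr_tmul, one_mul]

omit [Fintype ι] in
theorem algebraMap_smul_cotangent (r : P.Ring) (c : P.toExtension.Cotangent) :
    (aeval P.val r) • c = r • c := by
  rw [← P.algebraMap_apply]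
  exact algebraMap_smul B r c

set_option backward.defeqAttrib.useBackward true in
set_option backward.isDefEq.respectTransparency false in
theorem psi_d_mk (ψ : P.toExtension.CotangentSpace →ₗ[B] P.toExtension.Cotangent)
    (x : P.toExtension.ker) (g : ι → P.toExtension.ker)
    (hg : ∀ i, ψ (P.cotangentSpaceBasis i) = Algebra.Extension.Cotangent.mk (g i)) :
    ψ (P.toExtension.cotangentComplex (Algebra.Extension.Cotangent.mk x)) =
      Algebra.Extension.Cotangent.mk
        (∑ i, (pderiv i (x.val : MvPolynomial ι A) : P.toExtension.Ring) • g i) := by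
  rw [cotangentComplex_mk_eq_sum P x, map_sum, map_sum]
  refine Finset.sum_congr rfl fun i _ => ?_
  rw [map_smul, hg, algebraMap_smul_cotangent, ← map_smul]

set_option backward.defeqAttrib.useBackward true in
set_option backward.isDefEq.respectTransparency false in
theorem hasAlmostRetr_iff (θ : MvPolynomial ι A) :
    HasAlmostRetr P.toExtension (aeval P.val θ) ↔
      ∃ g : ι → MvPolynomial ι A, (∀ i, g i ∈ RingHom.ker (aeval (R := A) P.val)) ∧
        ∀ f ∈ RingHom.ker (aeval (R := A) P.val),
          ∑ i, pderiv i f * g i - θ * f ∈ RingHom.ker (aeval (R := A) P.val) ^ 2 := by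
  have hker : P.toExtension.ker = RingHom.ker (aeval (R := A) P.val) := P.ker_eq_ker_aeval_val
  constructor
  · rintro ⟨ψ, hψ⟩
    choose g hg using fun i => Algebra.Extension.Cotangent.mk_surjective
      (ψ (P.cotangentSpaceBasis i))
    refine ⟨fun i => (g i).1, fun i => hker ▸ (g i).2, fun f hf => ?_⟩
    let x : P.toExtension.ker := ⟨f, hker ▸ hf⟩
    have h1 := LinearMap.congr_fun hψ (Algebra.Extension.Cotangent.mk x)
    rw [LinearMap.comp_apply, psi_d_mk P ψ x g (fun i => (hg i).symm), LinearMap.smul_apply,
      LinearMap.id_apply, algebraMap_smul_cotangent, ← map_smul,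
      Algebra.Extension.Cotangent.mk_eq_mk_iff_sub_mem] at h1
    simp only [Submodule.coe_sum, Submodule.coe_smul, smul_eq_mul] at h1
    rw [← hker]
    exact h1
  · rintro ⟨g, hgm, hg⟩
    let g' : ι → P.toExtension.ker := fun i => ⟨g i, hker ▸ hgm i⟩
    refine ⟨P.cotangentSpaceBasis.constr B fun i => Algebra.Extension.Cotangent.mk (g' i), ?_⟩
    apply LinearMap.ext
    intro c
    obtain ⟨x, rfl⟩ := Algebra.Extension.Cotangent.mk_surjective c
    rw [LinearMap.comp_apply, psi_d_mk P _ x g' (fun i => Module.Basis.constr_basis _ _ _ _),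
      LinearMap.smul_apply, LinearMap.id_apply, algebraMap_smul_cotangent, ← map_smul,
      Algebra.Extension.Cotangent.mk_eq_mk_iff_sub_mem]
    have h2 := hg x.1 (hker ▸ x.2)
    rw [← hker] at h2
    simp only [Submodule.coe_sum, Submodule.coe_smul, smul_eq_mul]
    exact h2

end Elementary

end Groth.Agent.Lib.RigidSmH3
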