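import Mathlib
import Groth.Agent.Lib.RigidSm1_helper3

/-!
# Rigid singularities are not smoothable, part 2 (helper3)

* `lamStar` : applying a linear functional `T → k` to the coefficients of a polynomial;
* `descend_elementary` : an almost-retraction (up to `τ`) over `T` for the base change of an ideal
  of `k[X]` gives an honest retraction over `k` as soon as some functional has `l τ = 1`;
* `reduce_elementary` : almost-retractions reduce along a surjection `A → T`;
* `ker_aeval_reduce` : the kernel of the reduced presentation.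
-/

set_option autoImplicit false

namespace Groth.Agent.Lib.RigidSmH3

open MvPolynomial TensorProduct

section LamStar

variable {k : Type*} {T : Type*} [CommRing k] [CommRing T] [Algebra k T] {σ : Type*}

/-- apply a `k`-linear functional to all coefficients. -/
noncomputable def lamStar (l : T →ₗ[k] k) (p : MvPolynomial σ T) : MvPolynomial σ k :=
  AddMonoidAlgebra.map (l : T →+ k) p

theorem coeff_lamStar (l : T →ₗ[k] k) (p : MvPolynomial σ T) (m : σ →₀ ℕ) :
    coeff m (lamStar l p) = l (coeff m p) := rfl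

theorem lamStar_zero (l : T →ₗ[k] k) : lamStar l (0 : MvPolynomial σ T) = 0 := by
  ext m; rw [coeff_lamStar, coeff_zero, coeff_zero, map_zero]

theorem lamStar_add (l : T →ₗ[k] k) (p q : MvPolynomial σ T) :
    lamStar l (p + q) = lamStar l p + lamStar l q := by
  ext m; simp only [coeff_lamStar, coeff_add, map_add]

theorem lamStar_sub (l : T →ₗ[k] k) (p q : MvPolynomial σ T) :
    lamStar l (p - q) = lamStar l p - lamStar l q := by
  ext m; simp only [coeff_lamStar, coeff_sub, map_sub]

theorem lamStar_sum {ι : Type*} (l : T →ₗ[k] k) (s : Finset ι) (p : ι → MvPolynomial σ T) :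
    lamStar l (∑ i ∈ s, p i) = ∑ i ∈ s, lamStar l (p i) := by
  ext m; simp only [coeff_lamStar, coeff_sum, map_sum]

theorem lamStar_map_mul (l : T →ₗ[k] k) (r : MvPolynomial σ k) (q : MvPolynomial σ T) :
    lamStar l (map (algebraMap k T) r * q) = r * lamStar l q := by
  classical
  ext m
  rw [coeff_lamStar, coeff_mul, coeff_mul, map_sum]
  refine Finset.sum_congr rfl fun x _ => ?_
  rw [coeff_map, coeff_lamStar, ← Algebra.smul_def, map_smul, smul_eq_mul]

theorem lamStar_C (l : T →ₗ[k] k) (τ : T) : lamStar l (C τ : MvPolynomial σ T) = C (l τ) := by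
  classical
  ext m
  rw [coeff_lamStar, coeff_C, coeff_C]
  split_ifs
  · rfl
  · exact map_zero l

theorem lamStar_mem (l : T →ₗ[k] k) (I : Ideal (MvPolynomial σ k)) {q : MvPolynomial σ T}
    (hq : q ∈ I.map (map (algebraMap k T))) : lamStar l q ∈ I := by
  have key : ∀ s : MvPolynomial σ T, lamStar l (s * q) ∈ I := by
    refine Submodule.span_induction (p := fun x _ => ∀ s : MvPolynomial σ T, lamStar l (s * x) ∈ I)
      ?_ ?_ ?_ ?_ hq
    · rintro x ⟨f, hf, rfl⟩ s
      rw [mul_comm, lamStar_map_mul]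
      exact I.mul_mem_right _ hf
    · intro s
      rw [mul_zero, lamStar_zero]
      exact I.zero_mem
    · intro x y _ _ hx hy s
      rw [mul_add, lamStar_add]
      exact I.add_mem (hx s) (hy s)
    · intro a x _ hx s
      rw [smul_eq_mul, ← mul_assoc]
      exact hx (s * a)
  have := key 1
  rwa [one_mul] at this

theorem descend_elementary [Fintype σ] (I₀ : Ideal (MvPolynomial σ k)) (l : T →ₗ[k] k) (τ : T)
    (hτ : l τ = 1) (g : σ → MvPolynomial σ T)
    (hg : ∀ i, g i ∈ I₀.map (map (algebraMap k T)))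
    (h : ∀ f ∈ I₀.map (map (algebraMap k T)),
      ∑ i, pderiv i f * g i - C τ * f ∈ (I₀.map (map (algebraMap k T))) ^ 2) :
    ∃ g₀ : σ → MvPolynomial σ k, (∀ i, g₀ i ∈ I₀) ∧
      ∀ f ∈ I₀, ∑ i, pderiv i f * g₀ i - 1 * f ∈ I₀ ^ 2 := by
  refine ⟨fun i => lamStar l (g i), fun i => lamStar_mem l I₀ (hg i), fun f hf => ?_⟩
  have h1 := h (map (algebraMap k T) f) (Ideal.mem_map_of_mem _ hf)
  rw [← Ideal.map_pow] at h1
  have h2 := lamStar_mem l (I₀ ^ 2) h1
  have h3 : lamStar l (∑ i, pderiv i (map (algebraMap k T) f) * g i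
      - C τ * map (algebraMap k T) f) = ∑ i, pderiv i f * lamStar l (g i) - 1 * f := by
    rw [lamStar_sub, lamStar_sum]
    congr 1
    · refine Finset.sum_congr rfl fun i _ => ?_
      rw [pderiv_map, lamStar_map_mul]
    · rw [mul_comm, lamStar_map_mul, lamStar_C, hτ, map_one, mul_one, one_mul]
  rwa [h3] at h2

end LamStar

section Reduce

variable {A : Type*} {T : Type*} [CommRing A] [CommRing T] {σ : Type*}

theorem reduce_elementary [Fintype σ] (φ₀ : A →+* T) (hφ₀ : Function.Surjective φ₀)
    (I : Ideal (MvPolynomial σ A)) (θ : MvPolynomial σ A) (g : σ → MvPolynomial σ A)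
    (h : ∀ f ∈ I, ∑ i, pderiv i f * g i - θ * f ∈ I ^ 2) :
    ∀ f ∈ I.map (map φ₀),
      ∑ i, pderiv i f * map φ₀ (g i) - map φ₀ θ * f ∈ (I.map (map φ₀)) ^ 2 := by
  intro f hf
  obtain ⟨f₀, hf₀, rfl⟩ := (Ideal.mem_map_iff_of_surjective _ (map_surjective φ₀ hφ₀)).1 hf
  have h1 := Ideal.mem_map_of_mem (map φ₀) (h f₀ hf₀)
  rw [Ideal.map_pow, map_sub, map_sum, map_mul] at h1
  have h2 : ∑ i, pderiv i (map φ₀ f₀) * map φ₀ (g i) = ∑ i, (map φ₀) (pderiv i f₀ * g i) := by
    refine Finset.sum_congr rfl fun i _ => ?_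
    rw [map_mul, pderiv_map]
  rw [h2]
  exact h1

variable {B : Type*} {B' : Type*} [CommRing B] [CommRing B'] [Algebra A T] [Algebra A B]
  [Algebra A B'] [Algebra T B'] [IsScalarTower A T B']

theorem aeval_reduce (ρ : B →ₐ[A] B') (v : σ → B) (y : MvPolynomial σ A) :
    aeval (R := T) (fun i => ρ (v i)) (map (algebraMap A T) y) = ρ (aeval (R := A) v y) := by
  rw [MvPolynomial.aeval_map_algebraMap T, ← MvPolynomial.comp_aeval_apply]

theorem ker_aeval_reduce (hAT : Function.Surjective (algebraMap A T)) (ρ : B →ₐ[A] B')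
    (hρ : RingHom.ker (ρ : B →+* B') = (RingHom.ker (algebraMap A T)).map (algebraMap A B))
    (v : σ → B) (hv : Function.Surjective (aeval (R := A) v)) :
    RingHom.ker (aeval (R := T) (fun i => ρ (v i))) =
      (RingHom.ker (aeval (R := A) v)).map (map (algebraMap A T)) := by
  apply le_antisymm
  · intro x hx
    obtain ⟨y, rfl⟩ := map_surjective (algebraMap A T) hAT x
    rw [RingHom.mem_ker, aeval_reduce] at hx
    have hz : aeval (R := A) v y ∈ (RingHom.ker (algebraMap A T)).map (algebraMap A B) := by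
      rw [← hρ]; exact hx
    have hmap : (RingHom.ker (algebraMap A T)).map (algebraMap A B) =
        ((RingHom.ker (algebraMap A T)).map (C : A →+* MvPolynomial σ A)).map
          (aeval (R := A) v : MvPolynomial σ A →+* B) := by
      rw [Ideal.map_map]
      congr 1
      ext a
      simp
    rw [hmap] at hz
    obtain ⟨w, hw, hwz⟩ := (Ideal.mem_map_iff_of_surjective _ hv).1 hz
    have hw0 : map (algebraMap A T) w = 0 := by
      have hle : (RingHom.ker (algebraMap A T)).map (C : A →+* MvPolynomial σ A) ≤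
          RingHom.ker (map (algebraMap A T) : MvPolynomial σ A →+* MvPolynomial σ T) := by
        rw [Ideal.map_le_iff_le_comap]
        intro a ha
        rw [Ideal.mem_comap, RingHom.mem_ker, map_C, (RingHom.mem_ker).1 ha, map_zero]
      exact hle hw
    have hyw : y - w ∈ RingHom.ker (aeval (R := A) v) := by
      rw [RingHom.mem_ker, map_sub, sub_eq_zero]
      exact hwz.symm
    have := Ideal.mem_map_of_mem (map (algebraMap A T)) hyw
    rwa [map_sub, hw0, sub_zero] at this
  · rw [Ideal.map_le_iff_le_comap]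
    intro y hy
    rw [Ideal.mem_comap, RingHom.mem_ker, aeval_reduce, (RingHom.mem_ker).1 hy, map_zero]

end Reduce

end Groth.Agent.Lib.RigidSmH3
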