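import Mathlib
import Groth.Agent.Lib.RigidSm2_helper3

/-!
# Rigid singularities are not smoothable, part 3 (helper3)

Bridges between `HasAlmostRetr` and the elementary statements, and the core assembly:
if `B` over `A` has an almost retraction up to `a`, `B ⊗_A T ≃ T ⊗_k B₀` for a quotient `T` of `A`
and some `k`-linear functional on `T` takes the value `1` at the image of `a`, then `B₀` is formally
smooth over `k`.
-/

set_option autoImplicit false

namespace Groth.Agent.Lib.RigidSmH3

open MvPolynomial TensorProduct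

universe u v w

section Reduce

variable {A : Type*} {T : Type*} [CommRing A] [CommRing T]
variable {B : Type*} {B' : Type*} [CommRing B] [CommRing B'] [Algebra A T] [Algebra A B]
  [Algebra A B'] [Algebra T B'] [IsScalarTower A T B']

theorem hasAlmostRetr_reduce {ι : Type*} [Fintype ι] (P : Algebra.Generators A B ι)
    (hAT : Function.Surjective (algebraMap A T)) (ρ : B →ₐ[A] B') (hρs : Function.Surjective ρ)
    (hρ : RingHom.ker (ρ : B →+* B') = (RingHom.ker (algebraMap A T)).map (algebraMap A B))
    (a : A) (h : HasAlmostRetr P.toExtension (algebraMap A B a)) :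
    ∃ P' : Algebra.Generators T B' ι,
      HasAlmostRetr P'.toExtension (algebraMap T B' (algebraMap A T a)) := by
  have hsurj : Function.Surjective (aeval (R := T) (fun i => ρ (P.val i))) := by
    intro b'
    obtain ⟨b, rfl⟩ := hρs b'
    obtain ⟨y, rfl⟩ := P.aeval_val_surjective b
    exact ⟨map (algebraMap A T) y, aeval_reduce ρ P.val y⟩
  let P' : Algebra.Generators T B' ι :=
    Algebra.Generators.ofSurjective (fun i => ρ (P.val i)) hsurj
  refine ⟨P', ?_⟩
  have h1 : algebraMap A B a = aeval P.val (C a) := by rw [aeval_C]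
  rw [h1, hasAlmostRetr_iff] at h
  obtain ⟨g, hgm, hg⟩ := h
  have h2 : algebraMap T B' (algebraMap A T a) = aeval P'.val (C (algebraMap A T a)) := by
    rw [aeval_C]
  rw [h2, hasAlmostRetr_iff]
  have hker : RingHom.ker (aeval (R := T) P'.val) =
      (RingHom.ker (aeval (R := A) P.val)).map (map (algebraMap A T)) :=
    ker_aeval_reduce hAT ρ hρ P.val P.aeval_val_surjective
  refine ⟨fun i => map (algebraMap A T) (g i), fun i => ?_, ?_⟩
  · rw [hker]; exact Ideal.mem_map_of_mem _ (hgm i)
  · rw [hker]
    intro f hf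
    have := reduce_elementary (algebraMap A T) hAT _ (C a) g hg f hf
    rwa [map_C] at this

end Reduce

section Descend

variable {k : Type*} {T : Type*} [Field k] [CommRing T] [Algebra k T]
variable {B₀ : Type*} {B'' : Type*} [CommRing B₀] [CommRing B''] [Algebra k B₀] [Algebra T B'']

theorem formallySmooth_of_hasAlmostRetr {ι : Type*} [Fintype ι] (P₀ : Algebra.Generators k B₀ ι)
    (P'' : Algebra.Generators T B'' ι)
    (hker : RingHom.ker (aeval (R := T) P''.val) =
      (RingHom.ker (aeval (R := k) P₀.val)).map (map (algebraMap k T)))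
    (l : T →ₗ[k] k) (τ : T) (hτ : l τ = 1)
    (h : HasAlmostRetr P''.toExtension (algebraMap T B'' τ)) :
    Algebra.FormallySmooth k B₀ := by
  have h2 : algebraMap T B'' τ = aeval P''.val (C τ) := by rw [aeval_C]
  rw [h2, hasAlmostRetr_iff, hker] at h
  obtain ⟨g, hgm, hg⟩ := h
  obtain ⟨g₀, hg₀m, hg₀⟩ := descend_elementary _ l τ hτ g hgm hg
  have h3 : HasAlmostRetr P₀.toExtension (aeval P₀.val (1 : MvPolynomial ι k)) :=
    (hasAlmostRetr_iff P₀ 1).2 ⟨g₀, hg₀m, hg₀⟩
  rw [map_one] at h3
  obtain ⟨ψ, hψ⟩ := h3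
  rw [one_smul] at hψ
  haveI : Algebra.FormallySmooth k P₀.toExtension.Ring :=
    inferInstanceAs (Algebra.FormallySmooth k (MvPolynomial ι k))
  exact (Algebra.Extension.formallySmooth_iff_split_injection P₀.toExtension).2 ⟨ψ, hψ⟩

end Descend

section Core

variable {k : Type*} {A : Type*} {B : Type*} {B₀ : Type*} {T : Type*}
  [Field k] [CommRing A] [CommRing B] [CommRing B₀] [CommRing T]
  [Algebra k A] [Algebra A B] [Algebra k B₀] [Algebra A T] [Algebra k T] [IsScalarTower k A T]

theorem ker_baseChange_val {ι σ : Type*} (P₀ : Algebra.Presentation k B₀ ι σ) :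
    RingHom.ker (aeval (R := T) (P₀.baseChange T).val) =
      (RingHom.ker (aeval (R := k) P₀.val)).map (map (algebraMap k T)) := by
  have h1 : RingHom.ker (aeval (R := T) (P₀.baseChange T).val) =
      Ideal.span (Set.range fun i ↦ (MvPolynomial.map (algebraMap k T)) (P₀.relation i)) :=
    (P₀.span_range_relation_eq_ker_baseChange T).symm
  rw [h1, ← P₀.ker_eq_ker_aeval_val, ← P₀.span_range_relation_eq_ker, Ideal.map_span,
    ← Set.range_comp]
  rfl

theorem formallySmooth_core {ι ι₀ σ₀ : Type*} [Fintype ι] [Fintype ι₀]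
    (P : Algebra.Generators A B ι) (P₀ : Algebra.Presentation k B₀ ι₀ σ₀)
    (hAT : Function.Surjective (algebraMap A T))
    (ρ : B →ₐ[A] T ⊗[k] B₀) (hρs : Function.Surjective ρ)
    (hρ : RingHom.ker (ρ : B →+* T ⊗[k] B₀) =
      (RingHom.ker (algebraMap A T)).map (algebraMap A B))
    (a : A) (h : HasAlmostRetr P.toExtension (algebraMap A B a))
    (l : T →ₗ[k] k) (hl : l (algebraMap A T a) = 1) :
    Algebra.FormallySmooth k B₀ := by
  obtain ⟨P', hP'⟩ := hasAlmostRetr_reduce P hAT ρ hρs hρ a h
  have h2 := hasAlmostRetr_of_generators P' (P₀.baseChange T).toGenerators _ hP'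
  exact formallySmooth_of_hasAlmostRetr P₀.toGenerators (P₀.baseChange T).toGenerators
    (ker_baseChange_val P₀) l _ hl h2

end Core

end Groth.Agent.Lib.RigidSmH3
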