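import Mathlib

/-!
# Rigid singularities are not smoothable, part 5: trivialising `B / t^(n+1)` (helper3)

Given a `k`-algebra section `s : B₀ → B / t^(n+1) B` of the projection to `B / t B ≃ B₀`, with `t`
regular on `B` and `A = k + tA`, the map `A/t^(n+1) ⊗_k B₀ → B / t^(n+1) B` is bijective; we get a
surjection `B → A/t^(n+1) ⊗_k B₀` of `A`-algebras with kernel `t^(n+1) B`.
-/

set_option autoImplicit false

namespace Groth.Agent.Lib.RigidSmH3

universe u

open TensorProduct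

section Triv

variable {k A B B₀ : Type u} [Field k] [CommRing A] [CommRing B] [CommRing B₀] [Algebra k A]
  [Algebra A B] [Algebra k B] [IsScalarTower k A B] [Algebra k B₀]

theorem exists_rho (t : A) (tB : B) (htt : algebraMap A B t = tB) (n : ℕ)
    (hS1 : ∀ a : A, ∃ r : k, ∃ a' : A, a = algebraMap k A r + t * a')
    (htB : IsSMulRegular B tB)
    (hle : Ideal.span {tB ^ (n + 1)} ≤ Ideal.span {tB})
    (e : (B ⧸ Ideal.span {tB}) ≃ₐ[k] B₀)
    (s : B₀ →ₐ[k] B ⧸ Ideal.span {tB ^ (n + 1)})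
    (hs : ∀ c, e (Ideal.Quotient.factor hle (s c)) = c) :
    ∃ ρ : B →ₐ[A] (A ⧸ Ideal.span {t ^ (n + 1)}) ⊗[k] B₀, Function.Surjective ρ ∧
      RingHom.ker (ρ : B →+* (A ⧸ Ideal.span {t ^ (n + 1)}) ⊗[k] B₀) =
        (RingHom.ker (algebraMap A (A ⧸ Ideal.span {t ^ (n + 1)}))).map (algebraMap A B) := by
  -- the structure map `T → Bn`
  let f : (A ⧸ Ideal.span {t ^ (n + 1)}) →ₐ[A] (B ⧸ Ideal.span {tB ^ (n + 1)}) :=
    Ideal.Quotient.liftₐ (Ideal.span {t ^ (n + 1)})
      (Algebra.ofId A (B ⧸ Ideal.span {tB ^ (n + 1)})) (by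
    intro a ha
    obtain ⟨a', rfl⟩ := Ideal.mem_span_singleton'.1 ha
    show algebraMap A (B ⧸ Ideal.span {tB ^ (n + 1)}) (a' * t ^ (n + 1)) = 0
    rw [IsScalarTower.algebraMap_apply A B (B ⧸ Ideal.span {tB ^ (n + 1)}),
      Ideal.Quotient.algebraMap_eq, Ideal.Quotient.eq_zero_iff_mem, map_mul, map_pow, htt]
    exact Ideal.mul_mem_left _ _ (Ideal.mem_span_singleton_self _))
  have hf : ∀ a : A, f (Ideal.Quotient.mk _ a) =
      Ideal.Quotient.mk (Ideal.span {tB ^ (n + 1)}) (algebraMap A B a) := by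
    intro a
    rfl
  let τ : (A ⧸ Ideal.span {t ^ (n + 1)}) ⊗[k] B₀ →ₐ[A] (B ⧸ Ideal.span {tB ^ (n + 1)}) :=
    Algebra.TensorProduct.lift f s (fun _ _ => Commute.all _ _)
  have hτ : ∀ (a : A ⧸ Ideal.span {t ^ (n + 1)}) (c : B₀), τ (a ⊗ₜ c) = f a * s c :=
    fun a c => rfl
  let q : (B ⧸ Ideal.span {tB ^ (n + 1)}) →+* B₀ :=
    (e : (B ⧸ Ideal.span {tB}) →+* B₀).comp (Ideal.Quotient.factor hle)
  have hq : ∀ b : B, q (Ideal.Quotient.mk _ b) = e (Ideal.Quotient.mk _ b) := fun b => rfl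
  have hqs : ∀ c, q (s c) = c := hs
  have h0 : Ideal.Quotient.mk (Ideal.span {tB}) tB = 0 :=
    Ideal.Quotient.eq_zero_iff_mem.2 (Ideal.mem_span_singleton_self tB)
  have hqt : q (Ideal.Quotient.mk _ tB) = 0 := by
    rw [hq, h0, map_zero]
  have hqker : ∀ w : B ⧸ Ideal.span {tB ^ (n + 1)}, q w = 0 →
      ∃ z : B ⧸ Ideal.span {tB ^ (n + 1)}, w = Ideal.Quotient.mk _ tB * z := by
    intro w hw
    obtain ⟨b, rfl⟩ := Ideal.Quotient.mk_surjective w
    rw [hq] at hw
    have h1 : Ideal.Quotient.mk (Ideal.span {tB}) b = 0 := by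
      apply e.injective
      rw [hw, map_zero]
    rw [Ideal.Quotient.eq_zero_iff_mem] at h1
    obtain ⟨a, rfl⟩ := Ideal.mem_span_singleton'.1 h1
    exact ⟨Ideal.Quotient.mk _ a, by rw [← map_mul, mul_comm]⟩
  -- the action of `t`
  have hτt : ∀ (j : ℕ) (x : (A ⧸ Ideal.span {t ^ (n + 1)}) ⊗[k] B₀),
      τ (t ^ j • x) = Ideal.Quotient.mk _ tB ^ j * τ x := by
    intro j x
    rw [map_smul, Algebra.smul_def,
      IsScalarTower.algebraMap_apply A B (B ⧸ Ideal.span {tB ^ (n + 1)}),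
      Ideal.Quotient.algebraMap_eq, map_pow, map_pow, htt]
  have hqf : ∀ (r : k) (a' : A), q (f (Ideal.Quotient.mk _ (algebraMap k A r + t * a'))) =
      algebraMap k B₀ r := by
    intro r a'
    rw [hf, hq, map_add, map_mul, ← IsScalarTower.algebraMap_apply k A B, map_add, map_mul,
      htt, h0, zero_mul, add_zero, ← Ideal.Quotient.algebraMap_eq,
      ← IsScalarTower.algebraMap_apply k B (B ⧸ Ideal.span {tB}), AlgEquiv.commutes]
  -- decomposition
  have hdec : ∀ x : (A ⧸ Ideal.span {t ^ (n + 1)}) ⊗[k] B₀,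
      ∃ x'' : (A ⧸ Ideal.span {t ^ (n + 1)}) ⊗[k] B₀,
        x = (1 : A ⧸ Ideal.span {t ^ (n + 1)}) ⊗ₜ[k] q (τ x) + t • x'' := by
    intro x
    induction x using TensorProduct.induction_on with
    | zero => exact ⟨0, by rw [map_zero, map_zero, tmul_zero, smul_zero, add_zero]⟩
    | tmul a c =>
      obtain ⟨a, rfl⟩ := Ideal.Quotient.mk_surjective a
      obtain ⟨r, a', rfl⟩ := hS1 a
      refine ⟨(Ideal.Quotient.mk _ a') ⊗ₜ c, ?_⟩
      rw [hτ, map_mul, hqf, hqs, ← Algebra.smul_def, tmul_smul, smul_tmul', smul_tmul',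
        ← add_tmul]
      congr 1
      rw [map_add, map_mul, Algebra.smul_def, mul_one, Algebra.smul_def,
        Ideal.Quotient.algebraMap_eq, ← Ideal.Quotient.algebraMap_eq,
        ← IsScalarTower.algebraMap_apply k A (A ⧸ Ideal.span {t ^ (n + 1)})]
    | add x y hx hy =>
      obtain ⟨x'', hx''⟩ := hx
      obtain ⟨y'', hy''⟩ := hy
      refine ⟨x'' + y'', ?_⟩
      rw [map_add, map_add, tmul_add, smul_add]
      calc x + y = ((1 : A ⧸ Ideal.span {t ^ (n + 1)}) ⊗ₜ[k] q (τ x) + t • x'') +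
            ((1 : A ⧸ Ideal.span {t ^ (n + 1)}) ⊗ₜ[k] q (τ y) + t • y'') := by
            rw [← hx'', ← hy'']
        _ = _ := by abel
  -- powers of t kill
  have hkillB : Ideal.Quotient.mk (Ideal.span {tB ^ (n + 1)}) tB ^ (n + 1) = 0 := by
    rw [← map_pow]
    exact Ideal.Quotient.eq_zero_iff_mem.2 (Ideal.mem_span_singleton_self _)
  have hkillM : ∀ x : (A ⧸ Ideal.span {t ^ (n + 1)}) ⊗[k] B₀, t ^ (n + 1) • x = 0 := by
    intro x
    rw [← IsScalarTower.algebraMap_smul (A ⧸ Ideal.span {t ^ (n + 1)}) (t ^ (n + 1)) x,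
      Ideal.Quotient.algebraMap_eq]
    have : Ideal.Quotient.mk (Ideal.span {t ^ (n + 1)}) (t ^ (n + 1)) = 0 :=
      Ideal.Quotient.eq_zero_iff_mem.2 (Ideal.mem_span_singleton_self _)
    rw [this, zero_smul]
  -- surjectivity
  have hsurj : Function.Surjective τ := by
    intro y
    have key : ∀ j : ℕ, ∃ x : (A ⧸ Ideal.span {t ^ (n + 1)}) ⊗[k] B₀,
        ∃ z : B ⧸ Ideal.span {tB ^ (n + 1)}, y = τ x + Ideal.Quotient.mk _ tB ^ j * z := by
      intro j
      induction j with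
      | zero => exact ⟨0, y, by rw [map_zero, pow_zero, one_mul, zero_add]⟩
      | succ j ih =>
        obtain ⟨x, z, hxz⟩ := ih
        have h1 : q (z - s (q z)) = 0 := by rw [map_sub, hqs, sub_self]
        obtain ⟨z', hz'⟩ := hqker _ h1
        refine ⟨x + t ^ j • ((1 : A ⧸ Ideal.span {t ^ (n + 1)}) ⊗ₜ[k] q z), z', ?_⟩
        rw [map_add, hτt, hτ, map_one, one_mul, hxz,
          pow_succ (Ideal.Quotient.mk (Ideal.span {tB ^ (n + 1)}) tB) j]
        have h2 : z = s (q z) + Ideal.Quotient.mk _ tB * z' := by rw [← hz']; ring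
        conv_lhs => rw [h2]
        ring
    obtain ⟨x, z, hxz⟩ := key (n + 1)
    rw [hkillB, zero_mul, add_zero] at hxz
    exact ⟨x, hxz.symm⟩
  -- injectivity
  have hinj : Function.Injective τ := by
    rw [injective_iff_map_eq_zero]
    intro x hx
    have key : ∀ j : ℕ, j ≤ n + 1 →
        ∃ x' : (A ⧸ Ideal.span {t ^ (n + 1)}) ⊗[k] B₀, x = t ^ j • x' := by
      intro j
      induction j with
      | zero => intro _; exact ⟨x, by rw [pow_zero, one_smul]⟩
      | succ j ih =>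
        intro hj
        obtain ⟨x', hx'⟩ := ih (by omega)
        have h1 : Ideal.Quotient.mk (Ideal.span {tB ^ (n + 1)}) tB ^ j * τ x' = 0 := by
          rw [← hτt, ← hx', hx]
        obtain ⟨b, hb⟩ := Ideal.Quotient.mk_surjective (τ x')
        have h1' : Ideal.Quotient.mk (Ideal.span {tB ^ (n + 1)}) (tB ^ j * b) = 0 := by
          rw [map_mul, map_pow, hb]
          exact h1
        rw [Ideal.Quotient.eq_zero_iff_mem] at h1'
        obtain ⟨a, ha⟩ := Ideal.mem_span_singleton'.1 h1'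
        have h2 : tB ^ j • b = tB ^ j • (a * tB ^ (n - j) * tB) := by
          rw [smul_eq_mul, smul_eq_mul, ← ha]
          have : n + 1 = j + (n - j) + 1 := by omega
          rw [this]
          ring
        have h3 : b = a * tB ^ (n - j) * tB := (htB.pow j) h2
        have h4 : q (τ x') = 0 := by
          rw [← hb, h3, map_mul, map_mul q, hqt, mul_zero]
        obtain ⟨x'', hx''⟩ := hdec x'
        rw [h4, tmul_zero, zero_add] at hx''
        exact ⟨x'', by rw [hx', hx'', smul_smul, pow_succ t j]⟩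
    obtain ⟨x', hx'⟩ := key (n + 1) le_rfl
    rw [hx', hkillM]
  let τe : (A ⧸ Ideal.span {t ^ (n + 1)}) ⊗[k] B₀ ≃ₐ[A] (B ⧸ Ideal.span {tB ^ (n + 1)}) :=
    AlgEquiv.ofBijective τ ⟨hinj, hsurj⟩
  refine ⟨τe.symm.toAlgHom.comp (Ideal.Quotient.mkₐ A (Ideal.span {tB ^ (n + 1)})), ?_, ?_⟩
  · exact τe.symm.surjective.comp Ideal.Quotient.mk_surjective
  · ext b
    rw [RingHom.mem_ker, Ideal.Quotient.algebraMap_eq, Ideal.mk_ker, Ideal.map_span,
      Set.image_singleton, map_pow, htt]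
    show τe.symm (Ideal.Quotient.mk _ b) = 0 ↔ _
    rw [map_eq_zero_iff _ τe.symm.injective, Ideal.Quotient.eq_zero_iff_mem]

end Triv

end Groth.Agent.Lib.RigidSmH3
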