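import Mathlib
import Groth.Prelude.Def_CotT2
import Groth.Agent.Lib.ExalT1_helper1
import Groth.Agent.Lib.CotT1Smooth_helper3
import Groth.Agent.Lib.RigidSm3_helper3
import Groth.Agent.Lib.RigidSm4_helper3
import Groth.Agent.Lib.RigidSm5_helper3

/-!
# Rigid singularities are not smoothable: assembly (helper3)
-/

set_option autoImplicit false

namespace Groth.Agent.Lib.RigidSmH3

universe u

open TensorProduct

theorem main12306
    {k : Type u} [Field k] [IsAlgClosed k] (B₀ : Type u) [CommRing B₀] [Algebra k B₀]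
    [Algebra.FiniteType k B₀]
    (hsing : ¬ Algebra.Smooth k B₀) (hrigid : Subsingleton (CotT.T1 (CotT.canon k B₀) B₀))
    (A B : Type u) [CommRing A] [CommRing B] [IsDomain A] [Algebra k A] [Algebra.FiniteType k A]
    (hdim : ringKrullDim A = 1) (t : A) (ht : (Ideal.span {t}).IsMaximal)
    [Algebra A B] [Algebra.FiniteType A B] [Module.Flat A B] [Algebra k B] [IsScalarTower k A B]
    (e : (B ⧸ Ideal.span {algebraMap A B t}) ≃ₐ[k] B₀) :
    ∃ q : PrimeSpectrum B, algebraMap A B t ∉ q.asIdeal ∧ q ∉ Algebra.smoothLocus A B := by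
  by_contra hcon
  push_neg at hcon
  haveI : IsNoetherianRing A := Algebra.FiniteType.isNoetherianRing k A
  haveI : Algebra.FinitePresentation A B :=
    Algebra.FinitePresentation.of_finiteType.mp inferInstance
  haveI : Algebra.FinitePresentation k B₀ :=
    Algebra.FinitePresentation.of_finiteType.mp inferInstance
  let P := Algebra.Presentation.ofFinitePresentation A B
  let P₀ := Algebra.Presentation.ofFinitePresentation k B₀
  -- the almost retraction
  have hsm : Algebra.FormallySmooth A (Localization.Away (algebraMap A B t)) := by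
    rw [← Algebra.basicOpen_subset_smoothLocus_iff]
    exact fun q hq => hcon q hq
  obtain ⟨n, ψ, hψ⟩ := (CotT1SmoothH3.formallySmooth_away_iff P (algebraMap A B t)
    (Localization.Away (algebraMap A B t))).1 hsm
  have hretr : HasAlmostRetr P.toGenerators.toExtension (algebraMap A B (t ^ n)) := by
    rw [map_pow]
    exact ⟨ψ, hψ⟩
  -- basic facts on `t`
  have ht0 : t ≠ 0 := by
    intro h0
    have hbot : (⊥ : Ideal A).IsMaximal := by
      have : Ideal.span {t} = ⊥ := by rw [h0]; exact Ideal.span_singleton_eq_bot.2 rfl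
      rw [← this]; exact ht
    have hF : IsField A := Ring.isField_iff_maximal_bot.2 hbot
    rw [ringKrullDim_eq_zero_of_isField hF] at hdim
    exact zero_ne_one hdim
  have htu : ¬ IsUnit t := by
    intro hu
    exact ht.ne_top (Ideal.span_singleton_eq_top.2 hu)
  -- `A = k + tA`
  have hS1 : ∀ a : A, ∃ r : k, ∃ a' : A, a = algebraMap k A r + t * a' := by
    haveI := ht
    letI : Field (A ⧸ Ideal.span {t}) := Ideal.Quotient.field (Ideal.span {t})
    haveI : Module.Finite k (A ⧸ Ideal.span {t}) :=
      finite_of_finite_type_of_isJacobsonRing k (A ⧸ Ideal.span {t})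
    haveI : Algebra.IsIntegral k (A ⧸ Ideal.span {t}) := Algebra.IsIntegral.of_finite k _
    have hbij := IsAlgClosed.algebraMap_bijective_of_isIntegral (k := k) (K := A ⧸ Ideal.span {t})
    intro a
    obtain ⟨r, hr⟩ := hbij.2 (Ideal.Quotient.mk _ a)
    rw [IsScalarTower.algebraMap_apply k A (A ⧸ Ideal.span {t}), Ideal.Quotient.algebraMap_eq,
      Ideal.Quotient.eq, Ideal.mem_span_singleton'] at hr
    obtain ⟨a', ha'⟩ := hr
    refine ⟨r, -a', ?_⟩
    have : a = algebraMap k A r - a' * t := by rw [ha']; ring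
    rw [this]; ring
  -- regularity
  have hregA : IsSMulRegular A t := (isRegular_of_ne_zero ht0).left.isSMulRegular
  have htB : IsSMulRegular B (algebraMap A B t) := IsSMulRegular.of_flat hregA
  -- triviality of extensions
  have H : ∀ X : Exal.Ext k B₀ B₀, X.IsTrivial := by
    obtain ⟨e', -⟩ := ExalT1H1.main12292 k B₀ B₀
    haveI : Subsingleton (Exal.Exalcom k B₀ B₀) := e'.injective.subsingleton
    exact fun X => isTrivial_of_subsingleton inferInstance X
  obtain ⟨s, hs⟩ := exists_sections (algebraMap A B t) htB e H n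
  obtain ⟨ρ, hρs, hρ⟩ := exists_rho t (algebraMap A B t) rfl n hS1 htB
    (span_pow_succ_le (algebraMap A B t) n) e s hs
  -- the functional
  have hv : algebraMap A (A ⧸ Ideal.span {t ^ (n + 1)}) (t ^ n) ≠ 0 := by
    rw [Ideal.Quotient.algebraMap_eq, Ne, Ideal.Quotient.eq_zero_iff_mem,
      Ideal.mem_span_singleton']
    rintro ⟨a, ha⟩
    have h1 : t ^ n * (a * t) = t ^ n * 1 := by
      calc t ^ n * (a * t) = a * t ^ (n + 1) := by ring
        _ = t ^ n := ha
        _ = t ^ n * 1 := (mul_one _).symm
    have h2 : a * t = 1 := mul_left_cancel₀ (pow_ne_zero n ht0) h1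
    exact htu (IsUnit.of_mul_eq_one _ (by rw [mul_comm]; exact h2))
  have hker : LinearMap.ker (LinearMap.toSpanSingleton k (A ⧸ Ideal.span {t ^ (n + 1)})
      (algebraMap A (A ⧸ Ideal.span {t ^ (n + 1)}) (t ^ n))) = ⊥ := by
    rw [LinearMap.ker_eq_bot']
    intro r hr
    rw [LinearMap.toSpanSingleton_apply] at hr
    exact (smul_eq_zero.1 hr).resolve_right hv
  obtain ⟨l, hl⟩ := LinearMap.exists_leftInverse_of_injective _ hker
  have hl1 : l (algebraMap A (A ⧸ Ideal.span {t ^ (n + 1)}) (t ^ n)) = 1 := by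
    have := LinearMap.congr_fun hl 1
    rw [LinearMap.comp_apply, LinearMap.toSpanSingleton_apply, one_smul] at this
    exact this
  have hfs : Algebra.FormallySmooth k B₀ :=
    formallySmooth_core P.toGenerators P₀ Ideal.Quotient.mk_surjective ρ hρs hρ (t ^ n) hretr l hl1
  exact hsing ⟨hfs, inferInstance⟩

end Groth.Agent.Lib.RigidSmH3
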