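import Mathlib

/-!
# Product formula for rising factorials `h (h+τ) ⋯ (h+(n-1)τ)` (S14088)
-/

universe u

namespace Groth.Agent.Lib.RisingFactProd

variable {A : Type*} [CommRing A]

/-- rising factorial -/
def P (h τ : A) (N : ℕ) : A := ∏ i ∈ Finset.range N, (h + (i : A) * τ)

/-- the coefficient -/
def c (n m s : ℕ) : A :=
  (-1 : A) ^ s * (Nat.factorial s : A) * (Nat.choose n s : A) * (Nat.choose m s : A)

lemma key (m s : ℕ) :
    ((Nat.choose m (s + 1) : ℕ) : A) * ((s : A) + 1) = (Nat.choose m s : A) * ((m : A) - (s : A)) := by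
  by_cases hs : s ≤ m
  · have h1 := Nat.choose_succ_right_eq m s
    have h2 := congrArg (fun t : ℕ => (t : A)) h1
    simp only [Nat.cast_mul, Nat.cast_add, Nat.cast_one, Nat.cast_sub hs] at h2
    exact h2
  · have h1 : Nat.choose m s = 0 := Nat.choose_eq_zero_of_lt (by omega)
    have h2 : Nat.choose m (s + 1) = 0 := Nat.choose_eq_zero_of_lt (by omega)
    rw [h1, h2]
    simp

lemma c_rec (n m s : ℕ) :
    (c (n + 1) m (s + 1) : A) = c n m (s + 1) - c n m s * ((m : A) - (s : A)) := by
  unfold c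
  rw [Nat.choose_succ_succ, Nat.factorial_succ]
  push_cast
  have hk := key (A := A) m s
  linear_combination ((-1 : A) ^ (s + 1) * (Nat.factorial s : A) * (Nat.choose n s : A)) * hk

lemma c_zero (n m : ℕ) : (c n m 0 : A) = 1 := by simp [c]

lemma c_top (n m : ℕ) : (c n m (n + 1) : A) = 0 := by
  simp [c, Nat.choose_succ_self]

lemma x_mul_P (h τ : A) (n m s : ℕ) (hs : s ≤ n) :
    (h + (n : A) * τ) * P h τ (m + n - s)
      = P h τ (m + n - s + 1) - ((m : A) - (s : A)) * τ * P h τ (m + n - s) := by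
  have h1 : P h τ (m + n - s + 1) = P h τ (m + n - s) * (h + ((m + n - s : ℕ) : A) * τ) :=
    Finset.prod_range_succ _ _
  rw [h1, Nat.cast_sub (by omega), Nat.cast_add]
  ring

theorem P_mul_P (h τ : A) (n : ℕ) : ∀ m : ℕ,
    P h τ n * P h τ m = ∑ s ∈ Finset.range (n + 1), c n m s * τ ^ s * P h τ (m + n - s) := by
  induction n with
  | zero =>
    intro m
    simp [P, c]
  | succ n ih =>
    intro m
    have h1 : P h τ (n + 1) = P h τ n * (h + (n : A) * τ) := Finset.prod_range_succ _ _
    rw [h1, mul_right_comm, ih m, Finset.sum_mul]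
    have h2 : ∀ s ∈ Finset.range (n + 1),
        c n m s * τ ^ s * P h τ (m + n - s) * (h + (n : A) * τ)
          = c n m s * τ ^ s * P h τ (m + n - s + 1)
            - c n m s * ((m : A) - (s : A)) * τ ^ (s + 1) * P h τ (m + n - s) := by
      intro s hs
      have hs' : s ≤ n := Nat.lt_succ_iff.mp (Finset.mem_range.mp hs)
      have := x_mul_P h τ n m s hs'
      rw [mul_assoc, mul_comm (P h τ (m + n - s)), this, pow_succ]
      ring
    rw [Finset.sum_congr rfl h2, Finset.sum_sub_distrib]
    -- target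
    rw [Finset.sum_range_succ' (fun s => (c (n + 1) m s : A) * τ ^ s * P h τ (m + (n + 1) - s))]
    have h3 : ∀ s ∈ Finset.range (n + 1),
        (c (n + 1) m (s + 1) : A) * τ ^ (s + 1) * P h τ (m + (n + 1) - (s + 1))
          = c n m (s + 1) * τ ^ (s + 1) * P h τ (m + n - s)
            - c n m s * ((m : A) - (s : A)) * τ ^ (s + 1) * P h τ (m + n - s) := by
      intro s _
      have e : m + (n + 1) - (s + 1) = m + n - s := by omega
      rw [e, c_rec]
      ring
    rw [Finset.sum_congr rfl h3, Finset.sum_sub_distrib]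
    have h4 : ∑ s ∈ Finset.range (n + 1), (c n m s : A) * τ ^ s * P h τ (m + n - s + 1)
        = ∑ s ∈ Finset.range (n + 1), (c n m (s + 1) : A) * τ ^ (s + 1) * P h τ (m + n - s)
          + P h τ (m + n + 1) := by
      rw [Finset.sum_range_succ' (fun s => (c n m s : A) * τ ^ s * P h τ (m + n - s + 1)),
        Finset.sum_range_succ (fun s => (c n m (s + 1) : A) * τ ^ (s + 1) * P h τ (m + n - s)),
        c_top, c_zero]
      have h5 : ∀ s ∈ Finset.range n,
          (c n m (s + 1) : A) * τ ^ (s + 1) * P h τ (m + n - (s + 1) + 1)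
            = c n m (s + 1) * τ ^ (s + 1) * P h τ (m + n - s) := by
        intro s hs
        have hs' : s < n := Finset.mem_range.mp hs
        have e : m + n - (s + 1) + 1 = m + n - s := by omega
        rw [e]
      rw [Finset.sum_congr rfl h5]
      simp
    rw [h4, c_zero]
    have e0 : m + (n + 1) - 0 = m + n + 1 := by omega
    rw [e0]
    ring

theorem main (A : Type u) [CommRing A] (h τ : A) (n m : ℕ) (hnm : n ≤ m) :
    (∏ i ∈ Finset.range n, (h + (i : A) * τ) ^ 2) * ∏ i ∈ Finset.Ico n m, (h + (i : A) * τ) =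
      ∑ s ∈ Finset.range (n + 1), (-1 : A) ^ s * (Nat.factorial s : A) * (Nat.choose n s : A) *
        (Nat.choose m s : A) * τ ^ s * ∏ i ∈ Finset.range (m + n - s), (h + (i : A) * τ) := by
  have h1 := P_mul_P h τ n m
  have h2 : P h τ m = P h τ n * ∏ i ∈ Finset.Ico n m, (h + (i : A) * τ) :=
    (Finset.prod_range_mul_prod_Ico _ hnm).symm
  have h3 : (∏ i ∈ Finset.range n, (h + (i : A) * τ) ^ 2) = P h τ n * P h τ n := by
    rw [Finset.prod_pow, pow_two]
    rfl
  rw [h3, mul_assoc, ← h2, h1]
  rfl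

end Groth.Agent.Lib.RisingFactProd
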