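import Mathlib
import Groth.Prelude.Def_CohCx
import Groth.Prelude.Def_FreeSh
import Groth.Prelude.Def_CohSite
import Groth.Prelude.Def_CohTop
import Groth.Prelude.Def_DCoh2
import Groth.Agent.Lib.TruncSectSh_helper7
import Groth.Agent.Lib.ExtTower_helper7

/-!
# Cohomology sheaves of a derived limit: `H^q(R lim K_n) = lim H^q(K_n)` (helper7)
-/

set_option autoImplicit false
universe u
open CategoryTheory CategoryTheory.Limits Opposite DerivedCategory Pretriangulated TopologicalSpace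

namespace Groth.Agent.Lib.RlimHomology_helper7

open Groth.Agent.Lib Groth.Agent.Lib.HDSheaf_helper7 Groth.Agent.Lib.SiteCmpLoc_helper7
  Groth.Agent.Lib.RlimInj_helper7 Groth.Agent.Lib.TruncTower_helper7
  Groth.Agent.Lib.TruncSect_helper7 Groth.Agent.Lib.TruncRlim_helper7
  Groth.Agent.Lib.TruncSectSh_helper7

section alg

lemma limOne_of_equiv {A A' : ℕ → Type u} [∀ n, AddCommGroup (A n)] [∀ n, AddCommGroup (A' n)]
    (t : ∀ n, A (n + 1) →+ A n) (t' : ∀ n, A' (n + 1) →+ A' n) (e : ∀ n, A n →+ A' n)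
    (he : ∀ n, Function.Bijective (e n))
    (hc : ∀ n x, e n (t n x) = t' n (e (n + 1) x)) (h : CohCx.LimOneIsZero A' t') :
    CohCx.LimOneIsZero A t := by
  intro g
  obtain ⟨a', ha'⟩ := h (fun n => e n (g n))
  choose inv hinv using fun n => (he n).2
  refine ⟨fun n => inv n (a' n), ?_⟩
  funext n
  apply (he n).1
  show e n (inv n (a' n) - t n (inv (n + 1) (a' (n + 1)))) = e n (g n)
  rw [map_sub, hinv, hc, hinv]
  exact congrFun ha' n

end alg

section site

variable {C : Type u} [SmallCategory C] {J : GrothendieckTopology C}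
  [HasDerivedCategory.{u} (Sheaf J AddCommGrpCat.{u})]

/-- the shifted version of `etaApp`: `Hom(ℤ_U[0], M[q]) → H^q(M)(U)` -/
noncomputable def etaQ (M : DerivedCategory (Sheaf J AddCommGrpCat.{u})) (q : ℤ) (U : C) :
    ((singleFunctor (Sheaf J AddCommGrpCat.{u}) 0).obj (Z J U) ⟶ M⟦q⟧) →+
      (CohCx.HD M q).obj.obj (op U) :=
  AddMonoidHom.comp
    (AddCommGrpCat.Hom.hom ((((homologyFunctor (Sheaf J AddCommGrpCat.{u}) 0).shiftIso q 0 q
      (add_zero q)).app M).hom.hom.app (op U)))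
    (etaApp (M⟦q⟧) U)

lemma etaQ_apply (M : DerivedCategory (Sheaf J AddCommGrpCat.{u})) (q : ℤ) (U : C)
    (σ : (singleFunctor (Sheaf J AddCommGrpCat.{u}) 0).obj (Z J U) ⟶ M⟦q⟧) :
    etaQ M q U σ = ((((homologyFunctor (Sheaf J AddCommGrpCat.{u}) 0).shiftIso q 0 q
      (add_zero q)).app M).hom.hom.app (op U)).hom (etaApp (M⟦q⟧) U σ) := rfl

lemma etaQ_comp {M M' : DerivedCategory (Sheaf J AddCommGrpCat.{u})} (β : M ⟶ M') (q : ℤ) (U : C)
    (σ : (singleFunctor (Sheaf J AddCommGrpCat.{u}) 0).obj (Z J U) ⟶ M⟦q⟧) :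
    etaQ M' q U (σ ≫ β⟦q⟧') =
      (((homologyFunctor (Sheaf J AddCommGrpCat.{u}) q).map β).hom.app (op U)).hom
        (etaQ M q U σ) := by
  have h1 := etaApp_comp (β⟦q⟧') U σ
  have hnat := ((homologyFunctor (Sheaf J AddCommGrpCat.{u}) 0).shiftIso q 0 q
    (add_zero q)).hom.naturality β
  have h2 := congrArg (fun κ => (κ.hom.app (op U)).hom (etaApp (M⟦q⟧) U σ)) hnat
  refine (etaQ_apply M' q U _).trans ?_
  refine (congrArg ((((homologyFunctor (Sheaf J AddCommGrpCat.{u}) 0).shiftIso q 0 q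
      (add_zero q)).app M').hom.hom.app (op U)).hom h1).trans ?_
  exact h2

lemma etaQ_bijective (M : DerivedCategory (Sheaf J AddCommGrpCat.{u})) (B : Set C)
    (hB : ∀ U : C, ∃ (ι : Type u) (Y : ι → C) (f : ∀ i, Y i ⟶ U),
      Sieve.ofArrows Y f ∈ J U ∧ ∀ i, Y i ∈ B)
    (h : ∀ U ∈ B, ∀ (p : ℕ) (q : ℤ), Subsingleton (CohSite.HU (CohCx.HD M q) (p + 1) U))
    (U : C) (hU : U ∈ B) (q : ℤ) : Function.Bijective (etaQ M q U) := by
  have hM : ∀ W ∈ B, ∀ (k : ℕ) (j : ℤ), j < 0 →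
      Subsingleton (CohSite.HU (CohCx.HD (M⟦q⟧) j) (k + 1) W) := by
    intro W hW k j _
    exact ext_subsingleton_of_iso
      (((homologyFunctor (Sheaf J AddCommGrpCat.{u}) 0).shiftIso q j (q + j) rfl).app M).symm
      (k + 1) (h W hW k (q + j))
  have hbij := etaApp_bijective (M⟦q⟧) B hB hM U hU
  have hE := bijective_of_isIso
    (((homologyFunctor (Sheaf J AddCommGrpCat.{u}) 0).shiftIso q 0 q (add_zero q)).app M).hom U
  exact hE.comp hbij

lemma etaQ_locSurj (M : DerivedCategory (Sheaf J AddCommGrpCat.{u})) (q : ℤ) (U : C)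
    (s : (CohCx.HD M q).obj.obj (op U)) :
    ∃ S ∈ J U, ∀ ⦃V : C⦄ (i : V ⟶ U), S i →
      ∃ σ : (singleFunctor (Sheaf J AddCommGrpCat.{u}) 0).obj (Z J V) ⟶ M⟦q⟧,
        etaQ M q V σ = ((CohCx.HD M q).obj.map i.op).hom s := by
  let Ei := ((homologyFunctor (Sheaf J AddCommGrpCat.{u}) 0).shiftIso q 0 q (add_zero q)).app M
  let s₀ := (Ei.inv.hom.app (op U)).hom s
  have hs₀ : (Ei.hom.hom.app (op U)).hom s₀ = s :=
    congrArg (fun κ => (κ.hom.app (op U)).hom s) Ei.inv_hom_id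
  obtain ⟨S, hS, hS'⟩ := locSurj (M⟦q⟧) U s₀
  refine ⟨S, hS, fun V i hi => ?_⟩
  obtain ⟨σ, hσ⟩ := hS' i hi
  refine ⟨σ, ?_⟩
  refine (etaQ_apply M q V σ).trans ?_
  refine (congrArg (Ei.hom.hom.app (op V)).hom hσ).trans ?_
  have hnat := ConcreteCategory.congr_hom (Ei.hom.hom.naturality i.op) s₀
  refine hnat.trans ?_
  exact congrArg ((CohCx.HD M q).obj.map i.op).hom hs₀

/-- sections of a limit sheaf are determined by their components -/
lemma lim_sect_ext (Ft : ℕᵒᵖ ⥤ Sheaf J AddCommGrpCat.{u}) (W : C)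
    (y y' : (limit Ft).obj.obj (op W))
    (h : ∀ n : ℕ, ((limit.π Ft (op n)).hom.app (op W)).hom y =
      ((limit.π Ft (op n)).hom.app (op W)).hom y') : y = y' := by
  have hg : CohFree.ofSect J W _ y = CohFree.ofSect J W _ y' := by
    apply limit.hom_ext
    intro j
    obtain ⟨n⟩ := j
    apply (CohFree.homEquivSect J W _).injective
    have e1 : CohFree.evalGen J W _ (CohFree.ofSect J W _ y ≫ limit.π Ft (op n)) =
        ((limit.π Ft (op n)).hom.app (op W)).hom
          (CohFree.evalGen J W _ (CohFree.ofSect J W _ y)) := rfl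
    have e2 : CohFree.evalGen J W _ (CohFree.ofSect J W _ y' ≫ limit.π Ft (op n)) =
        ((limit.π Ft (op n)).hom.app (op W)).hom
          (CohFree.evalGen J W _ (CohFree.ofSect J W _ y')) := rfl
    show CohFree.evalGen J W _ (CohFree.ofSect J W _ y ≫ limit.π Ft (op n)) =
      CohFree.evalGen J W _ (CohFree.ofSect J W _ y' ≫ limit.π Ft (op n))
    rw [e1, e2, CohFree.evalGen_ofSect, CohFree.evalGen_ofSect]
    exact h n
  have h3 := congrArg (CohFree.evalGen J W _) hg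
  rwa [CohFree.evalGen_ofSect, CohFree.evalGen_ofSect] at h3

/-- cone over a tower from a compatible family -/
noncomputable def coneOfCompat (Ft : ℕᵒᵖ ⥤ Sheaf J AddCommGrpCat.{u})
    {W : Sheaf J AddCommGrpCat.{u}} (c : ∀ n : ℕ, W ⟶ Ft.obj (op n))
    (h : ∀ n, c (n + 1) ≫ Ft.map (homOfLE (Nat.le_succ n)).op = c n) : Cone Ft where
  pt := W
  π :=
    { app := fun j => c j.unop
      naturality := fun j j' f => by
        obtain ⟨m⟩ := j
        obtain ⟨n⟩ := j'
        have hf : f = (homOfLE (leOfHom f.unop)).op := Quiver.Hom.unop_inj (Subsingleton.elim _ _)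
        rw [hf]
        simp only [Functor.const_obj_obj, Functor.const_obj_map, Category.id_comp]
        exact (Groth.Agent.Lib.ExtTower_helper7.compat_hom Ft c h m n (leOfHom f.unop)).symm }

/-- the tower of cohomology sheaves -/
noncomputable abbrev FtK (K : ℕ → DerivedCategory (Sheaf J AddCommGrpCat.{u}))
    (t : ∀ n, K (n + 1) ⟶ K n) (q : ℤ) : ℕᵒᵖ ⥤ Sheaf J AddCommGrpCat.{u} :=
  CohCx.opSequence (fun n => CohCx.HD (K n) q)
    (fun n => (DerivedCategory.homologyFunctor _ q).map (t n))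

lemma etr (K : ℕ → DerivedCategory (Sheaf J AddCommGrpCat.{u}))
    (t : ∀ n, K (n + 1) ⟶ K n) (q : ℤ) (n : ℕ) :
    (FtK K t q).map (homOfLE (Nat.le_succ n)).op =
      (homologyFunctor (Sheaf J AddCommGrpCat.{u}) q).map (t n) :=
  Functor.ofOpSequence_map_homOfLE_succ _ n

theorem main0878
    (K : ℕ → DerivedCategory (Sheaf J AddCommGrpCat.{u})) (t : ∀ n, K (n + 1) ⟶ K n) [HasProduct K]
    (L : DerivedCategory (Sheaf J AddCommGrpCat.{u})) (hL : DCoh.IsRlim K t L) (B : Set C)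
    (hB : ∀ U : C, ∃ (ι : Type u) (Y : ι → C) (f : ∀ i, Y i ⟶ U),
      Sieve.ofArrows Y f ∈ J U ∧ ∀ i, Y i ∈ B)
    (h1 : ∀ U ∈ B, ∀ (p : ℕ) (q : ℤ) (n : ℕ),
      Subsingleton (CohSite.HU (CohCx.HD (K n) q) (p + 1) U))
    (h2 : ∀ U ∈ B, ∀ (q : ℤ), CohCx.LimOneIsZero (fun n => (CohCx.HD (K n) q).obj.obj (op U))
      (fun n => (((DerivedCategory.homologyFunctor _ q).map (t n)).hom.app (op U)).hom))
    (q : ℤ) :
    Nonempty (CohCx.HD L q ≅ limit (CohCx.opSequence (fun n => CohCx.HD (K n) q)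
      (fun n => (DerivedCategory.homologyFunctor _ q).map (t n)))) := by
  obtain ⟨a, c, hT⟩ := hL
  have ha : Pi.lift (fun n => a ≫ Pi.π K n) = a := by
    apply Limits.Pi.hom_ext
    intro n
    rw [Pi.lift_π]
  have hVia : CohCx.IsRlimVia K t L (fun n => a ≫ Pi.π K n) := ⟨c, by rw [ha]; exact hT⟩
  obtain ⟨an, han⟩ : ∃ an : ∀ n, L ⟶ K n, an = fun n => a ≫ Pi.π K n := ⟨_, rfl⟩
  rw [← han] at hVia
  have hcompat : ∀ n, an (n + 1) ≫ t n = an n := a_compat K t L an hVia
  -- the comparison map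
  let cn : ∀ n : ℕ, CohCx.HD L q ⟶ (FtK K t q).obj (op n) :=
    fun n => (homologyFunctor (Sheaf J AddCommGrpCat.{u}) q).map (an n)
  have hcn : ∀ n, cn (n + 1) ≫ (FtK K t q).map (homOfLE (Nat.le_succ n)).op = cn n := by
    intro n
    rw [etr]
    show (homologyFunctor (Sheaf J AddCommGrpCat.{u}) q).map (an (n + 1)) ≫
      (homologyFunctor (Sheaf J AddCommGrpCat.{u}) q).map (t n) =
      (homologyFunctor (Sheaf J AddCommGrpCat.{u}) q).map (an n)
    rw [← CategoryTheory.Functor.map_comp, hcompat]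
  obtain ⟨ψ, hψπ⟩ : ∃ ψ : CohCx.HD L q ⟶ limit (FtK K t q), ∀ n, ψ ≫ limit.π (FtK K t q) (op n) =
      (homologyFunctor (Sheaf J AddCommGrpCat.{u}) q).map (an n) :=
    ⟨limit.lift (FtK K t q) (coneOfCompat (FtK K t q) cn hcn), fun n => limit.lift_π _ _⟩
  have hΘ : ∀ (q' : ℤ) (W : C), W ∈ B → ∀ n, Function.Bijective (etaQ (K n) q' W) :=
    fun q' W hW n => etaQ_bijective (K n) B hB (fun W' hW' p q'' => h1 W' hW' p q'' n) W hW q'
  have hcomp : ∀ (W : C) (σ : (singleFunctor (Sheaf J AddCommGrpCat.{u}) 0).obj (Z J W) ⟶ L⟦q⟧)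
      (n : ℕ), ((limit.π (FtK K t q) (op n)).hom.app (op W)).hom
        ((ψ.hom.app (op W)).hom (etaQ L q W σ)) = etaQ (K n) q W (σ ≫ (an n)⟦q⟧') := by
    intro W σ n
    have e1 := congrArg (fun κ => (κ.hom.app (op W)).hom (etaQ L q W σ)) (hψπ n)
    exact e1.trans (etaQ_comp (an n) q W σ).symm
  have hΦinj : ∀ W ∈ B, ∀ σ : (singleFunctor (Sheaf J AddCommGrpCat.{u}) 0).obj (Z J W) ⟶ L⟦q⟧,
      (ψ.hom.app (op W)).hom (etaQ L q W σ) = 0 → σ = 0 := by
    intro W hW σ hσ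
    have hl : CohCx.LimOneIsZero
        (fun n => (singleFunctor (Sheaf J AddCommGrpCat.{u}) 0).obj (Z J W) ⟶ (K n)⟦q - 1⟧)
        (fun n => Preadditive.rightComp _ ((t n)⟦q - 1⟧')) := by
      refine limOne_of_equiv _ _ (fun n => etaQ (K n) (q - 1) W) (fun n => hΘ (q - 1) W hW n)
        (fun n x => ?_) (h2 W hW (q - 1))
      exact etaQ_comp (t n) (q - 1) W x
    apply (Groth.Agent.Lib.RlimHom.main K t L an hVia _ q).2 hl σ
    intro n
    apply (hΘ q W hW n).1
    refine (hcomp W σ n).symm.trans ?_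
    refine (congrArg ((limit.π (FtK K t q) (op n)).hom.app (op W)).hom hσ).trans ?_
    exact (map_zero _).trans (map_zero _).symm
  have hinj : ∀ V : C, Function.Injective (ψ.hom.app (op V)).hom := by
    intro V
    refine (injective_iff_map_eq_zero (ψ.hom.app (op V)).hom).2 (fun s hs => ?_)
    obtain ⟨S, hS, hS'⟩ := etaQ_locSurj L q V s
    obtain ⟨ι, Y, f, hf, hcov, hYB⟩ := cover_in_B B hB V S hS
    apply eq_zero_of_cover _ (Sieve.ofArrows Y f) hcov s
    intro W g hg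
    obtain ⟨i, b, rfl⟩ := (Sieve.mem_ofArrows_iff _ _ g).1 hg
    obtain ⟨σ, hσ⟩ := hS' (f i) (hf i)
    have h0 : (ψ.hom.app (op (Y i))).hom (etaQ L q (Y i) σ) = 0 := by
      refine (congrArg (ψ.hom.app (op (Y i))).hom hσ).trans ?_
      have hnat := ConcreteCategory.congr_hom (ψ.hom.naturality (f i).op) s
      refine hnat.trans ?_
      exact (congrArg ((limit (FtK K t q)).obj.map (f i).op).hom hs).trans (map_zero _)
    have hσ0 := hΦinj (Y i) (hYB i) σ h0
    have h1' : ((CohCx.HD L q).obj.map (f i).op).hom s = 0 := by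
      rw [← hσ, hσ0, map_zero]
    have h2' := ConcreteCategory.congr_hom ((CohCx.HD L q).obj.map_comp (f i).op b.op) s
    refine h2'.trans ?_
    exact (congrArg ((CohCx.HD L q).obj.map b.op).hom h1').trans (map_zero _)
  have hmono : Mono ψ := by
    haveI : ∀ X : Cᵒᵖ, Mono (ψ.hom.app X) := fun X =>
      (AddCommGrpCat.mono_iff_injective _).2 (hinj X.unop)
    haveI : Mono ψ.hom := NatTrans.mono_of_mono_app _
    exact Sheaf.Hom.mono_of_presheaf_mono J _ ψ
  have hls : Presheaf.IsLocallySurjective J ψ.hom := by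
    refine ⟨fun {V} y => ?_⟩
    obtain ⟨ι, Y, fY, hcov, hYB⟩ := hB V
    refine J.superset_covering ?_ hcov
    intro W g hg
    obtain ⟨i, b, rfl⟩ := (Sieve.mem_ofArrows_iff _ _ g).1 hg
    refine Sieve.downward_closed _ ?_ b
    have hyn : ∀ n, (((homologyFunctor (Sheaf J AddCommGrpCat.{u}) q).map (t n)).hom.app
        (op (Y i))).hom (((limit.π (FtK K t q) (op (n + 1))).hom.app (op (Y i))).hom
          (((limit (FtK K t q)).obj.map (fY i).op).hom y)) =
        ((limit.π (FtK K t q) (op n)).hom.app (op (Y i))).hom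
          (((limit (FtK K t q)).obj.map (fY i).op).hom y) := by
      intro n
      have hw := limit.w (FtK K t q) (homOfLE (Nat.le_succ n)).op
      rw [etr] at hw
      exact congrArg (fun κ => (κ.hom.app (op (Y i))).hom
        (((limit (FtK K t q)).obj.map (fY i).op).hom y)) hw
    choose x hx using fun n => (hΘ q (Y i) (hYB i) n).2
      (((limit.π (FtK K t q) (op n)).hom.app (op (Y i))).hom
        (((limit (FtK K t q)).obj.map (fY i).op).hom y))
    have hxc : ∀ n, x (n + 1) ≫ (t n)⟦q⟧' = x n := by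
      intro n
      apply (hΘ q (Y i) (hYB i) n).1
      refine (etaQ_comp (t n) q (Y i) (x (n + 1))).trans ?_
      refine (congrArg (((homologyFunctor (Sheaf J AddCommGrpCat.{u}) q).map (t n)).hom.app
        (op (Y i))).hom (hx (n + 1))).trans ?_
      exact (hyn n).trans (hx n).symm
    obtain ⟨σ, hσ⟩ := (Groth.Agent.Lib.RlimHom.main K t L an hVia _ q).1 x hxc
    have hfin : (ψ.hom.app (op (Y i))).hom (etaQ L q (Y i) σ) =
        ((limit (FtK K t q)).obj.map (fY i).op).hom y := by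
      apply lim_sect_ext (FtK K t q) (Y i)
      intro n
      refine (hcomp (Y i) σ n).trans ?_
      exact (congrArg (etaQ (K n) q (Y i)) (hσ n)).trans (hx n)
    exact ⟨etaQ L q (Y i) σ, hfin⟩
  have hepi : Epi ψ := (Sheaf.isLocallySurjective_iff_epi' _ ψ).1 hls
  have hiso : IsIso ψ := @isIso_of_mono_of_epi _ _ _ _ _ ψ hmono hepi
  exact ⟨@asIso _ _ _ _ ψ hiso⟩

end site

section top

variable {X : TopCat.{u}}
  [HasDerivedCategory.{u} (Sheaf (Opens.grothendieckTopology X) AddCommGrpCat.{u})]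

theorem main0869
    (K : ℕ → DerivedCategory (Sheaf (Opens.grothendieckTopology X) AddCommGrpCat.{u}))
    (t : ∀ n, K (n + 1) ⟶ K n) [HasProduct K]
    (L : DerivedCategory (Sheaf (Opens.grothendieckTopology X) AddCommGrpCat.{u}))
    (hL : DCoh.IsRlim K t L)
    (B : Set (Opens X)) (hB : Opens.IsBasis B)
    (h1 : ∀ U ∈ B, ∀ (p : ℕ) (q : ℤ) (n : ℕ),
      Subsingleton (CohTop.HU (CohCx.HD (K n) q) (p + 1) U))
    (h2 : ∀ U ∈ B, ∀ (q : ℤ), CohCx.LimOneIsZero (fun n => (CohCx.HD (K n) q).obj.obj (op U))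
      (fun n => (((DerivedCategory.homologyFunctor
        (Sheaf (Opens.grothendieckTopology X) AddCommGrpCat.{u}) q).map (t n)).hom.app (op U)).hom))
    (q : ℤ) :
    Nonempty (CohCx.HD L q ≅ limit (CohCx.opSequence (fun n => CohCx.HD (K n) q)
      (fun n => (DerivedCategory.homologyFunctor
        (Sheaf (Opens.grothendieckTopology X) AddCommGrpCat.{u}) q).map (t n)))) :=
  main0878 K t L hL B (basis_cover B hB) h1 h2 q

end top

end Groth.Agent.Lib.RlimHomology_helper7
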