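import Mathlib
import Groth.Prelude
import Groth.Agent.Lib.RlimDer_helper7
import Groth.Agent.Lib.DerAdj1_lead

/-!
# `Rf_*` commutes with derived limits (lead)
(adaptation of helper7's `RlimDer.main`: exactness of countable products in the target is replaced
by the hypothesis that the derived functor preserves the relevant products, which holds for `Rf_*`
since it is a right adjoint)
-/

set_option autoImplicit false
set_option linter.all false
set_option maxHeartbeats 1600000
set_option backward.isDefEq.respectTransparency false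
set_option backward.isDefEq.respectTransparency.types false
set_option backward.defeqAttrib.useBackward true

universe w w' v v' u u'
open CategoryTheory CategoryTheory.Limits

namespace Groth.Agent.Lib.RlimPushL

open Groth.Agent.Lib Groth.Agent.Lib.RlimDer

section Main

open Pretriangulated

variable {A : Type u} [Category.{v} A] [Abelian A] [IsGrothendieckAbelian.{v} A]
    [HasDerivedCategory.{w} A] {B : Type u'} [Category.{v'} B] [Abelian B]
    [HasDerivedCategory.{w'} B]
    (F : A ⥤ B) [F.Additive]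
    [(F.mapHomotopyCategory (ComplexShape.up ℤ) ⋙ DerivedCategory.Qh).HasRightDerivedFunctor
      (HomotopyCategory.quasiIso A (ComplexShape.up ℤ))]

theorem main'
    (hpres : ∀ (I : ℕ → CochainComplex A ℤ), (∀ n, CochainComplex.IsKInjective (I n)) →
      IsLimit (Fan.mk ((RDerGE.RF F).obj (DerivedCategory.Q.obj (DerProd.pi I)))
        (fun n => (RDerGE.RF F).map (DerivedCategory.Q.map (DerProd.π I n)))))
    (K : ℕ → DerivedCategory A) (t : ∀ n, K (n + 1) ⟶ K n) (L : DerivedCategory A)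
    [HasProduct K] [HasProduct fun n => (RDerGE.RF F).obj (K n)]
    (hL : ∃ (a : L ⟶ ∏ᶜ K) (c : ∏ᶜ K ⟶ L⟦(1 : ℤ)⟧),
      Triangle.mk a (Pi.lift fun n => Pi.π K n - Pi.π K (n + 1) ≫ t n) c ∈
        distinguishedTriangles) :
    ∃ (a : (RDerGE.RF F).obj L ⟶ ∏ᶜ fun n => (RDerGE.RF F).obj (K n))
      (c : (∏ᶜ fun n => (RDerGE.RF F).obj (K n)) ⟶ ((RDerGE.RF F).obj L)⟦(1 : ℤ)⟧),
      Triangle.mk a
        (Pi.lift fun n => Pi.π (fun n => (RDerGE.RF F).obj (K n)) n -
          Pi.π (fun n => (RDerGE.RF F).obj (K n)) (n + 1) ≫ (RDerGE.RF F).map (t n)) c ∈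
        distinguishedTriangles := by
  obtain ⟨a, c, hT⟩ := hL
  choose I hI _hinj e using fun n => KInjGen8.exists_kInjective_rep (K n)
  haveI := hI
  replace e : ∀ n, DerivedCategory.Q.obj (I n) ≅ K n := fun n => (e n).some
  choose τ hτ using fun n => DerProd.exists_lift_of_isKInjective (I (n + 1)) (I n)
    ((e (n + 1)).hom ≫ t n ≫ (e n).inv)
  have hτ' : ∀ n, DerivedCategory.Q.map (τ n) ≫ (e n).hom = (e (n + 1)).hom ≫ t n := fun n => by
    rw [hτ n, Category.assoc, Category.assoc, Iso.inv_hom_id, Category.comp_id]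
  let φ : DerProd.pi I ⟶ DerProd.pi I :=
    DerProd.lift fun n => DerProd.π I n - DerProd.π I (n + 1) ≫ τ n
  -- the `A` side
  obtain ⟨ε, hε⟩ := exists_iso_of_isLimit (g := K) _ (DerProd.isLimitFan I) e
  have hε' : ∀ n, ε.hom ≫ Pi.π K n = DerivedCategory.Q.map (DerProd.π I n) ≫ (e n).hom := hε
  have sqA : DerivedCategory.Q.map φ ≫ ε.hom =
      ε.hom ≫ Pi.lift fun n => Pi.π K n - Pi.π K (n + 1) ≫ t n :=
    square_of_components t ε.hom (DerivedCategory.Q.map φ)
      (fun n => DerivedCategory.Q.map (DerProd.π I n) ≫ (e n).hom) hε'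
      (fun n => hm_general DerivedCategory.Q I τ t (fun n => (e n).hom) hτ' n)
  have hTA : DerivedCategory.Q.mapTriangle.obj (CochainComplex.mappingCone.triangle φ) ∈
      distTriang _ :=
    (DerivedCategory.mem_distTriang_iff _).2 ⟨_, _, φ, ⟨Iso.refl _⟩⟩
  obtain ⟨w⟩ := iso_cone_of_isRlim K t L a c hT _ hTA ε ε sqA
  -- the `B` side
  haveI : (CochainComplex.mappingCone φ).IsKInjective := isKInjective_mappingCone φ
  let γ : ∀ n, DerivedCategory.Q.obj ((G F).obj (I n)) ≅ (RDerGE.RF F).obj (K n) := fun n =>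
    RDerGE.unitIso F (I n) ≪≫ (RDerGE.RF F).mapIso (e n)
  have hγ : ∀ n, DerivedCategory.Q.map ((G F).map (τ n)) ≫ (γ n).hom =
      (γ (n + 1)).hom ≫ (RDerGE.RF F).map (t n) := fun n => by
    show DerivedCategory.Q.map ((G F).map (τ n)) ≫ (RDerGE.unitIso F (I n)).hom ≫
        (RDerGE.RF F).map (e n).hom =
      ((RDerGE.unitIso F (I (n + 1))).hom ≫ (RDerGE.RF F).map (e (n + 1)).hom) ≫
        (RDerGE.RF F).map (t n)
    rw [← Category.assoc, unitIso_naturality, Category.assoc, Category.assoc,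
      ← Functor.map_comp, ← Functor.map_comp, hτ' n]
  obtain ⟨ρ₁, hρ₁⟩ := exists_iso_of_isLimit (g := fun n => (RDerGE.RF F).obj (K n)) _
    (hpres I hI) (fun n => (RDerGE.RF F).mapIso (e n))
  have hρ₁' : ∀ n, ρ₁.hom ≫ Pi.π (fun n => (RDerGE.RF F).obj (K n)) n =
      (RDerGE.RF F).map (DerivedCategory.Q.map (DerProd.π I n)) ≫
        (RDerGE.RF F).map (e n).hom := hρ₁
  let ρ : DerivedCategory.Q.obj ((G F).obj (DerProd.pi I)) ≅
      ∏ᶜ fun n => (RDerGE.RF F).obj (K n) :=
    RDerGE.unitIso F (DerProd.pi I) ≪≫ ρ₁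
  have hρ : ∀ n, ρ.hom ≫ Pi.π (fun n => (RDerGE.RF F).obj (K n)) n =
      DerivedCategory.Q.map ((G F).map (DerProd.π I n)) ≫ (γ n).hom := fun n => by
    show ((RDerGE.unitIso F (DerProd.pi I)).hom ≫ ρ₁.hom) ≫
        Pi.π (fun n => (RDerGE.RF F).obj (K n)) n =
      DerivedCategory.Q.map ((G F).map (DerProd.π I n)) ≫ (RDerGE.unitIso F (I n)).hom ≫
        (RDerGE.RF F).map (e n).hom
    rw [Category.assoc, hρ₁' n, ← Category.assoc, ← unitIso_naturality, Category.assoc]
  have sqB : DerivedCategory.Q.map ((G F).map φ) ≫ ρ.hom =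
      ρ.hom ≫ Pi.lift fun n => Pi.π (fun n => (RDerGE.RF F).obj (K n)) n -
        Pi.π (fun n => (RDerGE.RF F).obj (K n)) (n + 1) ≫ (RDerGE.RF F).map (t n) :=
    square_of_components (K := fun n => (RDerGE.RF F).obj (K n))
      (fun n => (RDerGE.RF F).map (t n)) ρ.hom (DerivedCategory.Q.map ((G F).map φ))
      (fun n => DerivedCategory.Q.map ((G F).map (DerProd.π I n)) ≫ (γ n).hom) hρ
      (fun n => hm_general (G F ⋙ DerivedCategory.Q) I τ
        (K' := fun n => (RDerGE.RF F).obj (K n))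
        (fun n => (RDerGE.RF F).map (t n)) (fun n => (γ n).hom) hγ n)
  have hTB : DerivedCategory.Q.mapTriangle.obj
      (CochainComplex.mappingCone.triangle ((G F).map φ)) ∈ distTriang _ :=
    (DerivedCategory.mem_distTriang_iff _).2 ⟨_, _, (G F).map φ, ⟨Iso.refl _⟩⟩
  -- the third vertex
  let ζ : (RDerGE.RF F).obj L ≅
      (DerivedCategory.Q.obj ((G F).obj (CochainComplex.mappingCone φ)))⟦(-1 : ℤ)⟧ :=
    (RDerGE.RF F).mapIso
      ((shiftFunctorCompIsoId (DerivedCategory A) (1 : ℤ) (-1) (by norm_num)).symm.app L ≪≫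
        (shiftFunctor (DerivedCategory A) (-1 : ℤ)).mapIso w ≪≫
        ((DerivedCategory.Q.commShiftIso (-1 : ℤ)).symm.app (CochainComplex.mappingCone φ))) ≪≫
    (RDerGE.unitIso F ((CochainComplex.mappingCone φ)⟦(-1 : ℤ)⟧)).symm ≪≫
    DerivedCategory.Q.mapIso (((G F).commShiftIso (-1 : ℤ)).app (CochainComplex.mappingCone φ)) ≪≫
    (DerivedCategory.Q.commShiftIso (-1 : ℤ)).app ((G F).obj (CochainComplex.mappingCone φ))
  let ω : ((RDerGE.RF F).obj L)⟦(1 : ℤ)⟧ ≅
      DerivedCategory.Q.obj (CochainComplex.mappingCone ((G F).map φ)) :=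
    (shiftFunctor (DerivedCategory B) (1 : ℤ)).mapIso ζ ≪≫
    (shiftFunctorCompIsoId (DerivedCategory B) (-1 : ℤ) 1 (by norm_num)).app
      (DerivedCategory.Q.obj ((G F).obj (CochainComplex.mappingCone φ))) ≪≫
    DerivedCategory.Q.mapIso (CochainComplex.mappingCone.mapHomologicalComplexIso φ F)
  exact isRlim_of_cone (fun n => (RDerGE.RF F).obj (K n)) (fun n => (RDerGE.RF F).map (t n))
    ((RDerGE.RF F).obj L) _ hTB ρ ρ sqB ω

end Main

section Scheme

open AlgebraicGeometry

universe u₀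

attribute [local instance] HasDerivedCategory.standard

theorem main0935 {X Y : Scheme.{u₀}} (f : X ⟶ Y) [DCoh.HasRpush f]
    (K : ℕ → DCoh.D X) (t : ∀ n, K (n + 1) ⟶ K n) [HasProduct K]
    [HasProduct fun n => (DCoh.Rpush f).obj (K n)]
    (L : DCoh.D X) (hL : DCoh.IsRlim K t L) :
    DCoh.IsRlim (fun n => (DCoh.Rpush f).obj (K n)) (fun n => (DCoh.Rpush f).map (t n))
      ((DCoh.Rpush f).obj L) := by
  haveI := MVPushL.grothendieck_modules X
  haveI := LpullExH3.hasLpull f
  obtain ⟨adj⟩ := DerAdjL.nonempty_adj f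
  haveI : PreservesLimitsOfSize.{0, 0} (DCoh.Rpush f) := adj.rightAdjoint_preservesLimits
  exact main' (Scheme.Modules.pushforward f) (fun I hI => by
      haveI := hI
      exact isLimitFanMkObjOfIsLimit (DCoh.Rpush f) _ _ (DerProd.isLimitFan I)) K t L hL

end Scheme

end Groth.Agent.Lib.RlimPushL
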