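import Mathlib

/-! Roberts' derivation: a weighted-homogeneous element of positive degree killed by the
derivation lies in the irrelevant ideal of the first three variables (coefficientwise). lead. -/

set_option autoImplicit false

namespace Groth.Agent.Lib.Roberts

open MvPolynomial

variable {k : Type*} [Field k] [CharZero k]

lemma coeff_term (γ : Fin 7 →₀ ℕ) (j : Fin 7) (f : MvPolynomial (Fin 7) k) (e : Fin 7 →₀ ℕ) :
    coeff e (monomial γ (1:k) * pderiv j f) =
      if γ ≤ e then coeff (e - γ + Finsupp.single j 1) f * (((e - γ) j : ℕ) + 1 : k) else 0 := by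
  rw [coeff_monomial_mul']
  split_ifs with h
  · rw [one_mul, coeff_pderiv]
  · rfl

lemma der_eq (m : ℕ) (f : MvPolynomial (Fin 7) k) :
    mkDerivation k (![0, 0, 0, X 0 ^ (m + 1), X 1 ^ (m + 1), X 2 ^ (m + 1),
        (X 0 * X 1 * X 2) ^ m] : Fin 7 → MvPolynomial (Fin 7) k) f
      = monomial (Finsupp.single 0 (m+1)) (1:k) * pderiv 3 f
        + monomial (Finsupp.single 1 (m+1)) (1:k) * pderiv 4 f
        + monomial (Finsupp.single 2 (m+1)) (1:k) * pderiv 5 f
        + monomial (Finsupp.single 0 m + Finsupp.single 1 m + Finsupp.single 2 m) (1:k)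
            * pderiv 6 f := by
  have h : mkDerivation k (![0, 0, 0, X 0 ^ (m + 1), X 1 ^ (m + 1), X 2 ^ (m + 1),
        (X 0 * X 1 * X 2) ^ m] : Fin 7 → MvPolynomial (Fin 7) k)
      = (X 0 ^ (m+1) : MvPolynomial (Fin 7) k) • (pderiv 3)
        + (X 1 ^ (m+1) : MvPolynomial (Fin 7) k) • (pderiv 4)
        + (X 2 ^ (m+1) : MvPolynomial (Fin 7) k) • (pderiv 5)
        + ((X 0 * X 1 * X 2) ^ m : MvPolynomial (Fin 7) k) • (pderiv 6) := by
    apply derivation_ext
    intro j
    rw [mkDerivation_X]
    fin_cases j <;>
      simp [Derivation.add_apply, Derivation.smul_apply, pderiv_X, Pi.single_apply]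
  have hm6 : ((X 0 * X 1 * X 2) ^ m : MvPolynomial (Fin 7) k) =
      monomial (Finsupp.single 0 m + Finsupp.single 1 m + Finsupp.single 2 m) (1:k) := by
    rw [mul_pow, mul_pow, X_pow_eq_monomial, X_pow_eq_monomial, X_pow_eq_monomial, monomial_mul,
      monomial_mul, one_mul, one_mul]
  rw [h]
  simp only [Derivation.add_apply, Derivation.smul_apply, smul_eq_mul]
  rw [hm6]
  simp only [X_pow_eq_monomial]

theorem main (m : ℕ) (hm : 2 ≤ m) (n : ℕ) (hn : 1 ≤ n) (f : MvPolynomial (Fin 7) k)
    (hf : IsWeightedHomogeneous (![0, 0, 0, 1, 1, 1, 1] : Fin 7 → ℕ) f n)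
    (hδ : mkDerivation k (![0, 0, 0, X 0 ^ (m + 1), X 1 ^ (m + 1), X 2 ^ (m + 1),
        (X 0 * X 1 * X 2) ^ m] : Fin 7 → MvPolynomial (Fin 7) k) f = 0) :
    ∀ d ∈ f.support, 0 < d 0 + d 1 + d 2 := by
  intro d hd
  by_contra hcon
  have h0 : d 0 = 0 := by omega
  have h1 : d 1 = 0 := by omega
  have h2 : d 2 = 0 := by omega
  have hcd : coeff d f ≠ 0 := mem_support_iff.1 hd
  have hw := hf hcd
  have hsum : d 3 + d 4 + d 5 + d 6 = n := by
    rw [Finsupp.weight_apply] at hw
    rw [Finsupp.sum_fintype d (fun i c => c • (![0, 0, 0, 1, 1, 1, 1] : Fin 7 → ℕ) i)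
      (fun i => zero_smul _ _), Fin.sum_univ_seven] at hw
    simp at hw
    omega
  rw [der_eq] at hδ
  have hco : ∀ e : Fin 7 →₀ ℕ,
      (if Finsupp.single 0 (m+1) ≤ e then
          coeff (e - Finsupp.single 0 (m+1) + Finsupp.single 3 1) f *
            (((e - Finsupp.single 0 (m+1) : Fin 7 →₀ ℕ) 3 : ℕ) + 1 : k) else 0)
      + (if Finsupp.single 1 (m+1) ≤ e then
          coeff (e - Finsupp.single 1 (m+1) + Finsupp.single 4 1) f *
            (((e - Finsupp.single 1 (m+1) : Fin 7 →₀ ℕ) 4 : ℕ) + 1 : k) else 0)
      + (if Finsupp.single 2 (m+1) ≤ e then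
          coeff (e - Finsupp.single 2 (m+1) + Finsupp.single 5 1) f *
            (((e - Finsupp.single 2 (m+1) : Fin 7 →₀ ℕ) 5 : ℕ) + 1 : k) else 0)
      + (if Finsupp.single 0 m + Finsupp.single 1 m + Finsupp.single 2 m ≤ e then
          coeff (e - (Finsupp.single 0 m + Finsupp.single 1 m + Finsupp.single 2 m)
            + Finsupp.single 6 1) f *
            (((e - (Finsupp.single 0 m + Finsupp.single 1 m + Finsupp.single 2 m) : Fin 7 →₀ ℕ) 6 : ℕ) + 1 : k)
          else 0) = 0 := by
    intro e
    have := congrArg (coeff e) hδ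
    simpa only [coeff_add, coeff_term, coeff_zero] using this
  have key3 : d 3 = 0 := by
    by_contra h3
    have := hco (d - Finsupp.single 3 1 + Finsupp.single 0 (m+1))
    have c1 : Finsupp.single 0 (m+1) ≤ d - Finsupp.single 3 1 + Finsupp.single 0 (m+1) :=
      le_add_self
    have c2 : ¬ Finsupp.single 1 (m+1) ≤ d - Finsupp.single 3 1 + Finsupp.single 0 (m+1) := by
      intro h
      have := h 1
      simp [Finsupp.tsub_apply, Finsupp.single_apply] at this
      omega
    have c3 : ¬ Finsupp.single 2 (m+1) ≤ d - Finsupp.single 3 1 + Finsupp.single 0 (m+1) := by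
      intro h
      have := h 2
      simp [Finsupp.tsub_apply, Finsupp.single_apply] at this
      omega
    have c4 : ¬ Finsupp.single 0 m + Finsupp.single 1 m + Finsupp.single 2 m ≤
        d - Finsupp.single 3 1 + Finsupp.single 0 (m+1) := by
      intro h
      have := h 1
      simp [Finsupp.tsub_apply, Finsupp.single_apply] at this
      omega
    rw [if_pos c1, if_neg c2, if_neg c3, if_neg c4] at this
    have e1 : d - Finsupp.single 3 1 + Finsupp.single 0 (m+1) - Finsupp.single 0 (m+1)
        + Finsupp.single 3 1 = d := by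
      ext i
      fin_cases i <;> simp [Finsupp.tsub_apply, Finsupp.single_apply] <;> omega
    rw [e1] at this
    simp only [add_zero] at this
    rcases mul_eq_zero.1 this with h | h
    · exact hcd h
    · exact (Nat.cast_add_one_ne_zero _) h
  have key4 : d 4 = 0 := by
    by_contra h3
    have := hco (d - Finsupp.single 4 1 + Finsupp.single 1 (m+1))
    have c1 : Finsupp.single 1 (m+1) ≤ d - Finsupp.single 4 1 + Finsupp.single 1 (m+1) :=
      le_add_self
    have c2 : ¬ Finsupp.single 0 (m+1) ≤ d - Finsupp.single 4 1 + Finsupp.single 1 (m+1) := by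
      intro h
      have := h 0
      simp [Finsupp.tsub_apply, Finsupp.single_apply] at this
      omega
    have c3 : ¬ Finsupp.single 2 (m+1) ≤ d - Finsupp.single 4 1 + Finsupp.single 1 (m+1) := by
      intro h
      have := h 2
      simp [Finsupp.tsub_apply, Finsupp.single_apply] at this
      omega
    have c4 : ¬ Finsupp.single 0 m + Finsupp.single 1 m + Finsupp.single 2 m ≤
        d - Finsupp.single 4 1 + Finsupp.single 1 (m+1) := by
      intro h
      have := h 0
      simp [Finsupp.tsub_apply, Finsupp.single_apply] at this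
      omega
    rw [if_neg c2, if_pos c1, if_neg c3, if_neg c4] at this
    have e1 : d - Finsupp.single 4 1 + Finsupp.single 1 (m+1) - Finsupp.single 1 (m+1)
        + Finsupp.single 4 1 = d := by
      ext i
      fin_cases i <;> simp [Finsupp.tsub_apply, Finsupp.single_apply] <;> omega
    rw [e1] at this
    simp only [add_zero, zero_add] at this
    rcases mul_eq_zero.1 this with h | h
    · exact hcd h
    · exact (Nat.cast_add_one_ne_zero _) h
  have key5 : d 5 = 0 := by
    by_contra h3
    have := hco (d - Finsupp.single 5 1 + Finsupp.single 2 (m+1))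
    have c1 : Finsupp.single 2 (m+1) ≤ d - Finsupp.single 5 1 + Finsupp.single 2 (m+1) :=
      le_add_self
    have c2 : ¬ Finsupp.single 0 (m+1) ≤ d - Finsupp.single 5 1 + Finsupp.single 2 (m+1) := by
      intro h
      have := h 0
      simp [Finsupp.tsub_apply, Finsupp.single_apply] at this
      omega
    have c3 : ¬ Finsupp.single 1 (m+1) ≤ d - Finsupp.single 5 1 + Finsupp.single 2 (m+1) := by
      intro h
      have := h 1
      simp [Finsupp.tsub_apply, Finsupp.single_apply] at this
      omega
    have c4 : ¬ Finsupp.single 0 m + Finsupp.single 1 m + Finsupp.single 2 m ≤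
        d - Finsupp.single 5 1 + Finsupp.single 2 (m+1) := by
      intro h
      have := h 0
      simp [Finsupp.tsub_apply, Finsupp.single_apply] at this
      omega
    rw [if_neg c2, if_neg c3, if_pos c1, if_neg c4] at this
    have e1 : d - Finsupp.single 5 1 + Finsupp.single 2 (m+1) - Finsupp.single 2 (m+1)
        + Finsupp.single 5 1 = d := by
      ext i
      fin_cases i <;> simp [Finsupp.tsub_apply, Finsupp.single_apply] <;> omega
    rw [e1] at this
    simp only [add_zero, zero_add] at this
    rcases mul_eq_zero.1 this with h | h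
    · exact hcd h
    · exact (Nat.cast_add_one_ne_zero _) h
  have key6 : d 6 = 0 := by
    by_contra h3
    have := hco (d - Finsupp.single 6 1 +
      (Finsupp.single 0 m + Finsupp.single 1 m + Finsupp.single 2 m))
    have c1 : Finsupp.single 0 m + Finsupp.single 1 m + Finsupp.single 2 m ≤
        d - Finsupp.single 6 1 + (Finsupp.single 0 m + Finsupp.single 1 m + Finsupp.single 2 m) :=
      le_add_self
    have c2 : ¬ Finsupp.single 0 (m+1) ≤ d - Finsupp.single 6 1 +
        (Finsupp.single 0 m + Finsupp.single 1 m + Finsupp.single 2 m) := by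
      intro h
      have := h 0
      simp [Finsupp.tsub_apply, Finsupp.single_apply] at this
      omega
    have c3 : ¬ Finsupp.single 1 (m+1) ≤ d - Finsupp.single 6 1 +
        (Finsupp.single 0 m + Finsupp.single 1 m + Finsupp.single 2 m) := by
      intro h
      have := h 1
      simp [Finsupp.tsub_apply, Finsupp.single_apply] at this
      omega
    have c4 : ¬ Finsupp.single 2 (m+1) ≤ d - Finsupp.single 6 1 +
        (Finsupp.single 0 m + Finsupp.single 1 m + Finsupp.single 2 m) := by
      intro h
      have := h 2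
      simp [Finsupp.tsub_apply, Finsupp.single_apply] at this
      omega
    rw [if_neg c2, if_neg c3, if_neg c4, if_pos c1] at this
    have e1 : d - Finsupp.single 6 1 +
        (Finsupp.single 0 m + Finsupp.single 1 m + Finsupp.single 2 m)
        - (Finsupp.single 0 m + Finsupp.single 1 m + Finsupp.single 2 m)
        + Finsupp.single 6 1 = d := by
      ext i
      fin_cases i <;> simp [Finsupp.tsub_apply, Finsupp.single_apply] <;> omega
    rw [e1] at this
    simp only [add_zero, zero_add] at this
    rcases mul_eq_zero.1 this with h | h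
    · exact hcd h
    · exact (Nat.cast_add_one_ne_zero _) h
  omega

end Groth.Agent.Lib.Roberts
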