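import Groth.Agent.S2955
import Mathlib.LinearAlgebra.RootSystem.Base
import Mathlib.LinearAlgebra.RootSystem.Reduced

set_option autoImplicit false

/-!
# Bases of root pairings: positive coroots, `2ρ^∨` (helper8)
-/

namespace Groth.Agent.Lib.RootDBase_helper8

open RootPairing

variable {ι R M N : Type*} [CommRing R] [CharZero R] [IsDomain R] [AddCommGroup M] [Module R M]
  [AddCommGroup N] [Module R N] {P : RootPairing ι R M N}

include P in
lemma isTorsionFreeM : Module.IsTorsionFree R M := by
  have : Module.IsReflexive R M := .of_isPerfPair P.toLinearMap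
  infer_instance

include P in
lemma isTorsionFreeN : Module.IsTorsionFree R N := by
  have : Module.IsReflexive R N := .of_isPerfPair P.flip.toLinearMap
  infer_instance

variable [Finite ι] [P.IsCrystallographic] [P.IsReduced]

lemma flipIsReduced : P.flip.IsReduced := by
  have := isTorsionFreeM (P := P)
  have := isTorsionFreeN (P := P)
  infer_instance

/-- The coroot of a positive root is a positive coroot. -/
lemma isPos_flip_of_isPos (b : P.Base) {i : ι} (h : b.IsPos i) : b.flip.IsPos i := by
  have := flipIsReduced (P := P)
  refine h.induction_on_reflect (p := fun i => b.IsPos i → b.flip.IsPos i) ?_ ?_ h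
  · intro i hi _
    exact RootPairing.Base.isPos_of_mem_support (b := b.flip) hi
  · intro i j hp hj hpos
    by_cases hji : P.reflectionPerm j i = j
    · rw [hji]
      exact RootPairing.Base.isPos_of_mem_support (b := b.flip) hj
    · have h1 : b.IsPos i := by
        have := hpos.reflectionPerm hj hji
        rwa [P.reflectionPerm_self] at this
      have hij : i ≠ j := by
        rintro rfl
        have h2 : b.height (P.reflectionPerm i i) = - b.height i := b.height_reflectionPerm_self i
        rw [RootPairing.Base.isPos_iff] at hpos h1
        omega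
      exact (hp h1).reflectionPerm (b := b.flip) hj hij

lemma isPos_flip_iff (b : P.Base) (i : ι) : b.flip.IsPos i ↔ b.IsPos i := by
  refine ⟨fun h => ?_, isPos_flip_of_isPos b⟩
  by_contra hn
  have h1 : b.IsPos (P.reflectionPerm i i) := by
    have h2 : b.height (P.reflectionPerm i i) = - b.height i := b.height_reflectionPerm_self i
    have h3 := b.height_ne_zero i
    rw [RootPairing.Base.isPos_iff] at hn ⊢
    omega
  have h4 := isPos_flip_of_isPos b h1
  have h5 : b.flip.height (P.flip.reflectionPerm i i) = - b.flip.height i :=
    b.flip.height_reflectionPerm_self i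
  rw [RootPairing.Base.isPos_iff] at h h4
  have h6 : b.flip.height (P.reflectionPerm i i) = b.flip.height (P.flip.reflectionPerm i i) := rfl
  omega

open scoped Classical in
/-- The sum `2ρ^∨` of the positive coroots pairs to `2` with every simple root. -/
lemma root'_sum_pos_coroot [Fintype ι] (b : P.Base) {j : ι} (hj : j ∈ b.support) :
    P.root' j (∑ i, if b.IsPos i then P.coroot i else 0) = 2 := by
  have := flipIsReduced (P := P)
  have h1 := Groth.Agent.S2955.result P.flip b.flip j hj
  have h2 : (∑ i, if b.flip.IsPos i then P.flip.root i else 0) =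
      ∑ i, if b.IsPos i then P.coroot i else 0 := by
    refine Finset.sum_congr rfl fun i _ => ?_
    by_cases h : b.IsPos i
    · rw [if_pos h, if_pos ((isPos_flip_iff b i).mpr h)]; rfl
    · rw [if_neg h, if_neg (fun h' => h ((isPos_flip_iff b i).mp h'))]
  rw [h2] at h1
  set ρ := ∑ i, if b.IsPos i then P.coroot i else 0 with hρ
  have h3 : P.flip.reflection j ρ = ρ - P.root' j ρ • P.coroot j := P.coreflection_apply j ρ
  rw [h3] at h1
  have h4 : P.root' j ρ • P.coroot j = (2 : R) • P.coroot j := sub_right_injective h1
  have h5 := congrArg (P.root' j) h4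
  rw [map_smul, map_smul] at h5
  have h6 : P.root' j (P.coroot j) = 2 := P.root_coroot_two j
  rw [h6, smul_eq_mul, smul_eq_mul] at h5
  exact mul_right_cancel₀ (two_ne_zero) h5

end Groth.Agent.Lib.RootDBase_helper8
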