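import Groth.Agent.Lib.RootDZ2_helper8
import Groth.Agent.Lib.RootDBase_helper8
import Groth.Prelude.Def_RootCh

set_option autoImplicit false

/-!
# Chambers of a root system, I: transport of bases, every vector lies in a closed chamber (helper8)
-/

namespace Groth.Agent.Lib.RootChA_helper8

open RootD Set RootPairing Groth.Agent.Lib.RootD_helper8 Groth.Agent.Lib.RootDPos_helper8
  Groth.Agent.Lib.RootDWeyl_helper8 Groth.Agent.Lib.RootDZ_helper8
  Groth.Agent.Lib.RootDZ2_helper8

section Transport

variable {ι R M N : Type*} [CommRing R] [AddCommGroup M] [Module R M]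
  [AddCommGroup N] [Module R N] {P : RootPairing ι R M N}

lemma root_smulR (g : P.Aut) (i : ι) : P.root (g • i) = g • P.root i :=
  Equiv.root_indexEquiv_eq_smul (P := P) i g

lemma smul_mem_closure_root (g : P.Aut) {S : Set ι} {x : M}
    (hx : x ∈ AddSubmonoid.closure (P.root '' S)) :
    g • x ∈ AddSubmonoid.closure (P.root '' ((fun i : ι => g • i) '' S)) := by
  induction hx using AddSubmonoid.closure_induction with
  | mem x hx =>
    obtain ⟨i, hi, rfl⟩ := hx
    rw [← root_smulR]
    exact AddSubmonoid.subset_closure ⟨g • i, ⟨i, hi, rfl⟩, rfl⟩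
  | zero => rw [smul_zero]; exact zero_mem _
  | add x y _ _ hx hy => rw [smul_add]; exact add_mem hx hy

/-- The linear automorphism of the coweight space moving `coroot j` to `coroot (g • j)`. -/
noncomputable def coT (g : P.Aut) : N ≃ₗ[R] N := (Equiv.coweightEquiv P P g).symm

lemma coroot_smulR (g : P.Aut) (j : ι) : P.coroot (g • j) = coT g (P.coroot j) := by
  unfold coT
  rw [LinearEquiv.eq_symm_apply, Equiv.coweightEquiv_apply, Hom.coroot_coweightMap_apply]
  congr 1
  exact g.toHom.indexEquiv.symm_apply_apply j

lemma coT_mem_closure (g : P.Aut) {S : Set ι} {x : N}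
    (hx : x ∈ AddSubmonoid.closure (P.coroot '' S)) :
    coT g x ∈ AddSubmonoid.closure (P.coroot '' ((fun i : ι => g • i) '' S)) := by
  induction hx using AddSubmonoid.closure_induction with
  | mem x hx =>
    obtain ⟨i, hi, rfl⟩ := hx
    rw [← coroot_smulR]
    exact AddSubmonoid.subset_closure ⟨g • i, ⟨i, hi, rfl⟩, rfl⟩
  | zero => rw [map_zero]; exact zero_mem _
  | add x y _ _ hx hy => rw [map_add]; exact add_mem hx hy

/-- The image of a base under an automorphism. -/
noncomputable def baseSmulR (g : P.Aut) (b : P.Base) : P.Base where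
  support := b.support.map ⟨fun i => g • i, MulAction.injective g⟩
  linearIndepOn_root := by
    rw [Finset.coe_map]
    apply LinearIndepOn.image_of_comp
    have h1 := b.linearIndepOn_root.map_injOn ((Equiv.weightHom P g : M ≃ₗ[R] M) : M →ₗ[R] M)
      ((Equiv.weightHom P g).injective.injOn)
    refine h1.congr fun i _ => ?_
    exact (root_smulR g i).symm
  linearIndepOn_coroot := by
    rw [Finset.coe_map]
    apply LinearIndepOn.image_of_comp
    have h1 := b.linearIndepOn_coroot.map_injOn ((coT g : N ≃ₗ[R] N) : N →ₗ[R] N)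
      ((coT g).injective.injOn)
    refine h1.congr fun i _ => ?_
    exact (coroot_smulR g i).symm
  root_mem_or_neg_mem := by
    rw [Finset.coe_map]
    intro i
    have h1 : P.root i = g • P.root (g⁻¹ • i) := by rw [← root_smulR, smul_inv_smul]
    rcases b.root_mem_or_neg_mem (g⁻¹ • i) with h | h
    · left
      rw [h1]
      exact smul_mem_closure_root g h
    · right
      rw [h1, ← smul_neg]
      exact smul_mem_closure_root g h
  coroot_mem_or_neg_mem := by
    rw [Finset.coe_map]
    intro i
    have h1 : P.coroot i = coT g (P.coroot (g⁻¹ • i)) := by rw [← coroot_smulR, smul_inv_smul]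
    rcases b.coroot_mem_or_neg_mem (g⁻¹ • i) with h | h
    · left
      rw [h1]
      exact coT_mem_closure g h
    · right
      rw [h1, ← map_neg]
      exact coT_mem_closure g h

lemma coe_support_baseSmulR (g : P.Aut) (b : P.Base) :
    ((baseSmulR g b).support : Set ι) = (fun i : ι => g • i) '' (b.support : Set ι) := by
  unfold baseSmulR
  rw [Finset.coe_map]
  rfl

lemma mem_support_baseSmulR (g : P.Aut) (b : P.Base) (j : ι) :
    j ∈ (baseSmulR g b).support ↔ ∃ i ∈ b.support, g • i = j := by
  have := Set.ext_iff.mp (coe_support_baseSmulR g b) j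
  simpa using this

end Transport

section Chamber

variable {ι R M N : Type*} [Field R] [LinearOrder R] [IsStrictOrderedRing R]
  [AddCommGroup M] [Module R M] [AddCommGroup N] [Module R N] [Finite ι]
  {P : RootPairing ι R M N} [P.IsRootSystem] [P.IsCrystallographic] [P.IsReduced]

omit [LinearOrder R] [IsStrictOrderedRing R] [Finite ι] [P.IsRootSystem] [P.IsCrystallographic]
  [P.IsReduced] in
lemma coroot'_neg_idx (i : ι) (ξ : M) :
    P.coroot' (P.reflectionPerm i i) ξ = - P.coroot' i ξ := by
  change P.toLinearMap ξ (P.coroot (P.reflectionPerm i i)) = - P.toLinearMap ξ (P.coroot i)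
  rw [P.coroot_reflectionPerm, P.coreflection_apply_self, map_neg]

/-- A base obtained from another one by a word in the reflections. -/
noncomputable def wordBase (l : List ι) (b : P.Base) : P.Base := baseSmulR (wprodR P l) b

omit [LinearOrder R] [IsStrictOrderedRing R] [Finite ι] [P.IsRootSystem] [P.IsCrystallographic]
  [P.IsReduced] in
lemma mem_support_wordBase (l : List ι) (b : P.Base) (j : ι) :
    j ∈ (wordBase l b).support ↔ ∃ i ∈ b.support, (l.map P.reflectionPerm).prod i = j := by
  unfold wordBase
  rw [mem_support_baseSmulR]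
  simp only [wprodR_smul_idx]

/-- A set of indices which is closed under addition of coroots and contains each index or its
opposite contains the simple indices of some base, together with all its positive indices. -/
theorem exists_base_subset_of_coclosed (S : Set ι) (hS2 : ∀ i, i ∈ S ∨ P.reflectionPerm i i ∈ S)
    (hScl : ∀ i j k : ι, i ∈ S → j ∈ S → P.coroot k = P.coroot i + P.coroot j → k ∈ S) :
    ∃ b : P.Base, ∀ i, b.IsPos i → i ∈ S := by
  obtain ⟨b₀⟩ := P.nonempty_base
  have hredQ : P.flip.IsReduced := Groth.Agent.Lib.RootDBase_helper8.flipIsReduced (P := P)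
  have hΔ₀ := isSimpleSys_zForm b₀.flip
  have hP2 : ∀ i : ι, i ∈ S ∨ (zForm P.flip).reflectionPerm i i ∈ S := hS2
  have hcl : IsClosedSub (zForm P.flip) S := by
    intro i j k hi hj hk
    have hk' := congrArg Subtype.val hk
    exact hScl i j k hi hj hk'
  obtain ⟨g, hg, hsub⟩ := exists_weyl_smul_posOf_subset hΔ₀ hP2 hcl
  obtain ⟨l, rfl⟩ := exists_wprodR_eq (zForm P.flip) hg
  refine ⟨wordBase l b₀, ?_⟩
  intro i hi
  have hsupp : (((wordBase l b₀).flip).support : Set ι) =
      (fun i => wprodR (zForm P.flip) l • i) '' (b₀.flip.support : Set ι) := by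
    ext j
    rw [RootPairing.Base.flip_support, Finset.mem_coe, mem_support_wordBase]
    simp only [Set.mem_image, wprodR_smul_idx, RootPairing.Base.flip_support, Finset.mem_coe]
    rfl
  have h1 : (wordBase l b₀).flip.IsPos i :=
    Groth.Agent.Lib.RootDBase_helper8.isPos_flip_of_isPos _ hi
  rw [isPos_iff_mem_posOf, hsupp, posOf_smul] at h1
  exact hsub h1

/-- Every vector lies in the closed chamber of some base; moreover it pairs non-negatively with
all positive coroots of that base. -/
theorem exists_base_forall_isPos_nonneg (ξ : M) :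
    ∃ b : P.Base, ∀ i, b.IsPos i → 0 ≤ P.coroot' i ξ := by
  apply exists_base_subset_of_coclosed (P := P) {i | 0 ≤ P.coroot' i ξ}
  · intro i
    simp only [Set.mem_ofPred_eq]
    rw [coroot'_neg_idx]
    rcases le_total 0 (P.coroot' i ξ) with h | h
    · exact Or.inl h
    · exact Or.inr (neg_nonneg.mpr h)
  · intro i j k hi hj hk
    simp only [Set.mem_ofPred_eq] at *
    change 0 ≤ P.toLinearMap ξ (P.coroot k)
    rw [hk, map_add]
    exact add_nonneg hi hj

theorem exists_base_mem_closedChamber (ξ : M) : ∃ b : P.Base, ξ ∈ RootCh.closedChamber b := by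
  obtain ⟨b, hb⟩ := exists_base_forall_isPos_nonneg (P := P) ξ
  exact ⟨b, fun i hi => hb i (b.isPos_of_mem_support hi)⟩

/-- A set of indices which is closed under addition of roots and contains each index or its
opposite contains all positive indices of some base. -/
theorem exists_base_subset_of_closed (S : Set ι) (hS2 : ∀ i, i ∈ S ∨ P.reflectionPerm i i ∈ S)
    (hScl : ∀ i j k : ι, i ∈ S → j ∈ S → P.root k = P.root i + P.root j → k ∈ S) :
    ∃ b : P.Base, ∀ i, b.IsPos i → i ∈ S := by
  have hredQ : P.flip.IsReduced := Groth.Agent.Lib.RootDBase_helper8.flipIsReduced (P := P)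
  obtain ⟨b', hb'⟩ := exists_base_subset_of_coclosed (P := P.flip) S hS2 hScl
  refine ⟨b'.flip, fun i hi => hb' i ?_⟩
  exact (Groth.Agent.Lib.RootDBase_helper8.isPos_flip_iff b' i).mp hi

end Chamber

end Groth.Agent.Lib.RootChA_helper8
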