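import Groth.Agent.Lib.RootChA_helper8

set_option autoImplicit false

/-!
# Chambers of a root system, II: fundamental weights, signs in a closed chamber (helper8)
-/

namespace Groth.Agent.Lib.RootChB_helper8

open RootCh Set RootPairing Groth.Agent.Lib.RootChA_helper8
open scoped Classical

variable {ι R M N : Type*} [Field R] [LinearOrder R] [IsStrictOrderedRing R]
  [AddCommGroup M] [Module R M] [AddCommGroup N] [Module R N] [Finite ι]
  {P : RootPairing ι R M N} [P.IsRootSystem] [P.IsCrystallographic] [P.IsReduced]

/-! ### Fundamental weights -/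

omit [LinearOrder R] [IsStrictOrderedRing R] [Finite ι] [P.IsCrystallographic] [P.IsReduced] in
lemma coroot'_fundWeight (b : P.Base) (i j : b.support) :
    P.coroot' (j : ι) (fundWeight b i) = if j = i then 1 else 0 := by
  split_ifs with h
  · rw [h]; exact coroot'_fundWeight_self b i
  · exact coroot'_fundWeight_of_ne b i j h

omit [LinearOrder R] [IsStrictOrderedRing R] [Finite ι] [P.IsCrystallographic] [P.IsReduced] in
/-- Two vectors with the same pairings against the simple coroots are equal. -/
lemma eq_of_coroot'_eq (b : P.Base) {x y : M}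
    (h : ∀ j : b.support, P.coroot' (j : ι) x = P.coroot' (j : ι) y) : x = y := by
  apply P.toPerfPair.injective
  apply b.toCoweightBasis.ext
  intro j
  rw [b.toCoweightBasis_apply]
  exact h j

omit [LinearOrder R] [IsStrictOrderedRing R] [Finite ι] [P.IsCrystallographic] [P.IsReduced] in
/-- Expansion of a vector in the fundamental weights. -/
lemma eq_sum_fundWeight (b : P.Base) (ξ : M) :
    ξ = ∑ j : b.support, P.coroot' (j : ι) ξ • fundWeight b j := by
  classical
  apply eq_of_coroot'_eq b
  intro k
  rw [map_sum]
  simp only [map_smul, smul_eq_mul, coroot'_fundWeight]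
  rw [Finset.sum_eq_single k]
  · simp
  · intro j _ hjk
    rw [if_neg (Ne.symm hjk), mul_zero]
  · intro h; exact absurd (Finset.mem_univ k) h

omit [LinearOrder R] [IsStrictOrderedRing R] [Finite ι] [P.IsCrystallographic] [P.IsReduced] in
lemma linearIndependent_fundWeight (b : P.Base) : LinearIndependent R (fundWeight b) := by
  classical
  apply LinearIndependent.of_pairwise_dual_eq_zero_one (fundWeight b)
    (fun j : b.support => P.coroot' (j : ι))
  · intro i j hij
    change P.coroot' (i : ι) (fundWeight b j) = 0
    rw [coroot'_fundWeight, if_neg hij]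
  · intro i
    change P.coroot' (i : ι) (fundWeight b i) = 1
    rw [coroot'_fundWeight, if_pos rfl]

omit [LinearOrder R] [IsStrictOrderedRing R] [Finite ι] [P.IsCrystallographic] [P.IsReduced] in
lemma fundWeight_injective (b : P.Base) : Function.Injective (fundWeight b) :=
  (linearIndependent_fundWeight b).injective

omit [Finite ι] [P.IsCrystallographic] [P.IsReduced] in
lemma fundWeight_mem_closedChamber (b : P.Base) (j : b.support) :
    fundWeight b j ∈ closedChamber b := by
  classical
  intro k hk
  have := coroot'_fundWeight b j ⟨k, hk⟩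
  simp only at this
  rw [this]
  split_ifs <;> norm_num

/-! ### Positive coroots in a closed chamber -/

omit [P.IsRootSystem] in
/-- A vector of the closed chamber pairs non-negatively with all positive coroots. -/
lemma coroot'_nonneg_of_isPos (b : P.Base) {ξ : M} (hξ : ξ ∈ closedChamber b) {i : ι}
    (hi : b.IsPos i) : 0 ≤ P.coroot' i ξ := by
  have hredQ : P.flip.IsReduced := Groth.Agent.Lib.RootDBase_helper8.flipIsReduced (P := P)
  have hi' := Groth.Agent.Lib.RootDBase_helper8.isPos_flip_of_isPos b hi
  refine hi'.induction_on_add (p := fun i => 0 ≤ P.coroot' i ξ) ?_ ?_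
  · intro j hj
    exact hξ j hj
  · intro i j k hk hpi hj
    have hk' : P.coroot k = P.coroot i + P.coroot j := hk
    change 0 ≤ P.toLinearMap ξ (P.coroot k)
    rw [hk', map_add]
    exact add_nonneg hpi (hξ j hj)

/-- The coefficient of the simple coroot `j` in the coroot `i`. -/
noncomputable def cC (b : P.Base) (i : ι) (j : b.support) : R := P.coroot' i (fundWeight b j)

omit [LinearOrder R] [IsStrictOrderedRing R] [Finite ι] [P.IsCrystallographic] [P.IsReduced] in
lemma coroot'_eq_sum (b : P.Base) (i : ι) (ξ : M) :
    P.coroot' i ξ = ∑ j : b.support, cC b i j * P.coroot' (j : ι) ξ := by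
  conv_lhs => rw [eq_sum_fundWeight b ξ]
  rw [map_sum]
  refine Finset.sum_congr rfl fun j _ => ?_
  rw [map_smul, smul_eq_mul, mul_comm]
  rfl

lemma cC_nonneg (b : P.Base) {i : ι} (hi : b.IsPos i) (j : b.support) : 0 ≤ cC b i j :=
  coroot'_nonneg_of_isPos b (fundWeight_mem_closedChamber b j) hi

omit [LinearOrder R] [IsStrictOrderedRing R] [Finite ι] [P.IsCrystallographic] [P.IsReduced] in
lemma cC_neg_idx (b : P.Base) (i : ι) (j : b.support) :
    cC b (P.reflectionPerm i i) j = - cC b i j := coroot'_neg_idx i _

/-- In the closed chamber, a positive coroot is positive on `ξ` iff it involves a simple coroot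
which is positive on `ξ`. -/
lemma coroot'_pos_iff (b : P.Base) {ξ : M} (hξ : ξ ∈ closedChamber b) {i : ι} (hi : b.IsPos i) :
    0 < P.coroot' i ξ ↔ ∃ j : b.support, 0 < cC b i j ∧ 0 < P.coroot' (j : ι) ξ := by
  rw [coroot'_eq_sum b i ξ]
  constructor
  · intro h
    by_contra hno
    push Not at hno
    have : ∑ j : b.support, cC b i j * P.coroot' (j : ι) ξ ≤ 0 := by
      apply Finset.sum_nonpos
      intro j _
      rcases (cC_nonneg b hi j).lt_or_eq with h1 | h1
      · have h2 := hno j h1
        have h3 := hξ j j.2
        have : P.coroot' (j : ι) ξ = 0 := le_antisymm h2 h3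
        rw [this, mul_zero]
      · rw [← h1, zero_mul]
    exact absurd h (not_lt.mpr this)
  · rintro ⟨j, hj1, hj2⟩
    apply Finset.sum_pos'
    · intro k _
      exact mul_nonneg (cC_nonneg b hi k) (hξ k k.2)
    · exact ⟨j, Finset.mem_univ _, mul_pos hj1 hj2⟩

/-- Two vectors of a closed chamber which are positive on the same simple coroots have the same
sign vector. -/
lemma sgnVec_eq_of_closedChamber (b : P.Base) {ξ η : M} (hξ : ξ ∈ closedChamber b)
    (hη : η ∈ closedChamber b)
    (h : ∀ j : b.support, 0 < P.coroot' (j : ι) ξ ↔ 0 < P.coroot' (j : ι) η) :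
    sgnVec P ξ = sgnVec P η := by
  have key : ∀ i, b.IsPos i → SignType.sign (P.coroot' i ξ) = SignType.sign (P.coroot' i η) := by
    intro i hi
    have h1 := coroot'_pos_iff b hξ hi
    have h2 := coroot'_pos_iff b hη hi
    have h3 : 0 < P.coroot' i ξ ↔ 0 < P.coroot' i η := by
      rw [h1, h2]
      exact exists_congr fun j => and_congr_right fun _ => h j
    have n1 := coroot'_nonneg_of_isPos b hξ hi
    have n2 := coroot'_nonneg_of_isPos b hη hi
    rcases n1.lt_or_eq with p1 | p1
    · rw [sign_pos p1, sign_pos (h3.mp p1)]
    · have : ¬ 0 < P.coroot' i η := fun hh => absurd (h3.mpr hh) (by rw [← p1]; exact lt_irrefl _)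
      have p2 : P.coroot' i η = 0 := le_antisymm (not_lt.mp this) n2
      rw [← p1, p2]
  funext i
  unfold sgnVec
  by_cases hi : b.IsPos i
  · exact key i hi
  · have hi' : b.IsPos (P.reflectionPerm i i) := by
      have h2 : b.height (P.reflectionPerm i i) = - b.height i := b.height_reflectionPerm_self i
      have h3 := b.height_ne_zero i
      rw [RootPairing.Base.isPos_iff] at hi ⊢
      omega
    have := key _ hi'
    rw [coroot'_neg_idx, coroot'_neg_idx, Left.sign_neg, Left.sign_neg] at this
    exact neg_injective this

end Groth.Agent.Lib.RootChB_helper8
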