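import Groth.Agent.Lib.RootChB_helper8

set_option autoImplicit false

/-!
# Chambers of a root system, III: facets inside a closed chamber, corners (helper8)
-/

namespace Groth.Agent.Lib.RootChC_helper8

open RootCh Set RootPairing Groth.Agent.Lib.RootChA_helper8 Groth.Agent.Lib.RootChB_helper8
open scoped Classical

variable {ι R M N : Type*} [Field R] [LinearOrder R] [IsStrictOrderedRing R]
  [AddCommGroup M] [Module R M] [AddCommGroup N] [Module R N] [Finite ι]
  {P : RootPairing ι R M N} [P.IsRootSystem] [P.IsCrystallographic] [P.IsReduced]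

omit [IsStrictOrderedRing R] [Finite ι] [P.IsRootSystem] [P.IsCrystallographic] [P.IsReduced] in
lemma sgnVec_apply (ξ : M) (i : ι) : sgnVec P ξ i = SignType.sign (P.coroot' i ξ) := rfl

omit [Finite ι] [P.IsRootSystem] [P.IsCrystallographic] [P.IsReduced] in
lemma sgnVec_neg_idx (ξ : M) (i : ι) :
    sgnVec P ξ (P.reflectionPerm i i) = - sgnVec P ξ i := by
  rw [sgnVec_apply, sgnVec_apply, coroot'_neg_idx, Left.sign_neg]

omit [Finite ι] [P.IsRootSystem] [P.IsCrystallographic] [P.IsReduced] in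
lemma Facet.sgn_neg_idx (F : Facet P) (i : ι) : F.sgn (P.reflectionPerm i i) = - F.sgn i := by
  obtain ⟨ξ, hξ⟩ := F.exists_sgnVec_eq
  rw [← hξ, sgnVec_neg_idx]

omit [IsStrictOrderedRing R] [Finite ι] [P.IsRootSystem] [P.IsCrystallographic] [P.IsReduced] in
lemma sgnVec_eq_one_iff (ξ : M) (i : ι) : sgnVec P ξ i = 1 ↔ 0 < P.coroot' i ξ := by
  rw [sgnVec_apply, sign_eq_one_iff]

omit [IsStrictOrderedRing R] [Finite ι] [P.IsRootSystem] [P.IsCrystallographic] [P.IsReduced] in
lemma sgnVec_ne_neg_one_iff (ξ : M) (i : ι) : sgnVec P ξ i ≠ -1 ↔ 0 ≤ P.coroot' i ξ := by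
  rw [sgnVec_apply, Ne, sign_eq_neg_one_iff, not_lt]

omit [IsStrictOrderedRing R] [Finite ι] [P.IsRootSystem] [P.IsCrystallographic] [P.IsReduced] in
lemma sgnVec_eq_zero_iff (ξ : M) (i : ι) : sgnVec P ξ i = 0 ↔ P.coroot' i ξ = 0 := by
  rw [sgnVec_apply, sign_eq_zero_iff]

omit [IsStrictOrderedRing R] [Finite ι] [P.IsRootSystem] [P.IsCrystallographic] [P.IsReduced] in
/-- Chambers adjacent to a facet, in terms of signs. -/
lemma mem_cham_iff (F : Facet P) (b : P.Base) :
    b ∈ F.cham ↔ ∀ j ∈ b.support, F.sgn j ≠ -1 := by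
  constructor
  · intro h j hj
    obtain ⟨ξ, hξ⟩ := F.exists_sgnVec_eq
    have h1 : ξ ∈ closedChamber b := h hξ
    rw [← hξ, sgnVec_ne_neg_one_iff]
    exact h1 j hj
  · intro h ξ hξ j hj
    have hξ' : sgnVec P ξ = F.sgn := hξ
    rw [← sgnVec_ne_neg_one_iff, hξ']
    exact h j hj

theorem exists_mem_cham (F : Facet P) : ∃ b : P.Base, b ∈ F.cham := by
  obtain ⟨ξ, hξ⟩ := F.exists_sgnVec_eq
  obtain ⟨b, hb⟩ := exists_base_mem_closedChamber (P := P) ξ
  refine ⟨b, (mem_cham_iff F b).mpr fun j hj => ?_⟩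
  rw [← hξ, sgnVec_ne_neg_one_iff]
  exact hb j hj

/-- The vectors of a facet, inside an adjacent closed chamber. -/
lemma mem_carrier_iff (F : Facet P) {b : P.Base} (hb : b ∈ F.cham) (η : M) :
    η ∈ F.carrier ↔ η ∈ closedChamber b ∧
      ∀ j : b.support, (0 < P.coroot' (j : ι) η ↔ F.sgn j = 1) := by
  obtain ⟨ξ, hξ⟩ := F.exists_sgnVec_eq
  have hξb : ξ ∈ closedChamber b := hb hξ
  constructor
  · intro hη
    have hη' : sgnVec P η = F.sgn := hη
    refine ⟨hb hη, fun j => ?_⟩
    rw [← hη', sgnVec_eq_one_iff]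
  · rintro ⟨hηb, hη⟩
    change sgnVec P η = F.sgn
    rw [← hξ]
    apply sgnVec_eq_of_closedChamber b hηb hξb
    intro j
    rw [hη j, ← hξ, sgnVec_eq_one_iff]

/-- The closure of a facet, inside an adjacent closed chamber. -/
lemma mem_closure_iff (F : Facet P) {b : P.Base} (hb : b ∈ F.cham) (η : M) :
    η ∈ F.closure ↔ η ∈ closedChamber b ∧
      ∀ j : b.support, 0 < P.coroot' (j : ι) η → F.sgn j = 1 := by
  obtain ⟨ξ, hξ⟩ := F.exists_sgnVec_eq
  have hξb : ξ ∈ closedChamber b := hb hξ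
  have hsgn := (mem_cham_iff F b).mp hb
  constructor
  · intro hη
    have hηb : η ∈ closedChamber b := by
      intro j hj
      rw [← sgnVec_ne_neg_one_iff]
      rcases hη j with h | h
      · rw [h]; decide
      · rw [h]; exact hsgn j hj
    refine ⟨hηb, fun j hj => ?_⟩
    rcases hη j with h | h
    · rw [sgnVec_eq_zero_iff] at h
      rw [h] at hj
      exact absurd hj (lt_irrefl _)
    · rw [← h, sgnVec_eq_one_iff]
      exact hj
  · rintro ⟨hηb, hη⟩
    have key : ∀ i, b.IsPos i → sgnVec P η i = 0 ∨ sgnVec P η i = F.sgn i := by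
      intro i hi
      have n1 := coroot'_nonneg_of_isPos b hηb hi
      rcases n1.lt_or_eq with p1 | p1
      · right
        obtain ⟨j, hj1, hj2⟩ := (coroot'_pos_iff b hηb hi).mp p1
        have hFj := hη j hj2
        rw [← hξ, sgnVec_eq_one_iff] at hFj
        have : 0 < P.coroot' i ξ := (coroot'_pos_iff b hξb hi).mpr ⟨j, hj1, hFj⟩
        rw [← hξ, (sgnVec_eq_one_iff ξ i).mpr this, (sgnVec_eq_one_iff η i).mpr p1]
      · left
        rw [sgnVec_eq_zero_iff, ← p1]
    intro i
    by_cases hi : b.IsPos i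
    · exact key i hi
    · have hi' : b.IsPos (P.reflectionPerm i i) := by
        have h2 : b.height (P.reflectionPerm i i) = - b.height i := b.height_reflectionPerm_self i
        have h3 := b.height_ne_zero i
        rw [RootPairing.Base.isPos_iff] at hi ⊢
        omega
      have := key _ hi'
      rw [sgnVec_neg_idx, Facet.sgn_neg_idx] at this
      rcases this with h | h
      · left
        have aux : ∀ s : SignType, -s = 0 → s = 0 := by decide
        exact aux _ h
      · right; exact neg_injective h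

end Groth.Agent.Lib.RootChC_helper8
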