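import Groth.Agent.Lib.RootChC_helper8

set_option autoImplicit false

/-!
# Chambers of a root system, IV: corners of a chamber and of a facet (helper8)
-/

namespace Groth.Agent.Lib.RootChD_helper8

open RootCh Set RootPairing Groth.Agent.Lib.RootChA_helper8 Groth.Agent.Lib.RootChB_helper8
  Groth.Agent.Lib.RootChC_helper8
open scoped Classical

variable {ι R M N : Type*} [Field R] [LinearOrder R] [IsStrictOrderedRing R]
  [AddCommGroup M] [Module R M] [AddCommGroup N] [Module R N] [Finite ι]
  {P : RootPairing ι R M N} [P.IsRootSystem] [P.IsCrystallographic] [P.IsReduced]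

omit [Finite ι] [P.IsCrystallographic] [P.IsReduced] in
/-- The coefficients of a coroot in the simple coroots are integers. -/
lemma cC_eq_int (b : P.Base) (i : ι) (j : b.support) : ∃ z : ℤ, cC b i j = z := by
  obtain ⟨f, -, -, hf⟩ := b.flip.exists_root_eq_sum_int i
  have hf' : P.coroot i = ∑ k ∈ b.support, f k • P.coroot k := hf
  refine ⟨f j, ?_⟩
  unfold cC
  change P.toLinearMap (fundWeight b j) (P.coroot i) = _
  rw [hf', map_sum, ← Finset.sum_coe_sort b.support]
  rw [Finset.sum_eq_single j]
  · rw [map_zsmul]
    have : P.toLinearMap (fundWeight b j) (P.coroot (j : ι)) = 1 := coroot'_fundWeight_self b j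
    rw [this]
    simp
  · intro k _ hkj
    rw [map_zsmul]
    have : P.toLinearMap (fundWeight b j) (P.coroot (k : ι)) = 0 :=
      coroot'_fundWeight_of_ne b j k hkj
    rw [this, smul_zero]
  · intro h; exact absurd (Finset.mem_univ j) h

omit [Finite ι] [P.IsCrystallographic] [P.IsReduced] in
lemma fundWeight_mem_fundWeights (b : P.Base) (j : b.support) : fundWeight b j ∈ fundWeights P :=
  ⟨b, j, rfl⟩

omit [Finite ι] [P.IsCrystallographic] [P.IsReduced] in
lemma fundWeight_ne_zero (b : P.Base) (j : b.support) : fundWeight b j ≠ 0 := by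
  intro h
  have := coroot'_fundWeight_self b j
  rw [h, map_zero] at this
  exact zero_ne_one this

omit [Finite ι] [P.IsCrystallographic] [P.IsReduced] in
lemma ofVec_carrier (ξ : M) : ξ ∈ (Facet.ofVec P ξ).carrier := rfl

omit [Finite ι] [P.IsCrystallographic] [P.IsReduced] in
lemma mem_cham_ofVec {ξ : M} {b : P.Base} (h : ξ ∈ closedChamber b) :
    b ∈ (Facet.ofVec P ξ).cham := by
  rw [mem_cham_iff]
  intro j hj
  change sgnVec P ξ j ≠ -1
  rw [sgnVec_ne_neg_one_iff]
  exact h j hj

/-- The corners of the chamber of a base are its fundamental weights. -/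
theorem baseCorners_eq_range (b : P.Base) : baseCorners b = Set.range (fundWeight b) := by
  apply Set.Subset.antisymm
  · rintro m ⟨⟨b', i', rfl⟩, hmb⟩
    set m := fundWeight b' i' with hm
    set F := Facet.ofVec P m with hF
    have hb'F : b' ∈ F.cham := mem_cham_ofVec (fundWeight_mem_closedChamber b' i')
    have hbF : b ∈ F.cham := mem_cham_ofVec hmb
    have hFsgn : ∀ k : ι, F.sgn k = 1 ↔ 0 < P.coroot' k m := fun k => sgnVec_eq_one_iff m k
    -- description of the facet through `b'`
    have hray : ∀ η ∈ F.carrier, ∃ c : R, η = c • m := by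
      intro η hη
      obtain ⟨hηb', hη'⟩ := (mem_carrier_iff F hb'F η).mp hη
      refine ⟨P.coroot' (i' : ι) η, ?_⟩
      apply eq_of_coroot'_eq b'
      intro k
      rw [map_smul, smul_eq_mul, hm, coroot'_fundWeight]
      split_ifs with hk
      · rw [hk, mul_one]
      · rw [mul_zero]
        have h1 : ¬ 0 < P.coroot' (k : ι) η := by
          rw [hη' k, hFsgn, hm, coroot'_fundWeight, if_neg hk]
          exact lt_irrefl _
        exact le_antisymm (not_lt.mp h1) (hηb' k k.2)
    -- description through `b`
    have hne : ∃ j₀ : b.support, 0 < P.coroot' (j₀ : ι) m := by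
      by_contra hno
      push Not at hno
      have hm0 : m = 0 := by
        apply eq_of_coroot'_eq b
        intro k
        rw [map_zero]
        exact le_antisymm (hno k) (hmb k k.2)
      exact fundWeight_ne_zero b' i' hm0
    obtain ⟨j₀, hj₀⟩ := hne
    have hηF : m + fundWeight b j₀ ∈ F.carrier := by
      rw [mem_carrier_iff F hbF]
      refine ⟨fun k hk => ?_, fun k => ?_⟩
      · rw [map_add]
        exact add_nonneg (hmb k hk) (fundWeight_mem_closedChamber b j₀ k hk)
      · rw [hFsgn, map_add, coroot'_fundWeight]
        split_ifs with hk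
        · rw [hk]
          constructor
          · intro _; exact hj₀
          · intro _; linarith
        · rw [add_zero]
    obtain ⟨c, hc⟩ := hray _ hηF
    have hω : fundWeight b j₀ = (c - 1) • m := by
      rw [sub_smul, one_smul, ← hc]; abel
    set t := P.coroot' (j₀ : ι) m with ht
    have h1 : (c - 1) * t = 1 := by
      have := congrArg (P.coroot' (j₀ : ι)) hω
      rw [coroot'_fundWeight_self, map_smul, smul_eq_mul] at this
      exact this.symm
    have hmt : m = t • fundWeight b j₀ := by
      rw [hω, smul_smul, mul_comm, h1, one_smul]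
    -- integrality
    obtain ⟨z, hz⟩ := cC_eq_int b' (j₀ : ι) i'
    have hz' : t = z := hz
    obtain ⟨z', hz'2⟩ := cC_eq_int b (i' : ι) j₀
    have h2 : t * cC b (i' : ι) j₀ = 1 := by
      have := congrArg (P.coroot' (i' : ι)) hmt
      rw [hm, coroot'_fundWeight_self, map_smul, smul_eq_mul] at this
      exact this.symm
    rw [hz'2, hz'] at h2
    have h3 : z * z' = 1 := by exact_mod_cast h2
    have hzpos : 0 < z := by
      have : (0 : R) < z := by rw [← hz']; exact hj₀
      exact_mod_cast this
    have hz1 : z = 1 := by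
      rcases Int.eq_one_or_neg_one_of_mul_eq_one h3 with h | h
      · exact h
      · omega
    refine ⟨j₀, ?_⟩
    rw [hmt, hz', hz1]
    simp
  · rintro _ ⟨j, rfl⟩
    exact ⟨fundWeight_mem_fundWeights b j, fundWeight_mem_closedChamber b j⟩

end Groth.Agent.Lib.RootChD_helper8
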