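import Groth.Agent.Lib.RootChD_helper8

set_option autoImplicit false

/-!
# Chambers of a root system, V: the corners of a facet (helper8)
-/

namespace Groth.Agent.Lib.RootChE_helper8

open RootCh Set RootPairing Groth.Agent.Lib.RootChA_helper8 Groth.Agent.Lib.RootChB_helper8
  Groth.Agent.Lib.RootChC_helper8 Groth.Agent.Lib.RootChD_helper8
open scoped Classical

variable {ι R M N : Type*} [Field R] [LinearOrder R] [IsStrictOrderedRing R]
  [AddCommGroup M] [Module R M] [AddCommGroup N] [Module R N] [Finite ι]
  {P : RootPairing ι R M N} [P.IsRootSystem] [P.IsCrystallographic] [P.IsReduced]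

/-- The corners of a facet are the fundamental weights of an adjacent chamber attached to the
simple coroots which are positive on the facet. -/
theorem corners_eq (F : Facet P) {b : P.Base} (hb : b ∈ F.cham) :
    F.corners = {m | ∃ j : b.support, F.sgn j = 1 ∧ fundWeight b j = m} := by
  ext m
  constructor
  · rintro ⟨hm1, hm2⟩
    obtain ⟨hmb, hm3⟩ := (mem_closure_iff F hb m).mp hm2
    have : m ∈ baseCorners b := ⟨hm1, hmb⟩
    rw [baseCorners_eq_range] at this
    obtain ⟨j, rfl⟩ := this
    refine ⟨j, hm3 j ?_, rfl⟩
    rw [coroot'_fundWeight_self]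
    exact one_pos
  · rintro ⟨j, hj, rfl⟩
    refine ⟨fundWeight_mem_fundWeights b j, ?_⟩
    rw [mem_closure_iff F hb]
    refine ⟨fundWeight_mem_closedChamber b j, fun k hk => ?_⟩
    rw [coroot'_fundWeight] at hk
    split_ifs at hk with hkj
    · rw [hkj]; exact hj
    · exact absurd hk (lt_irrefl _)

lemma corners_subset_range (F : Facet P) {b : P.Base} (hb : b ∈ F.cham) :
    F.corners ⊆ Set.range (fundWeight b) := by
  rw [corners_eq F hb]
  rintro m ⟨j, -, rfl⟩
  exact ⟨j, rfl⟩

lemma corners_subset_baseCorners (F : Facet P) {b : P.Base} (hb : b ∈ F.cham) :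
    F.corners ⊆ baseCorners b := by
  rw [baseCorners_eq_range]
  exact corners_subset_range F hb

theorem linearIndepOn_corners (F : Facet P) : LinearIndepOn R (fun m : M => m) F.corners := by
  obtain ⟨b, hb⟩ := exists_mem_cham F
  exact (linearIndependent_fundWeight b).linearIndepOn_id.mono (corners_subset_range F hb)

/-- Expansion of a vector of a facet in the corners. -/
lemma eq_sum_of_mem_carrier (F : Facet P) {b : P.Base} (hb : b ∈ F.cham) {η : M}
    (hη : η ∈ F.carrier) :
    η = ∑ j ∈ Finset.univ.filter (fun j : b.support => F.sgn j = 1),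
      P.coroot' (j : ι) η • fundWeight b j := by
  obtain ⟨hηb, hη'⟩ := (mem_carrier_iff F hb η).mp hη
  conv_lhs => rw [eq_sum_fundWeight b η]
  rw [Finset.sum_filter]
  refine Finset.sum_congr rfl fun j _ => ?_
  split_ifs with hj
  · rfl
  · have h1 : ¬ 0 < P.coroot' (j : ι) η := fun h => hj ((hη' j).mp h)
    have : P.coroot' (j : ι) η = 0 := le_antisymm (not_lt.mp h1) (hηb j j.2)
    rw [this, zero_smul]

/-- A combination of the corners with positive coefficients lies in the facet. -/
lemma sum_mem_carrier (F : Facet P) {b : P.Base} (hb : b ∈ F.cham) (c : b.support → R)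
    (hc : ∀ j : b.support, F.sgn j = 1 → 0 < c j) :
    (∑ j ∈ Finset.univ.filter (fun j : b.support => F.sgn j = 1), c j • fundWeight b j) ∈
      F.carrier := by
  rw [mem_carrier_iff F hb]
  have hpair : ∀ k : b.support, P.coroot' (k : ι)
      (∑ j ∈ Finset.univ.filter (fun j : b.support => F.sgn j = 1), c j • fundWeight b j) =
      if F.sgn k = 1 then c k else 0 := by
    intro k
    rw [map_sum]
    simp only [map_smul, smul_eq_mul, coroot'_fundWeight]
    split_ifs with hk
    · rw [Finset.sum_eq_single k]
      · simp
      · intro j _ hjk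
        rw [if_neg (Ne.symm hjk), mul_zero]
      · intro h
        exact absurd (Finset.mem_filter.mpr ⟨Finset.mem_univ k, hk⟩) h
    · apply Finset.sum_eq_zero
      intro j hj
      have hj1 := (Finset.mem_filter.mp hj).2
      have : k ≠ j := fun h => hk (h ▸ hj1)
      rw [if_neg this, mul_zero]
  refine ⟨fun k hk => ?_, fun k => ?_⟩
  · have := hpair ⟨k, hk⟩
    simp only at this
    rw [this]
    split_ifs with h
    · exact (hc _ h).le
    · exact le_rfl
  · rw [hpair k]
    split_ifs with h
    · exact ⟨fun _ => h, fun _ => hc k h⟩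
    · exact ⟨fun h' => absurd h' (lt_irrefl _), fun h' => absurd h' h⟩

theorem span_carrier_eq_span_corners (F : Facet P) :
    Submodule.span R F.carrier = Submodule.span R F.corners := by
  obtain ⟨b, hb⟩ := exists_mem_cham F
  apply le_antisymm
  · rw [Submodule.span_le]
    intro η hη
    rw [eq_sum_of_mem_carrier F hb hη]
    apply Submodule.sum_mem
    intro j hj
    apply Submodule.smul_mem
    apply Submodule.subset_span
    rw [corners_eq F hb]
    exact ⟨j, (Finset.mem_filter.mp hj).2, rfl⟩
  · rw [Submodule.span_le, corners_eq F hb]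
    rintro m ⟨j, hj, rfl⟩
    -- `ω_j = (ξ + ω_j) - ξ` with both in the facet
    have h1 := sum_mem_carrier F hb (fun _ => (1 : R)) (fun _ _ => one_pos)
    have h2 := sum_mem_carrier F hb (fun k => if k = j then (2 : R) else 1)
      (fun k _ => by split_ifs <;> norm_num)
    have h3 : fundWeight b j =
        (∑ k ∈ Finset.univ.filter (fun k : b.support => F.sgn k = 1),
          (if k = j then (2 : R) else 1) • fundWeight b k) -
        ∑ k ∈ Finset.univ.filter (fun k : b.support => F.sgn k = 1),
          (1 : R) • fundWeight b k := by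
      rw [← Finset.sum_sub_distrib]
      rw [Finset.sum_eq_single j]
      · rw [if_pos rfl, ← sub_smul]
        norm_num
      · intro k _ hkj
        rw [if_neg hkj, sub_self]
      · intro h
        exact absurd (Finset.mem_filter.mpr ⟨Finset.mem_univ j, hj⟩) h
    rw [SetLike.mem_coe, h3]
    exact Submodule.sub_mem _ (Submodule.subset_span h2) (Submodule.subset_span h1)

end Groth.Agent.Lib.RootChE_helper8
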