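import Groth.Agent.Lib.RootChE_helper8

set_option autoImplicit false

/-!
# Chambers of a root system, VI: a facet as the open cone on its corners (helper8)
-/

namespace Groth.Agent.Lib.RootChF_helper8

open RootCh Set RootPairing Groth.Agent.Lib.RootChA_helper8 Groth.Agent.Lib.RootChB_helper8
  Groth.Agent.Lib.RootChC_helper8 Groth.Agent.Lib.RootChD_helper8
  Groth.Agent.Lib.RootChE_helper8
open scoped Classical

variable {ι R M N : Type*} [Field R] [LinearOrder R] [IsStrictOrderedRing R]
  [AddCommGroup M] [Module R M] [AddCommGroup N] [Module R N] [Finite ι]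
  {P : RootPairing ι R M N} [P.IsRootSystem] [P.IsCrystallographic] [P.IsReduced]

theorem carrier_eq_pos_combinations (F : Facet P) :
    F.carrier = {ξ : M | ∃ c : M →₀ R, (c.support : Set M) ⊆ F.corners ∧
      (∀ m ∈ F.corners, 0 < c m) ∧ c.sum (fun m r => r • m) = ξ} := by
  obtain ⟨b, hb⟩ := exists_mem_cham F
  have hinj := fundWeight_injective b
  set J := Finset.univ.filter (fun j : b.support => F.sgn j = 1) with hJ
  have hcorn : F.corners = ((J.image (fundWeight b) : Finset M) : Set M) := by
    rw [corners_eq F hb]
    ext m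
    simp only [Set.mem_ofPred_eq, Finset.coe_image, Set.mem_image, Finset.mem_coe, hJ,
      Finset.mem_filter, Finset.mem_univ, true_and]
  ext ξ
  constructor
  · intro hξ
    obtain ⟨hξb, hξ'⟩ := (mem_carrier_iff F hb ξ).mp hξ
    set c₀ : b.support →₀ R := Finsupp.equivFunOnFinite.symm
      (fun j => if F.sgn j = 1 then P.coroot' (j : ι) ξ else 0) with hc₀
    have hc₀app : ∀ j, c₀ j = if F.sgn j = 1 then P.coroot' (j : ι) ξ else 0 := fun j => rfl
    refine ⟨Finsupp.mapDomain (fundWeight b) c₀, ?_, ?_, ?_⟩
    · intro m hm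
      have := Finsupp.mapDomain_support hm
      rw [Finset.mem_image] at this
      obtain ⟨j, hj, rfl⟩ := this
      rw [corners_eq F hb]
      refine ⟨j, ?_, rfl⟩
      by_contra hne
      rw [Finsupp.mem_support_iff, hc₀app, if_neg hne] at hj
      exact hj rfl
    · intro m hm
      rw [corners_eq F hb] at hm
      obtain ⟨j, hj, rfl⟩ := hm
      rw [Finsupp.mapDomain_apply hinj, hc₀app, if_pos hj]
      exact (hξ' j).mpr hj
    · rw [Finsupp.sum_mapDomain_index_inj hinj,
        Finsupp.sum_fintype c₀ (fun a r => r • fundWeight b a) (fun a => zero_smul R _)]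
      conv_rhs => rw [eq_sum_of_mem_carrier F hb hξ]
      rw [Finset.sum_filter]
      refine Finset.sum_congr rfl fun j _ => ?_
      rw [hc₀app]
      split_ifs
      · rfl
      · rw [zero_smul]
  · rintro ⟨c, hsupp, hpos, rfl⟩
    have h1 : c.sum (fun m r => r • m) = ∑ m ∈ J.image (fundWeight b), c m • m := by
      apply Finsupp.sum_of_support_subset
      · intro m hm
        have := hsupp hm
        rw [hcorn] at this
        exact this
      · intro m _
        exact zero_smul R m
    rw [h1, Finset.sum_image (fun x _ y _ h => hinj h)]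
    apply sum_mem_carrier F hb (fun j => c (fundWeight b j))
    intro j hj
    apply hpos
    rw [corners_eq F hb]
    exact ⟨j, hj, rfl⟩

end Groth.Agent.Lib.RootChF_helper8
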