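import Groth.Agent.Lib.RootChF_helper8

set_option autoImplicit false

/-!
# Chambers of a root system, VII: the facets of a closed chamber (helper8)
-/

namespace Groth.Agent.Lib.RootChG_helper8

open RootCh Set RootPairing Groth.Agent.Lib.RootChA_helper8 Groth.Agent.Lib.RootChB_helper8
  Groth.Agent.Lib.RootChC_helper8 Groth.Agent.Lib.RootChD_helper8
  Groth.Agent.Lib.RootChE_helper8
open scoped Classical

variable {ι R M N : Type*} [Field R] [LinearOrder R] [IsStrictOrderedRing R]
  [AddCommGroup M] [Module R M] [AddCommGroup N] [Module R N] [Finite ι]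
  {P : RootPairing ι R M N} [P.IsRootSystem] [P.IsCrystallographic] [P.IsReduced]

/-- The facet of the closed chamber of `b` attached to a set of simple indices. -/
noncomputable def facetOfSubset (b : P.Base) (J : Finset b.support) : Facet P :=
  Facet.ofVec P (∑ j ∈ J, fundWeight b j)

omit [Finite ι] [P.IsCrystallographic] [P.IsReduced] in
lemma coroot'_sum_fundWeight (b : P.Base) (J : Finset b.support) (k : b.support) :
    P.coroot' (k : ι) (∑ j ∈ J, fundWeight b j) = if k ∈ J then 1 else 0 := by
  rw [map_sum]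
  simp only [coroot'_fundWeight]
  rw [Finset.sum_ite_eq]

omit [Finite ι] [P.IsCrystallographic] [P.IsReduced] in
lemma sum_fundWeight_mem_closedChamber (b : P.Base) (J : Finset b.support) :
    (∑ j ∈ J, fundWeight b j) ∈ closedChamber b := by
  intro k hk
  have := coroot'_sum_fundWeight b J ⟨k, hk⟩
  simp only at this
  rw [this]
  split_ifs <;> norm_num

omit [Finite ι] [P.IsCrystallographic] [P.IsReduced] in
lemma mem_cham_facetOfSubset (b : P.Base) (J : Finset b.support) :
    b ∈ (facetOfSubset b J).cham :=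
  mem_cham_ofVec (sum_fundWeight_mem_closedChamber b J)

omit [Finite ι] [P.IsCrystallographic] [P.IsReduced] in
lemma sgn_facetOfSubset (b : P.Base) (J : Finset b.support) (k : b.support) :
    (facetOfSubset b J).sgn k = 1 ↔ k ∈ J := by
  change sgnVec P _ k = 1 ↔ _
  rw [sgnVec_eq_one_iff, coroot'_sum_fundWeight]
  split_ifs with h
  · exact ⟨fun _ => h, fun _ => one_pos⟩
  · exact ⟨fun h' => absurd h' (lt_irrefl _), fun h' => absurd h' h⟩

theorem corners_facetOfSubset (b : P.Base) (J : Finset b.support) :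
    (facetOfSubset b J).corners = fundWeight b '' (J : Set b.support) := by
  rw [corners_eq _ (mem_cham_facetOfSubset b J)]
  ext m
  simp only [Set.mem_ofPred_eq, sgn_facetOfSubset, Set.mem_image, Finset.mem_coe]

/-- Adding a corner of an adjacent chamber to a facet. -/
theorem exists_facet_corners_insert (F : Facet P) (m : M) (hm : m ∈ F.corners') :
    ∃ G : Facet P, G.corners = insert m F.corners := by
  simp only [Facet.corners', Set.mem_iUnion] at hm
  obtain ⟨b, hb, hmb⟩ := hm
  rw [baseCorners_eq_range] at hmb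
  obtain ⟨jm, rfl⟩ := hmb
  refine ⟨facetOfSubset b (insert jm (Finset.univ.filter (fun j : b.support => F.sgn j = 1))), ?_⟩
  rw [corners_facetOfSubset, corners_eq F hb]
  ext m
  simp only [Finset.coe_insert, Finset.coe_filter, Finset.mem_univ, true_and, Set.mem_image,
    Set.mem_insert_iff, Set.mem_ofPred_eq]
  constructor
  · rintro ⟨j, hj | hj, rfl⟩
    · left; rw [hj]
    · right; exact ⟨j, hj, rfl⟩
  · rintro (rfl | ⟨j, hj, rfl⟩)
    · exact ⟨jm, Or.inl rfl, rfl⟩
    · exact ⟨j, Or.inr hj, rfl⟩

/-- Removing a corner from a facet. -/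
theorem exists_facet_corners_diff (F : Facet P) (m : M) :
    ∃ G : Facet P, G.corners = F.corners \ {m} := by
  obtain ⟨b, hb⟩ := exists_mem_cham F
  refine ⟨facetOfSubset b
    (Finset.univ.filter (fun j : b.support => F.sgn j = 1 ∧ fundWeight b j ≠ m)), ?_⟩
  rw [corners_facetOfSubset, corners_eq F hb]
  ext m'
  simp only [Finset.coe_filter, Finset.mem_univ, true_and, Set.mem_image, Set.mem_ofPred_eq,
    Set.mem_diff, Set.mem_singleton_iff]
  constructor
  · rintro ⟨j, ⟨hj1, hj2⟩, rfl⟩
    exact ⟨⟨j, hj1, rfl⟩, hj2⟩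
  · rintro ⟨⟨j, hj, rfl⟩, hne⟩
    exact ⟨j, ⟨hj, hne⟩, rfl⟩

end Groth.Agent.Lib.RootChG_helper8
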