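import Groth.Agent.Lib.RootChG_helper8
import Mathlib.LinearAlgebra.RootSystem.Finite.CanonicalBilinear

set_option autoImplicit false

/-!
# Chambers of a root system, VIII: the invariant form, fundamental coweights (helper8)
-/

namespace Groth.Agent.Lib.RootChH_helper8

open RootCh Set RootPairing Groth.Agent.Lib.RootChA_helper8 Groth.Agent.Lib.RootChB_helper8
  Groth.Agent.Lib.RootChC_helper8 Groth.Agent.Lib.RootChD_helper8
  Groth.Agent.Lib.RootChE_helper8
open scoped Classical

variable {ι R M N : Type*} [Field R] [LinearOrder R] [IsStrictOrderedRing R]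
  [AddCommGroup M] [Module R M] [AddCommGroup N] [Module R N]
  {P : RootPairing ι R M N}

section Fin

variable [Fintype ι]

lemma rootForm_root_self_pos (i : ι) : 0 < P.RootForm (P.root i) (P.root i) := by
  rw [P.rootForm_root_self]
  apply Finset.sum_pos'
  · intro k _
    exact mul_self_nonneg _
  · refine ⟨i, Finset.mem_univ _, ?_⟩
    rw [P.pairing_same]
    norm_num

lemma rootForm_root_left (i : ι) (x : M) :
    P.RootForm (P.root i) x = (P.RootForm (P.root i) (P.root i) / 2) * P.coroot' i x := by
  have h := congrArg (P.toLinearMap x) (P.rootForm_self_smul_coroot i)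
  rw [map_smul, map_nsmul, P.toLinearMap_apply_apply_Polarization, smul_eq_mul] at h
  change _ * P.coroot' i x = _ at h
  rw [nsmul_eq_mul] at h
  push_cast at h
  linear_combination (-1 / 2 : R) * h

lemma rootForm_symm (x y : M) : P.RootForm x y = P.RootForm y x := by
  rw [P.rootForm_apply_apply, P.rootForm_apply_apply]
  exact Finset.sum_congr rfl fun i _ => mul_comm _ _

/-- The coefficient of the simple root `j` in the root `i`. -/
noncomputable def cR [P.IsRootSystem] (b : P.Base) (i : ι) (j : b.support) : R :=
  P.root' i (fundCoweight b j)

omit [LinearOrder R] [IsStrictOrderedRing R] [Fintype ι] in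
lemma root'_fundCoweight [P.IsRootSystem] (b : P.Base) (i j : b.support) :
    P.root' (j : ι) (fundCoweight b i) = if j = i then 1 else 0 := by
  split_ifs with h
  · rw [h]; exact root'_fundCoweight_self b i
  · exact root'_fundCoweight_of_ne b i j h

omit [LinearOrder R] [IsStrictOrderedRing R] [Fintype ι] in
/-- Two covectors with the same pairings against the simple roots are equal. -/
lemma eq_of_root'_eq [P.IsRootSystem] (b : P.Base) {x y : N}
    (h : ∀ j : b.support, P.root' (j : ι) x = P.root' (j : ι) y) : x = y :=
  eq_of_coroot'_eq (P := P.flip) b.flip h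

/-- The fundamental coweight is a positive multiple of the polarization of the fundamental
weight. -/
lemma fundCoweight_eq_smul_polarization [P.IsRootSystem] (b : P.Base) (j : b.support) :
    fundCoweight b j =
      (2 / P.RootForm (P.root j) (P.root j)) • P.Polarization (fundWeight b j) := by
  apply eq_of_root'_eq b
  intro k
  rw [root'_fundCoweight, map_smul, smul_eq_mul]
  have e1 : P.root' (k : ι) (P.Polarization (fundWeight b j)) =
      P.RootForm (fundWeight b j) (P.root k) :=
    P.toLinearMap_apply_apply_Polarization _ _
  have e2 : P.RootForm (fundWeight b j) (P.root k) =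
      (P.RootForm (P.root k) (P.root k) / 2) * P.coroot' (k : ι) (fundWeight b j) := by
    rw [rootForm_symm]; exact rootForm_root_left (k : ι) _
  rw [e1, e2, coroot'_fundWeight]
  have hj := (rootForm_root_self_pos (P := P) (j : ι)).ne'
  split_ifs with hkj
  · rw [hkj]
    field_simp
  · rw [mul_zero, mul_zero]

/-- Roots and coroots have proportional coefficients. -/
lemma cR_eq_mul_cC [P.IsRootSystem] (b : P.Base) (i : ι) (j : b.support) :
    cR b i j = (P.RootForm (P.root i) (P.root i) / P.RootForm (P.root j) (P.root j)) *
      cC b i j := by
  unfold cR cC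
  rw [fundCoweight_eq_smul_polarization, map_smul, smul_eq_mul]
  have e1 : P.root' i (P.Polarization (fundWeight b j)) =
      P.RootForm (fundWeight b j) (P.root i) :=
    P.toLinearMap_apply_apply_Polarization _ _
  have e2 : P.RootForm (fundWeight b j) (P.root i) =
      (P.RootForm (P.root i) (P.root i) / 2) * P.coroot' i (fundWeight b j) := by
    rw [rootForm_symm]; exact rootForm_root_left i _
  rw [e1, e2]
  have hj := (rootForm_root_self_pos (P := P) (j : ι)).ne'
  field_simp

/-- Additivity of coroots up to positive factors. -/
lemma coroot_add_of_root_add {i j k : ι} (h : P.root k = P.root i + P.root j) :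
    P.coroot k = (P.RootForm (P.root i) (P.root i) / P.RootForm (P.root k) (P.root k)) •
        P.coroot i +
      (P.RootForm (P.root j) (P.root j) / P.RootForm (P.root k) (P.root k)) • P.coroot j := by
  have hk := (rootForm_root_self_pos (P := P) k).ne'
  have h1 := P.rootForm_self_smul_coroot k
  have h2 := P.rootForm_self_smul_coroot i
  have h3 := P.rootForm_self_smul_coroot j
  have h5 : P.Polarization (P.root k) = P.Polarization (P.root i) + P.Polarization (P.root j) := by
    rw [h, map_add]
  rw [h5, smul_add, ← h2, ← h3] at h1
  have h4 : P.coroot k = (P.RootForm (P.root k) (P.root k))⁻¹ •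
      (P.RootForm (P.root k) (P.root k) • P.coroot k) := by
    rw [smul_smul, inv_mul_cancel₀ hk, one_smul]
  rw [h4, h1, smul_add, smul_smul, smul_smul]
  congr 2 <;> field_simp

end Fin

end Groth.Agent.Lib.RootChH_helper8
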