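import Groth.Agent.Lib.RootChH_helper8

set_option autoImplicit false

/-!
# Chambers of a root system, IX: roots versus coroots, the correspondence of fundamental weights
and coweights (helper8)
-/

namespace Groth.Agent.Lib.RootChI_helper8

open RootCh Set RootPairing Groth.Agent.Lib.RootChA_helper8 Groth.Agent.Lib.RootChB_helper8
  Groth.Agent.Lib.RootChC_helper8 Groth.Agent.Lib.RootChD_helper8
  Groth.Agent.Lib.RootChE_helper8 Groth.Agent.Lib.RootChH_helper8
open scoped Classical

variable {ι R M N : Type*} [Field R] [LinearOrder R] [IsStrictOrderedRing R]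
  [AddCommGroup M] [Module R M] [AddCommGroup N] [Module R N] [Finite ι]
  {P : RootPairing ι R M N} [P.IsRootSystem]

lemma exists_pos_cR_eq (b : P.Base) (i : ι) (j : b.support) :
    ∃ t : R, 0 < t ∧ cR b i j = t * cC b i j := by
  cases nonempty_fintype ι
  exact ⟨_, div_pos (rootForm_root_self_pos i) (rootForm_root_self_pos (j : ι)),
    cR_eq_mul_cC b i j⟩

lemma cR_pos_iff (b : P.Base) (i : ι) (j : b.support) : 0 < cR b i j ↔ 0 < cC b i j := by
  obtain ⟨t, ht, h⟩ := exists_pos_cR_eq b i j
  rw [h]
  exact ⟨fun h' => (pos_iff_pos_of_mul_pos h').mp ht, fun h' => mul_pos ht h'⟩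

lemma cR_eq_zero_iff (b : P.Base) (i : ι) (j : b.support) : cR b i j = 0 ↔ cC b i j = 0 := by
  obtain ⟨t, ht, h⟩ := exists_pos_cR_eq b i j
  rw [h, mul_eq_zero]
  exact ⟨fun h' => h'.resolve_left ht.ne', fun h' => Or.inr h'⟩

lemma cR_neg_iff (b : P.Base) (i : ι) (j : b.support) : cR b i j < 0 ↔ cC b i j < 0 := by
  obtain ⟨t, ht, h⟩ := exists_pos_cR_eq b i j
  rw [h]
  constructor
  · intro h'
    by_contra hn
    push Not at hn
    exact absurd h' (not_lt.mpr (mul_nonneg ht.le hn))
  · intro h'
    exact mul_neg_of_pos_of_neg ht h'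

lemma exists_pos_coroot_add {i j k : ι} (h : P.root k = P.root i + P.root j) :
    ∃ s t : R, 0 < s ∧ 0 < t ∧ P.coroot k = s • P.coroot i + t • P.coroot j := by
  cases nonempty_fintype ι
  exact ⟨_, _, div_pos (rootForm_root_self_pos i) (rootForm_root_self_pos k),
    div_pos (rootForm_root_self_pos j) (rootForm_root_self_pos k), coroot_add_of_root_add h⟩

omit [Finite ι] in
lemma cR_eq_int (b : P.Base) (i : ι) (j : b.support) : ∃ z : ℤ, cR b i j = z :=
  cC_eq_int (P := P.flip) b.flip i j

/-- The fundamental coweight attached to a fundamental weight does not depend on the chamber. -/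
theorem fundCoweight_eq_of_fundWeight_eq {b b' : P.Base} {i : b.support} {i' : b'.support}
    (h : fundWeight b i = fundWeight b' i') : fundCoweight b i = fundCoweight b' i' := by
  cases nonempty_fintype ι
  set a := 2 / P.RootForm (P.root i) (P.root i) with ha
  set a' := 2 / P.RootForm (P.root i') (P.root i') with ha'
  have hapos : 0 < a := div_pos two_pos (rootForm_root_self_pos (i : ι))
  have ha'pos : 0 < a' := div_pos two_pos (rootForm_root_self_pos (i' : ι))
  have e1 : fundCoweight b i = a • P.Polarization (fundWeight b i) :=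
    fundCoweight_eq_smul_polarization b i
  have e2 : fundCoweight b' i' = a' • P.Polarization (fundWeight b i) := by
    rw [h]; exact fundCoweight_eq_smul_polarization b' i'
  have e3 : fundCoweight b' i' = (a' / a) • fundCoweight b i := by
    rw [e1, e2, smul_smul, div_mul_cancel₀ _ hapos.ne']
  set s := a' / a with hs
  have hspos : 0 < s := div_pos ha'pos hapos
  -- `s` is an integer
  obtain ⟨z, hz⟩ := cR_eq_int b' (i : ι) i'
  have h1 : s = z := by
    rw [← hz]
    unfold cR
    rw [e3, map_smul, root'_fundCoweight_self, smul_eq_mul, mul_one]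
  -- `1 / s` is an integer
  obtain ⟨z', hz'⟩ := cR_eq_int b (i' : ι) i
  have h2 : s * z' = 1 := by
    rw [← hz']
    unfold cR
    have := root'_fundCoweight_self b' i'
    rw [e3, map_smul, smul_eq_mul] at this
    exact this
  rw [h1] at h2
  have h3 : z * z' = 1 := by exact_mod_cast h2
  have hzpos : 0 < z := by
    have : (0 : R) < z := by rw [← h1]; exact hspos
    exact_mod_cast this
  have hz1 : z = 1 := by
    rcases Int.eq_one_or_neg_one_of_mul_eq_one h3 with h | h
    · exact h
    · omega
  rw [e3, h1, hz1]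
  simp

end Groth.Agent.Lib.RootChI_helper8
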