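import Groth.Agent.Lib.RootChI_helper8

set_option autoImplicit false

/-!
# Chambers of a root system, X: the dual facet (helper8)
-/

namespace Groth.Agent.Lib.RootChJ_helper8

open RootCh Set RootPairing Groth.Agent.Lib.RootChA_helper8 Groth.Agent.Lib.RootChB_helper8
  Groth.Agent.Lib.RootChC_helper8 Groth.Agent.Lib.RootChD_helper8
  Groth.Agent.Lib.RootChE_helper8 Groth.Agent.Lib.RootChG_helper8
  Groth.Agent.Lib.RootChH_helper8 Groth.Agent.Lib.RootChI_helper8
open scoped Classical

variable {ι R M N : Type*} [Field R] [LinearOrder R] [IsStrictOrderedRing R]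
  [AddCommGroup M] [Module R M] [AddCommGroup N] [Module R N] [Finite ι]
  {P : RootPairing ι R M N} [P.IsRootSystem]

theorem fundWeight_eq_of_fundCoweight_eq {b b' : P.Base} {i : b.support} {i' : b'.support}
    (h : fundCoweight b i = fundCoweight b' i') : fundWeight b i = fundWeight b' i' :=
  fundCoweight_eq_of_fundWeight_eq (P := P.flip) (b := b.flip) (b' := b'.flip) h

lemma corr_fundWeight_iff (b : P.Base) (j : b.support) (y : N) :
    Corr P (fundWeight b j) y ↔ y = fundCoweight b j := by
  constructor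
  · rintro ⟨b', i', h1, rfl⟩
    exact fundCoweight_eq_of_fundWeight_eq h1
  · rintro rfl
    exact ⟨b, j, rfl, rfl⟩

lemma corr_fundCoweight_iff (b : P.Base) (j : b.support) (m : M) :
    Corr P m (fundCoweight b j) ↔ m = fundWeight b j := by
  constructor
  · rintro ⟨b', i', rfl, h2⟩
    exact fundWeight_eq_of_fundCoweight_eq h2
  · rintro rfl
    exact ⟨b, j, rfl, rfl⟩

lemma sgnVec_flip (x : N) : sgnVec P.flip x = cosgnVec P x := rfl

/-- Sums of proportional non-negative families have the same sign. -/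
lemma sign_sum_eq_of_nonneg {κ : Type*} (J : Finset κ) (u v t : κ → R)
    (ht : ∀ j ∈ J, 0 < t j) (hv : ∀ j ∈ J, v j = t j * u j) (hu : ∀ j ∈ J, 0 ≤ u j) :
    SignType.sign (∑ j ∈ J, u j) = SignType.sign (∑ j ∈ J, v j) := by
  have hv0 : ∀ j ∈ J, 0 ≤ v j := fun j hj => by
    rw [hv j hj]; exact mul_nonneg (ht j hj).le (hu j hj)
  by_cases h : ∃ j ∈ J, 0 < u j
  · obtain ⟨j, hj, hj'⟩ := h
    have h1 : 0 < ∑ j ∈ J, u j := Finset.sum_pos' hu ⟨j, hj, hj'⟩
    have h2 : 0 < ∑ j ∈ J, v j :=
      Finset.sum_pos' hv0 ⟨j, hj, by rw [hv j hj]; exact mul_pos (ht j hj) hj'⟩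
    rw [sign_pos h1, sign_pos h2]
  · push Not at h
    have hu0 : ∀ j ∈ J, u j = 0 := fun j hj => le_antisymm (h j hj) (hu j hj)
    have h1 : ∑ j ∈ J, u j = 0 := Finset.sum_eq_zero hu0
    have h2 : ∑ j ∈ J, v j = 0 :=
      Finset.sum_eq_zero fun j hj => by rw [hv j hj, hu0 j hj, mul_zero]
    rw [h1, h2]

lemma sign_sum_eq_of_nonpos {κ : Type*} (J : Finset κ) (u v t : κ → R)
    (ht : ∀ j ∈ J, 0 < t j) (hv : ∀ j ∈ J, v j = t j * u j) (hu : ∀ j ∈ J, u j ≤ 0) :
    SignType.sign (∑ j ∈ J, u j) = SignType.sign (∑ j ∈ J, v j) := by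
  have := sign_sum_eq_of_nonneg J (fun j => - u j) (fun j => - v j) t ht
    (fun j hj => by rw [hv j hj]; ring) (fun j hj => neg_nonneg.mpr (hu j hj))
  rw [Finset.sum_neg_distrib, Finset.sum_neg_distrib, Left.sign_neg, Left.sign_neg] at this
  exact neg_injective this

variable [P.IsCrystallographic] [P.IsReduced]

/-- The sum of fundamental weights and the corresponding sum of fundamental coweights have the
same sign vector. -/
theorem sgnVec_sum_fundWeight_eq (b : P.Base) (J : Finset b.support) :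
    sgnVec P (∑ j ∈ J, fundWeight b j) = cosgnVec P (∑ j ∈ J, fundCoweight b j) := by
  funext i
  have e1 : P.coroot' i (∑ j ∈ J, fundWeight b j) = ∑ j ∈ J, cC b i j :=
    map_sum (P.coroot' i) _ _
  have e2 : P.root' i (∑ j ∈ J, fundCoweight b j) = ∑ j ∈ J, cR b i j :=
    map_sum (P.root' i) _ _
  change SignType.sign (P.coroot' i (∑ j ∈ J, fundWeight b j)) =
    SignType.sign (P.root' i (∑ j ∈ J, fundCoweight b j))
  rw [e1, e2]
  choose t ht htv using fun j : b.support => exists_pos_cR_eq b i j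
  by_cases hi : b.IsPos i
  · exact sign_sum_eq_of_nonneg J (fun j => cC b i j) (fun j => cR b i j) t
      (fun j _ => ht j) (fun j _ => htv j) (fun j _ => cC_nonneg b hi j)
  · have hi' : b.IsPos (P.reflectionPerm i i) := by
      have h2 : b.height (P.reflectionPerm i i) = - b.height i := b.height_reflectionPerm_self i
      have h3 := b.height_ne_zero i
      rw [RootPairing.Base.isPos_iff] at hi ⊢
      omega
    refine sign_sum_eq_of_nonpos J (fun j => cC b i j) (fun j => cR b i j) t
      (fun j _ => ht j) (fun j _ => htv j) (fun j _ => ?_)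
    have := cC_nonneg b hi' j
    rw [cC_neg_idx] at this
    exact neg_nonneg.mp this

/-- The dual facet, as a facet of the dual root system. -/
noncomputable def dualFacet (F : Facet P) : Facet P.flip where
  sgn := F.sgn
  exists_sgnVec_eq := by
    obtain ⟨b, hb⟩ := exists_mem_cham F
    set J := Finset.univ.filter (fun j : b.support => F.sgn j = 1) with hJ
    refine ⟨∑ j ∈ J, fundCoweight b j, ?_⟩
    rw [sgnVec_flip, ← sgnVec_sum_fundWeight_eq]
    have h1 := sum_mem_carrier F hb (fun _ => (1 : R)) (fun _ _ => one_pos)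
    simp only [one_smul] at h1
    exact h1

lemma dualFacet_carrier (F : Facet P) : (dualFacet F).carrier = F.dualCarrier := rfl

lemma dualFacet_closure (F : Facet P) : (dualFacet F).closure = F.dualClosure := rfl

lemma dualFacet_corners (F : Facet P) : (dualFacet F).corners = F.dualCorners := rfl

lemma flip_mem_cham_dualFacet (F : Facet P) {b : P.Base} (hb : b ∈ F.cham) :
    b.flip ∈ (dualFacet F).cham := by
  rw [mem_cham_iff] at hb ⊢
  exact hb

/-- The corners of the dual facet are the fundamental coweights corresponding to the corners. -/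
theorem dualCorners_eq (F : Facet P) {b : P.Base} (hb : b ∈ F.cham) :
    F.dualCorners = {y | ∃ j : b.support, F.sgn j = 1 ∧ fundCoweight b j = y} := by
  have hredQ : P.flip.IsReduced := Groth.Agent.Lib.RootDBase_helper8.flipIsReduced (P := P)
  rw [← dualFacet_corners, corners_eq (dualFacet F) (flip_mem_cham_dualFacet F hb)]
  rfl

theorem dualCorners_eq_corr (F : Facet P) :
    F.dualCorners = {y : N | ∃ m ∈ F.corners, Corr P m y} := by
  obtain ⟨b, hb⟩ := exists_mem_cham F
  rw [dualCorners_eq F hb, corners_eq F hb]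
  ext y
  simp only [Set.mem_ofPred_eq]
  constructor
  · rintro ⟨j, hj, rfl⟩
    exact ⟨fundWeight b j, ⟨j, hj, rfl⟩, b, j, rfl, rfl⟩
  · rintro ⟨m, ⟨j, hj, rfl⟩, hc⟩
    exact ⟨j, hj, ((corr_fundWeight_iff b j y).mp hc).symm⟩

end Groth.Agent.Lib.RootChJ_helper8
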