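import Groth.Agent.Lib.RootChJ_helper8

set_option autoImplicit false

/-!
# Chambers of a root system, XI: parabolic sets of roots and facets (helper8)
-/

namespace Groth.Agent.Lib.RootChK_helper8

open RootCh Set RootPairing Groth.Agent.Lib.RootChA_helper8 Groth.Agent.Lib.RootChB_helper8
  Groth.Agent.Lib.RootChC_helper8 Groth.Agent.Lib.RootChD_helper8
  Groth.Agent.Lib.RootChE_helper8 Groth.Agent.Lib.RootChF_helper8
  Groth.Agent.Lib.RootChG_helper8
  Groth.Agent.Lib.RootChH_helper8 Groth.Agent.Lib.RootChI_helper8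
  Groth.Agent.Lib.RootChJ_helper8
open scoped Classical

variable {ι R M N : Type*} [Field R] [LinearOrder R] [IsStrictOrderedRing R]
  [AddCommGroup M] [Module R M] [AddCommGroup N] [Module R N] [Finite ι]
  {P : RootPairing ι R M N} [P.IsRootSystem]

lemma signType_cases (s : SignType) : s = 0 ∨ s = 1 ∨ s = -1 := by
  cases s <;> decide

lemma root_neg_idx (i : ι) : P.root (P.reflectionPerm i i) = - P.root i := by
  rw [P.root_reflectionPerm, P.reflection_apply_self]

lemma root'_neg_idx (i : ι) (x : N) :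
    P.root' (P.reflectionPerm i i) x = - P.root' i x := by
  change P.toLinearMap (P.root (P.reflectionPerm i i)) x = - P.toLinearMap (P.root i) x
  rw [root_neg_idx, map_neg, LinearMap.neg_apply]

lemma reflectionPerm_neg_idx (i : ι) :
    P.reflectionPerm (P.reflectionPerm i i) (P.reflectionPerm i i) = i := by
  apply P.root.injective
  rw [root_neg_idx, root_neg_idx, neg_neg]

lemma isPos_neg_of_not_isPos (b : P.Base) {i : ι} (hi : ¬ b.IsPos i) :
    b.IsPos (P.reflectionPerm i i) := by
  have h2 : b.height (P.reflectionPerm i i) = - b.height i := b.height_reflectionPerm_self i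
  have h3 := b.height_ne_zero i
  rw [RootPairing.Base.isPos_iff] at hi ⊢
  omega

variable [P.IsCrystallographic] [P.IsReduced]

/-- The simple indices of `b` which are positive on the facet. -/
noncomputable def posIdx (F : Facet P) (b : P.Base) : Finset b.support :=
  Finset.univ.filter (fun k : b.support => F.sgn k = 1)

lemma mem_posIdx (F : Facet P) (b : P.Base) (k : b.support) : k ∈ posIdx F b ↔ F.sgn k = 1 := by
  unfold posIdx
  rw [Finset.mem_filter]
  simp

lemma sum_posIdx_mem_carrier (F : Facet P) {b : P.Base} (hb : b ∈ F.cham) :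
    (∑ k ∈ posIdx F b, fundWeight b k) ∈ F.carrier := by
  have h1 := sum_mem_carrier F hb (fun _ => (1 : R)) (fun _ _ => one_pos)
  simp only [one_smul] at h1
  exact h1

lemma sgn_eq_sign_sum (F : Facet P) {b : P.Base} (hb : b ∈ F.cham) (i : ι) :
    F.sgn i = SignType.sign (∑ k ∈ posIdx F b, cC b i k) := by
  have h1 : sgnVec P (∑ k ∈ posIdx F b, fundWeight b k) = F.sgn := sum_posIdx_mem_carrier F hb
  have e1 : P.coroot' i (∑ k ∈ posIdx F b, fundWeight b k) = ∑ k ∈ posIdx F b, cC b i k :=
    map_sum (P.coroot' i) _ _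
  rw [← h1, sgnVec_apply, e1]

lemma sgn_ne_neg_one_of_isPos (F : Facet P) {b : P.Base} (hb : b ∈ F.cham) {i : ι}
    (hi : b.IsPos i) : F.sgn i ≠ -1 := by
  rw [sgn_eq_sign_sum F hb i]
  intro h
  rw [sign_eq_neg_one_iff] at h
  exact absurd h (not_lt.mpr (Finset.sum_nonneg fun k _ => cC_nonneg b hi k))

lemma sgn_eq_zero_iff (F : Facet P) {b : P.Base} (hb : b ∈ F.cham) {i : ι} (hi : b.IsPos i) :
    F.sgn i = 0 ↔ ∀ k : b.support, F.sgn k = 1 → cC b i k = 0 := by
  rw [sgn_eq_sign_sum F hb i, sign_eq_zero_iff,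
    Finset.sum_eq_zero_iff_of_nonneg (fun k _ => cC_nonneg b hi k)]
  exact ⟨fun h k hk => h k ((mem_posIdx F b k).mpr hk),
    fun h k hk => h k ((mem_posIdx F b k).mp hk)⟩

lemma cC_eq_zero_of_sgn_eq_zero (F : Facet P) {b : P.Base} (hb : b ∈ F.cham) {i : ι}
    (hi : b.IsPos i) (h0 : F.sgn i = 0) {k : b.support} (hk : F.sgn k = 1) : cC b i k = 0 :=
  (sgn_eq_zero_iff F hb hi).mp h0 k hk

lemma sgn_eq_zero_of_not_isPos (F : Facet P) {b : P.Base} (hb : b ∈ F.cham) {i : ι}
    (hi : ¬ b.IsPos i) (hs : F.sgn i ≠ -1) : F.sgn i = 0 := by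
  have h1 : F.sgn (P.reflectionPerm i i) ≠ -1 :=
    sgn_ne_neg_one_of_isPos F hb (isPos_neg_of_not_isPos b hi)
  rw [Facet.sgn_neg_idx] at h1
  rcases signType_cases (F.sgn i) with h | h | h
  · exact h
  · rw [h] at h1; exact absurd rfl h1
  · exact absurd h hs

lemma cR_nonneg (b : P.Base) {i : ι} (hi : b.IsPos i) (j : b.support) : 0 ≤ cR b i j := by
  obtain ⟨t, ht, h⟩ := exists_pos_cR_eq b i j
  rw [h]
  exact mul_nonneg ht.le (cC_nonneg b hi j)

omit [LinearOrder R] [IsStrictOrderedRing R] [Finite ι] [P.IsCrystallographic] [P.IsReduced] in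
lemma cR_add (b : P.Base) {i j k : ι} (h : P.root k = P.root i + P.root j) (l : b.support) :
    cR b k l = cR b i l + cR b j l := by
  change P.toLinearMap (P.root k) _ = P.toLinearMap (P.root i) _ + P.toLinearMap (P.root j) _
  rw [h, map_add, LinearMap.add_apply]

omit [LinearOrder R] [IsStrictOrderedRing R] [Finite ι] [P.IsCrystallographic] [P.IsReduced] in
lemma cR_simple (b : P.Base) (j l : b.support) : cR b (j : ι) l = if j = l then 1 else 0 :=
  root'_fundCoweight b l j

omit [LinearOrder R] [IsStrictOrderedRing R] [Finite ι] [P.IsCrystallographic] [P.IsReduced] in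
lemma root'_eq_sum (b : P.Base) (i : ι) (x : N) :
    P.root' i x = ∑ l : b.support, cR b i l * P.root' (l : ι) x :=
  coroot'_eq_sum (P := P.flip) b.flip i x

/-- **S14234**: the corners of a facet in terms of its parabolic set of roots. -/
theorem corners_eq_parab (F : Facet P) :
    F.corners = {m : M | m ∈ fundWeights P ∧
      ∀ y : N, Corr P m y → ∀ i ∈ F.parab, 0 ≤ P.root' i y} := by
  obtain ⟨b, hb⟩ := exists_mem_cham F
  have hredQ : P.flip.IsReduced := Groth.Agent.Lib.RootDBase_helper8.flipIsReduced (P := P)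
  ext m
  constructor
  · intro hm
    rw [corners_eq F hb] at hm
    obtain ⟨j, hj, rfl⟩ := hm
    refine ⟨fundWeight_mem_fundWeights b j, fun y hy i hi => ?_⟩
    rw [(corr_fundWeight_iff b j y).mp hy]
    change 0 ≤ cR b i j
    by_cases hpos : b.IsPos i
    · exact cR_nonneg b hpos j
    · have hpos' : b.IsPos (P.reflectionPerm i i) := isPos_neg_of_not_isPos b hpos
      have h2 : F.sgn i = 0 := sgn_eq_zero_of_not_isPos F hb hpos hi
      have h3 : F.sgn (P.reflectionPerm i i) = 0 := by rw [Facet.sgn_neg_idx, h2, neg_zero]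
      have h4 : cC b (P.reflectionPerm i i) j = 0 := cC_eq_zero_of_sgn_eq_zero F hb hpos' h3 hj
      have h5 : cC b i j = 0 := by
        rw [cC_neg_idx] at h4
        exact neg_eq_zero.mp h4
      exact ((cR_eq_zero_iff b i j).mpr h5).ge
  · rintro ⟨⟨b', i', rfl⟩, hm⟩
    have hy := hm (fundCoweight b' i') ⟨b', i', rfl, rfl⟩
    have h1 : fundCoweight b' i' ∈ baseCorners (P := P.flip) b.flip := by
      refine ⟨⟨b'.flip, i', rfl⟩, fun k hk => ?_⟩
      exact hy k (sgn_ne_neg_one_of_isPos F hb (RootPairing.Base.isPos_of_mem_support (b := b) hk))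
    rw [baseCorners_eq_range] at h1
    obtain ⟨j, hj⟩ := h1
    have hj' : fundCoweight b j = fundCoweight b' i' := hj
    have hw : fundWeight b' i' = fundWeight b j := fundWeight_eq_of_fundCoweight_eq hj'.symm
    rw [hw, corners_eq F hb]
    refine ⟨j, ?_, rfl⟩
    rcases signType_cases (F.sgn j) with h | h | h
    · exfalso
      have h3 : F.sgn (P.reflectionPerm j j) ≠ -1 := by
        rw [Facet.sgn_neg_idx, h, neg_zero]; decide
      have h4 := hy _ h3
      rw [root'_neg_idx, ← hj', root'_fundCoweight, if_pos rfl] at h4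
      linarith
    · exact h
    · exact absurd h ((mem_cham_iff F b).mp hb j j.2)

/-- The parabolic set of a facet is a parabolic set of roots. -/
theorem isParabolicSubset_parab (F : Facet P) : IsParabolicSubset P F.parab := by
  obtain ⟨ξ, hξ⟩ := F.exists_sgnVec_eq
  constructor
  · intro i j k hi hj hk
    obtain ⟨s, t, hs, ht, hst⟩ := exists_pos_coroot_add hk
    change F.sgn k ≠ -1
    change F.sgn i ≠ -1 at hi
    change F.sgn j ≠ -1 at hj
    rw [← hξ, sgnVec_ne_neg_one_iff] at hi hj ⊢
    have h1 : P.coroot' k ξ = s * P.coroot' i ξ + t * P.coroot' j ξ := by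
      change P.toLinearMap ξ (P.coroot k) =
        s * P.toLinearMap ξ (P.coroot i) + t * P.toLinearMap ξ (P.coroot j)
      rw [hst, map_add, map_smul, map_smul, smul_eq_mul, smul_eq_mul]
    rw [h1]
    exact add_nonneg (mul_nonneg hs.le hi) (mul_nonneg ht.le hj)
  · intro i
    by_cases h : F.sgn i = -1
    · right
      change F.sgn _ ≠ -1
      rw [Facet.sgn_neg_idx, h]; decide
    · left; exact h

/-- A facet is determined by its parabolic set of roots. -/
theorem eq_of_parab_eq {F G : Facet P} (h : F.parab = G.parab) : F = G := by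
  have h1 : ∀ i, F.sgn i = -1 ↔ G.sgn i = -1 := fun i => by
    have h' : i ∈ F.parab ↔ i ∈ G.parab := by rw [h]
    exact not_iff_not.mp h'
  have h2 : ∀ i, F.sgn i = 1 ↔ G.sgn i = 1 := fun i => by
    have h' := h1 (P.reflectionPerm i i)
    simp only [Facet.sgn_neg_idx, neg_inj] at h'
    exact h'
  apply Facet.ext
  funext i
  rcases signType_cases (G.sgn i) with hg | hg | hg
  · rcases signType_cases (F.sgn i) with hf | hf | hf
    · rw [hf, hg]
    · rw [(h2 i).mp hf] at hg; exact absurd hg (by decide)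
    · rw [(h1 i).mp hf] at hg; exact absurd hg (by decide)
  · rw [hg, (h2 i).mpr hg]
  · rw [hg, (h1 i).mpr hg]

/-- The order on facets in terms of parabolic sets. -/
theorem le_iff_parab_subset (F G : Facet P) : F ≤ G ↔ F.parab ⊆ G.parab := by
  rw [Facet.le_def]
  constructor
  · intro h i hi
    change G.sgn i ≠ -1
    change F.sgn i ≠ -1 at hi
    rcases h i with h' | h'
    · rw [h']; decide
    · rw [h']; exact hi
  · intro h i
    have h1 : ∀ k, G.sgn k = -1 → F.sgn k = -1 := fun k hk => by
      by_contra hf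
      have h2 : k ∈ G.parab := h (show k ∈ F.parab from hf)
      exact h2 hk
    rcases signType_cases (G.sgn i) with hg | hg | hg
    · exact Or.inl hg
    · right
      have h3 := h1 (P.reflectionPerm i i) (by rw [Facet.sgn_neg_idx, hg])
      rw [Facet.sgn_neg_idx, neg_inj] at h3
      rw [hg, h3]
    · right; rw [hg, h1 i hg]

/-- Every parabolic set of roots is the parabolic set of a facet. -/
theorem exists_facet_parab_eq (S : Set ι) (hS : IsParabolicSubset P S) :
    ∃ F : Facet P, F.parab = S := by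
  obtain ⟨hScl, hS2⟩ := hS
  obtain ⟨b, hb⟩ := exists_base_subset_of_closed S hS2 hScl
  have hJ : ∃ J : Finset b.support, ∀ k : b.support, k ∈ J ↔ P.reflectionPerm (k : ι) k ∉ S :=
    ⟨Finset.univ.filter (fun j : b.support => P.reflectionPerm (j : ι) j ∉ S), fun k => by
      rw [Finset.mem_filter]; simp⟩
  obtain ⟨J, hJ⟩ := hJ
  have hbF : b ∈ (facetOfSubset b J).cham := mem_cham_facetOfSubset b J
  have hsgnJ : ∀ k : b.support,
      (facetOfSubset b J).sgn k = 1 ↔ P.reflectionPerm (k : ι) k ∉ S := fun k => by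
    rw [sgn_facetOfSubset, hJ]
  refine ⟨facetOfSubset b J, ?_⟩
  -- key: for positive `i`: `-i ∈ S` iff all simple roots in the support of `i` have `-k ∈ S`
  have key : ∀ i, b.IsPos i → (b.IsPos i ∧ (P.reflectionPerm i i ∈ S ↔
      ∀ k : b.support, cR b i k ≠ 0 → P.reflectionPerm (k : ι) k ∈ S)) := by
    intro i hi
    refine hi.induction_on_add (p := fun i => b.IsPos i ∧ (P.reflectionPerm i i ∈ S ↔
      ∀ k : b.support, cR b i k ≠ 0 → P.reflectionPerm (k : ι) k ∈ S)) ?_ ?_
    · intro i hi
      refine ⟨RootPairing.Base.isPos_of_mem_support hi, ?_, ?_⟩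
      · intro h k hk
        have h1 : cR b i k = if (⟨i, hi⟩ : b.support) = k then 1 else 0 := cR_simple b ⟨i, hi⟩ k
        rw [h1] at hk
        split_ifs at hk with hik
        · rw [← hik]; exact h
        · exact absurd rfl hk
      · intro h
        refine h ⟨i, hi⟩ ?_
        have h1 : cR b i ⟨i, hi⟩ = if (⟨i, hi⟩ : b.support) = ⟨i, hi⟩ then 1 else 0 :=
          cR_simple b ⟨i, hi⟩ ⟨i, hi⟩
        rw [h1, if_pos rfl]
        exact one_ne_zero
    · rintro i j k hk ⟨hi, hi'⟩ hj
      have hjpos : b.IsPos j := RootPairing.Base.isPos_of_mem_support hj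
      have hkpos : b.IsPos k := hi.add hjpos hk
      have hjj : cR b j ⟨j, hj⟩ = 1 := by
        have h1 : cR b j ⟨j, hj⟩ = if (⟨j, hj⟩ : b.support) = ⟨j, hj⟩ then 1 else 0 :=
          cR_simple b ⟨j, hj⟩ ⟨j, hj⟩
        rw [h1, if_pos rfl]
      refine ⟨hkpos, ?_, ?_⟩
      · intro hkS l hl
        have hnegi : P.reflectionPerm i i ∈ S :=
          hScl (P.reflectionPerm k k) j _ hkS (hb j hjpos) (by
            rw [root_neg_idx, root_neg_idx, hk]; abel)
        have hnegj : P.reflectionPerm j j ∈ S :=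
          hScl (P.reflectionPerm k k) i _ hkS (hb i hi) (by
            rw [root_neg_idx, root_neg_idx, hk]; abel)
        rw [cR_add b hk l] at hl
        by_cases hil : cR b i l = 0
        · rw [hil, zero_add] at hl
          have h1 : cR b j l = if (⟨j, hj⟩ : b.support) = l then 1 else 0 := cR_simple b ⟨j, hj⟩ l
          rw [h1] at hl
          split_ifs at hl with hjl
          · rw [← hjl]; exact hnegj
          · exact absurd rfl hl
        · exact hi'.mp hnegi l hil
      · intro h
        have hnegi : P.reflectionPerm i i ∈ S := by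
          apply hi'.mpr
          intro l hl
          apply h l
          rw [cR_add b hk l]
          have h1 := cR_nonneg b hi l
          have h2 := cR_nonneg b hjpos l
          have h3 : 0 < cR b i l := lt_of_le_of_ne h1 (Ne.symm hl)
          exact (add_pos_of_pos_of_nonneg h3 h2).ne'
        have hnegj : P.reflectionPerm j j ∈ S := by
          apply h ⟨j, hj⟩
          rw [cR_add b hk ⟨j, hj⟩, hjj]
          have h1 := cR_nonneg b hi ⟨j, hj⟩
          have h2 : (0 : R) < cR b i ⟨j, hj⟩ + 1 := by linarith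
          exact h2.ne'
        exact hScl (P.reflectionPerm i i) (P.reflectionPerm j j) _ hnegi hnegj (by
          rw [root_neg_idx, root_neg_idx, root_neg_idx, hk]; abel)
  ext i
  change (facetOfSubset b J).sgn i ≠ -1 ↔ i ∈ S
  by_cases hi : b.IsPos i
  · exact ⟨fun _ => hb i hi, fun _ => sgn_ne_neg_one_of_isPos _ hbF hi⟩
  · have hi' : b.IsPos (P.reflectionPerm i i) := isPos_neg_of_not_isPos b hi
    have hk := (key _ hi').2
    rw [reflectionPerm_neg_idx] at hk
    rw [hk]
    have h1 : (facetOfSubset b J).sgn (P.reflectionPerm i i) ≠ -1 :=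
      sgn_ne_neg_one_of_isPos _ hbF hi'
    have h2 : (facetOfSubset b J).sgn i ≠ -1 ↔
        (facetOfSubset b J).sgn (P.reflectionPerm i i) = 0 := by
      rw [Facet.sgn_neg_idx] at h1 ⊢
      rcases signType_cases ((facetOfSubset b J).sgn i) with h | h | h
      · rw [h]; decide
      · rw [h] at h1; exact absurd rfl h1
      · rw [h]; decide
    rw [h2, sgn_eq_zero_iff _ hbF hi']
    constructor
    · intro h k hk
      by_contra hkS
      exact hk ((cR_eq_zero_iff b _ k).mpr (h k ((hsgnJ k).mpr hkS)))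
    · intro h k hk
      by_contra hc
      exact (hsgnJ k).mp hk (h k (fun h0 => hc ((cR_eq_zero_iff b _ k).mp h0)))

/-- **S14236**. -/
theorem parab_bijection :
    (∀ S : Set ι, IsParabolicSubset P S ↔ ∃! F : Facet P, F.parab = S) ∧
      ∀ F G : Facet P, F ≤ G ↔ F.parab ⊆ G.parab := by
  refine ⟨fun S => ⟨fun hS => ?_, ?_⟩, fun F G => le_iff_parab_subset F G⟩
  · obtain ⟨F, hF⟩ := exists_facet_parab_eq S hS
    exact ⟨F, hF, fun G hG => eq_of_parab_eq (hG.trans hF.symm)⟩
  · rintro ⟨F, rfl, -⟩
    exact isParabolicSubset_parab F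

/-- A facet is determined by its corners. -/
theorem eq_of_corners_eq {F G : Facet P} (h : F.corners = G.corners) : F = G := by
  have h1 : F.carrier = G.carrier := by
    rw [carrier_eq_pos_combinations F, carrier_eq_pos_combinations G, h]
  obtain ⟨ξ, hξ⟩ := F.exists_sgnVec_eq
  have h2 : ξ ∈ G.carrier := h1 ▸ (show ξ ∈ F.carrier from hξ)
  apply Facet.ext
  rw [← hξ]
  exact h2

/-- **S14235**. -/
theorem exists_facet_of_parabolic (S : Set ι) (hS : IsParabolicSubset P S) :
    ∃ F : Facet P,
      (F.corners = {m : M | m ∈ fundWeights P ∧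
          ∀ y : N, Corr P m y → ∀ i ∈ S, 0 ≤ P.root' i y} ∧ F.parab = S) ∧
      ∀ G : Facet P,
        G.corners = {m : M | m ∈ fundWeights P ∧
          ∀ y : N, Corr P m y → ∀ i ∈ S, 0 ≤ P.root' i y} → G = F := by
  obtain ⟨F, hF⟩ := exists_facet_parab_eq S hS
  have h1 : F.corners = {m : M | m ∈ fundWeights P ∧
      ∀ y : N, Corr P m y → ∀ i ∈ S, 0 ≤ P.root' i y} := by
    rw [corners_eq_parab F, hF]
  exact ⟨F, ⟨h1, hF⟩, fun G hG => eq_of_corners_eq (hG.trans h1.symm)⟩

end Groth.Agent.Lib.RootChK_helper8
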