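import Groth.Agent.Lib.RootChK_helper8
import Groth.Prelude.Def_RootCh2

set_option autoImplicit false

/-!
# Chambers of a root system, XII: sums of roots of parabolic and elementary sets (helper8)
-/

namespace Groth.Agent.Lib.RootChL_helper8

open RootCh Set RootPairing Groth.Agent.Lib.RootChA_helper8 Groth.Agent.Lib.RootChB_helper8
  Groth.Agent.Lib.RootChC_helper8 Groth.Agent.Lib.RootChD_helper8
  Groth.Agent.Lib.RootChE_helper8 Groth.Agent.Lib.RootChF_helper8
  Groth.Agent.Lib.RootChG_helper8
  Groth.Agent.Lib.RootChH_helper8 Groth.Agent.Lib.RootChI_helper8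
  Groth.Agent.Lib.RootChJ_helper8 Groth.Agent.Lib.RootChK_helper8
open scoped Classical

variable {ι R M N : Type*} [Field R] [LinearOrder R] [IsStrictOrderedRing R]
  [AddCommGroup M] [Module R M] [AddCommGroup N] [Module R N] [Finite ι]
  {P : RootPairing ι R M N} [P.IsRootSystem]

/-- If the reflection in `k` maps the finite set `T` of roots to itself then the sum of `T` is
orthogonal to the coroot `k`. -/
lemma coroot'_sum_eq_zero_of_invariant (k : ι) (T : Finset ι)
    (hT : ∀ i ∈ T, P.reflectionPerm k i ∈ T) :
    P.coroot' k (∑ i ∈ T, P.root i) = 0 := by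
  have h1 : P.reflection k (∑ i ∈ T, P.root i) = ∑ i ∈ T, P.root i := by
    rw [map_sum]
    refine Finset.sum_bij' (fun i _ => P.reflectionPerm k i) (fun i _ => P.reflectionPerm k i)
      hT hT ?_ ?_ ?_
    · intro i _; exact P.reflectionPerm_self k i
    · intro i _; exact P.reflectionPerm_self k i
    · intro i _; rw [P.root_reflectionPerm]
  have h2 : P.coroot' k (P.reflection k (∑ i ∈ T, P.root i)) =
      - P.coroot' k (∑ i ∈ T, P.root i) := by
    rw [P.coroot'_reflection, coroot'_neg_idx]
  rw [h1] at h2
  linarith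

lemma sgn_reflectionPerm_of_sgn_eq_zero (F : Facet P) {k : ι} (hk : F.sgn k = 0) (i : ι) :
    F.sgn (P.reflectionPerm k i) = F.sgn i := by
  obtain ⟨ξ, hξ⟩ := F.exists_sgnVec_eq
  rw [← hξ] at hk ⊢
  rw [sgnVec_eq_zero_iff] at hk
  rw [sgnVec_apply, sgnVec_apply, ← P.coroot'_reflection, P.reflection_apply, hk, zero_smul,
    sub_zero]

variable [P.IsCrystallographic] [P.IsReduced]

lemma coroot'_sum_pos_root [Fintype ι] (b : P.Base) {j : ι} (hj : j ∈ b.support) :
    P.coroot' j (∑ i, if b.IsPos i then P.root i else 0) = 2 := by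
  have h1 := Groth.Agent.S2955.result P b j hj
  rw [P.reflection_apply] at h1
  have h4 : P.coroot' j (∑ i, if b.IsPos i then P.root i else 0) • P.root j =
      (2 : R) • P.root j := sub_right_injective h1
  have h5 := congrArg (P.coroot' j) h4
  rw [map_smul, map_smul] at h5
  have h6 : P.coroot' j (P.root j) = 2 := P.root_coroot_two j
  rw [h6, smul_eq_mul, smul_eq_mul] at h5
  exact mul_right_cancel₀ two_ne_zero h5

lemma pairing_le_zero_of_ne (b : P.Base) {l j : ι} (hl : l ∈ b.support) (hj : j ∈ b.support)
    (hlj : l ≠ j) : P.pairing l j ≤ 0 := by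
  have h := b.pairingIn_le_zero_of_ne hlj hl hj
  rw [← P.algebraMap_pairingIn ℤ, eq_intCast]
  exact Int.cast_nonpos.mpr h

lemma pairing_le_zero_of_sgn (F : Facet P) {b : P.Base} (hb : b ∈ F.cham) {i : ι}
    (hi : b.IsPos i) (h0 : F.sgn i = 0) {j : b.support} (hj : F.sgn j = 1) :
    P.pairing i j ≤ 0 := by
  have h1 : P.pairing i j = ∑ l : b.support, cR b i l * P.pairing l j :=
    root'_eq_sum b i (P.coroot j)
  rw [h1]
  apply Finset.sum_nonpos
  intro l _
  by_cases hl : F.sgn l = 1
  · rw [(cR_eq_zero_iff b i l).mpr (cC_eq_zero_of_sgn_eq_zero F hb hi h0 hl), zero_mul]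
  · have hlj : (l : ι) ≠ j := fun h => hl (by rw [h]; exact hj)
    exact mul_nonpos_of_nonneg_of_nonpos (cR_nonneg b hi l) (pairing_le_zero_of_ne b l.2 j.2 hlj)

/-- **S14237**: the sum of the roots of the parabolic set of a facet lies in the facet. -/
theorem sum_parab_mem_carrier (F : Facet P) :
    (∑ i ∈ (Set.toFinite F.parab).toFinset, P.root i) ∈ F.carrier := by
  have : Fintype ι := Fintype.ofFinite ι
  obtain ⟨b, hb⟩ := exists_mem_cham F
  have hmemT : ∀ i, i ∈ (Set.toFinite F.parab).toFinset ↔ F.sgn i ≠ -1 := fun i => by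
    rw [Set.Finite.mem_toFinset]; rfl
  have hzero : ∀ k : b.support, F.sgn k = 0 →
      P.coroot' (k : ι) (∑ i ∈ (Set.toFinite F.parab).toFinset, P.root i) = 0 := by
    intro k hk
    apply coroot'_sum_eq_zero_of_invariant
    intro i hi
    rw [hmemT] at hi ⊢
    rw [sgn_reflectionPerm_of_sgn_eq_zero F hk]
    exact hi
  have hpos : ∀ k : b.support, F.sgn k = 1 →
      0 < P.coroot' (k : ι) (∑ i ∈ (Set.toFinite F.parab).toFinset, P.root i) := by
    intro k hk
    have e1 : P.coroot' (k : ι) (∑ i ∈ (Set.toFinite F.parab).toFinset, P.root i) =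
        ∑ i, if F.sgn i ≠ -1 then P.pairing i k else 0 := by
      have hT : (Set.toFinite F.parab).toFinset = Finset.univ.filter (fun i => F.sgn i ≠ -1) := by
        ext i
        rw [hmemT, Finset.mem_filter]
        simp
      rw [hT, Finset.sum_filter, map_sum]
      refine Finset.sum_congr rfl fun i _ => ?_
      split_ifs
      · rfl
      · exact map_zero _
    have e2 : (2 : R) = ∑ i, if b.IsPos i then P.pairing i k else 0 := by
      rw [← coroot'_sum_pos_root b k.2, map_sum]
      refine Finset.sum_congr rfl fun i _ => ?_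
      split_ifs
      · rfl
      · exact map_zero _
    have h3 : (2 : R) ≤ P.coroot' (k : ι) (∑ i ∈ (Set.toFinite F.parab).toFinset, P.root i) := by
      rw [e1, e2]
      apply Finset.sum_le_sum
      intro i _
      by_cases hi : b.IsPos i
      · rw [if_pos hi, if_pos (sgn_ne_neg_one_of_isPos F hb hi)]
      · rw [if_neg hi]
        split_ifs with hs
        · have hi' : b.IsPos (P.reflectionPerm i i) := isPos_neg_of_not_isPos b hi
          have h2 : F.sgn i = 0 := sgn_eq_zero_of_not_isPos F hb hi hs
          have h3 : F.sgn (P.reflectionPerm i i) = 0 := by rw [Facet.sgn_neg_idx, h2, neg_zero]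
          have h4 := pairing_le_zero_of_sgn F hb hi' h3 hk
          rw [P.pairing_reflectionPerm_self_left] at h4
          linarith
        · exact le_rfl
    linarith
  rw [mem_carrier_iff F hb]
  refine ⟨fun k hk => ?_, fun k => ?_⟩
  · rcases signType_cases (F.sgn k) with h | h | h
    · exact (hzero ⟨k, hk⟩ h).ge
    · exact (hpos ⟨k, hk⟩ h).le
    · exact absurd h ((mem_cham_iff F b).mp hb k hk)
  · constructor
    · intro h
      rcases signType_cases (F.sgn k) with h' | h' | h'
      · rw [hzero k h'] at h; exact absurd h (lt_irrefl _)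
      · exact h'
      · exact absurd h' ((mem_cham_iff F b).mp hb k k.2)
    · exact hpos k

/-- Vectors in the span of the corners of a facet pair equally with the values of a complementary
convex solid at two adjacent chambers. -/
lemma pairing_eq_of_mem_span_corners (d : P.Base → N) (hd : IsCCS d) (F : Facet P)
    (b b' : P.Base) (hb : b ∈ F.cham) (hb' : b' ∈ F.cham) (x : M)
    (hx : x ∈ Submodule.span R F.corners) :
    P.toLinearMap x (d b) = P.toLinearMap x (d b') := by
  induction hx using Submodule.span_induction with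
  | mem m hm =>
    exact hd.corner_eq b b' m (corners_subset_baseCorners F hb hm)
      (corners_subset_baseCorners F hb' hm)
  | zero => simp
  | add x y _ _ hx hy => rw [map_add, LinearMap.add_apply, LinearMap.add_apply, hx, hy]
  | smul c x _ hx => rw [map_smul, LinearMap.smul_apply, LinearMap.smul_apply, hx]

/-- **S14249**: the degree of a facet does not depend on the adjacent chamber. -/
theorem deg_eq (d : P.Base → N) (hd : IsCCS d) (F : Facet P)
    (b b' : P.Base) (hb : b ∈ F.cham) (hb' : b' ∈ F.cham) : F.deg d b = F.deg d b' := by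
  have h1 : (∑ i ∈ (Set.toFinite F.parab).toFinset, P.root i) ∈ Submodule.span R F.corners := by
    rw [← span_carrier_eq_span_corners]
    exact Submodule.subset_span (sum_parab_mem_carrier F)
  have h2 := pairing_eq_of_mem_span_corners d hd F b b' hb hb' _ h1
  rw [map_sum, LinearMap.sum_apply, LinearMap.sum_apply] at h2
  exact h2

lemma root'_reflectionPerm_eq (F : Facet P) {b : P.Base} {k : b.support}
    (hk : F.sgn k = 0) {l : b.support} (hl : F.sgn l = 1) (i : ι) :
    P.root' (P.reflectionPerm k i) (fundCoweight b l) = P.root' i (fundCoweight b l) := by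
  change P.toLinearMap (P.root (P.reflectionPerm k i)) _ = P.toLinearMap (P.root i) _
  rw [P.root_reflectionPerm, P.reflection_apply, map_sub, LinearMap.sub_apply, map_smul,
    LinearMap.smul_apply]
  have h0 : P.toLinearMap (P.root k) (fundCoweight b l) = 0 := by
    have h := root'_fundCoweight b l k
    rw [if_neg (fun h' => by rw [h'] at hk; rw [hk] at hl; exact absurd hl (by decide))] at h
    exact h
  rw [h0, smul_zero, sub_zero]

lemma reflectionPerm_mem_Psi (F : Facet P) {b : P.Base} (hb : b ∈ F.cham) {k : b.support}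
    (hk : F.sgn k = 0) {m : M} (hm : m ∈ F.corners) {i : ι} (hi : i ∈ F.Psi m) :
    P.reflectionPerm k i ∈ F.Psi m := by
  have hc := corners_eq F hb
  obtain ⟨hi1, hi2⟩ := hi
  constructor
  · intro x hx
    have hm' := hm
    rw [hc] at hm'
    obtain ⟨j, hj, hjm⟩ := hm'
    have hx' : Corr P (fundWeight b j) x := by rw [hjm]; exact hx
    have hxe := (corr_fundWeight_iff b j x).mp hx'
    rw [hxe, root'_reflectionPerm_eq F hk hj, ← hxe]
    exact hi1 x hx
  · intro w' hw' hne x hx
    have hw'' := hw'
    rw [hc] at hw''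
    obtain ⟨j, hj, hjm⟩ := hw''
    have hx' : Corr P (fundWeight b j) x := by rw [hjm]; exact hx
    have hxe := (corr_fundWeight_iff b j x).mp hx'
    rw [hxe, root'_reflectionPerm_eq F hk hj, ← hxe]
    exact hi2 _ hw' hne x hx

/-- **S14242**: the sum of the roots of an elementary set lies in the span of the corners. -/
theorem sum_Psi_mem_span (F : Facet P) (m : M) (hm : m ∈ F.corners) :
    (∑ i ∈ (Set.toFinite (F.Psi m)).toFinset, P.root i) ∈ Submodule.span R F.corners := by
  obtain ⟨b, hb⟩ := exists_mem_cham F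
  rw [eq_sum_fundWeight b (∑ i ∈ (Set.toFinite (F.Psi m)).toFinset, P.root i)]
  apply Submodule.sum_mem
  intro j _
  rcases signType_cases (F.sgn j) with h | h | h
  · have h0 : P.coroot' (j : ι) (∑ i ∈ (Set.toFinite (F.Psi m)).toFinset, P.root i) = 0 := by
      apply coroot'_sum_eq_zero_of_invariant
      intro i hi
      rw [Set.Finite.mem_toFinset] at hi ⊢
      exact reflectionPerm_mem_Psi F hb h hm hi
    rw [h0, zero_smul]
    exact Submodule.zero_mem _
  · apply Submodule.smul_mem
    apply Submodule.subset_span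
    rw [corners_eq F hb]
    exact ⟨j, h, rfl⟩
  · exact absurd h ((mem_cham_iff F b).mp hb j j.2)

/-- **S14250**: the numerical invariant does not depend on the adjacent chamber. -/
theorem numInv_eq (d : P.Base → N) (hd : IsCCS d) (F : Facet P) (m : M) (hm : m ∈ F.corners)
    (b b' : P.Base) (hb : b ∈ F.cham) (hb' : b' ∈ F.cham) :
    F.numInv d m b = F.numInv d m b' := by
  have h2 := pairing_eq_of_mem_span_corners d hd F b b' hb hb' _ (sum_Psi_mem_span F m hm)
  rw [map_sum, LinearMap.sum_apply, LinearMap.sum_apply] at h2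
  exact h2

end Groth.Agent.Lib.RootChL_helper8
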