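import Groth.Agent.Lib.RootChL_helper8
import Mathlib.LinearAlgebra.RootSystem.Finite.Nondegenerate
import Mathlib.Analysis.Convex.Hull

set_option autoImplicit false

/-!
# Chambers of a root system, XIII: complementary convex solids, the point `y(F)` (helper8)
-/

namespace Groth.Agent.Lib.RootChM_helper8

open RootCh Set RootPairing Groth.Agent.Lib.RootChA_helper8 Groth.Agent.Lib.RootChB_helper8
  Groth.Agent.Lib.RootChC_helper8 Groth.Agent.Lib.RootChD_helper8
  Groth.Agent.Lib.RootChE_helper8 Groth.Agent.Lib.RootChF_helper8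
  Groth.Agent.Lib.RootChG_helper8
  Groth.Agent.Lib.RootChH_helper8 Groth.Agent.Lib.RootChI_helper8
  Groth.Agent.Lib.RootChJ_helper8 Groth.Agent.Lib.RootChK_helper8
  Groth.Agent.Lib.RootChL_helper8
open scoped Classical

variable {ι R M N : Type*} [Field R] [LinearOrder R] [IsStrictOrderedRing R]
  [AddCommGroup M] [Module R M] [AddCommGroup N] [Module R N] [Finite ι]
  {P : RootPairing ι R M N} [P.IsRootSystem] [P.IsCrystallographic] [P.IsReduced]

/-- The vectors of the dual facet, in terms of an adjacent chamber. -/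
lemma mem_dualCarrier_iff (F : Facet P) {b : P.Base} (hb : b ∈ F.cham) (y : N) :
    y ∈ F.dualCarrier ↔ (∀ j ∈ b.support, 0 ≤ P.root' j y) ∧
      ∀ j : b.support, (0 < P.root' (j : ι) y ↔ F.sgn j = 1) := by
  have hredQ : P.flip.IsReduced := Groth.Agent.Lib.RootDBase_helper8.flipIsReduced (P := P)
  exact mem_carrier_iff (dualFacet F) (flip_mem_cham_dualFacet F hb) y

omit [Finite ι] [P.IsRootSystem] [P.IsCrystallographic] [P.IsReduced] in
lemma root'_eq_zero_of_mem_span (F : Facet P) {i : ι} (hi : F.sgn i = 0) {y : N}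
    (hy : y ∈ Submodule.span R F.dualCarrier) : P.root' i y = 0 := by
  induction hy using Submodule.span_induction with
  | mem y hy =>
    have h0 : cosgnVec P y = F.sgn := hy
    have h1 : cosgnVec P y i = F.sgn i := congrFun h0 i
    rw [hi] at h1
    exact sign_eq_zero_iff.mp h1
  | zero => exact map_zero _
  | add x y _ _ hx hy => rw [map_add, hx, hy, add_zero]
  | smul c x _ hx => rw [map_smul, hx, smul_zero]

omit [LinearOrder R] [IsStrictOrderedRing R] [Finite ι] [P.IsCrystallographic] [P.IsReduced] in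
lemma eq_sum_fundCoweight (b : P.Base) (y : N) :
    y = ∑ j : b.support, P.root' (j : ι) y • fundCoweight b j :=
  eq_sum_fundWeight (P := P.flip) b.flip y

/-- The points of the dual solid of a facet lie on the hyperplanes of its corners. -/
lemma mem_hyper_of_mem_dualSolid (d : P.Base → N) (hd : IsCCS d) (F : Facet P) {m : M}
    (hm : m ∈ F.corners) {y : N} (hy : y ∈ dualSolid d F) : y ∈ hyper d m := by
  intro b' hb'
  have hconv : Convex R {x : N | P.toLinearMap m x = P.toLinearMap m (d b')} := by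
    intro x hx z hz a c _ _ hac
    simp only [Set.mem_ofPred_eq] at hx hz ⊢
    rw [map_add, map_smul, map_smul, hx, hz, ← add_smul, hac, one_smul]
  have hsub : d '' F.cham ⊆ {x : N | P.toLinearMap m x = P.toLinearMap m (d b')} := by
    rintro _ ⟨c, hc, rfl⟩
    exact hd.corner_eq c b' m (corners_subset_baseCorners F hc hm) hb'
  exact convexHull_min hsub hconv hy

/-- A vector of the span of the dual facet which is orthogonal to the corners vanishes. -/
lemma eq_zero_of_mem_span_dualCarrier [Fintype ι] (F : Facet P) {b : P.Base} (hb : b ∈ F.cham)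
    {z : N} (hz1 : z ∈ Submodule.span R F.dualCarrier)
    (hz2 : ∀ j : b.support, F.sgn j = 1 → P.toLinearMap (fundWeight b j) z = 0) : z = 0 := by
  have key : ∀ mz : M, mz = ∑ j : b.support,
      (P.root' (j : ι) z * (2 / P.RootForm (P.root j) (P.root j))) • fundWeight b j → z = 0 := by
    intro mz hmz
    have hpol : P.Polarization mz = z := by
      rw [hmz, map_sum]
      conv_rhs => rw [eq_sum_fundCoweight b z]
      refine Finset.sum_congr rfl fun j _ => ?_
      rw [map_smul, fundCoweight_eq_smul_polarization, smul_smul]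
    have h0 : P.toLinearMap mz z = 0 := by
      rw [hmz, map_sum, LinearMap.sum_apply]
      apply Finset.sum_eq_zero
      intro j _
      rw [map_smul, LinearMap.smul_apply]
      rcases signType_cases (F.sgn j) with h | h | h
      · rw [root'_eq_zero_of_mem_span F h hz1, zero_mul, zero_smul]
      · rw [hz2 j h, smul_zero]
      · exact absurd h ((mem_cham_iff F b).mp hb j j.2)
    have h1 : P.RootForm mz mz = 0 := by
      rw [← P.toLinearMap_apply_apply_Polarization, hpol, h0]
    have h2 : mz = 0 := P.rootForm_anisotropic mz h1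
    rw [← hpol, h2, map_zero]
  exact key _ rfl

/-- The locus of the point `y(F)` has at most one point. -/
theorem eq_of_mem_yLocus (d : P.Base → N) (F : Facet P) {y y' : N} (hy : y ∈ yLocus d F)
    (hy' : y' ∈ yLocus d F) : y = y' := by
  have : Fintype ι := Fintype.ofFinite ι
  obtain ⟨b, hb⟩ := exists_mem_cham F
  have hz1 : y - y' ∈ Submodule.span R F.dualCarrier := Submodule.sub_mem _ hy.2 hy'.2
  have hz2 : ∀ j : b.support, F.sgn j = 1 → P.toLinearMap (fundWeight b j) (y - y') = 0 := by
    intro j hj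
    have hm : fundWeight b j ∈ F.corners := by
      rw [corners_eq F hb]; exact ⟨j, hj, rfl⟩
    have hmb : fundWeight b j ∈ baseCorners b := corners_subset_baseCorners F hb hm
    have h1 := hy.1
    have h1' := hy'.1
    simp only [Set.mem_iInter] at h1 h1'
    rw [map_sub, h1 _ hm b hmb, h1' _ hm b hmb, sub_self]
  exact sub_eq_zero.mp (eq_zero_of_mem_span_dualCarrier F hb hz1 hz2)

lemma inter_subset_yLocus (d : P.Base → N) (hd : IsCCS d) (F : Facet P) :
    dualSolid d F ∩ (Submodule.span R F.dualCarrier : Set N) ⊆ yLocus d F := by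
  rintro y ⟨h1, h2⟩
  refine ⟨?_, h2⟩
  simp only [Set.mem_iInter]
  intro m hm
  exact mem_hyper_of_mem_dualSolid d hd F hm h1

/-- **S14251**. -/
theorem exists_yLocus_eq (d : P.Base → N) (hd : IsCCS d) (F : Facet P) (hF : IsSpecial d F) :
    ∃ y₀ : N, yLocus d F = {y₀} ∧ F.dualCarrier ∩ dualSolid d F = {y₀} := by
  obtain ⟨y₀, hy1, hy2⟩ := hF
  have hsub : F.dualCarrier ∩ dualSolid d F ⊆ yLocus d F := by
    rintro y ⟨h1, h2⟩
    exact inter_subset_yLocus d hd F ⟨h2, Submodule.subset_span h1⟩
  have hy0 : y₀ ∈ yLocus d F := hsub ⟨hy1, hy2⟩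
  refine ⟨y₀, ?_, ?_⟩
  · ext y
    simp only [Set.mem_singleton_iff]
    exact ⟨fun h => eq_of_mem_yLocus d F h hy0, fun h => h ▸ hy0⟩
  · ext y
    simp only [Set.mem_singleton_iff]
    exact ⟨fun h => eq_of_mem_yLocus d F (hsub h) hy0, fun h => h ▸ ⟨hy1, hy2⟩⟩

/-- The elementary set of roots in terms of an adjacent chamber. -/
lemma mem_Psi_iff (F : Facet P) {b : P.Base} (hb : b ∈ F.cham) (j : b.support)
    (i : ι) :
    i ∈ F.Psi (fundWeight b j) ↔ cR b i j = 1 ∧
      ∀ l : b.support, F.sgn l = 1 → l ≠ j → cR b i l = 0 := by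
  constructor
  · rintro ⟨h1, h2⟩
    refine ⟨h1 _ ⟨b, j, rfl, rfl⟩, fun l hl hlj => ?_⟩
    have hw : fundWeight b l ∈ F.corners := by
      rw [corners_eq F hb]; exact ⟨l, hl, rfl⟩
    exact h2 _ hw (fun h => hlj (fundWeight_injective b h)) _ ⟨b, l, rfl, rfl⟩
  · rintro ⟨h1, h2⟩
    constructor
    · intro x hx
      rw [(corr_fundWeight_iff b j x).mp hx]
      exact h1
    · intro w' hw' hne x hx
      rw [corners_eq F hb] at hw'
      obtain ⟨l, hl, rfl⟩ := hw'
      rw [(corr_fundWeight_iff b l x).mp hx]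
      exact h2 l hl (fun h => hne (by rw [h]))

lemma self_mem_Psi (F : Facet P) {b : P.Base} (hb : b ∈ F.cham) (j : b.support) :
    (j : ι) ∈ F.Psi (fundWeight b j) := by
  rw [mem_Psi_iff F hb]
  refine ⟨?_, fun l _ hlj => ?_⟩
  · rw [cR_simple, if_pos rfl]
  · rw [cR_simple, if_neg (Ne.symm hlj)]

lemma root'_eq_of_mem_Psi (F : Facet P) {b : P.Base} (hb : b ∈ F.cham) (j : b.support)
    {i : ι} (hi : i ∈ F.Psi (fundWeight b j)) {y : N}
    (hy : y ∈ Submodule.span R F.dualCarrier) : P.root' i y = P.root' (j : ι) y := by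
  obtain ⟨h1, h2⟩ := (mem_Psi_iff F hb j i).mp hi
  rw [root'_eq_sum b i y, Finset.sum_eq_single j]
  · rw [h1, one_mul]
  · intro l _ hlj
    rcases signType_cases (F.sgn l) with h | h | h
    · rw [root'_eq_zero_of_mem_span F h hy, mul_zero]
    · rw [h2 l h hlj, zero_mul]
    · exact absurd h ((mem_cham_iff F b).mp hb l l.2)
  · intro h
    exact absurd (Finset.mem_univ j) h

lemma pairing_eq_of_mem_hyper (d : P.Base → N) (F : Facet P) {b' : P.Base} (hb' : b' ∈ F.cham)
    {y : N} (hy : ∀ m ∈ F.corners, y ∈ hyper d m) {x : M}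
    (hx : x ∈ Submodule.span R F.corners) :
    P.toLinearMap x y = P.toLinearMap x (d b') := by
  induction hx using Submodule.span_induction with
  | mem m hm => exact hy m hm b' (corners_subset_baseCorners F hb' hm)
  | zero => simp
  | add x z _ _ hx hz => rw [map_add, LinearMap.add_apply, LinearMap.add_apply, hx, hz]
  | smul c x _ hx => rw [map_smul, LinearMap.smul_apply, LinearMap.smul_apply, hx]

/-- The numerical invariant in terms of a point of the locus of `y(F)`. -/
lemma numInv_eq_card_mul (d : P.Base → N) (F : Facet P) {b : P.Base} (hb : b ∈ F.cham)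
    (j : b.support) (hj : F.sgn j = 1) {b' : P.Base} (hb' : b' ∈ F.cham) {y : N}
    (hy1 : ∀ m ∈ F.corners, y ∈ hyper d m) (hy2 : y ∈ Submodule.span R F.dualCarrier) :
    F.numInv d (fundWeight b j) b' =
      ((Set.toFinite (F.Psi (fundWeight b j))).toFinset.card : R) * P.root' (j : ι) y := by
  have hm : fundWeight b j ∈ F.corners := by
    rw [corners_eq F hb]; exact ⟨j, hj, rfl⟩
  have h1 := pairing_eq_of_mem_hyper d F hb' hy1 (sum_Psi_mem_span F _ hm)
  rw [map_sum, LinearMap.sum_apply, LinearMap.sum_apply] at h1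
  have h2 : ∑ i ∈ (Set.toFinite (F.Psi (fundWeight b j))).toFinset, P.toLinearMap (P.root i) y =
      ∑ _i ∈ (Set.toFinite (F.Psi (fundWeight b j))).toFinset, P.root' (j : ι) y :=
    Finset.sum_congr rfl fun i hi =>
      root'_eq_of_mem_Psi F hb j ((Set.Finite.mem_toFinset _).mp hi) hy2
  rw [Finset.sum_const, nsmul_eq_mul] at h2
  exact h1.symm.trans h2

lemma card_Psi_pos (F : Facet P) {b : P.Base} (hb : b ∈ F.cham) (j : b.support) :
    (0 : R) < ((Set.toFinite (F.Psi (fundWeight b j))).toFinset.card : R) := by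
  rw [Nat.cast_pos, Finset.card_pos]
  exact ⟨j, (Set.Finite.mem_toFinset _).mpr (self_mem_Psi F hb j)⟩

/-- **S14243**. -/
theorem numInv_pos_and_iff_isSpecial (d : P.Base → N) (hd : IsCCS d) (F : Facet P) :
    ((∀ m ∈ F.corners, ∀ b ∈ F.cham, 0 < F.numInv d m b) ∧
        (dualSolid d F ∩ (Submodule.span R F.dualCarrier : Set N)).Nonempty) ↔
      IsSpecial d F := by
  obtain ⟨b, hb⟩ := exists_mem_cham F
  constructor
  · rintro ⟨hS1, y, hy⟩
    have hyL := inter_subset_yLocus d hd F hy
    have hy1 : ∀ m ∈ F.corners, y ∈ hyper d m := fun m hm => by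
      have := hyL.1
      simp only [Set.mem_iInter] at this
      exact this m hm
    refine ⟨y, ?_, hy.1⟩
    rw [mem_dualCarrier_iff F hb]
    have hpos : ∀ j : b.support, F.sgn j = 1 → 0 < P.root' (j : ι) y := by
      intro j hj
      have hm : fundWeight b j ∈ F.corners := by
        rw [corners_eq F hb]; exact ⟨j, hj, rfl⟩
      have h1 := hS1 _ hm b hb
      rw [numInv_eq_card_mul d F hb j hj hb hy1 hy.2] at h1
      exact (mul_pos_iff_of_pos_left (card_Psi_pos F hb j)).mp h1
    refine ⟨fun k hk => ?_, fun k => ?_⟩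
    · rcases signType_cases (F.sgn k) with h | h | h
      · exact (root'_eq_zero_of_mem_span F h hy.2).ge
      · exact (hpos ⟨k, hk⟩ h).le
      · exact absurd h ((mem_cham_iff F b).mp hb k hk)
    · constructor
      · intro h
        rcases signType_cases (F.sgn k) with h' | h' | h'
        · rw [root'_eq_zero_of_mem_span F h' hy.2] at h
          exact absurd h (lt_irrefl _)
        · exact h'
        · exact absurd h' ((mem_cham_iff F b).mp hb k k.2)
      · exact hpos k
  · rintro ⟨y, hy1, hy2⟩
    have hyS : y ∈ Submodule.span R F.dualCarrier := Submodule.subset_span hy1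
    refine ⟨fun m hm b' hb' => ?_, ⟨y, hy2, hyS⟩⟩
    have hm' := hm
    rw [corners_eq F hb] at hm'
    obtain ⟨j, hj, rfl⟩ := hm'
    rw [numInv_eq_card_mul d F hb j hj hb'
      (fun m hm => mem_hyper_of_mem_dualSolid d hd F hm hy2) hyS]
    exact mul_pos (card_Psi_pos F hb j) (((mem_dualCarrier_iff F hb y).mp hy1).2 j |>.mpr hj)

end Groth.Agent.Lib.RootChM_helper8
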