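import Groth.Agent.Lib.RootChM_helper8
import Mathlib.Data.Sign.Basic

set_option autoImplicit false

/-!
# Chambers of a root system, XIV: adjacent chambers, global convexity of a complementary convex
solid, the special facet has maximal degree (helper8)
-/

namespace Groth.Agent.Lib.RootChN_helper8

open RootCh Set RootPairing Groth.Agent.Lib.RootChA_helper8 Groth.Agent.Lib.RootChB_helper8
  Groth.Agent.Lib.RootChC_helper8 Groth.Agent.Lib.RootChD_helper8
  Groth.Agent.Lib.RootChE_helper8 Groth.Agent.Lib.RootChF_helper8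
  Groth.Agent.Lib.RootChG_helper8
  Groth.Agent.Lib.RootChH_helper8 Groth.Agent.Lib.RootChI_helper8
  Groth.Agent.Lib.RootChJ_helper8 Groth.Agent.Lib.RootChK_helper8
  Groth.Agent.Lib.RootChL_helper8 Groth.Agent.Lib.RootChM_helper8
open scoped Classical

variable {ι R M N : Type*} [Field R] [LinearOrder R] [IsStrictOrderedRing R]
  [AddCommGroup M] [Module R M] [AddCommGroup N] [Module R N] [Finite ι]
  {P : RootPairing ι R M N} [P.IsRootSystem] [P.IsCrystallographic] [P.IsReduced]

/-! ### Positivity in terms of a regular vector -/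

lemma coroot'_pos_of_isPos (b : P.Base) {ξ : M} (hξ : ∀ j ∈ b.support, 0 < P.coroot' j ξ)
    {i : ι} (hi : b.IsPos i) : 0 < P.coroot' i ξ := by
  have hξ' : ξ ∈ closedChamber b := fun j hj => (hξ j hj).le
  rw [coroot'_pos_iff b hξ' hi]
  by_contra hcon
  have hz : ∀ j : b.support, cC b i j = 0 := fun j => by
    by_contra hne
    have hpos : 0 < cC b i j := lt_of_le_of_ne (cC_nonneg b hi j) (Ne.symm hne)
    exact hcon ⟨j, hpos, hξ j j.2⟩
  have h2 : P.coroot' i (P.root i) = 0 := by
    rw [coroot'_eq_sum b i (P.root i)]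
    exact Finset.sum_eq_zero fun j _ => by rw [hz j, zero_mul]
  have h3 : P.coroot' i (P.root i) = 2 := P.root_coroot_two i
  rw [h3] at h2
  exact two_ne_zero h2

lemma isPos_iff_coroot'_pos (b : P.Base) {ξ : M} (hξ : ∀ j ∈ b.support, 0 < P.coroot' j ξ)
    (i : ι) : b.IsPos i ↔ 0 < P.coroot' i ξ := by
  constructor
  · exact coroot'_pos_of_isPos b hξ
  · intro h
    by_contra hi
    have h1 := coroot'_pos_of_isPos b hξ (isPos_neg_of_not_isPos b hi)
    rw [coroot'_neg_idx] at h1
    linarith

lemma not_isPos_neg_of_isPos (b : P.Base) {i : ι} (hi : b.IsPos i) :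
    ¬ b.IsPos (P.reflectionPerm i i) := by
  have h2 : b.height (P.reflectionPerm i i) = - b.height i := b.height_reflectionPerm_self i
  rw [RootPairing.Base.isPos_iff] at hi ⊢
  omega

lemma regular_rho (b : P.Base) :
    ∀ j ∈ b.support, 0 < P.coroot' j (∑ k : b.support, fundWeight b k) := by
  intro j hj
  have h : P.coroot' j (∑ k : b.support, fundWeight b k) = 1 := by
    have h1 := coroot'_sum_fundWeight b Finset.univ ⟨j, hj⟩
    rw [if_pos (Finset.mem_univ _)] at h1
    exact h1
  rw [h]
  exact one_pos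

/-! ### The adjacent chamber across a wall -/

/-- The base obtained by reflecting `b` in the root `a`. -/
noncomputable def adjBase (b : P.Base) (a : ι) : P.Base := wordBase [a] b

lemma mem_support_adjBase (b : P.Base) (a : ι) (j : ι) :
    j ∈ (adjBase b a).support ↔ ∃ i ∈ b.support, P.reflectionPerm a i = j := by
  unfold adjBase
  rw [mem_support_wordBase]
  simp

lemma isPos_adjBase_iff (b : P.Base) (a : ι) (k : ι) :
    (adjBase b a).IsPos k ↔ b.IsPos (P.reflectionPerm a k) := by
  have hreg : ∀ j ∈ (adjBase b a).support,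
      0 < P.coroot' j (P.reflection a (∑ l : b.support, fundWeight b l)) := by
    intro j hj
    rw [mem_support_adjBase] at hj
    obtain ⟨i, hi, rfl⟩ := hj
    rw [P.coroot'_reflection, P.reflectionPerm_self]
    exact regular_rho b i hi
  rw [isPos_iff_coroot'_pos _ hreg, P.coroot'_reflection, ← isPos_iff_coroot'_pos b (regular_rho b)]

lemma isPos_and_not_isPos_adjBase_iff (b : P.Base) {a : ι} (ha : a ∈ b.support) (j : ι) :
    (b.IsPos j ∧ ¬ (adjBase b a).IsPos j) ↔ j = a := by
  rw [isPos_adjBase_iff]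
  constructor
  · rintro ⟨h1, h2⟩
    by_contra hja
    exact h2 (h1.reflectionPerm ha hja)
  · rintro rfl
    exact ⟨b.isPos_of_mem_support ha, not_isPos_neg_of_isPos b (b.isPos_of_mem_support ha)⟩

lemma fundWeight_mem_baseCorners_adjBase (b : P.Base) {a : ι} (ha : a ∈ b.support)
    (j : b.support) (hja : (j : ι) ≠ a) : fundWeight b j ∈ baseCorners (adjBase b a) := by
  refine ⟨fundWeight_mem_fundWeights b j, fun k hk => ?_⟩
  rw [mem_support_adjBase] at hk
  obtain ⟨i, hi, rfl⟩ := hk
  rw [← P.coroot'_reflection, P.reflection_apply]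
  have h0 : P.coroot' a (fundWeight b j) = 0 := by
    have h1 : P.coroot' a (fundWeight b j) = if (⟨a, ha⟩ : b.support) = j then 1 else 0 :=
      coroot'_fundWeight b j ⟨a, ha⟩
    rw [if_neg (fun h => hja (congrArg Subtype.val h).symm)] at h1
    exact h1
  rw [h0, zero_smul, sub_zero]
  have h1 : P.coroot' i (fundWeight b j) = if (⟨i, hi⟩ : b.support) = j then 1 else 0 :=
    coroot'_fundWeight b j ⟨i, hi⟩
  rw [h1]
  split_ifs
  · exact zero_le_one
  · exact le_rfl

lemma ncard_inter_adjBase (b : P.Base) {a : ι} (ha : a ∈ b.support) :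
    (baseCorners b ∩ baseCorners (adjBase b a)).ncard + 1 = b.support.card := by
  have h1 : baseCorners b ∩ baseCorners (adjBase b a) =
      fundWeight b '' ((Set.univ : Set b.support) \ {⟨a, ha⟩}) := by
    ext m
    constructor
    · rintro ⟨hm1, hm2⟩
      rw [baseCorners_eq_range] at hm1
      obtain ⟨j, rfl⟩ := hm1
      refine ⟨j, ⟨Set.mem_univ _, ?_⟩, rfl⟩
      intro hja
      have hja' : j = ⟨a, ha⟩ := hja
      have hk : P.reflectionPerm a a ∈ (adjBase b a).support :=
        (mem_support_adjBase b a _).mpr ⟨a, ha, rfl⟩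
      have h2 := hm2.2 _ hk
      rw [coroot'_neg_idx] at h2
      have h3 : P.coroot' a (fundWeight b j) = 1 := by
        have h4 : P.coroot' a (fundWeight b j) = if (⟨a, ha⟩ : b.support) = j then 1 else 0 :=
          coroot'_fundWeight b j ⟨a, ha⟩
        rw [if_pos hja'.symm] at h4
        exact h4
      rw [h3] at h2
      linarith
    · rintro ⟨j, ⟨-, hj⟩, rfl⟩
      refine ⟨by rw [baseCorners_eq_range]; exact ⟨j, rfl⟩,
        fundWeight_mem_baseCorners_adjBase b ha j ?_⟩
      intro h
      exact hj (Subtype.ext h)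
  rw [h1, Set.ncard_image_of_injective _ (fundWeight_injective b),
    Set.ncard_sdiff_singleton_add_one (Set.mem_univ _), Set.ncard_univ, Nat.card_eq_fintype_card,
    Fintype.card_coe]

omit [LinearOrder R] [IsStrictOrderedRing R] [Finite ι] [P.IsCrystallographic] [P.IsReduced] in
/-- Expansion of a pairing in the fundamental weights. -/
lemma pairing_expand (b : P.Base) (m : M) (x : N) :
    P.toLinearMap m x =
      ∑ j : b.support, P.coroot' (j : ι) m * P.toLinearMap (fundWeight b j) x := by
  have hm := eq_sum_fundWeight b m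
  have h1 : P.toLinearMap m x =
      P.toLinearMap (∑ j : b.support, P.coroot' (j : ι) m • fundWeight b j) x := by
    rw [← hm]
  rw [h1, map_sum, LinearMap.sum_apply]
  refine Finset.sum_congr rfl fun j _ => ?_
  rw [map_smul, LinearMap.smul_apply, smul_eq_mul]

lemma pairing_sub_adjBase (d : P.Base → N) (hd : IsCCS d) (b : P.Base) {a : ι}
    (ha : a ∈ b.support) (m : M) :
    P.toLinearMap m (d (adjBase b a)) - P.toLinearMap m (d b) =
      P.coroot' a m * (P.toLinearMap (fundWeight b ⟨a, ha⟩) (d (adjBase b a)) -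
        P.toLinearMap (fundWeight b ⟨a, ha⟩) (d b)) := by
  rw [pairing_expand b m (d (adjBase b a)), pairing_expand b m (d b), ← Finset.sum_sub_distrib,
    Finset.sum_eq_single ⟨a, ha⟩]
  · ring
  · intro j _ hja
    have hja' : (j : ι) ≠ a := fun h => hja (Subtype.ext h)
    have hc := hd.corner_eq b (adjBase b a) (fundWeight b j)
      (by rw [baseCorners_eq_range]; exact ⟨j, rfl⟩)
      (fundWeight_mem_baseCorners_adjBase b ha j hja')
    rw [hc, sub_self]
  · intro h
    exact absurd (Finset.mem_univ _) h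

/-- Crossing a wall towards `m` does not increase the pairing of `m` with `d`. -/
lemma pairing_adjBase_le (d : P.Base → N) (hd : IsCCS d) (b : P.Base) {a : ι}
    (ha : a ∈ b.support) {m : M} (hm : P.coroot' a m ≤ 0) :
    P.toLinearMap m (d (adjBase b a)) ≤ P.toLinearMap m (d b) := by
  have h1 := pairing_sub_adjBase d hd b ha m
  have h2 := pairing_sub_adjBase d hd b ha (P.root a)
  have h3 : P.coroot' a (P.root a) = 2 := P.root_coroot_two a
  have h4 : P.toLinearMap (P.root a) (d b) ≤ P.toLinearMap (P.root a) (d (adjBase b a)) :=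
    hd.wall_le b (adjBase b a) a (ncard_inter_adjBase b ha)
      (fun j => isPos_and_not_isPos_adjBase_iff b ha j)
  rw [h3] at h2
  have hX : 0 ≤ P.toLinearMap (fundWeight b ⟨a, ha⟩) (d (adjBase b a)) -
      P.toLinearMap (fundWeight b ⟨a, ha⟩) (d b) := by linarith
  have h5 := mul_nonpos_of_nonpos_of_nonneg hm hX
  linarith

/-- **Global convexity**: a corner of a chamber pairs minimally with the value of `d` at this
chamber. -/
theorem pairing_le_of_mem_baseCorners (d : P.Base → N) (hd : IsCCS d) {b₀ : P.Base} {m : M}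
    (hm : m ∈ baseCorners b₀) (b : P.Base) :
    P.toLinearMap m (d b₀) ≤ P.toLinearMap m (d b) := by
  generalize hn : {i | b.IsPos i ∧ P.coroot' i m < 0}.ncard = n
  induction n using Nat.strong_induction_on generalizing b with
  | _ n ih =>
    by_cases hcl : m ∈ closedChamber b
    · exact (hd.corner_eq b₀ b m hm ⟨hm.1, hcl⟩).le
    · have hex : ∃ a ∈ b.support, P.coroot' a m < 0 := by
        by_contra hcon
        apply hcl
        intro j hj
        by_contra hneg
        exact hcon ⟨j, hj, not_le.mp hneg⟩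
      obtain ⟨a, ha, ham⟩ := hex
      have hlt : {i | (adjBase b a).IsPos i ∧ P.coroot' i m < 0}.ncard < n := by
        rw [← hn]
        apply Set.ncard_lt_ncard _ (Set.toFinite _)
        rw [Set.ssubset_def]
        constructor
        · rintro i ⟨hi1, hi2⟩
          refine ⟨?_, hi2⟩
          by_contra hni
          have h1 := isPos_neg_of_not_isPos b hni
          have h2 : ¬ (adjBase b a).IsPos (P.reflectionPerm i i) := not_isPos_neg_of_isPos _ hi1
          have h3 := (isPos_and_not_isPos_adjBase_iff b ha _).mp ⟨h1, h2⟩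
          have h4 : P.coroot' i m = - P.coroot' a m := by
            rw [← h3, coroot'_neg_idx, neg_neg]
          linarith
        · intro hsub
          have h1 : a ∈ {i | b.IsPos i ∧ P.coroot' i m < 0} :=
            ⟨b.isPos_of_mem_support ha, ham⟩
          have h2 := hsub h1
          exact ((isPos_and_not_isPos_adjBase_iff b ha a).mpr rfl).2 h2.1
      have h1 := ih _ hlt (adjBase b a) rfl
      exact h1.trans (pairing_adjBase_le d hd b ha ham.le)

/-! ### Consequences for the solid -/

omit [Finite ι] [P.IsRootSystem] [P.IsCrystallographic] [P.IsReduced] in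
lemma le_pairing_of_mem_convexHull {S : Set N} (m : M) (c : R)
    (h : ∀ s ∈ S, c ≤ P.toLinearMap m s) {y : N} (hy : y ∈ convexHull R S) :
    c ≤ P.toLinearMap m y := by
  have hconv : Convex R {x : N | c ≤ P.toLinearMap m x} := by
    intro x hx z hz a e ha he hae
    simp only [Set.mem_ofPred_eq] at hx hz ⊢
    rw [map_add, map_smul, map_smul, smul_eq_mul, smul_eq_mul]
    calc c = a * c + e * c := by rw [← add_mul, hae, one_mul]
      _ ≤ a * P.toLinearMap m x + e * P.toLinearMap m z :=
        add_le_add (mul_le_mul_of_nonneg_left hx ha) (mul_le_mul_of_nonneg_left hz he)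
  exact convexHull_min h hconv hy

lemma pairing_le_of_mem_solid (d : P.Base → N) (hd : IsCCS d) {c : P.Base} {m : M}
    (hm : m ∈ baseCorners c) {y : N} (hy : y ∈ solid d) :
    P.toLinearMap m (d c) ≤ P.toLinearMap m y := by
  apply le_pairing_of_mem_convexHull m _ _ hy
  rintro _ ⟨b, rfl⟩
  exact pairing_le_of_mem_baseCorners d hd hm b

lemma pairing_le_of_mem_closedChamber (d : P.Base → N) (hd : IsCCS d) {c : P.Base} {ξ : M}
    (hξ : ξ ∈ closedChamber c) {y : N} (hy : y ∈ solid d) :
    P.toLinearMap ξ (d c) ≤ P.toLinearMap ξ y := by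
  rw [pairing_expand c ξ (d c), pairing_expand c ξ y]
  apply Finset.sum_le_sum
  intro j _
  apply mul_le_mul_of_nonneg_left _ (hξ j j.2)
  exact pairing_le_of_mem_solid d hd
    (by rw [baseCorners_eq_range]; exact ⟨j, rfl⟩) hy

omit [Finite ι] [P.IsCrystallographic] [P.IsReduced] in
lemma dualSolid_subset_solid (d : P.Base → N) (F : Facet P) : dualSolid d F ⊆ solid d :=
  convexHull_mono (Set.image_subset_range d _)

/-! ### Degrees -/

lemma deg_eq_pairing (d : P.Base → N) (G : Facet P) (c : P.Base) :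
    G.deg d c = P.toLinearMap (∑ i ∈ (Set.toFinite G.parab).toFinset, P.root i) (d c) := by
  rw [map_sum, LinearMap.sum_apply]
  rfl

lemma pairing_rho_eq [Fintype ι] (G : Facet P) (y : N) :
    P.toLinearMap (∑ i ∈ (Set.toFinite G.parab).toFinset, P.root i) y =
      ∑ i, if G.sgn i ≠ -1 then P.root' i y else 0 := by
  have hT : (Set.toFinite G.parab).toFinset = Finset.univ.filter (fun i => G.sgn i ≠ -1) := by
    ext i
    rw [Set.Finite.mem_toFinset, Finset.mem_filter]
    simp [Facet.parab]
  rw [hT, Finset.sum_filter, map_sum, LinearMap.sum_apply]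
  refine Finset.sum_congr rfl fun i _ => ?_
  split_ifs
  · rfl
  · rw [map_zero, LinearMap.zero_apply]

/-- **S14248**: the special facet has maximal degree and is the largest facet of maximal degree. -/
theorem isGreatest_of_isSpecial (d : P.Base → N) (hd : IsCCS d) (F : Facet P) (b : P.Base)
    (hb : b ∈ F.cham) (hF : IsSpecial d F) :
    (∀ (G : Facet P) (c : P.Base), c ∈ G.cham → G.deg d c ≤ F.deg d b) ∧
      ∀ (G : Facet P) (c : P.Base), c ∈ G.cham → G.deg d c = F.deg d b → G ≤ F := by
  have : Fintype ι := Fintype.ofFinite ι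
  obtain ⟨y₀, hy1, hy2⟩ := hF
  have hyS : y₀ ∈ solid d := dualSolid_subset_solid d F hy2
  -- the degree of `F` in terms of `y₀`
  have hF1 : F.deg d b = ∑ i, if F.sgn i ≠ -1 then P.root' i y₀ else 0 := by
    rw [deg_eq_pairing, ← pairing_rho_eq]
    have hspan : (∑ i ∈ (Set.toFinite F.parab).toFinset, P.root i) ∈
        Submodule.span R F.corners := by
      rw [← span_carrier_eq_span_corners]
      exact Submodule.subset_span (sum_parab_mem_carrier F)
    exact (pairing_eq_of_mem_hyper d F hb
      (fun m hm => mem_hyper_of_mem_dualSolid d hd F hm hy2) hspan).symm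
  -- the degree of `G` is bounded in terms of `y₀`
  have hG1 : ∀ (G : Facet P) (c : P.Base), c ∈ G.cham →
      G.deg d c ≤ ∑ i, if G.sgn i ≠ -1 then P.root' i y₀ else 0 := by
    intro G c hc
    rw [deg_eq_pairing, ← pairing_rho_eq]
    exact pairing_le_of_mem_closedChamber d hd (hc (sum_parab_mem_carrier G)) hyS
  -- termwise comparison
  have hsgn : ∀ i, F.sgn i = SignType.sign (P.root' i y₀) := fun i => (congrFun hy1 i).symm
  have hterm : ∀ (G : Facet P) (i : ι), (if G.sgn i ≠ -1 then P.root' i y₀ else 0) ≤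
      (if F.sgn i ≠ -1 then P.root' i y₀ else 0) := by
    intro G i
    by_cases hFi : F.sgn i = -1
    · have hneg : P.root' i y₀ < 0 := by
        rw [hsgn i] at hFi
        exact sign_eq_neg_one_iff.mp hFi
      rw [if_neg (not_not.mpr hFi)]
      split_ifs
      · exact hneg.le
      · exact le_rfl
    · have hnn : 0 ≤ P.root' i y₀ := by
        rw [hsgn i] at hFi
        by_contra hlt
        exact hFi (sign_eq_neg_one_iff.mpr (not_le.mp hlt))
      rw [if_pos hFi]
      split_ifs
      · exact le_rfl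
      · exact hnn
  refine ⟨fun G c hc => ?_, fun G c hc hdeg => ?_⟩
  · rw [hF1]
    exact (hG1 G c hc).trans (Finset.sum_le_sum fun i _ => hterm G i)
  · rw [le_iff_parab_subset]
    have hsum : (∑ i, if G.sgn i ≠ -1 then P.root' i y₀ else 0) =
        ∑ i, if F.sgn i ≠ -1 then P.root' i y₀ else 0 := by
      apply le_antisymm (Finset.sum_le_sum fun i _ => hterm G i)
      rw [← hF1, ← hdeg]
      exact hG1 G c hc
    have hall := (Finset.sum_eq_sum_iff_of_le (fun i _ => hterm G i)).mp hsum
    intro i hi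
    change F.sgn i ≠ -1
    change G.sgn i ≠ -1 at hi
    intro hFi
    have h1 := hall i (Finset.mem_univ i)
    rw [if_pos hi, if_neg (not_not.mpr hFi)] at h1
    have hneg : P.root' i y₀ < 0 := by
      rw [hsgn i] at hFi
      exact sign_eq_neg_one_iff.mp hFi
    linarith

/-! ### The minimal vector of the solid -/

omit [LinearOrder R] [IsStrictOrderedRing R] [Finite ι] [P.IsRootSystem] [P.IsCrystallographic]
  [P.IsReduced] in
lemma bilin_coroot_left (B : LinearMap.BilinForm R N)
    (hBi : ∀ (i : ι) (y z : N), B (P.coreflection i y) (P.coreflection i z) = B y z)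
    (i : ι) (x : N) :
    2 * B (P.coroot i) x = P.root' i x * B (P.coroot i) (P.coroot i) := by
  have h := hBi i (P.coroot i) x
  rw [P.coreflection_apply_self, P.coreflection_apply, map_neg, LinearMap.neg_apply, map_sub,
    map_smul, smul_eq_mul] at h
  linear_combination (-1 : R) * h

/-- The vector of `M` representing `B y₀` lies in the facet whose dual facet contains `y₀`. -/
lemma mem_carrier_of_repr (B : LinearMap.BilinForm R N) (hBs : ∀ y z : N, B y z = B z y)
    (hBp : ∀ y : N, y ≠ 0 → 0 < B y y)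
    (hBi : ∀ (i : ι) (y z : N), B (P.coreflection i y) (P.coreflection i z) = B y z)
    (F : Facet P) {y₀ : N} (hy1 : y₀ ∈ F.dualCarrier) {ξ₀ : M}
    (hξ : P.toLinearMap ξ₀ = B y₀) : ξ₀ ∈ F.carrier := by
  change sgnVec P ξ₀ = F.sgn
  funext i
  have h1 : cosgnVec P y₀ i = F.sgn i := congrFun hy1 i
  rw [← h1]
  change SignType.sign (P.coroot' i ξ₀) = SignType.sign (P.root' i y₀)
  have hne : P.coroot i ≠ 0 := fun h => by
    have h2 := P.root_coroot_two i
    rw [h, map_zero] at h2
    exact two_ne_zero h2.symm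
  have hcc : 0 < B (P.coroot i) (P.coroot i) := hBp _ hne
  have e : P.coroot' i ξ₀ = (B (P.coroot i) (P.coroot i) / 2) * P.root' i y₀ := by
    have e1 : P.coroot' i ξ₀ = B y₀ (P.coroot i) := by
      change P.toLinearMap ξ₀ (P.coroot i) = _
      rw [hξ]
    rw [e1, hBs]
    have e2 := bilin_coroot_left B hBi i y₀
    field_simp
    linarith
  rw [e, sign_mul, sign_pos (half_pos hcc), one_mul]

/-- **S14244**. -/
theorem exists_yLocus_eq_and_min (d : P.Base → N) (hd : IsCCS d)
    (B : LinearMap.BilinForm R N) (hBs : ∀ y z : N, B y z = B z y)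
    (hBp : ∀ y : N, y ≠ 0 → 0 < B y y)
    (hBi : ∀ (i : ι) (y z : N), B (P.coreflection i y) (P.coreflection i z) = B y z)
    (F : Facet P) (hF : IsSpecial d F) :
    ∃ y₀ : N, yLocus d F = {y₀} ∧ y₀ ∈ solid d ∧
      ∀ y ∈ solid d, y ≠ y₀ → B y₀ y₀ < B y y := by
  obtain ⟨y₀, hyL, hyI⟩ := exists_yLocus_eq d hd F hF
  have hy0 : y₀ ∈ F.dualCarrier ∩ dualSolid d F := by
    rw [hyI]; exact rfl
  obtain ⟨hy1, hy2⟩ := hy0
  obtain ⟨b, hb⟩ := exists_mem_cham F
  refine ⟨y₀, hyL, dualSolid_subset_solid d F hy2, fun y hy hne => ?_⟩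
  obtain ⟨ξ₀, hξ⟩ : ∃ ξ₀ : M, P.toLinearMap ξ₀ = B y₀ :=
    ⟨P.toPerfPair.symm (B y₀), P.toLinearMap.apply_symm_toPerfPair_self _⟩
  have hξF : ξ₀ ∈ F.carrier := mem_carrier_of_repr B hBs hBp hBi F hy1 hξ
  have h1 : P.toLinearMap ξ₀ (d b) ≤ P.toLinearMap ξ₀ y :=
    pairing_le_of_mem_closedChamber d hd (hb hξF) hy
  have hspan : ξ₀ ∈ Submodule.span R F.corners := by
    rw [← span_carrier_eq_span_corners]
    exact Submodule.subset_span hξF
  have h2 : P.toLinearMap ξ₀ y₀ = P.toLinearMap ξ₀ (d b) :=
    pairing_eq_of_mem_hyper d F hb (fun m hm => mem_hyper_of_mem_dualSolid d hd F hm hy2) hspan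
  rw [← h2, hξ] at h1
  have h3 : 0 < B (y - y₀) (y - y₀) := hBp _ (sub_ne_zero.mpr hne)
  have h4 : B (y - y₀) (y - y₀) = B y y - 2 * B y₀ y + B y₀ y₀ := by
    simp only [map_sub, LinearMap.sub_apply]
    rw [hBs y y₀]
    ring
  linarith

end Groth.Agent.Lib.RootChN_helper8
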